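import Mathlib
import Groth.Prelude.Def_ModSite
import Groth.Prelude.Def_FlatMod2
import Groth.Agent.Lib.Helper21Dual12
import Groth.Agent.Lib.Helper21Dual9
import Groth.Agent.Lib.Helper26FlatLimC

/-!
# T2H9FFFlat: a module with a finite free structure over a module flat over the base is flat over the base (helper9)

Namespace `Groth.Agent.Lib.T2H9.FFFlat`.

* `stalkHom_add`, `stalkHom_zero`, `stalkHom_sum`: additivity of the stalk map in the morphism.
* `stalkLinOver`: the stalk map of a morphism of modules, linear over the local ring of the base.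
* `isFlatOverAt_of_FF`: if `Q` has a finite free structure over `F` (`Q ≅ F^I`) and `F` is flat over `S` at `x`, so is `Q`.
-/

set_option autoImplicit false
set_option linter.style.haveILetI false
set_option linter.unusedVariables false
universe u

namespace Groth.Agent.Lib.T2H9.FFFlat

open CategoryTheory MonoidalCategory Opposite Limits AlgebraicGeometry
open Groth.Agent.Lib.Helper21.Dual Groth.Agent.Lib.Helper21.LocFact
open Groth.Agent.Lib.Helper4.NormDelta Groth.Agent.Lib.Helper26.FlatLim

variable {X S : Scheme.{u}}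

theorem stalkHom_add {F G : X.Modules} (φ ψ : F ⟶ G) (x : X) (m : F.presheaf.stalk x) :
    stalkHom (φ + ψ) x m = stalkHom φ x m + stalkHom ψ x m := by
  obtain ⟨V, hxV, t, rfl⟩ := F.presheaf.exists_germ_eq m
  rw [stalkHom_germ, stalkHom_germ, stalkHom_germ, Scheme.Modules.Hom.add_app]
  exact map_add _ _ _

theorem stalkHom_zero {F G : X.Modules} (x : X) (m : F.presheaf.stalk x) :
    stalkHom (0 : F ⟶ G) x m = 0 := by
  obtain ⟨V, hxV, t, rfl⟩ := F.presheaf.exists_germ_eq m
  rw [stalkHom_germ, Scheme.Modules.Hom.zero_app]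
  exact map_zero _

theorem stalkHom_sum {F G : X.Modules} {I : Type*} (s : Finset I) (φ : I → (F ⟶ G)) (x : X)
    (m : F.presheaf.stalk x) :
    stalkHom (∑ i ∈ s, φ i) x m = ∑ i ∈ s, stalkHom (φ i) x m := by
  classical
  induction s using Finset.induction_on with
  | empty => simp only [Finset.sum_empty]; exact stalkHom_zero x m
  | insert a s ha ih =>
    rw [Finset.sum_insert ha, Finset.sum_insert ha, stalkHom_add, ih]

/-- the stalk map of a morphism of modules, linear over the local ring of the base -/
noncomputable def stalkLinOver (f : X ⟶ S) {F G : X.Modules} (φ : F ⟶ G) (x : X) :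
    letI := FlatMod.moduleStalkOver f F x
    letI := FlatMod.moduleStalkOver f G x
    F.presheaf.stalk x →ₗ[S.presheaf.stalk (f.base x)] G.presheaf.stalk x :=
  letI := FlatMod.moduleStalkOver f F x
  letI := FlatMod.moduleStalkOver f G x
  { toFun := stalkLin φ x
    map_add' := map_add _
    map_smul' := fun r m => (stalkLin φ x).map_smul ((f.stalkMap x).hom r) m }

/-- a module with a finite free structure over a module flat over the base is flat over the base -/
theorem isFlatOverAt_of_FF (f : X ⟶ S) {F Q : X.Modules} {I : Type} [Fintype I]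
    (ff : FF F Q I) (x : X) (h : FlatMod.IsFlatOverAt f F x) : FlatMod.IsFlatOverAt f Q x := by
  classical
  unfold FlatMod.IsFlatOverAt at h ⊢
  letI := FlatMod.moduleStalkOver f F x
  letI := FlatMod.moduleStalkOver f Q x
  haveI : Module.Flat (S.presheaf.stalk (f.base x)) (F.presheaf.stalk x) := h
  haveI : Module.Flat (S.presheaf.stalk (f.base x)) (I → F.presheaf.stalk x) :=
    Module.Flat.of_linearEquiv
      (DirectSum.linearEquivFunOnFintype (S.presheaf.stalk (f.base x)) I
        (fun _ => F.presheaf.stalk x)).symm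
  let i : Q.presheaf.stalk x →ₗ[S.presheaf.stalk (f.base x)] (I → F.presheaf.stalk x) :=
    LinearMap.pi (fun j => stalkLinOver f (ff.π j) x)
  let r : (I → F.presheaf.stalk x) →ₗ[S.presheaf.stalk (f.base x)] Q.presheaf.stalk x :=
    ∑ j, (stalkLinOver f (ff.ι j) x).comp (LinearMap.proj j)
  refine Module.Flat.of_retract i r ?_
  ext q
  change (∑ j, (stalkLinOver f (ff.ι j) x).comp (LinearMap.proj j)) (i q) = q
  rw [LinearMap.sum_apply]
  change ∑ j, stalkHom (ff.ι j) x (stalkHom (ff.π j) x q) = q
  have h1 : ∀ j ∈ Finset.univ, stalkHom (ff.ι j) x (stalkHom (ff.π j) x q) =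
      stalkHom (ff.π j ≫ ff.ι j) x q := fun j _ => stalkHom_comp _ _ x q
  rw [Finset.sum_congr rfl h1, ← stalkHom_sum, ff.sum, stalkHom_id]

end Groth.Agent.Lib.T2H9.FFFlat
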