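import Mathlib
import Groth.Agent.Lib.T2H5FibReg
import Groth.Agent.Lib.T2H5RegPush
import Groth.Agent.Lib.T2H5ResPropAff
import Groth.Agent.Lib.Helper1FLF1
import Groth.Agent.Lib.Helper21Dual12
import Groth.Agent.Lib.Helper21Dual9
import Groth.Agent.Lib.Helper26FlatLimC
import Groth.Agent.Lib.T2H9FFFlat

/-!
# T2H9FFFlat2: tensoring with a finite locally free module preserves flatness over the base (helper9)

Namespace `Groth.Agent.Lib.T2H9.FFFlat`.

* `ffTensorFree`: `G ⊗ O^n` has a finite free structure over `G`.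
* `isFlatOver_tensor_of_isFinLocFree`: `F` flat over `S`, `D` finite locally free ⟹ `F ⊗ D` flat over `S`.
-/

set_option autoImplicit false
set_option linter.style.haveILetI false
set_option linter.unusedVariables false
universe u

namespace Groth.Agent.Lib.T2H9.FFFlat

open CategoryTheory MonoidalCategory Opposite Limits AlgebraicGeometry
open Groth.Agent.Lib.Helper21.Dual Groth.Agent.Lib.Helper21.LocFact
open Groth.Agent.Lib.Helper21.ModTensor3 Groth.Agent.Lib.Helper21.ModTensor5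
  Groth.Agent.Lib.Helper21.ModTensor7

variable {X S : Scheme.{u}}

/-- `G ⊗ O^n` has a finite free structure over `G` -/
noncomputable def ffTensorFree (G : X.Modules) (n : ℕ) :
    FF G (CohB1.tensorMod G (FlatMod.freeMod X n)) (Fin n) := by
  let A : ModSite.Mod X.sheaf := G
  have e1 : (tL X.sheaf A).obj (∐ fun _ : Fin n => ModSite.unit X.sheaf) ≅
      ∐ fun _ : Fin n => (tL X.sheaf A).obj (ModSite.unit X.sheaf) :=
    PreservesCoproduct.iso (tL X.sheaf A) (fun _ : Fin n => ModSite.unit X.sheaf)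
  have e2 : (tL X.sheaf A).obj (ModSite.unit X.sheaf) ≅ A :=
    ((brd X.sheaf).app A).app (ModSite.unit X.sheaf) ≪≫ (tLUnitIso X.sheaf).app A
  exact ffOfIso (ffSigma A (Fin n)) (e1 ≪≫ Sigma.mapIso (fun _ => e2)).symm

/-- tensoring with a finite locally free module preserves flatness over the base -/
theorem isFlatOver_tensor_of_isFinLocFree (f : X ⟶ S) (F D : X.Modules) [F.IsQuasicoherent]
    (hD : FlatMod.IsFinLocFree D) (hfl : FlatMod.IsFlatOver f F) :
    FlatMod.IsFlatOver f (CohB1.tensorMod F D) := by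
  intro x
  obtain ⟨U, n, hxU, ⟨e⟩⟩ := hD x
  haveI : D.IsQuasicoherent := Groth.Agent.Lib.T2H5.ResPropAff.isQuasicoherent_of_isFinLocFree D hD
  haveI : (CohB1.tensorMod F D).IsQuasicoherent :=
    Groth.Agent.Lib.Helper23.TensorQCoh.isQuasicoherent_tensorMod F D
  let e1 : (Scheme.Modules.pullback U.ι).obj (CohB1.tensorMod F D) ≅
      CohB1.tensorMod ((Scheme.Modules.pullback U.ι).obj F) ((Scheme.Modules.pullback U.ι).obj D) :=
    Groth.Agent.Lib.Helper23.RestrTensor.pullbackTensorIso F D U.ι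
  let e2 : (Scheme.Modules.pullback U.ι).obj D ≅ FlatMod.freeMod (↑U) n :=
    ((Scheme.Modules.restrictFunctorIsoPullback U.ι).app D).symm ≪≫ e
  let e3 : CohB1.tensorMod ((Scheme.Modules.pullback U.ι).obj F) ((Scheme.Modules.pullback U.ι).obj D) ≅
      CohB1.tensorMod ((Scheme.Modules.pullback U.ι).obj F) (FlatMod.freeMod (↑U) n) :=
    Groth.Agent.Lib.Helper23.AmpleIso.tensorModIso (Iso.refl _) e2
  have h1 : FlatMod.IsFlatOverAt (U.ι ≫ f) ((Scheme.Modules.pullback U.ι).obj F) ⟨x, hxU⟩ :=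
    (Groth.Agent.Lib.T2H5.FibReg.isFlatOverAt_restrict_iff f F U ⟨x, hxU⟩).1 (hfl x)
  have h2 : FlatMod.IsFlatOverAt (U.ι ≫ f)
      ((Scheme.Modules.pullback U.ι).obj (CohB1.tensorMod F D)) ⟨x, hxU⟩ :=
    isFlatOverAt_of_FF (U.ι ≫ f)
      (ffOfIso (ffTensorFree ((Scheme.Modules.pullback U.ι).obj F) n) (e1 ≪≫ e3).symm) ⟨x, hxU⟩ h1
  exact (Groth.Agent.Lib.T2H5.FibReg.isFlatOverAt_restrict_iff f (CohB1.tensorMod F D) U ⟨x, hxU⟩).2 h2

end Groth.Agent.Lib.T2H9.FFFlat
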