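import Mathlib
import Groth.Prelude.Def_ModSite
import Groth.Agent.Lib.Helper21Dual12
import Groth.Agent.Lib.Helper21ModTensor7
import Groth.Agent.Lib.Helper21UnitHom
import Groth.Agent.Lib.T2H9BridgeH0
import Groth.Agent.Lib.T2H9LocFF
import Groth.Agent.Lib.T2H9FFFlat2
import Groth.Agent.Lib.T2H5FibReg
import Groth.Agent.Lib.T2H5RegPush

/-!
# T2H9DualHom: `Hom(E, N) ≅ Γ(X, N ⊗ E^∨)` for `E` finite locally free, and corepresentability of
`M ↦ Hom(G, f^*(M~) ⊗ F)` (helper9)

Namespace `Groth.Agent.Lib.T2H9.DualHom`.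

* `nonempty_iso_of_same_image`: two `Ab`-valued subfunctors of a functor with the same image are isomorphic.
* `map_smul_id_of_corep`, `exists_lift_natTrans`: corepresentable functors on `A`-modules are `A`-linear, and `Ab`-valued
  natural transformations between linear functors are `A`-linear.
* `unitTR`, `homDualEquiv`, `homDualIso`: `Hom(E, -) ≅ Hom(O, - ⊗ E^∨)` on a ringed site, for `E` locally finite free.
* `unitGammaIso`: `Hom(O_X, -) ≅ Γ(X, -)`.
* `tensorATensorIso`, `homTensorIso`: `Hom(E, f^*(M~) ⊗ F) ≅ Γ(X, f^*(M~) ⊗ (F ⊗ E^∨))` naturally in `M`.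
* `hom_into_tensor_corep` (**S4500**, EGA III 7.7.8): for `X` proper over a Noetherian ring `A`, `F` coherent flat over `A` and
  `G` with a presentation `E₁ → E₀ → G → 0` by finite locally free modules, `M ↦ Hom(G, f^*(M~) ⊗ F)` is corepresentable
  by a finitely generated `A`-module.
-/

set_option autoImplicit false
set_option linter.style.haveILetI false
set_option linter.unusedVariables false
universe u

namespace Groth.Agent.Lib.T2H9.DualHom

open CategoryTheory MonoidalCategory Opposite Limits AlgebraicGeometry Groth.Agent.Lib.T2H9.BridgeH0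
open Groth.Agent.Lib.Helper21.ModTensor Groth.Agent.Lib.Helper21.ModTensor2
  Groth.Agent.Lib.Helper21.ModTensor3 Groth.Agent.Lib.Helper21.ModTensor4
  Groth.Agent.Lib.Helper21.ModTensor5
  Groth.Agent.Lib.Helper21.ModTensor6 Groth.Agent.Lib.Helper21.ModTensor7
  Groth.Agent.Lib.Helper21.Dual

attribute [local instance] Groth.Agent.Lib.Helper21.ExtShDelta.hasSheafHom

section generic

variable {C : Type*} [Category C]

/-- two subfunctors (given by componentwise injective transformations) of an `Ab`-valued functor with the same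
image are isomorphic -/
theorem nonempty_iso_of_same_image {P Q T : C ⥤ AddCommGrpCat.{u}} (i : P ⟶ T) (j : Q ⟶ T)
    (hi : ∀ M, Function.Injective (i.app M).hom) (hj : ∀ M, Function.Injective (j.app M).hom)
    (h : ∀ (M : C) (x : T.obj M), (∃ p, (i.app M).hom p = x) ↔ ∃ q, (j.app M).hom q = x) :
    Nonempty (P ≅ Q) := by
  choose q hq using fun (M : C) (p : P.obj M) => (h M ((i.app M).hom p)).1 ⟨p, rfl⟩
  have hbij : ∀ M, Function.Bijective (q M) := by
    intro M
    constructor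
    · intro p p' hpp
      apply hi M
      rw [← hq M p, ← hq M p', hpp]
    · intro y
      obtain ⟨p, hp⟩ := (h M ((j.app M).hom y)).2 ⟨y, rfl⟩
      refine ⟨p, hj M ?_⟩
      rw [hq M p, hp]
  have hadd : ∀ M (p p' : P.obj M), q M (p + p') = q M p + q M p' := by
    intro M p p'
    apply hj M
    rw [map_add, hq, hq, hq, map_add]
  let e : ∀ M, P.obj M ≃+ Q.obj M := fun M =>
    { Equiv.ofBijective (q M) (hbij M) with map_add' := hadd M }
  refine ⟨NatIso.ofComponents (fun M => (e M).toAddCommGrpIso) ?_⟩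
  intro M N g
  ext p
  apply hj N
  change (j.app N).hom (q N ((P.map g).hom p)) = (j.app N).hom ((Q.map g).hom (q M p))
  rw [hq]
  have h1 := congrArg (fun φ => φ.hom p) (i.naturality g)
  have h2 := congrArg (fun φ => φ.hom (q M p)) (j.naturality g)
  simp only [AddCommGrpCat.hom_comp, AddMonoidHom.comp_apply] at h1 h2
  rw [h1, h2, hq]

end generic

section lin
variable {A : Type u} [CommRing A]

/-- a corepresentable functor on modules is linear -/
theorem map_smul_id_of_corep {T : ModuleCat.{u} A ⥤ ModuleCat.{u} A} {Q : ModuleCat.{u} A}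
    (α : T ≅ yy Q) (M : ModuleCat.{u} A) (a : A) : T.map (a • 𝟙 M) = a • 𝟙 (T.obj M) := by
  have h1 : T.map (a • 𝟙 M) = α.hom.app M ≫ (yy Q).map (a • 𝟙 M) ≫ α.inv.app M := by
    rw [← Category.assoc, ← α.hom.naturality, Category.assoc, Iso.hom_inv_id_app, Category.comp_id]
  have h2 : (yy Q).map (a • 𝟙 M) = a • 𝟙 _ := by
    ext φ
    change φ ≫ (a • 𝟙 M) = a • φ
    rw [Linear.comp_smul, Category.comp_id]
    rfl
  rw [h1, h2, Linear.smul_comp, Linear.comp_smul, Category.id_comp, Iso.hom_inv_id_app]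

/-- lift an `Ab`-valued natural transformation between linear functors to `ModuleCat A` -/
theorem exists_lift_natTrans (T1 T2 : ModuleCat.{u} A ⥤ ModuleCat.{u} A)
    (h1 : ∀ (M : ModuleCat.{u} A) (a : A), T1.map (a • 𝟙 M) = a • 𝟙 (T1.obj M))
    (h2 : ∀ (M : ModuleCat.{u} A) (a : A), T2.map (a • 𝟙 M) = a • 𝟙 (T2.obj M))
    (η' : T1 ⋙ forget₂ (ModuleCat.{u} A) AddCommGrpCat.{u} ⟶
      T2 ⋙ forget₂ (ModuleCat.{u} A) AddCommGrpCat.{u}) :
    ∃ η : T1 ⟶ T2, ∀ (M : ModuleCat.{u} A) (x : T1.obj M),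
      (η.app M).hom x = (show T2.obj M from (η'.app M).hom x) := by
  have hlin : ∀ (M : ModuleCat.{u} A) (a : A) (x : T1.obj M),
      (show T2.obj M from (η'.app M).hom (a • x)) = a • (show T2.obj M from (η'.app M).hom x) := by
    intro M a x
    have h := congrArg (fun φ => φ.hom x) (η'.naturality (a • 𝟙 M))
    have e1 : ((T1 ⋙ forget₂ (ModuleCat.{u} A) AddCommGrpCat.{u}).map (a • 𝟙 M)).hom x = a • x := by
      change (T1.map (a • 𝟙 M)).hom x = a • x
      rw [h1]
      rfl
    have e2 : ∀ y : T2.obj M,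
        ((T2 ⋙ forget₂ (ModuleCat.{u} A) AddCommGrpCat.{u}).map (a • 𝟙 M)).hom y = a • y := by
      intro y
      change (T2.map (a • 𝟙 M)).hom y = a • y
      rw [h2]
      rfl
    simp only [AddCommGrpCat.hom_comp, AddMonoidHom.comp_apply] at h
    rw [e1] at h
    exact h.trans (e2 _)
  refine ⟨{ app := fun M => ModuleCat.ofHom
              { toFun := fun x => (show T2.obj M from (η'.app M).hom x)
                map_add' := fun x y => map_add (η'.app M).hom x y
                map_smul' := fun a x => hlin M a x }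
            naturality := ?_ }, fun M x => rfl⟩
  intro M N g
  ext x
  exact congrArg (fun φ => φ.hom x) (η'.naturality g)

end lin

section site

variable {C : Type u} [SmallCategory C] {J : GrothendieckTopology C} {O : Sheaf J CommRingCat.{u}}

/-- `O ⊗ E ≅ E`, as the value at `O` of `- ⊗ E` -/
noncomputable def unitTR (E : ModSite.Mod O) : (tR O E).obj (ModSite.unit O) ≅ E :=
  (tLUnitIso O).app E

instance (E : ModSite.Mod O) : (tR O E).Additive := inferInstance

/-- `Hom(E, N) ≃+ Hom(O, N ⊗ E^∨)` -/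
noncomputable def homDualEquiv (E : ModSite.Mod O) (hE : IsLocFF E) (N : ModSite.Mod O) :
    (E ⟶ N) ≃+ (ModSite.unit O ⟶ (tR O (dual E)).obj N) :=
  ({ toFun := fun φ => (unitTR E).hom ≫ φ
     invFun := fun ψ => (unitTR E).inv ≫ ψ
     left_inv := fun φ => by simp
     right_inv := fun ψ => by simp
     map_add' := fun φ φ' => Preadditive.comp_add _ _ _ _ _ _ } :
    (E ⟶ N) ≃+ ((tR O E).obj (ModSite.unit O) ⟶ N)).trans
  ((dualAdj E hE).homAddEquiv (ModSite.unit O) N)

theorem homDualEquiv_naturality (E : ModSite.Mod O) (hE : IsLocFF E) {N N' : ModSite.Mod O} (g : N ⟶ N')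
    (φ : E ⟶ N) :
    homDualEquiv E hE N' (φ ≫ g) = homDualEquiv E hE N φ ≫ (tR O (dual E)).map g := by
  change (dualAdj E hE).homEquiv _ _ ((unitTR E).hom ≫ φ ≫ g) =
    (dualAdj E hE).homEquiv _ _ ((unitTR E).hom ≫ φ) ≫ (tR O (dual E)).map g
  rw [← Category.assoc, Adjunction.homEquiv_naturality_right]

/-- `Hom(E, -) ≅ Hom(O, - ⊗ E^∨)` as functors to abelian groups -/
noncomputable def homDualIso (E : ModSite.Mod O) (hE : IsLocFF E) :
    preadditiveCoyoneda.obj (op E) ≅
      tR O (dual E) ⋙ preadditiveCoyoneda.obj (op (ModSite.unit O)) :=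
  NatIso.ofComponents (fun N => (homDualEquiv E hE N).toAddCommGrpIso) (by
    intro N N' g
    ext φ
    exact homDualEquiv_naturality E hE g φ)

end site

section scheme
variable (A : Type u) [CommRing A] {X : Scheme.{u}} [X.Over (Spec (CommRingCat.of A))]

/-- `Hom(O_X, -) ≅ Γ(X, -)` as functors to abelian groups -/
noncomputable def unitGammaIso :
    preadditiveCoyoneda.obj (op (Coh.structureModule X)) ≅
      CohIII.globalSectionsA A (X := X) ⋙ forget₂ (ModuleCat.{u} A) AddCommGrpCat.{u} :=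
  NatIso.ofComponents
    (fun M => AddEquiv.toAddCommGrpIso
      (Groth.Agent.Lib.Helper21.UnitHom.unitHomAddEquiv (R := X.ringCatSheaf) isTerminalTop M))
    (by
      intro M N φ
      ext x
      rfl)

/-- `(f^*(M~) ⊗ F) ⊗ D ≅ f^*(M~) ⊗ (F ⊗ D)` naturally in `M` -/
noncomputable def tensorATensorIso (F D : X.Modules) :
    CohIII.tensorAFunctor A F ⋙ tR X.sheaf D ≅ CohIII.tensorAFunctor A (CohB1.tensorMod F D) :=
  Functor.isoWhiskerLeft (tilde.functor (CommRingCat.of A) ⋙
    Scheme.Modules.pullback (X ↘ Spec (CommRingCat.of A))) (tRTensorIso X.sheaf F D)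

/-- `Hom(E, f^*(M~) ⊗ F) ≅ Γ(X, f^*(M~) ⊗ (F ⊗ E^∨))` naturally in `M` -/
noncomputable def homTensorIso (F E : X.Modules) (hE : IsLocFF (O := X.sheaf) E) :
    CohIII.tensorAFunctor A F ⋙ preadditiveCoyoneda.obj (op E) ≅
      (CohIII.tensorAFunctor A (CohB1.tensorMod F (dual (O := X.sheaf) E)) ⋙ CohIII.globalSectionsA A) ⋙
        forget₂ (ModuleCat.{u} A) AddCommGrpCat.{u} :=
  Functor.isoWhiskerLeft (CohIII.tensorAFunctor A F)
      (homDualIso (O := X.sheaf) E hE ≪≫
        Functor.isoWhiskerLeft (tR X.sheaf (dual (O := X.sheaf) E)) (unitGammaIso A)) ≪≫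
    Functor.isoWhiskerRight (tensorATensorIso A F (dual (O := X.sheaf) E))
      (CohIII.globalSectionsA A ⋙ forget₂ (ModuleCat.{u} A) AddCommGrpCat.{u})

end scheme

section main
variable (A : Type u) [CommRing A] [IsNoetherianRing A] (X : Scheme.{u})
  [X.Over (Spec (CommRingCat.of A))] [IsProper (X ↘ Spec (CommRingCat.of A))]

/-- **S4500**: `M ↦ Hom(G, f^*(M~) ⊗ F)` is corepresentable by a finitely generated module, for `G` with a finite
locally free presentation. -/
theorem hom_into_tensor_corep (F : X.Modules) (hF : Coh.IsCoh F)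
    (hfl : FlatMod.IsFlatOver (X ↘ Spec (CommRingCat.of A)) F)
    (G E₀ E₁ : X.Modules) (h₀ : FlatMod.IsFinLocFree E₀) (h₁ : FlatMod.IsFinLocFree E₁)
    (v : E₁ ⟶ E₀) (π : E₀ ⟶ G) [Epi π] (w : v ≫ π = 0) (hex : (ShortComplex.mk v π w).Exact) :
    ∃ N : ModuleCat.{u} A, Module.Finite A N ∧
      Nonempty (CohIII.tensorAFunctor A F ⋙ preadditiveCoyoneda.obj (op G) ≅
        (linearCoyoneda A (ModuleCat.{u} A)).obj (op N) ⋙
          forget₂ (ModuleCat.{u} A) AddCommGrpCat.{u}) := by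
  have hL₀ : IsLocFF (O := X.sheaf) E₀ := isLocFF_of_isFinLocFree E₀ h₀
  have hL₁ : IsLocFF (O := X.sheaf) E₁ := isLocFF_of_isFinLocFree E₁ h₁
  have hD₀ := Groth.Agent.Lib.T2H9.LocFF.isFinLocFree_dual E₀ h₀
  have hD₁ := Groth.Agent.Lib.T2H9.LocFF.isFinLocFree_dual E₁ h₁
  haveI := hF.1
  have hc₀ := Groth.Agent.Lib.T2H5.FibReg.isCoh_tensor hF
    (Groth.Agent.Lib.T2H5.RegPush.isCoh_of_isFinLocFree _ hD₀)
  have hc₁ := Groth.Agent.Lib.T2H5.FibReg.isCoh_tensor hF
    (Groth.Agent.Lib.T2H5.RegPush.isCoh_of_isFinLocFree _ hD₁)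
  have hf₀ := Groth.Agent.Lib.T2H9.FFFlat.isFlatOver_tensor_of_isFinLocFree
    (X ↘ Spec (CommRingCat.of A)) F _ hD₀ hfl
  have hf₁ := Groth.Agent.Lib.T2H9.FFFlat.isFlatOver_tensor_of_isFinLocFree
    (X ↘ Spec (CommRingCat.of A)) F _ hD₁ hfl
  obtain ⟨Q₀, hQ₀, ⟨α₀⟩⟩ := exists_corep A X _ hc₀ hf₀
  obtain ⟨Q₁, hQ₁, ⟨α₁⟩⟩ := exists_corep A X _ hc₁ hf₁
  let β₀ := homTensorIso A F E₀ hL₀
  let β₁ := homTensorIso A F E₁ hL₁
  let vs : CohIII.tensorAFunctor A F ⋙ preadditiveCoyoneda.obj (op E₀) ⟶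
      CohIII.tensorAFunctor A F ⋙ preadditiveCoyoneda.obj (op E₁) :=
    Functor.whiskerLeft _ (preadditiveCoyoneda.map v.op)
  let ps : CohIII.tensorAFunctor A F ⋙ preadditiveCoyoneda.obj (op G) ⟶
      CohIII.tensorAFunctor A F ⋙ preadditiveCoyoneda.obj (op E₀) :=
    Functor.whiskerLeft _ (preadditiveCoyoneda.map π.op)
  obtain ⟨η, hη⟩ := exists_lift_natTrans _ _ (map_smul_id_of_corep α₀) (map_smul_id_of_corep α₁)
    (β₀.inv ≫ vs ≫ β₁.hom)
  haveI := hQ₀
  obtain ⟨R, ι, hR, hιinj, hιim⟩ := exists_kernel_corep α₀ α₁ η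
  refine ⟨R, hR, ?_⟩
  have hβ₀inj : ∀ M, Function.Injective (β₀.hom.app M).hom := fun M =>
    Function.LeftInverse.injective (g := (β₀.inv.app M).hom)
      (fun z => congrArg (fun ψ => ψ.hom z) (β₀.hom_inv_id_app M))
  have hβ₁inj : ∀ M, Function.Injective (β₁.hom.app M).hom := fun M =>
    Function.LeftInverse.injective (g := (β₁.inv.app M).hom)
      (fun z => congrArg (fun ψ => ψ.hom z) (β₁.hom_inv_id_app M))
  refine nonempty_iso_of_same_image (ps ≫ β₀.hom)
    (Functor.whiskerRight ι (forget₂ (ModuleCat.{u} A) AddCommGrpCat.{u})) ?_ ?_ ?_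
  · intro M φ φ' h
    have h1 : π ≫ φ = π ≫ φ' := hβ₀inj M h
    exact (cancel_epi π).mp h1
  · intro M
    exact hιinj M
  · intro M x
    set φ₀ : E₀ ⟶ (CohIII.tensorAFunctor A F).obj M := (β₀.inv.app M).hom x with hφ₀
    have hx : (β₀.hom.app M).hom φ₀ = x :=
      congrArg (fun ψ => ψ.hom x) (β₀.inv_hom_id_app M)
    have key : (η.app M).hom x = 0 ↔ v ≫ φ₀ = 0 := by
      rw [hη M x]
      change (β₁.hom.app M).hom (v ≫ φ₀) = 0 ↔ _
      constructor
      · intro h
        apply hβ₁inj M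
        exact h.trans (map_zero (β₁.hom.app M).hom).symm
      · intro h
        rw [h]
        exact map_zero (β₁.hom.app M).hom
    have him : (∃ q, ((Functor.whiskerRight ι
        (forget₂ (ModuleCat.{u} A) AddCommGrpCat.{u})).app M).hom q = x) ↔ v ≫ φ₀ = 0 :=
      (hιim M x).symm.trans key
    refine Iff.trans ?_ him.symm
    constructor
    · rintro ⟨p, hp⟩
      have h1 : π ≫ p = φ₀ := hβ₀inj M (hp.trans hx.symm)
      rw [← h1, ← Category.assoc, w, zero_comp]
    · intro h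
      refine ⟨hex.desc φ₀ h, ?_⟩
      change (β₀.hom.app M).hom (π ≫ hex.desc φ₀ h) = x
      rw [show π ≫ hex.desc φ₀ h = φ₀ from hex.g_desc φ₀ h, hx]

end main

end Groth.Agent.Lib.T2H9.DualHom
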