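import Mathlib
import Groth.Prelude.Def_Curv2
import Groth.Agent.Lib.T2H6CurveDeg
import Groth.Agent.Lib.T2H5Chevalley

/-!
# Generic isomorphisms of coherent modules on a proper integral curve (helper6)

For a monomorphism `f : E ⟶ F` of coherent modules on a proper integral curve whose cokernel
vanishes at the generic point, `χ(F) = χ(E) + h⁰(coker f)` and `f` is an isomorphism iff
`h⁰(coker f) = 0`.
-/

set_option autoImplicit false
universe u

open AlgebraicGeometry CategoryTheory Limits

namespace Groth.Agent.Lib.T2H6.CurveTors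

open Groth.Agent.Lib.T2H6.CurveDeg

variable {X : Scheme.{u}} [IsIntegral X]

theorem sc_shortExact {E F : X.Modules} (f : E ⟶ F) [Mono f] : (sc f).ShortExact :=
  haveI : Mono (sc f).f := inferInstanceAs (Mono f)
  haveI : Epi (sc f).g := inferInstanceAs (Epi (cokernel.π f))
  ShortComplex.ShortExact.mk (ShortComplex.exact_cokernel f)

theorem isClosed_of_mem_support [IsLocallyNoetherian X] (hdim : topologicalKrullDim X = 1)
    (M : X.Modules) (hgen : Subsingleton (M.presheaf.stalk (genericPoint X))) :
    ∀ x ∈ CohB1.support M, IsClosed ({x} : Set X) := by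
  intro x hx
  refine Groth.Agent.Lib.Helper20.CDivLib.isClosed_singleton_of_ne_genericPoint hdim.le x ?_
  rintro rfl
  exact hx hgen

variable (k : Type u) [Field k] [X.Over (Spec (CommRingCat.of k))]
  [IsProper (X ↘ (Spec (CommRingCat.of k)))]

/-- A coherent module on a proper integral curve with zero generic stalk has `χ = h⁰`. -/
theorem euler_eq_h0 (hdim : topologicalKrullDim X = 1) (M : X.Modules) (hM : Coh.IsCoh M)
    (hgen : Subsingleton (M.presheaf.stalk (genericPoint X))) :
    Curv2.euler k X M = (Module.finrank k (Coh.HH X M 0) : ℤ) := by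
  haveI := isLocallyNoetherian (X := X) k
  rw [Groth.Agent.Lib.T2H6.EulerField.euler_eq_sum k X M 0
    (fun i hi => Groth.Agent.S0047.result X _ hM (isClosed_of_mem_support hdim M hgen) i hi)]
  simp

/-- `χ(F) = χ(E) + h⁰(coker f)`. -/
theorem euler_eq (hdim : topologicalKrullDim X = 1) {E F : X.Modules}
    (hE : Coh.IsCoh E) (hF : Coh.IsCoh F) (f : E ⟶ F) [Mono f]
    (hgen : Subsingleton ((cokernel f).presheaf.stalk (genericPoint X))) :
    Curv2.euler k X F = Curv2.euler k X E +
      (Module.finrank k (Coh.HH X (cokernel f) 0) : ℤ) := by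
  haveI := isLocallyNoetherian (X := X) k
  have hC : Coh.IsCoh (cokernel f) := Groth.Agent.Lib.T2H5.GenIsoB.isCoh_cokernel f hE hF
  have h1 := Groth.Agent.Lib.T2H6.EulerField.euler_additive k X (sc f)
    (sc_shortExact f) hE hF hC
  change Curv2.euler k X F = Curv2.euler k X E + Curv2.euler k X (cokernel f) at h1
  rw [h1, euler_eq_h0 k hdim _ hC hgen]

/-- A coherent module with zero generic stalk and no global sections is zero. -/
theorem isZero_of_finrank_eq_zero (hdim : topologicalKrullDim X = 1) (M : X.Modules)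
    (hM : Coh.IsCoh M) (hgen : Subsingleton (M.presheaf.stalk (genericPoint X)))
    (h0 : Module.finrank k (Coh.HH X M 0) = 0) : IsZero M := by
  haveI := isLocallyNoetherian (X := X) k
  haveI : Module.Finite k (Coh.HH X M 0) :=
    Groth.Agent.Lib.T2H6.EulerField.finite_HH k X _ hM 0
  have hsub : Subsingleton (Coh.HH X M 0) := Module.finrank_zero_iff.mp h0
  have hgg := Groth.Agent.Lib.T2H5.Dim0.isGloballyGenerated_of_closed_points M hM
    (isClosed_of_mem_support hdim M hgen)
  exact Groth.Agent.Lib.T2H5.AmplePn.isZero_of_isGloballyGenerated _ hgg hsub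

theorem isIso_of_finrank_eq_zero (hdim : topologicalKrullDim X = 1) {E F : X.Modules}
    (hE : Coh.IsCoh E) (hF : Coh.IsCoh F) (f : E ⟶ F) [Mono f]
    (hgen : Subsingleton ((cokernel f).presheaf.stalk (genericPoint X)))
    (h0 : Module.finrank k (Coh.HH X (cokernel f) 0) = 0) : IsIso f := by
  have hz : IsZero (cokernel f) := isZero_of_finrank_eq_zero k hdim _
    (Groth.Agent.Lib.T2H5.GenIsoB.isCoh_cokernel f hE hF) hgen h0
  haveI : Epi f := Preadditive.epi_of_isZero_cokernel f hz
  exact isIso_of_mono_of_epi f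

omit [IsIntegral X] [IsProper (X ↘ (Spec (CommRingCat.of k)))] in
theorem finrank_cokernel_eq_zero_of_isIso {E F : X.Modules} (f : E ⟶ F) [IsIso f] (i : ℕ) :
    Module.finrank k (Coh.HH X (cokernel f) i) = 0 := by
  have hz : IsZero (cokernel f) := isZero_cokernel_of_epi f
  haveI := Groth.Agent.Lib.T2H5.Chevalley.subsingleton_HH_of_isZero hz i
  exact Module.finrank_zero_of_subsingleton

/-- `deg E ≤ deg F`, with equality iff `f` is an isomorphism. -/
theorem deg_le_and_eq_iff (hdim : topologicalKrullDim X = 1) {E F : X.Modules}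
    (hE : Coh.IsCoh E) (hF : Coh.IsCoh F) (f : E ⟶ F) [Mono f]
    (hgen : Subsingleton ((cokernel f).presheaf.stalk (genericPoint X))) (n : ℕ) :
    Curv2.deg k X E n ≤ Curv2.deg k X F n ∧
      (Curv2.deg k X E n = Curv2.deg k X F n ↔ IsIso f) := by
  have h := euler_eq k hdim hE hF f hgen
  have hnn : (0 : ℤ) ≤ (Module.finrank k (Coh.HH X (cokernel f) 0) : ℤ) := Int.natCast_nonneg _
  refine ⟨?_, ?_, ?_⟩
  · unfold Curv2.deg
    rw [h]
    linarith
  · intro heq
    refine isIso_of_finrank_eq_zero k hdim hE hF f hgen ?_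
    unfold Curv2.deg at heq
    rw [h] at heq
    have : (Module.finrank k (Coh.HH X (cokernel f) 0) : ℤ) = 0 := by linarith
    exact_mod_cast this
  · intro hiso
    unfold Curv2.deg
    rw [h, finrank_cokernel_eq_zero_of_isIso k f 0]
    simp

end Groth.Agent.Lib.T2H6.CurveTors
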