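import Mathlib

/-!
# T2H5MumfordArith: the arithmetic core of Mumford's regularity lemma (helper5)
-/

set_option autoImplicit false

namespace Groth.Agent.Lib.T2H5.MumfordArith

/-- a non-increasing sequence of natural numbers which stays constant once it repeats a value and
which is eventually zero vanishes after `a (m - 1)` steps -/
theorem eventually_zero (a : ℤ → ℕ) (m : ℤ)
    (hd : ∀ j, m - 1 ≤ j → a j ≤ a (j - 1))
    (he : ∀ j, m ≤ j → a j = a (j - 1) → a (j + 1) = a j)
    (hc : ∃ d₀ : ℤ, ∀ j, d₀ ≤ j → a j = 0) :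
    ∀ j, m - 1 + (a (m - 1) : ℤ) ≤ j → a j = 0 := by
  obtain ⟨d₀, hd₀⟩ := hc
  have const : ∀ j, m ≤ j → a j = a (j - 1) →
      ∀ s : ℕ, a (j + s) = a j ∧ a (j + s) = a (j + s - 1) := by
    intro j hj h s
    induction s with
    | zero => simpa using h
    | succ s ih =>
      have h1 := he (j + s) (by omega) ih.2
      have e1 : j + ((s + 1 : ℕ) : ℤ) = j + s + 1 := by push_cast; ring
      have e2 : j + (s : ℤ) + 1 - 1 = j + s := by ring
      rw [e1, e2]
      exact ⟨h1.trans ih.1, h1⟩
  have zero_of_eq : ∀ j, m ≤ j → a j = a (j - 1) → a j = 0 := by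
    intro j hj h
    have h1 := (const j hj h (d₀ - j).toNat).1
    rw [← h1]
    apply hd₀
    have := Int.self_le_toNat (d₀ - j)
    omega
  have key : ∀ t : ℕ, a (m - 1 + t) + t ≤ a (m - 1) ∨ a (m - 1 + t) = 0 := by
    intro t
    induction t with
    | zero => left; simp
    | succ t ih =>
      have e1 : m - 1 + ((t + 1 : ℕ) : ℤ) - 1 = m - 1 + t := by push_cast; ring
      have h1 := hd (m - 1 + ((t + 1 : ℕ) : ℤ)) (by push_cast; omega)
      rw [e1] at h1
      rcases Nat.lt_or_ge (a (m - 1 + ((t + 1 : ℕ) : ℤ))) (a (m - 1 + t)) with h2 | h2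
      · rcases ih with h3 | h3
        · left; omega
        · right; omega
      · right
        have h3 : a (m - 1 + ((t + 1 : ℕ) : ℤ)) = a (m - 1 + ((t + 1 : ℕ) : ℤ) - 1) := by
          rw [e1]; omega
        exact zero_of_eq _ (by push_cast; omega) h3
  intro j hj
  obtain ⟨t, ht⟩ := Int.eq_ofNat_of_zero_le (show 0 ≤ j - (m - 1) by omega)
  have hj' : j = m - 1 + t := by omega
  rw [hj']
  rcases key t with h | h
  · have : (a (m - 1) : ℤ) ≤ t := by omega
    have : a (m - 1) ≤ t := by exact_mod_cast this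
    omega
  · exact h

end Groth.Agent.Lib.T2H5.MumfordArith
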