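import Mathlib
import Groth.Agent.Lib.T2H5HHLes2
import Groth.Agent.Lib.T2H5SerrePn
import Groth.Agent.Lib.T2H5KosSurj3
import Groth.Agent.Lib.T2H5MumfordArith
import Groth.Agent.Lib.Helper23FinTypeLocal

/-!
# T2H5Mumford: Mumford's lemma on the regularity of an extension `0 → F(-1) → F → G → 0`
(helper5)
-/

set_option autoImplicit false
universe u
open CategoryTheory CategoryTheory.Limits AlgebraicGeometry TopologicalSpace Opposite

namespace Groth.Agent.Lib.T2H5.Mumford

open Groth.Agent.Lib.T2H5.Twist Groth.Agent.Lib.T2H5.HHSub Groth.Agent.Lib.T2H5.HHLes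
open Groth.Agent.Lib.T2H5.KosPn Groth.Agent.Lib.T2H5.PnStruct
open Groth.Agent.Lib.Helper23.QCohLocal

section Surj

variable (n : ℕ) (R : Type u) [CommRing R]

theorem tr_map_eq {X : Scheme.{u}} (N : X.Modules) {F G : X.Modules} (φ : F ⟶ G) :
    (tr N).map φ = (DCoh.tensorBi.map φ).app N := rfl

/-- if `H⁰(F(b)) → H⁰(G(b))` is onto and `G` is regular enough then `H⁰(F(b+1)) → H⁰(G(b+1))`
is onto -/
theorem surjective_succ {F G : (CohB1.ProjSpace n R).Modules} (π : F ⟶ G) (b : ℤ)
    (hv : ∀ l : ℕ, 1 ≤ l → l ≤ n →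
      Subsingleton (Coh.HH (CohB1.ProjSpace n R) (GF n R G (b - l)) l))
    (hsurj : Function.Surjective (((DCoh.tensorBi.map π).app (OO n R b)).app ⊤)) :
    Function.Surjective (((DCoh.tensorBi.map π).app (OO n R (b + 1))).app ⊤) := by
  intro t
  have ht := Groth.Agent.Lib.T2H5.KosSurj.mem_closure_mul n R G b hv t
  refine AddSubgroup.closure_induction
    (p := fun t _ => ∃ s, ((DCoh.tensorBi.map π).app (OO n R (b + 1))).app ⊤ s = t)
    ?_ ?_ ?_ ?_ ht
  · rintro w ⟨l, u, rfl⟩
    obtain ⟨v, rfl⟩ := hsurj u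
    refine ⟨(μF n R F l b).app ⊤ v, ?_⟩
    have nat : μF n R F l b ≫ (DCoh.tensorBi.map π).app (OO n R (b + 1)) =
        (DCoh.tensorBi.map π).app (OO n R b) ≫ μF n R G l b :=
      (DCoh.tensorBi.map π).naturality (xm n R l b)
    have h1 : (μF n R F l b).app ⊤ ≫ ((DCoh.tensorBi.map π).app (OO n R (b + 1))).app ⊤ =
        ((DCoh.tensorBi.map π).app (OO n R b)).app ⊤ ≫ (μF n R G l b).app ⊤ := by
      rw [← Scheme.Modules.Hom.comp_app, ← Scheme.Modules.Hom.comp_app, nat]
    exact ConcreteCategory.congr_hom h1 v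
  · exact ⟨0, map_zero _⟩
  · rintro x y _ _ ⟨s, rfl⟩ ⟨s', rfl⟩
    exact ⟨s + s', map_add _ _ _⟩
  · rintro x _ ⟨s, rfl⟩
    exact ⟨-s, map_neg _ _⟩

theorem surjective_succ_twist {F G : (CohB1.ProjSpace n R).Modules} (π : F ⟶ G) (b : ℤ)
    (hv : ∀ l : ℕ, 1 ≤ l → l ≤ n → Subsingleton (Coh.HH (CohB1.ProjSpace n R)
      (CohB1.tensorMod G (Twist.twistProjSpace n R (b - l))) l))
    (hsurj : Function.Surjective (((tw n R b).map π).app ⊤)) :
    Function.Surjective (((tw n R (b + 1)).map π).app ⊤) := by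
  have hv' : ∀ l : ℕ, 1 ≤ l → l ≤ n →
      Subsingleton (Coh.HH (CohB1.ProjSpace n R) (GF n R G (b - l)) l) := by
    intro l h1 h2
    have h3 := hv l h1 h2
    rw [Groth.Agent.Lib.T2H5.PnTop.twist_eq] at h3
    exact h3
  have h1 : Function.Surjective
      (((DCoh.tensorBi.map π).app (Twist.twistProjSpace n R b)).app ⊤) := hsurj
  rw [Groth.Agent.Lib.T2H5.PnTop.twist_eq] at h1
  have h2 := surjective_succ n R π b hv' h1
  change Function.Surjective
    (((DCoh.tensorBi.map π).app (Twist.twistProjSpace n R (b + 1))).app ⊤)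
  rw [Groth.Agent.Lib.T2H5.PnTop.twist_eq]
  exact h2

end Surj

section Main

variable (n : ℕ) (k : Type u) [Field k]
variable (F : (CohB1.ProjSpace n k).Modules)
variable (ι : CohB1.tensorMod F (Twist.twistProjSpace n k (-1)) ⟶ F)

theorem isCoh_tw (hF : Coh.IsCoh F) (j : ℤ) :
    Coh.IsCoh (CohB1.tensorMod F (Twist.twistProjSpace n k j)) := by
  haveI : F.IsQuasicoherent := hF.1
  haveI : SheafOfModules.IsFiniteType (R := (CohB1.ProjSpace n k).ringCatSheaf) F := hF.2
  haveI : (Twist.twistProjSpace n k j).IsQuasicoherent :=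
    (Groth.Agent.Lib.T2H5.PnFinite.isCoh_twist n k j).1
  haveI : SheafOfModules.IsFiniteType (R := (CohB1.ProjSpace n k).ringCatSheaf)
      (Twist.twistProjSpace n k j) := (Groth.Agent.Lib.T2H5.PnFinite.isCoh_twist n k j).2
  exact ⟨Groth.Agent.Lib.Helper23.TensorQCoh.isQuasicoherent_tensorMod _ _,
    Groth.Agent.Lib.Helper23.TensorQCoh.isFiniteType_tensorMod _ _⟩

theorem isCoh_cokernel (hF : Coh.IsCoh F) : Coh.IsCoh (cokernel ι) := by
  have h1 := isCoh_tw n k F hF (-1)
  haveI : F.IsQuasicoherent := hF.1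
  haveI : SheafOfModules.IsFiniteType (R := (CohB1.ProjSpace n k).ringCatSheaf) F := hF.2
  haveI : (CohB1.tensorMod F (Twist.twistProjSpace n k (-1))).IsQuasicoherent := h1.1
  haveI : (cokernel ι).IsQuasicoherent := isQuasicoherent_cokernel ι
  exact ⟨inferInstance,
    Groth.Agent.Lib.Helper23.FinType.isFiniteType_of_epi (cokernel.π ι)⟩

/-- the twisted sequences `0 → F(j-1) → F(j) → G(j) → 0` -/
theorem exists_ses [Mono ι] (j' j : ℤ) (hj : j' + 1 = j) :
    ∃ (f : CohB1.tensorMod F (Twist.twistProjSpace n k j') ⟶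
        CohB1.tensorMod F (Twist.twistProjSpace n k j))
      (w : f ≫ (tw n k j).map (cokernel.π ι) = 0),
      (ShortComplex.mk f ((tw n k j).map (cokernel.π ι)) w).ShortExact := by
  have hS : (ShortComplex.mk ι (cokernel.π ι) (cokernel.condition ι)).ShortExact :=
    { exact := ShortComplex.exact_cokernel ι }
  have hS' := shortExact_map_tw n k j _ hS
  have h0 : (-1 : ℤ) + j = j' := by omega
  have e := (twAdd n k (-1) j j' h0).app F
  dsimp only [Functor.comp_obj] at e
  have w : (e.inv ≫ (tw n k j).map ι) ≫ (tw n k j).map (cokernel.π ι) = 0 := by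
    have h1 : (tw n k j).map ι ≫ (tw n k j).map (cokernel.π ι) = 0 := by
      have h2 := congrArg (fun φ => (tw n k j).map φ) (cokernel.condition ι)
      exact ((tw n k j).map_comp ι (cokernel.π ι)).symm.trans
        (h2.trans (Functor.map_zero _ _ _))
    exact (Category.assoc _ _ _).trans ((congrArg (fun φ => e.inv ≫ φ) h1).trans comp_zero)
  refine ⟨e.inv ≫ (tw n k j).map ι, w, ?_⟩
  have h12 : e.hom ≫ (e.inv ≫ (tw n k j).map ι) =
      (tw n k j).map ι ≫ (Iso.refl ((tw n k j).obj F)).hom := by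
    rw [Iso.hom_inv_id_assoc, Iso.refl_hom, Category.comp_id]
    rfl
  have h23 : (Iso.refl ((tw n k j).obj F)).hom ≫ (tw n k j).map (cokernel.π ι) =
      (tw n k j).map (cokernel.π ι) ≫ (Iso.refl ((tw n k j).obj (cokernel ι))).hom := by
    rw [Iso.refl_hom, Iso.refl_hom, Category.id_comp, Category.comp_id]
  exact ShortComplex.shortExact_of_iso
    (S₁ := (ShortComplex.mk ι (cokernel.π ι) (cokernel.condition ι)).map (tw n k j))
    (S₂ := ShortComplex.mk (e.inv ≫ (tw n k j).map ι) ((tw n k j).map (cokernel.π ι)) w)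
    (ShortComplex.isoMk
      (S₁ := (ShortComplex.mk ι (cokernel.π ι) (cokernel.condition ι)).map (tw n k j))
      (S₂ := ShortComplex.mk (e.inv ≫ (tw n k j).map ι) ((tw n k j).map (cokernel.π ι)) w)
      e (Iso.refl ((tw n k j).obj F)) (Iso.refl ((tw n k j).obj (cokernel ι))) h12 h23) hS'

variable (m : ℤ)

/-- the cohomology of the twists of the `m`-regular cokernel vanishes -/
theorem reg_G (hF : Coh.IsCoh F) (hG : Curv2.IsMRegular k n (cokernel ι) m)
    (i : ℕ) (hi : 1 ≤ i) (j : ℤ) (hj : m - i ≤ j) :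
    Subsingleton (Coh.HH (CohB1.ProjSpace n k)
      (CohB1.tensorMod (cokernel ι) (Twist.twistProjSpace n k j)) i) := by
  have hq := Groth.Agent.Lib.T2H5.KosSurj3.regular_of_isMRegular n k (cokernel ι)
    (isCoh_cokernel n k F ι hF) m hG
  obtain ⟨t, ht⟩ := Int.eq_ofNat_of_zero_le (show 0 ≤ j - (m - i) by omega)
  have h1 := regular_add n k (cokernel ι) m hq t i hi
  have e : m + (t : ℤ) - i = j := by omega
  rw [e] at h1
  rw [Groth.Agent.Lib.T2H5.PnTop.twist_eq n k j]
  exact h1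

/-- part (i) -/
theorem part1 [Mono ι] (hF : Coh.IsCoh F) (hG : Curv2.IsMRegular k n (cokernel ι) m)
    (i : ℕ) (hi : 2 ≤ i) (j : ℤ) (hj : m - i ≤ j) :
    Subsingleton (Coh.HH (CohB1.ProjSpace n k)
      (CohB1.tensorMod F (Twist.twistProjSpace n k j)) i) := by
  obtain ⟨d₀, hd₀⟩ := Groth.Agent.Lib.T2H5.SerrePn.serre_vanishing n k F hF
  obtain ⟨i', rfl⟩ : ∃ i', i = i' + 1 := ⟨i - 1, by omega⟩
  have step : ∀ j : ℤ, m - ((i' + 1 : ℕ) : ℤ) ≤ j →
      Subsingleton (Coh.HH (CohB1.ProjSpace n k)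
        (CohB1.tensorMod F (Twist.twistProjSpace n k (j + 1))) (i' + 1)) →
      Subsingleton (Coh.HH (CohB1.ProjSpace n k)
        (CohB1.tensorMod F (Twist.twistProjSpace n k j)) (i' + 1)) := by
    intro j hj h
    obtain ⟨f, w, hS⟩ := exists_ses n k F ι j (j + 1) rfl
    exact subsingleton_X₁ _ hS i'
      (reg_G n k F ι m hF hG i' (by omega) (j + 1) (by push_cast at hj ⊢; omega)) h
  have key : ∀ (t : ℕ) (j : ℤ), m - ((i' + 1 : ℕ) : ℤ) ≤ j → d₀ ≤ j + t →
      Subsingleton (Coh.HH (CohB1.ProjSpace n k)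
        (CohB1.tensorMod F (Twist.twistProjSpace n k j)) (i' + 1)) := by
    intro t
    induction t with
    | zero =>
      intro j _ hd
      exact hd₀ j (by simpa using hd) (i' + 1) (by omega)
    | succ t ih =>
      intro j hj hd
      exact step j hj (ih (j + 1) (by omega) (by push_cast at hd ⊢; omega))
  exact key (d₀ - j).toNat j hj (by have := Int.self_le_toNat (d₀ - j); omega)

/-- the maps `H¹(F(j-1)) → H¹(F(j))` of the twisted sequences -/
theorem ses_facts [Mono ι] (hF : Coh.IsCoh F) (hG : Curv2.IsMRegular k n (cokernel ι) m)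
    (j' j : ℤ) (hj' : j' + 1 = j) (hj : m - 1 ≤ j) :
    ∃ φ : Coh.HH (CohB1.ProjSpace n k) (CohB1.tensorMod F (Twist.twistProjSpace n k j')) 1 →ₗ[k]
        Coh.HH (CohB1.ProjSpace n k) (CohB1.tensorMod F (Twist.twistProjSpace n k j)) 1,
      Function.Surjective φ ∧ (Function.Injective φ ↔
        Function.Surjective (((tw n k j).map (cokernel.π ι)).app ⊤)) := by
  obtain ⟨f, w, hS⟩ := exists_ses n k F ι j' j hj'
  refine ⟨Canon.HHlin k f 1, ?_, ?_, ?_⟩
  · exact surjective_f_of_subsingleton k _ hS 1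
      (reg_G n k F ι m hF hG 1 le_rfl j (by push_cast; omega))
  · intro h
    have h1 := surjective_g_of_injective_f_succ k _ hS 0 h
    exact (surjective_HHlin_zero_iff k ((tw n k j).map (cokernel.π ι))).1 h1
  · intro h
    exact injective_f_succ_of_surjective_g k _ hS 0
      ((surjective_HHlin_zero_iff k ((tw n k j).map (cokernel.π ι))).2 h)

theorem finite_H1 (hF : Coh.IsCoh F) (j : ℤ) :
    Module.Finite k (Coh.HH (CohB1.ProjSpace n k)
      (CohB1.tensorMod F (Twist.twistProjSpace n k j)) 1) :=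
  Groth.Agent.Lib.T2H5.PnFinite.finite_HH n k _ (isCoh_tw n k F hF j) 1

/-- part (ii) -/
theorem part2 [Mono ι] (hF : Coh.IsCoh F) (hG : Curv2.IsMRegular k n (cokernel ι) m)
    (j' j : ℤ) (hj' : j' + 1 = j) (hj : m - 1 ≤ j) :
    Module.finrank k (Coh.HH (CohB1.ProjSpace n k)
        (CohB1.tensorMod F (Twist.twistProjSpace n k j)) 1) ≤
      Module.finrank k (Coh.HH (CohB1.ProjSpace n k)
        (CohB1.tensorMod F (Twist.twistProjSpace n k j')) 1) := by
  obtain ⟨φ, hφ, -⟩ := ses_facts n k F ι m hF hG j' j hj' hj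
  haveI := finite_H1 n k F hF j'
  exact LinearMap.finrank_le_finrank_of_surjective hφ

/-- once the dimension of `H¹` repeats it stays constant -/
theorem stab [Mono ι] (hF : Coh.IsCoh F) (hG : Curv2.IsMRegular k n (cokernel ι) m)
    (j' j : ℤ) (hj' : j' + 1 = j) (hj : m ≤ j)
    (h : Module.finrank k (Coh.HH (CohB1.ProjSpace n k)
        (CohB1.tensorMod F (Twist.twistProjSpace n k j)) 1) =
      Module.finrank k (Coh.HH (CohB1.ProjSpace n k)
        (CohB1.tensorMod F (Twist.twistProjSpace n k j')) 1)) :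
    Module.finrank k (Coh.HH (CohB1.ProjSpace n k)
        (CohB1.tensorMod F (Twist.twistProjSpace n k (j + 1))) 1) =
      Module.finrank k (Coh.HH (CohB1.ProjSpace n k)
        (CohB1.tensorMod F (Twist.twistProjSpace n k j)) 1) := by
  obtain ⟨φ, hφ, hiff⟩ := ses_facts n k F ι m hF hG j' j hj' (by omega)
  haveI := finite_H1 n k F hF j'
  haveI := finite_H1 n k F hF j
  haveI := finite_H1 n k F hF (j + 1)
  have hinj : Function.Injective φ :=
    (LinearMap.injective_iff_surjective_of_finrank_eq_finrank h.symm).2 hφ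
  have hq := hiff.1 hinj
  have hq' := surjective_succ_twist n k (cokernel.π ι) j
    (fun l hl1 _ => reg_G n k F ι m hF hG l hl1 (j - l) (by omega)) hq
  obtain ⟨ψ, hψ, hiff'⟩ := ses_facts n k F ι m hF hG j (j + 1) rfl (by omega)
  exact (LinearEquiv.ofBijective ψ ⟨hiff'.2 hq', hψ⟩).finrank_eq.symm

/-- part (iii) -/
theorem part3 [Mono ι] (hF : Coh.IsCoh F) (hG : Curv2.IsMRegular k n (cokernel ι) m)
    (j : ℤ) (hj : m - 1 + (Module.finrank k (Coh.HH (CohB1.ProjSpace n k)
        (CohB1.tensorMod F (Twist.twistProjSpace n k (m - 1))) 1) : ℤ) ≤ j) :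
    Subsingleton (Coh.HH (CohB1.ProjSpace n k)
      (CohB1.tensorMod F (Twist.twistProjSpace n k j)) 1) := by
  have key := Groth.Agent.Lib.T2H5.MumfordArith.eventually_zero
    (fun j => Module.finrank k (Coh.HH (CohB1.ProjSpace n k)
      (CohB1.tensorMod F (Twist.twistProjSpace n k j)) 1)) m
    (fun j hj => part2 n k F ι m hF hG (j - 1) j (by ring) hj)
    (fun j hj h => stab n k F ι m hF hG (j - 1) j (by ring) hj h)
    (by
      obtain ⟨d₀, hd₀⟩ := Groth.Agent.Lib.T2H5.SerrePn.serre_vanishing n k F hF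
      refine ⟨d₀, fun j hj => ?_⟩
      haveI := hd₀ j hj 1 le_rfl
      exact Module.finrank_zero_of_subsingleton)
    j hj
  haveI := finite_H1 n k F hF j
  exact (Module.finrank_eq_zero_iff_of_free k _).1 key

/-- part (iv) -/
theorem part4 [Mono ι] (hF : Coh.IsCoh F) (hG : Curv2.IsMRegular k n (cokernel ι) m) :
    Curv2.IsMRegular k n F (m + Module.finrank k (Coh.HH (CohB1.ProjSpace n k)
        (CohB1.tensorMod F (Twist.twistProjSpace n k (m - 1))) 1)) := by
  intro i hi hin
  rcases Nat.lt_or_ge i 2 with h2 | h2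
  · obtain rfl : i = 1 := by omega
    exact part3 n k F ι m hF hG _ (by push_cast; omega)
  · exact part1 n k F ι m hF hG i h2 _ (by omega)

end Main

end Groth.Agent.Lib.T2H5.Mumford
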