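import Mathlib
import Groth.Agent.S0047
import Groth.Agent.S2286
import Groth.Agent.Lib.T2H5Dim0
import Groth.Agent.Lib.T2H5HHLes2
import Groth.Agent.Lib.T2H5Mumford

set_option autoImplicit false
set_option linter.style.haveILetI false
universe u
open CategoryTheory CategoryTheory.Limits AlgebraicGeometry TopologicalSpace TensorProduct

namespace Groth.Agent.Lib.T2H5.Dim0

theorem support_tensorMod_subset {X : Scheme.{u}} (A B : X.Modules) :
    CohB1.support (CohB1.tensorMod A B) ⊆ CohB1.support A := by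
  intro x hx hA
  apply hx
  rw [Groth.Agent.S2286.subsingleton_stalk_tensorMod_iff]
  haveI := hA
  refine ⟨fun a b => ?_⟩
  have h0 : ∀ t : (A.presheaf.stalk x) ⊗[X.presheaf.stalk x] (B.presheaf.stalk x), t = 0 := by
    intro t
    induction t using TensorProduct.induction_on with
    | zero => rfl
    | tmul a b => rw [Subsingleton.elim a 0, TensorProduct.zero_tmul]
    | add a b ha hb => rw [ha, hb, add_zero]
  rw [h0 a, h0 b]

open Groth.Agent.Lib.T2H5.HHLes Groth.Agent.Lib.Helper23.QCohLocal in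
theorem subsingleton_mid {X : Scheme.{u}} (S : ShortComplex X.Modules) (hS : S.ShortExact) (i : ℕ)
    (h1 : Subsingleton (Coh.HH X S.X₁ i)) (h3 : Subsingleton (Coh.HH X S.X₃ i)) :
    Subsingleton (Coh.HH X S.X₂ i) := by
  refine ⟨fun a b => ?_⟩
  have h0 : ∀ x : Coh.HH X S.X₂ i, x = 0 := by
    intro x
    obtain ⟨y, hy⟩ := Abelian.Ext.covariant_sequence_exact₂ _ (shortExact_toAbF S hS) x
      (@Subsingleton.elim _ h3 _ _)
    have hy0 : y = 0 := @Subsingleton.elim _ h1 y 0
    rw [hy0] at hy
    exact hy.symm.trans (Abelian.Ext.zero_comp _ _ _ _ _)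
  rw [h0 a, h0 b]

end Groth.Agent.Lib.T2H5.Dim0

namespace Groth.Agent.Lib.T2H5.Dim0

open Groth.Agent.Lib.T2H5.Twist Groth.Agent.Lib.Helper23.QCohLocal

/-- vanishing of higher cohomology of a coherent module with support of dimension `≤ 0`, twisted by
any module so that the product stays coherent -/
theorem subsingleton_HH_tensor_of_dim_le_zero {X : Scheme.{u}} [IsLocallyNoetherian X]
    (C L : X.Modules) (hC : Coh.IsCoh C) (hCL : Coh.IsCoh (CohB1.tensorMod C L))
    (hsupp : topologicalKrullDim (CohB1.support C) ≤ 0) (i : ℕ) (hi : 1 ≤ i) :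
    Subsingleton (Coh.HH X (CohB1.tensorMod C L) i) := by
  have hZ : IsClosed (CohB1.support C) := Groth.Agent.S0020.result X C hC.2
  exact Groth.Agent.S0047.result X _ hCL
    (fun x hx => isClosed_singleton_of_mem _ hZ hsupp x (support_tensorMod_subset C L hx)) i hi

theorem isMRegular_of_mono_cokernel_dim_le_zero (k : Type u) [Field k] (n : ℕ)
    (F' F : (CohB1.ProjSpace n k).Modules) (hF' : Coh.IsCoh F') (hF : Coh.IsCoh F) (φ : F' ⟶ F) [Mono φ]
    (hsupp : topologicalKrullDim (CohB1.support (cokernel φ)) ≤ 0) (m : ℤ)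
    (h : Curv2.IsMRegular k n F' m) : Curv2.IsMRegular k n F m := by
  intro i hi hin
  have hN : IsNoetherian (Proj (CohB1.polyGrading n k)) :=
    Groth.Agent.S2357.result (CohB1.polyGrading n k)
  haveI hLN : IsLocallyNoetherian (CohB1.ProjSpace n k) := hN.toIsLocallyNoetherian
  have hC : Coh.IsCoh (cokernel φ) := by
    haveI : F.IsQuasicoherent := hF.1
    haveI : SheafOfModules.IsFiniteType (R := (CohB1.ProjSpace n k).ringCatSheaf) F := hF.2
    haveI : F'.IsQuasicoherent := hF'.1
    haveI : (cokernel φ).IsQuasicoherent := isQuasicoherent_cokernel φ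
    exact ⟨inferInstance, Groth.Agent.Lib.Helper23.FinType.isFiniteType_of_epi (cokernel.π φ)⟩
  have hS : (ShortComplex.mk φ (cokernel.π φ) (cokernel.condition φ)).ShortExact :=
    { exact := ShortComplex.exact_cokernel φ }
  have hS' := shortExact_map_tw n k (m - i) _ hS
  have h3 : Subsingleton (Coh.HH (CohB1.ProjSpace n k)
      (CohB1.tensorMod (cokernel φ) (Twist.twistProjSpace n k (m - i))) i) :=
    subsingleton_HH_tensor_of_dim_le_zero (cokernel φ) _ hC
      (Groth.Agent.Lib.T2H5.Mumford.isCoh_tw n k (cokernel φ) hC (m - i)) hsupp i hi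
  exact subsingleton_mid _ hS' i (h i hi hin) h3

end Groth.Agent.Lib.T2H5.Dim0
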