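import Mathlib
import Groth.Prelude.Def_Curv2
import Groth.Agent.S0047
import Groth.Agent.S0012
import Groth.Agent.S0007
import Groth.Agent.Lib.T2H5GenIsoB
import Groth.Agent.Lib.T2H5Dim0b
import Groth.Agent.Lib.T2H5Chevalley
import Groth.Agent.Lib.Helper23Extend2
import Groth.Agent.Lib.Helper20CDiv2
import Groth.Agent.Lib.Helper23AffOpen2
import Groth.Agent.Lib.Helper23Support
import Groth.Agent.Lib.Helper16SectSupp
import Groth.Agent.Lib.Helper16Flasque

/-!
# Vanishing of cohomology in degrees `≥ 2` on an integral curve (helper6)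
-/

set_option autoImplicit false
universe u

open CategoryTheory Limits AlgebraicGeometry TopologicalSpace Opposite

namespace Groth.Agent.Lib.T2H6.CurveVanish

open Groth.Agent.Lib.Helper23.Support Groth.Agent.Lib.Helper23.AffVanish
  Groth.Agent.Lib.Helper23.Extend

variable {X : Scheme.{u}}

/-- subsets of a closed set of closed points of a locally Noetherian scheme are closed. -/
theorem isClosed_of_subset [IsLocallyNoetherian X] (Z : Set X) (hZ : IsClosed Z)
    (h0 : ∀ x ∈ Z, IsClosed ({x} : Set X)) (T : Set X) (hT : T ⊆ Z) : IsClosed T := by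
  have hcov : TopologicalSpace.IsOpenCover (fun U : X.affineOpens => U.1) :=
    iSup_affineOpens_eq_top X
  rw [hcov.isClosed_iff_coe_preimage]
  intro U
  have : IsNoetherianRing Γ(X, U.1) := IsLocallyNoetherian.component_noetherian U
  have : NoetherianSpace ↥U.1 := noetherianSpace_of_isAffineOpen U.1 U.2
  have : QuasiSober ↥U.1 := U.1.isOpenEmbedding.quasiSober
  have hfin : ((↑) ⁻¹' Z : Set ↥U.1).Finite := by
    apply Groth.Agent.S0047.finite_of_noetherian_quasiSober _ (hZ.preimage continuous_subtype_val)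
    intro y hy
    have h1 : IsClosed ({y.1} : Set X) := h0 y.1 hy
    have h2 : ((↑) ⁻¹' ({y.1} : Set X) : Set ↥U.1) = {y} := by
      ext z
      simp only [Set.mem_preimage, Set.mem_singleton_iff]
      exact Subtype.ext_iff.symm
    rw [← h2]
    exact h1.preimage continuous_subtype_val
  have hfin' : ((↑) ⁻¹' T : Set ↥U.1).Finite := hfin.subset (Set.preimage_mono hT)
  have h3 : ((↑) ⁻¹' T : Set ↥U.1) = ⋃ y ∈ ((↑) ⁻¹' T : Set ↥U.1), {y} :=
    (Set.biUnion_of_singleton _).symm
  rw [h3]
  refine hfin'.isClosed_biUnion (fun y hy => ?_)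
  have h1 : IsClosed ({y.1} : Set X) := h0 y.1 (hT hy)
  have h2 : ((↑) ⁻¹' ({y.1} : Set X) : Set ↥U.1) = {y} := by
    ext z
    simp only [Set.mem_preimage, Set.mem_singleton_iff]
    exact Subtype.ext_iff.symm
  rw [← h2]
  exact h1.preimage continuous_subtype_val

/-- A module supported in a closed set of closed points of a locally Noetherian scheme has no
higher cohomology (it is flasque). -/
theorem subsingleton_HH_of_support_subset [IsLocallyNoetherian X] (M : X.Modules) (Z : Set X)
    (hZ : IsClosed Z) (h0 : ∀ x ∈ Z, IsClosed ({x} : Set X)) (hM : CohB1.support M ⊆ Z)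
    (i : ℕ) (hi : 0 < i) : Subsingleton (Coh.HH X M i) := by
  obtain ⟨n, rfl⟩ := Nat.exists_eq_succ_of_ne_zero hi.ne'
  have hfl : TopCat.Sheaf.IsFlasque (ab' M) := by
    constructor
    intro W W' i
    rw [AddCommGrpCat.epi_iff_surjective]
    intro s
    have hle : W'.unop ≤ W.unop := i.unop.le
    let T : Set X := Z ∩ (W'.unop : Set X)
    have hTc : IsClosed T := isClosed_of_subset Z hZ h0 T Set.inter_subset_left
    let W₂ : X.Opens := W.unop ⊓ ⟨Tᶜ, hTc.isOpen_compl⟩
    have hcov : W.unop ≤ W'.unop ⊔ W₂ := by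
      intro x hx
      by_cases hxT : x ∈ T
      · left; exact hxT.2
      · right; exact ⟨hx, hxT⟩
    have hdis : ∀ x ∈ W'.unop ⊓ W₂, x ∉ CohB1.support M := by
      intro x hx hxZ
      exact hx.2.2 ⟨hM hxZ, hx.1⟩
    have hz : (ab' M).obj.map (homOfLE (inf_le_left : W'.unop ⊓ W₂ ≤ W'.unop)).op s =
        (ab' M).obj.map (homOfLE (inf_le_right : W'.unop ⊓ W₂ ≤ W₂)).op 0 := by
      rw [map_zero]
      exact eq_zero_of_disjoint_support M (W'.unop ⊓ W₂) hdis _
    obtain ⟨c, hc1, -⟩ := Groth.Agent.Lib.Helper16.SectSupp.glue2 (ab' M) W'.unop W₂ W.unop hle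
      inf_le_left hcov s 0 hz
    exact ⟨c, hc1⟩
  exact Groth.Agent.Lib.Helper16.Flasque.H_subsingleton (ab' M) n

open Groth.Agent.Lib.T2H5.HHLes Groth.Agent.Lib.Helper23.QCohLocal in
/-- From the long exact sequence: `H^{i+1}(X₁)` vanishes if `H^i(X₃)` and `H^{i+1}(X₂)` do. -/
theorem subsingleton_left (S : ShortComplex X.Modules) (hS : S.ShortExact) (i : ℕ)
    (h3 : Subsingleton (Coh.HH X S.X₃ i)) (h2 : Subsingleton (Coh.HH X S.X₂ (i + 1))) :
    Subsingleton (Coh.HH X S.X₁ (i + 1)) := by
  refine ⟨fun a b => ?_⟩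
  have h0 : ∀ x : Coh.HH X S.X₁ (i + 1), x = 0 := by
    intro x
    obtain ⟨y, hy⟩ := Abelian.Ext.covariant_sequence_exact₁ _ (shortExact_toAbF S hS) x
      (@Subsingleton.elim _ h2 _ _) rfl
    have hy0 : y = 0 := @Subsingleton.elim _ h3 y 0
    rw [hy0] at hy
    exact hy.symm.trans (Abelian.Ext.zero_comp _ _ _ _ _)
  rw [h0 a, h0 b]

section Main

open Groth.Agent.Lib.T2H5.GenIsoB Groth.Agent.Lib.T2H5.Chevalley Groth.Agent.Lib.T2H5.Dim0
  Groth.Agent.Lib.Helper20.CDivLib

attribute [local instance] Groth.Agent.Lib.Helper23.QCohLocal.restrictFunctor_isRightAdjoint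

variable (k : Type u) [Field k] [X.Over (Spec (CommRingCat.of k))] [IsIntegral X]
  [IsProper (X ↘ Spec (CommRingCat.of k))]

include k in
/-- **Vanishing above the dimension on an integral proper curve.** -/
theorem subsingleton_HH_of_two_le (hdim : topologicalKrullDim X = 1) (F : X.Modules)
    [F.IsQuasicoherent] (i : ℕ) (hi : 2 ≤ i) : Subsingleton (Coh.HH X F i) := by
  haveI : IsLocallyNoetherian X :=
    LocallyOfFiniteType.isLocallyNoetherian (X ↘ Spec (CommRingCat.of k))
  obtain ⟨U, hU, hηU⟩ : ∃ U : X.Opens, IsAffineOpen U ∧ genericPoint X ∈ U := by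
    obtain ⟨_, ⟨U, hU, rfl⟩, hxU, -⟩ := X.isBasis_affineOpens.exists_subset_of_mem_open
      (Set.mem_univ (genericPoint X)) isOpen_univ
    exact ⟨U, hU, hxU⟩
  let j : (U : Scheme.{u}) ⟶ X := U.ι
  haveI : IsAffine (U : Scheme.{u}) := hU
  haveI : IsAffineHom j := by
    haveI : IsAffineHom (j ≫ (X ↘ Spec (CommRingCat.of k))) := inferInstance
    exact IsAffineHom.of_comp j (X ↘ Spec (CommRingCat.of k))
  let adj := Scheme.Modules.restrictAdjunction j
  let Rj := Scheme.Modules.restrictFunctor j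
  let Pj := Scheme.Modules.pushforward j
  let η : F ⟶ Pj.obj (Rj.obj F) := adj.unit.app F
  have hη : IsoOn η U := by
    have htri : Rj.map η ≫ adj.counit.app (Rj.obj F) = 𝟙 _ := adj.left_triangle_components F
    have : IsIso (adj.counit.app (Rj.obj F)) := inferInstance
    have : IsIso (Rj.map η) := by
      have : Rj.map η = inv (adj.counit.app (Rj.obj F)) := IsIso.eq_inv_of_inv_hom_id htri
      rw [this]; infer_instance
    rw [isIso_restrict_iff, Scheme.Opens.opensRange_ι] at this
    exact this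
  let Z : Set X := (U : Set X)ᶜ
  have hZc : IsClosed Z := U.isOpen.isClosed_compl
  have hZ0 : ∀ x ∈ Z, IsClosed ({x} : Set X) := fun x hx =>
    isClosed_singleton_of_ne_genericPoint hdim.le x (by rintro rfl; exact hx hηU)
  have hK : CohB1.support (kernel η) ⊆ Z := fun y hy hyU =>
    notMem_support_kernel_of_isoOn η U hη y hyU hy
  have hC : CohB1.support (cokernel η) ⊆ Z := fun y hy hyU =>
    notMem_support_cokernel_of_isoOn η U hη y hyU hy
  have hG : ∀ p, 0 < p → Subsingleton (Coh.HH X (Pj.obj (Rj.obj F)) p) := by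
    intro p hp
    haveI : (Rj.obj F).IsQuasicoherent := inferInstance
    obtain ⟨e⟩ := Groth.Agent.S0012.result j (Rj.obj F) p
    haveI := Groth.Agent.S0007.result (U : Scheme.{u}) (Rj.obj F) p hp
    exact e.symm.injective.subsingleton
  obtain ⟨n, rfl⟩ : ∃ n, i = n + 2 := ⟨i - 2, by omega⟩
  have him : Subsingleton (Coh.HH X (kernel (cokernel.π η)) (n + 2)) :=
    subsingleton_left (cokerSC η) (cokerSC_shortExact η) (n + 1)
      (subsingleton_HH_of_support_subset (cokernel η) Z hZc hZ0 hC (n + 1) (by omega))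
      (hG (n + 2) (by omega))
  have hcoim : Subsingleton (Coh.HH X (cokernel (kernel.ι η)) (n + 2)) :=
    subsingleton_HH_of_iso (Abelian.coimageIsoImage η).symm (n + 2) him
  exact subsingleton_mid (kerSC η) (kerSC_shortExact η) (n + 2)
    (subsingleton_HH_of_support_subset (kernel η) Z hZc hZ0 hK (n + 2) (by omega)) hcoim

end Main

end Groth.Agent.Lib.T2H6.CurveVanish
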