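import Mathlib
import Groth.Prelude.Def_Curv2
import Groth.Agent.Lib.T2H6CurveDeg
import Groth.Agent.Lib.T2H6CurveVanish
import Groth.Agent.Lib.Helper27PnSections
import Groth.Agent.Lib.Helper21UnitHom

/-!
# Euler characteristic on an integral proper curve as `h⁰ - h¹`, genus zero (helper6)
-/

set_option autoImplicit false
universe u

open CategoryTheory Limits AlgebraicGeometry TopologicalSpace Opposite

namespace Groth.Agent.Lib.T2H6.CurveRR

open Groth.Agent.Lib.T2H6.CurveDeg Groth.Agent.Lib.T2H6.CurveVanish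

variable {X : Scheme.{u}}

/-- A module with a nonzero `H⁰` has a nonzero global section. -/
theorem exists_section_ne_zero (M : X.Modules) (h : Nontrivial (Coh.HH X M 0)) :
    ∃ s : Coh.structureModule X ⟶ M, s ≠ 0 := by
  by_contra hcon
  push Not at hcon
  have e1 := Groth.Agent.Lib.Helper27PnSections.hh0Equiv X M
  have e2 := Groth.Agent.Lib.Helper21.UnitHom.unitHomAddEquiv
    (R := X.ringCatSheaf) (T := (⊤ : X.Opens)) isTerminalTop M
  haveI : Subsingleton (SheafOfModules.unit X.ringCatSheaf ⟶ M) :=
    ⟨fun a b => (hcon a).trans (hcon b).symm⟩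
  have h2 : Subsingleton ((Coh.toAb M).obj.obj (op (⊤ : Opens X))) :=
    e2.symm.injective.subsingleton
  have h3 : Subsingleton (Coh.HH X M 0) := e1.injective.subsingleton
  exact not_subsingleton _ h3

variable (k : Type u) [Field k] [X.Over (Spec (CommRingCat.of k))] [IsIntegral X]
  [IsProper (X ↘ Spec (CommRingCat.of k))]

/-- `χ = h⁰ - h¹` on an integral proper curve. -/
theorem euler_eq_sub (hdim : topologicalKrullDim X = 1) (F : X.Modules) [F.IsQuasicoherent] :
    Curv2.euler k X F =
      (Module.finrank k (Coh.HH X F 0) : ℤ) - (Module.finrank k (Coh.HH X F 1) : ℤ) := by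
  rw [Groth.Agent.Lib.T2H6.EulerField.euler_eq_sum k X F 1
    (fun i hi => subsingleton_HH_of_two_le k hdim F i (by omega))]
  simp [Finset.sum_range_succ]
  ring

theorem isQuasicoherent_of_isInvertible (L : X.Modules) (hL : PicF.IsInvertible L) :
    L.IsQuasicoherent := (isCoh_of_isInvertible L hL).1

/-- In genus zero an invertible module of degree zero is trivial. -/
theorem iso_of_genus_zero_deg_zero (hdim : topologicalKrullDim X = 1)
    (h0 : Module.finrank k (Coh.HH X (Coh.structureModule X) 0) = 1) (hg : Curv2.genus k X = 0)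
    (L : X.Modules) (hL : PicF.IsInvertible L) (hdeg : Curv2.deg k X L 1 = 0) :
    Nonempty (L ≅ Coh.structureModule X) := by
  haveI := isQuasicoherent_of_isInvertible L hL
  haveI := isQuasicoherent_of_isInvertible (Coh.structureModule X)
    (Groth.Agent.Lib.Helper23.TensorUnit.isInvertible_structureModule X)
  have hO := euler_eq_sub k hdim (Coh.structureModule X)
  have hLe := euler_eq_sub k hdim L
  unfold Curv2.genus at hg
  unfold Curv2.deg at hdeg
  rw [h0, hg] at hO
  rw [hO, hLe] at hdeg
  have hpos : 0 < Module.finrank k (Coh.HH X L 0) := by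
    have : (0 : ℤ) < (Module.finrank k (Coh.HH X L 0) : ℤ) := by
      have : (0 : ℤ) ≤ (Module.finrank k (Coh.HH X L 1) : ℤ) := Int.natCast_nonneg _
      push_cast at hdeg
      linarith
    exact_mod_cast this
  have hnt : Nontrivial (Coh.HH X L 0) := Module.nontrivial_of_finrank_pos (R := k) hpos
  obtain ⟨s, hs⟩ := exists_section_ne_zero L hnt
  have hdeg' : Curv2.deg k X L 1 ≤ 0 := by
    unfold Curv2.deg
    rw [hO, hLe]
    exact hdeg.le
  haveI := isIso_of_deg_nonpos k hdim L hL s hs hdeg'
  exact ⟨(asIso s).symm⟩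

/-- In genus zero an invertible module of positive degree `d` has `h⁰ = d + 1` and `h¹ = 0`. -/
theorem h0_h1_of_genus_zero (hdim : topologicalKrullDim X = 1)
    (h0 : Module.finrank k (Coh.HH X (Coh.structureModule X) 0) = 1) (hg : Curv2.genus k X = 0)
    (L : X.Modules) (hL : PicF.IsInvertible L) (d : ℕ) (hd : 0 < d)
    (hdeg : Curv2.deg k X L 1 = d) :
    Module.finrank k (Coh.HH X L 0) = d + 1 ∧ Subsingleton (Coh.HH X L 1) := by
  haveI := isQuasicoherent_of_isInvertible L hL
  have hOinv := Groth.Agent.Lib.Helper23.TensorUnit.isInvertible_structureModule X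
  haveI := isQuasicoherent_of_isInvertible (Coh.structureModule X) hOinv
  haveI hloc := isLocallyNoetherian (X := X) k
  have hO := euler_eq_sub k hdim (Coh.structureModule X)
  have hLe := euler_eq_sub k hdim L
  have hg' : Module.finrank k (Coh.HH X (Coh.structureModule X) 1) = 0 := hg
  unfold Curv2.deg at hdeg
  rw [h0, hg'] at hO
  rw [hO, hLe] at hdeg
  push_cast at hdeg
  have hpos : 0 < Module.finrank k (Coh.HH X L 0) := by
    have : (0 : ℤ) < (Module.finrank k (Coh.HH X L 0) : ℤ) := by
      have : (0 : ℤ) ≤ (Module.finrank k (Coh.HH X L 1) : ℤ) := Int.natCast_nonneg _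
      have : (0 : ℤ) < (d : ℤ) := by exact_mod_cast hd
      linarith
    exact_mod_cast this
  have hnt : Nontrivial (Coh.HH X L 0) := Module.nontrivial_of_finrank_pos (R := k) hpos
  obtain ⟨s, hs⟩ := exists_section_ne_zero L hnt
  -- H¹(O) = 0
  haveI : Module.Finite k (Coh.HH X (Coh.structureModule X) 1) :=
    Groth.Agent.Lib.T2H6.EulerField.finite_HH k X _ (isCoh_of_isInvertible _ hOinv) 1
  have hO1 : Subsingleton (Coh.HH X (Coh.structureModule X) 1) := Module.finrank_zero_iff.mp hg'
  have hQ1 : Subsingleton (Coh.HH X (cokernel s) 1) :=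
    Groth.Agent.S0047.result X _ (isCoh_cokernel hOinv hL s)
      (isClosed_of_mem_support hdim hOinv hL s hs) 1 Nat.one_pos
  have hL1 : Subsingleton (Coh.HH X L 1) :=
    Groth.Agent.Lib.T2H5.Dim0.subsingleton_mid (sc s) (sc_shortExact hOinv hL s hs) 1 hO1 hQ1
  refine ⟨?_, hL1⟩
  have h1 : Module.finrank k (Coh.HH X L 1) = 0 := Module.finrank_zero_of_subsingleton
  rw [h1] at hdeg
  have : (Module.finrank k (Coh.HH X L 0) : ℤ) = (d : ℤ) + 1 := by
    push_cast at hdeg
    linarith
  exact_mod_cast this

end Groth.Agent.Lib.T2H6.CurveRR
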