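import Mathlib
import Groth.Prelude.Def_Curv2
import Groth.Agent.Lib.T2H6CurveRR
import Groth.Agent.Lib.T2H6CurveTors
import Groth.Agent.Lib.T2H5T2Les

/-!
# Degrees of submodules on a proper integral curve (helper6)

`χ(F) ≤ h⁰(F) ≤ h⁰(E)` for a coherent submodule `F ⊆ E` of a coherent module on a proper integral
curve; ranks of locally free submodules; boundedness of degrees of locally free submodules.
-/

set_option autoImplicit false
universe u

open AlgebraicGeometry CategoryTheory Limits

namespace Groth.Agent.Lib.T2H6.CurveSub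

open Groth.Agent.Lib.T2H6.CurveDeg Groth.Agent.Lib.T2H6.CurveRR
  Groth.Agent.Lib.Helper4.NormDelta Groth.Agent.Lib.Helper23.StalkLin

variable {X : Scheme.{u}}

/-- The rank of a locally free submodule is at most the rank of the ambient locally free module. -/
theorem rank_le_of_mono [Nonempty X] {F E : X.Modules} (i : F ⟶ E) [Mono i] (r' r : ℕ)
    (hF : FlatMod.IsFinLocFreeOfRank r' F) (hE : FlatMod.IsFinLocFreeOfRank r E) : r' ≤ r := by
  obtain ⟨x⟩ := ‹Nonempty X›
  obtain ⟨f1, g1, r1⟩ := Groth.Agent.Lib.T2H6.RankAdd.free_finite_stalk F r' hF x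
  obtain ⟨f2, g2, r2⟩ := Groth.Agent.Lib.T2H6.RankAdd.free_finite_stalk E r hE x
  have := LinearMap.finrank_le_finrank_of_injective (stalkLin_injective i x)
  rwa [r1, r2] at this

theorem sc_shortExact {E F : X.Modules} (f : E ⟶ F) [Mono f] : (sc f).ShortExact :=
  haveI : Mono (sc f).f := inferInstanceAs (Mono f)
  haveI : Epi (sc f).g := inferInstanceAs (Epi (cokernel.π f))
  ShortComplex.ShortExact.mk (ShortComplex.exact_cokernel f)

variable (k : Type u) [Field k] [X.Over (Spec (CommRingCat.of k))]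
  [IsProper (X ↘ Spec (CommRingCat.of k))]

/-- `h⁰(F) ≤ h⁰(E)` for a submodule `F ⊆ E` of a coherent module on a proper `k`-scheme. -/
theorem h0_le_of_mono {F E : X.Modules} (hE : Coh.IsCoh E) (i : F ⟶ E) [Mono i] :
    Module.finrank k (Coh.HH X F 0) ≤ Module.finrank k (Coh.HH X E 0) := by
  haveI : Module.Finite k (Coh.HH X E 0) :=
    Groth.Agent.Lib.T2H6.EulerField.finite_HH k X _ hE 0
  have hinj := Groth.Agent.Lib.T2H5.T2Les.injective_f_zero (A := k) (sc i)
    (sc_shortExact i)
  exact LinearMap.finrank_le_finrank_of_injective hinj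

variable [IsIntegral X]

/-- `χ(F) ≤ h⁰(F)` on a proper integral curve. -/
theorem euler_le_h0 (hdim : topologicalKrullDim X = 1) (F : X.Modules) [F.IsQuasicoherent] :
    Curv2.euler k X F ≤ (Module.finrank k (Coh.HH X F 0) : ℤ) := by
  rw [euler_eq_sub k hdim F]
  have : (0 : ℤ) ≤ (Module.finrank k (Coh.HH X F 1) : ℤ) := Int.natCast_nonneg _
  linarith

/-- `χ(F) ≤ h⁰(E)` for a quasi-coherent submodule `F ⊆ E` of a coherent module. -/
theorem euler_le_h0_of_mono (hdim : topologicalKrullDim X = 1) {F E : X.Modules}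
    [F.IsQuasicoherent] (hE : Coh.IsCoh E) (i : F ⟶ E) [Mono i] :
    Curv2.euler k X F ≤ (Module.finrank k (Coh.HH X E 0) : ℤ) := by
  refine (euler_le_h0 k hdim F).trans ?_
  exact_mod_cast h0_le_of_mono k hE i

omit [IsProper (X ↘ Spec (CommRingCat.of k))] [IsIntegral X] in
theorem nontrivial_h0 [Nonempty X] : Nontrivial (Coh.HH X (Coh.structureModule X) 0) := by
  have e1 := Groth.Agent.Lib.Helper27PnSections.hh0Equiv X (Coh.structureModule X)
  haveI : Nonempty ((⊤ : X.Opens) : Set X) := ⟨⟨Classical.arbitrary X, trivial⟩⟩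
  haveI : Nontrivial ((Coh.toAb (Coh.structureModule X)).obj.obj
      (Opposite.op (⊤ : TopologicalSpace.Opens X))) :=
    inferInstanceAs (Nontrivial Γ(X, ⊤))
  exact e1.symm.injective.nontrivial

omit [IsIntegral X] in
theorem one_le_h0 [Nonempty X] :
    1 ≤ Module.finrank k (Coh.HH X (Coh.structureModule X) 0) := by
  haveI := nontrivial_h0 (X := X)
  haveI : IsLocallyNoetherian X :=
    LocallyOfFiniteType.isLocallyNoetherian (X ↘ Spec (CommRingCat.of k))
  haveI : Module.Finite k (Coh.HH X (Coh.structureModule X) 0) :=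
    Groth.Agent.Lib.T2H6.EulerField.finite_HH k X _
      (Groth.Agent.Lib.T2H6.CurveDeg.isCoh_of_isInvertible _
        (Groth.Agent.Lib.Helper23.TensorUnit.isInvertible_structureModule X)) 0
  exact Module.finrank_pos

/-- `deg F ≤ h⁰(E) + r' (g - h⁰(O))` for a quasi-coherent submodule `F ⊆ E`. -/
theorem deg_le_of_mono (hdim : topologicalKrullDim X = 1) {F E : X.Modules}
    [F.IsQuasicoherent] (hE : Coh.IsCoh E) (i : F ⟶ E) [Mono i] (r' : ℕ) :
    Curv2.deg k X F r' ≤ (Module.finrank k (Coh.HH X E 0) : ℤ) +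
      (r' : ℤ) * ((Curv2.genus k X : ℤ) -
        (Module.finrank k (Coh.HH X (Coh.structureModule X) 0) : ℤ)) := by
  have h := euler_le_h0_of_mono k hdim hE i
  haveI := isQuasicoherent_of_isInvertible (Coh.structureModule X)
    (Groth.Agent.Lib.Helper23.TensorUnit.isInvertible_structureModule X)
  have hO := euler_eq_sub k hdim (Coh.structureModule X)
  unfold Curv2.deg Curv2.genus
  rw [hO]
  linarith

end Groth.Agent.Lib.T2H6.CurveSub
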