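import Mathlib
import Groth.Prelude.Def_Curv2
import Groth.Agent.Lib.T2H6CurveSub
import Groth.Agent.Lib.Helper10CurveFlat
import Groth.Agent.Lib.Helper19ComplDVR
import Groth.Agent.Lib.Helper2LocFree
import Groth.Agent.Lib.Helper2RankLoc
import Groth.Agent.Lib.Helper23FinPres
import Groth.Agent.Lib.T2H5GenIsoB

/-!
# Vector bundles on regular curves (helper6)

On an integral locally Noetherian scheme of dimension `≤ 1` with regular local rings, every
quasi-coherent submodule of a finite locally free module is finite locally free of constant rank.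
-/

set_option autoImplicit false
universe u

open AlgebraicGeometry CategoryTheory Limits

namespace Groth.Agent.Lib.T2H6.CurveVB

open Groth.Agent.Lib.Helper4.NormDelta Groth.Agent.Lib.Helper23.StalkLin
  Groth.Agent.Lib.Helper2.RankLoc

variable {X : Scheme.{u}} [IsIntegral X]

/-- The local rings of a regular integral scheme of dimension `≤ 1` are principal ideal domains. -/
theorem isPrincipalIdealRing_stalk [IsLocallyNoetherian X] (hdim : topologicalKrullDim X ≤ 1)
    (hreg : ∀ x : X, IsRegularLocalRing (X.presheaf.stalk x)) (x : X) :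
    IsPrincipalIdealRing (X.presheaf.stalk x) := by
  have hc : Order.coheight x ≤ 1 :=
    Groth.Agent.Lib.Helper10.CurveFlat.coheight_le_of_topologicalKrullDim_le X 1
      (by exact_mod_cast hdim) x
  have hk := ringKrullDim_stalk_eq_coheight x
  by_cases h1 : Order.coheight x = 1
  · have hd : ringKrullDim (X.presheaf.stalk x) = 1 := by
      rw [hk, h1]
      rfl
    obtain ⟨_, hdvr⟩ := (Groth.Agent.Lib.Helper19.isDiscreteValuationRing_iff_regular_dim_one
      (X.presheaf.stalk x)).mpr ⟨hreg x, hd⟩
    exact hdvr.toIsPrincipalIdealRing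
  · have h0 : Order.coheight x = 0 := by
      have : Order.coheight x < 1 := lt_of_le_of_ne hc h1
      exact Order.lt_one_iff.mp this
    have : Ring.KrullDimLE 0 (X.presheaf.stalk x) := krullDimLE_of_coheight_le (n := 0) h0.le
    have hF : IsField (X.presheaf.stalk x) := Ring.KrullDimLE.isField_of_isDomain
    letI := hF.toField
    infer_instance

/-- A submodule of a module with free stalk at `x` is flat at `x` when the local ring is a PID. -/
theorem isFlatAt_of_mono {G E : X.Modules} (i : G ⟶ E) [Mono i] (x : X)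
    (hpid : IsPrincipalIdealRing (X.presheaf.stalk x))
    (hfree : Module.Free (X.presheaf.stalk x) (E.presheaf.stalk x)) : FlatMod.IsFlatAt G x := by
  haveI := hpid
  haveI := hfree
  haveI : Module.IsTorsionFree (X.presheaf.stalk x) (G.presheaf.stalk x) :=
    Function.Injective.moduleIsTorsionFree (stalkLin i x) (stalkLin_injective i x)
      (fun r m => map_smul _ r m)
  change Module.Flat (X.presheaf.stalk x) (G.presheaf.stalk x)
  infer_instance

/-- A finite locally free module of locally constant rank on an irreducible scheme has a rank. -/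
theorem exists_rank (G : X.Modules) [G.IsQuasicoherent] (h : FlatMod.IsFinLocFree G) :
    FlatMod.IsFinLocFreeOfRank (fibreRank G (genericPoint X)) G := by
  obtain ⟨-, hlc⟩ := isLocallyConstant_fibreRank_of_isFinLocFree G h
  intro x
  obtain ⟨U, n, hxU, ⟨e⟩⟩ := h x
  have h1 := (fibreRank_eq_of_restrict_iso_freeMod U.ι G e ⟨x, hxU⟩).2
  have h2 : fibreRank G x = fibreRank G (genericPoint X) :=
    hlc.apply_eq_of_isPreconnected isPreconnected_univ (Set.mem_univ _) (Set.mem_univ _)
  have h3 : fibreRank G x = n := h1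
  refine ⟨U, hxU, ⟨?_⟩⟩
  rw [← h2, h3]
  exact e

/-- **Submodules of vector bundles on a regular curve are vector bundles.** -/
theorem isFinLocFreeOfRank_of_mono [IsLocallyNoetherian X] (hdim : topologicalKrullDim X ≤ 1)
    (hreg : ∀ x : X, IsRegularLocalRing (X.presheaf.stalk x)) {G E : X.Modules} (i : G ⟶ E)
    [Mono i] [G.IsQuasicoherent] (r : ℕ) (hE : FlatMod.IsFinLocFreeOfRank r E) :
    ∃ r' : ℕ, r' ≤ r ∧ FlatMod.IsFinLocFreeOfRank r' G := by
  have hEc := Groth.Agent.Lib.T2H6.RankAdd.isCoh_of_isFinLocFreeOfRank E r hE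
  haveI : E.IsQuasicoherent := hEc.1
  haveI : SheafOfModules.IsFiniteType (R := X.ringCatSheaf) E := hEc.2
  haveI : SheafOfModules.IsFiniteType (R := X.ringCatSheaf) G :=
    Groth.Agent.Lib.Helper23.FinType.isFiniteType_of_mono i
  haveI : SheafOfModules.IsFinitePresentation (R := X.ringCatSheaf) G :=
    Groth.Agent.Lib.Helper23.FinType.isFinitePresentation_of_isFiniteType G
  have hG : FlatMod.IsFinLocFree G := by
    intro x
    obtain ⟨hf, -, -⟩ := Groth.Agent.Lib.T2H6.RankAdd.free_finite_stalk E r hE x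
    exact Groth.Agent.Lib.Helper2.LocFree.exists_restrict_iso_freeMod_of_isFlatAt G x
      (isFlatAt_of_mono i x (isPrincipalIdealRing_stalk hdim hreg x) hf)
  have hr := exists_rank G hG
  refine ⟨_, ?_, hr⟩
  exact Groth.Agent.Lib.T2H6.CurveSub.rank_le_of_mono i _ r hr hE

omit [IsIntegral X] in
/-- A finite locally free module of rank zero is zero. -/
theorem isZero_of_rank_zero (G : X.Modules) (h : FlatMod.IsFinLocFreeOfRank 0 G) : IsZero G := by
  rw [IsZero.iff_id_eq_zero]
  refine Groth.Agent.Lib.T2H6.InvMono.eq_zero_of_stalkLin_eq_zero (𝟙 G) ?_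
  intro z
  ext g
  obtain ⟨hf, hfin, hr⟩ := Groth.Agent.Lib.T2H6.RankAdd.free_finite_stalk G 0 h z
  haveI := hf
  haveI := hfin
  haveI : Subsingleton (G.presheaf.stalk z) :=
    (Module.finrank_eq_zero_iff_of_free (X.presheaf.stalk z) _).mp hr
  exact Subsingleton.elim (α := G.presheaf.stalk z) _ _

/-- The short complex `0 → ker f → E → im f → 0`. -/
noncomputable def kerImSC {E F : X.Modules} (f : E ⟶ F) : ShortComplex X.Modules :=
  ShortComplex.mk (kernel.ι f) (Abelian.factorThruImage f) (by
    rw [← cancel_mono (Abelian.image.ι f), Category.assoc, Abelian.image.fac, kernel.condition,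
      zero_comp])

omit [IsIntegral X] in
theorem kerImSC_shortExact {E F : X.Modules} (f : E ⟶ F) : (kerImSC f).ShortExact := by
  haveI : Mono (kerImSC f).f := inferInstanceAs (Mono (kernel.ι f))
  haveI : Epi (kerImSC f).g := inferInstanceAs (Epi (Abelian.factorThruImage f))
  refine ShortComplex.ShortExact.mk (ShortComplex.exact_of_f_is_kernel _ ?_)
  exact isKernelOfComp (f := Abelian.factorThruImage f) (Abelian.image.ι f) f
    (kernelIsKernel f) (kerImSC f).zero (Abelian.image.fac f)

omit [IsIntegral X] in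
theorem isCoh_image [IsLocallyNoetherian X] {E F : X.Modules} (f : E ⟶ F) (hE : Coh.IsCoh E)
    (hF : Coh.IsCoh F) : Coh.IsCoh (Abelian.image f) :=
  Groth.Agent.Lib.T2H5.GenIsoB.isCoh_kernel (cokernel.π f) hF
    (Groth.Agent.Lib.T2H5.GenIsoB.isCoh_cokernel f hE hF)

variable (k : Type u) [Field k] [X.Over (Spec (CommRingCat.of k))]
  [IsProper (X ↘ Spec (CommRingCat.of k))]

/-- Kernel and image of a map of vector bundles on a regular proper curve are vector bundles, with
additive ranks and degrees. -/
theorem ker_im_data (hdim : topologicalKrullDim X = 1)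
    (hreg : ∀ x : X, IsRegularLocalRing (X.presheaf.stalk x)) {E F : X.Modules} (f : E ⟶ F)
    (r s : ℕ) (hE : FlatMod.IsFinLocFreeOfRank r E) (hF : FlatMod.IsFinLocFreeOfRank s F) :
    ∃ rK rI : ℕ, FlatMod.IsFinLocFreeOfRank rK (kernel f) ∧
      FlatMod.IsFinLocFreeOfRank rI (Abelian.image f) ∧ r = rK + rI ∧ rI ≤ s ∧
      Curv2.deg k X E r = Curv2.deg k X (kernel f) rK + Curv2.deg k X (Abelian.image f) rI := by
  haveI : IsLocallyNoetherian X :=
    LocallyOfFiniteType.isLocallyNoetherian (X ↘ Spec (CommRingCat.of k))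
  have hEc := Groth.Agent.Lib.T2H6.RankAdd.isCoh_of_isFinLocFreeOfRank E r hE
  have hFc := Groth.Agent.Lib.T2H6.RankAdd.isCoh_of_isFinLocFreeOfRank F s hF
  haveI : (kernel f).IsQuasicoherent := (Groth.Agent.Lib.T2H5.GenIsoB.isCoh_kernel f hEc hFc).1
  haveI : (Abelian.image f).IsQuasicoherent := (isCoh_image f hEc hFc).1
  obtain ⟨rK, -, hK⟩ := isFinLocFreeOfRank_of_mono hdim.le hreg (kernel.ι f) r hE
  obtain ⟨rI, hIs, hI⟩ := isFinLocFreeOfRank_of_mono hdim.le hreg (Abelian.image.ι f) s hF
  refine ⟨rK, rI, hK, hI, ?_, hIs, ?_⟩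
  · exact Groth.Agent.Lib.T2H6.RankAdd.rank_add (kerImSC f) (kerImSC_shortExact f) rK r rI hK hE hI
      (genericPoint X)
  · exact Groth.Agent.Lib.T2H6.RankAdd.deg_additive k (kerImSC f) (kerImSC_shortExact f) rK r rI
      hK hE hI

end Groth.Agent.Lib.T2H6.CurveVB
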