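import Mathlib
import Groth.Prelude.Def_Curv2
import Groth.Agent.Lib.T2H6CurveVB
import Groth.Agent.Lib.T2H6CurveTors

/-!
# Semistable bundles on regular proper curves: maps between them (helper6)
-/

set_option autoImplicit false
universe u

open AlgebraicGeometry CategoryTheory Limits

namespace Groth.Agent.Lib.T2H6.CurveSS

open Groth.Agent.Lib.Helper4.NormDelta Groth.Agent.Lib.Helper23.StalkLin
  Groth.Agent.Lib.T2H6.CurveVB

variable {X : Scheme.{u}} [IsIntegral X]

omit [IsIntegral X] in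
theorem eq_zero_of_isZero_image {E F : X.Modules} (f : E ⟶ F) (h : IsZero (Abelian.image f)) :
    f = 0 := by
  rw [← Abelian.image.fac f, h.eq_of_tgt (Abelian.factorThruImage f) 0, zero_comp]

variable (k : Type u) [Field k] [X.Over (Spec (CommRingCat.of k))]
  [IsProper (X ↘ Spec (CommRingCat.of k))]

/-- A map from a semistable bundle to a bundle all of whose subbundles have smaller slope
vanishes. -/
theorem hom_eq_zero (hdim : topologicalKrullDim X = 1)
    (hreg : ∀ x : X, IsRegularLocalRing (X.presheaf.stalk x))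
    (r s : ℕ) (hr : 0 < r) (E F : X.Modules)
    (hE : FlatMod.IsFinLocFreeOfRank r E) (hF : FlatMod.IsFinLocFreeOfRank s F)
    (hEss : ∀ (G : X.Modules) (r' : ℕ) (i : G ⟶ E), Mono i → 0 < r' →
      FlatMod.IsFinLocFreeOfRank r' G → Curv2.deg k X G r' * (r : ℤ) ≤ Curv2.deg k X E r * (r' : ℤ))
    (hmax : ∀ (G : X.Modules) (r' : ℕ) (i : G ⟶ F), Mono i → 0 < r' →
      FlatMod.IsFinLocFreeOfRank r' G → Curv2.deg k X G r' * (r : ℤ) < Curv2.deg k X E r * (r' : ℤ))
    (f : E ⟶ F) : f = 0 := by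
  obtain ⟨rK, rI, hK, hI, hrk, -, hdeg⟩ := ker_im_data k hdim hreg f r s hE hF
  by_contra hf
  have hrI : 0 < rI := by
    rcases Nat.eq_zero_or_pos rI with h0 | h0
    · subst h0
      exact absurd (eq_zero_of_isZero_image f (isZero_of_rank_zero _ hI)) hf
    · exact h0
  have h1 := hmax _ rI (Abelian.image.ι f) inferInstance hrI hI
  rcases Nat.eq_zero_or_pos rK with h0 | h0
  · subst h0
    haveI : Mono f := Preadditive.mono_of_isZero_kernel f (isZero_of_rank_zero _ hK)
    have := hmax E r f inferInstance hr hE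
    exact lt_irrefl _ this
  · have h2 := hEss _ rK (kernel.ι f) inferInstance h0 hK
    have hrk' : (r : ℤ) = (rK : ℤ) + (rI : ℤ) := by exact_mod_cast hrk
    rw [hdeg, hrk'] at h1 h2
    linarith

/-- The cokernel of a mono of bundles of the same rank vanishes generically. -/
theorem subsingleton_cokernel_generic {E F : X.Modules} (f : E ⟶ F) [Mono f] (r : ℕ)
    (hE : FlatMod.IsFinLocFreeOfRank r E) (hF : FlatMod.IsFinLocFreeOfRank r F) :
    Subsingleton ((cokernel f).presheaf.stalk (genericPoint X)) := by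
  obtain ⟨f1, g1, r1⟩ := Groth.Agent.Lib.T2H6.RankAdd.free_finite_stalk E r hE (genericPoint X)
  obtain ⟨f2, g2, r2⟩ := Groth.Agent.Lib.T2H6.RankAdd.free_finite_stalk F r hF (genericPoint X)
  letI : Field (X.presheaf.stalk (genericPoint X)) :=
    inferInstanceAs (Field X.functionField)
  haveI := g1
  haveI := g2
  have hinj := stalkLin_injective f (genericPoint X)
  have hsurj : Function.Surjective (stalkLin f (genericPoint X)) :=
    (LinearMap.injective_iff_surjective_of_finrank_eq_finrank (r1.trans r2.symm)).mp hinj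
  refine ⟨fun a b => ?_⟩
  have key : ∀ q : (cokernel f).presheaf.stalk (genericPoint X), q = 0 := by
    intro q
    obtain ⟨l, rfl⟩ := stalkLin_surjective (cokernel.π f) (genericPoint X) q
    obtain ⟨n, rfl⟩ := hsurj l
    exact ((stalkLin_exact (Groth.Agent.Lib.T2H6.CurveDeg.sc f)
      (Groth.Agent.Lib.T2H6.CurveSub.sc_shortExact f) (genericPoint X)) _).mpr ⟨n, rfl⟩
  rw [key a, key b]

/-- A full rank subbundle has smaller degree, with equality iff it is everything. -/
theorem deg_le_and_eq_iff_of_rank_eq (hdim : topologicalKrullDim X = 1) {E F : X.Modules}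
    (f : E ⟶ F) [Mono f] (r : ℕ)
    (hE : FlatMod.IsFinLocFreeOfRank r E) (hF : FlatMod.IsFinLocFreeOfRank r F) :
    Curv2.deg k X E r ≤ Curv2.deg k X F r ∧ (Curv2.deg k X E r = Curv2.deg k X F r ↔ IsIso f) :=
  Groth.Agent.Lib.T2H6.CurveTors.deg_le_and_eq_iff k hdim
    (Groth.Agent.Lib.T2H6.RankAdd.isCoh_of_isFinLocFreeOfRank E r hE)
    (Groth.Agent.Lib.T2H6.RankAdd.isCoh_of_isFinLocFreeOfRank F r hF) f
    (subsingleton_cokernel_generic f r hE hF) r

/-- Kernel/image analysis of a nonzero map of bundles. -/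
theorem ker_im_data' (hdim : topologicalKrullDim X = 1)
    (hreg : ∀ x : X, IsRegularLocalRing (X.presheaf.stalk x)) {E F : X.Modules} (f : E ⟶ F)
    (hf : f ≠ 0) (r s : ℕ) (hE : FlatMod.IsFinLocFreeOfRank r E)
    (hF : FlatMod.IsFinLocFreeOfRank s F) :
    ∃ rK rI : ℕ, FlatMod.IsFinLocFreeOfRank rK (kernel f) ∧
      FlatMod.IsFinLocFreeOfRank rI (Abelian.image f) ∧ r = rK + rI ∧ rI ≤ s ∧ 0 < rI ∧
      Curv2.deg k X E r = Curv2.deg k X (kernel f) rK + Curv2.deg k X (Abelian.image f) rI ∧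
      (rK = 0 → Mono f) ∧
      (rI = s → Curv2.deg k X (Abelian.image f) rI ≤ Curv2.deg k X F s) := by
  obtain ⟨rK, rI, hK, hI, hrk, hIs, hdeg⟩ := ker_im_data k hdim hreg f r s hE hF
  refine ⟨rK, rI, hK, hI, hrk, hIs, ?_, hdeg, ?_, ?_⟩
  · rcases Nat.eq_zero_or_pos rI with h0 | h0
    · subst h0
      exact absurd (eq_zero_of_isZero_image f (isZero_of_rank_zero _ hI)) hf
    · exact h0
  · intro h0
    subst h0
    exact Preadditive.mono_of_isZero_kernel f (isZero_of_rank_zero _ hK)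
  · intro h
    subst h
    exact (deg_le_and_eq_iff_of_rank_eq k hdim (Abelian.image.ι f) rI hI hF).1

/-- A nonzero map between stable bundles of the same slope is an isomorphism. -/
theorem isIso_of_stable (hdim : topologicalKrullDim X = 1)
    (hreg : ∀ x : X, IsRegularLocalRing (X.presheaf.stalk x))
    (r s : ℕ) (hr : 0 < r) (hs : 0 < s) (E F : X.Modules)
    (hE : FlatMod.IsFinLocFreeOfRank r E) (hF : FlatMod.IsFinLocFreeOfRank s F)
    (hEst : ∀ (G : X.Modules) (r' : ℕ) (i : G ⟶ E), Mono i → 0 < r' → r' < r →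
      FlatMod.IsFinLocFreeOfRank r' G → Curv2.deg k X G r' * (r : ℤ) < Curv2.deg k X E r * (r' : ℤ))
    (hFst : ∀ (G : X.Modules) (r' : ℕ) (i : G ⟶ F), Mono i → 0 < r' → r' < s →
      FlatMod.IsFinLocFreeOfRank r' G → Curv2.deg k X G r' * (s : ℤ) < Curv2.deg k X F s * (r' : ℤ))
    (hμ : Curv2.deg k X E r * (s : ℤ) = Curv2.deg k X F s * (r : ℤ))
    (f : E ⟶ F) (hf : f ≠ 0) : IsIso f := by
  obtain ⟨rK, rI, hK, hI, hrk, hIs, hrI, hdeg, hmono, hfull⟩ :=
    ker_im_data' k hdim hreg f hf r s hE hF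
  have hr0 : (0 : ℤ) < (r : ℤ) := by exact_mod_cast hr
  have hs0 : (0 : ℤ) < (s : ℤ) := by exact_mod_cast hs
  have hrI0 : (0 : ℤ) < (rI : ℤ) := by exact_mod_cast hrI
  have hrk' : (r : ℤ) = (rK : ℤ) + (rI : ℤ) := by exact_mod_cast hrk
  have hK0 : rK = 0 := by
    by_contra hne
    have hKpos : 0 < rK := Nat.pos_of_ne_zero hne
    have h1 := hEst _ rK (kernel.ι f) inferInstance hKpos (by omega) hK
    -- deg I * r > deg E * rI
    have h2 : Curv2.deg k X E r * (rI : ℤ) < Curv2.deg k X (Abelian.image f) rI * (r : ℤ) := by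
      rw [hdeg, hrk'] at h1 ⊢
      linarith
    rcases Nat.lt_or_ge rI s with hlt | hge
    · have h3 := hFst _ rI (Abelian.image.ι f) inferInstance hrI hlt hI
      nlinarith [mul_lt_mul_of_pos_right h2 hs0, mul_lt_mul_of_pos_right h3 hr0]
    · have hIs' : rI = s := le_antisymm hIs hge
      have h3 := hfull hIs'
      subst hIs'
      nlinarith [mul_le_mul_of_nonneg_right h3 hr0.le]
  haveI := hmono hK0
  have hrI' : rI = r := by omega
  have hrs : r = s := by
    by_contra hne
    have hlt : r < s := lt_of_le_of_ne (hrI' ▸ hIs) hne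
    have := hFst E r f inferInstance hr hlt hE
    rw [hμ] at this
    exact lt_irrefl _ this
  subst hrs
  have hdegeq : Curv2.deg k X E r = Curv2.deg k X F r := by
    have := mul_right_cancel₀ hr0.ne' hμ
    exact this
  exact ((deg_le_and_eq_iff_of_rank_eq k hdim f r hE hF).2).mp hdegeq

/-- A nonzero map between semistable bundles of the same rank and degree, one of which is stable,
is an isomorphism. -/
theorem isIso_of_semistable_of_stable (hdim : topologicalKrullDim X = 1)
    (hreg : ∀ x : X, IsRegularLocalRing (X.presheaf.stalk x))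
    (r : ℕ) (hr : 0 < r) (E F : X.Modules)
    (hE : FlatMod.IsFinLocFreeOfRank r E) (hF : FlatMod.IsFinLocFreeOfRank r F)
    (hdegeq : Curv2.deg k X E r = Curv2.deg k X F r)
    (hEss : ∀ (G : X.Modules) (r' : ℕ) (i : G ⟶ E), Mono i → 0 < r' →
      FlatMod.IsFinLocFreeOfRank r' G → Curv2.deg k X G r' * (r : ℤ) ≤ Curv2.deg k X E r * (r' : ℤ))
    (hFss : ∀ (G : X.Modules) (r' : ℕ) (i : G ⟶ F), Mono i → 0 < r' →
      FlatMod.IsFinLocFreeOfRank r' G → Curv2.deg k X G r' * (r : ℤ) ≤ Curv2.deg k X F r * (r' : ℤ))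
    (hst : (∀ (G : X.Modules) (r' : ℕ) (i : G ⟶ E), Mono i → 0 < r' → r' < r →
        FlatMod.IsFinLocFreeOfRank r' G →
        Curv2.deg k X G r' * (r : ℤ) < Curv2.deg k X E r * (r' : ℤ)) ∨
      (∀ (G : X.Modules) (r' : ℕ) (i : G ⟶ F), Mono i → 0 < r' → r' < r →
        FlatMod.IsFinLocFreeOfRank r' G →
        Curv2.deg k X G r' * (r : ℤ) < Curv2.deg k X F r * (r' : ℤ)))
    (f : E ⟶ F) (hf : f ≠ 0) : IsIso f := by
  obtain ⟨rK, rI, hK, hI, hrk, hIs, hrI, hdeg, hmono, -⟩ :=
    ker_im_data' k hdim hreg f hf r r hE hF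
  have hrk' : (r : ℤ) = (rK : ℤ) + (rI : ℤ) := by exact_mod_cast hrk
  have hK0 : rK = 0 := by
    by_contra hne
    have hKpos : 0 < rK := Nat.pos_of_ne_zero hne
    have hI1 := hFss _ rI (Abelian.image.ι f) inferInstance hrI hI
    have hK1 := hEss _ rK (kernel.ι f) inferInstance hKpos hK
    rcases hst with h | h
    · have h1 := h _ rK (kernel.ι f) inferInstance hKpos (by omega) hK
      rw [← hdegeq, hdeg, hrk'] at hI1
      rw [hdeg, hrk'] at h1
      linarith
    · have h1 := h _ rI (Abelian.image.ι f) inferInstance hrI (by omega) hI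
      rw [← hdegeq, hdeg, hrk'] at h1
      rw [hdeg, hrk'] at hK1
      linarith
  haveI := hmono hK0
  exact ((deg_le_and_eq_iff_of_rank_eq k hdim f r hE hF).2).mp hdegeq

end Groth.Agent.Lib.T2H6.CurveSS
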