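import Mathlib
import Groth.Prelude.Def_Curv2

/-!
# Residue fields at closed points of schemes locally of finite type over a field are finite (helper6)
-/

set_option autoImplicit false
universe u

open AlgebraicGeometry CategoryTheory Limits

namespace Groth.Agent.Lib.T2H6.ResFinite

variable (k : Type u) [Field k] (X : Scheme.{u}) [X.Over (Spec (CommRingCat.of k))]

/-- The structure ring map `k → Γ(X, ⊤)` as a morphism of commutative rings. -/
noncomputable def tg : CommRingCat.of k ⟶ Γ(X, ⊤) :=
  (Scheme.ΓSpecIso (CommRingCat.of k)).inv ≫ (X ↘ Spec (CommRingCat.of k)).appTop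

theorem over_eq : (X ↘ Spec (CommRingCat.of k)) = X.toSpecΓ ≫ Spec.map (tg k X) := by
  have h := Scheme.toSpecΓ_naturality (X ↘ Spec (CommRingCat.of k))
  have h2 : (Spec (CommRingCat.of k)).toSpecΓ = Spec.map (Scheme.ΓSpecIso (CommRingCat.of k)).hom :=
    (SpecMap_ΓSpecIso_hom _).symm
  unfold tg
  rw [Spec.map_comp, ← Category.assoc, ← h, h2, Category.assoc, ← Spec.map_comp,
    Iso.inv_hom_id, Spec.map_id, Category.comp_id]

/-- The structure ring map `k → κ(x)` as a morphism of commutative rings. -/
noncomputable def rm (x : X) : CommRingCat.of k ⟶ X.residueField x :=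
  tg k X ≫ X.presheaf.germ ⊤ x trivial ≫ X.residue x

theorem rm_hom (x : X) : (rm k X x).hom = Curv2.resMap k X x := rfl

theorem SpecMap_rm (x : X) :
    Spec.map (rm k X x) = X.fromSpecResidueField x ≫ (X ↘ Spec (CommRingCat.of k)) := by
  conv_rhs => rw [over_eq k X]
  unfold rm
  rw [Spec.map_comp, Spec.map_comp, Scheme.fromSpecResidueField]
  simp only [Category.assoc]
  rw [Scheme.fromSpecStalk_toSpecΓ_assoc]

theorem finite_resMap [LocallyOfFiniteType (X ↘ Spec (CommRingCat.of k))] (x : X)
    (hx : IsClosed ({x} : Set X)) : (Curv2.resMap k X x).Finite := by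
  have hfin : IsFinite (X.fromSpecResidueField x ≫ (X ↘ Spec (CommRingCat.of k))) := by
    rw [isClosed_singleton_iff_isClosedImmersion] at hx
    rw [isFinite_iff_locallyOfFiniteType_of_jacobsonSpace]
    infer_instance
  rw [← SpecMap_rm] at hfin
  rw [← rm_hom]
  exact (IsFinite.SpecMap_iff _).mp hfin

theorem finite_residueField [LocallyOfFiniteType (X ↘ Spec (CommRingCat.of k))] (x : X)
    (hx : IsClosed ({x} : Set X)) :
    letI := Curv2.resAlgebra k X x
    Module.Finite k (X.residueField x) :=
  finite_resMap k X x hx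

end Groth.Agent.Lib.T2H6.ResFinite
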