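import Mathlib
import Groth.Prelude.Def_Curv2
import Groth.Prelude.Def_KLin
import Groth.Agent.Lib.T2H6CurveSS
import Groth.Agent.Lib.T2H6ResFinite
import Groth.Agent.Lib.T2H5Dev2

/-!
# Stable bundles over an algebraically closed field are simple (helper6)
-/

set_option autoImplicit false
universe u

open AlgebraicGeometry CategoryTheory Limits TensorProduct

namespace Groth.Agent.Lib.T2H6.CurveSimple

open Groth.Agent.Lib.Helper4.NormDelta Groth.Agent.Lib.Helper23.StalkLin

/-- An endomorphism of a nonzero finite free module over a local `k`-algebra with residue field finite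
over the algebraically closed field `k` has an "eigenvalue" in `k` modulo the maximal ideal. -/
theorem exists_not_bijective_sub_smul {k R M : Type u} [Field k] [IsAlgClosed k] [CommRing R]
    [IsLocalRing R] [AddCommGroup M] [Module R M] [Module.Free R M] [Module.Finite R M]
    (hM : 0 < Module.finrank R M) (σ : k →+* R)
    (hfin : ((IsLocalRing.residue R).comp σ).Finite) (φ : M →ₗ[R] M) :
    ∃ c : k, ¬ Function.Bijective (φ - σ c • (LinearMap.id : M →ₗ[R] M)) := by
  let ρ : k →+* IsLocalRing.ResidueField R := (IsLocalRing.residue R).comp σ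
  have hbijρ : Function.Bijective ρ :=
    IsAlgClosed.ringHom_bijective_of_isIntegral ρ (RingHom.IsIntegral.of_finite hfin)
  have hsurj : Function.Surjective ρ := hbijρ.2
  haveI : IsAlgClosed (IsLocalRing.ResidueField R) :=
    IsAlgClosed.of_ringEquiv k _ (RingEquiv.ofBijective ρ hbijρ)
  have hrk : Module.finrank (IsLocalRing.ResidueField R) (IsLocalRing.ResidueField R ⊗[R] M) =
      Module.finrank R M := Module.finrank_baseChange
  haveI : Nontrivial (IsLocalRing.ResidueField R ⊗[R] M) :=
    Module.nontrivial_of_finrank_pos (R := IsLocalRing.ResidueField R) (by rw [hrk]; exact hM)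
  obtain ⟨l, hl⟩ := Module.End.exists_eigenvalue (φ.baseChange (IsLocalRing.ResidueField R))
  obtain ⟨v, hv⟩ := hl.exists_hasEigenvector
  obtain ⟨c, rfl⟩ := hsurj l
  refine ⟨c, fun hbij => ?_⟩
  let e : M ≃ₗ[R] M := LinearEquiv.ofBijective _ hbij
  have he : (e : M →ₗ[R] M) = φ - σ c • (LinearMap.id : M →ₗ[R] M) := rfl
  have h1 : ((e : M →ₗ[R] M).baseChange (IsLocalRing.ResidueField R)) v = 0 := by
    rw [he, LinearMap.baseChange_sub, LinearMap.baseChange_smul, LinearMap.baseChange_id]
    have h2 : (φ.baseChange (IsLocalRing.ResidueField R)) v = ρ c • v := hv.apply_eq_smul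
    change (φ.baseChange (IsLocalRing.ResidueField R)) v - σ c • v = 0
    rw [h2]
    have : (ρ c • v : IsLocalRing.ResidueField R ⊗[R] M) = σ c • v := by
      change (IsLocalRing.residue R (σ c)) • v = σ c • v
      rw [← IsLocalRing.ResidueField.algebraMap_eq, algebraMap_smul]
    rw [this, sub_self]
  have h3 : Function.Injective ((e : M →ₗ[R] M).baseChange (IsLocalRing.ResidueField R)) :=
    (LinearEquiv.baseChange R (IsLocalRing.ResidueField R) M M e).injective
  exact hv.2 (h3 (h1.trans (map_zero _).symm))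

variable {X : Scheme.{u}} (k : Type u) [Field k] [X.Over (Spec (CommRingCat.of k))]

/-- The stalk of `φ - c • 𝟙`. -/
theorem stalkLin_sub_smul {E : X.Modules} (φ : E ⟶ E) (c : k) (x : X) :
    stalkLin (φ - c • 𝟙 E) x =
      stalkLin φ x - Curv2.stalkMap k X x c • (LinearMap.id :
        E.presheaf.stalk x →ₗ[X.presheaf.stalk x] E.presheaf.stalk x) := by
  ext g
  obtain ⟨U, hxU, m, rfl⟩ := E.presheaf.exists_germ_eq g
  rw [stalkLin_germ, LinearMap.sub_apply, stalkLin_germ, LinearMap.smul_apply, LinearMap.id_apply]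
  have h1 : (φ - c • 𝟙 E).app U m = φ.app U m -
      X.presheaf.map (homOfLE (le_top : U ≤ ⊤)).op
        (Coh.toGlobal (X ↘ Spec (CommRingCat.of k)) c) • m := by
    change φ.app U m - (c • 𝟙 E).app U m = _
    rw [KLin.smul_app_apply]
    rfl
  rw [h1, map_sub]
  congr 1
  have h2 := PresheafOfModules.germ_smul (R := X.presheaf) E.val x U hxU
    (X.presheaf.map (homOfLE (le_top : U ≤ ⊤)).op (Coh.toGlobal (X ↘ Spec (CommRingCat.of k)) c)) m
  refine h2.trans ?_
  congr 1
  exact TopCat.Presheaf.germ_res_apply X.presheaf (homOfLE (le_top : U ≤ ⊤)) x hxU _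

/-- If every nonzero endomorphism of a bundle `E` of positive rank on a proper scheme over an
algebraically closed field is an isomorphism, then every endomorphism of `E` is a scalar. -/
theorem exists_smul_eq_of_endo [IsAlgClosed k] [IsProper (X ↘ Spec (CommRingCat.of k))]
    [Nonempty X] (r : ℕ) (hr : 0 < r) (E : X.Modules) (hE : FlatMod.IsFinLocFreeOfRank r E)
    (hendo : ∀ p : E ⟶ E, p ≠ 0 → IsIso p) (φ : E ⟶ E) : ∃ c : k, φ = c • 𝟙 E := by
  haveI : CompactSpace X :=
    QuasiCompact.compactSpace_of_compactSpace (X ↘ Spec (CommRingCat.of k))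
  obtain ⟨x, -, hx⟩ := IsClosed.exists_closed_singleton (X := X) isClosed_univ Set.univ_nonempty
  obtain ⟨hfree, hfinite, hrk⟩ := Groth.Agent.Lib.T2H6.RankAdd.free_finite_stalk E r hE x
  haveI := hfree
  haveI := hfinite
  have hfin : ((IsLocalRing.residue (X.presheaf.stalk x)).comp (Curv2.stalkMap k X x)).Finite :=
    Groth.Agent.Lib.T2H6.ResFinite.finite_resMap k X x hx
  obtain ⟨c, hc⟩ := exists_not_bijective_sub_smul (k := k) (R := X.presheaf.stalk x)
    (M := E.presheaf.stalk x) (by rw [hrk]; exact hr) (Curv2.stalkMap k X x) hfin (stalkLin φ x)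
  refine ⟨c, ?_⟩
  by_contra hne
  have hψ : φ - c • 𝟙 E ≠ 0 := sub_ne_zero.mpr hne
  haveI := hendo _ hψ
  apply hc
  rw [← stalkLin_sub_smul]
  exact ⟨stalkLin_injective _ x, stalkLin_surjective _ x⟩

end Groth.Agent.Lib.T2H6.CurveSimple
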