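import Mathlib
import Groth.Prelude.Def_Curv2
import Groth.Prelude.Def_KLin
import Groth.Agent.Lib.T2H6CurveSimple

/-!
# Scalar endomorphisms as maps of abelian sheaves (helper6)
-/

set_option autoImplicit false
universe u

open AlgebraicGeometry CategoryTheory Limits TensorProduct

namespace Groth.Agent.Lib.T2H6.CurveSimple2

variable {X : Scheme.{u}} (k : Type u) [Field k] [X.Over (Spec (CommRingCat.of k))]

/-- The underlying map of abelian sheaves of `c • 𝟙 E` is `Coh.smulAb`. -/
theorem toSheaf_map_smul_id (E : X.Modules) (c : k) :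
    (SheafOfModules.toSheaf X.ringCatSheaf).map (c • 𝟙 E) =
      Coh.smulAb E (Coh.toGlobal (X ↘ Spec (CommRingCat.of k)) c) := by
  ext U m
  rw [Coh.smulAb_app]
  exact KLin.smul_app_apply c (𝟙 E) U.unop m

/-- If `φ = c • 𝟙 E` then its underlying abelian sheaf map is multiplication by `c`. -/
theorem toSheaf_map_of_eq_smul {E : X.Modules} (φ : E ⟶ E) (h : ∃ c : k, φ = c • 𝟙 E) :
    ∃ c : k, (SheafOfModules.toSheaf X.ringCatSheaf).map φ =
      Coh.smulAb E (Coh.toGlobal (X ↘ Spec (CommRingCat.of k)) c) := by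
  obtain ⟨c, rfl⟩ := h
  exact ⟨c, toSheaf_map_smul_id k E c⟩

end Groth.Agent.Lib.T2H6.CurveSimple2
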