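import Mathlib
import Groth.Prelude.Def_Curv2
import Groth.Prelude.Def_KLin
import Groth.Agent.Lib.T2H6CurveSimple2
import Groth.Agent.Lib.T2H6CurveDeg
import Groth.Agent.Lib.Helper23QAffSec

/-!
# Extensions of line bundles on curves: simple and non-simple bundles (helper6)
-/

set_option autoImplicit false
universe u

open AlgebraicGeometry CategoryTheory Limits

namespace Groth.Agent.Lib.T2H6.CurveExt

variable {X : Scheme.{u}}

/-- Rank one finite locally free modules are invertible. -/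
theorem isInvertible_of_rank_one (L : X.Modules) (hL : FlatMod.IsFinLocFreeOfRank 1 L) :
    PicF.IsInvertible L := by
  intro x
  obtain ⟨U, hxU, ⟨ε⟩⟩ := hL x
  exact ⟨U, hxU, ⟨ε ≪≫ (Limits.coproductUniqueIso
    (fun _ : Fin 1 => Coh.structureModule (↑U : Scheme.{u})))⟩⟩

variable [IsIntegral X] (k : Type u) [Field k] [X.Over (Spec (CommRingCat.of k))]
  [IsProper (X ↘ Spec (CommRingCat.of k))]

/-- Endomorphisms of an invertible module on a proper integral curve over an algebraically closed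
field are scalars. -/
theorem endo_scalar_of_isInvertible [IsAlgClosed k] (hdim : topologicalKrullDim X = 1)
    (L : X.Modules) (hL : PicF.IsInvertible L) (α : L ⟶ L) : ∃ c : k, α = c • 𝟙 L := by
  haveI : Nonempty X := inferInstance
  refine Groth.Agent.Lib.T2H6.CurveSimple.exists_smul_eq_of_endo k 1 one_pos L
    (Groth.Agent.Lib.Helper23.SecTw.isFinLocFreeOfRank_one_of_isInvertible L hL) ?_ α
  intro p hp
  exact Groth.Agent.Lib.T2H6.CurveDeg.isIso_of_deg_eq k hdim hL hL p hp rfl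

/-- A non-split extension `0 → L → E → M → 0` of invertible modules with `deg M < deg L` and
`Hom(M, L) = 0` is simple. -/
theorem simple_of_nonsplit_ext [IsAlgClosed k] (hdim : topologicalKrullDim X = 1)
    (S : ShortComplex X.Modules) (hS : S.ShortExact)
    (hL : PicF.IsInvertible S.X₁) (hM : PicF.IsInvertible S.X₃)
    (hdeg : Curv2.deg k X S.X₃ 1 < Curv2.deg k X S.X₁ 1)
    (hhom : ∀ g : S.X₃ ⟶ S.X₁, g = 0) (hns : ¬ IsSplitEpi S.g)
    (φ : S.X₂ ⟶ S.X₂) : ∃ c : k, φ = c • 𝟙 S.X₂ := by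
  haveI := hS.mono_f
  haveI := hS.epi_g
  have h1 : S.f ≫ φ ≫ S.g = 0 := by
    by_contra hne
    have := Groth.Agent.Lib.T2H6.CurveDeg.deg_le k hdim hL hM _ hne
    omega
  obtain ⟨α, hα⟩ : ∃ α : S.X₁ ⟶ S.X₁, α ≫ S.f = S.f ≫ φ :=
    ⟨hS.exact.lift (S.f ≫ φ) (by rw [Category.assoc]; exact h1), hS.exact.lift_f _ _⟩
  obtain ⟨a, ha⟩ := endo_scalar_of_isInvertible k hdim S.X₁ hL α
  have h4 : S.f ≫ (φ - a • 𝟙 S.X₂) = 0 := by
    rw [Preadditive.comp_sub, ← hα, ha, Linear.comp_smul, Linear.smul_comp, Category.comp_id,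
      Category.id_comp, sub_self]
  obtain ⟨γ, hγ⟩ : ∃ γ : S.X₃ ⟶ S.X₂, S.g ≫ γ = φ - a • 𝟙 S.X₂ :=
    ⟨hS.exact.desc _ h4, hS.exact.g_desc _ _⟩
  obtain ⟨c, hc⟩ := endo_scalar_of_isInvertible k hdim S.X₃ hM (γ ≫ S.g)
  have hc0 : c = 0 := by
    by_contra hcne
    apply hns
    refine IsSplitEpi.mk' ⟨c⁻¹ • γ, ?_⟩
    rw [Linear.smul_comp, hc, smul_smul, inv_mul_cancel₀ hcne, one_smul]
  subst hc0
  rw [zero_smul] at hc
  obtain ⟨δ, hδ⟩ : ∃ δ : S.X₃ ⟶ S.X₁, δ ≫ S.f = γ :=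
    ⟨hS.exact.lift γ hc, hS.exact.lift_f _ _⟩
  rw [hhom δ, zero_comp] at hδ
  refine ⟨a, ?_⟩
  rw [← hδ, comp_zero] at hγ
  exact sub_eq_zero.mp hγ.symm

end Groth.Agent.Lib.T2H6.CurveExt
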