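import Mathlib
import Groth.Prelude.Def_Curv2
import Groth.Prelude.Def_KLin
import Groth.Agent.Lib.T2H6CurveExt
import Groth.Agent.Lib.T2H6CurveVB
import Groth.Agent.Lib.T2H5GenIsoA

/-!
# Extensions of vector bundles are vector bundles (helper6)
-/

set_option autoImplicit false
universe u

open AlgebraicGeometry CategoryTheory Limits

namespace Groth.Agent.Lib.T2H6.CurveExt2

section Algebra

variable {R : Type*} [CommRing R] {M₁ M₂ M₃ : Type*}
  [AddCommGroup M₁] [Module R M₁] [AddCommGroup M₂] [Module R M₂] [AddCommGroup M₃] [Module R M₃]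

theorem free_of_exact [Module.Free R M₁] [Module.Free R M₃]
    (f : M₁ →ₗ[R] M₂) (g : M₂ →ₗ[R] M₃) (hf : Function.Injective f)
    (hg : Function.Surjective g) (hfg : Function.Exact f g) : Module.Free R M₂ := by
  obtain ⟨s, hs⟩ := Module.projective_lifting_property g LinearMap.id hg
  obtain ⟨e, -, -⟩ := hfg.splitSurjectiveEquiv hf ⟨s, hs⟩
  exact Module.Free.of_equiv e.symm

end Algebra

open Groth.Agent.Lib.Helper4.NormDelta Groth.Agent.Lib.Helper23.StalkLin

variable {X : Scheme.{u}} [IsIntegral X]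

/-- An extension of finite locally free modules (of constant rank) on an integral locally Noetherian
scheme is finite locally free. -/
theorem isFinLocFreeOfRank_of_shortExact [IsLocallyNoetherian X]
    (S : ShortComplex X.Modules) (hS : S.ShortExact) (a b : ℕ)
    (h₁ : FlatMod.IsFinLocFreeOfRank a S.X₁) (h₃ : FlatMod.IsFinLocFreeOfRank b S.X₃) :
    FlatMod.IsFinLocFreeOfRank (a + b) S.X₂ := by
  have hc₁ := Groth.Agent.Lib.T2H6.RankAdd.isCoh_of_isFinLocFreeOfRank S.X₁ a h₁
  have hc₃ := Groth.Agent.Lib.T2H6.RankAdd.isCoh_of_isFinLocFreeOfRank S.X₃ b h₃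
  have hc₂ := Groth.Agent.Lib.T2H5.GenIsoA.isCoh_of_shortExact S hS hc₁ hc₃
  haveI : S.X₂.IsQuasicoherent := hc₂.1
  haveI : SheafOfModules.IsFiniteType (R := X.ringCatSheaf) S.X₂ := hc₂.2
  haveI : SheafOfModules.IsFinitePresentation (R := X.ringCatSheaf) S.X₂ :=
    Groth.Agent.Lib.Helper23.FinType.isFinitePresentation_of_isFiniteType S.X₂
  haveI := hS.mono_f
  haveI := hS.epi_g
  have hG : FlatMod.IsFinLocFree S.X₂ := by
    intro x
    obtain ⟨hf1, -, -⟩ := Groth.Agent.Lib.T2H6.RankAdd.free_finite_stalk S.X₁ a h₁ x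
    obtain ⟨hf3, -, -⟩ := Groth.Agent.Lib.T2H6.RankAdd.free_finite_stalk S.X₃ b h₃ x
    haveI := hf1
    haveI := hf3
    haveI : Module.Free (X.presheaf.stalk x) (S.X₂.presheaf.stalk x) :=
      free_of_exact (stalkLin S.f x) (stalkLin S.g x) (stalkLin_injective S.f x)
        (stalkLin_surjective S.g x) (stalkLin_exact S hS x)
    refine Groth.Agent.Lib.Helper2.LocFree.exists_restrict_iso_freeMod_of_isFlatAt S.X₂ x ?_
    change Module.Flat (X.presheaf.stalk x) (S.X₂.presheaf.stalk x)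
    infer_instance
  have hr := Groth.Agent.Lib.T2H6.CurveVB.exists_rank S.X₂ hG
  have := Groth.Agent.Lib.T2H6.RankAdd.rank_add S hS a _ b h₁ hr h₃ (genericPoint X)
  rw [this] at hr
  exact hr

end Groth.Agent.Lib.T2H6.CurveExt2
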