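import Mathlib
import Groth.Prelude.Def_Curv2
import Groth.Agent.Lib.T2H6CurveDeg

/-!
# Saturated invertible submodules of extensions on a proper integral curve (helper6)

If `0 → L → E → M → 0` is exact with `L`, `M` invertible and `N ⊆ E` is an invertible submodule
with invertible quotient, then `N = L` as submodules or `deg N ≤ deg M`.
-/

set_option autoImplicit false
universe u

open AlgebraicGeometry CategoryTheory Limits

namespace Groth.Agent.Lib.T2H6.CurveSat

open Groth.Agent.Lib.T2H6.CurveDeg Groth.Agent.Lib.T2H6.InvMono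
  Groth.Agent.Lib.Helper4.NormDelta Groth.Agent.Lib.Helper23.StalkLin

variable {X : Scheme.{u}}

/-- An invertible module on a nonempty scheme is not a zero object. -/
theorem id_ne_zero_of_isInvertible [Nonempty X] (N : X.Modules) (hN : PicF.IsInvertible N) :
    𝟙 N ≠ 0 := by
  intro h
  obtain ⟨x⟩ := ‹Nonempty X›
  obtain ⟨W, t, hxW, ht⟩ := Groth.Agent.Lib.Helper20.InvGen.exists_local_generator N hN x
  have hz : ∀ (V : X.Opens) (m : Γ(N, V)), m = 0 := by
    intro V m
    have h1 : (𝟙 N : N ⟶ N).app V m = (0 : N ⟶ N).app V m := by rw [h]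
    exact h1
  have hinj := (ht x hxW).1
  have : (1 : X.presheaf.stalk x) = 0 := by
    apply hinj
    change (1 : X.presheaf.stalk x) • N.presheaf.germ W x hxW t
      = (0 : X.presheaf.stalk x) • N.presheaf.germ W x hxW t
    rw [hz W t, map_zero, smul_zero, smul_zero]
  exact one_ne_zero this

variable [IsIntegral X]

/-- If `φ ≫ θ = 0` with `φ`, `θ` maps of invertible modules on an integral scheme and `φ ≠ 0`,
then `θ = 0`. -/
theorem eq_zero_of_comp_eq_zero {N L Q : X.Modules} (hL : PicF.IsInvertible L)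
    (hQ : PicF.IsInvertible Q) (φ : N ⟶ L) (θ : L ⟶ Q) (hφ : φ ≠ 0) (h : φ ≫ θ = 0) :
    θ = 0 := by
  by_contra hθ
  haveI := mono_of_ne_zero hL hQ θ hθ
  exact hφ (zero_of_comp_mono θ h)

/-- If `N ⊆ E` is invertible with invertible quotient and maps to zero in `M = E/L`, then `N = L`
as submodules. -/
theorem iso_of_comp_eq_zero [Nonempty X]
    (S : ShortComplex X.Modules) (hS : S.ShortExact)
    (hL : PicF.IsInvertible S.X₁)
    (N : X.Modules) (hN : PicF.IsInvertible N) (j : N ⟶ S.X₂) [Mono j]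
    (hq : PicF.IsInvertible (cokernel j)) (hψ : j ≫ S.g = 0) :
    ∃ φ : N ≅ S.X₁, φ.hom ≫ S.f = j := by
  haveI := hS.mono_f
  let φ : N ⟶ S.X₁ := hS.fIsKernel.lift (KernelFork.ofι j hψ)
  have hφ : φ ≫ S.f = j := Fork.IsLimit.lift_ι hS.fIsKernel
  have hj0 : j ≠ 0 := by
    intro hj
    apply id_ne_zero_of_isInvertible N hN
    rw [← cancel_mono j, hj, comp_zero, zero_comp]
  have hφ0 : φ ≠ 0 := by
    intro h0
    apply hj0
    rw [← hφ, h0, zero_comp]
  have hθ : S.f ≫ cokernel.π j = 0 := by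
    refine eq_zero_of_comp_eq_zero hL hq φ _ hφ0 ?_
    rw [← Category.assoc, hφ, cokernel.condition]
  have hker := Abelian.monoIsKernelOfCokernel
    (CokernelCofork.ofπ (cokernel.π j) (cokernel.condition j)) (cokernelIsCokernel j)
  let ψ : S.X₁ ⟶ N := hker.lift (KernelFork.ofι S.f hθ)
  have hψ' : ψ ≫ j = S.f := Fork.IsLimit.lift_ι hker
  refine ⟨⟨φ, ψ, ?_, ?_⟩, hφ⟩
  · rw [← cancel_mono j, Category.assoc, hψ', hφ, Category.id_comp]
  · rw [← cancel_mono S.f, Category.assoc, hφ, hψ', Category.id_comp]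

variable (k : Type u) [Field k] [X.Over (Spec (CommRingCat.of k))]
  [IsProper (X ↘ (Spec (CommRingCat.of k)))]

theorem iso_or_deg_le (hdim : topologicalKrullDim X = 1)
    (S : ShortComplex X.Modules) (hS : S.ShortExact)
    (hL : PicF.IsInvertible S.X₁) (hM : PicF.IsInvertible S.X₃)
    (N : X.Modules) (hN : PicF.IsInvertible N) (j : N ⟶ S.X₂) [Mono j]
    (hq : PicF.IsInvertible (cokernel j)) :
    (∃ φ : N ≅ S.X₁, φ.hom ≫ S.f = j) ∨ Curv2.deg k X N 1 ≤ Curv2.deg k X S.X₃ 1 := by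
  by_cases hψ : j ≫ S.g = 0
  · left
    exact iso_of_comp_eq_zero S hS hL N hN j hq hψ
  · right
    exact deg_le k hdim hN hM (j ≫ S.g) hψ

/-- Two saturated invertible submodules of half the degree of a rank two bundle have isomorphic
graded objects. -/
theorem biprod_iso_of_deg_eq (hdim : topologicalKrullDim X = 1)
    (E : X.Modules) (hE : FlatMod.IsFinLocFreeOfRank 2 E)
    (L L' : X.Modules) (hL : PicF.IsInvertible L) (hL' : PicF.IsInvertible L')
    (i : L ⟶ E) (i' : L' ⟶ E) [Mono i] [Mono i']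
    (hq : PicF.IsInvertible (cokernel i)) (hq' : PicF.IsInvertible (cokernel i'))
    (hd : 2 * Curv2.deg k X L 1 = Curv2.deg k X E 2)
    (hd' : 2 * Curv2.deg k X L' 1 = Curv2.deg k X E 2) :
    Nonempty (L ⊞ cokernel i ≅ L' ⊞ cokernel i') := by
  have h1 := Groth.Agent.Lib.Helper23.SecTw.isFinLocFreeOfRank_one_of_isInvertible L hL
  have h1' := Groth.Agent.Lib.Helper23.SecTw.isFinLocFreeOfRank_one_of_isInvertible L' hL'
  have hq1 := Groth.Agent.Lib.Helper23.SecTw.isFinLocFreeOfRank_one_of_isInvertible _ hq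
  have hq1' := Groth.Agent.Lib.Helper23.SecTw.isFinLocFreeOfRank_one_of_isInvertible _ hq'
  have hSE : (sc i).ShortExact :=
    haveI : Mono (sc i).f := inferInstanceAs (Mono i)
    haveI : Epi (sc i).g := inferInstanceAs (Epi (cokernel.π i))
    ShortComplex.ShortExact.mk (ShortComplex.exact_cokernel i)
  have hSE' : (sc i').ShortExact :=
    haveI : Mono (sc i').f := inferInstanceAs (Mono i')
    haveI : Epi (sc i').g := inferInstanceAs (Epi (cokernel.π i'))
    ShortComplex.ShortExact.mk (ShortComplex.exact_cokernel i')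
  have hadd : Curv2.deg k X E 2 = Curv2.deg k X L 1 + Curv2.deg k X (cokernel i) 1 :=
    Groth.Agent.Lib.T2H6.RankAdd.deg_additive k (sc i) hSE 1 2 1 h1 hE hq1
  have hadd' : Curv2.deg k X E 2 = Curv2.deg k X L' 1 + Curv2.deg k X (cokernel i') 1 :=
    Groth.Agent.Lib.T2H6.RankAdd.deg_additive k (sc i') hSE' 1 2 1 h1' hE hq1'
  -- the case where the two submodules agree
  have caseA : ∀ (φ : L ≅ L'), φ.hom ≫ i' = i → Nonempty (L ⊞ cokernel i ≅ L' ⊞ cokernel i') := by
    intro φ hφ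
    exact ⟨biprod.mapIso φ (cokernel.mapIso i i' φ (Iso.refl E) (by simp [hφ]))⟩
  by_cases hψ : i ≫ cokernel.π i' = 0
  · obtain ⟨φ, hφ⟩ := @iso_of_comp_eq_zero X _ _ (sc i') hSE' hL' L hL i ‹Mono i› hq hψ
    exact caseA φ hφ
  · by_cases hψ' : i' ≫ cokernel.π i = 0
    · obtain ⟨φ, hφ⟩ := @iso_of_comp_eq_zero X _ _ (sc i) hSE hL L' hL' i' ‹Mono i'› hq' hψ'
      have hφ2 : φ.hom ≫ i = i' := hφ
      let φ2 : L' ≅ L := φ
      refine caseA φ2.symm ?_
      change φ2.inv ≫ i' = i
      rw [← hφ2]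
      exact φ2.inv_hom_id_assoc i
    · haveI := isIso_of_deg_eq k hdim hL hq' (i ≫ cokernel.π i') hψ (by linarith)
      haveI := isIso_of_deg_eq k hdim hL' hq (i' ≫ cokernel.π i) hψ' (by linarith)
      exact ⟨(biprod.mapIso (asIso (i ≫ cokernel.π i')) (asIso (i' ≫ cokernel.π i)).symm).trans
        (biprod.braiding _ _)⟩

end Groth.Agent.Lib.T2H6.CurveSat
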