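import Mathlib
import Groth.Prelude.Def_Curv2
import Groth.Prelude.Def_KLin
import Groth.Agent.Lib.T2H6CurveExt2
import Groth.Agent.Lib.T2H6CurveSat
import Groth.Agent.Lib.T2H5GenIsoB
import Groth.Agent.Lib.T2H5Devissage

/-!
# Indecomposable, non-simple rank two bundles on curves (helper6)
-/

set_option autoImplicit false
universe u

open AlgebraicGeometry CategoryTheory Limits

namespace Groth.Agent.Lib.T2H6.CurveIndec

section Abstract

variable {C : Type*} [Category C] [Abelian C]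

/-- The first summand of a biproduct decomposition is a kernel of the projector onto the second. -/
noncomputable def summandIsoKernel {E E₁ E₂ : C} (e : E ≅ E₁ ⊞ E₂) :
    E₁ ≅ kernel (e.hom ≫ biprod.snd ≫ biprod.inr ≫ e.inv) where
  hom := kernel.lift _ (biprod.inl ≫ e.inv) (by simp)
  inv := kernel.ι _ ≫ e.hom ≫ biprod.fst
  hom_inv_id := by simp
  inv_hom_id := by
    rw [← cancel_mono (kernel.ι _)]
    simp only [Category.assoc, kernel.lift_ι, Category.id_comp]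
    have h1 : (biprod.fst : E₁ ⊞ E₂ ⟶ E₁) ≫ biprod.inl = 𝟙 _ - biprod.snd ≫ biprod.inr := by
      rw [eq_sub_iff_add_eq, biprod.total]
    have h2 : kernel.ι (e.hom ≫ biprod.snd ≫ biprod.inr ≫ e.inv) ≫
        e.hom ≫ biprod.snd ≫ biprod.inr ≫ e.inv = 0 := kernel.condition _
    rw [← Category.assoc biprod.fst, h1]
    simp only [Preadditive.sub_comp, Preadditive.comp_sub, Category.id_comp, Category.assoc,
      Iso.hom_inv_id, Category.comp_id, h2, sub_zero]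

/-- The short complex `E₁ → E → E₂` of a biproduct decomposition. -/
noncomputable def summandSC {E E₁ E₂ : C} (e : E ≅ E₁ ⊞ E₂) : ShortComplex C :=
  ShortComplex.mk (biprod.inl ≫ e.inv) (e.hom ≫ biprod.snd) (by simp)

theorem summandSC_shortExact {E E₁ E₂ : C} (e : E ≅ E₁ ⊞ E₂) : (summandSC e).ShortExact := by
  refine (ShortComplex.Splitting.mk (e.hom ≫ biprod.fst) (biprod.inr ≫ e.inv) ?_ ?_ ?_).shortExact
  · change (biprod.inl ≫ e.inv) ≫ e.hom ≫ biprod.fst = 𝟙 _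
    simp
  · change (biprod.inr ≫ e.inv) ≫ e.hom ≫ biprod.snd = 𝟙 _
    simp
  · change (e.hom ≫ biprod.fst) ≫ (biprod.inl ≫ e.inv) + (e.hom ≫ biprod.snd) ≫ (biprod.inr ≫ e.inv)
      = 𝟙 _
    have : e.hom ≫ (biprod.fst ≫ biprod.inl + biprod.snd ≫ biprod.inr) ≫ e.inv = 𝟙 E := by
      rw [biprod.total]
      simp
    rw [← this, Preadditive.add_comp, Preadditive.comp_add]
    simp only [Category.assoc]

end Abstract

open Groth.Agent.Lib.Helper4.NormDelta Groth.Agent.Lib.Helper23.StalkLin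

variable {X : Scheme.{u}} [IsIntegral X] (k : Type u) [Field k] [X.Over (Spec (CommRingCat.of k))]
  [IsProper (X ↘ Spec (CommRingCat.of k))]

omit [IsProper (X ↘ Spec (CommRingCat.of k))] [X.Over (Spec (CommRingCat.of k))] in
/-- Direct summands of a vector bundle on a regular curve are vector bundles. -/
theorem summand_isFinLocFree [IsLocallyNoetherian X] (hdim : topologicalKrullDim X = 1)
    (hreg : ∀ x : X, IsRegularLocalRing (X.presheaf.stalk x)) {E E₁ E₂ : X.Modules} (r : ℕ)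
    (hE : FlatMod.IsFinLocFreeOfRank r E) (e : E ≅ E₁ ⊞ E₂) :
    ∃ s₁ s₂ : ℕ, r = s₁ + s₂ ∧ FlatMod.IsFinLocFreeOfRank s₁ E₁ ∧
      FlatMod.IsFinLocFreeOfRank s₂ E₂ := by
  haveI : Nonempty X := inferInstance
  have hEc := Groth.Agent.Lib.T2H6.RankAdd.isCoh_of_isFinLocFreeOfRank E r hE
  have hq : ∀ (F₁ F₂ : X.Modules) (e' : E ≅ F₁ ⊞ F₂), F₁.IsQuasicoherent := by
    intro F₁ F₂ e'
    exact (Groth.Agent.Lib.T2H5.Devissage.isCoh_of_iso (summandIsoKernel e').symm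
      (Groth.Agent.Lib.T2H5.GenIsoB.isCoh_kernel _ hEc hEc)).1
  haveI := hq E₁ E₂ e
  haveI := hq E₂ E₁ (e ≪≫ biprod.braiding E₁ E₂)
  haveI : Mono (biprod.inl ≫ e.inv : E₁ ⟶ E) := mono_comp _ _
  haveI : Mono (biprod.inr ≫ e.inv : E₂ ⟶ E) := mono_comp _ _
  obtain ⟨s₁, -, h₁⟩ := Groth.Agent.Lib.T2H6.CurveVB.isFinLocFreeOfRank_of_mono hdim.le hreg
    (biprod.inl ≫ e.inv) r hE
  obtain ⟨s₂, -, h₂⟩ := Groth.Agent.Lib.T2H6.CurveVB.isFinLocFreeOfRank_of_mono hdim.le hreg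
    (biprod.inr ≫ e.inv) r hE
  refine ⟨s₁, s₂, ?_, h₁, h₂⟩
  exact Groth.Agent.Lib.T2H6.RankAdd.rank_add (summandSC e) (summandSC_shortExact e) s₁ r s₂ h₁ hE h₂
    (genericPoint X)

include k in
/-- A non-split extension of `M` by `L` (both invertible) with `Hom(M, L) ≠ 0` is indecomposable. -/
theorem indecomposable_of_nonsplit_ext (hdim : topologicalKrullDim X = 1)
    (hreg : ∀ x : X, IsRegularLocalRing (X.presheaf.stalk x))
    (S : ShortComplex X.Modules) (hS : S.ShortExact)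
    (hL : PicF.IsInvertible S.X₁) (hM : PicF.IsInvertible S.X₃)
    (g : S.X₃ ⟶ S.X₁) (hg : g ≠ 0) (hns : ¬ IsSplitEpi S.g)
    (E₁ E₂ : X.Modules) (e : S.X₂ ≅ E₁ ⊞ E₂) : IsZero E₁ ∨ IsZero E₂ := by
  haveI := Groth.Agent.Lib.T2H6.CurveDeg.isLocallyNoetherian (X := X) k
  haveI : Nonempty X := inferInstance
  haveI := hS.mono_f
  haveI := hS.epi_g
  have hL1 := Groth.Agent.Lib.Helper23.SecTw.isFinLocFreeOfRank_one_of_isInvertible S.X₁ hL
  have hM1 := Groth.Agent.Lib.Helper23.SecTw.isFinLocFreeOfRank_one_of_isInvertible S.X₃ hM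
  have hE : FlatMod.IsFinLocFreeOfRank 2 S.X₂ :=
    Groth.Agent.Lib.T2H6.CurveExt2.isFinLocFreeOfRank_of_shortExact S hS 1 1 hL1 hM1
  obtain ⟨s₁, s₂, hs, h₁, h₂⟩ := summand_isFinLocFree hdim hreg 2 hE e
  rcases Nat.eq_zero_or_pos s₁ with h0 | h0
  · left
    subst h0
    exact Groth.Agent.Lib.T2H6.CurveVB.isZero_of_rank_zero _ h₁
  rcases Nat.eq_zero_or_pos s₂ with h0' | h0'
  · right
    subst h0'
    exact Groth.Agent.Lib.T2H6.CurveVB.isZero_of_rank_zero _ h₂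
  exfalso
  have hs1 : s₁ = 1 := by omega
  have hs2 : s₂ = 1 := by omega
  subst hs1
  subst hs2
  have hI₁ := Groth.Agent.Lib.T2H6.CurveExt.isInvertible_of_rank_one E₁ h₁
  have hI₂ := Groth.Agent.Lib.T2H6.CurveExt.isInvertible_of_rank_one E₂ h₂
  have hdE := Groth.Agent.Lib.T2H6.RankAdd.deg_additive k S hS 1 2 1 hL1 hE hM1
  have hdE' := Groth.Agent.Lib.T2H6.RankAdd.deg_additive k (summandSC e) (summandSC_shortExact e)
    1 2 1 h₁ hE h₂
  change Curv2.deg k X S.X₂ 2 = Curv2.deg k X E₁ 1 + Curv2.deg k X E₂ 1 at hdE'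
  have hgd := Groth.Agent.Lib.T2H6.CurveDeg.deg_le k hdim hM hL g hg
  have key : ∀ (F : X.Modules) (_ : PicF.IsInvertible F) (i : F ⟶ S.X₂) [Mono i],
      (i ≫ S.g ≠ 0 ∧ Curv2.deg k X F 1 < Curv2.deg k X S.X₃ 1) ∨
        (i ≫ S.g = 0 ∧ Curv2.deg k X F 1 ≤ Curv2.deg k X S.X₁ 1) := by
    intro F hF i _
    by_cases ha : i ≫ S.g = 0
    · right
      refine ⟨ha, ?_⟩
      have hβ : hS.exact.lift i ha ≫ S.f = i := hS.exact.lift_f _ _
      have hβ0 : hS.exact.lift i ha ≠ 0 := by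
        intro h0
        rw [h0, zero_comp] at hβ
        apply Groth.Agent.Lib.T2H6.CurveSat.id_ne_zero_of_isInvertible F hF
        rw [← cancel_mono i, ← hβ]
        simp
      exact Groth.Agent.Lib.T2H6.CurveDeg.deg_le k hdim hF hL _ hβ0
    · left
      refine ⟨ha, ?_⟩
      have hle := Groth.Agent.Lib.T2H6.CurveDeg.deg_le k hdim hF hM _ ha
      rcases hle.lt_or_eq with h | h
      · exact h
      · exfalso
        haveI := Groth.Agent.Lib.T2H6.CurveDeg.isIso_of_deg_eq k hdim hF hM _ ha h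
        exact hns (IsSplitEpi.mk' ⟨inv (i ≫ S.g) ≫ i, by
          rw [Category.assoc, IsIso.inv_hom_id]⟩)
  haveI : Mono (biprod.inl ≫ e.inv : E₁ ⟶ S.X₂) := mono_comp _ _
  haveI : Mono (biprod.inr ≫ e.inv : E₂ ⟶ S.X₂) := mono_comp _ _
  have k1 := key E₁ hI₁ (biprod.inl ≫ e.inv)
  have k2 := key E₂ hI₂ (biprod.inr ≫ e.inv)
  have hnb : ¬ ((biprod.inl ≫ e.inv) ≫ S.g = 0 ∧ (biprod.inr ≫ e.inv) ≫ S.g = 0) := by
    rintro ⟨z1, z2⟩
    have h3 : e.inv ≫ S.g = 0 := by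
      apply biprod.hom_ext'
      · rw [← Category.assoc, z1, comp_zero]
      · rw [← Category.assoc, z2, comp_zero]
    have h4 : S.g = 0 := by
      rw [← cancel_epi e.inv, h3, comp_zero]
    apply Groth.Agent.Lib.T2H6.CurveSat.id_ne_zero_of_isInvertible S.X₃ hM
    rw [← cancel_epi S.g, h4]
    simp
  rcases k1 with ⟨_, d1⟩ | ⟨z1, d1⟩ <;> rcases k2 with ⟨_, d2⟩ | ⟨z2, d2⟩
  · omega
  · omega
  · omega
  · exact hnb ⟨z1, z2⟩

omit [IsProper (X ↘ Spec (CommRingCat.of k))] [X.Over (Spec (CommRingCat.of k))] in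
/-- The middle term of an extension with nonzero kernel object is nonzero. -/
theorem not_isZero_middle (S : ShortComplex X.Modules) (hS : S.ShortExact)
    (hL : PicF.IsInvertible S.X₁) : ¬ IsZero S.X₂ := by
  haveI : Nonempty X := inferInstance
  haveI := hS.mono_f
  intro hz
  apply Groth.Agent.Lib.T2H6.CurveSat.id_ne_zero_of_isInvertible S.X₁ hL
  rw [← cancel_mono S.f]
  exact hz.eq_of_tgt _ _

omit [IsProper (X ↘ Spec (CommRingCat.of k))] in
/-- An extension of `M` by `L` with a nonzero map `M → L` has a non-scalar endomorphism. -/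
theorem exists_nonscalar_endo (S : ShortComplex X.Modules) (hS : S.ShortExact)
    (hL : PicF.IsInvertible S.X₁) (g : S.X₃ ⟶ S.X₁) (hg : g ≠ 0) :
    ∃ φ : S.X₂ ⟶ S.X₂, ∀ c : k, φ ≠ c • 𝟙 S.X₂ := by
  haveI := hS.mono_f
  haveI := hS.epi_g
  refine ⟨S.g ≫ g ≫ S.f, fun c hc => ?_⟩
  have hsq : (S.g ≫ g ≫ S.f) ≫ (S.g ≫ g ≫ S.f) = 0 := by
    simp only [Category.assoc]
    rw [← Category.assoc S.f, S.zero]
    simp
  have hid : 𝟙 S.X₂ ≠ 0 := fun h =>
    not_isZero_middle S hS hL ((IsZero.iff_id_eq_zero _).2 h)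
  by_cases hc0 : c = 0
  · subst hc0
    rw [zero_smul] at hc
    apply hg
    rw [← cancel_epi S.g, ← cancel_mono S.f]
    simpa using hc
  · rw [hc, Linear.smul_comp, Linear.comp_smul, Category.id_comp, smul_smul] at hsq
    apply hid
    have h5 : (c * c)⁻¹ • ((c * c) • 𝟙 S.X₂) = (c * c)⁻¹ • (0 : S.X₂ ⟶ S.X₂) := by rw [hsq]
    rw [smul_smul, inv_mul_cancel₀ (mul_ne_zero hc0 hc0), one_smul, smul_zero] at h5
    exact h5

end Groth.Agent.Lib.T2H6.CurveIndec
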