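import Mathlib
import Groth.Prelude.Def_Curv2
import Groth.Agent.Lib.T2H6CurveSS

/-!
# Subbundles of extensions on regular proper curves (helper6)
-/

set_option autoImplicit false
universe u

open AlgebraicGeometry CategoryTheory Limits

namespace Groth.Agent.Lib.T2H6.CurveSS2

open Groth.Agent.Lib.Helper4.NormDelta Groth.Agent.Lib.Helper23.StalkLin
  Groth.Agent.Lib.T2H6.CurveVB Groth.Agent.Lib.T2H6.CurveSS

variable {X : Scheme.{u}} [IsIntegral X]

/-- Generic rank of a module. -/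
noncomputable def grank (M : X.Modules) : ℕ :=
  Module.finrank (X.presheaf.stalk (genericPoint X)) (M.presheaf.stalk (genericPoint X))

theorem grank_of_isFinLocFreeOfRank (M : X.Modules) (n : ℕ) (h : FlatMod.IsFinLocFreeOfRank n M) :
    grank M = n :=
  (Groth.Agent.Lib.T2H6.RankAdd.free_finite_stalk M n h (genericPoint X)).2.2

/-- Generic rank is additive in short exact sequences of coherent modules. -/
theorem grank_add (S : ShortComplex X.Modules) (hS : S.ShortExact)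
    (h₁ : Coh.IsCoh S.X₁) (h₃ : Coh.IsCoh S.X₃) :
    grank S.X₂ = grank S.X₁ + grank S.X₃ := by
  haveI := h₁.1
  haveI : SheafOfModules.IsFiniteType (R := X.ringCatSheaf) S.X₁ := h₁.2
  haveI := h₃.1
  haveI : SheafOfModules.IsFiniteType (R := X.ringCatSheaf) S.X₃ := h₃.2
  haveI g1 := Groth.Agent.Lib.Helper2.FibreCrit.finite_stalk S.X₁ (genericPoint X)
  haveI g3 := Groth.Agent.Lib.Helper2.FibreCrit.finite_stalk S.X₃ (genericPoint X)
  letI : Field (X.presheaf.stalk (genericPoint X)) :=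
    inferInstanceAs (Field X.functionField)
  haveI := hS.mono_f
  haveI := hS.epi_g
  exact Groth.Agent.Lib.T2H6.RankAdd.finrank_add_of_exact (stalkLin S.f (genericPoint X))
    (stalkLin S.g (genericPoint X)) (stalkLin_injective S.f _) (stalkLin_surjective S.g _)
    (stalkLin_exact S hS _)

variable (k : Type u) [Field k] [X.Over (Spec (CommRingCat.of k))]

omit [IsIntegral X] in
theorem euler_eq_zero_of_isZero (M : X.Modules) (hM : IsZero M) : Curv2.euler k X M = 0 := by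
  rw [Groth.Agent.Lib.T2H6.EulerField.euler_eq_sum k X M 0
    (fun i _ => Groth.Agent.Lib.T2H5.Chevalley.subsingleton_HH_of_isZero hM i)]
  haveI := Groth.Agent.Lib.T2H5.Chevalley.subsingleton_HH_of_isZero hM 0
  simp [Module.finrank_zero_of_subsingleton]

omit [IsIntegral X] in
theorem deg_eq_zero_of_rank_zero (M : X.Modules) (h : FlatMod.IsFinLocFreeOfRank 0 M) :
    Curv2.deg k X M 0 = 0 := by
  unfold Curv2.deg
  rw [euler_eq_zero_of_isZero k M (isZero_of_rank_zero M h)]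
  simp

variable [IsProper (X ↘ Spec (CommRingCat.of k))]

/-- For a subbundle `G ⊆ E` and a map `g : E ⟶ E₂` to a bundle, `G` is an extension of a subbundle
of `E₂` by a subbundle of `ker g`. -/
theorem sub_ext_data (hdim : topologicalKrullDim X = 1)
    (hreg : ∀ x : X, IsRegularLocalRing (X.presheaf.stalk x)) {G E E₂ : X.Modules} (i : G ⟶ E)
    [Mono i] (g : E ⟶ E₂) (r' r₂ : ℕ) (hG : FlatMod.IsFinLocFreeOfRank r' G)
    (hE₂ : FlatMod.IsFinLocFreeOfRank r₂ E₂) :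
    ∃ rK rI : ℕ, FlatMod.IsFinLocFreeOfRank rK (kernel (i ≫ g)) ∧
      FlatMod.IsFinLocFreeOfRank rI (Abelian.image (i ≫ g)) ∧ r' = rK + rI ∧
      Curv2.deg k X G r' = Curv2.deg k X (kernel (i ≫ g)) rK +
        Curv2.deg k X (Abelian.image (i ≫ g)) rI ∧
      Mono (Abelian.image.ι (i ≫ g)) ∧
      ∃ j : kernel (i ≫ g) ⟶ kernel g, Mono j ∧ j ≫ kernel.ι g = kernel.ι (i ≫ g) ≫ i := by
  obtain ⟨rK, rI, hK, hI, hrk, -, hdeg⟩ := ker_im_data k hdim hreg (i ≫ g) r' r₂ hG hE₂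
  refine ⟨rK, rI, hK, hI, hrk, hdeg, inferInstance, ?_⟩
  refine ⟨kernel.lift g (kernel.ι (i ≫ g) ≫ i) (by rw [Category.assoc, kernel.condition]), ?_,
    kernel.lift_ι _ _ _⟩
  exact mono_of_mono_fac (kernel.lift_ι g _ _)

/-- The preimage in `E` of a subbundle `G` of the quotient `E₂` of `0 → E₁ → E → E₂ → 0` is a
subbundle of rank `r₁ + r'` and degree `deg E₁ + deg G`. -/
theorem preimage_data (hdim : topologicalKrullDim X = 1)
    (hreg : ∀ x : X, IsRegularLocalRing (X.presheaf.stalk x))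
    (T : ShortComplex X.Modules) (hT : T.ShortExact) (r₁ r r₂ : ℕ)
    (hE₁ : FlatMod.IsFinLocFreeOfRank r₁ T.X₁) (hE : FlatMod.IsFinLocFreeOfRank r T.X₂)
    (hE₂ : FlatMod.IsFinLocFreeOfRank r₂ T.X₃) {G : X.Modules} (i : G ⟶ T.X₃) [Mono i] (r' : ℕ)
    (hG : FlatMod.IsFinLocFreeOfRank r' G) :
    ∃ (P : X.Modules) (ι : P ⟶ T.X₂), Mono ι ∧ FlatMod.IsFinLocFreeOfRank (r₁ + r') P ∧
      Curv2.deg k X P (r₁ + r') = Curv2.deg k X T.X₁ r₁ + Curv2.deg k X G r' := by
  haveI : IsLocallyNoetherian X :=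
    LocallyOfFiniteType.isLocallyNoetherian (X ↘ Spec (CommRingCat.of k))
  have c₁ := Groth.Agent.Lib.T2H6.RankAdd.isCoh_of_isFinLocFreeOfRank _ _ hE₁
  have c := Groth.Agent.Lib.T2H6.RankAdd.isCoh_of_isFinLocFreeOfRank _ _ hE
  have c₂ := Groth.Agent.Lib.T2H6.RankAdd.isCoh_of_isFinLocFreeOfRank _ _ hE₂
  have cG := Groth.Agent.Lib.T2H6.RankAdd.isCoh_of_isFinLocFreeOfRank _ _ hG
  have cQ : Coh.IsCoh (cokernel i) := Groth.Agent.Lib.T2H5.GenIsoB.isCoh_cokernel i cG c₂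
  haveI := hT.epi_g
  let h : T.X₂ ⟶ cokernel i := T.g ≫ cokernel.π i
  haveI : Epi h := epi_comp _ _
  have cP : Coh.IsCoh (kernel h) := Groth.Agent.Lib.T2H5.GenIsoB.isCoh_kernel h c cQ
  haveI := cP.1
  -- the two auxiliary short exact sequences
  let Sa : ShortComplex X.Modules := ShortComplex.mk (kernel.ι h) h (kernel.condition h)
  have hSa : Sa.ShortExact :=
    haveI : Mono Sa.f := inferInstanceAs (Mono (kernel.ι h))
    haveI : Epi Sa.g := inferInstanceAs (Epi h)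
    ShortComplex.ShortExact.mk (ShortComplex.exact_kernel h)
  have hSb := Groth.Agent.Lib.T2H6.CurveSub.sc_shortExact i
  -- ranks
  obtain ⟨rP, -, hP⟩ := isFinLocFreeOfRank_of_mono hdim.le hreg (kernel.ι h) r hE
  have g1 : r = rP + grank (cokernel i) := by
    have := grank_add Sa hSa cP cQ
    rwa [grank_of_isFinLocFreeOfRank _ _ hP,
      show grank Sa.X₂ = r from grank_of_isFinLocFreeOfRank _ _ hE] at this
  have g2 : r₂ = r' + grank (cokernel i) := by
    have := grank_add _ hSb cG cQ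
    rwa [show grank (Groth.Agent.Lib.T2H6.CurveDeg.sc i).X₁ = r' from
        grank_of_isFinLocFreeOfRank _ _ hG,
      show grank (Groth.Agent.Lib.T2H6.CurveDeg.sc i).X₂ = r₂ from
        grank_of_isFinLocFreeOfRank _ _ hE₂] at this
  have g3 : r = r₁ + r₂ :=
    Groth.Agent.Lib.T2H6.RankAdd.rank_add T hT r₁ r r₂ hE₁ hE hE₂ (genericPoint X)
  have hrP : rP = r₁ + r' := by omega
  subst hrP
  refine ⟨kernel h, kernel.ι h, inferInstance, hP, ?_⟩
  -- Euler characteristics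
  have e1 := Groth.Agent.Lib.T2H6.EulerField.euler_additive k X Sa hSa cP c cQ
  have e2 := Groth.Agent.Lib.T2H6.EulerField.euler_additive k X _ hSb cG c₂ cQ
  have e3 := Groth.Agent.Lib.T2H6.EulerField.euler_additive k X T hT c₁ c c₂
  change Curv2.euler k X T.X₂ = Curv2.euler k X (kernel h) + Curv2.euler k X (cokernel i) at e1
  change Curv2.euler k X T.X₃ = Curv2.euler k X G + Curv2.euler k X (cokernel i) at e2
  unfold Curv2.deg
  push_cast
  linarith

/-- An extension of bundles of equal slopes is semistable iff both pieces are. -/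
theorem semistable_ext_iff (hdim : topologicalKrullDim X = 1)
    (hreg : ∀ x : X, IsRegularLocalRing (X.presheaf.stalk x))
    (T : ShortComplex X.Modules) (hT : T.ShortExact) (r₁ r r₂ : ℕ) (hr₁ : 0 < r₁) (hr : 0 < r)
    (hr₂ : 0 < r₂)
    (hE₁ : FlatMod.IsFinLocFreeOfRank r₁ T.X₁) (hE : FlatMod.IsFinLocFreeOfRank r T.X₂)
    (hE₂ : FlatMod.IsFinLocFreeOfRank r₂ T.X₃)
    (hμ₁ : Curv2.deg k X T.X₁ r₁ * (r : ℤ) = Curv2.deg k X T.X₂ r * (r₁ : ℤ))
    (hμ₂ : Curv2.deg k X T.X₃ r₂ * (r : ℤ) = Curv2.deg k X T.X₂ r * (r₂ : ℤ)) :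
    (∀ (G : X.Modules) (r' : ℕ) (i : G ⟶ T.X₂), Mono i → 0 < r' →
        FlatMod.IsFinLocFreeOfRank r' G →
        Curv2.deg k X G r' * (r : ℤ) ≤ Curv2.deg k X T.X₂ r * (r' : ℤ)) ↔
      ((∀ (G : X.Modules) (r' : ℕ) (i : G ⟶ T.X₁), Mono i → 0 < r' →
        FlatMod.IsFinLocFreeOfRank r' G →
        Curv2.deg k X G r' * (r₁ : ℤ) ≤ Curv2.deg k X T.X₁ r₁ * (r' : ℤ)) ∧
       (∀ (G : X.Modules) (r' : ℕ) (i : G ⟶ T.X₃), Mono i → 0 < r' →
        FlatMod.IsFinLocFreeOfRank r' G →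
        Curv2.deg k X G r' * (r₂ : ℤ) ≤ Curv2.deg k X T.X₃ r₂ * (r' : ℤ))) := by
  have hr0 : (0 : ℤ) < (r : ℤ) := by exact_mod_cast hr
  have hr₁0 : (0 : ℤ) < (r₁ : ℤ) := by exact_mod_cast hr₁
  have hr₂0 : (0 : ℤ) < (r₂ : ℤ) := by exact_mod_cast hr₂
  haveI := hT.mono_f
  constructor
  · intro hss
    refine ⟨?_, ?_⟩
    · intro G r' i hi hr' hG
      haveI := hi
      have h1 := hss G r' (i ≫ T.f) (mono_comp _ _) hr' hG
      have h2 : Curv2.deg k X G r' * (r₁ : ℤ) * (r : ℤ) ≤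
          Curv2.deg k X T.X₁ r₁ * (r' : ℤ) * (r : ℤ) := by
        nlinarith [mul_le_mul_of_nonneg_right h1 hr₁0.le]
      exact le_of_mul_le_mul_right h2 hr0
    · intro G r' i hi hr' hG
      haveI := hi
      obtain ⟨P, ι, hι, hP, hdegP⟩ := preimage_data k hdim hreg T hT r₁ r r₂ hE₁ hE hE₂ i r' hG
      have h1 := hss P (r₁ + r') ι hι (by omega) hP
      rw [hdegP] at h1
      push_cast at h1
      have h3 : Curv2.deg k X G r' * (r : ℤ) ≤ Curv2.deg k X T.X₂ r * (r' : ℤ) := by linarith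
      have h2 : Curv2.deg k X G r' * (r₂ : ℤ) * (r : ℤ) ≤
          Curv2.deg k X T.X₃ r₂ * (r' : ℤ) * (r : ℤ) := by
        nlinarith [mul_le_mul_of_nonneg_right h3 hr₂0.le]
      exact le_of_mul_le_mul_right h2 hr0
  · rintro ⟨hss₁, hss₂⟩ G r' i hi hr' hG
    haveI := hi
    obtain ⟨rK, rI, hK, hI, hrk, hdeg, hImono, -⟩ :=
      sub_ext_data k hdim hreg i T.g r' r₂ hG hE₂
    have hrk' : (r' : ℤ) = (rK : ℤ) + (rI : ℤ) := by exact_mod_cast hrk
    -- the kernel part maps injectively to `E₁`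
    let j : kernel (i ≫ T.g) ⟶ T.X₁ :=
      hT.fIsKernel.lift (KernelFork.ofι (kernel.ι (i ≫ T.g) ≫ i)
        (by rw [Category.assoc, kernel.condition]))
    have hj : j ≫ T.f = kernel.ι (i ≫ T.g) ≫ i := Fork.IsLimit.lift_ι hT.fIsKernel
    haveI : Mono j := mono_of_mono_fac hj
    have hKb : Curv2.deg k X (kernel (i ≫ T.g)) rK * (r : ℤ) ≤
        Curv2.deg k X T.X₂ r * (rK : ℤ) := by
      rcases Nat.eq_zero_or_pos rK with h0 | h0
      · subst h0
        rw [deg_eq_zero_of_rank_zero k _ hK]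
        simp
      · have h1 := hss₁ _ rK j inferInstance h0 hK
        have h2 : Curv2.deg k X (kernel (i ≫ T.g)) rK * (r : ℤ) * (r₁ : ℤ) ≤
            Curv2.deg k X T.X₂ r * (rK : ℤ) * (r₁ : ℤ) := by
          nlinarith [mul_le_mul_of_nonneg_right h1 hr0.le]
        exact le_of_mul_le_mul_right h2 hr₁0
    have hIb : Curv2.deg k X (Abelian.image (i ≫ T.g)) rI * (r : ℤ) ≤
        Curv2.deg k X T.X₂ r * (rI : ℤ) := by
      rcases Nat.eq_zero_or_pos rI with h0 | h0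
      · subst h0
        rw [deg_eq_zero_of_rank_zero k _ hI]
        simp
      · have h1 := hss₂ _ rI (Abelian.image.ι (i ≫ T.g)) hImono h0 hI
        have h2 : Curv2.deg k X (Abelian.image (i ≫ T.g)) rI * (r : ℤ) * (r₂ : ℤ) ≤
            Curv2.deg k X T.X₂ r * (rI : ℤ) * (r₂ : ℤ) := by
          nlinarith [mul_le_mul_of_nonneg_right h1 hr0.le]
        exact le_of_mul_le_mul_right h2 hr₂0
    rw [hdeg, hrk']
    linarith

end Groth.Agent.Lib.T2H6.CurveSS2
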