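import Mathlib
import Groth.Prelude.Def_Curv2
import Groth.Prelude.Def_KLin
import Groth.Agent.Lib.T2H6CurveSS2
import Groth.Agent.Lib.T2H6CurveIndec
import Groth.Agent.Lib.T2H5Dev2

/-!
# Fitting decomposition for endomorphisms of vector bundles on curves (helper6)

For an endomorphism `g` of a rank `r` vector bundle `E` on a regular proper integral curve,
`E ≅ ker (g^r) ⊕ im (g^r)`.  Consequently endomorphisms of indecomposable bundles are isomorphisms or
nilpotent.
-/

set_option autoImplicit false
universe u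

open AlgebraicGeometry CategoryTheory Limits

namespace Groth.Agent.Lib.T2H6.CurveFitting

open Groth.Agent.Lib.Helper4.NormDelta Groth.Agent.Lib.Helper23.StalkLin
  Groth.Agent.Lib.T2H6.CurveVB Groth.Agent.Lib.T2H6.CurveSS Groth.Agent.Lib.T2H6.CurveSS2

variable {X : Scheme.{u}}

theorem stalkLin_id (E : X.Modules) (x : X) :
    stalkLin (𝟙 E) x = (LinearMap.id : E.presheaf.stalk x →ₗ[X.presheaf.stalk x] _) := by
  ext g
  obtain ⟨U, hxU, m, rfl⟩ := E.presheaf.exists_germ_eq g
  rw [stalkLin_germ]
  rfl

theorem stalkLin_zero (E F : X.Modules) (x : X) :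
    stalkLin (0 : E ⟶ F) x = 0 := by
  ext g
  obtain ⟨U, hxU, m, rfl⟩ := E.presheaf.exists_germ_eq g
  rw [stalkLin_germ]
  change F.presheaf.germ U x hxU 0 = 0
  exact map_zero _

theorem stalkLin_pow {E : X.Modules} (g : End E) (n : ℕ) (x : X) :
    stalkLin (g ^ n : End E) x = (stalkLin g x) ^ n := by
  induction n with
  | zero => exact stalkLin_id E x
  | succ n ih =>
    ext a
    rw [pow_succ, pow_succ, End.mul_def, Groth.Agent.Lib.T2H5.Dev2.stalkLin_comp, ih]
    rfl

variable [IsIntegral X]

/-- A map of vector bundles on a regular curve which is injective at the generic point is a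
monomorphism. -/
theorem mono_of_generic_injective [IsLocallyNoetherian X] (hdim : topologicalKrullDim X ≤ 1)
    (hreg : ∀ x : X, IsRegularLocalRing (X.presheaf.stalk x)) {A E : X.Modules} (f : A ⟶ E)
    (a e : ℕ) (hA : FlatMod.IsFinLocFreeOfRank a A) (hE : FlatMod.IsFinLocFreeOfRank e E)
    (h : Function.Injective (stalkLin f (genericPoint X))) : Mono f := by
  have cA := Groth.Agent.Lib.T2H6.RankAdd.isCoh_of_isFinLocFreeOfRank A a hA
  have cE := Groth.Agent.Lib.T2H6.RankAdd.isCoh_of_isFinLocFreeOfRank E e hE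
  have cK : Coh.IsCoh (kernel f) := Groth.Agent.Lib.T2H5.GenIsoB.isCoh_kernel f cA cE
  haveI := cK.1
  obtain ⟨r', -, hK⟩ := isFinLocFreeOfRank_of_mono hdim hreg (kernel.ι f) a hA
  have h0 : r' = 0 := by
    rw [← grank_of_isFinLocFreeOfRank _ _ hK]
    unfold grank
    haveI : Subsingleton ((kernel f).presheaf.stalk (genericPoint X)) := by
      refine ⟨fun p q => ?_⟩
      apply stalkLin_injective (kernel.ι f) (genericPoint X)
      apply h
      rw [← Groth.Agent.Lib.T2H5.Dev2.stalkLin_comp, ← Groth.Agent.Lib.T2H5.Dev2.stalkLin_comp,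
        kernel.condition, stalkLin_zero]
      rfl
    exact Module.finrank_zero_of_subsingleton
  subst h0
  exact Preadditive.mono_of_isZero_kernel f (isZero_of_rank_zero _ hK)

variable (k : Type u) [Field k] [X.Over (Spec (CommRingCat.of k))]
  [IsProper (X ↘ Spec (CommRingCat.of k))]

include k in
/-- If `G : E → E` satisfies `ker G_η ∩ im G_η = 0` at the generic point, then
`E ≅ ker G ⊕ im G`. -/
theorem split_of_generic (hdim : topologicalKrullDim X = 1)
    (hreg : ∀ x : X, IsRegularLocalRing (X.presheaf.stalk x)) {E : X.Modules} (r : ℕ)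
    (hE : FlatMod.IsFinLocFreeOfRank r E) (G : E ⟶ E)
    (h : ∀ v, stalkLin G (genericPoint X) (stalkLin G (genericPoint X) v) = 0 →
      stalkLin G (genericPoint X) v = 0) :
    Nonempty (E ≅ kernel G ⊞ Abelian.image G) := by
  haveI : IsLocallyNoetherian X := Groth.Agent.Lib.T2H6.CurveDeg.isLocallyNoetherian k
  obtain ⟨rK, rI, hK, hI, hrk, hIs, hdeg⟩ := ker_im_data k hdim hreg G r r hE hE
  have hθι : (Abelian.image.ι G ≫ Abelian.factorThruImage G) ≫ Abelian.image.ι G =
      Abelian.image.ι G ≫ G := by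
    rw [Category.assoc, Abelian.image.fac]
  have hθinj : Function.Injective
      (stalkLin (Abelian.image.ι G ≫ Abelian.factorThruImage G) (genericPoint X)) := by
    rw [injective_iff_map_eq_zero]
    intro m hm
    obtain ⟨v, rfl⟩ := stalkLin_surjective (Abelian.factorThruImage G) (genericPoint X) m
    have h1 : stalkLin (Abelian.image.ι G) (genericPoint X)
        (stalkLin (Abelian.factorThruImage G) (genericPoint X) v) =
        stalkLin G (genericPoint X) v := by
      rw [← Groth.Agent.Lib.T2H5.Dev2.stalkLin_comp, Abelian.image.fac]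
    have h2 : stalkLin G (genericPoint X) (stalkLin G (genericPoint X) v) = 0 := by
      rw [← h1, ← Groth.Agent.Lib.T2H5.Dev2.stalkLin_comp, ← hθι,
        Groth.Agent.Lib.T2H5.Dev2.stalkLin_comp, hm, map_zero]
    have h3 := h v h2
    apply stalkLin_injective (Abelian.image.ι G) (genericPoint X)
    rw [h1, h3, map_zero]
  haveI : Mono (Abelian.image.ι G ≫ Abelian.factorThruImage G) :=
    mono_of_generic_injective hdim.le hreg _ rI rI hI hI hθinj
  haveI : IsIso (Abelian.image.ι G ≫ Abelian.factorThruImage G) :=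
    ((deg_le_and_eq_iff_of_rank_eq k hdim _ rI hI hI).2).mp rfl
  have hsec : (inv (Abelian.image.ι G ≫ Abelian.factorThruImage G) ≫ Abelian.image.ι G) ≫
      (kerImSC G).g = 𝟙 _ := by
    rw [Category.assoc]
    exact IsIso.inv_hom_id (Abelian.image.ι G ≫ Abelian.factorThruImage G)
  exact ⟨(ShortComplex.Splitting.ofExactOfSection (kerImSC G) (kerImSC_shortExact G).exact
    _ hsec (kerImSC_shortExact G).mono_f).isoBinaryBiproduct⟩

include k in
/-- **Fitting decomposition** on a regular proper integral curve. -/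
theorem fitting (hdim : topologicalKrullDim X = 1)
    (hreg : ∀ x : X, IsRegularLocalRing (X.presheaf.stalk x)) {E : X.Modules} (r : ℕ)
    (hE : FlatMod.IsFinLocFreeOfRank r E) (g : End E) :
    Nonempty (E ≅ kernel (g ^ r : End E) ⊞ Abelian.image (g ^ r : End E)) := by
  refine split_of_generic k hdim hreg r hE (g ^ r : End E) ?_
  obtain ⟨hfree, hfin, hrk⟩ :=
    Groth.Agent.Lib.T2H6.RankAdd.free_finite_stalk E r hE (genericPoint X)
  letI : Field (X.presheaf.stalk (genericPoint X)) :=
    inferInstanceAs (Field X.functionField)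
  haveI := hfin
  intro v hv
  rw [stalkLin_pow] at hv ⊢
  have h1 : v ∈ LinearMap.ker ((stalkLin g (genericPoint X)) ^ (r + r)) := by
    rw [LinearMap.mem_ker, pow_add]
    exact hv
  have h2 := Module.End.ker_pow_eq_ker_pow_finrank_of_le (f := stalkLin g (genericPoint X))
    (m := r + r) (by rw [hrk]; omega)
  rw [h2, hrk] at h1
  exact h1

include k in
/-- An endomorphism of an indecomposable bundle of rank `r` on a regular proper integral curve is an
isomorphism or satisfies `g ^ r = 0`. -/
theorem isIso_or_pow_eq_zero (hdim : topologicalKrullDim X = 1)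
    (hreg : ∀ x : X, IsRegularLocalRing (X.presheaf.stalk x)) {E : X.Modules} (r : ℕ)
    (hE : FlatMod.IsFinLocFreeOfRank r E)
    (hind : ∀ (E₁ E₂ : X.Modules), Nonempty (E ≅ E₁ ⊞ E₂) → IsZero E₁ ∨ IsZero E₂)
    (g : End E) : IsIso (show E ⟶ E from g) ∨ g ^ r = 0 := by
  rcases hind _ _ (fitting k hdim hreg r hE g) with hz | hz
  · left
    rcases Nat.eq_zero_or_pos r with h0 | h0
    · subst h0
      have hzE := isZero_of_rank_zero E hE
      exact ⟨⟨0, hzE.eq_of_src _ _, hzE.eq_of_src _ _⟩⟩
    · haveI hm : Mono (show E ⟶ E from (g ^ r : End E)) :=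
        Preadditive.mono_of_isZero_kernel _ hz
      have hfac : (show E ⟶ E from (g ^ r : End E)) =
          (show E ⟶ E from g) ≫ (show E ⟶ E from (g ^ (r - 1) : End E)) := by
        obtain ⟨n, rfl⟩ : ∃ n, r = n + 1 := ⟨r - 1, by omega⟩
        rw [pow_succ, End.mul_def]
        rfl
      haveI : Mono (show E ⟶ E from g) := by
        rw [hfac] at hm
        exact mono_of_mono _ (show E ⟶ E from (g ^ (r - 1) : End E))
      exact ((deg_le_and_eq_iff_of_rank_eq k hdim (show E ⟶ E from g) r hE hE).2).mp rfl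
  · right
    exact eq_zero_of_isZero_image _ hz

end Groth.Agent.Lib.T2H6.CurveFitting
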