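import Mathlib
import Groth.Prelude.Def_Curv2
import Groth.Prelude.Def_KLin
import Groth.Agent.Lib.T2H6CurveFitting
import Groth.Agent.Lib.T2H6CurveSimple2

/-!
# Indecomposable bundles on curves have local endomorphism rings (helper6)
-/

set_option autoImplicit false
universe u

open AlgebraicGeometry CategoryTheory Limits

namespace Groth.Agent.Lib.T2H6.CurveIndec2

section Abstract

variable {C : Type*} [Category C] [Preadditive C] [HasBinaryBiproducts C]

theorem isZero_of_local {E E₁ E₂ : C} (e : E ≅ E₁ ⊞ E₂)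
    (h : ∀ f₁ f₂ : E ⟶ E, IsIso (f₁ + f₂) → IsIso f₁ ∨ IsIso f₂) : IsZero E₁ ∨ IsZero E₂ := by
  have hsum : e.hom ≫ biprod.fst ≫ biprod.inl ≫ e.inv + e.hom ≫ biprod.snd ≫ biprod.inr ≫ e.inv
      = 𝟙 E := by
    have : e.hom ≫ (biprod.fst ≫ biprod.inl + biprod.snd ≫ biprod.inr) ≫ e.inv = 𝟙 E := by
      rw [biprod.total]
      simp
    rw [← this, Preadditive.add_comp, Preadditive.comp_add]
    simp only [Category.assoc]
  have hiso : IsIso (e.hom ≫ biprod.fst ≫ biprod.inl ≫ e.inv +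
      e.hom ≫ biprod.snd ≫ biprod.inr ≫ e.inv) := by
    rw [hsum]
    infer_instance
  rcases h _ _ hiso with h1 | h1
  · right
    rw [IsZero.iff_id_eq_zero]
    have h0 : (e.hom ≫ biprod.fst ≫ biprod.inl ≫ e.inv) ≫ e.hom ≫ biprod.snd = 0 := by simp
    have h2 : e.hom ≫ (biprod.snd : E₁ ⊞ E₂ ⟶ E₂) = 0 := by
      rw [← cancel_epi (e.hom ≫ biprod.fst ≫ biprod.inl ≫ e.inv), h0, comp_zero]
    have h3 : (biprod.snd : E₁ ⊞ E₂ ⟶ E₂) = 0 := by
      rw [← cancel_epi e.hom, h2, comp_zero]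
    rw [← biprod.inr_snd (X := E₁) (Y := E₂), h3, comp_zero]
  · left
    rw [IsZero.iff_id_eq_zero]
    have h0 : (e.hom ≫ biprod.snd ≫ biprod.inr ≫ e.inv) ≫ e.hom ≫ biprod.fst = 0 := by simp
    have h2 : e.hom ≫ (biprod.fst : E₁ ⊞ E₂ ⟶ E₁) = 0 := by
      rw [← cancel_epi (e.hom ≫ biprod.snd ≫ biprod.inr ≫ e.inv), h0, comp_zero]
    have h3 : (biprod.fst : E₁ ⊞ E₂ ⟶ E₁) = 0 := by
      rw [← cancel_epi e.hom, h2, comp_zero]
    rw [← biprod.inl_fst (X := E₁) (Y := E₂), h3, comp_zero]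

end Abstract

open Groth.Agent.Lib.Helper4.NormDelta Groth.Agent.Lib.Helper23.StalkLin
  Groth.Agent.Lib.T2H6.CurveFitting

variable {X : Scheme.{u}} [IsIntegral X]

/-- A bundle of positive rank on an integral scheme is nonzero. -/
theorem not_isZero_of_rank_pos (r : ℕ) (hr : 0 < r) (E : X.Modules)
    (hE : FlatMod.IsFinLocFreeOfRank r E) : ¬ IsZero E := by
  intro hz
  obtain ⟨hfree, hfin, hrk⟩ :=
    Groth.Agent.Lib.T2H6.RankAdd.free_finite_stalk E r hE (genericPoint X)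
  haveI : Subsingleton (E.presheaf.stalk (genericPoint X)) := by
    refine ⟨fun p q => ?_⟩
    have h1 : stalkLin (𝟙 E) (genericPoint X) = stalkLin (0 : E ⟶ E) (genericPoint X) := by
      rw [hz.eq_of_src (𝟙 E) 0]
    rw [stalkLin_id, stalkLin_zero] at h1
    have hp : p = 0 := by
      have := LinearMap.congr_fun h1 p
      simpa using this
    have hq : q = 0 := by
      have := LinearMap.congr_fun h1 q
      simpa using this
    rw [hp, hq]
  rw [Module.finrank_zero_of_subsingleton] at hrk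
  omega

variable (k : Type u) [Field k] [X.Over (Spec (CommRingCat.of k))]
  [IsProper (X ↘ Spec (CommRingCat.of k))]

include k in
/-- The endomorphism ring of an indecomposable bundle is local. -/
theorem local_of_indecomposable (hdim : topologicalKrullDim X = 1)
    (hreg : ∀ x : X, IsRegularLocalRing (X.presheaf.stalk x)) {E : X.Modules} (r : ℕ)
    (hE : FlatMod.IsFinLocFreeOfRank r E)
    (hind : ∀ (E₁ E₂ : X.Modules), Nonempty (E ≅ E₁ ⊞ E₂) → IsZero E₁ ∨ IsZero E₂)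
    (f₁ f₂ : E ⟶ E) (h : IsIso (f₁ + f₂)) : IsIso f₁ ∨ IsIso f₂ := by
  by_cases h1 : IsIso f₁
  · exact Or.inl h1
  right
  haveI := h
  have hg : ¬ IsIso (f₁ ≫ inv (f₁ + f₂)) := by
    intro hgi
    apply h1
    have : f₁ = (f₁ ≫ inv (f₁ + f₂)) ≫ (f₁ + f₂) := by
      rw [Category.assoc, IsIso.inv_hom_id, Category.comp_id]
    rw [this]
    infer_instance
  obtain ⟨g, hgdef⟩ : ∃ g : End E, g = f₁ ≫ inv (f₁ + f₂) := ⟨_, rfl⟩
  rcases isIso_or_pow_eq_zero k hdim hreg r hE hind g with h2 | h2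
  · rw [hgdef] at h2
    exact absurd h2 hg
  have hnil : IsNilpotent g := ⟨r, h2⟩
  have hu : IsUnit (1 - g) := hnil.isUnit_one_sub
  haveI hiso : IsIso (𝟙 E - f₁ ≫ inv (f₁ + f₂)) := by
    have := (isUnit_iff_isIso _).mp hu
    rw [hgdef] at this
    exact this
  have : f₂ = (𝟙 E - f₁ ≫ inv (f₁ + f₂)) ≫ (f₁ + f₂) := by
    rw [Preadditive.sub_comp, Category.id_comp, Category.assoc, IsIso.inv_hom_id, Category.comp_id]
    abel
  rw [this]
  infer_instance

/-- Uniqueness of the "eigenvalue" of an endomorphism of an indecomposable bundle. -/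
theorem eigenvalue_unique (hdim : topologicalKrullDim X = 1)
    (hreg : ∀ x : X, IsRegularLocalRing (X.presheaf.stalk x)) {E : X.Modules} (r : ℕ)
    (hE : FlatMod.IsFinLocFreeOfRank r E)
    (hind : ∀ (E₁ E₂ : X.Modules), Nonempty (E ≅ E₁ ⊞ E₂) → IsZero E₁ ∨ IsZero E₂)
    (f : E ⟶ E) (a b : k) (ha : ¬ IsIso (f - a • 𝟙 E)) (hb : ¬ IsIso (f - b • 𝟙 E)) : a = b := by
  by_contra hab
  have hc : a - b ≠ 0 := sub_ne_zero.mpr hab
  obtain ⟨g, hgdef⟩ : ∃ g : End E, g = f - a • 𝟙 E := ⟨_, rfl⟩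
  rcases isIso_or_pow_eq_zero k hdim hreg r hE hind g with h1 | h1
  · rw [hgdef] at h1
    exact ha h1
  have hnil : IsNilpotent g := ⟨r, h1⟩
  have hu : IsUnit (algebraMap k (End E) (a - b)) := (IsUnit.mk0 _ hc).map (algebraMap k (End E))
  have hcomm : Commute g (algebraMap k (End E) (a - b)) :=
    (Algebra.commutes (a - b) g).symm
  have h3 := hnil.isUnit_add_right_of_commute hu hcomm
  apply hb
  have e : g + algebraMap k (End E) (a - b) = f - b • 𝟙 E := by
    rw [Algebra.algebraMap_eq_smul_one, hgdef]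
    change f - a • 𝟙 E + (a - b) • 𝟙 E = f - b • 𝟙 E
    rw [sub_smul]
    abel
  rw [e] at h3
  exact (isUnit_iff_isIso _).mp h3

end Groth.Agent.Lib.T2H6.CurveIndec2
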