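import Mathlib
import Groth.Prelude.Def_Curv2
import Groth.Prelude.Def_KLin
import Groth.Agent.Lib.T2H2RatFun3
import Groth.Agent.Lib.T2H6InvMono
import Groth.Agent.Lib.T2H6RankAdd
import Groth.Agent.Lib.Helper23QAffSec
import Groth.Agent.Lib.T2H5Dev2
import Groth.Agent.Lib.Helper23TensorUnit

/-!
# Maps into torsion-free modules are detected at the generic point (helper6)
-/

set_option autoImplicit false
universe u

open AlgebraicGeometry CategoryTheory Limits Opposite

namespace Groth.Agent.Lib.T2H6.GenericZero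

open Groth.Agent.Lib.Helper4.NormDelta Groth.Agent.Lib.Helper23.StalkLin

variable {X : Scheme.{u}} [IsIntegral X]

theorem isTorsionFree_of_isFinLocFreeOfRank (E : X.Modules) (r : ℕ)
    (hE : FlatMod.IsFinLocFreeOfRank r E) : TorSh.IsTorsionFree E := by
  intro x
  obtain ⟨hf, -, -⟩ := Groth.Agent.Lib.T2H6.RankAdd.free_finite_stalk E r hE x
  haveI := hf
  infer_instance

/-- A map into a torsion-free quasi-coherent module on an integral scheme which vanishes at the
generic point vanishes. -/
theorem eq_zero_of_stalkLin_generic_eq_zero {A B : X.Modules} [B.IsQuasicoherent]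
    (hB : TorSh.IsTorsionFree B) (f : A ⟶ B) (h : stalkLin f (genericPoint X) = 0) : f = 0 := by
  refine Groth.Agent.Lib.T2H6.InvMono.eq_zero_of_stalkLin_eq_zero f (fun x => ?_)
  ext g
  obtain ⟨U, hxU, m, rfl⟩ := A.presheaf.exists_germ_eq g
  rw [stalkLin_germ]
  have hη : genericPoint X ∈ U :=
    ((genericPoint_spec X).mem_open_set_iff U.2).2 ⟨x, trivial, hxU⟩
  have h0 : f.app U m = 0 := by
    apply Groth.Agent.Lib.T2H2.RatFun.germ_genericPoint_injective B hB hη
    rw [map_zero, ← stalkLin_germ f (genericPoint X) U hη m, h]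
    rfl
  rw [h0, map_zero]
  rfl

/-- If `E` has rank `> 1`, a nonzero section and a nonzero cosection, then `t ≫ s` is not
multiplication by a global function. -/
theorem ne_smulAb_of_sections (r : ℕ) (hr : 1 < r) (E : X.Modules)
    (hE : FlatMod.IsFinLocFreeOfRank r E)
    (s : Coh.structureModule X ⟶ E) (hs : s ≠ 0) (t : E ⟶ Coh.structureModule X) (ht : t ≠ 0)
    (γ : Coh.Γtop X) :
    (SheafOfModules.toSheaf X.ringCatSheaf).map (t ≫ s) ≠ Coh.smulAb E γ := by
  intro h
  have hO1 : FlatMod.IsFinLocFreeOfRank 1 (Coh.structureModule X) :=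
    Groth.Agent.Lib.Helper23.SecTw.isFinLocFreeOfRank_one_of_isInvertible _
      (Groth.Agent.Lib.Helper23.TensorUnit.isInvertible_structureModule X)
  have hOc := Groth.Agent.Lib.T2H6.RankAdd.isCoh_of_isFinLocFreeOfRank _ 1 hO1
  have hEc := Groth.Agent.Lib.T2H6.RankAdd.isCoh_of_isFinLocFreeOfRank _ r hE
  haveI := hOc.1
  haveI := hEc.1
  obtain ⟨hEf, hEfin, hEr⟩ :=
    Groth.Agent.Lib.T2H6.RankAdd.free_finite_stalk E r hE (genericPoint X)
  obtain ⟨hOf, hOfin, hOr⟩ :=
    Groth.Agent.Lib.T2H6.RankAdd.free_finite_stalk (Coh.structureModule X) 1 hO1 (genericPoint X)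
  letI : Field (X.presheaf.stalk (genericPoint X)) :=
    inferInstanceAs (Field X.functionField)
  haveI := hEfin
  haveI := hOfin
  -- the scalar
  have hact : ∀ v : E.presheaf.stalk (genericPoint X),
      stalkLin s (genericPoint X) (stalkLin t (genericPoint X) v) =
        X.presheaf.germ ⊤ (genericPoint X) trivial γ • v := by
    intro v
    obtain ⟨U, hηU, m, rfl⟩ := E.presheaf.exists_germ_eq v
    rw [← Groth.Agent.Lib.T2H5.Dev2.stalkLin_comp, stalkLin_germ]
    have h1 : (t ≫ s).app U m = X.presheaf.map (homOfLE (le_top : U ≤ ⊤)).op γ • m := by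
      have := congrArg (fun ψ => ψ.hom.app (op U) m) h
      exact this
    rw [h1]
    have h2 := PresheafOfModules.germ_smul (R := X.presheaf) E.val (genericPoint X) U hηU
      (X.presheaf.map (homOfLE (le_top : U ≤ ⊤)).op γ) m
    refine h2.trans ?_
    congr 1
    exact TopCat.Presheaf.germ_res_apply X.presheaf (homOfLE (le_top : U ≤ ⊤)) (genericPoint X)
      hηU _
  have hT : stalkLin t (genericPoint X) ≠ 0 := fun h0 =>
    ht (eq_zero_of_stalkLin_generic_eq_zero (isTorsionFree_of_isFinLocFreeOfRank _ 1 hO1) t h0)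
  have hS : stalkLin s (genericPoint X) ≠ 0 := fun h0 =>
    hs (eq_zero_of_stalkLin_generic_eq_zero (isTorsionFree_of_isFinLocFreeOfRank _ r hE) s h0)
  -- T is surjective
  obtain ⟨v₀, hv₀⟩ : ∃ v₀, stalkLin t (genericPoint X) v₀ ≠ 0 := by
    by_contra hcon
    push Not at hcon
    exact hT (LinearMap.ext hcon)
  have hTsurj : Function.Surjective (stalkLin t (genericPoint X)) := by
    intro w
    obtain ⟨a, ha⟩ := exists_smul_eq_of_finrank_eq_one hOr hv₀ w
    exact ⟨a • v₀, by rw [map_smul, ha]⟩
  obtain ⟨w, hw⟩ : ∃ w, stalkLin s (genericPoint X) w ≠ 0 := by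
    by_contra hcon
    push Not at hcon
    exact hS (LinearMap.ext hcon)
  obtain ⟨v, rfl⟩ := hTsurj w
  have hc : X.presheaf.germ ⊤ (genericPoint X) trivial γ ≠ 0 := by
    intro hc0
    rw [hact v, hc0, zero_smul] at hw
    exact hw rfl
  have hTinj : Function.Injective (stalkLin t (genericPoint X)) := by
    rw [injective_iff_map_eq_zero]
    intro v hv
    have := hact v
    rw [hv, map_zero] at this
    exact (smul_eq_zero.mp this.symm).resolve_left hc
  have := LinearMap.finrank_le_finrank_of_injective hTinj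
  rw [hEr, hOr] at this
  omega

end Groth.Agent.Lib.T2H6.GenericZero
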