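import Mathlib
import Groth.Prelude.Def_Curv2
import Groth.Agent.Lib.T2H6CurveSS2
import Groth.Agent.Lib.T2H6GenericZero
import Groth.Agent.Lib.T2H2RatFun3
import Groth.Agent.Lib.Helper23QCohLocal
import Groth.Agent.Lib.Helper23QCohAbelian
import Groth.Agent.Lib.Helper23FinTypeLocal
import Groth.Agent.Lib.Helper26ModRank
import Groth.Agent.S2288
import Groth.Agent.Lib.Helper20LocFree
import Groth.Agent.Lib.Helper18Strict1

/-!
# Torsion-free quotients and saturation on regular curves (helper6)

* `isFinLocFreeOfRank_of_torsionFree`: coherent torsion-free modules on a regular integral scheme of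
  dimension `≤ 1` are vector bundles.
* `exists_torsionFree_quotient`: every coherent module `Q` has a locally free quotient of the same
  generic rank.
* `exists_saturation`: every subbundle `I ⊆ F` is contained in a subbundle `I'` of the same rank with
  locally free quotient `F / I'`.
-/

set_option autoImplicit false
universe u

open AlgebraicGeometry CategoryTheory Limits

namespace Groth.Agent.Lib.T2H6.CurveSatur

open Groth.Agent.Lib.Helper4.NormDelta Groth.Agent.Lib.Helper23.StalkLin
  Groth.Agent.Lib.T2H6.CurveVB Groth.Agent.Lib.T2H6.CurveSS Groth.Agent.Lib.T2H6.CurveSS2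

variable {X : Scheme.{u}} [IsIntegral X]

/-- Coherent torsion-free modules on a regular integral scheme of dimension `≤ 1` are vector
bundles. -/
theorem isFinLocFreeOfRank_of_torsionFree [IsLocallyNoetherian X] (hdim : topologicalKrullDim X ≤ 1)
    (hreg : ∀ x : X, IsRegularLocalRing (X.presheaf.stalk x)) (G : X.Modules) (hG : Coh.IsCoh G)
    (htf : TorSh.IsTorsionFree G) : ∃ r : ℕ, FlatMod.IsFinLocFreeOfRank r G := by
  haveI := hG.1
  haveI : SheafOfModules.IsFiniteType (R := X.ringCatSheaf) G := hG.2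
  haveI : SheafOfModules.IsFinitePresentation (R := X.ringCatSheaf) G :=
    Groth.Agent.Lib.Helper23.FinType.isFinitePresentation_of_isFiniteType G
  have hlf : FlatMod.IsFinLocFree G := by
    intro x
    refine Groth.Agent.Lib.Helper2.LocFree.exists_restrict_iso_freeMod_of_isFlatAt G x ?_
    haveI := isPrincipalIdealRing_stalk hdim hreg x
    haveI := htf x
    change Module.Flat (X.presheaf.stalk x) (G.presheaf.stalk x)
    infer_instance
  exact ⟨_, exists_rank G hlf⟩

omit [IsIntegral X] in
/-- The image of a map from a coherent module to a quasi-coherent module is coherent. -/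
theorem isCoh_image' {A B : X.Modules} [A.IsQuasicoherent] [B.IsQuasicoherent]
    [SheafOfModules.IsFiniteType (R := X.ringCatSheaf) A] (u : A ⟶ B) :
    Coh.IsCoh (Abelian.image u) := by
  haveI : (cokernel u).IsQuasicoherent :=
    Groth.Agent.Lib.Helper23.QCohLocal.isQuasicoherent_cokernel u
  have h1 : Coh.IsQCoh (kernel (cokernel.π u)) :=
    Groth.Agent.Lib.Helper23.QCohLocal.isQuasicoherent_kernel (cokernel.π u)
  have h2 : Coh.IsQCoh (Abelian.image u) := h1
  haveI := h2
  have h3 : CohB1.IsFT (Abelian.image u) :=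
    Groth.Agent.Lib.Helper23.FinType.isFiniteType_of_epi (Abelian.factorThruImage u)
  exact ⟨h2, h3⟩

/-- Every coherent module on a regular integral Noetherian scheme of dimension `≤ 1` has a locally
free quotient of the same generic rank. -/
theorem exists_torsionFree_quotient [IsNoetherian X] (hdim : topologicalKrullDim X ≤ 1)
    (hreg : ∀ x : X, IsRegularLocalRing (X.presheaf.stalk x)) (Q : X.Modules) (hQ : Coh.IsCoh Q) :
    ∃ (Q' : X.Modules) (π : Q ⟶ Q'), Epi π ∧ FlatMod.IsFinLocFreeOfRank (grank Q) Q' := by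
  haveI := hQ.1
  haveI : SheafOfModules.IsFiniteType (R := X.ringCatSheaf) Q := hQ.2
  haveI : SheafOfModules.IsFinitePresentation (R := X.ringCatSheaf) Q :=
    Groth.Agent.Lib.Helper23.FinType.isFinitePresentation_of_isFiniteType Q
  have hflat : FlatMod.IsFlatAt Q (genericPoint X) := by
    letI : Field (X.presheaf.stalk (genericPoint X)) :=
      inferInstanceAs (Field X.functionField)
    change Module.Flat (X.presheaf.stalk (genericPoint X)) (Q.presheaf.stalk (genericPoint X))
    infer_instance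
  obtain ⟨D, m, hηD, ⟨e⟩⟩ :=
    Groth.Agent.Lib.Helper2.LocFree.exists_restrict_iso_freeMod_of_isFlatAt Q (genericPoint X) hflat
  haveI : Nonempty D := ⟨⟨genericPoint X, hηD⟩⟩
  haveI : IsDominant D.ι := ⟨by
    rw [DenseRange, Scheme.Opens.range_ι]
    exact D.2.dense ⟨_, hηD⟩⟩
  have hrk : FlatMod.IsFinLocFreeOfRank m (Q.restrict D.ι) := fun _ => ⟨⊤, trivial,
    ⟨(Scheme.Modules.restrictFunctor (⊤ : (D : Scheme.{u}).Opens).ι).mapIso e ≪≫
      Groth.Agent.Lib.Helper20.LocFree.restrictFreeMod _ m⟩⟩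
  have htfD : TorSh.IsTorsionFree (Q.restrict D.ι) :=
    Groth.Agent.Lib.T2H6.GenericZero.isTorsionFree_of_isFinLocFreeOfRank _ m hrk
  haveI : (Q.restrict D.ι).IsQuasicoherent :=
    Scheme.Modules.isQuasicoherent_restrictFunctor D.ι Q
  have htfP : TorSh.IsTorsionFree ((Scheme.Modules.pushforward D.ι).obj (Q.restrict D.ι)) :=
    Groth.Agent.S2288.result D.ι _ htfD
  haveI : ((Scheme.Modules.pushforward D.ι).obj (Q.restrict D.ι)).IsQuasicoherent :=
    Groth.Agent.Lib.Helper23.QCohLocal.isQuasicoherent_pushforward _ _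
  obtain ⟨u, hu⟩ : ∃ u : Q ⟶ (Scheme.Modules.pushforward D.ι).obj (Q.restrict D.ι),
      u = (Scheme.Modules.restrictAdjunction D.ι).unit.app Q := ⟨_, rfl⟩
  have hu_app : ∀ (V : X.Opens) (t : Γ(Q, V)), u.app V t =
      Q.presheaf.map (homOfLE (D.ι.image_preimage_le V)).op t := by
    intro V t
    rw [hu]
    rfl
  -- the image of `u`
  have hIc : Coh.IsCoh (Abelian.image u) := isCoh_image' u
  have hItf : TorSh.IsTorsionFree (Abelian.image u) :=
    Groth.Agent.Lib.T2H2.RatFun.isTorsionFree_of_mono (Abelian.image.ι u) htfP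
  obtain ⟨r', hr'⟩ := isFinLocFreeOfRank_of_torsionFree hdim hreg _ hIc hItf
  refine ⟨Abelian.image u, Abelian.factorThruImage u, inferInstance, ?_⟩
  -- generic ranks agree
  have hinj : Function.Injective (stalkLin (Abelian.factorThruImage u) (genericPoint X)) := by
    rw [injective_iff_map_eq_zero]
    intro v hv
    have h1 : stalkLin u (genericPoint X) v = 0 := by
      rw [← Abelian.image.fac u, Groth.Agent.Lib.T2H5.Dev2.stalkLin_comp, hv, map_zero]
    obtain ⟨U, hηU, t, rfl⟩ := Q.presheaf.exists_germ_eq v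
    rw [stalkLin_germ] at h1
    have h2 : ((Scheme.Modules.pushforward D.ι).obj (Q.restrict D.ι)).presheaf.germ U
        (genericPoint X) hηU (u.app U t) =
        ((Scheme.Modules.pushforward D.ι).obj (Q.restrict D.ι)).presheaf.germ U
        (genericPoint X) hηU 0 := by
      rw [h1, map_zero]
    obtain ⟨W, hηW, i₁, i₂, hres⟩ :=
      ((Scheme.Modules.pushforward D.ι).obj (Q.restrict D.ι)).presheaf.germ_eq _ hηU hηU _ _ h2
    rw [map_zero] at hres
    -- `u` commutes with restriction
    have hnat : ((Scheme.Modules.pushforward D.ι).obj (Q.restrict D.ι)).presheaf.map i₁.op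
        (u.app U t) = u.app W (Q.presheaf.map i₁.op t) :=
      (NatTrans.naturality_apply (Scheme.Modules.Hom.mapPresheaf u) i₁.op t).symm
    rw [hnat, hu_app] at hres
    have hηDW : genericPoint X ∈ D.ι ''ᵁ (D.ι ⁻¹ᵁ W) := by
      rw [Groth.Agent.Helper18Strict.ι_image_preimage]
      exact ⟨hηD, hηW⟩
    have h3 : Q.presheaf.germ U (genericPoint X) hηU t =
        Q.presheaf.germ (D.ι ''ᵁ (D.ι ⁻¹ᵁ W)) (genericPoint X) hηDW
          (Q.presheaf.map (homOfLE (D.ι.image_preimage_le W)).op (Q.presheaf.map i₁.op t)) := by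
      rw [TopCat.Presheaf.germ_res_apply, TopCat.Presheaf.germ_res_apply]
    rw [h3, hres]
    exact map_zero _
  have hsurj := stalkLin_surjective (Abelian.factorThruImage u) (genericPoint X)
  have heq : grank Q = r' := by
    rw [← grank_of_isFinLocFreeOfRank _ _ hr']
    exact (LinearEquiv.ofBijective _ ⟨hinj, hsurj⟩).finrank_eq
  rw [heq]
  exact hr'

variable (k : Type u) [Field k] [X.Over (Spec (CommRingCat.of k))]
  [IsProper (X ↘ Spec (CommRingCat.of k))]

omit [IsIntegral X] in
include k in
theorem isNoetherian_of_proper : IsNoetherian X := by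
  haveI : IsLocallyNoetherian X :=
    LocallyOfFiniteType.isLocallyNoetherian (X ↘ Spec (CommRingCat.of k))
  haveI : CompactSpace X :=
    QuasiCompact.compactSpace_of_compactSpace (X ↘ Spec (CommRingCat.of k))
  exact {}

/-- **Saturation.** Every subbundle `I ⊆ F` on a regular proper integral curve is contained in a
subbundle `I'` of the same rank such that `F / I'` is locally free; moreover `deg I ≤ deg I'` with
equality only if `I = I'`. -/
theorem exists_saturation (hdim : topologicalKrullDim X = 1)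
    (hreg : ∀ x : X, IsRegularLocalRing (X.presheaf.stalk x)) {I F : X.Modules} (i : I ⟶ F)
    [Mono i] (n s : ℕ) (hI : FlatMod.IsFinLocFreeOfRank n I)
    (hF : FlatMod.IsFinLocFreeOfRank s F) :
    ∃ (I' : X.Modules) (i' : I' ⟶ F) (j : I ⟶ I'), Mono i' ∧ j ≫ i' = i ∧ n ≤ s ∧
      FlatMod.IsFinLocFreeOfRank n I' ∧ FlatMod.IsFinLocFreeOfRank (s - n) (cokernel i') ∧
      Curv2.deg k X I n ≤ Curv2.deg k X I' n ∧
      (Curv2.deg k X I n = Curv2.deg k X I' n → IsIso j) := by
  haveI : IsNoetherian X := isNoetherian_of_proper k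
  have cI := Groth.Agent.Lib.T2H6.RankAdd.isCoh_of_isFinLocFreeOfRank _ _ hI
  have cF := Groth.Agent.Lib.T2H6.RankAdd.isCoh_of_isFinLocFreeOfRank _ _ hF
  have cQ : Coh.IsCoh (cokernel i) := Groth.Agent.Lib.T2H5.GenIsoB.isCoh_cokernel i cI cF
  have hSES := Groth.Agent.Lib.T2H6.CurveSub.sc_shortExact i
  have hg : s = n + grank (cokernel i) := by
    have := grank_add _ hSES cI cQ
    rwa [show grank (Groth.Agent.Lib.T2H6.CurveDeg.sc i).X₁ = n from
        grank_of_isFinLocFreeOfRank _ _ hI,
      show grank (Groth.Agent.Lib.T2H6.CurveDeg.sc i).X₂ = s from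
        grank_of_isFinLocFreeOfRank _ _ hF] at this
  obtain ⟨Q', π, hπ, hQ'⟩ := exists_torsionFree_quotient hdim.le hreg (cokernel i) cQ
  haveI := hπ
  have cQ' := Groth.Agent.Lib.T2H6.RankAdd.isCoh_of_isFinLocFreeOfRank _ _ hQ'
  obtain ⟨p, hp⟩ : ∃ p : F ⟶ Q', p = cokernel.π i ≫ π := ⟨_, rfl⟩
  haveI : Epi p := by
    rw [hp]
    exact epi_comp _ _
  have cK : Coh.IsCoh (kernel p) := Groth.Agent.Lib.T2H5.GenIsoB.isCoh_kernel p cF cQ'
  haveI := cK.1
  let Sa : ShortComplex X.Modules := ShortComplex.mk (kernel.ι p) p (kernel.condition p)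
  have hSa : Sa.ShortExact :=
    haveI : Mono Sa.f := inferInstanceAs (Mono (kernel.ι p))
    haveI : Epi Sa.g := inferInstanceAs (Epi p)
    ShortComplex.ShortExact.mk (ShortComplex.exact_kernel p)
  obtain ⟨rK, -, hK⟩ := isFinLocFreeOfRank_of_mono hdim.le hreg (kernel.ι p) s hF
  have hrk : s = rK + grank (cokernel i) :=
    Groth.Agent.Lib.T2H6.RankAdd.rank_add Sa hSa rK s _ hK hF hQ' (genericPoint X)
  have hrK : rK = n := by omega
  subst hrK
  have hgQ : grank (cokernel i) = s - rK := by omega
  have hw : i ≫ p = 0 := by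
    rw [hp, ← Category.assoc, cokernel.condition, zero_comp]
  haveI : Mono (kernel.lift p i hw) := mono_of_mono_fac (kernel.lift_ι p i hw)
  have hdeg := deg_le_and_eq_iff_of_rank_eq k hdim (kernel.lift p i hw) rK hI hK
  let e : cokernel (kernel.ι p) ≅ Q' :=
    (cokernelIsCokernel (kernel.ι p)).coconePointUniqueUpToIso
      (Abelian.epiIsCokernelOfKernel (KernelFork.ofι (kernel.ι p) (kernel.condition p))
        (kernelIsKernel p))
  refine ⟨kernel p, kernel.ι p, kernel.lift p i hw, inferInstance, kernel.lift_ι p i hw, by omega,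
    hK, ?_, hdeg.1, fun h => hdeg.2.mp h⟩
  rw [← hgQ]
  exact Groth.Agent.Lib.Helper26.ModRank.isFinLocFreeOfRank_of_iso e.symm hQ'

end Groth.Agent.Lib.T2H6.CurveSatur
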