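import Mathlib
import Groth.Prelude.Def_Curv2
import Groth.Agent.Lib.T2H6CurveSatur
import Groth.Agent.Lib.T2H6CurveIndec2

/-!
# (Semi)stability via subbundles and via quotient bundles (helper6)
-/

set_option autoImplicit false
universe u

open AlgebraicGeometry CategoryTheory Limits

namespace Groth.Agent.Lib.T2H6.CurveQuot

open Groth.Agent.Lib.T2H6.CurveVB Groth.Agent.Lib.T2H6.CurveSS Groth.Agent.Lib.T2H6.CurveSS2
  Groth.Agent.Lib.T2H6.CurveSatur

variable {X : Scheme.{u}} [IsIntegral X] (k : Type u) [Field k] [X.Over (Spec (CommRingCat.of k))]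
  [IsProper (X ↘ Spec (CommRingCat.of k))]

/-- Kernel data of an epimorphism of bundles. -/
theorem kernel_data (hdim : topologicalKrullDim X = 1)
    (hreg : ∀ x : X, IsRegularLocalRing (X.presheaf.stalk x)) {E F : X.Modules} (p : E ⟶ F)
    [Epi p] (r s : ℕ) (hE : FlatMod.IsFinLocFreeOfRank r E) (hF : FlatMod.IsFinLocFreeOfRank s F) :
    ∃ rK : ℕ, FlatMod.IsFinLocFreeOfRank rK (kernel p) ∧ r = rK + s ∧
      Curv2.deg k X E r = Curv2.deg k X (kernel p) rK + Curv2.deg k X F s := by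
  haveI : IsLocallyNoetherian X := Groth.Agent.Lib.T2H6.CurveDeg.isLocallyNoetherian k
  have cE := Groth.Agent.Lib.T2H6.RankAdd.isCoh_of_isFinLocFreeOfRank _ _ hE
  have cF := Groth.Agent.Lib.T2H6.RankAdd.isCoh_of_isFinLocFreeOfRank _ _ hF
  have cK : Coh.IsCoh (kernel p) := Groth.Agent.Lib.T2H5.GenIsoB.isCoh_kernel p cE cF
  haveI := cK.1
  let Sa : ShortComplex X.Modules := ShortComplex.mk (kernel.ι p) p (kernel.condition p)
  have hSa : Sa.ShortExact :=
    haveI : Mono Sa.f := inferInstanceAs (Mono (kernel.ι p))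
    haveI : Epi Sa.g := inferInstanceAs (Epi p)
    ShortComplex.ShortExact.mk (ShortComplex.exact_kernel p)
  obtain ⟨rK, -, hK⟩ := isFinLocFreeOfRank_of_mono hdim.le hreg (kernel.ι p) r hE
  exact ⟨rK, hK, Groth.Agent.Lib.T2H6.RankAdd.rank_add Sa hSa rK r s hK hE hF (genericPoint X),
    Groth.Agent.Lib.T2H6.RankAdd.deg_additive k Sa hSa rK r s hK hE hF⟩

theorem sub_of_quot_ss (hdim : topologicalKrullDim X = 1)
    (hreg : ∀ x : X, IsRegularLocalRing (X.presheaf.stalk x)) (r : ℕ) (E : X.Modules)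
    (hE : FlatMod.IsFinLocFreeOfRank r E)
    (hq : ∀ (F : X.Modules) (s : ℕ) (p : E ⟶ F), Epi p → 0 < s → FlatMod.IsFinLocFreeOfRank s F →
      Curv2.deg k X E r * (s : ℤ) ≤ Curv2.deg k X F s * (r : ℤ)) :
    ∀ (G : X.Modules) (r' : ℕ) (i : G ⟶ E), Mono i → 0 < r' → FlatMod.IsFinLocFreeOfRank r' G →
      Curv2.deg k X G r' * (r : ℤ) ≤ Curv2.deg k X E r * (r' : ℤ) := by
  intro G r' i hi hr' hG
  haveI := hi
  obtain ⟨G', i', j, hi', hfac, hle, hG', hC, hd, -⟩ := exists_saturation k hdim hreg i r' r hG hE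
  haveI := hi'
  rcases hle.eq_or_lt with heq | hlt
  · subst heq
    have h1 := (deg_le_and_eq_iff_of_rank_eq k hdim i r' hG hE).1
    exact mul_le_mul_of_nonneg_right h1 (Int.natCast_nonneg _)
  · have h1 := hq (cokernel i') (r - r') (cokernel.π i') inferInstance (by omega) hC
    have h2 := Groth.Agent.Lib.T2H6.RankAdd.deg_additive k (Groth.Agent.Lib.T2H6.CurveDeg.sc i')
      (Groth.Agent.Lib.T2H6.CurveSub.sc_shortExact i') r' r (r - r') hG' hE hC
    change Curv2.deg k X E r = Curv2.deg k X G' r' + Curv2.deg k X (cokernel i') (r - r') at h2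
    rw [Nat.cast_sub hle] at h1
    have h3 : Curv2.deg k X G r' * (r : ℤ) ≤ Curv2.deg k X G' r' * (r : ℤ) :=
      mul_le_mul_of_nonneg_right hd (Int.natCast_nonneg _)
    nlinarith

theorem quot_of_sub_ss (hdim : topologicalKrullDim X = 1)
    (hreg : ∀ x : X, IsRegularLocalRing (X.presheaf.stalk x)) (r : ℕ) (E : X.Modules)
    (hE : FlatMod.IsFinLocFreeOfRank r E)
    (hsub : ∀ (G : X.Modules) (r' : ℕ) (i : G ⟶ E), Mono i → 0 < r' →
      FlatMod.IsFinLocFreeOfRank r' G → Curv2.deg k X G r' * (r : ℤ) ≤ Curv2.deg k X E r * (r' : ℤ)) :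
    ∀ (F : X.Modules) (s : ℕ) (p : E ⟶ F), Epi p → 0 < s → FlatMod.IsFinLocFreeOfRank s F →
      Curv2.deg k X E r * (s : ℤ) ≤ Curv2.deg k X F s * (r : ℤ) := by
  intro F s p hp hs hF
  haveI := hp
  obtain ⟨rK, hK, hrk, hdeg⟩ := kernel_data k hdim hreg p r s hE hF
  have hrk' : (r : ℤ) = (rK : ℤ) + (s : ℤ) := by exact_mod_cast hrk
  rcases Nat.eq_zero_or_pos rK with h0 | h0
  · subst h0
    rw [deg_eq_zero_of_rank_zero k _ hK, zero_add] at hdeg
    have : r = s := by omega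
    subst this
    rw [hdeg]
  · have h1 := hsub _ rK (kernel.ι p) inferInstance h0 hK
    rw [hdeg, hrk'] at h1 ⊢
    linarith

theorem sub_of_quot_st (hdim : topologicalKrullDim X = 1)
    (hreg : ∀ x : X, IsRegularLocalRing (X.presheaf.stalk x)) (r : ℕ) (hr : 0 < r) (E : X.Modules)
    (hE : FlatMod.IsFinLocFreeOfRank r E)
    (hq : ∀ (F : X.Modules) (s : ℕ) (p : E ⟶ F), Epi p → 0 < s → FlatMod.IsFinLocFreeOfRank s F →
      (¬ IsIso p) → Curv2.deg k X E r * (s : ℤ) < Curv2.deg k X F s * (r : ℤ)) :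
    ∀ (G : X.Modules) (r' : ℕ) (i : G ⟶ E), Mono i → 0 < r' → FlatMod.IsFinLocFreeOfRank r' G →
      (¬ IsIso i) → Curv2.deg k X G r' * (r : ℤ) < Curv2.deg k X E r * (r' : ℤ) := by
  intro G r' i hi hr' hG hni
  haveI := hi
  obtain ⟨G', i', j, hi', hfac, hle, hG', hC, hd, -⟩ := exists_saturation k hdim hreg i r' r hG hE
  haveI := hi'
  have hr0 : (0 : ℤ) < (r : ℤ) := by exact_mod_cast hr
  rcases hle.eq_or_lt with heq | hlt
  · subst heq
    have h1 := deg_le_and_eq_iff_of_rank_eq k hdim i r' hG hE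
    have h2 : Curv2.deg k X G r' < Curv2.deg k X E r' :=
      lt_of_le_of_ne h1.1 (fun h => hni (h1.2.mp h))
    exact mul_lt_mul_of_pos_right h2 hr0
  · have hnp : ¬ IsIso (cokernel.π i') := by
      intro hiso
      have hz : i' = 0 := by
        rw [← cancel_mono (cokernel.π i'), cokernel.condition, zero_comp]
      apply Groth.Agent.Lib.T2H6.CurveIndec2.not_isZero_of_rank_pos r' hr' G' hG'
      rw [IsZero.iff_id_eq_zero, ← cancel_mono i', hz]
      simp
    have h1 := hq (cokernel i') (r - r') (cokernel.π i') inferInstance (by omega) hC hnp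
    have h2 := Groth.Agent.Lib.T2H6.RankAdd.deg_additive k (Groth.Agent.Lib.T2H6.CurveDeg.sc i')
      (Groth.Agent.Lib.T2H6.CurveSub.sc_shortExact i') r' r (r - r') hG' hE hC
    change Curv2.deg k X E r = Curv2.deg k X G' r' + Curv2.deg k X (cokernel i') (r - r') at h2
    rw [Nat.cast_sub hle] at h1
    have h3 : Curv2.deg k X G r' * (r : ℤ) ≤ Curv2.deg k X G' r' * (r : ℤ) :=
      mul_le_mul_of_nonneg_right hd (Int.natCast_nonneg _)
    nlinarith

theorem quot_of_sub_st (hdim : topologicalKrullDim X = 1)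
    (hreg : ∀ x : X, IsRegularLocalRing (X.presheaf.stalk x)) (r : ℕ) (E : X.Modules)
    (hE : FlatMod.IsFinLocFreeOfRank r E)
    (hsub : ∀ (G : X.Modules) (r' : ℕ) (i : G ⟶ E), Mono i → 0 < r' →
      FlatMod.IsFinLocFreeOfRank r' G → (¬ IsIso i) →
      Curv2.deg k X G r' * (r : ℤ) < Curv2.deg k X E r * (r' : ℤ)) :
    ∀ (F : X.Modules) (s : ℕ) (p : E ⟶ F), Epi p → 0 < s → FlatMod.IsFinLocFreeOfRank s F →
      (¬ IsIso p) → Curv2.deg k X E r * (s : ℤ) < Curv2.deg k X F s * (r : ℤ) := by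
  intro F s p hp hs hF hnp
  haveI := hp
  obtain ⟨rK, hK, hrk, hdeg⟩ := kernel_data k hdim hreg p r s hE hF
  have hrk' : (r : ℤ) = (rK : ℤ) + (s : ℤ) := by exact_mod_cast hrk
  rcases Nat.eq_zero_or_pos rK with h0 | h0
  · subst h0
    exfalso
    apply hnp
    haveI : Mono p := Preadditive.mono_of_isZero_kernel p (isZero_of_rank_zero _ hK)
    exact isIso_of_mono_of_epi p
  · have hnk : ¬ IsIso (kernel.ι p) := by
      intro hiso
      have hz : p = 0 := by
        rw [← cancel_epi (kernel.ι p), kernel.condition, comp_zero]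
      apply Groth.Agent.Lib.T2H6.CurveIndec2.not_isZero_of_rank_pos s hs F hF
      rw [IsZero.iff_id_eq_zero, ← cancel_epi p, hz]
      simp
    have h1 := hsub _ rK (kernel.ι p) inferInstance h0 hK hnk
    rw [hdeg, hrk'] at h1 ⊢
    linarith

end Groth.Agent.Lib.T2H6.CurveQuot
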