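import Mathlib
import Groth.Agent.Lib.T2H5Twist

/-!
# Twisted endomorphisms (Higgs fields) and invariant subobjects: abstract lemmas (helper6)

For an exact additive endofunctor `T` of an abelian category (meant: `- ⊗ L` for an invertible module
`L`), a `T`-twisted endomorphism of `E` is a map `φ : E ⟶ T.obj E`; a subobject `j : G ⟶ E` is invariant
when `j ≫ φ` factors through `T.map j`.
-/

set_option autoImplicit false
universe u v
open CategoryTheory CategoryTheory.Limits AlgebraicGeometry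

namespace Groth.Agent.Lib.T2H6.Higgs

section abstract

variable {𝒜 : Type u} [Category.{v} 𝒜] [Abelian 𝒜] (T : 𝒜 ⥤ 𝒜) [T.Additive]
  [PreservesFiniteLimits T] [PreservesFiniteColimits T]

/-- lifting through `T` of a kernel. -/
theorem exists_lift (S : ShortComplex 𝒜) (hS : S.Exact) [Mono S.f] {A : 𝒜} (a : A ⟶ T.obj S.X₂)
    (ha : a ≫ T.map S.g = 0) : ∃ χ : A ⟶ T.obj S.X₁, χ ≫ T.map S.f = a := by
  have hS' : (S.map T).Exact := hS.map T
  haveI : Mono (S.map T).f := inferInstanceAs (Mono (T.map S.f))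
  exact ⟨hS'.lift a ha, hS'.lift_f a ha⟩

/-- the kernel of a compatible map is invariant. -/
theorem exists_lift_kernel {E F : 𝒜} (f : E ⟶ F) (φ : E ⟶ T.obj E) (ψ : F ⟶ T.obj F)
    (hf : f ≫ ψ = φ ≫ T.map f) :
    ∃ χ : kernel f ⟶ T.obj (kernel f), χ ≫ T.map (kernel.ι f) = kernel.ι f ≫ φ := by
  refine exists_lift T (ShortComplex.mk (kernel.ι f) f (kernel.condition f))
    (ShortComplex.exact_kernel f) (kernel.ι f ≫ φ) ?_
  change (kernel.ι f ≫ φ) ≫ T.map f = 0
  rw [Category.assoc, ← hf, kernel.condition_assoc, zero_comp]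

/-- the image of a compatible map is invariant. -/
theorem exists_lift_image {E F : 𝒜} (f : E ⟶ F) (φ : E ⟶ T.obj E) (ψ : F ⟶ T.obj F)
    (hf : f ≫ ψ = φ ≫ T.map f) :
    ∃ χ : Abelian.image f ⟶ T.obj (Abelian.image f),
      χ ≫ T.map (Abelian.image.ι f) = Abelian.image.ι f ≫ ψ := by
  refine exists_lift T (ShortComplex.mk (Abelian.image.ι f) (cokernel.π f) (kernel.condition _))
    (ShortComplex.exact_kernel (cokernel.π f)) (Abelian.image.ι f ≫ ψ) ?_
  change (Abelian.image.ι f ≫ ψ) ≫ T.map (cokernel.π f) = 0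
  rw [← cancel_epi (Abelian.factorThruImage f), comp_zero, ← Category.assoc, ← Category.assoc,
    Abelian.image.fac, hf, Category.assoc, ← T.map_comp, cokernel.condition, T.map_zero, comp_zero]

omit [PreservesFiniteLimits T] [PreservesFiniteColimits T] in
/-- the twisted endomorphism induced on the cokernel of an invariant subobject. -/
theorem exists_desc_cokernel {G E : 𝒜} (j : G ⟶ E) (φ : E ⟶ T.obj E) (χ : G ⟶ T.obj G)
    (h : χ ≫ T.map j = j ≫ φ) :
    ∃ φ' : cokernel j ⟶ T.obj (cokernel j), cokernel.π j ≫ φ' = φ ≫ T.map (cokernel.π j) := by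
  refine ⟨cokernel.desc j (φ ≫ T.map (cokernel.π j)) ?_, cokernel.π_desc _ _ _⟩
  rw [← Category.assoc, ← h, Category.assoc, ← T.map_comp, cokernel.condition, T.map_zero, comp_zero]

/-- the preimage of an invariant subobject of the quotient by an invariant subobject is invariant. -/
theorem exists_lift_preimage {E Q G : 𝒜} (p : E ⟶ Q) (φ : E ⟶ T.obj E) (φ' : Q ⟶ T.obj Q)
    (hp : p ≫ φ' = φ ≫ T.map p) (j : G ⟶ Q) (χ : G ⟶ T.obj G) (h : χ ≫ T.map j = j ≫ φ') :
    ∃ χ' : kernel (p ≫ cokernel.π j) ⟶ T.obj (kernel (p ≫ cokernel.π j)),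
      χ' ≫ T.map (kernel.ι (p ≫ cokernel.π j)) = kernel.ι (p ≫ cokernel.π j) ≫ φ := by
  obtain ⟨φ'', hφ''⟩ := exists_desc_cokernel T j φ' χ h
  refine exists_lift_kernel T (p ≫ cokernel.π j) φ φ'' ?_
  rw [Category.assoc, hφ'', ← Category.assoc, hp, Category.assoc, ← T.map_comp]

/-- a twisted endomorphism of square zero factors as `E ↠ coim ⟶ T (ker) ↪ T E`. -/
theorem exists_nilpotent_factor {E : 𝒜} (α : E ⟶ T.obj E) (hα : α ≫ T.map α = 0) :
    ∃ β : cokernel (kernel.ι α) ⟶ T.obj (kernel α),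
      cokernel.π (kernel.ι α) ≫ β ≫ T.map (kernel.ι α) = α := by
  have h1 : cokernel.desc (kernel.ι α) α (kernel.condition α) ≫ T.map α = 0 := by
    rw [← cancel_epi (cokernel.π (kernel.ι α)), cokernel.π_desc_assoc, hα, comp_zero]
  obtain ⟨β, hβ⟩ := exists_lift T (ShortComplex.mk (kernel.ι α) α (kernel.condition α))
    (ShortComplex.exact_kernel α) _ h1
  refine ⟨β, ?_⟩
  change β ≫ T.map (kernel.ι α) = _ at hβ
  rw [hβ, cokernel.π_desc]

omit [PreservesFiniteLimits T] [PreservesFiniteColimits T] in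
/-- `E ↠ E / L ⟶ T L ↪ T E` has square zero. -/
theorem sq_zero_of_factor {L E : 𝒜} (j : L ⟶ E) (β : cokernel j ⟶ T.obj L) :
    (cokernel.π j ≫ β ≫ T.map j) ≫ T.map (cokernel.π j ≫ β ≫ T.map j) = 0 := by
  have : T.map j ≫ T.map (cokernel.π j ≫ β ≫ T.map j) = 0 := by
    rw [← T.map_comp, cokernel.condition_assoc, zero_comp, T.map_zero]
  rw [Category.assoc, Category.assoc, this, comp_zero, comp_zero]

omit [PreservesFiniteLimits T] [PreservesFiniteColimits T] in
/-- `E ⟶ T L ⟶ T E` has square zero when `L ⟶ E ⟶ T L` vanishes. -/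
theorem sq_zero_of_comp_eq_zero {L E : 𝒜} (s : L ⟶ E) (t : E ⟶ T.obj L) (h : s ≫ t = 0) :
    (t ≫ T.map s) ≫ T.map (t ≫ T.map s) = 0 := by
  rw [Category.assoc, ← T.map_comp, ← Category.assoc s, h, zero_comp, T.map_zero, comp_zero]

end abstract

end Groth.Agent.Lib.T2H6.Higgs
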