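import Mathlib
import Groth.Prelude.Def_Curv2
import Groth.Agent.Lib.T2H6Higgs
import Groth.Agent.Lib.T2H6CurveQuot
import Groth.Agent.Lib.T2H6GenericZero
import Groth.Agent.Lib.Helper1FLF1
import Groth.Agent.Lib.T2H6CurveFitting

/-!
# Twisted endomorphisms of bundles on a regular proper curve (helper6)

Invariance of saturations and of preimages for `L`-twisted endomorphisms `φ : E ⟶ E ⊗ L`, `L` invertible.
-/

set_option autoImplicit false
universe u

open AlgebraicGeometry CategoryTheory Limits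

namespace Groth.Agent.Lib.T2H6.HiggsCurve

open Groth.Agent.Lib.T2H6.CurveVB Groth.Agent.Lib.T2H6.CurveSS Groth.Agent.Lib.T2H6.CurveSS2
  Groth.Agent.Lib.T2H6.CurveSatur Groth.Agent.Lib.T2H5.Twist Groth.Agent.Lib.T2H6.Higgs
  Groth.Agent.Lib.Helper4.NormDelta Groth.Agent.Lib.Helper23.StalkLin

section general

variable {X : Scheme.{u}} [IsIntegral X]

/-- the statement-level expression of `j ⊗ L` is the map of the functor `tr L`. -/
theorem tr_map (L : X.Modules) {A B : X.Modules} (j : A ⟶ B) :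
    (tr L).map j = (CohB1.sheafifyMod X).map
      (MonoidalCategoryStruct.whiskerRight (C := CohB1.PMod X) j.val (CohB1.toPMod L)) := rfl

/-- `Q ⊗ L` is finite locally free of the same rank for `Q` a bundle and `L` invertible. -/
theorem isFinLocFree_tr (L : X.Modules) (hL : PicF.IsInvertible L) (Q : X.Modules)
    (hQ : FlatMod.IsFinLocFree Q) : FlatMod.IsFinLocFree ((tr L).obj Q) :=
  Groth.Agent.Lib.Helper1.FLF.isFinLocFree_tensor Q L hQ
    (Groth.Agent.Helper18PBUnit.isFinLocFree_of_isInvertible hL)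

/-- a map out of a bundle which vanishes on a full rank subbundle vanishes, if the target is torsion-free. -/
theorem eq_zero_of_comp_eq_zero_of_rank_eq {I I' B : X.Modules} [B.IsQuasicoherent]
    (hB : TorSh.IsTorsionFree B) (j : I ⟶ I') [Mono j] (n : ℕ)
    (hI : FlatMod.IsFinLocFreeOfRank n I) (hI' : FlatMod.IsFinLocFreeOfRank n I')
    (h : I' ⟶ B) (hjh : j ≫ h = 0) : h = 0 := by
  refine Groth.Agent.Lib.T2H6.GenericZero.eq_zero_of_stalkLin_generic_eq_zero hB h ?_
  obtain ⟨f1, g1, r1⟩ := Groth.Agent.Lib.T2H6.RankAdd.free_finite_stalk I n hI (genericPoint X)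
  obtain ⟨f2, g2, r2⟩ := Groth.Agent.Lib.T2H6.RankAdd.free_finite_stalk I' n hI' (genericPoint X)
  letI : Field (X.presheaf.stalk (genericPoint X)) :=
    inferInstanceAs (Field X.functionField)
  haveI := g1
  haveI := g2
  have hinj := stalkLin_injective j (genericPoint X)
  have hsurj : Function.Surjective (stalkLin j (genericPoint X)) :=
    (LinearMap.injective_iff_surjective_of_finrank_eq_finrank (r1.trans r2.symm)).mp hinj
  ext v
  obtain ⟨w, rfl⟩ := hsurj v
  rw [← Groth.Agent.Lib.T2H5.Dev2.stalkLin_comp, hjh]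
  rw [Groth.Agent.Lib.T2H6.CurveFitting.stalkLin_zero]
  rfl

end general

section curve

variable {X : Scheme.{u}} [IsIntegral X] (k : Type u) [Field k] [X.Over (Spec (CommRingCat.of k))]
  [IsProper (X ↘ Spec (CommRingCat.of k))]

/-- `Q ⊗ L` is torsion-free and quasi-coherent for a bundle `Q` and an invertible `L`. -/
theorem torsionFree_tr (L : X.Modules) (hL : PicF.IsInvertible L) (Q : X.Modules) (m : ℕ)
    (hQ : FlatMod.IsFinLocFreeOfRank m Q) :
    ((tr L).obj Q).IsQuasicoherent ∧ TorSh.IsTorsionFree ((tr L).obj Q) := by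
  haveI : Q.IsQuasicoherent := (Groth.Agent.Lib.T2H6.RankAdd.isCoh_of_isFinLocFreeOfRank _ _ hQ).1
  haveI : L.IsQuasicoherent := Groth.Agent.Lib.T2H6.CurveRR.isQuasicoherent_of_isInvertible L hL
  have hq : ((tr L).obj Q).IsQuasicoherent :=
    Groth.Agent.Lib.Helper23.TensorQCoh.isQuasicoherent_tensorMod Q L
  haveI := hq
  have hTC : FlatMod.IsFinLocFree ((tr L).obj Q) := isFinLocFree_tr L hL _ (fun x => by
    obtain ⟨U, hx, e⟩ := hQ x
    exact ⟨U, _, hx, e⟩)
  exact ⟨hq, Groth.Agent.Lib.T2H6.GenericZero.isTorsionFree_of_isFinLocFreeOfRank _ _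
    (exists_rank _ hTC)⟩

/-- the saturation of an invariant subbundle is invariant. -/
theorem exists_saturation_invariant (hdim : topologicalKrullDim X = 1)
    (hreg : ∀ x : X, IsRegularLocalRing (X.presheaf.stalk x)) (L : X.Modules)
    (hL : PicF.IsInvertible L) {I F : X.Modules} (i : I ⟶ F) [Mono i] (n s : ℕ)
    (hI : FlatMod.IsFinLocFreeOfRank n I) (hF : FlatMod.IsFinLocFreeOfRank s F)
    (φ : F ⟶ (tr L).obj F) (χ : I ⟶ (tr L).obj I) (hχ : χ ≫ (tr L).map i = i ≫ φ) :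
    ∃ (I' : X.Modules) (i' : I' ⟶ F) (j : I ⟶ I'), Mono i' ∧ j ≫ i' = i ∧ n ≤ s ∧
      FlatMod.IsFinLocFreeOfRank n I' ∧ FlatMod.IsFinLocFreeOfRank (s - n) (cokernel i') ∧
      Curv2.deg k X I n ≤ Curv2.deg k X I' n ∧
      (Curv2.deg k X I n = Curv2.deg k X I' n → IsIso j) ∧
      ∃ χ' : I' ⟶ (tr L).obj I', χ' ≫ (tr L).map i' = i' ≫ φ := by
  haveI := preservesFiniteLimits_tr hL
  haveI := preservesFiniteColimits_tr L
  obtain ⟨I', i', j, hi', hfac, hle, hI', hC, hd, hiso⟩ :=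
    exists_saturation k hdim hreg i n s hI hF
  haveI := hi'
  refine ⟨I', i', j, hi', hfac, hle, hI', hC, hd, hiso, ?_⟩
  obtain ⟨hq, hTF⟩ := torsionFree_tr L hL _ _ hC
  haveI := hq
  haveI : Mono (j ≫ i') := by rw [hfac]; infer_instance
  haveI : Mono j := mono_of_mono j i'
  have h0 : i' ≫ φ ≫ (tr L).map (cokernel.π i') = 0 := by
    refine eq_zero_of_comp_eq_zero_of_rank_eq hTF j n hI hI' _ ?_
    rw [← Category.assoc, ← Category.assoc, hfac, ← hχ, Category.assoc, ← (tr L).map_comp, ← hfac,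
      Category.assoc, cokernel.condition, comp_zero, (tr L).map_zero, comp_zero]
  exact exists_lift (tr L) (ShortComplex.mk i' (cokernel.π i') (cokernel.condition i'))
    (ShortComplex.exact_cokernel i') (i' ≫ φ) (by simpa using h0)

/-- The preimage in `E` of a subbundle `G` of the quotient `E / F`, as an explicit kernel. -/
theorem preimage_data' (hdim : topologicalKrullDim X = 1)
    (hreg : ∀ x : X, IsRegularLocalRing (X.presheaf.stalk x))
    {F E : X.Modules} (i : F ⟶ E) [Mono i] (r₁ r r₂ : ℕ)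
    (hE₁ : FlatMod.IsFinLocFreeOfRank r₁ F) (hE : FlatMod.IsFinLocFreeOfRank r E)
    (hE₂ : FlatMod.IsFinLocFreeOfRank r₂ (cokernel i)) {G : X.Modules} (j : G ⟶ cokernel i) [Mono j]
    (r' : ℕ) (hG : FlatMod.IsFinLocFreeOfRank r' G) :
    FlatMod.IsFinLocFreeOfRank (r₁ + r') (kernel (cokernel.π i ≫ cokernel.π j)) ∧
      Curv2.deg k X (kernel (cokernel.π i ≫ cokernel.π j)) (r₁ + r') =
        Curv2.deg k X F r₁ + Curv2.deg k X G r' := by
  haveI : IsLocallyNoetherian X :=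
    LocallyOfFiniteType.isLocallyNoetherian (X ↘ Spec (CommRingCat.of k))
  have hT := Groth.Agent.Lib.T2H6.CurveSub.sc_shortExact i
  have c₁ := Groth.Agent.Lib.T2H6.RankAdd.isCoh_of_isFinLocFreeOfRank _ _ hE₁
  have c := Groth.Agent.Lib.T2H6.RankAdd.isCoh_of_isFinLocFreeOfRank _ _ hE
  have c₂ := Groth.Agent.Lib.T2H6.RankAdd.isCoh_of_isFinLocFreeOfRank _ _ hE₂
  have cG := Groth.Agent.Lib.T2H6.RankAdd.isCoh_of_isFinLocFreeOfRank _ _ hG
  have cQ : Coh.IsCoh (cokernel j) := Groth.Agent.Lib.T2H5.GenIsoB.isCoh_cokernel j cG c₂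
  obtain ⟨h, hh⟩ : ∃ h : E ⟶ cokernel j, h = cokernel.π i ≫ cokernel.π j := ⟨_, rfl⟩
  rw [← hh]
  haveI : Epi h := by
    rw [hh]
    exact epi_comp _ _
  have cP : Coh.IsCoh (kernel h) := Groth.Agent.Lib.T2H5.GenIsoB.isCoh_kernel h c cQ
  haveI := cP.1
  let Sa : ShortComplex X.Modules := ShortComplex.mk (kernel.ι h) h (kernel.condition h)
  have hSa : Sa.ShortExact :=
    haveI : Mono Sa.f := inferInstanceAs (Mono (kernel.ι h))
    haveI : Epi Sa.g := inferInstanceAs (Epi h)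
    ShortComplex.ShortExact.mk (ShortComplex.exact_kernel h)
  have hSb := Groth.Agent.Lib.T2H6.CurveSub.sc_shortExact j
  obtain ⟨rP, -, hP⟩ := isFinLocFreeOfRank_of_mono hdim.le hreg (kernel.ι h) r hE
  have g1 : r = rP + grank (cokernel j) := by
    have := grank_add Sa hSa cP cQ
    rwa [grank_of_isFinLocFreeOfRank _ _ hP,
      show grank Sa.X₂ = r from grank_of_isFinLocFreeOfRank _ _ hE] at this
  have g2 : r₂ = r' + grank (cokernel j) := by
    have := grank_add _ hSb cG cQ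
    rwa [show grank (Groth.Agent.Lib.T2H6.CurveDeg.sc j).X₁ = r' from
        grank_of_isFinLocFreeOfRank _ _ hG,
      show grank (Groth.Agent.Lib.T2H6.CurveDeg.sc j).X₂ = r₂ from
        grank_of_isFinLocFreeOfRank _ _ hE₂] at this
  have g3 : r = r₁ + r₂ :=
    Groth.Agent.Lib.T2H6.RankAdd.rank_add _ hT r₁ r r₂ hE₁ hE hE₂ (genericPoint X)
  have hrP : rP = r₁ + r' := by omega
  subst hrP
  refine ⟨hP, ?_⟩
  have e1 := Groth.Agent.Lib.T2H6.EulerField.euler_additive k X Sa hSa cP c cQ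
  have e2 := Groth.Agent.Lib.T2H6.EulerField.euler_additive k X _ hSb cG c₂ cQ
  have e3 := Groth.Agent.Lib.T2H6.EulerField.euler_additive k X _ hT c₁ c c₂
  change Curv2.euler k X E = Curv2.euler k X (kernel h) + Curv2.euler k X (cokernel j) at e1
  change Curv2.euler k X (cokernel i) = Curv2.euler k X G + Curv2.euler k X (cokernel j) at e2
  change Curv2.euler k X E = Curv2.euler k X F + Curv2.euler k X (cokernel i) at e3
  unfold Curv2.deg
  push_cast
  linarith

omit [IsIntegral X] in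
/-- iso-invariance of the Euler characteristic of a coherent module. -/
theorem euler_eq_of_iso {M N : X.Modules} (e : M ≅ N) (hM : Coh.IsCoh M) :
    Curv2.euler k X M = Curv2.euler k X N := by
  haveI : IsLocallyNoetherian X :=
    LocallyOfFiniteType.isLocallyNoetherian (X ↘ Spec (CommRingCat.of k))
  have hN : Coh.IsCoh N := Groth.Agent.Lib.T2H5.Devissage.isCoh_of_iso e hM
  have hZ : IsZero (kernel (𝟙 M)) := isZero_kernel_of_mono (𝟙 M)
  haveI : HasZeroObject X.Modules := ⟨⟨_, hZ⟩⟩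
  let S : ShortComplex X.Modules := ShortComplex.mk (0 : kernel (𝟙 M) ⟶ M) e.hom zero_comp
  have hS : S.ShortExact :=
    haveI : Mono S.f := hZ.mono _
    haveI : Epi S.g := inferInstanceAs (Epi e.hom)
    ShortComplex.ShortExact.mk ((S.exact_iff_mono rfl).2 (inferInstanceAs (Mono e.hom)))
  have h0 : Coh.IsCoh (kernel (𝟙 M)) := Groth.Agent.Lib.T2H5.GenIsoB.isCoh_kernel (𝟙 M) hM hM
  have := Groth.Agent.Lib.T2H6.EulerField.euler_additive k X S hS h0 hM hN
  change Curv2.euler k X M = Curv2.euler k X (kernel (𝟙 M)) + Curv2.euler k X N at this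
  rw [this, Groth.Agent.Lib.T2H6.CurveSS2.euler_eq_zero_of_isZero k _ hZ, zero_add]

omit [IsIntegral X] in
/-- iso-invariance of the degree of a coherent module. -/
theorem deg_eq_of_iso {M N : X.Modules} (e : M ≅ N) (hM : Coh.IsCoh M) (n : ℕ) :
    Curv2.deg k X M n = Curv2.deg k X N n := by
  unfold Curv2.deg
  rw [euler_eq_of_iso k e hM]

/-- the quotient of a semistable twisted pair by an invariant subbundle of the same slope is a bundle. -/
theorem higgs_quotient_locFree (hdim : topologicalKrullDim X = 1)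
    (hreg : ∀ x : X, IsRegularLocalRing (X.presheaf.stalk x)) (L : X.Modules)
    (hL : PicF.IsInvertible L) (r : ℕ) (hr : 0 < r) (E : X.Modules)
    (hE : FlatMod.IsFinLocFreeOfRank r E) (φ : E ⟶ (tr L).obj E)
    (hss : ∀ (G : X.Modules) (s : ℕ) (j : G ⟶ E) (ψ : G ⟶ (tr L).obj G), Mono j → 0 < s →
      FlatMod.IsFinLocFreeOfRank s G → ψ ≫ (tr L).map j = j ≫ φ →
      Curv2.deg k X G s * (r : ℤ) ≤ Curv2.deg k X E r * (s : ℤ))
    (F : X.Modules) (r' : ℕ) (hr' : 0 < r') (hF : FlatMod.IsFinLocFreeOfRank r' F)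
    (i : F ⟶ E) [Mono i] (ψF : F ⟶ (tr L).obj F) (hψF : ψF ≫ (tr L).map i = i ≫ φ)
    (hslope : Curv2.deg k X F r' * (r : ℤ) = Curv2.deg k X E r * (r' : ℤ)) :
    r' ≤ r ∧ FlatMod.IsFinLocFreeOfRank (r - r') (cokernel i) := by
  obtain ⟨F', i', j, hi', hfac, hle, hF', hC, hd, hiso, χ', hχ'⟩ :=
    exists_saturation_invariant k hdim hreg L hL i r' r hF hE φ ψF hψF
  haveI := hi'
  have h1 := hss F' r' i' χ' hi' hr' hF' hχ'
  have hr0 : (0 : ℤ) < (r : ℤ) := by exact_mod_cast hr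
  have h2 : Curv2.deg k X F' r' ≤ Curv2.deg k X F r' := by
    rw [← hslope] at h1
    exact le_of_mul_le_mul_right h1 hr0
  haveI := hiso (le_antisymm hd h2)
  have e : cokernel i ≅ cokernel i' := by
    subst hfac
    exact cokernelEpiComp j i'
  exact ⟨hle, Groth.Agent.Lib.Helper26.ModRank.isFinLocFreeOfRank_of_iso e.symm hC⟩

/-- the quotient of a semistable twisted pair by an invariant subbundle of the same slope with locally free
quotient is semistable of the same slope. -/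
theorem higgs_quotient_ss (hdim : topologicalKrullDim X = 1)
    (hreg : ∀ x : X, IsRegularLocalRing (X.presheaf.stalk x)) (L : X.Modules)
    (hL : PicF.IsInvertible L) (r : ℕ) (hr : 0 < r) (E : X.Modules)
    (hE : FlatMod.IsFinLocFreeOfRank r E) (φ : E ⟶ (tr L).obj E)
    (hss : ∀ (G : X.Modules) (s : ℕ) (j : G ⟶ E) (ψ : G ⟶ (tr L).obj G), Mono j → 0 < s →
      FlatMod.IsFinLocFreeOfRank s G → ψ ≫ (tr L).map j = j ≫ φ →
      Curv2.deg k X G s * (r : ℤ) ≤ Curv2.deg k X E r * (s : ℤ))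
    (F : X.Modules) (r' : ℕ) (hF : FlatMod.IsFinLocFreeOfRank r' F)
    (i : F ⟶ E) [Mono i]
    (hslope : Curv2.deg k X F r' * (r : ℤ) = Curv2.deg k X E r * (r' : ℤ))
    (hle : r' ≤ r) (hQ : FlatMod.IsFinLocFreeOfRank (r - r') (cokernel i)) :
    ∀ (φ' : cokernel i ⟶ (tr L).obj (cokernel i)),
      cokernel.π i ≫ φ' = φ ≫ (tr L).map (cokernel.π i) →
      ∀ (G : X.Modules) (s : ℕ) (j : G ⟶ cokernel i) (ψ : G ⟶ (tr L).obj G), Mono j → 0 < s →
        FlatMod.IsFinLocFreeOfRank s G → ψ ≫ (tr L).map j = j ≫ φ' →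
        Curv2.deg k X G s * ((r - r' : ℕ) : ℤ) ≤ Curv2.deg k X (cokernel i) (r - r') * (s : ℤ) := by
  haveI := preservesFiniteLimits_tr hL
  haveI := preservesFiniteColimits_tr L
  have hr0 : (0 : ℤ) < (r : ℤ) := by exact_mod_cast hr
  intro φ' hφ' G s jG ψ hjG hs hG hψ
  haveI := hjG
  obtain ⟨hP, hdegP⟩ := preimage_data' k hdim hreg i r' r (r - r') hF hE hQ jG s hG
  obtain ⟨χP, hχP⟩ := exists_lift_preimage (tr L) (cokernel.π i) φ φ' hφ' jG ψ hψ
  have h3 := hss _ (r' + s) (kernel.ι (cokernel.π i ≫ cokernel.π jG)) χP inferInstance (by omega) hP hχP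
  have hdegQ := Groth.Agent.Lib.T2H6.RankAdd.deg_additive k _
    (Groth.Agent.Lib.T2H6.CurveSub.sc_shortExact i) r' r (r - r') hF hE hQ
  change Curv2.deg k X E r = Curv2.deg k X F r' + Curv2.deg k X (cokernel i) (r - r') at hdegQ
  rw [hdegP] at h3
  have hcast : ((r - r' : ℕ) : ℤ) = (r : ℤ) - (r' : ℤ) := by
    rw [Nat.cast_sub hle]
  rw [hcast]
  push_cast at h3
  have hrr : (0 : ℤ) ≤ (r : ℤ) - (r' : ℤ) := by
    have : (r' : ℤ) ≤ (r : ℤ) := by exact_mod_cast hle
    linarith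
  -- dG * r ≤ dE * s
  have h4 : Curv2.deg k X G s * (r : ℤ) ≤ Curv2.deg k X E r * (s : ℤ) := by nlinarith
  have h5 := mul_le_mul_of_nonneg_right h4 hrr
  have h6 : Curv2.deg k X (cokernel i) (r - r') * (s : ℤ) * (r : ℤ) =
      Curv2.deg k X E r * (s : ℤ) * ((r : ℤ) - (r' : ℤ)) := by
    have : Curv2.deg k X (cokernel i) (r - r') = Curv2.deg k X E r - Curv2.deg k X F r' := by
      linarith
    rw [this]
    nlinarith
  have h7 : Curv2.deg k X G s * ((r : ℤ) - (r' : ℤ)) * (r : ℤ) ≤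
      Curv2.deg k X (cokernel i) (r - r') * (s : ℤ) * (r : ℤ) := by
    rw [h6]
    nlinarith
  exact le_of_mul_le_mul_right h7 hr0

/-- **Quotient of a semistable twisted pair by an invariant subbundle of the same slope**: the quotient is
a bundle and is semistable (for invariant subbundles) of the same slope. -/
theorem higgs_quotient (hdim : topologicalKrullDim X = 1)
    (hreg : ∀ x : X, IsRegularLocalRing (X.presheaf.stalk x)) (L : X.Modules)
    (hL : PicF.IsInvertible L) (r : ℕ) (hr : 0 < r) (E : X.Modules)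
    (hE : FlatMod.IsFinLocFreeOfRank r E) (φ : E ⟶ (tr L).obj E)
    (hss : ∀ (G : X.Modules) (s : ℕ) (j : G ⟶ E) (ψ : G ⟶ (tr L).obj G), Mono j → 0 < s →
      FlatMod.IsFinLocFreeOfRank s G → ψ ≫ (tr L).map j = j ≫ φ →
      Curv2.deg k X G s * (r : ℤ) ≤ Curv2.deg k X E r * (s : ℤ))
    (F : X.Modules) (r' : ℕ) (hr' : 0 < r') (hF : FlatMod.IsFinLocFreeOfRank r' F)
    (i : F ⟶ E) [Mono i] (ψF : F ⟶ (tr L).obj F) (hψF : ψF ≫ (tr L).map i = i ≫ φ)
    (hslope : Curv2.deg k X F r' * (r : ℤ) = Curv2.deg k X E r * (r' : ℤ)) :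
    FlatMod.IsFinLocFreeOfRank (r - r') (cokernel i) ∧
    ∀ (φ' : cokernel i ⟶ (tr L).obj (cokernel i)),
      cokernel.π i ≫ φ' = φ ≫ (tr L).map (cokernel.π i) →
      ∀ (G : X.Modules) (s : ℕ) (j : G ⟶ cokernel i) (ψ : G ⟶ (tr L).obj G), Mono j → 0 < s →
        FlatMod.IsFinLocFreeOfRank s G → ψ ≫ (tr L).map j = j ≫ φ' →
        Curv2.deg k X G s * ((r - r' : ℕ) : ℤ) ≤ Curv2.deg k X (cokernel i) (r - r') * (s : ℤ) := by
  obtain ⟨hle, hQ⟩ := higgs_quotient_locFree k hdim hreg L hL r hr E hE φ hss F r' hr' hF i ψF hψF hslope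
  exact ⟨hQ, higgs_quotient_ss k hdim hreg L hL r hr E hE φ hss F r' hF i hslope hle hQ⟩

end curve

end Groth.Agent.Lib.T2H6.HiggsCurve
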