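import Groth.Agent.Lib.T2H5HHLes

/-!
# Linear algebra of the maps `Canon.HHlin` on cohomology (helper6)

Functoriality, additivity, left exactness of `H⁰`, exactness in the middle and surjectivity when the
next cohomology of the kernel vanishes.
-/

set_option autoImplicit false
universe u

namespace Groth.Agent.Lib.T2H6.HHLin

open CategoryTheory CategoryTheory.Limits AlgebraicGeometry Abelian
open Groth.Agent.Lib.Helper23.QCohLocal

variable (A : Type u) [CommRing A] {X : Scheme.{u}} [X.Over (Spec (CommRingCat.of A))]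

theorem HHlin_apply {F G : X.Modules} (φ : F ⟶ G) (r : ℕ) (x : Coh.HH X F r) :
    Canon.HHlin A φ r x = x.comp (Ext.mk₀ ((toAbF X).map φ)) (add_zero r) := rfl

theorem HHlin_apply' {F G : X.Modules} (φ : F ⟶ G) (r : ℕ) (x : Coh.HH X F r) :
    Canon.HHlin A φ r x = Sheaf.H.map ((SheafOfModules.toSheaf X.ringCatSheaf).map φ) r x := rfl

theorem HHlin_comp_apply {F G H : X.Modules} (φ : F ⟶ G) (ψ : G ⟶ H) (r : ℕ) (x : Coh.HH X F r) :
    Canon.HHlin A (φ ≫ ψ) r x = Canon.HHlin A ψ r (Canon.HHlin A φ r x) := by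
  have h : (SheafOfModules.toSheaf X.ringCatSheaf).map (φ ≫ ψ) =
      (SheafOfModules.toSheaf X.ringCatSheaf).map φ ≫
        (SheafOfModules.toSheaf X.ringCatSheaf).map ψ := Functor.map_comp _ _ _
  change Sheaf.H.map ((SheafOfModules.toSheaf X.ringCatSheaf).map (φ ≫ ψ)) r x =
    Sheaf.H.map _ r (Sheaf.H.map _ r x)
  rw [h, Sheaf.H.map_comp_apply]

theorem HHlin_comp {F G H : X.Modules} (φ : F ⟶ G) (ψ : G ⟶ H) (r : ℕ) :
    Canon.HHlin A (φ ≫ ψ) r = Canon.HHlin A ψ r ∘ₗ Canon.HHlin A φ r := by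
  ext x
  rw [LinearMap.comp_apply, HHlin_comp_apply]

theorem HHlin_id (F : X.Modules) (r : ℕ) : Canon.HHlin A (𝟙 F) r = LinearMap.id := by
  ext x
  have h : (SheafOfModules.toSheaf X.ringCatSheaf).map (𝟙 F) = 𝟙 _ :=
    CategoryTheory.Functor.map_id _ _
  change Sheaf.H.map ((SheafOfModules.toSheaf X.ringCatSheaf).map (𝟙 F)) r x = x
  rw [h, Sheaf.H.map_id_apply]

theorem HHlin_add {F G : X.Modules} (φ ψ : F ⟶ G) (r : ℕ) :
    Canon.HHlin A (φ + ψ) r = Canon.HHlin A φ r + Canon.HHlin A ψ r := by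
  ext x
  have h : (SheafOfModules.toSheaf X.ringCatSheaf).map (φ + ψ) =
      (SheafOfModules.toSheaf X.ringCatSheaf).map φ +
        (SheafOfModules.toSheaf X.ringCatSheaf).map ψ := Functor.map_add _
  change Sheaf.H.map ((SheafOfModules.toSheaf X.ringCatSheaf).map (φ + ψ)) r x =
    Sheaf.H.map _ r x + Sheaf.H.map _ r x
  rw [h, Sheaf.H.map_add_apply]

theorem HHlin_zero (F G : X.Modules) (r : ℕ) : Canon.HHlin A (0 : F ⟶ G) r = 0 := by
  have h := HHlin_add A (0 : F ⟶ G) 0 r
  rw [add_zero] at h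
  exact left_eq_add.mp h

theorem HHlin_sub {F G : X.Modules} (φ ψ : F ⟶ G) (r : ℕ) :
    Canon.HHlin A (φ - ψ) r = Canon.HHlin A φ r - Canon.HHlin A ψ r := by
  have h := HHlin_add A (φ - ψ) ψ r
  rw [sub_add_cancel] at h
  rw [h, add_sub_cancel_right]

/-- an isomorphism of modules induces a linear equivalence on cohomology. -/
noncomputable def HHequiv {F G : X.Modules} (e : F ≅ G) (r : ℕ) : Coh.HH X F r ≃ₗ[A] Coh.HH X G r :=
  LinearEquiv.ofLinear (Canon.HHlin A e.hom r) (Canon.HHlin A e.inv r)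
    (by rw [← HHlin_comp, e.inv_hom_id, HHlin_id])
    (by rw [← HHlin_comp, e.hom_inv_id, HHlin_id])

theorem HHequiv_apply {F G : X.Modules} (e : F ≅ G) (r : ℕ) (x : Coh.HH X F r) :
    HHequiv A e r x = Canon.HHlin A e.hom r x := rfl

/-- `H⁰` of a monomorphism is injective. -/
theorem injective_HHlin_zero_of_mono {F G : X.Modules} (φ : F ⟶ G) [Mono φ] :
    Function.Injective (Canon.HHlin A φ 0) := by
  haveI : Mono ((toAbF X).map φ) := inferInstance
  exact Ext.postcomp_mk₀_injective_of_mono _ ((toAbF X).map φ)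

/-- exactness at `H^i(S.X₂)`. -/
theorem exact₂ (S : ShortComplex X.Modules) (hS : S.ShortExact) (i : ℕ) :
    LinearMap.ker (Canon.HHlin A S.g i) = LinearMap.range (Canon.HHlin A S.f i) := by
  ext x
  rw [LinearMap.mem_ker, LinearMap.mem_range]
  constructor
  · intro hx
    obtain ⟨y, hy⟩ := Ext.covariant_sequence_exact₂ _ (shortExact_toAbF S hS) x hx
    exact ⟨y, hy⟩
  · rintro ⟨y, rfl⟩
    rw [← HHlin_comp_apply, S.zero, HHlin_zero]
    rfl

/-- `H^i(S.X₂) → H^i(S.X₃)` is surjective when `H^{i+1}(S.X₁) = 0`. -/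
theorem surjective_g (S : ShortComplex X.Modules) (hS : S.ShortExact) (i : ℕ)
    (h : Subsingleton (Coh.HH X S.X₁ (i + 1))) : Function.Surjective (Canon.HHlin A S.g i) := by
  intro x
  obtain ⟨y, hy⟩ := Ext.covariant_sequence_exact₃ _ (shortExact_toAbF S hS) x rfl
    (@Subsingleton.elim _ h _ _)
  exact ⟨y, hy⟩

/-- the short complex `0 → ker φ → M → im φ → 0`. -/
noncomputable def kerImSC {E F : X.Modules} (f : E ⟶ F) : ShortComplex X.Modules :=
  ShortComplex.mk (kernel.ι f) (Abelian.factorThruImage f) (by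
    rw [← cancel_mono (Abelian.image.ι f), Category.assoc, Abelian.image.fac, kernel.condition,
      zero_comp])

theorem kerImSC_shortExact {E F : X.Modules} (f : E ⟶ F) : (kerImSC f).ShortExact := by
  haveI : Mono (kerImSC f).f := inferInstanceAs (Mono (kernel.ι f))
  haveI : Epi (kerImSC f).g := inferInstanceAs (Epi (Abelian.factorThruImage f))
  refine ShortComplex.ShortExact.mk (ShortComplex.exact_of_f_is_kernel _ ?_)
  exact isKernelOfComp (f := Abelian.factorThruImage f) (Abelian.image.ι f) f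
    (kernelIsKernel f) (kerImSC f).zero (Abelian.image.fac f)

/-- **Left exactness of `H⁰`.** -/
theorem ker_HHlin_zero {F G : X.Modules} (φ : F ⟶ G) :
    LinearMap.ker (Canon.HHlin A φ 0) = LinearMap.range (Canon.HHlin A (kernel.ι φ) 0) := by
  have hE := exact₂ A (kerImSC φ) (kerImSC_shortExact φ) 0
  change LinearMap.ker (Canon.HHlin A (Abelian.factorThruImage φ) 0) =
    LinearMap.range (Canon.HHlin A (kernel.ι φ) 0) at hE
  rw [← hE]
  ext x
  rw [LinearMap.mem_ker, LinearMap.mem_ker]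
  change _ ↔ Canon.HHlin A (Abelian.factorThruImage φ) 0 x = 0
  have h : Canon.HHlin A φ 0 x =
      Canon.HHlin A (Abelian.image.ι φ) 0 (Canon.HHlin A (Abelian.factorThruImage φ) 0 x) := by
    rw [← HHlin_comp_apply, Abelian.image.fac]
  rw [h]
  constructor
  · intro hx
    exact injective_HHlin_zero_of_mono A (Abelian.image.ι φ) (hx.trans (map_zero _).symm)
  · intro hx
    rw [hx, map_zero]

/-- `dim ker H⁰(φ) = h⁰(ker φ)`. -/
theorem finrank_ker_HHlin_zero {k : Type u} [Field k] {X : Scheme.{u}}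
    [X.Over (Spec (CommRingCat.of k))] {F G : X.Modules} (φ : F ⟶ G) :
    Module.finrank k (LinearMap.ker (Canon.HHlin k φ 0)) =
      Module.finrank k (Coh.HH X (kernel φ) 0) := by
  rw [ker_HHlin_zero]
  exact LinearMap.finrank_range_of_inj (injective_HHlin_zero_of_mono k (kernel.ι φ))

end Groth.Agent.Lib.T2H6.HHLin
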