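import Mathlib
import Groth.Agent.Lib.T2H5GenIsoC
import Groth.Agent.Lib.T2H5GenIsoD
import Groth.Agent.Lib.T2H6CurveVanish
import Groth.Agent.Lib.Helper20CDiv2
import Groth.Agent.Lib.T2H5GenIsoF

/-!
# Additive functions on coherent modules over an integral Noetherian curve (helper6)

An additive function `Φ` (additive in short exact sequences of coherent modules, invariant under isomorphisms)
which vanishes on modules supported at one closed point is `Φ F = rank(F) · Φ(O)`.
-/

set_option autoImplicit false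
universe u

open AlgebraicGeometry CategoryTheory Limits

namespace Groth.Agent.Lib.T2H6.AddFn

attribute [local instance] Abelian.hasFiniteBiproducts

open Groth.Agent.Lib.T2H5.GenIsoA Groth.Agent.Lib.T2H5.GenIsoB
  Groth.Agent.Lib.T2H5.GenIsoC Groth.Agent.Lib.T2H5.GenIsoD Groth.Agent.Lib.Helper23.Extend
  Groth.Agent.Lib.T2H5.Devissage

variable {X : Scheme.{u}}

/-- additive functions on coherent modules. -/
structure IsAddFn (Φ : X.Modules → ℤ) : Prop where
  iso : ∀ {M N : X.Modules}, (M ≅ N) → Coh.IsCoh M → Φ M = Φ N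
  zero : ∀ M : X.Modules, IsZero M → Φ M = 0
  add : ∀ S : ShortComplex X.Modules, S.ShortExact → Coh.IsCoh S.X₁ → Coh.IsCoh S.X₂ →
    Coh.IsCoh S.X₃ → Φ S.X₂ = Φ S.X₁ + Φ S.X₃

/-- `Φ` vanishes on coherent modules whose support does not contain the generic point. -/
def VanishesOnTorsion [IsIntegral X] (Φ : X.Modules → ℤ) : Prop :=
  ∀ T : X.Modules, Coh.IsCoh T → genericPoint X ∉ CohB1.support T → Φ T = 0

/-- `Φ` vanishes on coherent modules supported at one closed point. -/
def VanishesOnPoints (Φ : X.Modules → ℤ) : Prop :=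
  ∀ (M : X.Modules) (x : X), Coh.IsCoh M → IsClosed ({x} : Set X) → CohB1.support M ⊆ {x} → Φ M = 0

theorem IsAddFn.biproduct {Φ : X.Modules → ℤ} (hΦ : IsAddFn Φ) (A : X.Modules) (hA : Coh.IsCoh A)
    (n : ℕ) : Φ (⨁ fun _ : Fin n => A) = n * Φ A := by
  induction n with
  | zero => rw [hΦ.zero _ (isZero_biproduct_fin_zero A)]; simp
  | succ n ih =>
    have := hΦ.add (biprodSuccSC A n) (biprodSuccSC_shortExact A n) hA (isCoh_biproduct _ fun _ => hA)
      (isCoh_biproduct _ fun _ => hA)
    change Φ (⨁ fun _ : Fin (n + 1) => A) = Φ A + Φ (⨁ fun _ : Fin n => A) at this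
    rw [this, ih]
    push_cast
    ring

theorem IsAddFn.sigma {Φ : X.Modules → ℤ} (hΦ : IsAddFn Φ) (A : X.Modules) (hA : Coh.IsCoh A)
    (n : ℕ) : Φ (∐ fun _ : Fin n => A) = n * Φ A := by
  rw [← hΦ.iso (biproduct.isoCoproduct fun _ : Fin n => A) (isCoh_biproduct _ fun _ => hA),
    hΦ.biproduct A hA n]

variable [IsIntegral X]

/-- an additive function vanishing on modules supported at one closed point vanishes on torsion
modules, on an integral Noetherian scheme of dimension `≤ 1`. -/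
theorem IsAddFn.vanishesOnTorsion [IsNoetherian X] (hdim : topologicalKrullDim X ≤ 1)
    {Φ : X.Modules → ℤ} (hΦ : IsAddFn Φ) (hpt : VanishesOnPoints Φ) : VanishesOnTorsion Φ := by
  intro T hT hξ
  have hcl : IsClosed (CohB1.support T) := isClosed_support T hT
  have hpts : ∀ x ∈ CohB1.support T, IsClosed ({x} : Set X) := by
    intro x hx
    refine Groth.Agent.Lib.Helper20.CDivLib.isClosed_singleton_of_ne_genericPoint hdim x ?_
    rintro rfl
    exact hξ hx
  refine core (fun M => Coh.IsCoh M → Φ M = 0) ?_ ?_ ?_ (CohB1.support T) ?_ T hT le_rfl hT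
  · rintro M N ⟨e⟩ hM hN
    rw [← hΦ.iso e (isCoh_of_iso e.symm hN)]
    exact hM (isCoh_of_iso e.symm hN)
  · intro M hM _
    exact hΦ.zero M hM
  · intro S hS h1 h2 h3 hP1 hP3 _
    rw [hΦ.add S hS h1 h2 h3, hP1 h1, hP3 h3, add_zero]
  · intro Z hZ hirr hZT _ M hM hk _
    obtain ⟨x, hx⟩ := hirr.nonempty
    have hxcl : IsClosed ({x} : Set X) := hpts x (hZT hx)
    have hrest : IsClosed (Z \ {x}) :=
      Groth.Agent.Lib.T2H6.CurveVanish.isClosed_of_subset (CohB1.support T) hcl hpts _
        (Set.diff_subset.trans hZT)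
    have hZx : Z ⊆ {x} := by
      have hcov : Z ⊆ {x} ∪ (Z \ {x}) := by
        intro y hy
        by_cases h : y = x
        · exact Or.inl h
        · exact Or.inr ⟨hy, h⟩
      rcases (isPreirreducible_iff_isClosed_union_isClosed.1 hirr.isPreirreducible) {x} (Z \ {x})
        hxcl hrest hcov with h | h
      · exact h
      · exact absurd (h hx).2 (fun h' => h' rfl)
    haveI := hM.1
    haveI := Groth.Agent.Lib.T2H5.IdealMul.isIso_unit_of_killed _ M hk
    have hsupp : CohB1.support M ⊆ Z := by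
      rw [support_eq_of_iso (asIso (Groth.Agent.Lib.T2H5.IdealMul.unit
        (Scheme.IdealSheafData.vanishingIdeal ⟨Z, hZ⟩) M))]
      refine (support_pushforward_subset _ _ ?_).trans ?_
      · rw [Scheme.IdealSheafData.range_subschemeι]
        exact (Scheme.IdealSheafData.vanishingIdeal ⟨Z, hZ⟩).support.isClosed
      · rw [Scheme.IdealSheafData.range_subschemeι,
          Scheme.IdealSheafData.coe_support_vanishingIdeal]
        rfl
    exact hpt M x hM hxcl (hsupp.trans hZx)

/-- an additive function vanishing on torsion modules takes the same value on generically isomorphic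
modules. -/
theorem IsAddFn.eq_of_isoOn [IsLocallyNoetherian X] {Φ : X.Modules → ℤ} (hΦ : IsAddFn Φ)
    (htors : VanishesOnTorsion Φ) {A B : X.Modules} (φ : A ⟶ B) (hA : Coh.IsCoh A)
    (hB : Coh.IsCoh B) (D : X.Opens) (hφ : IsoOn φ D) (hξ : genericPoint X ∈ D) : Φ A = Φ B := by
  have hK : Coh.IsCoh (kernel φ) := isCoh_kernel φ hA hB
  have hC : Coh.IsCoh (cokernel φ) := isCoh_cokernel φ hA hB
  have hIm : Coh.IsCoh (kernel (cokernel.π φ)) := isCoh_kernel _ hB hC
  have hCoim : Coh.IsCoh (cokernel (kernel.ι φ)) := isCoh_cokernel _ hK hA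
  have h1 := hΦ.add (kerSC φ) (kerSC_shortExact φ) hK hA hCoim
  have h2 := hΦ.add (cokerSC φ) (cokerSC_shortExact φ) hIm hB hC
  change Φ A = Φ (kernel φ) + Φ (cokernel (kernel.ι φ)) at h1
  change Φ B = Φ (kernel (cokernel.π φ)) + Φ (cokernel φ) at h2
  have h3 : Φ (kernel φ) = 0 :=
    htors _ hK (notMem_support_kernel_of_isoOn φ D hφ _ hξ)
  have h4 : Φ (cokernel φ) = 0 :=
    htors _ hC (notMem_support_cokernel_of_isoOn φ D hφ _ hξ)
  have h5 : Φ (cokernel (kernel.ι φ)) = Φ (kernel (cokernel.π φ)) :=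
    hΦ.iso (Abelian.coimageIsoImage φ) hCoim
  rw [h1, h2, h3, h4, h5, zero_add, add_zero]

/-- **Rank formula for additive functions**: every coherent module `F` has a rank `r` such that
`Φ F = r · Φ(O)` for every additive function `Φ` vanishing on torsion modules. -/
theorem exists_rank_forall_addFn [IsNoetherian X] (F : X.Modules) (hF : Coh.IsCoh F) :
    ∃ r : ℕ, ∀ Φ : X.Modules → ℤ, IsAddFn Φ → VanishesOnTorsion Φ →
      Φ F = r * Φ (Coh.structureModule X) := by
  obtain ⟨D, r, hξ, ⟨e⟩⟩ := exists_generic_free F hF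
  refine ⟨r, fun Φ hΦ htors => ?_⟩
  haveI := hF.1
  have hO : Coh.IsCoh (Coh.structureModule X) :=
    Groth.Agent.Lib.T2H5.GenIsoF.isCoh_structureModule
  have hOr : Coh.IsCoh (FlatMod.freeMod X r) := isCoh_sigma _ fun _ => hO
  haveI := hOr.1
  haveI : QuasiCompact D.ι := inferInstance
  obtain ⟨H, ψ, hH, hψ, h1, h2⟩ := exists_graph D F (FlatMod.freeMod X r)
    (e ≪≫ (Groth.Agent.Lib.Helper20.LocFree.restrictFreeMod D.ι r).symm)
  haveI := hψ
  have hHc : Coh.IsCoh H := isCoh_of_mono ψ (isCoh_biprod _ _ hF hOr) hH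
  have e1 := hΦ.eq_of_isoOn htors (ψ ≫ biprod.fst) hHc hF D h1 hξ
  have e2 := hΦ.eq_of_isoOn htors (ψ ≫ biprod.snd) hHc hOr D h2 hξ
  rw [← e1, e2]
  exact hΦ.sigma _ hO r

end Groth.Agent.Lib.T2H6.AddFn
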