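import Mathlib
import Groth.Agent.Lib.Helper1FLF1
import Groth.Agent.Lib.T2H5Twist

/-!
# `A ⊗ O^m ≅ A^m` (helper6)
-/

set_option autoImplicit false
universe u
open CategoryTheory CategoryTheory.Limits AlgebraicGeometry TopologicalSpace

namespace Groth.Agent.Lib.T2H6.TensorFree

attribute [local instance] Abelian.hasFiniteBiproducts
open Groth.Agent.Lib.Helper21.ModTensor3 Groth.Agent.Lib.Helper21.ModTensor5
  Groth.Agent.Lib.Helper21.ModTensor7 Groth.Agent.Lib.Helper1.PT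

variable {X : Scheme.{u}}

/-- `A ⊗ O^m ≅ A^m`. -/
theorem nonempty_tensorFreeIso (A : X.Modules) (m : ℕ) :
    Nonempty (((DCoh.tensorBi (X := X)).obj A).obj (FlatMod.freeMod X m) ≅ ∐ fun _ : Fin m => A) := by
  let A' : ModSite.Mod X.sheaf := A
  have e1 : (tL X.sheaf A').obj (∐ fun _ : Fin m => ModSite.unit X.sheaf) ≅
      ∐ fun _ : Fin m => (tL X.sheaf A').obj (ModSite.unit X.sheaf) :=
    PreservesCoproduct.iso (tL X.sheaf A') (fun _ : Fin m => ModSite.unit X.sheaf)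
  have e2 : (tL X.sheaf A').obj (ModSite.unit X.sheaf) ≅ A' :=
    ((brd X.sheaf).app A').app (ModSite.unit X.sheaf) ≪≫ (tLUnitIso X.sheaf).app A'
  exact ⟨e1 ≪≫ Sigma.mapIso (fun _ => e2)⟩

/-- `O ⊗ A ≅ A`. -/
theorem nonempty_unitTensorIso (A : X.Modules) :
    Nonempty (((DCoh.tensorBi (X := X)).obj (Coh.structureModule X)).obj A ≅ A) := by
  let A' : ModSite.Mod X.sheaf := A
  exact ⟨(tLUnitIso X.sheaf).app A'⟩

/-- `A ⊗ B ≅ B ⊗ A`. -/
theorem nonempty_braidIso (A B : X.Modules) :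
    Nonempty (((DCoh.tensorBi (X := X)).obj A).obj B ≅ ((DCoh.tensorBi (X := X)).obj B).obj A) := by
  let A' : ModSite.Mod X.sheaf := A
  let B' : ModSite.Mod X.sheaf := B
  exact ⟨((brd X.sheaf).app A').app B'⟩

/-- `A ⊗ B ≅ A^m` for `B` free of rank `m`. -/
theorem nonempty_tensor_iso_of_free (A B : X.Modules) (m : ℕ) (e : B ≅ FlatMod.freeMod X m) :
    Nonempty (CohB1.tensorMod A B ≅ ∐ fun _ : Fin m => A) := by
  let A' : ModSite.Mod X.sheaf := A
  have e0 : CohB1.tensorMod A B ≅ (tL X.sheaf A').obj (∐ fun _ : Fin m => ModSite.unit X.sheaf) :=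
    (tL X.sheaf A').mapIso e
  have e1 : (tL X.sheaf A').obj (∐ fun _ : Fin m => ModSite.unit X.sheaf) ≅
      ∐ fun _ : Fin m => (tL X.sheaf A').obj (ModSite.unit X.sheaf) :=
    PreservesCoproduct.iso (tL X.sheaf A') (fun _ : Fin m => ModSite.unit X.sheaf)
  have e2 : (tL X.sheaf A').obj (ModSite.unit X.sheaf) ≅ A' :=
    ((brd X.sheaf).app A').app (ModSite.unit X.sheaf) ≪≫ (tLUnitIso X.sheaf).app A'
  exact ⟨e0 ≪≫ e1 ≪≫ Sigma.mapIso (fun _ => e2)⟩

/-- `O ⊗ A ≅ A`. -/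
theorem nonempty_unitTensorIso' (A : X.Modules) :
    Nonempty (CohB1.tensorMod (Coh.structureModule X) A ≅ A) := by
  let A' : ModSite.Mod X.sheaf := A
  exact ⟨(tLUnitIso X.sheaf).app A'⟩

/-- `A ⊗ B ≅ B ⊗ A`. -/
theorem nonempty_braidIso' (A B : X.Modules) :
    Nonempty (CohB1.tensorMod A B ≅ CohB1.tensorMod B A) := by
  let A' : ModSite.Mod X.sheaf := A
  let B' : ModSite.Mod X.sheaf := B
  exact ⟨((brd X.sheaf).app A').app B'⟩

end Groth.Agent.Lib.T2H6.TensorFree
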