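import Mathlib
import Groth.Agent.Lib.T2H5GenIsoC
import Groth.Agent.Lib.T2H5GenIsoD
import Groth.Agent.Lib.T2H5Dim0b
import Groth.Agent.Lib.T2H5Twist
import Groth.Agent.Lib.Helper23RestrTensor
import Groth.Agent.Lib.Helper23TensorQCoh
import Groth.Agent.Lib.Helper1FLF1
import Groth.Agent.Lib.T2H6TensorFree

/-!
# Tensoring a module supported in a trivialising open with a locally free module (helper6)

If `M` is supported inside an open `U` over which `V` is free of rank `m`, then `M ⊗ V ≅ M^m`.
-/

set_option autoImplicit false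
universe u

open AlgebraicGeometry CategoryTheory Limits

namespace Groth.Agent.Lib.T2H6.TensorDegA

attribute [local instance] Abelian.hasFiniteBiproducts

open Groth.Agent.Lib.T2H5.Twist Groth.Agent.Lib.T2H5.GenIsoA Groth.Agent.Lib.T2H5.GenIsoB
  Groth.Agent.Lib.T2H5.GenIsoC Groth.Agent.Lib.T2H5.GenIsoD Groth.Agent.Lib.Helper23.Extend
  Groth.Agent.Lib.T2H5.Devissage
open Groth.Agent.Lib.Helper21.ModTensor3 Groth.Agent.Lib.Helper21.ModTensor5
  Groth.Agent.Lib.Helper21.ModTensor7 Groth.Agent.Lib.Helper1.PT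

variable {X : Scheme.{u}}

/-- a map which is an isomorphism over an open containing the supports of source and target is an
isomorphism. -/
theorem isIso_of_isoOn_of_support {A B : X.Modules} (f : A ⟶ B) (U : X.Opens) (hf : IsoOn f U)
    (hA : CohB1.support A ⊆ U) (hB : CohB1.support B ⊆ U) : IsIso f := by
  have hK : IsZero (kernel f) := by
    apply isZero_of_support_eq_empty
    rw [Set.eq_empty_iff_forall_notMem]
    intro y hy
    exact notMem_support_kernel_of_isoOn f U hf y (hA (support_subset_of_mono (kernel.ι f) hy)) hy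
  have hC : IsZero (cokernel f) := by
    apply isZero_of_support_eq_empty
    rw [Set.eq_empty_iff_forall_notMem]
    intro y hy
    exact notMem_support_cokernel_of_isoOn f U hf y (hB (support_subset_of_epi (cokernel.π f) hy)) hy
  haveI : Mono f := Preadditive.mono_of_isZero_kernel f hK
  haveI : Epi f := Preadditive.epi_of_isZero_cokernel f hC
  exact isIso_of_mono_of_epi f

/-- the support of a biproduct. -/
theorem support_biprod_subset (A B : X.Modules) :
    CohB1.support (A ⊞ B) ⊆ CohB1.support A ∪ CohB1.support B := by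
  intro y hy
  by_contra h
  rw [Set.mem_union, not_or] at h
  have hS : (ShortComplex.mk (biprod.inl : A ⟶ A ⊞ B) (biprod.snd : A ⊞ B ⟶ B) (by simp)).ShortExact :=
    (ShortComplex.Splitting.ofHasBinaryBiproduct A B).shortExact
  have h1 := lenAt_shortExact y _ hS
  change lenAt y (A ⊞ B) = lenAt y A + lenAt y B at h1
  rw [(lenAt_eq_zero_iff y A).2 h.1, (lenAt_eq_zero_iff y B).2 h.2, add_zero] at h1
  exact (lenAt_eq_zero_iff y _).1 h1 hy

/-- **Lemma**: if `M` is supported in an open `U` over which `V` is free of rank `m`, then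
`M ⊗ V ≅ M^m`. -/
theorem nonempty_tensor_iso_sigma (M V : X.Modules) [M.IsQuasicoherent] [V.IsQuasicoherent] (m : ℕ)
    (U : X.Opens) [QuasiCompact U.ι] (hM : CohB1.support M ⊆ U)
    (e : V.restrict U.ι ≅ FlatMod.freeMod (↑U) m) :
    Nonempty (CohB1.tensorMod M V ≅ ∐ fun _ : Fin m => M) := by
  haveI : (CohB1.tensorMod M V).IsQuasicoherent :=
    Groth.Agent.Lib.Helper23.TensorQCoh.isQuasicoherent_tensorMod M V
  haveI : (∐ fun _ : Fin m => M).IsQuasicoherent :=
    Groth.Agent.Lib.T2H5.CohSigma.isQuasicoherent_sigma _ (fun _ => inferInstance)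
  obtain ⟨e3⟩ := Groth.Agent.Lib.T2H6.TensorFree.nonempty_tensor_iso_of_free (M.restrict U.ι)
    (V.restrict U.ι) m e
  have e' : (CohB1.tensorMod M V).restrict U.ι ≅ (∐ fun _ : Fin m => M).restrict U.ι :=
    Groth.Agent.Lib.Helper23.RestrTensor.restrictTensorIso M V U.ι ≪≫ e3 ≪≫
      (restrictSigmaIso U M m).symm
  obtain ⟨H, ψ, hH, hψ, h1, h2⟩ := exists_graph U _ _ e'
  haveI := hψ
  have hsT : CohB1.support (CohB1.tensorMod M V) ⊆ U :=
    (Groth.Agent.Lib.T2H5.Dim0.support_tensorMod_subset M V).trans hM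
  have hsS : CohB1.support (∐ fun _ : Fin m => M) ⊆ U := (support_sigma_subset M m).trans hM
  have hsH : CohB1.support H ⊆ U := by
    intro y hy
    rcases support_biprod_subset _ _ (support_subset_of_mono ψ hy) with h | h
    · exact hsT h
    · exact hsS h
  haveI := isIso_of_isoOn_of_support _ U h1 hsH hsT
  haveI := isIso_of_isoOn_of_support _ U h2 hsH hsS
  exact ⟨(asIso (ψ ≫ biprod.fst)).symm ≪≫ asIso (ψ ≫ biprod.snd)⟩

end Groth.Agent.Lib.T2H6.TensorDegA
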