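import Mathlib
import Groth.Prelude.Def_Curv2
import Groth.Agent.Lib.T2H6AddFn
import Groth.Agent.Lib.T2H6TensorDegA
import Groth.Agent.Lib.T2H6HiggsCurve

/-!
# Euler characteristic of a tensor product with a bundle on an integral proper curve (helper6)

`χ(F ⊗ V) = rank(F) · deg(V) + rank(V) · χ(F)` for `F` coherent and `V` finite locally free.
-/

set_option autoImplicit false
universe u

open AlgebraicGeometry CategoryTheory Limits

namespace Groth.Agent.Lib.T2H6.TensorDeg

open Groth.Agent.Lib.T2H6.AddFn Groth.Agent.Lib.T2H6.CurveSS2 Groth.Agent.Lib.T2H5.Twist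
  Groth.Agent.Lib.Helper4.NormDelta Groth.Agent.Lib.Helper23.StalkLin

variable {X : Scheme.{u}} [IsIntegral X]

/-- the generic rank is additive. -/
theorem isAddFn_grank : IsAddFn (fun M : X.Modules => ((grank M : ℕ) : ℤ)) where
  iso := by
    intro M N e _
    have h : grank M = grank N := by
      unfold grank
      exact LinearEquiv.finrank_eq (LinearEquiv.ofBijective (stalkLin e.hom (genericPoint X))
        ⟨stalkLin_injective e.hom _, stalkLin_surjective e.hom _⟩)
    exact_mod_cast h
  zero := by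
    intro M hM
    haveI := Groth.Agent.Lib.T2H5.GenIsoA.subsingleton_stalk_of_isZero (genericPoint X) hM
    have h : grank M = 0 := by
      unfold grank
      exact Module.finrank_zero_of_subsingleton
    exact_mod_cast h
  add := by
    intro S hS h1 _ h3
    have := grank_add S hS h1 h3
    exact_mod_cast this

theorem vanishesOnTorsion_grank : VanishesOnTorsion (fun M : X.Modules => ((grank M : ℕ) : ℤ)) := by
  intro T _ hξ
  have hs : Subsingleton (T.presheaf.stalk (genericPoint X)) := by
    by_contra h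
    exact hξ h
  have h : grank T = 0 := by
    unfold grank
    exact Module.finrank_zero_of_subsingleton
  change ((grank T : ℕ) : ℤ) = 0
  exact_mod_cast h

variable (k : Type u) [Field k] [X.Over (Spec (CommRingCat.of k))]
  [IsProper (X ↘ Spec (CommRingCat.of k))]

omit [IsIntegral X] in
/-- the Euler characteristic is additive. -/
theorem isAddFn_euler : IsAddFn (Curv2.euler k X) where
  iso := fun e hM => Groth.Agent.Lib.T2H6.HiggsCurve.euler_eq_of_iso k e hM
  zero := fun M hM => euler_eq_zero_of_isZero k M hM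
  add := fun S hS h1 h2 h3 => Groth.Agent.Lib.T2H6.EulerField.euler_additive k X S hS h1 h2 h3

/-- `Ψ_V(F) = χ(F ⊗ V) - m · χ(F)`. -/
noncomputable def psi (V : X.Modules) (m : ℕ) (F : X.Modules) : ℤ :=
  Curv2.euler k X (CohB1.tensorMod F V) - m * Curv2.euler k X F

omit [IsIntegral X] [IsProper (X ↘ Spec (CommRingCat.of k))] in
theorem isCoh_tensor (F V : X.Modules) (hF : Coh.IsCoh F) (hV : Coh.IsCoh V) :
    Coh.IsCoh (CohB1.tensorMod F V) := by
  haveI := hF.1
  haveI := hV.1
  haveI : SheafOfModules.IsFiniteType (R := X.ringCatSheaf) F := hF.2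
  haveI : SheafOfModules.IsFiniteType (R := X.ringCatSheaf) V := hV.2
  exact ⟨Groth.Agent.Lib.Helper23.TensorQCoh.isQuasicoherent_tensorMod F V,
    Groth.Agent.Lib.Helper23.TensorQCoh.isFiniteType_tensorMod F V⟩

omit [IsIntegral X] in
theorem preservesFiniteLimits_tr_of_isFinLocFree (V : X.Modules) (hV : FlatMod.IsFinLocFree V) :
    PreservesFiniteLimits (tr V) :=
  (Groth.Agent.Lib.Helper1.StalkTensor.modSite_isFlat_of_isFlat V
    (Groth.Agent.Lib.Helper1.Sky.isFlat_of_isFinLocFree' V hV)).1

omit [IsIntegral X] in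
theorem isAddFn_psi (V : X.Modules) (m : ℕ) (hV : FlatMod.IsFinLocFreeOfRank m V) :
    IsAddFn (psi k V m) := by
  have hVc := Groth.Agent.Lib.T2H6.RankAdd.isCoh_of_isFinLocFreeOfRank V m hV
  have hlf : FlatMod.IsFinLocFree V := fun x => by
    obtain ⟨U, hx, h⟩ := hV x
    exact ⟨U, m, hx, h⟩
  haveI := preservesFiniteLimits_tr_of_isFinLocFree V hlf
  haveI := preservesFiniteColimits_tr V
  refine ⟨?_, ?_, ?_⟩
  · intro M N e hM
    unfold psi
    have h1 := Groth.Agent.Lib.T2H6.HiggsCurve.euler_eq_of_iso k e hM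
    have h2 : Curv2.euler k X (CohB1.tensorMod M V) = Curv2.euler k X (CohB1.tensorMod N V) :=
      Groth.Agent.Lib.T2H6.HiggsCurve.euler_eq_of_iso k ((tr V).mapIso e) (isCoh_tensor M V hM hVc)
    rw [h1, h2]
  · intro M hM
    unfold psi
    have h2 : IsZero ((tr V).obj M) := Functor.map_isZero (tr V) hM
    rw [euler_eq_zero_of_isZero k M hM]
    change Curv2.euler k X ((tr V).obj M) - _ = 0
    rw [euler_eq_zero_of_isZero k _ h2]
    simp
  · intro S hS h1 h2 h3
    have hS' : (S.map (tr V)).ShortExact := hS.map_of_exact (tr V)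
    have e1 := Groth.Agent.Lib.T2H6.EulerField.euler_additive k X S hS h1 h2 h3
    have e2 := Groth.Agent.Lib.T2H6.EulerField.euler_additive k X _ hS'
      (isCoh_tensor _ V h1 hVc) (isCoh_tensor _ V h2 hVc) (isCoh_tensor _ V h3 hVc)
    change Curv2.euler k X (CohB1.tensorMod S.X₂ V) =
      Curv2.euler k X (CohB1.tensorMod S.X₁ V) + Curv2.euler k X (CohB1.tensorMod S.X₃ V) at e2
    unfold psi
    rw [e1, e2]
    ring

omit [IsIntegral X] in
theorem vanishesOnPoints_psi [IsNoetherian X] (V : X.Modules) (m : ℕ)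
    (hV : FlatMod.IsFinLocFreeOfRank m V) : VanishesOnPoints (psi k V m) := by
  intro M x hM _ hsupp
  have hVc := Groth.Agent.Lib.T2H6.RankAdd.isCoh_of_isFinLocFreeOfRank V m hV
  haveI := hM.1
  haveI := hVc.1
  obtain ⟨U, hxU, ⟨e⟩⟩ := hV x
  haveI : QuasiCompact U.ι := inferInstance
  have hMU : CohB1.support M ⊆ U := fun y hy => by
    have : y = x := hsupp hy
    rw [this]
    exact hxU
  obtain ⟨ε⟩ := Groth.Agent.Lib.T2H6.TensorDegA.nonempty_tensor_iso_sigma M V m U hMU e
  unfold psi
  rw [Groth.Agent.Lib.T2H6.HiggsCurve.euler_eq_of_iso k ε (isCoh_tensor M V hM hVc),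
    (isAddFn_euler k).sigma M hM m]
  ring

/-- **Euler characteristic of a tensor product with a bundle.** -/
theorem tensor_euler (hdim : topologicalKrullDim X = 1) (V : X.Modules) (m : ℕ)
    (hV : FlatMod.IsFinLocFreeOfRank m V) (F : X.Modules) (hF : Coh.IsCoh F) :
    Curv2.euler k X (CohB1.tensorMod F V) =
      (grank F : ℤ) * Curv2.deg k X V m + m * Curv2.euler k X F := by
  haveI : IsNoetherian X := Groth.Agent.Lib.T2H6.CurveSatur.isNoetherian_of_proper k
  have hVc := Groth.Agent.Lib.T2H6.RankAdd.isCoh_of_isFinLocFreeOfRank V m hV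
  obtain ⟨r, hr⟩ := exists_rank_forall_addFn F hF
  have h1 := hr _ isAddFn_grank vanishesOnTorsion_grank
  have h2 := hr _ (isAddFn_psi k V m hV)
    ((isAddFn_psi k V m hV).vanishesOnTorsion hdim.le (vanishesOnPoints_psi k V m hV))
  have hO1 : FlatMod.IsFinLocFreeOfRank 1 (Coh.structureModule X) :=
    Groth.Agent.Lib.Helper23.SecTw.isFinLocFreeOfRank_one_of_isInvertible _
      (Groth.Agent.Lib.Helper23.TensorUnit.isInvertible_structureModule X)
  rw [grank_of_isFinLocFreeOfRank _ 1 hO1] at h1
  have hr' : (grank F : ℤ) = r := by simpa using h1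
  obtain ⟨ε⟩ := Groth.Agent.Lib.T2H6.TensorFree.nonempty_unitTensorIso' V
  have hOc : Coh.IsCoh (Coh.structureModule X) :=
    Groth.Agent.Lib.T2H5.GenIsoF.isCoh_structureModule
  have h3 : psi k V m (Coh.structureModule X) = Curv2.deg k X V m := by
    unfold psi Curv2.deg
    rw [Groth.Agent.Lib.T2H6.HiggsCurve.euler_eq_of_iso k ε (isCoh_tensor _ V hOc hVc)]
  rw [h3] at h2
  unfold psi at h2
  rw [hr']
  linarith

end Groth.Agent.Lib.T2H6.TensorDeg
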