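import Mathlib
import Groth.Prelude.Def_Curv2
import Groth.Prelude.Def_ParBun2
import Groth.Agent.Lib.T2H6HHLin
import Groth.Agent.Lib.T2H6TensorDeg
import Groth.Agent.Lib.T2H6TensorFree
import Groth.Agent.Lib.T2H6CurveTors
import Groth.Agent.Lib.T2H5Dim0b

/-!
# Torsion modules on an integral proper curve and their tensor products with bundles (helper6)

`IsTors M`: the generic stalk of `M` vanishes.  For a coherent torsion module `D`:
`χ(E ⊗ D) = n · χ(D)` for `E` locally free of rank `n`; `χ ≥ 0`, `χ = h⁰` and higher cohomology vanishes;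
Euler characteristic of kernel and cokernel; `χ(T ⊗ D) ≤ χ(T)` when `D` is a quotient of `O`.
-/

set_option autoImplicit false
universe u

open AlgebraicGeometry CategoryTheory Limits TensorProduct

namespace Groth.Agent.Lib.T2H6.ParShA

open Groth.Agent.Lib.T2H5.Twist Groth.Agent.Lib.T2H6.CurveSS2 Groth.Agent.Lib.T2H6.TensorDeg
  Groth.Agent.Lib.T2H5.GenIsoB

variable {X : Scheme.{u}}

/-- the statement-level `f ⊗ 1_D` is the map of the functor `tr D`. -/
theorem tr_map_eq (D : X.Modules) {A B : X.Modules} (f : A ⟶ B) :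
    (tr D).map f = KoszTw.tensorMap f (𝟙 D) :=
  (KoszTw.tensorRightMod_map f D).symm ▸ rfl

theorem support_tensorMod_subset_right (A B : X.Modules) :
    CohB1.support (CohB1.tensorMod A B) ⊆ CohB1.support B := by
  intro x hx hB
  apply hx
  rw [Groth.Agent.S2286.subsingleton_stalk_tensorMod_iff]
  haveI := hB
  refine ⟨fun a b => ?_⟩
  have h0 : ∀ t : (A.presheaf.stalk x) ⊗[X.presheaf.stalk x] (B.presheaf.stalk x), t = 0 := by
    intro t
    induction t using TensorProduct.induction_on with
    | zero => rfl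
    | tmul a b => rw [Subsingleton.elim b 0, TensorProduct.tmul_zero]
    | add a b ha hb => rw [ha, hb, add_zero]
  rw [h0 a, h0 b]

section Tors

variable [IsIntegral X]

/-- a module with vanishing generic stalk. -/
def IsTors (M : X.Modules) : Prop := Subsingleton (M.presheaf.stalk (genericPoint X))

theorem isTors_iff (M : X.Modules) : IsTors M ↔ genericPoint X ∉ CohB1.support M := by
  unfold IsTors CohB1.support
  rw [Set.mem_setOf_eq, not_not]

theorem IsTors.of_mono {A B : X.Modules} (f : A ⟶ B) [Mono f] (hB : IsTors B) : IsTors A := by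
  rw [isTors_iff] at hB ⊢
  exact fun h => hB (support_subset_of_mono f h)

theorem IsTors.of_epi {A B : X.Modules} (f : A ⟶ B) [Epi f] (hA : IsTors A) : IsTors B := by
  rw [isTors_iff] at hA ⊢
  exact fun h => hA (support_subset_of_epi f h)

theorem IsTors.of_iso {A B : X.Modules} (e : A ≅ B) (hA : IsTors A) : IsTors B :=
  IsTors.of_epi e.hom hA

theorem IsTors.tensor_right (A : X.Modules) {D : X.Modules} (hD : IsTors D) :
    IsTors (CohB1.tensorMod A D) := by
  rw [isTors_iff] at hD ⊢
  exact fun h => hD (support_tensorMod_subset_right A D h)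

theorem IsTors.tensor_left {D : X.Modules} (hD : IsTors D) (A : X.Modules) :
    IsTors (CohB1.tensorMod D A) := by
  rw [isTors_iff] at hD ⊢
  exact fun h => hD (Groth.Agent.Lib.T2H5.Dim0.support_tensorMod_subset D A h)

theorem IsTors.grank_eq_zero {D : X.Modules} (hD : IsTors D) : grank D = 0 := by
  haveI : Subsingleton (D.presheaf.stalk (genericPoint X)) := hD
  unfold grank
  exact Module.finrank_zero_of_subsingleton

theorem isTors_of_isZero {M : X.Modules} (hM : IsZero M) : IsTors M :=
  Groth.Agent.Lib.T2H5.GenIsoA.subsingleton_stalk_of_isZero (genericPoint X) hM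

end Tors

section Curve

variable (k : Type u) [Field k] [X.Over (Spec (CommRingCat.of k))] [IsIntegral X]
  [IsProper (X ↘ Spec (CommRingCat.of k))]

include k in
/-- higher cohomology of a coherent torsion module on a curve vanishes. -/
theorem subsingleton_HH_of_isTors (hdim : topologicalKrullDim X = 1) (M : X.Modules)
    (hM : Coh.IsCoh M) (hMt : IsTors M) (i : ℕ) (hi : 0 < i) : Subsingleton (Coh.HH X M i) := by
  haveI := Groth.Agent.Lib.T2H6.CurveDeg.isLocallyNoetherian (X := X) k
  exact Groth.Agent.S0047.result X _ hM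
    (Groth.Agent.Lib.T2H6.CurveTors.isClosed_of_mem_support hdim M hMt) i hi

theorem euler_eq_h0 (hdim : topologicalKrullDim X = 1) (M : X.Modules) (hM : Coh.IsCoh M)
    (hMt : IsTors M) : Curv2.euler k X M = (Module.finrank k (Coh.HH X M 0) : ℤ) :=
  Groth.Agent.Lib.T2H6.CurveTors.euler_eq_h0 k hdim M hM hMt

theorem euler_nonneg (hdim : topologicalKrullDim X = 1) (M : X.Modules) (hM : Coh.IsCoh M)
    (hMt : IsTors M) : 0 ≤ Curv2.euler k X M := by
  rw [euler_eq_h0 k hdim M hM hMt]
  exact Int.natCast_nonneg _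

/-- `χ(E ⊗ D) = n · χ(D)` for a coherent torsion module `D` and a bundle `E` of rank `n`. -/
theorem euler_tensor_tors (hdim : topologicalKrullDim X = 1) (D : X.Modules) (hD : Coh.IsCoh D)
    (hDt : IsTors D) (E : X.Modules) (n : ℕ) (hE : FlatMod.IsFinLocFreeOfRank n E) :
    Curv2.euler k X (CohB1.tensorMod E D) = n * Curv2.euler k X D := by
  have hEc := Groth.Agent.Lib.T2H6.RankAdd.isCoh_of_isFinLocFreeOfRank E n hE
  obtain ⟨ε⟩ := Groth.Agent.Lib.T2H6.TensorFree.nonempty_braidIso' E D
  rw [Groth.Agent.Lib.T2H6.HiggsCurve.euler_eq_of_iso k ε (isCoh_tensor E D hEc hD),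
    tensor_euler k hdim E n hE D hD, hDt.grank_eq_zero]
  simp

/-- `χ(A) + χ(coker φ) = χ(B) + χ(ker φ)`. -/
theorem euler_ker_coker {A B : X.Modules} (φ : A ⟶ B) (hA : Coh.IsCoh A) (hB : Coh.IsCoh B) :
    Curv2.euler k X A + Curv2.euler k X (cokernel φ) =
      Curv2.euler k X B + Curv2.euler k X (kernel φ) := by
  haveI := Groth.Agent.Lib.T2H6.CurveDeg.isLocallyNoetherian (X := X) k
  have hK := isCoh_kernel φ hA hB
  have hC := isCoh_cokernel φ hA hB
  have hI : Coh.IsCoh (Abelian.image φ) := isCoh_kernel (cokernel.π φ) hB hC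
  have h1 := Groth.Agent.Lib.T2H6.EulerField.euler_additive k X
    (Groth.Agent.Lib.T2H6.HHLin.kerImSC φ) (Groth.Agent.Lib.T2H6.HHLin.kerImSC_shortExact φ) hK hA hI
  let S2 : ShortComplex X.Modules :=
    ShortComplex.mk (kernel.ι (cokernel.π φ)) (cokernel.π φ) (kernel.condition _)
  have hS2 : S2.ShortExact :=
    { exact := ShortComplex.exact_kernel (cokernel.π φ)
      mono_f := inferInstanceAs (Mono (kernel.ι (cokernel.π φ)))
      epi_g := inferInstanceAs (Epi (cokernel.π φ)) }
  have h2 := Groth.Agent.Lib.T2H6.EulerField.euler_additive k X S2 hS2 hI hB hC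
  change Curv2.euler k X A = Curv2.euler k X (kernel φ) + Curv2.euler k X (Abelian.image φ) at h1
  change Curv2.euler k X B = Curv2.euler k X (Abelian.image φ) + Curv2.euler k X (cokernel φ) at h2
  linarith

/-- `χ(T ⊗ D) ≤ χ(T)` for coherent torsion `T` when `D` is a coherent quotient of `O`. -/
theorem euler_tensor_le (hdim : topologicalKrullDim X = 1) (T : X.Modules) (hT : Coh.IsCoh T)
    (hTt : IsTors T) (D : X.Modules) (hD : Coh.IsCoh D) (π : Coh.structureModule X ⟶ D) [Epi π] :
    Curv2.euler k X (CohB1.tensorMod T D) ≤ Curv2.euler k X T := by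
  haveI := Groth.Agent.Lib.T2H6.CurveDeg.isLocallyNoetherian (X := X) k
  have hO : Coh.IsCoh (Coh.structureModule X) := Groth.Agent.Lib.T2H5.GenIsoF.isCoh_structureModule
  haveI := preservesFiniteColimits_tr (X := X) T
  haveI : Epi ((tr T).map π) := inferInstance
  have hOT := isCoh_tensor (Coh.structureModule X) T hO hT
  have hDT := isCoh_tensor D T hD hT
  have h := euler_ker_coker k ((tr T).map π) hOT hDT
  have hz : IsZero (cokernel ((tr T).map π)) := isZero_cokernel_of_epi _
  rw [euler_eq_zero_of_isZero k _ hz] at h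
  have hKt : IsTors (kernel ((tr T).map π)) :=
    IsTors.of_mono (kernel.ι _) (IsTors.tensor_right (Coh.structureModule X) hTt)
  have hK := euler_nonneg k hdim _ (isCoh_kernel ((tr T).map π) hOT hDT) hKt
  obtain ⟨ε⟩ := Groth.Agent.Lib.T2H6.TensorFree.nonempty_unitTensorIso' T
  obtain ⟨β⟩ := Groth.Agent.Lib.T2H6.TensorFree.nonempty_braidIso' T D
  have e1 : Curv2.euler k X (CohB1.tensorMod (Coh.structureModule X) T) = Curv2.euler k X T :=
    Groth.Agent.Lib.T2H6.HiggsCurve.euler_eq_of_iso k ε hOT
  have e2 : Curv2.euler k X (CohB1.tensorMod T D) = Curv2.euler k X (CohB1.tensorMod D T) :=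
    Groth.Agent.Lib.T2H6.HiggsCurve.euler_eq_of_iso k β (isCoh_tensor T D hT hD)
  change Curv2.euler k X (CohB1.tensorMod (Coh.structureModule X) T) + 0 =
    Curv2.euler k X (CohB1.tensorMod D T) + _ at h
  rw [e2]
  linarith

end Curve

end Groth.Agent.Lib.T2H6.ParShA
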