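import Mathlib
import Groth.Agent.Lib.T2H6ParShA
import Groth.Agent.Lib.T2H6CurveSS
import Groth.Agent.Lib.Helper21FlatCalc

/-!
# `H⁰(E ⊗ D)` for bundles `E` and a torsion module `D` on an integral proper curve (helper6)

* `finrank_ker_le`: for a generic isomorphism `f : E ⟶ F` of bundles of rank `n` and `D` a coherent torsion
  quotient of `O`, `dim ker (H⁰(E ⊗ D) → H⁰(F ⊗ D)) ≤ deg F - deg E`.
* `exact_H0`: for a short exact sequence of bundles, `0 → H⁰(S₁ ⊗ D) → H⁰(S₂ ⊗ D) → H⁰(S₃ ⊗ D)` is exact.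
-/

set_option autoImplicit false
universe u

open AlgebraicGeometry CategoryTheory Limits

namespace Groth.Agent.Lib.T2H6.ParShB

open Groth.Agent.Lib.T2H5.Twist Groth.Agent.Lib.T2H6.CurveSS2 Groth.Agent.Lib.T2H6.TensorDeg
  Groth.Agent.Lib.T2H5.GenIsoB Groth.Agent.Lib.T2H6.ParShA Groth.Agent.Lib.T2H6.HHLin

variable {X : Scheme.{u}} (k : Type u) [Field k] [X.Over (Spec (CommRingCat.of k))] [IsIntegral X]
  [IsProper (X ↘ Spec (CommRingCat.of k))]

theorem finite_H0 (M : X.Modules) (hM : Coh.IsCoh M) : Module.Finite k (Coh.HH X M 0) :=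
  Groth.Agent.Lib.T2H6.EulerField.finite_HH k X M hM 0

/-- **Key bound.** -/
theorem finrank_ker_le (hdim : topologicalKrullDim X = 1) (D : X.Modules) (hD : Coh.IsCoh D)
    (hDt : IsTors D) (π : Coh.structureModule X ⟶ D) [Epi π] {E F : X.Modules} (n : ℕ)
    (hE : FlatMod.IsFinLocFreeOfRank n E) (hF : FlatMod.IsFinLocFreeOfRank n F) (f : E ⟶ F)
    [Mono f] :
    (Module.finrank k (LinearMap.ker (Canon.HHlin k ((tr D).map f) 0)) : ℤ) ≤
      Curv2.deg k X F n - Curv2.deg k X E n := by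
  haveI := Groth.Agent.Lib.T2H6.CurveDeg.isLocallyNoetherian (X := X) k
  have hEc := Groth.Agent.Lib.T2H6.RankAdd.isCoh_of_isFinLocFreeOfRank E n hE
  have hFc := Groth.Agent.Lib.T2H6.RankAdd.isCoh_of_isFinLocFreeOfRank F n hF
  have hTc : Coh.IsCoh (cokernel f) := isCoh_cokernel f hEc hFc
  have hTt : IsTors (cokernel f) :=
    Groth.Agent.Lib.T2H6.CurveSS.subsingleton_cokernel_generic f n hE hF
  -- χ(F) - χ(E) = χ(T)
  have h1 := euler_ker_coker k f hEc hFc
  rw [euler_eq_zero_of_isZero k _ (isZero_kernel_of_mono f)] at h1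
  -- the tensored map
  have hED := isCoh_tensor E D hEc hD
  have hFD := isCoh_tensor F D hFc hD
  have h2 := euler_ker_coker k ((tr D).map f) hED hFD
  have e1 : Curv2.euler k X ((tr D).obj E) = n * Curv2.euler k X D :=
    euler_tensor_tors k hdim D hD hDt E n hE
  have e2 : Curv2.euler k X ((tr D).obj F) = n * Curv2.euler k X D :=
    euler_tensor_tors k hdim D hD hDt F n hF
  rw [e1, e2] at h2
  haveI := preservesFiniteColimits_tr (X := X) D
  have hCc : Coh.IsCoh (cokernel ((tr D).map f)) := isCoh_cokernel _ hED hFD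
  have e3 : Curv2.euler k X (cokernel ((tr D).map f)) =
      Curv2.euler k X (CohB1.tensorMod (cokernel f) D) :=
    (Groth.Agent.Lib.T2H6.HiggsCurve.euler_eq_of_iso k (PreservesCokernel.iso (tr D) f)
      (isCoh_tensor _ D hTc hD)).symm
  have h3 := euler_tensor_le k hdim (cokernel f) hTc hTt D hD π
  have hKc : Coh.IsCoh (kernel ((tr D).map f)) := isCoh_kernel _ hED hFD
  have hKt : IsTors (kernel ((tr D).map f)) :=
    IsTors.of_mono (kernel.ι _) (IsTors.tensor_right E hDt)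
  have h4 := euler_eq_h0 k hdim _ hKc hKt
  rw [finrank_ker_HHlin_zero, ← h4]
  unfold Curv2.deg
  linarith

/-- **Exactness of `0 → H⁰(S₁ ⊗ D) → H⁰(S₂ ⊗ D) → H⁰(S₃ ⊗ D)`** for a short exact sequence of bundles. -/
theorem exact_H0 (hdim : topologicalKrullDim X = 1) (D : X.Modules) (hD : Coh.IsCoh D)
    (hDt : IsTors D) (S : ShortComplex X.Modules) (hS : S.ShortExact) (a b c : ℕ)
    (h₁ : FlatMod.IsFinLocFreeOfRank a S.X₁) (h₂ : FlatMod.IsFinLocFreeOfRank b S.X₂)
    (h₃ : FlatMod.IsFinLocFreeOfRank c S.X₃) :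
    Function.Injective (Canon.HHlin k ((tr D).map S.f) 0) ∧
      LinearMap.ker (Canon.HHlin k ((tr D).map S.g) 0) =
        LinearMap.range (Canon.HHlin k ((tr D).map S.f) 0) := by
  haveI := Groth.Agent.Lib.T2H6.CurveDeg.isLocallyNoetherian (X := X) k
  have habc : b = a + c :=
    Groth.Agent.Lib.T2H6.RankAdd.rank_add S hS a b c h₁ h₂ h₃ (genericPoint X)
  have c₁ := Groth.Agent.Lib.T2H6.RankAdd.isCoh_of_isFinLocFreeOfRank _ a h₁
  have c₂ := Groth.Agent.Lib.T2H6.RankAdd.isCoh_of_isFinLocFreeOfRank _ b h₂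
  have c₃ := Groth.Agent.Lib.T2H6.RankAdd.isCoh_of_isFinLocFreeOfRank _ c h₃
  have d₁ := isCoh_tensor S.X₁ D c₁ hD
  have d₂ := isCoh_tensor S.X₂ D c₂ hD
  have d₃ := isCoh_tensor S.X₃ D c₃ hD
  haveI := preservesFiniteColimits_tr (X := X) D
  obtain ⟨hex, hepi⟩ := Groth.Agent.Lib.Helper21.FlatCalc.exact_and_epi_of_rightExact (tr D) S hS
  haveI := hepi
  set fD := (tr D).map S.f with hfD
  set gD := (tr D).map S.g with hgD
  have hzero : fD ≫ gD = 0 := (S.map (tr D)).zero
  let e : (tr D).obj S.X₁ ⟶ kernel gD := kernel.lift gD fD hzero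
  have hfac : e ≫ kernel.ι gD = fD := kernel.lift_ι _ _ _
  haveI : Epi e := (S.map (tr D)).exact_iff_epi_kernel_lift.1 hex
  have hKg : Coh.IsCoh (kernel gD) := isCoh_kernel gD d₂ d₃
  have hKgt : IsTors (kernel gD) := IsTors.of_mono (kernel.ι gD) (IsTors.tensor_right S.X₂ hDt)
  have hKe : Coh.IsCoh (kernel e) := isCoh_kernel e d₁ hKg
  have hKet : IsTors (kernel e) := IsTors.of_mono (kernel.ι e) (IsTors.tensor_right S.X₁ hDt)
  let S' : ShortComplex X.Modules := ShortComplex.mk (kernel.ι e) e (kernel.condition e)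
  have hS' : S'.ShortExact :=
    { exact := ShortComplex.exact_kernel e
      mono_f := inferInstanceAs (Mono (kernel.ι e))
      epi_g := inferInstanceAs (Epi e) }
  have hsurj : Function.Surjective (Canon.HHlin k e 0) :=
    surjective_g k S' hS' 0 (subsingleton_HH_of_isTors k hdim _ hKe hKet 1 Nat.one_pos)
  have hrange : LinearMap.range (Canon.HHlin k fD 0) = LinearMap.ker (Canon.HHlin k gD 0) := by
    rw [ker_HHlin_zero, ← hfac, HHlin_comp,
      LinearMap.range_comp_of_range_eq_top _ (LinearMap.range_eq_top.2 hsurj)]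
  refine ⟨?_, hrange.symm⟩
  -- injectivity by a dimension count
  haveI : Module.Finite k (Coh.HH X ((tr D).obj S.X₁) 0) := finite_H0 k _ d₁
  have h5 := euler_ker_coker k gD d₂ d₃
  rw [euler_eq_zero_of_isZero k _ (isZero_cokernel_of_epi gD)] at h5
  have e1 : Curv2.euler k X ((tr D).obj S.X₁) = a * Curv2.euler k X D :=
    euler_tensor_tors k hdim D hD hDt _ a h₁
  have e2 : Curv2.euler k X ((tr D).obj S.X₂) = b * Curv2.euler k X D :=
    euler_tensor_tors k hdim D hD hDt _ b h₂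
  have e3 : Curv2.euler k X ((tr D).obj S.X₃) = c * Curv2.euler k X D :=
    euler_tensor_tors k hdim D hD hDt _ c h₃
  rw [e2, e3] at h5
  have h6 := euler_eq_h0 k hdim _ hKg hKgt
  have h7 : Curv2.euler k X ((tr D).obj S.X₁) =
      (Module.finrank k (Coh.HH X ((tr D).obj S.X₁) 0) : ℤ) :=
    euler_eq_h0 k hdim _ d₁ (IsTors.tensor_right S.X₁ hDt)
  rw [e1] at h7
  have h8 : Module.finrank k (LinearMap.range (Canon.HHlin k fD 0)) =
      Module.finrank k (Coh.HH X (kernel gD) 0) := by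
    rw [hrange, finrank_ker_HHlin_zero]
  have h9 := LinearMap.finrank_range_add_finrank_ker (Canon.HHlin k fD 0)
  have h10 : (Module.finrank k (Coh.HH X (kernel gD) 0) : ℤ) =
      Module.finrank k (Coh.HH X ((tr D).obj S.X₁) 0) := by
    rw [← h6, ← h7]
    have : (b : ℤ) = a + c := by exact_mod_cast habc
    rw [this] at h5
    linarith
  have h11 : Module.finrank k (LinearMap.ker (Canon.HHlin k fD 0)) = 0 := by
    have : Module.finrank k (Coh.HH X (kernel gD) 0) =
      Module.finrank k (Coh.HH X ((tr D).obj S.X₁) 0) := by exact_mod_cast h10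
    omega
  rw [← LinearMap.ker_eq_bot]
  exact Submodule.finrank_eq_zero.1 h11

end Groth.Agent.Lib.T2H6.ParShB
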