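import Mathlib
import Groth.Prelude.Def_ParBun2
import Groth.Prelude.Def_FGA
import Groth.Agent.Lib.T2H6ParShA
import Groth.Agent.Lib.Helper23Serre
import Groth.Agent.Lib.T2H5GenIsoD
import Groth.Agent.Lib.T2H5GenIsoF

/-!
# The module `O_D = O_X / I` of an effective Cartier divisor (helper6)

`ClSub.quotMod I` is coherent, a quotient of `O_X` and (on an integral scheme, for `I` effective Cartier) torsion.
-/

set_option autoImplicit false
universe u

open AlgebraicGeometry CategoryTheory Limits

namespace Groth.Agent.Lib.T2H6.ParShC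

open Groth.Agent.Lib.T2H6.ParShA Groth.Agent.Lib.Helper23.Serre Groth.Agent.Lib.Helper23.GenLocus

variable {X : Scheme.{u}} (I : X.IdealSheafData)

theorem isCoh_quotMod : Coh.IsCoh (ClSub.quotMod I) :=
  Groth.Agent.Lib.T2H5.GenIsoD.isCoh_pushforward I.subschemeι _
    Groth.Agent.Lib.T2H5.GenIsoF.isCoh_structureModule

instance epi_toSubscheme : Epi (ClSub.toSubscheme I) := by
  apply epi_of_locally_surjective
  intro V t x hx
  obtain ⟨_, ⟨V', hV', rfl⟩, hxV', hle⟩ :=
    X.isBasis_affineOpens.exists_subset_of_mem_open hx V.isOpen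
  refine ⟨V', hle, hxV', ?_⟩
  obtain ⟨a, ha⟩ := I.subschemeι.app_surjective V' hV'
    (ofS (I.subschemeι ⁻¹ᵁ V') ((ClSub.quotMod I).presheaf.map (homOfLE hle).op t))
  exact ⟨toS V' a, congrArg (toS (I.subschemeι ⁻¹ᵁ V')) ha⟩

theorem support_quotMod_subset : CohB1.support (ClSub.quotMod I) ⊆ (I.support : Set X) := by
  have h := Groth.Agent.Lib.T2H5.GenIsoC.support_pushforward_subset I.subschemeι
    (Coh.structureModule I.subscheme) I.subschemeι.isClosedEmbedding.isClosed_range
  rwa [I.range_subschemeι] at h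

theorem isTors_quotMod [IsIntegral X] (hD : FGA.IsEffCartier I) : IsTors (ClSub.quotMod I) := by
  rw [isTors_iff]
  intro hmem
  have h1 := support_quotMod_subset I hmem
  obtain ⟨U, hηU, a, ha, hIa⟩ := hD (genericPoint X)
  have h2 : genericPoint X ∈ X.zeroLocus (U := U.1) (I.ideal U) :=
    (AlgebraicGeometry.Scheme.IdealSheafData.mem_support_iff_of_mem hηU).1 h1
  rw [hIa, Scheme.mem_zeroLocus_iff] at h2
  have h3 := h2 a (Ideal.subset_span (Set.mem_singleton a))
  apply h3
  haveI : Nonempty U.1 := ⟨⟨genericPoint X, hηU⟩⟩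
  haveI : Nontrivial Γ(X, U.1) := inferInstance
  have hne : a ≠ 0 := nonZeroDivisors.ne_zero ha
  have hbne : (X.basicOpen a : Set X).Nonempty := by
    rw [Set.nonempty_iff_ne_empty]
    intro hemp
    apply hne
    have : X.basicOpen a = ⊥ := TopologicalSpace.Opens.ext hemp
    exact (AlgebraicGeometry.basicOpen_eq_bot_iff a).1 this
  have := ((genericPoint_spec X).mem_open_set_iff (X.basicOpen a).isOpen).2
    (by simpa using hbne)
  exact this

end Groth.Agent.Lib.T2H6.ParShC
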