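import Mathlib
import Groth.Agent.Lib.T2H6ParShB
import Groth.Agent.Lib.T2H6ParShC

/-!
# Generalised parabolic bundles: monomorphisms of equal rank (helper6)

`gpDeg_le_and_eq_iff`: for a parabolic monomorphism `f : (E, F₁) ⟶ (F, F₁')` of bundles of the same rank on an
integral proper curve and weight `0 ≤ α < 1`: `pardeg E ≤ pardeg F`, with equality iff `f` is an isomorphism
(mapping `F₁` onto `F₁'` when `α > 0`).
-/

set_option autoImplicit false
universe u

open AlgebraicGeometry CategoryTheory Limits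

namespace Groth.Agent.Lib.T2H6.ParShD

open Groth.Agent.Lib.T2H5.Twist Groth.Agent.Lib.T2H6.ParShA Groth.Agent.Lib.T2H6.ParShB
  Groth.Agent.Lib.T2H6.ParShC Groth.Agent.Lib.T2H6.HHLin

variable {X : Scheme.{u}} (k : Type u) [Field k] [X.Over (Spec (CommRingCat.of k))] [IsIntegral X]
  [IsProper (X ↘ Spec (CommRingCat.of k))]

theorem fibDMap_eq (I : X.IdealSheafData) {E F : X.Modules} (f : E ⟶ F) :
    ParSh.fibDMap k X I f = Canon.HHlin k ((tr (ClSub.quotMod I)).map f) 0 := by
  unfold ParSh.fibDMap ParSh.resDMap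
  rw [tr_map_eq]
  rfl

theorem fibDMap_comp (I : X.IdealSheafData) {E F G : X.Modules} (f : E ⟶ F) (g : F ⟶ G) :
    ParSh.fibDMap k X I (f ≫ g) = ParSh.fibDMap k X I g ∘ₗ ParSh.fibDMap k X I f := by
  rw [fibDMap_eq, fibDMap_eq, fibDMap_eq, Functor.map_comp, HHlin_comp]
  rfl

theorem fibDMap_id (I : X.IdealSheafData) (E : X.Modules) :
    ParSh.fibDMap k X I (𝟙 E) = LinearMap.id := by
  rw [fibDMap_eq, CategoryTheory.Functor.map_id, HHlin_id]
  rfl

theorem finite_fibD (I : X.IdealSheafData) (E : X.Modules) (hE : Coh.IsCoh E) :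
    Module.Finite k (ParSh.fibD X I E) :=
  finite_H0 k _ (Groth.Agent.Lib.T2H6.TensorDeg.isCoh_tensor E _ hE (isCoh_quotMod I))

theorem injective_fibDMap_of_isIso (I : X.IdealSheafData) {E F : X.Modules} (f : E ⟶ F) [IsIso f] :
    Function.Injective (ParSh.fibDMap k X I f) := by
  have h : ParSh.fibDMap k X I (inv f) ∘ₗ ParSh.fibDMap k X I f = LinearMap.id := by
    rw [← fibDMap_comp, IsIso.hom_inv_id, fibDMap_id]
  intro x y hxy
  have := congrArg (ParSh.fibDMap k X I (inv f)) hxy
  rw [← LinearMap.comp_apply, ← LinearMap.comp_apply, h] at this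
  exact this

theorem finrank_map_of_injective {V W : Type u} [AddCommGroup V] [Module k V] [AddCommGroup W]
    [Module k W] (φ : V →ₗ[k] W) (hφ : Function.Injective φ) (F₁ : Submodule k V) :
    Module.finrank k (F₁.map φ) = Module.finrank k F₁ :=
  (Submodule.equivMapOfInjective φ hφ F₁).finrank_eq.symm

/-- dimension count: `dim F₁ ≤ dim ker φ + dim F₁'` when `φ(F₁) ⊆ F₁'`. -/
theorem finrank_le_of_map_le {V W : Type u} [AddCommGroup V] [Module k V] [AddCommGroup W]
    [Module k W] [Module.Finite k V] [Module.Finite k W] (φ : V →ₗ[k] W) (F₁ : Submodule k V)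
    (F₁' : Submodule k W) (h : F₁.map φ ≤ F₁') :
    Module.finrank k F₁ ≤ Module.finrank k (LinearMap.ker φ) + Module.finrank k F₁' := by
  have h1 := LinearMap.finrank_range_add_finrank_ker (φ.domRestrict F₁)
  have h2 : Module.finrank k (LinearMap.range (φ.domRestrict F₁)) ≤ Module.finrank k F₁' := by
    rw [LinearMap.range_domRestrict]
    exact Submodule.finrank_mono h
  have h3 : Module.finrank k (LinearMap.ker (φ.domRestrict F₁)) ≤
      Module.finrank k (LinearMap.ker φ) := by
    let ψ : LinearMap.ker (φ.domRestrict F₁) →ₗ[k] LinearMap.ker φ :=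
      LinearMap.codRestrict _ (F₁.subtype ∘ₗ (LinearMap.ker (φ.domRestrict F₁)).subtype)
        (fun x => by
          rw [LinearMap.mem_ker]
          exact x.2)
    refine LinearMap.finrank_le_finrank_of_injective (f := ψ) ?_
    intro x y hxy
    have := congrArg Subtype.val hxy
    exact Subtype.ext (Subtype.ext this)
  omega

/-- **Parabolic monomorphisms of bundles of the same rank.** -/
theorem gpDeg_le_and_eq_iff (hdim : topologicalKrullDim X = 1) (I : X.IdealSheafData)
    (hD : FGA.IsEffCartier I) (α : ℝ) (hα0 : 0 ≤ α) (hα1 : α < 1) {E F : X.Modules} (n : ℕ)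
    (hE : FlatMod.IsFinLocFreeOfRank n E) (hF : FlatMod.IsFinLocFreeOfRank n F)
    (F₁ : Submodule k (ParSh.fibD X I E)) (F₁' : Submodule k (ParSh.fibD X I F))
    (f : E ⟶ F) [Mono f] (hf : ParSh.IsGPHom k X I F₁ F₁' f) :
    ParSh.gpDeg k X α E F₁ n ≤ ParSh.gpDeg k X α F F₁' n ∧
      (ParSh.gpDeg k X α E F₁ n = ParSh.gpDeg k X α F F₁' n ↔
        (IsIso f ∧ (0 < α → Submodule.map (ParSh.fibDMap k X I f) F₁ = F₁'))) := by
  have hEc := Groth.Agent.Lib.T2H6.RankAdd.isCoh_of_isFinLocFreeOfRank E n hE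
  have hFc := Groth.Agent.Lib.T2H6.RankAdd.isCoh_of_isFinLocFreeOfRank F n hF
  haveI := finite_fibD k I E hEc
  haveI := finite_fibD k I F hFc
  have hkey := finrank_ker_le k hdim (ClSub.quotMod I) (isCoh_quotMod I) (isTors_quotMod I hD)
    (ClSub.toSubscheme I) n hE hF f
  rw [← fibDMap_eq] at hkey
  have hcount := finrank_le_of_map_le k (ParSh.fibDMap k X I f) F₁ F₁' hf
  obtain ⟨hdeg, hdegiff⟩ :=
    Groth.Agent.Lib.T2H6.CurveSS.deg_le_and_eq_iff_of_rank_eq k hdim f n hE hF
  set κ : ℕ := Module.finrank k (LinearMap.ker (ParSh.fibDMap k X I f)) with hκ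
  set a : ℕ := Module.finrank k F₁ with ha
  set b : ℕ := Module.finrank k F₁' with hb
  set dE : ℤ := Curv2.deg k X E n with hdE
  set dF : ℤ := Curv2.deg k X F n with hdF
  have hkeyR : (κ : ℝ) ≤ (dF : ℝ) - (dE : ℝ) := by exact_mod_cast hkey
  have hcountR : (a : ℝ) ≤ (κ : ℝ) + (b : ℝ) := by exact_mod_cast hcount
  have hκ0 : (0 : ℝ) ≤ κ := Nat.cast_nonneg _
  have hmain : (1 - α) * ((dF : ℝ) - dE) ≤
      ((dF : ℝ) + α * b) - ((dE : ℝ) + α * a) := by
    have h1 : α * (a : ℝ) ≤ α * ((κ : ℝ) + b) := mul_le_mul_of_nonneg_left hcountR hα0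
    have h2 : α * (κ : ℝ) ≤ α * ((dF : ℝ) - dE) := mul_le_mul_of_nonneg_left hkeyR hα0
    nlinarith
  have hdegR : (dE : ℝ) ≤ dF := by exact_mod_cast hdeg
  have h1α : 0 < 1 - α := by linarith
  unfold ParSh.gpDeg ParSh.gpWt
  refine ⟨?_, ?_, ?_⟩
  · have : 0 ≤ (1 - α) * ((dF : ℝ) - dE) := mul_nonneg h1α.le (by linarith)
    linarith
  · intro heq
    have h0 : (1 - α) * ((dF : ℝ) - dE) ≤ 0 := by linarith
    have h2 : (dF : ℝ) - dE ≤ 0 := by
      by_contra hpos
      rw [not_le] at hpos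
      have := mul_pos h1α hpos
      linarith
    have hdeq : dE = dF := by
      have : (dF : ℝ) ≤ dE := by linarith
      have : dF ≤ dE := by exact_mod_cast this
      omega
    haveI hiso : IsIso f := hdegiff.1 hdeq
    refine ⟨hiso, fun hαpos => ?_⟩
    have hab : (a : ℝ) = b := by
      have h3 : α * (a : ℝ) = α * b := by
        have : (dE : ℝ) = dF := by exact_mod_cast hdeq
        linarith
      exact mul_left_cancel₀ hαpos.ne' h3
    have hab' : a = b := by exact_mod_cast hab
    have hinj := injective_fibDMap_of_isIso k I f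
    refine Submodule.eq_of_le_of_finrank_eq hf ?_
    rw [← hb, ← hab', ha]
    exact finrank_map_of_injective k _ hinj F₁
  · rintro ⟨hiso, hmap⟩
    haveI := hiso
    have hdeq : dE = dF := hdegiff.2 hiso
    have : (dE : ℝ) = dF := by exact_mod_cast hdeq
    rw [this]
    congr 1
    rcases hα0.eq_or_lt with h0 | hpos
    · rw [← h0, zero_mul, zero_mul]
    · have hinj := injective_fibDMap_of_isIso k I f
      have h4 : Module.finrank k (F₁.map (ParSh.fibDMap k X I f)) = Module.finrank k F₁ :=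
        finrank_map_of_injective k _ hinj F₁
      rw [hmap hpos] at h4
      rw [h4]

end Groth.Agent.Lib.T2H6.ParShD
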