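import Mathlib
import Groth.Agent.Lib.T2H6ParShD
import Groth.Agent.Lib.T2H6CurveVB
import Groth.Agent.Lib.T2H6CurveSatur
import Groth.Agent.Lib.Helper26ModRank

/-!
# Generalised parabolic bundles: homomorphisms between semistable bundles of the same slope (helper6)

`gp_analysis`: kernel/image analysis of a parabolic homomorphism `f : (E, F₁) ⟶ (F, F₁')` between
semistable generalised parabolic bundles of the same slope on a regular integral proper curve: the cokernel is
locally free, and the kernel and the saturated image have the same parabolic slope.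
-/

set_option autoImplicit false
universe u

open AlgebraicGeometry CategoryTheory Limits

namespace Groth.Agent.Lib.T2H6.ParShE

open Groth.Agent.Lib.T2H5.Twist Groth.Agent.Lib.T2H6.ParShA Groth.Agent.Lib.T2H6.ParShB
  Groth.Agent.Lib.T2H6.ParShC Groth.Agent.Lib.T2H6.ParShD Groth.Agent.Lib.T2H6.HHLin

/-- linear algebra: `dim F₁ = dim (F₁ ∩ U) + dim (image of F₁ in W)` for `0 → U → V → W` exact. -/
theorem finrank_eq_comap_add_map {k : Type u} [Field k] {U V W : Type u} [AddCommGroup U]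
    [Module k U] [AddCommGroup V] [Module k V] [AddCommGroup W] [Module k W] [Module.Finite k V]
    (φi : U →ₗ[k] V) (φp : V →ₗ[k] W) (hinj : Function.Injective φi)
    (hex : LinearMap.ker φp = LinearMap.range φi) (F₁ : Submodule k V) :
    Module.finrank k F₁ = Module.finrank k (F₁.comap φi) + Module.finrank k (F₁.map φp) := by
  have h1 := LinearMap.finrank_range_add_finrank_ker (φp.domRestrict F₁)
  rw [LinearMap.range_domRestrict] at h1
  have h2 : Module.finrank k (LinearMap.ker (φp.domRestrict F₁)) =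
      Module.finrank k (F₁.comap φi) := by
    rw [LinearMap.ker_domRestrict,
      ← finrank_map_of_injective k F₁.subtype F₁.injective_subtype,
      Submodule.map_comap_subtype, hex,
      ← finrank_map_of_injective k φi hinj (F₁.comap φi), Submodule.map_comap_eq, inf_comm]
  omega

variable {X : Scheme.{u}} (k : Type u) [Field k] [X.Over (Spec (CommRingCat.of k))] [IsIntegral X]
  [IsProper (X ↘ Spec (CommRingCat.of k))]

/-- the parabolic degree of a zero module is zero. -/
theorem gpDeg_of_isZero (I : X.IdealSheafData) (α : ℝ) (K : X.Modules) (hK : IsZero K)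
    (G : Submodule k (ParSh.fibD X I K)) : ParSh.gpDeg k X α K G 0 = 0 := by
  have hz : IsZero ((tr (ClSub.quotMod I)).obj K) := Functor.map_isZero _ hK
  haveI : Subsingleton (ParSh.fibD X I K) :=
    Groth.Agent.Lib.T2H5.Chevalley.subsingleton_HH_of_isZero hz 0
  have h1 : Module.finrank k G = 0 := Module.finrank_zero_of_subsingleton
  unfold ParSh.gpDeg ParSh.gpWt Curv2.deg
  rw [h1, Groth.Agent.Lib.T2H6.CurveSS2.euler_eq_zero_of_isZero k K hK]
  simp

/-- **Kernel/image analysis of parabolic maps between semistable bundles of the same slope.** -/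
theorem gp_analysis (hdim : topologicalKrullDim X = 1)
    (hreg : ∀ x : X, IsRegularLocalRing (X.presheaf.stalk x))
    (I : X.IdealSheafData) (hD : FGA.IsEffCartier I) (α : ℝ) (hα0 : 0 ≤ α) (hα1 : α < 1)
    {E F : X.Modules} (n m : ℕ) (hn : 0 < n) (hm : 0 < m)
    (hE : FlatMod.IsFinLocFreeOfRank n E) (hF : FlatMod.IsFinLocFreeOfRank m F)
    (F₁ : Submodule k (ParSh.fibD X I E)) (F₁' : Submodule k (ParSh.fibD X I F))
    (hEss : ParSh.IsGPSemistable k X I α F₁ n) (hFss : ParSh.IsGPSemistable k X I α F₁' m)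
    (hμ : ParSh.gpDeg k X α E F₁ n * (m : ℝ) = ParSh.gpDeg k X α F F₁' m * (n : ℝ))
    (f : E ⟶ F) (hf : ParSh.IsGPHom k X I F₁ F₁' f) :
    ∃ rK rI : ℕ, n = rK + rI ∧ rI ≤ m ∧ FlatMod.IsFinLocFreeOfRank rK (kernel f) ∧
      FlatMod.IsFinLocFreeOfRank rI (Abelian.image f) ∧
      (0 < rI → FlatMod.IsFinLocFreeOfRank (m - rI) (cokernel f)) ∧
      (0 < rI → ParSh.gpDeg k X α (kernel f) (ParSh.gpInduced k X I (kernel.ι f) F₁) rK * (n : ℝ) =
        ParSh.gpDeg k X α E F₁ n * (rK : ℝ)) ∧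
      (0 < rI → ∃ (I' : X.Modules) (i' : I' ⟶ F), Mono i' ∧ FlatMod.IsFinLocFreeOfRank rI I' ∧
        ParSh.gpDeg k X α I' (ParSh.gpInduced k X I i' F₁') rI * (m : ℝ) =
          ParSh.gpDeg k X α F F₁' m * (rI : ℝ)) := by
  obtain ⟨rK, rI, hK, hI, hnKI, hIm, hdegKI⟩ :=
    Groth.Agent.Lib.T2H6.CurveVB.ker_im_data k hdim hreg f n m hE hF
  refine ⟨rK, rI, hnKI, hIm, hK, hI, ?_⟩
  suffices hmain : 0 < rI → (FlatMod.IsFinLocFreeOfRank (m - rI) (cokernel f) ∧
      ParSh.gpDeg k X α (kernel f) (ParSh.gpInduced k X I (kernel.ι f) F₁) rK * (n : ℝ) =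
        ParSh.gpDeg k X α E F₁ n * (rK : ℝ) ∧
      ∃ (I' : X.Modules) (i' : I' ⟶ F), Mono i' ∧ FlatMod.IsFinLocFreeOfRank rI I' ∧
        ParSh.gpDeg k X α I' (ParSh.gpInduced k X I i' F₁') rI * (m : ℝ) =
          ParSh.gpDeg k X α F F₁' m * (rI : ℝ)) from
    ⟨fun h => (hmain h).1, fun h => (hmain h).2.1, fun h => (hmain h).2.2⟩
  intro hrI
  have hEc := Groth.Agent.Lib.T2H6.RankAdd.isCoh_of_isFinLocFreeOfRank E n hE
  haveI := finite_fibD k I E hEc
  set D := ClSub.quotMod I with hDdef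
  set i := kernel.ι f with hi
  set p := Abelian.factorThruImage f with hp
  set j := Abelian.image.ι f with hj
  have hpj : p ≫ j = f := Abelian.image.fac f
  -- the induced and coinduced structures
  set GK := ParSh.gpInduced k X I i F₁ with hGK
  set GI : Submodule k (ParSh.fibD X I (Abelian.image f)) := F₁.map (ParSh.fibDMap k X I p) with hGI
  -- exactness of H⁰(- ⊗ D) on 0 → K → E → Im → 0
  obtain ⟨hinj, hex⟩ := exact_H0 k hdim D (isCoh_quotMod I) (isTors_quotMod I hD)
    (kerImSC f) (kerImSC_shortExact f) rK n rI hK hE hI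
  change Function.Injective (Canon.HHlin k ((tr D).map i) 0) at hinj
  change LinearMap.ker (Canon.HHlin k ((tr D).map p) 0) =
    LinearMap.range (Canon.HHlin k ((tr D).map i) 0) at hex
  rw [← fibDMap_eq] at hinj
  rw [← fibDMap_eq, ← fibDMap_eq] at hex
  have hdim1 : Module.finrank k F₁ = Module.finrank k GK + Module.finrank k GI :=
    finrank_eq_comap_add_map (ParSh.fibDMap k X I i) (ParSh.fibDMap k X I p) hinj hex F₁
  -- additivity of the parabolic degree
  have hadd : ParSh.gpDeg k X α E F₁ n =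
      ParSh.gpDeg k X α (kernel f) GK rK + ParSh.gpDeg k X α (Abelian.image f) GI rI := by
    unfold ParSh.gpDeg ParSh.gpWt
    rw [hdegKI, hdim1]
    push_cast
    ring
  -- semistability of `E` applied to the kernel
  have hKss : ParSh.gpDeg k X α (kernel f) GK rK * (n : ℝ) ≤ ParSh.gpDeg k X α E F₁ n * (rK : ℝ) := by
    rcases Nat.eq_zero_or_pos rK with h0 | hpos
    · subst h0
      have hz : IsZero (kernel f) := Groth.Agent.Lib.T2H6.CurveVB.isZero_of_rank_zero _ hK
      rw [gpDeg_of_isZero k I α _ hz]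
      simp
    · exact hEss (kernel f) rK i inferInstance hpos hK
  -- saturation of the image
  obtain ⟨I', i', s, hi'mono, hsi', -, hI', hQ', -, -⟩ :=
    Groth.Agent.Lib.T2H6.CurveSatur.exists_saturation k hdim hreg j rI m hI hF
  haveI := hi'mono
  haveI : Mono s := mono_of_mono_fac hsi'
  set GI' := ParSh.gpInduced k X I i' F₁' with hGI'
  have hsGP : ParSh.IsGPHom k X I GI GI' s := by
    rintro x ⟨y, ⟨z, hz, rfl⟩, rfl⟩
    change ParSh.fibDMap k X I i' (ParSh.fibDMap k X I s (ParSh.fibDMap k X I p z)) ∈ F₁'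
    have e : f = p ≫ (s ≫ i') := by rw [hsi', hpj]
    have h : ParSh.fibDMap k X I i' (ParSh.fibDMap k X I s (ParSh.fibDMap k X I p z)) =
        ParSh.fibDMap k X I f z := by
      have h' := congrArg (fun g : E ⟶ F => ParSh.fibDMap k X I g z) e
      simp only [fibDMap_comp] at h'
      exact h'.symm
    rw [h]
    exact hf ⟨z, hz, rfl⟩
  obtain ⟨hle, hiff⟩ := gpDeg_le_and_eq_iff k hdim I hD α hα0 hα1 rI hI hI' GI GI' s hsGP
  have hFI' : ParSh.gpDeg k X α I' GI' rI * (m : ℝ) ≤ ParSh.gpDeg k X α F F₁' m * (rI : ℝ) :=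
    hFss I' rI i' hi'mono hrI hI'
  -- arithmetic
  set PE := ParSh.gpDeg k X α E F₁ n with hPE
  set PF := ParSh.gpDeg k X α F F₁' m with hPF
  set PK := ParSh.gpDeg k X α (kernel f) GK rK with hPK
  set PI := ParSh.gpDeg k X α (Abelian.image f) GI rI with hPI
  set PI' := ParSh.gpDeg k X α I' GI' rI with hPI'
  have hnR : (n : ℝ) = rK + rI := by exact_mod_cast hnKI
  have hn0 : (0 : ℝ) < n := by exact_mod_cast hn
  have hm0 : (0 : ℝ) < m := by exact_mod_cast hm
  have hPEn : PE * (n : ℝ) = PE * rK + PE * rI := by rw [hnR]; ring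
  have h1 : PE * (rI : ℝ) ≤ PI * (n : ℝ) := by
    have : PK = PE - PI := by linarith
    rw [this, sub_mul] at hKss
    linarith
  have h2 : PI' * (n : ℝ) ≤ PE * (rI : ℝ) := by
    have h3 : PI' * (m : ℝ) * n ≤ PF * (rI : ℝ) * n := mul_le_mul_of_nonneg_right hFI' hn0.le
    have h4 : PF * (rI : ℝ) * n = PE * (rI : ℝ) * m := by
      rw [mul_right_comm, ← hμ]; ring
    rw [h4] at h3
    have h5 : PI' * (n : ℝ) * m ≤ PE * (rI : ℝ) * m := by linarith
    exact le_of_mul_le_mul_right h5 hm0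
  have h3 : PI' ≤ PI := le_of_mul_le_mul_right (h2.trans h1) hn0
  have heq : PI = PI' := le_antisymm hle h3
  haveI hsiso : IsIso s := (hiff.1 heq).1
  refine ⟨?_, ?_, I', i', hi'mono, hI', ?_⟩
  · -- cokernel f ≅ cokernel j ≅ cokernel i'
    have e1 : cokernel f ≅ cokernel j := cokernelIsoOfEq hpj.symm ≪≫ cokernelEpiComp p j
    have e2 : cokernel j ≅ cokernel i' := cokernelIsoOfEq hsi'.symm ≪≫ cokernelEpiComp s i'
    exact Groth.Agent.Lib.Helper26.ModRank.isFinLocFreeOfRank_of_iso (e1 ≪≫ e2).symm hQ'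
  · -- equality for the kernel
    have h4 : PI * (n : ℝ) = PE * (rI : ℝ) := by
      rw [heq]
      exact le_antisymm h2 (by rw [← heq]; exact h1)
    have : PK = PE - PI := by linarith
    rw [this, sub_mul]
    linarith
  · -- equality for the saturated image
    have h4 : PI' * (n : ℝ) = PE * (rI : ℝ) :=
      le_antisymm h2 (by rw [← heq]; exact h1)
    have h5 : PI' * (m : ℝ) * n = PF * (rI : ℝ) * n := by
      have : PF * (rI : ℝ) * n = PE * (rI : ℝ) * m := by
        rw [mul_right_comm, ← hμ]; ring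
      rw [this, ← h4]; ring
    exact mul_right_cancel₀ hn0.ne' h5

/-- **Constant rank**: the cokernel of a parabolic map between semistable bundles of the same slope is
locally free. -/
theorem exists_cokernel_finLocFree (hdim : topologicalKrullDim X = 1)
    (hreg : ∀ x : X, IsRegularLocalRing (X.presheaf.stalk x))
    (I : X.IdealSheafData) (hD : FGA.IsEffCartier I) (α : ℝ) (hα0 : 0 ≤ α) (hα1 : α < 1)
    {E F : X.Modules} (n m : ℕ) (hn : 0 < n) (hm : 0 < m)
    (hE : FlatMod.IsFinLocFreeOfRank n E) (hF : FlatMod.IsFinLocFreeOfRank m F)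
    (F₁ : Submodule k (ParSh.fibD X I E)) (F₁' : Submodule k (ParSh.fibD X I F))
    (hEss : ParSh.IsGPSemistable k X I α F₁ n) (hFss : ParSh.IsGPSemistable k X I α F₁' m)
    (hμ : ParSh.gpDeg k X α E F₁ n * (m : ℝ) = ParSh.gpDeg k X α F F₁' m * (n : ℝ))
    (f : E ⟶ F) (hf : ParSh.IsGPHom k X I F₁ F₁' f) :
    ∃ r₀ : ℕ, FlatMod.IsFinLocFreeOfRank r₀ (cokernel f) := by
  obtain ⟨rK, rI, -, -, -, hI, hcok, -, -⟩ := gp_analysis k hdim hreg I hD α hα0 hα1 n m hn hm hE hF
    F₁ F₁' hEss hFss hμ f hf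
  rcases Nat.eq_zero_or_pos rI with h0 | hpos
  · subst h0
    have hz : IsZero (Abelian.image f) := Groth.Agent.Lib.T2H6.CurveVB.isZero_of_rank_zero _ hI
    have hf0 : f = 0 := by
      rw [← Abelian.image.fac f, hz.eq_of_tgt (Abelian.factorThruImage f) 0, zero_comp]
    refine ⟨m, Groth.Agent.Lib.Helper26.ModRank.isFinLocFreeOfRank_of_iso ?_ hF⟩
    exact (cokernelIsoOfEq hf0 ≪≫ cokernelZeroIsoTarget).symm
  · exact ⟨m - rI, hcok hpos⟩

/-- **Schur's lemma** for stable generalised parabolic bundles of the same slope. -/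
theorem eq_zero_or_isIso (hdim : topologicalKrullDim X = 1)
    (hreg : ∀ x : X, IsRegularLocalRing (X.presheaf.stalk x))
    (I : X.IdealSheafData) (hD : FGA.IsEffCartier I) (α : ℝ) (hα0 : 0 ≤ α) (hα1 : α < 1)
    {E F : X.Modules} (n m : ℕ) (hn : 0 < n) (hm : 0 < m)
    (hE : FlatMod.IsFinLocFreeOfRank n E) (hF : FlatMod.IsFinLocFreeOfRank m F)
    (F₁ : Submodule k (ParSh.fibD X I E)) (F₁' : Submodule k (ParSh.fibD X I F))
    (hEss : ParSh.IsGPSemistable k X I α F₁ n) (hEst : ParSh.IsGPStable k X I α F₁ n)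
    (hFss : ParSh.IsGPSemistable k X I α F₁' m) (hFst : ParSh.IsGPStable k X I α F₁' m)
    (hμ : ParSh.gpDeg k X α E F₁ n * (m : ℝ) = ParSh.gpDeg k X α F F₁' m * (n : ℝ))
    (f : E ⟶ F) (hf : ParSh.IsGPHom k X I F₁ F₁' f) :
    f = 0 ∨ (IsIso f ∧ (0 < α → Submodule.map (ParSh.fibDMap k X I f) F₁ = F₁')) := by
  obtain ⟨rK, rI, hnKI, hIm, hK, hI, -, hKeq, hIeq⟩ := gp_analysis k hdim hreg I hD α hα0 hα1 n m hn
    hm hE hF F₁ F₁' hEss hFss hμ f hf
  rcases Nat.eq_zero_or_pos rI with h0 | hpos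
  · left
    subst h0
    have hz : IsZero (Abelian.image f) := Groth.Agent.Lib.T2H6.CurveVB.isZero_of_rank_zero _ hI
    rw [← Abelian.image.fac f, hz.eq_of_tgt (Abelian.factorThruImage f) 0, zero_comp]
  · right
    -- the kernel vanishes
    have hrK : rK = 0 := by
      by_contra hne
      have h1 := hEst (kernel f) rK (kernel.ι f) inferInstance (Nat.pos_of_ne_zero hne) (by omega) hK
      rw [hKeq hpos] at h1
      exact lt_irrefl _ h1
    subst hrK
    have hzK : IsZero (kernel f) := Groth.Agent.Lib.T2H6.CurveVB.isZero_of_rank_zero _ hK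
    haveI : Mono f := Preadditive.mono_of_isZero_kernel f hzK
    -- the image has full rank
    have hrI : rI = m := by
      by_contra hne
      obtain ⟨I', i', hi', hI', heq⟩ := hIeq hpos
      have h1 := hFst I' rI i' hi' hpos (by omega) hI'
      rw [heq] at h1
      exact lt_irrefl _ h1
    have hnm : n = m := by omega
    subst hnm
    have hn0 : (n : ℝ) ≠ 0 := by exact_mod_cast hn.ne'
    have hPeq : ParSh.gpDeg k X α E F₁ n = ParSh.gpDeg k X α F F₁' n := mul_right_cancel₀ hn0 hμ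
    exact (gpDeg_le_and_eq_iff k hdim I hD α hα0 hα1 n hE hF F₁ F₁' f hf).2.1 hPeq

end Groth.Agent.Lib.T2H6.ParShE
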