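import Mathlib
import Groth.Prelude.Def_KLin
import Groth.Agent.Lib.T2H6ParShE
import Groth.Agent.Lib.T2H6CurveSimple2
import Groth.Agent.Lib.T2H6HiggsCurve

/-!
# Generalised parabolic bundles: stable bundles are simple (helper6)

* `tr_map_smul`: `(c • 𝟙 E) ⊗ D = c • 𝟙 (E ⊗ D)` (the tensor functors are linear over global functions).
* `fibDMap_smul_id`: `F₀(c • 𝟙) = c • id`.
* `gp_simple`: parabolic endomorphisms of a stable generalised parabolic bundle over an algebraically closed field
  are scalars.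
-/

set_option autoImplicit false
universe u

open AlgebraicGeometry CategoryTheory Limits MonoidalCategory Opposite

namespace Groth.Agent.Lib.T2H6.ParShF

open Groth.Agent.Lib.T2H5.Twist Groth.Agent.Lib.T2H6.ParShA Groth.Agent.Lib.T2H6.ParShB
  Groth.Agent.Lib.T2H6.ParShC Groth.Agent.Lib.T2H6.ParShD Groth.Agent.Lib.T2H6.ParShE
  Groth.Agent.Lib.T2H6.HHLin

variable {X : Scheme.{u}}

/-- multiplication by a global function on a presheaf of modules. -/
noncomputable def smulP (P : X.PresheafOfModules) (r : Coh.Γtop X) : P ⟶ P :=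
  PresheafOfModules.homMk
    { app := fun U => AddCommGrpCat.ofHom (DistribSMul.toAddMonoidHom (P.obj U) (Coh.resTop X U r))
      naturality := by
        intro U V f
        ext m
        change Coh.resTop X V r • (P.map f).hom m =
          (P.map f).hom (@HSMul.hSMul (X.ringCatSheaf.obj.obj U) (P.obj U) (P.obj U) _
            (Coh.resTop X U r) m)
        rw [← Coh.resTop_comp U V f r]
        exact (P.map_smul f (Coh.resTop X U r) m).symm }
    (by
      intro U s m
      change Coh.resTop X U r • (s • m) = s • (Coh.resTop X U r • m)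
      rw [← mul_smul, ← mul_smul]
      congr 1
      exact @mul_comm Γ(X, Opposite.unop U) _ (Coh.resTop X U r) s)

theorem smulP_app (P : X.PresheafOfModules) (r : Coh.Γtop X)
    (U : (TopologicalSpace.Opens X)ᵒᵖ) (m : P.obj U) :
    (smulP P r).app U m =
      @HSMul.hSMul (X.ringCatSheaf.obj.obj U) (P.obj U) (P.obj U) _ (Coh.resTop X U r) m := rfl

theorem smulModΓ_val (M : X.Modules) (r : Coh.Γtop X) :
    (Formal.smulModΓ M r).val = smulP M.val r := rfl

theorem smulP_naturality {P Q : X.PresheafOfModules} (g : P ⟶ Q) (r : Coh.Γtop X) :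
    g ≫ smulP Q r = smulP P r ≫ g := by
  ext U m
  change (smulP Q r).app U (g.app U m) = g.app U ((smulP P r).app U m)
  rw [smulP_app, smulP_app]
  exact ((g.app U).hom.map_smul _ _).symm

/-- the sheafification adjunction for `O_X`-modules. -/
noncomputable abbrev sadj (X : Scheme.{u}) :=
  PresheafOfModules.sheafificationAdjunction.{u, u, u, u}
    (J := Opens.grothendieckTopology X) (𝟙 X.ringCatSheaf.obj)

theorem sheafify_map_smulP (P : X.PresheafOfModules) (r : Coh.Γtop X) :
    (CohB1.sheafifyMod X).map (smulP P r) = Formal.smulModΓ ((CohB1.sheafifyMod X).obj P) r := by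
  apply ((sadj X).homEquiv _ _).injective
  rw [Adjunction.homEquiv_unit, Adjunction.homEquiv_unit]
  have h1 := (sadj X).unit.naturality (smulP P r)
  have h2 := smulP_naturality ((sadj X).unit.app P) r
  exact h1.symm.trans h2.symm

theorem whiskerRight_smulP (P A : CohB1.PMod X) (r : Coh.Γtop X) :
    MonoidalCategoryStruct.whiskerRight (C := CohB1.PMod X)
      (smulP (show X.PresheafOfModules from P) r : P ⟶ P) A =
    (smulP (show X.PresheafOfModules from (P ⊗ A : CohB1.PMod X)) r :
      (P ⊗ A : CohB1.PMod X) ⟶ (P ⊗ A : CohB1.PMod X)) := by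
  apply PresheafOfModules.hom_ext
  intro U
  apply ModuleCat.MonoidalCategory.tensor_ext
  intro m a
  rfl

/-- **The tensor functor `- ⊗ D` commutes with multiplication by global functions.** -/
theorem tr_map_smulModΓ (D E : X.Modules) (r : Coh.Γtop X) :
    (tr D).map (Formal.smulModΓ E r) = Formal.smulModΓ ((tr D).obj E) r := by
  have h1 : (tr D).map (Formal.smulModΓ E r) = (CohB1.sheafifyMod X).map
      (MonoidalCategoryStruct.whiskerRight (C := CohB1.PMod X) (Formal.smulModΓ E r).val
        (CohB1.toPMod D)) := rfl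
  rw [h1]
  have h2 : MonoidalCategoryStruct.whiskerRight (C := CohB1.PMod X) (Formal.smulModΓ E r).val
        (CohB1.toPMod D) =
      (smulP (show X.PresheafOfModules from (CohB1.toPMod E ⊗ CohB1.toPMod D : CohB1.PMod X)) r :
        (CohB1.toPMod E ⊗ CohB1.toPMod D : CohB1.PMod X) ⟶ _) :=
    whiskerRight_smulP (CohB1.toPMod E) (CohB1.toPMod D) r
  rw [h2]
  exact sheafify_map_smulP _ r

variable (k : Type u) [Field k] [X.Over (Spec (CommRingCat.of k))]

theorem tr_map_smul (D E : X.Modules) (c : k) :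
    (tr D).map (c • 𝟙 E) = c • 𝟙 ((tr D).obj E) := by
  rw [KLin.smul_id, KLin.smul_id]
  exact tr_map_smulModΓ D E _

theorem HHlin_smul_id (M : X.Modules) (c : k) (i : ℕ) :
    Canon.HHlin k (c • 𝟙 M) i = c • LinearMap.id := by
  ext x
  rw [HHlin_apply', Groth.Agent.Lib.T2H6.CurveSimple2.toSheaf_map_smul_id k M c]
  rfl

theorem fibDMap_eq' (I : X.IdealSheafData) {E F : X.Modules} (f : E ⟶ F) :
    ParSh.fibDMap k X I f = Canon.HHlin k ((tr (ClSub.quotMod I)).map f) 0 := by
  unfold ParSh.fibDMap ParSh.resDMap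
  rw [tr_map_eq]
  rfl

theorem fibDMap_smul_id (I : X.IdealSheafData) (E : X.Modules) (c : k) :
    ParSh.fibDMap k X I (c • 𝟙 E) = c • LinearMap.id := by
  rw [fibDMap_eq', tr_map_smul]
  exact HHlin_smul_id k ((tr (ClSub.quotMod I)).obj E) c 0

theorem fibDMap_sub (I : X.IdealSheafData) {E F : X.Modules} (f g : E ⟶ F) :
    ParSh.fibDMap k X I (f - g) = ParSh.fibDMap k X I f - ParSh.fibDMap k X I g := by
  rw [fibDMap_eq', fibDMap_eq', fibDMap_eq', Functor.map_sub]
  exact HHlin_sub k _ _ 0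

theorem isGPHom_sub_smul (I : X.IdealSheafData) {E : X.Modules} (F₁ : Submodule k (ParSh.fibD X I E))
    (f : E ⟶ E) (hf : ParSh.IsGPHom k X I F₁ F₁ f) (c : k) :
    ParSh.IsGPHom k X I F₁ F₁ (f - c • 𝟙 E) := by
  rintro x ⟨y, hy, rfl⟩
  rw [fibDMap_sub, fibDMap_smul_id, LinearMap.sub_apply, LinearMap.smul_apply, LinearMap.id_apply]
  exact F₁.sub_mem (hf ⟨y, hy, rfl⟩) (F₁.smul_mem c hy)

open Groth.Agent.Lib.Helper4.NormDelta Groth.Agent.Lib.Helper23.StalkLin in
/-- If every nonzero endomorphism with property `P` of a bundle `E` of positive rank on a proper scheme over an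
algebraically closed field is an isomorphism, and `P` is stable under subtracting scalars, then every
endomorphism with `P` is a scalar. -/
theorem exists_smul_eq_of_endo' [IsAlgClosed k] [IsProper (X ↘ Spec (CommRingCat.of k))]
    [Nonempty X] (r : ℕ) (hr : 0 < r) (E : X.Modules) (hE : FlatMod.IsFinLocFreeOfRank r E)
    (P : (E ⟶ E) → Prop) (hendo : ∀ p : E ⟶ E, P p → p ≠ 0 → IsIso p) (φ : E ⟶ E)
    (hφ : ∀ c : k, P (φ - c • 𝟙 E)) : ∃ c : k, φ = c • 𝟙 E := by
  haveI : CompactSpace X :=
    QuasiCompact.compactSpace_of_compactSpace (X ↘ Spec (CommRingCat.of k))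
  obtain ⟨x, -, hx⟩ := IsClosed.exists_closed_singleton (X := X) isClosed_univ Set.univ_nonempty
  obtain ⟨hfree, hfinite, hrk⟩ := Groth.Agent.Lib.T2H6.RankAdd.free_finite_stalk E r hE x
  haveI := hfree
  haveI := hfinite
  have hfin : ((IsLocalRing.residue (X.presheaf.stalk x)).comp (Curv2.stalkMap k X x)).Finite :=
    Groth.Agent.Lib.T2H6.ResFinite.finite_resMap k X x hx
  obtain ⟨c, hc⟩ := Groth.Agent.Lib.T2H6.CurveSimple.exists_not_bijective_sub_smul (k := k)
    (R := X.presheaf.stalk x)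
    (M := E.presheaf.stalk x) (by rw [hrk]; exact hr) (Curv2.stalkMap k X x) hfin (stalkLin φ x)
  refine ⟨c, ?_⟩
  by_contra hne
  have hψ : φ - c • 𝟙 E ≠ 0 := sub_ne_zero.mpr hne
  haveI := hendo _ (hφ c) hψ
  apply hc
  rw [← Groth.Agent.Lib.T2H6.CurveSimple.stalkLin_sub_smul]
  exact ⟨stalkLin_injective _ x, stalkLin_surjective _ x⟩

/-- **Stable generalised parabolic bundles are simple.** -/
theorem gp_simple [IsAlgClosed k] [IsIntegral X] [IsProper (X ↘ Spec (CommRingCat.of k))]
    (hdim : topologicalKrullDim X = 1)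
    (hreg : ∀ x : X, IsRegularLocalRing (X.presheaf.stalk x))
    (I : X.IdealSheafData) (hD : FGA.IsEffCartier I) (α : ℝ) (hα0 : 0 ≤ α) (hα1 : α < 1)
    {E : X.Modules} (n : ℕ) (hn : 0 < n) (hE : FlatMod.IsFinLocFreeOfRank n E)
    (F₁ : Submodule k (ParSh.fibD X I E))
    (hEss : ParSh.IsGPSemistable k X I α F₁ n) (hEst : ParSh.IsGPStable k X I α F₁ n)
    (f : E ⟶ E) (hf : ParSh.IsGPHom k X I F₁ F₁ f) : ∃ c : k, f = c • 𝟙 E := by
  haveI : Nonempty X := inferInstance
  refine exists_smul_eq_of_endo' k n hn E hE (fun p => ParSh.IsGPHom k X I F₁ F₁ p) ?_ f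
    (fun c => isGPHom_sub_smul k I F₁ f hf c)
  intro p hp hp0
  rcases eq_zero_or_isIso k hdim hreg I hD α hα0 hα1 n n hn hn hE hE F₁ F₁ hEss hEst hEss hEst rfl
    p hp with h | h
  · exact absurd h hp0
  · exact h.1

end Groth.Agent.Lib.T2H6.ParShF
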