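import Groth.Agent.Lib.T2H9FlatFib1
import Groth.Agent.Lib.T2H5IdealMul
import Groth.Agent.Lib.Helper2PullbackSec
import Groth.Agent.S0012

/-!
# T2H9FlatFib2 (helper9): `F/𝔞F ≅ i_* i^* F` for the base change of a closed subscheme of the base

For `X` over `Spec A`, a closed immersion `f : T → Spec A` with `ker (A → Γ(T, ⊤)) = 𝔞` and a
pullback square `Z = X ×_{Spec A} T` with `i : Z → X`: for quasi-coherent `F` the unit
`F → i_* i^* F` is an epimorphism with kernel `𝔞F` (`nonempty_iso_pushPull`), hence vanishing of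
`H^p(Z, i^*F)` gives vanishing of `H^p(X, F/𝔞F)` (`subsingleton_HH_cokernel`).  Also:
the kernel of `A → Γ(Spec κ(x), ⊤)` is the prime `x` (`ker_φT_fromSpecResidueField`), and
surjectivity/kernel of a pushout of a surjective ring map (`surjective_and_ker_of_isPushout`).
-/

set_option autoImplicit false
set_option linter.style.haveILetI false
set_option linter.unusedSectionVars false
set_option linter.unusedVariables false
universe u
open CategoryTheory AlgebraicGeometry Limits TopologicalSpace Opposite TensorProduct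

namespace Groth.Agent.Lib.T2H9.FibQuot

open Groth.Agent.Helper13PullbackUnit Groth.Agent.Lib.T2H5.IdealMul

section alg

theorem surjective_and_ker_of_isPushout {R S R' S' : CommRingCat.{u}} {f : R ⟶ S} {g : R ⟶ R'}
    {f' : S ⟶ S'} {g' : R' ⟶ S'} (h : IsPushout f g f' g') (hg : Function.Surjective g.hom) :
    Function.Surjective f'.hom ∧ RingHom.ker f'.hom = (RingHom.ker g.hom).map f.hom := by
  set K : Ideal S := (RingHom.ker g.hom).map f.hom with hK
  have hKle : K ≤ RingHom.ker f'.hom := by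
    rw [hK, Ideal.map_le_iff_le_comap]
    intro r hr
    rw [Ideal.mem_comap, RingHom.mem_ker]
    have : f'.hom (f.hom r) = g'.hom (g.hom r) := by
      have := congrArg (fun t => t.hom r) h.w
      exact this
    rw [this, (RingHom.mem_ker).1 hr, map_zero]
  let q : S →+* S ⧸ K := Ideal.Quotient.mk K
  have hker : RingHom.ker g.hom ≤ RingHom.ker (q.comp f.hom) := by
    intro r hr
    rw [RingHom.mem_ker, RingHom.comp_apply, Ideal.Quotient.eq_zero_iff_mem]
    exact Ideal.mem_map_of_mem _ hr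
  let hh : R' →+* S ⧸ K := RingHom.liftOfSurjective g.hom hg ⟨q.comp f.hom, hker⟩
  have hhg : hh.comp g.hom = q.comp f.hom := RingHom.liftOfRightInverse_comp _ _ _ _
  have w : f ≫ CommRingCat.ofHom q = g ≫ CommRingCat.ofHom hh := by
    ext r
    exact (congrArg (fun t => t r) hhg).symm
  let d : S' ⟶ CommRingCat.of (S ⧸ K) := h.desc (CommRingCat.ofHom q) (CommRingCat.ofHom hh) w
  have hd : f' ≫ d = CommRingCat.ofHom q := h.inl_desc _ _ _
  have hker' : RingHom.ker f'.hom ≤ K := by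
    intro s hs
    have : q s = 0 := by
      have h1 := congrArg (fun t => t.hom s) hd
      simp only [CommRingCat.hom_comp, RingHom.coe_comp, Function.comp_apply,
        CommRingCat.hom_ofHom] at h1
      rw [← h1, (RingHom.mem_ker).1 hs, map_zero]
    exact Ideal.Quotient.eq_zero_iff_mem.1 this
  refine ⟨?_, le_antisymm hker' hKle⟩
  let e : CommRingCat.of (S ⧸ K) ⟶ S' := CommRingCat.ofHom (Ideal.Quotient.lift K f'.hom hKle)
  have he : CommRingCat.ofHom q ≫ e = f' := by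
    ext s
    rfl
  have hge : CommRingCat.ofHom hh ≫ e = g' := by
    haveI : Epi g := ConcreteCategory.epi_of_surjective g hg
    rw [← cancel_epi g, ← Category.assoc, ← w, Category.assoc, he, h.w]
  have hde : d ≫ e = 𝟙 S' := by
    apply h.hom_ext
    · rw [← Category.assoc, hd, he, Category.comp_id]
    · rw [← Category.assoc, h.inr_desc, hge, Category.comp_id]
  intro y
  have h1 : e.hom (d.hom y) = y := congrArg (fun t => t.hom y) hde
  obtain ⟨s, hs⟩ := Ideal.Quotient.mk_surjective (d.hom y)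
  refine ⟨s, ?_⟩
  rw [← h1, ← hs]
  rfl

end alg

section closed

variable {X Z : Scheme.{u}} (i : Z ⟶ X) [IsClosedImmersion i]

/-- the unit `F ⟶ i_* i^* F` -/
noncomputable abbrev η (F : X.Modules) :
    F ⟶ (Scheme.Modules.pushforward i).obj ((Scheme.Modules.pullback i).obj F) :=
  (Scheme.Modules.pullbackPushforwardAdjunction i).unit.app F

theorem η_app_smul_eq_zero (F : X.Modules) (U : X.Opens) (a : Γ(X, U))
    (ha : a ∈ RingHom.ker (i.app U).hom) (m : Γ(F, U)) : (η i F).app U (a • m) = 0 := by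
  rw [Scheme.Modules.Hom.app_smul, pushforward_smul]
  have h0 : i.app U a = 0 := ha
  rw [h0]
  exact zero_smul Γ(Z, i ⁻¹ᵁ U)
    (show Γ((Scheme.Modules.pullback i).obj F, i ⁻¹ᵁ U) from (η i F).app U m)

theorem mem_of_η_app_eq_zero (F : X.Modules) [F.IsQuasicoherent] (U : X.affineOpens)
    (s : Γ(F, U.1)) (hs : (η i F).app U.1 s = 0) :
    s ∈ (RingHom.ker (i.app U.1).hom • ⊤ : Submodule Γ(X, U.1) Γ(F, U.1)) := by
  have hU₀ : IsAffineOpen (i ⁻¹ᵁ U.1) := U.2.preimage i
  have hle : i ⁻¹ᵁ U.1 ≤ i ⁻¹ᵁ U.1 := le_rfl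
  letI : Algebra Γ(X, U.1) Γ(Z, i ⁻¹ᵁ U.1) := (i.appLE U.1 (i ⁻¹ᵁ U.1) hle).hom.toAlgebra
  let l : Γ(F, U.1) →+ (Γ(Z, i ⁻¹ᵁ U.1) ⊗[Γ(X, U.1)] Γ(F, U.1)) :=
    (TensorProduct.mk Γ(X, U.1) Γ(Z, i ⁻¹ᵁ U.1) Γ(F, U.1) 1).toAddMonoidHom
  have hl : ∀ (r : Γ(X, U.1)) (x : Γ(F, U.1)),
      l (r • x) = (i.appLE U.1 (i ⁻¹ᵁ U.1) hle r : Γ(Z, i ⁻¹ᵁ U.1)) • l x := by
    intro r x
    change (1 : Γ(Z, i ⁻¹ᵁ U.1)) ⊗ₜ[Γ(X, U.1)] (r • x) =
      (algebraMap Γ(X, U.1) Γ(Z, i ⁻¹ᵁ U.1) r) • ((1 : Γ(Z, i ⁻¹ᵁ U.1)) ⊗ₜ[Γ(X, U.1)] x)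
    rw [TensorProduct.tmul_smul, TensorProduct.smul_tmul', TensorProduct.smul_tmul',
      Algebra.smul_def, smul_eq_mul]
  obtain ⟨l', hl', -⟩ := existsUnique_lift i F U.2 hU₀ hle _ l hl
  have h1 : unitSec i F hle s = 0 := by
    rw [unitSec_apply]
    have : (homOfLE hle).op = 𝟙 (op (i ⁻¹ᵁ U.1)) := rfl
    rw [this, CategoryTheory.Functor.map_id]
    exact hs
  have h2 : (1 : Γ(Z, i ⁻¹ᵁ U.1)) ⊗ₜ[Γ(X, U.1)] s = 0 := by
    have := hl' s
    rw [h1, map_zero] at this
    exact this.symm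
  have hsurj : Function.Surjective (algebraMap Γ(X, U.1) Γ(Z, i ⁻¹ᵁ U.1)) := by
    have := i.app_surjective U.1 U.2
    rw [Scheme.Hom.app_eq_appLE] at this
    exact this
  have h3 := Groth.Agent.Lib.Helper7.ConormalP.mem_smul_top_of_one_tmul_eq_zero hsurj s h2
  have hker : RingHom.ker (algebraMap Γ(X, U.1) Γ(Z, i ⁻¹ᵁ U.1)) =
      RingHom.ker (i.app U.1).hom := by
    congr 1
    rw [Scheme.Hom.app_eq_appLE]
    rfl
  rw [hker] at h3
  exact h3

theorem η_app_surjective (F : X.Modules) [F.IsQuasicoherent] (U : X.affineOpens) :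
    Function.Surjective ((η i F).app U.1) := by
  have hU₀ : IsAffineOpen (i ⁻¹ᵁ U.1) := U.2.preimage i
  have hle : i ⁻¹ᵁ U.1 ≤ i ⁻¹ᵁ U.1 := le_rfl
  set P := (Scheme.Modules.pullback i).obj F with hP
  have hus : ∀ s : Γ(F, U.1), unitSec i F hle s = (η i F).app U.1 s := by
    intro s
    rw [unitSec_apply]
    have : (homOfLE hle).op = 𝟙 (op (i ⁻¹ᵁ U.1)) := rfl
    rw [this, CategoryTheory.Functor.map_id]
    rfl
  let N' : Submodule Γ(Z, i ⁻¹ᵁ U.1) Γ(P, i ⁻¹ᵁ U.1) :=
    { carrier := Set.range (unitSec i F hle)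
      add_mem' := by
        rintro _ _ ⟨a, rfl⟩ ⟨b, rfl⟩
        exact ⟨a + b, map_add _ a b⟩
      zero_mem' := ⟨0, map_zero _⟩
      smul_mem' := by
        rintro c _ ⟨a, rfl⟩
        obtain ⟨r, rfl⟩ := i.app_surjective U.1 U.2 c
        refine ⟨r • a, ?_⟩
        rw [unitSec_smul, Scheme.Hom.app_eq_appLE] }
  let l : Γ(F, U.1) →+ (Γ(P, i ⁻¹ᵁ U.1) ⧸ N') := 0
  have hl : ∀ (r : Γ(X, U.1)) (x : Γ(F, U.1)),
      l (r • x) = (i.appLE U.1 (i ⁻¹ᵁ U.1) hle r : Γ(Z, i ⁻¹ᵁ U.1)) • l x := by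
    intro r x
    change (0 : Γ(P, i ⁻¹ᵁ U.1) ⧸ N') = _ • (0 : Γ(P, i ⁻¹ᵁ U.1) ⧸ N')
    rw [smul_zero]
  obtain ⟨l', -, huniq⟩ := existsUnique_lift i F U.2 hU₀ hle _ l hl
  have e1 : N'.mkQ = l' := huniq N'.mkQ (fun x => by
    change N'.mkQ (unitSec i F hle x) = 0
    rw [Submodule.mkQ_apply, Submodule.Quotient.mk_eq_zero]
    exact ⟨x, rfl⟩)
  have e2 : (0 : Γ(P, i ⁻¹ᵁ U.1) →ₗ[Γ(Z, i ⁻¹ᵁ U.1)] _) = l' :=
    huniq 0 (fun x => rfl)
  intro y
  have hy : N'.mkQ y = 0 := by rw [e1, ← e2]; rfl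
  rw [Submodule.mkQ_apply, Submodule.Quotient.mk_eq_zero] at hy
  obtain ⟨s, hs⟩ := hy
  exact ⟨s, (hus s).symm.trans hs⟩

instance isQuasicoherent_pushPull (F : X.Modules) [F.IsQuasicoherent] :
    ((Scheme.Modules.pushforward i).obj ((Scheme.Modules.pullback i).obj F)).IsQuasicoherent := by
  haveI := Groth.Agent.Lib.Helper2.PullbackSec.isQuasicoherent_pullback i F
  exact Groth.Agent.Lib.Helper23.QCohLocal.isQuasicoherent_pushforward i _

instance epi_η (F : X.Modules) [F.IsQuasicoherent] : Epi (η i F) :=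
  epi_of_surjective_app (η i F) (η_app_surjective i F)

end closed

section square

open Groth.Agent.Lib.T2H9.FFGeom Groth.Agent.Lib.T2H9.FlatFib

variable {A : Type u} [CommRing A]
variable (X : Scheme.{u}) [X.Over (Spec (CommRingCat.of A))] (F : X.Modules)
variable {Z T : Scheme.{u}} (i : Z ⟶ X) (q : Z ⟶ T) (f : T ⟶ Spec (CommRingCat.of A))
  (hpb : IsPullback i q (X ↘ Spec (CommRingCat.of A)) f)

/-- `A → Γ(T, ⊤)` -/
noncomputable def φT : A →+* Γ(T, ⊤) :=
  f.appTop.hom.comp (Scheme.ΓSpecIso (CommRingCat.of A)).inv.hom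

include hpb in
theorem isClosedImmersion_of_isPullback [IsClosedImmersion f] : IsClosedImmersion i :=
  MorphismProperty.of_isPullback hpb.flip inferInstance

include hpb in
theorem ker_app_eq [IsClosedImmersion f] {U : X.Opens} (hU : IsAffineOpen U) :
    RingHom.ker (i.app U).hom = (RingHom.ker (φT f)).map (ρU X U) := by
  have hUY : i ⁻¹ᵁ U = i ⁻¹ᵁ U ⊓ q ⁻¹ᵁ ⊤ := by simp
  haveI : IsAffine T := isAffine_of_isAffineHom f
  have h1 := (isIso_pushoutSection_iff hpb (US := ⊤) (UT := ⊤) (UX := U)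
    le_top le_top hUY).1
    (isIso_pushoutSection_of_isAffineOpen hpb le_top le_top hUY
      (isAffineOpen_top _) (isAffineOpen_top _) hU)
  have hsurj : Function.Surjective (f.appLE ⊤ ⊤ le_top).hom := by
    have e2 : Scheme.Hom.appLE f ⊤ ⊤ le_top = f.app ⊤ := by
      simp [Scheme.Hom.appLE]
    rw [e2]
    exact f.app_surjective ⊤ (isAffineOpen_top _)
  have h2 := (surjective_and_ker_of_isPushout h1 hsurj).2
  have e3 : i.appLE U (i ⁻¹ᵁ U) (by simp) = i.app U := (Scheme.Hom.app_eq_appLE ..).symm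
  rw [e3] at h2
  rw [h2]
  have e4 : RingHom.ker (φT f) =
      (RingHom.ker (f.appLE ⊤ ⊤ le_top).hom).comap
        (Scheme.ΓSpecIso (CommRingCat.of A)).inv.hom := by
    ext a
    rw [Ideal.mem_comap, RingHom.mem_ker, RingHom.mem_ker]
    have e2 : Scheme.Hom.appLE f ⊤ ⊤ le_top = f.appTop := by
      simp [Scheme.Hom.appLE, Scheme.Hom.appTop]
    rw [e2]
    rfl
  rw [e4]
  have e5 : ρU X U = ((X ↘ Spec (CommRingCat.of A)).appLE ⊤ U le_top).hom.comp
      (Scheme.ΓSpecIso (CommRingCat.of A)).inv.hom := rfl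
  rw [e5, ← Ideal.map_map]
  congr 1
  have hbij : Function.Surjective (Scheme.ΓSpecIso (CommRingCat.of A)).inv.hom :=
    ((ConcreteCategory.isIso_iff_bijective (Scheme.ΓSpecIso (CommRingCat.of A)).inv).1
      inferInstance).2
  exact (Ideal.map_comap_of_surjective _ hbij _).symm

end square

section iso

open Groth.Agent.Lib.T2H9.FFGeom Groth.Agent.Lib.T2H9.FlatFib

variable {A : Type u} [CommRing A]
variable (X : Scheme.{u}) [X.Over (Spec (CommRingCat.of A))] (F : X.Modules)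
variable {Z T : Scheme.{u}} (i : Z ⟶ X) (q : Z ⟶ T) (f : T ⟶ Spec (CommRingCat.of A))
  (hpb : IsPullback i q (X ↘ Spec (CommRingCat.of A)) f)

include hpb in
theorem app_ρU_eq_zero (U : X.Opens) (a : A) (ha : φT f a = 0) :
    (i.app U).hom (ρU X U a) = 0 := by
  have e2 : f.appTop = Scheme.Hom.appLE f ⊤ ⊤ le_top := by
    simp [Scheme.Hom.appLE, Scheme.Hom.appTop]
  have h1 : (X ↘ Spec (CommRingCat.of A)).appLE ⊤ U le_top ≫ i.app U =
      f.appTop ≫ q.appLE ⊤ (i ⁻¹ᵁ U) le_top := by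
    rw [e2, Scheme.Hom.app_eq_appLE, Scheme.Hom.appLE_comp_appLE, Scheme.Hom.appLE_comp_appLE]
    simp only [hpb.w]
  have h2 := congrArg (fun t => t.hom ((Scheme.ΓSpecIso (CommRingCat.of A)).inv.hom a)) h1
  simp only [CommRingCat.hom_comp, RingHom.coe_comp, Function.comp_apply] at h2
  have h3 : f.appTop.hom ((Scheme.ΓSpecIso (CommRingCat.of A)).inv.hom a) = 0 := ha
  rw [h3, map_zero] at h2
  exact h2

variable [IsClosedImmersion i]

include hpb in
theorem smulFamily_η (𝔞 : Ideal A) (h𝔞 : 𝔞 ≤ RingHom.ker (φT f)) :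
    Formal.smulFamily 𝔞 F ≫ η i F = 0 := by
  rw [Groth.Agent.S9530.smulFamily_comp_eq_zero_iff]
  intro a ha
  apply Scheme.Modules.hom_ext
  intro U
  ext m
  change (η i F).app U ((ρU X U a : Γ(X, U)) • m) = 0
  exact η_app_smul_eq_zero i F U _ (app_ρU_eq_zero X i q f hpb U a (h𝔞 ha)) m

theorem map_smul_top_le {R S M : Type*} [CommRing R] [CommRing S] [AddCommGroup M] [Module S M]
    (ρ : R →+* S) (I : Ideal R) (m : M) (hm : m ∈ (I.map ρ • ⊤ : Submodule S M)) :
    letI : Module R M := Module.compHom M ρ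
    m ∈ (I • ⊤ : Submodule R M) := by
  letI : Module R M := Module.compHom M ρ
  refine Submodule.smul_induction_on hm ?_ (fun x y hx hy => Submodule.add_mem _ hx hy)
  intro r hr n _
  suffices h : ∀ n : M, r • n ∈ (I • ⊤ : Submodule R M) from h n
  refine Submodule.span_induction (p := fun r _ => ∀ n : M, r • n ∈ (I • ⊤ : Submodule R M))
    ?_ ?_ ?_ ?_ hr
  · rintro _ ⟨a, ha, rfl⟩ n
    exact Submodule.smul_mem_smul ha (Submodule.mem_top : n ∈ (⊤ : Submodule R M))
  · intro n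
    rw [zero_smul]
    exact Submodule.zero_mem _
  · intro x y _ _ hx hy n
    rw [add_smul]
    exact Submodule.add_mem _ (hx n) (hy n)
  · intro c x _ hx n
    rw [smul_eq_mul, mul_smul]
    -- c • (x • n): `x • n ∈ I • ⊤`, and `I • ⊤` is stable under `S`
    have h1 := hx n
    have key : ∀ z : M, z ∈ (I • ⊤ : Submodule R M) → c • z ∈ (I • ⊤ : Submodule R M) := by
      intro z hz
      refine Submodule.smul_induction_on hz ?_ ?_
      · intro a ha w _
        have : c • (a • w) = a • (c • w) := by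
          change c • (ρ a • w) = ρ a • (c • w)
          rw [smul_smul, smul_smul, mul_comm]
        rw [this]
        exact Submodule.smul_mem_smul ha Submodule.mem_top
      · intro x y hx hy
        rw [smul_add]
        exact Submodule.add_mem _ hx hy
    exact key _ h1

include hpb in
theorem epi_lamG_η [F.IsQuasicoherent] [IsClosedImmersion f] (𝔞 : Ideal A)
    (h𝔞 : RingHom.ker (φT f) = 𝔞) :
    Epi (lamG X F 𝔞 (η i F) (smulFamily_η X F i q f hpb 𝔞 h𝔞.ge)) := by
  haveI := isQuasicoherent_pwJ X F 𝔞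
  haveI : (kernel (η i F)).IsQuasicoherent :=
    Groth.Agent.Lib.Helper23.QCohLocal.isQuasicoherent_kernel _
  apply epi_of_surjective_app
  intro U t
  let s : Γ(F, U.1) := (kernel.ι (η i F)).app U.1 t
  have h1 : (η i F).app U.1 s = 0 := by
    have h2 : (kernel.ι (η i F) ≫ η i F).app U.1 t = 0 := by
      rw [kernel.condition]; rfl
    exact h2
  have h3 := mem_of_η_app_eq_zero i F U s h1
  rw [ker_app_eq X i q f hpb U.2, h𝔞] at h3
  have h4 : (show MA X F U.1 from s) ∈ (𝔞 • ⊤ : Submodule A (MA X F U.1)) :=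
    map_smul_top_le (ρU X U.1) 𝔞 s h3
  obtain ⟨t', ht'⟩ := mem_range_pwJι_of_mem X F 𝔞 U.1 s h4
  refine ⟨t', ?_⟩
  apply Groth.Agent.Lib.Helper20.StalkExact.injective_app_of_mono (kernel.ι (η i F)) U.1
  have h8 : (lamG X F 𝔞 (η i F) (smulFamily_η X F i q f hpb 𝔞 h𝔞.ge) ≫ kernel.ι _).app U.1 t' = s := by
    rw [lamG_ι]; exact ht'
  exact h8

include hpb in
/-- `F/𝔞F ≅ i_* i^* F` for the base change `i : Z → X` of the closed subscheme `V(𝔞) ⊆ Spec A` -/
theorem nonempty_iso_pushPull [F.IsQuasicoherent] [IsClosedImmersion f] (𝔞 : Ideal A)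
    (h𝔞 : RingHom.ker (φT f) = 𝔞) :
    Nonempty (cokernel (Formal.smulFamily 𝔞 F) ≅
      (Scheme.Modules.pushforward i).obj ((Scheme.Modules.pullback i).obj F)) := by
  haveI := epi_lamG_η X F i q f hpb 𝔞 h𝔞
  exact ⟨cokIso X F 𝔞 (η i F) (smulFamily_η X F i q f hpb 𝔞 h𝔞.ge)⟩

include hpb in
/-- vanishing of the cohomology of the fibre gives vanishing of `H^p(X, F/𝔞F)` -/
theorem subsingleton_HH_cokernel [F.IsQuasicoherent] [IsClosedImmersion f] (𝔞 : Ideal A)
    (h𝔞 : RingHom.ker (φT f) = 𝔞) (G : Z.Modules) (e : G ≅ (Scheme.Modules.pullback i).obj F)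
    (p : ℕ) (h : Subsingleton (Coh.HH Z G p)) :
    Subsingleton (Coh.HH X (cokernel (Formal.smulFamily 𝔞 F)) p) := by
  obtain ⟨ε⟩ := nonempty_iso_pushPull X F i q f hpb 𝔞 h𝔞
  haveI : Coh.IsQCoh ((Scheme.Modules.pullback i).obj F) :=
    Groth.Agent.Lib.Helper2.PullbackSec.isQuasicoherent_pullback i F
  obtain ⟨θ⟩ := Groth.Agent.S0012.result i ((Scheme.Modules.pullback i).obj F) p
  have h1 : Subsingleton (Coh.HH Z ((Scheme.Modules.pullback i).obj F) p) :=
    Groth.Agent.Lib.T2H5.PnStruct.subsingleton_HH_of_iso e p h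
  haveI := h1
  have h2 : Subsingleton (Coh.HH X ((Coh.push i).obj ((Scheme.Modules.pullback i).obj F)) p) :=
    θ.symm.subsingleton
  exact Groth.Agent.Lib.T2H5.PnStruct.subsingleton_HH_of_iso ε.symm p h2

end iso

section resfield

variable {A : Type u} [CommRing A]

theorem ker_φT_fromSpecResidueField (x : Spec (CommRingCat.of A)) :
    RingHom.ker (φT ((Spec (CommRingCat.of A)).fromSpecResidueField x)) = x.asIdeal := by
  have h1 := Scheme.Spec.map_residueFieldIso_inv_eq_fromSpecResidueField (CommRingCat.of A) x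
  rw [← Spec.map_comp] at h1
  ext a
  rw [RingHom.mem_ker]
  unfold φT
  rw [← h1]
  have h2 := Scheme.ΓSpecIso_naturality
    (CommRingCat.ofHom (algebraMap (CommRingCat.of A) x.asIdeal.ResidueField) ≫
      (Scheme.Spec.residueFieldIso (CommRingCat.of A) x).inv)
  have h3 := congrArg (fun t => t.hom ((Scheme.ΓSpecIso (CommRingCat.of A)).inv.hom a)) h2
  simp only [CommRingCat.hom_comp, RingHom.coe_comp, Function.comp_apply] at h3
  have h4 : (Scheme.ΓSpecIso (CommRingCat.of A)).hom.hom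
      ((Scheme.ΓSpecIso (CommRingCat.of A)).inv.hom a) = a :=
    congrArg (fun t => t.hom a) (Scheme.ΓSpecIso (CommRingCat.of A)).inv_hom_id
  rw [h4] at h3
  have hinj1 : Function.Injective (Scheme.ΓSpecIso ((Spec (CommRingCat.of A)).residueField x)).hom.hom :=
    ((ConcreteCategory.isIso_iff_bijective (Scheme.ΓSpecIso _).hom).1 inferInstance).1
  have hinj2 : Function.Injective (Scheme.Spec.residueFieldIso (CommRingCat.of A) x).inv.hom :=
    ((ConcreteCategory.isIso_iff_bijective (Scheme.Spec.residueFieldIso (CommRingCat.of A) x).inv).1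
      inferInstance).1
  constructor
  · intro h
    change (Spec.map _).appTop.hom _ = 0 at h
    rw [h, map_zero] at h3
    have h5 := hinj2 (h3.symm.trans (map_zero _).symm)
    exact (Ideal.algebraMap_residueField_eq_zero (I := x.asIdeal)).1 h5
  · intro h
    have h5 : algebraMap A x.asIdeal.ResidueField a = 0 :=
      (Ideal.algebraMap_residueField_eq_zero (I := x.asIdeal)).2 h
    change (Spec.map _).appTop.hom _ = 0
    apply hinj1
    rw [map_zero]
    refine h3.trans ?_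
    change (Scheme.Spec.residueFieldIso (CommRingCat.of A) x).inv.hom (algebraMap A x.asIdeal.ResidueField a) = 0
    rw [h5, map_zero]

end resfield

end Groth.Agent.Lib.T2H9.FibQuot
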