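import Mathlib
import Groth.Agent.Lib.T2H6ParShF
import Groth.Agent.Lib.Helper20FormalPull
import Groth.Agent.Lib.T2H9FlatFib2

/-!
# T2H9FibLift1: colimit-preserving functors commuting with multiplication by `A` commute with `M ↦ M/JM` (helper9)

Namespace `Groth.Agent.Lib.T2H9.FibLift`.

* `smulFamily_map`, `exists_iso_cokernel_map`: `T(M/JM) ≅ T(M)/J T(M)` compatibly with the projections.
-/

set_option autoImplicit false
set_option linter.style.haveILetI false
set_option linter.unusedVariables false
universe u

namespace Groth.Agent.Lib.T2H9.FibLift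

open CategoryTheory MonoidalCategory Opposite Limits AlgebraicGeometry

section quot

variable {A : Type u} [CommRing A] {X : Scheme.{u}} [X.Over (Spec (CommRingCat.of A))]
  (T : X.Modules ⥤ X.Modules)
  (hT : ∀ (M : X.Modules) (a : A), T.map (Formal.smulMod A M a) = Formal.smulMod A (T.obj M) a)

include hT in
theorem smulFamily_map (J : Ideal A) (M : X.Modules) :
    Formal.smulFamily J (T.obj M) =
      sigmaComparison T (fun _ : J => M) ≫ T.map (Formal.smulFamily J M) := by
  apply Sigma.hom_ext
  intro a
  rw [ι_comp_sigmaComparison_assoc, ← Functor.map_comp]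
  simp only [Formal.smulFamily, colimit.ι_desc, Cofan.mk_ι_app]
  exact (hT M a).symm

include hT in
/-- a colimit-preserving functor commuting with multiplication by the elements of `A` commutes with `M ↦ M/JM` -/
theorem exists_iso_cokernel_map [PreservesColimits T] (J : Ideal A) (M : X.Modules) :
    ∃ e : T.obj (cokernel (Formal.smulFamily J M)) ≅ cokernel (Formal.smulFamily J (T.obj M)),
      T.map (cokernel.π (Formal.smulFamily J M)) ≫ e.hom = cokernel.π (Formal.smulFamily J (T.obj M)) := by
  let c := CokernelCofork.ofπ (cokernel.π (Formal.smulFamily J M)) (cokernel.condition _)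
  have hc : IsColimit c := cokernelIsCokernel _
  have hc' : IsColimit (c.map T) := CokernelCofork.mapIsColimit c hc T
  haveI : IsIso (sigmaComparison T (fun _ : J => M)) := inferInstance
  have hc'' := isCokernelEpiComp hc' (sigmaComparison T (fun _ : J => M)) (smulFamily_map T hT J M)
  refine ⟨IsColimit.coconePointUniqueUpToIso hc'' (colimit.isColimit _), ?_⟩
  exact IsColimit.comp_coconePointUniqueUpToIso_hom hc'' (colimit.isColimit _) WalkingParallelPair.one

end quot

end Groth.Agent.Lib.T2H9.FibLift
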