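import Mathlib
import Groth.Agent.Lib.Helper1PT4
import Groth.Agent.Lib.Helper21Dual12
import Groth.Agent.Lib.Helper21ModTensor7

/-!
# T2H9FibLift2: `i_* ℋom_Z(i^*F, N) ≅ ℋom_X(F, i_* N)` (helper9)

Namespace `Groth.Agent.Lib.T2H9.FibLift`.

* `pullTensorRightIso`: `i^*(T ⊗ F) ≅ i^*T ⊗ i^*F` naturally in `T` (from helper1's `pullTensorIso`).
* `pushSheafHomIso`: the conjugate isomorphism of right adjoints.
-/

set_option autoImplicit false
set_option linter.style.haveILetI false
set_option linter.unusedVariables false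
universe u

namespace Groth.Agent.Lib.T2H9.FibLift

open CategoryTheory MonoidalCategory Opposite Limits AlgebraicGeometry
open Groth.Agent.Lib.Helper21.ModTensor3 Groth.Agent.Lib.Helper21.Dual Groth.Agent.Lib.Helper1.PT

attribute [local instance] Groth.Agent.Lib.Helper21.ExtShDelta.hasSheafHom

section conj

variable {Z X : Scheme.{u}} (i : Z ⟶ X) (F : X.Modules)

/-- `i^*(T ⊗ F) ≅ i^*T ⊗ i^*F`, naturally in `T` -/
noncomputable def pullTensorRightIso :
    tR X.sheaf F ⋙ Scheme.Modules.pullback i ≅
      Scheme.Modules.pullback i ⋙ tR Z.sheaf ((Scheme.Modules.pullback i).obj F) :=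
  NatIso.ofComponents (fun T => ((pullTensorIso i).app T).app F) (by
    intro T T' g
    exact congrArg (fun τ => τ.app F) ((pullTensorIso i).hom.naturality g))

/-- `i_* ℋom_Z(i^*F, N) ≅ ℋom_X(F, i_* N)`, naturally in `N` -/
noncomputable def pushSheafHomIso :
    ModSite.sheafHom (O := Z.sheaf) ((Scheme.Modules.pullback i).obj F) ⋙ Scheme.Modules.pushforward i ≅
      Scheme.Modules.pushforward i ⋙ ModSite.sheafHom (O := X.sheaf) F :=
  conjugateIsoEquiv
    ((Scheme.Modules.pullbackPushforwardAdjunction i).comp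
      (ModSite.sheafHomAdj (O := Z.sheaf) ((Scheme.Modules.pullback i).obj F)))
    ((ModSite.sheafHomAdj (O := X.sheaf) F).comp (Scheme.Modules.pullbackPushforwardAdjunction i))
    (pullTensorRightIso i F)

end conj

end Groth.Agent.Lib.T2H9.FibLift
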