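import Mathlib
import Groth.Agent.Lib.T2H9FibLift1
import Groth.Agent.Lib.T2H9FibLift2
import Groth.Agent.Lib.T2H9LocFF
import Groth.Agent.Lib.T2H9DualHom
import Groth.Agent.Lib.Helper1Sky9
import Groth.Agent.S12483
import Groth.Agent.S0012
import Groth.Agent.Lib.T2H5ResPropAff
import Groth.Agent.Lib.Helper23TensorQCoh

/-!
# T2H9FibLift3: `(G ⊗ F^∨)/𝔞 ≅ i_* ℋom_Z(i^*F, i^*G)` and the vanishing of its cohomology (helper9)

Namespace `Groth.Agent.Lib.T2H9.FibLift`.  Setting: `i : Z → X` the base change of a closed subscheme `V(𝔞) ⊆ Spec A`.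

* `exists_iso_pushPull_compat`: `G/𝔞G ≅ i_* i^* G` compatibly with the unit of the adjunction.
* `nonempty_iso_push_sheafHom`: `(G ⊗ F^∨)/𝔞(G ⊗ F^∨) ≅ i_* ℋom_Z(i^*F, i^*G)` for `F` finite locally free.
* `subsingleton_HH_cokernel_tensor_dual`: `H^p(Z, ℋom(i^*F, i^*G)) = 0 ⟹ H^p(X, (G ⊗ F^∨)/𝔞) = 0`.
-/

set_option autoImplicit false
set_option linter.style.haveILetI false
set_option linter.unusedVariables false
universe u

namespace Groth.Agent.Lib.T2H9.FibLift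

open CategoryTheory MonoidalCategory Opposite Limits AlgebraicGeometry
open Groth.Agent.Lib.Helper21.ModTensor3 Groth.Agent.Lib.Helper21.Dual Groth.Agent.Lib.Helper1.PT
open Groth.Agent.Lib.T2H9.FibQuot Groth.Agent.Lib.T2H9.FlatFib Groth.Agent.Lib.T2H5.Twist

attribute [local instance] Groth.Agent.Lib.Helper21.ExtShDelta.hasSheafHom

section chain

variable {A : Type u} [CommRing A]
variable (X : Scheme.{u}) [X.Over (Spec (CommRingCat.of A))]
variable {Z T : Scheme.{u}} (i : Z ⟶ X) (q : Z ⟶ T) (f : T ⟶ Spec (CommRingCat.of A))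
  (hpb : IsPullback i q (X ↘ Spec (CommRingCat.of A)) f)
variable [IsClosedImmersion i] [IsClosedImmersion f] (𝔞 : Ideal A) (h𝔞 : RingHom.ker (φT f) = 𝔞)

include hpb h𝔞 in
/-- `G/𝔞G ≅ i_* i^* G` compatibly with the unit -/
theorem exists_iso_pushPull_compat (G : X.Modules) [G.IsQuasicoherent] :
    ∃ c : cokernel (Formal.smulFamily 𝔞 G) ≅
        (Scheme.Modules.pushforward i).obj ((Scheme.Modules.pullback i).obj G),
      cokernel.π (Formal.smulFamily 𝔞 G) ≫ c.hom = η i G := by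
  haveI := epi_lamG_η X G i q f hpb 𝔞 h𝔞
  exact ⟨cokIso X G 𝔞 (η i G) (smulFamily_η X G i q f hpb 𝔞 h𝔞.ge), π_cokIso_hom X G 𝔞 (η i G) _⟩

theorem tr_map_smulMod (D M : X.Modules) (a : A) :
    (tr D).map (Formal.smulMod A M a) = Formal.smulMod A ((tr D).obj M) a :=
  Groth.Agent.Lib.T2H6.ParShF.tr_map_smulModΓ D M _

include hpb h𝔞 in
/-- `(G ⊗ F^∨)/𝔞(G ⊗ F^∨) ≅ i_* ℋom_Z(i^*F, i^*G)` -/
theorem nonempty_iso_push_sheafHom (F G : X.Modules) (hF : FlatMod.IsFinLocFree F)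
    [G.IsQuasicoherent] :
    Nonempty (cokernel (Formal.smulFamily 𝔞 ((tr (dual (O := X.sheaf) F)).obj G)) ≅
      (Scheme.Modules.pushforward i).obj
        ((ModSite.sheafHom (O := Z.sheaf) ((Scheme.Modules.pullback i).obj F)).obj
          ((Scheme.Modules.pullback i).obj G))) := by
  have hL : IsLocFF (O := X.sheaf) F := isLocFF_of_isFinLocFree F hF
  obtain ⟨c, -⟩ := exists_iso_pushPull_compat X i q f hpb 𝔞 h𝔞 G
  haveI : PreservesColimitsOfSize.{u, u} (tr (dual (O := X.sheaf) F)) :=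
    (⟨fun {K} _ => inferInstance⟩ : PreservesColimitsOfSize.{u, u} (tR X.sheaf (dual (O := X.sheaf) F)))
  obtain ⟨e1, -⟩ := exists_iso_cokernel_map (tr (dual (O := X.sheaf) F))
    (tr_map_smulMod X (dual (O := X.sheaf) F)) 𝔞 G
  exact ⟨e1.symm ≪≫ (tr (dual (O := X.sheaf) F)).mapIso c ≪≫ (cIso (O := X.sheaf) F hL).app _ ≪≫
    ((pushSheafHomIso i F).app ((Scheme.Modules.pullback i).obj G)).symm⟩

include hpb h𝔞 in
/-- vanishing of `H^p(Z, ℋom(i^*F, i^*G))` gives vanishing of `H^p(X, (G ⊗ F^∨)/𝔞(G ⊗ F^∨))` -/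
theorem subsingleton_HH_cokernel_tensor_dual (F G : X.Modules) (hF : FlatMod.IsFinLocFree F)
    [G.IsQuasicoherent] [DCoh.HasSheafHom ((Scheme.Modules.pullback i).obj F)] (p : ℕ)
    (h : Subsingleton (Coh.HH Z ((DCoh.sheafHom ((Scheme.Modules.pullback i).obj F)).obj
      ((Scheme.Modules.pullback i).obj G)) p)) :
    Subsingleton (Coh.HH X
      (cokernel (Formal.smulFamily 𝔞 ((tr (dual (O := X.sheaf) F)).obj G))) p) := by
  obtain ⟨ε⟩ := nonempty_iso_push_sheafHom X i q f hpb 𝔞 h𝔞 F G hF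
  set Fz := (Scheme.Modules.pullback i).obj F with hFz
  set Gz := (Scheme.Modules.pullback i).obj G with hGz
  have hFzf : FlatMod.IsFinLocFree Fz := Groth.Agent.Lib.Helper1.Sky.isFinLocFree_pullback i F hF
  have hLz : IsLocFF (O := Z.sheaf) Fz := isLocFF_of_isFinLocFree Fz hFzf
  let ℋ : Z.Modules := (ModSite.sheafHom (O := Z.sheaf) Fz).obj Gz
  have φ : (DCoh.sheafHom Fz).obj Gz ≅ ℋ := (Groth.Agent.S12483.sheafHomIso Fz).app Gz
  have h1 : Subsingleton (Coh.HH Z ℋ p) :=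
    Groth.Agent.Lib.T2H5.PnStruct.subsingleton_HH_of_iso φ p h
  haveI : Gz.IsQuasicoherent := Groth.Agent.Lib.Helper2.PullbackSec.isQuasicoherent_pullback i G
  haveI : (dual (O := Z.sheaf) Fz : Z.Modules).IsQuasicoherent :=
    Groth.Agent.Lib.T2H5.ResPropAff.isQuasicoherent_of_isFinLocFree _
      (Groth.Agent.Lib.T2H9.LocFF.isFinLocFree_dual Fz hFzf)
  haveI : (CohB1.tensorMod Gz (dual (O := Z.sheaf) Fz)).IsQuasicoherent :=
    Groth.Agent.Lib.Helper23.TensorQCoh.isQuasicoherent_tensorMod Gz (dual (O := Z.sheaf) Fz)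
  have e' : CohB1.tensorMod Gz (dual (O := Z.sheaf) Fz) ≅ ℋ := (cIso (O := Z.sheaf) Fz hLz).app Gz
  haveI : Coh.IsQCoh ℋ := Groth.Agent.Lib.Helper23.TensorQCoh.isQuasicoherent_of_iso e'
  obtain ⟨θ⟩ := Groth.Agent.S0012.result i ℋ p
  haveI := h1
  have h2 : Subsingleton (Coh.HH X ((Coh.push i).obj ℋ) p) := θ.symm.subsingleton
  exact Groth.Agent.Lib.T2H5.PnStruct.subsingleton_HH_of_iso ε.symm p h2

end chain

end Groth.Agent.Lib.T2H9.FibLift
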