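import Mathlib
import Groth.Agent.Lib.T2H9FibLift3

/-!
# T2H9FibLift4: lifting morphisms `F ⟶ G/𝔪G` to `F ⟶ G` (helper9)

Namespace `Groth.Agent.Lib.T2H9.FibLift`.

* `homH0Iso`: `Hom(F, -) ≅ H^0(X, - ⊗ F^∨)` for `F` finite locally free.
* `exists_lift_hom`: for `X` proper over Noetherian `A`, `𝔪` maximal, `F` finite locally free, `G` coherent flat over `A` with
  `H^1(X, (G ⊗ F^∨)/𝔪) = 0`: every `F ⟶ G/𝔪G` lifts to `F ⟶ G` (via the surjectivity of `H^0(H) → H^0(H/𝔪H)`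
  from `T2H9FlatFib1`).
-/

set_option autoImplicit false
set_option linter.style.haveILetI false
set_option linter.unusedVariables false
universe u

namespace Groth.Agent.Lib.T2H9.FibLift

open CategoryTheory MonoidalCategory Opposite Limits AlgebraicGeometry
open Groth.Agent.Lib.Helper21.ModTensor3 Groth.Agent.Lib.Helper21.Dual Groth.Agent.Lib.Helper1.PT
open Groth.Agent.Lib.T2H9.FibQuot Groth.Agent.Lib.T2H9.FlatFib Groth.Agent.Lib.T2H5.Twist
open Groth.Agent.Lib.T2H9.DualHom Groth.Agent.Lib.T2H9.BridgeH0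

attribute [local instance] Groth.Agent.Lib.Helper21.ExtShDelta.hasSheafHom

section surj

variable {A : Type u} [CommRing A] [IsNoetherianRing A]
variable (X : Scheme.{u}) [X.Over (Spec (CommRingCat.of A))] [IsProper (X ↘ Spec (CommRingCat.of A))]
variable (𝔪 : Ideal A) [h𝔪 : 𝔪.IsMaximal]

omit [IsNoetherianRing A] [IsProper (X ↘ Spec (CommRingCat.of A))] in
theorem isIso_tJ_of_eq (M : X.Modules) (J J' : Ideal A) (h : J = J') :
    IsIso (tJ X M J J' h.le) := by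
  subst h
  rw [tJ_self]
  infer_instance

/-- `Hom(F, -) ≅ H^0(X, - ⊗ F^∨)` for `F` finite locally free -/
noncomputable def homH0Iso (F : X.Modules) (hL : IsLocFF (O := X.sheaf) F) :
    preadditiveCoyoneda.obj (op F) ≅ tr (dual (O := X.sheaf) F) ⋙ CohIII.HAb X 0 :=
  homDualIso (O := X.sheaf) F hL ≪≫
    Functor.isoWhiskerLeft (tR X.sheaf (dual (O := X.sheaf) F)) (unitGammaIso A ≪≫ (H0Iso A).symm)

include h𝔪 in
/-- lifting morphisms `F ⟶ G/𝔪G` to `F ⟶ G` when `H^1(X, (G ⊗ F^∨)/𝔪) = 0` -/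
theorem exists_lift_hom (F G : X.Modules) (hF : FlatMod.IsFinLocFree F) (hG : Coh.IsCoh G)
    (hfl : FlatMod.IsFlatOver (X ↘ Spec (CommRingCat.of A)) G)
    (hvan : Subsingleton (Coh.HH X
      (cokernel (Formal.smulFamily 𝔪 ((tr (dual (O := X.sheaf) F)).obj G))) 1))
    (w : F ⟶ cokernel (Formal.smulFamily 𝔪 G)) :
    ∃ u : F ⟶ G, u ≫ cokernel.π (Formal.smulFamily 𝔪 G) = w := by
  have hL : IsLocFF (O := X.sheaf) F := isLocFF_of_isFinLocFree F hF
  set D : X.Modules := dual (O := X.sheaf) F with hDdef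
  have hD : FlatMod.IsFinLocFree D := Groth.Agent.Lib.T2H9.LocFF.isFinLocFree_dual F hF
  haveI := hG.1
  set H : X.Modules := (tr D).obj G with hHdef
  have hH : Coh.IsCoh H := Groth.Agent.Lib.T2H5.FibReg.isCoh_tensor hG
    (Groth.Agent.Lib.T2H5.RegPush.isCoh_of_isFinLocFree D hD)
  haveI := hH.1
  have hflH : FlatMod.IsFlatOver (X ↘ Spec (CommRingCat.of A)) H :=
    Groth.Agent.Lib.T2H9.FFFlat.isFlatOver_tensor_of_isFinLocFree _ G D hD hfl
  have hs : ∀ k, Function.Surjective (Groth.Agent.Lib.T2H9.FFMain.tL 𝔪 H 0 k) := fun k =>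
    surjective_tL X H hflH 𝔪 0 hvan k
  have hsurj : Function.Surjective (Formal.toHHmodPow 𝔪 H 0 0) :=
    surjective_toHHmodPow X H 𝔪 hH 0 hs 0
  -- the comparison isomorphisms
  haveI : PreservesColimitsOfSize.{u, u} (tr D) :=
    (⟨fun {K} _ => inferInstance⟩ : PreservesColimitsOfSize.{u, u} (tR X.sheaf D))
  obtain ⟨e1, he1⟩ := exists_iso_cokernel_map (tr D) (tr_map_smulMod X D) 𝔪 G
  let t := tJ X H (𝔪 ^ (0 + 1)) 𝔪 (le_of_eq (by rw [zero_add, pow_one]))
  haveI : IsIso t := isIso_tJ_of_eq X H _ _ (by rw [zero_add, pow_one])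
  have ht : Formal.modPowπ 𝔪 (0 + 1) H ≫ t = cokernel.π (Formal.smulFamily 𝔪 H) := π_tJ X H _ _ _
  let πG := cokernel.π (Formal.smulFamily 𝔪 G)
  -- `(tr D).map πG = modPowπ ≫ t ≫ e1.inv`
  have hfac : (tr D).map πG = Formal.modPowπ 𝔪 (0 + 1) H ≫ t ≫ e1.inv := by
    rw [← Category.assoc, ht, ← he1, Category.assoc, e1.hom_inv_id, Category.comp_id]
  let ψ := homH0Iso (A := A) X F hL
  -- surjectivity on `H^0`
  have hsurj2 : Function.Surjective ((CohIII.HAb X 0).map ((tr D).map πG)).hom := by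
    intro y
    have hiso : IsIso (t ≫ e1.inv) := inferInstance
    let y' := ((CohIII.HAb X 0).map (inv (t ≫ e1.inv))).hom y
    obtain ⟨x, hx⟩ := hsurj y'
    refine ⟨x, ?_⟩
    rw [hfac, CategoryTheory.Functor.map_comp]
    change ((CohIII.HAb X 0).map (t ≫ e1.inv)).hom (Formal.toHHmodPow 𝔪 H 0 0 x) = y
    rw [hx]
    change ((CohIII.HAb X 0).map (inv (t ≫ e1.inv)) ≫ (CohIII.HAb X 0).map (t ≫ e1.inv)).hom y = y
    rw [← CategoryTheory.Functor.map_comp, IsIso.inv_hom_id, CategoryTheory.Functor.map_id]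
    rfl
  obtain ⟨x, hx⟩ := hsurj2 ((ψ.hom.app _).hom w)
  refine ⟨(ψ.inv.app G).hom x, ?_⟩
  have hinj : Function.Injective (ψ.hom.app (cokernel (Formal.smulFamily 𝔪 G))).hom :=
    Function.LeftInverse.injective (g := (ψ.inv.app _).hom)
      (fun z => congrArg (fun φ => φ.hom z) (ψ.hom_inv_id_app _))
  apply hinj
  have hnat := congrArg (fun φ => φ.hom ((ψ.inv.app G).hom x)) (ψ.hom.naturality πG)
  simp only [AddCommGrpCat.hom_comp, AddMonoidHom.comp_apply] at hnat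
  have h2 : (ψ.hom.app G).hom ((ψ.inv.app G).hom x) = x :=
    congrArg (fun φ => φ.hom x) (ψ.inv_hom_id_app G)
  rw [h2] at hnat
  exact hnat.trans hx

end surj

end Groth.Agent.Lib.T2H9.FibLift
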