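import Mathlib
import Groth.Agent.Lib.T2H9FibLift4
import Groth.Agent.Lib.Helper1FLF1

/-!
# T2H9FormalFF: full faithfulness of the completion functor on finite locally free modules (helper9)

Namespace `Groth.Agent.Lib.T2H9.FormalFF`.

* `completion_map_succ`: the transition maps of `Formal.completion`.
* `existsUnique_hom_of_completion` (S0840): if `H^0(X, E) → lim_n H^0(X, E/I^{n+1}E)` is bijective for all finite locally free `E`,
  every morphism of inverse systems `(E/I^{n+1}E) → (E'/I^{n+1}E')` comes from a unique `E ⟶ E'`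
  (via `Hom(E, -) ≅ H^0(X, - ⊗ E^∨)`, `T2H9FibLift4.homH0Iso`).
-/

set_option autoImplicit false
set_option linter.style.haveILetI false
set_option linter.unusedVariables false
set_option linter.unusedSectionVars false
universe u

namespace Groth.Agent.Lib.T2H9.FormalFF

open CategoryTheory MonoidalCategory Opposite Limits AlgebraicGeometry
open Groth.Agent.Lib.Helper21.ModTensor3 Groth.Agent.Lib.Helper21.Dual Groth.Agent.Lib.Helper1.PT
open Groth.Agent.Lib.T2H5.Twist Groth.Agent.Lib.T2H9.DualHom Groth.Agent.Lib.T2H9.BridgeH0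
open Groth.Agent.Lib.T2H9.FibLift

attribute [local instance] Groth.Agent.Lib.Helper21.ExtShDelta.hasSheafHom

variable (A : Type u) [CommRing A] (I : Ideal A) (X : Scheme.{u}) [X.Over (Spec (CommRingCat.of A))]

theorem completion_map_succ (M : X.Modules) (n : ℕ) :
    (Formal.completion I M).map (homOfLE (Nat.le_succ n)).op = Formal.modPowTrans I (n + 1) M := by
  unfold Formal.completion
  exact Functor.ofOpSequence_map_homOfLE_succ _ n

/-- **S0840**: if `H^0(X, E) → lim H^0(X, E mod I^{n+1})` is bijective on finite locally free modules, then the completion functor is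
fully faithful on finite locally free modules. -/
theorem existsUnique_hom_of_completion
    (h : ∀ E : X.Modules, FlatMod.IsFinLocFree E → Function.Bijective (Formal.toHHlim I E 0))
    (E E' : X.Modules) (hE : FlatMod.IsFinLocFree E) (hE' : FlatMod.IsFinLocFree E')
    (ψ : Formal.completion I E ⟶ Formal.completion I E') :
    ∃! φ : E ⟶ E', ∀ n : ℕ, Formal.modPowπ I (n + 1) E ≫ ψ.app (op n) = φ ≫ Formal.modPowπ I (n + 1) E' := by
  have hL : IsLocFF (O := X.sheaf) E := isLocFF_of_isFinLocFree E hE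
  set D : X.Modules := dual (O := X.sheaf) E with hDdef
  have hD : FlatMod.IsFinLocFree D := Groth.Agent.Lib.T2H9.LocFF.isFinLocFree_dual E hE
  let T : X.Modules ⥤ X.Modules := tr D
  haveI : PreservesColimitsOfSize.{u, u} T :=
    (⟨fun {K} _ => inferInstance⟩ : PreservesColimitsOfSize.{u, u} (tR X.sheaf D))
  have hT : ∀ (M : X.Modules) (a : A), T.map (Formal.smulMod A M a) = Formal.smulMod A (T.obj M) a :=
    tr_map_smulMod X D
  let 𝓗 : X.Modules := T.obj E'
  have h𝓗 : FlatMod.IsFinLocFree 𝓗 := Groth.Agent.Lib.Helper1.FLF.isFinLocFree_tensor E' D hE' hD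
  have hbij := h 𝓗 h𝓗
  let Φ := homH0Iso (A := A) X E hL
  let HH0 := CohIII.HAb X 0
  -- properties of `Φ`
  have hΦnat : ∀ {M M' : X.Modules} (g : M ⟶ M') (w : E ⟶ M),
      (Φ.hom.app M').hom (w ≫ g) = (HH0.map (T.map g)).hom ((Φ.hom.app M).hom w) := by
    intro M M' g w
    have hnat := congrArg (fun φ => φ.hom w) (Φ.hom.naturality g)
    simp only [AddCommGrpCat.hom_comp, AddMonoidHom.comp_apply] at hnat
    exact hnat
  have hΦinj : ∀ M : X.Modules, Function.Injective (Φ.hom.app M).hom := fun M =>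
    Function.LeftInverse.injective (g := (Φ.inv.app M).hom)
      (fun z => congrArg (fun φ => φ.hom z) (Φ.hom_inv_id_app M))
  have hΦsurj : ∀ M : X.Modules, Function.Surjective (Φ.hom.app M).hom := fun M =>
    Function.RightInverse.surjective (g := (Φ.inv.app M).hom)
      (fun z => congrArg (fun φ => φ.hom z) (Φ.inv_hom_id_app M))
  have hHcomp : ∀ {M N P : X.Modules} (a : M ⟶ N) (b : N ⟶ P) (z : Coh.HH X M 0),
      (HH0.map b).hom ((HH0.map a).hom z) = (HH0.map (a ≫ b)).hom z := by
    intro M N P a b z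
    rw [CategoryTheory.Functor.map_comp]
    rfl
  -- comparison isomorphisms
  have hex : ∀ n : ℕ, ∃ e : T.obj (Formal.modPow I (n + 1) E') ≅ Formal.modPow I (n + 1) 𝓗,
      T.map (Formal.modPowπ I (n + 1) E') ≫ e.hom = Formal.modPowπ I (n + 1) 𝓗 := fun n =>
    exists_iso_cokernel_map T hT (I ^ (n + 1)) E'
  choose e he using hex
  haveI : T.PreservesEpimorphisms := inferInstance
  have hetr : ∀ n, T.map (Formal.modPowTrans I (n + 1) E') ≫ (e n).hom =
      (e (n + 1)).hom ≫ Formal.modPowTrans I (n + 1) 𝓗 := by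
    intro n
    haveI : Epi (Formal.modPowπ I (n + 1 + 1) E') := by
      unfold Formal.modPowπ; exact coequalizer.π_epi
    rw [← cancel_epi (T.map (Formal.modPowπ I (n + 1 + 1) E'))]
    rw [← Category.assoc, ← T.map_comp, Formal.modPowπ_trans, he, ← Category.assoc, he,
      Formal.modPowπ_trans]
  -- the compatible family of morphisms `E ⟶ E'/I^{n+1}E'`
  let ψn : ∀ n : ℕ, Formal.modPow I (n + 1) E ⟶ Formal.modPow I (n + 1) E' := fun n => ψ.app (op n)
  have hψn : ∀ n, Formal.modPowTrans I (n + 1) E ≫ ψn n =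
      ψn (n + 1) ≫ Formal.modPowTrans I (n + 1) E' := by
    intro n
    have hnat := ψ.naturality (homOfLE (Nat.le_succ n)).op
    rw [completion_map_succ, completion_map_succ] at hnat
    exact hnat
  let w : ∀ n : ℕ, E ⟶ Formal.modPow I (n + 1) E' := fun n => Formal.modPowπ I (n + 1) E ≫ ψn n
  have hw : ∀ n, w (n + 1) ≫ Formal.modPowTrans I (n + 1) E' = w n := by
    intro n
    change (Formal.modPowπ I (n + 1 + 1) E ≫ ψn (n + 1)) ≫ Formal.modPowTrans I (n + 1) E' =
      Formal.modPowπ I (n + 1) E ≫ ψn n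
    rw [Category.assoc, ← hψn, ← Category.assoc, Formal.modPowπ_trans]
  -- the corresponding element of the limit
  let x : ∀ n : ℕ, Formal.HHmodPow I 𝓗 0 n := fun n =>
    (HH0.map (e n).hom).hom ((Φ.hom.app _).hom (w n))
  have hx : ∀ n, Formal.HHmodPowTrans I 𝓗 0 n (x (n + 1)) = x n := by
    intro n
    change (HH0.map (Formal.modPowTrans I (n + 1) 𝓗)).hom
      ((HH0.map (e (n + 1)).hom).hom ((Φ.hom.app _).hom (w (n + 1)))) = _
    rw [hHcomp, ← hetr, ← hHcomp, ← hΦnat, hw]
  obtain ⟨x₀, hx₀⟩ := hbij.2 ⟨x, hx⟩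
  have hx₀n : ∀ n, (HH0.map (Formal.modPowπ I (n + 1) 𝓗)).hom x₀ = x n := fun n =>
    congrArg (fun z : Formal.HHlim I 𝓗 0 => z.1 n) hx₀
  obtain ⟨φ, hφ⟩ := hΦsurj E' x₀
  have key : ∀ (φ' : E ⟶ E') (n : ℕ),
      (HH0.map (e n).hom).hom ((Φ.hom.app _).hom (φ' ≫ Formal.modPowπ I (n + 1) E')) =
        (HH0.map (Formal.modPowπ I (n + 1) 𝓗)).hom ((Φ.hom.app E').hom φ') := by
    intro φ' n
    rw [hΦnat, hHcomp, he]
  have heinj : ∀ n, Function.Injective (HH0.map (e n).hom).hom := by
    intro n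
    refine Function.LeftInverse.injective (g := (HH0.map (e n).inv).hom) (fun z => ?_)
    rw [hHcomp, Iso.hom_inv_id, CategoryTheory.Functor.map_id]
    rfl
  refine ⟨φ, ?_, ?_⟩
  · intro n
    change w n = φ ≫ Formal.modPowπ I (n + 1) E'
    apply hΦinj
    apply heinj n
    rw [key, hφ, hx₀n]
  · intro φ' hφ'
    have hφ'' : ∀ n, w n = φ' ≫ Formal.modPowπ I (n + 1) E' := hφ'
    apply hΦinj E'
    rw [hφ]
    apply hbij.1
    rw [hx₀]
    apply Subtype.ext
    funext n
    change (HH0.map (Formal.modPowπ I (n + 1) 𝓗)).hom ((Φ.hom.app E').hom φ') = x n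
    rw [← key, ← hφ'' n]

end Groth.Agent.Lib.T2H9.FormalFF
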