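import Groth.Agent.Lib.T2H9FFGeom2
import Groth.Agent.Lib.T2H5IdealMul
import Groth.Agent.Lib.T2H5CohSigma
import Groth.Agent.Lib.Helper23FinTypeLocal
import Groth.Agent.S9530

set_option autoImplicit false
set_option linter.style.haveILetI false
set_option linter.unusedSectionVars false
set_option linter.unusedVariables false
universe u
open CategoryTheory AlgebraicGeometry Limits TopologicalSpace Opposite Polynomial

namespace Groth.Agent.Lib.T2H9.FFGeom

open Groth.Agent.Lib.T2H5.CohSigma

variable {A : Type u} [CommRing A]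
variable (X : Scheme.{u}) [X.Over (Spec (CommRingCat.of A))] (F : X.Modules)

/-- `J F`, the image of `∐_{a ∈ J} F → F` -/
noncomputable def pwJ (J : Ideal A) : X.Modules := kernel (cokernel.π (Formal.smulFamily J F))

noncomputable def pwJι (J : Ideal A) : pwJ X F J ⟶ F := kernel.ι _

instance (J : Ideal A) : Mono (pwJι X F J) := inferInstanceAs (Mono (kernel.ι _))

/-- the epimorphism `∐_{a ∈ J} F → J F` -/
noncomputable def pwJe (J : Ideal A) : (∐ fun _ : J => F) ⟶ pwJ X F J :=
  Abelian.factorThruImage (Formal.smulFamily J F)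

instance (J : Ideal A) : Epi (pwJe X F J) := by
  unfold pwJe
  exact Abelian.instEpiFactorThruImage _

theorem pwJe_ι (J : Ideal A) : pwJe X F J ≫ pwJι X F J = Formal.smulFamily J F :=
  Abelian.image.fac _

theorem smulMod_app (a : A) (U : X.Opens) (m : Γ(F, U)) :
    (Formal.smulMod A F a).app U m = (ρU X U a : Γ(X, U)) • m := rfl

theorem smulMod_add (a b : A) :
    Formal.smulMod A F (a + b) = Formal.smulMod A F a + Formal.smulMod A F b := by
  apply Scheme.Modules.hom_ext
  intro U
  ext m
  change (Formal.smulMod A F (a + b)).app U m =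
    (Formal.smulMod A F a).app U m + (Formal.smulMod A F b).app U m
  rw [smulMod_app, smulMod_app, smulMod_app, map_add, add_smul]

theorem smulMod_zero : Formal.smulMod A F (0 : A) = 0 := by
  apply Scheme.Modules.hom_ext
  intro U
  ext m
  change (Formal.smulMod A F 0).app U m = 0
  rw [smulMod_app, map_zero, zero_smul]

theorem smulMod_comp_cokernel (J : Ideal A) (a : A) (ha : a ∈ J) :
    Formal.smulMod A F a ≫ cokernel.π (Formal.smulFamily J F) = 0 :=
  (Groth.Agent.S9530.smulFamily_comp_eq_zero_iff _).1 (cokernel.condition _) a ha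

theorem mem_range_pwJι_of_mem (J : Ideal A) (U : X.Opens) (m : MA X F U)
    (hm : m ∈ (J • ⊤ : Submodule A (MA X F U))) :
    ∃ x : Γ(pwJ X F J, U), (pwJι X F J).app U x = (show Γ(F, U) from m) := by
  apply Groth.Agent.Lib.T2H5.IdealMul.exists_kernel_app_eq
  refine Submodule.smul_induction_on hm ?_ ?_
  · intro a ha m' _
    have h := smulMod_comp_cokernel X F J a ha
    have h2 : (Formal.smulMod A F a ≫ cokernel.π (Formal.smulFamily J F)).app U
        (show Γ(F, U) from m') = 0 := by rw [h]; rfl
    exact h2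
  · intro x y hx hy
    change (cokernel.π (Formal.smulFamily J F)).app U ((show Γ(F, U) from x) + (show Γ(F, U) from y)) = 0
    rw [map_add]
    rw [hx, hy, add_zero]


/-- `a ↦ smulMod a` as an additive map -/
noncomputable def smulModHom : A →+ (F ⟶ F) :=
  AddMonoidHom.mk' (fun a => Formal.smulMod A F a) (smulMod_add X F)

theorem smulModHom_apply (a : A) : smulModHom X F a = Formal.smulMod A F a := rfl

theorem isQuasicoherent_sigmaJ [hF : F.IsQuasicoherent] (J : Ideal A) :
    (∐ fun _ : J => F).IsQuasicoherent :=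
  Groth.Agent.Lib.Helper23.QCohLocal.isQuasicoherent_colimit _ (fun _ => hF)

theorem isQuasicoherent_pwJ [F.IsQuasicoherent] (J : Ideal A) : (pwJ X F J).IsQuasicoherent := by
  haveI := isQuasicoherent_sigmaJ X F J
  haveI : (cokernel (Formal.smulFamily J F)).IsQuasicoherent :=
    Groth.Agent.Lib.Helper23.QCohLocal.isQuasicoherent_cokernel _
  exact Groth.Agent.Lib.Helper23.QCohLocal.isQuasicoherent_kernel _

section fg

variable {r : ℕ} (g : Fin r → A)

/-- the map `∐_{j < r} F → F` given by the generators -/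
noncomputable def σg : (∐ fun _ : Fin r => F) ⟶ F := Sigma.desc fun j => Formal.smulMod A F (g j)

variable (J : Ideal A) (hg : Ideal.span (Set.range g) = J)

include hg in
theorem σg_cokernel : σg X F g ≫ cokernel.π (Formal.smulFamily J F) = 0 := by
  apply Sigma.hom_ext
  intro j
  rw [σg, ← Category.assoc, Sigma.ι_desc, Limits.comp_zero]
  apply smulMod_comp_cokernel
  rw [← hg]
  exact Ideal.subset_span ⟨j, rfl⟩

/-- the factorization of `σg` through `J F` -/
noncomputable def σg' : (∐ fun _ : Fin r => F) ⟶ pwJ X F J :=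
  kernel.lift _ (σg X F g) (σg_cokernel X F g J hg)

theorem σg'_ι : σg' X F g J hg ≫ pwJι X F J = σg X F g := kernel.lift_ι _ _ _

include hg in
theorem epi_σg' : Epi (σg' X F g J hg) := by
  classical
  have hmem : ∀ a : J, ∃ c : Fin r → A, ∑ j, c j * g j = (a : A) := by
    intro a
    have ha : (a : A) ∈ Ideal.span (Set.range g) := by rw [hg]; exact a.2
    obtain ⟨c, hc⟩ := (Ideal.mem_span_range_iff_exists_fun).1 ha
    exact ⟨c, hc⟩
  choose c hc using hmem
  let lam : (∐ fun _ : J => F) ⟶ (∐ fun _ : Fin r => F) :=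
    Sigma.desc fun a => ∑ j, Formal.smulMod A F (c a j) ≫ Sigma.ι (fun _ : Fin r => F) j
  have h1 : lam ≫ σg X F g = Formal.smulFamily J F := by
    apply Sigma.hom_ext
    intro a
    rw [← Category.assoc, Sigma.ι_desc, Preadditive.sum_comp]
    have : ∀ j, (Formal.smulMod A F (c a j) ≫ Sigma.ι (fun _ : Fin r => F) j) ≫ σg X F g =
        smulModHom X F (g j * c a j) := by
      intro j
      rw [Category.assoc, σg, Sigma.ι_desc, smulModHom_apply,
        Groth.Agent.Lib.T2H9.ModPow.smulMod_mul]
    simp only [this]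
    rw [← map_sum, smulModHom_apply]
    have e : ∑ j, g j * c a j = (a : A) := by
      rw [← hc a]
      exact Finset.sum_congr rfl fun j _ => mul_comm _ _
    rw [e]
    simp [Formal.smulFamily]
  have h2 : pwJe X F J = lam ≫ σg' X F g J hg := by
    rw [← cancel_mono (pwJι X F J), pwJe_ι, Category.assoc, σg'_ι, h1]
  haveI : Epi (lam ≫ σg' X F g J hg) := by rw [← h2]; infer_instance
  exact epi_of_epi lam _

include hg in
theorem pwJι_app_mem [F.IsQuasicoherent] {U : X.Opens} (hU : IsAffineOpen U)
    (x : Γ(pwJ X F J, U)) :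
    (show MA X F U from (pwJι X F J).app U x) ∈ (J • ⊤ : Submodule A (MA X F U)) := by
  classical
  haveI := isQuasicoherent_pwJ X F J
  haveI : (∐ fun _ : Fin r => F).IsQuasicoherent :=
    isQuasicoherent_sigma _ (fun _ => inferInstance)
  haveI := epi_σg' X F g J hg
  obtain ⟨t, rfl⟩ := Groth.Agent.Lib.Helper23.FinType.surjective_app_of_epi (σg' X F g J hg) hU x
  have hsum : ∑ j, Sigma.π (fun _ : Fin r => F) j ≫ Sigma.ι (fun _ : Fin r => F) j =
      𝟙 (∐ fun _ : Fin r => F) := by
    apply Sigma.hom_ext
    intro b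
    rw [Preadditive.comp_sum, Category.comp_id]
    rw [Finset.sum_eq_single b]
    · rw [← Category.assoc, Sigma.ι_π_eq_id, Category.id_comp]
    · intro c _ hc
      rw [← Category.assoc, Sigma.ι_π_of_ne _ (Ne.symm hc), Limits.zero_comp]
    · intro hb
      exact absurd (Finset.mem_univ b) hb
  have h1 : (pwJι X F J).app U ((σg' X F g J hg).app U t) = (σg X F g).app U t := by
    rw [← σg'_ι X F g J hg]
    rfl
  have h2 : σg X F g = ∑ j, Sigma.π (fun _ : Fin r => F) j ≫ Formal.smulMod A F (g j) := by
    have := congrArg (fun k => k ≫ σg X F g) hsum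
    simp only [Category.id_comp, Preadditive.sum_comp, Category.assoc] at this
    rw [← this]
    refine Finset.sum_congr rfl fun j _ => ?_
    rw [σg, Sigma.ι_desc]
  have h3 : (σg X F g).app U t =
      ∑ j, (ρU X U (g j) : Γ(X, U)) • (Sigma.π (fun _ : Fin r => F) j).app U t := by
    rw [h2]
    have := congrArg (fun k : Γ(∐ fun _ : Fin r => F, U) →+ Γ(F, U) => k t)
      (map_sum (appAdd (∐ fun _ : Fin r => F) F U)
        (fun j => Sigma.π (fun _ : Fin r => F) j ≫ Formal.smulMod A F (g j)) Finset.univ)
    simp only [AddMonoidHom.finsetSum_apply] at this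
    exact this
  rw [h1, h3]
  refine Submodule.sum_mem _ fun j _ => ?_
  have hgj : g j ∈ J := by rw [← hg]; exact Ideal.subset_span ⟨j, rfl⟩
  exact Submodule.smul_mem_smul hgj (Submodule.mem_top (x := (show MA X F U from
    (Sigma.π (fun _ : Fin r => F) j).app U t)))

end fg

end Groth.Agent.Lib.T2H9.FFGeom
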