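import Mathlib
import Groth.Agent.Lib.Helper6QCohQcqs
import Groth.Agent.Lib.Helper13ModAffine

/-!
# T2H9ShHom4: gluing compatible families in inverse systems of modules (helper9)

Namespace `Groth.Agent.Lib.T2H9.ShHom`.

* `res_app`, `exists_glue_affine` (gluing sections given on all affine opens), `eq_zero_of_res_affine`.
* `TowerInj P R tP c U`, `TowerSurj P R tP tR c U`: injectivity/surjectivity of the map
  `lim_n Γ(U, P n) → lim_n Γ(U, R n)` induced by a morphism of inverse systems `c`; `towerInj_top`, `towerSurj_top`: they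
  hold over `⊤` as soon as they hold over every affine open.
-/

set_option autoImplicit false
set_option linter.style.haveILetI false
set_option linter.unusedVariables false
set_option linter.unusedSectionVars false
universe u
open CategoryTheory CategoryTheory.Limits Opposite AlgebraicGeometry TopologicalSpace

namespace Groth.Agent.Lib.T2H9.ShHom

open Groth.Agent.Lib.Helper6

variable {X : Scheme.{u}}

theorem res_app {F G : X.Modules} (φ : F ⟶ G) {U V : X.Opens} (h : V ≤ U) (s : Γ(F, U)) :
    res G h (φ.app U s) = φ.app V (res F h s) := by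
  have hn := φ.mapPresheaf.naturality (homOfLE h).op
  exact (congrArg (fun k => k s) hn).symm

/-- gluing sections given compatibly over the affine opens -/
theorem exists_glue_affine (F : X.Modules) (s : ∀ U : X.affineOpens, Γ(F, U.1))
    (hs : ∀ (U V : X.affineOpens) (h : V.1 ≤ U.1), res F h (s U) = s V) :
    ∃ t : Γ(F, ⊤), ∀ U : X.affineOpens, res F (le_top : U.1 ≤ ⊤) t = s U := by
  have hcompat : TopCat.Presheaf.IsCompatible (modSheaf F).1 (fun U : X.affineOpens => U.1) s := by
    intro U V
    apply Groth.Agent.Helper13ModAffine.section_ext_affine F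
    intro W hW hle
    have h1 : F.presheaf.map (homOfLE hle).op
        ((modSheaf F).1.map (Opens.infLELeft U.1 V.1).op (s U)) =
        res F (hle.trans inf_le_left) (s U) := res_res F inf_le_left hle (s U)
    have h2 : F.presheaf.map (homOfLE hle).op
        ((modSheaf F).1.map (Opens.infLERight U.1 V.1).op (s V)) =
        res F (hle.trans inf_le_right) (s V) := res_res F inf_le_right hle (s V)
    rw [h1, h2, hs U ⟨W, hW⟩ (hle.trans inf_le_left), hs V ⟨W, hW⟩ (hle.trans inf_le_right)]
  have hcov : (⊤ : X.Opens) ≤ iSup (fun U : X.affineOpens => U.1) := by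
    rw [iSup_affineOpens_eq_top X]
  obtain ⟨t, ht, -⟩ := (modSheaf F).existsUnique_gluing' (fun U : X.affineOpens => U.1) ⊤
    (fun U => homOfLE le_top) hcov s hcompat
  exact ⟨t, ht⟩

/-- a section vanishing on all affine opens vanishes -/
theorem eq_zero_of_res_affine (F : X.Modules) (t : Γ(F, ⊤))
    (h : ∀ U : X.affineOpens, res F (le_top : U.1 ≤ ⊤) t = 0) : t = 0 := by
  apply Groth.Agent.Helper13ModAffine.section_ext_affine F
  intro W hW hle
  rw [map_zero]
  exact h ⟨W, hW⟩

section tower

variable (P R : ℕ → X.Modules) (tP : ∀ n, P (n + 1) ⟶ P n) (tR : ∀ n, R (n + 1) ⟶ R n)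
  (c : ∀ n, P n ⟶ R n) (hc : ∀ n, tP n ≫ c n = c (n + 1) ≫ tR n)

/-- injectivity of the map on limits over `U` -/
def TowerInj (U : X.Opens) : Prop :=
  ∀ p : ∀ n, Γ(P n, U), (∀ n, (tP n).app U (p (n + 1)) = p n) →
    (∀ n, (c n).app U (p n) = 0) → ∀ n, p n = 0

/-- surjectivity of the map on limits over `U` -/
def TowerSurj (U : X.Opens) : Prop :=
  ∀ r : ∀ n, Γ(R n, U), (∀ n, (tR n).app U (r (n + 1)) = r n) →
    ∃ p : ∀ n, Γ(P n, U), (∀ n, (tP n).app U (p (n + 1)) = p n) ∧ ∀ n, (c n).app U (p n) = r n

theorem towerInj_top (h : ∀ U : X.affineOpens, TowerInj P R tP c U.1) : TowerInj P R tP c ⊤ := by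
  intro p hp hcp n
  apply eq_zero_of_res_affine
  intro U
  refine h U (fun n => res (P n) le_top (p n)) ?_ ?_ n
  · intro n
    rw [← res_app, hp]
  · intro n
    rw [← res_app, hcp, res_zero]

include hc in
theorem towerSurj_top (hi : ∀ U : X.affineOpens, TowerInj P R tP c U.1)
    (hs : ∀ U : X.affineOpens, TowerSurj P R tP tR c U.1) : TowerSurj P R tP tR c ⊤ := by
  intro r hr
  have hloc : ∀ U : X.affineOpens, ∃ p : ∀ n, Γ(P n, U.1),
      (∀ n, (tP n).app U.1 (p (n + 1)) = p n) ∧
        ∀ n, (c n).app U.1 (p n) = res (R n) le_top (r n) := by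
    intro U
    refine hs U (fun n => res (R n) le_top (r n)) ?_
    intro n
    rw [← res_app, hr]
  choose pU hpU1 hpU2 using hloc
  have hcompat : ∀ (n : ℕ) (U V : X.affineOpens) (h : V.1 ≤ U.1),
      res (P n) h (pU U n) = pU V n := by
    intro n U V h
    have h0 := hi V (fun n => res (P n) h (pU U n) - pU V n) ?_ ?_ n
    · exact sub_eq_zero.1 h0
    · intro n
      rw [map_sub, ← res_app, hpU1, hpU1]
    · intro n
      rw [map_sub, ← res_app, hpU2, hpU2, res_res, sub_self]
  have hglue : ∀ n, ∃ t : Γ(P n, ⊤), ∀ U : X.affineOpens, res (P n) (le_top : U.1 ≤ ⊤) t = pU U n :=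
    fun n => exists_glue_affine (P n) (fun U => pU U n) (hcompat n)
  choose p hp using hglue
  refine ⟨p, ?_, ?_⟩
  · intro n
    rw [← sub_eq_zero]
    apply eq_zero_of_res_affine
    intro U
    rw [res_sub, res_app, hp, hp, hpU1, sub_self]
  · intro n
    rw [← sub_eq_zero]
    apply eq_zero_of_res_affine
    intro U
    rw [res_sub, res_app, hp, hpU2, sub_self]

end tower

end Groth.Agent.Lib.T2H9.ShHom
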