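import Mathlib
import Groth.Agent.Lib.Helper21RestrExact
import Groth.Agent.Lib.Helper21UnitHom
import Groth.Agent.Lib.Helper21ModTensor7
import Groth.Agent.Lib.Helper21ExtShDelta

/-!
# T2H9ShHom1: sections of the sheaf Hom (helper9)

Namespace `Groth.Agent.Lib.T2H9.ShHom`.  On a ringed site `(C, J, O)`:

* `homSecAddEquiv hT G F : Γ(T, ℋom(G, F)) ≃+ Hom(G, F)` for a terminal object `T`, natural in `F`
  (`homSecAddEquiv_naturality`).
* `secHom O U M F : Γ(U, ℋom(M, F)) →+ Hom(M|_U, F|_U)` (via `Helper21.RestrExact.restrSheafHomIso`),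
  bijective (`secHom_bijective`) and natural in `F` (`secHom_naturality`).
-/

set_option autoImplicit false
set_option linter.style.haveILetI false
set_option linter.unusedVariables false
set_option linter.unusedSectionVars false
universe u
open CategoryTheory CategoryTheory.Limits Opposite

namespace Groth.Agent.Lib.T2H9.ShHom

open Groth.Agent.Lib.Helper21 Groth.Agent.Lib.Helper21.ModTensor3 Groth.Agent.Lib.Helper21.ModTensor5
  Groth.Agent.Lib.Helper21.ModTensor7 Groth.Agent.Lib.Helper21.RestrExact

attribute [local instance] Groth.Agent.Lib.Helper21.ExtShDelta.hasSheafHom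

section site

variable {C : Type u} [SmallCategory C] {J : GrothendieckTopology C} (O : Sheaf J CommRingCat.{u})

section terminal

variable {T : C} (hT : IsTerminal T)

/-- `Γ(T, ℋom(G, F)) ≃+ Hom(G, F)` for a terminal object `T` of the site. -/
noncomputable def homSecAddEquiv (G F : ModSite.Mod O) :
    ((ModSite.sheafHom G).obj F).val.obj (op T) ≃+ (G ⟶ F) :=
  (UnitHom.unitHomAddEquiv (R := ModSite.ringSh O) hT ((ModSite.sheafHom G).obj F)).symm.trans
    (((ModSite.sheafHomAdj G).homAddEquiv (ModSite.unit O) F).symm.trans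
      { toFun := fun f => ((tLUnitIso O).app G).inv ≫ f
        invFun := fun g => ((tLUnitIso O).app G).hom ≫ g
        left_inv := fun f => by simp
        right_inv := fun g => by simp
        map_add' := fun f g => Preadditive.comp_add _ _ _ _ _ _ })

theorem unitHom_symm_naturality {H₁ H₂ : ModSite.Mod O} (h : H₁ ⟶ H₂) (s : H₁.val.obj (op T)) :
    (UnitHom.unitHomAddEquiv (R := ModSite.ringSh O) hT H₂).symm (h.val.app (op T) s) =
      (UnitHom.unitHomAddEquiv (R := ModSite.ringSh O) hT H₁).symm s ≫ h := by
  apply (UnitHom.unitHomAddEquiv (R := ModSite.ringSh O) hT H₂).injective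
  rw [AddEquiv.apply_symm_apply]
  change _ = h.val.app (op T) ((UnitHom.unitHomAddEquiv (R := ModSite.ringSh O) hT H₁)
    ((UnitHom.unitHomAddEquiv (R := ModSite.ringSh O) hT H₁).symm s))
  rw [AddEquiv.apply_symm_apply]

theorem homSecAddEquiv_naturality (G : ModSite.Mod O) {F F' : ModSite.Mod O} (ψ : F ⟶ F')
    (s : ((ModSite.sheafHom G).obj F).val.obj (op T)) :
    homSecAddEquiv O hT G F' (((ModSite.sheafHom G).map ψ).val.app (op T) s) =
      homSecAddEquiv O hT G F s ≫ ψ := by
  unfold homSecAddEquiv
  simp only [AddEquiv.trans_apply, AddEquiv.coe_mk, Equiv.coe_fn_mk]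
  rw [unitHom_symm_naturality]
  rw [Adjunction.homAddEquiv_symm_apply, Adjunction.homAddEquiv_symm_apply,
    Adjunction.homEquiv_naturality_right_symm, Category.assoc]

end terminal

section overU

variable (U : C)

/-- the terminal object of `C/U` -/
abbrev T₀ : Over U := Over.mk (𝟙 U)

/-- `id_U` is terminal in `C/U` -/
noncomputable def hT₀ : IsTerminal (T₀ U) := Over.mkIdTerminal

/-- `Γ(U, ℋom(M, F)) → Γ(U, ℋom(M|_U, F|_U))`. -/
noncomputable def secRes (M F : ModSite.Mod O) :
    ((ModSite.sheafHom M).obj F).val.obj (op U) →+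
      ((ModSite.sheafHom ((ModSite.restr O U).obj M)).obj ((ModSite.restr O U).obj F)).val.obj
        (op (T₀ U)) :=
  (((restrSheafHomIso O U M).hom.app F).val.app (op (T₀ U))).hom.toAddMonoidHom

/-- its inverse -/
noncomputable def secResInv (M F : ModSite.Mod O) :
    ((ModSite.sheafHom ((ModSite.restr O U).obj M)).obj ((ModSite.restr O U).obj F)).val.obj
        (op (T₀ U)) →+ ((ModSite.sheafHom M).obj F).val.obj (op U) :=
  (((restrSheafHomIso O U M).inv.app F).val.app (op (T₀ U))).hom.toAddMonoidHom

theorem secResInv_secRes (M F : ModSite.Mod O) (s : ((ModSite.sheafHom M).obj F).val.obj (op U)) :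
    secResInv O U M F (secRes O U M F s) = s := by
  have h := (restrSheafHomIso O U M).hom_inv_id_app F
  exact congrArg (fun k => k.val.app (op (T₀ U)) s) h

theorem secRes_secResInv (M F : ModSite.Mod O)
    (s : ((ModSite.sheafHom ((ModSite.restr O U).obj M)).obj ((ModSite.restr O U).obj F)).val.obj
        (op (T₀ U))) :
    secRes O U M F (secResInv O U M F s) = s := by
  have h := (restrSheafHomIso O U M).inv_hom_id_app F
  exact congrArg (fun k => k.val.app (op (T₀ U)) s) h

theorem secRes_naturality (M : ModSite.Mod O) {F F' : ModSite.Mod O} (ψ : F ⟶ F')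
    (s : ((ModSite.sheafHom M).obj F).val.obj (op U)) :
    secRes O U M F' (((ModSite.sheafHom M).map ψ).val.app (op U) s) =
      ((ModSite.sheafHom ((ModSite.restr O U).obj M)).map ((ModSite.restr O U).map ψ)).val.app
        (op (T₀ U)) (secRes O U M F s) := by
  have hnat := (restrSheafHomIso O U M).hom.naturality ψ
  exact congrArg (fun k => k.val.app (op (T₀ U)) s) hnat

/-- `Γ(U, ℋom(M, F)) → Hom(M|_U, F|_U)`. -/
noncomputable def secHom (M F : ModSite.Mod O) :
    ((ModSite.sheafHom M).obj F).val.obj (op U) →+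
      ((ModSite.restr O U).obj M ⟶ (ModSite.restr O U).obj F) :=
  (homSecAddEquiv (O.over U) (hT₀ U) ((ModSite.restr O U).obj M)
    ((ModSite.restr O U).obj F)).toAddMonoidHom.comp (secRes O U M F)

theorem secHom_apply (M F : ModSite.Mod O) (s : ((ModSite.sheafHom M).obj F).val.obj (op U)) :
    secHom O U M F s = homSecAddEquiv (O.over U) (hT₀ U) ((ModSite.restr O U).obj M)
      ((ModSite.restr O U).obj F) (secRes O U M F s) := rfl

theorem secHom_bijective (M F : ModSite.Mod O) : Function.Bijective (secHom O U M F) := by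
  constructor
  · intro s t h
    rw [secHom_apply, secHom_apply] at h
    have h2 := (homSecAddEquiv (O.over U) (hT₀ U) _ _).injective h
    rw [← secResInv_secRes O U M F s, ← secResInv_secRes O U M F t, h2]
  · intro f
    refine ⟨secResInv O U M F ((homSecAddEquiv (O.over U) (hT₀ U) _ _).symm f), ?_⟩
    rw [secHom_apply, secRes_secResInv, AddEquiv.apply_symm_apply]

theorem secHom_naturality (M : ModSite.Mod O) {F F' : ModSite.Mod O} (ψ : F ⟶ F')
    (s : ((ModSite.sheafHom M).obj F).val.obj (op U)) :
    secHom O U M F' (((ModSite.sheafHom M).map ψ).val.app (op U) s) =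
      secHom O U M F s ≫ (ModSite.restr O U).map ψ := by
  rw [secHom_apply, secHom_apply, secRes_naturality, homSecAddEquiv_naturality]

end overU

end site

end Groth.Agent.Lib.T2H9.ShHom
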