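import Mathlib
import Groth.Agent.Lib.Helper21UnitHom
import Groth.Prelude.Def_ModSite

/-!
# T2H9ShHom2: coordinates for morphisms out of a finitely presented module on a ringed site (helper9)

Namespace `Groth.Agent.Lib.T2H9.ShHom`.  `T` a terminal object of the site.

* `uh : (O ⟶ F) ≃+ F(T)`, `uh_comp`, `uh_comp_left` (composition with an endomorphism of `O` is scalar multiplication).
* `coord b F : (O^b ⟶ F) →+ (Fin b → F(T))`, bijective, natural; `mat κ` the matrix of `κ : O^{b₁} ⟶ O^{b₀}`,
  `coord_comp_left`.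
* `coordP π F : (M' ⟶ F) →+ (Fin b₀ → F(T))` for an epimorphism `π : O^{b₀} ⟶ M'`; injective, natural, and with
  range the solutions of the linear system given by the matrix of `O^{b₁} ↠ ker π ⟶ O^{b₀}` (`mem_range_coordP_iff`).
-/

set_option autoImplicit false
set_option linter.style.haveILetI false
set_option linter.unusedVariables false
set_option linter.unusedSectionVars false
universe u
open CategoryTheory CategoryTheory.Limits Opposite

namespace Groth.Agent.Lib.T2H9.ShHom

open Groth.Agent.Lib.Helper21

section site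

variable {C : Type u} [SmallCategory C] {J : GrothendieckTopology C} (O : Sheaf J CommRingCat.{u})
variable {T : C} (hT : IsTerminal T)

/-- the value at `1` of a morphism out of the unit -/
noncomputable abbrev uh (F : ModSite.Mod O) : (ModSite.unit O ⟶ F) ≃+ F.val.obj (op T) :=
  UnitHom.unitHomAddEquiv (R := ModSite.ringSh O) hT F

theorem uh_comp {F F' : ModSite.Mod O} (f : ModSite.unit O ⟶ F) (h : F ⟶ F') :
    uh O hT F' (f ≫ h) = h.val.app (op T) (uh O hT F f) := rfl

theorem uh_comp_left {F : ModSite.Mod O} (g : ModSite.unit O ⟶ ModSite.unit O)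
    (f : ModSite.unit O ⟶ F) :
    uh O hT F (g ≫ f) =
      (show (ModSite.ringSh O).obj.obj (op T) from uh O hT (ModSite.unit O) g) • uh O hT F f := by
  set r : (ModSite.ringSh O).obj.obj (op T) := uh O hT (ModSite.unit O) g with hr
  change f.val.app (op T) (g.val.app (op T) (1 : (ModSite.ringSh O).obj.obj (op T))) = r • _
  have h1 : g.val.app (op T) (1 : (ModSite.ringSh O).obj.obj (op T)) =
      r • (show (ModSite.unit O).val.obj (op T) from (1 : (ModSite.ringSh O).obj.obj (op T))) := by
    change _ = r * 1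
    rw [mul_one]
    rfl
  rw [h1, map_smul]
  rfl

variable (b : ℕ)

/-- finite free module -/
noncomputable abbrev Lb : ModSite.Mod O := ∐ fun _ : Fin b => ModSite.unit O

/-- coordinates of a morphism out of a finite free module -/
noncomputable def coord (F : ModSite.Mod O) : (Lb O b ⟶ F) →+ (Fin b → F.val.obj (op T)) where
  toFun f := fun j => uh O hT F (Sigma.ι (fun _ : Fin b => ModSite.unit O) j ≫ f)
  map_zero' := by
    funext j
    simp
  map_add' f g := by
    funext j
    simp [Preadditive.comp_add]

theorem coord_apply (F : ModSite.Mod O) (f : Lb O b ⟶ F) (j : Fin b) :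
    coord O hT b F f j = uh O hT F (Sigma.ι (fun _ : Fin b => ModSite.unit O) j ≫ f) := rfl

theorem coord_injective (F : ModSite.Mod O) : Function.Injective (coord O hT b F) := by
  intro f g h
  apply Sigma.hom_ext
  intro j
  apply (uh O hT F).injective
  exact congrFun h j

theorem coord_surjective (F : ModSite.Mod O) : Function.Surjective (coord O hT b F) := by
  intro x
  refine ⟨Sigma.desc fun j => (uh O hT F).symm (x j), ?_⟩
  funext j
  rw [coord_apply, Sigma.ι_desc, AddEquiv.apply_symm_apply]

theorem coord_comp {F F' : ModSite.Mod O} (f : Lb O b ⟶ F) (h : F ⟶ F') (j : Fin b) :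
    coord O hT b F' (f ≫ h) j = h.val.app (op T) (coord O hT b F f j) := by
  rw [coord_apply, coord_apply, ← Category.assoc, uh_comp]

theorem sum_π_ι : ∑ j, Sigma.π (fun _ : Fin b => ModSite.unit O) j ≫
    Sigma.ι (fun _ : Fin b => ModSite.unit O) j = 𝟙 (Lb O b) := by
  classical
  apply Sigma.hom_ext
  intro c
  rw [Preadditive.comp_sum, Category.comp_id]
  rw [Finset.sum_eq_single c]
  · rw [← Category.assoc, Sigma.ι_π_eq_id, Category.id_comp]
  · intro d _ hd
    rw [← Category.assoc, Sigma.ι_π_of_ne _ (Ne.symm hd), Limits.zero_comp]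
  · intro hc
    exact absurd (Finset.mem_univ c) hc

section pres

variable {b₀ b₁ : ℕ} (κ : Lb O b₁ ⟶ Lb O b₀)

/-- the matrix of a morphism of finite free modules -/
noncomputable def mat (i : Fin b₁) (j : Fin b₀) : (ModSite.ringSh O).obj.obj (op T) :=
  uh O hT (ModSite.unit O) (Sigma.ι (fun _ : Fin b₁ => ModSite.unit O) i ≫ κ ≫
    Sigma.π (fun _ : Fin b₀ => ModSite.unit O) j)

theorem coord_comp_left (F : ModSite.Mod O) (f : Lb O b₀ ⟶ F) (i : Fin b₁) :
    coord O hT b₁ F (κ ≫ f) i = ∑ j, mat O hT κ i j • coord O hT b₀ F f j := by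
  rw [coord_apply]
  have h1 : Sigma.ι (fun _ : Fin b₁ => ModSite.unit O) i ≫ κ ≫ f =
      ∑ j, (Sigma.ι (fun _ : Fin b₁ => ModSite.unit O) i ≫ κ ≫
        Sigma.π (fun _ : Fin b₀ => ModSite.unit O) j) ≫
          (Sigma.ι (fun _ : Fin b₀ => ModSite.unit O) j ≫ f) := by
    have h2 := congrArg (fun k => Sigma.ι (fun _ : Fin b₁ => ModSite.unit O) i ≫ κ ≫ k ≫ f)
      (sum_π_ι O b₀)
    simp only [Category.id_comp, Preadditive.sum_comp, Preadditive.comp_sum, Category.assoc] at h2
    rw [← h2]
    simp only [Category.assoc]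
  rw [h1, map_sum]
  refine Finset.sum_congr rfl fun j _ => ?_
  rw [uh_comp_left]
  rfl

variable {M' : ModSite.Mod O} (π : Lb O b₀ ⟶ M') [Epi π] (q : Lb O b₁ ⟶ kernel π) [Epi q]

/-- coordinates of a morphism out of a finitely presented module -/
noncomputable def coordP (F : ModSite.Mod O) : (M' ⟶ F) →+ (Fin b₀ → F.val.obj (op T)) :=
  (coord O hT b₀ F).comp
    { toFun := fun g => π ≫ g
      map_zero' := by simp
      map_add' := fun g g' => Preadditive.comp_add _ _ _ _ _ _ }

theorem coordP_apply (F : ModSite.Mod O) (g : M' ⟶ F) :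
    coordP O hT π F g = coord O hT b₀ F (π ≫ g) := rfl

theorem coordP_injective (F : ModSite.Mod O) : Function.Injective (coordP O hT π F) := by
  intro g g' h
  rw [coordP_apply, coordP_apply] at h
  have := coord_injective O hT b₀ F h
  exact (cancel_epi π).1 this

theorem coordP_comp {F F' : ModSite.Mod O} (g : M' ⟶ F) (h : F ⟶ F') (j : Fin b₀) :
    coordP O hT π F' (g ≫ h) j = h.val.app (op T) (coordP O hT π F g j) := by
  rw [coordP_apply, coordP_apply, ← Category.assoc, coord_comp]

theorem mem_range_coordP_iff (F : ModSite.Mod O) (x : Fin b₀ → F.val.obj (op T)) :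
    x ∈ Set.range (coordP O hT π F) ↔
      ∀ i, ∑ j, mat O hT (q ≫ kernel.ι π) i j • x j = 0 := by
  obtain ⟨f, rfl⟩ := coord_surjective O hT b₀ F x
  constructor
  · rintro ⟨g, hg⟩ i
    rw [coordP_apply] at hg
    have hf : f = π ≫ g := (coord_injective O hT b₀ F hg).symm
    rw [← coord_comp_left, hf]
    have : (q ≫ kernel.ι π) ≫ π ≫ g = 0 := by
      rw [Category.assoc, ← Category.assoc (kernel.ι π), kernel.condition, Limits.zero_comp,
        Limits.comp_zero]
    rw [this, map_zero]
    rfl
  · intro h
    have h1 : (q ≫ kernel.ι π) ≫ f = 0 := by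
      apply coord_injective O hT b₁ F
      funext i
      rw [coord_comp_left, h i, map_zero]
      rfl
    have h2 : kernel.ι π ≫ f = 0 := by
      rw [Category.assoc] at h1
      exact (cancel_epi q).1 (h1.trans Limits.comp_zero.symm)
    refine ⟨Abelian.epiDesc π f h2, ?_⟩
    rw [coordP_apply, Abelian.comp_epiDesc]

end pres

end site

end Groth.Agent.Lib.T2H9.ShHom
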