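import Mathlib
import Groth.Agent.Lib.T2H9ShHom1
import Groth.Agent.Lib.T2H9ShHom2
import Groth.Agent.Lib.T2H4ExtShCoh

/-!
# T2H9ShHom3: local coordinates for the sections of `ℋom(M, F)` over an affine open (helper9)

Namespace `Groth.Agent.Lib.T2H9.ShHom`.

* `SH M := ModSite.sheafHom (O := X.sheaf) M`, the sheaf Hom functor on a scheme.
* `exists_local_coord`: for `M` coherent on a locally Noetherian scheme and `U` affine open there are `b₀ b₁`, a matrix
  `a` over `Γ(X, U)` and additive maps `Θ F : Γ(U, ℋom(M, F)) →+ (Fin b₀ → Γ(U, F))`, natural in `F`, injective, with range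
  the solutions of `∑ j, a i j • x j = 0`.
-/

set_option autoImplicit false
set_option linter.style.haveILetI false
set_option linter.unusedVariables false
set_option linter.unusedSectionVars false
universe u
open CategoryTheory CategoryTheory.Limits Opposite AlgebraicGeometry TopologicalSpace

namespace Groth.Agent.Lib.T2H9.ShHom

open Groth.Agent.Lib.Helper21 Groth.Agent.Lib.T2H4.ExtShCoh

attribute [local instance] Groth.Agent.Lib.Helper21.ExtShDelta.hasSheafHom

variable {X : Scheme.{u}}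

/-- the sheaf Hom functor `ℋom(M, -)` on a scheme -/
noncomputable abbrev SH (M : X.Modules) : X.Modules ⥤ X.Modules :=
  ModSite.sheafHom (O := X.sheaf) M

/-- local coordinates for the sections of `ℋom(M, F)` over an affine open, natural in `F`. -/
theorem exists_local_coord [IsLocallyNoetherian X] (M : X.Modules) (hM : Coh.IsCoh M)
    (U : X.Opens) (hU : IsAffineOpen U) :
    ∃ (b₀ b₁ : ℕ) (a : Fin b₁ → Fin b₀ → Γ(X, U))
      (Θ : ∀ F : X.Modules, ((SH M).obj F).val.obj (op U) →+ (Fin b₀ → F.val.obj (op U))),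
      (∀ F, Function.Injective (Θ F)) ∧
      (∀ (F : X.Modules) (x : Fin b₀ → F.val.obj (op U)),
        x ∈ Set.range (Θ F) ↔ ∀ i, ∑ j, (a i j : Γ(X, U)) • x j = 0) ∧
      ∀ {F F' : X.Modules} (g : F ⟶ F') (s : ((SH M).obj F).val.obj (op U)) (j : Fin b₀),
        Θ F' (((SH M).map g).val.app (op U) s) j = g.val.app (op U) (Θ F s j) := by
  haveI := hM.1
  haveI := hM.2
  have eM : (Φ U).obj ((ModSite.restr X.sheaf U).obj M) ≅ M.restrict U.ι :=
    (Scheme.Modules.overFunctorEquiv U).app _
  have hM' : Coh.IsCoh (M.restrict U.ι) :=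
    ⟨Scheme.Modules.isQuasicoherent_restrictFunctor U.ι M,
      Groth.Agent.Lib.Helper23.FinType.isFiniteType_restrict U.ι M⟩
  have hΦM : Coh.IsCoh ((Φ U).obj ((ModSite.restr X.sheaf U).obj M)) :=
    Groth.Agent.Lib.T2H5.Devissage.isCoh_of_iso eM.symm hM'
  obtain ⟨b₀, π, hπ, hK⟩ := exists_resolution U hU _ hΦM
  obtain ⟨b₁, q, hq, _⟩ := exists_resolution U hU _ hK
  haveI := hπ
  haveI := hq
  refine ⟨b₀, b₁, mat (X.sheaf.over U) (hT₀ U) (q ≫ kernel.ι π),
    fun F => (coordP (X.sheaf.over U) (hT₀ U) π ((ModSite.restr X.sheaf U).obj F)).comp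
      (secHom X.sheaf U M F), ?_, ?_, ?_⟩
  · intro F
    exact (coordP_injective (X.sheaf.over U) (hT₀ U) π _).comp (secHom_bijective X.sheaf U M F).1
  · intro F x
    refine Iff.trans ?_
      (mem_range_coordP_iff (X.sheaf.over U) (hT₀ U) π q ((ModSite.restr X.sheaf U).obj F) x)
    constructor
    · rintro ⟨s, rfl⟩
      exact ⟨secHom X.sheaf U M F s, rfl⟩
    · rintro ⟨g, rfl⟩
      obtain ⟨s, rfl⟩ := (secHom_bijective X.sheaf U M F).2 g
      exact ⟨s, rfl⟩
  · intro F F' g s j
    change coordP (X.sheaf.over U) (hT₀ U) π _ (secHom X.sheaf U M F' _) j = _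
    rw [secHom_naturality, coordP_comp]
    rfl

end Groth.Agent.Lib.T2H9.ShHom
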