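import Mathlib
import Groth.Agent.Lib.T2H9ShHom3
import Groth.Agent.Lib.T2H6ParShF
import Groth.Agent.S9530

/-!
# T2H9ShHom5: `ℋom(M, -)` commutes with multiplication by global functions (helper9)

Namespace `Groth.Agent.Lib.T2H9.ShHom`.  `SH_map_smulModΓ`, `SH_map_smulMod`.
-/

set_option autoImplicit false
set_option linter.style.haveILetI false
set_option linter.unusedVariables false
set_option linter.unusedSectionVars false
universe u
open CategoryTheory CategoryTheory.Limits Opposite AlgebraicGeometry TopologicalSpace

namespace Groth.Agent.Lib.T2H9.ShHom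

open Groth.Agent.Lib.Helper21 Groth.Agent.Lib.Helper21.ModTensor3

attribute [local instance] Groth.Agent.Lib.Helper21.ExtShDelta.hasSheafHom

variable {X : Scheme.{u}}

/-- `ℋom(M, -)` commutes with multiplication by global functions. -/
theorem SH_map_smulModΓ (M F : X.Modules) (r : Coh.Γtop X) :
    (SH M).map (Formal.smulModΓ F r) = Formal.smulModΓ ((SH M).obj F) r := by
  have adj := ModSite.sheafHomAdj (O := X.sheaf) M
  apply (adj.homEquiv _ _).symm.injective
  rw [Adjunction.homEquiv_counit, Adjunction.homEquiv_counit, Adjunction.counit_naturality]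
  have h1 : (tR X.sheaf M).map (Formal.smulModΓ ((SH M).obj F) r) =
      Formal.smulModΓ ((tR X.sheaf M).obj ((SH M).obj F)) r :=
    Groth.Agent.Lib.T2H6.ParShF.tr_map_smulModΓ M ((SH M).obj F) r
  rw [h1]
  exact (Groth.Agent.S9530.smulModΓ_comp _ r).symm

variable {A : Type u} [CommRing A] [X.Over (Spec (CommRingCat.of A))]

theorem SH_map_smulMod (M F : X.Modules) (a : A) :
    (SH M).map (Formal.smulMod A F a) = Formal.smulMod A ((SH M).obj F) a :=
  SH_map_smulModΓ M F _

end Groth.Agent.Lib.T2H9.ShHom
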