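import Mathlib

/-!
# T2H9ShHomAlg: Artin–Rees for kernels and images, comparison of towers (helper9)

Namespace `Groth.Agent.Lib.T2H9.ShHomAlg`.  `exists_AR1`, `exists_AR2`, `tower_descend`, `tower_injective`,
`tower_surjective`.
-/

set_option autoImplicit false
set_option linter.style.haveILetI false
set_option linter.unusedVariables false
set_option linter.unusedSectionVars false
universe u

namespace Groth.Agent.Lib.T2H9.ShHomAlg

variable {A B : Type u} [CommRing A] [CommRing B] [Algebra A B] (I : Ideal A)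

section basics

variable {Q : Type u} [AddCommGroup Q] [Module A Q] [Module B Q] [IsScalarTower A B Q]

/-- `(IB)^n • N`, viewed over `A`, is `I^n • N`. -/
theorem pow_map_smul_restrictScalars (n : ℕ) (N : Submodule B Q) :
    ((I.map (algebraMap A B)) ^ n • N).restrictScalars A = I ^ n • N.restrictScalars A := by
  rw [← Ideal.map_pow, Ideal.smul_restrictScalars]

theorem mem_pow_map_smul_top_iff (n : ℕ) (x : Q) :
    x ∈ (I.map (algebraMap A B)) ^ n • (⊤ : Submodule B Q) ↔ x ∈ I ^ n • (⊤ : Submodule A Q) := by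
  have h := pow_map_smul_restrictScalars (B := B) I n (⊤ : Submodule B Q)
  rw [Submodule.restrictScalars_top] at h
  rw [← h]
  rfl

end basics

section AR

variable [IsNoetherianRing B]
variable {Q₁ Q₂ : Type u} [AddCommGroup Q₁] [Module A Q₁] [Module B Q₁] [IsScalarTower A B Q₁]
  [Module.Finite B Q₁] [AddCommGroup Q₂] [Module A Q₂] [Module B Q₂] [IsScalarTower A B Q₂]
  [Module.Finite B Q₂] (u : Q₁ →ₗ[B] Q₂)
  {E : Type u} [AddCommGroup E] [Module A E] (Θ : E →ₗ[A] Q₁) (hΘ : Function.Injective Θ)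
  (hΘr : ∀ x, x ∈ Set.range Θ ↔ u x = 0)

include hΘ hΘr in
/-- Artin–Rees for the kernel. -/
theorem exists_AR1 : ∃ c : ℕ, ∀ (m : ℕ) (e : E),
    Θ e ∈ I ^ (m + c) • (⊤ : Submodule A Q₁) → e ∈ I ^ m • (⊤ : Submodule A E) := by
  obtain ⟨k, hk⟩ := Ideal.exists_pow_inf_eq_pow_smul (I.map (algebraMap A B)) (LinearMap.ker u)
  refine ⟨k, fun m e he => ?_⟩
  have h1 : Θ e ∈ (I.map (algebraMap A B)) ^ (m + k) • (⊤ : Submodule B Q₁) ⊓ LinearMap.ker u := by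
    refine ⟨(mem_pow_map_smul_top_iff I (m + k) (Θ e)).2 he, ?_⟩
    exact (hΘr (Θ e)).1 ⟨e, rfl⟩
  rw [hk (m + k) (Nat.le_add_left k m), Nat.add_sub_cancel] at h1
  have h2 : Θ e ∈ (I.map (algebraMap A B)) ^ m • LinearMap.ker u :=
    Submodule.smul_mono le_rfl inf_le_right h1
  have h3 : Θ e ∈ ((I.map (algebraMap A B)) ^ m • LinearMap.ker u).restrictScalars A := h2
  rw [pow_map_smul_restrictScalars] at h3
  have h4 : (LinearMap.ker u).restrictScalars A = Submodule.map Θ ⊤ := by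
    ext x
    constructor
    · intro hx
      obtain ⟨e', he'⟩ := (hΘr x).2 hx
      exact ⟨e', trivial, he'⟩
    · rintro ⟨e', _, rfl⟩
      exact (hΘr (Θ e')).1 ⟨e', rfl⟩
  rw [h4, ← Submodule.map_smul''] at h3
  obtain ⟨e', he', hee⟩ := h3
  rw [← hΘ hee]
  exact he'

include hΘr in
/-- Artin–Rees for the image. -/
theorem exists_AR2 : ∃ c : ℕ, ∀ (m : ℕ) (x : Q₁),
    u x ∈ I ^ (m + c) • (⊤ : Submodule A Q₂) → ∃ e : E, x - Θ e ∈ I ^ m • (⊤ : Submodule A Q₁) := by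
  obtain ⟨k, hk⟩ := Ideal.exists_pow_inf_eq_pow_smul (I.map (algebraMap A B)) (LinearMap.range u)
  refine ⟨k, fun m x hx => ?_⟩
  have h1 : u x ∈ (I.map (algebraMap A B)) ^ (m + k) • (⊤ : Submodule B Q₂) ⊓ LinearMap.range u :=
    ⟨(mem_pow_map_smul_top_iff I (m + k) (u x)).2 hx, ⟨x, rfl⟩⟩
  rw [hk (m + k) (Nat.le_add_left k m), Nat.add_sub_cancel] at h1
  have h2 : u x ∈ (I.map (algebraMap A B)) ^ m • LinearMap.range u :=
    Submodule.smul_mono le_rfl inf_le_right h1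
  rw [LinearMap.range_eq_map, ← Submodule.map_smul''] at h2
  obtain ⟨y, hy, hyx⟩ := h2
  have h3 : u (x - y) = 0 := by rw [map_sub, hyx, sub_self]
  obtain ⟨e, he⟩ := (hΘr (x - y)).2 h3
  refine ⟨e, ?_⟩
  rw [he, sub_sub_cancel]
  exact (mem_pow_map_smul_top_iff I m y).1 hy

end AR

section tower

/-- descending along a tower -/
theorem tower_descend {E : Type u} [AddCommGroup E] {P : ℕ → Type u} [∀ n, AddCommGroup (P n)]
    (q : ∀ n, E →+ P n) (tP : ∀ n, P (n + 1) →+ P n) (htP : ∀ n e, tP n (q (n + 1) e) = q n e)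
    (p : ∀ n, P n) (hp : ∀ n, tP n (p (n + 1)) = p n) :
    ∀ (k n : ℕ) (e : E), q (n + k) e = p (n + k) → q n e = p n := by
  intro k
  induction k with
  | zero => intro n e h; exact h
  | succ k ih =>
    intro n e h
    apply ih
    have h' : q (n + k + 1) e = p (n + k + 1) := h
    have h2 := congrArg (tP (n + k)) h'
    rw [hp, htP] at h2
    exact h2

variable [IsNoetherianRing B]
variable {Q₁ Q₂ : Type u} [AddCommGroup Q₁] [Module A Q₁] [Module B Q₁] [IsScalarTower A B Q₁]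
  [Module.Finite B Q₁] [AddCommGroup Q₂] [Module A Q₂] [Module B Q₂] [IsScalarTower A B Q₂]
  [Module.Finite B Q₂] (u : Q₁ →ₗ[B] Q₂)
  {Q₁n Q₂n : ℕ → Type u} [∀ n, AddCommGroup (Q₁n n)] [∀ n, AddCommGroup (Q₂n n)]
  (π₁ : ∀ n, Q₁ →+ Q₁n n) (π₂ : ∀ n, Q₂ →+ Q₂n n)
  (hπ₁ : ∀ n, Function.Surjective (π₁ n))
  (hk₁ : ∀ n x, π₁ n x = 0 ↔ x ∈ I ^ (n + 1) • (⊤ : Submodule A Q₁))
  (hk₂ : ∀ n x, π₂ n x = 0 ↔ x ∈ I ^ (n + 1) • (⊤ : Submodule A Q₂))
  (t₁ : ∀ n, Q₁n (n + 1) →+ Q₁n n) (ht₁ : ∀ n x, t₁ n (π₁ (n + 1) x) = π₁ n x)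
  (un : ∀ n, Q₁n n →+ Q₂n n) (hun : ∀ n x, un n (π₁ n x) = π₂ n (u x))
  {E : Type u} [AddCommGroup E] [Module A E]
  (Θ : E →ₗ[A] Q₁) (hΘ : Function.Injective Θ) (hΘr : ∀ x, x ∈ Set.range Θ ↔ u x = 0)
  {P R : ℕ → Type u} [∀ n, AddCommGroup (P n)] [∀ n, AddCommGroup (R n)]
  (q : ∀ n, E →+ P n) (hq : ∀ n, Function.Surjective (q n))
  (hqk : ∀ n e, q n e = 0 ↔ e ∈ I ^ (n + 1) • (⊤ : Submodule A E))
  (tP : ∀ n, P (n + 1) →+ P n) (htP : ∀ n e, tP n (q (n + 1) e) = q n e)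
  (tR : ∀ n, R (n + 1) →+ R n) (c : ∀ n, P n →+ R n)
  (Θn : ∀ n, R n →+ Q₁n n) (hΘn : ∀ n, Function.Injective (Θn n))
  (hΘnr : ∀ n y, y ∈ Set.range (Θn n) ↔ un n y = 0)
  (h1 : ∀ n e, Θn n (c n (q n e)) = π₁ n (Θ e))
  (h2 : ∀ n ρ, Θn n (tR n ρ) = t₁ n (Θn (n + 1) ρ))

include hΘ hΘr hk₁ hq hqk htP hΘn h1 in
theorem tower_injective (p : ∀ n, P n) (hp : ∀ n, tP n (p (n + 1)) = p n)
    (hcp : ∀ n, c n (p n) = 0) : ∀ n, p n = 0 := by
  obtain ⟨c₁, hc₁⟩ := exists_AR1 I u Θ hΘ hΘr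
  intro n
  obtain ⟨e, he⟩ := hq (n + c₁) (p (n + c₁))
  have h3 : π₁ (n + c₁) (Θ e) = 0 := by
    rw [← h1, he, hcp, map_zero]
  have h4 : Θ e ∈ I ^ (n + 1 + c₁) • (⊤ : Submodule A Q₁) := by
    have := (hk₁ (n + c₁) (Θ e)).1 h3
    rwa [show n + c₁ + 1 = n + 1 + c₁ by omega] at this
  have h5 : q n e = 0 := (hqk n e).2 (hc₁ (n + 1) e h4)
  rw [← tower_descend q tP htP p hp c₁ n e he, h5]

include hΘ hΘr hπ₁ hk₁ hk₂ ht₁ hun hq hqk htP hΘn hΘnr h1 h2 in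
theorem tower_surjective (r : ∀ n, R n) (hr : ∀ n, tR n (r (n + 1)) = r n) :
    ∃ p : ∀ n, P n, (∀ n, tP n (p (n + 1)) = p n) ∧ ∀ n, c n (p n) = r n := by
  obtain ⟨c₁, hc₁⟩ := exists_AR1 I u Θ hΘ hΘr
  obtain ⟨c₂, hc₂⟩ := exists_AR2 I u Θ hΘr
  set y : ∀ n, Q₁n n := fun n => Θn n (r n) with hy
  have hyt : ∀ n, t₁ n (y (n + 1)) = y n := by
    intro n
    change t₁ n (Θn (n + 1) (r (n + 1))) = Θn n (r n)
    rw [← h2, hr]
  have hyu : ∀ n, un n (y n) = 0 := fun n => (hΘnr n (y n)).1 ⟨r n, rfl⟩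
  -- lifts
  have hx : ∀ m, ∃ x : Q₁, π₁ m x = y m := fun m => hπ₁ m (y m)
  choose x hx using hx
  have hux : ∀ m, u (x m) ∈ I ^ (m + 1) • (⊤ : Submodule A Q₂) := by
    intro m
    apply (hk₂ m _).1
    rw [← hun, hx, hyu]
  have hdesc := tower_descend π₁ t₁ ht₁ y hyt
  have he : ∀ n, ∃ e : E, π₁ n (Θ e) = y n := by
    intro n
    have h3 : u (x (n + c₂)) ∈ I ^ (n + 1 + c₂) • (⊤ : Submodule A Q₂) := by
      have := hux (n + c₂)
      rwa [show n + c₂ + 1 = n + 1 + c₂ by omega] at this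
    obtain ⟨e, he⟩ := hc₂ (n + 1) (x (n + c₂)) h3
    refine ⟨e, ?_⟩
    have h4 : π₁ n (x (n + c₂) - Θ e) = 0 := (hk₁ n _).2 he
    rw [map_sub, sub_eq_zero] at h4
    rw [← h4]
    exact hdesc c₂ n (x (n + c₂)) (hx (n + c₂))
  choose e he using he
  refine ⟨fun n => q n (e (n + c₁)), ?_, ?_⟩
  · intro n
    rw [htP]
    have h3 : π₁ (n + c₁) (Θ (e (n + 1 + c₁) - e (n + c₁))) = 0 := by
      rw [map_sub, map_sub, he (n + c₁), sub_eq_zero]
      have h4 := he (n + 1 + c₁)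
      rw [show n + 1 + c₁ = n + c₁ + 1 by omega] at h4 ⊢
      exact hdesc 1 (n + c₁) _ h4
    have h4 : Θ (e (n + 1 + c₁) - e (n + c₁)) ∈ I ^ (n + 1 + c₁) • (⊤ : Submodule A Q₁) := by
      have := (hk₁ (n + c₁) _).1 h3
      rwa [show n + c₁ + 1 = n + 1 + c₁ by omega] at this
    have h5 : q n (e (n + 1 + c₁) - e (n + c₁)) = 0 := (hqk n _).2 (hc₁ (n + 1) _ h4)
    rw [map_sub, sub_eq_zero] at h5
    exact h5
  · intro n
    apply hΘn n
    rw [h1]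
    exact hdesc c₁ n _ (he (n + c₁))

end tower

end Groth.Agent.Lib.T2H9.ShHomAlg
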