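import Mathlib
import Groth.Agent.Lib.T2H9ShHom5
import Groth.Agent.Lib.T2H9ShHom4
import Groth.Agent.Lib.T2H9ShHomAlg
import Groth.Agent.Lib.T2H9FFGeom3

/-!
# T2H9ShHom6: sections of `F/I^nF` over affine opens; the comparison map (helper9)

Namespace `Groth.Agent.Lib.T2H9.ShHom`.

* `mem_smul_top_pi_iff`; `isQuasicoherent_modPow`, `modPowπ_app_surjective`, `modPowπ_app_eq_zero_iff`
  (`Γ(U, F/I^nF) = Γ(U, F)/I^nΓ(U, F)` for `F` quasi-coherent, `U` affine, `A` Noetherian).
* `matMap` (the linear map given by a matrix).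
* `SH_additive`; `cmp I X M N n : ℋom(M, N)/I^n ⟶ ℋom(M, N/I^nN)`, `modPowπ_cmp`, `cmp_trans`.
-/

set_option autoImplicit false
set_option linter.style.haveILetI false
set_option linter.unusedVariables false
set_option linter.unusedSectionVars false
universe u
open CategoryTheory CategoryTheory.Limits Opposite AlgebraicGeometry TopologicalSpace

namespace Groth.Agent.Lib.T2H9.ShHom

open Groth.Agent.Lib.Helper21 Groth.Agent.Lib.Helper21.ModTensor3 Groth.Agent.Lib.T2H9.FFGeom

attribute [local instance] Groth.Agent.Lib.Helper21.ExtShDelta.hasSheafHom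

section pi

variable {A : Type u} [CommRing A] (J : Ideal A) {Q : Type u} [AddCommGroup Q] [Module A Q]

theorem mem_smul_top_pi_iff (b : ℕ) (x : Fin b → Q) :
    x ∈ J • (⊤ : Submodule A (Fin b → Q)) ↔ ∀ j, x j ∈ J • (⊤ : Submodule A Q) := by
  constructor
  · intro hx j
    have h1 : (LinearMap.proj j : (Fin b → Q) →ₗ[A] Q) x ∈
        Submodule.map (LinearMap.proj j : (Fin b → Q) →ₗ[A] Q) (J • ⊤) := ⟨x, hx, rfl⟩
    rw [Submodule.map_smul''] at h1
    exact Submodule.smul_mono le_rfl le_top h1
  · intro hx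
    have h1 : x = ∑ j, (LinearMap.single A (fun _ : Fin b => Q) j) (x j) := by
      funext k
      simp [Finset.sum_apply, Pi.single_apply]
    rw [h1]
    refine Submodule.sum_mem _ fun j _ => ?_
    have h2 : (LinearMap.single A (fun _ : Fin b => Q) j) (x j) ∈
        Submodule.map (LinearMap.single A (fun _ : Fin b => Q) j) (J • ⊤) := ⟨x j, hx j, rfl⟩
    rw [Submodule.map_smul''] at h2
    exact Submodule.smul_mono le_rfl le_top h2

end pi

section modPow

variable {A : Type u} [CommRing A] [IsNoetherianRing A] (I : Ideal A)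
variable (X : Scheme.{u}) [X.Over (Spec (CommRingCat.of A))] (F : X.Modules) [F.IsQuasicoherent]

theorem isQuasicoherent_modPow (n : ℕ) : (Formal.modPow I n F).IsQuasicoherent := by
  haveI := isQuasicoherent_sigmaJ X F (I ^ n)
  exact Groth.Agent.Lib.Helper23.QCohLocal.isQuasicoherent_cokernel _

theorem modPowπ_app_surjective (n : ℕ) {U : X.Opens} (hU : IsAffineOpen U) :
    Function.Surjective ((Formal.modPowπ I n F).app U) := by
  haveI := isQuasicoherent_modPow I X F n
  haveI : Epi (Formal.modPowπ I n F) := by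
    unfold Formal.modPowπ; exact coequalizer.π_epi
  exact Groth.Agent.Lib.Helper23.FinType.surjective_app_of_epi _ hU

theorem modPowπ_app_eq_zero_iff (n : ℕ) {U : X.Opens} (hU : IsAffineOpen U) (x : Γ(F, U)) :
    (Formal.modPowπ I n F).app U x = 0 ↔
      (show MA X F U from x) ∈ (I ^ n • ⊤ : Submodule A (MA X F U)) := by
  obtain ⟨r, g, hg⟩ := (Submodule.fg_iff_exists_fin_generating_family).1
    (IsNoetherian.noetherian (I ^ n))
  constructor
  · intro hx
    obtain ⟨y, hy⟩ := Groth.Agent.Lib.T2H5.IdealMul.exists_kernel_app_eq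
      (cokernel.π (Formal.smulFamily (I ^ n) F)) U x hx
    have := pwJι_app_mem X F g (I ^ n) hg hU y
    rw [← hy]
    exact this
  · intro hx
    obtain ⟨y, hy⟩ := mem_range_pwJι_of_mem X F (I ^ n) U x hx
    rw [← hy]
    have h1 : pwJι X F (I ^ n) ≫ Formal.modPowπ I n F = 0 := kernel.condition _
    have h2 := congrArg (fun k => (Scheme.Modules.Hom.app k U) y) h1
    exact h2

end modPow

section matrix

variable {B : Type u} [CommRing B] {Q Q' : Type u} [AddCommGroup Q] [Module B Q]
  [AddCommGroup Q'] [Module B Q'] {b₀ b₁ : ℕ} (a : Fin b₁ → Fin b₀ → B)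

/-- the map given by a matrix -/
noncomputable def matMap : (Fin b₀ → Q) →ₗ[B] (Fin b₁ → Q) :=
  LinearMap.pi (fun i => ∑ j, a i j • (LinearMap.proj j : (Fin b₀ → Q) →ₗ[B] Q))

theorem matMap_apply (x : Fin b₀ → Q) (i : Fin b₁) : matMap a x i = ∑ j, a i j • x j := by
  simp [matMap]

theorem matMap_eq_zero_iff (x : Fin b₀ → Q) : matMap a x = 0 ↔ ∀ i, ∑ j, a i j • x j = 0 := by
  constructor
  · intro h i
    rw [← matMap_apply, h]
    rfl
  · intro h
    funext i
    rw [matMap_apply, h i]
    rfl

theorem matMap_comp (f : Q →ₗ[B] Q') (x : Fin b₀ → Q) (i : Fin b₁) :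
    matMap a (fun j => f (x j)) i = f (matMap a x i) := by
  rw [matMap_apply, matMap_apply, map_sum]
  refine Finset.sum_congr rfl fun j _ => ?_
  rw [map_smul]

end matrix

section additive

variable {X : Scheme.{u}}

instance SH_additive (M : X.Modules) : (SH M).Additive :=
  Adjunction.right_adjoint_additive (ModSite.sheafHomAdj (O := X.sheaf) M)

end additive

section comparison

variable {A : Type u} [CommRing A] (I : Ideal A)
variable (X : Scheme.{u}) [X.Over (Spec (CommRingCat.of A))] (M N : X.Modules)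

/-- the comparison map `ℋom(M, N)/I^n → ℋom(M, N/I^n N)` -/
noncomputable def cmp (n : ℕ) :
    Formal.modPow I n ((SH M).obj N) ⟶ (SH M).obj (Formal.modPow I n N) :=
  cokernel.desc _ ((SH M).map (Formal.modPowπ I n N)) (by
    rw [Groth.Agent.S9530.smulFamily_comp_eq_zero_iff]
    intro a ha
    rw [← SH_map_smulMod, ← Functor.map_comp]
    have h : Formal.smulMod A N a ≫ Formal.modPowπ I n N = 0 :=
      smulMod_comp_cokernel X N (I ^ n) a ha
    rw [h, Functor.map_zero])

theorem modPowπ_cmp (n : ℕ) :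
    Formal.modPowπ I n ((SH M).obj N) ≫ cmp I X M N n = (SH M).map (Formal.modPowπ I n N) :=
  cokernel.π_desc _ _ _

theorem cmp_trans (n : ℕ) :
    Formal.modPowTrans I n ((SH M).obj N) ≫ cmp I X M N n =
      cmp I X M N (n + 1) ≫ (SH M).map (Formal.modPowTrans I n N) := by
  haveI : Epi (Formal.modPowπ I (n + 1) ((SH M).obj N)) := by
    unfold Formal.modPowπ; exact coequalizer.π_epi
  rw [← cancel_epi (Formal.modPowπ I (n + 1) ((SH M).obj N))]
  rw [← Category.assoc, Formal.modPowπ_trans, modPowπ_cmp, ← Category.assoc, modPowπ_cmp,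
    ← Functor.map_comp, Formal.modPowπ_trans]

end comparison

end Groth.Agent.Lib.T2H9.ShHom
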