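import Mathlib
import Groth.Agent.Lib.T2H9ShHom6

/-!
# T2H9ShHom7: the comparison of towers over an affine open (helper9)

Namespace `Groth.Agent.Lib.T2H9.ShHom`.  `tower_affine`: for `M`, `N` coherent on a locally Noetherian scheme over a Noetherian
ring `A` and `U` affine, `lim_n Γ(U, ℋom(M,N)/I^{n+1}) → lim_n Γ(U, ℋom(M, N/I^{n+1}N))` is bijective (Artin–Rees).
-/

set_option autoImplicit false
set_option linter.style.haveILetI false
set_option linter.unusedVariables false
set_option linter.unusedSectionVars false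
universe u
open CategoryTheory CategoryTheory.Limits Opposite AlgebraicGeometry TopologicalSpace

namespace Groth.Agent.Lib.T2H9.ShHom

open Groth.Agent.Lib.Helper21 Groth.Agent.Lib.Helper21.ModTensor3 Groth.Agent.Lib.T2H9.FFGeom
  Groth.Agent.Lib.T2H9.ShHomAlg

attribute [local instance] Groth.Agent.Lib.Helper21.ExtShDelta.hasSheafHom

variable {A : Type u} [CommRing A]
variable (X : Scheme.{u}) [X.Over (Spec (CommRingCat.of A))]

/-- `Γ(X, U)` as an `A`-algebra -/
@[instance_reducible]
noncomputable def algU (U : X.Opens) : Algebra A Γ(X, U) := (ρU X U).toAlgebra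

attribute [local instance] algU

noncomputable instance modBMA (F : X.Modules) (U : X.Opens) : Module Γ(X, U) (MA X F U) :=
  inferInstanceAs (Module Γ(X, U) Γ(F, U))

instance towerMA (F : X.Modules) (U : X.Opens) : IsScalarTower A Γ(X, U) (MA X F U) where
  smul_assoc a b m := by
    change ((ρU X U a * b : Γ(X, U)) • (show Γ(F, U) from m) : Γ(F, U)) =
      ((ρU X U a : Γ(X, U)) • ((b • (show Γ(F, U) from m) : Γ(F, U))) : Γ(F, U))
    rw [mul_smul]

section towers

variable [IsNoetherianRing A] (I : Ideal A) (M N : X.Modules)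

/-- the tower `ℋom(M,N)/I^{n+1}` -/
noncomputable abbrev tP (n : ℕ) : X.Modules := Formal.modPow I (n + 1) ((SH M).obj N)

/-- the tower `ℋom(M, N/I^{n+1})` -/
noncomputable abbrev tR (n : ℕ) : X.Modules := (SH M).obj (Formal.modPow I (n + 1) N)

theorem tower_affine [IsLocallyNoetherian X] (hM : Coh.IsCoh M) (hN : Coh.IsCoh N)
    (hH : ((SH M).obj N).IsQuasicoherent)
    (U : X.Opens) (hU : IsAffineOpen U) :
    TowerInj (tP X I M N) (tR X I M N) (fun n => Formal.modPowTrans I (n + 1) ((SH M).obj N))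
      (fun n => cmp I X M N (n + 1)) U ∧
    TowerSurj (tP X I M N) (tR X I M N) (fun n => Formal.modPowTrans I (n + 1) ((SH M).obj N))
      (fun n => (SH M).map (Formal.modPowTrans I (n + 1) N))
      (fun n => cmp I X M N (n + 1)) U := by
  haveI := hN.1
  haveI := hN.2
  obtain ⟨b₀, b₁, a, Θ, hΘi, hΘr, hΘn⟩ := exists_local_coord M hM U hU
  haveI : IsNoetherianRing Γ(X, U) := IsLocallyNoetherian.component_noetherian ⟨U, hU⟩
  haveI : Module.Finite Γ(X, U) (MA X N U) :=
    Groth.Agent.Lib.Helper23.FinType.finite_of_isFiniteType N hU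
  -- the linear map `Θ_N`
  let ΘN : MA X ((SH M).obj N) U →ₗ[A] (Fin b₀ → MA X N U) :=
    { toFun := fun e => Θ N e
      map_add' := fun e e' => map_add (Θ N) e e'
      map_smul' := by
        intro r e
        funext j
        have h := hΘn (Formal.smulMod A N r) e j
        rw [SH_map_smulMod] at h
        exact h }
  have hΘN : Function.Injective ΘN := hΘi N
  let u : (Fin b₀ → MA X N U) →ₗ[Γ(X, U)] (Fin b₁ → MA X N U) := matMap a
  have hΘNr : ∀ x, x ∈ Set.range ΘN ↔ u x = 0 := by
    intro x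
    rw [matMap_eq_zero_iff]
    exact hΘr N x
  -- the towers of `N`
  let Nn : ℕ → X.Modules := fun n => Formal.modPow I (n + 1) N
  let π₁ : ∀ n, (Fin b₀ → MA X N U) →+ (Fin b₀ → Γ(Nn n, U)) := fun n =>
    { toFun := fun x j => (Formal.modPowπ I (n + 1) N).app U (x j)
      map_zero' := by funext j; exact map_zero _
      map_add' := fun x y => by funext j; exact map_add _ _ _ }
  let π₂ : ∀ n, (Fin b₁ → MA X N U) →+ (Fin b₁ → Γ(Nn n, U)) := fun n =>
    { toFun := fun x j => (Formal.modPowπ I (n + 1) N).app U (x j)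
      map_zero' := by funext j; exact map_zero _
      map_add' := fun x y => by funext j; exact map_add _ _ _ }
  have hπ₁ : ∀ n, Function.Surjective (π₁ n) := by
    intro n y
    have h := modPowπ_app_surjective I X N (n + 1) hU
    choose x hx using h
    exact ⟨fun j => x (y j), funext fun j => hx (y j)⟩
  have hk₁ : ∀ n x, π₁ n x = 0 ↔ x ∈ I ^ (n + 1) • (⊤ : Submodule A (Fin b₀ → MA X N U)) := by
    intro n x
    rw [mem_smul_top_pi_iff]
    constructor
    · intro h j
      exact (modPowπ_app_eq_zero_iff I X N (n + 1) hU (x j)).1 (congrFun h j)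
    · intro h
      funext j
      exact (modPowπ_app_eq_zero_iff I X N (n + 1) hU (x j)).2 (h j)
  have hk₂ : ∀ n x, π₂ n x = 0 ↔ x ∈ I ^ (n + 1) • (⊤ : Submodule A (Fin b₁ → MA X N U)) := by
    intro n x
    rw [mem_smul_top_pi_iff]
    constructor
    · intro h j
      exact (modPowπ_app_eq_zero_iff I X N (n + 1) hU (x j)).1 (congrFun h j)
    · intro h
      funext j
      exact (modPowπ_app_eq_zero_iff I X N (n + 1) hU (x j)).2 (h j)
  let t₁ : ∀ n, (Fin b₀ → Γ(Nn (n + 1), U)) →+ (Fin b₀ → Γ(Nn n, U)) := fun n =>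
    { toFun := fun x j => (Formal.modPowTrans I (n + 1) N).app U (x j)
      map_zero' := by funext j; exact map_zero _
      map_add' := fun x y => by funext j; exact map_add _ _ _ }
  have ht₁ : ∀ n x, t₁ n (π₁ (n + 1) x) = π₁ n x := by
    intro n x
    funext j
    have h := Formal.modPowπ_trans I (n + 1) N
    exact congrArg (fun k => (Scheme.Modules.Hom.app k U) (x j)) h
  let un : ∀ n, (Fin b₀ → Γ(Nn n, U)) →+ (Fin b₁ → Γ(Nn n, U)) := fun n =>
    (matMap (Q := Γ(Nn n, U)) a).toAddMonoidHom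
  have hun : ∀ n x, un n (π₁ n x) = π₂ n (u x) := by
    intro n x
    funext i
    change matMap (Q := Γ(Nn n, U)) a (fun j => (Formal.modPowπ I (n + 1) N).app U (x j)) i =
      (Formal.modPowπ I (n + 1) N).app U (matMap a x i)
    rw [matMap_apply, matMap_apply, map_sum]
    refine Finset.sum_congr rfl fun j _ => ?_
    exact (Scheme.Modules.Hom.app_smul (Formal.modPowπ I (n + 1) N) (a i j) (x j)).symm
  -- the towers `P`, `R`
  let H : X.Modules := (SH M).obj N
  let q : ∀ n, MA X H U →+ Γ(tP X I M N n, U) := fun n =>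
    ((Formal.modPowπ I (n + 1) H).app U).hom
  have hq : ∀ n, Function.Surjective (q n) := fun n => modPowπ_app_surjective I X H (n + 1) hU
  have hqk : ∀ n e, q n e = 0 ↔ e ∈ I ^ (n + 1) • (⊤ : Submodule A (MA X H U)) := fun n e =>
    modPowπ_app_eq_zero_iff I X H (n + 1) hU e
  let tPa : ∀ n, Γ(tP X I M N (n + 1), U) →+ Γ(tP X I M N n, U) := fun n =>
    ((Formal.modPowTrans I (n + 1) H).app U).hom
  have htP : ∀ n e, tPa n (q (n + 1) e) = q n e := by
    intro n e
    have h := Formal.modPowπ_trans I (n + 1) H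
    exact congrArg (fun k => (Scheme.Modules.Hom.app k U) e) h
  let tRa : ∀ n, Γ(tR X I M N (n + 1), U) →+ Γ(tR X I M N n, U) := fun n =>
    (((SH M).map (Formal.modPowTrans I (n + 1) N)).app U).hom
  let ca : ∀ n, Γ(tP X I M N n, U) →+ Γ(tR X I M N n, U) := fun n =>
    ((cmp I X M N (n + 1)).app U).hom
  let Θn : ∀ n, Γ(tR X I M N n, U) →+ (Fin b₀ → Γ(Nn n, U)) := fun n => Θ (Nn n)
  have hΘni : ∀ n, Function.Injective (Θn n) := fun n => hΘi (Nn n)
  have hΘnr : ∀ n y, y ∈ Set.range (Θn n) ↔ un n y = 0 := by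
    intro n y
    change _ ↔ matMap (Q := Γ(Nn n, U)) a y = 0
    rw [matMap_eq_zero_iff]
    exact hΘr (Nn n) y
  have h1 : ∀ n e, Θn n (ca n (q n e)) = π₁ n (ΘN e) := by
    intro n e
    funext j
    have h := modPowπ_cmp I X M N (n + 1)
    have h' : ca n (q n e) = ((SH M).map (Formal.modPowπ I (n + 1) N)).val.app (op U) e :=
      congrArg (fun k => (Scheme.Modules.Hom.app k U) e) h
    rw [h']
    exact hΘn (Formal.modPowπ I (n + 1) N) e j
  have h2 : ∀ n ρ, Θn n (tRa n ρ) = t₁ n (Θn (n + 1) ρ) := by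
    intro n ρ
    funext j
    exact hΘn (Formal.modPowTrans I (n + 1) N) ρ j
  constructor
  · intro p hp hcp
    exact tower_injective I u π₁ hk₁ ΘN hΘN hΘNr q hq hqk tPa htP ca Θn hΘni h1 p hp hcp
  · intro r hr
    exact tower_surjective I u π₁ π₂ hπ₁ hk₁ hk₂ t₁ ht₁ un hun ΘN hΘN hΘNr q hq hqk tPa htP tRa ca
      Θn hΘni hΘnr h1 h2 r hr

end towers

end Groth.Agent.Lib.T2H9.ShHom
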