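import Mathlib
import Groth.Agent.Lib.T2H9ShHom7

/-!
# T2H9ShHom8: coherence of `ℋom(M, N)`; the comparison of towers over `X` (helper9)

Namespace `Groth.Agent.Lib.T2H9.ShHom`.  `isCoh_SH`, `tower_top`.
-/

set_option autoImplicit false
set_option linter.style.haveILetI false
set_option linter.unusedVariables false
set_option linter.unusedSectionVars false
universe u
open CategoryTheory CategoryTheory.Limits Opposite AlgebraicGeometry TopologicalSpace

namespace Groth.Agent.Lib.T2H9.ShHom

open Groth.Agent.Lib.Helper21 Groth.Agent.Lib.Helper21.ModTensor3 Groth.Agent.Lib.T2H9.FFGeom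

attribute [local instance] Groth.Agent.Lib.Helper21.ExtShDelta.hasSheafHom

variable {A : Type u} [CommRing A]
variable (X : Scheme.{u}) [X.Over (Spec (CommRingCat.of A))]

/-- coherence of `ℋom(M, N)` -/
theorem isCoh_SH [IsLocallyNoetherian X] (M N : X.Modules) (hM : Coh.IsCoh M) (hN : Coh.IsCoh N) :
    Coh.IsCoh ((SH M).obj N) := by
  haveI h2 : EnoughInjectives (ModSite.Mod X.sheaf) :=
    Groth.Agent.S0485.result (Opens.grothendieckTopology X) _
  haveI h3 : HasInjectiveResolutions (ModSite.Mod X.sheaf) := inferInstance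
  haveI h4 : PreservesFiniteLimits (ModSite.sheafHom (O := X.sheaf) M) :=
    Groth.Agent.Lib.Helper21.ExtShDelta.sheafHom_preservesFiniteLimits X.sheaf M
  exact Groth.Agent.Lib.T2H4.ExtShCoh.isCoh_sheafHom_aux (X := X) M N hM hN

variable [IsNoetherianRing A] (I : Ideal A) (M N : X.Modules)

/-- the map on limits of global sections `lim Γ(X, ℋom(M,N)/I^{n+1}) → lim Γ(X, ℋom(M, N/I^{n+1}N))` is bijective -/
theorem tower_top [IsLocallyNoetherian X] (hM : Coh.IsCoh M) (hN : Coh.IsCoh N) :
    TowerInj (tP X I M N) (tR X I M N) (fun n => Formal.modPowTrans I (n + 1) ((SH M).obj N))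
      (fun n => cmp I X M N (n + 1)) ⊤ ∧
    TowerSurj (tP X I M N) (tR X I M N) (fun n => Formal.modPowTrans I (n + 1) ((SH M).obj N))
      (fun n => (SH M).map (Formal.modPowTrans I (n + 1) N))
      (fun n => cmp I X M N (n + 1)) ⊤ := by
  have hH := (isCoh_SH X M N hM hN).1
  have hloc := fun U : X.affineOpens => tower_affine X I M N hM hN hH U.1 U.2
  refine ⟨towerInj_top _ _ _ _ (fun U => (hloc U).1), ?_⟩
  exact towerSurj_top _ _ _ _ _ (fun n => cmp_trans I X M N (n + 1)) (fun U => (hloc U).1)
    (fun U => (hloc U).2)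

end Groth.Agent.Lib.T2H9.ShHom
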