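import Mathlib
import Groth.Agent.Lib.T2H9ShHom8
import Groth.Agent.Lib.T2H9FormalFF

/-!
# T2H9ShHom9: full faithfulness of completion from formal functions for `ℋom(M, N)` (helper9)

Namespace `Groth.Agent.Lib.T2H9.ShHom`.

* `γ : H^0(X, F) ≃+ Γ(X, F)`, `sections_of_toHHlim_bijective`.
* `Φg : Γ(X, ℋom(M, F)) ≃+ Hom(M, F)`, natural in `F`.
* `existsUnique_hom_of_bijective`: if `H^0(X, ℋom(M,N)) → lim_n H^0(X, ℋom(M,N)/I^{n+1})` is bijective, every morphism of
  inverse systems `(M/I^{n+1}M) → (N/I^{n+1}N)` comes from a unique `M ⟶ N` (`M`, `N` coherent, `X` locally Noetherian).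
-/

set_option autoImplicit false
set_option linter.style.haveILetI false
set_option linter.unusedVariables false
set_option linter.unusedSectionVars false
universe u
open CategoryTheory CategoryTheory.Limits Opposite AlgebraicGeometry TopologicalSpace

namespace Groth.Agent.Lib.T2H9.ShHom

open Groth.Agent.Lib.Helper21 Groth.Agent.Lib.Helper21.ModTensor3 Groth.Agent.Lib.T2H9.FFGeom

attribute [local instance] Groth.Agent.Lib.Helper21.ExtShDelta.hasSheafHom

variable {A : Type u} [CommRing A]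
variable (X : Scheme.{u}) [X.Over (Spec (CommRingCat.of A))]

/-- `H^0(X, F) ≃+ Γ(X, F)` -/
noncomputable def γ (F : X.Modules) : Coh.HH X F 0 ≃+ Γ(F, ⊤) :=
  Sheaf.H.equiv₀ ((SheafOfModules.toSheaf X.ringCatSheaf).obj F) isTerminalTop

theorem γ_naturality {F G : X.Modules} (φ : F ⟶ G) (x : Coh.HH X F 0) :
    γ X G (Sheaf.H.map ((SheafOfModules.toSheaf _).map φ) 0 x) = φ.app ⊤ (γ X F x) :=
  (Sheaf.H.equiv₀_naturality isTerminalTop ((SheafOfModules.toSheaf X.ringCatSheaf).map φ) x).symm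

variable (I : Ideal A)

/-- the sections form of the bijectivity of `H^0(X, F) → lim H^0(X, F/I^{n+1}F)` -/
theorem sections_of_toHHlim_bijective (F : X.Modules)
    (hbij : Function.Bijective (Formal.toHHlim I F 0)) :
    (∀ p : ∀ n, Γ(Formal.modPow I (n + 1) F, ⊤),
      (∀ n, (Formal.modPowTrans I (n + 1) F).app ⊤ (p (n + 1)) = p n) →
        ∃ s : Γ(F, ⊤), ∀ n, (Formal.modPowπ I (n + 1) F).app ⊤ s = p n) ∧
    (∀ s : Γ(F, ⊤), (∀ n, (Formal.modPowπ I (n + 1) F).app ⊤ s = 0) → s = 0) := by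
  constructor
  · intro p hp
    let x : ∀ n, Formal.HHmodPow I F 0 n := fun n => (γ X _).symm (p n)
    have hx : ∀ n, Formal.HHmodPowTrans I F 0 n (x (n + 1)) = x n := by
      intro n
      apply (γ X _).injective
      change γ X _ (Sheaf.H.map ((SheafOfModules.toSheaf _).map (Formal.modPowTrans I (n + 1) F)) 0
        (x (n + 1))) = _
      rw [γ_naturality, AddEquiv.apply_symm_apply, AddEquiv.apply_symm_apply, hp]
    obtain ⟨x₀, hx₀⟩ := hbij.2 ⟨x, hx⟩
    refine ⟨γ X F x₀, fun n => ?_⟩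
    have h1 : Formal.toHHmodPow I F 0 n x₀ = x n :=
      congrArg (fun z : Formal.HHlim I F 0 => z.1 n) hx₀
    have h2 := γ_naturality X (Formal.modPowπ I (n + 1) F) x₀
    rw [← h2]
    change γ X _ (Formal.toHHmodPow I F 0 n x₀) = p n
    rw [h1, AddEquiv.apply_symm_apply]
  · intro s hs
    have h1 : Formal.toHHlim I F 0 ((γ X F).symm s) = 0 := by
      apply Subtype.ext
      funext n
      change Formal.toHHmodPow I F 0 n ((γ X F).symm s) = 0
      apply (γ X _).injective
      change γ X _ (Sheaf.H.map ((SheafOfModules.toSheaf _).map (Formal.modPowπ I (n + 1) F)) 0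
        ((γ X F).symm s)) = _
      rw [γ_naturality, AddEquiv.apply_symm_apply, hs, map_zero]
    have h2 := hbij.1 (h1.trans (map_zero _).symm)
    rw [← (γ X F).apply_symm_apply s, h2, map_zero]

/-- `Γ(X, ℋom(M, F)) ≃+ Hom(M, F)` -/
noncomputable def Φg (M F : X.Modules) : Γ((SH M).obj F, ⊤) ≃+ (M ⟶ F) :=
  homSecAddEquiv X.sheaf isTerminalTop M F

theorem Φg_naturality (M : X.Modules) {F F' : X.Modules} (g : F ⟶ F') (s : Γ((SH M).obj F, ⊤)) :
    Φg X M F' (((SH M).map g).app ⊤ s) = Φg X M F s ≫ g :=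
  homSecAddEquiv_naturality X.sheaf isTerminalTop M g s

/-- **full faithfulness of the completion functor** on a pair of coherent modules, given the
theorem on formal functions in degree `0` for `ℋom(M, N)`. -/
theorem existsUnique_hom_of_bijective [IsNoetherianRing A] [IsLocallyNoetherian X]
    (M N : X.Modules) (hM : Coh.IsCoh M) (hN : Coh.IsCoh N)
    (hbij : Function.Bijective (Formal.toHHlim I ((SH M).obj N) 0))
    (ψ : Formal.completion I M ⟶ Formal.completion I N) :
    ∃! φ : M ⟶ N, ∀ n : ℕ,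
      Formal.modPowπ I (n + 1) M ≫ ψ.app (op n) = φ ≫ Formal.modPowπ I (n + 1) N := by
  obtain ⟨hsurj, hinj⟩ := sections_of_toHHlim_bijective X I ((SH M).obj N) hbij
  obtain ⟨hTI, hTS⟩ := tower_top X I M N hM hN
  let ψn : ∀ n : ℕ, Formal.modPow I (n + 1) M ⟶ Formal.modPow I (n + 1) N := fun n => ψ.app (op n)
  have hψn : ∀ n, Formal.modPowTrans I (n + 1) M ≫ ψn n =
      ψn (n + 1) ≫ Formal.modPowTrans I (n + 1) N := by
    intro n
    have hnat := ψ.naturality (homOfLE (Nat.le_succ n)).op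
    rw [Groth.Agent.Lib.T2H9.FormalFF.completion_map_succ,
      Groth.Agent.Lib.T2H9.FormalFF.completion_map_succ] at hnat
    exact hnat
  let w : ∀ n : ℕ, M ⟶ Formal.modPow I (n + 1) N := fun n => Formal.modPowπ I (n + 1) M ≫ ψn n
  have hw : ∀ n, w (n + 1) ≫ Formal.modPowTrans I (n + 1) N = w n := by
    intro n
    change (Formal.modPowπ I (n + 1 + 1) M ≫ ψn (n + 1)) ≫ Formal.modPowTrans I (n + 1) N =
      Formal.modPowπ I (n + 1) M ≫ ψn n
    rw [Category.assoc, ← hψn, ← Category.assoc, Formal.modPowπ_trans]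
  -- the compatible family of sections of `ℋom(M, N/I^{n+1})`
  let r : ∀ n, Γ(tR X I M N n, ⊤) := fun n => (Φg X M _).symm (w n)
  have hr : ∀ n, ((SH M).map (Formal.modPowTrans I (n + 1) N)).app ⊤ (r (n + 1)) = r n := by
    intro n
    apply (Φg X M _).injective
    rw [Φg_naturality, AddEquiv.apply_symm_apply, AddEquiv.apply_symm_apply, hw]
  -- key: sections `s` of `ℋom(M,N)` whose images are the `r n`
  have key : ∀ (φ : M ⟶ N), (∀ n, w n = φ ≫ Formal.modPowπ I (n + 1) N) ↔
      ∀ n, (cmp I X M N (n + 1)).app ⊤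
        ((Formal.modPowπ I (n + 1) ((SH M).obj N)).app ⊤ ((Φg X M N).symm φ)) = r n := by
    intro φ
    have h1 : ∀ n, (cmp I X M N (n + 1)).app ⊤
        ((Formal.modPowπ I (n + 1) ((SH M).obj N)).app ⊤ ((Φg X M N).symm φ)) =
        ((SH M).map (Formal.modPowπ I (n + 1) N)).app ⊤ ((Φg X M N).symm φ) := by
      intro n
      have h := modPowπ_cmp I X M N (n + 1)
      exact congrArg (fun k => (Scheme.Modules.Hom.app k ⊤) ((Φg X M N).symm φ)) h
    constructor
    · intro h n
      rw [h1]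
      apply (Φg X M _).injective
      rw [Φg_naturality, AddEquiv.apply_symm_apply, AddEquiv.apply_symm_apply, h]
    · intro h n
      have h2 := h n
      rw [h1] at h2
      have h3 := congrArg (Φg X M _) h2
      rw [Φg_naturality, AddEquiv.apply_symm_apply, AddEquiv.apply_symm_apply] at h3
      exact h3.symm
  obtain ⟨p, hp, hcp⟩ := hTS r hr
  obtain ⟨s, hs⟩ := hsurj p hp
  refine ⟨Φg X M N s, ?_, ?_⟩
  · change ∀ n, w n = _
    rw [key]
    intro n
    rw [AddEquiv.symm_apply_apply, hs, hcp]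
  · intro φ' hφ'
    have h' := (key φ').1 hφ'
    set s' := (Φg X M N).symm φ' with hs'
    have h0 : ∀ n, (Formal.modPowπ I (n + 1) ((SH M).obj N)).app ⊤ (s' - s) = 0 := by
      refine hTI (fun n => (Formal.modPowπ I (n + 1) ((SH M).obj N)).app ⊤ (s' - s)) ?_ ?_
      · intro n
        have h := Formal.modPowπ_trans I (n + 1) ((SH M).obj N)
        exact congrArg (fun k => (Scheme.Modules.Hom.app k ⊤) (s' - s)) h
      · intro n
        rw [map_sub, map_sub, h', hs, hcp, sub_self]
    have h2 := hinj (s' - s) h0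
    rw [sub_eq_zero] at h2
    rw [← h2, hs', AddEquiv.apply_symm_apply]

end Groth.Agent.Lib.T2H9.ShHom
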