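import Mathlib
import Groth.Agent.Lib.T2H9ShHom9
import Groth.Agent.Lib.T2H9FFSuppMain
import Groth.Agent.Lib.T2H5AnnIdeal

/-!
# T2H9ShHom10: support of `ℋom(M, N)`; full faithfulness of completion with proper supports (helper9)

Namespace `Groth.Agent.Lib.T2H9.ShHom`.

* `support_SH_subset : Supp ℋom(M,N) ⊆ Supp M ∩ Supp N`; `isProperOver_of_subset`, `isProperOver_of_isProper`,
  `isClosed_support`.
* `existsUnique_hom_of_properSupport_inter` (S4473, S0798, S0060).
-/

set_option autoImplicit false
set_option linter.style.haveILetI false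
set_option linter.unusedVariables false
set_option linter.unusedSectionVars false
universe u
open CategoryTheory CategoryTheory.Limits Opposite AlgebraicGeometry TopologicalSpace

namespace Groth.Agent.Lib.T2H9.ShHom

open Groth.Agent.Lib.Helper21 Groth.Agent.Lib.Helper21.ModTensor3 Groth.Agent.Lib.T2H9.FFGeom
  Groth.Agent.Lib.Helper6

attribute [local instance] Groth.Agent.Lib.Helper21.ExtShDelta.hasSheafHom

variable {X : Scheme.{u}}

/-- sections over an open on which all stalks vanish -/
theorem subsingleton_sections_of_stalks (F : X.Modules) (V : X.Opens)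
    (hV : ∀ x ∈ V, Subsingleton (F.presheaf.stalk x)) : Subsingleton Γ(F, V) := by
  refine ⟨fun s t => ?_⟩
  refine TopCat.Presheaf.section_ext ⟨F.presheaf, F.isSheaf⟩ _ s t fun x hx => ?_
  haveI := hV x hx
  exact Subsingleton.elim _ _

/-- the stalk vanishes if the sections over all small opens do -/
theorem subsingleton_stalk_of_sections (F : X.Modules) (x : X) (W : X.Opens) (hxW : x ∈ W)
    (h : ∀ V : X.Opens, V ≤ W → Subsingleton Γ(F, V)) : Subsingleton (F.presheaf.stalk x) := by
  have h0 : ∀ a : F.presheaf.stalk x, a = 0 := by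
    intro a
    obtain ⟨V, hxV, s, rfl⟩ := TopCat.Presheaf.exists_germ_eq F.presheaf a
    have h1 := TopCat.Presheaf.germ_res_apply F.presheaf (homOfLE (inf_le_left : V ⊓ W ≤ V)) x
      ⟨hxV, hxW⟩ s
    rw [← h1]
    haveI := h (V ⊓ W) inf_le_right
    rw [Subsingleton.elim (F.presheaf.map (homOfLE (inf_le_left : V ⊓ W ≤ V)).op s) 0, map_zero]
  exact ⟨fun a b => (h0 a).trans (h0 b).symm⟩

/-- the restriction to `V` of a module all of whose sections over opens inside `V` vanish is zero -/
theorem isZero_restr_of_sections (F : X.Modules) (V : X.Opens)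
    (h : ∀ W : X.Opens, W ≤ V → Subsingleton Γ(F, W)) :
    IsZero ((ModSite.restr X.sheaf V).obj F) := by
  rw [IsZero.iff_id_eq_zero]
  apply SheafOfModules.hom_ext
  apply PresheafOfModules.hom_ext
  intro W
  ext s
  haveI : Subsingleton Γ(F, W.unop.left) := h W.unop.left (leOfHom W.unop.hom)
  exact Subsingleton.elim (α := Γ(F, W.unop.left)) _ _

/-- sections of `ℋom(M, N)` over an open where `M` or `N` vanishes -/
theorem subsingleton_sections_SH (M N : X.Modules) (V : X.Opens)
    (h : (∀ W : X.Opens, W ≤ V → Subsingleton Γ(M, W)) ∨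
      (∀ W : X.Opens, W ≤ V → Subsingleton Γ(N, W))) :
    Subsingleton Γ((SH M).obj N, V) := by
  have hb := secHom_bijective X.sheaf V M N
  refine ⟨fun s t => hb.1 ?_⟩
  rcases h with h | h
  · exact (isZero_restr_of_sections M V h).eq_of_src _ _
  · exact (isZero_restr_of_sections N V h).eq_of_tgt _ _

theorem support_SH_subset (M N : X.Modules) [M.IsQuasicoherent] [N.IsQuasicoherent]
    [SheafOfModules.IsFiniteType (R := X.ringCatSheaf) M]
    [SheafOfModules.IsFiniteType (R := X.ringCatSheaf) N] :
    CohB1.support ((SH M).obj N) ⊆ CohB1.support M ∩ CohB1.support N := by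
  have hcl : ∀ (F : X.Modules) [F.IsQuasicoherent]
      [SheafOfModules.IsFiniteType (R := X.ringCatSheaf) F], IsClosed (CohB1.support F) := by
    intro F _ _
    rw [← Groth.Agent.Lib.T2H5.AnnIdeal.support_annIdeal F]
    exact (Groth.Agent.Lib.T2H5.AnnIdeal.annIdeal F).support.isClosed
  intro x hx
  by_contra hcon
  apply hx
  rw [Set.mem_inter_iff, not_and_or] at hcon
  rcases hcon with hM | hN
  · let W : X.Opens := ⟨(CohB1.support M)ᶜ, (hcl M).isOpen_compl⟩
    refine subsingleton_stalk_of_sections _ x W hM fun V hV => ?_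
    refine subsingleton_sections_SH M N V (Or.inl fun W' hW' => ?_)
    refine subsingleton_sections_of_stalks M W' fun y hy => ?_
    have : y ∈ W := hV (hW' hy)
    exact not_not.1 this
  · let W : X.Opens := ⟨(CohB1.support N)ᶜ, (hcl N).isOpen_compl⟩
    refine subsingleton_stalk_of_sections _ x W hN fun V hV => ?_
    refine subsingleton_sections_SH M N V (Or.inr fun W' hW' => ?_)
    refine subsingleton_sections_of_stalks N W' fun y hy => ?_
    have : y ∈ W := hV (hW' hy)
    exact not_not.1 this

/-- a closed subset of a subset proper over the base is proper over the base -/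
theorem isProperOver_of_subset {S : Scheme.{u}} (f : X ⟶ S) {Z Z' : Set X}
    (hZ : ClSub.IsProperOver f Z) (hZ' : IsClosed Z') (hsub : Z' ⊆ Z) : ClSub.IsProperOver f Z' := by
  obtain ⟨hcl, hprop⟩ := hZ
  refine ⟨hZ', ?_⟩
  have hle : Scheme.IdealSheafData.vanishingIdeal ⟨Z, hcl⟩ ≤
      Scheme.IdealSheafData.vanishingIdeal ⟨Z', hZ'⟩ := by
    rw [← Scheme.IdealSheafData.le_support_iff_le_vanishingIdeal]
    intro x hx
    change x ∈ ((Scheme.IdealSheafData.vanishingIdeal ⟨Z, hcl⟩).support : Set X)
    rw [Scheme.IdealSheafData.coe_support_vanishingIdeal]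
    exact hsub hx
  let g := Scheme.IdealSheafData.inclusion hle
  have hg : g ≫ (Scheme.IdealSheafData.vanishingIdeal ⟨Z, hcl⟩).subschemeι =
      (Scheme.IdealSheafData.vanishingIdeal ⟨Z', hZ'⟩).subschemeι :=
    Scheme.IdealSheafData.inclusion_subschemeι hle
  haveI : IsClosedImmersion g := by
    haveI : IsClosedImmersion (g ≫ (Scheme.IdealSheafData.vanishingIdeal ⟨Z, hcl⟩).subschemeι) := by
      rw [hg]; infer_instance
    exact IsClosedImmersion.of_comp g (Scheme.IdealSheafData.vanishingIdeal ⟨Z, hcl⟩).subschemeι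
  haveI := hprop
  rw [← hg, Category.assoc]
  infer_instance

/-- a closed subset of a scheme proper over the base is proper over the base -/
theorem isProperOver_of_isProper {S : Scheme.{u}} (f : X ⟶ S) [IsProper f] {Z : Set X}
    (hZ : IsClosed Z) : ClSub.IsProperOver f Z :=
  ⟨hZ, inferInstance⟩

/-- the support of a coherent module is closed -/
theorem isClosed_support (F : X.Modules) (hF : Coh.IsCoh F) : IsClosed (CohB1.support F) := by
  haveI := hF.1
  haveI : SheafOfModules.IsFiniteType (R := X.ringCatSheaf) F := hF.2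
  rw [← Groth.Agent.Lib.T2H5.AnnIdeal.support_annIdeal F]
  exact (Groth.Agent.Lib.T2H5.AnnIdeal.annIdeal F).support.isClosed

section main

variable (A : Type u) [CommRing A] [IsNoetherianRing A] (I : Ideal A) [IsAdicComplete I A]
  (X : Scheme.{u}) [X.Over (Spec (CommRingCat.of A))]
  [LocallyOfFiniteType (X ↘ Spec (CommRingCat.of A))]

/-- **S4473**: the completion functor is fully faithful on a pair of coherent modules whose supports meet in a
subset proper over the base. -/
theorem existsUnique_hom_of_properSupport_inter (M N : X.Modules) (hM : Coh.IsCoh M)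
    (hN : Coh.IsCoh N)
    (hs : ClSub.IsProperOver (X ↘ Spec (CommRingCat.of A)) (CohB1.support M ∩ CohB1.support N))
    (ψ : Formal.completion I M ⟶ Formal.completion I N) :
    ∃! φ : M ⟶ N, ∀ n : ℕ,
      Formal.modPowπ I (n + 1) M ≫ ψ.app (op n) = φ ≫ Formal.modPowπ I (n + 1) N := by
  haveI : IsLocallyNoetherian X :=
    LocallyOfFiniteType.isLocallyNoetherian (X ↘ Spec (CommRingCat.of A))
  haveI := hM.1
  haveI := hM.2
  haveI := hN.1
  haveI := hN.2
  have hH := isCoh_SH X M N hM hN
  haveI := hH.1
  haveI : SheafOfModules.IsFiniteType (R := X.ringCatSheaf) ((SH M).obj N) := hH.2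
  have hcl : IsClosed (CohB1.support ((SH M).obj N)) := by
    rw [← Groth.Agent.Lib.T2H5.AnnIdeal.support_annIdeal ((SH M).obj N)]
    exact (Groth.Agent.Lib.T2H5.AnnIdeal.annIdeal ((SH M).obj N)).support.isClosed
  have hsH := isProperOver_of_subset (X ↘ Spec (CommRingCat.of A)) hs hcl (support_SH_subset M N)
  have hbij := Groth.Agent.Lib.T2H9.FFSuppMain.toHHlim_bijective_of_properSupport A I X
    ((SH M).obj N) hH hsH 0
  exact existsUnique_hom_of_bijective X I M N hM hN hbij ψ

end main

end Groth.Agent.Lib.T2H9.ShHom
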