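import Mathlib
import Groth.Agent.Lib.T2H5PnFlat
import Groth.Agent.Lib.T2H5RegRes2
import Groth.Agent.Lib.T2H5PnVanish
import Groth.Agent.Lib.T2H5FlatPullback
import Groth.Agent.Lib.T2H5GenIsoB
import Groth.Agent.Lib.T2H5GenIsoF
import Groth.Agent.Lib.Helper23PB
import Groth.Agent.Lib.Helper23FinType2
import Groth.Agent.S0022
import Groth.Agent.Lib.Helper20PullbackAff
import Groth.Agent.Lib.Helper23TensorQCoh
import Groth.Agent.Lib.T2H5ClosedTransfer
set_option backward.isDefEq.respectTransparency.types false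

/-!
# T2H5PnPullVan: `H^i(P^n_A, (p^* N)(d)) = 0` for `i ≥ 1`, `d ≥ -n`, `N` coherent on `Spec A`, `A` Noetherian (helper5)

Namespace `Groth.Agent.Lib.T2H5.PnPullVan`.
-/

set_option autoImplicit false
set_option linter.style.haveILetI false
set_option linter.unusedSectionVars false
universe u
open CategoryTheory CategoryTheory.Limits AlgebraicGeometry TopologicalSpace Opposite

namespace Groth.Agent.Lib.T2H5.PnPullVan

open Groth.Agent.Lib.Helper23.SecTw Groth.Agent.Lib.Helper23.LocGen Groth.Agent.Lib.Helper2.Push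
  Groth.Agent.Lib.T2H5.RegRes Groth.Agent.Lib.T2H5.Twist Groth.Agent.Lib.Helper6
  Groth.Agent.Lib.Helper20.ParaFLib Groth.Agent.Lib.Helper23.GenLocus

section Affine

variable {Y : Scheme.{u}} [IsAffine Y]

/-- a quasi-coherent module on an affine scheme is generated by its global sections over every open -/
theorem locGen_top_of_isAffine (N : Y.Modules) [N.IsQuasicoherent] : LocGen N ⊤ := by
  have haff : IsAffineOpen (⊤ : Y.Opens) := isAffineOpen_top Y
  have hloc : IsLocOn N (⊤ : Y.Opens) := IsLocOn.of_isQuasicoherent haff N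
  intro A hAU z y hy
  obtain ⟨f, hfA, hyf⟩ := haff.exists_basicOpen_le (V := A) ⟨y, hy⟩ (hAU hy)
  obtain ⟨k, t₀, ht₀⟩ := hloc.exists_extension f (res N hfA z)
  refine ⟨Y.basicOpen f, hfA, hyf, ?_⟩
  have hunit : IsUnit (resf (Y.basicOpen_le f) f) := RingedSpace.isUnit_res_basicOpen _ f
  obtain ⟨u, hu⟩ := hunit.pow k
  have h1 : res N hfA z = (↑u⁻¹ : Γ(Y, Y.basicOpen f)) • res N (Y.basicOpen_le f) t₀ := by
    change res N (Y.basicOpen_le f) t₀ = resf (Y.basicOpen_le f) f ^ k • res N hfA z at ht₀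
    rw [ht₀, ← hu, ← mul_smul, Units.inv_mul, one_smul]
  rw [h1]
  refine Submodule.smul_mem _ _ (res_mem_gspan _ _ ?_)
  rw [← sv_top_secHom N t₀]
  exact sv_mem_gspan _ _ _

/-- a coherent module on an affine scheme is a quotient of a finite free module -/
theorem exists_epi_fin (N : Y.Modules) (hN : Coh.IsCoh N) :
    ∃ (b : ℕ) (ψ : (∐ fun _ : Fin b => Coh.structureModule Y) ⟶ N), Epi ψ := by
  haveI : N.IsQuasicoherent := hN.1
  haveI : SheafOfModules.IsFiniteType (R := Y.ringCatSheaf) N := hN.2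
  have hfin : Module.Finite Γ(Y, ⊤) Γ(N, ⊤) :=
    Groth.Agent.Lib.Helper23.FinType.finite_of_isFiniteType N (isAffineOpen_top Y)
  obtain ⟨b, v, hv⟩ := Module.Finite.exists_fin (R := Γ(Y, ⊤)) (M := Γ(N, ⊤))
  let t : Fin b → (Coh.structureModule Y ⟶ N) := fun j => secHom N (v j)
  have hspan : ∀ s : Γ(N, ⊤), ∃ r : Fin b → Γ(Y, ⊤), s = ∑ j, r j • sv (t j) ⊤ := by
    intro s
    have hmem : s ∈ Submodule.span Γ(Y, ⊤) (Set.range v) := by rw [hv]; exact Submodule.mem_top
    obtain ⟨a, ha⟩ := (Submodule.mem_span_range_iff_exists_fun Γ(Y, ⊤)).1 hmem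
    refine ⟨a, ?_⟩
    rw [← ha]
    refine Finset.sum_congr rfl (fun j _ => ?_)
    rw [sv_top_secHom]
  refine ⟨b, Sigma.desc t, ?_⟩
  exact epi_of_factor (Sigma.desc t) (exists_factor_of_span t hspan)
    (fun x => ⟨⊤, trivial, locGen_top_of_isAffine N⟩)

end Affine

section Main

variable (n : ℕ) (A : Type u) [CommRing A]

/-- `H^i(O(d)) = 0` for `i ≥ 1`, `d ≥ -n`, in the form `O ⊗ O(d)` -/
theorem subsingleton_HH_tw_unit (d : ℤ) (hd : -(n : ℤ) ≤ d) (i : ℕ) (hi : 1 ≤ i) :
    Subsingleton (Coh.HH (CohB1.ProjSpace n A)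
      ((tw n A d).obj (Coh.structureModule (CohB1.ProjSpace n A))) i) := by
  have h := Groth.Agent.Lib.T2H5.PnVanish.subsingleton_HH_twist n A d i
    (by rintro ⟨h, -⟩; omega) (by rintro ⟨-, h⟩; omega)
  exact Groth.Agent.Lib.T2H5.PnStruct.subsingleton_HH_of_iso (unitTwIso n A d).symm i h

theorem isQuasicoherent_tw_pullback (d : ℤ) (N : (Spec (CommRingCat.of A)).Modules) [N.IsQuasicoherent] :
    ((tw n A d).obj ((Scheme.Modules.pullback (CohB1.ProjSpace.toSpec n A)).obj N)).IsQuasicoherent := by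
  haveI := Groth.Agent.Lib.Helper20.PullbackAff.isQuasicoherent_pullback (CohB1.ProjSpace.toSpec n A) N
  haveI := Groth.Agent.Lib.T2H5.ClosedTransfer.isQCoh_twist n A d
  exact Groth.Agent.Lib.Helper23.TensorQCoh.isQuasicoherent_tensorMod _ _

variable [IsNoetherianRing A]

/-- **vanishing for pulled back coherent modules**: `H^i(P^n_A, (p^* N)(d)) = 0` for `i ≥ 1`, `d ≥ -n` -/
theorem subsingleton_HH_tw_pullback_aux (d : ℤ) (hd : -(n : ℤ) ≤ d) :
    ∀ (m i : ℕ), 1 ≤ i → n + 1 ≤ i + m → ∀ N : (Spec (CommRingCat.of A)).Modules, Coh.IsCoh N →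
      Subsingleton (Coh.HH (CohB1.ProjSpace n A)
        ((tw n A d).obj ((Scheme.Modules.pullback (CohB1.ProjSpace.toSpec n A)).obj N)) i) := by
  intro m
  induction m with
  | zero =>
    intro i hi hni N hN
    haveI : N.IsQuasicoherent := hN.1
    haveI := isQuasicoherent_tw_pullback n A d N
    exact Groth.Agent.S0022.result n A _ i (by omega)
  | succ m ih =>
    intro i hi hni N hN
    haveI : Flat (CohB1.ProjSpace.toSpec n A) := Groth.Agent.Lib.T2H5.PnFlat.flat_toSpec n A
    haveI := Groth.Agent.Lib.T2H5.FlatPullback.preservesFiniteLimits_pullback (CohB1.ProjSpace.toSpec n A)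
    obtain ⟨b, ψ, hψ⟩ := exists_epi_fin N hN
    haveI := hψ
    have hO : Coh.IsCoh (∐ fun _ : Fin b => Coh.structureModule (Spec (CommRingCat.of A))) :=
      Groth.Agent.Lib.T2H5.GenIsoA.isCoh_sigma _ (fun _ => Groth.Agent.Lib.T2H5.GenIsoF.isCoh_structureModule)
    have hK : Coh.IsCoh (kernel ψ) := Groth.Agent.Lib.T2H5.GenIsoB.isCoh_kernel ψ hO hN
    let S : ShortComplex (Spec (CommRingCat.of A)).Modules :=
      ShortComplex.mk (kernel.ι ψ) ψ (kernel.condition ψ)
    have hS : S.ShortExact :=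
      { exact := ShortComplex.exact_of_f_is_kernel _ (kernelIsKernel ψ)
        mono_f := inferInstance
        epi_g := hψ }
    have hS1 : (S.map (Scheme.Modules.pullback (CohB1.ProjSpace.toSpec n A))).ShortExact :=
      hS.map_of_exact _
    have hS2 := shortExact_map_tw n A d _ hS1
    refine Groth.Agent.Lib.T2H5.HHSub.subsingleton_X₃ _ hS2 i ?_ (ih (i + 1) (by omega) (by omega) _ hK)
    -- the middle term
    let e1 : (Scheme.Modules.pullback (CohB1.ProjSpace.toSpec n A)).obj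
        (∐ fun _ : Fin b => Coh.structureModule (Spec (CommRingCat.of A))) ≅
        ∐ fun _ : Fin b => Coh.structureModule (CohB1.ProjSpace n A) :=
      PreservesCoproduct.iso (Scheme.Modules.pullback (CohB1.ProjSpace.toSpec n A)) _ ≪≫
        Sigma.mapIso (fun _ => Groth.Agent.Lib.Helper23.PB.pullbackUnitIso (CohB1.ProjSpace.toSpec n A))
    have h2 := subsingleton_HH_tw_sigma n A (fun _ : Fin b => Coh.structureModule (CohB1.ProjSpace n A)) d i
      (fun _ => subsingleton_HH_tw_unit n A d hd i hi)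
    exact Groth.Agent.Lib.T2H5.PnStruct.subsingleton_HH_of_iso ((tw n A d).mapIso e1.symm) i h2

theorem subsingleton_HH_tw_pullback (d : ℤ) (hd : -(n : ℤ) ≤ d) (i : ℕ) (hi : 1 ≤ i)
    (N : (Spec (CommRingCat.of A)).Modules) (hN : Coh.IsCoh N) :
    Subsingleton (Coh.HH (CohB1.ProjSpace n A)
      ((tw n A d).obj ((Scheme.Modules.pullback (CohB1.ProjSpace.toSpec n A)).obj N)) i) :=
  subsingleton_HH_tw_pullback_aux n A d hd (n + 1) i hi (by omega) N hN

end Main

end Groth.Agent.Lib.T2H5.PnPullVan
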