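import Mathlib
import Groth.Agent.Lib.T2H5PnPullVan
set_option backward.isDefEq.respectTransparency.types false

/-!
# T2H5FinGlobGen: on a quasi-compact scheme a quasi-coherent module of finite type generated by its global sections
is generated by finitely many of them (helper5)

Namespace `Groth.Agent.Lib.T2H5.FinGlobGen`.
-/

set_option autoImplicit false
set_option linter.style.haveILetI false
set_option linter.unusedSectionVars false
universe u
open CategoryTheory CategoryTheory.Limits AlgebraicGeometry TopologicalSpace Opposite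

namespace Groth.Agent.Lib.T2H5.FinGlobGen

open Groth.Agent.Lib.Helper23.SecTw Groth.Agent.Lib.Helper23.LocGen Groth.Agent.Lib.Helper2.Push
  Groth.Agent.Lib.T2H5.RegRes Groth.Agent.Lib.Helper6
  Groth.Agent.Lib.Helper20.ParaFLib Groth.Agent.Lib.Helper23.GenLocus

variable {X : Scheme.{u}}

/-- the submodule of sections over `B` spanned by the global sections in `T` -/
noncomputable def gspanOf (M : X.Modules) (T : Set (Coh.structureModule X ⟶ M)) (B : X.Opens) :
    Submodule Γ(X, B) Γ(M, B) :=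
  Submodule.span Γ(X, B) ((fun σ : Coh.structureModule X ⟶ M => sv σ B) '' T)

theorem gspanOf_mono (M : X.Modules) {T T' : Set (Coh.structureModule X ⟶ M)} (h : T ⊆ T') (B : X.Opens) :
    gspanOf M T B ≤ gspanOf M T' B :=
  Submodule.span_mono (Set.image_mono h)

theorem res_mem_gspanOf (M : X.Modules) (T : Set (Coh.structureModule X ⟶ M)) {B B' : X.Opens} (h : B' ≤ B)
    {m : Γ(M, B)} (hm : m ∈ gspanOf M T B) : res M h m ∈ gspanOf M T B' := by
  induction hm using Submodule.span_induction with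
  | mem x hx =>
    obtain ⟨σ, hσ, rfl⟩ := hx
    change res M h (sv σ B) ∈ _
    rw [res_sv]
    exact Submodule.subset_span ⟨σ, hσ, rfl⟩
  | zero => rw [res_zero]; exact zero_mem _
  | add x y _ _ hx hy => rw [res_add']; exact add_mem hx hy
  | smul r x _ hx => rw [res_smul]; exact Submodule.smul_mem _ _ hx

theorem exists_finset_of_mem_gspan (M : X.Modules) {B : X.Opens} {m : Γ(M, B)} (hm : m ∈ gspan M B) :
    ∃ T : Finset (Coh.structureModule X ⟶ M), m ∈ gspanOf M (↑T) B := by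
  classical
  obtain ⟨T₀, hT₀, hm'⟩ := Submodule.mem_span_finite_of_mem_span hm
  have h1 : (↑T₀ : Set Γ(M, B)) ⊆ (fun σ : Coh.structureModule X ⟶ M => sv σ B) '' Set.univ := by
    rw [Set.image_univ]; exact hT₀
  obtain ⟨T, -, hT⟩ := Finset.subset_set_image_iff.1 h1
  refine ⟨T, ?_⟩
  unfold gspanOf
  rw [← Finset.coe_image, hT]
  exact hm'

theorem exists_app_eq_of_mem_gspanOf {Fm N : X.Modules} (p : Fm ⟶ N) (T : Set (Coh.structureModule X ⟶ N))
    (hp : ∀ σ ∈ T, ∃ ι : Coh.structureModule X ⟶ Fm, ι ≫ p = σ) {B : X.Opens}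
    {m : Γ(N, B)} (hm : m ∈ gspanOf N T B) : ∃ a, p.app B a = m := by
  induction hm using Submodule.span_induction with
  | mem x hx =>
    obtain ⟨σ, hσ, rfl⟩ := hx
    obtain ⟨ι, hι⟩ := hp σ hσ
    refine ⟨ι.app B (toS B 1), ?_⟩
    exact congrArg (fun φ : Coh.structureModule X ⟶ N => φ.app B (toS B 1)) hι
  | zero => exact ⟨0, map_zero _⟩
  | add x y _ _ hx hy =>
    obtain ⟨a, ha⟩ := hx
    obtain ⟨b, hb⟩ := hy
    exact ⟨a + b, by rw [map_add, ha, hb]⟩
  | smul r x _ hx =>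
    obtain ⟨a, ha⟩ := hx
    exact ⟨r • a, by rw [Scheme.Modules.Hom.app_smul, ha]⟩

/-- `N` is generated over `V` by the global sections in `T` -/
def LocGenBy (N : X.Modules) (T : Set (Coh.structureModule X ⟶ N)) (V : X.Opens) : Prop :=
  ∀ (A : X.Opens) (_ : A ≤ V) (m : Γ(N, A)) (y : X), y ∈ A →
    ∃ (B : X.Opens) (hB : B ≤ A), y ∈ B ∧ res N hB m ∈ gspanOf N T B

theorem LocGenBy.mono {N : X.Modules} {T T' : Set (Coh.structureModule X ⟶ N)} {V : X.Opens}
    (h : LocGenBy N T V) (hT : T ⊆ T') : LocGenBy N T' V := by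
  intro A hA m y hy
  obtain ⟨B, hB, hyB, hmem⟩ := h A hA m y hy
  exact ⟨B, hB, hyB, gspanOf_mono N hT B hmem⟩

/-- if a quasi-coherent module of finite type is generated by global sections over `V`, every point of `V` has a
neighbourhood over which finitely many global sections generate -/
theorem exists_finset_nhd (N : X.Modules) [N.IsQuasicoherent]
    [SheafOfModules.IsFiniteType (R := X.ringCatSheaf) N] (V : X.Opens) (hV : LocGen N V) (x : X) (hx : x ∈ V) :
    ∃ (B : X.Opens) (T : Finset (Coh.structureModule X ⟶ N)), x ∈ B ∧ LocGenBy N (↑T) B := by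
  classical
  obtain ⟨_, ⟨U, hU, rfl⟩, hxU, hUV⟩ := X.isBasis_affineOpens.exists_subset_of_mem_open hx V.2
  have hU' : IsAffineOpen U := hU
  have hfin : Module.Finite Γ(X, U) Γ(N, U) :=
    Groth.Agent.Lib.Helper23.FinType.finite_of_isFiniteType N hU'
  have hloc : IsLocOn N U := IsLocOn.of_isQuasicoherent hU' N
  obtain ⟨b, v, hv⟩ := Module.Finite.exists_fin (R := Γ(X, U)) (M := Γ(N, U))
  have h1 : ∀ l : Fin b, ∃ (Bl : X.Opens) (hBl : Bl ≤ U) (Tl : Finset (Coh.structureModule X ⟶ N)),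
      x ∈ Bl ∧ res N hBl (v l) ∈ gspanOf N (↑Tl) Bl := by
    intro l
    obtain ⟨Bl, hBl, hxBl, hmem⟩ := hV U hUV (v l) x hxU
    obtain ⟨Tl, hTl⟩ := exists_finset_of_mem_gspan N hmem
    exact ⟨Bl, hBl, Tl, hxBl, hTl⟩
  choose Bl hBl Tl hxBl hmem using h1
  let W : X.Opens := ⟨⋂ l, (Bl l : Set X), isOpen_iInter_of_finite (fun l => (Bl l).2)⟩
  have hxW : x ∈ W := Set.mem_iInter.2 (fun l => hxBl l)
  have hWl : ∀ l, W ≤ Bl l := fun l y hy => Set.mem_iInter.1 hy l
  let T : Finset (Coh.structureModule X ⟶ N) := Finset.univ.biUnion Tl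
  have hTl : ∀ l, (↑(Tl l) : Set (Coh.structureModule X ⟶ N)) ⊆ ↑T := by
    intro l σ hσ
    exact Finset.mem_coe.2 (Finset.mem_biUnion.2 ⟨l, Finset.mem_univ _, Finset.mem_coe.1 hσ⟩)
  refine ⟨W ⊓ U, T, ⟨hxW, hxU⟩, ?_⟩
  intro A hA m y hy
  have hyU : y ∈ U := (hA hy).2
  obtain ⟨g, hgA, hyg⟩ := hU'.exists_basicOpen_le (V := A) ⟨y, hy⟩ hyU
  obtain ⟨k, t₀, ht₀⟩ := hloc.exists_extension g (res N hgA m)
  refine ⟨X.basicOpen g, hgA, hyg, ?_⟩
  have hunit : IsUnit (resf (X.basicOpen_le g) g) := RingedSpace.isUnit_res_basicOpen _ g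
  obtain ⟨u, hu⟩ := hunit.pow k
  have h2 : res N hgA m = (↑u⁻¹ : Γ(X, X.basicOpen g)) • res N (X.basicOpen_le g) t₀ := by
    change res N (X.basicOpen_le g) t₀ = resf (X.basicOpen_le g) g ^ k • res N hgA m at ht₀
    rw [ht₀, ← hu, ← mul_smul, Units.inv_mul, one_smul]
  rw [h2]
  refine Submodule.smul_mem _ _ ?_
  have hgW : X.basicOpen g ≤ W := fun z hz => (hA (hgA hz)).1
  have h3 : ∀ t : Γ(N, U), t ∈ Submodule.span Γ(X, U) (Set.range v) →
      res N (X.basicOpen_le g) t ∈ gspanOf N (↑T) (X.basicOpen g) := by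
    intro t ht
    induction ht using Submodule.span_induction with
    | mem z hz =>
      obtain ⟨l, rfl⟩ := hz
      have e1 : res N (X.basicOpen_le g) (v l) = res N (hgW.trans (hWl l)) (res N (hBl l) (v l)) := by
        rw [res_res]
      rw [e1]
      exact gspanOf_mono N (hTl l) _ (res_mem_gspanOf N _ _ (hmem l))
    | zero => rw [res_zero]; exact zero_mem _
    | add z z' _ _ hz hz' => rw [res_add']; exact add_mem hz hz'
    | smul r z _ hz => rw [res_smul]; exact Submodule.smul_mem _ _ hz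
  exact h3 t₀ (by rw [hv]; exact Submodule.mem_top)

/-- **Finite generation.** On a quasi-compact scheme, a quasi-coherent module of finite type which is generated by its
global sections near every point is a quotient of a finite free module. -/
theorem exists_fin_epi [CompactSpace X] (N : X.Modules) [N.IsQuasicoherent]
    [SheafOfModules.IsFiniteType (R := X.ringCatSheaf) N]
    (h : ∀ x : X, ∃ V : X.Opens, x ∈ V ∧ LocGen N V) :
    ∃ (b : ℕ) (t : Fin b → (Coh.structureModule X ⟶ N)), Epi (Sigma.desc t) := by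
  classical
  have h1 : ∀ x : X, ∃ (B : X.Opens) (T : Finset (Coh.structureModule X ⟶ N)), x ∈ B ∧ LocGenBy N (↑T) B := by
    intro x
    obtain ⟨V, hxV, hV⟩ := h x
    exact exists_finset_nhd N V hV x hxV
  choose B T hxB hBT using h1
  obtain ⟨S, hS⟩ : ∃ S : Finset X, (Set.univ : Set X) ⊆ ⋃ x ∈ S, (B x : Set X) :=
    isCompact_univ.elim_finite_subcover (fun x => (B x : Set X)) (fun x => (B x).2)
      (fun x _ => Set.mem_iUnion.2 ⟨x, hxB x⟩)
  let TT : Finset (Coh.structureModule X ⟶ N) := S.biUnion T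
  have hTT : ∀ x ∈ S, (↑(T x) : Set (Coh.structureModule X ⟶ N)) ⊆ ↑TT := by
    intro x hx σ hσ
    exact Finset.mem_coe.2 (Finset.mem_biUnion.2 ⟨x, hx, Finset.mem_coe.1 hσ⟩)
  let t : Fin TT.card → (Coh.structureModule X ⟶ N) := fun j => (TT.equivFin.symm j).1
  refine ⟨TT.card, t, ?_⟩
  have hp : ∀ σ ∈ (↑TT : Set (Coh.structureModule X ⟶ N)),
      ∃ ι : Coh.structureModule X ⟶ ∐ fun _ : Fin TT.card => Coh.structureModule X, ι ≫ Sigma.desc t = σ := by
    intro σ hσ
    refine ⟨Sigma.ι (fun _ : Fin TT.card => Coh.structureModule X) (TT.equivFin ⟨σ, Finset.mem_coe.1 hσ⟩), ?_⟩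
    rw [Sigma.ι_desc]
    change ((TT.equivFin.symm (TT.equivFin ⟨σ, Finset.mem_coe.1 hσ⟩)).1) = σ
    rw [Equiv.symm_apply_apply]
  apply Groth.Agent.Lib.Helper23.Serre.epi_of_locally_surjective
  intro V s x hxV
  obtain ⟨x₀, hx₀⟩ := Set.mem_iUnion.1 (hS (Set.mem_univ x))
  obtain ⟨hx₀S, hxx₀⟩ := Set.mem_iUnion.1 hx₀
  obtain ⟨B', hB', hxB', hmem⟩ := hBT x₀ (V ⊓ B x₀) inf_le_right (res N inf_le_left s) x ⟨hxV, hxx₀⟩
  refine ⟨B', hB'.trans inf_le_left, hxB', ?_⟩
  obtain ⟨a, ha⟩ := exists_app_eq_of_mem_gspanOf (Sigma.desc t) (↑TT) hp (gspanOf_mono N (hTT x₀ hx₀S) B' hmem)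
  refine ⟨a, ?_⟩
  rw [ha, res_res]

end Groth.Agent.Lib.T2H5.FinGlobGen
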