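import Mathlib
import Groth.Agent.Lib.T2H5FinGlobGen
import Groth.Agent.Lib.T2H5AmplePn
import Groth.Agent.Lib.T2H5AmpleSerre
import Groth.Agent.Lib.T2H5HHSub
import Groth.Agent.Lib.T2H5PushUnit
import Groth.Agent.Lib.Helper2LocFree
import Groth.Agent.Lib.Helper23AffOpen4
import Groth.Agent.Lib.Helper23LocGen
import Groth.Agent.Lib.Helper1FLF1
import Groth.Agent.S2357
set_option backward.isDefEq.respectTransparency.types false

/-!
# T2H5QProjRes: on a scheme immersed in `P^N_k`, every coherent module is a quotient of a finite locally free one;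
vanishing of cohomology of coherent modules from that of finite locally free ones (helper5)

Namespace `Groth.Agent.Lib.T2H5.QProjRes`.
-/

set_option autoImplicit false
set_option linter.style.haveILetI false
set_option linter.unusedSectionVars false
universe u
open CategoryTheory CategoryTheory.Limits AlgebraicGeometry TopologicalSpace Opposite

namespace Groth.Agent.Lib.T2H5.QProjRes

open Groth.Agent.Lib.T2H5.Twist

section

variable (k : Type u) [Field k] (N : ℕ) {X : Scheme.{u}} (ι : X ⟶ CohB1.ProjSpace N k) [IsImmersion ι]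

theorem isNoetherian_projSpace : IsNoetherian (CohB1.ProjSpace N k) :=
  Groth.Agent.S2357.result (CohB1.polyGrading N k)

include ι in
theorem isNoetherian_of_immersion : IsNoetherian X := by
  haveI hP : IsNoetherian (CohB1.ProjSpace N k) := isNoetherian_projSpace k N
  haveI : IsLocallyNoetherian (CohB1.ProjSpace N k) := hP.toIsLocallyNoetherian
  haveI : IsLocallyNoetherian X := LocallyOfFiniteType.isLocallyNoetherian ι
  haveI : NoetherianSpace (CohB1.ProjSpace N k) := inferInstance
  haveI : NoetherianSpace X := ι.isEmbedding.isInducing.noetherianSpace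
  exact { }

/-- the pullback of `O(d)` to `X` -/
noncomputable abbrev G (d : ℤ) : X.Modules := (Scheme.Modules.pullback ι).obj (Twist.twistProjSpace N k d)

theorem isInvertible_G (d : ℤ) : PicF.IsInvertible (G k N ι d) :=
  Groth.Agent.Lib.Helper23.PB.isInvertible_pullback ι _ (isInvertible_twist N k d)

/-- `(ι^* O(1))^{⊗ m} ⊗ ι^* O(-m) ≅ O_X` -/
theorem nonempty_pow_tensor_inv_iso (m : ℕ) :
    Nonempty (CohB1.tensorMod (CohB1.tensorPow (G k N ι 1) m) (G k N ι (-(m : ℤ))) ≅ Coh.structureModule X) := by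
  obtain ⟨e1⟩ := Groth.Agent.Lib.Helper23.PB.nonempty_pullback_tensorPow_iso ι
    (Twist.twistProjSpace N k 1) (isInvertible_twist N k 1) m
  obtain ⟨e2⟩ := Groth.Agent.Lib.T2H5.AmplePn.nonempty_tensorPow_twist_iso N k 1 m
  rw [mul_one] at e2
  obtain ⟨e3⟩ := Groth.Agent.Lib.Helper23.PB.nonempty_pullback_tensorMod_iso ι
    (Twist.twistProjSpace N k (m : ℤ)) (Twist.twistProjSpace N k (-(m : ℤ)))
    (isInvertible_twist N k _) (isInvertible_twist N k _)
  obtain ⟨e4⟩ := nonempty_twist_tensor_iso N k (m : ℤ) (-(m : ℤ)) 0 (by ring)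
  obtain ⟨e5⟩ := nonempty_twist_zero_iso N k
  let a : CohB1.tensorPow (G k N ι 1) m ≅ G k N ι (m : ℤ) :=
    e1.symm ≪≫ (Scheme.Modules.pullback ι).mapIso e2
  exact ⟨Groth.Agent.Lib.Helper23.AmpleIso.tensorModIso a (Iso.refl _) ≪≫ e3.symm ≪≫
    (Scheme.Modules.pullback ι).mapIso (e4 ≪≫ e5) ≪≫ Groth.Agent.Lib.Helper23.PB.pullbackUnitIso ι⟩

theorem isFinLocFree_sigma_unit (b : ℕ) :
    FlatMod.IsFinLocFree (∐ fun _ : Fin b => Coh.structureModule X) := by
  have h := Groth.Agent.Lib.Helper1.FLF.isFinLocFree_biproduct (fun _ : Fin b => Coh.structureModule X)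
    (fun _ => Groth.Agent.Lib.T2H5.PushUnit.isFinLocFree_structureModule X)
  exact Groth.Agent.Lib.Helper1.FLF.isFinLocFree_of_iso (biproduct.isoCoproduct _) h

include ι in
/-- **enough locally free modules** on a scheme immersed in `P^N_k` -/
theorem exists_epi_finLocFree (F : X.Modules) (hF : Coh.IsCoh F) :
    ∃ (E : X.Modules) (p : E ⟶ F), FlatMod.IsFinLocFree E ∧ Epi p := by
  haveI hX : IsNoetherian X := isNoetherian_of_immersion k N ι
  haveI : CompactSpace X := hX.toCompactSpace
  haveI : F.IsQuasicoherent := hF.1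
  haveI : SheafOfModules.IsFiniteType (R := X.ringCatSheaf) F := hF.2
  have hL : CohB1.IsAmple (G k N ι 1) :=
    Groth.Agent.Lib.Helper23.PB.isAmple_pullback_of_isEmbedding ι ι.isEmbedding _
      (Groth.Agent.Lib.T2H5.AmplePn.isAmple_twist_of_pos N k 1 one_pos)
  -- a uniform exponent
  choose V n₀ hxV hn₀ using Groth.Agent.Lib.Helper23.LocGen.exists_locGen_nhd (G k N ι 1) hL F
  obtain ⟨T, hT⟩ : ∃ T : Finset X, (Set.univ : Set X) ⊆ ⋃ x ∈ T, (V x : Set X) :=
    isCompact_univ.elim_finite_subcover (fun x => (V x : Set X)) (fun x => (V x).2)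
      (fun x _ => Set.mem_iUnion.2 ⟨x, hxV x⟩)
  let m : ℕ := T.sup n₀
  let M : X.Modules := CohB1.tensorMod F (CohB1.tensorPow (G k N ι 1) m)
  have hMc : Coh.IsCoh M :=
    Groth.Agent.Lib.T2H5.AmpleSerre.isCoh_tensor_tensorPow F _ hF (isInvertible_G k N ι 1) m
  haveI : M.IsQuasicoherent := hMc.1
  haveI : SheafOfModules.IsFiniteType (R := X.ringCatSheaf) M := hMc.2
  have hgen : ∀ y : X, ∃ W : X.Opens, y ∈ W ∧ Groth.Agent.Lib.Helper23.LocGen.LocGen M W := by
    intro y
    obtain ⟨x, hx⟩ := Set.mem_iUnion.1 (hT (Set.mem_univ y))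
    obtain ⟨hxT, hyx⟩ := Set.mem_iUnion.1 hx
    exact ⟨V x, hyx, hn₀ x m (Finset.le_sup hxT)⟩
  obtain ⟨b, t, ht⟩ := Groth.Agent.Lib.T2H5.FinGlobGen.exists_fin_epi M hgen
  obtain ⟨e⟩ := nonempty_pow_tensor_inv_iso k N ι m
  let Gm : X.Modules := G k N ι (-(m : ℤ))
  let E : X.Modules := CohB1.tensorMod (∐ fun _ : Fin b => Coh.structureModule X) Gm
  have hE : FlatMod.IsFinLocFree E :=
    Groth.Agent.Lib.Helper1.FLF.isFinLocFree_tensor _ _ (isFinLocFree_sigma_unit b)
      (Groth.Agent.Helper18PBUnit.isFinLocFree_of_isInvertible (isInvertible_G k N ι _))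
  let q : E ⟶ CohB1.tensorMod M Gm := (tr Gm).map (Sigma.desc t)
  haveI : PreservesFiniteColimits (tr Gm) := preservesFiniteColimits_tr Gm
  haveI := ht
  haveI hq : Epi q := inferInstanceAs (Epi ((tr Gm).map (Sigma.desc t)))
  let φ : CohB1.tensorMod M Gm ≅ F :=
    Groth.Agent.Lib.Helper23.LocGen.tensorAssoc F _ Gm ≪≫
      Groth.Agent.Lib.Helper23.AmpleIso.tensorModIso (Iso.refl F) e ≪≫
      Groth.Agent.Lib.Helper23.TensorUnit.tensorUnitIso F
  exact ⟨E, q ≫ φ.hom, hE, epi_comp _ _⟩

include ι in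
/-- if the cohomology of finite locally free modules vanishes above `n`, so does that of coherent modules -/
theorem subsingleton_HH_of_finLocFree (n : ℕ)
    (h : ∀ E : X.Modules, FlatMod.IsFinLocFree E → ∀ i : ℕ, n < i → Subsingleton (Coh.HH X E i))
    (F : X.Modules) (hF : Coh.IsCoh F) (i : ℕ) (hi : n < i) : Subsingleton (Coh.HH X F i) := by
  haveI hX : IsNoetherian X := isNoetherian_of_immersion k N ι
  haveI : CompactSpace X := hX.toCompactSpace
  haveI : IsLocallyNoetherian X := hX.toIsLocallyNoetherian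
  obtain ⟨d, hd⟩ := Groth.Agent.Lib.Helper23.AffVanish.exists_bound_HH (X := X)
  have key : ∀ (j i : ℕ), n < i → d ≤ i + j → ∀ F : X.Modules, Coh.IsCoh F → Subsingleton (Coh.HH X F i) := by
    intro j
    induction j with
    | zero =>
      intro i _ hdi F hF
      exact hd F hF.1 i (by omega)
    | succ j ih =>
      intro i hi hdi F hF
      obtain ⟨E, p, hE, hp⟩ := exists_epi_finLocFree k N ι F hF
      haveI := hp
      have hEc : Coh.IsCoh E := by
        haveI hfp : SheafOfModules.IsFinitePresentation (R := X.ringCatSheaf) E :=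
          Groth.Agent.Lib.Helper2.LocFree.isFP_of_isFinLocFree E hE
        exact ⟨inferInstance, inferInstance⟩
      have hK : Coh.IsCoh (kernel p) := Groth.Agent.Lib.T2H5.GenIsoB.isCoh_kernel p hEc hF
      let S : ShortComplex X.Modules := ShortComplex.mk (kernel.ι p) p (kernel.condition p)
      have hS : S.ShortExact :=
        { exact := ShortComplex.exact_of_f_is_kernel _ (kernelIsKernel p)
          mono_f := inferInstanceAs (Mono (kernel.ι p))
          epi_g := hp }
      exact Groth.Agent.Lib.T2H5.HHSub.subsingleton_X₃ S hS i (h E hE i hi)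
        (ih (i + 1) (by omega) (by omega) (kernel p) hK)
  exact key d i hi (by omega) F hF

end

end Groth.Agent.Lib.T2H5.QProjRes
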