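import Mathlib
import Groth.Agent.Lib.T2H5QProjRes
import Groth.Agent.Lib.T2H9TensorInv
set_option backward.isDefEq.respectTransparency.types false

/-!
# T2H5ResProp: a scheme with an ample invertible module has the resolution property (helper5)

Namespace `Groth.Agent.Lib.T2H5.ResProp`.  Uses helper9's tensor inverse `T2H9.TensorInv.inv`.
-/

set_option autoImplicit false
set_option linter.style.haveILetI false
set_option linter.unusedSectionVars false
universe u
open CategoryTheory CategoryTheory.Limits AlgebraicGeometry TopologicalSpace Opposite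

namespace Groth.Agent.Lib.T2H5.ResProp

open Groth.Agent.Lib.T2H5.Twist Groth.Agent.Lib.T2H9.TensorInv

variable {X : Scheme.{u}}

/-- the twist `(O^b) ⊗ P` of a finite free module by an invertible module is finite locally free -/
theorem isFinLocFree_sigma_tensor (b : ℕ) (P : X.Modules) (hP : PicF.IsInvertible P) :
    FlatMod.IsFinLocFree (CohB1.tensorMod (∐ fun _ : Fin b => Coh.structureModule X) P) :=
  Groth.Agent.Lib.Helper1.FLF.isFinLocFree_tensor _ _
    (Groth.Agent.Lib.T2H5.QProjRes.isFinLocFree_sigma_unit b)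
    (Groth.Agent.Helper18PBUnit.isFinLocFree_of_isInvertible hP)

/-- if `F ⊗ P` is a quotient of `O^b` with `P` invertible, then `F` is a quotient of the finite locally free
`O^b ⊗ P^{-1}` -/
theorem exists_epi_of_twist (F P : X.Modules) (hP : PicF.IsInvertible P) (b : ℕ)
    (t : Fin b → (Coh.structureModule X ⟶ CohB1.tensorMod F P)) (ht : Epi (Sigma.desc t)) :
    ∃ (E : X.Modules) (p : E ⟶ F), FlatMod.IsFinLocFree E ∧ Epi p := by
  let Gm : X.Modules := inv P
  let E : X.Modules := CohB1.tensorMod (∐ fun _ : Fin b => Coh.structureModule X) Gm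
  have hE : FlatMod.IsFinLocFree E := isFinLocFree_sigma_tensor b Gm (isInvertible_inv P hP)
  let q : E ⟶ CohB1.tensorMod (CohB1.tensorMod F P) Gm := (tr Gm).map (Sigma.desc t)
  haveI : PreservesFiniteColimits (tr Gm) := preservesFiniteColimits_tr Gm
  haveI := ht
  haveI hq : Epi q := inferInstanceAs (Epi ((tr Gm).map (Sigma.desc t)))
  let φ : CohB1.tensorMod (CohB1.tensorMod F P) Gm ≅ F :=
    Groth.Agent.Lib.Helper23.LocGen.tensorAssoc F P Gm ≪≫
      Groth.Agent.Lib.Helper23.AmpleIso.tensorModIso (Iso.refl F) (tensorInvIso P hP) ≪≫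
      Groth.Agent.Lib.Helper23.TensorUnit.tensorUnitIso F
  exact ⟨E, q ≫ φ.hom, hE, epi_comp _ _⟩

/-- **the resolution property** for a scheme with an ample invertible module -/
theorem exists_epi_finLocFree_of_isAmple (L : X.Modules) (hL : CohB1.IsAmple L) (F : X.Modules)
    [F.IsQuasicoherent] [SheafOfModules.IsFiniteType (R := X.ringCatSheaf) F] :
    ∃ (E : X.Modules) (p : E ⟶ F), FlatMod.IsFinLocFree E ∧ Epi p := by
  haveI : CompactSpace X := hL.2.1
  have hF : Coh.IsCoh F := ⟨inferInstance, inferInstance⟩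
  choose V n₀ hxV hn₀ using Groth.Agent.Lib.Helper23.LocGen.exists_locGen_nhd L hL F
  obtain ⟨T, hT⟩ : ∃ T : Finset X, (Set.univ : Set X) ⊆ ⋃ x ∈ T, (V x : Set X) :=
    isCompact_univ.elim_finite_subcover (fun x => (V x : Set X)) (fun x => (V x).2)
      (fun x _ => Set.mem_iUnion.2 ⟨x, hxV x⟩)
  let m : ℕ := T.sup n₀
  let M : X.Modules := CohB1.tensorMod F (CohB1.tensorPow L m)
  have hMc : Coh.IsCoh M :=
    Groth.Agent.Lib.T2H5.AmpleSerre.isCoh_tensor_tensorPow F _ hF hL.1 m
  haveI : M.IsQuasicoherent := hMc.1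
  haveI : SheafOfModules.IsFiniteType (R := X.ringCatSheaf) M := hMc.2
  have hgen : ∀ y : X, ∃ W : X.Opens, y ∈ W ∧ Groth.Agent.Lib.Helper23.LocGen.LocGen M W := by
    intro y
    obtain ⟨x, hx⟩ := Set.mem_iUnion.1 (hT (Set.mem_univ y))
    obtain ⟨hxT, hyx⟩ := Set.mem_iUnion.1 hx
    exact ⟨V x, hyx, hn₀ x m (Finset.le_sup hxT)⟩
  obtain ⟨b, t, ht⟩ := Groth.Agent.Lib.T2H5.FinGlobGen.exists_fin_epi M hgen
  exact exists_epi_of_twist F (CohB1.tensorPow L m)
    (Groth.Agent.Lib.Helper23.SecTw.isInvertible_tensorPow hL.1 m) b t ht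

end Groth.Agent.Lib.T2H5.ResProp
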