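import Mathlib

/-!
# T2H9GrSys1: Noetherianity of finitely generated graded systems of modules (helper9)

Namespace `Groth.Agent.Lib.T2H9.GrSys`.

A *graded system* over a ring `B` is a sequence of `B`-modules `M n` with commuting degree-one operators
`t j n : M n →ₗ[B] M (n+1)`, `j : Fin r` (i.e. a graded module over `B[T_1..T_r]`). It is finitely generated if
`∑_j t_j (M n) = M (n+1)` for `n ≥ N`.

* `T`, `AT`: the operators on `⨁ n, M n` and the commutative algebra they generate; `isNoetherian_AT`.
* `exists_stable`: (Hilbert basis / syzygy lemma) over Noetherian `B`, with the `M n` finite, every subsystem `R n ≤ M n` of a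
  finitely generated system is finitely generated: `R (n+1) = ∑_j t_j (R n)` for `n ≥ N'`.
-/

set_option autoImplicit false
set_option linter.style.haveILetI false
set_option linter.unusedVariables false
set_option linter.unusedSectionVars false
universe u
open DirectSum
open scoped Classical

namespace Groth.Agent.Lib.T2H9.GrSys

variable {B : Type u} [CommRing B] {r : ℕ}
  (M : ℕ → Type u) [∀ n, AddCommGroup (M n)] [∀ n, Module B (M n)]
  (t : Fin r → ∀ n, M n →ₗ[B] M (n + 1))

/-- the degree-raising operators on the direct sum -/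
noncomputable def T (j : Fin r) : (⨁ n, M n) →ₗ[B] (⨁ n, M n) :=
  DirectSum.toModule B ℕ (⨁ n, M n) (fun n => (DirectSum.lof B ℕ M (n + 1)).comp (t j n))

theorem T_lof (j : Fin r) (n : ℕ) (x : M n) :
    T M t j (DirectSum.lof B ℕ M n x) = DirectSum.lof B ℕ M (n + 1) (t j n x) := by
  unfold T
  rw [DirectSum.toModule_lof]
  rfl

variable (hcomm : ∀ i j n x, t i (n + 1) (t j n x) = t j (n + 1) (t i n x))

include hcomm in
theorem T_comm (i j : Fin r) : T M t i * T M t j = T M t j * T M t i := by
  apply DirectSum.linearMap_ext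
  intro n
  ext x
  simp only [LinearMap.coe_comp, Function.comp_apply, Module.End.mul_apply, T_lof, hcomm]

/-- the commutative algebra generated by the operators -/
noncomputable abbrev AT : Subalgebra B (Module.End B (⨁ n, M n)) :=
  Algebra.adjoin B (Set.range (T M t))

include hcomm in
theorem AT_comm : ∀ a ∈ Set.range (T M t), ∀ b ∈ Set.range (T M t), a * b = b * a := by
  rintro _ ⟨i, rfl⟩ _ ⟨j, rfl⟩
  exact T_comm M t hcomm i j

open scoped IsMulCommutative

include hcomm in
theorem isMulCommutative_AT : IsMulCommutative (AT M t) :=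
  Algebra.isMulCommutative_adjoin B (AT_comm M t hcomm)

include hcomm in
theorem isNoetherianRing_AT [IsNoetherianRing B] :
    haveI : IsMulCommutative (AT M t) := isMulCommutative_AT M t hcomm
    IsNoetherianRing (AT M t) := by
  haveI : IsMulCommutative (AT M t) := isMulCommutative_AT M t hcomm
  haveI : Algebra.FiniteType B (AT M t) := by
    rw [← Subalgebra.fg_iff_finiteType]
    have h := Subalgebra.fg_adjoin_finset (R := B) (Finset.univ.image (T M t))
    rwa [Finset.coe_image, Finset.coe_univ, Set.image_univ] at h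
  exact Algebra.FiniteType.isNoetherianRing B (AT M t)

theorem AT_smul_def (a : AT M t) (x : ⨁ n, M n) : a • x = (a : Module.End B (⨁ n, M n)) x := rfl

/-- the generator `T j` as an element of the algebra -/
noncomputable def Tel (j : Fin r) : AT M t := ⟨T M t j, Algebra.subset_adjoin ⟨j, rfl⟩⟩

theorem Tel_smul_lof (j : Fin r) (n : ℕ) (x : M n) :
    Tel M t j • DirectSum.lof B ℕ M n x = DirectSum.lof B ℕ M (n + 1) (t j n x) :=
  T_lof M t j n x

section finite

variable [∀ n, Module.Finite B (M n)] (N : ℕ)
  (hgen : ∀ n, N ≤ n → ⨆ j, LinearMap.range (t j n) = ⊤)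

include hgen in
theorem finite_AT : Module.Finite (AT M t) (⨁ n, M n) := by
  choose Sm hSm using fun m => (Module.Finite.fg_top (R := B) (M := M m))
  let S : Set (⨁ n, M n) := ⋃ m ∈ Finset.range (N + 1), DirectSum.lof B ℕ M m '' (Sm m : Set (M m))
  have hSfin : S.Finite :=
    Set.Finite.biUnion (Finset.finite_toSet _) fun m _ => (Finset.finite_toSet _).image _
  refine ⟨Submodule.fg_def.2 ⟨S, hSfin, ?_⟩⟩
  set P : Submodule (AT M t) (⨁ n, M n) := Submodule.span (AT M t) S with hP
  have hlow : ∀ m, m ≤ N → ∀ y : M m, DirectSum.lof B ℕ M m y ∈ P := by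
    intro m hm y
    have h1 : (⊤ : Submodule B (M m)).map (DirectSum.lof B ℕ M m) ≤ P.restrictScalars B := by
      rw [← hSm m, Submodule.map_span, Submodule.span_le]
      intro z hz
      refine Submodule.subset_span (Set.mem_biUnion (Finset.mem_range.2 (Nat.lt_succ_of_le hm)) hz)
    exact h1 (Submodule.mem_map_of_mem Submodule.mem_top)
  have hall : ∀ n, ∀ y : M n, DirectSum.lof B ℕ M n y ∈ P := by
    intro n
    induction n with
    | zero => exact hlow 0 (Nat.zero_le _)
    | succ n ih =>
      by_cases hn : n + 1 ≤ N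
      · exact hlow (n + 1) hn
      · intro y
        have hy : y ∈ ⨆ j, LinearMap.range (t j n) := by
          rw [hgen n (by omega)]; exact Submodule.mem_top
        induction hy using Submodule.iSup_induction' with
        | mem j z hz =>
          obtain ⟨w, rfl⟩ := hz
          rw [← Tel_smul_lof]
          exact P.smul_mem _ (ih w)
        | zero => rw [map_zero]; exact P.zero_mem
        | add a b _ _ ha hb => rw [map_add]; exact P.add_mem ha hb
  have hx : ∀ x : ⨁ n, M n, x ∈ P := by
    intro x
    induction x using DirectSum.induction_on with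
    | zero => exact P.zero_mem
    | of n y => exact hall n y
    | add a b ha hb => exact P.add_mem ha hb
  exact eq_top_iff.2 fun x _ => hx x

include hgen hcomm in
theorem isNoetherian_AT [IsNoetherianRing B] : IsNoetherian (AT M t) (⨁ n, M n) := by
  haveI := isNoetherianRing_AT M t hcomm
  haveI := finite_AT M t N hgen
  exact isNoetherian_of_isNoetherianRing_of_finite (AT M t) (⨁ n, M n)

end finite

section stable

variable (R : ∀ n, Submodule B (M n)) (hR : ∀ j n, (R n).map (t j n) ≤ R (n + 1))

/-- `D n k = R k` for `k ≤ n`, and `D n (k+1) = ∑_j t_j (D n k)` for `k ≥ n` -/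
noncomputable def D (n : ℕ) : ∀ k, Submodule B (M k)
  | 0 => R 0
  | k + 1 => if k + 1 ≤ n then R (k + 1) else ⨆ j, (D n k).map (t j k)

theorem D_of_le {n k : ℕ} (h : k ≤ n) : D M t R n k = R k := by
  cases k with
  | zero => rfl
  | succ k => simp [D, h]

theorem D_succ_of_lt {n k : ℕ} (h : n < k + 1) :
    D M t R n (k + 1) = ⨆ j, (D M t R n k).map (t j k) := by
  simp [D, not_le.2 h]

include hR in
theorem map_D_le (j : Fin r) (n k : ℕ) : (D M t R n k).map (t j k) ≤ D M t R n (k + 1) := by
  by_cases h : k + 1 ≤ n
  · rw [D_of_le M t R h, D_of_le M t R (Nat.le_of_succ_le h)]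
    exact hR j k
  · rw [D_succ_of_lt M t R (not_le.1 h)]
    exact le_iSup (fun j => (D M t R n k).map (t j k)) j

/-- the `B`-submodule of the direct sum with components `D n k` -/
noncomputable def VB (n : ℕ) : Submodule B (⨁ n, M n) :=
  ⨆ k, (D M t R n k).map (DirectSum.lof B ℕ M k)

include hR in
theorem T_mem_VB (j : Fin r) (n : ℕ) {x : ⨁ n, M n} (hx : x ∈ VB M t R n) :
    T M t j x ∈ VB M t R n := by
  have h1 : (VB M t R n).map (T M t j) ≤ VB M t R n := by
    unfold VB
    rw [Submodule.map_iSup]
    refine iSup_le fun k => ?_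
    rw [← Submodule.map_comp]
    have h2 : (T M t j).comp (DirectSum.lof B ℕ M k) =
        (DirectSum.lof B ℕ M (k + 1)).comp (t j k) := by
      refine LinearMap.ext fun y => ?_
      exact T_lof M t j k y
    rw [h2, Submodule.map_comp]
    exact (Submodule.map_mono (map_D_le M t R hR j n k)).trans
      (le_iSup (fun k => (D M t R n k).map (DirectSum.lof B ℕ M k)) (k + 1))
  exact h1 (Submodule.mem_map_of_mem hx)

theorem component_VB_le (n k : ℕ) :
    (VB M t R n).map (DirectSum.component B ℕ M k) ≤ D M t R n k := by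
  unfold VB
  rw [Submodule.map_iSup]
  refine iSup_le fun k' => ?_
  rw [← Submodule.map_comp]
  rintro _ ⟨y, hy, rfl⟩
  by_cases h : k' = k
  · subst h
    simpa using hy
  · have : (DirectSum.component B ℕ M k ∘ₗ DirectSum.lof B ℕ M k') y = 0 := by
      rw [LinearMap.comp_apply, DirectSum.component.of, dif_neg h]
    rw [this]
    exact Submodule.zero_mem _

include hR in
/-- `VB n` as a submodule over the operator algebra -/
noncomputable def VA (n : ℕ) : Submodule (AT M t) (⨁ n, M n) where
  carrier := VB M t R n
  add_mem' := (VB M t R n).add_mem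
  zero_mem' := (VB M t R n).zero_mem
  smul_mem' := by
    rintro ⟨a, ha⟩ x hx
    change a x ∈ VB M t R n
    have hx' : x ∈ VB M t R n := hx
    clear hx
    induction ha using Algebra.adjoin_induction generalizing x with
    | mem a ha =>
      obtain ⟨j, rfl⟩ := ha
      exact T_mem_VB M t R hR j n hx'
    | algebraMap b =>
      rw [Module.algebraMap_end_apply]
      exact (VB M t R n).smul_mem b hx'
    | add a b _ _ ha hb =>
      rw [LinearMap.add_apply]
      exact (VB M t R n).add_mem (ha hx') (hb hx')
    | mul a b _ _ ha hb =>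
      rw [Module.End.mul_apply]
      exact ha (hb hx')

/-- the ascending chain of submodules generated by the `R m`, `m ≤ n` -/
noncomputable def W (n : ℕ) : Submodule (AT M t) (⨁ n, M n) :=
  ⨆ m, ⨆ (_ : m ≤ n), Submodule.span (AT M t) (DirectSum.lof B ℕ M m '' (R m : Set (M m)))

theorem W_mono : Monotone (W M t R) := by
  intro a b hab
  unfold W
  refine iSup_le fun m => iSup_le fun hm => ?_
  exact le_iSup_of_le m (le_iSup_of_le (hm.trans hab) le_rfl)

theorem lof_mem_W (n : ℕ) (y : M n) (hy : y ∈ R n) : DirectSum.lof B ℕ M n y ∈ W M t R n := by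
  unfold W
  refine Submodule.mem_iSup_of_mem n (Submodule.mem_iSup_of_mem le_rfl ?_)
  exact Submodule.subset_span ⟨y, hy, rfl⟩

include hR in
theorem W_le_VA (n : ℕ) : W M t R n ≤ VA M t R hR n := by
  unfold W
  refine iSup_le fun m => iSup_le fun hm => ?_
  rw [Submodule.span_le]
  rintro _ ⟨y, hy, rfl⟩
  change DirectSum.lof B ℕ M m y ∈ VB M t R n
  unfold VB
  refine Submodule.mem_iSup_of_mem m ?_
  rw [D_of_le M t R hm]
  exact Submodule.mem_map_of_mem hy

variable [∀ n, Module.Finite B (M n)] (N : ℕ)
  (hgen : ∀ n, N ≤ n → ⨆ j, LinearMap.range (t j n) = ⊤)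

include hR hgen hcomm in
/-- **Noetherianity of finitely generated graded systems**: a subsystem of a finitely generated system of finite modules
over a Noetherian ring is finitely generated. -/
theorem exists_stable [IsNoetherianRing B] :
    ∃ N', ∀ n, N' ≤ n → R (n + 1) = ⨆ j, (R n).map (t j n) := by
  haveI := isNoetherian_AT M t hcomm N hgen
  obtain ⟨N', hN'⟩ := monotone_stabilizes_iff_noetherian.2 inferInstance ⟨W M t R, W_mono M t R⟩
  refine ⟨N', fun n hn => le_antisymm ?_ (iSup_le fun j => hR j n)⟩
  intro y hy
  have h1 : DirectSum.lof B ℕ M (n + 1) y ∈ W M t R n := by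
    have h2 := lof_mem_W M t R (n + 1) y hy
    have h3 : W M t R (n + 1) = W M t R n :=
      (hN' (n + 1) (by omega)).symm.trans (hN' n hn)
    rw [← h3]
    exact h2
  have h4 : DirectSum.lof B ℕ M (n + 1) y ∈ VB M t R n := W_le_VA M t R hR n h1
  have h5 := component_VB_le M t R n (n + 1) (Submodule.mem_map_of_mem h4)
  rw [DirectSum.component.lof_self, D_succ_of_lt M t R (Nat.lt_succ_self n),
    D_of_le M t R le_rfl] at h5
  exact h5

end stable

end Groth.Agent.Lib.T2H9.GrSys
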