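import Mathlib
import Groth.Agent.Lib.T2H9GrSys1
import Groth.Agent.Lib.T2H5ResPropAff
import Groth.Agent.Lib.T2H5CohSigma
import Groth.Agent.Lib.Helper23FinType2
import Groth.Agent.Lib.Helper23FinTypeLocal
import Groth.Agent.Lib.Helper23Extend

/-!
# T2H9GrSys2: finitely generated graded systems of coherent modules are Noetherian (helper9)

Namespace `Groth.Agent.Lib.T2H9.GrSys`.

A graded system of `O_X`-modules: `𝓜 n` with degree-one operators `t j n : 𝓜 n ⟶ 𝓜 (n+1)`, `j : Fin r`.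

* `σ 𝓜 t n : ∐_j 𝓜 n ⟶ 𝓜 (n+1)`, `IsFG 𝓜 t N` (`σ n` epi for `n ≥ N`), `range_σ_app`.
* `exists_stable_affine`, `isFG_sub`: on a Noetherian scheme, a quasi-coherent subsystem of a finitely generated system of
  coherent modules (with commuting operators) is finitely generated.
-/

set_option autoImplicit false
set_option linter.style.haveILetI false
set_option linter.unusedVariables false
set_option linter.unusedSectionVars false
universe u
open CategoryTheory CategoryTheory.Limits Opposite AlgebraicGeometry TopologicalSpace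

namespace Groth.Agent.Lib.T2H9.GrSys

variable {X : Scheme.{u}} {r : ℕ}

section general

variable {C : Type*} [Category C] [Preadditive C] [HasFiniteCoproducts C]

theorem sum_π_ι (E : Fin r → C) : ∑ j, Sigma.π E j ≫ Sigma.ι E j = 𝟙 (∐ E) := by
  classical
  apply Sigma.hom_ext
  intro c
  rw [Preadditive.comp_sum, Category.comp_id]
  rw [Finset.sum_eq_single c]
  · rw [← Category.assoc, Sigma.ι_π_eq_id, Category.id_comp]
  · intro d _ hd
    rw [← Category.assoc, Sigma.ι_π_of_ne _ (Ne.symm hd), Limits.zero_comp]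
  · intro hc
    exact absurd (Finset.mem_univ c) hc

end general

variable (𝓜 : ℕ → X.Modules) (t : Fin r → ∀ n, 𝓜 n ⟶ 𝓜 (n + 1))

/-- the sum of the degree-one operators -/
noncomputable def σ (n : ℕ) : (∐ fun _ : Fin r => 𝓜 n) ⟶ 𝓜 (n + 1) := Sigma.desc fun j => t j n

@[reassoc]
theorem ι_σ (j : Fin r) (n : ℕ) : Sigma.ι (fun _ : Fin r => 𝓜 n) j ≫ σ 𝓜 t n = t j n := by
  unfold σ
  exact Sigma.ι_desc _ _

/-- a graded system of modules is finitely generated (in degrees `≤ N`) -/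
def IsFG (N : ℕ) : Prop := ∀ n, N ≤ n → Epi (σ 𝓜 t n)

open Groth.Agent.Lib.T2H5.CohSigma

theorem appLin_comp {M N P : X.Modules} (φ : M ⟶ N) (ψ : N ⟶ P) (U : X.Opens) :
    appLin (φ ≫ ψ) U = (appLin ψ U).comp (appLin φ U) := rfl

theorem appLin_comp_apply {M N P : X.Modules} (φ : M ⟶ N) (ψ : N ⟶ P) (U : X.Opens) (x : Γ(M, U)) :
    appLin (φ ≫ ψ) U x = appLin ψ U (appLin φ U x) := rfl

theorem sigma_decomp (E : Fin r → X.Modules) (U : X.Opens) (x : Γ(∐ E, U)) :
    x = ∑ j, appLin (Sigma.ι E j) U (appLin (Sigma.π E j) U x) := by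
  have h1 : ∀ j, appLin (Sigma.ι E j) U (appLin (Sigma.π E j) U x) =
      appAdd (∐ E) (∐ E) U (Sigma.π E j ≫ Sigma.ι E j) x := fun j => rfl
  simp only [h1]
  rw [← AddMonoidHom.finsetSum_apply, ← map_sum, sum_π_ι]
  rfl

/-- sections of the sum map -/
theorem range_σ_app (n : ℕ) (U : X.Opens) :
    LinearMap.range (appLin (σ 𝓜 t n) U) = ⨆ j, LinearMap.range (appLin (t j n) U) := by
  apply le_antisymm
  · rintro _ ⟨z, rfl⟩
    rw [sigma_decomp (fun _ : Fin r => 𝓜 n) U z, map_sum]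
    refine Submodule.sum_mem _ fun j _ => ?_
    refine Submodule.mem_iSup_of_mem j ⟨appLin (Sigma.π (fun _ : Fin r => 𝓜 n) j) U z, ?_⟩
    exact (congrArg (fun k => appLin k U (appLin (Sigma.π (fun _ : Fin r => 𝓜 n) j) U z))
      (ι_σ 𝓜 t j n)).symm
  · refine iSup_le fun j => ?_
    rintro _ ⟨z, rfl⟩
    refine ⟨appLin (Sigma.ι (fun _ : Fin r => 𝓜 n) j) U z, ?_⟩
    exact congrArg (fun k => appLin k U z) (ι_σ 𝓜 t j n)

section sub

variable (h𝓜 : ∀ n, Coh.IsCoh (𝓜 n))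
  (hcomm : ∀ i j n, t j n ≫ t i (n + 1) = t i n ≫ t j (n + 1)) (N : ℕ) (hN : IsFG 𝓜 t N)
  (𝓡 : ℕ → X.Modules) (h𝓡 : ∀ n, (𝓡 n).IsQuasicoherent) (ι : ∀ n, 𝓡 n ⟶ 𝓜 n) (hι : ∀ n, Mono (ι n))
  (s : Fin r → ∀ n, 𝓡 n ⟶ 𝓡 (n + 1)) (hs : ∀ j n, s j n ≫ ι (n + 1) = ι n ≫ t j n)

include h𝓜 hcomm hN h𝓡 hι hs in
theorem exists_stable_affine [IsLocallyNoetherian X] {U : X.Opens} (hU : IsAffineOpen U) :
    ∃ N', ∀ n, N' ≤ n → Function.Surjective ((σ 𝓡 s n).app U) := by
  haveI : IsNoetherianRing Γ(X, U) := IsLocallyNoetherian.component_noetherian ⟨U, hU⟩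
  haveI hq : ∀ n, (𝓜 n).IsQuasicoherent := fun n => (h𝓜 n).1
  haveI : ∀ n, Module.Finite Γ(X, U) Γ(𝓜 n, U) := fun n => by
    haveI : SheafOfModules.IsFiniteType (R := X.ringCatSheaf) (𝓜 n) := (h𝓜 n).2
    exact Groth.Agent.Lib.Helper23.FinType.finite_of_isFiniteType (𝓜 n) hU
  let tU : Fin r → ∀ n, Γ(𝓜 n, U) →ₗ[Γ(X, U)] Γ(𝓜 (n + 1), U) := fun j n => appLin (t j n) U
  have hcommU : ∀ i j n x, tU i (n + 1) (tU j n x) = tU j (n + 1) (tU i n x) := by
    intro i j n x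
    exact congrArg (fun k => appLin k U x) (hcomm i j n)
  have hgen : ∀ n, N ≤ n → ⨆ j, LinearMap.range (tU j n) = ⊤ := by
    intro n hn
    rw [← range_σ_app, LinearMap.range_eq_top]
    haveI := hN n hn
    haveI : (∐ fun _ : Fin r => 𝓜 n).IsQuasicoherent :=
      isQuasicoherent_sigma _ fun _ => hq n
    exact Groth.Agent.Lib.Helper23.FinType.surjective_app_of_epi (σ 𝓜 t n) hU
  let R : ∀ n, Submodule Γ(X, U) Γ(𝓜 n, U) := fun n => LinearMap.range (appLin (ι n) U)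
  have hR : ∀ j n, (R n).map (tU j n) ≤ R (n + 1) := by
    rintro j n _ ⟨_, ⟨y, rfl⟩, rfl⟩
    refine ⟨appLin (s j n) U y, ?_⟩
    exact congrArg (fun k => appLin k U y) (hs j n)
  obtain ⟨N', hN'⟩ := exists_stable (fun n => Γ(𝓜 n, U)) tU hcommU R hR N hgen
  refine ⟨N', fun n hn => ?_⟩
  have hinj : Function.Injective (appLin (ι (n + 1)) U) := by
    haveI := hι (n + 1)
    exact Groth.Agent.Lib.Helper23.Extend.injective_app_of_mono (ι (n + 1)) U
  have h1 : (⊤ : Submodule Γ(X, U) Γ(𝓡 (n + 1), U)).map (appLin (ι (n + 1)) U) ≤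
      (LinearMap.range (appLin (σ 𝓡 s n) U)).map (appLin (ι (n + 1)) U) := by
    rw [Submodule.map_top]
    change R (n + 1) ≤ _
    rw [hN' n hn]
    refine iSup_le fun j => ?_
    rintro _ ⟨_, ⟨y, rfl⟩, rfl⟩
    refine ⟨appLin (s j n) U y, ?_, ?_⟩
    · rw [range_σ_app]
      exact Submodule.mem_iSup_of_mem j ⟨y, rfl⟩
    · exact congrArg (fun k => appLin k U y) (hs j n)
  have h2 := (Submodule.map_le_map_iff_of_injective hinj _ _).1 h1
  intro y
  obtain ⟨z, hz⟩ := h2 (Submodule.mem_top (x := y))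
  exact ⟨z, hz⟩

include h𝓜 hcomm hN h𝓡 hι hs in
/-- **finitely generated graded systems of coherent modules are Noetherian**: a quasi-coherent subsystem of a finitely
generated system of coherent modules on a Noetherian scheme is finitely generated. -/
theorem isFG_sub [IsNoetherian X] : ∃ N', IsFG 𝓡 s N' := by
  classical
  let 𝒰 : X.OpenCover := X.affineCover.finiteSubcover
  haveI hfin : Finite 𝒰.I₀ := by dsimp [𝒰]; infer_instance
  haveI := Fintype.ofFinite 𝒰.I₀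
  have haff : ∀ i, IsAffineOpen (𝒰.f i).opensRange := fun i => by
    haveI : IsAffine (𝒰.X i) := by dsimp [𝒰]; infer_instance
    exact isAffineOpen_opensRange _
  have hcov : IsOpenCover (fun i => (𝒰.f i).opensRange) := by
    rw [IsOpenCover, eq_top_iff]
    intro x _
    obtain ⟨i, z, hz⟩ := 𝒰.exists_eq x
    exact Opens.mem_iSup.2 ⟨i, ⟨z, hz⟩⟩
  choose N' hN' using fun i => exists_stable_affine 𝓜 t h𝓜 hcomm N hN 𝓡 h𝓡 ι hι s hs (haff i)
  refine ⟨Finset.univ.sup N', fun n hn => ?_⟩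
  haveI : (∐ fun _ : Fin r => 𝓡 n).IsQuasicoherent := isQuasicoherent_sigma _ fun _ => h𝓡 n
  haveI := h𝓡 (n + 1)
  refine Groth.Agent.Lib.T2H5.ResPropAff.epi_of_surjective_app_cover (σ 𝓡 s n)
    (fun i => (𝒰.f i).opensRange) hcov haff fun i => ?_
  exact hN' i n ((Finset.le_sup (Finset.mem_univ i)).trans hn)

end sub

end Groth.Agent.Lib.T2H9.GrSys
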