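import Mathlib
import Groth.Agent.Lib.T2H9GrSys2
import Groth.Agent.Lib.T2H4AmpleAffine
import Groth.Agent.Lib.T2H5GenIsoB
import Groth.Agent.Lib.T2H5Twist
import Groth.Agent.Lib.Helper23SecTw6
import Groth.Agent.Lib.Helper23TensorQCoh

/-!
# T2H9GrSys3: uniform Serre vanishing for finitely generated graded systems of coherent modules (helper9)

Namespace `Groth.Agent.Lib.T2H9.GrSys`.

* `CohSys X r`: a graded system of coherent modules with `r` commuting degree-one operators, finitely generated.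
* `CohSys.sumSys`, `CohSys.syz`: the `r`-fold sum and the system of first syzygies `ker(∐_j 𝓜 n → 𝓜 (n+1))`
  (finitely generated by `isFG_sub`).
* `uniform_vanishing`: given Serre vanishing for `L` and finite cohomological dimension, there is `d₀` with
  `H^p(X, 𝓜 n ⊗ L^d) = 0` for all `n`, all `d ≥ d₀` and all `p > 0` (descending induction on `p` through syzygies).
-/

set_option autoImplicit false
set_option linter.style.haveILetI false
set_option linter.unusedVariables false
set_option linter.unusedSectionVars false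
universe u
open CategoryTheory CategoryTheory.Limits Opposite AlgebraicGeometry TopologicalSpace

namespace Groth.Agent.Lib.T2H9.GrSys

open Groth.Agent.Lib.T2H5.Twist

variable {X : Scheme.{u}} {r : ℕ}

/-- a finitely generated graded system of coherent modules with commuting operators -/
structure CohSys (X : Scheme.{u}) (r : ℕ) where
  M : ℕ → X.Modules
  t : Fin r → ∀ n, M n ⟶ M (n + 1)
  coh : ∀ n, Coh.IsCoh (M n)
  comm : ∀ i j n, t j n ≫ t i (n + 1) = t i n ≫ t j (n + 1)
  N : ℕ
  fg : IsFG M t N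

namespace CohSys

variable (S : CohSys X r)

/-- the `r`-fold sum of the system -/
noncomputable abbrev P (n : ℕ) : X.Modules := ∐ fun _ : Fin r => S.M n

/-- the diagonal operators on the `r`-fold sum -/
noncomputable def tP (j : Fin r) (n : ℕ) : S.P n ⟶ S.P (n + 1) := Limits.Sigma.map fun _ => S.t j n

theorem tP_comm (i j : Fin r) (n : ℕ) : S.tP j n ≫ S.tP i (n + 1) = S.tP i n ≫ S.tP j (n + 1) := by
  unfold tP
  apply Sigma.hom_ext
  intro b
  simp only [Sigma.ι_map_assoc, Sigma.ι_map]
  rw [← Category.assoc, S.comm i j n, Category.assoc]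

theorem tP_σ (j : Fin r) (n : ℕ) :
    σ S.M S.t n ≫ S.t j (n + 1) = S.tP j n ≫ σ S.M S.t (n + 1) := by
  unfold tP
  apply Sigma.hom_ext
  intro b
  rw [ι_σ_assoc, Sigma.ι_map_assoc, ι_σ]
  exact S.comm j b n

theorem isFG_P : IsFG S.P S.tP S.N := by
  intro n hn
  haveI := S.fg n hn
  apply Preadditive.epi_of_cancel_zero
  intro Z g hg
  apply Sigma.hom_ext
  intro i
  rw [comp_zero]
  rw [← cancel_epi (σ S.M S.t n)]
  apply Sigma.hom_ext
  intro j
  rw [comp_zero, comp_zero, ι_σ_assoc]
  have h1 : S.t j n ≫ Sigma.ι (fun _ : Fin r => S.M (n + 1)) i =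
      Sigma.ι (fun _ : Fin r => S.M n) i ≫ S.tP j n := by
    unfold tP
    rw [Sigma.ι_map]
  rw [← Category.assoc, h1, ← ι_σ S.P S.tP j n, Category.assoc, Category.assoc, hg, comp_zero, comp_zero]

/-- the module of relations -/
noncomputable abbrev Rk (n : ℕ) : X.Modules := kernel (σ S.M S.t n)

noncomputable abbrev ιR (n : ℕ) : S.Rk n ⟶ S.P n := kernel.ι (σ S.M S.t n)


/-- the operators on the relations -/
noncomputable def sR (j : Fin r) (n : ℕ) : S.Rk n ⟶ S.Rk (n + 1) :=
  kernel.map _ _ (S.tP j n) (S.t j (n + 1)) (S.tP_σ j n)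

theorem sR_ι (j : Fin r) (n : ℕ) : S.sR j n ≫ S.ιR (n + 1) = S.ιR n ≫ S.tP j n := by
  unfold sR
  exact kernel.lift_ι _ _ _

theorem isCoh_P (n : ℕ) : Coh.IsCoh (S.P n) :=
  Groth.Agent.Lib.T2H5.GenIsoA.isCoh_sigma _ fun _ => S.coh n

theorem isCoh_Rk [IsLocallyNoetherian X] (n : ℕ) : Coh.IsCoh (S.Rk n) :=
  Groth.Agent.Lib.T2H5.GenIsoB.isCoh_kernel _ (S.isCoh_P n) (S.coh (n + 1))

/-- the `r`-fold sum system -/
noncomputable def sumSys : CohSys X r where
  M := S.P
  t := S.tP
  coh := S.isCoh_P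
  comm := S.tP_comm
  N := S.N
  fg := S.isFG_P

/-- the system of relations (first syzygies) -/
noncomputable def syz [IsNoetherian X] : CohSys X r where
  M := S.Rk
  t := S.sR
  coh := S.isCoh_Rk
  comm := by
    intro i j n
    rw [← cancel_mono (S.ιR (n + 1 + 1)), Category.assoc, Category.assoc, sR_ι, sR_ι,
      ← Category.assoc, ← Category.assoc, sR_ι, sR_ι, Category.assoc, Category.assoc, S.tP_comm i j n]
  N := (isFG_sub S.P S.tP S.isCoh_P S.tP_comm S.N S.isFG_P S.Rk (fun n => (S.isCoh_Rk n).1) S.ιR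
    (fun n => inferInstance) S.sR S.sR_ι).choose
  fg := (isFG_sub S.P S.tP S.isCoh_P S.tP_comm S.N S.isFG_P S.Rk (fun n => (S.isCoh_Rk n).1) S.ιR
    (fun n => inferInstance) S.sR S.sR_ι).choose_spec

end CohSys

section vanishing

variable [IsNoetherian X] (L : X.Modules) (hL : PicF.IsInvertible L)
  (hSerre : ∀ M : X.Modules, Coh.IsCoh M → ∃ n₀ : ℕ, ∀ n, n₀ ≤ n → ∀ p, 0 < p →
      Subsingleton (Coh.HH X (CohB1.tensorMod M (CohB1.tensorPow L n)) p))
  (D : ℕ) (hD : ∀ (M : X.Modules) [M.IsQuasicoherent] (n : ℕ), D ≤ n → Subsingleton (Coh.HH X M n))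

include hL in
theorem isQuasicoherent_twist (M : X.Modules) [M.IsQuasicoherent] (d : ℕ) :
    (CohB1.tensorMod M (CohB1.tensorPow L d)).IsQuasicoherent := by
  haveI : (CohB1.tensorPow L d).IsQuasicoherent :=
    Groth.Agent.Lib.Helper23.SecTw.isQuasicoherent_of_isInvertible _
      (Groth.Agent.Lib.Helper23.SecTw.isInvertible_tensorPow hL d)
  exact Groth.Agent.Lib.Helper23.TensorQCoh.isQuasicoherent_tensorMod _ _

theorem subsingleton_HH_of_iso {M N : X.Modules} (e : M ≅ N) (p : ℕ)
    (h : Subsingleton (Coh.HH X M p)) : Subsingleton (Coh.HH X N p) := by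
  let e' := ((CohIII.HAb X p).mapIso e).addCommGroupIsoToAddEquiv
  haveI : Subsingleton ((CohIII.HAb X p).obj M) := h
  exact e'.symm.toEquiv.subsingleton

/-- twisting commutes with finite coproducts, on the level of vanishing of cohomology -/
theorem subsingleton_HH_twist_sigma (E : Fin r → X.Modules) (K : X.Modules) (p : ℕ)
    (h : ∀ j, Subsingleton (Coh.HH X (CohB1.tensorMod (E j) K) p)) :
    Subsingleton (Coh.HH X (CohB1.tensorMod (∐ E) K) p) := by
  haveI : PreservesFiniteColimits (tr K) := preservesFiniteColimits_tr K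
  have e : (∐ fun j => (tr K).obj (E j)) ≅ (tr K).obj (∐ E) := PreservesCoproduct.iso (tr K) E |>.symm
  have h1 : Subsingleton (Coh.HH X (∐ fun j => (tr K).obj (E j)) p) :=
    Groth.Agent.Lib.T2H4.AmpleAffine.subsingleton_HH_sigma _ p h
  exact subsingleton_HH_of_iso e p h1

include hL hSerre hD in
theorem uniform_vanishing_aux (k : ℕ) : ∀ (q : ℕ), D ≤ q + k → ∀ S : CohSys X r,
    ∃ d₀ : ℕ, ∀ d, d₀ ≤ d → ∀ n p, q ≤ p → 0 < p →
      Subsingleton (Coh.HH X (CohB1.tensorMod (S.M n) (CohB1.tensorPow L d)) p) := by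
  induction k with
  | zero =>
    intro q hq S
    refine ⟨0, fun d _ n p hp _ => ?_⟩
    haveI := (S.coh n).1
    haveI := isQuasicoherent_twist L hL (S.M n) d
    exact hD _ p (by omega)
  | succ k ih =>
    intro q hq S
    obtain ⟨d₁, hd₁⟩ := ih (q + 1) (by omega) S.syz
    choose n₀ hn₀ using fun n => hSerre (S.M n) (S.coh n)
    refine ⟨max d₁ ((Finset.range (S.N + 1)).sup n₀), fun d hd n p hp hp0 => ?_⟩
    have hd1 : d₁ ≤ d := (le_max_left _ _).trans hd
    have hd2 : ∀ m, m ≤ S.N → n₀ m ≤ d := fun m hm =>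
      ((Finset.le_sup (Finset.mem_range.2 (Nat.lt_succ_of_le hm))).trans (le_max_right _ _)).trans hd
    set Ld := CohB1.tensorPow L d with hLd
    have hLdinv : PicF.IsInvertible Ld := Groth.Agent.Lib.Helper23.SecTw.isInvertible_tensorPow hL d
    induction n with
    | zero => exact hn₀ 0 d (hd2 0 (Nat.zero_le _)) p hp0
    | succ m ihm =>
      by_cases hm : m + 1 ≤ S.N
      · exact hn₀ (m + 1) d (hd2 (m + 1) hm) p hp0
      · have hmN : S.N ≤ m := by omega
        haveI : Epi (σ S.M S.t m) := S.fg m hmN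
        let S' : ShortComplex X.Modules :=
          ShortComplex.mk (kernel.ι (σ S.M S.t m)) (σ S.M S.t m) (kernel.condition _)
        have hS' : S'.ShortExact :=
          { exact := ShortComplex.exact_kernel (σ S.M S.t m)
            mono_f := inferInstanceAs (Mono (kernel.ι (σ S.M S.t m)))
            epi_g := inferInstanceAs (Epi (σ S.M S.t m)) }
        have hS'' := shortExact_map_tr hLdinv S' hS'
        have h2 : Subsingleton (Coh.HH X (S'.map (tr Ld)).X₂ p) :=
          subsingleton_HH_twist_sigma (fun _ : Fin r => S.M m) Ld p fun _ => ihm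
        have h1 : Subsingleton (Coh.HH X (S'.map (tr Ld)).X₁ (p + 1)) :=
          hd₁ d hd1 m (p + 1) (by omega) (by omega)
        exact Groth.Agent.Lib.T2H4.AmpleAffine.subsingleton_right _ hS'' p h2 h1

include hL hSerre hD in
/-- **uniform Serre vanishing** for a finitely generated graded system of coherent modules -/
theorem uniform_vanishing (S : CohSys X r) :
    ∃ d₀ : ℕ, ∀ d, d₀ ≤ d → ∀ n p, 0 < p →
      Subsingleton (Coh.HH X (CohB1.tensorMod (S.M n) (CohB1.tensorPow L d)) p) := by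
  obtain ⟨d₀, h⟩ := uniform_vanishing_aux L hL hSerre D hD D 0 (by omega) S
  exact ⟨d₀, fun d hd n p hp => h d hd n p (Nat.zero_le _) hp⟩

end vanishing

end Groth.Agent.Lib.T2H9.GrSys
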