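import Mathlib
import Groth.Agent.Lib.T2H9GrSys3
import Groth.Agent.Lib.T2H2AlgzB
import Groth.Agent.Lib.T2H9ModPow
import Groth.Agent.Lib.T2H9FFGeom3

/-!
# T2H9GrAdic: the associated graded system of an adic system of modules (helper9)

Namespace `Groth.Agent.Lib.T2H9.GrAdic`.

* `eq_zero_of_lift_comp`: for `t : M ⟶ M'` exhibiting `M' = M/JM`, the kernel of `t` is jointly covered by the multiplications
  by elements of `J`.
* `IsAdic I G`: `G_n` killed by `I^{n+1}` and `G_{n+1} → G_n` exhibits `G_n = G_{n+1}/I^{n+1}G_{n+1}`; `isAdic_of_isCohFormal`.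
* `mt hG a ha n : G_n ⟶ G_{n+1}` (multiplication by `a ∈ I`), `τ_mt`, `mt_τ`, `mt_comm`.
* `gr G n = ker(G_{n+1} → G_n)`, `tg`, `tgs` (operators given by generators of `I`), `tgs_comm`, `isFG_gr` (generated in degree `0`),
  `grSys : CohSys X r`.
* `uniform_vanishing_kernels` (S0848): uniform vanishing of `H^p(X, ker(G_{n+1} → G_n) ⊗ L^d)`.
-/

set_option autoImplicit false
set_option linter.style.haveILetI false
set_option linter.unusedVariables false
set_option linter.unusedSectionVars false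
universe u
open CategoryTheory CategoryTheory.Limits Opposite AlgebraicGeometry TopologicalSpace

namespace Groth.Agent.Lib.T2H9.GrAdic

open Groth.Agent.Lib.T2H2.AlgzB Groth.Agent.Lib.T2H9.GrSys Groth.Agent.Lib.T2H9.ModPow

variable {A : Type u} [CommRing A] {X : Scheme.{u}} [X.Over (Spec (CommRingCat.of A))]

section quot

variable {J : Ideal A} {M M' : X.Modules} {t : M ⟶ M'} (ht : IsQuotBy J t)

include ht in
/-- the kernel of `M → M/JM` is jointly covered by the multiplications by elements of `J` -/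
theorem eq_zero_of_lift_comp {Z : X.Modules} (g : kernel t ⟶ Z)
    (h : ∀ b (hb : b ∈ J), kernel.lift t (Formal.smulMod A M b) (ht.kill b hb) ≫ g = 0) : g = 0 := by
  obtain ⟨h0, hiso⟩ := (isQuotBy_iff J t).1 ht
  set f := Formal.smulFamily J M with hf
  let e := asIso (cokernel.desc f t h0)
  have he : cokernel.π f ≫ e.hom = t := cokernel.π_desc _ _ _
  -- `P : ∐ M ⟶ kernel t`
  let P : (∐ fun _ : J => M) ⟶ kernel t := kernel.lift t f h0
  have hP : Epi P := by
    -- `P ≫ (kernel t ≅ image f)`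
    let κ : kernel t ⟶ Abelian.image f :=
      kernel.lift (cokernel.π f) (kernel.ι t) (by
        rw [← cancel_mono e.hom, Category.assoc, he, kernel.condition, zero_comp])
    let κ' : Abelian.image f ⟶ kernel t :=
      kernel.lift t (kernel.ι (cokernel.π f)) (by
        rw [← he, ← Category.assoc, kernel.condition, zero_comp])
    have h1 : P = Abelian.factorThruImage f ≫ κ' := by
      rw [← cancel_mono (kernel.ι t), Category.assoc, kernel.lift_ι, kernel.lift_ι]
      exact (Abelian.image.fac f).symm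
    have h2 : κ' ≫ κ = 𝟙 _ := by
      rw [← cancel_mono (kernel.ι (cokernel.π f)), Category.assoc, kernel.lift_ι, kernel.lift_ι,
        Category.id_comp]
    have h3 : κ ≫ κ' = 𝟙 _ := by
      rw [← cancel_mono (kernel.ι t), Category.assoc, kernel.lift_ι, kernel.lift_ι,
        Category.id_comp]
    haveI : IsIso κ' := ⟨κ, h2, h3⟩
    rw [h1]
    infer_instance
  rw [← cancel_epi P, comp_zero]
  apply Sigma.hom_ext
  intro b
  rw [comp_zero, ← Category.assoc]
  have h4 : Sigma.ι (fun _ : J => M) b ≫ P =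
      kernel.lift t (Formal.smulMod A M b) (ht.kill b b.2) := by
    rw [← cancel_mono (kernel.ι t), Category.assoc, kernel.lift_ι, kernel.lift_ι]
    simp [hf, Formal.smulFamily]
  rw [h4]
  exact h b b.2

end quot

section adic

variable (I : Ideal A)

/-- an `I`-adic system: `G_n` is killed by `I^{n+1}` and `G_{n+1} → G_n` exhibits `G_n = G_{n+1}/I^{n+1}G_{n+1}` -/
structure IsAdic (G : ℕᵒᵖ ⥤ X.Modules) : Prop where
  quot : ∀ n, IsQuotBy (I ^ (n + 1)) (G.map (homOfLE (Nat.le_succ n)).op)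
  kill : ∀ n, Formal.KilledBy (I ^ (n + 1)) (G.obj (op n))

theorem isAdic_of_isCohFormal {G : ℕᵒᵖ ⥤ X.Modules} (hG : Formal.IsCohFormal I G) : IsAdic I G := by
  obtain ⟨_, h2, h3⟩ := (isCohFormal_iff I G).1 hG
  exact ⟨h3, h2⟩

variable {I} {G : ℕᵒᵖ ⥤ X.Modules} (hG : IsAdic I G)

/-- the transition map `G_{n+1} ⟶ G_n` -/
abbrev τ (G : ℕᵒᵖ ⥤ X.Modules) (n : ℕ) : G.obj (op (n + 1)) ⟶ G.obj (op n) :=
  G.map (homOfLE (Nat.le_succ n)).op

include hG in
theorem epi_τ (n : ℕ) : Epi (τ G n) := (hG.quot n).epi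

include hG in
theorem exists_mt (a : A) (ha : a ∈ I) (n : ℕ) :
    ∃ m : G.obj (op n) ⟶ G.obj (op (n + 1)), τ G n ≫ m = Formal.smulMod A (G.obj (op (n + 1))) a := by
  refine (hG.quot n).fac _ (Formal.smulMod A (G.obj (op (n + 1))) a) ?_
  intro b hb
  rw [← smulMod_mul]
  refine hG.kill (n + 1) _ ?_
  rw [pow_succ']
  exact Ideal.mul_mem_mul ha hb

/-- multiplication by `a ∈ I` as a map `G_n = G_{n+1}/I^{n+1} ⟶ G_{n+1}` -/
noncomputable def mt (a : A) (ha : a ∈ I) (n : ℕ) : G.obj (op n) ⟶ G.obj (op (n + 1)) :=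
  (exists_mt hG a ha n).choose

@[reassoc]
theorem τ_mt (a : A) (ha : a ∈ I) (n : ℕ) :
    τ G n ≫ mt hG a ha n = Formal.smulMod A (G.obj (op (n + 1))) a :=
  (exists_mt hG a ha n).choose_spec

@[reassoc]
theorem mt_τ (a : A) (ha : a ∈ I) (n : ℕ) :
    mt hG a ha n ≫ τ G n = Formal.smulMod A (G.obj (op n)) a := by
  haveI := epi_τ hG n
  rw [← cancel_epi (τ G n), τ_mt_assoc, Groth.Agent.S9530.smulMod_comp]

theorem mt_comm (a b : A) (ha : a ∈ I) (hb : b ∈ I) (n : ℕ) :
    mt hG a ha n ≫ mt hG b hb (n + 1) = mt hG b hb n ≫ mt hG a ha (n + 1) := by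
  haveI := epi_τ hG n
  haveI := epi_τ hG (n + 1)
  rw [← cancel_epi (τ G n), τ_mt_assoc, τ_mt_assoc, ← cancel_epi (τ G (n + 1))]
  have h1 : ∀ (c d : A) (hd : d ∈ I), τ G (n + 1) ≫ Formal.smulMod A (G.obj (op (n + 1))) c ≫
      mt hG d hd (n + 1) = Formal.smulMod A (G.obj (op (n + 1 + 1))) (d * c) := by
    intro c d hd
    rw [← Category.assoc, ← Groth.Agent.S9530.smulMod_comp, Category.assoc, τ_mt, ← smulMod_mul]
  rw [h1 a b hb, h1 b a ha, mul_comm]

/-- the graded pieces `I^{n+1}G_{n+1} = ker(G_{n+1} → G_n)` -/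
noncomputable abbrev gr (G : ℕᵒᵖ ⥤ X.Modules) (n : ℕ) : X.Modules := kernel (τ G n)

include hG in
theorem ι_smulMod (a : A) (ha : a ∈ I) (n : ℕ) :
    kernel.ι (τ G n) ≫ Formal.smulMod A (G.obj (op (n + 1))) a = 0 := by
  rw [← τ_mt hG a ha n, ← Category.assoc, kernel.condition, zero_comp]

/-- multiplication by `a ∈ I` on the graded pieces -/
noncomputable def tg (a : A) (ha : a ∈ I) (n : ℕ) : gr G n ⟶ gr G (n + 1) :=
  kernel.lift (τ G (n + 1)) (kernel.ι (τ G n) ≫ mt hG a ha (n + 1)) (by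
    rw [Category.assoc, mt_τ, ι_smulMod hG a ha n])

@[reassoc]
theorem tg_ι (a : A) (ha : a ∈ I) (n : ℕ) :
    tg hG a ha n ≫ kernel.ι (τ G (n + 1)) = kernel.ι (τ G n) ≫ mt hG a ha (n + 1) :=
  kernel.lift_ι _ _ _

theorem tg_comm (a b : A) (ha : a ∈ I) (hb : b ∈ I) (n : ℕ) :
    tg hG a ha n ≫ tg hG b hb (n + 1) = tg hG b hb n ≫ tg hG a ha (n + 1) := by
  rw [← cancel_mono (kernel.ι (τ G (n + 1 + 1))), Category.assoc, Category.assoc, tg_ι, tg_ι,
    tg_ι_assoc, tg_ι_assoc, mt_comm]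

section fg

variable {r : ℕ} (a : Fin r → A) (hspan : Ideal.span (Set.range a) = I)

include hspan in
theorem mem_gen (j : Fin r) : a j ∈ I := hspan ▸ Ideal.subset_span ⟨j, rfl⟩

/-- the degree-one operators on the graded pieces given by generators of `I` -/
noncomputable def tgs (j : Fin r) (n : ℕ) : gr G n ⟶ gr G (n + 1) :=
  tg hG (a j) (mem_gen a hspan j) n

theorem tgs_comm (i j : Fin r) (n : ℕ) :
    tgs hG a hspan j n ≫ tgs hG a hspan i (n + 1) = tgs hG a hspan i n ≫ tgs hG a hspan j (n + 1) :=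
  tg_comm hG _ _ _ _ n

/-- multiplication by `b ∈ I^{n+1}` as a map `G_{n+1} ⟶ I^{n+1}G_{n+1}` -/
noncomputable def pb (n : ℕ) (b : A) (hb : b ∈ I ^ (n + 1)) : G.obj (op (n + 1)) ⟶ gr G n :=
  kernel.lift (τ G n) (Formal.smulMod A (G.obj (op (n + 1))) b) ((hG.quot n).kill b hb)

@[reassoc]
theorem pb_ι (n : ℕ) (b : A) (hb : b ∈ I ^ (n + 1)) :
    pb hG n b hb ≫ kernel.ι (τ G n) = Formal.smulMod A (G.obj (op (n + 1))) b :=
  kernel.lift_ι _ _ _

theorem pb_add (n : ℕ) (b b' : A) (hb : b ∈ I ^ (n + 1)) (hb' : b' ∈ I ^ (n + 1)) :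
    pb hG n (b + b') (Ideal.add_mem _ hb hb') = pb hG n b hb + pb hG n b' hb' := by
  rw [← cancel_mono (kernel.ι (τ G n)), Preadditive.add_comp, pb_ι, pb_ι, pb_ι]
  exact Groth.Agent.Lib.T2H9.FFGeom.smulMod_add X _ b b'

theorem pb_zero (n : ℕ) : pb hG n 0 (Ideal.zero_mem _) = 0 := by
  rw [← cancel_mono (kernel.ι (τ G n)), pb_ι, zero_comp]
  exact Groth.Agent.Lib.T2H9.FFGeom.smulMod_zero X _

theorem pb_mul (n : ℕ) (j : Fin r) (c : A) (hc : c ∈ I ^ (n + 1))
    (h : a j * c ∈ I ^ (n + 1 + 1)) :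
    pb hG (n + 1) (a j * c) h = τ G (n + 1) ≫ pb hG n c hc ≫ tgs hG a hspan j n := by
  rw [← cancel_mono (kernel.ι (τ G (n + 1))), pb_ι, Category.assoc, Category.assoc]
  unfold tgs
  rw [tg_ι, pb_ι_assoc, ← Category.assoc, ← Groth.Agent.S9530.smulMod_comp, Category.assoc, τ_mt,
    ← smulMod_mul]

include hspan in
/-- the associated graded system of an adic system is generated in degree `0` -/
theorem isFG_gr : IsFG (gr G) (tgs hG a hspan) 0 := by
  intro n _
  apply Preadditive.epi_of_cancel_zero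
  intro Z g hg
  apply eq_zero_of_lift_comp (hG.quot (n + 1)) g
  intro b hb
  change pb hG (n + 1) b hb ≫ g = 0
  -- the property to prove by induction
  let C : A → Prop := fun b => ∃ hb : b ∈ I ^ (n + 1 + 1), pb hG (n + 1) b hb ≫ g = 0
  suffices hC : C b from hC.2
  have hCadd : ∀ x y, C x → C y → C (x + y) := by
    rintro x y ⟨hx, hx'⟩ ⟨hy, hy'⟩
    refine ⟨Ideal.add_mem _ hx hy, ?_⟩
    rw [pb_add hG (n + 1) x y hx hy, Preadditive.add_comp, hx', hy', add_zero]
  have hC0 : C 0 := ⟨Ideal.zero_mem _, by rw [pb_zero, zero_comp]⟩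
  have hb' : b ∈ I * I ^ (n + 1) := by rwa [← pow_succ']
  refine Submodule.mul_induction_on hb' ?_ hCadd
  intro x hx y hy
  have hD : ∀ y ∈ I ^ (n + 1), C (x * y) := by
    rw [← hspan] at hx
    induction hx using Submodule.span_induction with
    | mem x hx =>
      obtain ⟨j, rfl⟩ := hx
      intro y hy
      have hmem : a j * y ∈ I ^ (n + 1 + 1) := by
        rw [pow_succ' I (n + 1)]
        exact Ideal.mul_mem_mul (mem_gen a hspan j) hy
      refine ⟨hmem, ?_⟩
      rw [pb_mul hG a hspan n j y hy hmem, Category.assoc, Category.assoc,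
        ← ι_σ (gr G) (tgs hG a hspan) j n, Category.assoc, hg, comp_zero, comp_zero, comp_zero]
    | zero =>
      intro y _
      rw [zero_mul]
      exact hC0
    | add x x' _ _ hx hx' =>
      intro y hy
      rw [add_mul]
      exact hCadd _ _ (hx y hy) (hx' y hy)
    | smul s x _ hx =>
      intro y hy
      have h1 : s • x * y = x * (s * y) := by rw [smul_eq_mul]; ring
      rw [h1]
      exact hx (s * y) (Ideal.mul_mem_left _ s hy)
  exact hD y hy

/-- the associated graded system of a coherent adic system, as a finitely generated graded system -/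
noncomputable def grSys [IsLocallyNoetherian X] (hGc : ∀ n, Coh.IsCoh (G.obj (op n))) : CohSys X r where
  M := gr G
  t := tgs hG a hspan
  coh := fun n => Groth.Agent.Lib.T2H5.GenIsoB.isCoh_kernel (τ G n) (hGc (n + 1)) (hGc n)
  comm := tgs_comm hG a hspan
  N := 0
  fg := isFG_gr hG a hspan

end fg

end adic

section main

variable [IsNoetherianRing A] (I : Ideal A) [IsNoetherian X] (L : X.Modules) (hL : PicF.IsInvertible L)
  (hSerre : ∀ M : X.Modules, Coh.IsCoh M → ∃ n₀ : ℕ, ∀ n, n₀ ≤ n → ∀ p, 0 < p →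
      Subsingleton (Coh.HH X (CohB1.tensorMod M (CohB1.tensorPow L n)) p))
  (D : ℕ) (hD : ∀ (M : X.Modules) [M.IsQuasicoherent] (n : ℕ), D ≤ n → Subsingleton (Coh.HH X M n))

include hL hSerre hD in
/-- uniform vanishing for the kernels of the transition maps of a coherent formal module -/
theorem uniform_vanishing_kernels (G : ℕᵒᵖ ⥤ X.Modules) (hG : Formal.IsCohFormal I G) :
    ∃ d₀ : ℕ, ∀ d, d₀ ≤ d → ∀ n p, 0 < p →
      Subsingleton (Coh.HH X (CohB1.tensorMod (kernel (G.map (homOfLE (Nat.le_succ n)).op))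
        (CohB1.tensorPow L d)) p) := by
  obtain ⟨r, a, hspan⟩ := (Submodule.fg_iff_exists_fin_generating_family).1
    (IsNoetherian.noetherian I)
  have hA := isAdic_of_isCohFormal I hG
  exact uniform_vanishing L hL hSerre D hD (grSys hA a hspan hG.1)

end main

end Groth.Agent.Lib.T2H9.GrAdic
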