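import Mathlib
import Groth.Agent.Lib.T2H9GrAdic

/-!
# T2H9Tower1: towers of modules with multiplication operators (helper9)

Namespace `Groth.Agent.Lib.T2H9.Tower`.

* `IsTower a G`: `G : ℕᵒᵖ ⥤ X.Modules` with epimorphic transition maps and maps `mT j n : G_n ⟶ G_{n+1}` lifting multiplication
  by `a j` (`τ_mT`); `mT_τ`, `mT_comm`, operators `tgT` on the graded pieces `gr G n = ker(G_{n+1} → G_n)`, `tgT_comm`.
* `isTower_of_isAdic`, `isFG_tgT`: adic systems are towers with graded pieces generated in degree `0`.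
* morphisms of towers: `φ_mT`, `grMap`, `grMap_tgT`.
* the kernel tower `kerTower φ` of a morphism of towers, `kerι`, `epi_τK` (snake lemma), `isTower_kerTower`, `isFG_kerTower`.
* `epi_grMap`: a levelwise epimorphism of adic systems is an epimorphism on graded pieces.
* `epi_of_epi_comp_τ`: Nakayama for towers.
-/

set_option autoImplicit false
set_option linter.style.haveILetI false
set_option linter.unusedVariables false
set_option linter.unusedSectionVars false
universe u
open CategoryTheory CategoryTheory.Limits Opposite AlgebraicGeometry TopologicalSpace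

namespace Groth.Agent.Lib.T2H9.Tower

open Groth.Agent.Lib.T2H2.AlgzB Groth.Agent.Lib.T2H9.GrSys Groth.Agent.Lib.T2H9.ModPow
  Groth.Agent.Lib.T2H9.GrAdic

variable {A : Type u} [CommRing A] {X : Scheme.{u}} [X.Over (Spec (CommRingCat.of A))]
variable {r : ℕ} (a : Fin r → A)

/-- a tower: epimorphic transition maps and multiplication operators `G_n ⟶ G_{n+1}` by the `a j` -/
structure IsTower (G : ℕᵒᵖ ⥤ X.Modules) : Prop where
  epi : ∀ n, Epi (τ G n)
  exists_m : ∀ j n, ∃ m : G.obj (op n) ⟶ G.obj (op (n + 1)),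
    τ G n ≫ m = Formal.smulMod A (G.obj (op (n + 1))) (a j)

variable {a} {G : ℕᵒᵖ ⥤ X.Modules} (hG : IsTower a G)

/-- multiplication by `a j` as a map `G_n ⟶ G_{n+1}` -/
noncomputable def mT (j : Fin r) (n : ℕ) : G.obj (op n) ⟶ G.obj (op (n + 1)) :=
  (hG.exists_m j n).choose

@[reassoc]
theorem τ_mT (j : Fin r) (n : ℕ) :
    τ G n ≫ mT hG j n = Formal.smulMod A (G.obj (op (n + 1))) (a j) :=
  (hG.exists_m j n).choose_spec

@[reassoc]
theorem mT_τ (j : Fin r) (n : ℕ) :
    mT hG j n ≫ τ G n = Formal.smulMod A (G.obj (op n)) (a j) := by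
  haveI := hG.epi n
  rw [← cancel_epi (τ G n), τ_mT_assoc, Groth.Agent.S9530.smulMod_comp]

theorem mT_comm (i j : Fin r) (n : ℕ) :
    mT hG j n ≫ mT hG i (n + 1) = mT hG i n ≫ mT hG j (n + 1) := by
  haveI := hG.epi n
  haveI := hG.epi (n + 1)
  rw [← cancel_epi (τ G n), τ_mT_assoc, τ_mT_assoc, ← cancel_epi (τ G (n + 1))]
  have h1 : ∀ (c d : Fin r), τ G (n + 1) ≫ Formal.smulMod A (G.obj (op (n + 1))) (a c) ≫
      mT hG d (n + 1) = Formal.smulMod A (G.obj (op (n + 1 + 1))) (a d * a c) := by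
    intro c d
    rw [← Category.assoc, ← Groth.Agent.S9530.smulMod_comp, Category.assoc, τ_mT, ← smulMod_mul]
  rw [h1 j i, h1 i j, mul_comm]

include hG in
theorem ι_smulMod (j : Fin r) (n : ℕ) :
    kernel.ι (τ G n) ≫ Formal.smulMod A (G.obj (op (n + 1))) (a j) = 0 := by
  rw [← τ_mT hG j n, ← Category.assoc, kernel.condition, zero_comp]

/-- multiplication by `a j` on the graded pieces -/
noncomputable def tgT (j : Fin r) (n : ℕ) : gr G n ⟶ gr G (n + 1) :=
  kernel.lift (τ G (n + 1)) (kernel.ι (τ G n) ≫ mT hG j (n + 1)) (by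
    rw [Category.assoc, mT_τ, ι_smulMod hG j n])

@[reassoc]
theorem tgT_ι (j : Fin r) (n : ℕ) :
    tgT hG j n ≫ kernel.ι (τ G (n + 1)) = kernel.ι (τ G n) ≫ mT hG j (n + 1) :=
  kernel.lift_ι _ _ _

theorem tgT_comm (i j : Fin r) (n : ℕ) :
    tgT hG j n ≫ tgT hG i (n + 1) = tgT hG i n ≫ tgT hG j (n + 1) := by
  rw [← cancel_mono (kernel.ι (τ G (n + 1 + 1))), Category.assoc, Category.assoc, tgT_ι, tgT_ι,
    tgT_ι_assoc, tgT_ι_assoc, mT_comm]

section adic

variable {I : Ideal A} (hA : IsAdic I G) (hspan : Ideal.span (Set.range a) = I)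

include hA hspan in
theorem isTower_of_isAdic : IsTower a G where
  epi := epi_τ hA
  exists_m := fun j n => exists_mt hA (a j) (mem_gen a hspan j) n

theorem mT_eq_mt (j : Fin r) (n : ℕ) : mT hG j n = mt hA (a j) (mem_gen a hspan j) n := by
  haveI := hG.epi n
  rw [← cancel_epi (τ G n), τ_mT, τ_mt]

theorem tgT_eq_tgs (j : Fin r) (n : ℕ) : tgT hG j n = tgs hA a hspan j n := by
  rw [← cancel_mono (kernel.ι (τ G (n + 1))), tgT_ι]
  unfold tgs
  rw [tg_ι, mT_eq_mt hG hA hspan]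

include hA hspan in
theorem isFG_tgT : IsFG (gr G) (tgT hG) 0 := by
  have h : tgT hG = tgs hA a hspan := by
    funext j n
    exact tgT_eq_tgs hG hA hspan j n
  rw [h]
  exact isFG_gr hA a hspan

end adic

section morphism

variable {G' : ℕᵒᵖ ⥤ X.Modules} (hG' : IsTower a G') (φ : G ⟶ G')

@[reassoc]
theorem φ_τ (n : ℕ) : φ.app (op (n + 1)) ≫ τ G' n = τ G n ≫ φ.app (op n) :=
  (φ.naturality _).symm

@[reassoc]
theorem φ_mT (j : Fin r) (n : ℕ) :
    φ.app (op n) ≫ mT hG' j n = mT hG j n ≫ φ.app (op (n + 1)) := by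
  haveI := hG.epi n
  rw [← cancel_epi (τ G n), ← φ_τ_assoc, τ_mT, τ_mT_assoc, Groth.Agent.S9530.smulMod_comp]

/-- the induced map on graded pieces -/
noncomputable def grMap (n : ℕ) : gr G n ⟶ gr G' n :=
  kernel.map (τ G n) (τ G' n) (φ.app (op (n + 1))) (φ.app (op n)) (φ_τ φ n).symm

@[reassoc]
theorem grMap_ι (n : ℕ) :
    grMap φ n ≫ kernel.ι (τ G' n) = kernel.ι (τ G n) ≫ φ.app (op (n + 1)) :=
  kernel.lift_ι _ _ _

theorem grMap_tgT (j : Fin r) (n : ℕ) :
    tgT hG j n ≫ grMap φ (n + 1) = grMap φ n ≫ tgT hG' j n := by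
  rw [← cancel_mono (kernel.ι (τ G' (n + 1))), Category.assoc, Category.assoc, grMap_ι, tgT_ι,
    tgT_ι_assoc, grMap_ι_assoc, φ_mT hG hG']

end morphism

section kernel

variable {G' : ℕᵒᵖ ⥤ X.Modules} (hG' : IsTower a G') (φ : G ⟶ G')

/-- the transition maps of the kernel tower -/
noncomputable def τK (n : ℕ) : kernel (φ.app (op (n + 1))) ⟶ kernel (φ.app (op n)) :=
  kernel.map (φ.app (op (n + 1))) (φ.app (op n)) (τ G n) (τ G' n) (φ_τ φ n)

@[reassoc]
theorem τK_ι (n : ℕ) :
    τK φ n ≫ kernel.ι (φ.app (op n)) = kernel.ι (φ.app (op (n + 1))) ≫ τ G n :=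
  kernel.lift_ι _ _ _

/-- the kernel tower of a morphism of towers -/
noncomputable def kerTower : ℕᵒᵖ ⥤ X.Modules :=
  Functor.ofOpSequence (X := fun n => kernel (φ.app (op n))) (τK φ)

theorem kerTower_obj (n : ℕ) : (kerTower φ).obj (op n) = kernel (φ.app (op n)) := rfl

theorem τ_kerTower (n : ℕ) : τ (kerTower φ) n = τK φ n :=
  Functor.ofOpSequence_map_homOfLE_succ _ n

/-- the inclusion of the kernel tower -/
noncomputable def kerι : kerTower φ ⟶ G :=
  NatTrans.ofOpSequence (fun n => kernel.ι (φ.app (op n))) (fun n =>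
    (congrArg (fun k => k ≫ kernel.ι (φ.app (op n))) (τ_kerTower φ n)).trans (τK_ι φ n))

theorem kerι_app (n : ℕ) : (kerι φ).app (op n) = kernel.ι (φ.app (op n)) := rfl

instance (n : ℕ) : Mono ((kerι φ).app (op n)) :=
  inferInstanceAs (Mono (kernel.ι (φ.app (op n))))

theorem kerι_comp : kerι φ ≫ φ = 0 := by
  apply NatTrans.ext
  funext n
  induction n using Opposite.rec with
  | _ n => exact kernel.condition (φ.app (op n))

include hG hG' in
/-- the transition maps of the kernel tower are epimorphisms if `φ` is onto on graded pieces -/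
theorem epi_τK (hgr : ∀ n, Epi (grMap φ n)) (n : ℕ) : Epi (τK φ n) := by
  haveI := hG.epi n
  haveI := hgr n
  rw [epi_iff_surjective_up_to_refinements]
  intro W x
  obtain ⟨W₁, e₁, he₁, y₁, hy₁⟩ :=
    surjective_up_to_refinements_of_epi (τ G n) (x ≫ kernel.ι (φ.app (op n)))
  have h1 : (y₁ ≫ φ.app (op (n + 1))) ≫ τ G' n = 0 := by
    rw [Category.assoc, φ_τ, ← Category.assoc, ← hy₁, Category.assoc, Category.assoc,
      kernel.condition, comp_zero, comp_zero]
  let u : W₁ ⟶ gr G' n := kernel.lift (τ G' n) (y₁ ≫ φ.app (op (n + 1))) h1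
  have hu : u ≫ kernel.ι (τ G' n) = y₁ ≫ φ.app (op (n + 1)) := kernel.lift_ι _ _ _
  obtain ⟨W₂, e₂, he₂, z, hz⟩ := surjective_up_to_refinements_of_epi (grMap φ n) u
  let y₂ : W₂ ⟶ G.obj (op (n + 1)) := e₂ ≫ y₁ - z ≫ kernel.ι (τ G n)
  have hy₂ : y₂ ≫ φ.app (op (n + 1)) = 0 := by
    change (e₂ ≫ y₁ - z ≫ kernel.ι (τ G n)) ≫ _ = 0
    rw [Preadditive.sub_comp, Category.assoc, Category.assoc, ← grMap_ι, ← hu, ← Category.assoc,
      ← Category.assoc, hz, sub_self]
  refine ⟨W₂, e₂ ≫ e₁, epi_comp _ _, kernel.lift _ y₂ hy₂, ?_⟩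
  rw [← cancel_mono (kernel.ι (φ.app (op n))), Category.assoc, Category.assoc, Category.assoc,
    τK_ι, kernel.lift_ι_assoc, hy₁]
  change _ = (e₂ ≫ y₁ - z ≫ kernel.ι (τ G n)) ≫ τ G n
  rw [Preadditive.sub_comp, Category.assoc, Category.assoc, kernel.condition, comp_zero, sub_zero]

include hG hG' in
theorem isTower_kerTower (hgr : ∀ n, Epi (grMap φ n)) : IsTower a (kerTower φ) where
  epi := fun n => by
    have h := epi_τK hG hG' φ hgr n
    rw [← τ_kerTower φ n] at h
    exact h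
  exists_m := fun j n => by
    refine ⟨kernel.map (φ.app (op n)) (φ.app (op (n + 1))) (mT hG j n) (mT hG' j n)
      (φ_mT hG hG' φ j n), ?_⟩
    refine (congrArg (fun k => k ≫ kernel.map (φ.app (op n)) (φ.app (op (n + 1))) (mT hG j n)
      (mT hG' j n) (φ_mT hG hG' φ j n)) (τ_kerTower φ n)).trans ?_
    change τK φ n ≫ _ = Formal.smulMod A (kernel (φ.app (op (n + 1)))) (a j)
    rw [← cancel_mono (kernel.ι (φ.app (op (n + 1)))), Category.assoc, kernel.lift_ι, τK_ι_assoc,
      τ_mT, Groth.Agent.S9530.smulMod_comp]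

include hG hG' in
/-- the graded pieces of the kernel tower form a finitely generated system -/
theorem isFG_kerTower [IsNoetherian X] (hgr : ∀ n, Epi (grMap φ n))
    (hcoh : ∀ n, Coh.IsCoh (G.obj (op n))) (hcoh' : ∀ n, Coh.IsCoh (G'.obj (op n)))
    (N : ℕ) (hN : IsFG (gr G) (tgT hG) N) :
    ∃ N', IsFG (gr (kerTower φ)) (tgT (isTower_kerTower hG hG' φ hgr)) N' := by
  have hcohK : ∀ n, Coh.IsCoh ((kerTower φ).obj (op n)) := fun n =>
    Groth.Agent.Lib.T2H5.GenIsoB.isCoh_kernel (φ.app (op n)) (hcoh n) (hcoh' n)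
  refine isFG_sub (gr G) (tgT hG)
    (fun n => Groth.Agent.Lib.T2H5.GenIsoB.isCoh_kernel (τ G n) (hcoh (n + 1)) (hcoh n))
    (tgT_comm hG) N hN (gr (kerTower φ))
    (fun n => (Groth.Agent.Lib.T2H5.GenIsoB.isCoh_kernel (τ (kerTower φ) n) (hcohK (n + 1))
      (hcohK n)).1)
    (grMap (kerι φ)) (fun n => ?_) (tgT (isTower_kerTower hG hG' φ hgr))
    (fun j n => grMap_tgT (isTower_kerTower hG hG' φ hgr) hG (kerι φ) j n)
  have h1 : Mono (grMap (kerι φ) n ≫ kernel.ι (τ G n)) := by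
    rw [grMap_ι]
    exact mono_comp _ _
  exact mono_of_mono _ (kernel.ι (τ G n))

end kernel

section adicMorphism

variable {I : Ideal A} {G' : ℕᵒᵖ ⥤ X.Modules} (hA : IsAdic I G) (hA' : IsAdic I G') (φ : G ⟶ G')

include hA hA' in
/-- a levelwise epimorphism of adic systems is an epimorphism on graded pieces -/
theorem epi_grMap (hφ : ∀ n, Epi (φ.app (op n))) (n : ℕ) : Epi (grMap φ n) := by
  apply Preadditive.epi_of_cancel_zero
  intro Z g hg
  apply eq_zero_of_lift_comp (hA'.quot n) g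
  intro b hb
  haveI := hφ (n + 1)
  rw [← cancel_epi (φ.app (op (n + 1))), comp_zero]
  have h1 : φ.app (op (n + 1)) ≫ kernel.lift (τ G' n) (Formal.smulMod A (G'.obj (op (n + 1))) b)
      ((hA'.quot n).kill b hb) =
      kernel.lift (τ G n) (Formal.smulMod A (G.obj (op (n + 1))) b) ((hA.quot n).kill b hb) ≫
        grMap φ n := by
    rw [← cancel_mono (kernel.ι (τ G' n)), Category.assoc, Category.assoc, kernel.lift_ι, grMap_ι,
      kernel.lift_ι_assoc, Groth.Agent.S9530.smulMod_comp]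
  rw [← Category.assoc, h1, Category.assoc, hg, comp_zero]

end adicMorphism

section nakayama

variable {I : Ideal A} (hspan : Ideal.span (Set.range a) = I)
  (hkill : ∀ n, Formal.KilledBy (I ^ (n + 1)) (G.obj (op n)))
  (N' : ℕ) (hN' : IsFG (gr G) (tgT hG) N')

include hspan hkill hN' in
/-- **Nakayama for towers**: above the degree of generation of the graded pieces, a map into `G_{n+1}` is an epimorphism as soon
as its composite to `G_n` is. -/
theorem epi_of_epi_comp_τ (n : ℕ) (hn : N' + 1 ≤ n) {Q : X.Modules} (f : Q ⟶ G.obj (op (n + 1)))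
    (hf : Epi (f ≫ τ G n)) : Epi f := by
  obtain ⟨n', rfl⟩ : ∃ n', n = n' + 1 := ⟨n - 1, by omega⟩
  have hn' : N' ≤ n' := by omega
  haveI := hG.epi (n' + 1)
  set C := cokernel f with hC
  set c := cokernel.π f with hc
  have ha : ∀ j, a j ∈ I := mem_gen a hspan
  -- `C = I C`
  have claim2 : ∀ (Z : X.Modules) (g : C ⟶ Z),
      (∀ j, Formal.smulMod A C (a j) ≫ g = 0) → g = 0 := by
    intro Z g hg
    have hm : ∀ j, mT hG j (n' + 1) ≫ c ≫ g = 0 := by
      intro j
      rw [← cancel_epi (τ G (n' + 1)), τ_mT_assoc, comp_zero, ← Category.assoc,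
        Groth.Agent.S9530.smulMod_comp, Category.assoc, hg j, comp_zero]
    have hA : kernel.ι (τ G (n' + 1)) ≫ c ≫ g = 0 := by
      haveI := hN' n' hn'
      rw [← cancel_epi (σ (gr G) (tgT hG) n'), comp_zero]
      apply Sigma.hom_ext
      intro j
      rw [comp_zero, ι_σ_assoc, tgT_ι_assoc, hm j, comp_zero]
    have h2 : τ G (n' + 1) ≫ Abelian.epiDesc (τ G (n' + 1)) (c ≫ g) hA = c ≫ g :=
      Abelian.comp_epiDesc _ _ _
    have h3 : Abelian.epiDesc (τ G (n' + 1)) (c ≫ g) hA = 0 := by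
      rw [← cancel_epi (f ≫ τ G (n' + 1)), Category.assoc, h2, comp_zero, ← Category.assoc,
        cokernel.condition, zero_comp]
    rw [h3, comp_zero] at h2
    rw [← cancel_epi c, comp_zero]
    exact h2.symm
  -- Nakayama
  have claim3 : ∀ (k : ℕ) (Z : X.Modules) (g : C ⟶ Z),
      (∀ b ∈ I ^ k, Formal.smulMod A C b ≫ g = 0) → g = 0 := by
    intro k
    induction k with
    | zero =>
      intro Z g hg
      have h1 := hg 1 (by rw [pow_zero, Ideal.one_eq_top]; trivial)
      rwa [smulMod_one, Category.id_comp] at h1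
    | succ k ih =>
      intro Z g hg
      refine claim2 Z g fun j => ?_
      refine ih Z _ fun b hb => ?_
      rw [← Category.assoc, ← smulMod_mul]
      refine hg _ ?_
      rw [pow_succ']
      exact Ideal.mul_mem_mul (ha j) hb
  have hCkill : ∀ b ∈ I ^ (n' + 1 + 1 + 1), Formal.smulMod A C b = 0 := by
    intro b hb
    rw [← cancel_epi c, comp_zero, ← Groth.Agent.S9530.smulMod_comp, hkill (n' + 1 + 1) b hb,
      zero_comp]
  have h0 : 𝟙 C = 0 := claim3 (n' + 1 + 1 + 1) C (𝟙 C) fun b hb => by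
    rw [hCkill b hb, zero_comp]
  apply Preadditive.epi_of_cokernel_zero
  rw [← Category.comp_id (cokernel.π f)]
  change c ≫ 𝟙 C = 0
  rw [h0, comp_zero]

end nakayama

end Groth.Agent.Lib.T2H9.Tower
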