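import Mathlib
import Groth.Agent.Lib.T2H9Tower1
import Groth.Agent.Lib.T2H9ShHom9
import Groth.Agent.Lib.T2H5ResProp
import Groth.Agent.Lib.Helper23QCohExt

/-! # Towers of coherent modules are levelwise quotients of one finite locally free module (helper9)

`exists_epi_tower`: on a Noetherian scheme with an ample invertible module satisfying Serre vanishing and of finite
cohomological dimension, a tower `G` of coherent modules (`IsTower a G`, `G_n` killed by `I^{n+1}`, graded pieces finitely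
generated over the `a_j`) admits a finite locally free `E` with compatible epimorphisms `E ⟶ G_n`.
Also `surjective_H0`, `exists_lift_unit`, `exists_lift_twist`, `epi_map_of_le`. -/

set_option autoImplicit false
set_option linter.style.haveILetI false
set_option linter.unusedVariables false
set_option linter.unusedSectionVars false
universe u
open CategoryTheory CategoryTheory.Limits Opposite AlgebraicGeometry TopologicalSpace

namespace Groth.Agent.Lib.T2H9.Tower

open Groth.Agent.Lib.T2H2.AlgzB Groth.Agent.Lib.T2H9.GrSys Groth.Agent.Lib.T2H9.ModPow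
  Groth.Agent.Lib.T2H9.GrAdic Groth.Agent.Lib.T2H5.Twist Groth.Agent.Lib.T2H9.TensorInv
  Groth.Agent.Lib.Helper21.Dual Groth.Agent.Lib.T2H9.ShHom Groth.Agent.Lib.Helper21.ModTensor3

attribute [local instance] Groth.Agent.Lib.Helper21.ExtShDelta.hasSheafHom

section lifting

variable {X : Scheme.{u}}

/-- `H^0(X₂) → H^0(X₃)` is onto if `H^1(X₁) = 0` -/
theorem surjective_H0 (S : ShortComplex X.Modules) (hS : S.ShortExact)
    (h : Subsingleton (Coh.HH X S.X₁ 1)) (x : Coh.HH X S.X₃ 0) :
    ∃ y : Coh.HH X S.X₂ 0, Sheaf.H.map ((SheafOfModules.toSheaf _).map S.g) 0 y = x := by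
  obtain ⟨y, hy⟩ := Abelian.Ext.covariant_sequence_exact₃ _
    (Groth.Agent.Lib.Helper23.QCohLocal.shortExact_toAbF S hS) x rfl (@Subsingleton.elim _ h _ _)
  exact ⟨y, hy⟩

/-- lifting global sections along an epimorphism whose kernel has no `H^1` -/
theorem exists_lift_unit (S : ShortComplex X.Modules) (hS : S.ShortExact)
    (h : Subsingleton (Coh.HH X S.X₁ 1)) (s : Coh.structureModule X ⟶ S.X₃) :
    ∃ s' : Coh.structureModule X ⟶ S.X₂, s' ≫ S.g = s := by
  obtain ⟨y, hy⟩ := surjective_H0 S hS h ((γ X S.X₃).symm (uh X.sheaf isTerminalTop S.X₃ s))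
  refine ⟨(uh X.sheaf isTerminalTop S.X₂).symm (γ X S.X₂ y), ?_⟩
  apply (uh X.sheaf isTerminalTop S.X₃).injective
  have h1 := uh_comp X.sheaf isTerminalTop ((uh X.sheaf isTerminalTop S.X₂).symm (γ X S.X₂ y)) S.g
  rw [AddEquiv.apply_symm_apply] at h1
  refine h1.trans ?_
  have h2 := γ_naturality X S.g y
  rw [hy, AddEquiv.apply_symm_apply] at h2
  exact h2.symm

/-- lifting maps out of `O^b ⊗ P^{-1}` along an epimorphism whose kernel twisted by `P` has no `H^1` -/
theorem exists_lift_twist (P : X.Modules) (hP : PicF.IsInvertible P) (b : ℕ) {B C : X.Modules}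
    (p : B ⟶ C) [Epi p] (hvan : Subsingleton (Coh.HH X (CohB1.tensorMod (kernel p) P) 1))
    (ψ : (tr (inv P)).obj (∐ fun _ : Fin b => Coh.structureModule X) ⟶ C) :
    ∃ ψ' : (tr (inv P)).obj (∐ fun _ : Fin b => Coh.structureModule X) ⟶ B, ψ' ≫ p = ψ := by
  have hL : IsLocFF (O := X.sheaf) P :=
    isLocFF_of_isFinLocFree P (Groth.Agent.Helper18PBUnit.isFinLocFree_of_isInvertible hP)
  let adj := dualAdjSw (O := X.sheaf) P hL
  let Y : X.Modules := ∐ fun _ : Fin b => Coh.structureModule X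
  let S : ShortComplex X.Modules := ShortComplex.mk (kernel.ι p) p (kernel.condition p)
  have hS : S.ShortExact :=
    { exact := ShortComplex.exact_kernel p
      mono_f := inferInstanceAs (Mono (kernel.ι p))
      epi_g := inferInstanceAs (Epi p) }
  have hS' := shortExact_map_tr hP S hS
  let ψt : Y ⟶ (tr P).obj C := adj.homEquiv Y C ψ
  have hlift : ∀ i : Fin b, ∃ u : Coh.structureModule X ⟶ (tr P).obj B,
      u ≫ (tr P).map p = Sigma.ι (fun _ : Fin b => Coh.structureModule X) i ≫ ψt := fun i =>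
    exists_lift_unit (S.map (tr P)) hS' hvan _
  choose u hu using hlift
  let ut : Y ⟶ (tr P).obj B := Sigma.desc u
  have hut : ut ≫ (tr P).map p = ψt := by
    apply Sigma.hom_ext
    intro i
    rw [← Category.assoc, Sigma.ι_desc, hu]
  refine ⟨(adj.homEquiv Y B).symm ut, ?_⟩
  apply (adj.homEquiv Y C).injective
  refine (Adjunction.homEquiv_naturality_right adj ((adj.homEquiv Y B).symm ut) p).trans ?_
  refine Eq.trans ?_ hut
  exact congrArg (fun k => k ≫ (tr P).map p) ((adj.homEquiv Y B).apply_symm_apply ut)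

end lifting

section main

variable {A : Type u} [CommRing A] {X : Scheme.{u}} [X.Over (Spec (CommRingCat.of A))]
variable {r : ℕ} {a : Fin r → A} {G : ℕᵒᵖ ⥤ X.Modules} (hG : IsTower a G)

include hG in
theorem epi_map_of_le {m n : ℕ} (h : m ≤ n) : Epi (G.map (homOfLE h).op) := by
  induction n, h using Nat.le_induction with
  | base =>
    have : G.map (homOfLE (le_refl m)).op = 𝟙 _ := by
      rw [show (homOfLE (le_refl m)) = 𝟙 m from rfl, op_id, G.map_id]
    rw [this]
    infer_instance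
  | succ n h ih =>
    have : G.map (homOfLE (Nat.le_succ_of_le h)).op = τ G n ≫ G.map (homOfLE h).op := by
      rw [← G.map_comp]
      rfl
    rw [this]
    haveI := hG.epi n
    exact epi_comp _ _

variable {I : Ideal A} (hspan : Ideal.span (Set.range a) = I)
  (hkill : ∀ n, Formal.KilledBy (I ^ (n + 1)) (G.obj (op n)))
  (hcoh : ∀ n, Coh.IsCoh (G.obj (op n)))
  (N' : ℕ) (hN' : IsFG (gr G) (tgT hG) N')
  (L : X.Modules) (hL : CohB1.IsAmple L)
  (hSerre : ∀ M : X.Modules, Coh.IsCoh M → ∃ n₀ : ℕ, ∀ n, n₀ ≤ n → ∀ p, 0 < p →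
      Subsingleton (Coh.HH X (CohB1.tensorMod M (CohB1.tensorPow L n)) p))
  (D : ℕ) (hD : ∀ (M : X.Modules) [M.IsQuasicoherent] (n : ℕ), D ≤ n → Subsingleton (Coh.HH X M n))

include hspan hkill hcoh hN' hL hSerre hD in
/-- **a tower of coherent modules with finitely generated graded pieces is a levelwise quotient of a fixed finite locally free
module** (on a Noetherian scheme with an ample invertible module satisfying Serre vanishing). -/
theorem exists_epi_tower [IsNoetherian X] :
    ∃ (E : X.Modules) (ψ : ∀ n, E ⟶ G.obj (op n)), FlatMod.IsFinLocFree E ∧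
      (∀ n, ψ (n + 1) ≫ τ G n = ψ n) ∧ ∀ n, Epi (ψ n) := by
  haveI : CompactSpace X := hL.2.1
  let S : CohSys X r :=
    { M := gr G
      t := tgT hG
      coh := fun n => Groth.Agent.Lib.T2H5.GenIsoB.isCoh_kernel (τ G n) (hcoh (n + 1)) (hcoh n)
      comm := tgT_comm hG
      N := N'
      fg := hN' }
  obtain ⟨d₁, hd₁⟩ := uniform_vanishing L hL.1 hSerre D hD S
  set c := N' + 1 with hc
  haveI : (G.obj (op c)).IsQuasicoherent := (hcoh c).1
  haveI : SheafOfModules.IsFiniteType (R := X.ringCatSheaf) (G.obj (op c)) := (hcoh c).2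
  choose V n₀ hxV hn₀ using Groth.Agent.Lib.Helper23.LocGen.exists_locGen_nhd L hL (G.obj (op c))
  obtain ⟨T, hT⟩ : ∃ T : Finset X, (Set.univ : Set X) ⊆ ⋃ x ∈ T, (V x : Set X) :=
    isCompact_univ.elim_finite_subcover (fun x => (V x : Set X)) (fun x => (V x).2)
      (fun x _ => Set.mem_iUnion.2 ⟨x, hxV x⟩)
  let m : ℕ := max d₁ (T.sup n₀)
  set P : X.Modules := CohB1.tensorPow L m with hPdef
  have hP : PicF.IsInvertible P := Groth.Agent.Lib.Helper23.SecTw.isInvertible_tensorPow hL.1 m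
  let M : X.Modules := CohB1.tensorMod (G.obj (op c)) P
  have hMc : Coh.IsCoh M :=
    Groth.Agent.Lib.T2H5.AmpleSerre.isCoh_tensor_tensorPow (G.obj (op c)) _ (hcoh c) hL.1 m
  haveI : M.IsQuasicoherent := hMc.1
  haveI : SheafOfModules.IsFiniteType (R := X.ringCatSheaf) M := hMc.2
  have hgen : ∀ y : X, ∃ W : X.Opens, y ∈ W ∧ Groth.Agent.Lib.Helper23.LocGen.LocGen M W := by
    intro y
    obtain ⟨x, hx⟩ := Set.mem_iUnion.1 (hT (Set.mem_univ y))
    obtain ⟨hxT, hyx⟩ := Set.mem_iUnion.1 hx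
    exact ⟨V x, hyx, hn₀ x m ((Finset.le_sup hxT).trans (le_max_right _ _))⟩
  obtain ⟨b, t, ht⟩ := Groth.Agent.Lib.T2H5.FinGlobGen.exists_fin_epi M hgen
  -- the finite locally free module and the initial epimorphism
  let Gm : X.Modules := inv P
  let E : X.Modules := (tr Gm).obj (∐ fun _ : Fin b => Coh.structureModule X)
  have hE : FlatMod.IsFinLocFree E :=
    Groth.Agent.Lib.T2H5.ResProp.isFinLocFree_sigma_tensor b Gm (isInvertible_inv P hP)
  haveI : PreservesFiniteColimits (tr Gm) := preservesFiniteColimits_tr Gm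
  haveI := ht
  haveI hq : Epi ((tr Gm).map (Sigma.desc t)) := inferInstance
  let φ : CohB1.tensorMod (CohB1.tensorMod (G.obj (op c)) P) Gm ≅ G.obj (op c) :=
    Groth.Agent.Lib.Helper23.LocGen.tensorAssoc (G.obj (op c)) P Gm ≪≫
      Groth.Agent.Lib.Helper23.AmpleIso.tensorModIso (Iso.refl _) (tensorInvIso P hP) ≪≫
      Groth.Agent.Lib.Helper23.TensorUnit.tensorUnitIso _
  let q₀ : E ⟶ G.obj (op c) := (tr Gm).map (Sigma.desc t) ≫ φ.hom
  have hq₀ : Epi q₀ := epi_comp _ _
  -- lifting
  have hlift : ∀ (n : ℕ) (f : E ⟶ G.obj (op n)), ∃ f' : E ⟶ G.obj (op (n + 1)), f' ≫ τ G n = f := by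
    intro n f
    haveI := hG.epi n
    exact exists_lift_twist P hP b (τ G n) (hd₁ m (le_max_left _ _) n 1 Nat.one_pos) f
  obtain ⟨ψ', h0, hs⟩ : ∃ ψ' : ∀ k, E ⟶ G.obj (op (c + k)), ψ' 0 = q₀ ∧
      ∀ k, ψ' (k + 1) ≫ τ G (c + k) = ψ' k :=
    ⟨fun k => Nat.rec q₀ (fun k f => (hlift (c + k) f).choose) k, rfl,
      fun k => (hlift (c + k) _).choose_spec⟩
  have hepi' : ∀ k, Epi (ψ' k) := by
    intro k
    induction k with
    | zero => rw [h0]; exact hq₀
    | succ k ih =>
      refine epi_of_epi_comp_τ hG hspan hkill N' hN' (c + k) (by omega) (ψ' (k + 1)) ?_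
      rw [hs k]
      exact ih
  refine ⟨E, fun n => ψ' n ≫ G.map (homOfLE (Nat.le_add_left n c)).op, hE, fun n => ?_, fun n => ?_⟩
  · change (ψ' (n + 1) ≫ G.map (homOfLE (Nat.le_add_left (n + 1) c)).op) ≫ τ G n =
      ψ' n ≫ G.map (homOfLE (Nat.le_add_left n c)).op
    rw [← hs n, Category.assoc, Category.assoc, ← G.map_comp, ← G.map_comp]
    congr 2
  · haveI := hepi' n
    haveI := epi_map_of_le hG (Nat.le_add_left n c)
    exact epi_comp _ _

end main

end Groth.Agent.Lib.T2H9.Tower
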