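import Mathlib
import Groth.Prelude.Def_ClSub2
import Groth.Agent.Lib.Helper23Serre
import Groth.Agent.Lib.Helper23SecTw7
import Groth.Agent.Lib.Helper23TensorUnit
import Groth.Agent.Lib.Helper23AmpleIso
import Groth.Agent.Lib.T2H6ParShC
import Groth.Agent.Lib.T2H5Twist

/-!
# Ampleness from the vanishing of `H¹` of twisted ideals (helper6)

`isAmple_of_vanishing`: on a quasi-compact scheme, an invertible module `L` such that every quasi-coherent ideal
`I` has `H¹(X, I ⊗ L^{n+1}) = 0` for some `n` is ample.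
-/

set_option autoImplicit false
universe u

open AlgebraicGeometry CategoryTheory Limits TopologicalSpace Opposite

namespace Groth.Agent.Lib.T2H6.AmpleCrit

open Groth.Agent.Lib.Helper23.Serre Groth.Agent.Lib.Helper23.GenLocus Groth.Agent.Lib.Helper23.SecTw
  Groth.Agent.Lib.Helper6 Groth.Agent.Lib.Helper23.AffVanish Groth.Agent.Lib.Helper23.QCohLocal
  Groth.Agent.Lib.T2H5.Twist Groth.Agent.Lib.T2H6.ParShA Groth.Agent.Lib.T2H6.ParShC

variable {X : Scheme.{u}}

/-- the canonical quotient map on sections -/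
theorem toSubscheme_app (J : X.IdealSheafData) (W : X.Opens) (a : Γ(X, W)) :
    (ClSub.toSubscheme J).app W (toS W a) = toS (J.subschemeι ⁻¹ᵁ W) (J.subschemeι.app W a) := rfl

theorem isQuasicoherent_idealMod (J : X.IdealSheafData) : (ClSub.idealMod J).IsQuasicoherent := by
  haveI : (Coh.structureModule X).IsQuasicoherent := isQuasicoherent_structureModule' X
  haveI : (ClSub.quotMod J).IsQuasicoherent := (isCoh_quotMod J).1
  exact isQuasicoherent_kernel (ClSub.toSubscheme J)

/-- the ideal sequence `0 → I → O → O/I → 0` -/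
noncomputable def idealSC (J : X.IdealSheafData) : ShortComplex X.Modules :=
  ShortComplex.mk (ClSub.idealModι J) (ClSub.toSubscheme J) (kernel.condition _)

theorem idealSC_shortExact (J : X.IdealSheafData) : (idealSC J).ShortExact :=
  { exact := ShortComplex.exact_kernel (ClSub.toSubscheme J)
    mono_f := inferInstanceAs (Mono (kernel.ι (ClSub.toSubscheme J)))
    epi_g := inferInstanceAs (Epi (ClSub.toSubscheme J)) }

/-- `c • π(1) = π(c)` in `O/J` -/
theorem smul_toSubscheme_one (J : X.IdealSheafData) (W : X.Opens) (c : Γ(X, W)) :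
    c • (ClSub.toSubscheme J).app W (toS W 1) = toS (J.subschemeι ⁻¹ᵁ W) (J.subschemeι.app W c) := by
  rw [← Scheme.Modules.Hom.app_smul, smul_toS, mul_one]
  rfl

/-- sections of `O/J` over an open whose preimage in the closed subscheme is empty vanish -/
theorem quotMod_section_eq_zero (J : X.IdealSheafData) (W : X.Opens) (hW : J.subschemeι ⁻¹ᵁ W ≤ ⊥)
    (q : Γ(ClSub.quotMod J, W)) : q = 0 :=
  eq_zero_of_le_bot (Coh.structureModule J.subscheme) hW q

/-- the map `O ⊗ N ⟶ (O/J) ⊗ N` on pure tensors -/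
theorem trMap_toSubscheme_tm (J : X.IdealSheafData) (N : X.Modules) (W : X.Opens) (a : Γ(X, W)) (n : Γ(N, W)) :
    ((tr N).map (ClSub.toSubscheme J)).app W (tm (Coh.structureModule X) N W (toS W a) n) =
      tm (ClSub.quotMod J) N W ((ClSub.toSubscheme J).app W (toS W a)) n := by
  rw [tr_map_eq]
  exact KoszTw.tensorMap_tmul (ClSub.toSubscheme J) (𝟙 N) W (toS W a) n

/-- **Key step.** -/
theorem exists_section (N : X.Modules) (hN : PicF.IsInvertible N) (x : X) (hx : IsClosed ({x} : Set X))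
    (U : X.Opens) (hxU : x ∈ U) (e : Γ(N, U)) (he : IsGen N U e)
    (hvan : Subsingleton (Coh.HH X (CohB1.tensorMod (ClSub.idealMod (Scheme.IdealSheafData.vanishingIdeal
      (⟨(U : Set X)ᶜ ∪ {x}, U.isOpen.isClosed_compl.union hx⟩ : Closeds X))) N) 1)) :
    ∃ s : Coh.structureModule X ⟶ CohB1.tensorMod (Coh.structureModule X) N,
      x ∈ CohB1.genLocus _ s ∧ CohB1.genLocus _ s ≤ U := by
  classical
  set T : Closeds X := ⟨(U : Set X)ᶜ ∪ {x}, U.isOpen.isClosed_compl.union hx⟩ with hT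
  set J := Scheme.IdealSheafData.vanishingIdeal T with hJ
  let i : J.subscheme ⟶ X := J.subschemeι
  have hrange : Set.range i = (U : Set X)ᶜ ∪ {x} := by
    rw [J.range_subschemeι]
    exact Scheme.IdealSheafData.coe_support_vanishingIdeal T
  let Ux : X.Opens := ⟨({x} : Set X)ᶜ, hx.isOpen_compl⟩
  let O := Coh.structureModule X
  let Q := ClSub.quotMod J
  let π := ClSub.toSubscheme J
  let M := CohB1.tensorMod Q N
  let πN : CohB1.tensorMod O N ⟶ M := (tr N).map π
  have hS := shortExact_map_tr hN (idealSC J) (idealSC_shortExact J)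
  have hHE : Subsingleton (HE (ab' ((idealSC J).map (tr N)).X₁) 1 ⊤) := by
    haveI : Subsingleton (CohTop.H (ab' ((idealSC J).map (tr N)).X₁) 1) := hvan
    exact (HETopEquivH X.carrier (ab' ((idealSC J).map (tr N)).X₁) 1).toEquiv.subsingleton
  have hsurj : Function.Surjective (πN.app ⊤) :=
    surjective_app_of_subsingleton_HE _ hS ⊤ hHE
  -- the target section
  let q1 : Γ(Q, U) := π.app U (toS U 1)
  let a : Γ(M, U) := tm Q N U q1 e
  have hinf : i ⁻¹ᵁ (U ⊓ Ux) ≤ ⊥ := by
    intro z hz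
    have hzr : i z ∈ (U : Set X)ᶜ ∪ {x} := hrange ▸ Set.mem_range_self z
    rcases hzr with h | h
    · exact h hz.1
    · exact hz.2 h
  have ha0 : res M (inf_le_left : U ⊓ Ux ≤ U) a = 0 := by
    change res M _ (tm Q N U q1 e) = 0
    rw [res_tm, quotMod_section_eq_zero J (U ⊓ Ux) hinf (res Q inf_le_left q1), tm_zero_left]
  have hcover : (⊤ : X.Opens) ≤ U ⊔ Ux := by
    intro y _
    by_cases hy : y = x
    · left; rw [hy]; exact hxU
    · right; exact hy
  obtain ⟨m, hmU, hmUx⟩ := exists_res_eq₂ M (le_top : U ≤ ⊤) (le_top : Ux ≤ ⊤) hcover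
    (inf_le_left : U ⊓ Ux ≤ U) (inf_le_right : U ⊓ Ux ≤ Ux) le_rfl a 0 (by rw [ha0, res_zero])
  obtain ⟨t, ht⟩ := hsurj m
  let s₀ : O ⟶ CohB1.tensorMod O N := secHom (CohB1.tensorMod O N) t
  have hπs : ∀ (W : X.Opens), πN.app W (sv s₀ W) = res M (le_top : W ≤ ⊤) m := by
    intro W
    rw [sv_secHom]
    have h1 := Groth.Agent.Lib.Helper23.Extend.app_map πN (homOfLE (le_top : W ≤ ⊤)) t
    rw [ht] at h1
    exact h1
  refine ⟨s₀, ?_, ?_⟩
  · -- `x` lies in the generating locus
    have hg : IsGen (CohB1.tensorMod O N) U (tm O N U (toS U 1) e) :=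
      isGen_tm O N U (toS U 1) e (isGen_one U) he
    have hloc := genLocus_inf_eq_coef s₀ hg
    set c := coef hg le_rfl (sv s₀ U) with hc
    have hsv : sv s₀ U = c • tm O N U (toS U 1) e := sv_eq_coef_smul s₀ hg
    have h1 : πN.app U (sv s₀ U) = a := (hπs U).trans hmU
    have h2 : πN.app U (c • tm O N U (toS U 1) e) = c • a := by
      rw [Scheme.Modules.Hom.app_smul]
      congr 1
      exact trMap_toSubscheme_tm J N U 1 e
    have h3 : c • a = a := by rw [← h2, ← hsv, h1]
    have h4 : tm Q N U (c • q1) (res N (le_refl U) e) = tm Q N U q1 (res N (le_refl U) e) := by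
      rw [Groth.Agent.Lib.Helper23.SecTw.res_self, tm_smul_left]
      exact h3
    have h5 : c • q1 = q1 := injective_tm_of_isGen Q N U e he U le_rfl h4
    have h6 : (i.app U) c = 1 := by
      have h7 := smul_toSubscheme_one J U c
      have h8 : c • q1 = toS (i ⁻¹ᵁ U) (i.app U c) := h7
      rw [h5] at h8
      have h9 : q1 = toS (i ⁻¹ᵁ U) (i.app U 1) := toSubscheme_app J U 1
      rw [h9, map_one] at h8
      exact (congrArg (ofS (i ⁻¹ᵁ U)) h8).symm
    have hxr : x ∈ Set.range i := by rw [hrange]; right; rfl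
    obtain ⟨z₀, hz₀⟩ := hxr
    have hz : z₀ ∈ i ⁻¹ᵁ (X.basicOpen c) := by
      rw [Scheme.preimage_basicOpen, h6, J.subscheme.basicOpen_of_isUnit isUnit_one]
      change i z₀ ∈ U
      rw [hz₀]; exact hxU
    have hxc : x ∈ X.basicOpen c := by rw [← hz₀]; exact hz
    rw [← hloc] at hxc
    exact hxc.1
  · -- the generating locus is contained in `U`
    intro y hy
    by_contra hyU
    have hyr : y ∈ Set.range i := by rw [hrange]; left; exact hyU
    obtain ⟨z, rfl⟩ := hyr
    have hyx : i z ≠ x := fun h => hyU (h ▸ hxU)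
    obtain ⟨W₀, e₀, hyW₀, hgen₀⟩ := exists_gen N hN (i z)
    let W : X.Opens := W₀ ⊓ Ux
    have hyW : i z ∈ W := ⟨hyW₀, hyx⟩
    have hgenW := hgen₀.mono (inf_le_left : W ≤ W₀)
    set eW := res N (inf_le_left : W ≤ W₀) e₀ with heW
    have hg : IsGen (CohB1.tensorMod O N) W (tm O N W (toS W 1) eW) :=
      isGen_tm O N W (toS W 1) eW (isGen_one W) hgenW
    have hloc := genLocus_inf_eq_coef s₀ hg
    set c := coef hg le_rfl (sv s₀ W) with hc
    have hsv : sv s₀ W = c • tm O N W (toS W 1) eW := sv_eq_coef_smul s₀ hg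
    have hyc : i z ∈ X.basicOpen c := by rw [← hloc]; exact ⟨hy, hyW⟩
    have h1 : πN.app W (sv s₀ W) = 0 := by
      rw [hπs W]
      have : res M (le_top : W ≤ ⊤) m = res M (inf_le_right : W ≤ Ux) (res M (le_top : Ux ≤ ⊤) m) := by
        rw [res_res]
      rw [this, hmUx, res_zero]
    have h2 : πN.app W (c • tm O N W (toS W 1) eW) = c • tm Q N W (π.app W (toS W 1)) eW := by
      rw [Scheme.Modules.Hom.app_smul]
      congr 1
      exact trMap_toSubscheme_tm J N W 1 eW
    have h3 : c • tm Q N W (π.app W (toS W 1)) eW = 0 := by rw [← h2, ← hsv, h1]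
    have h4 : tm Q N W (c • π.app W (toS W 1)) (res N (le_refl W) eW) =
        tm Q N W 0 (res N (le_refl W) eW) := by
      rw [Groth.Agent.Lib.Helper23.SecTw.res_self, tm_smul_left, tm_zero_left]
      exact h3
    have h5 : c • π.app W (toS W 1) = 0 := injective_tm_of_isGen Q N W eW hgenW W le_rfl h4
    have h6 : (i.app W) c = 0 := by
      have h7 := smul_toSubscheme_one J W c
      rw [h5] at h7
      exact (congrArg (ofS (i ⁻¹ᵁ W)) h7).symm
    have hz : z ∈ i ⁻¹ᵁ (X.basicOpen c) := hyc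
    rw [Scheme.preimage_basicOpen, h6, Scheme.basicOpen_zero] at hz
    exact hz

/-- **Ampleness from vanishing of `H¹` of twisted ideals** (quasi-compact schemes). -/
theorem isAmple_of_vanishing [CompactSpace X] (L : X.Modules) (hL : PicF.IsInvertible L)
    (h : ∀ (I : X.Modules) (i : I ⟶ Coh.structureModule X), Mono i → Coh.IsQCoh I →
      ∃ n : ℕ, Subsingleton (Coh.HH X (CohB1.tensorMod I (CohB1.tensorPow L (n + 1))) 1)) :
    CohB1.IsAmple L := by
  refine ⟨hL, inferInstance, fun y => ?_⟩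
  -- a closed point in the closure of `y`
  obtain ⟨x, hxy, hx⟩ := IsClosed.exists_closed_singleton (S := closure ({y} : Set X)) isClosed_closure
    ⟨y, subset_closure rfl⟩
  obtain ⟨W₀, e₀, hxW₀, hgen₀⟩ := exists_gen L hL x
  obtain ⟨_, ⟨U, hU, rfl⟩, hxU, hUW⟩ :=
    X.isBasis_affineOpens.exists_subset_of_mem_open hxW₀ W₀.isOpen
  have hUW' : U ≤ W₀ := hUW
  have hgenU := hgen₀.mono hUW'
  set T : Closeds X := ⟨(U : Set X)ᶜ ∪ {x}, U.isOpen.isClosed_compl.union hx⟩ with hT
  obtain ⟨n, hn⟩ := h (ClSub.idealMod (Scheme.IdealSheafData.vanishingIdeal T))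
    (ClSub.idealModι _) (inferInstanceAs (Mono (kernel.ι _))) (isQuasicoherent_idealMod _)
  have hNinv : PicF.IsInvertible (CohB1.tensorPow L (n + 1)) := isInvertible_tensorPow hL (n + 1)
  obtain ⟨s₀, hxs, hsU⟩ := exists_section (CohB1.tensorPow L (n + 1)) hNinv x hx U hxU
    (pw L U (res L hUW' e₀) (n + 1)) (isGen_pw L U _ hgenU (n + 1)) hn
  let ε := Groth.Agent.Lib.Helper23.TensorUnit.unitTensorIso (CohB1.tensorPow L (n + 1))
  refine ⟨n, s₀ ≫ ε.hom, ?_, ?_⟩
  · rw [Groth.Agent.Lib.Helper23.AmpleIso.genLocus_comp_iso]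
    have hspec : y ⤳ x := specializes_iff_mem_closure.2 hxy
    exact hspec.mem_open (CohB1.genLocus _ s₀).isOpen hxs
  · rw [Groth.Agent.Lib.Helper23.AmpleIso.genLocus_comp_iso]
    have h1 := isAffineOpen_inf_genLocus _ (isInvertible_tensorMod
      (Groth.Agent.Lib.Helper23.TensorUnit.isInvertible_structureModule X) hNinv) s₀ U hU
    rwa [inf_eq_right.2 hsU] at h1

end Groth.Agent.Lib.T2H6.AmpleCrit
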