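import Mathlib
import Groth.Agent.Lib.T2H9Tower2
import Groth.Agent.Lib.T2H9ShHom10
import Groth.Agent.S0051

/-! # Grothendieck's existence theorem in the presence of an ample invertible module (helper9)

`complDesc`: compatible maps `E ⟶ G_n` into a system with `G_n` killed by `I^{n+1}` induce `completion I E ⟶ G`.
`exists_completion_iso`: for `X` proper over a Noetherian `I`-adically complete ring `A` carrying an ample invertible module,
every coherent formal module on `X` is the completion of a coherent module (presentation `E' ⟶ E ⟶ G` by finite locally free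
modules obtained from `exists_epi_tower`, algebraized by full faithfulness of completion). -/

set_option autoImplicit false
set_option linter.style.haveILetI false
set_option linter.unusedVariables false
set_option linter.unusedSectionVars false
universe u
open CategoryTheory CategoryTheory.Limits Opposite AlgebraicGeometry TopologicalSpace

namespace Groth.Agent.Lib.T2H9.Tower

open Groth.Agent.Lib.T2H2.AlgzB Groth.Agent.Lib.T2H9.GrSys Groth.Agent.Lib.T2H9.ModPow
  Groth.Agent.Lib.T2H9.GrAdic

section complDesc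

variable {A : Type u} [CommRing A] {X : Scheme.{u}} [X.Over (Spec (CommRingCat.of A))]
  (I : Ideal A) (E : X.Modules) (G : ℕᵒᵖ ⥤ X.Modules)
  (hkill : ∀ n, Formal.KilledBy (I ^ (n + 1)) (G.obj (op n)))
  (ψ : ∀ n, E ⟶ G.obj (op n)) (hψ : ∀ n, ψ (n + 1) ≫ τ G n = ψ n)

include hkill in
theorem smulFamily_comp_of_killedBy (n : ℕ) : Formal.smulFamily (I ^ (n + 1)) E ≫ ψ n = 0 :=
  (Groth.Agent.S9530.smulFamily_comp_eq_zero_iff _).2 (fun a ha => by
    rw [Groth.Agent.S9530.smulMod_comp, hkill n a ha, comp_zero])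

/-- the level `n` component of the morphism `completion I E ⟶ G` induced by compatible maps `E ⟶ G_n` -/
noncomputable def complDescApp (n : ℕ) : (Formal.completion I E).obj (op n) ⟶ G.obj (op n) :=
  cokernel.desc _ (ψ n) (smulFamily_comp_of_killedBy I E G hkill ψ n)

@[reassoc]
theorem modPowπ_complDescApp (n : ℕ) :
    Formal.modPowπ I (n + 1) E ≫ complDescApp I E G hkill ψ n = ψ n :=
  cokernel.π_desc _ _ _

/-- compatible maps `E ⟶ G_n` to a system with `G_n` killed by `I^{n+1}` induce `completion I E ⟶ G` -/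
noncomputable def complDesc : Formal.completion I E ⟶ G :=
  NatTrans.ofOpSequence (complDescApp I E G hkill ψ) (by
    intro n
    have := (isQuotBy_modPowπ I (n + 1 + 1) E).epi
    refine (cancel_epi (Formal.modPowπ I (n + 1 + 1) E)).1 ?_
    have h1 := completion_map_succ I E n
    calc Formal.modPowπ I (n + 1 + 1) E ≫
          (Formal.completion I E).map (homOfLE (n.le_add_right 1)).op ≫ complDescApp I E G hkill ψ n
        = (Formal.modPowπ I (n + 1 + 1) E ≫ Formal.modPowTrans I (n + 1) E) ≫
            complDescApp I E G hkill ψ n := by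
          rw [Category.assoc]; exact congrArg (fun t => _ ≫ t ≫ _) h1
      _ = ψ n := by rw [Formal.modPowπ_trans, modPowπ_complDescApp]
      _ = (Formal.modPowπ I (n + 1 + 1) E ≫ complDescApp I E G hkill ψ (n + 1)) ≫
            G.map (homOfLE (n.le_add_right 1)).op := by
          rw [modPowπ_complDescApp]; exact (hψ n).symm
      _ = _ := Category.assoc _ _ _)

theorem complDesc_app (n : ℕ) :
    (complDesc I E G hkill ψ hψ).app (op n) = complDescApp I E G hkill ψ n := rfl

@[reassoc]
theorem modPowπ_complDesc (n : ℕ) :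
    Formal.modPowπ I (n + 1) E ≫ (complDesc I E G hkill ψ hψ).app (op n) = ψ n :=
  modPowπ_complDescApp I E G hkill ψ n

theorem epi_complDesc_app (hepi : ∀ n, Epi (ψ n)) (n : ℕ) :
    Epi ((complDesc I E G hkill ψ hψ).app (op n)) := by
  have h := hepi n
  rw [← modPowπ_complDesc I E G hkill ψ hψ n] at h
  exact epi_of_epi (Formal.modPowπ I (n + 1) E) _

end complDesc

section main

variable (A : Type u) [CommRing A] [IsNoetherianRing A] (I : Ideal A) [IsAdicComplete I A]
  (X : Scheme.{u}) [X.Over (Spec (CommRingCat.of A))] [IsProper (X ↘ Spec (CommRingCat.of A))]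
  (L : X.Modules) (hL : CohB1.IsAmple L)

include hL in
/-- **Grothendieck's existence theorem, essential surjectivity, for a proper scheme with an ample invertible module**
over a Noetherian adically complete ring. -/
theorem exists_completion_iso (G : ℕᵒᵖ ⥤ X.Modules) (hG : Formal.IsCohFormal I G) :
    ∃ M : X.Modules, Coh.IsCoh M ∧ Nonempty (Formal.completion I M ≅ G) := by
  haveI : IsLocallyNoetherian X :=
    LocallyOfFiniteType.isLocallyNoetherian (X ↘ Spec (CommRingCat.of A))
  haveI : CompactSpace X :=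
    QuasiCompact.compactSpace_of_compactSpace (X ↘ Spec (CommRingCat.of A))
  haveI : IsNoetherian X := {}
  haveI : X.IsSeparated := Groth.Agent.Lib.Helper23.SecTw.isSeparated_of_isAmple L hL
  obtain ⟨D, hD⟩ := Groth.Agent.Lib.T2H4.AmpleAffine.exists_cohDim X (fun V W hV hW => hV.inf hW)
  have hD' : ∀ (M : X.Modules) [M.IsQuasicoherent] (n : ℕ), D ≤ n → Subsingleton (Coh.HH X M n) :=
    fun M _ n hn => hD M n hn
  have hSerre := (Groth.Agent.S0051.result A X (X ↘ Spec (CommRingCat.of A)) L hL.1).1 hL
  obtain ⟨r, a, hspan⟩ := (Submodule.fg_iff_exists_fin_generating_family).1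
    (IsNoetherian.noetherian I)
  have hA := isAdic_of_isCohFormal I hG
  have hT : IsTower a G := isTower_of_isAdic hA hspan
  -- step A: a finite locally free module mapping onto every level
  obtain ⟨E, ψ, hE, hψ, hψepi⟩ := exists_epi_tower hT hspan hA.kill hG.1 0 (isFG_tgT hT hA hspan)
    L hL hSerre D hD'
  have hEc : Coh.IsCoh E := Groth.Agent.Lib.T2H5.RegPush.isCoh_of_isFinLocFree E hE
  -- step B: the induced levelwise epimorphism from the completion
  let φ : Formal.completion I E ⟶ G := complDesc I E G hA.kill ψ hψ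
  have hφepi : ∀ n, Epi (φ.app (op n)) := epi_complDesc_app I E G hA.kill ψ hψ hψepi
  have hCE := isCohFormal_completion I E hEc
  have hAE := isAdic_of_isCohFormal I hCE
  have hTE : IsTower a (Formal.completion I E) := isTower_of_isAdic hAE hspan
  have hgr := epi_grMap hAE hA φ hφepi
  -- step C: the kernel tower
  have hTK := isTower_kerTower hTE hT φ hgr
  obtain ⟨N', hN'⟩ := isFG_kerTower hTE hT φ hgr hCE.1 hG.1 0 (isFG_tgT hTE hAE hspan)
  have hKcoh : ∀ n, Coh.IsCoh ((kerTower φ).obj (op n)) := fun n =>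
    Groth.Agent.Lib.T2H5.GenIsoB.isCoh_kernel (φ.app (op n)) (hCE.1 n) (hG.1 n)
  have hKkill : ∀ n, Formal.KilledBy (I ^ (n + 1)) ((kerTower φ).obj (op n)) := by
    intro n b hb
    change Formal.smulMod A (kernel (φ.app (op n))) b = 0
    rw [← cancel_mono (kernel.ι (φ.app (op n))), Groth.Agent.S9530.smulMod_comp, hAE.kill n b hb,
      comp_zero, zero_comp]
  -- step D: a finite locally free module mapping onto every level of the kernel tower
  obtain ⟨E', ψ', hE', hψ', hψ'epi⟩ := exists_epi_tower hTK hspan hKkill hKcoh N' hN'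
    L hL hSerre D hD'
  have hE'c : Coh.IsCoh E' := Groth.Agent.Lib.T2H5.RegPush.isCoh_of_isFinLocFree E' hE'
  -- step E: algebraize the composite `E' ⟶ K_n ⟶ E_n`
  let χ : Formal.completion I E' ⟶ Formal.completion I E :=
    complDesc I E' (Formal.completion I E) hAE.kill (fun n => ψ' n ≫ (kerι φ).app (op n)) (by
      intro n
      rw [Category.assoc, ← (kerι φ).naturality (homOfLE (Nat.le_succ n)).op, ← Category.assoc,
        hψ' n])
  obtain ⟨θ, hθ, -⟩ := Groth.Agent.Lib.T2H9.ShHom.existsUnique_hom_of_properSupport_inter A I X E' E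
    hE'c hEc (Groth.Agent.Lib.T2H9.ShHom.isProperOver_of_isProper _
      ((Groth.Agent.Lib.T2H9.ShHom.isClosed_support E' hE'c).inter
        (Groth.Agent.Lib.T2H9.ShHom.isClosed_support E hEc))) χ
  have hθ' : ∀ n, θ ≫ Formal.modPowπ I (n + 1) E = ψ' n ≫ (kerι φ).app (op n) := by
    intro n
    rw [← hθ n]
    exact modPowπ_complDesc I E' (Formal.completion I E) hAE.kill _ _ n
  -- step F: the cokernel
  have hθψ : ∀ n, θ ≫ ψ n = 0 := by
    intro n
    have h0 : (kerι φ).app (op n) ≫ φ.app (op n) = 0 := kernel.condition (φ.app (op n))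
    calc θ ≫ ψ n = θ ≫ (Formal.modPowπ I (n + 1) E ≫ φ.app (op n)) :=
          congrArg (fun k => θ ≫ k) (modPowπ_complDesc I E G hA.kill ψ hψ n).symm
      _ = (θ ≫ Formal.modPowπ I (n + 1) E) ≫ φ.app (op n) := (Category.assoc _ _ _).symm
      _ = (ψ' n ≫ (kerι φ).app (op n)) ≫ φ.app (op n) :=
          congrArg (fun k => k ≫ φ.app (op n)) (hθ' n)
      _ = ψ' n ≫ ((kerι φ).app (op n) ≫ φ.app (op n)) := Category.assoc _ _ _
      _ = 0 := (congrArg (fun k => ψ' n ≫ k) h0).trans comp_zero
  let M : X.Modules := cokernel θ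
  let ρ : ∀ n, M ⟶ G.obj (op n) := fun n => cokernel.desc θ (ψ n) (hθψ n)
  have hρ : ∀ n, cokernel.π θ ≫ ρ n = ψ n := fun n => cokernel.π_desc _ _ _
  refine ⟨M, Groth.Agent.Lib.T2H5.GenIsoB.isCoh_cokernel θ hE'c hEc, ?_⟩
  refine nonempty_completion_iso I M G ρ (fun n => ?_) (fun n => ?_)
  · refine ⟨?_, ?_, ?_⟩
    · have h := hψepi n
      rw [← hρ n] at h
      exact epi_of_epi (cokernel.π θ) _
    · intro b hb
      rw [Groth.Agent.S9530.smulMod_comp, hA.kill n b hb, comp_zero]
    · intro Z f hf
      -- `π ≫ f` factors through `E_n`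
      obtain ⟨g, hg⟩ := (isQuotBy_modPowπ I (n + 1) E).fac Z (cokernel.π θ ≫ f) (by
        intro b hb
        rw [← Category.assoc, Groth.Agent.S9530.smulMod_comp, Category.assoc, hf b hb, comp_zero])
      -- `g` kills the kernel of `φ_n`
      have hg0 : kernel.ι (φ.app (op n)) ≫ g = 0 := by
        haveI := hψ'epi n
        refine (cancel_epi (ψ' n)).1 ?_
        calc ψ' n ≫ (kerι φ).app (op n) ≫ g = (ψ' n ≫ (kerι φ).app (op n)) ≫ g :=
              (Category.assoc _ _ _).symm
          _ = (θ ≫ Formal.modPowπ I (n + 1) E) ≫ g := congrArg (fun k => k ≫ g) (hθ' n).symm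
          _ = θ ≫ (Formal.modPowπ I (n + 1) E ≫ g) := Category.assoc _ _ _
          _ = θ ≫ (cokernel.π θ ≫ f) := congrArg (fun k => θ ≫ k) hg
          _ = 0 := by rw [cokernel.condition_assoc, zero_comp]
          _ = ψ' n ≫ 0 := comp_zero.symm
      haveI := hφepi n
      let h : G.obj (op n) ⟶ Z :=
        (Abelian.epiIsCokernelOfKernel _ (kernelIsKernel (φ.app (op n)))).desc
          (CokernelCofork.ofπ g hg0)
      have hh : φ.app (op n) ≫ h = g :=
        (Abelian.epiIsCokernelOfKernel _ (kernelIsKernel (φ.app (op n)))).fac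
          (CokernelCofork.ofπ g hg0) WalkingParallelPair.one
      refine ⟨h, ?_⟩
      refine (cancel_epi (cokernel.π θ)).1 ?_
      calc cokernel.π θ ≫ ρ n ≫ h = (cokernel.π θ ≫ ρ n) ≫ h := (Category.assoc _ _ _).symm
        _ = ψ n ≫ h := congrArg (fun k => k ≫ h) (hρ n)
        _ = (Formal.modPowπ I (n + 1) E ≫ φ.app (op n)) ≫ h :=
            congrArg (fun k => k ≫ h) (modPowπ_complDesc I E G hA.kill ψ hψ n).symm
        _ = Formal.modPowπ I (n + 1) E ≫ (φ.app (op n) ≫ h) := Category.assoc _ _ _
        _ = Formal.modPowπ I (n + 1) E ≫ g := congrArg (fun k => Formal.modPowπ I (n + 1) E ≫ k) hh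
        _ = cokernel.π θ ≫ f := hg
  · refine (cancel_epi (cokernel.π θ)).1 ?_
    rw [← Category.assoc, hρ (n + 1), hρ n]
    exact hψ n

end main

end Groth.Agent.Lib.T2H9.Tower
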