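import Mathlib
import Groth.Agent.Lib.T2H9Tower3

/-! # Algebraization with an ample module, VI: the existence theorem in quotient form (helper9)

`exists_quot_of_epi_system`: on a proper scheme with an ample invertible module over a Noetherian adically complete ring,
a coherent formal module `G` receiving compatible epimorphisms `E ⟶ G_n` from a coherent `E` is the completion of a coherent
quotient of `E`, compatibly with the projections. -/

set_option autoImplicit false
set_option linter.style.haveILetI false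
set_option linter.unusedVariables false
set_option linter.unusedSectionVars false
universe u
open CategoryTheory CategoryTheory.Limits Opposite AlgebraicGeometry TopologicalSpace

namespace Groth.Agent.Lib.T2H9.Alg

open Groth.Agent.Lib.T2H2.AlgzB Groth.Agent.Lib.T2H9.GrSys Groth.Agent.Lib.T2H9.ModPow
  Groth.Agent.Lib.T2H9.GrAdic Groth.Agent.Lib.T2H9.Tower

section quot

variable (A : Type u) [CommRing A] [IsNoetherianRing A] (I : Ideal A) [IsAdicComplete I A]
  (X : Scheme.{u}) [X.Over (Spec (CommRingCat.of A))] [IsProper (X ↘ Spec (CommRingCat.of A))]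
  (L : X.Modules) (hL : CohB1.IsAmple L)

include hL in
/-- **Existence theorem, quotient form**: a coherent formal module `G` with compatible epimorphisms `ψ_n : E ⟶ G_n` from a
coherent module `E` is the completion of a coherent quotient `π : E ⟶ M`, compatibly. -/
theorem exists_quot_of_epi_system (G : ℕᵒᵖ ⥤ X.Modules) (hG : Formal.IsCohFormal I G)
    (E : X.Modules) (hEc : Coh.IsCoh E) (ψ : ∀ n, E ⟶ G.obj (op n))
    (hψ : ∀ n, ψ (n + 1) ≫ τ G n = ψ n) (hψepi : ∀ n, Epi (ψ n)) :
    ∃ (M : X.Modules) (π : E ⟶ M) (ρ : ∀ n, M ⟶ G.obj (op n)), Coh.IsCoh M ∧ Epi π ∧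
      (∀ n, π ≫ ρ n = ψ n) ∧ (∀ n, IsQuotBy (I ^ (n + 1)) (ρ n)) ∧
      (∀ n, ρ (n + 1) ≫ τ G n = ρ n) := by
  haveI : IsLocallyNoetherian X :=
    LocallyOfFiniteType.isLocallyNoetherian (X ↘ Spec (CommRingCat.of A))
  haveI : CompactSpace X :=
    QuasiCompact.compactSpace_of_compactSpace (X ↘ Spec (CommRingCat.of A))
  haveI : IsNoetherian X := {}
  haveI : X.IsSeparated := Groth.Agent.Lib.Helper23.SecTw.isSeparated_of_isAmple L hL
  obtain ⟨D, hD⟩ := Groth.Agent.Lib.T2H4.AmpleAffine.exists_cohDim X (fun V W hV hW => hV.inf hW)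
  have hD' : ∀ (M : X.Modules) [M.IsQuasicoherent] (n : ℕ), D ≤ n → Subsingleton (Coh.HH X M n) :=
    fun M _ n hn => hD M n hn
  have hSerre := (Groth.Agent.S0051.result A X (X ↘ Spec (CommRingCat.of A)) L hL.1).1 hL
  obtain ⟨r, a, hspan⟩ := (Submodule.fg_iff_exists_fin_generating_family).1
    (IsNoetherian.noetherian I)
  have hA := isAdic_of_isCohFormal I hG
  have hT : IsTower a G := isTower_of_isAdic hA hspan
  -- step B: the induced levelwise epimorphism from the completion
  let φ : Formal.completion I E ⟶ G := complDesc I E G hA.kill ψ hψ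
  have hφepi : ∀ n, Epi (φ.app (op n)) := epi_complDesc_app I E G hA.kill ψ hψ hψepi
  have hCE := isCohFormal_completion I E hEc
  have hAE := isAdic_of_isCohFormal I hCE
  have hTE : IsTower a (Formal.completion I E) := isTower_of_isAdic hAE hspan
  have hgr := epi_grMap hAE hA φ hφepi
  -- step C: the kernel tower
  have hTK := isTower_kerTower hTE hT φ hgr
  obtain ⟨N', hN'⟩ := isFG_kerTower hTE hT φ hgr hCE.1 hG.1 0 (isFG_tgT hTE hAE hspan)
  have hKcoh : ∀ n, Coh.IsCoh ((kerTower φ).obj (op n)) := fun n =>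
    Groth.Agent.Lib.T2H5.GenIsoB.isCoh_kernel (φ.app (op n)) (hCE.1 n) (hG.1 n)
  have hKkill : ∀ n, Formal.KilledBy (I ^ (n + 1)) ((kerTower φ).obj (op n)) := by
    intro n b hb
    change Formal.smulMod A (kernel (φ.app (op n))) b = 0
    rw [← cancel_mono (kernel.ι (φ.app (op n))), Groth.Agent.S9530.smulMod_comp, hAE.kill n b hb,
      comp_zero, zero_comp]
  -- step D: a finite locally free module mapping onto every level of the kernel tower
  obtain ⟨E', ψ', hE', hψ', hψ'epi⟩ := exists_epi_tower hTK hspan hKkill hKcoh N' hN'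
    L hL hSerre D hD'
  have hE'c : Coh.IsCoh E' := Groth.Agent.Lib.T2H5.RegPush.isCoh_of_isFinLocFree E' hE'
  -- step E: algebraize the composite `E' ⟶ K_n ⟶ E_n`
  let χ : Formal.completion I E' ⟶ Formal.completion I E :=
    complDesc I E' (Formal.completion I E) hAE.kill (fun n => ψ' n ≫ (kerι φ).app (op n)) (by
      intro n
      rw [Category.assoc, ← (kerι φ).naturality (homOfLE (Nat.le_succ n)).op, ← Category.assoc,
        hψ' n])
  obtain ⟨θ, hθ, -⟩ := Groth.Agent.Lib.T2H9.ShHom.existsUnique_hom_of_properSupport_inter A I X E' E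
    hE'c hEc (Groth.Agent.Lib.T2H9.ShHom.isProperOver_of_isProper _
      ((Groth.Agent.Lib.T2H9.ShHom.isClosed_support E' hE'c).inter
        (Groth.Agent.Lib.T2H9.ShHom.isClosed_support E hEc))) χ
  have hθ' : ∀ n, θ ≫ Formal.modPowπ I (n + 1) E = ψ' n ≫ (kerι φ).app (op n) := by
    intro n
    rw [← hθ n]
    exact modPowπ_complDesc I E' (Formal.completion I E) hAE.kill _ _ n
  -- step F: the cokernel
  have hθψ : ∀ n, θ ≫ ψ n = 0 := by
    intro n
    have h0 : (kerι φ).app (op n) ≫ φ.app (op n) = 0 := kernel.condition (φ.app (op n))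
    calc θ ≫ ψ n = θ ≫ (Formal.modPowπ I (n + 1) E ≫ φ.app (op n)) :=
          congrArg (fun k => θ ≫ k) (modPowπ_complDesc I E G hA.kill ψ hψ n).symm
      _ = (θ ≫ Formal.modPowπ I (n + 1) E) ≫ φ.app (op n) := (Category.assoc _ _ _).symm
      _ = (ψ' n ≫ (kerι φ).app (op n)) ≫ φ.app (op n) :=
          congrArg (fun k => k ≫ φ.app (op n)) (hθ' n)
      _ = ψ' n ≫ ((kerι φ).app (op n) ≫ φ.app (op n)) := Category.assoc _ _ _
      _ = 0 := (congrArg (fun k => ψ' n ≫ k) h0).trans comp_zero
  let M : X.Modules := cokernel θ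
  let ρ : ∀ n, M ⟶ G.obj (op n) := fun n => cokernel.desc θ (ψ n) (hθψ n)
  have hρ : ∀ n, cokernel.π θ ≫ ρ n = ψ n := fun n => cokernel.π_desc _ _ _
  refine ⟨M, cokernel.π θ, ρ, Groth.Agent.Lib.T2H5.GenIsoB.isCoh_cokernel θ hE'c hEc, inferInstance,
    hρ, fun n => ?_, fun n => ?_⟩
  · refine ⟨?_, ?_, ?_⟩
    · have h := hψepi n
      rw [← hρ n] at h
      exact epi_of_epi (cokernel.π θ) _
    · intro b hb
      rw [Groth.Agent.S9530.smulMod_comp, hA.kill n b hb, comp_zero]
    · intro Z f hf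
      obtain ⟨g, hg⟩ := (isQuotBy_modPowπ I (n + 1) E).fac Z (cokernel.π θ ≫ f) (by
        intro b hb
        rw [← Category.assoc, Groth.Agent.S9530.smulMod_comp, Category.assoc, hf b hb, comp_zero])
      have hg0 : kernel.ι (φ.app (op n)) ≫ g = 0 := by
        haveI := hψ'epi n
        refine (cancel_epi (ψ' n)).1 ?_
        calc ψ' n ≫ (kerι φ).app (op n) ≫ g = (ψ' n ≫ (kerι φ).app (op n)) ≫ g :=
              (Category.assoc _ _ _).symm
          _ = (θ ≫ Formal.modPowπ I (n + 1) E) ≫ g := congrArg (fun k => k ≫ g) (hθ' n).symm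
          _ = θ ≫ (Formal.modPowπ I (n + 1) E ≫ g) := Category.assoc _ _ _
          _ = θ ≫ (cokernel.π θ ≫ f) := congrArg (fun k => θ ≫ k) hg
          _ = 0 := by rw [cokernel.condition_assoc, zero_comp]
          _ = ψ' n ≫ 0 := comp_zero.symm
      haveI := hφepi n
      let h : G.obj (op n) ⟶ Z :=
        (Abelian.epiIsCokernelOfKernel _ (kernelIsKernel (φ.app (op n)))).desc
          (CokernelCofork.ofπ g hg0)
      have hh : φ.app (op n) ≫ h = g :=
        (Abelian.epiIsCokernelOfKernel _ (kernelIsKernel (φ.app (op n)))).fac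
          (CokernelCofork.ofπ g hg0) WalkingParallelPair.one
      refine ⟨h, ?_⟩
      refine (cancel_epi (cokernel.π θ)).1 ?_
      calc cokernel.π θ ≫ ρ n ≫ h = (cokernel.π θ ≫ ρ n) ≫ h := (Category.assoc _ _ _).symm
        _ = ψ n ≫ h := congrArg (fun k => k ≫ h) (hρ n)
        _ = (Formal.modPowπ I (n + 1) E ≫ φ.app (op n)) ≫ h :=
            congrArg (fun k => k ≫ h) (modPowπ_complDesc I E G hA.kill ψ hψ n).symm
        _ = Formal.modPowπ I (n + 1) E ≫ (φ.app (op n) ≫ h) := Category.assoc _ _ _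
        _ = Formal.modPowπ I (n + 1) E ≫ g := congrArg (fun k => Formal.modPowπ I (n + 1) E ≫ k) hh
        _ = cokernel.π θ ≫ f := hg
  · refine (cancel_epi (cokernel.π θ)).1 ?_
    rw [← Category.assoc, hρ (n + 1), hρ n]
    exact hψ n

end quot

end Groth.Agent.Lib.T2H9.Alg
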