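import Mathlib

/-! # Lifting simple roots along nilpotent thickenings; étale algebras over a field (helper9)

`isAdicComplete_of_pow_eq_bot`, `existsUnique_root_of_isNilpotent_ker` (Hensel's lemma along a surjection with nilpotent
kernel, with uniqueness), `exists_monic_simple_root` (every element of an étale algebra over a field is a simple root of a
monic polynomial). -/

set_option autoImplicit false
set_option linter.style.haveILetI false
set_option linter.unusedVariables false
universe u

namespace Groth.Agent.Lib.T2H9.EtLiftAlg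

open Polynomial

/-- an ideal with a vanishing power is adically complete -/
theorem isAdicComplete_of_pow_eq_bot {S : Type*} [CommRing S] (K : Ideal S) (n : ℕ) (hn : K ^ n = ⊥) :
    IsAdicComplete K S where
  haus' x hx := by
    have h := hx n
    rw [hn, Ideal.zero_eq_bot.symm, zero_smul, Ideal.zero_eq_bot, SModEq.bot] at h
    exact h
  prec' f hf := by
    refine ⟨f n, fun m => ?_⟩
    by_cases h : m ≤ n
    · exact hf h
    have h2 := hf (show n ≤ m by omega)
    rw [hn, Ideal.zero_eq_bot.symm, zero_smul, Ideal.zero_eq_bot, SModEq.bot] at h2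
    rw [h2]

/-- Hensel's lemma along a surjection with nilpotent kernel: simple roots lift uniquely -/
theorem existsUnique_root_of_isNilpotent_ker {S S₀ : Type*} [CommRing S] [CommRing S₀] (π : S →+* S₀)
    (hπ : Function.Surjective π) (hK : IsNilpotent (RingHom.ker π)) (g : S[X]) (hg : g.Monic) (b : S₀)
    (hb : (g.map π).eval b = 0) (hu : IsUnit ((g.map π).derivative.eval b)) :
    ∃! β : S, g.eval β = 0 ∧ π β = b := by
  obtain ⟨n, hn⟩ := hK
  haveI : IsAdicComplete (RingHom.ker π) S := isAdicComplete_of_pow_eq_bot _ n hn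
  have hnil : ∀ x ∈ RingHom.ker π, IsNilpotent x := fun x hx =>
    ⟨n, by
      have : x ^ n ∈ RingHom.ker π ^ n := Ideal.pow_mem_pow hx n
      rw [hn] at this
      exact this⟩
  have hev : ∀ (p : S[X]) (a : S), π (p.eval a) = (p.map π).eval (π a) := by
    intro p a
    rw [eval_map, eval₂_hom]
  have hunit : ∀ a : S, π a = b → IsUnit (g.derivative.eval a) := by
    intro a ha
    have h1 : π (g.derivative.eval a) = (g.map π).derivative.eval b := by
      rw [hev, derivative_map, ha]
    have h2 : IsUnit (π (g.derivative.eval a)) := h1 ▸ hu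
    obtain ⟨v, hv⟩ := h2.exists_right_inv
    obtain ⟨w, rfl⟩ := hπ v
    have h3 : g.derivative.eval a * w - 1 ∈ RingHom.ker π := by
      rw [RingHom.mem_ker, map_sub, map_mul, hv, map_one, sub_self]
    have h4 : IsUnit (g.derivative.eval a * w) := by
      have := (hnil _ h3).isUnit_add_one
      rwa [sub_add_cancel] at this
    exact isUnit_of_mul_isUnit_left h4
  obtain ⟨a₀, ha₀⟩ := hπ b
  have hroot₀ : g.eval a₀ ∈ RingHom.ker π := by
    rw [RingHom.mem_ker, hev, ha₀, hb]
  have hu₀ : IsUnit (Ideal.Quotient.mk (RingHom.ker π) (g.derivative.eval a₀)) :=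
    (hunit a₀ ha₀).map _
  obtain ⟨β, hβ, hβ'⟩ := HenselianRing.is_henselian g hg a₀ hroot₀ hu₀
  have hπβ : π β = b := by
    have : π (β - a₀) = 0 := hβ'
    rw [map_sub, sub_eq_zero] at this
    rw [this, ha₀]
  refine ⟨β, ⟨hβ, hπβ⟩, ?_⟩
  rintro γ ⟨hγ, hπγ⟩
  -- Taylor expansion
  obtain ⟨c, hc⟩ := Polynomial.binomExpansion g β (γ - β)
  rw [add_sub_cancel, hγ, hβ, zero_add] at hc
  have hd : γ - β ∈ RingHom.ker π := by
    rw [RingHom.mem_ker, map_sub, hπγ, hπβ, sub_self]
  have h5 : IsUnit (g.derivative.eval β + c * (γ - β)) := by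
    have h6 : IsNilpotent (c * (γ - β)) :=
      Commute.isNilpotent_mul_left (Commute.all _ _) (hnil _ hd)
    have := h6.isUnit_add_left_of_commute (hunit β hπβ) (Commute.all _ _)
    exact this
  have h7 : (g.derivative.eval β + c * (γ - β)) * (γ - β) = 0 := by
    rw [hc]; ring
  have h8 := (h5.mul_right_eq_zero).1 h7
  exact sub_eq_zero.1 h8

/-- every element of an étale algebra over a field is a simple root of a monic polynomial -/
theorem exists_monic_simple_root {k C : Type u} [Field k] [CommRing C] [Algebra k C] [Algebra.Etale k C]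
    (b : C) : ∃ g : k[X], g.Monic ∧ aeval b g = 0 ∧ IsUnit (aeval b (derivative g)) := by
  classical
  obtain ⟨I, hI, Ai, hF, hA, e, H⟩ := (Algebra.Etale.iff_exists_algEquiv_prod k C).mp inferInstance
  haveI := Fintype.ofFinite I
  haveI : ∀ i, Algebra.IsSeparable k (Ai i) := fun i => (H i).2
  haveI : ∀ i, Module.Finite k (Ai i) := fun i => (H i).1
  let mp : I → k[X] := fun i => minpoly k (e b i)
  have hint : ∀ i, IsIntegral k (e b i) := fun i => Algebra.IsIntegral.isIntegral _
  let S : Finset k[X] := Finset.univ.image mp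
  let g : k[X] := ∏ p ∈ S, p
  have hmon : g.Monic := by
    apply monic_prod_of_monic
    intro p hp
    obtain ⟨i, -, rfl⟩ := Finset.mem_image.1 hp
    exact minpoly.monic (hint i)
  have hsep : g.Separable := by
    apply separable_prod'
    · intro p hp q hq hpq
      obtain ⟨i, -, rfl⟩ := Finset.mem_image.1 hp
      obtain ⟨j, -, rfl⟩ := Finset.mem_image.1 hq
      rw [(minpoly.irreducible (hint i)).coprime_iff_not_dvd]
      intro hdvd
      apply hpq
      exact eq_of_monic_of_associated (minpoly.monic (hint i)) (minpoly.monic (hint j))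
        ((minpoly.irreducible (hint i)).associated_of_dvd (minpoly.irreducible (hint j)) hdvd)
    · intro p hp
      obtain ⟨i, -, rfl⟩ := Finset.mem_image.1 hp
      exact Algebra.IsSeparable.isSeparable k (e b i)
  have hroot : aeval b g = 0 := by
    apply e.injective
    rw [map_zero]
    funext i
    have h1 : e (aeval b g) = aeval (e b) g := (aeval_algHom_apply e.toAlgHom b g).symm
    rw [h1]
    have h2 : (aeval (e b) g) i = aeval (e b i) g := by
      have := aeval_algHom_apply (Pi.evalAlgHom k Ai i) (e b) g
      exact this.symm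
    rw [h2]
    have hdvd : mp i ∣ g := Finset.dvd_prod_of_mem _ (Finset.mem_image_of_mem mp (Finset.mem_univ i))
    obtain ⟨q, hq⟩ := hdvd
    rw [hq, map_mul, minpoly.aeval, zero_mul]
    rfl
  refine ⟨g, hmon, hroot, ?_⟩
  obtain ⟨u, v, huv⟩ := hsep
  have h3 := congrArg (aeval b) huv
  rw [map_add, map_mul, map_mul, hroot, mul_zero, zero_add, map_one] at h3
  exact IsUnit.of_mul_eq_one _ (by rw [mul_comm]; exact h3)

end Groth.Agent.Lib.T2H9.EtLiftAlg
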