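import Mathlib
import Groth.Agent.Lib.T2H9EtLiftAlg

/-! # Extending functions from a closed subscheme to a nilpotent thickening (helper9)

`isNilpotent_ker_app`, `exists_lift_section` (simple roots of monic polynomials lift along a surjective closed immersion into a
locally Noetherian scheme: local lifts exist and are unique by Hensel's lemma, hence glue), `appTop_surjective_of_etale`
(if `Γ(W₀, O)` is étale over a field which is a quotient of a ring acting on `W`, then `Γ(W, O) → Γ(W₀, O)` is surjective;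
EGA III 7.8.7). -/

set_option autoImplicit false
set_option linter.style.haveILetI false
set_option linter.unusedVariables false
set_option linter.unusedSectionVars false
universe u
open CategoryTheory CategoryTheory.Limits Opposite AlgebraicGeometry TopologicalSpace Polynomial

namespace Groth.Agent.Lib.T2H9.EtLiftGeo

open Groth.Agent.Lib.T2H9.EtLiftAlg

variable {W W₀ : Scheme.{u}} (j : W₀ ⟶ W)

/-- for a surjective morphism into a locally Noetherian scheme, the kernel of `Γ(W, U) → Γ(W₀, j⁻¹U)` is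
nilpotent for affine `U` -/
theorem isNilpotent_ker_app (hsurj : Function.Surjective j) [IsLocallyNoetherian W] (U : W.Opens)
    (hU : IsAffineOpen U) : IsNilpotent (RingHom.ker (j.app U).hom) := by
  haveI : IsNoetherianRing Γ(W, U) := IsLocallyNoetherian.component_noetherian ⟨U, hU⟩
  have hle : RingHom.ker (j.app U).hom ≤ nilradical Γ(W, U) := by
    intro a ha
    rw [mem_nilradical, Scheme.isNilpotent_iff_basicOpen_eq_bot_of_isCompact hU.isCompact]
    have h1 : j ⁻¹ᵁ W.basicOpen a = ⊥ := by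
      rw [Scheme.preimage_basicOpen]
      have : (j.app U) a = 0 := ha
      rw [this, Scheme.basicOpen_zero]
    rw [eq_bot_iff]
    intro z hz
    obtain ⟨z₀, rfl⟩ := hsurj z
    have : z₀ ∈ j ⁻¹ᵁ W.basicOpen a := hz
    rw [h1] at this
    exact this
  obtain ⟨n, hn⟩ := IsNoetherianRing.isNilpotent_nilradical Γ(W, U)
  refine ⟨n, ?_⟩
  have := Ideal.pow_right_mono hle n
  rw [hn] at this
  exact le_bot_iff.1 this

/-- restriction of sections -/
noncomputable abbrev rs {X : Scheme.{u}} {U V : X.Opens} (h : V ≤ U) : Γ(X, U) →+* Γ(X, V) :=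
  (X.presheaf.map (homOfLE h).op).hom

theorem rs_rs {X : Scheme.{u}} {U V V' : X.Opens} (h : V ≤ U) (h' : V' ≤ V) (s : Γ(X, U)) :
    rs h' (rs h s) = rs (h'.trans h) s := by
  change (X.presheaf.map (homOfLE h).op ≫ X.presheaf.map (homOfLE h').op).hom s = _
  rw [← X.presheaf.map_comp]
  rfl

theorem app_rs {U V : W.Opens} (h : V ≤ U) (s : Γ(W, U)) :
    (j.app V).hom (rs h s) =
      rs (show j ⁻¹ᵁ V ≤ j ⁻¹ᵁ U from fun _ hx => h hx) ((j.app U).hom s) := by
  have := j.naturality (homOfLE h).op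
  exact congrArg (fun φ => φ.hom s) this

variable [IsClosedImmersion j]

/-- **Lifting simple roots of monic polynomials along a surjective closed immersion** into a locally Noetherian
scheme (a nilpotent thickening): local lifts exist and are unique by Hensel's lemma, hence glue. -/
theorem exists_lift_section (hsurj : Function.Surjective j) [IsLocallyNoetherian W]
    {R : Type u} [CommRing R] (ρ : R →+* Γ(W, ⊤)) (σ : R →+* Γ(W₀, ⊤))
    (hσ : ∀ r, j.appTop.hom (ρ r) = σ r) (g : R[X]) (hg : g.Monic) (b : Γ(W₀, ⊤))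
    (hb : (g.map σ).eval b = 0) (hu : IsUnit ((g.map σ).derivative.eval b)) :
    ∃ β : Γ(W, ⊤), j.appTop.hom β = b := by
  -- local data
  let ρU : ∀ U : W.Opens, R →+* Γ(W, U) := fun U => (rs (le_top : U ≤ ⊤)).comp ρ
  let bU : ∀ U : W.Opens, Γ(W₀, j ⁻¹ᵁ U) := fun U => rs (le_top : j ⁻¹ᵁ U ≤ ⊤) b
  have hcompU : ∀ U : W.Opens, (j.app U).hom.comp (ρU U) =
      (rs (le_top : j ⁻¹ᵁ U ≤ ⊤)).comp σ := by
    intro U
    ext r
    refine (app_rs j (le_top : U ≤ ⊤) (ρ r)).trans ?_
    exact congrArg (rs (le_top : j ⁻¹ᵁ U ≤ ⊤)) (hσ r)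
  have hmapU : ∀ U : W.Opens, ((g.map (ρU U)).map (j.app U).hom) =
      (g.map σ).map (rs (le_top : j ⁻¹ᵁ U ≤ ⊤)) := by
    intro U
    rw [Polynomial.map_map, Polynomial.map_map, hcompU]
  have hbU : ∀ U : W.Opens, ((g.map (ρU U)).map (j.app U).hom).eval (bU U) = 0 := by
    intro U
    rw [hmapU, Polynomial.eval_map_apply, hb, map_zero]
  have huU : ∀ U : W.Opens, IsUnit (((g.map (ρU U)).map (j.app U).hom).derivative.eval (bU U)) := by
    intro U
    rw [hmapU, Polynomial.derivative_map, Polynomial.eval_map_apply]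
    exact hu.map _
  have hex : ∀ U : W.affineOpens, ∃! β : Γ(W, U.1), (g.map (ρU U.1)).eval β = 0 ∧
      (j.app U.1).hom β = bU U.1 := fun U =>
    existsUnique_root_of_isNilpotent_ker (j.app U.1).hom (j.app_surjective U.1 U.2)
      (isNilpotent_ker_app j hsurj U.1 U.2) (g.map (ρU U.1)) (hg.map _) (bU U.1) (hbU U.1) (huU U.1)
  choose βU hβU huniq using hex
  -- restriction of a local lift is the local lift
  have hρres : ∀ {U V : W.Opens} (h : V ≤ U), (rs h).comp (ρU U) = ρU V := by
    intro U V h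
    ext r
    exact rs_rs (le_top : U ≤ ⊤) h (ρ r)
  have hres : ∀ (U V : W.affineOpens) (h : V.1 ≤ U.1), rs h (βU U) = βU V := by
    intro U V h
    apply huniq V
    constructor
    · have : g.map (ρU V.1) = (g.map (ρU U.1)).map (rs h) := by
        rw [Polynomial.map_map, hρres h]
      rw [this, Polynomial.eval_map_apply, (hβU U).1, map_zero]
    · rw [app_rs j h, (hβU U).2]
      exact rs_rs _ _ b
  -- gluing
  have hcompat : TopCat.Presheaf.IsCompatible W.sheaf.1 (fun U : W.affineOpens => U.1) βU := by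
    intro U V
    let ι' := {W' : W.affineOpens // W'.1 ≤ U.1 ⊓ V.1}
    refine TopCat.Sheaf.eq_of_locally_eq' W.sheaf (fun W' : ι' => W'.1.1) (U.1 ⊓ V.1)
      (fun W' => homOfLE W'.2) ?_ _ _ ?_
    · intro x hx
      obtain ⟨W', hW', hxW', hle⟩ := (Opens.isBasis_iff_nbhd.1 W.isBasis_affineOpens) hx
      exact Opens.mem_iSup.2 ⟨⟨⟨W', hW'⟩, hle⟩, hxW'⟩
    · intro W'
      have h1 : rs W'.2 (rs (inf_le_left : U.1 ⊓ V.1 ≤ U.1) (βU U)) = βU W'.1 := by
        rw [rs_rs]
        exact hres U W'.1 _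
      have h2 : rs W'.2 (rs (inf_le_right : U.1 ⊓ V.1 ≤ V.1) (βU V)) = βU W'.1 := by
        rw [rs_rs]
        exact hres V W'.1 _
      exact h1.trans h2.symm
  obtain ⟨β, hβ, -⟩ := TopCat.Sheaf.existsUnique_gluing' W.sheaf (fun U : W.affineOpens => U.1) ⊤
    (fun U => homOfLE le_top) (by rw [iSup_affineOpens_eq_top W]) βU hcompat
  refine ⟨β, ?_⟩
  refine TopCat.Sheaf.eq_of_locally_eq' W₀.sheaf (fun U : W.affineOpens => j ⁻¹ᵁ U.1) ⊤
    (fun U => homOfLE le_top) ?_ _ _ ?_
  · intro x _
    have hx : j x ∈ (⊤ : W.Opens) := trivial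
    rw [← iSup_affineOpens_eq_top W] at hx
    obtain ⟨U, hU⟩ := Opens.mem_iSup.1 hx
    exact Opens.mem_iSup.2 ⟨U, hU⟩
  · intro U
    have h1 : rs (le_top : j ⁻¹ᵁ U.1 ≤ ⊤) (j.appTop.hom β) = (j.app U.1).hom (rs (le_top : U.1 ≤ ⊤) β) :=
      (app_rs j (le_top : U.1 ≤ ⊤) β).symm
    have h2 : rs (le_top : U.1 ≤ ⊤) β = βU U := hβ U
    exact h1.trans ((congrArg _ h2).trans (hβU U).2)

/-- if the functions on `W₀` form an étale algebra over a field `k` which is a quotient of a ring `R` acting on `W`,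
then every function on `W₀` extends to the thickening `W` -/
theorem appTop_surjective_of_etale (hsurj : Function.Surjective j) [IsLocallyNoetherian W]
    {R k : Type u} [CommRing R] [Field k] (ρ : R →+* Γ(W, ⊤)) (τ : R →+* k) (hτ : Function.Surjective τ)
    (κ : k →+* Γ(W₀, ⊤)) (hκ : ∀ r, j.appTop.hom (ρ r) = κ (τ r))
    (het : letI := κ.toAlgebra; Algebra.Etale k Γ(W₀, ⊤)) : Function.Surjective j.appTop.hom := by
  intro b
  letI := κ.toAlgebra
  obtain ⟨g₀, hmon, hroot, hunit⟩ := exists_monic_simple_root (k := k) b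
  obtain ⟨g, hg1, -, hg2⟩ := Polynomial.lifts_and_natDegree_eq_and_monic
    (Polynomial.mem_lifts_of_surjective hτ g₀) hmon
  have hmap : g.map (κ.comp τ) = g₀.map κ := by
    rw [← Polynomial.map_map, hg1]
  refine exists_lift_section j hsurj ρ (κ.comp τ) hκ g hg2 b ?_ ?_
  · rw [hmap]
    have : Polynomial.eval b (g₀.map κ) = aeval b g₀ := by
      rw [Polynomial.aeval_def, Polynomial.eval₂_eq_eval_map]
      rfl
    rw [this, hroot]
  · rw [hmap, Polynomial.derivative_map]
    have : Polynomial.eval b ((derivative g₀).map κ) = aeval b (derivative g₀) := by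
      rw [Polynomial.aeval_def, Polynomial.eval₂_eq_eval_map]
      rfl
    rw [this]
    exact hunit

end Groth.Agent.Lib.T2H9.EtLiftGeo
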