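import Mathlib
import Groth.Agent.Lib.Helper13FlatMV

/-!
# Algebra for flat base change of cohomology (helper9)

* `existsUnique_of_kap_bijective`: the universal property of a base change map;
* `kap_bijective_of_equiv`: transport of bijectivity of `kap` along compatible ring and module isomorphisms;
* `nonempty_linearEquiv_of_cokernel`: comparison of cokernels after base change;
* `nonempty_linearEquiv_of_shift`: dimension shifting.
-/

set_option autoImplicit false
set_option linter.style.haveILetI false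
set_option linter.unusedSectionVars false
set_option linter.unusedVariables false
universe u

namespace Groth.Agent.Lib.T2H9.FBCAlg

open TensorProduct Groth.Agent.Helper13FlatMV

section univ
variable {R R' : Type u} [CommRing R] [CommRing R'] [Algebra R R']
variable {M Q : Type u} [AddCommGroup M] [Module R M] [AddCommGroup Q] [Module R' Q]

theorem kap_one_tmul (φ : M →+ Q) (hφ : ∀ (r : R) (m : M), φ (r • m) = algebraMap R R' r • φ m)
    (m : M) : kap φ hφ ((1 : R') ⊗ₜ[R] m) = φ m := by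
  rw [kap_tmul, one_smul]

/-- a bijective base change map has the universal property -/
theorem existsUnique_of_kap_bijective
    (φ : M →+ Q) (hφ : ∀ (r : R) (m : M), φ (r • m) = algebraMap R R' r • φ m)
    (h : Function.Bijective (kap φ hφ))
    (N : Type u) [AddCommGroup N] [Module R' N] (l : M →+ N)
    (hl : ∀ (r : R) (m : M), l (r • m) = algebraMap R R' r • l m) :
    ∃! l' : Q →ₗ[R'] N, ∀ m, l' (φ m) = l m := by
  let e : (R' ⊗[R] M) ≃ₗ[R'] Q := LinearEquiv.ofBijective (kap φ hφ) h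
  have he : ∀ m, e.symm (φ m) = (1 : R') ⊗ₜ[R] m := by
    intro m
    rw [LinearEquiv.symm_apply_eq]
    exact (kap_one_tmul φ hφ m).symm
  refine ⟨(kap l hl).comp e.symm.toLinearMap, fun m => ?_, fun l'' hl'' => ?_⟩
  · rw [LinearMap.comp_apply, LinearEquiv.coe_coe, he, kap_one_tmul]
  · refine LinearMap.ext fun q => ?_
    obtain ⟨x, rfl⟩ := e.surjective q
    rw [LinearMap.comp_apply, LinearEquiv.coe_coe, LinearEquiv.symm_apply_apply]
    change l'' (kap φ hφ x) = kap l hl x
    induction x using TensorProduct.induction_on with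
    | zero => simp
    | tmul r' a => rw [kap_tmul, kap_tmul, map_smul, hl'']
    | add x y hx hy => rw [map_add, map_add, map_add, hx, hy]

end univ

section transport
variable {A B R R' : Type u} [CommRing A] [CommRing B] [Algebra A B]
  [CommRing R] [CommRing R'] [Algebra R R']
variable {M Q M₀ Q₀ : Type u} [AddCommGroup M] [Module A M] [AddCommGroup Q] [Module B Q]
  [AddCommGroup M₀] [Module R M₀] [AddCommGroup Q₀] [Module R' Q₀]

/-- transport of bijectivity of `kap` along compatible isomorphisms -/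
theorem kap_bijective_of_equiv (α : A ≃+* R) (β : B ≃+* R')
    (hαβ : ∀ a : A, β (algebraMap A B a) = algebraMap R R' (α a))
    (e : M ≃+ M₀) (he : ∀ (a : A) (m : M), e (a • m) = α a • e m)
    (e' : Q ≃+ Q₀) (he' : ∀ (b : B) (q : Q), e' (b • q) = β b • e' q)
    (φ₀ : M₀ →+ Q₀) (hφ₀ : ∀ (r : R) (m : M₀), φ₀ (r • m) = algebraMap R R' r • φ₀ m)
    (φ : M →+ Q) (hφ : ∀ (a : A) (m : M), φ (a • m) = algebraMap A B a • φ m)
    (hcomp : ∀ m, e' (φ m) = φ₀ (e m))
    (h : Function.Bijective (kap φ₀ hφ₀)) : Function.Bijective (kap φ hφ) := by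
  refine kap_bijective_of_existsUnique φ hφ ?_
  intro N _ _ l hl
  -- `N` as an `R'`-module
  letI : Module R' N := Module.compHom N (β.symm : R' →+* B)
  have hsm : ∀ (r' : R') (n : N), r' • n = β.symm r' • n := fun _ _ => rfl
  let l₀ : M₀ →+ N := l.comp e.symm.toAddMonoidHom
  have hl₀ : ∀ (r : R) (m : M₀), l₀ (r • m) = algebraMap R R' r • l₀ m := by
    intro r m
    change l (e.symm (r • m)) = algebraMap R R' r • l (e.symm m)
    have h1 : e.symm (r • m) = α.symm r • e.symm m := by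
      apply e.injective
      rw [AddEquiv.apply_symm_apply, he, RingEquiv.apply_symm_apply, AddEquiv.apply_symm_apply]
    rw [h1, hl, hsm]
    congr 1
    apply β.injective
    rw [RingEquiv.apply_symm_apply, hαβ, RingEquiv.apply_symm_apply]
  obtain ⟨l₀', h1, h2⟩ := existsUnique_of_kap_bijective φ₀ hφ₀ h N l₀ hl₀
  let l' : Q →ₗ[B] N :=
    { toFun := fun q => l₀' (e' q)
      map_add' := fun a b => by rw [map_add, map_add]
      map_smul' := fun b q => by
        rw [he', map_smul, hsm, RingEquiv.symm_apply_apply]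
        rfl }
  refine ⟨l', fun m => ?_, fun l'' hl'' => ?_⟩
  · change l₀' (e' (φ m)) = l m
    rw [hcomp, h1]
    change l (e.symm (e m)) = l m
    rw [AddEquiv.symm_apply_apply]
  · let l₀'' : Q₀ →ₗ[R'] N :=
      { toFun := fun q => l'' (e'.symm q)
        map_add' := fun a b => by rw [map_add, map_add]
        map_smul' := fun r' q => by
          have h3 : e'.symm (r' • q) = β.symm r' • e'.symm q := by
            apply e'.injective
            rw [AddEquiv.apply_symm_apply, he', RingEquiv.apply_symm_apply,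
              AddEquiv.apply_symm_apply]
          rw [h3, map_smul]
          rfl }
    have h4 : l₀'' = l₀' := h2 l₀'' (fun m => by
      change l'' (e'.symm (φ₀ m)) = l (e.symm m)
      have h5 : φ₀ m = e' (φ (e.symm m)) := by rw [hcomp, AddEquiv.apply_symm_apply]
      rw [h5, AddEquiv.symm_apply_apply, hl''])
    refine LinearMap.ext fun q => ?_
    change l'' q = l₀' (e' q)
    rw [← h4]
    change l'' q = l'' (e'.symm (e' q))
    rw [AddEquiv.symm_apply_apply]

end transport

section coker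
variable {R R' : Type u} [CommRing R] [CommRing R'] [Algebra R R']
variable {M₁ M₂ M₃ : Type u} [AddCommGroup M₁] [Module R M₁] [AddCommGroup M₂] [Module R M₂]
  [AddCommGroup M₃] [Module R M₃]
variable {N₁ N₂ N₃ : Type u} [AddCommGroup N₁] [Module R' N₁] [AddCommGroup N₂] [Module R' N₂]
  [AddCommGroup N₃] [Module R' N₃]

/-- comparison of cokernels after base change -/
theorem nonempty_linearEquiv_of_cokernel
    (a : M₁ →ₗ[R] M₂) (d : M₂ →ₗ[R] M₃) (hd : Function.Surjective d)
    (hex : LinearMap.ker d = LinearMap.range a)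
    (a' : N₁ →ₗ[R'] N₂) (d' : N₂ →ₗ[R'] N₃) (hd' : Function.Surjective d')
    (hex' : LinearMap.ker d' = LinearMap.range a')
    (κ₁ : R' ⊗[R] M₁ →ₗ[R'] N₁) (hκ₁ : Function.Surjective κ₁)
    (κ₂ : R' ⊗[R] M₂ →ₗ[R'] N₂) (hκ₂ : Function.Bijective κ₂)
    (hcomm : ∀ x, κ₂ (a.lTensor R' x) = a' (κ₁ x)) :
    Nonempty (R' ⊗[R] M₃ ≃ₗ[R'] N₃) := by
  have hexT : Function.Exact (a.lTensor R') (d.lTensor R') :=
    lTensor_exact R' (LinearMap.exact_iff.2 hex) hd
  have hdT : Function.Surjective (d.lTensor R') := LinearMap.lTensor_surjective R' hd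
  -- `R'`-linear versions
  let aT : R' ⊗[R] M₁ →ₗ[R'] R' ⊗[R] M₂ := a.baseChange R'
  let dT : R' ⊗[R] M₂ →ₗ[R'] R' ⊗[R] M₃ := d.baseChange R'
  have haT : ∀ x, aT x = a.lTensor R' x := fun x => rfl
  have hdT' : ∀ x, dT x = d.lTensor R' x := fun x => rfl
  -- the map `R' ⊗ M₃ → N₃`
  have hker : LinearMap.ker dT ≤ LinearMap.ker (d'.comp κ₂) := by
    intro x hx
    rw [LinearMap.mem_ker, hdT'] at hx
    obtain ⟨y, rfl⟩ := (hexT x).1 hx
    rw [LinearMap.mem_ker, LinearMap.comp_apply, hcomm]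
    have : a' (κ₁ y) ∈ LinearMap.ker d' := by rw [hex']; exact ⟨_, rfl⟩
    exact this
  have hdTs : Function.Surjective dT := hdT
  let eT : ((R' ⊗[R] M₂) ⧸ LinearMap.ker dT) ≃ₗ[R'] R' ⊗[R] M₃ :=
    dT.quotKerEquivOfSurjective hdTs
  let ψ : R' ⊗[R] M₃ →ₗ[R'] N₃ :=
    ((LinearMap.ker dT).liftQ (d'.comp κ₂) hker).comp eT.symm.toLinearMap
  have hψ : ∀ y, ψ (dT y) = d' (κ₂ y) := by
    intro y
    change ((LinearMap.ker dT).liftQ (d'.comp κ₂) hker) (eT.symm (dT y)) = _
    have : eT.symm (dT y) = Submodule.Quotient.mk y := by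
      rw [LinearEquiv.symm_apply_eq]
      rfl
    rw [this, Submodule.liftQ_apply]
    rfl
  refine ⟨LinearEquiv.ofBijective ψ ⟨?_, ?_⟩⟩
  · rw [injective_iff_map_eq_zero]
    intro x hx
    obtain ⟨y, rfl⟩ := hdTs x
    rw [hψ] at hx
    have h1 : κ₂ y ∈ LinearMap.range a' := by rw [← hex']; exact hx
    obtain ⟨z', hz'⟩ := h1
    obtain ⟨z, rfl⟩ := hκ₁ z'
    rw [← hcomm] at hz'
    have h2 := hκ₂.1 hz'
    rw [← h2, hdT']
    exact (hexT _).2 ⟨z, rfl⟩
  · intro n
    obtain ⟨q, rfl⟩ := hd' n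
    obtain ⟨y, rfl⟩ := hκ₂.2 q
    exact ⟨dT y, hψ y⟩

/-- dimension shifting -/
theorem nonempty_linearEquiv_of_shift
    (δ : M₁ →ₗ[R] M₂) (hδ : Function.Bijective δ)
    (δ' : N₁ →ₗ[R'] N₂) (hδ' : Function.Bijective δ')
    (h : Nonempty (R' ⊗[R] M₁ ≃ₗ[R'] N₁)) : Nonempty (R' ⊗[R] M₂ ≃ₗ[R'] N₂) := by
  obtain ⟨e⟩ := h
  let eδ : M₁ ≃ₗ[R] M₂ := LinearEquiv.ofBijective δ hδ
  let eδ' : N₁ ≃ₗ[R'] N₂ := LinearEquiv.ofBijective δ' hδ'
  exact ⟨((eδ.baseChange R R' _ _).symm.trans e).trans eδ'⟩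

end coker

end Groth.Agent.Lib.T2H9.FBCAlg
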