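import Groth.Agent.Lib.T2H9H0Unit
import Groth.Agent.Lib.Helper13QcqsBC
import Groth.Agent.Lib.T2H9FBCAlg

/-!
# Flat base change for `H^0` over an affine base, in natural linear form (helper9)
-/

set_option autoImplicit false
set_option linter.style.haveILetI false
set_option linter.unusedSectionVars false
set_option linter.unusedVariables false
universe u
open CategoryTheory AlgebraicGeometry Opposite TopologicalSpace Limits

namespace Groth.Agent.Lib.T2H9.FBCZero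

open Groth.Agent.Lib.T2H9.H0Unit Groth.Agent.Helper13PullbackUnit Groth.Agent.Helper13QcqsBC
  Groth.Agent.Helper13FlatMV Groth.Agent.Lib.Helper6

/-- `H^0(X, M) ≃+ Γ(M, ⊤)` -/
noncomputable def hh0Γ (X : Scheme.{u}) (M : X.Modules) : Coh.HH X M 0 ≃+ Γ(M, ⊤) :=
  hh0Equiv X M

theorem hh0Γ_smul (X : Scheme.{u}) (M : X.Modules) (r : Γ(X, ⊤)) (x : Coh.HH X M 0) :
    hh0Γ X M ((show Coh.Γtop X from r) • x) = (r • hh0Γ X M x : Γ(M, ⊤)) := by
  have h := hh0Equiv_smul X M r x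
  rw [Coh.smulAb_app, resTop_top] at h
  exact h

theorem hh0Γ_map {X : Scheme.{u}} {M N : X.Modules} (ψ : M ⟶ N) (x : Coh.HH X M 0) :
    hh0Γ X N (Sheaf.H.map ((SheafOfModules.toSheaf _).map ψ) 0 x) = ψ.app ⊤ (hh0Γ X M x) :=
  (Sheaf.H.equiv₀_naturality Limits.isTerminalTop ((SheafOfModules.toSheaf _).map ψ) x).symm

section main

variable {A B : Type u} [CommRing A] [CommRing B] [Algebra A B]
variable {X X' : Scheme.{u}} [X.Over (Spec (CommRingCat.of A))] [X'.Over (Spec (CommRingCat.of B))]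
variable (g' : X' ⟶ X)

theorem top_le_pre : (⊤ : X'.Opens) ≤ g' ⁻¹ᵁ ⊤ := fun _ _ => trivial

theorem appLE_top_top : g'.appLE ⊤ ⊤ (top_le_pre g') = g'.appTop := by
  rw [Scheme.Hom.appTop, Scheme.Hom.app_eq_appLE]
  rfl

/-- the pullback map on `H^0` -/
noncomputable def u0 (F : X.Modules) :
    Coh.HH X F 0 →+ Coh.HH X' ((Scheme.Modules.pullback g').obj F) 0 :=
  ((hh0Γ X' ((Scheme.Modules.pullback g').obj F)).symm.toAddMonoidHom.comp
    (unitSec g' F (top_le_pre g'))).comp (hh0Γ X F).toAddMonoidHom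

theorem hh0Γ_u0 (F : X.Modules) (x : Coh.HH X F 0) :
    hh0Γ X' ((Scheme.Modules.pullback g').obj F) (u0 g' F x) =
      unitSec g' F (top_le_pre g') (hh0Γ X F x) :=
  AddEquiv.apply_symm_apply _ _

variable (h : IsPullback g' (X' ↘ Spec (CommRingCat.of B)) (X ↘ Spec (CommRingCat.of A))
  (Spec.map (CommRingCat.ofHom (algebraMap A B))))

include h in
theorem appTop_toGlobal (a : A) :
    g'.appTop.hom (Coh.toGlobal (X ↘ Spec (CommRingCat.of A)) a) =
      Coh.toGlobal (X' ↘ Spec (CommRingCat.of B)) (algebraMap A B a) := by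
  have h1 : (X ↘ Spec (CommRingCat.of A)).appTop ≫ g'.appTop =
      (Spec.map (CommRingCat.ofHom (algebraMap A B))).appTop ≫
        (X' ↘ Spec (CommRingCat.of B)).appTop := by
    rw [← Scheme.Hom.comp_appTop, ← Scheme.Hom.comp_appTop, h.w]
  have h2 := Scheme.ΓSpecIso_inv_naturality (CommRingCat.ofHom (algebraMap A B))
  change (((Scheme.ΓSpecIso (CommRingCat.of A)).inv ≫
    (X ↘ Spec (CommRingCat.of A)).appTop ≫ g'.appTop).hom a) = _
  rw [h1, ← Category.assoc, ← h2]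
  rfl

include h in
theorem u0_smul (F : X.Modules) (a : A) (x : Coh.HH X F 0) :
    u0 g' F (a • x) = algebraMap A B a • u0 g' F x := by
  apply (hh0Γ X' ((Scheme.Modules.pullback g').obj F)).injective
  have e1 : (a • x : Coh.HH X F 0) =
      (show Coh.Γtop X from Coh.toGlobal (X ↘ Spec (CommRingCat.of A)) a) • x := rfl
  have e2 : (algebraMap A B a • u0 g' F x : Coh.HH X' ((Scheme.Modules.pullback g').obj F) 0) =
      (show Coh.Γtop X' from Coh.toGlobal (X' ↘ Spec (CommRingCat.of B)) (algebraMap A B a)) •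
        u0 g' F x := rfl
  rw [e2, hh0Γ_smul, hh0Γ_u0, hh0Γ_u0, e1, hh0Γ_smul, unitSec_smul, ← appTop_toGlobal g' h a,
    appLE_top_top]

theorem u0_nat {F G : X.Modules} (ψ : F ⟶ G) (x : Coh.HH X F 0) :
    u0 g' G (Sheaf.H.map ((SheafOfModules.toSheaf _).map ψ) 0 x) =
      Sheaf.H.map ((SheafOfModules.toSheaf _).map ((Scheme.Modules.pullback g').map ψ)) 0
        (u0 g' F x) := by
  apply (hh0Γ X' ((Scheme.Modules.pullback g').obj G)).injective
  rw [hh0Γ_u0, hh0Γ_map, hh0Γ_map, hh0Γ_u0, unitSec_apply, unitSec_apply]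
  have n1 := CategoryTheory.congr_fun
    ((Scheme.Modules.Hom.mapPresheaf ((Scheme.Modules.pullback g').map ψ)).naturality
      (homOfLE (top_le_pre g')).op)
    (((Scheme.Modules.pullbackPushforwardAdjunction g').unit.app F).app ⊤ (hh0Γ X F x))
  have n2 := (Scheme.Modules.pullbackPushforwardAdjunction g').unit.naturality ψ
  have n3 : ((Scheme.Modules.pullbackPushforwardAdjunction g').unit.app G).app ⊤
      (ψ.app ⊤ (hh0Γ X F x)) =
      ((Scheme.Modules.pullback g').map ψ).app (g' ⁻¹ᵁ ⊤)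
        (((Scheme.Modules.pullbackPushforwardAdjunction g').unit.app F).app ⊤ (hh0Γ X F x)) :=
    congrArg (fun t => (Scheme.Modules.Hom.app t ⊤) (hh0Γ X F x)) n2
  have key := congrArg (fun t => ((Scheme.Modules.pullback g').obj G).presheaf.map
    (homOfLE (top_le_pre g')).op t) n3
  exact key.trans n1.symm

section bij

variable [Module.Flat A B] [QuasiCompact (X ↘ Spec (CommRingCat.of A))]
  [QuasiSeparated (X ↘ Spec (CommRingCat.of A))]

include h in
/-- flat base change for `H^0`: the base change map of `u0` is bijective -/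
theorem kap_u0_bijective (F : X.Modules) [F.IsQuasicoherent] :
    Function.Bijective (kap (R := A) (R' := B) (u0 g' F) (u0_smul g' h F)) := by
  let f : X ⟶ Spec (CommRingCat.of A) := X ↘ Spec (CommRingCat.of A)
  let f' : X' ⟶ Spec (CommRingCat.of B) := X' ↘ Spec (CommRingCat.of B)
  let g : Spec (CommRingCat.of B) ⟶ Spec (CommRingCat.of A) :=
    Spec.map (CommRingCat.ofHom (algebraMap A B))
  have hle : (⊤ : (Spec (CommRingCat.of B)).Opens) ≤ g ⁻¹ᵁ ⊤ := top_le_pre g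
  have hW : (⊤ : X.Opens) ≤ f ⁻¹ᵁ ⊤ := top_le_pre f
  letI : Algebra Γ(Spec (CommRingCat.of A), ⊤) Γ(Spec (CommRingCat.of B), ⊤) :=
    (g.appLE ⊤ ⊤ hle).hom.toAlgebra
  haveI : Flat g := Flat.SpecMap_iff.2 (RingHom.flat_algebraMap_iff.2 inferInstance)
  have hflat : (g.appLE ⊤ ⊤ hle).hom.Flat :=
    g.flat_appLE (isAffineOpen_top _) (isAffineOpen_top _) hle
  have hqs : IsQuasiSeparated ((f ⁻¹ᵁ ⊤ : X.Opens) : Set X) :=
    f.isQuasiSeparated_preimage (isAffineOpen_top _).isQuasiSeparated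
  have hWc : IsCompact ((⊤ : X.Opens) : Set X) :=
    f.isCompact_preimage (isAffineOpen_top _).isCompact
  have hK := KBij_of_qcqs f g g' f' h F hle (isAffineOpen_top _) (isAffineOpen_top _) hflat hqs
    ⊤ hWc hW
  let α : A ≃+* Γ(Spec (CommRingCat.of A), ⊤) :=
    (Scheme.ΓSpecIso (CommRingCat.of A)).symm.commRingCatIsoToRingEquiv
  let β : B ≃+* Γ(Spec (CommRingCat.of B), ⊤) :=
    (Scheme.ΓSpecIso (CommRingCat.of B)).symm.commRingCatIsoToRingEquiv
  have hαβ : ∀ a : A, β (algebraMap A B a) =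
      algebraMap Γ(Spec (CommRingCat.of A), ⊤) Γ(Spec (CommRingCat.of B), ⊤) (α a) := by
    intro a
    have h2 := Scheme.ΓSpecIso_inv_naturality (CommRingCat.ofHom (algebraMap A B))
    have h3 : (Scheme.ΓSpecIso (CommRingCat.of B)).inv.hom (algebraMap A B a) =
        g.appTop.hom ((Scheme.ΓSpecIso (CommRingCat.of A)).inv.hom a) :=
      congrArg (fun t => t.hom a) h2
    have h4 : g.appLE ⊤ ⊤ hle = g.appTop := appLE_top_top g
    change (Scheme.ΓSpecIso (CommRingCat.of B)).inv.hom (algebraMap A B a) =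
      (g.appLE ⊤ ⊤ hle).hom ((Scheme.ΓSpecIso (CommRingCat.of A)).inv.hom a)
    rw [h4]
    exact h3
  let G' := (Scheme.Modules.pullback g').obj F
  have hVeq : Vp g' f' ⊤ ⊤ = (⊤ : X'.Opens) := by
    apply le_antisymm le_top
    exact le_inf (top_le_pre g') (top_le_pre f')
  have hVle : Vp g' f' ⊤ ⊤ ≤ (⊤ : X'.Opens) := le_top
  let ρ : Γ(G', ⊤) ≃+ Γ(G', Vp g' f' ⊤ ⊤) :=
    AddEquiv.ofBijective (G'.presheaf.map (homOfLE hVle).op).hom
      (map_bijective_of_eq G' hVeq (homOfLE hVle))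
  have hρ : ∀ s, ρ s = res G' hVle s := fun s => rfl
  let e : Coh.HH X F 0 ≃+ SecR f F ⊤ ⊤ hW := hh0Γ X F
  let e' : Coh.HH X' G' 0 ≃+ SecR f' G' ⊤ (Vp g' f' ⊤ ⊤) inf_le_right := (hh0Γ X' G').trans ρ
  refine FBCAlg.kap_bijective_of_equiv α β hαβ e ?_ e' ?_
    (uW f g' f' F hW (inf_le_left : Vp g' f' ⊤ ⊤ ≤ g' ⁻¹ᵁ ⊤) inf_le_right)
    (uW_smul f g g' f' h F hle hW inf_le_left inf_le_right) (u0 g' F) (u0_smul g' h F) ?_ hK
  · intro a m
    have e1 : (a • m : Coh.HH X F 0) =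
        (show Coh.Γtop X from Coh.toGlobal (X ↘ Spec (CommRingCat.of A)) a) • m := rfl
    change hh0Γ X F (a • m) = ((f.appLE ⊤ ⊤ hW (α a) : Γ(X, ⊤)) • hh0Γ X F m : Γ(F, ⊤))
    rw [e1, hh0Γ_smul, appLE_top_top]
    rfl
  · intro b q
    have e1 : (b • q : Coh.HH X' G' 0) =
        (show Coh.Γtop X' from Coh.toGlobal (X' ↘ Spec (CommRingCat.of B)) b) • q := rfl
    change res G' hVle (hh0Γ X' G' (b • q)) =
      ((f'.appLE ⊤ (Vp g' f' ⊤ ⊤) inf_le_right (β b) : Γ(X', Vp g' f' ⊤ ⊤)) •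
        res G' hVle (hh0Γ X' G' q) : Γ(G', Vp g' f' ⊤ ⊤))
    rw [e1, hh0Γ_smul, res_smul]
    congr 1
  · intro m
    change res G' hVle (hh0Γ X' G' (u0 g' F m)) =
      unitSec g' F (inf_le_left : Vp g' f' ⊤ ⊤ ≤ g' ⁻¹ᵁ ⊤) (hh0Γ X F m)
    rw [hh0Γ_u0, unitSec_res g' F (top_le_pre g') inf_le_left (le_refl ⊤) hVle, res_self]

end bij

end main

end Groth.Agent.Lib.T2H9.FBCZero
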