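import Groth.Agent.Lib.T2H9FibSec
import Groth.Agent.Lib.T2H9InvFlat

/-!
# T2H9FibSec2 (helper9): an invertible module trivial on a fibre is trivial near the fibre

For `f : X ⟶ Y` proper and flat, `Y` locally Noetherian, `y ∈ Y` with `H^1(X_y, O_{X_y}) = 0` and `N` invertible on
`X` with `N|_{X_y} ≅ O`:
* `exists_isGen_pullback_stalk`: `N` becomes trivial on `X ×_Y Spec O_{Y,y}` (cohomology and base change for `H^0`,
  `T2H9FibSec.exists_isGen_top`);
* `exists_restrict_iso_of_isGen_pullback`: a trivialisation over `Spec O_{Y,y}` spreads out to `f⁻¹(U)` (flat base change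
  of sections `KBij_of_qcqs`, descent of generation `T2H9GenDesc`, properness);
* `exists_restrict_iso_structureModule`: `N|_{f⁻¹U} ≅ O` for some open `U ∋ y`.
Auxiliary: `top_le_preimage_fromSpecStalk`, `appLE_fromSpecStalk_apply`, `flat_appLE_fromSpecStalk`.
-/

set_option autoImplicit false
set_option linter.style.haveILetI false
set_option linter.unusedSectionVars false
set_option linter.unusedVariables false
universe u
open CategoryTheory AlgebraicGeometry Limits TopologicalSpace Opposite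

namespace Groth.Agent.Lib.T2H9.FibSec

open Groth.Agent.Lib.T2H9.FibQuot Groth.Agent.Lib.T2H9.FlatFib Groth.Agent.Lib.T2H9.FFGeom
  Groth.Agent.Lib.T2H9.FBCZero Groth.Agent.Lib.T2H9.FibFree
open Groth.Agent.Lib.Helper23.SecTw Groth.Agent.Lib.Helper6 Groth.Agent.Helper13PullbackUnit
  Groth.Agent.Lib.Helper27PullGen Groth.Agent.Lib.Helper23.GenNear
  Groth.Agent.Lib.Helper23.PB Groth.Agent.Lib.Helper23.GenLocus
  Groth.Agent.Helper13QcqsBC Groth.Agent.Helper13FlatMV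

section stalk2
variable {Y : Scheme.{u}}

theorem top_le_preimage_fromSpecStalk {V : Y.Opens} (y : Y) (hy : y ∈ V) :
    (⊤ : (Spec (Y.presheaf.stalk y)).Opens) ≤ (Y.fromSpecStalk y) ⁻¹ᵁ V := by
  intro s _
  have h1 : (Y.fromSpecStalk y) s ∈ Set.range (Y.fromSpecStalk y) := Set.mem_range_self s
  rw [Scheme.range_fromSpecStalk] at h1
  exact (h1 : (Y.fromSpecStalk y) s ⤳ y).mem_open V.2 hy

theorem appLE_fromSpecStalk_apply {V : Y.Opens} (y : Y) (hy : y ∈ V)
    (hle : (⊤ : (Spec (Y.presheaf.stalk y)).Opens) ≤ (Y.fromSpecStalk y) ⁻¹ᵁ V) (c : Γ(Y, V)) :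
    ((Y.fromSpecStalk y).appLE V ⊤ hle).hom c =
      (Scheme.ΓSpecIso (Y.presheaf.stalk y)).inv.hom ((Y.presheaf.germ V y hy).hom c) := by
  rw [Scheme.Hom.appLE, Scheme.fromSpecStalk_app hy]
  simp only [CommRingCat.hom_comp, RingHom.coe_comp, Function.comp_apply, Category.assoc]
  rw [← CommRingCat.comp_apply, ← Functor.map_comp]
  have : ((homOfLE (le_top : (Y.fromSpecStalk y) ⁻¹ᵁ V ≤ ⊤)).op ≫ (homOfLE hle).op) = 𝟙 _ := rfl
  rw [this, CategoryTheory.Functor.map_id]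
  rfl

theorem flat_appLE_fromSpecStalk {V : Y.Opens} (hV : IsAffineOpen V) (y : Y) (hy : y ∈ V)
    (hle : (⊤ : (Spec (Y.presheaf.stalk y)).Opens) ≤ (Y.fromSpecStalk y) ⁻¹ᵁ V) :
    ((Y.fromSpecStalk y).appLE V ⊤ hle).hom.Flat := by
  have h1 : ((Y.fromSpecStalk y).appLE V ⊤ hle).hom =
      (Scheme.ΓSpecIso (Y.presheaf.stalk y)).inv.hom.comp (Y.presheaf.germ V y hy).hom := by
    ext c
    exact appLE_fromSpecStalk_apply y hy hle c
  rw [h1]
  refine RingHom.Flat.comp ?_ ?_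
  · letI : Algebra Γ(Y, V) (Y.presheaf.stalk y) := (Y.presheaf.germ V y hy).hom.toAlgebra
    haveI : IsLocalization.AtPrime (Y.presheaf.stalk y) (hV.primeIdealOf ⟨y, hy⟩).asIdeal :=
      hV.isLocalization_stalk ⟨y, hy⟩
    exact IsLocalization.flat _ (hV.primeIdealOf ⟨y, hy⟩).asIdeal.primeCompl
  · exact RingHom.Flat.of_bijective
      (ConcreteCategory.bijective_of_isIso (Scheme.ΓSpecIso (Y.presheaf.stalk y)).inv)

end stalk2

section glob

variable {X Y : Scheme.{u}} (f : X ⟶ Y) [IsProper f] [Flat f] [IsLocallyNoetherian Y] (y : Y)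

/-- the local statement over `Spec O_{Y,y}`: an invertible module trivial on the fibre `X_y` with
`H^1(X_y, O) = 0` becomes trivial on `X ×_Y Spec O_{Y,y}`. -/
theorem exists_isGen_pullback_stalk
    (h1 : Subsingleton (Coh.HH (f.fiber y) (Coh.structureModule (f.fiber y)) 1))
    (N : X.Modules) (hN : PicF.IsInvertible N)
    (ψ₀ : CohIII.fiberMod f N y ≅ Coh.structureModule (f.fiber y)) :
    ∃ t : Γ((Scheme.Modules.pullback (pullback.fst f (Y.fromSpecStalk y))).obj N, ⊤),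
      IsGen ((Scheme.Modules.pullback (pullback.fst f (Y.fromSpecStalk y))).obj N) ⊤ t := by
  have hLN : IsLocallyNoetherian Y := inferInstance
  have hNoeth : IsNoetherianRing (Y.presheaf.stalk y) := inferInstance
  letI hO : (pullback f (Y.fromSpecStalk y)).Over (Spec (CommRingCat.of (Y.presheaf.stalk y))) :=
    ⟨pullback.snd f (Y.fromSpecStalk y)⟩
  have hsq : IsPullback (pullback.fst f (Y.fromSpecStalk y))
      ((pullback f (Y.fromSpecStalk y)) ↘ Spec (CommRingCat.of (Y.presheaf.stalk y)))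
      f (Y.fromSpecStalk y) := IsPullback.of_hasPullback f (Y.fromSpecStalk y)
  haveI : IsProper ((pullback f (Y.fromSpecStalk y)) ↘ Spec (CommRingCat.of (Y.presheaf.stalk y))) :=
    MorphismProperty.of_isPullback hsq inferInstance
  haveI : Flat ((pullback f (Y.fromSpecStalk y)) ↘ Spec (CommRingCat.of (Y.presheaf.stalk y))) :=
    MorphismProperty.of_isPullback hsq inferInstance
  have hcoh : Coh.IsCoh N := Groth.Agent.Lib.T2H6.RankAdd.isCoh_of_isFinLocFreeOfRank N 1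
    (isFinLocFreeOfRank_one_of_isInvertible N hN)
  have hN₁ : PicF.IsInvertible ((Scheme.Modules.pullback (pullback.fst f (Y.fromSpecStalk y))).obj N) :=
    isInvertible_pullback _ N hN
  have hfl₁ := Groth.Agent.Lib.T2H9.InvFlat.isFlatOver_of_isInvertible
    ((pullback f (Y.fromSpecStalk y)) ↘ Spec (CommRingCat.of (Y.presheaf.stalk y))) _ hN₁
  obtain ⟨j, hj1, hj2, hpb⟩ := exists_fibre_square f y _ _ hsq
  haveI : IsClosedImmersion (Spec.map (Y.residue y)) := inferInstance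
  haveI : IsClosedImmersion j := isClosedImmersion_of_isPullback _ _ _ _ hpb
  have hk : RingHom.ker (φT (A := Y.presheaf.stalk y) (Spec.map (Y.residue y))) =
      IsLocalRing.maximalIdeal (Y.presheaf.stalk y) := by
    rw [Groth.Agent.Lib.T2H9.FibVan.ker_φT_SpecMap]
    exact IsLocalRing.ker_residue
  have e : CohIII.fiberMod f N y ≅
      (Scheme.Modules.pullback j).obj ((Scheme.Modules.pullback (pullback.fst f (Y.fromSpecStalk y))).obj N) :=
    ((Scheme.Modules.pullbackComp j _).app N ≪≫ (Scheme.Modules.pullbackCongr hj1).app N).symm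
  have hvan0 : Subsingleton (CohIII.fiberH f N y 1) :=
    Groth.Agent.Lib.T2H5.PnStruct.subsingleton_HH_of_iso ψ₀.symm 1 h1
  have hvan := (subsingleton_fiberH_iff f N hcoh y 1 _ _ hsq).1 hvan0
  have hrange : ∀ x : ↥(pullback f (Y.fromSpecStalk y)),
      ((pullback f (Y.fromSpecStalk y)) ↘ Spec (CommRingCat.of (Y.presheaf.stalk y))) x =
        IsLocalRing.closedPoint (Y.presheaf.stalk y) → x ∈ Set.range j := by
    intro x hx
    have hz : ∃ s : ↥(Spec (Y.residueField y)), True := by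
      haveI : Nonempty ↥(Spec (Y.residueField y)) := inferInstance
      exact ⟨Classical.arbitrary _, trivial⟩
    obtain ⟨s, -⟩ := hz
    have hs : ((pullback f (Y.fromSpecStalk y)) ↘ Spec (CommRingCat.of (Y.presheaf.stalk y))) x =
        (Spec.map (Y.residue y)) s := by
      rw [hx]; exact (Scheme.SpecMap_residue_apply y s).symm
    obtain ⟨z, hz1, -⟩ := Scheme.Pullback.exists_preimage_pullback x s hs
    refine ⟨hpb.isoPullback.inv z, ?_⟩
    rw [← hz1, ← Scheme.Hom.comp_apply, hpb.isoPullback_inv_fst]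
  exact @exists_isGen_top (Y.presheaf.stalk y) _ inferInstance inferInstance
    (pullback f (Y.fromSpecStalk y)) hO inferInstance _ _ j (f.fiberToSpecResidueField y)
    (Spec.map (Y.residue y)) hpb inferInstance inferInstance _ hN₁ hfl₁ hk
    hrange (e.symm ≪≫ ψ₀) hvan


/-- spreading out a trivialisation from `X ×_Y Spec O_{Y,y}` to the preimage of a neighbourhood
of `y`. -/
theorem exists_restrict_iso_of_isGen_pullback {X₁ : Scheme.{u}} (g' : X₁ ⟶ X)
    (f' : X₁ ⟶ Spec (Y.presheaf.stalk y)) (hsq : IsPullback g' f' f (Y.fromSpecStalk y))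
    (N : X.Modules) (hN : PicF.IsInvertible N)
    (t₁ : Γ((Scheme.Modules.pullback g').obj N, ⊤))
    (ht₁ : IsGen ((Scheme.Modules.pullback g').obj N) ⊤ t₁) :
    ∃ U : Y.Opens, y ∈ U ∧
      Nonempty (N.restrict (f ⁻¹ᵁ U).ι ≅ Coh.structureModule (↑(f ⁻¹ᵁ U) : Scheme.{u})) := by
  obtain ⟨V, hV, hyV, -⟩ := exists_isAffineOpen_mem_and_subset (x := y) (U := ⊤) trivial
  have hle := top_le_preimage_fromSpecStalk y hyV
  haveI : N.IsQuasicoherent := isQuasicoherent_of_isInvertible N hN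
  have hflat := flat_appLE_fromSpecStalk hV y hyV hle
  have hK := KBij_of_qcqs f (Y.fromSpecStalk y) g' f' hsq N hle hV (isAffineOpen_top _) hflat
    (f.isQuasiSeparated_preimage hV.isQuasiSeparated) (f ⁻¹ᵁ V)
    (f.isCompact_preimage hV.isCompact) le_rfl
  letI : Algebra Γ(Y, V) Γ(Spec (Y.presheaf.stalk y), ⊤) :=
    ((Y.fromSpecStalk y).appLE V ⊤ hle).hom.toAlgebra
  have hsurj := hK.2
  have H : ∀ r' : Γ(Spec (Y.presheaf.stalk y), ⊤), ∃ s a : Γ(Y, V),
      IsUnit (algebraMap Γ(Y, V) Γ(Spec (Y.presheaf.stalk y), ⊤) s) ∧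
      r' * algebraMap Γ(Y, V) Γ(Spec (Y.presheaf.stalk y), ⊤) s =
        algebraMap Γ(Y, V) Γ(Spec (Y.presheaf.stalk y), ⊤) a :=
    fun r' => exists_frac_fromSpecStalk hV y hyV hle r'
  have hVpW : Vp g' f' ⊤ (f ⁻¹ᵁ V) ≤ g' ⁻¹ᵁ (f ⁻¹ᵁ V) := inf_le_left
  have hVpU : Vp g' f' ⊤ (f ⁻¹ᵁ V) ≤ f' ⁻¹ᵁ ⊤ := inf_le_right
  obtain ⟨s, m, hsu, hsm⟩ := exists_unit_smul_eq
    (R := Γ(Y, V)) (R' := Γ(Spec (Y.presheaf.stalk y), ⊤))
    (A := SecR f N V (f ⁻¹ᵁ V) le_rfl) (B := SecR f' ((Scheme.Modules.pullback g').obj N) ⊤ (Vp g' f' ⊤ (f ⁻¹ᵁ V)) hVpU)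
    (uW f g' f' N le_rfl hVpW hVpU) (uW_smul f (Y.fromSpecStalk y) g' f' hsq N hle le_rfl hVpW hVpU)
    hsurj H (res ((Scheme.Modules.pullback g').obj N) le_top t₁)
  -- `unitSec m` generates `((Scheme.Modules.pullback g').obj N)` on `Vp`
  have hgen₁ : IsGen ((Scheme.Modules.pullback g').obj N) (Vp g' f' ⊤ (f ⁻¹ᵁ V)) (unitSec g' N hVpW m) := by
    have h2 : IsGen ((Scheme.Modules.pullback g').obj N) (Vp g' f' ⊤ (f ⁻¹ᵁ V)) (res ((Scheme.Modules.pullback g').obj N) le_top t₁) := ht₁.mono le_top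
    have h3 := Groth.Agent.Lib.Helper20.UFDPic.isGen_unit_smul h2
      (f'.appLE ⊤ (Vp g' f' ⊤ (f ⁻¹ᵁ V)) hVpU
        (algebraMap Γ(Y, V) Γ(Spec (Y.presheaf.stalk y), ⊤) s)) (hsu.map _)
    have h4 : (f'.appLE ⊤ (Vp g' f' ⊤ (f ⁻¹ᵁ V)) hVpU
        (algebraMap Γ(Y, V) Γ(Spec (Y.presheaf.stalk y), ⊤) s)) • res ((Scheme.Modules.pullback g').obj N) le_top t₁ =
        unitSec g' N hVpW m := hsm
    rw [h4] at h3
    exact h3
  -- the generating locus of `m` contains the fibre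
  have hfib : ∀ x : X, f x = y → IsGenNear N (f ⁻¹ᵁ V) m x := by
    intro x hx
    have hx' : f x = (Y.fromSpecStalk y) (IsLocalRing.closedPoint (Y.presheaf.stalk y)) := by
      rw [Scheme.fromSpecStalk_closedPoint]; exact hx
    obtain ⟨z₁, hz₁, -⟩ := Scheme.Pullback.exists_preimage_pullback x _ hx'
    obtain ⟨x₁, hx₁⟩ : ∃ x₁ : X₁, g' x₁ = x := by
      refine ⟨hsq.isoPullback.inv z₁, ?_⟩
      rw [← hz₁, ← Scheme.Hom.comp_apply, hsq.isoPullback_inv_fst]
    have hmem : x₁ ∈ Vp g' f' ⊤ (f ⁻¹ᵁ V) := by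
      refine ⟨?_, trivial⟩
      change f (g' x₁) ∈ V
      rw [hx₁, hx]; exact hyV
    have := Groth.Agent.Lib.T2H9.GenDesc.isGenNear_of_isGenNear_unitSec g' N hN hVpW m x₁
      ⟨_, le_rfl, hmem, by rw [Groth.Agent.Lib.Helper23.SecTw.res_self]; exact hgen₁⟩
    rw [hx₁] at this
    exact this
  obtain ⟨U₀, hyU₀, hU₀⟩ := exists_opens_preimage_subset f f.isClosedMap y _
    (isOpen_setOf_isGenNear N (f ⁻¹ᵁ V) m) hfib
  refine ⟨U₀ ⊓ V, ⟨hyU₀, hyV⟩, ?_⟩
  have hUV : f ⁻¹ᵁ (U₀ ⊓ V) ≤ f ⁻¹ᵁ V := f.preimage_mono inf_le_right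
  refine nonempty_restrict_iso_of_isGen N (f ⁻¹ᵁ (U₀ ⊓ V)) (res N hUV m) ?_
  refine Groth.Agent.Lib.Helper20.UFDPic.isGen_of_local N _ _ ?_
  intro x hx
  obtain ⟨W, hW, hxW, hg⟩ := hU₀ x hx.1
  refine ⟨W ⊓ f ⁻¹ᵁ (U₀ ⊓ V), inf_le_right, ⟨hxW, hx⟩, ?_⟩
  have := hg.mono (inf_le_left : W ⊓ f ⁻¹ᵁ (U₀ ⊓ V) ≤ W)
  rw [res_res] at this ⊢
  exact this


/-- **Triviality near a fibre.**  `f` proper flat, `Y` locally Noetherian, `H^1(X_y, O) = 0`, `N`
invertible and trivial on `X_y`: then `N` is trivial over `f⁻¹(U)` for a neighbourhood `U` of `y`. -/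
theorem exists_restrict_iso_structureModule
    (h1 : Subsingleton (Coh.HH (f.fiber y) (Coh.structureModule (f.fiber y)) 1))
    (N : X.Modules) (hN : PicF.IsInvertible N)
    (ψ₀ : CohIII.fiberMod f N y ≅ Coh.structureModule (f.fiber y)) :
    ∃ U : Y.Opens, y ∈ U ∧
      Nonempty (N.restrict (f ⁻¹ᵁ U).ι ≅ Coh.structureModule (↑(f ⁻¹ᵁ U) : Scheme.{u})) := by
  obtain ⟨t₁, ht₁⟩ := exists_isGen_pullback_stalk f y h1 N hN ψ₀
  exact exists_restrict_iso_of_isGen_pullback f y _ _ (IsPullback.of_hasPullback _ _) N hN t₁ ht₁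

end glob

end Groth.Agent.Lib.T2H9.FibSec
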