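import Groth.Agent.Lib.T2H9ConnBC
import Groth.Agent.S2363

/-!
# Zariski's connectedness theorem: geometric connectedness of the fibres (helper9)

`connectedSpace_pullback`: `f : X ⟶ Y` proper, `Y` locally Noetherian, `x : Spec K ⟶ Y` a field-valued point
with an affine neighbourhood `V` of its image such that `O_Y(V) → O_X(f⁻¹V)` is an isomorphism; then
`X ×_Y Spec K` is connected.  Uses S2363 (a Noetherian local flat `O_{Y,y}`-algebra with residue field `K`).
-/

set_option autoImplicit false
set_option linter.style.haveILetI false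
set_option linter.unusedSectionVars false
set_option linter.unusedVariables false
universe u
open CategoryTheory AlgebraicGeometry Limits TopologicalSpace Opposite

namespace Groth.Agent.Lib.T2H9.ConnGeom

theorem flat_fromSpecStalk (Y : Scheme.{u}) (y : Y) : Flat (Y.fromSpecStalk y) := by
  obtain ⟨_, ⟨U, hU, rfl⟩, hyU, -⟩ := Y.isBasis_affineOpens.exists_subset_of_mem_open
    (Set.mem_univ y) isOpen_univ
  rw [← hU.fromSpecStalk_eq_fromSpecStalk hyU]
  delta IsAffineOpen.fromSpecStalk
  have : IsOpenImmersion hU.fromSpec := hU.isOpenImmersion_fromSpec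
  have : Flat (Spec.map (Y.presheaf.germ U y hyU)) := by
    rw [HasRingHomProperty.Spec_iff (P := @Flat)]
    let _ := Y.presheaf.algebra_section_stalk ⟨y, hyU⟩
    have := hU.isLocalization_stalk ⟨y, hyU⟩
    have : Module.Flat Γ(Y, U) (Y.presheaf.stalk y) :=
      IsLocalization.flat _ (hU.primeIdealOf ⟨y, hyU⟩).asIdeal.primeCompl
    exact (RingHom.flat_algebraMap_iff).mpr this
  infer_instance

section geom

variable {X Y : Scheme.{u}} (f : X ⟶ Y) [IsProper f] [IsLocallyNoetherian Y]

theorem connectedSpace_pullback (K : Type u) [Field K] (x : Spec (CommRingCat.of K) ⟶ Y)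
    (V : Y.Opens) (hV : IsAffineOpen V) (hxV : ∀ s, x.base s ∈ V) (hf : IsIso (f.app V)) :
    ConnectedSpace ↥(pullback f x) := by
  obtain ⟨⟨y, φ⟩, hxe⟩ := (Scheme.SpecToEquivOfField K Y).symm.surjective x
  have hxe' : x = Spec.map φ ≫ Y.fromSpecResidueField y := hxe.symm
  letI : Algebra (IsLocalRing.ResidueField (Y.presheaf.stalk y)) K := φ.hom.toAlgebra
  obtain ⟨R', _, _, hN, hL, hloc, hfl, e, he⟩ :=
    Groth.Agent.S2363.result (A := Y.presheaf.stalk y) K
  let ψ : R' →+* K := e.toRingHom.comp (Ideal.Quotient.mk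
    ((IsLocalRing.maximalIdeal (Y.presheaf.stalk y)).map (algebraMap (Y.presheaf.stalk y) R')))
  have hψ : Function.Surjective ψ := e.surjective.comp Ideal.Quotient.mk_surjective
  let q : Spec (CommRingCat.of K) ⟶ Spec (CommRingCat.of R') := Spec.map (CommRingCat.ofHom ψ)
  let a : Spec (CommRingCat.of R') ⟶ Spec (Y.presheaf.stalk y) :=
    Spec.map (CommRingCat.ofHom (algebraMap (Y.presheaf.stalk y) R'))
  let g : Spec (CommRingCat.of R') ⟶ Y := a ≫ Y.fromSpecStalk y
  have hx : x = q ≫ g := by
    refine hxe'.trans ?_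
    unfold Scheme.fromSpecResidueField
    change _ = Spec.map (CommRingCat.ofHom ψ) ≫
      Spec.map (CommRingCat.ofHom (algebraMap (Y.presheaf.stalk y) R')) ≫ Y.fromSpecStalk y
    rw [← Category.assoc, ← Category.assoc, ← Spec.map_comp, ← Spec.map_comp]
    congr 2
    ext r
    exact (he r).symm
  haveI : Flat a := Flat.SpecMap_iff.2 (RingHom.flat_algebraMap_iff.2 hfl)
  haveI := flat_fromSpecStalk Y y
  haveI : Flat g := inferInstanceAs (Flat (a ≫ Y.fromSpecStalk y))
  have hq : ∀ s, q.base s = IsLocalRing.closedPoint R' := by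
    intro s
    apply PrimeSpectrum.ext
    change Ideal.comap ψ s.asIdeal = IsLocalRing.maximalIdeal R'
    haveI : s.asIdeal.IsMaximal := by
      have : s.asIdeal = ⊥ := Ideal.eq_bot_of_prime s.asIdeal
      rw [this]
      exact Ideal.bot_isMaximal
    exact IsLocalRing.eq_maximalIdeal (Ideal.comap_isMaximal_of_surjective ψ hψ)
  have hy : g.base (IsLocalRing.closedPoint R') ∈ V := by
    have h1 := hxV (IsLocalRing.closedPoint K)
    rw [hx] at h1
    rw [← hq (IsLocalRing.closedPoint K)]
    exact h1
  clear hxe hxe' hxV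
  subst hx
  have hc := Groth.Agent.Lib.T2H9.ConnBC.isConnected_closedFibre_pullback f R' g V hV hy hf
  rw [← (pullbackLeftPullbackSndIso f g q).hom.homeomorph.connectedSpace_iff]
  haveI : IsClosedImmersion q := IsClosedImmersion.spec_of_surjective _ hψ
  have hr : Set.range (pullback.fst (pullback.snd f g) q).base =
      (pullback.snd f g).base ⁻¹' {IsLocalRing.closedPoint R'} := by
    rw [Scheme.Pullback.range_fst]
    congr 1
    ext z
    constructor
    · rintro ⟨s, rfl⟩
      exact hq s
    · intro hz
      exact ⟨IsLocalRing.closedPoint K, (hq _).trans hz.symm⟩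
  rw [((pullback.fst (pullback.snd f g) q).isEmbedding.toHomeomorph).connectedSpace_iff,
    ← isConnected_iff_connectedSpace, hr]
  exact hc

end geom

end Groth.Agent.Lib.T2H9.ConnGeom
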