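import Groth.Agent.Lib.T2H9SteinNormal
import Groth.Agent.Lib.T2H9ConnGeom

/-!
# `f_* O_X = O_Y` near a normal point (helper9)

For a proper dominant morphism `f : X → Y` of locally Noetherian integral schemes with `R(Y)`
algebraically closed in `R(X)` and a normal point `y ∈ Y`, there is an affine open neighbourhood
`U` of `y` with `O_Y(V) ≅ O_X(f⁻¹V)` for all `V ⊆ U` (`exists_nhd_isIso`).  Also: localisation of
`f.app U` at basic opens (`app_basicOpen_bijective`) and `isIso_app_of_le`.
-/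

set_option autoImplicit false
set_option linter.style.haveILetI false
set_option linter.unusedSectionVars false
set_option linter.unusedVariables false
universe u
open CategoryTheory AlgebraicGeometry Limits TopologicalSpace Opposite

namespace Groth.Agent.Lib.T2H9.NormalPt

variable {X Y : Scheme.{u}}

section loc

theorem exists_eq_pow_mul' {V W : X.Opens} (hc : IsCompact V.1) (hq : IsQuasiSeparated V.1)
    (s : Γ(X, V)) (hW : W = X.basicOpen s) (hWV : W ≤ V) (z : Γ(X, W)) :
    ∃ (n : ℕ) (y : Γ(X, V)), X.presheaf.map (homOfLE hWV).op y =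
      (X.presheaf.map (homOfLE hWV).op s) ^ n * z := by
  subst hW
  exact exists_eq_pow_mul_of_isCompact_of_isQuasiSeparated X V hc hq s z

theorem exists_pow_mul_eq_zero' {V W : X.Opens} (hc : IsCompact V.1) (hq : IsQuasiSeparated V.1)
    (s x : Γ(X, V)) (hW : W = X.basicOpen s) (hWV : W ≤ V)
    (hx : X.presheaf.map (homOfLE hWV).op x = 0) : ∃ n : ℕ, s ^ n * x = 0 := by
  subst hW
  exact exists_of_res_zero_of_qcqs hc hq hx

/-- if `f` is qcqs and `O_Y(U) → O_X(f⁻¹U)` is bijective for an affine open `U`, the same holds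
for the basic opens of `U`. -/
theorem app_basicOpen_bijective (f : X ⟶ Y) [QuasiCompact f] [QuasiSeparated f]
    (U : Y.Opens) (hU : IsAffineOpen U) (hf : Function.Bijective (f.app U).hom) (g : Γ(Y, U)) :
    Function.Bijective (f.app (Y.basicOpen g)).hom := by
  have hc : IsCompact (f ⁻¹ᵁ U).1 := f.isCompact_preimage hU.isCompact
  have hq : IsQuasiSeparated (f ⁻¹ᵁ U).1 := f.isQuasiSeparated_preimage hU.isQuasiSeparated
  have hpre : f ⁻¹ᵁ Y.basicOpen g = X.basicOpen (f.app U g) := Scheme.preimage_basicOpen f g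
  have hle : Y.basicOpen g ≤ U := Y.basicOpen_le g
  have hle' : f ⁻¹ᵁ Y.basicOpen g ≤ f ⁻¹ᵁ U := f.preimage_mono hle
  -- naturality
  have hnat : ∀ a : Γ(Y, U), f.app (Y.basicOpen g) (Y.presheaf.map (homOfLE hle).op a) =
      X.presheaf.map (homOfLE hle').op (f.app U a) := fun a =>
    ConcreteCategory.congr_hom (f.naturality (homOfLE hle).op) a
  have hunit : IsUnit (Y.presheaf.map (homOfLE hle).op g) :=
    RingedSpace.isUnit_res_basicOpen _ g
  haveI := hU.isLocalization_basicOpen g
  constructor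
  · rw [injective_iff_map_eq_zero]
    intro a' ha'
    obtain ⟨⟨a, ⟨_, n, rfl⟩⟩, ha⟩ := IsLocalization.surj (Submonoid.powers g) a'
    simp only [RingHom.algebraMap_toAlgebra, map_pow] at ha
    have ha2 : a' * (Y.presheaf.map (homOfLE hle).op g) ^ n = Y.presheaf.map (homOfLE hle).op a := ha
    have h1 : X.presheaf.map (homOfLE hle').op (f.app U a) = 0 := by
      rw [← hnat, ← ha2]
      change (f.app (Y.basicOpen g)).hom _ = 0
      rw [map_mul, ha', zero_mul]
    obtain ⟨m, hm⟩ := exists_pow_mul_eq_zero' hc hq (f.app U g) (f.app U a) hpre hle' h1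
    have h2 : g ^ m * a = 0 := by
      apply hf.1
      rw [map_mul, map_pow, map_zero]
      exact hm
    have h3 : (Y.presheaf.map (homOfLE hle).op g) ^ m * Y.presheaf.map (homOfLE hle).op a = 0 := by
      have := congrArg (Y.presheaf.map (homOfLE hle).op).hom h2
      rw [map_mul, map_pow, map_zero] at this
      exact this
    have h4 : Y.presheaf.map (homOfLE hle).op a = 0 := (hunit.pow m).mul_right_eq_zero.mp h3
    rw [h4] at ha2
    exact (hunit.pow n).mul_left_eq_zero.mp ha2
  · intro b'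
    obtain ⟨n, b, hb⟩ := exists_eq_pow_mul' hc hq (f.app U g) hpre hle' b'
    obtain ⟨a, rfl⟩ := hf.2 b
    obtain ⟨u, hu⟩ := hunit
    refine ⟨Y.presheaf.map (homOfLE hle).op a * ((u⁻¹ : _ˣ) : Γ(Y, Y.basicOpen g)) ^ n, ?_⟩
    have e1 := hnat a
    have e2 := hnat g
    change (f.app (Y.basicOpen g)).hom _ = _
    rw [map_mul, map_pow]
    change (f.app (Y.basicOpen g)) _ * _ = _
    rw [e1]
    change X.presheaf.map (homOfLE hle').op ((f.app U).hom a) * _ = _
    rw [hb, ← e2, ← hu]
    change (f.app (Y.basicOpen g)).hom _ ^ n * _ * _ = _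
    rw [mul_comm _ b', mul_assoc, ← mul_pow, ← map_mul]
    simp
  
end loc

end Groth.Agent.Lib.T2H9.NormalPt

namespace Groth.Agent.Lib.T2H9.NormalPt
variable {X Y : Scheme.{u}}

theorem isIso_app_of_eq (f : X ⟶ Y) {V V' : Y.Opens} (h : V = V') (hV : IsIso (f.app V)) :
    IsIso (f.app V') := by subst h; exact hV

/-- if `f` is qcqs and `O_Y(U) → O_X(f⁻¹U)` is an isomorphism for an affine open `U`, the same holds
for all opens contained in `U`. -/
theorem isIso_app_of_le (f : X ⟶ Y) [QuasiCompact f] [QuasiSeparated f]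
    (U : Y.Opens) (hU : IsAffineOpen U) (hf : IsIso (f.app U)) (V : Y.Opens) (hV : V ≤ U) :
    IsIso (f.app V) := by
  haveI : IsAffine U.toScheme := hU
  have hbij : Function.Bijective (f.app U).hom :=
    (ConcreteCategory.isIso_iff_bijective (f.app U)).mp hf
  let f' := f ∣_ U
  let φ : U.toScheme.sheaf ⟶ (TopCat.Sheaf.pushforward CommRingCat f'.base).obj
      (f ⁻¹ᵁ U).toScheme.sheaf := ⟨f'.c⟩
  have hφ : IsIso φ := by
    apply TopCat.Sheaf.isIso_iff_isIso_basis
      (B := (U.toScheme.basicOpen : Γ(U.toScheme, ⊤) → U.toScheme.Opens))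
      (isBasis_basicOpen U.toScheme)
    intro r
    change IsIso (f'.app (U.toScheme.basicOpen r))
    rw [morphismRestrict_app]
    have hh : IsIso (f.app (U.ι ''ᵁ U.toScheme.basicOpen r)) := by
      rw [Scheme.Opens.ι_image_basicOpen']
      rw [ConcreteCategory.isIso_iff_bijective]
      exact app_basicOpen_bijective f U hU hbij _
    have hh2 : IsIso (X.presheaf.map (eqToHom
      (image_morphismRestrict_preimage f U (U.toScheme.basicOpen r))).op) := inferInstance
    exact @IsIso.comp_isIso _ _ _ _ _ _ _ hh hh2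
  haveI := hφ
  haveI : IsIso ((sheafToPresheaf _ _).map φ) := Functor.map_isIso _ φ
  have h1 : IsIso (f'.app (U.ι ⁻¹ᵁ V)) :=
    NatIso.isIso_app_of_isIso ((sheafToPresheaf _ _).map φ) (op (U.ι ⁻¹ᵁ V))
  rw [morphismRestrict_app] at h1
  have h2 : IsIso (f.app (U.ι ''ᵁ U.ι ⁻¹ᵁ V)) := by
    exact @IsIso.of_isIso_comp_right _ _ _ _ _ _ (X.presheaf.map (eqToHom
      (image_morphismRestrict_preimage f U (U.ι ⁻¹ᵁ V))).op) inferInstance h1
  refine isIso_app_of_eq f ?_ h2
  rw [Scheme.Hom.image_preimage_eq_opensRange_inf, Scheme.Opens.opensRange_ι]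
  exact inf_eq_right.mpr hV

end Groth.Agent.Lib.T2H9.NormalPt

namespace Groth.Agent.Lib.T2H9.NormalPt
variable {X Y : Scheme.{u}} [IsIntegral X] [IsIntegral Y] (f : X ⟶ Y)
  (hdom : f.base (genericPoint X) ⤳ genericPoint Y)

open SteinNormal

include hdom in
theorem app_injective (V : Y.Opens) [hne : Nonempty V] : Function.Injective (f.app V).hom := by
  haveI := nonempty_preimage f hdom V
  set ι := CohIII.stalkToFunctionField f (genericPoint Y) hdom with hι'
  have hι : Function.Injective ι := ι.injective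
  have hgY := Y.germToFunctionField_injective V
  intro r r' h
  apply hgY
  apply hι
  have e1 := germ_app f hdom V r
  have e2 := germ_app f hdom V r'
  rw [← hι'] at e1 e2
  rw [← e1, ← e2]
  exact congrArg _ h

variable [IsLocallyNoetherian Y] [IsProper f]

/-- Step A: denominators at a normal point. -/
theorem exists_denominator
    (halg : ∀ x : X.functionField,
      (∃ p : Polynomial Y.functionField, p ≠ 0 ∧
        Polynomial.eval₂ (CohIII.stalkToFunctionField f (genericPoint Y) hdom) x p = 0) →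
      x ∈ Set.range (CohIII.stalkToFunctionField f (genericPoint Y) hdom))
    (y : Y) (hy : IsIntegrallyClosed (Y.presheaf.stalk y))
    (V : Y.Opens) (hV : IsAffineOpen V) (hyV : y ∈ V) (b : Γ(X, f ⁻¹ᵁ V)) :
    ∃ s a : Γ(Y, V), y ∈ Y.basicOpen s ∧ f.app V s * b = f.app V a := by
  haveI hne : Nonempty V := ⟨⟨y, hyV⟩⟩
  haveI := nonempty_preimage f hdom V
  set ι := CohIII.stalkToFunctionField f (genericPoint Y) hdom with hι'
  have hι : Function.Injective ι := ι.injective
  have hgX := X.germToFunctionField_injective (f ⁻¹ᵁ V)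
  have hcomp : ι.comp (Y.germToFunctionField V).hom =
      (X.germToFunctionField (f ⁻¹ᵁ V)).hom.comp (f.app V).hom :=
    RingHom.ext fun r => (germ_app f hdom V r).symm
  letI := (f.app V).hom.toAlgebra
  haveI : Module.Finite Γ(Y, V) Γ(X, f ⁻¹ᵁ V) :=
    Groth.Agent.Lib.T2H9.SteinFinite.finite_sections_of_isProper f V hV
  have hint : IsIntegral Γ(Y, V) b := Algebra.IsIntegral.isIntegral b
  obtain ⟨P, hP, hPs⟩ := hint
  have hPs' : Polynomial.eval₂ (f.app V).hom b P = 0 := hPs
  have h1 : Polynomial.eval₂ ι ((X.germToFunctionField (f ⁻¹ᵁ V)).hom b)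
      (P.map (Y.germToFunctionField V).hom) = 0 := by
    rw [Polynomial.eval₂_map, hcomp, ← Polynomial.hom_eval₂, hPs', map_zero]
  obtain ⟨t, ht⟩ := halg _ ⟨P.map (Y.germToFunctionField V).hom, (hP.map _).ne_zero, h1⟩
  have h2 : Polynomial.eval₂ (Y.germToFunctionField V).hom t P = 0 := by
    apply hι
    rw [map_zero, Polynomial.hom_eval₂, ht, ← Polynomial.eval₂_map]
    exact h1
  -- `t` is integral over the local ring at `y`
  have hcomp2 : (algebraMap (Y.presheaf.stalk y) Y.functionField).comp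
      (Y.presheaf.germ V y hyV).hom = (Y.germToFunctionField V).hom :=
    RingHom.ext fun r => Scheme.algebraMap_germ_eq_germToFunctionField Y hyV r
  have hint' : IsIntegral (Y.presheaf.stalk y) t := by
    refine ⟨P.map (Y.presheaf.germ V y hyV).hom, hP.map _, ?_⟩
    rw [Polynomial.eval₂_map, hcomp2]
    exact h2
  haveI := hy
  obtain ⟨t', ht'⟩ := IsIntegrallyClosed.algebraMap_eq_of_integral hint'
  letI := TopCat.Presheaf.algebra_section_stalk Y.presheaf (⟨y, hyV⟩ : V)
  haveI := hV.isLocalization_stalk ⟨y, hyV⟩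
  obtain ⟨⟨a, s⟩, hs⟩ := IsLocalization.surj (hV.primeIdealOf ⟨y, hyV⟩).asIdeal.primeCompl t'
  have hsu : IsUnit (Y.presheaf.germ V y hyV s.1) :=
    IsLocalization.map_units (Y.presheaf.stalk y) s
  refine ⟨s.1, a, (Y.mem_basicOpen s.1 y hyV).mpr hsu, ?_⟩
  have hs' : t' * Y.presheaf.germ V y hyV s.1 = Y.presheaf.germ V y hyV a := hs
  have hs2 : t * Y.germToFunctionField V s.1 = Y.germToFunctionField V a := by
    have := congrArg (algebraMap (Y.presheaf.stalk y) Y.functionField) hs'
    rw [map_mul, ht', Scheme.algebraMap_germ_eq_germToFunctionField,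
      Scheme.algebraMap_germ_eq_germToFunctionField] at this
    exact this
  apply hgX
  have e1 := germ_app f hdom V s.1
  have e2 := germ_app f hdom V a
  rw [← hι'] at e1 e2
  change (X.germToFunctionField (f ⁻¹ᵁ V)).hom _ = _
  rw [map_mul]
  change X.germToFunctionField (f ⁻¹ᵁ V) (f.app V s.1) * _ = X.germToFunctionField (f ⁻¹ᵁ V) (f.app V a)
  rw [e1, e2, ← hs2, map_mul, ht, mul_comm]

/-- Step B: a common denominator for a finitely generated submodule. -/
theorem exists_common_denominator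
    (halg : ∀ x : X.functionField,
      (∃ p : Polynomial Y.functionField, p ≠ 0 ∧
        Polynomial.eval₂ (CohIII.stalkToFunctionField f (genericPoint Y) hdom) x p = 0) →
      x ∈ Set.range (CohIII.stalkToFunctionField f (genericPoint Y) hdom))
    (y : Y) (hy : IsIntegrallyClosed (Y.presheaf.stalk y))
    (V : Y.Opens) (hV : IsAffineOpen V) (hyV : y ∈ V) :
    ∃ s : Γ(Y, V), y ∈ Y.basicOpen s ∧ ∀ b : Γ(X, f ⁻¹ᵁ V), ∃ a : Γ(Y, V),
      f.app V s * b = f.app V a := by
  letI := (f.app V).hom.toAlgebra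
  haveI : Module.Finite Γ(Y, V) Γ(X, f ⁻¹ᵁ V) :=
    Groth.Agent.Lib.T2H9.SteinFinite.finite_sections_of_isProper f V hV
  have key : ∀ S : Finset Γ(X, f ⁻¹ᵁ V), ∃ s : Γ(Y, V), y ∈ Y.basicOpen s ∧
      ∀ b ∈ Submodule.span Γ(Y, V) (S : Set Γ(X, f ⁻¹ᵁ V)), ∃ a : Γ(Y, V),
        f.app V s * b = f.app V a := by
    classical
    intro S
    induction S using Finset.induction_on with
    | empty =>
      refine ⟨1, by rw [Scheme.basicOpen_of_isUnit _ isUnit_one]; exact hyV, fun b hb => ⟨0, ?_⟩⟩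
      simp only [Finset.coe_empty, Submodule.span_empty, Submodule.mem_bot] at hb
      rw [hb, mul_zero]
      exact (map_zero (f.app V).hom).symm
    | insert b₀ S _ ih =>
      obtain ⟨s₁, hs₁, h₁⟩ := ih
      obtain ⟨s₀, a₀, hs₀, h₀⟩ := exists_denominator f hdom halg y hy V hV hyV b₀
      refine ⟨s₀ * s₁, ?_, fun b hb => ?_⟩
      · rw [Scheme.basicOpen_mul]; exact ⟨hs₀, hs₁⟩
      · rw [Finset.coe_insert, Submodule.mem_span_insert] at hb
        obtain ⟨c, b', hb', rfl⟩ := hb
        obtain ⟨a', ha'⟩ := h₁ b' hb'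
        refine ⟨c * s₁ * a₀ + s₀ * a', ?_⟩
        have hc : c • b₀ = f.app V c * b₀ := rfl
        change (f.app V).hom _ * _ = (f.app V).hom _
        rw [map_add, map_mul, map_mul, map_mul, map_mul, hc]
        change (f.app V s₀ * f.app V s₁) * (f.app V c * b₀ + b') =
          f.app V c * f.app V s₁ * f.app V a₀ + f.app V s₀ * f.app V a'
        rw [← h₀, ← ha']
        ring
  obtain ⟨S, hS⟩ := (Module.Finite.fg_top : (⊤ : Submodule Γ(Y, V) Γ(X, f ⁻¹ᵁ V)).FG)
  obtain ⟨s, hs, h⟩ := key S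
  exact ⟨s, hs, fun b => h b (hS ▸ Submodule.mem_top)⟩

/-- Step C: `O_Y(U) → O_X(f⁻¹U)` is bijective for a suitable affine neighbourhood `U` of a normal
point. -/
theorem exists_affine_nhd_bijective
    (halg : ∀ x : X.functionField,
      (∃ p : Polynomial Y.functionField, p ≠ 0 ∧
        Polynomial.eval₂ (CohIII.stalkToFunctionField f (genericPoint Y) hdom) x p = 0) →
      x ∈ Set.range (CohIII.stalkToFunctionField f (genericPoint Y) hdom))
    (y : Y) (hy : IsIntegrallyClosed (Y.presheaf.stalk y)) :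
    ∃ U : Y.Opens, IsAffineOpen U ∧ y ∈ U ∧ Function.Bijective (f.app U).hom := by
  obtain ⟨V, hV, hyV, -⟩ := exists_isAffineOpen_mem_and_subset (x := y) (U := ⊤) (by trivial)
  obtain ⟨s, hys, hs⟩ := exists_common_denominator f hdom halg y hy V hV hyV
  refine ⟨Y.basicOpen s, hV.basicOpen s, hys, ?_⟩
  haveI : Nonempty (Y.basicOpen s) := ⟨⟨y, hys⟩⟩
  refine ⟨app_injective f hdom _, ?_⟩
  have hc : IsCompact (f ⁻¹ᵁ V).1 := f.isCompact_preimage hV.isCompact
  have hq : IsQuasiSeparated (f ⁻¹ᵁ V).1 := f.isQuasiSeparated_preimage hV.isQuasiSeparated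
  have hpre : f ⁻¹ᵁ Y.basicOpen s = X.basicOpen (f.app V s) := Scheme.preimage_basicOpen f s
  have hle : Y.basicOpen s ≤ V := Y.basicOpen_le s
  have hle' : f ⁻¹ᵁ Y.basicOpen s ≤ f ⁻¹ᵁ V := f.preimage_mono hle
  have hnat : ∀ a : Γ(Y, V), f.app (Y.basicOpen s) (Y.presheaf.map (homOfLE hle).op a) =
      X.presheaf.map (homOfLE hle').op (f.app V a) := fun a =>
    ConcreteCategory.congr_hom (f.naturality (homOfLE hle).op) a
  have hunit : IsUnit (Y.presheaf.map (homOfLE hle).op s) :=
    RingedSpace.isUnit_res_basicOpen _ s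
  intro b'
  obtain ⟨n, b, hb⟩ := exists_eq_pow_mul' hc hq (f.app V s) hpre hle' b'
  obtain ⟨a, ha⟩ := hs b
  obtain ⟨u, hu⟩ := hunit
  refine ⟨Y.presheaf.map (homOfLE hle).op a * ((u⁻¹ : _ˣ) : Γ(Y, Y.basicOpen s)) ^ (n + 1), ?_⟩
  have e1 := hnat a
  have e2 := hnat s
  have e3 : X.presheaf.map (homOfLE hle').op (f.app V a) =
      (X.presheaf.map (homOfLE hle').op (f.app V s)) ^ (n + 1) * b' := by
    rw [← ha]
    change (X.presheaf.map (homOfLE hle').op).hom _ = _
    rw [map_mul]
    change _ * X.presheaf.map (homOfLE hle').op b = _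
    rw [hb, pow_succ]
    ring
  change (f.app (Y.basicOpen s)).hom _ = _
  rw [map_mul, map_pow]
  change (f.app (Y.basicOpen s)) _ * _ = _
  rw [e1, e3, ← e2, ← hu]
  change (f.app (Y.basicOpen s)).hom _ ^ (n + 1) * _ * _ = _
  rw [mul_comm _ b', mul_assoc, ← mul_pow, ← map_mul]
  simp

/-- S4480, second half. -/
theorem exists_nhd_isIso
    (halg : ∀ x : X.functionField,
      (∃ p : Polynomial Y.functionField, p ≠ 0 ∧
        Polynomial.eval₂ (CohIII.stalkToFunctionField f (genericPoint Y) hdom) x p = 0) →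
      x ∈ Set.range (CohIII.stalkToFunctionField f (genericPoint Y) hdom))
    (y : Y) (hy : IsIntegrallyClosed (Y.presheaf.stalk y)) :
    ∃ U : Y.Opens, IsAffineOpen U ∧ y ∈ U ∧ ∀ V : Y.Opens, V ≤ U → IsIso (f.app V) := by
  obtain ⟨U, hU, hyU, hbij⟩ := exists_affine_nhd_bijective f hdom halg y hy
  have hiso : IsIso (f.app U) := (ConcreteCategory.isIso_iff_bijective (f.app U)).mpr hbij
  exact ⟨U, hU, hyU, fun V hV => isIso_app_of_le f U hU hiso V hV⟩

end Groth.Agent.Lib.T2H9.NormalPt
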