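import Groth.Agent.Lib.T2H9H0Triv
import Groth.Agent.Lib.T2H9FlatFib5
import Groth.Agent.Lib.T2H9FibSec2
import Groth.Agent.Lib.T2H9NormalPt

/-!
# T2H9FibField (helper9): `f_* O_X = O_Y` near a point whose fibre has only constant functions

`f : X ⟶ Y` proper and flat, `Y` locally Noetherian, `y ∈ Y` with `κ(y) → Γ(X_y, O_{X_y})` bijective.  Then
`O_Y(V) → O_X(f⁻¹V)` is an isomorphism for all `V` in a neighbourhood of `y` (`exists_isIso_app`).  Steps:
* `nonempty_linearEquiv_residueField`: `H^0(X₁, O/𝔪O) ≃ κ(y)` for `X₁ = X ×_Y Spec O_{Y,y}`;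
* `T2H9H0Triv.bijective_toGlobal_of_linearEquiv`: hence `O_{Y,y} → Γ(X₁, O)` is bijective;
* `exists_isIso_app_of_bijective_toGlobal`: spreading out, by flat base change of sections (`KBij_of_qcqs`), finiteness
  of `Γ(X, f⁻¹V)` over `Γ(Y, V)`, a common denominator (`exists_common_mul`) and localisation
  (`app_basicOpen_bijective_of_mul`, `NormalPt.isIso_app_of_le`).
Auxiliary: `pullbackUnitHom_app_unitSec` (the unit isomorphism `f^*O ≅ O` on sections), `exists_smul_eq_zero_of_tmul_eq_zero`,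
`appLE_toGlobal`, `isLocalization_ΓSpec_stalk`.
-/

set_option autoImplicit false
set_option linter.style.haveILetI false
set_option linter.unusedSectionVars false
set_option linter.unusedVariables false
universe u
open CategoryTheory AlgebraicGeometry Limits TopologicalSpace Opposite TensorProduct

namespace Groth.Agent.Lib.T2H9.FibField

open Groth.Agent.Lib.T2H9.FibQuot Groth.Agent.Lib.T2H9.FlatFib Groth.Agent.Lib.T2H9.FFGeom
  Groth.Agent.Lib.T2H9.FBCZero Groth.Agent.Lib.T2H9.FibFree Groth.Agent.Lib.T2H9.H0Unit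
  Groth.Agent.Lib.T2H9.FibSec Groth.Agent.Lib.T2H9.NormalPt
open Groth.Agent.Lib.Helper23.SecTw Groth.Agent.Lib.Helper6 Groth.Agent.Lib.Helper23.GenLocus
  Groth.Agent.Lib.Helper23.PB Groth.Agent.Helper13PullbackUnit
  Groth.Agent.Helper13QcqsBC Groth.Agent.Helper13FlatMV

section alg

/-- common denominators: pointwise killing of the kernel and pointwise "denominators" for a finite ring map
can be made uniform. -/
theorem exists_common_mul {R S : Type*} [CommRing R] [IsNoetherianRing R] [CommRing S] (φ : R →+* S)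
    (hfin : letI := φ.toAlgebra; Module.Finite R S) (P : Submonoid R)
    (ha : ∀ x : R, φ x = 0 → ∃ t ∈ P, t * x = 0)
    (hb : ∀ b : S, ∃ u ∈ P, ∃ r : R, φ u * b = φ r) :
    ∃ s ∈ P, (∀ x : R, φ x = 0 → s * x = 0) ∧ (∀ b : S, ∃ r : R, φ s * b = φ r) := by
  classical
  letI := φ.toAlgebra
  -- the kernel
  obtain ⟨T, hT⟩ := (isNoetherianRing_iff_ideal_fg R).1 inferInstance (RingHom.ker φ)
  have hTk : ∀ x ∈ T, φ x = 0 := by
    intro x hx
    have : x ∈ RingHom.ker φ := by rw [← hT]; exact Ideal.subset_span hx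
    exact this
  have ha' : ∀ x : R, ∃ t ∈ P, φ x = 0 → t * x = 0 := by
    intro x
    by_cases hx : φ x = 0
    · obtain ⟨t, ht, h⟩ := ha x hx
      exact ⟨t, ht, fun _ => h⟩
    · exact ⟨1, P.one_mem, fun h => absurd h hx⟩
  choose tt htt htt' using ha'
  have hs₁ : ∏ x ∈ T, tt x ∈ P := Submonoid.prod_mem _ (fun x _ => htt x)
  have hk₁ : ∀ x ∈ RingHom.ker φ, (∏ x ∈ T, tt x) * x = 0 := by
    intro x hx
    rw [← hT] at hx
    refine Submodule.span_induction (p := fun x _ => (∏ x ∈ T, tt x) * x = 0) ?_ ?_ ?_ ?_ hx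
    · intro x hx
      obtain ⟨d, hd⟩ := Finset.dvd_prod_of_mem tt hx
      rw [hd, mul_comm (tt x) d, mul_assoc, htt' x (hTk x hx), mul_zero]
    · exact mul_zero _
    · intro x y _ _ h1 h2
      rw [mul_add, h1, h2, add_zero]
    · intro a x _ h1
      rw [smul_eq_mul, mul_left_comm, h1, mul_zero]
  -- the cokernel
  obtain ⟨T', hT'⟩ := (Module.Finite.fg_top : (⊤ : Submodule R S).FG)
  choose uu huu rr hrr using hb
  have hs₂ : ∏ b ∈ T', uu b ∈ P := Submonoid.prod_mem _ (fun b _ => huu b)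
  have hk₂ : ∀ b : S, ∃ r : R, φ (∏ b ∈ T', uu b) * b = φ r := by
    intro b
    have hb : b ∈ Submodule.span R (T' : Set S) := by rw [hT']; trivial
    refine Submodule.span_induction (p := fun b _ => ∃ r : R, φ (∏ b ∈ T', uu b) * b = φ r)
      ?_ ?_ ?_ ?_ hb
    · intro b hb
      obtain ⟨d, hd⟩ := Finset.dvd_prod_of_mem uu hb
      refine ⟨d * rr b, ?_⟩
      rw [hd, mul_comm (uu b) d, map_mul, mul_assoc, hrr b, map_mul]
    · exact ⟨0, by rw [mul_zero, map_zero]⟩
    · rintro x y _ _ ⟨r₁, h1⟩ ⟨r₂, h2⟩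
      exact ⟨r₁ + r₂, by rw [mul_add, h1, h2, map_add]⟩
    · rintro a x _ ⟨r₁, h1⟩
      refine ⟨a * r₁, ?_⟩
      rw [Algebra.smul_def, mul_left_comm, h1, map_mul]
      rfl
  refine ⟨(∏ x ∈ T, tt x) * ∏ b ∈ T', uu b, P.mul_mem hs₁ hs₂, ?_, ?_⟩
  · intro x hx
    rw [mul_comm (∏ x ∈ T, tt x), mul_assoc, hk₁ x hx, mul_zero]
  · intro b
    obtain ⟨r, hr⟩ := hk₂ b
    exact ⟨(∏ x ∈ T, tt x) * r, by rw [map_mul, mul_assoc, hr, map_mul]⟩

/-- an element of a module dying in the base change to a localisation is killed by a denominator -/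
theorem exists_smul_eq_zero_of_tmul_eq_zero {R : Type*} [CommRing R] (P : Submonoid R)
    (R' : Type*) [CommRing R'] [Algebra R R'] [IsLocalization P R']
    {M : Type*} [AddCommGroup M] [Module R M] (m : M)
    (h : (1 : R') ⊗ₜ[R] m = 0) : ∃ u ∈ P, u • m = 0 := by
  haveI : IsLocalizedModule P (TensorProduct.mk R R' M 1) :=
    (isLocalizedModule_iff_isBaseChange P R' _).mpr (TensorProduct.isBaseChange R M R')
  obtain ⟨c, hc⟩ := (IsLocalizedModule.eq_zero_iff P (TensorProduct.mk R R' M 1)).1 h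
  exact ⟨c.1, c.2, hc⟩

end alg

section pbu
variable {X Y : Scheme.{u}} (f : X ⟶ Y)

set_option backward.isDefEq.respectTransparency.types false in
theorem unit_comp_pushforward_pullbackUnitHom :
    (Scheme.Modules.pullbackPushforwardAdjunction f).unit.app (Coh.structureModule Y) ≫
      (Scheme.Modules.pushforward f).map (pullbackUnitHom f) =
      SheafOfModules.unitToPushforwardObjUnit.{u} f.toRingCatSheafHom := by
  have h := SheafOfModules.pullbackPushforwardAdjunction_homEquiv_pullbackObjUnitToUnit.{u}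
    f.toRingCatSheafHom
  rw [Adjunction.homEquiv_unit] at h
  exact h

theorem pullbackUnitHom_app_unitSec {V : Y.Opens} {U : X.Opens} (hle : U ≤ f ⁻¹ᵁ V) (s : Γ(Y, V)) :
    (pullbackUnitHom f).app U (unitSec f (Coh.structureModule Y) hle (toS V s)) =
      toS U (f.appLE V U hle s) := by
  rw [unitSec_apply]
  have n1 : ∀ z : Γ((Scheme.Modules.pullback f).obj (Coh.structureModule Y), f ⁻¹ᵁ V),
      (pullbackUnitHom f).app U
        (((Scheme.Modules.pullback f).obj (Coh.structureModule Y)).presheaf.map (homOfLE hle).op z) =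
      (Coh.structureModule X).presheaf.map (homOfLE hle).op ((pullbackUnitHom f).app (f ⁻¹ᵁ V) z) := by
    intro z
    exact CategoryTheory.congr_fun ((pullbackUnitHom f).mapPresheaf.naturality (homOfLE hle).op) z
  rw [n1]
  have n2 : (pullbackUnitHom f).app (f ⁻¹ᵁ V)
      (((Scheme.Modules.pullbackPushforwardAdjunction f).unit.app (Coh.structureModule Y)).app V (toS V s)) =
      ((Scheme.Modules.pullbackPushforwardAdjunction f).unit.app (Coh.structureModule Y) ≫
        (Scheme.Modules.pushforward f).map (pullbackUnitHom f)).app V (toS V s) := rfl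
  rw [n2, unit_comp_pushforward_pullbackUnitHom]
  rfl

end pbu

section loc
variable {X Y : Scheme.{u}}

/-- if `g` kills the kernel of `O_Y(U) → O_X(f⁻¹U)` and multiplies `O_X(f⁻¹U)` into the image, then
`O_Y(D(g)) → O_X(f⁻¹D(g))` is bijective (`f` qcqs, `U` affine). -/
theorem app_basicOpen_bijective_of_mul (f : X ⟶ Y) [QuasiCompact f] [QuasiSeparated f]
    (U : Y.Opens) (hU : IsAffineOpen U) (g : Γ(Y, U))
    (h1 : ∀ x : Γ(Y, U), f.app U x = 0 → g * x = 0)
    (h2 : ∀ b : Γ(X, f ⁻¹ᵁ U), ∃ r : Γ(Y, U), f.app U g * b = f.app U r) :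
    Function.Bijective (f.app (Y.basicOpen g)).hom := by
  have hc : IsCompact (f ⁻¹ᵁ U).1 := f.isCompact_preimage hU.isCompact
  have hq : IsQuasiSeparated (f ⁻¹ᵁ U).1 := f.isQuasiSeparated_preimage hU.isQuasiSeparated
  have hpre : f ⁻¹ᵁ Y.basicOpen g = X.basicOpen (f.app U g) := Scheme.preimage_basicOpen f g
  have hle : Y.basicOpen g ≤ U := Y.basicOpen_le g
  have hle' : f ⁻¹ᵁ Y.basicOpen g ≤ f ⁻¹ᵁ U := f.preimage_mono hle
  have hnat : ∀ a : Γ(Y, U), f.app (Y.basicOpen g) (Y.presheaf.map (homOfLE hle).op a) =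
      X.presheaf.map (homOfLE hle').op (f.app U a) := fun a =>
    ConcreteCategory.congr_hom (f.naturality (homOfLE hle).op) a
  have hunit : IsUnit (Y.presheaf.map (homOfLE hle).op g) :=
    RingedSpace.isUnit_res_basicOpen _ g
  haveI := hU.isLocalization_basicOpen g
  constructor
  · rw [injective_iff_map_eq_zero]
    intro a' ha'
    obtain ⟨⟨a, ⟨_, n, rfl⟩⟩, ha⟩ := IsLocalization.surj (Submonoid.powers g) a'
    simp only [RingHom.algebraMap_toAlgebra, map_pow] at ha
    have ha2 : a' * (Y.presheaf.map (homOfLE hle).op g) ^ n = Y.presheaf.map (homOfLE hle).op a := ha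
    have h1' : X.presheaf.map (homOfLE hle').op (f.app U a) = 0 := by
      rw [← hnat, ← ha2]
      change (f.app (Y.basicOpen g)).hom _ = 0
      rw [map_mul, ha', zero_mul]
    obtain ⟨m, hm⟩ := exists_pow_mul_eq_zero' hc hq (f.app U g) (f.app U a) hpre hle' h1'
    have h2' : g * (g ^ m * a) = 0 := by
      apply h1
      change (f.app U).hom (g ^ m * a) = 0
      rw [map_mul, map_pow]
      exact hm
    have h3 : (Y.presheaf.map (homOfLE hle).op g) ^ (m + 1) * Y.presheaf.map (homOfLE hle).op a = 0 := by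
      have := congrArg (Y.presheaf.map (homOfLE hle).op).hom h2'
      rw [map_mul, map_mul, map_pow, map_zero, ← mul_assoc, ← pow_succ'] at this
      exact this
    have h4 : Y.presheaf.map (homOfLE hle).op a = 0 := (hunit.pow (m + 1)).mul_right_eq_zero.mp h3
    rw [h4] at ha2
    exact (hunit.pow n).mul_left_eq_zero.mp ha2
  · intro b'
    obtain ⟨n, b, hb⟩ := exists_eq_pow_mul' hc hq (f.app U g) hpre hle' b'
    obtain ⟨r, hr⟩ := h2 b
    obtain ⟨u, hu⟩ := hunit
    refine ⟨Y.presheaf.map (homOfLE hle).op r * ((u⁻¹ : _ˣ) : Γ(Y, Y.basicOpen g)) ^ (n + 1), ?_⟩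
    have e1 := hnat r
    have e2 := hnat g
    have e3 : X.presheaf.map (homOfLE hle').op (f.app U r) =
        X.presheaf.map (homOfLE hle').op (f.app U g) ^ (n + 1) * b' := by
      rw [← hr]
      change (X.presheaf.map (homOfLE hle').op).hom ((f.app U).hom g * b) = _
      rw [map_mul]
      change X.presheaf.map (homOfLE hle').op (f.app U g) * X.presheaf.map (homOfLE hle').op b = _
      rw [hb, ← mul_assoc, ← pow_succ']
    change (f.app (Y.basicOpen g)).hom _ = _
    rw [map_mul, map_pow]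
    change (f.app (Y.basicOpen g)) _ * _ = _
    rw [e1, e3, ← e2, ← hu]
    change (f.app (Y.basicOpen g)).hom _ ^ (n + 1) * _ * _ = _
    rw [mul_comm _ b', mul_assoc, ← mul_pow, ← map_mul]
    simp

end loc

section stalk

variable {X Y : Scheme.{u}} (f : X ⟶ Y) [IsProper f] [Flat f] [IsLocallyNoetherian Y] (y : Y)

/-- `H^0(X₁, O/𝔪O) ≃ κ(y)` when `κ(y) → Γ(X_y, O)` is bijective (`X₁ = X ×_Y Spec O_{Y,y}`). -/
theorem nonempty_linearEquiv_residueField
    (hy : Function.Bijective (algebraMap (Y.residueField y) Γ(f.fiber y, ⊤))) :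
    letI hO : (pullback f (Y.fromSpecStalk y)).Over (Spec (CommRingCat.of (Y.presheaf.stalk y))) :=
      ⟨pullback.snd f (Y.fromSpecStalk y)⟩
    Nonempty (Coh.HH (pullback f (Y.fromSpecStalk y))
      (cokernel (Formal.smulFamily (IsLocalRing.maximalIdeal (Y.presheaf.stalk y))
        (Coh.structureModule (pullback f (Y.fromSpecStalk y))))) 0 ≃ₗ[Y.presheaf.stalk y]
      IsLocalRing.ResidueField (Y.presheaf.stalk y)) := by
  have hLN : IsLocallyNoetherian Y := inferInstance
  have hNoeth : IsNoetherianRing (Y.presheaf.stalk y) := inferInstance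
  letI hO : (pullback f (Y.fromSpecStalk y)).Over (Spec (CommRingCat.of (Y.presheaf.stalk y))) :=
    ⟨pullback.snd f (Y.fromSpecStalk y)⟩
  have hsq : IsPullback (pullback.fst f (Y.fromSpecStalk y))
      ((pullback f (Y.fromSpecStalk y)) ↘ Spec (CommRingCat.of (Y.presheaf.stalk y)))
      f (Y.fromSpecStalk y) := IsPullback.of_hasPullback f (Y.fromSpecStalk y)
  obtain ⟨j, hj1, hj2, hpb⟩ := exists_fibre_square f y _ _ hsq
  letI hOZ : (f.fiber y).Over (Spec (CommRingCat.of (Y.presheaf.stalk y))) :=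
    ⟨f.fiberToSpecResidueField y ≫ Spec.map (Y.residue y)⟩
  haveI : IsClosedImmersion (Spec.map (Y.residue y)) := inferInstance
  haveI : IsClosedImmersion j := isClosedImmersion_of_isPullback _ _ _ _ hpb
  have hk : RingHom.ker (φT (A := Y.presheaf.stalk y) (Spec.map (Y.residue y))) =
      IsLocalRing.maximalIdeal (Y.presheaf.stalk y) := by
    rw [Groth.Agent.Lib.T2H9.FibVan.ker_φT_SpecMap]
    exact IsLocalRing.ker_residue
  haveI : (Coh.structureModule (pullback f (Y.fromSpecStalk y))).IsQuasicoherent :=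
    (Groth.Agent.Lib.T2H5.GenIsoF.isCoh_structureModule).1
  obtain ⟨e3⟩ := @nonempty_linearEquiv_fibre (Y.presheaf.stalk y) _ (pullback f (Y.fromSpecStalk y)) hO
    (Coh.structureModule (pullback f (Y.fromSpecStalk y))) _ _ j (f.fiberToSpecResidueField y)
    (Spec.map (Y.residue y)) hpb inferInstance inferInstance inferInstance hOZ hj2
    (IsLocalRing.maximalIdeal (Y.presheaf.stalk y)) hk (Coh.structureModule (f.fiber y))
    (pullbackUnitIso j).symm 0
  let ρ : Y.residueField y ≃+* Γ(f.fiber y, ⊤) := RingEquiv.ofBijective (algebraMap _ _) hy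
  have hρ : ∀ k, ρ k = Coh.toGlobal (A := Y.residueField y) (f.fiberToSpecResidueField y) k :=
    fun k => rfl
  let γ : Coh.HH (f.fiber y) (Coh.structureModule (f.fiber y)) 0 → Γ(f.fiber y, ⊤) :=
    fun x => ofS ⊤ (hh0Γ (f.fiber y) (Coh.structureModule (f.fiber y)) x)
  have γ_add : ∀ x x', γ (x + x') = γ x + γ x' := fun x x' => by
    change ofS ⊤ (hh0Γ (f.fiber y) (Coh.structureModule (f.fiber y)) (x + x')) = _
    rw [map_add]
    rfl
  have γ_smul : ∀ (r : Γ(f.fiber y, ⊤)) x, γ ((show Coh.Γtop (f.fiber y) from r) • x) = r * γ x :=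
    fun r x => by
      change ofS ⊤ (hh0Γ (f.fiber y) (Coh.structureModule (f.fiber y))
        ((show Coh.Γtop (f.fiber y) from r) • x)) = _
      rw [hh0Γ_smul]
      rfl
  have γ_bij : Function.Bijective γ := (hh0Γ (f.fiber y) (Coh.structureModule (f.fiber y))).bijective
  let γe : Coh.HH (f.fiber y) (Coh.structureModule (f.fiber y)) 0 ≃ Γ(f.fiber y, ⊤) :=
    Equiv.ofBijective γ γ_bij
  have hsmul : ∀ (a : Y.presheaf.stalk y) (x : Coh.HH (f.fiber y) (Coh.structureModule (f.fiber y)) 0),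
      γ (a • x) = ρ (IsLocalRing.residue _ a) * γ x := by
    intro a x
    have e1 : (a • x : Coh.HH (f.fiber y) (Coh.structureModule (f.fiber y)) 0) =
      (show Coh.Γtop (f.fiber y) from (Coh.toGlobal (A := Y.presheaf.stalk y)
        (f.fiberToSpecResidueField y ≫ Spec.map (Y.residue y)) a)) • x := rfl
    rw [e1, γ_smul, toGlobal_comp_SpecMap]
    rfl
  let e4 : Coh.HH (f.fiber y) (Coh.structureModule (f.fiber y)) 0 ≃ₗ[Y.presheaf.stalk y]
      IsLocalRing.ResidueField (Y.presheaf.stalk y) :=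
    { toFun := fun x => ρ.symm (γ x)
      map_add' := fun x x' => by
        rw [γ_add]
        exact map_add ρ.symm _ _
      map_smul' := fun a x => by
        rw [hsmul, map_mul, RingEquiv.symm_apply_apply]
        exact (Algebra.smul_def a _).symm
      invFun := fun k => γe.symm (ρ k)
      left_inv := fun x => by
        change γe.symm (ρ (ρ.symm (γe x))) = x
        rw [RingEquiv.apply_symm_apply, Equiv.symm_apply_apply]
      right_inv := fun k => by
        change ρ.symm (γe (γe.symm (ρ k))) = k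
        rw [Equiv.apply_symm_apply, RingEquiv.symm_apply_apply] }
  exact ⟨e3.trans e4⟩

end stalk

section spread
variable {X Y : Scheme.{u}} (f : X ⟶ Y) [IsProper f] [Flat f] [IsLocallyNoetherian Y] (y : Y)

/-- the commutative square of rings behind `X ×_Y Spec O_{Y,y}` -/
theorem appLE_toGlobal {V : Y.Opens} (hyV : y ∈ V)
    (hW' : (⊤ : (pullback f (Y.fromSpecStalk y)).Opens) ≤
      (pullback.fst f (Y.fromSpecStalk y)) ⁻¹ᵁ (f ⁻¹ᵁ V)) (x : Γ(Y, V)) :
    ((pullback.fst f (Y.fromSpecStalk y)).appLE (f ⁻¹ᵁ V) ⊤ hW').hom ((f.app V).hom x) =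
      Coh.toGlobal (A := Y.presheaf.stalk y) (pullback.snd f (Y.fromSpecStalk y))
        ((Y.presheaf.germ V y hyV).hom x) := by
  have hle := top_le_preimage_fromSpecStalk y hyV
  have e : f.appLE V (f ⁻¹ᵁ V) le_rfl ≫ (pullback.fst f (Y.fromSpecStalk y)).appLE (f ⁻¹ᵁ V) ⊤ hW' =
      (Y.fromSpecStalk y).appLE V ⊤ hle ≫
        (pullback.snd f (Y.fromSpecStalk y)).appLE ⊤ ⊤ (top_le_pre _) := by
    simp only [Scheme.Hom.appLE_comp_appLE, pullback.condition]
  have e' := congrArg (fun t : Γ(Y, V) ⟶ Γ(pullback f (Y.fromSpecStalk y), ⊤) => t.hom x) e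
  simp only [CommRingCat.hom_comp, RingHom.coe_comp, Function.comp_apply] at e'
  rw [Scheme.Hom.appLE_eq_app, appLE_fromSpecStalk_apply y hyV hle, appLE_top_top] at e'
  exact e'

/-- `Γ(Spec O_{Y,y}, ⊤)` is the localisation of `Γ(Y, V)` at the prime of `y`. -/
theorem isLocalization_ΓSpec_stalk {V : Y.Opens} (hV : IsAffineOpen V) (hyV : y ∈ V)
    (hle : (⊤ : (Spec (Y.presheaf.stalk y)).Opens) ≤ (Y.fromSpecStalk y) ⁻¹ᵁ V) :
    letI : Algebra Γ(Y, V) Γ(Spec (Y.presheaf.stalk y), ⊤) :=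
      ((Y.fromSpecStalk y).appLE V ⊤ hle).hom.toAlgebra
    IsLocalization (hV.primeIdealOf ⟨y, hyV⟩).asIdeal.primeCompl Γ(Spec (Y.presheaf.stalk y), ⊤) := by
  letI : Algebra Γ(Y, V) Γ(Spec (Y.presheaf.stalk y), ⊤) :=
    ((Y.fromSpecStalk y).appLE V ⊤ hle).hom.toAlgebra
  letI algA : Algebra Γ(Y, V) (Y.presheaf.stalk y) := (Y.presheaf.germ V y hyV).hom.toAlgebra
  haveI locA : IsLocalization.AtPrime (Y.presheaf.stalk y) (hV.primeIdealOf ⟨y, hyV⟩).asIdeal :=
    hV.isLocalization_stalk ⟨y, hyV⟩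
  let ε : Y.presheaf.stalk y ≃+* Γ(Spec (Y.presheaf.stalk y), ⊤) :=
    (Scheme.ΓSpecIso (Y.presheaf.stalk y)).symm.commRingCatIsoToRingEquiv
  let ε' : Y.presheaf.stalk y ≃ₐ[Γ(Y, V)] Γ(Spec (Y.presheaf.stalk y), ⊤) :=
    AlgEquiv.ofRingEquiv (f := ε) (fun r => (appLE_fromSpecStalk_apply y hyV hle r).symm)
  exact IsLocalization.isLocalization_of_algEquiv _ ε'

/-- spreading out: if `O_{Y,y} → Γ(X ×_Y Spec O_{Y,y}, O)` is bijective then `O_Y(V) → O_X(f⁻¹V)` is an isomorphism
for all `V` in a neighbourhood of `y`. -/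
theorem exists_isIso_app_of_bijective_toGlobal
    (hτ : Function.Bijective (Coh.toGlobal (A := Y.presheaf.stalk y)
      (pullback.snd f (Y.fromSpecStalk y)))) :
    ∃ U : Y.Opens, y ∈ U ∧ ∀ V : Y.Opens, V ≤ U → IsIso (f.app V) := by
  obtain ⟨V, hV, hyV, -⟩ := exists_isAffineOpen_mem_and_subset (x := y) (U := ⊤) trivial
  have hsq : IsPullback (pullback.fst f (Y.fromSpecStalk y)) (pullback.snd f (Y.fromSpecStalk y)) f
      (Y.fromSpecStalk y) := IsPullback.of_hasPullback _ _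
  have hle := top_le_preimage_fromSpecStalk y hyV
  haveI : (Coh.structureModule X).IsQuasicoherent :=
    (Groth.Agent.Lib.T2H5.GenIsoF.isCoh_structureModule).1
  have hflat := flat_appLE_fromSpecStalk hV y hyV hle
  have hK := KBij_of_qcqs f (Y.fromSpecStalk y) _ _ hsq (Coh.structureModule X) hle hV
    (isAffineOpen_top _) hflat (f.isQuasiSeparated_preimage hV.isQuasiSeparated) (f ⁻¹ᵁ V)
    (f.isCompact_preimage hV.isCompact) le_rfl
  letI algR' : Algebra Γ(Y, V) Γ(Spec (Y.presheaf.stalk y), ⊤) :=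
    ((Y.fromSpecStalk y).appLE V ⊤ hle).hom.toAlgebra
  haveI locR' : IsLocalization (hV.primeIdealOf ⟨y, hyV⟩).asIdeal.primeCompl
      Γ(Spec (Y.presheaf.stalk y), ⊤) := isLocalization_ΓSpec_stalk y hV hyV hle
  letI algA : Algebra Γ(Y, V) (Y.presheaf.stalk y) := (Y.presheaf.germ V y hyV).hom.toAlgebra
  haveI locA : IsLocalization.AtPrime (Y.presheaf.stalk y) (hV.primeIdealOf ⟨y, hyV⟩).asIdeal :=
    hV.isLocalization_stalk ⟨y, hyV⟩
  have hW' : (⊤ : (pullback f (Y.fromSpecStalk y)).Opens) ≤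
      (pullback.fst f (Y.fromSpecStalk y)) ⁻¹ᵁ (f ⁻¹ᵁ V) := by
    intro z _
    change f ((pullback.fst f (Y.fromSpecStalk y)) z) ∈ V
    rw [← Scheme.Hom.comp_apply, pullback.condition, Scheme.Hom.comp_apply]
    exact hle (show (pullback.snd f (Y.fromSpecStalk y)) z ∈
      (⊤ : (Spec (Y.presheaf.stalk y)).Opens) from trivial)
  have hcomm := fun x => appLE_toGlobal f y hyV hW' x
  haveI : IsNoetherianRing Γ(Y, V) := IsLocallyNoetherian.component_noetherian ⟨V, hV⟩
  have hfin := Groth.Agent.Lib.T2H9.SteinFinite.finite_sections_of_isProper f V hV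
  -- (a) the kernel is killed by denominators
  have ha : ∀ x : Γ(Y, V), (f.app V).hom x = 0 →
      ∃ t ∈ (hV.primeIdealOf ⟨y, hyV⟩).asIdeal.primeCompl, t * x = 0 := by
    intro x hx
    have h1 := hcomm x
    rw [hx, map_zero] at h1
    have h2 : (Y.presheaf.germ V y hyV).hom x = 0 := hτ.1 (h1.symm.trans (map_zero _).symm)
    obtain ⟨m, hm⟩ := (IsLocalization.map_eq_zero_iff (hV.primeIdealOf ⟨y, hyV⟩).asIdeal.primeCompl
      (Y.presheaf.stalk y) x).1 h2
    exact ⟨m.1, m.2, hm⟩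
  -- (b) every section is a fraction
  have hb : ∀ b : Γ(X, f ⁻¹ᵁ V), ∃ u ∈ (hV.primeIdealOf ⟨y, hyV⟩).asIdeal.primeCompl,
      ∃ r : Γ(Y, V), (f.app V).hom u * b = (f.app V).hom r := by
    intro b
    obtain ⟨a, ha'⟩ := hτ.2 (((pullback.fst f (Y.fromSpecStalk y)).appLE (f ⁻¹ᵁ V) ⊤ hW').hom b)
    obtain ⟨⟨r₀, t⟩, hrt⟩ := IsLocalization.surj (hV.primeIdealOf ⟨y, hyV⟩).asIdeal.primeCompl a
    have hrt' : a * (Y.presheaf.germ V y hyV).hom (t : Γ(Y, V)) = (Y.presheaf.germ V y hyV).hom r₀ := hrt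
    obtain ⟨c, hc⟩ : ∃ c : Γ(X, f ⁻¹ᵁ V), c = (f.app V).hom t * b - (f.app V).hom r₀ := ⟨_, rfl⟩
    have hψc : ((pullback.fst f (Y.fromSpecStalk y)).appLE (f ⁻¹ᵁ V) ⊤ hW').hom c = 0 := by
      have h0 : (Y.presheaf.germ V y hyV).hom (t : Γ(Y, V)) * a - (Y.presheaf.germ V y hyV).hom r₀ = 0 := by
        rw [mul_comm, hrt', sub_self]
      have e1 : Coh.toGlobal (A := Y.presheaf.stalk y) (pullback.snd f (Y.fromSpecStalk y))
          ((Y.presheaf.germ V y hyV).hom (t : Γ(Y, V)) * a - (Y.presheaf.germ V y hyV).hom r₀) =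
          Coh.toGlobal (A := Y.presheaf.stalk y) (pullback.snd f (Y.fromSpecStalk y))
            ((Y.presheaf.germ V y hyV).hom (t : Γ(Y, V))) *
          Coh.toGlobal (A := Y.presheaf.stalk y) (pullback.snd f (Y.fromSpecStalk y)) a -
          Coh.toGlobal (A := Y.presheaf.stalk y) (pullback.snd f (Y.fromSpecStalk y))
            ((Y.presheaf.germ V y hyV).hom r₀) := by
        rw [map_sub, map_mul]
      have e2 : ((pullback.fst f (Y.fromSpecStalk y)).appLE (f ⁻¹ᵁ V) ⊤ hW').hom c =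
          ((pullback.fst f (Y.fromSpecStalk y)).appLE (f ⁻¹ᵁ V) ⊤ hW').hom ((f.app V).hom t) *
          ((pullback.fst f (Y.fromSpecStalk y)).appLE (f ⁻¹ᵁ V) ⊤ hW').hom b -
          ((pullback.fst f (Y.fromSpecStalk y)).appLE (f ⁻¹ᵁ V) ⊤ hW').hom ((f.app V).hom r₀) := by
        rw [hc, map_sub, map_mul]
      have e5 : (Coh.toGlobal (A := Y.presheaf.stalk y) (pullback.snd f (Y.fromSpecStalk y))
            ((Y.presheaf.germ V y hyV).hom (t : Γ(Y, V))) *
          Coh.toGlobal (A := Y.presheaf.stalk y) (pullback.snd f (Y.fromSpecStalk y)) a -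
          Coh.toGlobal (A := Y.presheaf.stalk y) (pullback.snd f (Y.fromSpecStalk y))
            ((Y.presheaf.germ V y hyV).hom r₀)) = 0 := e1.symm.trans (by rw [h0, map_zero])
      rw [e2, hcomm, hcomm, ← ha']
      exact e5
    have hVpW : Vp (pullback.fst f (Y.fromSpecStalk y)) (pullback.snd f (Y.fromSpecStalk y)) ⊤ (f ⁻¹ᵁ V) ≤
        (pullback.fst f (Y.fromSpecStalk y)) ⁻¹ᵁ (f ⁻¹ᵁ V) := inf_le_left
    have hVpU : Vp (pullback.fst f (Y.fromSpecStalk y)) (pullback.snd f (Y.fromSpecStalk y)) ⊤ (f ⁻¹ᵁ V) ≤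
        (pullback.snd f (Y.fromSpecStalk y)) ⁻¹ᵁ ⊤ := inf_le_right
    have h1 : unitSec (pullback.fst f (Y.fromSpecStalk y)) (Coh.structureModule X) hVpW
        (toS (f ⁻¹ᵁ V) c) = 0 := by
      have hiso : IsIso ((pullbackUnitHom (pullback.fst f (Y.fromSpecStalk y))).app
          (Vp (pullback.fst f (Y.fromSpecStalk y)) (pullback.snd f (Y.fromSpecStalk y)) ⊤ (f ⁻¹ᵁ V))) :=
        Scheme.Modules.Hom.isIso_iff_isIso_app.1 inferInstance _
      have hinj : Function.Injective ((pullbackUnitHom (pullback.fst f (Y.fromSpecStalk y))).app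
          (Vp (pullback.fst f (Y.fromSpecStalk y)) (pullback.snd f (Y.fromSpecStalk y)) ⊤ (f ⁻¹ᵁ V))) :=
        (ConcreteCategory.bijective_of_isIso _).1
      apply hinj
      rw [pullbackUnitHom_app_unitSec, map_zero]
      have h5 : ((pullback.fst f (Y.fromSpecStalk y)).appLE (f ⁻¹ᵁ V) _ hVpW).hom c =
          ((pullback f (Y.fromSpecStalk y)).presheaf.map (homOfLE le_top).op).hom
            (((pullback.fst f (Y.fromSpecStalk y)).appLE (f ⁻¹ᵁ V) ⊤ hW').hom c) := by
        rw [← RingHom.comp_apply, ← CommRingCat.hom_comp, Scheme.Hom.appLE_map]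
      change toS _ (((pullback.fst f (Y.fromSpecStalk y)).appLE (f ⁻¹ᵁ V) _ hVpW).hom c) = 0
      rw [h5, hψc, map_zero]
      rfl
    have h3 : (1 : Γ(Spec (Y.presheaf.stalk y), ⊤)) ⊗ₜ[Γ(Y, V)]
        (show SecR f (Coh.structureModule X) V (f ⁻¹ᵁ V) le_rfl from toS (f ⁻¹ᵁ V) c) = 0 := by
      apply hK.1
      rw [kap_tmul, one_smul, map_zero]
      exact h1
    obtain ⟨u, hu, hu0⟩ := exists_smul_eq_zero_of_tmul_eq_zero
      (hV.primeIdealOf ⟨y, hyV⟩).asIdeal.primeCompl Γ(Spec (Y.presheaf.stalk y), ⊤) _ h3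
    have h4 : (f.app V).hom u * c = 0 := by
      have h6 : (u • (show SecR f (Coh.structureModule X) V (f ⁻¹ᵁ V) le_rfl from toS (f ⁻¹ᵁ V) c)) =
          toS (f ⁻¹ᵁ V) ((f.appLE V (f ⁻¹ᵁ V) le_rfl).hom u * c) := rfl
      rw [h6, Scheme.Hom.appLE_eq_app] at hu0
      exact hu0
    refine ⟨u * t, Submonoid.mul_mem _ hu t.2, u * r₀, ?_⟩
    have h7 : (f.app V).hom t * b = c + (f.app V).hom r₀ := by rw [hc]; ring
    rw [map_mul, map_mul, mul_assoc, h7, mul_add, h4, zero_add]
  obtain ⟨s, hsP, hs1, hs2⟩ := exists_common_mul (f.app V).hom hfin _ ha hb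
  refine ⟨Y.basicOpen s, ?_, ?_⟩
  · rw [Scheme.mem_basicOpen Y s y hyV]
    exact IsLocalization.map_units (Y.presheaf.stalk y)
      (⟨s, hsP⟩ : (hV.primeIdealOf ⟨y, hyV⟩).asIdeal.primeCompl)
  · have hbij := app_basicOpen_bijective_of_mul f V hV s hs1 hs2
    have hiso : IsIso (f.app (Y.basicOpen s)) := (ConcreteCategory.isIso_iff_bijective _).2 hbij
    exact fun V' hV' => isIso_app_of_le f _ (hV.basicOpen s) hiso V' hV'

/-- **`f_* O_X = O_Y` near `y`** for `f` proper flat with `κ(y) = Γ(X_y, O)`. -/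
theorem exists_isIso_app (hy : Function.Bijective (algebraMap (Y.residueField y) Γ(f.fiber y, ⊤))) :
    ∃ U : Y.Opens, y ∈ U ∧ ∀ V : Y.Opens, V ≤ U → IsIso (f.app V) := by
  have hLN : IsLocallyNoetherian Y := inferInstance
  have hNoeth : IsNoetherianRing (Y.presheaf.stalk y) := inferInstance
  letI hO : (pullback f (Y.fromSpecStalk y)).Over (Spec (CommRingCat.of (Y.presheaf.stalk y))) :=
    ⟨pullback.snd f (Y.fromSpecStalk y)⟩
  have hsq : IsPullback (pullback.fst f (Y.fromSpecStalk y))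
      ((pullback f (Y.fromSpecStalk y)) ↘ Spec (CommRingCat.of (Y.presheaf.stalk y)))
      f (Y.fromSpecStalk y) := IsPullback.of_hasPullback f (Y.fromSpecStalk y)
  haveI : IsProper ((pullback f (Y.fromSpecStalk y)) ↘ Spec (CommRingCat.of (Y.presheaf.stalk y))) :=
    MorphismProperty.of_isPullback hsq inferInstance
  haveI : Flat ((pullback f (Y.fromSpecStalk y)) ↘ Spec (CommRingCat.of (Y.presheaf.stalk y))) :=
    MorphismProperty.of_isPullback hsq inferInstance
  obtain ⟨e'⟩ := nonempty_linearEquiv_residueField f y hy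
  exact exists_isIso_app_of_bijective_toGlobal f y
    (Groth.Agent.Lib.T2H9.H0Triv.bijective_toGlobal_of_linearEquiv (pullback f (Y.fromSpecStalk y)) e')

end spread

end Groth.Agent.Lib.T2H9.FibField
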