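import Mathlib
import Groth.Agent.Lib.T2H9FlatFib2
import Groth.Agent.Lib.T2H2AlgzB
import Groth.Agent.Lib.T2H4ClosedAdj
import Groth.Agent.Lib.T2H5ClosedLin
import Groth.Agent.Lib.T2H5ClosedTransfer
import Groth.Agent.Lib.Helper20FormalPull
import Groth.Agent.Lib.T2H9TensorInv
import Groth.Agent.Lib.Helper23PB
import Groth.Agent.Lib.Helper23AmpleIso
import Groth.Agent.Lib.T2H9FFGeom3

/-! # Base change of a closed subscheme of the base: modules killed by the ideal (helper9)

For `X` over `Spec A`, a closed immersion `f : T → Spec A` with `ker (A → Γ(T)) = 𝔞` and `Z = X ×_A T` with `i : Z → X`: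
`isQuotBy_η` (the unit `F → i_* i^* F` is the quotient by `𝔞`), `isIso_η_of_killedBy`, `killedBy_of_isPullback`,
`isIso_counit`, `pushforward_map_smulMod`, `killedBy_pushforward`, `killedBy_of_pushforward`, and the transfer of vanishing of
twisted cohomology along an affine morphism `subsingleton_HH_pushforward_twist`. -/

set_option autoImplicit false
set_option linter.style.haveILetI false
set_option linter.unusedVariables false
set_option linter.unusedSectionVars false
universe u
open CategoryTheory CategoryTheory.Limits Opposite AlgebraicGeometry TopologicalSpace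

namespace Groth.Agent.Lib.T2H9.Thick

open Groth.Agent.Lib.T2H2.AlgzB Groth.Agent.Lib.T2H9.FibQuot Groth.Agent.Lib.T2H9.FlatFib

section base

variable {A : Type u} [CommRing A]
variable (X : Scheme.{u}) [X.Over (Spec (CommRingCat.of A))]
variable {Z T : Scheme.{u}} (i : Z ⟶ X) (q : Z ⟶ T) (f : T ⟶ Spec (CommRingCat.of A))
  (hpb : IsPullback i q (X ↘ Spec (CommRingCat.of A)) f) [IsClosedImmersion f]
  [IsClosedImmersion i] (𝔞 : Ideal A) (h𝔞 : RingHom.ker (φT f) = 𝔞)

include hpb h𝔞 in
/-- the unit `F ⟶ i_* i^* F` exhibits `i_* i^* F` as `F/𝔞F` -/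
theorem isQuotBy_η (F : X.Modules) [F.IsQuasicoherent] : IsQuotBy 𝔞 (η i F) := by
  rw [isQuotBy_iff]
  haveI := epi_lamG_η X F i q f hpb 𝔞 h𝔞
  refine ⟨smulFamily_η X F i q f hpb 𝔞 h𝔞.ge, ?_⟩
  exact (inferInstance : IsIso (cokIso X F 𝔞 (η i F) (smulFamily_η X F i q f hpb 𝔞 h𝔞.ge)).hom)

theorem isQuotBy_id {J : Ideal A} (F : X.Modules) (hk : Formal.KilledBy J F) : IsQuotBy J (𝟙 F) where
  epi := inferInstance
  kill a ha := by rw [Category.comp_id]; exact hk a ha
  fac _ g _ := ⟨g, Category.id_comp g⟩

include hpb h𝔞 in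
/-- the unit is an isomorphism on quasi-coherent modules killed by `𝔞` -/
theorem isIso_η_of_killedBy (F : X.Modules) [F.IsQuasicoherent] (hk : Formal.KilledBy 𝔞 F) :
    IsIso (η i F) := by
  obtain ⟨e, he⟩ := (isQuotBy_id X F hk).exists_iso (isQuotBy_η X i q f hpb 𝔞 h𝔞 F)
  rw [Category.id_comp] at he
  rw [← he]
  infer_instance

end base

section overA

variable {A : Type u} [CommRing A] {X Z : Scheme.{u}} [X.Over (Spec (CommRingCat.of A))]
  [Z.Over (Spec (CommRingCat.of A))] (i : Z ⟶ X)
  (hi : i ≫ (X ↘ Spec (CommRingCat.of A)) = Z ↘ Spec (CommRingCat.of A))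

include hi in
/-- the direct image commutes with multiplication by elements of the base ring -/
theorem pushforward_map_smulMod (N : Z.Modules) (a : A) :
    (Scheme.Modules.pushforward i).map (Formal.smulMod A N a) =
      Formal.smulMod A ((Scheme.Modules.pushforward i).obj N) a := by
  rw [Formal.smulMod, Formal.smulMod, Groth.Agent.Lib.Helper20.FormalPull.toGlobal_eq i hi]
  exact Groth.Agent.Lib.Helper20.FormalPull.pushforward_map_smulModΓ i N _

instance additive_pushforward : (Scheme.Modules.pushforward i).Additive :=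
  (Scheme.Modules.pullbackPushforwardAdjunction i).right_adjoint_additive

instance additive_pullback : (Scheme.Modules.pullback i).Additive :=
  (Scheme.Modules.pullbackPushforwardAdjunction i).left_adjoint_additive

instance isLeftAdjoint_pullback : (Scheme.Modules.pullback i).IsLeftAdjoint :=
  ⟨_, ⟨Scheme.Modules.pullbackPushforwardAdjunction i⟩⟩

include hi in
theorem killedBy_pushforward {J : Ideal A} (N : Z.Modules) (h : Formal.KilledBy J N) :
    Formal.KilledBy J ((Scheme.Modules.pushforward i).obj N) := by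
  intro a ha
  rw [← pushforward_map_smulMod i hi, h a ha, Functor.map_zero]

include hi in
theorem killedBy_of_pushforward [IsClosedImmersion i] {J : Ideal A} (N : Z.Modules)
    (h : Formal.KilledBy J ((Scheme.Modules.pushforward i).obj N)) : Formal.KilledBy J N := by
  intro a ha
  haveI := Groth.Agent.Lib.T2H5.ClosedTransfer.pushforward_faithful i i.isClosedEmbedding
  apply (Scheme.Modules.pushforward i).map_injective
  rw [pushforward_map_smulMod i hi, h a ha, Functor.map_zero]

end overA

section base2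

variable {A : Type u} [CommRing A]
variable (X : Scheme.{u}) [X.Over (Spec (CommRingCat.of A))]
variable {Z T : Scheme.{u}} [Z.Over (Spec (CommRingCat.of A))] (i : Z ⟶ X) (q : Z ⟶ T)
  (f : T ⟶ Spec (CommRingCat.of A))
  (hpb : IsPullback i q (X ↘ Spec (CommRingCat.of A)) f) [IsClosedImmersion f]
  [IsClosedImmersion i] (𝔞 : Ideal A) (h𝔞 : RingHom.ker (φT f) = 𝔞)
  (hi : i ≫ (X ↘ Spec (CommRingCat.of A)) = Z ↘ Spec (CommRingCat.of A))

include hpb h𝔞 hi in
/-- every module on the base change `Z = X ×_A V(𝔞)` is killed by `𝔞` -/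
theorem killedBy_of_isPullback (N : Z.Modules) : Formal.KilledBy 𝔞 N := by
  intro a ha
  have hq : q ≫ f = Z ↘ Spec (CommRingCat.of A) := by rw [← hi, hpb.w]
  have h0 : Coh.toGlobal (Z ↘ Spec (CommRingCat.of A)) a = 0 := by
    rw [← hq]
    change (q ≫ f).appTop.hom ((Scheme.ΓSpecIso (CommRingCat.of A)).inv.hom a) = 0
    rw [Scheme.Hom.comp_appTop]
    change q.appTop.hom (φT f a) = 0
    have : φT f a = 0 := by
      rw [← RingHom.mem_ker, h𝔞]; exact ha
    rw [this, map_zero]
  have h1 : Formal.smulMod A N a = Formal.smulMod A N 0 := by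
    unfold Formal.smulMod
    rw [h0, map_zero]
  rw [h1]
  exact Groth.Agent.Lib.T2H9.FFGeom.smulMod_zero Z N

include hpb h𝔞 hi in
/-- the counit `i^* i_* N ⟶ N` is an isomorphism for quasi-coherent `N` -/
theorem isIso_counit (N : Z.Modules) [N.IsQuasicoherent] :
    IsIso ((Scheme.Modules.pullbackPushforwardAdjunction i).counit.app N) := by
  let adj := Scheme.Modules.pullbackPushforwardAdjunction i
  haveI : ((Scheme.Modules.pushforward i).obj N).IsQuasicoherent :=
    Groth.Agent.Lib.Helper23.QCohLocal.isQuasicoherent_pushforward i N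
  have hk : Formal.KilledBy 𝔞 ((Scheme.Modules.pushforward i).obj N) :=
    killedBy_pushforward i hi N (killedBy_of_isPullback X i q f hpb 𝔞 h𝔞 hi N)
  haveI h1 : IsIso (η i ((Scheme.Modules.pushforward i).obj N)) :=
    isIso_η_of_killedBy X i q f hpb 𝔞 h𝔞 ((Scheme.Modules.pushforward i).obj N) hk
  have h2 : η i ((Scheme.Modules.pushforward i).obj N) ≫
      (Scheme.Modules.pushforward i).map (adj.counit.app N) = 𝟙 _ := adj.right_triangle_components N
  haveI h3 : IsIso ((Scheme.Modules.pushforward i).map (adj.counit.app N)) := by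
    have : (Scheme.Modules.pushforward i).map (adj.counit.app N) =
        inv (η i ((Scheme.Modules.pushforward i).obj N)) := by
      rw [← cancel_epi (η i ((Scheme.Modules.pushforward i).obj N)), h2, IsIso.hom_inv_id]
    rw [this]
    infer_instance
  haveI := Groth.Agent.Lib.T2H5.ClosedTransfer.pushforward_faithful i i.isClosedEmbedding
  haveI : (Scheme.Modules.pushforward i).ReflectsIsomorphisms :=
    reflectsIsomorphisms_of_reflectsMonomorphisms_of_reflectsEpimorphisms _
  exact isIso_of_reflects_iso (adj.counit.app N) (Scheme.Modules.pushforward i)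

end base2

section transfer

open Groth.Agent.Lib.T2H9.TensorInv

variable {X Z : Scheme.{u}} (i : Z ⟶ X) [IsAffineHom i]

/-- vanishing of the cohomology of a twist on `Z` gives the vanishing for the direct image on `X` -/
theorem subsingleton_HH_pushforward_twist (N : Z.Modules) [N.IsQuasicoherent] (L : X.Modules)
    (hL : PicF.IsInvertible L) (L₀ : Z.Modules) (e : (Scheme.Modules.pullback i).obj L ≅ L₀) (n q : ℕ)
    (h : Subsingleton (Coh.HH Z (CohB1.tensorMod N (CohB1.tensorPow L₀ n)) q)) :
    Subsingleton (Coh.HH X (CohB1.tensorMod ((Scheme.Modules.pushforward i).obj N)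
      (CohB1.tensorPow L n)) q) := by
  have hLn : PicF.IsInvertible (CohB1.tensorPow L n) :=
    Groth.Agent.Lib.Helper23.SecTw.isInvertible_tensorPow hL n
  have hq : (CohB1.tensorPow L n).IsQuasicoherent :=
    Groth.Agent.Lib.Helper23.SecTw.isQuasicoherent_of_isInvertible _ hLn
  refine (Groth.Agent.Lib.T2H5.ClosedTransfer.subsingleton_HH_iff i N inferInstance hq
    (tensorInvIso _ hLn) (invTensorIso _ hLn) q).1 ?_
  obtain ⟨ε⟩ := Groth.Agent.Lib.Helper23.PB.nonempty_pullback_tensorPow_iso i L hL n
  have ε' : CohB1.tensorMod N (CohB1.tensorPow L₀ n) ≅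
      CohB1.tensorMod N ((Scheme.Modules.pullback i).obj (CohB1.tensorPow L n)) :=
    Groth.Agent.Lib.Helper23.AmpleIso.tensorModIso (Iso.refl N)
      (Groth.Agent.Lib.Helper23.AmpleIso.tensorPowIso e.symm n ≪≫ ε.symm)
  exact Groth.Agent.Lib.T2H5.PnStruct.subsingleton_HH_of_iso ε' q h

end transfer

end Groth.Agent.Lib.T2H9.Thick
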