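import Mathlib
import Groth.Agent.Lib.T2H9Tower1
import Groth.Agent.Lib.T2H9GrSys3

/-! # Towers under right exact functors; gluing graded systems (helper9)

`isTower_comp`, `mT_comp`, `κ` (comparison `Φ(gr_n G) ⟶ gr_n(Φ G)`), `κ_tgT`, `isIso_κ`; morphisms of graded systems `SysHom`,
the glued system `glue` of a sequence of systems with transition maps that are isomorphisms in low degrees,
`nonempty_glue_iso`; `mapSys` (image of a graded system under a functor), `towerSys`. -/

set_option autoImplicit false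
set_option linter.style.haveILetI false
set_option linter.unusedVariables false
set_option linter.unusedSectionVars false
universe u
open CategoryTheory CategoryTheory.Limits Opposite AlgebraicGeometry TopologicalSpace

namespace Groth.Agent.Lib.T2H9.Thick

open Groth.Agent.Lib.T2H2.AlgzB Groth.Agent.Lib.T2H9.GrSys Groth.Agent.Lib.T2H9.GrAdic
  Groth.Agent.Lib.T2H9.Tower

section functor

variable {A : Type u} [CommRing A] {X Y : Scheme.{u}} [X.Over (Spec (CommRingCat.of A))]
  [Y.Over (Spec (CommRingCat.of A))] (Φ : X.Modules ⥤ Y.Modules) [Φ.Additive]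
  [Φ.PreservesEpimorphisms]
  (hΦ : ∀ (M : X.Modules) (a : A), Φ.map (Formal.smulMod A M a) = Formal.smulMod A (Φ.obj M) a)
variable {r : ℕ} {a : Fin r → A} {G : ℕᵒᵖ ⥤ X.Modules} (hG : IsTower a G)

include hΦ hG in
/-- the image of a tower under an additive epimorphism-preserving `A`-linear functor is a tower -/
theorem isTower_comp : IsTower a (G ⋙ Φ) where
  epi n := by
    haveI := hG.epi n
    change Epi (Φ.map (τ G n))
    infer_instance
  exists_m j n := by
    refine ⟨Φ.map (mT hG j n), ?_⟩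
    change Φ.map (τ G n) ≫ Φ.map (mT hG j n) = _
    rw [← Φ.map_comp, τ_mT, hΦ]
    rfl

theorem mT_comp (j : Fin r) (n : ℕ) :
    mT (isTower_comp Φ hΦ hG) j n = Φ.map (mT hG j n) := by
  haveI := (isTower_comp Φ hΦ hG).epi n
  rw [← cancel_epi (τ (G ⋙ Φ) n), τ_mT]
  change _ = Φ.map (τ G n) ≫ Φ.map (mT hG j n)
  rw [← Φ.map_comp, τ_mT, hΦ]
  rfl

/-- the comparison `Φ(gr_n G) ⟶ gr_n(Φ G)` -/
noncomputable def κ (n : ℕ) : Φ.obj (gr G n) ⟶ gr (G ⋙ Φ) n :=
  kernel.lift (τ (G ⋙ Φ) n) (Φ.map (kernel.ι (τ G n))) (by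
    change Φ.map (kernel.ι (τ G n)) ≫ Φ.map (τ G n) = 0
    rw [← Φ.map_comp, kernel.condition, Φ.map_zero])

@[reassoc]
theorem κ_ι (n : ℕ) : κ Φ (G := G) n ≫ kernel.ι (τ (G ⋙ Φ) n) = Φ.map (kernel.ι (τ G n)) :=
  kernel.lift_ι _ _ _

/-- the comparison is compatible with the operators -/
theorem κ_tgT (j : Fin r) (n : ℕ) :
    Φ.map (tgT hG j n) ≫ κ Φ (n + 1) = κ Φ n ≫ tgT (isTower_comp Φ hΦ hG) j n := by
  rw [← cancel_mono (kernel.ι (τ (G ⋙ Φ) (n + 1))), Category.assoc, Category.assoc, κ_ι, tgT_ι,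
    ← Category.assoc (κ Φ n), κ_ι, mT_comp Φ hΦ hG, ← Φ.map_comp, ← Φ.map_comp, tgT_ι]

/-- the comparison is an isomorphism when `Φ` maps `0 → gr_n G → G_{n+1} → G_n` to a left exact sequence -/
theorem isIso_κ (n : ℕ)
    (h : IsLimit (KernelFork.ofι (f := Φ.map (τ G n)) (Φ.map (kernel.ι (τ G n))) (by
      rw [← Φ.map_comp, kernel.condition, Φ.map_zero]))) : IsIso (κ Φ (G := G) n) := by
  have h2 : IsLimit (KernelFork.ofι (f := τ (G ⋙ Φ) n) (kernel.ι (τ (G ⋙ Φ) n))
      (kernel.condition _)) := kernelIsKernel _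
  let e := IsLimit.conePointUniqueUpToIso h h2
  have he : e.hom = κ Φ (G := G) n := by
    rw [← cancel_mono (kernel.ι (τ (G ⋙ Φ) n)), κ_ι]
    exact IsLimit.conePointUniqueUpToIso_hom_comp h h2 WalkingParallelPair.zero
  rw [← he]
  infer_instance

end functor

section sys

variable {X : Scheme.{u}} {r : ℕ}

/-- a morphism of graded systems -/
structure SysHom (S S' : CohSys X r) where
  f : ∀ n, S.M n ⟶ S'.M n
  comm : ∀ j n, S.t j n ≫ f (n + 1) = f n ≫ S'.t j n

variable (S : ℕ → CohSys X r) (θ : ∀ k, SysHom (S (k + 1)) (S k))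
  (hθ : ∀ k m, m ≤ k → IsIso ((θ k).f m))
  (N₀ : ℕ) (hN : ∀ k, IsFG (S k).M (S k).t N₀)

/-- the operators of the glued system -/
noncomputable def glueT (j : Fin r) (m : ℕ) : (S m).M m ⟶ (S (m + 1)).M (m + 1) :=
  haveI := hθ m m le_rfl
  inv ((θ m).f m) ≫ (S (m + 1)).t j m

include hθ in
theorem glueT_comm (i j : Fin r) (m : ℕ) :
    glueT S θ hθ j m ≫ glueT S θ hθ i (m + 1) = glueT S θ hθ i m ≫ glueT S θ hθ j (m + 1) := by
  haveI := hθ m m le_rfl
  haveI := hθ (m + 1) (m + 1) le_rfl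
  haveI := hθ (m + 1) m (Nat.le_succ m)
  have key : ∀ j : Fin r, (S (m + 1)).t j m ≫ inv ((θ (m + 1)).f (m + 1)) =
      inv ((θ (m + 1)).f m) ≫ (S (m + 1 + 1)).t j m := by
    intro j
    rw [IsIso.comp_inv_eq, Category.assoc, (θ (m + 1)).comm j m, IsIso.inv_hom_id_assoc]
  unfold glueT
  simp only [Category.assoc]
  rw [← Category.assoc ((S (m + 1)).t j m), key j, ← Category.assoc ((S (m + 1)).t i m), key i]
  simp only [Category.assoc]
  rw [(S (m + 1 + 1)).comm i j m]

include hN in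
theorem glue_isFG : IsFG (fun m => (S m).M m) (glueT S θ hθ) N₀ := by
  intro m hm
  haveI := hθ m m le_rfl
  haveI : Epi (σ (S (m + 1)).M (S (m + 1)).t m) := hN (m + 1) m hm
  have h1 : σ (fun m => (S m).M m) (glueT S θ hθ) m =
      Limits.Sigma.map (fun _ : Fin r => inv ((θ m).f m)) ≫ σ (S (m + 1)).M (S (m + 1)).t m := by
    apply Sigma.hom_ext
    intro j
    refine (ι_σ (fun m => (S m).M m) (glueT S θ hθ) j m).trans ?_
    rw [Sigma.ι_map_assoc, ι_σ]
    rfl
  rw [h1]
  haveI : IsIso (Limits.Sigma.map (fun _ : Fin r => inv ((θ m).f m))) := by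
    refine ⟨⟨Limits.Sigma.map (fun _ : Fin r => (θ m).f m), ?_, ?_⟩⟩
    · apply Sigma.hom_ext
      intro j
      simp
    · apply Sigma.hom_ext
      intro j
      simp
  exact epi_comp _ _

/-- the glued system -/
noncomputable def glue : CohSys X r where
  M := fun m => (S m).M m
  t := glueT S θ hθ
  coh := fun m => (S m).coh m
  comm := fun i j m => glueT_comm S θ hθ i j m
  N := N₀
  fg := glue_isFG S θ hθ N₀ hN

include hθ in
theorem nonempty_glue_iso (m k : ℕ) (hk : m ≤ k) : Nonempty ((S k).M m ≅ (S m).M m) := by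
  induction k, hk using Nat.le_induction with
  | base => exact ⟨Iso.refl _⟩
  | succ k hk ih =>
    obtain ⟨e⟩ := ih
    haveI := hθ k m hk
    exact ⟨asIso ((θ k).f m) ≪≫ e⟩

end sys

section mapSys

variable {X Y : Scheme.{u}} {r : ℕ} (Φ : X.Modules ⥤ Y.Modules)
  [PreservesColimitsOfShape (Discrete (Fin r)) Φ] [Φ.PreservesEpimorphisms]
  (hcoh : ∀ M : X.Modules, Coh.IsCoh M → Coh.IsCoh (Φ.obj M))

theorem σ_map (M : ℕ → X.Modules) (t : Fin r → ∀ n, M n ⟶ M (n + 1)) (n : ℕ) :
    σ (fun n => Φ.obj (M n)) (fun j n => Φ.map (t j n)) n =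
      sigmaComparison Φ (fun _ : Fin r => M n) ≫ Φ.map (σ M t n) := by
  apply Sigma.hom_ext
  intro j
  refine (ι_σ (fun n => Φ.obj (M n)) (fun j n => Φ.map (t j n)) j n).trans ?_
  rw [ι_comp_sigmaComparison_assoc, ← Φ.map_comp, ι_σ]

/-- the image of a graded system under a functor preserving finite coproducts, epimorphisms and coherence -/
noncomputable def mapSys (S : CohSys X r) : CohSys Y r where
  M := fun n => Φ.obj (S.M n)
  t := fun j n => Φ.map (S.t j n)
  coh := fun n => hcoh _ (S.coh n)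
  comm := fun i j n => by rw [← Φ.map_comp, ← Φ.map_comp, S.comm]
  N := S.N
  fg := by
    intro n hn
    haveI := S.fg n hn
    rw [σ_map]
    exact epi_comp _ _

end mapSys

section towerSys

variable {A : Type u} [CommRing A] {X : Scheme.{u}} [X.Over (Spec (CommRingCat.of A))]
  {r : ℕ} {a : Fin r → A} {G : ℕᵒᵖ ⥤ X.Modules} (hG : IsTower a G)
  (hgr : ∀ n, Coh.IsCoh (gr G n)) (N : ℕ) (hfg : IsFG (gr G) (tgT hG) N)

/-- the graded system of a tower with coherent graded pieces -/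
noncomputable def towerSys : CohSys X r where
  M := gr G
  t := tgT hG
  coh := hgr
  comm := tgT_comm hG
  N := N
  fg := hfg

end towerSys

end Groth.Agent.Lib.T2H9.Thick
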