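import Mathlib
import Groth.Agent.Lib.T2H9Thick1
import Groth.Agent.Lib.T2H9Thick2
import Groth.Agent.Lib.T2H5GenIsoA
import Groth.Agent.Lib.T2H5Devissage

/-! # Chains of thickenings over `Spec (A/J^{k+1})` (helper9)

`isPullback_of_mono`, `ker_φT_specQuot`, the chain lemmas (`chain_hi`, `chain_hpbA`, `chain_isClosedImmersion`, `jj`,
`chain_hpbJ`, `chain_hjj`, `chain_isClosedImmersion_jj`, `nonempty_pullback_jj_iso`), `killedBy_gr`, `epi_sigma_pb`,
`isCoh_gr` (graded pieces of an adic system of finite type quasi-coherent modules are of finite type, no Noetherian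
hypothesis). -/

set_option autoImplicit false
set_option linter.style.haveILetI false
set_option linter.unusedVariables false
set_option linter.unusedSectionVars false
universe u
open CategoryTheory CategoryTheory.Limits Opposite AlgebraicGeometry TopologicalSpace

namespace Groth.Agent.Lib.T2H9.Thick

open Groth.Agent.Lib.T2H2.AlgzB Groth.Agent.Lib.T2H9.GrSys Groth.Agent.Lib.T2H9.GrAdic
  Groth.Agent.Lib.T2H9.Tower Groth.Agent.Lib.T2H9.FibQuot

section cat

variable {C : Type*} [Category C]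

theorem isPullback_of_mono {W Y Z : C} (g : W ⟶ Y) (m : Y ⟶ Z) [Mono m] :
    IsPullback g (𝟙 W) m (g ≫ m) := by
  have h1 : IsPullback g (𝟙 W) (𝟙 Y) g := IsPullback.of_vert_isIso ⟨by simp⟩
  have h2 : IsPullback (𝟙 Y) (𝟙 Y) m m := IsKernelPair.id_of_mono m
  have h3 := h1.paste_horiz h2
  simpa using h3

end cat

section specQuot

variable {A : Type u} [CommRing A]

theorem ker_φT_SpecMap_mk (K : Ideal A) :
    RingHom.ker (φT (Spec.map (CommRingCat.ofHom (Ideal.Quotient.mk K)))) = K := by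
  ext a
  rw [RingHom.mem_ker]
  unfold φT
  have h2 := Scheme.ΓSpecIso_naturality (CommRingCat.ofHom (Ideal.Quotient.mk K))
  have h3 := congrArg (fun t => t.hom ((Scheme.ΓSpecIso (CommRingCat.of A)).inv.hom a)) h2
  simp only [CommRingCat.hom_comp, RingHom.coe_comp, Function.comp_apply] at h3
  have h4 : (Scheme.ΓSpecIso (CommRingCat.of A)).hom.hom
      ((Scheme.ΓSpecIso (CommRingCat.of A)).inv.hom a) = a :=
    congrArg (fun t => t.hom a) (Scheme.ΓSpecIso (CommRingCat.of A)).inv_hom_id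
  rw [h4] at h3
  have hinj : Function.Injective (Scheme.ΓSpecIso (CommRingCat.of (A ⧸ K))).hom.hom :=
    ((ConcreteCategory.isIso_iff_bijective (Scheme.ΓSpecIso _).hom).1 inferInstance).1
  constructor
  · intro h
    change (Spec.map _).appTop.hom _ = 0 at h
    rw [h, map_zero] at h3
    exact Ideal.Quotient.eq_zero_iff_mem.1 h3.symm
  · intro h
    change (Spec.map _).appTop.hom _ = 0
    apply hinj
    rw [map_zero]
    refine h3.trans ?_
    exact Ideal.Quotient.eq_zero_iff_mem.2 h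

variable (J : Ideal A)

instance isClosedImmersion_specQuot (k : ℕ) : IsClosedImmersion (CohB1.specQuot J k) := by
  unfold CohB1.specQuot
  exact IsClosedImmersion.spec_of_surjective _ Ideal.Quotient.mk_surjective

theorem ker_φT_specQuot (k : ℕ) : RingHom.ker (φT (CohB1.specQuot J k)) = J ^ (k + 1) :=
  ker_φT_SpecMap_mk (J ^ (k + 1))

end specQuot

section chain

variable {A : Type u} [CommRing A] (J : Ideal A)
  (Xs : ℕ → Scheme.{u}) [∀ k, (Xs k).Over (Spec (CommRingCat.of A))]
  (p : ∀ k, Xs k ⟶ Spec (CommRingCat.of (A ⧸ J ^ (k + 1))))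
  (hs : ∀ k, Xs k ↘ Spec (CommRingCat.of A) = p k ≫ CohB1.specQuot J k)
  (i : ∀ k, Xs k ⟶ Xs (k + 1))
  (hcart : ∀ k, IsPullback (i k) (p k) (p (k + 1)) (CohB1.specQuotTrans J k))

include hs hcart in
theorem chain_hi (k : ℕ) :
    i k ≫ (Xs (k + 1) ↘ Spec (CommRingCat.of A)) = Xs k ↘ Spec (CommRingCat.of A) := by
  rw [hs, hs, ← Category.assoc, (hcart k).w, Category.assoc, CohB1.specQuotTrans_specQuot]

include hs hcart in
theorem chain_hpbA (k : ℕ) :
    IsPullback (i k) (p k) (Xs (k + 1) ↘ Spec (CommRingCat.of A)) (CohB1.specQuot J k) := by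
  have h1 := isPullback_of_mono (CohB1.specQuotTrans J k) (CohB1.specQuot J (k + 1))
  have h2 := (hcart k).paste_vert h1
  rw [CohB1.specQuotTrans_specQuot, Category.comp_id, ← hs] at h2
  exact h2

include hs hcart in
theorem chain_isClosedImmersion (k : ℕ) : IsClosedImmersion (i k) :=
  isClosedImmersion_of_isPullback (Xs (k + 1)) (i k) (p k) (CohB1.specQuot J k)
    (chain_hpbA J Xs p hs i hcart k)

/-- the composite closed immersion `X_0 ⟶ X_k` -/
noncomputable def jj : ∀ k, Xs 0 ⟶ Xs k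
  | 0 => 𝟙 _
  | (k + 1) => jj k ≫ i k

/-- the composite `Spec (A/J) ⟶ Spec (A/J^{k+1})` -/
noncomputable def tt : ∀ k, Spec (CommRingCat.of (A ⧸ J ^ (0 + 1))) ⟶ Spec (CommRingCat.of (A ⧸ J ^ (k + 1)))
  | 0 => 𝟙 _
  | (k + 1) => tt k ≫ CohB1.specQuotTrans J k

theorem tt_specQuot (k : ℕ) : tt J k ≫ CohB1.specQuot J k = CohB1.specQuot J 0 := by
  induction k with
  | zero => exact Category.id_comp _
  | succ k ih =>
    change (tt J k ≫ CohB1.specQuotTrans J k) ≫ CohB1.specQuot J (k + 1) = _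
    rw [Category.assoc, CohB1.specQuotTrans_specQuot, ih]

include hcart in
theorem chain_hpbS (k : ℕ) : IsPullback (jj Xs i k) (p 0) (p k) (tt J k) := by
  induction k with
  | zero =>
    haveI : IsIso (jj Xs i 0) := inferInstanceAs (IsIso (𝟙 (Xs 0)))
    haveI : IsIso (tt J 0) := inferInstanceAs (IsIso (𝟙 _))
    exact IsPullback.of_horiz_isIso ⟨by simp [jj, tt]⟩
  | succ k ih => exact ih.paste_horiz (hcart k)

include hs hcart in
theorem chain_hpbJ (k : ℕ) :
    IsPullback (jj Xs i k) (p 0) (Xs k ↘ Spec (CommRingCat.of A)) (CohB1.specQuot J 0) := by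
  have h1 := isPullback_of_mono (tt J k) (CohB1.specQuot J k)
  have h2 := (chain_hpbS J Xs p i hcart k).paste_vert h1
  rw [tt_specQuot, Category.comp_id, ← hs] at h2
  exact h2

include hs hcart in
theorem chain_hjj (k : ℕ) :
    jj Xs i k ≫ (Xs k ↘ Spec (CommRingCat.of A)) = Xs 0 ↘ Spec (CommRingCat.of A) := by
  induction k with
  | zero => exact Category.id_comp _
  | succ k ih =>
    change (jj Xs i k ≫ i k) ≫ _ = _
    rw [Category.assoc, chain_hi J Xs p hs i hcart k, ih]

include hs hcart in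
theorem chain_isClosedImmersion_jj (k : ℕ) : IsClosedImmersion (jj Xs i k) :=
  isClosedImmersion_of_isPullback (Xs k) (jj Xs i k) (p 0) (CohB1.specQuot J 0)
    (chain_hpbJ J Xs p hs i hcart k)

end chain

section chainMod

variable (Xs : ℕ → Scheme.{u}) (i : ∀ k, Xs k ⟶ Xs (k + 1))
  (F : ∀ k, (Xs k).Modules)
  (ψ : ∀ k, Nonempty ((Scheme.Modules.pullback (i k)).obj (F (k + 1)) ≅ F k))

include ψ in
/-- a compatible system of modules pulls back to the bottom level -/
theorem nonempty_pullback_jj_iso (k : ℕ) :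
    Nonempty ((Scheme.Modules.pullback (jj Xs i k)).obj (F k) ≅ F 0) := by
  induction k with
  | zero => exact ⟨(Scheme.Modules.pullbackId (Xs 0)).app (F 0)⟩
  | succ k ih =>
    obtain ⟨e⟩ := ih
    obtain ⟨ε⟩ := ψ k
    exact ⟨((Scheme.Modules.pullbackComp (jj Xs i k) (i k)).symm.app (F (k + 1))) ≪≫
      (Scheme.Modules.pullback (jj Xs i k)).mapIso ε ≪≫ e⟩

end chainMod

section level

variable {A : Type u} [CommRing A] {X : Scheme.{u}} [X.Over (Spec (CommRingCat.of A))]
  {J : Ideal A} {G : ℕᵒᵖ ⥤ X.Modules} (hA : IsAdic J G)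

include hA in
/-- the graded pieces of an adic system are killed by `J` -/
theorem killedBy_gr (n : ℕ) : Formal.KilledBy J (gr G n) := by
  intro c hc
  apply eq_zero_of_lift_comp (hA.quot n)
  intro b hb
  rw [← cancel_mono (kernel.ι (τ G n)), Category.assoc, Groth.Agent.S9530.smulMod_comp,
    kernel.lift_ι_assoc, zero_comp, ← Groth.Agent.Lib.T2H9.ModPow.smulMod_mul]
  refine hA.kill (n + 1) (c * b) ?_
  rw [pow_succ' J (n + 1)]
  exact Ideal.mul_mem_mul hc hb

variable {r : ℕ} (a : Fin r → A) (hspan : Ideal.span (Set.range a) = J)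

theorem pb_smul (n : ℕ) (s b : A) (hb : b ∈ J ^ (n + 1)) :
    pb hA n (s * b) (Ideal.mul_mem_left _ s hb) =
      pb hA n b hb ≫ Formal.smulMod A (gr G n) s := by
  rw [← cancel_mono (kernel.ι (τ G n)), Category.assoc, Groth.Agent.S9530.smulMod_comp,
    pb_ι_assoc, pb_ι, ← Groth.Agent.Lib.T2H9.ModPow.smulMod_mul]

include hspan in
/-- the bottom graded piece is generated by the multiplications by the generators of `J` -/
theorem epi_sigma_pb :
    Epi (Sigma.desc fun j : Fin r =>
      pb hA 0 (a j) (by rw [zero_add, pow_one]; exact mem_gen a hspan j)) := by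
  apply Preadditive.epi_of_cancel_zero
  intro Z g hg
  apply eq_zero_of_lift_comp (hA.quot 0) g
  intro b hb
  change pb hA 0 b hb ≫ g = 0
  let C : A → Prop := fun b => ∃ hb : b ∈ J ^ (0 + 1), pb hA 0 b hb ≫ g = 0
  suffices hC : C b from hC.2
  have hb' : b ∈ Ideal.span (Set.range a) := by
    rw [hspan]; rwa [zero_add, pow_one] at hb
  induction hb' using Submodule.span_induction with
  | mem x hx =>
    obtain ⟨j, rfl⟩ := hx
    refine ⟨by rw [zero_add, pow_one]; exact mem_gen a hspan j, ?_⟩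
    have := congrArg (fun k => Sigma.ι (fun _ : Fin r => G.obj (op (0 + 1))) j ≫ k) hg
    simpa using this
  | zero => exact ⟨Ideal.zero_mem _, by rw [pb_zero, zero_comp]⟩
  | add x y _ _ hx hy =>
    obtain ⟨hx1, hx2⟩ := hx (by rw [zero_add, pow_one, ← hspan]; assumption)
    obtain ⟨hy1, hy2⟩ := hy (by rw [zero_add, pow_one, ← hspan]; assumption)
    exact ⟨Ideal.add_mem _ hx1 hy1, by
      rw [pb_add hA 0 x y hx1 hy1, Preadditive.add_comp, hx2, hy2, add_zero]⟩
  | smul s x _ hx =>
    obtain ⟨hx1, hx2⟩ := hx (by rw [zero_add, pow_one, ← hspan]; assumption)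
    refine ⟨Ideal.mul_mem_left _ s hx1, ?_⟩
    change pb hA 0 (s * x) _ ≫ g = 0
    rw [pb_smul hA 0 s x hx1, Category.assoc, Groth.Agent.S9530.smulMod_comp, ← Category.assoc, hx2,
      zero_comp]

include hA hspan in
/-- the graded pieces of an adic system of quasi-coherent modules of finite type are of finite type -/
theorem isCoh_gr (hcoh : ∀ n, Coh.IsCoh (G.obj (op n))) (n : ℕ) : Coh.IsCoh (gr G n) := by
  have hq : ∀ n, (gr G n).IsQuasicoherent := fun n => by
    haveI := (hcoh (n + 1)).1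
    haveI := (hcoh n).1
    exact Groth.Agent.Lib.Helper23.QCohLocal.isQuasicoherent_kernel _
  induction n with
  | zero =>
    have hepi := epi_sigma_pb hA a hspan
    exact @Groth.Agent.Lib.T2H5.Devissage.isCoh_of_epi _ _ _ _ hepi
      (Groth.Agent.Lib.T2H5.GenIsoA.isCoh_sigma _ (fun _ => hcoh (0 + 1))) (hq 0)
  | succ n ih =>
    haveI : Epi (σ (gr G) (tgs hA a hspan) n) := isFG_gr hA a hspan n (Nat.zero_le n)
    exact Groth.Agent.Lib.T2H5.Devissage.isCoh_of_epi (σ (gr G) (tgs hA a hspan) n)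
      (Groth.Agent.Lib.T2H5.GenIsoA.isCoh_sigma _ (fun _ => ih)) (hq (n + 1))

end level

end Groth.Agent.Lib.T2H9.Thick
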