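import Mathlib
import Groth.Agent.Lib.T2H9EtLiftGeo
import Groth.Agent.Lib.T2H9Thick4
import Groth.Agent.Lib.T2H9FibField
import Groth.Agent.Lib.T2H9FBCZero

/-! # Lifting sections of `O_X/𝔪O_X` when the closed fibre has étale functions (helper9)

`uP`, `isQuotBy_uP` (`O_X ⟶ i_* O_Z` is the quotient by `𝔞` for the base change `Z` of `V(𝔞)`), `cP`, `uP_cP`,
`surjective_HH0_of_surjective_appTop`, `exists_residue_map`, `φT_comp_SpecMap`, and `surjective_HH0_cmap`: for `X` locally of
finite type over a Noetherian local ring `A` whose closed fibre has an étale algebra of functions, every section of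
`O_X/𝔪O_X` lifts to `O_X/𝔪^{N+1}O_X` (EGA III 7.8.7, levelwise part). -/

set_option autoImplicit false
set_option linter.style.haveILetI false
set_option linter.unusedVariables false
set_option linter.unusedSectionVars false
universe u
open CategoryTheory CategoryTheory.Limits Opposite AlgebraicGeometry TopologicalSpace

namespace Groth.Agent.Lib.T2H9.EtLiftMain

open Groth.Agent.Lib.T2H2.AlgzB Groth.Agent.Lib.T2H9.FibQuot Groth.Agent.Lib.T2H9.FlatFib
  Groth.Agent.Lib.T2H9.Thick Groth.Agent.Lib.T2H9.FBCZero Groth.Agent.Lib.Helper23.PB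

/-- the canonical map `O_X ⟶ i_* O_Z` -/
noncomputable abbrev uP {Z X : Scheme.{u}} (i : Z ⟶ X) :
    Coh.structureModule X ⟶ (Scheme.Modules.pushforward i).obj (Coh.structureModule Z) :=
  SheafOfModules.unitToPushforwardObjUnit i.toRingCatSheafHom

section base

variable {A : Type u} [CommRing A]
variable (X : Scheme.{u}) [X.Over (Spec (CommRingCat.of A))]
variable {Z T : Scheme.{u}} (i : Z ⟶ X) (q : Z ⟶ T) (f : T ⟶ Spec (CommRingCat.of A))
  (hpb : IsPullback i q (X ↘ Spec (CommRingCat.of A)) f) [IsClosedImmersion f]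
  [IsClosedImmersion i] (𝔞 : Ideal A) (h𝔞 : RingHom.ker (φT f) = 𝔞)

include hpb h𝔞 in
/-- `O_X ⟶ i_* O_Z` is the quotient by `𝔞` when `Z` is the base change of `V(𝔞)` -/
theorem isQuotBy_uP : IsQuotBy 𝔞 (uP i) := by
  haveI : (Coh.structureModule X).IsQuasicoherent :=
    (Groth.Agent.Lib.T2H5.GenIsoF.isCoh_structureModule).1
  have h1 := isQuotBy_η X i q f hpb 𝔞 h𝔞 (Coh.structureModule X)
  have h2 := h1.comp_iso ((Scheme.Modules.pushforward i).mapIso (pullbackUnitIso i))
  refine h2.of_eq ?_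
  exact Groth.Agent.Lib.T2H9.FibField.unit_comp_pushforward_pullbackUnitHom i

end base

section comp

variable {X Z W₀ : Scheme.{u}} (i : Z ⟶ X) (j : W₀ ⟶ Z)

/-- `i_* O_Z ⟶ (j ≫ i)_* O_{W₀}` -/
noncomputable def cP : (Scheme.Modules.pushforward i).obj (Coh.structureModule Z) ⟶
    (Scheme.Modules.pushforward (j ≫ i)).obj (Coh.structureModule W₀) :=
  (Scheme.Modules.pushforward i).map (uP j) ≫
    (Scheme.Modules.pushforwardComp j i).hom.app (Coh.structureModule W₀)

theorem uP_cP : uP i ≫ cP i j = uP (j ≫ i) := by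
  ext U s
  rfl

theorem cP_app_top_surjective (h : Function.Surjective j.appTop.hom) :
    Function.Surjective ((cP i j).app ⊤) := h

end comp

section transfer

variable {A : Type u} [CommRing A]
variable (X : Scheme.{u}) [X.Over (Spec (CommRingCat.of A))]
variable {Z W₀ : Scheme.{u}} (i : Z ⟶ X) (j : W₀ ⟶ Z)

/-- if `M = O_X/J`, `M' = O_X/J'` are realised by `Z` and `W₀ ⊆ Z` and functions extend from `W₀` to `Z`, then
`H^0(X, M) → H^0(X, M')` is surjective -/
theorem surjective_HH0_of_surjective_appTop {J J' : Ideal A} {M M' : X.Modules}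
    (t : Coh.structureModule X ⟶ M) (t' : Coh.structureModule X ⟶ M') (c : M ⟶ M') (hc : t ≫ c = t')
    (ht : IsQuotBy J t) (ht' : IsQuotBy J' t') (hu : IsQuotBy J (uP i)) (hu' : IsQuotBy J' (uP (j ≫ i)))
    (h : Function.Surjective j.appTop.hom) :
    Function.Surjective (Sheaf.H.map ((SheafOfModules.toSheaf X.ringCatSheaf).map c) 0) := by
  obtain ⟨α, hα⟩ := ht.exists_iso hu
  obtain ⟨α', hα'⟩ := ht'.exists_iso hu'
  have hsq : c ≫ α'.hom = α.hom ≫ cP i j := by
    haveI := ht.epi
    rw [← cancel_epi t, ← Category.assoc, hc, hα', ← Category.assoc, hα, uP_cP]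
  have hc' : c = α.hom ≫ cP i j ≫ α'.inv := by
    rw [← Category.assoc, ← hsq, Category.assoc, α'.hom_inv_id, Category.comp_id]
  have hsurj : ∀ {P Q : X.Modules} (ψ : P ⟶ Q), Function.Surjective (ψ.app ⊤) →
      Function.Surjective (Sheaf.H.map ((SheafOfModules.toSheaf X.ringCatSheaf).map ψ) 0) := by
    intro P Q ψ hψ y
    obtain ⟨x, hx⟩ := hψ (hh0Γ X Q y)
    refine ⟨(hh0Γ X P).symm x, ?_⟩
    apply (hh0Γ X Q).injective
    rw [hh0Γ_map, AddEquiv.apply_symm_apply, hx]
  have hiso : ∀ {P Q : X.Modules} (e : P ≅ Q), Function.Surjective (e.hom.app ⊤) := by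
    intro P Q e y
    refine ⟨e.inv.app ⊤ y, ?_⟩
    have : (e.inv ≫ e.hom).app ⊤ y = y := by rw [e.inv_hom_id]; rfl
    exact this
  rw [hc']
  apply hsurj
  have h1 := (hiso α'.symm).comp ((cP_app_top_surjective i j h).comp (hiso α))
  exact h1

end transfer

section residue

variable {A : Type u} [CommRing A] (y : Spec (CommRingCat.of A))

/-- the residue field map of a closed point `y` of `Spec A`, as a ring map with `Spec` the inclusion of the point -/
theorem exists_residue_map (hmax : y.asIdeal.IsMaximal) :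
    ∃ τ : CommRingCat.of A ⟶ (Spec (CommRingCat.of A)).residueField y,
      Spec.map τ = (Spec (CommRingCat.of A)).fromSpecResidueField y ∧
      RingHom.ker τ.hom = y.asIdeal ∧ Function.Surjective τ.hom := by
  obtain ⟨τ, hτ⟩ := Spec.map_surjective ((Spec (CommRingCat.of A)).fromSpecResidueField y)
  have hker : RingHom.ker τ.hom = y.asIdeal := by
    rw [← Groth.Agent.Lib.T2H9.FibVan.ker_φT_SpecMap τ, hτ]
    exact ker_φT_fromSpecResidueField y
  refine ⟨τ, hτ, hker, ?_⟩
  have hcl : IsClosed ({y} : Set (Spec (CommRingCat.of A))) :=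
    (PrimeSpectrum.isClosed_singleton_iff_isMaximal y).2 hmax
  haveI : IsClosedImmersion (Spec.map τ) := by
    rw [hτ]
    exact isClosed_singleton_iff_isClosedImmersion.1 hcl
  have h1 := (IsClosedImmersion.isAffine_surjective_of_isAffine (Spec.map τ)).2
  have h2 := Scheme.ΓSpecIso_naturality τ
  intro b
  obtain ⟨a, ha⟩ := h1 ((Scheme.ΓSpecIso _).inv.hom b)
  refine ⟨(Scheme.ΓSpecIso (CommRingCat.of A)).hom.hom a, ?_⟩
  have h3 := congrArg (fun φ => φ.hom a) h2
  simp only [CommRingCat.hom_comp, RingHom.coe_comp, Function.comp_apply] at h3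
  rw [← h3, ha]
  exact congrArg (fun φ => φ.hom b) (Scheme.ΓSpecIso _).inv_hom_id

end residue

theorem φT_comp_SpecMap {A : Type u} [CommRing A] {Z : Scheme.{u}} {K : CommRingCat.{u}}
    (q : Z ⟶ Spec K) (ψ : CommRingCat.of A ⟶ K) (a : A) :
    φT (A := A) (q ≫ Spec.map ψ) a = q.appTop.hom ((Scheme.ΓSpecIso K).inv.hom (ψ.hom a)) := by
  unfold φT
  have h1 := Scheme.ΓSpecIso_inv_naturality ψ
  have h2 := congrArg (fun t => t.hom a) h1
  simp only [CommRingCat.hom_comp, RingHom.coe_comp, Function.comp_apply] at h2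
  change (q ≫ Spec.map ψ).appTop.hom ((Scheme.ΓSpecIso (CommRingCat.of A)).inv.hom a) =
    q.appTop.hom ((Scheme.ΓSpecIso K).inv.hom (ψ.hom a))
  rw [h2]
  rfl

section main

open Groth.Agent.Lib.T2H9.FFMain Groth.Agent.Lib.T2H9.EtLiftGeo

variable {A : Type u} [CommRing A] [IsNoetherianRing A] [IsLocalRing A]
variable (X : Scheme.{u}) [X.Over (Spec (CommRingCat.of A))]
  [LocallyOfFiniteType (X ↘ Spec (CommRingCat.of A))]
variable (y : Spec (CommRingCat.of A)) (hy : y.asIdeal = IsLocalRing.maximalIdeal A)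
  (het : Algebra.Etale ((Spec (CommRingCat.of A)).residueField y)
    Γ((X ↘ Spec (CommRingCat.of A)).fiber y, ⊤))

include hy het in
/-- if the functions on the closed fibre form an étale algebra over the residue field, every section of `O_X/𝔪O_X` lifts to
`O_X/𝔪^{N+1}O_X` -/
theorem surjective_HH0_cmap (N : ℕ) :
    Function.Surjective (Sheaf.H.map ((SheafOfModules.toSheaf X.ringCatSheaf).map
      (cmap (IsLocalRing.maximalIdeal A) (Coh.structureModule X) (Nat.zero_le N))) 0) := by
  set 𝔪 := IsLocalRing.maximalIdeal A with h𝔪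
  set f := (X ↘ Spec (CommRingCat.of A)) with hf
  have hmax : y.asIdeal.IsMaximal := by rw [hy]; infer_instance
  obtain ⟨τ, hτ, hkerτ, hτsurj⟩ := exists_residue_map y hmax
  haveI : IsClosedImmersion ((Spec (CommRingCat.of A)).fromSpecResidueField y) := by
    rw [← hτ]
    exact IsClosedImmersion.spec_of_surjective τ hτsurj
  -- the level `N`
  let fN := CohB1.specQuot 𝔪 N
  haveI : IsClosedImmersion fN := by
    unfold fN CohB1.specQuot
    exact IsClosedImmersion.spec_of_surjective _ Ideal.Quotient.mk_surjective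
  let Z := pullback f fN
  let iN : Z ⟶ X := pullback.fst f fN
  let qN : Z ⟶ _ := pullback.snd f fN
  have hpbN : IsPullback iN qN f fN := IsPullback.of_hasPullback f fN
  haveI : IsClosedImmersion iN := isClosedImmersion_of_isPullback X iN qN fN hpbN
  -- the fibre
  let iy := f.fiberι y
  have hpby : IsPullback iy (f.fiberToSpecResidueField y) f
      ((Spec (CommRingCat.of A)).fromSpecResidueField y) := IsPullback.of_hasPullback _ _
  haveI : IsClosedImmersion iy := isClosedImmersion_of_isPullback X iy _ _ hpby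
  -- the map from the fibre to the level
  have hle : 𝔪 ^ (N + 1) ≤ RingHom.ker τ.hom := by
    rw [hkerτ, hy]
    exact Ideal.pow_le_self (Nat.succ_ne_zero N)
  let τN : (A ⧸ 𝔪 ^ (N + 1)) →+* (Spec (CommRingCat.of A)).residueField y :=
    Ideal.Quotient.lift (𝔪 ^ (N + 1)) τ.hom (fun a ha => hle ha)
  let tN := Spec.map (CommRingCat.ofHom τN)
  have htN : tN ≫ fN = (Spec (CommRingCat.of A)).fromSpecResidueField y := by
    rw [← hτ]
    unfold tN fN CohB1.specQuot
    rw [← Spec.map_comp]
    congr 1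
  let j : f.fiber y ⟶ Z := hpbN.lift iy (f.fiberToSpecResidueField y ≫ tN) (by
    rw [Category.assoc, htN]
    exact hpby.w)
  have hj1 : j ≫ iN = iy := hpbN.lift_fst _ _ _
  have hj2 : j ≫ qN = f.fiberToSpecResidueField y ≫ tN := hpbN.lift_snd _ _ _
  haveI : IsClosedImmersion (j ≫ iN) := by rw [hj1]; infer_instance
  haveI : IsClosedImmersion j := IsClosedImmersion.of_comp j iN
  -- `j` is surjective
  have hjsurj : Function.Surjective j := by
    intro z
    have hx : f (iN z) = y := by
      have h1 : f (iN z) = fN (qN z) := by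
        have := congrArg (fun φ : Z ⟶ Spec (CommRingCat.of A) => φ z) hpbN.w
        exact this
      rw [h1]
      apply PrimeSpectrum.ext
      have h2 : 𝔪 ^ (N + 1) ≤ (fN (qN z)).asIdeal := by
        intro a ha
        change a ∈ Ideal.comap (Ideal.Quotient.mk (𝔪 ^ (N + 1))) (qN z).asIdeal
        rw [Ideal.mem_comap, Ideal.Quotient.eq_zero_iff_mem.2 ha]
        exact Ideal.zero_mem _
      have h3 : 𝔪 ≤ (fN (qN z)).asIdeal := (fN (qN z)).isPrime.le_of_pow_le h2
      rw [hy]
      exact ((IsLocalRing.maximalIdeal.isMaximal A).eq_of_le (fN (qN z)).isPrime.ne_top h3).symm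
    have hmem : iN z ∈ Set.range iy := by
      rw [Scheme.Hom.range_fiberι]
      exact hx
    obtain ⟨w, hw⟩ := hmem
    refine ⟨w, ?_⟩
    apply iN.isEmbedding.injective
    rw [← hw, ← hj1]
    rfl
  -- `Z` is locally Noetherian
  haveI : IsLocallyNoetherian X := LocallyOfFiniteType.isLocallyNoetherian f
  haveI : IsLocallyNoetherian Z := LocallyOfFiniteType.isLocallyNoetherian iN
  -- functions extend
  have hext : Function.Surjective j.appTop.hom := by
    refine appTop_surjective_of_etale j hjsurj (φT (A := A) (iN ≫ f)) τ.hom hτsurj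
      ((f.fiberToSpecResidueField y).appTop.hom.comp
        (Scheme.ΓSpecIso ((Spec (CommRingCat.of A)).residueField y)).inv.hom) ?_ het
    intro r
    have h2 : j ≫ iN ≫ f = f.fiberToSpecResidueField y ≫ Spec.map τ := by
      rw [← Category.assoc, hj1, hτ]
      exact hpby.w
    have h1 : j.appTop.hom (φT (A := A) (iN ≫ f) r) = φT (A := A) (j ≫ iN ≫ f) r := rfl
    rw [h1, h2]
    exact φT_comp_SpecMap _ τ r
  -- conclusion
  have hu : IsQuotBy (𝔪 ^ (N + 1)) (uP iN) :=
    isQuotBy_uP X iN qN fN hpbN _ (ker_φT_specQuot 𝔪 N)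
  have hu' : IsQuotBy (𝔪 ^ (0 + 1)) (uP (j ≫ iN)) := by
    rw [hj1]
    refine isQuotBy_uP X iy _ _ hpby _ ?_
    rw [ker_φT_fromSpecResidueField, hy, zero_add, pow_one]
  exact surjective_HH0_of_surjective_appTop X iN j (Formal.modPowπ 𝔪 (N + 1) (Coh.structureModule X))
    (Formal.modPowπ 𝔪 (0 + 1) (Coh.structureModule X)) _ (modPowπ_cmap 𝔪 _ (Nat.zero_le N))
    (isQuotBy_modPowπ 𝔪 (N + 1) _) (isQuotBy_modPowπ 𝔪 (0 + 1) _) hu hu' hext

end main

end Groth.Agent.Lib.T2H9.EtLiftMain
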