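import Mathlib
import Groth.Agent.Lib.T2H9Thick1
import Groth.Agent.Lib.T2H9Thick2
import Groth.Agent.Lib.T2H5GenIsoD

/-! # Comparison of graded pieces under pullback along a thickening (helper9)

`epi_κ`, `mono_pullback_map`, `isIso_κ_pullback` (the comparison `i^*(gr_n G') ⟶ gr_n(i^* G')` is an isomorphism in the
range where `G'` is killed by the ideal of the closed immersion), `isIso_grMap`, the transition maps `θf` between the
pulled back graded pieces of consecutive levels, `θf_comm`, `isIso_θf`. -/

set_option autoImplicit false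
set_option linter.style.haveILetI false
set_option linter.unusedVariables false
set_option linter.unusedSectionVars false
universe u
open CategoryTheory CategoryTheory.Limits Opposite AlgebraicGeometry TopologicalSpace

namespace Groth.Agent.Lib.T2H9.Thick

open Groth.Agent.Lib.T2H2.AlgzB Groth.Agent.Lib.T2H9.GrSys Groth.Agent.Lib.T2H9.GrAdic
  Groth.Agent.Lib.T2H9.Tower Groth.Agent.Lib.T2H9.FibQuot

section kappa

variable {A : Type u} [CommRing A] {X X' : Scheme.{u}} [X.Over (Spec (CommRingCat.of A))]
  [X'.Over (Spec (CommRingCat.of A))] (i : X ⟶ X') [IsClosedImmersion i]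
  (hi : i ≫ (X' ↘ Spec (CommRingCat.of A)) = X ↘ Spec (CommRingCat.of A))
  {T : Scheme.{u}} (q : X ⟶ T) (f : T ⟶ Spec (CommRingCat.of A)) [IsClosedImmersion f]
  (hpb : IsPullback i q (X' ↘ Spec (CommRingCat.of A)) f) (𝔟 : Ideal A)
  (h𝔟 : RingHom.ker (φT f) = 𝔟)
variable {r : ℕ} {a : Fin r → A} {G' : ℕᵒᵖ ⥤ X'.Modules} (hG' : IsTower a G')

include hG' in
/-- for a right exact functor the comparison `Φ(gr_n G) ⟶ gr_n(Φ G)` is an epimorphism -/
theorem epi_κ {Y : Scheme.{u}} (Φ : X'.Modules ⥤ Y.Modules) [Φ.Additive] [PreservesFiniteColimits Φ]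
    (n : ℕ) : Epi (κ Φ (G := G') n) := by
  let S : ShortComplex X'.Modules :=
    ShortComplex.mk (kernel.ι (τ G' n)) (τ G' n) (kernel.condition _)
  have hS : S.Exact := ShortComplex.exact_kernel (τ G' n)
  haveI : Epi S.g := hG'.epi n
  have h1 : (S.map Φ).Exact := hS.map_of_epi_of_preservesCokernel Φ inferInstance inferInstance
  exact h1.epi_kernelLift

include hpb h𝔟 hi in
/-- pulling back a monomorphism between quasi-coherent modules killed by `𝔟` gives a monomorphism -/
theorem mono_pullback_map {K B : X'.Modules} [K.IsQuasicoherent] [B.IsQuasicoherent]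
    (hK : Formal.KilledBy 𝔟 K) (hB : Formal.KilledBy 𝔟 B) (φ : K ⟶ B) [Mono φ] :
    Mono ((Scheme.Modules.pullback i).map φ) := by
  haveI := isIso_η_of_killedBy X' i q f hpb 𝔟 h𝔟 K hK
  haveI := isIso_η_of_killedBy X' i q f hpb 𝔟 h𝔟 B hB
  have hnat : η i K ≫ (Scheme.Modules.pushforward i).map ((Scheme.Modules.pullback i).map φ) =
      φ ≫ η i B := ((Scheme.Modules.pullbackPushforwardAdjunction i).unit.naturality φ).symm
  haveI : Mono ((Scheme.Modules.pushforward i).map ((Scheme.Modules.pullback i).map φ)) := by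
    have h2 : (Scheme.Modules.pushforward i).map ((Scheme.Modules.pullback i).map φ) =
        inv (η i K) ≫ φ ≫ η i B := by
      rw [← hnat, IsIso.inv_hom_id_assoc]
    rw [h2]
    infer_instance
  haveI := Groth.Agent.Lib.T2H5.ClosedTransfer.pushforward_faithful i i.isClosedEmbedding
  exact (Scheme.Modules.pushforward i).mono_of_mono_map inferInstance

include hpb h𝔟 hi hG' in
/-- the comparison `i^*(gr_n G') ⟶ gr_n(i^* G')` is an isomorphism in the range where `G'` is killed by `𝔟` -/
theorem isIso_κ_pullback (n : ℕ) (hq : ∀ m, (G'.obj (op m)).IsQuasicoherent)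
    (hk : Formal.KilledBy 𝔟 (G'.obj (op (n + 1)))) :
    IsIso (κ (Scheme.Modules.pullback i) (G := G') n) := by
  haveI := hq (n + 1)
  haveI := hq n
  haveI : (gr G' n).IsQuasicoherent := Groth.Agent.Lib.Helper23.QCohLocal.isQuasicoherent_kernel _
  have hkK : Formal.KilledBy 𝔟 (gr G' n) := by
    intro b hb
    rw [← cancel_mono (kernel.ι (τ G' n)), Groth.Agent.S9530.smulMod_comp, hk b hb, comp_zero,
      zero_comp]
  haveI : Mono ((Scheme.Modules.pullback i).map (kernel.ι (τ G' n))) :=
    mono_pullback_map i hi q f hpb 𝔟 h𝔟 hkK hk (kernel.ι (τ G' n))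
  haveI : Mono (κ (Scheme.Modules.pullback i) (G := G') n) := by
    haveI : Mono (κ (Scheme.Modules.pullback i) (G := G') n ≫
        kernel.ι (τ (G' ⋙ Scheme.Modules.pullback i) n)) := by
      rw [κ_ι]; infer_instance
    exact mono_of_mono _ (kernel.ι (τ (G' ⋙ Scheme.Modules.pullback i) n))
  haveI : PreservesColimitsOfSize.{0, 0} (Scheme.Modules.pullback i) :=
    (Scheme.Modules.pullbackPushforwardAdjunction i).leftAdjoint_preservesColimits
  haveI : PreservesFiniteColimits (Scheme.Modules.pullback i) :=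
    PreservesColimitsOfSize.preservesFiniteColimits _
  haveI := epi_κ hG' (Scheme.Modules.pullback i) n
  exact isIso_of_mono_of_epi _

end kappa

section pullbackInst

variable {X Y : Scheme.{u}} (g : X ⟶ Y)

instance preservesEpimorphisms_pullback : (Scheme.Modules.pullback g).PreservesEpimorphisms :=
  Functor.preservesEpimorphisms_of_adjunction (Scheme.Modules.pullbackPushforwardAdjunction g)

instance preservesColimitsOfShape_pullback (r : ℕ) :
    PreservesColimitsOfShape (Discrete (Fin r)) (Scheme.Modules.pullback g) :=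
  (Scheme.Modules.pullbackPushforwardAdjunction g).leftAdjoint_preservesColimits.preservesColimitsOfShape

end pullbackInst

section grIso

variable {A : Type u} [CommRing A] {X : Scheme.{u}} [X.Over (Spec (CommRingCat.of A))]
  {G G' : ℕᵒᵖ ⥤ X.Modules}

theorem isIso_grMap (e : G ≅ G') (n : ℕ) : IsIso (grMap e.hom n) := by
  refine ⟨⟨grMap e.inv n, ?_, ?_⟩⟩
  · rw [← cancel_mono (kernel.ι (τ G n)), Category.assoc, grMap_ι, grMap_ι_assoc, Category.id_comp,
      ← NatTrans.comp_app, e.hom_inv_id, NatTrans.id_app, Category.comp_id]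
  · rw [← cancel_mono (kernel.ι (τ G' n)), Category.assoc, grMap_ι, grMap_ι_assoc, Category.id_comp,
      ← NatTrans.comp_app, e.inv_hom_id, NatTrans.id_app, Category.comp_id]

end grIso

section step

variable {A : Type u} [CommRing A] {Z X X' : Scheme.{u}} [X.Over (Spec (CommRingCat.of A))]
  [X'.Over (Spec (CommRingCat.of A))] (j : Z ⟶ X) (i : X ⟶ X')
  (hi : i ≫ (X' ↘ Spec (CommRingCat.of A)) = X ↘ Spec (CommRingCat.of A))
variable {r : ℕ} {a : Fin r → A} {G' : ℕᵒᵖ ⥤ X'.Modules} (hG' : IsTower a G')
  {G : ℕᵒᵖ ⥤ X.Modules} (hG : IsTower a G) (e : G' ⋙ Scheme.Modules.pullback i ≅ G)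

/-- the comparison of the pulled back graded pieces of two consecutive levels -/
noncomputable def θf (m : ℕ) :
    (Scheme.Modules.pullback (j ≫ i)).obj (gr G' m) ⟶ (Scheme.Modules.pullback j).obj (gr G m) :=
  (Scheme.Modules.pullbackComp j i).inv.app (gr G' m) ≫
    (Scheme.Modules.pullback j).map (κ (Scheme.Modules.pullback i) m ≫ grMap e.hom m)

include hi in
theorem θf_comm (l : Fin r) (m : ℕ) :
    (Scheme.Modules.pullback (j ≫ i)).map (tgT hG' l m) ≫ θf j i e (m + 1) =
      θf j i e m ≫ (Scheme.Modules.pullback j).map (tgT hG l m) := by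
  have hΦ := Groth.Agent.Lib.Helper20.FormalPull.pullback_map_smulMod i hi
  have h1 := κ_tgT (Scheme.Modules.pullback i) hΦ hG' l m
  have h2 := grMap_tgT (isTower_comp (Scheme.Modules.pullback i) hΦ hG') hG e.hom l m
  unfold θf
  have hnat := (Scheme.Modules.pullbackComp j i).inv.naturality (tgT hG' l m)
  rw [← Category.assoc, hnat, Category.assoc, Category.assoc, ← Functor.map_comp]
  change _ ≫ (Scheme.Modules.pullback j).map ((Scheme.Modules.pullback i).map (tgT hG' l m)) ≫ _ = _
  rw [← Functor.map_comp, ← Category.assoc ((Scheme.Modules.pullback i).map (tgT hG' l m)), h1,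
    Category.assoc, h2, ← Category.assoc]

theorem isIso_θf (m : ℕ) (hκ : IsIso (κ (Scheme.Modules.pullback i) (G := G') m)) :
    IsIso (θf j i e m) := by
  haveI := isIso_grMap e m
  unfold θf
  infer_instance

end step

end Groth.Agent.Lib.T2H9.Thick
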