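import Mathlib
import Groth.Agent.Lib.T2H9Thick3
import Groth.Agent.Lib.T2H9Thick4
import Groth.Agent.Lib.T2H5HHSub
import Groth.Agent.Lib.T2H5Twist
import Groth.Agent.S0051
import Groth.Agent.Lib.T2H5GenIsoD
import Groth.Agent.Lib.Helper20FormalPull

/-! # Uniform vanishing of the cohomology of twists on a chain of thickenings (helper9)

`subsingleton_HH_twist_of_killedBy`, `subsingleton_HH_level` (vanishing on the levels of an adic system from the
vanishing of the pulled back graded pieces on the closed fibre), the graded systems `TS`, `SS`, their transition maps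
`θθ`, `isIso_θθ`, and **`uniform_vanishing_thickenings`**: for a chain `X_k` over `Spec (A/J^{k+1})` with cartesian
squares, `X_0` proper, compatible coherent `F_k` and invertible `L_k` with `L_0` ample, one `n₀` works for all levels. -/

set_option autoImplicit false
set_option linter.style.haveILetI false
set_option linter.unusedVariables false
set_option linter.unusedSectionVars false
universe u
open CategoryTheory CategoryTheory.Limits Opposite AlgebraicGeometry TopologicalSpace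

namespace Groth.Agent.Lib.T2H9.Thick

open Groth.Agent.Lib.T2H2.AlgzB Groth.Agent.Lib.T2H9.GrSys Groth.Agent.Lib.T2H9.GrAdic
  Groth.Agent.Lib.T2H9.Tower Groth.Agent.Lib.T2H9.FibQuot

section levelVan

variable {A : Type u} [CommRing A] {X Z T : Scheme.{u}} [X.Over (Spec (CommRingCat.of A))]
  (j : Z ⟶ X) [IsClosedImmersion j] (q : Z ⟶ T) (f : T ⟶ Spec (CommRingCat.of A))
  [IsClosedImmersion f]
  (hpb : IsPullback j q (X ↘ Spec (CommRingCat.of A)) f) (J : Ideal A)
  (hJ : RingHom.ker (φT f) = J)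
  (L : X.Modules) (hL : PicF.IsInvertible L) (L₀ : Z.Modules)
  (e : (Scheme.Modules.pullback j).obj L ≅ L₀) (n p : ℕ)

include hpb hJ hL e in
/-- vanishing for a quasi-coherent module killed by `J`, from the vanishing on the closed fibre -/
theorem subsingleton_HH_twist_of_killedBy (M : X.Modules) [M.IsQuasicoherent]
    (hk : Formal.KilledBy J M)
    (h : Subsingleton (Coh.HH Z (CohB1.tensorMod ((Scheme.Modules.pullback j).obj M)
      (CohB1.tensorPow L₀ n)) p)) :
    Subsingleton (Coh.HH X (CohB1.tensorMod M (CohB1.tensorPow L n)) p) := by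
  haveI := isIso_η_of_killedBy X j q f hpb J hJ M hk
  haveI : ((Scheme.Modules.pullback j).obj M).IsQuasicoherent :=
    Groth.Agent.Lib.Helper2.PullbackSec.isQuasicoherent_pullback j M
  have h1 := subsingleton_HH_pushforward_twist j ((Scheme.Modules.pullback j).obj M) L hL L₀ e n p h
  exact Groth.Agent.Lib.T2H5.PnStruct.subsingleton_HH_of_iso
    (Groth.Agent.Lib.Helper23.AmpleIso.tensorModIso (asIso (η j M)).symm (Iso.refl _)) p h1

variable {G : ℕᵒᵖ ⥤ X.Modules} (hA : IsAdic J G) (hq : ∀ m, (G.obj (op m)).IsQuasicoherent)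

include hpb hJ hL e hA hq in
/-- vanishing on the levels of an adic system from the vanishing for the pulled back graded pieces -/
theorem subsingleton_HH_level (K : ℕ)
    (h0 : Subsingleton (Coh.HH X (CohB1.tensorMod (G.obj (op 0)) (CohB1.tensorPow L n)) p))
    (hm : ∀ m, m < K → Subsingleton (Coh.HH Z (CohB1.tensorMod
      ((Scheme.Modules.pullback j).obj (gr G m)) (CohB1.tensorPow L₀ n)) p)) :
    Subsingleton (Coh.HH X (CohB1.tensorMod (G.obj (op K)) (CohB1.tensorPow L n)) p) := by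
  induction K with
  | zero => exact h0
  | succ K ih =>
    have h3 := ih (fun m hm' => hm m (Nat.lt_succ_of_lt hm'))
    haveI := hq (K + 1)
    haveI := hq K
    haveI : (gr G K).IsQuasicoherent := Groth.Agent.Lib.Helper23.QCohLocal.isQuasicoherent_kernel _
    have h1 := subsingleton_HH_twist_of_killedBy j q f hpb J hJ L hL L₀ e n p (gr G K)
      (killedBy_gr hA K) (hm K (Nat.lt_succ_self K))
    let S : ShortComplex X.Modules :=
      ShortComplex.mk (kernel.ι (τ G K)) (τ G K) (kernel.condition _)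
    haveI : Epi S.g := (hA.quot K).epi
    haveI : Mono S.f := inferInstanceAs (Mono (kernel.ι (τ G K)))
    have hS : S.ShortExact := { exact := ShortComplex.exact_kernel (τ G K) }
    have hS' := Groth.Agent.Lib.T2H5.Twist.shortExact_map_tr
      (Groth.Agent.Lib.Helper23.SecTw.isInvertible_tensorPow hL n) S hS
    exact Groth.Agent.Lib.T2H5.HHSub.subsingleton_X₂ _ hS' p h1 h3

end levelVan

section main

variable {A : Type u} [CommRing A] [IsNoetherianRing A] (J : Ideal A)
  (Xs : ℕ → Scheme.{u}) [∀ k, (Xs k).Over (Spec (CommRingCat.of A))]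
  (p : ∀ k, Xs k ⟶ Spec (CommRingCat.of (A ⧸ J ^ (k + 1))))
  (hs : ∀ k, Xs k ↘ Spec (CommRingCat.of A) = p k ≫ CohB1.specQuot J k)
  (i : ∀ k, Xs k ⟶ Xs (k + 1))
  (hcart : ∀ k, IsPullback (i k) (p k) (p (k + 1)) (CohB1.specQuotTrans J k))
  (F : ∀ k, (Xs k).Modules) (hF : ∀ k, Coh.IsCoh (F k))
  (ψ : ∀ k, Nonempty ((Scheme.Modules.pullback (i k)).obj (F (k + 1)) ≅ F k))
  {r : ℕ} (a : Fin r → A) (hspan : Ideal.span (Set.range a) = J)

/-- the adic system `n ↦ F_k / J^{n+1} F_k` on `X_k` -/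
noncomputable abbrev GG (k : ℕ) : ℕᵒᵖ ⥤ (Xs k).Modules := Formal.completion J (F k)

include hF in
theorem isAdic_GG (k : ℕ) : IsAdic J (GG J Xs F k) :=
  isAdic_of_isCohFormal J (isCohFormal_completion J (F k) (hF k))

include hF hspan in
theorem isTower_GG (k : ℕ) : IsTower a (GG J Xs F k) :=
  isTower_of_isAdic (isAdic_GG J Xs F hF k) hspan

include hF hspan in
theorem isCoh_gr_GG (k n : ℕ) : Coh.IsCoh (gr (GG J Xs F k) n) :=
  isCoh_gr (isAdic_GG J Xs F hF k) a hspan
    (fun n => (isCohFormal_completion J (F k) (hF k)).1 n) n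

/-- the graded system of `F_k` on `X_k` -/
noncomputable def TS (k : ℕ) : CohSys (Xs k) r :=
  towerSys (isTower_GG J Xs F hF a hspan k) (isCoh_gr_GG J Xs F hF a hspan k) 0
    (isFG_tgT (isTower_GG J Xs F hF a hspan k) (isAdic_GG J Xs F hF k) hspan)

/-- the graded system of `F_{k+1}` pulled back to `X_0` -/
noncomputable def SS (k : ℕ) : CohSys (Xs 0) r :=
  mapSys (Scheme.Modules.pullback (jj Xs i (k + 1)))
    (fun M hM => Groth.Agent.Lib.T2H5.GenIsoD.isCoh_pullback _ M hM) (TS J Xs F hF a hspan (k + 1))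

include hs hcart ψ in
theorem nonempty_ee (k : ℕ) :
    Nonempty (GG J Xs F (k + 1) ⋙ Scheme.Modules.pullback (i k) ≅ GG J Xs F k) := by
  obtain ⟨ε⟩ := ψ k
  obtain ⟨e1⟩ := nonempty_completion_comp_iso (Scheme.Modules.pullback (i k))
    (Groth.Agent.Lib.Helper20.FormalPull.pullback_map_smulMod (i k)
      (chain_hi J Xs p hs i hcart k)) J (F (k + 1))
  obtain ⟨e2⟩ := nonempty_completion_iso_of_iso J ε
  exact ⟨e1 ≪≫ e2⟩

/-- the comparison isomorphism of the adic systems of consecutive levels -/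
noncomputable def ee (k : ℕ) :
    GG J Xs F (k + 1) ⋙ Scheme.Modules.pullback (i k) ≅ GG J Xs F k :=
  (nonempty_ee J Xs p hs i hcart F ψ k).some

/-- the transition maps of the pulled back graded systems -/
noncomputable def θθ (k : ℕ) :
    SysHom (SS J Xs i F hF a hspan (k + 1)) (SS J Xs i F hF a hspan k) where
  f m := θf (jj Xs i (k + 1)) (i (k + 1)) (ee J Xs p hs i hcart F ψ (k + 1)) m
  comm l m := θf_comm (jj Xs i (k + 1)) (i (k + 1)) (chain_hi J Xs p hs i hcart (k + 1))
    (isTower_GG J Xs F hF a hspan (k + 1 + 1)) (isTower_GG J Xs F hF a hspan (k + 1))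
    (ee J Xs p hs i hcart F ψ (k + 1)) l m

theorem isIso_θθ (k m : ℕ) (hm : m ≤ k) :
    IsIso ((θθ J Xs p hs i hcart F hF ψ a hspan k).f m) := by
  refine isIso_θf (jj Xs i (k + 1)) (i (k + 1)) (ee J Xs p hs i hcart F ψ (k + 1)) m ?_
  haveI := chain_isClosedImmersion J Xs p hs i hcart (k + 1)
  refine isIso_κ_pullback (i (k + 1)) (chain_hi J Xs p hs i hcart (k + 1)) (p (k + 1))
    (CohB1.specQuot J (k + 1)) (chain_hpbA J Xs p hs i hcart (k + 1)) (J ^ (k + 1 + 1))
    (ker_φT_specQuot J (k + 1)) (isTower_GG J Xs F hF a hspan (k + 1 + 1)) m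
    (fun m' => ?_) ?_
  · haveI := (hF (k + 1 + 1)).1
    exact isQuasicoherent_modPow J (m' + 1) (F (k + 1 + 1))
  · intro b hb
    refine (isQuotBy_modPowπ J (m + 1 + 1) (F (k + 1 + 1))).killedBy b ?_
    exact Ideal.pow_le_pow_right (by omega) hb

include hs hcart hF ψ hspan in
/-- **uniform vanishing on the thickenings** -/
theorem uniform_vanishing_thickenings [IsProper (p 0)] (L : ∀ k, (Xs k).Modules)
    (hL : ∀ k, PicF.IsInvertible (L k))
    (φ : ∀ k, Nonempty ((Scheme.Modules.pullback (i k)).obj (L (k + 1)) ≅ L k))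
    (ha : CohB1.IsAmple (L 0)) :
    ∃ n₀ : ℕ, ∀ n : ℕ, n₀ ≤ n → ∀ k : ℕ, ∀ q : ℕ, 0 < q →
      Subsingleton (Coh.HH (Xs k) (CohB1.tensorMod (F k) (CohB1.tensorPow (L k) n)) q) := by
  haveI : IsLocallyNoetherian (Xs 0) := LocallyOfFiniteType.isLocallyNoetherian (p 0)
  haveI : CompactSpace (Xs 0) := QuasiCompact.compactSpace_of_compactSpace (p 0)
  haveI : IsNoetherian (Xs 0) := {}
  haveI : (Xs 0).IsSeparated := Groth.Agent.Lib.Helper23.SecTw.isSeparated_of_isAmple (L 0) ha
  obtain ⟨D, hD⟩ := Groth.Agent.Lib.T2H4.AmpleAffine.exists_cohDim (Xs 0)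
    (fun V W hV hW => hV.inf hW)
  have hD' : ∀ (M : (Xs 0).Modules) [M.IsQuasicoherent] (n : ℕ), D ≤ n →
      Subsingleton (Coh.HH (Xs 0) M n) := fun M _ n hn => hD M n hn
  have hSerre := (Groth.Agent.S0051.result (A ⧸ J ^ (0 + 1)) (Xs 0) (p 0) (L 0) (hL 0)).1 ha
  let Sg : CohSys (Xs 0) r := glue (SS J Xs i F hF a hspan) (θθ J Xs p hs i hcart F hF ψ a hspan)
    (isIso_θθ J Xs p hs i hcart F hF ψ a hspan) 0 (fun k => (SS J Xs i F hF a hspan k).fg)
  obtain ⟨d₀, hd₀⟩ := uniform_vanishing (L 0) (hL 0) hSerre D hD' Sg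
  obtain ⟨n₁, hn₁⟩ := hSerre (F 0) (hF 0)
  refine ⟨max d₀ n₁, fun n hn k q hq => ?_⟩
  have hJ : RingHom.ker (φT (CohB1.specQuot J 0)) = J := by
    rw [ker_φT_specQuot, zero_add, pow_one]
  haveI := chain_isClosedImmersion_jj J Xs p hs i hcart k
  have hpb := chain_hpbJ J Xs p hs i hcart k
  obtain ⟨eL⟩ := nonempty_pullback_jj_iso Xs i L φ k
  obtain ⟨eF⟩ := nonempty_pullback_jj_iso Xs i F ψ k
  have hAk := isAdic_GG J Xs F hF k
  haveI := (hF k).1
  haveI := (hF 0).1
  -- the bottom level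
  have h0 : Subsingleton (Coh.HH (Xs k) (CohB1.tensorMod ((GG J Xs F k).obj (op 0))
      (CohB1.tensorPow (L k) n)) q) := by
    obtain ⟨e0, _⟩ := (isQuotBy_modPowπ J (0 + 1) (F k)).exists_iso
      (isQuotBy_η (Xs k) (jj Xs i k) (p 0) (CohB1.specQuot J 0) hpb (J ^ (0 + 1))
        (ker_φT_specQuot J 0) (F k))
    have h1 := subsingleton_HH_pushforward_twist (jj Xs i k) (F 0) (L k) (hL k) (L 0) eL n q
      (hn₁ n (le_trans (le_max_right _ _) hn) q hq)
    exact Groth.Agent.Lib.T2H5.PnStruct.subsingleton_HH_of_iso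
      (Groth.Agent.Lib.Helper23.AmpleIso.tensorModIso
        (e0 ≪≫ (Scheme.Modules.pushforward (jj Xs i k)).mapIso eF).symm (Iso.refl _)) q h1
  -- the graded pieces
  have hm : ∀ m, m < k → Subsingleton (Coh.HH (Xs 0) (CohB1.tensorMod
      ((Scheme.Modules.pullback (jj Xs i k)).obj (gr (GG J Xs F k) m))
      (CohB1.tensorPow (L 0) n)) q) := by
    intro m hmk
    obtain ⟨k', rfl⟩ : ∃ k', k = k' + 1 := ⟨k - 1, by omega⟩
    obtain ⟨eg⟩ := nonempty_glue_iso (SS J Xs i F hF a hspan)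
      (θθ J Xs p hs i hcart F hF ψ a hspan) (isIso_θθ J Xs p hs i hcart F hF ψ a hspan) m k'
      (by omega)
    have h2 : Subsingleton (Coh.HH (Xs 0) (CohB1.tensorMod (Sg.M m)
        (CohB1.tensorPow (L 0) n)) q) := hd₀ n (le_trans (le_max_left _ _) hn) m q hq
    exact Groth.Agent.Lib.T2H5.PnStruct.subsingleton_HH_of_iso
      (Groth.Agent.Lib.Helper23.AmpleIso.tensorModIso eg.symm (Iso.refl _)) q h2
  have hlev := subsingleton_HH_level (jj Xs i k) (p 0) (CohB1.specQuot J 0) hpb J hJ (L k) (hL k)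
    (L 0) eL n q hAk (fun m => isQuasicoherent_modPow J (m + 1) (F k)) k h0 hm
  -- `F_k` is its own top level
  haveI := chain_isClosedImmersion J Xs p hs i hcart k
  have hkill := killedBy_of_isPullback (Xs (k + 1)) (i k) (p k) (CohB1.specQuot J k)
    (chain_hpbA J Xs p hs i hcart k) (J ^ (k + 1)) (ker_φT_specQuot J k)
    (chain_hi J Xs p hs i hcart k) (F k)
  obtain ⟨eT, _⟩ := (isQuotBy_modPowπ J (k + 1) (F k)).exists_iso (isQuotBy_id (Xs k) (F k) hkill)
  exact Groth.Agent.Lib.T2H5.PnStruct.subsingleton_HH_of_iso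
    (Groth.Agent.Lib.Helper23.AmpleIso.tensorModIso eT (Iso.refl _)) q hlev

end main

end Groth.Agent.Lib.T2H9.Thick
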