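import Mathlib
import Groth.Agent.Lib.T2H9Thick5
import Groth.Agent.Lib.T2H9Tower2
import Groth.Agent.Lib.T2H9FibLift3
import Groth.Agent.Lib.Helper23LocGen
import Groth.Agent.Lib.Helper23RestrTensor
import Groth.Agent.Lib.T2H5CounitGG
import Groth.Agent.Lib.Helper23PB
import Groth.Agent.Lib.Helper23TensorQCoh
import Groth.Agent.Lib.Helper21ModTensor3
import Groth.Agent.Lib.T2H5ClosedLin
import Groth.Agent.Lib.T2H5ClosedTransfer

/-! # Uniform global generation of twists on a chain of thickenings (helper9)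

`epi_of_epi_comp_quot` (Nakayama for a nilpotent ideal, for `X.Modules`), `isGloballyGenerated_of_quot` (global
generation lifts along a nilpotent quotient through which global sections lift), `isGloballyGenerated_pushforward`
(closed immersions), `exists_lift_level` (sections lift along an adic tower when the twisted graded pieces have no `H^1`),
`modPowπ_completion_map`, `uniform_vanishing_gr`, and **`isGloballyGenerated_thickenings`**. -/

set_option autoImplicit false
set_option linter.style.haveILetI false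
set_option linter.unusedVariables false
set_option linter.unusedSectionVars false
universe u
open CategoryTheory CategoryTheory.Limits Opposite AlgebraicGeometry TopologicalSpace

namespace Groth.Agent.Lib.T2H9.Thick

open Groth.Agent.Lib.T2H2.AlgzB Groth.Agent.Lib.T2H9.GrSys Groth.Agent.Lib.T2H9.GrAdic
  Groth.Agent.Lib.T2H9.Tower Groth.Agent.Lib.T2H9.FibQuot Groth.Agent.Lib.T2H9.ModPow

section nak

variable {A : Type u} [CommRing A] {X : Scheme.{u}} [X.Over (Spec (CommRingCat.of A))]
  {J 𝔟 : Ideal A}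

/-- **Nakayama for a nilpotent ideal**: if `M` is killed by a power of `J` and `t : M ⟶ M₀` is the quotient by
`𝔟 M` with `𝔟 ≤ J`, a map into `M` is an epimorphism as soon as its composite with `t` is. -/
theorem epi_of_epi_comp_quot {M M₀ Q : X.Modules} {t : M ⟶ M₀} (ht : IsQuotBy 𝔟 t) (h𝔟 : 𝔟 ≤ J)
    (c : ℕ) (hkill : Formal.KilledBy (J ^ c) M) (f : Q ⟶ M) (hf : Epi (f ≫ t)) : Epi f := by
  set C := cokernel f with hC
  set π := cokernel.π f with hπ
  have claim2 : ∀ (Z : X.Modules) (g : C ⟶ Z),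
      (∀ b ∈ J, Formal.smulMod A C b ≫ g = 0) → g = 0 := by
    intro Z g hg
    obtain ⟨g', hg'⟩ := ht.fac Z (π ≫ g) (fun b hb => by
      rw [← Category.assoc, Groth.Agent.S9530.smulMod_comp, Category.assoc, hg b (h𝔟 hb),
        comp_zero])
    have h3 : g' = 0 := by
      rw [← cancel_epi (f ≫ t), Category.assoc, hg', comp_zero, ← Category.assoc,
        cokernel.condition, zero_comp]
    rw [h3, comp_zero] at hg'
    rw [← cancel_epi π, comp_zero]
    exact hg'.symm
  have claim3 : ∀ (k : ℕ) (Z : X.Modules) (g : C ⟶ Z),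
      (∀ b ∈ J ^ k, Formal.smulMod A C b ≫ g = 0) → g = 0 := by
    intro k
    induction k with
    | zero =>
      intro Z g hg
      have h1 := hg 1 (by rw [pow_zero, Ideal.one_eq_top]; trivial)
      rwa [smulMod_one, Category.id_comp] at h1
    | succ k ih =>
      intro Z g hg
      refine claim2 Z g fun a ha => ?_
      refine ih Z _ fun b hb => ?_
      rw [← Category.assoc, ← smulMod_mul]
      refine hg _ ?_
      rw [pow_succ']
      exact Ideal.mul_mem_mul ha hb
  have hCkill : ∀ b ∈ J ^ c, Formal.smulMod A C b = 0 := by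
    intro b hb
    rw [← cancel_epi π, comp_zero, ← Groth.Agent.S9530.smulMod_comp, hkill b hb, zero_comp]
  have h0 : 𝟙 C = 0 := claim3 c C (𝟙 C) fun b hb => by rw [hCkill b hb, zero_comp]
  apply Preadditive.epi_of_cokernel_zero
  rw [← Category.comp_id (cokernel.π f)]
  change π ≫ 𝟙 C = 0
  rw [h0, comp_zero]

/-- global generation lifts along a nilpotent quotient through which global sections lift -/
theorem isGloballyGenerated_of_quot {M M₀ : X.Modules} {t : M ⟶ M₀} (ht : IsQuotBy 𝔟 t)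
    (h𝔟 : 𝔟 ≤ J) (c : ℕ) (hkill : Formal.KilledBy (J ^ c) M)
    (hgg : Curv2.IsGloballyGenerated M₀)
    (hlift : ∀ s : Coh.structureModule X ⟶ M₀, ∃ s' : Coh.structureModule X ⟶ M, s' ≫ t = s) :
    Curv2.IsGloballyGenerated M := by
  obtain ⟨ι, p₀, hp₀⟩ := hgg
  choose s' hs' using fun α : ι => hlift (SheafOfModules.ιFree α ≫ p₀)
  let p : (SheafOfModules.free ι : X.Modules) ⟶ M := Sigma.desc s'
  have hp : p ≫ t = p₀ := by
    apply Sigma.hom_ext
    intro α
    have h1 : Sigma.ι (fun _ : ι => Coh.structureModule X) α ≫ p = s' α := Sigma.ι_desc _ _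
    calc Sigma.ι (fun _ : ι => Coh.structureModule X) α ≫ p ≫ t
        = (Sigma.ι (fun _ : ι => Coh.structureModule X) α ≫ p) ≫ t := (Category.assoc _ _ _).symm
      _ = s' α ≫ t := congrArg (fun k => k ≫ t) h1
      _ = _ := hs' α
  have hpe : Epi (p ≫ t) := hp.symm ▸ hp₀
  exact ⟨ι, p, epi_of_epi_comp_quot ht h𝔟 c hkill p hpe⟩

end nak

section ggpush

variable {X Z : Scheme.{u}} (j : Z ⟶ X) [IsClosedImmersion j]

/-- the direct image of a globally generated module along a closed immersion is globally generated -/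
theorem isGloballyGenerated_pushforward (N : Z.Modules) (h : Curv2.IsGloballyGenerated N) :
    Curv2.IsGloballyGenerated ((Scheme.Modules.pushforward j).obj N) := by
  obtain ⟨ι, p, hp⟩ := h
  haveI := hp
  haveI : (SheafOfModules.free (R := X.ringCatSheaf) ι).IsQuasicoherent := inferInstance
  have hη : Epi (η j (SheafOfModules.free (R := X.ringCatSheaf) ι)) := epi_η j _
  let g : (Scheme.Modules.pullback j).obj (SheafOfModules.free (R := X.ringCatSheaf) ι) ⟶ N :=
    (Groth.Agent.Lib.T2H5.ClosedTransfer.pullbackFreeIso j ι).hom ≫ p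
  haveI : Epi g := @epi_comp _ _ _ _ _ _ inferInstance _ hp
  have hg : Epi ((Scheme.Modules.pushforward j).map g) :=
    Groth.Agent.Lib.T2H5.ClosedLin.epi_pushforward_map j g
  exact ⟨ι, η j (SheafOfModules.free (R := X.ringCatSheaf) ι) ≫
    (Scheme.Modules.pushforward j).map g, @epi_comp _ _ _ _ _ _ hη _ hg⟩

end ggpush

section towerLift

open Groth.Agent.Lib.T2H5.Twist

variable {A : Type u} [CommRing A] {X : Scheme.{u}} [X.Over (Spec (CommRingCat.of A))]
  {J : Ideal A} {G : ℕᵒᵖ ⥤ X.Modules} (hA : IsAdic J G) (P : X.Modules)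
  (hP : PicF.IsInvertible P)

include hA hP in
/-- global sections of the twisted bottom level lift to every level when the twisted graded pieces have no `H^1` -/
theorem exists_lift_level (K : ℕ)
    (hvan : ∀ m, m < K → Subsingleton (Coh.HH X (CohB1.tensorMod (gr G m) P) 1))
    (s : Coh.structureModule X ⟶ (tr P).obj (G.obj (op 0))) :
    ∃ s' : Coh.structureModule X ⟶ (tr P).obj (G.obj (op K)),
      s' ≫ (tr P).map (G.map (homOfLE (Nat.zero_le K)).op) = s := by
  induction K with
  | zero =>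
    refine ⟨s, ?_⟩
    have : G.map (homOfLE (Nat.zero_le 0)).op = 𝟙 _ := by
      rw [show (homOfLE (Nat.zero_le 0)) = 𝟙 (0 : ℕ) from rfl, op_id, G.map_id]
    rw [this, CategoryTheory.Functor.map_id, Category.comp_id]
  | succ K ih =>
    obtain ⟨s₁, hs₁⟩ := ih (fun m hm => hvan m (Nat.lt_succ_of_lt hm))
    let S : ShortComplex X.Modules :=
      ShortComplex.mk (kernel.ι (τ G K)) (τ G K) (kernel.condition _)
    haveI : Epi S.g := (hA.quot K).epi
    haveI : Mono S.f := inferInstanceAs (Mono (kernel.ι (τ G K)))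
    have hS : S.ShortExact := { exact := ShortComplex.exact_kernel (τ G K) }
    have hS' := shortExact_map_tr hP S hS
    obtain ⟨s₂, hs₂⟩ := exists_lift_unit (S.map (tr P)) hS' (hvan K (Nat.lt_succ_self K)) s₁
    refine ⟨s₂, ?_⟩
    have hfun : G.map (homOfLE (Nat.zero_le (K + 1))).op =
        τ G K ≫ G.map (homOfLE (Nat.zero_le K)).op := by
      rw [← G.map_comp]
      rfl
    have hs₂' : s₂ ≫ (tr P).map (τ G K) = s₁ := hs₂
    have hmap : (tr P).map (G.map (homOfLE (Nat.zero_le (K + 1))).op) =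
        (tr P).map (τ G K) ≫ (tr P).map (G.map (homOfLE (Nat.zero_le K)).op) := by
      rw [hfun]
      exact (tr P).map_comp _ _
    calc s₂ ≫ (tr P).map (G.map (homOfLE (Nat.zero_le (K + 1))).op)
        = s₂ ≫ (tr P).map (τ G K) ≫ (tr P).map (G.map (homOfLE (Nat.zero_le K)).op) :=
          congrArg (fun k => s₂ ≫ k) hmap
      _ = (s₂ ≫ (tr P).map (τ G K)) ≫ (tr P).map (G.map (homOfLE (Nat.zero_le K)).op) :=
          (Category.assoc _ _ _).symm
      _ = s₁ ≫ (tr P).map (G.map (homOfLE (Nat.zero_le K)).op) :=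
          congrArg (fun k => k ≫ (tr P).map (G.map (homOfLE (Nat.zero_le K)).op)) hs₂'
      _ = s := hs₁

end towerLift

section complMap

variable {A : Type u} [CommRing A] {X : Scheme.{u}} [X.Over (Spec (CommRingCat.of A))]

theorem modPowπ_completion_map (I : Ideal A) (N : X.Modules) {m n : ℕ} (h : m ≤ n) :
    Formal.modPowπ I (n + 1) N ≫ (Formal.completion I N).map (homOfLE h).op =
      Formal.modPowπ I (m + 1) N := by
  induction n, h using Nat.le_induction with
  | base =>
    have : (Formal.completion I N).map (homOfLE (le_refl m)).op = 𝟙 _ := by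
      rw [show (homOfLE (le_refl m)) = 𝟙 m from rfl, op_id, CategoryTheory.Functor.map_id]
    rw [this]
    exact Category.comp_id _
  | succ n h ih =>
    have h1 : (Formal.completion I N).map (homOfLE (Nat.le_succ_of_le h)).op =
        τ (Formal.completion I N) n ≫ (Formal.completion I N).map (homOfLE h).op := by
      rw [← CategoryTheory.Functor.map_comp]
      rfl
    have h2 : Formal.modPowπ I (n + 1 + 1) N ≫ τ (Formal.completion I N) n =
        Formal.modPowπ I (n + 1) N :=
      (congrArg (fun t => Formal.modPowπ I (n + 1 + 1) N ≫ t) (completion_map_succ I N n)).trans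
        (Formal.modPowπ_trans I (n + 1) N)
    calc Formal.modPowπ I (n + 1 + 1) N ≫
          (Formal.completion I N).map (homOfLE (Nat.le_succ_of_le h)).op
        = Formal.modPowπ I (n + 1 + 1) N ≫ τ (Formal.completion I N) n ≫
            (Formal.completion I N).map (homOfLE h).op :=
          congrArg (fun t => Formal.modPowπ I (n + 1 + 1) N ≫ t) h1
      _ = (Formal.modPowπ I (n + 1 + 1) N ≫ τ (Formal.completion I N) n) ≫
            (Formal.completion I N).map (homOfLE h).op := (Category.assoc _ _ _).symm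
      _ = Formal.modPowπ I (n + 1) N ≫ (Formal.completion I N).map (homOfLE h).op :=
          congrArg (fun t => t ≫ (Formal.completion I N).map (homOfLE h).op) h2
      _ = _ := ih

end complMap

section main2

open Groth.Agent.Lib.T2H5.Twist

variable {A : Type u} [CommRing A] [IsNoetherianRing A] (J : Ideal A)
  (Xs : ℕ → Scheme.{u}) [∀ k, (Xs k).Over (Spec (CommRingCat.of A))]
  (p : ∀ k, Xs k ⟶ Spec (CommRingCat.of (A ⧸ J ^ (k + 1))))
  (hs : ∀ k, Xs k ↘ Spec (CommRingCat.of A) = p k ≫ CohB1.specQuot J k)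
  (i : ∀ k, Xs k ⟶ Xs (k + 1))
  (hcart : ∀ k, IsPullback (i k) (p k) (p (k + 1)) (CohB1.specQuotTrans J k))
  (F : ∀ k, (Xs k).Modules) (hF : ∀ k, Coh.IsCoh (F k))
  (ψ : ∀ k, Nonempty ((Scheme.Modules.pullback (i k)).obj (F (k + 1)) ≅ F k))
  {r : ℕ} (a : Fin r → A) (hspan : Ideal.span (Set.range a) = J)

include hs hcart hF ψ hspan in
/-- uniform vanishing for the graded pieces on all the thickenings -/
theorem uniform_vanishing_gr [IsProper (p 0)] (L : ∀ k, (Xs k).Modules)
    (hL : ∀ k, PicF.IsInvertible (L k))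
    (φ : ∀ k, Nonempty ((Scheme.Modules.pullback (i k)).obj (L (k + 1)) ≅ L k))
    (ha : CohB1.IsAmple (L 0)) :
    ∃ n₀ : ℕ, ∀ n : ℕ, n₀ ≤ n → ∀ k m : ℕ, m < k → ∀ q : ℕ, 0 < q →
      Subsingleton (Coh.HH (Xs k) (CohB1.tensorMod (gr (GG J Xs F k) m)
        (CohB1.tensorPow (L k) n)) q) := by
  haveI : IsLocallyNoetherian (Xs 0) := LocallyOfFiniteType.isLocallyNoetherian (p 0)
  haveI : CompactSpace (Xs 0) := QuasiCompact.compactSpace_of_compactSpace (p 0)
  haveI : IsNoetherian (Xs 0) := {}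
  haveI : (Xs 0).IsSeparated := Groth.Agent.Lib.Helper23.SecTw.isSeparated_of_isAmple (L 0) ha
  obtain ⟨D, hD⟩ := Groth.Agent.Lib.T2H4.AmpleAffine.exists_cohDim (Xs 0)
    (fun V W hV hW => hV.inf hW)
  have hD' : ∀ (M : (Xs 0).Modules) [M.IsQuasicoherent] (n : ℕ), D ≤ n →
      Subsingleton (Coh.HH (Xs 0) M n) := fun M _ n hn => hD M n hn
  have hSerre := (Groth.Agent.S0051.result (A ⧸ J ^ (0 + 1)) (Xs 0) (p 0) (L 0) (hL 0)).1 ha
  let Sg : CohSys (Xs 0) r := glue (SS J Xs i F hF a hspan) (θθ J Xs p hs i hcart F hF ψ a hspan)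
    (isIso_θθ J Xs p hs i hcart F hF ψ a hspan) 0 (fun k => (SS J Xs i F hF a hspan k).fg)
  obtain ⟨d₀, hd₀⟩ := uniform_vanishing (L 0) (hL 0) hSerre D hD' Sg
  refine ⟨d₀, fun n hn k m hmk q hq => ?_⟩
  have hJ : RingHom.ker (φT (CohB1.specQuot J 0)) = J := by
    rw [ker_φT_specQuot, zero_add, pow_one]
  haveI := chain_isClosedImmersion_jj J Xs p hs i hcart k
  have hpb := chain_hpbJ J Xs p hs i hcart k
  obtain ⟨eL⟩ := nonempty_pullback_jj_iso Xs i L φ k
  have hAk := isAdic_GG J Xs F hF k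
  haveI := (hF k).1
  haveI : (gr (GG J Xs F k) m).IsQuasicoherent := (isCoh_gr_GG J Xs F hF a hspan k m).1
  refine subsingleton_HH_twist_of_killedBy (jj Xs i k) (p 0) (CohB1.specQuot J 0) hpb J hJ (L k)
    (hL k) (L 0) eL n q (gr (GG J Xs F k) m) (killedBy_gr hAk m) ?_
  obtain ⟨k', rfl⟩ : ∃ k', k = k' + 1 := ⟨k - 1, by omega⟩
  obtain ⟨eg⟩ := nonempty_glue_iso (SS J Xs i F hF a hspan)
    (θθ J Xs p hs i hcart F hF ψ a hspan) (isIso_θθ J Xs p hs i hcart F hF ψ a hspan) m k'
    (by omega)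
  have h2 : Subsingleton (Coh.HH (Xs 0) (CohB1.tensorMod (Sg.M m)
      (CohB1.tensorPow (L 0) n)) q) := hd₀ n hn m q hq
  exact Groth.Agent.Lib.T2H5.PnStruct.subsingleton_HH_of_iso
    (Groth.Agent.Lib.Helper23.AmpleIso.tensorModIso eg.symm (Iso.refl _)) q h2

include hs hcart hF ψ hspan in
/-- **uniform global generation on the thickenings** -/
theorem isGloballyGenerated_thickenings [IsProper (p 0)] (L : ∀ k, (Xs k).Modules)
    (hL : ∀ k, PicF.IsInvertible (L k))
    (φ : ∀ k, Nonempty ((Scheme.Modules.pullback (i k)).obj (L (k + 1)) ≅ L k))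
    (ha : CohB1.IsAmple (L 0)) :
    ∃ N : ℕ, ∀ n : ℕ, N ≤ n → ∀ k : ℕ,
      Curv2.IsGloballyGenerated (CohB1.tensorMod (F k) (CohB1.tensorPow (L k) n)) := by
  obtain ⟨n₀, hn₀⟩ := uniform_vanishing_gr J Xs p hs i hcart F hF ψ a hspan L hL φ ha
  haveI := (hF 0).1
  haveI := (hF 0).2
  obtain ⟨n₁, hn₁⟩ := Groth.Agent.Lib.Helper23.LocGen.isGloballyGenerated_twist_eventually
    (L 0) ha (F 0)
  refine ⟨max n₀ n₁, fun n hn k => ?_⟩
  haveI := chain_isClosedImmersion_jj J Xs p hs i hcart k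
  have hpb := chain_hpbJ J Xs p hs i hcart k
  obtain ⟨eL⟩ := nonempty_pullback_jj_iso Xs i L φ k
  obtain ⟨eF⟩ := nonempty_pullback_jj_iso Xs i F ψ k
  have hAk := isAdic_GG J Xs F hF k
  haveI := (hF k).1
  let P : (Xs k).Modules := CohB1.tensorPow (L k) n
  have hP : PicF.IsInvertible P := Groth.Agent.Lib.Helper23.SecTw.isInvertible_tensorPow (hL k) n
  haveI : P.IsQuasicoherent := Groth.Agent.Lib.Helper23.SecTw.isQuasicoherent_of_isInvertible _ hP
  haveI : (tr P).IsLeftAdjoint := Groth.Agent.Lib.Helper21.ModTensor3.tR_isLeftAdjoint (Xs k).sheaf P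
  let M : (Xs k).Modules := (tr P).obj (F k)
  haveI : M.IsQuasicoherent :=
    Groth.Agent.Lib.Helper23.TensorQCoh.isQuasicoherent_tensorMod (F k) P
  -- `M` is killed by `J^{k+1}`
  haveI := chain_isClosedImmersion J Xs p hs i hcart k
  have hkillAll : ∀ N : (Xs k).Modules, Formal.KilledBy (J ^ (k + 1)) N := fun N =>
    killedBy_of_isPullback (Xs (k + 1)) (i k) (p k) (CohB1.specQuot J k)
      (chain_hpbA J Xs p hs i hcart k) (J ^ (k + 1)) (ker_φT_specQuot J k)
      (chain_hi J Xs p hs i hcart k) N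
  -- the quotient `M ⟶ M/JM`
  have ht : IsQuotBy (J ^ (0 + 1)) ((tr P).map (Formal.modPowπ J (0 + 1) (F k))) :=
    (isQuotBy_modPowπ J (0 + 1) (F k)).map (tr P)
      (Groth.Agent.Lib.T2H9.FibLift.tr_map_smulMod (Xs k) P)
  have h𝔟 : J ^ (0 + 1) ≤ J := by rw [zero_add, pow_one]
  refine isGloballyGenerated_of_quot ht h𝔟 (k + 1) (hkillAll M) ?_ ?_
  · -- global generation of `M/JM`
    obtain ⟨c, _⟩ := ht.exists_iso (isQuotBy_η (Xs k) (jj Xs i k) (p 0) (CohB1.specQuot J 0) hpb
      (J ^ (0 + 1)) (ker_φT_specQuot J 0) M)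
    obtain ⟨ε⟩ := Groth.Agent.Lib.Helper23.PB.nonempty_pullback_tensorPow_iso (jj Xs i k) (L k)
      (hL k) n
    have e1 : (Scheme.Modules.pullback (jj Xs i k)).obj M ≅
        CohB1.tensorMod (F 0) (CohB1.tensorPow (L 0) n) :=
      Groth.Agent.Lib.Helper23.RestrTensor.pullbackTensorIso (F k) P (jj Xs i k) ≪≫
        Groth.Agent.Lib.Helper23.AmpleIso.tensorModIso eF
          (ε ≪≫ Groth.Agent.Lib.Helper23.AmpleIso.tensorPowIso eL n)
    have h1 := Groth.Agent.Lib.Helper23.RestrTensor.isGloballyGenerated_of_iso e1.symm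
      (hn₁ n (le_trans (le_max_right _ _) hn))
    exact Groth.Agent.Lib.Helper23.RestrTensor.isGloballyGenerated_of_iso c.symm
      (isGloballyGenerated_pushforward (jj Xs i k) _ h1)
  · -- lifting of sections
    intro s
    obtain ⟨s₁, hs₁⟩ := exists_lift_level hAk P hP k
      (fun m hm => hn₀ n (le_trans (le_max_left _ _) hn) k m hm 1 Nat.one_pos) s
    have hex : ∃ eT : (GG J Xs F k).obj (op k) ≅ F k,
        Formal.modPowπ J (k + 1) (F k) ≫ eT.hom = 𝟙 (F k) :=
      (isQuotBy_modPowπ J (k + 1) (F k)).exists_iso (isQuotBy_id (Xs k) (F k) (hkillAll (F k)))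
    obtain ⟨eT, heT⟩ := hex
    have hcomp : eT.hom ≫ Formal.modPowπ J (0 + 1) (F k) =
        (GG J Xs F k).map (homOfLE (Nat.zero_le k)).op := by
      haveI := (isQuotBy_modPowπ J (k + 1) (F k)).epi
      refine (cancel_epi (Formal.modPowπ J (k + 1) (F k))).1 ?_
      refine Eq.trans ?_ (modPowπ_completion_map J (F k) (Nat.zero_le k)).symm
      calc Formal.modPowπ J (k + 1) (F k) ≫ eT.hom ≫ Formal.modPowπ J (0 + 1) (F k)
          = (Formal.modPowπ J (k + 1) (F k) ≫ eT.hom) ≫ Formal.modPowπ J (0 + 1) (F k) :=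
            (Category.assoc _ _ _).symm
        _ = 𝟙 (F k) ≫ Formal.modPowπ J (0 + 1) (F k) :=
            congrArg (fun t => t ≫ Formal.modPowπ J (0 + 1) (F k)) heT
        _ = _ := Category.id_comp _
    have h3 : (tr P).map eT.hom ≫ (tr P).map (Formal.modPowπ J (0 + 1) (F k)) =
        (tr P).map ((GG J Xs F k).map (homOfLE (Nat.zero_le k)).op) := by
      rw [← hcomp]
      exact ((tr P).map_comp _ _).symm
    refine ⟨s₁ ≫ (tr P).map eT.hom, ?_⟩
    have h4 : (s₁ ≫ (tr P).map eT.hom) ≫ (tr P).map (Formal.modPowπ J (0 + 1) (F k)) =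
        s₁ ≫ ((tr P).map eT.hom ≫ (tr P).map (Formal.modPowπ J (0 + 1) (F k))) :=
      Category.assoc _ _ _
    exact h4.trans ((congrArg (fun t => s₁ ≫ t) h3).trans hs₁)

end main2

end Groth.Agent.Lib.T2H9.Thick
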