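import Mathlib
import Groth.Agent.Lib.T2H9Alg6
import Groth.Agent.Lib.T2H9EtLiftMain
import Groth.Agent.Lib.T2H9Thick6
import Groth.Agent.Lib.Helper23Serre

/-! # Algebraization with an ample module, VII: the system of direct images on the ambient scheme (helper9)

For an adic chain `X_k` with compatible closed immersions `r_k : X_k → P` over `Spec A` and modules `F_k` on `X_k` with
`i_k^* F_{k+1} ≅ F_k`: the system `Fsys = (r_{k*} F_k)_k` on `P`, its transition maps are quotients by `J^{k+1}`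
(`isQuotBy_tF`), it is a coherent formal module (`isCohFormal_Fsys`); for `F = O`: `Hsys`, `uP_τ`. -/

set_option autoImplicit false
set_option linter.style.haveILetI false
set_option linter.unusedVariables false
set_option linter.unusedSectionVars false
universe u
open CategoryTheory CategoryTheory.Limits Opposite AlgebraicGeometry TopologicalSpace

namespace Groth.Agent.Lib.T2H9.Alg

open Groth.Agent.Lib.T2H2.AlgzB Groth.Agent.Lib.T2H9.GrAdic Groth.Agent.Lib.T2H9.Thick
  Groth.Agent.Lib.T2H9.EtLiftMain Groth.Agent.Lib.T2H9.FlatFib Groth.Agent.Lib.T2H9.FibQuot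
  Groth.Agent.Lib.Helper23.PB

section congr

theorem uP_congr {Z P : Scheme.{u}} {f g : Z ⟶ P} (h : f = g) :
    uP f ≫ (Scheme.Modules.pushforwardCongr h).hom.app (Coh.structureModule Z) = uP g := by
  subst h
  ext U s
  change (Coh.structureModule Z).presheaf.map (eqToHom rfl).op _ = _
  rw [eqToHom_refl, op_id, (Coh.structureModule Z).presheaf.map_id]
  rfl

instance epi_uP {Z P : Scheme.{u}} (f : Z ⟶ P) [IsClosedImmersion f] : Epi (uP f) :=
  Groth.Agent.Lib.Helper23.Serre.epi_unitPush f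

end congr

section fsys

variable {A : Type u} [CommRing A] (J : Ideal A) (P : Scheme.{u}) [P.Over (Spec (CommRingCat.of A))]
  (Xs : ℕ → Scheme.{u}) [∀ k, (Xs k).Over (Spec (CommRingCat.of A))]
  (p : ∀ k, Xs k ⟶ Spec (CommRingCat.of (A ⧸ J ^ (k + 1))))
  (hs : ∀ k, Xs k ↘ Spec (CommRingCat.of A) = p k ≫ CohB1.specQuot J k)
  (i : ∀ k, Xs k ⟶ Xs (k + 1))
  (hcart : ∀ k, IsPullback (i k) (p k) (p (k + 1)) (CohB1.specQuotTrans J k))
  (r : ∀ k, Xs k ⟶ P) [∀ k, IsClosedImmersion (r k)]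
  (hrt : ∀ k, r k ≫ (P ↘ Spec (CommRingCat.of A)) = Xs k ↘ Spec (CommRingCat.of A))
  (hrc : ∀ k, r k = i k ≫ r (k + 1))
  (F : ∀ k, (Xs k).Modules) (hF : ∀ k, Coh.IsCoh (F k))
  (ψ : ∀ k, (Scheme.Modules.pullback (i k)).obj (F (k + 1)) ≅ F k)

/-- the direct images of the modules of the levels -/
noncomputable abbrev Fobj (k : ℕ) : P.Modules := (Scheme.Modules.pushforward (r k)).obj (F k)

/-- the level map `F_{k+1} ⟶ i_{k*} F_k` -/
noncomputable def tF₀ (k : ℕ) : F (k + 1) ⟶ (Scheme.Modules.pushforward (i k)).obj (F k) :=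
  (Scheme.Modules.pullbackPushforwardAdjunction (i k)).unit.app (F (k + 1)) ≫
    (Scheme.Modules.pushforward (i k)).map (ψ k).hom

/-- the transition maps `r_{k+1 *} F_{k+1} ⟶ r_{k*} F_k` -/
noncomputable def tF (k : ℕ) : Fobj P Xs r F (k + 1) ⟶ Fobj P Xs r F k :=
  (Scheme.Modules.pushforward (r (k + 1))).map (tF₀ Xs i F ψ k) ≫
    (Scheme.Modules.pushforwardComp (i k) (r (k + 1))).hom.app (F k) ≫
    (Scheme.Modules.pushforwardCongr (hrc k).symm).hom.app (F k)

/-- the system `(r_{k*} F_k)_k` on `P` -/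
noncomputable def Fsys : ℕᵒᵖ ⥤ P.Modules :=
  Functor.ofOpSequence (X := Fobj P Xs r F) (tF P Xs i r hrc F ψ)

theorem Fsys_τ (k : ℕ) : τ (Fsys P Xs i r hrc F ψ) k = tF P Xs i r hrc F ψ k :=
  Functor.ofOpSequence_map_homOfLE_succ _ k

include hs hcart hF in
theorem isQuotBy_tF₀ (k : ℕ) : IsQuotBy (J ^ (k + 1)) (tF₀ Xs i F ψ k) := by
  haveI := chain_isClosedImmersion J Xs p hs i hcart k
  haveI := (hF (k + 1)).1
  have h1 : IsQuotBy (J ^ (k + 1)) (η (i k) (F (k + 1))) :=
    isQuotBy_η (Xs (k + 1)) (i k) (p k) (CohB1.specQuot J k) (chain_hpbA J Xs p hs i hcart k)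
      (J ^ (k + 1)) (ker_φT_specQuot J k) (F (k + 1))
  exact h1.comp_iso ((Scheme.Modules.pushforward (i k)).mapIso (ψ k))

include hs hcart hrt hF in
theorem isQuotBy_tF (k : ℕ) : IsQuotBy (J ^ (k + 1)) (tF P Xs i r hrc F ψ k) := by
  have h1 := isQuotBy_tF₀ J Xs p hs i hcart F hF ψ k
  haveI : (Scheme.Modules.pushforward (r (k + 1))).IsLeftAdjoint :=
    Groth.Agent.Lib.T2H4.ClosedAdj.isLeftAdjoint_pushforward (r (k + 1))
  have h2 := h1.map (Scheme.Modules.pushforward (r (k + 1)))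
    (pushforward_map_smulMod (r (k + 1)) (hrt (k + 1)))
  have h3 := h2.comp_iso ((Scheme.Modules.pushforwardComp (i k) (r (k + 1))).app (F k) ≪≫
    (Scheme.Modules.pushforwardCongr (hrc k).symm).app (F k))
  exact h3

include hs hcart hrt hF in
theorem isCohFormal_Fsys : Formal.IsCohFormal J (Fsys P Xs i r hrc F ψ) := by
  rw [isCohFormal_iff]
  refine ⟨fun k => ?_, fun k => ?_, fun k => ?_⟩
  · exact Groth.Agent.Lib.T2H5.ClosedTransfer.isCoh_pushforward (r k) (F k) (hF k)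
  · haveI := chain_isClosedImmersion J Xs p hs i hcart k
    exact killedBy_pushforward (r k) (hrt k) _
      (killedBy_of_isPullback (Xs (k + 1)) (i k) (p k) (CohB1.specQuot J k)
        (chain_hpbA J Xs p hs i hcart k) (J ^ (k + 1)) (ker_φT_specQuot J k)
        (chain_hi J Xs p hs i hcart k) _)
  · have h := isQuotBy_tF J P Xs p hs i hcart r hrt hrc F hF ψ k
    rw [← Fsys_τ] at h
    exact h

end fsys

section hsys

variable {A : Type u} [CommRing A] (J : Ideal A) (P : Scheme.{u}) [P.Over (Spec (CommRingCat.of A))]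
  (Xs : ℕ → Scheme.{u}) [∀ k, (Xs k).Over (Spec (CommRingCat.of A))]
  (i : ∀ k, Xs k ⟶ Xs (k + 1))
  (r : ∀ k, Xs k ⟶ P) [∀ k, IsClosedImmersion (r k)]
  (hrc : ∀ k, r k = i k ≫ r (k + 1))

/-- the system `(r_{k*} O_{X_k})_k` -/
noncomputable abbrev Hsys : ℕᵒᵖ ⥤ P.Modules :=
  Fsys P Xs i r hrc (fun k => Coh.structureModule (Xs k)) (fun k => pullbackUnitIso (i k))

theorem uP_tF (k : ℕ) :
    uP (r (k + 1)) ≫ tF P Xs i r hrc (fun k => Coh.structureModule (Xs k))
      (fun k => pullbackUnitIso (i k)) k = uP (r k) := by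
  have h0 : tF₀ Xs i (fun k => Coh.structureModule (Xs k)) (fun k => pullbackUnitIso (i k)) k =
      uP (i k) := Groth.Agent.Lib.T2H9.FibField.unit_comp_pushforward_pullbackUnitHom (i k)
  unfold tF
  rw [h0]
  have h1 : uP (r (k + 1)) ≫ (Scheme.Modules.pushforward (r (k + 1))).map (uP (i k)) ≫
      (Scheme.Modules.pushforwardComp (i k) (r (k + 1))).hom.app (Coh.structureModule (Xs k)) =
      uP (i k ≫ r (k + 1)) := uP_cP (r (k + 1)) (i k)
  rw [← Category.assoc, ← Category.assoc]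
  rw [Category.assoc (uP (r (k + 1))), h1]
  exact uP_congr (hrc k).symm

theorem uP_τ (k : ℕ) : uP (r (k + 1)) ≫ τ (Hsys P Xs i r hrc) k = uP (r k) := by
  rw [Fsys_τ]
  exact uP_tF P Xs i r hrc k

end hsys

end Groth.Agent.Lib.T2H9.Alg
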