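import Groth.Agent.Lib.T2H5TrivThick
import Groth.Agent.Lib.T2H9Alg7

/-!
# Compatible algebraization of a chain of modules (helper5)

For a chain of closed immersions `r_k : X_k → P` with `r_k = i_k ≫ r_{k+1}`, modules `F_k` on `X_k` with `ψ_k : i_k^* F_{k+1} ≅ F_k`,
and a module `N` on `P` with maps `ρ_k : N ⟶ r_{k*} F_k` compatible with the transition maps of the system `(r_{k*} F_k)`:
the adjoint maps `δ_k : r_k^* N ⟶ F_k` are compatible with the transition isomorphisms (`compat`); if the `ρ_k` are the quotients
by `J^{k+1}` then the `δ_k` are isomorphisms (`isIso_delta`).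
-/

set_option autoImplicit false
set_option backward.isDefEq.respectTransparency.types false
set_option linter.style.haveILetI false
set_option linter.unusedSectionVars false
set_option linter.unusedVariables false
universe u

open CategoryTheory CategoryTheory.Limits AlgebraicGeometry TopologicalSpace Opposite

namespace Groth.Agent.Lib.T2H5.AffFormal

open Groth.Agent.Lib.T2H5.TrivThick Groth.Agent.Lib.T2H2.AlgzB Groth.Agent.Lib.T2H9.Thick
  Groth.Agent.Lib.T2H9.FlatFib Groth.Agent.Lib.T2H9.FibQuot Groth.Agent.Lib.T2H9.Alg

section step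

variable {A B X : Scheme.{u}} (j : A ⟶ B) (p : B ⟶ X)

theorem pushforwardCongr_rfl_hom_app (f : A ⟶ B) (M : A.Modules) :
    (Scheme.Modules.pushforwardCongr (rfl : f = f)).hom.app M = 𝟙 _ := by
  apply Scheme.Modules.hom_ext
  intro U
  rw [Scheme.Modules.pushforwardCongr_hom_app_app]
  change M.presheaf.map (eqToHom rfl).op = _
  rw [eqToHom_refl, op_id, M.presheaf.map_id]
  rfl

theorem pullbackCongr_rfl_hom_app (f : A ⟶ B) (M : B.Modules) :
    (Scheme.Modules.pullbackCongr (rfl : f = f)).hom.app M = 𝟙 _ := rfl

/-- transposing the left hand side of the compatibility -/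
theorem transpose_left (FB : B.Modules) (FA : A.Modules)
    (ψ : (Scheme.Modules.pullback j).obj FB ≅ FA) (N : X.Modules)
    (δB : (Scheme.Modules.pullback p).obj N ⟶ FB) :
    (Scheme.Modules.pullbackPushforwardAdjunction p).unit.app N ≫
      (Scheme.Modules.pushforward p).map
        ((Scheme.Modules.pullbackPushforwardAdjunction j).unit.app
            ((Scheme.Modules.pullback p).obj N) ≫
          (Scheme.Modules.pushforward j).map ((Scheme.Modules.pullback j).map δB ≫ ψ.hom)) =
      ((Scheme.Modules.pullbackPushforwardAdjunction p).homEquiv N FB δB) ≫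
        (Scheme.Modules.pushforward p).map
          ((Scheme.Modules.pullbackPushforwardAdjunction j).unit.app FB ≫
            (Scheme.Modules.pushforward j).map ψ.hom) := by
  set aj := Scheme.Modules.pullbackPushforwardAdjunction j with haj
  set ap := Scheme.Modules.pullbackPushforwardAdjunction p with hap
  have h1 : aj.unit.app ((Scheme.Modules.pullback p).obj N) ≫
      (Scheme.Modules.pushforward j).map ((Scheme.Modules.pullback j).map δB ≫ ψ.hom) =
      δB ≫ aj.unit.app FB ≫ (Scheme.Modules.pushforward j).map ψ.hom := by
    rw [Functor.map_comp, ← Category.assoc, ← Category.assoc]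
    congr 1
    exact (aj.unit.naturality δB).symm
  rw [h1, Functor.map_comp, ← Category.assoc, Adjunction.homEquiv_unit]

/-- transposing the right hand side of the compatibility -/
theorem transpose_right (FA : A.Modules) (N : X.Modules)
    (δA : (Scheme.Modules.pullback (j ≫ p)).obj N ⟶ FA) :
    ((Scheme.Modules.pullbackPushforwardAdjunction p).unit.app N ≫
      (Scheme.Modules.pushforward p).map
        ((Scheme.Modules.pullbackPushforwardAdjunction j).unit.app
            ((Scheme.Modules.pullback p).obj N) ≫
          (Scheme.Modules.pushforward j).map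
            ((Scheme.Modules.pullbackComp j p).hom.app N ≫ δA))) ≫
      (Scheme.Modules.pushforwardComp j p).hom.app FA =
      (Scheme.Modules.pullbackPushforwardAdjunction (j ≫ p)).homEquiv N FA δA := by
  set aj := Scheme.Modules.pullbackPushforwardAdjunction j with haj
  set ap := Scheme.Modules.pullbackPushforwardAdjunction p with hap
  set ajp := Scheme.Modules.pullbackPushforwardAdjunction (j ≫ p) with hajp
  have h2 : (Scheme.Modules.pushforward p).map ((Scheme.Modules.pushforward j).map
      ((Scheme.Modules.pullbackComp j p).hom.app N ≫ δA)) ≫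
      (Scheme.Modules.pushforwardComp j p).hom.app FA =
      (Scheme.Modules.pushforwardComp j p).hom.app _ ≫
        (Scheme.Modules.pushforward (j ≫ p)).map
          ((Scheme.Modules.pullbackComp j p).hom.app N ≫ δA) :=
    (Scheme.Modules.pushforwardComp j p).hom.naturality _
  rw [Functor.map_comp, Category.assoc, Category.assoc, h2, Functor.map_comp]
  have h3 : ap.unit.app N ≫ (Scheme.Modules.pushforward p).map
      (aj.unit.app ((Scheme.Modules.pullback p).obj N)) ≫
      (Scheme.Modules.pushforwardComp j p).hom.app _ ≫
      (Scheme.Modules.pushforward (j ≫ p)).map ((Scheme.Modules.pullbackComp j p).hom.app N) =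
      ajp.unit.app N := unit_rho j p N
  rw [← Category.assoc ((Scheme.Modules.pushforwardComp j p).hom.app _),
    ← Category.assoc ((Scheme.Modules.pushforward p).map _),
    ← Category.assoc (ap.unit.app N), Adjunction.homEquiv_unit]
  congr 1

/-- one step of the compatibility, for a composite `j ≫ p`, on the level of adjoint maps -/
theorem compat_step_iff (FB : B.Modules) (FA : A.Modules)
    (ψ : (Scheme.Modules.pullback j).obj FB ≅ FA) (N : X.Modules)
    (δB : (Scheme.Modules.pullback p).obj N ⟶ FB)
    (δA : (Scheme.Modules.pullback (j ≫ p)).obj N ⟶ FA) :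
    (Scheme.Modules.pullback j).map δB ≫ ψ.hom =
        (Scheme.Modules.pullbackComp j p).hom.app N ≫ δA ↔
      ((Scheme.Modules.pullbackPushforwardAdjunction p).homEquiv N FB δB) ≫
        (Scheme.Modules.pushforward p).map
          ((Scheme.Modules.pullbackPushforwardAdjunction j).unit.app FB ≫
            (Scheme.Modules.pushforward j).map ψ.hom) ≫
        (Scheme.Modules.pushforwardComp j p).hom.app FA =
      (Scheme.Modules.pullbackPushforwardAdjunction (j ≫ p)).homEquiv N FA δA := by
  rw [← transpose_right j p FA N δA, ← Category.assoc, ← transpose_left j p FB FA ψ N δB]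
  constructor
  · intro h
    rw [h]
  · intro h
    rw [cancel_mono] at h
    apply ((Scheme.Modules.pullbackPushforwardAdjunction j).homEquiv _ _).injective
    apply ((Scheme.Modules.pullbackPushforwardAdjunction p).homEquiv _ _).injective
    rw [Adjunction.homEquiv_unit, Adjunction.homEquiv_unit, Adjunction.homEquiv_unit,
      Adjunction.homEquiv_unit]
    exact h

/-- one step of the compatibility, on the level of adjoint maps -/
theorem compat_step_iff' (q : A ⟶ X) (h : q = j ≫ p) (FB : B.Modules) (FA : A.Modules)
    (ψ : (Scheme.Modules.pullback j).obj FB ≅ FA) (N : X.Modules)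
    (δB : (Scheme.Modules.pullback p).obj N ⟶ FB)
    (δA : (Scheme.Modules.pullback q).obj N ⟶ FA) :
    (Scheme.Modules.pullback j).map δB ≫ ψ.hom =
        (Scheme.Modules.pullbackComp j p).hom.app N ≫
          (Scheme.Modules.pullbackCongr h.symm).hom.app N ≫ δA ↔
      ((Scheme.Modules.pullbackPushforwardAdjunction p).homEquiv N FB δB) ≫
        (Scheme.Modules.pushforward p).map
          ((Scheme.Modules.pullbackPushforwardAdjunction j).unit.app FB ≫
            (Scheme.Modules.pushforward j).map ψ.hom) ≫
        (Scheme.Modules.pushforwardComp j p).hom.app FA ≫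
        (Scheme.Modules.pushforwardCongr h.symm).hom.app FA =
      (Scheme.Modules.pullbackPushforwardAdjunction q).homEquiv N FA δA := by
  subst h
  rw [pullbackCongr_rfl_hom_app, Category.id_comp, pushforwardCongr_rfl_hom_app, Category.comp_id]
  exact compat_step_iff j p FB FA ψ N δB δA

/-- one step of the compatibility -/
theorem compat_step' (q : A ⟶ X) (h : q = j ≫ p) (FB : B.Modules) (FA : A.Modules)
    (ψ : (Scheme.Modules.pullback j).obj FB ≅ FA) (N : X.Modules)
    (ρB : N ⟶ (Scheme.Modules.pushforward p).obj FB)
    (ρA : N ⟶ (Scheme.Modules.pushforward q).obj FA)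
    (hρ : ρB ≫ (Scheme.Modules.pushforward p).map
        ((Scheme.Modules.pullbackPushforwardAdjunction j).unit.app FB ≫
          (Scheme.Modules.pushforward j).map ψ.hom) ≫
        (Scheme.Modules.pushforwardComp j p).hom.app FA ≫
        (Scheme.Modules.pushforwardCongr h.symm).hom.app FA = ρA) :
    (Scheme.Modules.pullback j).map
        (((Scheme.Modules.pullbackPushforwardAdjunction p).homEquiv N FB).symm ρB) ≫ ψ.hom =
      (Scheme.Modules.pullbackComp j p).hom.app N ≫
        (Scheme.Modules.pullbackCongr h.symm).hom.app N ≫
        ((Scheme.Modules.pullbackPushforwardAdjunction q).homEquiv N FA).symm ρA := by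
  rw [compat_step_iff' j p q h, Equiv.apply_symm_apply, Equiv.apply_symm_apply]
  exact hρ

/-- `compat_step_iff'` with the two canonical isomorphisms packaged as one natural isomorphism -/
theorem compat_step_iff_iso (q : A ⟶ X) (h : q = j ≫ p) (FB : B.Modules) (FA : A.Modules)
    (ψ : (Scheme.Modules.pullback j).obj FB ≅ FA) (N : X.Modules)
    (δB : (Scheme.Modules.pullback p).obj N ⟶ FB)
    (δA : (Scheme.Modules.pullback q).obj N ⟶ FA) :
    (Scheme.Modules.pullback j).map δB ≫ ψ.hom =
        (Scheme.Modules.pullbackComp j p ≪≫ Scheme.Modules.pullbackCongr h.symm).hom.app N ≫ δA ↔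
      ((Scheme.Modules.pullbackPushforwardAdjunction p).homEquiv N FB δB) ≫
        (Scheme.Modules.pushforward p).map
          ((Scheme.Modules.pullbackPushforwardAdjunction j).unit.app FB ≫
            (Scheme.Modules.pushforward j).map ψ.hom) ≫
        (Scheme.Modules.pushforwardComp j p).hom.app FA ≫
        (Scheme.Modules.pushforwardCongr h.symm).hom.app FA =
      (Scheme.Modules.pullbackPushforwardAdjunction q).homEquiv N FA δA := by
  rw [Iso.trans_hom, NatTrans.comp_app, Category.assoc]
  exact compat_step_iff' j p q h FB FA ψ N δB δA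

/-- `compat_step_iff_iso` with an arbitrary proof of the equation used for `pullbackCongr` -/
theorem compat_step_iff_iso' (q : A ⟶ X) (h : q = j ≫ p) (h' : j ≫ p = q)
    (FB : B.Modules) (FA : A.Modules)
    (ψ : (Scheme.Modules.pullback j).obj FB ≅ FA) (N : X.Modules)
    (δB : (Scheme.Modules.pullback p).obj N ⟶ FB)
    (δA : (Scheme.Modules.pullback q).obj N ⟶ FA) :
    (Scheme.Modules.pullback j).map δB ≫ ψ.hom =
        (Scheme.Modules.pullbackComp j p ≪≫ Scheme.Modules.pullbackCongr h').hom.app N ≫ δA ↔
      ((Scheme.Modules.pullbackPushforwardAdjunction p).homEquiv N FB δB) ≫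
        (Scheme.Modules.pushforward p).map
          ((Scheme.Modules.pullbackPushforwardAdjunction j).unit.app FB ≫
            (Scheme.Modules.pushforward j).map ψ.hom) ≫
        (Scheme.Modules.pushforwardComp j p).hom.app FA ≫
        (Scheme.Modules.pushforwardCongr h.symm).hom.app FA =
      (Scheme.Modules.pullbackPushforwardAdjunction q).homEquiv N FA δA := by
  have e1 : h' = h.symm := rfl
  subst e1
  exact compat_step_iff_iso j p q h FB FA ψ N δB δA

/-- `compat_step'` with the two canonical isomorphisms packaged as one natural isomorphism -/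
theorem compat_step_iso (q : A ⟶ X) (h : q = j ≫ p) (FB : B.Modules) (FA : A.Modules)
    (ψ : (Scheme.Modules.pullback j).obj FB ≅ FA) (N : X.Modules)
    (ρB : N ⟶ (Scheme.Modules.pushforward p).obj FB)
    (ρA : N ⟶ (Scheme.Modules.pushforward q).obj FA)
    (hρ : ρB ≫ (Scheme.Modules.pushforward p).map
        ((Scheme.Modules.pullbackPushforwardAdjunction j).unit.app FB ≫
          (Scheme.Modules.pushforward j).map ψ.hom) ≫
        (Scheme.Modules.pushforwardComp j p).hom.app FA ≫
        (Scheme.Modules.pushforwardCongr h.symm).hom.app FA = ρA) :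
    (Scheme.Modules.pullback j).map
        (((Scheme.Modules.pullbackPushforwardAdjunction p).homEquiv N FB).symm ρB) ≫ ψ.hom =
      (Scheme.Modules.pullbackComp j p ≪≫ Scheme.Modules.pullbackCongr h.symm).hom.app N ≫
        ((Scheme.Modules.pullbackPushforwardAdjunction q).homEquiv N FA).symm ρA := by
  rw [Iso.trans_hom, NatTrans.comp_app, Category.assoc]
  exact compat_step' j p q h FB FA ψ N ρB ρA hρ

end step

end Groth.Agent.Lib.T2H5.AffFormal
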