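-- helper6 (team 2): ideal-sheaf calculus for systems of thickenings (formal schemes as systems):
-- pullback of ideal sheaves commutes with products and powers, kernels of inclusions of closed subschemes,
-- the completion along an ideal sheaf is a locally Noetherian adic formal system.
import Mathlib
import Groth.Prelude.Def_FSch3
import Groth.Agent.Lib.Helper22IdealComap

set_option autoImplicit false
universe u
open CategoryTheory CategoryTheory.Limits AlgebraicGeometry TopologicalSpace Opposite

namespace Groth.Agent.Lib.T2H6.FSysBasic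

open Scheme.IdealSheafData Groth.Agent.Lib.Helper22.IdealComap

noncomputable section

variable {S T : Scheme.{u}}

/-- the affine opens of `S` mapping into an affine open of `T` cover `S` -/
theorem iSup_affine_le_preimage (g : S ⟶ T) :
    ⨆ p : {p : S.affineOpens × T.affineOpens // p.1.1 ≤ g ⁻¹ᵁ p.2.1}, (p.1.1 : S.Opens) = ⊤ := by
  rw [eq_top_iff]
  intro x _
  obtain ⟨_, ⟨V, hV, rfl⟩, hxV, -⟩ := T.isBasis_affineOpens.exists_subset_of_mem_open
    (Set.mem_univ (g.base x)) isOpen_univ
  obtain ⟨_, ⟨U, hU, rfl⟩, hxU, hUV⟩ := S.isBasis_affineOpens.exists_subset_of_mem_open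
    (show x ∈ ((g ⁻¹ᵁ V : S.Opens) : Set S) from hxV) (g ⁻¹ᵁ V).2
  exact Opens.mem_iSup.2 ⟨⟨(⟨U, hU⟩, ⟨V, hV⟩), hUV⟩, hxU⟩

theorem comap_mul (g : S ⟶ T) (I J : T.IdealSheafData) :
    (I * J).comap g = I.comap g * J.comap g := by
  refine ext_of_iSup_eq_top (fun p : {p : S.affineOpens × T.affineOpens // p.1.1 ≤ g ⁻¹ᵁ p.2.1} =>
    p.1.1) (iSup_affine_le_preimage g) fun p => ?_
  rw [ideal_comap_eq_map g (I * J) p.1.1 p.1.2 p.2]
  change _ = (I.comap g).ideal p.1.1 * (J.comap g).ideal p.1.1
  rw [ideal_comap_eq_map g I p.1.1 p.1.2 p.2, ideal_comap_eq_map g J p.1.1 p.1.2 p.2,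
    ← Ideal.map_mul]
  rfl

theorem comap_pow (g : S ⟶ T) (I : T.IdealSheafData) (n : ℕ) :
    (I ^ n).comap g = (I.comap g) ^ n := by
  refine ext_of_iSup_eq_top (fun p : {p : S.affineOpens × T.affineOpens // p.1.1 ≤ g ⁻¹ᵁ p.2.1} =>
    p.1.1) (iSup_affine_le_preimage g) fun p => ?_
  rw [ideal_comap_eq_map g (I ^ n) p.1.1 p.1.2 p.2]
  change _ = ((I.comap g).ideal p.1.1) ^ n
  rw [ideal_comap_eq_map g I p.1.1 p.1.2 p.2, ← Ideal.map_pow]
  rfl

variable {X Z Z' : Scheme.{u}}

/-- the preimages of the affine opens under an affine morphism cover the source -/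
theorem iSup_preimage_affine (i : Z ⟶ X) [IsAffineHom i] :
    ⨆ U : X.affineOpens, ((⟨i ⁻¹ᵁ U.1, U.2.preimage i⟩ : Z.affineOpens) : Z.Opens) = ⊤ := by
  rw [eq_top_iff]
  intro x _
  obtain ⟨_, ⟨V, hV, rfl⟩, hxV, -⟩ := X.isBasis_affineOpens.exists_subset_of_mem_open
    (Set.mem_univ (i.base x)) isOpen_univ
  exact Opens.mem_iSup.2 ⟨⟨V, hV⟩, hxV⟩

/-- for a closed immersion `i`, an ideal sheaf on the source is recovered from its direct image -/
theorem comap_map_of_isClosedImmersion (i : Z ⟶ X) [IsClosedImmersion i] (K : Z.IdealSheafData) :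
    (K.map i).comap i = K := by
  refine ext_of_iSup_eq_top (fun U : X.affineOpens => (⟨i ⁻¹ᵁ U.1, U.2.preimage i⟩ : Z.affineOpens))
    (iSup_preimage_affine i) fun U => ?_
  rw [ideal_comap_eq_map i (K.map i) ⟨i ⁻¹ᵁ U.1, U.2.preimage i⟩ U le_rfl,
    ideal_map_of_isAffineHom K i U, ← Scheme.Hom.app_eq_appLE]
  exact Ideal.map_comap_of_surjective _ (i.app_surjective U.1 U.2) _

/-- the kernel of a morphism into a closed subscheme is the restriction of the kernel of the composite -/
theorem ker_eq_comap_ker_comp (j : Z' ⟶ Z) (i : Z ⟶ X) [IsClosedImmersion i] :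
    j.ker = (j ≫ i).ker.comap i := by
  rw [← map_ker, comap_map_of_isClosedImmersion]

/-- the kernel of the inclusion `V(J) ⟶ V(I)` for `I ≤ J` is the restriction of `J` to `V(I)` -/
theorem ker_inclusion {I J : X.IdealSheafData} (h : I ≤ J) :
    (inclusion h).ker = J.comap I.subschemeι := by
  rw [ker_eq_comap_ker_comp (inclusion h) I.subschemeι, inclusion_subschemeι, ker_subschemeι]

/-- an inclusion of closed subschemes with the same support is surjective on points -/
theorem inclusion_surjective {I J : X.IdealSheafData} (h : I ≤ J) (hs : I.support = J.support) :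
    Function.Surjective (inclusion h).base := by
  intro p
  have hp : I.subschemeι.base p ∈ (J.support : Set X) := by
    rw [← hs, ← range_subschemeι]; exact ⟨p, rfl⟩
  rw [← range_subschemeι] at hp
  obtain ⟨q, hq⟩ := hp
  refine ⟨q, ?_⟩
  apply I.subschemeι.isEmbedding.injective
  rw [← hq, ← inclusion_subschemeι h]
  rfl

instance isClosedImmersion_inclusion {I J : X.IdealSheafData} (h : I ≤ J) :
    IsClosedImmersion (inclusion h) := by
  haveI : IsClosedImmersion (inclusion h ≫ I.subschemeι) := by
    rw [inclusion_subschemeι]; infer_instance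
  exact IsClosedImmersion.of_comp (inclusion h) I.subschemeι

section Completion

variable (X) (𝓘 : X.IdealSheafData)

instance isClosedImmersion_completionToX (n : ℕ) :
    IsClosedImmersion (FSch.completionToX X 𝓘 n) :=
  inferInstanceAs (IsClosedImmersion (𝓘 ^ (n + 1)).subschemeι)

theorem completion_ι_toX (n : ℕ) :
    (FSch.completionAlong X 𝓘).ι n ≫ FSch.completionToX X 𝓘 (n + 1) = FSch.completionToX X 𝓘 n :=
  inclusion_subschemeι _

theorem completion_toX_subschemeι (n : ℕ) :
    (FSch.completionAlong X 𝓘).toX n ≫ FSch.completionToX X 𝓘 n = FSch.completionToX X 𝓘 0 := by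
  induction n with
  | zero => exact Category.id_comp _
  | succ n ih =>
    have h : (FSch.completionAlong X 𝓘).toX (n + 1) =
      (FSch.completionAlong X 𝓘).toX n ≫ (FSch.completionAlong X 𝓘).ι n := rfl
    rw [h, Category.assoc, completion_ι_toX, ih]

theorem completion_ker_toX (n : ℕ) :
    ((FSch.completionAlong X 𝓘).toX n).ker = (𝓘 ^ (0 + 1)).comap (FSch.completionToX X 𝓘 n) := by
  rw [ker_eq_comap_ker_comp _ (FSch.completionToX X 𝓘 n), completion_toX_subschemeι]
  congr 1
  exact ker_subschemeι _

theorem completion_ker_ι (n : ℕ) :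
    ((FSch.completionAlong X 𝓘).ι n).ker = (𝓘 ^ (n + 1)).comap (FSch.completionToX X 𝓘 (n + 1)) :=
  ker_inclusion (FSch.pow_succ_le X 𝓘 n)

theorem completion_isFormal : (FSch.completionAlong X 𝓘).IsFormal := fun n =>
  ⟨isClosedImmersion_inclusion _, inclusion_surjective _ (by
    rw [support_pow_succ, support_pow_succ])⟩

theorem completion_isAdic : (FSch.completionAlong X 𝓘).IsAdic := fun n => by
  rw [completion_ker_ι, completion_ker_toX, ← comap_pow, ← pow_mul, zero_add, one_mul]

/-- the completion of a locally Noetherian scheme along an ideal sheaf is a locally Noetherian adic formal system -/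
theorem completion_isLocNoethFormal [IsLocallyNoetherian X] :
    (FSch.completionAlong X 𝓘).IsLocNoethFormal :=
  ⟨completion_isFormal X 𝓘, completion_isAdic X 𝓘, fun n =>
    LocallyOfFiniteType.isLocallyNoetherian (FSch.completionToX X 𝓘 n)⟩

end Completion

end

end Groth.Agent.Lib.T2H6.FSysBasic
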