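-- helper6 (team 2): Noetherianity of nilpotent thickenings with finitely generated ideal (ring level)
import Mathlib

set_option autoImplicit false

namespace Groth.Agent.Lib.T2H6.NilThick

variable {A B : Type*} [CommRing A] [CommRing B] (φ : B →+* A)

/-- an ideal `P ⊇ ker φ` is finitely generated as soon as its image under the surjection `φ` and `ker φ` are -/
theorem fg_of_map_fg (hφ : Function.Surjective φ) (P : Ideal B) (hker : (RingHom.ker φ).FG)
    (hP : (P.map φ).FG) (hle : RingHom.ker φ ≤ P) : P.FG := by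
  classical
  obtain ⟨T, hT⟩ := hP
  have hlift : ∀ t : A, t ∈ (T : Set A) → ∃ x ∈ P, φ x = t := by
    intro t ht
    have : t ∈ P.map φ := by rw [← hT]; exact Ideal.subset_span ht
    exact (Ideal.mem_map_iff_of_surjective φ hφ).1 this
  choose! g hgP hgφ using hlift
  let F : Ideal B := Ideal.span (g '' (T : Set A))
  have hFP : F ≤ P := Ideal.span_le.2 (by rintro _ ⟨t, ht, rfl⟩; exact hgP t ht)
  have hFfg : F.FG := ⟨T.image g, by rw [Finset.coe_image]⟩
  have hmap : F.map φ = P.map φ := by
    rw [← hT, Ideal.map_span, ← Set.image_comp]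
    congr 1
    ext t
    constructor
    · rintro ⟨s, hs, rfl⟩
      rw [Function.comp_apply, hgφ s hs]; exact hs
    · intro ht
      exact ⟨t, ht, hgφ t ht⟩
  have hP' : P = F ⊔ RingHom.ker φ := by
    apply le_antisymm
    · intro x hx
      have hx' : φ x ∈ F.map φ := by rw [hmap]; exact Ideal.mem_map_of_mem φ hx
      obtain ⟨y, hy, hyx⟩ := (Ideal.mem_map_iff_of_surjective φ hφ).1 hx'
      have : x = y + (x - y) := by ring
      rw [this]
      refine Ideal.add_mem _ (Ideal.mem_sup_left hy) (Ideal.mem_sup_right ?_)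
      rw [RingHom.mem_ker, map_sub, hyx, sub_self]
    · exact sup_le hFP hle
  rw [hP']
  exact Submodule.FG.sup hFfg hker

/-- a ring surjecting onto a Noetherian ring with finitely generated nil kernel is Noetherian -/
theorem isNoetherianRing_of_surjective_of_ker (hφ : Function.Surjective φ) [IsNoetherianRing A]
    (hker : (RingHom.ker φ).FG) (hnil : RingHom.ker φ ≤ nilradical B) : IsNoetherianRing B := by
  refine IsNoetherianRing.of_prime fun P hP => ?_
  refine fg_of_map_fg φ hφ P hker (IsNoetherian.noetherian _) (hnil.trans ?_)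
  exact nilradical_le_prime P

/-- nilpotent Nakayama: `N ≤ F ⊔ N²` with `N` nilpotent forces `N ≤ F` -/
theorem le_of_le_sup_sq {N F : Ideal B} (h : N ≤ F ⊔ N ^ 2) {k : ℕ} (hk : N ^ k = ⊥) : N ≤ F := by
  have key : ∀ j : ℕ, N ≤ F ⊔ N ^ (j + 1) := by
    intro j
    induction j with
    | zero => rw [zero_add, pow_one]; exact le_sup_right
    | succ j ih =>
      have h1 : N ^ (j + 1) ≤ F ⊔ N ^ (j + 1 + 1) := by
        calc N ^ (j + 1) = N ^ j * N := pow_succ N j
          _ ≤ N ^ j * (F ⊔ N ^ 2) := Ideal.mul_mono_right h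
          _ = N ^ j * F ⊔ N ^ j * N ^ 2 := Ideal.mul_sup _ _ _
          _ ≤ F ⊔ N ^ (j + 1 + 1) := by
            refine sup_le_sup Ideal.mul_le_right (le_of_eq ?_)
            rw [← pow_add]
      exact ih.trans (sup_le le_sup_left h1)
  have h2 := key k
  have h3 : N ^ (k + 1) = ⊥ := by rw [pow_succ, hk, Ideal.bot_mul]
  rwa [h3, sup_bot_eq] at h2

/-- the inductive step: `B → A` surjective with kernel `N^m`, `N^(m+1) = 0`, `A` Noetherian, the image of `N`
finitely generated (and `N` finitely generated if `m = 1`): then `B` is Noetherian and `N` is finitely generated -/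
theorem step (hφ : Function.Surjective φ) [IsNoetherianRing A] (N : Ideal B) (m : ℕ) (hm : 1 ≤ m)
    (hker : RingHom.ker φ = N ^ m) (hnil : N ^ (m + 1) = ⊥) (hN : (N.map φ).FG)
    (h1 : m = 1 → N.FG) : IsNoetherianRing B ∧ N.FG := by
  classical
  have hkerN : RingHom.ker φ ≤ N := by
    rw [hker]; exact Ideal.pow_le_self (by omega)
  have hNfg : N.FG := by
    by_cases hm1 : m = 1
    · exact h1 hm1
    · have hm2 : 2 ≤ m := by omega
      obtain ⟨T, hT⟩ := hN
      have hlift : ∀ t : A, t ∈ (T : Set A) → ∃ x ∈ N, φ x = t := by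
        intro t ht
        have : t ∈ N.map φ := by rw [← hT]; exact Ideal.subset_span ht
        exact (Ideal.mem_map_iff_of_surjective φ hφ).1 this
      choose! g hgN hgφ using hlift
      let F : Ideal B := Ideal.span (g '' (T : Set A))
      have hFN : F ≤ N := Ideal.span_le.2 (by rintro _ ⟨t, ht, rfl⟩; exact hgN t ht)
      have hFfg : F.FG := ⟨T.image g, by rw [Finset.coe_image]⟩
      have hmap : F.map φ = N.map φ := by
        rw [← hT, Ideal.map_span, ← Set.image_comp]
        congr 1
        ext t
        constructor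
        · rintro ⟨s, hs, rfl⟩
          rw [Function.comp_apply, hgφ s hs]; exact hs
        · intro ht
          exact ⟨t, ht, hgφ t ht⟩
      have hle : N ≤ F ⊔ N ^ 2 := by
        intro x hx
        have hx' : φ x ∈ F.map φ := by rw [hmap]; exact Ideal.mem_map_of_mem φ hx
        obtain ⟨y, hy, hyx⟩ := (Ideal.mem_map_iff_of_surjective φ hφ).1 hx'
        have : x = y + (x - y) := by ring
        rw [this]
        refine Ideal.add_mem _ (Ideal.mem_sup_left hy) (Ideal.mem_sup_right ?_)
        have hk : x - y ∈ RingHom.ker φ := by rw [RingHom.mem_ker, map_sub, hyx, sub_self]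
        rw [hker] at hk
        exact Ideal.pow_le_pow_right hm2 hk
      have : N = F := le_antisymm (le_of_le_sup_sq hle hnil) hFN
      rw [this]; exact hFfg
  refine ⟨?_, hNfg⟩
  refine isNoetherianRing_of_surjective_of_ker φ hφ (by rw [hker]; exact hNfg.pow) ?_
  intro x hx
  rw [hker] at hx
  have hxN : x ∈ N := Ideal.pow_le_self (by omega) hx
  refine ⟨m + 1, ?_⟩
  have : x ^ (m + 1) ∈ N ^ (m + 1) := Ideal.pow_mem_pow hxN _
  rwa [hnil, Ideal.mem_bot] at this

end Groth.Agent.Lib.T2H6.NilThick
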