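-- helper6 (team 2): levels of an adic formal system over a locally Noetherian level 0 with finite-type first ideal
-- are locally Noetherian (EGA I 10.6-style), and related kernel computations in systems of thickenings.
import Mathlib
import Groth.Agent.Lib.T2H6FSysBasic
import Groth.Agent.Lib.T2H6NilThick

set_option autoImplicit false
universe u
open CategoryTheory CategoryTheory.Limits AlgebraicGeometry TopologicalSpace Opposite

namespace Groth.Agent.Lib.T2H6.FSysNoeth

open Scheme.IdealSheafData Groth.Agent.Lib.Helper22.IdealComap Groth.Agent.Lib.T2H6.FSysBasic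

noncomputable section

/-- the kernel of a closed immersion restricts to zero on its source -/
theorem ker_comap_self {Z X : Scheme.{u}} (i : Z ⟶ X) [IsClosedImmersion i] : i.ker.comap i = ⊥ := by
  rw [← map_bot, comap_map_of_isClosedImmersion]

variable (𝔛 : FSch.Sys.{u})

theorem toX_succ (n : ℕ) : 𝔛.toX (n + 1) = 𝔛.toX n ≫ 𝔛.ι n := rfl

theorem ker_toX (hF : 𝔛.IsFormal) (n : ℕ) :
    (𝔛.toX n).ker = (𝔛.toX (n + 1)).ker.comap (𝔛.ι n) := by
  haveI := (hF n).1
  rw [toX_succ]
  exact ker_eq_comap_ker_comp _ _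

theorem ker_toX_pow (hF : 𝔛.IsFormal) (hA : 𝔛.IsAdic) (n : ℕ) : (𝔛.toX n).ker ^ (n + 1) = ⊥ := by
  haveI := (hF n).1
  rw [ker_toX 𝔛 hF n, ← comap_pow, ← hA n, ker_comap_self]

theorem toX_isClosedImmersion (hF : 𝔛.IsFormal) (n : ℕ) : IsClosedImmersion (𝔛.toX n) := by
  induction n with
  | zero => exact inferInstanceAs (IsClosedImmersion (𝟙 (𝔛.X 0)))
  | succ n ih =>
    haveI := ih
    haveI := (hF n).1
    rw [toX_succ]
    infer_instance

/-- levelwise Noetherianity and finite type of the ideals of definition -/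
theorem main (hF : 𝔛.IsFormal) (hA : 𝔛.IsAdic) [IsLocallyNoetherian (𝔛.X 0)]
    (hft : FSch.IdealFT (𝔛.ι 0).ker) (n : ℕ) :
    IsLocallyNoetherian (𝔛.X n) ∧ FSch.IdealFT (𝔛.toX n).ker := by
  induction n with
  | zero =>
    refine ⟨inferInstance, fun U => ?_⟩
    have : (𝔛.toX 0).ker = ⊥ := Scheme.Hom.ker_eq_bot_of_isIso (𝟙 (𝔛.X 0))
    rw [this, ideal_bot]
    exact Submodule.fg_bot
  | succ n ih =>
    obtain ⟨ihN, ihF⟩ := ih
    haveI := (hF n).1
    haveI := toX_isClosedImmersion 𝔛 hF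
    have key : ∀ U : (𝔛.X (n + 1)).affineOpens,
        IsNoetherianRing Γ(𝔛.X (n + 1), U.1) ∧ ((𝔛.toX (n + 1)).ker.ideal U).FG := by
      intro U
      let U' : (𝔛.X n).affineOpens := ⟨𝔛.ι n ⁻¹ᵁ U.1, U.2.preimage (𝔛.ι n)⟩
      haveI : IsNoetherianRing Γ(𝔛.X n, 𝔛.ι n ⁻¹ᵁ U.1) := ihN.component_noetherian U'
      refine NilThick.step ((𝔛.ι n).app U.1).hom ((𝔛.ι n).app_surjective U.1 U.2)
        ((𝔛.toX (n + 1)).ker.ideal U) (n + 1) (by omega) ?_ ?_ ?_ ?_
      · rw [← Scheme.Hom.ker_apply, hA n]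
        rfl
      · have h := ker_toX_pow 𝔛 hF hA (n + 1)
        have h2 := congrArg (fun I => I.ideal U) h
        exact h2
      · have h1 : (𝔛.toX n).ker.ideal U' =
            ((𝔛.toX (n + 1)).ker.ideal U).map ((𝔛.ι n).appLE U.1 U'.1 le_rfl).hom := by
          rw [ker_toX 𝔛 hF n]
          exact ideal_comap_eq_map (𝔛.ι n) _ U' U le_rfl
        rw [Scheme.Hom.app_eq_appLE, ← h1]
        exact ihF U'
      · intro hn
        have hn0 : n = 0 := by omega
        subst hn0
        have : 𝔛.toX (0 + 1) = 𝔛.ι 0 := Category.id_comp _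
        rw [this]
        exact hft U
    exact ⟨⟨fun U => (key U).1⟩, fun U => (key U).2⟩

end

end Groth.Agent.Lib.T2H6.FSysNoeth
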