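-- helper6 (team 2): adic morphisms of systems of thickenings: a system adic over a locally Noetherian adic formal
-- system with locally Noetherian level 0 is a locally Noetherian adic formal system (EGA I 10.13-style)
import Mathlib
import Groth.Agent.Lib.T2H6FSysNoeth

set_option autoImplicit false
universe u
open CategoryTheory CategoryTheory.Limits AlgebraicGeometry TopologicalSpace Opposite

namespace Groth.Agent.Lib.T2H6.FSysAdic

open Scheme.IdealSheafData Groth.Agent.Lib.Helper22.IdealComap Groth.Agent.Lib.T2H6.FSysBasic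
  Groth.Agent.Lib.T2H6.FSysNoeth

noncomputable section

/-- in a cartesian square over a closed immersion, the kernel upstairs is the pullback of the kernel downstairs -/
theorem ker_eq_comap_of_isPullback {ZX ZY X Y : Scheme.{u}} {iX : ZX ⟶ X} {iY : ZY ⟶ Y}
    {Zf : ZX ⟶ ZY} {g : X ⟶ Y} [IsClosedImmersion iY] (h : IsPullback iX Zf g iY) :
    iX.ker = iY.ker.comap g := by
  have e : iX = h.isoPullback.hom ≫ pullback.fst g iY := (h.isoPullback_hom_fst).symm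
  rw [e, Scheme.Hom.ker_comp_of_isIso, ker_fst_of_isClosedImmersion]

variable {𝔛 𝔖 : FSch.Sys.{u}} (f : 𝔛 ⟶ 𝔖) (hf : FSch.IsAdicHom f)

include hf in
theorem isPullback_toX (n : ℕ) :
    IsPullback (𝔛.toX n) ((f : FSch.Hom 𝔛 𝔖).app 0) ((f : FSch.Hom 𝔛 𝔖).app n) (𝔖.toX n) := by
  induction n with
  | zero => exact IsPullback.id_horiz _
  | succ n ih => exact ih.paste_horiz (hf n)

include hf in
theorem isFormal_of_isAdicHom (h𝔖 : 𝔖.IsFormal) : 𝔛.IsFormal := fun n => by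
  haveI := (h𝔖 n).1
  haveI : Surjective (𝔖.ι n) := ⟨(h𝔖 n).2⟩
  refine ⟨MorphismProperty.of_isPullback (P := @IsClosedImmersion) (hf n).flip inferInstance, ?_⟩
  have : Surjective (𝔛.ι n) :=
    MorphismProperty.of_isPullback (P := @Surjective) (hf n).flip inferInstance
  exact this.surj

include hf in
theorem ker_ι_eq (h𝔖 : 𝔖.IsFormal) (n : ℕ) :
    (𝔛.ι n).ker = (𝔖.ι n).ker.comap ((f : FSch.Hom 𝔛 𝔖).app (n + 1)) := by
  haveI := (h𝔖 n).1
  exact ker_eq_comap_of_isPullback (hf n)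

include hf in
theorem ker_toX_eq (h𝔖 : 𝔖.IsFormal) (n : ℕ) :
    (𝔛.toX n).ker = (𝔖.toX n).ker.comap ((f : FSch.Hom 𝔛 𝔖).app n) := by
  haveI := toX_isClosedImmersion 𝔖 h𝔖 n
  exact ker_eq_comap_of_isPullback (isPullback_toX f hf n)

include hf in
theorem isAdic_of_isAdicHom (h𝔖 : 𝔖.IsFormal) (hA : 𝔖.IsAdic) : 𝔛.IsAdic := fun n => by
  rw [ker_ι_eq f hf h𝔖 n, ker_toX_eq f hf h𝔖 (n + 1), ← comap_pow, hA n]

include hf in
theorem noeth_levels (h𝔖 : 𝔖.IsLocNoethFormal) [IsLocallyNoetherian (𝔛.X 0)] (n : ℕ) :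
    ∀ (U : (𝔛.X n).affineOpens) (V : (𝔖.X n).affineOpens),
      U.1 ≤ (f : FSch.Hom 𝔛 𝔖).app n ⁻¹ᵁ V.1 → IsNoetherianRing Γ(𝔛.X n, U.1) := by
  have hF𝔛 := isFormal_of_isAdicHom f hf h𝔖.1
  have hA𝔛 := isAdic_of_isAdicHom f hf h𝔖.1 h𝔖.2.1
  induction n with
  | zero => exact fun U _ _ => IsLocallyNoetherian.component_noetherian U
  | succ n ih =>
    intro U V hUV
    haveI := (hF𝔛 n).1
    haveI := (h𝔖.1 n).1
    let U' : (𝔛.X n).affineOpens := ⟨𝔛.ι n ⁻¹ᵁ U.1, U.2.preimage (𝔛.ι n)⟩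
    let V' : (𝔖.X n).affineOpens := ⟨𝔖.ι n ⁻¹ᵁ V.1, V.2.preimage (𝔖.ι n)⟩
    have hU'V' : U'.1 ≤ (f : FSch.Hom 𝔛 𝔖).app n ⁻¹ᵁ V'.1 := by
      change 𝔛.ι n ⁻¹ᵁ U.1 ≤ (f : FSch.Hom 𝔛 𝔖).app n ⁻¹ᵁ (𝔖.ι n ⁻¹ᵁ V.1)
      rw [← Scheme.Hom.comp_preimage, (f : FSch.Hom 𝔛 𝔖).comm n, Scheme.Hom.comp_preimage]
      exact (𝔛.ι n).preimage_mono hUV
    haveI : IsNoetherianRing Γ(𝔛.X n, 𝔛.ι n ⁻¹ᵁ U.1) := ih U' V' hU'V'
    haveI : IsNoetherianRing Γ(𝔖.X (n + 1), V.1) :=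
      (h𝔖.2.2 (n + 1)).component_noetherian V
    refine NilThick.isNoetherianRing_of_surjective_of_ker ((𝔛.ι n).app U.1).hom
      ((𝔛.ι n).app_surjective U.1 U.2) ?_ ?_
    · rw [← Scheme.Hom.ker_apply, ker_ι_eq f hf h𝔖.1 n,
        ideal_comap_eq_map ((f : FSch.Hom 𝔛 𝔖).app (n + 1)) _ U V hUV]
      have hfg : ((𝔖.ι n).ker.ideal V).FG := IsNoetherian.noetherian _
      exact hfg.map _
    · intro x hx
      rw [← Scheme.Hom.ker_apply] at hx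
      have h1 : (𝔛.ι n).ker ≤ (𝔛.toX (n + 1)).ker := by
        rw [toX_succ]; exact Scheme.Hom.le_ker_comp _ _
      have hx' : x ∈ (𝔛.toX (n + 1)).ker.ideal U := h1 U hx
      refine ⟨n + 1 + 1, ?_⟩
      have h2 := congrArg (fun I => I.ideal U) (ker_toX_pow 𝔛 hF𝔛 hA𝔛 (n + 1))
      have h3 : x ^ (n + 1 + 1) ∈ ((𝔛.toX (n + 1)).ker.ideal U) ^ (n + 1 + 1) :=
        Ideal.pow_mem_pow hx' _
      have h4 : ((𝔛.toX (n + 1)).ker.ideal U) ^ (n + 1 + 1) = ⊥ := h2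
      rwa [h4, Ideal.mem_bot] at h3

include hf in
/-- **EGA I 10.13-style**: a system adic over a locally Noetherian adic formal system, with locally Noetherian
level 0, is a locally Noetherian adic formal system -/
theorem isLocNoethFormal_of_isAdicHom (h𝔖 : 𝔖.IsLocNoethFormal) [IsLocallyNoetherian (𝔛.X 0)] :
    𝔛.IsLocNoethFormal := by
  refine ⟨isFormal_of_isAdicHom f hf h𝔖.1, isAdic_of_isAdicHom f hf h𝔖.1 h𝔖.2.1, fun n => ?_⟩
  refine isLocallyNoetherian_of_affine_cover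
    (S := fun p : {p : (𝔛.X n).affineOpens × (𝔖.X n).affineOpens //
      p.1.1 ≤ (f : FSch.Hom 𝔛 𝔖).app n ⁻¹ᵁ p.2.1} => p.1.1)
    (iSup_affine_le_preimage ((f : FSch.Hom 𝔛 𝔖).app n)) fun p => ?_
  exact noeth_levels f hf h𝔖 n p.1.1 p.1.2 p.2

end

end Groth.Agent.Lib.T2H6.FSysAdic
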