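import Mathlib
import Groth.Prelude.Def_FSch5
import Groth.Agent.S0440
import Groth.Agent.S2292
import Groth.Agent.Lib.Helper19ComplNoeth2

/-!
# An affine adic formal system is a formal spectrum (EGA I 10.6.4-style, levelwise model)
-/

set_option autoImplicit false
open CategoryTheory CategoryTheory.Limits AlgebraicGeometry
universe u

namespace Groth.Agent.Lib.T2H6.FSysAffine

/-- A morphism of systems which is levelwise an isomorphism is an isomorphism. -/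
theorem isIso_of_app {𝔛 𝔜 : FSch.Sys.{u}} (f : 𝔛 ⟶ 𝔜)
    (h : ∀ n, IsIso ((f : FSch.Hom 𝔛 𝔜).app n)) : IsIso f := by
  let g : 𝔜 ⟶ 𝔛 := ⟨fun n => inv ((f : FSch.Hom 𝔛 𝔜).app n), fun n => by
    rw [IsIso.inv_comp_eq, ← Category.assoc, IsIso.eq_comp_inv]
    exact ((f : FSch.Hom 𝔛 𝔜).comm n).symm⟩
  refine ⟨g, ?_, ?_⟩
  · apply FSch.Hom.ext
    funext n
    exact IsIso.hom_inv_id _
  · apply FSch.Hom.ext
    funext n
    exact IsIso.inv_hom_id _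

variable (𝔛 : FSch.Sys.{u})

/-- global sections of the levels -/
abbrev B (n : ℕ) : Type u := Γ(𝔛.X n, ⊤)

/-- transition maps on global sections -/
noncomputable def uu (n : ℕ) : B 𝔛 (n + 1) →+* B 𝔛 n := (𝔛.ι n).appTop.hom

/-- maps to the global sections of level `0` -/
noncomputable def vv (n : ℕ) : B 𝔛 n →+* B 𝔛 0 := (𝔛.toX n).appTop.hom

/-- The inverse limit of the rings of global sections. -/
noncomputable def Alim : Subring (∀ n, B 𝔛 n) where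
  carrier := {y | ∀ n, uu 𝔛 n (y (n + 1)) = y n}
  mul_mem' {a b} ha hb n := by
    change uu 𝔛 n (a (n + 1) * b (n + 1)) = a n * b n
    rw [map_mul, ha n, hb n]
  one_mem' n := by
    change uu 𝔛 n 1 = 1
    rw [map_one]
  add_mem' {a b} ha hb n := by
    change uu 𝔛 n (a (n + 1) + b (n + 1)) = a n + b n
    rw [map_add, ha n, hb n]
  zero_mem' n := by
    change uu 𝔛 n 0 = 0
    rw [map_zero]
  neg_mem' {a} ha n := by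
    change uu 𝔛 n (-(a (n + 1))) = -(a n)
    rw [map_neg, ha n]

/-- projections of the limit -/
noncomputable def pp (n : ℕ) : Alim 𝔛 →+* B 𝔛 n :=
  (Pi.evalRingHom (fun n => B 𝔛 n) n).comp (Alim 𝔛).subtype

theorem pp_apply (n : ℕ) (x : Alim 𝔛) : pp 𝔛 n x = x.1 n := rfl

theorem hp (n : ℕ) : (uu 𝔛 n).comp (pp 𝔛 (n + 1)) = pp 𝔛 n := by
  ext x
  exact x.2 n

theorem hinj (x : Alim 𝔛) (h : ∀ n, pp 𝔛 n x = 0) : x = 0 := by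
  apply Subtype.ext
  funext n
  exact h n

theorem hlift (y : ∀ n, B 𝔛 n) (h : ∀ n, uu 𝔛 n (y (n + 1)) = y n) :
    ∃ x : Alim 𝔛, ∀ n, pp 𝔛 n x = y n :=
  ⟨⟨y, h⟩, fun _ => rfl⟩

theorem hv0 : vv 𝔛 0 = RingHom.id (B 𝔛 0) := by
  ext x
  change (𝟙 (𝔛.X 0) : 𝔛.X 0 ⟶ 𝔛.X 0).appTop.hom x = x
  simp

theorem hv (n : ℕ) : (vv 𝔛 n).comp (uu 𝔛 n) = vv 𝔛 (n + 1) := by
  ext x
  change (𝔛.toX n).appTop.hom ((𝔛.ι n).appTop.hom x) = (𝔛.toX n ≫ 𝔛.ι n).appTop.hom x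
  rw [Scheme.Hom.comp_appTop]
  rfl


theorem isAffine_level (hF : 𝔛.IsFormal) [IsAffine (𝔛.X 0)] (n : ℕ) : IsAffine (𝔛.X n) := by
  haveI := FSch.Sys.toX_isClosedImmersion 𝔛 hF n
  exact Groth.Agent.S0440.result (𝔛.toX n) (FSch.Sys.toX_surjective 𝔛 hF n)

theorem ker_appTop {X Y : Scheme.{u}} (f : X ⟶ Y) [QuasiCompact f] [IsAffine Y] :
    RingHom.ker f.appTop.hom = f.ker.ideal ⟨⊤, isAffineOpen_top Y⟩ := by
  rw [Scheme.Hom.ker_apply]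
  rfl

theorem hu (hF : 𝔛.IsFormal) [IsAffine (𝔛.X 0)] (n : ℕ) : Function.Surjective (uu 𝔛 n) := by
  haveI := isAffine_level 𝔛 hF (n + 1)
  haveI := (hF n).1
  exact (IsClosedImmersion.isAffine_surjective_of_isAffine (𝔛.ι n)).2

theorem hker (hF : 𝔛.IsFormal) (hA : 𝔛.IsAdic) [IsAffine (𝔛.X 0)] (n : ℕ) :
    RingHom.ker (uu 𝔛 n) = RingHom.ker (vv 𝔛 (n + 1)) ^ (n + 1) := by
  haveI := isAffine_level 𝔛 hF (n + 1)
  haveI := (hF n).1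
  haveI := FSch.Sys.toX_isClosedImmersion 𝔛 hF (n + 1)
  change RingHom.ker (𝔛.ι n).appTop.hom = RingHom.ker (𝔛.toX (n + 1)).appTop.hom ^ (n + 1)
  rw [ker_appTop, ker_appTop, hA n]
  rfl

theorem hfg (hF : 𝔛.IsFormal) [IsAffine (𝔛.X 0)] (hft : FSch.IdealFT (𝔛.ι 0).ker) :
    (RingHom.ker (vv 𝔛 1)).FG := by
  haveI := isAffine_level 𝔛 hF 1
  haveI := (hF 0).1
  have h1 : 𝔛.toX 1 = 𝔛.ι 0 := Category.id_comp _
  change (RingHom.ker (𝔛.toX 1).appTop.hom).FG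
  rw [h1, ker_appTop]
  exact hft ⟨⊤, isAffineOpen_top _⟩


/-- the ideal of definition of the limit ring -/
noncomputable def II : Ideal (Alim 𝔛) := RingHom.ker (pp 𝔛 0)

theorem main_alg (hF : 𝔛.IsFormal) (hA : 𝔛.IsAdic) [IsAffine (𝔛.X 0)]
    (hft : FSch.IdealFT (𝔛.ι 0).ker) :
    IsAdicComplete (II 𝔛) (Alim 𝔛) ∧
      (∀ n, Function.Surjective (pp 𝔛 n) ∧ RingHom.ker (pp 𝔛 n) = II 𝔛 ^ (n + 1)) ∧
      (II 𝔛).FG :=
  Groth.Agent.S2292.result (B 𝔛) (uu 𝔛) (hu 𝔛 hF) (vv 𝔛) (hv0 𝔛) (hv 𝔛) (hker 𝔛 hF hA)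
    (hfg 𝔛 hF hft) (Alim 𝔛) (pp 𝔛) (hp 𝔛) (hinj 𝔛) (hlift 𝔛)

theorem isNoetherianRing_Alim (hF : 𝔛.IsFormal) (hA : 𝔛.IsAdic) [IsAffine (𝔛.X 0)]
    [IsLocallyNoetherian (𝔛.X 0)] (hft : FSch.IdealFT (𝔛.ι 0).ker) :
    IsNoetherianRing (Alim 𝔛) := by
  obtain ⟨h1, h2, h3⟩ := main_alg 𝔛 hF hA hft
  haveI := h1
  haveI : IsNoetherianRing (B 𝔛 0) :=
    IsLocallyNoetherian.component_noetherian ⟨⊤, isAffineOpen_top (𝔛.X 0)⟩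
  have e : (Alim 𝔛 ⧸ II 𝔛) ≃+* B 𝔛 0 := RingHom.quotientKerEquivOfSurjective (h2 0).1
  haveI : IsNoetherianRing (Alim 𝔛 ⧸ II 𝔛) := isNoetherianRing_of_ringEquiv (B 𝔛 0) e.symm
  exact Groth.Agent.Lib.Helper19.isNoetherianRing_of_isAdicComplete_of_fg (II 𝔛) h3

section Iso

variable (hs : ∀ n, Function.Surjective (pp 𝔛 n)) (hk : ∀ n, RingHom.ker (pp 𝔛 n) = II 𝔛 ^ (n + 1))

/-- `A ⧸ I^(n+1) ≃ Γ(X n)` -/
noncomputable def ee (n : ℕ) : (Alim 𝔛 ⧸ II 𝔛 ^ (n + 1)) ≃+* B 𝔛 n :=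
  (Ideal.quotEquivOfEq (hk n).symm).trans (RingHom.quotientKerEquivOfSurjective (hs n))

theorem ee_mk (n : ℕ) (a : Alim 𝔛) : ee 𝔛 hs hk n (Ideal.Quotient.mk _ a) = pp 𝔛 n a := by
  simp [ee, RingHom.quotientKerEquivOfSurjective, RingHom.kerLift_mk]

theorem ee_comm (n : ℕ) :
    (ee 𝔛 hs hk n : (Alim 𝔛 ⧸ II 𝔛 ^ (n + 1)) →+* B 𝔛 n).comp
        (Ideal.Quotient.factor (Ideal.pow_le_pow_right (Nat.le_succ (n + 1)))) =
      (uu 𝔛 n).comp (ee 𝔛 hs hk (n + 1) : (Alim 𝔛 ⧸ II 𝔛 ^ (n + 1 + 1)) →+* B 𝔛 (n + 1)) := by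
  apply Ideal.Quotient.ringHom_ext
  ext a
  simp only [RingHom.coe_comp, Function.comp_apply, Ideal.Quotient.factor_mk, RingHom.coe_coe, ee_mk]
  exact (a.2 n).symm


/-- the levelwise comparison morphisms -/
noncomputable def FF (hF : 𝔛.IsFormal) [IsAffine (𝔛.X 0)] :
    𝔛 ⟶ FSch.spf (Alim 𝔛) (II 𝔛) :=
  ⟨fun n =>
    haveI := isAffine_level 𝔛 hF n
    (𝔛.X n).isoSpec.hom ≫
      Spec.map (CommRingCat.ofHom (ee 𝔛 hs hk n : (Alim 𝔛 ⧸ II 𝔛 ^ (n + 1)) →+* B 𝔛 n)),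
   fun n => by
    haveI := isAffine_level 𝔛 hF n
    haveI := isAffine_level 𝔛 hF (n + 1)
    change ((𝔛.X n).isoSpec.hom ≫ Spec.map (CommRingCat.ofHom _)) ≫
        Spec.map (CommRingCat.ofHom _) =
      𝔛.ι n ≫ ((𝔛.X (n + 1)).isoSpec.hom ≫ Spec.map (CommRingCat.ofHom _))
    rw [Category.assoc, ← Spec.map_comp, ← CommRingCat.ofHom_comp, ee_comm 𝔛 hs hk n,
      ← Scheme.isoSpec_hom_naturality_assoc, ← Spec.map_comp]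
    rfl⟩

theorem isIso_FF (hF : 𝔛.IsFormal) [IsAffine (𝔛.X 0)] : IsIso (FF 𝔛 hs hk hF) := by
  apply isIso_of_app
  intro n
  haveI := isAffine_level 𝔛 hF n
  change IsIso ((𝔛.X n).isoSpec.hom ≫
      Spec.map (CommRingCat.ofHom (ee 𝔛 hs hk n : (Alim 𝔛 ⧸ II 𝔛 ^ (n + 1)) →+* B 𝔛 n)))
  haveI : IsIso (CommRingCat.ofHom (ee 𝔛 hs hk n : (Alim 𝔛 ⧸ II 𝔛 ^ (n + 1)) →+* B 𝔛 n)) :=
    (ee 𝔛 hs hk n).toCommRingCatIso.isIso_hom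
  infer_instance

end Iso

theorem main (hF : 𝔛.IsFormal) (hA : 𝔛.IsAdic) [IsAffine (𝔛.X 0)] [IsLocallyNoetherian (𝔛.X 0)]
    (hft : FSch.IdealFT (𝔛.ι 0).ker) :
    ∃ (A : Type u) (_ : CommRing A) (J : Ideal A),
      IsNoetherianRing A ∧ IsAdicComplete J A ∧ Nonempty (𝔛 ≅ FSch.spf A J) := by
  obtain ⟨h1, h2, h3⟩ := main_alg 𝔛 hF hA hft
  refine ⟨Alim 𝔛, inferInstance, II 𝔛, isNoetherianRing_Alim 𝔛 hF hA hft, h1, ?_⟩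
  haveI := isIso_FF 𝔛 (fun n => (h2 n).1) (fun n => (h2 n).2) hF
  exact ⟨asIso (FF 𝔛 (fun n => (h2 n).1) (fun n => (h2 n).2) hF)⟩

end Groth.Agent.Lib.T2H6.FSysAffine
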