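import Groth.Agent.S0056
import Groth.Agent.Lib.T2H5AdicPicD
import Groth.Agent.Lib.T2H6ThickKer
import Groth.Agent.Lib.T2H6FSysBasic
import Groth.Agent.Lib.T2H6FSysAffine
import Groth.Agent.Lib.T2H6FSysAdic
import Groth.Prelude.Def_FSch4

/-!
# Projective algebraization of a flat proper formal scheme with `H²(X₀, O) = 0` (helper5)

* `idealSpec_pow`, `ker_specQuot`, `bb`: the levels of the completion of `Spec A` along `V(m)` are `Spec (A/m^{n+1})`;
* `main`: the algebraization statement, from `AdicPic.adic_lift` (lifting the ample module through the thickenings) and the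
  algebraization theorem with an ample module.
-/

set_option autoImplicit false
set_option backward.isDefEq.respectTransparency.types false
set_option linter.style.haveILetI false
set_option linter.unusedSectionVars false
set_option linter.unusedVariables false
universe u

open CategoryTheory CategoryTheory.Limits AlgebraicGeometry

namespace Groth.Agent.Lib.T2H5.ProjAlg

open Groth.Agent.Lib.T2H6.FSysBasic

section affine

variable (A : Type u) [CommRing A] (m : Ideal A)

theorem idealSpec_pow (n : ℕ) : FSch.idealSpec A (m ^ n) = (FSch.idealSpec A m) ^ n := by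
  apply Scheme.IdealSheafData.ext_of_isAffine
  exact Groth.Agent.Lib.T2H6.ThickKer.kerSpec_pow_ideal_top m n

instance isClosedImmersion_specQuot (n : ℕ) : IsClosedImmersion (CohB1.specQuot m n) := by
  unfold CohB1.specQuot
  exact IsClosedImmersion.spec_of_surjective _ Ideal.Quotient.mk_surjective

theorem ker_specQuot (n : ℕ) : (CohB1.specQuot m n).ker = (FSch.idealSpec A m) ^ (n + 1) := by
  rw [← idealSpec_pow]
  rfl

theorem ker_completionToX {X : Scheme.{u}} (𝓘 : X.IdealSheafData) (n : ℕ) :
    (FSch.completionToX X 𝓘 n).ker = 𝓘 ^ (n + 1) :=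
  Scheme.IdealSheafData.ker_subschemeι _

/-- the identification of the `n`-th level of the completion of `Spec A` along `V(m)` with `Spec (A/m^{n+1})` -/
noncomputable def bb (n : ℕ) :
    (FSch.completionAlong (Spec (CommRingCat.of A)) (FSch.idealSpec A m)).X n ⟶
      Spec (CommRingCat.of (A ⧸ m ^ (n + 1))) :=
  IsClosedImmersion.lift (CohB1.specQuot m n)
    (FSch.completionToX (Spec (CommRingCat.of A)) (FSch.idealSpec A m) n)
    (by rw [ker_specQuot, ker_completionToX])

theorem bb_specQuot (n : ℕ) :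
    bb A m n ≫ CohB1.specQuot m n =
      FSch.completionToX (Spec (CommRingCat.of A)) (FSch.idealSpec A m) n :=
  IsClosedImmersion.lift_fac _ _ _

instance isIso_bb (n : ℕ) : IsIso (bb A m n) :=
  IsClosedImmersion.isIso_lift (CohB1.specQuot m n)
    (FSch.completionToX (Spec (CommRingCat.of A)) (FSch.idealSpec A m) n)
    (by rw [ker_specQuot, ker_completionToX])

theorem bb_trans (n : ℕ) :
    (FSch.completionAlong (Spec (CommRingCat.of A)) (FSch.idealSpec A m)).ι n ≫ bb A m (n + 1) =
      bb A m n ≫ CohB1.specQuotTrans m n := by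
  apply (cancel_mono (CohB1.specQuot m (n + 1))).mp
  rw [Category.assoc, Category.assoc, CohB1.specQuotTrans_specQuot, bb_specQuot, bb_specQuot]
  exact completion_ι_toX _ _ n

end affine

theorem main (A : Type u) [CommRing A] [IsLocalRing A]
    [IsNoetherianRing A] [IsAdicComplete (IsLocalRing.maximalIdeal A) A]
    (𝔛 : FSch.Sys.{u}) (f : 𝔛 ⟶ FSch.completionAlong (Spec (CommRingCat.of A))
      (FSch.idealSpec A (IsLocalRing.maximalIdeal A)))
    (hf : FSch.IsProperHom f) (hflat : ∀ n : ℕ, Flat ((f : FSch.Hom _ _).app n))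
    (hproj : ∃ L₀ : (𝔛.X 0).Modules, CohB1.IsAmple L₀)
    (hH2 : Subsingleton (Coh.HH (𝔛.X 0) (Coh.structureModule (𝔛.X 0)) 2)) :
    ∃ (X : Scheme.{u}) (g : X ⟶ (Spec (CommRingCat.of A))) (L : X.Modules), IsProper g ∧
      CohB1.IsAmple L ∧
      ∃ (h : FSch.PowCompat g ((FSch.idealSpec A (IsLocalRing.maximalIdeal A)).comap g)
          (FSch.idealSpec A (IsLocalRing.maximalIdeal A)))
        (e : 𝔛 ≅ FSch.completionAlong X ((FSch.idealSpec A (IsLocalRing.maximalIdeal A)).comap g)),
        e.hom ≫ FSch.completionMap g ((FSch.idealSpec A (IsLocalRing.maximalIdeal A)).comap g)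
          (FSch.idealSpec A (IsLocalRing.maximalIdeal A)) h = f := by
  obtain ⟨L₀, hL₀⟩ := hproj
  -- chain data
  let fs : ∀ n, 𝔛.X n ⟶ Spec (CommRingCat.of (A ⧸ (IsLocalRing.maximalIdeal A) ^ (n + 1))) :=
    fun n => (f : FSch.Hom _ _).app n ≫ bb A (IsLocalRing.maximalIdeal A) n
  have hcart : ∀ n, IsPullback (𝔛.ι n) (fs n) (fs (n + 1))
      (CohB1.specQuotTrans (IsLocalRing.maximalIdeal A) n) := by
    intro n
    have h1 := hf.1 n
    have h2 : IsPullback ((FSch.completionAlong (Spec (CommRingCat.of A))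
        (FSch.idealSpec A (IsLocalRing.maximalIdeal A))).ι n)
        (bb A (IsLocalRing.maximalIdeal A) n) (bb A (IsLocalRing.maximalIdeal A) (n + 1))
        (CohB1.specQuotTrans (IsLocalRing.maximalIdeal A) n) :=
      IsPullback.of_vert_isIso ⟨bb_trans A (IsLocalRing.maximalIdeal A) n⟩
    exact h1.paste_vert h2
  have hflat' : ∀ n, Flat (fs n) := fun n => by
    haveI := hflat n
    exact inferInstanceAs (Flat ((f : FSch.Hom _ _).app n ≫ bb A (IsLocalRing.maximalIdeal A) n))
  have hp : IsProper (fs 0) := by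
    haveI := hf.2
    exact inferInstanceAs (IsProper ((f : FSch.Hom _ _).app 0 ≫ bb A (IsLocalRing.maximalIdeal A) 0))
  haveI hsep : (𝔛.X 0).IsSeparated := by
    haveI := hp
    exact (HasAffineProperty.iff_of_isAffine (P := @IsSeparated) (f := fs 0)).mp inferInstance
  obtain ⟨L, hLinv, ⟨e0⟩, hLtr⟩ := Groth.Agent.Lib.T2H5.AdicPic.adic_lift A 𝔛.X fs 𝔛.ι hcart hflat'
    hH2 L₀ hL₀.1
  -- replace the level `0` member by `L₀` itself
  let L' : ∀ n, (𝔛.X n).Modules := fun n =>
    Nat.rec (motive := fun n => (𝔛.X n).Modules) L₀ (fun k _ => L (k + 1)) n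
  have hL'inv : ∀ n, PicF.IsInvertible (L' n) := by
    intro n
    cases n with
    | zero => exact hL₀.1
    | succ k => exact hLinv (k + 1)
  have hφ : ∀ n, Nonempty ((Scheme.Modules.pullback (𝔛.ι n)).obj (L' (n + 1)) ≅ L' n) := by
    intro n
    cases n with
    | zero =>
      obtain ⟨e1⟩ := hLtr 0
      exact ⟨e1 ≪≫ e0⟩
    | succ k => exact hLtr (k + 1)
  obtain ⟨Y, g, M, e, hg, hMinv, hMample, hpb, hcomp, -⟩ :=
    Groth.Agent.S0056.result A (IsLocalRing.maximalIdeal A) 𝔛.X fs 𝔛.ι hcart hp L' hL'inv hφ hL₀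
  refine ⟨Y, g, M, hg, hMample, ?_⟩
  have hker : ∀ n, (e n).ker =
      ((FSch.idealSpec A (IsLocalRing.maximalIdeal A)).comap g) ^ (n + 1) := by
    intro n
    rw [Groth.Agent.Lib.T2H6.FSysAdic.ker_eq_comap_of_isPullback (hpb n), ker_specQuot,
      Groth.Agent.Lib.T2H6.FSysBasic.comap_pow]
  have hcl : ∀ n, IsClosedImmersion (e n) := fun n =>
    MorphismProperty.of_isPullback (P := @IsClosedImmersion) (hpb n).flip inferInstance
  have hcompat : FSch.PowCompat g ((FSch.idealSpec A (IsLocalRing.maximalIdeal A)).comap g)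
      (FSch.idealSpec A (IsLocalRing.maximalIdeal A)) := fun n =>
    le_of_eq (Groth.Agent.Lib.T2H6.FSysBasic.comap_pow g _ (n + 1))
  -- the levelwise isomorphisms
  have hle : ∀ n, (FSch.completionToX Y
      ((FSch.idealSpec A (IsLocalRing.maximalIdeal A)).comap g) n).ker ≤ (e n).ker := fun n => by
    rw [ker_completionToX, hker n]
  let c : ∀ n, 𝔛.X n ⟶
      (FSch.completionAlong Y ((FSch.idealSpec A (IsLocalRing.maximalIdeal A)).comap g)).X n :=
    fun n => IsClosedImmersion.lift
      (FSch.completionToX Y ((FSch.idealSpec A (IsLocalRing.maximalIdeal A)).comap g) n) (e n)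
      (hle n)
  have hc : ∀ n, c n ≫
      FSch.completionToX Y ((FSch.idealSpec A (IsLocalRing.maximalIdeal A)).comap g) n = e n :=
    fun n => IsClosedImmersion.lift_fac _ _ _
  have hciso : ∀ n, IsIso (c n) := fun n => by
    haveI := hcl n
    exact IsClosedImmersion.isIso_lift
      (FSch.completionToX Y ((FSch.idealSpec A (IsLocalRing.maximalIdeal A)).comap g) n) (e n)
      (by rw [ker_completionToX, hker n])
  have hcomm : ∀ n, c n ≫
      (FSch.completionAlong Y ((FSch.idealSpec A (IsLocalRing.maximalIdeal A)).comap g)).ι n =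
      𝔛.ι n ≫ c (n + 1) := by
    intro n
    apply (cancel_mono (FSch.completionToX Y
      ((FSch.idealSpec A (IsLocalRing.maximalIdeal A)).comap g) (n + 1))).mp
    rw [Category.assoc, Category.assoc, completion_ι_toX, hc n, hc (n + 1)]
    exact hcomp n
  let E : 𝔛 ⟶ FSch.completionAlong Y ((FSch.idealSpec A (IsLocalRing.maximalIdeal A)).comap g) :=
    ⟨c, hcomm⟩
  haveI hE : IsIso E := Groth.Agent.Lib.T2H6.FSysAffine.isIso_of_app E hciso
  have key : ∀ n, c n ≫ (FSch.completionMap g
      ((FSch.idealSpec A (IsLocalRing.maximalIdeal A)).comap g)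
      (FSch.idealSpec A (IsLocalRing.maximalIdeal A)) hcompat : FSch.Hom _ _).app n =
      (f : FSch.Hom _ _).app n := by
    intro n
    apply (cancel_mono (FSch.completionToX (Spec (CommRingCat.of A))
      (FSch.idealSpec A (IsLocalRing.maximalIdeal A)) n)).mp
    have h1 : (FSch.completionMap g ((FSch.idealSpec A (IsLocalRing.maximalIdeal A)).comap g)
        (FSch.idealSpec A (IsLocalRing.maximalIdeal A)) hcompat : FSch.Hom _ _).app n ≫
        FSch.completionToX (Spec (CommRingCat.of A))
          (FSch.idealSpec A (IsLocalRing.maximalIdeal A)) n =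
        FSch.completionToX Y ((FSch.idealSpec A (IsLocalRing.maximalIdeal A)).comap g) n ≫ g :=
      Scheme.IdealSheafData.subschemeMap_subschemeι _ _ g
        (Scheme.IdealSheafData.le_map_iff_comap_le.mpr (hcompat n))
    rw [Category.assoc, h1, ← Category.assoc, hc n, (hpb n).w]
    change ((f : FSch.Hom _ _).app n ≫ bb A (IsLocalRing.maximalIdeal A) n) ≫ _ = _
    rw [Category.assoc, bb_specQuot]
  refine ⟨hcompat, asIso E, ?_⟩
  apply FSch.Hom.ext
  funext n
  exact key n

end Groth.Agent.Lib.T2H5.ProjAlg
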