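import Groth.Agent.Lib.T2H5AffFormalA
import Groth.Agent.Lib.T2H2AlgzD
import Groth.Agent.Lib.T2H5ProjAlg
import Groth.Agent.Lib.Helper2PullbackSec
import Groth.Prelude.Def_FSch3

/-!
# Compatible algebraization of a chain of modules, II; the affine formal existence theorem (helper5)

`isIso_delta`, `compat` for an adic chain; `exists_tilde_iso`: over a Noetherian `J`-adically complete ring `A`, every system of
coherent modules on the completion of `Spec A` along `V(J)` is isomorphic, as a system, to the completion `M^Δ` of a finite module.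
-/

set_option autoImplicit false
set_option backward.isDefEq.respectTransparency.types false
set_option linter.style.haveILetI false
set_option linter.unusedSectionVars false
set_option linter.unusedVariables false
universe u

open CategoryTheory CategoryTheory.Limits AlgebraicGeometry TopologicalSpace Opposite

namespace Groth.Agent.Lib.T2H5.AffFormal

open Groth.Agent.Lib.T2H5.TrivThick Groth.Agent.Lib.T2H2.AlgzB Groth.Agent.Lib.T2H9.Thick
  Groth.Agent.Lib.T2H9.FlatFib Groth.Agent.Lib.T2H9.FibQuot Groth.Agent.Lib.T2H9.Alg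
  Groth.Agent.Lib.T2H5.ProjAlg Groth.Agent.Lib.T2H6.FSysBasic

section chain

variable {A : Type u} [CommRing A] (J : Ideal A)
  (Y : Scheme.{u}) [Y.Over (Spec (CommRingCat.of A))]
  (Xs : ℕ → Scheme.{u}) [∀ k, (Xs k).Over (Spec (CommRingCat.of A))]
  (p : ∀ k, Xs k ⟶ Spec (CommRingCat.of (A ⧸ J ^ (k + 1))))
  (i : ∀ k, Xs k ⟶ Xs (k + 1))
  (e : ∀ k, Xs k ⟶ Y) [∀ k, IsClosedImmersion (e k)]
  (het : ∀ k, e k ≫ (Y ↘ Spec (CommRingCat.of A)) = Xs k ↘ Spec (CommRingCat.of A))
  (hec : ∀ k, e k = i k ≫ e (k + 1))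
  (hpb : ∀ k, IsPullback (e k) (p k) (Y ↘ Spec (CommRingCat.of A)) (CohB1.specQuot J k))
  (F : ∀ k, (Xs k).Modules)
  (ψ : ∀ k, (Scheme.Modules.pullback (i k)).obj (F (k + 1)) ≅ F k)
  (N : Y.Modules)
  (ρ : ∀ k, N ⟶ (Scheme.Modules.pushforward (e k)).obj (F k))

/-- the adjoint maps `e_k^* N ⟶ F_k` -/
noncomputable def delta (k : ℕ) : (Scheme.Modules.pullback (e k)).obj N ⟶ F k :=
  ((Scheme.Modules.pullbackPushforwardAdjunction (e k)).homEquiv N (F k)).symm (ρ k)

include het hpb in
theorem isIso_delta [N.IsQuasicoherent] [∀ k, (F k).IsQuasicoherent]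
    (hρ : ∀ k, IsQuotBy (J ^ (k + 1)) (ρ k)) (k : ℕ) : IsIso (delta Y Xs e F N ρ k) := by
  let adj := Scheme.Modules.pullbackPushforwardAdjunction (e k)
  have h2 : IsQuotBy (J ^ (k + 1)) (η (e k) N) :=
    isQuotBy_η Y (e k) (p k) (CohB1.specQuot J k) (hpb k) (J ^ (k + 1)) (ker_φT_specQuot J k) N
  obtain ⟨d, hd⟩ := h2.exists_iso (hρ k)
  haveI : ((Scheme.Modules.pullback (e k)).obj N).IsQuasicoherent :=
    Groth.Agent.Lib.Helper2.PullbackSec.isQuasicoherent_pullback (e k) N
  haveI h3 : IsIso (adj.counit.app (F k)) :=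
    isIso_counit Y (e k) (p k) (CohB1.specQuot J k) (hpb k) (J ^ (k + 1)) (ker_φT_specQuot J k)
      (het k) (F k)
  haveI h4 : IsIso (adj.counit.app ((Scheme.Modules.pullback (e k)).obj N)) :=
    isIso_counit Y (e k) (p k) (CohB1.specQuot J k) (hpb k) (J ^ (k + 1)) (ker_φT_specQuot J k)
      (het k) _
  have h5 : (Scheme.Modules.pullback (e k)).map (η (e k) N) ≫
      adj.counit.app ((Scheme.Modules.pullback (e k)).obj N) = 𝟙 _ :=
    adj.left_triangle_components N
  have h6 : (Scheme.Modules.pullback (e k)).map (η (e k) N) =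
      inv (adj.counit.app ((Scheme.Modules.pullback (e k)).obj N)) := by
    rw [← cancel_mono (adj.counit.app ((Scheme.Modules.pullback (e k)).obj N)), h5,
      IsIso.inv_hom_id]
  have h7 : delta Y Xs e F N ρ k =
      inv (adj.counit.app ((Scheme.Modules.pullback (e k)).obj N)) ≫
        (Scheme.Modules.pullback (e k)).map d.hom ≫ adj.counit.app (F k) := by
    unfold delta
    rw [Adjunction.homEquiv_counit, ← hd, Functor.map_comp, h6, Category.assoc]
  rw [h7]
  infer_instance

theorem compat (hcomp : ∀ k, ρ (k + 1) ≫ tF Y Xs i e hec F ψ k = ρ k) (k : ℕ) :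
    (Scheme.Modules.pullback (i k)).map (delta Y Xs e F N ρ (k + 1)) ≫ (ψ k).hom =
      (Scheme.Modules.pullbackComp (i k) (e (k + 1))).hom.app N ≫
        (Scheme.Modules.pullbackCongr (hec k).symm).hom.app N ≫ delta Y Xs e F N ρ k := by
  unfold delta
  refine compat_step' (i k) (e (k + 1)) (e k) (hec k) (F (k + 1)) (F k) (ψ k) N (ρ (k + 1)) (ρ k) ?_
  rw [← hcomp k]
  rfl

theorem compat_iso (hcomp : ∀ k, ρ (k + 1) ≫ tF Y Xs i e hec F ψ k = ρ k) (k : ℕ) :
    (Scheme.Modules.pullback (i k)).map (delta Y Xs e F N ρ (k + 1)) ≫ (ψ k).hom =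
      (Scheme.Modules.pullbackComp (i k) (e (k + 1)) ≪≫
        Scheme.Modules.pullbackCongr (hec k).symm).hom.app N ≫ delta Y Xs e F N ρ k := by
  unfold delta
  refine compat_step_iso (i k) (e (k + 1)) (e k) (hec k) (F (k + 1)) (F k) (ψ k) N (ρ (k + 1))
    (ρ k) ?_
  rw [← hcomp k]
  rfl

/-- `compat_iso` with an arbitrary proof of the equation used for `pullbackCongr` (so that the statement can be matched
literally) -/
theorem compat_iso' (hcomp : ∀ k, ρ (k + 1) ≫ tF Y Xs i e hec F ψ k = ρ k) (k : ℕ)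
    (h : i k ≫ e (k + 1) = e k) :
    (Scheme.Modules.pullback (i k)).map (delta Y Xs e F N ρ (k + 1)) ≫ (ψ k).hom =
      (Scheme.Modules.pullbackComp (i k) (e (k + 1)) ≪≫
        Scheme.Modules.pullbackCongr h).hom.app N ≫ delta Y Xs e F N ρ k := by
  have e1 : h = (hec k).symm := rfl
  subst e1
  exact compat_iso Y Xs i e hec F ψ N ρ hcomp k

end chain

end Groth.Agent.Lib.T2H5.AffFormal
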