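import Groth.Agent.Lib.T2H5AffFormalB

/-!
# The affine formal existence theorem with transition isomorphisms (helper5)

`theta`: the morphism of systems `F^Δ ⟶ 𝔐` adjoint to a compatible family `N ⟶ (u_k)_* 𝔐_k`.
`exists_tilde_iso`: over a Noetherian `J`-adically complete ring `A`, every system of coherent modules on the completion of
`Spec A` along `V(J)` is isomorphic, as a system, to the completion `M^Δ` of a finite module.
-/

set_option autoImplicit false
set_option backward.isDefEq.respectTransparency.types false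
set_option linter.style.haveILetI false
set_option linter.unusedSectionVars false
set_option linter.unusedVariables false
universe u

open CategoryTheory CategoryTheory.Limits AlgebraicGeometry TopologicalSpace Opposite

namespace Groth.Agent.Lib.T2H5.AffFormal

open Groth.Agent.Lib.T2H5.TrivThick Groth.Agent.Lib.T2H2.AlgzB Groth.Agent.Lib.T2H9.Thick
  Groth.Agent.Lib.T2H9.FlatFib Groth.Agent.Lib.T2H9.FibQuot Groth.Agent.Lib.T2H9.Alg
  Groth.Agent.Lib.T2H5.ProjAlg Groth.Agent.Lib.T2H6.FSysBasic Groth.Agent.Lib.T2H2.AlgzD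
  Groth.Agent.Lib.T2H9.GrAdic

section modsys

variable {𝔛 : FSch.Sys.{u}}

/-- a morphism of systems of modules which is levelwise an isomorphism is an isomorphism -/
theorem isIso_of_app {𝔐 𝔑 : FSch.ModSys 𝔛} (φ : 𝔐 ⟶ 𝔑)
    (h : ∀ n, IsIso ((φ : FSch.ModSys.Hom 𝔐 𝔑).app n)) : IsIso φ := by
  let g : 𝔑 ⟶ 𝔐 := ⟨fun n => inv ((φ : FSch.ModSys.Hom 𝔐 𝔑).app n), fun n => by
    rw [Functor.map_inv, IsIso.inv_comp_eq, ← Category.assoc, IsIso.eq_comp_inv]
    exact ((φ : FSch.ModSys.Hom 𝔐 𝔑).comm n).symm⟩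
  refine ⟨g, ?_, ?_⟩
  · apply FSch.ModSys.Hom.ext
    funext n
    exact IsIso.hom_inv_id _
  · apply FSch.ModSys.Hom.ext
    funext n
    exact IsIso.inv_hom_id _

end modsys

section theta

variable {X : Scheme.{u}} (𝓘 : X.IdealSheafData)

theorem hec (k : ℕ) : FSch.completionToX X 𝓘 k =
    (FSch.completionAlong X 𝓘).ι k ≫ FSch.completionToX X 𝓘 (k + 1) :=
  (completion_ι_toX X 𝓘 k).symm

theorem complTransIso_eq (n : ℕ)
    (h : (FSch.completionAlong X 𝓘).ι n ≫ FSch.completionToX X 𝓘 (n + 1) =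
      FSch.completionToX X 𝓘 n) :
    FSch.complTransIso 𝓘 n =
      Scheme.Modules.pullbackComp ((FSch.completionAlong X 𝓘).ι n)
          (FSch.completionToX X 𝓘 (n + 1)) ≪≫
        Scheme.Modules.pullbackCongr h := rfl

theorem complMod_e_hom (F : X.Modules) (n : ℕ)
    (h : (FSch.completionAlong X 𝓘).ι n ≫ FSch.completionToX X 𝓘 (n + 1) =
      FSch.completionToX X 𝓘 n) :
    ((FSch.complMod 𝓘 F).e n).hom =
      (Scheme.Modules.pullbackComp ((FSch.completionAlong X 𝓘).ι n)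
          (FSch.completionToX X 𝓘 (n + 1)) ≪≫
        Scheme.Modules.pullbackCongr h).hom.app F :=
  ((congrArg Iso.hom (FSch.complMod_e 𝓘 F n)).trans (Iso.app_hom _ _)).trans
    (congrArg (fun x : Scheme.Modules.pullback (FSch.completionToX X 𝓘 (n + 1)) ⋙
      Scheme.Modules.pullback ((FSch.completionAlong X 𝓘).ι n) ≅
        Scheme.Modules.pullback (FSch.completionToX X 𝓘 n) => x.hom.app F)
      (complTransIso_eq 𝓘 n h))

variable (𝔐 : FSch.ModSys (FSch.completionAlong X 𝓘)) (N : X.Modules)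
  (ρ : ∀ k, N ⟶ (Scheme.Modules.pushforward (FSch.completionToX X 𝓘 k)).obj (𝔐.F k))

/-- the adjoint maps, on the completion -/
noncomputable def dl (k : ℕ) : (FSch.complMod 𝓘 N).F k ⟶ 𝔐.F k :=
  delta X (FSch.completionAlong X 𝓘).X (FSch.completionToX X 𝓘) 𝔐.F N ρ k

theorem dl_comm (hcomp : ∀ k, ρ (k + 1) ≫ tF X (FSch.completionAlong X 𝓘).X
      (FSch.completionAlong X 𝓘).ι (FSch.completionToX X 𝓘) (hec 𝓘) 𝔐.F 𝔐.e k = ρ k) (k : ℕ) :
    (Scheme.Modules.pullback ((FSch.completionAlong X 𝓘).ι k)).map (dl 𝓘 𝔐 N ρ (k + 1)) ≫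
      (𝔐.e k).hom = ((FSch.complMod 𝓘 N).e k).hom ≫ dl 𝓘 𝔐 N ρ k :=
  (compat_iso' X (FSch.completionAlong X 𝓘).X (FSch.completionAlong X 𝓘).ι
      (FSch.completionToX X 𝓘) (hec 𝓘) 𝔐.F 𝔐.e N ρ hcomp k (completion_ι_toX X 𝓘 k)).trans
    (congrArg (fun x : (Scheme.Modules.pullback (FSch.completionToX X 𝓘 (k + 1)) ⋙
        Scheme.Modules.pullback ((FSch.completionAlong X 𝓘).ι k)).obj N ⟶
          (Scheme.Modules.pullback (FSch.completionToX X 𝓘 k)).obj N =>
        x ≫ delta X (FSch.completionAlong X 𝓘).X (FSch.completionToX X 𝓘) 𝔐.F N ρ k)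
      (complMod_e_hom 𝓘 N k (completion_ι_toX X 𝓘 k)).symm)

/-- the morphism of systems adjoint to a compatible family of maps to the direct images -/
noncomputable def theta
    (hcomp : ∀ k, ρ (k + 1) ≫ tF X (FSch.completionAlong X 𝓘).X
      (FSch.completionAlong X 𝓘).ι (FSch.completionToX X 𝓘) (hec 𝓘) 𝔐.F 𝔐.e k = ρ k) :
    FSch.complMod 𝓘 N ⟶ 𝔐 :=
  ⟨fun k => dl 𝓘 𝔐 N ρ k, fun k => dl_comm 𝓘 𝔐 N ρ hcomp k⟩

theorem theta_app (hcomp : ∀ k, ρ (k + 1) ≫ tF X (FSch.completionAlong X 𝓘).X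
      (FSch.completionAlong X 𝓘).ι (FSch.completionToX X 𝓘) (hec 𝓘) 𝔐.F 𝔐.e k = ρ k) (k : ℕ) :
    (theta 𝓘 𝔐 N ρ hcomp : FSch.ModSys.Hom _ _).app k =
      delta X (FSch.completionAlong X 𝓘).X (FSch.completionToX X 𝓘) 𝔐.F N ρ k := rfl

end theta

end Groth.Agent.Lib.T2H5.AffFormal
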