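import Groth.Agent.Lib.T2H5AffFormalC

/-!
# The affine formal existence theorem with transition isomorphisms, II (helper5)

`exists_tilde_iso`: over a Noetherian `J`-adically complete ring `A`, every system of coherent modules on the completion of
`Spec A` along `V(J)` is isomorphic, as a system, to the completion `M^Δ` of a finite module.
-/

set_option autoImplicit false
set_option backward.isDefEq.respectTransparency.types false
set_option linter.style.haveILetI false
set_option linter.unusedSectionVars false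
set_option linter.unusedVariables false
universe u

open CategoryTheory CategoryTheory.Limits AlgebraicGeometry TopologicalSpace Opposite

namespace Groth.Agent.Lib.T2H5.AffFormal

open Groth.Agent.Lib.T2H5.TrivThick Groth.Agent.Lib.T2H2.AlgzB Groth.Agent.Lib.T2H9.Thick
  Groth.Agent.Lib.T2H9.FlatFib Groth.Agent.Lib.T2H9.FibQuot Groth.Agent.Lib.T2H9.Alg
  Groth.Agent.Lib.T2H5.ProjAlg Groth.Agent.Lib.T2H6.FSysBasic Groth.Agent.Lib.T2H2.AlgzD
  Groth.Agent.Lib.T2H9.GrAdic

section affine

variable (A : Type u) [CommRing A] (J : Ideal A)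

/-- the levels of the completion of `Spec A`, over `Spec A` -/
noncomputable abbrev lvlOver (k : ℕ) :
    ((FSch.completionAlong (Spec (CommRingCat.of A)) (FSch.idealSpec A J)).X k).Over
      (Spec (CommRingCat.of A)) :=
  ⟨FSch.completionToX (Spec (CommRingCat.of A)) (FSch.idealSpec A J) k⟩

/-- `Spec A` over itself, by the identity -/
noncomputable abbrev selfOver : (Spec (CommRingCat.of A)).Over (Spec (CommRingCat.of A)) := ⟨𝟙 _⟩

attribute [local instance 2000] lvlOver selfOver

theorem hs (k : ℕ) :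
    (FSch.completionAlong (Spec (CommRingCat.of A)) (FSch.idealSpec A J)).X k ↘
        Spec (CommRingCat.of A) = bb A J k ≫ CohB1.specQuot J k :=
  (bb_specQuot A J k).symm

theorem hcart (k : ℕ) :
    IsPullback ((FSch.completionAlong (Spec (CommRingCat.of A)) (FSch.idealSpec A J)).ι k)
      (bb A J k) (bb A J (k + 1)) (CohB1.specQuotTrans J k) :=
  IsPullback.of_vert_isIso ⟨bb_trans A J k⟩

theorem het (k : ℕ) :
    FSch.completionToX (Spec (CommRingCat.of A)) (FSch.idealSpec A J) k ≫
        (Spec (CommRingCat.of A) ↘ Spec (CommRingCat.of A)) =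
      (FSch.completionAlong (Spec (CommRingCat.of A)) (FSch.idealSpec A J)).X k ↘
        Spec (CommRingCat.of A) :=
  Category.comp_id _

theorem hpb (k : ℕ) :
    IsPullback (FSch.completionToX (Spec (CommRingCat.of A)) (FSch.idealSpec A J) k) (bb A J k)
      (Spec (CommRingCat.of A) ↘ Spec (CommRingCat.of A)) (CohB1.specQuot J k) := by
  haveI : IsIso (Spec (CommRingCat.of A) ↘ Spec (CommRingCat.of A)) :=
    inferInstanceAs (IsIso (𝟙 (Spec (CommRingCat.of A))))
  exact IsPullback.of_vert_isIso ⟨(Category.comp_id _).trans (bb_specQuot A J k).symm⟩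

/-- the system of direct images on `Spec A` of a system of modules on the completion -/
noncomputable def GG
    (𝔐 : FSch.ModSys (FSch.completionAlong (Spec (CommRingCat.of A)) (FSch.idealSpec A J))) :
    ℕᵒᵖ ⥤ (Spec (CommRingCat.of A)).Modules :=
  Fsys (Spec (CommRingCat.of A))
    (FSch.completionAlong (Spec (CommRingCat.of A)) (FSch.idealSpec A J)).X
    (FSch.completionAlong (Spec (CommRingCat.of A)) (FSch.idealSpec A J)).ι
    (FSch.completionToX (Spec (CommRingCat.of A)) (FSch.idealSpec A J))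
    (hec (FSch.idealSpec A J)) 𝔐.F 𝔐.e

theorem isCohFormal_GG
    (𝔐 : FSch.ModSys (FSch.completionAlong (Spec (CommRingCat.of A)) (FSch.idealSpec A J)))
    (h𝔐 : 𝔐.IsCoh) : Formal.IsCohFormal J (GG A J 𝔐) :=
  isCohFormal_Fsys J (Spec (CommRingCat.of A))
    (FSch.completionAlong (Spec (CommRingCat.of A)) (FSch.idealSpec A J)).X
    (fun k => bb A J k) (hs A J)
    (FSch.completionAlong (Spec (CommRingCat.of A)) (FSch.idealSpec A J)).ι (hcart A J)
    (FSch.completionToX (Spec (CommRingCat.of A)) (FSch.idealSpec A J)) (het A J)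
    (hec (FSch.idealSpec A J)) 𝔐.F h𝔐 𝔐.e

/-- a family of quotient maps from a quasi-coherent module to the direct images of a system of quasi-coherent modules,
compatible with the transition maps, induces an isomorphism of systems -/
theorem isIso_theta
    (𝔐 : FSch.ModSys (FSch.completionAlong (Spec (CommRingCat.of A)) (FSch.idealSpec A J)))
    [∀ k, (𝔐.F k).IsQuasicoherent]
    (N : (Spec (CommRingCat.of A)).Modules) [N.IsQuasicoherent]
    (ρ : ∀ k, N ⟶ (Scheme.Modules.pushforward
      (FSch.completionToX (Spec (CommRingCat.of A)) (FSch.idealSpec A J) k)).obj (𝔐.F k))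
    (hρ : ∀ k, IsQuotBy (J ^ (k + 1)) (ρ k))
    (hcomp : ∀ k, ρ (k + 1) ≫ tF (Spec (CommRingCat.of A))
      (FSch.completionAlong (Spec (CommRingCat.of A)) (FSch.idealSpec A J)).X
      (FSch.completionAlong (Spec (CommRingCat.of A)) (FSch.idealSpec A J)).ι
      (FSch.completionToX (Spec (CommRingCat.of A)) (FSch.idealSpec A J))
      (hec (FSch.idealSpec A J)) 𝔐.F 𝔐.e k = ρ k) :
    IsIso (theta (FSch.idealSpec A J) 𝔐 N ρ hcomp) := by
  apply isIso_of_app
  intro k
  rw [theta_app]
  exact isIso_delta J (Spec (CommRingCat.of A))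
    (FSch.completionAlong (Spec (CommRingCat.of A)) (FSch.idealSpec A J)).X
    (fun k => bb A J k)
    (FSch.completionToX (Spec (CommRingCat.of A)) (FSch.idealSpec A J)) (het A J) (hpb A J)
    𝔐.F N ρ hρ k

theorem exists_tilde_iso [IsNoetherianRing A] [IsAdicComplete J A]
    (𝔐 : FSch.ModSys (FSch.completionAlong (Spec (CommRingCat.of A)) (FSch.idealSpec A J)))
    (h𝔐 : 𝔐.IsCoh) :
    ∃ M : ModuleCat.{u} A, Module.Finite A M ∧
      Nonempty (𝔐 ≅ FSch.complMod (FSch.idealSpec A J) (tilde M)) := by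
  have hG : Formal.IsCohFormal J (GG A J 𝔐) := isCohFormal_GG A J 𝔐 h𝔐
  let M : ModuleCat.{u} A := ModuleCat.of A ↥(Lim (R := CommRingCat.of A) (GG A J 𝔐))
  have hfin : Module.Finite A M := finite_Lim (R := CommRingCat.of A) (I := J) hG
  refine ⟨M, hfin, ?_⟩
  haveI : ∀ k, (𝔐.F k).IsQuasicoherent := fun k => (h𝔐 k).1
  haveI : (tilde (R := CommRingCat.of A) M).IsQuasicoherent := inferInstance
  let ρ : ∀ k, tilde (R := CommRingCat.of A) M ⟶ (Scheme.Modules.pushforward
      (FSch.completionToX (Spec (CommRingCat.of A)) (FSch.idealSpec A J) k)).obj (𝔐.F k) :=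
    fun k => ρn (R := CommRingCat.of A) (G := GG A J 𝔐) k
  have hρ : ∀ k, IsQuotBy (J ^ (k + 1)) (ρ k) :=
    fun k => isQuotBy_ρn (R := CommRingCat.of A) (I := J) hG k
  have hcomp : ∀ k, ρ (k + 1) ≫ tF (Spec (CommRingCat.of A))
      (FSch.completionAlong (Spec (CommRingCat.of A)) (FSch.idealSpec A J)).X
      (FSch.completionAlong (Spec (CommRingCat.of A)) (FSch.idealSpec A J)).ι
      (FSch.completionToX (Spec (CommRingCat.of A)) (FSch.idealSpec A J))
      (hec (FSch.idealSpec A J)) 𝔐.F 𝔐.e k = ρ k := by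
    intro k
    have h1 := ρn_succ (R := CommRingCat.of A) (G := GG A J 𝔐) k
    have h2 : (GG A J 𝔐).map (homOfLE (Nat.le_succ k)).op =
        tF (Spec (CommRingCat.of A))
          (FSch.completionAlong (Spec (CommRingCat.of A)) (FSch.idealSpec A J)).X
          (FSch.completionAlong (Spec (CommRingCat.of A)) (FSch.idealSpec A J)).ι
          (FSch.completionToX (Spec (CommRingCat.of A)) (FSch.idealSpec A J))
          (hec (FSch.idealSpec A J)) 𝔐.F 𝔐.e k :=
      Fsys_τ (Spec (CommRingCat.of A)) _ _ _ (hec (FSch.idealSpec A J)) 𝔐.F 𝔐.e k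
    rw [h2] at h1
    exact h1
  haveI := isIso_theta A J 𝔐 (tilde (R := CommRingCat.of A) M) ρ hρ hcomp
  exact ⟨(asIso (theta (FSch.idealSpec A J) 𝔐 (tilde (R := CommRingCat.of A) M) ρ hcomp)).symm⟩

end affine

end Groth.Agent.Lib.T2H5.AffFormal
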