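import Mathlib
import Groth.Agent.Lib.T2H9Thick6
import Groth.Agent.Lib.Helper23SecTw3
import Groth.Prelude.Def_ProjUP

/-! # Algebraization with an ample module, I: lifting sections along a chain of thickenings (helper9)

`homSec`, `exists_lift_section` (one-step lifting of global sections along a closed immersion `i` when the kernel of
`P → i_* i^* P` has no `H^1`), `nonempty_kernel_iso_gr` (that kernel is a twisted graded piece of `O`),
`exists_lift_section_chain` (sections of large twists lift along an adic chain `X_k → X_{k+1}` with `L_0` ample),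
`liftFam` (a compatible family of lifts). -/

set_option autoImplicit false
set_option linter.style.haveILetI false
set_option linter.unusedVariables false
set_option linter.unusedSectionVars false
universe u
open CategoryTheory CategoryTheory.Limits Opposite AlgebraicGeometry TopologicalSpace

namespace Groth.Agent.Lib.T2H9.Alg

open Groth.Agent.Lib.T2H2.AlgzB Groth.Agent.Lib.T2H9.FibQuot Groth.Agent.Lib.T2H9.Tower
  Groth.Agent.Lib.Helper23.SecTw

section lift

variable {X Z : Scheme.{u}} (i : Z ⟶ X) [IsClosedImmersion i]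

/-- the value at `1` of a morphism `O ⟶ M`, as a global section -/
noncomputable def homSec {X : Scheme.{u}} {M : X.Modules} (t : Coh.structureModule X ⟶ M) : ProjUP.Γm M :=
  sv t ⊤

theorem homSec_secHom {X : Scheme.{u}} (M : X.Modules) (σ : ProjUP.Γm M) : homSec (secHom M σ) = σ := by
  unfold homSec
  rw [sv_secHom]
  exact congrArg (fun f => f σ) (show (M.presheaf.map (𝟙 (op ⊤))).hom = _ from by
    rw [M.presheaf.map_id])

theorem homSec_comp {X : Scheme.{u}} {M N : X.Modules} (t : Coh.structureModule X ⟶ M) (g : M ⟶ N) :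
    homSec (t ≫ g) = g.app ⊤ (homSec t) := rfl

theorem pullSec_eq (P : X.Modules) (s : ProjUP.Γm P) :
    ProjUP.pullSec i P s = (η i P).app ⊤ s := rfl

/-- **one-step lifting of sections** along a closed immersion, when the kernel of the unit has no `H^1`. -/
theorem exists_lift_section (P : X.Modules) [P.IsQuasicoherent]
    (hvan : Subsingleton (Coh.HH X (kernel (η i P)) 1))
    (u : ProjUP.Γm ((Scheme.Modules.pullback i).obj P)) :
    ∃ s : ProjUP.Γm P, ProjUP.pullSec i P s = u := by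
  let S : ShortComplex X.Modules := ShortComplex.mk (kernel.ι (η i P)) (η i P) (kernel.condition _)
  haveI : Epi S.g := epi_η i P
  haveI : Mono S.f := inferInstanceAs (Mono (kernel.ι (η i P)))
  have hS : S.ShortExact := { exact := ShortComplex.exact_kernel (η i P) }
  let u' : ProjUP.Γm ((Scheme.Modules.pushforward i).obj ((Scheme.Modules.pullback i).obj P)) := u
  obtain ⟨t, ht⟩ := exists_lift_unit S hS hvan (secHom _ u')
  refine ⟨homSec t, ?_⟩
  rw [pullSec_eq]
  have h1 : homSec (t ≫ η i P) = (η i P).app ⊤ (homSec t) := homSec_comp t (η i P)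
  rw [← h1]
  have h2 : t ≫ η i P = secHom _ u' := ht
  rw [h2, homSec_secHom]

end lift

end Groth.Agent.Lib.T2H9.Alg

namespace Groth.Agent.Lib.T2H9.Alg

open Groth.Agent.Lib.T2H2.AlgzB Groth.Agent.Lib.T2H9.FibQuot Groth.Agent.Lib.T2H9.Tower
  Groth.Agent.Lib.Helper23.SecTw Groth.Agent.Lib.T2H9.GrAdic Groth.Agent.Lib.T2H5.Twist
  Groth.Agent.Lib.T2H9.Thick

section kerq

variable {A : Type u} [CommRing A] {X : Scheme.{u}} [X.Over (Spec (CommRingCat.of A))]

/-- two quotients by the same ideal have isomorphic kernels -/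
theorem nonempty_kernel_iso_of_isQuotBy {𝔟 : Ideal A} {M M' M'' : X.Modules} {t : M ⟶ M'} {t' : M ⟶ M''}
    (ht : IsQuotBy 𝔟 t) (ht' : IsQuotBy 𝔟 t') : Nonempty (kernel t ≅ kernel t') := by
  obtain ⟨c, hc⟩ := ht.exists_iso ht'
  subst hc
  exact ⟨(kernelCompMono t c.hom).symm⟩

/-- the kernel of a quotient of an invertible module `P` by `J^{n+1}` is the `n`-th graded piece of `O` twisted by `P`,
when `O` is killed by `J^{n+2}`. -/
theorem nonempty_kernel_iso_gr (J : Ideal A) (n : ℕ)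
    (hkill : Formal.KilledBy (J ^ (n + 1 + 1)) (Coh.structureModule X))
    (P : X.Modules) (hP : PicF.IsInvertible P) {Q : X.Modules} (t : P ⟶ Q)
    (ht : IsQuotBy (J ^ (n + 1)) t) :
    Nonempty (kernel t ≅
      CohB1.tensorMod (gr (Formal.completion J (Coh.structureModule X)) n) P) := by
  set O := Coh.structureModule X with hO
  set G := Formal.completion J O with hG
  have hA : IsAdic J G := isAdic_of_isCohFormal J
    (isCohFormal_completion J O Groth.Agent.Lib.T2H5.GenIsoF.isCoh_structureModule)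
  haveI : (tr P).IsLeftAdjoint := Groth.Agent.Lib.Helper21.ModTensor3.tR_isLeftAdjoint X.sheaf P
  -- the short exact sequence of the `n`-th step
  let S : ShortComplex X.Modules :=
    ShortComplex.mk (kernel.ι (τ G n)) (τ G n) (kernel.condition _)
  haveI : Epi S.g := (hA.quot n).epi
  haveI : Mono S.f := inferInstanceAs (Mono (kernel.ι (τ G n)))
  have hS : S.ShortExact := { exact := ShortComplex.exact_kernel (τ G n) }
  have hS' := shortExact_map_tr hP S hS
  -- `O ≅ G_{n+1}`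
  obtain ⟨eT, heT⟩ : ∃ eT : G.obj (op (n + 1)) ≅ O, Formal.modPowπ J (n + 1 + 1) O ≫ eT.hom = 𝟙 O :=
    (isQuotBy_modPowπ J (n + 1 + 1) O).exists_iso (isQuotBy_id X O hkill)
  let e : P ≅ (tr P).obj (G.obj (op (n + 1))) :=
    (Groth.Agent.Lib.Helper23.TensorUnit.unitTensorIso P).symm ≪≫ (tr P).mapIso eT.symm
  have hq : IsQuotBy (J ^ (n + 1)) (e.hom ≫ (tr P).map (τ G n)) :=
    ((hA.quot n).map (tr P) (Groth.Agent.Lib.T2H9.FibLift.tr_map_smulMod X P)).iso_comp e
  obtain ⟨c1⟩ := nonempty_kernel_iso_of_isQuotBy ht hq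
  -- kernel of the mapped sequence
  have c3 : kernel ((tr P).map (τ G n)) ≅ (tr P).obj (gr G n) :=
    (IsLimit.conePointUniqueUpToIso (kernelIsKernel ((tr P).map (τ G n))) hS'.fIsKernel)
  exact ⟨c1 ≪≫ kernelIsIsoComp e.hom ((tr P).map (τ G n)) ≪≫ c3⟩

end kerq

end Groth.Agent.Lib.T2H9.Alg

namespace Groth.Agent.Lib.T2H9.Alg

open Groth.Agent.Lib.T2H2.AlgzB Groth.Agent.Lib.T2H9.FibQuot Groth.Agent.Lib.T2H9.Tower
  Groth.Agent.Lib.Helper23.SecTw Groth.Agent.Lib.T2H9.GrAdic Groth.Agent.Lib.T2H5.Twist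
  Groth.Agent.Lib.T2H9.Thick Groth.Agent.Lib.T2H9.FlatFib

section chainLift

variable {A : Type u} [CommRing A] [IsNoetherianRing A] (J : Ideal A)
  (Xs : ℕ → Scheme.{u}) [∀ k, (Xs k).Over (Spec (CommRingCat.of A))]
  (p : ∀ k, Xs k ⟶ Spec (CommRingCat.of (A ⧸ J ^ (k + 1))))
  (hs : ∀ k, Xs k ↘ Spec (CommRingCat.of A) = p k ≫ CohB1.specQuot J k)
  (i : ∀ k, Xs k ⟶ Xs (k + 1))
  (hcart : ∀ k, IsPullback (i k) (p k) (p (k + 1)) (CohB1.specQuotTrans J k))

include hs hcart in
/-- **sections of large twists lift along the chain of thickenings** -/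
theorem exists_lift_section_chain [IsProper (p 0)] (L : ∀ k, (Xs k).Modules)
    (hL : ∀ k, PicF.IsInvertible (L k))
    (φ : ∀ k, Nonempty ((Scheme.Modules.pullback (i k)).obj (L (k + 1)) ≅ L k))
    (ha : CohB1.IsAmple (L 0)) :
    ∃ n₀ : ℕ, ∀ n : ℕ, n₀ ≤ n → ∀ k : ℕ,
      ∀ u : ProjUP.Γm ((Scheme.Modules.pullback (i k)).obj (CohB1.tensorPow (L (k + 1)) n)),
        ∃ s : ProjUP.Γm (CohB1.tensorPow (L (k + 1)) n),
          ProjUP.pullSec (i k) (CohB1.tensorPow (L (k + 1)) n) s = u := by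
  obtain ⟨r, a, hspan⟩ := (Submodule.fg_iff_exists_fin_generating_family).1
    (IsNoetherian.noetherian J)
  obtain ⟨n₀, hn₀⟩ := uniform_vanishing_gr J Xs p hs i hcart (fun k => Coh.structureModule (Xs k))
    (fun k => Groth.Agent.Lib.T2H5.GenIsoF.isCoh_structureModule)
    (fun k => ⟨Groth.Agent.Lib.Helper23.PB.pullbackUnitIso (i k)⟩) a hspan L hL φ ha
  refine ⟨n₀, fun n hn k u => ?_⟩
  haveI := chain_isClosedImmersion J Xs p hs i hcart k
  haveI := chain_isClosedImmersion J Xs p hs i hcart (k + 1)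
  have hP : PicF.IsInvertible (CohB1.tensorPow (L (k + 1)) n) :=
    isInvertible_tensorPow (hL (k + 1)) n
  haveI : (CohB1.tensorPow (L (k + 1)) n).IsQuasicoherent := isQuasicoherent_of_isInvertible _ hP
  have hkill : Formal.KilledBy (J ^ (k + 1 + 1)) (Coh.structureModule (Xs (k + 1))) :=
    killedBy_of_isPullback (Xs (k + 1 + 1)) (i (k + 1)) (p (k + 1)) (CohB1.specQuot J (k + 1))
      (chain_hpbA J Xs p hs i hcart (k + 1)) (J ^ (k + 1 + 1)) (ker_φT_specQuot J (k + 1))
      (chain_hi J Xs p hs i hcart (k + 1)) _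
  have ht : IsQuotBy (J ^ (k + 1)) (η (i k) (CohB1.tensorPow (L (k + 1)) n)) :=
    isQuotBy_η (Xs (k + 1)) (i k) (p k) (CohB1.specQuot J k) (chain_hpbA J Xs p hs i hcart k)
      (J ^ (k + 1)) (ker_φT_specQuot J k) _
  obtain ⟨c⟩ := nonempty_kernel_iso_gr J k hkill _ hP (η (i k) (CohB1.tensorPow (L (k + 1)) n)) ht
  have hvan : Subsingleton (Coh.HH (Xs (k + 1))
      (kernel (η (i k) (CohB1.tensorPow (L (k + 1)) n))) 1) :=
    Groth.Agent.Lib.T2H5.PnStruct.subsingleton_HH_of_iso c.symm 1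
      (hn₀ n hn (k + 1) k (Nat.lt_succ_self k) 1 Nat.one_pos)
  exact exists_lift_section (i k) _ hvan u

end chainLift

section family

variable (Xs : ℕ → Scheme.{u}) (i : ∀ k, Xs k ⟶ Xs (k + 1))
  (P : ∀ k, (Xs k).Modules)
  (ψ : ∀ k, (Scheme.Modules.pullback (i k)).obj (P (k + 1)) ≅ P k)
  (hlift : ∀ k, ∀ u : ProjUP.Γm ((Scheme.Modules.pullback (i k)).obj (P (k + 1))),
    ∃ s : ProjUP.Γm (P (k + 1)), ProjUP.pullSec (i k) (P (k + 1)) s = u)

/-- the recursive choice of lifts -/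
noncomputable def liftFam (s₀ : ProjUP.Γm (P 0)) : ∀ k, ProjUP.Γm (P k)
  | 0 => s₀
  | (k + 1) => (hlift k ((ψ k).inv.app ⊤ (liftFam s₀ k))).choose

theorem liftFam_zero (s₀ : ProjUP.Γm (P 0)) : liftFam Xs i P ψ hlift s₀ 0 = s₀ := rfl

theorem liftFam_succ (s₀ : ProjUP.Γm (P 0)) (k : ℕ) :
    (ψ k).hom.app ⊤ (ProjUP.pullSec (i k) (P (k + 1)) (liftFam Xs i P ψ hlift s₀ (k + 1))) =
      liftFam Xs i P ψ hlift s₀ k := by
  have h := (hlift k ((ψ k).inv.app ⊤ (liftFam Xs i P ψ hlift s₀ k))).choose_spec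
  change (ψ k).hom.app ⊤ (ProjUP.pullSec (i k) (P (k + 1))
    (hlift k ((ψ k).inv.app ⊤ (liftFam Xs i P ψ hlift s₀ k))).choose) = _
  rw [h]
  change ((ψ k).inv ≫ (ψ k).hom).app ⊤ _ = _
  rw [(ψ k).inv_hom_id]
  rfl

end family

end Groth.Agent.Lib.T2H9.Alg
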