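import Mathlib
import Groth.Agent.Lib.T2H9Alg1
import Groth.Agent.Lib.T2H6VAmpleB
import Groth.Agent.Lib.T2H6VAmple
import Groth.Agent.Lib.Helper13ProjUPb

/-! # Algebraization with an ample module, II: pulled back sections (helper9)

`map_pullSec`, `pullbackUnitHom_pullSec`, `secHom_pullSec`, `genLocus_pullSec`, `secHom_app`, `genLocus_of_compat`,
`generatedBy_of_compat`, `surjective_specQuotTrans`, `chain_surjective`. -/

set_option autoImplicit false
set_option linter.style.haveILetI false
set_option linter.unusedVariables false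
set_option linter.unusedSectionVars false
universe u
open CategoryTheory CategoryTheory.Limits Opposite AlgebraicGeometry TopologicalSpace

namespace Groth.Agent.Lib.T2H9.Alg

open Groth.Agent.Lib.Helper23.SecTw Groth.Agent.Lib.Helper23.PB Groth.Agent.Lib.Helper6
  Groth.Agent.Lib.Helper23.GenLocus Groth.Agent.Lib.Helper23.Extend

section pull

variable {X Y : Scheme.{u}} (f : X ⟶ Y)

/-- naturality of `pullSec` -/
theorem map_pullSec {M N : Y.Modules} (g : M ⟶ N) (x : ProjUP.Γm M) :
    ((Scheme.Modules.pullback f).map g).app ⊤ (ProjUP.pullSec f M x) =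
      ProjUP.pullSec f N (g.app ⊤ x) := by
  have h := (Scheme.Modules.pullbackPushforwardAdjunction f).unit.naturality g
  have h2 := congrArg (fun t => t.app ⊤ x) h
  exact h2.symm

set_option backward.isDefEq.respectTransparency.types false in
/-- the pullback of the unit section is the unit section -/
theorem pullbackUnitHom_pullSec :
    (pullbackUnitHom f).app ⊤ (ProjUP.pullSec f (Coh.structureModule Y) (toS ⊤ 1)) = toS ⊤ 1 := by
  have h := SheafOfModules.pullbackPushforwardAdjunction_homEquiv_pullbackObjUnitToUnit.{u}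
    f.toRingCatSheafHom
  rw [Adjunction.homEquiv_unit] at h
  have h2 := congrArg (fun t => t.val.app (op ⊤) (1 : Γ(Y, ⊤))) h
  simp only [SheafOfModules.unitToPushforwardObjUnit_val_app_apply] at h2
  refine Eq.trans ?_ (h2.trans ?_)
  · rfl
  · exact map_one (f.toRingCatSheafHom.hom.app (op ⊤)).hom

/-- the unit section pulled back, through `O_X ≅ f^* O_Y` -/
theorem sv_pullbackUnitIso_inv :
    sv (pullbackUnitIso f).inv ⊤ = ProjUP.pullSec f (Coh.structureModule Y) (toS ⊤ 1) := by
  have h := pullbackUnitHom_pullSec f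
  have h2 : (pullbackUnitIso f).inv.app ⊤ ((pullbackUnitIso f).hom.app ⊤
      (ProjUP.pullSec f (Coh.structureModule Y) (toS ⊤ 1))) =
      ProjUP.pullSec f (Coh.structureModule Y) (toS ⊤ 1) := by
    change ((pullbackUnitIso f).hom ≫ (pullbackUnitIso f).inv).app ⊤ _ = _
    rw [(pullbackUnitIso f).hom_inv_id]
    rfl
  rw [← h2]
  exact congrArg ((pullbackUnitIso f).inv.app ⊤) h.symm

/-- the morphism attached to a pulled back section -/
theorem secHom_pullSec (L : Y.Modules) (σ : ProjUP.Γm L) :
    secHom ((Scheme.Modules.pullback f).obj L) (ProjUP.pullSec f L σ) =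
      (pullbackUnitIso f).inv ≫ (Scheme.Modules.pullback f).map (secHom L σ) := by
  apply hom_ext_of_sv
  rw [sv_secHom, res_self, sv_comp, sv_pullbackUnitIso_inv, map_pullSec]
  congr 1
  have h := sv_secHom L σ ⊤
  rw [res_self] at h
  exact h.symm

/-- the generating locus of a pulled back section of an invertible module -/
theorem genLocus_pullSec (L : Y.Modules) (hL : PicF.IsInvertible L) (σ : ProjUP.Γm L) :
    CohB1.genLocus ((Scheme.Modules.pullback f).obj L)
      (secHom ((Scheme.Modules.pullback f).obj L) (ProjUP.pullSec f L σ)) =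
      f ⁻¹ᵁ CohB1.genLocus L (secHom L σ) := by
  rw [secHom_pullSec]
  exact genLocus_pullback f L hL (secHom L σ) (pullbackUnitIso f).symm

/-- the morphism attached to the image of a section -/
theorem secHom_app {X : Scheme.{u}} {M N : X.Modules} (g : M ⟶ N) (σ : ProjUP.Γm M) :
    secHom N (g.app ⊤ σ) = secHom M σ ≫ g := by
  apply hom_ext_of_sv
  rw [sv_secHom, res_self, sv_comp]
  congr 1
  have h := sv_secHom M σ ⊤
  rw [res_self] at h
  exact h.symm

/-- compatible sections have compatible generating loci -/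
theorem genLocus_of_compat (L' : Y.Modules) (hL' : PicF.IsInvertible L') (L : X.Modules)
    (ψ : (Scheme.Modules.pullback f).obj L' ≅ L) (σ' : ProjUP.Γm L') (σ : ProjUP.Γm L)
    (h : ψ.hom.app ⊤ (ProjUP.pullSec f L' σ') = σ) :
    CohB1.genLocus L (secHom L σ) = f ⁻¹ᵁ CohB1.genLocus L' (secHom L' σ') := by
  rw [← h, secHom_app, Groth.Agent.Lib.Helper23.AmpleIso.genLocus_comp_iso]
  exact genLocus_pullSec f L' hL' σ'

/-- generation by global sections transfers up along a surjective morphism, for compatible sections -/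
theorem generatedBy_of_compat (hsurj : Function.Surjective f) (L' : Y.Modules)
    (hL' : PicF.IsInvertible L') (L : X.Modules) (hL : PicF.IsInvertible L)
    (ψ : (Scheme.Modules.pullback f).obj L' ≅ L) {κ : Type*} (σ' : κ → ProjUP.Γm L') (σ : κ → ProjUP.Γm L)
    (h : ∀ j, ψ.hom.app ⊤ (ProjUP.pullSec f L' (σ' j)) = σ j)
    (hg : ProjUP.GeneratedBy L σ) : ProjUP.GeneratedBy L' σ' := by
  refine Groth.Agent.Lib.T2H6.VAmple.generatedBy_of_cover L' σ' (fun y => ?_)
  obtain ⟨x, rfl⟩ := hsurj y
  obtain ⟨j, hj⟩ := Groth.Agent.Helper13ProjUP.exists_mem_genLocus L hL σ hg x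
  refine ⟨j, ?_⟩
  rw [genLocus_of_compat f L' hL' L ψ (σ' j) (σ j) (h j)] at hj
  exact hj

end pull

section surj

variable {A : Type u} [CommRing A] (J : Ideal A)

theorem surjective_specQuotTrans (k : ℕ) : Surjective (CohB1.specQuotTrans J k) := by
  refine ⟨fun 𝔮 => ?_⟩
  have hsurj : Function.Surjective (Ideal.Quotient.factor
      (Ideal.pow_le_pow_right (Nat.le_succ (k + 1)) : J ^ (k + 2) ≤ J ^ (k + 1))) :=
    Ideal.Quotient.factor_surjective _
  have hr := range_comap_of_surjective _ _ hsurj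
  have hmem : 𝔮 ∈ PrimeSpectrum.zeroLocus ((RingHom.ker (Ideal.Quotient.factor
      (Ideal.pow_le_pow_right (Nat.le_succ (k + 1)) : J ^ (k + 2) ≤ J ^ (k + 1))) : Ideal _) : Set _) := by
    intro x hx
    obtain ⟨a, rfl⟩ := Ideal.Quotient.mk_surjective x
    have ha : a ∈ J ^ (k + 1) := by
      have h1 : (Ideal.Quotient.factor (Ideal.pow_le_pow_right (Nat.le_succ (k + 1)) :
          J ^ (k + 2) ≤ J ^ (k + 1))) (Ideal.Quotient.mk _ a) = 0 := hx
      rw [Ideal.Quotient.factor_mk] at h1
      exact Ideal.Quotient.eq_zero_iff_mem.1 h1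
    have h2 : (Ideal.Quotient.mk (J ^ (k + 2)) a) ^ 2 = 0 := by
      rw [← map_pow]
      refine Ideal.Quotient.eq_zero_iff_mem.2 ?_
      have : a ^ 2 ∈ (J ^ (k + 1)) ^ 2 := Ideal.pow_mem_pow ha 2
      rw [← pow_mul] at this
      exact Ideal.pow_le_pow_right (by omega) this
    exact 𝔮.isPrime.mem_of_pow_mem 2 (h2 ▸ 𝔮.asIdeal.zero_mem)
  rw [← hr] at hmem
  obtain ⟨𝔭, h𝔭⟩ := hmem
  exact ⟨𝔭, h𝔭⟩

end surj

section chainSurj

variable {A : Type u} [CommRing A] (J : Ideal A)
  (Xs : ℕ → Scheme.{u})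
  (p : ∀ k, Xs k ⟶ Spec (CommRingCat.of (A ⧸ J ^ (k + 1))))
  (i : ∀ k, Xs k ⟶ Xs (k + 1))
  (hcart : ∀ k, IsPullback (i k) (p k) (p (k + 1)) (CohB1.specQuotTrans J k))

include hcart in
theorem chain_surjective (k : ℕ) : Function.Surjective (i k) := by
  haveI := surjective_specQuotTrans J k
  have : Surjective (i k) :=
    MorphismProperty.of_isPullback (P := @Surjective) (hcart k).flip inferInstance
  exact this.surj

end chainSurj

end Groth.Agent.Lib.T2H9.Alg
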