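import Mathlib
import Groth.Agent.Lib.T2H9Alg2
import Groth.Agent.Lib.Helper22ThickAffine

/-! # Algebraization with an ample module, IV: thickenings of closed immersions (helper9)

`surjective_of_surjective_comp_of_nilpotent` (Nakayama for a nilpotent ideal, ring form),
`isClosedImmersion_of_thickening` (a morphism from a nilpotent thickening `Z` of `Z₀` restricting to a closed immersion on
`Z₀` is a closed immersion). -/

set_option autoImplicit false
set_option linter.style.haveILetI false
set_option linter.unusedVariables false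
set_option linter.unusedSectionVars false
universe u
open CategoryTheory CategoryTheory.Limits Opposite AlgebraicGeometry TopologicalSpace

namespace Groth.Agent.Lib.T2H9.Alg

section ringNak

variable {B C C₀ : Type*} [CommRing B] [CommRing C] [CommRing C₀]

/-- **Nakayama for a nilpotent ideal, ring form**: if `h ∘ g` is onto, `ker h` is generated by the image of an ideal `I`
of `B` and is nilpotent, then `g` is onto. -/
theorem surjective_of_surjective_comp_of_nilpotent (g : B →+* C) (h : C →+* C₀) (I : Ideal B)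
    (hker : RingHom.ker h = I.map g) (n : ℕ) (hnil : (I.map g) ^ n = ⊥)
    (hs : Function.Surjective (h.comp g)) : Function.Surjective g := by
  set K := I.map g with hK
  have key : ∀ m : ℕ, ∀ x : C, ∃ b : B, x - g b ∈ K ^ m := by
    intro m
    induction m with
    | zero => intro x; exact ⟨0, by simp⟩
    | succ m ih =>
      -- every element of `K^m` is congruent to an element of the image modulo `K^{m+1}`
      have hstep : ∀ y ∈ K ^ m, ∃ b : B, y - g b ∈ K ^ (m + 1) := by
        intro y hy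
        have hy' : y ∈ Ideal.span (g '' (I ^ m : Ideal B)) := by
          have : K ^ m = (I ^ m).map g := (Ideal.map_pow g I m).symm
          rw [this] at hy
          exact hy
        have hQ : y ∈ K ^ m ∧ ∃ b : B, y - g b ∈ K ^ (m + 1) := by
          refine Submodule.span_induction (p := fun y _ => y ∈ K ^ m ∧ ∃ b : B, y - g b ∈ K ^ (m + 1))
            ?_ ?_ ?_ ?_ hy'
          · rintro _ ⟨a, ha, rfl⟩
            refine ⟨?_, a, by simp⟩
            have : K ^ m = (I ^ m).map g := (Ideal.map_pow g I m).symm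
            rw [this]
            exact Ideal.mem_map_of_mem g ha
          · exact ⟨Ideal.zero_mem _, 0, by simp⟩
          · rintro y₁ y₂ _ _ ⟨h1, b1, hb1⟩ ⟨h2, b2, hb2⟩
            refine ⟨Ideal.add_mem _ h1 h2, b1 + b2, ?_⟩
            have : y₁ + y₂ - g (b1 + b2) = (y₁ - g b1) + (y₂ - g b2) := by rw [map_add]; ring
            rw [this]
            exact Ideal.add_mem _ hb1 hb2
          · rintro c y₁ _ ⟨h1, b1, hb1⟩
            obtain ⟨b', hb'⟩ := hs (h c)
            have hck : c - g b' ∈ K := by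
              rw [← hker, RingHom.mem_ker, map_sub, sub_eq_zero]
              exact hb'.symm
            refine ⟨Ideal.mul_mem_left _ c h1, b' * b1, ?_⟩
            have : c • y₁ - g (b' * b1) = (c - g b') * y₁ + g b' * (y₁ - g b1) := by
              rw [map_mul, smul_eq_mul]; ring
            rw [this]
            refine Ideal.add_mem _ ?_ (Ideal.mul_mem_left _ _ hb1)
            rw [pow_succ']
            exact Ideal.mul_mem_mul hck h1
        exact hQ.2
      intro x
      obtain ⟨b, hb⟩ := ih x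
      obtain ⟨b', hb'⟩ := hstep _ hb
      refine ⟨b + b', ?_⟩
      have : x - g (b + b') = x - g b - g b' := by rw [map_add]; ring
      rw [this]
      exact hb'
  intro x
  obtain ⟨b, hb⟩ := key n x
  rw [hnil, Ideal.mem_bot, sub_eq_zero] at hb
  exact ⟨b, hb.symm⟩

end ringNak

section thick

open Groth.Agent.Lib.T2H9.FlatFib Groth.Agent.Lib.T2H9.FFGeom Groth.Agent.Lib.T2H9.FibQuot

variable {A : Type u} [CommRing A] (J : Ideal A) (n : ℕ)
  {Z₀ Z T P : Scheme.{u}} [Z.Over (Spec (CommRingCat.of A))] (j : Z₀ ⟶ Z) (q₀ : Z₀ ⟶ T)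
  (f : T ⟶ Spec (CommRingCat.of A)) [IsClosedImmersion f]
  (hker : RingHom.ker (φT f) = J)
  (hpb : IsPullback j q₀ (Z ↘ Spec (CommRingCat.of A)) f)
  (hsurj : Function.Surjective j)
  (hnil : Formal.KilledBy (J ^ n) (Coh.structureModule Z))
  (r : Z ⟶ P) (πP : P ⟶ Spec (CommRingCat.of A)) (hr : r ≫ πP = Z ↘ Spec (CommRingCat.of A))

theorem appLE_comp_of_eq {Z P S : Scheme.{u}} (r : Z ⟶ P) (πP : P ⟶ S) (φ : Z ⟶ S) (h : r ≫ πP = φ)
    (U : P.Opens) : φ.appLE ⊤ (r ⁻¹ᵁ U) le_top = πP.appLE ⊤ U le_top ≫ r.app U := by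
  subst h
  rw [Scheme.Hom.app_eq_appLE, Scheme.Hom.appLE_comp_appLE]

include hnil in
theorem ρU_eq_zero_of_killedBy (V : Z.Opens) (a : A) (ha : a ∈ J ^ n) : ρU Z V a = 0 := by
  have h := congrArg (fun t => t.app V (Groth.Agent.Lib.Helper23.GenLocus.toS V 1)) (hnil a ha)
  have h2 : (ρU Z V a : Γ(Z, V)) • Groth.Agent.Lib.Helper23.GenLocus.toS V (1 : Γ(Z, V)) = 0 := h
  rw [Groth.Agent.Lib.Helper23.GenLocus.smul_toS, mul_one] at h2
  exact h2

include hker hpb hsurj hnil hr in
/-- a morphism from a nilpotent thickening whose restriction to the thickened closed subscheme is a closed immersion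
is a closed immersion. -/
theorem isClosedImmersion_of_thickening [IsClosedImmersion (j ≫ r)] : IsClosedImmersion r := by
  haveI hj : IsClosedImmersion j := isClosedImmersion_of_isPullback Z j q₀ f hpb
  -- preimages of affine opens are affine
  have haff : ∀ U : P.Opens, IsAffineOpen U → IsAffineOpen (r ⁻¹ᵁ U) := by
    intro U hU
    have hW : IsAffineOpen (j ⁻¹ᵁ (r ⁻¹ᵁ U)) := by
      have := hU.preimage (j ≫ r)
      exact this
    haveI : IsAffine (↑(j ⁻¹ᵁ (r ⁻¹ᵁ U)) : Scheme.{u}) := hW
    have hs : Function.Surjective (j ∣_ (r ⁻¹ᵁ U)) := by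
      rintro ⟨y, hy⟩
      obtain ⟨x, rfl⟩ := hsurj y
      refine ⟨⟨x, hy⟩, ?_⟩
      apply Subtype.ext
      exact morphismRestrict_base_coe j (r ⁻¹ᵁ U) ⟨x, hy⟩
    exact Groth.Agent.Lib.Helper22.ThickAffine.isAffine_of_thickening (j ∣_ (r ⁻¹ᵁ U)) hs
  rw [isClosedImmersion_iff_isAffineHom]
  refine ⟨⟨haff⟩, fun U hU => ?_⟩
  have hV := haff U hU
  let ρP : A →+* Γ(P, U) :=
    (πP.appLE ⊤ U le_top).hom.comp (Scheme.ΓSpecIso (CommRingCat.of A)).inv.hom
  have hρ : ρU Z (r ⁻¹ᵁ U) = (r.app U).hom.comp ρP := by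
    unfold ρU
    rw [appLE_comp_of_eq r πP _ hr U]
    rfl
  have hk : RingHom.ker (j.app (r ⁻¹ᵁ U)).hom = (J.map ρP).map (r.app U).hom := by
    rw [ker_app_eq Z j q₀ f hpb hV, hker, hρ, Ideal.map_map]
  refine surjective_of_surjective_comp_of_nilpotent (r.app U).hom (j.app (r ⁻¹ᵁ U)).hom (J.map ρP)
    hk n ?_ ?_
  · rw [Ideal.map_map, ← hρ, ← Ideal.map_pow, Ideal.map_eq_bot_iff_le_ker]
    intro a ha
    exact ρU_eq_zero_of_killedBy J n hnil _ a ha
  · have h1 := (j ≫ r).app_surjective U hU
    rw [Scheme.Hom.comp_app] at h1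
    exact h1

end thick

end Groth.Agent.Lib.T2H9.Alg
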