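import Mathlib
import Groth.Agent.Lib.T2H9Alg7
import Groth.Agent.Lib.T2H9Alg4
import Groth.Agent.Lib.T2H5AnnIdeal
import Groth.Agent.Lib.Helper23FinTypeLocal

/-! # Algebraization with an ample module, VIII: the limit scheme (helper9)

`mem_smul_top_of_isQuotBy`: sections killed by a quotient by an ideal are combinations; `r_app_eq_zero_iff`,
`comp_app_eq_zero_iff`: affine computations of the ideals; `isPullback_of_ker_eq`: the closed subscheme cut out by the
annihilator of the limit module restricts to the chain; `exists_limit_scheme`: a compatible chain of closed subschemes of a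
proper `A`-scheme with an ample module, `A` Noetherian adically complete, is induced by a closed subscheme. -/

set_option autoImplicit false
set_option linter.style.haveILetI false
set_option linter.unusedVariables false
set_option linter.unusedSectionVars false
universe u
open CategoryTheory CategoryTheory.Limits Opposite AlgebraicGeometry TopologicalSpace

namespace Groth.Agent.Lib.T2H9.Alg

open Groth.Agent.Lib.T2H2.AlgzB Groth.Agent.Lib.T2H9.GrAdic Groth.Agent.Lib.T2H9.Thick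
  Groth.Agent.Lib.T2H9.EtLiftMain Groth.Agent.Lib.T2H9.FlatFib Groth.Agent.Lib.T2H9.FibQuot
  Groth.Agent.Lib.Helper23.PB Groth.Agent.Lib.T2H9.FFGeom Groth.Agent.Lib.Helper23.GenLocus

section secQuot

variable {A : Type u} [CommRing A] (X : Scheme.{u}) [X.Over (Spec (CommRingCat.of A))]

/-- **sections killed by a quotient by an ideal**: over an affine open, the kernel of a quotient by `𝔞` of a
quasi-coherent module `M` consists of `𝔞`-combinations. -/
theorem mem_smul_top_of_isQuotBy (𝔞 : Ideal A) {M M' : X.Modules} [M.IsQuasicoherent] (t : M ⟶ M')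
    (ht : IsQuotBy 𝔞 t) (U : X.affineOpens) (m : Γ(M, U.1)) (hm : t.app U.1 m = 0) :
    m ∈ ((𝔞.map (ρU X U.1)) • ⊤ : Submodule Γ(X, U.1) Γ(M, U.1)) := by
  let f : Spec (CommRingCat.of (A ⧸ 𝔞)) ⟶ Spec (CommRingCat.of A) :=
    Spec.map (CommRingCat.ofHom (Ideal.Quotient.mk 𝔞))
  haveI : IsClosedImmersion f := IsClosedImmersion.spec_of_surjective _ Ideal.Quotient.mk_surjective
  have hker : RingHom.ker (φT f) = 𝔞 := ker_φT_SpecMap_mk 𝔞
  let Z := pullback (X ↘ Spec (CommRingCat.of A)) f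
  let i : Z ⟶ X := pullback.fst _ _
  let q : Z ⟶ Spec (CommRingCat.of (A ⧸ 𝔞)) := pullback.snd _ _
  have hpb : IsPullback i q (X ↘ Spec (CommRingCat.of A)) f := IsPullback.of_hasPullback _ _
  haveI : IsClosedImmersion i := isClosedImmersion_of_isPullback X i q f hpb
  obtain ⟨c, hc⟩ := ht.exists_iso (isQuotBy_η X i q f hpb 𝔞 hker M)
  have h1 : (η i M).app U.1 m = 0 := by
    rw [← hc]
    change c.hom.app U.1 (t.app U.1 m) = 0
    rw [hm, map_zero]
  have h2 := mem_of_η_app_eq_zero i M U m h1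
  rw [ker_app_eq X i q f hpb U.2, hker] at h2
  exact h2

end secQuot

section stageF

variable {A : Type u} [CommRing A] (J : Ideal A) (P : Scheme.{u}) [P.Over (Spec (CommRingCat.of A))]
  (Xs : ℕ → Scheme.{u}) [∀ k, (Xs k).Over (Spec (CommRingCat.of A))]
  (p : ∀ k, Xs k ⟶ Spec (CommRingCat.of (A ⧸ J ^ (k + 1))))
  (hs : ∀ k, Xs k ↘ Spec (CommRingCat.of A) = p k ≫ CohB1.specQuot J k)
  (i : ∀ k, Xs k ⟶ Xs (k + 1))
  (hcart : ∀ k, IsPullback (i k) (p k) (p (k + 1)) (CohB1.specQuotTrans J k))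
  (r : ∀ k, Xs k ⟶ P) [∀ k, IsClosedImmersion (r k)]
  (hrt : ∀ k, r k ≫ (P ↘ Spec (CommRingCat.of A)) = Xs k ↘ Spec (CommRingCat.of A))
  (M : P.Modules) [M.IsQuasicoherent] [SheafOfModules.IsFiniteType (R := P.ringCatSheaf) M]
  (π : Coh.structureModule P ⟶ M) [Epi π]
  (ρ : ∀ k, M ⟶ (Scheme.Modules.pushforward (r k)).obj (Coh.structureModule (Xs k)))
  (hπρ : ∀ k, π ≫ ρ k = uP (r k)) (hρ : ∀ k, IsQuotBy (J ^ (k + 1)) (ρ k))

theorem π_app_surjective {U : P.Opens} (hU : IsAffineOpen U) (m : Γ(M, U)) :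
    ∃ y : Γ(P, U), π.app U (toS U y) = m := by
  haveI : (Coh.structureModule P).IsQuasicoherent :=
    (Groth.Agent.Lib.T2H5.GenIsoF.isCoh_structureModule).1
  obtain ⟨z, hz⟩ := Groth.Agent.Lib.Helper23.FinType.surjective_app_of_epi π hU m
  exact ⟨ofS U z, hz⟩

theorem π_app_eq_zero_iff {U : P.Opens} (hU : IsAffineOpen U) (a : Γ(P, U)) :
    π.app U (toS U a) = 0 ↔ a ∈ Module.annihilator Γ(P, U) Γ(M, U) := by
  constructor
  · intro h
    rw [Module.mem_annihilator]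
    intro m
    obtain ⟨y, rfl⟩ := π_app_surjective P M π hU m
    rw [← Scheme.Modules.Hom.app_smul, smul_toS, mul_comm, ← smul_toS,
      Scheme.Modules.Hom.app_smul, h, smul_zero]
  · intro h
    have h1 : toS U a = a • toS U (1 : Γ(P, U)) := by rw [smul_toS, mul_one]
    rw [h1, Scheme.Modules.Hom.app_smul]
    exact Module.mem_annihilator.1 h _

include hπρ in
theorem r_app_eq (k : ℕ) (U : P.Opens) (x : Γ(P, U)) :
    toS (r k ⁻¹ᵁ U) ((r k).app U x) = (ρ k).app U (π.app U (toS U x)) := by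
  have h := congrArg (fun t => t.app U (toS U x)) (hπρ k)
  exact h.symm

include hπρ in
theorem annIdeal_le_ker (k : ℕ) : Groth.Agent.Lib.T2H5.AnnIdeal.annIdeal M ≤ (r k).ker := by
  rw [Scheme.IdealSheafData.le_def]
  intro U a ha
  rw [Scheme.Hom.ker_apply, RingHom.mem_ker]
  have h1 := r_app_eq P Xs r M π ρ hπρ k U.1 a
  rw [(π_app_eq_zero_iff P M π U.2 a).2 ha, map_zero] at h1
  exact h1


theorem ρU_comp {Z : Scheme.{u}} [Z.Over (Spec (CommRingCat.of A))] (t : Z ⟶ P)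
    (ht : t ≫ (P ↘ Spec (CommRingCat.of A)) = Z ↘ Spec (CommRingCat.of A)) (U : P.Opens) (a : A) :
    (t.app U).hom (ρU P U a) = ρU Z (t ⁻¹ᵁ U) a := by
  have h := appLE_comp_of_eq t (P ↘ Spec (CommRingCat.of A)) (Z ↘ Spec (CommRingCat.of A)) ht U
  unfold ρU
  rw [h]
  rfl

include hs hcart in
theorem ρU_Xs_eq_zero (k : ℕ) (V : (Xs k).Opens) (a : A) (ha : a ∈ J ^ (k + 1)) :
    ρU (Xs k) V a = 0 := by
  haveI := chain_isClosedImmersion J Xs p hs i hcart k
  exact ρU_eq_zero_of_killedBy J (k + 1)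
    (killedBy_of_isPullback (Xs (k + 1)) (i k) (p k) (CohB1.specQuot J k)
      (chain_hpbA J Xs p hs i hcart k) (J ^ (k + 1)) (ker_φT_specQuot J k)
      (chain_hi J Xs p hs i hcart k) _) V a ha

include hs hcart hrt hπρ hρ in
theorem r_app_eq_zero_iff (k : ℕ) (U : P.affineOpens) (x : Γ(P, U.1)) :
    ((r k).app U.1).hom x = 0 ↔
      x ∈ (J ^ (k + 1)).map (ρU P U.1) ⊔ Module.annihilator Γ(P, U.1) Γ(M, U.1) := by
  constructor
  · intro hx
    have h1 : (ρ k).app U.1 (π.app U.1 (toS U.1 x)) = 0 := by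
      rw [← r_app_eq P Xs r M π ρ hπρ k U.1 x]
      exact congrArg (toS (r k ⁻¹ᵁ U.1)) hx
    have h2 := mem_smul_top_of_isQuotBy P (J ^ (k + 1)) (ρ k) (hρ k) U _ h1
    have key : ∀ m ∈ ((J ^ (k + 1)).map (ρU P U.1) • ⊤ : Submodule Γ(P, U.1) Γ(M, U.1)),
        ∃ b ∈ (J ^ (k + 1)).map (ρU P U.1), π.app U.1 (toS U.1 b) = m := by
      intro m hm
      refine Submodule.smul_induction_on hm ?_ ?_
      · intro b hb n _
        obtain ⟨y, rfl⟩ := π_app_surjective P M π U.2 n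
        refine ⟨b * y, Ideal.mul_mem_right _ _ hb, ?_⟩
        rw [← smul_toS, Scheme.Modules.Hom.app_smul]
      · rintro m₁ m₂ ⟨b₁, hb₁, rfl⟩ ⟨b₂, hb₂, rfl⟩
        refine ⟨b₁ + b₂, Ideal.add_mem _ hb₁ hb₂, ?_⟩
        exact (π.app U.1).hom.map_add (toS U.1 b₁) (toS U.1 b₂)
    obtain ⟨b, hb, hbx⟩ := key _ h2
    have h3 : π.app U.1 (toS U.1 (x - b)) = 0 := by
      have : toS U.1 (x - b) = toS U.1 x - toS U.1 b := rfl
      rw [this, map_sub, hbx, sub_self]
    have h4 := (π_app_eq_zero_iff P M π U.2 _).1 h3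
    have : x = b + (x - b) := by ring
    rw [this]
    exact Submodule.add_mem_sup hb h4
  · intro hx
    obtain ⟨b, hb, a, ha, rfl⟩ := Submodule.mem_sup.1 hx
    rw [map_add]
    have h1 : ((r k).app U.1).hom a = 0 := by
      have h := annIdeal_le_ker P Xs r M π ρ hπρ k
      rw [Scheme.IdealSheafData.le_def] at h
      have h' := h U ha
      rw [Scheme.Hom.ker_apply, RingHom.mem_ker] at h'
      exact h'
    have h2 : ((r k).app U.1).hom b = 0 := by
      have hle : (J ^ (k + 1)).map (ρU P U.1) ≤ RingHom.ker ((r k).app U.1).hom := by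
        rw [Ideal.map_le_iff_le_comap]
        intro j hj
        rw [Ideal.mem_comap, RingHom.mem_ker, ρU_comp P (r k) (hrt k),
          ρU_Xs_eq_zero J Xs p hs i hcart k _ j hj]
      exact hle hb
    rw [h1, h2, add_zero]

theorem comp_app_eq_zero_iff (Y : Scheme.{u}) [Y.Over (Spec (CommRingCat.of A))] (ιY : Y ⟶ P)
    [IsClosedImmersion ιY]
    (hιt : ιY ≫ (P ↘ Spec (CommRingCat.of A)) = Y ↘ Spec (CommRingCat.of A))
    {Z T : Scheme.{u}} (fst : Z ⟶ Y) (snd : Z ⟶ T) (f : T ⟶ Spec (CommRingCat.of A))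
    [IsClosedImmersion f] (hpb : IsPullback fst snd (Y ↘ Spec (CommRingCat.of A)) f)
    (U : P.affineOpens) (x : Γ(P, U.1)) :
    ((fst ≫ ιY).app U.1).hom x = 0 ↔
      x ∈ (RingHom.ker (φT f)).map (ρU P U.1) ⊔ RingHom.ker (ιY.app U.1).hom := by
  have hU' : IsAffineOpen (ιY ⁻¹ᵁ U.1) := U.2.preimage ιY
  have hk := ker_app_eq Y fst snd f hpb hU'
  have hρ' : ρU (A := A) Y (ιY ⁻¹ᵁ U.1) = (ιY.app U.1).hom.comp (ρU (A := A) P U.1) := by
    ext a
    exact (ρU_comp (A := A) P ιY hιt U.1 a).symm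
  have hsurj : Function.Surjective (ιY.app U.1).hom := ιY.app_surjective U.1 U.2
  have h1 : ((fst ≫ ιY).app U.1).hom x = (fst.app (ιY ⁻¹ᵁ U.1)).hom ((ιY.app U.1).hom x) := by
    rw [Scheme.Hom.comp_app]
    rfl
  have h2 : ((fst ≫ ιY).app U.1).hom x = 0 ↔
      (ιY.app U.1).hom x ∈ RingHom.ker (fst.app (ιY ⁻¹ᵁ U.1)).hom := by
    rw [RingHom.mem_ker]
    constructor
    · intro h; exact h1.symm.trans h
    · intro h; exact h1.trans h
  rw [h2, hk, hρ', ← Ideal.map_map, ← Ideal.mem_comap,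
    Ideal.comap_map_of_surjective _ hsurj]
  exact Iff.rfl


include hs hcart hrt hπρ hρ in
/-- **the limit scheme cuts out the chain**: if `ιY : Y ⟶ P` is the closed subscheme defined by the annihilator
of `M`, then `Xs k = Y ×_A A/J^{k+1}`. -/
theorem isPullback_of_ker_eq (Y : Scheme.{u}) (ιY : Y ⟶ P) [IsClosedImmersion ιY]
    (hker : ∀ U : P.affineOpens,
      RingHom.ker (ιY.app U.1).hom = Module.annihilator Γ(P, U.1) Γ(M, U.1))
    (k : ℕ) (e : Xs k ⟶ Y) (he : e ≫ ιY = r k) :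
    IsPullback e (p k) (ιY ≫ (P ↘ Spec (CommRingCat.of A))) (CohB1.specQuot J k) := by
  letI : Y.Over (Spec (CommRingCat.of A)) := ⟨ιY ≫ (P ↘ Spec (CommRingCat.of A))⟩
  have hιt : ιY ≫ (P ↘ Spec (CommRingCat.of A)) = Y ↘ Spec (CommRingCat.of A) := rfl
  let Z := pullback (Y ↘ Spec (CommRingCat.of A)) (CohB1.specQuot J k)
  let fst : Z ⟶ Y := pullback.fst _ _
  let snd : Z ⟶ _ := pullback.snd _ _
  have hpbZ : IsPullback fst snd (Y ↘ Spec (CommRingCat.of A)) (CohB1.specQuot J k) :=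
    IsPullback.of_hasPullback _ _
  have hw : e ≫ (Y ↘ Spec (CommRingCat.of A)) = p k ≫ CohB1.specQuot J k := by
    rw [← hιt, ← Category.assoc, he, hrt, hs]
  let c : Xs k ⟶ Z := pullback.lift e (p k) hw
  have hc1 : c ≫ fst = e := pullback.lift_fst _ _ _
  have hc2 : c ≫ snd = p k := pullback.lift_snd _ _ _
  haveI : IsClosedImmersion fst := isClosedImmersion_of_isPullback Y fst snd _ hpbZ
  haveI : IsClosedImmersion (fst ≫ ιY) := inferInstance
  have hcr : c ≫ (fst ≫ ιY) = r k := by rw [← Category.assoc, hc1, he]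
  have hkereq : (r k).ker = (fst ≫ ιY).ker := by
    apply Scheme.IdealSheafData.ext
    funext U
    ext x
    rw [Scheme.Hom.ker_apply, Scheme.Hom.ker_apply, RingHom.mem_ker, RingHom.mem_ker,
      r_app_eq_zero_iff J P Xs p hs i hcart r hrt M π ρ hπρ hρ k U x,
      comp_app_eq_zero_iff P Y ιY hιt fst snd _ hpbZ U x, ker_φT_specQuot, hker U]
  have hiso : IsIso c := IsClosedImmersion.isIso_of_ker_eq (r k) (fst ≫ ιY) c hcr hkereq
  exact IsPullback.of_iso_pullback ⟨hw⟩ (@asIso _ _ _ _ c hiso) hc1 hc2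

end stageF



section limit

variable (A : Type u) [CommRing A] [IsNoetherianRing A] (J : Ideal A) [IsAdicComplete J A]
  (P : Scheme.{u}) [P.Over (Spec (CommRingCat.of A))] [IsProper (P ↘ Spec (CommRingCat.of A))]
  (LP : P.Modules) (hLP : CohB1.IsAmple LP)
  (Xs : ℕ → Scheme.{u}) [∀ k, (Xs k).Over (Spec (CommRingCat.of A))]
  (p : ∀ k, Xs k ⟶ Spec (CommRingCat.of (A ⧸ J ^ (k + 1))))
  (hs : ∀ k, Xs k ↘ Spec (CommRingCat.of A) = p k ≫ CohB1.specQuot J k)
  (i : ∀ k, Xs k ⟶ Xs (k + 1))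
  (hcart : ∀ k, IsPullback (i k) (p k) (p (k + 1)) (CohB1.specQuotTrans J k))
  (r : ∀ k, Xs k ⟶ P) [∀ k, IsClosedImmersion (r k)]
  (hrt : ∀ k, r k ≫ (P ↘ Spec (CommRingCat.of A)) = Xs k ↘ Spec (CommRingCat.of A))
  (hrc : ∀ k, r k = i k ≫ r (k + 1))

include hLP hs hcart hrt hrc in
/-- **algebraization of a chain of closed subschemes** of a proper `A`-scheme with an ample module: a compatible chain of
closed subschemes `Xs k ⊆ P` with `Xs k = Xs (k+1) ×_A A/J^{k+1}` comes from a closed subscheme `Y ⊆ P`. -/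
theorem exists_limit_scheme :
    ∃ (Y : Scheme.{u}) (ιY : Y ⟶ P) (_ : IsClosedImmersion ιY) (e : ∀ k, Xs k ⟶ Y),
      (∀ k, e k ≫ ιY = r k) ∧
      ∀ k, IsPullback (e k) (p k) (ιY ≫ (P ↘ Spec (CommRingCat.of A))) (CohB1.specQuot J k) := by
  have hG : Formal.IsCohFormal J (Hsys P Xs i r hrc) :=
    isCohFormal_Fsys J P Xs p hs i hcart r hrt hrc _
      (fun k => Groth.Agent.Lib.T2H5.GenIsoF.isCoh_structureModule) _
  obtain ⟨M, π, ρ, hM, hπ, hπρ, hρ, -⟩ := exists_quot_of_epi_system A J P LP hLP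
    (Hsys P Xs i r hrc) hG (Coh.structureModule P)
    Groth.Agent.Lib.T2H5.GenIsoF.isCoh_structureModule (fun k => uP (r k))
    (uP_τ P Xs i r hrc) (fun k => epi_uP (r k))
  haveI := hM.1
  haveI := hM.2
  have hle : ∀ k, (Groth.Agent.Lib.T2H5.AnnIdeal.annIdeal M).subschemeι.ker ≤ (r k).ker := by
    intro k
    rw [Scheme.IdealSheafData.ker_subschemeι]
    exact annIdeal_le_ker P Xs r M π ρ hπρ k
  refine ⟨(Groth.Agent.Lib.T2H5.AnnIdeal.annIdeal M).subscheme,
    (Groth.Agent.Lib.T2H5.AnnIdeal.annIdeal M).subschemeι, inferInstance,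
    fun k => IsClosedImmersion.lift _ (r k) (hle k),
    fun k => IsClosedImmersion.lift_fac _ _ _, fun k => ?_⟩
  refine isPullback_of_ker_eq J P Xs p hs i hcart r hrt M π ρ hπρ hρ _ _ (fun U => ?_) k _
    (IsClosedImmersion.lift_fac _ _ _)
  rw [Scheme.IdealSheafData.ker_subschemeι_app]
  rfl

end limit

end Groth.Agent.Lib.T2H9.Alg
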