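import Mathlib
import Groth.Agent.Lib.Helper14InvLim
import Groth.Agent.Lib.Helper19ComplNoeth

/-!
# Uniform Artin–Rees for adic systems (helper9)

Namespace `Groth.Agent.Lib.T2H9.GE1`.  For adic systems `(M_n)`, `(P_n)` of finite modules over a Noetherian ring
(`M_{n+1} → M_n` surjective with kernel `I^(n+1) M_{n+1}`) and a compatible family `α_n : M_n → P_n` whose kernels are
killed by `K^c`: there is `e` such that for every `n` some transition map `M_{n+j} → M_n` kills
`ker α_{n+j} ∩ K^e M_{n+j}` (`main_complete` over an `I`-adically complete ring, `main` in general, via the module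
structure over the completion `CM`).
-/

set_option autoImplicit false
set_option linter.style.haveILetI false
set_option linter.unusedSectionVars false
set_option linter.unusedVariables false
universe u

namespace Groth.Agent.Lib.T2H9.GE1

open Groth.Agent.Lib.Helper14

section tower

variable {R : Type u} [CommRing R]
variable {M : ℕ → Type u} [∀ n, AddCommGroup (M n)] [∀ n, Module R (M n)]
  (f : ∀ n, M (n + 1) →ₗ[R] M n)

/-- iterated transition maps -/
noncomputable def tr (n : ℕ) : ∀ j : ℕ, M (n + j) →ₗ[R] M n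
  | 0 => LinearMap.id
  | j + 1 => (tr n j).comp (f (n + j))

theorem tr_zero (n : ℕ) (x : M n) : tr f n 0 x = x := rfl

theorem tr_succ (n j : ℕ) (x : M (n + j + 1)) : tr f n (j + 1) x = tr f n j (f (n + j) x) := rfl

/-- the inverse limit -/
def Lim : Submodule R (∀ n, M n) where
  carrier := {x | ∀ n, f n (x (n + 1)) = x n}
  zero_mem' := by intro n; simp
  add_mem' := by
    intro x y hx hy n
    simp only [Pi.add_apply, map_add]
    rw [hx n, hy n]
  smul_mem' := by
    intro a x hx n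
    simp only [Pi.smul_apply, map_smul]
    rw [hx n]

/-- the projections -/
def πL (n : ℕ) : ↥(Lim f) →ₗ[R] M n := (LinearMap.proj n).comp (Lim f).subtype

theorem πL_apply (n : ℕ) (x : ↥(Lim f)) : πL f n x = x.1 n := rfl

theorem f_comp_πL (n : ℕ) : f n ∘ₗ πL f (n + 1) = πL f n := by
  ext x
  exact x.2 n

theorem πL_inj (x : ↥(Lim f)) (hx : ∀ n, πL f n x = 0) : x = 0 := by
  apply Subtype.ext
  funext n
  exact hx n

theorem πL_lift (y : ∀ n, M n) (hy : ∀ n, f n (y (n + 1)) = y n) :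
    ∃ x : ↥(Lim f), ∀ n, πL f n x = y n := ⟨⟨y, hy⟩, fun _ => rfl⟩

theorem tr_πL (n j : ℕ) (x : ↥(Lim f)) : tr f n j (πL f (n + j) x) = πL f n x := by
  induction j with
  | zero => rfl
  | succ j ih =>
    change tr f n j (f (n + j) (πL f (n + j + 1) x)) = πL f n x
    have : f (n + j) (πL f (n + j + 1) x) = πL f (n + j) x := x.2 (n + j)
    rw [this, ih]

end tower

section main

variable {R : Type u} [CommRing R] [IsNoetherianRing R] (J K : Ideal R) [IsPrecomplete J R]
variable {M P : ℕ → Type u} [∀ n, AddCommGroup (M n)] [∀ n, Module R (M n)]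
  [∀ n, AddCommGroup (P n)] [∀ n, Module R (P n)]
  (f : ∀ n, M (n + 1) →ₗ[R] M n) (g : ∀ n, P (n + 1) →ₗ[R] P n) (α : ∀ n, M n →ₗ[R] P n)

/-- the induced map on limits -/
def αL (hα : ∀ n x, g n (α (n + 1) x) = α n (f n x)) : ↥(Lim f) →ₗ[R] ↥(Lim g) where
  toFun x := ⟨fun n => α n (x.1 n), fun n => by rw [hα, x.2 n]⟩
  map_add' x y := by
    apply Subtype.ext
    funext n
    simp
  map_smul' a x := by
    apply Subtype.ext
    funext n
    simp

theorem πL_αL (hα : ∀ n x, g n (α (n + 1) x) = α n (f n x)) (n : ℕ) (x : ↥(Lim f)) :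
    πL g n (αL f g α hα x) = α n (πL f n x) := rfl

variable (hf : ∀ n, Function.Surjective (f n))
  (hkf : ∀ n, LinearMap.ker (f n) = J ^ (n + 1) • (⊤ : Submodule R (M (n + 1))))
  (hg : ∀ n, Function.Surjective (g n))
  (hkg : ∀ n, LinearMap.ker (g n) = J ^ (n + 1) • (⊤ : Submodule R (P (n + 1))))
  (hα : ∀ n x, g n (α (n + 1) x) = α n (f n x))
  [Module.Finite R (M 0)] [Module.Finite R (P 0)]
  (c : ℕ) (hc : ∀ n (x : M n), α n x = 0 → ∀ k ∈ K ^ c, k • x = 0)

include hf hkf hg hkg hα hc in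
theorem main_complete : ∃ e : ℕ, ∀ n : ℕ, ∃ j : ℕ, ∀ x : M (n + j), α (n + j) x = 0 →
    x ∈ (K ^ e • ⊤ : Submodule R (M (n + j))) → tr f n j x = 0 := by
  classical
  have hJ : J.FG := IsNoetherian.noetherian J
  -- the limits
  haveI : Module.Finite R ↥(Lim f) :=
    finite_of_invLim J f (πL f) hJ hf hkf (f_comp_πL f) (πL_inj f) (πL_lift f)
  haveI : Module.Finite R ↥(Lim g) :=
    finite_of_invLim J g (πL g) hJ hg hkg (f_comp_πL g) (πL_inj g) (πL_lift g)
  have hsM : ∀ n, Function.Surjective (πL f n) := proj_surjective f (πL f) hf (πL_lift f)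
  have hkM : ∀ n, LinearMap.ker (πL f n) = J ^ (n + 1) • (⊤ : Submodule R ↥(Lim f)) :=
    ker_eq_pow_smul_top J f (πL f) hJ hf hkf (f_comp_πL f) (πL_inj f) (πL_lift f)
  have hkP : ∀ n, LinearMap.ker (πL g n) = J ^ (n + 1) • (⊤ : Submodule R ↥(Lim g)) :=
    ker_eq_pow_smul_top J g (πL g) hJ hg hkg (f_comp_πL g) (πL_inj g) (πL_lift g)
  set A := αL f g α hα with hA
  set N' : Submodule R ↥(Lim f) := LinearMap.ker A with hN'
  -- `N'` is killed by `K ^ c`
  have hN'kill : (K ^ c • N' : Submodule R ↥(Lim f)) = ⊥ := by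
    rw [eq_bot_iff, Submodule.smul_le]
    intro k hk x hx
    rw [Submodule.mem_bot]
    apply πL_inj f
    intro n
    rw [map_smul]
    apply hc n _ _ k hk
    have : πL g n (A x) = 0 := by rw [LinearMap.mem_ker.1 hx, map_zero]
    rw [← this]
    exact (πL_αL f g α hα n x).symm
  -- Artin-Rees 1
  obtain ⟨k₁, hk₁⟩ := Ideal.exists_pow_inf_eq_pow_smul K N'
  set e := k₁ + c with he
  have hAR1 : (K ^ e • ⊤ ⊓ N' : Submodule R ↥(Lim f)) = ⊥ := by
    rw [hk₁ e (Nat.le_add_right k₁ c), eq_bot_iff, ← hN'kill]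
    have : e - k₁ = c := by omega
    rw [this]
    exact Submodule.smul_mono le_rfl inf_le_right
  -- Artin-Rees 2
  set Lbar := ↥(Lim f) ⧸ (K ^ e • ⊤ : Submodule R ↥(Lim f)) with hLbar
  set q : ↥(Lim f) →ₗ[R] Lbar := (K ^ e • ⊤ : Submodule R ↥(Lim f)).mkQ with hq
  obtain ⟨k₂, hk₂⟩ := Ideal.exists_pow_inf_eq_pow_smul J (Submodule.map q N')
  -- Artin-Rees 3
  obtain ⟨k₃, hk₃⟩ := Ideal.exists_pow_inf_eq_pow_smul J (LinearMap.range A)
  refine ⟨e, fun n => ⟨k₂ + k₃, fun x hx0 hxK => ?_⟩⟩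
  -- (a) lift
  obtain ⟨xt, hxt⟩ := hsM (n + (k₂ + k₃)) x
  -- (b)
  have hb : A xt ∈ (J ^ (n + (k₂ + k₃) + 1) • ⊤ : Submodule R ↥(Lim g)) := by
    rw [← hkP (n + (k₂ + k₃)), LinearMap.mem_ker, hA, πL_αL, hxt, hx0]
  -- (c)
  have hc1 : A xt ∈ (J ^ (n + (k₂ + k₃) + 1) • ⊤ ⊓ LinearMap.range A : Submodule R ↥(Lim g)) :=
    ⟨hb, LinearMap.mem_range_self A xt⟩
  rw [hk₃ (n + (k₂ + k₃) + 1) (by omega)] at hc1
  have hc2 : A xt ∈ (J ^ (n + (k₂ + k₃) + 1 - k₃) • LinearMap.range A : Submodule R ↥(Lim g)) :=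
    Submodule.smul_mono le_rfl inf_le_right hc1
  rw [← Submodule.map_top A, ← Submodule.map_smul''] at hc2
  obtain ⟨y, hy, hyA⟩ := hc2
  -- (d)
  have hν : xt - y ∈ N' := by
    rw [hN', LinearMap.mem_ker, map_sub, hyA, sub_self]
  -- (e)
  have he1 : x ∈ Submodule.map (πL f (n + (k₂ + k₃))) (K ^ e • ⊤ : Submodule R ↥(Lim f)) := by
    rw [Submodule.map_smul'', Submodule.map_top, LinearMap.range_eq_top.2 (hsM (n + (k₂ + k₃)))]
    exact hxK
  obtain ⟨z, hz, hzx⟩ := he1
  have he2 : xt - z ∈ (J ^ (n + (k₂ + k₃) + 1) • ⊤ : Submodule R ↥(Lim f)) := by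
    rw [← hkM (n + (k₂ + k₃)), LinearMap.mem_ker, map_sub, hxt, hzx, sub_self]
  -- (f)
  have hle : (J ^ (n + (k₂ + k₃) + 1) • ⊤ : Submodule R ↥(Lim f)) ≤ J ^ (n + (k₂ + k₃) + 1 - k₃) • ⊤ :=
    Submodule.smul_mono_left (Ideal.pow_le_pow_right (by omega))
  have hf1 : q (xt - y) ∈ (J ^ (n + (k₂ + k₃) + 1 - k₃) • ⊤ : Submodule R Lbar) := by
    have h1 : q (xt - y) = q ((xt - z) - y) := by
      have : q z = 0 := (Submodule.Quotient.mk_eq_zero _).2 hz
      rw [map_sub, map_sub, map_sub, this, sub_zero]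
    rw [h1]
    have h2 : (xt - z) - y ∈ (J ^ (n + (k₂ + k₃) + 1 - k₃) • ⊤ : Submodule R ↥(Lim f)) :=
      Submodule.sub_mem _ (hle he2) hy
    have h3 : q ((xt - z) - y) ∈ Submodule.map q (J ^ (n + (k₂ + k₃) + 1 - k₃) • ⊤ : Submodule R ↥(Lim f)) :=
      ⟨_, h2, rfl⟩
    rw [Submodule.map_smul''] at h3
    exact Submodule.smul_mono le_rfl le_top h3
  -- (g)
  have hg1 : q (xt - y) ∈ (J ^ (n + (k₂ + k₃) + 1 - k₃) • ⊤ ⊓ Submodule.map q N' : Submodule R Lbar) :=
    ⟨hf1, ⟨_, hν, rfl⟩⟩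
  rw [hk₂ (n + (k₂ + k₃) + 1 - k₃) (by omega)] at hg1
  have hg2 : q (xt - y) ∈ (J ^ (n + (k₂ + k₃) + 1 - k₃ - k₂) • Submodule.map q N' : Submodule R Lbar) :=
    Submodule.smul_mono le_rfl inf_le_right hg1
  have hexp : n + (k₂ + k₃) + 1 - k₃ - k₂ = n + 1 := by omega
  rw [hexp, ← Submodule.map_smul''] at hg2
  obtain ⟨ν₁, hν₁, hν₁q⟩ := hg2
  have hν₁N : ν₁ ∈ N' := by
    have : (J ^ (n + 1) • N' : Submodule R ↥(Lim f)) ≤ N' := Submodule.smul_le_right
    exact this hν₁
  have hdiff : (xt - y) - ν₁ ∈ (K ^ e • ⊤ ⊓ N' : Submodule R ↥(Lim f)) := by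
    refine ⟨?_, Submodule.sub_mem _ hν hν₁N⟩
    have h0 : q ((xt - y) - ν₁) = 0 := by rw [map_sub, hν₁q, sub_self]
    exact (Submodule.Quotient.mk_eq_zero _).1 h0
  rw [hAR1, Submodule.mem_bot, sub_eq_zero] at hdiff
  -- (h)
  have hh1 : xt - y ∈ (J ^ (n + 1) • ⊤ : Submodule R ↥(Lim f)) := by
    rw [hdiff]
    exact Submodule.smul_mono le_rfl le_top hν₁
  have hh2 : y ∈ (J ^ (n + 1) • ⊤ : Submodule R ↥(Lim f)) :=
    Submodule.smul_mono_left (Ideal.pow_le_pow_right (by omega)) hy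
  have hh3 : xt ∈ (J ^ (n + 1) • ⊤ : Submodule R ↥(Lim f)) := by
    have := Submodule.add_mem _ hh1 hh2
    rwa [sub_add_cancel] at this
  rw [← hkM n, LinearMap.mem_ker] at hh3
  rw [← hxt, tr_πL]
  exact hh3

end main


section transfer

variable {B : Type u} [CommRing B] (I : Ideal B)

/-- a `B`-module killed by `I ^ N`, as a type synonym carrying a module structure over the completion -/
def CM (N : ℕ) (M : Type u) [AddCommGroup M] [Module B M]
    (_h : ∀ a ∈ I ^ N, ∀ x : M, a • x = 0) : Type u := M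

variable (N : ℕ) (M : Type u) [AddCommGroup M] [Module B M] (h : ∀ a ∈ I ^ N, ∀ x : M, a • x = 0)

instance : AddCommGroup (CM I N M h) := inferInstanceAs (AddCommGroup M)
instance : Module B (CM I N M h) := inferInstanceAs (Module B M)

/-- the identity, from `M` to the synonym -/
def toCM : M →ₗ[B] CM I N M h := LinearMap.id

theorem isTorsionBySet : Module.IsTorsionBySet B (CM I N M h) (I ^ N : Ideal B) :=
  fun x a => h a.1 a.2 x

noncomputable instance instQ : Module (B ⧸ I ^ N) (CM I N M h) :=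
  Module.IsTorsionBySet.module (isTorsionBySet I N M h)

noncomputable instance instR : Module (AdicCompletion I B) (CM I N M h) :=
  Module.compHom (CM I N M h) (AdicCompletion.evalₐ I N : AdicCompletion I B →ₐ[B] B ⧸ I ^ N).toRingHom

theorem smul_def (r : AdicCompletion I B) (x : CM I N M h) :
    r • x = (AdicCompletion.evalₐ I N r) • x := rfl

theorem mk_smul (b : B) (x : CM I N M h) : (Ideal.Quotient.mk (I ^ N) b) • x = b • x :=
  Module.IsTorsionBySet.mk_smul (isTorsionBySet I N M h) b x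

theorem seq_smul (s : AdicCompletion.AdicCauchySequence I B) (x : CM I N M h) :
    (AdicCompletion.mk I B s) • x = s.val N • x := by
  rw [smul_def, AdicCompletion.evalₐ_mk, mk_smul]

theorem seq_smul_of_le (s : AdicCompletion.AdicCauchySequence I B) (x : CM I N M h) {N' : ℕ} (hN : N ≤ N') :
    (AdicCompletion.mk I B s) • x = s.val N' • x := by
  rw [seq_smul, ← mk_smul I N M h (s.val N), ← mk_smul I N M h (s.val N'),
    AdicCompletion.Ideal.mk_eq_mk I hN s]

instance : IsScalarTower B (AdicCompletion I B) (CM I N M h) where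
  smul_assoc b r x := by
    rw [smul_def, smul_def, map_smul, smul_assoc]

end transfer


section smulTop

variable {B : Type u} [CommRing B] {R : Type u} [CommRing R] [Algebra B R]
  {X : Type u} [AddCommGroup X] [Module B X] [Module R X] [IsScalarTower B R X]

theorem mem_map_smul_top_of_mem (L : Ideal B) (x : X)
    (hx : x ∈ (L • ⊤ : Submodule B X)) : x ∈ ((L.map (algebraMap B R)) • ⊤ : Submodule R X) := by
  refine Submodule.smul_induction_on hx ?_ ?_
  · intro a ha y _
    rw [← algebraMap_smul R a y]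
    exact Submodule.smul_mem_smul (Ideal.mem_map_of_mem _ ha) trivial
  · intro y z hy hz
    exact Submodule.add_mem _ hy hz

theorem map_smul_mem (L : Ideal B) (j : R) (hj : j ∈ L.map (algebraMap B R)) (x : X) :
    j • x ∈ (L • ⊤ : Submodule B X) := by
  have key : ∀ j ∈ L.map (algebraMap B R), ∀ x : X, j • x ∈ (L • ⊤ : Submodule B X) := by
    intro j hj
    refine Submodule.span_induction (p := fun j _ => ∀ x : X, j • x ∈ (L • ⊤ : Submodule B X))
      ?_ ?_ ?_ ?_ hj
    · rintro _ ⟨a, ha, rfl⟩ x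
      rw [algebraMap_smul]
      exact Submodule.smul_mem_smul ha trivial
    · intro x
      rw [zero_smul]
      exact Submodule.zero_mem _
    · intro j₁ j₂ _ _ h₁ h₂ x
      rw [add_smul]
      exact Submodule.add_mem _ (h₁ x) (h₂ x)
    · intro r j₁ _ h₁ x
      rw [smul_eq_mul, mul_comm, mul_smul]
      exact h₁ (r • x)
  exact key j hj x

theorem mem_of_mem_map_smul_top (L : Ideal B) (x : X)
    (hx : x ∈ ((L.map (algebraMap B R)) • ⊤ : Submodule R X)) : x ∈ (L • ⊤ : Submodule B X) := by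
  refine Submodule.smul_induction_on hx ?_ ?_
  · intro j hj y _
    exact map_smul_mem L j hj y
  · intro y z hy hz
    exact Submodule.add_mem _ hy hz

end smulTop

section mainB

variable {B : Type u} [CommRing B] [IsNoetherianRing B] (I K : Ideal B)
variable {M P : ℕ → Type u} [∀ n, AddCommGroup (M n)] [∀ n, Module B (M n)]
  [∀ n, AddCommGroup (P n)] [∀ n, Module B (P n)]
  (f : ∀ n, M (n + 1) →ₗ[B] M n) (g : ∀ n, P (n + 1) →ₗ[B] P n) (α : ∀ n, M n →ₗ[B] P n)
  (hf : ∀ n, Function.Surjective (f n))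
  (hkf : ∀ n, LinearMap.ker (f n) = I ^ (n + 1) • (⊤ : Submodule B (M (n + 1))))
  (hg : ∀ n, Function.Surjective (g n))
  (hkg : ∀ n, LinearMap.ker (g n) = I ^ (n + 1) • (⊤ : Submodule B (P (n + 1))))
  (hα : ∀ n x, g n (α (n + 1) x) = α n (f n x))
  [Module.Finite B (M 0)] [Module.Finite B (P 0)]
  (hkillM : ∀ n, ∀ a ∈ I ^ (n + 1), ∀ x : M n, a • x = 0)
  (hkillP : ∀ n, ∀ a ∈ I ^ (n + 1), ∀ x : P n, a • x = 0)
  (c : ℕ) (hc : ∀ n (x : M n), α n x = 0 → ∀ k ∈ K ^ c, k • x = 0)

/-- a `B`-linear map between modules killed by powers of `I` is linear over the completion -/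
noncomputable def liftLin {N N' : ℕ} (hN : N' ≤ N) {X Y : Type u} [AddCommGroup X] [Module B X]
    [AddCommGroup Y] [Module B Y] (hX : ∀ a ∈ I ^ N, ∀ x : X, a • x = 0)
    (hY : ∀ a ∈ I ^ N', ∀ x : Y, a • x = 0) (φ : X →ₗ[B] Y) :
    CM I N X hX →ₗ[AdicCompletion I B] CM I N' Y hY where
  toFun := φ
  map_add' := φ.map_add
  map_smul' r x := by
    obtain ⟨s, rfl⟩ := AdicCompletion.mk_surjective I B r
    rw [RingHom.id_apply, seq_smul, seq_smul_of_le I N' Y hY s _ hN]
    exact φ.map_smul _ _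

theorem liftLin_apply {N N' : ℕ} (hN : N' ≤ N) {X Y : Type u} [AddCommGroup X] [Module B X]
    [AddCommGroup Y] [Module B Y] (hX : ∀ a ∈ I ^ N, ∀ x : X, a • x = 0)
    (hY : ∀ a ∈ I ^ N', ∀ x : Y, a • x = 0) (φ : X →ₗ[B] Y) (x : X) :
    liftLin I hN hX hY φ x = φ x := rfl

include hf hkf hg hkg hα hkillM hkillP hc in
theorem main : ∃ e : ℕ, ∀ n : ℕ, ∃ j : ℕ, ∀ x : M (n + j), α (n + j) x = 0 →
    x ∈ (K ^ e • ⊤ : Submodule B (M (n + j))) → tr f n j x = 0 := by
  have hfg : I.FG := IsNoetherian.noetherian I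
  haveI : IsNoetherianRing (AdicCompletion I B) :=
    Groth.Agent.Lib.Helper19.isNoetherianRing_adicCompletion I
  haveI hcomplete : IsAdicComplete I (AdicCompletion I B) := AdicCompletion.isAdicComplete hfg
  haveI hJc : IsAdicComplete (I.map (algebraMap B (AdicCompletion I B))) (AdicCompletion I B) :=
    (IsAdicComplete.map_algebraMap_iff I (AdicCompletion I B)).mpr hcomplete
  let M' : ℕ → Type u := fun n => CM I (n + 1) (M n) (hkillM n)
  let P' : ℕ → Type u := fun n => CM I (n + 1) (P n) (hkillP n)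
  let f' : ∀ n, M' (n + 1) →ₗ[AdicCompletion I B] M' n := fun n =>
    liftLin I (Nat.le_succ (n + 1)) (hkillM (n + 1)) (hkillM n) (f n)
  let g' : ∀ n, P' (n + 1) →ₗ[AdicCompletion I B] P' n := fun n =>
    liftLin I (Nat.le_succ (n + 1)) (hkillP (n + 1)) (hkillP n) (g n)
  let α' : ∀ n, M' n →ₗ[AdicCompletion I B] P' n := fun n =>
    liftLin I le_rfl (hkillM n) (hkillP n) (α n)
  haveI : Module.Finite B (M' 0) := inferInstanceAs (Module.Finite B (M 0))
  haveI : Module.Finite B (P' 0) := inferInstanceAs (Module.Finite B (P 0))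
  haveI : Module.Finite (AdicCompletion I B) (M' 0) :=
    Module.Finite.of_restrictScalars_finite B (AdicCompletion I B) (M' 0)
  haveI : Module.Finite (AdicCompletion I B) (P' 0) :=
    Module.Finite.of_restrictScalars_finite B (AdicCompletion I B) (P' 0)
  have hkf' : ∀ n, LinearMap.ker (f' n) =
      (I.map (algebraMap B (AdicCompletion I B))) ^ (n + 1) • (⊤ : Submodule _ (M' (n + 1))) := by
    intro n
    ext x
    rw [← Ideal.map_pow]
    constructor
    · intro hx
      have h1 : (x : M (n + 1)) ∈ LinearMap.ker (f n) := hx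
      rw [hkf n] at h1
      exact mem_map_smul_top_of_mem (X := M' (n + 1)) (I ^ (n + 1)) x h1
    · intro hx
      have h1 := mem_of_mem_map_smul_top (X := M' (n + 1)) (I ^ (n + 1)) x hx
      have h2 : (x : M (n + 1)) ∈ LinearMap.ker (f n) := by rw [hkf n]; exact h1
      exact h2
  have hkg' : ∀ n, LinearMap.ker (g' n) =
      (I.map (algebraMap B (AdicCompletion I B))) ^ (n + 1) • (⊤ : Submodule _ (P' (n + 1))) := by
    intro n
    ext x
    rw [← Ideal.map_pow]
    constructor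
    · intro hx
      have h1 : (x : P (n + 1)) ∈ LinearMap.ker (g n) := hx
      rw [hkg n] at h1
      exact mem_map_smul_top_of_mem (X := P' (n + 1)) (I ^ (n + 1)) x h1
    · intro hx
      have h1 := mem_of_mem_map_smul_top (X := P' (n + 1)) (I ^ (n + 1)) x hx
      have h2 : (x : P (n + 1)) ∈ LinearMap.ker (g n) := by rw [hkg n]; exact h1
      exact h2
  have hc' : ∀ n (x : M' n), α' n x = 0 →
      ∀ k ∈ (K.map (algebraMap B (AdicCompletion I B))) ^ c, k • x = 0 := by
    intro n x hx k hk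
    rw [← Ideal.map_pow] at hk
    have key : ∀ k ∈ (K ^ c).map (algebraMap B (AdicCompletion I B)),
        ∀ x : M' n, α' n x = 0 → k • x = 0 := by
      intro k hk
      refine Submodule.span_induction
        (p := fun k _ => ∀ x : M' n, α' n x = 0 → k • x = 0) ?_ ?_ ?_ ?_ hk
      · rintro _ ⟨a, ha, rfl⟩ x hx
        rw [algebraMap_smul]
        exact hc n x hx a ha
      · intro x _
        exact zero_smul _ x
      · intro k₁ k₂ _ _ h₁ h₂ x hx
        rw [add_smul, h₁ x hx, h₂ x hx, add_zero]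
      · intro r k₁ _ h₁ x hx
        rw [smul_eq_mul, mul_smul, h₁ x hx, smul_zero]
    exact key k hk x hx
  obtain ⟨e, he⟩ := main_complete (I.map (algebraMap B (AdicCompletion I B)))
    (K.map (algebraMap B (AdicCompletion I B))) f' g' α' hf hkf' hg hkg' hα c hc'
  refine ⟨e, fun n => ?_⟩
  obtain ⟨j, hj⟩ := he n
  refine ⟨j, fun x hx0 hxK => ?_⟩
  have htr : ∀ (j : ℕ) (y : M (n + j)), tr f' n j y = tr f n j y := by
    intro j
    induction j with
    | zero => intro y; rfl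
    | succ j ih =>
      intro y
      change tr f' n j (f' (n + j) y) = tr f n j (f (n + j) y)
      exact ih _
  rw [← htr]
  refine hj x hx0 ?_
  rw [← Ideal.map_pow]
  exact mem_map_smul_top_of_mem (X := M' (n + j)) (K ^ e) x hxK

end mainB

end Groth.Agent.Lib.T2H9.GE1
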