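import Mathlib
import Groth.Agent.Lib.T2H9GE1
import Groth.Agent.Lib.T2H9Alg8
import Groth.Agent.Lib.T2H5IdealMul
import Groth.Agent.Lib.T2H5SubSec

/-!
# Uniform Artin–Rees for a morphism of coherent formal modules (helper9)

Namespace `Groth.Agent.Lib.T2H9.GE2`.  `ar_claim`: for a morphism `α : F ⟶ G` of coherent formal modules on a Noetherian
scheme whose levelwise kernels are killed by `K ^ c` (`K` an ideal sheaf), there is `e` such that the kernels of
`F_m → G_m ⊕ F_m / K^e F_m` form an essentially zero system.  Also `appL`, `ker_app_of_isQuotBy`, `trF`.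
-/

set_option autoImplicit false
set_option linter.style.haveILetI false
set_option linter.unusedSectionVars false
set_option linter.unusedVariables false
universe u
open CategoryTheory CategoryTheory.Limits Opposite AlgebraicGeometry TopologicalSpace

namespace Groth.Agent.Lib.T2H9.GE2

open Groth.Agent.Lib.T2H2.AlgzB Groth.Agent.Lib.T2H9.FFGeom Groth.Agent.Lib.T2H9.Alg
  Groth.Agent.Lib.T2H5.IdealMul Groth.Agent.Lib.T2H9.GE1

variable {A : Type u} [CommRing A] {X : Scheme.{u}} [X.Over (Spec (CommRingCat.of A))]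

section loc

/-- sections of a module killed by `J` are killed by the extension of `J` -/
theorem smul_eq_zero_of_killedBy (J : Ideal A) (M : X.Modules) (h : Formal.KilledBy J M) (U : X.Opens)
    (a : Γ(X, U)) (ha : a ∈ J.map (ρU X U)) (m : Γ(M, U)) : a • m = 0 := by
  have key : ∀ a ∈ J.map (ρU X U), ∀ m : Γ(M, U), a • m = 0 := by
    intro a ha
    refine Submodule.span_induction (p := fun a _ => ∀ m : Γ(M, U), a • m = 0) ?_ ?_ ?_ ?_ ha
    · rintro _ ⟨b, hb, rfl⟩ m
      have h1 : (Formal.smulMod A M b).app U m = 0 := by rw [h b hb]; rfl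
      rw [smulMod_app] at h1
      exact h1
    · intro m
      exact zero_smul _ m
    · intro a₁ a₂ _ _ h₁ h₂ m
      rw [add_smul, h₁ m, h₂ m, add_zero]
    · intro r a₁ _ h₁ m
      rw [smul_eq_mul, mul_smul, h₁ m, smul_zero]
  exact key a ha m

/-- a morphism of modules on sections, as a linear map -/
noncomputable def appL {F G : X.Modules} (u : F ⟶ G) (W : X.Opens) : Γ(F, W) →ₗ[Γ(X, W)] Γ(G, W) where
  toFun x := u.app W x
  map_add' x y := map_add _ x y
  map_smul' r x := Scheme.Modules.Hom.app_smul u r x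

theorem appL_apply {F G : X.Modules} (u : F ⟶ G) (W : X.Opens) (x : Γ(F, W)) :
    appL u W x = u.app W x := rfl

theorem appL_comp {F G H : X.Modules} (u : F ⟶ G) (v : G ⟶ H) (W : X.Opens) (x : Γ(F, W)) :
    appL (u ≫ v) W x = appL v W (appL u W x) := rfl

/-- the kernel of a quotient by `J` on the sections over an affine open -/
theorem ker_app_of_isQuotBy (J : Ideal A) {M M' : X.Modules} [M.IsQuasicoherent] (t : M ⟶ M')
    (ht : IsQuotBy J t) (U : X.affineOpens) :
    LinearMap.ker (appL t U.1) = ((J.map (ρU X U.1)) • ⊤ : Submodule Γ(X, U.1) Γ(M, U.1)) := by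
  apply le_antisymm
  · intro m hm
    exact mem_smul_top_of_isQuotBy X J t ht U m hm
  · rw [Submodule.smul_le]
    intro a ha m _
    rw [LinearMap.mem_ker, map_smul]
    exact smul_eq_zero_of_killedBy J M' ht.killedBy U.1 a ha _

end loc


section claim

variable (I : Ideal A) (K : X.IdealSheafData) {F G : ℕᵒᵖ ⥤ X.Modules}

/-- transition of a system from level `n + j` to level `n` -/
noncomputable abbrev trF (F : ℕᵒᵖ ⥤ X.Modules) (n j : ℕ) : F.obj (op (n + j)) ⟶ F.obj (op n) :=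
  F.map (homOfLE (Nat.le_add_right n j)).op

theorem trF_zero (F : ℕᵒᵖ ⥤ X.Modules) (n : ℕ) : trF F n 0 = 𝟙 _ := F.map_id _

theorem trF_succ (F : ℕᵒᵖ ⥤ X.Modules) (n j : ℕ) :
    trF F n (j + 1) = F.map (homOfLE (Nat.le_succ (n + j))).op ≫ trF F n j := by
  change F.map _ = F.map _ ≫ F.map _
  rw [← F.map_comp]
  rfl

theorem trF_naturality {F G : ℕᵒᵖ ⥤ X.Modules} (α : F ⟶ G) (n j : ℕ) :
    trF F n j ≫ α.app (op n) = α.app (op (n + j)) ≫ trF G n j :=
  α.naturality _

variable [IsNoetherian X]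
  (hF : Formal.IsCohFormal I F) (hG : Formal.IsCohFormal I G) (α : F ⟶ G) (c : ℕ)
  (hker : ∀ n, ClSub.KilledByIdeal (K ^ c) (kernel (α.app (op n))))

include hF hG hker in
theorem local_claim (U : X.affineOpens) : ∃ e : ℕ, ∀ n : ℕ, ∃ j : ℕ,
    ∀ x : Γ(F.obj (op (n + j)), U.1), (α.app (op (n + j))).app U.1 x = 0 →
      x ∈ ((K.ideal U) ^ e • ⊤ : Submodule Γ(X, U.1) Γ(F.obj (op (n + j)), U.1)) →
      (trF F n j).app U.1 x = 0 := by
  haveI : IsNoetherianRing Γ(X, U.1) := IsLocallyNoetherian.component_noetherian U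
  have hF' := (isCohFormal_iff I F).1 hF
  have hG' := (isCohFormal_iff I G).1 hG
  haveI qF : ∀ n, (F.obj (op n)).IsQuasicoherent := fun n => (hF'.1 n).1
  haveI qG : ∀ n, (G.obj (op n)).IsQuasicoherent := fun n => (hG'.1 n).1
  haveI eF : ∀ n, Epi (F.map (homOfLE (Nat.le_succ n)).op) := fun n => (hF'.2.2 n).epi
  haveI eG : ∀ n, Epi (G.map (homOfLE (Nat.le_succ n)).op) := fun n => (hG'.2.2 n).epi
  haveI : Module.Finite Γ(X, U.1) Γ(F.obj (op 0), U.1) := by
    haveI : SheafOfModules.IsFiniteType (R := X.ringCatSheaf) (F.obj (op 0)) := (hF'.1 0).2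
    exact Groth.Agent.Lib.Helper23.FinType.finite_of_isFiniteType _ U.2
  haveI : Module.Finite Γ(X, U.1) Γ(G.obj (op 0), U.1) := by
    haveI : SheafOfModules.IsFiniteType (R := X.ringCatSheaf) (G.obj (op 0)) := (hG'.1 0).2
    exact Groth.Agent.Lib.Helper23.FinType.finite_of_isFiniteType _ U.2
  obtain ⟨e, he⟩ := GE1.main (I.map (ρU X U.1)) (K.ideal U)
    (M := fun n => Γ(F.obj (op n), U.1)) (P := fun n => Γ(G.obj (op n), U.1))
    (fun n => appL (F.map (homOfLE (Nat.le_succ n)).op) U.1)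
    (fun n => appL (G.map (homOfLE (Nat.le_succ n)).op) U.1)
    (fun n => appL (α.app (op n)) U.1)
    (fun n => Groth.Agent.Lib.Helper23.FinType.surjective_app_of_epi _ U.2)
    (fun n => by
      rw [ker_app_of_isQuotBy (I ^ (n + 1)) _ (hF'.2.2 n) U, Ideal.map_pow])
    (fun n => Groth.Agent.Lib.Helper23.FinType.surjective_app_of_epi _ U.2)
    (fun n => by
      rw [ker_app_of_isQuotBy (I ^ (n + 1)) _ (hG'.2.2 n) U, Ideal.map_pow])
    (fun n x => by
      rw [← appL_comp, ← appL_comp]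
      have := α.naturality (homOfLE (Nat.le_succ n)).op
      rw [this])
    (fun n a ha x => by
      rw [← Ideal.map_pow] at ha
      exact smul_eq_zero_of_killedBy (I ^ (n + 1)) _ (hF'.2.1 n) U.1 a ha x)
    (fun n a ha x => by
      rw [← Ideal.map_pow] at ha
      exact smul_eq_zero_of_killedBy (I ^ (n + 1)) _ (hG'.2.1 n) U.1 a ha x)
    c
    (fun n x hx k hk => by
      obtain ⟨r, rfl⟩ := exists_kernel_app_eq (α.app (op n)) U.1 x hx
      have hk' : k ∈ (K ^ c).ideal U := by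
        rw [Scheme.IdealSheafData.ideal_pow, Pi.pow_apply]
        exact hk
      have h0 : (k • r : Γ(kernel (α.app (op n)), U.1)) = 0 := hker n U k hk' r
      have h1 : (kernel.ι (α.app (op n))).app U.1 (k • r) = 0 :=
        (congrArg (fun t => (kernel.ι (α.app (op n))).app U.1 t) h0).trans (map_zero _)
      rw [← Scheme.Modules.Hom.app_smul]
      exact h1)
  refine ⟨e, fun n => ?_⟩
  obtain ⟨j, hj⟩ := he n
  refine ⟨j, fun x hx hxK => ?_⟩
  have htr : ∀ (j : ℕ) (y : Γ(F.obj (op (n + j)), U.1)),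
      GE1.tr (M := fun n => Γ(F.obj (op n), U.1))
        (fun n => appL (F.map (homOfLE (Nat.le_succ n)).op) U.1) n j y =
        (trF F n j).app U.1 y := by
    intro j
    induction j with
    | zero =>
      intro y
      rw [GE1.tr_zero, trF_zero]
      rfl
    | succ j ih =>
      intro y
      change GE1.tr (M := fun n => Γ(F.obj (op n), U.1)) _ n j
        (appL (F.map (homOfLE (Nat.le_succ (n + j))).op) U.1 y) = _
      rw [ih, trF_succ]
      rfl
  rw [← htr]
  exact hj x hx hxK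

end claim


section glob

variable (I : Ideal A) (K : X.IdealSheafData) {F G : ℕᵒᵖ ⥤ X.Modules} [IsNoetherian X]
  (hF : Formal.IsCohFormal I F) (hG : Formal.IsCohFormal I G) (α : F ⟶ G) (c : ℕ)
  (hker : ∀ n, ClSub.KilledByIdeal (K ^ c) (kernel (α.app (op n))))

/-- the local statement -/
def LocC (K : X.IdealSheafData) {F G : ℕᵒᵖ ⥤ X.Modules} (α : F ⟶ G) (U : X.affineOpens) (e n j : ℕ) : Prop :=
  ∀ x : Γ(F.obj (op (n + j)), U.1), (α.app (op (n + j))).app U.1 x = 0 →
    x ∈ ((K.ideal U) ^ e • ⊤ : Submodule Γ(X, U.1) Γ(F.obj (op (n + j)), U.1)) →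
    (trF F n j).app U.1 x = 0

theorem locC_mono (U : X.affineOpens) {e₀ e n j₀ j : ℕ} (he : e₀ ≤ e) (hj : j₀ ≤ j)
    (h : LocC K α U e₀ n j₀) : LocC K α U e n j := by
  intro x hx hxK
  have hle : n + j₀ ≤ n + j := Nat.add_le_add_left hj n
  set y : Γ(F.obj (op (n + j₀)), U.1) := (F.map (homOfLE hle).op).app U.1 x with hy
  have h1 : (α.app (op (n + j₀))).app U.1 y = 0 := by
    have hnat := α.naturality (homOfLE hle).op
    have : (α.app (op (n + j₀))).app U.1 y =
        (G.map (homOfLE hle).op).app U.1 ((α.app (op (n + j))).app U.1 x) := by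
      change (F.map (homOfLE hle).op ≫ α.app (op (n + j₀))).app U.1 x =
        (α.app (op (n + j)) ≫ G.map (homOfLE hle).op).app U.1 x
      rw [hnat]
    rw [this, hx, map_zero]
  have h2 : y ∈ ((K.ideal U) ^ e₀ • ⊤ : Submodule Γ(X, U.1) Γ(F.obj (op (n + j₀)), U.1)) := by
    have h3 : x ∈ ((K.ideal U) ^ e₀ • ⊤ : Submodule Γ(X, U.1) Γ(F.obj (op (n + j)), U.1)) :=
      Submodule.smul_mono_left (Ideal.pow_le_pow_right he) hxK
    have h4 : appL (F.map (homOfLE hle).op) U.1 x ∈
        Submodule.map (appL (F.map (homOfLE hle).op) U.1)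
          ((K.ideal U) ^ e₀ • ⊤ : Submodule Γ(X, U.1) Γ(F.obj (op (n + j)), U.1)) := ⟨x, h3, rfl⟩
    rw [Submodule.map_smul''] at h4
    exact Submodule.smul_mono le_rfl le_top h4
  have h5 := h y h1 h2
  have h6 : (trF F n j).app U.1 x = (trF F n j₀).app U.1 y := by
    change (F.map _).app U.1 x = (F.map (homOfLE hle).op ≫ F.map _).app U.1 x
    rw [← F.map_comp]
    rfl
  rw [h6]
  exact h5

include hF hG hker in
/-- **uniform Artin–Rees for a morphism of coherent formal modules whose kernels are killed by `K ^ c`**: the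
kernels of `F_m → G_m ⊕ F_m / K^e F_m` form an essentially zero system. -/
theorem ar_claim : ∃ e : ℕ, ∀ n : ℕ, ∃ j : ℕ, ∀ (Z : X.Modules) [Z.IsQuasicoherent]
    (z : Z ⟶ F.obj (op (n + j))), z ≫ α.app (op (n + j)) = 0 →
      z ≫ unit (K ^ e) (F.obj (op (n + j))) = 0 → z ≫ trF F n j = 0 := by
  classical
  obtain ⟨t, ht⟩ := isCompact_univ.elim_finite_subcover (fun U : X.affineOpens => (U.1 : Set X))
    (fun U => U.1.2) (by
      intro x _
      obtain ⟨_, ⟨U, hU, rfl⟩, hxU, -⟩ := X.isBasis_affineOpens.exists_subset_of_mem_open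
        (Set.mem_univ x) isOpen_univ
      exact Set.mem_iUnion.2 ⟨⟨U, hU⟩, hxU⟩)
  have hcov : ∀ x : X, ∃ U ∈ (t : Set X.affineOpens), x ∈ U.1 := by
    intro x
    have := ht (Set.mem_univ x)
    simp only [Set.mem_iUnion] at this
    obtain ⟨U, hUt, hxU⟩ := this
    exact ⟨U, hUt, hxU⟩
  have hloc : ∀ U : X.affineOpens, ∃ e : ℕ, ∀ n : ℕ, ∃ j : ℕ, LocC K α U e n j :=
    fun U => local_claim I K hF hG α c hker U
  choose e₀ he₀ using hloc
  choose j₀ hj₀ using he₀
  refine ⟨t.sup e₀, fun n => ⟨t.sup (fun U => j₀ U n), ?_⟩⟩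
  intro Z _ z hzα hzu
  have hF' := (isCohFormal_iff I F).1 hF
  haveI qF : ∀ n, (F.obj (op n)).IsQuasicoherent := fun n => (hF'.1 n).1
  refine Groth.Agent.Lib.T2H5.SubSec.hom_eq_zero_of_affine_cover _ (t : Set X.affineOpens) hcov ?_
  intro U hU s
  have hC : LocC K α U (t.sup e₀) n (t.sup (fun U => j₀ U n)) :=
    locC_mono K α U (Finset.le_sup (f := e₀) hU) (Finset.le_sup (f := fun U => j₀ U n) hU) (hj₀ U n)
  have h1 : (α.app (op (n + t.sup (fun U => j₀ U n)))).app U.1 (z.app U.1 s) = 0 := by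
    change (z ≫ α.app _).app U.1 s = 0
    rw [hzα]
    rfl
  have h2 : z.app U.1 s ∈ ((K.ideal U) ^ (t.sup e₀) • ⊤ :
      Submodule Γ(X, U.1) Γ(F.obj (op (n + t.sup (fun U => j₀ U n))), U.1)) := by
    have h3 : (unit (K ^ t.sup e₀) (F.obj (op (n + t.sup (fun U => j₀ U n))))).app U.1 (z.app U.1 s) = 0 := by
      change (z ≫ unit _ _).app U.1 s = 0
      rw [hzu]
      rfl
    have h4 := (unit_app_eq_zero_iff (K ^ t.sup e₀) _ U _).1 h3
    rw [Scheme.IdealSheafData.ideal_pow, Pi.pow_apply] at h4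
    exact h4
  exact hC _ h1 h2

end glob

end Groth.Agent.Lib.T2H9.GE2
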