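import Mathlib
import Groth.Agent.Lib.T2H9GE2

/-!
# Quotients by ideals, the functor M ↦ M / J M, algebraizing maps (helper9)

Namespace `Groth.Agent.Lib.T2H9.GE3`.  `isQuotBy_comp_of_le`, `isQuotBy_tt`, `isQuotBy_biprodMap`,
`isQuotBy_cokernelMap`: stability of `IsQuotBy`; `exists_app_eq_of_exact`, `hom_ext_of_affine_cover`,
`isQuotBy_of_affine_cover`: a criterion on the sections over an affine cover; `Φ J` (`M ↦ i_* i^* M`),
`exists_factor_unit`, `isCohFormal_Φ`; `exists_algebraize_map`: a compatible family of maps from a coherent module to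
the completion of a coherent `J`-killed module is induced by a map of modules.
-/

set_option autoImplicit false
set_option linter.style.haveILetI false
set_option linter.unusedSectionVars false
set_option linter.unusedVariables false
universe u
open CategoryTheory CategoryTheory.Limits Opposite AlgebraicGeometry TopologicalSpace

namespace Groth.Agent.Lib.T2H9.GE3

open Groth.Agent.Lib.T2H2.AlgzB Groth.Agent.Lib.T2H9.FFGeom Groth.Agent.Lib.T2H9.Alg
  Groth.Agent.Lib.T2H5.IdealMul Groth.Agent.Lib.T2H9.GE1 Groth.Agent.Lib.T2H9.GE2 Groth.Agent.S9530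

variable {A : Type u} [CommRing A] {X : Scheme.{u}} [X.Over (Spec (CommRingCat.of A))]

section quot

/-- a quotient by a smaller ideal followed by a quotient by a bigger ideal -/
theorem isQuotBy_comp_of_le {J J' : Ideal A} (hJ : J' ≤ J) {M M' M'' : X.Modules} {p : M ⟶ M'} {t : M' ⟶ M''}
    (hp : IsQuotBy J' p) (ht : IsQuotBy J t) : IsQuotBy J (p ≫ t) := by
  have := hp.epi
  have := ht.epi
  refine ⟨inferInstance, fun a ha => ?_, fun T g hg => ?_⟩
  · rw [← Category.assoc, smulMod_comp, Category.assoc, ht.kill a ha, comp_zero]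
  · obtain ⟨g', hg'⟩ := hp.fac T g (fun a ha => hg a (hJ ha))
    obtain ⟨g'', hg''⟩ := ht.fac T g' (fun a ha => by
      rw [← cancel_epi p, comp_zero, ← Category.assoc, ← smulMod_comp, Category.assoc, hg', hg a ha])
    exact ⟨g'', by rw [Category.assoc, hg'', hg']⟩

/-- general transition maps of a system -/
noncomputable abbrev tt (F : ℕᵒᵖ ⥤ X.Modules) {a b : ℕ} (h : a ≤ b) : F.obj (op b) ⟶ F.obj (op a) :=
  F.map (homOfLE h).op

theorem tt_comp (F : ℕᵒᵖ ⥤ X.Modules) {a b c : ℕ} (h : a ≤ b) (h' : b ≤ c) :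
    tt F h' ≫ tt F h = tt F (h.trans h') := by
  change F.map _ ≫ F.map _ = F.map _
  rw [← F.map_comp]
  rfl

theorem tt_refl (F : ℕᵒᵖ ⥤ X.Modules) (a : ℕ) : tt F (le_refl a) = 𝟙 _ := F.map_id _

theorem tt_naturality {F G : ℕᵒᵖ ⥤ X.Modules} (α : F ⟶ G) {a b : ℕ} (h : a ≤ b) :
    tt F h ≫ α.app (op a) = α.app (op b) ≫ tt G h :=
  α.naturality _

theorem isQuotBy_tt (I : Ideal A) {F : ℕᵒᵖ ⥤ X.Modules} (hF : Formal.IsCohFormal I F) {a b : ℕ} (h : a ≤ b) :
    IsQuotBy (I ^ (a + 1)) (tt F h) := by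
  have hF' := (isCohFormal_iff I F).1 hF
  obtain ⟨j, rfl⟩ := Nat.exists_eq_add_of_le h
  induction j with
  | zero =>
    have : tt F h = 𝟙 _ := tt_refl F a
    rw [this]
    exact Groth.Agent.Lib.T2H9.Thick.isQuotBy_id _ _ (hF'.2.1 a)
  | succ j ih =>
    have h1 : a ≤ a + j := Nat.le_add_right a j
    have h2 : a + j ≤ a + (j + 1) := Nat.le_succ _
    rw [← tt_comp F h1 h2]
    exact isQuotBy_comp_of_le (Ideal.pow_le_pow_right (by omega)) (hF'.2.2 (a + j)) (ih h1)

/-- the direct sum of two quotients -/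
theorem isQuotBy_biprodMap {J : Ideal A} {M₁ M₁' M₂ M₂' : X.Modules} {t₁ : M₁ ⟶ M₁'} {t₂ : M₂ ⟶ M₂'}
    (h₁ : IsQuotBy J t₁) (h₂ : IsQuotBy J t₂) : IsQuotBy J (biprod.map t₁ t₂) := by
  have := h₁.epi
  have := h₂.epi
  refine ⟨inferInstance, fun a ha => ?_, fun T g hg => ?_⟩
  · apply biprod.hom_ext'
    · rw [← Category.assoc, ← smulMod_comp, Category.assoc, biprod.inl_map, ← Category.assoc, h₁.kill a ha,
        zero_comp, comp_zero]
    · rw [← Category.assoc, ← smulMod_comp, Category.assoc, biprod.inr_map, ← Category.assoc, h₂.kill a ha,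
        zero_comp, comp_zero]
  · obtain ⟨g₁, hg₁⟩ := h₁.fac T (biprod.inl ≫ g) (fun a ha => by
      rw [← Category.assoc, smulMod_comp, Category.assoc, hg a ha, comp_zero])
    obtain ⟨g₂, hg₂⟩ := h₂.fac T (biprod.inr ≫ g) (fun a ha => by
      rw [← Category.assoc, smulMod_comp, Category.assoc, hg a ha, comp_zero])
    refine ⟨biprod.desc g₁ g₂, ?_⟩
    apply biprod.hom_ext'
    · rw [← Category.assoc, biprod.inl_map, Category.assoc, biprod.inl_desc, hg₁]
    · rw [← Category.assoc, biprod.inr_map, Category.assoc, biprod.inr_desc, hg₂]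

/-- cokernels of a morphism of quotients -/
theorem isQuotBy_cokernelMap {J : Ideal A} {F₁ F₀ G₁ G₀ : X.Modules} (γ₁ : F₁ ⟶ G₁) (γ₀ : F₀ ⟶ G₀)
    (tF : F₁ ⟶ F₀) (tG : G₁ ⟶ G₀) [Epi tF] (hG : IsQuotBy J tG) (w : γ₁ ≫ tG = tF ≫ γ₀) :
    IsQuotBy J (cokernel.map γ₁ γ₀ tF tG w) := by
  have := hG.epi
  have hepi : Epi (cokernel.π γ₁ ≫ cokernel.map γ₁ γ₀ tF tG w) := by
    rw [cokernel.π_desc]
    infer_instance
  refine ⟨epi_of_epi (cokernel.π γ₁) _, fun a ha => ?_, fun T g hg => ?_⟩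
  · rw [← cancel_epi (cokernel.π γ₁), comp_zero, ← Category.assoc, ← smulMod_comp, Category.assoc,
      cokernel.π_desc, ← Category.assoc, hG.kill a ha, zero_comp]
  · obtain ⟨g', hg'⟩ := hG.fac T (cokernel.π γ₁ ≫ g) (fun a ha => by
      rw [← Category.assoc, smulMod_comp, Category.assoc, hg a ha, comp_zero])
    have h0 : γ₀ ≫ g' = 0 := by
      rw [← cancel_epi tF, comp_zero, ← Category.assoc, ← w, Category.assoc, hg', cokernel.condition_assoc,
        zero_comp]
    refine ⟨cokernel.desc γ₀ g' h0, ?_⟩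
    rw [← cancel_epi (cokernel.π γ₁), ← Category.assoc, cokernel.π_desc, Category.assoc, cokernel.π_desc, hg']

end quot


section sec

/-- exactness on sections over an affine open -/
theorem exists_app_eq_of_exact {F G Q : X.Modules} [F.IsQuasicoherent] [G.IsQuasicoherent] [Q.IsQuasicoherent]
    (γ : F ⟶ G) (p : G ⟶ Q) (w : γ ≫ p = 0) (hex : (ShortComplex.mk γ p w).Exact) (U : X.affineOpens)
    (z : Γ(G, U.1)) (hz : p.app U.1 z = 0) : ∃ f : Γ(F, U.1), γ.app U.1 f = z := by
  obtain ⟨r, hr⟩ := exists_kernel_app_eq p U.1 z hz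
  haveI : (kernel p).IsQuasicoherent := Groth.Agent.Lib.Helper23.QCohLocal.isQuasicoherent_kernel p
  haveI : Epi (kernel.lift p γ w) := (ShortComplex.exact_iff_epi_kernel_lift _).1 hex
  obtain ⟨f, hf⟩ := Groth.Agent.Lib.Helper23.FinType.surjective_app_of_epi (kernel.lift p γ w) U.2 r
  refine ⟨f, ?_⟩
  rw [← hr, ← hf]
  change _ = (kernel.lift p γ w ≫ kernel.ι p).app U.1 f
  rw [kernel.lift_ι]

/-- equality of morphisms of quasi-coherent modules on an affine cover -/
theorem hom_ext_of_affine_cover {M N : X.Modules} [M.IsQuasicoherent] [N.IsQuasicoherent] (u v : M ⟶ N)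
    (S : Set X.affineOpens) (hS : ∀ x : X, ∃ U ∈ S, x ∈ U.1)
    (h : ∀ U ∈ S, ∀ t : Γ(M, U.1), u.app U.1 t = v.app U.1 t) : u = v := by
  rw [← sub_eq_zero]
  refine Groth.Agent.Lib.T2H5.SubSec.hom_eq_zero_of_affine_cover _ S hS fun U hU t => ?_
  change u.app U.1 t - v.app U.1 t = 0
  rw [h U hU t, sub_self]

/-- a morphism is a quotient by `I ^ k` if it is so on the sections over the members of an affine open cover -/
theorem isQuotBy_of_affine_cover (I : Ideal A) (k : ℕ) {M N : X.Modules} [M.IsQuasicoherent] [N.IsQuasicoherent]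
    (t : M ⟶ N) (hkill : ∀ a ∈ I ^ k, Formal.smulMod A M a ≫ t = 0)
    (S : Set X.affineOpens) (hS : ∀ x : X, ∃ U ∈ S, x ∈ U.1)
    (hsurj : ∀ U ∈ S, Function.Surjective (t.app U.1))
    (hker : ∀ U ∈ S, ∀ m : Γ(M, U.1), t.app U.1 m = 0 →
      m ∈ (((I ^ k).map (ρU X U.1)) • ⊤ : Submodule Γ(X, U.1) Γ(M, U.1))) :
    IsQuotBy (I ^ k) t := by
  have hπ := isQuotBy_modPowπ I k M
  haveI := hπ.epi
  haveI : (Formal.modPow I k M).IsQuasicoherent := isQuasicoherent_modPow I k M
  obtain ⟨t', ht'⟩ := hπ.fac N t hkill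
  haveI : (kernel t').IsQuasicoherent := Groth.Agent.Lib.Helper23.QCohLocal.isQuasicoherent_kernel t'
  haveI : (cokernel t').IsQuasicoherent := Groth.Agent.Lib.Helper23.QCohLocal.isQuasicoherent_cokernel t'
  have hk : IsZero (kernel t') := by
    refine isZero_of_affine_cover _ S hS fun U hU s => ?_
    apply Groth.Agent.Lib.Helper20.StalkExact.injective_app_of_mono (kernel.ι t') U.1
    rw [map_zero]
    obtain ⟨x, hx⟩ := Groth.Agent.Lib.Helper23.FinType.surjective_app_of_epi (Formal.modPowπ I k M) U.2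
      ((kernel.ι t').app U.1 s)
    have h1 : t.app U.1 x = 0 := by
      rw [← ht']
      change t'.app U.1 ((Formal.modPowπ I k M).app U.1 x) = 0
      rw [hx]
      change (kernel.ι t' ≫ t').app U.1 s = 0
      rw [kernel.condition]
      rfl
    have h2 := hker U hU x h1
    rw [← ker_app_of_isQuotBy (I ^ k) _ hπ U] at h2
    rw [← hx]
    exact h2
  have hc : IsZero (cokernel t') := by
    refine isZero_of_affine_cover _ S hS fun U hU s => ?_
    obtain ⟨y, rfl⟩ := Groth.Agent.Lib.Helper23.FinType.surjective_app_of_epi (cokernel.π t') U.2 s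
    obtain ⟨x, rfl⟩ := hsurj U hU y
    rw [← ht']
    change (t' ≫ cokernel.π t').app U.1 ((Formal.modPowπ I k M).app U.1 x) = 0
    rw [cokernel.condition]
    rfl
  haveI : Mono t' := Preadditive.mono_of_isZero_kernel _ hk
  haveI : Epi t' := Preadditive.epi_of_isZero_cokernel _ hc
  haveI : IsIso t' := isIso_of_mono_of_epi t'
  rw [← ht']
  exact hπ.comp_iso (asIso t')

end sec


section phi

/-- `M ↦ i_* i^* M = M / J M` for the closed subscheme cut out by the ideal sheaf `J` -/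
noncomputable abbrev Φ (J : X.IdealSheafData) : X.Modules ⥤ X.Modules :=
  Scheme.Modules.pullback J.subschemeι ⋙ Scheme.Modules.pushforward J.subschemeι

theorem unit_naturality (J : X.IdealSheafData) {M N : X.Modules} (g : M ⟶ N) :
    g ≫ unit J N = unit J M ≫ (Φ J).map g :=
  (Scheme.Modules.pullbackPushforwardAdjunction J.subschemeι).unit.naturality g

/-- maps to a module killed by `J` factor through `M / J M` -/
theorem exists_factor_unit (J : X.IdealSheafData) {M T : X.Modules} [T.IsQuasicoherent]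
    (hT : ClSub.KilledByIdeal J T) (g : M ⟶ T) : ∃ g' : (Φ J).obj M ⟶ T, unit J M ≫ g' = g := by
  haveI := isIso_unit_of_killed J T hT
  refine ⟨(Φ J).map g ≫ inv (unit J T), ?_⟩
  rw [← Category.assoc, ← unit_naturality, Category.assoc, IsIso.hom_inv_id, Category.comp_id]

theorem Φ_smulMod (J : X.IdealSheafData) (M : X.Modules) [M.IsQuasicoherent] (a : A) :
    (Φ J).map (Formal.smulMod A M a) = Formal.smulMod A ((Φ J).obj M) a := by
  haveI := epi_unit J M
  rw [← cancel_epi (unit J M), ← unit_naturality, smulMod_comp]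
  rfl

theorem isQuasicoherent_Φ (J : X.IdealSheafData) (M : X.Modules) [M.IsQuasicoherent] :
    ((Φ J).obj M).IsQuasicoherent := isQuasicoherent_pushPull J M

theorem isCoh_Φ [IsNoetherian X] (J : X.IdealSheafData) (M : X.Modules) (hM : Coh.IsCoh M) :
    Coh.IsCoh ((Φ J).obj M) := by
  haveI := hM.1
  haveI := epi_unit J M
  exact Groth.Agent.Lib.T2H5.Devissage.isCoh_of_epi (unit J M) hM (isQuasicoherent_Φ J M)

theorem killedBy_Φ (J : X.IdealSheafData) {𝔟 : Ideal A} (M : X.Modules) [M.IsQuasicoherent]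
    (h : Formal.KilledBy 𝔟 M) : Formal.KilledBy 𝔟 ((Φ J).obj M) := by
  intro a ha
  rw [← Φ_smulMod, h a ha, Functor.map_zero]

/-- `(F_n / J F_n)` is a coherent formal module -/
theorem isCohFormal_Φ [IsNoetherian X] (I : Ideal A) (J : X.IdealSheafData) {F : ℕᵒᵖ ⥤ X.Modules}
    (hF : Formal.IsCohFormal I F) : Formal.IsCohFormal I (F ⋙ Φ J) := by
  have hF' := (isCohFormal_iff I F).1 hF
  haveI qF : ∀ n, (F.obj (op n)).IsQuasicoherent := fun n => (hF'.1 n).1
  rw [isCohFormal_iff]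
  refine ⟨fun n => isCoh_Φ J _ (hF'.1 n), fun n => killedBy_Φ J _ (hF'.2.1 n), fun n => ?_⟩
  haveI : ((F ⋙ Φ J).obj (op (n + 1))).IsQuasicoherent := isQuasicoherent_Φ J _
  haveI : ((F ⋙ Φ J).obj (op n)).IsQuasicoherent := isQuasicoherent_Φ J _
  haveI := (hF'.2.2 n).epi
  refine isQuotBy_of_affine_cover I (n + 1) _ (fun a ha => ?_) Set.univ
    (fun x => ?_) (fun U _ => ?_) (fun U _ x hx => ?_)
  · have h0 : Formal.smulMod A ((F ⋙ Φ J).obj (op n)) a = 0 := killedBy_Φ J _ (hF'.2.1 n) a ha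
    rw [smulMod_comp, h0, comp_zero]
  · obtain ⟨_, ⟨U, hU, rfl⟩, hxU, -⟩ := X.isBasis_affineOpens.exists_subset_of_mem_open
      (Set.mem_univ x) isOpen_univ
    exact ⟨⟨U, hU⟩, Set.mem_univ _, hxU⟩
  · intro y
    obtain ⟨y', rfl⟩ := unit_app_surjective J (F.obj (op n)) U y
    obtain ⟨y'', rfl⟩ := Groth.Agent.Lib.Helper23.FinType.surjective_app_of_epi
      (F.map (homOfLE (Nat.le_succ n)).op) U.2 y'
    refine ⟨(unit J (F.obj (op (n + 1)))).app U.1 y'', ?_⟩
    change (unit J (F.obj (op (n + 1))) ≫ (Φ J).map (F.map (homOfLE (Nat.le_succ n)).op)).app U.1 y'' = _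
    rw [← unit_naturality]
    rfl
  · obtain ⟨y, rfl⟩ := unit_app_surjective J (F.obj (op (n + 1))) U x
    set tr := F.map (homOfLE (Nat.le_succ n)).op with htr
    have h1 : (unit J (F.obj (op n))).app U.1 (tr.app U.1 y) = 0 := by
      change (tr ≫ unit J (F.obj (op n))).app U.1 y = 0
      rw [unit_naturality]
      exact hx
    have h2 := (unit_app_eq_zero_iff J _ U _).1 h1
    have hsurj : Function.Surjective (appL tr U.1) :=
      Groth.Agent.Lib.Helper23.FinType.surjective_app_of_epi tr U.2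
    have h3 : (J.ideal U • ⊤ : Submodule Γ(X, U.1) Γ(F.obj (op n), U.1)) =
        Submodule.map (appL tr U.1) (J.ideal U • ⊤) := by
      rw [Submodule.map_smul'', Submodule.map_top, LinearMap.range_eq_top.2 hsurj]
    rw [h3] at h2
    obtain ⟨y', hy', hyy'⟩ := h2
    have h4 : y - y' ∈ LinearMap.ker (appL tr U.1) := by
      rw [LinearMap.mem_ker, map_sub, hyy']
      exact sub_self _
    rw [ker_app_of_isQuotBy (I ^ (n + 1)) _ (hF'.2.2 n) U] at h4
    have h5 : (unit J (F.obj (op (n + 1)))).app U.1 y = appL (unit J (F.obj (op (n + 1)))) U.1 (y - y') := by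
      rw [map_sub, appL_apply, appL_apply, (unit_app_eq_zero_iff J _ U y').2 hy', sub_zero]
    rw [h5]
    have h6 : appL (unit J (F.obj (op (n + 1)))) U.1 (y - y') ∈
        Submodule.map (appL (unit J (F.obj (op (n + 1)))) U.1)
          ((((I ^ (n + 1)).map (ρU X U.1)) • ⊤ : Submodule Γ(X, U.1) Γ(F.obj (op (n + 1)), U.1))) :=
      ⟨_, h4, rfl⟩
    rw [Submodule.map_smul''] at h6
    exact Submodule.smul_mono le_rfl le_top h6

end phi


section algz

/-- algebraizing a compatible family of maps from a coherent module to a system of `J`-killed modules which is the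
completion of a coherent `J`-killed module, using full faithfulness of the completion on `J`-killed coherent modules -/
theorem exists_algebraize_map [IsNoetherian X] (I : Ideal A) (J : X.IdealSheafData)
    (hfull : ∀ (M N : X.Modules), Coh.IsCoh M → Coh.IsCoh N → ClSub.KilledByIdeal J M → ClSub.KilledByIdeal J N →
      ∀ ψ : Formal.completion I M ⟶ Formal.completion I N,
        ∃ φ : M ⟶ N, ∀ n : ℕ, Formal.modPowπ I (n + 1) M ≫ ψ.app (op n) = φ ≫ Formal.modPowπ I (n + 1) N)
    {E Q : X.Modules} (hE : Coh.IsCoh E) (hQ : Coh.IsCoh Q) (hQk : ClSub.KilledByIdeal J Q)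
    (𝒬 : ℕᵒᵖ ⥤ X.Modules) (κ : Formal.completion I Q ≅ 𝒬)
    (g : ∀ n, E ⟶ 𝒬.obj (op n)) (hg : ∀ n, g (n + 1) ≫ 𝒬.map (homOfLE (Nat.le_succ n)).op = g n) :
    ∃ q : E ⟶ Q, ∀ n, q ≫ Formal.modPowπ I (n + 1) Q ≫ κ.hom.app (op n) = g n := by
  haveI := hE.1
  haveI := hQ.1
  haveI := epi_unit J E
  haveI qQ : ∀ n, (Formal.modPow I n Q).IsQuasicoherent := fun n => isQuasicoherent_modPow I n Q
  haveI eQ : ∀ n, Epi (Formal.modPowπ I n Q) := fun n => (isQuotBy_modPowπ I n Q).epi
  have kQ : ∀ n, ClSub.KilledByIdeal J (Formal.modPow I n Q) := fun n =>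
    killed_of_epi J (Formal.modPowπ I n Q) hQk
  have h1 : ∀ n, ∃ g' : (Φ J).obj E ⟶ Formal.modPow I (n + 1) Q, unit J E ≫ g' = g n ≫ κ.inv.app (op n) :=
    fun n => exists_factor_unit J (kQ (n + 1)) _
  choose g' hg' using h1
  have h2 : ∀ n, ∃ ψ : Formal.modPow I (n + 1) ((Φ J).obj E) ⟶ Formal.modPow I (n + 1) Q,
      Formal.modPowπ I (n + 1) ((Φ J).obj E) ≫ ψ = g' n := fun n =>
    (isQuotBy_modPowπ I (n + 1) ((Φ J).obj E)).fac _ (g' n) (fun a ha => by
      rw [smulMod_comp, (isQuotBy_modPowπ I (n + 1) Q).killedBy a ha, comp_zero])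
  choose ψ hψ using h2
  haveI eE : ∀ n, Epi (Formal.modPowπ I n ((Φ J).obj E)) := fun n => (isQuotBy_modPowπ I n _).epi
  let Ψ : Formal.completion I ((Φ J).obj E) ⟶ Formal.completion I Q := NatTrans.ofOpSequence (fun n => ψ n) (by
    intro n
    refine (cancel_epi (Formal.modPowπ I (n + 1 + 1) ((Φ J).obj E))).1 ?_
    refine (cancel_epi (unit J E)).1 ?_
    have e1 := completion_map_succ I ((Φ J).obj E) n
    have e2 := completion_map_succ I Q n
    have e3 := κ.inv.naturality (homOfLE (Nat.le_succ n)).op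
    have s1 : unit J E ≫ Formal.modPowπ I (n + 1 + 1) ((Φ J).obj E) ≫
          (Formal.completion I ((Φ J).obj E)).map (homOfLE (n.le_add_right 1)).op ≫ ψ n =
        g n ≫ κ.inv.app (op n) := by
      have a1 : Formal.modPowπ I (n + 1 + 1) ((Φ J).obj E) ≫
          (Formal.completion I ((Φ J).obj E)).map (homOfLE (n.le_add_right 1)).op =
          Formal.modPowπ I (n + 1) ((Φ J).obj E) :=
        (congrArg (fun t => Formal.modPowπ I (n + 1 + 1) ((Φ J).obj E) ≫ t) e1).trans
          (Formal.modPowπ_trans I (n + 1) _)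
      calc unit J E ≫ Formal.modPowπ I (n + 1 + 1) ((Φ J).obj E) ≫
            (Formal.completion I ((Φ J).obj E)).map (homOfLE (n.le_add_right 1)).op ≫ ψ n
          = unit J E ≫ (Formal.modPowπ I (n + 1 + 1) ((Φ J).obj E) ≫
            (Formal.completion I ((Φ J).obj E)).map (homOfLE (n.le_add_right 1)).op) ≫ ψ n := by
            simp only [Category.assoc]
        _ = unit J E ≫ Formal.modPowπ I (n + 1) ((Φ J).obj E) ≫ ψ n :=
            congrArg (fun t => unit J E ≫ t ≫ ψ n) a1
        _ = unit J E ≫ g' n := congrArg (fun t => unit J E ≫ t) (hψ n)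
        _ = _ := hg' n
    have s2 : unit J E ≫ Formal.modPowπ I (n + 1 + 1) ((Φ J).obj E) ≫ ψ (n + 1) ≫
          (Formal.completion I Q).map (homOfLE (n.le_add_right 1)).op = g n ≫ κ.inv.app (op n) := by
      calc unit J E ≫ Formal.modPowπ I (n + 1 + 1) ((Φ J).obj E) ≫ ψ (n + 1) ≫
            (Formal.completion I Q).map (homOfLE (n.le_add_right 1)).op
          = (unit J E ≫ (Formal.modPowπ I (n + 1 + 1) ((Φ J).obj E) ≫ ψ (n + 1))) ≫
            (Formal.completion I Q).map (homOfLE (n.le_add_right 1)).op := by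
            simp only [Category.assoc]
        _ = (unit J E ≫ g' (n + 1)) ≫ (Formal.completion I Q).map (homOfLE (n.le_add_right 1)).op :=
            congrArg (fun t => (unit J E ≫ t) ≫
              (Formal.completion I Q).map (homOfLE (n.le_add_right 1)).op) (hψ (n + 1))
        _ = (g (n + 1) ≫ κ.inv.app (op (n + 1))) ≫
              (Formal.completion I Q).map (homOfLE (n.le_add_right 1)).op :=
            congrArg (fun t => t ≫ (Formal.completion I Q).map (homOfLE (n.le_add_right 1)).op) (hg' (n + 1))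
        _ = g (n + 1) ≫ 𝒬.map (homOfLE (Nat.le_succ n)).op ≫ κ.inv.app (op n) := by
            rw [Category.assoc]
            exact congrArg (fun t => g (n + 1) ≫ t) e3.symm
        _ = _ := by rw [← Category.assoc, hg n]
    exact s1.trans s2.symm)
  obtain ⟨φ, hφ⟩ := hfull _ _ (isCoh_Φ J E hE) hQ (killed_pushPull J E) hQk Ψ
  refine ⟨unit J E ≫ φ, fun n => ?_⟩
  have h3 : Ψ.app (op n) = ψ n := rfl
  calc (unit J E ≫ φ) ≫ Formal.modPowπ I (n + 1) Q ≫ κ.hom.app (op n)
      = unit J E ≫ (φ ≫ Formal.modPowπ I (n + 1) Q) ≫ κ.hom.app (op n) := by simp only [Category.assoc]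
    _ = unit J E ≫ (Formal.modPowπ I (n + 1) ((Φ J).obj E) ≫ ψ n) ≫ κ.hom.app (op n) :=
        congrArg (fun t => unit J E ≫ t ≫ κ.hom.app (op n)) ((hφ n).symm.trans (congrArg (fun t => Formal.modPowπ I (n + 1) ((Φ J).obj E) ≫ t) h3))
    _ = unit J E ≫ g' n ≫ κ.hom.app (op n) :=
        congrArg (fun t => unit J E ≫ t ≫ κ.hom.app (op n)) (hψ n)
    _ = (g n ≫ κ.inv.app (op n)) ≫ κ.hom.app (op n) := by
        rw [← Category.assoc]
        exact congrArg (fun t => t ≫ κ.hom.app (op n)) (hg' n)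
    _ = g n := by
        rw [Category.assoc, ← NatTrans.comp_app, κ.inv_hom_id, NatTrans.id_app, Category.comp_id]

end algz

end Groth.Agent.Lib.T2H9.GE3
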