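import Mathlib
import Groth.Agent.Lib.T2H9GE3

/-!
# The kernel of an algebraized cokernel algebraizes the source (helper9)

Namespace `Groth.Agent.Lib.T2H9.GE4`.  `main`: let `F` be a coherent formal module on a Noetherian scheme, `E` a coherent
module with compatible quotients `π_n : E → G_n` by `I^(n+1)`, `γ : F ⟶ G` a morphism of systems whose kernels form an
essentially zero system, `p_n : G_n → 𝒬_n` cokernels of `γ_n`, `Q` coherent with quotients `q_n : Q → 𝒬_n` by `I^(n+1)`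
and `q' : E → Q` with `q' ≫ q_n = π_n ≫ p_n`.  Then the completion of `ker q'` is isomorphic to `F`.  (Artin–Rees on a
finite affine cover, `exists_ar`, `exists_rho`, `surj_of_char`, `ker_of_char`.)
-/

set_option autoImplicit false
set_option linter.style.haveILetI false
set_option linter.unusedSectionVars false
set_option linter.unusedVariables false
universe u
open CategoryTheory CategoryTheory.Limits Opposite AlgebraicGeometry TopologicalSpace

namespace Groth.Agent.Lib.T2H9.GE4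

open Groth.Agent.Lib.T2H2.AlgzB Groth.Agent.Lib.T2H9.FFGeom Groth.Agent.Lib.T2H9.Alg
  Groth.Agent.Lib.T2H5.IdealMul Groth.Agent.Lib.T2H9.GE1 Groth.Agent.Lib.T2H9.GE2 Groth.Agent.Lib.T2H9.GE3
  Groth.Agent.S9530

section alg

variable {R : Type u} [CommRing R] [IsNoetherianRing R] (𝔞 : Ideal R)
  {E Q : Type u} [AddCommGroup E] [Module R E] [AddCommGroup Q] [Module R Q] [Module.Finite R E]
  [Module.Finite R Q] (q : E →ₗ[R] Q)

/-- Artin–Rees for the kernel and the image of a linear map, with a common constant -/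
theorem exists_ar : ∃ k₀ : ℕ, ∀ k ≥ k₀,
    (∀ (m : ℕ) (w : E), q w ∈ (𝔞 ^ (m + k) • ⊤ : Submodule R Q) →
      ∃ x : E, q x = 0 ∧ w - x ∈ (𝔞 ^ m • ⊤ : Submodule R E)) ∧
    (∀ (n : ℕ) (x : E), q x = 0 → x ∈ (𝔞 ^ (n + k) • ⊤ : Submodule R E) →
      x ∈ (𝔞 ^ n • LinearMap.ker q : Submodule R E)) := by
  obtain ⟨k₁, hk₁⟩ := Ideal.exists_pow_inf_eq_pow_smul 𝔞 (LinearMap.range q)
  obtain ⟨k₂, hk₂⟩ := Ideal.exists_pow_inf_eq_pow_smul 𝔞 (LinearMap.ker q)
  refine ⟨max k₁ k₂, fun k hk => ⟨fun m w hw => ?_, fun n x hx hxk => ?_⟩⟩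
  · have h1 : q w ∈ (𝔞 ^ (m + k) • ⊤ ⊓ LinearMap.range q : Submodule R Q) := ⟨hw, ⟨w, rfl⟩⟩
    rw [hk₁ (m + k) (by omega)] at h1
    have h2 : (𝔞 ^ (m + k - k₁) • (𝔞 ^ k₁ • ⊤ ⊓ LinearMap.range q) : Submodule R Q) ≤
        𝔞 ^ m • LinearMap.range q :=
      Submodule.smul_mono (Ideal.pow_le_pow_right (by omega)) inf_le_right
    have h3 := h2 h1
    rw [LinearMap.range_eq_map, ← Submodule.map_smul''] at h3
    obtain ⟨w', hw', hww'⟩ := h3
    refine ⟨w - w', by rw [map_sub, hww', sub_self], ?_⟩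
    rw [sub_sub_cancel]
    exact hw'
  · have h1 : x ∈ (𝔞 ^ (n + k) • ⊤ ⊓ LinearMap.ker q : Submodule R E) := ⟨hxk, hx⟩
    rw [hk₂ (n + k) (by omega)] at h1
    have h2 : (𝔞 ^ (n + k - k₂) • (𝔞 ^ k₂ • ⊤ ⊓ LinearMap.ker q) : Submodule R E) ≤
        𝔞 ^ n • LinearMap.ker q :=
      Submodule.smul_mono (Ideal.pow_le_pow_right (by omega)) inf_le_right
    exact h2 h1

end alg


section cat

variable {C : Type*} [Category C] [Abelian C]

/-- a morphism killing the kernel of an epimorphism factors through it -/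
theorem exists_desc_of_epi {A B D : C} (ε : A ⟶ B) [Epi ε] (g : A ⟶ D) (h : kernel.ι ε ≫ g = 0) :
    ∃ σ : B ⟶ D, ε ≫ σ = g := by
  have hc := Abelian.epiIsCokernelOfKernel (f := ε) _ (kernelIsKernel ε)
  exact ⟨hc.desc (CokernelCofork.ofπ g h), hc.fac (CokernelCofork.ofπ g h) WalkingParallelPair.one⟩

end cat

variable {A : Type u} [CommRing A] {X : Scheme.{u}} [X.Over (Spec (CommRingCat.of A))]

section rho

variable {F G : ℕᵒᵖ ⥤ X.Modules} (𝒬 : ℕ → X.Modules) {E Q : X.Modules}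
  (π : ∀ n, E ⟶ G.obj (op n))
  (γ : F ⟶ G) (p : ∀ n, G.obj (op n) ⟶ 𝒬 n) (w : ∀ n, γ.app (op n) ≫ p n = 0)
  (hex : ∀ n, (ShortComplex.mk _ _ (w n)).Exact)
  (q' : E ⟶ Q) (q : ∀ n, Q ⟶ 𝒬 n) (hsq : ∀ n, q' ≫ q n = π n ≫ p n)

include hex hsq in
/-- the map `ker q' → F_n` through level `m` -/
theorem exists_rho (n m : ℕ) (hm : n ≤ m) (hz : kernel.ι (γ.app (op m)) ≫ tt F hm = 0) :
    ∃ ρ : kernel q' ⟶ F.obj (op n), ∀ (U : X.Opens) (x : Γ(kernel q', U)) (f : Γ(F.obj (op m), U)),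
      (π m).app U ((kernel.ι q').app U x) = (γ.app (op m)).app U f → ρ.app U x = (tt F hm).app U f := by
  let ε : F.obj (op m) ⟶ kernel (p m) := kernel.lift (p m) (γ.app (op m)) (w m)
  haveI : Epi ε := (ShortComplex.exact_iff_epi_kernel_lift _).1 (hex m)
  have h0 : (kernel.ι q' ≫ π m) ≫ p m = 0 := by
    rw [Category.assoc, ← hsq m, kernel.condition_assoc, zero_comp]
  let l : kernel q' ⟶ kernel (p m) := kernel.lift (p m) (kernel.ι q' ≫ π m) h0
  have h1 : kernel.ι ε ≫ tt F hm = 0 := by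
    have h2 : kernel.ι ε ≫ γ.app (op m) = 0 := by
      have : ε ≫ kernel.ι (p m) = γ.app (op m) := kernel.lift_ι _ _ _
      rw [← this, kernel.condition_assoc, zero_comp]
    rw [← kernel.lift_ι (γ.app (op m)) (kernel.ι ε) h2, Category.assoc, hz, comp_zero]
  obtain ⟨σ, hσ⟩ := exists_desc_of_epi ε (tt F hm) h1
  refine ⟨l ≫ σ, fun U x f hxf => ?_⟩
  have h3 : l.app U x = ε.app U f := by
    apply Groth.Agent.Lib.Helper20.StalkExact.injective_app_of_mono (kernel.ι (p m)) U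
    change (l ≫ kernel.ι (p m)).app U x = (ε ≫ kernel.ι (p m)).app U f
    rw [kernel.lift_ι, kernel.lift_ι]
    exact hxf
  change σ.app U (l.app U x) = _
  rw [h3, ← hσ]
  rfl

end rho



section loc

variable (I : Ideal A) [IsNoetherian X] {F G : ℕᵒᵖ ⥤ X.Modules} (hF : Formal.IsCohFormal I F)
  [hGq : ∀ n, (G.obj (op n)).IsQuasicoherent]
  (𝒬 : ℕ → X.Modules) [h𝒬q : ∀ n, (𝒬 n).IsQuasicoherent]
  {E Q : X.Modules} (hE : Coh.IsCoh E) (hQ : Coh.IsCoh Q)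
  (π : ∀ n, E ⟶ G.obj (op n)) (hπ : ∀ n, IsQuotBy (I ^ (n + 1)) (π n))
  (hπc : ∀ n, π (n + 1) ≫ G.map (homOfLE (Nat.le_succ n)).op = π n)
  (γ : F ⟶ G) (p : ∀ n, G.obj (op n) ⟶ 𝒬 n) (w : ∀ n, γ.app (op n) ≫ p n = 0)
  (hex : ∀ n, (ShortComplex.mk _ _ (w n)).Exact)
  (q' : E ⟶ Q) (q : ∀ n, Q ⟶ 𝒬 n) (hq : ∀ n, IsQuotBy (I ^ (n + 1)) (q n))
  (hsq : ∀ n, q' ≫ q n = π n ≫ p n)

include hπc in
theorem π_tt {a b : ℕ} (h : a ≤ b) : π b ≫ tt G h = π a := by
  obtain ⟨j, rfl⟩ := Nat.exists_eq_add_of_le h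
  induction j with
  | zero =>
    have : tt G h = 𝟙 _ := tt_refl G a
    rw [this, Category.comp_id]
    rfl
  | succ j ih =>
    have h1 : a ≤ a + j := Nat.le_add_right a j
    have h2 : a + j ≤ a + (j + 1) := Nat.le_succ _
    rw [← tt_comp G h1 h2, ← Category.assoc]
    have : π (a + (j + 1)) ≫ tt G h2 = π (a + j) := hπc (a + j)
    rw [this]
    exact ih h1

/-- the Artin–Rees property over an affine open with constant `k` -/
def ARU (I : Ideal A) {E Q : X.Modules} (q' : E ⟶ Q) (U : X.affineOpens) (k : ℕ) : Prop :=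
  (∀ (m : ℕ) (w : Γ(E, U.1)), q'.app U.1 w ∈
      ((I.map (ρU X U.1)) ^ (m + k) • ⊤ : Submodule Γ(X, U.1) Γ(Q, U.1)) →
    ∃ x : Γ(E, U.1), q'.app U.1 x = 0 ∧
      w - x ∈ ((I.map (ρU X U.1)) ^ m • ⊤ : Submodule Γ(X, U.1) Γ(E, U.1))) ∧
  (∀ (n : ℕ) (x : Γ(E, U.1)), q'.app U.1 x = 0 →
    x ∈ ((I.map (ρU X U.1)) ^ (n + k) • ⊤ : Submodule Γ(X, U.1) Γ(E, U.1)) →
    x ∈ ((I.map (ρU X U.1)) ^ n • LinearMap.ker (appL q' U.1) : Submodule Γ(X, U.1) Γ(E, U.1)))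

include hE hQ in
theorem exists_ARU (U : X.affineOpens) : ∃ k₀ : ℕ, ∀ k ≥ k₀, ARU I q' U k := by
  haveI : IsNoetherianRing Γ(X, U.1) := IsLocallyNoetherian.component_noetherian U
  haveI := hE.1
  haveI := hQ.1
  haveI : Module.Finite Γ(X, U.1) Γ(E, U.1) := by
    haveI : SheafOfModules.IsFiniteType (R := X.ringCatSheaf) E := hE.2
    exact Groth.Agent.Lib.Helper23.FinType.finite_of_isFiniteType _ U.2
  haveI : Module.Finite Γ(X, U.1) Γ(Q, U.1) := by
    haveI : SheafOfModules.IsFiniteType (R := X.ringCatSheaf) Q := hQ.2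
    exact Groth.Agent.Lib.Helper23.FinType.finite_of_isFiniteType _ U.2
  obtain ⟨k₀, hk₀⟩ := exists_ar (I.map (ρU X U.1)) (appL q' U.1)
  exact ⟨k₀, fun k hk => hk₀ k hk⟩

include hE hQ hπ hπc hex hq hsq in
theorem exists_lift (U : X.affineOpens) (k : ℕ) (hAR : ARU I q' U k) (m' : ℕ)
    (f' : Γ(F.obj (op (m' + k)), U.1)) :
    ∃ x' : Γ(kernel q', U.1), (π m').app U.1 ((kernel.ι q').app U.1 x') =
      (γ.app (op m')).app U.1 ((tt F (Nat.le_add_right m' k)).app U.1 f') := by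
  haveI := hE.1
  haveI := hQ.1
  haveI : ∀ n, Epi (π n) := fun n => (hπ n).epi
  obtain ⟨w₀, hw₀⟩ := Groth.Agent.Lib.Helper23.FinType.surjective_app_of_epi (π (m' + k)) U.2
    ((γ.app (op (m' + k))).app U.1 f')
  have h1 : (q (m' + k)).app U.1 (q'.app U.1 w₀) = 0 := by
    change (q' ≫ q (m' + k)).app U.1 w₀ = 0
    rw [hsq]
    change (p (m' + k)).app U.1 ((π (m' + k)).app U.1 w₀) = 0
    rw [hw₀]
    change (γ.app (op (m' + k)) ≫ p (m' + k)).app U.1 f' = 0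
    rw [w]
    rfl
  have h2 : q'.app U.1 w₀ ∈ LinearMap.ker (appL (q (m' + k)) U.1) := h1
  rw [ker_app_of_isQuotBy (I ^ (m' + k + 1)) _ (hq _) U, Ideal.map_pow,
    show m' + k + 1 = (m' + 1) + k by omega] at h2
  obtain ⟨x₀, hx₀, hwx⟩ := hAR.1 (m' + 1) w₀ h2
  obtain ⟨x', hx'⟩ := exists_kernel_app_eq q' U.1 x₀ hx₀
  refine ⟨x', ?_⟩
  rw [hx']
  have h3 : w₀ - x₀ ∈ LinearMap.ker (appL (π m') U.1) := by
    rw [ker_app_of_isQuotBy (I ^ (m' + 1)) _ (hπ _) U, Ideal.map_pow]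
    exact hwx
  have h4 : (π m').app U.1 x₀ = (π m').app U.1 w₀ := by
    have : appL (π m') U.1 (w₀ - x₀) = 0 := h3
    rw [map_sub, sub_eq_zero] at this
    exact this.symm
  rw [h4]
  have h5 : (π m').app U.1 w₀ = (tt G (Nat.le_add_right m' k)).app U.1 ((π (m' + k)).app U.1 w₀) := by
    change _ = (π (m' + k) ≫ tt G (Nat.le_add_right m' k)).app U.1 w₀
    rw [π_tt π hπc]
  rw [h5, hw₀]
  change (γ.app (op (m' + k)) ≫ tt G (Nat.le_add_right m' k)).app U.1 f' =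
    (tt F (Nat.le_add_right m' k) ≫ γ.app (op m')).app U.1 f'
  rw [tt_naturality]

end loc



section loc2

variable (I : Ideal A) [IsNoetherian X] {F G : ℕᵒᵖ ⥤ X.Modules} (hF : Formal.IsCohFormal I F)
  [hGq : ∀ n, (G.obj (op n)).IsQuasicoherent]
  (𝒬 : ℕ → X.Modules) [h𝒬q : ∀ n, (𝒬 n).IsQuasicoherent]
  {E Q : X.Modules} (hE : Coh.IsCoh E) (hQ : Coh.IsCoh Q)
  (π : ∀ n, E ⟶ G.obj (op n)) (hπ : ∀ n, IsQuotBy (I ^ (n + 1)) (π n))
  (hπc : ∀ n, π (n + 1) ≫ G.map (homOfLE (Nat.le_succ n)).op = π n)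
  (γ : F ⟶ G) (p : ∀ n, G.obj (op n) ⟶ 𝒬 n) (w : ∀ n, γ.app (op n) ≫ p n = 0)
  (hex : ∀ n, (ShortComplex.mk _ _ (w n)).Exact)
  (q' : E ⟶ Q) (q : ∀ n, Q ⟶ 𝒬 n) (hq : ∀ n, IsQuotBy (I ^ (n + 1)) (q n))
  (hsq : ∀ n, q' ≫ q n = π n ≫ p n)

include hF hE hQ hπ hπc hex hq hsq in
theorem surj_of_char (U : X.affineOpens) (k : ℕ) (hAR : ARU I q' U k) (n m : ℕ) (hm : n ≤ m)
    (ρ : kernel q' ⟶ F.obj (op n))
    (hρ : ∀ (x : Γ(kernel q', U.1)) (f : Γ(F.obj (op m), U.1)),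
      (π m).app U.1 ((kernel.ι q').app U.1 x) = (γ.app (op m)).app U.1 f →
      ρ.app U.1 x = (tt F hm).app U.1 f) : Function.Surjective (ρ.app U.1) := by
  intro y
  have hF' := (isCohFormal_iff I F).1 hF
  haveI qF : ∀ n, (F.obj (op n)).IsQuasicoherent := fun n => (hF'.1 n).1
  have hmk : n ≤ m + k := hm.trans (Nat.le_add_right m k)
  haveI : Epi (tt F hmk) := (isQuotBy_tt I hF hmk).epi
  obtain ⟨f', hf'⟩ := Groth.Agent.Lib.Helper23.FinType.surjective_app_of_epi (tt F hmk) U.2 y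
  obtain ⟨x', hx'⟩ := exists_lift I 𝒬 hE hQ π hπ hπc γ p w hex q' q hq hsq U k hAR m f'
  refine ⟨x', ?_⟩
  rw [hρ x' _ hx', ← hf']
  change (tt F (Nat.le_add_right m k) ≫ tt F hm).app U.1 f' = _
  rw [tt_comp]

include hF hE hQ hπ hπc hex hq hsq in
theorem ker_of_char (U : X.affineOpens) (k : ℕ) (hAR : ARU I q' U k) (n m' : ℕ) (hm' : n + k ≤ m')
    (hm : n ≤ m' + k) (ρ : kernel q' ⟶ F.obj (op n))
    (hρ : ∀ (x : Γ(kernel q', U.1)) (f : Γ(F.obj (op (m' + k)), U.1)),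
      (π (m' + k)).app U.1 ((kernel.ι q').app U.1 x) = (γ.app (op (m' + k))).app U.1 f →
      ρ.app U.1 x = (tt F hm).app U.1 f) (x : Γ(kernel q', U.1)) (hx : ρ.app U.1 x = 0) :
    x ∈ (((I ^ (n + 1)).map (ρU X U.1)) • ⊤ : Submodule Γ(X, U.1) Γ(kernel q', U.1)) := by
  have hF' := (isCohFormal_iff I F).1 hF
  haveI qF : ∀ n, (F.obj (op n)).IsQuasicoherent := fun n => (hF'.1 n).1
  haveI := hE.1
  haveI := hQ.1
  haveI : (kernel q').IsQuasicoherent := Groth.Agent.Lib.Helper23.QCohLocal.isQuasicoherent_kernel q'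
  -- step 1
  have h1 : (p (m' + k)).app U.1 ((π (m' + k)).app U.1 ((kernel.ι q').app U.1 x)) = 0 := by
    change (π (m' + k) ≫ p (m' + k)).app U.1 ((kernel.ι q').app U.1 x) = 0
    rw [← hsq]
    change (q (m' + k)).app U.1 ((kernel.ι q' ≫ q').app U.1 x) = 0
    rw [kernel.condition]
    exact map_zero _
  obtain ⟨f, hf⟩ := exists_app_eq_of_exact (γ.app (op (m' + k))) (p (m' + k)) (w _) (hex _) U _ h1
  -- step 2
  have h2 : (tt F hm).app U.1 f = 0 := by rw [← hρ x f hf.symm, hx]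
  have h3 : f ∈ LinearMap.ker (appL (tt F hm) U.1) := h2
  rw [ker_app_of_isQuotBy (I ^ (n + 1)) _ (isQuotBy_tt I hF hm) U] at h3
  -- step 3
  have h4 : ∃ x' : Γ(kernel q', U.1),
      x' ∈ (((I ^ (n + 1)).map (ρU X U.1)) • ⊤ : Submodule Γ(X, U.1) Γ(kernel q', U.1)) ∧
      (π m').app U.1 ((kernel.ι q').app U.1 x') =
        (γ.app (op m')).app U.1 ((tt F (Nat.le_add_right m' k)).app U.1 f) := by
    refine Submodule.smul_induction_on h3 (fun a ha f' _ => ?_) (fun f₁ f₂ h₁ h₂ => ?_)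
    · obtain ⟨x'', hx''⟩ := exists_lift I 𝒬 hE hQ π hπ hπc γ p w hex q' q hq hsq U k hAR m' f'
      refine ⟨a • x'', Submodule.smul_mem_smul ha Submodule.mem_top, ?_⟩
      rw [Scheme.Modules.Hom.app_smul, Scheme.Modules.Hom.app_smul, hx'', Scheme.Modules.Hom.app_smul,
        Scheme.Modules.Hom.app_smul]
    · obtain ⟨x₁, hx₁, e₁⟩ := h₁
      obtain ⟨x₂, hx₂, e₂⟩ := h₂
      refine ⟨x₁ + x₂, Submodule.add_mem _ hx₁ hx₂, ?_⟩
      rw [map_add, map_add, e₁, e₂, map_add, map_add]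
  obtain ⟨x', hx'mem, hx'⟩ := h4
  -- step 4
  have h5 : (π m').app U.1 ((kernel.ι q').app U.1 x) =
      (γ.app (op m')).app U.1 ((tt F (Nat.le_add_right m' k)).app U.1 f) := by
    have e1 : (π m').app U.1 ((kernel.ι q').app U.1 x) =
        (tt G (Nat.le_add_right m' k)).app U.1 ((π (m' + k)).app U.1 ((kernel.ι q').app U.1 x)) := by
      change _ = (π (m' + k) ≫ tt G (Nat.le_add_right m' k)).app U.1 ((kernel.ι q').app U.1 x)
      rw [π_tt π hπc]
    rw [e1, ← hf]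
    change (γ.app (op (m' + k)) ≫ tt G (Nat.le_add_right m' k)).app U.1 f =
      (tt F (Nat.le_add_right m' k) ≫ γ.app (op m')).app U.1 f
    rw [tt_naturality]
  have h6 : appL (kernel.ι q') U.1 (x - x') ∈ LinearMap.ker (appL (π m') U.1) := by
    rw [LinearMap.mem_ker, map_sub, map_sub, sub_eq_zero]
    exact h5.trans hx'.symm
  rw [ker_app_of_isQuotBy (I ^ (m' + 1)) _ (hπ _) U, Ideal.map_pow] at h6
  have h7 : appL (kernel.ι q') U.1 (x - x') ∈
      ((I.map (ρU X U.1)) ^ (n + 1 + k) • ⊤ : Submodule Γ(X, U.1) Γ(E, U.1)) :=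
    Submodule.smul_mono_left (Ideal.pow_le_pow_right (by omega)) h6
  have h8 : q'.app U.1 (appL (kernel.ι q') U.1 (x - x')) = 0 := by
    change (kernel.ι q' ≫ q').app U.1 (x - x') = 0
    rw [kernel.condition]
    rfl
  have h9 := hAR.2 (n + 1) _ h8 h7
  have h10 : LinearMap.ker (appL q' U.1) ≤ Submodule.map (appL (kernel.ι q') U.1) ⊤ := by
    intro e he
    obtain ⟨r, hr⟩ := exists_kernel_app_eq q' U.1 e he
    exact ⟨r, Submodule.mem_top, hr⟩
  have h11 := Submodule.smul_mono (le_refl ((I.map (ρU X U.1)) ^ (n + 1))) h10 h9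
  rw [← Submodule.map_smul''] at h11
  obtain ⟨d', hd', hdd⟩ := h11
  have h12 : d' = x - x' :=
    Groth.Agent.Lib.Helper20.StalkExact.injective_app_of_mono (kernel.ι q') U.1 hdd
  rw [Ideal.map_pow]
  have h13 : x = d' + x' := by rw [h12]; abel
  rw [h13]
  rw [Ideal.map_pow] at hx'mem
  exact Submodule.add_mem _ hd' hx'mem

end loc2



section main

variable (I : Ideal A) [IsNoetherian X] {F G : ℕᵒᵖ ⥤ X.Modules} (hF : Formal.IsCohFormal I F)
  [hGq : ∀ n, (G.obj (op n)).IsQuasicoherent]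
  (𝒬 : ℕ → X.Modules) [h𝒬q : ∀ n, (𝒬 n).IsQuasicoherent]
  {E Q : X.Modules} (hE : Coh.IsCoh E) (hQ : Coh.IsCoh Q)
  (π : ∀ n, E ⟶ G.obj (op n)) (hπ : ∀ n, IsQuotBy (I ^ (n + 1)) (π n))
  (hπc : ∀ n, π (n + 1) ≫ G.map (homOfLE (Nat.le_succ n)).op = π n)
  (γ : F ⟶ G) (p : ∀ n, G.obj (op n) ⟶ 𝒬 n) (w : ∀ n, γ.app (op n) ≫ p n = 0)
  (hex : ∀ n, (ShortComplex.mk _ _ (w n)).Exact)
  (q' : E ⟶ Q) (q : ∀ n, Q ⟶ 𝒬 n) (hq : ∀ n, IsQuotBy (I ^ (n + 1)) (q n))
  (hsq : ∀ n, q' ≫ q n = π n ≫ p n)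

theorem pro_zero_mono (n j m : ℕ) (h : kernel.ι (γ.app (op (n + j))) ≫ trF F n j = 0) (hm : n + j ≤ m)
    (hnm : n ≤ m) : kernel.ι (γ.app (op m)) ≫ tt F hnm = 0 := by
  have h1 : (kernel.ι (γ.app (op m)) ≫ tt F hm) ≫ γ.app (op (n + j)) = 0 := by
    rw [Category.assoc, tt_naturality, kernel.condition_assoc, zero_comp]
  have h2 : tt F hnm = tt F hm ≫ trF F n j := (tt_comp F (Nat.le_add_right n j) hm).symm
  rw [h2, ← Category.assoc, ← kernel.lift_ι (γ.app (op (n + j))) _ h1, Category.assoc, h, comp_zero]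

include hF hE hQ hex hsq in
theorem exists_preimage (U : X.affineOpens) (m : ℕ) (x : Γ(kernel q', U.1)) :
    ∃ f : Γ(F.obj (op m), U.1), (γ.app (op m)).app U.1 f = (π m).app U.1 ((kernel.ι q').app U.1 x) := by
  have hF' := (isCohFormal_iff I F).1 hF
  haveI qF : ∀ n, (F.obj (op n)).IsQuasicoherent := fun n => (hF'.1 n).1
  have h1 : (p m).app U.1 ((π m).app U.1 ((kernel.ι q').app U.1 x)) = 0 := by
    change (π m ≫ p m).app U.1 ((kernel.ι q').app U.1 x) = 0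
    rw [← hsq]
    change (q m).app U.1 ((kernel.ι q' ≫ q').app U.1 x) = 0
    rw [kernel.condition]
    exact map_zero _
  exact exists_app_eq_of_exact (γ.app (op m)) (p m) (w _) (hex _) U _ h1

include hF hE hQ hπ hπc hex hq hsq in
/-- **the kernel of an algebraized cokernel algebraizes the source** -/
theorem main (hpro : ∀ n, ∃ j, kernel.ι (γ.app (op (n + j))) ≫ trF F n j = 0) :
    Nonempty (Formal.completion I (kernel q') ≅ F) := by
  classical
  have hF' := (isCohFormal_iff I F).1 hF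
  haveI qF : ∀ n, (F.obj (op n)).IsQuasicoherent := fun n => (hF'.1 n).1
  haveI := hE.1
  haveI := hQ.1
  haveI : (kernel q').IsQuasicoherent := Groth.Agent.Lib.Helper23.QCohLocal.isQuasicoherent_kernel q'
  obtain ⟨t, ht⟩ := isCompact_univ.elim_finite_subcover (fun U : X.affineOpens => (U.1 : Set X))
    (fun U => U.1.2) (by
      intro x _
      obtain ⟨_, ⟨U, hU, rfl⟩, hxU, -⟩ := X.isBasis_affineOpens.exists_subset_of_mem_open
        (Set.mem_univ x) isOpen_univ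
      exact Set.mem_iUnion.2 ⟨⟨U, hU⟩, hxU⟩)
  have hcov : ∀ x : X, ∃ U ∈ (t : Set X.affineOpens), x ∈ U.1 := by
    intro x
    have := ht (Set.mem_univ x)
    simp only [Set.mem_iUnion] at this
    obtain ⟨U, hUt, hxU⟩ := this
    exact ⟨U, hUt, hxU⟩
  have hloc : ∀ U : X.affineOpens, ∃ k₀ : ℕ, ∀ k ≥ k₀, ARU I q' U k := fun U => exists_ARU I hE hQ q' U
  choose k₀ hk₀ using hloc
  set k := t.sup k₀ with hk
  have hAR : ∀ U ∈ t, ARU I q' U k := fun U hU => hk₀ U k (Finset.le_sup (f := k₀) hU)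
  choose j hj using hpro
  let S : ℕ → ℕ := fun n => (Finset.range (n + 1)).sum j
  have hS : ∀ n, j n ≤ S n := fun n =>
    Finset.single_le_sum (f := j) (fun i _ => Nat.zero_le _) (Finset.self_mem_range_succ n)
  have hSm : ∀ n, S n ≤ S (n + 1) := fun n => by
    change (Finset.range (n + 1)).sum j ≤ (Finset.range (n + 1 + 1)).sum j
    rw [Finset.sum_range_succ _ (n + 1)]
    exact Nat.le_add_right _ _
  let m' : ℕ → ℕ := fun n => n + k + S n
  have hnm : ∀ n, n ≤ m' n + k := fun n => by change n ≤ n + k + S n + k; omega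
  have hz : ∀ n, kernel.ι (γ.app (op (m' n + k))) ≫ tt F (hnm n) = 0 := fun n =>
    pro_zero_mono γ n (j n) (m' n + k) (hj n) (by have := hS n; change n + j n ≤ n + k + S n + k; omega) _
  have hex1 : ∀ n, ∃ ρ : kernel q' ⟶ F.obj (op n), ∀ (U : X.Opens) (x : Γ(kernel q', U))
      (f : Γ(F.obj (op (m' n + k)), U)),
      (π (m' n + k)).app U ((kernel.ι q').app U x) = (γ.app (op (m' n + k))).app U f →
        ρ.app U x = (tt F (hnm n)).app U f := fun n =>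
    exists_rho 𝒬 π γ p w hex q' q hsq n (m' n + k) (hnm n) (hz n)
  choose ρ hρ using hex1
  refine nonempty_completion_iso I (kernel q') F ρ (fun n => ?_) (fun n => ?_)
  · refine isQuotBy_of_affine_cover I (n + 1) (ρ n) (fun a ha => ?_) (t : Set X.affineOpens) hcov
      (fun U hU => ?_) (fun U hU x hx => ?_)
    · rw [smulMod_comp, hF'.2.1 n a ha, comp_zero]
    · exact surj_of_char I hF 𝒬 hE hQ π hπ hπc γ p w hex q' q hq hsq U k (hAR U hU) n (m' n + k) (hnm n)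
        (ρ n) (fun x f => hρ n U.1 x f)
    · exact ker_of_char I hF 𝒬 hE hQ π hπ hπc γ p w hex q' q hq hsq U k (hAR U hU) n (m' n)
        (by change n + k ≤ n + k + S n; omega) (hnm n) (ρ n) (fun x f => hρ n U.1 x f) x hx
  · refine hom_ext_of_affine_cover _ _ (t : Set X.affineOpens) hcov fun U hU x => ?_
    have hmm : m' n + k ≤ m' (n + 1) + k := by
      have := hSm n
      change n + k + S n + k ≤ n + 1 + k + S (n + 1) + k
      omega
    obtain ⟨f₁, hf₁⟩ := exists_preimage I hF 𝒬 hE hQ π γ p w hex q' q hsq U (m' (n + 1) + k) x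
    have e1 := hρ (n + 1) U.1 x f₁ hf₁.symm
    have e2 : (π (m' n + k)).app U.1 ((kernel.ι q').app U.1 x) =
        (γ.app (op (m' n + k))).app U.1 ((tt F hmm).app U.1 f₁) := by
      have a1 : (π (m' n + k)).app U.1 ((kernel.ι q').app U.1 x) =
          (tt G hmm).app U.1 ((π (m' (n + 1) + k)).app U.1 ((kernel.ι q').app U.1 x)) := by
        change _ = (π (m' (n + 1) + k) ≫ tt G hmm).app U.1 ((kernel.ι q').app U.1 x)
        rw [π_tt π hπc]
      rw [a1, ← hf₁]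
      change (γ.app (op (m' (n + 1) + k)) ≫ tt G hmm).app U.1 f₁ = (tt F hmm ≫ γ.app (op (m' n + k))).app U.1 f₁
      rw [tt_naturality]
    have e3 := hρ n U.1 x _ e2
    change (F.map (homOfLE (Nat.le_succ n)).op).app U.1 ((ρ (n + 1)).app U.1 x) = (ρ n).app U.1 x
    rw [e1, e3]
    change (tt F (hnm (n + 1)) ≫ tt F (Nat.le_succ n)).app U.1 f₁ = (tt F hmm ≫ tt F (hnm n)).app U.1 f₁
    rw [tt_comp, tt_comp]

end main


end Groth.Agent.Lib.T2H9.GE4
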