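import Mathlib
import Groth.Agent.Lib.T2H9GE4
import Groth.Agent.Lib.Helper23FTsub

/-!
# The tricky lemma for Grothendieck's existence theorem (helper9)

Namespace `Groth.Agent.Lib.T2H9.GE5`.  `killed_cokernel_lift`: the cokernel of `(α, u) : F₀ → H₀ ⊕ P₀` is killed by
`K^(c+e)` if `coker α` is killed by `K^c` and `P₀` by `K^e`.  `tricky`: a coherent formal module `F` on a Noetherian
scheme with a map to the completion of a coherent module whose kernels and cokernels are killed by a power of an ideal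
sheaf `K` is algebraizable, if completion is an equivalence on the modules killed by powers of `K`: with `e` from the
uniform Artin–Rees lemma (`GE2.ar_claim`), `P` algebraizing `(F_n / K^e F_n)` and `Q` algebraizing the cokernels of
`F_n → H_n ⊕ F_n / K^e F_n`, the kernel of `H ⊕ P → Q` algebraizes `F` (`GE4.main`).
-/

set_option autoImplicit false
set_option linter.style.haveILetI false
set_option linter.unusedSectionVars false
set_option linter.unusedVariables false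
universe u
open CategoryTheory CategoryTheory.Limits Opposite AlgebraicGeometry TopologicalSpace

namespace Groth.Agent.Lib.T2H9.GE5

open Groth.Agent.Lib.T2H2.AlgzB Groth.Agent.Lib.T2H9.FFGeom Groth.Agent.Lib.T2H9.Alg
  Groth.Agent.Lib.T2H5.IdealMul Groth.Agent.Lib.T2H9.GE1 Groth.Agent.Lib.T2H9.GE2 Groth.Agent.Lib.T2H9.GE3
  Groth.Agent.S9530 Groth.Agent.Lib.Helper23.QCohLocal

section killed

variable {X : Scheme.{u}}

theorem isCoh_biprod {M N : X.Modules} (hM : Coh.IsCoh M) (hN : Coh.IsCoh N) : Coh.IsCoh (M ⊞ N : X.Modules) := by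
  haveI := hM.1
  haveI := hN.1
  haveI : SheafOfModules.IsFiniteType (R := X.ringCatSheaf) M := hM.2
  haveI : SheafOfModules.IsFiniteType (R := X.ringCatSheaf) N := hN.2
  exact ⟨isQuasicoherent_biprod M N, Groth.Agent.Lib.Helper23.FTsub.isFiniteType_biprod M N⟩

theorem sec_total {M N : X.Modules} (U : X.Opens) (g : Γ((M ⊞ N : X.Modules), U)) :
    g = (biprod.inl : M ⟶ M ⊞ N).app U ((biprod.fst : M ⊞ N ⟶ M).app U g) +
      (biprod.inr : N ⟶ M ⊞ N).app U ((biprod.snd : M ⊞ N ⟶ N).app U g) := by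
  have h1 : (biprod.fst ≫ biprod.inl + biprod.snd ≫ biprod.inr : M ⊞ N ⟶ M ⊞ N) = 𝟙 _ := biprod.total
  have h2 := congrArg (fun φ : (M ⊞ N : X.Modules) ⟶ (M ⊞ N : X.Modules) => φ.app U g) h1
  simp only [Scheme.Modules.Hom.add_app, Scheme.Modules.Hom.comp_app, Scheme.Modules.Hom.id_app] at h2
  exact h2.symm

/-- the cokernel of `(α, u) : F₀ → H₀ ⊕ P₀` is killed by `K^(c+e)` if `coker α` is killed by `K^c` and `P₀` by `K^e` -/
theorem killed_cokernel_lift (K : X.IdealSheafData) (c e : ℕ) {F₀ H₀ P₀ : X.Modules} [F₀.IsQuasicoherent]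
    [H₀.IsQuasicoherent] [P₀.IsQuasicoherent] (α : F₀ ⟶ H₀) (u : F₀ ⟶ P₀)
    (hα : ClSub.KilledByIdeal (K ^ c) (cokernel α)) (hP : ClSub.KilledByIdeal (K ^ e) P₀) :
    ClSub.KilledByIdeal (K ^ (c + e)) (cokernel (biprod.lift α u)) := by
  haveI : (H₀ ⊞ P₀ : X.Modules).IsQuasicoherent := isQuasicoherent_biprod H₀ P₀
  haveI : (cokernel (biprod.lift α u)).IsQuasicoherent := isQuasicoherent_cokernel _
  haveI : (cokernel α).IsQuasicoherent := isQuasicoherent_cokernel _
  rw [killed_iff] at hα hP ⊢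
  intro U r hr s
  rw [Groth.Agent.Lib.T2H5.SubSec.ideal_pow_add] at hr
  obtain ⟨g, rfl⟩ := Groth.Agent.Lib.Helper23.FinType.surjective_app_of_epi
    (cokernel.π (biprod.lift α u)) U.2 s
  rw [← Scheme.Modules.Hom.app_smul]
  refine Submodule.mul_induction_on hr (fun a ha b hb => ?_) (fun r₁ r₂ h₁ h₂ => ?_)
  · set h := (biprod.fst : H₀ ⊞ P₀ ⟶ H₀).app U.1 g with hh
    set r' := (biprod.snd : H₀ ⊞ P₀ ⟶ P₀).app U.1 g with hr'
    have h1 : (cokernel.π α).app U.1 (a • h) = 0 := by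
      rw [Scheme.Modules.Hom.app_smul]
      exact hα U a ha _
    obtain ⟨f, hf⟩ := exists_app_eq_of_exact α (cokernel.π α) (cokernel.condition α)
      (ShortComplex.exact_cokernel α) U _ h1
    have h2 : (a * b) • g = (biprod.lift α u).app U.1 (b • f) := by
      have e1 := sec_total U.1 ((biprod.lift α u).app U.1 (b • f))
      have e2 : (biprod.fst : H₀ ⊞ P₀ ⟶ H₀).app U.1 ((biprod.lift α u).app U.1 (b • f)) = α.app U.1 (b • f) := by
        change (biprod.lift α u ≫ biprod.fst).app U.1 (b • f) = _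
        rw [biprod.lift_fst]
      have e3 : (biprod.snd : H₀ ⊞ P₀ ⟶ P₀).app U.1 ((biprod.lift α u).app U.1 (b • f)) = 0 := by
        change (biprod.lift α u ≫ biprod.snd).app U.1 (b • f) = _
        rw [biprod.lift_snd, Scheme.Modules.Hom.app_smul]
        exact hP U b hb _
      rw [e1, e2, e3, map_zero, add_zero, Scheme.Modules.Hom.app_smul, hf]
      have e4 := sec_total U.1 g
      have e5 : (b * a) • g = (biprod.inl : H₀ ⟶ H₀ ⊞ P₀).app U.1 (b • a • h) +
          (biprod.inr : P₀ ⟶ H₀ ⊞ P₀).app U.1 (b • a • r') := by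
        rw [Scheme.Modules.Hom.app_smul, Scheme.Modules.Hom.app_smul, Scheme.Modules.Hom.app_smul,
          Scheme.Modules.Hom.app_smul, ← smul_add, ← smul_add, ← e4, mul_smul]
      rw [mul_comm, e5, hP U b hb (a • r'), map_zero, add_zero]
    rw [h2]
    change (biprod.lift α u ≫ cokernel.π (biprod.lift α u)).app U.1 (b • f) = 0
    rw [cokernel.condition]
    rfl
  · rw [add_smul, map_add, h₁, h₂, add_zero]

end killed


section bip

variable {C : Type*} [Category C] [Preadditive C] [HasBinaryBiproducts C]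

theorem bm_comp {W X Y Z W' X' : C} (f : W ⟶ Y) (g : X ⟶ Z) (f' : Y ⟶ W') (g' : Z ⟶ X') :
    biprod.map f g ≫ biprod.map f' g' = biprod.map (f ≫ f') (g ≫ g') := by
  apply biprod.hom_ext <;> simp

theorem lift_bm {T W X Y Z : C} (a : T ⟶ W) (b : T ⟶ X) (f : W ⟶ Y) (g : X ⟶ Z) :
    biprod.lift a b ≫ biprod.map f g = biprod.lift (a ≫ f) (b ≫ g) := by
  apply biprod.hom_ext <;> simp

theorem comp_lift {S T W X : C} (t : S ⟶ T) (a : T ⟶ W) (b : T ⟶ X) :
    t ≫ biprod.lift a b = biprod.lift (t ≫ a) (t ≫ b) := by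
  apply biprod.hom_ext <;> simp

end bip

section assemble

variable {A : Type u} [CommRing A] {X : Scheme.{u}} [X.Over (Spec (CommRingCat.of A))]

/-- quotients of modules killed by an ideal are killed -/
theorem killedBy_of_epi {𝔟 : Ideal A} {M N : X.Modules} (t : M ⟶ N) [Epi t] (h : Formal.KilledBy 𝔟 M) :
    Formal.KilledBy 𝔟 N := by
  intro a ha
  rw [← cancel_epi t, comp_zero, ← smulMod_comp, h a ha, zero_comp]

variable (I : Ideal A) (K : X.IdealSheafData) [IsNoetherian X]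

theorem tricky (F : ℕᵒᵖ ⥤ X.Modules) (hF : Formal.IsCohFormal I F)
    (h₁ : ∀ e : ℕ,
      (∀ (M N : X.Modules), Coh.IsCoh M → Coh.IsCoh N → ClSub.KilledByIdeal (K ^ e) M →
        ClSub.KilledByIdeal (K ^ e) N → ∀ ψ : Formal.completion I M ⟶ Formal.completion I N,
          ∃! φ : M ⟶ N, ∀ n : ℕ, Formal.modPowπ I (n + 1) M ≫ ψ.app (op n) = φ ≫ Formal.modPowπ I (n + 1) N) ∧
      (∀ G : ℕᵒᵖ ⥤ X.Modules, Formal.IsCohFormal I G → (∀ n : ℕ, ClSub.KilledByIdeal (K ^ e) (G.obj (op n))) →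
        ∃ M : X.Modules, Coh.IsCoh M ∧ ClSub.KilledByIdeal (K ^ e) M ∧ Nonempty (Formal.completion I M ≅ G)))
    (h₂ : ∃ (H : X.Modules) (α : F ⟶ Formal.completion I H), Coh.IsCoh H ∧ Formal2.KerCokerKilledByPow K α) :
    ∃ M : X.Modules, Coh.IsCoh M ∧ Nonempty (Formal.completion I M ≅ F) := by
  obtain ⟨H, α, hH, t, ht⟩ := h₂
  have hF' := (isCohFormal_iff I F).1 hF
  haveI qF : ∀ n, (F.obj (op n)).IsQuasicoherent := fun n => (hF'.1 n).1
  have hHc := isCohFormal_completion I H hH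
  have hHc' := (isCohFormal_iff I _).1 hHc
  haveI qH : ∀ n, ((Formal.completion I H).obj (op n)).IsQuasicoherent := fun n => (hHc'.1 n).1
  -- step 1
  obtain ⟨e, he⟩ := ar_claim I K hF hHc α (t + 1) (fun n => (ht n).1)
  -- step 2
  have h𝒫 := isCohFormal_Φ I (K ^ e) hF
  have h𝒫' := (isCohFormal_iff I _).1 h𝒫
  haveI q𝒫 : ∀ n, ((F ⋙ Φ (K ^ e)).obj (op n)).IsQuasicoherent := fun n => (h𝒫'.1 n).1
  have k𝒫 : ∀ n, ClSub.KilledByIdeal (K ^ e) ((F ⋙ Φ (K ^ e)).obj (op n)) := fun n => killed_pushPull _ _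
  obtain ⟨P, hP, hPk, ⟨θ⟩⟩ := (h₁ e).2 _ h𝒫 k𝒫
  -- step 3, 4
  have hE : Coh.IsCoh (H ⊞ P : X.Modules) := isCoh_biprod hH hP
  let G : ℕᵒᵖ ⥤ X.Modules := Functor.ofOpSequence
    (X := fun n => ((Formal.completion I H).obj (op n) ⊞ (F ⋙ Φ (K ^ e)).obj (op n) : X.Modules))
    (fun n => biprod.map ((Formal.completion I H).map (homOfLE (Nat.le_succ n)).op)
      ((F ⋙ Φ (K ^ e)).map (homOfLE (Nat.le_succ n)).op))
  have hGmap : ∀ n, G.map (homOfLE (Nat.le_succ n)).op =
      biprod.map ((Formal.completion I H).map (homOfLE (Nat.le_succ n)).op)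
        ((F ⋙ Φ (K ^ e)).map (homOfLE (Nat.le_succ n)).op) := fun n =>
    Functor.ofOpSequence_map_homOfLE_succ _ n
  haveI qG : ∀ n, (G.obj (op n)).IsQuasicoherent := fun n => isQuasicoherent_biprod _ _
  have cG : ∀ n, Coh.IsCoh (G.obj (op n)) := fun n => isCoh_biprod (hHc'.1 n) (h𝒫'.1 n)
  let π : ∀ n, (H ⊞ P : X.Modules) ⟶ G.obj (op n) := fun n =>
    biprod.map (Formal.modPowπ I (n + 1) H) (Formal.modPowπ I (n + 1) P ≫ θ.hom.app (op n))
  have hπ : ∀ n, IsQuotBy (I ^ (n + 1)) (π n) := fun n =>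
    isQuotBy_biprodMap (isQuotBy_modPowπ I (n + 1) H)
      ((isQuotBy_modPowπ I (n + 1) P).comp_iso (θ.app (op n)))
  have hπc : ∀ n, π (n + 1) ≫ G.map (homOfLE (Nat.le_succ n)).op = π n := by
    intro n
    have a1 : Formal.modPowπ I (n + 1 + 1) H ≫ (Formal.completion I H).map (homOfLE (Nat.le_succ n)).op =
        Formal.modPowπ I (n + 1) H :=
      (congrArg (fun t => Formal.modPowπ I (n + 1 + 1) H ≫ t) (completion_map_succ I H n)).trans
        (Formal.modPowπ_trans I (n + 1) H)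
    have a2 : (Formal.modPowπ I (n + 1 + 1) P ≫ θ.hom.app (op (n + 1))) ≫
        (F ⋙ Φ (K ^ e)).map (homOfLE (Nat.le_succ n)).op = Formal.modPowπ I (n + 1) P ≫ θ.hom.app (op n) := by
      have a3 : Formal.modPowπ I (n + 1 + 1) P ≫ (Formal.completion I P).map (homOfLE (Nat.le_succ n)).op =
          Formal.modPowπ I (n + 1) P :=
        (congrArg (fun t => Formal.modPowπ I (n + 1 + 1) P ≫ t) (completion_map_succ I P n)).trans
          (Formal.modPowπ_trans I (n + 1) P)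
      have a4 := θ.hom.naturality (homOfLE (Nat.le_succ n)).op
      calc (Formal.modPowπ I (n + 1 + 1) P ≫ θ.hom.app (op (n + 1))) ≫
            (F ⋙ Φ (K ^ e)).map (homOfLE (Nat.le_succ n)).op
          = Formal.modPowπ I (n + 1 + 1) P ≫ (θ.hom.app (op (n + 1)) ≫
            (F ⋙ Φ (K ^ e)).map (homOfLE (Nat.le_succ n)).op) := Category.assoc _ _ _
        _ = Formal.modPowπ I (n + 1 + 1) P ≫ ((Formal.completion I P).map (homOfLE (Nat.le_succ n)).op ≫
            θ.hom.app (op n)) := congrArg (fun t => Formal.modPowπ I (n + 1 + 1) P ≫ t) a4.symm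
        _ = (Formal.modPowπ I (n + 1 + 1) P ≫ (Formal.completion I P).map (homOfLE (Nat.le_succ n)).op) ≫
            θ.hom.app (op n) := (Category.assoc _ _ _).symm
        _ = _ := congrArg (fun t => t ≫ θ.hom.app (op n)) a3
    refine (congrArg (fun t => π (n + 1) ≫ t) (hGmap n)).trans ?_
    refine (bm_comp _ _ _ _).trans ?_
    exact congrArg₂ biprod.map a1 a2
  -- step 5
  let γ : F ⟶ G := NatTrans.ofOpSequence
    (fun n => biprod.lift (α.app (op n)) (unit (K ^ e) (F.obj (op n)))) (by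
      intro n
      have hG1 := hGmap n
      refine Eq.trans ?_ (congrArg (fun t => biprod.lift (α.app (op (n + 1)))
        (unit (K ^ e) (F.obj (op (n + 1)))) ≫ t) hG1.symm)
      refine (comp_lift _ _ _).trans ((congrArg₂ biprod.lift ?_ ?_).trans (lift_bm _ _ _ _).symm)
      · exact α.naturality _
      · exact unit_naturality (K ^ e) _)
  have hγfst : ∀ n, γ.app (op n) ≫ biprod.fst = α.app (op n) := fun n => biprod.lift_fst _ _
  have hγsnd : ∀ n, γ.app (op n) ≫ biprod.snd = unit (K ^ e) (F.obj (op n)) := fun n => biprod.lift_snd _ _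
  -- step 6
  have hpro : ∀ n, ∃ j, kernel.ι (γ.app (op (n + j))) ≫ trF F n j = 0 := by
    intro n
    obtain ⟨j, hj⟩ := he n
    haveI : (kernel (γ.app (op (n + j)))).IsQuasicoherent := isQuasicoherent_kernel _
    refine ⟨j, hj _ (kernel.ι (γ.app (op (n + j)))) ?_ ?_⟩
    · rw [← hγfst, kernel.condition_assoc, zero_comp]
    · rw [← hγsnd, kernel.condition_assoc, zero_comp]
  -- step 7, 8
  let 𝒬 : ℕ → X.Modules := fun n => cokernel (γ.app (op n))
  haveI q𝒬 : ∀ n, (𝒬 n).IsQuasicoherent := fun n => isQuasicoherent_cokernel _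
  let 𝒬' : ℕᵒᵖ ⥤ X.Modules := Functor.ofOpSequence (X := 𝒬)
    (fun n => cokernel.map (γ.app (op (n + 1))) (γ.app (op n)) (F.map (homOfLE (Nat.le_succ n)).op)
      (G.map (homOfLE (Nat.le_succ n)).op) (γ.naturality _).symm)
  have h𝒬map : ∀ n, 𝒬'.map (homOfLE (Nat.le_succ n)).op =
      cokernel.map (γ.app (op (n + 1))) (γ.app (op n)) (F.map (homOfLE (Nat.le_succ n)).op)
      (G.map (homOfLE (Nat.le_succ n)).op) (γ.naturality _).symm := fun n =>
    Functor.ofOpSequence_map_homOfLE_succ _ n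
  have hGq : ∀ n, IsQuotBy (I ^ (n + 1)) (G.map (homOfLE (Nat.le_succ n)).op) := fun n => by
    rw [hGmap]
    exact isQuotBy_biprodMap (hHc'.2.2 n) (h𝒫'.2.2 n)
  have h𝒬' : Formal.IsCohFormal I 𝒬' := by
    rw [isCohFormal_iff]
    haveI eπ : ∀ n, Epi (cokernel.π (γ.app (op n))) := fun n => coequalizer.π_epi
    refine ⟨fun n => ?_, fun n => ?_, fun n => ?_⟩
    · exact @Groth.Agent.Lib.T2H5.Devissage.isCoh_of_epi _ _ _ (cokernel.π (γ.app (op n))) (eπ n) (cG n) (q𝒬 n)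
    · exact @killedBy_of_epi _ _ _ _ _ _ _ (cokernel.π (γ.app (op n))) (eπ n) (hπ n).killedBy
    · rw [h𝒬map]
      haveI := (hF'.2.2 n).epi
      exact isQuotBy_cokernelMap _ _ _ _ (hGq n) _
  have k𝒬' : ∀ n, ClSub.KilledByIdeal (K ^ (t + 1 + e)) (𝒬'.obj (op n)) := by
    intro n
    have hc : ClSub.KilledByIdeal (K ^ (t + 1)) (cokernel (α.app (op n))) := (ht n).2
    exact killed_cokernel_lift K (t + 1) e (α.app (op n)) (unit (K ^ e) (F.obj (op n))) hc (k𝒫 n)
  -- step 9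
  obtain ⟨Q, hQ, hQk, ⟨κ⟩⟩ := (h₁ (t + 1 + e)).2 𝒬' h𝒬' k𝒬'
  -- step 10
  let g : ∀ n, (H ⊞ P : X.Modules) ⟶ 𝒬'.obj (op n) := fun n => π n ≫ cokernel.π (γ.app (op n))
  have hg : ∀ n, g (n + 1) ≫ 𝒬'.map (homOfLE (Nat.le_succ n)).op = g n := by
    intro n
    rw [h𝒬map]
    change (π (n + 1) ≫ cokernel.π _) ≫ cokernel.map _ _ _ _ _ = π n ≫ cokernel.π _
    rw [Category.assoc, cokernel.π_desc, ← Category.assoc, hπc]
  obtain ⟨q', hq'⟩ := exists_algebraize_map I (K ^ (t + 1 + e))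
    (fun M N hM hN kM kN ψ => ((h₁ (t + 1 + e)).1 M N hM hN kM kN ψ).exists) hE hQ hQk 𝒬' κ g hg
  -- step 11, 12
  have key := Groth.Agent.Lib.T2H9.GE4.main I hF 𝒬 hE hQ π hπ hπc γ (fun n => cokernel.π (γ.app (op n)))
    (fun n => cokernel.condition _) (fun n => ShortComplex.exact_cokernel _) q'
    (fun n => Formal.modPowπ I (n + 1) Q ≫ κ.hom.app (op n))
    (fun n => (isQuotBy_modPowπ I (n + 1) Q).comp_iso (κ.app (op n))) hq' hpro
  haveI := hE.1
  haveI := hQ.1
  exact ⟨kernel q', Groth.Agent.Lib.T2H5.Devissage.isCoh_of_mono (kernel.ι q') hE (isQuasicoherent_kernel q'), key⟩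

end assemble

end Groth.Agent.Lib.T2H9.GE5
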