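import Mathlib
import Groth.Agent.Lib.T2H9GE5
import Groth.Agent.Lib.T2H5ArtinRees
import Groth.Agent.Lib.Helper23QCohSum

/-!
# Completion is fully faithful if one module is killed by a power of the ideal (helper9)

Namespace `Groth.Agent.Lib.T2H9.GE6`.  `exists_gens`: finitely many elements of an ideal `J ⊆ A` generating `J Γ(X, U)` for
finitely many affine opens `U`.  `colon_ar`, `tors_inter`: Artin–Rees for colons and torsion.  `tors a G`: the subsheaf of
sections of `G` killed by finitely many elements `a i` of `A`.  `ff_target_aux`, `ff_source_aux`: a compatible family of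
maps `F → G / I^(n+1) G` lifts uniquely to `F → G` when `G` or the coherent module `F` is killed by a power of `I`
(`G` coherent, `X` Noetherian in the second case).  `s0833`.
-/

set_option autoImplicit false
set_option linter.style.haveILetI false
set_option linter.unusedSectionVars false
set_option linter.unusedVariables false
universe u
open CategoryTheory CategoryTheory.Limits Opposite AlgebraicGeometry TopologicalSpace

namespace Groth.Agent.Lib.T2H9.GE6

open Groth.Agent.Lib.T2H2.AlgzB Groth.Agent.Lib.T2H9.FFGeom Groth.Agent.Lib.T2H9.Alg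
  Groth.Agent.Lib.T2H5.IdealMul Groth.Agent.Lib.T2H9.GE1 Groth.Agent.Lib.T2H9.GE2 Groth.Agent.Lib.T2H9.GE3
  Groth.Agent.S9530 Groth.Agent.Lib.Helper23.QCohLocal

section gens

variable {A : Type u} [CommRing A]

/-- finitely many elements of an ideal generating its extension to a Noetherian ring -/
theorem exists_finset_gens {R : Type u} [CommRing R] [IsNoetherianRing R] (φ : A →+* R) (J : Ideal A) :
    ∃ S : Finset A, (↑S : Set A) ⊆ J ∧ Ideal.span (φ '' (↑S : Set A)) = J.map φ := by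
  classical
  have h1 : (Ideal.span (φ '' (J : Set A))).FG := IsNoetherian.noetherian _
  obtain ⟨s', hs', hss'⟩ := (Submodule.fg_span_iff_fg_span_finset_subset (R := R) (φ '' (J : Set A))).1 h1
  have h2 : ∀ y ∈ s', ∃ b : A, b ∈ J ∧ φ b = y := fun y hy => hs' hy
  choose! g hg using h2
  refine ⟨s'.image g, ?_, ?_⟩
  · intro b hb
    rw [Finset.coe_image] at hb
    obtain ⟨y, hy, rfl⟩ := hb
    exact (hg y hy).1
  · apply le_antisymm
    · rw [Ideal.span_le]
      rintro _ ⟨b, hb, rfl⟩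
      rw [Finset.coe_image] at hb
      obtain ⟨y, hy, rfl⟩ := hb
      exact Ideal.mem_map_of_mem φ (hg y hy).1
    · have h3 : J.map φ = Ideal.span (φ '' (J : Set A)) := rfl
      rw [h3]
      change Submodule.span R _ ≤ _
      rw [hss', Submodule.span_le]
      intro y hy
      refine Ideal.subset_span ⟨g y, ?_, (hg y hy).2⟩
      rw [Finset.coe_image]
      exact ⟨y, hy, rfl⟩

variable {X : Scheme.{u}} [X.Over (Spec (CommRingCat.of A))]

/-- finitely many elements of an ideal generating its extensions over finitely many affine opens -/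
theorem exists_gens [IsNoetherian X] (J : Ideal A) (t : Finset X.affineOpens) :
    ∃ (r : ℕ) (a : Fin r → A), (∀ i, a i ∈ J) ∧
      ∀ U ∈ t, Ideal.span (Set.range fun i => ρU X U.1 (a i)) = J.map (ρU X U.1) := by
  classical
  have h1 : ∀ U : X.affineOpens, ∃ S : Finset A, (↑S : Set A) ⊆ J ∧
      Ideal.span ((ρU X U.1) '' (↑S : Set A)) = J.map (ρU X U.1) := fun U => by
    haveI : IsNoetherianRing Γ(X, U.1) := IsLocallyNoetherian.component_noetherian U
    exact exists_finset_gens (ρU X U.1) J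
  choose S hS1 hS2 using h1
  let T : Finset A := t.biUnion S
  have hT : (↑T : Set A) ⊆ J := by
    intro b hb
    rw [Finset.mem_coe, Finset.mem_biUnion] at hb
    obtain ⟨U, _, hbU⟩ := hb
    exact hS1 U hbU
  refine ⟨T.card, fun i => (T.equivFin.symm i).1, fun i => hT (T.equivFin.symm i).2, fun U hU => ?_⟩
  have hr : (Set.range fun i => ρU X U.1 ((T.equivFin.symm i).1)) = (ρU X U.1) '' (↑T : Set A) := by
    ext y
    constructor
    · rintro ⟨i, rfl⟩
      exact ⟨_, (T.equivFin.symm i).2, rfl⟩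
    · rintro ⟨b, hb, rfl⟩
      exact ⟨T.equivFin ⟨b, hb⟩, by simp⟩
  rw [hr]
  apply le_antisymm
  · rw [Ideal.span_le]
    rintro _ ⟨b, hb, rfl⟩
    exact Ideal.mem_map_of_mem _ (hT hb)
  · rw [← hS2 U]
    apply Ideal.span_mono
    apply Set.image_mono
    intro b hb
    rw [Finset.mem_coe, Finset.mem_biUnion]
    exact ⟨U, hU, hb⟩

end gens


section alg

variable {R : Type u} [CommRing R] [IsNoetherianRing R] (𝔞 : Ideal R)
  {N : Type u} [AddCommGroup N] [Module R N] [Module.Finite R N] {r : ℕ} (b : Fin r → R)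

/-- multiplication by the `b i` -/
noncomputable def mulMap : N →ₗ[R] (Fin r → N) := LinearMap.pi fun i => b i • LinearMap.id

theorem mulMap_apply (y : N) (i : Fin r) : mulMap b y i = b i • y := rfl

theorem mem_smul_top_pi (m : ℕ) (v : Fin r → N) (hv : ∀ i, v i ∈ (𝔞 ^ m • ⊤ : Submodule R N)) :
    v ∈ (𝔞 ^ m • ⊤ : Submodule R (Fin r → N)) := by
  have h1 : v = ∑ i, LinearMap.single R (fun _ : Fin r => N) i (v i) := by
    ext j
    simp [Finset.sum_apply, Pi.single_apply]
  rw [h1]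
  refine Submodule.sum_mem _ fun i _ => ?_
  have h2 : LinearMap.single R (fun _ : Fin r => N) i (v i) ∈
      Submodule.map (LinearMap.single R (fun _ : Fin r => N) i) (𝔞 ^ m • ⊤ : Submodule R N) := ⟨_, hv i, rfl⟩
  rw [Submodule.map_smul''] at h2
  exact Submodule.smul_mono le_rfl le_top h2

/-- Artin–Rees for a colon: elements multiplied into `𝔞^(n+k) N` by all `b i` are, modulo `𝔞^n N`, killed by the `b i` -/
theorem colon_ar : ∃ k : ℕ, ∀ (n : ℕ) (y : N), (∀ i, b i • y ∈ (𝔞 ^ (n + k) • ⊤ : Submodule R N)) →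
    ∃ t : N, (∀ i, b i • t = 0) ∧ y - t ∈ (𝔞 ^ n • ⊤ : Submodule R N) := by
  obtain ⟨k, hk⟩ := Ideal.exists_pow_inf_eq_pow_smul 𝔞 (LinearMap.range (mulMap (N := N) b))
  refine ⟨k, fun n y hy => ?_⟩
  have h1 : mulMap b y ∈ (𝔞 ^ (n + k) • ⊤ ⊓ LinearMap.range (mulMap (N := N) b) :
      Submodule R (Fin r → N)) := ⟨mem_smul_top_pi 𝔞 _ _ hy, ⟨y, rfl⟩⟩
  rw [hk (n + k) (by omega)] at h1
  have h2 : (𝔞 ^ (n + k - k) • (𝔞 ^ k • ⊤ ⊓ LinearMap.range (mulMap (N := N) b)) : Submodule R (Fin r → N)) ≤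
      𝔞 ^ n • LinearMap.range (mulMap (N := N) b) :=
    Submodule.smul_mono (Ideal.pow_le_pow_right (by omega)) inf_le_right
  have h3 := h2 h1
  rw [LinearMap.range_eq_map, ← Submodule.map_smul''] at h3
  obtain ⟨y', hy', hyy'⟩ := h3
  refine ⟨y - y', fun i => ?_, ?_⟩
  · have := congrFun hyy' i
    rw [mulMap_apply, mulMap_apply] at this
    rw [smul_sub, this, sub_self]
  · rw [sub_sub_cancel]
    exact hy'

/-- elements killed by the `b i` and deep in the `𝔞`-adic filtration vanish, if `𝔞^c ⊆ (b i)` -/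
theorem tors_inter (c : ℕ) (hc : 𝔞 ^ c ≤ Ideal.span (Set.range b)) :
    ∃ n₁ : ℕ, ∀ n ≥ n₁, ∀ t : N, (∀ i, b i • t = 0) → t ∈ (𝔞 ^ n • ⊤ : Submodule R N) → t = 0 := by
  have h0 : 𝔞 ^ c • LinearMap.ker (mulMap (N := N) b) = ⊥ := by
    rw [eq_bot_iff, Submodule.smul_le]
    intro x hx t ht
    rw [Submodule.mem_bot]
    have hx' := hc hx
    have key : ∀ x ∈ Ideal.span (Set.range b), x • t = 0 := by
      intro x hx
      refine Submodule.span_induction (p := fun x _ => x • t = 0) ?_ ?_ ?_ ?_ hx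
      · rintro _ ⟨i, rfl⟩
        have := congrFun (LinearMap.mem_ker.1 ht) i
        exact this
      · exact zero_smul _ t
      · intro x₁ x₂ _ _ h₁ h₂
        rw [add_smul, h₁, h₂, add_zero]
      · intro s x₁ _ h₁
        rw [smul_eq_mul, mul_smul, h₁, smul_zero]
    exact key x hx'
  obtain ⟨n₁, hn₁⟩ := Groth.Agent.Lib.T2H5.ArtinRees.exists_pow_smul_top_inf_eq_bot 𝔞
    (LinearMap.ker (mulMap (N := N) b)) c h0
  refine ⟨n₁, fun n hn t ht htn => ?_⟩
  have h1 : t ∈ (𝔞 ^ n • ⊤ ⊓ LinearMap.ker (mulMap (N := N) b) : Submodule R N) :=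
    ⟨htn, LinearMap.mem_ker.2 (funext fun i => ht i)⟩
  rw [hn₁ n hn] at h1
  exact h1

end alg


section tors

variable {A : Type u} [CommRing A] {X : Scheme.{u}} [X.Over (Spec (CommRingCat.of A))]

/-- evaluation of morphisms at a section, as an additive map -/
noncomputable def evalHom {M N : X.Modules} (U : X.Opens) (z : Γ(M, U)) : (M ⟶ N) →+ Γ(N, U) where
  toFun φ := φ.app U z
  map_zero' := rfl
  map_add' φ ψ := by rw [Scheme.Modules.Hom.add_app]; rfl

variable {r : ℕ} (a : Fin r → A) (G : X.Modules)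

/-- multiplication by the `a i`, `G ⟶ ⨁ G` -/
noncomputable def mulHom : G ⟶ ⨁ fun _ : Fin r => G := biproduct.lift fun i => Formal.smulMod A G (a i)

/-- the subsheaf of sections killed by the `a i` -/
noncomputable abbrev tors : X.Modules := kernel (mulHom a G)

noncomputable abbrev torsι : tors a G ⟶ G := kernel.ι (mulHom a G)

theorem isQuasicoherent_tors [G.IsQuasicoherent] : (tors a G).IsQuasicoherent := by
  haveI : (⨁ fun _ : Fin r => G).IsQuasicoherent :=
    Groth.Agent.Lib.Helper23.QCohLocal.isQuasicoherent_biproduct _ (fun _ => inferInstance)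
  exact isQuasicoherent_kernel _

theorem torsι_smulMod (i : Fin r) : torsι a G ≫ Formal.smulMod A G (a i) = 0 := by
  have h1 : mulHom a G ≫ biproduct.π _ i = Formal.smulMod A G (a i) := biproduct.lift_π _ _
  rw [← h1, kernel.condition_assoc, zero_comp]

theorem mulHom_app_eq_zero (U : X.Opens) (y : Γ(G, U)) (hy : ∀ i, (ρU X U (a i) : Γ(X, U)) • y = 0) :
    (mulHom a G).app U y = 0 := by
  set z := (mulHom a G).app U y with hz
  have h1 : (∑ j, biproduct.π (fun _ : Fin r => G) j ≫ biproduct.ι (fun _ : Fin r => G) j) = 𝟙 _ :=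
    biproduct.total
  have h2 := congrArg (fun φ => evalHom (N := ⨁ fun _ : Fin r => G) U z φ) h1
  simp only [map_sum] at h2
  have h3 : ∀ j, evalHom (N := ⨁ fun _ : Fin r => G) U z
      (biproduct.π (fun _ : Fin r => G) j ≫ biproduct.ι (fun _ : Fin r => G) j) = 0 := by
    intro j
    change (biproduct.ι (fun _ : Fin r => G) j).app U ((mulHom a G ≫ biproduct.π _ j).app U y) = 0
    have h4 : mulHom a G ≫ biproduct.π _ j = Formal.smulMod A G (a j) := biproduct.lift_π _ _
    rw [h4, smulMod_app, hy j, map_zero]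
  rw [Finset.sum_eq_zero (fun j _ => h3 j)] at h2
  exact h2.symm

/-- sections of the torsion subsheaf -/
theorem exists_torsι_app_eq (U : X.Opens) (y : Γ(G, U)) (hy : ∀ i, (ρU X U (a i) : Γ(X, U)) • y = 0) :
    ∃ s : Γ(tors a G, U), (torsι a G).app U s = y :=
  exists_kernel_app_eq (mulHom a G) U y (mulHom_app_eq_zero a G U y hy)

theorem torsι_app_smul (U : X.Opens) (s : Γ(tors a G, U)) (i : Fin r) :
    (ρU X U (a i) : Γ(X, U)) • (torsι a G).app U s = 0 := by
  rw [← smulMod_app]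
  change (torsι a G ≫ Formal.smulMod A G (a i)).app U s = 0
  rw [torsι_smulMod]
  rfl

/-- a map from a module killed by the `a i` factors through the torsion subsheaf -/
theorem exists_lift_tors {F : X.Modules} (φ : F ⟶ G) (hF : ∀ i, Formal.smulMod A F (a i) = 0) :
    ∃ l : F ⟶ tors a G, l ≫ torsι a G = φ := by
  have h : φ ≫ mulHom a G = 0 := by
    apply biproduct.hom_ext
    intro i
    rw [Category.assoc, zero_comp]
    have h1 : mulHom a G ≫ biproduct.π _ i = Formal.smulMod A G (a i) := biproduct.lift_π _ _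
    rw [h1, ← smulMod_comp, hF i, zero_comp]
  exact ⟨kernel.lift _ φ h, kernel.lift_ι _ _ _⟩

end tors


section ff

variable {A : Type u} [CommRing A] {X : Scheme.{u}} [X.Over (Spec (CommRingCat.of A))] (I : Ideal A)

theorem π_tt' {G : ℕᵒᵖ ⥤ X.Modules} {E : X.Modules} (π : ∀ n, E ⟶ G.obj (op n))
    (hπc : ∀ n, π (n + 1) ≫ G.map (homOfLE (Nat.le_succ n)).op = π n) {a b : ℕ} (h : a ≤ b) :
    π b ≫ tt G h = π a := by
  obtain ⟨j, rfl⟩ := Nat.exists_eq_add_of_le h
  induction j with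
  | zero =>
    have : tt G h = 𝟙 _ := tt_refl G a
    rw [this, Category.comp_id]
    rfl
  | succ j ih =>
    have h1 : a ≤ a + j := Nat.le_add_right a j
    have h2 : a + j ≤ a + (j + 1) := Nat.le_succ _
    rw [← tt_comp G h1 h2, ← Category.assoc]
    have : π (a + (j + 1)) ≫ tt G h2 = π (a + j) := hπc (a + j)
    rw [this]
    exact ih h1

theorem modPowπ_succ (M : X.Modules) (n : ℕ) :
    Formal.modPowπ I (n + 1 + 1) M ≫ (Formal.completion I M).map (homOfLE (Nat.le_succ n)).op =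
      Formal.modPowπ I (n + 1) M :=
  (congrArg (fun t => Formal.modPowπ I (n + 1 + 1) M ≫ t) (completion_map_succ I M n)).trans
    (Formal.modPowπ_trans I (n + 1) M)

theorem isIso_modPowπ_of_killed (M : X.Modules) (c n : ℕ) (hc : c ≤ n) (hM : Formal.KilledBy (I ^ c) M) :
    IsIso (Formal.modPowπ I n M) := by
  have h1 : IsQuotBy (I ^ n) (𝟙 M) :=
    Groth.Agent.Lib.T2H9.Thick.isQuotBy_id _ _ (fun a ha => hM a (Ideal.pow_le_pow_right hc ha))
  obtain ⟨e, he⟩ := h1.exists_iso (isQuotBy_modPowπ I n M)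
  rw [Category.id_comp] at he
  rw [← he]
  infer_instance

/-- abstract form of full faithfulness with eventually constant target -/
theorem ff_target_aux {F G : X.Modules} (FC GC : ℕᵒᵖ ⥤ X.Modules) (πF : ∀ n, F ⟶ FC.obj (op n))
    (πG : ∀ n, G ⟶ GC.obj (op n))
    (hπF : ∀ n, πF (n + 1) ≫ FC.map (homOfLE (Nat.le_succ n)).op = πF n)
    (hπG : ∀ n, πG (n + 1) ≫ GC.map (homOfLE (Nat.le_succ n)).op = πG n)
    (c : ℕ) (iso : ∀ n, c ≤ n → IsIso (πG n)) (ψ : FC ⟶ GC) :
    ∃! φ : F ⟶ G, ∀ n : ℕ, πF n ≫ ψ.app (op n) = φ ≫ πG n := by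
  haveI := iso c le_rfl
  have key : ∀ φ : F ⟶ G, πF c ≫ ψ.app (op c) = φ ≫ πG c →
      ∀ n : ℕ, πF n ≫ ψ.app (op n) = φ ≫ πG n := by
    intro φ hφ n
    have hcm : c ≤ max n c := le_max_right _ _
    have hnm : n ≤ max n c := le_max_left _ _
    haveI := iso (max n c) hcm
    have e1 : πF (max n c) ≫ ψ.app (op (max n c)) = φ ≫ πG (max n c) := by
      haveI : IsIso (tt GC hcm) := by
        have h2 := π_tt' πG hπG hcm
        have h3 : tt GC hcm = inv (πG (max n c)) ≫ πG c := by
          rw [← h2, IsIso.inv_hom_id_assoc]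
        rw [h3]
        infer_instance
      rw [← cancel_mono (tt GC hcm), Category.assoc, Category.assoc,
        π_tt' πG hπG hcm, ← hφ, ← tt_naturality ψ hcm, ← Category.assoc, π_tt' πF hπF hcm]
    calc πF n ≫ ψ.app (op n)
        = (πF (max n c) ≫ tt FC hnm) ≫ ψ.app (op n) := by rw [π_tt' πF hπF hnm]
      _ = (πF (max n c) ≫ ψ.app (op (max n c))) ≫ tt GC hnm := by
          rw [Category.assoc, Category.assoc, tt_naturality ψ hnm]
      _ = φ ≫ πG n := by rw [e1, Category.assoc, π_tt' πG hπG hnm]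
  refine ⟨πF c ≫ ψ.app (op c) ≫ inv (πG c), ?_, ?_⟩
  · exact key _ (by simp only [Category.assoc, IsIso.inv_hom_id, Category.comp_id])
  · intro φ' hφ'
    rw [← Category.assoc, hφ' c, Category.assoc, IsIso.hom_inv_id, Category.comp_id]

/-- full faithfulness of the completion: target killed by a power of `I` -/
theorem ff_of_killed_target (F G : X.Modules) (c : ℕ) (hG : Formal.KilledBy (I ^ c) G)
    (ψ : Formal.completion I F ⟶ Formal.completion I G) :
    ∃! φ : F ⟶ G, ∀ n : ℕ, Formal.modPowπ I (n + 1) F ≫ ψ.app (op n) = φ ≫ Formal.modPowπ I (n + 1) G :=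
  ff_target_aux (Formal.completion I F) (Formal.completion I G) (fun n => Formal.modPowπ I (n + 1) F)
    (fun n => Formal.modPowπ I (n + 1) G) (modPowπ_succ I F) (modPowπ_succ I G) c
    (fun n hn => isIso_modPowπ_of_killed I G c (n + 1) (by omega) hG) ψ

end ff


section ffs

variable {A : Type u} [CommRing A] {X : Scheme.{u}} [X.Over (Spec (CommRingCat.of A))] (I : Ideal A)

/-- abstract form of full faithfulness with torsion source: a compatible family of maps from a coherent module killed by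
`I^c` to the quotients `G / I^(n+1) G` of a coherent module lifts uniquely to a map to `G` -/
theorem ff_source_aux [IsNoetherian X] {F G : X.Modules} (hF : Coh.IsCoh F) (hG : Coh.IsCoh G) (c : ℕ)
    (hFk : Formal.KilledBy (I ^ c) F) (GC : ℕᵒᵖ ⥤ X.Modules) [hGCq : ∀ n, (GC.obj (op n)).IsQuasicoherent]
    (πG : ∀ n, G ⟶ GC.obj (op n)) (hπG : ∀ n, IsQuotBy (I ^ (n + 1)) (πG n))
    (hπGc : ∀ n, πG (n + 1) ≫ GC.map (homOfLE (Nat.le_succ n)).op = πG n)
    (g : ∀ n, F ⟶ GC.obj (op n)) (hg : ∀ n, g (n + 1) ≫ GC.map (homOfLE (Nat.le_succ n)).op = g n) :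
    ∃! φ : F ⟶ G, ∀ n : ℕ, φ ≫ πG n = g n := by
  classical
  haveI := hF.1
  haveI := hG.1
  haveI eπ : ∀ n, Epi (πG n) := fun n => (hπG n).epi
  obtain ⟨t, ht⟩ := isCompact_univ.elim_finite_subcover (fun U : X.affineOpens => (U.1 : Set X))
    (fun U => U.1.2) (by
      intro x _
      obtain ⟨_, ⟨U, hU, rfl⟩, hxU, -⟩ := X.isBasis_affineOpens.exists_subset_of_mem_open
        (Set.mem_univ x) isOpen_univ
      exact Set.mem_iUnion.2 ⟨⟨U, hU⟩, hxU⟩)
  have hcov : ∀ x : X, ∃ U ∈ (t : Set X.affineOpens), x ∈ U.1 := by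
    intro x
    have := ht (Set.mem_univ x)
    simp only [Set.mem_iUnion] at this
    obtain ⟨U, hUt, hxU⟩ := this
    exact ⟨U, hUt, hxU⟩
  obtain ⟨r, a, ha, hspan⟩ := exists_gens (I ^ c) t
  haveI qT : (tors a G).IsQuasicoherent := isQuasicoherent_tors a G
  have hgc : ∀ {m n : ℕ} (h : m ≤ n), g n ≫ tt GC h = g m := fun h => π_tt' g hg h
  -- local constants
  have hloc : ∀ U : X.affineOpens, ∃ k n₁ : ℕ,
      (∀ (n : ℕ) (y : Γ(G, U.1)),
        (∀ i, (ρU X U.1 (a i) : Γ(X, U.1)) • y ∈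
          ((I.map (ρU X U.1)) ^ (n + k) • ⊤ : Submodule Γ(X, U.1) Γ(G, U.1))) →
        ∃ t₀ : Γ(G, U.1), (∀ i, (ρU X U.1 (a i) : Γ(X, U.1)) • t₀ = 0) ∧
          y - t₀ ∈ ((I.map (ρU X U.1)) ^ n • ⊤ : Submodule Γ(X, U.1) Γ(G, U.1))) ∧
      (U ∈ t → ∀ n ≥ n₁, ∀ t₀ : Γ(G, U.1), (∀ i, (ρU X U.1 (a i) : Γ(X, U.1)) • t₀ = 0) →
        t₀ ∈ ((I.map (ρU X U.1)) ^ n • ⊤ : Submodule Γ(X, U.1) Γ(G, U.1)) → t₀ = 0) := by
    intro U
    haveI : IsNoetherianRing Γ(X, U.1) := IsLocallyNoetherian.component_noetherian U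
    haveI : Module.Finite Γ(X, U.1) Γ(G, U.1) := by
      haveI : SheafOfModules.IsFiniteType (R := X.ringCatSheaf) G := hG.2
      exact Groth.Agent.Lib.Helper23.FinType.finite_of_isFiniteType _ U.2
    obtain ⟨k, hk⟩ := colon_ar (I.map (ρU X U.1)) (N := Γ(G, U.1)) (fun i => ρU X U.1 (a i))
    by_cases hU : U ∈ t
    · obtain ⟨n₁, hn₁⟩ := tors_inter (I.map (ρU X U.1)) (N := Γ(G, U.1)) (fun i => ρU X U.1 (a i)) c (by
        rw [← Ideal.map_pow, ← hspan U hU])
      exact ⟨k, n₁, hk, fun _ => hn₁⟩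
    · exact ⟨k, 0, hk, fun h => absurd h hU⟩
  choose k₀ n₀ hk₀ hn₀ using hloc
  set k := t.sup k₀ with hkdef
  set n₁ := t.sup n₀ with hn₁def
  -- monos
  have hmono : ∀ m, n₁ ≤ m + 1 → Mono (torsι a G ≫ πG m) := by
    intro m hm
    haveI : (kernel (torsι a G ≫ πG m)).IsQuasicoherent := isQuasicoherent_kernel _
    refine Preadditive.mono_of_isZero_kernel _ (isZero_of_affine_cover _ (t : Set X.affineOpens) hcov ?_)
    intro U hU s
    apply Groth.Agent.Lib.Helper20.StalkExact.injective_app_of_mono (kernel.ι (torsι a G ≫ πG m)) U.1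
    apply Groth.Agent.Lib.Helper20.StalkExact.injective_app_of_mono (torsι a G) U.1
    rw [map_zero, map_zero]
    set y := (torsι a G).app U.1 ((kernel.ι (torsι a G ≫ πG m)).app U.1 s) with hy
    have h1 : (πG m).app U.1 y = 0 := by
      change (kernel.ι (torsι a G ≫ πG m) ≫ torsι a G ≫ πG m).app U.1 s = 0
      rw [kernel.condition]
      rfl
    have h2 : y ∈ LinearMap.ker (appL (πG m) U.1) := h1
    rw [ker_app_of_isQuotBy (I ^ (m + 1)) _ (hπG m) U, Ideal.map_pow] at h2
    exact hn₀ U hU (m + 1) (le_trans (Finset.le_sup (f := n₀) hU) hm) y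
      (fun i => torsι_app_smul a G U.1 _ i) h2
  -- lifts
  have hlift : ∀ m, ∃ l : F ⟶ tors a G, l ≫ (torsι a G ≫ πG m) = g m ∨ ¬ (n₁ ≤ m + 1) := by
    intro m
    by_cases hm : n₁ ≤ m + 1
    · haveI := hmono m hm
      obtain ⟨l, hl⟩ := Groth.Agent.Lib.T2H5.SubSec.exists_lift_of_range_le (g m) (torsι a G ≫ πG m)
        (t : Set X.affineOpens) hcov (fun U hU x => by
          obtain ⟨y, hy⟩ := Groth.Agent.Lib.Helper23.FinType.surjective_app_of_epi (πG (m + k)) U.2
            ((g (m + k)).app U.1 x)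
          have h1 : ∀ i, (ρU X U.1 (a i) : Γ(X, U.1)) • y ∈
              ((I.map (ρU X U.1)) ^ (m + 1 + k₀ U) • ⊤ : Submodule Γ(X, U.1) Γ(G, U.1)) := by
            intro i
            have h2 : (ρU X U.1 (a i) : Γ(X, U.1)) • y ∈ LinearMap.ker (appL (πG (m + k)) U.1) := by
              rw [LinearMap.mem_ker, map_smul, appL_apply, hy, ← Scheme.Modules.Hom.app_smul, ← smulMod_app,
                hFk (a i) (ha i)]
              exact map_zero _
            rw [ker_app_of_isQuotBy (I ^ (m + k + 1)) _ (hπG _) U, Ideal.map_pow] at h2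
            have hle : k₀ U ≤ k := Finset.le_sup (f := k₀) hU
            exact Submodule.smul_mono_left (Ideal.pow_le_pow_right (by omega)) h2
          obtain ⟨t₀, ht₀, hyt⟩ := hk₀ U (m + 1) y h1
          obtain ⟨s, hs⟩ := exists_torsι_app_eq a G U.1 t₀ ht₀
          refine ⟨s, ?_⟩
          change (πG m).app U.1 ((torsι a G).app U.1 s) = _
          rw [hs]
          have h3 : y - t₀ ∈ LinearMap.ker (appL (πG m) U.1) := by
            rw [ker_app_of_isQuotBy (I ^ (m + 1)) _ (hπG _) U, Ideal.map_pow]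
            exact hyt
          have h4 : (πG m).app U.1 t₀ = (πG m).app U.1 y := by
            have : appL (πG m) U.1 (y - t₀) = 0 := h3
            rw [map_sub, sub_eq_zero] at this
            exact this.symm
          rw [h4]
          have h5 : (πG m).app U.1 y = (tt GC (Nat.le_add_right m k)).app U.1 ((πG (m + k)).app U.1 y) := by
            change _ = (πG (m + k) ≫ tt GC (Nat.le_add_right m k)).app U.1 y
            rw [π_tt' πG hπGc]
          rw [h5, hy]
          change (g (m + k) ≫ tt GC (Nat.le_add_right m k)).app U.1 x = _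
          rw [hgc])
      exact ⟨l, Or.inl hl⟩
    · exact ⟨0, Or.inr hm⟩
  choose l hl using hlift
  have hl' : ∀ m, n₁ ≤ m + 1 → l m ≫ (torsι a G ≫ πG m) = g m := fun m hm =>
    (hl m).resolve_right (not_not.2 hm)
  have hmn : n₁ ≤ n₁ + 1 := Nat.le_succ _
  haveI := hmono n₁ hmn
  have hleq : ∀ m, n₁ ≤ m → l m = l n₁ := by
    intro m hm
    rw [← cancel_mono (torsι a G ≫ πG n₁), hl' n₁ hmn, ← π_tt' πG hπGc hm]
    rw [← Category.assoc, ← Category.assoc, Category.assoc (l m), hl' m (by omega), hgc]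
  have hφ : ∀ n, (l n₁ ≫ torsι a G) ≫ πG n = g n := by
    intro n
    have hnm : n ≤ max n n₁ := le_max_left _ _
    have h1 : (l n₁ ≫ torsι a G) ≫ πG (max n n₁) = g (max n n₁) := by
      rw [← hleq (max n n₁) (le_max_right _ _), Category.assoc]
      exact hl' _ (by have := le_max_right n n₁; omega)
    rw [← π_tt' πG hπGc hnm, ← Category.assoc, h1, hgc]
  refine ⟨l n₁ ≫ torsι a G, hφ, ?_⟩
  intro φ' hφ'
  obtain ⟨l', hl''⟩ := exists_lift_tors a G φ' (fun i => hFk (a i) (ha i))
  rw [← hl'']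
  congr 1
  rw [← cancel_mono (torsι a G ≫ πG n₁), hl' n₁ hmn, ← Category.assoc, hl'', hφ']

end ffs


section s0833

variable {A : Type u} [CommRing A] {X : Scheme.{u}} [X.Over (Spec (CommRingCat.of A))] (I : Ideal A)

/-- full faithfulness of the completion: source killed by a power of `I` -/
theorem ff_of_killed_source [IsNoetherian X] (F G : X.Modules) (hF : Coh.IsCoh F) (hG : Coh.IsCoh G) (c : ℕ)
    (hFk : Formal.KilledBy (I ^ c) F) (ψ : Formal.completion I F ⟶ Formal.completion I G) :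
    ∃! φ : F ⟶ G, ∀ n : ℕ, Formal.modPowπ I (n + 1) F ≫ ψ.app (op n) = φ ≫ Formal.modPowπ I (n + 1) G := by
  haveI := hG.1
  haveI : ∀ n, ((Formal.completion I G).obj (op n)).IsQuasicoherent := fun n =>
    isQuasicoherent_modPow I (n + 1) G
  obtain ⟨φ, hφ, huniq⟩ := ff_source_aux I hF hG c hFk (Formal.completion I G)
    (fun n => Formal.modPowπ I (n + 1) G) (fun n => isQuotBy_modPowπ I (n + 1) G) (modPowπ_succ I G)
    (fun n => Formal.modPowπ I (n + 1) F ≫ ψ.app (op n)) (fun n => by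
      have h1 := ψ.naturality (homOfLE (Nat.le_succ n)).op
      calc (Formal.modPowπ I (n + 1 + 1) F ≫ ψ.app (op (n + 1))) ≫
            (Formal.completion I G).map (homOfLE (Nat.le_succ n)).op
          = Formal.modPowπ I (n + 1 + 1) F ≫ (ψ.app (op (n + 1)) ≫
            (Formal.completion I G).map (homOfLE (Nat.le_succ n)).op) := Category.assoc _ _ _
        _ = Formal.modPowπ I (n + 1 + 1) F ≫ ((Formal.completion I F).map (homOfLE (Nat.le_succ n)).op ≫
            ψ.app (op n)) := congrArg (fun t => Formal.modPowπ I (n + 1 + 1) F ≫ t) h1.symm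
        _ = (Formal.modPowπ I (n + 1 + 1) F ≫ (Formal.completion I F).map (homOfLE (Nat.le_succ n)).op) ≫
            ψ.app (op n) := (Category.assoc _ _ _).symm
        _ = _ := congrArg (fun t => t ≫ ψ.app (op n)) (modPowπ_succ I F n))
  exact ⟨φ, fun n => (hφ n).symm, fun φ' hφ' => huniq φ' (fun n => (hφ' n).symm)⟩

theorem s0833 [IsNoetherian X] (F G : X.Modules) (hF : Coh.IsCoh F) (hG : Coh.IsCoh G)
    (hc : ∃ c : ℕ, Formal.KilledBy (I ^ c) F ∨ Formal.KilledBy (I ^ c) G)
    (ψ : Formal.completion I F ⟶ Formal.completion I G) :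
    ∃! φ : F ⟶ G, ∀ n : ℕ, Formal.modPowπ I (n + 1) F ≫ ψ.app (op n) = φ ≫ Formal.modPowπ I (n + 1) G := by
  obtain ⟨c, h | h⟩ := hc
  · exact ff_of_killed_source I F G hF hG c h ψ
  · exact ff_of_killed_target I F G c h ψ

end s0833

end Groth.Agent.Lib.T2H9.GE6
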