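import Mathlib
import Groth.Agent.Lib.T2H9GE6

/-!
# The ideal sheaf I·O_X, the strong tricky lemma and `existence_easy_left` (helper9)

Namespace `Groth.Agent.Lib.T2H9.GE7`.  `idealSheaf X I`: the ideal sheaf `I · O_X` of an ideal `I ⊆ A` on a scheme over
`Spec A`, with `ideal_idealSheaf_pow` and the comparison of `ClSub.KilledByIdeal` with `Formal.KilledBy`.
`exists_completion_iso` (compatibility exposed), `exists_iso_of_killed`: a coherent formal module with all terms killed by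
`I^(e+1)` is the completion of its term `e`.  `main'`: `GE4.main` with the compatibility of the isomorphism.
`tricky_strong`: the tricky lemma producing also the map `M → H` with kernel and cokernel killed by powers of `K`.
`s0829`: existence (easy, left).
-/

set_option autoImplicit false
set_option linter.style.haveILetI false
set_option linter.unusedSectionVars false
set_option linter.unusedVariables false
universe u
open CategoryTheory CategoryTheory.Limits Opposite AlgebraicGeometry TopologicalSpace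

namespace Groth.Agent.Lib.T2H9.GE7

open Groth.Agent.Lib.T2H2.AlgzB Groth.Agent.Lib.T2H9.FFGeom Groth.Agent.Lib.T2H9.Alg
  Groth.Agent.Lib.T2H5.IdealMul Groth.Agent.Lib.T2H9.GE1 Groth.Agent.Lib.T2H9.GE2 Groth.Agent.Lib.T2H9.GE3
  Groth.Agent.S9530 Groth.Agent.Lib.Helper23.QCohLocal Groth.Agent.Lib.T2H9.FibQuot Groth.Agent.Lib.T2H9.Thick
  Groth.Agent.Lib.T2H9.GE4

section isheaf

variable {A : Type u} [CommRing A] (X : Scheme.{u}) [X.Over (Spec (CommRingCat.of A))] (I : Ideal A)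

/-- the closed subscheme `X ×_A A/I → X` -/
noncomputable def clι : pullback (X ↘ Spec (CommRingCat.of A))
    (Spec.map (CommRingCat.ofHom (Ideal.Quotient.mk I))) ⟶ X := pullback.fst _ _

instance : IsClosedImmersion (clι X I) := by
  haveI : IsClosedImmersion (Spec.map (CommRingCat.ofHom (Ideal.Quotient.mk I))) :=
    IsClosedImmersion.spec_of_surjective _ Ideal.Quotient.mk_surjective
  exact isClosedImmersion_of_isPullback X (clι X I) (pullback.snd _ _) _ (IsPullback.of_hasPullback _ _)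

/-- the ideal sheaf `I · O_X` -/
noncomputable def idealSheaf : X.IdealSheafData := (clι X I).ker

theorem ideal_idealSheaf (U : X.affineOpens) : (idealSheaf X I).ideal U = I.map (ρU X U.1) := by
  haveI : IsClosedImmersion (Spec.map (CommRingCat.ofHom (Ideal.Quotient.mk I))) :=
    IsClosedImmersion.spec_of_surjective _ Ideal.Quotient.mk_surjective
  unfold idealSheaf
  rw [Scheme.Hom.ker_apply, ker_app_eq X (clι X I) (pullback.snd _ _) _ (IsPullback.of_hasPullback _ _) U.2,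
    ker_φT_SpecMap_mk]

theorem ideal_idealSheaf_pow (c : ℕ) (U : X.affineOpens) :
    ((idealSheaf X I) ^ c).ideal U = (I ^ c).map (ρU X U.1) := by
  rw [Scheme.IdealSheafData.ideal_pow, Pi.pow_apply, ideal_idealSheaf, Ideal.map_pow]

variable {X}

theorem killedByIdeal_of_killedBy (c : ℕ) (M : X.Modules) (h : Formal.KilledBy (I ^ c) M) :
    ClSub.KilledByIdeal ((idealSheaf X I) ^ c) M := by
  rw [killed_iff]
  intro U a ha m
  rw [ideal_idealSheaf_pow] at ha
  exact smul_eq_zero_of_killedBy (I ^ c) M h U.1 a ha m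

theorem killedBy_of_killedByIdeal (c : ℕ) (M : X.Modules) [M.IsQuasicoherent]
    (h : ClSub.KilledByIdeal ((idealSheaf X I) ^ c) M) : Formal.KilledBy (I ^ c) M := by
  rw [killed_iff] at h
  intro a ha
  refine Groth.Agent.Lib.T2H5.SubSec.hom_eq_zero_of_affine_cover _ Set.univ (fun x => ?_) (fun U _ m => ?_)
  · obtain ⟨_, ⟨U, hU, rfl⟩, hxU, -⟩ := X.isBasis_affineOpens.exists_subset_of_mem_open
      (Set.mem_univ x) isOpen_univ
    exact ⟨⟨U, hU⟩, Set.mem_univ _, hxU⟩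
  · rw [smulMod_app]
    refine h U _ ?_ m
    rw [ideal_idealSheaf_pow]
    exact Ideal.mem_map_of_mem _ ha

end isheaf


section compl

variable {A : Type u} [CommRing A] {X : Scheme.{u}} [X.Over (Spec (CommRingCat.of A))] (I : Ideal A)

/-- `nonempty_completion_iso` with the compatibility exposed -/
theorem exists_completion_iso (N : X.Modules) (G : ℕᵒᵖ ⥤ X.Modules)
    (ρ : ∀ n : ℕ, N ⟶ G.obj (op n)) (hρ : ∀ n, IsQuotBy (I ^ (n + 1)) (ρ n))
    (hcomp : ∀ n, ρ (n + 1) ≫ G.map (homOfLE (Nat.le_succ n)).op = ρ n) :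
    ∃ e : Formal.completion I N ≅ G, ∀ n, Formal.modPowπ I (n + 1) N ≫ e.hom.app (op n) = ρ n := by
  have hex : ∀ n, ∃ e : Formal.modPow I (n + 1) N ≅ G.obj (op n),
      Formal.modPowπ I (n + 1) N ≫ e.hom = ρ n := fun n =>
    (isQuotBy_modPowπ I (n + 1) N).exists_iso (hρ n)
  choose e he using hex
  let θ : Formal.completion I N ⟶ G := NatTrans.ofOpSequence (fun n => (e n).hom) (by
    intro n
    have := (isQuotBy_modPowπ I (n + 1 + 1) N).epi
    have h1 := completion_map_succ I N n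
    refine (cancel_epi (Formal.modPowπ I (n + 1 + 1) N)).1 ?_
    calc Formal.modPowπ I (n + 1 + 1) N ≫
          (Formal.completion I N).map (homOfLE (n.le_add_right 1)).op ≫ (e n).hom
        = (Formal.modPowπ I (n + 1 + 1) N ≫ Formal.modPowTrans I (n + 1) N) ≫ (e n).hom := by
          rw [Category.assoc]; exact congrArg (fun t => _ ≫ t ≫ _) h1
      _ = ρ n := by rw [Formal.modPowπ_trans, he]
      _ = (Formal.modPowπ I (n + 1 + 1) N ≫ (e (n + 1)).hom) ≫
            G.map (homOfLE (n.le_add_right 1)).op := by rw [he]; exact (hcomp n).symm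
      _ = _ := Category.assoc _ _ _)
  have : ∀ n : ℕᵒᵖ, IsIso (θ.app n) := fun n => by
    change IsIso (e n.unop).hom
    infer_instance
  have : IsIso θ := NatIso.isIso_of_isIso_app θ
  exact ⟨asIso θ, fun n => he n⟩

/-- a coherent formal module all of whose terms are killed by `I^(e+1)` is the completion of its term `e` -/
theorem exists_iso_of_killed {G : ℕᵒᵖ ⥤ X.Modules} (hG : Formal.IsCohFormal I G) (e : ℕ)
    (hk : ∀ n, Formal.KilledBy (I ^ (e + 1)) (G.obj (op n))) :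
    ∃ θ : Formal.completion I (G.obj (op e)) ≅ G, ∀ n (h : n ≤ e),
      Formal.modPowπ I (n + 1) (G.obj (op e)) ≫ θ.hom.app (op n) = tt G h := by
  have hG' := (isCohFormal_iff I G).1 hG
  haveI iso : ∀ n (h : e ≤ n), IsIso (tt G h) := by
    intro n h
    have h1 : IsQuotBy (I ^ (e + 1)) (𝟙 (G.obj (op n))) :=
      Groth.Agent.Lib.T2H9.Thick.isQuotBy_id _ _ (hk n)
    obtain ⟨ε, hε⟩ := h1.exists_iso (isQuotBy_tt I hG h)
    rw [Category.id_comp] at hε
    rw [← hε]
    infer_instance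
  let ρ : ∀ n, G.obj (op e) ⟶ G.obj (op n) := fun n =>
    if h : n ≤ e then tt G h else
      haveI := iso n (le_of_not_ge h)
      inv (tt G (le_of_not_ge h))
  have hρ1 : ∀ n (h : n ≤ e), ρ n = tt G h := fun n h => dif_pos h
  have hρ2 : ∀ n (h : e ≤ n), ρ n ≫ tt G h = 𝟙 _ := by
    intro n h
    by_cases h' : n ≤ e
    · have : n = e := le_antisymm h' h
      subst this
      rw [hρ1 n h', tt_refl, Category.comp_id]
    · haveI := iso n (le_of_not_ge h')
      have : ρ n = inv (tt G (le_of_not_ge h')) := dif_neg h'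
      rw [this, IsIso.inv_hom_id]
  have hq : ∀ n, IsQuotBy (I ^ (n + 1)) (ρ n) := by
    intro n
    by_cases h : n ≤ e
    · rw [hρ1 n h]
      exact isQuotBy_tt I hG h
    · have h' : e ≤ n := le_of_not_ge h
      haveI := iso n h'
      have h2 : ρ n = inv (tt G h') := by
        rw [← cancel_mono (tt G h'), hρ2 n h', IsIso.inv_hom_id]
      rw [h2]
      have h3 : IsQuotBy (I ^ (n + 1)) (𝟙 (G.obj (op e))) :=
        Groth.Agent.Lib.T2H9.Thick.isQuotBy_id _ _ (fun a ha => hk e a (Ideal.pow_le_pow_right (by omega) ha))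
      have h4 := h3.comp_iso (asIso (tt G h')).symm
      rw [Category.id_comp] at h4
      exact h4
  have hc : ∀ n, ρ (n + 1) ≫ G.map (homOfLE (Nat.le_succ n)).op = ρ n := by
    intro n
    by_cases h : n + 1 ≤ e
    · rw [hρ1 (n + 1) h, hρ1 n (by omega)]
      exact tt_comp G (Nat.le_succ n) h
    · have h' : e ≤ n := by omega
      haveI := iso n h'
      rw [← cancel_mono (tt G h'), hρ2 n h', Category.assoc]
      have : G.map (homOfLE (Nat.le_succ n)).op ≫ tt G h' = tt G (h'.trans (Nat.le_succ n)) :=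
        tt_comp G h' (Nat.le_succ n)
      rw [this, hρ2]
  obtain ⟨θ, hθ⟩ := exists_completion_iso I (G.obj (op e)) G ρ hq hc
  exact ⟨θ, fun n h => (hθ n).trans (hρ1 n h)⟩

end compl

section main'

variable {A : Type u} [CommRing A] {X : Scheme.{u}} [X.Over (Spec (CommRingCat.of A))]

variable (I : Ideal A) [IsNoetherian X] {F G : ℕᵒᵖ ⥤ X.Modules} (hF : Formal.IsCohFormal I F)
  [hGq : ∀ n, (G.obj (op n)).IsQuasicoherent]
  (𝒬 : ℕ → X.Modules) [h𝒬q : ∀ n, (𝒬 n).IsQuasicoherent]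
  {E Q : X.Modules} (hE : Coh.IsCoh E) (hQ : Coh.IsCoh Q)
  (π : ∀ n, E ⟶ G.obj (op n)) (hπ : ∀ n, IsQuotBy (I ^ (n + 1)) (π n))
  (hπc : ∀ n, π (n + 1) ≫ G.map (homOfLE (Nat.le_succ n)).op = π n)
  (γ : F ⟶ G) (p : ∀ n, G.obj (op n) ⟶ 𝒬 n) (w : ∀ n, γ.app (op n) ≫ p n = 0)
  (hex : ∀ n, (ShortComplex.mk _ _ (w n)).Exact)
  (q' : E ⟶ Q) (q : ∀ n, Q ⟶ 𝒬 n) (hq : ∀ n, IsQuotBy (I ^ (n + 1)) (q n))
  (hsq : ∀ n, q' ≫ q n = π n ≫ p n)


include hF hE hQ hπ hπc hex hq hsq in
/-- `GE4.main` with the compatibility of the isomorphism exposed -/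
theorem main' (hpro : ∀ n, ∃ j, kernel.ι (γ.app (op (n + j))) ≫ trF F n j = 0) :
    ∃ β : Formal.completion I (kernel q') ≅ F, ∀ n,
      Formal.modPowπ I (n + 1) (kernel q') ≫ β.hom.app (op n) ≫ γ.app (op n) = kernel.ι q' ≫ π n := by
  classical
  have hF' := (isCohFormal_iff I F).1 hF
  haveI qF : ∀ n, (F.obj (op n)).IsQuasicoherent := fun n => (hF'.1 n).1
  haveI := hE.1
  haveI := hQ.1
  haveI : (kernel q').IsQuasicoherent := Groth.Agent.Lib.Helper23.QCohLocal.isQuasicoherent_kernel q'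
  obtain ⟨t, ht⟩ := isCompact_univ.elim_finite_subcover (fun U : X.affineOpens => (U.1 : Set X))
    (fun U => U.1.2) (by
      intro x _
      obtain ⟨_, ⟨U, hU, rfl⟩, hxU, -⟩ := X.isBasis_affineOpens.exists_subset_of_mem_open
        (Set.mem_univ x) isOpen_univ
      exact Set.mem_iUnion.2 ⟨⟨U, hU⟩, hxU⟩)
  have hcov : ∀ x : X, ∃ U ∈ (t : Set X.affineOpens), x ∈ U.1 := by
    intro x
    have := ht (Set.mem_univ x)
    simp only [Set.mem_iUnion] at this
    obtain ⟨U, hUt, hxU⟩ := this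
    exact ⟨U, hUt, hxU⟩
  have hloc : ∀ U : X.affineOpens, ∃ k₀ : ℕ, ∀ k ≥ k₀, ARU I q' U k := fun U => exists_ARU I hE hQ q' U
  choose k₀ hk₀ using hloc
  set k := t.sup k₀ with hk
  have hAR : ∀ U ∈ t, ARU I q' U k := fun U hU => hk₀ U k (Finset.le_sup (f := k₀) hU)
  choose j hj using hpro
  let S : ℕ → ℕ := fun n => (Finset.range (n + 1)).sum j
  have hS : ∀ n, j n ≤ S n := fun n =>
    Finset.single_le_sum (f := j) (fun i _ => Nat.zero_le _) (Finset.self_mem_range_succ n)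
  have hSm : ∀ n, S n ≤ S (n + 1) := fun n => by
    change (Finset.range (n + 1)).sum j ≤ (Finset.range (n + 1 + 1)).sum j
    rw [Finset.sum_range_succ _ (n + 1)]
    exact Nat.le_add_right _ _
  let m' : ℕ → ℕ := fun n => n + k + S n
  have hnm : ∀ n, n ≤ m' n + k := fun n => by change n ≤ n + k + S n + k; omega
  have hz : ∀ n, kernel.ι (γ.app (op (m' n + k))) ≫ tt F (hnm n) = 0 := fun n =>
    pro_zero_mono γ n (j n) (m' n + k) (hj n) (by have := hS n; change n + j n ≤ n + k + S n + k; omega) _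
  have hex1 : ∀ n, ∃ ρ : kernel q' ⟶ F.obj (op n), ∀ (U : X.Opens) (x : Γ(kernel q', U))
      (f : Γ(F.obj (op (m' n + k)), U)),
      (π (m' n + k)).app U ((kernel.ι q').app U x) = (γ.app (op (m' n + k))).app U f →
        ρ.app U x = (tt F (hnm n)).app U f := fun n =>
    exists_rho 𝒬 π γ p w hex q' q hsq n (m' n + k) (hnm n) (hz n)
  choose ρ hρ using hex1
  have hq1 : ∀ n, IsQuotBy (I ^ (n + 1)) (ρ n) := by
    intro n
    refine isQuotBy_of_affine_cover I (n + 1) (ρ n) (fun a ha => ?_) (t : Set X.affineOpens) hcov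
      (fun U hU => ?_) (fun U hU x hx => ?_)
    · rw [smulMod_comp, hF'.2.1 n a ha, comp_zero]
    · exact surj_of_char I hF 𝒬 hE hQ π hπ hπc γ p w hex q' q hq hsq U k (hAR U hU) n (m' n + k) (hnm n)
        (ρ n) (fun x f => hρ n U.1 x f)
    · exact ker_of_char I hF 𝒬 hE hQ π hπ hπc γ p w hex q' q hq hsq U k (hAR U hU) n (m' n)
        (by change n + k ≤ n + k + S n; omega) (hnm n) (ρ n) (fun x f => hρ n U.1 x f) x hx
  have hq2 : ∀ n, ρ (n + 1) ≫ F.map (homOfLE (Nat.le_succ n)).op = ρ n := by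
    intro n
    refine hom_ext_of_affine_cover _ _ (t : Set X.affineOpens) hcov fun U hU x => ?_
    have hmm : m' n + k ≤ m' (n + 1) + k := by
      have := hSm n
      change n + k + S n + k ≤ n + 1 + k + S (n + 1) + k
      omega
    obtain ⟨f₁, hf₁⟩ := exists_preimage I hF 𝒬 hE hQ π γ p w hex q' q hsq U (m' (n + 1) + k) x
    have e1 := hρ (n + 1) U.1 x f₁ hf₁.symm
    have e2 : (π (m' n + k)).app U.1 ((kernel.ι q').app U.1 x) =
        (γ.app (op (m' n + k))).app U.1 ((tt F hmm).app U.1 f₁) := by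
      have a1 : (π (m' n + k)).app U.1 ((kernel.ι q').app U.1 x) =
          (tt G hmm).app U.1 ((π (m' (n + 1) + k)).app U.1 ((kernel.ι q').app U.1 x)) := by
        change _ = (π (m' (n + 1) + k) ≫ tt G hmm).app U.1 ((kernel.ι q').app U.1 x)
        rw [π_tt π hπc]
      rw [a1, ← hf₁]
      change (γ.app (op (m' (n + 1) + k)) ≫ tt G hmm).app U.1 f₁ = (tt F hmm ≫ γ.app (op (m' n + k))).app U.1 f₁
      rw [tt_naturality]
    have e3 := hρ n U.1 x _ e2
    change (F.map (homOfLE (Nat.le_succ n)).op).app U.1 ((ρ (n + 1)).app U.1 x) = (ρ n).app U.1 x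
    rw [e1, e3]
    change (tt F (hnm (n + 1)) ≫ tt F (Nat.le_succ n)).app U.1 f₁ = (tt F hmm ≫ tt F (hnm n)).app U.1 f₁
    rw [tt_comp, tt_comp]
  obtain ⟨β, hβ⟩ := exists_completion_iso I (kernel q') F ρ hq1 hq2
  refine ⟨β, fun n => ?_⟩
  rw [← Category.assoc, hβ n]
  refine hom_ext_of_affine_cover _ _ (t : Set X.affineOpens) hcov fun U hU x => ?_
  obtain ⟨f, hf⟩ := exists_preimage I hF 𝒬 hE hQ π γ p w hex q' q hsq U (m' n + k) x
  have e1 := hρ n U.1 x f hf.symm
  change (γ.app (op n)).app U.1 ((ρ n).app U.1 x) = (π n).app U.1 ((kernel.ι q').app U.1 x)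
  rw [e1]
  have a1 : (π n).app U.1 ((kernel.ι q').app U.1 x) =
      (tt G (hnm n)).app U.1 ((π (m' n + k)).app U.1 ((kernel.ι q').app U.1 x)) := by
    change _ = (π (m' n + k) ≫ tt G (hnm n)).app U.1 ((kernel.ι q').app U.1 x)
    rw [π_tt π hπc]
  rw [a1, ← hf]
  change (tt F (hnm n) ≫ γ.app (op n)).app U.1 f = (γ.app (op (m' n + k)) ≫ tt G (hnm n)).app U.1 f
  rw [tt_naturality]

end main'

section strong

variable {A : Type u} [CommRing A] {X : Scheme.{u}} [X.Over (Spec (CommRingCat.of A))]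
variable (I : Ideal A) (K : X.IdealSheafData) [IsNoetherian X]

open Groth.Agent.Lib.T2H9.GE5 in
theorem tricky_strong (F : ℕᵒᵖ ⥤ X.Modules) (hF : Formal.IsCohFormal I F)
    (h₁ : ∀ e : ℕ,
      (∀ (M N : X.Modules), Coh.IsCoh M → Coh.IsCoh N → ClSub.KilledByIdeal (K ^ e) M →
        ClSub.KilledByIdeal (K ^ e) N → ∀ ψ : Formal.completion I M ⟶ Formal.completion I N,
          ∃ φ : M ⟶ N, ∀ n : ℕ, Formal.modPowπ I (n + 1) M ≫ ψ.app (op n) = φ ≫ Formal.modPowπ I (n + 1) N) ∧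
      (∀ G : ℕᵒᵖ ⥤ X.Modules, Formal.IsCohFormal I G → (∀ n : ℕ, ClSub.KilledByIdeal (K ^ e) (G.obj (op n))) →
        ∃ M : X.Modules, Coh.IsCoh M ∧ ClSub.KilledByIdeal (K ^ e) M ∧ Nonempty (Formal.completion I M ≅ G)))
    (H : X.Modules) (α : F ⟶ Formal.completion I H) (hH : Coh.IsCoh H) (t : ℕ)
    (ht : ∀ n : ℕ, ClSub.KilledByIdeal (K ^ (t + 1)) (Limits.kernel (α.app (op n))) ∧
      ClSub.KilledByIdeal (K ^ (t + 1)) (Limits.cokernel (α.app (op n)))) :
    ∃ (M : X.Modules) (a : M ⟶ H) (β : Formal.completion I M ≅ F) (e : ℕ), Coh.IsCoh M ∧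
      (∀ n, Formal.modPowπ I (n + 1) M ≫ β.hom.app (op n) ≫ α.app (op n) = a ≫ Formal.modPowπ I (n + 1) H) ∧
      ClSub.KilledByIdeal (K ^ e) (kernel a) ∧ ClSub.KilledByIdeal (K ^ (t + 1 + e)) (cokernel a) := by
  have hF' := (isCohFormal_iff I F).1 hF
  haveI qF : ∀ n, (F.obj (op n)).IsQuasicoherent := fun n => (hF'.1 n).1
  have hHc := isCohFormal_completion I H hH
  have hHc' := (isCohFormal_iff I _).1 hHc
  haveI qH : ∀ n, ((Formal.completion I H).obj (op n)).IsQuasicoherent := fun n => (hHc'.1 n).1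
  -- step 1
  obtain ⟨e, he⟩ := ar_claim I K hF hHc α (t + 1) (fun n => (ht n).1)
  -- step 2
  have h𝒫 := isCohFormal_Φ I (K ^ e) hF
  have h𝒫' := (isCohFormal_iff I _).1 h𝒫
  haveI q𝒫 : ∀ n, ((F ⋙ Φ (K ^ e)).obj (op n)).IsQuasicoherent := fun n => (h𝒫'.1 n).1
  have k𝒫 : ∀ n, ClSub.KilledByIdeal (K ^ e) ((F ⋙ Φ (K ^ e)).obj (op n)) := fun n => killed_pushPull _ _
  obtain ⟨P, hP, hPk, ⟨θ⟩⟩ := (h₁ e).2 _ h𝒫 k𝒫
  -- step 3, 4
  have hE : Coh.IsCoh (H ⊞ P : X.Modules) := isCoh_biprod hH hP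
  let G : ℕᵒᵖ ⥤ X.Modules := Functor.ofOpSequence
    (X := fun n => ((Formal.completion I H).obj (op n) ⊞ (F ⋙ Φ (K ^ e)).obj (op n) : X.Modules))
    (fun n => biprod.map ((Formal.completion I H).map (homOfLE (Nat.le_succ n)).op)
      ((F ⋙ Φ (K ^ e)).map (homOfLE (Nat.le_succ n)).op))
  have hGmap : ∀ n, G.map (homOfLE (Nat.le_succ n)).op =
      biprod.map ((Formal.completion I H).map (homOfLE (Nat.le_succ n)).op)
        ((F ⋙ Φ (K ^ e)).map (homOfLE (Nat.le_succ n)).op) := fun n =>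
    Functor.ofOpSequence_map_homOfLE_succ _ n
  haveI qG : ∀ n, (G.obj (op n)).IsQuasicoherent := fun n => isQuasicoherent_biprod _ _
  have cG : ∀ n, Coh.IsCoh (G.obj (op n)) := fun n => isCoh_biprod (hHc'.1 n) (h𝒫'.1 n)
  let π : ∀ n, (H ⊞ P : X.Modules) ⟶ G.obj (op n) := fun n =>
    biprod.map (Formal.modPowπ I (n + 1) H) (Formal.modPowπ I (n + 1) P ≫ θ.hom.app (op n))
  have hπ : ∀ n, IsQuotBy (I ^ (n + 1)) (π n) := fun n =>
    isQuotBy_biprodMap (isQuotBy_modPowπ I (n + 1) H)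
      ((isQuotBy_modPowπ I (n + 1) P).comp_iso (θ.app (op n)))
  have hπc : ∀ n, π (n + 1) ≫ G.map (homOfLE (Nat.le_succ n)).op = π n := by
    intro n
    have a1 : Formal.modPowπ I (n + 1 + 1) H ≫ (Formal.completion I H).map (homOfLE (Nat.le_succ n)).op =
        Formal.modPowπ I (n + 1) H :=
      (congrArg (fun t => Formal.modPowπ I (n + 1 + 1) H ≫ t) (completion_map_succ I H n)).trans
        (Formal.modPowπ_trans I (n + 1) H)
    have a2 : (Formal.modPowπ I (n + 1 + 1) P ≫ θ.hom.app (op (n + 1))) ≫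
        (F ⋙ Φ (K ^ e)).map (homOfLE (Nat.le_succ n)).op = Formal.modPowπ I (n + 1) P ≫ θ.hom.app (op n) := by
      have a3 : Formal.modPowπ I (n + 1 + 1) P ≫ (Formal.completion I P).map (homOfLE (Nat.le_succ n)).op =
          Formal.modPowπ I (n + 1) P :=
        (congrArg (fun t => Formal.modPowπ I (n + 1 + 1) P ≫ t) (completion_map_succ I P n)).trans
          (Formal.modPowπ_trans I (n + 1) P)
      have a4 := θ.hom.naturality (homOfLE (Nat.le_succ n)).op
      calc (Formal.modPowπ I (n + 1 + 1) P ≫ θ.hom.app (op (n + 1))) ≫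
            (F ⋙ Φ (K ^ e)).map (homOfLE (Nat.le_succ n)).op
          = Formal.modPowπ I (n + 1 + 1) P ≫ (θ.hom.app (op (n + 1)) ≫
            (F ⋙ Φ (K ^ e)).map (homOfLE (Nat.le_succ n)).op) := Category.assoc _ _ _
        _ = Formal.modPowπ I (n + 1 + 1) P ≫ ((Formal.completion I P).map (homOfLE (Nat.le_succ n)).op ≫
            θ.hom.app (op n)) := congrArg (fun t => Formal.modPowπ I (n + 1 + 1) P ≫ t) a4.symm
        _ = (Formal.modPowπ I (n + 1 + 1) P ≫ (Formal.completion I P).map (homOfLE (Nat.le_succ n)).op) ≫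
            θ.hom.app (op n) := (Category.assoc _ _ _).symm
        _ = _ := congrArg (fun t => t ≫ θ.hom.app (op n)) a3
    refine (congrArg (fun t => π (n + 1) ≫ t) (hGmap n)).trans ?_
    refine (bm_comp _ _ _ _).trans ?_
    exact congrArg₂ biprod.map a1 a2
  -- step 5
  let γ : F ⟶ G := NatTrans.ofOpSequence
    (fun n => biprod.lift (α.app (op n)) (unit (K ^ e) (F.obj (op n)))) (by
      intro n
      have hG1 := hGmap n
      refine Eq.trans ?_ (congrArg (fun t => biprod.lift (α.app (op (n + 1)))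
        (unit (K ^ e) (F.obj (op (n + 1)))) ≫ t) hG1.symm)
      refine (comp_lift _ _ _).trans ((congrArg₂ biprod.lift ?_ ?_).trans (lift_bm _ _ _ _).symm)
      · exact α.naturality _
      · exact unit_naturality (K ^ e) _)
  have hγfst : ∀ n, γ.app (op n) ≫ biprod.fst = α.app (op n) := fun n => biprod.lift_fst _ _
  have hγsnd : ∀ n, γ.app (op n) ≫ biprod.snd = unit (K ^ e) (F.obj (op n)) := fun n => biprod.lift_snd _ _
  -- step 6
  have hpro : ∀ n, ∃ j, kernel.ι (γ.app (op (n + j))) ≫ trF F n j = 0 := by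
    intro n
    obtain ⟨j, hj⟩ := he n
    haveI : (kernel (γ.app (op (n + j)))).IsQuasicoherent := isQuasicoherent_kernel _
    refine ⟨j, hj _ (kernel.ι (γ.app (op (n + j)))) ?_ ?_⟩
    · rw [← hγfst, kernel.condition_assoc, zero_comp]
    · rw [← hγsnd, kernel.condition_assoc, zero_comp]
  -- step 7, 8
  let 𝒬 : ℕ → X.Modules := fun n => cokernel (γ.app (op n))
  haveI q𝒬 : ∀ n, (𝒬 n).IsQuasicoherent := fun n => isQuasicoherent_cokernel _
  let 𝒬' : ℕᵒᵖ ⥤ X.Modules := Functor.ofOpSequence (X := 𝒬)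
    (fun n => cokernel.map (γ.app (op (n + 1))) (γ.app (op n)) (F.map (homOfLE (Nat.le_succ n)).op)
      (G.map (homOfLE (Nat.le_succ n)).op) (γ.naturality _).symm)
  have h𝒬map : ∀ n, 𝒬'.map (homOfLE (Nat.le_succ n)).op =
      cokernel.map (γ.app (op (n + 1))) (γ.app (op n)) (F.map (homOfLE (Nat.le_succ n)).op)
      (G.map (homOfLE (Nat.le_succ n)).op) (γ.naturality _).symm := fun n =>
    Functor.ofOpSequence_map_homOfLE_succ _ n
  have hGq : ∀ n, IsQuotBy (I ^ (n + 1)) (G.map (homOfLE (Nat.le_succ n)).op) := fun n => by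
    rw [hGmap]
    exact isQuotBy_biprodMap (hHc'.2.2 n) (h𝒫'.2.2 n)
  have h𝒬' : Formal.IsCohFormal I 𝒬' := by
    rw [isCohFormal_iff]
    haveI eπ : ∀ n, Epi (cokernel.π (γ.app (op n))) := fun n => coequalizer.π_epi
    refine ⟨fun n => ?_, fun n => ?_, fun n => ?_⟩
    · exact @Groth.Agent.Lib.T2H5.Devissage.isCoh_of_epi _ _ _ (cokernel.π (γ.app (op n))) (eπ n) (cG n) (q𝒬 n)
    · exact @killedBy_of_epi _ _ _ _ _ _ _ (cokernel.π (γ.app (op n))) (eπ n) (hπ n).killedBy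
    · rw [h𝒬map]
      haveI := (hF'.2.2 n).epi
      exact isQuotBy_cokernelMap _ _ _ _ (hGq n) _
  have k𝒬' : ∀ n, ClSub.KilledByIdeal (K ^ (t + 1 + e)) (𝒬'.obj (op n)) := by
    intro n
    have hc : ClSub.KilledByIdeal (K ^ (t + 1)) (cokernel (α.app (op n))) := (ht n).2
    exact killed_cokernel_lift K (t + 1) e (α.app (op n)) (unit (K ^ e) (F.obj (op n))) hc (k𝒫 n)
  -- step 9
  obtain ⟨Q, hQ, hQk, ⟨κ⟩⟩ := (h₁ (t + 1 + e)).2 𝒬' h𝒬' k𝒬'
  -- step 10
  let g : ∀ n, (H ⊞ P : X.Modules) ⟶ 𝒬'.obj (op n) := fun n => π n ≫ cokernel.π (γ.app (op n))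
  have hg : ∀ n, g (n + 1) ≫ 𝒬'.map (homOfLE (Nat.le_succ n)).op = g n := by
    intro n
    rw [h𝒬map]
    change (π (n + 1) ≫ cokernel.π _) ≫ cokernel.map _ _ _ _ _ = π n ≫ cokernel.π _
    rw [Category.assoc, cokernel.π_desc, ← Category.assoc, hπc]
  obtain ⟨q', hq'⟩ := exists_algebraize_map I (K ^ (t + 1 + e))
    (h₁ (t + 1 + e)).1 hE hQ hQk 𝒬' κ g hg
  -- step 11, 12
  obtain ⟨β, hβ⟩ := main' I hF 𝒬 hE hQ π hπ hπc γ (fun n => cokernel.π (γ.app (op n)))
    (fun n => cokernel.condition _) (fun n => ShortComplex.exact_cokernel _) q'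
    (fun n => Formal.modPowπ I (n + 1) Q ≫ κ.hom.app (op n))
    (fun n => (isQuotBy_modPowπ I (n + 1) Q).comp_iso (κ.app (op n))) hq' hpro
  haveI := hE.1
  haveI := hQ.1
  haveI := hH.1
  haveI := hP.1
  haveI qK : (kernel q').IsQuasicoherent := isQuasicoherent_kernel q'
  refine ⟨kernel q', kernel.ι q' ≫ biprod.fst, β, e,
    Groth.Agent.Lib.T2H5.Devissage.isCoh_of_mono (kernel.ι q') hE qK, fun n => ?_, ?_, ?_⟩
  · have h1 := hβ n
    have h2 : (Formal.modPowπ I (n + 1) (kernel q') ≫ β.hom.app (op n) ≫ γ.app (op n)) ≫ biprod.fst =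
        (kernel.ι q' ≫ π n) ≫ biprod.fst := congrArg (fun t => t ≫ biprod.fst) h1
    have h3 : π n ≫ biprod.fst = biprod.fst ≫ Formal.modPowπ I (n + 1) H := biprod.map_fst _ _
    calc Formal.modPowπ I (n + 1) (kernel q') ≫ β.hom.app (op n) ≫ α.app (op n)
        = (Formal.modPowπ I (n + 1) (kernel q') ≫ β.hom.app (op n) ≫ γ.app (op n)) ≫ biprod.fst := by
          rw [Category.assoc, Category.assoc]
          exact congrArg (fun t => Formal.modPowπ I (n + 1) (kernel q') ≫ β.hom.app (op n) ≫ t) (hγfst n).symm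
      _ = (kernel.ι q' ≫ π n) ≫ biprod.fst := h2
      _ = kernel.ι q' ≫ biprod.fst ≫ Formal.modPowπ I (n + 1) H := by
          rw [Category.assoc]
          exact congrArg (fun t => kernel.ι q' ≫ t) h3
      _ = _ := (Category.assoc _ _ _).symm
  · haveI : Mono (kernel.ι (kernel.ι q' ≫ (biprod.fst : (H ⊞ P : X.Modules) ⟶ H)) ≫ kernel.ι q' ≫
        (biprod.snd : (H ⊞ P : X.Modules) ⟶ P)) := by
      refine Preadditive.mono_of_cancel_zero _ fun z hz => ?_
      have h1 : (z ≫ kernel.ι (kernel.ι q' ≫ (biprod.fst : (H ⊞ P : X.Modules) ⟶ H))) ≫ kernel.ι q' = 0 := by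
        apply biprod.hom_ext
        · rw [zero_comp, Category.assoc, Category.assoc, kernel.condition, comp_zero]
        · rw [zero_comp]
          simpa only [Category.assoc] using hz
      have h3 : z ≫ kernel.ι (kernel.ι q' ≫ (biprod.fst : (H ⊞ P : X.Modules) ⟶ H)) = 0 :=
        (cancel_mono (kernel.ι q')).1 (h1.trans zero_comp.symm)
      exact (cancel_mono (kernel.ι (kernel.ι q' ≫ (biprod.fst : (H ⊞ P : X.Modules) ⟶ H)))).1
        (h3.trans zero_comp.symm)
    exact killed_of_mono (K ^ e) (kernel.ι (kernel.ι q' ≫ (biprod.fst : (H ⊞ P : X.Modules) ⟶ H)) ≫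
      kernel.ι q' ≫ (biprod.snd : (H ⊞ P : X.Modules) ⟶ P)) hPk
  · haveI : (cokernel (kernel.ι q' ≫ (biprod.fst : (H ⊞ P : X.Modules) ⟶ H))).IsQuasicoherent :=
      isQuasicoherent_cokernel _
    rw [killed_iff] at hQk ⊢
    intro U r hr s
    obtain ⟨h, rfl⟩ := Groth.Agent.Lib.Helper23.FinType.surjective_app_of_epi
      (cokernel.π (kernel.ι q' ≫ (biprod.fst : (H ⊞ P : X.Modules) ⟶ H))) U.2 s
    rw [← Scheme.Modules.Hom.app_smul]
    have h1 : q'.app U.1 ((biprod.inl : H ⟶ H ⊞ P).app U.1 (r • h)) = 0 := by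
      rw [Scheme.Modules.Hom.app_smul, Scheme.Modules.Hom.app_smul]
      exact hQk U r hr _
    obtain ⟨x, hx⟩ := exists_kernel_app_eq q' U.1 _ h1
    have h2 : (kernel.ι q' ≫ (biprod.fst : (H ⊞ P : X.Modules) ⟶ H)).app U.1 x = r • h := by
      change (biprod.fst : (H ⊞ P : X.Modules) ⟶ H).app U.1 ((kernel.ι q').app U.1 x) = _
      rw [hx]
      change ((biprod.inl : H ⟶ H ⊞ P) ≫ biprod.fst).app U.1 (r • h) = _
      rw [biprod.inl_fst]
      rfl
    rw [← h2]
    change ((kernel.ι q' ≫ (biprod.fst : (H ⊞ P : X.Modules) ⟶ H)) ≫ cokernel.π _).app U.1 x = 0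
    rw [cokernel.condition]
    rfl

end strong


section left

variable {A : Type u} [CommRing A] {X : Scheme.{u}} [X.Over (Spec (CommRingCat.of A))]
variable (I : Ideal A) [IsNoetherian X]

theorem killedBy_mono {M : X.Modules} {a b : ℕ} (h : a ≤ b) (hM : Formal.KilledBy (I ^ a) M) :
    Formal.KilledBy (I ^ b) M := fun x hx => hM x (Ideal.pow_le_pow_right h hx)

/-- the hypotheses of the tricky lemma hold for the ideal sheaf `I · O_X` itself -/
theorem h₁_idealSheaf (e : ℕ) :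
    (∀ (M N : X.Modules), Coh.IsCoh M → Coh.IsCoh N → ClSub.KilledByIdeal ((idealSheaf X I) ^ e) M →
        ClSub.KilledByIdeal ((idealSheaf X I) ^ e) N → ∀ ψ : Formal.completion I M ⟶ Formal.completion I N,
          ∃ φ : M ⟶ N, ∀ n : ℕ, Formal.modPowπ I (n + 1) M ≫ ψ.app (op n) = φ ≫ Formal.modPowπ I (n + 1) N) ∧
      (∀ G : ℕᵒᵖ ⥤ X.Modules, Formal.IsCohFormal I G →
        (∀ n : ℕ, ClSub.KilledByIdeal ((idealSheaf X I) ^ e) (G.obj (op n))) →
        ∃ M : X.Modules, Coh.IsCoh M ∧ ClSub.KilledByIdeal ((idealSheaf X I) ^ e) M ∧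
          Nonempty (Formal.completion I M ≅ G)) := by
  refine ⟨fun M N hM hN kM kN ψ => ?_, fun G hG hk => ?_⟩
  · haveI := hN.1
    exact (Groth.Agent.Lib.T2H9.GE6.ff_of_killed_target I M N e (killedBy_of_killedByIdeal I e N kN) ψ).exists
  · have hG' := (isCohFormal_iff I G).1 hG
    haveI qG : ∀ n, (G.obj (op n)).IsQuasicoherent := fun n => (hG'.1 n).1
    obtain ⟨θ, -⟩ := exists_iso_of_killed I hG e (fun n =>
      killedBy_mono I (Nat.le_succ e) (killedBy_of_killedByIdeal I e _ (hk n)))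
    exact ⟨G.obj (op e), hG'.1 e, hk e, ⟨θ⟩⟩

theorem s0829 (G : X.Modules) (hG : Coh.IsCoh G)
    (F : ℕᵒᵖ ⥤ X.Modules) (hF : Formal.IsCohFormal I F) (α : F ⟶ Formal.completion I G)
    (hα : Formal2.KerCokerKilledByIPow I α) :
    ∃ (F' : X.Modules) (a : F' ⟶ G) (β : F ≅ Formal.completion I F'), Coh.IsCoh F' ∧
      Formal2.KerCokerKilledByIPowHom I a ∧
      ∀ n : ℕ, Formal.modPowπ I (n + 1) F' ≫ β.inv.app (op n) ≫ α.app (op n) = a ≫ Formal.modPowπ I (n + 1) G := by
  obtain ⟨t, ht⟩ := hα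
  obtain ⟨M, a, β, e, hM, hcompat, hk, hc⟩ := tricky_strong I (idealSheaf X I) F hF (h₁_idealSheaf I) G α hG t
    (fun n => ⟨killedByIdeal_of_killedBy I (t + 1) _ (ht n).1, killedByIdeal_of_killedBy I (t + 1) _ (ht n).2⟩)
  haveI := hM.1
  haveI := hG.1
  haveI : (kernel a).IsQuasicoherent := isQuasicoherent_kernel a
  haveI : (cokernel a).IsQuasicoherent := isQuasicoherent_cokernel a
  refine ⟨M, a, β.symm, hM, ⟨t + 1 + e, ?_, ?_⟩, fun n => hcompat n⟩
  · exact killedBy_mono I (by omega) (killedBy_of_killedByIdeal I e _ hk)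
  · exact killedBy_mono I (by omega) (killedBy_of_killedByIdeal I (t + 1 + e) _ hc)

end left

end Groth.Agent.Lib.T2H9.GE7
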