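import Groth.Agent.Lib.T2H5AffFormalD
import Groth.Agent.Lib.T2H9GE7
import Groth.Agent.S0060

/-!
# Full faithfulness of the completion of coherent modules on an affine formal scheme (helper5)

`complModMap_bijective`: over a Noetherian `J`-adically complete ring `A`, for coherent modules `P`, `Q` on `Spec A` the map
`Hom(P, Q) → Hom(P^Δ, Q^Δ)` is bijective (systems of modules on the completion of `Spec A` along `V(J)`).
-/

set_option autoImplicit false
set_option backward.isDefEq.respectTransparency.types false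
set_option linter.style.haveILetI false
set_option linter.unusedSectionVars false
set_option linter.unusedVariables false
universe u

open CategoryTheory CategoryTheory.Limits AlgebraicGeometry TopologicalSpace Opposite

namespace Groth.Agent.Lib.T2H5.AffFormal

open Groth.Agent.Lib.T2H5.TrivThick Groth.Agent.Lib.T2H2.AlgzB Groth.Agent.Lib.T2H9.Thick
  Groth.Agent.Lib.T2H9.FlatFib Groth.Agent.Lib.T2H9.FibQuot Groth.Agent.Lib.T2H9.Alg
  Groth.Agent.Lib.T2H5.ProjAlg Groth.Agent.Lib.T2H6.FSysBasic Groth.Agent.Lib.T2H2.AlgzD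
  Groth.Agent.Lib.T2H9.GrAdic

section gen

variable {X : Scheme.{u}} (𝓘 : X.IdealSheafData)

/-- the unit `Q ⟶ (u_k)_* (Q^Δ)_k` -/
noncomputable def etaQ (Q : X.Modules) (k : ℕ) :
    Q ⟶ (Scheme.Modules.pushforward (FSch.completionToX X 𝓘 k)).obj ((FSch.complMod 𝓘 Q).F k) :=
  (Scheme.Modules.pullbackPushforwardAdjunction (FSch.completionToX X 𝓘 k)).unit.app Q

/-- the transition maps of the direct images of the completion of `Q` -/
noncomputable abbrev tQ (Q : X.Modules) (k : ℕ) :=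
  tF X (FSch.completionAlong X 𝓘).X (FSch.completionAlong X 𝓘).ι (FSch.completionToX X 𝓘)
    (hec 𝓘) (FSch.complMod 𝓘 Q).F (FSch.complMod 𝓘 Q).e k

set_option maxHeartbeats 200000 in
theorem homEquiv_comm {P Q : X.Modules} (Φ : FSch.complMod 𝓘 P ⟶ FSch.complMod 𝓘 Q) (k : ℕ) :
    (Scheme.Modules.pullbackPushforwardAdjunction (FSch.completionToX X 𝓘 (k + 1))).homEquiv P
        ((FSch.complMod 𝓘 Q).F (k + 1)) ((Φ : FSch.ModSys.Hom _ _).app (k + 1)) ≫ tQ 𝓘 Q k =
      (Scheme.Modules.pullbackPushforwardAdjunction (FSch.completionToX X 𝓘 k)).homEquiv P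
        ((FSch.complMod 𝓘 Q).F k) ((Φ : FSch.ModSys.Hom _ _).app k) := by
  have h0 := (Φ : FSch.ModSys.Hom _ _).comm k
  have h1 := h0.trans (congrArg (fun x => x ≫ (Φ : FSch.ModSys.Hom _ _).app k)
    (complMod_e_hom 𝓘 P k (completion_ι_toX X 𝓘 k)))
  exact (compat_step_iff_iso' ((FSch.completionAlong X 𝓘).ι k) (FSch.completionToX X 𝓘 (k + 1))
    (FSch.completionToX X 𝓘 k) (hec 𝓘 k) (completion_ι_toX X 𝓘 k)
    ((FSch.complMod 𝓘 Q).F (k + 1))
    ((FSch.complMod 𝓘 Q).F k) ((FSch.complMod 𝓘 Q).e k) P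
    ((Φ : FSch.ModSys.Hom _ _).app (k + 1)) ((Φ : FSch.ModSys.Hom _ _).app k)).1 h1

set_option maxHeartbeats 200000 in
theorem homEquiv_id_app (Q : X.Modules) (n : ℕ) :
    (Scheme.Modules.pullbackPushforwardAdjunction (FSch.completionToX X 𝓘 n)).homEquiv Q
        ((FSch.complMod 𝓘 Q).F n)
        (((𝟙 (FSch.complMod 𝓘 Q) : FSch.complMod 𝓘 Q ⟶ FSch.complMod 𝓘 Q) :
          FSch.ModSys.Hom _ _).app n) = etaQ 𝓘 Q n :=
  Adjunction.homEquiv_id _ _

set_option maxHeartbeats 200000 in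
theorem etaQ_succ (Q : X.Modules) (k : ℕ) : etaQ 𝓘 Q (k + 1) ≫ tQ 𝓘 Q k = etaQ 𝓘 Q k := by
  have h := homEquiv_comm 𝓘 (𝟙 (FSch.complMod 𝓘 Q)) k
  rw [homEquiv_id_app, homEquiv_id_app] at h
  exact h

set_option maxHeartbeats 200000 in
theorem homEquiv_eq {P Q : X.Modules} (Φ : FSch.complMod 𝓘 P ⟶ FSch.complMod 𝓘 Q) (n : ℕ) :
    (Scheme.Modules.pullbackPushforwardAdjunction (FSch.completionToX X 𝓘 n)).homEquiv P
        ((FSch.complMod 𝓘 Q).F n) ((Φ : FSch.ModSys.Hom _ _).app n) =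
      etaQ 𝓘 P n ≫ (Scheme.Modules.pushforward (FSch.completionToX X 𝓘 n)).map
        ((Φ : FSch.ModSys.Hom _ _).app n) :=
  Adjunction.homEquiv_unit _ _ _ _

set_option maxHeartbeats 200000 in
theorem etaQ_naturality {P Q : X.Modules} (φ : P ⟶ Q) (n : ℕ) :
    φ ≫ etaQ 𝓘 Q n = etaQ 𝓘 P n ≫ (Scheme.Modules.pushforward (FSch.completionToX X 𝓘 n)).map
      ((FSch.complModMap 𝓘 φ : FSch.ModSys.Hom _ _).app n) :=
  (Scheme.Modules.pullbackPushforwardAdjunction (FSch.completionToX X 𝓘 n)).unit.naturality φ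

set_option maxHeartbeats 200000 in
theorem cond_iff {P Q : X.Modules} (Φ : FSch.complMod 𝓘 P ⟶ FSch.complMod 𝓘 Q) (φ : P ⟶ Q)
    (n : ℕ) :
    etaQ 𝓘 P n ≫ (Scheme.Modules.pushforward (FSch.completionToX X 𝓘 n)).map
        ((Φ : FSch.ModSys.Hom _ _).app n) = φ ≫ etaQ 𝓘 Q n ↔
      (FSch.complModMap 𝓘 φ : FSch.ModSys.Hom _ _).app n = (Φ : FSch.ModSys.Hom _ _).app n := by
  rw [etaQ_naturality, ← homEquiv_eq, ← homEquiv_eq, Equiv.apply_eq_iff_eq]
  exact eq_comm

end gen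

section ff

variable (A : Type u) [CommRing A] (J : Ideal A)

attribute [local instance 2000] lvlOver selfOver

/-- the system of direct images of the completion of a module on `Spec A` -/
noncomputable abbrev GQ (Q : (Spec (CommRingCat.of A)).Modules) :
    ℕᵒᵖ ⥤ (Spec (CommRingCat.of A)).Modules :=
  GG A J (FSch.complMod (FSch.idealSpec A J) Q)

theorem GQ_map (Q : (Spec (CommRingCat.of A)).Modules) (n : ℕ) :
    (GQ A J Q).map (homOfLE (Nat.le_succ n)).op = tQ (FSch.idealSpec A J) Q n :=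
  Fsys_τ (Spec (CommRingCat.of A)) _ _ _ (hec (FSch.idealSpec A J)) _ _ n

theorem isQuotBy_etaQ (Q : (Spec (CommRingCat.of A)).Modules) [Q.IsQuasicoherent] (k : ℕ) :
    IsQuotBy (J ^ (k + 1)) (etaQ (FSch.idealSpec A J) Q k) :=
  isQuotBy_η (Spec (CommRingCat.of A))
    (FSch.completionToX (Spec (CommRingCat.of A)) (FSch.idealSpec A J) k) (bb A J k)
    (CohB1.specQuot J k) (hpb A J k) (J ^ (k + 1)) (ker_φT_specQuot J k) Q

theorem exists_cQ (Q : (Spec (CommRingCat.of A)).Modules) [Q.IsQuasicoherent] :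
    ∃ c : Formal.completion J Q ≅ GQ A J Q, ∀ n,
      Formal.modPowπ J (n + 1) Q ≫ c.hom.app (op n) = etaQ (FSch.idealSpec A J) Q n :=
  Groth.Agent.Lib.T2H9.GE7.exists_completion_iso J Q (GQ A J Q)
    (fun n => etaQ (FSch.idealSpec A J) Q n) (isQuotBy_etaQ A J Q) (fun n => by
      rw [GQ_map]
      exact etaQ_succ (FSch.idealSpec A J) Q n)

end ff

end Groth.Agent.Lib.T2H5.AffFormal
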