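import Groth.Agent.Lib.T2H5AffFormalE
import Groth.Agent.Lib.Helper23FinType2

/-!
# Full faithfulness of the completion of coherent modules on an affine formal scheme, II (helper5)

`complModMap_bijective`, `main`.
-/

set_option autoImplicit false
set_option backward.isDefEq.respectTransparency.types false
set_option linter.style.haveILetI false
set_option linter.unusedSectionVars false
set_option linter.unusedVariables false
universe u

open CategoryTheory CategoryTheory.Limits AlgebraicGeometry TopologicalSpace Opposite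

namespace Groth.Agent.Lib.T2H5.AffFormal

open Groth.Agent.Lib.T2H5.TrivThick Groth.Agent.Lib.T2H2.AlgzB Groth.Agent.Lib.T2H9.Thick
  Groth.Agent.Lib.T2H9.FlatFib Groth.Agent.Lib.T2H9.FibQuot Groth.Agent.Lib.T2H9.Alg
  Groth.Agent.Lib.T2H5.ProjAlg Groth.Agent.Lib.T2H6.FSysBasic Groth.Agent.Lib.T2H2.AlgzD
  Groth.Agent.Lib.T2H9.GrAdic

section ff

variable (A : Type u) [CommRing A] (J : Ideal A)

attribute [local instance 2000] lvlOver selfOver

set_option maxHeartbeats 400000 in
/-- the morphism of the systems of direct images induced by a morphism of systems of modules -/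
noncomputable def sigma {P Q : (Spec (CommRingCat.of A)).Modules} [P.IsQuasicoherent]
    (Φ : FSch.complMod (FSch.idealSpec A J) P ⟶ FSch.complMod (FSch.idealSpec A J) Q) :
    GQ A J P ⟶ GQ A J Q :=
  NatTrans.ofOpSequence
    (fun k => (Scheme.Modules.pushforward
      (FSch.completionToX (Spec (CommRingCat.of A)) (FSch.idealSpec A J) k)).map
        ((Φ : FSch.ModSys.Hom _ _).app k))
    (fun n => by
      have hP : (GQ A J P).map (homOfLE (n.le_add_right 1)).op =
          tQ (FSch.idealSpec A J) P n := GQ_map A J P n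
      have hQ : (GQ A J Q).map (homOfLE (n.le_add_right 1)).op =
          tQ (FSch.idealSpec A J) Q n := GQ_map A J Q n
      rw [hP, hQ]
      haveI := (isQuotBy_etaQ A J P (n + 1)).epi
      refine (cancel_epi (etaQ (FSch.idealSpec A J) P (n + 1))).1 ?_
      have h := homEquiv_comm (FSch.idealSpec A J) Φ n
      rw [homEquiv_eq, homEquiv_eq, Category.assoc] at h
      exact ((Category.assoc _ _ _).symm.trans (congrArg
        (fun x => x ≫ (Scheme.Modules.pushforward
          (FSch.completionToX (Spec (CommRingCat.of A)) (FSch.idealSpec A J) n)).map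
            ((Φ : FSch.ModSys.Hom _ _).app n))
        (etaQ_succ (FSch.idealSpec A J) P n))).trans h.symm)

theorem sigma_app {P Q : (Spec (CommRingCat.of A)).Modules} [P.IsQuasicoherent]
    (Φ : FSch.complMod (FSch.idealSpec A J) P ⟶ FSch.complMod (FSch.idealSpec A J) Q) (k : ℕ) :
    (sigma A J Φ).app (op k) = (Scheme.Modules.pushforward
      (FSch.completionToX (Spec (CommRingCat.of A)) (FSch.idealSpec A J) k)).map
        ((Φ : FSch.ModSys.Hom _ _).app k) := rfl

set_option maxHeartbeats 400000 in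
theorem key_iff {P Q : (Spec (CommRingCat.of A)).Modules} [P.IsQuasicoherent] [Q.IsQuasicoherent]
    (cP : Formal.completion J P ≅ GQ A J P)
    (hcP : ∀ n, Formal.modPowπ J (n + 1) P ≫ cP.hom.app (op n) = etaQ (FSch.idealSpec A J) P n)
    (cQ : Formal.completion J Q ≅ GQ A J Q)
    (hcQ : ∀ n, Formal.modPowπ J (n + 1) Q ≫ cQ.hom.app (op n) = etaQ (FSch.idealSpec A J) Q n)
    (Φ : FSch.complMod (FSch.idealSpec A J) P ⟶ FSch.complMod (FSch.idealSpec A J) Q)
    (φ : P ⟶ Q) (n : ℕ) :
    Formal.modPowπ J (n + 1) P ≫ (cP.hom ≫ sigma A J Φ ≫ cQ.inv).app (op n) =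
        φ ≫ Formal.modPowπ J (n + 1) Q ↔
      (FSch.complModMap (FSch.idealSpec A J) φ : FSch.ModSys.Hom _ _).app n =
        (Φ : FSch.ModSys.Hom _ _).app n := by
  have e0 : (cP.hom ≫ sigma A J Φ ≫ cQ.inv).app (op n) =
      cP.hom.app (op n) ≫ (sigma A J Φ).app (op n) ≫ cQ.inv.app (op n) := rfl
  have h1 : Formal.modPowπ J (n + 1) P ≫ (cP.hom ≫ sigma A J Φ ≫ cQ.inv).app (op n) =
      (etaQ (FSch.idealSpec A J) P n ≫ (sigma A J Φ).app (op n)) ≫ cQ.inv.app (op n) :=
    (congrArg (fun x => Formal.modPowπ J (n + 1) P ≫ x) e0).trans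
      ((Category.assoc _ _ _).symm.trans
        ((congrArg (fun x => x ≫ ((sigma A J Φ).app (op n) ≫ cQ.inv.app (op n))) (hcP n)).trans
          (Category.assoc _ _ _).symm))
  have e1 : Formal.modPowπ J (n + 1) Q =
      etaQ (FSch.idealSpec A J) Q n ≫ (cQ.app (op n)).inv :=
    (Iso.eq_comp_inv (cQ.app (op n))).2 (hcQ n)
  have h2 : φ ≫ Formal.modPowπ J (n + 1) Q =
      (φ ≫ etaQ (FSch.idealSpec A J) Q n) ≫ cQ.inv.app (op n) :=
    (congrArg (fun x => φ ≫ x) e1).trans (Category.assoc _ _ _).symm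
  constructor
  · intro h
    have h3 : (etaQ (FSch.idealSpec A J) P n ≫ (sigma A J Φ).app (op n)) ≫ cQ.inv.app (op n) =
        (φ ≫ etaQ (FSch.idealSpec A J) Q n) ≫ cQ.inv.app (op n) := h1.symm.trans (h.trans h2)
    have h4 := (cancel_mono (cQ.inv.app (op n))).1 h3
    rw [sigma_app] at h4
    exact (cond_iff (FSch.idealSpec A J) Φ φ n).1 h4
  · intro h
    have h4 := (cond_iff (FSch.idealSpec A J) Φ φ n).2 h
    rw [← sigma_app A J Φ n] at h4
    exact h1.trans ((congrArg (fun x => x ≫ cQ.inv.app (op n)) h4).trans h2.symm)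

set_option maxHeartbeats 400000 in
theorem complModMap_bijective [IsNoetherianRing A] [IsAdicComplete J A]
    (P Q : (Spec (CommRingCat.of A)).Modules) (hP : Coh.IsCoh P) (hQ : Coh.IsCoh Q) :
    Function.Bijective (fun φ : P ⟶ Q => FSch.complModMap (FSch.idealSpec A J) φ) := by
  haveI := hP.1
  haveI := hQ.1
  obtain ⟨cP, hcP⟩ := exists_cQ A J P
  obtain ⟨cQ, hcQ⟩ := exists_cQ A J Q
  haveI : IsProper (Spec (CommRingCat.of A) ↘ Spec (CommRingCat.of A)) :=
    inferInstanceAs (IsProper (𝟙 (Spec (CommRingCat.of A))))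
  have key : ∀ (Φ : FSch.complMod (FSch.idealSpec A J) P ⟶ FSch.complMod (FSch.idealSpec A J) Q)
      (φ : P ⟶ Q), (∀ n : ℕ, Formal.modPowπ J (n + 1) P ≫
        (cP.hom ≫ sigma A J Φ ≫ cQ.inv).app (op n) = φ ≫ Formal.modPowπ J (n + 1) Q) ↔
      FSch.complModMap (FSch.idealSpec A J) φ = Φ := by
    intro Φ φ
    constructor
    · intro h
      apply FSch.ModSys.Hom.ext
      funext n
      exact (key_iff A J cP hcP cQ hcQ Φ φ n).1 (h n)
    · intro h n
      exact (key_iff A J cP hcP cQ hcQ Φ φ n).2 (by rw [h])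
  constructor
  · intro φ φ' h
    have h' : FSch.complModMap (FSch.idealSpec A J) φ =
        FSch.complModMap (FSch.idealSpec A J) φ' := h
    obtain ⟨ψ, -, huniq⟩ := Groth.Agent.S0060.result A J (Spec (CommRingCat.of A)) P Q hP hQ
      (cP.hom ≫ sigma A J (FSch.complModMap (FSch.idealSpec A J) φ) ≫ cQ.inv)
    rw [huniq φ ((key _ φ).2 rfl), huniq φ' ((key _ φ').2 h'.symm)]
  · intro Φ
    obtain ⟨φ, hφ, -⟩ := Groth.Agent.S0060.result A J (Spec (CommRingCat.of A)) P Q hP hQ
      (cP.hom ≫ sigma A J Φ ≫ cQ.inv)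
    exact ⟨φ, (key Φ φ).1 hφ⟩

/-- `u ↦ u^Δ` is bijective for finite modules over a Noetherian adically complete ring -/
theorem main [IsNoetherianRing A] [IsAdicComplete J A]
    (M N : ModuleCat.{u} A) [Module.Finite A M] [Module.Finite A N] :
    Function.Bijective (fun u : M ⟶ N ↦
      FSch.complModMap (FSch.idealSpec A J) ((tilde.functor (CommRingCat.of A)).map u)) := by
  have hM : Coh.IsCoh ((tilde.functor (CommRingCat.of A)).obj M) :=
    ⟨inferInstanceAs (tilde (R := CommRingCat.of A) M).IsQuasicoherent,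
      (Groth.Agent.Lib.Helper23.FinType.isFiniteType_tilde_iff (R := CommRingCat.of A) M).2
        inferInstance⟩
  have hN : Coh.IsCoh ((tilde.functor (CommRingCat.of A)).obj N) :=
    ⟨inferInstanceAs (tilde (R := CommRingCat.of A) N).IsQuasicoherent,
      (Groth.Agent.Lib.Helper23.FinType.isFiniteType_tilde_iff (R := CommRingCat.of A) N).2
        inferInstance⟩
  have h1 := complModMap_bijective A J _ _ hM hN
  have h2 : Function.Bijective (fun u : M ⟶ N => (tilde.functor (CommRingCat.of A)).map u) :=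
    (tilde.fullyFaithfulFunctor (R := CommRingCat.of A)).map_bijective M N
  exact h1.comp h2

end ff

end Groth.Agent.Lib.T2H5.AffFormal
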