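import Mathlib
import Groth.Agent.Lib.Helper17RDer6
set_option backward.isDefEq.respectTransparency.types false

/-!
# T2H5PushExactA: exactness of the image of an exact sequence under a left exact functor, from the vanishing of a first
derived functor (helper5)
-/

set_option autoImplicit false
set_option linter.style.haveILetI false
set_option linter.unusedSectionVars false
universe v u v' u'
open CategoryTheory CategoryTheory.Limits

namespace Groth.Agent.Lib.T2H5.PushExact

section Abstract

variable {𝒜 : Type u} [Category.{v} 𝒜] [Abelian 𝒜] {ℬ : Type u'} [Category.{v'} ℬ] [Abelian ℬ]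

/-- a left exact functor sending `X₁ ⟶ Z(C)` to an epimorphism preserves the exactness of `C` -/
theorem exact_map_of_epi_toCycles (T : 𝒜 ⥤ ℬ) [T.Additive] [PreservesFiniteLimits T] (C : ShortComplex 𝒜)
    (h : Epi (T.map C.toCycles)) : (C.map T).Exact := by
  let S' : ShortComplex 𝒜 := ShortComplex.mk C.iCycles C.g C.iCycles_g
  have hS' : S'.Exact := ShortComplex.exact_of_f_is_kernel S' C.cyclesIsKernel
  have hm : Mono S'.f := inferInstanceAs (Mono C.iCycles)
  have h1 : (S'.map T).Exact := hS'.map_of_mono_of_preservesKernel T hm inferInstance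
  let φ : C.map T ⟶ S'.map T :=
    { τ₁ := T.map C.toCycles
      τ₂ := 𝟙 _
      τ₃ := 𝟙 _
      comm₁₂ := by
        change T.map C.toCycles ≫ T.map C.iCycles = T.map C.f ≫ 𝟙 _
        rw [← T.map_comp, C.toCycles_i, Category.comp_id]
      comm₂₃ := by
        change 𝟙 _ ≫ T.map C.g = T.map C.g ≫ 𝟙 _
        rw [Category.id_comp, Category.comp_id] }
  haveI : Epi φ.τ₁ := h
  haveI : IsIso φ.τ₂ := inferInstanceAs (IsIso (𝟙 _))
  haveI : Mono φ.τ₃ := inferInstanceAs (Mono (𝟙 _))
  exact (ShortComplex.exact_iff_of_epi_of_isIso_of_mono φ).2 h1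

variable [EnoughInjectives 𝒜]

/-- for a short exact sequence whose first term has no first derived functor, a left exact functor preserves the
epimorphism -/
theorem epi_map_of_isZero_rightDerived (F : 𝒜 ⥤ ℬ) [F.Additive] [PreservesFiniteLimits F]
    (S : ShortComplex 𝒜) (hS : S.ShortExact) (h : IsZero ((F.rightDerived 1).obj S.X₁)) :
    Epi (F.map S.g) := by
  obtain ⟨T⟩ := Groth.Agent.Lib.Helper17.RDerLib.nonempty_sesRes S hS
  have hex := Groth.Agent.Lib.Helper17.RDerLib.exact₃ F T 0 1 rfl
  have h0 : T.delta F 0 1 rfl = 0 := h.eq_of_tgt _ _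
  have hepi : Epi ((F.rightDerived 0).map S.g) := hex.epi_f h0
  have hnat := F.rightDerivedZeroIsoSelf.hom.naturality S.g
  have heq : F.map S.g = (F.rightDerivedZeroIsoSelf.inv.app S.X₂ ≫ (F.rightDerived 0).map S.g) ≫
      F.rightDerivedZeroIsoSelf.hom.app S.X₃ := by
    rw [Category.assoc, hnat, ← Category.assoc, ← NatTrans.comp_app, Iso.inv_hom_id, NatTrans.id_app,
      Category.id_comp]
  rw [heq]
  haveI := hepi
  exact epi_comp _ _

end Abstract

end Groth.Agent.Lib.T2H5.PushExact
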