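import Mathlib
import Groth.Agent.Lib.T2H5PushExactA
import Groth.Agent.Lib.T2H5AmpleSerre2
import Groth.Agent.Lib.T2H5ProperSupport
import Groth.Agent.Lib.Helper23PB3
import Groth.Agent.Lib.Helper23ModAbBridge
import Groth.Agent.Lib.T2H5GenIsoB
set_option backward.isDefEq.respectTransparency.types false

/-!
# T2H5PushExactB: relative Serre vanishing for coherent modules with proper support (helper5)
-/

set_option autoImplicit false
set_option linter.style.haveILetI false
set_option linter.unusedSectionVars false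
universe u
open CategoryTheory CategoryTheory.Limits AlgebraicGeometry TopologicalSpace Opposite

namespace Groth.Agent.Lib.T2H5.PushExact

open Groth.Agent.Lib.Helper1.PT Groth.Agent.Lib.Helper21.ModTensor5 Groth.Agent.Lib.T2H5.ProjFLF
  Groth.Agent.Lib.T2H5.RpushClosed Groth.Agent.Lib.T2H5.AmpleSerre

variable {X Y Z : Scheme.{u}}

/-- the restriction of a relatively ample module to a closed subscheme is relatively ample -/
theorem isAmple_restrict_pullback_closedImmersion (i : Z ⟶ X) [IsClosedImmersion i] (f : X ⟶ Y) (L : X.Modules)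
    (W : Y.Opens) (h : CohB1.IsAmple (L.restrict (f ⁻¹ᵁ W).ι)) :
    CohB1.IsAmple (((Scheme.Modules.pullback i).obj L).restrict ((i ≫ f) ⁻¹ᵁ W).ι) := by
  haveI : IsClosedImmersion (i ∣_ (f ⁻¹ᵁ W)) :=
    MorphismProperty.of_isPullback (isPullback_morphismRestrict i (f ⁻¹ᵁ W)).flip inferInstance
  have h1 := Groth.Agent.Lib.Helper23.PB.isAmple_pullback_of_isAffineHom (i ∣_ (f ⁻¹ᵁ W)) _ h
  exact Groth.Agent.Lib.Helper23.AmpleIso.isAmple_of_iso
    (Groth.Agent.Lib.Helper23.PB.pullbackRestrictIso' i L (i ⁻¹ᵁ (f ⁻¹ᵁ W)).ι (f ⁻¹ᵁ W).ι (i ∣_ (f ⁻¹ᵁ W))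
      (morphismRestrict_ι i _)).symm h1

/-- the projection formula for a direct image and an invertible module, in the form `i_*(G ⊗ (i^*L)^n) ≅ i_*G ⊗ L^n` -/
theorem nonempty_push_tensor_tensorPow_iso (i : Z ⟶ X) (L : X.Modules) (hL : PicF.IsInvertible L) (G : Z.Modules)
    (n : ℕ) :
    Nonempty ((Scheme.Modules.pushforward i).obj
        (CohB1.tensorMod G (CohB1.tensorPow ((Scheme.Modules.pullback i).obj L) n)) ≅
      CohB1.tensorMod ((Scheme.Modules.pushforward i).obj G) (CohB1.tensorPow L n)) := by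
  haveI := hasInjectiveResolutions_modules Z
  haveI := enoughInjectives_modules Z
  haveI : (Coh.push i).Additive :=
    (Scheme.Modules.pullbackPushforwardAdjunction i).right_adjoint_additive
  haveI : PreservesLimitsOfSize.{0, 0} (Coh.push i) :=
    (Scheme.Modules.pullbackPushforwardAdjunction i).rightAdjoint_preservesLimits
  haveI : PreservesFiniteLimits (Coh.push i) := PreservesLimitsOfSize.preservesFiniteLimits _
  have hLn := Groth.Agent.Lib.Helper23.SecTw.isInvertible_tensorPow hL n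
  obtain ⟨a1⟩ := Groth.Agent.Lib.Helper23.PB.nonempty_pullback_tensorPow_iso i L hL n
  obtain ⟨a2⟩ := nonempty_projection_iso i G (CohB1.tensorPow L n)
    (Groth.Agent.Helper18PBUnit.isFinLocFree_of_isInvertible hLn) 0
  let r0 : Coh.Rpush i 0 ≅ Coh.push i := (Coh.push i).rightDerivedZeroIsoSelf
  let c1 : (Coh.push i).obj (tens G (CohB1.tensorPow ((Scheme.Modules.pullback i).obj L) n)) ≅
      (Coh.push i).obj (tens ((plb i).obj (CohB1.tensorPow L n)) G) :=
    (Coh.push i).mapIso ((DCoh.tensorBi.obj G).mapIso a1.symm ≪≫ brdApp Z.sheaf _ _)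
  let c2 : (Coh.push i).obj (tens ((plb i).obj (CohB1.tensorPow L n)) G) ≅
      tens (CohB1.tensorPow L n) ((Coh.push i).obj G) :=
    (r0.app _).symm ≪≫ a2.symm ≪≫ (DCoh.tensorBi.obj (CohB1.tensorPow L n)).mapIso (r0.app G)
  let c3 : tens (CohB1.tensorPow L n) ((Coh.push i).obj G) ≅ tens ((Coh.push i).obj G) (CohB1.tensorPow L n) :=
    brdApp X.sheaf _ _
  exact ⟨c1 ≪≫ c2 ≪≫ c3⟩

/-- **Relative Serre vanishing** for a coherent module killed by an ideal whose closed subscheme is proper over the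
base. -/
theorem exists_isZero_Rpush_of_killed (f : X ⟶ Y) [IsNoetherian Y] [IsLocallyNoetherian X]
    [HasInjectiveResolutions X.Modules]
    (L : X.Modules) (hL : PicF.IsInvertible L)
    (hamp : ∀ W : Y.Opens, IsAffineOpen W → CohB1.IsAmple (L.restrict (f ⁻¹ᵁ W).ι))
    (J : X.IdealSheafData) (hJ : IsProper (J.subschemeι ≫ f))
    (K : X.Modules) (hK : Coh.IsCoh K) (hk : ClSub.KilledByIdeal J K) :
    ∃ N : ℕ, ∀ n : ℕ, N ≤ n → ∀ q : ℕ,
      IsZero ((Coh.Rpush f (q + 1)).obj (CohB1.tensorMod K (CohB1.tensorPow L n))) := by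
  obtain ⟨G, hG, ⟨e⟩⟩ := Groth.Agent.S0786.result J.subschemeι K hK (by
    rw [Scheme.IdealSheafData.ker_subschemeι]
    exact hk)
  haveI := hJ
  have hL' : PicF.IsInvertible ((Scheme.Modules.pullback J.subschemeι).obj L) :=
    Groth.Agent.Lib.Helper23.PB.isInvertible_pullback J.subschemeι L hL
  obtain ⟨n₀, hn₀⟩ := exists_isZero_RpushAb_of_relAmple (J.subschemeι ≫ f)
    ((Scheme.Modules.pullback J.subschemeι).obj L) hL'
    (fun W hW => isAmple_restrict_pullback_closedImmersion J.subschemeι f L W (hamp W hW)) G hG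
  refine ⟨n₀, fun n hn q => ?_⟩
  haveI := hasInjectiveResolutions_modules J.subscheme
  have hz : IsZero ((Coh.Rpush (J.subschemeι ≫ f) (q + 1)).obj
      (CohB1.tensorMod G (CohB1.tensorPow ((Scheme.Modules.pullback J.subschemeι).obj L) n))) := by
    obtain ⟨ε⟩ := Groth.Agent.Lib.Helper23.ModAbBridge.nonempty_toAb_Rpush_iso (J.subschemeι ≫ f)
      (CohB1.tensorMod G (CohB1.tensorPow ((Scheme.Modules.pullback J.subschemeι).obj L) n)) (q + 1)
    exact isZero_of_isZero_toAb _ (IsZero.of_iso (hn₀ n hn q) ε)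
  obtain ⟨e2⟩ := nonempty_Rpush_comp_iso J.subschemeι f
    (CohB1.tensorMod G (CohB1.tensorPow ((Scheme.Modules.pullback J.subschemeι).obj L) n)) (q + 1)
  obtain ⟨e3⟩ := nonempty_push_tensor_tensorPow_iso J.subschemeι L hL G n
  let e4 : CohB1.tensorMod ((Scheme.Modules.pushforward J.subschemeι).obj G) (CohB1.tensorPow L n) ≅
      CohB1.tensorMod K (CohB1.tensorPow L n) := PicGrp.tensorModIso e (Iso.refl _)
  exact IsZero.of_iso (IsZero.of_iso hz e2.symm) ((Coh.Rpush f (q + 1)).mapIso (e3 ≪≫ e4).symm)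

end Groth.Agent.Lib.T2H5.PushExact
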