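import Mathlib
import Groth.Agent.Lib.T2H5PushExactB
import Groth.Agent.Lib.T2H5Twist
import Groth.Agent.Lib.Helper23Extend
set_option backward.isDefEq.respectTransparency.types false

/-!
# T2H5PushExactC: direct images of large twists of an exact sequence whose first term has proper support (helper5)
-/

set_option autoImplicit false
set_option linter.style.haveILetI false
set_option linter.unusedSectionVars false
universe u
open CategoryTheory CategoryTheory.Limits AlgebraicGeometry TopologicalSpace Opposite

namespace Groth.Agent.Lib.T2H5.PushExact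

open Groth.Agent.Lib.T2H5.AnnIdeal Groth.Agent.Lib.T2H5.RpushClosed Groth.Agent.Lib.T2H5.ProperThick
  Groth.Agent.Lib.T2H5.Twist

variable {X Y : Scheme.{u}}

/-- the closed subscheme cut out by the annihilator of a coherent module with proper support is proper over the base -/
theorem isProper_annIdeal_of_properSupport (f : X ⟶ Y) [LocallyOfFiniteType f] (F : X.Modules)
    [F.IsQuasicoherent] [SheafOfModules.IsFiniteType (R := X.ringCatSheaf) F]
    (hs : ClSub.IsProperOver f (CohB1.support F)) :
    IsProper ((annIdeal F).subschemeι ≫ f) := by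
  obtain ⟨hZ, hprop⟩ := hs
  have hsupp : ((annIdeal F).support : Set X) = CohB1.support F := support_annIdeal F
  have hle : annIdeal F ≤ Scheme.IdealSheafData.vanishingIdeal ⟨CohB1.support F, hZ⟩ := by
    rw [← Scheme.IdealSheafData.le_support_iff_le_vanishingIdeal]
    intro x hx
    change x ∈ ((annIdeal F).support : Set X)
    rw [hsupp]
    exact hx
  let g := Scheme.IdealSheafData.inclusion hle
  have hg : g ≫ (annIdeal F).subschemeι =
      (Scheme.IdealSheafData.vanishingIdeal ⟨CohB1.support F, hZ⟩).subschemeι :=
    Scheme.IdealSheafData.inclusion_subschemeι hle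
  haveI : IsClosedImmersion g := by
    haveI : IsClosedImmersion (g ≫ (annIdeal F).subschemeι) := by rw [hg]; infer_instance
    exact IsClosedImmersion.of_comp g (annIdeal F).subschemeι
  haveI : Surjective g := by
    refine ⟨fun z' => ?_⟩
    have h1 : (annIdeal F).subschemeι z' ∈
        Set.range (Scheme.IdealSheafData.vanishingIdeal ⟨CohB1.support F, hZ⟩).subschemeι := by
      rw [Scheme.IdealSheafData.range_subschemeι, Scheme.IdealSheafData.coe_support_vanishingIdeal]
      change _ ∈ CohB1.support F
      rw [← hsupp, ← Scheme.IdealSheafData.range_subschemeι]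
      exact ⟨z', rfl⟩
    obtain ⟨z, hz⟩ := h1
    refine ⟨z, ?_⟩
    apply (annIdeal F).subschemeι.isClosedEmbedding.injective
    rw [← hz, ← hg]
    rfl
  haveI : IsProper (g ≫ ((annIdeal F).subschemeι ≫ f)) := by
    rw [← Category.assoc, hg]
    exact hprop
  exact isProper_of_comp_surjective_closedImmersion g ((annIdeal F).subschemeι ≫ f)

/-- a subobject of a module killed by an ideal is killed by that ideal -/
theorem killedByIdeal_of_mono (J : X.IdealSheafData) {K F : X.Modules} (m : K ⟶ F) [Mono m]
    (h : ClSub.KilledByIdeal J F) : ClSub.KilledByIdeal J K := by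
  intro U a ha k
  apply Groth.Agent.Lib.Helper23.Extend.injective_app_of_mono m U.1
  have h1 : m.app U.1 (a • k) = a • m.app U.1 k := Scheme.Modules.Hom.app_smul m a k
  have h2 : a • m.app U.1 k = 0 := h U a ha _
  have h3 : m.app U.1 0 = 0 := map_zero _
  exact (h1.trans h2).trans h3.symm

/-- **EGA III 2.2.3-type statement**: for `L` relatively ample and an exact sequence `F → G → H` of coherent modules
with the support of `F` proper over the Noetherian base, the direct images of the large twists form an exact sequence. -/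
theorem exists_exact_push_twists (f : X ⟶ Y) [IsNoetherian Y] [LocallyOfFiniteType f]
    (L : X.Modules) (hL : PicF.IsInvertible L)
    (hamp : ∀ W : Y.Opens, IsAffineOpen W → CohB1.IsAmple (L.restrict (f ⁻¹ᵁ W).ι))
    (C : ShortComplex X.Modules) (hC : C.Exact) (h1 : Coh.IsCoh C.X₁) (h2 : Coh.IsCoh C.X₂)
    (hs1 : ClSub.IsProperOver f (CohB1.support C.X₁)) :
    ∃ N : ℕ, ∀ n : ℕ, N ≤ n →
      (C.map (DCoh.tensorRightMod (CohB1.tensorPow L n) ⋙ Coh.push f)).Exact := by
  haveI : IsLocallyNoetherian X := LocallyOfFiniteType.isLocallyNoetherian f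
  haveI := hasInjectiveResolutions_modules X
  haveI := enoughInjectives_modules X
  haveI := h1.1
  haveI : SheafOfModules.IsFiniteType (R := X.ringCatSheaf) C.X₁ := h1.2
  -- the short exact sequence `0 → K → X₁ → Z(C) → 0`
  haveI hepi : Epi C.toCycles := hC.epi_toCycles
  let S : ShortComplex X.Modules :=
    ShortComplex.mk (kernel.ι C.toCycles) C.toCycles (kernel.condition _)
  have hS : S.ShortExact :=
    haveI : Mono S.f := inferInstanceAs (Mono (kernel.ι C.toCycles))
    haveI : Epi S.g := hepi
    ShortComplex.ShortExact.mk (ShortComplex.exact_kernel C.toCycles)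
  have eK : kernel C.toCycles ≅ kernel C.f :=
    (kernelCompMono C.toCycles C.iCycles).symm ≪≫ kernelIsoOfEq C.toCycles_i
  have hK : Coh.IsCoh (kernel C.toCycles) :=
    Groth.Agent.Lib.T2H5.Devissage.isCoh_of_iso eK.symm
      (Groth.Agent.Lib.T2H5.GenIsoB.isCoh_kernel C.f h1 h2)
  have hkill : ClSub.KilledByIdeal (annIdeal C.X₁) (kernel C.toCycles) :=
    killedByIdeal_of_mono (annIdeal C.X₁) (kernel.ι C.toCycles) (killedBy_annIdeal C.X₁)
  obtain ⟨N, hN⟩ := exists_isZero_Rpush_of_killed f L hL hamp (annIdeal C.X₁)
    (isProper_annIdeal_of_properSupport f C.X₁ hs1) (kernel C.toCycles) hK hkill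
  refine ⟨N, fun n hn => ?_⟩
  have hLn := Groth.Agent.Lib.Helper23.SecTw.isInvertible_tensorPow hL n
  haveI := preservesFiniteLimits_tr hLn
  haveI := preservesFiniteColimits_tr (CohB1.tensorPow L n)
  haveI : (Coh.push f).Additive :=
    (Scheme.Modules.pullbackPushforwardAdjunction f).right_adjoint_additive
  haveI : PreservesLimitsOfSize.{0, 0} (Coh.push f) :=
    (Scheme.Modules.pullbackPushforwardAdjunction f).rightAdjoint_preservesLimits
  haveI : PreservesFiniteLimits (Coh.push f) := PreservesLimitsOfSize.preservesFiniteLimits _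
  have hS' : (S.map (tr (CohB1.tensorPow L n))).ShortExact := hS.map_of_exact (tr (CohB1.tensorPow L n))
  have hz : IsZero (((Coh.push f).rightDerived 1).obj (S.map (tr (CohB1.tensorPow L n))).X₁) := hN n hn 0
  have he : Epi ((Coh.push f).map ((tr (CohB1.tensorPow L n)).map C.toCycles)) :=
    epi_map_of_isZero_rightDerived (Coh.push f) (S.map (tr (CohB1.tensorPow L n))) hS' hz
  haveI : PreservesFiniteLimits (tr (CohB1.tensorPow L n) ⋙ Coh.push f) := inferInstance
  exact exact_map_of_epi_toCycles (tr (CohB1.tensorPow L n) ⋙ Coh.push f) C he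

end Groth.Agent.Lib.T2H5.PushExact
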