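import Mathlib
import Groth.Agent.Lib.T2H5PushExactC
import Groth.Agent.Lib.T2H5AmpleSerre
import Groth.Agent.Lib.T2H5HHSub
import Groth.Agent.Lib.T2H5IdealMul
import Groth.Agent.Lib.T2H5Devissage
import Groth.Agent.S0012
import Groth.Agent.S0786
set_option backward.isDefEq.respectTransparency.types false

/-!
# T2H5AmpleDev: dévissage of Serre vanishing along closed subschemes (helper5)

Namespace `Groth.Agent.Lib.T2H5.AmpleDev`.

`SV L M` : the twists `M ⊗ L^n` have no higher cohomology for `n ≫ 0`.  For `X` proper over a Noetherian affine scheme: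
* `sv_of_killed` : `SV L K` for coherent `K` killed by an ideal `J` such that `L|V(J)` is ample;
* `sv_of_killed_prod` : `SV L M` for coherent `M` killed by a product of such ideals.
-/

set_option autoImplicit false
set_option linter.style.haveILetI false
set_option linter.unusedSectionVars false
universe u
open CategoryTheory CategoryTheory.Limits AlgebraicGeometry TopologicalSpace Opposite

namespace Groth.Agent.Lib.T2H5.AmpleDev

open Groth.Agent.Lib.T2H5.Twist Groth.Agent.Lib.T2H5.PushExact Groth.Agent.Lib.T2H5.IdealMul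
  Groth.Agent.Lib.T2H5.Devissage

variable {X : Scheme.{u}}

/-- Serre vanishing for the twists of `M` by the powers of `L` -/
def SV (L M : X.Modules) : Prop :=
  ∃ n₀ : ℕ, ∀ n : ℕ, n₀ ≤ n → ∀ p : ℕ, 0 < p →
    Subsingleton (Coh.HH X (CohB1.tensorMod M (CohB1.tensorPow L n)) p)

theorem sv_of_iso {L M M' : X.Modules} (e : M ≅ M') (h : SV L M) : SV L M' := by
  obtain ⟨n₀, hn₀⟩ := h
  refine ⟨n₀, fun n hn p hp => ?_⟩
  exact Groth.Agent.Lib.T2H5.PnStruct.subsingleton_HH_of_iso
    (PicGrp.tensorModIso e (Iso.refl (CohB1.tensorPow L n))) p (hn₀ n hn p hp)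

theorem sv_of_shortExact {L : X.Modules} (hL : PicF.IsInvertible L) (S : ShortComplex X.Modules)
    (hS : S.ShortExact) (h1 : SV L S.X₁) (h3 : SV L S.X₃) : SV L S.X₂ := by
  obtain ⟨n1, hn1⟩ := h1
  obtain ⟨n3, hn3⟩ := h3
  refine ⟨max n1 n3, fun n hn p hp => ?_⟩
  have hLn := Groth.Agent.Lib.Helper23.SecTw.isInvertible_tensorPow hL n
  haveI := preservesFiniteLimits_tr hLn
  haveI := preservesFiniteColimits_tr (CohB1.tensorPow L n)
  have hS' : (S.map (tr (CohB1.tensorPow L n))).ShortExact := hS.map_of_exact (tr (CohB1.tensorPow L n))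
  exact Groth.Agent.Lib.T2H5.HHSub.subsingleton_X₂ _ hS' p (hn1 n (le_of_max_le_left hn) p hp)
    (hn3 n (le_of_max_le_right hn) p hp)

theorem sv_of_isZero {L M : X.Modules} (hM : IsZero M) : SV L M := by
  refine ⟨0, fun n _ p _ => ?_⟩
  haveI : (tr (CohB1.tensorPow L n)).PreservesZeroMorphisms := inferInstance
  exact Groth.Agent.Lib.T2H5.KosPn.subsingleton_HH_of_isZero
    ((tr (CohB1.tensorPow L n)).map_isZero hM) p

/-- `K · M` is killed by `P` when `M` is killed by `K * P` -/
theorem killed_idealMul (K P : X.IdealSheafData) (M : X.Modules) [M.IsQuasicoherent]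
    (h : ClSub.KilledByIdeal (K * P) M) : ClSub.KilledByIdeal P ((Dual3.idealMul K).obj M) := by
  intro U a ha t
  haveI : Mono (Dual3.idealMulι K M) := Dual3.mono_idealMulι K M
  apply Groth.Agent.Lib.Helper23.Extend.injective_app_of_mono (Dual3.idealMulι K M) U.1
  have h1 : (Dual3.idealMulι K M).app U.1 (a • t) = a • (Dual3.idealMulι K M).app U.1 t :=
    Scheme.Modules.Hom.app_smul _ a t
  have h2 : (Dual3.idealMulι K M).app U.1 t ∈ (K.ideal U • ⊤ : Submodule Γ(X, U.1) Γ(M, U.1)) :=
    (exists_idealMulι_app_eq_iff K M U _).1 ⟨t, rfl⟩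
  have h3 : ∀ s ∈ (K.ideal U • ⊤ : Submodule Γ(X, U.1) Γ(M, U.1)), a • s = 0 := by
    intro s hs
    refine Submodule.smul_induction_on hs (fun b hb m _ => ?_) (fun x y hx hy => ?_)
    · rw [← mul_smul]
      refine h U (a * b) ?_ m
      rw [Scheme.IdealSheafData.ideal_mul, Pi.mul_apply, mul_comm a b]
      exact Ideal.mul_mem_mul hb ha
    · rw [smul_add, hx, hy, add_zero]
  rw [h1, h3 _ h2]
  exact (map_zero _).symm

theorem killed_bot (M : X.Modules) : ClSub.KilledByIdeal ⊥ M := by
  intro U a ha m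
  rw [Scheme.IdealSheafData.ideal_bot] at ha
  have : a = 0 := ha
  rw [this, zero_smul]

section Proper

variable {Y : Scheme.{u}} [IsAffine Y] [IsNoetherian Y] (q : X ⟶ Y) [IsProper q]

include q

/-- Serre vanishing for a coherent module killed by an ideal on whose closed subscheme `L` is ample -/
theorem sv_of_killed (L : X.Modules) (hL : PicF.IsInvertible L) (J : X.IdealSheafData)
    (hJ : CohB1.IsAmple ((Scheme.Modules.pullback J.subschemeι).obj L))
    (K : X.Modules) (hK : Coh.IsCoh K) (hk : ClSub.KilledByIdeal J K) : SV L K := by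
  haveI : IsLocallyNoetherian X := LocallyOfFiniteType.isLocallyNoetherian q
  obtain ⟨G, hG, ⟨e⟩⟩ := Groth.Agent.S0786.result J.subschemeι K hK (by
    rw [Scheme.IdealSheafData.ker_subschemeι]
    exact hk)
  haveI : IsProper (J.subschemeι ≫ q) := inferInstance
  obtain ⟨n₀, hn₀⟩ := Groth.Agent.Lib.T2H5.AmpleSerre.serre_vanishing_of_isAmple (J.subschemeι ≫ q)
    ((Scheme.Modules.pullback J.subschemeι).obj L) hJ G hG
  refine ⟨n₀, fun n hn p hp => ?_⟩
  have h1 := hn₀ n hn p hp
  have hL' : PicF.IsInvertible ((Scheme.Modules.pullback J.subschemeι).obj L) :=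
    Groth.Agent.Lib.Helper23.PB.isInvertible_pullback J.subschemeι L hL
  haveI : G.IsQuasicoherent := hG.1
  haveI : (CohB1.tensorPow ((Scheme.Modules.pullback J.subschemeι).obj L) n).IsQuasicoherent :=
    Groth.Agent.Lib.Helper23.SecTw.isQuasicoherent_of_isInvertible _
      (Groth.Agent.Lib.Helper23.SecTw.isInvertible_tensorPow hL' n)
  haveI : Coh.IsQCoh (CohB1.tensorMod G (CohB1.tensorPow ((Scheme.Modules.pullback J.subschemeι).obj L) n)) :=
    Groth.Agent.Lib.Helper23.TensorQCoh.isQuasicoherent_tensorMod _ _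
  obtain ⟨θ⟩ := Groth.Agent.S0012.result J.subschemeι
    (CohB1.tensorMod G (CohB1.tensorPow ((Scheme.Modules.pullback J.subschemeι).obj L) n)) p
  have h2 : Subsingleton (Coh.HH X ((Coh.push J.subschemeι).obj
      (CohB1.tensorMod G (CohB1.tensorPow ((Scheme.Modules.pullback J.subschemeι).obj L) n))) p) :=
    θ.symm.toEquiv.subsingleton
  obtain ⟨e3⟩ := nonempty_push_tensor_tensorPow_iso J.subschemeι L hL G n
  let e4 : CohB1.tensorMod ((Scheme.Modules.pushforward J.subschemeι).obj G) (CohB1.tensorPow L n) ≅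
      CohB1.tensorMod K (CohB1.tensorPow L n) := PicGrp.tensorModIso e (Iso.refl _)
  exact Groth.Agent.Lib.T2H5.PnStruct.subsingleton_HH_of_iso (e3 ≪≫ e4) p h2

/-- Serre vanishing for a coherent module killed by a product of ideals on whose closed subschemes `L` is ample -/
theorem sv_of_killed_prod (L : X.Modules) (hL : PicF.IsInvertible L) (Ks : List X.IdealSheafData)
    (hKs : ∀ K ∈ Ks, CohB1.IsAmple ((Scheme.Modules.pullback K.subschemeι).obj L)) :
    ∀ M : X.Modules, Coh.IsCoh M → ClSub.KilledByIdeal Ks.prod M → SV L M := by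
  haveI : IsLocallyNoetherian X := LocallyOfFiniteType.isLocallyNoetherian q
  induction Ks with
  | nil =>
    intro M _ hk
    apply sv_of_isZero
    refine isZero_of_forall_affine M (fun U s => ?_)
    have h1 := hk U 1 (by
      rw [List.prod_nil]
      change (1 : Γ(X, U.1)) ∈ (⊤ : X.IdealSheafData).ideal U
      rw [Scheme.IdealSheafData.ideal_top]
      trivial) s
    rwa [one_smul] at h1
  | cons K Ks ih =>
    intro M hM hk
    haveI : M.IsQuasicoherent := hM.1
    rw [List.prod_cons] at hk
    let S : ShortComplex X.Modules :=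
      ShortComplex.mk (Dual3.idealMulι K M) (unit K M) (idealMulι_unit K M)
    have hS : S.ShortExact := shortExact_idealMul K M
    have h1 : SV L S.X₁ :=
      ih (fun K' hK' => hKs K' (List.mem_cons_of_mem _ hK')) _ (isCoh_idealMul K M hM)
        (killed_idealMul K Ks.prod M hk)
    have h3 : SV L S.X₃ :=
      sv_of_killed q L hL K (hKs K List.mem_cons_self) _ (isCoh_pushPull K M hM) (killed_pushPull K M)
    exact sv_of_shortExact hL S hS h1 h3

/-- **ampleness from two closed subschemes `V(I)`, `V(J)` with `I J = 0`**, given the cohomological criterion `hcrit` -/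
theorem isAmple_of_mul_eq_bot (L : X.Modules) (hL : PicF.IsInvertible L)
    (hcrit : (∀ M : X.Modules, Coh.IsCoh M → SV L M) → CohB1.IsAmple L)
    (I J : X.IdealSheafData) (hIJ : I * J = ⊥)
    (hI : CohB1.IsAmple ((Scheme.Modules.pullback I.subschemeι).obj L))
    (hJ : CohB1.IsAmple ((Scheme.Modules.pullback J.subschemeι).obj L)) : CohB1.IsAmple L := by
  apply hcrit
  intro M hM
  refine sv_of_killed_prod q L hL [I, J] ?_ M hM ?_
  · intro K hK
    simp only [List.mem_cons, List.not_mem_nil, or_false] at hK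
    rcases hK with rfl | rfl
    · exact hI
    · exact hJ
  · have : [I, J].prod = ⊥ := by
      rw [List.prod_cons, List.prod_cons, List.prod_nil, mul_one, hIJ]
    rw [this]
    exact killed_bot M

end Proper

end Groth.Agent.Lib.T2H5.AmpleDev
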