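import Mathlib
import Groth.Agent.Lib.T2H5AmpleDev
import Groth.Agent.Lib.Helper23PB
set_option backward.isDefEq.respectTransparency.types false

/-!
# T2H5AmpleComp: ampleness can be tested on the irreducible components (helper5)

Namespace `Groth.Agent.Lib.T2H5.AmpleComp`.
-/

set_option autoImplicit false
set_option linter.style.haveILetI false
set_option linter.unusedSectionVars false
universe u
open CategoryTheory CategoryTheory.Limits AlgebraicGeometry TopologicalSpace Opposite

namespace Groth.Agent.Lib.T2H5.AmpleComp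

open Groth.Agent.Lib.T2H5.AmpleDev

variable {X : Scheme.{u}}

/-- the nilradical of a Noetherian scheme is nilpotent -/
theorem exists_nilradical_pow_eq_bot [IsLocallyNoetherian X] [CompactSpace X] :
    ∃ k : ℕ, X.nilradical ^ k = ⊥ := by
  classical
  obtain ⟨t, ht⟩ := isCompact_univ.elim_finite_subcover
    (fun V : X.affineOpens => ((V : X.Opens) : Set X)) (fun V => V.1.2) (by
      intro y _
      have hy : y ∈ (⨆ V : X.affineOpens, (V : X.Opens)) := by
        rw [iSup_affineOpens_eq_top]; trivial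
      obtain ⟨V, hV⟩ := Opens.mem_iSup.1 hy
      exact Set.mem_iUnion.2 ⟨V, hV⟩)
  have hk : ∀ V : X.affineOpens, ∃ k : ℕ, (nilradical Γ(X, V.1)) ^ k = ⊥ := by
    intro V
    haveI : IsNoetherianRing Γ(X, V.1) := IsLocallyNoetherian.component_noetherian V
    exact IsNoetherianRing.isNilpotent_nilradical Γ(X, V.1)
  choose kV hkV using hk
  refine ⟨t.sup kV, ?_⟩
  rw [eq_bot_iff]
  refine Scheme.IdealSheafData.le_of_iSup_eq_top (fun V : t => V.1) ?_ (fun V => ?_)
  · rw [eq_top_iff]
    intro y _
    obtain ⟨V, hV⟩ := Set.mem_iUnion.1 (ht (Set.mem_univ y))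
    obtain ⟨hVt, hyV⟩ := Set.mem_iUnion.1 hV
    exact Opens.mem_iSup.2 ⟨⟨V, hVt⟩, hyV⟩
  · rw [Scheme.IdealSheafData.ideal_pow, Pi.pow_apply, Scheme.IdealSheafData.ideal_bot]
    have h1 : X.nilradical.ideal V.1 = nilradical Γ(X, V.1.1) := by
      change (Scheme.IdealSheafData.radical ⊥).ideal V.1 = _
      rw [Scheme.IdealSheafData.radical_ideal, Scheme.IdealSheafData.ideal_bot]
      rfl
    rw [h1]
    calc nilradical Γ(X, V.1.1) ^ t.sup kV ≤ nilradical Γ(X, V.1.1) ^ kV V.1 :=
          Ideal.pow_le_pow_right (Finset.le_sup (f := kV) V.2)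
      _ = ⊥ := hkV V.1

/-- a product of ideals is contained in each factor -/
theorem list_prod_le (Ks : List X.IdealSheafData) (K : X.IdealSheafData) (hK : K ∈ Ks) : Ks.prod ≤ K := by
  induction Ks with
  | nil => exact absurd hK List.not_mem_nil
  | cons K' Ks ih =>
    rw [List.prod_cons]
    rcases List.mem_cons.1 hK with rfl | h
    · calc K * Ks.prod ≤ K * 1 := mul_le_mul_right (le_top : Ks.prod ≤ ⊤) K
        _ = K := mul_one K
    · calc K' * Ks.prod ≤ 1 * Ks.prod := mul_le_mul_left (le_top : K' ≤ ⊤) Ks.prod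
        _ = Ks.prod := one_mul _
        _ ≤ K := ih h

theorem prod_flatten_replicate (Ks : List X.IdealSheafData) (k : ℕ) :
    (List.replicate k Ks).flatten.prod = Ks.prod ^ k := by
  induction k with
  | zero => simp
  | succ k ih =>
    rw [List.replicate_succ, List.flatten_cons, List.prod_append, ih, pow_succ, mul_comm]

section Proper

variable {Y : Scheme.{u}} [IsAffine Y] [IsNoetherian Y] (q : X ⟶ Y) [IsProper q]

include q

/-- **ampleness from the irreducible components**, given the cohomological criterion `hcrit` -/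
theorem isAmple_of_components (L : X.Modules) (hL : PicF.IsInvertible L)
    (hcrit : (∀ M : X.Modules, Coh.IsCoh M → SV L M) → CohB1.IsAmple L)
    (hcomp : ∀ Z : Closeds ↥X, (Z : Set ↥X) ∈ irreducibleComponents ↥X →
        CohB1.IsAmple ((Scheme.Modules.pullback
          (Scheme.IdealSheafData.vanishingIdeal Z).subschemeι).obj L)) : CohB1.IsAmple L := by
  classical
  haveI : IsLocallyNoetherian X := LocallyOfFiniteType.isLocallyNoetherian q
  haveI : CompactSpace X := by
    have h1 : IsCompact (q ⁻¹' (Set.univ : Set Y)) :=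
      QuasiCompact.isCompact_preimage (f := q) _ isOpen_univ isCompact_univ
    rw [Set.preimage_univ] at h1
    exact isCompact_univ_iff.1 h1
  haveI : IsNoetherian X := {}
  haveI : NoetherianSpace X := inferInstance
  have hfin : (irreducibleComponents ↥X).Finite := NoetherianSpace.finite_irreducibleComponents
  -- the components, as closed subsets
  let comps : Finset (Closeds ↥X) := hfin.toFinset.attach.image (fun Z =>
    (⟨Z.1, isClosed_of_mem_irreducibleComponents Z.1 (hfin.mem_toFinset.1 Z.2)⟩ : Closeds ↥X))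
  have hmem : ∀ Z ∈ comps, (Z : Set ↥X) ∈ irreducibleComponents ↥X := by
    intro Z hZ
    obtain ⟨W, -, rfl⟩ := Finset.mem_image.1 hZ
    exact hfin.mem_toFinset.1 W.2
  have hcov : ∀ x : X, ∃ Z ∈ comps, x ∈ (Z : Set ↥X) := by
    intro x
    have hx : x ∈ ⋃₀ irreducibleComponents ↥X := by
      rw [sUnion_irreducibleComponents]; trivial
    obtain ⟨W, hW, hxW⟩ := Set.mem_sUnion.1 hx
    refine ⟨⟨W, isClosed_of_mem_irreducibleComponents W hW⟩, ?_, hxW⟩
    exact Finset.mem_image.2 ⟨⟨W, hfin.mem_toFinset.2 hW⟩, Finset.mem_attach _ _, rfl⟩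
  let Ks₀ : List X.IdealSheafData := comps.toList.map Scheme.IdealSheafData.vanishingIdeal
  have hKs₀ : ∀ K ∈ Ks₀, CohB1.IsAmple ((Scheme.Modules.pullback K.subschemeι).obj L) := by
    intro K hK
    obtain ⟨Z, hZ, rfl⟩ := List.mem_map.1 hK
    exact hcomp Z (hmem Z (Finset.mem_toList.1 hZ))
  -- the product of the ideals of the components is contained in the nilradical
  have hle : Ks₀.prod ≤ X.nilradical := by
    rw [← Scheme.IdealSheafData.vanishingIdeal_top]
    have htop : (⊤ : Closeds ↥X) = ⨆ Z : comps, (Z : Closeds ↥X) := by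
      apply le_antisymm
      · intro x _
        obtain ⟨Z, hZ, hxZ⟩ := hcov x
        have : (Z : Closeds ↥X) ≤ ⨆ Z : comps, (Z : Closeds ↥X) := le_iSup (fun Z : comps => (Z : Closeds ↥X)) ⟨Z, hZ⟩
        exact this hxZ
      · exact le_top
    rw [htop, Scheme.IdealSheafData.vanishingIdeal_iSup]
    refine le_iInf (fun Z => ?_)
    exact list_prod_le Ks₀ _ (List.mem_map.2 ⟨Z.1, Finset.mem_toList.2 Z.2, rfl⟩)
  obtain ⟨k, hk⟩ := exists_nilradical_pow_eq_bot (X := X)
  apply hcrit
  intro M hM
  refine sv_of_killed_prod q L hL (List.replicate k Ks₀).flatten ?_ M hM ?_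
  · intro K hK
    obtain ⟨l, hl, hKl⟩ := List.mem_flatten.1 hK
    rw [List.eq_of_mem_replicate hl] at hKl
    exact hKs₀ K hKl
  · have h0 : (List.replicate k Ks₀).flatten.prod = ⊥ := by
      rw [prod_flatten_replicate, eq_bot_iff, ← hk]
      exact pow_le_pow_left' hle k
    rw [h0]
    exact killed_bot M

end Proper

end Groth.Agent.Lib.T2H5.AmpleComp
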