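import Mathlib
import Groth.Agent.Lib.Helper23PB2
import Groth.Agent.Lib.Helper23SecTw9
import Groth.Agent.Lib.Helper23QAffSec
import Groth.Agent.Lib.Helper13QcqsBC
import Groth.Agent.Lib.Helper12QuasiAffineDescent
import Groth.Agent.Lib.Helper12Descent
import Groth.Agent.Lib.Helper23Restr2
import Groth.Agent.S2350

/-!
# Flat descent of ampleness over an affine base (helper5)

* `isAmple_of_quasiAffine_genLocus`: an invertible module is ample as soon as the quasi-affine `X_s` cover.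
* `exists_mem_genLocus_of_sum`: if a combination of pulled-back sections generates at a point, one of the
  sections generates at the image point.
* `isAmple_of_isAmple_pullback_flat`: ampleness descends along a flat surjective base change of affine bases.
-/

set_option autoImplicit false
set_option backward.isDefEq.respectTransparency.types false
set_option linter.style.haveILetI false
set_option linter.unusedSectionVars false
set_option linter.unusedVariables false
universe u

open CategoryTheory CategoryTheory.Limits AlgebraicGeometry Opposite TopologicalSpace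

namespace Groth.Agent.Lib.T2H5.AmpleDesc

open Groth.Agent.Lib.Helper6 Groth.Agent.Lib.Helper23.SecTw Groth.Agent.Lib.Helper23.GenLocus
open Groth.Agent.Lib.Helper23.AmpleIso Groth.Agent.Lib.Helper23.PB Groth.Agent.Helper13PullbackUnit

section quasiAffineCover

variable {Z : Scheme.{u}}

/-- an invertible module is ample as soon as the quasi-affine opens `Z_s` cover `Z` -/
theorem isAmple_of_quasiAffine_genLocus [CompactSpace Z] (L : Z.Modules) (hinv : PicF.IsInvertible L)
    (key : ∀ z : Z, ∃ (n : ℕ) (s' : Coh.structureModule Z ⟶ CohB1.tensorPow L (n + 1)),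
      z ∈ CohB1.genLocus _ s' ∧ Scheme.IsQuasiAffine ((CohB1.genLocus _ s' : Z.Opens) : Scheme.{u})) :
    CohB1.IsAmple L := by
  haveI : QuasiSeparatedSpace Z := by
    refine quasiSeparatedSpace_of_opens_cover Z (fun z => ?_)
    obtain ⟨n, s', hzs', hq⟩ := key z
    refine ⟨CohB1.genLocus _ s', hzs', ?_, fun P => ?_⟩
    · haveI := hq
      exact (inferInstance : QuasiSeparatedSpace ↥((CohB1.genLocus _ s' : Z.Opens) : Scheme.{u}))
    · exact (isAffineOpen_inf_genLocus _ (isInvertible_tensorPow hinv (n + 1)) s' _ P.2).isCompact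
  refine ⟨hinv, inferInstance, fun z => ?_⟩
  obtain ⟨n, s', hzs', hq⟩ := key z
  haveI := hq
  obtain ⟨r, hzr, -, hraff⟩ := exists_basicOpen_of_finite (X := ((CohB1.genLocus _ s' : Z.Opens) : Scheme.{u}))
    ⊤ {(⟨z, hzs'⟩ : ↥((CohB1.genLocus _ s' : Z.Opens) : Scheme.{u}))} (Set.finite_singleton _) (fun _ _ => trivial)
  obtain ⟨r', hr'⟩ : ∃ r' : Γ(Z, CohB1.genLocus _ s'), r' = (CohB1.genLocus _ s').topIso.hom r := ⟨_, rfl⟩
  obtain ⟨m, τ, hτ⟩ := exists_section_genLocus_eq_basicOpen _ (isInvertible_tensorPow hinv (n + 1)) s' r'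
  have himg : (CohB1.genLocus _ s').ι ''ᵁ
      (((CohB1.genLocus _ s' : Z.Opens) : Scheme.{u}).basicOpen r) = Z.basicOpen r' := by
    have h1 := Scheme.Opens.ι_image_basicOpen_topIso_inv (U := CohB1.genLocus _ s') r'
    rw [hr'] at h1
    have h2 : (CohB1.genLocus _ s').topIso.inv ((CohB1.genLocus _ s').topIso.hom r) = r := by
      rw [← CommRingCat.comp_apply, Iso.hom_inv_id]
      rfl
    rw [h2] at h1
    rw [hr']
    exact h1
  obtain ⟨N', hN'⟩ : ∃ N', (n + 1) * (m + 1) = N' + 1 := ⟨(n + 1) * (m + 1) - 1, by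
    have : 0 < (n + 1) * (m + 1) := Nat.mul_pos (Nat.succ_pos n) (Nat.succ_pos m)
    omega⟩
  obtain ⟨Φ⟩ := nonempty_tensorPow_tensorPow_iso _ hinv (n + 1) (m + 1) (N' + 1) hN'
  refine ⟨N', τ ≫ Φ.hom, ?_, ?_⟩
  · rw [genLocus_comp_iso, hτ, ← himg]
    exact ⟨⟨z, hzs'⟩, hzr rfl, rfl⟩
  · rw [genLocus_comp_iso, hτ, ← himg]
    exact hraff.image_of_isOpenImmersion _

end quasiAffineCover

section sums

variable {X X' : Scheme.{u}} (p : X' ⟶ X) (F : X.Modules)

/-- if a combination of pulled-back global sections generates the pullback at a point, then one of the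
sections generates at the image point -/
theorem exists_mem_genLocus_of_sum (hF : PicF.IsInvertible F)
    (t : Coh.structureModule X' ⟶ (Scheme.Modules.pullback p).obj F)
    (V' : X'.Opens) (hle : V' ≤ p ⁻¹ᵁ ⊤)
    {κ : Type*} (S : Finset κ) (c : κ → Γ(X', V')) (a : κ → Γ(F, ⊤))
    (ht : sv t V' = ∑ i ∈ S, c i • unitSec p F hle (a i))
    (x' : X') (hx'V : x' ∈ V') (hx' : x' ∈ CohB1.genLocus _ t) :
    ∃ i ∈ S, p x' ∈ CohB1.genLocus F (secHom F (a i)) := by
  classical
  haveI : F.IsQuasicoherent := isQuasicoherent_of_isInvertible F hF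
  obtain ⟨W₀, e, hxW₀, hW₀aff, he⟩ := exists_affine_gen F hF (p x')
  have hγ := isGen_unitSec p F hW₀aff e he
  let A' : X'.Opens := V' ⊓ p ⁻¹ᵁ W₀
  have hA1 : A' ≤ V' := inf_le_left
  have hA2 : A' ≤ p ⁻¹ᵁ W₀ := inf_le_right
  have hxA' : x' ∈ A' := ⟨hx'V, hxW₀⟩
  let α : κ → Γ(X, W₀) := fun i => coef he le_rfl (res F le_top (a i))
  have hα : ∀ i, res F le_top (a i) = α i • e := by
    intro i
    have h := coef_spec he le_rfl (res F le_top (a i))
    rw [Groth.Agent.Lib.Helper23.SecTw.res_self] at h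
    exact h.symm
  have h1 : ∀ i, res ((Scheme.Modules.pullback p).obj F) hA1 (unitSec p F hle (a i)) =
      p.appLE W₀ A' hA2 (α i) • res ((Scheme.Modules.pullback p).obj F) hA2 (unitSec p F le_rfl e) := by
    intro i
    rw [res_unitSec p F hle hA2 le_top hA1 (a i), hα i, unitSec_smul,
      res_unitSec p F le_rfl hA2 le_rfl hA2 e, Groth.Agent.Lib.Helper23.SecTw.res_self]
  let f' : Γ(X', A') := ∑ i ∈ S, resf hA1 (c i) * p.appLE W₀ A' hA2 (α i)
  have h2 : sv t A' = f' • res ((Scheme.Modules.pullback p).obj F) hA2 (unitSec p F le_rfl e) := by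
    rw [← res_sv t hA1, ht]
    change (((Scheme.Modules.pullback p).obj F).presheaf.map (homOfLE hA1).op).hom _ = _
    rw [map_sum, Finset.sum_smul]
    refine Finset.sum_congr rfl (fun i _ => ?_)
    change res ((Scheme.Modules.pullback p).obj F) hA1 (c i • unitSec p F hle (a i)) = _
    rw [res_smul, h1 i, mul_smul]
  have h3 := genLocus_inf_eq_of_isGen _ t A' _ f' (hγ.mono hA2) h2
  have hx3 : x' ∈ X'.basicOpen f' := by
    rw [← h3]
    exact ⟨hx', hxA'⟩
  have hunit : IsUnit (X'.presheaf.germ A' x' hxA' f') := (X'.mem_basicOpen f' x' hxA').1 hx3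
  by_contra hcon0
  have hcon : ∀ i ∈ S, p x' ∉ CohB1.genLocus F (secHom F (a i)) := fun i hi h => hcon0 ⟨i, hi, h⟩
  apply (IsLocalRing.mem_maximalIdeal _).1 ?_ hunit
  change X'.presheaf.germ A' x' hxA' (∑ i ∈ S, resf hA1 (c i) * p.appLE W₀ A' hA2 (α i)) ∈ _
  rw [map_sum]
  refine Ideal.sum_mem _ (fun i hi => ?_)
  rw [map_mul]
  refine Ideal.mul_mem_left _ _ ?_
  rw [IsLocalRing.mem_maximalIdeal]
  intro hu
  apply hcon i hi
  have h4 : x' ∈ X'.basicOpen (p.appLE W₀ A' hA2 (α i)) := (X'.mem_basicOpen _ x' hxA').2 hu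
  have h5 : p x' ∈ X.basicOpen (α i) := by
    have h6 : X'.basicOpen (p.appLE W₀ A' hA2 (α i)) = A' ⊓ p ⁻¹ᵁ X.basicOpen (α i) := by
      rw [Scheme.Hom.appLE]
      change X'.basicOpen ((X'.presheaf.map (homOfLE hA2).op).hom ((p.app W₀).hom (α i))) = _
      rw [Scheme.basicOpen_res, Scheme.preimage_basicOpen]
    rw [h6] at h4
    exact h4.2
  have h7 := genLocus_inf_eq_of_isGen F (secHom F (a i)) W₀ e (α i) he (by rw [sv_secHom]; exact hα i)
  rw [← h7] at h5
  exact h5.1

end sums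

section main

open Groth.Agent.Helper13QcqsBC Groth.Agent.Helper13FlatMV Groth.Agent.Lib.Helper12

variable {X Y Y' : Scheme.{u}} [IsAffine Y] [IsAffine Y'] (f : X ⟶ Y) (g : Y' ⟶ Y)

/-- **Ampleness descends** along a flat surjective base change of affine bases. -/
theorem isAmple_of_isAmple_pullback_flat [QuasiCompact f] [Flat g] [Surjective g] (L : X.Modules)
    (hL : PicF.IsInvertible L)
    (h : CohB1.IsAmple ((Scheme.Modules.pullback (pullback.fst f g)).obj L)) : CohB1.IsAmple L := by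
  classical
  let p : pullback f g ⟶ X := pullback.fst f g
  let q : pullback f g ⟶ Y' := pullback.snd f g
  have hpb : IsPullback p q f g := IsPullback.of_hasPullback f g
  haveI : CompactSpace X := QuasiCompact.compactSpace_of_compactSpace f
  haveI : CompactSpace ↥(pullback f g) := h.2.1
  haveI : (pullback f g).IsSeparated := isSeparated_of_isAmple _ h
  haveI : QuasiSeparatedSpace ↥(pullback f g) := quasiSeparatedSpace_of_isAmple _ h
  have hqs : QuasiSeparated q := by
    rw [quasiSeparated_iff_quasiSeparatedSpace]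
    infer_instance
  have hcov : (@Surjective ⊓ @Flat ⊓ @QuasiCompact : MorphismProperty Scheme.{u}) g :=
    ⟨⟨inferInstance, inferInstance⟩, inferInstance⟩
  haveI hfqs : QuasiSeparated f := (descendsAlong_quasiSeparated).of_isPullback hpb.flip hcov hqs
  haveI : QuasiSeparatedSpace X := quasiSeparatedSpace_of_quasiSeparated f
  haveI : Surjective p := MorphismProperty.pullback_fst (P := @Surjective) f g inferInstance
  refine isAmple_of_quasiAffine_genLocus L hL (fun x => ?_)
  obtain ⟨x', hx'⟩ := p.surjective x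
  obtain ⟨n, s', hx's', -⟩ := h.2.2 x'
  obtain ⟨Φ⟩ := nonempty_pullback_tensorPow_iso p L hL (n + 1)
  let F : X.Modules := CohB1.tensorPow L (n + 1)
  have hF : PicF.IsInvertible F := isInvertible_tensorPow hL (n + 1)
  haveI : F.IsQuasicoherent := isQuasicoherent_of_isInvertible F hF
  let t : Coh.structureModule (pullback f g) ⟶ (Scheme.Modules.pullback p).obj F := s' ≫ Φ.symm.hom
  have ht : CohB1.genLocus _ t = CohB1.genLocus _ s' := genLocus_comp_iso Φ.symm s'
  have hle : (⊤ : Y'.Opens) ≤ g ⁻¹ᵁ ⊤ := fun _ _ => trivial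
  have hW : (⊤ : X.Opens) ≤ f ⁻¹ᵁ ⊤ := fun _ _ => trivial
  have hqsX : IsQuasiSeparated ((f ⁻¹ᵁ ⊤ : X.Opens) : Set X) := by
    have : ((f ⁻¹ᵁ ⊤ : X.Opens) : Set X) = Set.univ := rfl
    rw [this]
    exact isQuasiSeparated_univ
  have hbij := KBij_of_qcqs f g p q hpb F hle (isAffineOpen_top Y) (isAffineOpen_top Y')
    (g.flat_appLE (isAffineOpen_top Y) (isAffineOpen_top Y') hle) hqsX ⊤ isCompact_univ hW
  letI : Algebra Γ(Y, ⊤) Γ(Y', ⊤) := (g.appLE ⊤ ⊤ hle).hom.toAlgebra
  obtain ⟨z, hz⟩ := hbij.2 (sv t (Vp p q ⊤ ⊤))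
  obtain ⟨S, rfl⟩ := TensorProduct.exists_finset z
  rw [map_sum] at hz
  have hxVp : x' ∈ Vp p q (⊤ : Y'.Opens) (⊤ : X.Opens) := ⟨trivial, trivial⟩
  obtain ⟨i, hiS, hi⟩ := exists_mem_genLocus_of_sum p F hF t (Vp p q ⊤ ⊤) inf_le_left S
    (fun i => q.appLE ⊤ (Vp p q ⊤ ⊤) inf_le_right i.1) (fun i => i.2) hz.symm x' hxVp
    (by rw [ht]; exact hx's')
  rw [hx'] at hi
  let s : Coh.structureModule X ⟶ CohB1.tensorPow L (n + 1) := secHom F i.2
  refine ⟨n, s, hi, ?_⟩
  -- quasi-affineness of `X_s` by descent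
  let U : X.Opens := CohB1.genLocus F s
  obtain ⟨s'', hs''⟩ := exists_pullback_section p L hL (n + 1) s
  haveI hA : (p ⁻¹ᵁ U : Scheme.{u}).IsQuasiAffine := by
    have h1 := isQuasiAffine_genLocus _ h n s''
    rw [hs''] at h1
    exact h1
  haveI : IsAffineHom U.ι := Groth.Agent.S2350.result X F hF s
  haveI : CompactSpace ↥(U : Scheme.{u}) := QuasiCompact.compactSpace_of_compactSpace U.ι
  haveI : QuasiSeparatedSpace ↥(U : Scheme.{u}) := quasiSeparatedSpace_of_quasiSeparated U.ι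
  have hsq : IsPullback ((p ⁻¹ᵁ U).ι ≫ q) (p ∣_ U) g (U.ι ≫ f) :=
    (isPullback_morphismRestrict p U).flip.paste_horiz hpb.flip
  haveI : QuasiCompact (U.ι ≫ f) := by
    rw [quasiCompact_iff_compactSpace]
    infer_instance
  haveI : QuasiCompact ((p ⁻¹ᵁ U).ι ≫ q) :=
    MorphismProperty.of_isPullback (P := @QuasiCompact) hsq.flip inferInstance
  refine isQuasiAffine_of_isPullback hsq (fun W hW' => ?_)
  haveI : CompactSpace ↥((((p ⁻¹ᵁ U).ι ≫ q) ⁻¹ᵁ W : (p ⁻¹ᵁ U : Scheme.{u}).Opens) : Scheme.{u}) :=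
    isCompact_iff_compactSpace.mp
      (QuasiCompact.isCompact_preimage (f := (p ⁻¹ᵁ U).ι ≫ q) _ W.isOpen hW'.isCompact)
  exact Scheme.IsQuasiAffine.of_isImmersion (((p ⁻¹ᵁ U).ι ≫ q) ⁻¹ᵁ W).ι

end main

end Groth.Agent.Lib.T2H5.AmpleDesc
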