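import Mathlib
import Groth.Agent.Lib.T2H5AmpleDesc
import Groth.Agent.Lib.Helper2IndQA
import Groth.Agent.Lib.Helper23Restr

/-!
# Flat descent of relative ampleness, part B (helper5)

* `exists_section_of_isAmple_pullback`: a section of a power of `L` not vanishing at a given point, from ampleness
  after a flat affine base change (abstract pullback square).
* `isQuasiAffine_preimage_symm`: `A ∩ B` as an open of `A` or of `B`.
* `isAmple_of_isRelAmple_isPullback`: over an affine base, ampleness descends along a quasi-compact flat surjective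
  base change whose pulled-back module is relatively ample.
-/

set_option autoImplicit false
set_option backward.isDefEq.respectTransparency.types false
set_option linter.style.haveILetI false
set_option linter.unusedSectionVars false
set_option linter.unusedVariables false
universe u

open CategoryTheory CategoryTheory.Limits AlgebraicGeometry Opposite TopologicalSpace

namespace Groth.Agent.Lib.T2H5.AmpleDesc

open Groth.Agent.Lib.Helper6 Groth.Agent.Lib.Helper23.SecTw Groth.Agent.Lib.Helper23.GenLocus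
open Groth.Agent.Lib.Helper23.AmpleIso Groth.Agent.Lib.Helper23.PB Groth.Agent.Helper13PullbackUnit
open Groth.Agent.Helper13QcqsBC Groth.Agent.Helper13FlatMV Groth.Agent.Lib.Helper12 Groth.Agent.Lib.Helper2

section sectionA

variable {X X₁ Y Y₁ : Scheme.{u}} [IsAffine Y] [IsAffine Y₁]
  {p₁ : X₁ ⟶ X} {q₁ : X₁ ⟶ Y₁} {f : X ⟶ Y} {g₁ : Y₁ ⟶ Y}

theorem exists_section_of_isAmple_pullback (hpb : IsPullback p₁ q₁ f g₁) [Flat g₁]
    [CompactSpace X] [QuasiSeparatedSpace X] (L : X.Modules) (hL : PicF.IsInvertible L)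
    (h : CohB1.IsAmple ((Scheme.Modules.pullback p₁).obj L)) (x' : X₁) :
    ∃ (n : ℕ) (s : Coh.structureModule X ⟶ CohB1.tensorPow L (n + 1)), p₁ x' ∈ CohB1.genLocus _ s := by
  classical
  obtain ⟨n, s', hx's', -⟩ := h.2.2 x'
  obtain ⟨Φ⟩ := nonempty_pullback_tensorPow_iso p₁ L hL (n + 1)
  let F : X.Modules := CohB1.tensorPow L (n + 1)
  have hF : PicF.IsInvertible F := isInvertible_tensorPow hL (n + 1)
  haveI : F.IsQuasicoherent := isQuasicoherent_of_isInvertible F hF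
  let t : Coh.structureModule X₁ ⟶ (Scheme.Modules.pullback p₁).obj F := s' ≫ Φ.symm.hom
  have ht : CohB1.genLocus _ t = CohB1.genLocus _ s' := genLocus_comp_iso Φ.symm s'
  have hle : (⊤ : Y₁.Opens) ≤ g₁ ⁻¹ᵁ ⊤ := fun _ _ => trivial
  have hW : (⊤ : X.Opens) ≤ f ⁻¹ᵁ ⊤ := fun _ _ => trivial
  have hqsX : IsQuasiSeparated ((f ⁻¹ᵁ ⊤ : X.Opens) : Set X) := by
    have : ((f ⁻¹ᵁ ⊤ : X.Opens) : Set X) = Set.univ := rfl
    rw [this]
    exact isQuasiSeparated_univ
  have hbij := KBij_of_qcqs f g₁ p₁ q₁ hpb F hle (isAffineOpen_top Y) (isAffineOpen_top Y₁)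
    (g₁.flat_appLE (isAffineOpen_top Y) (isAffineOpen_top Y₁) hle) hqsX ⊤ isCompact_univ hW
  letI : Algebra Γ(Y, ⊤) Γ(Y₁, ⊤) := (g₁.appLE ⊤ ⊤ hle).hom.toAlgebra
  obtain ⟨z, hz⟩ := hbij.2 (sv t (Vp p₁ q₁ ⊤ ⊤))
  obtain ⟨S, rfl⟩ := TensorProduct.exists_finset z
  rw [map_sum] at hz
  have hxVp : x' ∈ Vp p₁ q₁ (⊤ : Y₁.Opens) (⊤ : X.Opens) := ⟨trivial, trivial⟩
  obtain ⟨i, hiS, hi⟩ := exists_mem_genLocus_of_sum p₁ F hF t (Vp p₁ q₁ ⊤ ⊤) inf_le_left S
    (fun i => q₁.appLE ⊤ (Vp p₁ q₁ ⊤ ⊤) inf_le_right i.1) (fun i => i.2) hz.symm x' hxVp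
    (by rw [ht]; exact hx's')
  exact ⟨n, secHom F i.2, hi⟩

end sectionA

section symm

variable {X : Scheme.{u}}

theorem isQuasiAffine_preimage_symm (A B : X.Opens)
    (h : Scheme.IsQuasiAffine ((A.ι ⁻¹ᵁ B : (A : Scheme.{u}).Opens) : Scheme.{u})) :
    Scheme.IsQuasiAffine ((B.ι ⁻¹ᵁ A : (B : Scheme.{u}).Opens) : Scheme.{u}) := by
  have e1 : A.ι ''ᵁ (A.ι ⁻¹ᵁ B) = B.ι ''ᵁ (B.ι ⁻¹ᵁ A) := by
    rw [Scheme.Hom.image_preimage_eq_opensRange_inf, Scheme.Hom.image_preimage_eq_opensRange_inf,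
      Scheme.Opens.opensRange_ι, Scheme.Opens.opensRange_ι, inf_comm]
  haveI := h
  have h1 : Scheme.IsQuasiAffine ((A.ι ''ᵁ (A.ι ⁻¹ᵁ B) : X.Opens) : Scheme.{u}) :=
    isQuasiAffine_of_iso (A.ι.isoImage (A.ι ⁻¹ᵁ B)).symm
  have h2 : Scheme.IsQuasiAffine ((B.ι ''ᵁ (B.ι ⁻¹ᵁ A) : X.Opens) : Scheme.{u}) :=
    isQuasiAffine_of_eq e1.symm h1
  haveI := h2
  exact isQuasiAffine_of_iso (B.ι.isoImage (B.ι ⁻¹ᵁ A))

end symm

section main

variable {X X' Y Y' : Scheme.{u}} [IsAffine Y]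
  {p : X' ⟶ X} {q : X' ⟶ Y'} {f : X ⟶ Y} {g : Y' ⟶ Y}

/-- the restriction of a pullback to an open, as a pullback along the composite -/
noncomputable def restrictPullbackIso (p : X' ⟶ X) (L : X.Modules) (B : X'.Opens) :
    ((Scheme.Modules.pullback p).obj L).restrict B.ι ≅ (Scheme.Modules.pullback (B.ι ≫ p)).obj L :=
  (Scheme.Modules.restrictFunctorIsoPullback B.ι).app _ ≪≫ (Scheme.Modules.pullbackComp B.ι p).app L

/-- **Relative ampleness descends** along a quasi-compact flat surjective base change, over an affine base. -/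
theorem isAmple_of_isRelAmple_isPullback (hpb : IsPullback p q f g)
    [QuasiCompact f] [Flat g] [Surjective g] [QuasiCompact g] (L : X.Modules) (hL : PicF.IsInvertible L)
    (h : ∀ V' : Y'.Opens, IsAffineOpen V' →
      CohB1.IsAmple (((Scheme.Modules.pullback p).obj L).restrict (q ⁻¹ᵁ V').ι)) :
    CohB1.IsAmple L := by
  classical
  haveI : CompactSpace X := QuasiCompact.compactSpace_of_compactSpace f
  have hL' : PicF.IsInvertible ((Scheme.Modules.pullback p).obj L) := isInvertible_pullback p L hL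
  have hqs : QuasiSeparated q := by
    rw [HasAffineProperty.eq_targetAffineLocally (P := @QuasiSeparated)]
    intro V'
    exact quasiSeparatedSpace_of_isAmple _ (h V'.1 V'.2)
  have hcov : (@Surjective ⊓ @Flat ⊓ @QuasiCompact : MorphismProperty Scheme.{u}) g :=
    ⟨⟨inferInstance, inferInstance⟩, inferInstance⟩
  haveI hfqs : QuasiSeparated f := (descendsAlong_quasiSeparated).of_isPullback hpb.flip hcov hqs
  haveI : QuasiSeparatedSpace X := quasiSeparatedSpace_of_quasiSeparated f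
  haveI : Surjective p := MorphismProperty.of_isPullback (P := @Surjective) hpb.flip inferInstance
  refine isAmple_of_quasiAffine_genLocus L hL (fun x => ?_)
  obtain ⟨x', hx'⟩ := p.surjective x
  obtain ⟨V', hV', hqV', -⟩ := exists_isAffineOpen_mem_and_subset (X := Y') (x := q x') (U := ⊤) trivial
  haveI : IsAffine (V' : Scheme.{u}) := hV'
  have hsq₁ : IsPullback ((q ⁻¹ᵁ V').ι ≫ p) (q ∣_ V') f (V'.ι ≫ g) :=
    (isPullback_morphismRestrict q V').flip.paste_horiz hpb
  have hamp₁ : CohB1.IsAmple ((Scheme.Modules.pullback ((q ⁻¹ᵁ V').ι ≫ p)).obj L) :=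
    isAmple_of_iso (restrictPullbackIso p L (q ⁻¹ᵁ V')) (h V' hV')
  obtain ⟨n, s, hs⟩ := exists_section_of_isAmple_pullback hsq₁ L hL hamp₁ ⟨x', hqV'⟩
  have hxs : x ∈ CohB1.genLocus _ s := by
    rw [← hx']
    exact hs
  refine ⟨n, s, hxs, ?_⟩
  -- quasi-affineness of `X_s` by descent
  let F : X.Modules := CohB1.tensorPow L (n + 1)
  have hF : PicF.IsInvertible F := isInvertible_tensorPow hL (n + 1)
  let U : X.Opens := CohB1.genLocus F s
  obtain ⟨s'', hs''⟩ := exists_pullback_section p L hL (n + 1) s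
  haveI : IsAffineHom U.ι := Groth.Agent.S2350.result X F hF s
  haveI : CompactSpace ↥(U : Scheme.{u}) := QuasiCompact.compactSpace_of_compactSpace U.ι
  haveI : QuasiSeparatedSpace ↥(U : Scheme.{u}) := quasiSeparatedSpace_of_quasiSeparated U.ι
  have hsq : IsPullback ((p ⁻¹ᵁ U).ι ≫ q) (p ∣_ U) g (U.ι ≫ f) :=
    (isPullback_morphismRestrict p U).flip.paste_horiz hpb.flip
  haveI : QuasiCompact (U.ι ≫ f) := by
    rw [quasiCompact_iff_compactSpace]
    infer_instance
  refine isQuasiAffine_of_isPullback hsq (fun W' hW' => ?_)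
  -- on `q⁻¹ W'` the module is ample
  have hampW := h W' hW'
  haveI : CompactSpace ↥((q ⁻¹ᵁ W' : X'.Opens) : Scheme.{u}) := hampW.2.1
  obtain ⟨Ψ⟩ := nonempty_restrict_tensorPow_iso ((Scheme.Modules.pullback p).obj L) hL' (q ⁻¹ᵁ W') (n + 1)
  have h1 := isQuasiAffine_genLocus _ hampW n (restrSec s'' (q ⁻¹ᵁ W') ≫ Ψ.hom)
  rw [genLocus_comp_iso, genLocus_restrSec, hs''] at h1
  exact isQuasiAffine_preimage_symm (q ⁻¹ᵁ W') (p ⁻¹ᵁ U) h1

end main

end Groth.Agent.Lib.T2H5.AmpleDesc
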