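import Mathlib
import Groth.Agent.Lib.T2H5CosLocusC
import Groth.Agent.Lib.Helper23PB
import Groth.Agent.Lib.Helper23SecTw7
import Groth.Agent.Lib.Helper23AmpleIso
import Groth.Agent.Lib.Helper18FinFlat1
set_option backward.isDefEq.respectTransparency.types false

/-!
# T2H5AmpleLimA: ampleness of a pullback to a limit holds at a stage (helper5)

Namespace `Groth.Agent.Lib.T2H5.AmpleLim`.

* `isCompact_genLocus`: on a quasi-compact scheme the locus `X_s` of a section of an invertible module is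
  quasi-compact.
* `exists_isAffineOpen_stage`: a quasi-compact open of a stage with affine preimage in the limit has affine
  preimage at a later stage.
* `exists_section_stage`: a section of a power of the pulled back invertible module descends to a stage,
  compatibly with the loci.
* `exists_isAmple_stage`: **S9223**.
-/

set_option autoImplicit false
set_option linter.style.haveILetI false
set_option linter.unusedSectionVars false
universe u
open CategoryTheory CategoryTheory.Limits AlgebraicGeometry TopologicalSpace Opposite Topology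

namespace Groth.Agent.Lib.T2H5.AmpleLim

open Groth.Agent.Lib.Helper23.SecTw Groth.Agent.Lib.Helper23.GenLocus Groth.Agent.Lib.Helper6
open Groth.Agent.Lib.Helper23.PB Groth.Agent.Lib.T2H5.ModLimB Groth.Agent.Lib.Helper23.AmpleIso

/-- the locus of a section of an invertible module on a quasi-compact scheme is quasi-compact -/
theorem isCompact_genLocus {X : Scheme.{u}} [CompactSpace X] (L : X.Modules) (hL : PicF.IsInvertible L)
    (s : Coh.structureModule X ⟶ L) : IsCompact ((CohB1.genLocus L s : X.Opens) : Set X) := by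
  haveI : IsAffineHom (CohB1.genLocus L s).ι := Groth.Agent.S2350.result X L hL s
  haveI : CompactSpace (CohB1.genLocus L s : Scheme.{u}) :=
    QuasiCompact.compactSpace_of_compactSpace (CohB1.genLocus L s).ι
  exact isCompact_iff_compactSpace.2 (inferInstanceAs (CompactSpace (CohB1.genLocus L s : Scheme.{u})))

variable {I : Type u} [SmallCategory I] [IsCofiltered I] (D : I ⥤ Scheme.{u}) (c : Cone D)
  (hc : IsLimit c) [∀ (i j : I) (f : i ⟶ j), IsAffineHom (D.map f)]
  [∀ i, CompactSpace (D.obj i)] [∀ i, QuasiSeparatedSpace (D.obj i)]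

include hc in
/-- a quasi-compact open of a stage whose preimage in the limit is affine has affine preimage at a stage -/
theorem exists_isAffineOpen_stage (i₀ : I) (W : (D.obj i₀).Opens) (hWc : IsCompact (W : Set (D.obj i₀)))
    (haff : IsAffineOpen (c.π.app i₀ ⁻¹ᵁ W)) :
    ∃ (j : I) (φ : j ⟶ i₀), IsAffineOpen (D.map φ ⁻¹ᵁ W) := by
  have inst : ∀ {i j : I} (f : i ⟶ j), IsAffineHom (D.map f) := fun f => inferInstance
  have (j : Over i₀) : CompactSpace ((opensDiagram D i₀ W).obj j) :=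
    isCompact_iff_compactSpace.mp (QuasiCompact.isCompact_preimage _ W.2 hWc)
  have (j : Over i₀) : QuasiSeparatedSpace ((opensDiagram D i₀ W).obj j) :=
    (isQuasiSeparated_iff_quasiSeparatedSpace _ (D.map _ ⁻¹ᵁ _).2).mp (.of_quasiSeparatedSpace _)
  have : IsAffine (opensCone D c i₀ W).pt := haff
  obtain ⟨j, hj⟩ := Scheme.exists_isAffine_of_isLimit _ _ (isLimitOpensCone D c hc i₀ W)
  exact ⟨j.left, j.hom, hj⟩

include hc in
/-- descending a section of a power of the pullback of an invertible module to a stage -/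
theorem exists_section_stage (i₀ : I) (L₀ : (D.obj i₀).Modules) (hL₀ : PicF.IsInvertible L₀) (N : ℕ)
    (s : Coh.structureModule c.pt ⟶
      CohB1.tensorPow ((Scheme.Modules.pullback (c.π.app i₀)).obj L₀) N) :
    ∃ (k : I) (φ : k ⟶ i₀) (t : Coh.structureModule (D.obj k) ⟶
        CohB1.tensorPow ((Scheme.Modules.pullback (D.map φ)).obj L₀) N),
      (c.π.app k) ⁻¹ᵁ CohB1.genLocus _ t = CohB1.genLocus _ s := by
  obtain ⟨G₀, hG₀⟩ : ∃ G₀ : (D.obj i₀).Modules, G₀ = CohB1.tensorPow L₀ N := ⟨_, rfl⟩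
  have hG₀inv : PicF.IsInvertible G₀ := by rw [hG₀]; exact isInvertible_tensorPow hL₀ N
  haveI : G₀.IsQuasicoherent := isQuasicoherent_of_isInvertible G₀ hG₀inv
  haveI : (Coh.structureModule (D.obj i₀)).IsQuasicoherent :=
    Groth.Agent.Lib.Helper23.Serre.isQuasicoherent_structureModule' (D.obj i₀)
  haveI : SheafOfModules.IsFinitePresentation (R := (D.obj i₀).ringCatSheaf)
      (Coh.structureModule (D.obj i₀)) :=
    Groth.Agent.Helper18FinFlat.isFinitePresentation_structureModule (D.obj i₀)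
  obtain ⟨Φ⟩ : Nonempty ((Scheme.Modules.pullback (c.π.app i₀)).obj G₀ ≅
      CohB1.tensorPow ((Scheme.Modules.pullback (c.π.app i₀)).obj L₀) N) := by
    rw [hG₀]; exact nonempty_pullback_tensorPow_iso (c.π.app i₀) L₀ hL₀ N
  obtain ⟨k, φ, hk, hhk⟩ := Groth.Agent.Lib.T2H5.ModLimE.hom_surjective D c hc i₀
    (Coh.structureModule (D.obj i₀)) G₀ ((pullbackUnitIso (c.π.app i₀)).hom ≫ s ≫ Φ.inv)
  obtain ⟨Ψ⟩ : Nonempty ((Scheme.Modules.pullback (D.map φ)).obj G₀ ≅
      CohB1.tensorPow ((Scheme.Modules.pullback (D.map φ)).obj L₀) N) := by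
    rw [hG₀]; exact nonempty_pullback_tensorPow_iso (D.map φ) L₀ hL₀ N
  obtain ⟨iso1, hiso1⟩ : ∃ iso1, iso1 = ((Scheme.Modules.pullbackComp (c.π.app k) (D.map φ) ≪≫
      Scheme.Modules.pullbackCongr (c.w φ)).app (Coh.structureModule (D.obj i₀))) := ⟨_, rfl⟩
  obtain ⟨iso2, hiso2⟩ : ∃ iso2, iso2 = ((Scheme.Modules.pullbackComp (c.π.app k) (D.map φ) ≪≫
      Scheme.Modules.pullbackCongr (c.w φ)).app G₀) := ⟨_, rfl⟩
  rw [← hiso1, ← hiso2] at hhk
  have hinvk : PicF.IsInvertible ((Scheme.Modules.pullback (D.map φ)).obj G₀) :=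
    isInvertible_pullback (D.map φ) G₀ hG₀inv
  refine ⟨k, φ, ((pullbackUnitIso (D.map φ)).inv ≫ hk) ≫ Ψ.hom, ?_⟩
  rw [genLocus_comp_iso]
  -- the iso `O_X ≅ π_k^* O_{X_k}`
  let e : Coh.structureModule c.pt ≅
      (Scheme.Modules.pullback (c.π.app k)).obj (Coh.structureModule (D.obj k)) :=
    ((Scheme.Modules.pullback (c.π.app k)).mapIso (pullbackUnitIso (D.map φ)).symm ≪≫ iso1 ≪≫
      pullbackUnitIso (c.π.app i₀)).symm
  rw [← genLocus_pullback (c.π.app k) _ hinvk ((pullbackUnitIso (D.map φ)).inv ≫ hk) e]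
  have h1 : (Scheme.Modules.pullback (c.π.app k)).map hk =
      iso1.hom ≫ ((pullbackUnitIso (c.π.app i₀)).hom ≫ s ≫ Φ.inv) ≫ iso2.inv := by
    rw [← hhk]
    simp only [Category.assoc, Iso.hom_inv_id, Category.comp_id, Iso.hom_inv_id_assoc]
  have hkey : e.hom ≫ (Scheme.Modules.pullback (c.π.app k)).map ((pullbackUnitIso (D.map φ)).inv ≫ hk) =
      s ≫ (iso2 ≪≫ Φ).symm.hom := by
    rw [CategoryTheory.Functor.map_comp, h1]
    simp only [e, Iso.symm_hom, Iso.trans_inv, Functor.mapIso_inv, Iso.symm_inv, Category.assoc]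
    rw [← CategoryTheory.Functor.map_comp_assoc, Iso.hom_inv_id, CategoryTheory.Functor.map_id,
      Category.id_comp, Iso.inv_hom_id_assoc, Iso.inv_hom_id_assoc]
  rw [hkey, genLocus_comp_iso]

omit [IsCofiltered I] [∀ (i j : I) (f : i ⟶ j), IsAffineHom (D.map f)] [∀ i, CompactSpace (D.obj i)]
  [∀ i, QuasiSeparatedSpace (D.obj i)] in
/-- transporting a section of a power of `φ^*L₀` along a transition map -/
theorem exists_section_transport {i₀ k m : I} (φ : k ⟶ i₀) (θ : m ⟶ k) (μ : m ⟶ i₀) (hμ : θ ≫ φ = μ)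
    (L₀ : (D.obj i₀).Modules) (hL₀ : PicF.IsInvertible L₀) (N : ℕ)
    (t : Coh.structureModule (D.obj k) ⟶ CohB1.tensorPow ((Scheme.Modules.pullback (D.map φ)).obj L₀) N) :
    ∃ t' : Coh.structureModule (D.obj m) ⟶ CohB1.tensorPow ((Scheme.Modules.pullback (D.map μ)).obj L₀) N,
      CohB1.genLocus _ t' = (D.map θ) ⁻¹ᵁ CohB1.genLocus _ t := by
  obtain ⟨t₁, ht₁⟩ := exists_pullback_section (D.map θ) ((Scheme.Modules.pullback (D.map φ)).obj L₀)
    (isInvertible_pullback (D.map φ) L₀ hL₀) N t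
  have hw : D.map θ ≫ D.map φ = D.map μ := by rw [← D.map_comp, hμ]
  refine ⟨t₁ ≫ (tensorPowIso (ModLimB.cmp (D.map θ) (D.map φ) (D.map μ) hw L₀) N).hom, ?_⟩
  rw [genLocus_comp_iso, ht₁]

include hc in
/-- **S9223**: if the pullback of an invertible module to the limit is ample, so is its pullback to a stage -/
theorem exists_isAmple_stage (i₀ : I) (L₀ : (D.obj i₀).Modules) (hL₀ : PicF.IsInvertible L₀)
    (h : CohB1.IsAmple ((Scheme.Modules.pullback (c.π.app i₀)).obj L₀)) :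
    ∃ (i : I) (φ : i ⟶ i₀), CohB1.IsAmple ((Scheme.Modules.pullback (D.map φ)).obj L₀) := by
  classical
  have inst : ∀ {i j : I} (f : i ⟶ j), IsAffineHom (D.map f) := fun f => inferInstance
  obtain ⟨-, hcomp, hpt⟩ := h
  haveI := hcomp
  choose n s hxs haffs using hpt
  obtain ⟨T, hT⟩ := CompactSpace.elim_nhds_subcover
    (fun x => ((CohB1.genLocus _ (s x) : c.pt.Opens) : Set c.pt))
    (fun x => (CohB1.genLocus _ (s x)).2.mem_nhds (hxs x))
  have hex : ∀ x : c.pt, ∃ (k : I) (φ : k ⟶ i₀) (t : Coh.structureModule (D.obj k) ⟶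
        CohB1.tensorPow ((Scheme.Modules.pullback (D.map φ)).obj L₀) (n x + 1)),
      (c.π.app k) ⁻¹ᵁ CohB1.genLocus _ t = CohB1.genLocus _ (s x) :=
    fun x => exists_section_stage D c hc i₀ L₀ hL₀ (n x + 1) (s x)
  choose k φ t ht using hex
  -- a common stage over `i₀`
  obtain ⟨S, hS⟩ := IsCofiltered.inf_objs_exists
    ((Finset.univ : Finset T).image (fun x : T => Over.mk (φ x.1)))
  have hθ : ∀ x : T, ∃ θ : S.left ⟶ k x.1, θ ≫ φ x.1 = S.hom := fun x => by
    obtain ⟨g⟩ := hS (Finset.mem_image_of_mem (fun x : T => Over.mk (φ x.1)) (Finset.mem_univ x))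
    exact ⟨g.left, Over.w g⟩
  choose θ hθ using hθ
  obtain ⟨m, hm⟩ : ∃ m : I, m = S.left := ⟨_, rfl⟩
  obtain ⟨μ, hμ⟩ : ∃ μ : S.left ⟶ i₀, μ = S.hom := ⟨_, rfl⟩
  rw [← hμ] at hθ
  have hLm : PicF.IsInvertible ((Scheme.Modules.pullback (D.map μ)).obj L₀) :=
    isInvertible_pullback (D.map μ) L₀ hL₀
  have hex' : ∀ x : T, ∃ t' : Coh.structureModule (D.obj S.left) ⟶
      CohB1.tensorPow ((Scheme.Modules.pullback (D.map μ)).obj L₀) (n x.1 + 1),
      CohB1.genLocus _ t' = (D.map (θ x)) ⁻¹ᵁ CohB1.genLocus _ (t x.1) :=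
    fun x => exists_section_transport D (φ x.1) (θ x) μ (hθ x) L₀ hL₀ (n x.1 + 1) (t x.1)
  choose t' ht' using hex'
  have hpre : ∀ x : T, (c.π.app S.left) ⁻¹ᵁ CohB1.genLocus _ (t' x) = CohB1.genLocus _ (s x.1) := by
    intro x
    rw [ht' x, ← Scheme.Hom.comp_preimage, c.w (θ x), ht x.1]
  -- affineness at a stage
  have haff : ∀ x : T, ∃ (j : I) (ψ : j ⟶ S.left), IsAffineOpen (D.map ψ ⁻¹ᵁ CohB1.genLocus _ (t' x)) := by
    intro x
    refine exists_isAffineOpen_stage D c hc S.left _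
      (isCompact_genLocus _ (isInvertible_tensorPow hLm _) (t' x)) ?_
    rw [hpre x]
    exact haffs x.1
  choose j ψ hψ using haff
  -- the cover at a stage
  have hcov : c.π.app S.left ⁻¹ᵁ (⊤ : (D.obj S.left).Opens) ≤
      c.π.app S.left ⁻¹ᵁ (⨆ x : T, CohB1.genLocus _ (t' x)) := by
    intro y _
    have hy : y ∈ ⋃ x ∈ T, ((CohB1.genLocus _ (s x) : c.pt.Opens) : Set c.pt) := by
      rw [hT]; trivial
    obtain ⟨x, hxT, hyx⟩ := Set.mem_iUnion₂.1 hy
    have hyx' : y ∈ (c.π.app S.left) ⁻¹ᵁ CohB1.genLocus _ (t' ⟨x, hxT⟩) := by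
      rw [hpre ⟨x, hxT⟩]; exact hyx
    exact Opens.mem_iSup.2 ⟨⟨x, hxT⟩, hyx'⟩
  obtain ⟨j₀, ν₀, hle⟩ := exists_map_preimage_le_map_preimage D c hc
    (U := (⊤ : (D.obj S.left).Opens)) (V := ⨆ x : T, CohB1.genLocus _ (t' x)) isCompact_univ hcov
  -- a common stage over `S.left`
  obtain ⟨S', hS'⟩ := IsCofiltered.inf_objs_exists
    (insert (Over.mk ν₀) ((Finset.univ : Finset T).image (fun x : T => Over.mk (ψ x))))
  obtain ⟨g₀⟩ := hS' (Finset.mem_insert_self _ _)
  have hg : ∀ x : T, ∃ g : S'.left ⟶ j x, g ≫ ψ x = S'.hom := fun x => by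
    obtain ⟨g⟩ := hS' (Finset.mem_insert_of_mem
      (Finset.mem_image_of_mem (fun x : T => Over.mk (ψ x)) (Finset.mem_univ x)))
    exact ⟨g.left, Over.w g⟩
  choose g hg using hg
  have hg₀ : g₀.left ≫ ν₀ = S'.hom := Over.w g₀
  refine ⟨S'.left, S'.hom ≫ μ, ?_⟩
  refine isAmple_of_iso (ModLimB.cmp (D.map S'.hom) (D.map μ) (D.map (S'.hom ≫ μ))
    (D.map_comp S'.hom μ).symm L₀) ?_
  refine isAmple_pullback_of (D.map S'.hom) _ hLm (fun y => ?_)
  have hy : (D.map S'.hom) y ∈ (⨆ x : T, CohB1.genLocus _ (t' x) : (D.obj S.left).Opens) := by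
    have h1 : (D.map g₀.left) y ∈ D.map ν₀ ⁻¹ᵁ (⨆ x : T, CohB1.genLocus _ (t' x)) :=
      hle (show (D.map g₀.left) y ∈ D.map ν₀ ⁻¹ᵁ (⊤ : (D.obj S.left).Opens) from trivial)
    have h2 : (D.map S'.hom) y = (D.map ν₀) ((D.map g₀.left) y) := by
      rw [← Scheme.Hom.comp_apply, ← D.map_comp, hg₀]
    rw [h2]
    exact h1
  obtain ⟨x, hx⟩ := Opens.mem_iSup.1 hy
  refine ⟨n x.1, t' x, hx, ?_⟩
  have h3 : D.map S'.hom ⁻¹ᵁ CohB1.genLocus _ (t' x) =
      D.map (g x) ⁻¹ᵁ (D.map (ψ x) ⁻¹ᵁ CohB1.genLocus _ (t' x)) := by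
    rw [← Scheme.Hom.comp_preimage, ← D.map_comp, hg x]
  rw [h3]
  exact (hψ x).preimage (D.map (g x))

end Groth.Agent.Lib.T2H5.AmpleLim
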