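import Mathlib
import Groth.Agent.Lib.T2H5AmpleLimA
import Groth.Agent.Lib.T2H7GrpLimA
import Groth.Agent.S1152
set_option backward.isDefEq.respectTransparency.types false

/-!
# T2H5AmpleLimB: ampleness over a base change through a cofiltered limit (helper5)

Namespace `Groth.Agent.Lib.T2H5.AmpleLimRel`.

* `isPullback_restrict`: for iterated pullback squares `X' = X₀ ×_{Y₀} Y'`, `Y' = Y₀ ×_{B₀} B` and an open `U` of
  `X₀`, the preimage of `U` in `X'` is `U ×_{B₀} B`.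
* `isAmple_restrict_iff`: ampleness on that preimage in terms of the chosen pullback.
* `StageAmple`, `stageAmple_mono`, `exists_stageAmple`: the system `U₀ ×_{S_{i₀}} S_k` and ampleness at a stage.
-/

set_option autoImplicit false
set_option linter.style.haveILetI false
set_option linter.unusedSectionVars false
universe u
open CategoryTheory CategoryTheory.Limits AlgebraicGeometry TopologicalSpace Opposite Topology

namespace Groth.Agent.Lib.T2H5.AmpleLimRel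

open Groth.Agent.Lib.Helper23.PB Groth.Agent.Lib.T2H5.ModLimB Groth.Agent.Lib.Helper23.AmpleIso
open Groth.Agent.Lib.T2H7.GrpLimA

section restrict

variable {X₀ Y₀ B₀ B Y' X' : Scheme.{u}} {f₀ : X₀ ⟶ Y₀} {g₀ : Y₀ ⟶ B₀} {σ : B ⟶ B₀}
  {pY : Y' ⟶ Y₀} {gY : Y' ⟶ B} {pX : X' ⟶ X₀} {f' : X' ⟶ Y'}

theorem isPullback_restrict (hY : IsPullback pY gY g₀ σ) (hX : IsPullback pX f' f₀ pY) (U : X₀.Opens) :
    IsPullback (pX ∣_ U) ((pX ⁻¹ᵁ U).ι ≫ f' ≫ gY) (U.ι ≫ f₀ ≫ g₀) σ := by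
  have h := ((isPullback_morphismRestrict pX U).paste_vert hX).paste_vert hY
  simpa only [Category.assoc] using h

theorem isAmple_restrict_iff (hY : IsPullback pY gY g₀ σ) (hX : IsPullback pX f' f₀ pY) (U : X₀.Opens)
    (L₀ : X₀.Modules) :
    CohB1.IsAmple (((Scheme.Modules.pullback pX).obj L₀).restrict (pX ⁻¹ᵁ U).ι) ↔
      CohB1.IsAmple ((Scheme.Modules.pullback (pullback.fst (U.ι ≫ f₀ ≫ g₀) σ ≫ U.ι)).obj L₀) := by
  obtain ⟨e, he⟩ : ∃ e : ((pX ⁻¹ᵁ U : X'.Opens) : Scheme.{u}) ≅ pullback (U.ι ≫ f₀ ≫ g₀) σ,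
      e.hom ≫ pullback.fst (U.ι ≫ f₀ ≫ g₀) σ = pX ∣_ U :=
    ⟨(isPullback_restrict hY hX U).isoPullback, IsPullback.isoPullback_hom_fst _⟩
  have hea : e.hom ≫ (pullback.fst (U.ι ≫ f₀ ≫ g₀) σ ≫ U.ι) = (pX ⁻¹ᵁ U).ι ≫ pX := by
    rw [← Category.assoc, he, morphismRestrict_ι]
  have hea' : e.inv ≫ ((pX ⁻¹ᵁ U).ι ≫ pX) = pullback.fst (U.ι ≫ f₀ ≫ g₀) σ ≫ U.ι := by
    rw [← hea, Iso.inv_hom_id_assoc]
  let iso1 : ((Scheme.Modules.pullback pX).obj L₀).restrict (pX ⁻¹ᵁ U).ι ≅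
      (Scheme.Modules.pullback ((pX ⁻¹ᵁ U).ι ≫ pX)).obj L₀ :=
    (Scheme.Modules.restrictFunctorIsoPullback (pX ⁻¹ᵁ U).ι).app _ ≪≫
      ModLimB.cmp (pX ⁻¹ᵁ U).ι pX _ rfl L₀
  constructor
  · intro h
    exact Groth.Agent.S1152.isAmple_pullback_of_iso_source _ _ e.symm hea' L₀ (isAmple_of_iso iso1 h)
  · intro h
    exact isAmple_of_iso iso1.symm
      (Groth.Agent.S1152.isAmple_pullback_of_iso_source _ _ e hea L₀ h)

end restrict

section system

variable {I : Type u} [SmallCategory I] [IsCofiltered I] (D : I ⥤ Scheme.{u}) (c : Cone D)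
  (hc : IsLimit c) [∀ (i j : I) (f : i ⟶ j), IsAffineHom (D.map f)] (i₀ : I)
  {U₀ X₀ : Scheme.{u}} (u : U₀ ⟶ D.obj i₀) (a : U₀ ⟶ X₀) (L₀ : X₀.Modules)

/-- ampleness of the pullback of `L₀` at the stage `U₀ ×_{S_{i₀}} S_k` -/
def StageAmple (k : Over i₀) : Prop :=
  CohB1.IsAmple ((Scheme.Modules.pullback (pullback.fst u (D.map k.hom) ≫ a)).obj L₀)

omit [IsCofiltered I] in
theorem stageAmple_mono {k l : Over i₀} (ψ : l ⟶ k) (h : StageAmple D i₀ u a L₀ k) :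
    StageAmple D i₀ u a L₀ l := by
  have h1 : CohB1.IsAmple ((Scheme.Modules.pullback ((sysX D i₀ u).map ψ)).obj
      ((Scheme.Modules.pullback (pullback.fst u (D.map k.hom) ≫ a)).obj L₀)) :=
    isAmple_pullback_of_isAffineHom ((sysX D i₀ u).map ψ) _ h
  have hw : (sysX D i₀ u).map ψ ≫ (pullback.fst u (D.map k.hom) ≫ a) =
      pullback.fst u (D.map l.hom) ≫ a := by
    rw [← Category.assoc]
    congr 1
    exact sysX_map_fst D i₀ u ψ
  exact isAmple_of_iso (ModLimB.cmp _ _ _ hw L₀) h1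

include hc in
theorem exists_stageAmple [CompactSpace U₀] [QuasiSeparatedSpace U₀] (hL₀ : PicF.IsInvertible L₀)
    (h : CohB1.IsAmple ((Scheme.Modules.pullback (pullback.fst u (c.π.app i₀) ≫ a)).obj L₀)) :
    ∃ k : Over i₀, StageAmple D i₀ u a L₀ k := by
  haveI haffk : ∀ k : Over i₀, IsAffineHom (pullback.fst u (tr D i₀ k)) := fun k =>
    MorphismProperty.pullback_fst (P := @IsAffineHom) u (tr D i₀ k)
      (inferInstanceAs (IsAffineHom (D.map k.hom)))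
  haveI : ∀ k : Over i₀, CompactSpace ((sysX D i₀ u).obj k) := fun k =>
    show CompactSpace (pullback u (tr D i₀ k) : Scheme.{u}) from
      QuasiCompact.compactSpace_of_compactSpace (pullback.fst u (tr D i₀ k))
  haveI : ∀ k : Over i₀, QuasiSeparatedSpace ((sysX D i₀ u).obj k) := fun k =>
    show QuasiSeparatedSpace (pullback u (tr D i₀ k) : Scheme.{u}) from
      quasiSeparatedSpace_of_quasiSeparated (pullback.fst u (tr D i₀ k))
  obtain ⟨k₀, hk₀⟩ : ∃ k₀ : Over i₀, k₀ = Over.mk (𝟙 i₀) := ⟨_, rfl⟩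
  obtain ⟨M₀, hM₀⟩ : ∃ M₀ : ((sysX D i₀ u).obj k₀).Modules,
      M₀ = (Scheme.Modules.pullback (pullback.fst u (tr D i₀ k₀) ≫ a)).obj L₀ := ⟨_, rfl⟩
  have hM₀inv : PicF.IsInvertible M₀ := by rw [hM₀]; exact isInvertible_pullback _ L₀ hL₀
  have hw : (sysC D c i₀ u).π.app k₀ ≫ (pullback.fst u (tr D i₀ k₀) ≫ a) =
      pullback.fst u (c.π.app i₀) ≫ a := by
    rw [← Category.assoc]
    congr 1
    exact sysC_π_fst D c i₀ u k₀
  have hyp : CohB1.IsAmple ((Scheme.Modules.pullback ((sysC D c i₀ u).π.app k₀)).obj M₀) := by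
    rw [hM₀]
    exact isAmple_of_iso (ModLimB.cmp _ _ _ hw L₀).symm h
  obtain ⟨k, φ, hk⟩ := Groth.Agent.Lib.T2H5.AmpleLim.exists_isAmple_stage (sysX D i₀ u) (sysC D c i₀ u)
    (isLimitSysC D c i₀ u hc) k₀ M₀ hM₀inv hyp
  refine ⟨k, ?_⟩
  rw [hM₀] at hk
  have hw' : (sysX D i₀ u).map φ ≫ (pullback.fst u (tr D i₀ k₀) ≫ a) =
      pullback.fst u (D.map k.hom) ≫ a := by
    rw [← Category.assoc]
    congr 1
    exact sysX_map_fst D i₀ u φ
  exact isAmple_of_iso (ModLimB.cmp _ _ _ hw' L₀) hk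

end system

end Groth.Agent.Lib.T2H5.AmpleLimRel
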