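import Mathlib
import Groth.Agent.Lib.T2H5AmpleLimB
import Groth.Agent.Lib.Helper26ModLim
import Groth.Agent.S2332
import Groth.Agent.S2355
import Groth.Agent.S4380
import Groth.Agent.S4381
import Groth.Agent.S4417
set_option backward.isDefEq.respectTransparency.types false

/-!
# T2H5AmpleLimC: relative ampleness through a cofiltered limit (helper5)

Namespace `Groth.Agent.Lib.T2H5.AmpleLimRel`.

* `isRelAmple_baseChange`: relative ampleness at a stage gives relative ampleness over the limit (base change,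
  in the form with pullback squares).
* `isRelAmple_of_cover`: relative ampleness from ampleness over the members of a finite affine cover of `Y₀`.
* `exists_isRelAmple_stage`: relative ampleness over the limit holds at a stage.
* `isRelAmple_iff_exists_stage`: **S4846**.
-/

set_option autoImplicit false
set_option linter.style.haveILetI false
set_option linter.unusedSectionVars false
universe u
open CategoryTheory CategoryTheory.Limits AlgebraicGeometry TopologicalSpace Opposite Topology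

namespace Groth.Agent.Lib.T2H5.AmpleLimRel

open Groth.Agent.Lib.Helper23.PB Groth.Agent.Lib.T2H5.ModLimB Groth.Agent.Lib.Helper23.AmpleIso
open Groth.Agent.Lib.T2H7.GrpLimA

theorem isQuasiAffine_of_isIso {X Y : Scheme.{u}} (e : X ⟶ Y) [IsIso e] : Mor2.IsQuasiAffine e := by
  refine ⟨inferInstance, fun V hV => ?_⟩
  haveI : IsAffine ((e ⁻¹ᵁ V : X.Opens) : Scheme.{u}) := hV.preimage e
  infer_instance

section backward

variable {X₀ Y₀ B₀ B Bj Y Yj X Xj : Scheme.{u}}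

theorem isRelAmple_baseChange
    {f₀ : X₀ ⟶ Y₀} {g₀ : Y₀ ⟶ B₀} {σ : B ⟶ B₀} {σj : Bj ⟶ B₀} (τ : B ⟶ Bj) (hτ : τ ≫ σj = σ)
    {qY : Y ⟶ Y₀} {g : Y ⟶ B} {qX : X ⟶ X₀} {f : X ⟶ Y}
    {pY : Yj ⟶ Y₀} {gj : Yj ⟶ Bj} {pX : Xj ⟶ X₀} {fj : Xj ⟶ Yj}
    (hY : IsPullback qY g g₀ σ) (hX : IsPullback qX f f₀ qY)
    (hYj : IsPullback pY gj g₀ σj) (hXj : IsPullback pX fj f₀ pY) (L₀ : X₀.Modules)
    (h : RelAmple.IsRelAmple fj ((Scheme.Modules.pullback pX).obj L₀)) :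
    RelAmple.IsRelAmple f ((Scheme.Modules.pullback qX).obj L₀) := by
  obtain ⟨r, hr1, hr2⟩ : ∃ r : Y ⟶ Yj, r ≫ pY = qY ∧ r ≫ gj = g ≫ τ :=
    ⟨hYj.lift qY (g ≫ τ) (by rw [Category.assoc, hτ, hY.w]), hYj.lift_fst _ _ _, hYj.lift_snd _ _ _⟩
  obtain ⟨r', hr'1, hr'2⟩ : ∃ r' : X ⟶ Xj, r' ≫ pX = qX ∧ r' ≫ fj = f ≫ r :=
    ⟨hXj.lift qX (f ≫ r) (by rw [Category.assoc, hr1, hX.w]), hXj.lift_fst _ _ _, hXj.lift_snd _ _ _⟩
  have hsq : IsPullback r' f fj r := by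
    refine IsPullback.of_right ?_ hr'2 hXj
    rw [hr'1, hr1]
    exact hX
  haveI : QuasiCompact fj := h.1
  have h1 := Groth.Agent.S2332.result fj r _ h
  haveI : QuasiCompact (pullback.snd fj r) := h1.1
  have h2 := Groth.Agent.S2355.result (pullback.snd fj r) hsq.isoPullback.hom
    (isQuasiAffine_of_isIso _) _ h1
  rw [IsPullback.isoPullback_hom_snd] at h2
  refine Groth.Agent.S4417.isRelAmple_of_iso f ?_ h2
  exact ModLimB.cmp hsq.isoPullback.hom (pullback.fst fj r) r' (IsPullback.isoPullback_hom_fst _) _ ≪≫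
    ModLimB.cmp r' pX qX hr'1 L₀

end backward

section cover

variable {X₀ Y₀ B₀ B Y' X' : Scheme.{u}} {f₀ : X₀ ⟶ Y₀} {g₀ : Y₀ ⟶ B₀} {σ : B ⟶ B₀}
  {pY : Y' ⟶ Y₀} {gY : Y' ⟶ B} {pX : X' ⟶ X₀} {f' : X' ⟶ Y'}

theorem isRelAmple_of_cover (hY : IsPullback pY gY g₀ σ) (hX : IsPullback pX f' f₀ pY) [IsAffineHom σ]
    [QuasiCompact f₀] (L₀ : X₀.Modules) (s : Finset Y₀.affineOpens)
    (hs : IsOpenCover (fun V : s => (V.1 : Y₀.Opens)))
    (h : ∀ V : s, CohB1.IsAmple ((Scheme.Modules.pullback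
      (pullback.fst ((f₀ ⁻¹ᵁ V.1.1).ι ≫ f₀ ≫ g₀) σ ≫ (f₀ ⁻¹ᵁ V.1.1).ι)).obj L₀)) :
    RelAmple.IsRelAmple f' ((Scheme.Modules.pullback pX).obj L₀) := by
  haveI : IsAffineHom pY := MorphismProperty.of_isPullback (P := @IsAffineHom) hY.flip inferInstance
  haveI : QuasiCompact f' := MorphismProperty.of_isPullback (P := @QuasiCompact) hX inferInstance
  have hcov : ⨆ V : s, pY ⁻¹ᵁ V.1.1 = ⊤ :=
    (Groth.Agent.Lib.Helper26.ModLim.isOpenCover_preimage pY hs).iSup_eq_top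
  refine (Groth.Agent.S4380.result f' _ (fun V : s => pY ⁻¹ᵁ V.1.1) hcov).2 (fun V => ?_)
  haveI : IsAffine ((pY ⁻¹ᵁ V.1.1 : Y'.Opens) : Scheme.{u}) := V.1.2.preimage pY
  refine (Groth.Agent.S4381.result (f' ∣_ (pY ⁻¹ᵁ V.1.1)) _).2 ?_
  have hop : f' ⁻¹ᵁ (pY ⁻¹ᵁ V.1.1) = pX ⁻¹ᵁ (f₀ ⁻¹ᵁ V.1.1) := by
    rw [← Scheme.Hom.comp_preimage, ← hX.w, Scheme.Hom.comp_preimage]
  rw [hop]
  exact (isAmple_restrict_iff hY hX _ L₀).2 (h V)

end cover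

section forward

variable {I : Type u} [SmallCategory I] [IsCofiltered I] (D : I ⥤ Scheme.{u}) (c : Cone D)
  (hc : IsLimit c) [∀ (i j : I) (f : i ⟶ j), IsAffineHom (D.map f)] (i₀ : I)

include hc in
theorem exists_isRelAmple_stage [CompactSpace (D.obj i₀)]
    {X₀ Y₀ : Scheme.{u}} (f₀ : X₀ ⟶ Y₀) (g₀ : Y₀ ⟶ D.obj i₀)
    [QuasiCompact g₀] [QuasiSeparated g₀] [QuasiCompact (f₀ ≫ g₀)] [QuasiSeparated (f₀ ≫ g₀)]
    (L₀ : X₀.Modules) (hL₀ : PicF.IsInvertible L₀)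
    {X Y : Scheme.{u}} (f : X ⟶ Y) (g : Y ⟶ c.pt) (qY : Y ⟶ Y₀) (qX : X ⟶ X₀)
    (hY : IsPullback qY g g₀ (c.π.app i₀)) (hX : IsPullback qX f f₀ qY)
    (h : RelAmple.IsRelAmple f ((Scheme.Modules.pullback qX).obj L₀)) :
    ∃ (j : I) (φ : j ⟶ i₀) (Xj Yj : Scheme.{u}) (fj : Xj ⟶ Yj) (gj : Yj ⟶ D.obj j) (pY : Yj ⟶ Y₀)
        (pX : Xj ⟶ X₀), IsPullback pY gj g₀ (D.map φ) ∧ IsPullback pX fj f₀ pY ∧
          RelAmple.IsRelAmple fj ((Scheme.Modules.pullback pX).obj L₀) := by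
  classical
  haveI : QuasiCompact f₀ := QuasiCompact.of_comp f₀ g₀
  haveI : QuasiSeparated f₀ := QuasiSeparated.of_comp f₀ g₀
  haveI : CompactSpace Y₀ := QuasiCompact.compactSpace_of_compactSpace g₀
  haveI : IsAffineHom (c.π.app i₀) := isAffineHom_π_app D c hc i₀
  haveI : IsAffineHom qY := MorphismProperty.of_isPullback (P := @IsAffineHom) hY.flip inferInstance
  obtain ⟨s, hs⟩ := Groth.Agent.Lib.Helper26.ModLim.exists_finite_affine_cover Y₀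
  have hex : ∀ V : s, ∃ k : Over i₀,
      StageAmple D i₀ ((f₀ ⁻¹ᵁ V.1.1).ι ≫ f₀ ≫ g₀) (f₀ ⁻¹ᵁ V.1.1).ι L₀ k := by
    intro V
    haveI : CompactSpace ((f₀ ⁻¹ᵁ V.1.1 : X₀.Opens) : Scheme.{u}) :=
      isCompact_iff_compactSpace.1
        (QuasiCompact.isCompact_preimage (f := f₀) _ V.1.1.2 V.1.2.isCompact)
    haveI : QuasiSeparatedSpace ((f₀ ⁻¹ᵁ V.1.1 : X₀.Opens) : Scheme.{u}) := by
      haveI : IsAffine ((V.1.1 : Y₀.Opens) : Scheme.{u}) := V.1.2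
      exact quasiSeparatedSpace_of_quasiSeparated (f₀ ∣_ V.1.1)
    refine exists_stageAmple D c hc i₀ _ _ L₀ hL₀ ?_
    have h1 := h.2 ⟨qY ⁻¹ᵁ V.1.1, V.1.2.preimage qY⟩
    have hop : f ⁻¹ᵁ (qY ⁻¹ᵁ V.1.1) = qX ⁻¹ᵁ (f₀ ⁻¹ᵁ V.1.1) := by
      rw [← Scheme.Hom.comp_preimage, ← hX.w, Scheme.Hom.comp_preimage]
    change CohB1.IsAmple (((Scheme.Modules.pullback qX).obj L₀).restrict (f ⁻¹ᵁ (qY ⁻¹ᵁ V.1.1)).ι) at h1
    rw [hop] at h1
    exact (isAmple_restrict_iff hY hX (f₀ ⁻¹ᵁ V.1.1) L₀).1 h1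
  choose k hk using hex
  obtain ⟨l, hl⟩ := IsCofiltered.inf_objs_exists ((Finset.univ : Finset s).image k)
  have hkl : ∀ V : s, StageAmple D i₀ ((f₀ ⁻¹ᵁ V.1.1).ι ≫ f₀ ≫ g₀) (f₀ ⁻¹ᵁ V.1.1).ι L₀ l := fun V => by
    obtain ⟨ψ⟩ := hl (Finset.mem_image_of_mem k (Finset.mem_univ V))
    exact stageAmple_mono D i₀ _ _ L₀ ψ (hk V)
  refine ⟨l.left, l.hom, pullback f₀ (pullback.fst g₀ (D.map l.hom)), pullback g₀ (D.map l.hom),
    pullback.snd _ _, pullback.snd _ _, pullback.fst _ _, pullback.fst _ _,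
    IsPullback.of_hasPullback _ _, IsPullback.of_hasPullback _ _, ?_⟩
  exact isRelAmple_of_cover (IsPullback.of_hasPullback g₀ (D.map l.hom))
    (IsPullback.of_hasPullback f₀ (pullback.fst g₀ (D.map l.hom))) L₀ s hs (fun V => hkl V)

include hc in
/-- **S4846** -/
theorem isRelAmple_iff_exists_stage [CompactSpace (D.obj i₀)]
    {X₀ Y₀ : Scheme.{u}} (f₀ : X₀ ⟶ Y₀) (g₀ : Y₀ ⟶ D.obj i₀)
    [QuasiCompact g₀] [QuasiSeparated g₀] [QuasiCompact (f₀ ≫ g₀)] [QuasiSeparated (f₀ ≫ g₀)]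
    (L₀ : X₀.Modules) (hL₀ : PicF.IsInvertible L₀)
    {X Y : Scheme.{u}} (f : X ⟶ Y) (g : Y ⟶ c.pt) (qY : Y ⟶ Y₀) (qX : X ⟶ X₀)
    (hY : IsPullback qY g g₀ (c.π.app i₀)) (hX : IsPullback qX f f₀ qY) :
    RelAmple.IsRelAmple f ((Scheme.Modules.pullback qX).obj L₀) ↔
      ∃ (j : I) (φ : j ⟶ i₀) (Xj Yj : Scheme.{u}) (fj : Xj ⟶ Yj) (gj : Yj ⟶ D.obj j) (pY : Yj ⟶ Y₀)
        (pX : Xj ⟶ X₀), IsPullback pY gj g₀ (D.map φ) ∧ IsPullback pX fj f₀ pY ∧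
          RelAmple.IsRelAmple fj ((Scheme.Modules.pullback pX).obj L₀) := by
  constructor
  · exact exists_isRelAmple_stage D c hc i₀ f₀ g₀ L₀ hL₀ f g qY qX hY hX
  · rintro ⟨j, φ, Xj, Yj, fj, gj, pY, pX, hYj, hXj, hamp⟩
    exact isRelAmple_baseChange (c.π.app j) (c.w φ) hY hX hYj hXj L₀ hamp

end forward

end Groth.Agent.Lib.T2H5.AmpleLimRel
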