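import Mathlib
import Groth.Agent.Lib.T2H9Thick5
import Groth.Agent.Lib.T2H9FibLift3
import Groth.Agent.Lib.Helper23PB
import Groth.Agent.Lib.Helper23RestrTensor
import Groth.Agent.Lib.Helper21ModTensor3
import Groth.Agent.Lib.T2H5AmpleSerre
import Groth.Agent.S4467
import Groth.Agent.Lib.Helper23ModAbBridge
import Groth.Agent.Lib.T2H5RpushClosed

/-! # Uniform vanishing on the infinitesimal levels of one scheme; EGA III 4.7.1 (vanishing part) (helper9)

`ker_φT_SpecMap`, `uniform_vanishing_levels` (for `X` over `Spec A` whose closed fibre `Z` over `V(J)` is Noetherian with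
Serre vanishing for `L|_Z` and finite cohomological dimension: one `d₀` with `H^p(X, F/J^{K+1}F ⊗ L^d) = 0` for all `K`),
`subsingleton_stalk_Rpush_twist`, `isZero_stalk_RpushAb_twist` (if `L` is ample on the fibre over `y`, the stalks at `y` of
`R^p f_*(M ⊗ L^d)` vanish for large `d`). -/

set_option autoImplicit false
set_option linter.style.haveILetI false
set_option linter.unusedVariables false
set_option linter.unusedSectionVars false
universe u
open CategoryTheory CategoryTheory.Limits Opposite AlgebraicGeometry TopologicalSpace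

namespace Groth.Agent.Lib.T2H9.Thick

open Groth.Agent.Lib.T2H2.AlgzB Groth.Agent.Lib.T2H9.GrSys Groth.Agent.Lib.T2H9.GrAdic
  Groth.Agent.Lib.T2H9.Tower Groth.Agent.Lib.T2H9.FibQuot

section kerSpec

variable {A : Type u} [CommRing A]

theorem ker_φT_SpecMap {R' : CommRingCat.{u}} (φ : CommRingCat.of A ⟶ R') :
    RingHom.ker (φT (Spec.map φ)) = RingHom.ker φ.hom := by
  ext a
  rw [RingHom.mem_ker, RingHom.mem_ker]
  unfold φT
  have h2 := Scheme.ΓSpecIso_naturality φ
  have h3 := congrArg (fun t => t.hom ((Scheme.ΓSpecIso (CommRingCat.of A)).inv.hom a)) h2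
  simp only [CommRingCat.hom_comp, RingHom.coe_comp, Function.comp_apply] at h3
  have h4 : (Scheme.ΓSpecIso (CommRingCat.of A)).hom.hom
      ((Scheme.ΓSpecIso (CommRingCat.of A)).inv.hom a) = a :=
    congrArg (fun t => t.hom a) (Scheme.ΓSpecIso (CommRingCat.of A)).inv_hom_id
  rw [h4] at h3
  have hinj : Function.Injective (Scheme.ΓSpecIso R').hom.hom :=
    ((ConcreteCategory.isIso_iff_bijective (Scheme.ΓSpecIso _).hom).1 inferInstance).1
  constructor
  · intro h
    change (Spec.map _).appTop.hom _ = 0 at h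
    rw [h, map_zero] at h3
    exact h3.symm
  · intro h
    change (Spec.map _).appTop.hom _ = 0
    apply hinj
    rw [map_zero]
    exact h3.trans h

end kerSpec

section single

variable {A : Type u} [CommRing A] {X Z T : Scheme.{u}}
  [hOX : X.Over (Spec (CommRingCat.of A))]
  (j : Z ⟶ X) [IsClosedImmersion j] (q : Z ⟶ T) (f : T ⟶ Spec (CommRingCat.of A))
  [IsClosedImmersion f]
  (hpb : IsPullback j q (X ↘ Spec (CommRingCat.of A)) f) (J : Ideal A)
  (hJ : RingHom.ker (φT f) = J) [IsNoetherian Z]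
  (L : X.Modules) (hL : PicF.IsInvertible L) (L₀ : Z.Modules) (hL₀ : PicF.IsInvertible L₀)
  (e : (Scheme.Modules.pullback j).obj L ≅ L₀)
  (hSerre : ∀ M : Z.Modules, Coh.IsCoh M → ∃ n₀ : ℕ, ∀ n, n₀ ≤ n → ∀ p, 0 < p →
      Subsingleton (Coh.HH Z (CohB1.tensorMod M (CohB1.tensorPow L₀ n)) p))
  (D : ℕ) (hD : ∀ (M : Z.Modules) [M.IsQuasicoherent] (n : ℕ), D ≤ n → Subsingleton (Coh.HH Z M n))
  (F : X.Modules) (hF : Coh.IsCoh F)
  {r : ℕ} (a : Fin r → A) (hspan : Ideal.span (Set.range a) = J)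

include hpb hJ hL hL₀ e hSerre hD hF hspan in
/-- **uniform vanishing on the infinitesimal levels** of a coherent module on a scheme over `Spec A` whose closed fibre
over `V(J)` satisfies Serre vanishing for `L₀ = L|_Z` -/
theorem uniform_vanishing_levels :
    ∃ d₀ : ℕ, ∀ d, d₀ ≤ d → ∀ K p : ℕ, 0 < p →
      Subsingleton (Coh.HH X (CohB1.tensorMod (Formal.modPow J (K + 1) F) (CohB1.tensorPow L d)) p) := by
  have hCF := isCohFormal_completion J F hF
  have hAd : IsAdic J (Formal.completion J F) := isAdic_of_isCohFormal J hCF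
  have hT : IsTower a (Formal.completion J F) := isTower_of_isAdic hAd hspan
  have hgr : ∀ n, Coh.IsCoh (gr (Formal.completion J F) n) := fun n =>
    isCoh_gr hAd a hspan (fun n => hCF.1 n) n
  let S : CohSys Z r := mapSys (Scheme.Modules.pullback j)
    (fun M hM => Groth.Agent.Lib.T2H5.GenIsoD.isCoh_pullback _ M hM)
    (towerSys hT hgr 0 (isFG_tgT hT hAd hspan))
  obtain ⟨d₁, hd₁⟩ := uniform_vanishing L₀ hL₀ hSerre D hD S
  have hc0 : Coh.IsCoh (Formal.modPow J (0 + 1) F) := isCoh_modPow J (0 + 1) F hF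
  obtain ⟨d₂, hd₂⟩ := hSerre ((Scheme.Modules.pullback j).obj (Formal.modPow J (0 + 1) F))
    (Groth.Agent.Lib.T2H5.GenIsoD.isCoh_pullback j _ hc0)
  refine ⟨max d₁ d₂, fun d hd K p hp => ?_⟩
  haveI := hF.1
  haveI := hc0.1
  have hk0 : Formal.KilledBy J (Formal.modPow J (0 + 1) F) := by
    have h := (isQuotBy_modPowπ J (0 + 1) F).killedBy
    rwa [zero_add, pow_one] at h
  have h0 : Subsingleton (Coh.HH X (CohB1.tensorMod ((Formal.completion J F).obj (op 0))
      (CohB1.tensorPow L d)) p) :=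
    subsingleton_HH_twist_of_killedBy j q f hpb J hJ L hL L₀ e d p (Formal.modPow J (0 + 1) F) hk0
      (hd₂ d (le_trans (le_max_right _ _) hd) p hp)
  exact subsingleton_HH_level j q f hpb J hJ L hL L₀ e d p hAd
    (fun m => isQuasicoherent_modPow J (m + 1) F) K h0
    (fun m _ => hd₁ d (le_trans (le_max_left _ _) hd) m p hp)

end single

section stalk

open Groth.Agent.Lib.T2H5.Twist

/-- **EGA III 4.7.1 (vanishing part)**: if `L` is ample on the fibre over `y`, the stalks at `y` of the higher direct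
images of `M ⊗ L^d` vanish for all large `d` (module version). -/
theorem subsingleton_stalk_Rpush_twist {X Y : Scheme.{u}} (f : X ⟶ Y) [IsProper f]
    [IsNoetherian Y] [HasInjectiveResolutions X.Modules]
    (L : X.Modules) (hL : PicF.IsInvertible L) (M : X.Modules) (hM : Coh.IsCoh M) (y : Y)
    (hy : CohB1.IsAmple ((Scheme.Modules.pullback (f.fiberι y)).obj L)) :
    ∃ d₀ : ℕ, ∀ d : ℕ, d₀ ≤ d → ∀ p : ℕ, 0 < p →
      Subsingleton (((Coh.Rpush f p).obj
        (CohB1.tensorMod M (CohB1.tensorPow L d))).presheaf.stalk y) := by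
  let X₁ : Scheme.{u} := pullback f (Y.fromSpecStalk y)
  letI hO : X₁.Over (Spec (CommRingCat.of (Y.presheaf.stalk y))) := ⟨pullback.snd _ _⟩
  let g : X₁ ⟶ X := pullback.fst _ _
  have hsq : IsPullback g (X₁ ↘ Spec (CommRingCat.of (Y.presheaf.stalk y))) f (Y.fromSpecStalk y) :=
    IsPullback.of_hasPullback _ _
  haveI : IsNoetherianRing (Y.presheaf.stalk y) := inferInstance
  -- the closed fibre
  let Z : Scheme.{u} := f.fiber y
  have hw : f.fiberι y ≫ f =
      (f.fiberToSpecResidueField y ≫ Spec.map (Y.residue y)) ≫ Y.fromSpecStalk y := by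
    rw [Category.assoc]
    exact f.fiber_fac y
  let j : Z ⟶ X₁ := hsq.lift (f.fiberι y)
    (f.fiberToSpecResidueField y ≫ Spec.map (Y.residue y)) hw
  have hj1 : j ≫ g = f.fiberι y := hsq.lift_fst _ _ _
  have hj2 : j ≫ (X₁ ↘ Spec (CommRingCat.of (Y.presheaf.stalk y))) =
      f.fiberToSpecResidueField y ≫ Spec.map (Y.residue y) := hsq.lift_snd _ _ _
  have hbig : IsPullback (j ≫ g) (f.fiberToSpecResidueField y) f
      (Spec.map (Y.residue y) ≫ Y.fromSpecStalk y) := by
    rw [hj1]
    exact IsPullback.of_hasPullback f (Y.fromSpecResidueField y)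
  have hpb : IsPullback j (f.fiberToSpecResidueField y)
      (X₁ ↘ Spec (CommRingCat.of (Y.presheaf.stalk y))) (Spec.map (Y.residue y)) :=
    IsPullback.of_right hbig hj2 hsq
  haveI : IsClosedImmersion (Spec.map (Y.residue y)) := inferInstance
  haveI : IsClosedImmersion j := MorphismProperty.of_isPullback hpb.flip inferInstance
  have hker : RingHom.ker (Y.residue y).hom = IsLocalRing.maximalIdeal (Y.presheaf.stalk y) :=
    IsLocalRing.ker_residue
  have hJ : RingHom.ker (φT (Spec.map (Y.residue y))) = IsLocalRing.maximalIdeal (Y.presheaf.stalk y) :=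
    (ker_φT_SpecMap (A := Y.presheaf.stalk y) (Y.residue y)).trans hker
  -- the closed fibre is Noetherian, Serre vanishing, finite cohomological dimension
  have hprop : IsProper (f.fiberToSpecResidueField y) :=
    MorphismProperty.pullback_snd _ _ inferInstance
  haveI := hprop
  have hN : IsNoetherianRing ↑(Y.residueField y) := by
    have : IsNoetherianRing (IsLocalRing.ResidueField (Y.presheaf.stalk y)) := inferInstance
    exact this
  haveI : IsLocallyNoetherian Z :=
    LocallyOfFiniteType.isLocallyNoetherian (f.fiberToSpecResidueField y)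
  haveI : CompactSpace Z := QuasiCompact.compactSpace_of_compactSpace (f.fiberToSpecResidueField y)
  haveI : IsNoetherian Z := {}
  let L₀ : Z.Modules := (Scheme.Modules.pullback (f.fiberι y)).obj L
  haveI : Z.IsSeparated := Groth.Agent.Lib.Helper23.SecTw.isSeparated_of_isAmple L₀ hy
  obtain ⟨D, hD⟩ := Groth.Agent.Lib.T2H4.AmpleAffine.exists_cohDim Z (fun V W hV hW => hV.inf hW)
  have hD' : ∀ (N : Z.Modules) [N.IsQuasicoherent] (n : ℕ), D ≤ n →
      Subsingleton (Coh.HH Z N n) := fun N _ n hn => hD N n hn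
  have hSerre := (@Groth.Agent.S0051.result (Y.residueField y) _ hN Z
    (f.fiberToSpecResidueField y) hprop L₀ hy.1).1 hy
  -- the modules on `X₁`
  let L₁ : X₁.Modules := (Scheme.Modules.pullback g).obj L
  have hL₁ : PicF.IsInvertible L₁ := Groth.Agent.Lib.Helper23.PB.isInvertible_pullback g L hL
  let F₁ : X₁.Modules := (Scheme.Modules.pullback g).obj M
  have hF₁ : Coh.IsCoh F₁ := Groth.Agent.Lib.T2H5.GenIsoD.isCoh_pullback g M hM
  let eL : (Scheme.Modules.pullback j).obj L₁ ≅ L₀ :=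
    (Scheme.Modules.pullbackComp j g).app L ≪≫ (Scheme.Modules.pullbackCongr hj1).app L
  obtain ⟨r, a, hspan⟩ := (Submodule.fg_iff_exists_fin_generating_family).1
    (IsNoetherian.noetherian (IsLocalRing.maximalIdeal (Y.presheaf.stalk y)))
  obtain ⟨d₀, hd₀⟩ := uniform_vanishing_levels (A := Y.presheaf.stalk y) (hOX := hO) j (f.fiberToSpecResidueField y)
    (Spec.map (Y.residue y)) hpb (IsLocalRing.maximalIdeal (Y.presheaf.stalk y)) hJ L₁ hL₁ L₀ hy.1 eL hSerre D hD' F₁ hF₁
    a hspan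
  refine ⟨d₀, fun d hd p hp => ?_⟩
  have hcoh : Coh.IsCoh (CohB1.tensorMod M (CohB1.tensorPow L d)) :=
    Groth.Agent.Lib.T2H5.AmpleSerre.isCoh_tensor_tensorPow M L hM hL d
  obtain ⟨hfin, ⟨e⟩⟩ := Groth.Agent.S4467.result f (CohB1.tensorMod M (CohB1.tensorPow L d)) hcoh y p
    X₁ g hsq
  -- the levels
  let P : X₁.Modules := CohB1.tensorPow L₁ d
  have hP : PicF.IsInvertible P := Groth.Agent.Lib.Helper23.SecTw.isInvertible_tensorPow hL₁ d
  haveI : (tr P).IsLeftAdjoint := Groth.Agent.Lib.Helper21.ModTensor3.tR_isLeftAdjoint X₁.sheaf P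
  obtain ⟨ε⟩ := Groth.Agent.Lib.Helper23.PB.nonempty_pullback_tensorPow_iso g L hL d
  let e1 : (Scheme.Modules.pullback g).obj (CohB1.tensorMod M (CohB1.tensorPow L d)) ≅
      (tr P).obj F₁ :=
    Groth.Agent.Lib.Helper23.RestrTensor.pullbackTensorIso M (CohB1.tensorPow L d) g ≪≫
      Groth.Agent.Lib.Helper23.AmpleIso.tensorModIso (Iso.refl _) ε
  obtain ⟨c1⟩ := nonempty_completion_iso_of_iso (IsLocalRing.maximalIdeal (Y.presheaf.stalk y)) e1
  obtain ⟨c2⟩ := nonempty_completion_comp_iso (tr P)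
    (Groth.Agent.Lib.T2H9.FibLift.tr_map_smulMod X₁ P) (IsLocalRing.maximalIdeal (Y.presheaf.stalk y)) F₁
  have hlev : ∀ n : ℕ, Subsingleton (Formal.HHmodPow (IsLocalRing.maximalIdeal (Y.presheaf.stalk y))
      ((Scheme.Modules.pullback g).obj (CohB1.tensorMod M (CohB1.tensorPow L d))) p n) := by
    intro n
    have h1 := hd₀ d hd n p hp
    exact Groth.Agent.Lib.T2H5.PnStruct.subsingleton_HH_of_iso
      ((c2.app (op n)) ≪≫ (c1.app (op n)).symm) p h1
  haveI : Subsingleton (Formal.HHlim (IsLocalRing.maximalIdeal (Y.presheaf.stalk y))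
      ((Scheme.Modules.pullback g).obj (CohB1.tensorMod M (CohB1.tensorPow L d))) p) := by
    refine ⟨fun x z => Subtype.ext (funext fun n => ?_)⟩
    exact @Subsingleton.elim _ (hlev n) _ _
  haveI : Subsingleton (AdicCompletion (IsLocalRing.maximalIdeal (Y.presheaf.stalk y))
      (((Coh.Rpush f p).obj (CohB1.tensorMod M (CohB1.tensorPow L d))).presheaf.stalk y)) :=
    e.toEquiv.subsingleton
  haveI := hfin
  exact (AdicCompletion.of_injective (IsLocalRing.maximalIdeal (Y.presheaf.stalk y))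
    (((Coh.Rpush f p).obj (CohB1.tensorMod M (CohB1.tensorPow L d))).presheaf.stalk y)).subsingleton

/-- **EGA III 4.7.1 (vanishing part)**, abelian sheaf version. -/
theorem isZero_stalk_RpushAb_twist {X Y : Scheme.{u}} (f : X ⟶ Y) [IsProper f]
    [IsNoetherian Y] (L : X.Modules) (hL : PicF.IsInvertible L) (M : X.Modules) (hM : Coh.IsCoh M)
    (y : Y) (hy : CohB1.IsAmple ((Scheme.Modules.pullback (f.fiberι y)).obj L)) :
    ∃ d₀ : ℕ, ∀ d : ℕ, d₀ ≤ d → ∀ p : ℕ, 0 < p →
      Limits.IsZero (TopCat.Presheaf.stalk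
        ((Coh.RpushAb f p).obj (Coh.toAb (CohB1.tensorMod M (CohB1.tensorPow L d)))).obj y) := by
  haveI := Groth.Agent.Lib.T2H5.RpushClosed.hasInjectiveResolutions_modules X
  obtain ⟨d₀, h⟩ := subsingleton_stalk_Rpush_twist f L hL M hM y hy
  refine ⟨d₀, fun d hd p hp => ?_⟩
  haveI := h d hd p hp
  obtain ⟨e⟩ := Groth.Agent.Lib.Helper23.ModAbBridge.nonempty_toAb_Rpush_iso f
    (CohB1.tensorMod M (CohB1.tensorPow L d)) p
  have e' : TopCat.Presheaf.stalk (Coh.toAb ((Coh.Rpush f p).obj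
        (CohB1.tensorMod M (CohB1.tensorPow L d)))).obj y ≅
      TopCat.Presheaf.stalk ((Coh.RpushAb f p).obj
        (Coh.toAb (CohB1.tensorMod M (CohB1.tensorPow L d)))).obj y :=
    (TopCat.Presheaf.stalkFunctor AddCommGrpCat.{u} y).mapIso
      ((sheafToPresheaf _ _).mapIso e)
  refine Limits.IsZero.of_iso ?_ e'.symm
  haveI : Subsingleton ↑(TopCat.Presheaf.stalk (Coh.toAb ((Coh.Rpush f p).obj
      (CohB1.tensorMod M (CohB1.tensorPow L d)))).obj y) :=
    ‹Subsingleton (((Coh.Rpush f p).obj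
      (CohB1.tensorMod M (CohB1.tensorPow L d))).presheaf.stalk y)›
  exact AddCommGrpCat.isZero_of_subsingleton _

end stalk

end Groth.Agent.Lib.T2H9.Thick
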