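import Mathlib
import Groth.Agent.Lib.T2H9Thick7
import Groth.Agent.Lib.T2H6RelAmpleCrit
import Groth.Agent.Lib.T2H5AmpleLimC
import Groth.Agent.Lib.Helper26StalkLim
import Groth.Agent.Lib.T2H5RpushCoh
import Groth.Agent.Lib.T2H5RpushClosed
import Groth.Agent.Lib.T2H5Devissage
set_option backward.isDefEq.respectTransparency.types false

/-!
# T2H5AmpleFibre: ampleness on a fibre spreads to a neighbourhood (EGA III 4.7.1) (helper5)

Namespace `Groth.Agent.Lib.T2H5.AmpleFibre`.

* `isRelAmple_of_isPullback`: relative ampleness is stable under base change (any pullback square).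
* `isAmple_fibre_baseChange`: ampleness on the fibre over `y` gives ampleness on the fibre of a base change over a
  point above `y`.
* `isZero_of_subsingleton_stalk_closedPoint`: a module on a local affine scheme with closed support and zero
  stalk at the closed point is zero.
* `isRelAmple_local`: proper over a Noetherian local ring, ample on the closed fibre, then relatively ample.
* `exists_affNhd_isRelAmple`: `f` proper, `Y` Noetherian, `L` ample on the fibre over `y`: there is an affine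
  open neighbourhood `W` of `y` with the base change of `L` to `X ×_Y Spec Γ(Y, W)` relatively ample.
* `isAmple_restrict_of_le`: ... and then `L` is ample on `f⁻¹(W')` for every affine open `W' ≤ W`.
-/

set_option autoImplicit false
set_option linter.style.haveILetI false
set_option linter.unusedSectionVars false
universe u
open CategoryTheory CategoryTheory.Limits AlgebraicGeometry TopologicalSpace Opposite Topology

namespace Groth.Agent.Lib.T2H5.AmpleFibre

open Groth.Agent.Lib.Helper23.PB Groth.Agent.Lib.T2H5.ModLimB Groth.Agent.Lib.Helper23.AmpleIso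
open Groth.Agent.Lib.Helper26.StalkLim

/-- relative ampleness is stable under base change, for an arbitrary pullback square -/
theorem isRelAmple_of_isPullback {X Y X' Y' : Scheme.{u}} {f : X ⟶ Y} {g : Y' ⟶ Y} {g' : X' ⟶ X}
    {f' : X' ⟶ Y'} (hsq : IsPullback g' f' f g) (L : X.Modules) (h : RelAmple.IsRelAmple f L) :
    RelAmple.IsRelAmple f' ((Scheme.Modules.pullback g').obj L) := by
  haveI : QuasiCompact f := h.1
  have h1 := Groth.Agent.S2332.result f g L h
  haveI : QuasiCompact (pullback.snd f g) := h1.1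
  have h2 := Groth.Agent.S2355.result (pullback.snd f g) hsq.isoPullback.hom
    (Groth.Agent.Lib.T2H5.AmpleLimRel.isQuasiAffine_of_isIso _) _ h1
  rw [IsPullback.isoPullback_hom_snd] at h2
  refine Groth.Agent.S4417.isRelAmple_of_iso f' ?_ h2
  exact cmp hsq.isoPullback.hom (pullback.fst f g) g' (IsPullback.isoPullback_hom_fst _) L

/-- ampleness on the fibre over `y` passes to the fibre of a base change over a point above `y` -/
theorem isAmple_fibre_baseChange {X Y T X₁ : Scheme.{u}} (f : X ⟶ Y) (u : T ⟶ Y) (g : X₁ ⟶ X)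
    (f₁ : X₁ ⟶ T) (hsq : IsPullback g f₁ f u) (L : X.Modules) (t : T) (y : Y) (hty : u t = y)
    (hy : CohB1.IsAmple ((Scheme.Modules.pullback (f.fiberι y)).obj L)) :
    CohB1.IsAmple ((Scheme.Modules.pullback (f₁.fiberι t)).obj
      ((Scheme.Modules.pullback g).obj L)) := by
  subst hty
  have hw : T.fromSpecResidueField t ≫ u =
      Spec.map (u.residueFieldMap t) ≫ Y.fromSpecResidueField (u t) :=
    (Scheme.Hom.SpecMap_residueFieldMap_fromSpecResidueField u t).symm
  have h1 : IsPullback (f₁.fiberι t) (f₁.fiberToSpecResidueField t) f₁ (T.fromSpecResidueField t) :=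
    IsPullback.of_hasPullback _ _
  have hbig : IsPullback (f₁.fiberι t ≫ g) (f₁.fiberToSpecResidueField t) f
      (T.fromSpecResidueField t ≫ u) := h1.paste_horiz hsq
  have h3 : IsPullback (f.fiberι (u t)) (f.fiberToSpecResidueField (u t)) f
      (Y.fromSpecResidueField (u t)) := IsPullback.of_hasPullback _ _
  have hcomm : (f₁.fiberι t ≫ g) ≫ f =
      (f₁.fiberToSpecResidueField t ≫ Spec.map (u.residueFieldMap t)) ≫
        Y.fromSpecResidueField (u t) := by
    rw [Category.assoc (f₁.fiberToSpecResidueField t), ← hw]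
    exact hbig.w
  obtain ⟨ψ, hψ1, hψ2⟩ : ∃ ψ : f₁.fiber t ⟶ f.fiber (u t),
      ψ ≫ f.fiberι (u t) = f₁.fiberι t ≫ g ∧
        ψ ≫ f.fiberToSpecResidueField (u t) =
          f₁.fiberToSpecResidueField t ≫ Spec.map (u.residueFieldMap t) :=
    ⟨h3.lift _ _ hcomm, h3.lift_fst _ _ _, h3.lift_snd _ _ _⟩
  have hleft : IsPullback ψ (f₁.fiberToSpecResidueField t) (f.fiberToSpecResidueField (u t))
      (Spec.map (u.residueFieldMap t)) := by
    refine IsPullback.of_right ?_ hψ2 h3
    rw [hψ1, ← hw]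
    exact hbig
  haveI : IsAffineHom ψ :=
    MorphismProperty.of_isPullback (P := @IsAffineHom) hleft.flip inferInstance
  have h4 := isAmple_pullback_of_isAffineHom ψ _ hy
  exact isAmple_of_iso (cmp ψ (f.fiberι (u t)) (f₁.fiberι t ≫ g) hψ1 L ≪≫
    (cmp (f₁.fiberι t) g (f₁.fiberι t ≫ g) rfl L).symm) h4

/-- a module on a local affine scheme with closed support and zero stalk at the closed point is zero -/
theorem isZero_of_subsingleton_stalk_closedPoint {A : Type u} [CommRing A] [IsLocalRing A]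
    (N : (Spec (CommRingCat.of A)).Modules) (hN : IsClosed (CohB1.support N))
    (h : Subsingleton (N.presheaf.stalk (IsLocalRing.closedPoint A))) : IsZero N := by
  apply Groth.Agent.Lib.T2H5.Devissage.isZero_of_support_eq_empty
  by_contra hne
  obtain ⟨x, hx⟩ := Set.nonempty_iff_ne_empty.2 hne
  have hspec : x ⤳ IsLocalRing.closedPoint A := IsLocalRing.specializes_closedPoint x
  have hmem : IsLocalRing.closedPoint A ∈ CohB1.support N :=
    hN.stableUnderSpecialization hspec hx
  exact hmem h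

/-- **local case of EGA III 4.7.1** -/
theorem isRelAmple_local {A : Type u} [CommRing A] [IsLocalRing A] [IsNoetherianRing A]
    {X₁ : Scheme.{u}} (f₁ : X₁ ⟶ Spec (CommRingCat.of A)) [IsProper f₁] (L₁ : X₁.Modules)
    (hL₁ : PicF.IsInvertible L₁)
    (h : CohB1.IsAmple
      ((Scheme.Modules.pullback (f₁.fiberι (IsLocalRing.closedPoint A))).obj L₁)) :
    RelAmple.IsRelAmple f₁ L₁ := by
  haveI := Groth.Agent.Lib.T2H5.RpushClosed.hasInjectiveResolutions_modules X₁
  haveI : IsNoetherian (Spec (CommRingCat.of A)) := inferInstance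
  refine ⟨inferInstance, fun V =>
    Groth.Agent.Lib.T2H6.RelAmpleCrit.isAmple_restrict_of_vanishing f₁ L₁ hL₁ ?_ V⟩
  intro J ι hι hJ
  obtain ⟨d₀, hd₀⟩ := Groth.Agent.Lib.T2H9.Thick.subsingleton_stalk_Rpush_twist f₁ L₁ hL₁ J hJ
    (IsLocalRing.closedPoint A) h
  refine ⟨d₀, fun n hn => ?_⟩
  have hcoh : Coh.IsCoh (CohB1.tensorMod J (CohB1.tensorPow L₁ n)) :=
    Groth.Agent.Lib.T2H5.AmpleSerre.isCoh_tensor_tensorPow J L₁ hJ hL₁ n
  exact isZero_of_subsingleton_stalk_closedPoint _
    (Groth.Agent.Lib.T2H5.Devissage.isClosed_support _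
      (Groth.Agent.Lib.T2H5.RpushCoh.isCoh_Rpush f₁ _ hcoh 1))
    (hd₀ n hn 1 Nat.one_pos)

/-- **spreading out**: `f` proper over a Noetherian scheme, `L` ample on the fibre over `y`; then over some affine open
neighbourhood `W` of `y` the base change of `L` to `X ×_Y Spec Γ(Y, W)` is relatively ample -/
theorem exists_affNhd_isRelAmple {X Y : Scheme.{u}} (f : X ⟶ Y) [IsProper f] [IsNoetherian Y]
    (L : X.Modules) (hL : PicF.IsInvertible L) (y : Y)
    (hy : CohB1.IsAmple ((Scheme.Modules.pullback (f.fiberι y)).obj L)) :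
    ∃ a : AffNhd y, RelAmple.IsRelAmple (pullback.snd f a.isAffine.fromSpec)
      ((Scheme.Modules.pullback (pullback.fst f a.isAffine.fromSpec)).obj L) := by
  haveI hnoeth : IsNoetherianRing (Y.presheaf.stalk y) := inferInstance
  haveI hloc' : IsLocalRing (Y.presheaf.stalk y) := inferInstance
  let u : Spec (Y.presheaf.stalk y) ⟶ Y := Y.fromSpecStalk y
  let f₁ : pullback f u ⟶ Spec (Y.presheaf.stalk y) := pullback.snd f u
  haveI : IsProper f₁ := MorphismProperty.pullback_snd _ _ inferInstance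
  have hty : u (IsLocalRing.closedPoint (Y.presheaf.stalk y)) = y := Scheme.fromSpecStalk_closedPoint
  have hfib := isAmple_fibre_baseChange f u (pullback.fst f u) f₁ (IsPullback.of_hasPullback f u) L
    (IsLocalRing.closedPoint (Y.presheaf.stalk y)) y hty hy
  have hloc : RelAmple.IsRelAmple f₁ ((Scheme.Modules.pullback (pullback.fst f u)).obj L) :=
    @isRelAmple_local (Y.presheaf.stalk y) (Y.presheaf.stalk y).commRing hloc' hnoeth _ f₁ inferInstance _
      (isInvertible_pullback _ L hL) hfib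
  -- the limit presentation
  obtain ⟨a₀⟩ : Nonempty (AffNhd y) := inferInstance
  let i₀ : (AffNhd y)ᵒᵖ := op a₀
  let t₀ : (specDiagram y).obj i₀ ⟶ Y := toX y i₀
  let π : Spec (Y.presheaf.stalk y) ⟶ (specDiagram y).obj i₀ := (specCone y).π.app i₀
  have hπ : π ≫ t₀ = u := π_toX y i₀
  let f₀ : pullback f t₀ ⟶ (specDiagram y).obj i₀ := pullback.snd f t₀
  haveI : IsProper f₀ := MorphismProperty.pullback_snd _ _ inferInstance
  let L₀ : (pullback f t₀).Modules := (Scheme.Modules.pullback (pullback.fst f t₀)).obj L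
  have hL₀ : PicF.IsInvertible L₀ := isInvertible_pullback _ L hL
  have hcond : pullback.fst f u ≫ f = (pullback.snd f u ≫ π) ≫ t₀ := by
    rw [Category.assoc, hπ]
    exact pullback.condition
  let qX : pullback f u ⟶ pullback f t₀ := pullback.lift (pullback.fst f u) (pullback.snd f u ≫ π) hcond
  have hq1 : qX ≫ pullback.fst f t₀ = pullback.fst f u := pullback.lift_fst _ _ _
  have hq2 : qX ≫ f₀ = f₁ ≫ π := pullback.lift_snd _ _ _
  have hX : IsPullback qX f₁ f₀ π := by
    refine IsPullback.of_right ?_ hq2 (IsPullback.of_hasPullback f t₀)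
    rw [hq1, hπ]
    exact IsPullback.of_hasPullback f u
  have hY : IsPullback π (𝟙 (Spec (Y.presheaf.stalk y))) (𝟙 ((specDiagram y).obj i₀)) π :=
    IsPullback.of_vert_isIso ⟨by rw [Category.comp_id, Category.id_comp]⟩
  have h : RelAmple.IsRelAmple f₁ ((Scheme.Modules.pullback qX).obj L₀) :=
    Groth.Agent.S4417.isRelAmple_of_iso f₁
      (cmp qX (pullback.fst f t₀) (pullback.fst f u) hq1 L).symm hloc
  haveI : QuasiCompact (f₀ ≫ 𝟙 ((specDiagram y).obj i₀)) := by rw [Category.comp_id]; infer_instance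
  haveI : QuasiSeparated (f₀ ≫ 𝟙 ((specDiagram y).obj i₀)) := by rw [Category.comp_id]; infer_instance
  obtain ⟨j, φ, Xj, Yj, fj, gj, pY, pX, hYj, hXj, hamp⟩ :=
    Groth.Agent.Lib.T2H5.AmpleLimRel.exists_isRelAmple_stage (specDiagram y) (specCone y) (specIsLimit y) i₀
      f₀ (𝟙 _) L₀ hL₀ f₁ (𝟙 _) π qX hY hX h
  refine ⟨j.unop, ?_⟩
  let sj : (specDiagram y).obj j ⟶ Y := toX y j
  have hsj : (specDiagram y).map φ ≫ t₀ = sj := map_toX y φ
  haveI : IsIso gj := hYj.isIso_snd_of_isIso
  have hbig : IsPullback (pX ≫ pullback.fst f t₀) fj f (pY ≫ t₀) :=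
    hXj.paste_horiz (IsPullback.of_hasPullback f t₀)
  have hpY : pY ≫ t₀ = gj ≫ sj := by
    have := hYj.w
    rw [Category.comp_id] at this
    rw [this, Category.assoc, hsj]
  have hb : inv gj ≫ (pY ≫ t₀) = sj := by
    rw [hpY, IsIso.inv_hom_id_assoc]
  have hcond' : pullback.fst f sj ≫ f = (pullback.snd f sj ≫ inv gj) ≫ (pY ≫ t₀) := by
    rw [Category.assoc, hb]
    exact pullback.condition
  obtain ⟨a', ha1, ha2⟩ : ∃ a' : pullback f sj ⟶ Xj,
      a' ≫ (pX ≫ pullback.fst f t₀) = pullback.fst f sj ∧ a' ≫ fj = pullback.snd f sj ≫ inv gj :=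
    ⟨hbig.lift _ _ hcond', hbig.lift_fst _ _ _, hbig.lift_snd _ _ _⟩
  have hsq : IsPullback a' (pullback.snd f sj) fj (inv gj) := by
    refine IsPullback.of_right ?_ ha2 hbig
    rw [ha1, hb]
    exact IsPullback.of_hasPullback f sj
  have h1 := isRelAmple_of_isPullback hsq _ hamp
  have ha1' : (a' ≫ pX) ≫ pullback.fst f t₀ = pullback.fst f sj := by
    rw [Category.assoc]; exact ha1
  exact Groth.Agent.S4417.isRelAmple_of_iso (pullback.snd f sj)
    (cmp a' pX (a' ≫ pX) rfl L₀ ≪≫ cmp (a' ≫ pX) (pullback.fst f t₀) (pullback.fst f sj) ha1' L) h1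

/-- ampleness over the smaller affine opens -/
theorem isAmple_restrict_of_le {X Y : Scheme.{u}} (f : X ⟶ Y) [QuasiCompact f] (L : X.Modules)
    {W : Y.Opens} (hW : IsAffineOpen W)
    (h : RelAmple.IsRelAmple (pullback.snd f hW.fromSpec)
      ((Scheme.Modules.pullback (pullback.fst f hW.fromSpec)).obj L))
    (W' : Y.Opens) (hle : W' ≤ W) (hW' : IsAffineOpen W') :
    CohB1.IsAmple (L.restrict (f ⁻¹ᵁ W').ι) := by
  let b' : (W' : Scheme.{u}) ⟶ Spec Γ(Y, W) := Y.homOfLE hle ≫ hW.isoSpec.hom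
  have hb' : b' ≫ hW.fromSpec = W'.ι := by
    rw [Category.assoc, hW.isoSpec_hom_fromSpec, Y.homOfLE_ι]
  have hres : IsPullback (f ⁻¹ᵁ W').ι (f ∣_ W') f W'.ι := (isPullback_morphismRestrict f W').flip
  have hP : IsPullback (pullback.fst f hW.fromSpec) (pullback.snd f hW.fromSpec) f hW.fromSpec :=
    IsPullback.of_hasPullback f hW.fromSpec
  have hcond : (f ⁻¹ᵁ W').ι ≫ f = (f ∣_ W' ≫ b') ≫ hW.fromSpec := by
    rw [Category.assoc, hb']
    exact hres.w
  obtain ⟨a', ha1, ha2⟩ : ∃ a' : ((f ⁻¹ᵁ W' : X.Opens) : Scheme.{u}) ⟶ pullback f hW.fromSpec,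
      a' ≫ pullback.fst f hW.fromSpec = (f ⁻¹ᵁ W').ι ∧
        a' ≫ pullback.snd f hW.fromSpec = f ∣_ W' ≫ b' :=
    ⟨hP.lift _ _ hcond, hP.lift_fst _ _ _, hP.lift_snd _ _ _⟩
  have hsq : IsPullback a' (f ∣_ W') (pullback.snd f hW.fromSpec) b' := by
    refine IsPullback.of_right ?_ ha2 hP
    rw [ha1, hb']
    exact hres
  have h1 := isRelAmple_of_isPullback hsq _ h
  haveI : IsAffine (W' : Scheme.{u}) := hW'
  haveI : QuasiCompact (f ∣_ W') := inferInstance
  have h2 := (Groth.Agent.S4381.result (f ∣_ W') _).1 h1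
  exact isAmple_of_iso (cmp a' (pullback.fst f hW.fromSpec) (f ⁻¹ᵁ W').ι ha1 L ≪≫
    ((Scheme.Modules.restrictFunctorIsoPullback (f ⁻¹ᵁ W').ι).symm.app L)) h2

end Groth.Agent.Lib.T2H5.AmpleFibre
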