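import Mathlib
import Groth.Agent.Lib.T2H5Chevalley
import Groth.Agent.Lib.T2H5AmpleDev
import Groth.Agent.Lib.T2H5ClosedTransfer
import Groth.Agent.Lib.T2H9TensorInv
import Groth.Agent.Lib.Helper23PB
import Groth.Agent.S0051
set_option backward.isDefEq.respectTransparency.types false

/-!
# T2H5AmpleFinSurj: Serre vanishing descends along finite surjective morphisms (EGA III 2.6.2) (helper5)

Namespace `Groth.Agent.Lib.T2H5.AmpleFinSurj`.

* `sv_of_sigma`: Serre vanishing for `F` from Serre vanishing for a finite direct sum of copies of `F`.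
* `sv_pushforward`: Serre vanishing for `f_* G` with respect to `L` from Serre vanishing for `G` with respect to `f^* L`
  (`f` affine).
* `sv_of_finite_surjective`: `f : Y ⟶ X` finite surjective, `X` Noetherian; if every coherent module on `Y` satisfies
  Serre vanishing with respect to `f^* L`, every coherent module on `X` satisfies it with respect to `L`.
* `isAmple_iff_pullback`: **S0052**.
-/

set_option autoImplicit false
set_option linter.style.haveILetI false
set_option linter.unusedSectionVars false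
universe u
open CategoryTheory CategoryTheory.Limits AlgebraicGeometry Opposite TopologicalSpace

namespace Groth.Agent.Lib.T2H5.AmpleFinSurj

open Groth.Agent.Lib.T2H5.IdealMul Groth.Agent.Lib.T2H5.Devissage Groth.Agent.Lib.T2H5.GenIsoA
open Groth.Agent.Lib.T2H5.GenIsoB Groth.Agent.Lib.T2H5.GenIsoC Groth.Agent.Lib.T2H5.GenIsoD
open Groth.Agent.Lib.T2H5.GenIsoE Groth.Agent.Lib.T2H5.GenIsoF Groth.Agent.Lib.T2H5.SubSec
open Groth.Agent.Lib.T2H5.ArtinRees Groth.Agent.Lib.T2H5.ExtendHom Groth.Agent.Lib.T2H5.GenSub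
open Groth.Agent.Lib.T2H5.Dev2 Groth.Agent.Lib.T2H5.PushIdeal Groth.Agent.Lib.T2H5.FinSurj
open Groth.Agent.Lib.T2H5.FinGen Groth.Agent.Lib.T2H5.HHSub
open Groth.Agent.Lib.Helper23.ModLocal Groth.Agent.Lib.Helper23.QCohLocal Groth.Agent.Lib.Helper23.FinType
open Groth.Agent.Lib.Helper2.ModExact Groth.Agent.Lib.T2H5.CohSigma
open Groth.Agent.Lib.Helper4.NormDelta Groth.Agent.Lib.Helper23.StalkLin
open Groth.Agent.Lib.Helper23.Extend Scheme.IdealSheafData
open Groth.Agent.Lib.T2H5.AmpleDev Groth.Agent.Lib.T2H5.Twist Groth.Agent.Lib.T2H5.Chevalley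

attribute [local instance] Abelian.hasFiniteBiproducts

variable {X : Scheme.{u}}

/-- Serre vanishing for `F` from Serre vanishing for a finite direct sum of copies of `F` -/
theorem sv_of_sigma (L F : X.Modules) (r : ℕ) (hr : 1 ≤ r) (h : SV L (∐ fun _ : Fin r => F)) :
    SV L F := by
  obtain ⟨n₀, hn₀⟩ := h
  refine ⟨n₀, fun n hn p hp => ?_⟩
  refine subsingleton_HH_of_retract
    ((tr (CohB1.tensorPow L n)).map (Sigma.ι (fun _ : Fin r => F) ⟨0, hr⟩))
    ((tr (CohB1.tensorPow L n)).map (Sigma.desc fun _ => 𝟙 F)) ?_ p (hn₀ n hn p hp)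
  rw [← CategoryTheory.Functor.map_comp]
  have : Sigma.ι (fun _ : Fin r => F) ⟨0, hr⟩ ≫ Sigma.desc (fun _ => 𝟙 F) = 𝟙 F := by simp
  rw [this, CategoryTheory.Functor.map_id]

/-- Serre vanishing for `f_* G` with respect to `L` from Serre vanishing for `G` with respect to `f^* L` -/
theorem sv_pushforward {Y : Scheme.{u}} (f : Y ⟶ X) [IsAffineHom f] (L : X.Modules)
    (hL : PicF.IsInvertible L) (G : Y.Modules) (hG : G.IsQuasicoherent)
    (h : SV ((Scheme.Modules.pullback f).obj L) G) :
    SV L ((Scheme.Modules.pushforward f).obj G) := by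
  obtain ⟨n₀, hn₀⟩ := h
  refine ⟨n₀, fun n hn p hp => ?_⟩
  have hLn := Groth.Agent.Lib.Helper23.SecTw.isInvertible_tensorPow hL n
  haveI : (CohB1.tensorPow L n).IsQuasicoherent :=
    Groth.Agent.Lib.Helper23.SecTw.isQuasicoherent_of_isInvertible _ hLn
  obtain ⟨ε⟩ := Groth.Agent.Lib.Helper23.PB.nonempty_pullback_tensorPow_iso f L hL n
  have h1 : Subsingleton (Coh.HH Y (CohB1.tensorMod G
      ((Scheme.Modules.pullback f).obj (CohB1.tensorPow L n))) p) :=
    Groth.Agent.Lib.T2H5.PnStruct.subsingleton_HH_of_iso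
      (Groth.Agent.Lib.Helper23.AmpleIso.tensorModIso (Iso.refl G) ε.symm) p (hn₀ n hn p hp)
  exact (Groth.Agent.Lib.T2H5.ClosedTransfer.subsingleton_HH_iff f G hG inferInstance
    (Groth.Agent.Lib.T2H9.TensorInv.tensorInvIso _ hLn)
    (Groth.Agent.Lib.T2H9.TensorInv.invTensorIso _ hLn) p).1 h1

/-- **Serre vanishing descends along finite surjective morphisms** -/
theorem sv_of_finite_surjective {Y : Scheme.{u}} (f : Y ⟶ X) [IsFinite f] [Surjective f] [IsNoetherian X]
    (L : X.Modules) (hL : PicF.IsInvertible L)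
    (hY : ∀ G : Y.Modules, Coh.IsCoh G → SV ((Scheme.Modules.pullback f).obj L) G)
    (F : X.Modules) (hF : Coh.IsCoh F) : SV L F := by
  haveI : IsLocallyNoetherian Y := LocallyOfFiniteType.isLocallyNoetherian f
  set P : X.Modules → Prop := fun M => SV L M with hPdef
  have hP : ∀ M N : X.Modules, Nonempty (M ≅ N) → P M → P N := fun M N ⟨e⟩ hM => sv_of_iso e hM
  have h₀ : ∀ M : X.Modules, IsZero M → P M := fun M hM => sv_of_isZero hM
  have h₁ : ∀ S : ShortComplex X.Modules, S.ShortExact → Coh.IsCoh S.X₁ → Coh.IsCoh S.X₂ → Coh.IsCoh S.X₃ →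
      P S.X₁ → P S.X₃ → P S.X₂ := fun S hS _ _ _ h1 h3 => sv_of_shortExact hL S hS h1 h3
  have h₂ : ∀ (F : X.Modules) (r : ℕ), Coh.IsCoh F → 1 ≤ r → P (∐ fun _ : Fin r => F) → P F :=
    fun F r _ hr h => sv_of_sigma L F r hr h
  refine core P hP h₀ h₁ Set.univ ?_ F hF (Set.subset_univ _)
  intro Z hZ hirrZ hZsub ihN M hM hMk
  refine irr_step_ideal P hP h₀ h₁ Z hZ hirrZ ihN ?_ M hM hMk
  intro I ι hι hIq
  have hrange : Set.range (vanishingIdeal ⟨Z, hZ⟩).subschemeι = Z := range_subschemeι_vanishingIdeal Z hZ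
  haveI : IsIntegral (vanishingIdeal ⟨Z, hZ⟩).subscheme := isIntegral_subscheme_vanishingIdeal Z hZ hirrZ
  obtain ⟨F₀, hF₀, hsupp, hann⟩ := exists_coh_push_support f _ (vanishingIdeal ⟨Z, hZ⟩).subschemeι
  haveI := hι
  haveI : F₀.IsQuasicoherent := hF₀.1
  have hG : Coh.IsCoh ((Scheme.Modules.pushforward f).obj F₀) := isCoh_pushforward_finite f F₀ hF₀
  haveI : ((Scheme.Modules.pushforward f).obj F₀).IsQuasicoherent := hG.1
  refine prop_push_ideal (vanishingIdeal ⟨Z, hZ⟩).subschemeι P hP h₀ h₁ h₂ Z hrange ihN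
    ((Scheme.Modules.pushforward f).obj F₀) hG ?_ hann ?_ I ι hIq
  · rw [hsupp]
    exact ⟨_, rfl⟩
  · intro J hJ
    refine ⟨(Dual3.idealMul J).obj ((Scheme.Modules.pushforward f).obj F₀), 𝟙 _, inferInstance,
      isQuasicoherent_idealMul J _, ?_, ?_⟩
    · rw [Category.id_comp]
      have hD : IsoOn (Dual3.idealMulι J ((Scheme.Modules.pushforward f).obj F₀)) (J.support : Closeds X).compl := by
        have := isoOn_idealMulι_pow J ((Scheme.Modules.pushforward f).obj F₀) (J.support : Closeds X).compl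
          (by
            rw [Set.eq_empty_iff_forall_notMem]
            rintro x ⟨hx1, hx2⟩
            exact hx2 hx1) 1
        rwa [pow_one] at this
      rw [ConcreteCategory.isIso_iff_bijective]
      exact bijective_stalkLin_of_isoOn _ _ hD _ hJ
    · obtain ⟨e, -⟩ := exists_iso_idealMul_pushforward f F₀ J
      refine hP _ _ ⟨e.symm⟩ ?_
      have hc : Coh.IsCoh ((Dual3.idealMul (J.comap f)).obj F₀) := isCoh_idealMul (J.comap f) F₀ hF₀
      exact sv_pushforward f L hL _ hc.1 (hY _ hc)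

/-- **S0052** -/
theorem isAmple_iff_pullback (R : Type u) [CommRing R] [IsNoetherianRing R]
    {X Y : Scheme.{u}} (gX : X ⟶ Spec (CommRingCat.of R)) (gY : Y ⟶ Spec (CommRingCat.of R)) [IsProper gX]
    [IsProper gY] (f : Y ⟶ X) [IsFinite f] [Surjective f] (L : X.Modules)
    (hL : PicF.IsInvertible L) :
    CohB1.IsAmple L ↔ CohB1.IsAmple ((Scheme.Modules.pullback f).obj L) := by
  constructor
  · intro h
    exact Groth.Agent.Lib.Helper23.PB.isAmple_pullback_of_isAffineHom f L h
  · intro h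
    haveI : IsLocallyNoetherian X := LocallyOfFiniteType.isLocallyNoetherian gX
    haveI : CompactSpace X := QuasiCompact.compactSpace_of_compactSpace gX
    haveI : IsNoetherian X := {}
    have hY := (Groth.Agent.S0051.result R Y gY _ h.1).1 h
    refine (Groth.Agent.S0051.result R X gX L hL).2 (fun M hM => ?_)
    exact sv_of_finite_surjective f L hL (fun G hG => hY G hG) M hM

end Groth.Agent.Lib.T2H5.AmpleFinSurj
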