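import Groth.Agent.Lib.T2H9FibVanish
import Groth.Agent.Lib.Helper3FlatCxBC
import Groth.Agent.S2380
import Groth.Agent.S2440
set_option backward.isDefEq.respectTransparency.types false

/-!
# Base change of the homology of a complex of finite flat modules over a Noetherian ring (helper5)

Namespace `Groth.Agent.Lib.T2H5.LocAlg`.

`P` a chain complex of finite flat modules over a Noetherian ring `A`, `a : A`, `ψ : A → B` a ring map to an
arbitrary ring with `ψ a` invertible.

* `isZero_homology_bcCx`: if `dRank P j` vanishes on `D(a)` then `H_j(P ⊗_A B) = 0`.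
* `finite_projective_homology_bcCx`: if `dRank P (j+1)` and `dRank P (j-1)` vanish on `D(a)` then
  `H_j(P ⊗_A B)` is a finite projective `B`-module.
* `exists_away`: a vanishing of `dRank P j` at a point spreads to a basic open neighbourhood.
-/

set_option autoImplicit false
set_option linter.style.haveILetI false
set_option linter.unusedSectionVars false
set_option linter.unusedVariables false
universe u
open CategoryTheory CategoryTheory.Limits

namespace Groth.Agent.Lib.T2H5.LocAlg

open Groth.Agent.Lib.Helper3

section split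

variable {R : Type*} [CommRing R] {M N Q : Type*} [AddCommGroup M] [AddCommGroup N]
  [AddCommGroup Q] [Module R M] [Module R N] [Module R Q]

/-- the kernel of a surjection from a finite projective module onto a projective module is finite
projective -/
theorem finite_projective_of_exact (f : M →ₗ[R] N) (g : N →ₗ[R] Q) (hf : Function.Injective f)
    (hg : Function.Surjective g) (hex : Function.Exact f g) [Module.Projective R Q]
    [Module.Projective R N] [Module.Finite R N] : Module.Finite R M ∧ Module.Projective R M := by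
  obtain ⟨l, hl⟩ := Module.projective_lifting_property g LinearMap.id hg
  have htf := (hex.split_tfae hf hg).out 0 1
  obtain ⟨r, hr⟩ := htf.1 ⟨l, hl⟩
  exact ⟨Module.Finite.of_surjective r (fun m => ⟨f m, LinearMap.congr_fun hr m⟩),
    Module.Projective.of_split f r hr⟩

variable {H C D : Type*} [AddCommGroup H] [AddCommGroup C] [AddCommGroup D] [Module R H]
  [Module R C] [Module R D]

/-- in an exact sequence `0 → H → C → N → D → 0` with `C`, `N` finite projective and `D` projective, `H`
is finite projective -/
theorem finite_projective_of_four (ι : H →ₗ[R] C) (φ : C →ₗ[R] N) (π : N →ₗ[R] D)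
    (hι : Function.Injective ι) (hπ : Function.Surjective π) (h1 : Function.Exact ι φ)
    (h2 : Function.Exact φ π) [Module.Finite R C] [Module.Projective R C] [Module.Finite R N]
    [Module.Projective R N] [Module.Projective R D] :
    Module.Finite R H ∧ Module.Projective R H := by
  have hI : Module.Finite R (LinearMap.range φ) ∧ Module.Projective R (LinearMap.range φ) := by
    refine finite_projective_of_exact (LinearMap.range φ).subtype π
      (LinearMap.range φ).injective_subtype hπ ?_
    intro q
    rw [h2 q]
    constructor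
    · rintro ⟨c, rfl⟩
      exact ⟨⟨φ c, c, rfl⟩, rfl⟩
    · rintro ⟨⟨_, c, rfl⟩, rfl⟩
      exact ⟨c, rfl⟩
  haveI := hI.1
  haveI := hI.2
  refine finite_projective_of_exact ι φ.rangeRestrict hι φ.surjective_rangeRestrict ?_
  intro c
  rw [← h1 c]
  constructor
  · intro h
    exact congrArg Subtype.val h
  · intro h
    exact Subtype.ext h

end split

section bc

variable {A : Type u} [CommRing A]

/-- base change of complexes along a composite of ring maps -/
noncomputable def bcCxCompIso {B C : Type u} [CommRing B] [CommRing C] (f : A →+* B) (g : B →+* C)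
    {κ : Type} {c : ComplexShape κ} (P : HomologicalComplex (ModuleCat.{u} A) c) :
    CohIII.bcCx (g.comp f) P ≅ CohIII.bcCx g (CohIII.bcCx f P) :=
  let e : ModuleCat.extendScalars.{u, u, u} (g.comp f) ≅
      ModuleCat.extendScalars.{u, u, u} f ⋙ ModuleCat.extendScalars.{u, u, u} g :=
    ModuleCat.extendScalarsComp f g
  HomologicalComplex.Hom.isoOfComponents (fun i => e.app (P.X i)) (by
    intro i j _
    exact (e.hom.naturality (P.d i j)).symm)

/-- finite projective modules stay finite projective after extension of scalars -/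
theorem finite_projective_extendScalars {B : Type u} [CommRing B] [Algebra A B]
    (M : ModuleCat.{u} A) [Module.Finite A M] [Module.Projective A M] :
    Module.Finite B ((ModuleCat.extendScalars (algebraMap A B)).obj M) ∧
      Module.Projective B ((ModuleCat.extendScalars (algebraMap A B)).obj M) :=
  ⟨Groth.Agent.S2380.finite_extendScalars A B M,
    Module.Projective.of_equiv (Groth.Agent.S2380.bridge A B M).symm⟩

variable (P : ChainComplex (ModuleCat.{u} A) ℤ)

/-- the homology of a complex is finite projective if the neighbouring modules of cocycles are -/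
theorem finite_projective_homology (j : ℤ) [Module.Finite A (P.X (j - 1))]
    [Module.Projective A (P.X (j - 1))] [Module.Finite A (P.opcycles j)]
    [Module.Projective A (P.opcycles j)] [Module.Projective A (P.opcycles (j - 1))] :
    Module.Finite A (P.homology j) ∧ Module.Projective A (P.homology j) := by
  have hrel : (ComplexShape.down ℤ).Rel j (j - 1) := by
    show j - 1 + 1 = j
    ring
  exact finite_projective_of_four (P.homologyι j).hom (P.fromOpcycles j (j - 1)).hom
    (P.pOpcycles (j - 1)).hom ((ModuleCat.mono_iff_injective _).mp inferInstance)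
    ((ModuleCat.epi_iff_surjective _).mp inferInstance)
    (exact_homologyι_fromOpcycles P j (j - 1) ((ComplexShape.down ℤ).next_eq' hrel))
    (exact_fromOpcycles_pOpcycles P j (j - 1) ((ComplexShape.down ℤ).prev_eq' hrel))

end bc

section noeth

variable {A : Type u} [CommRing A] [IsNoetherianRing A] (P : ChainComplex (ModuleCat.{u} A) ℤ)
  (hP : ∀ i, Module.Finite A (P.X i) ∧ Module.Flat A (P.X i))

include hP in
theorem hP_bcCx (B : Type u) [CommRing B] [Algebra A B] (i : ℤ) :
    Module.Finite B ((CohIII.bcCx (algebraMap A B) P).X i) ∧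
      Module.Flat B ((CohIII.bcCx (algebraMap A B) P).X i) := by
  haveI := (hP i).1
  exact ⟨Groth.Agent.S2380.finite_extendScalars A B (P.X i),
    flat_bcCx_X B P (fun i => (hP i).2) i⟩

include hP in
theorem dRank_away (a : A) (j : ℤ) (h : ∀ x : PrimeSpectrum A, a ∉ x.asIdeal → CohIII.dRank P j x = 0)
    (x₁ : PrimeSpectrum (Localization.Away a)) :
    CohIII.dRank (CohIII.bcCx (algebraMap A (Localization.Away a)) P) j x₁ = 0 := by
  rw [Groth.Agent.S2440.result P (fun i => (hP i).2) j x₁]
  apply h
  intro ha
  exact x₁.isPrime.ne_top (Ideal.eq_top_of_isUnit_mem _ ha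
    (IsLocalization.Away.algebraMap_isUnit a))

include hP in
/-- if `dRank P j` vanishes on `D(a)` then `H_j(P ⊗_A B) = 0` for every `A`-algebra `B` in which `a` is
invertible -/
theorem isZero_homology_bcCx (j : ℤ) (a : A)
    (h : ∀ x : PrimeSpectrum A, a ∉ x.asIdeal → CohIII.dRank P j x = 0) {B : Type u} [CommRing B]
    (ψ : A →+* B) (hu : IsUnit (ψ a)) : IsZero ((CohIII.bcCx ψ P).homology j) := by
  let ψ₁ : Localization.Away a →+* B := IsLocalization.Away.lift a hu
  have hψ : ψ₁.comp (algebraMap A (Localization.Away a)) = ψ := IsLocalization.Away.lift_comp a hu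
  let P₁ := CohIII.bcCx (algebraMap A (Localization.Away a)) P
  have hP₁ := hP_bcCx P hP (Localization.Away a)
  have hd := dRank_away P hP a j h
  have hz := Groth.Agent.Lib.T2H9.FibVanish.isZero_T_of_dRank_eq_zero P₁ hP₁ j hd
    ((ModuleCat.restrictScalars ψ₁).obj (ModuleCat.of B B))
  have hz2 : IsZero ((ModuleCat.restrictScalars ψ₁).obj
      ((CohIII.TFun (CohIII.bcCx ψ₁ P₁) j).obj (ModuleCat.of B B))) :=
    hz.of_iso ((Groth.Agent.Lib.T2H9.ProjFormula.tFunBcIso ψ₁ P₁ j).app (ModuleCat.of B B))
  have hs : Subsingleton ((CohIII.TFun (CohIII.bcCx ψ₁ P₁) j).obj (ModuleCat.of B B)) :=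
    (ModuleCat.subsingleton_of_isZero hz2 : Subsingleton ((ModuleCat.restrictScalars ψ₁).obj
      ((CohIII.TFun (CohIII.bcCx ψ₁ P₁) j).obj (ModuleCat.of B B))))
  have hz3 : IsZero ((CohIII.TFun (CohIII.bcCx ψ₁ P₁) j).obj (ModuleCat.of B B)) :=
    @ModuleCat.isZero_of_subsingleton _ _ _ hs
  have hz4 : IsZero ((CohIII.bcCx ψ₁ P₁).homology j) := hz3.of_iso (TUnitIso _ j).symm
  rw [← hψ]
  exact hz4.of_iso ((HomologicalComplex.homologyFunctor _ _ j).mapIso
    (bcCxCompIso (algebraMap A (Localization.Away a)) ψ₁ P))

include hP in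
/-- if `dRank P (j+1)` and `dRank P (j-1)` vanish identically then the modules of cocycles in degrees `j`
and `j - 1` are projective -/
theorem projective_opcycles (j : ℤ) (hup : ∀ x : PrimeSpectrum A, CohIII.dRank P (j + 1) x = 0)
    (hdn : ∀ x : PrimeSpectrum A, CohIII.dRank P (j - 1) x = 0) :
    Module.Projective A (P.opcycles j) ∧ Module.Projective A (P.opcycles (j - 1)) := by
  have hfin : ∀ k, Module.Finite A (P.opcycles k) := fun k => by
    haveI := (hP k).1
    exact finite_opcycles P k
  have hfp : ∀ k, Module.FinitePresentation A (P.opcycles k) := fun k => by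
    haveI := hfin k
    exact Module.finitePresentation_of_finite A _
  have hpr : ∀ k, Module.Flat A (P.opcycles k) → Module.Projective A (P.opcycles k) := fun k hk => by
    haveI := hfp k
    haveI := hk
    exact Module.Flat.projective_of_finitePresentation
  have hfl_j : Module.Flat A (P.opcycles j) := by
    have h := Groth.Agent.Lib.T2H9.FibVanish.flat_opcycles_of_dRank_eq_zero P hP (j + 1) hup
    have e : j + 1 - 1 = j := by ring
    rwa [e] at h
  have hfl_j2 : Module.Flat A (P.opcycles (j - 1 - 1)) :=
    Groth.Agent.Lib.T2H9.FibVanish.flat_opcycles_of_dRank_eq_zero P hP (j - 1) hdn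
  refine ⟨hpr j hfl_j, ?_⟩
  have hz : IsZero (P.homology (j - 1)) :=
    (Groth.Agent.Lib.T2H9.FibVanish.isZero_T_of_dRank_eq_zero P hP (j - 1) hdn
      (ModuleCat.of A A)).of_iso (TUnitIso P (j - 1)).symm
  haveI hsub : Subsingleton (P.homology (j - 1)) := ModuleCat.subsingleton_of_isZero hz
  have hrel : (ComplexShape.down ℤ).Rel (j - 1) (j - 1 - 1) := by
    show j - 1 - 1 + 1 = j - 1
    ring
  have hex1 := exact_homologyι_fromOpcycles P (j - 1) (j - 1 - 1)
    ((ComplexShape.down ℤ).next_eq' hrel)
  have hex2 := exact_fromOpcycles_pOpcycles P (j - 1) (j - 1 - 1)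
    ((ComplexShape.down ℤ).prev_eq' hrel)
  have hinj : Function.Injective (P.fromOpcycles (j - 1) (j - 1 - 1)).hom := by
    rw [injective_iff_map_eq_zero]
    intro z hzz
    obtain ⟨w, rfl⟩ := (hex1 z).1 hzz
    rw [Subsingleton.elim w 0, map_zero]
  haveI := hpr (j - 1 - 1) hfl_j2
  haveI := (hP (j - 1 - 1)).1
  haveI : Module.Projective A (P.X (j - 1 - 1)) := by
    haveI := (hP (j - 1 - 1)).2
    haveI : Module.FinitePresentation A (P.X (j - 1 - 1)) := Module.finitePresentation_of_finite A _
    exact Module.Flat.projective_of_finitePresentation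
  exact (finite_projective_of_exact (P.fromOpcycles (j - 1) (j - 1 - 1)).hom
    (P.pOpcycles (j - 1 - 1)).hom hinj ((ModuleCat.epi_iff_surjective _).mp inferInstance) hex2).2

include hP in
/-- if `dRank P (j+1)` and `dRank P (j-1)` vanish on `D(a)` then `H_j(P ⊗_A B)` is finite projective for
every `A`-algebra `B` in which `a` is invertible -/
theorem finite_projective_homology_bcCx (j : ℤ) (a : A)
    (hup : ∀ x : PrimeSpectrum A, a ∉ x.asIdeal → CohIII.dRank P (j + 1) x = 0)
    (hdn : ∀ x : PrimeSpectrum A, a ∉ x.asIdeal → CohIII.dRank P (j - 1) x = 0) {B : Type u}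
    [CommRing B] (ψ : A →+* B) (hu : IsUnit (ψ a)) :
    Module.Finite B ((CohIII.bcCx ψ P).homology j) ∧
      Module.Projective B ((CohIII.bcCx ψ P).homology j) := by
  let ψ₁ : Localization.Away a →+* B := IsLocalization.Away.lift a hu
  have hψ : ψ₁.comp (algebraMap A (Localization.Away a)) = ψ := IsLocalization.Away.lift_comp a hu
  let P₁ := CohIII.bcCx (algebraMap A (Localization.Away a)) P
  have hP₁ := hP_bcCx P hP (Localization.Away a)
  obtain ⟨hpj, hpj1⟩ := projective_opcycles P₁ hP₁ j (dRank_away P hP a (j + 1) hup)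
    (dRank_away P hP a (j - 1) hdn)
  letI : Algebra (Localization.Away a) B := ψ₁.toAlgebra
  have hfin : ∀ k, Module.Finite (Localization.Away a) (P₁.opcycles k) := fun k => by
    haveI := (hP₁ k).1
    exact finite_opcycles P₁ k
  let Q := CohIII.bcCx (algebraMap (Localization.Away a) B) P₁
  have hQop : ∀ k, Module.Projective (Localization.Away a) (P₁.opcycles k) →
      Module.Finite B (Q.opcycles k) ∧ Module.Projective B (Q.opcycles k) := fun k hk => by
    haveI := hk
    haveI := hfin k
    obtain ⟨h1, h2⟩ := finite_projective_extendScalars (B := B) (P₁.opcycles k)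
    exact ⟨Module.Finite.equiv (bcOpcyclesIso B P₁ k).toLinearEquiv.symm,
      Module.Projective.of_equiv (bcOpcyclesIso B P₁ k).toLinearEquiv.symm⟩
  haveI := (hQop j hpj).1
  haveI := (hQop j hpj).2
  haveI := (hQop (j - 1) hpj1).2
  haveI : Module.Projective (Localization.Away a) (P₁.X (j - 1)) := by
    haveI := (hP₁ (j - 1)).1
    haveI := (hP₁ (j - 1)).2
    haveI : Module.FinitePresentation (Localization.Away a) (P₁.X (j - 1)) :=
      Module.finitePresentation_of_finite _ _
    exact Module.Flat.projective_of_finitePresentation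
  haveI := (hP₁ (j - 1)).1
  haveI : Module.Finite B (Q.X (j - 1)) := (finite_projective_extendScalars (B := B) (P₁.X (j - 1))).1
  haveI : Module.Projective B (Q.X (j - 1)) :=
    (finite_projective_extendScalars (B := B) (P₁.X (j - 1))).2
  obtain ⟨hf, hp⟩ := finite_projective_homology Q j
  rw [← hψ]
  let e : (CohIII.bcCx (ψ₁.comp (algebraMap A (Localization.Away a))) P).homology j ≃ₗ[B]
      Q.homology j := ((HomologicalComplex.homologyFunctor _ _ j).mapIso
    (bcCxCompIso (algebraMap A (Localization.Away a)) ψ₁ P)).toLinearEquiv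
  haveI := hf
  haveI := hp
  exact ⟨Module.Finite.equiv e.symm, Module.Projective.of_equiv e.symm⟩

include hP in
/-- a zero of the rank function spreads to a basic open neighbourhood -/
theorem exists_away (j : ℤ) (x₀ : PrimeSpectrum A) (h0 : CohIII.dRank P j x₀ = 0) :
    ∃ a : A, a ∉ x₀.asIdeal ∧ ∀ x : PrimeSpectrum A, a ∉ x.asIdeal → CohIII.dRank P j x = 0 := by
  have husc := Groth.Agent.S2380.result P hP j
  have hopen : IsOpen {x | CohIII.dRank P j x < 1} :=
    (upperSemicontinuous_iff_isOpen_preimage.1 husc) 1
  have hx₀ : x₀ ∈ {x | CohIII.dRank P j x < 1} := by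
    show CohIII.dRank P j x₀ < 1
    omega
  obtain ⟨_, ⟨a, rfl⟩, hxa, hsub⟩ :=
    PrimeSpectrum.isTopologicalBasis_basic_opens.exists_subset_of_mem_open hx₀ hopen
  refine ⟨a, hxa, fun x hx => ?_⟩
  have h1 : CohIII.dRank P j x < 1 := hsub hx
  omega

end noeth

end Groth.Agent.Lib.T2H5.LocAlg
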