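import Mathlib
import Groth.Agent.S4504

/-!
# T2H9EW1 (helper9): Eilenberg–Watts for additive functors `ModuleCat A ⥤ Ab`

* `liftA T` : the lift of an additive functor `T : ModuleCat A ⥤ AddCommGrpCat` to an `A`-linear
  endofunctor of `ModuleCat A` (`a` acts on `T M` through `T (a • 𝟙 M)`), `liftANat`, `liftAForget`.
* `ewLin T M : T(A) ⊗ M → T(M)` the Eilenberg–Watts comparison (the map of `S4504`), its naturality
  in `M` and in `T`.
* `EWBij T` (the comparison is bijective for every `M`): holds for colimit preserving functors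
  (`ewBij_of_preservesColimits`, from `S4504`), is invariant under isomorphisms and passes to finite
  "biproducts" of functors (`ewBij_of_total`); similarly `FlatA T` (flatness of `T(A)`).
-/

set_option autoImplicit false
set_option linter.style.haveILetI false
universe u
open CategoryTheory CategoryTheory.Limits MonoidalCategory

namespace Groth.Agent.Lib.T2H9.EW

variable {A : Type u} [CommRing A]

section lift
variable (T : ModuleCat.{u} A ⥤ AddCommGrpCat.{u}) [T.Additive]

/-- the action of `A` on `T M` by functoriality -/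
noncomputable def actHom (M : ModuleCat.{u} A) : A →+* AddMonoid.End (T.obj M) where
  toFun a := (T.map (a • 𝟙 M)).hom
  map_one' := by
    rw [one_smul, T.map_id]; rfl
  map_mul' a b := by
    have : (a * b) • 𝟙 M = (b • 𝟙 M) ≫ (a • 𝟙 M) := by
      rw [Linear.smul_comp, Linear.comp_smul, Category.id_comp, smul_smul, mul_comm]
    rw [this, T.map_comp]; rfl
  map_zero' := by
    rw [zero_smul, T.map_zero]; rfl
  map_add' a b := by
    rw [add_smul, T.map_add]; rfl

/-- `T M` with its functorial `A`-module structure -/
def LObj (M : ModuleCat.{u} A) : Type u := T.obj M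

noncomputable instance (M : ModuleCat.{u} A) : AddCommGroup (LObj T M) :=
  inferInstanceAs (AddCommGroup (T.obj M))

noncomputable instance (M : ModuleCat.{u} A) : Module A (LObj T M) :=
  Module.compHom (T.obj M) (actHom T M)

theorem LObj.smul_def (M : ModuleCat.{u} A) (a : A) (x : LObj T M) :
    a • x = (T.map (a • 𝟙 M)).hom (show T.obj M from x) := rfl

/-- the map `T g` is linear for the functorial structures -/
noncomputable def LMap {M N : ModuleCat.{u} A} (g : M ⟶ N) : LObj T M →ₗ[A] LObj T N where
  toFun x := (T.map g).hom (show T.obj M from x)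
  map_add' x y := map_add (T.map g).hom _ _
  map_smul' a x := by
    change (T.map g).hom ((T.map (a • 𝟙 M)).hom _) = (T.map (a • 𝟙 N)).hom ((T.map g).hom _)
    have e : (a • 𝟙 M) ≫ g = g ≫ (a • 𝟙 N) := by
      rw [Linear.smul_comp, Linear.comp_smul, Category.id_comp, Category.comp_id]
    have := congrArg (fun φ => φ.hom (show T.obj M from x)) (congrArg T.map e)
    rw [T.map_comp, T.map_comp] at this
    exact this

/-- the lift of an additive functor to abelian groups to an `A`-linear endofunctor -/
noncomputable def liftA : ModuleCat.{u} A ⥤ ModuleCat.{u} A where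
  obj M := ModuleCat.of A (LObj T M)
  map g := ModuleCat.ofHom (LMap T g)
  map_id M := by
    ext x
    change (T.map (𝟙 M)).hom _ = _
    rw [T.map_id]; rfl
  map_comp g h := by
    ext x
    change (T.map (g ≫ h)).hom _ = (T.map h).hom ((T.map g).hom _)
    rw [T.map_comp]; rfl

theorem liftA_map_apply {M N : ModuleCat.{u} A} (g : M ⟶ N) (x : T.obj M) :
    ((liftA T).map g).hom (show LObj T M from x) = (T.map g).hom x := rfl

instance : (liftA T).Additive where
  map_add {M N g h} := by
    ext x
    change (T.map (g + h)).hom _ = (T.map g).hom _ + (T.map h).hom _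
    rw [T.map_add]; rfl

instance : (liftA T).Linear A where
  map_smul {M N} g a := by
    ext x
    change (T.map (a • g)).hom _ = (T.map (a • 𝟙 N)).hom ((T.map g).hom _)
    have e : a • g = g ≫ (a • 𝟙 N) := by rw [Linear.comp_smul, Category.comp_id]
    rw [e, T.map_comp]; rfl

/-- forgetting the module structure gives back `T` -/
noncomputable def liftAForget : liftA T ⋙ forget₂ (ModuleCat.{u} A) AddCommGrpCat.{u} ≅ T :=
  NatIso.ofComponents (fun M => Iso.refl _) (fun g => by
    ext x
    rfl)

instance [PreservesColimitsOfSize.{u, u} T] : PreservesColimitsOfSize.{u, u} (liftA T) := by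
  haveI : PreservesColimitsOfSize.{u, u}
      (liftA T ⋙ forget₂ (ModuleCat.{u} A) AddCommGrpCat.{u}) :=
    preservesColimits_of_natIso (liftAForget T).symm
  haveI : ReflectsColimitsOfSize.{u, u} (forget₂ (ModuleCat.{u} A) AddCommGrpCat.{u}) :=
    reflectsColimits_of_reflectsIsomorphisms
  exact preservesColimits_of_reflects_of_preserves (liftA T)
    (forget₂ (ModuleCat.{u} A) AddCommGrpCat.{u})

end lift

section liftNat
variable {T T' : ModuleCat.{u} A ⥤ AddCommGrpCat.{u}} [T.Additive] [T'.Additive] (α : T ⟶ T')

/-- natural transformations lift -/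
noncomputable def liftANat : liftA T ⟶ liftA T' where
  app M := ModuleCat.ofHom
    { toFun := fun x => (α.app M).hom (show T.obj M from x)
      map_add' := fun x y => map_add (α.app M).hom _ _
      map_smul' := fun a x => by
        change (α.app M).hom ((T.map (a • 𝟙 M)).hom _) = (T'.map (a • 𝟙 M)).hom ((α.app M).hom _)
        have := congrArg (fun φ => φ.hom (show T.obj M from x)) (α.naturality (a • 𝟙 M))
        exact this }
  naturality {M N} g := by
    ext x
    have := congrArg (fun φ => φ.hom (show T.obj M from x)) (α.naturality g)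
    exact this

theorem liftANat_app_apply (M : ModuleCat.{u} A) (x : T.obj M) :
    ((liftANat α).app M).hom (show LObj T M from x) = (α.app M).hom x := rfl

end liftNat

section ew
variable (T : ModuleCat.{u} A ⥤ ModuleCat.{u} A) [T.Additive] [T.Linear A]

/-- `θ_x : A → M`, `a ↦ a • x` -/
noncomputable def θ (M : ModuleCat.{u} A) (x : M) : ModuleCat.of A A ⟶ M :=
  ModuleCat.ofHom ((LinearMap.ringLmapEquivSelf A A M).symm x)

theorem θ_apply (M : ModuleCat.{u} A) (x : M) (a : A) : (θ M x).hom a = a • x := by
  change (LinearMap.ringLmapEquivSelf A A M).symm x a = a • x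
  simp [LinearMap.ringLmapEquivSelf]

theorem θ_comp {M N : ModuleCat.{u} A} (g : M ⟶ N) (x : M) : θ M x ≫ g = θ N (g.hom x) := by
  ext
  change g.hom ((θ M x).hom (1 : A)) = (θ N (g.hom x)).hom (1 : A)
  rw [θ_apply, θ_apply, one_smul, one_smul]

/-- the Eilenberg–Watts comparison `T(A) ⊗ M → T(M)` -/
noncomputable def ewLin (M : ModuleCat.{u} A) :
    TensorProduct A (T.obj (ModuleCat.of A A)) M →ₗ[A] T.obj M :=
  TensorProduct.lift (LinearMap.flip
    ((ModuleCat.homLinearEquiv (S := A)).toLinearMap ∘ₗ Functor.mapLinearMap A T ∘ₗ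
      (ModuleCat.homLinearEquiv (S := A)).symm.toLinearMap ∘ₗ
        (LinearMap.ringLmapEquivSelf A A M).symm.toLinearMap))

theorem ewLin_tmul (M : ModuleCat.{u} A) (y : T.obj (ModuleCat.of A A)) (x : M) :
    ewLin T M (y ⊗ₜ x) = (T.map (θ M x)).hom y := rfl

theorem ewLin_bijective [∀ J : Type u, PreservesColimitsOfShape (Discrete J) T]
    [PreservesFiniteColimits T] (M : ModuleCat.{u} A) : Function.Bijective (ewLin T M) :=
  ((Groth.Agent.S4504.result T).1.1 inferInstance) M

theorem ewLin_naturality {M N : ModuleCat.{u} A} (g : M ⟶ N)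
    (z : TensorProduct A (T.obj (ModuleCat.of A A)) M) :
    (T.map g).hom (ewLin T M z) = ewLin T N (LinearMap.lTensor _ g.hom z) := by
  induction z using TensorProduct.induction_on with
  | zero => simp
  | tmul y x =>
    rw [ewLin_tmul, LinearMap.lTensor_tmul, ewLin_tmul, ← θ_comp, T.map_comp]
    rfl
  | add z w hz hw => rw [map_add, map_add, map_add, map_add, hz, hw]

end ew

section nat
variable {T T' : ModuleCat.{u} A ⥤ ModuleCat.{u} A} [T.Additive] [T.Linear A] [T'.Additive]
  [T'.Linear A] (α : T ⟶ T')

theorem ewLin_naturality_left (M : ModuleCat.{u} A)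
    (z : TensorProduct A (T.obj (ModuleCat.of A A)) M) :
    (α.app M).hom (ewLin T M z) = ewLin T' M (LinearMap.rTensor _ (α.app (ModuleCat.of A A)).hom z) := by
  induction z using TensorProduct.induction_on with
  | zero => simp
  | tmul y x =>
    rw [ewLin_tmul, LinearMap.rTensor_tmul, ewLin_tmul]
    have := congrArg (fun φ => φ.hom y) (α.naturality (θ M x))
    exact this
  | add z w hz hw => rw [map_add, map_add, map_add, map_add, hz, hw]

end nat

section bij

/-- the E–W comparison is bijective for all modules -/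
def EWBij (T : ModuleCat.{u} A ⥤ AddCommGrpCat.{u}) [T.Additive] : Prop :=
  ∀ M : ModuleCat.{u} A, Function.Bijective (ewLin (liftA T) M)

theorem ewBij_of_preservesColimits (T : ModuleCat.{u} A ⥤ AddCommGrpCat.{u}) [T.Additive]
    [PreservesColimitsOfSize.{u, u} T] : EWBij T := by
  intro M
  haveI : PreservesColimitsOfSize.{0, 0} (liftA T) :=
    preservesSmallestColimits_of_preservesColimits (liftA T)
  haveI : PreservesFiniteColimits (liftA T) := PreservesColimitsOfSize.preservesFiniteColimits _
  exact ewLin_bijective (liftA T) M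

variable {T T' : ModuleCat.{u} A ⥤ AddCommGrpCat.{u}} [T.Additive] [T'.Additive]

theorem ewBij_of_iso (e : T ≅ T') (h : EWBij T) : EWBij T' := by
  intro M
  have h1 : ∀ z, ewLin (liftA T') M z = ((liftANat e.hom).app M).hom (ewLin (liftA T) M
      (LinearMap.rTensor _ ((liftANat e.inv).app (ModuleCat.of A A)).hom z)) := by
    intro z
    rw [ewLin_naturality_left (liftANat e.hom) M]
    congr 1
    rw [← LinearMap.comp_apply, ← LinearMap.rTensor_comp]
    have : ((liftANat e.hom).app (ModuleCat.of A A)).hom ∘ₗ
        ((liftANat e.inv).app (ModuleCat.of A A)).hom = LinearMap.id := by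
      ext x
      change (e.hom.app _).hom ((e.inv.app _).hom x) = x
      rw [← AddCommGrpCat.comp_apply, e.inv_hom_id_app]
      rfl
    rw [this, LinearMap.rTensor_id, LinearMap.id_apply]
  have b1 : Function.Bijective
      (LinearMap.rTensor M ((liftANat e.inv).app (ModuleCat.of A A)).hom) := by
    refine Function.bijective_iff_has_inverse.2
      ⟨LinearMap.rTensor M ((liftANat e.hom).app (ModuleCat.of A A)).hom, fun z => ?_, fun z => ?_⟩
    · rw [← LinearMap.comp_apply, ← LinearMap.rTensor_comp]
      have : ((liftANat e.hom).app (ModuleCat.of A A)).hom ∘ₗ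
          ((liftANat e.inv).app (ModuleCat.of A A)).hom = LinearMap.id := by
        ext x
        change (e.hom.app _).hom ((e.inv.app _).hom x) = x
        rw [← AddCommGrpCat.comp_apply, e.inv_hom_id_app]
        rfl
      rw [this, LinearMap.rTensor_id, LinearMap.id_apply]
    · rw [← LinearMap.comp_apply, ← LinearMap.rTensor_comp]
      have : ((liftANat e.inv).app (ModuleCat.of A A)).hom ∘ₗ
          ((liftANat e.hom).app (ModuleCat.of A A)).hom = LinearMap.id := by
        ext x
        change (e.inv.app _).hom ((e.hom.app _).hom x) = x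
        rw [← AddCommGrpCat.comp_apply, e.hom_inv_id_app]
        rfl
      rw [this, LinearMap.rTensor_id, LinearMap.id_apply]
  have b2 : Function.Bijective ((liftANat e.hom).app M).hom := by
    refine Function.bijective_iff_has_inverse.2 ⟨((liftANat e.inv).app M).hom, fun z => ?_, fun z => ?_⟩
    · change (e.inv.app _).hom ((e.hom.app _).hom z) = z
      rw [← AddCommGrpCat.comp_apply, e.hom_inv_id_app]
      rfl
    · change (e.hom.app _).hom ((e.inv.app _).hom z) = z
      rw [← AddCommGrpCat.comp_apply, e.inv_hom_id_app]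
      rfl
  have h2 : (ewLin (liftA T') M : _ → _) = ((liftANat e.hom).app M).hom ∘ (ewLin (liftA T) M) ∘
      (LinearMap.rTensor M ((liftANat e.inv).app (ModuleCat.of A A)).hom) := funext h1
  rw [h2]
  exact b2.comp ((h M).comp b1)

theorem ewBij_of_subsingleton (T : ModuleCat.{u} A ⥤ AddCommGrpCat.{u}) [T.Additive]
    (h : ∀ M, Subsingleton (T.obj M)) : EWBij T := by
  intro M
  haveI : Subsingleton (LObj T (ModuleCat.of A A)) := h _
  haveI : Subsingleton (LObj T M) := h _
  haveI : Subsingleton ((liftA T).obj (ModuleCat.of A A)) := h _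
  haveI : Subsingleton ((liftA T).obj M) := h _
  haveI : Subsingleton (TensorProduct A ((liftA T).obj (ModuleCat.of A A)) M) :=
    Unique.instSubsingleton
  exact ⟨fun a b _ => Subsingleton.elim _ _, fun b => ⟨0, Subsingleton.elim _ _⟩⟩

theorem ewBij_of_total {ι : Type*} [Fintype ι] (T : ModuleCat.{u} A ⥤ AddCommGrpCat.{u})
    [T.Additive] (Tx : ι → ModuleCat.{u} A ⥤ AddCommGrpCat.{u}) [∀ x, (Tx x).Additive]
    (π : ∀ x, T ⟶ Tx x) (s : ∀ x, Tx x ⟶ T)
    (htot : ∀ (M : ModuleCat.{u} A) (w : T.obj M),
      ∑ x, ((s x).app M).hom (((π x).app M).hom w) = w)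
    (h : ∀ x, EWBij (Tx x)) : EWBij T := by
  intro M
  -- the tensored total identity
  have htot' : ∀ z : TensorProduct A ((liftA T).obj (ModuleCat.of A A)) M,
      ∑ x, LinearMap.rTensor M ((liftANat (s x)).app (ModuleCat.of A A)).hom
        (LinearMap.rTensor M ((liftANat (π x)).app (ModuleCat.of A A)).hom z) = z := by
    intro z
    induction z using TensorProduct.induction_on with
    | zero => simp
    | tmul y m =>
      simp only [LinearMap.rTensor_tmul]
      rw [← TensorProduct.sum_tmul]
      congr 1
      exact htot _ y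
    | add z w hz hw =>
      simp only [map_add, Finset.sum_add_distrib]
      rw [hz, hw]
  constructor
  · intro z z' hzz
    have key : ∀ z : TensorProduct A ((liftA T).obj (ModuleCat.of A A)) M,
        ewLin (liftA T) M z = 0 → z = 0 := by
      intro z hz
      rw [← htot' z]
      refine Finset.sum_eq_zero fun x _ => ?_
      have h1 := ewLin_naturality_left (liftANat (π x)) M z
      rw [hz, map_zero] at h1
      have h2 : LinearMap.rTensor M ((liftANat (π x)).app (ModuleCat.of A A)).hom z = 0 :=
        (h x M).1 (h1.symm.trans (map_zero _).symm)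
      rw [h2, map_zero]
    have := key (z - z') (by rw [map_sub, hzz, sub_self])
    exact sub_eq_zero.1 this
  · intro w
    choose zx hzx using fun x => (h x M).2 (((liftANat (π x)).app M).hom w)
    refine ⟨∑ x, LinearMap.rTensor M ((liftANat (s x)).app (ModuleCat.of A A)).hom (zx x), ?_⟩
    rw [map_sum]
    have h3 : ∀ x, ewLin (liftA T) M
        (LinearMap.rTensor M ((liftANat (s x)).app (ModuleCat.of A A)).hom (zx x)) =
        ((liftANat (s x)).app M).hom (((liftANat (π x)).app M).hom w) := by
      intro x
      rw [← ewLin_naturality_left (liftANat (s x)) M, hzx]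
    rw [Finset.sum_congr rfl fun x _ => h3 x]
    exact htot M w

end bij

section flat

/-- `T(A)` is flat for the functorial module structure -/
def FlatA (T : ModuleCat.{u} A ⥤ AddCommGrpCat.{u}) [T.Additive] : Prop :=
  Module.Flat A (LObj T (ModuleCat.of A A))

variable {T T' : ModuleCat.{u} A ⥤ AddCommGrpCat.{u}} [T.Additive] [T'.Additive]

theorem flatA_of_iso (e : T ≅ T') (h : FlatA T) : FlatA T' := by
  haveI : Module.Flat A (LObj T (ModuleCat.of A A)) := h
  let l : LObj T (ModuleCat.of A A) ≃ₗ[A] LObj T' (ModuleCat.of A A) :=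
    LinearEquiv.ofLinearMap ((liftANat e.hom).app (ModuleCat.of A A)).hom
      ((liftANat e.inv).app (ModuleCat.of A A)).hom
      (by
        ext x
        change (e.hom.app _).hom ((e.inv.app _).hom x) = x
        rw [← AddCommGrpCat.comp_apply, e.inv_hom_id_app]
        rfl)
      (by
        ext x
        change (e.inv.app _).hom ((e.hom.app _).hom x) = x
        rw [← AddCommGrpCat.comp_apply, e.hom_inv_id_app]
        rfl)
  exact Module.Flat.of_linearEquiv l.symm

theorem flatA_of_subsingleton (T : ModuleCat.{u} A ⥤ AddCommGrpCat.{u}) [T.Additive]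
    (h : ∀ M, Subsingleton (T.obj M)) : FlatA T := by
  haveI : Subsingleton (LObj T (ModuleCat.of A A)) := h _
  unfold FlatA
  infer_instance

theorem flatA_of_total {ι : Type*} [Fintype ι] [DecidableEq ι]
    (T : ModuleCat.{u} A ⥤ AddCommGrpCat.{u})
    [T.Additive] (Tx : ι → ModuleCat.{u} A ⥤ AddCommGrpCat.{u}) [∀ x, (Tx x).Additive]
    (π : ∀ x, T ⟶ Tx x) (s : ∀ x, Tx x ⟶ T)
    (htot : ∀ (M : ModuleCat.{u} A) (w : T.obj M),
      ∑ x, ((s x).app M).hom (((π x).app M).hom w) = w)
    (h : ∀ x, FlatA (Tx x)) : FlatA T := by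
  haveI : ∀ x, Module.Flat A (LObj (Tx x) (ModuleCat.of A A)) := h
  -- `T(A)` is a retract of `∏ Tx(A)`
  let i : LObj T (ModuleCat.of A A) →ₗ[A] (∀ x, LObj (Tx x) (ModuleCat.of A A)) :=
    LinearMap.pi fun x => ((liftANat (π x)).app (ModuleCat.of A A)).hom
  let r : (∀ x, LObj (Tx x) (ModuleCat.of A A)) →ₗ[A] LObj T (ModuleCat.of A A) :=
    ∑ x, ((liftANat (s x)).app (ModuleCat.of A A)).hom ∘ₗ LinearMap.proj x
  have hri : r ∘ₗ i = LinearMap.id := by
    ext w
    simp only [r, i, LinearMap.comp_apply, LinearMap.sum_apply, LinearMap.id_apply]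
    exact htot _ w
  haveI : Module.Flat A (∀ x, LObj (Tx x) (ModuleCat.of A A)) :=
    Module.Flat.of_linearEquiv (DFinsupp.linearEquivFunOnFintype (R := A)
      (M := fun x => LObj (Tx x) (ModuleCat.of A A))).symm
  exact Module.Flat.of_retract i r hri

end flat

end Groth.Agent.Lib.T2H9.EW
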