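import Groth.Agent.Lib.T2H9EW1
import Groth.Agent.Lib.Helper21DerPost
import Groth.Prelude.Def_ega3

/-!
# T2H9EW2 (helper9): Eilenberg–Watts for complex valued functors

For an additive functor `K : ModuleCat A ⥤ HomologicalComplex AddCommGrpCat c`:
* `liftACx K` the lift to complexes of `A`-modules (functorial module structures), `liftACxForget`;
* `ewCx K M : K(A) ⊗ M ⟶ K(M)` the Eilenberg–Watts comparison of complexes, natural in `M`, an
  isomorphism when every degree satisfies `EWBij` (`ewIso`);
* `tFunForgetIso K h p : TFun (K(A)) p ⋙ forget₂ ≅ K ⋙ homologyFunctor p`.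
-/

set_option autoImplicit false
set_option linter.style.haveILetI false
universe u
open CategoryTheory CategoryTheory.Limits MonoidalCategory

namespace Groth.Agent.Lib.T2H9.EW

variable {A : Type u} [CommRing A] {ι : Type} {c : ComplexShape ι}

section cx
variable (K : ModuleCat.{u} A ⥤ HomologicalComplex AddCommGrpCat.{u} c) [K.Additive]

/-- the degree `n` part of a complex valued functor -/
noncomputable abbrev Kn (n : ι) : ModuleCat.{u} A ⥤ AddCommGrpCat.{u} :=
  K ⋙ HomologicalComplex.eval _ c n

/-- the differential as a natural transformation -/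
noncomputable def dNat (n m : ι) : Kn K n ⟶ Kn K m where
  app M := (K.obj M).d n m
  naturality {_ _} g := (K.map g).comm n m

/-- the lift of a complex valued additive functor to complexes of `A`-modules -/
noncomputable def liftACx : ModuleCat.{u} A ⥤ HomologicalComplex (ModuleCat.{u} A) c where
  obj M :=
    { X := fun n => (liftA (Kn K n)).obj M
      d := fun n m => (liftANat (dNat K n m)).app M
      shape := fun n m h => by
        ext x
        change ((K.obj M).d n m).hom _ = 0
        rw [(K.obj M).shape n m h]
        rfl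
      d_comp_d' := fun i j k _ _ => by
        ext x
        change ((K.obj M).d j k).hom (((K.obj M).d i j).hom _) = 0
        rw [← AddCommGrpCat.comp_apply, (K.obj M).d_comp_d]
        rfl }
  map {M N} g :=
    { f := fun n => (liftA (Kn K n)).map g
      comm' := fun i j _ => ((liftANat (dNat K i j)).naturality g) }
  map_id M := by
    apply HomologicalComplex.hom_ext
    intro n
    exact (liftA (Kn K n)).map_id M
  map_comp g h := by
    apply HomologicalComplex.hom_ext
    intro n
    exact (liftA (Kn K n)).map_comp g h

/-- forgetting the module structures gives back `K` -/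
noncomputable def liftACxForget :
    liftACx K ⋙ (forget₂ (ModuleCat.{u} A) AddCommGrpCat.{u}).mapHomologicalComplex c ≅ K :=
  NatIso.ofComponents
    (fun M => HomologicalComplex.Hom.isoOfComponents (fun n => Iso.refl _) (fun i j _ => by
      ext x
      rfl))
    (fun g => by
      ext n x
      rfl)

/-- the E–W comparison of complexes `K(A) ⊗ M ⟶ K(M)` -/
noncomputable def ewCx (M : ModuleCat.{u} A) :
    CohIII.tensorObj ((liftACx K).obj (ModuleCat.of A A)) M ⟶ (liftACx K).obj M where
  f n := ModuleCat.ofHom (ewLin (liftA (Kn K n)) M)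
  comm' i j _ := by
    ext z
    exact ewLin_naturality_left (liftANat (dNat K i j)) M z

theorem ewCx_naturality {M N : ModuleCat.{u} A} (g : M ⟶ N) :
    CohIII.tensorMap ((liftACx K).obj (ModuleCat.of A A)) g ≫ ewCx K N =
      ewCx K M ≫ (liftACx K).map g := by
  apply HomologicalComplex.hom_ext
  intro n
  ext z
  exact (ewLin_naturality (liftA (Kn K n)) g z).symm

theorem isIso_ewCx (h : ∀ n, EWBij (Kn K n)) (M : ModuleCat.{u} A) : IsIso (ewCx K M) := by
  haveI : ∀ n, IsIso ((ewCx K M).f n) := fun n =>
    (ConcreteCategory.isIso_iff_bijective _).2 (h n M)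
  exact HomologicalComplex.Hom.isIso_of_components _

end cx

section tensorCx
variable (C : HomologicalComplex (ModuleCat.{u} A) c)

/-- `M ↦ C ⊗ M` as a functor to complexes -/
noncomputable def tensorCx : ModuleCat.{u} A ⥤ HomologicalComplex (ModuleCat.{u} A) c where
  obj M := CohIII.tensorObj C M
  map g := CohIII.tensorMap C g
  map_id M := by
    have h : (tensoringRight (ModuleCat.{u} A)).map (𝟙 M) = 𝟙 _ :=
      (tensoringRight (ModuleCat.{u} A)).map_id M
    unfold CohIII.tensorMap
    rw [h, NatTrans.mapHomologicalComplex_id]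
    rfl
  map_comp g h := by
    have e : (tensoringRight (ModuleCat.{u} A)).map (g ≫ h) =
        (tensoringRight _).map g ≫ (tensoringRight _).map h :=
      (tensoringRight (ModuleCat.{u} A)).map_comp g h
    unfold CohIII.tensorMap
    rw [e, NatTrans.mapHomologicalComplex_comp, NatTrans.comp_app]

/-- `TFun` is `tensorCx` followed by homology -/
noncomputable def tFunIso (p : ι) :
    CohIII.TFun C p ≅ tensorCx C ⋙ HomologicalComplex.homologyFunctor _ c p :=
  NatIso.ofComponents (fun M => Iso.refl _) (fun g => by
    simp only [Iso.refl_hom]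
    rfl)

end tensorCx

section main
variable (K : ModuleCat.{u} A ⥤ HomologicalComplex AddCommGrpCat.{u} c) [K.Additive]
  (h : ∀ n, EWBij (Kn K n))

/-- the E–W isomorphism of functors to complexes -/
noncomputable def ewIso : tensorCx ((liftACx K).obj (ModuleCat.of A A)) ≅ liftACx K :=
  NatIso.ofComponents (fun M => @asIso _ _ _ _ (ewCx K M) (isIso_ewCx K h M))
    (fun g => ewCx_naturality K g)

/-- `M ↦ H_p(K(A) ⊗ M)`, as abelian groups, is `M ↦ H_p(K(M))` -/
noncomputable def tFunForgetIso (p : ι) :
    CohIII.TFun ((liftACx K).obj (ModuleCat.of A A)) p ⋙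
        forget₂ (ModuleCat.{u} A) AddCommGrpCat.{u} ≅
      K ⋙ HomologicalComplex.homologyFunctor AddCommGrpCat.{u} c p :=
  Functor.isoWhiskerRight (tFunIso _ p ≪≫ Functor.isoWhiskerRight (ewIso K h) _) _ ≪≫
    Functor.associator _ _ _ ≪≫
    Functor.isoWhiskerLeft (liftACx K)
      (Groth.Agent.Lib.Helper21.DerPost.mapHCHomologyIso c
        (forget₂ (ModuleCat.{u} A) AddCommGrpCat.{u}) p).symm ≪≫
    (Functor.associator _ _ _).symm ≪≫
    Functor.isoWhiskerRight (liftACxForget K) _

end main

end Groth.Agent.Lib.T2H9.EW
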