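import Mathlib
import Groth.Prelude.Def_ega3
import Groth.Agent.Lib.T2H9EW2
import Groth.Agent.Lib.Helper21DerPost
import Groth.Agent.Lib.Helper3FlatCx

/-!
# T2H9ProjFormula (helper9): the projection formula `(A' ⊗_A N) ⊗_{A'} M' ≅ N ⊗_A M'` and base change of `TFun`

* `pfHom φ N M' : N ⊗ M'_A ⟶ ((A' ⊗_A N) ⊗_{A'} M')_A` (unit of the extension/restriction adjunction followed by
  the lax monoidal structure of restriction of scalars), natural in both variables, an isomorphism.
* `pfCx`, `pfCxIso`: the same for complexes.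
* `tFunBcIso φ P p : TFun (bcCx φ P) p ⋙ restrictScalars φ ≅ restrictScalars φ ⋙ TFun P p`.
-/

set_option autoImplicit false
set_option linter.style.haveILetI false
universe u

namespace Groth.Agent.Lib.T2H9.ProjFormula

open CategoryTheory MonoidalCategory Functor.LaxMonoidal TensorProduct ChangeOfRings

variable {A A' : Type u} [CommRing A] [CommRing A'] (φ : A →+* A')

/-- the projection formula map `N ⊗_A M'_A ⟶ (A' ⊗_A N) ⊗_{A'} M'` -/
noncomputable def pfHom (N : ModuleCat.{u} A) (M' : ModuleCat.{u} A') :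
    N ⊗ (ModuleCat.restrictScalars φ).obj M' ⟶
      (ModuleCat.restrictScalars φ).obj ((ModuleCat.extendScalars φ).obj N ⊗ M') :=
  ((ModuleCat.extendRestrictScalarsAdj φ).unit.app N ▷ (ModuleCat.restrictScalars φ).obj M') ≫
    μ (ModuleCat.restrictScalars φ) ((ModuleCat.extendScalars φ).obj N) M'

theorem pfHom_natural_left {N N₁ : ModuleCat.{u} A} (g : N ⟶ N₁) (M' : ModuleCat.{u} A') :
    (g ▷ (ModuleCat.restrictScalars φ).obj M') ≫ pfHom φ N₁ M' =
      pfHom φ N M' ≫ (ModuleCat.restrictScalars φ).map ((ModuleCat.extendScalars φ).map g ▷ M') := by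
  unfold pfHom
  have h1 := (ModuleCat.extendRestrictScalarsAdj φ).unit.naturality g
  have h2 := μ_natural_left (ModuleCat.restrictScalars φ) ((ModuleCat.extendScalars φ).map g) M'
  simp only [Functor.id_obj, Functor.comp_obj, Functor.id_map, Functor.comp_map] at h1
  rw [Category.assoc, ← h2, ← Category.assoc, ← Category.assoc, ← comp_whiskerRight,
    ← comp_whiskerRight, h1]

theorem pfHom_natural_right (N : ModuleCat.{u} A) {M' M₁' : ModuleCat.{u} A'} (h : M' ⟶ M₁') :
    (N ◁ (ModuleCat.restrictScalars φ).map h) ≫ pfHom φ N M₁' =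
      pfHom φ N M' ≫ (ModuleCat.restrictScalars φ).map ((ModuleCat.extendScalars φ).obj N ◁ h) := by
  unfold pfHom
  have h2 := μ_natural_right (ModuleCat.restrictScalars φ) ((ModuleCat.extendScalars φ).obj N) h
  rw [Category.assoc, ← h2, ← Category.assoc, ← Category.assoc, whisker_exchange]
  rfl

theorem pfHom_tmul (N : ModuleCat.{u} A) (M' : ModuleCat.{u} A') (n : N) (m : M') :
    (pfHom φ N M').hom (n ⊗ₜ m) =
      (((1 : A') ⊗ₜ[A,φ] n : (ModuleCat.extendScalars φ).obj N) ⊗ₜ[A'] m :
        ((ModuleCat.extendScalars φ).obj N ⊗ M' : ModuleCat.{u} A')) := by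
  have h2 := ModuleCat.restrictScalars_μ_tmul φ ((ModuleCat.extendScalars φ).obj N) M'
    ((1 : A') ⊗ₜ[A,φ] n) m
  exact h2

set_option backward.isDefEq.respectTransparency.types false in
/-- the inverse bijection of the projection formula map (as a function) -/
noncomputable def pfInv (N : ModuleCat.{u} A) (M' : ModuleCat.{u} A') :
    ((ModuleCat.extendScalars φ).obj N ⊗ M' : ModuleCat.{u} A') ≃+
      (N ⊗ (ModuleCat.restrictScalars φ).obj M' : ModuleCat.{u} A) :=
  letI : Algebra A A' := φ.toAlgebra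
  letI : Module A M' := Module.compHom M' φ
  haveI : IsScalarTower A A' M' := IsScalarTower.of_algebraMap_smul fun _ _ => rfl
  ((TensorProduct.comm A' (A' ⊗[A] N) M').toAddEquiv.trans
    (AlgebraTensorModule.cancelBaseChange A A' A' M' N).toAddEquiv).trans
    (TensorProduct.comm A M' N).toAddEquiv

set_option backward.isDefEq.respectTransparency.types false in
theorem pfInv_tmul (N : ModuleCat.{u} A) (M' : ModuleCat.{u} A') (n : N) (m : M') :
    pfInv φ N M' ((((1 : A') ⊗ₜ[A,φ] n : (ModuleCat.extendScalars φ).obj N) ⊗ₜ[A'] m :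
        ((ModuleCat.extendScalars φ).obj N ⊗ M' : ModuleCat.{u} A'))) =
      (n ⊗ₜ[A] (show ↑((ModuleCat.restrictScalars φ).obj M') from m) :
        (N ⊗ (ModuleCat.restrictScalars φ).obj M' : ModuleCat.{u} A)) := by
  letI : Algebra A A' := φ.toAlgebra
  letI : Module A M' := Module.compHom M' φ
  haveI : IsScalarTower A A' M' := IsScalarTower.of_algebraMap_smul fun _ _ => rfl
  show (TensorProduct.comm A M' N) ((AlgebraTensorModule.cancelBaseChange A A' A' M' N)
    ((TensorProduct.comm A' (A' ⊗[A] N) M') (((1 : A') ⊗ₜ[A] n) ⊗ₜ[A'] m))) = n ⊗ₜ[A] m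
  rw [TensorProduct.comm_tmul, AlgebraTensorModule.cancelBaseChange_tmul, one_smul,
    TensorProduct.comm_tmul]

theorem pfInv_pfHom (N : ModuleCat.{u} A) (M' : ModuleCat.{u} A')
    (z : (N ⊗ (ModuleCat.restrictScalars φ).obj M' : ModuleCat.{u} A)) :
    pfInv φ N M' ((pfHom φ N M').hom z) = z := by
  induction z using TensorProduct.induction_on with
  | zero =>
    rw [map_zero]
    exact map_zero (pfInv φ N M')
  | tmul n m =>
    rw [pfHom_tmul]
    exact pfInv_tmul φ N M' n m
  | add x y hx hy =>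
    rw [map_add]
    exact (map_add (pfInv φ N M') _ _).trans (congrArg₂ (· + ·) hx hy)

instance isIso_pfHom (N : ModuleCat.{u} A) (M' : ModuleCat.{u} A') : IsIso (pfHom φ N M') := by
  rw [ConcreteCategory.isIso_iff_bijective]
  have h : (pfInv φ N M') ∘ (pfHom φ N M').hom = id := funext (pfInv_pfHom φ N M')
  constructor
  · exact Function.Injective.of_comp (f := pfInv φ N M') (by rw [h]; exact Function.injective_id)
  · intro w
    refine ⟨(pfInv φ N M') w, ?_⟩
    apply (pfInv φ N M').injective
    exact pfInv_pfHom φ N M' _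

section cx
open Groth.Agent.Lib.T2H9.EW Groth.Agent.Lib.Helper3

variable {ι : Type} {c : ComplexShape ι} (P : HomologicalComplex (ModuleCat.{u} A) c)

/-- the projection formula for complexes -/
noncomputable def pfCx (M' : ModuleCat.{u} A') :
    CohIII.tensorObj P ((ModuleCat.restrictScalars φ).obj M') ⟶
      ((ModuleCat.restrictScalars φ).mapHomologicalComplex c).obj
        (CohIII.tensorObj (CohIII.bcCx φ P) M') where
  f i := pfHom φ (P.X i) M'
  comm' i j _ := (pfHom_natural_left φ (P.d i j) M').symm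

instance isIso_pfCx (M' : ModuleCat.{u} A') : IsIso (pfCx φ P M') := by
  haveI : ∀ i, IsIso ((pfCx φ P M').f i) := fun i => isIso_pfHom φ (P.X i) M'
  exact HomologicalComplex.Hom.isIso_of_components _

theorem pfCx_naturality {M' M₁' : ModuleCat.{u} A'} (h : M' ⟶ M₁') :
    CohIII.tensorMap P ((ModuleCat.restrictScalars φ).map h) ≫ pfCx φ P M₁' =
      pfCx φ P M' ≫ ((ModuleCat.restrictScalars φ).mapHomologicalComplex c).map
        (CohIII.tensorMap (CohIII.bcCx φ P) h) := by
  apply HomologicalComplex.hom_ext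
  intro i
  exact pfHom_natural_right φ (P.X i) h

/-- the projection formula as an isomorphism of complex valued functors -/
noncomputable def pfCxIso :
    ModuleCat.restrictScalars φ ⋙ tensorCx P ≅
      tensorCx (CohIII.bcCx φ P) ⋙ (ModuleCat.restrictScalars φ).mapHomologicalComplex c :=
  NatIso.ofComponents (fun M' => @asIso _ _ _ _ (pfCx φ P M') (isIso_pfCx φ P M'))
    (fun h => pfCx_naturality φ P h)

/-- **`H_p((A' ⊗_A P) ⊗_{A'} M') = H_p(P ⊗_A M')`**, naturally in the `A'`-module `M'`. -/
noncomputable def tFunBcIso (p : ι) :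
    CohIII.TFun (CohIII.bcCx φ P) p ⋙ ModuleCat.restrictScalars φ ≅
      ModuleCat.restrictScalars φ ⋙ CohIII.TFun P p :=
  Functor.isoWhiskerRight (tFunIso (CohIII.bcCx φ P) p) _ ≪≫
    Functor.associator _ _ _ ≪≫
    Functor.isoWhiskerLeft _ (Groth.Agent.Lib.Helper21.DerPost.mapHCHomologyIso c
      (ModuleCat.restrictScalars φ) p).symm ≪≫
    (Functor.associator _ _ _).symm ≪≫
    Functor.isoWhiskerRight (pfCxIso φ P).symm _ ≪≫
    Functor.associator _ _ _ ≪≫
    Functor.isoWhiskerLeft _ (tFunIso P p).symm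

end cx

end Groth.Agent.Lib.T2H9.ProjFormula
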