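import Groth.Agent.Lib.T2H9TFunAlg
import Groth.Agent.Lib.T2H9EW1
import Groth.Agent.Lib.Helper3FlatCxBC
import Groth.Agent.Lib.T2H9ProjFormula
import Groth.Agent.S2410
import Groth.Agent.S2407
import Groth.Agent.Lib.T2H5LocAlg
set_option backward.isDefEq.respectTransparency.types false

/-!
# Algebra of the functors `T_p(M) = H_p(P ⊗ M)` over an arbitrary commutative ring (helper5)

Namespace `Groth.Agent.Lib.T2H5.BC0Alg`.

* `TFun P p` is additive and `A`-linear; `TAb P p` its composite with the forgetful functor to abelian groups.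
* `ewLin_bijective_iff_of_iso`, `ewLin_surjective_iff_of_iso`: the Eilenberg–Watts comparison at a module `M`
  is bijective (surjective) for `T` iff it is for an isomorphic functor `T'`.
* `ewBij_of_flat_opcycles`: if `opcycles_q(P)` is flat (`q + 1 = p`) then `T_p(A) ⊗ M → T_p(M)` is bijective for all `M`.
* `free_opcycles_of_surjective'`: over a (not necessarily Noetherian) local ring, for a complex of finite projective
  modules, surjectivity of `T_p(R) → T_p(k)` implies that `opcycles_q` is free.
* `mem_freeLocus_of_ewLin_surjective`: the resulting criterion at a prime of an arbitrary ring.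
-/

set_option autoImplicit false
set_option linter.style.haveILetI false
set_option linter.unusedSectionVars false
set_option linter.unusedVariables false
universe u
open CategoryTheory CategoryTheory.Limits MonoidalCategory

namespace Groth.Agent.Lib.T2H5.BC0Alg

open Groth.Agent.Lib.Helper3 Groth.Agent.Lib.T2H9.EW Groth.Agent.Lib.T2H9.TFunAlg

section inst

variable {A : Type u} [CommRing A] {ι : Type} {c : ComplexShape ι}

theorem tensorMap_add (P : HomologicalComplex (ModuleCat.{u} A) c) {M N : ModuleCat.{u} A}
    (g h : M ⟶ N) : CohIII.tensorMap P (g + h) = CohIII.tensorMap P g + CohIII.tensorMap P h := by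
  apply HomologicalComplex.hom_ext
  intro i
  rw [tensorMap_f, HomologicalComplex.add_f_apply, tensorMap_f, tensorMap_f]
  exact MonoidalPreadditive.whiskerLeft_add ..

instance (P : HomologicalComplex (ModuleCat.{u} A) c) (p : ι) : (CohIII.TFun P p).Additive where
  map_add := by
    intro M N g h
    change HomologicalComplex.homologyMap (CohIII.tensorMap P (g + h)) p =
      HomologicalComplex.homologyMap (CohIII.tensorMap P g) p +
        HomologicalComplex.homologyMap (CohIII.tensorMap P h) p
    rw [tensorMap_add, HomologicalComplex.homologyMap_add]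

instance (P : HomologicalComplex (ModuleCat.{u} A) c) (p : ι) : (CohIII.TFun P p).Linear A where
  map_smul := by
    intro M N g a
    exact TFun_map_smul P p a g

/-- `M ↦ H_p(P ⊗ M)` with values in abelian groups -/
noncomputable abbrev TAb (P : HomologicalComplex (ModuleCat.{u} A) c) (p : ι) :
    ModuleCat.{u} A ⥤ AddCommGrpCat.{u} :=
  CohIII.TFun P p ⋙ forget₂ (ModuleCat.{u} A) AddCommGrpCat.{u}

end inst

section iso

variable {A : Type u} [CommRing A]
variable {T T' : ModuleCat.{u} A ⥤ AddCommGrpCat.{u}} [T.Additive] [T'.Additive]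

/-- the Eilenberg–Watts comparison of `T'` at `M` is the one of `T` conjugated by bijections -/
theorem ewLin_iso_decomp (e : T ≅ T') (M : ModuleCat.{u} A) :
    ∃ (b1 : TensorProduct A ((liftA T').obj (ModuleCat.of A A)) M →
        TensorProduct A ((liftA T).obj (ModuleCat.of A A)) M)
      (b2 : (liftA T).obj M → (liftA T').obj M),
      Function.Bijective b1 ∧ Function.Bijective b2 ∧
        (ewLin (liftA T') M : _ → _) = b2 ∘ (ewLin (liftA T) M) ∘ b1 := by
  have h1 : ∀ z, ewLin (liftA T') M z = ((liftANat e.hom).app M).hom (ewLin (liftA T) M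
      (LinearMap.rTensor _ ((liftANat e.inv).app (ModuleCat.of A A)).hom z)) := by
    intro z
    rw [ewLin_naturality_left (liftANat e.hom) M]
    congr 1
    rw [← LinearMap.comp_apply, ← LinearMap.rTensor_comp]
    have : ((liftANat e.hom).app (ModuleCat.of A A)).hom ∘ₗ
        ((liftANat e.inv).app (ModuleCat.of A A)).hom = LinearMap.id := by
      ext x
      change (e.hom.app _).hom ((e.inv.app _).hom x) = x
      rw [← AddCommGrpCat.comp_apply, e.inv_hom_id_app]
      rfl
    rw [this, LinearMap.rTensor_id, LinearMap.id_apply]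
  have b1 : Function.Bijective
      (LinearMap.rTensor M ((liftANat e.inv).app (ModuleCat.of A A)).hom) := by
    refine Function.bijective_iff_has_inverse.2
      ⟨LinearMap.rTensor M ((liftANat e.hom).app (ModuleCat.of A A)).hom, fun z => ?_, fun z => ?_⟩
    · rw [← LinearMap.comp_apply, ← LinearMap.rTensor_comp]
      have : ((liftANat e.hom).app (ModuleCat.of A A)).hom ∘ₗ
          ((liftANat e.inv).app (ModuleCat.of A A)).hom = LinearMap.id := by
        ext x
        change (e.hom.app _).hom ((e.inv.app _).hom x) = x
        rw [← AddCommGrpCat.comp_apply, e.inv_hom_id_app]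
        rfl
      rw [this, LinearMap.rTensor_id, LinearMap.id_apply]
    · rw [← LinearMap.comp_apply, ← LinearMap.rTensor_comp]
      have : ((liftANat e.inv).app (ModuleCat.of A A)).hom ∘ₗ
          ((liftANat e.hom).app (ModuleCat.of A A)).hom = LinearMap.id := by
        ext x
        change (e.inv.app _).hom ((e.hom.app _).hom x) = x
        rw [← AddCommGrpCat.comp_apply, e.hom_inv_id_app]
        rfl
      rw [this, LinearMap.rTensor_id, LinearMap.id_apply]
  have b2 : Function.Bijective ((liftANat e.hom).app M).hom := by
    refine Function.bijective_iff_has_inverse.2 ⟨((liftANat e.inv).app M).hom, fun z => ?_, fun z => ?_⟩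
    · change (e.inv.app _).hom ((e.hom.app _).hom z) = z
      rw [← AddCommGrpCat.comp_apply, e.hom_inv_id_app]
      rfl
    · change (e.hom.app _).hom ((e.inv.app _).hom z) = z
      rw [← AddCommGrpCat.comp_apply, e.inv_hom_id_app]
      rfl
  exact ⟨_, _, b1, b2, funext h1⟩

theorem ewLin_bijective_of_iso (e : T ≅ T') (M : ModuleCat.{u} A)
    (h : Function.Bijective (ewLin (liftA T) M)) : Function.Bijective (ewLin (liftA T') M) := by
  obtain ⟨b1, b2, h1, h2, h3⟩ := ewLin_iso_decomp e M
  rw [h3]
  exact h2.comp (h.comp h1)

theorem ewLin_surjective_of_iso (e : T ≅ T') (M : ModuleCat.{u} A)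
    (h : Function.Surjective (ewLin (liftA T) M)) : Function.Surjective (ewLin (liftA T') M) := by
  obtain ⟨b1, b2, h1, h2, h3⟩ := ewLin_iso_decomp e M
  rw [h3]
  exact h2.surjective.comp (h.comp h1.surjective)

end iso

section flat

variable {A : Type u} [CommRing A] (P : ChainComplex (ModuleCat.{u} A) ℤ)

/-- if `opcycles_q(P)` is flat then `T_p(A) ⊗ M → T_p(M)` is bijective for all `M` (`q + 1 = p`) -/
theorem ewBij_of_flat_opcycles (hP : ∀ i, Module.Flat A (P.X i)) (p q : ℤ) (hpq : q + 1 = p)
    (hq : Module.Flat A (P.opcycles q)) : EWBij (TAb P p) := by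
  have he : (CohIII.TFun P p).PreservesEpimorphisms :=
    (Groth.Agent.S2410.preservesEpi_iff_flat_opcycles P hP p q hpq).mpr hq
  obtain ⟨N, ⟨e⟩⟩ := (Groth.Agent.S2407.result P hP p).mp he
  haveI : PreservesColimitsOfSize.{u, u} (tensorLeft N) :=
    (ihom.adjunction N).leftAdjoint_preservesColimits
  haveI : PreservesColimitsOfSize.{u, u} (CohIII.TFun P p) :=
    preservesColimits_of_natIso e.symm
  haveI : PreservesColimitsOfSize.{u, u} (forget₂ (ModuleCat.{u} A) AddCommGrpCat.{u}) :=
    inferInstance
  haveI : PreservesColimitsOfSize.{u, u} (TAb P p) := comp_preservesColimits _ _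
  exact ewBij_of_preservesColimits (TAb P p)

end flat

section fp

variable {R : Type u} [CommRing R] {ι : Type} {c : ComplexShape ι}

/-- the module of cocycles of a complex of finite projective modules is finitely presented -/
theorem finitePresentation_opcycles (Q : HomologicalComplex (ModuleCat.{u} R) c)
    (hQ : ∀ i, Module.Finite R (Q.X i) ∧ Module.Projective R (Q.X i)) (q : ι) :
    Module.FinitePresentation R (Q.opcycles q) := by
  haveI := (hQ q).1
  haveI := (hQ q).2
  haveI : Module.FinitePresentation R (Q.X q) := Module.finitePresentation_of_projective R _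
  have hsurj : Function.Surjective (Q.pOpcycles q).hom :=
    (ModuleCat.epi_iff_surjective _).mp inferInstance
  have hex : (ShortComplex.mk (Q.d (c.prev q) q) (Q.pOpcycles q) (Q.d_pOpcycles _ _)).Exact :=
    ShortComplex.exact_of_g_is_cokernel _ (Q.opcyclesIsCokernel (c.prev q) q rfl)
  rw [ShortComplex.moduleCat_exact_iff_range_eq_ker] at hex
  refine Module.finitePresentation_of_surjective _ hsurj ?_
  haveI := (hQ (c.prev q)).1
  have h1 : (LinearMap.range (Q.d (c.prev q) q).hom).FG := by
    rw [LinearMap.range_eq_map]
    exact Module.Finite.fg_top.map _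
  exact hex ▸ h1

/-- over a local ring, for a complex of finite projective modules: if `T_p(R) → T_p(k)` is surjective then
`opcycles_q(Q)` is free, `c.Rel p q` (no Noetherian hypothesis) -/
theorem free_opcycles_of_surjective' [IsLocalRing R] (Q : HomologicalComplex (ModuleCat.{u} R) c)
    (hQ : ∀ i, Module.Finite R (Q.X i) ∧ Module.Projective R (Q.X i)) (p q : ι) (hrel : c.Rel p q)
    (h : Function.Surjective ((CohIII.TFun Q p).map
      (ModuleCat.ofHom (Algebra.linearMap R (IsLocalRing.ResidueField R)))).hom) :
    Module.Free R (Q.opcycles q) := by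
  have hflat : ∀ i, Module.Flat R (Q.X i) := fun i => by
    haveI := (hQ i).2
    infer_instance
  have hepi : Epi ((CohIII.TFun Q p).map (residueSC R).g) := (ModuleCat.epi_iff_surjective _).mpr h
  have hmono := mono_T_map_of_epi Q hflat (residueSC R) (residueSC_shortExact R) p q hrel hepi
  have hm : Mono (residueSC R).f := (residueSC_shortExact R).mono_f
  have h2 := mono_whiskerLeft_opcycles Q q (hflat _) (residueSC R).f hmono
  haveI := finitePresentation_opcycles Q hQ q
  apply Module.free_of_maximalIdeal_rTensor_injective
  rw [← LinearMap.lTensor_inj_iff_rTensor_inj]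
  exact (ModuleCat.mono_iff_injective _).mp h2

end fp

section atPrime

variable {A : Type u} [CommRing A] {ι : Type} {c : ComplexShape ι}

/-- flatness of the module of cocycles after localisation at a prime puts the prime in the free locus -/
theorem mem_freeLocus_of_flat_bcCx_opcycles (P : HomologicalComplex (ModuleCat.{u} A) c) (q : ι)
    [Module.Finite A (P.X q)] (x : PrimeSpectrum A) (R : Type u) [CommRing R] [Algebra A R]
    [IsLocalization.AtPrime R x.asIdeal]
    (h : Module.Flat R ((CohIII.bcCx (algebraMap A R) P).opcycles q)) :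
    x ∈ Module.freeLocus A (P.opcycles q) := by
  haveI := finite_opcycles P q
  haveI : IsLocalRing R := IsLocalization.AtPrime.isLocalRing R x.asIdeal
  rw [Module.mem_freeLocus_iff_tensor x R]
  haveI : Module.Flat R (TensorProduct A R (P.opcycles q)) :=
    (Module.Flat.equiv_iff (Groth.Agent.S2380.bridge A R (P.opcycles q))).mp
      ((Module.Flat.equiv_iff (bcOpcyclesIso R P q).toLinearEquiv).mp h)
  exact Module.free_of_flat_of_isLocalRing

end atPrime

section modiso

variable {A : Type u} [CommRing A] (T : ModuleCat.{u} A ⥤ ModuleCat.{u} A) [T.Additive] [T.Linear A]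

theorem ewLin_surjective_of_moduleIso {M N : ModuleCat.{u} A} (g : M ≅ N)
    (h : Function.Surjective (ewLin T M)) : Function.Surjective (ewLin T N) := by
  intro n
  obtain ⟨z, hz⟩ := h ((T.map g.inv).hom n)
  refine ⟨LinearMap.lTensor _ g.hom.hom z, ?_⟩
  rw [← ewLin_naturality T g.hom z, hz]
  have e := congrArg (fun f => f.hom n) (T.mapIso g).inv_hom_id
  exact e

theorem ewLin_bijective_of_moduleIso {M N : ModuleCat.{u} A} (g : M ≅ N)
    (h : Function.Bijective (ewLin T M)) : Function.Bijective (ewLin T N) := by
  refine ⟨?_, ewLin_surjective_of_moduleIso T g h.2⟩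
  intro z w hzw
  have hb : Function.Bijective (LinearMap.lTensor (T.obj (ModuleCat.of A A)) g.inv.hom) := by
    refine Function.bijective_iff_has_inverse.2
      ⟨LinearMap.lTensor _ g.hom.hom, fun t => ?_, fun t => ?_⟩
    · rw [← LinearMap.comp_apply, ← LinearMap.lTensor_comp]
      have : g.hom.hom ∘ₗ g.inv.hom = LinearMap.id := by
        ext t
        exact congrArg (fun f => f.hom t) g.inv_hom_id
      rw [this, LinearMap.lTensor_id, LinearMap.id_apply]
    · rw [← LinearMap.comp_apply, ← LinearMap.lTensor_comp]
      have : g.inv.hom ∘ₗ g.hom.hom = LinearMap.id := by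
        ext t
        exact congrArg (fun f => f.hom t) g.hom_inv_id
      rw [this, LinearMap.lTensor_id, LinearMap.id_apply]
  apply hb.1
  apply h.1
  rw [← ewLin_naturality T g.inv z, ← ewLin_naturality T g.inv w, hzw]

end modiso

section crit

variable {A : Type u} [CommRing A] (P : ChainComplex (ModuleCat.{u} A) ℤ)
  (hP : ∀ i, Module.Finite A (P.X i) ∧ Module.Projective A (P.X i))

include hP in
theorem hP_bcCx' (B : Type u) [CommRing B] [Algebra A B] (i : ℤ) :
    Module.Finite B ((CohIII.bcCx (algebraMap A B) P).X i) ∧
      Module.Projective B ((CohIII.bcCx (algebraMap A B) P).X i) := by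
  haveI := (hP i).1
  haveI := (hP i).2
  exact Groth.Agent.Lib.T2H5.LocAlg.finite_projective_extendScalars (B := B) (P.X i)

variable (x : PrimeSpectrum A) (R : Type u) [CommRing R] [IsLocalRing R] [Algebra A R]

/-- the residue field of `R` as an `A`-module, in two ways -/
noncomputable def kEquiv : IsLocalRing.ResidueField R ≃ₗ[A]
    ↑((ModuleCat.restrictScalars (algebraMap A R)).obj
      (ModuleCat.of R (IsLocalRing.ResidueField R))) where
  toFun c := c
  invFun c := c
  left_inv _ := rfl
  right_inv _ := rfl
  map_add' _ _ := rfl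
  map_smul' a c := by
    rw [RingHom.id_apply]
    exact (algebraMap_smul R a (show IsLocalRing.ResidueField R from c)).symm

/-- the residue field of `R` as an `A`-module, in two ways -/
noncomputable def kIso : ModuleCat.of A (IsLocalRing.ResidueField R) ≅
    (ModuleCat.restrictScalars (algebraMap A R)).obj (ModuleCat.of R (IsLocalRing.ResidueField R)) :=
  (kEquiv (A := A) R).toModuleIso

/-- surjectivity of `T_p(A) ⊗ k → T_p(k)` (as `A`-modules) gives surjectivity of `T_p(R) → T_p(k)` -/
theorem surjective_T_map_of_ewLin_surjective (p : ℤ)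
    (hs : Function.Surjective (ewLin (liftA (TAb P p))
      ((ModuleCat.restrictScalars (algebraMap A R)).obj (ModuleCat.of R (IsLocalRing.ResidueField R))))) :
    Function.Surjective ((CohIII.TFun P p).map ((ModuleCat.restrictScalars (algebraMap A R)).map
      (ModuleCat.ofHom (Algebra.linearMap R (IsLocalRing.ResidueField R))))).hom := by
  let K' : ModuleCat.{u} A :=
    (ModuleCat.restrictScalars (algebraMap A R)).obj (ModuleCat.of R (IsLocalRing.ResidueField R))
  let R' : ModuleCat.{u} A := (ModuleCat.restrictScalars (algebraMap A R)).obj (ModuleCat.of R R)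
  let ρ : R' ⟶ K' := (ModuleCat.restrictScalars (algebraMap A R)).map
    (ModuleCat.ofHom (Algebra.linearMap R (IsLocalRing.ResidueField R)))
  have claim : ∀ z : TensorProduct A ((liftA (TAb P p)).obj (ModuleCat.of A A)) K',
      ∃ w : (CohIII.TFun P p).obj R', ((CohIII.TFun P p).map ρ).hom w =
        (show (CohIII.TFun P p).obj K' from ewLin (liftA (TAb P p)) K' z) := by
    intro z
    induction z using TensorProduct.induction_on with
    | zero => exact ⟨0, by rw [map_zero, map_zero]; rfl⟩
    | tmul y c =>
      obtain ⟨r, hr⟩ := IsLocalRing.residue_surjective (show IsLocalRing.ResidueField R from c)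
      refine ⟨((CohIII.TFun P p).map (θ R' (show R from r))).hom
        (show (CohIII.TFun P p).obj (ModuleCat.of A A) from y), ?_⟩
      have e1 : θ R' (show R from r) ≫ ρ = θ K' c := by
        rw [θ_comp]
        congr 1
      have e2 := congrArg (fun f => f.hom (show (CohIII.TFun P p).obj (ModuleCat.of A A) from y))
        (congrArg (CohIII.TFun P p).map e1)
      rw [Functor.map_comp] at e2
      refine e2.trans ?_
      rfl
    | add z w hz hw =>
      obtain ⟨a, ha⟩ := hz
      obtain ⟨b, hb⟩ := hw
      refine ⟨a + b, ?_⟩
      rw [map_add, ha, hb, map_add]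
      rfl
  intro t
  obtain ⟨z, hz⟩ := hs (show (liftA (TAb P p)).obj K' from t)
  obtain ⟨w, hw⟩ := claim z
  refine ⟨w, hw.trans ?_⟩
  rw [hz]

variable [IsLocalization.AtPrime R x.asIdeal]

include hP in
/-- **the local criterion at a prime of an arbitrary ring**: if the Eilenberg–Watts comparison
`T_p(A) ⊗ k(x) → T_p(k(x))` is surjective, then `opcycles_q(P)` is free at `x` (`q + 1 = p`) -/
theorem mem_freeLocus_of_ewLin_surjective (p q : ℤ) (hpq : q + 1 = p)
    {T' : ModuleCat.{u} A ⥤ AddCommGrpCat.{u}} [T'.Additive] (e : TAb P p ≅ T')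
    (hs : Function.Surjective (ewLin (liftA T') (ModuleCat.of A (IsLocalRing.ResidueField R)))) :
    x ∈ Module.freeLocus A (P.opcycles q) := by
  have hs1 : Function.Surjective (ewLin (liftA (TAb P p))
      (ModuleCat.of A (IsLocalRing.ResidueField R))) := ewLin_surjective_of_iso e.symm _ hs
  have hs2 := ewLin_surjective_of_moduleIso (liftA (TAb P p)) (kIso R) hs1
  have hs3 := surjective_T_map_of_ewLin_surjective P R p hs2
  let φ : A →+* R := algebraMap A R
  let Q := CohIII.bcCx φ P
  let iso := Groth.Agent.Lib.T2H9.ProjFormula.tFunBcIso φ P p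
  let π : ModuleCat.of R R ⟶ ModuleCat.of R (IsLocalRing.ResidueField R) :=
    ModuleCat.ofHom (Algebra.linearMap R (IsLocalRing.ResidueField R))
  have hs4 : Function.Surjective ((CohIII.TFun Q p).map π).hom := by
    intro s
    obtain ⟨w, hw⟩ := hs3 ((iso.hom.app (ModuleCat.of R (IsLocalRing.ResidueField R))).hom s)
    let v := (iso.inv.app (ModuleCat.of R R)).hom w
    refine ⟨v, ?_⟩
    have hinj : Function.Injective
        (iso.hom.app (ModuleCat.of R (IsLocalRing.ResidueField R))).hom := by
      intro a b hab
      have e1 := congrArg (fun f => f.hom a) (iso.hom_inv_id_app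
        (ModuleCat.of R (IsLocalRing.ResidueField R)))
      have e2 := congrArg (fun f => f.hom b) (iso.hom_inv_id_app
        (ModuleCat.of R (IsLocalRing.ResidueField R)))
      simp only [ModuleCat.hom_comp, LinearMap.comp_apply] at e1 e2
      rw [hab] at e1
      exact (e1.symm.trans e2 : _)
    apply hinj
    have n := congrArg (fun f => f.hom v) (iso.hom.naturality π)
    simp only [ModuleCat.hom_comp, LinearMap.comp_apply] at n
    refine n.trans ?_
    have e3 : (iso.hom.app (ModuleCat.of R R)).hom v = w := by
      have e4 := congrArg (fun f => f.hom w) (iso.inv_hom_id_app (ModuleCat.of R R))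
      simp only [ModuleCat.hom_comp, LinearMap.comp_apply] at e4
      exact e4
    rw [e3]
    exact hw
  have hrel : (ComplexShape.down ℤ).Rel p q := hpq
  have hfree := free_opcycles_of_surjective' Q (hP_bcCx' P hP R) p q hrel hs4
  haveI := (hP q).1
  exact mem_freeLocus_of_flat_bcCx_opcycles P q x R (by haveI := hfree; infer_instance)

end crit

section vanish

variable {R : Type u} [CommRing R] [IsLocalRing R] {ι : Type} {c : ComplexShape ι}

/-- over a local ring, for a complex of finite projective modules: if `T_q(k) = 0` then `opcycles_q(Q)` is free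
(no Noetherian hypothesis) -/
theorem free_opcycles_of_subsingleton (Q : HomologicalComplex (ModuleCat.{u} R) c)
    (hQ : ∀ i, Module.Finite R (Q.X i) ∧ Module.Projective R (Q.X i)) (q : ι)
    (h : Subsingleton ((CohIII.TFun Q q).obj (ModuleCat.of R (IsLocalRing.ResidueField R)))) :
    Module.Free R (Q.opcycles q) := by
  let κ := IsLocalRing.ResidueField R
  let l : Q.opcycles q →ₗ[R] Q.X (c.next q) := (Q.fromOpcycles q (c.next q)).hom
  haveI := (hQ q).1
  haveI : Module.Finite R (Q.opcycles q) := finite_opcycles Q q
  haveI := (hQ (c.next q)).1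
  haveI := (hQ (c.next q)).2
  haveI : Module.Free R (Q.X (c.next q)) := Module.free_of_flat_of_isLocalRing
  have hinj : Function.Injective (l.lTensor κ) := by
    rw [LinearMap.lTensor_inj_iff_rTensor_inj, injective_iff_map_eq_zero]
    intro z hz
    obtain ⟨t, ht⟩ := exists_jT_eq Q q (ModuleCat.of R κ) z hz
    haveI : Subsingleton (CohIII.T Q q (ModuleCat.of R κ)) := h
    have ht0 : t = 0 := Subsingleton.elim _ _
    rw [← ht, ht0, map_zero]
  obtain ⟨l', hl'⟩ :=
    (IsLocalRing.split_injective_iff_lTensor_residueField_injective l).mpr hinj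
  haveI : Module.Projective R (Q.opcycles q) := Module.Projective.of_split l l' hl'
  exact Module.free_of_flat_of_isLocalRing

end vanish

section vanishGlobal

variable {A : Type u} [CommRing A] (P : ChainComplex (ModuleCat.{u} A) ℤ)
  (hP : ∀ i, Module.Finite A (P.X i) ∧ Module.Projective A (P.X i))

/-- a field as a module over a ring mapping to it, in two ways -/
noncomputable def fIso (R : Type u) [CommRing R] (κ : Type u) [CommRing κ] [Algebra R κ] :
    (ModuleCat.restrictScalars (algebraMap R κ)).obj (ModuleCat.of κ κ) ≅ ModuleCat.of R κ :=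
  LinearEquiv.toModuleIso
    (show ↑((ModuleCat.restrictScalars (algebraMap R κ)).obj (ModuleCat.of κ κ)) ≃ₗ[R] κ from
      { toFun := fun c => c
        invFun := fun c => c
        left_inv := fun _ => rfl
        right_inv := fun _ => rfl
        map_add' := fun _ _ => rfl
        map_smul' := fun a c => by
          rw [RingHom.id_apply]
          exact (Algebra.smul_def a (show κ from c)).symm })

include hP in
/-- **vanishing of the rank function at a prime puts the prime in the free locus of the module of cocycles** -/
theorem mem_freeLocus_of_dRank_eq_zero (q : ℤ) (x : PrimeSpectrum A)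
    (h : CohIII.dRank P q x = 0) : x ∈ Module.freeLocus A (P.opcycles q) := by
  let R := Localization.AtPrime x.asIdeal
  let κ := x.asIdeal.ResidueField
  let φ : A →+* R := algebraMap A R
  let ψ : R →+* κ := algebraMap R κ
  let Q := CohIII.bcCx φ P
  have hQ := hP_bcCx' P hP R
  have hκ := hP_bcCx' P hP κ
  -- the homology over the residue field vanishes
  haveI : Module.Finite κ ((CohIII.bcCx (algebraMap A κ) P).homology q) := by
    haveI := (hκ q).1
    haveI := finite_opcycles (CohIII.bcCx (algebraMap A κ) P) q
    exact Module.Finite.of_injective ((CohIII.bcCx (algebraMap A κ) P).homologyι q).hom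
      ((ModuleCat.mono_iff_injective _).mp inferInstance)
  have hsub : Subsingleton ((CohIII.bcCx (algebraMap A κ) P).homology q) :=
    Module.finrank_zero_iff.mp h
  have hz0 : IsZero ((CohIII.bcCx (algebraMap A κ) P).homology q) :=
    @ModuleCat.isZero_of_subsingleton _ _ _ hsub
  have hcomp : ψ.comp φ = algebraMap A κ := (IsScalarTower.algebraMap_eq A R κ).symm
  have hz1 : IsZero ((CohIII.bcCx ψ Q).homology q) := by
    have e := (HomologicalComplex.homologyFunctor _ _ q).mapIso
      (Groth.Agent.Lib.T2H5.LocAlg.bcCxCompIso φ ψ P)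
    rw [hcomp] at e
    exact hz0.of_iso e.symm
  have hz2 : IsZero ((CohIII.TFun (CohIII.bcCx ψ Q) q).obj (ModuleCat.of κ κ)) :=
    hz1.of_iso (TUnitIso _ q)
  have hz3 : IsZero ((ModuleCat.restrictScalars ψ).obj
      ((CohIII.TFun (CohIII.bcCx ψ Q) q).obj (ModuleCat.of κ κ))) :=
    (ModuleCat.restrictScalars ψ).map_isZero hz2
  have hz4 : IsZero ((CohIII.TFun Q q).obj
      ((ModuleCat.restrictScalars ψ).obj (ModuleCat.of κ κ))) :=
    hz3.of_iso ((Groth.Agent.Lib.T2H9.ProjFormula.tFunBcIso ψ Q q).app (ModuleCat.of κ κ)).symm
  have hz5 : IsZero ((CohIII.TFun Q q).obj (ModuleCat.of R κ)) :=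
    hz4.of_iso ((CohIII.TFun Q q).mapIso (fIso R κ)).symm
  have hfree := free_opcycles_of_subsingleton Q hQ q (ModuleCat.subsingleton_of_isZero hz5)
  haveI := (hP q).1
  exact mem_freeLocus_of_flat_bcCx_opcycles P q x R (by haveI := hfree; infer_instance)

include hP in
/-- if every prime of an `A`-algebra `C` lies over the free locus of `opcycles_q(P)`, then
`opcycles_q(P ⊗_A C)` is a projective `C`-module -/
theorem projective_opcycles_bcCx (q : ℤ) (C : Type u) [CommRing C] [Algebra A C]
    (h : ∀ y : PrimeSpectrum C, PrimeSpectrum.comap (algebraMap A C) y ∈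
      Module.freeLocus A (P.opcycles q)) :
    Module.Projective C ((CohIII.bcCx (algebraMap A C) P).opcycles q) := by
  haveI := finitePresentation_opcycles P hP q
  haveI := finitePresentation_opcycles (CohIII.bcCx (algebraMap A C) P) (hP_bcCx' P hP C) q
  rw [← Module.freeLocus_eq_univ_iff]
  have e : TensorProduct A C (P.opcycles q) ≃ₗ[C] (CohIII.bcCx (algebraMap A C) P).opcycles q :=
    (Groth.Agent.S2380.bridge A C (P.opcycles q)).symm.trans
      (bcOpcyclesIso C P q).toLinearEquiv.symm
  rw [← Module.freeLocus_congr e, Set.eq_univ_iff_forall]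
  intro y
  exact Module.comap_freeLocus_le (h y)

end vanishGlobal

end Groth.Agent.Lib.T2H5.BC0Alg
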