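import Groth.Agent.Lib.T2H5NoethModelC
import Groth.Agent.Lib.T2H5BC0Alg
set_option backward.isDefEq.respectTransparency.types false

/-!
# The bridge theorem over an arbitrary affine base (helper5)

Namespace `Groth.Agent.Lib.T2H5.BC0Bridge`.

`exists_chain_bridge_general`: for `X` proper and of finite presentation over an arbitrary ring `B` and `F` of finite
presentation, flat over `B`, there is a bounded below chain complex `P` of finite free `B`-modules computing
`H^p(X, f^*(M~) ⊗ F)` as `H_{-p}(P ⊗ M)`, functorially in `M` and compatibly with every base change `B → B'`,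
with `H_i(P ⊗ M) = 0` for `i > 0`.  (Noetherian approximation plus helper9's bridge theorem.)
-/

set_option autoImplicit false
set_option linter.style.haveILetI false
set_option linter.unusedSectionVars false
set_option linter.unusedVariables false
universe u
open CategoryTheory CategoryTheory.Limits AlgebraicGeometry Opposite TopologicalSpace

namespace Groth.Agent.Lib.T2H5.BC0Bridge

open Groth.Agent.Lib.T2H9.TFunAlg Groth.Agent.Lib.Helper3

section congr

variable {X : Scheme.{u}}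

/-- `- ⊗ M` depends functorially on `M` -/
noncomputable def tensorRightModCongr {M M' : X.Modules} (e : M ≅ M') :
    DCoh.tensorRightMod M ≅ DCoh.tensorRightMod M' :=
  Functor.isoWhiskerLeft DCoh.toP (Functor.isoWhiskerRight
    ((MonoidalCategory.tensoringRight (CohB1.PMod X)).mapIso (DCoh.toP.mapIso e)) DCoh.shP)

variable (A : Type u) [CommRing A] [X.Over (Spec (CommRingCat.of A))]

/-- `M ↦ f^*(M~) ⊗ F` depends functorially on `F` -/
noncomputable def tensorAFunctorCongr {F G : X.Modules} (e : F ≅ G) :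
    CohIII.tensorAFunctor A F ≅ CohIII.tensorAFunctor A G :=
  Functor.isoWhiskerLeft (tilde.functor (CommRingCat.of A))
    (Functor.isoWhiskerLeft (Scheme.Modules.pullback (X ↘ Spec (CommRingCat.of A)))
      (tensorRightModCongr e))

end congr

section tfun

variable {A : Type u} [CommRing A] {ι : Type} {c : ComplexShape ι}

/-- isomorphic complexes have isomorphic `T` functors -/
noncomputable def tFunCongr {P Q : HomologicalComplex (ModuleCat.{u} A) c} (e : P ≅ Q) (p : ι) :
    CohIII.TFun P p ≅ CohIII.TFun Q p :=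
  haveI : IsIso (TFunMap e.hom p) := isIso_TFunMap e.hom p (fun M => by
    haveI hiso : IsIso (((MonoidalCategory.tensorRight M).mapHomologicalComplex c).map e.hom) :=
      Functor.map_isIso _ e.hom
    exact quasiIsoAt_of_isIso _ p)
  asIso (TFunMap e.hom p)

/-- vanishing of the `T` functor is inherited by base changes -/
theorem isZero_TFun_bcCx {B : Type u} [CommRing B] (φ : A →+* B)
    (P : HomologicalComplex (ModuleCat.{u} A) c) (i : ι)
    (h : ∀ M : ModuleCat.{u} A, IsZero ((CohIII.TFun P i).obj M)) (M : ModuleCat.{u} B) :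
    IsZero ((CohIII.TFun (CohIII.bcCx φ P) i).obj M) := by
  have hz : IsZero ((CohIII.TFun P i).obj ((ModuleCat.restrictScalars φ).obj M)) := h _
  have hz2 : IsZero ((ModuleCat.restrictScalars φ).obj ((CohIII.TFun (CohIII.bcCx φ P) i).obj M)) :=
    hz.of_iso ((Groth.Agent.Lib.T2H9.ProjFormula.tFunBcIso φ P i).app M)
  have hs : Subsingleton ((CohIII.TFun (CohIII.bcCx φ P) i).obj M) :=
    (ModuleCat.subsingleton_of_isZero hz2 : Subsingleton ((ModuleCat.restrictScalars φ).obj
      ((CohIII.TFun (CohIII.bcCx φ P) i).obj M)))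
  exact @ModuleCat.isZero_of_subsingleton _ _ _ hs

end tfun

section main

/-- **the bridge theorem over an arbitrary ring** -/
theorem exists_chain_bridge_general (B : Type u) [CommRing B] (X : Scheme.{u})
    [X.Over (Spec (CommRingCat.of B))] [IsProper (X ↘ Spec (CommRingCat.of B))]
    [LocallyOfFinitePresentation (X ↘ Spec (CommRingCat.of B))] (F : X.Modules)
    (hfp : CohB1.IsFP F) (hfl : FlatMod.IsFlatOver (X ↘ Spec (CommRingCat.of B)) F) :
    ∃ P : ChainComplex (ModuleCat.{u} B) ℤ,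
      (∀ i, Module.Finite B (P.X i) ∧ Module.Free B (P.X i)) ∧
      (∃ b : ℤ, ∀ i, i < b → IsZero (P.X i)) ∧
      (∀ i : ℤ, 0 < i → ∀ M : ModuleCat.{u} B, IsZero ((CohIII.TFun P i).obj M)) ∧
      (∀ p : ℕ, Nonempty (CohIII.TFun P (-(p : ℤ)) ⋙ forget₂ (ModuleCat.{u} B) AddCommGrpCat.{u} ≅
        CohIII.tensorAFunctor B F ⋙ CohIII.HAb X p)) ∧
      ∀ (B' : Type u) [CommRing B'] [Algebra B B'] (X' : Scheme.{u})
        [X'.Over (Spec (CommRingCat.of B'))] (g' : X' ⟶ X)
        (_ : IsPullback g' (X' ↘ Spec (CommRingCat.of B')) (X ↘ Spec (CommRingCat.of B))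
          (Spec.map (CommRingCat.ofHom (algebraMap B B')))) (p : ℕ),
        Nonempty (CohIII.TFun (CohIII.bcCx (algebraMap B B') P) (-(p : ℤ)) ⋙
            forget₂ (ModuleCat.{u} B') AddCommGrpCat.{u} ≅
          CohIII.tensorAFunctor B' ((Scheme.Modules.pullback g').obj F) ⋙ CohIII.HAb X' p) := by
  haveI : F.IsQuasicoherent := Groth.Agent.Helper18Strict.isQCoh_of_isFP F hfp
  obtain ⟨A₀, instCR, instN, ψ, X₀, f₀, g₀', F₀, hpb, hprop, hcoh, hflat, ⟨iso⟩⟩ :=
    Groth.Agent.Lib.T2H5.NoethModel.exists_noeth_model_ring (X ↘ Spec (CommRingCat.of B)) F hfp hfl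
  haveI := hprop
  haveI := hcoh.1
  letI instO : X₀.Over (Spec (CommRingCat.of A₀)) := ⟨f₀⟩
  haveI : IsProper (X₀ ↘ Spec (CommRingCat.of A₀)) := hprop
  have hflat' : FlatMod.IsFlatOver (X₀ ↘ Spec (CommRingCat.of A₀)) F₀ := hflat
  obtain ⟨P₀, hP₀, ⟨b, hb⟩, h3, hpos, h4⟩ :=
    Groth.Agent.Lib.T2H5.BridgePos.exists_chain_bridge_bc_pos A₀ X₀ F₀ hcoh hflat'
  letI instAlg : Algebra A₀ B := ψ.toAlgebra
  have key : ∀ (B' : Type u) [CommRing B'] (χ : B →+* B') (X' : Scheme.{u})
      [X'.Over (Spec (CommRingCat.of B'))] (g' : X' ⟶ X)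
      (_ : IsPullback g' (X' ↘ Spec (CommRingCat.of B')) (X ↘ Spec (CommRingCat.of B))
        (Spec.map (CommRingCat.ofHom χ))) (p : ℕ),
      Nonempty (CohIII.TFun (CohIII.bcCx χ (CohIII.bcCx ψ P₀)) (-(p : ℤ)) ⋙
          forget₂ (ModuleCat.{u} B') AddCommGrpCat.{u} ≅
        CohIII.tensorAFunctor B' ((Scheme.Modules.pullback g').obj F) ⋙ CohIII.HAb X' p) := by
    intro B' _ χ X' _ g' hsq p
    letI instAlg' : Algebra A₀ B' := (χ.comp ψ).toAlgebra
    have hsq' : IsPullback (g' ≫ g₀') (X' ↘ Spec (CommRingCat.of B'))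
        (X₀ ↘ Spec (CommRingCat.of A₀))
        (Spec.map (CommRingCat.ofHom (algebraMap A₀ B'))) := by
      have h5 := hsq.paste_horiz hpb
      have h6 : Spec.map (CommRingCat.ofHom (algebraMap A₀ B')) =
          Spec.map (CommRingCat.ofHom χ) ≫ Spec.map (CommRingCat.ofHom ψ) := by
        rw [← Spec.map_comp]
        rfl
      rw [h6]
      exact h5
    obtain ⟨e⟩ := h4 B' X' (g' ≫ g₀') hsq' p
    let ε : (Scheme.Modules.pullback (g' ≫ g₀')).obj F₀ ≅ (Scheme.Modules.pullback g').obj F :=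
      ((Scheme.Modules.pullbackComp g' g₀').app F₀).symm ≪≫ (Scheme.Modules.pullback g').mapIso iso
    let ec : CohIII.bcCx (algebraMap A₀ B') P₀ ≅ CohIII.bcCx χ (CohIII.bcCx ψ P₀) :=
      Groth.Agent.Lib.T2H5.LocAlg.bcCxCompIso ψ χ P₀
    exact ⟨Functor.isoWhiskerRight (tFunCongr ec (-(p : ℤ))).symm _ ≪≫ e ≪≫
      Functor.isoWhiskerRight (tensorAFunctorCongr B' ε) _⟩
  refine ⟨CohIII.bcCx ψ P₀, fun i => ?_, ⟨b, fun i hi => ?_⟩, fun i hi M => ?_, fun p => ?_, ?_⟩
  · haveI := (hP₀ i).1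
    haveI := (hP₀ i).2
    exact ⟨Groth.Agent.S2380.finite_extendScalars A₀ B (P₀.X i),
      Module.Free.of_equiv (Groth.Agent.S2380.bridge A₀ B (P₀.X i)).symm⟩
  · exact (ModuleCat.extendScalars ψ).map_isZero (hb i hi)
  · exact isZero_TFun_bcCx ψ P₀ i (hpos i hi) M
  · obtain ⟨e⟩ := h3 p
    obtain ⟨core⟩ := Groth.Agent.Lib.T2H9.CoreBC.nonempty_coreIso_of_separated (A := A₀) (A' := B) g₀' hpb F₀ p
    exact ⟨Groth.Agent.Lib.T2H9.CoreBC.bridgeBc g₀' F₀ P₀ _ p e core ≪≫
      Functor.isoWhiskerRight (tensorAFunctorCongr B iso) _⟩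
  · intro B' _ _ X' _ g' hsq p
    exact key B' (algebraMap B B') X' g' hsq p

end main

end Groth.Agent.Lib.T2H5.BC0Bridge
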