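import Groth.Agent.Lib.T2H5ResLE
import Groth.Agent.Lib.Helper13QcqsBC
set_option backward.isDefEq.respectTransparency.types false

/-!
# Unit sections and restriction to opens (helper5)

Namespace `Groth.Agent.Lib.T2H5.BC0GlueA`.

For a commutative square `r ≫ j = j' ≫ g` with `j : V ⟶ X`, `j' : V' ⟶ Y` open immersions and an `O_X`-module `F`:
under the canonical isomorphism `r^*(F|_V) ≅ (g^*F)|_{V'}`, the pullback of sections along `r` is the pullback
of sections along `g` (`theta_app`).  Specialised to `CohPull.pullOnIso` in `unitSec_pullOnIso`.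
-/

set_option autoImplicit false
set_option linter.style.haveILetI false
set_option linter.unusedSectionVars false
set_option linter.unusedVariables false
set_option linter.unnecessarySimpa false
universe u
open CategoryTheory Opposite TopologicalSpace AlgebraicGeometry

namespace Groth.Agent.Lib.T2H5.BC0GlueA

open Scheme.Modules Groth.Agent.Lib.T2H5.ResLE

section general

variable {X Y V V' : Scheme.{u}} (g : Y ⟶ X) (j : V ⟶ X) [IsOpenImmersion j] (j' : V' ⟶ Y)
  [IsOpenImmersion j'] (r : V' ⟶ V) (hr : r ≫ j = j' ≫ g) (F : X.Modules)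

/-- the canonical map `r^*(F|_V) ⟶ (g^*F)|_{V'}` -/
noncomputable def rho : (pullback r).obj ((restrictFunctor j).obj F) ⟶
    (restrictFunctor j').obj ((pullback g).obj F) :=
  (pullback r).map ((restrictFunctorIsoPullback j).hom.app F) ≫
    (pullbackComp r j).hom.app F ≫
    (pullbackCongr hr).hom.app F ≫
    (pullbackComp j' g).inv.app F ≫
    (restrictFunctorIsoPullback j').inv.app ((pullback g).obj F) ≫ 𝟙 _

lemma T_eq : (restrictAdjunction j).unit.app F ≫ (pushforward j).map
      ((pullbackPushforwardAdjunction r).unit.app ((restrictFunctor j).obj F) ≫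
        (pushforward r).map (rho g j j' r hr F)) =
    (pullbackPushforwardAdjunction g).unit.app F ≫
      (pushforward g).map ((restrictAdjunction j').unit.app ((pullback g).obj F) ≫
        (pushforward j').map (𝟙 _)) ≫
      (pushforwardComp j' g).hom.app _ ≫
      (pushforwardCongr hr).inv.app _ ≫
      (pushforwardComp r j).inv.app _ := by
  unfold rho
  refine (L1 j r F _).trans ?_
  refine (L2 r j F _).trans ?_
  rw [L3_assoc hr F]
  rw [L4_assoc j' g F]
  rw [L5 j' ((pullback g).obj F)]

/-- the canonical map `F|_V ⟶ r_*((g^*F)|_{V'})` obtained from `rho` by adjunction -/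
noncomputable def theta : (restrictFunctor j).obj F ⟶
    (pushforward r).obj ((restrictFunctor j').obj ((pullback g).obj F)) :=
  (pullbackPushforwardAdjunction r).unit.app ((restrictFunctor j).obj F) ≫
    (pushforward r).map (rho g j j' r hr F)

lemma theta_eq : theta g j j' r hr F =
    (restrictFunctor j).map ((pullbackPushforwardAdjunction g).unit.app F ≫
      (pushforward g).map ((restrictAdjunction j').unit.app ((pullback g).obj F) ≫
        (pushforward j').map (𝟙 _)) ≫
      (pushforwardComp j' g).hom.app _ ≫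
      (pushforwardCongr hr).inv.app _ ≫
      (pushforwardComp r j).inv.app _) ≫
    (restrictAdjunction j).counit.app _ := by
  have h1 := T_eq g j j' r hr F
  have h2 : (restrictAdjunction j).homEquiv _ _ (theta g j j' r hr F) = _ :=
    ((restrictAdjunction j).homEquiv_unit _ _ _).trans h1
  have h3 := congrArg ((restrictAdjunction j).homEquiv _ _).symm h2
  rw [Equiv.symm_apply_apply] at h3
  rw [h3, Adjunction.homEquiv_counit]

include hr in
lemma image_le (W : V.Opens) : j' ''ᵁ (r ⁻¹ᵁ W) ≤ g ⁻¹ᵁ (j ''ᵁ W) := by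
  intro x hx
  obtain ⟨y, hy, rfl⟩ := hx
  refine ⟨r y, hy, ?_⟩
  have h2 := congrArg (fun φ : V' ⟶ X => φ y) hr
  simpa using h2

set_option maxHeartbeats 1000000 in
lemma theta_app (W : V.Opens) :
    (theta g j j' r hr F).app W =
      ((pullbackPushforwardAdjunction g).unit.app F).app (j ''ᵁ W) ≫
        ((pullback g).obj F).presheaf.map (homOfLE (image_le g j j' r hr W)).op := by
  rw [theta_eq]
  simp only [CategoryTheory.Functor.map_id]
  have hrr : ∀ {A B : X.Modules} (φ : A ⟶ B), ((restrictFunctor j).map φ).app W = φ.app (j ''ᵁ W) :=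
    fun _ => rfl
  simp only [Hom.comp_app, hrr, pushforward_map_app, restrictAdjunction_counit_app_app,
    restrictAdjunction_unit_app_app, pushforwardComp_hom_app_app, pushforwardComp_inv_app_app,
    pushforwardCongr_inv_app_app]
  erw [Category.comp_id, Category.id_comp, Category.comp_id]
  refine (Category.assoc _ _ _).trans ?_
  refine congrArg (fun z => Hom.app ((pullbackPushforwardAdjunction g).unit.app F) (j ''ᵁ W) ≫ z) ?_
  have e1 : ∀ {A B : V'.Opens} (i : A ⟶ B),
      ((restrictFunctor j').obj ((pullback g).obj F)).presheaf.map i.op =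
        ((pullback g).obj F).presheaf.map (j'.opensFunctor.map i).op := fun _ => rfl
  rw [pushforward_obj_presheaf_map, e1, e1]
  refine (congrArg (fun z => z ≫ ((pullback g).obj F).presheaf.map _)
    (((pullback g).obj F).presheaf.map_comp _ _).symm).trans ?_
  refine (((pullback g).obj F).presheaf.map_comp _ _).symm.trans ?_
  congr 1

end general

section special

open Groth.Agent.Helper13PullbackUnit

variable {X Y : Scheme.{u}} (g : Y ⟶ X) (U : X.Opens) (U' : Y.Opens) (h : U' ≤ g ⁻¹ᵁ U)
  (F : X.Modules)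

lemma rho_eq_pullOnIso :
    rho g U.ι U'.ι (g.resLE U U' h) (Scheme.Hom.resLE_comp_ι g h) F =
      (CohPull.pullOnIso g U U' h F).hom := by
  simp [rho, CohPull.pullOnIso]

lemma image_le' (W : (U : Scheme.{u}).Opens) :
    U'.ι ''ᵁ ((g.resLE U U' h) ⁻¹ᵁ W) ≤ g ⁻¹ᵁ (U.ι ''ᵁ W) :=
  image_le g U.ι U'.ι (g.resLE U U' h) (Scheme.Hom.resLE_comp_ι g h) W

/-- **pullback of sections along the restricted morphism `U' ⟶ U`** is the pullback of sections along `g` -/
theorem unitSec_pullOnIso (W : (U : Scheme.{u}).Opens) (m : Γ(F.restrict U.ι, W)) :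
    (CohPull.pullOnIso g U U' h F).hom.app ((g.resLE U U' h) ⁻¹ᵁ W)
      (unitSec (g.resLE U U' h) (F.restrict U.ι) (le_refl ((g.resLE U U' h) ⁻¹ᵁ W)) m) =
    unitSec g F (image_le' g U U' h W) (show Γ(F, U.ι ''ᵁ W) from m) := by
  have e0 : unitSec (g.resLE U U' h) (F.restrict U.ι) (le_refl ((g.resLE U U' h) ⁻¹ᵁ W)) m =
      ((pullbackPushforwardAdjunction (g.resLE U U' h)).unit.app (F.restrict U.ι)).app W m := by
    rw [unitSec_apply]
    have h0 : (homOfLE (le_refl ((g.resLE U U' h) ⁻¹ᵁ W))).op = 𝟙 (op ((g.resLE U U' h) ⁻¹ᵁ W)) := rfl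
    rw [h0, CategoryTheory.Functor.map_id]
    rfl
  rw [e0, ← rho_eq_pullOnIso]
  have e1 := congrArg (fun φ => φ m)
    (theta_app g U.ι U'.ι (g.resLE U U' h) (Scheme.Hom.resLE_comp_ι g h) F W)
  exact e1

end special

end Groth.Agent.Lib.T2H5.BC0GlueA
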