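import Groth.Agent.Lib.T2H5BCTheta
set_option backward.isDefEq.respectTransparency.types false

/-!
# Degree zero: sections of `f^*(A'~) ⊗ F` and the Eilenberg–Watts comparison (helper5)

Namespace `Groth.Agent.Lib.T2H5.BC0Key`.

`A → A'` a ring map, `X` over `Spec A`, `X' = X ×_A A'` with projection `g'`, `F` quasi-coherent on `X`, `W` an
open of `X`, `T_W(M) = Γ(W, f^*(M~) ⊗ F)`.  The Eilenberg–Watts comparison `T_W(A) ⊗_A A' → T_W(A')` is
identified with the linearised pullback of sections `A' ⊗_A Γ(W, F) → Γ(g'⁻¹W, g'^*F)`: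
`ewLin_bijective_iff`, `ewLin_surjective_iff`.  No flatness, finiteness or Noetherian hypothesis.
-/

set_option autoImplicit false
set_option linter.style.haveILetI false
set_option linter.unusedSectionVars false
set_option linter.unusedVariables false
universe u
open CategoryTheory CategoryTheory.Limits AlgebraicGeometry Opposite TopologicalSpace

namespace Groth.Agent.Lib.T2H5.BC0Key

open Groth.Agent.Lib.T2H9.TFunGeo Groth.Agent.Lib.T2H9.FFGeom
  Groth.Agent.Lib.T2H9.CechBC Groth.Agent.Helper13PullbackUnit Groth.Agent.Helper13FlatMV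
  Groth.Agent.Lib.Helper16.TensorCmp Groth.Agent.Lib.T2H5.BCTheta TensorProduct

variable {A A' : Type u} [CommRing A] [CommRing A'] [Algebra A A']
variable {X X' : Scheme.{u}} [X.Over (Spec (CommRingCat.of A))] [X'.Over (Spec (CommRingCat.of A'))]
variable (g' : X' ⟶ X)
variable (h : IsPullback g' (X' ↘ Spec (CommRingCat.of A')) (X ↘ Spec (CommRingCat.of A))
  (Spec.map (CommRingCat.ofHom (algebraMap A A'))))
variable (F : X.Modules) (W : X.Opens)

variable (A) in
/-- `T_W(M) = Γ(W, f^*(M~) ⊗ F)` -/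
noncomputable abbrev TW : ModuleCat.{u} A ⥤ AddCommGrpCat.{u} :=
  CohIII.tensorAFunctor A F ⋙ secAb W

/-- the identification of the sources -/
noncomputable def cEquiv :
    TensorProduct A ((Groth.Agent.Lib.T2H9.EW.liftA (TW A F W)).obj (ModuleCat.of A A))
      (ModuleCat.of A A') ≃ₗ[A] A' ⊗[A] MA X F W :=
  (TensorProduct.congr (secUnitEquiv A F W) (LinearEquiv.refl A A')).trans (TensorProduct.comm A _ _)

/-- `Θ` on sections over `W` -/
noncomputable def thW (Θ : (CohIII.tensorAFunctor A F).obj (ModuleCat.of A A') ⟶ GG g' F) :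
    ((Groth.Agent.Lib.T2H9.EW.liftA (TW A F W)).obj (ModuleCat.of A A')) →+
      MA X' ((Scheme.Modules.pullback g').obj F) (g' ⁻¹ᵁ W) :=
  { toFun := fun x => Θ.app W (show Γ((CohIII.tensorAFunctor A F).obj (ModuleCat.of A A'), W) from x)
    map_zero' := map_zero (Θ.app W).hom
    map_add' := fun x y => map_add (Θ.app W).hom _ _ }

variable [F.IsQuasicoherent]

include h in
theorem thW_ewLin (Θ : (CohIII.tensorAFunctor A F).obj (ModuleCat.of A A') ⟶ GG g' F)
    (hΘ : IsTheta g' F Θ)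
    (z : TensorProduct A ((Groth.Agent.Lib.T2H9.EW.liftA (TW A F W)).obj (ModuleCat.of A A))
      (ModuleCat.of A A')) :
    thW g' F W Θ (Groth.Agent.Lib.T2H9.EW.ewLin (Groth.Agent.Lib.T2H9.EW.liftA (TW A F W))
      (ModuleCat.of A A') z) =
    kap (R := A) (R' := A') (uV g' F (le_refl (g' ⁻¹ᵁ W))) (uV_smul g' h F (le_refl (g' ⁻¹ᵁ W)))
      (cEquiv F W z) := by
  induction z using TensorProduct.induction_on with
  | zero => rw [map_zero, map_zero, map_zero, map_zero]
  | tmul y a' =>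
    have e1 : cEquiv (A' := A') F W (y ⊗ₜ a') = a' ⊗ₜ secUnitEquiv A F W y := rfl
    rw [e1, kap_tmul, Groth.Agent.Lib.T2H9.EW.ewLin_tmul]
    have e2 := congrArg (fun φ => φ.app W y) (hΘ a')
    refine Eq.trans ?_ (e2.trans ?_)
    · rfl
    · change (mu g' F a').app W ((tensorAFunctorUnitIso A F).hom.app W y) = _
      rw [mu_app]
      rfl
  | add z w hz hw => rw [map_add, map_add, map_add, map_add, hz, hw]

include h in
theorem thW_bijective (Θ : (CohIII.tensorAFunctor A F).obj (ModuleCat.of A A') ⟶ GG g' F)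
    (hΘ : IsTheta g' F Θ) : Function.Bijective (thW g' F W Θ) := by
  haveI := isIso_theta g' F h Θ hΘ
  refine Function.bijective_iff_has_inverse.2 ⟨fun y => (inv Θ).app W y, fun x => ?_, fun y => ?_⟩
  · change (inv Θ).app W (Θ.app W x) = x
    have e := congrArg (fun φ => φ.app W x) (IsIso.hom_inv_id Θ)
    exact e
  · change Θ.app W ((inv Θ).app W y) = y
    have e := congrArg (fun φ => φ.app W y) (IsIso.inv_hom_id Θ)
    exact e

include h in
/-- the Eilenberg–Watts comparison of `M ↦ Γ(W, f^*(M~) ⊗ F)` at `A'` is bijective iff the linearised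
pullback of sections `A' ⊗_A Γ(W, F) → Γ(g'⁻¹W, g'^*F)` is -/
theorem ewLin_bijective_iff :
    Function.Bijective (Groth.Agent.Lib.T2H9.EW.ewLin (Groth.Agent.Lib.T2H9.EW.liftA (TW A F W))
      (ModuleCat.of A A')) ↔
    Function.Bijective (kap (R := A) (R' := A') (uV g' F (le_refl (g' ⁻¹ᵁ W)))
      (uV_smul g' h F (le_refl (g' ⁻¹ᵁ W)))) := by
  obtain ⟨Θ, hΘ⟩ := exists_theta g' h.w F
  have hc := thW_bijective g' h F W Θ hΘ
  have key : (thW g' F W Θ : _ → _) ∘ (Groth.Agent.Lib.T2H9.EW.ewLin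
      (Groth.Agent.Lib.T2H9.EW.liftA (TW A F W)) (ModuleCat.of A A')) =
      (kap (R := A) (R' := A') (uV g' F (le_refl (g' ⁻¹ᵁ W)))
        (uV_smul g' h F (le_refl (g' ⁻¹ᵁ W)))) ∘ (cEquiv F W) :=
    funext (thW_ewLin g' h F W Θ hΘ)
  constructor
  · intro hb
    have h1 : Function.Bijective ((kap (R := A) (R' := A') (uV g' F (le_refl (g' ⁻¹ᵁ W)))
        (uV_smul g' h F (le_refl (g' ⁻¹ᵁ W)))) ∘ (cEquiv (A' := A') F W)) := by
      rw [← key]
      exact hc.comp hb
    exact (Function.Bijective.of_comp_iff _ (cEquiv (A' := A') F W).bijective).1 h1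
  · intro hb
    have h1 : Function.Bijective ((thW g' F W Θ : _ → _) ∘ (Groth.Agent.Lib.T2H9.EW.ewLin
        (Groth.Agent.Lib.T2H9.EW.liftA (TW A F W)) (ModuleCat.of A A'))) := by
      rw [key]
      exact hb.comp (cEquiv (A' := A') F W).bijective
    exact (Function.Bijective.of_comp_iff' hc _).1 h1

include h in
theorem ewLin_surjective_iff :
    Function.Surjective (Groth.Agent.Lib.T2H9.EW.ewLin (Groth.Agent.Lib.T2H9.EW.liftA (TW A F W))
      (ModuleCat.of A A')) ↔
    Function.Surjective (kap (R := A) (R' := A') (uV g' F (le_refl (g' ⁻¹ᵁ W)))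
      (uV_smul g' h F (le_refl (g' ⁻¹ᵁ W)))) := by
  obtain ⟨Θ, hΘ⟩ := exists_theta g' h.w F
  have hc := thW_bijective g' h F W Θ hΘ
  have key : (thW g' F W Θ : _ → _) ∘ (Groth.Agent.Lib.T2H9.EW.ewLin
      (Groth.Agent.Lib.T2H9.EW.liftA (TW A F W)) (ModuleCat.of A A')) =
      (kap (R := A) (R' := A') (uV g' F (le_refl (g' ⁻¹ᵁ W)))
        (uV_smul g' h F (le_refl (g' ⁻¹ᵁ W)))) ∘ (cEquiv F W) :=
    funext (thW_ewLin g' h F W Θ hΘ)
  constructor
  · intro hb
    have h1 : Function.Surjective ((kap (R := A) (R' := A') (uV g' F (le_refl (g' ⁻¹ᵁ W)))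
        (uV_smul g' h F (le_refl (g' ⁻¹ᵁ W)))) ∘ (cEquiv (A' := A') F W)) := by
      rw [← key]
      exact hc.surjective.comp hb
    exact Function.Surjective.of_comp h1
  · intro hb
    have h1 : Function.Surjective ((thW g' F W Θ : _ → _) ∘ (Groth.Agent.Lib.T2H9.EW.ewLin
        (Groth.Agent.Lib.T2H9.EW.liftA (TW A F W)) (ModuleCat.of A A'))) := by
      rw [key]
      exact hb.comp (cEquiv (A' := A') F W).surjective
    intro y
    obtain ⟨z, hz⟩ := h1 (thW g' F W Θ y)
    exact ⟨z, hc.injective hz⟩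

end Groth.Agent.Lib.T2H5.BC0Key
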