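import Groth.Agent.Lib.T2H5RpushCoh
import Groth.Agent.Lib.T2H9H0Unit

/-!
# Sections of higher direct images over an affine open, as a module over the functions on that open (helper9)

For `f : X ⟶ S` proper, `S` locally Noetherian, `M` coherent on `X` and `V` an affine open of `S`,
`Γ(V, R^p f_* M) ≃ₗ[Γ(S, V)] H^p(f⁻¹V, M|)`, where the right hand side is a module through
`f⁻¹V ⟶ Spec Γ(S, V)` (helper5's `T2Coh.g₀`).
-/

set_option autoImplicit false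
set_option linter.style.haveILetI false
set_option linter.unusedSectionVars false
set_option linter.unusedVariables false
universe u
open CategoryTheory CategoryTheory.Limits Opposite TopologicalSpace AlgebraicGeometry Abelian

namespace Groth.Agent.Lib.T2H9.FBCSect

open Groth.Agent.Lib.Helper23.FLoc Groth.Agent.Lib.Helper23.AffVanish Groth.Agent.Lib.Helper6
open Groth.Agent.Lib.Helper23.FLocSch Groth.Agent.Lib.T2H5.LocQS Groth.Agent.Lib.T2H5.RpushSect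
open Groth.Agent.Lib.T2H5.RpushAffine Groth.Agent.Lib.T2H5.NatCmp Groth.Agent.Lib.T2H5.RpushQCoh
open Groth.Agent.Lib.T2H5.RpushCoh Groth.Agent.Lib.T2H5.RpushRestr Groth.Agent.Lib.T2H5.T2Coh
open Groth.Agent.Lib.T2H9.H0Unit

section restrict

variable {Y : Scheme.{u}} (G : Y.Modules) (V : Y.Opens)

/-- the comparison of opens -/
noncomputable def φ₀ : (op (V.ι ''ᵁ ⊤) : (Opens Y)ᵒᵖ) ⟶ op V := (eqToHom V.ι_image_top.symm).op

instance : IsIso (φ₀ V) := by dsimp only [φ₀]; infer_instance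

/-- sections of the restriction over the whole open -/
noncomputable def restrictTopEquiv : Γ(G.restrict V.ι, ⊤) ≃+ Γ(G, V) :=
  AddEquiv.ofBijective (G.presheaf.map (φ₀ V)).hom
    (ConcreteCategory.bijective_of_isIso (G.presheaf.map (φ₀ V)))

theorem restrictTopEquiv_smul (r : Γ((↑V : Scheme.{u}), ⊤)) (p : Γ(G.restrict V.ι, ⊤)) :
    restrictTopEquiv G V (r • p) =
      ((V.topIso.hom.hom r : Γ(Y, V)) • restrictTopEquiv G V p : Γ(G, V)) := by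
  change (G.val.map (φ₀ V)).hom _ = _
  refine (G.val.map_smul (φ₀ V) _ _).trans ?_
  change @HSMul.hSMul (Y.ringCatSheaf.obj.obj (op V)) (G.val.obj (op V)) (G.val.obj (op V)) _ _ _ =
    @HSMul.hSMul (Y.ringCatSheaf.obj.obj (op V)) (G.val.obj (op V)) (G.val.obj (op V)) _
      (V.topIso.hom.hom r) ((G.val.map (φ₀ V)).hom p)
  congr 1
  have h3 : (V.ι.appIso ⊤).inv ≫ Y.presheaf.map (φ₀ V) = V.topIso.hom := by
    rw [Scheme.Opens.ι_appIso, Scheme.Opens.topIso_hom]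
    dsimp only [Iso.refl_inv, φ₀]
    exact Category.id_comp _
  exact ConcreteCategory.congr_hom h3 r

end restrict

section succ

variable {X S : Scheme.{u}} (f : X ⟶ S) [IsProper f] [IsLocallyNoetherian S]
  [HasInjectiveResolutions X.Modules] (M : X.Modules) (hM : Coh.IsCoh M) (n : ℕ)

include hM in
/-- positive degrees, over the open subscheme -/
theorem exists_equiv_restrict_succ (V : S.Opens) (hV : IsAffineOpen V) :
    ∃ E : Γ(((Coh.Rpush f (n + 1)).obj M).restrict V.ι, ⊤) ≃+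
        Coh.HH (↑(f ⁻¹ᵁ V) : Scheme.{u}) (M.restrict (f ⁻¹ᵁ V).ι) (n + 1),
      ∀ (r : Γ((↑V : Scheme.{u}), ⊤)) (p : Γ(((Coh.Rpush f (n + 1)).obj M).restrict V.ι, ⊤)),
        E (r • p) = gt ((f ∣_ V).appTop.hom r) • E p := by
  haveI : IsAffine (↑V : Scheme.{u}) := hV
  haveI : IsProper (f ∣_ V) :=
    MorphismProperty.of_isPullback (isPullback_morphismRestrict f V).flip inferInstance
  have hN := isCoh_restrict_preimage f M hM V
  haveI : (M.restrict (f ⁻¹ᵁ V).ι).IsQuasicoherent := hN.1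
  obtain ⟨Ξ, hΞ⟩ := exists_iso_restrict f V M (n + 1)
  let Ξ' : Coh.toAb (((Coh.Rpush f (n + 1)).obj M).restrict V.ι) ≅
      T' (f ∣_ V) (M.restrict (f ⁻¹ᵁ V).ι) n := Ξ
  have hcomm : ∀ r : Γ((↑V : Scheme.{u}), ⊤),
      Coh.smulAb (((Coh.Rpush f (n + 1)).obj M).restrict V.ι) (gt r) ≫ Ξ'.hom =
        Ξ'.hom ≫ θr (f ∣_ V) (M.restrict (f ⁻¹ᵁ V).ι) n ((f ∣_ V).appTop.hom r) := fun r => hΞ (gt r)
  have he₁ : Function.Bijective (Ξ'.hom.hom.app (op ⊤)).hom :=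
    ConcreteCategory.bijective_of_isIso (Ξ'.hom.hom.app (op ⊤))
  have hsm : ∀ (r : Γ((↑V : Scheme.{u}), ⊤))
      (p : Γ(((Coh.Rpush f (n + 1)).obj M).restrict V.ι, ⊤)),
      (Ξ'.hom.hom.app (op ⊤)).hom (r • p) =
        ((θr (f ∣_ V) (M.restrict (f ⁻¹ᵁ V).ι) n ((f ∣_ V).appTop.hom r)).hom.app (op ⊤)).hom
          ((Ξ'.hom.hom.app (op ⊤)).hom p) := by
    intro r p
    have h1 := smul_eq_of_comm _ (T' (f ∣_ V) (M.restrict (f ⁻¹ᵁ V).ι) n) Ξ'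
      (fun r => θr (f ∣_ V) (M.restrict (f ⁻¹ᵁ V).ι) n ((f ∣_ V).appTop.hom r)) hcomm r ⊤ p
    have h3 : ((↑V : Scheme.{u}).presheaf.map
        (homOfLE (le_top : (⊤ : (↑V : Scheme.{u}).Opens) ≤ ⊤)).op).hom r = r := by
      have : (homOfLE (le_top : (⊤ : (↑V : Scheme.{u}).Opens) ≤ ⊤)).op =
          𝟙 (op (⊤ : (↑V : Scheme.{u}).Opens)) := rfl
      rw [this, (↑V : Scheme.{u}).presheaf.map_id]
      rfl
    rw [h3] at h1
    rw [← h1]
    exact Groth.Agent.Lib.Lead.RpushCmp.iso_inv_hom_apply Ξ' ⊤ _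
  refine ⟨AddEquiv.ofBijective ((χ₀ (f ∣_ V) (M.restrict (f ⁻¹ᵁ V).ι) n).comp
      (Ξ'.hom.hom.app (op ⊤)).hom)
    ((χ₀_bijective (f ∣_ V) (M.restrict (f ⁻¹ᵁ V).ι) n).comp he₁), fun r p => ?_⟩
  change χ₀ (f ∣_ V) (M.restrict (f ⁻¹ᵁ V).ι) n ((Ξ'.hom.hom.app (op ⊤)).hom (r • p)) = _
  rw [hsm, χ₀_smul]
  rfl

end succ

theorem morphismRestrict_appTop_topIso {X S : Scheme.{u}} (f : X ⟶ S) (V : S.Opens) (a : Γ(S, V)) :
    (f ∣_ V).appTop.hom (V.topIso.inv.hom a) = (f ⁻¹ᵁ V).topIso.inv.hom ((f.app V).hom a) := by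
  have h1 : (f ∣_ V).appTop = V.topIso.hom ≫ f.app V ≫ (f ⁻¹ᵁ V).topIso.inv := by
    rw [← Scheme.Hom.resLE_eq_morphismRestrict, Scheme.Hom.appTop, Scheme.Hom.resLE_app_top,
      Scheme.Hom.appLE_eq_app]
  have h2 : V.topIso.inv ≫ (f ∣_ V).appTop = f.app V ≫ (f ⁻¹ᵁ V).topIso.inv := by
    rw [h1, Iso.inv_hom_id_assoc]
  exact ConcreteCategory.congr_hom h2 a

section succ2

variable {X S : Scheme.{u}} (f : X ⟶ S) [IsProper f] [IsLocallyNoetherian S]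
  [HasInjectiveResolutions X.Modules] (M : X.Modules) (hM : Coh.IsCoh M) (n : ℕ)

include hM in
/-- positive degrees: `Γ(V, R^{n+1} f_* M) ≃ₗ[Γ(S, V)] H^{n+1}(f⁻¹V, M|)` -/
theorem nonempty_linearEquiv_succ (V : S.Opens) (hV : IsAffineOpen V) :
    letI : (↑(f ⁻¹ᵁ V) : Scheme.{u}).Over (Spec (CommRingCat.of Γ(S, V))) := ⟨g₀ f (U := V)⟩
    Nonempty (Γ((Coh.Rpush f (n + 1)).obj M, V) ≃ₗ[Γ(S, V)]
      Coh.HH (↑(f ⁻¹ᵁ V) : Scheme.{u}) (M.restrict (f ⁻¹ᵁ V).ι) (n + 1)) := by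
  letI : (↑(f ⁻¹ᵁ V) : Scheme.{u}).Over (Spec (CommRingCat.of Γ(S, V))) := ⟨g₀ f (U := V)⟩
  obtain ⟨E, hE⟩ := exists_equiv_restrict_succ f M hM n V hV
  let ρ := restrictTopEquiv ((Coh.Rpush f (n + 1)).obj M) V
  refine ⟨{ (ρ.symm.trans E) with map_smul' := fun a m => ?_ }⟩
  change E (ρ.symm (a • m)) = a • E (ρ.symm m)
  have h1 : ρ.symm (a • m) = (V.topIso.inv.hom a) • ρ.symm m := by
    apply ρ.injective
    rw [AddEquiv.apply_symm_apply, restrictTopEquiv_smul, AddEquiv.apply_symm_apply]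
    congr 1
    exact (ConcreteCategory.congr_hom V.topIso.inv_hom_id a).symm
  rw [h1, hE, morphismRestrict_appTop_topIso]
  change _ = (show Coh.Γtop (↑(f ⁻¹ᵁ V) : Scheme.{u}) from
    Coh.toGlobal (g₀ f (U := V)) a) • E (ρ.symm m)
  rw [toGlobal_g₀]
  rfl

end succ2

section zero

variable {X S : Scheme.{u}} (f : X ⟶ S) (M : X.Modules)

/-- degree zero for the direct image: `H^0(f⁻¹V, M|) ≃ₗ[Γ(S, V)] Γ(V, f_* M)` -/
theorem nonempty_linearEquiv_pushforward (V : S.Opens) :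
    letI : (↑(f ⁻¹ᵁ V) : Scheme.{u}).Over (Spec (CommRingCat.of Γ(S, V))) := ⟨g₀ f (U := V)⟩
    Nonempty (Coh.HH (↑(f ⁻¹ᵁ V) : Scheme.{u}) (M.restrict (f ⁻¹ᵁ V).ι) 0 ≃ₗ[Γ(S, V)]
      Γ((Scheme.Modules.pushforward f).obj M, V)) := by
  letI : (↑(f ⁻¹ᵁ V) : Scheme.{u}).Over (Spec (CommRingCat.of Γ(S, V))) := ⟨g₀ f (U := V)⟩
  let e0 := hh0Equiv (↑(f ⁻¹ᵁ V) : Scheme.{u}) (M.restrict (f ⁻¹ᵁ V).ι)
  let φ₁ : (op ((f ⁻¹ᵁ V).ι ''ᵁ ⊤) : (Opens X)ᵒᵖ) ⟶ op (f ⁻¹ᵁ V) :=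
    (eqToHom (f ⁻¹ᵁ V).ι_image_top.symm).op
  haveI : IsIso φ₁ := by dsimp only [φ₁]; infer_instance
  let θ : (M.restrict (f ⁻¹ᵁ V).ι).val.obj (op ⊤) → M.val.obj (op (f ⁻¹ᵁ V)) :=
    fun y => (M.presheaf.map φ₁).hom y
  have hθ : Function.Bijective θ := ConcreteCategory.bijective_of_isIso (M.presheaf.map φ₁)
  have hsmul : ∀ (b : Γ(S, V)) (x : Coh.HH (↑(f ⁻¹ᵁ V) : Scheme.{u}) (M.restrict (f ⁻¹ᵁ V).ι) 0),
      θ (e0 (b • x)) = @HSMul.hSMul Γ(S, V) Γ((Scheme.Modules.pushforward f).obj M, V)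
        Γ((Scheme.Modules.pushforward f).obj M, V) _ b (θ (e0 x)) := by
    intro b x
    have h2 : e0 (b • x) = (Coh.smulAb (M.restrict (f ⁻¹ᵁ V).ι)
        (Coh.toGlobal ((↑(f ⁻¹ᵁ V) : Scheme.{u}) ↘ Spec (CommRingCat.of Γ(S, V))) b)).hom.app (op ⊤)
          (e0 x) := hh0Equiv_smul _ _ _ x
    have hg : ((↑(f ⁻¹ᵁ V) : Scheme.{u}) ↘ Spec (CommRingCat.of Γ(S, V))) = g₀ f (U := V) := rfl
    rw [h2, Coh.smulAb_app, resTop_top, hg, toGlobal_g₀]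
    refine (M.val.map_smul φ₁ _ _).trans ?_
    change @HSMul.hSMul (X.ringCatSheaf.obj.obj (op (f ⁻¹ᵁ V))) (M.val.obj (op (f ⁻¹ᵁ V)))
        (M.val.obj (op (f ⁻¹ᵁ V))) _ _ _ =
      @HSMul.hSMul (X.ringCatSheaf.obj.obj (op (f ⁻¹ᵁ V))) (M.val.obj (op (f ⁻¹ᵁ V)))
        (M.val.obj (op (f ⁻¹ᵁ V))) _ ((f.app V).hom b) ((M.val.map φ₁).hom (e0 x))
    congr 1
    have hc : ∀ c : Γ(X, f ⁻¹ᵁ V), (X.presheaf.map φ₁).hom
        (((f ⁻¹ᵁ V).ι.appIso ⊤).inv.hom ((f ⁻¹ᵁ V).topIso.inv.hom c)) = c := by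
      intro c
      have h3 : (f ⁻¹ᵁ V).topIso.inv ≫ ((f ⁻¹ᵁ V).ι.appIso ⊤).inv ≫ X.presheaf.map φ₁ = 𝟙 _ := by
        rw [Scheme.Opens.ι_appIso, Scheme.Opens.topIso_inv]
        dsimp only [Iso.refl_inv, φ₁]
        refine (congrArg (fun t => X.presheaf.map (eqToHom (f ⁻¹ᵁ V).ι_image_top).op ≫ t)
          (Category.id_comp _)).trans ?_
        rw [← Functor.map_comp, ← op_comp, eqToHom_trans, eqToHom_refl, op_id]
        exact X.presheaf.map_id _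
      exact ConcreteCategory.congr_hom h3 c
    exact hc _
  let ψ : Coh.HH (↑(f ⁻¹ᵁ V) : Scheme.{u}) (M.restrict (f ⁻¹ᵁ V).ι) 0 →ₗ[Γ(S, V)]
      Γ((Scheme.Modules.pushforward f).obj M, V) :=
    { toFun := fun x => θ (e0 x)
      map_add' := fun x y => by
        rw [map_add]
        exact map_add (M.presheaf.map φ₁).hom _ _
      map_smul' := fun b x => hsmul b x }
  exact ⟨LinearEquiv.ofBijective ψ (hθ.comp e0.bijective)⟩

variable [HasInjectiveResolutions X.Modules]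

/-- degree zero: `Γ(V, R^0 f_* M) ≃ₗ[Γ(S, V)] H^0(f⁻¹V, M|)` -/
theorem nonempty_linearEquiv_zero (V : S.Opens) :
    letI : (↑(f ⁻¹ᵁ V) : Scheme.{u}).Over (Spec (CommRingCat.of Γ(S, V))) := ⟨g₀ f (U := V)⟩
    Nonempty (Γ((Coh.Rpush f 0).obj M, V) ≃ₗ[Γ(S, V)]
      Coh.HH (↑(f ⁻¹ᵁ V) : Scheme.{u}) (M.restrict (f ⁻¹ᵁ V).ι) 0) := by
  letI : (↑(f ⁻¹ᵁ V) : Scheme.{u}).Over (Spec (CommRingCat.of Γ(S, V))) := ⟨g₀ f (U := V)⟩
  obtain ⟨ψ⟩ := nonempty_linearEquiv_pushforward f M V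
  haveI : PreservesFiniteLimits (Scheme.Modules.pushforward f) := by
    haveI := (Scheme.Modules.pullbackPushforwardAdjunction f).rightAdjoint_preservesLimits
    infer_instance
  let e : (Coh.Rpush f 0).obj M ≅ (Scheme.Modules.pushforward f).obj M :=
    (Scheme.Modules.pushforward f).rightDerivedZeroIsoSelf.app M
  have hb : Function.Bijective (Scheme.Modules.Hom.app e.hom V).hom := by
    refine Function.bijective_iff_has_inverse.2 ⟨(Scheme.Modules.Hom.app e.inv V).hom,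
      fun x => ?_, fun x => ?_⟩
    · have h1 := congrArg (fun t => (Scheme.Modules.Hom.app t V).hom x) e.hom_inv_id
      exact h1
    · have h1 := congrArg (fun t => (Scheme.Modules.Hom.app t V).hom x) e.inv_hom_id
      exact h1
  let l : Γ((Coh.Rpush f 0).obj M, V) →ₗ[Γ(S, V)] Γ((Scheme.Modules.pushforward f).obj M, V) :=
    { toFun := fun x => (Scheme.Modules.Hom.app e.hom V).hom x
      map_add' := fun x y => map_add _ x y
      map_smul' := fun r x => Scheme.Modules.Hom.app_smul e.hom r x }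
  exact ⟨(LinearEquiv.ofBijective l hb).trans ψ.symm⟩

end zero

section all

variable {X S : Scheme.{u}} (f : X ⟶ S) [IsProper f] [IsLocallyNoetherian S]
  [HasInjectiveResolutions X.Modules] (M : X.Modules) (hM : Coh.IsCoh M)

include hM in
/-- `Γ(V, R^p f_* M) ≃ₗ[Γ(S, V)] H^p(f⁻¹V, M|)` for an affine open `V` -/
theorem nonempty_linearEquiv (p : ℕ) (V : S.Opens) (hV : IsAffineOpen V) :
    letI : (↑(f ⁻¹ᵁ V) : Scheme.{u}).Over (Spec (CommRingCat.of Γ(S, V))) := ⟨g₀ f (U := V)⟩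
    Nonempty (Γ((Coh.Rpush f p).obj M, V) ≃ₗ[Γ(S, V)]
      Coh.HH (↑(f ⁻¹ᵁ V) : Scheme.{u}) (M.restrict (f ⁻¹ᵁ V).ι) p) := by
  cases p with
  | zero => exact nonempty_linearEquiv_zero f M V
  | succ n => exact nonempty_linearEquiv_succ f M hM n V hV

end all

end Groth.Agent.Lib.T2H9.FBCSect
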