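import Groth.Agent.Lib.T2H9Grauert
import Groth.Agent.Lib.T2H9FBCSect
import Groth.Agent.Lib.Helper2LocFree
import Groth.Agent.Lib.Helper2PullbackSec3
import Groth.Agent.Lib.T2H5GenIsoD
import Groth.Agent.S2446

/-!
# T2H9Grauert2 (helper9): flat cohomology ⇒ exactness; localisation to affine opens of the base

* `exact_of_flat_HH`: over a Noetherian ring, if `H^q(X, F)` is flat for all `q ≥ i`, then `T^q` is exact
  for all `q ≥ i` (S2446 through the bridge).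
* `isPullback_g₀`: `f⁻¹V = X ×_Y Spec Γ(Y, V)` for `V` affine open.
* `fiberRank_locallyConstant_of_isFinLocFree`: if `R^q f_* F` is finite locally free for all `q ≥ i`,
  then `y ↦ dim H^i(X_y, F_y)` is locally constant (`Y` locally Noetherian, `f` proper, `F` coherent flat).
-/

set_option autoImplicit false
set_option linter.style.haveILetI false
set_option linter.unusedSectionVars false
set_option linter.unusedVariables false
universe u
open CategoryTheory AlgebraicGeometry Opposite TopologicalSpace Limits TensorProduct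

namespace Groth.Agent.Lib.T2H9.Grauert

open Groth.Agent.Lib.T2H9.TFunGeo Groth.Agent.Lib.Helper3 Groth.Agent.S2380

section affine
variable (A : Type u) [CommRing A] [IsNoetherianRing A] (X : Scheme.{u})
  [X.Over (Spec (CommRingCat.of A))] [IsProper (X ↘ Spec (CommRingCat.of A))] (F : X.Modules)
  (hF : Coh.IsCoh F) (hfl : FlatMod.IsFlatOver (X ↘ Spec (CommRingCat.of A)) F)

include hF hfl in
/-- if `H^q(X, F)` is flat over `A` for all `q ≥ i`, then `T^q` is exact for all `q ≥ i` -/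
theorem exact_of_flat_HH (i : ℕ) (hflat : ∀ q : ℕ, i ≤ q → Module.Flat A (Coh.HH X F q)) (q : ℕ)
    (hq : i ≤ q) :
    (CohIII.tensorAFunctor A F ⋙ CohIII.HAb X q).PreservesMonomorphisms ∧
      (CohIII.tensorAFunctor A F ⋙ CohIII.HAb X q).PreservesEpimorphisms := by
  obtain ⟨P, h1, ⟨b, hb⟩, h3⟩ := Groth.Agent.Lib.T2H9.Bridge.exists_chain_bridge A X F hF hfl
  have hPflat : ∀ k, Module.Flat A (P.X k) := fun k => haveI := (h1 k).2; inferInstance
  have hT : ∀ j ≤ -(i : ℤ), Module.Flat A ((CohIII.TFun P j).obj (ModuleCat.of A A)) := by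
    intro j hj
    obtain ⟨r, hr⟩ := Int.eq_ofNat_of_zero_le (show (0 : ℤ) ≤ -j by omega)
    have hjr : j = -(r : ℤ) := by omega
    subst hjr
    have hir : i ≤ r := by omega
    obtain ⟨e⟩ := h3 r
    let l1 := Groth.Agent.Lib.T2H9.LenFormula.bridgeLinearEquiv A F P (-(r : ℤ)) r e
      (ModuleCat.of A A)
    let l2 : Coh.HH X ((CohIII.tensorAFunctor A F).obj (ModuleCat.of A A)) r ≃ₗ[A] Coh.HH X F r :=
      Groth.Agent.Lib.T2H5.HilbPoly.hhEquiv (tensorAFunctorUnitIso A F) r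
    haveI := hflat r hir
    exact Module.Flat.of_linearEquiv (l1.trans l2)
  have hex := (Groth.Agent.S2446.result P hPflat b hb (-(i : ℤ))).2 hT (-(q : ℤ)) (by omega)
  obtain ⟨e⟩ := h3 q
  exact ⟨(Groth.Agent.Lib.T2H9.Bridge.preservesMono_iff e).2 hex.1,
    (Groth.Agent.Lib.T2H9.Bridge.preservesEpi_iff e).2 hex.2⟩

end affine

section openAff
open Groth.Agent.Lib.T2H5.T2Coh

variable {X Y : Scheme.{u}} (f : X ⟶ Y) {V : Y.Opens} (hV : IsAffineOpen V)

/-- the preimage of an affine open `V` is the base change along `Spec Γ(Y, V) → Y` -/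
theorem isPullback_g₀ : IsPullback (f ⁻¹ᵁ V).ι (g₀ f (U := V)) f hV.fromSpec := by
  have h1 : IsPullback (f ⁻¹ᵁ V).ι (f ∣_ V) f V.ι := (isPullback_morphismRestrict f V).flip
  refine h1.of_iso (Iso.refl _) (Iso.refl _) hV.isoSpec (Iso.refl _) (by simp) ?_ (by simp) ?_
  · rw [Iso.refl_hom, Category.id_comp]
    refine eq_g₀ f hV _ ?_
    rw [Category.assoc, IsAffineOpen.isoSpec_hom_fromSpec, morphismRestrict_ι]
  · rw [Iso.refl_hom, Category.comp_id, IsAffineOpen.isoSpec_hom_fromSpec]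

end openAff

section global
open Groth.Agent.Lib.T2H5.T2Coh

variable {X Y : Scheme.{u}} (f : X ⟶ Y) [IsProper f] [IsLocallyNoetherian Y]
  (F : X.Modules) (hF : Coh.IsCoh F) (hfl : FlatMod.IsFlatOver f F)
  [HasInjectiveResolutions X.Modules]

include hF hfl in
/-- if `R^q f_* F` is finite locally free for all `q ≥ i`, then `y ↦ dim H^i(X_y, F_y)` is locally
constant -/
theorem fiberRank_locallyConstant_of_isFinLocFree (i : ℕ)
    (hlf : ∀ q : ℕ, i ≤ q → FlatMod.IsFinLocFree ((Coh.Rpush f q).obj F)) :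
    IsLocallyConstant (CohIII.fiberRank f F i) := by
  rw [IsLocallyConstant.iff_exists_open]
  intro y
  obtain ⟨V, hV, hyV, -⟩ := exists_isAffineOpen_mem_and_subset (x := y) (U := ⊤) trivial
  letI hO : (↑(f ⁻¹ᵁ V) : Scheme.{u}).Over (Spec (CommRingCat.of Γ(Y, V))) := ⟨g₀ f (U := V)⟩
  have hsq : IsPullback (f ⁻¹ᵁ V).ι ((↑(f ⁻¹ᵁ V) : Scheme.{u}) ↘ Spec (CommRingCat.of Γ(Y, V))) f
      hV.fromSpec := isPullback_g₀ f hV
  haveI : IsNoetherianRing Γ(Y, V) := IsLocallyNoetherian.component_noetherian ⟨V, hV⟩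
  haveI : IsProper ((↑(f ⁻¹ᵁ V) : Scheme.{u}) ↘ Spec (CommRingCat.of Γ(Y, V))) :=
    MorphismProperty.of_isPullback hsq inferInstance
  haveI := hF.1
  let FV := (Scheme.Modules.pullback (f ⁻¹ᵁ V).ι).obj F
  have hFV : Coh.IsCoh FV := Groth.Agent.Lib.T2H5.GenIsoD.isCoh_pullback _ F hF
  haveI := hFV.1
  have hflV : FlatMod.IsFlatOver ((↑(f ⁻¹ᵁ V) : Scheme.{u}) ↘ Spec (CommRingCat.of Γ(Y, V))) FV :=
    fun x' => Groth.Agent.Lib.Helper2.PullbackSec.isFlatOverAt_pullback_of_isPullback hsq F x' (hfl _)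
  -- flatness of the cohomology of `f⁻¹V`
  have hflat : ∀ q : ℕ, i ≤ q → Module.Flat Γ(Y, V) (Coh.HH (↑(f ⁻¹ᵁ V) : Scheme.{u}) FV q) := by
    intro q hq
    obtain ⟨e1⟩ := Groth.Agent.Lib.T2H9.FBCSect.nonempty_linearEquiv f F hF q V hV
    have hG := Groth.Agent.Lib.T2H5.RpushCoh.isCoh_Rpush f F hF q
    haveI := hG.1
    haveI : Module.Flat Γ(Y, V) Γ((Coh.Rpush f q).obj F, V) :=
      Groth.Agent.Lib.Helper2.LocFree.flat_sections_of_isFlatAt _ hV
        (fun x _ => Groth.Agent.Lib.Helper2.LocFree.isFlat_of_isFinLocFree _ (hlf q hq) x)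
    let e2 : Coh.HH (↑(f ⁻¹ᵁ V) : Scheme.{u}) (F.restrict (f ⁻¹ᵁ V).ι) q ≃ₗ[Γ(Y, V)]
        Coh.HH (↑(f ⁻¹ᵁ V) : Scheme.{u}) FV q :=
      Groth.Agent.Lib.T2H5.HilbPoly.hhEquiv
        ((Scheme.Modules.restrictFunctorIsoPullback (f ⁻¹ᵁ V).ι).app F) q
    exact Module.Flat.of_linearEquiv (e1.trans e2).symm
  obtain ⟨hm, he⟩ := exact_of_flat_HH Γ(Y, V) (↑(f ⁻¹ᵁ V) : Scheme.{u}) FV hFV hflV i hflat i le_rfl
  have hlc := fiberRank_locallyConstant_of_exact Γ(Y, V) (↑(f ⁻¹ᵁ V) : Scheme.{u}) FV hFV hflV i hm he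
  have hfr : ∀ z : Spec (CommRingCat.of Γ(Y, V)),
      CohIII.fiberRank ((↑(f ⁻¹ᵁ V) : Scheme.{u}) ↘ Spec (CommRingCat.of Γ(Y, V))) FV i z =
        CohIII.fiberRank f F i (hV.fromSpec z) := fun z =>
    Groth.Agent.Lib.T2H9.FibRankBC.fiberRank_pullback hsq F i z
  -- transport to `Y`
  have hyr : y ∈ Set.range hV.fromSpec := by
    rw [hV.range_fromSpec]
    exact hyV
  obtain ⟨z₀, hz₀⟩ := hyr
  let W : Set (Spec (CommRingCat.of Γ(Y, V))) :=
    {z | CohIII.fiberRank ((↑(f ⁻¹ᵁ V) : Scheme.{u}) ↘ Spec (CommRingCat.of Γ(Y, V))) FV i z =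
      CohIII.fiberRank ((↑(f ⁻¹ᵁ V) : Scheme.{u}) ↘ Spec (CommRingCat.of Γ(Y, V))) FV i z₀}
  have hW : IsOpen W := hlc.isOpen_fiber _
  refine ⟨hV.fromSpec '' W, hV.fromSpec.isOpenEmbedding.isOpenMap W hW, ⟨z₀, rfl, hz₀⟩, ?_⟩
  rintro y' ⟨z, hz, rfl⟩
  rw [← hz₀, ← hfr, ← hfr]
  exact hz

end global

end Groth.Agent.Lib.T2H9.Grauert
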