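import Groth.Agent.Lib.T2H5BC0GlueA
import Groth.Agent.Lib.T2H5BC0Key
import Groth.Agent.Lib.T2H9Grauert2
import Groth.Agent.Lib.T2H9FBCAlg
set_option backward.isDefEq.respectTransparency.types false

/-!
# Sections over preimages of affine opens and the restricted base change square (helper5)

Namespace `Groth.Agent.Lib.T2H5.BC0GlueB`.
-/

set_option autoImplicit false
set_option linter.style.haveILetI false
set_option linter.unusedSectionVars false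
set_option linter.unusedVariables false
universe u
open CategoryTheory CategoryTheory.Limits AlgebraicGeometry Opposite TopologicalSpace

namespace Groth.Agent.Lib.T2H5.BC0GlueB

open Groth.Agent.Lib.T2H5.T2Coh Groth.Agent.Lib.T2H9.FFGeom Groth.Agent.Helper13PullbackUnit
  Groth.Agent.Helper13QcqsBC Groth.Agent.Helper13AffBC Groth.Agent.Helper13FlatMV
  Groth.Agent.Lib.T2H9.CechBC

section ring

variable {X S : Scheme.{u}} (f : X ⟶ S) {U : S.Opens} (hU : IsAffineOpen U)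

/-- the structure of `f⁻¹U` over `Spec Γ(S, U)` -/
@[reducible] noncomputable def overU :
    (↑(f ⁻¹ᵁ U) : Scheme.{u}).Over (Spec (CommRingCat.of Γ(S, U))) := ⟨g₀ f (U := U)⟩

lemma restrict_smul {Y : Scheme.{u}} (M : X.Modules) (ι : Y ⟶ X) [IsOpenImmersion ι] (O : Y.Opens)
    (c : Γ(Y, O)) (m : Γ(M.restrict ι, O)) :
    (c • m : Γ(M.restrict ι, O)) =
      (((ι.appIso O).inv c : Γ(X, ι ''ᵁ O)) • (show Γ(M, ι ''ᵁ O) from m) : Γ(M, ι ''ᵁ O)) := rfl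

include hU in
theorem ρU_restrict (O : (↑(f ⁻¹ᵁ U) : Scheme.{u}).Opens) (b : Γ(S, U)) :
    letI := overU f (U := U)
    (((f ⁻¹ᵁ U).ι.appIso O).inv (ρU (↑(f ⁻¹ᵁ U) : Scheme.{u}) O b) : Γ(X, (f ⁻¹ᵁ U).ι ''ᵁ O)) =
      f.appLE U ((f ⁻¹ᵁ U).ι ''ᵁ O) (Scheme.Opens.ι_image_le _ O) b := by
  letI := overU f (U := U)
  have e1 : ∀ (φ ψ : (↑(f ⁻¹ᵁ U) : Scheme.{u}) ⟶ S) (hφψ : φ = ψ) (h1 : O ≤ φ ⁻¹ᵁ U)
      (h2 : O ≤ ψ ⁻¹ᵁ U), φ.appLE U O h1 = ψ.appLE U O h2 := by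
    intro φ ψ hφψ h1 h2
    subst hφψ
    rfl
  have hO2 : O ≤ ((f ⁻¹ᵁ U).ι ≫ f) ⁻¹ᵁ U := by
    intro x _
    exact x.2
  have hO1 : O ≤ (g₀ f (U := U) ≫ hU.fromSpec) ⁻¹ᵁ U := by
    rw [g₀_fromSpec]
    exact hO2
  have e2 := e1 _ _ (g₀_fromSpec f hU) hO1 hO2
  have htop : (⊤ : (Spec Γ(S, U)).Opens) ≤ hU.fromSpec ⁻¹ᵁ U := by
    rw [hU.fromSpec_preimage_self]
  have e3 : hU.fromSpec.appLE U ⊤ htop ≫ (g₀ f (U := U)).appLE ⊤ O le_top =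
      (g₀ f (U := U) ≫ hU.fromSpec).appLE U O hO1 :=
    Scheme.Hom.appLE_comp_appLE _ _ _ _ _ _ _
  have e4 : hU.fromSpec.appLE U ⊤ htop = (Scheme.ΓSpecIso Γ(S, U)).inv := by
    rw [Scheme.Hom.appLE, hU.fromSpec_app_self, Category.assoc, ← Functor.map_comp]
    convert Category.comp_id _
    exact (Spec Γ(S, U)).presheaf.map_id _
  have e5 : f.appLE U ((f ⁻¹ᵁ U).ι ''ᵁ O) (Scheme.Opens.ι_image_le _ O) ≫
      (f ⁻¹ᵁ U).ι.appLE ((f ⁻¹ᵁ U).ι ''ᵁ O) O ((f ⁻¹ᵁ U).ι.preimage_image_eq O).ge =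
      ((f ⁻¹ᵁ U).ι ≫ f).appLE U O hO2 :=
    Scheme.Hom.appLE_comp_appLE _ _ _ _ _ _ _
  have e6 : (Scheme.ΓSpecIso Γ(S, U)).inv ≫ (g₀ f (U := U)).appLE ⊤ O le_top =
      f.appLE U ((f ⁻¹ᵁ U).ι ''ᵁ O) (Scheme.Opens.ι_image_le _ O) ≫ ((f ⁻¹ᵁ U).ι.appIso O).hom := by
    rw [Scheme.Hom.appIso_hom', e5, ← e2, ← e3, e4]
  have e7 : (ρU (↑(f ⁻¹ᵁ U) : Scheme.{u}) O b : Γ((↑(f ⁻¹ᵁ U) : Scheme.{u}), O)) =
      ((f ⁻¹ᵁ U).ι.appIso O).hom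
        (f.appLE U ((f ⁻¹ᵁ U).ι ''ᵁ O) (Scheme.Opens.ι_image_le _ O) b) :=
    congrArg (fun t : Γ(S, U) ⟶ Γ((↑(f ⁻¹ᵁ U) : Scheme.{u}), O) => t.hom b) e6
  rw [e7]
  exact congrArg (fun t : Γ(X, (f ⁻¹ᵁ U).ι ''ᵁ O) ⟶ Γ(X, (f ⁻¹ᵁ U).ι ''ᵁ O) =>
    t.hom (f.appLE U ((f ⁻¹ᵁ U).ι ''ᵁ O) (Scheme.Opens.ι_image_le _ O) b))
    ((f ⁻¹ᵁ U).ι.appIso O).hom_inv_id

include hU in
/-- the action of `Γ(S, U)` on the sections of a restricted module over `f⁻¹U` -/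
theorem MA_restrict_smul (M : X.Modules) (O : (↑(f ⁻¹ᵁ U) : Scheme.{u}).Opens) (b : Γ(S, U))
    (m : Γ(M.restrict (f ⁻¹ᵁ U).ι, O)) :
    letI := overU f (U := U)
    ((b • (show MA (↑(f ⁻¹ᵁ U) : Scheme.{u}) (M.restrict (f ⁻¹ᵁ U).ι) O from m) :
        MA (↑(f ⁻¹ᵁ U) : Scheme.{u}) (M.restrict (f ⁻¹ᵁ U).ι) O) : Γ(M, (f ⁻¹ᵁ U).ι ''ᵁ O)) =
      ((f.appLE U ((f ⁻¹ᵁ U).ι ''ᵁ O) (Scheme.Opens.ι_image_le _ O) b :
          Γ(X, (f ⁻¹ᵁ U).ι ''ᵁ O)) • (show Γ(M, (f ⁻¹ᵁ U).ι ''ᵁ O) from m) :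
        Γ(M, (f ⁻¹ᵁ U).ι ''ᵁ O)) := by
  letI := overU f (U := U)
  rw [← ρU_restrict f hU O b]
  rfl

end ring

section square

open Groth.Agent.Lib.Helper6 TensorProduct

variable {X S X' S' : Scheme.{u}} (f : X ⟶ S) (g : S' ⟶ S) (g' : X' ⟶ X) (f' : X' ⟶ S')
  (h : IsPullback g' f' f g) (F : X.Modules)
  {U : S.Opens} {U' : S'.Opens} (hU : IsAffineOpen U) (hU' : IsAffineOpen U') (hle : U' ≤ g ⁻¹ᵁ U)

/-- the restricted morphism `f'⁻¹U' ⟶ f⁻¹U` -/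
noncomputable abbrev gR : (↑(f' ⁻¹ᵁ U') : Scheme.{u}) ⟶ (↑(f ⁻¹ᵁ U) : Scheme.{u}) :=
  g'.resLE (f ⁻¹ᵁ U) (f' ⁻¹ᵁ U') (preimage_le f g g' f' h hle)

include hU hU' in
theorem isPullback_gR :
    IsPullback (gR f g g' f' h hle) (g₀ f' (U := U')) (g₀ f (U := U))
      (Spec.map (g.appLE U U' hle)) := by
  have hbig : IsPullback (gR f g g' f' h hle ≫ (f ⁻¹ᵁ U).ι) (g₀ f' (U := U')) f
      (Spec.map (g.appLE U U' hle) ≫ hU.fromSpec) := by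
    rw [Scheme.Hom.resLE_comp_ι, IsAffineOpen.SpecMap_appLE_fromSpec g hU hU' hle]
    exact (Groth.Agent.Lib.T2H9.Grauert.isPullback_g₀ f' hU').paste_horiz h
  refine IsPullback.of_right hbig ?_ (Groth.Agent.Lib.T2H9.Grauert.isPullback_g₀ f hU)
  have l : gR f g g' f' h hle ≫ g₀ f (U := U) ≫ hU.fromSpec = (f' ⁻¹ᵁ U').ι ≫ g' ≫ f := by
    rw [g₀_fromSpec f hU, ← Category.assoc, Scheme.Hom.resLE_comp_ι, Category.assoc]
  have r : g₀ f' (U := U') ≫ Spec.map (g.appLE U U' hle) ≫ hU.fromSpec =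
      (f' ⁻¹ᵁ U').ι ≫ f' ≫ g := by
    rw [IsAffineOpen.SpecMap_appLE_fromSpec g hU hU' hle, ← Category.assoc, g₀_fromSpec f' hU',
      Category.assoc]
  rw [← cancel_mono hU.fromSpec, Category.assoc, Category.assoc, l, r, h.w]

include hU hU' in
theorem isPullback_gR' :
    letI := overU f (U := U)
    letI := overU f' (U := U')
    letI : Algebra Γ(S, U) Γ(S', U') := (g.appLE U U' hle).hom.toAlgebra
    IsPullback (gR f g g' f' h hle)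
      ((↑(f' ⁻¹ᵁ U') : Scheme.{u}) ↘ Spec (CommRingCat.of Γ(S', U')))
      ((↑(f ⁻¹ᵁ U) : Scheme.{u}) ↘ Spec (CommRingCat.of Γ(S, U)))
      (Spec.map (CommRingCat.ofHom (algebraMap Γ(S, U) Γ(S', U')))) :=
  isPullback_gR f g g' f' h hU hU' hle

lemma top_le_image : f ⁻¹ᵁ U ≤ (f ⁻¹ᵁ U).ι ''ᵁ ⊤ := le_of_eq (f ⁻¹ᵁ U).ι_image_top.symm

lemma Vp_le_image : Vp g' f' U' (f ⁻¹ᵁ U) ≤
    (f' ⁻¹ᵁ U').ι ''ᵁ ((gR f g g' f' h hle) ⁻¹ᵁ ⊤) := by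
  intro x hx
  have hx' : x ∈ f' ⁻¹ᵁ U' := hx.2
  exact ⟨⟨x, hx'⟩, trivial, rfl⟩

lemma image_eq_Vp : (f' ⁻¹ᵁ U').ι ''ᵁ ((gR f g g' f' h hle) ⁻¹ᵁ ⊤) = Vp g' f' U' (f ⁻¹ᵁ U) := by
  apply le_antisymm
  · intro x hx
    obtain ⟨y, -, rfl⟩ := hx
    exact ⟨preimage_le f g g' f' h hle y.2, y.2⟩
  · exact Vp_le_image f g g' f' h hle

include hU in
/-- sections over `⊤` of the restriction, as sections over `f⁻¹U` -/
noncomputable def eM :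
    letI := overU f (U := U)
    MA (↑(f ⁻¹ᵁ U) : Scheme.{u}) (F.restrict (f ⁻¹ᵁ U).ι) ⊤ →ₗ[Γ(S, U)]
      SecR f F U (f ⁻¹ᵁ U) le_rfl :=
  letI := overU f (U := U)
  { toFun := fun m => res F (top_le_image f) (show Γ(F, (f ⁻¹ᵁ U).ι ''ᵁ ⊤) from m)
    map_add' := fun a b => map_add _ _ _
    map_smul' := fun b m => by
      rw [RingHom.id_apply]
      have e1 := MA_restrict_smul f hU F ⊤ b m
      refine (congrArg (res F (top_le_image f)) e1).trans ?_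
      rw [res_smul]
      change _ = ((f.appLE U (f ⁻¹ᵁ U) le_rfl b : Γ(X, f ⁻¹ᵁ U)) •
        (res F (top_le_image f) (show Γ(F, (f ⁻¹ᵁ U).ι ''ᵁ ⊤) from m)) : Γ(F, f ⁻¹ᵁ U))
      congr 1
      change (f.appLE U ((f ⁻¹ᵁ U).ι ''ᵁ ⊤) (Scheme.Opens.ι_image_le _ ⊤) ≫
        X.presheaf.map (homOfLE (top_le_image f)).op) b = _
      rw [Scheme.Hom.appLE_map] }

include hU in
theorem eM_bijective :
    letI := overU f (U := U)
    Function.Bijective (eM f F hU) :=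
  map_bijective_of_eq F (f ⁻¹ᵁ U).ι_image_top.symm (homOfLE (top_le_image f))

end square

section square2

open Groth.Agent.Lib.Helper6 TensorProduct

variable {X S X' S' : Scheme.{u}} (f : X ⟶ S) (g : S' ⟶ S) (g' : X' ⟶ X) (f' : X' ⟶ S')
  (h : IsPullback g' f' f g) (F : X.Modules)
  {U : S.Opens} {U' : S'.Opens} (hU : IsAffineOpen U) (hU' : IsAffineOpen U') (hle : U' ≤ g ⁻¹ᵁ U)

include hU' in
/-- sections over `⊤` of the pullback of the restriction, as sections of `g'^*F` over `f'⁻¹U'` -/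
noncomputable def eQ :
    letI := overU f' (U := U')
    MA (↑(f' ⁻¹ᵁ U') : Scheme.{u})
        ((Scheme.Modules.pullback (gR f g g' f' h hle)).obj (F.restrict (f ⁻¹ᵁ U).ι))
        ((gR f g g' f' h hle) ⁻¹ᵁ ⊤) →ₗ[Γ(S', U')]
      SecR f' ((Scheme.Modules.pullback g').obj F) U' (Vp g' f' U' (f ⁻¹ᵁ U)) inf_le_right :=
  letI := overU f' (U := U')
  { toFun := fun q => res ((Scheme.Modules.pullback g').obj F) (Vp_le_image f g g' f' h hle)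
      (show Γ((Scheme.Modules.pullback g').obj F,
          (f' ⁻¹ᵁ U').ι ''ᵁ ((gR f g g' f' h hle) ⁻¹ᵁ ⊤)) from
        (CohPull.pullOnIso g' (f ⁻¹ᵁ U) (f' ⁻¹ᵁ U') (preimage_le f g g' f' h hle) F).hom.app
          ((gR f g g' f' h hle) ⁻¹ᵁ ⊤) q)
    map_add' := fun a b =>
      (congrArg (res ((Scheme.Modules.pullback g').obj F) (Vp_le_image f g g' f' h hle))
        (map_add ((CohPull.pullOnIso g' (f ⁻¹ᵁ U) (f' ⁻¹ᵁ U')
          (preimage_le f g g' f' h hle) F).hom.app ((gR f g g' f' h hle) ⁻¹ᵁ ⊤)).hom a b)).trans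
        (map_add (((Scheme.Modules.pullback g').obj F).presheaf.map
          (homOfLE (Vp_le_image f g g' f' h hle)).op).hom _ _)
    map_smul' := fun b q => by
      rw [RingHom.id_apply]
      have e0 : (CohPull.pullOnIso g' (f ⁻¹ᵁ U) (f' ⁻¹ᵁ U') (preimage_le f g g' f' h hle) F).hom.app
          ((gR f g g' f' h hle) ⁻¹ᵁ ⊤) (b • q) =
          ((ρU (↑(f' ⁻¹ᵁ U') : Scheme.{u}) ((gR f g g' f' h hle) ⁻¹ᵁ ⊤) b :
            Γ((↑(f' ⁻¹ᵁ U') : Scheme.{u}), (gR f g g' f' h hle) ⁻¹ᵁ ⊤)) •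
          (CohPull.pullOnIso g' (f ⁻¹ᵁ U) (f' ⁻¹ᵁ U') (preimage_le f g g' f' h hle) F).hom.app
            ((gR f g g' f' h hle) ⁻¹ᵁ ⊤) q) :=
        Scheme.Modules.Hom.app_smul _ _ _
      have e1 := MA_restrict_smul f' hU' ((Scheme.Modules.pullback g').obj F)
        ((gR f g g' f' h hle) ⁻¹ᵁ ⊤) b
        ((CohPull.pullOnIso g' (f ⁻¹ᵁ U) (f' ⁻¹ᵁ U') (preimage_le f g g' f' h hle) F).hom.app
          ((gR f g g' f' h hle) ⁻¹ᵁ ⊤) q)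
      refine (congrArg (res ((Scheme.Modules.pullback g').obj F) (Vp_le_image f g g' f' h hle))
        (e0.trans e1)).trans ?_
      rw [res_smul]
      change _ = ((f'.appLE U' (Vp g' f' U' (f ⁻¹ᵁ U)) inf_le_right b :
          Γ(X', Vp g' f' U' (f ⁻¹ᵁ U))) • _ :
        Γ((Scheme.Modules.pullback g').obj F, Vp g' f' U' (f ⁻¹ᵁ U)))
      congr 1
      change (f'.appLE U' ((f' ⁻¹ᵁ U').ι ''ᵁ ((gR f g g' f' h hle) ⁻¹ᵁ ⊤))
        (Scheme.Opens.ι_image_le _ _) ≫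
        X'.presheaf.map (homOfLE (Vp_le_image f g g' f' h hle)).op) b = _
      rw [Scheme.Hom.appLE_map] }

include hU' in
theorem eQ_bijective :
    letI := overU f' (U := U')
    Function.Bijective (eQ f g g' f' h F hU' hle) := by
  letI := overU f' (U := U')
  have h1 : Function.Bijective
      ((CohPull.pullOnIso g' (f ⁻¹ᵁ U) (f' ⁻¹ᵁ U') (preimage_le f g g' f' h hle) F).hom.app
        ((gR f g g' f' h hle) ⁻¹ᵁ ⊤)) := by
    refine Function.bijective_iff_has_inverse.2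
      ⟨fun y => (CohPull.pullOnIso g' (f ⁻¹ᵁ U) (f' ⁻¹ᵁ U')
        (preimage_le f g g' f' h hle) F).inv.app ((gR f g g' f' h hle) ⁻¹ᵁ ⊤) y,
        fun x => ?_, fun y => ?_⟩
    · exact congrArg (fun φ => φ.app ((gR f g g' f' h hle) ⁻¹ᵁ ⊤) x)
        (CohPull.pullOnIso g' (f ⁻¹ᵁ U) (f' ⁻¹ᵁ U') (preimage_le f g g' f' h hle) F).hom_inv_id
    · exact congrArg (fun φ => φ.app ((gR f g g' f' h hle) ⁻¹ᵁ ⊤) y)
        (CohPull.pullOnIso g' (f ⁻¹ᵁ U) (f' ⁻¹ᵁ U') (preimage_le f g g' f' h hle) F).inv_hom_id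
  have h2 : Function.Bijective (((Scheme.Modules.pullback g').obj F).presheaf.map
      (homOfLE (Vp_le_image f g g' f' h hle)).op) :=
    map_bijective_of_eq _ (image_eq_Vp f g g' f' h hle).symm (homOfLE (Vp_le_image f g g' f' h hle))
  exact h2.comp h1

include hU hU' in
/-- the comparison of the two linearised pullback maps -/
theorem eQ_kap
    (z : letI : Algebra Γ(S, U) Γ(S', U') := (g.appLE U U' hle).hom.toAlgebra
      letI := overU f (U := U)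
      Γ(S', U') ⊗[Γ(S, U)] MA (↑(f ⁻¹ᵁ U) : Scheme.{u}) (F.restrict (f ⁻¹ᵁ U).ι) ⊤) :
    letI : Algebra Γ(S, U) Γ(S', U') := (g.appLE U U' hle).hom.toAlgebra
    letI := overU f (U := U)
    letI := overU f' (U := U')
    eQ f g g' f' h F hU' hle (kap (R := Γ(S, U)) (R' := Γ(S', U'))
      (uV (gR f g g' f' h hle) (F.restrict (f ⁻¹ᵁ U).ι) (le_refl ((gR f g g' f' h hle) ⁻¹ᵁ ⊤)))
      (uV_smul (gR f g g' f' h hle) (isPullback_gR' f g g' f' h hU hU' hle)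
        (F.restrict (f ⁻¹ᵁ U).ι) (le_refl ((gR f g g' f' h hle) ⁻¹ᵁ ⊤))) z) =
    kap (R := Γ(S, U)) (R' := Γ(S', U'))
      (uW f g' f' F (le_refl (f ⁻¹ᵁ U)) (inf_le_left : Vp g' f' U' (f ⁻¹ᵁ U) ≤ g' ⁻¹ᵁ (f ⁻¹ᵁ U))
        inf_le_right)
      (uW_smul f g g' f' h F hle le_rfl inf_le_left inf_le_right)
      ((eM f F hU).lTensor Γ(S', U') z) := by
  letI : Algebra Γ(S, U) Γ(S', U') := (g.appLE U U' hle).hom.toAlgebra
  letI := overU f (U := U)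
  letI := overU f' (U := U')
  refine kap_nat _ _ _ _ (eM f F hU) (eQ f g g' f' h F hU' hle) ?_ z
  intro m
  have e1 := Groth.Agent.Lib.T2H5.BC0GlueA.unitSec_pullOnIso g' (f ⁻¹ᵁ U) (f' ⁻¹ᵁ U')
    (preimage_le f g g' f' h hle) F ⊤ m
  have e2 := unitSec_res g' F
    (Groth.Agent.Lib.T2H5.BC0GlueA.image_le' g' (f ⁻¹ᵁ U) (f' ⁻¹ᵁ U')
      (preimage_le f g g' f' h hle) ⊤)
    (inf_le_left : Vp g' f' U' (f ⁻¹ᵁ U) ≤ g' ⁻¹ᵁ (f ⁻¹ᵁ U)) (top_le_image f)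
    (Vp_le_image f g g' f' h hle) (show Γ(F, (f ⁻¹ᵁ U).ι ''ᵁ ⊤) from m)
  exact (congrArg (res ((Scheme.Modules.pullback g').obj F) (Vp_le_image f g g' f' h hle)) e1).trans e2

end square2

end Groth.Agent.Lib.T2H5.BC0GlueB
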