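import Groth.Agent.Lib.T2H5BC0GlueB
import Groth.Agent.Lib.T2H5BC0Alg
set_option backward.isDefEq.respectTransparency.types false

/-!
# The degree zero base change map on sections and the Eilenberg–Watts comparison (helper5)

Namespace `Groth.Agent.Lib.T2H5.BC0GlueC`.

For a cartesian square `g' : X' ⟶ X`, `f' : X' ⟶ S'`, `f : X ⟶ S`, `g : S' ⟶ S`, affine opens `U ⊆ S`,
`U' ⊆ g⁻¹U` and `F` quasi-coherent on `X` with `f_* F` quasi-coherent: the base change map
`g^* f_* F ⟶ f'_* g'^* F` is bijective (surjective) on sections over `U'` iff the Eilenberg–Watts comparison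
`T(Γ(S,U)) ⊗ Γ(S',U') → T(Γ(S',U'))` of the functor `T(M) = Γ(f⁻¹U, φ^*(M~) ⊗ F)` on `Γ(S,U)`-modules is.
-/

set_option autoImplicit false
set_option linter.style.haveILetI false
set_option linter.unusedSectionVars false
set_option linter.unusedVariables false
universe u
open CategoryTheory CategoryTheory.Limits AlgebraicGeometry Opposite TopologicalSpace

namespace Groth.Agent.Lib.T2H5.BC0GlueC

open Groth.Agent.Lib.T2H5.T2Coh Groth.Agent.Lib.T2H9.FFGeom Groth.Agent.Helper13PullbackUnit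
  Groth.Agent.Helper13QcqsBC Groth.Agent.Helper13AffBC Groth.Agent.Helper13FlatMV
  Groth.Agent.Lib.T2H9.CechBC Groth.Agent.Lib.T2H5.BC0GlueB Groth.Agent.Lib.Helper6 TensorProduct
  Groth.Agent.Lib.T2H9.TFunGeo

section h0

/-- `H^0 = Γ`, functorially -/
noncomputable def hAbZeroIso (X : Scheme.{u}) : CohIII.HAb X 0 ≅ secAb (⊤ : X.Opens) :=
  NatIso.ofComponents
    (fun G => (Sheaf.H.equiv₀ ((SheafOfModules.toSheaf X.ringCatSheaf).obj G)
      (isTerminalTop : IsTerminal (⊤ : X.Opens))).toAddCommGrpIso)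
    (fun {G G'} φ => by
      ext x
      exact (Sheaf.H.equiv₀_naturality (isTerminalTop : IsTerminal (⊤ : X.Opens))
        ((SheafOfModules.toSheaf X.ringCatSheaf).map φ) x).symm)

end h0

section sq

variable {X S X' S' : Scheme.{u}} (f : X ⟶ S) (g : S' ⟶ S) (g' : X' ⟶ X) (f' : X' ⟶ S')
  (h : IsPullback g' f' f g) (F : X.Modules)
  {U : S.Opens} {U' : S'.Opens} (hU : IsAffineOpen U) (hU' : IsAffineOpen U') (hle : U' ≤ g ⁻¹ᵁ U)

/-- surjectivity of `Γ(S',U') ⊗ Γ(F, W) → Γ(g'^*F, g'⁻¹W ∩ f'⁻¹U')` -/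
def KSurj (W : X.Opens) (hW : W ≤ f ⁻¹ᵁ U) : Prop :=
  letI : Algebra Γ(S, U) Γ(S', U') := (g.appLE U U' hle).hom.toAlgebra
  Function.Surjective (kap (R := Γ(S, U)) (R' := Γ(S', U'))
    (uW f g' f' F hW (inf_le_left : Vp g' f' U' W ≤ g' ⁻¹ᵁ W) inf_le_right)
    (uW_smul f g g' f' h F hle hW inf_le_left inf_le_right))

include hU hU' in
/-- the base change map on sections over `U'`, up to bijections, is the linearised pullback of sections -/
theorem bcMap_app_decomp [((Scheme.Modules.pushforward f).obj F).IsQuasicoherent] :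
    letI : Algebra Γ(S, U) Γ(S', U') := (g.appLE U U' hle).hom.toAlgebra
    ∃ (κ : Γ(S', U') ⊗[Γ(S, U)] SecR f F U (f ⁻¹ᵁ U) le_rfl →
        Γ((Scheme.Modules.pullback g).obj ((Scheme.Modules.pushforward f).obj F), U'))
      (ρ : Γ((Scheme.Modules.pullback g').obj F, f' ⁻¹ᵁ U') →
        Γ((Scheme.Modules.pullback g').obj F, Vp g' f' U' (f ⁻¹ᵁ U))),
      Function.Bijective κ ∧ Function.Bijective ρ ∧
      ∀ z, ρ ((bcMap f g g' f' h F).app U' (κ z)) =
        kap (R := Γ(S, U)) (R' := Γ(S', U'))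
          (uW f g' f' F le_rfl (inf_le_left : Vp g' f' U' (f ⁻¹ᵁ U) ≤ g' ⁻¹ᵁ (f ⁻¹ᵁ U)) inf_le_right)
          (uW_smul f g g' f' h F hle le_rfl inf_le_left inf_le_right) z := by
  letI : Algebra Γ(S, U) Γ(S', U') := (g.appLE U U' hle).hom.toAlgebra
  have hle' : f' ⁻¹ᵁ U' ≤ g' ⁻¹ᵁ (f ⁻¹ᵁ U) := preimage_le f g g' f' h hle
  let φ : SecR f F U (f ⁻¹ᵁ U) le_rfl →+
      Γ((Scheme.Modules.pullback g).obj ((Scheme.Modules.pushforward f).obj F), U') :=
    unitSec g ((Scheme.Modules.pushforward f).obj F) hle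
  have hφ : ∀ (r : Γ(S, U)) (m : SecR f F U (f ⁻¹ᵁ U) le_rfl),
      φ (r • m) = algebraMap Γ(S, U) Γ(S', U') r • φ m := by
    intro r m
    have e := unitSec_smul g ((Scheme.Modules.pushforward f).obj F) hle r
      (show Γ((Scheme.Modules.pushforward f).obj F, U) from m)
    refine Eq.trans (congrArg (unitSec g ((Scheme.Modules.pushforward f).obj F) hle) ?_) e
    exact appLE_smul_eq f F U r m
  have hφ' : ∀ (r : Γ(S, U)) (m : SecR f F U (f ⁻¹ᵁ U) le_rfl),
      uW f g' f' F le_rfl hle' (le_refl (f' ⁻¹ᵁ U')) (r • m) =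
        algebraMap Γ(S, U) Γ(S', U') r • uW f g' f' F le_rfl hle' (le_refl (f' ⁻¹ᵁ U')) m :=
    uW_smul f g g' f' h F hle le_rfl hle' le_rfl
  have hκ : Function.Bijective (kap (R := Γ(S, U)) (R' := Γ(S', U')) φ hφ) := by
    refine kap_bijective_of_existsUnique _ hφ ?_
    intro N _ _ l hl
    refine existsUnique_lift g ((Scheme.Modules.pushforward f).obj F) hU hU' hle N l fun r x => ?_
    have e := hl r x
    refine Eq.trans (congrArg l ?_) e
    exact (appLE_smul_eq f F U r x).symm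
  have hVle : Vp g' f' U' (f ⁻¹ᵁ U) ≤ f' ⁻¹ᵁ U' := inf_le_right
  have hVeq : Vp g' f' U' (f ⁻¹ᵁ U) = f' ⁻¹ᵁ U' := inf_eq_right.2 hle'
  let ψ := resL f' ((Scheme.Modules.pullback g').obj F) U' (le_refl (f' ⁻¹ᵁ U'))
    (inf_le_right : Vp g' f' U' (f ⁻¹ᵁ U) ≤ f' ⁻¹ᵁ U') hVle
  have hψ : Function.Bijective ψ :=
    map_bijective_of_eq ((Scheme.Modules.pullback g').obj F) hVeq (homOfLE hVle)
  let βl : Γ((Scheme.Modules.pullback g).obj ((Scheme.Modules.pushforward f).obj F), U') →ₗ[Γ(S', U')]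
      SecR f' ((Scheme.Modules.pullback g').obj F) U' (f' ⁻¹ᵁ U') le_rfl :=
    { toFun := fun q => (bcMap f g g' f' h F).app U' q
      map_add' := fun a b => map_add _ _ _
      map_smul' := fun r' q => by
        rw [RingHom.id_apply]
        have e := (bcMap f g g' f' h F).app_smul r' q
        refine e.trans ?_
        exact (appLE_smul_eq f' ((Scheme.Modules.pullback g').obj F) U' r' _).symm }
  refine ⟨kap (R := Γ(S, U)) (R' := Γ(S', U')) φ hφ, ψ, hκ, hψ, fun z => ?_⟩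
  have e1 : βl (kap (R := Γ(S, U)) (R' := Γ(S', U')) φ hφ z) =
      kap (R := Γ(S, U)) (R' := Γ(S', U')) (uW f g' f' F le_rfl hle' (le_refl (f' ⁻¹ᵁ U'))) hφ' z := by
    have := kap_nat (R := Γ(S, U)) (R' := Γ(S', U')) φ hφ
      (uW f g' f' F le_rfl hle' (le_refl (f' ⁻¹ᵁ U'))) hφ' LinearMap.id βl
      (fun m => bcMap_unitSec f g g' f' h F hle m) z
    rw [this, LinearMap.lTensor_id, LinearMap.id_apply]
  have e2 : ψ (kap (R := Γ(S, U)) (R' := Γ(S', U'))
      (uW f g' f' F le_rfl hle' (le_refl (f' ⁻¹ᵁ U'))) hφ' z) =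
      kap (R := Γ(S, U)) (R' := Γ(S', U'))
        (uW f g' f' F le_rfl (inf_le_left : Vp g' f' U' (f ⁻¹ᵁ U) ≤ g' ⁻¹ᵁ (f ⁻¹ᵁ U)) inf_le_right)
        (uW_smul f g g' f' h F hle le_rfl inf_le_left inf_le_right) z := by
    have := kap_nat (R := Γ(S, U)) (R' := Γ(S', U'))
      (uW f g' f' F le_rfl hle' (le_refl (f' ⁻¹ᵁ U'))) hφ'
      (uW f g' f' F le_rfl (inf_le_left : Vp g' f' U' (f ⁻¹ᵁ U) ≤ g' ⁻¹ᵁ (f ⁻¹ᵁ U)) inf_le_right)
      (uW_smul f g g' f' h F hle le_rfl inf_le_left inf_le_right)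
      LinearMap.id ψ (fun a => unitSec_res g' F _ _ le_rfl hVle a |>.trans (by
        congr 1
        exact res_self F a)) z
    rw [this, LinearMap.lTensor_id, LinearMap.id_apply]
  exact (congrArg ψ e1).trans e2

include hU hU' in
theorem bcMap_app_bijective_iff [((Scheme.Modules.pushforward f).obj F).IsQuasicoherent] :
    Function.Bijective ((bcMap f g g' f' h F).app U') ↔ KBij f g g' f' h F hle (f ⁻¹ᵁ U) le_rfl := by
  letI : Algebra Γ(S, U) Γ(S', U') := (g.appLE U U' hle).hom.toAlgebra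
  obtain ⟨κ, ρ, hκ, hρ, hc⟩ := bcMap_app_decomp f g g' f' h F hU hU' hle
  have key : (ρ ∘ ((bcMap f g g' f' h F).app U')) ∘ κ =
      kap (R := Γ(S, U)) (R' := Γ(S', U'))
        (uW f g' f' F le_rfl (inf_le_left : Vp g' f' U' (f ⁻¹ᵁ U) ≤ g' ⁻¹ᵁ (f ⁻¹ᵁ U)) inf_le_right)
        (uW_smul f g g' f' h F hle le_rfl inf_le_left inf_le_right) := funext hc
  unfold KBij
  rw [← key]
  constructor
  · intro hb
    exact (hρ.comp hb).comp hκ
  · intro hb
    have h1 : Function.Bijective (ρ ∘ ((bcMap f g g' f' h F).app U')) :=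
      (Function.Bijective.of_comp_iff _ hκ).1 hb
    exact (Function.Bijective.of_comp_iff' hρ _).1 h1

include hU hU' in
theorem bcMap_app_surjective_iff [((Scheme.Modules.pushforward f).obj F).IsQuasicoherent] :
    Function.Surjective ((bcMap f g g' f' h F).app U') ↔ KSurj f g g' f' h F hle (f ⁻¹ᵁ U) le_rfl := by
  letI : Algebra Γ(S, U) Γ(S', U') := (g.appLE U U' hle).hom.toAlgebra
  obtain ⟨κ, ρ, hκ, hρ, hc⟩ := bcMap_app_decomp f g g' f' h F hU hU' hle
  have key : (ρ ∘ ((bcMap f g g' f' h F).app U')) ∘ κ =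
      kap (R := Γ(S, U)) (R' := Γ(S', U'))
        (uW f g' f' F le_rfl (inf_le_left : Vp g' f' U' (f ⁻¹ᵁ U) ≤ g' ⁻¹ᵁ (f ⁻¹ᵁ U)) inf_le_right)
        (uW_smul f g g' f' h F hle le_rfl inf_le_left inf_le_right) := funext hc
  unfold KSurj
  rw [← key]
  constructor
  · intro hb
    exact (hρ.surjective.comp hb).comp hκ.surjective
  · intro hb
    have h1 : Function.Surjective (ρ ∘ ((bcMap f g g' f' h F).app U')) :=
      (Function.Surjective.of_comp_iff _ hκ.surjective).1 hb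
    intro y
    obtain ⟨x, hx⟩ := h1 (ρ y)
    exact ⟨x, hρ.injective hx⟩

end sq

end Groth.Agent.Lib.T2H5.BC0GlueC
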