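import Groth.Agent.Lib.T2H5BC0GlueC
set_option backward.isDefEq.respectTransparency.types false

/-!
# The degree zero base change map on sections and the Eilenberg–Watts comparison, II (helper5)

Namespace `Groth.Agent.Lib.T2H5.BC0GlueD`.

For a cartesian square `g' : X' ⟶ X`, `f' : X' ⟶ S'`, `f : X ⟶ S`, `g : S' ⟶ S`, affine opens `U ⊆ S`,
`U' ⊆ g⁻¹U` and `F` quasi-coherent on `X` with `f_* F` quasi-coherent: the base change map
`g^* f_* F ⟶ f'_* g'^* F` is bijective (surjective) on sections over `U'` iff the Eilenberg–Watts comparison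
`T(Γ(S,U)) ⊗ Γ(S',U') → T(Γ(S',U'))` of the functor `T(M) = Γ(f⁻¹U, φ^*(M~) ⊗ F|_{f⁻¹U})` on `Γ(S,U)`-modules is.
-/

set_option autoImplicit false
set_option linter.style.haveILetI false
set_option linter.unusedSectionVars false
set_option linter.unusedVariables false
universe u
open CategoryTheory CategoryTheory.Limits AlgebraicGeometry Opposite TopologicalSpace

namespace Groth.Agent.Lib.T2H5.BC0GlueD

open Groth.Agent.Lib.T2H5.T2Coh Groth.Agent.Lib.T2H9.FFGeom Groth.Agent.Helper13PullbackUnit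
  Groth.Agent.Helper13QcqsBC Groth.Agent.Helper13AffBC Groth.Agent.Helper13FlatMV
  Groth.Agent.Lib.T2H9.CechBC Groth.Agent.Lib.T2H5.BC0GlueB Groth.Agent.Lib.T2H5.BC0GlueC
  Groth.Agent.Lib.Helper6 TensorProduct Groth.Agent.Lib.T2H9.TFunGeo

section sq

variable {X S X' S' : Scheme.{u}} (f : X ⟶ S) (g : S' ⟶ S) (g' : X' ⟶ X) (f' : X' ⟶ S')
  (h : IsPullback g' f' f g) (F : X.Modules) [F.IsQuasicoherent]
  {U : S.Opens} {U' : S'.Opens} (hU : IsAffineOpen U) (hU' : IsAffineOpen U') (hle : U' ≤ g ⁻¹ᵁ U)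

include hU in
theorem lTensor_eM_bijective :
    letI := overU f (U := U)
    letI : Algebra Γ(S, U) Γ(S', U') := (g.appLE U U' hle).hom.toAlgebra
    Function.Bijective ((eM f F hU).lTensor Γ(S', U')) := by
  letI := overU f (U := U)
  letI : Algebra Γ(S, U) Γ(S', U') := (g.appLE U U' hle).hom.toAlgebra
  exact ((LinearEquiv.ofBijective (eM f F hU) (eM_bijective f F hU)).lTensor Γ(S', U')).bijective

include hU hU' in
theorem kBij_iff_ewLin :
    letI := overU f (U := U)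
    letI : Algebra Γ(S, U) Γ(S', U') := (g.appLE U U' hle).hom.toAlgebra
    KBij f g g' f' h F hle (f ⁻¹ᵁ U) le_rfl ↔
    Function.Bijective (Groth.Agent.Lib.T2H9.EW.ewLin (Groth.Agent.Lib.T2H9.EW.liftA
      (Groth.Agent.Lib.T2H5.BC0Key.TW Γ(S, U) (F.restrict (f ⁻¹ᵁ U).ι) ⊤))
      (ModuleCat.of Γ(S, U) Γ(S', U'))) := by
  letI := overU f (U := U)
  letI := overU f' (U := U')
  letI : Algebra Γ(S, U) Γ(S', U') := (g.appLE U U' hle).hom.toAlgebra
  haveI : (F.restrict (f ⁻¹ᵁ U).ι).IsQuasicoherent :=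
    Scheme.Modules.isQuasicoherent_restrictFunctor _ F
  rw [Groth.Agent.Lib.T2H5.BC0Key.ewLin_bijective_iff (gR f g g' f' h hle)
    (isPullback_gR' f g g' f' h hU hU' hle) (F.restrict (f ⁻¹ᵁ U).ι) ⊤]
  unfold KBij
  have key : (eQ f g g' f' h F hU' hle : _ → _) ∘ (kap (R := Γ(S, U)) (R' := Γ(S', U'))
      (uV (gR f g g' f' h hle) (F.restrict (f ⁻¹ᵁ U).ι) (le_refl ((gR f g g' f' h hle) ⁻¹ᵁ ⊤)))
      (uV_smul (gR f g g' f' h hle) (isPullback_gR' f g g' f' h hU hU' hle)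
        (F.restrict (f ⁻¹ᵁ U).ι) (le_refl ((gR f g g' f' h hle) ⁻¹ᵁ ⊤)))) =
      (kap (R := Γ(S, U)) (R' := Γ(S', U'))
      (uW f g' f' F (le_refl (f ⁻¹ᵁ U)) (inf_le_left : Vp g' f' U' (f ⁻¹ᵁ U) ≤ g' ⁻¹ᵁ (f ⁻¹ᵁ U))
        inf_le_right)
      (uW_smul f g g' f' h F hle le_rfl inf_le_left inf_le_right)) ∘
      ((eM f F hU).lTensor Γ(S', U')) := funext (eQ_kap f g g' f' h F hU hU' hle)
  have hQ := eQ_bijective f g g' f' h F hU' hle
  have hL := lTensor_eM_bijective f g F hU (U' := U') hle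
  constructor
  · intro hb
    have h1 : Function.Bijective ((eQ f g g' f' h F hU' hle : _ → _) ∘ (kap (R := Γ(S, U))
        (R' := Γ(S', U'))
        (uV (gR f g g' f' h hle) (F.restrict (f ⁻¹ᵁ U).ι) (le_refl ((gR f g g' f' h hle) ⁻¹ᵁ ⊤)))
        (uV_smul (gR f g g' f' h hle) (isPullback_gR' f g g' f' h hU hU' hle)
          (F.restrict (f ⁻¹ᵁ U).ι) (le_refl ((gR f g g' f' h hle) ⁻¹ᵁ ⊤))))) := by
      rw [key]
      exact hb.comp hL
    exact (Function.Bijective.of_comp_iff' hQ _).1 h1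
  · intro hb
    have h1 : Function.Bijective ((kap (R := Γ(S, U)) (R' := Γ(S', U'))
        (uW f g' f' F (le_refl (f ⁻¹ᵁ U)) (inf_le_left : Vp g' f' U' (f ⁻¹ᵁ U) ≤ g' ⁻¹ᵁ (f ⁻¹ᵁ U))
          inf_le_right)
        (uW_smul f g g' f' h F hle le_rfl inf_le_left inf_le_right)) ∘
        ((eM f F hU).lTensor Γ(S', U'))) := by
      rw [← key]
      exact hQ.comp hb
    exact (Function.Bijective.of_comp_iff _ hL).1 h1

include hU hU' in
theorem kSurj_iff_ewLin :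
    letI := overU f (U := U)
    letI : Algebra Γ(S, U) Γ(S', U') := (g.appLE U U' hle).hom.toAlgebra
    KSurj f g g' f' h F hle (f ⁻¹ᵁ U) le_rfl ↔
    Function.Surjective (Groth.Agent.Lib.T2H9.EW.ewLin (Groth.Agent.Lib.T2H9.EW.liftA
      (Groth.Agent.Lib.T2H5.BC0Key.TW Γ(S, U) (F.restrict (f ⁻¹ᵁ U).ι) ⊤))
      (ModuleCat.of Γ(S, U) Γ(S', U'))) := by
  letI := overU f (U := U)
  letI := overU f' (U := U')
  letI : Algebra Γ(S, U) Γ(S', U') := (g.appLE U U' hle).hom.toAlgebra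
  haveI : (F.restrict (f ⁻¹ᵁ U).ι).IsQuasicoherent :=
    Scheme.Modules.isQuasicoherent_restrictFunctor _ F
  rw [Groth.Agent.Lib.T2H5.BC0Key.ewLin_surjective_iff (gR f g g' f' h hle)
    (isPullback_gR' f g g' f' h hU hU' hle) (F.restrict (f ⁻¹ᵁ U).ι) ⊤]
  unfold KSurj
  have key : (eQ f g g' f' h F hU' hle : _ → _) ∘ (kap (R := Γ(S, U)) (R' := Γ(S', U'))
      (uV (gR f g g' f' h hle) (F.restrict (f ⁻¹ᵁ U).ι) (le_refl ((gR f g g' f' h hle) ⁻¹ᵁ ⊤)))
      (uV_smul (gR f g g' f' h hle) (isPullback_gR' f g g' f' h hU hU' hle)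
        (F.restrict (f ⁻¹ᵁ U).ι) (le_refl ((gR f g g' f' h hle) ⁻¹ᵁ ⊤)))) =
      (kap (R := Γ(S, U)) (R' := Γ(S', U'))
      (uW f g' f' F (le_refl (f ⁻¹ᵁ U)) (inf_le_left : Vp g' f' U' (f ⁻¹ᵁ U) ≤ g' ⁻¹ᵁ (f ⁻¹ᵁ U))
        inf_le_right)
      (uW_smul f g g' f' h F hle le_rfl inf_le_left inf_le_right)) ∘
      ((eM f F hU).lTensor Γ(S', U')) := funext (eQ_kap f g g' f' h F hU hU' hle)
  have hQ := eQ_bijective f g g' f' h F hU' hle
  have hL := lTensor_eM_bijective f g F hU (U' := U') hle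
  constructor
  · intro hb
    have h1 : Function.Surjective ((eQ f g g' f' h F hU' hle : _ → _) ∘ (kap (R := Γ(S, U))
        (R' := Γ(S', U'))
        (uV (gR f g g' f' h hle) (F.restrict (f ⁻¹ᵁ U).ι) (le_refl ((gR f g g' f' h hle) ⁻¹ᵁ ⊤)))
        (uV_smul (gR f g g' f' h hle) (isPullback_gR' f g g' f' h hU hU' hle)
          (F.restrict (f ⁻¹ᵁ U).ι) (le_refl ((gR f g g' f' h hle) ⁻¹ᵁ ⊤))))) := by
      rw [key]
      exact hb.comp hL.surjective
    intro y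
    obtain ⟨x, hx⟩ := h1 (eQ f g g' f' h F hU' hle y)
    exact ⟨x, hQ.injective hx⟩
  · intro hb
    have h1 : Function.Surjective ((kap (R := Γ(S, U)) (R' := Γ(S', U'))
        (uW f g' f' F (le_refl (f ⁻¹ᵁ U)) (inf_le_left : Vp g' f' U' (f ⁻¹ᵁ U) ≤ g' ⁻¹ᵁ (f ⁻¹ᵁ U))
          inf_le_right)
        (uW_smul f g g' f' h F hle le_rfl inf_le_left inf_le_right)) ∘
        ((eM f F hU).lTensor Γ(S', U'))) := by
      rw [← key]
      exact hQ.surjective.comp hb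
    exact Function.Surjective.of_comp h1

include hU hU' in
/-- the base change map is bijective on sections over `U'` iff the Eilenberg–Watts comparison of
`M ↦ Γ(f⁻¹U, φ^*(M~) ⊗ F)` is bijective at `Γ(S', U')` -/
theorem bcMap_app_bijective_iff_ewLin [((Scheme.Modules.pushforward f).obj F).IsQuasicoherent] :
    letI := overU f (U := U)
    letI : Algebra Γ(S, U) Γ(S', U') := (g.appLE U U' hle).hom.toAlgebra
    Function.Bijective ((bcMap f g g' f' h F).app U') ↔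
    Function.Bijective (Groth.Agent.Lib.T2H9.EW.ewLin (Groth.Agent.Lib.T2H9.EW.liftA
      (Groth.Agent.Lib.T2H5.BC0Key.TW Γ(S, U) (F.restrict (f ⁻¹ᵁ U).ι) ⊤))
      (ModuleCat.of Γ(S, U) Γ(S', U'))) :=
  (bcMap_app_bijective_iff f g g' f' h F hU hU' hle).trans
    (kBij_iff_ewLin f g g' f' h F hU hU' hle)

include hU hU' in
theorem bcMap_app_surjective_iff_ewLin [((Scheme.Modules.pushforward f).obj F).IsQuasicoherent] :
    letI := overU f (U := U)
    letI : Algebra Γ(S, U) Γ(S', U') := (g.appLE U U' hle).hom.toAlgebra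
    Function.Surjective ((bcMap f g g' f' h F).app U') ↔
    Function.Surjective (Groth.Agent.Lib.T2H9.EW.ewLin (Groth.Agent.Lib.T2H9.EW.liftA
      (Groth.Agent.Lib.T2H5.BC0Key.TW Γ(S, U) (F.restrict (f ⁻¹ᵁ U).ι) ⊤))
      (ModuleCat.of Γ(S, U) Γ(S', U'))) :=
  (bcMap_app_surjective_iff f g g' f' h F hU hU' hle).trans
    (kSurj_iff_ewLin f g g' f' h F hU hU' hle)

end sq

end Groth.Agent.Lib.T2H5.BC0GlueD
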