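import Groth.Agent.Lib.T2H5BC0GlueD
import Groth.Agent.Lib.T2H5BC0Bridge
set_option backward.isDefEq.respectTransparency.types false

/-!
# Local universal complexes for a proper morphism of finite presentation (helper5)

Namespace `Groth.Agent.Lib.T2H5.BC0GlueE`.

`BCLoc π F hV`: over an affine open `V` of the base, a complex `P` of finite free `Γ(Y, V)`-modules computing
`H^p(π⁻¹W, φ^*(M~) ⊗ F)` functorially in the `Γ(Y, W)`-module `M`, for every affine `W ⊆ V`, with vanishing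
`T`-functors in negative cohomological degree and with rank function the fibre ranks of `F`.
`nonempty_bcLoc`: existence, for `π` proper of finite presentation and `F` of finite presentation, flat over
the (arbitrary) base.
-/

set_option autoImplicit false
set_option linter.style.haveILetI false
set_option linter.unusedSectionVars false
set_option linter.unusedVariables false
universe u
open CategoryTheory CategoryTheory.Limits AlgebraicGeometry Opposite TopologicalSpace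

namespace Groth.Agent.Lib.T2H5.BC0GlueE

open Groth.Agent.Lib.T2H5.T2Coh Groth.Agent.Lib.T2H5.BC0GlueB Groth.Agent.Lib.T2H5.BC0Bridge

section Data

variable {X Y : Scheme.{u}} (π : X ⟶ Y) (F : X.Modules)

/-- a universal complex for `F` over the affine open `V` of the base -/
structure BCLoc {V : Y.Opens} (hV : IsAffineOpen V) where
  P : ChainComplex (ModuleCat.{u} Γ(Y, V)) ℤ
  hP : ∀ i, Module.Finite Γ(Y, V) (P.X i) ∧ Module.Free Γ(Y, V) (P.X i)
  pos : ∀ i : ℤ, 0 < i → ∀ M : ModuleCat.{u} Γ(Y, V), IsZero ((CohIII.TFun P i).obj M)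
  rank_eq : ∀ (y' : Y) (hy' : y' ∈ V) (p : ℕ), CohIII.fiberRank π F p y' =
    CohIII.dRank P (-(p : ℤ)) (hV.primeIdealOf ⟨y', hy'⟩)
  br : ∀ p : ℕ,
    letI := overU π (U := V)
    Nonempty (CohIII.TFun P (-(p : ℤ)) ⋙ forget₂ (ModuleCat.{u} Γ(Y, V)) AddCommGrpCat.{u} ≅
      CohIII.tensorAFunctor Γ(Y, V) (F.restrict (π ⁻¹ᵁ V).ι) ⋙
        CohIII.HAb (↑(π ⁻¹ᵁ V) : Scheme.{u}) p)
  bc : ∀ (W : Y.Opens) (hW : IsAffineOpen W) (hWV : W ≤ V) (p : ℕ),
    letI := overU π (U := W)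
    Nonempty (CohIII.TFun (CohIII.bcCx (Y.presheaf.map (homOfLE hWV).op).hom P) (-(p : ℤ)) ⋙
        forget₂ (ModuleCat.{u} Γ(Y, W)) AddCommGrpCat.{u} ≅
      CohIII.tensorAFunctor Γ(Y, W) (F.restrict (π ⁻¹ᵁ W).ι) ⋙
        CohIII.HAb (↑(π ⁻¹ᵁ W) : Scheme.{u}) p)

end Data

section Construct

variable {X Y : Scheme.{u}} (π : X ⟶ Y) [IsProper π] [LocallyOfFinitePresentation π]
  (F : X.Modules) (hfp : CohB1.IsFP F) (hfl : FlatMod.IsFlatOver π F)

include hfp hfl in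
theorem nonempty_bcLoc {V : Y.Opens} (hV : IsAffineOpen V) : Nonempty (BCLoc π F hV) := by
  haveI : F.IsQuasicoherent := Groth.Agent.Helper18Strict.isQCoh_of_isFP F hfp
  have hsq : IsPullback (π ⁻¹ᵁ V).ι (g₀ π (U := V)) π hV.fromSpec :=
    Groth.Agent.Lib.T2H9.Grauert.isPullback_g₀ π hV
  haveI : IsProper (g₀ π (U := V)) := MorphismProperty.of_isPullback hsq inferInstance
  haveI : LocallyOfFinitePresentation (g₀ π (U := V)) :=
    MorphismProperty.of_isPullback hsq inferInstance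
  let FV := (Scheme.Modules.pullback (π ⁻¹ᵁ V).ι).obj F
  have hFVfp : CohB1.IsFP FV := Groth.Agent.Helper18Strict.isFP_pullback _ F hfp
  haveI : FV.IsQuasicoherent := Groth.Agent.Helper18Strict.isQCoh_of_isFP FV hFVfp
  have hFVfl : FlatMod.IsFlatOver (g₀ π (U := V)) FV := fun x' =>
    Groth.Agent.Lib.Helper2.PullbackSec.isFlatOverAt_pullback_of_isPullback hsq F x' (hfl _)
  letI instO := overU π (U := V)
  haveI : IsProper ((↑(π ⁻¹ᵁ V) : Scheme.{u}) ↘ Spec (CommRingCat.of Γ(Y, V))) :=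
    (inferInstance : IsProper (g₀ π (U := V)))
  haveI : LocallyOfFinitePresentation ((↑(π ⁻¹ᵁ V) : Scheme.{u}) ↘ Spec (CommRingCat.of Γ(Y, V))) :=
    (inferInstance : LocallyOfFinitePresentation (g₀ π (U := V)))
  have hFVfl' : FlatMod.IsFlatOver ((↑(π ⁻¹ᵁ V) : Scheme.{u}) ↘ Spec (CommRingCat.of Γ(Y, V))) FV :=
    hFVfl
  obtain ⟨P, hP, -, hpos, h3, h4⟩ :=
    exists_chain_bridge_general Γ(Y, V) (↑(π ⁻¹ᵁ V) : Scheme.{u}) FV hFVfp hFVfl'
  refine ⟨{ P := P, hP := hP, pos := hpos, rank_eq := ?_, br := ?_, bc := ?_ }⟩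
  · intro y' hy' p
    have e1 := Groth.Agent.Lib.T2H9.FibRankBC.fiberRank_pullback hsq F p
      (hV.primeIdealOf ⟨y', hy'⟩)
    rw [hV.fromSpec_primeIdealOf ⟨y', hy'⟩] at e1
    have e4 := Groth.Agent.Lib.T2H9.FibRank.fiberRank_eq_dRank Γ(Y, V) FV P p
      (fun A' _ _ X' _ g'' hsq' => h4 A' X' g'' hsq' p) (hV.primeIdealOf ⟨y', hy'⟩)
    rw [← e1]
    exact e4
  · intro p
    obtain ⟨e⟩ := h3 p
    exact ⟨e ≪≫ Functor.isoWhiskerRight (tensorAFunctorCongr Γ(Y, V)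
      ((Scheme.Modules.restrictFunctorIsoPullback (π ⁻¹ᵁ V).ι).app F).symm) _⟩
  · intro W hW hWV p
    letI instOW := overU π (U := W)
    letI instAlg : Algebra Γ(Y, V) Γ(Y, W) := (Y.presheaf.map (homOfLE hWV).op).hom.toAlgebra
    let incl : (↑(π ⁻¹ᵁ W) : Scheme.{u}) ⟶ (↑(π ⁻¹ᵁ V) : Scheme.{u}) :=
      X.homOfLE (show π ⁻¹ᵁ W ≤ π ⁻¹ᵁ V from fun x hx => hWV hx)
    have hsqW : IsPullback incl ((↑(π ⁻¹ᵁ W) : Scheme.{u}) ↘ Spec (CommRingCat.of Γ(Y, W)))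
        ((↑(π ⁻¹ᵁ V) : Scheme.{u}) ↘ Spec (CommRingCat.of Γ(Y, V)))
        (Spec.map (CommRingCat.ofHom (algebraMap Γ(Y, V) Γ(Y, W)))) :=
      Groth.Agent.Lib.T2H5.NoethModel.isPullback_g₀_le π hV hW hWV
    obtain ⟨e⟩ := h4 Γ(Y, W) (↑(π ⁻¹ᵁ W) : Scheme.{u}) incl hsqW p
    have hincl : incl ≫ (π ⁻¹ᵁ V).ι = (π ⁻¹ᵁ W).ι := Scheme.homOfLE_ι _ _
    let ε : (Scheme.Modules.pullback incl).obj FV ≅ F.restrict (π ⁻¹ᵁ W).ι :=
      (Scheme.Modules.pullbackComp incl (π ⁻¹ᵁ V).ι).app F ≪≫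
        (Scheme.Modules.pullbackCongr hincl).app F ≪≫
        ((Scheme.Modules.restrictFunctorIsoPullback (π ⁻¹ᵁ W).ι).app F).symm
    exact ⟨e ≪≫ Functor.isoWhiskerRight (tensorAFunctorCongr Γ(Y, W) ε) _⟩

end Construct

end Groth.Agent.Lib.T2H5.BC0GlueE
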