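import Groth.Agent.Lib.T2H5NoethModelC
import Groth.Agent.Lib.T2H5LocAlg
import Groth.Agent.Lib.Helper20LocFree
import Groth.Agent.Lib.Helper14FtPts
import Groth.Agent.Lib.T2H5IdealMul
set_option backward.isDefEq.respectTransparency.types false

/-!
# Cohomology and base change near a point, over an arbitrary base (helper5)

Namespace `Groth.Agent.Lib.T2H5.LocApply`.

`π : X ⟶ Y` proper of finite presentation, `F` quasi-coherent of finite presentation, flat over `Y`
(no Noetherian hypothesis).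

* `exists_open_subsingleton`: if `h^p(y) = 0` then `y` has an open neighbourhood `U` such that
  `Γ(W, R^p π_* F) = 0` for all affine opens `W ≤ U`.
* `exists_open_finite_projective`: if `h^{p+1}(y) = 0` and (`p = 0` or `h^{p-1}(y) = 0`) then `y` has an open
  neighbourhood `U` such that `Γ(W, R^p π_* F)` is finite projective for all affine opens `W ≤ U`.
* `isZero_restrict_of_affine`, `isFinLocFree_restrict_of_affine`: the corresponding properties of the
  restriction of a quasi-coherent module to `U`.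
-/

set_option autoImplicit false
set_option linter.style.haveILetI false
set_option linter.unusedSectionVars false
set_option linter.unusedVariables false
universe u
open CategoryTheory CategoryTheory.Limits AlgebraicGeometry TopologicalSpace Opposite

namespace Groth.Agent.Lib.T2H5.LocApply

open Groth.Agent.Lib.T2H5.NoethModel Groth.Agent.Lib.T2H5.T2Coh
open Groth.Agent.Lib.Helper20.Thickening Groth.Agent.Lib.Helper20.PullbackAff

section General

variable {Y : Scheme.{u}}

theorem isUnit_res_of_le_basicOpen {V W : Y.Opens} (f : Γ(Y, V)) (hWV : W ≤ V)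
    (hW : W ≤ Y.basicOpen f) : IsUnit ((Y.presheaf.map (homOfLE hWV).op).hom f) := by
  have h1 : Y.presheaf.map (homOfLE hWV).op =
      Y.presheaf.map (homOfLE (Y.basicOpen_le f)).op ≫ Y.presheaf.map (homOfLE hW).op := by
    rw [← Functor.map_comp]
    rfl
  rw [h1]
  exact (Y.toRingedSpace.isUnit_res_basicOpen f).map (Y.presheaf.map (homOfLE hW).op).hom

/-- a quasi-coherent module whose sections over the affine opens inside `U` vanish restricts to zero on
`U` -/
theorem isZero_restrict_of_affine (G : Y.Modules) [G.IsQuasicoherent] (U : Y.Opens)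
    (h : ∀ W : Y.Opens, IsAffineOpen W → W ≤ U → Subsingleton Γ(G, W)) :
    IsZero (G.restrict U.ι) := by
  haveI : (G.restrict U.ι).IsQuasicoherent := Scheme.Modules.isQuasicoherent_restrictFunctor U.ι G
  refine Groth.Agent.Lib.T2H5.IdealMul.isZero_of_affine_cover _ Set.univ (fun x => ?_)
    (fun W' _ t => ?_)
  · obtain ⟨_, ⟨W', hW', rfl⟩, hx, -⟩ :=
      (U : Scheme.{u}).isBasis_affineOpens.exists_subset_of_mem_open (Set.mem_univ x) isOpen_univ
    exact ⟨⟨W', hW'⟩, trivial, hx⟩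
  · haveI := h (U.ι ''ᵁ W'.1) (W'.2.image_of_isOpenImmersion U.ι) (Scheme.Opens.ι_image_le U W'.1)
    exact Subsingleton.elim (α := Γ(G, U.ι ''ᵁ W'.1)) t 0

/-- a quasi-coherent module with finite projective sections over an affine open is free near every point of
that open -/
theorem exists_restrict_iso_freeMod_of_finite_projective (G : Y.Modules) [G.IsQuasicoherent]
    {W : Y.Opens} (hW : IsAffineOpen W) (hfin : Module.Finite Γ(Y, W) Γ(G, W))
    (hpr : Module.Projective Γ(Y, W) Γ(G, W)) (x : Y) (hx : x ∈ W) :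
    ∃ (D : Y.Opens) (m : ℕ), x ∈ D ∧ D ≤ W ∧
      Nonempty (G.restrict D.ι ≅ FlatMod.freeMod (D : Scheme.{u}) m) := by
  let e := ΓUEquiv hW G
  haveI : Module.Finite Γ(Y, W) ((ΓUF hW).obj G) := Module.Finite.equiv e
  haveI : Module.Projective Γ(Y, W) ((ΓUF hW).obj G) := Module.Projective.of_equiv e
  haveI : Module.FinitePresentation Γ(Y, W) ((ΓUF hW).obj G) :=
    Module.finitePresentation_of_projective _ _
  haveI : Module.Flat Γ(Y, W) ((ΓUF hW).obj G) := inferInstance
  exact Groth.Agent.Lib.Helper20.LocFree.exists_restrict_iso_freeMod G hW x hx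

/-- a quasi-coherent module with finite projective sections over the affine opens inside `U` restricts to a
finite locally free module on `U` -/
theorem isFinLocFree_restrict_of_affine (G : Y.Modules) [G.IsQuasicoherent] (U : Y.Opens)
    (h : ∀ W : Y.Opens, IsAffineOpen W → W ≤ U →
      Module.Finite Γ(Y, W) Γ(G, W) ∧ Module.Projective Γ(Y, W) Γ(G, W)) :
    FlatMod.IsFinLocFree (G.restrict U.ι) := by
  intro u
  obtain ⟨_, ⟨W, hW, rfl⟩, huW, hWU⟩ := Y.isBasis_affineOpens.exists_subset_of_mem_open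
    (show u.1 ∈ (U : Set Y) from u.2) U.2
  obtain ⟨D, m, huD, hDW, ⟨e⟩⟩ := exists_restrict_iso_freeMod_of_finite_projective G hW
    (h W hW hWU).1 (h W hW hWU).2 u.1 huW
  let U' : (U : Scheme.{u}).Opens := U.ι ⁻¹ᵁ D
  refine ⟨U', m, huD, ?_⟩
  let k : (U' : Scheme.{u}) ⟶ (D : Scheme.{u}) := IsOpenImmersion.lift D.ι (U'.ι ≫ U.ι) (by
    rintro _ ⟨x, rfl⟩
    rw [Scheme.Opens.range_ι]
    exact x.2)
  have hk : k ≫ D.ι = U'.ι ≫ U.ι := IsOpenImmersion.lift_fac _ _ _
  haveI : IsOpenImmersion k := by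
    haveI : IsOpenImmersion (k ≫ D.ι) := by
      rw [hk]
      infer_instance
    exact IsOpenImmersion.of_comp k D.ι
  exact ⟨((Scheme.Modules.restrictFunctorComp U'.ι U.ι).app G).symm ≪≫
    (Scheme.Modules.restrictFunctorCongr hk.symm ≪≫ Scheme.Modules.restrictFunctorComp k D.ι).app G ≪≫
    (Scheme.Modules.restrictFunctor k).mapIso e ≪≫
    Groth.Agent.Lib.Helper20.LocFree.restrictFreeMod k m⟩

end General

section Local

variable {X Y : Scheme.{u}} (π : X ⟶ Y) [IsProper π] [LocallyOfFinitePresentation π]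
  [HasInjectiveResolutions X.Modules] (F : X.Modules) [F.IsQuasicoherent]

/-- the sections of the higher direct images over small affine opens, from local data -/
theorem LocData.sect {y : Y} (D : LocData π F y) (W : Y.Opens) (hW : IsAffineOpen W) (hWV : W ≤ D.V)
    (p : ℕ) :
    Nonempty (Γ((Coh.Rpush π p).obj F, W) ≃ₗ[Γ(Y, W)]
      (CohIII.bcCx ((Y.presheaf.map (homOfLE hWV).op).hom.comp D.φ) D.P).homology (-(p : ℤ))) := by
  letI : (↑(π ⁻¹ᵁ W) : Scheme.{u}).Over (Spec (CommRingCat.of Γ(Y, W))) := ⟨g₀ π (U := W)⟩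
  obtain ⟨e1⟩ := Groth.Agent.Lib.T2H5.RpushSectQC.nonempty_linearEquiv π F p W hW
  obtain ⟨e2⟩ := D.hh W hW hWV p
  exact ⟨e1.trans e2⟩

theorem LocData.hP' {y : Y} (D : LocData π F y) (i : ℤ) :
    Module.Finite D.A (D.P.X i) ∧ Module.Flat D.A (D.P.X i) := by
  haveI := (D.hP i).2
  exact ⟨(D.hP i).1, inferInstance⟩

/-- vanishing of the fibre rank at `y` in degree `p` gives an element of the Noetherian model ring, not
vanishing at `y`, on whose non-vanishing locus the rank function of the local complex vanishes -/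
theorem LocData.exists_away {y : Y} (D : LocData π F y) (j : ℤ)
    (h0 : CohIII.dRank D.P j (PrimeSpectrum.comap D.φ (D.hV.primeIdealOf ⟨y, D.hy⟩)) = 0) :
    ∃ a : D.A, y ∈ Y.basicOpen (D.φ a) ∧
      ∀ x : PrimeSpectrum D.A, a ∉ x.asIdeal → CohIII.dRank D.P j x = 0 := by
  obtain ⟨a, ha, h⟩ := Groth.Agent.Lib.T2H5.LocAlg.exists_away D.P (LocData.hP' π F D) j _ h0
  refine ⟨a, ?_, h⟩
  rw [Groth.Agent.Lib.Helper14.mem_basicOpen_iff_notMem_primeIdealOf D.hV y D.hy (D.φ a)]
  exact ha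

variable (hfp : CohB1.IsFP F) (hfl : FlatMod.IsFlatOver π F)

include hfp hfl in
/-- if `h^p(y) = 0` then `Γ(W, R^p π_* F) = 0` for all small affine opens `W` near `y` -/
theorem exists_open_subsingleton (y : Y) (p : ℕ) (h0 : CohIII.fiberRank π F p y = 0) :
    ∃ U : Y.Opens, y ∈ U ∧ ∀ W : Y.Opens, IsAffineOpen W → W ≤ U →
      Subsingleton Γ((Coh.Rpush π p).obj F, W) := by
  obtain ⟨D⟩ := nonempty_locData π F hfp hfl y
  have h1 : CohIII.dRank D.P (-(p : ℤ))
      (PrimeSpectrum.comap D.φ (D.hV.primeIdealOf ⟨y, D.hy⟩)) = 0 := by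
    rw [← D.rank_eq y D.hy p]
    exact h0
  obtain ⟨a, hya, ha⟩ := LocData.exists_away π F D _ h1
  refine ⟨Y.basicOpen (D.φ a), hya, fun W hW hWU => ?_⟩
  have hWV : W ≤ D.V := hWU.trans (Y.basicOpen_le _)
  obtain ⟨e⟩ := LocData.sect π F D W hW hWV p
  have hu : IsUnit (((Y.presheaf.map (homOfLE hWV).op).hom.comp D.φ) a) :=
    isUnit_res_of_le_basicOpen (D.φ a) hWV hWU
  have hz := Groth.Agent.Lib.T2H5.LocAlg.isZero_homology_bcCx D.P (LocData.hP' π F D) _ a ha _ hu
  haveI := ModuleCat.subsingleton_of_isZero hz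
  exact e.toEquiv.subsingleton

include hfp hfl in
/-- if `h^{p+1}(y) = 0` and (`p = 0` or `h^{p-1}(y) = 0`) then `Γ(W, R^p π_* F)` is finite projective for
all small affine opens `W` near `y` -/
theorem exists_open_finite_projective (y : Y) (p : ℕ)
    (hsucc : CohIII.fiberRank π F (p + 1) y = 0)
    (hpred : ∀ q : ℕ, q + 1 = p → CohIII.fiberRank π F q y = 0) :
    ∃ U : Y.Opens, y ∈ U ∧ ∀ W : Y.Opens, IsAffineOpen W → W ≤ U →
      Module.Finite Γ(Y, W) Γ((Coh.Rpush π p).obj F, W) ∧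
        Module.Projective Γ(Y, W) Γ((Coh.Rpush π p).obj F, W) := by
  obtain ⟨D⟩ := nonempty_locData π F hfp hfl y
  have h1 : CohIII.dRank D.P (-(p : ℤ) - 1)
      (PrimeSpectrum.comap D.φ (D.hV.primeIdealOf ⟨y, D.hy⟩)) = 0 := by
    have e : (-(p : ℤ) - 1) = -((p + 1 : ℕ) : ℤ) := by push_cast; ring
    rw [e, ← D.rank_eq y D.hy (p + 1)]
    exact hsucc
  have h2 : CohIII.dRank D.P (-(p : ℤ) + 1)
      (PrimeSpectrum.comap D.φ (D.hV.primeIdealOf ⟨y, D.hy⟩)) = 0 := by
    cases p with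
    | zero => exact D.pos _ (by simp) _
    | succ q =>
      have e : (-((q + 1 : ℕ) : ℤ) + 1) = -((q : ℕ) : ℤ) := by push_cast; ring
      rw [e, ← D.rank_eq y D.hy q]
      exact hpred q rfl
  obtain ⟨a₁, hya₁, ha₁⟩ := LocData.exists_away π F D _ h1
  obtain ⟨a₂, hya₂, ha₂⟩ := LocData.exists_away π F D _ h2
  refine ⟨Y.basicOpen (D.φ (a₁ * a₂)), ?_, fun W hW hWU => ?_⟩
  · rw [map_mul, Scheme.basicOpen_mul]
    exact ⟨hya₁, hya₂⟩
  have hWV : W ≤ D.V := hWU.trans (Y.basicOpen_le _)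
  obtain ⟨e⟩ := LocData.sect π F D W hW hWV p
  have hu : IsUnit (((Y.presheaf.map (homOfLE hWV).op).hom.comp D.φ) (a₁ * a₂)) :=
    isUnit_res_of_le_basicOpen (D.φ (a₁ * a₂)) hWV hWU
  have hmem : ∀ x : PrimeSpectrum D.A, a₁ * a₂ ∉ x.asIdeal → a₁ ∉ x.asIdeal ∧ a₂ ∉ x.asIdeal :=
    fun x hx => ⟨fun h => hx (x.asIdeal.mul_mem_right _ h), fun h => hx (x.asIdeal.mul_mem_left _ h)⟩
  obtain ⟨hf, hp⟩ := Groth.Agent.Lib.T2H5.LocAlg.finite_projective_homology_bcCx D.P
    (LocData.hP' π F D) (-(p : ℤ)) (a₁ * a₂) (fun x hx => ha₂ x (hmem x hx).2)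
    (fun x hx => ha₁ x (hmem x hx).1) _ hu
  haveI := hf
  haveI := hp
  exact ⟨Module.Finite.equiv e.symm, Module.Projective.of_equiv e.symm⟩

end Local

end Groth.Agent.Lib.T2H5.LocApply
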