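import Groth.Agent.Lib.T2H9FBCSect
set_option backward.isDefEq.respectTransparency.types false

/-!
# Sections of higher direct images over an affine open: the quasi-compact quasi-separated case (helper5)

Namespace `Groth.Agent.Lib.T2H5.RpushSectQC`.

For `f : X ⟶ S` quasi-compact and quasi-separated, `M` quasi-coherent on `X` and `V` an affine open of
`S`: `Γ(V, R^p f_* M) ≃ₗ[Γ(S, V)] H^p(f⁻¹V, M|)` (`nonempty_linearEquiv`), generalising helper9's
`T2H9FBCSect` (proper over a locally Noetherian base, coherent module).  Consequences: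
`isZero_Rpush_of_cover`, `isZero_restrict_Rpush`.
-/

set_option autoImplicit false
set_option linter.style.haveILetI false
set_option linter.unusedSectionVars false
set_option linter.unusedVariables false
universe u
open CategoryTheory CategoryTheory.Limits Opposite TopologicalSpace AlgebraicGeometry Abelian

namespace Groth.Agent.Lib.T2H5.RpushSectQC

open Groth.Agent.Lib.Helper23.FLoc Groth.Agent.Lib.Helper23.AffVanish Groth.Agent.Lib.Helper6
open Groth.Agent.Lib.Helper23.FLocSch Groth.Agent.Lib.T2H5.LocQS Groth.Agent.Lib.T2H5.RpushSect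
open Groth.Agent.Lib.T2H5.RpushAffine Groth.Agent.Lib.T2H5.NatCmp Groth.Agent.Lib.T2H5.RpushQCoh
open Groth.Agent.Lib.T2H5.RpushRestr Groth.Agent.Lib.T2H5.T2Coh
open Groth.Agent.Lib.T2H9.H0Unit Groth.Agent.Lib.T2H9.FBCSect

section AffineBase

variable {U V : Scheme.{u}} (h : U ⟶ V) [QuasiCompact h] [QuasiSeparated h] [IsAffine V]
  (N : U.Modules) [N.IsQuasicoherent] (n : ℕ)

theorem top_le_preimage_top : (⊤ : U.Opens) ≤ h ⁻¹ᵁ ⊤ := le_of_eq rfl

/-- the comparison `cc` over the whole base, as an additive equivalence -/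
noncomputable def ccE :
    HE (ab' N) (n + 1) (h ⁻¹ᵁ ⊤) ≃+ (T' h N n).obj.obj (op ⊤) :=
  AddEquiv.ofBijective (cc h N n ⊤) (cc_bijective h N n ⊤ (isAffineOpen_top V))

theorem ccE_apply (α : HE (ab' N) (n + 1) (h ⁻¹ᵁ ⊤)) :
    ccE h N n α = cc h N n ⊤ α := rfl

/-- the comparison between the sections over the whole (affine) base of the abelian higher direct image and
the cohomology of the source -/
noncomputable def χ₀ : (T' h N n).obj.obj (op ⊤) →+ Coh.HH U N (n + 1) :=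
  (topL N (n + 1)).toAddMonoidHom.comp
    ((rL N (top_le_preimage_top h) (n + 1)).toAddMonoidHom.comp
      ((Groth.Agent.Lib.T2H5.RpushCoh.toMHom N (h ⁻¹ᵁ ⊤) (n + 1)).comp
        (ccE h N n).symm.toAddMonoidHom))

theorem χ₀_apply (t : (T' h N n).obj.obj (op ⊤)) :
    χ₀ h N n t = topL N (n + 1) (rL N (top_le_preimage_top h) (n + 1)
      (toM (σM N) ((ccE h N n).symm t))) := rfl

theorem χ₀_bijective : Function.Bijective (χ₀ h N n) := by
  have h1 : Function.Bijective (ccE h N n).symm := (ccE h N n).symm.bijective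
  have h2 : Function.Bijective (rL N (top_le_preimage_top h) (n + 1)) :=
    resE_bijective_of_eq (ab' N) (n + 1) (top_le_preimage_top h) rfl
  exact (topL_bijective N (n + 1)).comp (h2.comp h1)

theorem χ₀_smul (r : Γ(U, ⊤)) (t : (T' h N n).obj.obj (op ⊤)) :
    χ₀ h N n (((θr h N n r).hom.app (op ⊤)).hom t) = gt r • χ₀ h N n t := by
  obtain ⟨α, rfl⟩ := (ccE h N n).surjective t
  have h1 := cc_smul h N n ⊤ r (toM (σM N) α)
  have h3 : (ccE h N n).symm (((θr h N n r).hom.app (op ⊤)).hom (ccE h N n α)) =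
      ofM (σM N) (r • toM (σM N) α) := by
    rw [AddEquiv.symm_apply_eq]
    exact h1.symm
  rw [χ₀_apply, χ₀_apply, h3, AddEquiv.symm_apply_apply]
  have h4 : toM (σM N) (ofM (σM N) (r • toM (σM N) α)) = r • toM (σM N) α := rfl
  rw [h4, map_smul, map_smul]
  rfl

end AffineBase

section succ

variable {X S : Scheme.{u}} (f : X ⟶ S) [QuasiCompact f] [QuasiSeparated f]
  [HasInjectiveResolutions X.Modules] (M : X.Modules) [M.IsQuasicoherent] (n : ℕ)

/-- positive degrees, over the open subscheme -/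
theorem exists_equiv_restrict_succ (V : S.Opens) (hV : IsAffineOpen V) :
    ∃ E : Γ(((Coh.Rpush f (n + 1)).obj M).restrict V.ι, ⊤) ≃+
        Coh.HH (↑(f ⁻¹ᵁ V) : Scheme.{u}) (M.restrict (f ⁻¹ᵁ V).ι) (n + 1),
      ∀ (r : Γ((↑V : Scheme.{u}), ⊤)) (p : Γ(((Coh.Rpush f (n + 1)).obj M).restrict V.ι, ⊤)),
        E (r • p) = gt ((f ∣_ V).appTop.hom r) • E p := by
  haveI : IsAffine (↑V : Scheme.{u}) := hV
  haveI : QuasiCompact (f ∣_ V) :=
    MorphismProperty.of_isPullback (isPullback_morphismRestrict f V).flip inferInstance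
  haveI : QuasiSeparated (f ∣_ V) :=
    MorphismProperty.of_isPullback (isPullback_morphismRestrict f V).flip inferInstance
  haveI : (M.restrict (f ⁻¹ᵁ V).ι).IsQuasicoherent :=
    Scheme.Modules.isQuasicoherent_restrictFunctor (f ⁻¹ᵁ V).ι M
  obtain ⟨Ξ, hΞ⟩ := exists_iso_restrict f V M (n + 1)
  let Ξ' : Coh.toAb (((Coh.Rpush f (n + 1)).obj M).restrict V.ι) ≅
      T' (f ∣_ V) (M.restrict (f ⁻¹ᵁ V).ι) n := Ξ
  have hcomm : ∀ r : Γ((↑V : Scheme.{u}), ⊤),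
      Coh.smulAb (((Coh.Rpush f (n + 1)).obj M).restrict V.ι) (gt r) ≫ Ξ'.hom =
        Ξ'.hom ≫ θr (f ∣_ V) (M.restrict (f ⁻¹ᵁ V).ι) n ((f ∣_ V).appTop.hom r) := fun r => hΞ (gt r)
  have he₁ : Function.Bijective (Ξ'.hom.hom.app (op ⊤)).hom :=
    ConcreteCategory.bijective_of_isIso (Ξ'.hom.hom.app (op ⊤))
  have hsm : ∀ (r : Γ((↑V : Scheme.{u}), ⊤))
      (p : Γ(((Coh.Rpush f (n + 1)).obj M).restrict V.ι, ⊤)),
      (Ξ'.hom.hom.app (op ⊤)).hom (r • p) =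
        ((θr (f ∣_ V) (M.restrict (f ⁻¹ᵁ V).ι) n ((f ∣_ V).appTop.hom r)).hom.app (op ⊤)).hom
          ((Ξ'.hom.hom.app (op ⊤)).hom p) := by
    intro r p
    have h1 := smul_eq_of_comm _ (T' (f ∣_ V) (M.restrict (f ⁻¹ᵁ V).ι) n) Ξ'
      (fun r => θr (f ∣_ V) (M.restrict (f ⁻¹ᵁ V).ι) n ((f ∣_ V).appTop.hom r)) hcomm r ⊤ p
    have h3 : ((↑V : Scheme.{u}).presheaf.map
        (homOfLE (le_top : (⊤ : (↑V : Scheme.{u}).Opens) ≤ ⊤)).op).hom r = r := by
      have : (homOfLE (le_top : (⊤ : (↑V : Scheme.{u}).Opens) ≤ ⊤)).op =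
          𝟙 (op (⊤ : (↑V : Scheme.{u}).Opens)) := rfl
      rw [this, (↑V : Scheme.{u}).presheaf.map_id]
      rfl
    rw [h3] at h1
    rw [← h1]
    exact Groth.Agent.Lib.Lead.RpushCmp.iso_inv_hom_apply Ξ' ⊤ _
  refine ⟨AddEquiv.ofBijective ((χ₀ (f ∣_ V) (M.restrict (f ⁻¹ᵁ V).ι) n).comp
      (Ξ'.hom.hom.app (op ⊤)).hom)
    ((χ₀_bijective (f ∣_ V) (M.restrict (f ⁻¹ᵁ V).ι) n).comp he₁), fun r p => ?_⟩
  change χ₀ (f ∣_ V) (M.restrict (f ⁻¹ᵁ V).ι) n ((Ξ'.hom.hom.app (op ⊤)).hom (r • p)) = _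
  rw [hsm, χ₀_smul]
  rfl

/-- positive degrees: `Γ(V, R^{n+1} f_* M) ≃ₗ[Γ(S, V)] H^{n+1}(f⁻¹V, M|)` -/
theorem nonempty_linearEquiv_succ (V : S.Opens) (hV : IsAffineOpen V) :
    letI : (↑(f ⁻¹ᵁ V) : Scheme.{u}).Over (Spec (CommRingCat.of Γ(S, V))) := ⟨g₀ f (U := V)⟩
    Nonempty (Γ((Coh.Rpush f (n + 1)).obj M, V) ≃ₗ[Γ(S, V)]
      Coh.HH (↑(f ⁻¹ᵁ V) : Scheme.{u}) (M.restrict (f ⁻¹ᵁ V).ι) (n + 1)) := by
  letI : (↑(f ⁻¹ᵁ V) : Scheme.{u}).Over (Spec (CommRingCat.of Γ(S, V))) := ⟨g₀ f (U := V)⟩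
  obtain ⟨E, hE⟩ := exists_equiv_restrict_succ f M n V hV
  let ρ := restrictTopEquiv ((Coh.Rpush f (n + 1)).obj M) V
  refine ⟨{ (ρ.symm.trans E) with map_smul' := fun a m => ?_ }⟩
  change E (ρ.symm (a • m)) = a • E (ρ.symm m)
  have h1 : ρ.symm (a • m) = (V.topIso.inv.hom a) • ρ.symm m := by
    apply ρ.injective
    rw [AddEquiv.apply_symm_apply, restrictTopEquiv_smul, AddEquiv.apply_symm_apply]
    congr 1
    exact (ConcreteCategory.congr_hom V.topIso.inv_hom_id a).symm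
  rw [h1, hE, morphismRestrict_appTop_topIso]
  change _ = (show Coh.Γtop (↑(f ⁻¹ᵁ V) : Scheme.{u}) from
    Coh.toGlobal (g₀ f (U := V)) a) • E (ρ.symm m)
  rw [toGlobal_g₀]
  rfl

/-- `Γ(V, R^p f_* M) ≃ₗ[Γ(S, V)] H^p(f⁻¹V, M|)` for an affine open `V` -/
theorem nonempty_linearEquiv (p : ℕ) (V : S.Opens) (hV : IsAffineOpen V) :
    letI : (↑(f ⁻¹ᵁ V) : Scheme.{u}).Over (Spec (CommRingCat.of Γ(S, V))) := ⟨g₀ f (U := V)⟩
    Nonempty (Γ((Coh.Rpush f p).obj M, V) ≃ₗ[Γ(S, V)]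
      Coh.HH (↑(f ⁻¹ᵁ V) : Scheme.{u}) (M.restrict (f ⁻¹ᵁ V).ι) p) := by
  cases p with
  | zero => exact nonempty_linearEquiv_zero f M V
  | succ n => exact nonempty_linearEquiv_succ f M n V hV

/-- a higher direct image vanishes if the cohomology over the preimages of the members of an affine open
cover of the base vanishes -/
theorem isZero_Rpush_of_cover (p : ℕ) (T : Set S.affineOpens) (hT : ∀ y : S, ∃ V ∈ T, y ∈ V.1)
    (h : ∀ V ∈ T, Subsingleton (Coh.HH (↑(f ⁻¹ᵁ V.1) : Scheme.{u}) (M.restrict (f ⁻¹ᵁ V.1).ι) p)) :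
    IsZero ((Coh.Rpush f p).obj M) := by
  haveI : ((Coh.Rpush f p).obj M).IsQuasicoherent :=
    Groth.Agent.Lib.T2H5.RpushQCoh.isQuasicoherent_Rpush f M p
  refine Groth.Agent.Lib.T2H5.IdealMul.isZero_of_affine_cover _ T hT fun V hV t => ?_
  letI : (↑(f ⁻¹ᵁ V.1) : Scheme.{u}).Over (Spec (CommRingCat.of Γ(S, V.1))) := ⟨g₀ f (U := V.1)⟩
  obtain ⟨e⟩ := nonempty_linearEquiv f M p V.1 V.2
  haveI := h V hV
  exact e.injective (Subsingleton.elim _ _)

end succ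

end Groth.Agent.Lib.T2H5.RpushSectQC
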