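import Groth.Agent.Lib.T2H5BC0GlueE
import Groth.Agent.Lib.T2H5LocApply
import Groth.Agent.Lib.T2H5RpushSectQC
set_option backward.isDefEq.respectTransparency.types false

/-!
# The degree zero base change map over the good locus of a universal complex (helper5)

Namespace `Groth.Agent.Lib.T2H5.BC0GlueF`.

For a universal complex `D : BCLoc π F hV` over an affine open `V`: the good locus `D.good q` of the points of
`V` at which `opcycles_q(P)` is free is open; over an affine open `W ⊆ V` inside `D.good (-1)` the base change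
map `g^* π_* F → f'_* g'^* F` is bijective on sections over every affine open mapping into `W`.
-/

set_option autoImplicit false
set_option linter.style.haveILetI false
set_option linter.unusedSectionVars false
set_option linter.unusedVariables false
universe u
open CategoryTheory CategoryTheory.Limits AlgebraicGeometry Opposite TopologicalSpace

namespace Groth.Agent.Lib.T2H5.BC0GlueF

open Groth.Agent.Lib.T2H5.T2Coh Groth.Agent.Lib.T2H5.BC0GlueB Groth.Agent.Lib.T2H5.BC0Bridge
  Groth.Agent.Lib.T2H5.BC0GlueE Groth.Agent.Lib.T2H5.BC0Alg Groth.Agent.Lib.T2H9.EW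
  Groth.Agent.Helper13AffBC

section pts

variable {Y : Scheme.{u}} {V W : Y.Opens} (hV : IsAffineOpen V) (hW : IsAffineOpen W) (hWV : W ≤ V)

theorem fromSpec_mem (y : PrimeSpectrum Γ(Y, W)) : hW.fromSpec y ∈ W := by
  have h : hW.fromSpec y ∈ Set.range hW.fromSpec := Set.mem_range_self y
  rw [hW.range_fromSpec] at h
  exact h

theorem primeIdealOf_fromSpec (y : PrimeSpectrum Γ(Y, W)) :
    hW.primeIdealOf ⟨hW.fromSpec y, fromSpec_mem hW y⟩ = y :=
  hW.fromSpec.isOpenEmbedding.injective (hW.fromSpec_primeIdealOf ⟨hW.fromSpec y, fromSpec_mem hW y⟩)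

theorem comap_res_eq (y : PrimeSpectrum Γ(Y, W)) :
    PrimeSpectrum.comap (Y.presheaf.map (homOfLE hWV).op).hom y =
      hV.primeIdealOf ⟨hW.fromSpec y, hWV (fromSpec_mem hW y)⟩ := by
  apply hV.fromSpec.isOpenEmbedding.injective
  rw [hV.fromSpec_primeIdealOf ⟨hW.fromSpec y, hWV (fromSpec_mem hW y)⟩]
  have e := hV.map_fromSpec hW (homOfLE hWV).op
  exact congrArg (fun φ : Spec Γ(Y, W) ⟶ Y => φ y) e

end pts

section alg

variable {A : Type u} [CommRing A] (P : ChainComplex (ModuleCat.{u} A) ℤ)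

/-- if `T_1` vanishes identically then `opcycles_0` is flat -/
theorem flat_opcycles_zero_of_pos (hP : ∀ i, Module.Flat A (P.X i))
    (pos : ∀ M : ModuleCat.{u} A, IsZero ((CohIII.TFun P 1).obj M)) :
    Module.Flat A (P.opcycles 0) := by
  refine (Groth.Agent.S2410.preservesEpi_iff_flat_opcycles P hP 1 0 (by norm_num)).mp ⟨?_⟩
  intro M N f _
  exact (pos N).epi _

end alg

end Groth.Agent.Lib.T2H5.BC0GlueF

namespace Groth.Agent.Lib.T2H5.BC0GlueE

open Groth.Agent.Lib.T2H5.T2Coh Groth.Agent.Lib.T2H5.BC0GlueB Groth.Agent.Lib.T2H5.BC0Bridge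
  Groth.Agent.Lib.T2H5.BC0Alg Groth.Agent.Lib.T2H9.EW Groth.Agent.Helper13AffBC
  Groth.Agent.Lib.T2H5.BC0GlueF

section loc

variable {X Y : Scheme.{u}} {π : X ⟶ Y} {F : X.Modules} {V : Y.Opens} {hV : IsAffineOpen V}

theorem BCLoc.hP' (D : BCLoc π F hV) (i : ℤ) :
    Module.Finite Γ(Y, V) (D.P.X i) ∧ Module.Projective Γ(Y, V) (D.P.X i) := by
  haveI := (D.hP i).2
  exact ⟨(D.hP i).1, inferInstance⟩

theorem BCLoc.hPflat (D : BCLoc π F hV) (i : ℤ) : Module.Flat Γ(Y, V) (D.P.X i) := by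
  haveI := (D.hP i).2
  infer_instance

/-- the points of `V` at which `opcycles_q` of the universal complex is free -/
def BCLoc.good (D : BCLoc π F hV) (q : ℤ) : Set Y :=
  {y | ∃ hy : y ∈ V, hV.primeIdealOf ⟨y, hy⟩ ∈ Module.freeLocus Γ(Y, V) (D.P.opcycles q)}

theorem BCLoc.good_subset (D : BCLoc π F hV) (q : ℤ) : D.good q ⊆ (V : Set Y) :=
  fun _ hy => hy.1

theorem BCLoc.isOpen_good (D : BCLoc π F hV) (q : ℤ) : IsOpen (D.good q) := by
  haveI := finitePresentation_opcycles D.P D.hP' q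
  have hopen : IsOpen (Module.freeLocus Γ(Y, V) (D.P.opcycles q)) := Module.isOpen_freeLocus
  have himg : D.good q = hV.fromSpec '' (Module.freeLocus Γ(Y, V) (D.P.opcycles q)) := by
    ext y
    constructor
    · rintro ⟨hy, hmem⟩
      exact ⟨hV.primeIdealOf ⟨y, hy⟩, hmem, hV.fromSpec_primeIdealOf ⟨y, hy⟩⟩
    · rintro ⟨z, hz, rfl⟩
      have e := primeIdealOf_fromSpec hV z
      exact ⟨fromSpec_mem hV z, e.symm ▸ hz⟩
  rw [himg]
  exact hV.fromSpec.isOpenEmbedding.isOpenMap _ hopen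

/-- over an affine open inside the good locus the module of cocycles of the base changed complex is projective -/
theorem BCLoc.projective_opcycles_res (D : BCLoc π F hV) (q : ℤ) {W : Y.Opens} (hW : IsAffineOpen W)
    (hWV : W ≤ V) (hg : (W : Set Y) ⊆ D.good q) :
    Module.Projective Γ(Y, W)
      ((CohIII.bcCx (Y.presheaf.map (homOfLE hWV).op).hom D.P).opcycles q) := by
  letI instAlg : Algebra Γ(Y, V) Γ(Y, W) := (Y.presheaf.map (homOfLE hWV).op).hom.toAlgebra
  refine projective_opcycles_bcCx D.P D.hP' q Γ(Y, W) fun y => ?_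
  obtain ⟨hy, hmem⟩ := hg (fromSpec_mem hW y)
  have e := comap_res_eq hV hW hWV y
  change PrimeSpectrum.comap (Y.presheaf.map (homOfLE hWV).op).hom y ∈ _
  rw [e]
  exact hmem

theorem BCLoc.hP_res (D : BCLoc π F hV) {W : Y.Opens} (hWV : W ≤ V) (i : ℤ) :
    Module.Finite Γ(Y, W) ((CohIII.bcCx (Y.presheaf.map (homOfLE hWV).op).hom D.P).X i) ∧
      Module.Projective Γ(Y, W) ((CohIII.bcCx (Y.presheaf.map (homOfLE hWV).op).hom D.P).X i) := by
  letI instAlg : Algebra Γ(Y, V) Γ(Y, W) := (Y.presheaf.map (homOfLE hWV).op).hom.toAlgebra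
  exact hP_bcCx' D.P D.hP' Γ(Y, W) i

theorem BCLoc.hPflat_res (D : BCLoc π F hV) {W : Y.Opens} (hWV : W ≤ V) (i : ℤ) :
    Module.Flat Γ(Y, W) ((CohIII.bcCx (Y.presheaf.map (homOfLE hWV).op).hom D.P).X i) := by
  haveI := (D.hP_res hWV i).2
  infer_instance

/-- `opcycles_0` of the base changed complex is projective -/
theorem BCLoc.projective_opcycles_zero_res (D : BCLoc π F hV) {W : Y.Opens} (hWV : W ≤ V) :
    Module.Projective Γ(Y, W)
      ((CohIII.bcCx (Y.presheaf.map (homOfLE hWV).op).hom D.P).opcycles 0) := by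
  haveI := finitePresentation_opcycles (CohIII.bcCx (Y.presheaf.map (homOfLE hWV).op).hom D.P)
    (D.hP_res hWV) 0
  haveI := flat_opcycles_zero_of_pos (CohIII.bcCx (Y.presheaf.map (homOfLE hWV).op).hom D.P)
    (D.hPflat_res hWV)
    (fun M => isZero_TFun_bcCx (Y.presheaf.map (homOfLE hWV).op).hom D.P 1
      (D.pos 1 (by norm_num)) M)
  exact Module.Flat.projective_of_finitePresentation

end loc

end Groth.Agent.Lib.T2H5.BC0GlueE
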