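import Groth.Agent.Lib.T2H5BC0GlueF
set_option backward.isDefEq.respectTransparency.types false

/-!
# The degree zero base change map over the good locus of a universal complex, II (helper5)

Namespaces `Groth.Agent.Lib.T2H5.BC0GlueG` and `Groth.Agent.Lib.T2H5.BC0GlueE` (lemmas on `BCLoc`).

* `BCLoc.bcMap_app_bijective`: over an affine open `W ⊆ V` inside `D.good (-1)` the base change map
  `g^* π_* F → f'_* g'^* F` is bijective on sections over every affine open mapping into `W`.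
* `BCLoc.mem_good_of_fiberRank_eq_zero`: `h^p(y) = 0` puts `y` in `D.good (-p)`.
* `BCLoc.mem_good_of_surjective`: surjectivity of the base change map of the fibre square at `s` on global
  sections puts `s` in `D.good (-1)`.
-/

set_option autoImplicit false
set_option linter.style.haveILetI false
set_option linter.unusedSectionVars false
set_option linter.unusedVariables false
universe u
open CategoryTheory CategoryTheory.Limits AlgebraicGeometry Opposite TopologicalSpace

namespace Groth.Agent.Lib.T2H5.BC0GlueG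

theorem appLE_fromSpecResidueField {Y : Scheme.{u}} {V : Y.Opens} (s : Y) (hs : s ∈ V)
    (hle : (⊤ : (Spec (Y.residueField s)).Opens) ≤ (Y.fromSpecResidueField s) ⁻¹ᵁ V) :
    (Y.fromSpecResidueField s).appLE V ⊤ hle ≫ (Scheme.ΓSpecIso (Y.residueField s)).hom =
      Y.presheaf.germ V s hs ≫ Y.residue s := by
  have h1 : (Y.fromSpecResidueField s).appLE V ⊤ hle =
      (Y.fromSpecStalk s).app V ≫ (Spec.map (Y.residue s)).appLE ((Y.fromSpecStalk s) ⁻¹ᵁ V) ⊤ hle :=
    Scheme.Hom.comp_appLE (Spec.map (Y.residue s)) (Y.fromSpecStalk s) V ⊤ hle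
  rw [h1, Scheme.fromSpecStalk_app hs, Category.assoc, Category.assoc, Category.assoc,
    Scheme.Hom.map_appLE_assoc]
  congr 1
  have h2 : ∀ (e : (⊤ : (Spec (Y.residueField s)).Opens) ≤ (Spec.map (Y.residue s)) ⁻¹ᵁ ⊤),
      (Spec.map (Y.residue s)).appLE ⊤ ⊤ e = (Spec.map (Y.residue s)).appTop := by
    intro e
    exact Scheme.Hom.appLE_eq_app (Spec.map (Y.residue s)) (U := ⊤)
  rw [h2, Scheme.ΓSpecIso_naturality, Iso.inv_hom_id_assoc]

theorem top_le_preimage {Y : Scheme.{u}} {V : Y.Opens} (s : Y) (hs : s ∈ V) :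
    (⊤ : (Spec (Y.residueField s)).Opens) ≤ (Y.fromSpecResidueField s) ⁻¹ᵁ V := by
  intro z _
  change Y.fromSpecResidueField s z ∈ V
  rw [Scheme.fromSpecResidueField_apply]
  exact hs

/-- change of the index of a `T` functor along an equality -/
theorem nonempty_iso_of_index_eq {A : Type u} [CommRing A] (P : ChainComplex (ModuleCat.{u} A) ℤ)
    (n m : ℤ) (hn : n = m) {Z : ModuleCat.{u} A ⥤ AddCommGrpCat.{u}}
    (e : Nonempty (CohIII.TFun P n ⋙ forget₂ (ModuleCat.{u} A) AddCommGrpCat.{u} ≅ Z)) :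
    Nonempty (CohIII.TFun P m ⋙ forget₂ (ModuleCat.{u} A) AddCommGrpCat.{u} ≅ Z) := by
  subst hn
  exact e

end Groth.Agent.Lib.T2H5.BC0GlueG

namespace Groth.Agent.Lib.T2H5.BC0GlueE

open Groth.Agent.Lib.T2H5.T2Coh Groth.Agent.Lib.T2H5.BC0GlueB Groth.Agent.Lib.T2H5.BC0Bridge
  Groth.Agent.Lib.T2H5.BC0Alg Groth.Agent.Lib.T2H9.EW Groth.Agent.Helper13AffBC
  Groth.Agent.Lib.T2H5.BC0GlueF Groth.Agent.Lib.T2H5.BC0GlueG Groth.Agent.Lib.T2H5.BC0GlueC

section bij

variable {X Y : Scheme.{u}} {π : X ⟶ Y} {F : X.Modules} {V : Y.Opens} {hV : IsAffineOpen V}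

/-- the degree zero bridge over `W ⊆ V` -/
theorem BCLoc.nonempty_iso_TW (D : BCLoc π F hV) {W : Y.Opens} (hW : IsAffineOpen W) (hWV : W ≤ V) :
    letI := overU π (U := W)
    Nonempty (TAb (CohIII.bcCx (Y.presheaf.map (homOfLE hWV).op).hom D.P) 0 ≅
      Groth.Agent.Lib.T2H5.BC0Key.TW Γ(Y, W) (F.restrict (π ⁻¹ᵁ W).ι) ⊤) := by
  letI := overU π (U := W)
  obtain ⟨e⟩ := nonempty_iso_of_index_eq _ (-((0 : ℕ) : ℤ)) 0 (by norm_num) (D.bc W hW hWV 0)
  exact ⟨e ≪≫ Functor.isoWhiskerLeft _ (hAbZeroIso _)⟩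

/-- the degree zero bridge over `V` -/
theorem BCLoc.nonempty_iso_TW_self (D : BCLoc π F hV) :
    letI := overU π (U := V)
    Nonempty (TAb D.P 0 ≅
      Groth.Agent.Lib.T2H5.BC0Key.TW Γ(Y, V) (F.restrict (π ⁻¹ᵁ V).ι) ⊤) := by
  letI := overU π (U := V)
  obtain ⟨e⟩ := nonempty_iso_of_index_eq _ (-((0 : ℕ) : ℤ)) 0 (by norm_num) (D.br 0)
  exact ⟨e ≪≫ Functor.isoWhiskerLeft _ (hAbZeroIso _)⟩

theorem BCLoc.mem_good_of_fiberRank_eq_zero (D : BCLoc π F hV) (y : Y) (hy : y ∈ V) (p : ℕ)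
    (h0 : CohIII.fiberRank π F p y = 0) : y ∈ D.good (-(p : ℤ)) :=
  ⟨hy, mem_freeLocus_of_dRank_eq_zero D.P D.hP' (-(p : ℤ)) _ ((D.rank_eq y hy p).symm.trans h0)⟩

variable [F.IsQuasicoherent] [((Scheme.Modules.pushforward π).obj F).IsQuasicoherent]

/-- over an affine open `W ⊆ V` inside the good locus the base change map is bijective on the sections over
every affine open mapping into `W` -/
theorem BCLoc.bcMap_app_bijective (D : BCLoc π F hV) {W : Y.Opens} (hW : IsAffineOpen W) (hWV : W ≤ V)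
    (hg : (W : Set Y) ⊆ D.good (-1)) {X' S' : Scheme.{u}} (g : S' ⟶ Y) (g' : X' ⟶ X) (f' : X' ⟶ S')
    (h : IsPullback g' f' π g) {U' : S'.Opens} (hU' : IsAffineOpen U') (hle : U' ≤ g ⁻¹ᵁ W) :
    Function.Bijective ((bcMap π g g' f' h F).app U') := by
  letI := overU π (U := W)
  letI : Algebra Γ(Y, W) Γ(S', U') := (g.appLE W U' hle).hom.toAlgebra
  rw [Groth.Agent.Lib.T2H5.BC0GlueD.bcMap_app_bijective_iff_ewLin π g g' f' h F hW hU' hle]
  obtain ⟨e⟩ := D.nonempty_iso_TW hW hWV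
  haveI := D.projective_opcycles_res (-1) hW hWV hg
  have hfl : Module.Flat Γ(Y, W)
      ((CohIII.bcCx (Y.presheaf.map (homOfLE hWV).op).hom D.P).opcycles (-1)) := inferInstance
  exact ewLin_bijective_of_iso e _
    (ewBij_of_flat_opcycles _ (D.hPflat_res hWV) 0 (-1) (by norm_num) hfl _)

/-- surjectivity of the base change map of the fibre square at `s` on global sections puts `s` in the good
locus -/
theorem BCLoc.mem_good_of_surjective (D : BCLoc π F hV) (s : Y) (hs : s ∈ V)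
    (hsq : IsPullback (π.fiberι s) (π.fiberToSpecResidueField s) π (Y.fromSpecResidueField s))
    (hsurj : Function.Surjective ((bcMap π (Y.fromSpecResidueField s) (π.fiberι s)
      (π.fiberToSpecResidueField s) hsq F).app ⊤)) : s ∈ D.good (-1) := by
  refine ⟨hs, ?_⟩
  letI := overU π (U := V)
  have hle := top_le_preimage (V := V) s hs
  letI instAlgK : Algebra Γ(Y, V) Γ(Spec (Y.residueField s), ⊤) :=
    ((Y.fromSpecResidueField s).appLE V ⊤ hle).hom.toAlgebra
  have h1 := (Groth.Agent.Lib.T2H5.BC0GlueD.bcMap_app_surjective_iff_ewLin π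
    (Y.fromSpecResidueField s) (π.fiberι s) (π.fiberToSpecResidueField s) hsq F hV
    (isAffineOpen_top (Spec (Y.residueField s))) hle).mp hsurj
  obtain ⟨e⟩ := D.nonempty_iso_TW_self
  letI instAlgR : Algebra Γ(Y, V) (Y.presheaf.stalk s) := (Y.presheaf.germ V s hs).hom.toAlgebra
  haveI hloc : IsLocalization.AtPrime (Y.presheaf.stalk s) (hV.primeIdealOf ⟨s, hs⟩).asIdeal :=
    hV.isLocalization_stalk ⟨s, hs⟩
  let lin : Γ(Spec (Y.residueField s), ⊤) ≃ₗ[Γ(Y, V)] IsLocalRing.ResidueField (Y.presheaf.stalk s) :=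
    { toFun := fun c => (Scheme.ΓSpecIso (Y.residueField s)).hom c
      invFun := fun c => (Scheme.ΓSpecIso (Y.residueField s)).inv c
      left_inv := fun c => by
        exact congrArg (fun φ : Γ(Spec (Y.residueField s), ⊤) ⟶ Γ(Spec (Y.residueField s), ⊤) =>
          φ.hom c) (Scheme.ΓSpecIso (Y.residueField s)).hom_inv_id
      right_inv := fun c => by
        exact congrArg (fun φ : Y.residueField s ⟶ Y.residueField s =>
          φ.hom c) (Scheme.ΓSpecIso (Y.residueField s)).inv_hom_id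
      map_add' := fun a b => map_add _ a b
      map_smul' := fun a c => by
        rw [RingHom.id_apply]
        change (Scheme.ΓSpecIso (Y.residueField s)).hom
          (((Y.fromSpecResidueField s).appLE V ⊤ hle).hom a * c) = _
        rw [map_mul]
        have e1 := congrArg (fun φ : Γ(Y, V) ⟶ Y.residueField s => φ.hom a)
          (appLE_fromSpecResidueField s hs hle)
        exact congrArg (fun t => t * (Scheme.ΓSpecIso (Y.residueField s)).hom c) e1 }
  have h2 := ewLin_surjective_of_moduleIso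
    (liftA (Groth.Agent.Lib.T2H5.BC0Key.TW Γ(Y, V) (F.restrict (π ⁻¹ᵁ V).ι) ⊤)) lin.toModuleIso h1
  exact mem_freeLocus_of_ewLin_surjective D.P D.hP' (hV.primeIdealOf ⟨s, hs⟩)
    (Y.presheaf.stalk s) 0 (-1) (by norm_num) e h2

end bij

end Groth.Agent.Lib.T2H5.BC0GlueE
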