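import Groth.Agent.Lib.T2H5LocApply
import Groth.Agent.Lib.Helper1FLF1
set_option backward.isDefEq.respectTransparency.types false

/-!
# Cohomology and base change over an arbitrary base: vanishing and local freeness (helper5)

Namespace `Groth.Agent.Lib.T2H5.LocMain`.

`π : X ⟶ Y` proper of finite presentation, `F` of finite presentation, flat over `Y`, no Noetherian
hypothesis.

* `isZero_Rpush_of_fibre`: `H^p(X_y, F_y) = 0` for all `y` gives `R^p π_* F = 0`.
* `isFinLocFree_Rpush_of_adjacent`: `H^{p+1}(X_y, F_y) = 0 = H^{p-1}(X_y, F_y)` for all `y` gives `R^p π_* F`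
  finite locally free.
* `exists_open_adjacent`: the version near a point.
-/

set_option autoImplicit false
set_option linter.style.haveILetI false
set_option linter.unusedSectionVars false
set_option linter.unusedVariables false
universe u
open CategoryTheory CategoryTheory.Limits AlgebraicGeometry TopologicalSpace Opposite

namespace Groth.Agent.Lib.T2H5.LocMain

open Groth.Agent.Lib.T2H5.LocApply

variable {X Y : Scheme.{u}} (π : X ⟶ Y)

theorem fiberRank_eq_zero_of_subsingleton (F : X.Modules) (y : Y) (p : ℕ)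
    (h : Subsingleton (CohIII.fiberH π F y p)) : CohIII.fiberRank π F p y = 0 := by
  unfold CohIII.fiberRank
  exact Module.finrank_zero_of_subsingleton

variable [IsProper π] [LocallyOfFinitePresentation π] [HasInjectiveResolutions X.Modules]
  (F : X.Modules) (hfp : CohB1.IsFP F) (hfl : FlatMod.IsFlatOver π F)

include hfp hfl in
/-- **vanishing on the fibres gives vanishing of the higher direct image** (arbitrary base) -/
theorem isZero_Rpush_of_fibre (p : ℕ) (h0 : ∀ y : Y, Subsingleton (CohIII.fiberH π F y p)) :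
    IsZero ((Coh.Rpush π p).obj F) := by
  haveI : F.IsQuasicoherent := Groth.Agent.Helper18Strict.isQCoh_of_isFP F hfp
  haveI := Groth.Agent.Lib.T2H5.RpushQCoh.isQuasicoherent_Rpush π F p
  choose U hyU hU using fun y => exists_open_subsingleton π F hfp hfl y p
    (fiberRank_eq_zero_of_subsingleton π F y p (h0 y))
  refine Groth.Agent.Lib.T2H5.IdealMul.isZero_of_affine_cover _ {W | ∃ y, W.1 ≤ U y}
    (fun y => ?_) (fun W hW t => ?_)
  · obtain ⟨_, ⟨W, hW, rfl⟩, hyW, hWU⟩ := Y.isBasis_affineOpens.exists_subset_of_mem_open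
      (hyU y) (U y).2
    exact ⟨⟨W, hW⟩, ⟨y, hWU⟩, hyW⟩
  · obtain ⟨y, hy⟩ := hW
    haveI := hU y W.1 W.2 hy
    exact Subsingleton.elim _ _

include hfp hfl in
/-- near a point `y` with `H^{p+1}(X_y, F_y) = 0` and `H^{p-1}(X_y, F_y) = 0`: there is an open
neighbourhood over which `R^{p+1} π_* F` and `R^{p-1} π_* F` vanish and `R^p π_* F` is finite locally free -/
theorem exists_open_adjacent (y : Y) (p : ℕ)
    (hsucc : Subsingleton (CohIII.fiberH π F y (p + 1)))
    (hpred : ∀ q : ℕ, q + 1 = p → Subsingleton (CohIII.fiberH π F y q)) :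
    ∃ U : Y.Opens, y ∈ U ∧ IsZero (((Coh.Rpush π (p + 1)).obj F).restrict U.ι) ∧
      (∀ q : ℕ, q + 1 = p → IsZero (((Coh.Rpush π q).obj F).restrict U.ι)) ∧
      FlatMod.IsFinLocFree (((Coh.Rpush π p).obj F).restrict U.ι) := by
  haveI : F.IsQuasicoherent := Groth.Agent.Helper18Strict.isQCoh_of_isFP F hfp
  haveI := fun n => Groth.Agent.Lib.T2H5.RpushQCoh.isQuasicoherent_Rpush π F n
  obtain ⟨U₁, hy₁, h₁⟩ := exists_open_subsingleton π F hfp hfl y (p + 1)
    (fiberRank_eq_zero_of_subsingleton π F y _ hsucc)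
  obtain ⟨U₃, hy₃, h₃⟩ := exists_open_finite_projective π F hfp hfl y p
    (fiberRank_eq_zero_of_subsingleton π F y _ hsucc)
    (fun q hq => fiberRank_eq_zero_of_subsingleton π F y _ (hpred q hq))
  have hU₂ : ∃ U₂ : Y.Opens, y ∈ U₂ ∧ ∀ q : ℕ, q + 1 = p → ∀ W : Y.Opens, IsAffineOpen W → W ≤ U₂ →
      Subsingleton Γ((Coh.Rpush π q).obj F, W) := by
    cases p with
    | zero => exact ⟨⊤, trivial, fun q hq => absurd hq (Nat.succ_ne_zero q)⟩
    | succ r =>
      obtain ⟨U₂, hy₂, h₂⟩ := exists_open_subsingleton π F hfp hfl y r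
        (fiberRank_eq_zero_of_subsingleton π F y _ (hpred r rfl))
      refine ⟨U₂, hy₂, fun q hq => ?_⟩
      have : q = r := Nat.succ_injective hq
      subst this
      exact h₂
  obtain ⟨U₂, hy₂, h₂⟩ := hU₂
  refine ⟨U₁ ⊓ U₂ ⊓ U₃, ⟨⟨hy₁, hy₂⟩, hy₃⟩, ?_, ?_, ?_⟩
  · exact isZero_restrict_of_affine _ _ fun W hW hWU =>
      h₁ W hW (hWU.trans (inf_le_left.trans inf_le_left))
  · intro q hq
    exact isZero_restrict_of_affine _ _ fun W hW hWU =>
      h₂ q hq W hW (hWU.trans (inf_le_left.trans inf_le_right))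
  · exact isFinLocFree_restrict_of_affine _ _ fun W hW hWU => h₃ W hW (hWU.trans inf_le_right)

include hfp hfl in
/-- **local freeness of `R^p π_* F`** when the cohomology of the fibres vanishes in the adjacent degrees
(arbitrary base) -/
theorem isFinLocFree_Rpush_of_adjacent (p : ℕ)
    (hsucc : ∀ y : Y, Subsingleton (CohIII.fiberH π F y (p + 1)))
    (hpred : ∀ q : ℕ, q + 1 = p → ∀ y : Y, Subsingleton (CohIII.fiberH π F y q)) :
    FlatMod.IsFinLocFree ((Coh.Rpush π p).obj F) := by
  haveI : F.IsQuasicoherent := Groth.Agent.Helper18Strict.isQCoh_of_isFP F hfp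
  haveI := Groth.Agent.Lib.T2H5.RpushQCoh.isQuasicoherent_Rpush π F p
  intro y
  obtain ⟨U, hyU, hU⟩ := exists_open_finite_projective π F hfp hfl y p
    (fiberRank_eq_zero_of_subsingleton π F y _ (hsucc y))
    (fun q hq => fiberRank_eq_zero_of_subsingleton π F y _ (hpred q hq y))
  obtain ⟨_, ⟨W, hW, rfl⟩, hyW, hWU⟩ := Y.isBasis_affineOpens.exists_subset_of_mem_open hyU U.2
  obtain ⟨D, m, hyD, -, hD⟩ := exists_restrict_iso_freeMod_of_finite_projective
    ((Coh.Rpush π p).obj F) hW (hU W hW hWU).1 (hU W hW hWU).2 y hyW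
  exact ⟨D, m, hyD, hD⟩

/-- `R^0 π_* F ≅ π_* F` -/
noncomputable def rpushZeroIso {X Y : Scheme.{u}} (π : X ⟶ Y) [HasInjectiveResolutions X.Modules]
    (F : X.Modules) : (Coh.Rpush π 0).obj F ≅ (Coh.push π).obj F :=
  haveI : PreservesFiniteLimits (Scheme.Modules.pushforward π) := by
    haveI := (Scheme.Modules.pullbackPushforwardAdjunction π).rightAdjoint_preservesLimits
    infer_instance
  (Scheme.Modules.pushforward π).rightDerivedZeroIsoSelf.app F

end Groth.Agent.Lib.T2H5.LocMain
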