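import Groth.Agent.Lib.T2H5BC0GlueG
import Groth.Agent.Lib.T2H5LocMain
import Groth.Agent.Lib.T2H5RpushClosed
import Groth.Agent.Lib.Helper18PBUnit2
set_option backward.isDefEq.respectTransparency.types false

/-!
# Sections of the higher direct images from a universal complex (helper5)

Namespace `Groth.Agent.Lib.T2H5.BC0GlueE` (lemmas on `BCLoc`).

* `BCLoc.sect`: `Γ(W, R^p π_* F) ≃ₗ H_{-p}(P ⊗ Γ(Y, W))` for affine `W ⊆ V`.
* `BCLoc.finite_projective_sect`, `BCLoc.finite_projective_sect_zero`: finite projectivity of these sections over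
  affine opens inside the good loci.
-/

set_option autoImplicit false
set_option linter.style.haveILetI false
set_option linter.unusedSectionVars false
set_option linter.unusedVariables false
universe u
open CategoryTheory CategoryTheory.Limits AlgebraicGeometry Opposite TopologicalSpace

namespace Groth.Agent.Lib.T2H5.BC0GlueE

open Groth.Agent.Lib.T2H5.T2Coh Groth.Agent.Lib.T2H5.BC0GlueB Groth.Agent.Lib.T2H5.BC0Bridge
  Groth.Agent.Lib.T2H5.BC0Alg Groth.Agent.Lib.T2H9.EW Groth.Agent.Helper13AffBC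
  Groth.Agent.Lib.T2H5.BC0GlueF Groth.Agent.Lib.T2H5.BC0GlueG Groth.Agent.Lib.T2H5.BC0GlueC

section sect

variable {X Y : Scheme.{u}} {π : X ⟶ Y} {F : X.Modules} {V : Y.Opens} {hV : IsAffineOpen V}

/-- the cohomology of `F` over the preimage of an affine open `W ⊆ V` from the universal complex -/
theorem BCLoc.hh (D : BCLoc π F hV) {W : Y.Opens} (hW : IsAffineOpen W) (hWV : W ≤ V) (p : ℕ) :
    letI := overU π (U := W)
    Nonempty (Coh.HH (↑(π ⁻¹ᵁ W) : Scheme.{u}) (F.restrict (π ⁻¹ᵁ W).ι) p ≃ₗ[Γ(Y, W)]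
      (CohIII.bcCx (Y.presheaf.map (homOfLE hWV).op).hom D.P).homology (-(p : ℤ))) := by
  letI := overU π (U := W)
  obtain ⟨e⟩ := D.bc W hW hWV p
  let G := F.restrict (π ⁻¹ᵁ W).ι
  let l1 := Groth.Agent.Lib.T2H9.LenFormula.bridgeLinearEquiv Γ(Y, W) G
    (CohIII.bcCx (Y.presheaf.map (homOfLE hWV).op).hom D.P) (-(p : ℤ)) p e
    (ModuleCat.of Γ(Y, W) Γ(Y, W))
  let l2 : Coh.HH (↑(π ⁻¹ᵁ W) : Scheme.{u})
      ((CohIII.tensorAFunctor Γ(Y, W) G).obj (ModuleCat.of Γ(Y, W) Γ(Y, W))) p ≃ₗ[Γ(Y, W)]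
      Coh.HH (↑(π ⁻¹ᵁ W) : Scheme.{u}) G p :=
    Groth.Agent.Lib.T2H5.HilbPoly.hhEquiv
      (Groth.Agent.Lib.T2H9.TFunGeo.tensorAFunctorUnitIso Γ(Y, W) G) p
  let l0 := (Groth.Agent.Lib.Helper3.TUnitIso
    (CohIII.bcCx (Y.presheaf.map (homOfLE hWV).op).hom D.P) (-(p : ℤ))).toLinearEquiv
  exact ⟨((l0.symm.trans l1).trans l2).symm⟩

/-- the homology of the base changed complex is finite projective if the neighbouring modules of cocycles
are projective -/
theorem BCLoc.finite_projective_homology_res (D : BCLoc π F hV) {W : Y.Opens} (hWV : W ≤ V) (j : ℤ)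
    (h1 : Module.Projective Γ(Y, W)
      ((CohIII.bcCx (Y.presheaf.map (homOfLE hWV).op).hom D.P).opcycles j))
    (h2 : Module.Projective Γ(Y, W)
      ((CohIII.bcCx (Y.presheaf.map (homOfLE hWV).op).hom D.P).opcycles (j - 1))) :
    Module.Finite Γ(Y, W) ((CohIII.bcCx (Y.presheaf.map (homOfLE hWV).op).hom D.P).homology j) ∧
      Module.Projective Γ(Y, W)
        ((CohIII.bcCx (Y.presheaf.map (homOfLE hWV).op).hom D.P).homology j) := by
  haveI := (D.hP_res hWV (j - 1)).1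
  haveI := (D.hP_res hWV (j - 1)).2
  haveI := (D.hP_res hWV j).1
  haveI : Module.Finite Γ(Y, W)
      ((CohIII.bcCx (Y.presheaf.map (homOfLE hWV).op).hom D.P).opcycles j) :=
    Groth.Agent.Lib.Helper3.finite_opcycles _ j
  haveI := h1
  haveI := h2
  exact Groth.Agent.Lib.T2H5.LocAlg.finite_projective_homology _ j

variable [QuasiCompact π] [QuasiSeparated π] [HasInjectiveResolutions X.Modules] [F.IsQuasicoherent]

/-- the sections of the higher direct images over an affine open `W ⊆ V` from the universal complex -/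
theorem BCLoc.sect (D : BCLoc π F hV) {W : Y.Opens} (hW : IsAffineOpen W) (hWV : W ≤ V) (p : ℕ) :
    Nonempty (Γ((Coh.Rpush π p).obj F, W) ≃ₗ[Γ(Y, W)]
      (CohIII.bcCx (Y.presheaf.map (homOfLE hWV).op).hom D.P).homology (-(p : ℤ))) := by
  letI := overU π (U := W)
  obtain ⟨e1⟩ := Groth.Agent.Lib.T2H5.RpushSectQC.nonempty_linearEquiv π F p W hW
  obtain ⟨e2⟩ := D.hh hW hWV p
  exact ⟨e1.trans e2⟩

/-- `Γ(W, π_* F)` (as `Γ(W, R^0 π_* F)`) is finite projective for affine `W` inside the good locus -/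
theorem BCLoc.finite_projective_sect_zero (D : BCLoc π F hV) {W : Y.Opens} (hW : IsAffineOpen W)
    (hWV : W ≤ V) (hg : (W : Set Y) ⊆ D.good (-1)) :
    Module.Finite Γ(Y, W) Γ((Coh.Rpush π 0).obj F, W) ∧
      Module.Projective Γ(Y, W) Γ((Coh.Rpush π 0).obj F, W) := by
  obtain ⟨e⟩ := D.sect hW hWV 0
  have h0 : (-((0 : ℕ) : ℤ)) = 0 := by norm_num
  rw [h0] at e
  have h2 : Module.Projective Γ(Y, W)
      ((CohIII.bcCx (Y.presheaf.map (homOfLE hWV).op).hom D.P).opcycles (0 - 1)) := by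
    have h3 : ((0 : ℤ) - 1) = -1 := by norm_num
    rw [h3]
    exact D.projective_opcycles_res (-1) hW hWV hg
  obtain ⟨hf, hp⟩ := D.finite_projective_homology_res hWV 0
    (D.projective_opcycles_zero_res hWV) h2
  haveI := hf
  haveI := hp
  exact ⟨Module.Finite.equiv e.symm, Module.Projective.of_equiv e.symm⟩

/-- `Γ(W, R^p π_* F)` is finite projective for affine `W` inside the good loci in degrees `-p` and `-p-1` -/
theorem BCLoc.finite_projective_sect (D : BCLoc π F hV) {W : Y.Opens} (hW : IsAffineOpen W)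
    (hWV : W ≤ V) (p : ℕ) (hg1 : (W : Set Y) ⊆ D.good (-(p : ℤ)))
    (hg2 : (W : Set Y) ⊆ D.good (-(p : ℤ) - 1)) :
    Module.Finite Γ(Y, W) Γ((Coh.Rpush π p).obj F, W) ∧
      Module.Projective Γ(Y, W) Γ((Coh.Rpush π p).obj F, W) := by
  obtain ⟨e⟩ := D.sect hW hWV p
  obtain ⟨hf, hp⟩ := D.finite_projective_homology_res hWV (-(p : ℤ))
    (D.projective_opcycles_res (-(p : ℤ)) hW hWV hg1)
    (D.projective_opcycles_res (-(p : ℤ) - 1) hW hWV hg2)
  haveI := hf
  haveI := hp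
  exact ⟨Module.Finite.equiv e.symm, Module.Projective.of_equiv e.symm⟩

end sect

end Groth.Agent.Lib.T2H5.BC0GlueE
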