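import Groth.Agent.Lib.T2H5BC0GlueH
set_option backward.isDefEq.respectTransparency.types false

/-!
# Cohomology and base change in degree zero over an arbitrary base (helper5)

Namespace `Groth.Agent.Lib.T2H5.BC0Main`.

`π : X ⟶ Y` proper of finite presentation, `F` of finite presentation and flat over `Y` (no Noetherian hypothesis).
`Good π F` is the set of points of `Y` near which `opcycles_{-1}` of a universal complex is free.

* `isOpen_good`, `mem_good_of_fiberRank`, `mem_good_of_epi`: the good locus is open, contains the points `s` with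
  `H^1(X_s, F_s) = 0` and the points at which the base change map of the fibre square is an epimorphism.
* `isIso_bcMap_of_good`: the base change map of a cartesian square over `g : S' ⟶ Y` with image in the good
  locus is an isomorphism.
* `isFinLocFree_push_restrict`: `π_* F` is finite locally free over every open inside the good locus.
-/

set_option autoImplicit false
set_option linter.style.haveILetI false
set_option linter.unusedSectionVars false
set_option linter.unusedVariables false
universe u
open CategoryTheory CategoryTheory.Limits AlgebraicGeometry Opposite TopologicalSpace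

namespace Groth.Agent.Lib.T2H5.BC0Main

open Groth.Agent.Lib.T2H5.BC0GlueE Groth.Agent.Helper13AffBC

section field

/-- an epimorphism of modules over a one point scheme (e.g. the spectrum of a field) is surjective on global
sections -/
theorem surjective_app_top_of_epi {S : Scheme.{u}} [Unique S] {M N : S.Modules} (φ : M ⟶ N)
    [Epi φ] : Function.Surjective (φ.app ⊤) := by
  intro c
  let x : S := default
  obtain ⟨V, hVU, hxV, g, hg⟩ :=
    Groth.Agent.Lib.Helper4.ModEpi.exists_app_eq_of_epi φ ⊤ c x trivial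
  have hV : V = ⊤ := by
    ext y
    constructor
    · intro _
      trivial
    · intro _
      have : y = x := Subsingleton.elim y x
      rw [this]
      exact hxV
  subst hV
  refine ⟨g, hg.trans ?_⟩
  have e : (homOfLE hVU).op = 𝟙 (op (⊤ : S.Opens)) := rfl
  rw [e, CategoryTheory.Functor.map_id]
  rfl

end field

section restr

variable {Y : Scheme.{u}}

/-- a module which is free near every point of an open `U` restricts to a finite locally free module on `U` -/
theorem isFinLocFree_restrict_of_local (G : Y.Modules) (U : Y.Opens)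
    (h : ∀ u : Y, u ∈ U → ∃ (D : Y.Opens) (m : ℕ), u ∈ D ∧
      Nonempty (G.restrict D.ι ≅ FlatMod.freeMod (D : Scheme.{u}) m)) :
    FlatMod.IsFinLocFree (G.restrict U.ι) := by
  intro u
  obtain ⟨D, m, huD, ⟨e⟩⟩ := h u.1 u.2
  let U' : (U : Scheme.{u}).Opens := U.ι ⁻¹ᵁ D
  refine ⟨U', m, huD, ?_⟩
  let k : (U' : Scheme.{u}) ⟶ (D : Scheme.{u}) := IsOpenImmersion.lift D.ι (U'.ι ≫ U.ι) (by
    rintro _ ⟨x, rfl⟩
    rw [Scheme.Opens.range_ι]
    exact x.2)
  have hk : k ≫ D.ι = U'.ι ≫ U.ι := IsOpenImmersion.lift_fac _ _ _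
  haveI : IsOpenImmersion k := by
    haveI : IsOpenImmersion (k ≫ D.ι) := by
      rw [hk]
      infer_instance
    exact IsOpenImmersion.of_comp k D.ι
  exact ⟨((Scheme.Modules.restrictFunctorComp U'.ι U.ι).app G).symm ≪≫
    (Scheme.Modules.restrictFunctorCongr hk.symm ≪≫ Scheme.Modules.restrictFunctorComp k D.ι).app G ≪≫
    (Scheme.Modules.restrictFunctor k).mapIso e ≪≫
    Groth.Agent.Lib.Helper20.LocFree.restrictFreeMod k m⟩

end restr

section main

variable {X Y : Scheme.{u}} (π : X ⟶ Y) (F : X.Modules)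

/-- the good locus of `π` and `F`: the points of `Y` near which `opcycles_{-1}` of a universal complex is
free -/
def Good : Set Y :=
  {s | ∃ (V : Y.Opens) (hV : IsAffineOpen V) (D : BCLoc π F hV), s ∈ D.good (-1)}

theorem isOpen_good : IsOpen (Good π F) := by
  rw [isOpen_iff_forall_mem_open]
  rintro s ⟨V, hV, D, hs⟩
  exact ⟨D.good (-1), fun t ht => ⟨V, hV, D, ht⟩, D.isOpen_good (-1), hs⟩

variable [IsProper π] [LocallyOfFinitePresentation π]

/-- **cohomology and base change in degree zero**: the base change map of a cartesian square over a morphism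
with image in the good locus is an isomorphism -/
theorem isIso_bcMap_of_good [F.IsQuasicoherent] {X' S' : Scheme.{u}} (g : S' ⟶ Y) (g' : X' ⟶ X)
    (f' : X' ⟶ S') (h : IsPullback g' f' π g) (hgood : ∀ y : S', g y ∈ Good π F) :
    IsIso (bcMap π g g' f' h F) := by
  haveI := Groth.Agent.Lib.Helper23.QCohLocal.isQuasicoherent_pushforward π F
  let ι : Type u := {U' : S'.Opens // IsAffineOpen U' ∧ ∃ (V : Y.Opens) (hV : IsAffineOpen V)
    (D : BCLoc π F hV) (W : Y.Opens), IsAffineOpen W ∧ W ≤ V ∧ (W : Set Y) ⊆ D.good (-1) ∧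
      U' ≤ g ⁻¹ᵁ W}
  refine isIso_of_bijective_on_basis _ (fun i : ι => i.1) ?_ ?_
  · rw [Opens.isBasis_iff_nbhd]
    intro O y hyO
    obtain ⟨V, hV, D, hD⟩ := hgood y
    obtain ⟨_, ⟨W, hW, rfl⟩, hyW, hWG⟩ := Y.isBasis_affineOpens.exists_subset_of_mem_open hD
      (D.isOpen_good (-1))
    obtain ⟨U', hU', hyU', hU'le⟩ := exists_isAffineOpen_mem_and_subset (x := y)
      (U := O ⊓ g ⁻¹ᵁ W) ⟨hyO, hyW⟩
    exact ⟨U', ⟨⟨U', hU', V, hV, D, W, hW, fun x hx => D.good_subset (-1) (hWG hx), hWG,
      hU'le.trans inf_le_right⟩, rfl⟩, hyU', hU'le.trans inf_le_left⟩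
  · rintro ⟨U', hU', V, hV, D, W, hW, hWV, hWG, hle⟩
    exact D.bcMap_app_bijective hW hWV hWG g g' f' h hU' hle

variable (hfp : CohB1.IsFP F) (hfl : FlatMod.IsFlatOver π F)

include hfp hfl in
/-- vanishing of `H^1` of the fibre at `s` puts `s` in the good locus -/
theorem mem_good_of_fiberRank (s : Y) (h0 : CohIII.fiberRank π F 1 s = 0) : s ∈ Good π F := by
  obtain ⟨V, hV, hsV, -⟩ := exists_isAffineOpen_mem_and_subset (x := s) (U := ⊤) trivial
  obtain ⟨D⟩ := nonempty_bcLoc π F hfp hfl hV
  have h1 := D.mem_good_of_fiberRank_eq_zero s hsV 1 h0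
  rw [Nat.cast_one] at h1
  exact ⟨V, hV, D, h1⟩

include hfp hfl in
/-- if the base change map of the fibre square at `s` is an epimorphism then `s` is in the good locus -/
theorem mem_good_of_epi (s : Y)
    (hsq : IsPullback (π.fiberι s) (π.fiberToSpecResidueField s) π (Y.fromSpecResidueField s))
    (hepi : Epi (bcMap π (Y.fromSpecResidueField s) (π.fiberι s) (π.fiberToSpecResidueField s)
      hsq F)) : s ∈ Good π F := by
  haveI : F.IsQuasicoherent := Groth.Agent.Helper18Strict.isQCoh_of_isFP F hfp
  haveI := Groth.Agent.Lib.Helper23.QCohLocal.isQuasicoherent_pushforward π F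
  obtain ⟨V, hV, hsV, -⟩ := exists_isAffineOpen_mem_and_subset (x := s) (U := ⊤) trivial
  obtain ⟨D⟩ := nonempty_bcLoc π F hfp hfl hV
  exact ⟨V, hV, D, D.mem_good_of_surjective s hsV hsq (surjective_app_top_of_epi _)⟩

include hfp in
/-- `π_* F` is finite locally free over every open inside the good locus -/
theorem isFinLocFree_push_restrict (U : Y.Opens) (hU : (U : Set Y) ⊆ Good π F) :
    FlatMod.IsFinLocFree (((Scheme.Modules.pushforward π).obj F).restrict U.ι) := by
  haveI : F.IsQuasicoherent := Groth.Agent.Helper18Strict.isQCoh_of_isFP F hfp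
  haveI := Groth.Agent.Lib.T2H5.RpushClosed.hasInjectiveResolutions_modules X
  haveI := Groth.Agent.Lib.T2H5.RpushQCoh.isQuasicoherent_Rpush π F 0
  have key : FlatMod.IsFinLocFree (((Coh.Rpush π 0).obj F).restrict U.ι) := by
    refine isFinLocFree_restrict_of_local _ U fun u hu => ?_
    obtain ⟨V, hV, D, hD⟩ := hU hu
    obtain ⟨_, ⟨W, hW, rfl⟩, huW, hWG⟩ := Y.isBasis_affineOpens.exists_subset_of_mem_open hD
      (D.isOpen_good (-1))
    have hWV : W ≤ V := fun x hx => D.good_subset (-1) (hWG hx)
    obtain ⟨hf, hp⟩ := D.finite_projective_sect_zero hW hWV hWG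
    obtain ⟨D', m, huD', -, hiso⟩ :=
      Groth.Agent.Lib.T2H5.LocApply.exists_restrict_iso_freeMod_of_finite_projective
        ((Coh.Rpush π 0).obj F) hW hf hp u huW
    exact ⟨D', m, huD', hiso⟩
  exact Groth.Agent.Helper18PBUnit.isFinLocFree_of_iso
    ((Scheme.Modules.restrictFunctor U.ι).mapIso (Groth.Agent.Lib.T2H5.LocMain.rpushZeroIso π F)) key

end main

end Groth.Agent.Lib.T2H5.BC0Main
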