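import Groth.Agent.Lib.T2H5NoethModelC
import Groth.Agent.Lib.Helper3FlatCxRank
import Groth.Agent.S2383
import Groth.Prelude.Def_PerfAux
set_option backward.isDefEq.respectTransparency.types false

/-!
# Semicontinuity of the fibre ranks and local constancy of the Euler characteristic, arbitrary base (helper5)

Namespace `Groth.Agent.Lib.T2H5.LocSemi`.

`π : X ⟶ Y` proper of finite presentation, `F` quasi-coherent of finite presentation, flat over `Y`.

* `isOpen_fiberRank_lt`: `{y | h^p(y) < n}` is open.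
* `isLocallyConstant_eulerChar`: `y ↦ Σ_p (-1)^p h^p(y)` is locally constant.
-/

set_option autoImplicit false
set_option linter.style.haveILetI false
set_option linter.unusedSectionVars false
set_option linter.unusedVariables false
universe u
open CategoryTheory CategoryTheory.Limits AlgebraicGeometry TopologicalSpace Opposite

namespace Groth.Agent.Lib.T2H5.LocSemi

open Groth.Agent.Lib.T2H5.NoethModel Groth.Agent.Lib.Helper3 Groth.Agent.S2380

variable {X Y : Scheme.{u}} (π : X ⟶ Y) (F : X.Modules)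

/-- the point of the spectrum of the model ring attached to a point of the chart of local data -/
noncomputable def LocData.pt {y : Y} (D : LocData π F y) (y' : D.V) : PrimeSpectrum D.A :=
  PrimeSpectrum.comap D.φ (D.hV.primeIdealOf y')

theorem LocData.continuous_pt {y : Y} (D : LocData π F y) : Continuous (LocData.pt π F D) :=
  (PrimeSpectrum.continuous_comap D.φ).comp D.hV.isoSpec.hom.continuous

theorem LocData.rank_eq' {y : Y} (D : LocData π F y) (y' : D.V) (p : ℕ) :
    CohIII.fiberRank π F p y'.1 = CohIII.dRank D.P (-(p : ℤ)) (LocData.pt π F D y') :=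
  D.rank_eq y'.1 y'.2 p

theorem LocData.hPflat {y : Y} (D : LocData π F y) (i : ℤ) :
    Module.Finite D.A (D.P.X i) ∧ Module.Flat D.A (D.P.X i) := by
  haveI := (D.hP i).2
  exact ⟨(D.hP i).1, inferInstance⟩

variable [IsProper π] [LocallyOfFinitePresentation π] [F.IsQuasicoherent]
  (hfp : CohB1.IsFP F) (hfl : FlatMod.IsFlatOver π F)

include hfp hfl in
/-- **upper semicontinuity of the fibre ranks** (arbitrary base) -/
theorem isOpen_fiberRank_lt (p n : ℕ) : IsOpen {y : Y | CohIII.fiberRank π F p y < n} := by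
  rw [isOpen_iff_forall_mem_open]
  intro y hy
  obtain ⟨D⟩ := nonempty_locData π F hfp hfl y
  have husc := Groth.Agent.S2380.result D.P (LocData.hPflat π F D) (-(p : ℤ))
  have hopen : IsOpen {x : PrimeSpectrum D.A | CohIII.dRank D.P (-(p : ℤ)) x < n} :=
    (upperSemicontinuous_iff_isOpen_preimage.1 husc) n
  have hopen' := hopen.preimage (LocData.continuous_pt π F D)
  refine ⟨Subtype.val '' (LocData.pt π F D ⁻¹' {x | CohIII.dRank D.P (-(p : ℤ)) x < n}), ?_,
    D.V.2.isOpenMap_subtype_val _ hopen', ?_⟩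
  · rintro _ ⟨y', hy', rfl⟩
    show CohIII.fiberRank π F p y'.1 < n
    rw [LocData.rank_eq' π F D y' p]
    exact hy'
  · refine ⟨⟨y, D.hy⟩, ?_, rfl⟩
    show CohIII.dRank D.P (-(p : ℤ)) (LocData.pt π F D ⟨y, D.hy⟩) < n
    rw [← LocData.rank_eq' π F D ⟨y, D.hy⟩ p]
    exact hy

section euler

variable {A : Type u} [CommRing A] (P : ChainComplex (ModuleCat.{u} A) ℤ)
  (hP : ∀ i, Module.Finite A (P.X i))

omit [CommRing A] in
/-- a telescoping identity -/
theorem alt_sum (d t o : ℤ → ℤ) (H : ∀ j, d j + t (j - 1) = o j + o (j - 1)) (n : ℕ) :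
    (∑ i ∈ Finset.range (n + 1), (-1 : ℤ) ^ i * d (-(i : ℤ))) =
      o 0 + (∑ i ∈ Finset.range (n + 1), (-1 : ℤ) ^ (i + 1) * t (-(i : ℤ) - 1)) +
        (-1 : ℤ) ^ n * o (-(n : ℤ) - 1) := by
  induction n with
  | zero =>
    have h := H 0
    simp only [zero_add, Finset.sum_range_one, pow_zero, one_mul, pow_one, Nat.cast_zero, neg_zero]
    linarith
  | succ n ih =>
    rw [Finset.sum_range_succ, ih, Finset.sum_range_succ (n := n + 1)]
    have h := H (-((n + 1 : ℕ) : ℤ))
    have e : (-(n : ℤ) - 1) = -((n + 1 : ℕ) : ℤ) := by push_cast; ring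
    rw [e]
    have hpow : (-1 : ℤ) ^ (n + 1 + 1) = (-1 : ℤ) ^ n := by ring
    have hpow' : (-1 : ℤ) ^ (n + 1) = -(-1 : ℤ) ^ n := by ring
    rw [hpow, hpow']
    linear_combination (-(-1 : ℤ) ^ n) * h

include hP in
/-- partial alternating sums of the rank functions of a complex, in terms of the terms and of the modules
of cocycles -/
theorem sum_dRank (n : ℕ) (x : PrimeSpectrum A) :
    (∑ i ∈ Finset.range (n + 1), (-1 : ℤ) ^ i * (CohIII.dRank P (-(i : ℤ)) x : ℤ)) =
      (fd (P.opcycles 0) x : ℤ) +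
        (∑ i ∈ Finset.range (n + 1), (-1 : ℤ) ^ (i + 1) * (fd (P.X (-(i : ℤ) - 1)) x : ℤ)) +
        (-1 : ℤ) ^ n * (fd (P.opcycles (-(n : ℤ) - 1)) x : ℤ) :=
  alt_sum (fun j => (CohIII.dRank P j x : ℤ)) (fun j => (fd (P.X j) x : ℤ))
    (fun j => (fd (P.opcycles j) x : ℤ)) (fun j => by
      have h := dRank_add_opcycles P hP j x
      exact_mod_cast h) n

theorem dRank_eq_zero_of_isZero (j : ℤ) (hz : IsZero (P.X j)) (x : PrimeSpectrum A) :
    CohIII.dRank P j x = 0 := by
  have hz1 : IsZero ((CohIII.bcCx (algebraMap A x.asIdeal.ResidueField) P).X j) :=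
    Functor.map_isZero (ModuleCat.extendScalars (algebraMap A x.asIdeal.ResidueField)) hz
  have hz' : IsZero ((CohIII.bcCx (algebraMap A x.asIdeal.ResidueField) P).homology j) :=
    (ShortComplex.exact_iff_isZero_homology _).mp (ShortComplex.exact_of_isZero_X₂ _ hz1)
  haveI := ModuleCat.subsingleton_of_isZero hz'
  unfold CohIII.dRank
  exact Module.finrank_zero_of_subsingleton

theorem fd_opcycles_eq_zero_of_isZero (j : ℤ) (hz : IsZero (P.X j)) (x : PrimeSpectrum A) :
    fd (P.opcycles j) x = 0 := by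
  haveI : Subsingleton (P.X j) := ModuleCat.subsingleton_of_isZero hz
  haveI : Subsingleton (P.opcycles j) :=
    ((ModuleCat.epi_iff_surjective _).mp (inferInstance : Epi (P.pOpcycles j))).subsingleton
  exact Groth.Agent.S2383.fd_eq_zero_of_subsingleton _ x

theorem isLocallyConstant_fd (M : Type u) [AddCommGroup M] [Module A M] [Module.Finite A M]
    [Module.Flat A M] [Module.FinitePresentation A M] :
    IsLocallyConstant (fun x : PrimeSpectrum A => (fd M x : ℤ)) := by
  have h : (fun x : PrimeSpectrum A => (fd M x : ℤ)) =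
      (fun k : ℕ => (k : ℤ)) ∘ (Module.rankAtStalk (R := A) M) := by
    funext x
    exact congrArg _ (Groth.Agent.S2383.fd_eq_rankAtStalk M x)
  rw [h]
  exact Module.isLocallyConstant_rankAtStalk.comp _

theorem isLocallyConstant_sum {T : Type*} [TopologicalSpace T] (g : ℕ → T → ℤ)
    (hg : ∀ i, IsLocallyConstant (g i)) (n : ℕ) :
    IsLocallyConstant (fun x => ∑ i ∈ Finset.range n, g i x) := by
  induction n with
  | zero =>
    simp only [Finset.range_zero, Finset.sum_empty]
    exact (IsLocallyConstant.const (0 : ℤ) : IsLocallyConstant (fun _ : T => (0 : ℤ)))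
  | succ n ih =>
    have h : (fun x => ∑ i ∈ Finset.range (n + 1), g i x) =
        (fun x => ∑ i ∈ Finset.range n, g i x) + g n := by
      funext x
      rw [Finset.sum_range_succ]
      rfl
    rw [h]
    exact ih.add (hg n)

/-- the alternating sum of the rank functions in the degrees `≤ 0` is locally constant, for a bounded below
complex of finite free modules over a Noetherian ring whose rank function in degree `1` vanishes -/
theorem isLocallyConstant_euler [IsNoetherianRing A]
    (hPf : ∀ i, Module.Finite A (P.X i) ∧ Module.Free A (P.X i)) (N : ℕ)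
    (hb : ∀ j : ℤ, j < -(N : ℤ) → IsZero (P.X j))
    (h1 : ∀ x : PrimeSpectrum A, CohIII.dRank P 1 x = 0) :
    IsLocallyConstant (fun x : PrimeSpectrum A =>
      ∑ i ∈ Finset.range (N + 1), (-1 : ℤ) ^ i * (CohIII.dRank P (-(i : ℤ)) x : ℤ)) := by
  have hP' : ∀ i, Module.Finite A (P.X i) ∧ Module.Flat A (P.X i) := fun i => by
    haveI := (hPf i).2
    exact ⟨(hPf i).1, inferInstance⟩
  have hfin : ∀ i, Module.Finite A (P.X i) := fun i => (hPf i).1
  have hfun : (fun x : PrimeSpectrum A =>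
      ∑ i ∈ Finset.range (N + 1), (-1 : ℤ) ^ i * (CohIII.dRank P (-(i : ℤ)) x : ℤ)) =
      (fun x : PrimeSpectrum A => (fd (P.opcycles 0) x : ℤ)) +
        (fun x => ∑ i ∈ Finset.range (N + 1),
          (-1 : ℤ) ^ (i + 1) * (fd (P.X (-(i : ℤ) - 1)) x : ℤ)) := by
    funext x
    rw [sum_dRank P hfin N x,
      fd_opcycles_eq_zero_of_isZero P (-(N : ℤ) - 1) (hb (-(N : ℤ) - 1) (by omega)) x]
    simp only [Nat.cast_zero, mul_zero, add_zero, Pi.add_apply]
  rw [hfun]
  haveI hflat0 : Module.Flat A (P.opcycles 0) := by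
    have h := Groth.Agent.Lib.T2H9.FibVanish.flat_opcycles_of_dRank_eq_zero P hP' 1 h1
    have e : (1 : ℤ) - 1 = 0 := by ring
    rwa [e] at h
  haveI := hfin 0
  haveI : Module.Finite A (P.opcycles 0) := finite_opcycles P 0
  haveI : Module.FinitePresentation A (P.opcycles 0) := Module.finitePresentation_of_finite A _
  refine (isLocallyConstant_fd (P.opcycles 0)).add (isLocallyConstant_sum _ (fun i => ?_) (N + 1))
  haveI := (hP' (-(i : ℤ) - 1)).1
  haveI := (hP' (-(i : ℤ) - 1)).2
  haveI : Module.FinitePresentation A (P.X (-(i : ℤ) - 1)) := Module.finitePresentation_of_finite A _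
  have h : (fun x : PrimeSpectrum A => (-1 : ℤ) ^ (i + 1) * (fd (P.X (-(i : ℤ) - 1)) x : ℤ)) =
      (fun k : ℤ => (-1 : ℤ) ^ (i + 1) * k) ∘ (fun x => (fd (P.X (-(i : ℤ) - 1)) x : ℤ)) := rfl
  rw [h]
  exact (isLocallyConstant_fd (P.X (-(i : ℤ) - 1))).comp _

end euler

section eulerGeo

include hfp hfl in
/-- **local constancy of the Euler characteristic of the fibres** (arbitrary base) -/
theorem isLocallyConstant_eulerChar :
    IsLocallyConstant (fun y : Y => ∑ᶠ i : ℕ, (-1 : ℤ) ^ i * (CohIII.fiberRank π F i y : ℤ)) := by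
  rw [IsLocallyConstant.iff_exists_open]
  intro y
  obtain ⟨D⟩ := nonempty_locData π F hfp hfl y
  obtain ⟨b, hb⟩ := D.hb
  let N : ℕ := (-b).toNat
  have hbN : ∀ j : ℤ, j < -(N : ℤ) → IsZero (D.P.X j) := fun j hj => hb j (by
    have : (-b) ≤ ((-b).toNat : ℤ) := Int.self_le_toNat _
    omega)
  have hχ : ∀ y' : D.V, (∑ᶠ i : ℕ, (-1 : ℤ) ^ i * (CohIII.fiberRank π F i y'.1 : ℤ)) =
      ∑ i ∈ Finset.range (N + 1),
        (-1 : ℤ) ^ i * (CohIII.dRank D.P (-(i : ℤ)) (LocData.pt π F D y') : ℤ) := by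
    intro y'
    rw [finsum_eq_sum_of_support_subset (s := Finset.range (N + 1))]
    · exact Finset.sum_congr rfl fun i _ => by rw [LocData.rank_eq' π F D y' i]
    · intro i hi
      rw [Function.mem_support] at hi
      rw [Finset.coe_range, Set.mem_Iio]
      by_contra hlt
      apply hi
      rw [LocData.rank_eq' π F D y' i, dRank_eq_zero_of_isZero D.P _ (hbN _ (by omega)), Nat.cast_zero,
        mul_zero]
  have hlc := isLocallyConstant_euler D.P D.hP N hbN (D.pos 1 one_pos)
  obtain ⟨U', hU'o, hyU', hU'⟩ := (IsLocallyConstant.iff_exists_open _).1 hlc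
    (LocData.pt π F D ⟨y, D.hy⟩)
  refine ⟨Subtype.val '' (LocData.pt π F D ⁻¹' U'),
    D.V.2.isOpenMap_subtype_val _ (hU'o.preimage (LocData.continuous_pt π F D)),
    ⟨⟨y, D.hy⟩, hyU', rfl⟩, ?_⟩
  rintro _ ⟨y', hy', rfl⟩
  rw [hχ y', hχ ⟨y, D.hy⟩]
  exact hU' _ hy'

end eulerGeo

end Groth.Agent.Lib.T2H5.LocSemi
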