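import Mathlib
import Groth.Prelude
import Groth.Agent.Lib.Helper16ClosedEmb
import Groth.Agent.Lib.Helper16Flasque
set_option backward.isDefEq.respectTransparency.types false

/-!
# Tools for Grothendieck vanishing on Noetherian spaces (helper6)

Namespace `Groth.Agent.Lib.T2H6.GVTools`.  Sections-level toolkit for abelian sheaves on a topological space:

* `eq_zero_of_locally_zero`, `isZero_of_subsingleton`, `subsingleton_H_of_iso`;
* long exact sequence consequences `sub_mid`, `sub_right`, `sub_left`;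
* `free_local` : local form of the sections of the free sheaf `ℤ_U`;
* `mono_of_injective`, `sz_cokernel`;
* `subsingleton_H_of_SZ` : cohomology of a sheaf vanishing on `U` is the cohomology of a sheaf on `Uᶜ`.
-/

set_option autoImplicit false
set_option linter.unusedSectionVars false
set_option linter.unusedVariables false
universe u
open CategoryTheory CategoryTheory.Limits Opposite TopologicalSpace Abelian

namespace Groth.Agent.Lib.T2H6.GVTools

open Groth.Agent.Lib.Helper16.ClosedEmb

variable {X : TopCat.{u}}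

/-- the free abelian sheaf `ℤ_U` -/
noncomputable abbrev ZU (U : Opens X) : CohTop.Ab X := CohCx.freeSheaf (Opens.grothendieckTopology X) U

/-- the canonical section of `ℤ_U` over `U` -/
noncomputable abbrev gen (U : Opens X) : (ZU U).obj.obj (op U) := CohFree.gen (Opens.grothendieckTopology X) U

/-- a section which is locally zero is zero. -/
theorem eq_zero_of_locally_zero (F : CohTop.Ab X) {W : Opens X} (s : F.obj.obj (op W))
    (h : ∀ x ∈ W, ∃ (W' : Opens X) (hW : W' ≤ W), x ∈ W' ∧ (F.obj.map (homOfLE hW).op).hom s = 0) :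
    s = 0 := by
  choose W' hW hx hs using h
  refine TopCat.Sheaf.eq_of_locally_eq' (F := F) (fun x : W => W' x.1 x.2) W
    (fun x => homOfLE (hW x.1 x.2)) ?_ s 0 ?_
  · intro x hxW
    exact Opens.mem_iSup.2 ⟨⟨x, hxW⟩, hx x hxW⟩
  · intro x
    rw [map_zero]
    exact hs x.1 x.2

/-- a sheaf all of whose groups of sections are trivial is zero. -/
theorem isZero_of_subsingleton (F : CohTop.Ab X)
    (h : ∀ V : Opens X, Subsingleton (F.obj.obj (op V))) : IsZero F := by
  rw [IsZero.iff_id_eq_zero]
  apply Sheaf.hom_ext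
  apply NatTrans.ext
  funext V
  apply AddCommGrpCat.hom_ext
  apply AddMonoidHom.ext
  intro s
  haveI := h V.unop
  exact Subsingleton.elim _ _

theorem subsingleton_H_of_iso {F G : CohTop.Ab X} (e : F ≅ G) (p : ℕ) (h : Subsingleton (CohTop.H F p)) :
    Subsingleton (CohTop.H G p) := by
  refine subsingleton_of_forall_eq 0 fun x => ?_
  have h1 : Sheaf.H.map e.hom p (Sheaf.H.map e.inv p x) = x := by
    rw [← Sheaf.H.map_comp_apply, e.inv_hom_id, Sheaf.H.map_id_apply]
  rw [← h1, Subsingleton.elim (Sheaf.H.map e.inv p x) 0, map_zero]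

section les

variable (S : ShortComplex (CohTop.Ab X)) (hS : S.ShortExact) (p : ℕ)

include hS

theorem sub_mid (h1 : Subsingleton (CohTop.H S.X₁ p)) (h3 : Subsingleton (CohTop.H S.X₃ p)) :
    Subsingleton (CohTop.H S.X₂ p) := by
  refine subsingleton_of_forall_eq 0 fun x => ?_
  obtain ⟨y, hy⟩ := Ext.covariant_sequence_exact₂ _ hS x (Subsingleton.elim _ _)
  rw [← hy, Subsingleton.elim y 0, Ext.zero_comp]

theorem sub_right (h2 : Subsingleton (CohTop.H S.X₂ p)) (h1 : Subsingleton (CohTop.H S.X₁ (p + 1))) :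
    Subsingleton (CohTop.H S.X₃ p) := by
  refine subsingleton_of_forall_eq 0 fun x => ?_
  obtain ⟨y, hy⟩ := Ext.covariant_sequence_exact₃ _ hS x rfl (Subsingleton.elim _ _)
  rw [← hy, Subsingleton.elim y 0, Ext.zero_comp]

theorem sub_left (h3 : Subsingleton (CohTop.H S.X₃ p)) (h2 : Subsingleton (CohTop.H S.X₂ (p + 1))) :
    Subsingleton (CohTop.H S.X₁ (p + 1)) := by
  refine subsingleton_of_forall_eq 0 fun x => ?_
  obtain ⟨y, hy⟩ := Ext.covariant_sequence_exact₁ _ hS x (Subsingleton.elim _ _) rfl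
  rw [← hy, Subsingleton.elim y 0, Ext.zero_comp]

end les

section free

variable (U : Opens X)

theorem freeAb_eq_zsmul {α : Type u} [Subsingleton α] (a₀ : α) (p : FreeAbelianGroup α) :
    ∃ z : ℤ, p = z • FreeAbelianGroup.of a₀ := by
  induction p using FreeAbelianGroup.induction_on with
  | zero => exact ⟨0, (zero_smul _ _).symm⟩
  | of a => exact ⟨1, by rw [one_smul, Subsingleton.elim a a₀]⟩
  | neg a ih =>
    obtain ⟨z, hz⟩ := ih
    exact ⟨-z, by rw [hz, neg_smul]⟩
  | add a b ha hb =>
    obtain ⟨z, hz⟩ := ha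
    obtain ⟨w, hw⟩ := hb
    exact ⟨z + w, by rw [hz, hw, add_smul]⟩

theorem freeAb_eq_zero {α : Type u} [IsEmpty α] (p : FreeAbelianGroup α) : p = 0 := by
  induction p using FreeAbelianGroup.induction_on with
  | zero => rfl
  | of a => exact (IsEmpty.false a).elim
  | neg a ih => exact (IsEmpty.false a).elim
  | add a b ha hb => rw [ha, hb, add_zero]

/-- local form of the sections of `ℤ_U`: locally either zero (on opens not contained in `U`) or an integer
multiple of the canonical section. -/
theorem free_local {W : Opens X} (a : (ZU U).obj.obj (op W)) (x : X) (hx : x ∈ W) :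
    ∃ (W' : Opens X) (hW : W' ≤ W), x ∈ W' ∧
      ((¬ W' ≤ U ∧ ((ZU U).obj.map (homOfLE hW).op).hom a = 0) ∨
        ∃ (hU : W' ≤ U) (z : ℤ), ((ZU U).obj.map (homOfLE hW).op).hom a =
          z • ((ZU U).obj.map (homOfLE hU).op).hom (gen U)) := by
  have hls : TopCat.Presheaf.IsLocallySurjective
      (toSheafify (Opens.grothendieckTopology X) (CohFree.freePre (C := Opens X) U)) :=
    inferInstanceAs (Presheaf.IsLocallySurjective (Opens.grothendieckTopology X)
      (toSheafify (Opens.grothendieckTopology X) (CohFree.freePre (C := Opens X) U)))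
  obtain ⟨W', hW, ⟨p, hp⟩, hxW'⟩ := (TopCat.Presheaf.isLocallySurjective_iff _).1 hls W a x hx
  refine ⟨W', hW, hxW', ?_⟩
  by_cases hU : W' ≤ U
  · right
    haveI : Subsingleton (W' ⟶ U) := inferInstance
    obtain ⟨z, hz⟩ := freeAb_eq_zsmul (homOfLE hU) p
    refine ⟨hU, z, ?_⟩
    have h1 := CohFree.unit_app_of (Opens.grothendieckTopology X) U (T := op W') (homOfLE hU)
    subst hz
    refine hp.symm.trans ?_
    exact (map_zsmul (ConcreteCategory.hom ((toSheafify (Opens.grothendieckTopology X)
      (CohFree.freePre (C := Opens X) U)).app (op W'))) z _).trans (congrArg (z • ·) h1)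
  · left
    haveI : IsEmpty (W' ⟶ U) := ⟨fun f => hU (leOfHom f)⟩
    refine ⟨hU, hp.symm.trans ?_⟩
    have h0 := freeAb_eq_zero p
    subst h0
    exact map_zero (ConcreteCategory.hom ((toSheafify (Opens.grothendieckTopology X)
      (CohFree.freePre (C := Opens X) U)).app (op W')))

end free

/-- a morphism of sheaves injective on all sections is a monomorphism. -/
theorem mono_of_injective {F G : CohTop.Ab X} (f : F ⟶ G)
    (h : ∀ V : Opens X, Function.Injective (f.hom.app (op V)).hom) : Mono f := by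
  haveI : ∀ V, Mono (f.hom.app V) := fun V =>
    (AddCommGrpCat.mono_iff_injective _).2 (h V.unop)
  haveI : Mono f.hom := NatTrans.mono_of_mono_app _
  exact Sheaf.Hom.mono_of_presheaf_mono _ _ f

theorem map_comp_apply (F : CohTop.Ab X) {A B C : Opens X} (h1 : B ≤ A) (h2 : C ≤ B) (s : F.obj.obj (op A)) :
    (F.obj.map (homOfLE h2).op).hom ((F.obj.map (homOfLE h1).op).hom s) =
      (F.obj.map (homOfLE (h2.trans h1)).op).hom s := by
  have : (homOfLE h1).op ≫ (homOfLE h2).op = (homOfLE (h2.trans h1)).op := rfl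
  rw [← this, F.obj.map_comp]
  rfl

theorem naturality_apply {F G : CohTop.Ab X} (f : F ⟶ G) {A B : Opens X} (h : B ≤ A) (s : F.obj.obj (op A)) :
    (f.hom.app (op B)).hom ((F.obj.map (homOfLE h).op).hom s) =
      (G.obj.map (homOfLE h).op).hom ((f.hom.app (op A)).hom s) :=
  ConcreteCategory.congr_hom (f.hom.naturality (homOfLE h).op) s

/-- if every section of `B` over opens inside `V` locally comes from `A`, the cokernel vanishes on `V`. -/
theorem sz_cokernel {A B : CohTop.Ab X} (f : A ⟶ B) (V : Opens X)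
    (h : ∀ (W : Opens X), W ≤ V → ∀ (b : B.obj.obj (op W)) (x : X), x ∈ W →
      ∃ (W' : Opens X) (hW : W' ≤ W), x ∈ W' ∧ ∃ a : A.obj.obj (op W'),
        (f.hom.app (op W')).hom a = (B.obj.map (homOfLE hW).op).hom b) :
    SZ V (cokernel f) := by
  intro W hWV
  refine subsingleton_of_forall_eq 0 fun t => ?_
  refine eq_zero_of_locally_zero _ t fun x hx => ?_
  obtain ⟨W₁, hW₁, ⟨b, hb⟩, hx₁⟩ := (locSurj_iff (cokernel.π f)).1 inferInstance W t x hx
  obtain ⟨W₂, hW₂, hx₂, a, ha⟩ := h W₁ (hW₁.trans hWV) b x hx₁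
  refine ⟨W₂, hW₂.trans hW₁, hx₂, ?_⟩
  have e1 : ((cokernel f).obj.map (homOfLE (hW₂.trans hW₁)).op).hom t =
      ((cokernel.π f).hom.app (op W₂)).hom ((B.obj.map (homOfLE hW₂).op).hom b) := by
    rw [naturality_apply, ← map_comp_apply _ hW₁ hW₂]
    exact congrArg _ hb.symm
  rw [e1, ← ha]
  have hc : f ≫ cokernel.π f = 0 := cokernel.condition f
  exact congrArg (fun m : A ⟶ cokernel f => (m.hom.app (op W₂)).hom a) hc

/-- cohomology of a sheaf vanishing on `U` is computed on the closed complement. -/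
theorem subsingleton_H_of_SZ (U : Opens X) (G : CohTop.Ab X) (hG : SZ U G) (p : ℕ)
    (h : ∀ G' : CohTop.Ab (TopCat.of ((U : Set X)ᶜ : Set X)), Subsingleton (CohTop.H G' p)) :
    Subsingleton (CohTop.H G p) := by
  obtain ⟨e⟩ := nonempty_H_push (iZ U) (hiZ U) (toZ U G hG) p
  have h1 : Subsingleton (CohTop.H ((CohTop.push (iZ U)).obj (toZ U G hG)) p) :=
    (e.symm.toEquiv.subsingleton_congr).2 (h _)
  exact subsingleton_H_of_iso (asIso (θ U G hG)) p h1

theorem subsingleton_H_of_SZ_top (G : CohTop.Ab X) (hG : SZ (⊤ : Opens X) G) (p : ℕ) :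
    Subsingleton (CohTop.H G p) :=
  Sheaf.subsingleton_H_of_isZero (isZero_of_subsingleton G fun V => hG V le_top) p


end Groth.Agent.Lib.T2H6.GVTools
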