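import Mathlib
import Groth.Prelude
import Groth.Agent.Lib.T2H6GVTools
import Groth.Agent.Lib.Helper9HTerminal
import Groth.Agent.Lib.Helper9TopColim
set_option backward.isDefEq.respectTransparency.types false

/-!
# Grothendieck vanishing: reduction to quotients of the free sheaves `ℤ_U` (helper6)

Namespace `Groth.Agent.Lib.T2H6.GVGen`.

`vanishing_of_quotients` : on a Noetherian space, if `H^p(X, Q) = 0` for every quotient `Q` of a free sheaf `ℤ_U`,
then `H^p(X, F) = 0` for every abelian sheaf `F`.
-/

set_option autoImplicit false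
set_option linter.unusedSectionVars false
set_option linter.unusedVariables false
universe u
open CategoryTheory CategoryTheory.Limits Opposite TopologicalSpace Abelian ZeroObject

namespace Groth.Agent.Lib.T2H6.GVGen

open Groth.Agent.Lib.Helper16.ClosedEmb Groth.Agent.Lib.T2H6.GVTools

variable {X : TopCat.{u}} (F : CohTop.Ab X)

/-- local sections of `F` -/
abbrev Sec : Type u := Σ U : Opens X, F.obj.obj (op U)

/-- the morphism `ℤ_U ⟶ F` attached to a local section -/
noncomputable def φ (s : Sec F) : ZU s.1 ⟶ F := CohFree.ofSect (Opens.grothendieckTopology X) s.1 F s.2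

theorem φ_gen (s : Sec F) : ((φ F s).hom.app (op s.1)).hom (gen s.1) = s.2 :=
  CohFree.evalGen_ofSect (Opens.grothendieckTopology X) s.1 F s.2

/-- finite direct sums of free sheaves -/
noncomputable def bigZ : List (Sec F) → CohTop.Ab X
  | [] => 0
  | s :: l => ZU s.1 ⊞ bigZ l

/-- the map from the direct sum to `F` -/
noncomputable def desc : (l : List (Sec F)) → (bigZ F l ⟶ F)
  | [] => 0
  | s :: l => biprod.desc (φ F s) (desc l)

theorem exists_incl (l : List (Sec F)) (s : Sec F) (hs : s ∈ l) :
    ∃ ι : ZU s.1 ⟶ bigZ F l, ι ≫ desc F l = φ F s := by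
  induction l with
  | nil => exact absurd hs (List.not_mem_nil)
  | cons t l ih =>
    rcases List.mem_cons.1 hs with rfl | h
    · exact ⟨biprod.inl, biprod.inl_desc _ _⟩
    · obtain ⟨ι, hι⟩ := ih h
      refine ⟨ι ≫ biprod.inr, ?_⟩
      change (ι ≫ biprod.inr) ≫ biprod.desc (φ F t) (desc F l) = _
      rw [Category.assoc, biprod.inr_desc, hι]

theorem factors_desc (T : Subobject F) (l : List (Sec F)) (h : ∀ s ∈ l, T.Factors (φ F s)) :
    T.Factors (desc F l) := by
  induction l with
  | nil => exact Subobject.factors_zero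
  | cons t l ih =>
    have h1 := h t (List.mem_cons_self)
    have h2 := ih fun s hs => h s (List.mem_cons_of_mem _ hs)
    have : biprod.desc (T.factorThru _ h1) (T.factorThru _ h2) ≫ T.arrow = desc F (t :: l) := by
      change _ = biprod.desc (φ F t) (desc F l)
      apply biprod.hom_ext'
      · rw [biprod.inl_desc_assoc, biprod.inl_desc, Subobject.factorThru_arrow]
      · rw [biprod.inr_desc_assoc, biprod.inr_desc, Subobject.factorThru_arrow]
    rw [← this]
    exact Subobject.factors_comp_arrow _

/-- the subsheaf generated by a finite list of sections -/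
noncomputable def Fsub (l : List (Sec F)) : Subobject F := imageSubobject (desc F l)

theorem Fsub_mono {l l' : List (Sec F)} (h : l ⊆ l') : Fsub F l ≤ Fsub F l' := by
  have hf : (Fsub F l').Factors (desc F l) := by
    refine factors_desc F _ l fun s hs => ?_
    obtain ⟨ι, hι⟩ := exists_incl F l' s (h hs)
    rw [← hι]
    exact imageSubobject_factors_comp_self _ _
  exact imageSubobject_le (desc F l) ((Fsub F l').factorThru _ hf) (Subobject.factorThru_arrow _ _ hf)

/-- quotients of finite direct sums of free sheaves have vanishing cohomology. -/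
theorem quot_vanish (p : ℕ)
    (h : ∀ (U : Opens X) (Q : CohTop.Ab X) (π : ZU U ⟶ Q), Epi π → Subsingleton (CohTop.H Q p)) :
    ∀ (l : List (Sec F)) (G : CohTop.Ab X) (g : bigZ F l ⟶ G), Epi g → Subsingleton (CohTop.H G p) := by
  intro l
  induction l with
  | nil =>
    intro G g hg
    haveI := hg
    have hz : IsZero G := IsZero.of_epi g (show IsZero (0 : CohTop.Ab X) from isZero_zero _)
    exact Sheaf.subsingleton_H_of_isZero hz p
  | cons s l ih =>
    intro G g hg
    haveI := hg
    change ZU s.1 ⊞ bigZ F l ⟶ G at g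
    set b : bigZ F l ⟶ G := biprod.inr ≫ g with hb
    have h1 : Subsingleton (CohTop.H (Limits.image b) p) := ih _ (factorThruImage b) inferInstance
    set m : Limits.image b ⟶ G := Limits.image.ι b with hm
    let S : ShortComplex (CohTop.Ab X) := ShortComplex.mk m (cokernel.π m) (cokernel.condition m)
    have hS : S.ShortExact :=
      { exact := ShortComplex.exact_cokernel m
        mono_f := inferInstanceAs (Mono m)
        epi_g := inferInstanceAs (Epi (cokernel.π m)) }
    have hπ : Epi (biprod.inl ≫ g ≫ cokernel.π m) := by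
      refine Preadditive.epi_of_cancel_zero _ fun {T} t ht => ?_
      have h0 : (g ≫ cokernel.π m) ≫ t = 0 := by
        apply biprod.hom_ext'
        · rw [comp_zero, ← ht]
          simp only [Category.assoc]
        · rw [comp_zero]
          have : biprod.inr ≫ g = factorThruImage b ≫ m := (Limits.image.fac b).symm
          rw [← Category.assoc, ← Category.assoc, this]
          simp only [Category.assoc]
          rw [cokernel.condition_assoc, zero_comp, comp_zero]
      haveI : Epi g := hg
      haveI : Epi (g ≫ cokernel.π m) := epi_comp g (cokernel.π m)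
      exact zero_of_epi_comp (g ≫ cokernel.π m) h0
    have h3 : Subsingleton (CohTop.H (cokernel m) p) := h s.1 _ _ hπ
    exact sub_mid S hS p h1 h3

/-- the index category: finite lists of sections, ordered by inclusion -/
structure Idx where
  l : List (Sec F)

instance : Preorder (Idx F) where
  le a b := a.l ⊆ b.l
  le_refl a := List.Subset.refl _
  le_trans a b c h1 h2 := List.Subset.trans h1 h2

instance : Nonempty (Idx F) := ⟨⟨[]⟩⟩

instance : IsDirected (Idx F) (· ≤ ·) :=
  ⟨fun a b => ⟨⟨a.l ++ b.l⟩, List.subset_append_left _ _, List.subset_append_right _ _⟩⟩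

theorem Fsub_monotone : Monotone (fun a : Idx F => Fsub F a.l) := fun _ _ h => Fsub_mono F h

/-- the filtered system of finitely generated subsheaves -/
noncomputable def Φ : Idx F ⥤ MonoOver F := (Fsub_monotone F).functor ⋙ Subobject.representative

/-- the underlying diagram of sheaves -/
noncomputable abbrev D : Idx F ⥤ CohTop.Ab X := Φ F ⋙ MonoOver.forget F ⋙ Over.forget F

/-- the cocone over `F` -/
noncomputable def coconeF : Cocone (D F) where
  pt := F
  ι := { app := fun a => ((Φ F).obj a).obj.hom
         naturality := fun a b f => by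
           simp only [Functor.const_obj_obj, Functor.const_obj_map, Category.comp_id]
           exact MonoOver.w ((Φ F).map f) }

/-- the comparison from the colimit to `F` -/
noncomputable def cmp : colimit (D F) ⟶ F := colimit.desc (D F) (coconeF F)

theorem ι_cmp (a : Idx F) : colimit.ι (D F) a ≫ cmp F = ((Φ F).obj a).obj.hom :=
  colimit.ι_desc _ _

instance mono_cmp : Mono (cmp F) :=
  IsGrothendieckAbelian.mono_of_isColimit_monoOver (Φ F) (colimit.isColimit (D F)) (cmp F) (ι_cmp F)

instance epi_cmp : Epi (cmp F) := by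
  rw [locSurj_iff]
  intro V t x hx
  refine ⟨V, le_rfl, ?_, hx⟩
  let s : Sec F := ⟨V, t⟩
  let a : Idx F := ⟨[s]⟩
  obtain ⟨ι, hι⟩ := exists_incl F a.l s (List.mem_singleton_self s)
  let ιa : Subobject.underlying.obj (imageSubobject (desc F a.l)) ⟶ colimit (D F) := colimit.ι (D F) a
  have h1 : ιa ≫ cmp F = (imageSubobject (desc F a.l)).arrow :=
    (ι_cmp F a).trans (Subobject.representative_arrow _)
  let κ : ZU V ⟶ colimit (D F) := (ι ≫ factorThruImageSubobject (desc F a.l)) ≫ ιa
  have hκ : κ ≫ cmp F = φ F s := by
    calc κ ≫ cmp F = (ι ≫ factorThruImageSubobject (desc F a.l)) ≫ (ιa ≫ cmp F) := Category.assoc _ _ _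
      _ = (ι ≫ factorThruImageSubobject (desc F a.l)) ≫ (imageSubobject (desc F a.l)).arrow := by rw [h1]
      _ = ι ≫ desc F a.l := by rw [Category.assoc, imageSubobject_arrow_comp]
      _ = φ F s := hι
  refine ⟨(κ.hom.app (op V)).hom (gen V), ?_⟩
  have e1 : ((cmp F).hom.app (op V)).hom ((κ.hom.app (op V)).hom (gen V)) =
      (((κ ≫ cmp F)).hom.app (op V)).hom (gen V) := rfl
  rw [e1, hκ]
  refine (φ_gen F s).trans ?_
  change t = (F.obj.map (𝟙 (op V))).hom t
  rw [F.obj.map_id]
  rfl

theorem isIso_cmp : IsIso (cmp F) := isIso_of_mono_of_epi _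

section main

variable [NoetherianSpace X]

theorem isBasis_compact : Opens.IsBasis {U : Opens X | IsCompact (U : Set X)} := by
  rw [Opens.isBasis_iff_nbhd]
  intro U x hx
  exact ⟨U, NoetherianSpace.isCompact _, hx, le_rfl⟩

theorem isQuasiSeparated_top : IsQuasiSeparated (((⊤ : Opens X) : Opens X) : Set X) :=
  fun U V _ _ _ _ _ _ => NoetherianSpace.isCompact _

/-- `H^p(X, -)` in the form of Mathlib's cohomology presheaf at the terminal open. -/
noncomputable abbrev Hp (p : ℕ) : CohTop.Ab X ⥤ AddCommGrpCat.{u} :=
  (Sheaf.cohomologyPresheafFunctor (Opens.grothendieckTopology X) p).flip.obj (op (⊤ : Opens X))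

theorem subsingleton_H_iff_isZero_Hp (G : CohTop.Ab X) (p : ℕ) :
    Subsingleton (CohTop.H G p) ↔ IsZero ((Hp p).obj G) := by
  have e := (Groth.Agent.Lib.Helper9.HTerminal.functorHIso (Opens.grothendieckTopology X)
    (T := (⊤ : Opens X)) isTerminalTop p).app G
  constructor
  · intro h
    have h1 : IsZero ((Sheaf.functorH.{u, u, u, u} (Opens.grothendieckTopology X) p).obj G) :=
      @AddCommGrpCat.isZero_of_subsingleton _ h
    exact h1.of_iso e.symm
  · intro h
    have h1 : IsZero ((Sheaf.functorH.{u, u, u, u} (Opens.grothendieckTopology X) p).obj G) := h.of_iso e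
    exact AddCommGrpCat.subsingleton_of_isZero h1

/-- **Reduction to quotients of free sheaves.** -/
theorem vanishing_of_quotients (p : ℕ)
    (h : ∀ (U : Opens X) (Q : CohTop.Ab X) (π : ZU U ⟶ Q), Epi π → Subsingleton (CohTop.H Q p)) :
    Subsingleton (CohTop.H F p) := by
  haveI := isIso_cmp F
  refine subsingleton_H_of_iso (asIso (cmp F)) p ?_
  rw [subsingleton_H_iff_isZero_Hp]
  haveI : PreservesColimit (D F) (Hp (X := X) p) :=
    Groth.Agent.Lib.Helper9.TopColim.preservesColimit_of_compact isBasis_compact ⊤ isQuasiSeparated_top ⊤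
      ⟨le_rfl, NoetherianSpace.isCompact _⟩ p (Idx F) (D F)
  have hc := isColimitOfPreserves (Hp (X := X) p) (colimit.isColimit (D F))
  have hz : ∀ a : Idx F, IsZero ((Hp (X := X) p).obj ((D F).obj a)) := by
    intro a
    rw [← subsingleton_H_iff_isZero_Hp]
    have hepi : Epi (factorThruImageSubobject (desc F a.l)) := inferInstance
    exact quot_vanish F p h a.l _ (factorThruImageSubobject (desc F a.l)) hepi
  rw [IsZero.iff_id_eq_zero]
  refine hc.hom_ext fun a => ?_
  exact (hz a).eq_of_src _ _

end main

end Groth.Agent.Lib.T2H6.GVGen
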