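import Mathlib
import Groth.Prelude
import Groth.Agent.Lib.T2H6GVTools
import Groth.Agent.Lib.Helper16IrredConst
set_option backward.isDefEq.respectTransparency.types false

/-!
# Grothendieck vanishing: the irreducible step (helper6)

Namespace `Groth.Agent.Lib.T2H6.GVIrr`.  On an irreducible space `X`, with `ℤ_X` the (flasque) constant sheaf:

* `ιU U : ℤ_U ⟶ ℤ_X` is a monomorphism whose cokernel vanishes on `U`;
* `sub_analysis` : a subsheaf `R ⊆ ℤ_X` either vanishes on a nonempty open or contains a copy of `ℤ_V`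
  (`V` nonempty open inside a prescribed nonempty open) with quotient vanishing on `V`;
* `irr_quot` : vanishing of `H^{q+1}` of quotients of `ℤ_U`, given vanishing for sheaves supported on proper
  closed subsets in degrees `≥ q`.
-/

set_option autoImplicit false
set_option linter.unusedSectionVars false
set_option linter.unusedVariables false
universe u
open CategoryTheory CategoryTheory.Limits Opposite TopologicalSpace Abelian

namespace Groth.Agent.Lib.T2H6.GVIrr

open Groth.Agent.Lib.Helper16.ClosedEmb Groth.Agent.Lib.T2H6.GVTools Groth.Agent.Lib.Helper16.IrredConst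

variable {X : TopCat.{u}} [IrreducibleSpace X]

/-- the constant sheaf `ℤ` on an irreducible space, in its explicit flasque model -/
noncomputable abbrev Zc (X : TopCat.{u}) [IrreducibleSpace X] : CohTop.Ab X := cS X (ULift.{u} ℤ)

/-- evaluation of a section of the constant sheaf over a nonempty open -/
def ev {W : Opens X} (hW : (W : Set X).Nonempty) : (Zc X).obj.obj (op W) →+ ℤ where
  toFun s := (s ⟨hW⟩).down
  map_zero' := rfl
  map_add' _ _ := rfl

theorem ev_injective {W : Opens X} (hW : (W : Set X).Nonempty) : Function.Injective (ev hW) := by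
  intro s t h
  funext i
  have hi : i = ⟨hW⟩ := Subsingleton.elim _ _
  subst hi
  exact ULift.ext _ _ h

theorem ev_map {W W' : Opens X} (h : W' ≤ W) (hW' : (W' : Set X).Nonempty) (s : (Zc X).obj.obj (op W)) :
    ev hW' (((Zc X).obj.map (homOfLE h).op).hom s) = ev (hW'.mono h) s := rfl

/-- the section `1` -/
def one (W : Opens X) : (Zc X).obj.obj (op W) := fun _ => ⟨1⟩

theorem ev_one {W : Opens X} (hW : (W : Set X).Nonempty) : ev hW (one W) = 1 := rfl

theorem map_one {W W' : Opens X} (h : W' ≤ W) : ((Zc X).obj.map (homOfLE h).op).hom (one W) = one W' := rfl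

theorem eq_zsmul_one {W : Opens X} (hW : (W : Set X).Nonempty) (s : (Zc X).obj.obj (op W)) :
    s = ev hW s • one W := by
  apply ev_injective hW
  rw [map_zsmul, ev_one, smul_eq_mul, mul_one]

/-- the canonical map `ℤ_U ⟶ ℤ_X` -/
noncomputable def ιU (U : Opens X) : ZU U ⟶ Zc X :=
  CohFree.ofSect (Opens.grothendieckTopology X) U (Zc X) (one U)

theorem ιU_gen (U : Opens X) : ((ιU U).hom.app (op U)).hom (gen U) = one U :=
  CohFree.evalGen_ofSect (Opens.grothendieckTopology X) U (Zc X) (one U)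

/-- value of a morphism out of `ℤ_U` on a multiple of a restriction of the canonical section -/
theorem hom_zsmul_gen {U : Opens X} {G : CohTop.Ab X} (ψ : ZU U ⟶ G) {W : Opens X} (hWU : W ≤ U) (z : ℤ) :
    (ψ.hom.app (op W)).hom (z • ((ZU U).obj.map (homOfLE hWU).op).hom (gen U)) =
      z • (G.obj.map (homOfLE hWU).op).hom ((ψ.hom.app (op U)).hom (gen U)) := by
  rw [map_zsmul, naturality_apply]

instance mono_ιU (U : Opens X) : Mono (ιU U) := by
  refine mono_of_injective _ fun W => ?_
  rw [injective_iff_map_eq_zero]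
  intro a ha
  refine eq_zero_of_locally_zero _ a fun x hx => ?_
  obtain ⟨W', hW, hxW', h | ⟨hU, z, hz⟩⟩ := free_local U a x hx
  · exact ⟨W', hW, hxW', h.2⟩
  · refine ⟨W', hW, hxW', ?_⟩
    have hne : (W' : Set X).Nonempty := ⟨x, hxW'⟩
    have h1 : ((ιU U).hom.app (op W')).hom (((ZU U).obj.map (homOfLE hW).op).hom a) = 0 := by
      rw [naturality_apply, ha, map_zero]
    rw [hz, hom_zsmul_gen, ιU_gen, map_one] at h1
    have h2 := congrArg (ev hne) h1
    rw [map_zsmul, ev_one, map_zero, smul_eq_mul, mul_one] at h2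
    rw [hz, h2, zero_smul]

theorem sz_coker_ιU (U : Opens X) : SZ U (cokernel (ιU U)) := by
  refine sz_cokernel _ U fun W hWU b x hx => ?_
  have hne : (W : Set X).Nonempty := ⟨x, hx⟩
  refine ⟨W, le_rfl, hx, ev hne b • ((ZU U).obj.map (homOfLE hWU).op).hom (gen U), ?_⟩
  rw [hom_zsmul_gen, ιU_gen, map_one]
  have : (homOfLE (le_refl W)).op = 𝟙 (op W) := rfl
  rw [this, (Zc X).obj.map_id]
  exact (eq_zsmul_one hne b).symm

section sub

variable {R : CohTop.Ab X} (ι : R ⟶ Zc X)

/-- the subgroup of values of the sections of a sheaf mapping to `ℤ_X` over a nonempty open -/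
noncomputable def vals (W : Opens X) (hW : (W : Set X).Nonempty) : Submodule ℤ ℤ :=
  LinearMap.range (((ev hW).comp (ι.hom.app (op W)).hom).toIntLinearMap)

theorem mem_vals {W : Opens X} (hW : (W : Set X).Nonempty) (k : ℤ) :
    k ∈ vals ι W hW ↔ ∃ r : R.obj.obj (op W), ev hW ((ι.hom.app (op W)).hom r) = k := by
  unfold vals
  rw [LinearMap.mem_range]
  rfl

theorem vals_mono {W W' : Opens X} (h : W' ≤ W) (hW' : (W' : Set X).Nonempty) (hW : (W : Set X).Nonempty) :
    vals ι W hW ≤ vals ι W' hW' := by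
  intro k hk
  rw [mem_vals] at hk ⊢
  obtain ⟨r, hr⟩ := hk
  refine ⟨(R.obj.map (homOfLE h).op).hom r, ?_⟩
  rw [naturality_apply, ev_map]
  exact hr

/-- a subsheaf of `ℤ_X` either vanishes on a nonempty open, or contains a copy of some `ℤ_V` with quotient
vanishing on `V`. -/
theorem sub_analysis [Mono ι] :
    (∃ V : Opens X, (V : Set X).Nonempty ∧ SZ V R) ∨
    (∃ V : Opens X, (V : Set X).Nonempty ∧ ∃ ψ : ZU V ⟶ R, Mono ψ ∧ SZ V (cokernel ψ)) := by
  classical
  let S : Set (Submodule ℤ ℤ) := {I | ∃ (W : Opens X) (hW : (W : Set X).Nonempty), I = vals ι W hW}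
  have hS : S.Nonempty := ⟨_, ⊤, top_nonempty, rfl⟩
  obtain ⟨m, ⟨W₀, hW₀, rfl⟩, hmax⟩ :=
    WellFounded.has_min (wellFounded_gt (α := Submodule ℤ ℤ)) S hS
  have hconst : ∀ (W' : Opens X) (hW' : (W' : Set X).Nonempty), W' ≤ W₀ →
      vals ι W' hW' = vals ι W₀ hW₀ := by
    intro W' hW' hle
    have h1 := vals_mono ι hle hW' hW₀
    by_contra hne
    exact hmax _ ⟨W', hW', rfl⟩ (lt_of_le_of_ne h1 (Ne.symm hne))
  obtain ⟨n, hn⟩ : ∃ n : ℤ, vals ι W₀ hW₀ = Submodule.span ℤ {n} :=
    (IsPrincipalIdealRing.principal (vals ι W₀ hW₀ : Ideal ℤ)).principal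
  by_cases hn0 : n = 0
  · left
    refine ⟨W₀, hW₀, ?_⟩
    intro W' hle
    by_cases hW' : (W' : Set X).Nonempty
    · refine subsingleton_of_forall_eq 0 fun r => ?_
      have hmem : ev hW' ((ι.hom.app (op W')).hom r) ∈ vals ι W' hW' := (mem_vals ι hW' _).2 ⟨r, rfl⟩
      rw [hconst W' hW' hle, hn, hn0, Submodule.mem_span_singleton] at hmem
      obtain ⟨z, hz⟩ := hmem
      rw [smul_zero] at hz
      apply injective_of_mono ι W'
      apply ev_injective hW'
      rw [← hz, map_zero, map_zero]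
    · exact subsingleton_of_empty R hW'
  · right
    refine ⟨W₀, hW₀, ?_⟩
    obtain ⟨r₀, hr₀⟩ : ∃ r₀ : R.obj.obj (op W₀), ev hW₀ ((ι.hom.app (op W₀)).hom r₀) = n := by
      have : n ∈ vals ι W₀ hW₀ := hn ▸ Submodule.mem_span_singleton_self n
      exact (mem_vals ι hW₀ n).1 this
    let ψ : ZU W₀ ⟶ R := CohFree.ofSect (Opens.grothendieckTopology X) W₀ R r₀
    have hψ : (ψ.hom.app (op W₀)).hom (gen W₀) = r₀ :=
      CohFree.evalGen_ofSect (Opens.grothendieckTopology X) W₀ R r₀
    have key : ∀ (W : Opens X) (hW : W ≤ W₀) (hne : (W : Set X).Nonempty) (z : ℤ),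
        ev hne ((ι.hom.app (op W)).hom ((ψ.hom.app (op W)).hom
          (z • ((ZU W₀).obj.map (homOfLE hW).op).hom (gen W₀)))) = z * n := by
      intro W hW hne z
      rw [hom_zsmul_gen, hψ, map_zsmul, naturality_apply, map_zsmul, ev_map, hr₀, smul_eq_mul]
    refine ⟨ψ, ?_, ?_⟩
    · refine mono_of_injective _ fun W => ?_
      rw [injective_iff_map_eq_zero]
      intro a ha
      refine eq_zero_of_locally_zero _ a fun x hx => ?_
      obtain ⟨W', hW, hxW', h | ⟨hU, z, hz⟩⟩ := free_local W₀ a x hx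
      · exact ⟨W', hW, hxW', h.2⟩
      · refine ⟨W', hW, hxW', ?_⟩
        have hne : (W' : Set X).Nonempty := ⟨x, hxW'⟩
        have h1 : (ψ.hom.app (op W')).hom (((ZU W₀).obj.map (homOfLE hW).op).hom a) = 0 := by
          rw [naturality_apply, ha, map_zero]
        have h2 := key W' hU hne z
        rw [← hz, h1, map_zero, map_zero] at h2
        have hz0 : z = 0 := by
          rcases mul_eq_zero.1 h2.symm with h | h
          · exact h
          · exact absurd h hn0
        rw [hz, hz0, zero_smul]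
    · refine sz_cokernel _ W₀ fun W hW b x hx => ?_
      have hne : (W : Set X).Nonempty := ⟨x, hx⟩
      have hmem : ev hne ((ι.hom.app (op W)).hom b) ∈ vals ι W hne := (mem_vals ι hne _).2 ⟨b, rfl⟩
      rw [hconst W hne hW, hn, Submodule.mem_span_singleton] at hmem
      obtain ⟨z, hz⟩ := hmem
      refine ⟨W, le_rfl, hx, z • ((ZU W₀).obj.map (homOfLE hW).op).hom (gen W₀), ?_⟩
      apply injective_of_mono ι W
      apply ev_injective hne
      rw [key W hW hne z]
      have : (homOfLE (le_refl W)).op = 𝟙 (op W) := rfl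
      rw [this, R.obj.map_id]
      exact (smul_eq_mul z n).symm.trans hz

end sub

omit [IrreducibleSpace X] in
theorem isZero_ZU_of_empty (U : Opens X) (hU : ¬ (U : Set X).Nonempty) : IsZero (ZU U) := by
  rw [IsZero.iff_id_eq_zero]
  apply (CohFree.homEquivSect (Opens.grothendieckTopology X) U (ZU U)).injective
  haveI := subsingleton_of_empty (ZU U) hU
  exact Subsingleton.elim _ _

omit [IrreducibleSpace X] in
theorem shortExact_cokernel {A B : CohTop.Ab X} (f : A ⟶ B) [Mono f] :
    (ShortComplex.mk f (cokernel.π f) (cokernel.condition f)).ShortExact :=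
  { exact := ShortComplex.exact_cokernel f
    mono_f := inferInstanceAs (Mono f)
    epi_g := inferInstanceAs (Epi (cokernel.π f)) }

omit [IrreducibleSpace X] in
theorem shortExact_kernel {A B : CohTop.Ab X} (g : A ⟶ B) [Epi g] :
    (ShortComplex.mk (kernel.ι g) g (kernel.condition g)).ShortExact :=
  { exact := ShortComplex.exact_kernel g
    mono_f := inferInstanceAs (Mono (kernel.ι g))
    epi_g := inferInstanceAs (Epi g) }

theorem subsingleton_H_ZU (U : Opens X) (q : ℕ)
    (hIH : ∀ G : CohTop.Ab X, SZ U G → Subsingleton (CohTop.H G q)) :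
    Subsingleton (CohTop.H (ZU U) (q + 1)) :=
  sub_left _ (shortExact_cokernel (ιU U)) q (hIH _ (sz_coker_ιU U))
    (Groth.Agent.Lib.Helper16.Flasque.H_subsingleton (Zc X) q)

/-- **The irreducible step.** -/
theorem irr_quot (q : ℕ)
    (hIH : ∀ k, q ≤ k → ∀ V : Opens X, (V : Set X).Nonempty → ∀ G : CohTop.Ab X, SZ V G →
      Subsingleton (CohTop.H G k))
    (U : Opens X) (Q : CohTop.Ab X) (π : ZU U ⟶ Q) (hπ : Epi π) :
    Subsingleton (CohTop.H Q (q + 1)) := by
  haveI := hπ
  by_cases hU : (U : Set X).Nonempty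
  · have h2 : Subsingleton (CohTop.H (ZU U) (q + 1)) :=
      subsingleton_H_ZU U q fun G hG => hIH q le_rfl U hU G hG
    have h1 : Subsingleton (CohTop.H (kernel π) (q + 1 + 1)) := by
      haveI : Mono (kernel.ι π ≫ ιU U) := mono_comp _ _
      rcases sub_analysis (kernel.ι π ≫ ιU U) with ⟨V, hV, hSZ⟩ | ⟨V, hV, ψ, hψm, hψc⟩
      · exact hIH (q + 1 + 1) (by omega) V hV _ hSZ
      · haveI := hψm
        exact sub_mid _ (shortExact_cokernel ψ) (q + 1 + 1)
          (subsingleton_H_ZU V (q + 1) fun G hG => hIH (q + 1) (by omega) V hV G hG)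
          (hIH (q + 1 + 1) (by omega) V hV _ hψc)
    exact sub_right _ (shortExact_kernel π) (q + 1) h2 h1
  · have hz : IsZero Q := IsZero.of_epi π (isZero_ZU_of_empty U hU)
    exact Sheaf.subsingleton_H_of_isZero hz _

end Groth.Agent.Lib.T2H6.GVIrr
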