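import Mathlib
import Groth.Prelude
import Groth.Agent.Lib.T2H6GVTools
set_option backward.isDefEq.respectTransparency.types false

/-!
# Grothendieck vanishing: the reducible step (helper6)

Namespace `Groth.Agent.Lib.T2H6.GVRed`.

`red_quot` : if `X` has two disjoint opens `U'`, `V₁` such that `H^p` vanishes for sheaves vanishing on `U'` and for
sheaves vanishing on `V₁`, then `H^p` vanishes for all quotients of the free sheaves `ℤ_U`.
-/

set_option autoImplicit false
set_option linter.unusedSectionVars false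
set_option linter.unusedVariables false
universe u
open CategoryTheory CategoryTheory.Limits Opposite TopologicalSpace Abelian

namespace Groth.Agent.Lib.T2H6.GVRed

open Groth.Agent.Lib.Helper16.ClosedEmb Groth.Agent.Lib.T2H6.GVTools

variable {X : TopCat.{u}}

theorem hom_zsmul_gen {U : Opens X} {G : CohTop.Ab X} (ψ : ZU U ⟶ G) {W : Opens X} (hWU : W ≤ U) (z : ℤ) :
    (ψ.hom.app (op W)).hom (z • ((ZU U).obj.map (homOfLE hWU).op).hom (gen U)) =
      z • (G.obj.map (homOfLE hWU).op).hom ((ψ.hom.app (op U)).hom (gen U)) := by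
  rw [map_zsmul, naturality_apply]

theorem shortExact_cokernel {A B : CohTop.Ab X} (f : A ⟶ B) [Mono f] :
    (ShortComplex.mk f (cokernel.π f) (cokernel.condition f)).ShortExact :=
  { exact := ShortComplex.exact_cokernel f
    mono_f := inferInstanceAs (Mono f)
    epi_g := inferInstanceAs (Epi (cokernel.π f)) }

/-- **The reducible step.** -/
theorem red_quot (U' V₁ : Opens X) (hdisj : U' ⊓ V₁ = ⊥) (p : ℕ)
    (hIH1 : ∀ G : CohTop.Ab X, SZ U' G → Subsingleton (CohTop.H G p))
    (hIH2 : ∀ G : CohTop.Ab X, SZ V₁ G → Subsingleton (CohTop.H G p))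
    (U : Opens X) (Q : CohTop.Ab X) (π : ZU U ⟶ Q) (hπ : Epi π) :
    Subsingleton (CohTop.H Q p) := by
  haveI := hπ
  have hle : U ⊓ U' ≤ U := inf_le_left
  let j : ZU (U ⊓ U') ⟶ ZU U := CohCx.freeSheafMap (Opens.grothendieckTopology X) (homOfLE hle)
  have hj : (j.hom.app (op (U ⊓ U'))).hom (gen (U ⊓ U')) =
      ((ZU U).obj.map (homOfLE hle).op).hom (gen U) :=
    CohFree.freeSheafMap_gen (Opens.grothendieckTopology X) (homOfLE hle)
  set g : ZU (U ⊓ U') ⟶ Q := j ≫ π with hg
  set m : Limits.image g ⟶ Q := Limits.image.ι g with hm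
  have hfac : factorThruImage g ≫ m = g := Limits.image.fac g
  -- the image vanishes on `V₁`
  have h1 : SZ V₁ (Limits.image g) := by
    intro W hWV
    refine subsingleton_of_forall_eq 0 fun t => ?_
    refine eq_zero_of_locally_zero _ t fun x hx => ?_
    obtain ⟨W₁, hW₁, ⟨a, ha⟩, hx₁⟩ := (locSurj_iff (factorThruImage g)).1 inferInstance W t x hx
    obtain ⟨W₂, hW₂, hx₂, h | ⟨hU, z, hz⟩⟩ := free_local (U ⊓ U') a x hx₁
    · refine ⟨W₂, hW₂.trans hW₁, hx₂, ?_⟩
      rw [← map_comp_apply _ hW₁ hW₂]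
      have e1 : ((Limits.image g).obj.map (homOfLE hW₂).op).hom
          (((Limits.image g).obj.map (homOfLE hW₁).op).hom t) =
          ((factorThruImage g).hom.app (op W₂)).hom (((ZU (U ⊓ U')).obj.map (homOfLE hW₂).op).hom a) := by
        rw [naturality_apply]
        exact congrArg _ ha.symm
      rw [e1, h.2, map_zero]
    · exfalso
      have hxU' : x ∈ U' := (hU.trans inf_le_right) hx₂
      have hxV : x ∈ V₁ := hWV hx
      have : x ∈ U' ⊓ V₁ := ⟨hxU', hxV⟩
      rw [hdisj] at this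
      exact this
  -- the cokernel vanishes on `U'`
  have h2 : SZ U' (cokernel m) := by
    refine sz_cokernel m U' fun W hWU' b x hx => ?_
    obtain ⟨W₁, hW₁, ⟨a, ha⟩, hx₁⟩ := (locSurj_iff π).1 inferInstance W b x hx
    obtain ⟨W₂, hW₂, hx₂, h | ⟨hU, z, hz⟩⟩ := free_local U a x hx₁
    · refine ⟨W₂, hW₂.trans hW₁, hx₂, 0, ?_⟩
      rw [map_zero, ← map_comp_apply _ hW₁ hW₂]
      have e1 : (Q.obj.map (homOfLE hW₂).op).hom ((Q.obj.map (homOfLE hW₁).op).hom b) =
          (π.hom.app (op W₂)).hom (((ZU U).obj.map (homOfLE hW₂).op).hom a) := by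
        rw [naturality_apply]
        exact congrArg _ ha.symm
      rw [e1, h.2, map_zero]
    · have hW₂' : W₂ ≤ U ⊓ U' := le_inf hU ((hW₂.trans hW₁).trans hWU')
      refine ⟨W₂, hW₂.trans hW₁, hx₂,
        ((factorThruImage g).hom.app (op W₂)).hom
          (z • ((ZU (U ⊓ U')).obj.map (homOfLE hW₂').op).hom (gen (U ⊓ U'))), ?_⟩
      have e0 : (m.hom.app (op W₂)).hom (((factorThruImage g).hom.app (op W₂)).hom
          (z • ((ZU (U ⊓ U')).obj.map (homOfLE hW₂').op).hom (gen (U ⊓ U')))) =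
          (g.hom.app (op W₂)).hom (z • ((ZU (U ⊓ U')).obj.map (homOfLE hW₂').op).hom (gen (U ⊓ U'))) :=
        congrArg (fun k : ZU (U ⊓ U') ⟶ Q => (k.hom.app (op W₂)).hom
          (z • ((ZU (U ⊓ U')).obj.map (homOfLE hW₂').op).hom (gen (U ⊓ U')))) hfac
      rw [e0]
      have e1 : (g.hom.app (op W₂)).hom (z • ((ZU (U ⊓ U')).obj.map (homOfLE hW₂').op).hom (gen (U ⊓ U'))) =
          (π.hom.app (op W₂)).hom ((j.hom.app (op W₂)).hom
            (z • ((ZU (U ⊓ U')).obj.map (homOfLE hW₂').op).hom (gen (U ⊓ U')))) := rfl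
      rw [e1, hom_zsmul_gen j hW₂' z, hj, map_comp_apply _ hle hW₂', ← hz,
        ← map_comp_apply _ hW₁ hW₂, naturality_apply]
      exact congrArg _ ha
  exact sub_mid _ (shortExact_cokernel m) p (hIH2 _ h1) (hIH1 _ h2)

end Groth.Agent.Lib.T2H6.GVRed
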