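import Mathlib
import Groth.Agent.Lib.T2H6AddFn
import Groth.Agent.Lib.T2H6TensorDeg

/-!
# Additive functions on coherent modules with support in closed points (helper6)

An additive function which vanishes on modules supported at one closed point vanishes on every coherent
module whose support consists of closed points (no integrality or dimension hypothesis).  Application:
`χ(F ⊗ E) = n · χ(F)` for `F` coherent with zero-dimensional support and `E` locally free of rank `n` on a proper
scheme over a field.
-/

set_option autoImplicit false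
universe u

open AlgebraicGeometry CategoryTheory Limits

namespace Groth.Agent.Lib.T2H6.AddFnB

open Groth.Agent.Lib.T2H5.GenIsoA Groth.Agent.Lib.T2H5.GenIsoB
  Groth.Agent.Lib.T2H5.GenIsoC Groth.Agent.Lib.T2H5.GenIsoD Groth.Agent.Lib.Helper23.Extend
  Groth.Agent.Lib.T2H5.Devissage Groth.Agent.Lib.T2H6.AddFn

variable {X : Scheme.{u}}

/-- an additive function vanishing on modules supported at one closed point vanishes on coherent modules
whose support consists of closed points. -/
theorem IsAddFn.eq_zero_of_closedPoints [IsNoetherian X] {Φ : X.Modules → ℤ} (hΦ : IsAddFn Φ)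
    (hpt : VanishesOnPoints Φ) (T : X.Modules) (hT : Coh.IsCoh T)
    (hpts : ∀ x ∈ CohB1.support T, IsClosed ({x} : Set X)) : Φ T = 0 := by
  have hcl : IsClosed (CohB1.support T) := isClosed_support T hT
  refine core (fun M => Coh.IsCoh M → Φ M = 0) ?_ ?_ ?_ (CohB1.support T) ?_ T hT le_rfl hT
  · rintro M N ⟨e⟩ hM hN
    rw [← hΦ.iso e (isCoh_of_iso e.symm hN)]
    exact hM (isCoh_of_iso e.symm hN)
  · intro M hM _
    exact hΦ.zero M hM
  · intro S hS h1 h2 h3 hP1 hP3 _
    rw [hΦ.add S hS h1 h2 h3, hP1 h1, hP3 h3, add_zero]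
  · intro Z hZ hirr hZT _ M hM hk _
    obtain ⟨x, hx⟩ := hirr.nonempty
    have hxcl : IsClosed ({x} : Set X) := hpts x (hZT hx)
    have hrest : IsClosed (Z \ {x}) :=
      Groth.Agent.Lib.T2H6.CurveVanish.isClosed_of_subset (CohB1.support T) hcl hpts _
        (Set.diff_subset.trans hZT)
    have hZx : Z ⊆ {x} := by
      have hcov : Z ⊆ {x} ∪ (Z \ {x}) := by
        intro y hy
        by_cases h : y = x
        · exact Or.inl h
        · exact Or.inr ⟨hy, h⟩
      rcases (isPreirreducible_iff_isClosed_union_isClosed.1 hirr.isPreirreducible) {x} (Z \ {x})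
        hxcl hrest hcov with h | h
      · exact h
      · exact absurd (h hx).2 (fun h' => h' rfl)
    haveI := hM.1
    haveI := Groth.Agent.Lib.T2H5.IdealMul.isIso_unit_of_killed _ M hk
    have hsupp : CohB1.support M ⊆ Z := by
      rw [support_eq_of_iso (asIso (Groth.Agent.Lib.T2H5.IdealMul.unit
        (Scheme.IdealSheafData.vanishingIdeal ⟨Z, hZ⟩) M))]
      refine (support_pushforward_subset _ _ ?_).trans ?_
      · rw [Scheme.IdealSheafData.range_subschemeι]
        exact (Scheme.IdealSheafData.vanishingIdeal ⟨Z, hZ⟩).support.isClosed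
      · rw [Scheme.IdealSheafData.range_subschemeι,
          Scheme.IdealSheafData.coe_support_vanishingIdeal]
        rfl
    exact hpt M x hM hxcl (hsupp.trans hZx)

/-- in a closed subset of Krull dimension `≤ 0` of a `T₀` space every point is closed. -/
theorem isClosed_singleton_of_dim_le_zero {Y : Type*} [TopologicalSpace Y] [T0Space Y] (S : Set Y)
    (hS : IsClosed S) (hdim : topologicalKrullDim S ≤ 0) (x : Y) (hx : x ∈ S) :
    IsClosed ({x} : Set Y) := by
  rw [← closure_eq_iff_isClosed]
  refine Set.Subset.antisymm ?_ subset_closure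
  intro y hy
  rw [Set.mem_singleton_iff]
  have hyS : y ∈ S := (closure_minimal (Set.singleton_subset_iff.2 hx) hS) hy
  by_contra hne
  -- the chain `closure {y} < closure {x}` of irreducible closed subsets of `S`
  let a : TopologicalSpace.IrreducibleCloseds S :=
    { carrier := closure {(⟨y, hyS⟩ : S)}
      isIrreducible' := isIrreducible_singleton.closure
      isClosed' := isClosed_closure }
  let b : TopologicalSpace.IrreducibleCloseds S :=
    { carrier := closure {(⟨x, hx⟩ : S)}
      isIrreducible' := isIrreducible_singleton.closure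
      isClosed' := isClosed_closure }
  have hyx : (⟨y, hyS⟩ : S) ∈ closure {(⟨x, hx⟩ : S)} := by
    rw [closure_subtype]
    simpa using hy
  have hle : closure {(⟨y, hyS⟩ : S)} ⊆ closure {(⟨x, hx⟩ : S)} :=
    closure_minimal (Set.singleton_subset_iff.2 hyx) isClosed_closure
  have hab : a < b := by
    refine lt_of_le_of_ne hle ?_
    intro h
    have h' : closure {(⟨y, hyS⟩ : S)} = closure {(⟨x, hx⟩ : S)} :=
      congrArg (fun Z : TopologicalSpace.IrreducibleCloseds S => (Z : Set S)) h
    have hins : Inseparable (⟨y, hyS⟩ : S) ⟨x, hx⟩ := inseparable_iff_closure_eq.2 h'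
    exact hne (congrArg Subtype.val hins.eq)
  have h1 : (1 : WithBot ℕ∞) ≤ topologicalKrullDim S := Order.one_le_krullDim_iff.2 ⟨a, b, hab⟩
  have h2 : (1 : WithBot ℕ∞) ≤ 0 := h1.trans hdim
  exact absurd h2 (by decide)

variable (k : Type u) [Field k] [X.Over (Spec (CommRingCat.of k))]
  [IsProper (X ↘ Spec (CommRingCat.of k))]

open Groth.Agent.Lib.T2H6.TensorDeg in
/-- `χ(F ⊗ E) = n · χ(F)` for `F` coherent with zero-dimensional support and `E` locally free of rank `n`. -/
theorem euler_tensor_of_dim_zero (F : X.Modules) (hF : Coh.IsCoh F)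
    (hsupp : topologicalKrullDim (CohB1.support F) ≤ 0)
    (n : ℕ) (E : X.Modules) (hE : FlatMod.IsFinLocFreeOfRank n E) :
    Curv2.euler k X (CohB1.tensorMod F E) = n * Curv2.euler k X F := by
  haveI : IsNoetherian X := Groth.Agent.Lib.T2H6.CurveSatur.isNoetherian_of_proper k
  have hcl : IsClosed (CohB1.support F) := isClosed_support F hF
  have hpts : ∀ x ∈ CohB1.support F, IsClosed ({x} : Set X) :=
    fun x hx => isClosed_singleton_of_dim_le_zero _ hcl hsupp x hx
  have h := IsAddFn.eq_zero_of_closedPoints (isAddFn_psi k E n hE) (vanishesOnPoints_psi k E n hE)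
    F hF hpts
  unfold psi at h
  linarith

end Groth.Agent.Lib.T2H6.AddFnB
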