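import Mathlib
import Groth.Prelude.Def_KLin
import Groth.Agent.Lib.T2H6ParShF
import Groth.Agent.Lib.T2H6CurveRR
import Groth.Agent.Lib.T2H6CurveDeg
import Groth.Agent.Lib.Helper27PnSections
import Groth.Agent.Lib.Helper21UnitHom
import Groth.Agent.Lib.Helper23SecTw7

/-!
# Serre vanishing on an integral proper curve for invertible modules with many sections (helper6)

A nonzero section `σ : O ⟶ P` of an invertible module acts surjectively `H¹(O ⊗ F) → H¹(P ⊗ F)`; the action is
linear in `σ`, so as soon as `dim Hom(O, P) > h¹(O ⊗ F)²` some nonzero section acts by zero and `H¹(P ⊗ F) = 0`.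
-/

set_option autoImplicit false
universe u

open AlgebraicGeometry CategoryTheory Limits

namespace Groth.Agent.Lib.T2H6.CurveSerre

open Groth.Agent.Lib.T2H6.CurveRR Groth.Agent.Lib.T2H5.Twist Groth.Agent.Lib.T2H6.CurveSS2 Groth.Agent.Lib.T2H6.TensorDeg
  Groth.Agent.Lib.T2H5.GenIsoB Groth.Agent.Lib.T2H6.ParShA Groth.Agent.Lib.T2H6.HHLin
  Groth.Agent.Lib.T2H6.ParShF Groth.Agent.Lib.T2H6.CurveDeg Groth.Agent.Lib.T2H6.CurveVanish

variable {X : Scheme.{u}} (k : Type u) [Field k] [X.Over (Spec (CommRingCat.of k))]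

section Lin

/-- `- ⊗ D` is `k`-linear on morphisms. -/
theorem tr_map_smul' (D : X.Modules) {E E' : X.Modules} (c : k) (f : E ⟶ E') :
    (tr D).map (c • f) = c • (tr D).map f := by
  have h1 : c • f = (c • 𝟙 E) ≫ f := by rw [Linear.smul_comp, Category.id_comp]
  rw [h1, Functor.map_comp, tr_map_smul, Linear.smul_comp, Category.id_comp]

theorem HHlin_smul {M N : X.Modules} (c : k) (f : M ⟶ N) (i : ℕ) :
    Canon.HHlin k (c • f) i = c • Canon.HHlin k f i := by
  have h1 : c • f = (c • 𝟙 M) ≫ f := by rw [Linear.smul_comp, Category.id_comp]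
  rw [h1, HHlin_comp, HHlin_smul_id]
  ext x
  simp

/-- the action of sections of `P` on `H^i(- ⊗ F)`, as a linear map. -/
noncomputable def act (P F : X.Modules) (i : ℕ) :
    (Coh.structureModule X ⟶ P) →ₗ[k]
      (Coh.HH X (CohB1.tensorMod (Coh.structureModule X) F) i →ₗ[k] Coh.HH X (CohB1.tensorMod P F) i) where
  toFun σ := Canon.HHlin k ((tr F).map σ) i
  map_add' σ τ := by
    haveI := additive_tr (X := X) F
    rw [Functor.map_add, HHlin_add]
    rfl
  map_smul' c σ := by
    rw [tr_map_smul', HHlin_smul]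
    rfl

end Lin

section Curve

variable [IsIntegral X] [IsProper (X ↘ Spec (CommRingCat.of k))]

omit [IsProper (X ↘ Spec (CommRingCat.of k))] in
/-- the cokernel of a nonzero section of an invertible module is torsion. -/
theorem isTors_cokernel_of_ne_zero (P : X.Modules) (hP : PicF.IsInvertible P)
    (σ : Coh.structureModule X ⟶ P) (hσ : σ ≠ 0) : IsTors (cokernel σ) :=
  (isTors_iff _).2 (generic_notMem_support
    (Groth.Agent.Lib.Helper23.TensorUnit.isInvertible_structureModule X) hP σ hσ)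

/-- a nonzero section acts surjectively on `H^i`, `i ≥ 1`. -/
theorem surjective_act (hdim : topologicalKrullDim X = 1) (P : X.Modules) (hP : PicF.IsInvertible P)
    (F : X.Modules) (hF : Coh.IsCoh F) (σ : Coh.structureModule X ⟶ P) (hσ : σ ≠ 0) (i : ℕ) :
    Function.Surjective (act k P F (i + 1) σ) := by
  haveI := isLocallyNoetherian (X := X) k
  have hO : Coh.IsCoh (Coh.structureModule X) := Groth.Agent.Lib.T2H5.GenIsoF.isCoh_structureModule
  have hPc := isCoh_of_isInvertible P hP
  have hOF := isCoh_tensor (Coh.structureModule X) F hO hF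
  have hPF := isCoh_tensor P F hPc hF
  set φ : CohB1.tensorMod (Coh.structureModule X) F ⟶ CohB1.tensorMod P F := (tr F).map σ with hφ
  have hK := isCoh_kernel φ hOF hPF
  have hC := isCoh_cokernel φ hOF hPF
  have hI : Coh.IsCoh (Abelian.image φ) := isCoh_kernel (cokernel.π φ) hPF hC
  haveI := preservesFiniteColimits_tr (X := X) F
  have hCt : IsTors (cokernel φ) :=
    IsTors.of_iso (PreservesCokernel.iso (tr F) σ)
      (IsTors.tensor_left (isTors_cokernel_of_ne_zero P hP σ hσ) F)
  -- `H(O ⊗ F) → H(im φ)` is surjective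
  haveI : (kernel φ).IsQuasicoherent := hK.1
  have h1 : Function.Surjective (Canon.HHlin k (Abelian.factorThruImage φ) (i + 1)) :=
    surjective_g k (kerImSC φ) (kerImSC_shortExact φ) (i + 1)
      (subsingleton_HH_of_two_le k hdim (kernel φ) (i + 1 + 1) (by omega))
  -- `H(im φ) → H(P ⊗ F)` is surjective
  let S2 : ShortComplex X.Modules :=
    ShortComplex.mk (kernel.ι (cokernel.π φ)) (cokernel.π φ) (kernel.condition _)
  have hS2 : S2.ShortExact :=
    { exact := ShortComplex.exact_kernel (cokernel.π φ)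
      mono_f := inferInstanceAs (Mono (kernel.ι (cokernel.π φ)))
      epi_g := inferInstanceAs (Epi (cokernel.π φ)) }
  have h2 : Function.Surjective (Canon.HHlin k (Abelian.image.ι φ) (i + 1)) := by
    intro y
    have hy : y ∈ LinearMap.ker (Canon.HHlin k S2.g (i + 1)) := by
      rw [LinearMap.mem_ker]
      exact @Subsingleton.elim _ (subsingleton_HH_of_isTors k hdim (cokernel φ) hC hCt (i + 1)
        (Nat.succ_pos i)) _ _
    rw [exact₂ k S2 hS2 (i + 1)] at hy
    exact hy
  intro y
  obtain ⟨z, rfl⟩ := h2 y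
  obtain ⟨w, rfl⟩ := h1 z
  refine ⟨w, ?_⟩
  change Canon.HHlin k φ (i + 1) w = _
  rw [← HHlin_comp_apply, Abelian.image.fac]

end Curve

section H0

open Groth.Agent.Lib.Helper23.GenLocus Groth.Agent.Lib.Helper23.SecTw

/-- the class of `1` in `H⁰(X, O)`. -/
noncomputable def unitClass (X : Scheme.{u}) : Coh.HH X (Coh.structureModule X) 0 :=
  (Groth.Agent.Lib.Helper27PnSections.hh0Equiv X (Coh.structureModule X)).symm (toS ⊤ 1)

/-- evaluation of a morphism `O ⟶ P` on the class of `1`. -/
noncomputable def evLin (P : X.Modules) : (Coh.structureModule X ⟶ P) →ₗ[k] Coh.HH X P 0 where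
  toFun σ := Canon.HHlin k σ 0 (unitClass X)
  map_add' σ τ := by rw [HHlin_add]; rfl
  map_smul' c σ := by rw [HHlin_smul]; rfl

theorem hh0Equiv_evLin (P : X.Modules) (σ : Coh.structureModule X ⟶ P) :
    Groth.Agent.Lib.Helper27PnSections.hh0Equiv X P (evLin k P σ) = σ.app ⊤ (toS ⊤ 1) := by
  change Sheaf.H.equiv₀ _ _ (Sheaf.H.map ((SheafOfModules.toSheaf X.ringCatSheaf).map σ) 0 (unitClass X)) = _
  rw [← Sheaf.H.equiv₀_naturality]
  unfold unitClass
  have h := (Groth.Agent.Lib.Helper27PnSections.hh0Equiv X (Coh.structureModule X)).apply_symm_apply (toS ⊤ 1)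
  change Sheaf.H.equiv₀ _ _ _ = _ at h
  rw [h]
  rfl

theorem bijective_evLin (P : X.Modules) : Function.Bijective (evLin k P) := by
  constructor
  · intro σ τ h
    have h1 := congrArg (Groth.Agent.Lib.Helper27PnSections.hh0Equiv X P) h
    rw [hh0Equiv_evLin, hh0Equiv_evLin] at h1
    exact (Groth.Agent.Lib.Helper21.UnitHom.unitHomAddEquiv
      (R := X.ringCatSheaf) (T := (⊤ : X.Opens)) isTerminalTop P).injective h1
  · intro y
    refine ⟨secHom P (Groth.Agent.Lib.Helper27PnSections.hh0Equiv X P y), ?_⟩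
    apply (Groth.Agent.Lib.Helper27PnSections.hh0Equiv X P).injective
    rw [hh0Equiv_evLin]
    have h1 := sv_secHom P (Groth.Agent.Lib.Helper27PnSections.hh0Equiv X P y) ⊤
    rw [Groth.Agent.Lib.Helper23.SecTw.res_self] at h1
    exact h1

theorem finrank_hom_eq (P : X.Modules) :
    Module.finrank k (Coh.structureModule X ⟶ P) = Module.finrank k (Coh.HH X P 0) :=
  (LinearEquiv.ofBijective (evLin k P) (bijective_evLin k P)).finrank_eq

end H0

section Vanish

variable [IsIntegral X] [IsProper (X ↘ Spec (CommRingCat.of k))]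

/-- **Vanishing.** If `dim Hom(O, P) > h^{i+1}(O ⊗ F)²` then `H^{i+1}(P ⊗ F) = 0`. -/
theorem subsingleton_HH_of_lt (hdim : topologicalKrullDim X = 1) (P : X.Modules) (hP : PicF.IsInvertible P)
    (F : X.Modules) (hF : Coh.IsCoh F) (i : ℕ)
    (h : Module.finrank k (Coh.HH X (CohB1.tensorMod (Coh.structureModule X) F) (i + 1)) ^ 2 <
      Module.finrank k (Coh.structureModule X ⟶ P)) :
    Subsingleton (Coh.HH X (CohB1.tensorMod P F) (i + 1)) := by
  haveI := isLocallyNoetherian (X := X) k
  have hO : Coh.IsCoh (Coh.structureModule X) := Groth.Agent.Lib.T2H5.GenIsoF.isCoh_structureModule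
  have hPc := isCoh_of_isInvertible P hP
  have hOF := isCoh_tensor (Coh.structureModule X) F hO hF
  have hPF := isCoh_tensor P F hPc hF
  haveI : Module.Finite k (Coh.HH X (CohB1.tensorMod (Coh.structureModule X) F) (i + 1)) :=
    Groth.Agent.Lib.T2H6.EulerField.finite_HH k X _ hOF (i + 1)
  haveI : Module.Finite k (Coh.HH X (CohB1.tensorMod P F) (i + 1)) :=
    Groth.Agent.Lib.T2H6.EulerField.finite_HH k X _ hPF (i + 1)
  set a := Module.finrank k (Coh.HH X (CohB1.tensorMod (Coh.structureModule X) F) (i + 1)) with ha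
  set b := Module.finrank k (Coh.HH X (CohB1.tensorMod P F) (i + 1)) with hb
  -- a nonzero section exists
  have hpos : 0 < Module.finrank k (Coh.structureModule X ⟶ P) := lt_of_le_of_lt (Nat.zero_le _) h
  haveI : Nontrivial (Coh.structureModule X ⟶ P) := Module.nontrivial_of_finrank_pos (R := k) hpos
  obtain ⟨σ₀, hσ₀⟩ := exists_ne (0 : Coh.structureModule X ⟶ P)
  have hba : b ≤ a :=
    LinearMap.finrank_le_finrank_of_surjective (f := act k P F (i + 1) σ₀)
      (surjective_act k hdim P hP F hF σ₀ hσ₀ i)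
  -- the action is not injective
  have hni : ¬ Function.Injective (act k P F (i + 1)) := by
    intro hinj
    have h1 := LinearMap.finrank_le_finrank_of_injective hinj
    rw [Module.finrank_linearMap] at h1
    have h2 : a * b ≤ a ^ 2 := by rw [sq]; exact Nat.mul_le_mul_left a hba
    have h3 : Module.finrank k (Coh.structureModule X ⟶ P) ≤ a * b := h1
    exact absurd (lt_of_lt_of_le h h3) (not_lt.2 h2)
  obtain ⟨σ, hσ, hσ0⟩ : ∃ σ : Coh.structureModule X ⟶ P, σ ≠ 0 ∧ act k P F (i + 1) σ = 0 := by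
    by_contra hcon
    push Not at hcon
    apply hni
    rw [← LinearMap.ker_eq_bot, LinearMap.ker_eq_bot']
    intro σ hσ
    by_contra hne
    exact hcon σ hne hσ
  have hsurj := surjective_act k hdim P hP F hF σ hσ i
  rw [hσ0] at hsurj
  refine ⟨fun x y => ?_⟩
  obtain ⟨x', rfl⟩ := hsurj x
  obtain ⟨y', rfl⟩ := hsurj y
  rfl

end Vanish

section Powers

variable [IsIntegral X] [IsProper (X ↘ Spec (CommRingCat.of k))]

/-- `deg L^{⊗ n} = n · deg L`. -/
theorem deg_tensorPow (hdim : topologicalKrullDim X = 1) (L : X.Modules) (hL : PicF.IsInvertible L) :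
    ∀ n : ℕ, Curv2.deg k X (CohB1.tensorPow L n) 1 = n * Curv2.deg k X L 1
  | 0 => by
    change Curv2.deg k X (Coh.structureModule X) 1 = _
    rw [deg_structureModule]
    simp
  | n + 1 => by
    have ih := deg_tensorPow hdim L hL n
    have hL1 := Groth.Agent.Lib.Helper23.SecTw.isFinLocFreeOfRank_one_of_isInvertible L hL
    have hLn := Groth.Agent.Lib.Helper23.SecTw.isInvertible_tensorPow hL n
    have hLn1 := Groth.Agent.Lib.Helper23.SecTw.isFinLocFreeOfRank_one_of_isInvertible _ hLn
    have h1 := tensor_euler k hdim L 1 hL1 (CohB1.tensorPow L n) (isCoh_of_isInvertible _ hLn)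
    rw [grank_of_isFinLocFreeOfRank _ 1 hLn1] at h1
    change Curv2.euler k X (CohB1.tensorMod (CohB1.tensorPow L n) L) - _ = _
    rw [h1]
    unfold Curv2.deg at ih ⊢
    push_cast
    push_cast at ih
    linarith

/-- **Serre vanishing on a curve**: for an invertible module of positive degree, `H¹(F ⊗ L^n) = 0` for `n ≫ 0`. -/
theorem exists_vanishing (hdim : topologicalKrullDim X = 1) (L : X.Modules) (hL : PicF.IsInvertible L)
    (hdeg : 0 < Curv2.deg k X L 1) (F : X.Modules) (hF : Coh.IsCoh F) :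
    ∃ n₀ : ℕ, ∀ n : ℕ, n₀ ≤ n →
      Subsingleton (Coh.HH X (CohB1.tensorMod F (CohB1.tensorPow L n)) 1) := by
  set a := Module.finrank k (Coh.HH X (CohB1.tensorMod (Coh.structureModule X) F) 1) with ha
  refine ⟨((a : ℤ) ^ 2 + 1 - Curv2.euler k X (Coh.structureModule X)).toNat, fun n hn => ?_⟩
  have hLn := Groth.Agent.Lib.Helper23.SecTw.isInvertible_tensorPow hL n
  haveI : (CohB1.tensorPow L n).IsQuasicoherent := (isCoh_of_isInvertible _ hLn).1
  have h1 := euler_eq_sub k hdim (CohB1.tensorPow L n)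
  have h2 : Curv2.euler k X (CohB1.tensorPow L n) - ((1 : ℕ) : ℤ) * Curv2.euler k X (Coh.structureModule X) =
      n * Curv2.deg k X L 1 := deg_tensorPow k hdim L hL n
  have h3 : (a : ℤ) ^ 2 + 1 - Curv2.euler k X (Coh.structureModule X) ≤ n := Int.toNat_le.1 hn
  have h4 : (n : ℤ) ≤ n * Curv2.deg k X L 1 := by
    have : (0 : ℤ) ≤ n := Int.natCast_nonneg n
    nlinarith
  have h5 : (0 : ℤ) ≤ (Module.finrank k (Coh.HH X (CohB1.tensorPow L n) 1) : ℤ) := Int.natCast_nonneg _
  have h6 : ((a ^ 2 : ℕ) : ℤ) < (Module.finrank k (Coh.HH X (CohB1.tensorPow L n) 0) : ℤ) := by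
    push_cast
    push_cast at h2
    linarith
  have h7 : a ^ 2 < Module.finrank k (Coh.structureModule X ⟶ CohB1.tensorPow L n) := by
    rw [finrank_hom_eq]
    exact_mod_cast h6
  have h8 := subsingleton_HH_of_lt k hdim (CohB1.tensorPow L n) hLn F hF 0 h7
  obtain ⟨β⟩ := Groth.Agent.Lib.T2H6.TensorFree.nonempty_braidIso' (CohB1.tensorPow L n) F
  exact Groth.Agent.Lib.T2H5.PnStruct.subsingleton_HH_of_iso β 1 h8

end Powers

end Groth.Agent.Lib.T2H6.CurveSerre
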