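import Mathlib
import Groth.Agent.Lib.T2H6CurveSerre
import Groth.Agent.Lib.T2H6AmpleCrit
import Groth.Agent.Lib.T2H5Devissage

/-!
# Ample invertible modules on an integral proper curve are those of positive degree (helper6)
-/

set_option autoImplicit false
universe u

open AlgebraicGeometry CategoryTheory Limits

namespace Groth.Agent.Lib.T2H6.CurveAmple

open Groth.Agent.Lib.T2H6.CurveDeg Groth.Agent.Lib.T2H6.CurveSerre Groth.Agent.Lib.Helper23.SecTw
  Groth.Agent.Lib.Helper23.GenLocus

variable {X : Scheme.{u}} (k : Type u) [Field k] [X.Over (Spec (CommRingCat.of k))]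
  [IsProper (X ↘ Spec (CommRingCat.of k))]

include k in
/-- a nonempty proper scheme of dimension one over a field is not affine. -/
theorem not_isAffine [Nonempty X] (hdim : topologicalKrullDim X = 1) : ¬ IsAffine X := by
  intro hA
  haveI : IsAffineHom (X ↘ Spec (CommRingCat.of k)) := isAffineHom_of_isAffine _
  haveI : IsFinite (X ↘ Spec (CommRingCat.of k)) :=
    (IsFinite.iff_isProper_and_isAffineHom).2 ⟨inferInstance, inferInstance⟩
  have hfin := (X ↘ Spec (CommRingCat.of k)).finite_appTop
  haveI : IsArtinianRing Γ(Spec (CommRingCat.of k), ⊤) :=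
    (AlgebraicGeometry.Scheme.ΓSpecIso (CommRingCat.of k)).commRingCatIsoToRingEquiv.symm.isArtinianRing
  letI := (X ↘ Spec (CommRingCat.of k)).appTop.hom.toAlgebra
  haveI : Module.Finite Γ(Spec (CommRingCat.of k), ⊤) Γ(X, ⊤) := hfin
  haveI : IsArtinianRing Γ(X, ⊤) := IsArtinianRing.of_finite Γ(Spec (CommRingCat.of k), ⊤) Γ(X, ⊤)
  haveI : IsLocallyArtinian (Spec Γ(X, ⊤)) := Scheme.isLocallyArtinianScheme_Spec.2 inferInstance
  haveI : IsLocallyArtinian X := IsLocallyArtinian.of_isImmersion (f := X.isoSpec.hom)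
  have h0 := topologicalKrullDim_zero_of_discreteTopology X
  rw [hdim] at h0
  exact absurd h0 (by decide)

variable [IsIntegral X]

omit [IsProper (X ↘ Spec (CommRingCat.of k))] [X.Over (Spec (CommRingCat.of k))] in
/-- the zero section generates nowhere. -/
theorem not_mem_genLocus_zero (N : X.Modules) (hN : PicF.IsInvertible N) (x : X) :
    x ∉ CohB1.genLocus N (0 : Coh.structureModule X ⟶ N) := by
  intro hx
  obtain ⟨W, e, hxW, he⟩ := exists_gen N hN x
  have hloc := genLocus_inf_eq_coef (0 : Coh.structureModule X ⟶ N) he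
  have h0 : sv (0 : Coh.structureModule X ⟶ N) W = 0 := rfl
  have hc : (0 : Γ(X, W)) = coef he le_rfl (sv (0 : Coh.structureModule X ⟶ N) W) := by
    apply coef_unique
    rw [h0, zero_smul]
  rw [← hc, Scheme.basicOpen_zero] at hloc
  have : x ∈ CohB1.genLocus N (0 : Coh.structureModule X ⟶ N) ⊓ W := ⟨hx, hxW⟩
  rw [hloc] at this
  exact this

/-- an ample invertible module on an integral proper curve has positive degree. -/
theorem deg_pos_of_isAmple (hdim : topologicalKrullDim X = 1) (L : X.Modules) (hA : CohB1.IsAmple L) :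
    0 < Curv2.deg k X L 1 := by
  obtain ⟨hL, -, h⟩ := hA
  obtain ⟨n, s, hxs, haff⟩ := h (genericPoint X)
  have hN := isInvertible_tensorPow hL (n + 1)
  have hs : s ≠ 0 := by
    rintro rfl
    exact not_mem_genLocus_zero _ hN _ hxs
  have hne : ∃ y : X, y ∉ CohB1.genLocus _ s := by
    by_contra hcon
    push Not at hcon
    have htop : CohB1.genLocus _ s = ⊤ := by
      ext y
      simp only [TopologicalSpace.Opens.coe_top, Set.mem_univ, iff_true]
      exact hcon y
    rw [htop] at haff
    haveI : IsAffine (↑(⊤ : X.Opens) : Scheme.{u}) := haff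
    exact not_isAffine k hdim (IsAffine.of_isIso (Scheme.topIso X).inv)
  obtain ⟨y, hy⟩ := hne
  have h1 := deg_pos k hdim _ hN s hs y hy
  rw [deg_tensorPow k hdim L hL (n + 1)] at h1
  have h2 : (0 : ℤ) < ((n + 1 : ℕ) : ℤ) := by exact_mod_cast Nat.succ_pos n
  by_contra hle
  rw [not_lt] at hle
  nlinarith

/-- an invertible module of positive degree on an integral proper curve is ample. -/
theorem isAmple_of_deg_pos (hdim : topologicalKrullDim X = 1) (L : X.Modules) (hL : PicF.IsInvertible L)
    (hdeg : 0 < Curv2.deg k X L 1) : CohB1.IsAmple L := by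
  haveI := isLocallyNoetherian (X := X) k
  haveI : CompactSpace X := (quasiCompact_iff_compactSpace (X ↘ Spec (CommRingCat.of k))).1 inferInstance
  apply Groth.Agent.Lib.T2H6.AmpleCrit.isAmple_of_vanishing L hL
  intro I i hi hI
  haveI := hi
  have hIc : Coh.IsCoh I := Groth.Agent.Lib.T2H5.Devissage.isCoh_of_mono i
    Groth.Agent.Lib.T2H5.GenIsoF.isCoh_structureModule hI
  obtain ⟨n₀, hn₀⟩ := exists_vanishing k hdim L hL hdeg I hIc
  exact ⟨n₀, hn₀ (n₀ + 1) (Nat.le_succ _)⟩

end Groth.Agent.Lib.T2H6.CurveAmple
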