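import Mathlib
import Groth.Agent.Lib.T2H6CurveAmple
import Groth.Agent.Lib.T2H6AmpleCrit
import Groth.Agent.Lib.T2H6AddFnB
import Groth.Agent.Lib.T2H5PushExactB
import Groth.Agent.Lib.T2H5ProjTransfer
import Groth.Agent.Lib.Helper6Reduced
import Groth.Agent.S0786

/-!
# Ampleness on proper schemes of dimension `≤ 1`: positivity of the degree on the components (helper6)

Dévissage reduces Serre vanishing for `L` to modules killed by the ideal of an irreducible closed subset; on a
one-dimensional component this is Serre vanishing on an integral proper curve (`CurveSerre.exists_vanishing`),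
on a closed point it is automatic.  The cohomological criterion `AmpleCrit.isAmple_of_vanishing` concludes.
-/

set_option autoImplicit false
universe u

open AlgebraicGeometry CategoryTheory Limits TopologicalSpace Opposite

namespace Groth.Agent.Lib.T2H6.AmpleComp

open Groth.Agent.Lib.T2H5.Twist Groth.Agent.Lib.T2H6.TensorDeg

variable {X : Scheme.{u}}

/-- eventual vanishing of `H¹(F ⊗ L^n)`. -/
def EvVanish (L F : X.Modules) : Prop :=
  ∃ n₀ : ℕ, ∀ n : ℕ, n₀ ≤ n → Subsingleton (Coh.HH X (CohB1.tensorMod F (CohB1.tensorPow L n)) 1)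

theorem EvVanish.of_iso {L F F' : X.Modules} (e : F ≅ F') (h : EvVanish L F) : EvVanish L F' := by
  obtain ⟨n₀, hn₀⟩ := h
  exact ⟨n₀, fun n hn => Groth.Agent.Lib.T2H5.PnStruct.subsingleton_HH_of_iso
    (PicGrp.tensorModIso e (Iso.refl _)) 1 (hn₀ n hn)⟩

theorem EvVanish.of_isZero (L : X.Modules) {F : X.Modules} (hF : IsZero F) : EvVanish L F := by
  refine ⟨0, fun n _ => Groth.Agent.Lib.T2H5.KosPn.subsingleton_HH_of_isZero ?_ 1⟩
  haveI := additive_tr (X := X) (CohB1.tensorPow L n)
  exact (tr (CohB1.tensorPow L n)).map_isZero hF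

theorem EvVanish.of_shortExact {L : X.Modules} (hL : PicF.IsInvertible L) (S : ShortComplex X.Modules)
    (hS : S.ShortExact) (h1 : EvVanish L S.X₁) (h3 : EvVanish L S.X₃) : EvVanish L S.X₂ := by
  obtain ⟨n₁, hn₁⟩ := h1
  obtain ⟨n₃, hn₃⟩ := h3
  refine ⟨max n₁ n₃, fun n hn => ?_⟩
  have hS' := shortExact_map_tr (Groth.Agent.Lib.Helper23.SecTw.isInvertible_tensorPow hL n) S hS
  exact Groth.Agent.Lib.T2H5.Dim0.subsingleton_mid _ hS' 1
    (hn₁ n ((le_max_left _ _).trans hn)) (hn₃ n ((le_max_right _ _).trans hn))

/-- transfer of eventual vanishing from a closed subscheme. -/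
theorem EvVanish.of_killed [IsLocallyNoetherian X] (L : X.Modules) (hL : PicF.IsInvertible L)
    (J : X.IdealSheafData)
    (hJ : ∀ G : J.subscheme.Modules, Coh.IsCoh G →
      EvVanish ((Scheme.Modules.pullback J.subschemeι).obj L) G)
    (K : X.Modules) (hK : Coh.IsCoh K) (hk : ClSub.KilledByIdeal J K) : EvVanish L K := by
  obtain ⟨G, hG, ⟨e⟩⟩ := Groth.Agent.S0786.result J.subschemeι K hK (by
    rw [Scheme.IdealSheafData.ker_subschemeι]
    exact hk)
  obtain ⟨n₀, hn₀⟩ := hJ G hG
  refine ⟨n₀, fun n hn => ?_⟩
  obtain ⟨e3⟩ := Groth.Agent.Lib.T2H5.PushExact.nonempty_push_tensor_tensorPow_iso J.subschemeι L hL G n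
  let e4 : CohB1.tensorMod ((Scheme.Modules.pushforward J.subschemeι).obj G) (CohB1.tensorPow L n) ≅
      CohB1.tensorMod K (CohB1.tensorPow L n) := PicGrp.tensorModIso e (Iso.refl _)
  obtain ⟨θ⟩ := Groth.Agent.Lib.T2H5.ProjTransfer.nonempty_equiv_pushforward J.subschemeι
    (CohB1.tensorMod G (CohB1.tensorPow ((Scheme.Modules.pullback J.subschemeι).obj L) n)) 1
  haveI := hn₀ n hn
  exact Groth.Agent.Lib.T2H5.PnStruct.subsingleton_HH_of_iso (e3 ≪≫ e4) 1 θ.symm.subsingleton

theorem radical_radical (J : X.IdealSheafData) : J.radical = J.radical.radical := by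
  refine Scheme.IdealSheafData.ext ?_
  funext U
  rw [Scheme.IdealSheafData.radical_ideal, Scheme.IdealSheafData.radical_ideal,
    Scheme.IdealSheafData.radical_ideal, Ideal.radical_idem]

theorem isIntegral_radical_subscheme (J : X.IdealSheafData)
    (hirr : IsIrreducible (J.support : Set X)) : IsIntegral J.radical.subscheme := by
  haveI : IsReduced J.radical.subscheme :=
    (Groth.Agent.Lib.Helper6.isReduced_subscheme_iff X J.radical).2 (radical_radical J)
  haveI : IrreducibleSpace J.radical.subscheme := Subtype.irreducibleSpace hirr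
  exact isIntegral_of_irreducibleSpace_of_isReduced _

theorem topologicalKrullDim_subscheme (J : X.IdealSheafData) :
    topologicalKrullDim J.subscheme = topologicalKrullDim (J.support : Set X) := by
  have h := J.subschemeι.isEmbedding.toHomeomorph
  rw [IsHomeomorph.topologicalKrullDim_eq _ h.isHomeomorph, Scheme.IdealSheafData.range_subschemeι]

/-- in a space of dimension `≤ 1`, an irreducible closed subset of dimension `≥ 1` is an irreducible component. -/
theorem mem_irreducibleComponents_of_one_le_dim {Y : Type*} [TopologicalSpace Y]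
    (hdim : topologicalKrullDim Y ≤ 1) (Z : Set Y) (hZ : IsClosed Z) (hirr : IsIrreducible Z)
    (hZd : 1 ≤ topologicalKrullDim Z) : Z ∈ irreducibleComponents Y := by
  refine ⟨hirr, fun s hs hZs => ?_⟩
  by_contra hsZ
  obtain ⟨a, b, hab⟩ := Order.one_le_krullDim_iff.1 hZd
  have hind : Topology.IsInducing (Subtype.val : Z → Y) := Topology.IsInducing.subtypeVal
  let A : IrreducibleCloseds Y := IrreducibleCloseds.map Subtype.val hind.continuous a
  let B : IrreducibleCloseds Y := IrreducibleCloseds.map Subtype.val hind.continuous b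
  have hAB : A < B := IrreducibleCloseds.map_strictMono_of_isInducing hind hab
  let T : IrreducibleCloseds Y :=
    { carrier := closure s
      isIrreducible' := hs.closure
      isClosed' := isClosed_closure }
  have hBZ : (B : Set Y) ⊆ Z := by
    change closure (Subtype.val '' (b : Set Z)) ⊆ Z
    refine closure_minimal ?_ hZ
    rintro _ ⟨y, -, rfl⟩
    exact y.2
  have hBT : B < T := by
    refine lt_of_le_of_ne (fun y hy => subset_closure (hZs (hBZ hy))) ?_
    intro h
    apply hsZ
    intro y hy
    have : y ∈ (T : Set Y) := subset_closure hy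
    rw [← h] at this
    exact hBZ this
  rcases Order.krullDim_le_one_iff.1 hdim B with h | h
  · exact absurd hAB (h.not_lt)
  · exact absurd hBT (h.not_lt)

theorem le_zero_of_not_one_le (d : WithBot ℕ∞) (h : ¬ 1 ≤ d) : d ≤ 0 := by
  rw [not_le] at h
  induction d using WithBot.recBotCoe with
  | bot => exact bot_le
  | coe n =>
    have h1 : n < 1 := by exact_mod_cast h
    have h2 : n = 0 := Order.lt_one_iff.1 h1
    rw [h2]
    rfl

/-- modules killed by an ideal are supported on its support. -/
theorem support_subset_of_killed [IsLocallyNoetherian X] (J : X.IdealSheafData) (K : X.Modules)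
    (hK : Coh.IsCoh K) (hk : ClSub.KilledByIdeal J K) : CohB1.support K ⊆ (J.support : Set X) := by
  obtain ⟨G, hG, ⟨e⟩⟩ := Groth.Agent.S0786.result J.subschemeι K hK (by
    rw [Scheme.IdealSheafData.ker_subschemeι]
    exact hk)
  rw [← Groth.Agent.Lib.T2H5.GenIsoB.support_eq_of_iso e]
  have h1 := Groth.Agent.Lib.T2H5.GenIsoC.support_pushforward_subset J.subschemeι G (by
    rw [Scheme.IdealSheafData.range_subschemeι]; exact J.support.isClosed)
  rwa [Scheme.IdealSheafData.range_subschemeι] at h1

variable (k : Type u) [Field k] [X.Over (Spec (CommRingCat.of k))]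
  [IsProper (X ↘ Spec (CommRingCat.of k))]

/-- Serre vanishing on a proper scheme of dimension `≤ 1` for a module of positive degree on all components. -/
theorem evVanish_of_deg_pos [IsNoetherian X] (hdim : topologicalKrullDim X ≤ 1) (L : X.Modules)
    (hL : PicF.IsInvertible L)
    (h : ∀ (C : Set X) (hC : C ∈ irreducibleComponents (X : Type u)),
      topologicalKrullDim C = 1 → 0 < @Curv2.deg k _ (X.irreducibleComponentIdeal C hC).radical.subscheme
        ⟨(X.irreducibleComponentIdeal C hC).radical.subschemeι ≫ (X ↘ (Spec (CommRingCat.of k)))⟩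
        ((Scheme.Modules.pullback (X.irreducibleComponentIdeal C hC).radical.subschemeι).obj L) 1)
    (F : X.Modules) (hF : Coh.IsCoh F) : EvVanish L F := by
  refine Groth.Agent.Lib.T2H5.Devissage.core (EvVanish L) (fun M N ⟨e⟩ hM => hM.of_iso e)
    (fun M hM => EvVanish.of_isZero L hM)
    (fun S hS _ _ _ h1 h3 => EvVanish.of_shortExact hL S hS h1 h3) Set.univ ?_ F hF (Set.subset_univ _)
  intro Z hZ hirr _ _ M hM hk
  by_cases hZd : 1 ≤ topologicalKrullDim Z
  · have hC := mem_irreducibleComponents_of_one_le_dim hdim Z hZ hirr hZd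
    have hd1 : topologicalKrullDim Z = 1 :=
      le_antisymm ((topologicalKrullDim_subspace_le X Z).trans hdim) hZd
    have hdeg := h Z hC hd1
    have hJ : Scheme.IdealSheafData.vanishingIdeal ⟨Z, hZ⟩ = (X.irreducibleComponentIdeal Z hC).radical := by
      rw [← Scheme.IdealSheafData.vanishingIdeal_support]
      rfl
    rw [hJ] at hk
    refine EvVanish.of_killed L hL _ ?_ M hM hk
    letI : (X.irreducibleComponentIdeal Z hC).radical.subscheme.Over (Spec (CommRingCat.of k)) :=
      ⟨(X.irreducibleComponentIdeal Z hC).radical.subschemeι ≫ (X ↘ (Spec (CommRingCat.of k)))⟩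
    haveI : IsProper ((X.irreducibleComponentIdeal Z hC).radical.subscheme ↘ Spec (CommRingCat.of k)) :=
      inferInstanceAs (IsProper ((X.irreducibleComponentIdeal Z hC).radical.subschemeι ≫
        (X ↘ (Spec (CommRingCat.of k)))))
    haveI : IsIntegral (X.irreducibleComponentIdeal Z hC).radical.subscheme :=
      isIntegral_radical_subscheme _ hirr
    have hdimC : topologicalKrullDim (X.irreducibleComponentIdeal Z hC).radical.subscheme = 1 := by
      rw [topologicalKrullDim_subscheme]
      exact hd1
    intro G hG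
    exact Groth.Agent.Lib.T2H6.CurveSerre.exists_vanishing k hdimC _
      (Groth.Agent.Lib.Helper23.PB.isInvertible_pullback _ L hL) hdeg G hG
  · have hZ0 := le_zero_of_not_one_le _ hZd
    have hpts : ∀ x ∈ Z, IsClosed ({x} : Set X) := fun x hx =>
      Groth.Agent.Lib.T2H6.AddFnB.isClosed_singleton_of_dim_le_zero Z hZ hZ0 x hx
    have hsupp := support_subset_of_killed _ M hM hk
    rw [Scheme.IdealSheafData.coe_support_vanishingIdeal] at hsupp
    refine ⟨0, fun n _ => Groth.Agent.S0047.result X _
      (isCoh_tensor M _ hM (Groth.Agent.Lib.T2H6.CurveDeg.isCoh_of_isInvertible _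
        (Groth.Agent.Lib.Helper23.SecTw.isInvertible_tensorPow hL n)))
      (fun x hx => hpts x (hsupp (Groth.Agent.Lib.T2H5.Dim0.support_tensorMod_subset _ _ hx))) 1 Nat.one_pos⟩

/-- an ample module has positive degree on every one-dimensional component. -/
theorem deg_pos_of_isAmple_component [IsNoetherian X] (L : X.Modules) (hA : CohB1.IsAmple L)
    (C : Set X) (hC : C ∈ irreducibleComponents (X : Type u)) (hCd : topologicalKrullDim C = 1) :
    0 < @Curv2.deg k _ (X.irreducibleComponentIdeal C hC).radical.subscheme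
        ⟨(X.irreducibleComponentIdeal C hC).radical.subschemeι ≫ (X ↘ (Spec (CommRingCat.of k)))⟩
        ((Scheme.Modules.pullback (X.irreducibleComponentIdeal C hC).radical.subschemeι).obj L) 1 := by
  letI : (X.irreducibleComponentIdeal C hC).radical.subscheme.Over (Spec (CommRingCat.of k)) :=
    ⟨(X.irreducibleComponentIdeal C hC).radical.subschemeι ≫ (X ↘ (Spec (CommRingCat.of k)))⟩
  haveI : IsProper ((X.irreducibleComponentIdeal C hC).radical.subscheme ↘ Spec (CommRingCat.of k)) :=
    inferInstanceAs (IsProper ((X.irreducibleComponentIdeal C hC).radical.subschemeι ≫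
      (X ↘ (Spec (CommRingCat.of k)))))
  haveI : IsIntegral (X.irreducibleComponentIdeal C hC).radical.subscheme :=
    isIntegral_radical_subscheme _ hC.1
  have hdimC : topologicalKrullDim (X.irreducibleComponentIdeal C hC).radical.subscheme = 1 := by
    rw [topologicalKrullDim_subscheme]
    exact hCd
  exact Groth.Agent.Lib.T2H6.CurveAmple.deg_pos_of_isAmple k hdimC _
    (Groth.Agent.Lib.Helper23.PB.isAmple_pullback_of_isAffineHom _ L hA)

/-- **Ampleness on a proper scheme of dimension `≤ 1`** is positivity of the degree on the components. -/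
theorem isAmple_iff [IsNoetherian X] (hdim : topologicalKrullDim X ≤ 1) (L : X.Modules)
    (hL : PicF.IsInvertible L) :
    CohB1.IsAmple L ↔ ∀ (C : Set X) (hC : C ∈ irreducibleComponents (X : Type u)),
      topologicalKrullDim C = 1 → 0 < @Curv2.deg k _ (X.irreducibleComponentIdeal C hC).radical.subscheme
        ⟨(X.irreducibleComponentIdeal C hC).radical.subschemeι ≫ (X ↘ (Spec (CommRingCat.of k)))⟩
        ((Scheme.Modules.pullback (X.irreducibleComponentIdeal C hC).radical.subschemeι).obj L) 1 := by
  constructor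
  · intro hA C hC hCd
    exact deg_pos_of_isAmple_component k L hA C hC hCd
  · intro h
    haveI : CompactSpace X :=
      (quasiCompact_iff_compactSpace (X ↘ Spec (CommRingCat.of k))).1 inferInstance
    apply Groth.Agent.Lib.T2H6.AmpleCrit.isAmple_of_vanishing L hL
    intro I i hi hI
    haveI := hi
    have hOc : Coh.IsCoh (Coh.structureModule X) := Groth.Agent.Lib.T2H5.GenIsoF.isCoh_structureModule
    have hIc : Coh.IsCoh I := Groth.Agent.Lib.T2H5.Devissage.isCoh_of_mono i hOc hI
    obtain ⟨n₀, hn₀⟩ := evVanish_of_deg_pos k hdim L hL h I hIc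
    exact ⟨n₀, hn₀ (n₀ + 1) (Nat.le_succ _)⟩

end Groth.Agent.Lib.T2H6.AmpleComp
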