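import Mathlib
import Groth.Agent.Lib.T2H6TensorDeg
import Groth.Agent.Lib.T2H6AddFnB
import Groth.Agent.Lib.T2H6AmpleComp
import Groth.Agent.Lib.T2H5ProjFLF4
import Groth.Agent.Lib.T2H5T2Lin
import Groth.Agent.Lib.T2H5GenIsoE
import Groth.Agent.Lib.T2H5ClosedTransfer
import Groth.Agent.Lib.Helper26ModRank
import Groth.Agent.S0786
import Groth.Agent.S0028
set_option backward.isDefEq.respectTransparency.types false

/-!
# Degree of a tensor product of bundles on a proper scheme of dimension `≤ 1` (helper6)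

Projection formula in `tensorMod` form, Euler characteristic of a direct image under an affine morphism, and the
dévissage `deg(E ⊗ V) = n · deg V + m · deg E` on an arbitrary proper scheme of dimension `≤ 1` over a field.
-/

set_option autoImplicit false
set_option linter.style.haveILetI false
set_option linter.unusedSectionVars false
universe u

open AlgebraicGeometry CategoryTheory Limits TopologicalSpace Opposite

namespace Groth.Agent.Lib.T2H6.TensorDegGen

open Groth.Agent.Lib.T2H5.Twist Groth.Agent.Lib.T2H6.TensorDeg Groth.Agent.Lib.T2H6.AddFn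
  Groth.Agent.Lib.Helper1.PT Groth.Agent.Lib.Helper21.ModTensor5 Groth.Agent.Lib.T2H5.ProjFLF

section Proj

variable {X Y : Scheme.{u}} (f : X ⟶ Y)

/-- **projection formula**: `f_*(G ⊗ f^*E) ≅ f_*G ⊗ E` for `E` finite locally free. -/
theorem nonempty_push_tensor_pullback_iso (E : Y.Modules) (hE : FlatMod.IsFinLocFree E) (G : X.Modules) :
    Nonempty ((Scheme.Modules.pushforward f).obj
        (CohB1.tensorMod G ((Scheme.Modules.pullback f).obj E)) ≅
      CohB1.tensorMod ((Scheme.Modules.pushforward f).obj G) E) := by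
  haveI := isIso_alpha_of_isFinLocFree f E hE G
  let c1 : (psh f).obj (tens G ((plb f).obj E)) ≅ (psh f).obj (tens ((plb f).obj E) G) :=
    (psh f).mapIso (brdApp X.sheaf _ _)
  let c2 : (psh f).obj (tens ((plb f).obj E) G) ≅ tens E ((psh f).obj G) := (asIso (alpha f E G)).symm
  let c3 : tens E ((psh f).obj G) ≅ tens ((psh f).obj G) E := brdApp Y.sheaf _ _
  exact ⟨c1 ≪≫ c2 ≪≫ c3⟩

variable (k : Type u) [Field k] [X.Over (Spec (CommRingCat.of k))] [Y.Over (Spec (CommRingCat.of k))]

/-- the cohomology of a direct image under an affine morphism, dimensions. -/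
theorem finrank_HH_pushforward [IsAffineHom f]
    (hf : f ≫ (Y ↘ Spec (CommRingCat.of k)) = X ↘ Spec (CommRingCat.of k))
    (G : X.Modules) [G.IsQuasicoherent] (p : ℕ) :
    Module.finrank k (Coh.HH Y ((Scheme.Modules.pushforward f).obj G) p) =
      Module.finrank k (Coh.HH X G p) := by
  obtain ⟨e⟩ := Groth.Agent.Lib.T2H5.T2Lin.nonempty_linearEquiv f k hf G
    (fun q => Groth.Agent.S0028.result f G (q + 1) (Nat.succ_pos q)) p
  exact e.finrank_eq

/-- the Euler characteristic of a direct image under an affine morphism. -/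
theorem euler_pushforward [IsAffineHom f]
    (hf : f ≫ (Y ↘ Spec (CommRingCat.of k)) = X ↘ Spec (CommRingCat.of k))
    (G : X.Modules) [G.IsQuasicoherent] :
    Curv2.euler k Y ((Scheme.Modules.pushforward f).obj G) = Curv2.euler k X G := by
  unfold Curv2.euler
  refine finsum_congr fun p => ?_
  rw [finrank_HH_pushforward f k hf G p]

end Proj

section AddFn

variable {X : Scheme.{u}}

/-- precomposing an additive function with `- ⊗ E`, `E` finite locally free. -/
theorem IsAddFn.comp_tr {Φ : X.Modules → ℤ} (hΦ : IsAddFn Φ) (E : X.Modules) (n : ℕ)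
    (hE : FlatMod.IsFinLocFreeOfRank n E) : IsAddFn (fun F => Φ (CohB1.tensorMod F E)) := by
  have hEc := Groth.Agent.Lib.T2H6.RankAdd.isCoh_of_isFinLocFreeOfRank E n hE
  have hlf : FlatMod.IsFinLocFree E := fun x => by
    obtain ⟨U, hx, h⟩ := hE x
    exact ⟨U, n, hx, h⟩
  haveI := preservesFiniteLimits_tr_of_isFinLocFree E hlf
  haveI := preservesFiniteColimits_tr E
  refine ⟨?_, ?_, ?_⟩
  · intro M N e hM
    exact hΦ.iso ((tr E).mapIso e) (isCoh_tensor M E hM hEc)
  · intro M hM
    exact hΦ.zero _ (Functor.map_isZero (tr E) hM)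
  · intro S hS h1 h2 h3
    have hS' : (S.map (tr E)).ShortExact := hS.map_of_exact (tr E)
    exact hΦ.add _ hS' (isCoh_tensor _ E h1 hEc) (isCoh_tensor _ E h2 hEc) (isCoh_tensor _ E h3 hEc)

theorem VanishesOnPoints.comp_tr {Φ : X.Modules → ℤ} (hΦ : VanishesOnPoints Φ) (E : X.Modules)
    (hEc : Coh.IsCoh E) : VanishesOnPoints (fun F => Φ (CohB1.tensorMod F E)) := by
  intro M x hM hx hsupp
  exact hΦ _ x (isCoh_tensor M E hM hEc) hx
    ((Groth.Agent.Lib.T2H5.Dim0.support_tensorMod_subset M E).trans hsupp)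

end AddFn

section Integral

open Groth.Agent.Lib.T2H6.CurveSS2

variable {X : Scheme.{u}} [IsIntegral X]

/-- the generic rank of `G ⊗ E`, `E` finite locally free of rank `n`. -/
theorem grank_tensor [IsNoetherian X] (G : X.Modules) (hG : Coh.IsCoh G) (E : X.Modules) (n : ℕ)
    (hE : FlatMod.IsFinLocFreeOfRank n E) :
    grank (CohB1.tensorMod G E) = grank G * n := by
  have hEc := Groth.Agent.Lib.T2H6.RankAdd.isCoh_of_isFinLocFreeOfRank E n hE
  obtain ⟨r, hr⟩ := exists_rank_forall_addFn G hG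
  have h1 := hr _ isAddFn_grank vanishesOnTorsion_grank
  have h2 := hr _ (IsAddFn.comp_tr isAddFn_grank E n hE) (by
    intro T hT hξ
    exact vanishesOnTorsion_grank _ (isCoh_tensor T E hT hEc)
      (fun h => hξ (Groth.Agent.Lib.T2H5.Dim0.support_tensorMod_subset T E h)))
  have hO1 : FlatMod.IsFinLocFreeOfRank 1 (Coh.structureModule X) :=
    Groth.Agent.Lib.Helper23.SecTw.isFinLocFreeOfRank_one_of_isInvertible _
      (Groth.Agent.Lib.Helper23.TensorUnit.isInvertible_structureModule X)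
  rw [grank_of_isFinLocFreeOfRank _ 1 hO1] at h1
  obtain ⟨ε⟩ := Groth.Agent.Lib.T2H6.TensorFree.nonempty_unitTensorIso' E
  have hOc : Coh.IsCoh (Coh.structureModule X) :=
    Groth.Agent.Lib.T2H5.GenIsoF.isCoh_structureModule
  have h3 : ((grank (CohB1.tensorMod (Coh.structureModule X) E) : ℕ) : ℤ) = n := by
    rw [isAddFn_grank.iso ε (isCoh_tensor _ E hOc hEc), grank_of_isFinLocFreeOfRank _ n hE]
  rw [h3] at h2
  have : ((grank (CohB1.tensorMod G E) : ℕ) : ℤ) = (grank G : ℤ) * n := by
    rw [h2, h1]; ring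
  exact_mod_cast this

end Integral

section Main

open Groth.Agent.Lib.T2H6.CurveSS2

variable {X : Scheme.{u}} (k : Type u) [Field k] [X.Over (Spec (CommRingCat.of k))]
  [IsProper (X ↘ Spec (CommRingCat.of k))]

/-- `Ψ_V` of a direct image from an integral closed curve. -/
theorem psi_pushforward {Z : Scheme.{u}} (i : Z ⟶ X) [IsClosedImmersion i]
    [Z.Over (Spec (CommRingCat.of k))] [IsProper (Z ↘ Spec (CommRingCat.of k))] [IsIntegral Z]
    (hi : i ≫ (X ↘ Spec (CommRingCat.of k)) = Z ↘ Spec (CommRingCat.of k))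
    (hdim : topologicalKrullDim Z = 1) (V : X.Modules) (m : ℕ)
    (hV : FlatMod.IsFinLocFreeOfRank m V) (G : Z.Modules) (hG : Coh.IsCoh G) :
    TensorDeg.psi k V m ((Scheme.Modules.pushforward i).obj G) =
      (grank G : ℤ) * Curv2.deg k Z ((Scheme.Modules.pullback i).obj V) m := by
  haveI : IsNoetherian X := Groth.Agent.Lib.T2H6.CurveSatur.isNoetherian_of_proper k
  have hVc := Groth.Agent.Lib.T2H6.RankAdd.isCoh_of_isFinLocFreeOfRank V m hV
  haveI := hVc.1
  haveI := hG.1
  have hlf : FlatMod.IsFinLocFree V := fun x => by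
    obtain ⟨U, hx, h⟩ := hV x
    exact ⟨U, m, hx, h⟩
  have hV' : FlatMod.IsFinLocFreeOfRank m ((Scheme.Modules.pullback i).obj V) :=
    Groth.Agent.Lib.Helper26.ModRank.isFinLocFreeOfRank_pullback i V hV
  have hVc' := Groth.Agent.Lib.T2H6.RankAdd.isCoh_of_isFinLocFreeOfRank _ m hV'
  have hGV : Coh.IsCoh (CohB1.tensorMod G ((Scheme.Modules.pullback i).obj V)) :=
    isCoh_tensor G _ hG hVc'
  haveI := hGV.1
  obtain ⟨e⟩ := nonempty_push_tensor_pullback_iso i V hlf G
  have hpG : Coh.IsCoh ((Scheme.Modules.pushforward i).obj G) :=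
    Groth.Agent.Lib.T2H5.ClosedTransfer.isCoh_pushforward i G hG
  have h1 : Curv2.euler k X (CohB1.tensorMod ((Scheme.Modules.pushforward i).obj G) V) =
      Curv2.euler k Z (CohB1.tensorMod G ((Scheme.Modules.pullback i).obj V)) := by
    rw [← Groth.Agent.Lib.T2H6.HiggsCurve.euler_eq_of_iso k e
      (Groth.Agent.Lib.T2H5.ClosedTransfer.isCoh_pushforward i _ hGV)]
    exact euler_pushforward i k hi _
  have h2 : Curv2.euler k X ((Scheme.Modules.pushforward i).obj G) = Curv2.euler k Z G :=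
    euler_pushforward i k hi G
  have h3 := tensor_euler k hdim _ m hV' G hG
  unfold TensorDeg.psi
  rw [h1, h2, h3]
  ring

/-- `Ψ_V(F ⊗ E) = n · Ψ_V(F)` on a proper scheme of dimension `≤ 1`. -/
theorem psi_tensor (hdim : topologicalKrullDim X ≤ 1) (n m : ℕ) (E V : X.Modules)
    (hE : FlatMod.IsFinLocFreeOfRank n E) (hV : FlatMod.IsFinLocFreeOfRank m V)
    (F : X.Modules) (hF : Coh.IsCoh F) :
    TensorDeg.psi k V m (CohB1.tensorMod F E) = n * TensorDeg.psi k V m F := by
  haveI : IsNoetherian X := Groth.Agent.Lib.T2H6.CurveSatur.isNoetherian_of_proper k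
  have hEc := Groth.Agent.Lib.T2H6.RankAdd.isCoh_of_isFinLocFreeOfRank E n hE
  have hVc := Groth.Agent.Lib.T2H6.RankAdd.isCoh_of_isFinLocFreeOfRank V m hV
  haveI := hEc.1
  have hlfE : FlatMod.IsFinLocFree E := fun x => by
    obtain ⟨U, hx, h⟩ := hE x
    exact ⟨U, n, hx, h⟩
  have hΦ2 : IsAddFn (TensorDeg.psi k V m) := isAddFn_psi k V m hV
  have hΦ1 : IsAddFn (fun F => TensorDeg.psi k V m (CohB1.tensorMod F E)) :=
    IsAddFn.comp_tr hΦ2 E n hE
  have hp2 : VanishesOnPoints (TensorDeg.psi k V m) := vanishesOnPoints_psi k V m hV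
  have hp1 : VanishesOnPoints (fun F => TensorDeg.psi k V m (CohB1.tensorMod F E)) :=
    VanishesOnPoints.comp_tr hp2 E hEc
  refine Groth.Agent.Lib.T2H5.Devissage.core
    (fun M => Coh.IsCoh M → TensorDeg.psi k V m (CohB1.tensorMod M E) = n * TensorDeg.psi k V m M)
    ?_ ?_ ?_ Set.univ ?_ F hF (Set.subset_univ _) hF
  · rintro M N ⟨e⟩ hM hN
    have hMc : Coh.IsCoh M := Groth.Agent.Lib.T2H5.Devissage.isCoh_of_iso e.symm hN
    have h1 := hΦ1.iso e hMc
    have h2 := hΦ2.iso e hMc
    rw [← h1, ← h2]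
    exact hM hMc
  · intro M hM _
    have h1 := hΦ1.zero M hM
    have h2 := hΦ2.zero M hM
    rw [h1, h2, mul_zero]
  · intro S hS c1 c2 c3 hP1 hP3 _
    have h1 := hΦ1.add S hS c1 c2 c3
    have h2 := hΦ2.add S hS c1 c2 c3
    rw [h1, h2, hP1 c1, hP3 c3]
    ring
  · intro Z hZ hirr _ _ M hM hk _
    by_cases hZd : 1 ≤ topologicalKrullDim Z
    · -- one-dimensional integral closed subscheme
      have hd1 : topologicalKrullDim Z = 1 :=
        le_antisymm ((topologicalKrullDim_subspace_le X Z).trans hdim) hZd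
      set J := Scheme.IdealSheafData.vanishingIdeal ⟨Z, hZ⟩ with hJ
      letI : J.subscheme.Over (Spec (CommRingCat.of k)) :=
        ⟨J.subschemeι ≫ (X ↘ (Spec (CommRingCat.of k)))⟩
      haveI : IsProper (J.subscheme ↘ Spec (CommRingCat.of k)) :=
        inferInstanceAs (IsProper (J.subschemeι ≫ (X ↘ (Spec (CommRingCat.of k)))))
      haveI : IsIntegral J.subscheme :=
        Groth.Agent.Lib.T2H5.GenIsoE.isIntegral_subscheme_vanishingIdeal Z hZ hirr
      haveI : IsNoetherian J.subscheme := Groth.Agent.Lib.T2H6.CurveSatur.isNoetherian_of_proper k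
      have hdimC : topologicalKrullDim J.subscheme = 1 := by
        rw [Groth.Agent.Lib.T2H6.AmpleComp.topologicalKrullDim_subscheme,
          Scheme.IdealSheafData.coe_support_vanishingIdeal]
        exact hd1
      obtain ⟨G, hG, ⟨e⟩⟩ := Groth.Agent.S0786.result J.subschemeι M hM (by
        rw [Scheme.IdealSheafData.ker_subschemeι]
        exact hk)
      have hpG : Coh.IsCoh ((Scheme.Modules.pushforward J.subschemeι).obj G) :=
        Groth.Agent.Lib.T2H5.ClosedTransfer.isCoh_pushforward J.subschemeι G hG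
      have hE' : FlatMod.IsFinLocFreeOfRank n ((Scheme.Modules.pullback J.subschemeι).obj E) :=
        Groth.Agent.Lib.Helper26.ModRank.isFinLocFreeOfRank_pullback J.subschemeι E hE
      have hEc' := Groth.Agent.Lib.T2H6.RankAdd.isCoh_of_isFinLocFreeOfRank _ n hE'
      have hGE : Coh.IsCoh (CohB1.tensorMod G ((Scheme.Modules.pullback J.subschemeι).obj E)) :=
        isCoh_tensor G _ hG hEc'
      obtain ⟨ε⟩ := nonempty_push_tensor_pullback_iso J.subschemeι E hlfE G
      have h1 := hΦ1.iso e hpG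
      have h2 := hΦ2.iso e hpG
      rw [← h1, ← h2,
        ← hΦ2.iso ε (Groth.Agent.Lib.T2H5.ClosedTransfer.isCoh_pushforward J.subschemeι _ hGE),
        psi_pushforward k J.subschemeι rfl hdimC V m hV _ hGE,
        psi_pushforward k J.subschemeι rfl hdimC V m hV G hG,
        grank_tensor G hG _ n hE']
      push_cast
      ring
    · have hZ0 := Groth.Agent.Lib.T2H6.AmpleComp.le_zero_of_not_one_le _ hZd
      have hpts : ∀ x ∈ Z, IsClosed ({x} : Set X) := fun x hx =>
        Groth.Agent.Lib.T2H6.AddFnB.isClosed_singleton_of_dim_le_zero Z hZ hZ0 x hx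
      have hsupp := Groth.Agent.Lib.T2H6.AmpleComp.support_subset_of_killed _ M hM hk
      rw [Scheme.IdealSheafData.coe_support_vanishingIdeal] at hsupp
      have hpts' : ∀ x ∈ CohB1.support M, IsClosed ({x} : Set X) := fun x hx => hpts x (hsupp hx)
      have h1 := Groth.Agent.Lib.T2H6.AddFnB.IsAddFn.eq_zero_of_closedPoints hΦ1 hp1 M hM hpts'
      have h2 := Groth.Agent.Lib.T2H6.AddFnB.IsAddFn.eq_zero_of_closedPoints hΦ2 hp2 M hM hpts'
      rw [h1, h2, mul_zero]

/-- **Degree of a tensor product of bundles** on a proper scheme of dimension `≤ 1`. -/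
theorem deg_tensor (hdim : topologicalKrullDim X ≤ 1) (n m : ℕ) (E V : X.Modules)
    (hE : FlatMod.IsFinLocFreeOfRank n E) (hV : FlatMod.IsFinLocFreeOfRank m V) :
    Curv2.deg k X (CohB1.tensorMod E V) (n * m) =
      n * Curv2.deg k X V m + m * Curv2.deg k X E n := by
  have hEc := Groth.Agent.Lib.T2H6.RankAdd.isCoh_of_isFinLocFreeOfRank E n hE
  have hVc := Groth.Agent.Lib.T2H6.RankAdd.isCoh_of_isFinLocFreeOfRank V m hV
  have hOc : Coh.IsCoh (Coh.structureModule X) :=
    Groth.Agent.Lib.T2H5.GenIsoF.isCoh_structureModule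
  have key := psi_tensor k hdim n m E V hE hV _ hOc
  obtain ⟨ε⟩ := Groth.Agent.Lib.T2H6.TensorFree.nonempty_unitTensorIso' E
  obtain ⟨ε'⟩ := Groth.Agent.Lib.T2H6.TensorFree.nonempty_unitTensorIso' V
  have hOE : Coh.IsCoh (CohB1.tensorMod (Coh.structureModule X) E) := isCoh_tensor _ E hOc hEc
  have h1 : Curv2.euler k X (CohB1.tensorMod (CohB1.tensorMod (Coh.structureModule X) E) V) =
      Curv2.euler k X (CohB1.tensorMod E V) :=
    Groth.Agent.Lib.T2H6.HiggsCurve.euler_eq_of_iso k ((tr V).mapIso ε) (isCoh_tensor _ V hOE hVc)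
  have h2 : Curv2.euler k X (CohB1.tensorMod (Coh.structureModule X) E) = Curv2.euler k X E :=
    Groth.Agent.Lib.T2H6.HiggsCurve.euler_eq_of_iso k ε hOE
  have h3 : Curv2.euler k X (CohB1.tensorMod (Coh.structureModule X) V) = Curv2.euler k X V :=
    Groth.Agent.Lib.T2H6.HiggsCurve.euler_eq_of_iso k ε' (isCoh_tensor _ V hOc hVc)
  unfold TensorDeg.psi at key
  rw [h1, h2, h3] at key
  unfold Curv2.deg
  push_cast
  linarith

end Main

end Groth.Agent.Lib.T2H6.TensorDegGen
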