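import Mathlib
import Groth.Agent.Lib.T2H6TensorDegGen
import Groth.Agent.Lib.T2H5GenIsoE
import Groth.Agent.Lib.T2H5FinSurj
import Groth.Agent.Lib.T2H5ClosedLin
import Groth.Agent.Lib.Helper10RatFunNoeth
import Groth.Agent.Lib.Helper23UnitStalk
import Groth.Agent.Lib.T2H6ParShC
import Groth.Agent.Lib.T2H5Dev2
import Groth.Agent.Lib.Helper2FibreCrit2
set_option backward.isDefEq.respectTransparency.types false

/-!
# Degree as a sum over the components with multiplicities (helper6)

On a proper scheme of dimension `≤ 1` over a field, `Ψ_E(F) = χ(F ⊗ E) - n χ(F)` equals the sum over the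
one-dimensional irreducible components `C` of `length(F_{ξ_C}) · deg(E|_C)`.
-/

set_option autoImplicit false
set_option linter.style.haveILetI false
set_option linter.unusedSectionVars false
universe u

open AlgebraicGeometry CategoryTheory Limits TopologicalSpace Opposite

namespace Groth.Agent.Lib.T2H6.DegComp

open Groth.Agent.Lib.T2H5.Twist Groth.Agent.Lib.T2H6.TensorDeg Groth.Agent.Lib.T2H6.AddFn
  Groth.Agent.Lib.T2H6.TensorDegGen Groth.Agent.Lib.T2H6.CurveSS2 Groth.Agent.Lib.T2H5.GenIsoA
  Groth.Agent.Lib.T2H5.GenIsoB Groth.Agent.Lib.T2H5.GenIsoC Groth.Agent.Lib.T2H5.GenIsoE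
  Groth.Agent.Lib.Helper4.NormDelta Groth.Agent.Lib.Helper23.StalkLin
  Groth.Agent.Lib.Helper10.RatFunNoeth

section Simple

variable {X : Scheme.{u}}

/-- the maximal ideal of the local ring at the generic point of an integral closed subscheme kills the stalk of its
structure sheaf. -/
theorem smul_stalk_quotMod_eq_zero (J : X.IdealSheafData) [IsIntegral J.subscheme] :
    ∀ a ∈ IsLocalRing.maximalIdeal (X.presheaf.stalk (J.subschemeι (genericPoint J.subscheme))),
    ∀ m : ↑((ClSub.quotMod J).presheaf.stalk (J.subschemeι (genericPoint J.subscheme))), a • m = 0 := by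
  set ξ := J.subschemeι (genericPoint J.subscheme) with hξ
  set M := ClSub.quotMod J with hM
  intro a ha m
  obtain ⟨W₀, hξW₀, s₀, rfl⟩ := M.presheaf.exists_germ_eq m
  obtain ⟨W₁, hξW₁, a₁, rfl⟩ := X.presheaf.exists_germ_eq a
  have hξW : ξ ∈ W₀ ⊓ W₁ := ⟨hξW₀, hξW₁⟩
  rw [← TopCat.Presheaf.germ_res_apply M.presheaf (homOfLE inf_le_left) ξ hξW s₀,
    ← TopCat.Presheaf.germ_res_apply X.presheaf (homOfLE inf_le_right) ξ hξW a₁,
    ← Groth.Agent.Lib.Helper2.QCoh.germ_smul]
  rw [← TopCat.Presheaf.germ_res_apply X.presheaf (homOfLE inf_le_right) ξ hξW a₁] at ha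
  set W := W₀ ⊓ W₁ with hW
  set a' := X.presheaf.map (homOfLE (inf_le_right : W₀ ⊓ W₁ ≤ W₁)).op a₁ with ha'
  set s := M.presheaf.map (homOfLE (inf_le_left : W₀ ⊓ W₁ ≤ W₀)).op s₀ with hs
  have hzero : J.subschemeι.app W a' = 0 := by
    haveI : IsReduced J.subscheme := inferInstance
    rw [← basicOpen_eq_bot_iff, ← Scheme.preimage_basicOpen]
    ext z
    simp only [Opens.coe_bot, Set.mem_empty_iff_false, iff_false]
    intro hz
    have hz' : J.subschemeι z ∈ X.basicOpen a' := hz
    have hspec : genericPoint J.subscheme ⤳ z := genericPoint_specializes z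
    have hspec' : ξ ⤳ J.subschemeι z := hspec.map J.subschemeι.continuous
    have hξb : ξ ∈ X.basicOpen a' := hspec'.mem_open (X.basicOpen a').2 hz'
    rw [Scheme.mem_basicOpen X a' ξ hξW] at hξb
    exact (IsLocalRing.mem_maximalIdeal _).1 ha hξb
  have hsm : a' • s = 0 := by
    have h1 : a' • s = ((J.subschemeι.app W a') •
        (show Γ(Coh.structureModule J.subscheme, J.subschemeι ⁻¹ᵁ W) from s) :
          Γ(Coh.structureModule J.subscheme, J.subschemeι ⁻¹ᵁ W)) := rfl
    rw [h1, hzero]
    exact zero_smul Γ(J.subscheme, J.subschemeι ⁻¹ᵁ W)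
      (show Γ(Coh.structureModule J.subscheme, J.subschemeι ⁻¹ᵁ W) from s)
  rw [hsm, map_zero]

/-- the stalk of `O_Z` at the generic point of the integral closed subscheme `Z` has length one over the local ring
of `X`. -/
theorem lenAt_quotMod (J : X.IdealSheafData) [IsIntegral J.subscheme] :
    lenAt (J.subschemeι (genericPoint J.subscheme)) (ClSub.quotMod J) = 1 := by
  set ξ := J.subschemeι (genericPoint J.subscheme) with hξ
  let φ : X.presheaf.stalk ξ →ₗ[X.presheaf.stalk ξ] ↑((ClSub.quotMod J).presheaf.stalk ξ) :=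
    (stalkLin (ClSub.toSubscheme J) ξ).comp
      (Groth.Agent.Lib.Helper23.UnitStalk.unitStalkEquiv ξ).toLinearMap
  have hφ : Function.Surjective φ :=
    (stalkLin_surjective (ClSub.toSubscheme J) ξ).comp
      (Groth.Agent.Lib.Helper23.UnitStalk.unitStalkEquiv ξ).surjective
  have hnt : ¬ Subsingleton ↑((ClSub.quotMod J).presheaf.stalk ξ) :=
    Groth.Agent.Lib.T2H5.FinSurj.mem_support_pushforward_structureModule J.subschemeι
      (genericPoint J.subscheme)
  have hker : LinearMap.ker φ = IsLocalRing.maximalIdeal (X.presheaf.stalk ξ) := by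
    apply le_antisymm
    · intro a ha
      by_contra hnot
      have hu : IsUnit a := by
        by_contra h
        exact hnot ((IsLocalRing.mem_maximalIdeal _).2 h)
      apply hnt
      refine ⟨fun p q => ?_⟩
      have key : ∀ t : ↑((ClSub.quotMod J).presheaf.stalk ξ), t = 0 := by
        intro t
        obtain ⟨b, rfl⟩ := hφ t
        obtain ⟨u, rfl⟩ := hu
        have h1 : φ b = (b * (u⁻¹ : (X.presheaf.stalk ξ)ˣ).1) • φ u.1 := by
          rw [← map_smul, smul_eq_mul, mul_assoc, Units.inv_mul, mul_one]
        rw [h1, LinearMap.mem_ker.1 ha, smul_zero]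
      rw [key p, key q]
    · intro a ha
      rw [LinearMap.mem_ker]
      have h1 : φ a = a • φ 1 := by
        rw [← map_smul, smul_eq_mul, mul_one]
      rw [h1]
      exact smul_stalk_quotMod_eq_zero J a ha _
  let e : (X.presheaf.stalk ξ ⧸ IsLocalRing.maximalIdeal (X.presheaf.stalk ξ)) ≃ₗ[X.presheaf.stalk ξ]
      ↑((ClSub.quotMod J).presheaf.stalk ξ) :=
    (Submodule.quotEquivOfEq _ _ hker.symm).trans (φ.quotKerEquivOfSurjective hφ)
  exact length_eq_one_of_equiv_residueField e.symm

end Simple

section Len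

variable (X : Scheme.{u}) [IsNoetherian X]

/-- the stalk of a coherent module at the generic point of an irreducible component has finite length. -/
theorem lenAt_ne_top (Z : irreducibleComponents (X : Type u)) (F : X.Modules) (hF : Coh.IsCoh F) :
    lenAt (gp X Z) F ≠ ⊤ := by
  haveI := isArtinianRing_stalk X Z
  haveI := hF.1
  haveI : SheafOfModules.IsFiniteType (R := X.ringCatSheaf) F := hF.2
  haveI := Groth.Agent.Lib.Helper2.FibreCrit.finite_stalk F (gp X Z)
  unfold lenAt
  rw [Module.length_ne_top_iff, isFiniteLength_iff_isNoetherian_isArtinian]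
  exact ⟨inferInstance, inferInstance⟩

/-- the multiplicity of a module along an irreducible component. -/
noncomputable def lenZ (Z : irreducibleComponents (X : Type u)) (F : X.Modules) : ℤ :=
  ((lenAt (gp X Z) F).toNat : ℤ)

theorem isAddFn_lenZ (Z : irreducibleComponents (X : Type u)) : IsAddFn (lenZ X Z) where
  iso e _ := by
    unfold lenZ
    rw [lenAt_iso _ e]
  zero M hM := by
    unfold lenZ
    rw [lenAt_of_isZero _ hM]
    rfl
  add S hS h1 _ h3 := by
    unfold lenZ
    rw [lenAt_shortExact _ S hS, ENat.toNat_add (lenAt_ne_top X Z _ h1) (lenAt_ne_top X Z _ h3)]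
    push_cast
    rfl

theorem lenZ_eq_zero (Z : irreducibleComponents (X : Type u)) (F : X.Modules)
    (h : gp X Z ∉ CohB1.support F) : lenZ X Z F = 0 := by
  unfold lenZ
  rw [(lenAt_eq_zero_iff _ _).2 h]
  rfl

omit [AlgebraicGeometry.IsNoetherian X] in
/-- the direct image under a closed immersion has no support at the image of a point outside the support. -/
theorem notMem_support_pushforward {Zs : Scheme.{u}} (i : Zs ⟶ X) [IsClosedImmersion i]
    (T : Zs.Modules) (hT : Coh.IsCoh T) (z : Zs) (hz : z ∉ CohB1.support T) :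
    i z ∉ CohB1.support ((Scheme.Modules.pushforward i).obj T) := by
  intro hx
  apply hx
  have hcl := Groth.Agent.Lib.T2H5.Devissage.isClosed_support T hT
  let D : Zs.Opens := ⟨(CohB1.support T)ᶜ, hcl.isOpen_compl⟩
  obtain ⟨W, hW⟩ := exists_opens_preimage_eq i D
  have hzW : i z ∈ W := by
    have : z ∈ i ⁻¹ᵁ W := by rw [hW]; exact hz
    exact this
  refine ⟨fun a b => ?_⟩
  have key : ∀ t : ((Scheme.Modules.pushforward i).obj T).presheaf.stalk (i z), t = 0 := by
    intro t
    obtain ⟨U, hUW, hxU, s, rfl⟩ := exists_germ_eq_le ((Scheme.Modules.pushforward i).obj T) W (i z) hzW t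
    have hs : s = 0 := Groth.Agent.Lib.T2H5.Dev2.section_eq_zero_of_support (M := T) (i ⁻¹ᵁ U)
      (fun x hx => by
        have h1 : x ∈ i ⁻¹ᵁ W := hUW hx
        rw [hW] at h1
        exact h1) s
    rw [hs, map_zero]
  rw [key a, key b]

theorem isAddFn_lenZ_pushforward (Z : irreducibleComponents (X : Type u)) {Zs : Scheme.{u}} (i : Zs ⟶ X)
    [IsClosedImmersion i] :
    IsAddFn (fun G' : Zs.Modules => lenZ X Z ((Scheme.Modules.pushforward i).obj G')) := by
  refine ⟨?_, ?_, ?_⟩
  · intro M N e hM
    exact (isAddFn_lenZ X Z).iso ((Scheme.Modules.pushforward i).mapIso e)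
      (Groth.Agent.Lib.T2H5.ClosedTransfer.isCoh_pushforward i _ hM)
  · intro M hM
    exact (isAddFn_lenZ X Z).zero _ (Functor.map_isZero _ hM)
  · intro S hS h1 h2 h3
    exact (isAddFn_lenZ X Z).add (S.map (Scheme.Modules.pushforward i))
      (Groth.Agent.Lib.T2H5.ClosedLin.shortExact_map_pushforward i S hS)
      (Groth.Agent.Lib.T2H5.ClosedTransfer.isCoh_pushforward i _ h1)
      (Groth.Agent.Lib.T2H5.ClosedTransfer.isCoh_pushforward i _ h2)
      (Groth.Agent.Lib.T2H5.ClosedTransfer.isCoh_pushforward i _ h3)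

/-- the multiplicity of a direct image from the reduced component is the generic rank. -/
theorem lenZ_pushforward (Z : irreducibleComponents (X : Type u)) (J : X.IdealSheafData)
    [IsIntegral J.subscheme] [IsNoetherian J.subscheme]
    (hJ : J.subschemeι (genericPoint J.subscheme) = gp X Z) (G : J.subscheme.Modules) (hG : Coh.IsCoh G) :
    lenZ X Z ((Scheme.Modules.pushforward J.subschemeι).obj G) = (grank G : ℤ) := by
  obtain ⟨r, hr⟩ := exists_rank_forall_addFn G hG
  have hΦ := isAddFn_lenZ_pushforward X Z J.subschemeι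
  have hT : VanishesOnTorsion (fun G' : J.subscheme.Modules =>
      lenZ X Z ((Scheme.Modules.pushforward J.subschemeι).obj G')) := by
    intro T hT hξ
    refine lenZ_eq_zero X Z _ ?_
    rw [← hJ]
    exact notMem_support_pushforward X J.subschemeι T hT _ hξ
  have h1 := hr _ hΦ hT
  have h2 := hr _ isAddFn_grank vanishesOnTorsion_grank
  have hO1 : FlatMod.IsFinLocFreeOfRank 1 (Coh.structureModule J.subscheme) :=
    Groth.Agent.Lib.Helper23.SecTw.isFinLocFreeOfRank_one_of_isInvertible _
      (Groth.Agent.Lib.Helper23.TensorUnit.isInvertible_structureModule _)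
  have hv1 : lenZ X Z ((Scheme.Modules.pushforward J.subschemeι).obj (Coh.structureModule J.subscheme)) = 1 := by
    unfold lenZ
    rw [← hJ]
    have := lenAt_quotMod J
    change lenAt _ ((Scheme.Modules.pushforward J.subschemeι).obj (Coh.structureModule J.subscheme)) = 1 at this
    rw [this]
    rfl
  rw [hv1, mul_one] at h1
  rw [grank_of_isFinLocFreeOfRank _ 1 hO1] at h2
  simp only [Nat.cast_one, mul_one] at h2
  rw [h1, h2]

/-- the weighted sum of the multiplicities along the one-dimensional components. -/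
noncomputable def compSum (d : irreducibleComponents (X : Type u) → ℤ) (F : X.Modules) : ℤ :=
  ∑ᶠ Z : irreducibleComponents (X : Type u),
    (if topologicalKrullDim (Z.1 : Set X) = 1 then lenZ X Z F * d Z else 0)

theorem isAddFn_compSum (d : irreducibleComponents (X : Type u) → ℤ) : IsAddFn (compSum X d) := by
  refine ⟨?_, ?_, ?_⟩
  · intro M N e hM
    unfold compSum
    refine finsum_congr fun Z => ?_
    rw [(isAddFn_lenZ X Z).iso e hM]
  · intro M hM
    unfold compSum
    refine finsum_eq_zero_of_forall_eq_zero fun Z => ?_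
    rw [(isAddFn_lenZ X Z).zero M hM, zero_mul, ite_self]
  · intro S hS h1 h2 h3
    unfold compSum
    rw [← finsum_add_distrib (Set.toFinite _) (Set.toFinite _)]
    refine finsum_congr fun Z => ?_
    rw [(isAddFn_lenZ X Z).add S hS h1 h2 h3]
    split_ifs
    · ring
    · ring

/-- if the module has no support at the generic points of the other components, only one term remains. -/
theorem compSum_eq_single (d : irreducibleComponents (X : Type u) → ℤ) (F : X.Modules)
    (Z₀ : irreducibleComponents (X : Type u))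
    (h : ∀ Z : irreducibleComponents (X : Type u), Z ≠ Z₀ → gp X Z ∉ CohB1.support F) :
    compSum X d F = if topologicalKrullDim (Z₀.1 : Set X) = 1 then lenZ X Z₀ F * d Z₀ else 0 := by
  unfold compSum
  refine finsum_eq_single _ Z₀ fun Z hZ => ?_
  rw [lenZ_eq_zero X Z F (h Z hZ), zero_mul, ite_self]

/-- if the module has no support at the generic points of the one-dimensional components, the sum vanishes. -/
theorem compSum_eq_zero (d : irreducibleComponents (X : Type u) → ℤ) (F : X.Modules)
    (h : ∀ Z : irreducibleComponents (X : Type u), topologicalKrullDim (Z.1 : Set X) = 1 →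
      gp X Z ∉ CohB1.support F) :
    compSum X d F = 0 := by
  unfold compSum
  refine finsum_eq_zero_of_forall_eq_zero fun Z => ?_
  split_ifs with hd
  · rw [lenZ_eq_zero X Z F (h Z hd), zero_mul]
  · rfl

omit [AlgebraicGeometry.IsNoetherian X] in
/-- the generic point of a one-dimensional component is not a closed point. -/
theorem not_isClosed_gp (Z : irreducibleComponents (X : Type u))
    (hd : topologicalKrullDim (Z.1 : Set X) = 1) : ¬ IsClosed ({gp X Z} : Set X) := by
  intro hcl
  have h1 := closure_gp X Z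
  rw [hcl.closure_eq] at h1
  haveI : Subsingleton (Z.1 : Set X) := ⟨fun a b => by
    have ha : a.1 ∈ ({gp X Z} : Set X) := by rw [h1]; exact a.2
    have hb : b.1 ∈ ({gp X Z} : Set X) := by rw [h1]; exact b.2
    rw [Set.mem_singleton_iff] at ha hb
    exact Subtype.ext (ha.trans hb.symm)⟩
  have h2 := topologicalKrullDim_zero_of_discreteTopology (Z.1 : Set X)
  rw [hd] at h2
  exact absurd h2 (by decide)

end Len

section Main

variable (X : Scheme.{u}) (k : Type u) [Field k] [X.Over (Spec (CommRingCat.of k))]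
  [IsProper (X ↘ Spec (CommRingCat.of k))] [IsNoetherian X]

/-- the degrees of `E` on the reduced components. -/
noncomputable def degComp (E : X.Modules) (n : ℕ) (Z : irreducibleComponents (X : Type u)) : ℤ :=
  @Curv2.deg k _ (X.irreducibleComponentIdeal Z.1 Z.2).radical.subscheme
    ⟨(X.irreducibleComponentIdeal Z.1 Z.2).radical.subschemeι ≫ (X ↘ (Spec (CommRingCat.of k)))⟩
    ((Scheme.Modules.pullback (X.irreducibleComponentIdeal Z.1 Z.2).radical.subschemeι).obj E) n

/-- `Ψ_E(F)` as the sum over the one-dimensional components of `length(F_ξ) · deg(E|_C)`. -/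
theorem psi_eq_compSum (hdim : topologicalKrullDim X ≤ 1) (n : ℕ) (E : X.Modules)
    (hE : FlatMod.IsFinLocFreeOfRank n E) (F : X.Modules) (hF : Coh.IsCoh F) :
    TensorDeg.psi k E n F = compSum X (degComp X k E n) F := by
  have hΨ : IsAddFn (TensorDeg.psi k E n) := isAddFn_psi k E n hE
  have hp : VanishesOnPoints (TensorDeg.psi k E n) := vanishesOnPoints_psi k E n hE
  have hΦ := isAddFn_compSum X (degComp X k E n)
  refine Groth.Agent.Lib.T2H5.Devissage.core
    (fun M => Coh.IsCoh M → TensorDeg.psi k E n M = compSum X (degComp X k E n) M)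
    ?_ ?_ ?_ Set.univ ?_ F hF (Set.subset_univ _) hF
  · rintro M N ⟨e⟩ hM hN
    have hMc : Coh.IsCoh M := Groth.Agent.Lib.T2H5.Devissage.isCoh_of_iso e.symm hN
    rw [← hΨ.iso e hMc, ← hΦ.iso e hMc]
    exact hM hMc
  · intro M hM _
    rw [hΨ.zero M hM, hΦ.zero M hM]
  · intro S hS c1 c2 c3 hP1 hP3 _
    rw [hΨ.add S hS c1 c2 c3, hΦ.add S hS c1 c2 c3, hP1 c1, hP3 c3]
  · intro Z₀ hZ hirr _ _ M hM hk _
    by_cases hZd : 1 ≤ topologicalKrullDim Z₀
    · have hC := Groth.Agent.Lib.T2H6.AmpleComp.mem_irreducibleComponents_of_one_le_dim hdim Z₀ hZ hirr hZd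
      have hd1 : topologicalKrullDim Z₀ = 1 :=
        le_antisymm ((topologicalKrullDim_subspace_le X Z₀).trans hdim) hZd
      have hJ : Scheme.IdealSheafData.vanishingIdeal ⟨Z₀, hZ⟩ = (X.irreducibleComponentIdeal Z₀ hC).radical := by
        rw [← Scheme.IdealSheafData.vanishingIdeal_support]
        rfl
      rw [hJ] at hk
      letI : (X.irreducibleComponentIdeal Z₀ hC).radical.subscheme.Over (Spec (CommRingCat.of k)) :=
        ⟨(X.irreducibleComponentIdeal Z₀ hC).radical.subschemeι ≫ (X ↘ (Spec (CommRingCat.of k)))⟩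
      haveI : IsProper ((X.irreducibleComponentIdeal Z₀ hC).radical.subscheme ↘ Spec (CommRingCat.of k)) :=
        inferInstanceAs (IsProper ((X.irreducibleComponentIdeal Z₀ hC).radical.subschemeι ≫
          (X ↘ (Spec (CommRingCat.of k)))))
      haveI : IsIntegral (X.irreducibleComponentIdeal Z₀ hC).radical.subscheme :=
        Groth.Agent.Lib.T2H6.AmpleComp.isIntegral_radical_subscheme _ hirr
      haveI : IsNoetherian (X.irreducibleComponentIdeal Z₀ hC).radical.subscheme :=
        Groth.Agent.Lib.T2H6.CurveSatur.isNoetherian_of_proper k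
      have hdimC : topologicalKrullDim (X.irreducibleComponentIdeal Z₀ hC).radical.subscheme = 1 := by
        rw [Groth.Agent.Lib.T2H6.AmpleComp.topologicalKrullDim_subscheme]
        exact hd1
      obtain ⟨G, hG, ⟨e⟩⟩ := Groth.Agent.S0786.result
        (X.irreducibleComponentIdeal Z₀ hC).radical.subschemeι M hM (by
          rw [Scheme.IdealSheafData.ker_subschemeι]
          exact hk)
      have hpG : Coh.IsCoh ((Scheme.Modules.pushforward
          (X.irreducibleComponentIdeal Z₀ hC).radical.subschemeι).obj G) :=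
        Groth.Agent.Lib.T2H5.ClosedTransfer.isCoh_pushforward _ G hG
      have hrange : Set.range (X.irreducibleComponentIdeal Z₀ hC).radical.subschemeι = Z₀ := by
        rw [Scheme.IdealSheafData.range_subschemeι]
        rfl
      have hgen : (X.irreducibleComponentIdeal Z₀ hC).radical.subschemeι
          (genericPoint (X.irreducibleComponentIdeal Z₀ hC).radical.subscheme) =
          gp X (⟨Z₀, hC⟩ : irreducibleComponents (X : Type u)) := by
        have h1 : IsGenericPoint ((X.irreducibleComponentIdeal Z₀ hC).radical.subschemeι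
            (genericPoint (X.irreducibleComponentIdeal Z₀ hC).radical.subscheme)) Z₀ := by
          unfold IsGenericPoint
          rw [Groth.Agent.Lib.T2H5.GenIsoD.closure_genericPoint_image, hrange]
        have h2 : IsGenericPoint (gp X (⟨Z₀, hC⟩ : irreducibleComponents (X : Type u))) Z₀ :=
          closure_gp X ⟨Z₀, hC⟩
        exact h1.eq h2
      have hsupp : CohB1.support ((Scheme.Modules.pushforward
          (X.irreducibleComponentIdeal Z₀ hC).radical.subschemeι).obj G) ⊆ Z₀ := by
        exact (support_pushforward_subset _ G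
          ((X.irreducibleComponentIdeal Z₀ hC).radical.subschemeι.isClosedEmbedding.isClosed_range)).trans
          hrange.le
      rw [← hΨ.iso e hpG, ← hΦ.iso e hpG,
        psi_pushforward k (X.irreducibleComponentIdeal Z₀ hC).radical.subschemeι rfl hdimC E n hE G hG,
        compSum_eq_single X _ _ (⟨Z₀, hC⟩ : irreducibleComponents (X : Type u)) (fun Z hZne hmem =>
          hZne (eq_of_gp_mem X (Z' := ⟨Z₀, hC⟩) (hsupp hmem))),
        if_pos hd1, lenZ_pushforward X ⟨Z₀, hC⟩ _ hgen G hG]
      rfl
    · have hZ0 := Groth.Agent.Lib.T2H6.AmpleComp.le_zero_of_not_one_le _ hZd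
      have hpts : ∀ x ∈ Z₀, IsClosed ({x} : Set X) := fun x hx =>
        Groth.Agent.Lib.T2H6.AddFnB.isClosed_singleton_of_dim_le_zero Z₀ hZ hZ0 x hx
      have hsupp := Groth.Agent.Lib.T2H6.AmpleComp.support_subset_of_killed _ M hM hk
      rw [Scheme.IdealSheafData.coe_support_vanishingIdeal] at hsupp
      have hpts' : ∀ x ∈ CohB1.support M, IsClosed ({x} : Set X) := fun x hx => hpts x (hsupp hx)
      rw [Groth.Agent.Lib.T2H6.AddFnB.IsAddFn.eq_zero_of_closedPoints hΨ hp M hM hpts',
        compSum_eq_zero X _ M (fun Z hd hmem => not_isClosed_gp X Z hd (hpts' _ hmem))]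

/-- **The degree of a bundle is the sum of the degrees on the reduced components, with multiplicities.** -/
theorem deg_eq_sum (hdim : topologicalKrullDim X ≤ 1) (n : ℕ) (E : X.Modules)
    (hE : FlatMod.IsFinLocFreeOfRank n E) :
    Curv2.deg k X E n = ∑ᶠ Z : irreducibleComponents (X : Type u),
      (if topologicalKrullDim (Z.1 : Set X) = 1 then
        ((Module.length (X.presheaf.stalk Z.2.1.genericPoint)
          (X.presheaf.stalk Z.2.1.genericPoint)).toNat : ℤ) *
          @Curv2.deg k _ (X.irreducibleComponentIdeal Z.1 Z.2).radical.subscheme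
            ⟨(X.irreducibleComponentIdeal Z.1 Z.2).radical.subschemeι ≫ (X ↘ (Spec (CommRingCat.of k)))⟩
            ((Scheme.Modules.pullback (X.irreducibleComponentIdeal Z.1 Z.2).radical.subschemeι).obj E) n
      else 0) := by
  have hEc := Groth.Agent.Lib.T2H6.RankAdd.isCoh_of_isFinLocFreeOfRank E n hE
  have hOc : Coh.IsCoh (Coh.structureModule X) :=
    Groth.Agent.Lib.T2H5.GenIsoF.isCoh_structureModule
  have key := psi_eq_compSum X k hdim n E hE _ hOc
  obtain ⟨ε⟩ := Groth.Agent.Lib.T2H6.TensorFree.nonempty_unitTensorIso' E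
  have h3 : Curv2.euler k X (CohB1.tensorMod (Coh.structureModule X) E) = Curv2.euler k X E :=
    Groth.Agent.Lib.T2H6.HiggsCurve.euler_eq_of_iso k ε (isCoh_tensor _ E hOc hEc)
  unfold TensorDeg.psi at key
  rw [h3] at key
  have hdeg : Curv2.deg k X E n =
      Curv2.euler k X E - n * Curv2.euler k X (Coh.structureModule X) := by
    unfold Curv2.deg
    rfl
  rw [hdeg, key]
  unfold compSum
  refine finsum_congr fun Z => ?_
  unfold lenZ lenAt degComp
  rw [← (Groth.Agent.Lib.Helper23.UnitStalk.unitStalkEquiv (gp X Z)).length_eq]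

end Main

end Groth.Agent.Lib.T2H6.DegComp
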