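import Mathlib

/-!
# Functions on `ℕ^σ` with vanishing iterated differences (helper6)

`PolyLt d f` : all iterated partial forward differences of order `d` of `f : (σ → ℕ) → G` vanish ("`f` is a polynomial of
total degree `< d`"). Such functions with values in `ℚ` are given by polynomials of total degree `< d`.
-/

set_option autoImplicit false

open Finset

namespace Groth.Agent.Lib.T2H6.PolyLt

section basic

variable {σ : Type*} [DecidableEq σ] {G : Type*} [AddCommGroup G]

/-- `f` is "a polynomial of total degree `< d`": all iterated partial differences of order `d` vanish. -/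
def PolyLt : ℕ → ((σ → ℕ) → G) → Prop
  | 0, f => f = 0
  | d + 1, f => ∀ i : σ, PolyLt d (fwdDiff (Pi.single i 1) f)

theorem polyLt_zero_iff (f : (σ → ℕ) → G) : PolyLt 0 f ↔ f = 0 := Iff.rfl

theorem polyLt_succ_iff (d : ℕ) (f : (σ → ℕ) → G) :
    PolyLt (d + 1) f ↔ ∀ i : σ, PolyLt d (fwdDiff (Pi.single i 1) f) := Iff.rfl

theorem fwdDiff_zero' (h : σ → ℕ) : fwdDiff h (0 : (σ → ℕ) → G) = 0 := by
  funext n
  simp [fwdDiff]

theorem fwdDiff_sub' (h : σ → ℕ) (f g : (σ → ℕ) → G) :
    fwdDiff h (f - g) = fwdDiff h f - fwdDiff h g := by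
  funext n
  simp only [fwdDiff, Pi.sub_apply]
  abel

theorem fwdDiff_neg' (h : σ → ℕ) (f : (σ → ℕ) → G) :
    fwdDiff h (-f) = -fwdDiff h f := by
  funext n
  simp only [fwdDiff, Pi.neg_apply]
  abel

theorem PolyLt.zero (d : ℕ) : PolyLt d (0 : (σ → ℕ) → G) := by
  induction d with
  | zero => rfl
  | succ d ih =>
    intro i
    rw [fwdDiff_zero']
    exact ih

theorem PolyLt.add {d : ℕ} {f g : (σ → ℕ) → G} (hf : PolyLt d f) (hg : PolyLt d g) :
    PolyLt d (f + g) := by
  induction d generalizing f g with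
  | zero =>
    rw [polyLt_zero_iff] at hf hg ⊢
    rw [hf, hg, add_zero]
  | succ d ih =>
    intro i
    rw [fwdDiff_add]
    exact ih (hf i) (hg i)

theorem PolyLt.neg {d : ℕ} {f : (σ → ℕ) → G} (hf : PolyLt d f) : PolyLt d (-f) := by
  induction d generalizing f with
  | zero =>
    rw [polyLt_zero_iff] at hf ⊢
    rw [hf, neg_zero]
  | succ d ih =>
    intro i
    rw [fwdDiff_neg']
    exact ih (hf i)

theorem PolyLt.sub {d : ℕ} {f g : (σ → ℕ) → G} (hf : PolyLt d f) (hg : PolyLt d g) :
    PolyLt d (f - g) := by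
  rw [sub_eq_add_neg]
  exact hf.add hg.neg

theorem PolyLt.succ {d : ℕ} {f : (σ → ℕ) → G} (hf : PolyLt d f) : PolyLt (d + 1) f := by
  induction d generalizing f with
  | zero =>
    rw [polyLt_zero_iff] at hf
    rw [hf]
    exact PolyLt.zero 1
  | succ d ih =>
    intro i
    exact ih (hf i)

theorem PolyLt.mono {d e : ℕ} (h : d ≤ e) {f : (σ → ℕ) → G} (hf : PolyLt d f) : PolyLt e f := by
  induction e, h using Nat.le_induction with
  | base => exact hf
  | succ e _ ih => exact ih.succ

theorem PolyLt.comp_add {d : ℕ} {f : (σ → ℕ) → G} (hf : PolyLt d f) (m : σ → ℕ) :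
    PolyLt d (fun n => f (n + m)) := by
  induction d generalizing f with
  | zero =>
    rw [polyLt_zero_iff] at hf ⊢
    rw [hf]
    rfl
  | succ d ih =>
    intro i
    have h : fwdDiff (Pi.single i 1) (fun n => f (n + m)) =
        fun n => fwdDiff (Pi.single i 1) f (n + m) := by
      funext n
      exact fwdDiff_comp_add _ f m n
    rw [h]
    exact ih (hf i)

theorem PolyLt.map {G' : Type*} [AddCommGroup G'] (φ : G →+ G') {d : ℕ} {f : (σ → ℕ) → G}
    (hf : PolyLt d f) : PolyLt d (fun n => φ (f n)) := by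
  induction d generalizing f with
  | zero =>
    rw [polyLt_zero_iff] at hf ⊢
    rw [hf]
    funext n
    simp
  | succ d ih =>
    intro i
    have h : fwdDiff (Pi.single i 1) (fun n => φ (f n)) =
        fun n => φ (fwdDiff (Pi.single i 1) f n) := by
      funext n
      simp [fwdDiff]
    rw [h]
    exact ih (hf i)

theorem PolyLt.iterate {d : ℕ} {f : (σ → ℕ) → G} (hf : PolyLt d f) (i : σ) (k : ℕ) :
    PolyLt (d - k) ((fwdDiff (Pi.single i 1))^[k] f) := by
  induction k generalizing d f with
  | zero => simpa using hf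
  | succ k ih =>
    rw [Function.iterate_succ_apply]
    cases d with
    | zero =>
      rw [polyLt_zero_iff] at hf
      rw [hf, fwdDiff_zero']
      simpa using ih (PolyLt.zero 0)
    | succ d =>
      have := ih (hf i)
      rwa [Nat.succ_sub_succ]

theorem PolyLt.iterate_eq_zero {d : ℕ} {f : (σ → ℕ) → G} (hf : PolyLt d f) (i : σ) {k : ℕ}
    (hk : d ≤ k) : (fwdDiff (Pi.single i 1))^[k] f = 0 := by
  have := hf.iterate i k
  rwa [Nat.sub_eq_zero_of_le hk] at this

end basic

section cons

variable {G : Type*} [AddCommGroup G] {r : ℕ}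

theorem cons_add_single_succ (a : ℕ) (n : Fin r → ℕ) (j : Fin r) :
    (Fin.cons a (n + Pi.single j 1) : Fin (r + 1) → ℕ) = Fin.cons a n + Pi.single j.succ 1 := by
  funext i
  refine Fin.cases ?_ (fun i' => ?_) i
  · simp
  · simp only [Fin.cons_succ, Pi.add_apply]
    by_cases h : i' = j
    · subst h; simp
    · have h' : i'.succ ≠ j.succ := fun hh => h (Fin.succ_injective _ hh)
      simp [Pi.single_apply, h, h']

theorem PolyLt.cons_zero {d : ℕ} {f : (Fin (r + 1) → ℕ) → G} (hf : PolyLt d f) (a : ℕ) :
    PolyLt d (fun n : Fin r → ℕ => f (Fin.cons a n)) := by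
  induction d generalizing f with
  | zero =>
    rw [polyLt_zero_iff] at hf ⊢
    rw [hf]
    rfl
  | succ d ih =>
    intro j
    have h : fwdDiff (Pi.single j 1) (fun n : Fin r → ℕ => f (Fin.cons a n)) =
        fun n => fwdDiff (Pi.single j.succ 1) f (Fin.cons a n) := by
      funext n
      simp only [fwdDiff]
      rw [cons_add_single_succ]
    rw [h]
    exact ih (hf j.succ)

end cons

section poly

open MvPolynomial

variable {r : ℕ}

/-- the binomial coefficient `C(x_i, k)` as a polynomial. -/
noncomputable def binomPoly (σ : Type*) (i : σ) (k : ℕ) : MvPolynomial σ ℚ :=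
  C ((k.factorial : ℚ)⁻¹) * ∏ j ∈ range k, (X i - C (j : ℚ))

theorem totalDegree_binomPoly (σ : Type*) (i : σ) (k : ℕ) : (binomPoly σ i k).totalDegree ≤ k := by
  unfold binomPoly
  refine (totalDegree_mul _ _).trans ?_
  rw [totalDegree_C, zero_add]
  refine (totalDegree_finsetProd _ _).trans ?_
  calc ∑ j ∈ range k, (X i - C (j : ℚ) : MvPolynomial σ ℚ).totalDegree
      ≤ ∑ _j ∈ range k, 1 := by
        refine Finset.sum_le_sum fun j _ => ?_
        refine (totalDegree_sub_C_le _ _).trans ?_
        rw [totalDegree_X]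
    _ = k := by simp

theorem eval_binomPoly (σ : Type*) (i : σ) (k : ℕ) (x : σ → ℚ) (m : ℕ) (hx : x i = m) :
    eval x (binomPoly σ i k) = (m.choose k : ℚ) := by
  unfold binomPoly
  rw [map_mul, eval_C, map_prod]
  simp only [map_sub, eval_X, eval_C, hx]
  rw [← descPochhammer_eval_eq_prod_range, descPochhammer_eval_eq_descFactorial,
    Nat.descFactorial_eq_factorial_mul_choose]
  push_cast
  have : (k.factorial : ℚ) ≠ 0 := by exact_mod_cast k.factorial_ne_zero
  field_simp

theorem cons_zero_add_smul (a : ℕ) (n : Fin r → ℕ) :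
    (Fin.cons 0 n : Fin (r + 1) → ℕ) + a • Pi.single 0 1 = Fin.cons a n := by
  funext i
  refine Fin.cases ?_ (fun i' => ?_) i
  · simp
  · have h' : i'.succ ≠ 0 := Fin.succ_ne_zero i'
    simp [Pi.single_apply, h']

/-- **A function on `ℕ^r` all of whose differences of order `d + 1` vanish is given by a polynomial of total degree
`≤ d`.** -/
theorem exists_mvPolynomial (r : ℕ) : ∀ (d : ℕ) (f : (Fin r → ℕ) → ℚ), PolyLt (d + 1) f →
    ∃ P : MvPolynomial (Fin r) ℚ, P.totalDegree ≤ d ∧
      ∀ n : Fin r → ℕ, f n = eval (fun i => (n i : ℚ)) P := by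
  induction r with
  | zero =>
    intro d f _
    refine ⟨C (f 0), by rw [totalDegree_C]; exact Nat.zero_le _, fun n => ?_⟩
    rw [eval_C]
    congr 1
    exact Subsingleton.elim _ _
  | succ r ih =>
    intro d f hf
    let g : ℕ → (Fin r → ℕ) → ℚ := fun k n' =>
      ((fwdDiff (Pi.single (0 : Fin (r + 1)) 1))^[k] f) (Fin.cons 0 n')
    have hg : ∀ k, ∃ Pk : MvPolynomial (Fin r) ℚ, Pk.totalDegree ≤ d - k ∧
        ∀ n' : Fin r → ℕ, g k n' = eval (fun i => (n' i : ℚ)) Pk := by
      intro k
      by_cases hk : k ≤ d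
      · have h1 : PolyLt (d + 1 - k) ((fwdDiff (Pi.single (0 : Fin (r + 1)) 1))^[k] f) :=
          hf.iterate 0 k
        have h2 : d + 1 - k = (d - k) + 1 := by omega
        rw [h2] at h1
        exact ih (d - k) (g k) (h1.cons_zero 0)
      · refine ⟨0, by simp, fun n' => ?_⟩
        have h1 := hf.iterate_eq_zero (0 : Fin (r + 1)) (k := k) (by omega)
        simp only [g, h1, map_zero]
        rfl
    choose Pk hPk1 hPk2 using hg
    refine ⟨∑ k ∈ range (d + 1), binomPoly (Fin (r + 1)) 0 k * rename Fin.succ (Pk k), ?_, ?_⟩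
    · refine totalDegree_finsetSum_le fun k hk => ?_
      have hk' : k ≤ d := Nat.lt_succ_iff.mp (Finset.mem_range.mp hk)
      refine (totalDegree_mul _ _).trans ?_
      have h1 := totalDegree_binomPoly (Fin (r + 1)) 0 k
      have h2 := (totalDegree_rename_le Fin.succ (Pk k)).trans (hPk1 k)
      omega
    · intro n
      have hn : n = Fin.cons (n 0) (Fin.tail n) := (Fin.cons_self_tail n).symm
      have hN := shift_eq_sum_fwdDiff_iter (Pi.single (0 : Fin (r + 1)) 1) f (n 0)
        (Fin.cons 0 (Fin.tail n))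
      rw [cons_zero_add_smul, ← hn] at hN
      rw [hN, map_sum]
      -- both sums extend to `range (n 0 + d + 1)`
      have hA : ∑ k ∈ range (n 0 + 1), (n 0).choose k •
          ((fwdDiff (Pi.single (0 : Fin (r + 1)) 1))^[k] f) (Fin.cons 0 (Fin.tail n)) =
          ∑ k ∈ range (n 0 + d + 1), ((n 0).choose k : ℚ) * g k (Fin.tail n) := by
        rw [Finset.sum_subset (s₁ := range (n 0 + 1)) (s₂ := range (n 0 + d + 1))]
        · refine Finset.sum_congr rfl fun k _ => ?_
          simp only [g, nsmul_eq_mul]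
        · intro k hk
          simp only [Finset.mem_range] at hk ⊢
          omega
        · intro k _ hk
          simp only [Finset.mem_range, not_lt] at hk
          rw [Nat.choose_eq_zero_of_lt (by omega)]
          simp
      have hB : ∑ k ∈ range (d + 1), eval (fun i => (n i : ℚ))
          (binomPoly (Fin (r + 1)) 0 k * rename Fin.succ (Pk k)) =
          ∑ k ∈ range (n 0 + d + 1), ((n 0).choose k : ℚ) * g k (Fin.tail n) := by
        rw [Finset.sum_subset (s₁ := range (d + 1)) (s₂ := range (n 0 + d + 1))]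
        · refine Finset.sum_congr rfl fun k _ => ?_
          rw [map_mul, eval_binomPoly (Fin (r + 1)) 0 k (fun i => (n i : ℚ)) (n 0) rfl, eval_rename,
            hPk2 k (Fin.tail n)]
          rfl
        · intro k hk
          simp only [Finset.mem_range] at hk ⊢
          omega
        · intro k _ hk
          simp only [Finset.mem_range, not_lt] at hk
          have h1 := hf.iterate_eq_zero (0 : Fin (r + 1)) (k := k) (by omega)
          have h2 : g k (Fin.tail n) = 0 := by simp [g, h1]
          rw [map_mul, eval_rename]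
          have h3 := hPk2 k (Fin.tail n)
          rw [h2] at h3
          have h4 : (fun i => (n i : ℚ)) ∘ Fin.succ = fun i => (Fin.tail n i : ℚ) := rfl
          rw [h4, ← h3, mul_zero]
      rw [hA, hB]

end poly

end Groth.Agent.Lib.T2H6.PolyLt
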