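import Mathlib
import Groth.Agent.Lib.T2H6TensorDegGen
set_option backward.isDefEq.respectTransparency.types false

/-!
# Intersection number with a closed subscheme of dimension `≤ 1` is the degree (helper6)

`χ(X, O_Z ⊗ L^N) = N · deg(L|_Z) + χ(O_Z)` for a closed subscheme `Z` of dimension `≤ 1` of a proper scheme.
-/

set_option autoImplicit false
set_option linter.style.haveILetI false
set_option linter.unusedSectionVars false
universe u

open AlgebraicGeometry CategoryTheory Limits TopologicalSpace Opposite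

namespace Groth.Agent.Lib.T2H6.IntersectDeg

open Groth.Agent.Lib.T2H5.Twist Groth.Agent.Lib.T2H6.TensorDeg Groth.Agent.Lib.T2H6.TensorDegGen

/-- a polynomial in one variable whose values at the natural numbers are `a n + b` has linear coefficient `a`. -/
theorem coeff_of_eval_affine (P : MvPolynomial (Fin 1) ℚ) (a b : ℚ)
    (h : ∀ n : Fin 1 → ℕ, MvPolynomial.eval (fun i => (n i : ℚ)) P = a * (n 0 : ℚ) + b) :
    MvPolynomial.coeff (Finsupp.equivFunOnFinite.symm fun _ : Fin 1 => 1) P = a := by
  have hP : P = MvPolynomial.C a * MvPolynomial.X 0 + MvPolynomial.C b := by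
    refine MvPolynomial.funext_set (fun _ => Set.range (Nat.cast : ℕ → ℚ))
      (fun _ => Set.infinite_range_of_injective Nat.cast_injective) ?_
    intro x hx
    choose n hn using fun i => hx i (Set.mem_univ i)
    have : x = fun i => (n i : ℚ) := funext fun i => (hn i).symm
    rw [this, h n]
    simp
  rw [hP]
  have hs : (Finsupp.equivFunOnFinite.symm fun _ : Fin 1 => 1) = Finsupp.single (0 : Fin 1) 1 := by
    apply Finsupp.ext
    intro i
    fin_cases i
    simp
  have hne : (0 : Fin 1 →₀ ℕ) ≠ Finsupp.single (0 : Fin 1) 1 := by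
    intro h0
    have := congrArg (fun f => f 0) h0
    simp at this
  rw [hs, MvPolynomial.coeff_add, MvPolynomial.coeff_C_mul, MvPolynomial.coeff_X, MvPolynomial.coeff_C,
    if_neg hne]
  simp

variable {X : Scheme.{u}} (k : Type u) [Field k] [X.Over (Spec (CommRingCat.of k))]
  [IsProper (X ↘ Spec (CommRingCat.of k))]

/-- `χ(M^N) = N · deg M + χ(O)` for an invertible module on a proper scheme of dimension `≤ 1`. -/
theorem euler_tensorPow (hdim : topologicalKrullDim X ≤ 1) (M : X.Modules) (hM : PicF.IsInvertible M)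
    (N : ℕ) :
    Curv2.euler k X (CohB1.tensorPow M N) =
      N * Curv2.deg k X M 1 + Curv2.euler k X (Coh.structureModule X) := by
  induction N with
  | zero =>
    change Curv2.euler k X (Coh.structureModule X) = _
    simp
  | succ N ih =>
    have h1 := Groth.Agent.Lib.Helper23.SecTw.isFinLocFreeOfRank_one_of_isInvertible _
      (Groth.Agent.Lib.Helper23.SecTw.isInvertible_tensorPow hM N)
    have h2 := Groth.Agent.Lib.Helper23.SecTw.isFinLocFreeOfRank_one_of_isInvertible _ hM
    have h3 := deg_tensor k hdim 1 1 _ M h1 h2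
    change Curv2.euler k X (CohB1.tensorMod (CohB1.tensorPow M N) M) = _
    have hd : Curv2.deg k X M 1 =
        Curv2.euler k X M - ((1 : ℕ) : ℤ) * Curv2.euler k X (Coh.structureModule X) := rfl
    have hd' : Curv2.deg k X (CohB1.tensorPow M N) 1 = Curv2.euler k X (CohB1.tensorPow M N) -
        ((1 : ℕ) : ℤ) * Curv2.euler k X (Coh.structureModule X) := rfl
    have hd'' : Curv2.deg k X (CohB1.tensorMod (CohB1.tensorPow M N) M) (1 * 1) =
        Curv2.euler k X (CohB1.tensorMod (CohB1.tensorPow M N) M) -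
        ((1 * 1 : ℕ) : ℤ) * Curv2.euler k X (Coh.structureModule X) := rfl
    rw [hd'', hd'] at h3
    push_cast at h3 hd ⊢
    linarith

/-- `χ(X, O_Z ⊗ L^N) = N · deg(L|_Z) + χ(O_Z)`. -/
theorem euler_quotMod_tensorPow (D : X.IdealSheafData)
    (hD : topologicalKrullDim (D.support : Set X) ≤ 1)
    (L : X.Modules) (hL : PicF.IsInvertible L) (N : ℕ) :
    Curv2.euler k X (CohB1.tensorMod (ClSub.quotMod D) (CohB1.tensorPow L N)) =
      N * (@Curv2.deg k _ D.subscheme ⟨D.subschemeι ≫ (X ↘ (Spec (CommRingCat.of k)))⟩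
        ((Scheme.Modules.pullback D.subschemeι).obj L) 1) +
      @Curv2.euler k _ D.subscheme ⟨D.subschemeι ≫ (X ↘ (Spec (CommRingCat.of k)))⟩
        (Coh.structureModule D.subscheme) := by
  letI : D.subscheme.Over (Spec (CommRingCat.of k)) :=
    ⟨D.subschemeι ≫ (X ↘ (Spec (CommRingCat.of k)))⟩
  haveI : IsProper (D.subscheme ↘ Spec (CommRingCat.of k)) :=
    inferInstanceAs (IsProper (D.subschemeι ≫ (X ↘ (Spec (CommRingCat.of k)))))
  have hdimZ : topologicalKrullDim D.subscheme ≤ 1 := by
    rw [Groth.Agent.Lib.T2H6.AmpleComp.topologicalKrullDim_subscheme]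
    exact hD
  have hM : PicF.IsInvertible ((Scheme.Modules.pullback D.subschemeι).obj L) :=
    Groth.Agent.Lib.Helper23.PB.isInvertible_pullback _ L hL
  have hMN := Groth.Agent.Lib.Helper23.SecTw.isInvertible_tensorPow hM N
  have hMNc : Coh.IsCoh (CohB1.tensorPow ((Scheme.Modules.pullback D.subschemeι).obj L) N) :=
    Groth.Agent.Lib.T2H6.CurveDeg.isCoh_of_isInvertible _ hMN
  have hOc : Coh.IsCoh (Coh.structureModule D.subscheme) :=
    Groth.Agent.Lib.T2H5.GenIsoF.isCoh_structureModule
  have hT : Coh.IsCoh (CohB1.tensorMod (Coh.structureModule D.subscheme)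
      (CohB1.tensorPow ((Scheme.Modules.pullback D.subschemeι).obj L) N)) :=
    isCoh_tensor _ _ hOc hMNc
  haveI := hT.1
  obtain ⟨e3⟩ := Groth.Agent.Lib.T2H5.PushExact.nonempty_push_tensor_tensorPow_iso D.subschemeι L hL
    (Coh.structureModule D.subscheme) N
  obtain ⟨ε⟩ := Groth.Agent.Lib.T2H6.TensorFree.nonempty_unitTensorIso'
    (CohB1.tensorPow ((Scheme.Modules.pullback D.subschemeι).obj L) N)
  rw [← Groth.Agent.Lib.T2H6.HiggsCurve.euler_eq_of_iso k e3
      (Groth.Agent.Lib.T2H5.ClosedTransfer.isCoh_pushforward D.subschemeι _ hT),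
    euler_pushforward D.subschemeι k rfl _,
    Groth.Agent.Lib.T2H6.HiggsCurve.euler_eq_of_iso k ε hT,
    euler_tensorPow k hdimZ _ hM N]

end Groth.Agent.Lib.T2H6.IntersectDeg
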