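import Mathlib
import Groth.Agent.Lib.T2H6TensorDegGen
import Groth.Agent.Lib.T2H6IntersectDeg
set_option backward.isDefEq.respectTransparency.types false

/-!
# The iterated twists `F ⊗ L_0^{n_0} ⊗ ⋯ ⊗ L_{r-1}^{n_{r-1}}` (helper6)

Basic properties of `Curv2.tensorPows`: compatibility with a further twist, with raising one exponent, additivity of
additive functions composed with it, coherence.
-/

set_option autoImplicit false
set_option linter.style.haveILetI false
set_option linter.unusedSectionVars false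
universe u

open AlgebraicGeometry CategoryTheory Limits TopologicalSpace Opposite

namespace Groth.Agent.Lib.T2H6.TensorPows

open Groth.Agent.Lib.T2H5.Twist Groth.Agent.Lib.T2H6.TensorDeg Groth.Agent.Lib.T2H6.TensorDegGen
  Groth.Agent.Lib.T2H6.AddFn
open Groth.Agent.Lib.Helper21.ModTensor2 Groth.Agent.Lib.Helper21.ModTensor3
  Groth.Agent.Lib.Helper21.ModTensor5 Groth.Agent.Lib.Helper21.ModTensor6
  Groth.Agent.Lib.Helper21.ModTensor7

variable {X : Scheme.{u}}

/-- `A ⊗ B ≅ B ⊗ A`. -/
noncomputable def braidIso (A B : X.Modules) : CohB1.tensorMod A B ≅ CohB1.tensorMod B A :=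
  brdApp X.sheaf A B

/-- `(T ⊗ M) ⊗ P ≅ T ⊗ (M ⊗ P)`. -/
noncomputable def assocIso' (T M P : X.Modules) :
    CohB1.tensorMod (CohB1.tensorMod T M) P ≅ CohB1.tensorMod T (CohB1.tensorMod M P) :=
  (trComp M P).app T

/-- `(T ⊗ M) ⊗ P ≅ (T ⊗ P) ⊗ M`. -/
noncomputable def swapIso (T M P : X.Modules) :
    CohB1.tensorMod (CohB1.tensorMod T M) P ≅ CohB1.tensorMod (CohB1.tensorMod T P) M :=
  assocIso' T M P ≪≫ (trCongr (braidIso M P)).app T ≪≫ (assocIso' T P M).symm

/-- `tensorPows (F ⊗ M) ≅ tensorPows F ⊗ M`. -/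
theorem nonempty_tensorPows_tensor_iso (F M : X.Modules) : ∀ (r : ℕ) (L : Fin r → X.Modules) (n : Fin r → ℕ),
    Nonempty (Curv2.tensorPows (CohB1.tensorMod F M) r L n ≅
      CohB1.tensorMod (Curv2.tensorPows F r L n) M) := by
  intro r
  induction r with
  | zero => intro L n; exact ⟨Iso.refl _⟩
  | succ r ih =>
    intro L n
    obtain ⟨e⟩ := ih (fun i => L i.castSucc) (fun i => n i.castSucc)
    exact ⟨(tr (CohB1.tensorPow (L (Fin.last r)) (n (Fin.last r)))).mapIso e ≪≫ swapIso _ _ _⟩

theorem castSucc_add_single_last {r : ℕ} (n : Fin (r + 1) → ℕ) :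
    (fun i : Fin r => (n + Pi.single (Fin.last r) 1 : Fin (r + 1) → ℕ) i.castSucc) = fun i => n i.castSucc := by
  funext i
  have h : i.castSucc ≠ Fin.last r := Fin.castSucc_ne_last i
  simp [Pi.single_apply, h]

theorem castSucc_add_single_castSucc {r : ℕ} (n : Fin (r + 1) → ℕ) (j : Fin r) :
    (fun i : Fin r => (n + Pi.single j.castSucc 1 : Fin (r + 1) → ℕ) i.castSucc) =
      (fun i => n i.castSucc) + Pi.single j 1 := by
  funext i
  by_cases h : i = j
  · subst h; simp
  · have h' : i.castSucc ≠ j.castSucc := fun hh => h (Fin.castSucc_injective _ hh)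
    simp [Pi.single_apply, h, h']

/-- `tensorPows F (n + e_i) ≅ tensorPows F n ⊗ L_i`. -/
theorem nonempty_tensorPows_add_single_iso (F : X.Modules) : ∀ (r : ℕ) (L : Fin r → X.Modules) (n : Fin r → ℕ)
    (i : Fin r), Nonempty (Curv2.tensorPows F r L (n + Pi.single i 1) ≅
      CohB1.tensorMod (Curv2.tensorPows F r L n) (L i)) := by
  intro r
  induction r with
  | zero => intro L n i; exact i.elim0
  | succ r ih =>
    intro L n i
    refine Fin.lastCases ?_ (fun j => ?_) i
    · -- the last exponent is raised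
      have h1 : Curv2.tensorPows F (r + 1) L (n + Pi.single (Fin.last r) 1) =
          CohB1.tensorMod (Curv2.tensorPows F r (fun i => L i.castSucc) (fun i => n i.castSucc))
            (CohB1.tensorMod (CohB1.tensorPow (L (Fin.last r)) (n (Fin.last r))) (L (Fin.last r))) := by
        change CohB1.tensorMod (Curv2.tensorPows F r (fun i => L i.castSucc)
            (fun i => (n + Pi.single (Fin.last r) 1 : Fin (r + 1) → ℕ) i.castSucc))
            (CohB1.tensorPow (L (Fin.last r)) ((n + Pi.single (Fin.last r) 1 : Fin (r + 1) → ℕ) (Fin.last r))) = _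
        rw [castSucc_add_single_last]
        have h2 : (n + Pi.single (Fin.last r) 1 : Fin (r + 1) → ℕ) (Fin.last r) = n (Fin.last r) + 1 := by simp
        rw [h2]
        rfl
      rw [h1]
      exact ⟨(assocIso' _ _ _).symm⟩
    · have h1 : Curv2.tensorPows F (r + 1) L (n + Pi.single j.castSucc 1) =
          CohB1.tensorMod (Curv2.tensorPows F r (fun i => L i.castSucc)
            ((fun i => n i.castSucc) + Pi.single j 1))
            (CohB1.tensorPow (L (Fin.last r)) (n (Fin.last r))) := by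
        change CohB1.tensorMod (Curv2.tensorPows F r (fun i => L i.castSucc)
            (fun i => (n + Pi.single j.castSucc 1 : Fin (r + 1) → ℕ) i.castSucc))
            (CohB1.tensorPow (L (Fin.last r)) ((n + Pi.single j.castSucc 1 : Fin (r + 1) → ℕ) (Fin.last r))) = _
        rw [castSucc_add_single_castSucc]
        have h2 : (n + Pi.single j.castSucc 1 : Fin (r + 1) → ℕ) (Fin.last r) = n (Fin.last r) := by
          have h : Fin.last r ≠ j.castSucc := (Fin.castSucc_ne_last j).symm
          simp [Pi.single_apply, h]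
        rw [h2]
      rw [h1]
      obtain ⟨e⟩ := ih (fun i => L i.castSucc) (fun i => n i.castSucc) j
      exact ⟨(tr (CohB1.tensorPow (L (Fin.last r)) (n (Fin.last r)))).mapIso e ≪≫ swapIso _ _ _⟩

/-- coherence of the iterated twists. -/
theorem isCoh_tensorPows (F : X.Modules) (hF : Coh.IsCoh F) : ∀ (r : ℕ) (L : Fin r → X.Modules)
    (_ : ∀ i, PicF.IsInvertible (L i)) (n : Fin r → ℕ), Coh.IsCoh (Curv2.tensorPows F r L n) := by
  intro r
  induction r with
  | zero => intro L _ n; exact hF
  | succ r ih =>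
    intro L hL n
    exact isCoh_tensor _ _ (ih (fun i => L i.castSucc) (fun i => hL i.castSucc) (fun i => n i.castSucc))
      (Groth.Agent.Lib.T2H6.CurveDeg.isCoh_of_isInvertible _
        (Groth.Agent.Lib.Helper23.SecTw.isInvertible_tensorPow (hL (Fin.last r)) (n (Fin.last r))))

/-- an additive function composed with the iterated twists is additive. -/
theorem isAddFn_tensorPows : ∀ (r : ℕ) {Φ : X.Modules → ℤ} (_ : IsAddFn Φ) (L : Fin r → X.Modules)
    (_ : ∀ i, PicF.IsInvertible (L i)) (n : Fin r → ℕ),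
    IsAddFn (fun F => Φ (Curv2.tensorPows F r L n)) := by
  intro r
  induction r with
  | zero => intro Φ hΦ L _ n; exact hΦ
  | succ r ih =>
    intro Φ hΦ L hL n
    have hP := Groth.Agent.Lib.Helper23.SecTw.isFinLocFreeOfRank_one_of_isInvertible _
      (Groth.Agent.Lib.Helper23.SecTw.isInvertible_tensorPow (hL (Fin.last r)) (n (Fin.last r)))
    exact ih (Groth.Agent.Lib.T2H6.TensorDegGen.IsAddFn.comp_tr hΦ _ 1 hP) (fun i => L i.castSucc) (fun i => hL i.castSucc) (fun i => n i.castSucc)

/-- the difference of an additive function along a morphism. -/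
theorem IsAddFn.sub_eq [IsLocallyNoetherian X] {Φ : X.Modules → ℤ} (hΦ : IsAddFn Φ) {A B : X.Modules}
    (φ : A ⟶ B) (hA : Coh.IsCoh A) (hB : Coh.IsCoh B) :
    Φ B - Φ A = Φ (cokernel φ) - Φ (kernel φ) := by
  open Groth.Agent.Lib.T2H5.GenIsoB in
  have hK : Coh.IsCoh (kernel φ) := isCoh_kernel φ hA hB
  open Groth.Agent.Lib.T2H5.GenIsoB in
  have hC : Coh.IsCoh (cokernel φ) := isCoh_cokernel φ hA hB
  open Groth.Agent.Lib.T2H5.GenIsoB in
  have hIm : Coh.IsCoh (kernel (cokernel.π φ)) := isCoh_kernel _ hB hC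
  open Groth.Agent.Lib.T2H5.GenIsoB in
  have hCoim : Coh.IsCoh (cokernel (kernel.ι φ)) := isCoh_cokernel _ hK hA
  open Groth.Agent.Lib.T2H5.GenIsoB in
  have h1 := hΦ.add (kerSC φ) (kerSC_shortExact φ) hK hA hCoim
  open Groth.Agent.Lib.T2H5.GenIsoB in
  have h2 := hΦ.add (cokerSC φ) (cokerSC_shortExact φ) hIm hB hC
  change Φ A = Φ (kernel φ) + Φ (cokernel (kernel.ι φ)) at h1
  change Φ B = Φ (kernel (cokernel.π φ)) + Φ (cokernel φ) at h2
  have h5 : Φ (cokernel (kernel.ι φ)) = Φ (kernel (cokernel.π φ)) :=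
    hΦ.iso (Abelian.coimageIsoImage φ) hCoim
  rw [h1, h2, h5]
  ring

end Groth.Agent.Lib.T2H6.TensorPows
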