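import Mathlib
import Groth.Agent.Lib.T2H6PolyLt
import Groth.Agent.Lib.T2H6TensorPows
import Groth.Agent.Lib.T2H6DegComp
import Groth.Agent.Lib.Helper23RestrTensor
set_option backward.isDefEq.respectTransparency.types false

/-!
# Snapper's theorem for additive functions (helper6)

For an additive function `Φ` on the coherent modules of a Noetherian scheme and invertible modules `L_i`, the function
`n ↦ Φ(F ⊗ L_0^{n_0} ⊗ ⋯ ⊗ L_{r-1}^{n_{r-1}})` has vanishing differences of order `d` as soon as `dim Supp F < d`.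
-/

set_option autoImplicit false
set_option linter.style.haveILetI false
set_option linter.unusedSectionVars false
universe u

open AlgebraicGeometry CategoryTheory Limits TopologicalSpace Opposite

namespace Groth.Agent.Lib.T2H6.Snapper

open Groth.Agent.Lib.T2H5.Twist Groth.Agent.Lib.T2H6.TensorDeg Groth.Agent.Lib.T2H6.TensorDegGen
  Groth.Agent.Lib.T2H6.AddFn Groth.Agent.Lib.T2H6.TensorPows Groth.Agent.Lib.T2H6.PolyLt
  Groth.Agent.Lib.T2H5.GenIsoB Groth.Agent.Lib.T2H5.GenIsoC Groth.Agent.Lib.Helper23.Extend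

section Dim

variable {T : Type*} [TopologicalSpace T]

theorem nonempty_irreducibleCloseds_of_isIrreducible (Z : Set T) (hZ : IsIrreducible Z) :
    Nonempty (IrreducibleCloseds Z) := by
  haveI : IrreducibleSpace Z := Subtype.irreducibleSpace hZ
  exact ⟨⟨Set.univ, IrreducibleSpace.isIrreducible_univ Z, isClosed_univ⟩⟩

theorem topologicalKrullDim_nonneg_of_isIrreducible (Z : Set T) (hZ : IsIrreducible Z) :
    0 ≤ topologicalKrullDim Z := by
  haveI := nonempty_irreducibleCloseds_of_isIrreducible Z hZ
  exact Order.krullDim_nonneg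

/-- a proper closed subset of an irreducible set has smaller dimension. -/
theorem topologicalKrullDim_add_one_le (Y Z : Set T) (hY : IsClosed Y) (hZ : IsIrreducible Z) (hYZ : Y ⊆ Z)
    (hne : Y ≠ Z) : topologicalKrullDim Y + 1 ≤ topologicalKrullDim Z := by
  rcases isEmpty_or_nonempty (IrreducibleCloseds Y) with hE | hN
  · have : topologicalKrullDim Y = ⊥ := Order.krullDim_eq_bot
    rw [this, WithBot.bot_add]
    exact bot_le
  · haveI : IrreducibleSpace Z := Subtype.irreducibleSpace hZ
    let topZ : IrreducibleCloseds Z := ⟨Set.univ, IrreducibleSpace.isIrreducible_univ Z, isClosed_univ⟩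
    have hemb := Topology.IsEmbedding.inclusion hYZ
    let φ : WithTop (IrreducibleCloseds Y) → IrreducibleCloseds Z := fun a =>
      WithTop.recTopCoe topZ (IrreducibleCloseds.map (Set.inclusion hYZ) hemb.continuous) a
    obtain ⟨z, hzZ, hzY⟩ : ∃ z, z ∈ Z ∧ z ∉ Y := by
      by_contra hcon
      exact hne (Set.Subset.antisymm hYZ fun z hz => by_contra fun h => hcon ⟨z, hz, h⟩)
    have hlt : ∀ c : IrreducibleCloseds Y,
        IrreducibleCloseds.map (Set.inclusion hYZ) hemb.continuous c < topZ := by
      intro c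
      refine lt_of_le_of_ne (fun x _ => Set.mem_univ x) fun heq => ?_
      have hcl : IsClosed {w : Z | (w : T) ∈ Y} := hY.preimage continuous_subtype_val
      have hsub : ((IrreducibleCloseds.map (Set.inclusion hYZ) hemb.continuous c : IrreducibleCloseds Z) :
          Set Z) ⊆ {w : Z | (w : T) ∈ Y} := by
        change closure (Set.inclusion hYZ '' (c : Set Y)) ⊆ _
        refine closure_minimal ?_ hcl
        rintro _ ⟨y, _, rfl⟩
        exact y.2
      have : (⟨z, hzZ⟩ : Z) ∈ ((IrreducibleCloseds.map (Set.inclusion hYZ) hemb.continuous c :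
          IrreducibleCloseds Z) : Set Z) := by
        rw [heq]
        exact Set.mem_univ _
      exact hzY (hsub this)
    have hφ : StrictMono φ := by
      intro a b hab
      induction a using WithTop.recTopCoe with
      | top => exact absurd hab not_top_lt
      | coe a =>
        induction b using WithTop.recTopCoe with
        | top => exact hlt a
        | coe b =>
          exact IrreducibleCloseds.map_strictMono_of_isInducing hemb.isInducing (WithTop.coe_lt_coe.1 hab)
    have h := Order.krullDim_le_of_strictMono φ hφ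
    rw [Order.krullDim_WithTop] at h
    exact h

theorem lt_of_add_one_le_of_lt_succ {a b : WithBot ℕ∞} {e : ℕ} (h1 : a + 1 ≤ b)
    (h2 : b < ((e + 1 : ℕ) : WithBot ℕ∞)) : a < (e : WithBot ℕ∞) := by
  have h3 : a + 1 < (e : WithBot ℕ∞) + 1 := by
    refine lt_of_le_of_lt h1 ?_
    convert h2 using 1
    push_cast
    rfl
  exact lt_of_add_lt_add_right h3

end Dim

section Main

variable {X : Scheme.{u}} [IsNoetherian X]

/-- **Snapper's theorem for additive functions.** -/
theorem polyLt_tensorPows {Φ : X.Modules → ℤ} (hΦ : IsAddFn Φ) (r : ℕ) (L : Fin r → X.Modules)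
    (hL : ∀ i, PicF.IsInvertible (L i)) (F : X.Modules) (hF : Coh.IsCoh F) (d : ℕ)
    (hd : topologicalKrullDim (CohB1.support F) < d) :
    PolyLt d (fun n : Fin r → ℕ => Φ (Curv2.tensorPows F r L n)) := by
  have hΦn : ∀ n : Fin r → ℕ, IsAddFn (fun F => Φ (Curv2.tensorPows F r L n)) :=
    fun n => isAddFn_tensorPows r hΦ L hL n
  refine Groth.Agent.Lib.T2H5.Devissage.core
    (fun M => Coh.IsCoh M → ∀ d : ℕ, topologicalKrullDim (CohB1.support M) < d →
      PolyLt d (fun n : Fin r → ℕ => Φ (Curv2.tensorPows M r L n)))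
    ?_ ?_ ?_ Set.univ ?_ F hF (Set.subset_univ _) hF d hd
  · rintro M N ⟨e⟩ hM hN d hd
    have hMc : Coh.IsCoh M := Groth.Agent.Lib.T2H5.Devissage.isCoh_of_iso e.symm hN
    have h1 : (fun n : Fin r → ℕ => Φ (Curv2.tensorPows N r L n)) =
        fun n => Φ (Curv2.tensorPows M r L n) := funext fun n => ((hΦn n).iso e hMc).symm
    rw [h1]
    refine hM hMc d ?_
    rwa [support_eq_of_iso e]
  · intro M hM _ d _
    have h1 : (fun n : Fin r → ℕ => Φ (Curv2.tensorPows M r L n)) = 0 :=
      funext fun n => (hΦn n).zero M hM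
    rw [h1]
    exact PolyLt.zero d
  · intro S hS c1 c2 c3 hP1 hP3 _ d hd
    have h1 : (fun n : Fin r → ℕ => Φ (Curv2.tensorPows S.X₂ r L n)) =
        (fun n => Φ (Curv2.tensorPows S.X₁ r L n)) + fun n => Φ (Curv2.tensorPows S.X₃ r L n) :=
      funext fun n => (hΦn n).add S hS c1 c2 c3
    rw [h1]
    haveI := hS.mono_f
    haveI := hS.epi_g
    refine (hP1 c1 d (lt_of_le_of_lt ?_ hd)).add (hP3 c3 d (lt_of_le_of_lt ?_ hd))
    · exact (Topology.IsEmbedding.inclusion (support_subset_of_mono S.f)).isInducing.topologicalKrullDim_le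
    · exact (Topology.IsEmbedding.inclusion (support_subset_of_epi S.g)).isInducing.topologicalKrullDim_le
  · intro Z hZ hirr _ ihN M hM hk _ d hd
    have hsupp : CohB1.support M ⊆ Z := by
      have h := Groth.Agent.Lib.T2H6.AmpleComp.support_subset_of_killed _ M hM hk
      rwa [Scheme.IdealSheafData.coe_support_vanishingIdeal] at h
    by_cases hne : CohB1.support M = Z
    swap
    · exact ihN M hM hsupp hne hM d hd
    rw [hne] at hd
    obtain ⟨ξ, hξ⟩ := QuasiSober.sober hirr hZ
    have hξZ : ξ ∈ Z := hξ.mem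
    cases d with
    | zero =>
      exfalso
      have h0 := topologicalKrullDim_nonneg_of_isIrreducible Z hirr
      exact absurd (lt_of_le_of_lt h0 hd) (by simp)
    | succ e =>
      intro i
      obtain ⟨U, hξU, ⟨t⟩⟩ := hL i ξ
      have hLc : Coh.IsCoh (L i) := Groth.Agent.Lib.T2H6.CurveDeg.isCoh_of_isInvertible _ (hL i)
      have hB : Coh.IsCoh (CohB1.tensorMod M (L i)) := isCoh_tensor M (L i) hM hLc
      let eU : M.restrict U.ι ≅ (CohB1.tensorMod M (L i)).restrict U.ι :=
        ((trUnitIso (X := ↑U)).app (M.restrict U.ι)).symm ≪≫ (trCongr t.symm).app (M.restrict U.ι) ≪≫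
          (Groth.Agent.Lib.Helper23.RestrTensor.restrictTensorIso M (L i) U.ι).symm
      haveI := hM.1
      haveI := hB.1
      obtain ⟨H, ψ, hHq, hψ, hp, hq⟩ := exists_graph U M (CohB1.tensorMod M (L i)) eU
      haveI := hψ
      have hMB : Coh.IsCoh (M ⊞ CohB1.tensorMod M (L i)) :=
        Groth.Agent.Lib.T2H5.GenIsoD.isCoh_biprod M _ hM hB
      have hH : Coh.IsCoh H := Groth.Agent.Lib.T2H5.Devissage.isCoh_of_mono ψ hMB hHq
      -- supports
      have hsB : CohB1.support (CohB1.tensorMod M (L i)) ⊆ Z :=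
        (Groth.Agent.Lib.T2H5.Dim0.support_tensorMod_subset M (L i)).trans hsupp
      have hsH : CohB1.support H ⊆ Z :=
        (support_subset_of_mono ψ).trans
          ((Groth.Agent.Lib.T2H6.TensorDegA.support_biprod_subset M _).trans (Set.union_subset hsupp hsB))
      -- the induction hypothesis for the four modules
      have hN : ∀ N : X.Modules, Coh.IsCoh N → CohB1.support N ⊆ Z → ξ ∉ CohB1.support N →
          PolyLt e (fun n : Fin r → ℕ => Φ (Curv2.tensorPows N r L n)) := by
        intro N hNc hNZ hNξ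
        have hNne : CohB1.support N ≠ Z := fun h => hNξ (h ▸ hξZ)
        refine ihN N hNc hNZ hNne hNc e ?_
        exact lt_of_add_one_le_of_lt_succ
          (topologicalKrullDim_add_one_le _ Z (Groth.Agent.Lib.T2H5.Devissage.isClosed_support N hNc) hirr hNZ
            hNne) hd
      have hKp := isCoh_kernel (ψ ≫ biprod.fst) hH hM
      have hCp := isCoh_cokernel (ψ ≫ biprod.fst) hH hM
      have hKq := isCoh_kernel (ψ ≫ biprod.snd) hH hB
      have hCq := isCoh_cokernel (ψ ≫ biprod.snd) hH hB
      have e1 := hN _ hKp ((support_subset_of_mono (kernel.ι (ψ ≫ biprod.fst))).trans hsH)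
        (notMem_support_kernel_of_isoOn _ U hp ξ hξU)
      have e2 := hN _ hCp ((support_subset_of_epi (cokernel.π (ψ ≫ biprod.fst))).trans hsupp)
        (notMem_support_cokernel_of_isoOn _ U hp ξ hξU)
      have e3 := hN _ hKq ((support_subset_of_mono (kernel.ι (ψ ≫ biprod.snd))).trans hsH)
        (notMem_support_kernel_of_isoOn _ U hq ξ hξU)
      have e4 := hN _ hCq ((support_subset_of_epi (cokernel.π (ψ ≫ biprod.snd))).trans hsB)
        (notMem_support_cokernel_of_isoOn _ U hq ξ hξU)
      have key : fwdDiff (Pi.single i 1) (fun n : Fin r → ℕ => Φ (Curv2.tensorPows M r L n)) =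
          ((fun n : Fin r → ℕ => Φ (Curv2.tensorPows (cokernel (ψ ≫ biprod.snd)) r L n)) -
            fun n => Φ (Curv2.tensorPows (kernel (ψ ≫ biprod.snd)) r L n)) -
          ((fun n : Fin r → ℕ => Φ (Curv2.tensorPows (cokernel (ψ ≫ biprod.fst)) r L n)) -
            fun n => Φ (Curv2.tensorPows (kernel (ψ ≫ biprod.fst)) r L n)) := by
        funext n
        have h1 := Groth.Agent.Lib.T2H6.TensorPows.IsAddFn.sub_eq (hΦn n) (ψ ≫ biprod.fst) hH hM
        have h2 := Groth.Agent.Lib.T2H6.TensorPows.IsAddFn.sub_eq (hΦn n) (ψ ≫ biprod.snd) hH hB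
        obtain ⟨ε1⟩ := nonempty_tensorPows_tensor_iso M (L i) r L n
        obtain ⟨ε2⟩ := nonempty_tensorPows_add_single_iso M r L n i
        have h3 : Φ (Curv2.tensorPows (CohB1.tensorMod M (L i)) r L n) =
            Φ (Curv2.tensorPows M r L (n + Pi.single i 1)) := by
          rw [hΦ.iso ε1 (isCoh_tensorPows _ hB r L hL n), hΦ.iso ε2 (isCoh_tensorPows _ hM r L hL _)]
        simp only [fwdDiff, Pi.sub_apply]
        rw [← h3]
        linarith
      rw [key]
      exact (e4.sub e3).sub (e2.sub e1)

end Main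

end Groth.Agent.Lib.T2H6.Snapper
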