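import Mathlib
import Groth.Prelude
import Groth.Agent.Lib.T2H6GVGen
import Groth.Agent.Lib.T2H6GVIrr
import Groth.Agent.Lib.T2H6GVRed
import Groth.Agent.Lib.T2H6Snapper
set_option backward.isDefEq.respectTransparency.types false

/-!
# Grothendieck's vanishing theorem for Noetherian topological spaces (helper6)

Namespace `Groth.Agent.Lib.T2H6.GVMain`.

* `grothendieck_vanishing` : `X` Noetherian, `dim X < p` ⟹ `H^p(X, F) = 0` for every abelian sheaf `F`.
* `subsingleton_HH` : the same for the cohomology `Coh.HH` of modules on a scheme with Noetherian underlying space.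
-/

set_option autoImplicit false
set_option linter.unusedSectionVars false
set_option linter.unusedVariables false
universe u
open CategoryTheory CategoryTheory.Limits Opposite TopologicalSpace Abelian

namespace Groth.Agent.Lib.T2H6.GVMain

open Groth.Agent.Lib.Helper16.ClosedEmb Groth.Agent.Lib.T2H6.GVTools

variable {X : TopCat.{u}}

/-- the inductive statement, for spaces closed-embedded in `X` with image `T` -/
def P (X : TopCat.{u}) (T : Closeds X) : Prop :=
  ∀ (W : TopCat.{u}) (f : W ⟶ X), Topology.IsClosedEmbedding f → Set.range f = (T : Set X) →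
    ∀ (G : CohTop.Ab W) (p : ℕ), topologicalKrullDim W < (p : WithBot ℕ∞) → Subsingleton (CohTop.H G p)

theorem step [NoetherianSpace X] (T : Closeds X) (IH : ∀ T' : Closeds X, T' < T → P X T') : P X T := by
  intro W f hf hrange G p hp
  haveI : NoetherianSpace W := hf.isInducing.noetherianSpace
  -- the induction hypothesis, for sheaves vanishing on a nonempty open
  have key : ∀ (V : Opens W), (V : Set W).Nonempty → ∀ (G' : CohTop.Ab W), SZ V G' → ∀ k : ℕ,
      topologicalKrullDim ((V : Set W)ᶜ : Set W) < (k : WithBot ℕ∞) → Subsingleton (CohTop.H G' k) := by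
    intro V hV G' hG' k hk
    refine subsingleton_H_of_SZ V G' hG' k fun G'' => ?_
    let T' : Closeds X := ⟨f '' ((V : Set W)ᶜ), hf.isClosedMap _ V.isOpen.isClosed_compl⟩
    have hlt : T' < T := by
      refine lt_of_le_of_ne ?_ ?_
      · intro y hy
        obtain ⟨w, _, rfl⟩ := hy
        change f w ∈ (T : Set X)
        rw [← hrange]
        exact ⟨w, rfl⟩
      · intro heq
        obtain ⟨x, hx⟩ := hV
        have h1 : f x ∈ (T : Set X) := by
          rw [← hrange]
          exact ⟨x, rfl⟩
        rw [← heq] at h1
        obtain ⟨w, hw, hwx⟩ := h1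
        have := hf.injective hwx
        subst this
        exact hw hx
    refine IH T' hlt (TopCat.of ((V : Set W)ᶜ : Set W)) (iZ V ≫ f) (hf.comp (hiZ V)) ?_ G'' k hk
    change Set.range (f ∘ (Subtype.val : ((V : Set W)ᶜ : Set W) → W)) = f '' ((V : Set W)ᶜ)
    rw [Set.range_comp, Subtype.range_coe]
  by_cases hne : Nonempty W
  · by_cases hirr : IsPreirreducible (Set.univ : Set W)
    · -- the irreducible case
      haveI : IrreducibleSpace W := { isPreirreducible_univ := hirr, toNonempty := hne }
      obtain ⟨q, rfl⟩ : ∃ q, p = q + 1 := by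
        rcases p with _ | q
        · exfalso
          haveI : Nonempty (IrreducibleCloseds W) :=
            ⟨⟨Set.univ, IrreducibleSpace.isIrreducible_univ W, isClosed_univ⟩⟩
          have h0 : (0 : WithBot ℕ∞) ≤ topologicalKrullDim W := Order.krullDim_nonneg
          exact absurd (lt_of_le_of_lt h0 hp) (lt_irrefl _)
        · exact ⟨q, rfl⟩
      refine Groth.Agent.Lib.T2H6.GVGen.vanishing_of_quotients G (q + 1) fun U Q π hπ => ?_
      refine Groth.Agent.Lib.T2H6.GVIrr.irr_quot q (fun k hk V hV G' hG' => ?_) U Q π hπ
      refine key V hV G' hG' k ?_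
      have hcl : IsClosed ((V : Set W)ᶜ) := V.isOpen.isClosed_compl
      have hne' : ((V : Set W)ᶜ) ≠ Set.univ := by
        intro h
        obtain ⟨x, hx⟩ := hV
        have : x ∈ ((V : Set W)ᶜ) := h ▸ Set.mem_univ x
        exact this hx
      have h1 := Groth.Agent.Lib.T2H6.Snapper.topologicalKrullDim_add_one_le ((V : Set W)ᶜ) Set.univ hcl
        (IrreducibleSpace.isIrreducible_univ W) (Set.subset_univ _) hne'
      have h2 : topologicalKrullDim (Set.univ : Set W) ≤ topologicalKrullDim W :=
        topologicalKrullDim_subspace_le W Set.univ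
      have h3 : topologicalKrullDim ((V : Set W)ᶜ : Set W) < (q : WithBot ℕ∞) :=
        Groth.Agent.Lib.T2H6.Snapper.lt_of_add_one_le_of_lt_succ (h1.trans h2) hp
      exact lt_of_lt_of_le h3 (by exact_mod_cast hk)
    · -- the reducible case
      unfold IsPreirreducible at hirr
      push Not at hirr
      obtain ⟨u, v, hu, hv, hune, hvne, huv⟩ := hirr
      rw [Set.univ_inter] at hune hvne huv
      let U' : Opens W := ⟨u, hu⟩
      let V₁ : Opens W := ⟨v, hv⟩
      have hdisj : U' ⊓ V₁ = ⊥ := by
        ext x
        simp only [Opens.coe_inf, Opens.coe_bot, Set.mem_empty_iff_false, iff_false]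
        intro hx
        have hx' : x ∈ u ∩ v := hx
        rw [huv] at hx'
        exact hx'
      refine Groth.Agent.Lib.T2H6.GVGen.vanishing_of_quotients G p fun U Q π hπ => ?_
      refine Groth.Agent.Lib.T2H6.GVRed.red_quot U' V₁ hdisj p (fun G' hG' => ?_) (fun G' hG' => ?_) U Q π hπ
      · exact key U' hune G' hG' p (lt_of_le_of_lt (topologicalKrullDim_subspace_le W _) hp)
      · exact key V₁ hvne G' hG' p (lt_of_le_of_lt (topologicalKrullDim_subspace_le W _) hp)
  · -- the empty case
    refine subsingleton_H_of_SZ_top G (fun V _ => ?_) p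
    refine Groth.Agent.Lib.Helper16.IrredConst.subsingleton_of_empty G ?_
    rintro ⟨x, _⟩
    exact hne ⟨x⟩

theorem main [NoetherianSpace X] : ∀ T : Closeds X, P X T := by
  intro T
  induction T using WellFoundedLT.induction with
  | _ T IH => exact step T IH

/-- **Grothendieck's vanishing theorem** for Noetherian topological spaces. -/
theorem grothendieck_vanishing [NoetherianSpace X] (F : CohTop.Ab X) (p : ℕ)
    (hp : topologicalKrullDim X < (p : WithBot ℕ∞)) : Subsingleton (CohTop.H F p) := by
  refine main (X := X) ⊤ X (𝟙 X) ?_ ?_ F p hp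
  · exact Topology.IsClosedEmbedding.id
  · change Set.range (id : X → X) = Set.univ
    exact Set.range_id

open AlgebraicGeometry in
/-- Grothendieck vanishing for modules on a scheme with Noetherian underlying space. -/
theorem subsingleton_HH (Y : Scheme.{u}) [NoetherianSpace Y] (M : Y.Modules) (p : ℕ)
    (hp : topologicalKrullDim Y < (p : WithBot ℕ∞)) : Subsingleton (Coh.HH Y M p) :=
  grothendieck_vanishing (X := Y.carrier) (Coh.toAb M) p hp

end Groth.Agent.Lib.T2H6.GVMain
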