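import Groth.Agent.Lib.T2H5BC0Main
import Groth.Agent.Lib.T2H5LocSemi
import Groth.Agent.Lib.T2H5T2Main
import Groth.Agent.Lib.T2H6GVMain
set_option backward.isDefEq.respectTransparency.types false

/-!
# Cohomology and base change over an arbitrary base: further consequences (helper5)

Namespace `Groth.Agent.Lib.T2H5.BC0MainB`.

`π : X ⟶ Y` proper of finite presentation, `F` of finite presentation and flat over `Y`.

* `isFinLocFree_Rpush_one`: if `H^2` of all fibres vanishes and the degree zero base change maps of all fibre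
  squares are epimorphisms then `R^1 π_* F` is finite locally free.
* `subsingleton_fiberH_of_fiberRank`, `subsingleton_fiberH_of_dim`, `isOpen_fibre_vanishing`.
* `isZero_Rpush_restrict`: `R^j π_* F` vanishes over an open on which `h^j = 0`.
-/

set_option autoImplicit false
set_option linter.style.haveILetI false
set_option linter.unusedSectionVars false
set_option linter.unusedVariables false
universe u
open CategoryTheory CategoryTheory.Limits AlgebraicGeometry Opposite TopologicalSpace

namespace Groth.Agent.Lib.T2H5.BC0MainB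

open Groth.Agent.Lib.T2H5.BC0GlueE Groth.Agent.Helper13AffBC Groth.Agent.Lib.T2H5.BC0Main

theorem subsingleton_of_finrank_eq_zero {k M : Type u} [Field k] [AddCommGroup M] [Module k M]
    [Module.Finite k M] (h : Module.finrank k M = 0) : Subsingleton M :=
  (Module.finrank_eq_zero_iff_of_free (R := k) (M := M)).mp h

section fibre

variable {X Y : Scheme.{u}} (π : X ⟶ Y) [IsProper π] (F : X.Modules)

theorem isProper_fiber (y : Y) :
    letI := CohIII.fiberOver π y
    IsProper ((π.fiber y) ↘ Spec (CommRingCat.of (Y.residueField y))) := by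
  letI := CohIII.fiberOver π y
  have hsq : IsPullback (π.fiberι y) (π.fiberToSpecResidueField y) π (Y.fromSpecResidueField y) :=
    IsPullback.of_hasPullback _ _
  exact MorphismProperty.of_isPullback (P := @IsProper) hsq inferInstance

/-- the cohomology of a fibre of a proper morphism vanishes above the dimension of the fibre -/
theorem subsingleton_fiberH_of_dim (y : Y) (d : ℕ) (hd : topologicalKrullDim ↥(π.fiber y) ≤ d) (p : ℕ)
    (hp : d < p) : Subsingleton (CohIII.fiberH π F y p) := by
  letI := CohIII.fiberOver π y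
  haveI := isProper_fiber π y
  haveI : IsNoetherian (π.fiber y) :=
    { __ := LocallyOfFiniteType.isLocallyNoetherian
        ((π.fiber y) ↘ Spec (CommRingCat.of (Y.residueField y)))
      toCompactSpace := QuasiCompact.compactSpace_of_compactSpace
        ((π.fiber y) ↘ Spec (CommRingCat.of (Y.residueField y))) }
  exact Groth.Agent.Lib.T2H6.GVMain.subsingleton_HH (π.fiber y) _ p
    (lt_of_le_of_lt hd (by exact_mod_cast hp))

/-- for `F` of finite presentation, `h^p(y) = 0` means that `H^p` of the fibre vanishes -/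
theorem subsingleton_fiberH_of_fiberRank (hfp : CohB1.IsFP F) (y : Y) (p : ℕ)
    (h : CohIII.fiberRank π F p y = 0) : Subsingleton (CohIII.fiberH π F y p) := by
  letI := CohIII.fiberOver π y
  haveI := isProper_fiber π y
  have hfp' : CohB1.IsFP (CohIII.fiberMod π F y) :=
    Groth.Agent.Helper18Strict.isFP_pullback _ F hfp
  have hcoh : Coh.IsCoh (CohIII.fiberMod π F y) := by
    haveI : SheafOfModules.IsFinitePresentation (R := (π.fiber y).ringCatSheaf)
      (CohIII.fiberMod π F y) := hfp'
    exact ⟨inferInstance, inferInstance⟩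
  have hfin : @Module.Finite (Y.residueField y) (CohIII.fiberH π F y p) _ _
      (CohIII.moduleFiberH π F y p) :=
    Groth.Agent.Lib.T2H5.T2Main.finite_HH_of_isProper (Y.residueField y) (π.fiber y) _ hcoh p
  unfold CohIII.fiberRank at h
  exact @subsingleton_of_finrank_eq_zero (Y.residueField y) (CohIII.fiberH π F y p) _ _
    (CohIII.moduleFiberH π F y p) hfin h

end fibre

section main

variable {X Y : Scheme.{u}} (π : X ⟶ Y) [IsProper π] [LocallyOfFinitePresentation π]
  (F : X.Modules) (hfp : CohB1.IsFP F) (hfl : FlatMod.IsFlatOver π F)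

include hfp hfl in
/-- the locus where the cohomology of the fibres vanishes in all positive degrees is open, if the dimensions of
the fibres are bounded -/
theorem isOpen_fibre_vanishing (d : ℕ) (hd : ∀ s : Y, topologicalKrullDim ↥(π.fiber s) ≤ d) :
    IsOpen {s : Y | ∀ j : ℕ, 1 ≤ j → Subsingleton (CohIII.fiberH π F s j)} := by
  haveI : F.IsQuasicoherent := Groth.Agent.Helper18Strict.isQCoh_of_isFP F hfp
  have heq : {s : Y | ∀ j : ℕ, 1 ≤ j → Subsingleton (CohIII.fiberH π F s j)} =
      ⋂ j ∈ Finset.Icc 1 d, {s : Y | CohIII.fiberRank π F j s < 1} := by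
    ext s
    simp only [Set.mem_ofPred_eq, Set.mem_iInter, Finset.mem_Icc]
    constructor
    · intro h j hj
      rw [Groth.Agent.Lib.T2H5.LocMain.fiberRank_eq_zero_of_subsingleton π F s j (h j hj.1)]
      exact Nat.zero_lt_one
    · intro h j hj
      by_cases hjd : j ≤ d
      · exact subsingleton_fiberH_of_fiberRank π F hfp s j (Nat.lt_one_iff.mp (h j ⟨hj, hjd⟩))
      · exact subsingleton_fiberH_of_dim π F s d (hd s) j (not_le.mp hjd)
  rw [heq]
  exact isOpen_biInter_finset fun j _ =>
    Groth.Agent.Lib.T2H5.LocSemi.isOpen_fiberRank_lt π F hfp hfl j 1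

variable [HasInjectiveResolutions X.Modules]

include hfp hfl in
/-- `R^j π_* F` vanishes over an open on which `h^j = 0` -/
theorem isZero_Rpush_restrict (j : ℕ) (U : Y.Opens)
    (hU : ∀ s : Y, s ∈ U → CohIII.fiberRank π F j s = 0) :
    IsZero (((Coh.Rpush π j).obj F).restrict U.ι) := by
  haveI : F.IsQuasicoherent := Groth.Agent.Helper18Strict.isQCoh_of_isFP F hfp
  haveI := Groth.Agent.Lib.T2H5.RpushQCoh.isQuasicoherent_Rpush π F j
  haveI : (((Coh.Rpush π j).obj F).restrict U.ι).IsQuasicoherent :=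
    Scheme.Modules.isQuasicoherent_restrictFunctor U.ι _
  choose! O hsO hO using fun (s : Y) (hs : s ∈ U) =>
    Groth.Agent.Lib.T2H5.LocApply.exists_open_subsingleton π F hfp hfl s j (hU s hs)
  refine Groth.Agent.Lib.T2H5.IdealMul.isZero_of_affine_cover _
    {W' : (U : Scheme.{u}).affineOpens | ∃ s : Y, s ∈ U ∧ U.ι ''ᵁ W'.1 ≤ O s} (fun x => ?_)
    (fun W' hW' t => ?_)
  · obtain ⟨_, ⟨W', hW', rfl⟩, hxW', hW'le⟩ :=
      (U : Scheme.{u}).isBasis_affineOpens.exists_subset_of_mem_open
        (show x ∈ ((U.ι ⁻¹ᵁ O x.1 : (U : Scheme.{u}).Opens) : Set (U : Scheme.{u})) from hsO x.1 x.2)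
        (U.ι ⁻¹ᵁ O x.1).2
    refine ⟨⟨W', hW'⟩, ⟨x.1, x.2, ?_⟩, hxW'⟩
    rintro _ ⟨w, hw, rfl⟩
    exact hW'le hw
  · obtain ⟨s, hs, hle⟩ := hW'
    haveI := hO s hs (U.ι ''ᵁ W'.1) (W'.2.image_of_isOpenImmersion U.ι) hle
    exact Subsingleton.elim (α := Γ((Coh.Rpush π j).obj F, U.ι ''ᵁ W'.1)) t 0

include hfp hfl in
/-- if `H^2` of all fibres vanishes and the degree zero base change maps of all fibre squares are epimorphisms
then `R^1 π_* F` is finite locally free -/
theorem isFinLocFree_Rpush_one (h2 : ∀ y : Y, CohIII.fiberRank π F 2 y = 0)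
    (h0 : ∀ (y : Y) (hsq : IsPullback (π.fiberι y) (π.fiberToSpecResidueField y) π
      (Y.fromSpecResidueField y)), Epi (bcMap π (Y.fromSpecResidueField y) (π.fiberι y)
        (π.fiberToSpecResidueField y) hsq F)) :
    FlatMod.IsFinLocFree ((Coh.Rpush π 1).obj F) := by
  haveI : F.IsQuasicoherent := Groth.Agent.Helper18Strict.isQCoh_of_isFP F hfp
  haveI := Groth.Agent.Lib.Helper23.QCohLocal.isQuasicoherent_pushforward π F
  haveI := Groth.Agent.Lib.T2H5.RpushQCoh.isQuasicoherent_Rpush π F 1
  intro y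
  obtain ⟨V, hV, hyV, -⟩ := exists_isAffineOpen_mem_and_subset (x := y) (U := ⊤) trivial
  obtain ⟨D⟩ := nonempty_bcLoc π F hfp hfl hV
  have hsq : IsPullback (π.fiberι y) (π.fiberToSpecResidueField y) π (Y.fromSpecResidueField y) :=
    IsPullback.of_hasPullback _ _
  haveI := h0 y hsq
  have g1 : y ∈ D.good (-1) :=
    D.mem_good_of_surjective y hyV hsq (surjective_app_top_of_epi _)
  have g2 : y ∈ D.good (-((2 : ℕ) : ℤ)) := D.mem_good_of_fiberRank_eq_zero y hyV 2 (h2 y)
  obtain ⟨_, ⟨W, hW, rfl⟩, hyW, hWG⟩ := Y.isBasis_affineOpens.exists_subset_of_mem_open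
    (show y ∈ D.good (-1) ∩ D.good (-((2 : ℕ) : ℤ)) from ⟨g1, g2⟩)
    ((D.isOpen_good (-1)).inter (D.isOpen_good _))
  have hWV : W ≤ V := fun x hx => D.good_subset (-1) (hWG hx).1
  have c1 : (-((1 : ℕ) : ℤ)) = -1 := by norm_num
  have c2 : (-((1 : ℕ) : ℤ) - 1) = -((2 : ℕ) : ℤ) := by norm_num
  have hg1 : (W : Set Y) ⊆ D.good (-((1 : ℕ) : ℤ)) := by
    rw [c1]
    exact fun x hx => (hWG hx).1
  have hg2 : (W : Set Y) ⊆ D.good (-((1 : ℕ) : ℤ) - 1) := by
    rw [c2]
    exact fun x hx => (hWG hx).2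
  obtain ⟨hf, hp⟩ := D.finite_projective_sect hW hWV 1 hg1 hg2
  obtain ⟨D', m, hyD', -, hiso⟩ :=
    Groth.Agent.Lib.T2H5.LocApply.exists_restrict_iso_freeMod_of_finite_projective
      ((Coh.Rpush π 1).obj F) hW hf hp y hyW
  exact ⟨D', m, hyD', hiso⟩

end main

end Groth.Agent.Lib.T2H5.BC0MainB
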