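import Mathlib

/-!
# T2H5FlatBCA (helper5): tensoring `Ext` groups with a flat module, and the five lemma

Abstract part of the flat base change theorem.  `C` an abelian category with `Ext`, `A` a commutative ring
acting on two objects `F`, `G` of `C` (`aF : A →+* End F`, `aG : A →+* End G`), `M` an `A`-module and
`Φ : Fam aF aG M` an additive family of morphisms `φ m : F ⟶ G`, `m ∈ M`, balanced for the two actions.

* `EM aF Z p` : the group `Ext^p(Z, F)` with its `A`-module structure; `preL aF x` : precomposition with a class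
  `x`, as a linear map; `exact₁`, `exact₂`, `exact₃`, `injective_preL_g` : the contravariant long exact sequence of
  a short exact sequence in terms of `Function.Exact`;
* `theta Φ Z p : Ext^p(Z, F) ⊗_A M → Ext^p(Z, G)`, `y ⊗ m ↦ (φ m)_* y`, natural in `Z` (`theta_nat`);
* `PZ Φ Z` : all `theta Φ Z p` are bijective.  For `M` flat and a short exact sequence `0 → X₁ → X₂ → X₃ → 0`:
  `pz_X₃` (from `X₁`, `X₂`), `pz_X₂` (from `X₁`, `X₃`), and `pz_biprod`.
-/

set_option autoImplicit false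
set_option backward.isDefEq.respectTransparency.types false
set_option linter.style.haveILetI false
set_option linter.unusedSectionVars false
set_option linter.unusedVariables false
universe w v' u' uA uM
open CategoryTheory CategoryTheory.Limits Abelian TensorProduct

namespace Groth.Agent.Lib.T2H5.FlatBC

section Five

variable {R : Type*} [CommRing R]
variable {M₂ M₃ M₄ M₅ N₂ N₃ N₄ N₅ : Type*}
variable [AddCommGroup M₂] [AddCommGroup M₃] [AddCommGroup M₄] [AddCommGroup M₅]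
variable [Module R M₂] [Module R M₃] [Module R M₄] [Module R M₅]
variable [AddCommGroup N₂] [AddCommGroup N₃] [AddCommGroup N₄] [AddCommGroup N₅]
variable [Module R N₂] [Module R N₃] [Module R N₄] [Module R N₅]

/-- the five lemma with a zero on the left -/
theorem bijective_of_left_zero (f₂ : M₂ →ₗ[R] M₃) (f₃ : M₃ →ₗ[R] M₄) (f₄ : M₄ →ₗ[R] M₅)
    (g₂ : N₂ →ₗ[R] N₃) (g₃ : N₃ →ₗ[R] N₄) (g₄ : N₄ →ₗ[R] N₅)
    (i₂ : M₂ →ₗ[R] N₂) (i₃ : M₃ →ₗ[R] N₃) (i₄ : M₄ →ₗ[R] N₄) (i₅ : M₅ →ₗ[R] N₅)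
    (hc₂ : g₂.comp i₂ = i₃.comp f₂) (hc₃ : g₃.comp i₃ = i₄.comp f₃) (hc₄ : g₄.comp i₄ = i₅.comp f₄)
    (hg₂ : Function.Injective g₂)
    (hf₃ : Function.Exact f₂ f₃) (hf₄ : Function.Exact f₃ f₄)
    (hg₃ : Function.Exact g₂ g₃) (hg₄ : Function.Exact g₃ g₄)
    (hi₂ : Function.Bijective i₂) (hi₄ : Function.Bijective i₄) (hi₅ : Function.Injective i₅) :
    Function.Bijective i₃ := by
  constructor
  · rw [injective_iff_map_eq_zero]
    intro x hx
    have h1 : i₄ (f₃ x) = 0 := by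
      have := congrArg (fun l => l x) hc₃
      change g₃ (i₃ x) = i₄ (f₃ x) at this
      rw [← this, hx, map_zero]
    have h2 : f₃ x = 0 := hi₄.1 (h1.trans (map_zero _).symm)
    obtain ⟨y, rfl⟩ := (hf₃ x).1 h2
    have h3 : g₂ (i₂ y) = 0 := by
      have := congrArg (fun l => l y) hc₂
      change g₂ (i₂ y) = i₃ (f₂ y) at this
      rw [this, hx]
    have h4 : i₂ y = 0 := hg₂ (h3.trans (map_zero _).symm)
    have h5 : y = 0 := hi₂.1 (h4.trans (map_zero _).symm)
    rw [h5, map_zero]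
  · exact LinearMap.surjective_of_surjective_of_surjective_of_injective f₂ f₃ f₄ g₂ g₃ g₄ i₂ i₃ i₄ i₅
      hc₂ hc₃ hc₄ hf₄ hg₃ hg₄ hi₂.2 hi₄.2 hi₅

end Five

variable {C : Type u'} [Category.{v'} C] [Abelian C] [HasExt.{w} C]
variable {A : Type uA} [CommRing A]

section EM

variable {F : C} (aF : A →+* End F)

/-- `Ext^p(Z, F)` with the `A`-module structure coming from the action `aF` of `A` on `F`. -/
@[nolint unusedArguments]
def EM {F : C} (_aF : A →+* End F) (Z : C) (p : ℕ) : Type w := Ext.{w} Z F p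

noncomputable instance (Z : C) (p : ℕ) : AddCommGroup (EM aF Z p) :=
  inferInstanceAs (AddCommGroup (Ext.{w} Z F p))

/-- the action of `A` on `Ext^p(Z, F)` -/
noncomputable def actEnd (Z : C) (p : ℕ) : A →+* AddMonoid.End (Ext.{w} Z F p) where
  toFun a := (Ext.mk₀ (aF a : F ⟶ F)).postcomp Z (add_zero p)
  map_one' := by
    ext x
    change x.comp (Ext.mk₀ (aF 1 : F ⟶ F)) (add_zero p) = x
    rw [map_one]
    exact Ext.comp_mk₀_id x
  map_mul' a b := by
    ext x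
    change x.comp (Ext.mk₀ (aF (a * b) : F ⟶ F)) (add_zero p) =
      (x.comp (Ext.mk₀ (aF b : F ⟶ F)) (add_zero p)).comp
        (Ext.mk₀ (aF a : F ⟶ F)) (add_zero p)
    rw [Ext.comp_assoc_of_third_deg_zero, Ext.mk₀_comp_mk₀, map_mul]
    rfl
  map_zero' := by
    ext x
    change x.comp (Ext.mk₀ (aF 0 : F ⟶ F)) (add_zero p) = 0
    rw [map_zero]
    change x.comp (Ext.mk₀ (0 : F ⟶ F)) (add_zero p) = 0
    rw [Ext.mk₀_zero, Ext.comp_zero]
  map_add' a b := by
    ext x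
    change x.comp (Ext.mk₀ (aF (a + b) : F ⟶ F)) (add_zero p) =
      x.comp (Ext.mk₀ (aF a : F ⟶ F)) (add_zero p) +
        x.comp (Ext.mk₀ (aF b : F ⟶ F)) (add_zero p)
    rw [map_add]
    change x.comp (Ext.mk₀ ((aF a : F ⟶ F) + (aF b : F ⟶ F))) (add_zero p) = _
    rw [Ext.mk₀_add, Ext.comp_add]

noncomputable instance (Z : C) (p : ℕ) : Module A (EM aF Z p) :=
  Module.compHom (Ext.{w} Z F p) (actEnd aF Z p)

theorem EM.smul_def {Z : C} {p : ℕ} (a : A) (x : EM aF Z p) :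
    a • x = (x : Ext.{w} Z F p).comp (Ext.mk₀ (aF a : F ⟶ F)) (add_zero p) := rfl

/-- precomposition with a class, as a linear map -/
noncomputable def preL {Z Z' : C} {q : ℕ} (x : Ext.{w} Z' Z q) (p n : ℕ) (h : q + p = n) :
    EM aF Z p →ₗ[A] EM aF Z' n where
  toFun y := x.comp (y : Ext.{w} Z F p) h
  map_add' y y' := Ext.comp_add x _ _ h
  map_smul' a y := by
    change x.comp ((y : Ext.{w} Z F p).comp (Ext.mk₀ (aF a : F ⟶ F)) (add_zero p)) h =
      (x.comp (y : Ext.{w} Z F p) h).comp (Ext.mk₀ (aF a : F ⟶ F)) (add_zero n)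
    rw [Ext.comp_assoc_of_third_deg_zero]

theorem preL_apply {Z Z' : C} {q : ℕ} (x : Ext.{w} Z' Z q) (p n : ℕ) (h : q + p = n) (y : EM aF Z p) :
    preL aF x p n h y = x.comp (y : Ext.{w} Z F p) h := rfl

variable {S : ShortComplex C} (hS : S.ShortExact)

include hS in
theorem exact₂ (n : ℕ) :
    Function.Exact (preL aF (Ext.mk₀ S.g) n n (zero_add n)) (preL aF (Ext.mk₀ S.f) n n (zero_add n)) := by
  have := Ext.contravariant_sequence_exact₂' hS F n
  rw [ShortComplex.ab_exact_iff_function_exact] at this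
  exact this

theorem exact₁ (n₀ n₁ : ℕ) (h : 1 + n₀ = n₁) :
    Function.Exact (preL aF (Ext.mk₀ S.f) n₀ n₀ (zero_add n₀)) (preL aF hS.extClass n₀ n₁ h) := by
  have := Ext.contravariant_sequence_exact₁' hS F n₀ n₁ h
  rw [ShortComplex.ab_exact_iff_function_exact] at this
  exact this

theorem exact₃ (n₀ n₁ : ℕ) (h : 1 + n₀ = n₁) :
    Function.Exact (preL aF hS.extClass n₀ n₁ h) (preL aF (Ext.mk₀ S.g) n₁ n₁ (zero_add n₁)) := by
  have := Ext.contravariant_sequence_exact₃' hS F n₀ n₁ h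
  rw [ShortComplex.ab_exact_iff_function_exact] at this
  exact this

include hS in
theorem injective_preL_g : Function.Injective (preL aF (Ext.mk₀ S.g) 0 0 (zero_add 0)) := by
  haveI := hS.epi_g
  exact Ext.precomp_mk₀_injective_of_epi F S.g

end EM

section Fam

variable {F G : C} (aF : A →+* End F) (aG : A →+* End G)

/-- a balanced additive family of morphisms `F ⟶ G` indexed by an `A`-module -/
structure Fam (M : Type uM) [AddCommGroup M] [Module A M] where
  /-- the family -/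
  φ : M →+ (F ⟶ G)
  map_smul_left : ∀ (a : A) (m : M), φ (a • m) = (aF a : F ⟶ F) ≫ φ m
  map_smul_right : ∀ (a : A) (m : M), φ (a • m) = φ m ≫ (aG a : G ⟶ G)

variable {aF aG} {M : Type uM} [AddCommGroup M] [Module A M] (Φ : Fam aF aG M)

/-- the comparison `Ext^p(Z, F) ⊗_A M → Ext^p(Z, G)` -/
noncomputable def theta (Z : C) (p : ℕ) : EM aF Z p ⊗[A] M →ₗ[A] EM aG Z p :=
  TensorProduct.lift
    { toFun := fun y =>
        { toFun := fun m => ((y : Ext.{w} Z F p).comp (Ext.mk₀ (Φ.φ m)) (add_zero p) : Ext.{w} Z G p)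
          map_add' := fun m m' => by
            rw [map_add, Ext.mk₀_add, Ext.comp_add]
            rfl
          map_smul' := fun a m => by
            change (y : Ext.{w} Z F p).comp (Ext.mk₀ (Φ.φ (a • m))) (add_zero p) =
              ((y : Ext.{w} Z F p).comp (Ext.mk₀ (Φ.φ m)) (add_zero p)).comp
                (Ext.mk₀ (aG a : G ⟶ G)) (add_zero p)
            rw [Φ.map_smul_right, ← Ext.mk₀_comp_mk₀, Ext.comp_assoc_of_third_deg_zero] }
      map_add' := fun y y' => by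
        ext m
        exact Ext.add_comp (y : Ext.{w} Z F p) (y' : Ext.{w} Z F p) (Ext.mk₀ (Φ.φ m)) (add_zero p)
      map_smul' := fun a y => by
        ext m
        change ((y : Ext.{w} Z F p).comp (Ext.mk₀ (aF a : F ⟶ F)) (add_zero p)).comp
            (Ext.mk₀ (Φ.φ m)) (add_zero p) =
          ((y : Ext.{w} Z F p).comp (Ext.mk₀ (Φ.φ m)) (add_zero p)).comp
            (Ext.mk₀ (aG a : G ⟶ G)) (add_zero p)
        rw [Ext.comp_assoc_of_third_deg_zero, Ext.comp_assoc_of_third_deg_zero, Ext.mk₀_comp_mk₀,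
          Ext.mk₀_comp_mk₀, ← Φ.map_smul_left, ← Φ.map_smul_right] }

theorem theta_tmul (Z : C) (p : ℕ) (y : EM aF Z p) (m : M) :
    theta Φ Z p (y ⊗ₜ m) = (y : Ext.{w} Z F p).comp (Ext.mk₀ (Φ.φ m)) (add_zero p) := rfl

theorem theta_nat {Z Z' : C} {q : ℕ} (x : Ext.{w} Z' Z q) (p n : ℕ) (h : q + p = n) :
    (preL aG x p n h).comp (theta Φ Z p) = (theta Φ Z' n).comp ((preL aF x p n h).rTensor M) := by
  apply TensorProduct.ext'
  intro y m
  change x.comp ((y : Ext.{w} Z F p).comp (Ext.mk₀ (Φ.φ m)) (add_zero p)) h =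
    (x.comp (y : Ext.{w} Z F p) h).comp (Ext.mk₀ (Φ.φ m)) (add_zero n)
  rw [Ext.comp_assoc_of_third_deg_zero]

/-- the comparison is bijective in all degrees -/
def PZ (Z : C) : Prop := ∀ p : ℕ, Function.Bijective (theta Φ Z p)

variable {S : ShortComplex C} (hS : S.ShortExact) [Module.Flat A M]

include hS in
theorem pz_X₃ (h₁ : PZ Φ S.X₁) (h₂ : PZ Φ S.X₂) : PZ Φ S.X₃ := by
  intro p
  cases p with
  | zero =>
    refine LinearMap.bijective_of_bijective_of_injective_of_left_exact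
      ((preL aF (Ext.mk₀ S.g) 0 0 (zero_add 0)).rTensor M) ((preL aF (Ext.mk₀ S.f) 0 0 (zero_add 0)).rTensor M)
      (preL aG (Ext.mk₀ S.g) 0 0 (zero_add 0)) (preL aG (Ext.mk₀ S.f) 0 0 (zero_add 0))
      (theta Φ S.X₃ 0) (theta Φ S.X₂ 0) (theta Φ S.X₁ 0)
      (theta_nat Φ _ 0 0 _) (theta_nat Φ _ 0 0 _)
      (Module.Flat.rTensor_exact M (exact₂ aF hS 0)) (exact₂ aG hS 0) (h₂ 0) (h₁ 0).1
      (Module.Flat.rTensor_preserves_injective_linearMap _ (injective_preL_g aF hS))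
      (injective_preL_g aG hS)
  | succ n =>
    exact LinearMap.bijective_of_surjective_of_bijective_of_bijective_of_injective
      ((preL aF (Ext.mk₀ S.f) n n (zero_add n)).rTensor M)
      ((preL aF hS.extClass n (n + 1) (add_comm 1 n)).rTensor M)
      ((preL aF (Ext.mk₀ S.g) (n + 1) (n + 1) (zero_add _)).rTensor M)
      ((preL aF (Ext.mk₀ S.f) (n + 1) (n + 1) (zero_add _)).rTensor M)
      (preL aG (Ext.mk₀ S.f) n n (zero_add n))
      (preL aG hS.extClass n (n + 1) (add_comm 1 n))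
      (preL aG (Ext.mk₀ S.g) (n + 1) (n + 1) (zero_add _))
      (preL aG (Ext.mk₀ S.f) (n + 1) (n + 1) (zero_add _))
      (theta Φ S.X₂ n) (theta Φ S.X₁ n) (theta Φ S.X₃ (n + 1)) (theta Φ S.X₂ (n + 1)) (theta Φ S.X₁ (n + 1))
      (theta_nat Φ _ _ _ _) (theta_nat Φ _ _ _ _) (theta_nat Φ _ _ _ _) (theta_nat Φ _ _ _ _)
      (Module.Flat.rTensor_exact M (exact₁ aF hS n (n + 1) (add_comm 1 n)))
      (Module.Flat.rTensor_exact M (exact₃ aF hS n (n + 1) (add_comm 1 n)))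
      (Module.Flat.rTensor_exact M (exact₂ aF hS (n + 1)))
      (exact₁ aG hS n (n + 1) (add_comm 1 n)) (exact₃ aG hS n (n + 1) (add_comm 1 n)) (exact₂ aG hS (n + 1))
      (h₂ n).2 (h₁ n) (h₂ (n + 1)) (h₁ (n + 1)).1

include hS in
theorem pz_X₂ (h₁ : PZ Φ S.X₁) (h₃ : PZ Φ S.X₃) : PZ Φ S.X₂ := by
  intro p
  cases p with
  | zero =>
    exact bijective_of_left_zero
      ((preL aF (Ext.mk₀ S.g) 0 0 (zero_add 0)).rTensor M) ((preL aF (Ext.mk₀ S.f) 0 0 (zero_add 0)).rTensor M)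
      ((preL aF hS.extClass 0 1 (add_comm 1 0)).rTensor M)
      (preL aG (Ext.mk₀ S.g) 0 0 (zero_add 0)) (preL aG (Ext.mk₀ S.f) 0 0 (zero_add 0))
      (preL aG hS.extClass 0 1 (add_comm 1 0))
      (theta Φ S.X₃ 0) (theta Φ S.X₂ 0) (theta Φ S.X₁ 0) (theta Φ S.X₃ 1)
      (theta_nat Φ _ _ _ _) (theta_nat Φ _ _ _ _) (theta_nat Φ _ _ _ _)
      (injective_preL_g aG hS)
      (Module.Flat.rTensor_exact M (exact₂ aF hS 0))
      (Module.Flat.rTensor_exact M (exact₁ aF hS 0 1 (add_comm 1 0)))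
      (exact₂ aG hS 0) (exact₁ aG hS 0 1 (add_comm 1 0))
      (h₃ 0) (h₁ 0) (h₃ 1).1
  | succ n =>
    exact LinearMap.bijective_of_surjective_of_bijective_of_bijective_of_injective
      ((preL aF hS.extClass n (n + 1) (add_comm 1 n)).rTensor M)
      ((preL aF (Ext.mk₀ S.g) (n + 1) (n + 1) (zero_add _)).rTensor M)
      ((preL aF (Ext.mk₀ S.f) (n + 1) (n + 1) (zero_add _)).rTensor M)
      ((preL aF hS.extClass (n + 1) (n + 2) (add_comm 1 (n + 1))).rTensor M)
      (preL aG hS.extClass n (n + 1) (add_comm 1 n))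
      (preL aG (Ext.mk₀ S.g) (n + 1) (n + 1) (zero_add _))
      (preL aG (Ext.mk₀ S.f) (n + 1) (n + 1) (zero_add _))
      (preL aG hS.extClass (n + 1) (n + 2) (add_comm 1 (n + 1)))
      (theta Φ S.X₁ n) (theta Φ S.X₃ (n + 1)) (theta Φ S.X₂ (n + 1)) (theta Φ S.X₁ (n + 1))
      (theta Φ S.X₃ (n + 2))
      (theta_nat Φ _ _ _ _) (theta_nat Φ _ _ _ _) (theta_nat Φ _ _ _ _) (theta_nat Φ _ _ _ _)
      (Module.Flat.rTensor_exact M (exact₃ aF hS n (n + 1) (add_comm 1 n)))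
      (Module.Flat.rTensor_exact M (exact₂ aF hS (n + 1)))
      (Module.Flat.rTensor_exact M (exact₁ aF hS (n + 1) (n + 2) (add_comm 1 (n + 1))))
      (exact₃ aG hS n (n + 1) (add_comm 1 n)) (exact₂ aG hS (n + 1))
      (exact₁ aG hS (n + 1) (n + 2) (add_comm 1 (n + 1)))
      (h₁ n).2 (h₃ (n + 1)) (h₁ (n + 1)) (h₃ (n + 2)).1

theorem pz_biprod (Z₁ Z₂ : C) (h₁ : PZ Φ Z₁) (h₂ : PZ Φ Z₂) : PZ Φ (Z₁ ⊞ Z₂) := by
  have hS : (ShortComplex.mk (biprod.inl : Z₁ ⟶ Z₁ ⊞ Z₂) (biprod.snd : Z₁ ⊞ Z₂ ⟶ Z₂)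
      biprod.inl_snd).ShortExact :=
    (ShortComplex.Splitting.ofHasBinaryBiproduct Z₁ Z₂).shortExact
  exact pz_X₂ Φ hS h₁ h₂

end Fam

end Groth.Agent.Lib.T2H5.FlatBC
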