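import Mathlib
import Groth.Agent.Lib.T2H5FlatBCA
import Groth.Agent.Lib.Helper23AffVanish7

/-!
# T2H5FlatBCB (helper5): Mayer–Vietoris induction for the comparison `H^p(U, F) ⊗_A M → H^p(U, G)`

Continues `T2H5FlatBCA`.  For abelian sheaves `F`, `G` on (the space of) a scheme `X`, a commutative ring `A` acting on
both, a flat `A`-module `M` and a balanced family `Φ` of morphisms `F ⟶ G` indexed by `M`:

* `PU Φ U` : the comparison `theta Φ (ℤ_U) p : H^p(U, F) ⊗_A M → H^p(U, G)` is bijective for all `p`;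
* `pu_sup` : Mayer–Vietoris, `PU` passes from `U₁`, `U₂`, `U₁ ⊓ U₂` to `U₁ ⊔ U₂`;
* `bijective_theta_of_equiv` : transport of the bijectivity of one `theta` along linear identifications;
* `pu_of_vanishing` : `PU Φ U` from the vanishing of the higher cohomology on `U` and bijectivity in degree `0`;
* `pu_of_isCompact` : on a quasi-separated scheme, if `PU Φ W` holds for all affine opens `W`, it holds for all
  quasi-compact opens.
-/

set_option autoImplicit false
set_option backward.isDefEq.respectTransparency.types false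
set_option linter.style.haveILetI false
set_option linter.unusedSectionVars false
set_option linter.unusedVariables false
universe u uA uM
open CategoryTheory CategoryTheory.Limits Abelian TensorProduct TopologicalSpace Opposite AlgebraicGeometry

namespace Groth.Agent.Lib.T2H5.FlatBC

open Groth.Agent.Lib.Helper23.AffVanish

section Transport

universe w v' u'
variable {C : Type u'} [Category.{v'} C] [Abelian C] [HasExt.{w} C]
variable {A : Type uA} [CommRing A] {F G : C} {aF : A →+* End F} {aG : A →+* End G}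
  {M : Type uM} [AddCommGroup M] [Module A M] (Φ : Fam aF aG M)

theorem bijective_theta_of_equiv {Z : C} {p : ℕ} {P Q : Type*} [AddCommGroup P] [Module A P]
    [AddCommGroup Q] [Module A Q] (eF : EM aF Z p ≃ₗ[A] P) (eG : EM aG Z p ≃ₗ[A] Q)
    (σ : P ⊗[A] M →ₗ[A] Q) (hσ : Function.Bijective σ)
    (h : ∀ (y : EM aF Z p) (m : M), σ (eF y ⊗ₜ m) = eG (theta Φ Z p (y ⊗ₜ m))) :
    Function.Bijective (theta Φ Z p) := by
  have e : theta Φ Z p = eG.symm.toLinearMap.comp (σ.comp (eF.toLinearMap.rTensor M)) := by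
    apply TensorProduct.ext'
    intro y m
    change _ = eG.symm (σ (eF y ⊗ₜ m))
    rw [h, LinearEquiv.symm_apply_apply]
  rw [e]
  have h1 : Function.Bijective (eF.toLinearMap.rTensor M) := (LinearEquiv.rTensor M eF).bijective
  exact eG.symm.bijective.comp (hσ.comp h1)

theorem pz_of_subsingleton {Z : C} (hG : ∀ p : ℕ, Subsingleton (Ext.{w} Z G (p + 1)))
    (hF : ∀ p : ℕ, Subsingleton (Ext.{w} Z F (p + 1))) (h0 : Function.Bijective (theta Φ Z 0)) : PZ Φ Z := by
  intro p
  cases p with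
  | zero => exact h0
  | succ n =>
    haveI : Subsingleton (EM aF Z (n + 1)) := hF n
    haveI : Subsingleton (EM aG Z (n + 1)) := hG n
    haveI : Subsingleton (EM aF Z (n + 1) ⊗[A] M) := by
      refine ⟨fun a b => ?_⟩
      have key : ∀ z : EM aF Z (n + 1) ⊗[A] M, z = 0 := by
        intro z
        induction z using TensorProduct.induction_on with
        | zero => rfl
        | tmul y m => rw [Subsingleton.elim y 0, TensorProduct.zero_tmul]
        | add z w hz hw => rw [hz, hw, add_zero]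
      rw [key a, key b]
    exact ⟨fun a b _ => Subsingleton.elim _ _, fun b => ⟨0, Subsingleton.elim _ _⟩⟩

end Transport

section Top

variable {T : TopCat.{u}} {F G : CohTop.Ab T} {A : Type uA} [CommRing A] {aF : A →+* End F} {aG : A →+* End G}
  {M : Type uM} [AddCommGroup M] [Module A M] (Φ : Fam aF aG M)

/-- the comparison `H^p(U, F) ⊗_A M → H^p(U, G)` is bijective in all degrees -/
def PU (U : Opens T) : Prop := PZ Φ (ZU U)

/-- the Mayer–Vietoris short exact sequence of `U₁`, `U₂`, with explicit maps -/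
theorem mv_shortExact (U₁ U₂ : Opens T) :
    ∃ w : biprod.lift (CohCx.freeSheafMap (J T) (homOfLE (inf_le_left : U₁ ⊓ U₂ ≤ U₁)))
        (-CohCx.freeSheafMap (J T) (homOfLE (inf_le_right : U₁ ⊓ U₂ ≤ U₂))) ≫
      biprod.desc (CohCx.freeSheafMap (J T) (homOfLE (le_sup_left : U₁ ≤ U₁ ⊔ U₂)))
        (CohCx.freeSheafMap (J T) (homOfLE (le_sup_right : U₂ ≤ U₁ ⊔ U₂))) = 0,
      (ShortComplex.mk _ _ w).ShortExact :=
  ⟨(mvSquare U₁ U₂ (U₁ ⊔ U₂) le_sup_left le_sup_right le_rfl).shortComplex.zero,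
    (mvSquare U₁ U₂ (U₁ ⊔ U₂) le_sup_left le_sup_right le_rfl).shortComplex_shortExact⟩

theorem pu_sup [Module.Flat A M] (U₁ U₂ : Opens T) (h₁ : PU Φ U₁) (h₂ : PU Φ U₂) (h₁₂ : PU Φ (U₁ ⊓ U₂)) :
    PU Φ (U₁ ⊔ U₂) := by
  obtain ⟨w, hS⟩ := mv_shortExact U₁ U₂
  have h₃ : PZ Φ (ZU U₁ ⊞ ZU U₂) := pz_biprod Φ _ _ h₁ h₂
  exact pz_X₃ Φ hS h₁₂ h₃

end Top

section Scheme

variable {X : Scheme.{u}} {F G : CohTop.Ab X.carrier} {A : Type uA} [CommRing A] {aF : A →+* End F}
  {aG : A →+* End G} {M : Type uM} [AddCommGroup M] [Module A M] (Φ : Fam aF aG M)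

theorem exists_finset_basicOpen {U₀ : X.Opens} (hU₀ : IsAffineOpen U₀) (W : X.Opens)
    (hW : IsCompact (W : Set X)) (hle : W ≤ U₀) :
    ∃ s : Finset Γ(X, U₀), W = s.sup (fun f => X.basicOpen f) := by
  classical
  have hex : ∀ x : W, ∃ f : Γ(X, U₀), X.basicOpen f ≤ W ∧ (x : X) ∈ X.basicOpen f :=
    fun x => hU₀.exists_basicOpen_le x (hle x.2)
  choose f hf₁ hf₂ using hex
  obtain ⟨t, ht⟩ := hW.elim_finite_subcover (fun x : W => ((X.basicOpen (f x) : X.Opens) : Set X))
    (fun x => (X.basicOpen (f x)).isOpen) (fun x hx => Set.mem_iUnion.2 ⟨⟨x, hx⟩, hf₂ ⟨x, hx⟩⟩)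
  refine ⟨t.image f, le_antisymm ?_ ?_⟩
  · intro x hx
    obtain ⟨y, hy⟩ := Set.mem_iUnion.1 (ht hx)
    obtain ⟨hyt, hxy⟩ := Set.mem_iUnion.1 hy
    exact (Finset.le_sup (f := fun f => X.basicOpen f) (Finset.mem_image_of_mem f hyt)) hxy
  · refine Finset.sup_le ?_
    intro g hg
    obtain ⟨y, -, rfl⟩ := Finset.mem_image.1 hg
    exact hf₁ y

variable [Module.Flat A M]

theorem pu_finset_basicOpen (haff : ∀ W : X.Opens, IsAffineOpen W → PU Φ W) {U₀ : X.Opens}
    (hU₀ : IsAffineOpen U₀) :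
    ∀ (n : ℕ) (s : Finset Γ(X, U₀)), s.card ≤ n → PU Φ (s.sup (fun f => X.basicOpen f)) := by
  classical
  intro n
  induction n with
  | zero =>
    intro s hs
    have : s = ∅ := Finset.card_eq_zero.1 (Nat.le_zero.1 hs)
    subst this
    rw [Finset.sup_empty]
    exact haff ⊥ (isAffineOpen_bot X)
  | succ n ih =>
    intro s hs
    rcases s.eq_empty_or_nonempty with he | ⟨a, ha⟩
    · subst he
      rw [Finset.sup_empty]
      exact haff ⊥ (isAffineOpen_bot X)
    · have hcard : (s.erase a).card ≤ n := by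
        rw [Finset.card_erase_of_mem ha]
        omega
      have hs' : s = insert a (s.erase a) := (Finset.insert_erase ha).symm
      rw [hs', Finset.sup_insert]
      refine pu_sup Φ _ _ (haff _ (hU₀.basicOpen a)) (ih _ hcard) ?_
      have e : X.basicOpen a ⊓ (s.erase a).sup (fun f => X.basicOpen f) =
          ((s.erase a).image (fun f => a * f)).sup (fun f => X.basicOpen f) := by
        rw [Finset.sup_inf_distrib_left, Finset.sup_image]
        refine Finset.sup_congr rfl (fun f _ => ?_)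
        exact (X.basicOpen_mul a f).symm
      rw [e]
      exact ih _ (Finset.card_image_le.trans hcard)

theorem pu_of_le_affine (haff : ∀ W : X.Opens, IsAffineOpen W → PU Φ W) {U₀ : X.Opens}
    (hU₀ : IsAffineOpen U₀) (W : X.Opens) (hW : IsCompact (W : Set X)) (hle : W ≤ U₀) : PU Φ W := by
  obtain ⟨s, rfl⟩ := exists_finset_basicOpen hU₀ W hW hle
  exact pu_finset_basicOpen Φ haff hU₀ s.card s le_rfl

theorem pu_of_isCompact [QuasiSeparatedSpace X] (haff : ∀ W : X.Opens, IsAffineOpen W → PU Φ W)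
    (W : X.Opens) (hW : IsCompact (W : Set X)) : PU Φ W := by
  refine compact_open_induction_on (P := PU Φ) W hW (haff ⊥ (isAffineOpen_bot X)) ?_
  intro S hS U hSU
  have hcap : IsCompact ((S ⊓ U.1 : X.Opens) : Set X) :=
    QuasiSeparatedSpace.inter_isCompact _ _ S.isOpen hS U.1.isOpen U.2.isCompact
  exact pu_sup Φ S U.1 hSU (haff U.1 U.2) (pu_of_le_affine Φ haff U.2 (S ⊓ U.1) hcap inf_le_right)

theorem pu_top [QuasiSeparatedSpace X] [CompactSpace X] (haff : ∀ W : X.Opens, IsAffineOpen W → PU Φ W) :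
    PU Φ (⊤ : X.Opens) :=
  pu_of_isCompact Φ haff ⊤ (by simpa using isCompact_univ)

end Scheme

end Groth.Agent.Lib.T2H5.FlatBC
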