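import Mathlib
import Groth.Prelude.Def_Formal
import Groth.Agent.Lib.T2H5FlatBCB
import Groth.Agent.Lib.T2H5PushEdge
import Groth.Agent.Lib.T2H5ClosedLin
import Groth.Agent.Lib.Helper23AffOpen2
import Groth.Agent.Lib.Helper23QCohLocal

/-!
# T2H5FlatBCC (helper5): flat base change for cohomology, general assembly

`A → A'` a ring map, `X` quasi-compact quasi-separated over `Spec A`, `g : X' ⟶ X` an affine morphism with `X'`
over `Spec A'` (compatibly), `F` quasi-coherent on `X`, `G'` quasi-coherent on `X'`, `N` an `A'`-module flat over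
`A` and `ψ : N →+ (g^*F ⟶ G')` an `A'`-balanced family.  If for every affine open `W ⊆ X` the map
`Γ(F, W) ⊗_A N → Γ(G', g⁻¹W)`, `x ⊗ n ↦ ψ_n(g^♯ x)` is bijective (`LocalBij`), then
`N ⊗_A H^q(X, F) ≃ H^q(X', G')` as `A'`-modules (`nonempty_linearEquiv`).
-/

set_option autoImplicit false
set_option backward.isDefEq.respectTransparency.types false
set_option linter.style.haveILetI false
set_option linter.unusedSectionVars false
set_option linter.unusedVariables false
universe u
open CategoryTheory CategoryTheory.Limits Abelian TensorProduct TopologicalSpace Opposite AlgebraicGeometry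

namespace Groth.Agent.Lib.T2H5.FlatBC

open Groth.Agent.Lib.Helper23.AffVanish

section Nat

variable {T : TopCat.{u}}

theorem h0Equiv_comp {F G : CohTop.Ab T} (ψ : F ⟶ G) (U : Opens T) (y : HE F 0 U) :
    h0Equiv G U (y.comp (Ext.mk₀ ψ) (add_zero 0)) = (ψ.hom.app (op U)).hom (h0Equiv F U y) := by
  obtain ⟨φ, rfl⟩ := (Ext.mk₀_bijective _ _).2 y
  rw [Ext.mk₀_comp_mk₀]
  change CohFree.evalGen (J T) U G (Ext.addEquiv₀ (Ext.mk₀ (φ ≫ ψ))) =
    (ψ.hom.app (op U)).hom (CohFree.evalGen (J T) U F (Ext.addEquiv₀ (Ext.mk₀ φ)))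
  rw [addEquiv₀_mk₀, addEquiv₀_mk₀]
  rfl

theorem HETopEquivH_comp {F G : CohTop.Ab T} (ψ : F ⟶ G) (n : ℕ) (y : HE F n ⊤) :
    HETopEquivH T G n (y.comp (Ext.mk₀ ψ) (add_zero n)) =
      (HETopEquivH T F n y).comp (Ext.mk₀ ψ) (add_zero n) := by
  change (Ext.mk₀ (wTop T)).comp (y.comp (Ext.mk₀ ψ) (add_zero n)) (zero_add n) =
    ((Ext.mk₀ (wTop T)).comp y (zero_add n)).comp (Ext.mk₀ ψ) (add_zero n)
  rw [Ext.comp_assoc_of_third_deg_zero]

end Nat

section Act

variable {X : Scheme.{u}}

theorem smulAb_naturality {M N : X.Modules} (ψ : M ⟶ N) (r : Coh.Γtop X) :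
    Coh.smulAb M r ≫ (SheafOfModules.toSheaf X.ringCatSheaf).map ψ =
      (SheafOfModules.toSheaf X.ringCatSheaf).map ψ ≫ Coh.smulAb N r := by
  ext U m
  change (ψ.val.app U).hom (@HSMul.hSMul (X.ringCatSheaf.obj.obj U) (M.val.obj U) (M.val.obj U) _
      (Coh.resTop X U r) m) =
    @HSMul.hSMul (X.ringCatSheaf.obj.obj U) (N.val.obj U) (N.val.obj U) _ (Coh.resTop X U r)
      ((ψ.val.app U).hom m)
  exact (ψ.val.app U).hom.map_smul _ _

/-- the action of the global functions on the underlying abelian sheaf of a module -/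
noncomputable def actΓ (M : X.Modules) : Coh.Γtop X →+* End (ab' M) where
  toFun r := Coh.smulAb M r
  map_one' := Coh.smulAb_one M
  map_mul' r s := Coh.smulAb_mul M r s
  map_zero' := Coh.smulAb_zero M
  map_add' r s := Coh.smulAb_add M r s

/-- the action of `A` on the underlying abelian sheaf of a module on a scheme over `Spec A` -/
noncomputable def actA (A : Type u) [CommRing A] [X.Over (Spec (CommRingCat.of A))] (M : X.Modules) :
    A →+* End (ab' M) :=
  (actΓ M).comp (Coh.toGlobal (X ↘ Spec (CommRingCat.of A)))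

theorem actA_apply (A : Type u) [CommRing A] [X.Over (Spec (CommRingCat.of A))] (M : X.Modules) (a : A) :
    (actA A M a : ab' M ⟶ ab' M) = Coh.smulAb M (Coh.toGlobal (X ↘ Spec (CommRingCat.of A)) a) := rfl

/-- the ring map from `A` to the functions on an open -/
noncomputable def toSec (A : Type u) [CommRing A] [X.Over (Spec (CommRingCat.of A))] (W : X.Opens) :
    A →+* X.ringCatSheaf.obj.obj (op W) :=
  (Coh.resTop X (op W)).comp (Coh.toGlobal (X ↘ Spec (CommRingCat.of A)))

/-- sections over `W` of a module on a scheme over `Spec A`, as an `A`-module -/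
@[nolint unusedArguments]
def SecA (A : Type u) [CommRing A] [X.Over (Spec (CommRingCat.of A))] (M : X.Modules) (W : X.Opens) : Type u :=
  M.val.obj (op W)

variable (A : Type u) [CommRing A] [X.Over (Spec (CommRingCat.of A))]

noncomputable instance (M : X.Modules) (W : X.Opens) : AddCommGroup (SecA A M W) :=
  inferInstanceAs (AddCommGroup (M.val.obj (op W)))

noncomputable instance (M : X.Modules) (W : X.Opens) : Module A (SecA A M W) :=
  Module.compHom (M.val.obj (op W)) (toSec A W)

theorem SecA.smul_def (M : X.Modules) (W : X.Opens) (a : A) (x : SecA A M W) :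
    a • x = @HSMul.hSMul (X.ringCatSheaf.obj.obj (op W)) (M.val.obj (op W)) (M.val.obj (op W)) _
      (toSec A W a) x := rfl

/-- degree zero classes on `W` are sections, `A`-linearly -/
noncomputable def h0Lin (M : X.Modules) (W : X.Opens) : EM (actA A M) (ZU W) 0 ≃ₗ[A] SecA A M W :=
  { h0Equiv (ab' M) W with
    map_smul' := fun a y => by
      change h0Equiv (ab' M) W ((y : HE (ab' M) 0 W).comp (Ext.mk₀ (actA A M a : ab' M ⟶ ab' M)) (add_zero 0)) =
        @HSMul.hSMul (X.ringCatSheaf.obj.obj (op W)) (M.val.obj (op W)) (M.val.obj (op W)) _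
          (toSec A W a) (h0Equiv (ab' M) W y)
      rw [h0Equiv_comp]
      rfl }

theorem h0Lin_apply (M : X.Modules) (W : X.Opens) (y : EM (actA A M) (ZU W) 0) :
    h0Lin A M W y = h0Equiv (ab' M) W y := rfl

/-- classes on `⊤` are cohomology classes, `A`-linearly -/
noncomputable def topLin (M : X.Modules) (q : ℕ) : EM (actA A M) (ZU (⊤ : X.Opens)) q ≃ₗ[A] Coh.HH X M q :=
  { HETopEquivH X.carrier (ab' M) q with
    map_smul' := fun a y => by
      change HETopEquivH X.carrier (ab' M) q
          ((y : HE (ab' M) q ⊤).comp (Ext.mk₀ (actA A M a : ab' M ⟶ ab' M)) (add_zero q)) =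
        Sheaf.H.map (Coh.smulAb M (Coh.toGlobal (X ↘ Spec (CommRingCat.of A)) a)) q
          (HETopEquivH X.carrier (ab' M) q y)
      rw [HETopEquivH_comp]
      rfl }

theorem topLin_apply (M : X.Modules) (q : ℕ) (y : EM (actA A M) (ZU (⊤ : X.Opens)) q) :
    topLin A M q y = HETopEquivH X.carrier (ab' M) q y := rfl

end Act

end Groth.Agent.Lib.T2H5.FlatBC
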