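import Mathlib
import Groth.Agent.Lib.T2H5FlatBCC

/-!
# T2H5FlatBCM (helper5): flat base change for cohomology, general assembly

`A → A'` a ring map, `X` quasi-compact quasi-separated over `Spec A`, `g : X' ⟶ X` an affine morphism with `X'`
over `Spec A'` (compatibly), `F` quasi-coherent on `X`, `G'` quasi-coherent on `X'`, `N` an `A'`-module flat over
`A` and `ψ : N →+ (g^*F ⟶ G')` an `A'`-balanced family.  If for every affine open `W ⊆ X` the map
`Γ(F, W) ⊗_A N → Γ(G', g⁻¹W)`, `x ⊗ n ↦ ψ_n(g^♯ x)` is bijective (`LocalBij`), then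
`N ⊗_A H^q(X, F) ≃ H^q(X', G')` as `A'`-modules (`nonempty_linearEquiv`).
-/

set_option autoImplicit false
set_option backward.isDefEq.respectTransparency.types false
set_option linter.style.haveILetI false
set_option linter.unusedSectionVars false
set_option linter.unusedVariables false
universe u
open CategoryTheory CategoryTheory.Limits Abelian TensorProduct TopologicalSpace Opposite AlgebraicGeometry

namespace Groth.Agent.Lib.T2H5.FlatBC

open Groth.Agent.Lib.Helper23.AffVanish

section Main


variable (A A' : Type u) [CommRing A] [CommRing A'] [Algebra A A']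
  {X X' : Scheme.{u}} [X.Over (Spec (CommRingCat.of A))] [X'.Over (Spec (CommRingCat.of A'))]
  (g : X' ⟶ X)
  (hg : g ≫ (X ↘ Spec (CommRingCat.of A)) =
    (X' ↘ Spec (CommRingCat.of A')) ≫ Spec.map (CommRingCat.ofHom (algebraMap A A')))
  (F : X.Modules) (G' : X'.Modules)
  (N : Type u) [AddCommGroup N] [Module A' N] [Module A N] [IsScalarTower A A' N]
  (ψ : N →+ ((Scheme.Modules.pullback g).obj F ⟶ G'))
  (hψ : ∀ (a' : A') (n : N), ψ (a' • n) = ψ n ≫ Formal.smulMod A' G' a')

theorem toSheaf_map_comp {Y : Scheme.{u}} {M N P : Y.Modules} (a : M ⟶ N) (b : N ⟶ P) :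
    (SheafOfModules.toSheaf Y.ringCatSheaf).map (a ≫ b) =
      (SheafOfModules.toSheaf Y.ringCatSheaf).map a ≫ (SheafOfModules.toSheaf Y.ringCatSheaf).map b :=
  Functor.map_comp _ _ _

theorem toSheaf_map_add {Y : Scheme.{u}} {M N : Y.Modules} (a b : M ⟶ N) :
    (SheafOfModules.toSheaf Y.ringCatSheaf).map (a + b) =
      (SheafOfModules.toSheaf Y.ringCatSheaf).map a + (SheafOfModules.toSheaf Y.ringCatSheaf).map b :=
  Functor.map_add _

theorem toSheaf_map_zero {Y : Scheme.{u}} (M N : Y.Modules) :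
    (SheafOfModules.toSheaf Y.ringCatSheaf).map (0 : M ⟶ N) = 0 :=
  Functor.map_zero _ _ _

include hg in
theorem toGlobal_comp (a : A) :
    g.appTop.hom (Coh.toGlobal (X ↘ Spec (CommRingCat.of A)) a) =
      Coh.toGlobal (X' ↘ Spec (CommRingCat.of A')) (algebraMap A A' a) := by
  have h1 := congrArg (fun φ : X' ⟶ Spec (CommRingCat.of A) => φ.appTop.hom
    ((Scheme.ΓSpecIso (CommRingCat.of A)).inv.hom a)) hg
  have h2 := ConcreteCategory.congr_hom
    (Scheme.ΓSpecIso_inv_naturality (CommRingCat.ofHom (algebraMap A A'))) a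
  change _ = (X' ↘ Spec (CommRingCat.of A')).appTop.hom
    ((Scheme.ΓSpecIso (CommRingCat.of A')).inv.hom (algebraMap A A' a))
  change (CommRingCat.ofHom (algebraMap A A') ≫ (Scheme.ΓSpecIso (CommRingCat.of A')).inv).hom a = _ at h2
  change (Scheme.ΓSpecIso (CommRingCat.of A')).inv.hom (algebraMap A A' a) = _ at h2
  rw [h2]
  exact h1

/-- the maps `F ⟶ g_* G'` attached to the family `ψ` -/
noncomputable def phiMod (n : N) : F ⟶ (Scheme.Modules.pushforward g).obj G' :=
  (Scheme.Modules.pullbackPushforwardAdjunction g).unit.app F ≫ (Scheme.Modules.pushforward g).map (ψ n)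

theorem phiMod_add (n n' : N) :
    phiMod g F G' N ψ (n + n') = phiMod g F G' N ψ n + phiMod g F G' N ψ n' := by
  unfold phiMod
  rw [map_add, Functor.map_add, Preadditive.comp_add]

theorem toSheaf_pushforward_smul (r' : Coh.Γtop X') :
    (SheafOfModules.toSheaf X.ringCatSheaf).map ((Scheme.Modules.pushforward g).map (Formal.smulModΓ G' r')) =
      (CohTop.push g.base).map (Coh.smulAb G' r') := rfl

include hψ in
theorem toSheaf_phiMod_smul (a' : A') (n : N) :
    (SheafOfModules.toSheaf X.ringCatSheaf).map (phiMod g F G' N ψ (a' • n)) =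
      (SheafOfModules.toSheaf X.ringCatSheaf).map (phiMod g F G' N ψ n) ≫
        (CohTop.push g.base).map (Coh.smulAb G' (Coh.toGlobal (X' ↘ Spec (CommRingCat.of A')) a')) := by
  unfold phiMod
  rw [hψ, Functor.map_comp, ← Category.assoc]
  exact toSheaf_map_comp _ _

include hg hψ in
theorem toSheaf_phiMod_smul_A (a : A) (n : N) :
    (SheafOfModules.toSheaf X.ringCatSheaf).map (phiMod g F G' N ψ (a • n)) =
      (SheafOfModules.toSheaf X.ringCatSheaf).map (phiMod g F G' N ψ n) ≫
        Coh.smulAb ((Scheme.Modules.pushforward g).obj G') (Coh.toGlobal (X ↘ Spec (CommRingCat.of A)) a) := by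
  rw [← algebraMap_smul A' a n, toSheaf_phiMod_smul A' g F G' N ψ hψ,
    Groth.Agent.Lib.T2H5.ClosedLin.smulAb_pushforward, toGlobal_comp A A' g hg]
  rfl

/-- the balanced family of morphisms of abelian sheaves `F ⟶ g_* G'` -/
noncomputable def fam : Fam (actA A F) (actA A ((Scheme.Modules.pushforward g).obj G')) N where
  φ :=
    { toFun := fun n => (SheafOfModules.toSheaf X.ringCatSheaf).map (phiMod g F G' N ψ n)
      map_zero' := by
        have h := phiMod_add g F G' N ψ 0 0
        rw [add_zero] at h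
        have h0 : phiMod g F G' N ψ 0 = 0 := by
          have := congrArg (fun t => t - phiMod g F G' N ψ 0) h
          simpa using this.symm
        rw [h0, toSheaf_map_zero]
      map_add' := fun n n' => by rw [phiMod_add, toSheaf_map_add] }
  map_smul_left := fun a n => by
    change (SheafOfModules.toSheaf X.ringCatSheaf).map (phiMod g F G' N ψ (a • n)) =
      Coh.smulAb F (Coh.toGlobal (X ↘ Spec (CommRingCat.of A)) a) ≫
        (SheafOfModules.toSheaf X.ringCatSheaf).map (phiMod g F G' N ψ n)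
    rw [smulAb_naturality]
    exact toSheaf_phiMod_smul_A A A' g hg F G' N ψ hψ a n
  map_smul_right := fun a n => toSheaf_phiMod_smul_A A A' g hg F G' N ψ hψ a n

theorem fam_φ (n : N) : (fam A A' g hg F G' N ψ hψ).φ n =
    (SheafOfModules.toSheaf X.ringCatSheaf).map (phiMod g F G' N ψ n) := rfl

/-- the local hypothesis: on affine opens `W` of `X`, the sections of `G'` over `g⁻¹W` are the sections of `F` over
`W` tensored with `N` -/
def LocalBij : Prop :=
  ∀ W : X.Opens, IsAffineOpen W →
    ∃ σ : SecA A F W ⊗[A] N →ₗ[A] SecA A ((Scheme.Modules.pushforward g).obj G') W, Function.Bijective σ ∧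
      ∀ (x : SecA A F W) (n : N), σ (x ⊗ₜ n) = ((phiMod g F G' N ψ n).val.app (op W)).hom x

theorem pu_affine [F.IsQuasicoherent] [((Scheme.Modules.pushforward g).obj G').IsQuasicoherent]
    (hloc : LocalBij A g F G' N ψ) (W : X.Opens) (hW : IsAffineOpen W) :
    PU (fam A A' g hg F G' N ψ hψ) W := by
  obtain ⟨σ, hσ, hσ'⟩ := hloc W hW
  refine pz_of_subsingleton _ (fun p => subsingleton_HE_of_isAffineOpen hW _ p)
    (fun p => subsingleton_HE_of_isAffineOpen hW F p) ?_
  refine bijective_theta_of_equiv _ (h0Lin A F W) (h0Lin A _ W) σ hσ ?_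
  intro y n
  rw [hσ', theta_tmul, h0Lin_apply, h0Lin_apply, fam_φ]
  exact (h0Equiv_comp ((SheafOfModules.toSheaf X.ringCatSheaf).map (phiMod g F G' N ψ n)) W y).symm

include hg hψ in
theorem nonempty_linearEquiv [CompactSpace X] [QuasiSeparatedSpace X] [IsAffineHom g]
    [F.IsQuasicoherent] [G'.IsQuasicoherent] [Module.Flat A N]
    (hloc : LocalBij A g F G' N ψ) (q : ℕ) :
    Nonempty (N ⊗[A] Coh.HH X F q ≃ₗ[A'] Coh.HH X' G' q) := by
  haveI hGq : ((Scheme.Modules.pushforward g).obj G').IsQuasicoherent :=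
    Groth.Agent.Lib.Helper23.QCohLocal.isQuasicoherent_pushforward g G'
  let Φ := fam A A' g hg F G' N ψ hψ
  have htop : PU Φ (⊤ : X.Opens) := pu_top Φ (pu_affine A A' g hg F G' N ψ hψ hloc)
  have hθ : Function.Bijective (theta Φ (ZU (⊤ : X.Opens)) q) := htop q
  let e1 : N ⊗[A] Coh.HH X F q ≃ₗ[A] Coh.HH X F q ⊗[A] N := TensorProduct.comm A _ _
  let e2 : Coh.HH X F q ⊗[A] N ≃ₗ[A] EM (actA A F) (ZU (⊤ : X.Opens)) q ⊗[A] N :=
    TensorProduct.congr (topLin A F q).symm (LinearEquiv.refl A N)
  let t : N ⊗[A] Coh.HH X F q → Coh.HH X' G' q := fun z =>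
    CohPull.pushEdge g G' q (topLin A ((Scheme.Modules.pushforward g).obj G') q (theta Φ (ZU (⊤ : X.Opens)) q (e2 (e1 z))))
  have ht_bij : Function.Bijective t :=
    (Groth.Agent.Lib.T2H5.PushEdge.pushEdge_bijective_of_isAffineHom g G' q).comp
      ((topLin A ((Scheme.Modules.pushforward g).obj G') q).bijective.comp (hθ.comp (e2.bijective.comp e1.bijective)))
  have ht_add : ∀ z w, t (z + w) = t z + t w := by
    intro z w
    simp only [t, map_add]
  have ht_tmul : ∀ (n : N) (x : Coh.HH X F q), t (n ⊗ₜ x) =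
      CohPull.pushEdge g G' q (Sheaf.H.map (Φ.φ n) q x) := by
    intro n x
    change CohPull.pushEdge g G' q (topLin A ((Scheme.Modules.pushforward g).obj G') q
      (theta Φ (ZU (⊤ : X.Opens)) q (((topLin A F q).symm x) ⊗ₜ n))) = _
    rw [theta_tmul, topLin_apply, HETopEquivH_comp, ← topLin_apply A F q, LinearEquiv.apply_symm_apply]
    rfl
  have ht_smul : ∀ (a' : A') (z : N ⊗[A] Coh.HH X F q), t (a' • z) = a' • t z := by
    intro a' z
    induction z using TensorProduct.induction_on with
    | zero =>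
      rw [smul_zero]
      have h0 : t 0 = 0 := by
        have := ht_add 0 0
        rw [add_zero] at this
        have h := congrArg (fun s => s - t 0) this
        simpa using h.symm
      rw [h0, smul_zero]
    | tmul n x =>
      rw [TensorProduct.smul_tmul', ht_tmul, ht_tmul]
      change CohPull.pushEdge g G' q (Sheaf.H.map
          ((SheafOfModules.toSheaf X.ringCatSheaf).map (phiMod g F G' N ψ (a' • n))) q x) =
        Sheaf.H.map (Coh.smulAb G' (Coh.toGlobal (X' ↘ Spec (CommRingCat.of A')) a')) q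
          (CohPull.pushEdge g G' q (Sheaf.H.map
            ((SheafOfModules.toSheaf X.ringCatSheaf).map (phiMod g F G' N ψ n)) q x))
      have h0 := toSheaf_phiMod_smul A' g F G' N ψ hψ a' n
      have h1 : Sheaf.H.map ((SheafOfModules.toSheaf X.ringCatSheaf).map (phiMod g F G' N ψ (a' • n))) q x =
          Sheaf.H.map ((CohTop.push g.base).map
            (Coh.smulAb G' (Coh.toGlobal (X' ↘ Spec (CommRingCat.of A')) a'))) q
            (Sheaf.H.map ((SheafOfModules.toSheaf X.ringCatSheaf).map (phiMod g F G' N ψ n)) q x) := by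
        refine Eq.trans (congrArg (fun φ => Sheaf.H.map φ q x) h0) ?_
        exact (Groth.Agent.Lib.T2H5.PushEdge.H_map_comp _ _ q x).symm
      have hE : ∀ y, CohPull.pushEdge g G' q y =
          Groth.Agent.Lib.T2H5.PushEdge.edgeAb g.base (Coh.toAb G') q y := fun y =>
        congrArg (fun h => h y) (Groth.Agent.Lib.T2H5.PushEdge.pushEdge_eq g G' q)
      have h2 := Groth.Agent.Lib.T2H5.PushEdge.edgeAb_nat g.base
        (Coh.smulAb G' (Coh.toGlobal (X' ↘ Spec (CommRingCat.of A')) a')) q
        (Sheaf.H.map ((SheafOfModules.toSheaf X.ringCatSheaf).map (phiMod g F G' N ψ n)) q x)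
      exact ((congrArg (CohPull.pushEdge g G' q) h1).trans (hE _)).trans
        (h2.trans (congrArg (fun z => Sheaf.H.map
          (Coh.smulAb G' (Coh.toGlobal (X' ↘ Spec (CommRingCat.of A')) a')) q z) (hE _).symm))
    | add z w hz hw => rw [smul_add, ht_add, ht_add, hz, hw, smul_add]
  exact ⟨LinearEquiv.ofBijective
    ({ toFun := t, map_add' := ht_add, map_smul' := ht_smul } : N ⊗[A] Coh.HH X F q →ₗ[A'] Coh.HH X' G' q)
    ht_bij⟩

end Main

end Groth.Agent.Lib.T2H5.FlatBC
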