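import Mathlib
import Groth.Agent.Lib.T2H5ResLE2
import Groth.Agent.Lib.T2H5PushEdge
import Groth.Agent.Lib.T2H5FlatBCM
import Groth.Agent.Lib.Helper20FormalPull

/-!
# `CohPull.pullMod`: naturality in the module, factorisation through the Leray edge map, semilinearity (helper5)

Namespace `Groth.Agent.Lib.T2H5.BCPull`.

* `pullMod_mapH`: `pullMod` is natural in the module;
* `pullMod_eq_pushEdge`: `pullMod g M p = pushEdge g (g^*M) p ∘ H^p(M ⟶ g_* g^* M)`;
* `pushEdge_mapH`: `pushEdge` is natural in the module;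
* `smul_eq_mapH`: the action of `a : A` on `H^p(X, M)` is `H^p` of multiplication by `a`;
* `pullMod_smul`: `pullMod` is semilinear along `A → A'` for `g : X' ⟶ X` over `Spec A' ⟶ Spec A`.
-/

set_option autoImplicit false
set_option linter.style.haveILetI false
set_option linter.unusedSectionVars false
set_option linter.unusedVariables false
universe u
open CategoryTheory CategoryTheory.Limits Opposite TopologicalSpace AlgebraicGeometry Abelian

namespace Groth.Agent.Lib.T2H5.BCPull

open CohPull Groth.Agent.Lib.T2H5.ResLE Groth.Agent.Lib.T2H5.PushEdge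

section Nat

variable {X Y : Scheme.{u}} (g : X ⟶ Y)

lemma mapH_comp {Z : Scheme.{u}} {M N P : Z.Modules} (a : M ⟶ N) (b : N ⟶ P) (p : ℕ) (x : Coh.HH Z M p) :
    mapH b p (mapH a p x) = mapH (a ≫ b) p x := by
  change Sheaf.H.map _ p (Sheaf.H.map _ p x) = Sheaf.H.map _ p x
  rw [H_map_comp]
  rfl

lemma mapH_id {Z : Scheme.{u}} (M : Z.Modules) (p : ℕ) (x : Coh.HH Z M p) :
    mapH (𝟙 M) p x = x := by
  have e : (SheafOfModules.toSheaf Z.ringCatSheaf).map (𝟙 M) = 𝟙 _ :=
    (SheafOfModules.toSheaf Z.ringCatSheaf).map_id M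
  change Sheaf.H.map ((SheafOfModules.toSheaf Z.ringCatSheaf).map (𝟙 M)) p x = x
  refine (congrArg (fun t => Sheaf.H.map t p x) e).trans ?_
  exact Sheaf.H.map_id_apply ..

lemma mapH_bijective_of_isIso {Z : Scheme.{u}} {M N : Z.Modules} (a : M ⟶ N) [IsIso a] (p : ℕ) :
    Function.Bijective (mapH a p) := by
  refine Function.bijective_iff_has_inverse.2 ⟨mapH (inv a) p, fun x => ?_, fun x => ?_⟩
  · rw [mapH_comp, IsIso.hom_inv_id, mapH_id]
  · rw [mapH_comp, IsIso.inv_hom_id, mapH_id]

lemma pullMod_mapH {M M' : Y.Modules} (ψ : M ⟶ M') (p : ℕ) (x : Coh.HH Y M p) :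
    pullMod g M' p (mapH ψ p x) = mapH ((Scheme.Modules.pullback g).map ψ) p (pullMod g M p x) :=
  tw_nat g.base (theta g M) (theta g M') ((SheafOfModules.toSheaf Y.ringCatSheaf).map ψ)
    ((SheafOfModules.toSheaf X.ringCatSheaf).map ((Scheme.Modules.pullback g).map ψ))
    (theta_naturality g ψ) p x

theorem pullMod_eq_pushEdge (M : Y.Modules) (p : ℕ) (x : Coh.HH Y M p) :
    pullMod g M p x = pushEdge g ((Scheme.Modules.pullback g).obj M) p
      (mapH ((Scheme.Modules.pullbackPushforwardAdjunction g).unit.app M) p x) := by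
  have h1 : pullMod g ((Scheme.Modules.pushforward g).obj ((Scheme.Modules.pullback g).obj M)) p
      (mapH ((Scheme.Modules.pullbackPushforwardAdjunction g).unit.app M) p x) =
      mapH ((Scheme.Modules.pullback g).map ((Scheme.Modules.pullbackPushforwardAdjunction g).unit.app M)) p
        (pullMod g M p x) :=
    pullMod_mapH g (M := M) (M' := (Scheme.Modules.pushforward g).obj ((Scheme.Modules.pullback g).obj M))
      ((Scheme.Modules.pullbackPushforwardAdjunction g).unit.app M) p x
  have h2 : pushEdge g ((Scheme.Modules.pullback g).obj M) p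
      (mapH ((Scheme.Modules.pullbackPushforwardAdjunction g).unit.app M) p x) =
      mapH ((Scheme.Modules.pullbackPushforwardAdjunction g).counit.app _) p
        (pullMod g _ p (mapH ((Scheme.Modules.pullbackPushforwardAdjunction g).unit.app M) p x)) := rfl
  rw [h2, h1, mapH_comp,
    (Scheme.Modules.pullbackPushforwardAdjunction g).left_triangle_components M]
  exact (mapH_id _ p _).symm

lemma pushEdge_mapH {G G' : X.Modules} (φ : G ⟶ G') (p : ℕ)
    (x : Coh.HH Y ((Scheme.Modules.pushforward g).obj G) p) :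
    pushEdge g G' p (mapH ((Scheme.Modules.pushforward g).map φ) p x) = mapH φ p (pushEdge g G p x) := by
  rw [pushEdge_eq, pushEdge_eq]
  exact edgeAb_nat g.base ((SheafOfModules.toSheaf X.ringCatSheaf).map φ) p x

end Nat

section Lin

variable (A A' : Type u) [CommRing A] [CommRing A'] [Algebra A A']
  {X X' : Scheme.{u}} [X.Over (Spec (CommRingCat.of A))] [X'.Over (Spec (CommRingCat.of A'))]

lemma smul_eq_mapH (M : X.Modules) (p : ℕ) (a : A) (x : Coh.HH X M p) :
    a • x = mapH (Formal.smulMod A M a) p x := rfl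

variable (g : X' ⟶ X)
  (hg : g ≫ (X ↘ Spec (CommRingCat.of A)) =
    (X' ↘ Spec (CommRingCat.of A')) ≫ Spec.map (CommRingCat.ofHom (algebraMap A A')))

include hg in
lemma pullback_smulMod (M : X.Modules) (a : A) :
    (Scheme.Modules.pullback g).map (Formal.smulMod A M a) =
      Formal.smulMod A' ((Scheme.Modules.pullback g).obj M) (algebraMap A A' a) := by
  unfold Formal.smulMod
  rw [Groth.Agent.Lib.Helper20.FormalPull.pullback_map_smulModΓ,
    Groth.Agent.Lib.T2H5.FlatBC.toGlobal_comp A A' g hg a]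

include hg in
theorem pullMod_smul (M : X.Modules) (p : ℕ) (a : A) (x : Coh.HH X M p) :
    pullMod g M p (a • x) = algebraMap A A' a • pullMod g M p x := by
  rw [smul_eq_mapH, smul_eq_mapH, pullMod_mapH, pullback_smulMod A A' g hg]

end Lin

end Groth.Agent.Lib.T2H5.BCPull
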