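import Groth.Agent.Lib.T2H5BCTheta
import Groth.Agent.Lib.T2H5BCPull
set_option backward.isDefEq.respectTransparency.types false

/-!
# Base change of cohomology and the Eilenberg–Watts comparison of the functors `T^p` (helper5)

Namespace `Groth.Agent.Lib.T2H5.BCKey`.

`A → A'` a ring map, `X` over `Spec A`, `X' = X ×_A A'` with projection `g'`, `F` quasi-coherent on `X`,
`T^p(M) = H^p(X, f^*(M~) ⊗ F)`.  The linearised pullback `pullLin : A' ⊗_A H^p(X, F) → H^p(X', g'^*F)`,
`a' ⊗ x ↦ a' • pullMod x`, is identified with the Eilenberg–Watts comparison `T^p(A) ⊗_A A' → T^p(A')`: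
`ewLin_bijective_iff`, `ewLin_surjective_iff`.  No flatness, finiteness or Noetherian hypothesis.
-/

set_option autoImplicit false
set_option linter.style.haveILetI false
set_option linter.unusedSectionVars false
set_option linter.unusedVariables false
universe u
open CategoryTheory CategoryTheory.Limits AlgebraicGeometry Opposite TopologicalSpace

namespace Groth.Agent.Lib.T2H5.BCKey

open Groth.Agent.Lib.T2H9.TFunGeo Groth.Agent.Lib.T2H9.FFGeom Groth.Agent.Helper13FlatMV
  Groth.Agent.Lib.Helper16.TensorCmp Groth.Agent.Lib.T2H5.BCTheta Groth.Agent.Lib.T2H5.BCPull CohPull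
  TensorProduct

variable {A A' : Type u} [CommRing A] [CommRing A'] [Algebra A A']
variable {X X' : Scheme.{u}} [X.Over (Spec (CommRingCat.of A))] [X'.Over (Spec (CommRingCat.of A'))]
variable (g' : X' ⟶ X)
variable (h : IsPullback g' (X' ↘ Spec (CommRingCat.of A')) (X ↘ Spec (CommRingCat.of A))
  (Spec.map (CommRingCat.ofHom (algebraMap A A'))))
variable (F : X.Modules) (p : ℕ)

variable (A) in
/-- `T^p(M) = H^p(X, f^*(M~) ⊗ F)` -/
noncomputable abbrev Tp : ModuleCat.{u} A ⥤ AddCommGrpCat.{u} :=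
  CohIII.tensorAFunctor A F ⋙ CohIII.HAb X p

lemma mapH_add {Z : Scheme.{u}} {M N : Z.Modules} (a b : M ⟶ N) (q : ℕ) (x : Coh.HH Z M q) :
    mapH (a + b) q x = mapH a q x + mapH b q x := by
  have e := Groth.Agent.Lib.T2H5.FlatBC.toSheaf_map_add a b
  have h1 : mapH (a + b) q x =
      Sheaf.H.map ((SheafOfModules.toSheaf Z.ringCatSheaf).map a +
        (SheafOfModules.toSheaf Z.ringCatSheaf).map b) q x :=
    congrArg (fun t => Sheaf.H.map t q x) e
  exact h1.trans (Sheaf.H.map_add_apply _ _ x)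

instance : (Tp A F p).Additive where
  map_add := by
    intro M N f g
    ext x
    change mapH ((CohIII.tensorAFunctor A F).map (f + g)) p x =
      mapH ((CohIII.tensorAFunctor A F).map f) p x + mapH ((CohIII.tensorAFunctor A F).map g) p x
    rw [Functor.map_add, mapH_add]

include h in
/-- the linearised pullback on cohomology -/
noncomputable def pullLin :
    A' ⊗[A] Coh.HH X F p →ₗ[A'] Coh.HH X' ((Scheme.Modules.pullback g').obj F) p :=
  kap (R := A) (R' := A') (pullMod g' F p) (pullMod_smul A A' g' h.w F p)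

lemma pullLin_tmul (a' : A') (x : Coh.HH X F p) :
    pullLin g' h F p (a' ⊗ₜ x) = a' • pullMod g' F p x := rfl

/-- `T^p(A) ≅ H^p(X, F)`, linearly -/
noncomputable def uEquiv :
    ((Groth.Agent.Lib.T2H9.EW.liftA (Tp A F p)).obj (ModuleCat.of A A)) ≃ₗ[A] Coh.HH X F p where
  toFun y := mapH (tensorAFunctorUnitIso A F).hom p y
  invFun x := mapH (tensorAFunctorUnitIso A F).inv p x
  left_inv y := by
    change mapH (tensorAFunctorUnitIso A F).inv p (mapH (tensorAFunctorUnitIso A F).hom p y) = y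
    rw [mapH_comp, Iso.hom_inv_id, mapH_id]
  right_inv x := by
    change mapH (tensorAFunctorUnitIso A F).hom p (mapH (tensorAFunctorUnitIso A F).inv p x) = x
    rw [mapH_comp, Iso.inv_hom_id, mapH_id]
  map_add' y z := map_add _ _ _
  map_smul' a y := by
    rw [RingHom.id_apply]
    change mapH (tensorAFunctorUnitIso A F).hom p
      (mapH ((CohIII.tensorAFunctor A F).map (a • 𝟙 (ModuleCat.of A A))) p y) =
      mapH (Formal.smulMod A F a) p (mapH (tensorAFunctorUnitIso A F).hom p y)
    rw [tensorAFunctor_map_smul, mapH_comp, mapH_comp, Groth.Agent.S9530.smulMod_comp]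

/-- the comparison `T^p(A') → H^p(X', g'^*F)` -/
noncomputable def cmpT0 (Θ : (CohIII.tensorAFunctor A F).obj (ModuleCat.of A A') ⟶ GG g' F) :
    Coh.HH X ((CohIII.tensorAFunctor A F).obj (ModuleCat.of A A')) p →+
      Coh.HH X' ((Scheme.Modules.pullback g').obj F) p :=
  (pushEdge g' ((Scheme.Modules.pullback g').obj F) p).comp (mapH Θ p)

/-- the comparison `T^p(A') → H^p(X', g'^*F)` -/
noncomputable def cmpT (Θ : (CohIII.tensorAFunctor A F).obj (ModuleCat.of A A') ⟶ GG g' F) :
    ((Groth.Agent.Lib.T2H9.EW.liftA (Tp A F p)).obj (ModuleCat.of A A')) →+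
      Coh.HH X' ((Scheme.Modules.pullback g').obj F) p :=
  cmpT0 g' F p Θ

lemma cmpT_apply (Θ : (CohIII.tensorAFunctor A F).obj (ModuleCat.of A A') ⟶ GG g' F)
    (y : Coh.HH X ((CohIII.tensorAFunctor A F).obj (ModuleCat.of A A')) p) :
    cmpT g' F p Θ y = pushEdge g' ((Scheme.Modules.pullback g').obj F) p (mapH Θ p y) := rfl

lemma cmpT_map_θ (Θ : (CohIII.tensorAFunctor A F).obj (ModuleCat.of A A') ⟶ GG g' F)
    (hΘ : IsTheta g' F Θ) (a' : A') (y : Coh.HH X ((CohIII.tensorAFunctor A F).obj (ModuleCat.of A A)) p) :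
    cmpT g' F p Θ (mapH ((CohIII.tensorAFunctor A F).map (θ (M := ModuleCat.of A A') a')) p y) =
      a' • pullMod g' F p (mapH (tensorAFunctorUnitIso A F).hom p y) := by
  rw [cmpT_apply, mapH_comp, hΘ a']
  unfold psi mu
  rw [← mapH_comp, ← mapH_comp, pushEdge_mapH, ← pullMod_eq_pushEdge]
  rfl

variable [F.IsQuasicoherent]

include h in
lemma cmpT_bijective (Θ : (CohIII.tensorAFunctor A F).obj (ModuleCat.of A A') ⟶ GG g' F)
    (hΘ : IsTheta g' F Θ) : Function.Bijective (cmpT g' F p Θ) := by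
  haveI : IsAffineHom g' := MorphismProperty.of_isPullback (P := @IsAffineHom) h.flip inferInstance
  haveI := isIso_theta g' F h Θ hΘ
  exact (Groth.Agent.Lib.T2H5.PushEdge.pushEdge_bijective_of_isAffineHom g'
    ((Scheme.Modules.pullback g').obj F) p).comp (mapH_bijective_of_isIso Θ p)

/-- the identification of the sources -/
noncomputable def cEquiv :
    TensorProduct A ((Groth.Agent.Lib.T2H9.EW.liftA (Tp A F p)).obj (ModuleCat.of A A))
      (ModuleCat.of A A') ≃ₗ[A] A' ⊗[A] Coh.HH X F p :=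
  (TensorProduct.congr (uEquiv F p) (LinearEquiv.refl A A')).trans (TensorProduct.comm A _ _)

include h in
theorem cmpT_ewLin (Θ : (CohIII.tensorAFunctor A F).obj (ModuleCat.of A A') ⟶ GG g' F)
    (hΘ : IsTheta g' F Θ)
    (z : TensorProduct A ((Groth.Agent.Lib.T2H9.EW.liftA (Tp A F p)).obj (ModuleCat.of A A))
      (ModuleCat.of A A')) :
    cmpT g' F p Θ (Groth.Agent.Lib.T2H9.EW.ewLin (Groth.Agent.Lib.T2H9.EW.liftA (Tp A F p))
      (ModuleCat.of A A') z) = pullLin g' h F p (cEquiv F p z) := by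
  induction z using TensorProduct.induction_on with
  | zero => rw [map_zero, map_zero, map_zero, map_zero]
  | tmul y a' =>
    have e1 : cEquiv (A' := A') F p (y ⊗ₜ a') = a' ⊗ₜ uEquiv F p y := rfl
    rw [e1, pullLin_tmul, Groth.Agent.Lib.T2H9.EW.ewLin_tmul]
    exact cmpT_map_θ g' F p Θ hΘ a' y
  | add z w hz hw => rw [map_add, map_add, map_add, map_add, hz, hw]

include h in
theorem ewLin_bijective_iff :
    Function.Bijective (Groth.Agent.Lib.T2H9.EW.ewLin (Groth.Agent.Lib.T2H9.EW.liftA (Tp A F p))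
      (ModuleCat.of A A')) ↔ Function.Bijective (pullLin g' h F p) := by
  obtain ⟨Θ, hΘ⟩ := exists_theta g' h.w F
  have hc := cmpT_bijective g' h F p Θ hΘ
  have key : (cmpT g' F p Θ : _ → _) ∘ (Groth.Agent.Lib.T2H9.EW.ewLin
      (Groth.Agent.Lib.T2H9.EW.liftA (Tp A F p)) (ModuleCat.of A A')) =
      (pullLin g' h F p) ∘ (cEquiv F p) := funext (cmpT_ewLin g' h F p Θ hΘ)
  constructor
  · intro hb
    have h1 : Function.Bijective ((pullLin g' h F p) ∘ (cEquiv (A' := A') F p)) := by
      rw [← key]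
      exact hc.comp hb
    exact (Function.Bijective.of_comp_iff (pullLin g' h F p) (cEquiv (A' := A') F p).bijective).1 h1
  · intro hb
    have h1 : Function.Bijective ((cmpT g' F p Θ : _ → _) ∘ (Groth.Agent.Lib.T2H9.EW.ewLin
        (Groth.Agent.Lib.T2H9.EW.liftA (Tp A F p)) (ModuleCat.of A A'))) := by
      rw [key]
      exact hb.comp (cEquiv (A' := A') F p).bijective
    exact (Function.Bijective.of_comp_iff' hc _).1 h1

include h in
theorem ewLin_surjective_iff :
    Function.Surjective (Groth.Agent.Lib.T2H9.EW.ewLin (Groth.Agent.Lib.T2H9.EW.liftA (Tp A F p))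
      (ModuleCat.of A A')) ↔ Function.Surjective (pullLin g' h F p) := by
  obtain ⟨Θ, hΘ⟩ := exists_theta g' h.w F
  have hc := cmpT_bijective g' h F p Θ hΘ
  have key : (cmpT g' F p Θ : _ → _) ∘ (Groth.Agent.Lib.T2H9.EW.ewLin
      (Groth.Agent.Lib.T2H9.EW.liftA (Tp A F p)) (ModuleCat.of A A')) =
      (pullLin g' h F p) ∘ (cEquiv F p) := funext (cmpT_ewLin g' h F p Θ hΘ)
  constructor
  · intro hb
    have h1 : Function.Surjective ((pullLin g' h F p) ∘ (cEquiv (A' := A') F p)) := by
      rw [← key]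
      exact hc.surjective.comp hb
    exact Function.Surjective.of_comp h1
  · intro hb
    have h1 : Function.Surjective ((cmpT g' F p Θ : _ → _) ∘ (Groth.Agent.Lib.T2H9.EW.ewLin
        (Groth.Agent.Lib.T2H9.EW.liftA (Tp A F p)) (ModuleCat.of A A'))) := by
      rw [key]
      exact hb.comp (cEquiv (A' := A') F p).surjective
    intro y
    obtain ⟨z, hz⟩ := h1 (cmpT g' F p Θ y)
    exact ⟨z, hc.injective hz⟩

end Groth.Agent.Lib.T2H5.BCKey
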