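import Mathlib
import Groth.Agent.Lib.T2H5FlatBCM
import Groth.Agent.Lib.Helper13BCAlg
import Groth.Agent.Lib.Helper13PullbackUnit

/-!
# T2H5FlatBCD (helper5): sections of a pullback along a base change over affine opens

`A → A'` a ring map, `X` over `Spec A`, `X' = X ×_A Spec A'` with projection `g : X' ⟶ X`, `F` quasi-coherent on
`X`, `W ⊆ X` an affine open.  Then `Γ(g^*F, g⁻¹W) = A' ⊗_A Γ(F, W)`: `exists_beta`.
-/

set_option autoImplicit false
set_option backward.isDefEq.respectTransparency.types false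
set_option linter.style.haveILetI false
set_option linter.unusedSectionVars false
set_option linter.unusedVariables false
universe u
open CategoryTheory CategoryTheory.Limits TensorProduct TopologicalSpace Opposite AlgebraicGeometry

namespace Groth.Agent.Lib.T2H5.FlatBC

open Groth.Agent.Helper13PullbackUnit

section Beta

variable (A A' : Type u) [CommRing A] [CommRing A'] [Algebra A A']
  {X X' : Scheme.{u}} [X.Over (Spec (CommRingCat.of A))] [X'.Over (Spec (CommRingCat.of A'))]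
  (g : X' ⟶ X)

/-- the ring map from `A` to the functions on an open, with values in `Γ(X, W)` -/
noncomputable def toΓ (W : X.Opens) : A →+* Γ(X, W) :=
  ((X ↘ Spec (CommRingCat.of A)).appLE ⊤ W le_top).hom.comp (Scheme.ΓSpecIso (CommRingCat.of A)).inv.hom

theorem toSec_eq_toΓ (W : X.Opens) (a : A) : (toSec A W a : Γ(X, W)) = toΓ A W a := rfl

variable (hg : g ≫ (X ↘ Spec (CommRingCat.of A)) =
    (X' ↘ Spec (CommRingCat.of A')) ≫ Spec.map (CommRingCat.ofHom (algebraMap A A')))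

include hg in
theorem appLE_toΓ (W : X.Opens) (a : A) :
    (g.appLE W (g ⁻¹ᵁ W) le_rfl).hom (toΓ A W a) = toΓ A' (g ⁻¹ᵁ W) (algebraMap A A' a) := by
  have h1 := toGlobal_comp A A' g hg a
  have h2 : (g.appLE W (g ⁻¹ᵁ W) le_rfl).hom (toΓ A W a) =
      (X'.presheaf.map (homOfLE (le_top : g ⁻¹ᵁ W ≤ ⊤)).op).hom
        (g.appTop.hom (Coh.toGlobal (X ↘ Spec (CommRingCat.of A)) a)) := by
    rw [Scheme.Hom.appLE_eq_app]
    have := ConcreteCategory.congr_hom (g.naturality (homOfLE (le_top : W ≤ ⊤)).op)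
      (Coh.toGlobal (X ↘ Spec (CommRingCat.of A)) a)
    exact this
  rw [h2, h1]
  rfl

variable (sq : IsPullback g (X' ↘ Spec (CommRingCat.of A')) (X ↘ Spec (CommRingCat.of A))
    (Spec.map (CommRingCat.ofHom (algebraMap A A'))))

include sq in
theorem isPushout_sections (W : X.Opens) (hW : IsAffineOpen W) :
    IsPushout (CommRingCat.ofHom (algebraMap A A')) (CommRingCat.ofHom (toΓ A W))
      (CommRingCat.ofHom (toΓ A' (g ⁻¹ᵁ W))) (CommRingCat.ofHom (g.appLE W (g ⁻¹ᵁ W) le_rfl).hom) := by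
  have hUY : g ⁻¹ᵁ W = g ⁻¹ᵁ W ⊓ (X' ↘ Spec (CommRingCat.of A')) ⁻¹ᵁ ⊤ := by
    rw [Scheme.Hom.preimage_top, inf_top_eq]
  have hpo := ((AlgebraicGeometry.isIso_pushoutSection_iff sq (le_top : (⊤ : (Spec (CommRingCat.of A')).Opens) ≤
      (Spec.map (CommRingCat.ofHom (algebraMap A A'))) ⁻¹ᵁ ⊤) (le_top : W ≤ _) hUY).1
    (AlgebraicGeometry.isIso_pushoutSection_of_isAffineOpen sq le_top le_top hUY (isAffineOpen_top _)
      (isAffineOpen_top _) hW)).flip
  refine IsPushout.of_iso hpo (Scheme.ΓSpecIso (CommRingCat.of A)) (Scheme.ΓSpecIso (CommRingCat.of A'))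
    (Iso.refl _) (Iso.refl _) ?_ ?_ ?_ ?_
  · have := Scheme.ΓSpecIso_naturality (CommRingCat.ofHom (algebraMap A A'))
    rw [← this]
    rfl
  · ext a
    change _ = toΓ A W ((Scheme.ΓSpecIso (CommRingCat.of A)).hom.hom a)
    unfold toΓ
    rw [RingHom.comp_apply]
    have : (Scheme.ΓSpecIso (CommRingCat.of A)).inv.hom ((Scheme.ΓSpecIso (CommRingCat.of A)).hom.hom a) = a :=
      ConcreteCategory.congr_hom (Scheme.ΓSpecIso (CommRingCat.of A)).hom_inv_id a
    rw [this]
    rfl
  · ext a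
    change _ = toΓ A' (g ⁻¹ᵁ W) ((Scheme.ΓSpecIso (CommRingCat.of A')).hom.hom a)
    unfold toΓ
    rw [RingHom.comp_apply]
    have : (Scheme.ΓSpecIso (CommRingCat.of A')).inv.hom ((Scheme.ΓSpecIso (CommRingCat.of A')).hom.hom a) = a :=
      ConcreteCategory.congr_hom (Scheme.ΓSpecIso (CommRingCat.of A')).hom_inv_id a
    rw [this]
    rfl
  · rfl

theorem existsUnique_lift_tensor {R R' : Type u} [CommRing R] [CommRing R'] [Algebra R R'] {M : Type u}
    [AddCommGroup M] [Module R M] (N : Type u) [AddCommGroup N] [Module R' N] (l : M →+ N)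
    (hl : ∀ (r : R) (m : M), l (r • m) = algebraMap R R' r • l m) :
    ∃! l' : R' ⊗[R] M →ₗ[R'] N, ∀ m, l' (1 ⊗ₜ m) = l m := by
  letI : Module R N := Module.compHom N (algebraMap R R')
  haveI : IsScalarTower R R' N := IsScalarTower.of_algebraMap_smul (fun r n => rfl)
  let lR : M →ₗ[R] N := { toFun := l, map_add' := l.map_add, map_smul' := fun r m => hl r m }
  have hb : IsBaseChange R' (TensorProduct.mk R R' M 1) := TensorProduct.isBaseChange R M R'
  refine ⟨hb.lift lR, fun m => hb.lift_eq lR m, fun l'' h'' => ?_⟩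
  exact hb.algHom_ext _ _ (fun m => (h'' m).trans (hb.lift_eq lR m).symm)

include hg sq in
theorem exists_beta (F : X.Modules) [F.IsQuasicoherent] (W : X.Opens) (hW : IsAffineOpen W) :
    ∃ β : A' ⊗[A] SecA A F W →ₗ[A'] SecA A' ((Scheme.Modules.pullback g).obj F) (g ⁻¹ᵁ W),
      Function.Bijective β ∧
      ∀ (a' : A') (x : SecA A F W), β (a' ⊗ₜ x) =
        a' • (show SecA A' ((Scheme.Modules.pullback g).obj F) (g ⁻¹ᵁ W) from
          unitSec g F (le_refl (g ⁻¹ᵁ W)) (show Γ(F, W) from x)) := by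
  haveI : IsAffineHom g := MorphismProperty.of_isPullback (P := @IsAffineHom) sq.flip inferInstance
  have hW' : IsAffineOpen (g ⁻¹ᵁ W) := hW.preimage g
  let u : Γ(F, W) →+ Γ((Scheme.Modules.pullback g).obj F, g ⁻¹ᵁ W) := unitSec g F (le_refl (g ⁻¹ᵁ W))
  have hu : ∀ (r : Γ(X, W)) (x : Γ(F, W)), u (r • x) = (g.appLE W (g ⁻¹ᵁ W) le_rfl).hom r • u x :=
    fun r x => unitSec_smul g F (le_refl (g ⁻¹ᵁ W)) r x
  let β₀ : A' ⊗[A] SecA A F W →+ Γ((Scheme.Modules.pullback g).obj F, g ⁻¹ᵁ W) :=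
    TensorProduct.liftAddHom
      { toFun := fun a' =>
          { toFun := fun x => toΓ A' (g ⁻¹ᵁ W) a' • u (show Γ(F, W) from x)
            map_zero' := by
              change toΓ A' (g ⁻¹ᵁ W) a' • u 0 = 0
              rw [map_zero, smul_zero]
            map_add' := fun x y => by
              change toΓ A' (g ⁻¹ᵁ W) a' • u ((show Γ(F, W) from x) + (show Γ(F, W) from y)) = _
              rw [map_add, smul_add] }
        map_zero' := by
          ext x
          change toΓ A' (g ⁻¹ᵁ W) 0 • u (show Γ(F, W) from x) = 0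
          rw [map_zero, zero_smul]
        map_add' := fun a b => by
          ext x
          change toΓ A' (g ⁻¹ᵁ W) (a + b) • u (show Γ(F, W) from x) =
            toΓ A' (g ⁻¹ᵁ W) a • u (show Γ(F, W) from x) + toΓ A' (g ⁻¹ᵁ W) b • u (show Γ(F, W) from x)
          rw [map_add, add_smul] }
      (by
        intro r a' x
        change toΓ A' (g ⁻¹ᵁ W) (r • a') • u (show Γ(F, W) from x) =
          toΓ A' (g ⁻¹ᵁ W) a' • u (toΓ A W r • (show Γ(F, W) from x))
        rw [hu, appLE_toΓ A A' g hg, ← mul_smul, Algebra.smul_def, map_mul, mul_comm])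
  have hβ₀ : ∀ (a' : A') (x : SecA A F W), β₀ (a' ⊗ₜ x) = toΓ A' (g ⁻¹ᵁ W) a' • u (show Γ(F, W) from x) :=
    fun a' x => rfl
  have hβ : ∀ (r' : A') (q : A' ⊗[A] SecA A F W), β₀ (r' • q) = toΓ A' (g ⁻¹ᵁ W) r' • β₀ q := by
    intro r' q
    induction q using TensorProduct.induction_on with
    | zero => rw [smul_zero, map_zero, smul_zero]
    | tmul a' x => rw [TensorProduct.smul_tmul', hβ₀, hβ₀, smul_eq_mul, map_mul, mul_smul]
    | add z w hz hw => rw [smul_add, map_add, map_add, hz, hw, smul_add]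
  have hbij : Function.Bijective β₀ := by
    refine Groth.Agent.Helper13BCAlg.bijective_of_lifts (algebraMap A A') (toΓ A W)
      (g.appLE W (g ⁻¹ᵁ W) le_rfl).hom (toΓ A' (g ⁻¹ᵁ W)) (isPushout_sections A A' g sq W hW)
      (M := Γ(F, W)) (Q := A' ⊗[A] SecA A F W) (Q' := Γ((Scheme.Modules.pullback g).obj F, g ⁻¹ᵁ W))
      ({ toFun := fun m => (1 : A') ⊗ₜ[A] (show SecA A F W from m)
         map_zero' := TensorProduct.tmul_zero _ _
         map_add' := fun m m' => TensorProduct.tmul_add _ _ _ } : Γ(F, W) →+ A' ⊗[A] SecA A F W)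
      ?_ ?_ u hu (fun N _ _ l hl => existsUnique_lift g F hW hW' (le_refl (g ⁻¹ᵁ W)) N l hl) β₀ hβ ?_
    · intro r m
      change (1 : A') ⊗ₜ[A] (r • (show SecA A F W from m)) = algebraMap A A' r • ((1 : A') ⊗ₜ[A] (show SecA A F W from m))
      rw [TensorProduct.smul_tmul', ← TensorProduct.smul_tmul, Algebra.smul_def, smul_eq_mul]
    · intro N _ _ l hl
      exact existsUnique_lift_tensor (R := A) (R' := A') (M := SecA A F W) N l hl
    · intro m
      change β₀ ((1 : A') ⊗ₜ[A] (show SecA A F W from m)) = u m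
      rw [hβ₀, map_one, one_smul]
  refine ⟨{ toFun := β₀, map_add' := β₀.map_add, map_smul' := hβ }, hbij, fun a' x => ?_⟩
  exact hβ₀ a' x

end Beta

end Groth.Agent.Lib.T2H5.FlatBC
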