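import Mathlib
import Groth.Agent.Lib.T2H5FlatBCD

/-!
# T2H5FlatBCE (helper5): flat base change over an affine base

`A → A'` flat, `X` quasi-compact quasi-separated over `Spec A`, `X' = X ×_A Spec A'`, `g : X' ⟶ X` the projection,
`F` quasi-coherent on `X`: `A' ⊗_A H^q(X, F) ≃ H^q(X', g^*F)` as `A'`-modules (`flat_base_change`).
-/

set_option autoImplicit false
set_option backward.isDefEq.respectTransparency.types false
set_option linter.style.haveILetI false
set_option linter.unusedSectionVars false
set_option linter.unusedVariables false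
universe u
open CategoryTheory CategoryTheory.Limits TensorProduct TopologicalSpace Opposite AlgebraicGeometry

namespace Groth.Agent.Lib.T2H5.FlatBC

open Groth.Agent.Helper13PullbackUnit

section Final

variable (A A' : Type u) [CommRing A] [CommRing A'] [Algebra A A']
  {X X' : Scheme.{u}} [X.Over (Spec (CommRingCat.of A))] [X'.Over (Spec (CommRingCat.of A'))]
  (g : X' ⟶ X)

theorem smulMod_app (G : X.Modules) (a : A) (U : X.Opens) (m : SecA A G U) :
    ((Formal.smulMod A G a).val.app (op U)).hom m = a • m := rfl

theorem smulMod_add' (G : X.Modules) (a b : A) :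
    Formal.smulMod A G (a + b) = Formal.smulMod A G a + Formal.smulMod A G b := by
  apply Scheme.Modules.hom_ext
  intro U
  ext m
  change ((a + b) • (show SecA A G U from m) : SecA A G U) = a • (show SecA A G U from m) + b • (show SecA A G U from m)
  rw [add_smul]

theorem smulMod_zero' (G : X.Modules) : Formal.smulMod A G (0 : A) = 0 := by
  apply Scheme.Modules.hom_ext
  intro U
  ext m
  change ((0 : A) • (show SecA A G U from m) : SecA A G U) = 0
  rw [zero_smul]

theorem smulMod_mul' (G : X.Modules) (a b : A) :
    Formal.smulMod A G (a * b) = Formal.smulMod A G b ≫ Formal.smulMod A G a := by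
  apply Scheme.Modules.hom_ext
  intro U
  ext m
  change ((a * b) • (show SecA A G U from m) : SecA A G U) = a • (b • (show SecA A G U from m))
  rw [mul_smul]

variable (hg : g ≫ (X ↘ Spec (CommRingCat.of A)) =
    (X' ↘ Spec (CommRingCat.of A')) ≫ Spec.map (CommRingCat.ofHom (algebraMap A A')))

include hg in
theorem secA_pushforward_smul (G' : X'.Modules) (W : X.Opens) (a : A)
    (y : SecA A ((Scheme.Modules.pushforward g).obj G') W) :
    a • y = (algebraMap A A' a • (show SecA A' G' (g ⁻¹ᵁ W) from y) : SecA A' G' (g ⁻¹ᵁ W)) := by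
  have h := appLE_toΓ A A' g hg W a
  rw [Scheme.Hom.appLE_eq_app] at h
  have h' : (g.app W).hom (toSec A W a) = toSec A' (g ⁻¹ᵁ W) (algebraMap A A' a) := h
  rw [SecA.smul_def, SecA.smul_def, ← h']
  rfl

theorem unitSec_refl (F : X.Modules) (W : X.Opens) (x : Γ(F, W)) :
    unitSec g F (le_refl (g ⁻¹ᵁ W)) x =
      (((Scheme.Modules.pullbackPushforwardAdjunction g).unit.app F).app W).hom x := by
  rw [unitSec_apply]
  have : (homOfLE (le_refl (g ⁻¹ᵁ W))).op = 𝟙 (op (g ⁻¹ᵁ W)) := rfl
  rw [this]
  exact ConcreteCategory.congr_hom (((Scheme.Modules.pullback g).obj F).presheaf.map_id _) _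

variable (sq : IsPullback g (X' ↘ Spec (CommRingCat.of A')) (X ↘ Spec (CommRingCat.of A))
    (Spec.map (CommRingCat.ofHom (algebraMap A A'))))

/-- the family `b ↦ (multiplication by b)` on a module over `X'` -/
noncomputable def psiSmul (G' : X'.Modules) : A' →+ (G' ⟶ G') where
  toFun b := Formal.smulMod A' G' b
  map_zero' := smulMod_zero' A' G'
  map_add' := smulMod_add' A' G'

include hg sq in
theorem localBij_pullback (F : X.Modules) [F.IsQuasicoherent] :
    LocalBij A g F ((Scheme.Modules.pullback g).obj F) A' (psiSmul A' ((Scheme.Modules.pullback g).obj F)) := by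
  intro W hW
  obtain ⟨β, hβ, hβ'⟩ := exists_beta A A' g hg sq F W hW
  refine ⟨{ toFun := fun t => β (TensorProduct.comm A (SecA A F W) A' t)
            map_add' := fun s t => by rw [map_add, map_add]; rfl
            map_smul' := fun a t => ?_ }, ?_, ?_⟩
  · rw [RingHom.id_apply, map_smul, ← algebraMap_smul A' a, map_smul]
    exact (secA_pushforward_smul A A' g hg _ W a _).symm
  · exact hβ.comp (TensorProduct.comm A (SecA A F W) A').bijective
  · intro x n
    change β (TensorProduct.comm A (SecA A F W) A' (x ⊗ₜ n)) = _
    rw [TensorProduct.comm_tmul, hβ', unitSec_refl]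
    rfl

include hg sq in
/-- **Flat base change over an affine base.** -/
theorem flat_base_change [CompactSpace X] [QuasiSeparatedSpace X] [Module.Flat A A']
    (F : X.Modules) [F.IsQuasicoherent] (q : ℕ) :
    Nonempty (A' ⊗[A] Coh.HH X F q ≃ₗ[A'] Coh.HH X' ((Scheme.Modules.pullback g).obj F) q) := by
  haveI : IsAffineHom g := MorphismProperty.of_isPullback (P := @IsAffineHom) sq.flip inferInstance
  haveI : ((Scheme.Modules.pullback g).obj F).IsQuasicoherent :=
    Groth.Agent.Lib.Helper2.PullbackSec.isQuasicoherent_pullback g F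
  exact nonempty_linearEquiv A A' g hg F ((Scheme.Modules.pullback g).obj F) A'
    (psiSmul A' ((Scheme.Modules.pullback g).obj F))
    (fun a' n => smulMod_mul' A' _ a' n) (localBij_pullback A A' g hg sq F) q

end Final

end Groth.Agent.Lib.T2H5.FlatBC
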