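import Groth.Agent.Lib.T2H9FFGeom0

set_option autoImplicit false
set_option linter.style.haveILetI false
set_option linter.unusedSectionVars false
set_option linter.unusedVariables false
universe u
open CategoryTheory AlgebraicGeometry Limits TopologicalSpace Opposite Polynomial

namespace Groth.Agent.Lib.T2H9.FFGeom

variable {A : Type u} [CommRing A] (I : Ideal A)
variable (X : Scheme.{u}) [X.Over (Spec (CommRingCat.of A))]

/-- the big pullback square -/
theorem isPullback_big :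
    IsPullback (hT I X ≫ pB I X) (fT I X) (X ↘ Spec (CommRingCat.of A)) (qT I ≫ qB I) :=
  (isPullback_T I X).paste_horiz (isPullback_B I X)

/-- the open `π⁻¹U` of `X_B` -/
noncomputable abbrev VB (U : X.Opens) : (XB I X).Opens := pB I X ⁻¹ᵁ U

/-- the open `h⁻¹π⁻¹U` of `X_t` -/
noncomputable abbrev WT (U : X.Opens) : (XT I X).Opens := hT I X ⁻¹ᵁ (pB I X ⁻¹ᵁ U)

variable {X} in
theorem isAffineOpen_VB {U : X.Opens} (hU : IsAffineOpen U) : IsAffineOpen (VB I X U) :=
  hU.preimage (pB I X)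

variable {X} in
theorem isAffineOpen_WT {U : X.Opens} (hU : IsAffineOpen U) : IsAffineOpen (WT I X U) :=
  (hU.preimage (pB I X)).preimage (hT I X)

/-- `A → Γ(X, U)` -/
noncomputable def ρU (U : X.Opens) : A →+* Γ(X, U) :=
  ((X ↘ Spec (CommRingCat.of A)).appLE ⊤ U le_top).hom.comp
    (Scheme.ΓSpecIso (CommRingCat.of A)).inv.hom

/-- `A[t] → Γ(X_t, h⁻¹π⁻¹U)` -/
noncomputable def βT (U : X.Opens) : A[X] →+* Γ(XT I X, WT I X U) :=
  ((fT I X).appLE ⊤ (WT I X U) le_top).hom.comp (Scheme.ΓSpecIso (CommRingCat.of A[X])).inv.hom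

/-- `Γ(X, U) → Γ(X_t, h⁻¹π⁻¹U)` -/
noncomputable def αT (U : X.Opens) : Γ(X, U) →+* Γ(XT I X, WT I X U) :=
  ((hT I X ≫ pB I X).appLE U (WT I X U) le_rfl).hom

theorem isPushout_sections {U : X.Opens} (hU : IsAffineOpen U) :
    IsPushout (CommRingCat.ofHom (algebraMap A A[X])) (CommRingCat.ofHom (ρU X U))
      (CommRingCat.ofHom (βT I X U)) (CommRingCat.ofHom (αT I X U)) := by
  have hUY : WT I X U = (hT I X ≫ pB I X) ⁻¹ᵁ U ⊓ fT I X ⁻¹ᵁ ⊤ := by
    simp [WT]
  have h1 := (isIso_pushoutSection_iff (isPullback_big I X) (US := ⊤) (UT := ⊤) (UX := U)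
    le_top le_top hUY).1
    (isIso_pushoutSection_of_isAffineOpen (isPullback_big I X) le_top le_top hUY
      (isAffineOpen_top _) (isAffineOpen_top _) hU)
  refine IsPushout.of_iso h1.flip (Scheme.ΓSpecIso (CommRingCat.of A))
    (Scheme.ΓSpecIso (CommRingCat.of A[X])) (Iso.refl _) (Iso.refl _) ?_ ?_ ?_ ?_
  · have e : qT I ≫ qB I = Spec.map (CommRingCat.ofHom (algebraMap A A[X])) := by
      unfold qT qB
      rw [← Spec.map_comp]
      rfl
    have e2 : Scheme.Hom.appLE (qT I ≫ qB I) ⊤ ⊤ le_top = (qT I ≫ qB I).appTop := by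
      simp [Scheme.Hom.appLE, Scheme.Hom.appTop]
    rw [e2, e, Scheme.ΓSpecIso_naturality]
  · have : CommRingCat.ofHom (ρU X U) = (Scheme.ΓSpecIso (CommRingCat.of A)).inv ≫
        (X ↘ Spec (CommRingCat.of A)).appLE ⊤ U le_top := rfl
    rw [this, Iso.hom_inv_id_assoc, Iso.refl_hom, Category.comp_id]
  · have : CommRingCat.ofHom (βT I X U) = (Scheme.ΓSpecIso (CommRingCat.of A[X])).inv ≫
        (fT I X).appLE ⊤ (WT I X U) le_top := rfl
    rw [this, Iso.hom_inv_id_assoc, Iso.refl_hom, Category.comp_id]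
  · rw [Iso.refl_hom, Iso.refl_hom, Category.comp_id, Category.id_comp]
    rfl


section univ

/-- universal properties of semilinear maps compose -/
theorem existsUnique_comp {R R' R'' : Type u} [CommRing R] [CommRing R'] [CommRing R'']
    (a : R →+* R') (a' : R' →+* R'')
    {M Q Q'' : Type u} [AddCommGroup M] [Module R M] [AddCommGroup Q] [Module R' Q]
    [AddCommGroup Q''] [Module R'' Q'']
    (φ : M →+ Q)
    (Uφ : ∀ (N : Type u) [AddCommGroup N] [Module R' N] (l : M →+ N),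
      (∀ (r : R) (m : M), l (r • m) = a r • l m) → ∃! l' : Q →ₗ[R'] N, ∀ m, l' (φ m) = l m)
    (φ' : Q →+ Q'') (hφ' : ∀ (r : R') (q : Q), φ' (r • q) = a' r • φ' q)
    (Uφ' : ∀ (N : Type u) [AddCommGroup N] [Module R'' N] (l : Q →+ N),
      (∀ (r : R') (q : Q), l (r • q) = a' r • l q) → ∃! l' : Q'' →ₗ[R''] N, ∀ q, l' (φ' q) = l q)
    (N : Type u) [AddCommGroup N] [Module R'' N] (l : M →+ N)
    (hl : ∀ (r : R) (m : M), l (r • m) = a' (a r) • l m) :
    ∃! l' : Q'' →ₗ[R''] N, ∀ m, l' (φ' (φ m)) = l m := by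
  letI iN : Module R' N := Module.compHom N a'
  obtain ⟨l1, h1, u1⟩ := Uφ N l (fun r m => hl r m)
  obtain ⟨l2, h2, u2⟩ := Uφ' N l1.toAddMonoidHom (fun r q => l1.map_smul r q)
  refine ⟨l2, fun m => ?_, fun l2' hl2' => ?_⟩
  · rw [h2]
    exact h1 m
  · apply u2
    intro q
    let l1' : Q →ₗ[R'] N :=
      { toFun := fun q => l2' (φ' q)
        map_add' := fun x y => by rw [map_add, map_add]
        map_smul' := fun r q => by
          rw [hφ', map_smul]
          rfl }
    have : l1' = l1 := u1 l1' (fun m => hl2' m)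
    exact LinearMap.congr_fun this q

end univ

variable (F : X.Modules)

/-- `Γ(F, U)` as an `A`-module -/
def MA (U : X.Opens) : Type u := Γ(F, U)

noncomputable instance (U : X.Opens) : AddCommGroup (MA X F U) :=
  inferInstanceAs (AddCommGroup Γ(F, U))

noncomputable instance (U : X.Opens) : Module A (MA X F U) :=
  Module.compHom Γ(F, U) (ρU X U)

theorem MA.smul_def (U : X.Opens) (a : A) (m : MA X F U) :
    a • m = ((ρU X U a : Γ(X, U)) • (show Γ(F, U) from m) : Γ(F, U)) := rfl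

/-- the module `h^* π^* F` on `X_t` -/
noncomputable abbrev ET : (XT I X).Modules :=
  (Scheme.Modules.pullback (hT I X)).obj (EB I X F)

/-- `Γ(h^*π^*F, h⁻¹π⁻¹U)` as an `A[t]`-module -/
def TT (U : X.Opens) : Type u := Γ(ET I X F, WT I X U)

noncomputable instance (U : X.Opens) : AddCommGroup (TT I X F U) :=
  inferInstanceAs (AddCommGroup Γ(ET I X F, WT I X U))

noncomputable instance (U : X.Opens) : Module A[X] (TT I X F U) :=
  Module.compHom Γ(ET I X F, WT I X U) (βT I X U)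

theorem TT.smul_def (U : X.Opens) (c : A[X]) (τ : TT I X F U) :
    c • τ = ((βT I X U c : Γ(XT I X, WT I X U)) • (show Γ(ET I X F, WT I X U) from τ) :
      Γ(ET I X F, WT I X U)) := rfl

open Groth.Agent.Helper13PullbackUnit in
/-- the canonical map `Γ(F, U) → Γ(h^*π^*F, h⁻¹π⁻¹U)` -/
noncomputable def uU (U : X.Opens) : MA X F U →+ TT I X F U :=
  (unitSec (hT I X) (EB I X F) (le_refl (WT I X U))).comp
    (unitSec (pB I X) F (le_refl (VB I X U)))

theorem αT_ρU (U : X.Opens) (a : A) : αT I X U (ρU X U a) = βT I X U (C a) := by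
  have e : (X ↘ Spec (CommRingCat.of A)).appLE ⊤ U le_top ≫
      (hT I X ≫ pB I X).appLE U (WT I X U) le_rfl =
      (qT I ≫ qB I).appLE ⊤ ⊤ le_top ≫ (fT I X).appLE ⊤ (WT I X U) le_top := by
    simp only [Scheme.Hom.appLE_comp_appLE, (isPullback_big I X).w]
  have e1 : qT I ≫ qB I = Spec.map (CommRingCat.ofHom (algebraMap A A[X])) := by
    unfold qT qB
    rw [← Spec.map_comp]
    rfl
  have e2 : Scheme.Hom.appLE (qT I ≫ qB I) ⊤ ⊤ le_top = (qT I ≫ qB I).appTop := by
    simp [Scheme.Hom.appLE, Scheme.Hom.appTop]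
  have e3 : (Scheme.ΓSpecIso (CommRingCat.of A)).inv ≫ (qT I ≫ qB I).appTop =
      CommRingCat.ofHom (algebraMap A A[X]) ≫ (Scheme.ΓSpecIso (CommRingCat.of A[X])).inv := by
    rw [e1, Scheme.ΓSpecIso_inv_naturality]
  have e4 : (Scheme.ΓSpecIso (CommRingCat.of A)).inv ≫
      (X ↘ Spec (CommRingCat.of A)).appLE ⊤ U le_top ≫
      (hT I X ≫ pB I X).appLE U (WT I X U) le_rfl =
      CommRingCat.ofHom (algebraMap A A[X]) ≫ (Scheme.ΓSpecIso (CommRingCat.of A[X])).inv ≫
        (fT I X).appLE ⊤ (WT I X U) le_top := by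
    rw [e, e2, ← Category.assoc, e3, Category.assoc]
  exact congrArg (fun t : CommRingCat.of A ⟶ Γ(XT I X, WT I X U) => t.hom a) e4

open Groth.Agent.Helper13PullbackUnit in
theorem uU_smul' (U : X.Opens) (r : Γ(X, U)) (m : Γ(F, U)) :
    uU I X F U (r • m : Γ(F, U)) =
      ((αT I X U r : Γ(XT I X, WT I X U)) • (show Γ(ET I X F, WT I X U) from uU I X F U m) :
        Γ(ET I X F, WT I X U)) := by
  have h1 := unitSec_smul (pB I X) F (le_refl (VB I X U)) r m
  have h2 := unitSec_smul (hT I X) (EB I X F) (le_refl (WT I X U))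
    ((pB I X).appLE U (VB I X U) le_rfl r) (unitSec (pB I X) F (le_refl (VB I X U)) m)
  have e : (pB I X).appLE U (VB I X U) le_rfl ≫ (hT I X).appLE (VB I X U) (WT I X U) le_rfl =
      (hT I X ≫ pB I X).appLE U (WT I X U) le_rfl := by
    rw [Scheme.Hom.appLE_comp_appLE]
  have e' : (hT I X).appLE (VB I X U) (WT I X U) le_rfl ((pB I X).appLE U (VB I X U) le_rfl r) =
      αT I X U r := congrArg (fun t : Γ(X, U) ⟶ Γ(XT I X, WT I X U) => t.hom r) e
  refine (congrArg (unitSec (hT I X) (EB I X F) (le_refl (WT I X U))) h1).trans (h2.trans ?_)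
  rw [e']
  rfl

theorem uU_smul (U : X.Opens) (a : A) (m : MA X F U) :
    uU I X F U (a • m) = algebraMap A A[X] a • uU I X F U m := by
  rw [MA.smul_def, TT.smul_def, uU_smul' I X F U (ρU X U a) m, αT_ρU]
  rfl

open Groth.Agent.Helper13FlatMV in
/-- the comparison `A[t] ⊗_A Γ(F, U) → Γ(h^*π^*F, h⁻¹π⁻¹U)` -/
noncomputable def ΘU (U : X.Opens) : TensorProduct A A[X] (MA X F U) →ₗ[A[X]] TT I X F U :=
  kap (uU I X F U) (uU_smul I X F U)


open Groth.Agent.Helper13FlatMV Groth.Agent.Helper13PullbackUnit in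
theorem ΘU_tmul (U : X.Opens) (c : A[X]) (m : MA X F U) :
    ΘU I X F U (c ⊗ₜ[A] m) = c • uU I X F U m := rfl

open Groth.Agent.Helper13FlatMV Groth.Agent.Helper13PullbackUnit in
theorem ΘU_bijective [F.IsQuasicoherent] {U : X.Opens} (hU : IsAffineOpen U) :
    Function.Bijective (ΘU I X F U) := by
  haveI : (EB I X F).IsQuasicoherent := isQuasicoherent_EB I X inferInstance
  have hV := isAffineOpen_VB I hU
  have hW := isAffineOpen_WT I hU
  have e : (pB I X).appLE U (VB I X U) le_rfl ≫ (hT I X).appLE (VB I X U) (WT I X U) le_rfl =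
      (hT I X ≫ pB I X).appLE U (WT I X U) le_rfl := by
    rw [Scheme.Hom.appLE_comp_appLE]
  have e' : ∀ r : Γ(X, U), (hT I X).appLE (VB I X U) (WT I X U) le_rfl
      ((pB I X).appLE U (VB I X U) le_rfl r) = αT I X U r := fun r =>
    congrArg (fun t : Γ(X, U) ⟶ Γ(XT I X, WT I X U) => t.hom r) e
  refine Groth.Agent.Helper13BCAlg.bijective_of_lifts (algebraMap A A[X]) (ρU X U) (αT I X U)
    (βT I X U) (isPushout_sections I X hU)
    (M := Γ(F, U)) (Q := TensorProduct A A[X] (MA X F U)) (Q' := Γ(ET I X F, WT I X U))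
    (oneTmul (R := A) (R' := A[X]) (M := MA X F U)) ?_ ?_
    (uU I X F U) (uU_smul' I X F U) ?_ (ΘU I X F U).toAddMonoidHom ?_ ?_
  · intro r m
    exact oneTmul_smul (R := A) (R' := A[X]) (M := MA X F U) r m
  · intro N _ _ l hl
    exact existsUnique_of_oneTmul (R := A) (R' := A[X]) (M := MA X F U) N l hl
  · intro N _ _ l hl
    refine existsUnique_comp ((pB I X).appLE U (VB I X U) le_rfl).hom
      ((hT I X).appLE (VB I X U) (WT I X U) le_rfl).hom
      (unitSec (pB I X) F (le_refl (VB I X U)))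
      (fun N' _ _ l' hl' => existsUnique_lift (pB I X) F hU hV (le_refl _) N' l' hl')
      (unitSec (hT I X) (EB I X F) (le_refl (WT I X U)))
      (unitSec_smul (hT I X) (EB I X F) (le_refl (WT I X U)))
      (fun N' _ _ l' hl' => existsUnique_lift (hT I X) (EB I X F) hV hW (le_refl _) N' l' hl')
      N l ?_
    intro r m
    rw [hl]
    exact congrArg (fun s => s • l m) (e' r).symm
  · intro r' q
    exact (ΘU I X F U).map_smul r' q
  · intro m
    change ΘU I X F U ((1 : A[X]) ⊗ₜ[A] (show MA X F U from m)) = _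
    rw [ΘU_tmul, one_smul]
    rfl

end Groth.Agent.Lib.T2H9.FFGeom
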