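import Groth.Agent.Lib.T2H9FBCZero
import Groth.Agent.Lib.T2H9FFGeom1
import Groth.Agent.Lib.T2H9FBCMain

/-!
# T2H9CechBC1 (helper9): base change of sections over an affine open, without flatness

For a cartesian square `X' = X ×_{Spec A} Spec A'` with projection `g' : X' ⟶ X`, a quasi-coherent
`F` on `X` and an affine open `V` of `X`: the canonical semilinear map `uV : Γ(V, F) → Γ(g'⁻¹V, g'^*F)`
induces a bijection `A' ⊗_A Γ(V, F) ≅ Γ(g'⁻¹V, g'^*F)` (`kap_uV_bijective`).
-/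

set_option autoImplicit false
set_option linter.style.haveILetI false
set_option linter.unusedSectionVars false
set_option linter.unusedVariables false
universe u
open CategoryTheory AlgebraicGeometry Opposite TopologicalSpace Limits

namespace Groth.Agent.Lib.T2H9.CechBC

open Groth.Agent.Lib.T2H9.H0Unit Groth.Agent.Helper13PullbackUnit Groth.Agent.Helper13QcqsBC
  Groth.Agent.Helper13FlatMV Groth.Agent.Lib.Helper6 Groth.Agent.Lib.T2H9.FFGeom
  Groth.Agent.Lib.T2H9.FBCZero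

variable {A A' : Type u} [CommRing A] [CommRing A'] [Algebra A A']
variable {X X' : Scheme.{u}} [X.Over (Spec (CommRingCat.of A))] [X'.Over (Spec (CommRingCat.of A'))]
variable (g' : X' ⟶ X)
variable (h : IsPullback g' (X' ↘ Spec (CommRingCat.of A')) (X ↘ Spec (CommRingCat.of A))
  (Spec.map (CommRingCat.ofHom (algebraMap A A'))))
variable (F : X.Modules) {V : X.Opens} {V' : X'.Opens} (hle : V' ≤ g' ⁻¹ᵁ V)

include h in
theorem appLE_ρU (a : A) :
    (g'.appLE V V' hle).hom (ρU X V a) = ρU X' V' (algebraMap A A' a) := by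
  let f : X ⟶ Spec (CommRingCat.of A) := X ↘ Spec (CommRingCat.of A)
  let f' : X' ⟶ Spec (CommRingCat.of A') := X' ↘ Spec (CommRingCat.of A')
  let g : Spec (CommRingCat.of A') ⟶ Spec (CommRingCat.of A) :=
    Spec.map (CommRingCat.ofHom (algebraMap A A'))
  have e : f.appLE ⊤ V le_top ≫ g'.appLE V V' hle =
      g.appLE ⊤ ⊤ le_top ≫ f'.appLE ⊤ V' le_top := by
    simp only [Scheme.Hom.appLE_comp_appLE, f, f', g, h.w]
  have h2 := Scheme.ΓSpecIso_inv_naturality (CommRingCat.ofHom (algebraMap A A'))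
  have h4 : g.appLE ⊤ ⊤ le_top = g.appTop := appLE_top_top g
  change ((Scheme.ΓSpecIso (CommRingCat.of A)).inv ≫ f.appLE ⊤ V le_top ≫
    g'.appLE V V' hle).hom a = ((CommRingCat.ofHom (algebraMap A A')) ≫
      (Scheme.ΓSpecIso (CommRingCat.of A')).inv ≫ f'.appLE ⊤ V' le_top).hom a
  rw [e, h4, ← Category.assoc, ← h2, Category.assoc]

/-- the pullback map on sections, `Γ(V, F) → Γ(V', g'^*F)` -/
noncomputable def uV : MA X F V →+ MA X' ((Scheme.Modules.pullback g').obj F) V' :=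
  unitSec g' F hle

include h in
theorem uV_smul (a : A) (m : MA X F V) :
    uV g' F hle (a • m) = algebraMap A A' a • uV g' F hle m := by
  show unitSec g' F hle ((ρU X V a : Γ(X, V)) • (show Γ(F, V) from m)) =
    ((ρU X' V' (algebraMap A A' a) : Γ(X', V')) • unitSec g' F hle m :
      Γ((Scheme.Modules.pullback g').obj F, V'))
  rw [unitSec_smul, appLE_ρU g' h hle a]

include h in
/-- **base change of sections over an affine open**: `A' ⊗_A Γ(V, F) ≅ Γ(g'⁻¹V, g'^*F)`, no flatness needed -/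
theorem kap_uV_bijective [F.IsQuasicoherent] (hV : IsAffineOpen V) (hV' : V' = g' ⁻¹ᵁ V) :
    Function.Bijective (kap (R := A) (R' := A') (uV g' F (le_of_eq hV')) (uV_smul g' h F (le_of_eq hV'))) := by
  let f : X ⟶ Spec (CommRingCat.of A) := X ↘ Spec (CommRingCat.of A)
  let f' : X' ⟶ Spec (CommRingCat.of A') := X' ↘ Spec (CommRingCat.of A')
  let g : Spec (CommRingCat.of A') ⟶ Spec (CommRingCat.of A) :=
    Spec.map (CommRingCat.ofHom (algebraMap A A'))
  have hle0 : (⊤ : (Spec (CommRingCat.of A')).Opens) ≤ g ⁻¹ᵁ ⊤ := top_le_pre g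
  have hW : V ≤ f ⁻¹ᵁ ⊤ := le_top
  letI : Algebra Γ(Spec (CommRingCat.of A), ⊤) Γ(Spec (CommRingCat.of A'), ⊤) :=
    (g.appLE ⊤ ⊤ hle0).hom.toAlgebra
  have hK : KBij f g g' f' h F hle0 V hW :=
    KBij_of_isAffineOpen f g g' f' h F hle0 (isAffineOpen_top _) (isAffineOpen_top _) hW hV
  let α : A ≃+* Γ(Spec (CommRingCat.of A), ⊤) :=
    (Scheme.ΓSpecIso (CommRingCat.of A)).symm.commRingCatIsoToRingEquiv
  let β : A' ≃+* Γ(Spec (CommRingCat.of A'), ⊤) :=
    (Scheme.ΓSpecIso (CommRingCat.of A')).symm.commRingCatIsoToRingEquiv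
  have hαβ : ∀ a : A, β (algebraMap A A' a) =
      algebraMap Γ(Spec (CommRingCat.of A), ⊤) Γ(Spec (CommRingCat.of A'), ⊤) (α a) := by
    intro a
    have h2 := Scheme.ΓSpecIso_inv_naturality (CommRingCat.ofHom (algebraMap A A'))
    have h3 : (Scheme.ΓSpecIso (CommRingCat.of A')).inv.hom (algebraMap A A' a) =
        g.appTop.hom ((Scheme.ΓSpecIso (CommRingCat.of A)).inv.hom a) :=
      congrArg (fun t => t.hom a) h2
    have h4 : g.appLE ⊤ ⊤ hle0 = g.appTop := appLE_top_top g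
    change (Scheme.ΓSpecIso (CommRingCat.of A')).inv.hom (algebraMap A A' a) =
      (g.appLE ⊤ ⊤ hle0).hom ((Scheme.ΓSpecIso (CommRingCat.of A)).inv.hom a)
    rw [h4]
    exact h3
  let G' := (Scheme.Modules.pullback g').obj F
  have hVeq : Vp g' f' ⊤ V = V' := by
    rw [hV']
    apply le_antisymm inf_le_left
    exact le_inf le_rfl (fun _ _ => trivial)
  have hVle : Vp g' f' ⊤ V ≤ V' := le_of_eq hVeq
  let ρ : Γ(G', V') ≃+ Γ(G', Vp g' f' ⊤ V) :=
    AddEquiv.ofBijective (G'.presheaf.map (homOfLE hVle).op).hom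
      (map_bijective_of_eq G' hVeq (homOfLE hVle))
  let e : MA X F V ≃+ SecR f F ⊤ V hW := AddEquiv.refl _
  let e' : MA X' G' V' ≃+ SecR f' G' ⊤ (Vp g' f' ⊤ V) inf_le_right := ρ
  refine FBCAlg.kap_bijective_of_equiv α β hαβ e ?_ e' ?_
    (uW f g' f' F hW (inf_le_left : Vp g' f' ⊤ V ≤ g' ⁻¹ᵁ V) inf_le_right)
    (uW_smul f g g' f' h F hle0 hW inf_le_left inf_le_right) (uV g' F (le_of_eq hV'))
    (uV_smul g' h F (le_of_eq hV')) ?_ hK
  · intro a m
    rfl
  · intro b q
    change res G' hVle (((ρU X' V' b : Γ(X', V')) • (show Γ(G', V') from q) : Γ(G', V'))) =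
      ((f'.appLE ⊤ (Vp g' f' ⊤ V) inf_le_right (β b) : Γ(X', Vp g' f' ⊤ V)) •
        res G' hVle q : Γ(G', Vp g' f' ⊤ V))
    rw [res_smul]
    congr 1
    change (f'.appLE ⊤ V' le_top ≫ X'.presheaf.map (homOfLE hVle).op).hom (β b) = _
    rw [Scheme.Hom.appLE_map]
  · intro m
    change res G' hVle (unitSec g' F (le_of_eq hV') m) =
      unitSec g' F (inf_le_left : Vp g' f' ⊤ V ≤ g' ⁻¹ᵁ V) m
    rw [unitSec_res g' F (le_of_eq hV') inf_le_left (le_refl V) hVle, res_self]

end Groth.Agent.Lib.T2H9.CechBC
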