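import Groth.Agent.Lib.T2H9FFMain
import Groth.Agent.Lib.Helper2FlatOver2
import Groth.Agent.Lib.T2H5HHLes2
import Groth.Agent.Lib.T2H5T2Les

/-!
# T2H9FlatFib1 (helper9): flat modules and the filtration `F ⊇ 𝔪F ⊇ 𝔪²F ⊇ …`

For `X` over `Spec A`, `F` quasi-coherent and flat over `A`, `𝔪` a maximal ideal, ideals
`J ≤ J'` with `𝔪 J' ≤ J`: `J'F/JF` has a finite filtration with quotients `F/𝔪F`
(`nonempty_iso_GJ`, `chain_induction`).  Consequences: vanishing of `H^{n+1}(X, F/𝔪F)` gives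
surjectivity of `H^n(X, F/JF) → H^n(X, F/J'F)` (`surjective_tJ`, `surjective_tL`), vanishing of
`H^n(X, F/𝔪F)` gives vanishing of `H^n(X, F/𝔪^{k+1}F)` (`subsingleton_modPow`), and the
Mittag-Leffler property turns surjective transition maps into surjectivity of
`H^p(X, F) → H^p(X, F/I^{n+1}F)` (`surjective_toHHmodPow`).
-/

set_option autoImplicit false
set_option linter.style.haveILetI false
set_option linter.unusedSectionVars false
set_option linter.unusedVariables false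
universe u
open CategoryTheory AlgebraicGeometry Limits TopologicalSpace Opposite

namespace Groth.Agent.Lib.T2H9.FlatFib

open Groth.Agent.Lib.T2H9.FFGeom

section alg

open TensorProduct in
/-- for a flat module `M`: `(J M : a) = (J : a) M` -/
theorem mem_smul_top_of_flat {A M : Type*} [CommRing A] [AddCommGroup M] [Module A M]
    [Module.Flat A M] (J 𝔪 : Ideal A) (a : A) (h1 : ∀ b ∈ 𝔪, b * a ∈ J)
    (h2 : ∀ b, b * a ∈ J → b ∈ 𝔪) (s : M) (hs : a • s ∈ (J • ⊤ : Submodule A M)) :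
    s ∈ (𝔪 • ⊤ : Submodule A M) := by
  let φ₀ : A →ₗ[A] (A ⧸ J) := (Submodule.mkQ J).comp (LinearMap.mulRight A a)
  have hφ₀ : 𝔪 ≤ LinearMap.ker φ₀ := by
    intro b hb
    rw [LinearMap.mem_ker]
    change Submodule.Quotient.mk (b * a) = 0
    rw [Submodule.Quotient.mk_eq_zero]
    exact h1 b hb
  let φ : (A ⧸ 𝔪) →ₗ[A] (A ⧸ J) := Submodule.liftQ 𝔪 φ₀ hφ₀
  have hφ : Function.Injective φ := by
    rw [← LinearMap.ker_eq_bot, Submodule.ker_liftQ_eq_bot']
    · exact le_antisymm hφ₀ (fun b hb => by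
        rw [LinearMap.mem_ker] at hb
        have hb' : (Submodule.Quotient.mk (b * a) : A ⧸ J) = 0 := hb
        rw [Submodule.Quotient.mk_eq_zero] at hb'
        exact h2 b hb')
  have hψ := Module.Flat.lTensor_preserves_injective_linearMap (M := M) φ hφ
  have e1 : (φ.lTensor M) (s ⊗ₜ[A] (Ideal.Quotient.mk 𝔪 1)) = 0 := by
    rw [LinearMap.lTensor_tmul]
    have : φ (Ideal.Quotient.mk 𝔪 1) = Ideal.Quotient.mk J (1 * a) := rfl
    rw [this]
    apply (TensorProduct.tensorQuotEquivQuotSMul M J).injective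
    rw [TensorProduct.tensorQuotEquivQuotSMul_tmul_mk, map_zero, one_mul,
      Submodule.Quotient.mk_eq_zero]
    exact hs
  have e2 : s ⊗ₜ[A] (Ideal.Quotient.mk 𝔪 1) = 0 := hψ (e1.trans (map_zero _).symm)
  have e3 := congrArg (TensorProduct.tensorQuotEquivQuotSMul M 𝔪) e2
  rw [TensorProduct.tensorQuotEquivQuotSMul_tmul_mk, map_zero, one_smul,
    Submodule.Quotient.mk_eq_zero] at e3
  exact e3

end alg

variable {A : Type u} [CommRing A]
variable (X : Scheme.{u}) [X.Over (Spec (CommRingCat.of A))] (F : X.Modules)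

theorem flat_MA [F.IsQuasicoherent] (hfl : FlatMod.IsFlatOver (X ↘ Spec (CommRingCat.of A)) F)
    {U : X.Opens} (hU : IsAffineOpen U) : Module.Flat A (MA X F U) := by
  have h1 := (Groth.Agent.Lib.Helper2.FlatOver.isFlatOver_iff_forall_affine
    (X ↘ Spec (CommRingCat.of A)) F).1 hfl U ⊤ le_top hU (isAffineOpen_top _)
  letI : Module Γ(Spec (CommRingCat.of A), ⊤) Γ(F, U) :=
    Module.compHom Γ(F, U) ((X ↘ Spec (CommRingCat.of A)).appLE ⊤ U le_top).hom
  haveI : Module.Flat Γ(Spec (CommRingCat.of A), ⊤) Γ(F, U) := h1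
  let σ : Γ(Spec (CommRingCat.of A), ⊤) ≃+* A :=
    (Scheme.ΓSpecIso (CommRingCat.of A)).commRingCatIsoToRingEquiv
  let e : Γ(F, U) ≃+ MA X F U := AddEquiv.refl _
  refine Groth.Agent.Lib.Helper2.FlatOver.flat_of_semilinear_equiv σ e ?_
  intro r m
  change ((X ↘ Spec (CommRingCat.of A)).appLE ⊤ U le_top).hom r • m =
    (ρU X U (σ r) : Γ(X, U)) • m
  congr 1
  unfold ρU
  change _ = ((X ↘ Spec (CommRingCat.of A)).appLE ⊤ U le_top).hom
    ((Scheme.ΓSpecIso (CommRingCat.of A)).inv.hom ((Scheme.ΓSpecIso (CommRingCat.of A)).hom.hom r))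
  congr 1
  exact (congrArg (fun t => t.hom r) (Scheme.ΓSpecIso (CommRingCat.of A)).hom_inv_id).symm

section gen

variable (𝔪 : Ideal A) {G : X.Modules} (μ : F ⟶ G) (h0 : Formal.smulFamily 𝔪 F ≫ μ = 0)

include h0 in
theorem pwJι_comp_of : pwJι X F 𝔪 ≫ μ = 0 := by
  rw [← cancel_epi (pwJe X F 𝔪), ← Category.assoc, pwJe_ι, Limits.comp_zero]
  exact h0

/-- `𝔪 F → ker μ` for a map `μ` killing `𝔪 F` -/
noncomputable def lamG : pwJ X F 𝔪 ⟶ kernel μ :=
  kernel.lift _ (pwJι X F 𝔪) (pwJι_comp_of X F 𝔪 μ h0)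

theorem lamG_ι : lamG X F 𝔪 μ h0 ≫ kernel.ι _ = pwJι X F 𝔪 := kernel.lift_ι _ _ _

instance : Mono (lamG X F 𝔪 μ h0) := by
  haveI : Mono (lamG X F 𝔪 μ h0 ≫ kernel.ι _) := by rw [lamG_ι]; infer_instance
  exact mono_of_mono _ (kernel.ι _)

/-- if `μ : F → G` is epi, kills `𝔪 F` and `𝔪 F → ker μ` is epi, then `F/𝔪F ≅ G` -/
noncomputable def cokIso [Epi μ] [Epi (lamG X F 𝔪 μ h0)] :
    cokernel (Formal.smulFamily 𝔪 F) ≅ G := by
  have hc : kernel.ι μ ≫ cokernel.π (Formal.smulFamily 𝔪 F) = 0 := by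
    rw [← cancel_epi (lamG X F 𝔪 μ h0), ← Category.assoc, lamG_ι, Limits.comp_zero]
    exact kernel.condition _
  let hcok := Abelian.epiIsCokernelOfKernel _ (kernelIsKernel μ)
  let φ : G ⟶ cokernel (Formal.smulFamily 𝔪 F) :=
    hcok.desc (CokernelCofork.ofπ (cokernel.π (Formal.smulFamily 𝔪 F)) hc)
  have hφ : μ ≫ φ = cokernel.π (Formal.smulFamily 𝔪 F) :=
    hcok.fac (CokernelCofork.ofπ (cokernel.π (Formal.smulFamily 𝔪 F)) hc) WalkingParallelPair.one
  refine ⟨cokernel.desc _ μ h0, φ, ?_, ?_⟩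
  · rw [← cancel_epi (cokernel.π (Formal.smulFamily 𝔪 F)), ← Category.assoc, cokernel.π_desc, hφ,
      Category.comp_id]
  · rw [← cancel_epi μ, ← Category.assoc, hφ, cokernel.π_desc, Category.comp_id]

theorem π_cokIso_hom [Epi μ] [Epi (lamG X F 𝔪 μ h0)] :
    cokernel.π (Formal.smulFamily 𝔪 F) ≫ (cokIso X F 𝔪 μ h0).hom = μ :=
  cokernel.π_desc _ _ _

end gen

section step

variable (J J' : Ideal A) (a : A) (hle : J ≤ J') (ha : a ∈ J')

/-- multiplication by `a ∈ J'` as a map `F → J' F` -/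
noncomputable def μa : F ⟶ pwJ X F J' :=
  kernel.lift _ (Formal.smulMod A F a) (smulMod_comp_cokernel X F J' a ha)

theorem μa_ι : μa X F J' a ha ≫ pwJι X F J' = Formal.smulMod A F a := kernel.lift_ι _ _ _

/-- `J' F / J F` -/
noncomputable abbrev GJ : X.Modules := cokernel (pwJle X F hle)

/-- `F → J'F / JF`, multiplication by `a` -/
noncomputable def μbar : F ⟶ GJ X F J J' hle := μa X F J' a ha ≫ cokernel.π (pwJle X F hle)

theorem smulMod_μa (c : A) (hc : c * a ∈ J) :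
    Formal.smulMod A F c ≫ μa X F J' a ha = μa X F J (c * a) hc ≫ pwJle X F hle := by
  rw [← cancel_mono (pwJι X F J'), Category.assoc, Category.assoc, μa_ι, pwJle_ι, μa_ι,
    mul_comm, Groth.Agent.Lib.T2H9.ModPow.smulMod_mul]

theorem ι_pwJe (j : J') :
    Sigma.ι (fun _ : J' => F) j ≫ pwJe X F J' = μa X F J' j.1 j.2 := by
  rw [← cancel_mono (pwJι X F J'), Category.assoc, pwJe_ι, μa_ι]
  simp [Formal.smulFamily]

theorem μa_add (b c : A) (hb : b ∈ J') (hc : c ∈ J') :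
    μa X F J' (b + c) (J'.add_mem hb hc) = μa X F J' b hb + μa X F J' c hc := by
  rw [← cancel_mono (pwJι X F J'), Preadditive.add_comp, μa_ι, μa_ι, μa_ι, smulMod_add]

include hle in
theorem epi_μbar (hJ' : J' = J ⊔ Ideal.span {a}) : Epi (μbar X F J J' a hle ha) := by
  refine Preadditive.epi_of_cancel_zero _ (fun {T} k hk => ?_)
  rw [← cancel_epi (cokernel.π (pwJle X F hle)), Limits.comp_zero]
  rw [← cancel_epi (pwJe X F J'), Limits.comp_zero]
  apply Sigma.hom_ext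
  intro j
  rw [Limits.comp_zero, ← Category.assoc, ι_pwJe]
  have hj : (j : A) ∈ J ⊔ Ideal.span {a} := hJ' ▸ j.2
  obtain ⟨j₀, hj₀, z, hz, hjz⟩ := Submodule.mem_sup.mp hj
  obtain ⟨c, rfl⟩ := Ideal.mem_span_singleton'.mp hz
  have e : μa X F J' j.1 j.2 =
      μa X F J j₀ hj₀ ≫ pwJle X F hle + Formal.smulMod A F c ≫ μa X F J' a ha := by
    rw [← cancel_mono (pwJι X F J'), Preadditive.add_comp, Category.assoc, Category.assoc,
      pwJle_ι, μa_ι, μa_ι, μa_ι, ← hjz, smulMod_add, mul_comm c a,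
      Groth.Agent.Lib.T2H9.ModPow.smulMod_mul]
  rw [e, Preadditive.add_comp, Category.assoc, Category.assoc]
  have h1 : pwJle X F hle ≫ cokernel.π (pwJle X F hle) ≫ k = 0 := by
    rw [← Category.assoc, cokernel.condition, Limits.zero_comp]
  have h2 : μa X F J' a ha ≫ cokernel.π (pwJle X F hle) ≫ k = 0 := by
    rw [← Category.assoc]; exact hk
  rw [h1, h2, Limits.comp_zero, Limits.comp_zero, add_zero]

section ker

variable (𝔪 : Ideal A) (h𝔪 : ∀ b ∈ 𝔪, b * a ∈ J)

include h𝔪 in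
theorem smulFamily_μbar :
    Formal.smulFamily 𝔪 F ≫ μbar X F J J' a hle ha = 0 := by
  rw [Groth.Agent.S9530.smulFamily_comp_eq_zero_iff]
  intro b hb
  unfold μbar
  rw [← Category.assoc, smulMod_μa X F J J' a hle ha b (h𝔪 b hb), Category.assoc,
    cokernel.condition, Limits.comp_zero]

include h𝔪 in
theorem pwJι_μbar : pwJι X F 𝔪 ≫ μbar X F J J' a hle ha = 0 := by
  rw [← cancel_epi (pwJe X F 𝔪), ← Category.assoc, pwJe_ι, Limits.comp_zero]
  exact smulFamily_μbar X F J J' a hle ha 𝔪 h𝔪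

/-- `𝔪 F → ker (F → J'F/JF)` -/
noncomputable def lam : pwJ X F 𝔪 ⟶ kernel (μbar X F J J' a hle ha) :=
  kernel.lift _ (pwJι X F 𝔪) (pwJι_μbar X F J J' a hle ha 𝔪 h𝔪)

theorem lam_ι : lam X F J J' a hle ha 𝔪 h𝔪 ≫ kernel.ι _ = pwJι X F 𝔪 := kernel.lift_ι _ _ _

instance : Mono (lam X F J J' a hle ha 𝔪 h𝔪) := by
  haveI : Mono (lam X F J J' a hle ha 𝔪 h𝔪 ≫ kernel.ι _) := by rw [lam_ι]; infer_instance
  exact mono_of_mono _ (kernel.ι _)

/-- the comparison `J'F/JF → F/JF` -/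
noncomputable def εJ : GJ X F J J' hle ⟶ cokernel (Formal.smulFamily J F) :=
  cokernel.desc _ (pwJι X F J' ≫ cokernel.π (Formal.smulFamily J F)) (by
    rw [← Category.assoc, pwJle_ι]
    exact kernel.condition _)

theorem μbar_εJ : μbar X F J J' a hle ha ≫ εJ X F J J' hle =
    Formal.smulMod A F a ≫ cokernel.π (Formal.smulFamily J F) := by
  unfold μbar εJ
  rw [Category.assoc, cokernel.π_desc, ← Category.assoc, μa_ι]

variable [F.IsQuasicoherent]

theorem isQuasicoherent_GJ : (GJ X F J J' hle).IsQuasicoherent := by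
  haveI := isQuasicoherent_pwJ X F J
  haveI := isQuasicoherent_pwJ X F J'
  exact Groth.Agent.Lib.Helper23.QCohLocal.isQuasicoherent_cokernel _

include h𝔪 in
theorem epi_lam {r : ℕ} (g : Fin r → A) (hg : Ideal.span (Set.range g) = J)
    (hH : ∀ (U : X.Opens), IsAffineOpen U → ∀ s : MA X F U,
      a • s ∈ (J • ⊤ : Submodule A (MA X F U)) → s ∈ (𝔪 • ⊤ : Submodule A (MA X F U))) :
    Epi (lam X F J J' a hle ha 𝔪 h𝔪) := by
  haveI := isQuasicoherent_pwJ X F 𝔪
  haveI := isQuasicoherent_GJ X F J J' hle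
  haveI : (kernel (μbar X F J J' a hle ha)).IsQuasicoherent :=
    Groth.Agent.Lib.Helper23.QCohLocal.isQuasicoherent_kernel _
  apply Groth.Agent.Lib.T2H5.IdealMul.epi_of_surjective_app
  intro U t
  let s : Γ(F, U.1) := (kernel.ι (μbar X F J J' a hle ha)).app U.1 t
  have h1 : (μbar X F J J' a hle ha).app U.1 s = 0 := by
    have := kernel.condition (μbar X F J J' a hle ha)
    have h2 : (kernel.ι (μbar X F J J' a hle ha) ≫ μbar X F J J' a hle ha).app U.1 t = 0 := by
      rw [this]; rfl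
    exact h2
  have h3 : (cokernel.π (Formal.smulFamily J F)).app U.1 ((Formal.smulMod A F a).app U.1 s) = 0 := by
    have := μbar_εJ X F J J' a hle ha
    have h4 : (μbar X F J J' a hle ha ≫ εJ X F J J' hle).app U.1 s = 0 := by
      change (εJ X F J J' hle).app U.1 ((μbar X F J J' a hle ha).app U.1 s) = 0
      rw [h1, map_zero]
    rw [this] at h4
    exact h4
  obtain ⟨x, hx⟩ := Groth.Agent.Lib.T2H5.IdealMul.exists_kernel_app_eq _ U.1 _ h3
  have h5 := pwJι_app_mem X F g J hg U.2 x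
  have h6 : (pwJι X F J).app U.1 x = (Formal.smulMod A F a).app U.1 s := hx
  have h7 : a • (show MA X F U.1 from s) ∈ (J • ⊤ : Submodule A (MA X F U.1)) := by
    have : (show MA X F U.1 from (pwJι X F J).app U.1 x) = a • (show MA X F U.1 from s) := h6
    rw [← this]; exact h5
  obtain ⟨t', ht'⟩ := mem_range_pwJι_of_mem X F 𝔪 U.1 s (hH U.1 U.2 s h7)
  refine ⟨t', ?_⟩
  apply Groth.Agent.Lib.Helper20.StalkExact.injective_app_of_mono
    (kernel.ι (μbar X F J J' a hle ha)) U.1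
  have h8 : (lam X F J J' a hle ha 𝔪 h𝔪 ≫ kernel.ι _).app U.1 t' = s := by
    rw [lam_ι]; exact ht'
  exact h8

end ker

end step

section ses

variable (J J' : Ideal A) (hle : J ≤ J')

instance mono_pwJle : Mono (pwJle X F hle) := by
  haveI : Mono (pwJle X F hle ≫ pwJι X F J') := by rw [pwJle_ι]; infer_instance
  exact mono_of_mono _ (pwJι X F J')

/-- the transition `F/JF → F/J'F` for `J ≤ J'` -/
noncomputable def tJ : cokernel (Formal.smulFamily J F) ⟶ cokernel (Formal.smulFamily J' F) :=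
  cokernel.desc _ (cokernel.π (Formal.smulFamily J' F)) (Formal.smulFamily_π_of_le hle F)

theorem π_tJ : cokernel.π (Formal.smulFamily J F) ≫ tJ X F J J' hle =
    cokernel.π (Formal.smulFamily J' F) := cokernel.π_desc _ _ _

theorem tJ_comp (J'' : Ideal A) (hle' : J' ≤ J'') :
    tJ X F J J' hle ≫ tJ X F J' J'' hle' = tJ X F J J'' (hle.trans hle') := by
  rw [← cancel_epi (cokernel.π (Formal.smulFamily J F)), ← Category.assoc, π_tJ, π_tJ, π_tJ]

theorem tJ_self : tJ X F J J le_rfl = 𝟙 _ := by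
  rw [← cancel_epi (cokernel.π (Formal.smulFamily J F)), π_tJ, Category.comp_id]

theorem pwJι_π (J : Ideal A) : pwJι X F J ≫ cokernel.π (Formal.smulFamily J F) = 0 :=
  kernel.condition _

/-- `F → F/JF` is the cokernel of `JF → F` -/
noncomputable def isColimitπ (J : Ideal A) :
    IsColimit (CokernelCofork.ofπ (cokernel.π (Formal.smulFamily J F)) (pwJι_π X F J)) :=
  Abelian.epiIsCokernelOfKernel
    (KernelFork.ofι (kernel.ι (cokernel.π (Formal.smulFamily J F))) (kernel.condition _))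
    (kernelIsKernel (cokernel.π (Formal.smulFamily J F)))

theorem shortExact_GJ : Mono (εJ X F J J' hle) ∧
    ∃ w : εJ X F J J' hle ≫ tJ X F J J' hle = 0,
      (ShortComplex.mk (εJ X F J J' hle) (tJ X F J J' hle) w).ShortExact :=
  Groth.Agent.Lib.T2H9.CokPow.shortExact_cokernel_comp (pwJle X F hle) (pwJι X F J')
    (pwJι X F J) (pwJle_ι X F hle) (cokernel.π (pwJle X F hle))
    (cokernel.π (Formal.smulFamily J' F)) (cokernel.π (Formal.smulFamily J F))
    (cokernel.condition _) (pwJι_π X F J') (pwJι_π X F J)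
    (cokernelIsCokernel _) (isColimitπ X F J') (isColimitπ X F J)
    (εJ X F J J' hle) (tJ X F J J' hle) (cokernel.π_desc _ _ _) (π_tJ X F J J' hle)

end ses

section coh

variable (J J' : Ideal A) (a : A) (hle : J ≤ J') (ha : a ∈ J') (𝔪 : Ideal A)

include ha in
/-- the key one-step isomorphism `F/𝔪F ≅ J'F/JF` for `J' = J + (a)`, `(J : a) = 𝔪`, `F` flat -/
theorem nonempty_iso_GJ [F.IsQuasicoherent]
    (hfl : FlatMod.IsFlatOver (X ↘ Spec (CommRingCat.of A)) F) {r : ℕ} (g : Fin r → A)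
    (hg : Ideal.span (Set.range g) = J) (hJ' : J' = J ⊔ Ideal.span {a})
    (h1 : ∀ b ∈ 𝔪, b * a ∈ J) (h2 : ∀ b, b * a ∈ J → b ∈ 𝔪) :
    Nonempty (cokernel (Formal.smulFamily 𝔪 F) ≅ GJ X F J J' hle) := by
  haveI : Epi (μbar X F J J' a hle ha) := epi_μbar X F J J' a hle ha hJ'
  haveI : Epi (lamG X F 𝔪 (μbar X F J J' a hle ha) (smulFamily_μbar X F J J' a hle ha 𝔪 h1)) :=
    epi_lam X F J J' a hle ha 𝔪 h1 g hg (fun U hU s hs => by
      haveI := flat_MA X F hfl hU
      exact mem_smul_top_of_flat J 𝔪 a h1 h2 s hs)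
  exact ⟨cokIso X F 𝔪 (μbar X F J J' a hle ha) (smulFamily_μbar X F J J' a hle ha 𝔪 h1)⟩

theorem surjective_tJ_of_subsingleton (n : ℕ)
    (h : Subsingleton (Coh.HH X (GJ X F J J' hle) (n + 1))) :
    Function.Surjective (Canon.HHlin A (tJ X F J J' hle) n) := by
  obtain ⟨_, w, hS⟩ := shortExact_GJ X F J J' hle
  intro y
  have h2 : Groth.Agent.Lib.T2H5.HHLes.δLin (A := A) _ hS n y = 0 := Subsingleton.elim _ _
  have h3 : y ∈ LinearMap.range (Canon.HHlin A (tJ X F J J' hle) n) := by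
    rw [← Groth.Agent.Lib.T2H5.HHLes.exact₃ (A := A) _ hS n]
    exact h2
  exact h3

theorem subsingleton_of_subsingleton (n : ℕ)
    (h : Subsingleton (Coh.HH X (GJ X F J J' hle) n))
    (h' : Subsingleton (Coh.HH X (cokernel (Formal.smulFamily J' F)) n)) :
    Subsingleton (Coh.HH X (cokernel (Formal.smulFamily J F)) n) := by
  obtain ⟨_, w, hS⟩ := shortExact_GJ X F J J' hle
  refine ⟨fun x y => ?_⟩
  have key : ∀ z : Coh.HH X (cokernel (Formal.smulFamily J F)) n, z = 0 := by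
    intro z
    have h1 : z ∈ LinearMap.ker (Canon.HHlin A (tJ X F J J' hle) n) := Subsingleton.elim _ _
    have h2 := Groth.Agent.Lib.T2H5.T2Les.exact₂ (A := A) _ hS n
    change LinearMap.ker (Canon.HHlin A (tJ X F J J' hle) n) = _ at h2
    rw [h2] at h1
    obtain ⟨t, ht⟩ := h1
    rw [← ht, Subsingleton.elim t 0, map_zero]
  rw [key x, key y]

end coh

section chain

variable [IsNoetherianRing A] [F.IsQuasicoherent]
  (hfl : FlatMod.IsFlatOver (X ↘ Spec (CommRingCat.of A)) F) (𝔪 : Ideal A) [h𝔪 : 𝔪.IsMaximal]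

include hfl h𝔪 in
theorem nonempty_iso_GJ_of_notMem (J J' : Ideal A) (a : A) (hle : J ≤ J')
    (hJ' : J' = J ⊔ Ideal.span {a}) (h1 : ∀ b ∈ 𝔪, b * a ∈ J) (hna : a ∉ J) :
    Nonempty (cokernel (Formal.smulFamily 𝔪 F) ≅ GJ X F J J' hle) := by
  have ha : a ∈ J' := by
    rw [hJ']
    exact Ideal.mem_sup_right (Ideal.subset_span rfl)
  obtain ⟨r, g, hg⟩ := (Submodule.fg_iff_exists_fin_generating_family).1
    ((isNoetherianRing_iff_ideal_fg A).1 inferInstance J)
  refine nonempty_iso_GJ X F J J' a hle ha 𝔪 hfl g hg hJ' h1 (fun b hb => ?_)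
  by_contra hb𝔪
  obtain ⟨y, i, hi, hyi⟩ := h𝔪.exists_inv hb𝔪
  apply hna
  have : a = y * (b * a) + i * a := by
    rw [← mul_assoc, ← add_mul, hyi, one_mul]
  rw [this]
  exact J.add_mem (J.mul_mem_left _ hb) (h1 i hi)

include hfl h𝔪 in
theorem chain_induction (P : ∀ J J' : Ideal A, J ≤ J' → Prop)
    (hrefl : ∀ J, P J J le_rfl)
    (hcomp : ∀ (J J₁ J' : Ideal A) (h : J ≤ J₁) (h' : J₁ ≤ J'),
      P J J₁ h → P J₁ J' h' → P J J' (h.trans h'))
    (hstep : ∀ (J J' : Ideal A) (hle : J ≤ J'),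
      Nonempty (cokernel (Formal.smulFamily 𝔪 F) ≅ GJ X F J J' hle) → P J J' hle)
    (J J' : Ideal A) (hle : J ≤ J') (hm : 𝔪 * J' ≤ J) : P J J' hle := by
  classical
  have key : ∀ s : Finset A, (∀ x ∈ s, ∀ b ∈ 𝔪, b * x ∈ J) →
      ∀ (J' : Ideal A) (hle : J ≤ J'), J' = J ⊔ Ideal.span (s : Set A) → P J J' hle := by
    intro s
    induction s using Finset.induction_on with
    | empty =>
      intro _ J' hle hJ'
      have : J' = J := by rw [hJ']; simp
      subst this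
      exact hrefl _
    | insert a s has ih =>
      intro hs J' hle hJ'
      have hs' : ∀ x ∈ s, ∀ b ∈ 𝔪, b * x ∈ J := fun x hx => hs x (Finset.mem_insert_of_mem hx)
      have hle₁ : J ≤ J ⊔ Ideal.span (s : Set A) := le_sup_left
      have h01 := ih hs' (J ⊔ Ideal.span (s : Set A)) hle₁ rfl
      have hJ'' : J' = (J ⊔ Ideal.span (s : Set A)) ⊔ Ideal.span {a} := by
        rw [hJ', Finset.coe_insert, Ideal.span_insert, sup_assoc, sup_comm (Ideal.span {a})]
      by_cases haJ : a ∈ J ⊔ Ideal.span (s : Set A)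
      · have : J' = J ⊔ Ideal.span (s : Set A) := by
          rw [hJ'']
          apply le_antisymm
          · exact sup_le le_rfl ((Ideal.span_singleton_le_iff_mem _).2 haJ)
          · exact le_sup_left
        subst this
        exact h01
      · have hle₂ : J ⊔ Ideal.span (s : Set A) ≤ J' := by rw [hJ'']; exact le_sup_left
        have h12 : P (J ⊔ Ideal.span (s : Set A)) J' hle₂ := by
          apply hstep
          exact nonempty_iso_GJ_of_notMem X F hfl 𝔪 _ J' a hle₂ hJ''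
            (fun b hb => hle₁ (hs a (Finset.mem_insert_self a s) b hb)) haJ
        exact hcomp _ _ _ hle₁ hle₂ h01 h12
  obtain ⟨s, hs⟩ := (isNoetherianRing_iff_ideal_fg A).1 inferInstance J'
  refine key s (fun x hx b hb => hm (Ideal.mul_mem_mul hb ?_)) J' hle ?_
  · rw [← hs]; exact Ideal.subset_span hx
  · rw [hs]; exact (sup_eq_right.2 hle).symm

end chain

section apps

variable [IsNoetherianRing A] [F.IsQuasicoherent]
  (hfl : FlatMod.IsFlatOver (X ↘ Spec (CommRingCat.of A)) F) (𝔪 : Ideal A) [h𝔪 : 𝔪.IsMaximal]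

theorem HHlin_id (M : X.Modules) (n : ℕ) (x : Coh.HH X M n) : Canon.HHlin A (𝟙 M) n x = x := by
  have e : (SheafOfModules.toSheaf X.ringCatSheaf).map (𝟙 M) = 𝟙 _ :=
    CategoryTheory.Functor.map_id _ _
  exact (congrArg (fun t => Sheaf.H.map t n x) e).trans (Sheaf.H.map_id_apply _)

theorem HHlin_comp {M N P : X.Modules} (φ : M ⟶ N) (ψ : N ⟶ P) (n : ℕ) (x : Coh.HH X M n) :
    Canon.HHlin A (φ ≫ ψ) n x = Canon.HHlin A ψ n (Canon.HHlin A φ n x) :=
  (Formal.HHmap_comp φ ψ n x).symm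

include hfl h𝔪 in
/-- if `H^{n+1}(X, F/𝔪F) = 0` then `H^n(X, F/JF) → H^n(X, F/J'F)` is surjective for
`J ≤ J'`, `𝔪 J' ≤ J` -/
theorem surjective_tJ (n : ℕ)
    (hvan : Subsingleton (Coh.HH X (cokernel (Formal.smulFamily 𝔪 F)) (n + 1)))
    (J J' : Ideal A) (hle : J ≤ J') (hm : 𝔪 * J' ≤ J) :
    Function.Surjective (Canon.HHlin A (tJ X F J J' hle) n) := by
  refine chain_induction X F hfl 𝔪
    (fun J J' hle => Function.Surjective (Canon.HHlin A (tJ X F J J' hle) n)) ?_ ?_ ?_ J J' hle hm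
  · intro J x
    refine ⟨x, ?_⟩
    rw [tJ_self]
    exact HHlin_id X _ n x
  · intro J J₁ J' h h' s1 s2 x
    obtain ⟨y, hy⟩ := s2 x
    obtain ⟨z, hz⟩ := s1 y
    refine ⟨z, ?_⟩
    rw [← tJ_comp X F J J₁ h J' h', HHlin_comp, hz, hy]
  · intro J J' hle ⟨e⟩
    exact surjective_tJ_of_subsingleton X F J J' hle n
      (Groth.Agent.Lib.T2H5.PnStruct.subsingleton_HH_of_iso e (n + 1) hvan)

include hfl h𝔪 in
/-- if `H^n(X, F/𝔪F) = 0` then `H^n(X, F/J'F) = 0 → H^n(X, F/JF) = 0` for `J ≤ J'`, `𝔪 J' ≤ J` -/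
theorem subsingleton_Q (n : ℕ)
    (hvan : Subsingleton (Coh.HH X (cokernel (Formal.smulFamily 𝔪 F)) n))
    (J J' : Ideal A) (hle : J ≤ J') (hm : 𝔪 * J' ≤ J)
    (h' : Subsingleton (Coh.HH X (cokernel (Formal.smulFamily J' F)) n)) :
    Subsingleton (Coh.HH X (cokernel (Formal.smulFamily J F)) n) := by
  refine chain_induction X F hfl 𝔪
    (fun J J' hle => Subsingleton (Coh.HH X (cokernel (Formal.smulFamily J' F)) n) →
      Subsingleton (Coh.HH X (cokernel (Formal.smulFamily J F)) n)) ?_ ?_ ?_ J J' hle hm h'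
  · intro J h
    exact h
  · intro J J₁ J' h h' s1 s2 hs
    exact s1 (s2 hs)
  · intro J J' hle ⟨e⟩ hs
    exact subsingleton_of_subsingleton X F J J' hle n
      (Groth.Agent.Lib.T2H5.PnStruct.subsingleton_HH_of_iso e n hvan) hs

include hfl h𝔪 in
theorem subsingleton_modPow (n : ℕ)
    (hvan : Subsingleton (Coh.HH X (cokernel (Formal.smulFamily 𝔪 F)) n)) (k : ℕ) :
    Subsingleton (Coh.HH X (Formal.modPow 𝔪 (k + 1) F) n) := by
  induction k with
  | zero =>
    have aux : ∀ J : Ideal A, J = 𝔪 →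
        Subsingleton (Coh.HH X (cokernel (Formal.smulFamily J F)) n) := by
      intro J hJ
      subst hJ
      exact hvan
    exact aux _ (by rw [zero_add, pow_one])
  | succ k ih =>
    exact subsingleton_Q X F hfl 𝔪 n hvan (𝔪 ^ (k + 1 + 1)) (𝔪 ^ (k + 1))
      (Ideal.pow_le_pow_right (Nat.le_succ _)) (by rw [← pow_succ']) ih

include hfl h𝔪 in
theorem surjective_tL (n : ℕ)
    (hvan : Subsingleton (Coh.HH X (cokernel (Formal.smulFamily 𝔪 F)) (n + 1))) (k : ℕ) :
    Function.Surjective (Groth.Agent.Lib.T2H9.FFMain.tL 𝔪 F n k) :=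
  surjective_tJ X F hfl 𝔪 n hvan (𝔪 ^ (k + 1 + 1)) (𝔪 ^ (k + 1))
    (Ideal.pow_le_pow_right (Nat.le_succ _)) (by rw [← pow_succ'])

end apps

section ml

open Groth.Agent.Lib.T2H9.FFMain

variable [IsNoetherianRing A] [IsProper (X ↘ Spec (CommRingCat.of A))] (I : Ideal A)

theorem surjective_cmap (p : ℕ) (hs : ∀ k, Function.Surjective (tL I F p k)) {n k : ℕ}
    (h : n ≤ k) :
    Function.Surjective (Sheaf.H.map ((SheafOfModules.toSheaf X.ringCatSheaf).map
      (cmap I F h)) p) := by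
  induction k, h using Nat.le_induction with
  | base =>
    intro y
    refine ⟨y, ?_⟩
    refine (HHmap_congr X (cmap_refl I F n) p y).trans ?_
    exact HHlin_id (A := A) X _ p y
  | succ k hk ih =>
    intro y
    obtain ⟨z, hz⟩ := ih y
    obtain ⟨w, hw⟩ := hs k z
    refine ⟨w, ?_⟩
    refine (HHmap_congr X (cmap_trans I F hk (Nat.le_succ k)) p w).trans ?_
    refine (Formal.HHmap_comp _ _ p w).symm.trans ?_
    have e : Sheaf.H.map ((SheafOfModules.toSheaf X.ringCatSheaf).map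
        (cmap I F (Nat.le_succ k))) p w = z :=
      (HHmap_congr X (cmap_succ I F k) p w).trans hw
    exact (congrArg _ e).trans hz

/-- if all the transition maps `H^p(F/I^{k+2}F) → H^p(F/I^{k+1}F)` are surjective then so are
the maps `H^p(F) → H^p(F/I^{n+1}F)` (by the Mittag-Leffler property) -/
theorem surjective_toHHmodPow (hF : Coh.IsCoh F) (p : ℕ)
    (hs : ∀ k, Function.Surjective (tL I F p k)) (n : ℕ) :
    Function.Surjective (Formal.toHHmodPow I F p n) := by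
  obtain ⟨c, hc⟩ := mittag_leffler I F hF p
  have h1 := hc n (n + c) (Nat.le_add_right n c) le_rfl
  have h2 : Set.range (Formal.toHHmodPow I F p n) = Set.univ :=
    h1.symm.trans (Set.range_eq_univ.2 (surjective_cmap X F I p hs (Nat.le_add_right n c)))
  exact Set.range_eq_univ.1 h2

end ml

end Groth.Agent.Lib.T2H9.FlatFib
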