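import Groth.Agent.Lib.T2H9TFunGeo1
import Groth.Agent.Lib.T2H9EW1
import Groth.Agent.Lib.T2H6ParShF
import Groth.Agent.Lib.Helper20FormalPull
import Groth.Agent.Lib.T2H9FlatFib1
import Groth.Agent.Lib.Helper23PB

/-!
# T2H9TFunGeo2 (helper9): `A`-linearity of `M ↦ f^*(M~) ⊗ F`

* `tilde_map_smul`, `tensorAFunctor_map_smul`: `tensorAFunctor A F` sends `a • 𝟙 M` to
  multiplication by `a` (`Formal.smulMod`), i.e. the functorial and the geometric `A`-actions agree.
* `tensorAFunctorUnitIso : f^*(A~) ⊗ F ≅ F`, `secUnitEquiv` (on sections, `A`-linear).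
* `flatA_sec`, `ewBij_sec`: for `V` affine (and `F` quasi-coherent, flat over `A` for the first) the
  functor `M ↦ Γ(V, f^*(M~) ⊗ F)` has flat value at `A` and bijective Eilenberg–Watts comparison.
-/

set_option autoImplicit false
set_option linter.style.haveILetI false
universe u
open CategoryTheory CategoryTheory.Limits AlgebraicGeometry Opposite TopologicalSpace

namespace Groth.Agent.Lib.T2H9.TFunGeo

open Groth.Agent.Lib.Helper1.PT Groth.Agent.Lib.Helper1.StalkTensor Groth.Agent.Lib.Helper21.ModTensor2 Groth.Agent.Lib.Helper21.ModTensor3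
  Groth.Agent.Lib.Helper21.ModTensor7 Groth.Agent.Lib.Helper23.TildeTensor

section tilde
variable (R : CommRingCat.{u})

/-- on `Spec R`, global sections of multiplication by (the image of) `a` is multiplication by `a` -/
theorem Γ_map_smulModΓ (G : (Spec (.of R)).Modules) (a : R) :
    (moduleSpecΓFunctor (R := R)).map (Formal.smulModΓ G (rsec R a)) = a • 𝟙 _ := by
  ext x
  change (show (toPM G).obj (op ⊤) from
    ((Spec R).presheaf.map (⊤ : (Spec R).Opens).leTop.op).hom (rsec R a) •
      (show (toPM G).obj (op ⊤) from x)) = a • x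
  rw [map_leTop, Γ_smul]

theorem tilde_map_smul (M : ModuleCat.{u} R) (a : R) :
    (tilde.functor R).map (a • 𝟙 M) = Formal.smulModΓ ((tilde.functor R).obj M) (rsec R a) := by
  apply ((tadj R).homEquiv _ _).injective
  rw [Adjunction.homEquiv_unit, Adjunction.homEquiv_unit, Γ_map_smulModΓ]
  have h1 := (tadj R).unit.naturality (a • 𝟙 M)
  rw [Linear.comp_smul]
  erw [Category.comp_id]
  refine h1.symm.trans ?_
  rw [Functor.id_map, Linear.smul_comp]
  erw [Category.id_comp]

end tilde

variable (A : Type u) [CommRing A] {X : Scheme.{u}} [X.Over (Spec (CommRingCat.of A))]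
  (F : X.Modules)

/-- **the functorial action of `A` on `f^*(M~) ⊗ F` is the geometric one** -/
theorem tensorAFunctor_map_smul (M : ModuleCat.{u} A) (a : A) :
    (CohIII.tensorAFunctor A F).map (a • 𝟙 M) =
      Formal.smulMod A ((CohIII.tensorAFunctor A F).obj M) a := by
  change (DCoh.tensorRightMod F).map ((Scheme.Modules.pullback (X ↘ Spec (CommRingCat.of A))).map
    ((tilde.functor (CommRingCat.of A)).map (a • 𝟙 M))) = _
  rw [tilde_map_smul, Groth.Agent.Lib.Helper20.FormalPull.pullback_map_smulModΓ]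
  exact Groth.Agent.Lib.T2H6.ParShF.tr_map_smulModΓ F _ _

/-- `f^*(A~) ⊗ F ≅ F` -/
noncomputable def tensorAFunctorUnitIso :
    (CohIII.tensorAFunctor A F).obj (ModuleCat.of A A) ≅ F :=
  (DCoh.tensorRightMod F).mapIso
      (Groth.Agent.Lib.Helper23.PB.pullbackUnitIso (X ↘ Spec (CommRingCat.of A))) ≪≫
    (tLUnitIso X.sheaf).app F

open Groth.Agent.Lib.T2H9.EW Groth.Agent.Lib.T2H9.FFGeom in
/-- the functorial `A`-module `Γ(V, f^*(A~) ⊗ F)` is `Γ(V, F)` -/
noncomputable def secUnitEquiv (V : X.Opens) :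
    LObj (CohIII.tensorAFunctor A F ⋙ secAb V) (ModuleCat.of A A) ≃ₗ[A] MA X F V where
  toFun x := ((secAb V).map (tensorAFunctorUnitIso A F).hom).hom x
  invFun y := ((secAb V).map (tensorAFunctorUnitIso A F).inv).hom y
  left_inv x := by
    change ((secAb V).map (tensorAFunctorUnitIso A F).hom ≫
      (secAb V).map (tensorAFunctorUnitIso A F).inv).hom x = x
    rw [← CategoryTheory.Functor.map_comp, Iso.hom_inv_id, CategoryTheory.Functor.map_id]
    rfl
  right_inv y := by
    change ((secAb V).map (tensorAFunctorUnitIso A F).inv ≫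
      (secAb V).map (tensorAFunctorUnitIso A F).hom).hom y = y
    rw [← CategoryTheory.Functor.map_comp, Iso.inv_hom_id, CategoryTheory.Functor.map_id]
    rfl
  map_add' x y := map_add _ _ _
  map_smul' a x := by
    rw [RingHom.id_apply]
    change ((secAb V).map (tensorAFunctorUnitIso A F).hom).hom
      (((secAb V).map ((CohIII.tensorAFunctor A F).map (a • 𝟙 _))).hom x) = _
    rw [tensorAFunctor_map_smul]
    have h := Groth.Agent.S9530.smulMod_comp (tensorAFunctorUnitIso A F).hom a
    have h2 := congrArg (fun φ => ((secAb V).map φ).hom x) h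
    simp only [CategoryTheory.Functor.map_comp] at h2
    exact h2

open Groth.Agent.Lib.T2H9.EW in
/-- flatness of `Γ(V, f^*(A~) ⊗ F)` (functorial structure) for `F` flat over `A`, `V` affine -/
theorem flatA_sec [F.IsQuasicoherent]
    (hfl : FlatMod.IsFlatOver (X ↘ Spec (CommRingCat.of A)) F) {V : X.Opens}
    (hV : IsAffineOpen V) : FlatA (CohIII.tensorAFunctor A F ⋙ secAb V) := by
  haveI := Groth.Agent.Lib.T2H9.FlatFib.flat_MA X F hfl hV
  exact Module.Flat.of_linearEquiv (secUnitEquiv A F V)

open Groth.Agent.Lib.T2H9.EW in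
/-- the Eilenberg–Watts comparison is bijective for `M ↦ Γ(V, f^*(M~) ⊗ F)`, `V` affine -/
theorem ewBij_sec [F.IsQuasicoherent] {V : X.Opens} (hV : IsAffineOpen V) :
    EWBij (CohIII.tensorAFunctor A F ⋙ secAb V) := by
  haveI := preservesColimits_sec A F hV
  exact ewBij_of_preservesColimits _

end Groth.Agent.Lib.T2H9.TFunGeo
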