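import Groth.Agent.Lib.T2H5HomEW
import Groth.Agent.Lib.T2H9TFunGeo2
import Groth.Agent.Lib.T2H9CechBC1
import Groth.Agent.Lib.T2H5FlatBCM
import Groth.Agent.Lib.T2H5FlatBCE
import Groth.Agent.Lib.Helper13AffBC
set_option backward.isDefEq.respectTransparency.types false

/-!
# The projection formula `f^*(A'~) ⊗ F ≅ g'_* g'^* F` for an affine base change (helper5)

Namespace `Groth.Agent.Lib.T2H5.BCTheta`.

`A → A'` a ring map, `X` over `Spec A`, `X'` over `Spec A'`, `g' : X' ⟶ X` compatible with the base map, `F` an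
`O_X`-module.
* `mu g' F a' : F ⟶ g'_* g'^* F`: the unit followed by multiplication by `a' ∈ A'`;
* `exists_theta`: there is a morphism `Θ : f^*(A'~) ⊗ F ⟶ g'_* g'^* F` (the source being
  `(CohIII.tensorAFunctor A F).obj A'`) with `T(θ_{a'}) ≫ Θ = (f^*(A~) ⊗ F ≅ F) ≫ mu a'` for all `a'`;
* `isIso_theta`: if the square is cartesian and `F` is quasi-coherent, any such `Θ` is an isomorphism.
-/

set_option autoImplicit false
set_option linter.style.haveILetI false
set_option linter.unusedSectionVars false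
set_option linter.unusedVariables false
universe u
open CategoryTheory CategoryTheory.Limits AlgebraicGeometry Opposite TopologicalSpace

namespace Groth.Agent.Lib.T2H5.BCTheta

open Groth.Agent.Lib.T2H9.TFunGeo Groth.Agent.Lib.T2H9.FFGeom
  Groth.Agent.Lib.T2H9.CechBC Groth.Agent.Helper13PullbackUnit Groth.Agent.Helper13FlatMV
  Groth.Agent.Lib.Helper16.TensorCmp

variable {A A' : Type u} [CommRing A] [CommRing A'] [Algebra A A']
variable {X X' : Scheme.{u}} [X.Over (Spec (CommRingCat.of A))] [X'.Over (Spec (CommRingCat.of A'))]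
variable (g' : X' ⟶ X)
variable (hg : g' ≫ (X ↘ Spec (CommRingCat.of A)) =
    (X' ↘ Spec (CommRingCat.of A')) ≫ Spec.map (CommRingCat.ofHom (algebraMap A A')))
variable (F : X.Modules)

/-- `g'_* g'^* F` -/
noncomputable abbrev GG : X.Modules :=
  (Scheme.Modules.pushforward g').obj ((Scheme.Modules.pullback g').obj F)

/-- the unit `F ⟶ g'_* g'^* F` followed by multiplication by `a'` -/
noncomputable def mu (a' : A') : F ⟶ GG g' F :=
  (Scheme.Modules.pullbackPushforwardAdjunction g').unit.app F ≫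
    (Scheme.Modules.pushforward g').map (Formal.smulMod A' ((Scheme.Modules.pullback g').obj F) a')

lemma mu_add (a' b' : A') : mu g' F (a' + b') = mu g' F a' + mu g' F b' := by
  unfold mu
  rw [Groth.Agent.Lib.T2H5.FlatBC.smulMod_add' A', Functor.map_add, Preadditive.comp_add]

include hg in
lemma pushforward_smulMod (N : X'.Modules) (a : A) :
    (Scheme.Modules.pushforward g').map (Formal.smulMod A' N (algebraMap A A' a)) =
      Formal.smulMod A ((Scheme.Modules.pushforward g').obj N) a := by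
  unfold Formal.smulMod
  rw [← Groth.Agent.Lib.T2H5.FlatBC.toGlobal_comp A A' g' hg a]
  exact Groth.Agent.Lib.Helper20.FormalPull.pushforward_map_smulModΓ g' N _

include hg in
lemma mu_smul (a : A) (a' : A') : mu g' F (a • a') = Formal.smulMod A F a ≫ mu g' F a' := by
  have e1 : a • a' = algebraMap A A' a * a' := Algebra.smul_def a a'
  rw [Groth.Agent.S9530.smulMod_comp]
  unfold mu
  rw [e1, Groth.Agent.Lib.T2H5.FlatBC.smulMod_mul' A', Functor.map_comp, pushforward_smulMod g' hg,
    Category.assoc]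

variable (A) in
/-- the family defining `Θ` -/
noncomputable def psi (a' : A') : (CohIII.tensorAFunctor A F).obj (ModuleCat.of A A) ⟶ GG g' F :=
  (tensorAFunctorUnitIso A F).hom ≫ mu g' F a'

lemma psi_add (a' b' : A') : psi A g' F (a' + b') = psi A g' F a' + psi A g' F b' := by
  unfold psi
  rw [mu_add, Preadditive.comp_add]

include hg in
lemma psi_smul (a : A) (a' : A') :
    psi A g' F (a • a') =
      (CohIII.tensorAFunctor A F).map (a • 𝟙 (ModuleCat.of A A)) ≫ psi A g' F a' := by
  unfold psi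
  rw [mu_smul g' hg, tensorAFunctor_map_smul, ← Category.assoc, ← Category.assoc,
    Groth.Agent.S9530.smulMod_comp]

instance : PreservesFiniteColimits (CohIII.tensorAFunctor A F) := by
  haveI : PreservesColimitsOfSize.{0, 0} (CohIII.tensorAFunctor A F) :=
    preservesSmallestColimits_of_preservesColimits (CohIII.tensorAFunctor A F)
  exact PreservesColimitsOfSize.preservesFiniteColimits _

/-- the characterising property of the projection formula morphism -/
def IsTheta (Θ : (CohIII.tensorAFunctor A F).obj (ModuleCat.of A A') ⟶ GG g' F) : Prop :=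
  ∀ a' : A', (CohIII.tensorAFunctor A F).map (θ (M := ModuleCat.of A A') a') ≫ Θ = psi A g' F a'

include hg in
theorem exists_theta :
    ∃ Θ : (CohIII.tensorAFunctor A F).obj (ModuleCat.of A A') ⟶ GG g' F, IsTheta g' F Θ :=
  Groth.Agent.Lib.T2H5.HomEW.exists_desc (CohIII.tensorAFunctor A F) (M := ModuleCat.of A A')
    (fun a' => psi A g' F a') (fun a' b' => psi_add g' F a' b') (fun a a' => psi_smul g' hg F a a')

theorem theta_unique (Θ₁ Θ₂ : (CohIII.tensorAFunctor A F).obj (ModuleCat.of A A') ⟶ GG g' F)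
    (h₁ : IsTheta g' F Θ₁) (h₂ : IsTheta g' F Θ₂) : Θ₁ = Θ₂ :=
  Groth.Agent.Lib.T2H5.HomEW.hom_ext (CohIII.tensorAFunctor A F) Θ₁ Θ₂
    (fun a' => (h₁ a').trans (h₂ a').symm)

section iso

open TensorProduct

variable (h : IsPullback g' (X' ↘ Spec (CommRingCat.of A')) (X ↘ Spec (CommRingCat.of A))
  (Spec.map (CommRingCat.ofHom (algebraMap A A')))) [F.IsQuasicoherent]

lemma mu_app (a' : A') (W : X.Opens) (x : Γ(F, W)) :
    (mu g' F a').app W x =
      (a' • (show MA X' ((Scheme.Modules.pullback g').obj F) (g' ⁻¹ᵁ W) from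
        uV g' F (le_refl (g' ⁻¹ᵁ W)) x) : MA X' ((Scheme.Modules.pullback g').obj F) (g' ⁻¹ᵁ W)) := by
  have e : uV g' F (le_refl (g' ⁻¹ᵁ W)) x =
      ((Scheme.Modules.pullbackPushforwardAdjunction g').unit.app F).app W x := by
    change unitSec g' F (le_refl (g' ⁻¹ᵁ W)) x = _
    rw [unitSec_apply]
    have h0 : (homOfLE (le_refl (g' ⁻¹ᵁ W))).op = 𝟙 (op (g' ⁻¹ᵁ W)) := rfl
    rw [h0, CategoryTheory.Functor.map_id]
    rfl
  rw [e]
  rfl

include h in
theorem app_bijective (Θ : (CohIII.tensorAFunctor A F).obj (ModuleCat.of A A') ⟶ GG g' F)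
    (hΘ : IsTheta g' F Θ) {W : X.Opens} (hW : IsAffineOpen W) :
    Function.Bijective (Θ.app W) := by
  have hew := ewBij_sec A F hW (ModuleCat.of A A')
  have hkap := kap_uV_bijective g' h F hW (V' := g' ⁻¹ᵁ W) rfl
  let c : TensorProduct A
      ((Groth.Agent.Lib.T2H9.EW.liftA (CohIII.tensorAFunctor A F ⋙ secAb W)).obj (ModuleCat.of A A))
      (ModuleCat.of A A') ≃ₗ[A] A' ⊗[A] MA X F W :=
    (TensorProduct.congr (secUnitEquiv A F W) (LinearEquiv.refl A A')).trans (TensorProduct.comm A _ _)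
  let thW : ((Groth.Agent.Lib.T2H9.EW.liftA (CohIII.tensorAFunctor A F ⋙ secAb W)).obj
        (ModuleCat.of A A')) →+
      MA X' ((Scheme.Modules.pullback g').obj F) (g' ⁻¹ᵁ W) :=
    { toFun := fun x => Θ.app W (show Γ((CohIII.tensorAFunctor A F).obj (ModuleCat.of A A'), W) from x)
      map_zero' := map_zero (Θ.app W).hom
      map_add' := fun x y => map_add (Θ.app W).hom _ _ }
  have key : ∀ z, thW (Groth.Agent.Lib.T2H9.EW.ewLin
      (Groth.Agent.Lib.T2H9.EW.liftA (CohIII.tensorAFunctor A F ⋙ secAb W)) (ModuleCat.of A A') z) =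
      kap (R := A) (R' := A') (uV g' F (le_refl (g' ⁻¹ᵁ W))) (uV_smul g' h F (le_refl (g' ⁻¹ᵁ W))) (c z) := by
    intro z
    induction z using TensorProduct.induction_on with
    | zero => rw [map_zero, map_zero, map_zero, map_zero]
    | tmul y a' =>
      have e1 : c (y ⊗ₜ a') = a' ⊗ₜ secUnitEquiv A F W y := rfl
      rw [e1, kap_tmul, Groth.Agent.Lib.T2H9.EW.ewLin_tmul]
      have e2 := congrArg (fun φ => φ.app W y) (hΘ a')
      refine Eq.trans ?_ (e2.trans ?_)
      · rfl
      · change (mu g' F a').app W ((tensorAFunctorUnitIso A F).hom.app W y) = _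
        rw [mu_app]
        rfl
    | add z w hz hw => rw [map_add, map_add, map_add, map_add, hz, hw]
  have hcomp : (thW : _ → _) ∘ (Groth.Agent.Lib.T2H9.EW.ewLin
      (Groth.Agent.Lib.T2H9.EW.liftA (CohIII.tensorAFunctor A F ⋙ secAb W)) (ModuleCat.of A A')) =
      (kap (R := A) (R' := A') (uV g' F (le_refl (g' ⁻¹ᵁ W)))
        (uV_smul g' h F (le_refl (g' ⁻¹ᵁ W)))) ∘ c := funext key
  have hb : Function.Bijective ((thW : _ → _) ∘ (Groth.Agent.Lib.T2H9.EW.ewLin
      (Groth.Agent.Lib.T2H9.EW.liftA (CohIII.tensorAFunctor A F ⋙ secAb W)) (ModuleCat.of A A'))) := by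
    rw [hcomp]
    exact hkap.comp c.bijective
  exact (Function.Bijective.of_comp_iff (thW : _ → _) hew).1 hb

include h in
theorem isIso_theta (Θ : (CohIII.tensorAFunctor A F).obj (ModuleCat.of A A') ⟶ GG g' F)
    (hΘ : IsTheta g' F Θ) : IsIso Θ := by
  refine Groth.Agent.Helper13AffBC.isIso_of_bijective_on_basis Θ
    (fun W : X.affineOpens => (W : X.Opens)) ?_ (fun W => app_bijective g' F h Θ hΘ W.2)
  have := X.isBasis_affineOpens
  convert this
  ext W
  simp

end iso

end Groth.Agent.Lib.T2H5.BCTheta
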