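import Groth.Agent.Lib.T2H9ProjFormula
import Groth.Agent.Lib.Helper3FlatCxBT
import Groth.Agent.S2440

/-!
# Vanishing of `T_j` from vanishing on the fibres (helper9)

For a chain complex `P` of finite flat modules over a Noetherian ring: if the rank function
`x ↦ dim H_j(P ⊗ k(x))` vanishes identically then `opcycles_{j-1}(P)` is flat
(`flat_opcycles_of_dRank_eq_zero`) and `T_j(M) = 0` for all `M` (`isZero_T_of_dRank_eq_zero`).
-/

set_option autoImplicit false
set_option linter.style.haveILetI false
set_option linter.unusedSectionVars false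
set_option linter.unusedVariables false
universe u
open CategoryTheory CategoryTheory.Limits MonoidalCategory TensorProduct

namespace Groth.Agent.Lib.T2H9.FibVanish

open Groth.Agent.Lib.Helper3 Groth.Agent.Lib.T2H9.ProjFormula Groth.Agent.S2380

section loc
variable {B : Type u} [CommRing B] [IsNoetherianRing B] [IsLocalRing B]

/-- the residue field of a local ring, as a module, is the residue field of its closed point -/
noncomputable def resEquiv :
    IsLocalRing.ResidueField B ≃ₗ[B] (IsLocalRing.closedPoint B).asIdeal.ResidueField :=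
  LinearEquiv.ofBijective
    ((Algebra.linearMap (B ⧸ IsLocalRing.maximalIdeal B)
      (IsLocalRing.maximalIdeal B).ResidueField).restrictScalars B)
    (Ideal.bijective_algebraMap_quotient_residueField (IsLocalRing.maximalIdeal B))

/-- local case: if the rank function vanishes at the closed point then `T_j(k) = 0` -/
theorem isZero_T_residueField_of_dRank_eq_zero (Q : ChainComplex (ModuleCat.{u} B) ℤ)
    (hQ : ∀ i, Module.Finite B (Q.X i) ∧ Module.Flat B (Q.X i)) (j : ℤ)
    (h0 : CohIII.dRank Q j (IsLocalRing.closedPoint B) = 0) :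
    IsZero ((CohIII.TFun Q j).obj (ModuleCat.of B (IsLocalRing.ResidueField B))) := by
  let κ := (IsLocalRing.closedPoint B).asIdeal.ResidueField
  let φ : B →+* κ := algebraMap B κ
  let K := CohIII.bcCx φ Q
  have hfinX : ∀ i, Module.Finite κ (K.X i) := fun i => by
    haveI := (hQ i).1
    exact finite_extendScalars (R := B) (S := κ) (Q.X i)
  haveI := hfinX j
  haveI := finite_opcycles K j
  haveI hfinH : Module.Finite κ (K.homology j) :=
    Module.Finite.of_injective (K.homologyι j).hom
      ((ModuleCat.mono_iff_injective _).mp inferInstance)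
  have hsub : Subsingleton (K.homology j) := Module.finrank_zero_iff.mp h0
  have hz1 : IsZero (K.homology j) := @ModuleCat.isZero_of_subsingleton _ _ _ hsub
  have hz2 : IsZero ((CohIII.TFun K j).obj (ModuleCat.of κ κ)) := hz1.of_iso (TUnitIso K j)
  have hz3 : IsZero ((ModuleCat.restrictScalars φ).obj ((CohIII.TFun K j).obj (ModuleCat.of κ κ))) :=
    (ModuleCat.restrictScalars φ).map_isZero hz2
  have hz4 : IsZero ((CohIII.TFun Q j).obj ((ModuleCat.restrictScalars φ).obj (ModuleCat.of κ κ))) :=
    hz3.of_iso ((tFunBcIso φ Q j).app (ModuleCat.of κ κ)).symm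
  let e0 : IsLocalRing.ResidueField B ≃ₗ[B]
      ((ModuleCat.restrictScalars φ).obj (ModuleCat.of κ κ) : ModuleCat.{u} B) :=
    { toFun := fun x => (resEquiv (B := B) x : κ)
      invFun := fun y => (resEquiv (B := B)).symm (show κ from y)
      left_inv := fun x => (resEquiv (B := B)).symm_apply_apply x
      right_inv := fun y => (resEquiv (B := B)).apply_symm_apply _
      map_add' := fun x y => map_add (resEquiv (B := B)) x y
      map_smul' := fun b x => by
        refine (map_smul (resEquiv (B := B)) b x).trans ?_
        exact (Algebra.smul_def b (resEquiv (B := B) x)).trans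
          (ModuleCat.restrictScalars.smul_def φ (M := ModuleCat.of κ κ) b _).symm }
  let e : ModuleCat.of B (IsLocalRing.ResidueField B) ≅
      (ModuleCat.restrictScalars φ).obj (ModuleCat.of κ κ) :=
    LinearEquiv.toModuleIso e0
  exact hz4.of_iso ((CohIII.TFun Q j).mapIso e)

end loc

section glob
variable {A : Type u} [CommRing A] [IsNoetherianRing A]

/-- if the rank function `x ↦ dim H_j(P ⊗ k(x))` vanishes identically, then `opcycles_{j-1}(P)` is
flat -/
theorem flat_opcycles_of_dRank_eq_zero (P : ChainComplex (ModuleCat.{u} A) ℤ)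
    (hP : ∀ i, Module.Finite A (P.X i) ∧ Module.Flat A (P.X i)) (j : ℤ)
    (h : ∀ y : PrimeSpectrum A, CohIII.dRank P j y = 0) :
    Module.Flat A (P.opcycles (j - 1)) := by
  have hflat : ∀ i, Module.Flat A (P.X i) := fun i => (hP i).2
  haveI := (hP (j - 1)).1
  haveI := finite_opcycles P (j - 1)
  have hrel : (ComplexShape.down ℤ).Rel j (j - 1) := by
    show j - 1 + 1 = j
    ring
  have hfl : Module.freeLocus A (P.opcycles (j - 1)) = Set.univ := by
    rw [Set.eq_univ_iff_forall]
    intro y
    rw [← flat_bcCx_opcycles_atPrime_iff P (j - 1) y]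
    let B := Localization.AtPrime y.asIdeal
    let Q := CohIII.bcCx (algebraMap A B) P
    have hQ : ∀ i, Module.Finite B (Q.X i) ∧ Module.Flat B (Q.X i) := fun i => by
      haveI := (hP i).1
      exact ⟨finite_extendScalars (R := A) (S := B) (P.X i), flat_bcCx_X B P hflat i⟩
    have hy : PrimeSpectrum.comap (algebraMap A B) (IsLocalRing.closedPoint B) = y :=
      PrimeSpectrum.ext (IsLocalization.AtPrime.under_maximalIdeal B y.asIdeal)
    have h0 : CohIII.dRank Q j (IsLocalRing.closedPoint B) = 0 := by
      rw [Groth.Agent.S2440.result P hflat j (IsLocalRing.closedPoint B), hy]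
      exact h y
    have hz := isZero_T_residueField_of_dRank_eq_zero Q hQ j h0
    have hsurj : Function.Surjective ((CohIII.TFun Q j).map
        (ModuleCat.ofHom (Algebra.linearMap B (IsLocalRing.ResidueField B)))).hom := fun z =>
      ⟨0, (ModuleCat.subsingleton_of_isZero hz).elim _ _⟩
    haveI := free_opcycles_of_surjective Q hQ j (j - 1) hrel hsurj
    exact Module.Flat.of_free
  haveI : Module.FinitePresentation A (P.opcycles (j - 1)) := Module.finitePresentation_of_finite A _
  haveI : Module.Projective A (P.opcycles (j - 1)) := Module.freeLocus_eq_univ_iff.mp hfl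
  infer_instance

/-- if the rank function `x ↦ dim H_j(P ⊗ k(x))` vanishes identically, then `T_j` vanishes -/
theorem isZero_T_of_dRank_eq_zero (P : ChainComplex (ModuleCat.{u} A) ℤ)
    (hP : ∀ i, Module.Finite A (P.X i) ∧ Module.Flat A (P.X i)) (j : ℤ)
    (h : ∀ y : PrimeSpectrum A, CohIII.dRank P j y = 0) (M : ModuleCat.{u} A) :
    IsZero ((CohIII.TFun P j).obj M) := by
  haveI := flat_opcycles_of_dRank_eq_zero P hP j h
  haveI := (hP (j - 1)).2
  have hrel : (ComplexShape.down ℤ).Rel j (j - 1) := by
    show j - 1 + 1 = j
    ring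
  haveI := (hP j).1
  haveI := finite_opcycles P j
  haveI hfinH : Module.Finite A (P.homology j) :=
    Module.Finite.of_injective (P.homologyι j).hom
      ((ModuleCat.mono_iff_injective _).mp inferInstance)
  have hsupp : Module.support A (P.homology j) = ∅ := by
    rw [Set.eq_empty_iff_forall_notMem]
    intro x hx
    rw [Module.mem_support_iff_nontrivial_residueField_tensorProduct] at hx
    have h1 : fd (P.homology j) x = 0 := (dRank_eq_fd_homology P j x).symm.trans (h x)
    haveI : Module.Free x.asIdeal.ResidueField (x.asIdeal.ResidueField ⊗[A] (P.homology j)) :=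
      Module.Free.of_divisionRing _ _
    have h2 : Subsingleton (x.asIdeal.ResidueField ⊗[A] (P.homology j)) :=
      (Module.finrank_eq_zero_iff_of_free x.asIdeal.ResidueField _).mp h1
    exact not_subsingleton _ h2
  have hsub : Subsingleton (P.homology j) := Module.support_eq_empty_iff.mp hsupp
  have h4 : Subsingleton (TensorProduct A (P.homology j) M) := inferInstance
  have h5 : IsZero (MonoidalCategory.tensorObj (P.homology j) M) :=
    @ModuleCat.isZero_of_subsingleton _ _ (MonoidalCategory.tensorObj (P.homology j) M) h4
  exact h5.of_iso ((thetaIso P j (j - 1) hrel).app M).symm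

end glob

end Groth.Agent.Lib.T2H9.FibVanish
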