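import Groth.Agent.Lib.T2H9CoreBC
import Groth.Agent.Lib.T2H9FibVanish
set_option backward.isDefEq.respectTransparency.types false

/-!
# The bridge theorem with vanishing in negative cohomological degrees (helper5)

Namespace `Groth.Agent.Lib.T2H5.BridgePos`.

helper9's bridge theorem (`T2H9Bridge`, `T2H9CoreBC`), with the additional information that the functors
`T_i(M) = H_i(P ⊗ M)` of the universal complex vanish for `i > 0` (negative cohomological degrees), hence
that the rank functions `dRank P i` vanish for `i > 0`.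
-/

set_option autoImplicit false
set_option linter.style.haveILetI false
set_option linter.unusedSectionVars false
set_option linter.unusedVariables false
universe u
open CategoryTheory CategoryTheory.Limits AlgebraicGeometry Opposite TopologicalSpace

namespace Groth.Agent.Lib.T2H5.BridgePos

open Groth.Agent.Lib.Helper16.CechLow Groth.Agent.Lib.T2H9.EW Groth.Agent.Lib.T2H9.TFunGeo
  Groth.Agent.Lib.T2H9.TFunAlg Groth.Agent.Lib.Helper3 Groth.Agent.Lib.T2H9.Bridge
  Groth.Agent.Lib.T2H9.Reindex Groth.Agent.Lib.T2H9.CoreBC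

/-- helper9's `exists_cochain_bridge`, with the vanishing of `H^i(L ⊗ M)` for `i < 0` -/
theorem exists_cochain_bridge_neg (A : Type u) [CommRing A] [IsNoetherianRing A] (X : Scheme.{u})
    [X.Over (Spec (CommRingCat.of A))] [IsProper (X ↘ Spec (CommRingCat.of A))] (F : X.Modules)
    (hF : Coh.IsCoh F) (hfl : FlatMod.IsFlatOver (X ↘ Spec (CommRingCat.of A)) F) :
    ∃ L : CochainComplex (ModuleCat.{u} A) ℤ,
      (∀ i, Module.Finite A (L.X i) ∧ Module.Free A (L.X i)) ∧
      (∃ b : ℤ, ∀ i, b < i → IsZero (L.X i)) ∧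
      (∀ p : ℕ, Nonempty (CohIII.TFun L (p : ℤ) ⋙ forget₂ (ModuleCat.{u} A) AddCommGrpCat.{u} ≅
        CohIII.tensorAFunctor A F ⋙ CohIII.HAb X p)) ∧
      ∀ i : ℤ, i < 0 → ∀ M : ModuleCat.{u} A, IsZero ((CohIII.TFun L i).obj M) := by
  haveI := hF.1
  haveI : CompactSpace X := QuasiCompact.compactSpace_of_compactSpace (X ↘ Spec (CommRingCat.of A))
  obtain ⟨t, W, hW, hcovW⟩ :=
    Groth.Agent.Lib.Helper22.NA9.exists_fin_affine_cover (⊤ : X.Opens) isCompact_univ
  let U : ULift.{u} (Fin t) → X.Opens := fun i => W i.down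
  have hcov : iSup U = ⊤ := by
    rw [← hcovW]
    apply le_antisymm
    · exact iSup_le fun i => le_iSup W i.down
    · exact iSup_le fun k => le_iSup U ⟨k⟩
  have hUa : ∀ (n : ℕ) (x : Fin (n + 1) → ULift.{u} (Fin t)),
      IsAffineOpen (iInf fun k => U (x k)) := fun n x =>
    isAffineOpen_iInf (X ↘ Spec (CommRingCat.of A)) (fun k => hW (x k).down)
  have hvan : ∀ (G : X.Modules) [G.IsQuasicoherent] (p : ℕ), t ≤ p →
      Subsingleton (Coh.HH X G p) := fun G _ p hp =>
    Groth.Agent.Lib.Helper23.AffVanish.subsingleton_HH_of_cover t W hW hcovW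
      (fun V V' hV hV' => isAffineOpen_inf (X ↘ Spec (CommRingCat.of A)) hV hV') G p hp
  have hCM := isZero_homology_tensorObj_Cx A F U hcov hUa t hvan
  have hCflat := flat_Cx A F U hUa hfl
  have hfin := finite_homology_Cx A F U hcov hUa hF
  have hEac : ∀ i : ℤ, (t : ℤ) < i → IsZero ((Cx A F U).homology i) := fun i hi =>
    (hCM (ModuleCat.of A A) i hi).of_iso (TUnitIso (Cx A F U) i).symm
  obtain ⟨L, w, hw, hLff, hLb⟩ :=
    Groth.Agent.Lib.T2H9.Mumford.exists_finite_free_quasiIso (t : ℤ) (Cx A F U) hfin hEac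
  haveI := hw
  have hLflat : ∀ i, Module.Flat A (L.X i) := fun i => by
    haveI := (hLff i).2
    infer_instance
  have hq : ∀ M : ModuleCat.{u} A, QuasiIso
      (((MonoidalCategory.tensorRight M).mapHomologicalComplex (ComplexShape.up ℤ)).map w) :=
    fun M => Groth.Agent.Lib.T2H9.UnivQis.quasiIso_tensorRight_map L (Cx A F U) w (t : ℤ) hLb
      hLflat hCflat hCM M
  refine ⟨L, hLff, ⟨(t : ℤ), hLb⟩, fun p => ?_, fun i hi M => ?_⟩
  · obtain ⟨e⟩ := nonempty_bridgeC A F U hcov hUa p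
    haveI : IsIso (TFunMap w (p : ℤ)) := isIso_TFunMap w (p : ℤ) (fun M => (hq M).quasiIsoAt _)
    exact ⟨Functor.isoWhiskerRight (asIso (TFunMap w (p : ℤ))) _ ≪≫ e⟩
  · haveI : QuasiIsoAt
        (((MonoidalCategory.tensorRight M).mapHomologicalComplex (ComplexShape.up ℤ)).map w) i :=
      (hq M).quasiIsoAt i
    have hX : IsZero ((CohIII.tensorObj (Cx A F U) M).X i) :=
      (MonoidalCategory.tensorRight M).map_isZero (isZero_Cx_neg A F U i hi)
    have hz : IsZero ((CohIII.tensorObj (Cx A F U) M).homology i) :=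
      ShortComplex.isZero_homology_of_isZero_X₂ _ hX
    exact hz.of_iso (isoOfQuasiIsoAt
      (((MonoidalCategory.tensorRight M).mapHomologicalComplex (ComplexShape.up ℤ)).map w) i)

/-- helper9's `exists_chain_bridge_bc`, with the vanishing of `H_i(P ⊗ M)` for `i > 0` -/
theorem exists_chain_bridge_bc_pos (A : Type u) [CommRing A] [IsNoetherianRing A] (X : Scheme.{u})
    [X.Over (Spec (CommRingCat.of A))] [IsProper (X ↘ Spec (CommRingCat.of A))] (F : X.Modules)
    (hF : Coh.IsCoh F) (hfl : FlatMod.IsFlatOver (X ↘ Spec (CommRingCat.of A)) F) :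
    ∃ P : ChainComplex (ModuleCat.{u} A) ℤ,
      (∀ i, Module.Finite A (P.X i) ∧ Module.Free A (P.X i)) ∧
      (∃ b : ℤ, ∀ i, i < b → IsZero (P.X i)) ∧
      (∀ p : ℕ, Nonempty (CohIII.TFun P (-(p : ℤ)) ⋙ forget₂ (ModuleCat.{u} A) AddCommGrpCat.{u} ≅
        CohIII.tensorAFunctor A F ⋙ CohIII.HAb X p)) ∧
      (∀ i : ℤ, 0 < i → ∀ M : ModuleCat.{u} A, IsZero ((CohIII.TFun P i).obj M)) ∧
      ∀ (A' : Type u) [CommRing A'] [Algebra A A'] (X' : Scheme.{u})
        [X'.Over (Spec (CommRingCat.of A'))] (g' : X' ⟶ X)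
        (_ : IsPullback g' (X' ↘ Spec (CommRingCat.of A')) (X ↘ Spec (CommRingCat.of A))
          (Spec.map (CommRingCat.ofHom (algebraMap A A')))) (p : ℕ),
        Nonempty (CohIII.TFun (CohIII.bcCx (algebraMap A A') P) (-(p : ℤ)) ⋙
            forget₂ (ModuleCat.{u} A') AddCommGrpCat.{u} ≅
          CohIII.tensorAFunctor A' ((Scheme.Modules.pullback g').obj F) ⋙ CohIII.HAb X' p) := by
  obtain ⟨L, h1, ⟨b, hb⟩, h3, h5⟩ := exists_cochain_bridge_neg A X F hF hfl
  have h3' : ∀ p : ℕ, Nonempty (CohIII.TFun (toChain L) (-(p : ℤ)) ⋙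
      forget₂ (ModuleCat.{u} A) AddCommGrpCat.{u} ≅
        CohIII.tensorAFunctor A F ⋙ CohIII.HAb X p) := fun p => by
    obtain ⟨e⟩ := h3 p
    exact ⟨Functor.isoWhiskerRight (tFunReindexIso L (-(p : ℤ)) (p : ℤ) (by simp)) _ ≪≫ e⟩
  refine ⟨toChain L, fun i => h1 (-i), ⟨-b, fun i hi => hb (-i) (by omega)⟩, h3', ?_, ?_⟩
  · intro i hi M
    exact (h5 (-i) (by omega) M).of_iso ((tFunReindexIso L i (-i) rfl).app M)
  · intro A' _ _ X' _ g' hsq p
    haveI := hF.1
    obtain ⟨e⟩ := h3' p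
    obtain ⟨core⟩ := nonempty_coreIso_of_separated g' hsq F p
    exact ⟨bridgeBc g' F (toChain L) _ p e core⟩

/-- the rank function of a complex vanishes in the degrees in which the functor `T` vanishes -/
theorem dRank_eq_zero_of_isZero_T {A : Type u} [CommRing A] (P : ChainComplex (ModuleCat.{u} A) ℤ)
    (i : ℤ) (h : ∀ M : ModuleCat.{u} A, IsZero ((CohIII.TFun P i).obj M)) (x : PrimeSpectrum A) :
    CohIII.dRank P i x = 0 := by
  let κ := x.asIdeal.ResidueField
  let φ : A →+* κ := algebraMap A κ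
  have hz : IsZero ((CohIII.TFun P i).obj ((ModuleCat.restrictScalars φ).obj (ModuleCat.of κ κ))) :=
    h _
  have hz2 : IsZero ((ModuleCat.restrictScalars φ).obj
      ((CohIII.TFun (CohIII.bcCx φ P) i).obj (ModuleCat.of κ κ))) :=
    hz.of_iso ((Groth.Agent.Lib.T2H9.ProjFormula.tFunBcIso φ P i).app (ModuleCat.of κ κ))
  have hs : Subsingleton ((CohIII.TFun (CohIII.bcCx φ P) i).obj (ModuleCat.of κ κ)) :=
    (ModuleCat.subsingleton_of_isZero hz2 : Subsingleton ((ModuleCat.restrictScalars φ).obj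
      ((CohIII.TFun (CohIII.bcCx φ P) i).obj (ModuleCat.of κ κ))))
  have hz3 : IsZero ((CohIII.TFun (CohIII.bcCx φ P) i).obj (ModuleCat.of κ κ)) :=
    @ModuleCat.isZero_of_subsingleton _ _ _ hs
  have hz4 : IsZero ((CohIII.bcCx φ P).homology i) := hz3.of_iso (TUnitIso _ i).symm
  haveI : Subsingleton ((CohIII.bcCx φ P).homology i) := ModuleCat.subsingleton_of_isZero hz4
  exact Module.finrank_zero_of_subsingleton

end Groth.Agent.Lib.T2H5.BridgePos
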