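import Mathlib

/-!
# Combinatorial cochains on tuples (T2H5)

For an index type `ι` and an abelian group `A`, `Coch ι A q` is the group of functions on
`(q+1)`-tuples of indices with values in `A` (the "full" Čech cochains of the constant coefficient
system `A`), `dd` is the alternating coface differential, `hc j` the contraction "prepend `j`".

Main results (for `ι` finite with `n + 1` elements):
* `isCob_of_surjSupp`: a cocycle supported on surjective tuples is a coboundary of a cochain
  supported on surjective tuples, in every degree `q ≠ n`, and in degree `n` as soon as it vanishes at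
  one injective tuple;
* `exists_cocycle`: in degree `n` there is a cocycle supported on surjective tuples with any
  prescribed value at a given injective tuple.
-/

set_option autoImplicit false
universe u v w

open CategoryTheory

namespace Groth.Agent.Lib.T2H5.CechComb

/-- cochains on `(q+1)`-tuples -/
abbrev Coch (ι : Type u) (A : Type v) (q : ℕ) : Type (max u v) := (Fin (q + 1) → ι) → A

section Basic

variable {ι : Type u} {ι' : Type u} {A : Type v} [AddCommGroup A] {B : Type w} [AddCommGroup B]

/-- the alternating coface differential -/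
def dd (q : ℕ) (f : Coch ι A q) : Coch ι A (q + 1) :=
  fun σ => ∑ i : Fin (q + 2), (-1 : ℤ) ^ (i : ℕ) • f (σ ∘ i.succAbove)

theorem dd_apply (q : ℕ) (f : Coch ι A q) (σ : Fin (q + 2) → ι) :
    dd q f σ = ∑ i : Fin (q + 2), (-1 : ℤ) ^ (i : ℕ) • f (σ ∘ i.succAbove) := rfl

theorem dd_zero (q : ℕ) : dd q (0 : Coch ι A q) = 0 := by
  funext σ
  simp [dd_apply]

theorem dd_add (q : ℕ) (f g : Coch ι A q) : dd q (f + g) = dd q f + dd q g := by
  funext σ
  simp [dd_apply, smul_add, Finset.sum_add_distrib]

theorem dd_sub (q : ℕ) (f g : Coch ι A q) : dd q (f - g) = dd q f - dd q g := by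
  funext σ
  simp [dd_apply, smul_sub, Finset.sum_sub_distrib]

/-- compatibility with an additive map on coefficients -/
theorem dd_map (φ : A →+ B) (q : ℕ) (f : Coch ι A q) :
    dd q (fun σ => φ (f σ)) = fun σ => φ (dd q f σ) := by
  funext σ
  simp [dd_apply, map_sum, map_zsmul]

/-- pull back along a map of index types -/
def pull (emb : ι' → ι) (q : ℕ) (f : Coch ι A q) : Coch ι' A q := fun τ => f (emb ∘ τ)

theorem dd_pull (emb : ι' → ι) (q : ℕ) (f : Coch ι A q) :
    dd q (pull emb q f) = pull emb (q + 1) (dd q f) := rfl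

/-- the contraction "prepend `j`" -/
def hc (j : ι) (q : ℕ) (f : Coch ι A (q + 1)) : Coch ι A q := fun τ => f (Fin.cons j τ)

theorem cons_comp_succAbove_succ {q : ℕ} (j : ι) (σ : Fin (q + 2) → ι) (i : Fin (q + 2)) :
    (Fin.cons j σ : Fin (q + 3) → ι) ∘ i.succ.succAbove =
      (Fin.cons j (σ ∘ i.succAbove) : Fin (q + 2) → ι) := by
  funext k
  refine Fin.cases ?_ (fun k' => ?_) k
  · simp
  · simp [Fin.succ_succAbove_succ]

theorem cons_comp_succAbove_zero {q : ℕ} (j : ι) (σ : Fin (q + 1) → ι) :
    (Fin.cons j σ : Fin (q + 2) → ι) ∘ (0 : Fin (q + 2)).succAbove = σ := by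
  funext k
  simp

/-- the homotopy identity in positive degrees -/
theorem hc_dd (j : ι) (q : ℕ) (f : Coch ι A (q + 1)) :
    hc j (q + 1) (dd (q + 1) f) = f - dd q (hc j q f) := by
  funext σ
  change dd (q + 1) f (Fin.cons j σ) = f σ - dd q (hc j q f) σ
  rw [dd_apply, Fin.sum_univ_succ, cons_comp_succAbove_zero, dd_apply]
  simp only [Fin.val_zero, pow_zero, one_smul, Fin.val_succ, cons_comp_succAbove_succ]
  rw [sub_eq_add_neg, ← Finset.sum_neg_distrib]
  congr 1
  refine Finset.sum_congr rfl (fun i _ => ?_)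
  rw [pow_succ, mul_neg, mul_one, neg_smul]
  rfl

end Basic

section Square

variable (ι : Type u) (A : Type v) [AddCommGroup A]

/-- the cosimplicial abelian group of cochains -/
def cosimp : CosimplicialObject AddCommGrpCat.{max u v} where
  obj n := AddCommGrpCat.of ((Fin (n.len + 1) → ι) → A)
  map {_ _} θ := AddCommGrpCat.ofHom
    { toFun := fun f σ => f (σ ∘ θ.toOrderHom)
      map_zero' := rfl
      map_add' := fun _ _ => rfl }
  map_id := fun _ => rfl
  map_comp := fun _ _ => rfl

variable {ι A}

/-- evaluation of a morphism at a cochain and a tuple, as an additive map -/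
def evalAt (q : ℕ) (f : Coch ι A q) (σ : Fin (q + 2) → ι) :
    ((cosimp ι A).obj (SimplexCategory.mk q) ⟶ (cosimp ι A).obj (SimplexCategory.mk (q + 1))) →+ A where
  toFun φ := (φ.hom f : (Fin (q + 2) → ι) → A) σ
  map_zero' := rfl
  map_add' _ _ := rfl

theorem objD_apply (q : ℕ) (f : Coch ι A q) :
    ((AlgebraicTopology.AlternatingCofaceMapComplex.objD (cosimp ι A) q).hom f :
      (Fin (q + 2) → ι) → A) = dd q f := by
  funext σ
  change evalAt q f σ (AlgebraicTopology.AlternatingCofaceMapComplex.objD (cosimp ι A) q) = _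
  unfold AlgebraicTopology.AlternatingCofaceMapComplex.objD
  rw [map_sum, dd_apply]
  refine Finset.sum_congr rfl (fun i _ => ?_)
  rw [map_zsmul]
  rfl

theorem dd_dd (q : ℕ) (f : Coch ι A q) : dd (q + 1) (dd q f) = 0 := by
  have h := AlgebraicTopology.AlternatingCofaceMapComplex.d_squared (cosimp ι A) q
  have h2 : ((AlgebraicTopology.AlternatingCofaceMapComplex.objD (cosimp ι A) (q + 1)).hom
      ((AlgebraicTopology.AlternatingCofaceMapComplex.objD (cosimp ι A) q).hom f) :
        (Fin (q + 3) → ι) → A) = 0 := by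
    have h3 := ConcreteCategory.congr_hom h f
    exact h3
  rw [objD_apply q f] at h2
  exact (objD_apply (q + 1) (dd q f)).symm.trans h2

end Square

section Ext0

variable {ι : Type u} {ι' : Type u} {A : Type v} [AddCommGroup A]

open Classical in
/-- extension by zero along a map of index types -/
noncomputable def ext0 (emb : ι' → ι) (q : ℕ) (g : Coch ι' A q) : Coch ι A q :=
  fun τ => if h : ∃ τ' : Fin (q + 1) → ι', emb ∘ τ' = τ then g h.choose else 0

theorem ext0_emb {emb : ι' → ι} (hemb : Function.Injective emb) (q : ℕ) (g : Coch ι' A q)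
    (τ' : Fin (q + 1) → ι') : ext0 emb q g (emb ∘ τ') = g τ' := by
  have h : ∃ τ'' : Fin (q + 1) → ι', emb ∘ τ'' = emb ∘ τ' := ⟨τ', rfl⟩
  unfold ext0
  rw [dif_pos h]
  congr 1
  exact hemb.comp_left h.choose_spec

theorem ext0_of_not {emb : ι' → ι} (q : ℕ) (g : Coch ι' A q) (τ : Fin (q + 1) → ι)
    (h : ¬ ∃ τ' : Fin (q + 1) → ι', emb ∘ τ' = τ) : ext0 emb q g τ = 0 := by
  unfold ext0
  rw [dif_neg h]

theorem pull_ext0 {emb : ι' → ι} (hemb : Function.Injective emb) (q : ℕ) (g : Coch ι' A q) :
    pull emb q (ext0 emb q g) = g := by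
  funext τ'
  exact ext0_emb hemb q g τ'

end Ext0

section Main

variable {A : Type v} [AddCommGroup A]

/-- supported on surjective tuples -/
def SurjSupp {ι : Type u} {q : ℕ} (f : Coch ι A q) : Prop :=
  ∀ σ, ¬ Function.Surjective σ → f σ = 0

/-- being a coboundary of a cochain supported on surjective tuples (being zero in degree `0`). -/
def IsCob {ι : Type u} : ∀ (q : ℕ), Coch ι A q → Prop
  | 0, f => f = 0
  | (q + 1), f => ∃ g : Coch ι A q, SurjSupp g ∧ dd q g = f

variable {ι : Type u}

/-- a tuple avoiding `j` factors through the complement of `j`. -/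
theorem exists_lift_of_forall_ne {q : ℕ} (j : ι) (τ : Fin (q + 1) → ι) (h : ∀ k, τ k ≠ j) :
    ∃ τ' : Fin (q + 1) → {i : ι // i ≠ j}, (Subtype.val ∘ τ' : Fin (q + 1) → ι) = τ :=
  ⟨fun k => ⟨τ k, h k⟩, rfl⟩

theorem not_surjective_val_comp {q : ℕ} (j : ι) (τ' : Fin (q + 1) → {i : ι // i ≠ j}) :
    ¬ Function.Surjective (Subtype.val ∘ τ' : Fin (q + 1) → ι) := by
  intro h
  obtain ⟨k, hk⟩ := h j
  exact (τ' k).2 hk

/-- if `cons j (val ∘ τ')` is surjective then so is `τ'`. -/
theorem surjective_of_cons {q : ℕ} (j : ι) (τ' : Fin (q + 1) → {i : ι // i ≠ j})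
    (h : Function.Surjective (Fin.cons j (Subtype.val ∘ τ') : Fin (q + 2) → ι)) :
    Function.Surjective τ' := by
  intro i'
  obtain ⟨k, hk⟩ := h i'.1
  revert hk
  refine Fin.cases ?_ (fun k' => ?_) k
  · intro hk
    rw [Fin.cons_zero] at hk
    exact absurd hk.symm i'.2
  · intro hk
    rw [Fin.cons_succ] at hk
    exact ⟨k', Subtype.ext hk⟩

/-- if `τ` misses `i₀ ≠ j` then so does `cons j τ`. -/
theorem not_surjective_cons {q : ℕ} (j i₀ : ι) (hne : i₀ ≠ j) (τ : Fin (q + 1) → ι)
    (h : ∀ k, τ k ≠ i₀) : ¬ Function.Surjective (Fin.cons j τ : Fin (q + 2) → ι) := by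
  intro hs
  obtain ⟨k, hk⟩ := hs i₀
  revert hk
  refine Fin.cases ?_ (fun k' => ?_) k
  · intro hk
    rw [Fin.cons_zero] at hk
    exact hne hk.symm
  · intro hk
    rw [Fin.cons_succ] at hk
    exact h k' hk

/-- the differential of an extension by zero vanishes at tuples missing some `i₀ ≠ j`. -/
theorem dd_ext0_eq_zero {q : ℕ} (j i₀ : ι) (hne : i₀ ≠ j) (kb : Coch {i : ι // i ≠ j} A q)
    (hk : SurjSupp kb) (τ : Fin (q + 2) → ι) (h : ∀ k, τ k ≠ i₀) :
    dd q (ext0 (Subtype.val : {i : ι // i ≠ j} → ι) q kb) τ = 0 := by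
  rw [dd_apply]
  refine Finset.sum_eq_zero (fun i _ => ?_)
  by_cases hex : ∃ τ' : Fin (q + 1) → {i : ι // i ≠ j}, Subtype.val ∘ τ' = τ ∘ i.succAbove
  · obtain ⟨τ', hτ'⟩ := hex
    rw [← hτ', ext0_emb Subtype.val_injective, hk τ', smul_zero]
    intro hs
    obtain ⟨k, hk'⟩ := hs ⟨i₀, hne⟩
    have h1 := congrFun hτ' k
    simp only [Function.comp_apply] at h1
    rw [hk'] at h1
    exact h _ h1.symm
  · rw [ext0_of_not _ _ _ hex, smul_zero]

theorem card_ne_subtype [Fintype ι] (j : ι) [Fintype {i : ι // i ≠ j}] {n : ℕ}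
    (hcard : Fintype.card ι = n + 2) : Fintype.card {i : ι // i ≠ j} = n + 1 := by
  classical
  have h := Fintype.card_subtype_compl (fun i : ι => i = j)
  rw [Fintype.card_subtype_eq, hcard] at h
  exact h

theorem isCob_of_surjSupp (n : ℕ) : ∀ (ι : Type u) [Fintype ι] (_ : Fintype.card ι = n + 1)
    (q : ℕ) (f : Coch ι A q) (_ : SurjSupp f) (_ : dd q f = 0)
    (_ : q ≠ n ∨ ∃ σ₀ : Fin (q + 1) → ι, Function.Injective σ₀ ∧ f σ₀ = 0), IsCob q f := by
  induction n with
  | zero =>
    intro ι _ hcard q f hs hcoc h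
    classical
    obtain ⟨x, hx⟩ := Fintype.card_eq_one_iff.mp hcard
    cases q with
    | zero =>
      rcases h with h | ⟨σ₀, -, h0⟩
      · exact absurd rfl h
      · change f = 0
        funext σ
        have : σ = σ₀ := by
          funext k
          rw [hx (σ k), hx (σ₀ k)]
        rw [this, h0]
        rfl
    | succ q' =>
      refine ⟨hc x q' f, ?_, ?_⟩
      · intro τ hτ
        exfalso
        apply hτ
        intro y
        exact ⟨0, (hx (τ 0)).trans (hx y).symm⟩
      · have h1 := hc_dd x q' f
        rw [hcoc] at h1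
        have h2 : hc x (q' + 1) (0 : Coch ι A (q' + 2)) = 0 := rfl
        rw [h2] at h1
        exact (sub_eq_zero.mp h1.symm).symm
  | succ n ih =>
    intro ι _ hcard q f hs hcoc h
    classical
    cases q with
    | zero =>
      change f = 0
      funext σ
      apply hs
      intro hsurj
      have := Fintype.card_le_of_surjective σ hsurj
      rw [hcard, Fintype.card_fin] at this
      omega
    | succ q' =>
      -- choice of the point `j`
      have hj : ∃ j : ι, q' + 1 = n + 1 → ∃ τ₀ : Fin (q' + 1) → ι,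
          (∀ k, τ₀ k ≠ j) ∧ Function.Injective τ₀ ∧ f (Fin.cons j τ₀) = 0 := by
        rcases h with h | ⟨σ₀, hinj, h0⟩
        · have : Nonempty ι := by
            rw [← Fintype.card_pos_iff, hcard]
            omega
          exact ⟨this.some, fun h' => absurd h' h⟩
        · refine ⟨σ₀ 0, fun _ => ⟨Fin.tail σ₀, ?_, ?_, ?_⟩⟩
          · intro k hk
            exact Fin.succ_ne_zero k (hinj hk)
          · intro a b hab
            exact Fin.succ_injective _ (hinj hab)
          · rw [Fin.cons_self_tail]
            exact h0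
      obtain ⟨j, hj⟩ := hj
      have hcard' : Fintype.card {i : ι // i ≠ j} = n + 1 := card_ne_subtype j hcard
      let emb : {i : ι // i ≠ j} → ι := Subtype.val
      have hemb : Function.Injective emb := Subtype.val_injective
      let g0 : Coch ι A q' := hc j q' f
      have hg0 : dd q' g0 = f := by
        have h1 := hc_dd j q' f
        rw [hcoc] at h1
        have h2 : hc j (q' + 1) (0 : Coch ι A (q' + 2)) = 0 := rfl
        rw [h2] at h1
        exact (sub_eq_zero.mp h1.symm).symm
      let gb : Coch {i : ι // i ≠ j} A q' := pull emb q' g0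
      have hgb_s : SurjSupp gb := by
        intro τ' hτ'
        apply hs
        intro hsurj
        exact hτ' (surjective_of_cons j τ' hsurj)
      have hgb_c : dd q' gb = 0 := by
        rw [dd_pull, hg0]
        funext σ'
        exact hs _ (not_surjective_val_comp j σ')
      have hgb_h : q' ≠ n ∨ ∃ σ₀ : Fin (q' + 1) → {i : ι // i ≠ j},
          Function.Injective σ₀ ∧ gb σ₀ = 0 := by
        by_cases hq : q' = n
        · right
          obtain ⟨τ₀, hne, hinj, h0⟩ := hj (by rw [hq])
          refine ⟨fun k => ⟨τ₀ k, hne k⟩, ?_, h0⟩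
          intro a b hab
          exact hinj (congrArg Subtype.val hab)
        · exact Or.inl hq
      have hcob := ih {i : ι // i ≠ j} hcard' q' gb hgb_s hgb_c hgb_h
      -- support of `g0`
      have hg0_s : ∀ τ : Fin (q' + 1) → ι, (∃ k, τ k = j) → ¬ Function.Surjective τ → g0 τ = 0 := by
        intro τ _ hns
        have : ∃ i₀, ∀ k, τ k ≠ i₀ := by
          by_contra hcon
          push Not at hcon
          exact hns hcon
        obtain ⟨i₀, hi₀⟩ := this
        have hne : i₀ ≠ j := by
          rintro rfl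
          obtain ⟨k, hk⟩ := ‹∃ k, τ k = i₀›
          exact hi₀ k hk
        exact hs _ (not_surjective_cons j i₀ hne τ hi₀)
      cases q' with
      | zero =>
        have hgb0 : gb = 0 := hcob
        refine ⟨g0, ?_, hg0⟩
        intro τ hτ
        by_cases hjr : ∃ k, τ k = j
        · exact hg0_s τ hjr hτ
        · push Not at hjr
          obtain ⟨τ', rfl⟩ := exists_lift_of_forall_ne j τ hjr
          exact congrFun hgb0 τ'
      | succ q'' =>
        obtain ⟨kb, hkb_s, hkb⟩ := hcob
        let k : Coch ι A q'' := ext0 emb q'' kb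
        refine ⟨g0 - dd q'' k, ?_, ?_⟩
        · intro τ hτ
          change g0 τ - dd q'' k τ = 0
          by_cases hjr : ∃ k, τ k = j
          · have : ∃ i₀, ∀ k, τ k ≠ i₀ := by
              by_contra hcon
              push Not at hcon
              exact hτ hcon
            obtain ⟨i₀, hi₀⟩ := this
            have hne : i₀ ≠ j := by
              rintro rfl
              obtain ⟨k, hk⟩ := hjr
              exact hi₀ k hk
            rw [hg0_s τ hjr hτ, dd_ext0_eq_zero j i₀ hne kb hkb_s τ hi₀, sub_zero]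
          · push Not at hjr
            obtain ⟨τ', rfl⟩ := exists_lift_of_forall_ne j τ hjr
            have h1 : dd q'' k (Subtype.val ∘ τ') = dd q'' (pull emb q'' k) τ' := rfl
            rw [h1, pull_ext0 hemb, hkb]
            exact sub_self _
        · rw [dd_sub, dd_dd, sub_zero, hg0]

theorem exists_cocycle (n : ℕ) : ∀ (ι : Type u) [Fintype ι] (_ : Fintype.card ι = n + 1)
    (σ₀ : Fin (n + 1) → ι) (_ : Function.Injective σ₀) (a : A),
    ∃ f : Coch ι A n, SurjSupp f ∧ dd n f = 0 ∧ f σ₀ = a := by
  induction n with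
  | zero =>
    intro ι _ hcard σ₀ _ a
    obtain ⟨x, hx⟩ := Fintype.card_eq_one_iff.mp hcard
    refine ⟨fun _ => a, ?_, ?_, rfl⟩
    · intro τ hτ
      exfalso
      apply hτ
      intro y
      exact ⟨0, (hx (τ 0)).trans (hx y).symm⟩
    · funext σ
      rw [dd_apply, Fin.sum_univ_two]
      simp
  | succ n ih =>
    intro ι _ hcard σ₀ hinj a
    classical
    let j : ι := σ₀ 0
    have hcard' : Fintype.card {i : ι // i ≠ j} = n + 1 := card_ne_subtype j hcard
    let emb : {i : ι // i ≠ j} → ι := Subtype.val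
    have hemb : Function.Injective emb := Subtype.val_injective
    let τ₀ : Fin (n + 1) → {i : ι // i ≠ j} :=
      fun k => ⟨σ₀ k.succ, fun hk => Fin.succ_ne_zero k (hinj hk)⟩
    have hτ₀ : Function.Injective τ₀ := by
      intro a b hab
      exact Fin.succ_injective _ (hinj (congrArg Subtype.val hab))
    obtain ⟨fb, hfb_s, hfb_c, hfb_a⟩ := ih {i : ι // i ≠ j} hcard' τ₀ hτ₀ a
    let k : Coch ι A n := ext0 emb n fb
    refine ⟨dd n k, ?_, dd_dd n k, ?_⟩
    · intro σ hσ
      by_cases hjr : ∃ k, σ k = j
      · have : ∃ i₀, ∀ k, σ k ≠ i₀ := by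
          by_contra hcon
          push Not at hcon
          exact hσ hcon
        obtain ⟨i₀, hi₀⟩ := this
        have hne : i₀ ≠ j := by
          rintro rfl
          obtain ⟨k, hk⟩ := hjr
          exact hi₀ k hk
        exact dd_ext0_eq_zero j i₀ hne fb hfb_s σ hi₀
      · push Not at hjr
        obtain ⟨σ', rfl⟩ := exists_lift_of_forall_ne j σ hjr
        have h1 : dd n k (Subtype.val ∘ σ') = dd n (pull emb n k) σ' := rfl
        rw [h1, pull_ext0 hemb, hfb_c]
        rfl
    · rw [dd_apply, Fin.sum_univ_succ]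
      have h0 : σ₀ ∘ (0 : Fin (n + 2)).succAbove = emb ∘ τ₀ := by
        funext k
        simp [τ₀, emb]
      have hrest : ∀ i : Fin (n + 1), k (σ₀ ∘ i.succ.succAbove) = 0 := by
        intro i
        apply ext0_of_not
        rintro ⟨τ', hτ'⟩
        have h1 := congrFun hτ' 0
        simp only [Function.comp_apply, Fin.succ_succAbove_zero] at h1
        exact (τ' 0).2 h1
      simp only [hrest, smul_zero, Finset.sum_const_zero, add_zero, Fin.val_zero, pow_zero, one_smul]
      rw [h0]
      exact (ext0_emb hemb n fb τ₀).trans hfb_a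

/-- no `n`-tuple in a set with `n + 1` elements is surjective. -/
theorem not_surjective_of_card [Fintype ι] {n : ℕ} (hcard : Fintype.card ι = n + 1)
    (τ : Fin n → ι) : ¬ Function.Surjective τ := by
  intro h
  have := Fintype.card_le_of_surjective τ h
  rw [hcard, Fintype.card_fin] at this
  omega

end Main

end Groth.Agent.Lib.T2H5.CechComb
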