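import Mathlib
import Groth.Agent.Lib.Helper16CechH1

/-!
# Interface for vanishing of the second Čech cohomology on a space (helper5)

`exists_coboundary2`: if `Ȟ²(W, P) = 0`, any family `a k l m ∈ P(W k ⊓ W l ⊓ W m)` with the cocycle condition is
`b l m - b k m + b k l` for a family `b k l ∈ P(W k ⊓ W l)`.  (Degree-two companion of helper16's
`CechH1.exists_coboundary`.)
-/

set_option autoImplicit false
set_option linter.unusedSectionVars false
set_option linter.unusedVariables false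
universe u
open CategoryTheory

namespace Groth.Agent.Lib.T2H5.CechH2
open Opposite CategoryTheory.Limits TopologicalSpace Groth.Agent.Lib.Helper16.CechLow
  Groth.Agent.Lib.Helper16.CechH1

variable {X : TopCat.{u}} (P : (Opens X)ᵒᵖ ⥤ AddCommGrpCat.{u}) {κ : Type u} (W : κ → Opens X)

/-- restriction of `a (z p) (z q) (z r)` to `U_z`. -/
noncomputable def AA3 (a : ∀ k l m, P.obj (op (W k ⊓ W l ⊓ W m))) {n : ℕ} (z : Fin (n + 1) → κ)
    (p q r : Fin (n + 1)) : P.obj (op (Ux W z)) :=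
  P.map (homOfLE (le_inf (le_inf (Ux_le W z p) (Ux_le W z q)) (Ux_le W z r))).op (a (z p) (z q) (z r))

lemma face_AA3 (a : ∀ k l m, P.obj (op (W k ⊓ W l ⊓ W m))) {n : ℕ} (z : Fin (n + 2) → κ)
    (i : Fin (n + 2)) (p q r : Fin (n + 1)) :
    P.map (face W z i).op (AA3 P W a (z ∘ Fin.succAbove i) p q r) =
      AA3 P W a z (Fin.succAbove i p) (Fin.succAbove i q) (Fin.succAbove i r) := by
  have hle : Ux W z ≤ Ux W (z ∘ Fin.succAbove i) := (face W z i).le
  rw [map_hom_eq P (face W z i).op hle]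
  exact map_map P _ hle _

/-- the 2-cochain attached to a family on triple intersections. -/
noncomputable def cochain2 (a : ∀ k l m, P.obj (op (W k ⊓ W l ⊓ W m))) : (CK W P).X 2 :=
  mkElt W P 2 (fun x => AA3 P W a x 0 1 2)

/-- the inclusions of a quadruple intersection into the triple ones -/
lemma le4_123 (k l m n : κ) : W k ⊓ W l ⊓ W m ⊓ W n ≤ W l ⊓ W m ⊓ W n :=
  le_inf (le_inf (inf_le_left.trans (inf_le_left.trans inf_le_right)) (inf_le_left.trans inf_le_right))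
    inf_le_right

lemma le4_023 (k l m n : κ) : W k ⊓ W l ⊓ W m ⊓ W n ≤ W k ⊓ W m ⊓ W n :=
  le_inf (le_inf (inf_le_left.trans (inf_le_left.trans inf_le_left)) (inf_le_left.trans inf_le_right))
    inf_le_right

lemma le4_013 (k l m n : κ) : W k ⊓ W l ⊓ W m ⊓ W n ≤ W k ⊓ W l ⊓ W n :=
  le_inf (inf_le_left.trans inf_le_left) inf_le_right

lemma le4_012 (k l m n : κ) : W k ⊓ W l ⊓ W m ⊓ W n ≤ W k ⊓ W l ⊓ W m := inf_le_left

lemma cochain2_cocycle (a : ∀ k l m, P.obj (op (W k ⊓ W l ⊓ W m)))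
    (hcoc : ∀ k l m n,
      P.map (homOfLE (le4_123 W k l m n)).op (a l m n) -
      P.map (homOfLE (le4_023 W k l m n)).op (a k m n) +
      P.map (homOfLE (le4_013 W k l m n)).op (a k l n) -
      P.map (homOfLE (le4_012 W k l m n)).op (a k l m) = 0) :
    (CK W P).d 2 3 (cochain2 P W a) = 0 := by
  apply elt_ext W P 3
  intro z
  rw [d_pr_apply, map_zero]
  have h1 : ∀ i : Fin 4, P.map (face W z i).op (pr W P 2 (z ∘ Fin.succAbove i) (cochain2 P W a)) =
      AA3 P W a z (Fin.succAbove i 0) (Fin.succAbove i 1) (Fin.succAbove i 2) := by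
    intro i
    rw [cochain2, pr_mkElt]
    exact face_AA3 P W a z i 0 1 2
  simp only [h1]
  rw [Fin.sum_univ_four]
  have e00 : Fin.succAbove (0 : Fin 4) (0 : Fin 3) = 1 := by decide
  have e01 : Fin.succAbove (0 : Fin 4) (1 : Fin 3) = 2 := by decide
  have e02 : Fin.succAbove (0 : Fin 4) (2 : Fin 3) = 3 := by decide
  have e10 : Fin.succAbove (1 : Fin 4) (0 : Fin 3) = 0 := by decide
  have e11 : Fin.succAbove (1 : Fin 4) (1 : Fin 3) = 2 := by decide
  have e12 : Fin.succAbove (1 : Fin 4) (2 : Fin 3) = 3 := by decide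
  have e20 : Fin.succAbove (2 : Fin 4) (0 : Fin 3) = 0 := by decide
  have e21 : Fin.succAbove (2 : Fin 4) (1 : Fin 3) = 1 := by decide
  have e22 : Fin.succAbove (2 : Fin 4) (2 : Fin 3) = 3 := by decide
  have e30 : Fin.succAbove (3 : Fin 4) (0 : Fin 3) = 0 := by decide
  have e31 : Fin.succAbove (3 : Fin 4) (1 : Fin 3) = 1 := by decide
  have e32 : Fin.succAbove (3 : Fin 4) (2 : Fin 3) = 2 := by decide
  rw [e00, e01, e02, e10, e11, e12, e20, e21, e22, e30, e31, e32]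
  have hle : Ux W z ≤ W (z 0) ⊓ W (z 1) ⊓ W (z 2) ⊓ W (z 3) :=
    le_inf (le_inf (le_inf (Ux_le W z 0) (Ux_le W z 1)) (Ux_le W z 2)) (Ux_le W z 3)
  have hh := congrArg (P.map (homOfLE hle).op) (hcoc (z 0) (z 1) (z 2) (z 3))
  rw [map_sub, map_add, map_sub, map_zero, map_map, map_map, map_map, map_map] at hh
  have p0 : ((-1 : ℤ) ^ ((0 : Fin 4) : ℕ)) = 1 := by norm_num
  have p1 : ((-1 : ℤ) ^ ((1 : Fin 4) : ℕ)) = -1 := by norm_num
  have p2 : ((-1 : ℤ) ^ ((2 : Fin 4) : ℕ)) = 1 := by norm_num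
  have p3 : ((-1 : ℤ) ^ ((3 : Fin 4) : ℕ)) = -1 := by norm_num
  rw [p0, p1, p2, p3, one_smul, neg_smul, one_smul, neg_smul, one_smul]
  rw [AA3, AA3, AA3, AA3]
  rw [← hh]
  abel

/-- **Interface for `Ȟ² = 0`**: a family on triple intersections satisfying the cocycle condition is a
coboundary. -/
theorem exists_coboundary2 (hz : IsZero ((CK W P).homology 2))
    (a : ∀ k l m, P.obj (op (W k ⊓ W l ⊓ W m)))
    (hcoc : ∀ k l m n,
      P.map (homOfLE (le4_123 W k l m n)).op (a l m n) -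
      P.map (homOfLE (le4_023 W k l m n)).op (a k m n) +
      P.map (homOfLE (le4_013 W k l m n)).op (a k l n) -
      P.map (homOfLE (le4_012 W k l m n)).op (a k l m) = 0) :
    ∃ b : ∀ k l, P.obj (op (W k ⊓ W l)), ∀ k l m,
      a k l m =
        P.map (homOfLE (le_inf (inf_le_left.trans inf_le_right) inf_le_right :
          W k ⊓ W l ⊓ W m ≤ W l ⊓ W m)).op (b l m) -
        P.map (homOfLE (le_inf (inf_le_left.trans inf_le_left) inf_le_right :
          W k ⊓ W l ⊓ W m ≤ W k ⊓ W m)).op (b k m) +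
        P.map (homOfLE (inf_le_left : W k ⊓ W l ⊓ W m ≤ W k ⊓ W l)).op (b k l) := by
  obtain ⟨bb, hbb⟩ := exists_of_isZero_homology W P 1 hz (cochain2 P W a) (cochain2_cocycle P W a hcoc)
  have hb2 : ∀ k l : κ, W k ⊓ W l ≤ Ux W (![k, l] : Fin 2 → κ) := by
    intro k l
    refine le_Ux W (![k, l] : Fin 2 → κ) (W k ⊓ W l) (fun j => ?_)
    fin_cases j
    · exact (inf_le_left : W k ⊓ W l ≤ W k)
    · exact (inf_le_right : W k ⊓ W l ≤ W l)
  refine ⟨fun k l => P.map (homOfLE (hb2 k l)).op (pr W P 1 ![k, l] bb), ?_⟩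
  intro k l m
  let x : Fin 3 → κ := ![k, l, m]
  have h1 := congrArg (pr W P 2 x) hbb
  rw [d_pr_apply, cochain2, pr_mkElt, Fin.sum_univ_three] at h1
  have p0 : ((-1 : ℤ) ^ ((0 : Fin 3) : ℕ)) = 1 := by norm_num
  have p1 : ((-1 : ℤ) ^ ((1 : Fin 3) : ℕ)) = -1 := by norm_num
  have p2 : ((-1 : ℤ) ^ ((2 : Fin 3) : ℕ)) = 1 := by norm_num
  rw [p0, p1, p2, one_smul, neg_smul, one_smul, one_smul] at h1
  have h0 : x ∘ Fin.succAbove (0 : Fin 3) = ![l, m] := by
    funext j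
    fin_cases j <;> rfl
  have h1' : x ∘ Fin.succAbove (1 : Fin 3) = ![k, m] := by
    funext j
    fin_cases j <;> rfl
  have h2' : x ∘ Fin.succAbove (2 : Fin 3) = ![k, l] := by
    funext j
    fin_cases j <;> rfl
  have hle0 : Ux W x ≤ Ux W (x ∘ Fin.succAbove (0 : Fin 3)) := (face W x 0).le
  have hle1 : Ux W x ≤ Ux W (x ∘ Fin.succAbove (1 : Fin 3)) := (face W x 1).le
  have hle2 : Ux W x ≤ Ux W (x ∘ Fin.succAbove (2 : Fin 3)) := (face W x 2).le
  have hle0' : Ux W x ≤ Ux W (![l, m] : Fin 2 → κ) := h0 ▸ hle0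
  have hle1' : Ux W x ≤ Ux W (![k, m] : Fin 2 → κ) := h1' ▸ hle1
  have hle2' : Ux W x ≤ Ux W (![k, l] : Fin 2 → κ) := h2' ▸ hle2
  rw [map_hom_eq P (face W x 0).op hle0, map_hom_eq P (face W x 1).op hle1,
    map_hom_eq P (face W x 2).op hle2,
    pr_transport P W 1 h0 (Ux W x) hle0 hle0' bb, pr_transport P W 1 h1' (Ux W x) hle1 hle1' bb,
    pr_transport P W 1 h2' (Ux W x) hle2 hle2' bb] at h1
  -- restrict to `W k ⊓ W l ⊓ W m`
  have hklm : W k ⊓ W l ⊓ W m ≤ Ux W x := by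
    refine le_Ux W x _ (fun j => ?_)
    fin_cases j
    · exact ((inf_le_left : W k ⊓ W l ⊓ W m ≤ W k ⊓ W l).trans inf_le_left : W k ⊓ W l ⊓ W m ≤ W k)
    · exact ((inf_le_left : W k ⊓ W l ⊓ W m ≤ W k ⊓ W l).trans inf_le_right : W k ⊓ W l ⊓ W m ≤ W l)
    · exact (inf_le_right : W k ⊓ W l ⊓ W m ≤ W m)
  have h2 := congrArg (P.map (homOfLE hklm).op) h1
  rw [map_add, map_add, map_neg, map_map, map_map, map_map, AA3, map_map] at h2
  rw [map_map, map_map, map_map]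
  have h3 : P.map (homOfLE (hklm.trans (le_inf (le_inf (Ux_le W x 0) (Ux_le W x 1)) (Ux_le W x 2)))).op
      (a (x 0) (x 1) (x 2)) = a k l m := map_self P _ _
  rw [← h3, ← h2]
  abel

end Groth.Agent.Lib.T2H5.CechH2
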