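import Groth.Agent.Lib.T2H5CechPn

/-!
# The top Čech cohomology of `O(d)` on projective space (T2H5)

`Ȟ^n` of `O(d)` for the standard covering of `P^n_R` is identified with the finitely supported
functions on the set of multidegrees `e` of total degree `d` with all entries negative; the
identification sends the class of a cocycle `c` to the everywhere negative part of the Laurent
polynomial of the component of `c` at the tuple `(0, 1, …, n)`.
-/

set_option autoImplicit false
universe u

open CategoryTheory CategoryTheory.Limits AlgebraicGeometry TopologicalSpace Opposite MvPolynomial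

namespace Groth.Agent.Lib.T2H5.CechPn

open Groth.Agent.Lib.Helper27GrTildeSect Groth.Agent.Lib.T2H5.LaurentAlg
  Groth.Agent.Lib.T2H5.TwistSect Groth.Agent.Lib.T2H5.CechComb Groth.Agent.Lib.T2H5.CechLaurent
  Groth.Agent.Lib.Helper16.CechLow Groth.Agent.Lib.Helper16.CechH1

variable {n : ℕ} {R : Type u} [CommRing R] (d : ℤ)
variable {ι : Type u} (W : ι → (Proj (CohB1.polyGrading n R)).Opens) (v : ι ≃ Fin (n + 1))
variable (hW : ∀ i, W i = Proj.basicOpen (CohB1.polyGrading n R)
  (X (v i) : MvPolynomial (Fin (n + 1)) R))

/-- the set of everywhere negative multidegrees of total degree `d` -/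
def negDeg : Set (EE n) := {e | goodDeg d e ∧ negSet v e = Set.univ}

/-- the reference tuple `(0, 1, …, n)` -/
def refTuple : Fin (n + 1) → ι := v.symm

theorem refTuple_injective : Function.Injective (refTuple v) := v.symm.injective

open Classical in
/-- the residue: the everywhere negative part of the component at the reference tuple. -/
noncomputable def resHom : (CK W (PP (n := n) (R := R) d)).X n →+ (EE n →₀ R) :=
  (Finsupp.filterAddHom (fun e => negSet v e = Set.univ)).comp
    ((secC d W v hW (refTuple v)).comp (pr W (PP (n := n) (R := R) d) n (refTuple v)).hom)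

theorem resHom_apply (c : (CK W (PP (n := n) (R := R) d)).X n) :
    resHom d W v hW c = part (fun e => negSet v e = Set.univ) (toCoch d W v hW n c) (refTuple v) :=
  rfl

theorem resHom_mem (c : (CK W (PP (n := n) (R := R) d)).X n) :
    resHom d W v hW c ∈ Finsupp.supported R R (negDeg d v) := by
  rw [Finsupp.mem_supported]
  intro e he
  have he' : resHom d W v hW c e ≠ 0 := Finsupp.mem_support_iff.mp he
  rw [resHom_apply, part_apply] at he'
  by_cases hP : negSet v e = Set.univ
  · rw [if_pos hP] at he'
    exact ⟨(lSupp_toCoch d W v hW n c _ e he').1, hP⟩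
  · rw [if_neg hP] at he'
    exact absurd rfl he'

/-- the residue, with values in the functions supported on the everywhere negative multidegrees. -/
noncomputable def resHom' :
    (CK W (PP (n := n) (R := R) d)).X n →+ ↥(Finsupp.supported R R (negDeg d v)) :=
  (resHom d W v hW).codRestrict (Finsupp.supported R R (negDeg d v)).toAddSubgroup
    (resHom_mem d W v hW)

theorem resHom'_coe (c : (CK W (PP (n := n) (R := R) d)).X n) :
    (resHom' d W v hW c : EE n →₀ R) = resHom d W v hW c := rfl

section Top

variable [Fintype ι]

include hW in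
/-- the top Čech cohomology group of `O(d)`. -/
theorem exists_addEquiv_top (hd : d < 0) :
    ∃ Θ : ↑((CK W (PP (n := n) (R := R) d)).homology n) ≃+
        ↥(Finsupp.supported R R (negDeg d v)),
      ∀ z : ↑((CK W (PP (n := n) (R := R) d)).cycles n),
        Θ ((CK W (PP (n := n) (R := R) d)).homologyπ n z) =
          resHom' d W v hW ((CK W (PP (n := n) (R := R) d)).iCycles n z) := by
  have hcard : Fintype.card ι = n + 1 := card_eq v
  cases n with
  | zero =>
    refine Groth.Agent.Lib.T2H5.CechCrit.exists_addEquiv_homology 0 0 (by simp)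
      (resHom' d W v hW) ?_ ?_ ?_
    · intro b
      have h0 : (CK W (PP (n := 0) (R := R) d)).d 0 0 = 0 :=
        (CK W (PP (n := 0) (R := R) d)).shape 0 0 (by simp)
      rw [h0]
      exact map_zero _
    · intro c hc hρ
      refine ⟨0, ?_⟩
      rw [map_zero]
      symm
      apply toCoch_injective d W v hW 0
      rw [toCoch_zero]
      funext x
      have hx : x = refTuple v := by
        funext k
        apply v.injective
        exact (Fin.fin_one_eq_zero _).trans (Fin.fin_one_eq_zero _).symm
      subst hx
      ext e
      by_contra hne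
      have hne' : toCoch d W v hW 0 c (refTuple v) e ≠ 0 := hne
      obtain ⟨hg, -⟩ := lSupp_toCoch d W v hW 0 c _ e hne'
      have hP : negSet v e = Set.univ := by
        apply Set.eq_univ_of_forall
        intro i
        change e (v i) < 0
        have h1 : ∑ j, e j = d := hg
        rw [Fin.sum_univ_one] at h1
        rw [Fin.fin_one_eq_zero (v i), h1]
        exact hd
      have h2 := congrArg (fun a : ↥(Finsupp.supported R R (negDeg d v)) => (a : EE 0 →₀ R) e) hρ
      simp only [resHom'_coe, resHom_apply, part_apply, if_pos hP] at h2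
      exact hne' h2
    · intro a
      obtain ⟨f, hf_s, hf_c, hf_a⟩ := exists_cocycle_res (neg := negSet v) (good := goodDeg d)
        hcard (refTuple v) (refTuple_injective v) a.1 (fun e he =>
          (Finsupp.mem_supported R a.1).mp a.2 (Finsupp.mem_support_iff.mpr he))
      obtain ⟨c, hc⟩ := exists_toCoch_eq d W v hW 0 f hf_s
      refine ⟨c, ?_, ?_⟩
      · apply toCoch_injective d W v hW 1
        rw [toCoch_d, hc, hf_c, toCoch_zero]
      · apply Subtype.ext
        rw [resHom'_coe, resHom_apply, hc, hf_a]
  | succ m =>
    refine Groth.Agent.Lib.T2H5.CechCrit.exists_addEquiv_homology (m + 1) m (by simp)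
      (resHom' d W v hW) ?_ ?_ ?_
    · intro b
      apply Subtype.ext
      rw [resHom'_coe, resHom_apply, toCoch_d]
      exact res_dd_eq_zero hcard _ (lSupp_toCoch d W v hW m b) _
    · intro c hc hρ
      have hcoc : dd (m + 1) (toCoch d W v hW (m + 1) c) = 0 := by
        rw [← toCoch_d, hc, toCoch_zero]
      have hρ' : part (fun e => negSet v e = Set.univ) (toCoch d W v hW (m + 1) c) (refTuple v) =
          0 := by
        have := congrArg (fun a : ↥(Finsupp.supported R R (negDeg d v)) => (a : EE (m + 1) →₀ R)) hρ
        exact this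
      obtain ⟨g, hg_s, hg⟩ := exists_cobound hcard m (toCoch d W v hW (m + 1) c)
        (lSupp_toCoch d W v hW (m + 1) c) hcoc
        (Or.inr (Or.inr ⟨refTuple v, refTuple_injective v, hρ'⟩))
      obtain ⟨b, hb⟩ := exists_toCoch_eq d W v hW m g hg_s
      refine ⟨b, toCoch_injective d W v hW (m + 1) ?_⟩
      rw [toCoch_d, hb, hg]
    · intro a
      obtain ⟨f, hf_s, hf_c, hf_a⟩ := exists_cocycle_res (neg := negSet v) (good := goodDeg d)
        hcard (refTuple v) (refTuple_injective v) a.1 (fun e he =>
          (Finsupp.mem_supported R a.1).mp a.2 (Finsupp.mem_support_iff.mpr he))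
      obtain ⟨c, hc⟩ := exists_toCoch_eq d W v hW (m + 1) f hf_s
      refine ⟨c, ?_, ?_⟩
      · apply toCoch_injective d W v hW (m + 2)
        rw [toCoch_d, hc, hf_c, toCoch_zero]
      · apply Subtype.ext
        rw [resHom'_coe, resHom_apply, hc, hf_a]

theorem cechMap_pr {C : Type*} [Category C] [HasFiniteProducts C] {κ : Type u} (V : κ → C)
    {P Q : Cᵒᵖ ⥤ AddCommGrpCat.{u}} (τ : P ⟶ Q) (q : ℕ) (x : Fin (q + 1) → κ) :
    ((cechComplexFunctor V).map τ).f q ≫ pr V Q q x = pr V P q x ≫ τ.app (op (Ux V x)) := by
  have h : ((cechComplexFunctor V).map τ).f q =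
      Limits.Pi.map (fun (x : Fin (q + 1) → κ) => τ.app (op (Ux V x))) := rfl
  rw [h]
  exact Limits.Pi.map_π _ _

omit [Fintype ι] in
/-- the residue is compatible with multiplication by scalars. -/
theorem resHom'_smul (τ : PP (n := n) (R := R) d ⟶ PP (n := n) (R := R) d) (r : R)
    (hτ : ∀ s : (PP (n := n) (R := R) d).obj (op (Ux W (refTuple v))),
      τ.app (op (Ux W (refTuple v))) s = constOn (Ux W (refTuple v)) r • s)
    (c : (CK W (PP (n := n) (R := R) d)).X n) :
    resHom' d W v hW (((cechComplexFunctor W).map τ).f n c) = r • resHom' d W v hW c := by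
  apply Subtype.ext
  rw [resHom'_coe, Submodule.coe_smul, resHom'_coe]
  have h1 : pr W (PP (n := n) (R := R) d) n (refTuple v) (((cechComplexFunctor W).map τ).f n c) =
      τ.app (op (Ux W (refTuple v))) (pr W (PP (n := n) (R := R) d) n (refTuple v) c) :=
    ConcreteCategory.congr_hom (cechMap_pr W τ n (refTuple v)) c
  change Finsupp.filter _ (secC d W v hW (refTuple v) (pr W _ n (refTuple v) _)) =
    r • Finsupp.filter _ (secC d W v hW (refTuple v) (pr W _ n (refTuple v) c))
  rw [h1, hτ, secC_apply, secC_apply, secΛ_smul, AddMonoidAlgebra.coeff_smul, Finsupp.filter_smul]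

end Top

end Groth.Agent.Lib.T2H5.CechPn
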