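import Groth.Agent.S0013
import Groth.Agent.Lib.T2H5CechPnTop

/-!
# Čech cohomology computes cohomology, compatibly with endomorphisms of the sheaf (T2H5)

A version of the Čech-to-derived comparison (`S0464`, `S0013`) which records that the
comparison isomorphism commutes with the maps induced by endomorphisms of the sheaf; for a module
over a scheme over `Spec R` this gives `R`-linearity of the comparison.
-/

set_option autoImplicit false
universe u

open CategoryTheory CategoryTheory.Limits TopologicalSpace Opposite Abelian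

namespace Groth.Agent.Lib.T2H5.CechNat

open Groth.Agent.Lib.Helper16.CechLow Groth.Agent.Lib.Helper16.CechH1
  Groth.Agent.Lib.Helper16.CechCmp Groth.Agent.Lib.Helper16.CechLES
  Groth.Agent.Lib.Helper23.AffVanish Groth.Agent.Lib.T2H5.CechPn

section Cmp

variable {X : TopCat.{u}} {P Q : (Opens X)ᵒᵖ ⥤ AddCommGrpCat.{u}} (τ : P ⟶ Q) {W : Opens X}
  {ι : Type u} (Y : ι → Over W)

theorem cxFunctor_map_eq :
    (CechEdge.cxFunctor Y).map τ =
      (cechComplexFunctor Y).map (Functor.whiskerLeft (Over.forget W).op τ) := rfl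

/-- the comparison of Čech complexes (opens vs. the over category) is natural in the presheaf. -/
theorem isoCx_naturality :
    (cechComplexFunctor (UY Y)).map τ ≫ (isoCx Q Y).hom =
      (isoCx P Y).hom ≫ (CechEdge.cxFunctor Y).map τ := by
  apply HomologicalComplex.hom_ext
  intro n
  refine Pi.hom_ext _ _ (fun (x : Fin (n + 1) → ι) => ?_)
  have h1 : (((cechComplexFunctor (UY Y)).map τ ≫ (isoCx Q Y).hom).f n) ≫ pr Y (PW Q) n x =
      pr (UY Y) P n x ≫ τ.app (op (Ux (UY Y) x)) ≫ toPW Q Y x := by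
    have e : (isoCx Q Y).hom.f n = homX Q Y n := rfl
    rw [HomologicalComplex.comp_f, e, Category.assoc, homX_pr, ← Category.assoc, cechMap_pr,
      Category.assoc]
  have h2 : (((isoCx P Y).hom ≫ (CechEdge.cxFunctor Y).map τ).f n) ≫ pr Y (PW Q) n x =
      pr (UY Y) P n x ≫ toPW P Y x ≫ τ.app (op (Ux Y x).left) := by
    have e : (isoCx P Y).hom.f n = homX P Y n := rfl
    rw [HomologicalComplex.comp_f, e, Category.assoc, cxFunctor_map_eq,
      cechMap_pr Y (Functor.whiskerLeft (Over.forget W).op τ) n x, ← Category.assoc, homX_pr,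
      Category.assoc]
    rfl
  refine h1.trans (Eq.trans ?_ h2.symm)
  congr 1
  exact (τ.naturality _).symm

theorem isoH_naturality (p : ℕ) (x : CohTop.cechH P (UY Y) p) :
    (isoH Q Y p).hom (HomologicalComplex.homologyMap ((cechComplexFunctor (UY Y)).map τ) p x) =
      CechEdge.cechHMap Y τ p ((isoH P Y p).hom x) := by
  have h := congrArg (fun f => HomologicalComplex.homologyMap f p) (isoCx_naturality τ Y)
  simp only [HomologicalComplex.homologyMap_comp] at h
  exact ConcreteCategory.congr_hom h x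

end Cmp

section Edge

variable {C : Type u} [SmallCategory C] [HasPullbacks C] {J : GrothendieckTopology C}

omit [HasPullbacks C] in
theorem HUmap_comp {F G H : Sheaf J AddCommGrpCat.{u}} (f : F ⟶ G) (g : G ⟶ H) (p : ℕ) (U : C)
    (x : CohSite.HU F p U) :
    CechEdge.HUmap (f ≫ g) p U x = CechEdge.HUmap g p U (CechEdge.HUmap f p U x) := by
  unfold CechEdge.HUmap
  rw [Functor.map_comp, NatTrans.comp_app]
  rfl

/-- the edge map of a sheaf is natural in the sheaf. -/
theorem edgeSh_naturality {U : C} {ι : Type u} {Y : ι → Over U}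
    (e : ∀ (P : Cᵒᵖ ⥤ AddCommGrpCat.{u}) (p : ℕ),
      CohCx.cechH P Y p →+ CohSite.HU (CechEdge.shf J P) p U)
    (he : CechEdge.IsEdge J Y e) {F G : Sheaf J AddCommGrpCat.{u}} (τ : F ⟶ G) (p : ℕ)
    (x : CohCx.cechH F.obj Y p) :
    CechEdge.edgeSh e G p (CechEdge.cechHMap Y τ.hom p x) =
      CechEdge.HUmap τ p U (CechEdge.edgeSh e F p x) := by
  unfold CechEdge.edgeSh
  rw [AddMonoidHom.comp_apply, AddMonoidHom.comp_apply, he.natural F.obj G.obj τ.hom p x,
    ← HUmap_comp, ← HUmap_comp]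
  have hnat : CechEdge.shfMap J τ.hom ≫
      (sheafificationAdjunction J AddCommGrpCat.{u}).counit.app G =
      (sheafificationAdjunction J AddCommGrpCat.{u}).counit.app F ≫ τ :=
    (sheafificationAdjunction J AddCommGrpCat.{u}).counit.naturality τ
  rw [hnat]

end Edge

section Top

variable {X : TopCat.{u}}

/-- transport of `H^p(V, F)` along an equality of opens. -/
noncomputable def castHU (F : CohTop.Ab X) (p : ℕ) {V V' : Opens X} (h : V = V') :
    CohSite.HU F p V ≃+ CohSite.HU F p V' := by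
  subst h
  exact AddEquiv.refl _

theorem castHU_naturality {F G : CohTop.Ab X} (τ : F ⟶ G) (p : ℕ) {V V' : Opens X} (h : V = V')
    (x : CohSite.HU F p V) :
    castHU G p h (CechEdge.HUmap τ p V x) = CechEdge.HUmap τ p V' (castHU F p h x) := by
  subst h
  rfl

theorem HETopEquivH_naturality {F G : CohTop.Ab X} (τ : F ⟶ G) (p : ℕ) (x : HE F p ⊤) :
    HETopEquivH X G p (CechEdge.HUmap τ p ⊤ x) = Sheaf.H.map τ p (HETopEquivH X F p x) := by
  change (Ext.mk₀ (wTop X)).comp (x.comp (Ext.mk₀ τ) (add_zero p)) (zero_add p) =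
    ((Ext.mk₀ (wTop X)).comp x (zero_add p)).comp (Ext.mk₀ τ) (add_zero p)
  exact (Ext.comp_assoc _ _ _ (zero_add p) (add_zero p) (by omega)).symm

/-- Čech cohomology of a covering with acyclic finite intersections computes cohomology,
compatibly with endomorphisms of the sheaf. -/
theorem exists_equiv_natural (F : CohTop.Ab X) {ι : Type u} (U : ι → Opens X) (hcov : iSup U = ⊤)
    (h : ∀ (p : ℕ) (a : Fin (p + 1) → ι) (q : ℕ),
      Subsingleton (CohTop.HU F (q + 1) (iInf fun k => U (a k))))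
    (p : ℕ) :
    ∃ Ψ : CohTop.cechH F.obj U p ≃+ CohTop.H F p, ∀ (τ : F ⟶ F) (x : CohTop.cechH F.obj U p),
      Ψ (HomologicalComplex.homologyMap ((cechComplexFunctor U).map τ.hom) p x) =
        Sheaf.H.map τ p (Ψ x) := by
  let Y := fam U (iSup U) (le_iSup U)
  have hY : Sieve.ofArrows (fun i => (Y i).left) (fun i => (Y i).hom) ∈
      Opens.grothendieckTopology X (iSup U) := covering_of_iSup Y le_rfl
  have hh : ∀ (p : ℕ) (a : Fin (p + 1) → ι) (q : ℕ),
      Subsingleton (CohSite.HU F (q + 1) (∏ᶜ fun k => Y (a k)).left) := by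
    intro p a q
    have e : (∏ᶜ fun k => Y (a k)).left = iInf fun k => U (a k) := by
      rw [← Groth.Agent.S0493.prod_eq_iInf]
      exact le_antisymm (left_le Y a) (le_left Y a)
    rw [e]
    exact h p a q
  obtain ⟨e, he⟩ := Groth.Agent.S16019.result (Opens.grothendieckTopology X) Y hY
  have hbij := Groth.Agent.S16022.result (Opens.grothendieckTopology X) Y e he F hh p
  let Ψ1 : CohTop.cechH F.obj U p ≃+ CohCx.cechH F.obj Y p :=
    (isoH' F.obj U (iSup U) (le_iSup U) p).addCommGroupIsoToAddEquiv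
  let Ψ2 : CohCx.cechH F.obj Y p ≃+ CohSite.HU F p (iSup U) :=
    AddEquiv.ofBijective (CechEdge.edgeSh e F p) hbij
  let Ψ3 : CohSite.HU F p (iSup U) ≃+ CohSite.HU F p ⊤ := castHU F p hcov
  let Ψ4 : HE F p ⊤ ≃+ CohTop.H F p := HETopEquivH X F p
  refine ⟨Ψ1.trans (Ψ2.trans (Ψ3.trans Ψ4)), fun τ x => ?_⟩
  change Ψ4 (Ψ3 (Ψ2 (Ψ1 (HomologicalComplex.homologyMap ((cechComplexFunctor U).map τ.hom) p x)))) =
    Sheaf.H.map τ p (Ψ4 (Ψ3 (Ψ2 (Ψ1 x))))
  have h1 : Ψ1 (HomologicalComplex.homologyMap ((cechComplexFunctor U).map τ.hom) p x) =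
      CechEdge.cechHMap Y τ.hom p (Ψ1 x) := isoH_naturality τ.hom Y p x
  have h2 : Ψ2 (CechEdge.cechHMap Y τ.hom p (Ψ1 x)) =
      CechEdge.HUmap τ p (iSup U) (Ψ2 (Ψ1 x)) := edgeSh_naturality e he τ p (Ψ1 x)
  have h3 : Ψ3 (CechEdge.HUmap τ p (iSup U) (Ψ2 (Ψ1 x))) =
      CechEdge.HUmap τ p ⊤ (Ψ3 (Ψ2 (Ψ1 x))) := castHU_naturality τ p hcov _
  rw [h1, h2, h3]
  exact HETopEquivH_naturality τ p _

end Top

end Groth.Agent.Lib.T2H5.CechNat
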