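import Mathlib
set_option backward.isDefEq.respectTransparency.types false

/-!
# T2H5DimOneAff (helper5): retrocompact opens are locally basic opens near points whose local ring is
Noetherian of dimension at most one.

Namespace `Groth.Agent.Lib.T2H5.DimOneAff`.
-/

set_option autoImplicit false
set_option linter.style.haveILetI false
set_option linter.unusedSectionVars false
set_option linter.unusedVariables false
universe u
open CategoryTheory CategoryTheory.Limits AlgebraicGeometry TopologicalSpace Opposite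

namespace Groth.Agent.Lib.T2H5.DimOneAff

/-- in a Noetherian local ring of dimension at most one, the zero locus of an ideal contained in the maximal
ideal is the zero locus of one of its elements -/
theorem exists_mem_iff_le {R : Type u} [CommRing R] [IsLocalRing R] [IsNoetherianRing R]
    (hd : ringKrullDim R ≤ 1) (𝔞 : Ideal R) (h𝔞 : 𝔞 ≤ IsLocalRing.maximalIdeal R) :
    ∃ f ∈ 𝔞, ∀ q : Ideal R, q.IsPrime → (f ∈ q ↔ 𝔞 ≤ q) := by
  classical
  have hfin : (minimalPrimes R).Finite := minimalPrimes.finite_of_isNoetherianRing R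
  let T : Finset (Ideal R) := hfin.toFinset.filter (fun q => ¬ 𝔞 ≤ q)
  have hT : ∀ q ∈ T, q.IsPrime := by
    intro q hq
    have h1 := hfin.mem_toFinset.1 (Finset.mem_filter.1 hq).1
    exact h1.1.1
  have hav : ¬ ((𝔞 : Set R) ⊆ ⋃ q ∈ (↑T : Set (Ideal R)), ((fun q : Ideal R => q) q : Set R)) := by
    intro hsub
    obtain ⟨q, hq, hle⟩ := (Ideal.subset_union_prime (s := T) (f := fun q : Ideal R => q) ⊥ ⊥
      (fun q hq _ _ => hT q hq)).1 hsub
    exact (Finset.mem_filter.1 hq).2 hle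
  obtain ⟨f, hf𝔞, hfT⟩ := Set.not_subset.1 hav
  refine ⟨f, hf𝔞, fun q hq => ⟨fun hfq => ?_, fun hle => hle hf𝔞⟩⟩
  by_contra hnle
  have hKD : Ring.KrullDimLE 1 R := Ring.krullDimLE_iff.2 (by simpa using hd)
  rcases Ring.krullDimLE_one_iff.1 hKD q hq with hmin | hmax
  · apply hfT
    simp only [Set.mem_iUnion]
    exact ⟨q, Finset.mem_coe.2 (Finset.mem_filter.2 ⟨hfin.mem_toFinset.2 hmin, hnle⟩), hfq⟩
  · have : q = IsLocalRing.maximalIdeal R := IsLocalRing.eq_maximalIdeal hmax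
    exact hnle (this ▸ h𝔞)

/-- spreading out an inclusion of zero loci from the localization at a prime to a basic open neighbourhood -/
theorem exists_spread {A : Type u} [CommRing A] (p : Ideal A) [p.IsPrime] (R : Type u) [CommRing R] [Algebra A R]
    [IsLocalization.AtPrime R p] (I₂ : Ideal A) (G : Finset A)
    (hG : ∀ b ∈ G, algebraMap A R b ∈ (I₂.map (algebraMap A R)).radical) :
    ∃ h : A, h ∉ p ∧ ∀ q : Ideal A, q.IsPrime → h ∉ q → I₂ ≤ q → ∀ b ∈ G, b ∈ q := by
  classical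
  induction G using Finset.induction_on with
  | empty => exact ⟨1, fun h1 => (Ideal.IsPrime.ne_top inferInstance) (p.eq_top_of_isUnit_mem h1 isUnit_one),
      fun q _ _ _ b hb => absurd hb (Finset.notMem_empty b)⟩
  | insert b G hbG ih =>
    obtain ⟨h₀, hh₀, H₀⟩ := ih (fun b' hb' => hG b' (Finset.mem_insert_of_mem hb'))
    obtain ⟨N, hN⟩ := hG b (Finset.mem_insert_self b G)
    rw [← map_pow] at hN
    obtain ⟨⟨a, s⟩, has⟩ := (IsLocalization.mem_map_algebraMap_iff p.primeCompl R).1 hN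
    rw [← map_mul] at has
    obtain ⟨c, hc⟩ := (IsLocalization.eq_iff_exists p.primeCompl R).1 has
    refine ⟨h₀ * ((c : A) * (s : A)), ?_, ?_⟩
    · intro hmem
      rcases (Ideal.IsPrime.mem_or_mem inferInstance hmem) with h1 | h1
      · exact hh₀ h1
      · rcases (Ideal.IsPrime.mem_or_mem inferInstance h1) with h2 | h2
        · exact c.2 h2
        · exact s.2 h2
    · intro q hq hhq hI b' hb'
      have hh₀q : h₀ ∉ q := fun h1 => hhq (q.mul_mem_right _ h1)
      have hcsq : (c : A) * (s : A) ∉ q := fun h1 => hhq (q.mul_mem_left _ h1)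
      rcases Finset.mem_insert.1 hb' with rfl | hb'
      · have h1 : (c : A) * (b' ^ N * (s : A)) ∈ q := by
          rw [hc]; exact q.mul_mem_left _ (hI a.2)
        have h2 : b' ^ N * ((c : A) * (s : A)) ∈ q := by
          have : b' ^ N * ((c : A) * (s : A)) = (c : A) * (b' ^ N * (s : A)) := by ring
          rw [this]; exact h1
        rcases hq.mem_or_mem h2 with h3 | h3
        · exact hq.mem_of_pow_mem N h3
        · exact absurd h3 hcsq
      · exact H₀ q hq hh₀q hI b' hb'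

/-- **The algebraic heart.** Let `p` be a prime of `A` with `A_p` Noetherian of dimension at most one and `J ≤ p` a
finitely generated ideal. Then there are `f` and `h ∉ p` such that on `D(h)` the zero loci of `J` and of `f`
coincide. -/
theorem exists_basicOpen_eq {A : Type u} [CommRing A] (p : Ideal A) [p.IsPrime] (R : Type u) [CommRing R]
    [Algebra A R] [IsLocalization.AtPrime R p] [IsNoetherianRing R] (hd : ringKrullDim R ≤ 1)
    (J : Ideal A) (hJ : J.FG) (hJp : J ≤ p) :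
    ∃ f h : A, h ∉ p ∧ ∀ q : Ideal A, q.IsPrime → h ∉ q → (f ∈ q ↔ J ≤ q) := by
  classical
  haveI : IsLocalRing R := IsLocalization.AtPrime.isLocalRing R p
  have h𝔞 : J.map (algebraMap A R) ≤ IsLocalRing.maximalIdeal R := by
    rw [← IsLocalization.AtPrime.map_eq_maximalIdeal p R]
    exact Ideal.map_mono hJp
  obtain ⟨f', hf'J, hf'⟩ := exists_mem_iff_le hd _ h𝔞
  obtain ⟨⟨f, s⟩, hfs⟩ := IsLocalization.surj p.primeCompl f'
  have hsu : IsUnit (algebraMap A R (s : A)) := IsLocalization.map_units R s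
  have hiff : ∀ Q : Ideal R, (algebraMap A R f ∈ Q ↔ f' ∈ Q) := by
    intro Q
    rw [← hfs]
    constructor
    · intro h1
      obtain ⟨v, hv⟩ := hsu
      have : f' = f' * algebraMap A R (s : A) * (↑v⁻¹ : R) := by
        rw [mul_assoc, ← hv, Units.mul_inv, mul_one]
      rw [this]; exact Q.mul_mem_right _ h1
    · intro h1; exact Q.mul_mem_right _ h1
  obtain ⟨G, hG⟩ := hJ
  -- first spreading: generators of `J` vanish where `f` does
  have h1 : ∀ b ∈ G, algebraMap A R b ∈ ((Ideal.span {f}).map (algebraMap A R)).radical := by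
    intro b hb
    rw [Ideal.radical_eq_sInf]
    refine Submodule.mem_sInf.2 (fun Q hQ => ?_)
    have hfQ : algebraMap A R f ∈ Q := hQ.1 (Ideal.mem_map_of_mem _ (Ideal.mem_span_singleton_self f))
    have hJQ : J.map (algebraMap A R) ≤ Q := (hf' Q hQ.2).1 ((hiff Q).1 hfQ)
    exact hJQ (Ideal.mem_map_of_mem _ (hG ▸ Ideal.subset_span hb))
  obtain ⟨h₁, hh₁, H₁⟩ := exists_spread p R (Ideal.span {f}) G h1
  have h2 : ∀ b ∈ ({f} : Finset A), algebraMap A R b ∈ (J.map (algebraMap A R)).radical := by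
    intro b hb
    rw [Finset.mem_singleton] at hb
    subst hb
    rw [Ideal.radical_eq_sInf]
    refine Submodule.mem_sInf.2 (fun Q hQ => ?_)
    exact (hiff Q).2 ((hf' Q hQ.2).2 hQ.1)
  obtain ⟨h₂, hh₂, H₂⟩ := exists_spread p R J {f} h2
  refine ⟨f, h₁ * h₂, ?_, fun q hq hhq => ⟨fun hfq => ?_, fun hJq => ?_⟩⟩
  · intro hmem
    rcases (Ideal.IsPrime.mem_or_mem inferInstance hmem) with h3 | h3
    · exact hh₁ h3
    · exact hh₂ h3
  · have hh₁q : h₁ ∉ q := fun h3 => hhq (q.mul_mem_right _ h3)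
    rw [← hG, Ideal.span_le]
    intro b hb
    exact H₁ q hq hh₁q ((Ideal.span_singleton_le_iff_mem _).2 hfq) b hb
  · have hh₂q : h₂ ∉ q := fun h3 => hhq (q.mul_mem_left _ h3)
    exact H₂ q hq hh₂q hJq f (Finset.mem_singleton_self f)

section geom
variable (X : Scheme.{u})

/-- `U ∩ V₀` is compact for a retrocompact open `U` and an affine open `V₀` -/
theorem isCompact_inf (U : X.Opens) [QuasiCompact U.ι] (V₀ : X.Opens) (hV₀ : IsAffineOpen V₀) :
    IsCompact ((U ⊓ V₀ : X.Opens) : Set X) := by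
  have h1 : IsCompact (U.ι ⁻¹' (V₀ : Set X)) :=
    QuasiCompact.isCompact_preimage (f := U.ι) _ V₀.isOpen hV₀.isCompact
  have h2 := h1.image U.ι.continuous
  convert h2 using 1
  ext y
  constructor
  · rintro ⟨hyU, hyV⟩
    exact ⟨⟨y, hyU⟩, hyV, rfl⟩
  · rintro ⟨z, hz, rfl⟩
    exact ⟨z.2, hz⟩

theorem mem_basicOpen_iff {V₀ : X.Opens} (hV₀ : IsAffineOpen V₀) (g : Γ(X, V₀)) (y : X) (hy : y ∈ V₀) :
    y ∈ X.basicOpen g ↔ g ∉ (hV₀.primeIdealOf ⟨y, hy⟩).asIdeal := by
  have h1 : hV₀.fromSpec (hV₀.primeIdealOf ⟨y, hy⟩) = y := hV₀.fromSpec_primeIdealOf ⟨y, hy⟩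
  have h2 : (hV₀.primeIdealOf ⟨y, hy⟩ ∈ hV₀.fromSpec ⁻¹ᵁ X.basicOpen g) ↔ y ∈ X.basicOpen g := by
    change hV₀.fromSpec (hV₀.primeIdealOf ⟨y, hy⟩) ∈ X.basicOpen g ↔ _
    rw [h1]
  rw [← h2, hV₀.fromSpec_preimage_basicOpen]
  exact PrimeSpectrum.mem_basicOpen _ _

/-- **Near a point outside a retrocompact open `U` whose local ring is Noetherian of dimension at most one, `U` is a
basic open**: inside any affine open neighbourhood `V₀` of the point there are functions `f, h` with `x ∈ D(h)` and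
`U ∩ D(h) = D(f h)`. -/
theorem exists_inf_basicOpen_eq (U : X.Opens) [QuasiCompact U.ι] (x : X) (hx : x ∉ U)
    (hN : IsNoetherianRing (X.presheaf.stalk x)) (hd : ringKrullDim (X.presheaf.stalk x) ≤ 1)
    (V₀ : X.Opens) (hV₀ : IsAffineOpen V₀) (hxV₀ : x ∈ V₀) :
    ∃ f h : Γ(X, V₀), x ∈ X.basicOpen h ∧ U ⊓ X.basicOpen h = X.basicOpen (f * h) := by
  set φ := hV₀.fromSpec with hφ
  have hrange : Set.range φ = (V₀ : Set X) := hV₀.range_fromSpec
  have hpre : φ ⁻¹' (U : Set X) = φ ⁻¹' ((U ⊓ V₀ : X.Opens) : Set X) := by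
    ext q
    constructor
    · intro hq
      exact ⟨hq, hrange ▸ Set.mem_range_self q⟩
    · intro hq
      exact hq.1
  have hc : IsCompact (φ ⁻¹' (U : Set X)) := by
    rw [hpre]
    refine (φ.isOpenEmbedding.isInducing.isCompact_preimage_iff ?_).2 (isCompact_inf X U V₀ hV₀)
    rw [hrange]
    exact fun y hy => hy.2
  have ho : IsOpen (φ ⁻¹' (U : Set X)) := U.isOpen.preimage φ.continuous
  obtain ⟨J, hJfg, hJ⟩ := PrimeSpectrum.isCompact_isOpen_iff_ideal.1 ⟨hc, ho⟩
  have hmemW : ∀ (y : X) (hy : y ∈ V₀), y ∈ U ↔ ¬ J ≤ (hV₀.primeIdealOf ⟨y, hy⟩).asIdeal := by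
    intro y hy
    have h1 : hV₀.fromSpec (hV₀.primeIdealOf ⟨y, hy⟩) = y := hV₀.fromSpec_primeIdealOf ⟨y, hy⟩
    have h2 : hV₀.primeIdealOf ⟨y, hy⟩ ∈ φ ⁻¹' (U : Set X) ↔ y ∈ U := by
      change φ (hV₀.primeIdealOf ⟨y, hy⟩) ∈ U ↔ _
      rw [hφ, h1]
    rw [← h2, ← hJ]
    exact Iff.rfl
  set p := hV₀.primeIdealOf ⟨x, hxV₀⟩ with hp
  have hJp : J ≤ p.asIdeal := by
    by_contra hcon
    exact hx ((hmemW x hxV₀).2 hcon)
  obtain ⟨f, h, hhp, H⟩ := @exists_basicOpen_eq _ _ p.asIdeal _ (X.presheaf.stalk x) _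
    (TopCat.Presheaf.algebra_section_stalk X.presheaf ⟨x, hxV₀⟩) (hV₀.isLocalization_stalk ⟨x, hxV₀⟩) hN hd
    J hJfg hJp
  refine ⟨f, h, (mem_basicOpen_iff X hV₀ h x hxV₀).2 hhp, ?_⟩
  ext y
  constructor
  · rintro ⟨hyU, hyh⟩
    have hyV : y ∈ V₀ := X.basicOpen_le h hyh
    have h1 := (mem_basicOpen_iff X hV₀ h y hyV).1 hyh
    have h2 := (hmemW y hyV).1 hyU
    have h3 : f ∉ (hV₀.primeIdealOf ⟨y, hyV⟩).asIdeal := fun h4 => h2 ((H _ inferInstance h1).1 h4)
    refine (mem_basicOpen_iff X hV₀ (f * h) y hyV).2 (fun h4 => ?_)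
    rcases (Ideal.IsPrime.mem_or_mem inferInstance h4) with h5 | h5
    · exact h3 h5
    · exact h1 h5
  · intro hy
    have hyV : y ∈ V₀ := X.basicOpen_le (f * h) hy
    have h1 := (mem_basicOpen_iff X hV₀ (f * h) y hyV).1 hy
    have h2 : h ∉ (hV₀.primeIdealOf ⟨y, hyV⟩).asIdeal := fun h4 => h1 (Ideal.mul_mem_left _ _ h4)
    have h3 : f ∉ (hV₀.primeIdealOf ⟨y, hyV⟩).asIdeal := fun h4 => h1 (Ideal.mul_mem_right _ _ h4)
    refine ⟨(hmemW y hyV).2 (fun h4 => h3 ((H _ inferInstance h2).2 h4)), ?_⟩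
    exact (mem_basicOpen_iff X hV₀ h y hyV).2 h2

/-- **A retrocompact open immersion into a scheme whose local rings outside the open are Noetherian of dimension at most
one is an affine morphism.** -/
theorem isAffineHom_ι (U : X.Opens) [QuasiCompact U.ι]
    (hX : ∀ x : X, x ∉ U → IsNoetherianRing (X.presheaf.stalk x) ∧ ringKrullDim (X.presheaf.stalk x) ≤ 1) :
    IsAffineHom U.ι := by
  apply isAffineHom_of_forall_exists_isAffineOpen
  intro x
  by_cases hx : x ∈ U
  · obtain ⟨_, ⟨V, hV, rfl⟩, hxV, hVU⟩ := X.isBasis_affineOpens.exists_subset_of_mem_open hx U.2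
    exact ⟨V, hxV, hV, IsAffineOpen.preimage_of_isOpenImmersion hV U.ι
      (by rw [Scheme.Opens.opensRange_ι]; exact hVU)⟩
  · obtain ⟨_, ⟨V₀, hV₀, rfl⟩, hxV₀, -⟩ :=
      X.isBasis_affineOpens.exists_subset_of_mem_open (Set.mem_univ x) isOpen_univ
    obtain ⟨f, h, hxh, heq⟩ := exists_inf_basicOpen_eq X U x hx (hX x hx).1 (hX x hx).2 V₀ hV₀ hxV₀
    refine ⟨X.basicOpen h, hxh, hV₀.basicOpen h, ?_⟩
    have h1 : U.ι ⁻¹ᵁ X.basicOpen h = U.ι ⁻¹ᵁ X.basicOpen (f * h) := by
      rw [← heq]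
      ext z
      constructor
      · intro hz
        exact ⟨z.2, hz⟩
      · intro hz
        exact hz.2
    rw [h1]
    exact IsAffineOpen.preimage_of_isOpenImmersion (hV₀.basicOpen (f * h)) U.ι
      (by rw [Scheme.Opens.opensRange_ι, ← heq]; exact inf_le_left)

end geom

end Groth.Agent.Lib.T2H5.DimOneAff
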