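import Mathlib
import Groth.Agent.Lib.T2H5GlueInvB
import Groth.Agent.Lib.T2H5DimOneAff
import Groth.Agent.Lib.Helper23QAffSec
set_option backward.isDefEq.respectTransparency.types false

/-!
# T2H5GlueInvC (helper5): local data around a point with Noetherian local ring of dimension at most one, and the
surjectivity of `Pic X → Pic U` for a retrocompact open `U` with discrete complement of such points.

Namespace `Groth.Agent.Lib.T2H5.GlueInv`.
-/

set_option autoImplicit false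
set_option linter.style.haveILetI false
set_option linter.unusedSectionVars false
set_option linter.unusedVariables false
universe u
open CategoryTheory CategoryTheory.Limits AlgebraicGeometry TopologicalSpace Opposite

namespace Groth.Agent.Lib.T2H5.GlueInv

open Groth.Agent.Lib.Helper6 Groth.Agent.Lib.Helper23.SecTw Groth.Agent.Lib.Helper23.GenLocus
  Groth.Agent.Lib.T2H5.DimOneAff

/-- the spectrum of a Noetherian local ring of dimension at most one is finite -/
theorem finite_primeSpectrum {R : Type u} [CommRing R] [IsLocalRing R] [IsNoetherianRing R]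
    (hd : ringKrullDim R ≤ 1) : Finite (PrimeSpectrum R) := by
  have hKD : Ring.KrullDimLE 1 R := Ring.krullDimLE_iff.2 (by simpa using hd)
  have hfin : (minimalPrimes R ∪ {IsLocalRing.maximalIdeal R}).Finite :=
    (minimalPrimes.finite_of_isNoetherianRing R).union (Set.finite_singleton _)
  haveI : Finite ↥(minimalPrimes R ∪ {IsLocalRing.maximalIdeal R}) := hfin.to_subtype
  have hmem : ∀ q : PrimeSpectrum R, q.asIdeal ∈ minimalPrimes R ∪ {IsLocalRing.maximalIdeal R} := by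
    intro q
    rcases Ring.krullDimLE_one_iff.1 hKD q.asIdeal q.isPrime with h | h
    · exact Or.inl h
    · exact Or.inr (IsLocalRing.eq_maximalIdeal h)
  refine Finite.of_injective
    (fun q : PrimeSpectrum R => (⟨q.asIdeal, hmem q⟩ : ↥(minimalPrimes R ∪ {IsLocalRing.maximalIdeal R}))) ?_
  intro q q' h
  exact PrimeSpectrum.ext (congrArg Subtype.val h)

variable (X : Scheme.{u})

/-- a point whose local ring is Noetherian of dimension at most one has finitely many generizations -/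
theorem finite_generizations (x : X) (hN : IsNoetherianRing (X.presheaf.stalk x))
    (hd : ringKrullDim (X.presheaf.stalk x) ≤ 1) : {y : X | y ⤳ x}.Finite := by
  haveI : Finite (PrimeSpectrum (X.presheaf.stalk x)) := finite_primeSpectrum hd
  haveI : Finite ↥(Spec (X.presheaf.stalk x)) := ‹Finite (PrimeSpectrum (X.presheaf.stalk x))›
  rw [← Scheme.range_fromSpecStalk]
  exact Set.finite_range _

/-- an open neighbourhood isolating a point of a discrete complement -/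
theorem exists_open_isolating (U : X.Opens) (hdisc : DiscreteTopology ↥((U : Set X)ᶜ)) (x : X) (hx : x ∉ U) :
    ∃ O : X.Opens, x ∈ O ∧ ∀ z ∈ O, z ∉ U → z = x := by
  have h1 : IsOpen ({⟨x, hx⟩} : Set ↥((U : Set X)ᶜ)) := isOpen_discrete _
  obtain ⟨t, ht, hte⟩ := isOpen_induced_iff.1 h1
  refine ⟨⟨t, ht⟩, ?_, ?_⟩
  · have h2 : (⟨x, hx⟩ : ↥((U : Set X)ᶜ)) ∈ Subtype.val ⁻¹' t := by rw [hte]; rfl
    exact h2
  · intro z hz hzU
    have h2 : (⟨z, hzU⟩ : ↥((U : Set X)ᶜ)) ∈ Subtype.val ⁻¹' t := hz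
    rw [hte] at h2
    exact congrArg Subtype.val h2

/-- **Shrinking.** In an affine open `V₁`, if a compact open `A₁ ≤ V₁` has all its generizations of `x` inside an open
`B`, then `A₁ ∩ D(h) ≤ B` for a basic open neighbourhood `D(h)` of `x`. -/
theorem exists_basicOpen_inf_le {V₁ : X.Opens} (hV₁ : IsAffineOpen V₁) (x : X) (hxV₁ : x ∈ V₁)
    (A₁ : X.Opens) (hA₁V : A₁ ≤ V₁) (hA₁c : IsCompact (A₁ : Set X)) (B : X.Opens)
    (hgenz : ∀ y ∈ A₁, y ⤳ x → y ∈ B) :
    ∃ h : Γ(X, V₁), x ∈ X.basicOpen h ∧ A₁ ⊓ X.basicOpen h ≤ B := by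
  classical
  set φ := hV₁.fromSpec with hφ
  have hrange : Set.range φ = (V₁ : Set X) := hV₁.range_fromSpec
  have hc : IsCompact (φ ⁻¹' (A₁ : Set X)) := by
    refine (φ.isOpenEmbedding.isInducing.isCompact_preimage_iff ?_).2 hA₁c
    rw [hrange]
    exact hA₁V
  have ho : IsOpen (φ ⁻¹' (A₁ : Set X)) := A₁.isOpen.preimage φ.continuous
  obtain ⟨J₁, hJ₁fg, hJ₁⟩ := PrimeSpectrum.isCompact_isOpen_iff_ideal.1 ⟨hc, ho⟩
  have hclosed : IsClosed ((φ ⁻¹' (B : Set X))ᶜ) := (B.isOpen.preimage φ.continuous).isClosed_compl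
  obtain ⟨J₂, hJ₂⟩ := (PrimeSpectrum.isClosed_iff_zeroLocus_ideal _).1 hclosed
  have hmemA : ∀ q : PrimeSpectrum Γ(X, V₁), φ q ∈ A₁ ↔ ¬ J₁ ≤ q.asIdeal := by
    intro q
    have h2 : q ∈ φ ⁻¹' (A₁ : Set X) ↔ φ q ∈ A₁ := Iff.rfl
    rw [← h2, ← hJ₁]
    exact Iff.rfl
  have hmemB : ∀ q : PrimeSpectrum Γ(X, V₁), φ q ∈ B ↔ ¬ J₂ ≤ q.asIdeal := by
    intro q
    have h2 : q ∈ (φ ⁻¹' (B : Set X))ᶜ ↔ ¬ φ q ∈ B := Iff.rfl
    have h3 : q ∈ (φ ⁻¹' (B : Set X))ᶜ ↔ J₂ ≤ q.asIdeal := by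
      rw [hJ₂]
      exact Iff.rfl
    rw [← not_iff_not, not_not, ← h3, h2]
  set p := hV₁.primeIdealOf ⟨x, hxV₁⟩ with hp
  have hφp : φ p = x := hV₁.fromSpec_primeIdealOf ⟨x, hxV₁⟩
  letI alg : Algebra Γ(X, V₁) (X.presheaf.stalk x) := TopCat.Presheaf.algebra_section_stalk X.presheaf ⟨x, hxV₁⟩
  haveI hloc : IsLocalization.AtPrime (X.presheaf.stalk x) p.asIdeal := hV₁.isLocalization_stalk ⟨x, hxV₁⟩
  obtain ⟨G₁, hG₁⟩ := hJ₁fg
  have hG : ∀ b ∈ G₁, algebraMap Γ(X, V₁) (X.presheaf.stalk x) b ∈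
      (J₂.map (algebraMap Γ(X, V₁) (X.presheaf.stalk x))).radical := by
    intro b hb
    rw [Ideal.radical_eq_sInf]
    refine Submodule.mem_sInf.2 (fun (Q : Ideal (X.presheaf.stalk x)) hQ => ?_)
    haveI : Q.IsPrime := hQ.2
    set q : PrimeSpectrum Γ(X, V₁) := ⟨Ideal.comap (algebraMap Γ(X, V₁) (X.presheaf.stalk x)) Q, inferInstance⟩ with hq
    have hqp : q ≤ p := by
      change Ideal.comap (algebraMap Γ(X, V₁) (X.presheaf.stalk x)) Q ≤ p.asIdeal
      haveI : IsLocalRing (X.presheaf.stalk x) := IsLocalization.AtPrime.isLocalRing _ p.asIdeal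
      rw [← IsLocalization.AtPrime.comap_maximalIdeal (X.presheaf.stalk x) p.asIdeal]
      exact Ideal.comap_mono (IsLocalRing.le_maximalIdeal hQ.2.ne_top)
    have hJ₂q : J₂ ≤ q.asIdeal := Ideal.le_comap_of_map_le hQ.1
    have hspec : φ q ⤳ x := by
      rw [← hφp]
      exact ((PrimeSpectrum.le_iff_specializes q p).1 hqp).map φ.continuous
    change b ∈ q.asIdeal
    by_contra hbq
    have h1 : φ q ∈ A₁ := (hmemA q).2 (fun hle => hbq (hle (hG₁ ▸ Ideal.subset_span hb)))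
    exact (hmemB q).1 (hgenz _ h1 hspec) hJ₂q
  obtain ⟨h, hhp, H⟩ := exists_spread p.asIdeal (X.presheaf.stalk x) J₂ G₁ hG
  refine ⟨h, (mem_basicOpen_iff X hV₁ h x hxV₁).2 hhp, ?_⟩
  rintro y ⟨hyA, hyh⟩
  have hyV : y ∈ V₁ := hA₁V hyA
  set q := hV₁.primeIdealOf ⟨y, hyV⟩ with hq
  have hφq : φ q = y := hV₁.fromSpec_primeIdealOf ⟨y, hyV⟩
  have hhq : h ∉ q.asIdeal := (mem_basicOpen_iff X hV₁ h y hyV).1 hyh
  have h1 : ¬ J₁ ≤ q.asIdeal := (hmemA q).1 (by rw [hφq]; exact hyA)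
  have h2 : ¬ J₂ ≤ q.asIdeal := by
    intro hle
    apply h1
    rw [← hG₁, Ideal.span_le]
    intro b hb
    exact H q.asIdeal q.isPrime hhq hle b hb
  have h3 := (hmemB q).2 h2
  rwa [hφq] at h3

/-- **local data around a point outside `U`** for the extension of an invertible module: a neighbourhood `T` of `x`
meeting the complement of `U` in `x` only, such that `N` is trivial on the trace of `T` on `U` -/
theorem exists_local_gen (U : X.Opens) [QuasiCompact U.ι] (hdisc : DiscreteTopology ↥((U : Set X)ᶜ))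
    (N : (↑U : Scheme.{u}).Modules) (hN : PicF.IsInvertible N) (x : X) (hx : x ∉ U)
    (hNoe : IsNoetherianRing (X.presheaf.stalk x)) (hd : ringKrullDim (X.presheaf.stalk x) ≤ 1) :
    ∃ T : X.Opens, x ∈ T ∧ (∀ z ∈ T, z ∉ U → z = x) ∧ ∃ e : Γ(N, U.ι ⁻¹ᵁ T), IsGen N (U.ι ⁻¹ᵁ T) e := by
  obtain ⟨O, hxO, hO⟩ := exists_open_isolating X U hdisc x hx
  obtain ⟨_, ⟨V₀, hV₀, rfl⟩, hxV₀, hV₀O⟩ := X.isBasis_affineOpens.exists_subset_of_mem_open hxO O.2
  obtain ⟨f, h, hxh, heq⟩ := exists_inf_basicOpen_eq X U x hx hNoe hd V₀ hV₀ hxV₀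
  have hV₁ : IsAffineOpen (X.basicOpen h) := hV₀.basicOpen h
  have hA₁ : IsAffineOpen (X.basicOpen (f * h)) := hV₀.basicOpen (f * h)
  have hA₁U : X.basicOpen (f * h) ≤ U := by rw [← heq]; exact inf_le_left
  have hA₁V : X.basicOpen (f * h) ≤ X.basicOpen h := by rw [← heq]; exact inf_le_right
  have hA₁' : IsAffineOpen (U.ι ⁻¹ᵁ X.basicOpen (f * h)) :=
    IsAffineOpen.preimage_of_isOpenImmersion hA₁ U.ι (by rw [Scheme.Opens.opensRange_ι]; exact hA₁U)
  let P : Set (↑U : Scheme.{u}) := {y | U.ι y ⤳ x}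
  have hP : P.Finite := by
    have h1 := finite_generizations X x hNoe hd
    exact h1.preimage (U.ι.isOpenEmbedding.injective.injOn)
  have hPA : P ⊆ (U.ι ⁻¹ᵁ X.basicOpen (f * h) : (↑U : Scheme.{u}).Opens) := by
    intro y hy
    have h1 : U.ι y ∈ X.basicOpen h := Specializes.mem_open hy (X.basicOpen h).isOpen hxh
    have h2 : U.ι y ∈ U ⊓ X.basicOpen h := ⟨y.2, h1⟩
    rw [heq] at h2
    exact h2
  obtain ⟨g, hPg, hiso⟩ := Groth.Agent.Lib.Helper2.SemiLocFree.exists_basicOpen_iso_freeMod N 1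
    (isFinLocFreeOfRank_one_of_isInvertible N hN) P hP hA₁' hPA
  obtain ⟨e₀, he₀⟩ := exists_isGen_of_iso_freeMod N _ hiso
  obtain ⟨h₂, hxh₂, hle⟩ := exists_basicOpen_inf_le X hV₁ x hxh (X.basicOpen (f * h)) hA₁V hA₁.isCompact
    (U.ι ''ᵁ ((↑U : Scheme.{u}).basicOpen g)) (by
      intro y hyA hyx
      have hyU : y ∈ U := hA₁U hyA
      have h1 : (⟨y, hyU⟩ : (↑U : Scheme.{u})) ∈ P := hyx
      exact ⟨⟨y, hyU⟩, hPg h1, rfl⟩)
  have hT₀ : X.basicOpen h₂ ≤ V₀ := (X.basicOpen_le h₂).trans (X.basicOpen_le h)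
  have hpre : U.ι ⁻¹ᵁ X.basicOpen h₂ ≤ (↑U : Scheme.{u}).basicOpen g := by
    intro z hz
    have h1 : U.ι z ∈ X.basicOpen (f * h) ⊓ X.basicOpen h₂ := by
      refine ⟨?_, hz⟩
      rw [← heq]
      exact ⟨z.2, X.basicOpen_le h₂ hz⟩
    have h2 := hle h1
    exact (Scheme.Hom.apply_mem_image_iff U.ι).1 h2
  exact ⟨X.basicOpen h₂, hxh₂, fun z hz hzU => hO z (hV₀O (hT₀ hz)) hzU, res N hpre e₀, he₀.mono hpre⟩

/-- **`Pic X → Pic U` is surjective** for a retrocompact open `U` whose complement is discrete and consists of points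
with Noetherian local rings of dimension at most one. -/
theorem exists_invertible_extension (U : X.Opens) [QuasiCompact U.ι] (hdisc : DiscreteTopology ↥((U : Set X)ᶜ))
    (hloc : ∀ x : X, x ∉ U → IsNoetherianRing (X.presheaf.stalk x) ∧ ringKrullDim (X.presheaf.stalk x) ≤ 1)
    (N : (↑U : Scheme.{u}).Modules) (hN : PicF.IsInvertible N) :
    ∃ L : X.Modules, PicF.IsInvertible L ∧ Nonempty (L.restrict U.ι ≅ N) := by
  have hdata : ∀ y : X, ∃ T : X.Opens, y ∈ T ∧ (∀ z ∈ T, z ∉ U → z = y) ∧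
      ∃ e : Γ(N, U.ι ⁻¹ᵁ T), IsGen N (U.ι ⁻¹ᵁ T) e := by
    intro y
    by_cases hy : y ∈ U
    · obtain ⟨W', e', hyW', he'⟩ := exists_gen N hN (⟨y, hy⟩ : (↑U : Scheme.{u}))
      have hTU : U.ι ''ᵁ W' ≤ U := by
        have := Scheme.Hom.image_le_opensRange U.ι W'
        rwa [Scheme.Opens.opensRange_ι] at this
      obtain ⟨e, he⟩ := exists_isGen_of_eq N (U.ι.preimage_image_eq W').symm e' he'
      exact ⟨U.ι ''ᵁ W', ⟨⟨y, hy⟩, hyW', rfl⟩, fun z hz hzU => absurd (hTU hz) hzU, e, he⟩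
    · exact exists_local_gen X U hdisc N hN y hy (hloc y hy).1 (hloc y hy).2
  choose T hyT hiso e he using hdata
  refine exists_invertible_restrict_iso U N T e he ?_ ?_
  · intro i j hij z hz
    by_contra hzU
    exact hij ((hiso i z hz.1 hzU).symm.trans (hiso j z hz.2 hzU))
  · rw [eq_top_iff]
    intro y _
    exact Opens.mem_iSup.2 ⟨y, hyT y⟩

/-- **An invertible module with a section whose generating locus is `U`**, for a retrocompact open `U` whose complement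
is discrete and consists of points with Noetherian local rings of dimension at most one. -/
theorem exists_invertible_section_genLocus (U : X.Opens) [QuasiCompact U.ι]
    (hdisc : DiscreteTopology ↥((U : Set X)ᶜ))
    (hloc : ∀ x : X, x ∉ U → IsNoetherianRing (X.presheaf.stalk x) ∧ ringKrullDim (X.presheaf.stalk x) ≤ 1) :
    ∃ (L : X.Modules) (s : Coh.structureModule X ⟶ L), PicF.IsInvertible L ∧ CohB1.genLocus L s = U := by
  have hdata : ∀ y : X, ∃ T : X.Opens, y ∈ T ∧ (∀ z ∈ T, z ∉ U → z = y) ∧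
      ∃ g : Γ(X, T), X.basicOpen g = U ⊓ T := by
    intro y
    by_cases hy : y ∈ U
    · refine ⟨U, hy, fun z hz hzU => absurd hz hzU, 1, ?_⟩
      rw [Scheme.basicOpen_of_isUnit _ isUnit_one, inf_idem]
    · obtain ⟨O, hxO, hO⟩ := exists_open_isolating X U hdisc y hy
      obtain ⟨_, ⟨V₀, hV₀, rfl⟩, hxV₀, hV₀O⟩ := X.isBasis_affineOpens.exists_subset_of_mem_open hxO O.2
      obtain ⟨f, h, hxh, heq⟩ := exists_inf_basicOpen_eq X U y hy (hloc y hy).1 (hloc y hy).2 V₀ hV₀ hxV₀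
      refine ⟨X.basicOpen h, hxh, fun z hz hzU => hO z (hV₀O (X.basicOpen_le h hz)) hzU,
        resf (X.basicOpen_le h) (f * h), ?_⟩
      have h1 : X.basicOpen (resf (X.basicOpen_le h) (f * h)) = X.basicOpen h ⊓ X.basicOpen (f * h) :=
        Scheme.basicOpen_res X (f * h) (homOfLE (X.basicOpen_le h)).op
      rw [h1, ← heq]
      ext z
      constructor
      · rintro ⟨h2, h3, -⟩
        exact ⟨h3, h2⟩
      · rintro ⟨h2, h3⟩
        exact ⟨h3, h2, h3⟩
  choose T hyT hiso g hg using hdata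
  refine exists_invertible_section U T g hg ?_ ?_
  · intro i j hij z hz
    by_contra hzU
    exact hij ((hiso i z hz.1 hzU).symm.trans (hiso j z hz.2 hzU))
  · rw [eq_top_iff]
    intro y _
    exact Opens.mem_iSup.2 ⟨y, hyT y⟩

end Groth.Agent.Lib.T2H5.GlueInv
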