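import Mathlib
import Groth.Agent.Lib.T2H5GlueInv
set_option backward.isDefEq.respectTransparency.types false

/-!
# T2H5GlueInvE (helper5): the family version of `T2H5GlueInv.exists_glue`

Instead of one module `P` one has a family `P k` and sections `e i k ∈ Γ(P k, T i)` such that, for the opens
`W ≤ T i ∩ U`, the map `Γ(X, W) → ∏ k, Γ(P k, W)`, `r ↦ (r • e i k)_k` is bijective.  The glued invertible module `L`
comes with morphisms `ψ k : L ⟶ P k`.

Namespace `Groth.Agent.Lib.T2H5.GlueInv`.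
-/

set_option autoImplicit false
set_option linter.style.haveILetI false
set_option linter.unusedSectionVars false
set_option linter.unusedVariables false
universe u
open CategoryTheory CategoryTheory.Limits AlgebraicGeometry TopologicalSpace Opposite

namespace Groth.Agent.Lib.T2H5.GlueInv

open Groth.Agent.Lib.Helper6 Groth.Agent.Helper13ModGlue Groth.Agent.Lib.T2H4.Cocycle
  Groth.Agent.Lib.T2H4.CocycleMod

variable {X : Scheme.{u}}

section cmpF
variable (U : X.Opens) {κ : Type*} (P : κ → X.Modules) {ι : Type u} (T : ι → X.Opens)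
  (e : ∀ (i : ι) (k : κ), Γ(P k, T i))
  (hgen : ∀ (i : ι) (W : X.Opens) (hW : W ≤ T i), W ≤ U →
    Function.Bijective (fun (r : Γ(X, W)) (k : κ) => r • res (P k) hW (e i k)))

/-- the comparison function: `e i k = cmpF i j • e j k` on `W ≤ T i ∩ T j ∩ U`, for all `k` -/
noncomputable def cmpF (i j : ι) (W : X.Opens) (hi : W ≤ T i) (hj : W ≤ T j) (hU : W ≤ U) : Γ(X, W) :=
  ((hgen j W hj hU).2 (fun k => res (P k) hi (e i k))).choose

theorem cmpF_spec (i j : ι) (W : X.Opens) (hi : W ≤ T i) (hj : W ≤ T j) (hU : W ≤ U) (k : κ) :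
    cmpF U P T e hgen i j W hi hj hU • res (P k) hj (e j k) = res (P k) hi (e i k) :=
  congrFun ((hgen j W hj hU).2 (fun k => res (P k) hi (e i k))).choose_spec k

theorem cmpF_unique (i j : ι) (W : X.Opens) (hi : W ≤ T i) (hj : W ≤ T j) (hU : W ≤ U) (r : Γ(X, W))
    (hr : ∀ k, r • res (P k) hj (e j k) = res (P k) hi (e i k)) : cmpF U P T e hgen i j W hi hj hU = r := by
  apply (hgen j W hj hU).1
  funext k
  change cmpF U P T e hgen i j W hi hj hU • res (P k) hj (e j k) = r • res (P k) hj (e j k)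
  rw [cmpF_spec, hr]

theorem cmpF_self (i : ι) (W : X.Opens) (hi hi' : W ≤ T i) (hU : W ≤ U) :
    cmpF U P T e hgen i i W hi hi' hU = 1 :=
  cmpF_unique U P T e hgen i i W hi hi' hU 1 (fun k => one_smul _ _)

theorem cmpF_mul (i j k : ι) (W : X.Opens) (hi : W ≤ T i) (hj : W ≤ T j) (hk : W ≤ T k) (hU : W ≤ U) :
    cmpF U P T e hgen i k W hi hk hU =
      cmpF U P T e hgen i j W hi hj hU * cmpF U P T e hgen j k W hj hk hU := by
  apply cmpF_unique
  intro l
  rw [mul_smul, cmpF_spec, cmpF_spec]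

theorem cmpF_res (i j : ι) (W W' : X.Opens) (h : W' ≤ W) (hi : W ≤ T i) (hj : W ≤ T j) (hU : W ≤ U) :
    resf h (cmpF U P T e hgen i j W hi hj hU) =
      cmpF U P T e hgen i j W' (h.trans hi) (h.trans hj) (h.trans hU) := by
  symm
  apply cmpF_unique
  intro l
  rw [← res_res (P l) hj h, ← res_smul, cmpF_spec, res_res]

theorem isUnit_cmpF (i j : ι) (W : X.Opens) (hi : W ≤ T i) (hj : W ≤ T j) (hU : W ≤ U) :
    IsUnit (cmpF U P T e hgen i j W hi hj hU) := by
  refine isUnit_iff_exists_inv.2 ⟨cmpF U P T e hgen j i W hj hi hU, ?_⟩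
  rw [← cmpF_mul, cmpF_self]

variable (hTU : ∀ i j, i ≠ j → T i ⊓ T j ≤ U)

open Classical in
/-- the unit cocycle -/
noncomputable def etaF (i j : ι) : (Γ(X, T i ⊓ T j))ˣ :=
  if h : i = j then 1 else
    (isUnit_cmpF U P T e hgen i j (T i ⊓ T j) inf_le_left inf_le_right (hTU i j h)).unit

theorem etaF_self (i : ι) : (etaF U P T e hgen hTU i i : Γ(X, T i ⊓ T i)) = 1 := by
  rw [etaF, dif_pos rfl, Units.val_one]

theorem etaF_res (i j : ι) (W : X.Opens) (hW : W ≤ T i ⊓ T j) (hU : W ≤ U) :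
    resf hW (etaF U P T e hgen hTU i j : Γ(X, T i ⊓ T j)) =
      cmpF U P T e hgen i j W (hW.trans inf_le_left) (hW.trans inf_le_right) hU := by
  by_cases h : i = j
  · subst h
    rw [etaF_self, resf_one, cmpF_self]
  · rw [etaF, dif_neg h, IsUnit.unit_spec, cmpF_res]

theorem etaF_cocycle (i j k : ι) :
    resf (inf_le_inf_right (T k) inf_le_left : T i ⊓ T j ⊓ T k ≤ T i ⊓ T k)
        (etaF U P T e hgen hTU i k : Γ(X, T i ⊓ T k)) =
      resf (inf_le_left : T i ⊓ T j ⊓ T k ≤ T i ⊓ T j) (etaF U P T e hgen hTU i j : Γ(X, T i ⊓ T j)) *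
        resf (inf_le_inf_right (T k) inf_le_right : T i ⊓ T j ⊓ T k ≤ T j ⊓ T k)
          (etaF U P T e hgen hTU j k : Γ(X, T j ⊓ T k)) := by
  by_cases hij : i = j
  · subst hij
    rw [etaF_self, resf_one, one_mul]
  · by_cases hjk : j = k
    · subst hjk
      rw [etaF_self, resf_one, mul_one]
    · have hU : T i ⊓ T j ⊓ T k ≤ U := inf_le_left.trans (hTU i j hij)
      rw [etaF_res U P T e hgen hTU i k _ _ hU, etaF_res U P T e hgen hTU i j _ _ hU,
        etaF_res U P T e hgen hTU j k _ _ hU]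
      exact cmpF_mul U P T e hgen i j k _ _ _ _ hU

include hgen hTU in
/-- **Gluing, family version.** -/
theorem exists_glue_family (hT : iSup T = ⊤) :
    ∃ (L : X.Modules) (_ : PicF.IsInvertible L) (ε : ∀ i, Γ(L, T i)) (ψ : ∀ k, L ⟶ P k),
      (∀ i, Gen L (ε i)) ∧
      (∀ (k : κ) (i : ι) (W : X.Opens) (hW : W ≤ T i) (r : Γ(X, W)),
        (ψ k).app W (r • res L hW (ε i)) = r • res (P k) hW (e i k)) := by
  let η := etaF U P T e hgen hTU
  have hη := etaF_cocycle U P T e hgen hTU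
  let L := cocycleMod T (ηv T η)
  have hgenL : ∀ i, Gen L (gen T η hη i) := gen_isGen T η hη
  have hT' : ⨆ i, T i = ⊤ := hT
  have hex : ∀ k : κ, ∃ ψ : L ⟶ P k, ∀ (i : ι) (W : X.Opens) (hW : W ≤ T i) (τ : Γ(L, W)),
      ψ.app W τ = (locFam L (P k) (gen T η hη i) (hgenL i) (e i k) 1).d W hW τ := by
    intro k
    refine exists_hom_of_locFams T hT' L (P k)
      (fun i => locFam L (P k) (gen T η hη i) (hgenL i) (e i k) 1) ?_
    intro i j W hi hj τ
    rw [locFam_d, locFam_d, resf_one, mul_one, resf_one, mul_one]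
    by_cases hij : i = j
    · subst hij
      rfl
    · have hU : W ≤ U := (le_inf hi hj).trans (hTU i j hij)
      have h1 := res_gen_eq T L (gen T η hη)
        (fun i j => ((η i j : (Γ(X, T i ⊓ T j))ˣ) : Γ(X, T i ⊓ T j))) (gen_transition T η hη) i j hi hj
      have hc : coord L (gen T η hη j) (hgenL j) hj τ =
          coord L (gen T η hη i) (hgenL i) hi τ *
            resf (le_inf hi hj) ((η i j : (Γ(X, T i ⊓ T j))ˣ) : Γ(X, T i ⊓ T j)) := by
        apply coord_unique
        rw [mul_smul, ← h1, coord_spec]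
      rw [hc, mul_smul]
      congr 1
      have h2 : resf (le_inf hi hj) ((η i j : (Γ(X, T i ⊓ T j))ˣ) : Γ(X, T i ⊓ T j)) =
          cmpF U P T e hgen i j W hi hj hU := etaF_res U P T e hgen hTU i j W (le_inf hi hj) hU
      rw [h2, cmpF_spec]
  choose ψ hψ using hex
  refine ⟨L, isInvertible_cocycleMod T η hη hT, gen T η hη, ψ, hgenL, fun k i W hW r => ?_⟩
  rw [hψ k i W hW, locFam_d, resf_one, mul_one]
  have h3 : coord L (gen T η hη i) (hgenL i) hW (r • res L hW (gen T η hη i)) = r :=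
    coord_unique L (gen T η hη i) (hgenL i) hW _ r rfl
  rw [h3]

end cmpF

end Groth.Agent.Lib.T2H5.GlueInv
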