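import Mathlib
import Groth.Agent.Lib.T2H5GlueInvE
import Groth.Agent.Lib.T2H5GlueInvD
import Groth.Agent.Lib.T2H5GlueInvC
set_option backward.isDefEq.respectTransparency.types false

/-!
# T2H5ClosedCoverPic (helper5): gluing invertible modules given on the members of a finite closed cover of a reduced
scheme whose members meet pairwise in discrete sets

Namespace `Groth.Agent.Lib.T2H5.ClosedCoverPic`.
-/

set_option autoImplicit false
set_option linter.style.haveILetI false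
set_option linter.unusedSectionVars false
set_option linter.unusedVariables false
universe u
open CategoryTheory CategoryTheory.Limits AlgebraicGeometry TopologicalSpace Opposite

namespace Groth.Agent.Lib.T2H5.ClosedCoverPic

open Groth.Agent.Lib.Helper6 Groth.Agent.Helper13ModGlue Groth.Agent.Lib.Helper23.SecTw
  Groth.Agent.Lib.Helper23.GenLocus Groth.Agent.Lib.T2H5.GlueInv Groth.Agent.Lib.T2H4.CocycleMod

/-- naturality of the maps on functions with respect to restriction -/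
theorem app_resf {Z' X : Scheme.{u}} (f : Z' ⟶ X) {W W' : X.Opens} (h : W' ≤ W) (r : Γ(X, W)) :
    f.app W' (resf h r) = resf (f.preimage_mono h) (f.app W r) := by
  have h1 := f.naturality (homOfLE h).op
  exact congrArg (fun φ => (ConcreteCategory.hom φ) r) h1

/-- every section over an empty open is a generator -/
theorem isGen_of_eq_bot {X : Scheme.{u}} (M : X.Modules) (W : X.Opens) (hW : W = ⊥) (e : Γ(M, W)) :
    IsGen M W e := by
  intro W' hW'
  have hW'' : W' ≤ ⊥ := hW ▸ hW'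
  have hbot : W' = ⊥ := le_bot_iff.1 hW''
  constructor
  · intro a b _
    haveI : Subsingleton Γ(X, W') := by rw [hbot]; infer_instance
    exact Subsingleton.elim _ _
  · intro b
    refine ⟨0, ?_⟩
    rw [eq_zero_of_le_bot M hW'' b]
    exact eq_zero_of_le_bot M hW'' _

section joint
variable {X : Scheme.{u}} {n : ℕ} (Z : Fin n → X.IdealSheafData)

theorem eq_zero_of_forall_app_eq_zero [IsReduced X]
    (hcov : ⋃ i, ((Z i).support : Set X) = Set.univ) (W : X.Opens) (r : Γ(X, W))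
    (h : ∀ k, (Z k).subschemeι.app W r = 0) : r = 0 := by
  rw [← basicOpen_eq_bot_iff, eq_bot_iff]
  intro x hx
  have hx' : x ∈ ⋃ i, ((Z i).support : Set X) := by rw [hcov]; trivial
  obtain ⟨k, hk⟩ := Set.mem_iUnion.1 hx'
  rw [← (Z k).range_subschemeι] at hk
  obtain ⟨z, rfl⟩ := hk
  have h1 : z ∈ (Z k).subschemeι ⁻¹ᵁ X.basicOpen r := hx
  rw [Scheme.preimage_basicOpen, h k, Scheme.basicOpen_zero] at h1
  exact h1

theorem eq_of_forall_app_eq [IsReduced X]
    (hcov : ⋃ i, ((Z i).support : Set X) = Set.univ) (W : X.Opens) (r r' : Γ(X, W))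
    (h : ∀ k, (Z k).subschemeι.app W r = (Z k).subschemeι.app W r') : r = r' := by
  have h1 := eq_zero_of_forall_app_eq_zero Z hcov W (r - r') (fun k => by rw [map_sub, h k, sub_self])
  exact sub_eq_zero.1 h1

theorem exists_of_affine (A : X.Opens) (hA : IsAffineOpen A) (k : Fin n)
    (hAk : ∀ j, j ≠ k → (Z j).subschemeι ⁻¹ᵁ A = ⊥)
    (t : ∀ j, Γ((Z j).subscheme, (Z j).subschemeι ⁻¹ᵁ A)) :
    ∃ r : Γ(X, A), ∀ j, (Z j).subschemeι.app A r = t j := by
  obtain ⟨r, hr⟩ := (Z k).subschemeι.app_surjective A hA (t k)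
  refine ⟨r, fun j => ?_⟩
  by_cases hj : j = k
  · subst hj
    exact hr
  · haveI : Subsingleton Γ((Z j).subscheme, (Z j).subschemeι ⁻¹ᵁ A) := by
      rw [hAk j hj]
      infer_instance
    exact Subsingleton.elim _ _

theorem exists_joint [IsReduced X] (hcov : ⋃ i, ((Z i).support : Set X) = Set.univ) (W : X.Opens)
    (hW : ∀ x ∈ W, ∀ i j, x ∈ ((Z i).support : Set X) → x ∈ ((Z j).support : Set X) → i = j)
    (t : ∀ j, Γ((Z j).subscheme, (Z j).subschemeι ⁻¹ᵁ W)) :
    ∃ r : Γ(X, W), ∀ j, (Z j).subschemeι.app W r = t j := by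
  classical
  let 𝒜 := {A : X.Opens // IsAffineOpen A ∧ A ≤ W ∧
    ∃ k : Fin n, ∀ j, j ≠ k → (Z j).subschemeι ⁻¹ᵁ A = ⊥}
  have hcovA : W ≤ ⨆ A : 𝒜, A.1 := by
    intro x hx
    have hx' : x ∈ ⋃ i, ((Z i).support : Set X) := by rw [hcov]; trivial
    obtain ⟨k, hk⟩ := Set.mem_iUnion.1 hx'
    have hO : IsOpen ((W : Set X) ∩ ⋂ j : {j : Fin n // j ≠ k}, (((Z j.1).support : Set X))ᶜ) :=
      W.isOpen.inter (isOpen_iInter_of_finite fun j => (Z j.1).support.isClosed.isOpen_compl)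
    have hxO : x ∈ (W : Set X) ∩ ⋂ j : {j : Fin n // j ≠ k}, (((Z j.1).support : Set X))ᶜ :=
      ⟨hx, Set.mem_iInter.2 fun j hxj => j.2 (hW x hx j.1 k hxj hk)⟩
    obtain ⟨_, ⟨A, hA, rfl⟩, hxA, hAO⟩ := X.isBasis_affineOpens.exists_subset_of_mem_open hxO hO
    refine Opens.mem_iSup.2 ⟨⟨A, hA, fun y hy => (hAO hy).1, k, fun j hj => ?_⟩, hxA⟩
    rw [eq_bot_iff]
    intro z hz
    have h1 : (Z j).subschemeι z ∈ ((Z j).support : Set X) := by
      rw [← (Z j).range_subschemeι]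
      exact ⟨z, rfl⟩
    exact (Set.mem_iInter.1 (hAO hz).2 ⟨j, hj⟩) h1
  have hex : ∀ A : 𝒜, ∃ r : Γ(X, A.1), ∀ j, (Z j).subschemeι.app A.1 r =
      resf ((Z j).subschemeι.preimage_mono A.2.2.1) (t j) := by
    intro A
    obtain ⟨k, hk⟩ := A.2.2.2
    exact exists_of_affine Z A.1 A.2.1 k hk _
  choose rA hrA using hex
  obtain ⟨r, hr⟩ := resf_glue (fun A : 𝒜 => A.1) W (fun A => A.2.2.1) hcovA rA (by
    intro A A'
    apply eq_of_forall_app_eq Z hcov
    intro j
    rw [app_resf, app_resf, hrA A j, hrA A' j, resf_resf, resf_resf])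
  refine ⟨r, fun j => ?_⟩
  refine resf_ext (fun A : 𝒜 => (Z j).subschemeι ⁻¹ᵁ A.1) _
    (fun A => (Z j).subschemeι.preimage_mono A.2.2.1) ?_ _ _ (fun A => ?_)
  · intro z hz
    obtain ⟨A, hA⟩ := Opens.mem_iSup.1 (hcovA hz)
    exact Opens.mem_iSup.2 ⟨A, hA⟩
  · rw [← app_resf (Z j).subschemeι A.2.2.1, hr A, hrA A j]

end joint

section main
variable {X : Scheme.{u}} {n : ℕ} (Z : Fin n → X.IdealSheafData)

/-- the open set of the points lying on at most one member of the closed cover -/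
def goodOpen : X.Opens :=
  ⟨(⋃ p : {p : Fin n × Fin n // p.1 ≠ p.2},
      (((Z p.1.1).support : Set X) ∩ ((Z p.1.2).support : Set X)))ᶜ,
    (isClosed_iUnion_of_finite fun p : {p : Fin n × Fin n // p.1 ≠ p.2} =>
      (Z p.1.1).support.isClosed.inter (Z p.1.2).support.isClosed).isOpen_compl⟩

theorem mem_goodOpen_iff (x : X) : x ∈ goodOpen Z ↔
    ∀ i j, x ∈ ((Z i).support : Set X) → x ∈ ((Z j).support : Set X) → i = j := by
  constructor
  · intro h i j hi hj
    by_contra hij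
    exact h (Set.mem_iUnion.2 ⟨⟨(i, j), hij⟩, hi, hj⟩)
  · intro h hx
    obtain ⟨p, hp1, hp2⟩ := Set.mem_iUnion.1 hx
    exact p.2 (h _ _ hp1 hp2)

theorem exists_isolating
    (hdisc : ∀ i j, i ≠ j → DiscreteTopology ↥(((Z i).support : Set X) ∩ ((Z j).support : Set X))) (a : X) :
    ∃ O : X.Opens, a ∈ O ∧ ∀ z ∈ O, z ∉ goodOpen Z → z = a := by
  classical
  have hp : ∀ p : {p : Fin n × Fin n // p.1 ≠ p.2}, ∃ O : X.Opens, a ∈ O ∧
      ∀ z ∈ O, z ∈ ((Z p.1.1).support : Set X) ∩ ((Z p.1.2).support : Set X) → z = a := by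
    intro p
    by_cases ha : a ∈ ((Z p.1.1).support : Set X) ∩ ((Z p.1.2).support : Set X)
    · haveI := hdisc p.1.1 p.1.2 p.2
      have h1 : IsOpen ({⟨a, ha⟩} :
          Set ↥(((Z p.1.1).support : Set X) ∩ ((Z p.1.2).support : Set X))) := isOpen_discrete _
      obtain ⟨t, ht, hte⟩ := isOpen_induced_iff.1 h1
      refine ⟨⟨t, ht⟩, ?_, ?_⟩
      · have h2 : (⟨a, ha⟩ : ↥(((Z p.1.1).support : Set X) ∩ ((Z p.1.2).support : Set X))) ∈
            Subtype.val ⁻¹' t := by rw [hte]; rfl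
        exact h2
      · intro z hz hzC
        have h2 : (⟨z, hzC⟩ : ↥(((Z p.1.1).support : Set X) ∩ ((Z p.1.2).support : Set X))) ∈
            Subtype.val ⁻¹' t := hz
        rw [hte] at h2
        exact congrArg Subtype.val h2
    · exact ⟨⟨(((Z p.1.1).support : Set X) ∩ ((Z p.1.2).support : Set X))ᶜ,
        ((Z p.1.1).support.isClosed.inter (Z p.1.2).support.isClosed).isOpen_compl⟩, ha,
        fun z hz hzC => absurd hzC hz⟩
  choose O haO hO using hp
  refine ⟨⟨⋂ p, (O p : Set X), isOpen_iInter_of_finite fun p => (O p).isOpen⟩, Set.mem_iInter.2 haO, ?_⟩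
  intro z hz hzU
  have hz' : z ∈ ⋃ p : {p : Fin n × Fin n // p.1 ≠ p.2},
      (((Z p.1.1).support : Set X) ∩ ((Z p.1.2).support : Set X)) := not_not.1 hzU
  obtain ⟨p, hp⟩ := Set.mem_iUnion.1 hz'
  exact hO p z (Set.mem_iInter.1 hz p) hp

theorem exists_open_gen (k : Fin n) (L : (Z k).subscheme.Modules) (hL : PicF.IsInvertible L) (a : X) :
    ∃ B : X.Opens, a ∈ B ∧ ∃ e : Γ(L, (Z k).subschemeι ⁻¹ᵁ B), IsGen L ((Z k).subschemeι ⁻¹ᵁ B) e := by
  by_cases ha : a ∈ ((Z k).support : Set X)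
  · rw [← (Z k).range_subschemeι] at ha
    obtain ⟨z, rfl⟩ := ha
    obtain ⟨W', e', hzW', he'⟩ := exists_gen L hL z
    obtain ⟨t, ht, hte⟩ := ((Z k).subschemeι.isEmbedding.isInducing.isOpen_iff).1 W'.isOpen
    have hB : (Z k).subschemeι ⁻¹ᵁ (⟨t, ht⟩ : X.Opens) = W' := Opens.ext hte
    obtain ⟨e, he⟩ := exists_isGen_of_eq L hB.symm e' he'
    refine ⟨⟨t, ht⟩, ?_, e, he⟩
    have h1 : z ∈ (Z k).subschemeι ⁻¹ᵁ (⟨t, ht⟩ : X.Opens) := by rw [hB]; exact hzW'
    exact h1
  · refine ⟨⟨((Z k).support : Set X)ᶜ, (Z k).support.isClosed.isOpen_compl⟩, ha, 0,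
      isGen_of_eq_bot L _ ?_ 0⟩
    rw [eq_bot_iff]
    intro z hz
    have h1 : (Z k).subschemeι z ∈ ((Z k).support : Set X) := by
      rw [← (Z k).range_subschemeι]
      exact ⟨z, rfl⟩
    exact hz h1

/-- **Gluing invertible modules along a finite closed cover of a reduced scheme with discrete pairwise
intersections.** -/
theorem exists_glued [IsReduced X] (hcov : ⋃ i, ((Z i).support : Set X) = Set.univ)
    (hdisc : ∀ i j, i ≠ j → DiscreteTopology ↥(((Z i).support : Set X) ∩ ((Z j).support : Set X)))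
    (L : ∀ i, (Z i).subscheme.Modules) (hL : ∀ i, PicF.IsInvertible (L i)) :
    ∃ M : X.Modules, PicF.IsInvertible M ∧
      ∀ i, Nonempty ((Scheme.Modules.pullback (Z i).subschemeι).obj M ≅ L i) := by
  classical
  set U := goodOpen Z with hU
  have hdata : ∀ a : X, ∃ T : X.Opens, a ∈ T ∧ IsAffineOpen T ∧ (∀ z ∈ T, z ∉ U → z = a) ∧
      ∀ k, ∃ e : Γ(L k, (Z k).subschemeι ⁻¹ᵁ T), IsGen (L k) ((Z k).subschemeι ⁻¹ᵁ T) e := by
    intro a
    obtain ⟨O, haO, hO⟩ : ∃ O : X.Opens, a ∈ O ∧ ∀ z ∈ O, z ∉ U → z = a := by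
      by_cases ha : a ∈ U
      · exact ⟨U, ha, fun z hz hzU => absurd hz hzU⟩
      · exact exists_isolating Z hdisc a
    have hB := fun k => exists_open_gen Z k (L k) (hL k) a
    choose B haB eB heB using hB
    have hT₀ : IsOpen ((O : Set X) ∩ ⋂ k, (B k : Set X)) :=
      O.isOpen.inter (isOpen_iInter_of_finite fun k => (B k).isOpen)
    have haT₀ : a ∈ (O : Set X) ∩ ⋂ k, (B k : Set X) := ⟨haO, Set.mem_iInter.2 haB⟩
    obtain ⟨_, ⟨T, hT, rfl⟩, haT, hTle⟩ := X.isBasis_affineOpens.exists_subset_of_mem_open haT₀ hT₀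
    refine ⟨T, haT, hT, fun z hz hzU => hO z (hTle hz).1 hzU, fun k => ?_⟩
    have hle : (Z k).subschemeι ⁻¹ᵁ T ≤ (Z k).subschemeι ⁻¹ᵁ B k :=
      (Z k).subschemeι.preimage_mono (fun y hy => Set.mem_iInter.1 (hTle hy).2 k)
    exact ⟨res (L k) hle (eB k), (heB k).mono hle⟩
  choose T haT hTaff hiso hek using hdata
  choose e he using hek
  let P : Fin n → X.Modules := fun k => (Scheme.Modules.pushforward (Z k).subschemeι).obj (L k)
  let e' : ∀ (a : X) (k : Fin n), Γ(P k, T a) := fun a k => e a k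
  have hgen : ∀ (a : X) (W : X.Opens) (hW : W ≤ T a), W ≤ U →
      Function.Bijective (fun (r : Γ(X, W)) (k : Fin n) => r • res (P k) hW (e' a k)) := by
    intro a W hW hWU
    have hWgood : ∀ x ∈ W, ∀ i j, x ∈ ((Z i).support : Set X) → x ∈ ((Z j).support : Set X) → i = j :=
      fun x hx => (mem_goodOpen_iff Z x).1 (hWU hx)
    constructor
    · intro r r' hrr'
      apply eq_of_forall_app_eq Z hcov
      intro k
      have h1 : ((Z k).subschemeι.app W r • res (L k) ((Z k).subschemeι.preimage_mono hW) (e a k) :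
          Γ(L k, (Z k).subschemeι ⁻¹ᵁ W)) =
          (Z k).subschemeι.app W r' • res (L k) ((Z k).subschemeι.preimage_mono hW) (e a k) :=
        congrFun hrr' k
      exact (he a k _ ((Z k).subschemeι.preimage_mono hW)).1 h1
    · intro m
      have hs : ∀ k, ∃ s : Γ((Z k).subscheme, (Z k).subschemeι ⁻¹ᵁ W),
          s • res (L k) ((Z k).subschemeι.preimage_mono hW) (e a k) = (m k : Γ(L k, (Z k).subschemeι ⁻¹ᵁ W)) :=
        fun k => (he a k _ ((Z k).subschemeι.preimage_mono hW)).2 (m k)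
      choose s hs using hs
      obtain ⟨r, hr⟩ := exists_joint Z hcov W hWgood s
      refine ⟨r, funext fun k => ?_⟩
      change ((Z k).subschemeι.app W r • res (L k) ((Z k).subschemeι.preimage_mono hW) (e a k) :
          Γ(L k, (Z k).subschemeι ⁻¹ᵁ W)) = m k
      rw [hr k, hs k]
  have hTU : ∀ i j, i ≠ j → T i ⊓ T j ≤ U := by
    intro i j hij z hz
    by_contra hzU
    exact hij ((hiso i z hz.1 hzU).symm.trans (hiso j z hz.2 hzU))
  have hT : iSup T = ⊤ := by
    rw [eq_top_iff]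
    intro y _
    exact Opens.mem_iSup.2 ⟨y, haT y⟩
  obtain ⟨M, hM, ε, ψ, hε, hψ⟩ := exists_glue_family U P T e' hgen hTU hT
  haveI : M.IsQuasicoherent := isQuasicoherent_of_isInvertible M hM
  refine ⟨M, hM, fun k => nonempty_pullback_iso_of_gens (Z k).subschemeι M (L k) (ψ k) T hT hTaff ε hε
    (fun a => ?_)⟩
  have h1 := hψ k a (T a) le_rfl 1
  rw [one_smul, one_smul, Groth.Agent.Helper13ModGlue.res_self, Groth.Agent.Helper13ModGlue.res_self] at h1
  have h2 : (show Γ(L k, (Z k).subschemeι ⁻¹ᵁ T a) from (ψ k).app (T a) (ε a)) = e a k := h1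
  rw [h2]
  exact he a k

end main

end Groth.Agent.Lib.T2H5.ClosedCoverPic
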