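import Mathlib

/-!
# Morphisms that are isomorphisms / closed immersions near a closed subset: algebra and affine charts (helper5)

Namespace `Groth.Agent.Lib.T2H5.ComplNear`.

* `exists_mul_mem_range` : Nakayama. For a finite ring map `φ : B → C` with `B/K → C/KC` onto there is
  `t ≡ 1 mod K` with `φ t * c ∈ φ(B)` for all `c`.
* `exists_mul_ker_eq_zero` : Krull. For Noetherian `B`, if `φ⁻¹(K^{n+1} C) ⊆ K^{n+1}` for all `n`, there is
  `t ≡ 1 mod K` killing `ker φ`.
* `app_basicOpen_surjective`, `app_basicOpen_injective` : the corresponding statements for sections over a basic open.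
* `isClosedImmersion_restrict_of_surjective`, `isIso_restrict_of_bijective` : a morphism with affine `V`, `f⁻¹V` and
  surjective (bijective) map on sections is a closed immersion (isomorphism) over `V`.
* `restrict_mono`, `restrict_of_forall_exists` : properties local at the target restrict to smaller opens and glue.
-/

set_option autoImplicit false
set_option backward.isDefEq.respectTransparency.types false
set_option linter.style.haveILetI false
set_option linter.unusedSectionVars false
set_option linter.unusedVariables false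
universe u
open CategoryTheory CategoryTheory.Limits Opposite AlgebraicGeometry TopologicalSpace

namespace Groth.Agent.Lib.T2H5.ComplNear

section algebra

variable {B C : Type*} [CommRing B] [CommRing C]

/-- **Nakayama**: if `φ : B → C` is finite and `B/K → C/KC` is onto, some `t ≡ 1 mod K` multiplies `C` into `φ(B)`. -/
theorem exists_mul_mem_range (φ : B →+* C) (hfin : φ.Finite) (K : Ideal B)
    (h : ∀ c : C, ∃ b : B, c - φ b ∈ K.map φ) :
    ∃ t : B, t - 1 ∈ K ∧ ∀ c : C, ∃ b : B, φ t * c = φ b := by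
  letI : Algebra B C := φ.toAlgebra
  haveI : Module.Finite B C := hfin
  let N : Submodule B C := LinearMap.range (Algebra.linearMap B C)
  have htop : (⊤ : Submodule B (C ⧸ N)) ≤ K • (⊤ : Submodule B (C ⧸ N)) := by
    intro q _
    obtain ⟨c, rfl⟩ := Submodule.Quotient.mk_surjective N q
    obtain ⟨b, hb⟩ := h c
    have h1 : (Submodule.Quotient.mk c : C ⧸ N) = Submodule.Quotient.mk (c - φ b) := by
      rw [eq_comm, Submodule.Quotient.eq]
      refine ⟨-b, ?_⟩
      change algebraMap B C (-b) = c - φ b - c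
      rw [map_neg]
      change -φ b = _
      ring
    rw [h1]
    have h2 : c - φ b ∈ (K • (⊤ : Submodule B C)) := by
      rw [Ideal.smul_top_eq_map]
      exact hb
    have h3 : (K • (⊤ : Submodule B C)).map N.mkQ ≤ K • (⊤ : Submodule B (C ⧸ N)) := by
      rw [Submodule.map_smul'']
      exact Submodule.smul_mono le_rfl le_top
    exact h3 ⟨_, h2, rfl⟩
  obtain ⟨t, ht1, ht2⟩ := Submodule.exists_sub_one_mem_and_smul_eq_zero_of_fg_of_le_smul K
    (⊤ : Submodule B (C ⧸ N)) (Module.Finite.fg_top) htop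
  refine ⟨t, ht1, fun c => ?_⟩
  have h4 := ht2 (Submodule.Quotient.mk c) trivial
  rw [← Submodule.Quotient.mk_smul, Submodule.Quotient.mk_eq_zero] at h4
  obtain ⟨b, hb⟩ := h4
  exact ⟨b, hb.symm⟩

/-- **Krull**: over a Noetherian ring, if `φ⁻¹(K^{n+1}C) ⊆ K^{n+1}` for all `n`, some `t ≡ 1 mod K` kills `ker φ`. -/
theorem exists_mul_ker_eq_zero [IsNoetherianRing B] (φ : B →+* C) (K : Ideal B)
    (h : ∀ n : ℕ, ∀ b : B, φ b ∈ (K ^ (n + 1)).map φ → b ∈ K ^ (n + 1)) :
    ∃ t : B, t - 1 ∈ K ∧ ∀ b : B, φ b = 0 → t * b = 0 := by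
  let N : Submodule B B := RingHom.ker φ
  have hle : N ≤ K • N := by
    intro b hb
    have hb0 : φ b = 0 := hb
    have h1 : b ∈ (⨅ i : ℕ, K ^ i • ⊤ : Submodule B B) := by
      rw [Submodule.mem_iInf]
      intro i
      rw [smul_eq_mul, Ideal.mul_top]
      cases i with
      | zero => rw [pow_zero, Ideal.one_eq_top]; trivial
      | succ n => exact h n b (by rw [hb0]; exact Ideal.zero_mem _)
    obtain ⟨r, hr⟩ := (Ideal.mem_iInf_smul_pow_eq_bot_iff K b).1 h1
    rw [← hr]
    exact Submodule.smul_mem_smul r.2 hb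
  obtain ⟨t, ht1, ht2⟩ := Submodule.exists_sub_one_mem_and_smul_eq_zero_of_fg_of_le_smul K N
    (IsNoetherian.noetherian N) hle
  exact ⟨t, ht1, fun b hb => ht2 b hb⟩

end algebra

section away

variable {B C : Type*} [CommRing B] [CommRing C] (φ : B →+* C) (s : B)
  (B' C' : Type*) [CommRing B'] [CommRing C'] [Algebra B B'] [Algebra C C']
  [IsLocalization.Away s B'] [IsLocalization.Away (φ s) C']

theorem awayMap_surjective (hs : ∀ c : C, ∃ b : B, φ s * c = φ b) :
    Function.Surjective (IsLocalization.Away.map B' C' φ s) := by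
  intro x
  obtain ⟨⟨c, ⟨_, n, rfl⟩⟩, rfl⟩ := IsLocalization.mk'_surjective (Submonoid.powers (φ s)) x
  obtain ⟨b, hb⟩ := hs c
  refine ⟨IsLocalization.mk' B' b (⟨s ^ (n + 1), n + 1, rfl⟩ : Submonoid.powers s), ?_⟩
  rw [IsLocalization.Away.map, IsLocalization.map_mk', IsLocalization.mk'_eq_iff_eq]
  simp only [map_pow]
  rw [← hb, pow_succ]
  congr 1
  ring

theorem awayMap_injective (hs : ∀ b : B, φ b = 0 → s * b = 0) :
    Function.Injective (IsLocalization.Away.map B' C' φ s) := by
  rw [injective_iff_map_eq_zero]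
  intro y hy
  obtain ⟨⟨b, ⟨_, n, rfl⟩⟩, rfl⟩ := IsLocalization.mk'_surjective (Submonoid.powers s) y
  rw [IsLocalization.Away.map, IsLocalization.map_mk', IsLocalization.mk'_eq_zero_iff] at hy
  obtain ⟨⟨_, k, rfl⟩, hk⟩ := hy
  rw [IsLocalization.mk'_eq_zero_iff]
  have h1 : φ (s ^ k * b) = 0 := by
    rw [map_mul, map_pow]
    exact hk
  refine ⟨⟨s ^ (k + 1), k + 1, rfl⟩, ?_⟩
  change s ^ (k + 1) * b = 0
  rw [pow_succ', mul_assoc]
  exact hs _ h1

end away

section charts

variable {X Y : Scheme.{u}} (f : X ⟶ Y)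

/-- properties of `appLE` do not depend on how the opens are written -/
theorem appLE_congr_opens {A A' : Y.Opens} {B B' : X.Opens} (hA : A = A') (hB : B = B')
    (e : B ≤ f ⁻¹ᵁ A) (Pr : ∀ {R S : CommRingCat.{u}}, (R ⟶ S) → Prop) :
    Pr (f.appLE A B e) ↔ Pr (f.appLE A' B' (hA ▸ hB ▸ e)) := by
  subst hA hB; rfl

theorem appTop_restrict_iff (V : Y.Opens) (Pr : ∀ {R S : CommRingCat.{u}}, (R ⟶ S) → Prop) :
    Pr (f ∣_ V).appTop ↔ Pr (f.app V) := by
  rw [Scheme.Hom.appTop, morphismRestrict_app', Scheme.Hom.app_eq_appLE]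
  exact appLE_congr_opens f (by simp) (by simp) _ Pr

theorem appLE_res {A A' : Y.Opens} {B B' : X.Opens}
    (hle : B ≤ f ⁻¹ᵁ A) (hle' : B' ≤ f ⁻¹ᵁ A') (hA : A' ≤ A) (hB : B' ≤ B) (r : Γ(Y, A)) :
    (f.appLE A' B' hle').hom (Y.presheaf.map (homOfLE hA).op r) =
      X.presheaf.map (homOfLE hB).op ((f.appLE A B hle).hom r) := by
  have h1 : Y.presheaf.map (homOfLE hA).op ≫ f.appLE A' B' hle' =
      f.appLE A B' (hB.trans hle) := Scheme.Hom.map_appLE f hle' (homOfLE hA).op
  have h2 : f.appLE A B hle ≫ X.presheaf.map (homOfLE hB).op = f.appLE A B' (hB.trans hle) :=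
    Scheme.Hom.appLE_map f hle (homOfLE hB).op
  exact congrArg (fun φ => φ.hom r) (h1.trans h2.symm)

/-- a morphism with `V`, `f⁻¹V` affine and surjective map on sections over `V` is a closed immersion over `V` -/
theorem isClosedImmersion_restrict_of_surjective {V : Y.Opens} (hV : IsAffineOpen V)
    (hW : IsAffineOpen (f ⁻¹ᵁ V)) (h : Function.Surjective (f.app V).hom) :
    IsClosedImmersion (f ∣_ V) := by
  haveI : IsAffine V.toScheme := hV
  haveI : IsAffine (f ⁻¹ᵁ V).toScheme := hW
  apply IsClosedImmersion.of_surjective_of_isAffine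
  exact (appTop_restrict_iff f V (fun φ => Function.Surjective φ.hom)).2 h

/-- a morphism with `V`, `f⁻¹V` affine and bijective map on sections over `V` is an isomorphism over `V` -/
theorem isIso_restrict_of_bijective {V : Y.Opens} (hV : IsAffineOpen V)
    (hW : IsAffineOpen (f ⁻¹ᵁ V)) (h : Function.Bijective (f.app V).hom) :
    IsIso (f ∣_ V) := by
  haveI : IsAffine V.toScheme := hV
  haveI : IsAffine (f ⁻¹ᵁ V).toScheme := hW
  have h1 : Function.Bijective (f ∣_ V).appTop.hom :=
    (appTop_restrict_iff f V (fun φ => Function.Bijective φ.hom)).2 h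
  have h2 : IsIso (f ∣_ V).appTop := by
    rw [ConcreteCategory.isIso_iff_bijective]
    exact h1
  exact (HasAffineProperty.iff_of_isAffine (P := MorphismProperty.isomorphisms Scheme)).2
    ⟨inferInstance, h2⟩

end charts

section basicOpen

variable {X Y : Scheme.{u}} (f : X ⟶ Y) {V : Y.Opens} (hV : IsAffineOpen V)
  (hW : IsAffineOpen (f ⁻¹ᵁ V))

include hV hW in
theorem app_basicOpen_surjective (s : Γ(Y, V))
    (hs : ∀ c : Γ(X, f ⁻¹ᵁ V), ∃ b : Γ(Y, V), (f.app V).hom s * c = (f.app V).hom b) :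
    Function.Surjective (f.app (Y.basicOpen s)).hom := by
  haveI := hV.isLocalization_basicOpen s
  haveI := hW.isLocalization_basicOpen (f.app V s)
  rw [RingHom.surjective_respectsIso.arrow_mk_iso_iff (hV.appBasicOpenIsoAwayMap f hW s)]
  exact awayMap_surjective (f.app V).hom s _ _ hs

include hV hW in
theorem app_basicOpen_injective (s : Γ(Y, V))
    (hs : ∀ b : Γ(Y, V), (f.app V).hom b = 0 → s * b = 0) :
    Function.Injective (f.app (Y.basicOpen s)).hom := by
  haveI := hV.isLocalization_basicOpen s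
  haveI := hW.isLocalization_basicOpen (f.app V s)
  rw [RingHom.injective_respectsIso.arrow_mk_iso_iff (hV.appBasicOpenIsoAwayMap f hW s)]
  exact awayMap_injective (f.app V).hom s _ _ hs

include hV hW in
theorem isAffineOpen_preimage_basicOpen (s : Γ(Y, V)) : IsAffineOpen (f ⁻¹ᵁ (Y.basicOpen s)) := by
  rw [Scheme.preimage_basicOpen]
  exact hW.basicOpen _

end basicOpen

section localTarget

variable {P : MorphismProperty Scheme.{u}} [IsZariskiLocalAtTarget P] {X Y : Scheme.{u}} (f : X ⟶ Y)

/-- a property local at the target which holds over `W` holds over every smaller open -/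
theorem restrict_mono {W' W : Y.Opens} (hle : W' ≤ W) (h : P (f ∣_ W)) : P (f ∣_ W') := by
  have h1 : P (f ∣_ W ∣_ (W.ι ⁻¹ᵁ W')) := IsZariskiLocalAtTarget.restrict h _
  rw [P.arrow_mk_iso_iff (morphismRestrictRestrict f W _)] at h1
  have e : W.ι ''ᵁ (W.ι ⁻¹ᵁ W') = W' := by
    rw [Scheme.Hom.image_preimage_eq_opensRange_inf, Scheme.Opens.opensRange_ι]
    exact inf_eq_right.mpr hle
  rwa [P.arrow_mk_iso_iff (morphismRestrictEq f e)] at h1

/-- a property local at the target holds over `W` if it holds near every point of `W` -/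
theorem restrict_of_forall_exists (W : Y.Opens)
    (h : ∀ y ∈ W, ∃ V : Y.Opens, y ∈ V ∧ P (f ∣_ V)) : P (f ∣_ W) := by
  apply IsZariskiLocalAtTarget.of_forall_exists_morphismRestrict
  intro x
  obtain ⟨V, hxV, hV⟩ := h x.1 x.2
  refine ⟨W.ι ⁻¹ᵁ V, hxV, ?_⟩
  rw [P.arrow_mk_iso_iff (morphismRestrictRestrict f W _)]
  refine restrict_mono f ?_ hV
  rw [Scheme.Hom.image_preimage_eq_opensRange_inf]
  exact inf_le_right

end localTarget

end Groth.Agent.Lib.T2H5.ComplNear
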