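-- helper6 (team 2): levelwise fibre products of systems of thickenings and completions along inverse image ideals
import Mathlib
import Groth.Agent.Lib.T2H6FSysAdic

set_option autoImplicit false
universe u
open CategoryTheory CategoryTheory.Limits AlgebraicGeometry TopologicalSpace Opposite

namespace Groth.Agent.Lib.T2H6.FSysPullback

open Scheme.IdealSheafData Groth.Agent.Lib.T2H6.FSysBasic Groth.Agent.Lib.T2H6.FSysNoeth
  Groth.Agent.Lib.T2H6.FSysAdic

noncomputable section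

section Pullback

variable {𝔛 𝔖 𝔖' : FSch.Sys.{u}} (f : 𝔛 ⟶ 𝔖) (g : 𝔖' ⟶ 𝔖)

/-- the second projection of the levelwise fibre product is adic when `f` is -/
theorem isAdicHom_pullbackSnd (hf : FSch.IsAdicHom f) : FSch.IsAdicHom (FSch.pullbackSnd f g) := by
  intro n
  have hleft : IsPullback (pullback.fst ((f : FSch.Hom 𝔛 𝔖).app n) ((g : FSch.Hom 𝔖' 𝔖).app n))
      (pullback.snd ((f : FSch.Hom 𝔛 𝔖).app n) ((g : FSch.Hom 𝔖' 𝔖).app n))
      ((f : FSch.Hom 𝔛 𝔖).app n) ((g : FSch.Hom 𝔖' 𝔖).app n) := IsPullback.of_hasPullback _ _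
  have hbig := hleft.paste_horiz (hf n)
  have hright : IsPullback
      (pullback.fst ((f : FSch.Hom 𝔛 𝔖).app (n + 1)) ((g : FSch.Hom 𝔖' 𝔖).app (n + 1)))
      (pullback.snd ((f : FSch.Hom 𝔛 𝔖).app (n + 1)) ((g : FSch.Hom 𝔖' 𝔖).app (n + 1)))
      ((f : FSch.Hom 𝔛 𝔖).app (n + 1)) ((g : FSch.Hom 𝔖' 𝔖).app (n + 1)) :=
    IsPullback.of_hasPullback _ _
  have e1 : pullback.fst ((f : FSch.Hom 𝔛 𝔖).app n) ((g : FSch.Hom 𝔖' 𝔖).app n) ≫ 𝔛.ι n =
      (FSch.pullbackSys f g).ι n ≫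
        pullback.fst ((f : FSch.Hom 𝔛 𝔖).app (n + 1)) ((g : FSch.Hom 𝔖' 𝔖).app (n + 1)) :=
    (pullback.lift_fst _ _ _).symm
  have e2 : (g : FSch.Hom 𝔖' 𝔖).app n ≫ 𝔖.ι n = 𝔖'.ι n ≫ (g : FSch.Hom 𝔖' 𝔖).app (n + 1) :=
    (g : FSch.Hom 𝔖' 𝔖).comm n
  rw [e1, e2] at hbig
  exact IsPullback.of_right hbig (pullback.lift_snd _ _ _) hright

/-- **EGA I 10.13.5-style**: the levelwise fibre product of an adic system of finite type with a locally Noetherian
adic formal system is a locally Noetherian adic formal system -/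
theorem isLocNoethFormal_pullbackSys (h𝔖' : 𝔖'.IsLocNoethFormal) (hf : FSch.IsAdicHom f)
    [LocallyOfFiniteType ((f : FSch.Hom 𝔛 𝔖).app 0)] :
    (FSch.pullbackSys f g).IsLocNoethFormal ∧ FSch.IsAdicHom (FSch.pullbackSnd f g) ∧
      LocallyOfFiniteType ((FSch.pullbackSnd f g : FSch.Hom _ _).app 0) := by
  have h3 : LocallyOfFiniteType ((FSch.pullbackSnd f g : FSch.Hom _ _).app 0) :=
    inferInstanceAs (LocallyOfFiniteType
      (pullback.snd ((f : FSch.Hom 𝔛 𝔖).app 0) ((g : FSch.Hom 𝔖' 𝔖).app 0)))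
  have h2 := isAdicHom_pullbackSnd f g hf
  refine ⟨?_, h2, h3⟩
  haveI : IsLocallyNoetherian (𝔖'.X 0) := h𝔖'.2.2 0
  haveI : IsLocallyNoetherian ((FSch.pullbackSys f g).X 0) :=
    LocallyOfFiniteType.isLocallyNoetherian ((FSch.pullbackSnd f g : FSch.Hom _ _).app 0)
  exact isLocNoethFormal_of_isAdicHom (FSch.pullbackSnd f g) h2 h𝔖'

end Pullback

section Completion

variable {X Y : Scheme.{u}} (f : X ⟶ Y) (𝓚 : Y.IdealSheafData)
  (h : FSch.PowCompat f (𝓚.comap f) 𝓚)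

theorem isPullback_completionToX (n : ℕ) :
    IsPullback (FSch.completionToX X (𝓚.comap f) n)
      ((FSch.completionMap f (𝓚.comap f) 𝓚 h : FSch.Hom _ _).app n) f
      (FSch.completionToX Y 𝓚 n) := by
  refine isPullback_of_isClosedImmersion _ _ _ _ ?_ ?_
  · exact (subschemeMap_subschemeι _ _ f
      (Scheme.IdealSheafData.le_map_iff_comap_le.mpr (h n))).symm
  · change (𝓚 ^ (n + 1)).subschemeι.ker.comap f = ((𝓚.comap f) ^ (n + 1)).subschemeι.ker
    rw [ker_subschemeι, ker_subschemeι, comap_pow]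

theorem isAdicHom_completionMap : FSch.IsAdicHom (FSch.completionMap f (𝓚.comap f) 𝓚 h) := by
  intro n
  have hn := isPullback_completionToX f 𝓚 h n
  have hn1 := isPullback_completionToX f 𝓚 h (n + 1)
  rw [← completion_ι_toX X (𝓚.comap f) n, ← completion_ι_toX Y 𝓚 n] at hn
  exact IsPullback.of_right hn ((FSch.completionMap f (𝓚.comap f) 𝓚 h : FSch.Hom _ _).comm n).symm hn1

end Completion

end

end Groth.Agent.Lib.T2H6.FSysPullback
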