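import Mathlib
import Groth.Agent.Lib.T2H5ComplNearA
import Groth.Agent.Lib.T2H6FSysPullback
import Groth.Agent.Lib.Helper22IdealComap
import Groth.Prelude.Def_FSch5

/-!
# Completed morphisms: isomorphism / closed immersion near the support (helper5), EGA III 4.6.8

Namespace `Groth.Agent.Lib.T2H5.ComplNear`.

* `exists_sub_mem_ideal`, `mem_ideal_of_app_mem` : translation of "the induced map of closed subschemes is a closed
  immersion / an isomorphism" into ring statements on an affine chart.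
* `finite_fiber`, `exists_affine_finite` : a proper morphism whose level-0 completed map is injective is finite near the
  support.
* `exists_nhd_isClosedImmersion`, `exists_nhd_isIso` : the local statements.
* `level_of_restrict` : the converse, by base change.
* `main_isClosedImmersion`, `main_isIso`.
-/

set_option autoImplicit false
set_option backward.isDefEq.respectTransparency.types false
set_option linter.style.haveILetI false
set_option linter.unusedSectionVars false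
set_option linter.unusedVariables false
universe u
open CategoryTheory CategoryTheory.Limits Opposite AlgebraicGeometry TopologicalSpace

namespace Groth.Agent.Lib.T2H5.ComplNear

open Scheme.IdealSheafData

section appLE

variable {X Y : Scheme.{u}} (g : X ⟶ Y)

theorem appLE_surjective_of_eq [IsClosedImmersion g] (A : Y.Opens) (hA : IsAffineOpen A) (B : X.Opens)
    (e : B = g ⁻¹ᵁ A) : Function.Surjective (g.appLE A B e.le).hom := by
  subst e
  rw [← Scheme.Hom.app_eq_appLE]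
  exact g.app_surjective A hA

theorem appLE_injective_of_eq [IsIso g] (A : Y.Opens) (B : X.Opens)
    (e : B = g ⁻¹ᵁ A) : Function.Injective (g.appLE A B e.le).hom := by
  subst e
  rw [← Scheme.Hom.app_eq_appLE]
  exact (ConcreteCategory.bijective_of_isIso (g.app A)).1

end appLE

section translate

variable {X Y : Scheme.{u}} (f : X ⟶ Y) (𝓐 : X.IdealSheafData) (𝓑 : Y.IdealSheafData)
  (H : 𝓑 ≤ 𝓐.map f) {V : Y.Opens} (hV : IsAffineOpen V) (hW : IsAffineOpen (f ⁻¹ᵁ V))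

theorem preimage_eq :
    𝓐.subschemeι ⁻¹ᵁ (f ⁻¹ᵁ V) = (subschemeMap 𝓐 𝓑 f H) ⁻¹ᵁ (𝓑.subschemeι ⁻¹ᵁ V) := by
  rw [← Scheme.Hom.comp_preimage, ← Scheme.Hom.comp_preimage, subschemeMap_subschemeι]

theorem sq_app :
    𝓑.subschemeι.app V ≫ (subschemeMap 𝓐 𝓑 f H).appLE (𝓑.subschemeι ⁻¹ᵁ V)
      (𝓐.subschemeι ⁻¹ᵁ (f ⁻¹ᵁ V)) (preimage_eq f 𝓐 𝓑 H).le =
    f.app V ≫ 𝓐.subschemeι.app (f ⁻¹ᵁ V) := by
  rw [Scheme.Hom.app_eq_appLE, Scheme.Hom.app_eq_appLE, Scheme.Hom.app_eq_appLE]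
  have e3 : 𝓐.subschemeι ⁻¹ᵁ (f ⁻¹ᵁ V) ≤ (𝓐.subschemeι ≫ f) ⁻¹ᵁ V := le_rfl
  exact (FSch.appLE_comp_appLE_of_eq _ _ _ (subschemeMap_subschemeι 𝓐 𝓑 f H) _ _ _ _ _ e3).trans
    (FSch.appLE_comp_appLE_of_eq _ _ _ rfl _ _ _ _ _ e3).symm

include hV hW in
/-- if the induced map of closed subschemes is a closed immersion, sections over `f⁻¹V` come from `V` modulo the
ideal -/
theorem exists_sub_mem_ideal [IsClosedImmersion (subschemeMap 𝓐 𝓑 f H)] (c : Γ(X, f ⁻¹ᵁ V)) :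
    ∃ b : Γ(Y, V), c - (f.app V).hom b ∈ 𝓐.ideal ⟨f ⁻¹ᵁ V, hW⟩ := by
  have hV' : IsAffineOpen (𝓑.subschemeι ⁻¹ᵁ V) := hV.preimage 𝓑.subschemeι
  have hs1 : Function.Surjective ((subschemeMap 𝓐 𝓑 f H).appLE (𝓑.subschemeι ⁻¹ᵁ V)
      (𝓐.subschemeι ⁻¹ᵁ (f ⁻¹ᵁ V)) (preimage_eq f 𝓐 𝓑 H).le).hom :=
    appLE_surjective_of_eq (subschemeMap 𝓐 𝓑 f H) _ hV' _ (preimage_eq f 𝓐 𝓑 H)
  have hs2 : Function.Surjective (𝓑.subschemeι.app V).hom := 𝓑.subschemeι.app_surjective V hV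
  obtain ⟨y', hy'⟩ := hs1 ((𝓐.subschemeι.app (f ⁻¹ᵁ V)).hom c)
  obtain ⟨b, rfl⟩ := hs2 y'
  refine ⟨b, ?_⟩
  rw [← 𝓐.ker_subschemeι_app ⟨f ⁻¹ᵁ V, hW⟩, RingHom.mem_ker, map_sub, sub_eq_zero]
  have := congrArg (fun φ => φ.hom b) (sq_app f 𝓐 𝓑 H (V := V))
  exact hy'.symm.trans this

include hV hW in
/-- if the induced map of closed subschemes is an isomorphism, a section over `V` whose pullback lies in the ideal lies
in the ideal -/
theorem mem_ideal_of_app_mem [IsIso (subschemeMap 𝓐 𝓑 f H)] (b : Γ(Y, V))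
    (hb : (f.app V).hom b ∈ 𝓐.ideal ⟨f ⁻¹ᵁ V, hW⟩) : b ∈ 𝓑.ideal ⟨V, hV⟩ := by
  have hi1 : Function.Injective ((subschemeMap 𝓐 𝓑 f H).appLE (𝓑.subschemeι ⁻¹ᵁ V)
      (𝓐.subschemeι ⁻¹ᵁ (f ⁻¹ᵁ V)) (preimage_eq f 𝓐 𝓑 H).le).hom :=
    appLE_injective_of_eq (subschemeMap 𝓐 𝓑 f H) _ _ (preimage_eq f 𝓐 𝓑 H)
  rw [← 𝓐.ker_subschemeι_app ⟨f ⁻¹ᵁ V, hW⟩, RingHom.mem_ker] at hb
  rw [← 𝓑.ker_subschemeι_app ⟨V, hV⟩, RingHom.mem_ker]
  apply hi1
  rw [map_zero]
  have := congrArg (fun φ => φ.hom b) (sq_app f 𝓐 𝓑 H (V := V))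
  exact this.trans hb

end translate

section fibre

variable {X Y : Scheme.{u}} (f : X ⟶ Y) (𝓚 : Y.IdealSheafData)
  (hc : FSch.PowCompat f (𝓚.comap f) 𝓚)

/-- if the level-0 completed map is injective, the fibres of `f` over the support have at most one point -/
theorem finite_fiber
    (hinj : Function.Injective ((FSch.completionMap f (𝓚.comap f) 𝓚 hc : FSch.Hom _ _).app 0).base)
    (y : Y) (hy : y ∈ 𝓚.support) : (f ⁻¹' {y}).Finite := by
  have hpb := Groth.Agent.Lib.T2H6.FSysPullback.isPullback_completionToX f 𝓚 hc 0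
  have hy' : y ∈ Set.range (𝓚 ^ (0 + 1)).subschemeι := by
    rw [range_subschemeι]
    exact hy
  obtain ⟨y0, rfl⟩ := hy'
  refine Set.Subsingleton.finite ?_
  intro x hx x' hx'
  obtain ⟨p, hp1, hp2⟩ := Scheme.exists_preimage_of_isPullback hpb x y0 hx
  obtain ⟨p', hp1', hp2'⟩ := Scheme.exists_preimage_of_isPullback hpb x' y0 hx'
  have hpp : p = p' := hinj (hp2.trans hp2'.symm)
  rw [← hp1, ← hp1', hpp]

/-- a proper morphism with a finite fibre at `y` is, over an affine neighbourhood of `y`, given by a finite ring map -/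
theorem exists_affine_finite [IsProper f] (y : Y) (hfin : (f ⁻¹' {y}).Finite) :
    ∃ V : Y.Opens, IsAffineOpen V ∧ y ∈ V ∧ IsAffineOpen (f ⁻¹ᵁ V) ∧ (f.app V).hom.Finite := by
  obtain ⟨V₁, hy1, hf1⟩ := exists_isFinite_morphismRestrict_of_finite_preimage_singleton f y hfin
  obtain ⟨V, hV, hyV, hVV₁⟩ := exists_isAffineOpen_mem_and_subset hy1
  have hf2 : IsFinite (f ∣_ V) := restrict_mono (P := @IsFinite) f hVV₁ hf1
  haveI : IsAffine V.toScheme := hV
  obtain ⟨h1, h2⟩ := (HasAffineProperty.iff_of_isAffine (P := @IsFinite)).1 hf2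
  exact ⟨V, hV, hyV, h1, (appTop_restrict_iff f V (fun φ => φ.hom.Finite)).1 h2⟩

end fibre

section ideals

variable {X Y : Scheme.{u}} (f : X ⟶ Y) (𝓚 : Y.IdealSheafData)
  {V : Y.Opens} (hV : IsAffineOpen V) (hW : IsAffineOpen (f ⁻¹ᵁ V))

theorem ideal_comap_pow (n : ℕ) :
    ((𝓚.comap f) ^ (n + 1)).ideal ⟨f ⁻¹ᵁ V, hW⟩ =
      ((𝓚.ideal ⟨V, hV⟩) ^ (n + 1)).map (f.app V).hom := by
  have h1 := Groth.Agent.Lib.Helper22.IdealComap.ideal_comap_eq_map f 𝓚 ⟨f ⁻¹ᵁ V, hW⟩ ⟨V, hV⟩ le_rfl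
  rw [ideal_pow, Pi.pow_apply, h1, Ideal.map_pow, Scheme.Hom.app_eq_appLE]

theorem mem_basicOpen_of_sub_one_mem (y : Y) (hyV : y ∈ V) (hy : y ∈ 𝓚.support) (s : Γ(Y, V))
    (hs : s - 1 ∈ 𝓚.ideal ⟨V, hV⟩) : y ∈ Y.basicOpen s := by
  have h1 : y ∈ Y.zeroLocus (U := V) (𝓚.ideal ⟨V, hV⟩) :=
    (mem_support_iff_of_mem (U := ⟨V, hV⟩) hyV).1 hy
  rw [Scheme.mem_zeroLocus_iff] at h1
  have h2 : y ∉ Y.basicOpen (1 - s) := h1 (1 - s) (by
    have : 1 - s = -(s - 1) := by ring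
    rw [this]
    exact Ideal.neg_mem_iff _ |>.2 hs)
  have h3 : y ∈ Y.basicOpen (s + (1 - s)) := by
    have : s + (1 - s) = 1 := by ring
    rw [this, Y.basicOpen_of_isUnit isUnit_one]
    exact hyV
  rcases (Y.basicOpen_add_le s (1 - s) h3) with h | h
  · exact h
  · exact (h2 h).elim

end ideals

section nhd

variable {X Y : Scheme.{u}} (f : X ⟶ Y) [IsProper f] (𝓚 : Y.IdealSheafData)
  (hc : FSch.PowCompat f (𝓚.comap f) 𝓚)

/-- if the level-0 completed map is a closed immersion, `f` is a closed immersion near every point of the support -/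
theorem exists_nhd_isClosedImmersion
    (h0 : IsClosedImmersion ((FSch.completionMap f (𝓚.comap f) 𝓚 hc : FSch.Hom _ _).app 0))
    (y : Y) (hy : y ∈ 𝓚.support) : ∃ V : Y.Opens, y ∈ V ∧ IsClosedImmersion (f ∣_ V) := by
  have hinj : Function.Injective
      ((FSch.completionMap f (𝓚.comap f) 𝓚 hc : FSch.Hom _ _).app 0).base :=
    (Scheme.Hom.isClosedEmbedding _).injective
  obtain ⟨V, hV, hyV, hW, hfin⟩ := exists_affine_finite f y (finite_fiber f 𝓚 hc hinj y hy)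
  have H : 𝓚 ^ (0 + 1) ≤ ((𝓚.comap f) ^ (0 + 1)).map f := le_map_iff_comap_le.mpr (hc 0)
  haveI h0' : IsClosedImmersion (subschemeMap ((𝓚.comap f) ^ (0 + 1)) (𝓚 ^ (0 + 1)) f H) := h0
  have hT : ∀ c : Γ(X, f ⁻¹ᵁ V), ∃ b : Γ(Y, V),
      c - (f.app V).hom b ∈ (𝓚.ideal ⟨V, hV⟩).map (f.app V).hom := by
    intro c
    obtain ⟨b, hb⟩ := exists_sub_mem_ideal f ((𝓚.comap f) ^ (0 + 1)) (𝓚 ^ (0 + 1)) H hV hW c
    refine ⟨b, ?_⟩
    rw [ideal_comap_pow f 𝓚 hV hW 0, zero_add, pow_one] at hb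
    exact hb
  obtain ⟨t, ht1, ht2⟩ := exists_mul_mem_range (f.app V).hom hfin (𝓚.ideal ⟨V, hV⟩) hT
  refine ⟨Y.basicOpen t, mem_basicOpen_of_sub_one_mem 𝓚 hV y hyV hy t ht1, ?_⟩
  exact isClosedImmersion_restrict_of_surjective f (hV.basicOpen t)
    (isAffineOpen_preimage_basicOpen f hV hW t) (app_basicOpen_surjective f hV hW t ht2)

/-- if all completed maps are isomorphisms, `f` is an isomorphism near every point of the support -/
theorem exists_nhd_isIso [IsLocallyNoetherian Y]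
    (h : ∀ n : ℕ, IsIso ((FSch.completionMap f (𝓚.comap f) 𝓚 hc : FSch.Hom _ _).app n))
    (y : Y) (hy : y ∈ 𝓚.support) : ∃ V : Y.Opens, y ∈ V ∧ IsIso (f ∣_ V) := by
  have hinj : Function.Injective
      ((FSch.completionMap f (𝓚.comap f) 𝓚 hc : FSch.Hom _ _).app 0).base := by
    haveI := h 0
    exact (Scheme.Hom.isClosedEmbedding _).injective
  obtain ⟨V, hV, hyV, hW, hfin⟩ := exists_affine_finite f y (finite_fiber f 𝓚 hc hinj y hy)
  have H : ∀ n : ℕ, 𝓚 ^ (n + 1) ≤ ((𝓚.comap f) ^ (n + 1)).map f :=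
    fun n => le_map_iff_comap_le.mpr (hc n)
  have h' : ∀ n : ℕ, IsIso (subschemeMap ((𝓚.comap f) ^ (n + 1)) (𝓚 ^ (n + 1)) f (H n)) := h
  have hT : ∀ c : Γ(X, f ⁻¹ᵁ V), ∃ b : Γ(Y, V),
      c - (f.app V).hom b ∈ (𝓚.ideal ⟨V, hV⟩).map (f.app V).hom := by
    intro c
    haveI := h' 0
    obtain ⟨b, hb⟩ := exists_sub_mem_ideal f ((𝓚.comap f) ^ (0 + 1)) (𝓚 ^ (0 + 1)) (H 0) hV hW c
    refine ⟨b, ?_⟩
    rw [ideal_comap_pow f 𝓚 hV hW 0, zero_add, pow_one] at hb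
    exact hb
  have hT2 : ∀ n : ℕ, ∀ b : Γ(Y, V),
      (f.app V).hom b ∈ ((𝓚.ideal ⟨V, hV⟩) ^ (n + 1)).map (f.app V).hom →
        b ∈ (𝓚.ideal ⟨V, hV⟩) ^ (n + 1) := by
    intro n b hb
    haveI := h' n
    rw [← ideal_comap_pow f 𝓚 hV hW n] at hb
    have := mem_ideal_of_app_mem f ((𝓚.comap f) ^ (n + 1)) (𝓚 ^ (n + 1)) (H n) hV hW b hb
    rwa [ideal_pow, Pi.pow_apply] at this
  haveI : IsNoetherianRing Γ(Y, V) := IsLocallyNoetherian.component_noetherian ⟨V, hV⟩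
  obtain ⟨t, ht1, ht2⟩ := exists_mul_mem_range (f.app V).hom hfin (𝓚.ideal ⟨V, hV⟩) hT
  obtain ⟨t', ht1', ht2'⟩ := exists_mul_ker_eq_zero (f.app V).hom (𝓚.ideal ⟨V, hV⟩) hT2
  have hs1 : t * t' - 1 ∈ 𝓚.ideal ⟨V, hV⟩ := by
    have : t * t' - 1 = (t - 1) * t' + (t' - 1) := by ring
    rw [this]
    exact Ideal.add_mem _ (Ideal.mul_mem_right _ _ ht1) ht1'
  refine ⟨Y.basicOpen (t * t'), mem_basicOpen_of_sub_one_mem 𝓚 hV y hyV hy _ hs1, ?_⟩
  refine isIso_restrict_of_bijective f (hV.basicOpen _)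
    (isAffineOpen_preimage_basicOpen f hV hW _) ⟨?_, ?_⟩
  · refine app_basicOpen_injective f hV hW _ fun b hb => ?_
    rw [mul_assoc, ht2' b hb, mul_zero]
  · refine app_basicOpen_surjective f hV hW _ fun c => ?_
    obtain ⟨b, hb⟩ := ht2 c
    refine ⟨t' * b, ?_⟩
    rw [map_mul, map_mul, ← hb]
    ring

end nhd

section assemble

variable {P : MorphismProperty Scheme.{u}} {X Y Z : Scheme.{u}} (f : X ⟶ Y)

theorem exists_open_support [IsZariskiLocalAtTarget P] (𝓚 : Y.IdealSheafData)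
    (hloc : ∀ y ∈ 𝓚.support, ∃ V : Y.Opens, y ∈ V ∧ P (f ∣_ V)) :
    ∃ W : Y.Opens, (𝓚.support : Set Y) ⊆ W ∧ P (f ∣_ W) := by
  let W : Y.Opens := ⨆ V : {V : Y.Opens // P (f ∣_ V)}, V.1
  refine ⟨W, fun y hy => ?_, restrict_of_forall_exists f W fun y hyW => ?_⟩
  · obtain ⟨V, hyV, hPV⟩ := hloc y hy
    exact Opens.mem_iSup.2 ⟨⟨V, hPV⟩, hyV⟩
  · obtain ⟨⟨V, hPV⟩, hyV⟩ := Opens.mem_iSup.1 hyW
    exact ⟨V, hyV, hPV⟩

theorem exists_open_base [IsZariskiLocalAtTarget P] (h : Y ⟶ Z) (hcl : IsClosedMap h)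
    (T : Set Z) (W : Y.Opens) (hW : h ⁻¹' T ⊆ W) (hP : P (f ∣_ W)) :
    ∃ U : Z.Opens, T ⊆ U ∧ P (f ∣_ h ⁻¹ᵁ U) := by
  let U : Z.Opens := ⟨(h '' (W : Set Y)ᶜ)ᶜ, (hcl _ W.isOpen.isClosed_compl).isOpen_compl⟩
  refine ⟨U, fun z hz => ?_, restrict_mono f ?_ hP⟩
  · rintro ⟨y, hy, rfl⟩
    exact hy (hW hz)
  · intro y hy
    by_contra hyW
    exact hy ⟨y, hyW, rfl⟩

/-- the converse: a property stable under base change which holds for `f` over an open containing the support holds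
for every level of the completed morphism -/
theorem level_of_restrict [P.IsStableUnderBaseChange] (𝓚 : Y.IdealSheafData)
    (hc : FSch.PowCompat f (𝓚.comap f) 𝓚) (W : Y.Opens) (hW : (𝓚.support : Set Y) ⊆ W)
    (hP : P (f ∣_ W)) (n : ℕ) :
    P ((FSch.completionMap f (𝓚.comap f) 𝓚 hc : FSch.Hom _ _).app n) := by
  have hbig := Groth.Agent.Lib.T2H6.FSysPullback.isPullback_completionToX f 𝓚 hc n
  have hrange : Set.range (FSch.completionToX Y 𝓚 n) ⊆ Set.range W.ι := by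
    rw [Scheme.Opens.range_ι]
    change Set.range (𝓚 ^ (n + 1)).subschemeι ⊆ _
    rw [range_subschemeι]
    exact hW
  let l := IsOpenImmersion.lift W.ι (FSch.completionToX Y 𝓚 n) hrange
  have hl : l ≫ W.ι = FSch.completionToX Y 𝓚 n := IsOpenImmersion.lift_fac _ _ _
  have hR : IsPullback (f ⁻¹ᵁ W).ι (f ∣_ W) f W.ι := (isPullback_morphismRestrict f W).flip
  have hw : FSch.completionToX X (𝓚.comap f) n ≫ f =
      ((FSch.completionMap f (𝓚.comap f) 𝓚 hc : FSch.Hom _ _).app n ≫ l) ≫ W.ι := by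
    rw [Category.assoc, hl]
    exact hbig.w
  let t := hR.lift (FSch.completionToX X (𝓚.comap f) n)
    ((FSch.completionMap f (𝓚.comap f) 𝓚 hc : FSch.Hom _ _).app n ≫ l) hw
  have ht1 : t ≫ (f ⁻¹ᵁ W).ι = FSch.completionToX X (𝓚.comap f) n := hR.lift_fst _ _ _
  have ht2 : t ≫ (f ∣_ W) = (FSch.completionMap f (𝓚.comap f) 𝓚 hc : FSch.Hom _ _).app n ≫ l :=
    hR.lift_snd _ _ _
  rw [← ht1, ← hl] at hbig
  have hleft := IsPullback.of_right hbig ht2 hR
  exact P.of_isPullback hleft hP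

end assemble

section main

variable {X Y Z : Scheme.{u}} [IsLocallyNoetherian Z] (h : Y ⟶ Z) [IsProper h] (f : X ⟶ Y)
  [IsProper (f ≫ h)] (𝓙 : Z.IdealSheafData)

theorem coe_support_comap : ((𝓙.comap h).support : Set Y) = h ⁻¹' (𝓙.support : Set Z) := by
  rw [support_comap]
  rfl

/-- **EGA III 4.6.8, isomorphism case.** -/
theorem main_isIso (hc : FSch.PowCompat f ((𝓙.comap h).comap f) (𝓙.comap h)) :
    (∀ n : ℕ, IsIso ((FSch.completionMap f ((𝓙.comap h).comap f) (𝓙.comap h) hc :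
        FSch.Hom _ _).app n)) ↔
      ∃ U : Z.Opens, (𝓙.support : Set Z) ⊆ U ∧ IsIso (f ∣_ h ⁻¹ᵁ U) := by
  haveI : IsProper f := IsProper.of_comp f h
  haveI : IsLocallyNoetherian Y := LocallyOfFiniteType.isLocallyNoetherian h
  constructor
  · intro hn
    obtain ⟨W, hW1, hW2⟩ := exists_open_support (P := MorphismProperty.isomorphisms Scheme) f
      (𝓙.comap h) (fun y hy => exists_nhd_isIso f _ hc hn y hy)
    rw [coe_support_comap] at hW1
    exact exists_open_base (P := MorphismProperty.isomorphisms Scheme) f h h.isClosedMap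
      𝓙.support W hW1 hW2
  · rintro ⟨U, hU1, hU2⟩ n
    refine level_of_restrict (P := MorphismProperty.isomorphisms Scheme) f (𝓙.comap h) hc
      (h ⁻¹ᵁ U) ?_ hU2 n
    rw [coe_support_comap]
    exact Set.preimage_mono hU1

/-- **EGA III 4.6.8, closed immersion case.** -/
theorem main_isClosedImmersion (hc : FSch.PowCompat f ((𝓙.comap h).comap f) (𝓙.comap h)) :
    (∀ n : ℕ, IsClosedImmersion ((FSch.completionMap f ((𝓙.comap h).comap f) (𝓙.comap h) hc :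
        FSch.Hom _ _).app n)) ↔
      ∃ U : Z.Opens, (𝓙.support : Set Z) ⊆ U ∧ IsClosedImmersion (f ∣_ h ⁻¹ᵁ U) := by
  haveI : IsProper f := IsProper.of_comp f h
  constructor
  · intro hn
    obtain ⟨W, hW1, hW2⟩ := exists_open_support (P := @IsClosedImmersion) f
      (𝓙.comap h) (fun y hy => exists_nhd_isClosedImmersion f _ hc (hn 0) y hy)
    rw [coe_support_comap] at hW1
    exact exists_open_base (P := @IsClosedImmersion) f h h.isClosedMap 𝓙.support W hW1 hW2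
  · rintro ⟨U, hU1, hU2⟩ n
    refine level_of_restrict (P := @IsClosedImmersion) f (𝓙.comap h) hc (h ⁻¹ᵁ U) ?_ hU2 n
    rw [coe_support_comap]
    exact Set.preimage_mono hU1

end main

end Groth.Agent.Lib.T2H5.ComplNear
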