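import Groth.Agent.Lib.T2H9FFMain
import Groth.Agent.Lib.T2H9FBCZero
import Groth.Agent.Lib.Helper6QCohQcqs

/-!
# Zariski's connectedness theorem, local form (helper9)

`A` Noetherian local, `X` proper over `Spec A`.
* `exists_separating_function`: if the closed fibre is the disjoint union of closed `Z₁`, `Z₂`, some global
  function is `≡ 1` on `Z₁` and `≡ 0` on `Z₂` (modulo the maximal ideals of the local rings); proved from the
  Mittag-Leffler/surjectivity part of the theorem on formal functions (`FFMain.hsurj_qL`) in degree `0`,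
  gluing the idempotents `e_n ∈ Γ(X, O_X/m^{n+1}O_X)` on the two opens `X ∖ Z₂`, `X ∖ Z₁`.
* `isConnected_closedFibre`: if `Γ(X, O_X)` is a local ring, the closed fibre is connected.
-/

set_option autoImplicit false
set_option linter.style.haveILetI false
set_option linter.unusedSectionVars false
set_option linter.unusedVariables false
universe u
open CategoryTheory AlgebraicGeometry Limits TopologicalSpace Opposite

namespace Groth.Agent.Lib.T2H9.ConnZ

open Groth.Agent.Lib.T2H9.FFGeom Groth.Agent.Lib.Helper6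

variable {A : Type u} [CommRing A]
variable (X : Scheme.{u}) [X.Over (Spec (CommRingCat.of A))]

theorem isUnit_ρU {V : X.Opens} (a : A)
    (hV : ∀ x ∈ V, a ∉ ((X ↘ Spec (CommRingCat.of A)).base x).asIdeal) : IsUnit (ρU X V a) := by
  refine RingedSpace.isUnit_of_isUnit_germ (X := X.toLocallyRingedSpace.toRingedSpace) V _ ?_
  intro x hx
  have h1 : x ∈ X.basicOpen (ρU X V a) := by
    change x ∈ X.basicOpen ((X ↘ Spec (CommRingCat.of A)).appLE ⊤ V le_top
      ((Scheme.ΓSpecIso (CommRingCat.of A)).inv a))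
    rw [Scheme.basicOpen_appLE, basicOpen_eq_of_affine]
    exact ⟨hx, hV x hx⟩
  exact (Scheme.mem_basicOpen X (ρU X V a) x hx).1 h1

theorem section_eq_zero_of_forall_exists_notMem (J : Ideal A) (F : X.Modules) (U : X.Opens)
    (hU : ∀ x ∈ U, ∃ a ∈ J, a ∉ ((X ↘ Spec (CommRingCat.of A)).base x).asIdeal)
    (s : Γ(cokernel (Formal.smulFamily J F), U)) : s = 0 := by
  choose a haJ ha using hU
  let V : U → X.Opens := fun x => U ⊓ (X ↘ Spec (CommRingCat.of A)) ⁻¹ᵁ
    (PrimeSpectrum.basicOpen (a x.1 x.2))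
  refine (modSheaf (cokernel (Formal.smulFamily J F))).eq_of_locally_eq' V U
    (fun x => homOfLE inf_le_left) ?_ s 0 ?_
  · intro x hx
    exact Opens.mem_iSup.2 ⟨⟨x, hx⟩, hx, ha x hx⟩
  · intro x
    change res _ (inf_le_left : V x ≤ U) s = res _ (inf_le_left : V x ≤ U) 0
    rw [res_zero]
    have hu : IsUnit (ρU X (V x) (a x.1 x.2)) := isUnit_ρU X _ (fun y hy => hy.2)
    have h0 : (Formal.smulMod A (cokernel (Formal.smulFamily J F)) (a x.1 x.2)).app U s = 0 := by
      rw [smulMod_cokernel_eq_zero X F J _ (haJ x.1 x.2)]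
      rfl
    rw [smulMod_app] at h0
    have h1 := congrArg (res _ (inf_le_left : V x ≤ U)) h0
    rw [res_smul, res_zero, ρU_res] at h1
    obtain ⟨w, hw⟩ := hu
    have h2 := congrArg (fun t => (↑w⁻¹ : Γ(X, V x)) • t) h1
    simp only [smul_zero] at h2
    rw [← hw, smul_smul, Units.inv_mul, one_smul] at h2
    exact h2


theorem app_res {F G : X.Modules} (φ : F ⟶ G) {U V : X.Opens} (h : V ≤ U) (s : Γ(F, U)) :
    φ.app V (res F h s) = res G h (φ.app U s) :=
  ConcreteCategory.congr_hom (φ.mapPresheaf.naturality (homOfLE h).op) s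

/-- the unit section of the structure sheaf over `U` -/
noncomputable def oneSec (U : X.Opens) : Γ(Coh.structureModule X, U) := (1 : Γ(X, U))

theorem res_oneSec {U V : X.Opens} (h : V ≤ U) :
    res (Coh.structureModule X) h (oneSec X U) = oneSec X V :=
  map_one (X.presheaf.map (homOfLE h).op).hom

section glue

variable [IsLocalRing A] (Z₁ Z₂ : Set X) (h₁ : IsClosed Z₁) (h₂ : IsClosed Z₂)
  (hd : Disjoint Z₁ Z₂)
  (hu : Z₁ ∪ Z₂ = (X ↘ Spec (CommRingCat.of A)).base ⁻¹' {IsLocalRing.closedPoint A})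

/-- the complement of a closed set as an open -/
def co (Z : Set X) (h : IsClosed Z) : X.Opens := ⟨Zᶜ, h.isOpen_compl⟩

include hd in
theorem top_le_sup : (⊤ : X.Opens) ≤ co X Z₂ h₂ ⊔ co X Z₁ h₁ := by
  intro x _
  by_cases hx : x ∈ Z₂
  · exact Or.inr (fun hx1 => (Set.disjoint_left.1 hd hx1 hx))
  · exact Or.inl hx

include hu in
theorem exists_notMem_of_mem_inf (n : ℕ) (x : X) (hx : x ∈ co X Z₂ h₂ ⊓ co X Z₁ h₁) :
    ∃ a ∈ IsLocalRing.maximalIdeal A ^ n,
      a ∉ ((X ↘ Spec (CommRingCat.of A)).base x).asIdeal := by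
  have hx' : x ∉ (X ↘ Spec (CommRingCat.of A)).base ⁻¹' {IsLocalRing.closedPoint A} := by
    rw [← hu]
    rintro (h | h)
    · exact hx.2 h
    · exact hx.1 h
  have hne : (X ↘ Spec (CommRingCat.of A)).base x ≠ IsLocalRing.closedPoint A := hx'
  have hlt : ¬ IsLocalRing.maximalIdeal A ≤ ((X ↘ Spec (CommRingCat.of A)).base x).asIdeal := by
    intro hle
    apply hne
    apply PrimeSpectrum.ext
    exact le_antisymm (IsLocalRing.le_maximalIdeal
      ((X ↘ Spec (CommRingCat.of A)).base x).isPrime.ne_top) hle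
  obtain ⟨a, ham, ha⟩ := SetLike.not_le_iff_exists.1 hlt
  exact ⟨a ^ n, Ideal.pow_mem_pow ham n,
    fun h => ha (((X ↘ Spec (CommRingCat.of A)).base x).isPrime.mem_of_pow_mem n h)⟩

include hd hu in
theorem exists_idem (n : ℕ) :
    ∃ e : Γ(Formal.modPow (IsLocalRing.maximalIdeal A) n (Coh.structureModule X), ⊤),
      res _ (le_top : co X Z₂ h₂ ≤ ⊤) e =
        (Formal.modPowπ (IsLocalRing.maximalIdeal A) n (Coh.structureModule X)).app
          (co X Z₂ h₂) (oneSec X _) ∧
      res _ (le_top : co X Z₁ h₁ ≤ ⊤) e = 0 := by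
  refine exists_res_eq₂ (Formal.modPow (IsLocalRing.maximalIdeal A) n (Coh.structureModule X))
    le_top le_top (top_le_sup X Z₁ Z₂ h₁ h₂ hd) inf_le_left inf_le_right le_rfl _ _ ?_
  exact (section_eq_zero_of_forall_exists_notMem X (IsLocalRing.maximalIdeal A ^ n)
      (Coh.structureModule X) _
    (fun x hx => exists_notMem_of_mem_inf X Z₁ Z₂ h₁ h₂ hu n x hx) _).trans
    (section_eq_zero_of_forall_exists_notMem X (IsLocalRing.maximalIdeal A ^ n)
      (Coh.structureModule X) _
    (fun x hx => exists_notMem_of_mem_inf X Z₁ Z₂ h₁ h₂ hu n x hx) _).symm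

end glue

section lift

open Groth.Agent.Lib.T2H9.FBCZero Groth.Agent.Lib.T2H9.FFMain

variable [IsLocalRing A] (Z₁ Z₂ : Set X) (h₁ : IsClosed Z₁) (h₂ : IsClosed Z₂)
  (hd : Disjoint Z₁ Z₂)
  (hu : Z₁ ∪ Z₂ = (X ↘ Spec (CommRingCat.of A)).base ⁻¹' {IsLocalRing.closedPoint A})
  [IsNoetherianRing A] [IsProper (X ↘ Spec (CommRingCat.of A))]

include hd hu in
theorem exists_global_lift :
    ∃ b : Γ(Coh.structureModule X, ⊤),
      res _ (le_top : co X Z₂ h₂ ≤ ⊤)
        ((Formal.modPowπ (IsLocalRing.maximalIdeal A) 1 (Coh.structureModule X)).app ⊤ b) =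
        (Formal.modPowπ (IsLocalRing.maximalIdeal A) 1 (Coh.structureModule X)).app
          (co X Z₂ h₂) (oneSec X _) ∧
      res _ (le_top : co X Z₁ h₁ ≤ ⊤)
        ((Formal.modPowπ (IsLocalRing.maximalIdeal A) 1 (Coh.structureModule X)).app ⊤ b) = 0 := by
  have hex := fun n : ℕ => exists_idem X Z₁ Z₂ h₁ h₂ hd hu (n + 1)
  choose e he₁ he₂ using hex
  let y : ∀ n, Formal.HHmodPow (IsLocalRing.maximalIdeal A) (Coh.structureModule X) 0 n :=
    fun n => (hh0Γ X (Formal.modPow (IsLocalRing.maximalIdeal A) (n + 1)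
      (Coh.structureModule X))).symm (e n)
  have hy : y ∈ Formal.HHlim (IsLocalRing.maximalIdeal A) (Coh.structureModule X) 0 := by
    intro n
    apply (hh0Γ X (Formal.modPow (IsLocalRing.maximalIdeal A) (n + 1)
      (Coh.structureModule X))).injective
    refine (hh0Γ_map (Formal.modPowTrans (IsLocalRing.maximalIdeal A) (n + 1)
      (Coh.structureModule X)) (y (n + 1))).trans ?_
    change (Formal.modPowTrans (IsLocalRing.maximalIdeal A) (n + 1)
      (Coh.structureModule X)).app ⊤ (hh0Γ X _ ((hh0Γ X _).symm (e (n + 1)))) =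
      hh0Γ X _ ((hh0Γ X _).symm (e n))
    rw [AddEquiv.apply_symm_apply, AddEquiv.apply_symm_apply]
    refine eq_of_res_eq₂ _ (le_top : co X Z₂ h₂ ≤ ⊤) (le_top : co X Z₁ h₁ ≤ ⊤)
      (top_le_sup X Z₁ Z₂ h₁ h₂ hd) _ _ ?_ ?_
    · rw [← app_res, he₁ (n + 1), he₁ n]
      exact congrArg (fun t => t.app (co X Z₂ h₂) (oneSec X _))
        (Formal.modPowπ_trans (IsLocalRing.maximalIdeal A) (n + 1) (Coh.structureModule X))
    · rw [← app_res, he₂ (n + 1), he₂ n, map_zero]
  obtain ⟨x, hx⟩ := hsurj_qL (IsLocalRing.maximalIdeal A) (Coh.structureModule X)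
    Groth.Agent.Lib.T2H5.GenIsoF.isCoh_structureModule 0 y hy 0
  have h3 : (Formal.modPowπ (IsLocalRing.maximalIdeal A) 1 (Coh.structureModule X)).app ⊤
      (hh0Γ X _ x) = e 0 := by
    have := (hh0Γ_map (Formal.modPowπ (IsLocalRing.maximalIdeal A) (0 + 1)
      (Coh.structureModule X)) x).symm
    refine this.trans ?_
    exact (congrArg (hh0Γ X _) hx).trans (AddEquiv.apply_symm_apply _ _)
  refine ⟨hh0Γ X _ x, ?_, ?_⟩
  · rw [h3]
    exact he₁ 0
  · rw [h3]
    exact he₂ 0

end lift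

section germ

variable [IsLocalRing A] [IsNoetherianRing A]

theorem germ_ρU_mem {U : X.Opens} (x : X) (hxU : x ∈ U)
    (hx : (X ↘ Spec (CommRingCat.of A)).base x = IsLocalRing.closedPoint A) (a : A)
    (ha : a ∈ IsLocalRing.maximalIdeal A) :
    X.presheaf.germ U x hxU (ρU X U a) ∈ IsLocalRing.maximalIdeal (X.presheaf.stalk x) := by
  rw [IsLocalRing.mem_maximalIdeal, mem_nonunits_iff, ← Scheme.mem_basicOpen X (ρU X U a) x hxU]
  change x ∉ X.basicOpen ((X ↘ Spec (CommRingCat.of A)).appLE ⊤ U le_top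
      ((Scheme.ΓSpecIso (CommRingCat.of A)).inv a))
  rw [Scheme.basicOpen_appLE, basicOpen_eq_of_affine]
  rintro ⟨-, h2⟩
  apply h2
  change a ∈ ((X ↘ Spec (CommRingCat.of A)).base x).asIdeal
  rw [hx]
  exact ha

theorem germ_mem_maximalIdeal_of_res_eq_zero (c : Γ(Coh.structureModule X, ⊤)) (W : X.Opens)
    (hc : res _ (le_top : W ≤ ⊤)
      ((Formal.modPowπ (IsLocalRing.maximalIdeal A) 1 (Coh.structureModule X)).app ⊤ c) = 0)
    (x : X) (hxW : x ∈ W)
    (hx : (X ↘ Spec (CommRingCat.of A)).base x = IsLocalRing.closedPoint A) :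
    X.presheaf.germ ⊤ x trivial (show Γ(X, ⊤) from c) ∈
      IsLocalRing.maximalIdeal (X.presheaf.stalk x) := by
  obtain ⟨U, hU, hxU, hUW⟩ := exists_isAffineOpen_mem_and_subset (x := x) (U := W) hxW
  have hUW' : U ≤ W := hUW
  have h1 : (Formal.modPowπ (IsLocalRing.maximalIdeal A) 1 (Coh.structureModule X)).app U
      (res _ (le_top : U ≤ ⊤) c) = 0 := by
    rw [app_res, ← res_res _ (le_top : W ≤ ⊤) hUW', hc, res_zero]
  obtain ⟨k, hk⟩ := Groth.Agent.Lib.T2H5.IdealMul.exists_kernel_app_eq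
    (cokernel.π (Formal.smulFamily (IsLocalRing.maximalIdeal A ^ 1) (Coh.structureModule X))) U
    (res _ (le_top : U ≤ ⊤) c) h1
  obtain ⟨r, g, hg⟩ : ∃ (r : ℕ) (g : Fin r → A),
      Ideal.span (Set.range g) = IsLocalRing.maximalIdeal A ^ 1 := by
    obtain ⟨s, hs⟩ := (isNoetherianRing_iff_ideal_fg A).1 inferInstance
      (IsLocalRing.maximalIdeal A ^ 1)
    refine ⟨s.card, fun j => (s.equivFin.symm j : A), ?_⟩
    rw [← hs]
    congr 1
    ext a
    constructor
    · rintro ⟨j, rfl⟩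
      exact (s.equivFin.symm j).2
    · intro ha
      exact ⟨s.equivFin ⟨a, ha⟩, by simp⟩
  haveI : (Coh.structureModule X).IsQuasicoherent :=
    Groth.Agent.Lib.T2H5.GenIsoF.isCoh_structureModule.1
  have hmem := pwJι_app_mem X (Coh.structureModule X) g _ hg hU k
  have hk' : (pwJι X (Coh.structureModule X) (IsLocalRing.maximalIdeal A ^ 1)).app U k =
      res _ (le_top : U ≤ ⊤) c := hk
  rw [hk'] at hmem
  have key : ∀ t : MA X (Coh.structureModule X) U,
      t ∈ (IsLocalRing.maximalIdeal A ^ 1 • ⊤ : Submodule A (MA X (Coh.structureModule X) U)) →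
      X.presheaf.germ U x hxU (show Γ(X, U) from t) ∈
        IsLocalRing.maximalIdeal (X.presheaf.stalk x) := by
    intro t ht
    refine Submodule.smul_induction_on ht ?_ ?_
    · intro a ha t' _
      rw [pow_one] at ha
      have e : (show Γ(X, U) from (a • t' : MA X (Coh.structureModule X) U)) =
          ρU X U a * (show Γ(X, U) from t') := rfl
      rw [e, map_mul]
      exact Ideal.mul_mem_right _ _ (germ_ρU_mem X x hxU hx a ha)
    · intro t₁ t₂ h₁ h₂
      have e : (show Γ(X, U) from (t₁ + t₂ : MA X (Coh.structureModule X) U)) =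
          (show Γ(X, U) from t₁) + (show Γ(X, U) from t₂) := rfl
      rw [e, map_add]
      exact Ideal.add_mem _ h₁ h₂
  have h2 := key _ hmem
  have h3 : X.presheaf.germ U x hxU (show Γ(X, U) from res (Coh.structureModule X)
      (le_top : U ≤ ⊤) c) = X.presheaf.germ ⊤ x trivial (show Γ(X, ⊤) from c) :=
    X.presheaf.germ_res_apply (homOfLE (le_top : U ≤ ⊤)) x hxU _
  rw [← h3]
  exact h2

end germ

section main

variable [IsLocalRing A] [IsNoetherianRing A] [IsProper (X ↘ Spec (CommRingCat.of A))]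

/-- **Lifting of idempotents (Zariski's connectedness, key step)**: if the closed fibre of a proper scheme over
a Noetherian local ring is the disjoint union of two closed subsets, there is a global function which is
`0` on one of them and `1` on the other. -/
theorem exists_separating_function (Z₁ Z₂ : Set X) (h₁ : IsClosed Z₁) (h₂ : IsClosed Z₂)
    (hd : Disjoint Z₁ Z₂)
    (hu : Z₁ ∪ Z₂ = (X ↘ Spec (CommRingCat.of A)).base ⁻¹' {IsLocalRing.closedPoint A}) :
    ∃ b : Γ(X, ⊤),
      (∀ x ∈ Z₂, X.presheaf.germ ⊤ x trivial b ∈ IsLocalRing.maximalIdeal (X.presheaf.stalk x)) ∧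
      (∀ x ∈ Z₁, X.presheaf.germ ⊤ x trivial (1 - b) ∈
        IsLocalRing.maximalIdeal (X.presheaf.stalk x)) := by
  obtain ⟨b, hb₁, hb₂⟩ := exists_global_lift X Z₁ Z₂ h₁ h₂ hd hu
  have hfib : ∀ x, x ∈ Z₁ ∪ Z₂ →
      (X ↘ Spec (CommRingCat.of A)).base x = IsLocalRing.closedPoint A := by
    intro x hx
    rw [hu] at hx
    exact hx
  refine ⟨(show Γ(X, ⊤) from b), ?_, ?_⟩
  · intro x hx
    exact germ_mem_maximalIdeal_of_res_eq_zero X b (co X Z₁ h₁) hb₂ x
      (fun hx1 => Set.disjoint_left.1 hd hx1 hx) (hfib x (Or.inr hx))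
  · intro x hx
    have hc : res _ (le_top : co X Z₂ h₂ ≤ ⊤)
        ((Formal.modPowπ (IsLocalRing.maximalIdeal A) 1 (Coh.structureModule X)).app ⊤
          (oneSec X ⊤ - b)) = 0 := by
      rw [map_sub, res_sub, hb₁, ← app_res, res_oneSec, sub_self]
    exact germ_mem_maximalIdeal_of_res_eq_zero X (oneSec X ⊤ - b) (co X Z₂ h₂) hc x
      (fun hx2 => Set.disjoint_left.1 hd hx hx2) (hfib x (Or.inl hx))

theorem not_isUnit_of_germ_mem (b : Γ(X, ⊤)) (x : X)
    (h : X.presheaf.germ ⊤ x trivial b ∈ IsLocalRing.maximalIdeal (X.presheaf.stalk x)) :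
    ¬ IsUnit b := fun hb =>
  (IsLocalRing.mem_maximalIdeal _).1 h (hb.map (X.presheaf.germ ⊤ x trivial).hom)

theorem isClosed_closedFibre :
    IsClosed ((X ↘ Spec (CommRingCat.of A)).base ⁻¹' {IsLocalRing.closedPoint A}) :=
  (IsLocalRing.isClosed_singleton_closedPoint A).preimage
    (X ↘ Spec (CommRingCat.of A)).continuous

/-- **Zariski's connectedness theorem, local form**: if `X` is proper over a Noetherian local ring `A`
and `Γ(X, O_X)` is a local ring, then the closed fibre of `X` is connected. -/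
theorem isConnected_closedFibre [IsLocalRing Γ(X, ⊤)] :
    _root_.IsConnected ((X ↘ Spec (CommRingCat.of A)).base ⁻¹' {IsLocalRing.closedPoint A}) := by
  constructor
  · haveI : Nonempty X := by
      by_contra hX
      rw [not_nonempty_iff] at hX
      have : Subsingleton Γ(X, ⊤) := inferInstance
      exact not_subsingleton Γ(X, ⊤) this
    obtain ⟨x⟩ := ‹Nonempty X›
    have hcl : IsClosed (Set.range (X ↘ Spec (CommRingCat.of A)).base) :=
      (X ↘ Spec (CommRingCat.of A)).isClosedMap.isClosed_range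
    have hs : (X ↘ Spec (CommRingCat.of A)).base x ⤳ IsLocalRing.closedPoint A :=
      IsLocalRing.specializes_closedPoint _
    obtain ⟨y, hy⟩ := hs.mem_closed hcl ⟨x, rfl⟩
    exact ⟨y, hy⟩
  · rw [isPreconnected_closed_iff]
    intro t t' ht ht' hsub hne hne'
    by_contra hemp
    rw [Set.not_nonempty_iff_eq_empty] at hemp
    set X₀ := (X ↘ Spec (CommRingCat.of A)).base ⁻¹' {IsLocalRing.closedPoint A} with hX₀
    have hcl := isClosed_closedFibre X (A := A)
    obtain ⟨b, hb₂, hb₁⟩ := exists_separating_function X (X₀ ∩ t) (X₀ ∩ t') (hcl.inter ht)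
      (hcl.inter ht') (by
        rw [Set.disjoint_iff_inter_eq_empty]
        rw [← hemp]
        ext z
        simp only [Set.mem_inter_iff]
        tauto) (by
        rw [← Set.inter_union_distrib_left]
        exact Set.inter_eq_left.2 hsub)
    obtain ⟨x₁, hx₁⟩ := hne
    obtain ⟨x₂, hx₂⟩ := hne'
    have n1 := not_isUnit_of_germ_mem X (1 - b) x₁ (hb₁ x₁ hx₁)
    have n2 := not_isUnit_of_germ_mem X b x₂ (hb₂ x₂ hx₂)
    rcases IsLocalRing.isUnit_or_isUnit_one_sub_self b with h | h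
    · exact n2 h
    · exact n1 h

end main

end Groth.Agent.Lib.T2H9.ConnZ
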