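import Groth.Agent.Lib.Helper13QcqsBC
import Groth.Agent.Lib.Helper23PB
import Groth.Agent.Lib.T2H9FBCZero
import Groth.Agent.Lib.T2H9ConnZ

/-!
# Global functions of a flat local base change (helper9)

* `bijective_appTop`: for `f : X ⟶ Y` qcqs with `O_Y(V) → O_X(f⁻¹V)` an isomorphism (`V` affine) and `S'` affine,
  flat over `V`: `Γ(S', O) → Γ(X ×_Y S', O)` is bijective (helper13's `KBij_of_qcqs`).
* `isConnected_closedFibre_pullback`: hence the closed fibre of `X ×_Y Spec T → Spec T` is connected for `T`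
  Noetherian local and `f` proper (`ConnZ.isConnected_closedFibre`).
-/

set_option autoImplicit false
set_option linter.style.haveILetI false
set_option linter.unusedSectionVars false
set_option linter.unusedVariables false
universe u
open CategoryTheory AlgebraicGeometry Limits TopologicalSpace Opposite TensorProduct

namespace Groth.Agent.Lib.T2H9.ConnBC

open Groth.Agent.Helper13PullbackUnit Groth.Agent.Helper13QcqsBC
  Groth.Agent.Helper13FlatMV Groth.Agent.Lib.Helper6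

theorem bijective_of_mul_bijective {T B : Type*} [CommRing T] [CommRing B] (φ : T →+* B) (c : B)
    (h : Function.Bijective fun t => φ t * c) : Function.Bijective φ := by
  obtain ⟨t₀, ht₀⟩ := h.2 1
  have ht₀' : φ t₀ * c = 1 := ht₀
  constructor
  · intro a b hab
    exact h.1 (show φ a * c = φ b * c by rw [hab])
  · intro b
    obtain ⟨t, ht⟩ := h.2 (b * c)
    have ht' : φ t * c = b * c := ht
    refine ⟨t, ?_⟩
    have := congrArg (fun z => z * φ t₀) ht'
    simp only [mul_assoc] at this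
    rw [mul_comm c (φ t₀), ht₀', mul_one, mul_one] at this
    exact this

section main

variable {X Y X' S' : Scheme.{u}} (f : X ⟶ Y) [QuasiCompact f] [QuasiSeparated f]
  (g : S' ⟶ Y) (g' : X' ⟶ X) (f' : X' ⟶ S') (h : IsPullback g' f' f g)
  (V : Y.Opens) (hV : IsAffineOpen V) (hS' : IsAffineOpen (⊤ : S'.Opens))
  (hle : (⊤ : S'.Opens) ≤ g ⁻¹ᵁ V)
  (hflat : (g.appLE V ⊤ hle).hom.Flat) (hf : IsIso (f.app V))

include h hV hS' hflat hf in
/-- if `O_Y(V) → O_X(f⁻¹V)` is an isomorphism, `S'` is affine and flat over `V`, then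
`Γ(S', O) → Γ(X ×_Y S', O)` is bijective -/
theorem bijective_appTop : Function.Bijective f'.appTop.hom := by
  let F : X.Modules := Coh.structureModule X
  haveI : F.IsQuasicoherent := Groth.Agent.Lib.Helper23.Serre.isQuasicoherent_structureModule' X
  have hW : f ⁻¹ᵁ V ≤ f ⁻¹ᵁ V := le_rfl
  have hqs : IsQuasiSeparated ((f ⁻¹ᵁ V : X.Opens) : Set X) :=
    f.isQuasiSeparated_preimage hV.isQuasiSeparated
  have hWc : IsCompact ((f ⁻¹ᵁ V : X.Opens) : Set X) := f.isCompact_preimage hV.isCompact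
  have hK := KBij_of_qcqs f g g' f' h F hle hV hS' hflat hqs (f ⁻¹ᵁ V) hWc hW
  letI : Algebra Γ(Y, V) Γ(S', ⊤) := (g.appLE V ⊤ hle).hom.toAlgebra
  let G' := (Scheme.Modules.pullback g').obj F
  have hVeq : Vp g' f' ⊤ (f ⁻¹ᵁ V) = (⊤ : X'.Opens) := by
    apply le_antisymm le_top
    intro x _
    refine ⟨?_, trivial⟩
    change f.base (g'.base x) ∈ V
    have e : f.base (g'.base x) = g.base (f'.base x) := by
      have := congrArg (fun t => t.base x) h.w
      exact this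
    rw [e]
    exact hle (show f'.base x ∈ (⊤ : S'.Opens) from trivial)
  have hVle : Vp g' f' ⊤ (f ⁻¹ᵁ V) ≤ (⊤ : X'.Opens) := le_top
  let ι := Groth.Agent.Lib.Helper23.PB.pullbackUnitIso g'
  let one : SecR f F V (f ⁻¹ᵁ V) hW := (1 : Γ(X, f ⁻¹ᵁ V))
  -- `Γ(Y,V) ≃ SecR`
  have hb0 : Function.Bijective (LinearMap.toSpanSingleton Γ(Y, V) (SecR f F V (f ⁻¹ᵁ V) hW) one) := by
    have e : ∀ a : Γ(Y, V), LinearMap.toSpanSingleton Γ(Y, V) (SecR f F V (f ⁻¹ᵁ V) hW) one a =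
        (show SecR f F V (f ⁻¹ᵁ V) hW from ((f.app V).hom a : Γ(X, f ⁻¹ᵁ V))) := by
      intro a
      change (f.appLE V (f ⁻¹ᵁ V) hW a : Γ(X, f ⁻¹ᵁ V)) * (1 : Γ(X, f ⁻¹ᵁ V)) = _
      rw [mul_one, Scheme.Hom.appLE_eq_app]
    have hbij : Function.Bijective (f.app V).hom :=
      ConcreteCategory.bijective_of_isIso (f.app V)
    constructor
    · intro a b hab
      rw [e, e] at hab
      exact hbij.1 hab
    · intro m
      obtain ⟨a, ha⟩ := hbij.2 (show Γ(X, f ⁻¹ᵁ V) from m)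
      exact ⟨a, (e a).trans ha⟩
  let e₀ : Γ(Y, V) ≃ₗ[Γ(Y, V)] SecR f F V (f ⁻¹ᵁ V) hW := LinearEquiv.ofBijective _ hb0
  let θ : Γ(S', ⊤) ≃ₗ[Γ(Y, V)] Γ(S', ⊤) ⊗[Γ(Y, V)] SecR f F V (f ⁻¹ᵁ V) hW :=
    (TensorProduct.rid Γ(Y, V) Γ(S', ⊤)).symm ≪≫ₗ TensorProduct.congr (LinearEquiv.refl _ _) e₀
  have hθ : ∀ t : Γ(S', ⊤), θ t = t ⊗ₜ[Γ(Y, V)] one := by
    intro t
    change (TensorProduct.congr (LinearEquiv.refl _ _) e₀) (t ⊗ₜ[Γ(Y, V)] (1 : Γ(Y, V))) = _
    rw [TensorProduct.congr_tmul]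
    change t ⊗ₜ[Γ(Y, V)] ((1 : Γ(Y, V)) • one) = _
    rw [one_smul]
  have hιb : Function.Bijective (ι.hom.app (Vp g' f' ⊤ (f ⁻¹ᵁ V))) := by
    refine Function.bijective_iff_has_inverse.2 ⟨ι.inv.app _, fun x => ?_, fun x => ?_⟩
    · have := congrArg (fun t => Scheme.Modules.Hom.app t (Vp g' f' ⊤ (f ⁻¹ᵁ V)) x) ι.hom_inv_id
      exact this
    · have := congrArg (fun t => Scheme.Modules.Hom.app t (Vp g' f' ⊤ (f ⁻¹ᵁ V)) x) ι.inv_hom_id
      exact this
  let c₀ : Γ(G', Vp g' f' ⊤ (f ⁻¹ᵁ V)) := uW f g' f' F hW inf_le_left inf_le_right one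
  let c : Γ(X', Vp g' f' ⊤ (f ⁻¹ᵁ V)) := ι.hom.app _ c₀
  have hΦ : ∀ t : Γ(S', ⊤), ι.hom.app (Vp g' f' ⊤ (f ⁻¹ᵁ V))
      (kap (R := Γ(Y, V)) (R' := Γ(S', ⊤))
        (uW f g' f' F hW (inf_le_left : Vp g' f' ⊤ (f ⁻¹ᵁ V) ≤ g' ⁻¹ᵁ (f ⁻¹ᵁ V)) inf_le_right)
        (uW_smul f g g' f' h F hle hW inf_le_left inf_le_right) (θ t)) =
      (f'.appLE ⊤ (Vp g' f' ⊤ (f ⁻¹ᵁ V)) inf_le_right).hom t * c := by
    intro t
    rw [hθ, kap_tmul]
    exact Scheme.Modules.Hom.app_smul ι.hom _ c₀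
  have hbij : Function.Bijective fun t : Γ(S', ⊤) =>
      (f'.appLE ⊤ (Vp g' f' ⊤ (f ⁻¹ᵁ V)) inf_le_right).hom t * c := by
    have h1 : Function.Bijective fun t : Γ(S', ⊤) => ι.hom.app (Vp g' f' ⊤ (f ⁻¹ᵁ V))
      (kap (R := Γ(Y, V)) (R' := Γ(S', ⊤))
        (uW f g' f' F hW (inf_le_left : Vp g' f' ⊤ (f ⁻¹ᵁ V) ≤ g' ⁻¹ᵁ (f ⁻¹ᵁ V)) inf_le_right)
        (uW_smul f g g' f' h F hle hW inf_le_left inf_le_right) (θ t)) :=
      hιb.comp (hK.comp θ.bijective)
    have e : (fun t : Γ(S', ⊤) =>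
        (f'.appLE ⊤ (Vp g' f' ⊤ (f ⁻¹ᵁ V)) inf_le_right).hom t * c) = _ :=
      funext fun t => (hΦ t).symm
    rw [e]
    exact h1
  have h2 := bijective_of_mul_bijective _ c hbij
  have h3 : (f'.appLE ⊤ (Vp g' f' ⊤ (f ⁻¹ᵁ V)) inf_le_right).hom =
      (X'.presheaf.map (homOfLE hVle).op).hom.comp f'.appTop.hom := rfl
  have h4 : Function.Bijective (X'.presheaf.map (homOfLE hVle).op).hom := by
    have key : ∀ (W : X'.Opens) (hW : W = ⊤) (i : W ⟶ ⊤),
        Function.Bijective (X'.presheaf.map i.op).hom := by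
      intro W hW i
      subst hW
      have : i = 𝟙 _ := Subsingleton.elim _ _
      rw [this, op_id, X'.presheaf.map_id]
      exact Function.bijective_id
    exact key _ hVeq _
  rw [h3] at h2
  exact (Function.Bijective.of_comp_iff' h4 _).1 h2

end main

section loc

variable {X Y : Scheme.{u}} (f : X ⟶ Y) [IsProper f]
  (T : Type u) [CommRing T] [IsLocalRing T] [IsNoetherianRing T]
  (g : Spec (CommRingCat.of T) ⟶ Y) [Flat g] (V : Y.Opens) (hV : IsAffineOpen V)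
  (hy : g.base (IsLocalRing.closedPoint T) ∈ V) (hf : IsIso (f.app V))

include hV hy hf in
/-- the closed fibre of `X ×_Y Spec T → Spec T` is connected, when `T` is Noetherian local, flat over `Y`
and `O_Y(V) → O_X(f⁻¹V)` is an isomorphism on an affine neighbourhood of the image of the closed point -/
theorem isConnected_closedFibre_pullback :
    _root_.IsConnected ((pullback.snd f g).base ⁻¹' {IsLocalRing.closedPoint T}) := by
  have hle : (⊤ : (Spec (CommRingCat.of T)).Opens) ≤ g ⁻¹ᵁ V := by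
    intro s _
    have hs : g.base s ⤳ g.base (IsLocalRing.closedPoint T) :=
      (IsLocalRing.specializes_closedPoint s).map g.continuous
    exact hs.mem_open V.isOpen hy
  have hflat : (g.appLE V ⊤ hle).hom.Flat := g.flat_appLE hV (isAffineOpen_top _) hle
  letI : (pullback f g).Over (Spec (CommRingCat.of T)) := ⟨pullback.snd f g⟩
  haveI : IsProper ((pullback f g) ↘ Spec (CommRingCat.of T)) :=
    inferInstanceAs (IsProper (pullback.snd f g))
  have hb := bijective_appTop f g (pullback.fst f g) (pullback.snd f g)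
    (IsPullback.of_hasPullback f g) V hV (isAffineOpen_top _) hle hflat hf
  let e₁ : T ≃+* Γ(Spec (CommRingCat.of T), ⊤) :=
    (Scheme.ΓSpecIso (CommRingCat.of T)).symm.commRingCatIsoToRingEquiv
  let e₂ : Γ(Spec (CommRingCat.of T), ⊤) ≃+* Γ(pullback f g, ⊤) :=
    RingEquiv.ofBijective (pullback.snd f g).appTop.hom hb
  haveI : IsLocalRing Γ(pullback f g, ⊤) := (e₁.trans e₂).isLocalRing
  exact Groth.Agent.Lib.T2H9.ConnZ.isConnected_closedFibre (pullback f g)

end loc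

end Groth.Agent.Lib.T2H9.ConnBC
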