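import Mathlib
import Groth.Agent.S0484
set_option backward.isDefEq.respectTransparency.types false

/-!
# T2H5SecColim: sections over quasi-compact (quasi-separated) opens commute with filtered colimits of sheaves (helper5)

Namespace `Groth.Agent.Lib.T2H5.SecColim`.

For a topological space `Y`, a small filtered category `J`, a diagram `E` of sheaves of abelian groups on `Y` with colimit
cocone `e`:
* `exists_stage_local`, `exists_map_eq_zero_local`: the local statements (through stalks).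
* `exists_map_eq_zero` : a section over a quasi-compact open of a stage mapping to zero in the colimit maps to zero
  in a later stage.
* `exists_rep` : a section of the colimit over a quasi-compact open `U`, such that the quasi-compact opens contained in `U`
  form a basis of `U` stable under pairwise intersections, comes from a stage.
The same for sheaves of modules over a sheaf of rings on `Y` (`mod_exists_map_eq_zero`, `mod_exists_rep`).
-/

set_option autoImplicit false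
set_option linter.style.haveILetI false
set_option linter.unusedSectionVars false
universe u
open CategoryTheory CategoryTheory.Limits TopologicalSpace Opposite TopCat

namespace Groth.Agent.Lib.T2H5.SecColim

variable {Y : TopCat.{u}}

/-- sheaves of abelian groups on `Y` -/
abbrev AbSh (Y : TopCat.{u}) : Type (u + 1) := Sheaf (Opens.grothendieckTopology Y) AddCommGrpCat.{u}

/-- restriction of sections -/
noncomputable def rs (F : AbSh Y) {W V : Opens Y} (h : V ≤ W) (s : F.obj.obj (op W)) : F.obj.obj (op V) :=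
  F.obj.map (homOfLE h).op s

theorem rs_rs (F : AbSh Y) {W V V' : Opens Y} (h : V ≤ W) (h' : V' ≤ V) (s : F.obj.obj (op W)) :
    rs F h' (rs F h s) = rs F (h'.trans h) s := by
  unfold rs
  rw [← ConcreteCategory.comp_apply, ← F.obj.map_comp]
  rfl

theorem rs_self (F : AbSh Y) {W : Opens Y} (h : W ≤ W) (s : F.obj.obj (op W)) : rs F h s = s := by
  unfold rs
  have h0 : (homOfLE h).op = 𝟙 (op W) := rfl
  rw [h0, F.obj.map_id]
  rfl

theorem rs_zero (F : AbSh Y) {W V : Opens Y} (h : V ≤ W) : rs F h (0 : F.obj.obj (op W)) = 0 := map_zero _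

theorem rs_add (F : AbSh Y) {W V : Opens Y} (h : V ≤ W) (s t : F.obj.obj (op W)) :
    rs F h (s + t) = rs F h s + rs F h t := map_add _ _ _

theorem rs_sub (F : AbSh Y) {W V : Opens Y} (h : V ≤ W) (s t : F.obj.obj (op W)) :
    rs F h (s - t) = rs F h s - rs F h t := map_sub _ _ _

theorem nat_rs {F G : AbSh Y} (φ : F ⟶ G) {W V : Opens Y} (h : V ≤ W) (s : F.obj.obj (op W)) :
    φ.hom.app (op V) (rs F h s) = rs G h (φ.hom.app (op W) s) := by
  have := congrArg (fun f => f s) (φ.hom.naturality (homOfLE h).op)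
  exact this

/-- sections agreeing locally are equal -/
theorem eq_of_locally (F : AbSh Y) {W : Opens Y} (s t : F.obj.obj (op W))
    (h : ∀ x ∈ W, ∃ (V : Opens Y) (hV : V ≤ W), x ∈ V ∧ rs F hV s = rs F hV t) : s = t := by
  choose V hV hxV hst using h
  refine TopCat.Sheaf.eq_of_locally_eq' F (fun x : W => V x.1 x.2) W (fun x => homOfLE (hV x.1 x.2)) ?_ s t
    (fun x => hst x.1 x.2)
  intro x hx
  exact Opens.mem_iSup.2 ⟨⟨x, hx⟩, hxV x hx⟩

/-- sections over two opens agreeing on the intersection glue -/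
theorem exists_glue₂ (F : AbSh Y) {W₁ W₂ : Opens Y} (s₁ : F.obj.obj (op W₁)) (s₂ : F.obj.obj (op W₂))
    (h : rs F (inf_le_left : W₁ ⊓ W₂ ≤ W₁) s₁ = rs F (inf_le_right : W₁ ⊓ W₂ ≤ W₂) s₂) :
    ∃ s : F.obj.obj (op (W₁ ⊔ W₂)), rs F (le_sup_left : W₁ ≤ W₁ ⊔ W₂) s = s₁ ∧
      rs F (le_sup_right : W₂ ≤ W₁ ⊔ W₂) s = s₂ := by
  let U : Bool → Opens Y := fun b => if b then W₁ else W₂
  let sf : ∀ b : Bool, F.obj.obj (op (U b)) := fun b =>
    match b with
    | true => s₁
    | false => s₂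
  have hcomp : TopCat.Presheaf.IsCompatible F.obj U sf := by
    intro b b'
    cases b <;> cases b'
    · rfl
    · have h2 := congrArg (rs F (show W₂ ⊓ W₁ ≤ W₁ ⊓ W₂ from le_of_eq (inf_comm _ _))) h
      rw [rs_rs, rs_rs] at h2
      exact h2.symm
    · exact h
    · rfl
  obtain ⟨s, hs, -⟩ := TopCat.Sheaf.existsUnique_gluing' F U (W₁ ⊔ W₂)
    (fun b => match b with
      | true => homOfLE (le_sup_left : W₁ ≤ W₁ ⊔ W₂)
      | false => homOfLE (le_sup_right : W₂ ≤ W₁ ⊔ W₂))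
    (by
      rw [sup_le_iff]
      exact ⟨le_iSup U true, le_iSup U false⟩) sf hcomp
  exact ⟨s, hs true, hs false⟩

theorem eq_zero_of_bot (F : AbSh Y) (s t : F.obj.obj (op (⊥ : Opens Y))) : s = t := by
  apply eq_of_locally
  intro x hx
  exact absurd hx (by simp)

section Colim
variable {J : Type u} [SmallCategory J] [IsFiltered J] (E : J ⥤ AbSh Y) (e : Cocone E) (he : IsColimit e)

theorem map_comp_apply {i j k : J} (f : i ⟶ j) (g : j ⟶ k) (U : Opens Y) (t : (E.obj i).obj.obj (op U)) :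
    (E.map (f ≫ g)).hom.app (op U) t = (E.map g).hom.app (op U) ((E.map f).hom.app (op U) t) := by
  rw [E.map_comp]
  rfl

theorem w_apply {i j : J} (f : i ⟶ j) (U : Opens Y) (t : (E.obj i).obj.obj (op U)) :
    (e.ι.app j).hom.app (op U) ((E.map f).hom.app (op U) t) = (e.ι.app i).hom.app (op U) t := by
  rw [← e.w f]
  rfl

theorem ι_rs (j : J) {W V : Opens Y} (h : V ≤ W) (s : (E.obj j).obj.obj (op W)) :
    (e.ι.app j).hom.app (op V) (rs (E.obj j) h s) = rs e.pt h ((e.ι.app j).hom.app (op W) s) :=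
  nat_rs (e.ι.app j) h s

include he in
/-- sections of a filtered colimit locally come from a stage -/
theorem exists_stage_local (V : Opens Y) (t : e.pt.obj.obj (op V)) (x : Y) (hx : x ∈ V) :
    ∃ (W : Opens Y) (hW : W ≤ V) (_ : x ∈ W) (j : J) (t' : (E.obj j).obj.obj (op W)),
      (e.ι.app j).hom.app (op W) t' = rs e.pt hW t := by
  classical
  let St : AbSh Y ⥤ AddCommGrpCat.{u} :=
    TopCat.Sheaf.forget _ _ ⋙ TopCat.Presheaf.stalkFunctor AddCommGrpCat.{u} x
  haveI : St.IsLeftAdjoint := (stalkSkyscraperSheafAdjunction x).isLeftAdjoint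
  have hc2 : IsColimit (St.mapCocone e) := isColimitOfPreserves St he
  obtain ⟨j, y, hy⟩ := Concrete.isColimit_exists_rep (E ⋙ St) hc2 (TopCat.Presheaf.germ e.pt.obj V x hx t)
  obtain ⟨W', hxW', t', rfl⟩ := TopCat.Presheaf.exists_germ_eq (E.obj j).obj (x := x) y
  have hy2 : TopCat.Presheaf.germ e.pt.obj W' x hxW' ((e.ι.app j).hom.app (op W') t') =
      TopCat.Presheaf.germ e.pt.obj V x hx t := by
    rw [← hy]
    exact (TopCat.Presheaf.stalkFunctor_map_germ_apply W' x hxW' (e.ι.app j).hom t').symm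
  obtain ⟨W, hxW, iW', iV, h⟩ := TopCat.Presheaf.germ_eq e.pt.obj x hxW' hx _ _ hy2
  refine ⟨W, iV.le, hxW, j, (E.obj j).obj.map iW'.op t', ?_⟩
  have hnat := congrArg (fun f => f t') ((e.ι.app j).hom.naturality iW'.op)
  exact hnat.trans h

include he in
/-- a section of a stage mapping to zero in the colimit locally maps to zero in a later stage -/
theorem exists_map_eq_zero_local (j : J) (V : Opens Y) (t' : (E.obj j).obj.obj (op V))
    (h0 : (e.ι.app j).hom.app (op V) t' = 0) (x : Y) (hx : x ∈ V) :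
    ∃ (W : Opens Y) (hW : W ≤ V) (_ : x ∈ W) (k : J) (f : j ⟶ k),
      rs (E.obj k) hW ((E.map f).hom.app (op V) t') = 0 := by
  classical
  let St : AbSh Y ⥤ AddCommGrpCat.{u} :=
    TopCat.Sheaf.forget _ _ ⋙ TopCat.Presheaf.stalkFunctor AddCommGrpCat.{u} x
  haveI : St.IsLeftAdjoint := (stalkSkyscraperSheafAdjunction x).isLeftAdjoint
  have hc2 : IsColimit (St.mapCocone e) := isColimitOfPreserves St he
  let y : ToType ((E ⋙ St).obj j) := TopCat.Presheaf.germ (E.obj j).obj V x hx t'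
  have h1 : (St.mapCocone e).ι.app j y = (St.mapCocone e).ι.app j (0 : ToType ((E ⋙ St).obj j)) := by
    rw [map_zero]
    have h2 : (St.mapCocone e).ι.app j y =
        TopCat.Presheaf.germ e.pt.obj V x hx ((e.ι.app j).hom.app (op V) t') :=
      TopCat.Presheaf.stalkFunctor_map_germ_apply V x hx (e.ι.app j).hom t'
    rw [h2, h0, map_zero]
    rfl
  obtain ⟨k, f, g, hfg⟩ := Concrete.isColimit_exists_of_rep_eq (E ⋙ St) hc2 y 0 h1
  rw [map_zero] at hfg
  have h3 : (E ⋙ St).map f y =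
      TopCat.Presheaf.germ (E.obj k).obj V x hx ((E.map f).hom.app (op V) t') :=
    TopCat.Presheaf.stalkFunctor_map_germ_apply V x hx (E.map f).hom t'
  rw [h3] at hfg
  have h4 : TopCat.Presheaf.germ (E.obj k).obj V x hx ((E.map f).hom.app (op V) t') =
      TopCat.Presheaf.germ (E.obj k).obj V x hx (0 : (E.obj k).obj.obj (op V)) := by
    rw [hfg, map_zero]
    rfl
  obtain ⟨W, hxW, iU, iV, h⟩ := TopCat.Presheaf.germ_eq (E.obj k).obj x hx hx _ _ h4
  refine ⟨W, iU.le, hxW, k, f, ?_⟩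
  have h5 : (E.obj k).obj.map iV.op (0 : (E.obj k).obj.obj (op V)) = 0 := map_zero _
  rw [h5] at h
  exact h

include he in
/-- **a section of a stage over a quasi-compact open mapping to zero in the colimit maps to zero in a later stage** -/
theorem exists_map_eq_zero (U : Opens Y) (hU : IsCompact (U : Set Y)) (j : J) (t' : (E.obj j).obj.obj (op U))
    (h0 : (e.ι.app j).hom.app (op U) t' = 0) :
    ∃ (k : J) (f : j ⟶ k), (E.map f).hom.app (op U) t' = 0 := by
  have key := hU.induction_on (p := fun S => ∃ (k : J) (f : j ⟶ k) (W : Opens Y) (hW : W ≤ U),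
      S ⊆ (W : Set Y) ∧ rs (E.obj k) hW ((E.map f).hom.app (op U) t') = 0) ?_ ?_ ?_ ?_
  · obtain ⟨k, f, W, hW, hUW, hz⟩ := key
    have hWU : W = U := le_antisymm hW hUW
    subst hWU
    rw [rs_self] at hz
    exact ⟨k, f, hz⟩
  · exact ⟨j, 𝟙 j, ⊥, bot_le, Set.empty_subset _, eq_zero_of_bot _ _ _⟩
  · rintro S S' hSS' ⟨k, f, W, hW, hS'W, hz⟩
    exact ⟨k, f, W, hW, hSS'.trans hS'W, hz⟩
  · rintro S S' ⟨k, f, W, hW, hSW, hz⟩ ⟨k', f', W', hW', hSW', hz'⟩
    let m := IsFiltered.max k k'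
    let a : k ⟶ m := IsFiltered.leftToMax k k'
    let b : k' ⟶ m := IsFiltered.rightToMax k k'
    let n := IsFiltered.coeq (f ≫ a) (f' ≫ b)
    let c : m ⟶ n := IsFiltered.coeqHom (f ≫ a) (f' ≫ b)
    have hc : (f ≫ a) ≫ c = (f' ≫ b) ≫ c := IsFiltered.coeq_condition _ _
    refine ⟨n, (f ≫ a) ≫ c, W ⊔ W', sup_le hW hW', ?_, ?_⟩
    · intro x hx
      rcases hx with hx | hx
      · exact Or.inl (hSW hx)
      · exact Or.inr (hSW' hx)
    · apply eq_of_locally
      intro x hx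
      rcases hx with hx | hx
      · refine ⟨W, le_sup_left, hx, ?_⟩
        rw [rs_rs, rs_zero, Category.assoc, map_comp_apply, ← nat_rs, hz, map_zero]
      · refine ⟨W', le_sup_right, hx, ?_⟩
        rw [rs_rs, rs_zero, hc, Category.assoc, map_comp_apply, ← nat_rs, hz', map_zero]
  · intro x hx
    obtain ⟨W, hW, hxW, k, f, hz⟩ := exists_map_eq_zero_local E e he j U t' h0 x hx
    exact ⟨(W : Set Y), mem_nhdsWithin_of_mem_nhds (W.isOpen.mem_nhds hxW), k, f, W, hW, subset_rfl, hz⟩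

include he in
/-- **a section of the colimit over a quasi-compact open whose quasi-compact opens form a basis stable under
intersection comes from a stage** -/
theorem exists_rep (U : Opens Y) (hU : IsCompact (U : Set Y))
    (hbasis : ∀ (W : Opens Y) (x : Y), x ∈ W → W ≤ U → ∃ W' : Opens Y, IsCompact (W' : Set Y) ∧ x ∈ W' ∧ W' ≤ W)
    (hqs : ∀ W W' : Opens Y, W ≤ U → W' ≤ U → IsCompact (W : Set Y) → IsCompact (W' : Set Y) →
      IsCompact ((W ⊓ W' : Opens Y) : Set Y))
    (t : e.pt.obj.obj (op U)) :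
    ∃ (k : J) (t' : (E.obj k).obj.obj (op U)), (e.ι.app k).hom.app (op U) t' = t := by
  have key := hU.induction_on (p := fun S => ∃ (k : J) (W : Opens Y) (hW : W ≤ U)
      (t' : (E.obj k).obj.obj (op W)), IsCompact (W : Set Y) ∧ S ⊆ (W : Set Y) ∧
        (e.ι.app k).hom.app (op W) t' = rs e.pt hW t) ?_ ?_ ?_ ?_
  · obtain ⟨k, W, hW, t', -, hUW, hz⟩ := key
    have hWU : W = U := le_antisymm hW hUW
    subst hWU
    rw [rs_self] at hz
    exact ⟨k, t', hz⟩
  · obtain ⟨k⟩ := IsFiltered.nonempty (C := J)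
    exact ⟨k, ⊥, bot_le, 0, by simp, Set.empty_subset _, eq_zero_of_bot _ _ _⟩
  · rintro S S' hSS' ⟨k, W, hW, t', hWc, hS'W, hz⟩
    exact ⟨k, W, hW, t', hWc, hSS'.trans hS'W, hz⟩
  · rintro S S' ⟨k₁, W₁, hW₁, t₁, hc₁, hSW₁, hz₁⟩ ⟨k₂, W₂, hW₂, t₂, hc₂, hSW₂, hz₂⟩
    let m := IsFiltered.max k₁ k₂
    let a : k₁ ⟶ m := IsFiltered.leftToMax k₁ k₂
    let b : k₂ ⟶ m := IsFiltered.rightToMax k₁ k₂
    obtain ⟨s₁, hs₁⟩ : ∃ s₁ : (E.obj m).obj.obj (op W₁), (e.ι.app m).hom.app (op W₁) s₁ = rs e.pt hW₁ t :=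
      ⟨(E.map a).hom.app (op W₁) t₁, by rw [w_apply, hz₁]⟩
    obtain ⟨s₂, hs₂⟩ : ∃ s₂ : (E.obj m).obj.obj (op W₂), (e.ι.app m).hom.app (op W₂) s₂ = rs e.pt hW₂ t :=
      ⟨(E.map b).hom.app (op W₂) t₂, by rw [w_apply, hz₂]⟩
    have hd : (e.ι.app m).hom.app (op (W₁ ⊓ W₂))
        (rs (E.obj m) (inf_le_left : W₁ ⊓ W₂ ≤ W₁) s₁ - rs (E.obj m) (inf_le_right : W₁ ⊓ W₂ ≤ W₂) s₂) = 0 := by
      rw [map_sub, ι_rs, ι_rs, hs₁, hs₂, rs_rs, rs_rs, sub_self]
    obtain ⟨n, c, hn⟩ := exists_map_eq_zero E e he (W₁ ⊓ W₂) (hqs W₁ W₂ hW₁ hW₂ hc₁ hc₂) m _ hd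
    obtain ⟨r₁, hr₁def⟩ : ∃ r₁ : (E.obj n).obj.obj (op W₁), r₁ = (E.map c).hom.app (op W₁) s₁ := ⟨_, rfl⟩
    obtain ⟨r₂, hr₂def⟩ : ∃ r₂ : (E.obj n).obj.obj (op W₂), r₂ = (E.map c).hom.app (op W₂) s₂ := ⟨_, rfl⟩
    have hι₁ : (e.ι.app n).hom.app (op W₁) r₁ = rs e.pt hW₁ t := by rw [hr₁def, w_apply, hs₁]
    have hι₂ : (e.ι.app n).hom.app (op W₂) r₂ = rs e.pt hW₂ t := by rw [hr₂def, w_apply, hs₂]
    have hr : rs (E.obj n) (inf_le_left : W₁ ⊓ W₂ ≤ W₁) r₁ = rs (E.obj n) (inf_le_right : W₁ ⊓ W₂ ≤ W₂) r₂ := by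
      have e1 : rs (E.obj n) (inf_le_left : W₁ ⊓ W₂ ≤ W₁) r₁ =
          (E.map c).hom.app (op (W₁ ⊓ W₂)) (rs (E.obj m) (inf_le_left : W₁ ⊓ W₂ ≤ W₁) s₁) := by
        rw [hr₁def]
        exact (nat_rs (E.map c) _ s₁).symm
      have e2 : rs (E.obj n) (inf_le_right : W₁ ⊓ W₂ ≤ W₂) r₂ =
          (E.map c).hom.app (op (W₁ ⊓ W₂)) (rs (E.obj m) (inf_le_right : W₁ ⊓ W₂ ≤ W₂) s₂) := by
        rw [hr₂def]
        exact (nat_rs (E.map c) _ s₂).symm
      rw [e1, e2, ← sub_eq_zero, ← map_sub]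
      exact hn
    obtain ⟨r, hr₁, hr₂⟩ := exists_glue₂ (E.obj n) r₁ r₂ hr
    refine ⟨n, W₁ ⊔ W₂, sup_le hW₁ hW₂, r, hc₁.union hc₂, ?_, ?_⟩
    · intro x hx
      rcases hx with hx | hx
      · exact Or.inl (hSW₁ hx)
      · exact Or.inr (hSW₂ hx)
    · refine eq_of_locally e.pt ((e.ι.app n).hom.app (op (W₁ ⊔ W₂)) r) (rs e.pt (sup_le hW₁ hW₂) t) ?_
      intro x hx
      rcases hx with hx | hx
      · refine ⟨W₁, le_sup_left, hx, ?_⟩
        rw [← ι_rs, hr₁, rs_rs, hι₁]
      · refine ⟨W₂, le_sup_right, hx, ?_⟩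
        rw [← ι_rs, hr₂, rs_rs, hι₂]
  · intro x hx
    obtain ⟨W, hW, hxW, k, t', hz⟩ := exists_stage_local E e he U t x hx
    obtain ⟨W', hW'c, hxW', hW'W⟩ := hbasis W x hxW hW
    refine ⟨(W' : Set Y), mem_nhdsWithin_of_mem_nhds (W'.isOpen.mem_nhds hxW'), k, W', hW'W.trans hW,
      rs (E.obj k) hW'W t', hW'c, subset_rfl, ?_⟩
    rw [ι_rs, hz, rs_rs]

end Colim

section Mod
variable (R : Sheaf (Opens.grothendieckTopology Y) RingCat.{u})
  {J : Type u} [SmallCategory J] [IsFiltered J] (D : J ⥤ SheafOfModules.{u} R) (c : Cocone D) (hc : IsColimit c)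

include hc in
/-- module version of `exists_map_eq_zero` -/
theorem mod_exists_map_eq_zero (U : Opens Y) (hU : IsCompact (U : Set Y)) (j : J) (t' : (D.obj j).val.obj (op U))
    (h0 : (c.ι.app j).val.app (op U) t' = 0) :
    ∃ (k : J) (f : j ⟶ k), (D.map f).val.app (op U) t' = 0 := by
  haveI : PreservesColimitsOfShape J (SheafOfModules.toSheaf.{u} R) :=
    Groth.Agent.S0484.preservesColimitsOfShape_toSheaf (Opens.grothendieckTopology Y) R J
  have he := isColimitOfPreserves (SheafOfModules.toSheaf.{u} R) hc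
  exact exists_map_eq_zero (D ⋙ SheafOfModules.toSheaf.{u} R) ((SheafOfModules.toSheaf.{u} R).mapCocone c) he U hU j t' h0

include hc in
/-- module version of `exists_rep` -/
theorem mod_exists_rep (U : Opens Y) (hU : IsCompact (U : Set Y))
    (hbasis : ∀ (W : Opens Y) (x : Y), x ∈ W → W ≤ U → ∃ W' : Opens Y, IsCompact (W' : Set Y) ∧ x ∈ W' ∧ W' ≤ W)
    (hqs : ∀ W W' : Opens Y, W ≤ U → W' ≤ U → IsCompact (W : Set Y) → IsCompact (W' : Set Y) →
      IsCompact ((W ⊓ W' : Opens Y) : Set Y))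
    (t : c.pt.val.obj (op U)) :
    ∃ (k : J) (t' : (D.obj k).val.obj (op U)), (c.ι.app k).val.app (op U) t' = t := by
  haveI : PreservesColimitsOfShape J (SheafOfModules.toSheaf.{u} R) :=
    Groth.Agent.S0484.preservesColimitsOfShape_toSheaf (Opens.grothendieckTopology Y) R J
  have he := isColimitOfPreserves (SheafOfModules.toSheaf.{u} R) hc
  exact exists_rep (D ⋙ SheafOfModules.toSheaf.{u} R) ((SheafOfModules.toSheaf.{u} R).mapCocone c) he U hU hbasis hqs t

end Mod

section Scheme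
open AlgebraicGeometry
variable {X : Scheme.{u}} {J : Type u} [SmallCategory J] [IsFiltered J] (D : J ⥤ X.Modules) (c : Cocone D)
  (hc : IsColimit c)

include hc in
/-- on a scheme: a section of a stage over a quasi-compact open mapping to zero in a filtered colimit maps to zero in a
later stage -/
theorem scheme_exists_map_eq_zero (U : X.Opens) (hU : IsCompact (U : Set X)) (j : J) (t' : Γ(D.obj j, U))
    (h0 : (c.ι.app j).app U t' = 0) : ∃ (k : J) (f : j ⟶ k), (D.map f).app U t' = 0 := by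
  let T : X.Modules ⥤ AbSh X.toTopCat := SheafOfModules.toSheaf X.ringCatSheaf
  haveI : PreservesColimitsOfShape J T :=
    Groth.Agent.S0484.preservesColimitsOfShape_toSheaf (Opens.grothendieckTopology X) X.ringCatSheaf J
  have he : IsColimit (T.mapCocone c) := isColimitOfPreserves T hc
  exact exists_map_eq_zero (D ⋙ T) (T.mapCocone c) he U hU j t' h0

include hc in
/-- on a scheme: a section of a filtered colimit over an affine open comes from a stage -/
theorem scheme_exists_rep (U : X.Opens) (hU : IsAffineOpen U) (t : Γ(c.pt, U)) :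
    ∃ (k : J) (t' : Γ(D.obj k, U)), (c.ι.app k).app U t' = t := by
  let T : X.Modules ⥤ AbSh X.toTopCat := SheafOfModules.toSheaf X.ringCatSheaf
  haveI : PreservesColimitsOfShape J T :=
    Groth.Agent.S0484.preservesColimitsOfShape_toSheaf (Opens.grothendieckTopology X) X.ringCatSheaf J
  have he : IsColimit (T.mapCocone c) := isColimitOfPreserves T hc
  refine exists_rep (D ⋙ T) (T.mapCocone c) he U hU.isCompact ?_ ?_ t
  · intro W x hxW hWU
    obtain ⟨W', hW', hxW', hW'W⟩ := (Opens.isBasis_iff_nbhd.1 X.isBasis_affineOpens) hxW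
    exact ⟨W', IsAffineOpen.isCompact hW', hxW', hW'W⟩
  · intro W W' hW hW' hWc hW'c
    exact hU.isQuasiSeparated W.carrier W'.carrier hW W.isOpen hWc hW' W'.isOpen hW'c

end Scheme

end Groth.Agent.Lib.T2H5.SecColim
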