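import Mathlib
import Groth.Prelude.Def_RelSpec2
import Groth.Agent.Lib.T2H5SecColim
set_option backward.isDefEq.respectTransparency.types false

/-!
# T2H5DirImgColim: the direct image along an affine morphism commutes with filtered colimits (helper5)

Namespace `Groth.Agent.Lib.T2H5.DirImgColim`.
-/

set_option autoImplicit false
set_option linter.style.haveILetI false
set_option linter.unusedSectionVars false
universe u
open CategoryTheory CategoryTheory.Limits AlgebraicGeometry TopologicalSpace Opposite

namespace Groth.Agent.Lib.T2H5.DirImgColim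

open Groth.Agent.Lib.T2H5.SecColim

/-- a morphism of sheaves of modules on a topological space that is bijective on a basis of opens is an isomorphism -/
theorem mod_isIso_of_bijective_on_basis {Y : TopCat.{u}} (R : Sheaf (Opens.grothendieckTopology Y) RingCat.{u})
    {M N : SheafOfModules.{u} R} (φ : M ⟶ N) {ι : Type u} (B : ι → Opens Y)
    (hB : Opens.IsBasis (Set.range B)) (hφ : ∀ i, Function.Bijective (φ.val.app (op (B i)))) : IsIso φ := by
  have h1 : IsIso ((SheafOfModules.toSheaf.{u} R).map φ) :=
    TopCat.Sheaf.isIso_iff_isIso_basis (B := B) hB fun i =>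
      (ConcreteCategory.isIso_iff_bijective _).2 (hφ i)
  exact isIso_of_reflects_iso φ (SheafOfModules.toSheaf.{u} R)

section Main
variable {X S : Scheme.{u}} (f : X ⟶ S) [IsAffineHom f]
  {J : Type u} [SmallCategory J] [IsFiltered J] (D : J ⥤ X.Modules)

/-- the comparison morphism -/
noncomputable abbrev cmp : colimit (D ⋙ AMod.dirImg f) ⟶ (AMod.dirImg f).obj (colimit D) :=
  colimit.desc (D ⋙ AMod.dirImg f) ((AMod.dirImg f).mapCocone (colimit.cocone D))

theorem ι_cmp (j : J) : colimit.ι (D ⋙ AMod.dirImg f) j ≫ cmp f D = (AMod.dirImg f).map (colimit.ι D j) :=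
  colimit.ι_desc _ _

theorem ι_cmp_apply (j : J) (V : S.Opens) (s : Γ(D.obj j, f ⁻¹ᵁ V)) :
    (cmp f D).val.app (op V) ((colimit.ι (D ⋙ AMod.dirImg f) j).val.app (op V) s) =
      (colimit.ι D j).app (f ⁻¹ᵁ V) s := by
  have h := congrArg (fun φ => φ.val.app (op V) s) (ι_cmp f D j)
  exact h

/-- **the direct image along an affine morphism commutes with filtered colimits** -/
theorem isIso_cmp : IsIso (cmp f D) := by
  refine mod_isIso_of_bijective_on_basis _ (cmp f D) (fun V : S.affineOpens => (V.1 : S.Opens)) ?_ (fun V => ?_)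
  · have h : Set.range (fun V : S.affineOpens => (V.1 : S.Opens)) = S.affineOpens := Subtype.range_coe
    rw [h]
    exact S.isBasis_affineOpens
  · have hV' : IsAffineOpen (f ⁻¹ᵁ V.1) := V.2.preimage f
    constructor
    · -- injective
      rw [injective_iff_map_eq_zero]
      intro s hs
      obtain ⟨k, s', hs'⟩ := mod_exists_rep _ (D ⋙ AMod.dirImg f) (colimit.cocone (D ⋙ AMod.dirImg f))
        (colimit.isColimit _) V.1 V.2.isCompact
        (by
          intro W x hxW hWU
          obtain ⟨W', hW', hxW', hW'W⟩ := (Opens.isBasis_iff_nbhd.1 S.isBasis_affineOpens) hxW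
          exact ⟨W', IsAffineOpen.isCompact hW', hxW', hW'W⟩)
        (by
          intro W W' hW hW' hWc hW'c
          exact V.2.isQuasiSeparated W.carrier W'.carrier hW W.isOpen hWc hW' W'.isOpen hW'c) s
      have h1 : (colimit.ι D k).app (f ⁻¹ᵁ V.1) s' = 0 := by
        rw [← ι_cmp_apply]
        have : (colimit.ι (D ⋙ AMod.dirImg f) k).val.app (op V.1) s' = s := hs'
        rw [this]
        exact hs
      obtain ⟨k', g, hg⟩ := scheme_exists_map_eq_zero D (colimit.cocone D) (colimit.isColimit D) (f ⁻¹ᵁ V.1)
        hV'.isCompact k s' h1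
      have h2 : colimit.ι (D ⋙ AMod.dirImg f) k = (D ⋙ AMod.dirImg f).map g ≫ colimit.ι (D ⋙ AMod.dirImg f) k' :=
        (colimit.w (D ⋙ AMod.dirImg f) g).symm
      have h3 : s = (colimit.ι (D ⋙ AMod.dirImg f) k').val.app (op V.1)
          (((D ⋙ AMod.dirImg f).map g).val.app (op V.1) s') := by
        rw [← hs']
        exact congrArg (fun φ => φ.val.app (op V.1) s') h2
      have h4 : ((D ⋙ AMod.dirImg f).map g).val.app (op V.1) s' = 0 := hg
      rw [h3, h4, map_zero]
    · -- surjective
      intro t
      obtain ⟨k, t', ht'⟩ := scheme_exists_rep D (colimit.cocone D) (colimit.isColimit D) (f ⁻¹ᵁ V.1) hV' t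
      refine ⟨(colimit.ι (D ⋙ AMod.dirImg f) k).val.app (op V.1) t', ?_⟩
      rw [ι_cmp_apply]
      exact ht'

end Main

end Groth.Agent.Lib.T2H5.DirImgColim
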