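import Mathlib
import Groth.Prelude.Def_RDer
import Groth.Agent.Lib.Helper17RDer6
import Groth.Agent.Lib.T2H5PushExactA
set_option backward.isDefEq.respectTransparency.types false

/-!
# T2H5EdgeOut: the second edge map `R^q (Φ ⋙ Ψ) X ⟶ Ψ (R^q Φ X)` is an isomorphism when the cycles and boundaries of
`Φ I` are `Ψ`-acyclic (helper5)

Namespace `Groth.Agent.Lib.T2H5.EdgeOut`.
-/

set_option autoImplicit false
set_option linter.style.haveILetI false
set_option linter.unusedSectionVars false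
universe v u v' u' v'' u''
open CategoryTheory CategoryTheory.Limits

namespace Groth.Agent.Lib.T2H5.EdgeOut

variable {𝒜 : Type u} [Category.{v} 𝒜] [Abelian 𝒜] {ℬ : Type u'} [Category.{v'} ℬ] [Abelian ℬ]

section Acyc

variable [EnoughInjectives 𝒜] (F : 𝒜 ⥤ ℬ) [F.Additive]

/-- `A` has no higher derived functors -/
def Acyc (A : 𝒜) : Prop := ∀ q : ℕ, IsZero ((F.rightDerived (q + 1)).obj A)

variable {F}

theorem acyc_of_iso {A B : 𝒜} (e : A ≅ B) (h : Acyc F A) : Acyc F B :=
  fun q => IsZero.of_iso (h q) ((F.rightDerived (q + 1)).mapIso e.symm)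

theorem acyc_of_isZero {A : 𝒜} (h : IsZero A) : Acyc F A :=
  fun q => (F.rightDerived (q + 1)).map_isZero h

theorem acyc_X₃ (S : ShortComplex 𝒜) (hS : S.ShortExact) (h1 : Acyc F S.X₁) (h2 : Acyc F S.X₂) :
    Acyc F S.X₃ := by
  intro q
  obtain ⟨T⟩ := Groth.Agent.Lib.Helper17.RDerLib.nonempty_sesRes S hS
  have hex := Groth.Agent.Lib.Helper17.RDerLib.exact₃ F T (q + 1) (q + 2) rfl
  exact hex.isZero_X₂ ((h2 q).eq_of_src _ _) ((h1 (q + 1)).eq_of_tgt _ _)

theorem acyc_X₂ (S : ShortComplex 𝒜) (hS : S.ShortExact) (h1 : Acyc F S.X₁) (h3 : Acyc F S.X₃) :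
    Acyc F S.X₂ := by
  intro q
  obtain ⟨T⟩ := Groth.Agent.Lib.Helper17.RDerLib.nonempty_sesRes S hS
  have hex := Groth.Agent.Lib.Helper17.RDerLib.exact₂ F T (q + 1)
  exact hex.isZero_X₂ ((h1 q).eq_of_src _ _) ((h3 q).eq_of_tgt _ _)

end Acyc

section Cx

variable {ι : Type*} {c : ComplexShape ι} (K : HomologicalComplex 𝒜 c)

/-- the short complex `K^i ⟶ Z^j ⟶ H^j` -/
noncomputable abbrev C (i j : ι) : ShortComplex 𝒜 :=
  ShortComplex.mk (K.toCycles i j) (K.homologyπ j) (K.toCycles_comp_homologyπ i j)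

lemma C_exact (i j : ι) (hi : c.prev j = i) : (C K i j).Exact :=
  ShortComplex.exact_of_g_is_cokernel _ (K.homologyIsCokernel i j hi)

instance (i j : ι) : Epi (C K i j).g := inferInstanceAs (Epi (K.homologyπ j))

/-- `0 ⟶ B^j ⟶ Z^j ⟶ H^j ⟶ 0` -/
noncomputable def sesI (i j : ι) : ShortComplex 𝒜 :=
  ShortComplex.mk (C K i j).iCycles (K.homologyπ j) (C K i j).iCycles_g

lemma sesI_shortExact (i j : ι) : (sesI K i j).ShortExact where
  exact := ShortComplex.exact_of_f_is_kernel _ (C K i j).cyclesIsKernel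
  mono_f := inferInstanceAs (Mono (C K i j).iCycles)
  epi_g := inferInstanceAs (Epi (K.homologyπ j))

lemma iCycles_toCycles (i j : ι) : K.iCycles i ≫ (C K i j).toCycles = 0 := by
  have h1 : (C K i j).toCycles ≫ (C K i j).iCycles = K.toCycles i j := (C K i j).toCycles_i
  have h2 : (K.iCycles i ≫ (C K i j).toCycles) ≫ ((C K i j).iCycles ≫ K.iCycles j) =
      0 ≫ ((C K i j).iCycles ≫ K.iCycles j) := by
    rw [zero_comp, Category.assoc, ← Category.assoc (C K i j).toCycles, h1, K.toCycles_i, K.iCycles_d]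
  haveI : Mono ((C K i j).iCycles ≫ K.iCycles j) := mono_comp _ _
  exact (cancel_mono _).1 h2

/-- `0 ⟶ Z^i ⟶ K^i ⟶ B^j ⟶ 0` for `j` the successor of `i` -/
noncomputable def sesII (i j : ι) : ShortComplex 𝒜 :=
  ShortComplex.mk (K.iCycles i) (C K i j).toCycles (iCycles_toCycles K i j)

lemma sesII_shortExact (i j : ι) (hij : c.Rel i j) : (sesII K i j).ShortExact where
  exact := by
    refine ShortComplex.exact_of_f_is_kernel _ ?_
    refine isKernelOfComp (f := (C K i j).toCycles) ((C K i j).iCycles ≫ K.iCycles j) (K.d i j)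
      (K.cyclesIsKernel i j (c.next_eq' hij)) (iCycles_toCycles K i j) ?_
    rw [← Category.assoc, (C K i j).toCycles_i]
    exact K.toCycles_i i j
  mono_f := inferInstanceAs (Mono (K.iCycles i))
  epi_g := by
    have h := C_exact K i j (c.prev_eq' hij)
    rw [ShortComplex.exact_iff_epi_toCycles] at h
    exact h

end Cx

section Comparison

variable {ι : Type*} {c : ComplexShape ι} (K : HomologicalComplex 𝒜 c)
  (Ψ : 𝒜 ⥤ ℬ) [Ψ.Additive] [PreservesFiniteLimits Ψ]

set_option backward.isDefEq.respectTransparency false in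
theorem isIso_cyclesComparison (j : ι) : IsIso (RDer.cyclesComparison Ψ K j) := by
  have h : RDer.cyclesComparison Ψ K j =
      (IsLimit.conePointUniqueUpToIso
        (((Ψ.mapHomologicalComplex c).obj K).cyclesIsKernel j (c.next j) rfl)
        (KernelFork.mapIsLimit _ (K.cyclesIsKernel j (c.next j) rfl) Ψ)).hom := rfl
  rw [h]
  infer_instance

set_option backward.isDefEq.respectTransparency false in
/-- the comparison `H^j (Ψ K) ⟶ Ψ (H^j K)` is an isomorphism as soon as `Ψ` preserves the two epimorphisms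
`Z^j ⟶ H^j` and `K^i ⟶ B^j` -/
theorem isIso_homologyComparison (j : ι) (h1 : Epi (Ψ.map (K.homologyπ j)))
    (h2 : Epi (Ψ.map (C K (c.prev j) j).toCycles)) : IsIso (RDer.homologyComparison Ψ K j) := by
  haveI := isIso_cyclesComparison K Ψ j
  have hC : ((C K (c.prev j) j).map Ψ).Exact :=
    Groth.Agent.Lib.T2H5.PushExact.exact_map_of_epi_toCycles Ψ (C K (c.prev j) j) h2
  let L := (Ψ.mapHomologicalComplex c).obj K
  have hz : L.toCycles (c.prev j) j ≫ RDer.cyclesComparison Ψ K j ≫ Ψ.map (K.homologyπ j) = 0 := by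
    rw [RDer.toCycles_cyclesComparison_assoc, ← Ψ.map_comp, K.toCycles_comp_homologyπ, Ψ.map_zero]
  let S' : ShortComplex ℬ := ShortComplex.mk (L.toCycles (c.prev j) j)
    (RDer.cyclesComparison Ψ K j ≫ Ψ.map (K.homologyπ j)) hz
  let e : S' ≅ (C K (c.prev j) j).map Ψ :=
    ShortComplex.isoMk (Iso.refl _) (asIso (RDer.cyclesComparison Ψ K j)) (Iso.refl _)
      (by
        change 𝟙 _ ≫ Ψ.map (K.toCycles (c.prev j) j) =
          L.toCycles (c.prev j) j ≫ RDer.cyclesComparison Ψ K j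
        rw [Category.id_comp, RDer.toCycles_cyclesComparison])
      (by
        change RDer.cyclesComparison Ψ K j ≫ Ψ.map (K.homologyπ j) =
          (RDer.cyclesComparison Ψ K j ≫ Ψ.map (K.homologyπ j)) ≫ 𝟙 _
        rw [Category.comp_id])
  have hS' : S'.Exact := (ShortComplex.exact_iff_of_iso e).2 hC
  haveI : Epi S'.g := by
    change Epi (RDer.cyclesComparison Ψ K j ≫ Ψ.map (K.homologyπ j))
    exact epi_comp _ _
  have hcok : IsColimit (CokernelCofork.ofπ S'.g S'.zero) := hS'.gIsCokernel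
  have h : RDer.homologyComparison Ψ K j =
      (IsColimit.coconePointUniqueUpToIso (L.homologyIsCokernel (c.prev j) j rfl) hcok).hom := rfl
  rw [h]
  infer_instance

end Comparison

section Nat

variable [EnoughInjectives 𝒜] (Ψ : 𝒜 ⥤ ℬ) [Ψ.Additive] [PreservesFiniteLimits Ψ] (K : CochainComplex 𝒜 ℕ)

omit [EnoughInjectives 𝒜] in
theorem isZero_B_zero : IsZero (C K ((ComplexShape.up ℕ).prev 0) 0).cycles := by
  have h0 : (C K ((ComplexShape.up ℕ).prev 0) 0).iCycles = 0 := by
    have h := (C K ((ComplexShape.up ℕ).prev 0) 0).iCycles_g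
    have h' : (C K ((ComplexShape.up ℕ).prev 0) 0).iCycles ≫ K.homologyπ 0 = 0 ≫ K.homologyπ 0 := by
      rw [zero_comp]
      exact h
    exact (cancel_mono (K.homologyπ 0)).1 h'
  exact IsZero.of_mono_eq_zero _ h0

theorem acyc_cycles_boundaries (hK : ∀ n, Acyc Ψ (K.X n)) (hH : ∀ n, Acyc Ψ (K.homology n)) :
    ∀ n : ℕ, Acyc Ψ (K.cycles n) ∧ Acyc Ψ (C K ((ComplexShape.up ℕ).prev n) n).cycles := by
  intro n
  induction n with
  | zero =>
    constructor
    · exact acyc_of_iso (asIso (K.homologyπ 0)).symm (hH 0)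
    · apply acyc_of_isZero
      exact isZero_B_zero K
  | succ n ih =>
    have hp : (ComplexShape.up ℕ).prev (n + 1) = n := by simp
    rw [hp]
    have hB : Acyc Ψ (C K n (n + 1)).cycles :=
      acyc_X₃ (sesII K n (n + 1)) (sesII_shortExact K n (n + 1) rfl) ih.1 (hK n)
    exact ⟨acyc_X₂ (sesI K n (n + 1)) (sesI_shortExact K n (n + 1)) hB (hH (n + 1)), hB⟩

/-- **The comparison `H^q (Ψ K) ⟶ Ψ (H^q K)` is an isomorphism for a complex `K` with `Ψ`-acyclic terms and
`Ψ`-acyclic cohomology objects.** -/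
theorem isIso_homologyComparison_of_acyc (hK : ∀ n, Acyc Ψ (K.X n)) (hH : ∀ n, Acyc Ψ (K.homology n))
    (q : ℕ) : IsIso (RDer.homologyComparison Ψ K q) := by
  have hZB := acyc_cycles_boundaries Ψ K hK hH
  refine isIso_homologyComparison K Ψ q ?_ ?_
  · exact Groth.Agent.Lib.T2H5.PushExact.epi_map_of_isZero_rightDerived Ψ
      (sesI K ((ComplexShape.up ℕ).prev q) q) (sesI_shortExact K _ q) ((hZB q).2 0)
  · cases q with
    | zero =>
      have hz : IsZero (Ψ.obj (C K ((ComplexShape.up ℕ).prev 0) 0).cycles) := by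
        apply Ψ.map_isZero
        exact isZero_B_zero K
      exact ⟨fun _ _ _ => hz.eq_of_src _ _⟩
    | succ n =>
      have hp : (ComplexShape.up ℕ).prev (n + 1) = n := by simp
      rw [hp]
      exact Groth.Agent.Lib.T2H5.PushExact.epi_map_of_isZero_rightDerived Ψ
        (sesII K n (n + 1)) (sesII_shortExact K n (n + 1) rfl) ((hZB n).1 0)

/-- **The second edge map is an isomorphism.** -/
theorem isIso_edgeOut {𝒞 : Type u''} [Category.{v''} 𝒞] [Abelian 𝒞] [HasInjectiveResolutions 𝒞]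
    (Φ : 𝒞 ⥤ 𝒜) [Φ.Additive] (X : 𝒞)
    (hI : ∀ I : 𝒞, Injective I → Acyc Ψ (Φ.obj I))
    (hH : ∀ n : ℕ, Acyc Ψ ((Φ.rightDerived n).obj X)) (q : ℕ) :
    IsIso (RDer.edgeOut Φ Ψ q X) := by
  have hK : ∀ n, Acyc Ψ (((Φ.mapHomologicalComplex (ComplexShape.up ℕ)).obj
      (injectiveResolution X).cocomplex).X n) := fun n => hI _ ((injectiveResolution X).injective n)
  have hH' : ∀ n, Acyc Ψ (((Φ.mapHomologicalComplex (ComplexShape.up ℕ)).obj
      (injectiveResolution X).cocomplex).homology n) := fun n =>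
    acyc_of_iso ((injectiveResolution X).isoRightDerivedObj Φ n) (hH n)
  haveI := isIso_homologyComparison_of_acyc Ψ ((Φ.mapHomologicalComplex (ComplexShape.up ℕ)).obj
      (injectiveResolution X).cocomplex) hK hH' q
  unfold RDer.edgeOut
  refine IsIso.comp_isIso' inferInstance (IsIso.comp_isIso' this ?_)
  exact Functor.map_isIso Ψ _

end Nat

end Groth.Agent.Lib.T2H5.EdgeOut
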