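import Mathlib
import Groth.Agent.Lib.T2H5EdgeOut
import Groth.Agent.Lib.T2H5RpushClosed
import Groth.Agent.Lib.T2H5RpushQCoh
import Groth.Agent.S0028
import Groth.Prelude.Def_CohBC2
set_option backward.isDefEq.respectTransparency.types false

/-!
# T2H5EdgeOutGeo: the second Leray edge map for `X ⟶ Y ⟶ Z` with `Y ⟶ Z` affine (helper5)

Namespace `Groth.Agent.Lib.T2H5.EdgeOutGeo`.
-/

set_option autoImplicit false
set_option linter.style.haveILetI false
set_option linter.unusedSectionVars false
universe u
open CategoryTheory CategoryTheory.Limits AlgebraicGeometry Coherent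

namespace Groth.Agent.Lib.T2H5.EdgeOutGeo

open Groth.Agent.Lib.T2H5.EdgeOut

/-- higher direct images (as modules) of a quasi-coherent module along an affine morphism vanish -/
theorem isZero_Rpush_of_isAffineHom {Y Z : Scheme.{u}} (g : Y ⟶ Z) [IsAffineHom g]
    [HasInjectiveResolutions Y.Modules] (N : Y.Modules) [N.IsQuasicoherent] (q : ℕ) :
    IsZero ((Coh.Rpush g (q + 1)).obj N) := by
  apply Groth.Agent.Lib.T2H5.RpushClosed.isZero_of_isZero_toAb
  obtain ⟨e⟩ := Groth.Agent.Lib.Helper23.ModAbBridge.nonempty_toAb_Rpush_iso g N (q + 1)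
  exact IsZero.of_iso (Groth.Agent.S0028.result g N (q + 1) (Nat.succ_pos q)) e

/-- **the second Leray edge map `R^p (f ≫ g)_* M ⟶ g_* R^p f_* M` is an isomorphism for `g` affine, `f` quasi-compact
quasi-separated and `M` quasi-coherent** -/
theorem isIso_lerayEdgeOut {X Y Z : Scheme.{u}} (f : X ⟶ Y) (g : Y ⟶ Z)
    [QuasiCompact f] [QuasiSeparated f] [IsAffineHom g] [HasInjectiveResolutions X.Modules]
    (M : X.Modules) [M.IsQuasicoherent] (p : ℕ) :
    IsIso (CohBC.lerayEdgeOut f g p M) := by
  haveI := Groth.Agent.Lib.T2H5.RpushClosed.enoughInjectives_modules Y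
  have hI : ∀ I : X.Modules, Injective I →
      Acyc (Scheme.Modules.pushforward g) ((Scheme.Modules.pushforward f).obj I) := by
    intro I hI q
    exact Groth.Agent.Lib.T2H5.RpushClosed.isZero_Rpush_pushforward_injective f g I q
  have hH : ∀ n : ℕ, Acyc (Scheme.Modules.pushforward g)
      (((Scheme.Modules.pushforward f).rightDerived n).obj M) := by
    intro n q
    haveI : ((Coh.Rpush f n).obj M).IsQuasicoherent :=
      Groth.Agent.Lib.T2H5.RpushQCoh.isQuasicoherent_Rpush f M n
    exact isZero_Rpush_of_isAffineHom g ((Coh.Rpush f n).obj M) q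
  haveI := isIso_edgeOut (Scheme.Modules.pushforward g) (Scheme.Modules.pushforward f) M hI hH p
  unfold CohBC.lerayEdgeOut
  infer_instance

end Groth.Agent.Lib.T2H5.EdgeOutGeo
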