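import Mathlib
import Groth.Prelude.Def_AnFib

set_option autoImplicit false
set_option linter.style.haveILetI false
set_option linter.unusedSectionVars false

universe u
open CategoryTheory CategoryTheory.Limits AlgebraicGeometry

namespace Groth.Agent.Lib.T2H5.ElemFib

/-- range of the second projection of a pullback square. -/
theorem range_snd_of_isPullback {P X Y Z : Scheme.{u}} {fst : P ⟶ X} {snd : P ⟶ Y}
    {f : X ⟶ Z} {g : Y ⟶ Z} (h : IsPullback fst snd f g) :
    Set.range snd.base = g.base ⁻¹' Set.range f.base := by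
  have e : snd = h.isoPullback.hom ≫ pullback.snd f g := by simp
  rw [e]
  have : Function.Surjective h.isoPullback.hom.base := by
    have : IsIso h.isoPullback.hom := inferInstance
    exact (h.isoPullback.hom.homeomorph).surjective
  rw [Scheme.Hom.comp_base, TopCat.coe_comp, Set.range_comp, this.range_eq, Set.image_univ]
  exact Scheme.Pullback.range_snd f g

/-- range of the first projection of a pullback square. -/
theorem range_fst_of_isPullback {P X Y Z : Scheme.{u}} {fst : P ⟶ X} {snd : P ⟶ Y}
    {f : X ⟶ Z} {g : Y ⟶ Z} (h : IsPullback fst snd f g) :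
    Set.range fst.base = f.base ⁻¹' Set.range g.base :=
  range_snd_of_isPullback h.flip

/-- The map `P^n_{S'} → P^n_S` induced by `u : S' → S`. -/
noncomputable def pmap (n : ℕ) {S S' : Scheme.{u}} (u : S' ⟶ S) :
    CohB1.ProjSpaceOver n S' ⟶ CohB1.ProjSpaceOver n S :=
  pullback.map _ _ _ _ (𝟙 _) u (𝟙 _) (by simp) (specULiftZIsTerminal.hom_ext _ _)

theorem isPullback_pmap (n : ℕ) {S S' : Scheme.{u}} (u : S' ⟶ S) :
    IsPullback (pmap n u) (CohB1.ProjSpaceOver.toBase n S') (CohB1.ProjSpaceOver.toBase n S) u := by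
  have hR : IsPullback (pullback.fst (CohB1.ProjSpace.toSpec n (ULift.{u} ℤ))
      (specULiftZIsTerminal.from S)) (CohB1.ProjSpaceOver.toBase n S)
      (CohB1.ProjSpace.toSpec n (ULift.{u} ℤ)) (specULiftZIsTerminal.from S) :=
    IsPullback.of_hasPullback _ _
  have hO : IsPullback (pmap n u ≫ pullback.fst (CohB1.ProjSpace.toSpec n (ULift.{u} ℤ))
      (specULiftZIsTerminal.from S)) (CohB1.ProjSpaceOver.toBase n S')
      (CohB1.ProjSpace.toSpec n (ULift.{u} ℤ)) (u ≫ specULiftZIsTerminal.from S) := by
    have e1 : pmap n u ≫ pullback.fst (CohB1.ProjSpace.toSpec n (ULift.{u} ℤ))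
        (specULiftZIsTerminal.from S) = pullback.fst (CohB1.ProjSpace.toSpec n (ULift.{u} ℤ))
        (specULiftZIsTerminal.from S') := by
      exact (pullback.lift_fst _ _ _).trans (Category.comp_id _)
    have e2 : u ≫ specULiftZIsTerminal.from S = specULiftZIsTerminal.from S' :=
      specULiftZIsTerminal.hom_ext _ _
    rw [e1, e2]
    exact IsPullback.of_hasPullback _ _
  refine IsPullback.of_right hO ?_ hR
  exact pullback.lift_snd _ _ _

end Groth.Agent.Lib.T2H5.ElemFib

namespace Groth.Agent.Lib.T2H5.ElemFib

/-- Strong projectivity is stable under base change. -/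
theorem isStronglyProjective_pullback_snd {Xb S S' : Scheme.{u}} (fb : Xb ⟶ S) (u : S' ⟶ S)
    (h : An.IsStronglyProjective fb) : An.IsStronglyProjective (pullback.snd fb u) := by
  obtain ⟨n, c, hc, hcf⟩ := h
  have hP := isPullback_pmap n u
  have hw : (pullback.fst fb u ≫ c) ≫ CohB1.ProjSpaceOver.toBase n S = pullback.snd fb u ≫ u := by
    rw [Category.assoc, hcf, pullback.condition]
  let c' : pullback fb u ⟶ CohB1.ProjSpaceOver n S' := hP.lift (pullback.fst fb u ≫ c) (pullback.snd fb u) hw
  have hc1 : c' ≫ pmap n u = pullback.fst fb u ≫ c := hP.lift_fst _ _ _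
  have hc2 : c' ≫ CohB1.ProjSpaceOver.toBase n S' = pullback.snd fb u := hP.lift_snd _ _ _
  have hsq : IsPullback c' (pullback.fst fb u) (pmap n u) c := by
    refine IsPullback.of_right ?_ hc1 hP.flip
    rw [hc2, hcf]
    exact (IsPullback.of_hasPullback fb u).flip
  exact ⟨n, c', MorphismProperty.of_isPullback (P := @IsClosedImmersion) hsq.flip hc, hc2⟩

end Groth.Agent.Lib.T2H5.ElemFib

namespace Groth.Agent.Lib.T2H5.ElemFib

/-- a geometric point over a given point -/
theorem exists_geomPoint {S : Scheme.{u}} (s : S) :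
    ∃ (Ω : Type u) (_ : Field Ω) (_ : IsAlgClosed Ω) (σ : Spec (CommRingCat.of Ω) ⟶ S),
      Set.range σ.base = {s} := by
  have key : ∀ y, (S.fromSpecResidueField s).base y = s := by
    intro y
    have : (S.fromSpecResidueField s).base y ∈ Set.range (S.fromSpecResidueField s).base := ⟨y, rfl⟩
    rw [Scheme.range_fromSpecResidueField] at this
    exact this
  refine ⟨AlgebraicClosure (S.residueField s), inferInstance, inferInstance,
    Spec.map (CommRingCat.ofHom (algebraMap (S.residueField s) (AlgebraicClosure (S.residueField s)))) ≫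
      S.fromSpecResidueField s, ?_⟩
  apply Set.eq_of_subset_of_subset
  · rintro _ ⟨x, rfl⟩
    rw [Scheme.Hom.comp_base, TopCat.coe_comp, Function.comp_apply]
    exact key _
  · intro t ht
    rw [Set.mem_singleton_iff] at ht
    have hne : Nonempty (Spec (CommRingCat.of (AlgebraicClosure (S.residueField s)))) := inferInstance
    obtain ⟨x⟩ := hne
    refine ⟨x, ?_⟩
    rw [Scheme.Hom.comp_base, TopCat.coe_comp, Function.comp_apply, ht]
    exact key _

end Groth.Agent.Lib.T2H5.ElemFib

namespace Groth.Agent.Lib.T2H5.ElemFib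

theorem isElementaryFibration_pullback_snd {X S S' : Scheme.{u}} (f : X ⟶ S) (u : S' ⟶ S)
    (hf : An.IsElementaryFibration f) : An.IsElementaryFibration (pullback.snd f u) := by
  obtain ⟨Xb, Y, j, fb, i, hjf, hj, hi, hrange, hdense, hsm, hproj, hgeom, hfin, het, hsurj⟩ := hf
  -- the base-changed compactification
  let p : pullback fb u ⟶ Xb := pullback.fst fb u
  let fb' : pullback fb u ⟶ S' := pullback.snd fb u
  have hw : (pullback.fst f u ≫ j) ≫ fb = pullback.snd f u ≫ u := by
    rw [Category.assoc, hjf, pullback.condition]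
  let j' : pullback f u ⟶ pullback fb u := pullback.lift (pullback.fst f u ≫ j) (pullback.snd f u) hw
  have hj1 : j' ≫ p = pullback.fst f u ≫ j := pullback.lift_fst _ _ _
  have hj2 : j' ≫ fb' = pullback.snd f u := pullback.lift_snd _ _ _
  -- the left square is cartesian
  have hsqj : IsPullback j' (pullback.fst f u) p j := by
    refine IsPullback.of_right ?_ hj1 (IsPullback.of_hasPullback fb u).flip
    rw [hj2, hjf]
    exact (IsPullback.of_hasPullback f u).flip
  have hj' : IsOpenImmersion j' :=
    MorphismProperty.of_isPullback (P := @IsOpenImmersion) hsqj.flip hj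
  -- the boundary
  let i' : pullback i p ⟶ pullback fb u := pullback.snd i p
  have hi' : IsClosedImmersion i' := inferInstance
  have hrj : Set.range j'.base = p.base ⁻¹' Set.range j.base := range_fst_of_isPullback hsqj
  have hri : Set.range i'.base = p.base ⁻¹' Set.range i.base := Scheme.Pullback.range_snd i p
  have hrange' : Set.range j'.base = (Set.range i'.base)ᶜ := by
    rw [hrj, hri, hrange, Set.preimage_compl]
  -- the boundary over the base
  have hsqi : IsPullback (pullback.fst i p) (i' ≫ fb') (i ≫ fb) u :=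
    (IsPullback.of_hasPullback i p).paste_vert (IsPullback.of_hasPullback fb u)
  have hgeom' : ∀ (Ω : Type u) [Field Ω] [IsAlgClosed Ω] (σ : Spec (CommRingCat.of Ω) ⟶ S'),
      IrreducibleSpace ↥(pullback fb' σ) ∧ topologicalKrullDim ↥(pullback fb' σ) = 1 := by
    intro Ω _ _ σ
    obtain ⟨h1, h2⟩ := hgeom Ω (σ ≫ u)
    let e : pullback fb' σ ≅ pullback fb (σ ≫ u) := pullbackLeftPullbackSndIso fb u σ
    refine ⟨((Scheme.homeoOfIso e).irreducibleSpace_iff).2 h1, ?_⟩
    rw [← h2]
    exact IsHomeomorph.topologicalKrullDim_eq _ (Scheme.homeoOfIso e).isHomeomorph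
  refine ⟨pullback fb u, pullback i p, j', fb', i', hj2, hj', hi', hrange', ?_, ?_, ?_, hgeom', ?_, ?_, ?_⟩
  · -- density in the fibres
    intro s'
    obtain ⟨Ω, _, _, σ, hσ⟩ := exists_geomPoint s'
    obtain ⟨hirr, -⟩ := hgeom' Ω σ
    -- the fibre is the image of the geometric fibre
    have hF : fb'.base ⁻¹' {s'} = Set.range (pullback.fst fb' σ).base := by
      rw [Scheme.Pullback.range_fst, hσ]
    have hFirr : IsPreirreducible (fb'.base ⁻¹' {s'}) := by
      rw [hF, ← Set.image_univ]
      exact (PreirreducibleSpace.isPreirreducible_univ).image _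
        (pullback.fst fb' σ).continuous.continuousOn
    have hopen : IsOpen (Set.range j'.base) := j'.isOpenEmbedding.isOpen_range
    -- the fibre of `f` over `u s'` is nonempty
    have hne : (fb'.base ⁻¹' {s'} ∩ Set.range j'.base).Nonempty := by
      obtain ⟨y, hy⟩ := hsurj (u.base s')
      have hy' : (i.base y) ∈ fb.base ⁻¹' {u.base s'} := by
        simpa using hy
      have hcl := hdense (u.base s') hy'
      have : (Set.range j.base ∩ fb.base ⁻¹' {u.base s'}).Nonempty := by
        by_contra hcon
        rw [Set.not_nonempty_iff_eq_empty] at hcon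
        rw [hcon, closure_empty] at hcl
        exact hcl
      obtain ⟨_, ⟨x, rfl⟩, hx⟩ := this
      have hfx : f.base x = u.base s' := by
        rw [← hjf]; simpa using hx
      obtain ⟨z, hz1, hz2⟩ := Scheme.Pullback.exists_preimage_pullback (f := f) (g := u) x s' hfx
      refine ⟨j'.base z, ?_, ⟨z, rfl⟩⟩
      change fb'.base (j'.base z) = s'
      rw [← hz2, ← hj2]
      rfl
    rw [Set.inter_comm]
    exact subset_closure_inter_of_isPreirreducible_of_isOpen hFirr hopen hne
  · exact inferInstanceAs (Smooth (pullback.snd fb u))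
  · exact isStronglyProjective_pullback_snd fb u hproj
  · exact MorphismProperty.of_isPullback (P := @IsFinite) hsqi hfin
  · exact MorphismProperty.of_isPullback (P := @Etale) hsqi het
  · exact (MorphismProperty.of_isPullback (P := @Surjective) hsqi ⟨hsurj⟩).surj

end Groth.Agent.Lib.T2H5.ElemFib
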