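import Mathlib
import Groth.Agent.Lib.T2H5ExtLN

/-!
# Finite type quasi-coherent submodules through a given section (T2 helper5)
-/

set_option autoImplicit false
set_option linter.style.haveILetI false
set_option linter.unusedSectionVars false
universe u
open CategoryTheory Limits AlgebraicGeometry TopologicalSpace Opposite

namespace Groth.Agent.Lib.T2H5.ExtLN

open Groth.Agent.Lib.Helper23.QCohLocal Groth.Agent.Lib.Helper2.Push Groth.Agent.Lib.Helper2.QCoh
  Groth.Agent.Lib.Helper23.FinType Groth.Agent.Lib.Helper23.ModLocal Groth.Agent.Lib.Helper23.Extend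

variable {X : Scheme.{u}}

/-- on a scheme with locally Noetherian underlying space, every section of a quasi-coherent module over an affine open
lies in a quasi-coherent submodule of finite type. -/
theorem exists_sub_through_section' (hX : LocNoeth X) (F : X.Modules) [F.IsQuasicoherent] (U : X.Opens)
    (hU : IsAffineOpen U) (s : Γ(F, U)) :
    ∃ (G' : X.Modules) (i' : G' ⟶ F), Mono i' ∧ G'.IsQuasicoherent ∧
      SheafOfModules.IsFiniteType (R := X.ringCatSheaf) G' ∧ s ∈ rng i' U := by
  classical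
  haveI := quasiSeparatedSpace hX
  let R : CommRingCat.{u} := Γ(X, U)
  let h : Spec R ⟶ X := hU.fromSpec
  haveI : QuasiCompact h := quasiCompact_of_compactSpace h
  have htop : h ''ᵁ ⊤ = U := by
    rw [Scheme.Hom.image_top_eq_opensRange, hU.opensRange_fromSpec]
  let B : (Spec R).Modules := F.restrict h
  let s' : Γ(F, h ''ᵁ ⊤) := res F (le_of_eq htop) s
  let s'' : (ΓF R).obj B := s'
  obtain ⟨N, hN, c, hc, hcT⟩ := exists_finite_mono_of_finset R ((ΓF R).obj B) {s''}
  obtain ⟨n, hn⟩ := hcT s'' (Submodule.subset_span (by simp))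
  haveI := hc
  haveI : Mono (adjTilde R B c) := mono_adjTilde R B c
  haveI : ((tilde.functor R).obj N).IsQuasicoherent := inferInstanceAs (tilde N).IsQuasicoherent
  obtain ⟨σ, hσ⟩ := exists_section_adjTilde R B c n
  obtain ⟨H, ψ₀, e₀, hHq, hcompat, hmono, -⟩ := exists_extension' h F ((tilde.functor R).obj N) (adjTilde R B c)
  haveI := hHq
  haveI : Mono ψ₀ := hmono inferInstance
  haveI : SheafOfModules.IsFiniteType (R := (Spec R).ringCatSheaf) ((tilde.functor R).obj N) :=
    (isFiniteType_tilde_iff R N).2 hN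
  haveI : SheafOfModules.IsFiniteType (R := (Spec R).ringCatSheaf) (H.restrict h) := isFiniteType_of_iso e₀.symm
  have hH : FTOn H U := by
    have := ftOn_of_isFiniteType_restrict h H
    rw [hU.opensRange_fromSpec] at this
    exact this
  obtain ⟨G', ψ, hm, hq, hft, hiso⟩ := exists_sub_isFiniteType_locNoeth hX H U hH
  haveI := hm
  refine ⟨G', ψ ≫ ψ₀, mono_comp _ _, hq, hft, ?_⟩
  -- `s'` is in the range of `ψ₀` over `h ''ᵁ ⊤`
  have h1 : s' ∈ rng ψ₀ (h ''ᵁ ⊤) := by
    refine ⟨e₀.inv.app ⊤ σ, ?_⟩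
    have h2 : ((Scheme.Modules.restrictFunctor h).map ψ₀).app ⊤ (e₀.inv.app ⊤ σ) = s' := by
      rw [← hcompat, ← comp_app_apply, ← Category.assoc, e₀.inv_hom_id, Category.id_comp, hσ, hn]
    exact h2
  have h3 : s ∈ rng ψ₀ U := by
    have := res_mem_rng ψ₀ (le_of_eq htop.symm) h1
    rw [res_res, res_self] at this
    exact this
  obtain ⟨t, ht⟩ := h3
  haveI := hiso U le_rfl
  obtain ⟨t', rfl⟩ := (ConcreteCategory.bijective_of_isIso (ψ.app U)).2 t
  exact ⟨t', ht⟩

theorem exists_sub_through_section (hX : LocNoeth X) (F : X.Modules) [F.IsQuasicoherent] (U : X.Opens)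
    (hU : IsAffineOpen U) (s : F.val.obj (op U)) :
    ∃ (G' : X.Modules) (i' : G' ⟶ F), Mono i' ∧ G'.IsQuasicoherent ∧
      SheafOfModules.IsFiniteType (R := X.ringCatSheaf) G' ∧
      ∃ g : G'.val.obj (op U), (i'.val.app (op U)).hom g = s := by
  obtain ⟨G', i', h1, h2, h3, g, hg⟩ := exists_sub_through_section' hX F U hU s
  exact ⟨G', i', h1, h2, h3, g, hg⟩

end Groth.Agent.Lib.T2H5.ExtLN
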