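import Mathlib
import Groth.Prelude.Def_FlatMod2
import Groth.Agent.Lib.Helper2ModExact
import Groth.Agent.Lib.Helper23GenLocus

/-!
# Finitely many local sections generating all stalks of a subsheaf of `O_X` (helper5, team 2)

For a Noetherian scheme `X` and a sub-`O_X`-module `G ⟶ O_X` (not necessarily quasi-coherent), there is a
finite list of local sections of `G` whose germs generate every stalk: `exists_list_gen`.

* `noeth_induction`: Noetherian induction principle for properties of subsets of a quasi-sober Noetherian space;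
* `P G S`: some finite list of local sections generates the stalks of `G` at all points of `S`;
* `local_claim`: every point `ξ` has an open neighbourhood `U` with `P G (U ∩ closure {ξ})`.
-/
set_option autoImplicit false
set_option linter.style.haveILetI false
set_option linter.unusedSectionVars false
universe u
open CategoryTheory Limits AlgebraicGeometry TopologicalSpace Opposite

namespace Groth.Agent.Lib.T2H5.IdealGen

open Groth.Agent.Lib.Helper2.ModExact Groth.Agent.Lib.Helper23.GenLocus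

section Top

variable {α : Type*} [TopologicalSpace α]

/-- Noetherian induction for a property of subsets which is hereditary, stable under finite unions, and
holds on a neighbourhood of the generic point in each irreducible closed subset. -/
theorem noeth_induction [NoetherianSpace α] [QuasiSober α] (P : Set α → Prop)
    (h0 : P ∅) (hmono : ∀ S S' : Set α, S' ⊆ S → P S → P S')
    (hunion : ∀ S S' : Set α, P S → P S' → P (S ∪ S'))
    (hloc : ∀ ξ : α, ∃ U : Set α, IsOpen U ∧ ξ ∈ U ∧ P (U ∩ closure {ξ})) : P Set.univ := by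
  have key : ∀ Z : Closeds α, P (Z : Set α) := by
    intro Z
    apply wellFounded_lt.induction Z; clear Z
    intro Z H
    rcases eq_or_ne Z ⊥ with rfl | h₀
    · simpa using h0
    · by_cases h₁ : IsPreirreducible (Z : Set α)
      · have hirr : IsIrreducible (Z : Set α) := ⟨Closeds.coe_nonempty.2 h₀, h₁⟩
        obtain ⟨ξ, hξ⟩ := QuasiSober.sober hirr Z.isClosed
        obtain ⟨U, hU, hξU, hP⟩ := hloc ξ
        have hcl : closure {ξ} = (Z : Set α) := hξ
        rw [hcl] at hP
        have hξZ : ξ ∈ (Z : Set α) := by rw [← hcl]; exact subset_closure rfl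
        let Z' : Closeds α := Z ⊓ ⟨Uᶜ, hU.isClosed_compl⟩
        have hlt : Z' < Z := by
          refine lt_of_le_of_ne inf_le_left ?_
          intro h
          have : ξ ∈ (Z' : Set α) := by rw [h]; exact hξZ
          exact this.2 hξU
        have h2 := hunion _ _ hP (H Z' hlt)
        refine hmono _ _ ?_ h2
        intro z hz
        by_cases hzU : z ∈ U
        · exact Or.inl ⟨hzU, hz⟩
        · exact Or.inr ⟨hz, hzU⟩
      · simp only [isPreirreducible_iff_isClosed_union_isClosed, not_forall, not_or] at h₁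
        obtain ⟨z₁, z₂, hz₁, hz₂, h, hz₁', hz₂'⟩ := h₁
        lift z₁ to Closeds α using hz₁
        lift z₂ to Closeds α using hz₂
        have h1 := H (Z ⊓ z₁) (inf_lt_left.2 hz₁')
        have h2 := H (Z ⊓ z₂) (inf_lt_left.2 hz₂')
        refine hmono _ _ ?_ (hunion _ _ h1 h2)
        intro z hz
        rcases h hz with hz1 | hz2
        · exact Or.inl ⟨hz, hz1⟩
        · exact Or.inr ⟨hz, hz2⟩
  simpa using key ⊤

end Top

variable {X : Scheme.{u}} (G : X.Modules)

/-- the germs at `x` of those sections in the list `T` that are defined at `x` -/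
def germs (T : List (Σ U : X.Opens, Γ(G, U))) (x : X) : Set (G.presheaf.stalk x) :=
  {t | ∃ p ∈ T, ∃ h : x ∈ p.1, t = G.presheaf.germ p.1 x h p.2}

/-- the germs at `x` of the sections in `T` generate the stalk -/
def Gen (T : List (Σ U : X.Opens, Γ(G, U))) (x : X) : Prop :=
  Submodule.span (X.presheaf.stalk x) (germs G T x) = ⊤

/-- some finite list of local sections generates the stalks at all points of `S` -/
def P (S : Set X) : Prop := ∃ T : List (Σ U : X.Opens, Γ(G, U)), ∀ x ∈ S, Gen G T x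

theorem germs_mono {T T' : List (Σ U : X.Opens, Γ(G, U))} (h : ∀ p ∈ T, p ∈ T') (x : X) :
    germs G T x ⊆ germs G T' x := by
  rintro t ⟨p, hp, hx, rfl⟩
  exact ⟨p, h p hp, hx, rfl⟩

theorem Gen.mono {T T' : List (Σ U : X.Opens, Γ(G, U))} (h : ∀ p ∈ T, p ∈ T') {x : X}
    (hT : Gen G T x) : Gen G T' x := by
  unfold Gen at hT ⊢
  exact top_le_iff.1 (hT ▸ Submodule.span_mono (germs_mono G h x))

theorem P_empty : P G ∅ := ⟨[], fun x hx => absurd hx (Set.notMem_empty x)⟩

theorem P_mono (S S' : Set X) (h : S' ⊆ S) (hS : P G S) : P G S' := by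
  obtain ⟨T, hT⟩ := hS
  exact ⟨T, fun x hx => hT x (h hx)⟩

theorem P_union (S S' : Set X) (hS : P G S) (hS' : P G S') : P G (S ∪ S') := by
  obtain ⟨T, hT⟩ := hS
  obtain ⟨T', hT'⟩ := hS'
  refine ⟨T ++ T', ?_⟩
  rintro x (hx | hx)
  · exact (hT x hx).mono G (fun p hp => List.mem_append_left _ hp)
  · exact (hT' x hx).mono G (fun p hp => List.mem_append_right _ hp)

section Local

variable {G} (ι : G ⟶ Coh.structureModule X)

/-- `ι` on sections, valued in functions -/
noncomputable def ιf (V : X.Opens) (s : Γ(G, V)) : Γ(X, V) := ofS V (Scheme.Modules.Hom.app ι V s)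

theorem ιf_zero (V : X.Opens) : ιf ι V 0 = 0 := by
  unfold ιf; rw [map_zero]; rfl

theorem ιf_add (V : X.Opens) (s s' : Γ(G, V)) : ιf ι V (s + s') = ιf ι V s + ιf ι V s' := by
  unfold ιf; rw [map_add]; rfl

theorem ιf_smul (V : X.Opens) (r : Γ(X, V)) (s : Γ(G, V)) : ιf ι V (r • s) = r * ιf ι V s := by
  unfold ιf; rw [app_smul]; rfl

theorem ιf_map {V W : X.Opens} (i : W ⟶ V) (s : Γ(G, V)) :
    ιf ι W (G.presheaf.map i.op s) = X.presheaf.map i.op (ιf ι V s) := by
  unfold ιf; rw [app_map]; rfl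

theorem ιf_sum {κ : Type*} (V : X.Opens) (S : Finset κ) (f : κ → Γ(G, V)) :
    ιf ι V (∑ a ∈ S, f a) = ∑ a ∈ S, ιf ι V (f a) := by
  classical
  induction S using Finset.induction_on with
  | empty => simp [ιf_zero]
  | insert a S ha ih => rw [Finset.sum_insert ha, Finset.sum_insert ha, ιf_add, ih]

theorem ιf_injective [Mono ι] (V : X.Opens) : Function.Injective (ιf ι V) := by
  intro s s' h
  exact app_injective_of_mono ι V h

/-- the ideal of functions on `U₁` which, near `ξ`, come from sections of `G` -/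
def J (U₁ : X.Opens) (ξ : X) (hξ : ξ ∈ U₁) : Ideal Γ(X, U₁) where
  carrier := {a | ∃ (V : X.Opens) (hV : V ≤ U₁), ξ ∈ V ∧ ∃ s : Γ(G, V),
      ιf ι V s = X.presheaf.map (homOfLE hV).op a}
  zero_mem' := ⟨U₁, le_rfl, hξ, 0, by rw [ιf_zero, map_zero]⟩
  add_mem' := by
    rintro a a' ⟨V, hV, hξV, s, hs⟩ ⟨V', hV', hξV', s', hs'⟩
    refine ⟨V ⊓ V', inf_le_left.trans hV, ⟨hξV, hξV'⟩,
      G.presheaf.map (homOfLE (inf_le_left : V ⊓ V' ≤ V)).op s +
        G.presheaf.map (homOfLE (inf_le_right : V ⊓ V' ≤ V')).op s', ?_⟩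
    rw [ιf_add, ιf_map, ιf_map, hs, hs', map_add, ← X.presheaf.map_comp_apply,
      ← X.presheaf.map_comp_apply]
    rfl
  smul_mem' := by
    rintro c a ⟨V, hV, hξV, s, hs⟩
    refine ⟨V, hV, hξV, X.presheaf.map (homOfLE hV).op c • s, ?_⟩
    rw [ιf_smul, hs, smul_eq_mul, map_mul]

theorem local_claim [IsNoetherian X] [Mono ι] (ξ : X) :
    ∃ U : Set X, IsOpen U ∧ ξ ∈ U ∧ P G (U ∩ closure {ξ}) := by
  classical
  obtain ⟨_, ⟨U₁, hU₁, rfl⟩, hξ, -⟩ :=
    X.isBasis_affineOpens.exists_subset_of_mem_open (Set.mem_univ ξ) isOpen_univ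
  haveI : IsNoetherianRing Γ(X, U₁) := IsLocallyNoetherian.component_noetherian ⟨U₁, hU₁⟩
  obtain ⟨S, hS⟩ := (isNoetherianRing_iff_ideal_fg _).1 inferInstance (J ι U₁ ξ hξ)
  have hw : ∀ a ∈ S, ∃ (V : X.Opens) (hV : V ≤ U₁), ξ ∈ V ∧ ∃ s : Γ(G, V),
      ιf ι V s = X.presheaf.map (homOfLE hV).op a := by
    intro a ha
    have : a ∈ J ι U₁ ξ hξ := hS ▸ Ideal.subset_span ha
    exact this
  choose! V hV hξV s hs using hw
  let U'' : X.Opens := ⟨⋂ a ∈ S, (V a : Set X), isOpen_biInter_finset (fun a _ => (V a).isOpen)⟩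
  let U' : X.Opens := U₁ ⊓ U''
  have hU'V : ∀ a ∈ S, U' ≤ V a := fun a ha y hy => Set.mem_iInter₂.1 hy.2 a ha
  refine ⟨U', U'.isOpen, ⟨hξ, Set.mem_iInter₂.2 hξV⟩, S.toList.map (fun a => ⟨V a, s a⟩), ?_⟩
  rintro y ⟨hyU', hycl⟩
  unfold Gen
  rw [eq_top_iff]
  rintro t -
  obtain ⟨W, hyW, t', rfl⟩ := G.presheaf.exists_germ_eq t
  have hyU₁ : y ∈ U₁ := hyU'.1
  obtain ⟨g, hgW, hyg⟩ := hU₁.exists_basicOpen_le (V := W ⊓ U') ⟨y, ⟨hyW, hyU'⟩⟩ hyU₁
  have hξg : ξ ∈ X.basicOpen g :=
    (specializes_iff_mem_closure.2 hycl).mem_open (X.basicOpen g).isOpen hyg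
  let t'' : Γ(G, X.basicOpen g) := G.presheaf.map (homOfLE (hgW.trans inf_le_left)).op t'
  have ht'' : G.presheaf.germ (X.basicOpen g) y hyg t'' = G.presheaf.germ W y hyW t' :=
    TopCat.Presheaf.germ_res_apply G.presheaf _ y hyg t'
  haveI := hU₁.isLocalization_basicOpen g
  obtain ⟨⟨b₀, ⟨_, n, rfl⟩⟩, hb⟩ := IsLocalization.surj (Submonoid.powers g) (ιf ι (X.basicOpen g) t'')
  have hb₀J : b₀ ∈ J ι U₁ ξ hξ :=
    ⟨X.basicOpen g, X.basicOpen_le g, hξg,
      X.presheaf.map (homOfLE (X.basicOpen_le g)).op (g ^ n) • t'', by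
        rw [ιf_smul, mul_comm]; exact hb⟩
  rw [← hS] at hb₀J
  obtain ⟨c, -, hc⟩ := Submodule.mem_span_finset.1 hb₀J
  have hDV : ∀ a ∈ S, X.basicOpen g ≤ V a := fun a ha => (hgW.trans inf_le_right).trans (hU'V a ha)
  let r : Γ(X, U₁) → Γ(G, X.basicOpen g) := fun a =>
    if h : a ∈ S then G.presheaf.map (homOfLE (hDV a h)).op (s a) else 0
  have hr : ∀ a ∈ S, ιf ι (X.basicOpen g) (r a) =
      X.presheaf.map (homOfLE (X.basicOpen_le g)).op a := by
    intro a ha
    simp only [r, dif_pos ha]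
    rw [ιf_map, hs a ha, ← X.presheaf.map_comp_apply]
    rfl
  have hgerm : ∀ a ∈ S, G.presheaf.germ (X.basicOpen g) y hyg (r a) ∈ germs G (S.toList.map (fun a => ⟨V a, s a⟩)) y := by
    intro a ha
    refine ⟨⟨V a, s a⟩, List.mem_map.2 ⟨a, Finset.mem_toList.2 ha, rfl⟩, hDV a ha hyg, ?_⟩
    simp only [r, dif_pos ha]
    exact TopCat.Presheaf.germ_res_apply G.presheaf _ y hyg (s a)
  have hkey : X.presheaf.map (homOfLE (X.basicOpen_le g)).op (g ^ n) • t'' =
      ∑ a ∈ S, X.presheaf.map (homOfLE (X.basicOpen_le g)).op (c a) • r a := by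
    apply ιf_injective ι
    rw [ιf_smul, ιf_sum, mul_comm]
    refine hb.trans ?_
    rw [← hc]
    change X.presheaf.map (homOfLE (X.basicOpen_le g)).op (∑ a ∈ S, c a • a) = _
    rw [map_sum]
    refine Finset.sum_congr rfl (fun a ha => ?_)
    rw [ιf_smul, hr a ha, smul_eq_mul, map_mul]
  have hmem : G.presheaf.germ (X.basicOpen g) y hyg
      (X.presheaf.map (homOfLE (X.basicOpen_le g)).op (g ^ n) • t'') ∈
      Submodule.span (X.presheaf.stalk y) (germs G (S.toList.map (fun a => ⟨V a, s a⟩)) y) := by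
    rw [hkey, map_sum]
    refine Submodule.sum_mem _ (fun a ha => ?_)
    rw [Groth.Agent.Lib.Helper2.QCoh.germ_smul]
    exact Submodule.smul_mem _ _ (Submodule.subset_span (hgerm a ha))
  rw [Groth.Agent.Lib.Helper2.QCoh.germ_smul, ht''] at hmem
  refine (Submodule.smul_mem_iff_of_isUnit _ ?_).1 hmem
  rw [TopCat.Presheaf.germ_res_apply, map_pow]
  exact ((X.mem_basicOpen g y hyU₁).1 hyg).pow n

theorem exists_list_gen [IsNoetherian X] [Mono ι] : P G Set.univ :=
  noeth_induction (P G) (P_empty G) (P_mono G) (P_union G) (local_claim ι)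

theorem exists_fin_gen [IsNoetherian X] [Mono ι] :
    ∃ (m : ℕ) (U : Fin m → X.Opens) (k : Fin m → ℕ)
      (s : (i : Fin m) → Fin (k i) → (G.presheaf.obj (Opposite.op (U i)) : Type u)),
      ∀ x : X, Submodule.span (X.presheaf.stalk x)
          (Set.range (fun p : (Σ i : {i : Fin m // x ∈ U i}, Fin (k i.1)) =>
            (G.presheaf.germ (U p.1.1) x p.1.2) (s p.1.1 p.2))) = ⊤ := by
  obtain ⟨T, hT⟩ := exists_list_gen ι
  refine ⟨T.length, fun i => (T.get i).1, fun _ => 1, fun i _ => (T.get i).2, ?_⟩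
  intro x
  have h := hT x (Set.mem_univ x)
  unfold Gen at h
  refine top_le_iff.1 (h ▸ Submodule.span_mono ?_)
  rintro t ⟨p, hp, hx, rfl⟩
  obtain ⟨i, rfl⟩ := List.mem_iff_get.1 hp
  exact ⟨⟨⟨i, hx⟩, 0⟩, rfl⟩

end Local

end Groth.Agent.Lib.T2H5.IdealGen
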