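import Mathlib
import Groth.Agent.Lib.T2H5IdealGen
import Groth.Agent.Lib.Helper23Serre

/-!
# Ascending chains of subsheaves of `O_X` on a Noetherian scheme stabilize (helper5, team 2)

* `IChain X`: an ascending chain of "presheaves of ideals" `I n W ⊆ Γ(X, W)`;
* `IChain.Q_univ`: on a Noetherian scheme there is `N` such that for `n ≥ N` every section of `I n` is locally
  a section of `I N`;
* `chain_stabilizes`: an ascending chain of sub-`O_X`-modules `G n ↪ O_X` (with transition maps) is eventually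
  constant: the transition maps are isomorphisms.
-/
set_option autoImplicit false
set_option linter.style.haveILetI false
set_option linter.unusedSectionVars false
universe u
open CategoryTheory Limits AlgebraicGeometry TopologicalSpace Opposite

namespace Groth.Agent.Lib.T2H5.IdealChain

open Groth.Agent.Lib.Helper2.ModExact Groth.Agent.Lib.Helper23.GenLocus Groth.Agent.Lib.T2H5.IdealGen

/-- an ascending chain of presheaves of ideals of `O_X` -/
structure IChain (X : Scheme.{u}) where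
  /-- the ideals -/
  I : ℕ → (W : X.Opens) → Ideal Γ(X, W)
  res : ∀ (n : ℕ) {W W' : X.Opens} (h : W' ≤ W) (a : Γ(X, W)), a ∈ I n W →
    X.presheaf.map (homOfLE h).op a ∈ I n W'
  mono : ∀ {n m : ℕ}, n ≤ m → ∀ W : X.Opens, I n W ≤ I m W

variable {X : Scheme.{u}} (C : IChain X)

namespace IChain

/-- the chain is locally stationary from `N` on at all points of `S` -/
def Q (S : Set X) : Prop :=
  ∃ N : ℕ, ∀ n : ℕ, N ≤ n → ∀ x ∈ S, ∀ (W : X.Opens), x ∈ W → ∀ a ∈ C.I n W,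
    ∃ (W' : X.Opens) (h : W' ≤ W), x ∈ W' ∧ X.presheaf.map (homOfLE h).op a ∈ C.I N W'

theorem Q_empty : C.Q ∅ := ⟨0, fun _ _ x hx => absurd hx (Set.notMem_empty x)⟩

theorem Q_mono (S S' : Set X) (h : S' ⊆ S) (hS : C.Q S) : C.Q S' := by
  obtain ⟨N, hN⟩ := hS
  exact ⟨N, fun n hn x hx => hN n hn x (h hx)⟩

theorem Q_union (S S' : Set X) (hS : C.Q S) (hS' : C.Q S') : C.Q (S ∪ S') := by
  obtain ⟨N, hN⟩ := hS
  obtain ⟨N', hN'⟩ := hS'
  refine ⟨max N N', ?_⟩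
  rintro n hn x (hx | hx) W hxW a ha
  · obtain ⟨W', h, hxW', hmem⟩ := hN n ((le_max_left _ _).trans hn) x hx W hxW a ha
    exact ⟨W', h, hxW', C.mono (le_max_left _ _) W' hmem⟩
  · obtain ⟨W', h, hxW', hmem⟩ := hN' n ((le_max_right _ _).trans hn) x hx W hxW a ha
    exact ⟨W', h, hxW', C.mono (le_max_right _ _) W' hmem⟩

/-- the ideal of functions on `U₁` which, near `ξ`, lie in `I n` -/
def J (U₁ : X.Opens) (ξ : X) (hξ : ξ ∈ U₁) (n : ℕ) : Ideal Γ(X, U₁) where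
  carrier := {a | ∃ (V : X.Opens) (hV : V ≤ U₁), ξ ∈ V ∧ X.presheaf.map (homOfLE hV).op a ∈ C.I n V}
  zero_mem' := ⟨U₁, le_rfl, hξ, by rw [map_zero]; exact (C.I n U₁).zero_mem⟩
  add_mem' := by
    rintro a a' ⟨V, hV, hξV, hs⟩ ⟨V', hV', hξV', hs'⟩
    refine ⟨V ⊓ V', inf_le_left.trans hV, ⟨hξV, hξV'⟩, ?_⟩
    rw [map_add]
    refine (C.I n (V ⊓ V')).add_mem ?_ ?_
    · have := C.res n (inf_le_left : V ⊓ V' ≤ V) _ hs
      rw [← X.presheaf.map_comp_apply] at this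
      exact this
    · have := C.res n (inf_le_right : V ⊓ V' ≤ V') _ hs'
      rw [← X.presheaf.map_comp_apply] at this
      exact this
  smul_mem' := by
    rintro c a ⟨V, hV, hξV, hs⟩
    refine ⟨V, hV, hξV, ?_⟩
    rw [smul_eq_mul, map_mul]
    exact (C.I n V).mul_mem_left _ hs

theorem J_mono (U₁ : X.Opens) (ξ : X) (hξ : ξ ∈ U₁) : Monotone (C.J U₁ ξ hξ) := by
  rintro n m hnm a ⟨V, hV, hξV, hs⟩
  exact ⟨V, hV, hξV, C.mono hnm V hs⟩

theorem local_claim [IsNoetherian X] (ξ : X) :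
    ∃ U : Set X, IsOpen U ∧ ξ ∈ U ∧ C.Q (U ∩ closure {ξ}) := by
  classical
  obtain ⟨_, ⟨U₁, hU₁, rfl⟩, hξ, -⟩ :=
    X.isBasis_affineOpens.exists_subset_of_mem_open (Set.mem_univ ξ) isOpen_univ
  haveI : IsNoetherianRing Γ(X, U₁) := IsLocallyNoetherian.component_noetherian ⟨U₁, hU₁⟩
  obtain ⟨N, hN⟩ := monotone_stabilizes_iff_noetherian.mpr
    (inferInstance : IsNoetherian Γ(X, U₁) Γ(X, U₁)) ⟨C.J U₁ ξ hξ, C.J_mono U₁ ξ hξ⟩
  obtain ⟨S, hS⟩ := (isNoetherianRing_iff_ideal_fg _).1 inferInstance (C.J U₁ ξ hξ N)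
  have hw : ∀ a ∈ S, ∃ (V : X.Opens) (hV : V ≤ U₁), ξ ∈ V ∧
      X.presheaf.map (homOfLE hV).op a ∈ C.I N V := by
    intro a ha
    have : a ∈ C.J U₁ ξ hξ N := hS ▸ Ideal.subset_span ha
    exact this
  choose! V hV hξV hs using hw
  let U'' : X.Opens := ⟨⋂ a ∈ S, (V a : Set X), isOpen_biInter_finset (fun a _ => (V a).isOpen)⟩
  let U' : X.Opens := U₁ ⊓ U''
  have hU'V : ∀ a ∈ S, U' ≤ V a := fun a ha y hy => Set.mem_iInter₂.1 hy.2 a ha
  refine ⟨U', U'.isOpen, ⟨hξ, Set.mem_iInter₂.2 hξV⟩, N, ?_⟩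
  rintro n hn y ⟨hyU', hycl⟩ W hyW a ha
  have hyU₁ : y ∈ U₁ := hyU'.1
  obtain ⟨g, hgW, hyg⟩ := hU₁.exists_basicOpen_le (V := W ⊓ U') ⟨y, ⟨hyW, hyU'⟩⟩ hyU₁
  have hξg : ξ ∈ X.basicOpen g :=
    (specializes_iff_mem_closure.2 hycl).mem_open (X.basicOpen g).isOpen hyg
  refine ⟨X.basicOpen g, hgW.trans inf_le_left, hyg, ?_⟩
  have hb := C.res n (hgW.trans inf_le_left) a ha
  set b := X.presheaf.map (homOfLE (hgW.trans inf_le_left)).op a with hbdef
  haveI := hU₁.isLocalization_basicOpen g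
  obtain ⟨⟨b₀, ⟨_, m, rfl⟩⟩, hb₀⟩ := IsLocalization.surj (Submonoid.powers g) b
  have hb₀' : b * X.presheaf.map (homOfLE (X.basicOpen_le g)).op (g ^ m) =
      X.presheaf.map (homOfLE (X.basicOpen_le g)).op b₀ := hb₀
  have hb₀J : b₀ ∈ C.J U₁ ξ hξ n :=
    ⟨X.basicOpen g, X.basicOpen_le g, hξg, by
      rw [← hb₀']; exact (C.I n _).mul_mem_right _ hb⟩
  have hJeq : C.J U₁ ξ hξ N = C.J U₁ ξ hξ n := hN n hn
  rw [← hJeq, ← hS] at hb₀J
  obtain ⟨c, -, hc⟩ := Submodule.mem_span_finset.1 hb₀J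
  have hDV : ∀ a ∈ S, X.basicOpen g ≤ V a := fun a ha => (hgW.trans inf_le_right).trans (hU'V a ha)
  have hmemN : X.presheaf.map (homOfLE (X.basicOpen_le g)).op b₀ ∈ C.I N (X.basicOpen g) := by
    rw [← hc, map_sum]
    refine (C.I N _).sum_mem (fun a' ha' => ?_)
    rw [smul_eq_mul, map_mul]
    refine (C.I N _).mul_mem_left _ ?_
    have := C.res N (hDV a' ha') _ (hs a' ha')
    rw [← X.presheaf.map_comp_apply] at this
    exact this
  rw [← hb₀', map_pow] at hmemN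
  exact (Ideal.mul_unit_mem_iff_mem _ ((RingedSpace.isUnit_res_basicOpen _ g).pow m)).1 hmemN

theorem Q_univ [IsNoetherian X] : C.Q Set.univ :=
  noeth_induction C.Q C.Q_empty C.Q_mono C.Q_union C.local_claim

end IChain

section Modules

variable (G : ℕ → X.Modules) (ι : ∀ n, G n ⟶ Coh.structureModule X)

/-- the image presheaf of ideals of `ι n` -/
def imI (n : ℕ) (W : X.Opens) : Ideal Γ(X, W) where
  carrier := {a | ∃ s : Γ(G n, W), ιf (ι n) W s = a}
  zero_mem' := ⟨0, ιf_zero _ _⟩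
  add_mem' := by
    rintro a a' ⟨s, rfl⟩ ⟨s', rfl⟩
    exact ⟨s + s', ιf_add _ _ _ _⟩
  smul_mem' := by
    rintro c a ⟨s, rfl⟩
    exact ⟨c • s, ιf_smul _ _ _ _⟩

variable (f : ∀ n m : ℕ, n ≤ m → (G n ⟶ G m)) (hf : ∀ (n m : ℕ) (h : n ≤ m), f n m h ≫ ι m = ι n)

include hf in
theorem ιf_f (n m : ℕ) (h : n ≤ m) (W : X.Opens) (s : Γ(G n, W)) :
    ιf (ι m) W ((f n m h).app W s) = ιf (ι n) W s := by
  unfold ιf
  have h1 : (f n m h ≫ ι m).app W s = (ι n).app W s := by rw [hf]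
  exact congrArg (ofS W) h1

/-- the chain of image ideals -/
def imChain : IChain X where
  I := imI G ι
  res := by
    rintro n W W' h a ⟨s, rfl⟩
    exact ⟨(G n).presheaf.map (homOfLE h).op s, ιf_map _ _ _⟩
  mono := by
    rintro n m hnm W a ⟨s, rfl⟩
    exact ⟨(f n m hnm).app W s, ιf_f G ι f hf n m hnm W s⟩

include hf in
/-- An ascending chain of submodules of the structure sheaf of a Noetherian scheme is stationary. -/
theorem chain_stabilizes [IsNoetherian X] [∀ n, Mono (ι n)] :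
    ∃ N : ℕ, ∀ (n : ℕ) (h : N ≤ n), IsIso (f N n h) := by
  obtain ⟨N, hN⟩ := (imChain G ι f hf).Q_univ
  refine ⟨N, fun n h => ?_⟩
  haveI : Mono (f N n h) := by
    haveI : Mono (f N n h ≫ ι n) := by rw [hf]; infer_instance
    exact mono_of_mono (f N n h) (ι n)
  haveI : Epi (f N n h) := by
    apply Groth.Agent.Lib.Helper23.Serre.epi_of_locally_surjective
    intro W t x hx
    obtain ⟨W', hle, hxW', s, hs⟩ := hN n h x (Set.mem_univ x) W hx (ιf (ι n) W t) ⟨t, rfl⟩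
    refine ⟨W', hle, hxW', s, ?_⟩
    apply ιf_injective (ι n)
    rw [ιf_f G ι f hf, ιf_map]
    exact hs
  exact isIso_of_mono_of_epi _

end Modules

end Groth.Agent.Lib.T2H5.IdealChain
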