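import Mathlib
import Groth.Prelude.Def_CxOX
import Groth.Agent.Lib.T2H5ExtZeroSch
import Groth.Agent.Lib.T2H5AdjSub
import Groth.Agent.Lib.T2H5IdealChain

/-!
# `j_! O_U` is a Noetherian object for `U` a Noetherian open subscheme (helper5, team 2)

* `noeth_ι`: ascending chains of subobjects of `j_! O_V` (`V` an open of `X` which is a Noetherian scheme) are
  stationary;
* `extZeroIso`, `extZeroUnitIso`: `j_! ≅ e_* ⋙ j_{V!}` for an open immersion `j` with image `V`;
* `noeth`: the same for an arbitrary open immersion `j : U ⟶ X` from a Noetherian scheme.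
-/
set_option autoImplicit false
set_option linter.style.haveILetI false
set_option linter.unusedSectionVars false
universe u
open CategoryTheory Limits AlgebraicGeometry TopologicalSpace Opposite

namespace Groth.Agent.Lib.T2H5.ExtZeroNoeth

open Groth.Agent.Lib.T2H5.ExtZeroSch Groth.Agent.Lib.T2H5.AdjSub Groth.Agent.Lib.T2H5.IdealChain

variable {X : Scheme.{u}}

theorem noeth_ι (V : X.Opens) [IsNoetherian (V : Scheme.{u})]
    (c : ℕ →o Subobject (CxOX.extZeroUnit V.ι)) :
    ∃ n : ℕ, ∀ m : ℕ, n ≤ m → c n = c m := by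
  haveI := preservesFiniteLimits_extZero V
  let L := CxOX.extZero V.ι
  let R := Scheme.Modules.restrictFunctor V.ι
  let adj : L ⊣ R := CxOX.extZeroAdj V.ι
  have hε : ∀ M : X.Modules, Mono (adj.counit.app M) := mono_counit V
  let P : (V : Scheme.{u}).Modules := Coh.structureModule (V : Scheme.{u})
  let φ : R.obj (Coh.structureModule X) ≅ P := Scheme.Modules.restrictUnitIso V.ι
  haveI : Mono (adj.counit.app (Coh.structureModule X)) := hε _
  let u : R.obj (L.obj P) ⟶ P := R.map (L.map φ.inv ≫ adj.counit.app (Coh.structureModule X)) ≫ φ.hom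
  haveI : Mono u := by
    haveI : Mono (L.map φ.inv ≫ adj.counit.app (Coh.structureModule X)) := mono_comp _ _
    exact mono_comp _ _
  let A : ℕ → X.Modules := fun n => (c n : X.Modules)
  let a : ∀ n, A n ⟶ L.obj P := fun n => (c n).arrow
  let i : ∀ n m : ℕ, n ≤ m → (A n ⟶ A m) := fun n m h => Subobject.ofLE (c n) (c m) (c.monotone h)
  have hi : ∀ n m (h : n ≤ m), i n m h ≫ a m = a n := fun n m h => Subobject.ofLE_arrow _
  obtain ⟨N, hN⟩ := chain_stabilizes (fun n => R.obj (A n)) (fun n => R.map (a n) ≫ u)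
    (fun n m h => R.map (i n m h)) (by
      intro n m h
      rw [← Category.assoc, ← R.map_comp, hi n m h])
  refine ⟨N, fun n h => ?_⟩
  haveI : IsIso (R.map (i N n h)) := hN n h
  haveI : IsIso (i N n h) := isIso_of_isIso_map adj hε (a N) (a n) (i N n h)
  refine le_antisymm (c.monotone h) (Subobject.le_of_comm (inv (i N n h)) ?_)
  rw [IsIso.inv_comp_eq]
  exact (hi N n h).symm

section General

/-- restriction of modules along an isomorphism of schemes is an equivalence -/
noncomputable def restrEquiv {Y Z : Scheme.{u}} (e : Y ≅ Z) : Z.Modules ≌ Y.Modules :=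
  CategoryTheory.Equivalence.mk (Scheme.Modules.restrictFunctor e.hom) (Scheme.Modules.restrictFunctor e.inv)
    (Scheme.Modules.restrictFunctorId.symm ≪≫
      Scheme.Modules.restrictFunctorCongr (e.inv_hom_id).symm ≪≫
      Scheme.Modules.restrictFunctorComp e.inv e.hom)
    ((Scheme.Modules.restrictFunctorComp e.hom e.inv).symm ≪≫
      Scheme.Modules.restrictFunctorCongr e.hom_inv_id ≪≫ Scheme.Modules.restrictFunctorId)

/-- the adjunction `e_* ⊣ e^*` (both restrictions) for an isomorphism `e` -/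
noncomputable def adjE {Y Z : Scheme.{u}} (e : Y ≅ Z) :
    Scheme.Modules.restrictFunctor e.inv ⊣ Scheme.Modules.restrictFunctor e.hom :=
  (restrEquiv e).symm.toAdjunction

variable {U : Scheme.{u}} (j : U ⟶ X) [IsOpenImmersion j]

/-- the adjunction `e_* ⋙ j_{V!} ⊣ j^*` for `V` the image of `j` and `e : U ≅ V` -/
noncomputable def adjRange :
    Scheme.Modules.restrictFunctor j.isoOpensRange.inv ⋙ CxOX.extZero j.opensRange.ι ⊣
      Scheme.Modules.restrictFunctor j :=
  ((adjE j.isoOpensRange).comp (CxOX.extZeroAdj j.opensRange.ι)).ofNatIsoRight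
    ((Scheme.Modules.restrictFunctorComp j.isoOpensRange.hom j.opensRange.ι).symm ≪≫
      Scheme.Modules.restrictFunctorCongr j.isoOpensRange_hom_ι)

/-- `j_! ≅ e_* ⋙ j_{V!}` -/
noncomputable def extZeroIso :
    CxOX.extZero j ≅
      Scheme.Modules.restrictFunctor j.isoOpensRange.inv ⋙ CxOX.extZero j.opensRange.ι :=
  (CxOX.extZeroAdj j).leftAdjointUniq (adjRange j)

/-- `j_! O_U ≅ j_{V!} O_V` -/
noncomputable def extZeroUnitIso : CxOX.extZeroUnit j ≅ CxOX.extZeroUnit j.opensRange.ι :=
  (extZeroIso j).app (Coh.structureModule U) ≪≫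
    (CxOX.extZero j.opensRange.ι).mapIso (Scheme.Modules.restrictUnitIso j.isoOpensRange.inv)

theorem noeth [IsNoetherian U] (c : ℕ →o Subobject (CxOX.extZeroUnit j)) :
    ∃ n : ℕ, ∀ m : ℕ, n ≤ m → c n = c m := by
  haveI : IsLocallyNoetherian (j.opensRange : Scheme.{u}) :=
    isLocallyNoetherian_of_isOpenImmersion j.isoOpensRange.inv
  haveI : CompactSpace (j.opensRange : Scheme.{u}) :=
    j.isoOpensRange.hom.homeomorph.compactSpace
  haveI : IsNoetherian (j.opensRange : Scheme.{u}) := {}
  let θ := Subobject.mapIsoToOrderIso (extZeroUnitIso j)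
  obtain ⟨n, hn⟩ := noeth_ι j.opensRange ⟨fun k => θ (c k), fun k l h => θ.monotone (c.monotone h)⟩
  exact ⟨n, fun m h => θ.injective (hn m h)⟩

end General

end Groth.Agent.Lib.T2H5.ExtZeroNoeth
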