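import Mathlib
import Groth.Agent.Lib.T2H5FPExtend2
set_option backward.isDefEq.respectTransparency.types false

/-!
# T2H5FPColim: a finite type quasi-coherent module on a qcqs scheme is a directed colimit of finitely presented
modules with surjective transition maps (helper5)

Namespace `Groth.Agent.Lib.T2H5.FPColim`.
-/

set_option autoImplicit false
set_option linter.style.haveILetI false
set_option linter.unusedSectionVars false
universe u
open CategoryTheory CategoryTheory.Limits AlgebraicGeometry TopologicalSpace Opposite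

namespace Groth.Agent.Lib.T2H5.FPColim

open Groth.Agent.Lib.Helper2.FPAff Groth.Agent.Helper18Strict
open Groth.Agent.Lib.Helper23.QCohLocal Groth.Agent.Lib.Helper23.FinType
open Groth.Agent.Lib.Helper23.Extend Groth.Agent.Lib.T2H2.FPExt
open Groth.Agent.Lib.Helper6 Groth.Agent.Lib.T2H5.FPExtend

variable {X : Scheme.{u}}

/-- a morphism of modules vanishing on the sections over all affine opens is zero -/
theorem hom_eq_zero_of_affine {A B : X.Modules} (g : A ⟶ B)
    (h : ∀ (U : X.affineOpens) (x : Γ(A, U.1)), g.app U.1 x = 0) : g = 0 := by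
  refine Scheme.Modules.hom_ext _ _ fun W => ?_
  ext x
  change g.app W x = 0
  apply Groth.Agent.Lib.T2H5.GammaZSec.eq_zero_of_locally B W
  intro y hy
  obtain ⟨D, hD, hyD, hDW⟩ := (Opens.isBasis_iff_nbhd.1 X.isBasis_affineOpens) hy
  refine ⟨D, hDW, hyD, ?_⟩
  have h1 := Groth.Agent.Lib.Helper2.ModExact.app_map g (homOfLE hDW) x
  change res B hDW (g.app W x) = 0
  have h2 : res B hDW (g.app W x) = g.app D (A.presheaf.map (homOfLE hDW).op x) := h1.symm
  rw [h2]
  exact h ⟨D, hD⟩ _

/-- the cokernel of a monomorphism from a finite type quasi-coherent module to a finitely presented module is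
finitely presented -/
theorem isFP_cokernel_of_mono {K' P : X.Modules} [K'.IsQuasicoherent]
    (hK' : CohB1.IsFT K') (hP : CohB1.IsFP P) (f : K' ⟶ P) [hfm : Mono f] : CohB1.IsFP (cokernel f) := by
  haveI : SheafOfModules.IsFiniteType (R := X.ringCatSheaf) K' := hK'
  haveI : SheafOfModules.IsFinitePresentation (R := X.ringCatSheaf) P := hP
  haveI : P.IsQuasicoherent := isQCoh_of_isFP P hP
  haveI : (cokernel f).IsQuasicoherent := isQuasicoherent_cokernel f
  let π : P ⟶ cokernel f := cokernel.π f
  let S : ShortComplex X.Modules := ShortComplex.mk f π (cokernel.condition f)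
  have hS : S.ShortExact :=
    { exact := ShortComplex.exact_cokernel f
      mono_f := hfm
      epi_g := inferInstanceAs (Epi (cokernel.π f)) }
  refine isFP_of_fpOn_top (cokernel f) ?_
  intro W hW _
  haveI : Module.FinitePresentation Γ(X, W) Γ(P, W) := finitePresentation_sections P hW
  haveI : Module.Finite Γ(X, W) Γ(K', W) := finite_of_isFiniteType K' hW
  have hsurj : Function.Surjective (appₗ π W) := surjective_app_of_epi π hW
  refine Module.finitePresentation_of_surjective (appₗ π W) hsurj ?_
  have hker : LinearMap.ker (appₗ π W) = LinearMap.range (appₗ f W) := by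
    ext x
    constructor
    · intro hx
      obtain ⟨t, ht⟩ := Groth.Agent.Lib.Helper2.ModExact.exists_app_eq_of_shortExact S hS W x hx
      exact ⟨t, ht⟩
    · rintro ⟨t, rfl⟩
      change π.app W (f.app W t) = 0
      rw [← comp_app_apply, cokernel.condition]; rfl
  rw [hker, LinearMap.range_eq_map]
  exact Submodule.FG.map _ Module.Finite.fg_top

section Index
variable (K : X.Modules)

/-- families of submodules of the sections over affine opens -/
abbrev Fam : Type u := ∀ U : X.affineOpens, Submodule Γ(X, U.1) Γ(K, U.1)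

variable {K}

/-- the family of images of a morphism -/
noncomputable def famOf {K' : X.Modules} (m : K' ⟶ K) : Fam K := fun U => LinearMap.range (appL m U.1)

theorem mem_famOf {K' : X.Modules} (m : K' ⟶ K) (U : X.affineOpens) (x : Γ(K, U.1)) :
    x ∈ famOf m U ↔ ∃ y : Γ(K', U.1), m.app U.1 y = x := Iff.rfl

variable (K)

/-- the family is realized by a finite type quasi-coherent submodule -/
def IsReal (N : Fam K) : Prop :=
  ∃ (K' : X.Modules) (m : K' ⟶ K), Mono m ∧ K'.IsQuasicoherent ∧ CohB1.IsFT K' ∧ famOf m = N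

/-- the index set: families realized by finite type quasi-coherent submodules -/
def J : Type u := {N : Fam K // IsReal K N}

noncomputable instance : PartialOrder (J K) := Subtype.partialOrder _

variable {K}

/-- the chosen submodule -/
noncomputable def obj (j : J K) : X.Modules := j.2.choose

/-- the chosen inclusion -/
noncomputable def inc (j : J K) : obj j ⟶ K := j.2.choose_spec.choose

instance mono_inc (j : J K) : Mono (inc j) := j.2.choose_spec.choose_spec.1

instance isQuasicoherent_obj (j : J K) : (obj j).IsQuasicoherent := j.2.choose_spec.choose_spec.2.1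

theorem isFT_obj (j : J K) : CohB1.IsFT (obj j) := j.2.choose_spec.choose_spec.2.2.1

theorem famOf_inc (j : J K) : famOf (inc j) = j.1 := j.2.choose_spec.choose_spec.2.2.2

/-- the index attached to a finite type quasi-coherent submodule -/
noncomputable def ofSub {K' : X.Modules} (m : K' ⟶ K) [Mono m] [K'.IsQuasicoherent] (h : CohB1.IsFT K') : J K :=
  ⟨famOf m, K', m, inferInstance, inferInstance, h, rfl⟩

theorem le_iff (j j' : J K) : j ≤ j' ↔ ∀ U, j.1 U ≤ j'.1 U := Iff.rfl

theorem exists_of_le {j j' : J K} (h : j ≤ j') (U : X.affineOpens) (x : Γ(obj j, U.1)) :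
    ∃ y : Γ(obj j', U.1), (inc j').app U.1 y = (inc j).app U.1 x := by
  have h1 : (inc j).app U.1 x ∈ famOf (inc j) U := ⟨x, rfl⟩
  rw [famOf_inc] at h1
  have h2 := h U h1
  rw [← famOf_inc j'] at h2
  exact h2

theorem isDirected [K.IsQuasicoherent] : IsDirected (J K) (· ≤ ·) := by
  refine ⟨fun j j' => ?_⟩
  haveI : SheafOfModules.IsFiniteType (R := X.ringCatSheaf) (obj j) := isFT_obj j
  haveI : SheafOfModules.IsFiniteType (R := X.ringCatSheaf) (obj j') := isFT_obj j'
  obtain ⟨C, c, ia, ib, hc, hCq, hCf, ha, hb⟩ :=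
    Groth.Agent.Lib.Helper23.FTsub.exists_sup_sub K (obj j) (obj j') (inc j) (inc j')
  haveI := hc
  haveI := hCq
  refine ⟨ofSub c hCf, ?_, ?_⟩
  · intro U x hx
    rw [← famOf_inc j] at hx
    obtain ⟨y, rfl⟩ := hx
    refine ⟨ia.app U.1 y, ?_⟩
    change c.app U.1 (ia.app U.1 y) = (inc j).app U.1 y
    rw [← comp_app_apply, ha]
  · intro U x hx
    rw [← famOf_inc j'] at hx
    obtain ⟨y, rfl⟩ := hx
    refine ⟨ib.app U.1 y, ?_⟩
    change c.app U.1 (ib.app U.1 y) = (inc j').app U.1 y
    rw [← comp_app_apply, hb]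

theorem exists_mem [CompactSpace X] [QuasiSeparatedSpace X] [K.IsQuasicoherent] (U : X.affineOpens)
    (x : Γ(K, U.1)) : ∃ (j : J K) (y : Γ(obj j, U.1)), (inc j).app U.1 y = x := by
  obtain ⟨G, i, hi, hq, hft, g, hg⟩ := Groth.Agent.S9819.result K U x
  haveI := hi
  haveI : G.IsQuasicoherent := hq
  have h1 : x ∈ famOf (inc (ofSub i hft)) U := by
    rw [famOf_inc]
    exact ⟨g, hg⟩
  obtain ⟨y, hy⟩ := h1
  exact ⟨ofSub i hft, y, hy⟩

theorem nonempty_J [CompactSpace X] [QuasiSeparatedSpace X] [K.IsQuasicoherent] : Nonempty (J K) := by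
  obtain ⟨j, -, -⟩ := exists_mem (K := K) ⟨⊥, isAffineOpen_bot X⟩ 0
  exact ⟨j⟩

end Index

section Diagram
variable {P F : X.Modules} (p : P ⟶ F)

/-- the inclusion of the chosen submodule of the kernel into `P` -/
noncomputable def fJ (j : J (kernel p)) : obj j ⟶ P := inc j ≫ kernel.ι p

instance mono_fJ (j : J (kernel p)) : Mono (fJ p j) := mono_comp _ _

/-- the quotients of `P` -/
noncomputable def Dobj (j : J (kernel p)) : X.Modules := cokernel (fJ p j)

/-- the projections -/
noncomputable def πJ (j : J (kernel p)) : P ⟶ Dobj p j := cokernel.π (fJ p j)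

instance epi_πJ (j : J (kernel p)) : Epi (πJ p j) := inferInstanceAs (Epi (cokernel.π (fJ p j)))

theorem fJ_πJ (j : J (kernel p)) : fJ p j ≫ πJ p j = 0 := cokernel.condition _

theorem fJ_πJ_of_le {j j' : J (kernel p)} (h : j ≤ j') : fJ p j ≫ πJ p j' = 0 := by
  apply hom_eq_zero_of_affine
  intro U x
  obtain ⟨y, hy⟩ := exists_of_le h U x
  have h1 : (fJ p j).app U.1 x = (fJ p j').app U.1 y := by
    rw [fJ, fJ, comp_app_apply, comp_app_apply, hy]
  rw [comp_app_apply, h1, ← comp_app_apply, fJ_πJ]
  rfl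

/-- the transition maps -/
noncomputable def Dmap {j j' : J (kernel p)} (h : j ≤ j') : Dobj p j ⟶ Dobj p j' :=
  cokernel.desc (fJ p j) (πJ p j') (fJ_πJ_of_le p h)

theorem πJ_Dmap {j j' : J (kernel p)} (h : j ≤ j') : πJ p j ≫ Dmap p h = πJ p j' :=
  cokernel.π_desc _ _ _

/-- the diagram of quotients -/
noncomputable def D : J (kernel p) ⥤ X.Modules where
  obj := Dobj p
  map {j j'} h := Dmap p (leOfHom h)
  map_id j := by
    apply (cancel_epi (πJ p j)).1
    rw [πJ_Dmap, Category.comp_id]
  map_comp {j j' j''} h h' := by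
    apply (cancel_epi (πJ p j)).1
    rw [πJ_Dmap, ← Category.assoc, πJ_Dmap, πJ_Dmap]

/-- the maps to `F` -/
noncomputable def toF (j : J (kernel p)) : Dobj p j ⟶ F :=
  cokernel.desc (fJ p j) p (by rw [fJ, Category.assoc, kernel.condition, comp_zero])

theorem πJ_toF (j : J (kernel p)) : πJ p j ≫ toF p j = p := cokernel.π_desc _ _ _

/-- the cocone -/
noncomputable def ιNat : D p ⟶ (Functor.const (J (kernel p))).obj F where
  app j := toF p j
  naturality j j' h := by
    apply (cancel_epi (πJ p j)).1
    simp only [Functor.const_obj_obj, Functor.const_obj_map, Category.comp_id]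
    change πJ p j ≫ Dmap p (leOfHom h) ≫ toF p j' = πJ p j ≫ toF p j
    rw [← Category.assoc, πJ_Dmap, πJ_toF, πJ_toF]

/-- the projections, with codomain typed through the diagram -/
noncomputable def πD (j : J (kernel p)) : P ⟶ (D p).obj j := πJ p j

instance epi_πD (j : J (kernel p)) : Epi (πD p j) := epi_πJ p j

theorem πD_map {j j' : J (kernel p)} (h : j ⟶ j') : πD p j ≫ (D p).map h = πD p j' :=
  πJ_Dmap p (leOfHom h)

theorem fJ_πD (j : J (kernel p)) : fJ p j ≫ πD p j = 0 := fJ_πJ p j

theorem πD_ιNat (j : J (kernel p)) : πD p j ≫ (ιNat p).app j = p := πJ_toF p j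

theorem indep [(kernel p).IsQuasicoherent] (s : Cocone (D p)) (j j' : J (kernel p)) :
    πD p j ≫ s.ι.app j = πD p j' ≫ s.ι.app j' := by
  have key : ∀ (a b : J (kernel p)) (h : a ≤ b), πD p a ≫ s.ι.app a = πD p b ≫ s.ι.app b := by
    intro a b h
    have hw := s.w (homOfLE h)
    rw [← hw, ← Category.assoc, πD_map]
  obtain ⟨k, hk1, hk2⟩ := (isDirected (K := kernel p)).directed j j'
  rw [key j k hk1, key j' k hk2]

theorem kernel_ι_comp [CompactSpace X] [QuasiSeparatedSpace X] [(kernel p).IsQuasicoherent]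
    (s : Cocone (D p)) (j₀ : J (kernel p)) : kernel.ι p ≫ πD p j₀ ≫ s.ι.app j₀ = 0 := by
  apply hom_eq_zero_of_affine
  intro U x
  obtain ⟨j, y, hy⟩ := exists_mem (K := kernel p) U x
  rw [indep p s j₀ j, ← hy, ← comp_app_apply, ← Category.assoc, ← Category.assoc]
  have h1 : (inc j ≫ kernel.ι p) ≫ πD p j = 0 := fJ_πD p j
  rw [h1, zero_comp]
  rfl

theorem nonempty_isColimit [CompactSpace X] [QuasiSeparatedSpace X] [Epi p] [(kernel p).IsQuasicoherent] :
    Nonempty (IsColimit (Cocone.mk F (ιNat p))) := by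
  obtain ⟨j₀⟩ := nonempty_J (K := kernel p)
  refine ⟨{ desc := fun s => Abelian.epiDesc p (πD p j₀ ≫ s.ι.app j₀) (kernel_ι_comp p s j₀)
            fac := fun s j => ?_
            uniq := fun s m hm => ?_ }⟩
  · apply (cancel_epi (πD p j)).1
    change πD p j ≫ (ιNat p).app j ≫ _ = _
    rw [← Category.assoc, πD_ιNat, Abelian.comp_epiDesc]
    exact indep p s j₀ j
  · apply (cancel_epi p).1
    rw [Abelian.comp_epiDesc]
    have h1 := hm j₀
    change (ιNat p).app j₀ ≫ m = s.ι.app j₀ at h1
    rw [← h1, ← Category.assoc, πD_ιNat]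

end Diagram

/-- **a finite type quasi-coherent module on a qcqs scheme is a directed colimit of finitely presented modules with
surjective transition maps** -/
theorem main [CompactSpace X] [QuasiSeparatedSpace X] (F : X.Modules) [F.IsQuasicoherent] (hF : CohB1.IsFT F) :
    ∃ (J : Type u) (_ : PartialOrder J) (_ : IsDirected J (· ≤ ·)) (_ : Nonempty J) (D : J ⥤ X.Modules)
      (ι : D ⟶ (Functor.const J).obj F), Nonempty (IsColimit (Cocone.mk F ι)) ∧
      (∀ j, CohB1.IsFP (D.obj j)) ∧ ∀ (j j' : J) (h : j ⟶ j'), Epi (D.map h) := by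
  obtain ⟨P, p, hP, hp⟩ := exists_fp_epi F hF
  haveI := hp
  haveI : P.IsQuasicoherent := isQCoh_of_isFP P hP
  haveI : (kernel p).IsQuasicoherent := isQuasicoherent_kernel p
  refine ⟨J (kernel p), inferInstance, isDirected, nonempty_J, D p, ιNat p, nonempty_isColimit p, ?_, ?_⟩
  · intro j
    exact isFP_cokernel_of_mono (isFT_obj j) hP (fJ p j)
  · intro j j' h
    exact epi_of_epi_fac (πD_map p h)

end Groth.Agent.Lib.T2H5.FPColim
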