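import Mathlib
import Groth.Agent.Lib.T2H5FPColim
import Groth.Agent.Lib.Helper13ModBasis
set_option backward.isDefEq.respectTransparency.types false

/-!
# T2H5FPColim2: a quasi-coherent module on a qcqs scheme is a directed colimit of finitely presented modules (helper5)

Namespace `Groth.Agent.Lib.T2H5.FPColim2`.
-/

set_option autoImplicit false
set_option linter.style.haveILetI false
set_option linter.unusedSectionVars false
universe u
open CategoryTheory CategoryTheory.Limits AlgebraicGeometry TopologicalSpace Opposite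

namespace Groth.Agent.Lib.T2H5.FPColim2

open Groth.Agent.Lib.Helper2.FPAff Groth.Agent.Helper18Strict
open Groth.Agent.Lib.Helper23.QCohLocal Groth.Agent.Lib.Helper23.FinType
open Groth.Agent.Lib.Helper23.Extend Groth.Agent.Lib.T2H2.FPExt
open Groth.Agent.Lib.Helper6 Groth.Agent.Lib.T2H5.FPExtend Groth.Agent.Lib.T2H5.FPColim

variable {X : Scheme.{u}}

attribute [local instance] Abelian.hasFiniteBiproducts

section FiniteBiproduct

/-- the property of being finitely presented -/
abbrev fpProp (X : Scheme.{u}) : ObjectProperty X.Modules := fun M => CohB1.IsFP M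

instance fpProp_iso (X : Scheme.{u}) : (fpProp X).IsClosedUnderIsomorphisms :=
  inferInstanceAs (SheafOfModules.isFinitePresentation X.ringCatSheaf).IsClosedUnderIsomorphisms

theorem isFP_of_iso {A B : X.Modules} (e : A ≅ B) (hA : CohB1.IsFP A) : CohB1.IsFP B :=
  (fpProp X).prop_of_iso e hA

theorem exists_isZero_isFP (X : Scheme.{u}) : ∃ Z : X.Modules, IsZero Z ∧ CohB1.IsFP Z := by
  let O := Coh.structureModule X
  have hO : CohB1.IsFP O := Groth.Agent.Helper18FinFlat.isFinitePresentation_structureModule X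
  haveI : SheafOfModules.IsFinitePresentation (R := X.ringCatSheaf) O := hO
  haveI : O.IsQuasicoherent := isQCoh_of_isFP O hO
  have hft : CohB1.IsFT O := isFT_of_isFP O hO
  refine ⟨cokernel (𝟙 O), isZero_cokernel_of_epi _, isFP_cokernel_of_mono hft hO (𝟙 O)⟩

instance fpProp_zero (X : Scheme.{u}) : (fpProp X).ContainsZero := ⟨exists_isZero_isFP X⟩

instance fpProp_binary (X : Scheme.{u}) : (fpProp X).IsClosedUnderBinaryProducts where
  limitsOfShape_le := by
    rintro Z ⟨p⟩
    let A := p.diag.obj ⟨WalkingPair.left⟩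
    let B := p.diag.obj ⟨WalkingPair.right⟩
    have hA : CohB1.IsFP A := p.prop_diag_obj _
    have hB : CohB1.IsFP B := p.prop_diag_obj _
    have hAB : CohB1.IsFP (A ⊞ B : X.Modules) := isFP_biprod A B hA hB
    let e1 : Z ≅ limit p.diag := IsLimit.conePointUniqueUpToIso p.isLimit (limit.isLimit _)
    let e2 : limit p.diag ≅ A ⨯ B := HasLimit.isoOfNatIso (diagramIsoPair p.diag)
    let e3 : (A ⊞ B : X.Modules) ≅ A ⨯ B := biprod.isoProd A B
    exact isFP_of_iso (e3 ≪≫ e2.symm ≪≫ e1.symm) hAB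

instance fpProp_finite (X : Scheme.{u}) : (fpProp X).IsClosedUnderFiniteProducts :=
  ObjectProperty.IsClosedUnderFiniteProducts.mk'

/-- a finite direct sum of finitely presented modules is finitely presented -/
theorem isFP_biproduct {ι : Type*} [Finite ι] (G : ι → X.Modules) (h : ∀ i, CohB1.IsFP (G i)) :
    CohB1.IsFP (⨁ G : X.Modules) := by
  have h1 : CohB1.IsFP (∏ᶜ G : X.Modules) := (fpProp X).prop_product h
  exact isFP_of_iso (biproduct.isoProduct G).symm h1

end FiniteBiproduct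

section Setup
variable {F : X.Modules} {ι : Type u} (G : ι → X.Modules) (g : ∀ a, G a ⟶ F)

/-- the finite partial sums -/
noncomputable def PT (T : Finset ι) : X.Modules := ⨁ (fun a : T => G a.1)

/-- the map from a partial sum -/
noncomputable def φT (T : Finset ι) : PT G T ⟶ F := biproduct.desc (fun a : T => g a.1)

/-- the inclusion of a summand -/
noncomputable def ιT (T : Finset ι) (a : ι) (ha : a ∈ T) : G a ⟶ PT G T :=
  biproduct.ι (fun b : T => G b.1) ⟨a, ha⟩

theorem ιT_φT (T : Finset ι) (a : ι) (ha : a ∈ T) : ιT G T a ha ≫ φT G g T = g a := by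
  unfold ιT φT
  exact biproduct.ι_desc _ _

/-- the inclusions of the partial sums -/
noncomputable def incl {T T' : Finset ι} (h : T ⊆ T') : PT G T ⟶ PT G T' :=
  biproduct.desc (fun a : T => ιT G T' a.1 (h a.2))

theorem ιT_incl {T T' : Finset ι} (h : T ⊆ T') (a : ι) (ha : a ∈ T) :
    ιT G T a ha ≫ incl G h = ιT G T' a (h ha) := by
  unfold incl
  exact biproduct.ι_desc _ _

theorem PT_hom_ext {T : Finset ι} {Z : X.Modules} (m m' : PT G T ⟶ Z)
    (h : ∀ (a : ι) (ha : a ∈ T), ιT G T a ha ≫ m = ιT G T a ha ≫ m') : m = m' := by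
  apply biproduct.hom_ext'
  intro a
  exact h a.1 a.2

theorem incl_φT {T T' : Finset ι} (h : T ⊆ T') : incl G h ≫ φT G g T' = φT G g T := by
  apply PT_hom_ext
  intro a ha
  rw [← Category.assoc, ιT_incl, ιT_φT, ιT_φT]

theorem incl_refl (T : Finset ι) (h : T ⊆ T) : incl G h = 𝟙 _ := by
  apply PT_hom_ext
  intro a ha
  rw [ιT_incl, Category.comp_id]

theorem incl_trans {T T' T'' : Finset ι} (h : T ⊆ T') (h' : T' ⊆ T'') :
    incl G h ≫ incl G h' = incl G (h.trans h') := by
  apply PT_hom_ext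
  intro a ha
  rw [← Category.assoc, ιT_incl, ιT_incl, ιT_incl]

theorem incl_app_φT {T T' : Finset ι} (h : T ⊆ T') (U : X.Opens) (y : Γ(PT G T, U)) :
    (φT G g T').app U ((incl G h).app U y) = (φT G g T).app U y := by
  rw [← comp_app_apply, incl_φT]

/-- the index type -/
structure Idx where
  /-- the finite set of summands -/
  T : Finset ι
  /-- a finite type submodule of the kernel -/
  j : J (kernel (φT G g T))

variable {G g}

/-- the chosen submodule of the partial sum -/
noncomputable def fI (i : Idx G g) : obj i.j ⟶ PT G i.T := fJ (φT G g i.T) i.j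

theorem fI_φT (i : Idx G g) : fI i ≫ φT G g i.T = 0 := by
  unfold fI fJ
  rw [Category.assoc, kernel.condition, comp_zero]

/-- the order relation on the index type -/
def Le (i i' : Idx G g) : Prop :=
  ∃ h : i.T ⊆ i'.T, ∀ (U : X.affineOpens) (x : Γ(obj i.j, U.1)),
    ∃ y : Γ(obj i'.j, U.1), (fI i').app U.1 y = (incl G h).app U.1 ((fI i).app U.1 x)

theorem le_refl' (i : Idx G g) : Le i i := by
  refine ⟨Finset.Subset.refl _, fun U x => ⟨x, ?_⟩⟩
  rw [incl_refl, Scheme.Modules.Hom.id_app]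
  rfl

theorem le_trans' {i i' i'' : Idx G g} (h : Le i i') (h' : Le i' i'') : Le i i'' := by
  obtain ⟨h1, h2⟩ := h
  obtain ⟨h1', h2'⟩ := h'
  refine ⟨h1.trans h1', fun U x => ?_⟩
  obtain ⟨y, hy⟩ := h2 U x
  obtain ⟨z, hz⟩ := h2' U y
  refine ⟨z, ?_⟩
  rw [hz, hy, ← incl_trans G h1 h1', comp_app_apply]

noncomputable instance : Preorder (Idx G g) where
  le := Le
  le_refl := le_refl'
  le_trans _ _ _ := le_trans'

theorem sub_of_le {i i' : Idx G g} (h : i ≤ i') : i.T ⊆ i'.T := h.fst

theorem exists_of_le' {i i' : Idx G g} (h : i ≤ i') (U : X.affineOpens) (x : Γ(obj i.j, U.1)) :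
    ∃ y : Γ(obj i'.j, U.1), (fI i').app U.1 y = (incl G (sub_of_le h)).app U.1 ((fI i).app U.1 x) :=
  h.snd U x

/-- the objects of the diagram -/
noncomputable def DI (i : Idx G g) : X.Modules := cokernel (fI i)

/-- the projections -/
noncomputable def πI (i : Idx G g) : PT G i.T ⟶ DI i := cokernel.π (fI i)

instance epi_πI (i : Idx G g) : Epi (πI i) := inferInstanceAs (Epi (cokernel.π (fI i)))

theorem fI_πI (i : Idx G g) : fI i ≫ πI i = 0 := cokernel.condition _

theorem fI_incl_πI {i i' : Idx G g} (h : i ≤ i') : fI i ≫ incl G (sub_of_le h) ≫ πI i' = 0 := by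
  apply hom_eq_zero_of_affine
  intro U x
  obtain ⟨y, hy⟩ := exists_of_le' h U x
  rw [comp_app_apply, comp_app_apply, ← hy, ← comp_app_apply, fI_πI]
  rfl

/-- the transition maps -/
noncomputable def DImap {i i' : Idx G g} (h : i ≤ i') : DI i ⟶ DI i' :=
  cokernel.desc (fI i) (incl G (sub_of_le h) ≫ πI i') (fI_incl_πI h)

theorem πI_DImap {i i' : Idx G g} (h : i ≤ i') : πI i ≫ DImap h = incl G (sub_of_le h) ≫ πI i' :=
  cokernel.π_desc _ _ _

variable (G g)

/-- the diagram -/
noncomputable def DD : Idx G g ⥤ X.Modules where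
  obj := DI
  map {i i'} h := DImap (leOfHom h)
  map_id i := by
    apply (cancel_epi (πI i)).1
    rw [πI_DImap, Category.comp_id, incl_refl, Category.id_comp]
  map_comp {i i' i''} h h' := by
    apply (cancel_epi (πI i)).1
    rw [πI_DImap, ← Category.assoc, πI_DImap, Category.assoc, πI_DImap, ← Category.assoc, incl_trans]

variable {G g}

/-- the maps to `F` -/
noncomputable def toFI (i : Idx G g) : DI i ⟶ F := cokernel.desc (fI i) (φT G g i.T) (fI_φT i)

theorem πI_toFI (i : Idx G g) : πI i ≫ toFI i = φT G g i.T := cokernel.π_desc _ _ _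

variable (G g)

/-- the cocone -/
noncomputable def ιI : DD G g ⟶ (Functor.const (Idx G g)).obj F where
  app i := toFI i
  naturality i i' h := by
    apply (cancel_epi (πI i)).1
    simp only [Functor.const_obj_obj, Functor.const_obj_map, Category.comp_id]
    change πI i ≫ DImap (leOfHom h) ≫ toFI i' = πI i ≫ toFI i
    rw [← Category.assoc, πI_DImap, Category.assoc, πI_toFI, πI_toFI, incl_φT]

/-- the projections, with codomain typed through the diagram -/
noncomputable def πD (i : Idx G g) : PT G i.T ⟶ (DD G g).obj i := πI i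

instance epi_πD (i : Idx G g) : Epi (πD G g i) := epi_πI i

theorem πD_map {i i' : Idx G g} (h : i ⟶ i') :
    πD G g i ≫ (DD G g).map h = incl G (sub_of_le (leOfHom h)) ≫ πD G g i' := πI_DImap (leOfHom h)

theorem fI_πD (i : Idx G g) : fI i ≫ πD G g i = 0 := fI_πI i

theorem πD_ιI (i : Idx G g) : πD G g i ≫ (ιI G g).app i = φT G g i.T := πI_toFI i

end Setup

section Colimit
variable {F : X.Modules} [F.IsQuasicoherent] {ι : Type u} (G : ι → X.Modules) (g : ∀ a, G a ⟶ F)
  (hG : ∀ a, CohB1.IsFP (G a))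

include hG in
theorem isFP_PT (T : Finset ι) : CohB1.IsFP (PT G T) := isFP_biproduct _ (fun a => hG a.1)

include hG in
theorem isQuasicoherent_kernel_φT (T : Finset ι) : (kernel (φT G g T)).IsQuasicoherent := by
  haveI : (PT G T).IsQuasicoherent := isQCoh_of_isFP _ (isFP_PT G hG T)
  exact isQuasicoherent_kernel _

include hG in
theorem isFP_DI (i : Idx G g) : CohB1.IsFP (DI i) := by
  unfold DI fI
  exact isFP_cokernel_of_mono (isFT_obj i.j) (isFP_PT G hG i.T) (fJ (φT G g i.T) i.j)

include hG in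
theorem idx_directed (i i' : Idx G g) : ∃ k : Idx G g, i ≤ k ∧ i' ≤ k := by
  classical
  let T'' := i.T ∪ i'.T
  have hT : i.T ⊆ T'' := Finset.subset_union_left
  have hT' : i'.T ⊆ T'' := Finset.subset_union_right
  haveI := isQuasicoherent_kernel_φT G g hG T''
  haveI : SheafOfModules.IsFiniteType (R := X.ringCatSheaf) (obj i.j) := isFT_obj i.j
  haveI : SheafOfModules.IsFiniteType (R := X.ringCatSheaf) (obj i'.j) := isFT_obj i'.j
  let a : obj i.j ⟶ kernel (φT G g T'') :=
    kernel.lift _ (fI i ≫ incl G hT) (by rw [Category.assoc, incl_φT, fI_φT])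
  let b : obj i'.j ⟶ kernel (φT G g T'') :=
    kernel.lift _ (fI i' ≫ incl G hT') (by rw [Category.assoc, incl_φT, fI_φT])
  obtain ⟨C, c, ia, ib, hc, hCq, hCf, ha, hb⟩ :=
    Groth.Agent.Lib.Helper23.FTsub.exists_sup_sub (kernel (φT G g T'')) (obj i.j) (obj i'.j) a b
  haveI := hc
  haveI := hCq
  let k : Idx G g := ⟨T'', ofSub c hCf⟩
  refine ⟨k, ⟨hT, fun U x => ?_⟩, ⟨hT', fun U x => ?_⟩⟩
  · have h1 : c.app U.1 (ia.app U.1 x) ∈ famOf (inc k.j) U := by
      rw [famOf_inc]
      exact ⟨_, rfl⟩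
    obtain ⟨y, hy0⟩ := h1
    have hy : (inc k.j).app U.1 y = c.app U.1 (ia.app U.1 x) := hy0
    refine ⟨y, ?_⟩
    change (inc k.j ≫ kernel.ι _).app U.1 y = _
    have e1 : (kernel.ι (φT G g T'')).app U.1 (c.app U.1 (ia.app U.1 x)) =
        (incl G hT).app U.1 ((fI i).app U.1 x) := by
      rw [← comp_app_apply ia c, ha, ← comp_app_apply a, kernel.lift_ι, comp_app_apply]
    rw [comp_app_apply, hy]
    exact e1
  · have h1 : c.app U.1 (ib.app U.1 x) ∈ famOf (inc k.j) U := by
      rw [famOf_inc]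
      exact ⟨_, rfl⟩
    obtain ⟨y, hy0⟩ := h1
    have hy : (inc k.j).app U.1 y = c.app U.1 (ib.app U.1 x) := hy0
    refine ⟨y, ?_⟩
    change (inc k.j ≫ kernel.ι _).app U.1 y = _
    have e1 : (kernel.ι (φT G g T'')).app U.1 (c.app U.1 (ib.app U.1 x)) =
        (incl G hT').app U.1 ((fI i').app U.1 x) := by
      rw [← comp_app_apply ib c, hb, ← comp_app_apply b, kernel.lift_ι, comp_app_apply]
    rw [comp_app_apply, hy]
    exact e1

variable (s : Cocone (DD G g))

/-- the induced maps from the partial sums to the vertex of a cocone -/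
noncomputable def ψ (i : Idx G g) : PT G i.T ⟶ s.pt := πD G g i ≫ s.ι.app i

theorem ψ_le {i i' : Idx G g} (h : i ≤ i') : ψ G g s i = incl G (sub_of_le h) ≫ ψ G g s i' := by
  unfold ψ
  rw [← s.w (homOfLE h), ← Category.assoc, πD_map, Category.assoc]

theorem ψ_le_apply {i i' : Idx G g} (h : i ≤ i') (U : X.Opens) (y : Γ(PT G i.T, U)) :
    (ψ G g s i).app U y = (ψ G g s i').app U ((incl G (sub_of_le h)).app U y) := by
  rw [ψ_le G g s h, comp_app_apply]

include hG in
theorem ψ_eq_zero [CompactSpace X] [QuasiSeparatedSpace X] (i : Idx G g) (U : X.affineOpens)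
    (z : Γ(PT G i.T, U.1)) (hz : (φT G g i.T).app U.1 z = 0) : (ψ G g s i).app U.1 z = 0 := by
  haveI := isQuasicoherent_kernel_φT G g hG i.T
  obtain ⟨k, hk⟩ := (Groth.Agent.Lib.T2H5.GammaZSec.mem_range_kernel_ι_app (φT G g i.T) U.1 z).2 hz
  obtain ⟨j₃, k₃, hk₃⟩ := exists_mem (K := kernel (φT G g i.T)) U k
  obtain ⟨i₃, h1, h2⟩ := idx_directed G g hG i ⟨i.T, j₃⟩
  obtain ⟨y, hy⟩ := exists_of_le' h2 U k₃
  have h3 : (fI (⟨i.T, j₃⟩ : Idx G g)).app U.1 k₃ = z := by
    change (inc j₃ ≫ kernel.ι _).app U.1 k₃ = z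
    rw [comp_app_apply, hk₃, hk]
  rw [h3] at hy
  have h4 : (incl G (sub_of_le h1)).app U.1 z = (fI i₃).app U.1 y := hy.symm
  rw [ψ_le_apply G g s h1, h4]
  unfold ψ
  rw [← comp_app_apply, ← Category.assoc, fI_πD, zero_comp]
  rfl

include hG in
theorem ψ_indep [CompactSpace X] [QuasiSeparatedSpace X] (i i' : Idx G g) (U : X.affineOpens)
    (y : Γ(PT G i.T, U.1)) (y' : Γ(PT G i'.T, U.1))
    (h : (φT G g i.T).app U.1 y = (φT G g i'.T).app U.1 y') :
    (ψ G g s i).app U.1 y = (ψ G g s i').app U.1 y' := by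
  obtain ⟨k, h1, h2⟩ := idx_directed G g hG i i'
  rw [ψ_le_apply G g s h1, ψ_le_apply G g s h2, ← sub_eq_zero, ← map_sub]
  apply ψ_eq_zero G g hG s k U
  rw [map_sub, incl_app_φT, incl_app_φT, h, sub_self]

variable (hsurj : ∀ (U : X.affineOpens) (x : Γ(F, U.1)), ∃ (a : ι) (y : Γ(G a, U.1)), (g a).app U.1 y = x)

include hG hsurj in
theorem exists_rep [CompactSpace X] [QuasiSeparatedSpace X] (U : X.affineOpens) (x : Γ(F, U.1)) :
    ∃ (i : Idx G g) (y : Γ(PT G i.T, U.1)), (φT G g i.T).app U.1 y = x := by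
  obtain ⟨a, y₀, hy₀⟩ := hsurj U x
  haveI := isQuasicoherent_kernel_φT G g hG {a}
  obtain ⟨j⟩ := nonempty_J (K := kernel (φT G g {a}))
  refine ⟨⟨{a}, j⟩, (ιT G {a} a (Finset.mem_singleton_self a)).app U.1 y₀, ?_⟩
  rw [← comp_app_apply, ιT_φT]
  exact hy₀

include hG in
theorem idx_nonempty [CompactSpace X] [QuasiSeparatedSpace X] : Nonempty (Idx G g) := by
  haveI := isQuasicoherent_kernel_φT G g hG ∅
  obtain ⟨j⟩ := nonempty_J (K := kernel (φT G g ∅))
  exact ⟨⟨∅, j⟩⟩

/-- the induced map on sections over an affine open -/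
noncomputable def uFun [CompactSpace X] [QuasiSeparatedSpace X] (U : X.affineOpens) (x : Γ(F, U.1)) :
    Γ(s.pt, U.1) :=
  (ψ G g s (exists_rep G g hG hsurj U x).choose).app U.1 (exists_rep G g hG hsurj U x).choose_spec.choose

theorem uFun_eq [CompactSpace X] [QuasiSeparatedSpace X] (U : X.affineOpens) (x : Γ(F, U.1)) (i : Idx G g)
    (y : Γ(PT G i.T, U.1)) (h : (φT G g i.T).app U.1 y = x) :
    uFun G g hG s hsurj U x = (ψ G g s i).app U.1 y :=
  ψ_indep G g hG s _ i U _ y ((exists_rep G g hG hsurj U x).choose_spec.choose_spec.trans h.symm)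

theorem uFun_add [CompactSpace X] [QuasiSeparatedSpace X] (U : X.affineOpens) (x x' : Γ(F, U.1)) :
    uFun G g hG s hsurj U (x + x') = uFun G g hG s hsurj U x + uFun G g hG s hsurj U x' := by
  obtain ⟨i, y, rfl⟩ := exists_rep G g hG hsurj U x
  obtain ⟨i', y', rfl⟩ := exists_rep G g hG hsurj U x'
  obtain ⟨k, h1, h2⟩ := idx_directed G g hG i i'
  rw [uFun_eq G g hG s hsurj U _ i y rfl, uFun_eq G g hG s hsurj U _ i' y' rfl,
    ψ_le_apply G g s h1, ψ_le_apply G g s h2, ← map_add]
  apply uFun_eq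
  rw [map_add, incl_app_φT, incl_app_φT]

theorem uFun_smul [CompactSpace X] [QuasiSeparatedSpace X] (U : X.affineOpens) (r : Γ(X, U.1))
    (x : Γ(F, U.1)) : uFun G g hG s hsurj U (r • x) = r • uFun G g hG s hsurj U x := by
  obtain ⟨i, y, rfl⟩ := exists_rep G g hG hsurj U x
  have h1 : (φT G g i.T).app U.1 (r • y) = r • (φT G g i.T).app U.1 y := Scheme.Modules.Hom.app_smul _ r y
  have h2 : (ψ G g s i).app U.1 (r • y) = r • (ψ G g s i).app U.1 y := Scheme.Modules.Hom.app_smul _ r y
  rw [uFun_eq G g hG s hsurj U _ i y rfl, ← h2]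
  exact uFun_eq G g hG s hsurj U _ i (r • y) h1

theorem uFun_res [CompactSpace X] [QuasiSeparatedSpace X] (U V : X.affineOpens) (h : V.1 ≤ U.1)
    (x : Γ(F, U.1)) :
    uFun G g hG s hsurj V (F.presheaf.map (homOfLE h).op x) =
      s.pt.presheaf.map (homOfLE h).op (uFun G g hG s hsurj U x) := by
  obtain ⟨i, y, rfl⟩ := exists_rep G g hG hsurj U x
  rw [uFun_eq G g hG s hsurj U _ i y rfl,
    ← Groth.Agent.Lib.Helper2.ModExact.app_map (ψ G g s i) (homOfLE h) y]
  apply uFun_eq
  rw [Groth.Agent.Lib.Helper2.ModExact.app_map]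

theorem isBasis_affine (X : Scheme.{u}) : Opens.IsBasis (Set.range (fun U : X.affineOpens => (U.1 : X.Opens))) := by
  have h : Set.range (fun U : X.affineOpens => (U.1 : X.Opens)) = X.affineOpens := Subtype.range_coe
  rw [h]
  exact X.isBasis_affineOpens

/-- the induced map on sections over an affine open, as a morphism of abelian groups -/
noncomputable def uHom [CompactSpace X] [QuasiSeparatedSpace X] (U : X.affineOpens) :
    Γ(F, U.1) ⟶ Γ(s.pt, U.1) :=
  AddCommGrpCat.ofHom (AddMonoidHom.mk' (uFun G g hG s hsurj U) (uFun_add G g hG s hsurj U))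

theorem uHom_apply [CompactSpace X] [QuasiSeparatedSpace X] (U : X.affineOpens) (x : Γ(F, U.1)) :
    uHom G g hG s hsurj U x = uFun G g hG s hsurj U x := rfl

/-- the induced morphism to the vertex of a cocone -/
noncomputable def uMor [CompactSpace X] [QuasiSeparatedSpace X] : F ⟶ s.pt :=
  Groth.Agent.Helper13ModBasis.homOfBasis (fun U : X.affineOpens => (U.1 : X.Opens)) (isBasis_affine X)
    (uHom G g hG s hsurj)
    (by
      intro U V h
      ext x
      exact uFun_res G g hG s hsurj U V h x)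
    (fun U r x => uFun_smul G g hG s hsurj U r x)

theorem uMor_app [CompactSpace X] [QuasiSeparatedSpace X] (U : X.affineOpens) (x : Γ(F, U.1)) :
    (uMor G g hG s hsurj).app U.1 x = uFun G g hG s hsurj U x := by
  have h1 := Groth.Agent.Helper13ModBasis.homOfBasis_app (fun U : X.affineOpens => (U.1 : X.Opens))
    (isBasis_affine X) (uHom G g hG s hsurj)
    (by
      intro U V h
      ext x
      exact uFun_res G g hG s hsurj U V h x)
    (fun U r x => uFun_smul G g hG s hsurj U r x) U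
  exact congrArg (fun φ => φ x) h1

theorem φT_uMor [CompactSpace X] [QuasiSeparatedSpace X] (i : Idx G g) :
    φT G g i.T ≫ uMor G g hG s hsurj = ψ G g s i := by
  rw [← sub_eq_zero]
  apply hom_eq_zero_of_affine
  intro U y
  have h1 : (φT G g i.T ≫ uMor G g hG s hsurj).app U.1 y = (ψ G g s i).app U.1 y := by
    rw [comp_app_apply, uMor_app]
    exact uFun_eq G g hG s hsurj U _ i y rfl
  have h2 : (φT G g i.T ≫ uMor G g hG s hsurj - ψ G g s i).app U.1 y =
      (φT G g i.T ≫ uMor G g hG s hsurj).app U.1 y - (ψ G g s i).app U.1 y := by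
    rw [Scheme.Modules.Hom.sub_app]
    rfl
  rw [h2, h1, sub_self]

include hG hsurj in
theorem nonempty_isColimit [CompactSpace X] [QuasiSeparatedSpace X] :
    Nonempty (IsColimit (Cocone.mk F (ιI G g))) := by
  refine ⟨{ desc := fun s => uMor G g hG s hsurj
            fac := fun s i => ?_
            uniq := fun s m hm => ?_ }⟩
  · apply (cancel_epi (πD G g i)).1
    have h2 : (πD G g i ≫ (ιI G g).app i) ≫ uMor G g hG s hsurj = ψ G g s i := by
      rw [πD_ιI]
      exact φT_uMor G g hG s hsurj i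
    exact (Category.assoc _ _ _).symm.trans h2
  · rw [← sub_eq_zero]
    apply hom_eq_zero_of_affine
    intro U x
    obtain ⟨i, y, rfl⟩ := exists_rep G g hG hsurj U x
    have h0 : (ιI G g).app i ≫ m = s.ι.app i := hm i
    have h1 : φT G g i.T ≫ m = ψ G g s i := by
      rw [← πD_ιI, Category.assoc, h0]
      rfl
    have h2 : φT G g i.T ≫ (m - uMor G g hG s hsurj) = 0 := by
      rw [Preadditive.comp_sub, h1, φT_uMor, sub_self]
    rw [← comp_app_apply, h2]
    rfl

end Colimit

/-- **a quasi-coherent module on a qcqs scheme is a directed colimit of finitely presented modules** -/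
theorem main [CompactSpace X] [QuasiSeparatedSpace X] (F : X.Modules) [F.IsQuasicoherent] :
    ∃ (I : Type u) (_ : Preorder I) (_ : IsDirected I (· ≤ ·)) (_ : Nonempty I) (D : I ⥤ X.Modules)
      (ι : D ⟶ (Functor.const I).obj F), Nonempty (IsColimit (Cocone.mk F ι)) ∧
      ∀ i, CohB1.IsFP (D.obj i) := by
  let A : Type u := Σ U : X.affineOpens, Γ(F, U.1)
  have hex : ∀ a : A, ∃ (G : X.Modules) (φ : G ⟶ F), CohB1.IsFP G ∧ ∃ y : Γ(G, a.1.1), φ.app a.1.1 y = a.2 :=
    fun a => exists_fp_hom_section F a.1.1 a.1.2 a.2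
  choose G g hG y hy using hex
  have hsurj : ∀ (U : X.affineOpens) (x : Γ(F, U.1)), ∃ (a : A) (y : Γ(G a, U.1)), (g a).app U.1 y = x :=
    fun U x => ⟨⟨U, x⟩, y ⟨U, x⟩, hy ⟨U, x⟩⟩
  refine ⟨Idx G g, inferInstance, ⟨fun i i' => idx_directed G g hG i i'⟩, idx_nonempty G g hG, DD G g, ιI G g,
    nonempty_isColimit G g hG hsurj, fun i => isFP_DI G g hG i⟩

end Groth.Agent.Lib.T2H5.FPColim2
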