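import Mathlib
import Groth.Prelude
import Groth.Agent.Lib.T2H9FBCMain
import Groth.Agent.Lib.Helper23RestrTensor
set_option backward.isDefEq.respectTransparency.types false

/-!
# Base change of a proper scheme along a field extension: cohomology dimensions (helper6)

Namespace `Groth.Agent.Lib.T2H6.FieldBC`.  Built on helper9's `flat_base_change`.

* `finrank_HH_bc` : `dim_{k'} H^i(X_{k'}, F') = dim_k H^i(X, F)` for `F` quasi-coherent, `X` qc separated over `k`.
* `subsingleton_HH_bc_iff`.
* `euler_bc`, `eulerCharLE_bc`.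
-/

set_option autoImplicit false
set_option linter.style.haveILetI false
set_option linter.unusedSectionVars false
set_option linter.unusedVariables false
universe u
open CategoryTheory CategoryTheory.Limits AlgebraicGeometry TopologicalSpace Opposite TensorProduct

namespace Groth.Agent.Lib.T2H6.FieldBC

variable (k : Type u) [Field k] (X : Scheme.{u}) [X.Over (Spec (CommRingCat.of k))]
  (k' : Type u) [Field k'] [Algebra k k']

theorem nonempty_equiv_bc [QuasiCompact (X ↘ Spec (CommRingCat.of k))]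
    [IsSeparated (X ↘ Spec (CommRingCat.of k))] (F : X.Modules) [F.IsQuasicoherent] (i : ℕ) :
    letI : (Curv2.bc k X k').Over (Spec (CommRingCat.of k')) := ⟨Curv2.bcSnd k X k'⟩
    Nonempty (k' ⊗[k] Coh.HH X F i ≃ₗ[k']
      Coh.HH (Curv2.bc k X k') ((Scheme.Modules.pullback (Curv2.bcFst k X k')).obj F) i) := by
  letI : (Curv2.bc k X k').Over (Spec (CommRingCat.of k')) := ⟨Curv2.bcSnd k X k'⟩
  exact Groth.Agent.Lib.T2H9.FBCMain.flat_base_change (A := k) (B := k') (Curv2.bcFst k X k')
    (IsPullback.of_hasPullback _ _) F i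

theorem finrank_HH_bc [QuasiCompact (X ↘ Spec (CommRingCat.of k))]
    [IsSeparated (X ↘ Spec (CommRingCat.of k))] (F : X.Modules) [F.IsQuasicoherent] (i : ℕ) :
    letI : (Curv2.bc k X k').Over (Spec (CommRingCat.of k')) := ⟨Curv2.bcSnd k X k'⟩
    Module.finrank k' (Coh.HH (Curv2.bc k X k')
      ((Scheme.Modules.pullback (Curv2.bcFst k X k')).obj F) i) = Module.finrank k (Coh.HH X F i) := by
  letI : (Curv2.bc k X k').Over (Spec (CommRingCat.of k')) := ⟨Curv2.bcSnd k X k'⟩
  obtain ⟨e⟩ := nonempty_equiv_bc k X k' F i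
  rw [← e.finrank_eq, Module.finrank_baseChange]

theorem subsingleton_HH_bc_iff [QuasiCompact (X ↘ Spec (CommRingCat.of k))]
    [IsSeparated (X ↘ Spec (CommRingCat.of k))] (F : X.Modules) [F.IsQuasicoherent] (i : ℕ) :
    Subsingleton (Coh.HH (Curv2.bc k X k')
      ((Scheme.Modules.pullback (Curv2.bcFst k X k')).obj F) i) ↔ Subsingleton (Coh.HH X F i) := by
  letI : (Curv2.bc k X k').Over (Spec (CommRingCat.of k')) := ⟨Curv2.bcSnd k X k'⟩
  obtain ⟨e⟩ := nonempty_equiv_bc k X k' F i
  rw [← e.toEquiv.subsingleton_congr]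
  constructor
  · intro h
    by_contra hn
    rw [not_subsingleton_iff_nontrivial] at hn
    exact absurd h (not_subsingleton_iff_nontrivial.2 inferInstance)
  · intro h
    infer_instance

theorem euler_bc [QuasiCompact (X ↘ Spec (CommRingCat.of k))]
    [IsSeparated (X ↘ Spec (CommRingCat.of k))] (F : X.Modules) [F.IsQuasicoherent] :
    @Curv2.euler k' _ (Curv2.bc k X k') ⟨Curv2.bcSnd k X k'⟩
        ((Scheme.Modules.pullback (Curv2.bcFst k X k')).obj F) = Curv2.euler k X F := by
  unfold Curv2.euler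
  refine finsum_congr fun i => ?_
  rw [finrank_HH_bc k X k' F i]

theorem eulerCharLE_bc [QuasiCompact (X ↘ Spec (CommRingCat.of k))]
    [IsSeparated (X ↘ Spec (CommRingCat.of k))] (F : X.Modules) [F.IsQuasicoherent] (d : ℕ) :
    @FGA.eulerCharLE k' _ (Curv2.bc k X k') ⟨Curv2.bcSnd k X k'⟩
        ((Scheme.Modules.pullback (Curv2.bcFst k X k')).obj F) d = FGA.eulerCharLE k X F d := by
  unfold FGA.eulerCharLE
  refine Finset.sum_congr rfl fun i _ => ?_
  rw [finrank_HH_bc k X k' F i]

end Groth.Agent.Lib.T2H6.FieldBC
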