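import Mathlib
import Groth.Prelude
import Groth.Agent.Lib.T2H6FieldBC
import Groth.Agent.Lib.T2H6HHLin
import Groth.Agent.Lib.Helper23PB
import Groth.Agent.Lib.Helper23Serre
set_option backward.isDefEq.respectTransparency.types false

/-!
# Field base change: iso-invariance, degree, intersection numbers (helper6)

Namespace `Groth.Agent.Lib.T2H6.FieldBC`.
-/

set_option autoImplicit false
set_option linter.style.haveILetI false
set_option linter.unusedSectionVars false
set_option linter.unusedVariables false
universe u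
open CategoryTheory CategoryTheory.Limits AlgebraicGeometry TopologicalSpace Opposite TensorProduct

namespace Groth.Agent.Lib.T2H6.FieldBC

section iso

variable (k : Type u) [Field k] (X : Scheme.{u}) [X.Over (Spec (CommRingCat.of k))]

theorem finrank_HH_eq_of_iso {M N : X.Modules} (e : M ≅ N) (i : ℕ) :
    Module.finrank k (Coh.HH X M i) = Module.finrank k (Coh.HH X N i) :=
  (Groth.Agent.Lib.T2H6.HHLin.HHequiv k e i).finrank_eq

theorem euler_eq_of_iso {M N : X.Modules} (e : M ≅ N) :
    Curv2.euler k X M = Curv2.euler k X N := by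
  unfold Curv2.euler
  refine finsum_congr fun i => ?_
  rw [finrank_HH_eq_of_iso k X e i]

theorem eulerCharLE_eq_of_iso {M N : X.Modules} (e : M ≅ N) (d : ℕ) :
    FGA.eulerCharLE k X M d = FGA.eulerCharLE k X N d := by
  unfold FGA.eulerCharLE
  refine Finset.sum_congr rfl fun i _ => ?_
  rw [finrank_HH_eq_of_iso k X e i]

include k in
theorem subsingleton_HH_iff_of_iso {M N : X.Modules} (e : M ≅ N) (i : ℕ) :
    Subsingleton (Coh.HH X M i) ↔ Subsingleton (Coh.HH X N i) :=
  (Groth.Agent.Lib.T2H6.HHLin.HHequiv k e i).toEquiv.subsingleton_congr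

end iso

variable (k : Type u) [Field k] (X : Scheme.{u}) [X.Over (Spec (CommRingCat.of k))]
  (k' : Type u) [Field k'] [Algebra k k']

theorem deg_bc [QuasiCompact (X ↘ Spec (CommRingCat.of k))]
    [IsSeparated (X ↘ Spec (CommRingCat.of k))] (E : X.Modules) [E.IsQuasicoherent] (n : ℕ) :
    @Curv2.deg k' _ (Curv2.bc k X k') ⟨Curv2.bcSnd k X k'⟩
        ((Scheme.Modules.pullback (Curv2.bcFst k X k')).obj E) n = Curv2.deg k X E n := by
  letI : (Curv2.bc k X k').Over (Spec (CommRingCat.of k')) := ⟨Curv2.bcSnd k X k'⟩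
  haveI : (Coh.structureModule X).IsQuasicoherent :=
    Groth.Agent.Lib.Helper23.Serre.isQuasicoherent_structureModule' X
  unfold Curv2.deg
  rw [euler_bc k X k' E,
    ← euler_eq_of_iso k' (Curv2.bc k X k')
      (Groth.Agent.Lib.Helper23.PB.pullbackUnitIso (Curv2.bcFst k X k')),
    euler_bc k X k' (Coh.structureModule X)]

end Groth.Agent.Lib.T2H6.FieldBC
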