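import Mathlib
import Groth.Prelude.Def_KLin
import Groth.Prelude.Def_RefFun
import Groth.Agent.Lib.T2H6CurveSerre
import Groth.Agent.Lib.T2H6EulerField
import Groth.Agent.Lib.T2H3HomShQCoh
import Groth.Agent.Lib.T2H4HomShGlobal

/-!
# `Hom(F, G)` is finite-dimensional for coherent modules on a proper scheme over a field (helper9)

Namespace `Groth.Agent.Lib.T2H9.HomFinite`.
-/

set_option autoImplicit false
set_option linter.style.haveILetI false
universe u

open CategoryTheory CategoryTheory.Limits AlgebraicGeometry TopologicalSpace Opposite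

namespace Groth.Agent.Lib.T2H9.HomFinite

open Groth.Agent.Lib.Helper23.GenLocus Groth.Agent.Lib.Helper23.SecTw

variable {X : Scheme.{u}} {F G : X.Modules}

theorem stalkMapₗ_add (φ ψ : F ⟶ G) (x : X) :
    RefHull.stalkMapₗ (φ + ψ) x = RefHull.stalkMapₗ φ x + RefHull.stalkMapₗ ψ x := by
  apply LinearMap.ext
  intro v
  obtain ⟨U, hx, m, rfl⟩ := TopCat.Presheaf.exists_germ_eq F.presheaf v
  rw [LinearMap.add_apply, RefHull.stalkMapₗ_germ, RefHull.stalkMapₗ_germ, RefHull.stalkMapₗ_germ,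
    ← map_add]
  rfl

theorem stalkMapₗ_smulModΓ (M : X.Modules) (r : Coh.Γtop X) (x : X) :
    RefHull.stalkMapₗ (Formal.smulModΓ M r) x =
      X.presheaf.germ ⊤ x trivial r • (LinearMap.id : RefHull.StalkHom M M x) := by
  apply LinearMap.ext
  intro v
  obtain ⟨U, hx, m, rfl⟩ := TopCat.Presheaf.exists_germ_eq M.presheaf v
  rw [RefHull.stalkMapₗ_germ, KLin.smulModΓ_app_apply, Groth.Agent.Lib.Helper2.QCoh.germ_smul,
    LinearMap.smul_apply, LinearMap.id_apply, TopCat.Presheaf.germ_res_apply]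

theorem ofHom_add (φ ψ : F ⟶ G) (U : X.Opens) :
    RefHull.ofHom (φ + ψ) U = RefHull.ofHom φ U + RefHull.ofHom ψ U :=
  Subtype.ext (funext fun x => stalkMapₗ_add φ ψ x.1)

/-- a morphism is determined by its stalk maps. -/
theorem hom_ext_stalk (φ ψ : F ⟶ G) (h : ∀ x, RefHull.stalkMapₗ φ x = RefHull.stalkMapₗ ψ x) :
    φ = ψ := by
  refine Scheme.Modules.hom_ext _ _ fun U => ?_
  ext m
  apply Groth.Agent.Lib.T2H3.HomShQCoh.sec_ext
  intro y hy
  rw [← RefHull.stalkMapₗ_germ, ← RefHull.stalkMapₗ_germ, h]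

theorem ofHom_injective : Function.Injective fun φ : F ⟶ G => RefHull.ofHom φ ⊤ := by
  intro φ ψ h
  apply hom_ext_stalk
  intro x
  have := congrArg (fun s : Γ(RefHull.homSh F G, ⊤) => s.1 ⟨x, trivial⟩) h
  exact this

/-- evaluation of a morphism `O ⟶ P` at the global section `1`. -/
noncomputable def ev1 (P : X.Modules) (σ : Coh.structureModule X ⟶ P) : Γ(P, ⊤) := σ.app ⊤ (toS ⊤ 1)

theorem ev1_injective (P : X.Modules) : Function.Injective (ev1 P) :=
  (Groth.Agent.Lib.Helper21.UnitHom.unitHomAddEquiv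
      (R := X.ringCatSheaf) (T := (⊤ : X.Opens)) isTerminalTop P).injective

theorem ev1_secHom (P : X.Modules) (s : Γ(P, ⊤)) : ev1 P (secHom P s) = s := by
  have h1 := sv_secHom P s ⊤
  rw [Groth.Agent.Lib.Helper23.SecTw.res_self] at h1
  exact h1

theorem ev1_add (P : X.Modules) (σ τ : Coh.structureModule X ⟶ P) :
    ev1 P (σ + τ) = ev1 P σ + ev1 P τ :=
  (Groth.Agent.Lib.Helper21.UnitHom.unitHomAddEquiv
      (R := X.ringCatSheaf) (T := (⊤ : X.Opens)) isTerminalTop P).map_add σ τ

variable (k : Type u) [Field k] [X.Over (Spec (CommRingCat.of k))]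

theorem ev1_smul (P : X.Modules) (c : k) (σ : Coh.structureModule X ⟶ P) :
    ev1 P (c • σ) = (show Γ(X, ⊤) from Coh.toGlobal (X ↘ Spec (CommRingCat.of k)) c) • ev1 P σ := by
  unfold ev1
  rw [KLin.smul_app_apply]
  congr 1
  exact congrFun (congrArg (fun f => (f : Γ(X, ⊤) → Γ(X, ⊤))) (congrArg (fun f => f.hom) (X.presheaf.map_id (op ⊤)))) _

theorem ofHom_smul (c : k) (φ : F ⟶ G) :
    RefHull.ofHom (c • φ) ⊤ =
      (show Γ(X, ⊤) from Coh.toGlobal (X ↘ Spec (CommRingCat.of k)) c) • RefHull.ofHom φ ⊤ := by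
  refine Subtype.ext (funext fun x => ?_)
  change RefHull.stalkMapₗ (c • φ) x.1 =
    X.presheaf.germ ⊤ x.1 x.2 (Coh.toGlobal (X ↘ Spec (CommRingCat.of k)) c) • RefHull.stalkMapₗ φ x.1
  rw [KLin.smul_def, RefFun.stalkMapₗ_comp, Formal.smulMod, stalkMapₗ_smulModΓ, LinearMap.comp_smul,
    LinearMap.comp_id]

/-- a morphism `F ⟶ G` as a global section of the sheaf Hom, linearly. -/
noncomputable def toSecHom (F G : X.Modules) :
    (F ⟶ G) →ₗ[k] (Coh.structureModule X ⟶ RefHull.homSh F G) where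
  toFun φ := secHom _ (RefHull.ofHom φ ⊤)
  map_add' φ ψ := by
    apply ev1_injective
    rw [ev1_add, ev1_secHom, ev1_secHom, ev1_secHom, ofHom_add]
  map_smul' c φ := by
    apply ev1_injective
    rw [RingHom.id_apply, ev1_smul, ev1_secHom, ev1_secHom, ofHom_smul]

theorem toSecHom_injective (F G : X.Modules) : Function.Injective (toSecHom k F G) := by
  intro φ ψ h
  apply ofHom_injective
  have := congrArg (ev1 _) h
  change ev1 _ (secHom _ _) = ev1 _ (secHom _ _) at this
  rwa [ev1_secHom, ev1_secHom] at this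

variable [IsProper (X ↘ Spec (CommRingCat.of k))]

/-- global sections, as morphisms out of the structure sheaf, are finite-dimensional. -/
theorem finite_unitHom (P : X.Modules) (hP : Coh.IsCoh P) :
    Module.Finite k (Coh.structureModule X ⟶ P) := by
  haveI := Groth.Agent.Lib.T2H6.EulerField.finite_HH k X P hP 0
  exact Module.Finite.of_injective (Groth.Agent.Lib.T2H6.CurveSerre.evLin k P)
    (Groth.Agent.Lib.T2H6.CurveSerre.bijective_evLin k P).1

/-- **Finiteness of Hom** for coherent modules on a proper scheme over a field. -/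
theorem finite_hom (F G : X.Modules) (hF : Coh.IsCoh F) (hG : Coh.IsCoh G) :
    Module.Finite k (F ⟶ G) := by
  haveI : IsLocallyNoetherian X :=
    LocallyOfFiniteType.isLocallyNoetherian (X ↘ Spec (CommRingCat.of k))
  haveI := finite_unitHom k (RefHull.homSh F G)
    (Groth.Agent.Lib.T2H3.HomShQCoh.isCoh_homSh F G hF hG)
  exact Module.Finite.of_injective (toSecHom k F G) (toSecHom_injective k F G)

end Groth.Agent.Lib.T2H9.HomFinite
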