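import Mathlib
import Groth.Prelude.Def_KLin
import Groth.Prelude.Def_RefFun
import Groth.Agent.Lib.T2H9HomFinite
import Groth.Agent.Lib.T2H9TFunGeo2
import Groth.Agent.Lib.Helper2QCoh
import Groth.Agent.Lib.Helper23FinType2

/-!
# Morphisms from a coherent module into `f^*(M~) ⊗ G` have finite support in `M` (helper9)

Namespace `Groth.Agent.Lib.T2H9.HomBC`.
-/

set_option autoImplicit false
set_option linter.style.haveILetI false
universe u

open CategoryTheory CategoryTheory.Limits AlgebraicGeometry TopologicalSpace Opposite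

namespace Groth.Agent.Lib.T2H9.HomBC

open Groth.Agent.Lib.T2H9.HomFinite Groth.Agent.Lib.T2H9.TFunGeo Groth.Agent.Lib.T2H9.EW

section ext

variable {X : Scheme.{u}} {F N : X.Modules}

/-- two morphisms out of a quasi-coherent module which agree on the sections over the members of an
affine open cover are equal. -/
theorem hom_ext_affine [F.IsQuasicoherent] (𝒰 : Set X.Opens) (h𝒰 : ∀ W ∈ 𝒰, IsAffineOpen W)
    (hcov : ∀ x : X, ∃ W ∈ 𝒰, x ∈ W) (φ φ' : F ⟶ N)
    (h : ∀ W ∈ 𝒰, ∀ s : Γ(F, W), φ.app W s = φ'.app W s) : φ = φ' := by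
  apply hom_ext_stalk
  intro x
  obtain ⟨W, hW, hxW⟩ := hcov x
  apply LinearMap.ext
  intro v
  obtain ⟨s, m, hxs, hsm⟩ := Groth.Agent.Lib.Helper2.QCoh.exists_smul_eq_germ (h𝒰 W hW) F x hxW v
  have hu : IsUnit (X.presheaf.germ W x hxW s) := (Scheme.mem_basicOpen X s x hxW).1 hxs
  have h1 : X.presheaf.germ W x hxW s • (RefHull.stalkMapₗ φ x v - RefHull.stalkMapₗ φ' x v) = 0 := by
    rw [smul_sub, ← map_smul, ← map_smul, hsm, RefHull.stalkMapₗ_germ, RefHull.stalkMapₗ_germ,
      h W hW m, sub_self]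
  exact sub_eq_zero.1 (Groth.Agent.Lib.Helper2.QCoh.germ_smul_eq_zero_of_isUnit hu h1)

end ext

section supp

variable (k : Type u) [Field k] {X : Scheme.{u}} [X.Over (Spec (CommRingCat.of k))]
  (G : X.Modules) [G.IsQuasicoherent]

/-- a section of `f^*(M~) ⊗ G` over an affine open is fixed by every endomorphism of `M` fixing a suitable
finitely generated submodule. -/
theorem exists_fg_section {W : X.Opens} (hW : IsAffineOpen W) (M : ModuleCat.{u} k)
    (t : Γ((CohIII.tensorAFunctor k G).obj M, W)) :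
    ∃ V : Submodule k M, V.FG ∧ ∀ p : M ⟶ M, (∀ v ∈ V, p.hom v = v) →
      ((CohIII.tensorAFunctor k G).map p).app W t = t := by
  classical
  obtain ⟨z, hz⟩ := (ewBij_sec k G hW M).2 t
  obtain ⟨S, hS⟩ := TensorProduct.exists_finset z
  refine ⟨Submodule.span k (S.image Prod.snd : Set M), Submodule.fg_span (Finset.finite_toSet _),
    fun p hp => ?_⟩
  have h1 := ewLin_naturality (liftA (CohIII.tensorAFunctor k G ⋙ secAb W)) p z
  have h2 : LinearMap.lTensor _ p.hom z = z := by
    rw [hS, map_sum]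
    refine Finset.sum_congr rfl fun i hi => ?_
    rw [LinearMap.lTensor_tmul, hp]
    exact Submodule.subset_span (Finset.mem_coe.2 (Finset.mem_image_of_mem _ hi))
  rw [h2, hz] at h1
  exact h1


/-- on an affine open. -/
theorem exists_fg_affine (F : X.Modules) (hF : Coh.IsCoh F) {W : X.Opens} (hW : IsAffineOpen W)
    (M : ModuleCat.{u} k) (φ : F ⟶ (CohIII.tensorAFunctor k G).obj M) :
    ∃ V : Submodule k M, V.FG ∧ ∀ p : M ⟶ M, (∀ v ∈ V, p.hom v = v) →
      ∀ s : Γ(F, W), (φ ≫ (CohIII.tensorAFunctor k G).map p).app W s = φ.app W s := by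
  classical
  haveI : F.IsQuasicoherent := hF.1
  haveI : SheafOfModules.IsFiniteType (R := X.ringCatSheaf) F := hF.2
  haveI : Module.Finite Γ(X, W) Γ(F, W) :=
    Groth.Agent.Lib.Helper23.FinType.finite_of_isFiniteType F hW
  obtain ⟨Sg, hSg⟩ := (Module.Finite.fg_top : (⊤ : Submodule Γ(X, W) Γ(F, W)).FG)
  choose V hVfg hV using fun g : Γ(F, W) => exists_fg_section k G hW M (φ.app W g)
  refine ⟨⨆ g ∈ Sg, V g, Submodule.fg_biSup Sg V (fun g _ => hVfg g), fun p hp => ?_⟩
  have hgen : ∀ g ∈ Sg, (φ ≫ (CohIII.tensorAFunctor k G).map p).app W g = φ.app W g := by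
    intro g hg
    rw [Scheme.Modules.Hom.comp_app]
    exact hV g p (fun v hv => hp v (Submodule.mem_iSup_of_mem g (Submodule.mem_iSup_of_mem hg hv)))
  intro s
  have hs : s ∈ Submodule.span Γ(X, W) (Sg : Set Γ(F, W)) := by rw [hSg]; trivial
  induction hs using Submodule.span_induction with
  | mem g hg => exact hgen g hg
  | zero => rw [map_zero, map_zero]
  | add a b _ _ ha hb => rw [map_add, map_add, ha, hb]
  | smul r a _ ha => rw [Scheme.Modules.Hom.app_smul, Scheme.Modules.Hom.app_smul, ha]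

/-- **finite support**: a morphism from a coherent module on a quasi-compact scheme into `f^*(M~) ⊗ G`
is fixed by every endomorphism of `M` fixing a suitable finitely generated submodule. -/
theorem exists_fg [CompactSpace X] (F : X.Modules) (hF : Coh.IsCoh F)
    (M : ModuleCat.{u} k) (φ : F ⟶ (CohIII.tensorAFunctor k G).obj M) :
    ∃ V : Submodule k M, V.FG ∧ ∀ p : M ⟶ M, (∀ v ∈ V, p.hom v = v) →
      φ ≫ (CohIII.tensorAFunctor k G).map p = φ := by
  classical
  haveI : F.IsQuasicoherent := hF.1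
  obtain ⟨S, hSfin, hS⟩ := (isCompact_iff_finite_and_eq_biUnion_affineOpens (U := (⊤ : X.Opens))).1
    (by simpa using isCompact_univ)
  choose V hVfg hV using fun W : X.affineOpens => exists_fg_affine k G F hF W.2 M φ
  refine ⟨⨆ W ∈ hSfin.toFinset, V W, Submodule.fg_biSup _ V (fun W _ => hVfg W), fun p hp => ?_⟩
  refine hom_ext_affine {W : X.Opens | ∃ W' ∈ S, (W' : X.Opens) = W} ?_ ?_ _ _ ?_
  · rintro W ⟨W', -, rfl⟩
    exact W'.2
  · intro x
    have hx : x ∈ (⊤ : X.Opens) := trivial
    rw [hS] at hx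
    simp only [Opens.mem_iSup] at hx
    obtain ⟨W', hW', hxW'⟩ := hx
    exact ⟨W', ⟨W', hW', rfl⟩, hxW'⟩
  · rintro W ⟨W', hW', rfl⟩ s
    exact hV W' p (fun v hv => hp v (Submodule.mem_iSup_of_mem W'
      (Submodule.mem_iSup_of_mem (hSfin.mem_toFinset.2 hW') hv))) s

end supp

section basis

variable (k : Type u) [Field k] {X : Scheme.{u}} [X.Over (Spec (CommRingCat.of k))]
  (G : X.Modules)

/-- the inclusion `G ⟶ f^*(M~) ⊗ G` attached to an element `m : M`. -/
noncomputable def inc (M : ModuleCat.{u} k) (m : M) : G ⟶ (CohIII.tensorAFunctor k G).obj M :=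
  (tensorAFunctorUnitIso k G).inv ≫ (CohIII.tensorAFunctor k G).map (θ M m)

theorem θ_one : θ (ModuleCat.of k k) (1 : k) = 𝟙 _ := by
  ext
  change (θ (ModuleCat.of k k) (1 : k)).hom (1 : k) = 1
  rw [θ_apply, one_smul]

theorem θ_zero (M : ModuleCat.{u} k) : θ M (0 : M) = 0 := by
  ext
  change (θ M 0).hom (1 : k) = 0
  rw [θ_apply, smul_zero]

/-- a linear functional kills the inclusions, up to the value of the functional. -/
theorem inc_comp (M : ModuleCat.{u} k) (m : M) (l : M ⟶ ModuleCat.of k k) :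
    inc k G M m ≫ (CohIII.tensorAFunctor k G).map l =
      (tensorAFunctorUnitIso k G).inv ≫ (CohIII.tensorAFunctor k G).map (θ (ModuleCat.of k k) (l.hom m)) := by
  unfold inc
  rw [Category.assoc, ← Functor.map_comp, θ_comp]

/-- **injectivity in basis form**. -/
theorem eq_zero_of_sum_inc_eq_zero {F : X.Modules} (M : ModuleCat.{u} k) {ι : Type*} [Fintype ι]
    (m : ι → M) (hm : LinearIndependent k m) (f : ι → (F ⟶ G))
    (h : ∑ l, f l ≫ inc k G M (m l) = 0) (j : ι) : f j = 0 := by
  classical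
  -- a functional dual to `m j`
  obtain ⟨lam, hlam⟩ : ∃ lam : M →ₗ[k] k, ∀ l, lam (m l) = if l = j then 1 else 0 := by
    obtain ⟨g, hg⟩ := LinearMap.exists_extend ((Module.Basis.span hm).coord j)
    refine ⟨g, fun l => ?_⟩
    have h1 : g (m l) = (Module.Basis.span hm).coord j (Module.Basis.span hm l) := by
      rw [← hg, LinearMap.comp_apply, Submodule.subtype_apply, Module.Basis.span_apply]
    rw [h1, Module.Basis.coord_apply, Module.Basis.repr_self, Finsupp.single_apply]
  have h1 := congrArg (fun x => x ≫ (CohIII.tensorAFunctor k G).map (ModuleCat.ofHom lam) ≫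
    (tensorAFunctorUnitIso k G).hom) h
  simp only [Preadditive.sum_comp, Category.assoc, zero_comp] at h1
  have h2 : ∀ l, f l ≫ inc k G M (m l) ≫ (CohIII.tensorAFunctor k G).map (ModuleCat.ofHom lam) ≫
      (tensorAFunctorUnitIso k G).hom = if l = j then f l else 0 := by
    intro l
    rw [← Category.assoc (inc k G M (m l)), inc_comp]
    change f l ≫ ((tensorAFunctorUnitIso k G).inv ≫
      (CohIII.tensorAFunctor k G).map (θ (ModuleCat.of k k) (lam (m l)))) ≫ _ = _
    rw [hlam]
    split_ifs with hl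
    · rw [θ_one, CategoryTheory.Functor.map_id, Category.comp_id, Iso.inv_hom_id, Category.comp_id]
    · rw [θ_zero, Functor.map_zero, comp_zero, zero_comp, comp_zero]
  simp only [h2] at h1
  rw [Finset.sum_ite_eq' Finset.univ j] at h1
  simpa using h1


variable [G.IsQuasicoherent]

/-- **surjectivity in basis form**. -/
theorem exists_sum_inc [CompactSpace X] (F : X.Modules) (hF : Coh.IsCoh F) (M : ModuleCat.{u} k)
    (φ : F ⟶ (CohIII.tensorAFunctor k G).obj M) :
    ∃ (n : ℕ) (m : Fin n → M) (f : Fin n → (F ⟶ G)), LinearIndependent k m ∧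
      φ = ∑ l, f l ≫ inc k G M (m l) := by
  classical
  obtain ⟨V, hVfg, hV⟩ := exists_fg k G F hF M φ
  haveI : Module.Finite k V := Module.Finite.iff_fg.2 hVfg
  haveI : Module.Free k V := Module.Free.of_divisionRing k V
  let b := Module.finBasis k V
  obtain ⟨g, hg⟩ := LinearMap.exists_leftInverse_of_injective V.subtype (Submodule.ker_subtype V)
  let p : M ⟶ M := ModuleCat.ofHom (V.subtype ∘ₗ g)
  have hp : ∀ v ∈ V, p.hom v = v := by
    intro v hv
    change ((V.subtype ∘ₗ g) v) = v
    have := congrArg (fun q => (q ⟨v, hv⟩ : M)) hg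
    simpa using this
  let lam : Fin (Module.finrank k V) → (M ⟶ ModuleCat.of k k) := fun l =>
    ModuleCat.ofHom (b.coord l ∘ₗ g)
  have hpsum : p = ∑ l, lam l ≫ θ M ((b l : V) : M) := by
    ext x
    change ((g x : V) : M) = (∑ l, lam l ≫ θ M ((b l : V) : M)).hom x
    rw [ModuleCat.hom_sum, LinearMap.sum_apply]
    conv_lhs => rw [← b.sum_repr (g x)]
    rw [Submodule.coe_sum]
    refine Finset.sum_congr rfl fun l _ => ?_
    change _ = (θ M ((b l : V) : M)).hom ((lam l).hom x)
    rw [θ_apply]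
    rfl
  refine ⟨Module.finrank k V, fun l => ((b l : V) : M),
    fun l => φ ≫ (CohIII.tensorAFunctor k G).map (lam l) ≫ (tensorAFunctorUnitIso k G).hom,
    b.linearIndependent.map' V.subtype (Submodule.ker_subtype V), ?_⟩
  have h1 := (hV p hp).symm
  rw [hpsum, Functor.map_sum, Preadditive.comp_sum] at h1
  refine h1.trans ?_
  refine Finset.sum_congr rfl fun l _ => ?_
  unfold inc
  simp only [Functor.map_comp, Category.assoc, Iso.hom_inv_id_assoc]

end basis

end Groth.Agent.Lib.T2H9.HomBC
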