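import Mathlib
import Groth.Prelude.Def_KLin
import Groth.Agent.Lib.T2H9HomBCA
import Groth.Agent.Lib.T2H5BCTheta

/-!
# Base change of `Hom` along a field extension (helper9)

Namespace `Groth.Agent.Lib.T2H9.HomBC`.  `X` over a field `k`, `X' = X ×_k K` with projection `g'`.
* `exists_sum_smul_pullback`: every morphism `g'^*F ⟶ g'^*G` (`F` coherent, `G` quasi-coherent, `X`
  quasi-compact) is a finite sum `∑ c_l • g'^*(f_l)` with `c_l` linearly independent over `k`.
* `eq_zero_of_sum_smul_pullback_eq_zero`: if `∑ c_l • g'^*(f_l) = 0` with the `c_l` linearly independent, all `f_l` vanish.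
* `homBC : K ⊗[k] (F ⟶ G) →+ (g'^*F ⟶ g'^*G)`, `c ⊗ f ↦ c • g'^* f`, bijective (`homBC_bijective`).
-/

set_option autoImplicit false
set_option linter.style.haveILetI false
universe u

open CategoryTheory CategoryTheory.Limits AlgebraicGeometry TopologicalSpace Opposite

namespace Groth.Agent.Lib.T2H9.HomBC

open Groth.Agent.Lib.T2H9.TFunGeo Groth.Agent.Lib.T2H9.EW Groth.Agent.Lib.T2H5.BCTheta

variable (k K : Type u) [Field k] [Field K] [Algebra k K]
  {X X' : Scheme.{u}} [X.Over (Spec (CommRingCat.of k))] [X'.Over (Spec (CommRingCat.of K))]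
  (g' : X' ⟶ X)

section smul

variable (hg : g' ≫ (X ↘ Spec (CommRingCat.of k)) =
    (X' ↘ Spec (CommRingCat.of K)) ≫ Spec.map (CommRingCat.ofHom (algebraMap k K)))

include hg in
/-- pull-back turns multiplication by `r : k` into multiplication by its image in `K`. -/
theorem pullback_map_smulMod (G : X.Modules) (r : k) :
    (Scheme.Modules.pullback g').map (Formal.smulMod k G r) =
      Formal.smulMod K ((Scheme.Modules.pullback g').obj G) (algebraMap k K r) := by
  apply ((Scheme.Modules.pullbackPushforwardAdjunction g').homEquiv _ _).injective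
  rw [Adjunction.homEquiv_unit, Adjunction.homEquiv_unit, pushforward_smulMod g' hg]
  have h1 := Groth.Agent.S9530.smulMod_comp (A := k)
      ((Scheme.Modules.pullbackPushforwardAdjunction g').unit.app G) r
  exact ((Scheme.Modules.pullbackPushforwardAdjunction g').unit.naturality
    (Formal.smulMod k G r)).symm.trans h1

include hg in
theorem pullback_map_smul {F G : X.Modules} (r : k) (f : F ⟶ G) :
    (Scheme.Modules.pullback g').map (r • f) =
      algebraMap k K r • (Scheme.Modules.pullback g').map f := by
  rw [KLin.smul_def, KLin.smul_def, Functor.map_comp, pullback_map_smulMod k K g' hg]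

end smul

/-- transposing `f ≫ mu c` gives `c • g'^* f`. -/
theorem homEquiv_symm_comp_mu {F G : X.Modules} (f : F ⟶ G) (c : K) :
    ((Scheme.Modules.pullbackPushforwardAdjunction g').homEquiv F
      ((Scheme.Modules.pullback g').obj G)).symm (f ≫ mu g' G c) =
      c • (Scheme.Modules.pullback g').map f := by
  rw [Adjunction.homEquiv_counit]
  unfold mu
  rw [Functor.map_comp, Functor.map_comp, Category.assoc, Category.assoc,
    (Scheme.Modules.pullbackPushforwardAdjunction g').counit_naturality,
    (Scheme.Modules.pullbackPushforwardAdjunction g').left_triangle_components_assoc]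
  rw [← KLin.smul_id, Linear.comp_smul, Category.comp_id]

section main

variable (h : IsPullback g' (X' ↘ Spec (CommRingCat.of K)) (X ↘ Spec (CommRingCat.of k))
  (Spec.map (CommRingCat.ofHom (algebraMap k K))))

theorem inc_comp_theta (G : X.Modules)
    (Θ : (CohIII.tensorAFunctor k G).obj (ModuleCat.of k K) ⟶ GG g' G) (hΘ : IsTheta g' G Θ) (c : K) :
    inc k G (ModuleCat.of k K) c ≫ Θ = mu g' G c := by
  have e : (CohIII.tensorAFunctor k G).map (θ (ModuleCat.of k K) c) ≫ Θ = psi k g' G c := hΘ c
  unfold inc
  rw [Category.assoc, e]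
  unfold psi
  rw [Iso.inv_hom_id_assoc]

include h in
/-- **surjectivity**: every morphism between pulled-back modules is a `K`-combination of pulled-back morphisms. -/
theorem exists_sum_smul_pullback [CompactSpace X] (F G : X.Modules) (hF : Coh.IsCoh F)
    [G.IsQuasicoherent]
    (ψ : (Scheme.Modules.pullback g').obj F ⟶ (Scheme.Modules.pullback g').obj G) :
    ∃ (n : ℕ) (c : Fin n → K) (f : Fin n → (F ⟶ G)), LinearIndependent k c ∧
      ψ = ∑ l, c l • (Scheme.Modules.pullback g').map (f l) := by
  obtain ⟨Θ, hΘ⟩ := exists_theta g' h.w G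
  haveI := isIso_theta g' G h Θ hΘ
  obtain ⟨n, c, f, hc, hφ⟩ := exists_sum_inc k G F hF (ModuleCat.of k K)
    (((Scheme.Modules.pullbackPushforwardAdjunction g').homEquiv F
      ((Scheme.Modules.pullback g').obj G)) ψ ≫ inv Θ)
  refine ⟨n, c, f, hc, ?_⟩
  have h1 : ((Scheme.Modules.pullbackPushforwardAdjunction g').homEquiv F
      ((Scheme.Modules.pullback g').obj G)) ψ = ∑ l, f l ≫ mu g' G (c l) := by
    have := congrArg (fun x => x ≫ Θ) hφ
    simp only [Category.assoc, IsIso.inv_hom_id, Category.comp_id, Preadditive.sum_comp,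
      inc_comp_theta k K g' G Θ hΘ] at this
    exact this
  have h2 := congrArg ((Scheme.Modules.pullbackPushforwardAdjunction g').homEquiv F
      ((Scheme.Modules.pullback g').obj G)).symm h1
  rw [Equiv.symm_apply_apply] at h2
  rw [h2, Adjunction.homEquiv_counit, Functor.map_sum, Preadditive.sum_comp]
  refine Finset.sum_congr rfl fun l _ => ?_
  rw [← Adjunction.homEquiv_counit, homEquiv_symm_comp_mu]

include h in
/-- **injectivity**: pulled-back morphisms with `k`-linearly independent coefficients in `K` are independent. -/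
theorem eq_zero_of_sum_smul_pullback_eq_zero (F G : X.Modules) [G.IsQuasicoherent] {ι : Type*}
    [Fintype ι] (c : ι → K) (hc : LinearIndependent k c) (f : ι → (F ⟶ G))
    (h0 : ∑ l, c l • (Scheme.Modules.pullback g').map (f l) = 0) (j : ι) : f j = 0 := by
  obtain ⟨Θ, hΘ⟩ := exists_theta g' h.w G
  haveI := isIso_theta g' G h Θ hΘ
  have h1 : ∑ l, f l ≫ mu g' G (c l) = 0 := by
    apply ((Scheme.Modules.pullbackPushforwardAdjunction g').homEquiv F
      ((Scheme.Modules.pullback g').obj G)).symm.injective
    rw [Adjunction.homEquiv_counit, Adjunction.homEquiv_counit, Functor.map_sum, Preadditive.sum_comp,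
      Functor.map_zero, zero_comp, ← h0]
    refine Finset.sum_congr rfl fun l _ => ?_
    rw [← Adjunction.homEquiv_counit, homEquiv_symm_comp_mu]
  have h2 : ∑ l, f l ≫ inc k G (ModuleCat.of k K) (c l) = 0 := by
    rw [← cancel_mono Θ, Preadditive.sum_comp, zero_comp, ← h1]
    refine Finset.sum_congr rfl fun l _ => ?_
    rw [Category.assoc, inc_comp_theta k K g' G Θ hΘ]
  exact eq_zero_of_sum_inc_eq_zero k G (ModuleCat.of k K) c hc f h2 j

end main

section tensor

open TensorProduct

variable (hg : g' ≫ (X ↘ Spec (CommRingCat.of k)) =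
    (X' ↘ Spec (CommRingCat.of K)) ≫ Spec.map (CommRingCat.ofHom (algebraMap k K)))

/-- the base change map on `Hom`: `c ⊗ f ↦ c • g'^* f`. -/
noncomputable def homBC (F G : X.Modules) :
    K ⊗[k] (F ⟶ G) →+ ((Scheme.Modules.pullback g').obj F ⟶ (Scheme.Modules.pullback g').obj G) :=
  TensorProduct.liftAddHom
    { toFun := fun c =>
        { toFun := fun f => c • (Scheme.Modules.pullback g').map f
          map_zero' := by rw [Functor.map_zero, smul_zero]
          map_add' := fun f f' => by rw [Functor.map_add, smul_add] }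
      map_zero' := AddMonoidHom.ext fun f => zero_smul K ((Scheme.Modules.pullback g').map f)
      map_add' := fun c c' =>
        AddMonoidHom.ext fun f => add_smul c c' ((Scheme.Modules.pullback g').map f) }
    (fun r c f => by
      change (r • c) • (Scheme.Modules.pullback g').map f = c • (Scheme.Modules.pullback g').map (r • f)
      rw [pullback_map_smul k K g' hg, Algebra.smul_def, mul_smul, smul_comm])

theorem homBC_tmul (F G : X.Modules) (c : K) (f : F ⟶ G) :
    homBC k K g' hg F G (c ⊗ₜ f) = c • (Scheme.Modules.pullback g').map f := rfl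

/-- multiplicativity of the base change map. -/
theorem homBC_comp (F G H : X.Modules) (c d : K) (f : F ⟶ G) (g : G ⟶ H) :
    homBC k K g' hg F G (c ⊗ₜ f) ≫ homBC k K g' hg G H (d ⊗ₜ g) =
      homBC k K g' hg F H ((c * d) ⊗ₜ (f ≫ g)) := by
  rw [homBC_tmul, homBC_tmul, homBC_tmul, Linear.smul_comp, Linear.comp_smul, Functor.map_comp,
    mul_smul]

variable (h : IsPullback g' (X' ↘ Spec (CommRingCat.of K)) (X ↘ Spec (CommRingCat.of k))
  (Spec.map (CommRingCat.ofHom (algebraMap k K))))

include h in
theorem homBC_surjective [CompactSpace X] (F G : X.Modules) (hF : Coh.IsCoh F) [G.IsQuasicoherent] :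
    Function.Surjective (homBC k K g' h.w F G) := by
  intro ψ
  obtain ⟨n, c, f, -, hψ⟩ := exists_sum_smul_pullback k K g' h F G hF ψ
  refine ⟨∑ l, c l ⊗ₜ f l, ?_⟩
  rw [map_sum, hψ]
  rfl

include h in
theorem homBC_injective (F G : X.Modules) [G.IsQuasicoherent] :
    Function.Injective (homBC k K g' h.w F G) := by
  classical
  rw [injective_iff_map_eq_zero]
  intro z hz
  let β := Module.Basis.ofVectorSpace k K
  obtain ⟨c, rfl⟩ := TensorProduct.eq_repr_basis_left β z
  have h1 : ∑ i : c.support, β i.1 • (Scheme.Modules.pullback g').map (c i.1) = 0 := by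
    rw [← hz, Finsupp.sum, map_sum,
      Finset.sum_coe_sort c.support (fun i => β i • (Scheme.Modules.pullback g').map (c i))]
    rfl
  have h2 : ∀ i : c.support, c i.1 = 0 :=
    eq_zero_of_sum_smul_pullback_eq_zero k K g' h F G (fun i : c.support => β i.1)
      (β.linearIndependent.comp _ Subtype.val_injective) (fun i => c i.1) h1
  have h3 : c = 0 := by
    refine Finsupp.ext fun i => ?_
    by_cases hi : i ∈ c.support
    · exact h2 ⟨i, hi⟩
    · exact Finsupp.notMem_support_iff.1 hi
  rw [h3, Finsupp.sum_zero_index]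

include h in
/-- **Base change of `Hom`** along a field extension. -/
theorem homBC_bijective [CompactSpace X] (F G : X.Modules) (hF : Coh.IsCoh F) [G.IsQuasicoherent] :
    Function.Bijective (homBC k K g' h.w F G) :=
  ⟨homBC_injective k K g' h F G, homBC_surjective k K g' h F G hF⟩

end tensor

end Groth.Agent.Lib.T2H9.HomBC
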