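import Mathlib

set_option autoImplicit false
universe u v

open Polynomial

namespace Groth.Agent.Lib.T2H9.KS

section Ring

variable {k : Type*} {R : Type*} [Field k] [Ring R] [Algebra k R]

theorem commute_aeval (f : R) (p : k[X]) : Commute f (aeval f p) := by
  have h := (Commute.all (X : k[X]) p).map (aeval f)
  rwa [aeval_X] at h

/-- In an algebra over a field whose only idempotents are `0` and `1`, every algebraic element is a
unit or nilpotent. -/
theorem isUnit_or_isNilpotent_of_isIntegral (hid : ∀ e : R, e * e = e → e = 0 ∨ e = 1) (f : R)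
    (hf : IsIntegral k f) : IsUnit f ∨ IsNilpotent f := by
  classical
  set μ := minpoly k f with hμ
  have hμ0 : μ ≠ 0 := minpoly.ne_zero hf
  have hμf : aeval f μ = 0 := minpoly.aeval k f
  obtain ⟨q, hq, hXq⟩ := Polynomial.exists_eq_pow_rootMultiplicity_mul_and_not_dvd μ hμ0 0
  set m := μ.rootMultiplicity 0 with hm
  rw [C_0, sub_zero] at hq hXq
  have hcop : IsCoprime (X ^ m : k[X]) q :=
    IsCoprime.pow_left ((Polynomial.irreducible_X.coprime_iff_not_dvd).2 hXq)
  obtain ⟨a, b, hab⟩ := hcop
  -- the idempotent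
  have hidem : aeval f (b * q) * aeval f (b * q) = aeval f (b * q) := by
    have h1 : (b * q) * (b * q) = b * q - (a * b) * μ := by
      have : b * q = 1 - a * X ^ m := by rw [← hab]; ring
      rw [hq]
      calc (b * q) * (b * q) = (b * q) * (1 - a * X ^ m) := by rw [← this]
        _ = b * q - a * b * (X ^ m * q) := by ring
    rw [← map_mul, h1, map_sub, map_mul _ (a * b) μ, hμf, mul_zero, sub_zero]
  have hsum : aeval f (a * X ^ m) + aeval f (b * q) = 1 := by
    rw [← map_add, hab, map_one]
  rcases hid _ hidem with h0 | h1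
  · -- `(a X^m)(f) = 1`
    left
    rw [h0, add_zero] at hsum
    by_cases hm0 : m = 0
    · -- `X ∤ μ`, constant coefficient nonzero
      have hc : μ.coeff 0 ≠ 0 := by
        intro hc
        apply hXq
        have : X ∣ μ := Polynomial.X_dvd_iff.2 hc
        rw [hq, hm0, pow_zero, one_mul] at this
        exact this
      have h2 : f * aeval f (divX μ) = - algebraMap k R (μ.coeff 0) := by
        have h3 : aeval f (X * divX μ + C (μ.coeff 0)) = 0 := by
          rw [Polynomial.X_mul_divX_add, hμf]
        rw [map_add, map_mul, aeval_X, aeval_C] at h3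
        exact eq_neg_of_add_eq_zero_left h3
      have hu : IsUnit (algebraMap k R (μ.coeff 0)) := (IsUnit.mk0 _ hc).map _
      have hu' : IsUnit (f * aeval f (divX μ)) := by rw [h2]; exact hu.neg
      exact ((commute_aeval f _).isUnit_mul_iff.1 hu').1
    · obtain ⟨m', hm'⟩ := Nat.exists_eq_succ_of_ne_zero hm0
      have h2 : f * aeval f (X ^ m' * a) = 1 := by
        have h3 : aeval f (X * (X ^ m' * a)) = 1 := by
          rw [← hsum, hm', show X * (X ^ m' * a) = a * X ^ m'.succ by rw [pow_succ]; ring]
        rwa [map_mul, aeval_X] at h3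
      have hu' : IsUnit (f * aeval f (X ^ m' * a)) := by rw [h2]; exact isUnit_one
      exact ((commute_aeval f _).isUnit_mul_iff.1 hu').1
  · right
    refine ⟨m, ?_⟩
    have : f ^ m = aeval f (X ^ m : k[X]) * aeval f (b * q) := by
      rw [h1, mul_one, map_pow, aeval_X]
    rw [this, ← map_mul, show (X ^ m : k[X]) * (b * q) = b * μ by rw [hq]; ring, map_mul, hμf, mul_zero]

/-- A nontrivial algebraic algebra over a field with only trivial idempotents is a local ring. -/
theorem isLocalRing_of_trivial_idempotents [Nontrivial R] [Algebra.IsIntegral k R]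
    (hid : ∀ e : R, e * e = e → e = 0 ∨ e = 1) : IsLocalRing R := by
  refine IsLocalRing.of_isUnit_or_isUnit_of_isUnit_add fun a b hab => ?_
  by_contra hcon
  obtain ⟨ha, hb⟩ := not_or.1 hcon
  obtain ⟨u, hu⟩ := hab
  -- `u⁻¹ a + u⁻¹ b = 1`
  have h1 : (↑u⁻¹ : R) * a + ↑u⁻¹ * b = 1 := by
    rw [← mul_add, ← hu, Units.inv_mul]
  have ha' : ¬ IsUnit ((↑u⁻¹ : R) * a) := fun h => ha (by
    have := (u.isUnit.mul h)
    rwa [← mul_assoc, Units.mul_inv, one_mul] at this)
  have hnil : IsNilpotent ((↑u⁻¹ : R) * a) :=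
    (isUnit_or_isNilpotent_of_isIntegral hid _ (Algebra.IsIntegral.isIntegral (R := k) _)).resolve_left ha'
  have hb' : IsUnit ((↑u⁻¹ : R) * b) := by
    have : (↑u⁻¹ : R) * b = 1 - ↑u⁻¹ * a := by rw [← h1]; abel
    rw [this]
    exact hnil.isUnit_one_sub
  apply hb
  have := (u.isUnit.mul hb')
  rwa [← mul_assoc, Units.mul_inv, one_mul] at this

/-- in a local ring, if a finite sum is a unit then some term is a unit. -/
theorem exists_isUnit_of_isUnit_sum [IsLocalRing R] {ι : Type*} (s : Finset ι) (g : ι → R)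
    (h : IsUnit (∑ i ∈ s, g i)) : ∃ i ∈ s, IsUnit (g i) := by
  classical
  induction s using Finset.induction_on with
  | empty =>
    rw [Finset.sum_empty] at h
    exact absurd h not_isUnit_zero
  | insert i s hi ih =>
    rw [Finset.sum_insert hi] at h
    rcases IsLocalRing.isUnit_or_isUnit_of_isUnit_add h with h1 | h2
    · exact ⟨i, Finset.mem_insert_self _ _, h1⟩
    · obtain ⟨j, hj, hj'⟩ := ih h2
      exact ⟨j, Finset.mem_insert_of_mem hj, hj'⟩

end Ring

end Groth.Agent.Lib.T2H9.KS
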