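import Mathlib
import Groth.Agent.Lib.T2H9KSRing

/-!
# Krull–Schmidt in linear categories with finite-dimensional endomorphism algebras (helper9)

Namespace `Groth.Agent.Lib.T2H9.KS`.
* `Indec F`: indecomposable, in the form used by the statements.
* `isLocalRing_end`: Fitting's lemma.
* `uniq`: uniqueness of decompositions into objects with local endomorphism rings.
* `exists_decomp`: existence of a decomposition into indecomposables.
-/

set_option autoImplicit false
set_option linter.style.haveILetI false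
universe u v

open CategoryTheory CategoryTheory.Limits

namespace Groth.Agent.Lib.T2H9.KS

section Cat

variable {C : Type u} [Category.{v} C] [Preadditive C]

/-- indecomposable, in the form used by the statements. -/
def Indec [HasBinaryBiproducts C] (F : C) : Prop :=
  ¬ IsZero F ∧ ∀ A B : C, Nonempty (F ≅ A ⊞ B) → IsZero A ∨ IsZero B

theorem Indec.of_iso [HasBinaryBiproducts C] {F G : C} (e : F ≅ G) (hF : Indec F) : Indec G :=
  ⟨fun h => hF.1 (h.of_iso e), fun A B ⟨φ⟩ => hF.2 A B ⟨e ≪≫ φ⟩⟩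

/-- idempotents of an indecomposable object are trivial. -/
theorem idem_trivial [HasBinaryBiproducts C] [IsIdempotentComplete C] {F : C} (hF : Indec F)
    (e : F ⟶ F) (he : e ≫ e = e) : e = 0 ∨ e = 𝟙 F := by
  obtain ⟨Y, i, p, hip, hpi⟩ := IsIdempotentComplete.idempotents_split F e he
  have e1 : e ≫ (𝟙 F - e) = 0 := by simp [Preadditive.comp_sub, he]
  have e2 : (𝟙 F - e) ≫ e = 0 := by simp [Preadditive.sub_comp, he]
  have he' : (𝟙 F - e) ≫ (𝟙 F - e) = 𝟙 F - e := by
    rw [Preadditive.comp_sub, Category.comp_id, e2, sub_zero]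
  obtain ⟨Y', i', p', hip', hpi'⟩ := IsIdempotentComplete.idempotents_split F (𝟙 F - e) he'
  have h1 : i ≫ p' = 0 := by
    calc i ≫ p' = (i ≫ p) ≫ i ≫ p' ≫ (i' ≫ p') := by
          rw [hip, hip', Category.id_comp, Category.comp_id]
      _ = i ≫ (p ≫ i) ≫ (p' ≫ i') ≫ p' := by simp only [Category.assoc]
      _ = 0 := by rw [hpi, hpi', reassoc_of% e1, zero_comp, comp_zero]
  have h2 : i' ≫ p = 0 := by
    calc i' ≫ p = (i' ≫ p') ≫ i' ≫ p ≫ (i ≫ p) := by
          rw [hip, hip', Category.id_comp, Category.comp_id]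
      _ = i' ≫ (p' ≫ i') ≫ (p ≫ i) ≫ p := by simp only [Category.assoc]
      _ = 0 := by rw [hpi, hpi', reassoc_of% e2, zero_comp, comp_zero]
  let φ : F ≅ Y ⊞ Y' :=
    { hom := biprod.lift p p'
      inv := biprod.desc i i'
      hom_inv_id := by rw [biprod.lift_desc, hpi, hpi']; abel
      inv_hom_id := by
        ext <;> simp [hip, hip', h1, h2] }
  rcases hF.2 Y Y' ⟨φ⟩ with h | h
  · left
    rw [← hpi, h.eq_of_src i 0, comp_zero]
  · right
    have : 𝟙 F - e = 0 := by rw [← hpi', h.eq_of_src i' 0, comp_zero]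
    exact (sub_eq_zero.1 this).symm

variable (k : Type*) [Field k] [Linear k C]

/-- **Fitting**: the endomorphism ring of an indecomposable object with finite-dimensional
endomorphism algebra is local. -/
theorem isLocalRing_end [HasBinaryBiproducts C] [IsIdempotentComplete C] {F : C} (hF : Indec F)
    [Module.Finite k (End F)] : IsLocalRing (End F) := by
  haveI : Nontrivial (End F) := ⟨⟨𝟙 F, 0, fun h => hF.1 ((IsZero.iff_id_eq_zero F).2 h)⟩⟩
  haveI : Algebra.IsIntegral k (End F) := Algebra.IsIntegral.of_finite k (End F)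
  exact isLocalRing_of_trivial_idempotents (k := k) fun e he => by
    rcases idem_trivial hF e he with h | h
    · exact Or.inl h
    · exact Or.inr h

end Cat

section Retract

variable {C : Type u} [Category.{v} C] [Preadditive C] (k : Type*) [Field k] [Linear k C]

/-- endomorphisms of a retract, inside the endomorphisms of the ambient object. -/
def retractMap {A F : C} (i : A ⟶ F) (p : F ⟶ A) : End A →ₗ[k] End F where
  toFun := fun a => p ≫ a ≫ i
  map_add' := fun a b => by
    change p ≫ (a + b) ≫ i = p ≫ a ≫ i + p ≫ b ≫ i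
    rw [Preadditive.add_comp, Preadditive.comp_add]
  map_smul' := fun c a => by
    change p ≫ (c • a) ≫ i = c • (p ≫ a ≫ i)
    rw [Linear.smul_comp, Linear.comp_smul]

theorem retractMap_apply {A F : C} (i : A ⟶ F) (p : F ⟶ A) (a : End A) :
    retractMap k i p a = p ≫ a ≫ i := rfl

theorem retractMap_injective {A F : C} (i : A ⟶ F) (p : F ⟶ A) (hip : i ≫ p = 𝟙 A) :
    Function.Injective (retractMap k i p) := by
  intro a b hab
  have h : p ≫ a ≫ i = p ≫ b ≫ i := hab
  have h2 := congrArg (fun x => i ≫ x ≫ p) h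
  simp only [Category.assoc, hip, Category.comp_id, reassoc_of% hip] at h2
  exact h2

/-- endomorphisms of a retract are finite-dimensional. -/
theorem finite_end_of_retract {A F : C} (i : A ⟶ F) (p : F ⟶ A) (hip : i ≫ p = 𝟙 A)
    [Module.Finite k (End F)] : Module.Finite k (End A) :=
  Module.Finite.of_injective (retractMap k i p) (retractMap_injective k i p hip)

/-- a retract with a nonzero complementary retract has strictly smaller endomorphism algebra. -/
theorem finrank_end_lt {A B F : C} (i : A ⟶ F) (p : F ⟶ A) (hip : i ≫ p = 𝟙 A)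
    (i' : B ⟶ F) (p' : F ⟶ B) (hip' : i' ≫ p' = 𝟙 B) (h0 : i' ≫ p = 0) (hB : ¬ IsZero B)
    [Module.Finite k (End F)] : Module.finrank k (End A) < Module.finrank k (End F) := by
  have hne : LinearMap.range (retractMap k i p) ≠ ⊤ := by
    intro htop
    have h1 : (𝟙 F : End F) ∈ LinearMap.range (retractMap k i p) := by rw [htop]; trivial
    obtain ⟨a, ha⟩ := h1
    rw [retractMap_apply] at ha
    apply hB
    rw [IsZero.iff_id_eq_zero, ← hip']
    have : i' ≫ p' = i' ≫ (p ≫ a ≫ i) ≫ p' := by rw [ha, Category.id_comp]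
    rw [this]
    simp only [Category.assoc]
    rw [reassoc_of% h0, zero_comp]
  rw [← LinearMap.finrank_range_of_inj (retractMap_injective k i p hip)]
  exact Submodule.finrank_lt hne

end Retract

section Uniq

variable {C : Type u} [Category.{v} C] [Preadditive C] [HasFiniteBiproducts C] [HasBinaryBiproducts C]

/-- in a local ring an idempotent is `0` or `1`. -/
theorem idem_of_isLocalRing {R : Type*} [Ring R] [IsLocalRing R] (e : R) (he : e * e = e) :
    e = 0 ∨ e = 1 := by
  rcases IsLocalRing.isUnit_or_isUnit_of_add_one (add_sub_cancel e 1) with h | h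
  · right
    obtain ⟨u, rfl⟩ := h
    have : (↑u⁻¹ : R) * (↑u * ↑u) = ↑u⁻¹ * ↑u := by rw [he]
    rwa [← mul_assoc, Units.inv_mul, one_mul] at this
  · left
    obtain ⟨u, hu⟩ := h
    have h1 : e * (1 - e) = 0 := by rw [mul_sub, mul_one, he, sub_self]
    rw [← hu] at h1
    have : e * ↑u * ↑u⁻¹ = 0 := by rw [h1, zero_mul]
    rwa [mul_assoc, Units.mul_inv, mul_one] at this

omit [HasBinaryBiproducts C] in
/-- the biproduct over an empty type is zero. -/
theorem isZero_biproduct_of_isEmpty {ι : Type} [Finite ι] [IsEmpty ι] (F : ι → C) : IsZero (⨁ F) := by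
  rw [IsZero.iff_id_eq_zero]
  exact biproduct.hom_ext _ _ fun j => isEmptyElim j

omit [HasBinaryBiproducts C] in
/-- some matrix entry out of a local summand is an isomorphism. -/
theorem exists_isIso_entry {ι κ : Type} [Fintype ι] [Fintype κ] (F : ι → C) (G : κ → C)
    (hG : ∀ j, IsLocalRing (End (G j))) (φ : ⨁ F ≅ ⨁ G) (i₀ : ι) [IsLocalRing (End (F i₀))] :
    ∃ j₀, IsIso (biproduct.ι F i₀ ≫ φ.hom ≫ biproduct.π G j₀) := by
  classical
  set α : ∀ j, F i₀ ⟶ G j := fun j => biproduct.ι F i₀ ≫ φ.hom ≫ biproduct.π G j with hα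
  set β : ∀ j, G j ⟶ F i₀ := fun j => biproduct.ι G j ≫ φ.inv ≫ biproduct.π F i₀ with hβ
  have hsum : ∑ j, (show End (F i₀) from α j ≫ β j) = 1 := by
    have h1 : ∀ j, α j ≫ β j =
        (biproduct.ι F i₀ ≫ φ.hom) ≫ (biproduct.π G j ≫ biproduct.ι G j) ≫ (φ.inv ≫ biproduct.π F i₀) := by
      intro j
      simp only [hα, hβ, Category.assoc]
    change ∑ j, (α j ≫ β j) = 𝟙 (F i₀)
    simp only [h1]
    rw [← Preadditive.comp_sum, ← Preadditive.sum_comp, biproduct.total, Category.id_comp,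
      Category.assoc, Iso.hom_inv_id_assoc, biproduct.ι_π_self]
  obtain ⟨j₀, -, hj₀⟩ := exists_isUnit_of_isUnit_sum Finset.univ
    (fun j => (show End (F i₀) from α j ≫ β j)) (by rw [hsum]; exact isUnit_one)
  have hiso : IsIso (α j₀ ≫ β j₀) := (isUnit_iff_isIso _).1 hj₀
  refine ⟨j₀, ?_⟩
  change IsIso (α j₀)
  set γ := inv (α j₀ ≫ β j₀) with hγ
  have hγ1 : γ ≫ α j₀ ≫ β j₀ = 𝟙 _ := IsIso.inv_hom_id _
  have hγ2 : (α j₀ ≫ β j₀) ≫ γ = 𝟙 _ := IsIso.hom_inv_id _
  haveI := hG j₀
  have hidem : ((show End (G j₀) from β j₀ ≫ γ ≫ α j₀) * (show End (G j₀) from β j₀ ≫ γ ≫ α j₀)) = (show End (G j₀) from β j₀ ≫ γ ≫ α j₀) := by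
    change (β j₀ ≫ γ ≫ α j₀) ≫ (β j₀ ≫ γ ≫ α j₀) = β j₀ ≫ γ ≫ α j₀
    simp only [Category.assoc]
    rw [reassoc_of% hγ1]
  rcases idem_of_isLocalRing _ hidem with h0 | h1
  · exfalso
    have h0' : β j₀ ≫ γ ≫ α j₀ = 0 := h0
    have h2 : (α j₀ ≫ β j₀) ≫ γ ≫ (α j₀ ≫ β j₀) = 0 := by
      have := congrArg (fun x => α j₀ ≫ x ≫ β j₀) h0'
      simpa only [Category.assoc, comp_zero, zero_comp] using this
    rw [hγ1, Category.comp_id] at h2
    have h3 : (𝟙 (F i₀) : F i₀ ⟶ F i₀) = 0 := by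
      rw [← hγ2, h2, zero_comp]
    have : (1 : End (F i₀)) = 0 := h3
    exact one_ne_zero this
  · have h1' : β j₀ ≫ γ ≫ α j₀ = 𝟙 _ := h1
    exact ⟨⟨β j₀ ≫ γ, by rw [← Category.assoc]; exact hγ2, by rw [Category.assoc]; exact h1'⟩⟩

/-- splitting off one summand. -/
noncomputable def splitIso {ι : Type} [Fintype ι] [DecidableEq ι] (F : ι → C) (i₀ : ι) :
    ⨁ F ≅ F i₀ ⊞ ⨁ (Subtype.restrict (fun i => i ≠ i₀) F) where
  hom := biprod.lift (biproduct.π F i₀) (biproduct.toSubtype F (fun i => i ≠ i₀))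
  inv := biprod.desc (biproduct.ι F i₀) (biproduct.fromSubtype F (fun i => i ≠ i₀))
  hom_inv_id := by
    rw [biprod.lift_desc, biproduct.toSubtype_fromSubtype]
    refine biproduct.hom_ext' _ _ fun i => ?_
    rw [Preadditive.comp_add, Category.comp_id, biproduct.ι_map]
    by_cases h : i = i₀
    · subst h
      simp
    · rw [if_pos h, Category.id_comp, biproduct.ι_π_ne_assoc _ h, zero_comp, zero_add]
  inv_hom_id := by
    apply biprod.hom_ext' <;> apply biprod.hom_ext
    · simp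
    · simp
    · rw [biprod.inr_desc_assoc, Category.assoc, biprod.lift_fst, Category.comp_id, biprod.inr_fst,
        biproduct.fromSubtype_π, dif_neg (not_not.2 rfl)]
    · rw [biprod.inr_desc_assoc, Category.assoc, biprod.lift_snd, Category.comp_id, biprod.inr_snd,
        biproduct.fromSubtype_toSubtype]

theorem inl_splitIso_inv {ι : Type} [Fintype ι] [DecidableEq ι] (F : ι → C) (i₀ : ι) :
    biprod.inl ≫ (splitIso F i₀).inv = biproduct.ι F i₀ := by
  simp [splitIso]

theorem splitIso_hom_fst {ι : Type} [Fintype ι] [DecidableEq ι] (F : ι → C) (i₀ : ι) :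
    (splitIso F i₀).hom ≫ biprod.fst = biproduct.π F i₀ := by
  simp [splitIso]

/-- cancellation of a pair of summands matched by an invertible matrix entry. -/
theorem cancel {ι κ : Type} [Fintype ι] [Fintype κ] [DecidableEq ι] [DecidableEq κ] (F : ι → C)
    (G : κ → C) (φ : ⨁ F ≅ ⨁ G) (i₀ : ι) (j₀ : κ)
    (h : IsIso (biproduct.ι F i₀ ≫ φ.hom ≫ biproduct.π G j₀)) :
    Nonempty (⨁ (Subtype.restrict (fun i => i ≠ i₀) F) ≅ ⨁ (Subtype.restrict (fun j => j ≠ j₀) G)) := by
  let Φ : F i₀ ⊞ ⨁ (Subtype.restrict (fun i => i ≠ i₀) F) ≅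
      G j₀ ⊞ ⨁ (Subtype.restrict (fun j => j ≠ j₀) G) :=
    (splitIso F i₀).symm ≪≫ φ ≪≫ splitIso G j₀
  haveI : IsIso (biprod.inl ≫ Φ.hom ≫ biprod.fst) := by
    have : biprod.inl ≫ Φ.hom ≫ biprod.fst = biproduct.ι F i₀ ≫ φ.hom ≫ biproduct.π G j₀ := by
      change biprod.inl ≫ ((splitIso F i₀).inv ≫ φ.hom ≫ (splitIso G j₀).hom) ≫ biprod.fst = _
      simp only [Category.assoc]
      rw [splitIso_hom_fst, reassoc_of% (inl_splitIso_inv F i₀)]
    rw [this]
    exact h
  exact ⟨Biprod.isoElim Φ⟩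

theorem uniq_aux : ∀ (n : ℕ) {ι κ : Type} [Fintype ι] [Fintype κ] (F : ι → C) (G : κ → C),
    Fintype.card ι = n → (∀ i, IsLocalRing (End (F i))) → (∀ j, IsLocalRing (End (G j))) →
    (⨁ F ≅ ⨁ G) → ∃ e : ι ≃ κ, ∀ i, Nonempty (F i ≅ G (e i)) := by
  classical
  intro n
  induction n with
  | zero =>
    intro ι κ _ _ F G hn hF hG φ
    haveI : IsEmpty ι := Fintype.card_eq_zero_iff.1 hn
    have hz : IsZero (⨁ G) := (isZero_biproduct_of_isEmpty F).of_iso φ.symm
    haveI : IsEmpty κ := by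
      refine ⟨fun j => ?_⟩
      haveI := hG j
      have h1 : (𝟙 (G j) : G j ⟶ G j) = 0 := by
        rw [← biproduct.ι_π_self G j, hz.eq_of_tgt (biproduct.ι G j) 0, zero_comp]
      have : (1 : End (G j)) = 0 := h1
      exact one_ne_zero this
    exact ⟨Equiv.equivOfIsEmpty ι κ, fun i => isEmptyElim i⟩
  | succ n ih =>
    intro ι κ _ _ F G hn hF hG φ
    have hpos : 0 < Fintype.card ι := by rw [hn]; exact Nat.succ_pos n
    obtain ⟨i₀⟩ := Fintype.card_pos_iff.1 hpos
    haveI := hF i₀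
    obtain ⟨j₀, hj₀⟩ := exists_isIso_entry F G hG φ i₀
    obtain ⟨φ'⟩ := cancel F G φ i₀ j₀ hj₀
    have hcard : Fintype.card {i // i ≠ i₀} = n := by
      have := Fintype.card_congr (Equiv.optionSubtypeNe i₀)
      rw [Fintype.card_option, hn] at this
      exact Nat.succ_injective this
    obtain ⟨e', he'⟩ := ih (Subtype.restrict (fun i => i ≠ i₀) F) (Subtype.restrict (fun j => j ≠ j₀) G)
      hcard (fun i => hF i.1) (fun j => hG j.1) φ'
    refine ⟨(Equiv.optionSubtypeNe i₀).symm.trans ((Equiv.optionCongr e').trans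
      (Equiv.optionSubtypeNe j₀)), fun i => ?_⟩
    by_cases h : i = i₀
    · subst h
      haveI := hj₀
      simp only [Equiv.trans_apply, Equiv.optionSubtypeNe_symm_self, Equiv.optionCongr_apply,
        Option.map_none, Equiv.optionSubtypeNe_none]
      exact ⟨asIso (biproduct.ι F i ≫ φ.hom ≫ biproduct.π G j₀)⟩
    · simp only [Equiv.trans_apply, Equiv.optionSubtypeNe_symm_of_ne h, Equiv.optionCongr_apply,
        Option.map_some, Equiv.optionSubtypeNe_some]
      exact he' ⟨i, h⟩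

/-- **Krull–Schmidt, uniqueness**: two decompositions into objects with local endomorphism rings
agree up to a bijection of the index sets. -/
theorem uniq {ι κ : Type} [Fintype ι] [Fintype κ] (F : ι → C) (G : κ → C)
    (hF : ∀ i, IsLocalRing (End (F i))) (hG : ∀ j, IsLocalRing (End (G j))) (φ : ⨁ F ≅ ⨁ G) :
    ∃ e : ι ≃ κ, ∀ i, Nonempty (F i ≅ G (e i)) :=
  uniq_aux _ F G rfl hF hG φ

end Uniq

section Exist

variable {C : Type u} [Category.{v} C] [Preadditive C] [HasFiniteBiproducts C] [HasBinaryBiproducts C]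

/-- components of the inverse of `sumIso`. -/
noncomputable def sumInvFam {ι κ : Type} [Fintype ι] [Fintype κ] (f : ι → C) (g : κ → C) :
    ∀ s, Sum.elim f g s ⟶ (⨁ f) ⊞ (⨁ g)
  | Sum.inl i => biproduct.ι f i ≫ biprod.inl
  | Sum.inr j => biproduct.ι g j ≫ biprod.inr

/-- the biproduct of two finite biproducts is the biproduct over the sum type. -/
noncomputable def sumIso {ι κ : Type} [Fintype ι] [Fintype κ] (f : ι → C) (g : κ → C) :
    (⨁ f) ⊞ (⨁ g) ≅ ⨁ (Sum.elim f g) where
  hom := biprod.desc (biproduct.desc fun i => biproduct.ι (Sum.elim f g) (Sum.inl i))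
    (biproduct.desc fun j => biproduct.ι (Sum.elim f g) (Sum.inr j))
  inv := biproduct.desc (sumInvFam f g)
  hom_inv_id := by
    apply biprod.hom_ext'
    · refine biproduct.hom_ext' _ _ fun i => ?_
      rw [biprod.inl_desc_assoc, biproduct.ι_desc_assoc, Category.comp_id]
      exact biproduct.ι_desc (sumInvFam f g) (Sum.inl i)
    · refine biproduct.hom_ext' _ _ fun j => ?_
      rw [biprod.inr_desc_assoc, biproduct.ι_desc_assoc, Category.comp_id]
      exact biproduct.ι_desc (sumInvFam f g) (Sum.inr j)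
  inv_hom_id := by
    refine biproduct.hom_ext' _ _ fun s => ?_
    rw [biproduct.ι_desc_assoc, Category.comp_id]
    rcases s with i | j
    · change (biproduct.ι f i ≫ biprod.inl) ≫ _ = _
      rw [Category.assoc, biprod.inl_desc, biproduct.ι_desc]
    · change (biproduct.ι g j ≫ biprod.inr) ≫ _ = _
      rw [Category.assoc, biprod.inr_desc, biproduct.ι_desc]

variable (k : Type*) [Field k] [Linear k C]

theorem exists_decomp_aux : ∀ (d : ℕ) (F : C) [Module.Finite k (End F)],
    Module.finrank k (End F) = d → ∃ (ι : Type) (_ : Fintype ι) (Fs : ι → C),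
      (∀ i, Indec (Fs i)) ∧ Nonempty (F ≅ ⨁ Fs) := by
  intro d
  induction d using Nat.strong_induction_on with
  | _ d ih =>
    intro F _ hd
    by_cases hz : IsZero F
    · exact ⟨PEmpty, inferInstance, fun i => i.elim, fun i => i.elim,
        ⟨hz.iso (by
          rw [IsZero.iff_id_eq_zero]
          exact biproduct.hom_ext _ _ fun j => j.elim)⟩⟩
    by_cases hi : Indec F
    · exact ⟨PUnit, inferInstance, fun _ => F, fun _ => hi, ⟨(biproductUniqueIso (fun _ : PUnit => F)).symm⟩⟩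
    · have : ∃ A B : C, Nonempty (F ≅ A ⊞ B) ∧ ¬ IsZero A ∧ ¬ IsZero B := by
        by_contra hcon
        apply hi
        refine ⟨hz, fun A B hAB => ?_⟩
        by_contra h2
        rw [not_or] at h2
        exact hcon ⟨A, B, hAB, h2.1, h2.2⟩
      obtain ⟨A, B, ⟨φ⟩, hA, hB⟩ := this
      have hA' : (biprod.inl ≫ φ.inv) ≫ (φ.hom ≫ biprod.fst) = 𝟙 A := by simp
      have hB' : (biprod.inr ≫ φ.inv) ≫ (φ.hom ≫ biprod.snd) = 𝟙 B := by simp
      have hBA : (biprod.inr ≫ φ.inv) ≫ (φ.hom ≫ biprod.fst) = (0 : B ⟶ A) := by simp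
      have hAB : (biprod.inl ≫ φ.inv) ≫ (φ.hom ≫ biprod.snd) = (0 : A ⟶ B) := by simp
      haveI := finite_end_of_retract k _ _ hA'
      haveI := finite_end_of_retract k _ _ hB'
      have hltA : Module.finrank k (End A) < d := by
        rw [← hd]
        exact finrank_end_lt k _ _ hA' _ _ hB' hBA hB
      have hltB : Module.finrank k (End B) < d := by
        rw [← hd]
        exact finrank_end_lt k _ _ hB' _ _ hA' hAB hA
      obtain ⟨ι, _, As, hAs, ⟨eA⟩⟩ := ih _ hltA A rfl
      obtain ⟨κ, _, Bs, hBs, ⟨eB⟩⟩ := ih _ hltB B rfl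
      refine ⟨ι ⊕ κ, inferInstance, Sum.elim As Bs, ?_, ⟨φ ≪≫ biprod.mapIso eA eB ≪≫ sumIso As Bs⟩⟩
      rintro (i | j)
      · exact hAs i
      · exact hBs j

/-- **Krull–Schmidt, existence**: an object with finite-dimensional endomorphism algebra is a finite
direct sum of indecomposable objects. -/
theorem exists_decomp (F : C) [Module.Finite k (End F)] :
    ∃ (n : ℕ) (Fs : Fin n → C), (∀ i, Indec (Fs i)) ∧ Nonempty (F ≅ ⨁ Fs) := by
  obtain ⟨ι, _, Fs, hFs, ⟨e⟩⟩ := exists_decomp_aux k _ F rfl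
  refine ⟨Fintype.card ι, Fs ∘ (Fintype.equivFin ι).symm, fun i => hFs _,
    ⟨e ≪≫ (biproduct.reindex (Fintype.equivFin ι).symm Fs).symm⟩⟩


/-- **Krull–Schmidt** in the form used by the statements (coproducts over `Fin n`). -/
theorem krullSchmidt [IsIdempotentComplete C] [HasFiniteCoproducts C] (F : C)
    [Module.Finite k (End F)] :
    (∃ (n : ℕ) (Fs : Fin n → C), (∀ i, Indec (Fs i)) ∧ Nonempty (F ≅ ∐ Fs)) ∧
    (∀ (n m : ℕ) (Fs : Fin n → C) (Gs : Fin m → C), (∀ i, Indec (Fs i)) → (∀ j, Indec (Gs j)) →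
      Nonempty (F ≅ ∐ Fs) → Nonempty (F ≅ ∐ Gs) →
      ∃ e : Fin n ≃ Fin m, ∀ i, Nonempty (Fs i ≅ Gs (e i))) := by
  constructor
  · obtain ⟨n, Fs, hFs, ⟨e⟩⟩ := exists_decomp k F
    exact ⟨n, Fs, hFs, ⟨e ≪≫ biproduct.isoCoproduct Fs⟩⟩
  · intro n m Fs Gs hFs hGs ⟨eF⟩ ⟨eG⟩
    have key : ∀ (r : ℕ) (Hs : Fin r → C), (∀ i, Indec (Hs i)) → (F ≅ ⨁ Hs) →
        ∀ i, IsLocalRing (End (Hs i)) := by
      intro r Hs hHs e i
      haveI : Module.Finite k (End (Hs i)) :=
        finite_end_of_retract k (biproduct.ι Hs i ≫ e.inv) (e.hom ≫ biproduct.π Hs i) (by simp)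
      exact isLocalRing_end k (hHs i)
    have eF' : F ≅ ⨁ Fs := eF ≪≫ (biproduct.isoCoproduct Fs).symm
    have eG' : F ≅ ⨁ Gs := eG ≪≫ (biproduct.isoCoproduct Gs).symm
    exact uniq Fs Gs (key n Fs hFs eF') (key m Gs hGs eG') (eF'.symm ≪≫ eG')

end Exist

end Groth.Agent.Lib.T2H9.KS
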