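import Mathlib
import Groth.Agent.Lib.T2H9KSCat

/-!
# Cancellation of powers and the regular-representation trick (helper9)

Namespace `Groth.Agent.Lib.T2H9.KS`.
* `nonempty_iso_of_pow_iso`: `F^d ≅ G^d` with `d > 0` implies `F ≅ G` (Krull–Schmidt).
* `nonempty_pow_iso_of_tensor`: an "isomorphism with coefficients in a finite free commutative algebra `K'`"
  gives `F^d ≅ G^d`, `d = rank K'` (regular representation).
-/

set_option autoImplicit false
set_option linter.style.haveILetI false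
universe u v

open CategoryTheory CategoryTheory.Limits

namespace Groth.Agent.Lib.T2H9.KS

section Count

/-- a bijection between `d` copies of two finite families, compatible with a labelling, induces one between
the families. -/
theorem exists_equiv_of_sigma {ι κ : Type} [Fintype ι] [Fintype κ] {Q : Type*} (a : ι → Q) (b : κ → Q)
    (d : ℕ) (hd : 0 < d) (ε : (Σ _ : Fin d, ι) ≃ (Σ _ : Fin d, κ)) (hε : ∀ p, b (ε p).2 = a p.2) :
    ∃ ε' : ι ≃ κ, ∀ i, b (ε' i) = a i := by
  classical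
  have hcard : ∀ q, Fintype.card {i // a i = q} = Fintype.card {j // b j = q} := by
    intro q
    have e1 : {p : (Σ _ : Fin d, ι) // a p.2 = q} ≃ {p : (Σ _ : Fin d, κ) // b p.2 = q} :=
      Equiv.subtypeEquiv ε (fun p => by rw [hε])
    have e2 : ∀ (τ : Type) (c : τ → Q), {p : (Σ _ : Fin d, τ) // c p.2 = q} ≃ Fin d × {i // c i = q} :=
      fun τ c =>
      { toFun := fun p => (p.1.1, ⟨p.1.2, p.2⟩)
        invFun := fun p => ⟨⟨p.1, p.2.1⟩, p.2.2⟩
        left_inv := fun p => rfl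
        right_inv := fun p => rfl }
    have h1 := Fintype.card_congr ((e2 ι a).symm.trans (e1.trans (e2 κ b)))
    rw [Fintype.card_prod, Fintype.card_prod, Fintype.card_fin] at h1
    exact Nat.eq_of_mul_eq_mul_left hd h1
  let eq : ∀ q, {i // a i = q} ≃ {j // b j = q} := fun q => Fintype.equivOfCardEq (hcard q)
  refine ⟨(Equiv.sigmaFiberEquiv a).symm.trans ((Equiv.sigmaCongrRight eq).trans
    (Equiv.sigmaFiberEquiv b)), fun i => ?_⟩
  exact ((eq (a i)) ⟨i, rfl⟩).2

end Count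

section Pow

variable {C : Type u} [Category.{v} C] [Preadditive C] [HasFiniteBiproducts C]
  [HasBinaryBiproducts C] (k : Type*) [Field k] [Linear k C] [IsIdempotentComplete C]

/-- **cancellation of powers**. -/
theorem nonempty_iso_of_pow_iso (F G : C) [Module.Finite k (End F)] [Module.Finite k (End G)]
    (d : ℕ) (hd : 0 < d) (e : (⨁ fun _ : Fin d => F) ≅ (⨁ fun _ : Fin d => G)) :
    Nonempty (F ≅ G) := by
  obtain ⟨n, Fs, hFs, ⟨eF⟩⟩ := exists_decomp k F
  obtain ⟨m, Gs, hGs, ⟨eG⟩⟩ := exists_decomp k G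
  have key : ∀ (H : C) [Module.Finite k (End H)] (r : ℕ) (Hs : Fin r → C), (∀ i, Indec (Hs i)) →
      (H ≅ ⨁ Hs) → ∀ i, IsLocalRing (End (Hs i)) := by
    intro H _ r Hs hHs e i
    haveI : Module.Finite k (End (Hs i)) :=
      finite_end_of_retract k (biproduct.ι Hs i ≫ e.inv) (e.hom ≫ biproduct.π Hs i) (by simp)
    exact isLocalRing_end k (hHs i)
  have hFl := key F n Fs hFs eF
  have hGl := key G m Gs hGs eG
  -- `F^d` as a biproduct over the sigma type
  let φF : (⨁ fun _ : Fin d => F) ≅ ⨁ fun p : (Σ _ : Fin d, Fin n) => Fs p.2 :=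
    biproduct.mapIso (fun _ => eF) ≪≫ biproductBiproductIso (fun _ : Fin d => Fin n) (fun _ i => Fs i)
  let φG : (⨁ fun _ : Fin d => G) ≅ ⨁ fun p : (Σ _ : Fin d, Fin m) => Gs p.2 :=
    biproduct.mapIso (fun _ => eG) ≪≫ biproductBiproductIso (fun _ : Fin d => Fin m) (fun _ i => Gs i)
  obtain ⟨ε, hε⟩ := uniq (fun p : (Σ _ : Fin d, Fin n) => Fs p.2) (fun p : (Σ _ : Fin d, Fin m) => Gs p.2)
    (fun p => hFl p.2) (fun p => hGl p.2) (φF.symm ≪≫ e ≪≫ φG)
  obtain ⟨ε', hε'⟩ := exists_equiv_of_sigma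
    (fun i => (Quotient.mk (isIsomorphicSetoid C) (Fs i)))
    (fun j => (Quotient.mk (isIsomorphicSetoid C) (Gs j))) d hd ε
    (fun p => Quotient.sound (let ⟨i⟩ := hε p; ⟨i.symm⟩))
  have hiso : ∀ i, Nonempty (Fs i ≅ Gs (ε' i)) := fun i => by
    obtain ⟨j⟩ := Quotient.exact (hε' i)
    exact ⟨j.symm⟩
  exact ⟨eF ≪≫ biproduct.mapIso (fun i => (hiso i).some) ≪≫ biproduct.reindex ε' Gs ≪≫ eG.symm⟩

end Pow

section Reg

open TensorProduct

variable {C : Type u} [Category.{v} C] [Preadditive C] [HasFiniteBiproducts C]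
  (k : Type*) [Field k] [Linear k C] {d : ℕ}

/-- the morphism `F^d ⟶ G^d` with matrix `A ⊗ f`. -/
noncomputable def boxHom (F G : C) (A : Matrix (Fin d) (Fin d) k) (f : F ⟶ G) :
    (⨁ fun _ : Fin d => F) ⟶ (⨁ fun _ : Fin d => G) :=
  biproduct.matrix (fun s t => A t s • f)

theorem ι_boxHom_π (F G : C) (A : Matrix (Fin d) (Fin d) k) (f : F ⟶ G) (s t : Fin d) :
    biproduct.ι (fun _ : Fin d => F) s ≫ boxHom k F G A f ≫ biproduct.π (fun _ : Fin d => G) t =
      A t s • f := by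
  unfold boxHom
  rw [biproduct.matrix_π, biproduct.ι_desc]

theorem boxHom_ext (F G : C) (φ ψ : (⨁ fun _ : Fin d => F) ⟶ (⨁ fun _ : Fin d => G))
    (h : ∀ s t, biproduct.ι (fun _ : Fin d => F) s ≫ φ ≫ biproduct.π (fun _ : Fin d => G) t =
      biproduct.ι (fun _ : Fin d => F) s ≫ ψ ≫ biproduct.π (fun _ : Fin d => G) t) : φ = ψ := by
  refine biproduct.hom_ext' _ _ fun s => biproduct.hom_ext _ _ fun t => ?_
  simpa only [Category.assoc] using h s t

theorem boxHom_comp (F G H : C) (A B : Matrix (Fin d) (Fin d) k) (f : F ⟶ G) (g : G ⟶ H) :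
    boxHom k F G A f ≫ boxHom k G H B g = boxHom k F H (B * A) (f ≫ g) := by
  apply boxHom_ext
  intro s t
  rw [ι_boxHom_π]
  unfold boxHom
  rw [Category.assoc, biproduct.matrix_π, biproduct.ι_matrix_assoc, biproduct.lift_desc, Matrix.mul_apply,
    Finset.sum_smul]
  refine Finset.sum_congr rfl fun j _ => ?_
  rw [Linear.smul_comp, Linear.comp_smul, smul_smul, mul_comm]

theorem boxHom_one (F : C) : boxHom k F F (1 : Matrix (Fin d) (Fin d) k) (𝟙 F) = 𝟙 _ := by
  classical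
  apply boxHom_ext
  intro s t
  rw [ι_boxHom_π, Category.id_comp, biproduct.ι_π, Matrix.one_apply]
  by_cases h : s = t
  · subst h
    simp
  · rw [dif_neg h, if_neg (Ne.symm h), zero_smul]

/-- `boxHom` as a bilinear map. -/
noncomputable def boxLin (F G : C) :
    Matrix (Fin d) (Fin d) k →ₗ[k] (F ⟶ G) →ₗ[k] ((⨁ fun _ : Fin d => F) ⟶ (⨁ fun _ : Fin d => G)) :=
  LinearMap.mk₂ k (boxHom k F G)
    (fun A B f => by
      apply boxHom_ext
      intro s t
      rw [Preadditive.add_comp, Preadditive.comp_add, ι_boxHom_π, ι_boxHom_π, ι_boxHom_π,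
        Matrix.add_apply, add_smul])
    (fun c A f => by
      apply boxHom_ext
      intro s t
      rw [Linear.smul_comp, Linear.comp_smul, ι_boxHom_π, ι_boxHom_π, Matrix.smul_apply, smul_assoc])
    (fun A f g => by
      apply boxHom_ext
      intro s t
      rw [Preadditive.add_comp, Preadditive.comp_add, ι_boxHom_π, ι_boxHom_π, ι_boxHom_π, smul_add])
    (fun c A f => by
      apply boxHom_ext
      intro s t
      rw [Linear.smul_comp, Linear.comp_smul, ι_boxHom_π, ι_boxHom_π, smul_comm])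

variable {K' : Type*} [CommRing K'] [Algebra k K'] (b : Module.Basis (Fin d) k K')

/-- the regular representation applied to a tensor `K' ⊗ Hom(F, G)`. -/
noncomputable def boxT (F G : C) :
    K' ⊗[k] (F ⟶ G) →ₗ[k] ((⨁ fun _ : Fin d => F) ⟶ (⨁ fun _ : Fin d => G)) :=
  TensorProduct.lift ((boxLin k F G).comp (Algebra.leftMulMatrix b).toLinearMap)

theorem boxT_tmul (F G : C) (c : K') (f : F ⟶ G) :
    boxT k b F G (c ⊗ₜ f) = boxHom k F G (Algebra.leftMulMatrix b c) f := rfl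

include b in
/-- **regular representation trick**. -/
theorem nonempty_pow_iso_of_tensor (F G : C) {ι κ : Type*} [Fintype ι] [Fintype κ]
    (c : ι → K') (f : ι → (F ⟶ G)) (c' : κ → K') (g : κ → (G ⟶ F))
    (hF : ∑ i, ∑ j, (c i * c' j) ⊗ₜ[k] (f i ≫ g j) = (1 : K') ⊗ₜ[k] (𝟙 F))
    (hG : ∑ j, ∑ i, (c' j * c i) ⊗ₜ[k] (g j ≫ f i) = (1 : K') ⊗ₜ[k] (𝟙 G)) :
    Nonempty ((⨁ fun _ : Fin d => F) ≅ (⨁ fun _ : Fin d => G)) := by
  refine ⟨⟨∑ i, boxT k b F G (c i ⊗ₜ f i), ∑ j, boxT k b G F (c' j ⊗ₜ g j), ?_, ?_⟩⟩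
  · have h1 := congrArg (boxT k b F F) hF
    rw [boxT_tmul, map_one, boxHom_one] at h1
    rw [← h1, Preadditive.sum_comp, map_sum]
    refine Finset.sum_congr rfl fun i _ => ?_
    rw [Preadditive.comp_sum, map_sum]
    refine Finset.sum_congr rfl fun j _ => ?_
    rw [boxT_tmul, boxT_tmul, boxT_tmul, boxHom_comp, ← map_mul, mul_comm]
  · have h1 := congrArg (boxT k b G G) hG
    rw [boxT_tmul, map_one, boxHom_one] at h1
    rw [← h1, Preadditive.sum_comp, map_sum]
    refine Finset.sum_congr rfl fun j _ => ?_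
    rw [Preadditive.comp_sum, map_sum]
    refine Finset.sum_congr rfl fun i _ => ?_
    rw [boxT_tmul, boxT_tmul, boxT_tmul, boxHom_comp, ← map_mul, mul_comm]

end Reg

end Groth.Agent.Lib.T2H9.KS
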