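import Mathlib
import Groth.Agent.Lib.T2H9KSPow
import Groth.Agent.Lib.T2H9HomBCB
import Groth.Agent.Lib.T2H9HomFinite

/-!
# Noether–Deuring for coherent modules on a proper scheme over a field (helper9)

Namespace `Groth.Agent.Lib.T2H9.NoetherDeuring`.
-/

set_option autoImplicit false
set_option linter.style.haveILetI false
universe u

open CategoryTheory CategoryTheory.Limits AlgebraicGeometry TensorProduct

namespace Groth.Agent.Lib.T2H9.NoetherDeuring

open Groth.Agent.Lib.T2H9.HomBC Groth.Agent.Lib.T2H9.KS

variable (k K : Type u) [Field k] [Field K] [Algebra k K]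
  {X X' : Scheme.{u}} [X.Over (Spec (CommRingCat.of k))] [X'.Over (Spec (CommRingCat.of K))]
  (g' : X' ⟶ X)
  (h : IsPullback g' (X' ↘ Spec (CommRingCat.of K)) (X ↘ Spec (CommRingCat.of k))
    (Spec.map (CommRingCat.ofHom (algebraMap k K))))

include h in
/-- the key tensor identity, over a subfield containing the coefficients. -/
theorem tensor_identity (K' : IntermediateField k K) (F G : X.Modules) [F.IsQuasicoherent]
    {ι κ : Type*} [Fintype ι] [Fintype κ]
    (c : ι → K') (f : ι → (F ⟶ G)) (c' : κ → K') (g : κ → (G ⟶ F))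
    (hcomp : (∑ i, (c i : K) • (Scheme.Modules.pullback g').map (f i)) ≫
      (∑ j, (c' j : K) • (Scheme.Modules.pullback g').map (g j)) = 𝟙 _) :
    ∑ i, ∑ j, (c i * c' j) ⊗ₜ[k] (f i ≫ g j) = (1 : K') ⊗ₜ[k] (𝟙 F) := by
  have hJ : Function.Injective (LinearMap.rTensor (F ⟶ F) K'.val.toLinearMap) :=
    Module.Flat.rTensor_preserves_injective_linearMap _ K'.val.injective
  apply hJ
  apply homBC_injective k K g' h F F
  rw [map_sum, map_sum]
  simp only [map_sum, LinearMap.rTensor_tmul]
  have h1 : ∀ i j, homBC k K g' h.w F F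
      ((K'.val.toLinearMap (c i * c' j)) ⊗ₜ[k] (f i ≫ g j)) =
      ((c i : K) • (Scheme.Modules.pullback g').map (f i)) ≫
        ((c' j : K) • (Scheme.Modules.pullback g').map (g j)) := by
    intro i j
    rw [← homBC_tmul k K g' h.w, ← homBC_tmul k K g' h.w, homBC_comp]
    rfl
  simp only [h1]
  rw [homBC_tmul]
  simp only [← Preadditive.comp_sum, ← Preadditive.sum_comp]
  rw [hcomp]
  change _ = (K'.val (1 : K')) • _
  rw [map_one, one_smul, CategoryTheory.Functor.map_id]

include h in
/-- **Noether–Deuring**: coherent modules on a proper `k`-scheme which become isomorphic over an algebraic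
extension are isomorphic. -/
theorem nonempty_iso_of_pullback_iso [Algebra.IsAlgebraic k K] [IsProper (X ↘ Spec (CommRingCat.of k))]
    (F G : X.Modules) (hF : Coh.IsCoh F) (hG : Coh.IsCoh G)
    (e : (Scheme.Modules.pullback g').obj F ≅ (Scheme.Modules.pullback g').obj G) :
    Nonempty (F ≅ G) := by
  classical
  haveI : CompactSpace X :=
    QuasiCompact.compactSpace_of_compactSpace (X ↘ Spec (CommRingCat.of k))
  haveI : F.IsQuasicoherent := hF.1
  haveI : G.IsQuasicoherent := hG.1
  obtain ⟨n, c, f, -, hhom⟩ := exists_sum_smul_pullback k K g' h F G hF e.hom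
  obtain ⟨n', c', g, -, hinv⟩ := exists_sum_smul_pullback k K g' h G F hG e.inv
  -- the subfield generated by the coefficients
  let S : Set K := Set.range c ∪ Set.range c'
  haveI : Finite S := ((Set.finite_range c).union (Set.finite_range c')).to_subtype
  let K' : IntermediateField k K := IntermediateField.adjoin k S
  haveI : FiniteDimensional k K' :=
    IntermediateField.finiteDimensional_adjoin (fun x _ => Algebra.IsIntegral.isIntegral x)
  let ct : Fin n → K' := fun i => ⟨c i, IntermediateField.subset_adjoin k S (Or.inl ⟨i, rfl⟩)⟩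
  let ct' : Fin n' → K' := fun j => ⟨c' j, IntermediateField.subset_adjoin k S (Or.inr ⟨j, rfl⟩)⟩
  have hFF := tensor_identity k K g' h K' F G ct f ct' g (by
    change (∑ i, c i • _) ≫ (∑ j, c' j • _) = _
    rw [← hhom, ← hinv, e.hom_inv_id])
  have hGG := tensor_identity k K g' h K' G F ct' g ct f (by
    change (∑ j, c' j • _) ≫ (∑ i, c i • _) = _
    rw [← hhom, ← hinv, e.inv_hom_id])
  let b := Module.finBasis k K'
  obtain ⟨ε⟩ := nonempty_pow_iso_of_tensor k b F G ct f ct' g hFF hGG
  haveI : Module.Finite k (End F) := Groth.Agent.Lib.T2H9.HomFinite.finite_hom k F F hF hF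
  haveI : Module.Finite k (End G) := Groth.Agent.Lib.T2H9.HomFinite.finite_hom k G G hG hG
  exact nonempty_iso_of_pow_iso k F G (Module.finrank k K') Module.finrank_pos ε

end Groth.Agent.Lib.T2H9.NoetherDeuring
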