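import Mathlib
import Groth.Prelude.Def_W4c1astiltbs12AS
import Groth.Agent.Lib.T2H9NoetherDeuring
import Groth.Agent.Lib.T2H5GenIsoA
import Groth.Agent.Lib.T2H4HZshLF

/-!
# Tools for absolutely split / isotypical modules (helper9)

Namespace `Groth.Agent.Lib.T2H9.ASBun`.
-/

set_option autoImplicit false
set_option linter.style.haveILetI false
universe u v

open CategoryTheory CategoryTheory.Limits AlgebraicGeometry

namespace Groth.Agent.Lib.T2H9.ASBun

open Groth.Agent.Lib.T2H9.HomBC Groth.Agent.Lib.T2H9.KS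

section Abstract

variable {C : Type u} [Category.{v} C] [Preadditive C] [HasFiniteBiproducts C] [HasFiniteCoproducts C]

/-- an iterated finite copower is a biproduct over the product of the index types. -/
noncomputable def copowProdIso (W : C) (r s : ℕ) :
    (∐ fun _ : Fin s => ∐ fun _ : Fin r => W) ≅ ⨁ fun _ : Fin s × Fin r => W :=
  (biproduct.isoCoproduct _).symm ≪≫
    biproduct.mapIso (fun _ => (biproduct.isoCoproduct (fun _ : Fin r => W)).symm) ≪≫
    biproductBiproductIso (fun _ : Fin s => Fin r) (fun _ _ => W) ≪≫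
    (biproduct.reindex (Equiv.sigmaEquivProd (Fin s) (Fin r)).symm (fun _ => W)).symm

/-- `(W^r)^s ≅ (W^s)^r`. -/
noncomputable def copowSwapIso (W : C) (r s : ℕ) :
    (∐ fun _ : Fin s => ∐ fun _ : Fin r => W) ≅ (∐ fun _ : Fin r => ∐ fun _ : Fin s => W) :=
  copowProdIso W r s ≪≫ (biproduct.reindex (Equiv.prodComm (Fin r) (Fin s)) (fun _ => W)).symm ≪≫
    (copowProdIso W s r).symm

omit [HasFiniteCoproducts C] in
theorem isZero_copow_zero (W : C) : IsZero (∐ fun _ : Fin 0 => W) := by
  rw [IsZero.iff_id_eq_zero]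
  exact Sigma.hom_ext _ _ fun j => j.elim0

end Abstract

section Geo

variable (k K : Type u) [Field k] [Field K] [Algebra k K]
  {X X' : Scheme.{u}} [X.Over (Spec (CommRingCat.of k))] [X'.Over (Spec (CommRingCat.of K))]
  (g' : X' ⟶ X)
  (h : IsPullback g' (X' ↘ Spec (CommRingCat.of K)) (X ↘ Spec (CommRingCat.of k))
    (Spec.map (CommRingCat.ofHom (algebraMap k K))))

include h in
/-- pull-back along a field extension is faithful. -/
theorem eq_zero_of_pullback_map_eq_zero {F G : X.Modules} [G.IsQuasicoherent] (f : F ⟶ G)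
    (hf : (Scheme.Modules.pullback g').map f = 0) : f = 0 :=
  eq_zero_of_sum_smul_pullback_eq_zero k K g' h F G (fun _ : Unit => (1 : K))
    (LinearIndependent.of_subsingleton () one_ne_zero) (fun _ => f) (by simp [hf]) ()

include h in
theorem isZero_of_isZero_pullback (E : X.Modules) [E.IsQuasicoherent]
    (hz : IsZero ((Scheme.Modules.pullback g').obj E)) : IsZero E := by
  rw [IsZero.iff_id_eq_zero]
  apply eq_zero_of_pullback_map_eq_zero k K g' h
  rw [CategoryTheory.Functor.map_id]
  exact hz.eq_of_src _ _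

/-- pull-back commutes with finite copowers. -/
noncomputable def pullbackCopowIso (E : X.Modules) (n : ℕ) :
    (Scheme.Modules.pullback g').obj (∐ fun _ : Fin n => E) ≅
      ∐ fun _ : Fin n => (Scheme.Modules.pullback g').obj E :=
  haveI := (Scheme.Modules.pullbackPushforwardAdjunction g').leftAdjoint_preservesColimits
  PreservesCoproduct.iso (Scheme.Modules.pullback g') (fun _ : Fin n => E)

include h in
/-- two indecomposable coherent modules which become isotypical of the same type over an algebraic extension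
are isomorphic. -/
theorem nonempty_iso_of_isotypical [Algebra.IsAlgebraic k K] [IsProper (X ↘ Spec (CommRingCat.of k))]
    (W : X'.Modules) (E E' : X.Modules) (hE : Coh.IsCoh E) (hE' : Coh.IsCoh E')
    (hEi : Indec E) (hE'i : Indec E') (r s : ℕ)
    (eE : (Scheme.Modules.pullback g').obj E ≅ ∐ fun _ : Fin r => W)
    (eE' : (Scheme.Modules.pullback g').obj E' ≅ ∐ fun _ : Fin s => W) : Nonempty (E ≅ E') := by
  haveI : E.IsQuasicoherent := hE.1
  haveI : E'.IsQuasicoherent := hE'.1
  have hr : r ≠ 0 := by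
    rintro rfl
    exact hEi.1 (isZero_of_isZero_pullback k K g' h E ((isZero_copow_zero W).of_iso eE))
  have hs : s ≠ 0 := by
    rintro rfl
    exact hE'i.1 (isZero_of_isZero_pullback k K g' h E' ((isZero_copow_zero W).of_iso eE'))
  -- `π^*(E^s) ≅ π^*(E'^r)`
  have e1 : (Scheme.Modules.pullback g').obj (∐ fun _ : Fin s => E) ≅
      (Scheme.Modules.pullback g').obj (∐ fun _ : Fin r => E') :=
    pullbackCopowIso g' E s ≪≫ Sigma.mapIso (fun _ => eE) ≪≫ copowSwapIso W r s ≪≫
      (Sigma.mapIso (fun _ => eE')).symm ≪≫ (pullbackCopowIso g' E' r).symm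
  obtain ⟨e2⟩ := Groth.Agent.Lib.T2H9.NoetherDeuring.nonempty_iso_of_pullback_iso k K g' h _ _
    (Groth.Agent.Lib.T2H5.GenIsoA.isCoh_sigma (fun _ : Fin s => E) (fun _ => hE))
    (Groth.Agent.Lib.T2H5.GenIsoA.isCoh_sigma (fun _ : Fin r => E') (fun _ => hE')) e1
  haveI : Module.Finite k (End (∐ fun _ : Fin s => E)) :=
    Groth.Agent.Lib.T2H9.HomFinite.finite_hom k _ _
      (Groth.Agent.Lib.T2H5.GenIsoA.isCoh_sigma (fun _ : Fin s => E) (fun _ => hE))
      (Groth.Agent.Lib.T2H5.GenIsoA.isCoh_sigma (fun _ : Fin s => E) (fun _ => hE))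
  obtain ⟨ε, hε⟩ := (krullSchmidt k (∐ fun _ : Fin s => E)).2 s r (fun _ => E) (fun _ => E')
    (fun _ => hEi) (fun _ => hE'i) ⟨Iso.refl _⟩ ⟨e2⟩
  exact hε ⟨0, Nat.pos_of_ne_zero hs⟩

end Geo

end Groth.Agent.Lib.T2H9.ASBun
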