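import Mathlib
import Groth.Agent.Lib.T2H6PolyLt

/-!
# The mixed difference and the coefficient of `x_1 ⋯ x_d` (helper6)

For a polynomial `P` of total degree `≤ d` in `d` variables, the coefficient of `x_1 ⋯ x_d` is the alternating sum
`∑_T (-1)^{|T|} P(1_{Tᶜ})`.
-/

set_option autoImplicit false

open Finset MvPolynomial

namespace Groth.Agent.Lib.T2H6.MixedDiff

open Groth.Agent.Lib.T2H6.PolyLt

section defs

variable {σ : Type*} [Fintype σ] [DecidableEq σ]

/-- the indicator of the complement of `T`. -/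
def pt (T : Finset σ) : σ → ℕ := fun i => if i ∈ T then 0 else 1

/-- the mixed difference `∑_T (-1)^{|T|} f(1_{Tᶜ})`. -/
def mixed {R : Type*} [Ring R] (f : (σ → ℕ) → R) : R :=
  ∑ T : Finset σ, (-1 : R) ^ #T * f (pt T)

theorem mixed_add {R : Type*} [Ring R] (f g : (σ → ℕ) → R) : mixed (f + g) = mixed f + mixed g := by
  unfold mixed
  rw [← Finset.sum_add_distrib]
  refine Finset.sum_congr rfl fun T _ => ?_
  rw [Pi.add_apply, mul_add]

theorem mixed_sub {R : Type*} [Ring R] (f g : (σ → ℕ) → R) : mixed (f - g) = mixed f - mixed g := by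
  unfold mixed
  rw [← Finset.sum_sub_distrib]
  refine Finset.sum_congr rfl fun T _ => ?_
  rw [Pi.sub_apply, mul_sub]

theorem mixed_zero {R : Type*} [Ring R] : mixed (0 : (σ → ℕ) → R) = 0 := by
  unfold mixed
  simp

theorem mixed_intCast (f : (σ → ℕ) → ℤ) :
    ((mixed f : ℤ) : ℚ) = mixed (fun n => (f n : ℚ)) := by
  unfold mixed
  push_cast
  rfl

theorem prod_pt_pow (T : Finset σ) (m : σ →₀ ℕ) :
    ∏ i ∈ m.support, ((pt T i : ℕ) : ℚ) ^ m i = if Disjoint T m.support then 1 else 0 := by
  split_ifs with h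
  · refine Finset.prod_eq_one fun i hi => ?_
    have hiT : i ∉ T := fun hiT => Finset.disjoint_left.1 h hiT hi
    simp [pt, hiT]
  · rw [Finset.not_disjoint_iff] at h
    obtain ⟨i, hiT, him⟩ := h
    refine Finset.prod_eq_zero him ?_
    have : m i ≠ 0 := Finsupp.mem_support_iff.1 him
    simp [pt, hiT, this]

theorem sum_neg_one_pow_disjoint (A : Finset σ) :
    ∑ T : Finset σ, (-1 : ℚ) ^ #T * (if Disjoint T A then 1 else 0) = if A = Finset.univ then 1 else 0 := by
  have h1 : ∑ T : Finset σ, (-1 : ℚ) ^ #T * (if Disjoint T A then 1 else 0) =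
      ∑ T ∈ Aᶜ.powerset, (-1 : ℚ) ^ #T := by
    have hf : Finset.filter (fun T : Finset σ => Disjoint T A) Finset.univ = Aᶜ.powerset := by
      ext T
      simp only [Finset.mem_filter, Finset.mem_univ, true_and, Finset.mem_powerset]
      exact Finset.subset_compl_iff_disjoint_right.symm
    rw [← hf, Finset.sum_filter]
    refine Finset.sum_congr rfl fun T _ => ?_
    split_ifs <;> simp
  rw [h1]
  have h2 := congrArg (Int.cast : ℤ → ℚ) (Finset.sum_powerset_neg_one_pow_card (x := Aᶜ))
  push_cast at h2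
  rw [h2]
  have h3 : Aᶜ = ∅ ↔ A = Finset.univ := Finset.compl_eq_empty_iff A
  by_cases hA : A = Finset.univ
  · rw [if_pos hA, if_pos (h3.2 hA)]
  · rw [if_neg hA, if_neg (fun h => hA (h3.1 h))]

theorem eq_one_of_support_eq_univ (m : σ →₀ ℕ) (hs : m.support = Finset.univ)
    (hd : (m.sum fun _ e => e) ≤ Fintype.card σ) : m = Finsupp.equivFunOnFinite.symm fun _ => 1 := by
  have h1 : ∀ i, 1 ≤ m i := fun i => by
    have : i ∈ m.support := by rw [hs]; exact Finset.mem_univ i
    exact Nat.one_le_iff_ne_zero.2 (Finsupp.mem_support_iff.1 this)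
  have h2 : (m.sum fun _ e => e) = ∑ i, m i := by
    rw [Finsupp.sum, hs]
  have h3 : ∑ _i : σ, 1 = ∑ i, m i := by
    refine le_antisymm (Finset.sum_le_sum fun i _ => h1 i) ?_
    rw [← h2]
    simpa using hd
  have h4 := (Finset.sum_eq_sum_iff_of_le (fun i _ => h1 i)).1 h3
  ext i
  simp [(h4 i (Finset.mem_univ i)).symm]

/-- **the coefficient of `x_1 ⋯ x_d` as a mixed difference.** -/
theorem mixed_eval (P : MvPolynomial σ ℚ) (hP : P.totalDegree ≤ Fintype.card σ) :
    mixed (fun n : σ → ℕ => eval (fun i => (n i : ℚ)) P) =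
      coeff (Finsupp.equivFunOnFinite.symm fun _ => 1) P := by
  unfold mixed
  have h1 : ∀ T : Finset σ, eval (fun i => ((pt T i : ℕ) : ℚ)) P =
      ∑ m ∈ P.support, coeff m P * (if Disjoint T m.support then 1 else 0) := by
    intro T
    rw [eval_eq]
    refine Finset.sum_congr rfl fun m _ => ?_
    rw [prod_pt_pow]
  simp only [h1, Finset.mul_sum]
  rw [Finset.sum_comm]
  have h2 : ∀ m ∈ P.support, ∑ T : Finset σ, (-1 : ℚ) ^ #T * (coeff m P * (if Disjoint T m.support then 1 else 0)) =
      if m = Finsupp.equivFunOnFinite.symm (fun _ => 1) then coeff m P else 0 := by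
    intro m hm
    have h3 : ∑ T : Finset σ, (-1 : ℚ) ^ #T * (coeff m P * (if Disjoint T m.support then 1 else 0)) =
        coeff m P * ∑ T : Finset σ, (-1 : ℚ) ^ #T * (if Disjoint T m.support then 1 else 0) := by
      rw [Finset.mul_sum]
      refine Finset.sum_congr rfl fun T _ => ?_
      ring
    rw [h3, sum_neg_one_pow_disjoint]
    by_cases hs : m.support = Finset.univ
    · have hm1 := eq_one_of_support_eq_univ m hs ((le_totalDegree hm).trans hP)
      rw [if_pos hs, if_pos hm1, mul_one]
    · have hne : m ≠ Finsupp.equivFunOnFinite.symm (fun _ => 1) := by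
        rintro rfl
        apply hs
        ext i
        simp
      rw [if_neg hs, if_neg hne, mul_zero]
  rw [Finset.sum_congr rfl h2, Finset.sum_ite_eq']
  split_ifs with h
  · rfl
  · exact (notMem_support_iff.1 h).symm

end defs

section fin

variable {d : ℕ}

/-- two polynomials with the same values on `ℕ^d` are equal. -/
theorem eq_of_eval_eq (P Q : MvPolynomial (Fin d) ℚ)
    (h : ∀ n : Fin d → ℕ, eval (fun i => (n i : ℚ)) P = eval (fun i => (n i : ℚ)) Q) : P = Q := by
  refine MvPolynomial.funext_set (fun _ => Set.range (Nat.cast : ℕ → ℚ))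
    (fun _ => Set.infinite_range_of_injective Nat.cast_injective) ?_
  intro x hx
  choose n hn using fun i => hx i (Set.mem_univ i)
  have : x = fun i => (n i : ℚ) := funext fun i => (hn i).symm
  rw [this, h n]

/-- the mixed difference of a function with vanishing differences of order `d`. -/
theorem mixed_eq_zero_of_polyLt (f : (Fin d → ℕ) → ℚ) (hf : PolyLt d f) : mixed f = 0 := by
  cases d with
  | zero =>
    rw [polyLt_zero_iff] at hf
    rw [hf]
    exact mixed_zero
  | succ e =>
    obtain ⟨P, hP1, hP2⟩ := exists_mvPolynomial (e + 1) e f hf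
    have h1 : f = fun n : Fin (e + 1) → ℕ => eval (fun i => (n i : ℚ)) P := funext hP2
    rw [h1, mixed_eval P (by rw [Fintype.card_fin]; omega)]
    by_contra hne
    have hmem : (Finsupp.equivFunOnFinite.symm fun _ : Fin (e + 1) => 1) ∈ P.support :=
      mem_support_iff.2 hne
    have h2 := le_totalDegree hmem
    have h3 : ((Finsupp.equivFunOnFinite.symm fun _ : Fin (e + 1) => 1).sum fun _ e => e) = e + 1 := by
      rw [Finsupp.sum_fintype _ _ (fun _ => rfl)]
      simp
    omega

theorem mixed_eq_zero_of_polyLt_int (f : (Fin d → ℕ) → ℤ) (hf : PolyLt d f) : mixed f = 0 := by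
  have h := mixed_eq_zero_of_polyLt (fun n => (f n : ℚ)) (hf.map (Int.castAddHom ℚ))
  rw [← mixed_intCast] at h
  exact_mod_cast h

/-- **the coefficient of `x_1 ⋯ x_d` of the polynomial computing a function with vanishing differences of order
`d + 1`** is its mixed difference. -/
theorem coeff_one_eq_mixed (f : (Fin d → ℕ) → ℤ) (hf : PolyLt (d + 1) f) (P : MvPolynomial (Fin d) ℚ)
    (hP : ∀ n : Fin d → ℕ, (f n : ℚ) = eval (fun i => (n i : ℚ)) P) :
    coeff (Finsupp.equivFunOnFinite.symm fun _ => 1) P = ((mixed f : ℤ) : ℚ) := by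
  obtain ⟨P', hP1, hP2⟩ := exists_mvPolynomial d d (fun n => (f n : ℚ)) (hf.map (Int.castAddHom ℚ))
  have hPP : P = P' := eq_of_eval_eq P P' fun n => by rw [← hP n, ← hP2 n]
  rw [hPP, ← mixed_eval P' (by rw [Fintype.card_fin]; exact hP1), mixed_intCast]
  congr 1
  funext n
  exact (hP2 n).symm

end fin

end Groth.Agent.Lib.T2H6.MixedDiff
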