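import Mathlib
import Groth.Agent.Lib.T2H6Snapper
import Groth.Agent.Lib.T2H6MixedDiff
set_option backward.isDefEq.respectTransparency.types false

/-!
# The intersection number functional (helper6)

`inum k d L F = ∑_T (-1)^{|T|} χ(F ⊗ ⊗_{i ∉ T} L_i)`, the coefficient of `n_1 ⋯ n_d` of the polynomial
`χ(F ⊗ L_1^{n_1} ⊗ ⋯ ⊗ L_d^{n_d})` when `dim Supp F ≤ d`. It is additive and vanishes when `dim Supp F < d`.
-/

set_option autoImplicit false
set_option linter.style.haveILetI false
set_option linter.unusedSectionVars false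
universe u

open AlgebraicGeometry CategoryTheory Limits TopologicalSpace Opposite

namespace Groth.Agent.Lib.T2H6.IntNum

open Groth.Agent.Lib.T2H6.TensorDeg Groth.Agent.Lib.T2H6.AddFn Groth.Agent.Lib.T2H6.TensorPows
  Groth.Agent.Lib.T2H6.PolyLt Groth.Agent.Lib.T2H6.MixedDiff Groth.Agent.Lib.T2H6.Snapper

section AddFn

variable {X : Scheme.{u}}

theorem isAddFn_const_mul {Φ : X.Modules → ℤ} (hΦ : IsAddFn Φ) (c : ℤ) : IsAddFn (fun F => c * Φ F) where
  iso e hM := by rw [hΦ.iso e hM]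
  zero M hM := by rw [hΦ.zero M hM, mul_zero]
  add S hS h1 h2 h3 := by rw [hΦ.add S hS h1 h2 h3, mul_add]

theorem isAddFn_zero : IsAddFn (fun _ : X.Modules => (0 : ℤ)) where
  iso _ _ := rfl
  zero _ _ := rfl
  add _ _ _ _ _ := by simp

theorem isAddFn_add {Φ Ψ : X.Modules → ℤ} (hΦ : IsAddFn Φ) (hΨ : IsAddFn Ψ) :
    IsAddFn (fun F => Φ F + Ψ F) where
  iso e hM := by rw [hΦ.iso e hM, hΨ.iso e hM]
  zero M hM := by rw [hΦ.zero M hM, hΨ.zero M hM, add_zero]
  add S hS h1 h2 h3 := by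
    rw [hΦ.add S hS h1 h2 h3, hΨ.add S hS h1 h2 h3]
    ring

theorem isAddFn_finset_sum {ι : Type*} (s : Finset ι) (Φ : ι → X.Modules → ℤ) (hΦ : ∀ i ∈ s, IsAddFn (Φ i)) :
    IsAddFn (fun F => ∑ i ∈ s, Φ i F) := by
  classical
  induction s using Finset.induction_on with
  | empty => simpa using isAddFn_zero
  | insert a s ha ih =>
    have h1 := isAddFn_add (hΦ a (Finset.mem_insert_self a s))
      (ih fun i hi => hΦ i (Finset.mem_insert_of_mem hi))
    refine ⟨fun e hM => ?_, fun M hM => ?_, fun S hS c1 c2 c3 => ?_⟩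
    · simp only [Finset.sum_insert ha]
      exact h1.iso e hM
    · simp only [Finset.sum_insert ha]
      exact h1.zero M hM
    · simp only [Finset.sum_insert ha]
      exact h1.add S hS c1 c2 c3

end AddFn

section Main

variable {X : Scheme.{u}} (k : Type u) [Field k] [X.Over (Spec (CommRingCat.of k))]
  [IsProper (X ↘ Spec (CommRingCat.of k))]

/-- the function `n ↦ χ(F ⊗ L^n)`. -/
noncomputable def chiFun (r : ℕ) (L : Fin r → X.Modules) (F : X.Modules) : (Fin r → ℕ) → ℤ :=
  fun n => Curv2.euler k X (Curv2.tensorPows F r L n)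

/-- **Snapper's theorem.** -/
theorem polyLt_chiFun (r : ℕ) (L : Fin r → X.Modules) (hL : ∀ i, PicF.IsInvertible (L i)) (F : X.Modules)
    (hF : Coh.IsCoh F) (d : ℕ) (hd : topologicalKrullDim (CohB1.support F) < d) :
    PolyLt d (chiFun k r L F) := by
  haveI : IsNoetherian X := Groth.Agent.Lib.T2H6.CurveSatur.isNoetherian_of_proper k
  exact polyLt_tensorPows (isAddFn_euler (X := X) k) r L hL F hF d hd

/-- the intersection number functional `(L_1 ⋯ L_d · F)`. -/
noncomputable def inum (d : ℕ) (L : Fin d → X.Modules) (F : X.Modules) : ℤ :=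
  mixed (chiFun k d L F)

theorem isAddFn_inum (d : ℕ) (L : Fin d → X.Modules) (hL : ∀ i, PicF.IsInvertible (L i)) :
    IsAddFn (inum k d L) := by
  unfold inum mixed chiFun
  refine isAddFn_finset_sum _ _ fun T _ => isAddFn_const_mul ?_ _
  exact isAddFn_tensorPows d (isAddFn_euler (X := X) k) L hL (pt T)

theorem inum_eq_zero (d : ℕ) (L : Fin d → X.Modules) (hL : ∀ i, PicF.IsInvertible (L i)) (F : X.Modules)
    (hF : Coh.IsCoh F) (hd : topologicalKrullDim (CohB1.support F) < d) : inum k d L F = 0 :=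
  mixed_eq_zero_of_polyLt_int _ (polyLt_chiFun k d L hL F hF d hd)

theorem natCast_lt_succ (d : ℕ) : ((d : ℕ) : WithBot ℕ∞) < ((d + 1 : ℕ) : WithBot ℕ∞) := by
  exact_mod_cast Nat.lt_succ_self d

/-- the coefficient of `n_1 ⋯ n_d` of the polynomial computing `χ(F ⊗ L^n)` is the intersection number. -/
theorem coeff_eq_inum (d : ℕ) (L : Fin d → X.Modules) (hL : ∀ i, PicF.IsInvertible (L i)) (F : X.Modules)
    (hF : Coh.IsCoh F) (hd : topologicalKrullDim (CohB1.support F) ≤ d) (P : MvPolynomial (Fin d) ℚ)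
    (hP : ∀ n : Fin d → ℕ, (Curv2.euler k X (Curv2.tensorPows F d L n) : ℚ) =
      MvPolynomial.eval (fun i => (n i : ℚ)) P) :
    MvPolynomial.coeff (Finsupp.equivFunOnFinite.symm fun _ : Fin d => 1) P = (inum k d L F : ℚ) :=
  coeff_one_eq_mixed (chiFun k d L F)
    (polyLt_chiFun k d L hL F hF (d + 1) (lt_of_le_of_lt hd (natCast_lt_succ d))) P hP

end Main

end Groth.Agent.Lib.T2H6.IntNum
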