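import Mathlib
import Groth.Prelude.Def_Found
import Groth.Agent.Lib.Helper28Equidim
import Groth.Prelude.Def_BlowUp2
import Groth.Agent.Lib.T2H6FTSupport
import Groth.Agent.Lib.T2H6BlowUpSeparate

set_option autoImplicit false
universe u
open CategoryTheory AlgebraicGeometry TopologicalSpace

namespace Groth.Agent.Lib.T2H6.ProperInter

section Ring

variable {R : Type u} [CommRing R]

theorem ringKrullDim_quotient_of_le_nilradical' (𝔫 : Ideal R)
    (h1 : 𝔫 ≤ nilradical R) : ringKrullDim (R ⧸ 𝔫) = ringKrullDim R := by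
  rw [ringKrullDim_quotient]
  have : PrimeSpectrum.zeroLocus (𝔫 : Set R) = Set.univ := by
    ext p
    simp only [PrimeSpectrum.mem_zeroLocus, SetLike.coe_subset_coe, Set.mem_univ, iff_true]
    exact h1.trans (nilradical_le_prime p.asIdeal)
  rw [this]
  exact Order.krullDim_eq_of_orderIso OrderIso.Set.univ

/-- a ring with prime nilradical is equidimensional. -/
theorem isEquidim_of_isPrime_nilradical (h : (nilradical R).IsPrime) : EGA4.IsEquidim R := by
  intro p hp
  have hp' : p = nilradical R := by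
    have h1 : nilradical R ≤ p := haveI := hp.1.1; nilradical_le_prime p
    exact le_antisymm (hp.2 ⟨h, bot_le⟩ h1) h1
  rw [hp']
  exact ringKrullDim_quotient_of_le_nilradical' _ le_rfl

variable [IsNoetherianRing R]

theorem one_le_height (f : R) (hf : f ∈ nonZeroDivisors R) (P : Ideal R) [P.IsPrime] (hfP : f ∈ P) :
    1 ≤ P.height := by
  rw [Order.one_le_iff_ne_zero, Ne, Ideal.height_eq_zero_iff]
  intro hmin
  exact Set.disjoint_left.1 (Ideal.disjoint_nonZeroDivisors_of_mem_minimalPrimes hmin) hfP hf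

theorem exists_height_one (f : R) (hf : f ∈ nonZeroDivisors R) (P : Ideal R) [P.IsPrime]
    (hfP : f ∈ P) :
    ∃ P₁ : Ideal R, P₁.IsPrime ∧ P₁ ≤ P ∧ f ∈ P₁ ∧ P₁.height = 1 := by
  have hle : Ideal.span {f} ≤ P := (Ideal.span_singleton_le_iff_mem P).2 hfP
  obtain ⟨P₁, hP₁, hP₁P⟩ := Ideal.exists_minimalPrimes_le hle
  haveI : P₁.IsPrime := hP₁.1.1
  have hfP₁ : f ∈ P₁ := hP₁.1.2 (Ideal.mem_span_singleton_self f)
  refine ⟨P₁, inferInstance, hP₁P, hfP₁, le_antisymm ?_ (one_le_height f hf P₁ hfP₁)⟩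
  exact Ideal.height_le_one_of_isPrincipal_of_mem_minimalPrimes (Ideal.span {f}) P₁ hP₁

/-- the key algebraic statement: `ht P = ht Q + 1`. -/
theorem height_eq_add_one
    (hirr : (nilradical R).IsPrime)
    (P Q : Ideal R) [hP : P.IsPrime] [hQ : Q.IsPrime] (hQP : Q ≤ P) (f : R) (hfP : f ∈ P) (hfQ : f ∉ Q)
    (hmin : ∀ P' : Ideal R, P'.IsPrime → Q ≤ P' → f ∈ P' → P' ≤ P → P' = P)
    (A : Type u) [CommRing A] [Algebra R A] [IsLocalization.AtPrime A P] (hcat : CAlg.IsCatenary A) :
    P.height = Q.height + 1 := by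
  haveI : IsLocalRing A := IsLocalization.AtPrime.isLocalRing A P
  haveI : IsNoetherianRing A := IsLocalization.isNoetherianRing P.primeCompl A inferInstance
  -- `A` has prime nilradical
  have hnilA : (nilradical A).IsPrime := by
    have hmp : minimalPrimes A = Ideal.under R ⁻¹' minimalPrimes R := by
      have := IsLocalization.minimalPrimes_map P.primeCompl A (⊥ : Ideal R)
      rwa [Ideal.map_bot] at this
    have hmR : ∀ p ∈ minimalPrimes R, p = nilradical R := by
      intro p hp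
      have h1 : nilradical R ≤ p := haveI := hp.1.1; nilradical_le_prime p
      exact le_antisymm (hp.2 ⟨hirr, bot_le⟩ h1) h1
    obtain ⟨q₀, hq₀⟩ := Ideal.nonempty_minimalPrimes (I := (⊥ : Ideal A)) (by
      intro h; exact (bot_ne_top (α := Ideal A)) h)
    have hq₀ : q₀ ∈ minimalPrimes A := hq₀
    have huniq : ∀ q ∈ minimalPrimes A, q = q₀ := by
      intro q hq
      have e1 : q.under R = nilradical R := hmR _ (by rw [hmp] at hq; exact hq)
      have e2 : q₀.under R = nilradical R := hmR _ (by rw [hmp] at hq₀; exact hq₀)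
      rw [← IsLocalization.map_under P.primeCompl A q, ← IsLocalization.map_under P.primeCompl A q₀,
        e1, e2]
    have : nilradical A = q₀ := by
      rw [nilradical, ← Ideal.sInf_minimalPrimes]
      apply le_antisymm
      · exact sInf_le hq₀
      · apply le_sInf
        intro q hq
        rw [huniq q hq]
    rw [this]
    exact hq₀.1.1
  have hequi : EGA4.IsEquidim A := isEquidim_of_isPrime_nilradical hnilA
  -- the prime `q = QA`
  have hdisjQ : Disjoint (P.primeCompl : Set R) (Q : Set R) := by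
    rw [Set.disjoint_left]
    intro x hx hxQ
    exact hx (hQP hxQ)
  let q : Ideal A := Q.map (algebraMap R A)
  haveI hq : q.IsPrime := IsLocalization.isPrime_of_isPrime_disjoint P.primeCompl A Q hQ hdisjQ
  have hqu : q.under R = Q := IsLocalization.under_map_of_isPrime_disjoint P.primeCompl A hQ hdisjQ
  have hqh : q.height = Q.height := IsLocalization.height_map_of_disjoint P.primeCompl Q hdisjQ
  have hkey := Groth.Agent.Lib.Helper28.height_add_ringKrullDim_quotient_eq_of_isEquidim hequi hcat q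
  rw [IsLocalization.AtPrime.ringKrullDim_eq_height P A, hqh] at hkey
  -- `dim A/q = 1`
  have hdim : ringKrullDim (A ⧸ q) = 1 := by
    haveI : IsLocalRing (A ⧸ q) :=
      IsLocalRing.of_surjective' (Ideal.Quotient.mk q) Ideal.Quotient.mk_surjective
    haveI : IsDomain (A ⧸ q) := Ideal.Quotient.isDomain q
    rw [← IsLocalRing.maximalIdeal_height_eq_ringKrullDim]
    suffices hht : (IsLocalRing.maximalIdeal (A ⧸ q)).height = 1 by rw [hht]; rfl
    let fb : A ⧸ q := Ideal.Quotient.mk q (algebraMap R A f)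
    have hfb0 : fb ≠ 0 := by
      intro h0
      rw [Ideal.Quotient.eq_zero_iff_mem] at h0
      have : f ∈ q.under R := h0
      rw [hqu] at this
      exact hfQ this
    have hfbm : fb ∈ IsLocalRing.maximalIdeal (A ⧸ q) := by
      rw [IsLocalRing.mem_maximalIdeal, mem_nonunits_iff]
      intro hu
      have h1 : IsUnit (algebraMap R A f) := by
        by_contra hnu
        have hm : algebraMap R A f ∈ IsLocalRing.maximalIdeal A := hnu
        have : fb ∈ (IsLocalRing.maximalIdeal A).map (Ideal.Quotient.mk q) := Ideal.mem_map_of_mem _ hm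
        have hne : (IsLocalRing.maximalIdeal A).map (Ideal.Quotient.mk q) ≠ ⊤ := by
          intro htop
          have hcm := Ideal.comap_map_of_surjective (Ideal.Quotient.mk q) Ideal.Quotient.mk_surjective
            (IsLocalRing.maximalIdeal A)
          rw [htop, Ideal.comap_top, ← RingHom.ker_eq_comap_bot, Ideal.mk_ker] at hcm
          have hqle : q ≤ IsLocalRing.maximalIdeal A := IsLocalRing.le_maximalIdeal hq.ne_top
          rw [sup_eq_left.2 hqle] at hcm
          exact (IsLocalRing.maximalIdeal.isMaximal A).ne_top hcm.symm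
        exact hne (Ideal.eq_top_of_isUnit_mem _ this hu)
      have h2 : f ∈ P.primeCompl := by
        by_contra hf
        have : algebraMap R A f ∈ IsLocalRing.maximalIdeal A := by
          rw [← IsLocalization.AtPrime.map_eq_maximalIdeal P A]
          exact Ideal.mem_map_of_mem _ (by simpa [Ideal.primeCompl] using hf)
        exact this h1
      exact h2 hfP
    apply le_antisymm
    · haveI : (Ideal.span {fb}).IsPrincipal := ⟨⟨fb, rfl⟩⟩
      apply Ideal.height_le_one_of_isPrincipal_of_mem_minimalPrimes (Ideal.span {fb})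
      refine ⟨⟨inferInstance, (Ideal.span_singleton_le_iff_mem _).2 hfbm⟩, ?_⟩
      rintro p' ⟨hp'prime, hp'f⟩ hp'le
      -- pull back to `R`
      let P'' : Ideal A := p'.comap (Ideal.Quotient.mk q)
      haveI : P''.IsPrime := Ideal.IsPrime.comap _
      let P' : Ideal R := P''.under R
      haveI : P'.IsPrime := Ideal.IsPrime.comap _
      have hqP'' : q ≤ P'' := by
        intro a ha
        show Ideal.Quotient.mk q a ∈ p'
        rw [Ideal.Quotient.eq_zero_iff_mem.2 ha]
        exact zero_mem _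
      have h1 : Q ≤ P' := by
        rw [← hqu]
        exact Ideal.comap_mono hqP''
      have h2 : f ∈ P' := by
        show Ideal.Quotient.mk q (algebraMap R A f) ∈ p'
        exact hp'f (Ideal.mem_span_singleton_self fb)
      have h3 : P' ≤ P := by
        have hd := ((IsLocalization.isPrime_iff_isPrime_disjoint P.primeCompl A P'').1 inferInstance).2
        intro x hx
        by_contra hxP
        exact Set.disjoint_left.1 hd hxP hx
      have h4 : P' = P := hmin P' inferInstance h1 h2 h3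
      have h5 : P'' = IsLocalRing.maximalIdeal A := by
        rw [← IsLocalization.map_under P.primeCompl A P'', ← IsLocalization.AtPrime.map_eq_maximalIdeal P A]
        exact congrArg _ h4
      intro y hy
      obtain ⟨a, rfl⟩ := Ideal.Quotient.mk_surjective y
      show a ∈ P''
      rw [h5]
      by_contra hau
      have hau' : IsUnit a := by
        by_contra hnu
        exact hau hnu
      exact (IsLocalRing.mem_maximalIdeal _).1 hy (hau'.map (Ideal.Quotient.mk q))
    · rw [Order.one_le_iff_ne_zero, Ne, Ideal.height_eq_zero_iff_eq_bot]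
      intro hbot
      rw [hbot] at hfbm
      exact hfb0 ((Ideal.mem_bot).1 hfbm)
  rw [hdim] at hkey
  have h6 : ((Q.height + 1 : ℕ∞) : WithBot ℕ∞) = ((P.height : ℕ∞) : WithBot ℕ∞) := by
    rw [← hkey]
    push_cast
    rfl
  exact (WithBot.coe_injective h6).symm

end Ring

section Sch

open Scheme.IdealSheafData

variable {X : Scheme.{u}} {W : X.Opens} (hW : IsAffineOpen W)

theorem fromSpec_mem' (P : PrimeSpectrum Γ(X, W)) : hW.fromSpec P ∈ W := by
  have : hW.fromSpec P ∈ Set.range hW.fromSpec := Set.mem_range_self P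
  rwa [hW.range_fromSpec] at this

theorem primeIdealOf_fromSpec'' (P : PrimeSpectrum Γ(X, W)) :
    hW.primeIdealOf ⟨hW.fromSpec P, fromSpec_mem' hW P⟩ = P := by
  apply hW.fromSpec.isOpenEmbedding.injective
  exact hW.fromSpec_primeIdealOf ⟨hW.fromSpec P, fromSpec_mem' hW P⟩

theorem mem_basicOpen_iff (f : Γ(X, W)) (x : X) (hx : x ∈ W) :
    x ∈ X.basicOpen f ↔ f ∉ (hW.primeIdealOf ⟨x, hx⟩).asIdeal := by
  rw [← hW.fromSpec_image_basicOpen]
  constructor
  · rintro ⟨q, hq, hqx⟩
    have : q = hW.primeIdealOf ⟨x, hx⟩ := by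
      apply hW.fromSpec.isOpenEmbedding.injective
      rw [hW.fromSpec_primeIdealOf]
      exact hqx
    rw [← this]
    exact hq
  · intro h
    exact ⟨hW.primeIdealOf ⟨x, hx⟩, h, hW.fromSpec_primeIdealOf _⟩

theorem specializes_iff (x y : X) (hx : x ∈ W) (hy : y ∈ W) :
    x ⤳ y ↔ (hW.primeIdealOf ⟨x, hx⟩).asIdeal ≤ (hW.primeIdealOf ⟨y, hy⟩).asIdeal := by
  have e1 : x = hW.fromSpec (hW.primeIdealOf ⟨x, hx⟩) := (hW.fromSpec_primeIdealOf ⟨x, hx⟩).symm
  have e2 : y = hW.fromSpec (hW.primeIdealOf ⟨y, hy⟩) := (hW.fromSpec_primeIdealOf ⟨y, hy⟩).symm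
  conv_lhs => rw [e1, e2]
  rw [hW.fromSpec.isOpenEmbedding.isInducing.specializes_iff]
  exact (PrimeSpectrum.le_iff_specializes (hW.primeIdealOf ⟨x, hx⟩) (hW.primeIdealOf ⟨y, hy⟩)).symm

theorem ringKrullDim_stalk (x : X) (hx : x ∈ W) :
    ringKrullDim (X.presheaf.stalk x) =
      (((hW.primeIdealOf ⟨x, hx⟩).asIdeal.height : ℕ∞) : WithBot ℕ∞) := by
  letI : Algebra Γ(X, W) (X.presheaf.stalk x) :=
    TopCat.Presheaf.algebra_section_stalk X.presheaf ⟨x, hx⟩
  haveI := hW.isLocalization_stalk ⟨x, hx⟩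
  exact IsLocalization.AtPrime.ringKrullDim_eq_height (hW.primeIdealOf ⟨x, hx⟩).asIdeal _

/-- membership in the support in terms of a generator. -/
theorem mem_support_iff_gen (𝓘 : X.IdealSheafData) (f : Γ(X, W))
    (hgen : 𝓘.ideal ⟨W, hW⟩ = Ideal.span {f}) (x : X) (hx : x ∈ W) :
    x ∈ 𝓘.support ↔ f ∈ (hW.primeIdealOf ⟨x, hx⟩).asIdeal := by
  rw [mem_support_iff_of_mem (U := ⟨W, hW⟩) hx, Scheme.mem_zeroLocus_iff]
  constructor
  · intro h
    by_contra hf
    exact h f (by rw [hgen]; exact Ideal.mem_span_singleton_self f)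
      ((mem_basicOpen_iff hW f x hx).2 hf)
  · intro hf c hc hxc
    rw [hgen] at hc
    have hc' : c ∈ Ideal.span {f} := hc
    rw [Ideal.mem_span_singleton] at hc'
    obtain ⟨r, rfl⟩ := hc'
    rw [mem_basicOpen_iff hW _ x hx] at hxc
    exact hxc (Ideal.mul_mem_right _ _ hf)

theorem genericPoint_not_mem_support {Z : Scheme.{u}} [IsIntegral Z] (D : Z.IdealSheafData)
    (hD : BlowUp.IsEffCartierIdeal D) : genericPoint Z ∉ D.support := by
  obtain ⟨V, hξV, g, hg, hgen⟩ := hD (genericPoint Z)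
  haveI : Nonempty V.1 := ⟨⟨_, hξV⟩⟩
  have hg0 : g ≠ 0 := nonZeroDivisors.ne_zero hg
  have hne : Z.basicOpen g ≠ ⊥ := by
    intro h
    exact hg0 ((AlgebraicGeometry.basicOpen_eq_bot_iff g).1 h)
  have hξ : genericPoint Z ∈ Z.basicOpen g := by
    refine ((genericPoint_spec Z).mem_open_set_iff (Z.basicOpen g).2).2 ?_
    rw [Set.univ_inter]
    by_contra hemp
    apply hne
    ext x
    simp only [TopologicalSpace.Opens.coe_bot, Set.mem_empty_iff_false, iff_false]
    intro hx
    exact hemp ⟨x, hx⟩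
  exact Groth.Agent.Lib.T2H6.FTSupport.not_mem_support_of_mem_basicOpen D V g
    (by rw [hgen]; exact Ideal.mem_span_singleton_self g) _ hξ

end Sch

section Main

open Scheme.IdealSheafData

variable {X Z : Scheme.{u}}

/-- every point of an effective Cartier divisor has local ring of dimension `≥ 1`. -/
theorem one_le_dim_of_mem_support [IsLocallyNoetherian X] (𝓘 : X.IdealSheafData)
    (hY : BlowUp.IsEffCartierIdeal 𝓘) (y : X) (hy : y ∈ 𝓘.support) :
    (1 : WithBot ℕ∞) ≤ ringKrullDim (X.presheaf.stalk y) := by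
  obtain ⟨W, hyW, f, hf, hgen⟩ := hY y
  haveI : IsNoetherianRing Γ(X, W.1) := IsLocallyNoetherian.component_noetherian W
  rw [ringKrullDim_stalk W.2 y hyW]
  have hfP : f ∈ (W.2.primeIdealOf ⟨y, hyW⟩).asIdeal :=
    (mem_support_iff_gen W.2 𝓘 f hgen y hyW).1 hy
  have := one_le_height f hf (W.2.primeIdealOf ⟨y, hyW⟩).asIdeal hfP
  exact_mod_cast this

theorem main
    [IsLocallyNoetherian X] [IrreducibleSpace ↥X]
    (hcat : ∀ x : ↥X, CAlg.IsCatenary ↑(X.presheaf.stalk x))
    (𝓘 : X.IdealSheafData) (hY : BlowUp.IsEffCartierIdeal 𝓘)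
    (i : Z ⟶ X) [IsClosedImmersion i] [IsIntegral Z] (hc : BlowUp.IsEffCartierIdeal (𝓘.comap i))
    (ζ : X) (hζ : ζ ∈ (𝓘.support : Set ↥X) ∩ Set.range i.base)
    (hmax : ∀ ζ' : ↥X, ζ' ∈ (𝓘.support : Set ↥X) ∩ Set.range i.base → ζ' ⤳ ζ → ζ' = ζ) :
    ringKrullDim ↑(X.presheaf.stalk ζ) =
      (⨅ y : (𝓘.support : Set ↥X), ringKrullDim ↑(X.presheaf.stalk y.1)) +
        ringKrullDim ↑(X.presheaf.stalk (i (genericPoint ↥Z))) := by
  obtain ⟨hζY, z, rfl⟩ := hζ
  obtain ⟨W, hζW, f, hf, hgen⟩ := hY (i z)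
  have hW : IsAffineOpen W.1 := W.2
  haveI : IsNoetherianRing Γ(X, W.1) := IsLocallyNoetherian.component_noetherian W
  set η : X := i (genericPoint Z) with hη
  have hηζ : η ⤳ i z := (genericPoint_specializes z).map i.continuous
  have hηW : η ∈ W.1 := hηζ.mem_open W.1.2 hζW
  have hηY : η ∉ 𝓘.support := by
    intro h
    have : genericPoint Z ∈ (𝓘.comap i).support :=
      (Groth.Agent.Lib.T2H6.BlowUpSeparate.mem_support_comap 𝓘 i _).2 h
    exact genericPoint_not_mem_support _ hc this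
  -- primes
  let P : Ideal Γ(X, W.1) := (hW.primeIdealOf ⟨i z, hζW⟩).asIdeal
  let Q : Ideal Γ(X, W.1) := (hW.primeIdealOf ⟨η, hηW⟩).asIdeal
  have hQP : Q ≤ P := (specializes_iff hW η (i z) hηW hζW).1 hηζ
  have hfP : f ∈ P := (mem_support_iff_gen hW 𝓘 f hgen (i z) hζW).1 hζY
  have hfQ : f ∉ Q := fun h => hηY ((mem_support_iff_gen hW 𝓘 f hgen η hηW).2 h)
  have hmin : ∀ P' : Ideal Γ(X, W.1), P'.IsPrime → Q ≤ P' → f ∈ P' → P' ≤ P → P' = P := by
    intro P' hP' hQP' hfP' hP'P
    let p' : PrimeSpectrum Γ(X, W.1) := ⟨P', hP'⟩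
    let ζ' : X := hW.fromSpec p'
    have hζ'W : ζ' ∈ W.1 := fromSpec_mem' hW p'
    have hp' : hW.primeIdealOf ⟨ζ', hζ'W⟩ = p' := primeIdealOf_fromSpec'' hW p'
    have h1 : ζ' ⤳ i z := by
      rw [specializes_iff hW ζ' (i z) hζ'W hζW, hp']
      exact hP'P
    have h2 : ζ' ∈ 𝓘.support := by
      rw [mem_support_iff_gen hW 𝓘 f hgen ζ' hζ'W, hp']
      exact hfP'
    have h3 : η ⤳ ζ' := by
      rw [specializes_iff hW η ζ' hηW hζ'W, hp']
      exact hQP'
    have h4 : ζ' ∈ Set.range i.base :=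
      h3.mem_closed i.isClosedEmbedding.isClosed_range ⟨_, rfl⟩
    have h5 : ζ' = i z := hmax ζ' ⟨h2, h4⟩ h1
    have h6 : hW.primeIdealOf ⟨ζ', hζ'W⟩ = hW.primeIdealOf ⟨i z, hζW⟩ := by
      congr 1
      exact Subtype.ext h5
    rw [hp'] at h6
    exact congrArg PrimeSpectrum.asIdeal h6
  -- irreducibility
  have hirr : (nilradical Γ(X, W.1)).IsPrime := by
    rw [← PrimeSpectrum.irreducibleSpace_iff_isPrime_nilradical]
    haveI : PreirreducibleSpace (PrimeSpectrum Γ(X, W.1)) := ⟨by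
      have h := (PreirreducibleSpace.isPreirreducible_univ (X := X)).preimage
        hW.fromSpec.isOpenEmbedding
      rw [Set.preimage_univ] at h
      exact h⟩
    haveI : Nonempty (PrimeSpectrum Γ(X, W.1)) := ⟨hW.primeIdealOf ⟨i z, hζW⟩⟩
    exact ⟨inferInstance⟩
  -- the height formula
  have hht : P.height = Q.height + 1 := by
    letI : Algebra Γ(X, W.1) (X.presheaf.stalk (i z)) :=
      TopCat.Presheaf.algebra_section_stalk X.presheaf ⟨i z, hζW⟩
    haveI : IsLocalization.AtPrime (X.presheaf.stalk (i z)) P := hW.isLocalization_stalk ⟨i z, hζW⟩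
    exact height_eq_add_one hirr P Q hQP f hfP hfQ hmin (X.presheaf.stalk (i z)) (hcat (i z))
  -- the infimum
  have hinf : (⨅ y : (𝓘.support : Set ↥X), ringKrullDim ↑(X.presheaf.stalk y.1)) = 1 := by
    apply le_antisymm
    · obtain ⟨P₁, hP₁, hP₁P, hfP₁, hP₁h⟩ := exists_height_one f hf P hfP
      let p₁ : PrimeSpectrum Γ(X, W.1) := ⟨P₁, hP₁⟩
      let y₁ : X := hW.fromSpec p₁
      have hy₁W : y₁ ∈ W.1 := fromSpec_mem' hW p₁
      have hp₁ : hW.primeIdealOf ⟨y₁, hy₁W⟩ = p₁ := primeIdealOf_fromSpec'' hW p₁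
      have hy₁Y : y₁ ∈ 𝓘.support := by
        rw [mem_support_iff_gen hW 𝓘 f hgen y₁ hy₁W, hp₁]
        exact hfP₁
      refine (iInf_le _ (⟨y₁, hy₁Y⟩ : (𝓘.support : Set ↥X))).trans ?_
      show ringKrullDim ↑(X.presheaf.stalk y₁) ≤ 1
      rw [ringKrullDim_stalk hW y₁ hy₁W, hp₁]
      show ((P₁.height : ℕ∞) : WithBot ℕ∞) ≤ 1
      rw [hP₁h]
      rfl
    · exact le_iInf fun y => one_le_dim_of_mem_support 𝓘 hY y.1 y.2
  rw [hinf, ringKrullDim_stalk hW (i z) hζW, ringKrullDim_stalk hW η hηW]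
  show ((P.height : ℕ∞) : WithBot ℕ∞) = 1 + ((Q.height : ℕ∞) : WithBot ℕ∞)
  rw [hht, add_comm]
  push_cast
  rfl

end Main

end Groth.Agent.Lib.T2H6.ProperInter
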