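import Mathlib
import Groth.Agent.Lib.T2H6IntNum
import Groth.Agent.Lib.T2H6ProperInter
import Groth.Agent.Lib.T2H6ParShC
import Groth.Agent.Lib.T2H6AmpleCrit
set_option backward.isDefEq.respectTransparency.types false

/-!
# Intersection numbers and effective Cartier divisors (helper6)

* `mixed_cons` : the mixed difference in `e + 1` variables through the first variable.
* `inum_succ` : `(L_0 ⋯ L_e · F) = (L_1 ⋯ L_e · F ⊗ L_0) - (L_1 ⋯ L_e · F)`.
* `dim_support_le_of_isEffCartier` : an effective Cartier divisor has dimension `< dim X`.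
* `inum_eq_of_isEffCartier` : `(L_0 ⋯ L_e · X) = (L_1 ⋯ L_e · D)` for `L_0 = O(D)`.
-/

set_option autoImplicit false
set_option linter.style.haveILetI false
set_option linter.unusedSectionVars false
universe u

open AlgebraicGeometry CategoryTheory Limits TopologicalSpace Opposite

namespace Groth.Agent.Lib.T2H6.EffCartierInt

open Groth.Agent.Lib.T2H6.IntNum Groth.Agent.Lib.T2H6.MixedDiff Groth.Agent.Lib.T2H6.PolyLt
  Groth.Agent.Lib.T2H6.TensorPows Groth.Agent.Lib.T2H6.TensorDeg Groth.Agent.Lib.T2H6.AddFn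
  Groth.Agent.Lib.T2H5.Twist

section numerics

open Finset

variable {e : ℕ}

theorem pt_image_succ (T : Finset (Fin e)) :
    pt (T.image Fin.succ) = (Fin.cons 1 (pt T) : Fin (e + 1) → ℕ) := by
  funext i
  refine Fin.cases ?_ (fun j => ?_) i
  · have : (0 : Fin (e + 1)) ∉ T.image Fin.succ := by
      simp [Fin.succ_ne_zero]
    simp [pt, this]
  · have : j.succ ∈ T.image Fin.succ ↔ j ∈ T := by
      simp [Fin.succ_inj]
    simp [pt, this]

theorem pt_insert_zero_image_succ (T : Finset (Fin e)) :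
    pt (insert 0 (T.image Fin.succ)) = (Fin.cons 0 (pt T) : Fin (e + 1) → ℕ) := by
  funext i
  refine Fin.cases ?_ (fun j => ?_) i
  · simp [pt]
  · have : j.succ ∈ insert (0 : Fin (e + 1)) (T.image Fin.succ) ↔ j ∈ T := by
      simp [Fin.succ_inj, Fin.succ_ne_zero]
    simp [pt, this]

/-- the mixed difference through the first variable. -/
theorem mixed_cons {R : Type*} [Ring R] (f : (Fin (e + 1) → ℕ) → R) :
    mixed f = mixed (fun m : Fin e → ℕ => f (Fin.cons 1 m)) - mixed (fun m : Fin e → ℕ => f (Fin.cons 0 m)) := by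
  unfold mixed
  have hS : (Finset.univ : Finset (Fin (e + 1))) = insert 0 (Finset.univ.image Fin.succ) := by
    ext i
    refine Fin.cases ?_ (fun j => ?_) i <;> simp
  have h0 : (0 : Fin (e + 1)) ∉ (Finset.univ : Finset (Fin e)).image Fin.succ := by
    simp [Fin.succ_ne_zero]
  have hinj : Function.Injective (fun T : Finset (Fin e) => T.image Fin.succ) :=
    Finset.image_injective (Fin.succ_injective e)
  rw [← Finset.powerset_univ, hS, Finset.sum_powerset_insert h0, Finset.powerset_image,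
    Finset.sum_image (fun a _ b _ h => hinj h), Finset.sum_image (fun a _ b _ h => hinj h),
    Finset.powerset_univ, sub_eq_add_neg, ← Finset.sum_neg_distrib]
  congr 1
  · refine Finset.sum_congr rfl fun T _ => ?_
    rw [Finset.card_image_of_injective _ (Fin.succ_injective e), pt_image_succ]
  · refine Finset.sum_congr rfl fun T _ => ?_
    have hT : (0 : Fin (e + 1)) ∉ T.image Fin.succ := by
      simp [Fin.succ_ne_zero]
    rw [Finset.card_insert_of_notMem hT, Finset.card_image_of_injective _ (Fin.succ_injective e),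
      pt_insert_zero_image_succ, pow_succ, mul_neg, mul_one, neg_mul]

end numerics

section peel

variable {X : Scheme.{u}}

/-- peeling off the first twist. -/
theorem nonempty_tensorPows_succ_iso (F : X.Modules) : ∀ (e : ℕ) (L : Fin (e + 1) → X.Modules)
    (n : Fin (e + 1) → ℕ),
    Nonempty (Curv2.tensorPows F (e + 1) L n ≅
      Curv2.tensorPows (CohB1.tensorMod F (CohB1.tensorPow (L 0) (n 0))) e (fun j => L j.succ)
        (fun j => n j.succ)) := by
  intro e
  induction e with
  | zero => intro L n; exact ⟨Iso.refl _⟩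
  | succ e ih =>
    intro L n
    obtain ⟨ε⟩ := ih (fun j => L j.castSucc) (fun j => n j.castSucc)
    exact ⟨Groth.Agent.Lib.Helper23.AmpleIso.tensorModIso ε (Iso.refl _)⟩

end peel

section Main

variable {X : Scheme.{u}} (k : Type u) [Field k] [X.Over (Spec (CommRingCat.of k))]
  [IsProper (X ↘ Spec (CommRingCat.of k))]

theorem chi_cons_zero (e : ℕ) (L : Fin (e + 1) → X.Modules) (hL : ∀ i, PicF.IsInvertible (L i))
    (F : X.Modules) (hF : Coh.IsCoh F) (m : Fin e → ℕ) :
    chiFun k (e + 1) L F (Fin.cons 0 m) = chiFun k e (fun j => L j.succ) F m := by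
  unfold chiFun
  obtain ⟨ε⟩ := nonempty_tensorPows_succ_iso F e L (Fin.cons 0 m)
  have h1 : (fun j : Fin e => (Fin.cons 0 m : Fin (e + 1) → ℕ) j.succ) = m := funext fun j => by simp
  have h2 : (Fin.cons 0 m : Fin (e + 1) → ℕ) 0 = 0 := by simp
  rw [h1, h2] at ε
  have hFO : Coh.IsCoh (CohB1.tensorMod F (CohB1.tensorPow (L 0) 0)) :=
    isCoh_tensor _ _ hF Groth.Agent.Lib.T2H5.GenIsoF.isCoh_structureModule
  rw [Groth.Agent.Lib.T2H6.HiggsCurve.euler_eq_of_iso k ε
    (isCoh_tensorPows F hF (e + 1) L hL _)]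
  exact (isAddFn_tensorPows e (isAddFn_euler (X := X) k) (fun j => L j.succ) (fun j => hL j.succ) m).iso
    ((trUnitIso (X := X)).app F) hFO

theorem chi_cons_one (e : ℕ) (L : Fin (e + 1) → X.Modules) (hL : ∀ i, PicF.IsInvertible (L i))
    (F : X.Modules) (hF : Coh.IsCoh F) (m : Fin e → ℕ) :
    chiFun k (e + 1) L F (Fin.cons 1 m) = chiFun k e (fun j => L j.succ) (CohB1.tensorMod F (L 0)) m := by
  unfold chiFun
  obtain ⟨ε⟩ := nonempty_tensorPows_succ_iso F e L (Fin.cons 1 m)
  have h1 : (fun j : Fin e => (Fin.cons 1 m : Fin (e + 1) → ℕ) j.succ) = m := funext fun j => by simp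
  have h2 : (Fin.cons 1 m : Fin (e + 1) → ℕ) 0 = 1 := by simp
  rw [h1, h2] at ε
  have hL0 : Coh.IsCoh (L 0) := Groth.Agent.Lib.T2H6.CurveDeg.isCoh_of_isInvertible _ (hL 0)
  have hL1 : Coh.IsCoh (CohB1.tensorPow (L 0) 1) :=
    Groth.Agent.Lib.T2H6.CurveDeg.isCoh_of_isInvertible _
      (Groth.Agent.Lib.Helper23.SecTw.isInvertible_tensorPow (hL 0) 1)
  have hFO : Coh.IsCoh (CohB1.tensorMod F (CohB1.tensorPow (L 0) 1)) := isCoh_tensor _ _ hF hL1
  obtain ⟨u⟩ := Groth.Agent.Lib.T2H6.TensorFree.nonempty_unitTensorIso' (L 0)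
  rw [Groth.Agent.Lib.T2H6.HiggsCurve.euler_eq_of_iso k ε
    (isCoh_tensorPows F hF (e + 1) L hL _)]
  exact (isAddFn_tensorPows e (isAddFn_euler (X := X) k) (fun j => L j.succ) (fun j => hL j.succ) m).iso
    ((trCongr u).app F) hFO

/-- `(L_0 ⋯ L_e · F) = (L_1 ⋯ L_e · F ⊗ L_0) - (L_1 ⋯ L_e · F)`. -/
theorem inum_succ (e : ℕ) (L : Fin (e + 1) → X.Modules) (hL : ∀ i, PicF.IsInvertible (L i))
    (F : X.Modules) (hF : Coh.IsCoh F) :
    inum k (e + 1) L F =
      inum k e (fun j => L j.succ) (CohB1.tensorMod F (L 0)) - inum k e (fun j => L j.succ) F := by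
  unfold inum
  rw [mixed_cons]
  congr 1
  · congr 1
    funext m
    exact chi_cons_one k e L hL F hF m
  · congr 1
    funext m
    exact chi_cons_zero k e L hL F hF m

end Main

section Dim

variable {X : Scheme.{u}} [IsLocallyNoetherian X]

/-- an effective Cartier divisor has dimension `< dim X`. -/
theorem dim_support_le_of_isEffCartier (D : X.IdealSheafData) (hD : BlowUp.IsEffCartierIdeal D) (e : ℕ)
    (hX : topologicalKrullDim X ≤ ((e + 1 : ℕ) : WithBot ℕ∞)) :
    topologicalKrullDim (D.support : Set X) ≤ (e : WithBot ℕ∞) := by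
  unfold topologicalKrullDim at hX ⊢
  refine iSup_le fun p => ?_
  have hφ : StrictMono (IrreducibleCloseds.map (Subtype.val : ↥(D.support : Set X) → X)
      continuous_subtype_val) :=
    IrreducibleCloseds.map_strictMono_of_isInducing Topology.IsInducing.subtypeVal
  set q := p.map _ hφ with hq
  have hCD : ((q.last : IrreducibleCloseds X) : Set X) ⊆ (D.support : Set X) := by
    rw [hq, LTSeries.last_map]
    change closure (Subtype.val '' ((p.last : IrreducibleCloseds ↥(D.support : Set X)) : Set ↥(D.support : Set X))) ⊆ _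
    refine closure_minimal ?_ D.support.isClosed
    rintro _ ⟨y, _, rfl⟩
    exact y.2
  obtain ⟨y, hy⟩ := QuasiSober.sober q.last.isIrreducible q.last.isClosed
  have hyD : y ∈ D.support := hCD hy.mem
  have h1 := Groth.Agent.Lib.T2H6.ProperInter.one_le_dim_of_mem_support D hD y hyD
  rw [AlgebraicGeometry.ringKrullDim_stalk_eq_coheight] at h1
  have h2 : ¬ IsMax y := by
    intro hmax
    rw [Order.coheight_eq_zero.2 hmax] at h1
    exact absurd h1 (by norm_num)
  obtain ⟨y', hy'⟩ := not_isMax_iff.1 h2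
  have hspec : y' ⤳ y := hy'.le
  have hnspec : ¬ y ⤳ y' := hy'.not_ge
  let C' : IrreducibleCloseds X := ⟨closure {y'}, isIrreducible_singleton.closure, isClosed_closure⟩
  have hlt : q.last < C' := by
    refine lt_of_le_of_ne ?_ ?_
    · change ((q.last : IrreducibleCloseds X) : Set X) ⊆ closure {y'}
      rw [← hy.def]
      exact closure_minimal (Set.singleton_subset_iff.2 (specializes_iff_mem_closure.1 hspec)) isClosed_closure
    · intro heq
      apply hnspec
      rw [specializes_iff_mem_closure, hy.def, heq]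
      exact subset_closure (Set.mem_singleton y')
  have h3 := Order.LTSeries.length_le_krullDim (q.snoc C' hlt)
  have h4 : (q.snoc C' hlt).length = p.length + 1 := by
    rw [RelSeries.snoc_length, hq, LTSeries.map_length]
  rw [h4] at h3
  have h5 : ((p.length + 1 : ℕ) : WithBot ℕ∞) ≤ ((e + 1 : ℕ) : WithBot ℕ∞) := h3.trans hX
  have h6 : p.length + 1 ≤ e + 1 := by exact_mod_cast h5
  exact_mod_cast Nat.le_of_succ_le_succ h6

end Dim

section Main2

variable {X : Scheme.{u}} (k : Type u) [Field k] [X.Over (Spec (CommRingCat.of k))]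
  [IsProper (X ↘ Spec (CommRingCat.of k))]

omit [IsProper (X ↘ Spec (CommRingCat.of k))] in
theorem dim_support_quotMod_le_of_isEffCartier [IsLocallyNoetherian X] (e : ℕ)
    (hX : topologicalKrullDim X ≤ ((e + 1 : ℕ) : WithBot ℕ∞))
    (D : X.IdealSheafData) (hD : FGA.IsEffCartier D) :
    topologicalKrullDim (CohB1.support (ClSub.quotMod D)) ≤ (e : WithBot ℕ∞) :=
  ((Topology.IsEmbedding.inclusion
    (Groth.Agent.Lib.T2H6.ParShC.support_quotMod_subset D)).isInducing.topologicalKrullDim_le).trans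
    (dim_support_le_of_isEffCartier D (fun x => hD x) e hX)

/-- **`(L_0 ⋯ L_e · X) = (L_1 ⋯ L_e · D)` for an effective Cartier divisor `D` with `L_0 = O(D)`.** -/
theorem inum_eq_of_isEffCartier (e : ℕ) (hX : topologicalKrullDim X ≤ ((e + 1 : ℕ) : WithBot ℕ∞))
    (D : X.IdealSheafData) (hD : FGA.IsEffCartier D)
    (L : Fin (e + 1) → X.Modules) (hL : ∀ j, PicF.IsInvertible (L j))
    (hLD : ClSub.IsInverseOf (L 0) (ClSub.idealMod D)) :
    inum k (e + 1) L (Coh.structureModule X) = inum k e (fun j => L j.succ) (ClSub.quotMod D) := by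
  haveI : IsNoetherian X := Groth.Agent.Lib.T2H6.CurveSatur.isNoetherian_of_proper k
  have hL' : ∀ j : Fin e, PicF.IsInvertible (L j.succ) := fun j => hL j.succ
  have hΦ := isAddFn_inum k e (fun j => L j.succ) hL'
  have hΦtr := Groth.Agent.Lib.T2H6.TensorDegGen.IsAddFn.comp_tr hΦ (L 0) 1
    (Groth.Agent.Lib.Helper23.SecTw.isFinLocFreeOfRank_one_of_isInvertible _ (hL 0))
  have hOc : Coh.IsCoh (Coh.structureModule X) := Groth.Agent.Lib.T2H5.GenIsoF.isCoh_structureModule
  have hQc : Coh.IsCoh (ClSub.quotMod D) := Groth.Agent.Lib.T2H6.ParShC.isCoh_quotMod D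
  haveI := Groth.Agent.Lib.T2H6.AmpleCrit.isQuasicoherent_idealMod D
  haveI : Mono (ClSub.idealModι D) := inferInstanceAs (Mono (kernel.ι (ClSub.toSubscheme D)))
  have hIc : Coh.IsCoh (ClSub.idealMod D) :=
    Groth.Agent.Lib.T2H5.Devissage.isCoh_of_mono (ClSub.idealModι D) hOc inferInstance
  -- the dimension of `D`
  have hdimD : topologicalKrullDim (CohB1.support (ClSub.quotMod D)) ≤ (e : WithBot ℕ∞) :=
    dim_support_quotMod_le_of_isEffCartier e hX D hD
  -- additivity along `0 → I ⊗ L_0 → L_0 → O_D ⊗ L_0 → 0`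
  have hadd := hΦtr.add _ (Groth.Agent.Lib.T2H6.AmpleCrit.idealSC_shortExact D) hIc hOc hQc
  change inum k e (fun j => L j.succ) (CohB1.tensorMod (Coh.structureModule X) (L 0)) =
    inum k e (fun j => L j.succ) (CohB1.tensorMod (ClSub.idealMod D) (L 0)) +
      inum k e (fun j => L j.succ) (CohB1.tensorMod (ClSub.quotMod D) (L 0)) at hadd
  obtain ⟨ε⟩ := hLD
  have hIL : inum k e (fun j => L j.succ) (CohB1.tensorMod (ClSub.idealMod D) (L 0)) =
      inum k e (fun j => L j.succ) (Coh.structureModule X) :=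
    hΦ.iso (braidIso _ _ ≪≫ ε)
      (isCoh_tensor _ _ hIc (Groth.Agent.Lib.T2H6.CurveDeg.isCoh_of_isInvertible _ (hL 0)))
  have h1 := inum_succ k e L hL (Coh.structureModule X) hOc
  have h2 := inum_succ k e L hL (ClSub.quotMod D) hQc
  have h3 : inum k (e + 1) L (ClSub.quotMod D) = 0 :=
    inum_eq_zero k (e + 1) L hL _ hQc (lt_of_le_of_lt hdimD (natCast_lt_succ e))
  rw [h1, hadd, hIL]
  rw [h3] at h2
  linarith

end Main2

end Groth.Agent.Lib.T2H6.EffCartierInt
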