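import Mathlib
import Groth.Prelude
import Groth.Agent.Lib.T2H6GVMain
import Groth.Agent.Lib.T2H6IntNum
import Groth.Agent.Lib.T2H6EffCartierInt
import Groth.Agent.Lib.T2H6FieldBC2
import Groth.Agent.Lib.Helper23TensorUnit
set_option backward.isDefEq.respectTransparency.types false

/-!
# Bridge between the `FGA` Euler characteristics / intersection numbers and the `T2H6` ones (helper6)

Namespace `Groth.Agent.Lib.T2H6.FGABridge`.  For `X` proper over a field `k` with `dim X ≤ d`:

* `eulerCharLE_eq_euler` : `FGA.eulerCharLE k X F d = Curv2.euler k X F` (Grothendieck vanishing);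
* `nonempty_multiTwist_iso` : `FGA.multiTwist L m ⊗ F ≅ Curv2.tensorPows F n L m`;
* `nonempty_tensorList_sort_iso` : `tensorList (I.sort.map M) ⊗ F ≅ tensorPows F r M 1_I`;
* `intNum_eq` : `FGA.intNum k X d M F = (-1)^r * inum k r M F`.
-/

set_option autoImplicit false
set_option linter.unusedSectionVars false
set_option linter.unusedVariables false
universe u
open CategoryTheory CategoryTheory.Limits AlgebraicGeometry TopologicalSpace Opposite

namespace Groth.Agent.Lib.T2H6.FGABridge

open Groth.Agent.Lib.T2H6.TensorPows Groth.Agent.Lib.T2H6.IntNum Groth.Agent.Lib.T2H6.MixedDiff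
  Groth.Agent.Lib.Helper23.AmpleIso Groth.Agent.Lib.Helper23.TensorUnit

section vanish

variable (k : Type u) [Field k] (X : Scheme.{u}) [X.Over (Spec (CommRingCat.of k))]
  [IsProper (X ↘ Spec (CommRingCat.of k))]

include k in
theorem subsingleton_HH_of_lt (F : X.Modules) (d : ℕ) (hd : topologicalKrullDim X ≤ d) (i : ℕ) (hi : d < i) :
    Subsingleton (Coh.HH X F i) := by
  haveI : IsNoetherian X := Groth.Agent.Lib.T2H6.CurveSatur.isNoetherian_of_proper k
  exact Groth.Agent.Lib.T2H6.GVMain.subsingleton_HH X F i (lt_of_le_of_lt hd (by exact_mod_cast hi))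

/-- the truncated Euler characteristic is the Euler characteristic. -/
theorem eulerCharLE_eq_euler (F : X.Modules) (d : ℕ) (hd : topologicalKrullDim X ≤ d) :
    FGA.eulerCharLE k X F d = Curv2.euler k X F := by
  unfold FGA.eulerCharLE Curv2.euler
  symm
  refine finsum_eq_sum_of_support_subset _ fun i hi => ?_
  rw [Function.mem_support] at hi
  rw [Finset.coe_range, Set.mem_Iio]
  by_contra hlt
  push Not at hlt
  haveI := subsingleton_HH_of_lt k X F d hd i (by omega)
  apply hi
  rw [Module.finrank_zero_of_subsingleton, Nat.cast_zero, mul_zero]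

end vanish

section iso

variable {X : Scheme.{u}}

theorem multiTwist_succ {n : ℕ} (L : Fin (n + 1) → X.Modules) (m : Fin (n + 1) → ℕ) :
    FGA.multiTwist L m = CohB1.tensorMod (CohB1.tensorPow (L 0) (m 0))
      (FGA.multiTwist (fun j => L j.succ) (fun j => m j.succ)) := by
  unfold FGA.multiTwist
  rw [List.finRange_succ, List.map_cons, List.map_map]
  rfl

/-- `multiTwist L m ⊗ F ≅ tensorPows F n L m`. -/
theorem nonempty_multiTwist_iso : ∀ (n : ℕ) (F : X.Modules) (L : Fin n → X.Modules) (m : Fin n → ℕ),
    Nonempty (CohB1.tensorMod (FGA.multiTwist L m) F ≅ Curv2.tensorPows F n L m) := by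
  intro n
  induction n with
  | zero =>
    intro F L m
    exact ⟨unitTensorIso F⟩
  | succ n ih =>
    intro F L m
    obtain ⟨e⟩ := ih (CohB1.tensorMod F (CohB1.tensorPow (L 0) (m 0))) (fun j => L j.succ) (fun j => m j.succ)
    obtain ⟨ε⟩ := Groth.Agent.Lib.T2H6.EffCartierInt.nonempty_tensorPows_succ_iso F n L m
    rw [multiTwist_succ]
    set A := CohB1.tensorPow (L 0) (m 0)
    set B := FGA.multiTwist (fun j => L j.succ) (fun j => m j.succ)
    exact ⟨tensorModIso (braidIso A B) (Iso.refl F) ≪≫ assocIso' B A F ≪≫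
      tensorModIso (Iso.refl B) (braidIso A F) ≪≫ e ≪≫ ε.symm⟩

end iso

section intNum

variable {X : Scheme.{u}} {r : ℕ}

/-- indicator exponents -/
def ind (I : Finset (Fin r)) : Fin r → ℕ := fun i => if i ∈ I then 1 else 0

theorem sort_eq_filter (I : Finset (Fin r)) :
    I.sort (· ≤ ·) = (List.finRange r).filter (fun i => decide (i ∈ I)) := by
  refine List.SortedLT.eq_of_mem_iff (Finset.sortedLT_sort I) ?_ fun a => ?_
  · rw [List.sortedLT_iff_pairwise]
    exact List.Pairwise.filter _ (List.sortedLT_iff_pairwise.1 (List.sortedLT_finRange r))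
  · rw [Finset.mem_sort, List.mem_filter]
    simp

theorem nonempty_tensorList_filter_iso (M : Fin r → X.Modules) (I : Finset (Fin r)) (l : List (Fin r)) :
    Nonempty (FGA.tensorList ((l.filter (fun i => decide (i ∈ I))).map M) ≅
      FGA.tensorList (l.map fun i => CohB1.tensorPow (M i) (ind I i))) := by
  induction l with
  | nil => exact ⟨Iso.refl _⟩
  | cons i l ih =>
    obtain ⟨e⟩ := ih
    by_cases hi : i ∈ I
    · have h1 : (i :: l).filter (fun i => decide (i ∈ I)) = i :: l.filter (fun i => decide (i ∈ I)) :=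
        List.filter_cons_of_pos (by simpa using hi)
      have h2 : CohB1.tensorPow (M i) (ind I i) =
          CohB1.tensorMod (Coh.structureModule X) (M i) := by
        unfold ind
        rw [if_pos hi]
        rfl
      rw [h1, List.map_cons, List.map_cons]
      change Nonempty (CohB1.tensorMod (M i) _ ≅ CohB1.tensorMod (CohB1.tensorPow (M i) (ind I i)) _)
      rw [h2]
      exact ⟨tensorModIso (unitTensorIso (M i)).symm e⟩
    · have h1 : (i :: l).filter (fun i => decide (i ∈ I)) = l.filter (fun i => decide (i ∈ I)) :=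
        List.filter_cons_of_neg (by simpa using hi)
      have h2 : CohB1.tensorPow (M i) (ind I i) = Coh.structureModule X := by
        unfold ind
        rw [if_neg hi]
        rfl
      rw [h1, List.map_cons]
      change Nonempty (_ ≅ CohB1.tensorMod (CohB1.tensorPow (M i) (ind I i)) _)
      rw [h2]
      exact ⟨e ≪≫ (unitTensorIso _).symm⟩

/-- `tensorList (I.sort.map M) ⊗ F ≅ tensorPows F r M 1_I`. -/
theorem nonempty_tensorList_sort_iso (M : Fin r → X.Modules) (I : Finset (Fin r)) (F : X.Modules) :
    Nonempty (CohB1.tensorMod (FGA.tensorList ((I.sort (· ≤ ·)).map M)) F ≅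
      Curv2.tensorPows F r M (ind I)) := by
  obtain ⟨e⟩ := nonempty_tensorList_filter_iso M I (List.finRange r)
  obtain ⟨ε⟩ := nonempty_multiTwist_iso r F M (ind I)
  rw [sort_eq_filter]
  exact ⟨tensorModIso e (Iso.refl F) ≪≫ ε⟩

theorem ind_compl (I : Finset (Fin r)) : ind I = pt Iᶜ := by
  funext i
  unfold ind pt
  by_cases hi : i ∈ I
  · rw [if_pos hi, if_neg (by simpa using hi)]
  · rw [if_neg hi, if_pos (by simpa using hi)]

variable (k : Type u) [Field k] [X.Over (Spec (CommRingCat.of k))]
  [IsProper (X ↘ Spec (CommRingCat.of k))]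

/-- the `FGA` intersection symbol in terms of the mixed difference `inum`. -/
theorem intNum_eq (d : ℕ) (hd : topologicalKrullDim X ≤ d) (M : Fin r → X.Modules) (F : X.Modules) :
    FGA.intNum k X d M F = (-1 : ℤ) ^ r * inum k r M F := by
  unfold FGA.intNum inum mixed chiFun
  rw [Finset.mul_sum]
  refine Fintype.sum_equiv (Equiv.ofBijective (fun I : Finset (Fin r) => Iᶜ) compl_involutive.bijective)
    _ _ fun I => ?_
  obtain ⟨e⟩ := nonempty_tensorList_sort_iso M I F
  change (-1 : ℤ) ^ I.card * _ = (-1 : ℤ) ^ r * ((-1 : ℤ) ^ (Iᶜ).card * _)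
  rw [eulerCharLE_eq_euler k X _ d hd,
    Groth.Agent.Lib.T2H6.FieldBC.euler_eq_of_iso k X e, ind_compl, ← mul_assoc]
  congr 1
  have hc : (Iᶜ).card = r - I.card := by
    rw [Finset.card_compl, Fintype.card_fin]
  have hle : I.card ≤ r := by
    have := Finset.card_le_univ I
    rwa [Fintype.card_fin] at this
  rw [hc, ← pow_add]
  have : r + (r - I.card) = 2 * (r - I.card) + I.card := by omega
  rw [this, pow_add, pow_mul]
  norm_num

end intNum

end Groth.Agent.Lib.T2H6.FGABridge
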