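import Mathlib
import Groth.Agent.Lib.T2H6EffCartierInt
import Groth.Agent.Lib.Helper23TensorUnit
import Groth.Agent.Lib.T2H6FieldBC2
import Groth.Agent.Lib.T2H6TensorFree
set_option backward.isDefEq.respectTransparency.types false

/-!
# Peeling the last entry of an intersection number (helper6)

Namespace `Groth.Agent.Lib.T2H6.INumSnoc`.

* `mixed_snoc` : the mixed difference in `e + 1` variables through the last variable.
* `inum_snoc` : `(L_0 ⋯ L_e · F) = (L_0 ⋯ L_{e-1} · F ⊗ L_e) - (L_0 ⋯ L_{e-1} · F)`.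
-/

set_option autoImplicit false
set_option linter.style.haveILetI false
set_option linter.unusedSectionVars false
universe u

open AlgebraicGeometry CategoryTheory Limits TopologicalSpace Opposite

namespace Groth.Agent.Lib.T2H6.INumSnoc

open Groth.Agent.Lib.T2H6.IntNum Groth.Agent.Lib.T2H6.MixedDiff Groth.Agent.Lib.T2H6.PolyLt
  Groth.Agent.Lib.T2H6.TensorPows Groth.Agent.Lib.T2H6.TensorDeg Groth.Agent.Lib.T2H6.AddFn
  Groth.Agent.Lib.T2H5.Twist

section numerics

open Finset

variable {e : ℕ}

theorem pt_image_castSucc (T : Finset (Fin e)) :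
    pt (T.image Fin.castSucc) = (Fin.snoc (pt T) 1 : Fin (e + 1) → ℕ) := by
  funext i
  refine Fin.lastCases ?_ (fun j => ?_) i
  · have : Fin.last e ∉ T.image Fin.castSucc := by
      simp [Fin.castSucc_ne_last]
    simp [pt, this]
  · have : j.castSucc ∈ T.image Fin.castSucc ↔ j ∈ T := by
      simp [Fin.castSucc_inj]
    simp [pt, this]

theorem pt_insert_last_image_castSucc (T : Finset (Fin e)) :
    pt (insert (Fin.last e) (T.image Fin.castSucc)) = (Fin.snoc (pt T) 0 : Fin (e + 1) → ℕ) := by
  funext i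
  refine Fin.lastCases ?_ (fun j => ?_) i
  · simp [pt]
  · have : j.castSucc ∈ insert (Fin.last e) (T.image Fin.castSucc) ↔ j ∈ T := by
      simp [Fin.castSucc_inj, Fin.castSucc_ne_last]
    simp [pt, this]

/-- the mixed difference through the last variable. -/
theorem mixed_snoc {R : Type*} [Ring R] (f : (Fin (e + 1) → ℕ) → R) :
    mixed f = mixed (fun m : Fin e → ℕ => f (Fin.snoc m 1)) - mixed (fun m : Fin e → ℕ => f (Fin.snoc m 0)) := by
  unfold mixed
  have hS : (Finset.univ : Finset (Fin (e + 1))) = insert (Fin.last e) (Finset.univ.image Fin.castSucc) := by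
    ext i
    refine Fin.lastCases ?_ (fun j => ?_) i <;> simp
  have h0 : Fin.last e ∉ (Finset.univ : Finset (Fin e)).image Fin.castSucc := by
    simp [Fin.castSucc_ne_last]
  have hinj : Function.Injective (fun T : Finset (Fin e) => T.image Fin.castSucc) :=
    Finset.image_injective (Fin.castSucc_injective e)
  rw [← Finset.powerset_univ, hS, Finset.sum_powerset_insert h0, Finset.powerset_image,
    Finset.sum_image (fun a _ b _ h => hinj h), Finset.sum_image (fun a _ b _ h => hinj h),
    Finset.powerset_univ, sub_eq_add_neg, ← Finset.sum_neg_distrib]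
  congr 1
  · refine Finset.sum_congr rfl fun T _ => ?_
    rw [Finset.card_image_of_injective _ (Fin.castSucc_injective e), pt_image_castSucc]
  · refine Finset.sum_congr rfl fun T _ => ?_
    have hT : Fin.last e ∉ T.image Fin.castSucc := by
      simp [Fin.castSucc_ne_last]
    rw [Finset.card_insert_of_notMem hT, Finset.card_image_of_injective _ (Fin.castSucc_injective e),
      pt_insert_last_image_castSucc, pow_succ, mul_neg, mul_one, neg_mul]

end numerics

section Main

variable {X : Scheme.{u}} (k : Type u) [Field k] [X.Over (Spec (CommRingCat.of k))]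
  [IsProper (X ↘ Spec (CommRingCat.of k))]

theorem tensorPows_snoc (F : X.Modules) (e : ℕ) (L : Fin (e + 1) → X.Modules) (m : Fin e → ℕ) (a : ℕ) :
    Curv2.tensorPows F (e + 1) L (Fin.snoc m a) =
      CohB1.tensorMod (Curv2.tensorPows F e (fun j => L j.castSucc) m)
        (CohB1.tensorPow (L (Fin.last e)) a) := by
  have h1 : (fun j : Fin e => (Fin.snoc m a : Fin (e + 1) → ℕ) j.castSucc) = m := funext fun j => by simp
  have h2 : (Fin.snoc m a : Fin (e + 1) → ℕ) (Fin.last e) = a := by simp
  change CohB1.tensorMod (Curv2.tensorPows F e (fun j => L j.castSucc)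
    (fun j : Fin e => (Fin.snoc m a : Fin (e + 1) → ℕ) j.castSucc))
    (CohB1.tensorPow (L (Fin.last e)) ((Fin.snoc m a : Fin (e + 1) → ℕ) (Fin.last e))) = _
  rw [h1, h2]

theorem chi_snoc_zero (e : ℕ) (L : Fin (e + 1) → X.Modules)
    (F : X.Modules) (m : Fin e → ℕ) :
    chiFun k (e + 1) L F (Fin.snoc m 0) = chiFun k e (fun j => L j.castSucc) F m := by
  unfold chiFun
  rw [tensorPows_snoc]
  exact Groth.Agent.Lib.T2H6.FieldBC.euler_eq_of_iso k X ((trUnitIso (X := X)).app _)

theorem chi_snoc_one (e : ℕ) (L : Fin (e + 1) → X.Modules)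
    (F : X.Modules) (m : Fin e → ℕ) :
    chiFun k (e + 1) L F (Fin.snoc m 1) =
      chiFun k e (fun j => L j.castSucc) (CohB1.tensorMod F (L (Fin.last e))) m := by
  unfold chiFun
  rw [tensorPows_snoc]
  obtain ⟨u⟩ := Groth.Agent.Lib.T2H6.TensorFree.nonempty_unitTensorIso' (L (Fin.last e))
  obtain ⟨ε⟩ := nonempty_tensorPows_tensor_iso F (L (Fin.last e)) e (fun j => L j.castSucc) m
  exact Groth.Agent.Lib.T2H6.FieldBC.euler_eq_of_iso k X ((trCongr u).app _ ≪≫ ε.symm)

/-- `(L_0 ⋯ L_e · F) = (L_0 ⋯ L_{e-1} · F ⊗ L_e) - (L_0 ⋯ L_{e-1} · F)`. -/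
theorem inum_snoc (e : ℕ) (L : Fin (e + 1) → X.Modules) (F : X.Modules) :
    inum k (e + 1) L F =
      inum k e (fun j => L j.castSucc) (CohB1.tensorMod F (L (Fin.last e))) -
        inum k e (fun j => L j.castSucc) F := by
  unfold inum
  rw [mixed_snoc]
  congr 1
  · congr 1
    funext m
    exact chi_snoc_one k e L F m
  · congr 1
    funext m
    exact chi_snoc_zero k e L F m

end Main

end Groth.Agent.Lib.T2H6.INumSnoc
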