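import Mathlib
import Groth.Agent.Lib.T2H6Snapper
import Groth.Agent.Lib.T2H5GenIsoF
set_option backward.isDefEq.respectTransparency.types false

/-!
# Additive functions as sums over the top-dimensional components, in any dimension (helper6)

For an additive function `Φ` (with values in an abelian group) on the coherent modules of a Noetherian scheme which
vanishes on the modules with `dim Supp < d`, and a coherent `F` with `dim Supp F ≤ d`,
`Φ(F) = ∑_ξ length(F_ξ) · Φ(O_{closure ξ})`, the sum over the points `ξ` whose closure has dimension `d`.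
-/

set_option autoImplicit false
set_option linter.style.haveILetI false
set_option linter.unusedSectionVars false
universe u

open AlgebraicGeometry CategoryTheory Limits TopologicalSpace Opposite

namespace Groth.Agent.Lib.T2H6.CompSumGen

open Groth.Agent.Lib.T2H5.GenIsoA Groth.Agent.Lib.T2H5.GenIsoB Groth.Agent.Lib.T2H5.GenIsoC
  Groth.Agent.Lib.T2H5.GenIsoE Groth.Agent.Lib.T2H6.Snapper
open Scheme.IdealSheafData

variable {X : Scheme.{u}} {A : Type*} [AddCommGroup A]

/-- additive functions with values in an abelian group. -/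
structure IsAddFnG (Φ : X.Modules → A) : Prop where
  iso : ∀ {M N : X.Modules}, (M ≅ N) → Coh.IsCoh M → Φ M = Φ N
  zero : ∀ M : X.Modules, IsZero M → Φ M = 0
  add : ∀ S : ShortComplex X.Modules, S.ShortExact → Coh.IsCoh S.X₁ → Coh.IsCoh S.X₂ →
    Coh.IsCoh S.X₃ → Φ S.X₂ = Φ S.X₁ + Φ S.X₃

theorem isAddFnG_of_isAddFn {Φ : X.Modules → ℤ} (hΦ : Groth.Agent.Lib.T2H6.AddFn.IsAddFn Φ) :
    IsAddFnG Φ :=
  ⟨fun e h => hΦ.iso e h, hΦ.zero, hΦ.add⟩

/-- the radical ideal of the closure of a point. -/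
noncomputable abbrev clI (ξ : X) : X.IdealSheafData :=
  vanishingIdeal ⟨closure ({ξ} : Set X), isClosed_closure⟩

/-- the closure of `ξ` has dimension `d`. -/
def DimPt (d : ℕ) (ξ : X) : Prop := topologicalKrullDim (closure ({ξ} : Set X)) = (d : WithBot ℕ∞)

open Classical in
/-- the contribution of the point `ξ`. -/
noncomputable def term (d : ℕ) (c : X → A) (F : X.Modules) (ξ : X) : A :=
  if DimPt d ξ then (lenAt ξ F).toNat • c ξ else 0

theorem term_pos {d : ℕ} (c : X → A) (F : X.Modules) {ξ : X} (h : DimPt d ξ) :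
    term d c F ξ = (lenAt ξ F).toNat • c ξ := if_pos h

theorem term_neg {d : ℕ} (c : X → A) (F : X.Modules) {ξ : X} (h : ¬ DimPt d ξ) :
    term d c F ξ = 0 := if_neg h

/-- the sum of the lengths at the points of dimension `d`, with weights `c`. -/
noncomputable def csum (d : ℕ) (c : X → A) (F : X.Modules) : A :=
  ∑ᶠ ξ : X, term d c F ξ

theorem not_natCast_add_one_le (d : ℕ) : ¬ ((d : WithBot ℕ∞) + 1 ≤ (d : WithBot ℕ∞)) := by
  intro h
  have h1 : ((d + 1 : ℕ) : WithBot ℕ∞) ≤ ((d : ℕ) : WithBot ℕ∞) := by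
    push_cast
    exact h
  have h2 : d + 1 ≤ d := by exact_mod_cast h1
  omega

/-- in an irreducible closed set of dimension `≤ d`, the only point of dimension `d` is the generic point. -/
theorem eq_of_dimPt {d : ℕ} (Z : Set X) (hZ : IsClosed Z) (hirr : IsIrreducible Z)
    (hdim : topologicalKrullDim Z ≤ d) (ζ : X) (hζ : IsGenericPoint ζ Z) (ξ : X) (hξZ : ξ ∈ Z)
    (hξ : DimPt d ξ) : ξ = ζ := by
  have hsub : closure ({ξ} : Set X) ⊆ Z := hZ.closure_subset_iff.2 (Set.singleton_subset_iff.2 hξZ)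
  have heq : closure ({ξ} : Set X) = Z := by
    by_contra hne
    have h1 := topologicalKrullDim_add_one_le _ Z isClosed_closure hirr hsub hne
    rw [hξ] at h1
    exact not_natCast_add_one_le d (h1.trans hdim)
  have h2 : IsGenericPoint ξ Z := heq
  exact h2.eq hζ

theorem lt_of_add_one_le {a : WithBot ℕ∞} {d : ℕ} (h : a + 1 ≤ (d : WithBot ℕ∞)) : a < (d : WithBot ℕ∞) := by
  induction a using WithBot.recBotCoe with
  | bot => exact WithBot.bot_lt_coe _
  | coe a' =>
    have h1 : ((a' + 1 : ℕ∞) : WithBot ℕ∞) ≤ ((d : ℕ∞) : WithBot ℕ∞) := by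
      push_cast
      exact h
    rw [WithBot.coe_le_coe] at h1
    have hne : a' ≠ ⊤ := by
      rintro rfl
      simp at h1
    have h2 : a' < (d : ℕ∞) := (ENat.add_one_le_iff hne).1 h1
    exact_mod_cast WithBot.coe_lt_coe.2 h2

/-- a closed subset not containing the generic point of an irreducible closed set of dimension `≤ d` has dimension
`< d`. -/
theorem dim_lt_of_notMem {d : ℕ} (Z : Set X) (hirr : IsIrreducible Z)
    (hdim : topologicalKrullDim Z ≤ d) (ζ : X) (hζZ : ζ ∈ Z) (Y : Set X) (hY : IsClosed Y) (hYZ : Y ⊆ Z)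
    (hζY : ζ ∉ Y) : topologicalKrullDim Y < d := by
  have hne : Y ≠ Z := fun h => hζY (h ▸ hζZ)
  exact lt_of_add_one_le ((topologicalKrullDim_add_one_le Y Z hY hirr hYZ hne).trans hdim)

section csum

theorem term_eq_zero (d : ℕ) (c : X → A) (F : X.Modules) (ξ : X)
    (h : DimPt d ξ → ξ ∉ CohB1.support F) : term d c F ξ = 0 := by
  by_cases hξ : DimPt d ξ
  · rw [term_pos c F hξ, (lenAt_eq_zero_iff ξ F).2 (h hξ)]
    simp
  · exact term_neg c F hξ

theorem support_term_subset (d : ℕ) (c : X → A) (F : X.Modules) :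
    Function.support (term d c F) ⊆ {ξ : X | DimPt d ξ ∧ ξ ∈ CohB1.support F} := by
  intro ξ hξ
  by_contra hnot
  apply hξ
  refine term_eq_zero d c F ξ fun hD hmem => hnot ⟨hD, hmem⟩

theorem csum_eq_single (d : ℕ) (c : X → A) (F : X.Modules) (ζ : X)
    (h : ∀ ξ : X, DimPt d ξ → ξ ∈ CohB1.support F → ξ = ζ) :
    csum d c F = term d c F ζ := by
  unfold csum
  refine finsum_eq_single _ ζ fun ξ hξ => ?_
  exact term_eq_zero d c F ξ fun hD hmem => hξ (h ξ hD hmem)

theorem csum_eq_zero (d : ℕ) (c : X → A) (F : X.Modules)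
    (h : ∀ ξ : X, DimPt d ξ → ξ ∉ CohB1.support F) : csum d c F = 0 := by
  unfold csum
  rw [finsum_congr fun ξ => term_eq_zero d c F ξ (h ξ)]
  exact finsum_zero

end csum

section Main

variable [IsNoetherian X]

/-- the three parts of the statement. -/
def Good (Φ : X.Modules → A) (d : ℕ) (M : X.Modules) : Prop :=
  (∀ ξ : X, DimPt d ξ → lenAt ξ M ≠ ⊤) ∧
  {ξ : X | DimPt d ξ ∧ ξ ∈ CohB1.support M}.Finite ∧
  Φ M = csum d (fun ξ => Φ (ClSub.quotMod (clI ξ))) M

theorem good_of_support_subset {Φ : X.Modules → A} (d : ℕ)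
    (hvan : ∀ N : X.Modules, Coh.IsCoh N → topologicalKrullDim (CohB1.support N) < d → Φ N = 0)
    (Z : Set X) (hZ : IsClosed Z) (hirr : IsIrreducible Z) (hdim : topologicalKrullDim Z ≤ d)
    (ζ : X) (hζ : IsGenericPoint ζ Z) (N : X.Modules) (hN : Coh.IsCoh N) (hNZ : CohB1.support N ⊆ Z)
    (hlen : lenAt ζ N ≠ ⊤)
    (hval : DimPt d ζ → Φ N = (lenAt ζ N).toNat • Φ (ClSub.quotMod (clI ζ))) :
    Good Φ d N := by
  have huniq : ∀ ξ : X, DimPt d ξ → ξ ∈ CohB1.support N → ξ = ζ := fun ξ hD hmem =>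
    eq_of_dimPt Z hZ hirr hdim ζ hζ ξ (hNZ hmem) hD
  refine ⟨fun ξ hD => ?_, ?_, ?_⟩
  · by_cases hmem : ξ ∈ CohB1.support N
    · rw [huniq ξ hD hmem]
      exact hlen
    · rw [(lenAt_eq_zero_iff ξ N).2 hmem]
      exact ENat.zero_ne_top
  · refine (Set.finite_singleton ζ).subset ?_
    rintro ξ ⟨hD, hmem⟩
    exact huniq ξ hD hmem
  · rw [csum_eq_single d _ N ζ huniq]
    by_cases hD : DimPt d ζ
    · rw [term_pos _ N hD]
      exact hval hD
    · rw [term_neg _ N hD]
      refine hvan N hN (lt_of_le_of_ne ?_ ?_)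
      · exact ((Topology.IsEmbedding.inclusion hNZ).isInducing.topologicalKrullDim_le).trans hdim
      · intro heq
        apply hD
        -- `dim Supp N = d` forces `dim Z = d`
        have h1 : topologicalKrullDim Z = d :=
          le_antisymm hdim (heq ▸ (Topology.IsEmbedding.inclusion hNZ).isInducing.topologicalKrullDim_le)
        unfold DimPt
        rw [hζ.def]
        exact h1

/-- the direct images of the ideals of an integral closed subscheme are good. -/
theorem good_push_ideal {Φ : X.Modules → A} (hΦ : IsAddFnG Φ) (d : ℕ)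
    (hvan : ∀ N : X.Modules, Coh.IsCoh N → topologicalKrullDim (CohB1.support N) < d → Φ N = 0)
    (Z : Set X) (hZ : IsClosed Z) (hirr : IsIrreducible Z) (hdimZ : topologicalKrullDim Z ≤ d)
    (J : X.IdealSheafData) (hJ : J = vanishingIdeal ⟨Z, hZ⟩) [IsIntegral J.subscheme]
    (I : J.subscheme.Modules) (ι : I ⟶ Coh.structureModule J.subscheme) [Mono ι] (hIq : Coh.IsQCoh I)
    (hNc : Coh.IsCoh ((Scheme.Modules.pushforward J.subschemeι).obj I)) :
    Good Φ d ((Scheme.Modules.pushforward J.subschemeι).obj I) := by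
  haveI : IsLocallyNoetherian J.subscheme := LocallyOfFiniteType.isLocallyNoetherian J.subschemeι
  have hr : Set.range J.subschemeι = Z := by
    rw [hJ]
    exact range_subschemeι_vanishingIdeal Z hZ
  set ζ := J.subschemeι (genericPoint J.subscheme) with hζdef
  have hζ : IsGenericPoint ζ Z := by
    change closure {ζ} = Z
    rw [Groth.Agent.Lib.T2H5.GenIsoD.closure_genericPoint_image, hr]
  have hζZ : ζ ∈ Z := hζ.mem
  have hOc : Coh.IsCoh (Coh.structureModule J.subscheme) := Groth.Agent.Lib.T2H5.GenIsoF.isCoh_structureModule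
  have hIc : Coh.IsCoh I := Groth.Agent.Lib.T2H5.Devissage.isCoh_of_mono ι hOc hIq
  have hCc : Coh.IsCoh (cokernel ι) := isCoh_cokernel ι hIc hOc
  have hcl : IsClosed (Set.range J.subschemeι) := by rw [hr]; exact hZ
  have hsuppPush : ∀ N : J.subscheme.Modules,
      CohB1.support ((Scheme.Modules.pushforward J.subschemeι).obj N) ⊆ Z :=
    fun N => hr ▸ support_pushforward_subset J.subschemeι N hcl
  -- the short exact sequence `0 → i_* I → O_Z → i_* (O/I) → 0`
  have hS := Groth.Agent.Lib.T2H5.ClosedLin.shortExact_map_pushforward J.subschemeι _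
    (Groth.Agent.Lib.T2H5.ArtinRees.shortExact_cokernel_of_mono ι)
  have hpO : Coh.IsCoh ((Scheme.Modules.pushforward J.subschemeι).obj (Coh.structureModule J.subscheme)) :=
    Groth.Agent.Lib.T2H5.ClosedTransfer.isCoh_pushforward J.subschemeι _ hOc
  have hpC : Coh.IsCoh ((Scheme.Modules.pushforward J.subschemeι).obj (cokernel ι)) :=
    Groth.Agent.Lib.T2H5.ClosedTransfer.isCoh_pushforward J.subschemeι _ hCc
  have hlen := lenAt_shortExact ζ _ hS
  have hadd := hΦ.add _ hS hNc hpO hpC
  have hone : lenAt ζ ((Scheme.Modules.pushforward J.subschemeι).obj (Coh.structureModule J.subscheme)) = 1 :=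
    Groth.Agent.Lib.T2H6.DegComp.lenAt_quotMod J
  change lenAt ζ ((Scheme.Modules.pushforward J.subschemeι).obj (Coh.structureModule J.subscheme)) =
    lenAt ζ ((Scheme.Modules.pushforward J.subschemeι).obj I) +
      lenAt ζ ((Scheme.Modules.pushforward J.subschemeι).obj (cokernel ι)) at hlen
  change Φ ((Scheme.Modules.pushforward J.subschemeι).obj (Coh.structureModule J.subscheme)) =
    Φ ((Scheme.Modules.pushforward J.subschemeι).obj I) +
      Φ ((Scheme.Modules.pushforward J.subschemeι).obj (cokernel ι)) at hadd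
  rw [hone] at hlen
  have hJeq : clI ζ = J := by
    rw [hJ]
    unfold clI
    congr 1
    exact Closeds.ext hζ.def
  refine good_of_support_subset d hvan Z hZ hirr hdimZ ζ hζ _ hNc (hsuppPush I) ?_ ?_
  · intro htop
    rw [htop, top_add] at hlen
    exact ENat.one_ne_top hlen
  · intro hD
    by_cases hC : ζ ∈ CohB1.support ((Scheme.Modules.pushforward J.subschemeι).obj (cokernel ι))
    · -- then `i_* I` vanishes at the generic point
      have h1 : lenAt ζ ((Scheme.Modules.pushforward J.subschemeι).obj (cokernel ι)) ≠ 0 :=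
        fun h => (lenAt_eq_zero_iff ζ _).1 h hC
      have h2 : lenAt ζ ((Scheme.Modules.pushforward J.subschemeι).obj I) = 0 := by
        by_contra h3
        have h4 : 1 ≤ lenAt ζ ((Scheme.Modules.pushforward J.subschemeι).obj I) :=
          Order.one_le_iff_ne_zero.2 h3
        have h5 : 1 ≤ lenAt ζ ((Scheme.Modules.pushforward J.subschemeι).obj (cokernel ι)) :=
          Order.one_le_iff_ne_zero.2 h1
        have h6 : (1 : ℕ∞) + 1 ≤ 1 := (add_le_add h4 h5).trans hlen.symm.le
        exact absurd h6 (by decide)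
      rw [h2]
      simp only [ENat.toNat_zero, zero_smul]
      refine hvan _ hNc (dim_lt_of_notMem Z hirr hdimZ ζ hζZ _
        (Groth.Agent.Lib.T2H5.Devissage.isClosed_support _ hNc) (hsuppPush I)
        ((lenAt_eq_zero_iff ζ _).1 h2))
    · have h1 : lenAt ζ ((Scheme.Modules.pushforward J.subschemeι).obj (cokernel ι)) = 0 :=
        (lenAt_eq_zero_iff ζ _).2 hC
      rw [h1, add_zero] at hlen
      rw [← hlen]
      simp only [ENat.toNat_one, one_smul]
      have h2 : Φ ((Scheme.Modules.pushforward J.subschemeι).obj (cokernel ι)) = 0 :=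
        hvan _ hpC (dim_lt_of_notMem Z hirr hdimZ ζ hζZ _
          (Groth.Agent.Lib.T2H5.Devissage.isClosed_support _ hpC) (hsuppPush _) hC)
      rw [h2, add_zero] at hadd
      rw [hJeq, ← hadd]

/-- **additive functions vanishing in dimension `< d` are sums over the `d`-dimensional components.** -/
theorem good {Φ : X.Modules → A} (hΦ : IsAddFnG Φ) (d : ℕ)
    (hvan : ∀ N : X.Modules, Coh.IsCoh N → topologicalKrullDim (CohB1.support N) < d → Φ N = 0)
    (F : X.Modules) (hF : Coh.IsCoh F) (hd : topologicalKrullDim (CohB1.support F) ≤ d) :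
    Good Φ d F := by
  classical
  set c : X → A := fun ξ => Φ (ClSub.quotMod (clI ξ)) with hc
  let P : X.Modules → Prop := fun M => Coh.IsCoh M → topologicalKrullDim (CohB1.support M) ≤ d → Good Φ d M
  have hP : ∀ M N : X.Modules, Nonempty (M ≅ N) → P M → P N := by
    rintro M N ⟨e⟩ hM hNc hNd
    have hMc : Coh.IsCoh M := Groth.Agent.Lib.T2H5.Devissage.isCoh_of_iso e.symm hNc
    have hsupp := support_eq_of_iso e
    obtain ⟨h1, h2, h3⟩ := hM hMc (by rwa [hsupp])
    refine ⟨fun ξ hD => ?_, ?_, ?_⟩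
    · rw [← lenAt_iso ξ e]
      exact h1 ξ hD
    · rwa [← hsupp]
    · rw [← hΦ.iso e hMc, h3]
      unfold csum
      refine finsum_congr fun ξ => ?_
      unfold term
      rw [lenAt_iso ξ e]
  have h0 : ∀ M : X.Modules, IsZero M → P M := by
    intro M hM _ _
    have hsupp : ∀ ξ : X, ξ ∉ CohB1.support M := fun ξ =>
      (lenAt_eq_zero_iff ξ M).1 (lenAt_of_isZero ξ hM)
    refine ⟨fun ξ _ => ?_, ?_, ?_⟩
    · rw [lenAt_of_isZero ξ hM]
      exact ENat.zero_ne_top
    · refine Set.finite_empty.subset ?_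
      rintro ξ ⟨_, hmem⟩
      exact hsupp ξ hmem
    · rw [hΦ.zero M hM, csum_eq_zero d _ M fun ξ _ => hsupp ξ]
  have hext : ∀ S : ShortComplex X.Modules, S.ShortExact → Coh.IsCoh S.X₁ → Coh.IsCoh S.X₂ →
      Coh.IsCoh S.X₃ → P S.X₁ → P S.X₃ → P S.X₂ := by
    intro S hS c1 c2 c3 hP1 hP3 _ hd2
    haveI := hS.mono_f
    haveI := hS.epi_g
    obtain ⟨a1, b1, e1⟩ := hP1 c1
      (((Topology.IsEmbedding.inclusion (support_subset_of_mono S.f)).isInducing.topologicalKrullDim_le).trans hd2)
    obtain ⟨a3, b3, e3⟩ := hP3 c3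
      (((Topology.IsEmbedding.inclusion (support_subset_of_epi S.g)).isInducing.topologicalKrullDim_le).trans hd2)
    refine ⟨fun ξ hD => ?_, ?_, ?_⟩
    · rw [lenAt_shortExact ξ S hS]
      exact WithTop.add_ne_top.2 ⟨a1 ξ hD, a3 ξ hD⟩
    · refine (b1.union b3).subset ?_
      rintro ξ ⟨hD, hmem⟩
      have h1 : lenAt ξ S.X₂ ≠ 0 := fun h => (lenAt_eq_zero_iff ξ S.X₂).1 h hmem
      rw [lenAt_shortExact ξ S hS] at h1
      by_cases h2 : lenAt ξ S.X₁ = 0
      · right
        refine ⟨hD, ?_⟩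
        by_contra h3
        rw [h2, (lenAt_eq_zero_iff ξ S.X₃).2 h3, add_zero] at h1
        exact h1 rfl
      · left
        refine ⟨hD, ?_⟩
        by_contra h3
        exact h2 ((lenAt_eq_zero_iff ξ S.X₁).2 h3)
    · rw [hΦ.add S hS c1 c2 c3, e1, e3]
      unfold csum
      rw [← finsum_add_distrib ((b1.subset (support_term_subset d c S.X₁)))
        ((b3.subset (support_term_subset d c S.X₃)))]
      refine finsum_congr fun ξ => ?_
      by_cases hD : DimPt d ξ
      · rw [term_pos c _ hD, term_pos c _ hD, term_pos c _ hD, lenAt_shortExact ξ S hS,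
          ENat.toNat_add (a1 ξ hD) (a3 ξ hD), add_nsmul]
      · rw [term_neg c _ hD, term_neg c _ hD, term_neg c _ hD, add_zero]
  refine Groth.Agent.Lib.T2H5.Devissage.core P hP h0 hext Set.univ ?_ F hF (Set.subset_univ _) hF hd
  intro Z hZ hirr _ ihN M hM hk hMc hMd
  have hsupp : CohB1.support M ⊆ Z := by
    have h := Groth.Agent.Lib.T2H6.AmpleComp.support_subset_of_killed _ M hM hk
    rwa [coe_support_vanishingIdeal] at h
  by_cases hne : CohB1.support M = Z
  swap
  · exact ihN M hM hsupp hne hMc hMd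
  have hdimZ : topologicalKrullDim Z ≤ d := hne ▸ hMd
  refine Groth.Agent.Lib.T2H5.GenIsoF.irr_step_ideal P hP h0 hext Z hZ hirr ihN ?_ M hM hk hMc hMd
  intro I ι hι hIq hNc _
  haveI := hι
  haveI : IsIntegral (vanishingIdeal ⟨Z, hZ⟩).subscheme := isIntegral_subscheme_vanishingIdeal Z hZ hirr
  exact good_push_ideal hΦ d hvan Z hZ hirr hdimZ (vanishingIdeal ⟨Z, hZ⟩) rfl I ι hIq hNc

end Main

end Groth.Agent.Lib.T2H6.CompSumGen
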