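import Mathlib
import Groth.Agent.Lib.T2H6IntNum
import Groth.Agent.Lib.T2H6CompSumGen
set_option backward.isDefEq.respectTransparency.types false

/-!
# The intersection number as a sum over the top-dimensional components (helper6)
-/

set_option autoImplicit false
set_option linter.style.haveILetI false
set_option linter.unusedSectionVars false
universe u

open AlgebraicGeometry CategoryTheory Limits TopologicalSpace Opposite

namespace Groth.Agent.Lib.T2H6.IntNumComp

open Groth.Agent.Lib.T2H6.IntNum Groth.Agent.Lib.T2H6.CompSumGen Groth.Agent.Lib.T2H5.GenIsoA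

variable {X : Scheme.{u}} (k : Type u) [Field k] [X.Over (Spec (CommRingCat.of k))]
  [IsProper (X ↘ Spec (CommRingCat.of k))]

theorem dim_support_quotMod_clI_le {d : ℕ} (ξ : X) (hξ : DimPt d ξ) :
    topologicalKrullDim (CohB1.support (ClSub.quotMod (clI ξ))) ≤ d := by
  have h1 := (Topology.IsEmbedding.inclusion
    (Groth.Agent.Lib.T2H6.ParShC.support_quotMod_subset (clI ξ))).isInducing.topologicalKrullDim_le
  refine h1.trans ?_
  unfold clI
  rw [Scheme.IdealSheafData.coe_support_vanishingIdeal]
  exact hξ.le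

/-- the intersection number of `F` as the sum of the intersection numbers of the top-dimensional components of its
support. -/
theorem good_inum (d : ℕ) (L : Fin d → X.Modules) (hL : ∀ i, PicF.IsInvertible (L i)) (F : X.Modules)
    (hF : Coh.IsCoh F) (hd : topologicalKrullDim (CohB1.support F) ≤ d) :
    Good (inum k d L) d F := by
  haveI : IsNoetherian X := Groth.Agent.Lib.T2H6.CurveSatur.isNoetherian_of_proper k
  exact good (isAddFnG_of_isAddFn (isAddFn_inum k d L hL)) d
    (fun N hN hNd => inum_eq_zero k d L hL N hN hNd) F hF hd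

open Classical in
theorem inum_eq_finsum_coeff (d : ℕ) (L : Fin d → X.Modules) (hL : ∀ i, PicF.IsInvertible (L i))
    (F : X.Modules) (hF : Coh.IsCoh F) (hd : topologicalKrullDim (CohB1.support F) ≤ d)
    (Q : X → MvPolynomial (Fin d) ℚ)
    (hQ : ∀ ξ : X, DimPt d ξ → ∀ n : Fin d → ℕ,
      (Curv2.euler k X (Curv2.tensorPows (ClSub.quotMod (clI ξ)) d L n) : ℚ) =
        MvPolynomial.eval (fun i => (n i : ℚ)) (Q ξ)) :
    (inum k d L F : ℚ) = ∑ᶠ ξ : X, (if DimPt d ξ then
      ((lenAt ξ F).toNat : ℚ) * MvPolynomial.coeff (Finsupp.equivFunOnFinite.symm fun _ : Fin d => 1) (Q ξ)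
      else 0) := by
  obtain ⟨_, hfin, heq⟩ := good_inum k d L hL F hF hd
  rw [heq]
  unfold csum
  have hsupp : (Function.support (term d (fun ξ => inum k d L (ClSub.quotMod (clI ξ))) F)).Finite :=
    hfin.subset (support_term_subset d _ F)
  have h1 := map_finsum (Int.castAddHom ℚ) hsupp
  simp only [Int.coe_castAddHom] at h1
  rw [h1]
  refine finsum_congr fun ξ => ?_
  by_cases hξ : DimPt d ξ
  · rw [term_pos _ F hξ, if_pos hξ]
    rw [coeff_eq_inum k d L hL (ClSub.quotMod (clI ξ)) (Groth.Agent.Lib.T2H6.ParShC.isCoh_quotMod _)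
      (dim_support_quotMod_clI_le ξ hξ) (Q ξ) (hQ ξ hξ)]
    rw [nsmul_eq_mul]
    push_cast
    rfl
  · rw [term_neg _ F hξ, if_neg hξ]
    rfl

end Groth.Agent.Lib.T2H6.IntNumComp
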