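import Mathlib
import Groth.Agent.Lib.Helper1StalkTensorB
import Groth.Agent.Lib.T2H5Twist
import Groth.Agent.Lib.Helper23UnitStalk
import Groth.Agent.Lib.Helper23IdealSec
import Groth.Agent.Lib.Helper23AssAffine
import Groth.Agent.Lib.Helper2FlatOver
import Groth.Agent.Lib.Helper2QCoh
import Groth.Agent.Lib.T2H6AmpleCrit
set_option backward.isDefEq.respectTransparency.types false

/-!
# Tensoring the ideal sequence of an effective Cartier divisor with a module (helper6)

Namespace `Groth.Agent.Lib.T2H6.CartierTor`.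

* `rTensor_injective_of_principal` : pure algebra; if `ι : I → R` is injective with image `(f)` and `f` is `N`-regular
  then `ι ⊗ N` is injective.
* `mono_tr_of_rTensor_injective` : `φ ⊗ F` is a monomorphism if it is injective on stalks.
* `eq_zero_of_smul_eq_zero` : if no associated point of `F` lies on `D` and `D = (f)` on the affine `V`, then `f` is
  `Γ(F, V)`-regular.
* `mono_tr_idealModι` : `I_D ⊗ F → O ⊗ F` is a monomorphism.
* `shortExact_idealSC_tensor` : `0 → I_D ⊗ F → O ⊗ F → O_D ⊗ F → 0` is exact.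
-/

set_option autoImplicit false
set_option linter.style.haveILetI false
set_option linter.unusedSectionVars false
universe u

open CategoryTheory TopCat TopologicalSpace Opposite TensorProduct MonoidalCategory AlgebraicGeometry Limits

namespace Groth.Agent.Lib.T2H6.CartierTor

open Groth.Agent.Lib.Helper1.StalkTensor Groth.Agent.Lib.T2H5.Twist
  Groth.Agent.Lib.Helper23.GenLocus Groth.Agent.Lib.Helper23.UnitStalk Groth.Agent.Lib.Helper23.IdealSec
  Groth.Agent.Lib.Helper2.FlatOver

section algebra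

theorem rTensor_injective_of_principal {R : Type*} [CommRing R] {N I : Type*} [AddCommGroup N] [Module R N]
    [AddCommGroup I] [Module R I] (ι : I →ₗ[R] R) (hι : Function.Injective ι) (f : R)
    (hrange : LinearMap.range ι = Ideal.span {f})
    (hN : ∀ n : N, f • n = 0 → n = 0) :
    Function.Injective (LinearMap.rTensor N ι) := by
  have hf : f ∈ LinearMap.range ι := by
    rw [hrange]; exact Ideal.subset_span rfl
  obtain ⟨i₀, hi₀⟩ := hf
  have hrep : ∀ i : I, ∃ r : R, i = r • i₀ := by
    intro i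
    have : ι i ∈ Ideal.span {f} := by rw [← hrange]; exact ⟨i, rfl⟩
    obtain ⟨r, hr⟩ := Ideal.mem_span_singleton'.mp this
    refine ⟨r, hι ?_⟩
    rw [map_smul, hi₀, smul_eq_mul, hr]
  have hform : ∀ t : I ⊗[R] N, ∃ n : N, t = i₀ ⊗ₜ[R] n := by
    intro t
    induction t using TensorProduct.induction_on with
    | zero => exact ⟨0, by rw [tmul_zero]⟩
    | tmul i n =>
      obtain ⟨r, rfl⟩ := hrep i
      exact ⟨r • n, by rw [smul_tmul]⟩
    | add a b ha hb =>
      obtain ⟨n, rfl⟩ := ha
      obtain ⟨n', rfl⟩ := hb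
      exact ⟨n + n', by rw [tmul_add]⟩
  rw [injective_iff_map_eq_zero]
  intro t ht
  obtain ⟨n, rfl⟩ := hform t
  rw [LinearMap.rTensor_tmul, hi₀] at ht
  have h2 := congrArg (TensorProduct.lid R N) ht
  rw [TensorProduct.lid_tmul, map_zero] at h2
  rw [hN n h2, tmul_zero]

end algebra

variable {X : Scheme.{u}}

theorem tr_map_eq_shX {G' G : X.Modules} (φ : G' ⟶ G) (F : X.Modules) :
    (tr F).map φ = shX.map (toPMMap φ ▷ toPM F) := rfl

/-- tensoring a morphism with `F` is a monomorphism as soon as it is injective on stalks after tensoring. -/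
theorem mono_tr_of_rTensor_injective {G' G : X.Modules} (φ : G' ⟶ G) (F : X.Modules)
    (h : ∀ x : X, Function.Injective (LinearMap.rTensor (St (toPM F) x) (smₗ (toPMMap φ) x))) :
    Mono ((tr F).map φ) := by
  rw [tr_map_eq_shX]
  apply mono_shX_map_of_sm_injective
  intro x a b hab
  have h2 := congrArg (α (toPM G) (toPM F) x) hab
  rw [α_nat_left, α_nat_left] at h2
  exact (α_bijective).1 (h x h2)

section regular

variable [IsLocallyNoetherian X] (F : X.Modules) [F.IsQuasicoherent] (D : X.IdealSheafData)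
  (hass : ∀ x ∈ D.support, ¬ Curv2.IsAssPoint F x)

include hass in
/-- a local equation of `D` is regular on the sections of `F`. -/
theorem eq_zero_of_smul_eq_zero (V : X.affineOpens) (f : Γ(X, V.1)) (hf : D.ideal V = Ideal.span {f})
    (n : Γ(F, V.1)) (h : f • n = 0) : n = 0 := by
  by_contra hn
  haveI : IsNoetherianRing Γ(X, V.1) := IsLocallyNoetherian.component_noetherian V
  obtain ⟨P, hP, hle⟩ := exists_le_isAssociatedPrime_of_isNoetherianRing (R := Γ(X, V.1)) n hn
  have hfP : f ∈ P := hle (by rw [Submodule.mem_colon_singleton]; exact h)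
  haveI := hP.isPrime
  set p : PrimeSpectrum Γ(X, V.1) := ⟨P, hP.isPrime⟩ with hp
  set y : X := V.2.fromSpec p with hy
  have hyV : y ∈ V.1 := Groth.Agent.Lib.Helper2.QCoh.fromSpec_mem V.2 p
  have hpy : V.2.primeIdealOf ⟨y, hyV⟩ = p := Groth.Agent.Lib.Helper2.QCoh.primeIdealOf_fromSpec V.2 p
  have hAss : Curv2.IsAssPoint F y := by
    rw [Groth.Agent.Lib.Helper23.AssAffine.isAssPoint_iff_mem_associatedPrimes V.2 F y hyV, hpy]
    exact hP
  refine hass y ?_ hAss
  rw [Scheme.IdealSheafData.mem_support_iff_of_mem hyV, Scheme.mem_zeroLocus_iff]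
  intro g hg
  rw [hf] at hg
  obtain ⟨a, rfl⟩ := Ideal.mem_span_singleton'.mp hg
  rw [Groth.Agent.Lib.Helper2.QCoh.mem_basicOpen_fromSpec_iff V.2 p]
  exact not_not.2 (P.mul_mem_left a hfP)

include hass in
/-- a local equation of `D` is regular on the stalks of `F`. -/
theorem germ_smul_eq_zero (V : X.affineOpens) (f : Γ(X, V.1)) (hf : D.ideal V = Ideal.span {f})
    (x : X) (hxV : x ∈ V.1) (m : F.presheaf.stalk x) (h : X.presheaf.germ V.1 x hxV f • m = 0) : m = 0 := by
  letI := moduleStalkSections F V.1 x hxV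
  haveI := isLocalizedModule_germ V.2 F x hxV
  obtain ⟨⟨n, s⟩, hs⟩ := IsLocalizedModule.surj (V.2.primeIdealOf ⟨x, hxV⟩).asIdeal.primeCompl
    (germₗ F V.1 x hxV) m
  have hs' : (s : Γ(X, V.1)) • m = germₗ F V.1 x hxV n := hs
  have hfm : f • m = 0 := h
  have h1 : germₗ F V.1 x hxV (f • n) = 0 := by
    rw [map_smul, ← hs', smul_comm, hfm, smul_zero]
  obtain ⟨c, hc⟩ := (IsLocalizedModule.eq_zero_iff (V.2.primeIdealOf ⟨x, hxV⟩).asIdeal.primeCompl
    (germₗ F V.1 x hxV)).1 h1
  have hc' : (c : Γ(X, V.1)) • (f • n) = 0 := hc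
  have h2 : f • ((c : Γ(X, V.1)) • n) = 0 := by rw [smul_comm]; exact hc'
  have h3 : (c : Γ(X, V.1)) • n = 0 := eq_zero_of_smul_eq_zero F D hass V f hf _ h2
  have h4 : germₗ F V.1 x hxV n = 0 :=
    (IsLocalizedModule.eq_zero_iff (V.2.primeIdealOf ⟨x, hxV⟩).asIdeal.primeCompl _).2 ⟨c, h3⟩
  rw [h4] at hs
  exact (IsLocalizedModule.smul_injective (germₗ F V.1 x hxV) s) (hs.trans (smul_zero _).symm)

end regular

section range

variable (D : X.IdealSheafData)

/-- the stalk of the inclusion `I_D → O`, with values in the local ring. -/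
noncomputable def ιx (x : X) :
    St (toPM (ClSub.idealMod D)) x →ₗ[X.presheaf.stalk x] X.presheaf.stalk x :=
  (unitStalkEquiv x).symm.toLinearMap ∘ₗ smₗ (toPMMap (ClSub.idealModι D)) x

theorem ιx_injective (x : X) : Function.Injective (ιx D x) := by
  unfold ιx
  rw [LinearMap.coe_comp]
  exact (unitStalkEquiv x).symm.injective.comp (sm_injective_of_mono (ClSub.idealModι D) x)

theorem unitStalkEquiv_ιx (x : X) (a : St (toPM (ClSub.idealMod D)) x) :
    unitStalkEquiv x (ιx D x a) = sm (toPMMap (ClSub.idealModι D)) x a :=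
  (unitStalkEquiv x).apply_symm_apply _

theorem ιx_gm (x : X) (W : X.Opens) (hxW : x ∈ W) (j : Γ(ClSub.idealMod D, W)) :
    ιx D x (gm (toPM (ClSub.idealMod D)) x W hxW j) =
      X.presheaf.germ W x hxW (ofS W ((ClSub.idealModι D).app W j)) := by
  apply (unitStalkEquiv x).injective
  rw [unitStalkEquiv_ιx, sm_gm]
  change _ = toUnitStalk x _
  rw [toUnitStalk_germ, toS_ofS]
  rfl

theorem range_ιx (x : X) (V : X.affineOpens) (hxV : x ∈ V.1) (f : Γ(X, V.1))
    (hf : D.ideal V = Ideal.span {f}) :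
    LinearMap.range (ιx D x) = Ideal.span {X.presheaf.germ V.1 x hxV f} := by
  apply le_antisymm
  · rintro _ ⟨a, rfl⟩
    obtain ⟨W, hW, j, rfl⟩ := exists_gm_eq a
    obtain ⟨W', hW', hxW', hle⟩ := exists_isAffineOpen_mem_and_subset (x := x) (U := W ⊓ V.1) ⟨hW, hxV⟩
    have hW'W : W' ≤ W := hle.trans inf_le_left
    have hW'V : W' ≤ V.1 := hle.trans inf_le_right
    rw [← gm_rs (homOfLE hW'W) hxW' j, ιx_gm]
    have hb := ι_mem_ideal D ⟨W', hW'⟩ (rs (toPM (ClSub.idealMod D)) (homOfLE hW'W) j)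
    have hmap := D.map_ideal (U := ⟨W', hW'⟩) (V := V) hW'V
    rw [hf, Ideal.map_span, Set.image_singleton] at hmap
    rw [← hmap] at hb
    obtain ⟨c, hc⟩ := Ideal.mem_span_singleton'.mp hb
    change X.presheaf.germ W' x hxW' (ofS W' ((ClSub.idealModι D).app W' _)) ∈ _
    have hg : X.presheaf.germ W' x hxW' ((X.presheaf.map (homOfLE hW'V).op).hom f) =
        X.presheaf.germ V.1 x hxV f := TopCat.Presheaf.germ_res_apply X.presheaf (homOfLE hW'V) x hxW' f
    rw [← hc, map_mul]
    refine Ideal.mem_span_singleton'.mpr ⟨X.presheaf.germ W' x hxW' c, ?_⟩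
    exact congrArg (fun z => X.presheaf.germ W' x hxW' c * z) hg.symm
  · rw [Ideal.span_le, Set.singleton_subset_iff]
    obtain ⟨j, hj⟩ := exists_ι_eq D V f (hf ▸ Ideal.subset_span rfl)
    refine ⟨gm (toPM (ClSub.idealMod D)) x V.1 hxV j, ?_⟩
    rw [ιx_gm, hj, ofS_toS]

end range

section main

variable [IsLocallyNoetherian X] (F : X.Modules) [F.IsQuasicoherent] (D : X.IdealSheafData)
  (hD : BlowUp.IsEffCartierIdeal D) (hass : ∀ x ∈ D.support, ¬ Curv2.IsAssPoint F x)

include hD hass in
/-- `I_D ⊗ F → O ⊗ F` is a monomorphism when no associated point of `F` lies on `D`. -/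
theorem mono_tr_idealModι : Mono ((tr F).map (ClSub.idealModι D)) := by
  apply mono_tr_of_rTensor_injective
  intro x
  obtain ⟨V, hxV, f, hf0, hf⟩ := hD x
  have h1 : Function.Injective (LinearMap.rTensor (St (toPM F) x) (ιx D x)) :=
    rTensor_injective_of_principal (ιx D x) (ιx_injective D x) _ (range_ιx D x V hxV f hf)
      (fun m hm => germ_smul_eq_zero F D hass V f hf x hxV m hm)
  unfold ιx at h1
  rw [LinearMap.rTensor_comp, LinearMap.coe_comp] at h1
  exact Function.Injective.of_comp h1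

include hD hass in
/-- `0 → I_D ⊗ F → O ⊗ F → O_D ⊗ F → 0` is exact when no associated point of `F` lies on `D`. -/
theorem shortExact_idealSC_tensor :
    ((Groth.Agent.Lib.T2H6.AmpleCrit.idealSC D).map (tr F)).ShortExact := by
  haveI := preservesFiniteColimits_tr F
  obtain ⟨hex, hepi⟩ := (Functor.preservesFiniteColimits_iff_forall_exact_map_and_epi (tr F)).1
    inferInstance (Groth.Agent.Lib.T2H6.AmpleCrit.idealSC D)
    (Groth.Agent.Lib.T2H6.AmpleCrit.idealSC_shortExact D)
  haveI := mono_tr_idealModι F D hD hass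
  exact { exact := hex
          mono_f := inferInstanceAs (Mono ((tr F).map (ClSub.idealModι D)))
          epi_g := hepi }

end main

end Groth.Agent.Lib.T2H6.CartierTor
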