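import Mathlib
import Groth.Agent.Lib.T2H6CartierTor
set_option backward.isDefEq.respectTransparency.types false

/-!
# Vanishing of sections of negative twists: local tools (helper6)

Namespace `Groth.Agent.Lib.T2H6.NegTwistA`.

* `eq_zero_of_germ_eq_zero_of_isAssPoint` : a section of a quasi-coherent module over an affine open of a locally
  Noetherian scheme vanishes as soon as its germs at the associated points vanish.
* `isClosed_singleton_of_closure_subset_affine` : on a scheme proper over a field, a point whose closure lies in an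
  affine open is closed.
-/

set_option autoImplicit false
set_option linter.style.haveILetI false
set_option linter.unusedSectionVars false
universe u

open CategoryTheory TopCat TopologicalSpace Opposite TensorProduct AlgebraicGeometry Limits

namespace Groth.Agent.Lib.T2H6.NegTwistA

open Groth.Agent.Lib.Helper2.FlatOver

variable {X : Scheme.{u}}

/-- a section over an affine open vanishes if its germs at all associated points vanish. -/
theorem eq_zero_of_germ_eq_zero_of_isAssPoint [IsLocallyNoetherian X] (F : X.Modules) [F.IsQuasicoherent]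
    (V : X.affineOpens) (n : Γ(F, V.1))
    (h : ∀ (y : X) (hy : y ∈ V.1), Curv2.IsAssPoint F y → F.presheaf.germ V.1 y hy n = 0) : n = 0 := by
  by_contra hn
  haveI : IsNoetherianRing Γ(X, V.1) := IsLocallyNoetherian.component_noetherian V
  obtain ⟨P, hP, hle⟩ := exists_le_isAssociatedPrime_of_isNoetherianRing (R := Γ(X, V.1)) n hn
  haveI := hP.isPrime
  set p : PrimeSpectrum Γ(X, V.1) := ⟨P, hP.isPrime⟩ with hp
  set y : X := V.2.fromSpec p with hy
  have hyV : y ∈ V.1 := Groth.Agent.Lib.Helper2.QCoh.fromSpec_mem V.2 p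
  have hpy : V.2.primeIdealOf ⟨y, hyV⟩ = p := Groth.Agent.Lib.Helper2.QCoh.primeIdealOf_fromSpec V.2 p
  have hAss : Curv2.IsAssPoint F y := by
    rw [Groth.Agent.Lib.Helper23.AssAffine.isAssPoint_iff_mem_associatedPrimes V.2 F y hyV, hpy]
    exact hP
  have h0 := h y hyV hAss
  letI := moduleStalkSections F V.1 y hyV
  haveI := isLocalizedModule_germ V.2 F y hyV
  have h1 : germₗ F V.1 y hyV n = 0 := h0
  obtain ⟨c, hc⟩ := (IsLocalizedModule.eq_zero_iff (V.2.primeIdealOf ⟨y, hyV⟩).asIdeal.primeCompl
    (germₗ F V.1 y hyV)).1 h1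
  obtain ⟨c0, hc0⟩ := c
  have hc' : c0 • n = 0 := hc
  have hcP : c0 ∈ P := hle (by rw [Submodule.mem_colon_singleton]; exact hc')
  have hPeq : (V.2.primeIdealOf ⟨y, hyV⟩).asIdeal = P := by rw [hpy]
  apply hc0
  change c0 ∈ (V.2.primeIdealOf ⟨y, hyV⟩).asIdeal
  rw [hPeq]
  exact hcP


section Closed

variable (k : Type u) [Field k] [X.Over (Spec (CommRingCat.of k))]
  [IsProper (X ↘ Spec (CommRingCat.of k))]

include k in
/-- a scheme which is affine and proper over a field has the discrete topology. -/
theorem discreteTopology_of_isAffine_of_isProper {Z : Scheme.{u}} (g : Z ⟶ Spec (CommRingCat.of k))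
    [IsProper g] [IsAffine Z] : DiscreteTopology Z := by
  haveI : IsAffineHom g := isAffineHom_of_isAffine _
  haveI : IsFinite g := (IsFinite.iff_isProper_and_isAffineHom).2 ⟨inferInstance, inferInstance⟩
  have hfin := g.finite_appTop
  haveI : IsArtinianRing Γ(Spec (CommRingCat.of k), ⊤) :=
    (AlgebraicGeometry.Scheme.ΓSpecIso (CommRingCat.of k)).commRingCatIsoToRingEquiv.symm.isArtinianRing
  letI := g.appTop.hom.toAlgebra
  haveI : Module.Finite Γ(Spec (CommRingCat.of k), ⊤) Γ(Z, ⊤) := hfin
  haveI : IsArtinianRing Γ(Z, ⊤) := IsArtinianRing.of_finite Γ(Spec (CommRingCat.of k), ⊤) Γ(Z, ⊤)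
  haveI : IsLocallyArtinian (Spec Γ(Z, ⊤)) := Scheme.isLocallyArtinianScheme_Spec.2 inferInstance
  haveI : IsLocallyArtinian Z := IsLocallyArtinian.of_isImmersion (f := Z.isoSpec.hom)
  infer_instance

include k in
/-- on a scheme proper over a field, a point whose closure lies in an affine open is a closed point. -/
theorem isClosed_singleton_of_closure_subset_affine (U : X.Opens) (hU : IsAffineOpen U) (y : X)
    (h : closure ({y} : Set X) ⊆ U) : IsClosed ({y} : Set X) := by
  let Zc : Closeds X := ⟨closure {y}, isClosed_closure⟩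
  let I : X.IdealSheafData := Scheme.IdealSheafData.vanishingIdeal Zc
  have hrange : Set.range I.subschemeι = closure {y} := by
    rw [Scheme.IdealSheafData.range_subschemeι, Scheme.IdealSheafData.coe_support_vanishingIdeal]
    rfl
  have hsub : Set.range I.subschemeι ⊆ Set.range U.ι := by
    rw [hrange, Scheme.Opens.range_ι]
    exact h
  let j : I.subscheme ⟶ (U : Scheme.{u}) := IsOpenImmersion.lift U.ι I.subschemeι hsub
  have hj : j ≫ U.ι = I.subschemeι := IsOpenImmersion.lift_fac _ _ _
  haveI : IsClosedImmersion (j ≫ U.ι) := by rw [hj]; infer_instance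
  haveI : IsClosedImmersion j := IsClosedImmersion.of_comp j U.ι
  haveI : IsAffine (U : Scheme.{u}) := hU
  haveI : IsAffine I.subscheme := isAffine_of_isAffineHom j
  haveI : IsProper (I.subschemeι ≫ (X ↘ Spec (CommRingCat.of k))) := inferInstance
  haveI : DiscreteTopology I.subscheme :=
    discreteTopology_of_isAffine_of_isProper k (I.subschemeι ≫ (X ↘ Spec (CommRingCat.of k)))
  have hy : y ∈ Set.range I.subschemeι := by rw [hrange]; exact subset_closure rfl
  obtain ⟨y', hy'⟩ := hy
  have h1 : IsClosed ({y'} : Set I.subscheme) := isClosed_discrete _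
  have h2 := I.subschemeι.isClosedEmbedding.isClosedMap _ h1
  rwa [Set.image_singleton, hy'] at h2

end Closed


section Support

variable (k : Type u) [Field k] [X.Over (Spec (CommRingCat.of k))]
  [IsProper (X ↘ Spec (CommRingCat.of k))]

include k in
/-- a global section of a quasi-coherent module without closed associated points vanishes as soon as its germs
vanish outside an affine open. -/
theorem eq_zero_of_germ_eq_zero_off_affine [IsLocallyNoetherian X] (G : X.Modules) [G.IsQuasicoherent]
    (hass : ∀ x : X, IsClosed ({x} : Set X) → ¬ Curv2.IsAssPoint G x)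
    (U : X.Opens) (hU : IsAffineOpen U) (m : Γ(G, ⊤))
    (h : ∀ x : X, x ∉ U → G.presheaf.germ ⊤ x (Set.mem_univ _) m = 0) : m = 0 := by
  -- Step A: the germs at the associated points vanish
  have hA : ∀ y : X, Curv2.IsAssPoint G y → G.presheaf.germ ⊤ y (Set.mem_univ _) m = 0 := by
    intro y hy
    by_contra hne
    refine hass y ?_ hy
    apply isClosed_singleton_of_closure_subset_affine k U hU y
    intro z hz
    by_contra hzU
    have h0 := h z hzU
    have h0' : G.presheaf.germ ⊤ z (Set.mem_univ _) m = G.presheaf.germ ⊤ z (Set.mem_univ _) 0 := by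
      rw [h0, map_zero]
    obtain ⟨W, hzW, i1, i2, hW⟩ := TopCat.Presheaf.germ_eq G.presheaf z (Set.mem_univ _) (Set.mem_univ _) m 0 h0'
    have hyW : y ∈ W := (specializes_iff_mem_closure.2 hz).mem_open W.2 hzW
    apply hne
    rw [← TopCat.Presheaf.germ_res_apply G.presheaf i1 y hyW m, hW, map_zero, map_zero]
  -- Step C: all germs vanish
  apply TopCat.Presheaf.section_ext (F := (SheafOfModules.toSheaf _).obj G) ⊤ m 0
  intro y hy
  obtain ⟨_, ⟨V, hV : IsAffineOpen V, rfl⟩, hyV, -⟩ :=
    X.isBasis_affineOpens.exists_subset_of_mem_open (show y ∈ ((⊤ : X.Opens) : Set X) from Set.mem_univ _)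
      (⊤ : X.Opens).2
  let n : Γ(G, V) := G.presheaf.map (homOfLE (le_top : V ≤ ⊤)).op m
  have hn : n = 0 := by
    apply eq_zero_of_germ_eq_zero_of_isAssPoint G ⟨V, hV⟩ n
    intro z hz hzA
    change G.presheaf.germ V z hz (G.presheaf.map (homOfLE (le_top : V ≤ ⊤)).op m) = 0
    rw [TopCat.Presheaf.germ_res_apply]
    exact hA z hzA
  have h1 : G.presheaf.germ ⊤ y (Set.mem_univ _) m = G.presheaf.germ V y hyV n :=
    (TopCat.Presheaf.germ_res_apply G.presheaf (homOfLE (le_top : V ≤ ⊤)) y hyV m).symm
  change G.presheaf.germ ⊤ y (Set.mem_univ _) m = G.presheaf.germ ⊤ y (Set.mem_univ _) 0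
  rw [h1, hn, map_zero, map_zero]

end Support

end Groth.Agent.Lib.T2H6.NegTwistA
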