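import Mathlib
import Groth.Prelude.Def_KLin
import Groth.Agent.Lib.Helper1StalkTensorB
import Groth.Agent.Lib.T2H5Twist
import Groth.Agent.Lib.Helper20RegMero
import Groth.Agent.Lib.Helper23AssAffine
import Groth.Agent.Lib.Helper23FinType2
set_option backward.isDefEq.respectTransparency.types false

/-!
# Associated points of twists (helper6)

Namespace `Groth.Agent.Lib.T2H6.NegTwistD`.

* `stalkTensorEquiv` : `(F ⊗ N)_x ≃ F_x ⊗ N_x`.
* `isAssPoint_tensorMod_iff` : `Ass(F ⊗ N) = Ass(F)` for invertible `N`.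
* `finite_isAssPoint` : a coherent module on a Noetherian scheme has finitely many associated points.
-/

set_option autoImplicit false
set_option linter.style.haveILetI false
set_option linter.unusedSectionVars false
universe u

open CategoryTheory TopCat TopologicalSpace Opposite TensorProduct MonoidalCategory AlgebraicGeometry Limits

namespace Groth.Agent.Lib.T2H6.NegTwistD

open Groth.Agent.Lib.Helper1.StalkTensor Groth.Agent.Lib.T2H5.Twist Groth.Agent.Lib.Helper2.FlatOver

variable {X : Scheme.{u}}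

/-- the stalk of the sheafification is the stalk of the presheaf. -/
noncomputable def etaStalkEquiv (T : PMod X.presheaf) (x : X) :
    St T x ≃ₗ[Rx X.presheaf x] St (toPM (shX.obj T)) x :=
  LinearEquiv.ofBijective (smₗ (etaX T) x) (sm_etaX_bijective T x)

/-- `(F ⊗ N)_x ≃ F_x ⊗ N_x`. -/
noncomputable def stalkTensorEquiv (F N : X.Modules) (x : X) :
    St (toPM (CohB1.tensorMod F N)) x ≃ₗ[Rx X.presheaf x] (St (toPM F) x ⊗[Rx X.presheaf x] St (toPM N) x) :=
  (etaStalkEquiv (toPM F ⊗ toPM N) x).symm.trans (αLin (toPM F) (toPM N) x)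

/-- `(F ⊗ N)_x ≃ F_x` for invertible `N`. -/
theorem nonempty_stalk_tensorMod_equiv (F N : X.Modules) (hN : PicF.IsInvertible N) (x : X) :
    Nonempty ((CohB1.tensorMod F N).presheaf.stalk x ≃ₗ[X.presheaf.stalk x] F.presheaf.stalk x) := by
  obtain ⟨g, hg⟩ := Groth.Agent.Lib.Helper20.RegMero.exists_isGen N hN x
  let e : X.presheaf.stalk x ≃ₗ[X.presheaf.stalk x] N.presheaf.stalk x :=
    LinearEquiv.ofBijective (LinearMap.toSpanSingleton _ _ g) hg
  exact ⟨(stalkTensorEquiv F N x).trans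
    ((TensorProduct.congr (LinearEquiv.refl _ _) e.symm).trans (TensorProduct.rid _ _))⟩

theorem isAssPoint_tensorMod_iff (F N : X.Modules) (hN : PicF.IsInvertible N) (x : X) :
    Curv2.IsAssPoint (CohB1.tensorMod F N) x ↔ Curv2.IsAssPoint F x := by
  obtain ⟨e⟩ := nonempty_stalk_tensorMod_equiv F N hN x
  exact LinearEquiv.isAssociatedPrime_iff e

/-- a coherent module on a Noetherian scheme has finitely many associated points. -/
theorem finite_isAssPoint [IsLocallyNoetherian X] [CompactSpace X] (F : X.Modules) [F.IsQuasicoherent]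
    [SheafOfModules.IsFiniteType (R := X.ringCatSheaf) F] :
    {x : X | Curv2.IsAssPoint F x}.Finite := by
  classical
  have hcov : ∀ U : X.affineOpens, ({x : X | Curv2.IsAssPoint F x} ∩ (U.1 : Set X)).Finite := by
    intro U
    haveI : IsNoetherianRing Γ(X, U.1) := IsLocallyNoetherian.component_noetherian U
    haveI : Module.Finite Γ(X, U.1) Γ(F, U.1) := Groth.Agent.Lib.Helper23.FinType.finite_of_isFiniteType F U.2
    have hfin : (associatedPrimes Γ(X, U.1) Γ(F, U.1)).Finite := associatedPrimes.finite _ _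
    let f : X → Ideal Γ(X, U.1) := fun x => if hx : x ∈ U.1 then (U.2.primeIdealOf ⟨x, hx⟩).asIdeal else ⊥
    refine Set.Finite.of_finite_image (f := f) (hfin.subset ?_) ?_
    · rintro _ ⟨x, ⟨hx, hxU⟩, rfl⟩
      have : f x = (U.2.primeIdealOf ⟨x, hxU⟩).asIdeal := dif_pos hxU
      rw [this]
      exact (Groth.Agent.Lib.Helper23.AssAffine.isAssPoint_iff_mem_associatedPrimes U.2 F x hxU).1 hx
    · rintro x ⟨-, hxU⟩ y ⟨-, hyU⟩ hxy
      have h1 : f x = (U.2.primeIdealOf ⟨x, hxU⟩).asIdeal := dif_pos hxU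
      have h2 : f y = (U.2.primeIdealOf ⟨y, hyU⟩).asIdeal := dif_pos hyU
      rw [h1, h2] at hxy
      have h3 : U.2.primeIdealOf ⟨x, hxU⟩ = U.2.primeIdealOf ⟨y, hyU⟩ := PrimeSpectrum.ext hxy
      have h4 := congrArg U.2.fromSpec h3
      rw [IsAffineOpen.fromSpec_primeIdealOf, IsAffineOpen.fromSpec_primeIdealOf] at h4
      exact h4
  obtain ⟨s, hs⟩ := (isCompact_univ (X := X)).elim_finite_subcover
    (fun U : X.affineOpens => ((U.1 : X.Opens) : Set X)) (fun U => U.1.2)
    (by
      intro x _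
      obtain ⟨U, hU, hxU, -⟩ := (Opens.isBasis_iff_nbhd.1 X.isBasis_affineOpens :
        ∀ {U : Opens X} {x : X}, x ∈ U → ∃ U' ∈ X.affineOpens, x ∈ U' ∧ U' ≤ U) (show x ∈ (⊤ : Opens X) from trivial)
      exact Set.mem_iUnion.2 ⟨⟨U, hU⟩, hxU⟩)
  have : {x : X | Curv2.IsAssPoint F x} ⊆ ⋃ U ∈ s, ({x : X | Curv2.IsAssPoint F x} ∩ ((U.1 : X.Opens) : Set X)) := by
    intro x hx
    have := hs (Set.mem_univ x)
    simp only [Set.mem_iUnion] at this ⊢
    obtain ⟨U, hU, hxU⟩ := this
    exact ⟨U, hU, hx, hxU⟩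
  exact (Set.Finite.biUnion s.finite_toSet (fun U _ => hcov U)).subset this

end Groth.Agent.Lib.T2H6.NegTwistD
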