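import Mathlib
import Groth.Agent.Lib.T2H6NegTwistD
import Groth.Agent.Lib.T2H6CartierTor
import Groth.Agent.Lib.Helper23StalkLin
import Groth.Agent.Lib.Helper20WeakAss
import Groth.Agent.Lib.Helper23SecTw6
set_option backward.isDefEq.respectTransparency.types false

/-!
# Tensoring a module with a section of an invertible module (helper6)

Namespace `Groth.Agent.Lib.T2H6.PosA`.

For a section `s : O ⟶ P` of an invertible module and a module `N`, the map `s ⊗ N : O ⊗ N ⟶ P ⊗ N`
is, on the stalk at `x`, multiplication by the local coefficient of `s` on `N_x`.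
-/

set_option autoImplicit false
set_option linter.style.haveILetI false
set_option linter.unusedSectionVars false
universe u

open CategoryTheory TopCat TopologicalSpace Opposite TensorProduct MonoidalCategory AlgebraicGeometry Limits

namespace Groth.Agent.Lib.T2H6.PosA

open Groth.Agent.Lib.Helper1.StalkTensor Groth.Agent.Lib.T2H5.Twist Groth.Agent.Lib.Helper2.FlatOver
  Groth.Agent.Lib.T2H6.NegTwistD Groth.Agent.Lib.Helper23.UnitStalk Groth.Agent.Lib.Helper23.GenLocus
  Groth.Agent.Lib.Helper4.NormDelta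

section algebra

variable {R : Type*} [CommRing R] {A P N : Type*} [AddCommGroup A] [Module R A] [AddCommGroup P] [Module R P]
  [AddCommGroup N] [Module R N]

/-- a map between free modules of rank one is, after tensoring, multiplication by its coefficient. -/
theorem exists_rTensor_conj (eA : R ≃ₗ[R] A) (eP : R ≃ₗ[R] P) (σ : A →ₗ[R] P) (c : R)
    (hc : σ (eA 1) = c • eP 1) :
    ∃ (u : A ⊗[R] N ≃ₗ[R] N) (v : P ⊗[R] N ≃ₗ[R] N),
      ∀ t, v (LinearMap.rTensor N σ t) = c • u t := by
  refine ⟨(TensorProduct.congr eA.symm (LinearEquiv.refl R N)).trans (TensorProduct.lid R N),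
    (TensorProduct.congr eP.symm (LinearEquiv.refl R N)).trans (TensorProduct.lid R N), fun t => ?_⟩
  induction t using TensorProduct.induction_on with
  | zero => simp
  | tmul a n =>
    obtain ⟨r, rfl⟩ := eA.surjective a
    have h1 : σ (eA r) = eP (r * c) := by
      have : eA r = r • eA 1 := by rw [← map_smul, smul_eq_mul, mul_one]
      rw [this, map_smul, hc, ← map_smul, ← map_smul, smul_eq_mul, smul_eq_mul, mul_one]
    simp only [LinearMap.rTensor_tmul, LinearEquiv.trans_apply, TensorProduct.congr_tmul,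
      LinearEquiv.refl_apply, LinearEquiv.symm_apply_apply, TensorProduct.lid_tmul, h1]
    rw [mul_smul, smul_comm]
  | add a b ha hb => simp only [map_add, ha, hb, smul_add]

end algebra

variable {X : Scheme.{u}}

theorem sm_zero {A B : PMod X.presheaf} (x : X) (a : St A x) : sm (0 : A ⟶ B) x a = 0 := by
  obtain ⟨U, hU, p, rfl⟩ := exists_gm_eq a
  rw [sm_gm]
  exact map_zero _

theorem stalkLin_eq_sm {F G : X.Modules} (φ : F ⟶ G) (x : X) (a : F.presheaf.stalk x) :
    stalkLin φ x a = sm (toPMMap φ) x a := rfl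

/-- the stalk of `φ ⊗ N` is `φ_x ⊗ N_x`. -/
theorem stalkTensorEquiv_map (N : X.Modules) {A B : X.Modules} (φ : A ⟶ B) (x : X)
    (a : St (toPM (CohB1.tensorMod A N)) x) :
    stalkTensorEquiv B N x (sm (toPMMap ((tr N).map φ)) x a) =
      LinearMap.rTensor (St (toPM N) x) (smₗ (toPMMap φ) x) (stalkTensorEquiv A N x a) := by
  obtain ⟨a', rfl⟩ := (sm_etaX_bijective (toPM A ⊗ toPM N) x).2 a
  have key : sm (toPMMap ((tr N).map φ)) x (sm (etaX (toPM A ⊗ toPM N)) x a') =
      sm (etaX (toPM B ⊗ toPM N)) x (sm (toPMMap φ ▷ toPM N) x a') :=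
    (sm_etaX_naturality (toPMMap φ ▷ toPM N) x a').symm
  rw [key]
  have h1 : ∀ (C : X.Modules) (b : St (toPM C ⊗ toPM N) x),
      stalkTensorEquiv C N x (sm (etaX (toPM C ⊗ toPM N)) x b) = α (toPM C) (toPM N) x b := by
    intro C b
    have : (etaStalkEquiv (toPM C ⊗ toPM N) x).symm (sm (etaX (toPM C ⊗ toPM N)) x b) = b :=
      (etaStalkEquiv (toPM C ⊗ toPM N) x).symm_apply_apply b
    change αLin (toPM C) (toPM N) x
      ((etaStalkEquiv (toPM C ⊗ toPM N) x).symm (sm (etaX (toPM C ⊗ toPM N)) x b)) = _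
    rw [this]
    rfl
  rw [h1, h1, α_nat_left]

open Groth.Agent.Lib.Helper23.SecTw Groth.Agent.Lib.Helper6 in
/-- local data of a section `s` of an invertible module at a point: a free generator `g` of `P_x`, an affine
neighbourhood `V` and `f ∈ Γ(X, V)` with `s_x(1) = f_x • g` and `X_s ∩ V = D(f)`. -/
theorem exists_local_coef (P : X.Modules) (hP : PicF.IsInvertible P) (s : Coh.structureModule X ⟶ P) (x : X) :
    ∃ (V : X.Opens) (_ : IsAffineOpen V) (hxV : x ∈ V) (f : Γ(X, V)) (g : P.presheaf.stalk x),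
      Function.Bijective (fun c : X.presheaf.stalk x => c • g) ∧
      stalkLin s x (one x) = X.presheaf.germ V x hxV f • g ∧
      CohB1.genLocus P s ⊓ V = X.basicOpen f := by
  obtain ⟨W, t, hxW, hstalk, hsec⟩ := Groth.Agent.Lib.Helper20.WeakAss.exists_local_generator' P hP x
  obtain ⟨V, hV, hxV, hVW⟩ := exists_isAffineOpen_mem_and_subset (x := x) (U := W) hxW
  have he : IsGen P W t := hsec
  have heV : IsGen P V (res P hVW t) := he.mono hVW
  refine ⟨V, hV, hxV, coef heV le_rfl (sv s V), P.presheaf.germ W x hxW t, hstalk x hxW, ?_,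
    genLocus_inf_eq_coef s heV⟩
  rw [one_eq x V hxV, stalkLin_germ, app_toS, one_smul]
  conv_lhs => rw [sv_eq_coef_smul s heV]
  rw [Groth.Agent.Lib.Helper2.QCoh.germ_smul]
  congr 1
  exact TopCat.Presheaf.germ_res_apply P.presheaf (homOfLE hVW) x hxV t

/-- **Stalk description.** The stalk at `x` of `s ⊗ N : O ⊗ N ⟶ P ⊗ N` is conjugate to multiplication by the local
coefficient `c` of `s` on `N_x`. -/
theorem exists_stalk_conj (P : X.Modules) (s : Coh.structureModule X ⟶ P) (N : X.Modules) (x : X)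
    (g : P.presheaf.stalk x) (hg : Function.Bijective (fun c : X.presheaf.stalk x => c • g))
    (c : X.presheaf.stalk x) (hc : stalkLin s x (one x) = c • g) :
    ∃ (u : (CohB1.tensorMod (Coh.structureModule X) N).presheaf.stalk x ≃ₗ[X.presheaf.stalk x]
          N.presheaf.stalk x)
      (v : (CohB1.tensorMod P N).presheaf.stalk x ≃ₗ[X.presheaf.stalk x] N.presheaf.stalk x),
      ∀ a, v (stalkLin ((tr N).map s) x a) = c • u a := by
  let eP : X.presheaf.stalk x ≃ₗ[X.presheaf.stalk x] P.presheaf.stalk x :=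
    LinearEquiv.ofBijective (LinearMap.toSpanSingleton _ _ g) hg
  have hc' : smₗ (toPMMap s) x (unitStalkEquiv x 1) = c • eP 1 := by
    have h1 : unitStalkEquiv x 1 = one x := by
      change toUnitStalk x 1 = one x
      unfold toUnitStalk
      rw [LinearMap.toSpanSingleton_apply, one_smul]
    have h2 : eP 1 = g := by
      change LinearMap.toSpanSingleton _ _ g 1 = g
      rw [LinearMap.toSpanSingleton_apply, one_smul]
    rw [h1, h2]
    exact hc
  obtain ⟨u, v, huv⟩ := exists_rTensor_conj (N := N.presheaf.stalk x) (unitStalkEquiv x) eP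
    (smₗ (toPMMap s) x) c hc'
  refine ⟨(stalkTensorEquiv (Coh.structureModule X) N x).trans u, (stalkTensorEquiv P N x).trans v, fun a => ?_⟩
  change v (stalkTensorEquiv P N x (stalkLin ((tr N).map s) x a)) =
    c • u (stalkTensorEquiv (Coh.structureModule X) N x a)
  rw [stalkLin_eq_sm, stalkTensorEquiv_map]
  exact huv _

section regular

variable [IsLocallyNoetherian X] (N : X.Modules) [N.IsQuasicoherent]

/-- `f` is regular on the sections of `N` over the affine `V` if all associated points of `N` in `V` lie in `D(f)`. -/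
theorem eq_zero_of_smul_eq_zero (V : X.affineOpens) (f : Γ(X, V.1))
    (hass : ∀ y ∈ V.1, Curv2.IsAssPoint N y → y ∈ X.basicOpen f)
    (n : Γ(N, V.1)) (h : f • n = 0) : n = 0 := by
  by_contra hn
  haveI : IsNoetherianRing Γ(X, V.1) := IsLocallyNoetherian.component_noetherian V
  obtain ⟨Q, hQ, hle⟩ := exists_le_isAssociatedPrime_of_isNoetherianRing (R := Γ(X, V.1)) n hn
  have hfQ : f ∈ Q := hle (by rw [Submodule.mem_colon_singleton]; exact h)
  haveI := hQ.isPrime
  set p : PrimeSpectrum Γ(X, V.1) := ⟨Q, hQ.isPrime⟩ with hp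
  set y : X := V.2.fromSpec p with hy
  have hyV : y ∈ V.1 := Groth.Agent.Lib.Helper2.QCoh.fromSpec_mem V.2 p
  have hpy : V.2.primeIdealOf ⟨y, hyV⟩ = p := Groth.Agent.Lib.Helper2.QCoh.primeIdealOf_fromSpec V.2 p
  have hAss : Curv2.IsAssPoint N y := by
    rw [Groth.Agent.Lib.Helper23.AssAffine.isAssPoint_iff_mem_associatedPrimes V.2 N y hyV, hpy]
    exact hQ
  have hyf := hass y hyV hAss
  rw [Groth.Agent.Lib.Helper2.QCoh.mem_basicOpen_fromSpec_iff V.2 p] at hyf
  exact hyf hfQ

/-- `f` is regular on the stalks of `N` at the points of the affine `V` if all associated points of `N` in `V` lie in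
`D(f)`. -/
theorem germ_smul_eq_zero (V : X.affineOpens) (f : Γ(X, V.1))
    (hass : ∀ y ∈ V.1, Curv2.IsAssPoint N y → y ∈ X.basicOpen f)
    (x : X) (hxV : x ∈ V.1) (m : N.presheaf.stalk x) (h : X.presheaf.germ V.1 x hxV f • m = 0) : m = 0 := by
  letI := moduleStalkSections N V.1 x hxV
  haveI := isLocalizedModule_germ V.2 N x hxV
  obtain ⟨⟨n, t⟩, ht⟩ := IsLocalizedModule.surj (V.2.primeIdealOf ⟨x, hxV⟩).asIdeal.primeCompl
    (germₗ N V.1 x hxV) m
  have ht' : (t : Γ(X, V.1)) • m = germₗ N V.1 x hxV n := ht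
  have hfm : f • m = 0 := h
  have h1 : germₗ N V.1 x hxV (f • n) = 0 := by
    rw [map_smul, ← ht', smul_comm, hfm, smul_zero]
  obtain ⟨c, hc⟩ := (IsLocalizedModule.eq_zero_iff (V.2.primeIdealOf ⟨x, hxV⟩).asIdeal.primeCompl
    (germₗ N V.1 x hxV)).1 h1
  have hc' : (c : Γ(X, V.1)) • (f • n) = 0 := hc
  have h2 : f • ((c : Γ(X, V.1)) • n) = 0 := by rw [smul_comm]; exact hc'
  have h3 : (c : Γ(X, V.1)) • n = 0 := eq_zero_of_smul_eq_zero N V f hass _ h2
  have h4 : germₗ N V.1 x hxV n = 0 :=
    (IsLocalizedModule.eq_zero_iff (V.2.primeIdealOf ⟨x, hxV⟩).asIdeal.primeCompl _).2 ⟨c, h3⟩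
  rw [h4] at ht
  exact (IsLocalizedModule.smul_injective (germₗ N V.1 x hxV) t) (ht.trans (smul_zero _).symm)

end regular

section main

variable [IsLocallyNoetherian X] (P : X.Modules) (hP : PicF.IsInvertible P) (s : Coh.structureModule X ⟶ P)
  (N : X.Modules) [N.IsQuasicoherent]

include hP in
/-- `s ⊗ N` is a monomorphism when all associated points of `N` lie in `X_s`. -/
theorem mono_tr_map_section (hass : ∀ y : X, Curv2.IsAssPoint N y → y ∈ CohB1.genLocus P s) :
    Mono ((tr N).map s) := by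
  apply mono_of_sm_injective
  intro x
  obtain ⟨V, hV, hxV, f, g, hg, hfg, hloc⟩ := exists_local_coef P hP s x
  obtain ⟨u, v, huv⟩ := exists_stalk_conj P s N x g hg _ hfg
  have hinj : Function.Injective (stalkLin ((tr N).map s) x) := by
    rw [injective_iff_map_eq_zero]
    intro a ha
    have h1 : X.presheaf.germ V x hxV f • u a = 0 := by
      rw [← huv a, ha]
      exact map_zero v
    have h2 : u a = 0 := germ_smul_eq_zero N ⟨V, hV⟩ f (fun y hyV hyA => by
      rw [← hloc]; exact ⟨hass y hyA, hyV⟩) x hxV (u a) h1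
    exact u.injective (h2.trans (map_zero u).symm)
  exact hinj

include hP in
/-- the cokernel of `s ⊗ N` vanishes on `X_s`. -/
theorem notMem_support_cokernel_of_mem_genLocus (x : X) (hx : x ∈ CohB1.genLocus P s) :
    x ∉ CohB1.support (cokernel ((tr N).map s)) := by
  obtain ⟨V, hV, hxV, f, g, hg, hfg, hloc⟩ := exists_local_coef P hP s x
  obtain ⟨u, v, huv⟩ := exists_stalk_conj P s N x g hg _ hfg
  have hu : IsUnit (X.presheaf.germ V x hxV f) := by
    rw [← Scheme.mem_basicOpen X f x hxV, ← hloc]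
    exact ⟨hx, hxV⟩
  obtain ⟨w, hw⟩ := hu
  intro hmem
  apply hmem
  refine ⟨fun z z' => ?_⟩
  have key : ∀ z : (cokernel ((tr N).map s)).presheaf.stalk x, z = 0 := by
    intro z
    obtain ⟨b, rfl⟩ := stalkLin_surjective (cokernel.π ((tr N).map s)) x z
    have hb : stalkLin ((tr N).map s) x (u.symm ((w⁻¹ : (X.presheaf.stalk x)ˣ).1 • v b)) = b := by
      apply v.injective
      rw [huv, LinearEquiv.apply_symm_apply, ← hw, smul_smul, Units.mul_inv, one_smul]
    rw [← hb, stalkLin_eq_sm, stalkLin_eq_sm, ← sm_comp]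
    have h0 : toPMMap ((tr N).map s) ≫ toPMMap (cokernel.π ((tr N).map s)) = 0 := by
      change toPMMap ((tr N).map s ≫ cokernel.π ((tr N).map s)) = 0
      rw [cokernel.condition]
      rfl
    rw [h0]
    exact sm_zero _ _
  rw [key z, key z']

include hP in
/-- the cokernel of `s ⊗ N` is supported in the support of `N`. -/
theorem support_cokernel_subset_support (x : X) (hx : x ∈ CohB1.support (cokernel ((tr N).map s))) :
    x ∈ CohB1.support N := by
  intro hsub
  apply hx
  obtain ⟨V, hV, hxV, f, g, hg, hfg, hloc⟩ := exists_local_coef P hP s x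
  obtain ⟨u, v, huv⟩ := exists_stalk_conj P s N x g hg _ hfg
  haveI : Subsingleton (N.presheaf.stalk x) := hsub
  haveI : Subsingleton (((tr N).obj P).presheaf.stalk x) := v.toEquiv.subsingleton
  exact (stalkLin_surjective (cokernel.π ((tr N).map s)) x).subsingleton

include hP in
/-- outside `X_s`, the cokernel of `s ⊗ N` is nonzero wherever `N` is (`N` of finite type). -/
theorem mem_support_cokernel [SheafOfModules.IsFiniteType (R := X.ringCatSheaf) N]
    (hmono : Mono ((tr N).map s)) (x : X) (hx : x ∉ CohB1.genLocus P s)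
    (hxN : x ∈ CohB1.support N) : x ∈ CohB1.support (cokernel ((tr N).map s)) := by
  intro hsub
  apply hxN
  obtain ⟨V, hV, hxV, f, g, hg, hfg, hloc⟩ := exists_local_coef P hP s x
  obtain ⟨u, v, huv⟩ := exists_stalk_conj P s N x g hg _ hfg
  have hm : X.presheaf.germ V x hxV f ∈ IsLocalRing.maximalIdeal (X.presheaf.stalk x) := by
    rw [IsLocalRing.mem_maximalIdeal, mem_nonunits_iff]
    intro hu
    have : x ∈ X.basicOpen f := (Scheme.mem_basicOpen X f x hxV).2 hu
    rw [← hloc] at this
    exact hx this.1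
  let S : ShortComplex X.Modules := ShortComplex.mk _ _ (cokernel.condition ((tr N).map s))
  have hS : S.ShortExact :=
    { exact := ShortComplex.exact_cokernel _
      mono_f := hmono
      epi_g := inferInstanceAs (Epi (cokernel.π ((tr N).map s))) }
  have hex := Groth.Agent.Lib.Helper23.StalkLin.stalkLin_exact S hS x
  haveI := Groth.Agent.Lib.Helper2.FibreCrit.finite_stalk N x
  have htop : (⊤ : Submodule (X.presheaf.stalk x) (N.presheaf.stalk x)) ≤
      IsLocalRing.maximalIdeal (X.presheaf.stalk x) • (⊤ : Submodule (X.presheaf.stalk x) (N.presheaf.stalk x)) := by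
    intro n _
    haveI : Subsingleton (S.X₃.presheaf.stalk x) := hsub
    obtain ⟨a, ha⟩ := (hex (v.symm n)).1 (Subsingleton.elim _ _)
    have h1 : n = X.presheaf.germ V x hxV f • u a := by
      rw [← huv a]
      change n = v (stalkLin S.f x a)
      rw [ha, LinearEquiv.apply_symm_apply]
    rw [h1]
    exact Submodule.smul_mem_smul hm Submodule.mem_top
  have hbot := Submodule.eq_bot_of_le_smul_of_le_jacobson_bot (IsLocalRing.maximalIdeal (X.presheaf.stalk x))
    (⊤ : Submodule (X.presheaf.stalk x) (N.presheaf.stalk x)) Module.Finite.fg_top htop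
    (IsLocalRing.maximalIdeal_le_jacobson _)
  refine ⟨fun a b => ?_⟩
  have ha : a ∈ (⊤ : Submodule (X.presheaf.stalk x) (N.presheaf.stalk x)) := Submodule.mem_top
  have hb : b ∈ (⊤ : Submodule (X.presheaf.stalk x) (N.presheaf.stalk x)) := Submodule.mem_top
  rw [hbot, Submodule.mem_bot] at ha hb
  rw [ha, hb]

end main

end Groth.Agent.Lib.T2H6.PosA
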