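import Mathlib
import Groth.Prelude.Def_KLin
import Groth.Agent.Lib.T2H6PosA
import Groth.Agent.Lib.T2H6NegTwistA
import Groth.Agent.Lib.T2H6CompSumGen
import Groth.Agent.Lib.Helper4VarDim8
import Groth.Agent.Lib.T2H5Devissage
set_option backward.isDefEq.respectTransparency.types false

/-!
# Dimension of a hyperplane section of the support of a coherent module (helper6)

Namespace `Groth.Agent.Lib.T2H6.PosB`.

`dim_support_cokernel` : `X` proper over a field, `N` coherent with `dim Supp N = e + 1`, `s` a section of an invertible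
module `P` with `X_s` affine, containing the associated points of `N` and the `(e+1)`-dimensional points of `Supp N`.
Then the cokernel of `s ⊗ N : O ⊗ N ⟶ P ⊗ N` has support of dimension exactly `e`.
-/

set_option autoImplicit false
set_option linter.style.haveILetI false
set_option linter.unusedSectionVars false
universe u

open CategoryTheory TopCat TopologicalSpace Opposite AlgebraicGeometry Limits

namespace Groth.Agent.Lib.T2H6.PosB

open Groth.Agent.Lib.T2H5.Twist Groth.Agent.Lib.T2H6.PosA Groth.Agent.Lib.T2H6.CompSumGen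
  Groth.Agent.Lib.Helper4.VarDim

variable {X : Scheme.{u}} (k : Type u) [Field k] [X.Over (Spec (CommRingCat.of k))]
  [IsProper (X ↘ Spec (CommRingCat.of k))]

/-- the dimension of a closed subset is attained by the transcendence degree of one of its points. -/
theorem exists_trdegNat_eq (T : Set X) (hT : IsClosed T) (n : ℕ) (h : topologicalKrullDim T = (n : WithBot ℕ∞)) :
    ∃ t ∈ T, trdegNat k X t = n := by
  by_contra hcon
  push Not at hcon
  have hle : ∀ t : T, trdegNat k X t ≤ n := by
    intro t
    have h1 := trdegNat_le_topologicalKrullDim_of_isLocallyClosed k X T hT.isLocallyClosed t t.2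
    rw [h] at h1
    exact_mod_cast h1
  rcases Nat.eq_zero_or_pos n with rfl | hn
  · rw [topologicalKrullDim_eq_iSup_trdegNat_of_isLocallyClosed k X T hT.isLocallyClosed] at h
    by_cases hne : T.Nonempty
    · obtain ⟨t, ht⟩ := hne
      exact hcon t ht (Nat.le_zero.1 (hle ⟨t, ht⟩))
    · haveI : IsEmpty T := ⟨fun t => hne ⟨t, t.2⟩⟩
      rw [iSup_of_empty] at h
      exact absurd h (by simp)
  · have hlt : ∀ t : T, trdegNat k X t ≤ n - 1 := by
      intro t
      have := hle t
      have := hcon t t.2
      omega
    rw [topologicalKrullDim_eq_iSup_trdegNat_of_isLocallyClosed k X T hT.isLocallyClosed] at h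
    have h2 : (⨆ t : T, ((trdegNat k X t : ℕ) : WithBot ℕ∞)) ≤ ((n - 1 : ℕ) : WithBot ℕ∞) :=
      iSup_le fun t => by exact_mod_cast hlt t
    rw [h] at h2
    have h3 : n ≤ n - 1 := by exact_mod_cast h2
    omega

/-- the support of the cokernel of `s ⊗ N`. -/
theorem support_cokernel_eq [IsLocallyNoetherian X] (P : X.Modules) (hP : PicF.IsInvertible P)
    (s : Coh.structureModule X ⟶ P) (N : X.Modules) (hN : Coh.IsCoh N)
    (hass : ∀ y : X, Curv2.IsAssPoint N y → y ∈ CohB1.genLocus P s) :
    CohB1.support (cokernel ((tr N).map s)) = CohB1.support N ∩ ((CohB1.genLocus P s : Set X))ᶜ := by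
  haveI : N.IsQuasicoherent := hN.1
  haveI : SheafOfModules.IsFiniteType (R := X.ringCatSheaf) N := hN.2
  ext x
  constructor
  · intro hx
    exact ⟨support_cokernel_subset_support P hP s N x hx,
      fun hxs => notMem_support_cokernel_of_mem_genLocus P hP s N x hxs hx⟩
  · rintro ⟨hxN, hxs⟩
    exact mem_support_cokernel P hP s N (mono_tr_map_section P hP s N hass) x hxs hxN

include k in
/-- **Dimension of the hyperplane section.** -/
theorem dim_support_cokernel (P : X.Modules) (hP : PicF.IsInvertible P)
    (s : Coh.structureModule X ⟶ P) (haff : IsAffineOpen (CohB1.genLocus P s))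
    (N : X.Modules) (hN : Coh.IsCoh N) (e : ℕ)
    (hdim : topologicalKrullDim (CohB1.support N) = ((e + 1 : ℕ) : WithBot ℕ∞))
    (hass : ∀ y : X, Curv2.IsAssPoint N y → y ∈ CohB1.genLocus P s)
    (htop : ∀ ξ : X, ξ ∈ CohB1.support N → DimPt (e + 1) ξ → ξ ∈ CohB1.genLocus P s) :
    topologicalKrullDim (CohB1.support (cokernel ((tr N).map s))) = (e : WithBot ℕ∞) := by
  haveI : IsNoetherian X := Groth.Agent.Lib.T2H6.CurveSatur.isNoetherian_of_proper k
  have hcl : IsClosed (CohB1.support N) := Groth.Agent.Lib.T2H5.Devissage.isClosed_support N hN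
  rw [support_cokernel_eq P hP s N hN hass]
  set T : Set X := CohB1.support N ∩ ((CohB1.genLocus P s : Set X))ᶜ with hT
  have hTcl : IsClosed T := hcl.inter (CohB1.genLocus P s).2.isClosed_compl
  rw [topologicalKrullDim_eq_iSup_trdegNat_of_isLocallyClosed k X T hTcl.isLocallyClosed]
  apply le_antisymm
  · refine iSup_le fun t => ?_
    have htN : (t : X) ∈ CohB1.support N := t.2.1
    have h1 : trdegNat k X t ≤ e + 1 := by
      have h2 := trdegNat_le_topologicalKrullDim_of_isLocallyClosed k X _ hcl.isLocallyClosed t htN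
      rw [hdim] at h2
      exact_mod_cast h2
    have h3 : trdegNat k X t ≠ e + 1 := by
      intro h4
      have hD : DimPt (e + 1) (t : X) := by
        unfold DimPt
        rw [topologicalKrullDim_closure_singleton k X, h4]
      exact t.2.2 (htop t htN hD)
    have h5 : trdegNat k X t ≤ e := by omega
    exact_mod_cast h5
  · obtain ⟨ξ, hξN, hξ⟩ := exists_trdegNat_eq k (CohB1.support N) hcl (e + 1) hdim
    have hξD : DimPt (e + 1) ξ := by
      unfold DimPt
      rw [topologicalKrullDim_closure_singleton k X, hξ]
    have hξs : ξ ∈ CohB1.genLocus P s := htop ξ hξN hξD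
    -- the closure of `ξ` is not contained in `X_s`
    have hnot : ¬ closure ({ξ} : Set X) ⊆ CohB1.genLocus P s := by
      intro hsub
      have hc := Groth.Agent.Lib.T2H6.NegTwistA.isClosed_singleton_of_closure_subset_affine k _ haff ξ hsub
      have h0 : trdegNat k X ξ = 0 := by
        have := trdeg_eq_zero_of_isClosed k X ξ hc
        exact trdegNat_eq_of_trdeg_eq k X ξ 0 (by rw [this]; rfl)
      omega
    obtain ⟨x, hxcl, hxs⟩ := Set.not_subset.1 hnot
    have hsp : ξ ⤳ x := specializes_iff_mem_closure.2 hxcl
    obtain ⟨V, hV, hxV, f, g, hg, hfg, hloc⟩ := exists_local_coef P hP s x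
    have hξV : ξ ∈ V := hsp.mem_open V.2 hxV
    have hfx : x ∉ X.basicOpen f := by
      rw [← hloc]
      exact fun h => hxs h.1
    have hfξ : ξ ∈ X.basicOpen f := by
      rw [← hloc]
      exact ⟨hξs, hξV⟩
    obtain ⟨y', hy'V, hξy', -, hy'f, htr⟩ :=
      exists_specialization_notMem_basicOpen k X hV ξ x hξV hxV hsp f hfx hfξ
    have hy'N : y' ∈ CohB1.support N := by
      have : closure ({ξ} : Set X) ⊆ CohB1.support N :=
        hcl.closure_subset_iff.2 (Set.singleton_subset_iff.2 hξN)
      exact this (specializes_iff_mem_closure.1 hξy')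
    have hy's : y' ∉ CohB1.genLocus P s := by
      intro h
      apply hy'f
      rw [← hloc]
      exact ⟨h, hy'V⟩
    have hy'e : trdegNat k X y' = e := by omega
    refine le_trans ?_ (le_iSup (fun t : T => ((trdegNat k X t : ℕ) : WithBot ℕ∞)) ⟨y', hy'N, hy's⟩)
    rw [hy'e]

end Groth.Agent.Lib.T2H6.PosB
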