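import Mathlib
import Groth.Prelude.Def_KLin
import Groth.Agent.Lib.T2H6PosB
import Groth.Agent.Lib.T2H6INumSnoc
import Groth.Agent.Lib.T2H6IntNumComp
import Groth.Agent.Lib.T2H6TensorPows
import Groth.Agent.Lib.T2H6CurveDeg
import Groth.Agent.Lib.Helper23TensorUnit
import Groth.Agent.Lib.Helper23QCohAbelian
set_option backward.isDefEq.respectTransparency.types false

/-!
# Linearity of the intersection number in the last variable; the hyperplane formula (helper6)

Namespace `Groth.Agent.Lib.T2H6.PosC`.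
-/

set_option autoImplicit false
set_option linter.style.haveILetI false
set_option linter.unusedSectionVars false
universe u

open CategoryTheory TopCat TopologicalSpace Opposite AlgebraicGeometry Limits

namespace Groth.Agent.Lib.T2H6.PosC

open Groth.Agent.Lib.T2H5.Twist Groth.Agent.Lib.T2H6.TensorPows Groth.Agent.Lib.T2H6.IntNum
  Groth.Agent.Lib.T2H6.AddFn

variable {X : Scheme.{u}} (k : Type u) [Field k] [X.Over (Spec (CommRingCat.of k))]
  [IsProper (X ↘ Spec (CommRingCat.of k))]

/-- peeling the last entry of a `Fin.snoc` family. -/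
theorem inum_snoc' (e : ℕ) (M' : Fin e → X.Modules) (A F : X.Modules) :
    inum k (e + 1) (Fin.snoc (α := fun _ => X.Modules) M' A) F =
      inum k e M' (CohB1.tensorMod F A) - inum k e M' F := by
  have h4 := Groth.Agent.Lib.T2H6.INumSnoc.inum_snoc k e (Fin.snoc (α := fun _ => X.Modules) M' A) F
  have h5 : (fun j : Fin e => (Fin.snoc (α := fun _ => X.Modules) M' A : Fin (e + 1) → X.Modules) j.castSucc) = M' :=
    funext fun j => by simp
  have h6 : (Fin.snoc (α := fun _ => X.Modules) M' A : Fin (e + 1) → X.Modules) (Fin.last e) = A := by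
    simp
  rw [h5, h6] at h4
  exact h4

theorem isInvertible_snoc (e : ℕ) (M' : Fin e → X.Modules) (hM' : ∀ i, PicF.IsInvertible (M' i))
    (A : X.Modules) (hA : PicF.IsInvertible A) (i : Fin (e + 1)) :
    PicF.IsInvertible ((Fin.snoc (α := fun _ => X.Modules) M' A : Fin (e + 1) → X.Modules) i) := by
  refine Fin.lastCases ?_ (fun j => ?_) i
  · simpa using hA
  · simpa using hM' j

/-- additivity of the intersection number in the last variable. -/
theorem inum_snoc_tensor (e : ℕ) (M' : Fin e → X.Modules) (hM' : ∀ i, PicF.IsInvertible (M' i))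
    (A B : X.Modules) (hA : PicF.IsInvertible A) (hB : PicF.IsInvertible B)
    (F : X.Modules) (hF : Coh.IsCoh F)
    (hd : topologicalKrullDim (CohB1.support F) ≤ ((e + 1 : ℕ) : WithBot ℕ∞)) :
    inum k (e + 1) (Fin.snoc (α := fun _ => X.Modules) M' (CohB1.tensorMod A B)) F =
      inum k (e + 1) (Fin.snoc (α := fun _ => X.Modules) M' A) F +
        inum k (e + 1) (Fin.snoc (α := fun _ => X.Modules) M' B) F := by
  have cA := Groth.Agent.Lib.T2H6.CurveDeg.isCoh_of_isInvertible A hA
  have cB := Groth.Agent.Lib.T2H6.CurveDeg.isCoh_of_isInvertible B hB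
  have hI := isAddFn_inum k e M' hM'
  have hz : inum k (e + 2) (Fin.snoc (α := fun _ => X.Modules)
      (Fin.snoc (α := fun _ => X.Modules) M' A) B) F = 0 :=
    inum_eq_zero k (e + 2) _ (isInvertible_snoc (e + 1) _ (isInvertible_snoc e M' hM' A hA) B hB) F hF
      (lt_of_le_of_lt hd (natCast_lt_succ (e + 1)))
  rw [inum_snoc' k (e + 1), inum_snoc' k e, inum_snoc' k e] at hz
  rw [inum_snoc' k e, inum_snoc' k e, inum_snoc' k e]
  have hiso : inum k e M' (CohB1.tensorMod (CohB1.tensorMod F B) A) =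
      inum k e M' (CohB1.tensorMod F (CohB1.tensorMod A B)) :=
    hI.iso (assocIso' F B A ≪≫ (trCongr (braidIso B A)).app F)
      (Groth.Agent.Lib.T2H6.TensorDeg.isCoh_tensor _ _
        (Groth.Agent.Lib.T2H6.TensorDeg.isCoh_tensor _ _ hF cB) cA)
  rw [hiso] at hz
  linarith

/-- the intersection number is homogeneous in the last variable. -/
theorem inum_snoc_tensorPow (e : ℕ) (M' : Fin e → X.Modules) (hM' : ∀ i, PicF.IsInvertible (M' i))
    (A : X.Modules) (hA : PicF.IsInvertible A) (F : X.Modules) (hF : Coh.IsCoh F)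
    (hd : topologicalKrullDim (CohB1.support F) ≤ ((e + 1 : ℕ) : WithBot ℕ∞)) (j : ℕ) :
    inum k (e + 1) (Fin.snoc (α := fun _ => X.Modules) M' (CohB1.tensorPow A j)) F =
      j * inum k (e + 1) (Fin.snoc (α := fun _ => X.Modules) M' A) F := by
  have hI := isAddFn_inum k e M' hM'
  induction j with
  | zero =>
    rw [inum_snoc' k e]
    have : inum k e M' (CohB1.tensorMod F (CohB1.tensorPow A 0)) = inum k e M' F :=
      hI.iso (Groth.Agent.Lib.Helper23.TensorUnit.tensorUnitIso F)
        (Groth.Agent.Lib.T2H6.TensorDeg.isCoh_tensor _ _ hF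
          Groth.Agent.Lib.T2H5.GenIsoF.isCoh_structureModule)
    rw [this]
    simp
  | succ j ih =>
    have h1 := inum_snoc_tensor k e M' hM' (CohB1.tensorPow A j) A
      (Groth.Agent.Lib.Helper23.SecTw.isInvertible_tensorPow hA j) hA F hF hd
    change inum k (e + 1) (Fin.snoc (α := fun _ => X.Modules) M'
      (CohB1.tensorMod (CohB1.tensorPow A j) A)) F = _
    rw [h1, ih]
    push_cast
    ring

/-- coherence of the cokernel of `s ⊗ N`. -/
theorem isCoh_cokernel_tr (P : X.Modules) (hP : PicF.IsInvertible P) (s : Coh.structureModule X ⟶ P)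
    (N : X.Modules) (hN : Coh.IsCoh N) : Coh.IsCoh (cokernel ((tr N).map s)) := by
  have cP := Groth.Agent.Lib.T2H6.CurveDeg.isCoh_of_isInvertible P hP
  have cO : Coh.IsCoh (Coh.structureModule X) := Groth.Agent.Lib.T2H5.GenIsoF.isCoh_structureModule
  have c1 : Coh.IsCoh (CohB1.tensorMod (Coh.structureModule X) N) :=
    Groth.Agent.Lib.T2H6.TensorDeg.isCoh_tensor _ _ cO hN
  have c2 : Coh.IsCoh (CohB1.tensorMod P N) := Groth.Agent.Lib.T2H6.TensorDeg.isCoh_tensor _ _ cP hN
  haveI : ((tr N).obj (Coh.structureModule X)).IsQuasicoherent := c1.1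
  haveI : ((tr N).obj P).IsQuasicoherent := c2.1
  exact Groth.Agent.Lib.T2H5.Devissage.isCoh_of_epi (cokernel.π ((tr N).map s)) c2
    (Groth.Agent.Lib.Helper23.QCohLocal.isQuasicoherent_cokernel ((tr N).map s))

/-- **The hyperplane formula.** If `s` is a section of `P`, regular on `F`, and `Q` is inverse to `P`, then
`(M'_1 ⋯ M'_e · Q ; F) = - (M'_1 ⋯ M'_e ; coker(s ⊗ (F ⊗ Q)))`. -/
theorem inum_snoc_eq_neg_inum_cokernel (e : ℕ) (M' : Fin e → X.Modules) (hM' : ∀ i, PicF.IsInvertible (M' i))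
    (P Q : X.Modules) (hP : PicF.IsInvertible P) (hQ : PicF.IsInvertible Q)
    (ePQ : CohB1.tensorMod P Q ≅ Coh.structureModule X) (s : Coh.structureModule X ⟶ P)
    (F : X.Modules) (hF : Coh.IsCoh F)
    (hass : ∀ y : X, Curv2.IsAssPoint F y → y ∈ CohB1.genLocus P s) :
    inum k (e + 1) (Fin.snoc (α := fun _ => X.Modules) M' Q) F =
      - inum k e M' (cokernel ((tr (CohB1.tensorMod F Q)).map s)) := by
  haveI : IsNoetherian X := Groth.Agent.Lib.T2H6.CurveSatur.isNoetherian_of_proper k
  have hI := isAddFn_inum k e M' hM'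
  have cP := Groth.Agent.Lib.T2H6.CurveDeg.isCoh_of_isInvertible P hP
  have cQ := Groth.Agent.Lib.T2H6.CurveDeg.isCoh_of_isInvertible Q hQ
  have cO : Coh.IsCoh (Coh.structureModule X) := Groth.Agent.Lib.T2H5.GenIsoF.isCoh_structureModule
  have hN : Coh.IsCoh (CohB1.tensorMod F Q) := Groth.Agent.Lib.T2H6.TensorDeg.isCoh_tensor _ _ hF cQ
  haveI : (CohB1.tensorMod F Q).IsQuasicoherent := hN.1
  have hassN : ∀ y : X, Curv2.IsAssPoint (CohB1.tensorMod F Q) y → y ∈ CohB1.genLocus P s :=
    fun y hy => hass y ((Groth.Agent.Lib.T2H6.NegTwistD.isAssPoint_tensorMod_iff F Q hQ y).1 hy)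
  have hmono := Groth.Agent.Lib.T2H6.PosA.mono_tr_map_section P hP s (CohB1.tensorMod F Q) hassN
  have c1 : Coh.IsCoh (CohB1.tensorMod (Coh.structureModule X) (CohB1.tensorMod F Q)) :=
    Groth.Agent.Lib.T2H6.TensorDeg.isCoh_tensor _ _ cO hN
  have c2 : Coh.IsCoh (CohB1.tensorMod P (CohB1.tensorMod F Q)) :=
    Groth.Agent.Lib.T2H6.TensorDeg.isCoh_tensor _ _ cP hN
  have c3 := isCoh_cokernel_tr P hP s _ hN
  let S : ShortComplex X.Modules :=
    ShortComplex.mk _ _ (cokernel.condition ((tr (CohB1.tensorMod F Q)).map s))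
  have hS : S.ShortExact :=
    { exact := ShortComplex.exact_cokernel _
      mono_f := hmono
      epi_g := inferInstanceAs (Epi (cokernel.π ((tr (CohB1.tensorMod F Q)).map s))) }
  have hadd := hI.add S hS c1 c2 c3
  change inum k e M' (CohB1.tensorMod P (CohB1.tensorMod F Q)) =
    inum k e M' (CohB1.tensorMod (Coh.structureModule X) (CohB1.tensorMod F Q)) +
      inum k e M' (cokernel ((tr (CohB1.tensorMod F Q)).map s)) at hadd
  have h1 : inum k e M' (CohB1.tensorMod (Coh.structureModule X) (CohB1.tensorMod F Q)) =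
      inum k e M' (CohB1.tensorMod F Q) :=
    hI.iso (Groth.Agent.Lib.Helper23.TensorUnit.unitTensorIso _) c1
  have h2 : inum k e M' (CohB1.tensorMod P (CohB1.tensorMod F Q)) = inum k e M' F :=
    hI.iso (braidIso P (CohB1.tensorMod F Q) ≪≫ assocIso' F Q P ≪≫
      (trCongr (braidIso Q P ≪≫ ePQ)).app F ≪≫
      Groth.Agent.Lib.Helper23.TensorUnit.tensorUnitIso F) c2
  rw [inum_snoc' k e]
  rw [h1, h2] at hadd
  linarith

end Groth.Agent.Lib.T2H6.PosC
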