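import Mathlib
import Groth.Prelude.Def_KLin
import Groth.Agent.Lib.T2H6PosC
import Groth.Agent.Lib.T2H6DegComp
import Groth.Agent.Lib.T2H5FinSurj
import Groth.Agent.Lib.T2H6EulerField
import Groth.Agent.Lib.T2H6CurveSerre
import Groth.Agent.Lib.Helper23SecTw9
import Groth.Agent.S0047
import Groth.Agent.Lib.Helper2TensorInv
set_option backward.isDefEq.respectTransparency.types false

/-!
# Positivity of intersection numbers of ample invertible modules (helper6)

Namespace `Groth.Agent.Lib.T2H6.PosD`.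

`pos` : `X` proper over a field, `L_1, …, L_e` ample with inverses `M_i`, `F` coherent with `dim Supp F = e`; then
`(-1)^e · inum(M; F) > 0`, i.e. `(L_1 ⋯ L_e · F) > 0`.
-/

set_option autoImplicit false
set_option linter.style.haveILetI false
set_option linter.unusedSectionVars false
universe u

open CategoryTheory TopCat TopologicalSpace Opposite AlgebraicGeometry Limits

namespace Groth.Agent.Lib.T2H6.PosD

open Groth.Agent.Lib.T2H5.Twist Groth.Agent.Lib.T2H6.TensorPows Groth.Agent.Lib.T2H6.IntNum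
  Groth.Agent.Lib.T2H6.AddFn Groth.Agent.Lib.T2H6.CompSumGen Groth.Agent.Lib.Helper4.VarDim
  Groth.Agent.Lib.T2H6.PosA Groth.Agent.Lib.T2H6.PosB Groth.Agent.Lib.T2H6.PosC
  Groth.Agent.Lib.T2H5.GenIsoA Groth.Agent.Lib.Helper4.NormDelta

variable {X : Scheme.{u}} (k : Type u) [Field k] [X.Over (Spec (CommRingCat.of k))]
  [IsProper (X ↘ Spec (CommRingCat.of k))]

include k in
/-- the points of a closed set of dimension `≤ 0` are closed. -/
theorem isClosed_singleton_of_dim_le_zero (T : Set X) (hT : IsClosed T)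
    (h : topologicalKrullDim T ≤ ((0 : ℕ) : WithBot ℕ∞)) (x : X) (hx : x ∈ T) : IsClosed ({x} : Set X) := by
  have h0 : ∀ t ∈ T, trdegNat k X t = 0 := by
    intro t ht
    have h1 := (trdegNat_le_topologicalKrullDim_of_isLocallyClosed k X T hT.isLocallyClosed t ht).trans h
    have h2 : trdegNat k X t ≤ 0 := by exact_mod_cast h1
    omega
  have hsub : closure ({x} : Set X) ⊆ {x} := by
    intro y hy
    by_contra hne
    have hsp : x ⤳ y := specializes_iff_mem_closure.2 hy
    have hyT : y ∈ T := (hT.closure_subset_iff.2 (Set.singleton_subset_iff.2 hx)) hy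
    have := trdegNat_lt_of_specializes k X x y hsp (fun h => hne h.symm)
    rw [h0 x hx] at this
    omega
  exact closure_subset_iff_isClosed.1 hsub

theorem inum_zero_eq (M : Fin 0 → X.Modules) (F : X.Modules) : inum k 0 M F = Curv2.euler k X F := by
  unfold inum Groth.Agent.Lib.T2H6.MixedDiff.mixed chiFun
  rw [Finset.univ_unique, Finset.sum_singleton]
  have : (default : Finset (Fin 0)) = ∅ := Subsingleton.elim _ _
  rw [this, Finset.card_empty, pow_zero, one_mul]
  rfl

/-- `χ(F) = h⁰(F)` for a coherent module supported at closed points. -/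
theorem euler_eq_finrank_of_closedPoints (F : X.Modules) (hF : Coh.IsCoh F)
    (hpts : ∀ x ∈ CohB1.support F, IsClosed ({x} : Set X)) :
    Curv2.euler k X F = (Module.finrank k (Coh.HH X F 0) : ℤ) := by
  haveI : IsNoetherian X := Groth.Agent.Lib.T2H6.CurveSatur.isNoetherian_of_proper k
  rw [Groth.Agent.Lib.T2H6.EulerField.euler_eq_sum k X F 0
    (fun i hi => Groth.Agent.S0047.result X _ hF hpts i hi)]
  simp

/-- `χ(O_Z) > 0` for a closed point `Z`. -/
theorem euler_quotMod_pos (ξ : X) (hξ : DimPt 0 ξ) : 0 < Curv2.euler k X (ClSub.quotMod (clI ξ)) := by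
  haveI : IsNoetherian X := Groth.Agent.Lib.T2H6.CurveSatur.isNoetherian_of_proper k
  have hQc : Coh.IsCoh (ClSub.quotMod (clI ξ)) := Groth.Agent.Lib.T2H6.ParShC.isCoh_quotMod _
  have hsupp : CohB1.support (ClSub.quotMod (clI ξ)) ⊆ closure ({ξ} : Set X) := by
    have := Groth.Agent.Lib.T2H6.ParShC.support_quotMod_subset (clI ξ)
    rwa [Scheme.IdealSheafData.coe_support_vanishingIdeal] at this
  have hpts : ∀ x ∈ CohB1.support (ClSub.quotMod (clI ξ)), IsClosed ({x} : Set X) := fun x hx =>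
    isClosed_singleton_of_dim_le_zero k _ isClosed_closure hξ.le x (hsupp hx)
  rw [euler_eq_finrank_of_closedPoints k _ hQc hpts]
  haveI := Groth.Agent.Lib.T2H6.EulerField.finite_HH k X _ hQc 0
  -- the quotient map is a nonzero section
  have hne : ClSub.toSubscheme (clI ξ) ≠ 0 := by
    intro h0
    have hmem : ξ ∈ (clI ξ).support := by
      rw [← SetLike.mem_coe, Scheme.IdealSheafData.coe_support_vanishingIdeal]
      exact subset_closure rfl
    rw [← SetLike.mem_coe, ← Scheme.IdealSheafData.range_subschemeι] at hmem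
    obtain ⟨z, hz⟩ := hmem
    have hnt := Groth.Agent.Lib.T2H5.FinSurj.mem_support_pushforward_structureModule
      (clI ξ).subschemeι z
    rw [hz] at hnt
    apply hnt
    refine ⟨fun a b => ?_⟩
    obtain ⟨a', rfl⟩ := stalkLin_surjective (ClSub.toSubscheme (clI ξ)) ξ a
    obtain ⟨b', rfl⟩ := stalkLin_surjective (ClSub.toSubscheme (clI ξ)) ξ b
    rw [stalkLin_eq_sm, stalkLin_eq_sm, h0]
    exact (sm_zero ξ a').trans (sm_zero ξ b').symm
  have hinj := (Groth.Agent.Lib.T2H6.CurveSerre.bijective_evLin k (ClSub.quotMod (clI ξ))).1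
  have hne' : Groth.Agent.Lib.T2H6.CurveSerre.evLin k (ClSub.quotMod (clI ξ)) (ClSub.toSubscheme (clI ξ)) ≠ 0 := by
    intro h
    exact hne (hinj (h.trans (map_zero _).symm))
  have hpos : 0 < Module.finrank k (Coh.HH X (ClSub.quotMod (clI ξ)) 0) :=
    Module.finrank_pos_iff_exists_ne_zero.2 ⟨_, hne'⟩
  exact_mod_cast hpos

/-- the case `e = 0`: `χ(F) > 0` for a coherent module with zero-dimensional support. -/
theorem pos_zero (M : Fin 0 → X.Modules) (F : X.Modules) (hF : Coh.IsCoh F)
    (hdim : topologicalKrullDim (CohB1.support F) = ((0 : ℕ) : WithBot ℕ∞)) : 0 < inum k 0 M F := by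
  haveI : IsNoetherian X := Groth.Agent.Lib.T2H6.CurveSatur.isNoetherian_of_proper k
  have hcl : IsClosed (CohB1.support F) := Groth.Agent.Lib.T2H5.Devissage.isClosed_support F hF
  obtain ⟨hlen, hfin, heq⟩ := Groth.Agent.Lib.T2H6.IntNumComp.good_inum k 0 M (fun i => i.elim0) F hF hdim.le
  rw [heq]
  unfold csum
  have hc : ∀ ξ : X, DimPt 0 ξ → 0 < inum k 0 M (ClSub.quotMod (clI ξ)) := fun ξ hξ => by
    rw [inum_zero_eq]
    exact euler_quotMod_pos k ξ hξ
  apply finsum_pos
  · intro ξ
    by_cases hξ : DimPt 0 ξ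
    · rw [term_pos _ F hξ]
      exact smul_nonneg (Nat.zero_le _) (hc ξ hξ).le
    · rw [term_neg _ F hξ]
  · obtain ⟨ξ, hξF, hξ⟩ := exists_trdegNat_eq k (CohB1.support F) hcl 0 hdim
    have hD : DimPt 0 ξ := by
      unfold DimPt
      rw [topologicalKrullDim_closure_singleton k X, hξ]
    refine ⟨ξ, ?_⟩
    rw [term_pos _ F hD]
    have h1 : lenAt ξ F ≠ 0 := fun h => ((lenAt_eq_zero_iff ξ F).1 h) hξF
    have h2 : 0 < (lenAt ξ F).toNat := by
      rw [Nat.pos_iff_ne_zero]
      intro h3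
      rcases (ENat.toNat_eq_zero).1 h3 with h4 | h4
      · exact h1 h4
      · exact hlen ξ hD h4
    exact smul_pos h2 (hc ξ hD)
  · exact hfin.subset (support_term_subset 0 _ F)

/-- twisting by an invertible module does not change the support. -/
theorem support_tensorMod_invertible (F Q : X.Modules) (hQ : PicF.IsInvertible Q) :
    CohB1.support (CohB1.tensorMod F Q) = CohB1.support F := by
  ext x
  obtain ⟨ε⟩ := Groth.Agent.Lib.T2H6.NegTwistD.nonempty_stalk_tensorMod_equiv F Q hQ x
  change ¬ Subsingleton _ ↔ ¬ Subsingleton _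
  rw [ε.toEquiv.subsingleton_congr]

/-- **Positivity.** `(L_1 ⋯ L_e · F) > 0` for ample `L_i` and `dim Supp F = e`. -/
theorem pos : ∀ (e : ℕ) (L M : Fin e → X.Modules), (∀ i, CohB1.IsAmple (L i)) →
    (∀ i, Nonempty (CohB1.tensorMod (L i) (M i) ≅ Coh.structureModule X)) →
    ∀ F : X.Modules, Coh.IsCoh F → topologicalKrullDim (CohB1.support F) = ((e : ℕ) : WithBot ℕ∞) →
    0 < (-1 : ℤ) ^ e * inum k e M F := by
  intro e
  induction e with
  | zero =>
    intro L M _ _ F hF hdim
    rw [pow_zero, one_mul]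
    exact pos_zero k M F hF hdim
  | succ e ih =>
    intro L M hL hLM F hF hdim
    haveI : IsNoetherian X := Groth.Agent.Lib.T2H6.CurveSatur.isNoetherian_of_proper k
    haveI : F.IsQuasicoherent := hF.1
    haveI : SheafOfModules.IsFiniteType (R := X.ringCatSheaf) F := hF.2
    have hMi : ∀ i, PicF.IsInvertible (M i) := fun i => by
      obtain ⟨ε⟩ := hLM i
      exact Groth.Agent.Lib.Helper2.TensorInv.isInvertible_of_tensor_iso (M i) (L i) (braidIso _ _ ≪≫ ε)
    have hsn : Fin.snoc (α := fun _ => X.Modules) (fun j : Fin e => M j.castSucc) (M (Fin.last e)) = M :=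
      Fin.snoc_init_self M
    have hfinTop := (Groth.Agent.Lib.T2H6.IntNumComp.good_inum k (e + 1) M hMi F hF hdim.le).2.1
    have hfinAss := Groth.Agent.Lib.T2H6.NegTwistD.finite_isAssPoint F
    haveI : CompactSpace X := (hL (Fin.last e)).2.1
    obtain ⟨m, s, hZs, -, haff⟩ := Groth.Agent.Lib.Helper23.SecTw.exists_affine_genLocus_of_finite
      (L (Fin.last e)) (hL (Fin.last e))
      ({y : X | Curv2.IsAssPoint F y} ∪ {ξ : X | DimPt (e + 1) ξ ∧ ξ ∈ CohB1.support F})
      (hfinAss.union hfinTop) ⊤ (fun _ _ => trivial)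
    have hLl : PicF.IsInvertible (L (Fin.last e)) := (hL (Fin.last e)).1
    have hMl := hMi (Fin.last e)
    have hP : PicF.IsInvertible (CohB1.tensorPow (L (Fin.last e)) (m + 1)) :=
      Groth.Agent.Lib.Helper23.SecTw.isInvertible_tensorPow hLl (m + 1)
    have hQ : PicF.IsInvertible (CohB1.tensorPow (M (Fin.last e)) (m + 1)) :=
      Groth.Agent.Lib.Helper23.SecTw.isInvertible_tensorPow hMl (m + 1)
    obtain ⟨εLM⟩ := hLM (Fin.last e)
    obtain ⟨ε1⟩ := Groth.Agent.Lib.Helper23.SecTw.nonempty_tensorPow_tensorMod_iso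
      (L (Fin.last e)) (M (Fin.last e)) hLl hMl (m + 1)
    have ePQ : CohB1.tensorMod (CohB1.tensorPow (L (Fin.last e)) (m + 1))
        (CohB1.tensorPow (M (Fin.last e)) (m + 1)) ≅ Coh.structureModule X :=
      ε1 ≪≫ Groth.Agent.Lib.Helper23.AmpleIso.tensorPowIso εLM (m + 1) ≪≫
        Groth.Agent.Lib.Helper23.TensorUnit.tensorPowUnitIso (m + 1)
    have cQ := Groth.Agent.Lib.T2H6.CurveDeg.isCoh_of_isInvertible _ hQ
    have hN : Coh.IsCoh (CohB1.tensorMod F (CohB1.tensorPow (M (Fin.last e)) (m + 1))) :=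
      Groth.Agent.Lib.T2H6.TensorDeg.isCoh_tensor _ _ hF cQ
    have hassF : ∀ y : X, Curv2.IsAssPoint F y →
        y ∈ CohB1.genLocus (CohB1.tensorPow (L (Fin.last e)) (m + 1)) s :=
      fun y hy => hZs (Or.inl hy)
    have hC := isCoh_cokernel_tr (CohB1.tensorPow (L (Fin.last e)) (m + 1)) hP s _ hN
    have hdimC := dim_support_cokernel k (CohB1.tensorPow (L (Fin.last e)) (m + 1)) hP s haff
      (CohB1.tensorMod F (CohB1.tensorPow (M (Fin.last e)) (m + 1))) hN e
      (by rw [support_tensorMod_invertible F _ hQ]; exact hdim)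
      (fun y hy => hassF y ((Groth.Agent.Lib.T2H6.NegTwistD.isAssPoint_tensorMod_iff F _ hQ y).1 hy))
      (fun ξ hξ hD => hZs (Or.inr ⟨hD, by rwa [support_tensorMod_invertible F _ hQ] at hξ⟩))
    have hIH := ih (fun j => L j.castSucc) (fun j => M j.castSucc) (fun j => hL _) (fun j => hLM _) _ hC hdimC
    have hhyp := inum_snoc_eq_neg_inum_cokernel k e (fun j => M j.castSucc) (fun j => hMi _)
      (CohB1.tensorPow (L (Fin.last e)) (m + 1)) (CohB1.tensorPow (M (Fin.last e)) (m + 1)) hP hQ ePQ s F hF hassF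
    have hpow := inum_snoc_tensorPow k e (fun j => M j.castSucc) (fun j => hMi _) (M (Fin.last e)) hMl F hF
      hdim.le (m + 1)
    rw [hsn] at hpow
    have key : ((m + 1 : ℕ) : ℤ) * ((-1 : ℤ) ^ (e + 1) * inum k (e + 1) M F) =
        (-1 : ℤ) ^ e * inum k e (fun j => M j.castSucc)
          (cokernel ((tr (CohB1.tensorMod F (CohB1.tensorPow (M (Fin.last e)) (m + 1)))).map s)) := by
      have h1 : inum k e (fun j => M j.castSucc)
          (cokernel ((tr (CohB1.tensorMod F (CohB1.tensorPow (M (Fin.last e)) (m + 1)))).map s)) =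
          - (((m + 1 : ℕ) : ℤ) * inum k (e + 1) M F) := by
        rw [← hpow, hhyp, neg_neg]
      rw [h1, pow_succ]
      ring
    have hpos : (0 : ℤ) < ((m + 1 : ℕ) : ℤ) := by exact_mod_cast Nat.succ_pos m
    rw [← key] at hIH
    exact (mul_pos_iff_of_pos_left hpos).1 hIH

end Groth.Agent.Lib.T2H6.PosD
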