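import Mathlib
import Groth.Prelude.Def_KLin
import Groth.Agent.Lib.T2H6PosD
set_option backward.isDefEq.respectTransparency.types false

/-!
# Positivity of intersection numbers, in terms of the ample modules themselves (helper6)

Namespace `Groth.Agent.Lib.T2H6.PosE`.

* `pos_L` : `inum(L_1, …, L_e; F) > 0` for ample `L_i` and `dim Supp F = e`.
* `euler_tensorPow_eq_sum` : Newton's forward formula `χ(F ⊗ L^m) = Σ_{i ≤ r} C(m, i) · inum_i(L, …, L; F)`.
-/

set_option autoImplicit false
set_option linter.style.haveILetI false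
set_option linter.unusedSectionVars false
universe u

open CategoryTheory TopCat TopologicalSpace Opposite AlgebraicGeometry Limits

namespace Groth.Agent.Lib.T2H6.PosE

open Groth.Agent.Lib.T2H5.Twist Groth.Agent.Lib.T2H6.TensorPows Groth.Agent.Lib.T2H6.IntNum
  Groth.Agent.Lib.T2H6.AddFn Groth.Agent.Lib.T2H6.CompSumGen Groth.Agent.Lib.Helper4.VarDim
  Groth.Agent.Lib.T2H6.PosA Groth.Agent.Lib.T2H6.PosB Groth.Agent.Lib.T2H6.PosC Groth.Agent.Lib.T2H6.PosD

variable {X : Scheme.{u}} (k : Type u) [Field k] [X.Over (Spec (CommRingCat.of k))]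
  [IsProper (X ↘ Spec (CommRingCat.of k))]

/-- **The hyperplane formula**, for the module `P` itself: `(M'_1 ⋯ M'_e · P ; F) = (M'_1 ⋯ M'_e ; coker(s ⊗ F))`. -/
theorem inum_snoc_eq_inum_cokernel (e : ℕ) (M' : Fin e → X.Modules) (hM' : ∀ i, PicF.IsInvertible (M' i))
    (P : X.Modules) (hP : PicF.IsInvertible P) (s : Coh.structureModule X ⟶ P)
    (F : X.Modules) (hF : Coh.IsCoh F)
    (hass : ∀ y : X, Curv2.IsAssPoint F y → y ∈ CohB1.genLocus P s) :
    inum k (e + 1) (Fin.snoc (α := fun _ => X.Modules) M' P) F =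
      inum k e M' (cokernel ((tr F).map s)) := by
  haveI : IsNoetherian X := Groth.Agent.Lib.T2H6.CurveSatur.isNoetherian_of_proper k
  have hI := isAddFn_inum k e M' hM'
  have cP := Groth.Agent.Lib.T2H6.CurveDeg.isCoh_of_isInvertible P hP
  have cO : Coh.IsCoh (Coh.structureModule X) := Groth.Agent.Lib.T2H5.GenIsoF.isCoh_structureModule
  haveI : F.IsQuasicoherent := hF.1
  have hmono := Groth.Agent.Lib.T2H6.PosA.mono_tr_map_section P hP s F hass
  have c1 : Coh.IsCoh (CohB1.tensorMod (Coh.structureModule X) F) :=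
    Groth.Agent.Lib.T2H6.TensorDeg.isCoh_tensor _ _ cO hF
  have c2 : Coh.IsCoh (CohB1.tensorMod P F) := Groth.Agent.Lib.T2H6.TensorDeg.isCoh_tensor _ _ cP hF
  have c3 := isCoh_cokernel_tr P hP s _ hF
  let S : ShortComplex X.Modules := ShortComplex.mk _ _ (cokernel.condition ((tr F).map s))
  have hS : S.ShortExact :=
    { exact := ShortComplex.exact_cokernel _
      mono_f := hmono
      epi_g := inferInstanceAs (Epi (cokernel.π ((tr F).map s))) }
  have hadd := hI.add S hS c1 c2 c3
  change inum k e M' (CohB1.tensorMod P F) =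
    inum k e M' (CohB1.tensorMod (Coh.structureModule X) F) +
      inum k e M' (cokernel ((tr F).map s)) at hadd
  have h1 : inum k e M' (CohB1.tensorMod (Coh.structureModule X) F) = inum k e M' F :=
    hI.iso (Groth.Agent.Lib.Helper23.TensorUnit.unitTensorIso _) c1
  have h2 : inum k e M' (CohB1.tensorMod P F) = inum k e M' (CohB1.tensorMod F P) :=
    hI.iso (braidIso P F) c2
  rw [inum_snoc' k e]
  rw [h1, h2] at hadd
  linarith

/-- **Positivity**, in terms of the ample modules: `inum(L_1, …, L_e; F) > 0` if `dim Supp F = e`. -/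
theorem pos_L : ∀ (e : ℕ) (L : Fin e → X.Modules), (∀ i, CohB1.IsAmple (L i)) →
    ∀ F : X.Modules, Coh.IsCoh F → topologicalKrullDim (CohB1.support F) = ((e : ℕ) : WithBot ℕ∞) →
    0 < inum k e L F := by
  intro e
  induction e with
  | zero =>
    intro L _ F hF hdim
    exact pos_zero k L F hF hdim
  | succ e ih =>
    intro L hL F hF hdim
    haveI : IsNoetherian X := Groth.Agent.Lib.T2H6.CurveSatur.isNoetherian_of_proper k
    haveI : F.IsQuasicoherent := hF.1
    haveI : SheafOfModules.IsFiniteType (R := X.ringCatSheaf) F := hF.2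
    have hLi : ∀ i, PicF.IsInvertible (L i) := fun i => (hL i).1
    have hsn : Fin.snoc (α := fun _ => X.Modules) (fun j : Fin e => L j.castSucc) (L (Fin.last e)) = L :=
      Fin.snoc_init_self L
    have hfinTop := (Groth.Agent.Lib.T2H6.IntNumComp.good_inum k (e + 1) L hLi F hF hdim.le).2.1
    have hfinAss := Groth.Agent.Lib.T2H6.NegTwistD.finite_isAssPoint F
    haveI : CompactSpace X := (hL (Fin.last e)).2.1
    obtain ⟨m, s, hZs, -, haff⟩ := Groth.Agent.Lib.Helper23.SecTw.exists_affine_genLocus_of_finite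
      (L (Fin.last e)) (hL (Fin.last e))
      ({y : X | Curv2.IsAssPoint F y} ∪ {ξ : X | DimPt (e + 1) ξ ∧ ξ ∈ CohB1.support F})
      (hfinAss.union hfinTop) ⊤ (fun _ _ => trivial)
    have hLl : PicF.IsInvertible (L (Fin.last e)) := hLi _
    have hP : PicF.IsInvertible (CohB1.tensorPow (L (Fin.last e)) (m + 1)) :=
      Groth.Agent.Lib.Helper23.SecTw.isInvertible_tensorPow hLl (m + 1)
    have hassF : ∀ y : X, Curv2.IsAssPoint F y →
        y ∈ CohB1.genLocus (CohB1.tensorPow (L (Fin.last e)) (m + 1)) s :=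
      fun y hy => hZs (Or.inl hy)
    have hC := isCoh_cokernel_tr (CohB1.tensorPow (L (Fin.last e)) (m + 1)) hP s _ hF
    have hdimC := dim_support_cokernel k (CohB1.tensorPow (L (Fin.last e)) (m + 1)) hP s haff
      F hF e hdim hassF (fun ξ hξ hD => hZs (Or.inr ⟨hD, hξ⟩))
    have hIH := ih (fun j => L j.castSucc) (fun j => hL _) _ hC hdimC
    have hhyp := inum_snoc_eq_inum_cokernel k e (fun j => L j.castSucc) (fun j => hLi _)
      (CohB1.tensorPow (L (Fin.last e)) (m + 1)) hP s F hF hassF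
    have hpow := inum_snoc_tensorPow k e (fun j => L j.castSucc) (fun j => hLi _) (L (Fin.last e)) hLl F hF
      hdim.le (m + 1)
    rw [hsn] at hpow
    rw [← hhyp, hpow] at hIH
    have hpos : (0 : ℤ) < ((m + 1 : ℕ) : ℤ) := by exact_mod_cast Nat.succ_pos m
    exact (mul_pos_iff_of_pos_left hpos).1 hIH

section newton

/-- Pascal's rule for binomial sums. -/
theorem sum_choose_succ (a : ℕ → ℤ) (m : ℕ) :
    ∑ i ∈ Finset.range (m + 1), (m.choose i : ℤ) * (a i + a (i + 1)) =
      ∑ i ∈ Finset.range (m + 2), ((m + 1).choose i : ℤ) * a i := by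
  rw [Finset.sum_range_succ' _ (m + 1)]
  simp only [Nat.choose_succ_succ, Nat.choose_zero_right, Nat.cast_one, one_mul, Nat.cast_add]
  have h1 : ∑ i ∈ Finset.range (m + 1), (m.choose i : ℤ) * a i =
      a 0 + ∑ i ∈ Finset.range (m + 1), (m.choose (i + 1) : ℤ) * a (i + 1) := by
    rw [Finset.sum_range_succ' _ m, Finset.sum_range_succ _ m]
    simp
    ring
  simp only [mul_add, add_mul, Finset.sum_add_distrib]
  rw [h1]
  ring

/-- the recurrence `Δ_{i+1} G = Δ_i (G ⊗ L) - Δ_i G` for the constant family. -/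
theorem inum_const_succ (L : X.Modules) (i : ℕ) (G : X.Modules) :
    inum k (i + 1) (fun _ : Fin (i + 1) => L) G =
      inum k i (fun _ : Fin i => L) (CohB1.tensorMod G L) - inum k i (fun _ : Fin i => L) G :=
  Groth.Agent.Lib.T2H6.INumSnoc.inum_snoc k i (fun _ : Fin (i + 1) => L) G

/-- **Newton's forward formula.** -/
theorem euler_tensorPow_eq_sum_range (L : X.Modules) (hL : PicF.IsInvertible L) :
    ∀ (m : ℕ) (G : X.Modules), Coh.IsCoh G →
      Curv2.euler k X (CohB1.tensorMod G (CohB1.tensorPow L m)) =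
        ∑ i ∈ Finset.range (m + 1), (m.choose i : ℤ) * inum k i (fun _ : Fin i => L) G := by
  haveI : IsNoetherian X := Groth.Agent.Lib.T2H6.CurveSatur.isNoetherian_of_proper k
  have hE := Groth.Agent.Lib.T2H6.TensorDeg.isAddFn_euler (X := X) k
  have cL := Groth.Agent.Lib.T2H6.CurveDeg.isCoh_of_isInvertible L hL
  have cO : Coh.IsCoh (Coh.structureModule X) := Groth.Agent.Lib.T2H5.GenIsoF.isCoh_structureModule
  intro m
  induction m with
  | zero =>
    intro G hG
    rw [Finset.sum_range_one, Nat.choose_zero_right, Nat.cast_one, one_mul, inum_zero_eq]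
    exact hE.iso (Groth.Agent.Lib.Helper23.TensorUnit.tensorUnitIso G)
      (Groth.Agent.Lib.T2H6.TensorDeg.isCoh_tensor _ _ hG cO)
  | succ m ih =>
    intro G hG
    have cGL : Coh.IsCoh (CohB1.tensorMod G L) := Groth.Agent.Lib.T2H6.TensorDeg.isCoh_tensor _ _ hG cL
    obtain ⟨ε1⟩ := Groth.Agent.Lib.T2H5.AmpleSerre.nonempty_tensor_tensorPow_add_iso G L 1 m
    obtain ⟨u⟩ := Groth.Agent.Lib.T2H6.TensorFree.nonempty_unitTensorIso' L
    have ε2 : CohB1.tensorMod G (CohB1.tensorPow L 1) ≅ CohB1.tensorMod G L := (trCongr u).app G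
    have ε : CohB1.tensorMod G (CohB1.tensorPow L (m + 1)) ≅
        CohB1.tensorMod (CohB1.tensorMod G L) (CohB1.tensorPow L m) := by
      rw [Nat.add_comm m 1]
      exact ε1 ≪≫ (tr (CohB1.tensorPow L m)).mapIso ε2
    have cm1 : Coh.IsCoh (CohB1.tensorMod G (CohB1.tensorPow L (m + 1))) :=
      Groth.Agent.Lib.T2H5.AmpleSerre.isCoh_tensor_tensorPow G L hG hL (m + 1)
    rw [hE.iso ε cm1, ih _ cGL, ← sum_choose_succ]
    refine Finset.sum_congr rfl fun i _ => ?_
    rw [inum_const_succ k L i G]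
    ring

/-- Newton's forward formula, truncated at the dimension of the support. -/
theorem euler_tensorPow_eq_sum (L : X.Modules) (hL : PicF.IsInvertible L) (G : X.Modules) (hG : Coh.IsCoh G)
    (r : ℕ) (hr : topologicalKrullDim (CohB1.support G) ≤ ((r : ℕ) : WithBot ℕ∞)) (m : ℕ) :
    Curv2.euler k X (CohB1.tensorMod G (CohB1.tensorPow L m)) =
      ∑ i ∈ Finset.range (r + 1), (m.choose i : ℤ) * inum k i (fun _ : Fin i => L) G := by
  rw [euler_tensorPow_eq_sum_range k L hL m G hG]
  have hz : ∀ i, r < i → inum k i (fun _ : Fin i => L) G = 0 := fun i hi =>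
    inum_eq_zero k i _ (fun _ => hL) G hG (lt_of_le_of_lt hr (by exact_mod_cast hi))
  have h1 : ∀ N, m + 1 ≤ N → ∑ i ∈ Finset.range N, (m.choose i : ℤ) * inum k i (fun _ : Fin i => L) G =
      ∑ i ∈ Finset.range (m + 1), (m.choose i : ℤ) * inum k i (fun _ : Fin i => L) G := by
    intro N hN
    symm
    refine Finset.sum_subset (Finset.range_mono hN) fun i _ hi => ?_
    rw [Finset.mem_range, not_lt] at hi
    rw [Nat.choose_eq_zero_of_lt (by omega), Nat.cast_zero, zero_mul]
  have h2 : ∀ N, r + 1 ≤ N → ∑ i ∈ Finset.range N, (m.choose i : ℤ) * inum k i (fun _ : Fin i => L) G =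
      ∑ i ∈ Finset.range (r + 1), (m.choose i : ℤ) * inum k i (fun _ : Fin i => L) G := by
    intro N hN
    symm
    refine Finset.sum_subset (Finset.range_mono hN) fun i _ hi => ?_
    rw [Finset.mem_range, not_lt] at hi
    rw [hz i (by omega), mul_zero]
  rw [← h1 (max (m + 1) (r + 1)) (le_max_left _ _), h2 (max (m + 1) (r + 1)) (le_max_right _ _)]

end newton

end Groth.Agent.Lib.T2H6.PosE
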