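import Mathlib

/-!
# A binomial sum is a polynomial: growth estimate (helper6)

Namespace `Groth.Agent.Lib.T2H6.PosF`.

`exists_bound_sum_choose` : for integers `b_0, …, b_d` there is `K ≥ 0` with
`|Σ_{i ≤ d} C(m, i) b_i - (b_d / d!) m^d| ≤ K (m + 1)^(d - 1)` for all `m : ℕ`.
-/

set_option autoImplicit false
universe u

open Polynomial

namespace Groth.Agent.Lib.T2H6.PosF

/-- a polynomial of degree `≤ e` is `O((m+1)^e)` on the natural numbers. -/
theorem poly_bound (R : ℚ[X]) (e : ℕ) (hR : R.natDegree ≤ e) :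
    ∃ K : ℚ, 0 ≤ K ∧ ∀ m : ℕ, |R.eval (m : ℚ)| ≤ K * ((m : ℚ) + 1) ^ e := by
  refine ⟨∑ i ∈ Finset.range (R.natDegree + 1), |R.coeff i|, Finset.sum_nonneg fun i _ => abs_nonneg _,
    fun m => ?_⟩
  rw [Polynomial.eval_eq_sum_range, Finset.sum_mul]
  refine (Finset.abs_sum_le_sum_abs _ _).trans (Finset.sum_le_sum fun i hi => ?_)
  rw [abs_mul]
  have hm : (0 : ℚ) ≤ (m : ℚ) := Nat.cast_nonneg m
  have h1 : |(m : ℚ) ^ i| ≤ ((m : ℚ) + 1) ^ e := by
    rw [abs_of_nonneg (pow_nonneg hm i)]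
    have hie : i ≤ e := by
      have := Finset.mem_range.1 hi
      omega
    calc (m : ℚ) ^ i ≤ ((m : ℚ) + 1) ^ i := pow_le_pow_left₀ hm (by linarith) i
      _ ≤ ((m : ℚ) + 1) ^ e := pow_le_pow_right₀ (by linarith) hie
  exact mul_le_mul_of_nonneg_left h1 (abs_nonneg _)

theorem natDegree_descPochhammer_sub_pow_le (d : ℕ) :
    (descPochhammer ℚ d - X ^ d).natDegree ≤ d - 1 := by
  rw [Polynomial.natDegree_le_iff_coeff_eq_zero]
  intro N hN
  rw [Polynomial.coeff_sub, Polynomial.coeff_X_pow]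
  by_cases h : N = d
  · subst h
    rw [if_pos rfl]
    have := (monic_descPochhammer ℚ N).coeff_natDegree
    rw [descPochhammer_natDegree] at this
    rw [this, sub_self]
  · rw [if_neg h, sub_zero]
    apply Polynomial.coeff_eq_zero_of_natDegree_lt
    rw [descPochhammer_natDegree]
    omega

/-- the growth of a binomial sum. -/
theorem exists_bound_sum_choose (b : ℕ → ℤ) (d : ℕ) :
    ∃ K : ℚ, 0 ≤ K ∧ ∀ m : ℕ,
      |((∑ i ∈ Finset.range (d + 1), (m.choose i : ℤ) * b i : ℤ) : ℚ) -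
          (b d : ℚ) / (d.factorial : ℚ) * (m : ℚ) ^ d| ≤ K * ((m : ℚ) + 1) ^ (d - 1) := by
  let R : ℚ[X] := ∑ i ∈ Finset.range d, C ((b i : ℚ) / (i.factorial : ℚ)) * descPochhammer ℚ i +
    C ((b d : ℚ) / (d.factorial : ℚ)) * (descPochhammer ℚ d - X ^ d)
  have hdeg : R.natDegree ≤ d - 1 := by
    refine (Polynomial.natDegree_add_le _ _).trans (max_le ?_ ?_)
    · refine Polynomial.natDegree_sum_le_of_forall_le _ _ fun i hi => ?_
      refine (Polynomial.natDegree_C_mul_le _ _).trans ?_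
      rw [descPochhammer_natDegree]
      have := Finset.mem_range.1 hi
      omega
    · exact (Polynomial.natDegree_C_mul_le _ _).trans (natDegree_descPochhammer_sub_pow_le d)
  obtain ⟨K, hK0, hK⟩ := poly_bound R (d - 1) hdeg
  refine ⟨K, hK0, fun m => ?_⟩
  have heval : R.eval (m : ℚ) = ((∑ i ∈ Finset.range (d + 1), (m.choose i : ℤ) * b i : ℤ) : ℚ) -
      (b d : ℚ) / (d.factorial : ℚ) * (m : ℚ) ^ d := by
    simp only [R, Polynomial.eval_add, Polynomial.eval_finset_sum, Polynomial.eval_mul, Polynomial.eval_C,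
      Polynomial.eval_sub, Polynomial.eval_pow, Polynomial.eval_X]
    rw [Finset.sum_range_succ]
    push_cast
    have hch : ∀ i : ℕ, ((m.choose i : ℕ) : ℚ) = (descPochhammer ℚ i).eval (m : ℚ) / (i.factorial : ℚ) :=
      fun i => Nat.cast_choose_eq_descPochhammer_div ℚ m i
    rw [hch d]
    have hsum : ∑ i ∈ Finset.range d, ((m.choose i : ℕ) : ℚ) * (b i : ℚ) =
        ∑ i ∈ Finset.range d, (b i : ℚ) / (i.factorial : ℚ) * (descPochhammer ℚ i).eval (m : ℚ) := by
      refine Finset.sum_congr rfl fun i _ => ?_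
      rw [hch i]
      ring
    rw [hsum]
    ring
  rw [← heval]
  exact hK m

end Groth.Agent.Lib.T2H6.PosF
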