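import Mathlib
import Groth.Prelude.Def_KLin
import Groth.Agent.Lib.T2H6PosE
import Groth.Agent.Lib.T2H6PosF
import Groth.Agent.Lib.T2H5AmpleSerre
import Groth.Agent.Lib.T2H6FieldBC2
set_option backward.isDefEq.respectTransparency.types false

/-!
# Asymptotic Riemann–Roch for an ample invertible module (helper6)

Namespace `Groth.Agent.Lib.T2H6.PosG`.
-/

set_option autoImplicit false
set_option linter.style.haveILetI false
set_option linter.unusedSectionVars false
universe u

open CategoryTheory TopCat TopologicalSpace Opposite AlgebraicGeometry Limits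

namespace Groth.Agent.Lib.T2H6.PosG

open Groth.Agent.Lib.T2H5.Twist Groth.Agent.Lib.T2H6.TensorPows Groth.Agent.Lib.T2H6.IntNum
  Groth.Agent.Lib.T2H6.AddFn Groth.Agent.Lib.Helper4.VarDim
  Groth.Agent.Lib.T2H6.PosD Groth.Agent.Lib.T2H6.PosE Groth.Agent.Lib.T2H6.PosF

variable {X : Scheme.{u}} (k : Type u) [Field k] [X.Over (Spec (CommRingCat.of k))]
  [IsProper (X ↘ Spec (CommRingCat.of k))]

theorem support_structureModule : CohB1.support (Coh.structureModule X) = Set.univ := by
  ext x
  simp only [Set.mem_univ, iff_true]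
  change ¬ Subsingleton _
  rw [not_subsingleton_iff_nontrivial]
  infer_instance

theorem dim_support_structureModule :
    topologicalKrullDim (CohB1.support (Coh.structureModule X)) = topologicalKrullDim X := by
  rw [support_structureModule]
  exact topologicalKrullDim_univ_eq

/-- **Asymptotic Riemann–Roch.** -/
theorem asymptotic_rr (d : ℕ) (hX : topologicalKrullDim X = d) (L : X.Modules) (hL : CohB1.IsAmple L)
    (P : MvPolynomial (Fin d) ℚ)
    (hP : ∀ n : Fin d → ℕ, (Curv2.euler k X (Curv2.tensorPows (Coh.structureModule X) d (fun _ => L) n) : ℚ) =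
      MvPolynomial.eval (fun i => (n i : ℚ)) P) :
    0 < MvPolynomial.coeff (Finsupp.equivFunOnFinite.symm fun _ : Fin d => 1) P ∧
      ∃ C : ℚ, ∀ n : ℕ,
        |(Module.finrank k (Coh.HH X (CohB1.tensorPow L n) 0) : ℚ) -
            MvPolynomial.coeff (Finsupp.equivFunOnFinite.symm fun _ : Fin d => 1) P / (d.factorial : ℚ) *
              (n : ℚ) ^ d| ≤ C * ((n : ℚ) + 1) ^ (d - 1) := by
  haveI : IsNoetherian X := Groth.Agent.Lib.T2H6.CurveSatur.isNoetherian_of_proper k
  have hLi : PicF.IsInvertible L := hL.1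
  have cO : Coh.IsCoh (Coh.structureModule X) := Groth.Agent.Lib.T2H5.GenIsoF.isCoh_structureModule
  have hdimO : topologicalKrullDim (CohB1.support (Coh.structureModule X)) = ((d : ℕ) : WithBot ℕ∞) := by
    rw [dim_support_structureModule, hX]
  have hcoeff := coeff_eq_inum k d (fun _ => L) (fun _ => hLi) (Coh.structureModule X) cO hdimO.le P hP
  have hpos := pos_L k d (fun _ => L) (fun _ => hL) (Coh.structureModule X) cO hdimO
  refine ⟨by rw [hcoeff]; exact_mod_cast hpos, ?_⟩
  rw [hcoeff]
  -- Newton's formula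
  have hnewton := euler_tensorPow_eq_sum k L hLi (Coh.structureModule X) cO d hdimO.le
  -- Serre vanishing
  obtain ⟨n₀, hn₀⟩ := Groth.Agent.Lib.T2H5.AmpleSerre.serre_vanishing_of_isAmple
    (X ↘ Spec (CommRingCat.of k)) L hL (Coh.structureModule X) cO
  have hh0 : ∀ n : ℕ, n₀ ≤ n →
      (Module.finrank k (Coh.HH X (CohB1.tensorPow L n) 0) : ℤ) =
        Curv2.euler k X (CohB1.tensorMod (Coh.structureModule X) (CohB1.tensorPow L n)) := by
    intro n hn
    rw [Groth.Agent.Lib.T2H6.EulerField.euler_eq_sum k X _ 0 (fun i hi => hn₀ n hn i hi)]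
    rw [Finset.sum_range_one, pow_zero, one_mul]
    rw [Groth.Agent.Lib.T2H6.FieldBC.finrank_HH_eq_of_iso k X
      (Groth.Agent.Lib.Helper23.TensorUnit.unitTensorIso (CohB1.tensorPow L n)) 0]
  obtain ⟨K, hK0, hK⟩ := exists_bound_sum_choose (fun i => inum k i (fun _ : Fin i => L) (Coh.structureModule X)) d
  -- the finitely many small `n`
  let B : ℚ := ∑ n ∈ Finset.range n₀,
    |(Module.finrank k (Coh.HH X (CohB1.tensorPow L n) 0) : ℚ) -
      (inum k d (fun _ : Fin d => L) (Coh.structureModule X) : ℚ) / (d.factorial : ℚ) * (n : ℚ) ^ d|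
  have hB0 : 0 ≤ B := Finset.sum_nonneg fun n _ => abs_nonneg _
  refine ⟨K + B, fun n => ?_⟩
  have hge1 : (1 : ℚ) ≤ ((n : ℚ) + 1) ^ (d - 1) := by
    apply one_le_pow₀
    have : (0 : ℚ) ≤ (n : ℚ) := Nat.cast_nonneg n
    linarith
  by_cases hn : n₀ ≤ n
  · have h1 : (Module.finrank k (Coh.HH X (CohB1.tensorPow L n) 0) : ℚ) =
        ((∑ i ∈ Finset.range (d + 1), (n.choose i : ℤ) *
          inum k i (fun _ : Fin i => L) (Coh.structureModule X) : ℤ) : ℚ) := by
      have := hh0 n hn
      rw [hnewton n] at this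
      exact_mod_cast this
    rw [h1]
    refine (hK n).trans ?_
    have : 0 ≤ ((n : ℚ) + 1) ^ (d - 1) := le_trans zero_le_one hge1
    nlinarith
  · have hmem : n ∈ Finset.range n₀ := Finset.mem_range.2 (by omega)
    have h1 : |(Module.finrank k (Coh.HH X (CohB1.tensorPow L n) 0) : ℚ) -
        (inum k d (fun _ : Fin d => L) (Coh.structureModule X) : ℚ) / (d.factorial : ℚ) * (n : ℚ) ^ d| ≤ B :=
      Finset.single_le_sum (f := fun n => |(Module.finrank k (Coh.HH X (CohB1.tensorPow L n) 0) : ℚ) -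
        (inum k d (fun _ : Fin d => L) (Coh.structureModule X) : ℚ) / (d.factorial : ℚ) * (n : ℚ) ^ d|)
        (fun i _ => abs_nonneg _) hmem
    refine h1.trans ?_
    nlinarith

end Groth.Agent.Lib.T2H6.PosG
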