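import Mathlib
import Groth.Prelude.Def_KLin
import Groth.Agent.Lib.T2H6PosD
import Groth.Agent.Lib.T2H6PosG
import Groth.Agent.Lib.T2H6InvMono
import Groth.Agent.Lib.T2H6FGABridge
import Groth.Agent.Lib.T2H6FieldBC
set_option backward.isDefEq.respectTransparency.types false

/-!
# Intersection numbers on a surface: symmetry, sections on integral schemes (helper6)

Namespace `Groth.Agent.Lib.T2H6.PosH`.

* `mem_genLocus_of_isAssPoint` : on an integral scheme a nonzero section of an invertible module generates it at the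
  associated points of `O_X` (i.e. at the generic point).
* `inum_two`, `inum_two_symm` : the two-variable intersection number `χ(F⊗A⊗B) - χ(F⊗A) - χ(F⊗B) + χ(F)` and its symmetry.
* `pos_of_section` : S11752.
-/

set_option autoImplicit false
set_option linter.style.haveILetI false
set_option linter.unusedSectionVars false
universe u

open CategoryTheory TopCat TopologicalSpace Opposite AlgebraicGeometry Limits

namespace Groth.Agent.Lib.T2H6.PosH

open Groth.Agent.Lib.T2H5.Twist Groth.Agent.Lib.T2H6.TensorPows Groth.Agent.Lib.T2H6.IntNum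
  Groth.Agent.Lib.T2H6.AddFn Groth.Agent.Lib.T2H6.CompSumGen Groth.Agent.Lib.Helper4.VarDim
  Groth.Agent.Lib.T2H6.PosA Groth.Agent.Lib.T2H6.PosB Groth.Agent.Lib.T2H6.PosC Groth.Agent.Lib.T2H6.PosD
  Groth.Agent.Lib.T2H5.GenIsoA Groth.Agent.Lib.Helper4.NormDelta Groth.Agent.Lib.Helper23.UnitStalk

section integral

variable {X : Scheme.{u}} [IsIntegral X]

/-- on an integral scheme, a nonzero section of an invertible module generates it at every point whose local ring
is a field. -/
theorem mem_genLocus_of_maximalIdeal_eq_zero (P : X.Modules) (hP : PicF.IsInvertible P)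
    (σ : Coh.structureModule X ⟶ P) (hσ : σ ≠ 0) (y : X)
    (hm : ∀ a ∈ IsLocalRing.maximalIdeal (X.presheaf.stalk y), a = 0) : y ∈ CohB1.genLocus P σ := by
  obtain ⟨V, hV, hyV, f, g, hg, hfg, hloc⟩ := exists_local_coef P hP σ y
  by_contra hcon
  have hfy : y ∉ X.basicOpen f := by
    rw [← hloc]
    exact fun h => hcon h.1
  rw [Scheme.mem_basicOpen X f y hyV] at hfy
  have h0 : X.presheaf.germ V y hyV f = 0 := hm _ ((IsLocalRing.mem_maximalIdeal _).2 hfy)
  rw [h0, zero_smul] at hfg
  have hz : stalkLin σ y = 0 := by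
    ext a
    obtain ⟨c, rfl⟩ := (unitStalkEquiv y).surjective a
    have h1 : unitStalkEquiv y c = c • one y := by
      change toUnitStalk y c = c • one y
      unfold toUnitStalk
      rw [LinearMap.toSpanSingleton_apply]
    rw [h1, map_smul, hfg, smul_zero]
    rfl
  exact Groth.Agent.Lib.T2H6.InvMono.stalkLin_ne_zero
    (Groth.Agent.Lib.Helper23.TensorUnit.isInvertible_structureModule X) hP σ hσ y hz

/-- on an integral scheme, a nonzero section of an invertible module generates it at every associated point of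
`O_X`. -/
theorem mem_genLocus_of_isAssPoint (P : X.Modules) (hP : PicF.IsInvertible P) (σ : Coh.structureModule X ⟶ P)
    (hσ : σ ≠ 0) (y : X) (hy : Curv2.IsAssPoint (Coh.structureModule X) y) : y ∈ CohB1.genLocus P σ := by
  rw [isAssPoint_structureModule_iff] at hy
  refine mem_genLocus_of_maximalIdeal_eq_zero P hP σ hσ y ?_
  intro a ha
  obtain ⟨hpr, r, hr⟩ := hy
  have hr0 : r ≠ 0 := by
    rintro rfl
    apply hpr.ne_top
    rw [hr, eq_top_iff]
    intro b _
    refine Ideal.le_radical ?_
    rw [Submodule.mem_colon_singleton, smul_zero]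
    exact Submodule.zero_mem _
  rw [hr] at ha
  obtain ⟨n, hn⟩ := ha
  rw [Submodule.mem_colon_singleton, Submodule.mem_bot] at hn
  rcases smul_eq_zero.1 hn with h | h
  · exact pow_eq_zero_iff (n := n) (by
      rintro rfl
      rw [pow_zero] at h
      exact one_ne_zero h) |>.1 h
  · exact absurd h hr0

/-- on an integral scheme, a nonzero section of an invertible module generates it at the generic point. -/
theorem genericPoint_mem_genLocus (P : X.Modules) (hP : PicF.IsInvertible P) (σ : Coh.structureModule X ⟶ P)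
    (hσ : σ ≠ 0) : genericPoint X ∈ CohB1.genLocus P σ := by
  refine mem_genLocus_of_maximalIdeal_eq_zero P hP σ hσ _ ?_
  intro a ha
  letI : Field (X.presheaf.stalk (genericPoint X)) := inferInstanceAs (Field X.functionField)
  by_contra h0
  exact (IsLocalRing.mem_maximalIdeal _).1 ha (IsUnit.mk0 a h0)

end integral

section symm

variable {X : Scheme.{u}} (k : Type u) [Field k] [X.Over (Spec (CommRingCat.of k))]
  [IsProper (X ↘ Spec (CommRingCat.of k))]

theorem inum_one (A G : X.Modules) :
    inum k 1 (fun _ : Fin 1 => A) G = Curv2.euler k X (CohB1.tensorMod G A) - Curv2.euler k X G := by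
  have h : (fun _ : Fin 1 => A) =
      Fin.snoc (α := fun _ => X.Modules) (fun i : Fin 0 => i.elim0) A := by
    funext i
    have : i = Fin.last 0 := Subsingleton.elim _ _
    rw [this, Fin.snoc_last]
  rw [h, inum_snoc' k 0, inum_zero_eq, inum_zero_eq]

/-- the two-variable family `![A, B]` as a `Fin.snoc`. -/
theorem pair_eq_snoc (A B : X.Modules) :
    (![A, B] : Fin 2 → X.Modules) = Fin.snoc (α := fun _ => X.Modules) (fun _ : Fin 1 => A) B := by
  funext i
  fin_cases i
  · rfl
  · rfl

theorem inum_two (A B F : X.Modules) :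
    inum k 2 ![A, B] F =
      Curv2.euler k X (CohB1.tensorMod (CohB1.tensorMod F B) A) - Curv2.euler k X (CohB1.tensorMod F B) -
        (Curv2.euler k X (CohB1.tensorMod F A) - Curv2.euler k X F) := by
  rw [pair_eq_snoc, inum_snoc' k 1, inum_one, inum_one]

theorem inum_two_symm (A B F : X.Modules) : inum k 2 ![A, B] F = inum k 2 ![B, A] F := by
  rw [inum_two, inum_two]
  have h : Curv2.euler k X (CohB1.tensorMod (CohB1.tensorMod F B) A) =
      Curv2.euler k X (CohB1.tensorMod (CohB1.tensorMod F A) B) :=
    Groth.Agent.Lib.T2H6.FieldBC.euler_eq_of_iso k X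
      (assocIso' F B A ≪≫ (trCongr (braidIso B A)).app F ≪≫ (assocIso' F A B).symm)
  rw [h]
  ring

end symm

section main

variable {X : Scheme.{u}} (k : Type u) [Field k] [X.Over (Spec (CommRingCat.of k))]
  [IsProper (X ↘ Spec (CommRingCat.of k))] [IsIntegral X]

include k in
/-- on an integral proper scheme of dimension `≤ d + 1`, the cokernel of `σ ⊗ G` (`σ` a nonzero section of an
invertible module) has support of dimension `≤ d`. -/
theorem dim_support_cokernel_le (d : ℕ) (hdim : topologicalKrullDim X ≤ ((d + 1 : ℕ) : WithBot ℕ∞))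
    (P : X.Modules) (hP : PicF.IsInvertible P) (σ : Coh.structureModule X ⟶ P) (hσ : σ ≠ 0)
    (G : X.Modules) (hG : Coh.IsCoh G) :
    topologicalKrullDim (CohB1.support (cokernel ((tr G).map σ))) ≤ (d : WithBot ℕ∞) := by
  haveI : IsNoetherian X := Groth.Agent.Lib.T2H6.CurveSatur.isNoetherian_of_proper k
  haveI : G.IsQuasicoherent := hG.1
  have hC := isCoh_cokernel_tr P hP σ G hG
  have hcl : IsClosed (CohB1.support (cokernel ((tr G).map σ))) :=
    Groth.Agent.Lib.T2H5.Devissage.isClosed_support _ hC
  rw [topologicalKrullDim_eq_iSup_trdegNat_of_isLocallyClosed k X _ hcl.isLocallyClosed]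
  refine iSup_le fun t => ?_
  have htσ : (t : X) ∉ CohB1.genLocus P σ := fun h =>
    notMem_support_cokernel_of_mem_genLocus P hP σ G t h t.2
  have hη := genericPoint_mem_genLocus P hP σ hσ
  have hne : genericPoint X ≠ (t : X) := fun h => htσ (h ▸ hη)
  have hsp : genericPoint X ⤳ (t : X) := genericPoint_specializes _
  have h1 := trdegNat_lt_of_specializes k X _ _ hsp hne
  have h2 : trdegNat k X (genericPoint X) ≤ d + 1 := by
    have := (trdegNat_le_topologicalKrullDim k X (genericPoint X)).trans hdim
    exact_mod_cast this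
  have h3 : trdegNat k X (t : X) ≤ d := by omega
  exact_mod_cast h3

include k in
/-- **S11752.** On a proper integral surface, if `N` has positive self-intersection and some positive power of `N` has a
nonzero section, then `(N · H) > 0` for every ample `H`. -/
theorem pos_of_section (hdim : topologicalKrullDim X = 2)
    (N N' : X.Modules) (hN : PicF.IsInvertible N)
    (hNN' : Nonempty (CohB1.tensorMod N N' ≅ Coh.structureModule X))
    (hpos : 0 < inum k 2 ![N', N'] (Coh.structureModule X))
    (n : ℕ) (hn : 0 < n) (σ : Coh.structureModule X ⟶ CohB1.tensorPow N n) (hσ : σ ≠ 0)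
    (H H' : X.Modules) (hH : CohB1.IsAmple H)
    (hHH' : Nonempty (CohB1.tensorMod H H' ≅ Coh.structureModule X)) :
    0 < inum k 2 ![N', H'] (Coh.structureModule X) := by
  haveI : IsNoetherian X := Groth.Agent.Lib.T2H6.CurveSatur.isNoetherian_of_proper k
  obtain ⟨εN⟩ := hNN'
  obtain ⟨εH⟩ := hHH'
  have hN' : PicF.IsInvertible N' :=
    Groth.Agent.Lib.Helper2.TensorInv.isInvertible_of_tensor_iso N' N (braidIso _ _ ≪≫ εN)
  have hH' : PicF.IsInvertible H' :=
    Groth.Agent.Lib.Helper2.TensorInv.isInvertible_of_tensor_iso H' H (braidIso _ _ ≪≫ εH)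
  have cO : Coh.IsCoh (Coh.structureModule X) := Groth.Agent.Lib.T2H5.GenIsoF.isCoh_structureModule
  have hdO : topologicalKrullDim (CohB1.support (Coh.structureModule X)) ≤ ((1 + 1 : ℕ) : WithBot ℕ∞) := by
    rw [Groth.Agent.Lib.T2H6.PosG.dim_support_structureModule, hdim]
    rfl
  have hP : PicF.IsInvertible (CohB1.tensorPow N n) :=
    Groth.Agent.Lib.Helper23.SecTw.isInvertible_tensorPow hN n
  have hQ : PicF.IsInvertible (CohB1.tensorPow N' n) :=
    Groth.Agent.Lib.Helper23.SecTw.isInvertible_tensorPow hN' n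
  obtain ⟨ε1⟩ := Groth.Agent.Lib.Helper23.SecTw.nonempty_tensorPow_tensorMod_iso N N' hN hN' n
  have ePQ : CohB1.tensorMod (CohB1.tensorPow N n) (CohB1.tensorPow N' n) ≅ Coh.structureModule X :=
    ε1 ≪≫ Groth.Agent.Lib.Helper23.AmpleIso.tensorPowIso εN n ≪≫
      Groth.Agent.Lib.Helper23.TensorUnit.tensorPowUnitIso n
  have cQ := Groth.Agent.Lib.T2H6.CurveDeg.isCoh_of_isInvertible _ hQ
  have cOQ : Coh.IsCoh (CohB1.tensorMod (Coh.structureModule X) (CohB1.tensorPow N' n)) :=
    Groth.Agent.Lib.T2H6.TensorDeg.isCoh_tensor _ _ cO cQ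
  have hass : ∀ y : X, Curv2.IsAssPoint (Coh.structureModule X) y → y ∈ CohB1.genLocus (CohB1.tensorPow N n) σ :=
    mem_genLocus_of_isAssPoint _ hP σ hσ
  have hC := isCoh_cokernel_tr (CohB1.tensorPow N n) hP σ _ cOQ
  have hdC := dim_support_cokernel_le k 1 (by rw [hdim]; rfl) (CohB1.tensorPow N n) hP σ hσ _ cOQ
  -- the hyperplane formula, for any invertible `A`
  have key : ∀ A : X.Modules, PicF.IsInvertible A →
      (n : ℤ) * inum k 2 ![A, N'] (Coh.structureModule X) =
        - inum k 1 (fun _ : Fin 1 => A)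
          (cokernel ((tr (CohB1.tensorMod (Coh.structureModule X) (CohB1.tensorPow N' n))).map σ)) := by
    intro A hA
    have h1 := inum_snoc_eq_neg_inum_cokernel k 1 (fun _ : Fin 1 => A) (fun _ => hA)
      (CohB1.tensorPow N n) (CohB1.tensorPow N' n) hP hQ ePQ σ (Coh.structureModule X) cO hass
    have h2 := inum_snoc_tensorPow k 1 (fun _ : Fin 1 => A) (fun _ => hA) N' hN'
      (Coh.structureModule X) cO hdO n
    rw [pair_eq_snoc, ← h2, h1]
  -- the support of the cokernel has dimension exactly one
  have hdC1 : topologicalKrullDim (CohB1.support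
      (cokernel ((tr (CohB1.tensorMod (Coh.structureModule X) (CohB1.tensorPow N' n))).map σ))) =
      ((1 : ℕ) : WithBot ℕ∞) := by
    by_contra hne
    have hlt := lt_of_le_of_ne hdC hne
    have h0 := inum_eq_zero k 1 (fun _ : Fin 1 => N') (fun _ => hN') _ hC hlt
    have h1 := key N' hN'
    rw [h0, neg_zero] at h1
    have hn' : (0 : ℤ) < n := by exact_mod_cast hn
    have := mul_pos hn' hpos
    omega
  have hp := pos k 1 (fun _ : Fin 1 => H) (fun _ : Fin 1 => H') (fun _ => hH) (fun _ => ⟨εH⟩) _ hC hdC1
  have h1 := key H' hH'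
  rw [inum_two_symm]
  have hn' : (0 : ℤ) < n := by exact_mod_cast hn
  rw [pow_one, neg_one_mul, ← h1] at hp
  exact (mul_pos_iff_of_pos_left hn').1 hp

end main

end Groth.Agent.Lib.T2H6.PosH
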