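import Mathlib
import Groth.Agent.Lib.T2H6AmpleComp
import Groth.Agent.Lib.T2H6CurveSerre
import Groth.Agent.Lib.T2H6VAmpleB
import Groth.Agent.Lib.Helper23PB
set_option backward.isDefEq.respectTransparency.types false

/-!
# Sections of invertible modules of nonpositive degree on reduced connected proper curves (helper6)

If `L` has degree `≤ 0` on every irreducible component of a reduced connected proper scheme whose components have
dimension one, then `H⁰(L) = 0` or `L ≅ O`: the generating locus of a section is a union of components, hence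
open and closed.
-/

set_option autoImplicit false
set_option linter.style.haveILetI false
set_option linter.unusedSectionVars false
universe u

open AlgebraicGeometry CategoryTheory Limits TopologicalSpace Opposite

namespace Groth.Agent.Lib.T2H6.DegNonpos

open Groth.Agent.Lib.Helper23.SecTw Groth.Agent.Lib.Helper6 Groth.Agent.Lib.Helper23.GenLocus
  Groth.Agent.Lib.Helper23.Extend

section General

variable {X : Scheme.{u}}

/-- a section of an invertible module on a reduced scheme which generates nowhere vanishes. -/
theorem eq_zero_of_genLocus_eq_bot [IsReduced X] (L : X.Modules) (hL : PicF.IsInvertible L)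
    (s : Coh.structureModule X ⟶ L) (h : CohB1.genLocus L s = ⊥) : s = 0 := by
  have h0 : sv s ⊤ = 0 := by
    refine TopCat.Presheaf.section_ext ⟨L.presheaf, L.isSheaf⟩ ⊤ _ _ (fun z hz => ?_)
    obtain ⟨W, e, hzW, he⟩ := exists_gen L hL z
    have hloc := genLocus_inf_eq_coef s he
    rw [h, bot_inf_eq] at hloc
    have hc : coef he le_rfl (sv s W) = 0 := eq_zero_of_basicOpen_eq_bot _ hloc.symm
    have hsv : sv s W = 0 := by rw [sv_eq_coef_smul s he, hc, zero_smul]
    have h1 := TopCat.Presheaf.germ_res_apply L.presheaf (homOfLE (le_top : W ≤ ⊤)) z hzW (sv s ⊤)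
    have h2 : L.presheaf.map (homOfLE (le_top : W ≤ ⊤)).op (sv s ⊤) = sv s W := res_sv s le_top
    rw [h2, hsv, map_zero] at h1
    change L.presheaf.germ ⊤ z hz (sv s ⊤) = L.presheaf.germ ⊤ z hz 0
    rw [map_zero]
    exact h1.symm
  rw [← Groth.Agent.Lib.T2H6.VAmpleB.secHom_sv s, h0, ← sv_zero (L := L) ⊤,
    Groth.Agent.Lib.T2H6.VAmpleB.secHom_sv]

/-- a section which generates everywhere is an isomorphism. -/
theorem isIso_of_genLocus_eq_top (L : X.Modules) (s : Coh.structureModule X ⟶ L)
    (h : CohB1.genLocus L s = ⊤) : IsIso s := by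
  have hx : ∀ x : X, ∃ V : X.Opens, x ∈ V ∧ IsoOn s V := fun x =>
    (mem_genLocus_iff L s x).1 (h ▸ trivial)
  choose V hxV hV using hx
  refine Groth.Agent.Lib.Helper23.ModLocal.isIso_of_isIso_restrict s
    (fun y : X => (↑(V y) : Scheme.{u})) (fun y => (V y).ι) (fun y => ⟨y, ⟨y, hxV y⟩, rfl⟩) ?_
  intro y
  change IsIso ((Scheme.Modules.restrictFunctor (V y).ι).map s)
  rw [isIso_restrict_iff, Scheme.Opens.opensRange_ι]
  exact hV y

end General

section Comp

variable {X : Scheme.{u}} (k : Type u) [Field k] [X.Over (Spec (CommRingCat.of k))]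
  [IsProper (X ↘ Spec (CommRingCat.of k))]

/-- on a one-dimensional irreducible component on which `L` has degree `≤ 0`, the generating locus of a section
either contains the component or is disjoint from it. -/
theorem component_dichotomy [IsNoetherian X] (L : X.Modules) (hL : PicF.IsInvertible L)
    (s : Coh.structureModule X ⟶ L) (C : Set X) (hC : C ∈ irreducibleComponents (X : Type u))
    (hCd : topologicalKrullDim C = 1)
    (hdeg : @Curv2.deg k _ (X.irreducibleComponentIdeal C hC).radical.subscheme
        ⟨(X.irreducibleComponentIdeal C hC).radical.subschemeι ≫ (X ↘ (Spec (CommRingCat.of k)))⟩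
        ((Scheme.Modules.pullback (X.irreducibleComponentIdeal C hC).radical.subschemeι).obj L) 1 ≤ 0) :
    C ⊆ (CohB1.genLocus L s : Set X) ∨ Disjoint C (CohB1.genLocus L s : Set X) := by
  letI : (X.irreducibleComponentIdeal C hC).radical.subscheme.Over (Spec (CommRingCat.of k)) :=
    ⟨(X.irreducibleComponentIdeal C hC).radical.subschemeι ≫ (X ↘ (Spec (CommRingCat.of k)))⟩
  haveI : IsProper ((X.irreducibleComponentIdeal C hC).radical.subscheme ↘ Spec (CommRingCat.of k)) :=
    inferInstanceAs (IsProper ((X.irreducibleComponentIdeal C hC).radical.subschemeι ≫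
      (X ↘ (Spec (CommRingCat.of k)))))
  haveI : IsIntegral (X.irreducibleComponentIdeal C hC).radical.subscheme :=
    Groth.Agent.Lib.T2H6.AmpleComp.isIntegral_radical_subscheme _ hC.1
  have hdimC : topologicalKrullDim (X.irreducibleComponentIdeal C hC).radical.subscheme = 1 := by
    rw [Groth.Agent.Lib.T2H6.AmpleComp.topologicalKrullDim_subscheme]
    exact hCd
  have hL' := Groth.Agent.Lib.Helper23.PB.isInvertible_pullback
    (X.irreducibleComponentIdeal C hC).radical.subschemeι L hL
  have hgl := Groth.Agent.Lib.Helper23.PB.genLocus_pullback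
    (X.irreducibleComponentIdeal C hC).radical.subschemeι L hL s
    (Groth.Agent.Lib.Helper23.PB.pullbackUnitIso (X.irreducibleComponentIdeal C hC).radical.subschemeι).symm
  have hrange : Set.range (X.irreducibleComponentIdeal C hC).radical.subschemeι = C := by
    rw [Scheme.IdealSheafData.range_subschemeι]
    rfl
  by_cases hs : (Groth.Agent.Lib.Helper23.PB.pullbackUnitIso
      (X.irreducibleComponentIdeal C hC).radical.subschemeι).symm.hom ≫
      (Scheme.Modules.pullback (X.irreducibleComponentIdeal C hC).radical.subschemeι).map s = 0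
  · right
    rw [Set.disjoint_left]
    intro x hxC hxG
    rw [← hrange] at hxC
    obtain ⟨y, rfl⟩ := hxC
    have hy : y ∈ (X.irreducibleComponentIdeal C hC).radical.subschemeι ⁻¹ᵁ CohB1.genLocus L s := hxG
    rw [← hgl, hs] at hy
    exact Groth.Agent.Lib.T2H6.CurveAmple.not_mem_genLocus_zero _ hL' y hy
  · left
    intro x hxC
    rw [← hrange] at hxC
    obtain ⟨y, rfl⟩ := hxC
    by_contra hxG
    have hy : y ∉ (X.irreducibleComponentIdeal C hC).radical.subschemeι ⁻¹ᵁ CohB1.genLocus L s := hxG
    rw [← hgl] at hy
    have := Groth.Agent.Lib.T2H6.CurveDeg.deg_pos k hdimC _ hL' _ hs y hy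
    exact absurd this (not_lt.2 hdeg)

/-- **Sections of a module of nonpositive degree on the components** of a reduced connected proper curve. -/
theorem subsingleton_or_trivial [IsReduced X] [ConnectedSpace X] [IsNoetherian X]
    (hdim : ∀ (C : Set X), C ∈ irreducibleComponents (X : Type u) → topologicalKrullDim C = 1)
    (L : X.Modules) (hL : PicF.IsInvertible L)
    (hdeg : ∀ (C : Set X) (hC : C ∈ irreducibleComponents (X : Type u)),
      @Curv2.deg k _ (X.irreducibleComponentIdeal C hC).radical.subscheme
        ⟨(X.irreducibleComponentIdeal C hC).radical.subschemeι ≫ (X ↘ (Spec (CommRingCat.of k)))⟩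
        ((Scheme.Modules.pullback (X.irreducibleComponentIdeal C hC).radical.subschemeι).obj L) 1 ≤ 0) :
    Subsingleton (Coh.HH X L 0) ∨ Nonempty (L ≅ Coh.structureModule X) := by
  by_cases hsub : Subsingleton (Coh.HH X L 0)
  · exact Or.inl hsub
  right
  rw [not_subsingleton_iff_nontrivial] at hsub
  obtain ⟨a, ha⟩ := exists_ne (0 : Coh.HH X L 0)
  obtain ⟨s, rfl⟩ := (Groth.Agent.Lib.T2H6.CurveSerre.bijective_evLin k L).2 a
  have hs : s ≠ 0 := by
    rintro rfl
    exact ha (map_zero _)
  have hdich := fun C hC => component_dichotomy k L hL s C hC (hdim C hC) (hdeg C hC)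
  -- the generating locus is the union of the components it contains
  have hG : (CohB1.genLocus L s : Set X) =
      ⋃₀ {C | C ∈ irreducibleComponents (X : Type u) ∧ C ⊆ (CohB1.genLocus L s : Set X)} := by
    apply Set.Subset.antisymm
    · intro x hx
      have hxu : x ∈ ⋃₀ irreducibleComponents (X : Type u) := by
        rw [sUnion_irreducibleComponents]; trivial
      obtain ⟨C, hC, hxC⟩ := hxu
      rcases hdich C hC with h | h
      · exact ⟨C, ⟨hC, h⟩, hxC⟩
      · exact absurd hx (Set.disjoint_left.1 h hxC)
    · rintro x ⟨C, ⟨_, hCG⟩, hxC⟩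
      exact hCG hxC
  have hclosed : IsClosed (CohB1.genLocus L s : Set X) := by
    rw [hG, Set.sUnion_eq_biUnion]
    refine Set.Finite.isClosed_biUnion
      (TopologicalSpace.NoetherianSpace.finite_irreducibleComponents.subset (fun C hC => hC.1))
      (fun C hC => isClosed_of_mem_irreducibleComponents C hC.1)
  have hclopen : IsClopen (CohB1.genLocus L s : Set X) := ⟨hclosed, (CohB1.genLocus L s).2⟩
  rcases isClopen_iff.1 hclopen with h | h
  · exact absurd (eq_zero_of_genLocus_eq_bot L hL s (TopologicalSpace.Opens.ext h)) hs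
  · haveI := isIso_of_genLocus_eq_top L s (TopologicalSpace.Opens.ext h)
    exact ⟨(asIso s).symm⟩

end Comp

end Groth.Agent.Lib.T2H6.DegNonpos
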