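import Mathlib
import Groth.Prelude.Def_KLin
import Groth.Agent.Lib.T2H6PosH
import Groth.Agent.Lib.T2H9H0Unit
import Groth.Agent.Lib.T2H6DegNonpos
import Groth.Agent.Lib.T2H6FieldBC2
import Groth.Agent.Lib.T2H6PosE
import Groth.Agent.Lib.T2H6PosG
set_option backward.isDefEq.respectTransparency.types false

/-!
# Positivity of `(L · H)` for `h⁰(L) > 1` on an integral surface over an algebraically closed field (helper6)

Namespace `Groth.Agent.Lib.T2H6.PosI`.

* `toGlobal_surjective` : `k → Γ(X, O_X)` is surjective for `X` integral, universally closed over `k = k̄`.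
* `finrank_HH_zero_eq_one_of_genLocus_eq_top` : a module with a nowhere vanishing section has `h⁰ = 1`.
* `dim_support_cokernel_eq` : on an integral proper scheme of dimension `d + 1`, the zero locus of a nonzero section
  with a zero has dimension exactly `d`.
* `pos_of_finrank` : S19352.
-/

set_option autoImplicit false
set_option linter.style.haveILetI false
set_option linter.unusedSectionVars false
universe u

open CategoryTheory TopCat TopologicalSpace Opposite AlgebraicGeometry Limits

namespace Groth.Agent.Lib.T2H6.PosI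

open Groth.Agent.Lib.T2H5.Twist Groth.Agent.Lib.T2H6.TensorPows Groth.Agent.Lib.T2H6.IntNum
  Groth.Agent.Lib.T2H6.AddFn Groth.Agent.Lib.T2H6.CompSumGen Groth.Agent.Lib.Helper4.VarDim
  Groth.Agent.Lib.T2H6.PosA Groth.Agent.Lib.T2H6.PosB Groth.Agent.Lib.T2H6.PosC Groth.Agent.Lib.T2H6.PosD
  Groth.Agent.Lib.T2H6.PosH
  Groth.Agent.Lib.T2H5.GenIsoA Groth.Agent.Lib.Helper4.NormDelta Groth.Agent.Lib.Helper23.UnitStalk

section global

variable (k : Type u) [Field k] [IsAlgClosed k] (X : Scheme.{u}) [X.Over (Spec (CommRingCat.of k))]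
  [IsIntegral X] [UniversallyClosed (X ↘ Spec (CommRingCat.of k))]

/-- global functions on an integral scheme, universally closed over an algebraically closed field, are constants. -/
theorem toGlobal_surjective : Function.Surjective (Coh.toGlobal (X ↘ Spec (CommRingCat.of k))) := by
  let F : k →+* Γ(X, ⊤) :=
    ((X ↘ Spec (CommRingCat.of k)).appTop).hom.comp (Scheme.ΓSpecIso (CommRingCat.of k)).inv.hom
  have hint : F.IsIntegral :=
    RingHom.IsIntegral.trans _ _
      (RingHom.isIntegral_of_surjective _
        (ConcreteCategory.bijective_of_isIso (Scheme.ΓSpecIso (CommRingCat.of k)).inv).2)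
      (isIntegral_appTop_of_universallyClosed (X ↘ Spec (CommRingCat.of k)))
  algebraize [F]
  haveI : Algebra.IsIntegral k Γ(X, ⊤) := ⟨hint⟩
  have hsurj : Function.Surjective F :=
    (IsAlgClosed.algebraMap_bijective_of_isIntegral (k := k) (K := Γ(X, ⊤))).2
  exact hsurj

theorem finrank_HH_zero_structureModule :
    Module.finrank k (Coh.HH X (Coh.structureModule X) 0) = 1 := by
  haveI : Nontrivial (Coh.Γtop X) := inferInstanceAs (Nontrivial Γ(X, ⊤))
  exact Groth.Agent.Lib.T2H9.H0Unit.finrank_hh0_eq_one k X (toGlobal_surjective k X)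

/-- a module with a nowhere vanishing section has a one-dimensional space of sections. -/
theorem finrank_HH_zero_eq_one_of_genLocus_eq_top (L : X.Modules) (σ : Coh.structureModule X ⟶ L)
    (h : CohB1.genLocus L σ = ⊤) : Module.finrank k (Coh.HH X L 0) = 1 := by
  haveI := Groth.Agent.Lib.T2H6.DegNonpos.isIso_of_genLocus_eq_top L σ h
  rw [← Groth.Agent.Lib.T2H6.FieldBC.finrank_HH_eq_of_iso k X (asIso σ) 0]
  exact finrank_HH_zero_structureModule k X

end global

section main

variable {X : Scheme.{u}} (k : Type u) [Field k] [X.Over (Spec (CommRingCat.of k))]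
  [IsProper (X ↘ Spec (CommRingCat.of k))] [IsIntegral X]

include k in
/-- the generic point of an integral proper scheme of dimension `d` has transcendence degree `d`. -/
theorem trdegNat_genericPoint (d : ℕ) (hdim : topologicalKrullDim X = ((d : ℕ) : WithBot ℕ∞)) :
    trdegNat k X (genericPoint X) = d := by
  have h1 : topologicalKrullDim (Set.univ : Set X) = ((d : ℕ) : WithBot ℕ∞) := by
    rw [topologicalKrullDim_univ_eq]
    exact hdim
  obtain ⟨t, -, ht⟩ := exists_trdegNat_eq k (Set.univ : Set X) isClosed_univ d h1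
  have h2 := trdegNat_le_of_specializes k X _ _ (genericPoint_specializes t)
  have h3 : trdegNat k X (genericPoint X) ≤ d := by
    have := trdegNat_le_topologicalKrullDim k X (genericPoint X)
    rw [hdim] at this
    exact_mod_cast this
  omega

include k in
/-- on an integral proper scheme of dimension `d + 1`, the cokernel of a nonzero section `σ` of an invertible module,
vanishing somewhere, has support of dimension exactly `d`. -/
theorem dim_support_cokernel_eq (d : ℕ) (hdim : topologicalKrullDim X = ((d + 1 : ℕ) : WithBot ℕ∞))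
    (P : X.Modules) (hP : PicF.IsInvertible P) (σ : Coh.structureModule X ⟶ P) (hσ : σ ≠ 0)
    (x : X) (hx : x ∉ CohB1.genLocus P σ) :
    topologicalKrullDim (CohB1.support (cokernel ((tr (Coh.structureModule X)).map σ))) = (d : WithBot ℕ∞) := by
  haveI : IsNoetherian X := Groth.Agent.Lib.T2H6.CurveSatur.isNoetherian_of_proper k
  have cO : Coh.IsCoh (Coh.structureModule X) := Groth.Agent.Lib.T2H5.GenIsoF.isCoh_structureModule
  haveI : (Coh.structureModule X).IsQuasicoherent := cO.1
  haveI : SheafOfModules.IsFiniteType (R := X.ringCatSheaf) (Coh.structureModule X) := cO.2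
  apply le_antisymm (dim_support_cokernel_le k d hdim.le P hP σ hσ _ cO)
  have hC := isCoh_cokernel_tr P hP σ _ cO
  have hcl : IsClosed (CohB1.support (cokernel ((tr (Coh.structureModule X)).map σ))) :=
    Groth.Agent.Lib.T2H5.Devissage.isClosed_support _ hC
  rw [topologicalKrullDim_eq_iSup_trdegNat_of_isLocallyClosed k X _ hcl.isLocallyClosed]
  have hη := genericPoint_mem_genLocus P hP σ hσ
  have hsp : genericPoint X ⤳ x := genericPoint_specializes x
  obtain ⟨V, hV, hxV, f, g, hg, hfg, hloc⟩ := exists_local_coef P hP σ x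
  have hηV : genericPoint X ∈ V := hsp.mem_open V.2 hxV
  have hfx : x ∉ X.basicOpen f := by
    rw [← hloc]
    exact fun h => hx h.1
  have hfη : genericPoint X ∈ X.basicOpen f := by
    rw [← hloc]
    exact ⟨hη, hηV⟩
  obtain ⟨y', hy'V, hηy', -, hy'f, htr⟩ :=
    exists_specialization_notMem_basicOpen k X hV (genericPoint X) x hηV hxV hsp f hfx hfη
  have hy'σ : y' ∉ CohB1.genLocus P σ := by
    intro h
    apply hy'f
    rw [← hloc]
    exact ⟨h, hy'V⟩
  have hmono : Mono ((tr (Coh.structureModule X)).map σ) :=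
    mono_tr_map_section P hP σ _ (mem_genLocus_of_isAssPoint P hP σ hσ)
  have hy'C : y' ∈ CohB1.support (cokernel ((tr (Coh.structureModule X)).map σ)) :=
    mem_support_cokernel P hP σ _ hmono y' hy'σ (by
      rw [Groth.Agent.Lib.T2H6.PosG.support_structureModule]; trivial)
  have hy'd : trdegNat k X y' = d := by
    rw [trdegNat_genericPoint k (d + 1) hdim] at htr
    omega
  refine le_trans ?_ (le_iSup (fun t : CohB1.support (cokernel ((tr (Coh.structureModule X)).map σ)) =>
    ((trdegNat k X t : ℕ) : WithBot ℕ∞)) ⟨y', hy'C⟩)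
  rw [hy'd]

include k in
/-- **S19352.** On an integral proper surface over an algebraically closed field, `(L · H) > 0` for `H` ample and
`h⁰(L) > 1`. -/
theorem pos_of_finrank [IsAlgClosed k] (hdim : topologicalKrullDim X = 2) (L : X.Modules) (hL : PicF.IsInvertible L)
    (hsec : 1 < Module.finrank k (Coh.HH X L 0)) (H : X.Modules) (hH : CohB1.IsAmple H) :
    0 < inum k 2 ![L, H] (Coh.structureModule X) := by
  haveI : IsNoetherian X := Groth.Agent.Lib.T2H6.CurveSatur.isNoetherian_of_proper k
  have cO : Coh.IsCoh (Coh.structureModule X) := Groth.Agent.Lib.T2H5.GenIsoF.isCoh_structureModule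
  have hnt : Nontrivial (Coh.HH X L 0) := by
    by_contra h
    rw [not_nontrivial_iff_subsingleton] at h
    have := Module.finrank_zero_of_subsingleton (R := k) (M := Coh.HH X L 0)
    omega
  obtain ⟨a, ha⟩ := exists_ne (0 : Coh.HH X L 0)
  obtain ⟨σ, hσa⟩ := (Groth.Agent.Lib.T2H6.CurveSerre.bijective_evLin k L).2 a
  have hσ : σ ≠ 0 := by
    rintro rfl
    rw [map_zero] at hσa
    exact ha hσa.symm
  have hne : CohB1.genLocus L σ ≠ ⊤ := fun h => by
    have := finrank_HH_zero_eq_one_of_genLocus_eq_top k X L σ h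
    omega
  obtain ⟨x, hx⟩ : ∃ x : X, x ∉ CohB1.genLocus L σ := by
    by_contra hcon
    push Not at hcon
    exact hne (eq_top_iff.2 fun x _ => hcon x)
  have hdC := dim_support_cokernel_eq k 1 (by rw [hdim]; rfl) L hL σ hσ x hx
  have hC := isCoh_cokernel_tr L hL σ _ cO
  have hp := Groth.Agent.Lib.T2H6.PosE.pos_L k 1 (fun _ : Fin 1 => H) (fun _ => hH) _ hC hdC
  have h1 := Groth.Agent.Lib.T2H6.PosE.inum_snoc_eq_inum_cokernel k 1 (fun _ : Fin 1 => H) (fun _ => hH.1)
    L hL σ (Coh.structureModule X) cO (mem_genLocus_of_isAssPoint L hL σ hσ)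
  rw [inum_two_symm, pair_eq_snoc, h1]
  exact hp

end main

end Groth.Agent.Lib.T2H6.PosI
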