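import Mathlib
import Groth.Agent.Lib.T2H6CurveAmple
import Groth.Agent.Lib.T2H5ProjFLF5

/-!
# Linear series on an integral proper curve: `h⁰(L) ≤ deg L + 1`, with equality only in genus zero (helper6)
-/

set_option autoImplicit false
universe u

open AlgebraicGeometry CategoryTheory Limits

namespace Groth.Agent.Lib.T2H6.CurveLinSer

open Groth.Agent.Lib.T2H6.CurveRR Groth.Agent.Lib.T2H5.Twist Groth.Agent.Lib.T2H6.CurveSS2
  Groth.Agent.Lib.T2H6.TensorDeg Groth.Agent.Lib.T2H5.GenIsoB Groth.Agent.Lib.T2H6.ParShA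
  Groth.Agent.Lib.T2H6.HHLin Groth.Agent.Lib.T2H6.CurveDeg Groth.Agent.Lib.T2H6.CurveVanish
  Groth.Agent.Lib.T2H6.CurveSerre

variable {X : Scheme.{u}} (k : Type u) [Field k] [X.Over (Spec (CommRingCat.of k))] [IsIntegral X]
  [IsProper (X ↘ Spec (CommRingCat.of k))]

section Count

/-- `h⁰(S₂) = h⁰(S₁) + dim im(H⁰(S₂) → H⁰(S₃))`. -/
theorem finrank_H0_eq (S : ShortComplex X.Modules) (hS : S.ShortExact) (h2 : Coh.IsCoh S.X₂) :
    Module.finrank k (Coh.HH X S.X₂ 0) =
      Module.finrank k (Coh.HH X S.X₁ 0) + Module.finrank k (LinearMap.range (Canon.HHlin k S.g 0)) := by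
  haveI : Module.Finite k (Coh.HH X S.X₂ 0) := Groth.Agent.Lib.T2H6.EulerField.finite_HH k X _ h2 0
  have h := LinearMap.finrank_range_add_finrank_ker (Canon.HHlin k S.g 0)
  rw [exact₂ k S hS 0] at h
  haveI := hS.mono_f
  rw [LinearMap.finrank_range_of_inj (injective_HHlin_zero_of_mono k S.f)] at h
  omega

/-- for a short exact sequence of coherent modules on a curve with torsion quotient:
`h¹(S₁) + dim im(H⁰(S₂) → H⁰(S₃)) = h¹(S₂) + h⁰(S₃)`. -/
theorem finrank_H1_add (hdim : topologicalKrullDim X = 1) (S : ShortComplex X.Modules) (hS : S.ShortExact)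
    (h1 : Coh.IsCoh S.X₁) (h2 : Coh.IsCoh S.X₂) (h3 : Coh.IsCoh S.X₃) (ht : IsTors S.X₃) :
    Module.finrank k (Coh.HH X S.X₁ 1) + Module.finrank k (LinearMap.range (Canon.HHlin k S.g 0)) =
      Module.finrank k (Coh.HH X S.X₂ 1) + Module.finrank k (Coh.HH X S.X₃ 0) := by
  haveI := isLocallyNoetherian (X := X) k
  have ha := Groth.Agent.Lib.T2H6.EulerField.euler_additive k X S hS h1 h2 h3
  haveI := h1.1
  haveI := h2.1
  rw [euler_eq_sub k hdim S.X₁, euler_eq_sub k hdim S.X₂, euler_eq_h0 k hdim S.X₃ h3 ht] at ha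
  have hb := finrank_H0_eq k S hS h2
  have : ((Module.finrank k (Coh.HH X S.X₁ 1) + Module.finrank k (LinearMap.range (Canon.HHlin k S.g 0)) : ℕ) : ℤ) =
      ((Module.finrank k (Coh.HH X S.X₂ 1) + Module.finrank k (Coh.HH X S.X₃ 0) : ℕ) : ℤ) := by
    push_cast
    have hb' : (Module.finrank k (Coh.HH X S.X₂ 0) : ℤ) =
      (Module.finrank k (Coh.HH X S.X₁ 0) : ℤ) + (Module.finrank k (LinearMap.range (Canon.HHlin k S.g 0)) : ℤ) := by
      exact_mod_cast hb
    linarith
  exact_mod_cast this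

end Count

section Bound

/-- `h⁰(L) ≤ deg L + 1`, and in case of equality `H⁰(L) → H⁰(L / s O)` is surjective. -/
theorem h0_le (hdim : topologicalKrullDim X = 1)
    (h0 : Module.finrank k (Coh.HH X (Coh.structureModule X) 0) = 1)
    (L : X.Modules) (hL : PicF.IsInvertible L) (s : Coh.structureModule X ⟶ L) (hs : s ≠ 0) :
    (Module.finrank k (Coh.HH X L 0) : ℤ) ≤ Curv2.deg k X L 1 + 1 ∧
      ((Module.finrank k (Coh.HH X L 0) : ℤ) = Curv2.deg k X L 1 + 1 →
        Function.Surjective (Canon.HHlin k (cokernel.π s) 0)) := by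
  haveI := isLocallyNoetherian (X := X) k
  have hO := Groth.Agent.Lib.Helper23.TensorUnit.isInvertible_structureModule X
  have hLc := isCoh_of_isInvertible L hL
  have hQc := isCoh_cokernel hO hL s
  have hS := sc_shortExact hO hL s hs
  have h1 := finrank_H0_eq k (sc s) hS hLc
  have h2 := euler_eq k hdim hO hL s hs
  change Module.finrank k (Coh.HH X L 0) = Module.finrank k (Coh.HH X (Coh.structureModule X) 0) +
    Module.finrank k (LinearMap.range (Canon.HHlin k (cokernel.π s) 0)) at h1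
  rw [h0] at h1
  haveI : Module.Finite k (Coh.HH X (cokernel s) 0) :=
    Groth.Agent.Lib.T2H6.EulerField.finite_HH k X _ hQc 0
  have h3 : Module.finrank k (LinearMap.range (Canon.HHlin k (cokernel.π s) 0)) ≤
      Module.finrank k (Coh.HH X (cokernel s) 0) := Submodule.finrank_le _
  have hdeg : Curv2.deg k X L 1 = (Module.finrank k (Coh.HH X (cokernel s) 0) : ℤ) := by
    unfold Curv2.deg
    rw [h2]
    push_cast
    ring
  refine ⟨?_, fun heq => ?_⟩
  · rw [hdeg, h1]
    push_cast
    have : (Module.finrank k (LinearMap.range (Canon.HHlin k (cokernel.π s) 0)) : ℤ) ≤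
      (Module.finrank k (Coh.HH X (cokernel s) 0) : ℤ) := by exact_mod_cast h3
    linarith
  · rw [hdeg, h1] at heq
    have h4 : Module.finrank k (LinearMap.range (Canon.HHlin k (cokernel.π s) 0)) =
        Module.finrank k (Coh.HH X (cokernel s) 0) := by
      have : ((1 + Module.finrank k (LinearMap.range (Canon.HHlin k (cokernel.π s) 0)) : ℕ) : ℤ) =
        (Module.finrank k (Coh.HH X (cokernel s) 0) : ℤ) + 1 := heq
      push_cast at this
      have h5 : (Module.finrank k (LinearMap.range (Canon.HHlin k (cokernel.π s) 0)) : ℤ) =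
        (Module.finrank k (Coh.HH X (cokernel s) 0) : ℤ) := by linarith
      exact_mod_cast h5
    exact LinearMap.range_eq_top.1 (Submodule.eq_top_of_finrank_eq h4)

end Bound

end Groth.Agent.Lib.T2H6.CurveLinSer
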