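import Mathlib
import Groth.Agent.Lib.T2H6AmpleCrit
import Groth.Agent.Lib.T2H6AddFnB
import Groth.Agent.Lib.T2H6ParShC
import Groth.Agent.Lib.Helper2QCoh
import Groth.Agent.Lib.Helper2Div
import Groth.Agent.Lib.Helper20CDiv2
import Groth.Prelude.Def_BlowUp2

/-!
# Effective Cartier divisors on proper schemes of dimension `≤ 1` (helper6)

The support of an effective Cartier divisor consists of finitely many closed points; the divisor is finite over
the base field, and `χ(E ⊗ O(D)) = χ(E) + n · h⁰(O_D)` for `E` locally free of rank `n`.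
-/

set_option autoImplicit false
universe u

open AlgebraicGeometry CategoryTheory Limits TopologicalSpace Opposite

namespace Groth.Agent.Lib.T2H6.EffCartier

open Groth.Agent.Lib.Helper2 Groth.Agent.Lib.Helper2.QCoh
  Groth.Agent.Lib.T2H6.AmpleCrit Groth.Agent.Lib.T2H6.TensorDeg Groth.Agent.Lib.T2H5.Twist
  Groth.Agent.Lib.T2H6.AddFnB Groth.Agent.Lib.T2H6.AddFn

variable {X : Scheme.{u}}

/-- a point of an effective Cartier divisor is a proper specialization of another point. -/
theorem exists_specializes_of_mem_support (D : X.IdealSheafData) (hD : BlowUp.IsEffCartierIdeal D)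
    (x : X) (hx : x ∈ D.support) : ∃ y : X, y ⤳ x ∧ y ≠ x := by
  obtain ⟨U, hxU, f, hf, hDf⟩ := hD x
  have hfx : f ∈ (U.2.primeIdealOf ⟨x, hxU⟩).asIdeal := by
    rw [Scheme.IdealSheafData.mem_support_iff_of_mem hxU, hDf, Scheme.zeroLocus_span,
      Scheme.zeroLocus_singleton, Set.mem_compl_iff, SetLike.mem_coe,
      mem_basicOpen_iff_notMem_primeIdealOf U.2 x hxU, not_not] at hx
    exact hx
  obtain ⟨q, hq, hqp⟩ := Ideal.exists_minimalPrimes_le
    (bot_le : (⊥ : Ideal Γ(X, U.1)) ≤ (U.2.primeIdealOf ⟨x, hxU⟩).asIdeal)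
  have hfq : f ∉ q := fun h =>
    Set.disjoint_left.1 (Ideal.disjoint_nonZeroDivisors_of_mem_minimalPrimes hq) h hf
  let Q : PrimeSpectrum Γ(X, U.1) := ⟨q, hq.1.1⟩
  refine ⟨U.2.fromSpec Q, fromSpec_specializes U.2 Q x hxU hqp, ?_⟩
  intro h
  apply hfq
  have h1 := primeIdealOf_fromSpec U.2 Q
  have h2 : U.2.primeIdealOf ⟨U.2.fromSpec Q, fromSpec_mem U.2 Q⟩ = U.2.primeIdealOf ⟨x, hxU⟩ := by
    congr 1
    exact Subtype.ext h
  rw [h1] at h2
  have : q = (U.2.primeIdealOf ⟨x, hxU⟩).asIdeal := congrArg PrimeSpectrum.asIdeal h2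
  rw [this]
  exact hfx

/-- in dimension `≤ 1`, a proper specialization is a closed point. -/
theorem isClosed_singleton_of_specializes [IsLocallyNoetherian X] (hdim : topologicalKrullDim X ≤ 1)
    (x y : X) (hyx : y ⤳ x) (hne : y ≠ x) : IsClosed ({x} : Set X) := by
  rw [← closure_eq_iff_isClosed]
  apply Set.Subset.antisymm _ subset_closure
  intro z hz
  have hspec : x ⤳ z := specializes_iff_mem_closure.2 hz
  obtain ⟨_, ⟨W, hW0, rfl⟩, hzW, -⟩ :=
    X.isBasis_affineOpens.exists_subset_of_mem_open (Set.mem_univ z) isOpen_univ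
  have hW : IsAffineOpen W := hW0
  have hxW : x ∈ W := hspec.mem_open W.isOpen hzW
  have hyW : y ∈ W := hyx.mem_open W.isOpen hxW
  haveI : Ring.KrullDimLE 1 Γ(X, W) :=
    Groth.Agent.Lib.Helper20.CDivLib.krullDimLE_one_of_isAffineOpen hdim hW
  have hle := primeIdealOf_le_of_specializes hW x y hxW hyW hyx
  have hmax : (hW.primeIdealOf ⟨x, hxW⟩).asIdeal.IsMaximal := by
    rcases Ring.krullDimLE_one_iff.1 ‹_› _ (hW.primeIdealOf ⟨x, hxW⟩).isPrime with hmin | hmax
    · exfalso
      have h1 : (hW.primeIdealOf ⟨x, hxW⟩).asIdeal ≤ (hW.primeIdealOf ⟨y, hyW⟩).asIdeal :=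
        hmin.2 ⟨(hW.primeIdealOf ⟨y, hyW⟩).isPrime, bot_le⟩ hle
      have h2 : hW.primeIdealOf ⟨y, hyW⟩ = hW.primeIdealOf ⟨x, hxW⟩ :=
        PrimeSpectrum.ext (le_antisymm hle h1)
      have h3 := congrArg hW.fromSpec h2
      rw [hW.fromSpec_primeIdealOf ⟨x, hxW⟩, hW.fromSpec_primeIdealOf ⟨y, hyW⟩] at h3
      exact hne h3
    · exact hmax
  have hcl : IsClosed ({hW.primeIdealOf ⟨x, hxW⟩} : Set (PrimeSpectrum Γ(X, W))) :=
    (PrimeSpectrum.isClosed_singleton_iff_isMaximal _).2 hmax
  have hx2 : hW.fromSpec (hW.primeIdealOf ⟨x, hxW⟩) = x := hW.fromSpec_primeIdealOf ⟨x, hxW⟩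
  have hz2 : hW.fromSpec (hW.primeIdealOf ⟨z, hzW⟩) = z := hW.fromSpec_primeIdealOf ⟨z, hzW⟩
  have hsp : hW.primeIdealOf ⟨x, hxW⟩ ⤳ hW.primeIdealOf ⟨z, hzW⟩ := by
    refine (hW.fromSpec.isOpenEmbedding.isInducing.specializes_iff).1 ?_
    rw [hx2, hz2]
    exact hspec
  have heq : hW.primeIdealOf ⟨z, hzW⟩ = hW.primeIdealOf ⟨x, hxW⟩ := by
    have := hsp.mem_closed hcl rfl
    exact this
  have := congrArg hW.fromSpec heq
  rw [hx2, hz2] at this
  exact this

/-- the points of an effective Cartier divisor on a scheme of dimension `≤ 1` are closed. -/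
theorem isClosed_singleton_of_mem_support [IsLocallyNoetherian X] (hdim : topologicalKrullDim X ≤ 1)
    (D : X.IdealSheafData) (hD : BlowUp.IsEffCartierIdeal D) (x : X) (hx : x ∈ D.support) :
    IsClosed ({x} : Set X) := by
  obtain ⟨y, hyx, hne⟩ := exists_specializes_of_mem_support D hD x hx
  exact isClosed_singleton_of_specializes hdim x y hyx hne

/-- an effective Cartier divisor on a Noetherian scheme of dimension `≤ 1` is a finite set. -/
theorem finite_support [IsNoetherian X] (hdim : topologicalKrullDim X ≤ 1)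
    (D : X.IdealSheafData) (hD : BlowUp.IsEffCartierIdeal D) : (D.support : Set X).Finite :=
  Groth.Agent.S0047.finite_of_noetherian_quasiSober _ D.support.isClosed
    (fun x hx => isClosed_singleton_of_mem_support hdim D hD x hx)

/-- a closed subscheme with finite support of a scheme proper over a field is finite over the field. -/
theorem isFinite_subschemeι_comp (k : Type u) [Field k] [X.Over (Spec (CommRingCat.of k))]
    [IsProper (X ↘ Spec (CommRingCat.of k))] (D : X.IdealSheafData) (hfin : (D.support : Set X).Finite) :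
    IsFinite (D.subschemeι ≫ (X ↘ Spec (CommRingCat.of k))) := by
  have hfin' : (Set.univ : Set D.subscheme).Finite := by
    have h1 : (D.subschemeι ⁻¹' (D.support : Set X)).Finite :=
      hfin.preimage (D.subschemeι.isEmbedding.injective.injOn)
    refine h1.subset ?_
    intro y _
    change D.subschemeι y ∈ (D.support : Set X)
    rw [← Scheme.IdealSheafData.range_subschemeι]
    exact ⟨y, rfl⟩
  haveI : LocallyQuasiFinite (D.subschemeι ≫ (X ↘ Spec (CommRingCat.of k))) :=
    LocallyQuasiFinite.of_finite_preimage_singleton _ (fun x => hfin'.subset (Set.subset_univ _))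
  exact IsFinite.of_isProper_of_locallyQuasiFinite _

variable (k : Type u) [Field k] [X.Over (Spec (CommRingCat.of k))]
  [IsProper (X ↘ Spec (CommRingCat.of k))]

/-- `χ(F ⊗ E) = n · χ(F)` for `F` coherent supported at closed points and `E` locally free of rank `n`. -/
theorem euler_tensor_of_closedPoints (F : X.Modules) (hF : Coh.IsCoh F)
    (hpts : ∀ x ∈ CohB1.support F, IsClosed ({x} : Set X))
    (n : ℕ) (E : X.Modules) (hE : FlatMod.IsFinLocFreeOfRank n E) :
    Curv2.euler k X (CohB1.tensorMod F E) = n * Curv2.euler k X F := by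
  haveI : IsNoetherian X := Groth.Agent.Lib.T2H6.CurveSatur.isNoetherian_of_proper k
  have h := IsAddFn.eq_zero_of_closedPoints (isAddFn_psi k E n hE) (vanishesOnPoints_psi k E n hE)
    F hF hpts
  unfold psi at h
  linarith

/-- `χ(E ⊗ L) = χ(E) + n · h⁰(O_D)` for `L ≅ O(D)`, `D` with closed points. -/
theorem euler_tensor_inverse (D : X.IdealSheafData)
    (hpts : ∀ x ∈ (D.support : Set X), IsClosed ({x} : Set X))
    (L : X.Modules) (hL : PicF.IsInvertible L) (hLD : ClSub.IsInverseOf L (ClSub.idealMod D))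
    (n : ℕ) (E : X.Modules) (hE : FlatMod.IsFinLocFreeOfRank n E) :
    Curv2.euler k X (CohB1.tensorMod E L) =
      Curv2.euler k X E + n * (Module.finrank k (Coh.HH X (ClSub.quotMod D) 0) : ℤ) := by
  haveI : IsNoetherian X := Groth.Agent.Lib.T2H6.CurveSatur.isNoetherian_of_proper k
  obtain ⟨e⟩ := hLD
  have hOc : Coh.IsCoh (Coh.structureModule X) := Groth.Agent.Lib.T2H5.GenIsoF.isCoh_structureModule
  have hQc : Coh.IsCoh (ClSub.quotMod D) := Groth.Agent.Lib.T2H6.ParShC.isCoh_quotMod D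
  have hLc := Groth.Agent.Lib.T2H6.CurveDeg.isCoh_of_isInvertible L hL
  have hL1 := Groth.Agent.Lib.Helper23.SecTw.isFinLocFreeOfRank_one_of_isInvertible L hL
  have hEc := Groth.Agent.Lib.T2H6.RankAdd.isCoh_of_isFinLocFreeOfRank E n hE
  have hIc : Coh.IsCoh (ClSub.idealMod D) := by
    haveI := isQuasicoherent_idealMod D
    exact Groth.Agent.Lib.T2H5.Devissage.isCoh_of_mono (ClSub.idealModι D) hOc (isQuasicoherent_idealMod D)
  -- points of the support of `O_D` are closed
  have hQpts : ∀ x ∈ CohB1.support (ClSub.quotMod D), IsClosed ({x} : Set X) := by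
    intro x hx
    apply hpts
    have h1 := Groth.Agent.Lib.T2H5.GenIsoC.support_pushforward_subset D.subschemeι
      (Coh.structureModule D.subscheme) (by
        rw [Scheme.IdealSheafData.range_subschemeι]; exact D.support.isClosed) hx
    rw [Scheme.IdealSheafData.range_subschemeι] at h1
    exact h1
  have hQLpts : ∀ x ∈ CohB1.support (CohB1.tensorMod (ClSub.quotMod D) L), IsClosed ({x} : Set X) :=
    fun x hx => hQpts x (Groth.Agent.Lib.T2H5.Dim0.support_tensorMod_subset _ _ hx)
  -- the two exact functors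
  have hlf : FlatMod.IsFinLocFree E := fun x => by
    obtain ⟨U, hx, h⟩ := hE x
    exact ⟨U, n, hx, h⟩
  haveI := preservesFiniteLimits_tr_of_isFinLocFree E hlf
  haveI := preservesFiniteColimits_tr (X := X) E
  have hS1 := shortExact_map_tr hL (idealSC D) (idealSC_shortExact D)
  have hS2 : (((idealSC D).map (tr L)).map (tr E)).ShortExact := hS1.map_of_exact (tr E)
  have hadd := Groth.Agent.Lib.T2H6.EulerField.euler_additive k X _ hS2
    (isCoh_tensor _ E (isCoh_tensor _ L hIc hLc) hEc)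
    (isCoh_tensor _ E (isCoh_tensor _ L hOc hLc) hEc)
    (isCoh_tensor _ E (isCoh_tensor _ L hQc hLc) hEc)
  change Curv2.euler k X (CohB1.tensorMod (CohB1.tensorMod (Coh.structureModule X) L) E) =
    Curv2.euler k X (CohB1.tensorMod (CohB1.tensorMod (ClSub.idealMod D) L) E) +
    Curv2.euler k X (CohB1.tensorMod (CohB1.tensorMod (ClSub.quotMod D) L) E) at hadd
  -- the middle term
  obtain ⟨b1⟩ := Groth.Agent.Lib.T2H6.TensorFree.nonempty_braidIso' L E
  have e2 : CohB1.tensorMod (CohB1.tensorMod (Coh.structureModule X) L) E ≅ CohB1.tensorMod E L :=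
    (tr E).mapIso (Groth.Agent.Lib.Helper23.TensorUnit.unitTensorIso L) ≪≫ b1
  have h2 := Groth.Agent.Lib.T2H6.HiggsCurve.euler_eq_of_iso k e2
    (isCoh_tensor _ E (isCoh_tensor _ L hOc hLc) hEc)
  -- the first term
  obtain ⟨b2⟩ := Groth.Agent.Lib.T2H6.TensorFree.nonempty_braidIso' (ClSub.idealMod D) L
  have e1 : CohB1.tensorMod (CohB1.tensorMod (ClSub.idealMod D) L) E ≅ E :=
    (tr E).mapIso (b2 ≪≫ e) ≪≫ Groth.Agent.Lib.Helper23.TensorUnit.unitTensorIso E
  have h1 := Groth.Agent.Lib.T2H6.HiggsCurve.euler_eq_of_iso k e1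
    (isCoh_tensor _ E (isCoh_tensor _ L hIc hLc) hEc)
  -- the torsion term
  have h3 := euler_tensor_of_closedPoints k _ (isCoh_tensor _ L hQc hLc) hQLpts n E hE
  have h4 := euler_tensor_of_closedPoints k _ hQc hQpts 1 L hL1
  have h5 : Curv2.euler k X (ClSub.quotMod D) = (Module.finrank k (Coh.HH X (ClSub.quotMod D) 0) : ℤ) := by
    rw [Groth.Agent.Lib.T2H6.EulerField.euler_eq_sum k X (ClSub.quotMod D) 0
      (fun i hi => Groth.Agent.S0047.result X _ hQc hQpts i hi)]
    simp
  rw [h2, h1, h3, h4, h5] at hadd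
  rw [hadd]
  push_cast
  ring

end Groth.Agent.Lib.T2H6.EffCartier
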