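import Mathlib
import Groth.Agent.Lib.T2H6NegTwistA
import Groth.Agent.Lib.Helper23SecTw9
import Groth.Agent.Lib.Helper18OmLS11
import Groth.Agent.Lib.Helper2FibreCrit2
set_option backward.isDefEq.respectTransparency.types false

/-!
# Vanishing of sections of negative twists: powers of a section (helper6)

Namespace `Groth.Agent.Lib.T2H6.NegTwistB`.

For an invertible module `P`, a global section `t : O ⟶ P` and a morphism `φ : P^{⊗ j} ⟶ G`:

* `sv_powHom_comp_eq` : on an open `W` where `e` generates `P` and `t = a e`, the section named by `t^j ≫ φ` is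
  `a^j • φ(e^j)`.
* `inPow_germ` : at a point `x` outside `X_t` the germ of `t^j ≫ φ` lies in `𝔪_x^j G_x`.
* `eq_zero_of_powHom_comp_eq_zero` : if all associated points of `G` lie in `X_t` and `t^j ≫ φ = 0` then `φ = 0`.
-/

set_option autoImplicit false
set_option linter.style.haveILetI false
set_option linter.unusedSectionVars false
universe u

open CategoryTheory TopCat TopologicalSpace Opposite TensorProduct AlgebraicGeometry Limits

namespace Groth.Agent.Lib.T2H6.NegTwistB

open Groth.Agent.Lib.Helper2.FlatOver Groth.Agent.Lib.Helper23.SecTw Groth.Agent.Lib.Helper23.GenLocus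
  Groth.Agent.Lib.Helper23.Extend Groth.Agent.Lib.Helper6

variable {X : Scheme.{u}}

theorem sv_comp {A B : X.Modules} (a : Coh.structureModule X ⟶ A) (φ : A ⟶ B) (W : X.Opens) :
    sv (a ≫ φ) W = φ.app W (sv a W) := rfl

theorem app_smul {A B : X.Modules} (φ : A ⟶ B) (W : X.Opens) (r : Γ(X, W)) (m : Γ(A, W)) :
    φ.app W (r • m) = r • φ.app W m :=
  Scheme.Modules.Hom.app_smul φ r m

/-- the local form of `t^j ≫ φ`. -/
theorem sv_powHom_comp_eq (P : X.Modules) (t : Coh.structureModule X ⟶ P) {G : X.Modules} (j : ℕ)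
    (φ : CohB1.tensorPow P j ⟶ G) {W : X.Opens} {e : Γ(P, W)} (he : IsGen P W e) :
    sv (SecTwist.powHom t j ≫ φ) W = (coef he le_rfl (sv t W)) ^ j • φ.app W (pw P W e j) := by
  rw [sv_comp]
  have h1 : sv (SecTwist.powHom t j) W = pw P W (sv t W) j :=
    (SecTwist.val_powHom t j W).trans (pow_eq_pw t j W)
  rw [h1]
  conv_lhs => rw [sv_eq_coef_smul t he]
  rw [pw_smul, app_smul]


/-- membership of a germ in `𝔪_x^j G_x`. -/
def InPow (G : X.Modules) (x : X) (j : ℕ) (g : G.presheaf.stalk x) : Prop :=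
  g ∈ (IsLocalRing.maximalIdeal (X.presheaf.stalk x) ^ j) •
    (⊤ : Submodule (X.presheaf.stalk x) (G.presheaf.stalk x))

/-- at a point outside `X_t`, the germ of `t^j ≫ φ` lies in `𝔪_x^j G_x`. -/
theorem inPow_germ (P : X.Modules) (hP : PicF.IsInvertible P) (t : Coh.structureModule X ⟶ P) {G : X.Modules}
    (j : ℕ) (φ : CohB1.tensorPow P j ⟶ G) (x : X) (hx : x ∉ CohB1.genLocus P t) :
    InPow G x j (G.presheaf.germ ⊤ x (Set.mem_univ _) (sv (SecTwist.powHom t j ≫ φ) ⊤)) := by
  obtain ⟨W, e, hxW, he⟩ := exists_gen P hP x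
  have hloc := genLocus_inf_eq_coef t he
  have hxa : x ∉ X.basicOpen (coef he le_rfl (sv t W)) := by
    intro h
    rw [← hloc] at h
    exact hx h.1
  have hgerm : X.presheaf.germ W x hxW (coef he le_rfl (sv t W)) ∈
      IsLocalRing.maximalIdeal (X.presheaf.stalk x) := by
    rw [IsLocalRing.mem_maximalIdeal, mem_nonunits_iff]
    intro hu
    exact hxa ((Scheme.mem_basicOpen X _ x hxW).2 hu)
  have h1 : G.presheaf.germ ⊤ x (Set.mem_univ _) (sv (SecTwist.powHom t j ≫ φ) ⊤) =
      G.presheaf.germ W x hxW (sv (SecTwist.powHom t j ≫ φ) W) := by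
    rw [← res_sv (SecTwist.powHom t j ≫ φ) (le_top : W ≤ ⊤)]
    exact (TopCat.Presheaf.germ_res_apply G.presheaf (homOfLE (le_top : W ≤ ⊤)) x hxW _).symm
  unfold InPow
  rw [h1, sv_powHom_comp_eq P t j φ he, Groth.Agent.Lib.Helper2.QCoh.germ_smul, map_pow]
  exact Submodule.smul_mem_smul (Ideal.pow_mem_pow hgerm j) Submodule.mem_top


/-- if all associated points of `G` lie in `X_t` and `t^j ≫ φ = 0` then `φ = 0`. -/
theorem eq_zero_of_powHom_comp_eq_zero [IsLocallyNoetherian X] (P : X.Modules) (hP : PicF.IsInvertible P)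
    (t : Coh.structureModule X ⟶ P) {G : X.Modules} [G.IsQuasicoherent]
    (hass : ∀ y : X, Curv2.IsAssPoint G y → y ∈ CohB1.genLocus P t)
    (j : ℕ) (φ : CohB1.tensorPow P j ⟶ G) (h : SecTwist.powHom t j ≫ φ = 0) : φ = 0 := by
  apply Groth.Agent.Helper18OmLS.hom_ext_basis φ 0
    {V | IsAffineOpen V ∧ ∃ (W : X.Opens) (e : Γ(P, W)), V ≤ W ∧ IsGen P W e}
  · rw [Opens.isBasis_iff_nbhd]
    intro U x hxU
    obtain ⟨W, e, hxW, he⟩ := exists_gen P hP x
    obtain ⟨_, ⟨V, hV, rfl⟩, hxV, hVUW⟩ := X.isBasis_affineOpens.exists_subset_of_mem_open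
      (show x ∈ ((U ⊓ W : X.Opens) : Set X) from ⟨hxU, hxW⟩) (U ⊓ W).2
    exact ⟨V, ⟨hV, W, e, le_trans hVUW inf_le_right, he⟩, hxV, le_trans hVUW inf_le_left⟩
  · rintro V ⟨hV, W, e, hVW, he⟩ p
    have heV := he.mono hVW
    have hgen := isGen_pw P V (res P hVW e) heV j
    have hp := coef_spec hgen le_rfl p
    rw [res_self] at hp
    have hq : φ.app V (pw P V (res P hVW e) j) = 0 := by
      apply Groth.Agent.Lib.T2H6.NegTwistA.eq_zero_of_germ_eq_zero_of_isAssPoint G ⟨V, hV⟩
      intro y hyV hyA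
      have hyt := hass y hyA
      have hloc := genLocus_inf_eq_coef t heV
      have hya : y ∈ X.basicOpen (coef heV le_rfl (sv t V)) := by
        rw [← hloc]
        exact ⟨hyt, hyV⟩
      have hu := (Scheme.mem_basicOpen X _ y hyV).1 hya
      have h0 : sv (SecTwist.powHom t j ≫ φ) V = 0 := by
        rw [h]
        exact Groth.Agent.Lib.Helper23.SecTw.sv_zero V
      rw [sv_powHom_comp_eq P t j φ heV] at h0
      have h1 := congrArg (G.presheaf.germ V y hyV) h0
      rw [Groth.Agent.Lib.Helper2.QCoh.germ_smul, map_pow, map_zero] at h1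
      exact Groth.Agent.Lib.Helper2.QCoh.germ_smul_eq_zero_of_isUnit (hu.pow j) h1
    rw [← hp, app_smul, hq, smul_zero]
    rfl

end Groth.Agent.Lib.T2H6.NegTwistB
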