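import Mathlib
import Groth.Prelude.Def_KLin
import Groth.Agent.Lib.T2H6PosA
import Groth.Agent.Lib.T2H6NegTwistA
import Groth.Agent.Lib.T2H6NegTwistD
import Groth.Agent.Lib.T2H6CurveSerre
import Groth.Agent.Lib.T2H6HHLin
import Groth.Agent.Lib.T2H6EulerField
import Groth.Agent.Lib.T2H6FieldBC2
import Groth.Agent.Lib.T2H6TensorPows
import Groth.Agent.Lib.Helper23SecTw9
import Groth.Agent.Lib.Helper23RestrJ
import Groth.Agent.Lib.Helper23TensorUnit
import Groth.Agent.Lib.Helper2TensorInv
set_option backward.isDefEq.respectTransparency.types false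

/-!
# Sections of `F(-1)`: `h⁰(F ⊗ L⁻¹) ≤ h⁰(F) - 1` (helper6)

Namespace `Groth.Agent.Lib.T2H6.HypSecA`.

`X` proper over an algebraically closed field `k`, `L` an invertible module generated by its global sections, all of whose
sections have an affine nonvanishing locus `X_v` (e.g. `O(1)` on projective space), `F` coherent without closed
associated points and with `H⁰(F) ≠ 0`. Then `h⁰(F ⊗ L⁻¹) + 1 ≤ h⁰(F)` (`finrank_twist_inv_add_one_le`).

The proof: if not, every section `v` of `L` regular on `F` gives an isomorphism `H⁰(F ⊗ L⁻¹) ≅ H⁰(F)`; comparing two of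
them by an eigenvector, every section of `L` is, up to a multiple of a fixed regular one `g`, a zero divisor on `F`, i.e.
vanishes at an associated point of `F`.  Hence (`k` is infinite) the sections vanishing at some associated point `ξ`
together with `g` span all sections, so `g` generates `L` on the closure of `ξ`, which is then contained in the affine
`X_g`, and `ξ` is closed.
-/

set_option autoImplicit false
set_option linter.style.haveILetI false
set_option linter.unusedSectionVars false
universe u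

open CategoryTheory TopCat TopologicalSpace Opposite AlgebraicGeometry Limits

namespace Groth.Agent.Lib.T2H6.HypSecA

section linalg

variable {k V A C : Type*} [Field k] [IsAlgClosed k] [AddCommGroup V] [Module k V]
  [AddCommGroup A] [Module k A] [AddCommGroup C] [Module k C] [FiniteDimensional k A] [FiniteDimensional k C]
  [Nontrivial A]

omit [IsAlgClosed k] [FiniteDimensional k A] [FiniteDimensional k C] [Nontrivial A] in
/-- over an infinite field, a vector avoiding finitely many proper subspaces. -/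
theorem exists_forall_notMem [Infinite k] {ι : Type*} [Finite ι] (Λ : ι → Submodule k V) (hΛ : ∀ i, Λ i ≠ ⊤) :
    ∃ g : V, ∀ i, g ∉ Λ i := by
  by_contra hcon
  push Not at hcon
  have hcov : ⋃ i, (Λ i : Set V) = Set.univ := by
    ext v
    simp only [Set.mem_iUnion, SetLike.mem_coe, Set.mem_univ, iff_true]
    exact hcon v
  obtain ⟨i, hi⟩ := Subspace.exists_eq_top_of_iUnion_eq_univ hcov
  exact hΛ i hi

/-- a family of linear maps `A → C`, `dim C ≤ dim A`, depending linearly on `v ∈ V` and injective outside a finite union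
of proper subspaces `Λ i`: some `Λ i` has codimension one. -/
theorem exists_span_sup_eq_top (hdim : Module.finrank k C ≤ Module.finrank k A)
    (B : V →ₗ[k] A →ₗ[k] C) {ι : Type*} [Finite ι] (Λ : ι → Submodule k V) (hΛ : ∀ i, Λ i ≠ ⊤)
    (hinj : ∀ v, (∀ i, v ∉ Λ i) → Function.Injective (B v)) :
    ∃ g i, g ∉ Λ i ∧ Submodule.span k {g} ⊔ Λ i = ⊤ := by
  haveI : Infinite k := IsAlgClosed.instInfinite
  -- a vector outside all the `Λ i`
  obtain ⟨g, hg⟩ := exists_forall_notMem Λ hΛ
  have hBg := hinj g hg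
  have hfr : Module.finrank k A = Module.finrank k C :=
    le_antisymm (LinearMap.finrank_le_finrank_of_injective hBg) hdim
  have hbij : Function.Bijective (B g) :=
    ⟨hBg, (LinearMap.injective_iff_surjective_of_finrank_eq_finrank hfr).1 hBg⟩
  let e : A ≃ₗ[k] C := LinearEquiv.ofBijective (B g) hbij
  have hcov : ⋃ i, ((Submodule.span k {g} ⊔ Λ i : Submodule k V) : Set V) = Set.univ := by
    ext g'
    simp only [Set.mem_iUnion, SetLike.mem_coe, Set.mem_univ, iff_true]
    let T : Module.End k A := e.symm.toLinearMap.comp (B g')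
    obtain ⟨c, hc⟩ := Module.End.exists_eigenvalue T
    obtain ⟨a, ha⟩ := hc.exists_hasEigenvector
    have ha0 : a ≠ 0 := ha.2
    have hTa : T a = c • a := ha.apply_eq_smul
    have h1 : B g' a = c • B g a := by
      have h2 : e (T a) = B g' a := by
        change e (e.symm (B g' a)) = B g' a
        exact e.apply_symm_apply _
      rw [← h2, hTa, map_smul]
      rfl
    have h3 : B (g' - c • g) a = 0 := by
      rw [map_sub, map_smul, LinearMap.sub_apply, LinearMap.smul_apply, h1, sub_self]
    have h4 : ¬ Function.Injective (B (g' - c • g)) := fun hi =>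
      ha0 (hi (h3.trans (map_zero _).symm))
    have h5 : ¬ ∀ i, g' - c • g ∉ Λ i := fun h => h4 (hinj _ h)
    push Not at h5
    obtain ⟨i, hi⟩ := h5
    refine ⟨i, ?_⟩
    have h6 : g' = c • g + (g' - c • g) := by abel
    rw [h6]
    exact Submodule.add_mem_sup (Submodule.smul_mem _ c (Submodule.mem_span_singleton_self g)) hi
  obtain ⟨i, hi⟩ := Subspace.exists_eq_top_of_iUnion_eq_univ hcov
  exact ⟨g, i, hg i, hi⟩

end linalg

section scalars

open Groth.Agent.Lib.Helper23.SecTw Groth.Agent.Lib.Helper6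

variable {X : Scheme.{u}} (k : Type u) [Field k] [X.Over (Spec (CommRingCat.of k))]

/-- the value of `c • σ` on the unit section. -/
theorem sv_smul {L : X.Modules} (c : k) (σ : Coh.structureModule X ⟶ L) :
    sv (c • σ) ⊤ = (show Γ(X, ⊤) from Coh.toGlobal (X ↘ Spec (CommRingCat.of k)) c) • sv σ ⊤ := by
  rw [val_eq_app, val_eq_app, KLin.smul_app_apply]
  congr 1
  change (X.presheaf.map (𝟙 (op ⊤))).hom _ = _
  rw [X.presheaf.map_id]
  rfl

/-- multiplying a section by a nonzero constant does not change its nonvanishing locus. -/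
theorem genLocus_smul_of_ne_zero (L : X.Modules) (c : k) (hc : c ≠ 0) (σ : Coh.structureModule X ⟶ L) :
    CohB1.genLocus L (c • σ) = CohB1.genLocus L σ := by
  refine Groth.Agent.Lib.Helper23.RestrJ.genLocus_eq_of_sv_eq_unit_smul L (c • σ) σ
    (show Γ(X, ⊤) from Coh.toGlobal (X ↘ Spec (CommRingCat.of k)) c) ?_ (sv_smul k c σ)
  exact (IsUnit.mk0 c hc).map (Coh.toGlobal (X ↘ Spec (CommRingCat.of k)))

theorem genLocus_smul_le (L : X.Modules) (hL : PicF.IsInvertible L) (c : k) (σ : Coh.structureModule X ⟶ L) :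
    CohB1.genLocus L (c • σ) ≤ CohB1.genLocus L σ := by
  by_cases hc : c = 0
  · rw [hc, zero_smul, genLocus_zero L hL]
    exact bot_le
  · rw [genLocus_smul_of_ne_zero k L c hc σ]

/-- the sections of `L` vanishing at the point `ξ`, as a `k`-subspace. -/
def vanSub (L : X.Modules) (hL : PicF.IsInvertible L) (ξ : X) : Submodule k (Coh.structureModule X ⟶ L) where
  carrier := {v | ξ ∉ CohB1.genLocus L v}
  add_mem' := by
    intro a b ha hb hab
    rcases genLocus_add_le L hL a b hab with h | h
    · exact ha h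
    · exact hb h
  zero_mem' := by
    change ξ ∉ CohB1.genLocus L 0
    rw [genLocus_zero L hL]
    exact fun h => h
  smul_mem' := by
    intro c v hv hcv
    exact hv (genLocus_smul_le k L hL c v hcv)

theorem mem_vanSub_iff (L : X.Modules) (hL : PicF.IsInvertible L) (ξ : X) (v : Coh.structureModule X ⟶ L) :
    v ∈ vanSub k L hL ξ ↔ ξ ∉ CohB1.genLocus L v := Iff.rfl

/-- if the sections vanishing at `ξ` together with `g` span all sections of a globally generated `L`, then `g` generates
`L` on the closure of `ξ`. -/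
theorem closure_subset_genLocus (L : X.Modules) (hL : PicF.IsInvertible L)
    (hgen : ∀ x : X, ∃ v : Coh.structureModule X ⟶ L, x ∈ CohB1.genLocus L v) (ξ : X)
    (g : Coh.structureModule X ⟶ L) (h : Submodule.span k {g} ⊔ vanSub k L hL ξ = ⊤) :
    closure ({ξ} : Set X) ⊆ CohB1.genLocus L g := by
  intro x hx
  have hsp : ξ ⤳ x := specializes_iff_mem_closure.2 hx
  obtain ⟨v, hv⟩ := hgen x
  have hvm : v ∈ Submodule.span k {g} ⊔ vanSub k L hL ξ := by rw [h]; trivial
  obtain ⟨a, ha, t, ht, rfl⟩ := Submodule.mem_sup.1 hvm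
  obtain ⟨c, rfl⟩ := Submodule.mem_span_singleton.1 ha
  have htx : x ∉ CohB1.genLocus L t := fun hxt => ht (hsp.mem_open (CohB1.genLocus L t).2 hxt)
  rcases genLocus_add_le L hL _ _ hv with h1 | h1
  · exact genLocus_smul_le k L hL c g h1
  · exact absurd h1 htx

end scalars

section main

open Groth.Agent.Lib.T2H5.Twist Groth.Agent.Lib.T2H6.TensorPows

variable {X : Scheme.{u}} (k : Type u) [Field k] [IsAlgClosed k] [X.Over (Spec (CommRingCat.of k))]
  [IsProper (X ↘ Spec (CommRingCat.of k))]

omit [IsAlgClosed k] in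
/-- **`h⁰(F ⊗ L⁻¹) ≤ h⁰(F)`** when `L` is generated by its sections (`k` infinite). -/
theorem finrank_twist_inv_le [Infinite k] (L L' : X.Modules) (hL : PicF.IsInvertible L)
    (eLL' : CohB1.tensorMod L L' ≅ Coh.structureModule X)
    (hgen : ∀ x : X, ∃ v : Coh.structureModule X ⟶ L, x ∈ CohB1.genLocus L v)
    (F : X.Modules) (hF : Coh.IsCoh F) :
    Module.finrank k (Coh.HH X (CohB1.tensorMod F L') 0) ≤ Module.finrank k (Coh.HH X F 0) := by
  haveI : IsNoetherian X := Groth.Agent.Lib.T2H6.CurveSatur.isNoetherian_of_proper k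
  have hL' : PicF.IsInvertible L' :=
    Groth.Agent.Lib.Helper2.TensorInv.isInvertible_of_tensor_iso L' L (braidIso _ _ ≪≫ eLL')
  have cL := Groth.Agent.Lib.T2H6.CurveDeg.isCoh_of_isInvertible L hL
  have cL' := Groth.Agent.Lib.T2H6.CurveDeg.isCoh_of_isInvertible L' hL'
  have cO : Coh.IsCoh (Coh.structureModule X) := Groth.Agent.Lib.T2H5.GenIsoF.isCoh_structureModule
  have hN : Coh.IsCoh (CohB1.tensorMod F L') := Groth.Agent.Lib.T2H6.TensorDeg.isCoh_tensor _ _ hF cL'
  have c1 : Coh.IsCoh (CohB1.tensorMod (Coh.structureModule X) (CohB1.tensorMod F L')) :=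
    Groth.Agent.Lib.T2H6.TensorDeg.isCoh_tensor _ _ cO hN
  have c2 : Coh.IsCoh (CohB1.tensorMod L (CohB1.tensorMod F L')) :=
    Groth.Agent.Lib.T2H6.TensorDeg.isCoh_tensor _ _ cL hN
  haveI : Module.Finite k (Coh.HH X (CohB1.tensorMod (Coh.structureModule X) (CohB1.tensorMod F L')) 0) :=
    Groth.Agent.Lib.T2H6.EulerField.finite_HH k X _ c1 0
  haveI : Module.Finite k (Coh.HH X (CohB1.tensorMod L (CohB1.tensorMod F L')) 0) :=
    Groth.Agent.Lib.T2H6.EulerField.finite_HH k X _ c2 0
  have e1 : Module.finrank k (Coh.HH X (CohB1.tensorMod (Coh.structureModule X) (CohB1.tensorMod F L')) 0) =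
      Module.finrank k (Coh.HH X (CohB1.tensorMod F L') 0) :=
    Groth.Agent.Lib.T2H6.FieldBC.finrank_HH_eq_of_iso k X
      (Groth.Agent.Lib.Helper23.TensorUnit.unitTensorIso _) 0
  have e2 : Module.finrank k (Coh.HH X (CohB1.tensorMod L (CohB1.tensorMod F L')) 0) =
      Module.finrank k (Coh.HH X F 0) :=
    Groth.Agent.Lib.T2H6.FieldBC.finrank_HH_eq_of_iso k X
      (braidIso L (CohB1.tensorMod F L') ≪≫ assocIso' F L' L ≪≫
        (trCongr (braidIso L' L ≪≫ eLL')).app F ≪≫
        Groth.Agent.Lib.Helper23.TensorUnit.tensorUnitIso F) 0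
  haveI : F.IsQuasicoherent := hF.1
  haveI : SheafOfModules.IsFiniteType (R := X.ringCatSheaf) F := hF.2
  haveI : (CohB1.tensorMod F L').IsQuasicoherent := hN.1
  have hfin := Groth.Agent.Lib.T2H6.NegTwistD.finite_isAssPoint F
  haveI : Finite {y : X // Curv2.IsAssPoint F y} := hfin.to_subtype
  obtain ⟨v, hv⟩ := exists_forall_notMem (k := k)
    (fun i : {y : X // Curv2.IsAssPoint F y} => vanSub k L hL i.1)
    (fun i h => by
      obtain ⟨v, hv⟩ := hgen i.1
      have : v ∈ vanSub k L hL i.1 := by rw [h]; trivial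
      exact this hv)
  haveI : Mono ((tr (CohB1.tensorMod F L')).map v) :=
    Groth.Agent.Lib.T2H6.PosA.mono_tr_map_section L hL v (CohB1.tensorMod F L') (fun y hy => by
      by_contra h
      exact hv ⟨y, (Groth.Agent.Lib.T2H6.NegTwistD.isAssPoint_tensorMod_iff F L' hL' y).1 hy⟩ h)
  have hinj := Groth.Agent.Lib.T2H6.HHLin.injective_HHlin_zero_of_mono (A := k)
    ((tr (CohB1.tensorMod F L')).map v)
  have hfr : Module.finrank k (Coh.HH X (CohB1.tensorMod (Coh.structureModule X) (CohB1.tensorMod F L')) 0) ≤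
      Module.finrank k (Coh.HH X (CohB1.tensorMod L (CohB1.tensorMod F L')) 0) :=
    LinearMap.finrank_le_finrank_of_injective hinj
  omega

/-- **`h⁰(F ⊗ L⁻¹) ≤ h⁰(F) - 1`** for `F` without closed associated points and `H⁰(F) ≠ 0`, when `L` is generated by its
sections and all `X_v` are affine. -/
theorem finrank_twist_inv_add_one_le (L L' : X.Modules) (hL : PicF.IsInvertible L)
    (eLL' : CohB1.tensorMod L L' ≅ Coh.structureModule X)
    (hgen : ∀ x : X, ∃ v : Coh.structureModule X ⟶ L, x ∈ CohB1.genLocus L v)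
    (haff : ∀ v : Coh.structureModule X ⟶ L, IsAffineOpen (CohB1.genLocus L v))
    (F : X.Modules) (hF : Coh.IsCoh F)
    (hass : ∀ x : X, Curv2.IsAssPoint F x → ¬ IsClosed ({x} : Set X))
    (h0 : 1 ≤ Module.finrank k (Coh.HH X F 0)) :
    Module.finrank k (Coh.HH X (CohB1.tensorMod F L') 0) + 1 ≤ Module.finrank k (Coh.HH X F 0) := by
  haveI : IsNoetherian X := Groth.Agent.Lib.T2H6.CurveSatur.isNoetherian_of_proper k
  by_contra hcon
  have hle : Module.finrank k (Coh.HH X F 0) ≤ Module.finrank k (Coh.HH X (CohB1.tensorMod F L') 0) := by omega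
  have hL' : PicF.IsInvertible L' :=
    Groth.Agent.Lib.Helper2.TensorInv.isInvertible_of_tensor_iso L' L (braidIso _ _ ≪≫ eLL')
  have cL := Groth.Agent.Lib.T2H6.CurveDeg.isCoh_of_isInvertible L hL
  have cL' := Groth.Agent.Lib.T2H6.CurveDeg.isCoh_of_isInvertible L' hL'
  have cO : Coh.IsCoh (Coh.structureModule X) := Groth.Agent.Lib.T2H5.GenIsoF.isCoh_structureModule
  have hN : Coh.IsCoh (CohB1.tensorMod F L') := Groth.Agent.Lib.T2H6.TensorDeg.isCoh_tensor _ _ hF cL'
  have c1 : Coh.IsCoh (CohB1.tensorMod (Coh.structureModule X) (CohB1.tensorMod F L')) :=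
    Groth.Agent.Lib.T2H6.TensorDeg.isCoh_tensor _ _ cO hN
  have c2 : Coh.IsCoh (CohB1.tensorMod L (CohB1.tensorMod F L')) :=
    Groth.Agent.Lib.T2H6.TensorDeg.isCoh_tensor _ _ cL hN
  haveI : Module.Finite k (Coh.HH X (CohB1.tensorMod (Coh.structureModule X) (CohB1.tensorMod F L')) 0) :=
    Groth.Agent.Lib.T2H6.EulerField.finite_HH k X _ c1 0
  haveI : Module.Finite k (Coh.HH X (CohB1.tensorMod L (CohB1.tensorMod F L')) 0) :=
    Groth.Agent.Lib.T2H6.EulerField.finite_HH k X _ c2 0
  have e1 : Module.finrank k (Coh.HH X (CohB1.tensorMod (Coh.structureModule X) (CohB1.tensorMod F L')) 0) =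
      Module.finrank k (Coh.HH X (CohB1.tensorMod F L') 0) :=
    Groth.Agent.Lib.T2H6.FieldBC.finrank_HH_eq_of_iso k X
      (Groth.Agent.Lib.Helper23.TensorUnit.unitTensorIso _) 0
  have e2 : Module.finrank k (Coh.HH X (CohB1.tensorMod L (CohB1.tensorMod F L')) 0) =
      Module.finrank k (Coh.HH X F 0) :=
    Groth.Agent.Lib.T2H6.FieldBC.finrank_HH_eq_of_iso k X
      (braidIso L (CohB1.tensorMod F L') ≪≫ assocIso' F L' L ≪≫
        (trCongr (braidIso L' L ≪≫ eLL')).app F ≪≫
        Groth.Agent.Lib.Helper23.TensorUnit.tensorUnitIso F) 0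
  haveI : Nontrivial (Coh.HH X (CohB1.tensorMod (Coh.structureModule X) (CohB1.tensorMod F L')) 0) :=
    Module.nontrivial_of_finrank_pos (R := k) (by omega)
  haveI : F.IsQuasicoherent := hF.1
  haveI : SheafOfModules.IsFiniteType (R := X.ringCatSheaf) F := hF.2
  haveI : (CohB1.tensorMod F L').IsQuasicoherent := hN.1
  have hfin := Groth.Agent.Lib.T2H6.NegTwistD.finite_isAssPoint F
  haveI : Finite {y : X // Curv2.IsAssPoint F y} := hfin.to_subtype
  obtain ⟨g, i, hgi, htop⟩ := exists_span_sup_eq_top (k := k)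
    (A := Coh.HH X (CohB1.tensorMod (Coh.structureModule X) (CohB1.tensorMod F L')) 0)
    (C := Coh.HH X (CohB1.tensorMod L (CohB1.tensorMod F L')) 0) (by omega)
    (Groth.Agent.Lib.T2H6.CurveSerre.act k L (CohB1.tensorMod F L') 0)
    (fun i : {y : X // Curv2.IsAssPoint F y} => vanSub k L hL i.1)
    (fun i h => by
      obtain ⟨v, hv⟩ := hgen i.1
      have : v ∈ vanSub k L hL i.1 := by rw [h]; trivial
      exact this hv)
    (fun v hv => by
      haveI : Mono ((tr (CohB1.tensorMod F L')).map v) :=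
        Groth.Agent.Lib.T2H6.PosA.mono_tr_map_section L hL v (CohB1.tensorMod F L') (fun y hy => by
          by_contra h
          exact hv ⟨y, (Groth.Agent.Lib.T2H6.NegTwistD.isAssPoint_tensorMod_iff F L' hL' y).1 hy⟩ h)
      exact Groth.Agent.Lib.T2H6.HHLin.injective_HHlin_zero_of_mono (A := k)
        ((tr (CohB1.tensorMod F L')).map v))
  exact hass i.1 i.2 (Groth.Agent.Lib.T2H6.NegTwistA.isClosed_singleton_of_closure_subset_affine k _ (haff g) i.1
    (closure_subset_genLocus k L hL hgen i.1 g htop))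

/-- **Vanishing of `H⁰(F ⊗ L⁻ⁿ)` for `n ≥ h⁰(F)`.** -/
theorem subsingleton_HH_zero_twist_inv (L L' : X.Modules) (hL : PicF.IsInvertible L)
    (eLL' : CohB1.tensorMod L L' ≅ Coh.structureModule X)
    (hgen : ∀ x : X, ∃ v : Coh.structureModule X ⟶ L, x ∈ CohB1.genLocus L v)
    (haff : ∀ v : Coh.structureModule X ⟶ L, IsAffineOpen (CohB1.genLocus L v))
    (F : X.Modules) (hF : Coh.IsCoh F)
    (hass : ∀ x : X, Curv2.IsAssPoint F x → ¬ IsClosed ({x} : Set X)) (n : ℕ) :
    Module.finrank k (Coh.HH X (CohB1.tensorMod F (CohB1.tensorPow L' n)) 0) + n ≤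
        Module.finrank k (Coh.HH X F 0) ∨
      Module.finrank k (Coh.HH X (CohB1.tensorMod F (CohB1.tensorPow L' n)) 0) = 0 := by
  have hL' : PicF.IsInvertible L' :=
    Groth.Agent.Lib.Helper2.TensorInv.isInvertible_of_tensor_iso L' L (braidIso _ _ ≪≫ eLL')
  induction n with
  | zero =>
    left
    rw [add_zero]
    exact (Groth.Agent.Lib.T2H6.FieldBC.finrank_HH_eq_of_iso k X
      (Groth.Agent.Lib.Helper23.TensorUnit.tensorUnitIso F) 0).le
  | succ n ih =>
    have hPn : PicF.IsInvertible (CohB1.tensorPow L' n) :=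
      Groth.Agent.Lib.Helper23.SecTw.isInvertible_tensorPow hL' n
    have cPn := Groth.Agent.Lib.T2H6.CurveDeg.isCoh_of_isInvertible _ hPn
    have hG : Coh.IsCoh (CohB1.tensorMod F (CohB1.tensorPow L' n)) :=
      Groth.Agent.Lib.T2H6.TensorDeg.isCoh_tensor _ _ hF cPn
    have hassG : ∀ x : X, Curv2.IsAssPoint (CohB1.tensorMod F (CohB1.tensorPow L' n)) x →
        ¬ IsClosed ({x} : Set X) := fun x hx =>
      hass x ((Groth.Agent.Lib.T2H6.NegTwistD.isAssPoint_tensorMod_iff F _ hPn x).1 hx)
    have hiso : Module.finrank k (Coh.HH X (CohB1.tensorMod F (CohB1.tensorPow L' (n + 1))) 0) =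
        Module.finrank k (Coh.HH X (CohB1.tensorMod (CohB1.tensorMod F (CohB1.tensorPow L' n)) L') 0) :=
      Groth.Agent.Lib.T2H6.FieldBC.finrank_HH_eq_of_iso k X (assocIso' F (CohB1.tensorPow L' n) L').symm 0
    rw [hiso]
    by_cases hz : Module.finrank k (Coh.HH X (CohB1.tensorMod F (CohB1.tensorPow L' n)) 0) = 0
    · -- already zero: injectivity gives zero again
      right
      haveI : Infinite k := IsAlgClosed.instInfinite
      have h1 := finrank_twist_inv_le k L L' hL eLL' hgen _ hG
      omega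
    · have h1 := finrank_twist_inv_add_one_le k L L' hL eLL' hgen haff _ hG hassG (by omega)
      rcases ih with h | h
      · left; omega
      · exact absurd h hz

end main

end Groth.Agent.Lib.T2H6.HypSecA
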