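import Mathlib
import Groth.Prelude.Def_ClSub2
import Groth.Prelude.Def_KLin
import Groth.Agent.Lib.T2H6AmpleCrit
import Groth.Agent.Lib.T2H6CurveSerre
import Groth.Agent.Lib.T2H6HypSecA
import Groth.Agent.Lib.T2H6VAmpleB
set_option backward.isDefEq.respectTransparency.types false

/-!
# The ideal of a rational closed point (helper6)

Namespace `Groth.Agent.Lib.T2H6.PtTwistA`.

* `ptIdeal p hp` : the ideal sheaf of the reduced closed point `p`.
* `mem_ptIdeal_iff` : a function on an affine open containing `p` lies in the ideal iff it vanishes at `p`.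
* `finrank_hom_quotMod_ptIdeal`, `finrank_HH_zero_quotMod_ptIdeal` : for a `k`-rational point `p`,
  `h⁰(O_p) = 1`.
-/

set_option autoImplicit false
set_option linter.style.haveILetI false
set_option linter.unusedSectionVars false
universe u
open CategoryTheory CategoryTheory.Limits Opposite TopologicalSpace AlgebraicGeometry

namespace Groth.Agent.Lib.T2H6.PtTwistA

open Groth.Agent.Lib.Helper23.Serre Groth.Agent.Lib.Helper23.GenLocus Groth.Agent.Lib.Helper23.SecTw
  Groth.Agent.Lib.Helper6 Groth.Agent.Lib.Helper23.AffVanish Groth.Agent.Lib.Helper23.QCohLocal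
  Groth.Agent.Lib.T2H5.Twist Groth.Agent.Lib.T2H6.ParShA Groth.Agent.Lib.T2H6.ParShC
  Groth.Agent.Lib.T2H6.AmpleCrit

variable {X : Scheme.{u}}

/-- the ideal sheaf of the reduced closed point `p`. -/
noncomputable abbrev ptIdeal (p : X) (hp : IsClosed ({p} : Set X)) : X.IdealSheafData :=
  Scheme.IdealSheafData.vanishingIdeal ⟨{p}, hp⟩

theorem coe_support_ptIdeal (p : X) (hp : IsClosed ({p} : Set X)) :
    ((ptIdeal p hp).support : Set X) = {p} := by
  rw [Scheme.IdealSheafData.coe_support_vanishingIdeal]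
  rfl

/-- a function on an affine open containing `p` lies in the ideal of `p` iff it vanishes at `p`. -/
theorem mem_ptIdeal_iff (p : X) (hp : IsClosed ({p} : Set X)) (U : X.affineOpens) (hpU : p ∈ U.1)
    (a : Γ(X, U.1)) : a ∈ (ptIdeal p hp).ideal U ↔ p ∉ X.basicOpen a := by
  rw [Scheme.IdealSheafData.vanishingIdeal_ideal, PrimeSpectrum.mem_vanishingIdeal]
  have key : ∀ q : Spec Γ(X, U.1), U.2.fromSpec q ∈ X.basicOpen a ↔ a ∉ q.asIdeal := by
    intro q
    change q ∈ U.2.fromSpec ⁻¹ᵁ X.basicOpen a ↔ _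
    rw [U.2.fromSpec_preimage_basicOpen]
    rfl
  constructor
  · intro h hpa
    have h1 := h (U.2.primeIdealOf ⟨p, hpU⟩) (by
      change U.2.fromSpec _ ∈ ({p} : Set X)
      rw [U.2.fromSpec_primeIdealOf]
      rfl)
    have h2 := (key (U.2.primeIdealOf ⟨p, hpU⟩)).1 (by rw [U.2.fromSpec_primeIdealOf]; exact hpa)
    exact h2 h1
  · intro h q hq
    by_contra hne
    have h1 := (key q).2 hne
    have h2 : U.2.fromSpec q = p := hq
    rw [h2] at h1
    exact h h1

section rational

variable (k : Type u) [Field k] [X.Over (Spec (CommRingCat.of k))]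

/-- the constant function `c` on an open `W`. -/
noncomputable def cst (c : k) (W : X.Opens) : Γ(X, W) :=
  resf (le_top : W ≤ ⊤) (show Γ(X, ⊤) from Coh.toGlobal (X ↘ Spec (CommRingCat.of k)) c)

/-- at a rational point every function is congruent to a constant modulo the ideal of the point. -/
theorem exists_sub_cst_mem_ptIdeal (p : X) (hp : IsClosed ({p} : Set X))
    (hrat : Function.Surjective (Curv2.resMap k X p)) (U : X.affineOpens) (hpU : p ∈ U.1)
    (a : Γ(X, U.1)) : ∃ c : k, a - cst k c U.1 ∈ (ptIdeal p hp).ideal U := by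
  obtain ⟨c, hc⟩ := hrat ((X.residue p).hom (X.presheaf.germ U.1 p hpU a))
  refine ⟨c, ?_⟩
  rw [mem_ptIdeal_iff p hp U hpU]
  intro hmem
  have hunit : IsUnit (X.presheaf.germ U.1 p hpU (a - cst k c U.1)) :=
    (Scheme.mem_basicOpen X _ p hpU).1 hmem
  have h1 : X.presheaf.germ U.1 p hpU (cst k c U.1) =
      X.presheaf.germ ⊤ p trivial (show Γ(X, ⊤) from Coh.toGlobal (X ↘ Spec (CommRingCat.of k)) c) :=
    TopCat.Presheaf.germ_res_apply X.presheaf (homOfLE (le_top : U.1 ≤ ⊤)) p hpU _
  have hres : (X.residue p).hom (X.presheaf.germ U.1 p hpU (a - cst k c U.1)) = 0 := by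
    rw [map_sub, map_sub, h1, ← hc]
    exact sub_self _
  have h2 : X.presheaf.germ U.1 p hpU (a - cst k c U.1) ∈ IsLocalRing.maximalIdeal (X.presheaf.stalk p) :=
    (IsLocalRing.residue_eq_zero_iff _).1 hres
  exact (IsLocalRing.mem_maximalIdeal _).1 h2 hunit

/-- the value of the quotient map on a function of the ideal vanishes. -/
theorem toSubscheme_app_eq_zero (I : X.IdealSheafData) (U : X.affineOpens) (b : Γ(X, U.1))
    (hb : b ∈ I.ideal U) : (ClSub.toSubscheme I).app U.1 (toS U.1 b) = 0 := by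
  rw [toSubscheme_app]
  have h1 : (I.subschemeι.app U.1).hom b = 0 := by
    rw [← RingHom.mem_ker, I.ker_subschemeι_app U]
    exact hb
  rw [h1]
  rfl

end rational

section rational2

variable (k : Type u) [Field k] [X.Over (Spec (CommRingCat.of k))]

theorem sv_smul_res {L : X.Modules} (c : k) (σ : Coh.structureModule X ⟶ L) (W : X.Opens) :
    sv (c • σ) W = cst k c W • sv σ W := by
  rw [← res_sv (c • σ) (le_top : W ≤ ⊤), Groth.Agent.Lib.T2H6.HypSecA.sv_smul k c σ, res_smul,
    res_sv]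
  rfl

/-- every section of `O_p` is a constant multiple of `1`, for a rational point `p`. -/
theorem exists_smul_toSubscheme_eq (p : X) (hp : IsClosed ({p} : Set X))
    (hrat : Function.Surjective (Curv2.resMap k X p))
    (s : Coh.structureModule X ⟶ ClSub.quotMod (ptIdeal p hp)) :
    ∃ c : k, c • ClSub.toSubscheme (ptIdeal p hp) = s := by
  obtain ⟨U, hU, hpU, -⟩ := exists_isAffineOpen_mem_and_subset (x := p) (U := ⊤) trivial
  let U' : X.affineOpens := ⟨U, hU⟩
  -- the value of `s` on `U` comes from a function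
  obtain ⟨a, ha⟩ := (ptIdeal p hp).subschemeι_app_surjective U'
    (show Γ((ptIdeal p hp).subscheme, (ptIdeal p hp).subschemeι ⁻¹ᵁ U) from sv s U)
  obtain ⟨c, hc⟩ := exists_sub_cst_mem_ptIdeal k p hp hrat U' hpU a
  refine ⟨c, ?_⟩
  have hsv : sv (c • ClSub.toSubscheme (ptIdeal p hp)) ⊤ = sv s ⊤ := by
    let Ux : X.Opens := ⟨({p} : Set X)ᶜ, hp.isOpen_compl⟩
    have hcover : (⊤ : X.Opens) ≤ U ⊔ Ux := by
      intro y _
      by_cases hy : y = p
      · left; rw [hy]; exact hpU
      · right; exact hy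
    refine eq_of_res_eq₂ (ClSub.quotMod (ptIdeal p hp)) (le_top : U ≤ ⊤) (le_top : Ux ≤ ⊤) hcover _ _ ?_ ?_
    · rw [res_sv, res_sv, sv_smul_res, val_eq_app]
      have h1 : cst k c U • (ClSub.toSubscheme (ptIdeal p hp)).app U (toS U 1) =
          toS ((ptIdeal p hp).subschemeι ⁻¹ᵁ U) ((ptIdeal p hp).subschemeι.app U (cst k c U)) := smul_toSubscheme_one (ptIdeal p hp) U _
      rw [h1]
      have h2 : (ClSub.toSubscheme (ptIdeal p hp)).app U (toS U (a - cst k c U)) = 0 :=
        toSubscheme_app_eq_zero (ptIdeal p hp) U' _ hc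
      rw [toSubscheme_app] at h2
      have h3 : ((ptIdeal p hp).subschemeι.app U).hom (a - cst k c U) = 0 := h2
      rw [map_sub, sub_eq_zero] at h3
      change toS _ (((ptIdeal p hp).subschemeι.app U).hom (cst k c U)) = sv s U
      rw [← h3]
      exact ha
    · have hle : (ptIdeal p hp).subschemeι ⁻¹ᵁ Ux ≤ ⊥ := by
        intro z hz
        have hz1 : (ptIdeal p hp).subschemeι z ∈ ((ptIdeal p hp).support : Set X) := by
          rw [← Scheme.IdealSheafData.range_subschemeι]
          exact ⟨z, rfl⟩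
        rw [coe_support_ptIdeal] at hz1
        exact hz hz1
      rw [quotMod_section_eq_zero (ptIdeal p hp) Ux hle (res _ _ (sv (c • ClSub.toSubscheme (ptIdeal p hp)) ⊤)),
        quotMod_section_eq_zero (ptIdeal p hp) Ux hle (res _ _ (sv s ⊤))]
  have e1 := Groth.Agent.Lib.T2H6.VAmpleB.secHom_sv (c • ClSub.toSubscheme (ptIdeal p hp))
  have e2 := Groth.Agent.Lib.T2H6.VAmpleB.secHom_sv s
  rw [hsv] at e1
  exact e1.symm.trans e2

end rational2

section rational3

variable (k : Type u) [Field k] [X.Over (Spec (CommRingCat.of k))]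

theorem toSubscheme_ptIdeal_ne_zero (p : X) (hp : IsClosed ({p} : Set X)) :
    ClSub.toSubscheme (ptIdeal p hp) ≠ 0 := by
  intro h0
  obtain ⟨U, hU, hpU, -⟩ := exists_isAffineOpen_mem_and_subset (x := p) (U := ⊤) trivial
  let U' : X.affineOpens := ⟨U, hU⟩
  have h1 : (ClSub.toSubscheme (ptIdeal p hp)).app U (toS U 1) = 0 := by
    rw [h0]
    rfl
  rw [toSubscheme_app] at h1
  have h2 : ((ptIdeal p hp).subschemeι.app U).hom 1 = 0 := h1
  have h3 : (1 : Γ(X, U)) ∈ (ptIdeal p hp).ideal U' := by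
    rw [← (ptIdeal p hp).ker_subschemeι_app U', RingHom.mem_ker]
    exact h2
  rw [mem_ptIdeal_iff p hp U' hpU] at h3
  apply h3
  rw [Scheme.basicOpen_of_isUnit X isUnit_one]
  exact hpU

/-- `dim Hom(O, O_p) = 1` for a rational point `p`. -/
theorem finrank_hom_quotMod_ptIdeal (p : X) (hp : IsClosed ({p} : Set X))
    (hrat : Function.Surjective (Curv2.resMap k X p)) :
    Module.finrank k (Coh.structureModule X ⟶ ClSub.quotMod (ptIdeal p hp)) = 1 := by
  rw [finrank_eq_one_iff_of_nonzero' _ (toSubscheme_ptIdeal_ne_zero p hp)]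
  intro s
  exact exists_smul_toSubscheme_eq k p hp hrat s

/-- `h⁰(O_p) = 1` for a rational point `p`. -/
theorem finrank_HH_zero_quotMod_ptIdeal (p : X) (hp : IsClosed ({p} : Set X))
    (hrat : Function.Surjective (Curv2.resMap k X p)) :
    Module.finrank k (Coh.HH X (ClSub.quotMod (ptIdeal p hp)) 0) = 1 := by
  rw [← Groth.Agent.Lib.T2H6.CurveSerre.finrank_hom_eq k (ClSub.quotMod (ptIdeal p hp))]
  exact finrank_hom_quotMod_ptIdeal k p hp hrat

end rational3

end Groth.Agent.Lib.T2H6.PtTwistA
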