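import Mathlib
import Groth.Agent.Lib.T2H6PtTwistA
import Groth.Agent.Lib.T2H6CurveLinSer
import Groth.Agent.Lib.T2H6EffCartier
import Groth.Agent.Lib.T2H6NegTwistB
import Groth.Agent.Lib.T2H6PosD
set_option backward.isDefEq.respectTransparency.types false

/-!
# Twisting an invertible module on a curve by the ideal of a rational point (helper6)

Namespace `Groth.Agent.Lib.T2H6.PtTwistB`.
-/

set_option autoImplicit false
set_option linter.style.haveILetI false
set_option linter.unusedSectionVars false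
universe u
open CategoryTheory CategoryTheory.Limits Opposite TopologicalSpace AlgebraicGeometry

namespace Groth.Agent.Lib.T2H6.PtTwistB

open Groth.Agent.Lib.Helper23.Serre Groth.Agent.Lib.Helper23.GenLocus Groth.Agent.Lib.Helper23.SecTw
  Groth.Agent.Lib.Helper6 Groth.Agent.Lib.Helper23.AffVanish Groth.Agent.Lib.Helper23.QCohLocal
  Groth.Agent.Lib.T2H5.Twist Groth.Agent.Lib.T2H6.ParShA Groth.Agent.Lib.T2H6.ParShC
  Groth.Agent.Lib.T2H6.AmpleCrit Groth.Agent.Lib.T2H6.PtTwistA

variable {X : Scheme.{u}}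

/-- the map `O ⊗ M ⟶ (O/I) ⊗ M`. -/
noncomputable def πM (I : X.IdealSheafData) (M : X.Modules) :
    CohB1.tensorMod (Coh.structureModule X) M ⟶ CohB1.tensorMod (ClSub.quotMod I) M :=
  (tr M).map (ClSub.toSubscheme I)

/-- a section of `O ⊗ M` generating `M` at a point of `V(I)` does not die in `(O/I) ⊗ M`. -/
theorem comp_πM_ne_zero (I : X.IdealSheafData) (M : X.Modules) (hM : PicF.IsInvertible M)
    (p : X) (hpI : p ∈ (I.support : Set X))
    (s₀ : Coh.structureModule X ⟶ CohB1.tensorMod (Coh.structureModule X) M)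
    (hp : p ∈ CohB1.genLocus _ s₀) :
    s₀ ≫ πM I M ≠ 0 := by
  intro h0
  obtain ⟨W, e, hpW, hgen⟩ := exists_gen M hM p
  have hg : IsGen (CohB1.tensorMod (Coh.structureModule X) M) W (tm (Coh.structureModule X) M W (toS W 1) e) :=
    isGen_tm (Coh.structureModule X) M W (toS W 1) e (isGen_one W) hgen
  have hloc := genLocus_inf_eq_coef s₀ hg
  set c := coef hg le_rfl (sv s₀ W) with hc
  have hsv : sv s₀ W = c • tm (Coh.structureModule X) M W (toS W 1) e := sv_eq_coef_smul s₀ hg
  have hpc : p ∈ X.basicOpen c := by rw [← hloc]; exact ⟨hp, hpW⟩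
  have h1 : (πM I M).app W (sv s₀ W) = 0 := by
    have h := Groth.Agent.Lib.T2H6.NegTwistB.sv_comp s₀ (πM I M) W
    rw [h0] at h
    rw [← h]
    exact sv_zero W
  have h2 : (πM I M).app W (c • tm (Coh.structureModule X) M W (toS W 1) e) =
      c • tm (ClSub.quotMod I) M W ((ClSub.toSubscheme I).app W (toS W 1)) e := by
    rw [Scheme.Modules.Hom.app_smul]
    congr 1
    exact trMap_toSubscheme_tm I M W 1 e
  have h3 : c • tm (ClSub.quotMod I) M W ((ClSub.toSubscheme I).app W (toS W 1)) e = 0 := by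
    rw [← h2, ← hsv, h1]
  have h4 : tm (ClSub.quotMod I) M W (c • (ClSub.toSubscheme I).app W (toS W 1)) (res M (le_refl W) e) =
      tm (ClSub.quotMod I) M W 0 (res M (le_refl W) e) := by
    rw [Groth.Agent.Lib.Helper23.SecTw.res_self, tm_smul_left, tm_zero_left]
    exact h3
  have h5 : c • (ClSub.toSubscheme I).app W (toS W 1) = 0 :=
    injective_tm_of_isGen (ClSub.quotMod I) M W e hgen W le_rfl h4
  have h6 : (I.subschemeι.app W) c = 0 := by
    have h7 := smul_toSubscheme_one I W c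
    rw [h5] at h7
    exact (congrArg (ofS (I.subschemeι ⁻¹ᵁ W)) h7).symm
  rw [← I.range_subschemeι] at hpI
  obtain ⟨z, hz⟩ := hpI
  have hz' : z ∈ I.subschemeι ⁻¹ᵁ (X.basicOpen c) := by
    change I.subschemeι z ∈ X.basicOpen c
    rw [hz]; exact hpc
  rw [Scheme.preimage_basicOpen, h6, Scheme.basicOpen_zero] at hz'
  exact hz'

section curve

variable (k : Type u) [Field k] [X.Over (Spec (CommRingCat.of k))] [IsIntegral X]
  [IsProper (X ↘ Spec (CommRingCat.of k))]

omit [IsProper (X ↘ Spec (CommRingCat.of k))] [X.Over (Spec (CommRingCat.of k))] in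
theorem genericPoint_ne_of_isClosed (hdim : topologicalKrullDim X = 1) (p : X)
    (hp : IsClosed ({p} : Set X)) : genericPoint X ≠ p := by
  intro h
  have huniv : (Set.univ : Set X) = {p} := by
    rw [← genericPoint_closure X, h, hp.closure_eq]
  haveI : Subsingleton X := by
    constructor
    intro a b
    have ha : a ∈ ({p} : Set X) := huniv ▸ Set.mem_univ a
    have hb : b ∈ ({p} : Set X) := huniv ▸ Set.mem_univ b
    rw [Set.mem_singleton_iff.mp ha, Set.mem_singleton_iff.mp hb]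
  haveI : DiscreteTopology X := inferInstance
  have := topologicalKrullDim_zero_of_discreteTopology X
  rw [hdim] at this
  exact absurd this (by decide)

/-- the twisted ideal sequence `0 → I_p ⊗ M → O ⊗ M → O_p ⊗ M → 0`. -/
noncomputable def twSC (I : X.IdealSheafData) (M : X.Modules) : ShortComplex X.Modules :=
  (idealSC I).map (tr M)

/-- **Twisting down by a rational point** at which some section does not vanish: `h⁰` drops by one and `h¹` is
unchanged. -/
theorem drop (hdim : topologicalKrullDim X = 1) (p : X) (hp : IsClosed ({p} : Set X))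
    (hrat : Function.Surjective (Curv2.resMap k X p))
    (M : X.Modules) (hM : PicF.IsInvertible M)
    (s₀ : Coh.structureModule X ⟶ CohB1.tensorMod (Coh.structureModule X) M)
    (hps : p ∈ CohB1.genLocus _ s₀) :
    Module.finrank k (Coh.HH X (CohB1.tensorMod (ClSub.idealMod (ptIdeal p hp)) M) 0) + 1 =
      Module.finrank k (Coh.HH X (CohB1.tensorMod (Coh.structureModule X) M) 0) ∧
    Module.finrank k (Coh.HH X (CohB1.tensorMod (ClSub.idealMod (ptIdeal p hp)) M) 1) =
      Module.finrank k (Coh.HH X (CohB1.tensorMod (Coh.structureModule X) M) 1) := by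
  haveI : IsNoetherian X := Groth.Agent.Lib.T2H6.CurveSatur.isNoetherian_of_proper k
  have hS : (twSC (ptIdeal p hp) M).ShortExact :=
    shortExact_map_tr hM (idealSC (ptIdeal p hp)) (idealSC_shortExact (ptIdeal p hp))
  have hOc : Coh.IsCoh (Coh.structureModule X) := Groth.Agent.Lib.T2H5.GenIsoF.isCoh_structureModule
  have hQc : Coh.IsCoh (ClSub.quotMod (ptIdeal p hp)) := isCoh_quotMod (ptIdeal p hp)
  have hMc := Groth.Agent.Lib.T2H6.CurveDeg.isCoh_of_isInvertible M hM
  have hIc : Coh.IsCoh (ClSub.idealMod (ptIdeal p hp)) :=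
    Groth.Agent.Lib.T2H5.Devissage.isCoh_of_mono (ClSub.idealModι (ptIdeal p hp)) hOc
      (isQuasicoherent_idealMod (ptIdeal p hp))
  have h1c : Coh.IsCoh (twSC (ptIdeal p hp) M).X₁ :=
    Groth.Agent.Lib.T2H6.TensorDeg.isCoh_tensor _ M hIc hMc
  have h2c : Coh.IsCoh (twSC (ptIdeal p hp) M).X₂ :=
    Groth.Agent.Lib.T2H6.TensorDeg.isCoh_tensor _ M hOc hMc
  have h3c : Coh.IsCoh (twSC (ptIdeal p hp) M).X₃ :=
    Groth.Agent.Lib.T2H6.TensorDeg.isCoh_tensor _ M hQc hMc
  -- the support of `O_p ⊗ M`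
  have hQsupp : CohB1.support (ClSub.quotMod (ptIdeal p hp)) ⊆ {p} := by
    have h := support_quotMod_subset (ptIdeal p hp)
    rwa [coe_support_ptIdeal] at h
  have hQpts : ∀ x ∈ CohB1.support (ClSub.quotMod (ptIdeal p hp)), IsClosed ({x} : Set X) := by
    intro x hx
    rw [Set.mem_singleton_iff.1 (hQsupp hx)]
    exact hp
  have hQMsupp : CohB1.support (CohB1.tensorMod (ClSub.quotMod (ptIdeal p hp)) M) ⊆ {p} :=
    (Groth.Agent.Lib.T2H5.Dim0.support_tensorMod_subset _ _).trans hQsupp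
  have hQMpts : ∀ x ∈ CohB1.support (CohB1.tensorMod (ClSub.quotMod (ptIdeal p hp)) M),
      IsClosed ({x} : Set X) := by
    intro x hx
    rw [Set.mem_singleton_iff.1 (hQMsupp hx)]
    exact hp
  -- `h⁰(O_p ⊗ M) = 1`
  have hM1 := Groth.Agent.Lib.Helper23.SecTw.isFinLocFreeOfRank_one_of_isInvertible M hM
  have e1 := Groth.Agent.Lib.T2H6.EffCartier.euler_tensor_of_closedPoints k _ hQc hQpts 1 M hM1
  have h3c' : Coh.IsCoh (CohB1.tensorMod (ClSub.quotMod (ptIdeal p hp)) M) := h3c
  rw [Groth.Agent.Lib.T2H6.PosD.euler_eq_finrank_of_closedPoints k _ h3c' hQMpts,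
    Groth.Agent.Lib.T2H6.PosD.euler_eq_finrank_of_closedPoints k _ hQc hQpts,
    finrank_HH_zero_quotMod_ptIdeal k p hp hrat] at e1
  have e1' : Module.finrank k (Coh.HH X (twSC (ptIdeal p hp) M).X₃ 0) = 1 := by
    have : (Module.finrank k (Coh.HH X (CohB1.tensorMod (ClSub.quotMod (ptIdeal p hp)) M) 0) : ℤ) = 1 := by
      rw [e1]; simp
    exact_mod_cast this
  -- torsion
  have ht : IsTors (twSC (ptIdeal p hp) M).X₃ := by
    rw [isTors_iff]
    intro hgen
    exact genericPoint_ne_of_isClosed hdim p hp (Set.mem_singleton_iff.1 (hQMsupp hgen))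
  have ha := Groth.Agent.Lib.T2H6.CurveLinSer.finrank_H0_eq k (twSC (ptIdeal p hp) M) hS h2c
  have hb := Groth.Agent.Lib.T2H6.CurveLinSer.finrank_H1_add k hdim (twSC (ptIdeal p hp) M) hS h1c h2c h3c ht
  -- the rank of `H⁰(O ⊗ M) → H⁰(O_p ⊗ M)` is one
  haveI : Module.Finite k (Coh.HH X (twSC (ptIdeal p hp) M).X₃ 0) :=
    Groth.Agent.Lib.T2H6.EulerField.finite_HH k X _ h3c 0
  have hr1 : Module.finrank k (LinearMap.range (Canon.HHlin k (twSC (ptIdeal p hp) M).g 0)) ≤ 1 := by
    rw [← e1']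
    exact Submodule.finrank_le _
  have hr2 : 1 ≤ Module.finrank k (LinearMap.range (Canon.HHlin k (twSC (ptIdeal p hp) M).g 0)) := by
    rw [Nat.one_le_iff_ne_zero, Ne, Submodule.finrank_eq_zero, ← Ne]
    intro hbot
    have hne := comp_πM_ne_zero (ptIdeal p hp) M hM p (by rw [coe_support_ptIdeal]; rfl) s₀ hps
    apply hne
    apply (Groth.Agent.Lib.T2H6.CurveSerre.bijective_evLin k _).1
    rw [map_zero]
    have h1 : Groth.Agent.Lib.T2H6.CurveSerre.evLin k _ (s₀ ≫ πM (ptIdeal p hp) M) =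
        Canon.HHlin k (twSC (ptIdeal p hp) M).g 0
          (Groth.Agent.Lib.T2H6.CurveSerre.evLin k _ s₀) :=
      Groth.Agent.Lib.T2H6.HHLin.HHlin_comp_apply k s₀ (πM (ptIdeal p hp) M) 0 _
    rw [h1]
    have h2 : Canon.HHlin k (twSC (ptIdeal p hp) M).g 0 (Groth.Agent.Lib.T2H6.CurveSerre.evLin k _ s₀) ∈
        LinearMap.range (Canon.HHlin k (twSC (ptIdeal p hp) M).g 0) := LinearMap.mem_range_self _ _
    rw [hbot] at h2
    exact (Submodule.mem_bot k).1 h2
  change Module.finrank k (Coh.HH X (twSC (ptIdeal p hp) M).X₁ 0) + 1 =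
      Module.finrank k (Coh.HH X (twSC (ptIdeal p hp) M).X₂ 0) ∧
    Module.finrank k (Coh.HH X (twSC (ptIdeal p hp) M).X₁ 1) =
      Module.finrank k (Coh.HH X (twSC (ptIdeal p hp) M).X₂ 1)
  constructor <;> omega

end curve

end Groth.Agent.Lib.T2H6.PtTwistB
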