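import Mathlib
import Groth.Agent.Lib.T2H6PtTwistB
import Groth.Agent.Lib.T2H6CurveRR
import Groth.Agent.Lib.T2H6PosH
import Groth.Agent.Lib.T2H6PosI
import Groth.Agent.Lib.T2H6FieldBC2
import Groth.Agent.Lib.T2H6ResFinite
set_option backward.isDefEq.respectTransparency.types false

/-!
# Twisting down: invertible modules with prescribed `h⁰` on a curve (helper6)

Namespace `Groth.Agent.Lib.T2H6.PtTwistC`.

`EnoughPts k X` : every nonempty open contains a rational closed point whose ideal is invertible.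
Under this hypothesis, from an invertible `M` one gets invertible modules with the same `h¹` and any smaller `h⁰`.
-/

set_option autoImplicit false
set_option linter.style.haveILetI false
set_option linter.unusedSectionVars false
universe u
open CategoryTheory CategoryTheory.Limits Opposite TopologicalSpace AlgebraicGeometry

namespace Groth.Agent.Lib.T2H6.PtTwistC

open Groth.Agent.Lib.T2H6.PtTwistA Groth.Agent.Lib.T2H6.PtTwistB

variable (k : Type u) [Field k] (X : Scheme.{u}) [X.Over (Spec (CommRingCat.of k))]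

/-- every open containing the generic point contains a rational closed point with invertible ideal. -/
def EnoughPts [IsIntegral X] : Prop :=
  ∀ U : X.Opens, genericPoint X ∈ U → ∃ (p : X) (hp : IsClosed ({p} : Set X)), p ∈ U ∧
    Function.Surjective (Curv2.resMap k X p) ∧ PicF.IsInvertible (ClSub.idealMod (ptIdeal p hp))

/-- closed points of a scheme locally of finite type over an algebraically closed field are rational. -/
theorem surjective_resMap [IsAlgClosed k] [LocallyOfFiniteType (X ↘ Spec (CommRingCat.of k))] (p : X)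
    (hp : IsClosed ({p} : Set X)) : Function.Surjective (Curv2.resMap k X p) :=
  (IsAlgClosed.ringHom_bijective_of_isIntegral _
    (Groth.Agent.Lib.T2H6.ResFinite.finite_resMap k X p hp).to_isIntegral).2

variable {X}
variable [IsIntegral X] [IsProper (X ↘ Spec (CommRingCat.of k))]

/-- one step of twisting down. -/
theorem exists_drop (hE : EnoughPts k X) (hdim : topologicalKrullDim X = 1)
    (M : X.Modules) (hM : PicF.IsInvertible M) (h0 : Module.finrank k (Coh.HH X M 0) ≠ 0) :
    ∃ M' : X.Modules, PicF.IsInvertible M' ∧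
      Module.finrank k (Coh.HH X M' 0) + 1 = Module.finrank k (Coh.HH X M 0) ∧
      Module.finrank k (Coh.HH X M' 1) = Module.finrank k (Coh.HH X M 1) := by
  have e := Groth.Agent.Lib.Helper23.TensorUnit.unitTensorIso M
  have e0 := Groth.Agent.Lib.T2H6.FieldBC.finrank_HH_eq_of_iso k X e 0
  have e1 := Groth.Agent.Lib.T2H6.FieldBC.finrank_HH_eq_of_iso k X e 1
  have hOM : PicF.IsInvertible (CohB1.tensorMod (Coh.structureModule X) M) :=
    Groth.Agent.Lib.Helper23.SecTw.isInvertible_tensorMod
      (Groth.Agent.Lib.Helper23.TensorUnit.isInvertible_structureModule X) hM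
  have hnt : Nontrivial (Coh.HH X (CohB1.tensorMod (Coh.structureModule X) M) 0) := by
    apply Module.nontrivial_of_finrank_pos (R := k)
    rw [e0]
    exact Nat.pos_of_ne_zero h0
  obtain ⟨s₀, hs₀⟩ := Groth.Agent.Lib.T2H6.CurveRR.exists_section_ne_zero _ hnt
  have hgen := Groth.Agent.Lib.T2H6.PosH.genericPoint_mem_genLocus _ hOM s₀ hs₀
  obtain ⟨p, hp, hpU, hrat, hinv⟩ := hE (CohB1.genLocus _ s₀) hgen
  obtain ⟨d0, d1⟩ := drop k hdim p hp hrat M hM s₀ hpU
  refine ⟨CohB1.tensorMod (ClSub.idealMod (ptIdeal p hp)) M,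
    Groth.Agent.Lib.Helper23.SecTw.isInvertible_tensorMod hinv hM, ?_, ?_⟩
  · rw [d0, e0]
  · rw [d1, e1]

/-- twisting down `d` times. -/
theorem exists_drop_many (hE : EnoughPts k X) (hdim : topologicalKrullDim X = 1) :
    ∀ (d : ℕ) (M : X.Modules), PicF.IsInvertible M → d ≤ Module.finrank k (Coh.HH X M 0) →
    ∃ M' : X.Modules, PicF.IsInvertible M' ∧
      Module.finrank k (Coh.HH X M' 0) + d = Module.finrank k (Coh.HH X M 0) ∧
      Module.finrank k (Coh.HH X M' 1) = Module.finrank k (Coh.HH X M 1)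
  | 0, M, hM, _ => ⟨M, hM, rfl, rfl⟩
  | d + 1, M, hM, hd => by
    obtain ⟨M₁, hM₁, a0, a1⟩ := exists_drop k hE hdim M hM (by omega)
    obtain ⟨M₂, hM₂, b0, b1⟩ := exists_drop_many hE hdim d M₁ hM₁ (by omega)
    exact ⟨M₂, hM₂, by omega, by omega⟩

/-- from a positive degree invertible module: an invertible module with sections and no `H¹`. -/
theorem exists_h1_zero [IsAlgClosed k] (hdim : topologicalKrullDim X = 1) (L₀ : X.Modules)
    (hL₀ : PicF.IsInvertible L₀) (hdeg : 0 < Curv2.deg k X L₀ 1) (c : ℕ) :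
    ∃ M : X.Modules, PicF.IsInvertible M ∧ c ≤ Module.finrank k (Coh.HH X M 0) ∧
      Module.finrank k (Coh.HH X M 1) = 0 := by
  have hOc : Coh.IsCoh (Coh.structureModule X) := Groth.Agent.Lib.T2H5.GenIsoF.isCoh_structureModule
  obtain ⟨n₀, hn₀⟩ := Groth.Agent.Lib.T2H6.CurveSerre.exists_vanishing k hdim L₀ hL₀ hdeg _ hOc
  set g := Module.finrank k (Coh.HH X (Coh.structureModule X) 1) with hg
  set n := max n₀ (g + c) with hn
  have hLn := Groth.Agent.Lib.Helper23.SecTw.isInvertible_tensorPow hL₀ n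
  have hM : PicF.IsInvertible (CohB1.tensorMod (Coh.structureModule X) (CohB1.tensorPow L₀ n)) :=
    Groth.Agent.Lib.Helper23.SecTw.isInvertible_tensorMod
      (Groth.Agent.Lib.Helper23.TensorUnit.isInvertible_structureModule X) hLn
  haveI := hn₀ n (le_max_left _ _)
  have h1 : Module.finrank k (Coh.HH X (CohB1.tensorMod (Coh.structureModule X) (CohB1.tensorPow L₀ n)) 1) = 0 :=
    Module.finrank_zero_of_subsingleton
  refine ⟨_, hM, ?_, h1⟩
  have e := Groth.Agent.Lib.Helper23.TensorUnit.unitTensorIso (CohB1.tensorPow L₀ n)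
  have e0 := Groth.Agent.Lib.T2H6.FieldBC.finrank_HH_eq_of_iso k X e 0
  have e1 := Groth.Agent.Lib.T2H6.FieldBC.finrank_HH_eq_of_iso k X e 1
  haveI : (CohB1.tensorPow L₀ n).IsQuasicoherent :=
    (Groth.Agent.Lib.T2H6.CurveDeg.isCoh_of_isInvertible _ hLn).1
  haveI : (Coh.structureModule X).IsQuasicoherent := hOc.1
  have a1 := Groth.Agent.Lib.T2H6.CurveRR.euler_eq_sub k hdim (CohB1.tensorPow L₀ n)
  have a2 := Groth.Agent.Lib.T2H6.CurveRR.euler_eq_sub k hdim (Coh.structureModule X)
  have a3 : Curv2.euler k X (CohB1.tensorPow L₀ n) - ((1 : ℕ) : ℤ) * Curv2.euler k X (Coh.structureModule X) =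
      n * Curv2.deg k X L₀ 1 := Groth.Agent.Lib.T2H6.CurveSerre.deg_tensorPow k hdim L₀ hL₀ n
  have a4 := Groth.Agent.Lib.T2H6.PosI.finrank_HH_zero_structureModule k X
  have a5 : (n : ℤ) ≤ n * Curv2.deg k X L₀ 1 := by
    have : (0 : ℤ) ≤ n := Int.natCast_nonneg n
    nlinarith
  have a6 : g + c ≤ n := le_max_right _ _
  rw [e0]
  rw [e1] at h1
  rw [h1, ] at a1
  rw [a4, ← hg] at a2
  push_cast at a1 a2 a3
  have : (c : ℤ) ≤ (Module.finrank k (Coh.HH X (CohB1.tensorPow L₀ n) 0) : ℤ) := by
    have : ((g + c : ℕ) : ℤ) ≤ n := by exact_mod_cast a6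
    push_cast at this
    linarith
  exact_mod_cast this

/-- finrank zero means subsingleton for the cohomology of an invertible module. -/
theorem subsingleton_of_finrank_eq_zero (M : X.Modules) (hM : PicF.IsInvertible M) (i : ℕ)
    (h : Module.finrank k (Coh.HH X M i) = 0) : Subsingleton (Coh.HH X M i) := by
  haveI : Module.Finite k (Coh.HH X M i) :=
    Groth.Agent.Lib.T2H6.EulerField.finite_HH k X M
      (Groth.Agent.Lib.T2H6.CurveDeg.isCoh_of_isInvertible M hM) i
  exact Module.finrank_zero_iff.1 h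

/-- **Existence of invertible modules with `(h⁰, h¹) = (1, 0)` and `(0, 0)`**, given enough points and a module of
positive degree. -/
theorem main1523 [IsAlgClosed k] (hE : EnoughPts k X) (hdim : topologicalKrullDim X = 1) (L₀ : X.Modules)
    (hL₀ : PicF.IsInvertible L₀) (hdeg : 0 < Curv2.deg k X L₀ 1) :
    (∃ L : X.Modules, PicF.IsInvertible L ∧ Module.finrank k (Coh.HH X L 0) = 1 ∧
      Subsingleton (Coh.HH X L 1)) ∧
    (∃ N : X.Modules, PicF.IsInvertible N ∧ Subsingleton (Coh.HH X N 0) ∧ Subsingleton (Coh.HH X N 1)) := by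
  obtain ⟨M, hM, h0, h1⟩ := exists_h1_zero k hdim L₀ hL₀ hdeg 1
  constructor
  · obtain ⟨M', hM', a0, a1⟩ := exists_drop_many k hE hdim (Module.finrank k (Coh.HH X M 0) - 1) M hM (by omega)
    refine ⟨M', hM', by omega, subsingleton_of_finrank_eq_zero k M' hM' 1 (by omega)⟩
  · obtain ⟨M', hM', a0, a1⟩ := exists_drop_many k hE hdim (Module.finrank k (Coh.HH X M 0)) M hM le_rfl
    exact ⟨M', hM', subsingleton_of_finrank_eq_zero k M' hM' 0 (by omega),
      subsingleton_of_finrank_eq_zero k M' hM' 1 (by omega)⟩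

end Groth.Agent.Lib.T2H6.PtTwistC
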