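import Mathlib
import Groth.Prelude
import Groth.Agent.Lib.T2H3StalkSmooth
import Groth.Agent.Lib.Helper19ComplDVR
import Groth.Agent.Lib.Helper6OmProjC
import Groth.Agent.Lib.Helper4FibDimL

/-!
# DVR iff smooth at a closed point with separable residue field (helper9, S1556)
-/

set_option autoImplicit false
set_option linter.style.haveILetI false
set_option linter.unusedSectionVars false
universe u
open CategoryTheory CategoryTheory.Limits AlgebraicGeometry TopologicalSpace

namespace Groth.Agent.Lib.T2H9.DVRSmooth

attribute [local instance] Curv2.resAlgebra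

/-- a closed point of an integral scheme of dimension one has a one-dimensional local ring -/
theorem ringKrullDim_stalk_eq_one_of_isClosed (X : Scheme.{u}) [IsIntegral X]
    (hdim : topologicalKrullDim X = 1) (x : X) (hx : IsClosed ({x} : Set X)) :
    ringKrullDim (X.presheaf.stalk x) = 1 := by
  apply le_antisymm
  · rw [← hdim]
    exact Groth.Agent.Lib.Helper4.FibDim.ringKrullDim_stalk_le_topologicalKrullDim X x
  · have hne : x ≠ genericPoint X := by
      intro h
      have huniv : (Set.univ : Set X) = {x} := by
        rw [← genericPoint_closure X, ← h, hx.closure_eq]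
      haveI : Subsingleton X := by
        constructor
        intro a b
        have ha : a ∈ ({x} : Set X) := huniv ▸ Set.mem_univ a
        have hb : b ∈ ({x} : Set X) := huniv ▸ Set.mem_univ b
        rw [Set.mem_singleton_iff.mp ha, Set.mem_singleton_iff.mp hb]
      haveI : DiscreteTopology X := inferInstance
      have := topologicalKrullDim_zero_of_discreteTopology X
      rw [hdim] at this
      exact absurd this (by decide)
    have hlt : x < genericPoint X := by
      refine lt_iff_le_not_ge.mpr ⟨Scheme.le_iff_specializes.mpr (genericPoint_specializes x), ?_⟩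
      intro h
      have h1 : genericPoint X ∈ closure ({x} : Set X) :=
        specializes_iff_mem_closure.mp (Scheme.le_iff_specializes.mp h)
      rw [hx.closure_eq] at h1
      exact hne h1.symm
    rw [ringKrullDim_stalk_eq_coheight]
    have h2 := Order.coheight_add_one_le hlt
    have h3 : (1 : ℕ∞) ≤ Order.coheight x := le_trans le_add_self h2
    exact_mod_cast h3


open IsLocalRing in
/-- **DVR iff smooth** at a closed point with separable residue field on an integral curve -/
theorem main (k : Type u) [Field k] (X : Scheme.{u}) [X.Over (Spec (CommRingCat.of k))]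
    [IsIntegral X] [LocallyOfFinitePresentation (X ↘ (Spec (CommRingCat.of k)))]
    (hdim : topologicalKrullDim X = 1) (x : X) (hx : IsClosed ({x} : Set X))
    [Algebra.IsSeparable k (X.residueField x)] :
    IsDiscreteValuationRing (X.presheaf.stalk x) ↔
      x ∈ (X ↘ (Spec (CommRingCat.of k))).smoothLocus := by
  letI algB := Curv2.stalkAlgebra k X x
  haveI : LocallyOfFiniteType (X ↘ (Spec (CommRingCat.of k))) := inferInstance
  haveI hess := Groth.Agent.Lib.T2H3.StalkSmooth.essFiniteType_stalk k X x
  haveI : IsLocallyNoetherian X :=
    LocallyOfFiniteType.isLocallyNoetherian (X ↘ (Spec (CommRingCat.of k)))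
  haveI : IsNoetherianRing (X.presheaf.stalk x) := inferInstance
  have hd1 := ringKrullDim_stalk_eq_one_of_isClosed X hdim x hx
  rw [Groth.Agent.Lib.T2H3.StalkSmooth.mem_smoothLocus_iff_formallySmooth_stalk k X x]
  have hiff := Groth.Agent.Lib.Helper19.isDiscreteValuationRing_iff_regular_dim_one
    (X.presheaf.stalk x)
  constructor
  · intro hdvr
    haveI hreg : IsRegularLocalRing (X.presheaf.stalk x) := (hiff.mp ⟨inferInstance, hdvr⟩).1
    -- the residue field is formally smooth over `k`
    haveI hfe : Algebra.FormallyEtale k (X.residueField x) :=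
      Algebra.FormallyEtale.of_isSeparable k (X.residueField x)
    haveI hfs : Algebra.FormallySmooth k (ResidueField (X.presheaf.stalk x)) := by
      let e : (X.residueField x) ≃ₐ[k] ResidueField (X.presheaf.stalk x) :=
        AlgEquiv.ofRingEquiv (f := RingEquiv.refl _) (fun c => rfl)
      exact Algebra.FormallySmooth.of_equiv e
    exact Groth.Agent.Lib.T2H3.StalkSmooth.formallySmooth_of_isRegularLocalRing_of_residueField k
      (X.presheaf.stalk x)
  · intro hfs
    haveI := hfs
    have hreg : IsRegularLocalRing (X.presheaf.stalk x) :=
      Groth.Agent.Lib.Helper6.OmProj.isRegularLocalRing_of_formallySmooth (k := k)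
    obtain ⟨_, hdvr⟩ := hiff.mpr ⟨hreg, hd1⟩
    exact hdvr

end Groth.Agent.Lib.T2H9.DVRSmooth
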