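import Mathlib
import Groth.Agent.Lib.T2H6PtTwistC
import Groth.Agent.Lib.T2H9DVRSmooth
import Groth.Agent.Lib.T2H2UFDCartierSch
import Groth.Agent.Lib.Helper18Cart1
import Groth.Agent.Lib.T2H5GenIsoE
import Groth.Agent.Lib.T2H9TensorInv
import Groth.Agent.Lib.T2H6TensorDegGen
set_option backward.isDefEq.respectTransparency.types false

/-!
# Rational points with invertible ideal on a curve over an algebraically closed field (helper6)

Namespace `Groth.Agent.Lib.T2H6.PtTwistD`.

* `exists_dvr_point` : every nonempty open of an integral proper curve over an algebraically closed field contains a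
  closed (rational) point whose local ring is a discrete valuation ring.
* `isInvertible_idealMod_ptIdeal` : the ideal of such a point is invertible.
* `enoughPts`, `deg_tensor1`, `deg_inv`, `exists_deg_one`.
* `main1523'` : invertible modules with `(h⁰, h¹) = (1, 0)` and `(0, 0)`.
* `h1_vanish` : `deg L ≥ 2g - 1 ⇒ H¹(L) = 0`.
-/

set_option autoImplicit false
set_option linter.style.haveILetI false
set_option linter.unusedSectionVars false
universe u
open CategoryTheory CategoryTheory.Limits Opposite TopologicalSpace AlgebraicGeometry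

namespace Groth.Agent.Lib.T2H6.PtTwistD

open Groth.Agent.Lib.T2H6.PtTwistA Groth.Agent.Lib.T2H6.PtTwistB Groth.Agent.Lib.T2H6.PtTwistC
  Groth.Agent.Lib.T2H5.Twist

/-- the ideal of a closed point with a discrete valuation local ring on an integral curve is invertible. -/
theorem isInvertible_idealMod_ptIdeal (X : Scheme.{u}) [IsIntegral X] [IsLocallyNoetherian X]
    (hdim : topologicalKrullDim X = 1) (p : X) (hp : IsClosed ({p} : Set X))
    (hdvr : IsDiscreteValuationRing (X.presheaf.stalk p)) :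
    PicF.IsInvertible (ClSub.idealMod (ptIdeal p hp)) := by
  haveI : IsIntegral (ptIdeal p hp).subscheme :=
    Groth.Agent.Lib.T2H5.GenIsoE.isIntegral_subscheme_vanishingIdeal {p} hp isIrreducible_singleton
  apply Groth.Agent.Helper18Cart.isInvertible_of_isEffCartier
  apply Groth.Agent.Lib.T2H2.UFDCartierSch.isEffCartierIdeal_of_ufd
  · have hmem : (ptIdeal p hp).subschemeι (genericPoint (ptIdeal p hp).subscheme) ∈
        ((ptIdeal p hp).support : Set X) := by
      rw [← Scheme.IdealSheafData.range_subschemeι]; exact ⟨_, rfl⟩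
    rw [coe_support_ptIdeal] at hmem
    rw [Set.mem_singleton_iff.1 hmem]
    exact Groth.Agent.Lib.T2H9.DVRSmooth.ringKrullDim_stalk_eq_one_of_isClosed X hdim p hp
  · intro x hx
    have hx' : x ∈ ((ptIdeal p hp).support : Set X) := hx
    rw [coe_support_ptIdeal] at hx'
    rw [Set.mem_singleton_iff.1 hx']
    exact ⟨inferInstance, inferInstance⟩

section degrees

variable (k : Type u) [Field k] {X : Scheme.{u}} [X.Over (Spec (CommRingCat.of k))]
  [IsIntegral X] [IsProper (X ↘ Spec (CommRingCat.of k))]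

theorem deg_eq_of_iso {M N : X.Modules} (e : M ≅ N) (n : ℕ) : Curv2.deg k X M n = Curv2.deg k X N n := by
  unfold Curv2.deg
  rw [Groth.Agent.Lib.T2H6.FieldBC.euler_eq_of_iso k X e]

/-- the degree of invertible modules is additive. -/
theorem deg_tensor1 (hdim : topologicalKrullDim X = 1) (L M : X.Modules) (hL : PicF.IsInvertible L)
    (hM : PicF.IsInvertible M) :
    Curv2.deg k X (CohB1.tensorMod L M) 1 = Curv2.deg k X L 1 + Curv2.deg k X M 1 := by
  have hL1 := Groth.Agent.Lib.Helper23.SecTw.isFinLocFreeOfRank_one_of_isInvertible L hL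
  have hM1 := Groth.Agent.Lib.Helper23.SecTw.isFinLocFreeOfRank_one_of_isInvertible M hM
  have h := Groth.Agent.Lib.T2H6.TensorDegGen.deg_tensor k hdim.le 1 1 L M hL1 hM1
  have h' : Curv2.deg k X (CohB1.tensorMod L M) 1 =
      ((1 : ℕ) : ℤ) * Curv2.deg k X M 1 + ((1 : ℕ) : ℤ) * Curv2.deg k X L 1 := h
  rw [h']
  push_cast
  ring

/-- the degree of the inverse. -/
theorem deg_inv (hdim : topologicalKrullDim X = 1) (L : X.Modules) (hL : PicF.IsInvertible L) :
    Curv2.deg k X (Groth.Agent.Lib.T2H9.TensorInv.inv L) 1 = - Curv2.deg k X L 1 := by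
  have h1 := deg_tensor1 k hdim _ L (Groth.Agent.Lib.T2H9.TensorInv.isInvertible_inv L hL) hL
  have h2 := deg_eq_of_iso k (Groth.Agent.Lib.T2H9.TensorInv.invTensorIso L hL) 1
  rw [Groth.Agent.Lib.T2H6.CurveDeg.deg_structureModule] at h2
  linarith

/-- the degree of the ideal of a rational point is `-1`. -/
theorem deg_idealMod_ptIdeal (p : X) (hp : IsClosed ({p} : Set X))
    (hrat : Function.Surjective (Curv2.resMap k X p)) :
    Curv2.deg k X (ClSub.idealMod (ptIdeal p hp)) 1 = -1 := by
  haveI : IsNoetherian X := Groth.Agent.Lib.T2H6.CurveSatur.isNoetherian_of_proper k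
  have hOc : Coh.IsCoh (Coh.structureModule X) := Groth.Agent.Lib.T2H5.GenIsoF.isCoh_structureModule
  have hQc : Coh.IsCoh (ClSub.quotMod (ptIdeal p hp)) :=
    Groth.Agent.Lib.T2H6.ParShC.isCoh_quotMod (ptIdeal p hp)
  have hIc : Coh.IsCoh (ClSub.idealMod (ptIdeal p hp)) :=
    Groth.Agent.Lib.T2H5.Devissage.isCoh_of_mono (ClSub.idealModι (ptIdeal p hp)) hOc
      (Groth.Agent.Lib.T2H6.AmpleCrit.isQuasicoherent_idealMod (ptIdeal p hp))
  have hadd := Groth.Agent.Lib.T2H6.EulerField.euler_additive k X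
    (Groth.Agent.Lib.T2H6.AmpleCrit.idealSC (ptIdeal p hp))
    (Groth.Agent.Lib.T2H6.AmpleCrit.idealSC_shortExact (ptIdeal p hp)) hIc hOc hQc
  have hQsupp : CohB1.support (ClSub.quotMod (ptIdeal p hp)) ⊆ {p} := by
    have h := Groth.Agent.Lib.T2H6.ParShC.support_quotMod_subset (ptIdeal p hp)
    rwa [coe_support_ptIdeal] at h
  have hQpts : ∀ x ∈ CohB1.support (ClSub.quotMod (ptIdeal p hp)), IsClosed ({x} : Set X) := by
    intro x hx
    rw [Set.mem_singleton_iff.1 (hQsupp hx)]
    exact hp
  have hq : Curv2.euler k X (ClSub.quotMod (ptIdeal p hp)) = 1 := by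
    rw [Groth.Agent.Lib.T2H6.PosD.euler_eq_finrank_of_closedPoints k _ hQc hQpts,
      finrank_HH_zero_quotMod_ptIdeal k p hp hrat]
    rfl
  change Curv2.euler k X (Coh.structureModule X) =
    Curv2.euler k X (ClSub.idealMod (ptIdeal p hp)) + Curv2.euler k X (ClSub.quotMod (ptIdeal p hp)) at hadd
  unfold Curv2.deg
  push_cast
  linarith

end degrees

section closed

variable (k : Type u) [Field k] [IsAlgClosed k] (X : Scheme.{u}) [X.Over (Spec (CommRingCat.of k))]
  [IsIntegral X] [IsProper (X ↘ Spec (CommRingCat.of k))]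

attribute [local instance] Curv2.resAlgebra

/-- every open containing the generic point contains a closed rational point with a discrete valuation local ring. -/
theorem exists_dvr_point (hdim : topologicalKrullDim X = 1) (U : X.Opens) (hU : genericPoint X ∈ U) :
    ∃ p : X, p ∈ U ∧ IsClosed ({p} : Set X) ∧ IsDiscreteValuationRing (X.presheaf.stalk p) ∧
      Function.Surjective (Curv2.resMap k X p) := by
  haveI : LocallyOfFiniteType (X ↘ Spec (CommRingCat.of k)) := inferInstance
  haveI : LocallyOfFinitePresentation (X ↘ Spec (CommRingCat.of k)) := inferInstance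
  haveI : JacobsonSpace X := LocallyOfFiniteType.jacobsonSpace (X ↘ Spec (CommRingCat.of k))
  have hg : genericPoint X ∈ (X ↘ Spec (CommRingCat.of k)).smoothLocus :=
    Scheme.Hom.genericPoint_mem_smoothLocus_of_perfectField (X ↘ Spec (CommRingCat.of k))
  obtain ⟨p, ⟨hpU, hps⟩, hpc⟩ := nonempty_inter_closedPoints
    (Z := ((U ⊓ (X ↘ Spec (CommRingCat.of k)).smoothLocus : X.Opens) : Set X))
    ⟨genericPoint X, hU, hg⟩ (U ⊓ (X ↘ Spec (CommRingCat.of k)).smoothLocus).2.isLocallyClosed
  have hpc' : IsClosed ({p} : Set X) := hpc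
  have hrat := surjective_resMap k X p hpc'
  haveI : Algebra.IsSeparable k (X.residueField p) := by
    haveI : Module.Finite k (X.residueField p) :=
      Groth.Agent.Lib.T2H6.ResFinite.finite_residueField k X p hpc'
    haveI : Algebra.IsAlgebraic k (X.residueField p) := Algebra.IsAlgebraic.of_finite k _
    infer_instance
  exact ⟨p, hpU, hpc', (Groth.Agent.Lib.T2H9.DVRSmooth.main k X hdim p hpc').2 hps, hrat⟩

variable {X}

theorem enoughPts (hdim : topologicalKrullDim X = 1) : EnoughPts k X := by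
  intro U hU
  obtain ⟨p, hpU, hpc, hdvr, hrat⟩ := exists_dvr_point k X hdim U hU
  haveI := Groth.Agent.Lib.T2H6.CurveDeg.isLocallyNoetherian (X := X) k
  exact ⟨p, hpc, hpU, hrat, isInvertible_idealMod_ptIdeal X hdim p hpc hdvr⟩

/-- an invertible module of degree one. -/
theorem exists_deg_one (hdim : topologicalKrullDim X = 1) :
    ∃ L₀ : X.Modules, PicF.IsInvertible L₀ ∧ Curv2.deg k X L₀ 1 = 1 := by
  obtain ⟨p, hp, -, hrat, hinv⟩ := enoughPts k hdim ⊤ trivial
  refine ⟨Groth.Agent.Lib.T2H9.TensorInv.inv _, Groth.Agent.Lib.T2H9.TensorInv.isInvertible_inv _ hinv, ?_⟩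
  rw [deg_inv k hdim _ hinv, deg_idealMod_ptIdeal k p hp hrat]
  rfl

/-- **Invertible modules with `(h⁰, h¹) = (1, 0)` and `(0, 0)`** on a proper curve over an algebraically closed
field. -/
theorem main1523' (hdim : topologicalKrullDim X = 1) :
    (∃ L : X.Modules, PicF.IsInvertible L ∧ Module.finrank k (Coh.HH X L 0) = 1 ∧
      Subsingleton (Coh.HH X L 1)) ∧
    (∃ N : X.Modules, PicF.IsInvertible N ∧ Subsingleton (Coh.HH X N 0) ∧ Subsingleton (Coh.HH X N 1)) := by
  obtain ⟨L₀, hL₀, hd⟩ := exists_deg_one k hdim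
  exact main1523 k (enoughPts k hdim) hdim L₀ hL₀ (by rw [hd]; exact one_pos)

/-- `χ(O) = 1 - g`. -/
theorem euler_structureModule (hdim : topologicalKrullDim X = 1) :
    Curv2.euler k X (Coh.structureModule X) = 1 - (Curv2.genus k X : ℤ) := by
  haveI : (Coh.structureModule X).IsQuasicoherent :=
    (Groth.Agent.Lib.T2H5.GenIsoF.isCoh_structureModule (Z := X)).1
  rw [Groth.Agent.Lib.T2H6.CurveRR.euler_eq_sub k hdim (Coh.structureModule X),
    Groth.Agent.Lib.T2H6.PosI.finrank_HH_zero_structureModule k X]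
  rfl

/-- **Vanishing of `H¹` in degree `≥ 2g - 1`.** -/
theorem h1_vanish (hdim : topologicalKrullDim X = 1) (L : X.Modules) (hL : PicF.IsInvertible L)
    (hdeg : 2 * (Curv2.genus k X : ℤ) - 1 ≤ Curv2.deg k X L 1) :
    Subsingleton (Coh.HH X L 1) := by
  obtain ⟨-, N, hN, hN0, hN1⟩ := main1523' k hdim
  have hNc := Groth.Agent.Lib.T2H6.CurveDeg.isCoh_of_isInvertible N hN
  have hiN := Groth.Agent.Lib.T2H9.TensorInv.isInvertible_inv N hN
  set P := CohB1.tensorMod L (Groth.Agent.Lib.T2H9.TensorInv.inv N) with hPdef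
  have hP : PicF.IsInvertible P := Groth.Agent.Lib.Helper23.SecTw.isInvertible_tensorMod hL hiN
  have hPc := Groth.Agent.Lib.T2H6.CurveDeg.isCoh_of_isInvertible P hP
  -- degrees
  have d1 : Curv2.deg k X P 1 = Curv2.deg k X L 1 - Curv2.deg k X N 1 := by
    rw [hPdef, deg_tensor1 k hdim L _ hL hiN, deg_inv k hdim N hN]
    ring
  haveI : N.IsQuasicoherent := hNc.1
  haveI : P.IsQuasicoherent := hPc.1
  have eN := Groth.Agent.Lib.T2H6.CurveRR.euler_eq_sub k hdim N
  have eP := Groth.Agent.Lib.T2H6.CurveRR.euler_eq_sub k hdim P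
  have eO := euler_structureModule k hdim
  have f0 : Module.finrank k (Coh.HH X N 0) = 0 := Module.finrank_zero_of_subsingleton
  have f1 : Module.finrank k (Coh.HH X N 1) = 0 := Module.finrank_zero_of_subsingleton
  rw [f0, f1] at eN
  have hpos : 0 < Module.finrank k (Coh.HH X P 0) := by
    unfold Curv2.deg at d1 hdeg
    push_cast at d1 hdeg eN
    have : (0 : ℤ) < (Module.finrank k (Coh.HH X P 0) : ℤ) := by
      have h5 : (0 : ℤ) ≤ (Module.finrank k (Coh.HH X P 1) : ℤ) := Int.natCast_nonneg _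
      linarith
    exact_mod_cast this
  have hnt : Nontrivial (Coh.HH X P 0) := Module.nontrivial_of_finrank_pos (R := k) hpos
  obtain ⟨σ, hσ⟩ := Groth.Agent.Lib.T2H6.CurveRR.exists_section_ne_zero P hnt
  have hsurj := Groth.Agent.Lib.T2H6.CurveSerre.surjective_act k hdim P hP N hNc σ hσ 0
  -- the source vanishes
  have e1 : Coh.HH X (CohB1.tensorMod (Coh.structureModule X) N) 1 ≃ₗ[k] Coh.HH X N 1 :=
    Groth.Agent.Lib.T2H6.HHLin.HHequiv k (Groth.Agent.Lib.Helper23.TensorUnit.unitTensorIso N) 1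
  haveI : Subsingleton (Coh.HH X (CohB1.tensorMod (Coh.structureModule X) N) 1) :=
    e1.injective.subsingleton
  haveI : Subsingleton (Coh.HH X (CohB1.tensorMod P N) 1) := hsurj.subsingleton
  -- `P ⊗ N ≅ L`
  have e2 : CohB1.tensorMod P N ≅ L :=
    (trCompIsoId (Groth.Agent.Lib.T2H9.TensorInv.invTensorIso N hN)).app L
  exact (Groth.Agent.Lib.T2H6.HHLin.HHequiv k e2 1).symm.injective.subsingleton

end closed

end Groth.Agent.Lib.T2H6.PtTwistD
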