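import Mathlib
import Groth.Agent.Lib.T2H6CurveLinSer
import Groth.Agent.Lib.T2H5ProjFLF5
import Groth.Agent.Lib.T2H5Dim0c

/-!
# Equality in `h⁰(L) ≤ deg L + 1` forces genus zero (helper6)

If `H⁰(L) → H⁰(L / s O)` is surjective for a nonzero section `s`, some section `t` generates `L` at all zeros of
`s`; multiplication by `t` propagates the surjectivity to all `L^n`, so `h¹(L^n) = h¹(O)` for all `n`, and
`h¹(L^n) = 0` for `n ≫ 0` when `deg L > 0`.
-/

set_option autoImplicit false
universe u

open AlgebraicGeometry CategoryTheory Limits TopologicalSpace Opposite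

namespace Groth.Agent.Lib.T2H6.CurveLinSer2

open Groth.Agent.Lib.Helper23.GenLocus Groth.Agent.Lib.Helper23.SecTw Groth.Agent.Lib.Helper6
  Groth.Agent.Lib.Helper4.NormDelta Groth.Agent.Lib.Helper23.StalkLin Groth.Agent.Lib.Helper23.Extend
  Groth.Agent.Lib.Helper23.Support Groth.Agent.Lib.Helper23.AffVanish
  Groth.Agent.Lib.T2H6.HHLin Groth.Agent.Lib.T2H6.CurveSerre Groth.Agent.Lib.T2H6.CurveDeg
  Groth.Agent.Lib.T2H6.InvMono Groth.Agent.Lib.T2H5.Twist Groth.Agent.Lib.T2H6.ParShA
  Groth.Agent.Lib.T2H6.TensorDeg Groth.Agent.Lib.T2H5.GenIsoB Groth.Agent.Lib.T2H6.CurveLinSer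
  Groth.Agent.Lib.Helper21.ModTensor3 Groth.Agent.Lib.Helper21.ModTensor5
  Groth.Agent.Lib.Helper21.ModTensor7

variable {X : Scheme.{u}}

/-- on the generating locus of a section, its cokernel vanishes. -/
theorem notMem_support_cokernel_of_mem_genLocus (L : X.Modules) (s : Coh.structureModule X ⟶ L) (x : X)
    (hx : x ∈ CohB1.genLocus L s) : x ∉ CohB1.support (cokernel s) := by
  obtain ⟨V, hxV, hV⟩ := (mem_genLocus_iff L s x).1 hx
  intro h
  apply h
  refine ⟨fun a b => ?_⟩
  have key : ∀ q : (cokernel s).presheaf.stalk x, q = 0 := by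
    intro q
    obtain ⟨l, rfl⟩ := stalkLin_surjective (cokernel.π s) x q
    obtain ⟨V', hxV', l', rfl⟩ := L.presheaf.exists_germ_eq l
    have hxW : x ∈ V' ⊓ V := ⟨hxV', hxV⟩
    have h1 : L.presheaf.germ V' x hxV' l' = L.presheaf.germ (V' ⊓ V) x hxW
        (L.presheaf.map (homOfLE inf_le_left).op l') :=
      (TopCat.Presheaf.germ_res_apply L.presheaf (homOfLE inf_le_left) x hxW l').symm
    rw [h1]
    haveI : IsIso (s.app (V' ⊓ V)) := hV _ inf_le_right
    obtain ⟨a, ha⟩ := (ConcreteCategory.bijective_of_isIso (s.app (V' ⊓ V))).2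
      (L.presheaf.map (homOfLE inf_le_left).op l')
    rw [← ha, stalkLin_germ]
    have h0 : (s ≫ cokernel.π s).app (V' ⊓ V) a = 0 := by
      rw [cokernel.condition]; rfl
    have h2 : (cokernel.π s).app (V' ⊓ V) (s.app (V' ⊓ V) a) = 0 := h0
    rw [h2, map_zero]
  rw [key a, key b]

/-- gluing local sections of a module with discrete closed support into a global section. -/
theorem exists_glue (M : X.Modules)
    (hcl : ∀ T : Set X, T ⊆ CohB1.support M → IsClosed T)
    (A : CohB1.support M → X.Opens) (hA : ∀ x, x.1 ∈ A x) (m : ∀ x, Γ(M, A x)) :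
    ∃ c : Γ(M, ⊤), ∀ x : CohB1.support M, ∃ (B : X.Opens) (hB : B ≤ A x), x.1 ∈ B ∧
      res M le_top c = res M hB (m x) := by
  classical
  let U0 : X.Opens := ⟨(CohB1.support M)ᶜ, (hcl _ subset_rfl).isOpen_compl⟩
  let U1 : CohB1.support M → X.Opens := fun x =>
    A x ⊓ ⟨(CohB1.support M \ {x.1})ᶜ, (hcl _ Set.diff_subset).isOpen_compl⟩
  let cov : Option (CohB1.support M) → Opens X := fun o =>
    match o with
    | none => U0
    | some x => U1 x
  let sf : ∀ o, ToType ((ab' M).obj.obj (op (cov o))) := fun o =>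
    match o with
    | none => (0 : Γ(M, U0))
    | some x => res M (inf_le_left : U1 x ≤ A x) (m x)
  have hdis : ∀ o o', o ≠ o' → ∀ y ∈ cov o ⊓ cov o', y ∉ CohB1.support M := by
    intro o o' hne y hy hyZ
    rcases o with _ | x <;> rcases o' with _ | x'
    · exact hne rfl
    · exact hy.1 hyZ
    · exact hy.2 hyZ
    · have h1 : y = x.1 := by
        by_contra hc
        exact hy.1.2 ⟨hyZ, hc⟩
      have h2 : y = x'.1 := by
        by_contra hc
        exact hy.2.2 ⟨hyZ, hc⟩
      exact hne (congrArg some (Subtype.ext (h1.symm.trans h2)))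
  have hcover : (⊤ : Opens X) ≤ iSup cov := by
    intro y _
    by_cases hy : y ∈ CohB1.support M
    · exact Opens.mem_iSup.mpr ⟨some ⟨y, hy⟩, ⟨hA ⟨y, hy⟩, fun h => h.2 rfl⟩⟩
    · exact Opens.mem_iSup.mpr ⟨none, hy⟩
  have hcompat : TopCat.Presheaf.IsCompatible (ab' M).obj cov sf := by
    intro o o'
    by_cases hoo : o = o'
    · subst hoo
      rfl
    · exact (eq_zero_of_disjoint_support M (cov o ⊓ cov o') (hdis o o' hoo) _).trans
        (eq_zero_of_disjoint_support M (cov o ⊓ cov o') (hdis o o' hoo) _).symm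
  obtain ⟨c, hc, -⟩ := TopCat.Sheaf.existsUnique_gluing' (ab' M) cov ⊤ (fun o => homOfLE le_top)
    hcover sf hcompat
  refine ⟨c, fun x => ⟨U1 x, inf_le_left, ⟨hA x, fun h => h.2 rfl⟩, ?_⟩⟩
  exact hc (some x)

section Lift

variable (k : Type u) [Field k] [X.Over (Spec (CommRingCat.of k))]

/-- if `H⁰(π)` is surjective, global sections lift along `π`. -/
theorem exists_lift_section {L Q : X.Modules} (π : L ⟶ Q)
    (hπ : Function.Surjective (Canon.HHlin k π 0)) (τ : Coh.structureModule X ⟶ Q) :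
    ∃ t : Coh.structureModule X ⟶ L, t ≫ π = τ := by
  obtain ⟨z, hz⟩ := hπ (evLin k Q τ)
  obtain ⟨t, ht⟩ := (bijective_evLin k L).2 z
  refine ⟨t, (bijective_evLin k Q).1 ?_⟩
  change Canon.HHlin k (t ≫ π) 0 (unitClass X) = _
  rw [HHlin_comp_apply]
  change Canon.HHlin k π 0 (evLin k L t) = _
  rw [ht, hz]

end Lift

/-- if `t ≡ e mod s` near `x`, with `e` a local generator and `s` vanishing at `x`, then `t` generates at `x`. -/
theorem mem_genLocus_of_cokernel (L : X.Modules) (s t : Coh.structureModule X ⟶ L) [Mono s]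
    (x : X) (hxs : x ∉ CohB1.genLocus L s) {W : X.Opens} (hxW : x ∈ W) (e : Γ(L, W)) (he : IsGen L W e)
    (h : (cokernel.π s).app W (sv t W) = (cokernel.π s).app W e) : x ∈ CohB1.genLocus L t := by
  let S : ShortComplex X.Modules := ShortComplex.mk s (cokernel.π s) (cokernel.condition s)
  have hS : S.ShortExact :=
    { exact := ShortComplex.exact_cokernel s
      mono_f := inferInstanceAs (Mono s)
      epi_g := inferInstanceAs (Epi (cokernel.π s)) }
  have hy : (cokernel.π s).app W (sv t W - e) = 0 := by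
    rw [map_sub, h, sub_self]
  obtain ⟨a, ha⟩ := Groth.Agent.Lib.Helper2.ModExact.exists_app_eq_of_shortExact S hS W _ hy
  have ha' : s.app W a = sv t W - e := ha
  have hs1 := sv_eq_coef_smul s he
  have ht1 := sv_eq_coef_smul t he
  set cs := coef he le_rfl (sv s W) with hcs
  set ct := coef he le_rfl (sv t W) with hct
  have h1 : s.app W a = (ofS W a * cs) • e := by
    have := app_toS s W (ofS W a)
    rw [toS_ofS] at this
    rw [this, mul_smul, ← hs1]
  have h2 : sv t W - e = (ct - 1) • e := by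
    rw [sub_smul, one_smul, ← ht1]
  have h3 : ofS W a * cs = ct - 1 := by
    apply (he W le_rfl).1
    change (ofS W a * cs) • res L le_rfl e = (ct - 1) • res L le_rfl e
    rw [Groth.Agent.Lib.Helper23.SecTw.res_self, ← h1, ← h2, ha']
  have hgs := genLocus_inf_eq_coef s he
  have hgt := genLocus_inf_eq_coef t he
  have hxcs : x ∉ X.basicOpen cs := by
    rw [← hcs] at hgs
    rw [← hgs]
    exact fun hx => hxs hx.1
  have hxct : x ∈ X.basicOpen ct := by
    rw [Scheme.mem_basicOpen X _ x hxW] at hxcs ⊢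
    have h4 : X.presheaf.germ W x hxW ct + X.presheaf.germ W x hxW (- (ofS W a)) * X.presheaf.germ W x hxW cs = 1 := by
      rw [← map_mul, ← map_add, neg_mul, h3]
      simp
    rcases IsLocalRing.isUnit_or_isUnit_of_add_one h4 with h5 | h5
    · exact h5
    · exact absurd (isUnit_of_mul_isUnit_right h5) hxcs
  rw [← hct] at hgt
  rw [← hgt] at hxct
  exact hxct.1

section Cat

/-- interchange. -/
theorem square {M M' L Q : X.Modules} (θ : M ⟶ M') (π : L ⟶ Q) :
    KoszTw.tensorMap (𝟙 M) π ≫ KoszTw.tensorMap θ (𝟙 Q) =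
      KoszTw.tensorMap θ (𝟙 L) ≫ KoszTw.tensorMap (𝟙 M') π := by
  rw [← KoszTw.tensorMap_comp, ← KoszTw.tensorMap_comp, Category.id_comp, Category.comp_id,
    Category.comp_id, Category.id_comp]

/-- `θ ⊗ Q` is an epimorphism when `coker θ` and `Q` have disjoint supports. -/
theorem epi_tensorMap_of_disjoint {M M' : X.Modules} (θ : M ⟶ M') (Q : X.Modules)
    (h : ∀ x ∈ CohB1.support Q, x ∉ CohB1.support (cokernel θ)) :
    Epi (KoszTw.tensorMap θ (𝟙 Q)) := by
  haveI := preservesFiniteColimits_tr (X := X) Q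
  have key : Epi ((tr Q).map θ) := by
    have e : (tr Q).obj (cokernel θ) ≅ cokernel ((tr Q).map θ) := PreservesCokernel.iso (tr Q) θ
    apply Preadditive.epi_of_isZero_cokernel
    apply Groth.Agent.Lib.T2H5.Devissage.isZero_of_support_eq_empty
    rw [← support_eq_of_iso e, Set.eq_empty_iff_forall_notMem]
    intro x hx
    have hx' : x ∈ CohB1.support (CohB1.tensorMod (cokernel θ) Q) := hx
    exact h x (support_tensorMod_subset_right _ _ hx') (Groth.Agent.Lib.T2H5.Dim0.support_tensorMod_subset _ _ hx')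
  rw [tr_map_eq] at key
  exact key

/-- multiplication by a section `t` of `L`, as a map `M ⟶ M ⊗ L`. -/
noncomputable def mulSec (M : X.Modules) {L : X.Modules} (t : Coh.structureModule X ⟶ L) :
    M ⟶ CohB1.tensorMod M L :=
  (trUnitIso (X := X)).inv.app M ≫ KoszTw.tensorMap (𝟙 M) t

theorem support_cokernel_mulSec_subset (M : X.Modules) {L : X.Modules} (t : Coh.structureModule X ⟶ L) :
    CohB1.support (cokernel (mulSec M t)) ⊆ CohB1.support (cokernel t) := by
  haveI := Groth.Agent.Lib.T2H5.ProjFLF.preservesFiniteColimits_tensorBi_obj M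
  have e2 : (DCoh.tensorBi.obj M).obj (cokernel t) ≅ cokernel ((DCoh.tensorBi.obj M).map t) :=
    PreservesCokernel.iso (DCoh.tensorBi.obj M) t
  have h2 : CohB1.support (cokernel ((DCoh.tensorBi.obj M).map t)) ⊆ CohB1.support (cokernel t) := by
    rw [← support_eq_of_iso e2]
    exact support_tensorMod_subset_right M (cokernel t)
  have hm : mulSec M t = (trUnitIso (X := X)).inv.app M ≫ (DCoh.tensorBi.obj M).map t := by
    rw [KoszTw.tensorBi_obj_map]; rfl
  have e1 : cokernel (mulSec M t) ≅ cokernel ((DCoh.tensorBi.obj M).map t) := by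
    rw [hm]
    exact cokernelEpiComp ((trUnitIso (X := X)).inv.app M) ((DCoh.tensorBi.obj M).map t)
  rw [support_eq_of_iso e1]
  exact h2

end Cat

section Curve

variable (k : Type u) [Field k] [X.Over (Spec (CommRingCat.of k))] [IsIntegral X]
  [IsProper (X ↘ Spec (CommRingCat.of k))]

/-- if `H⁰(L) → H⁰(L / s O)` is surjective, some section of `L` generates `L` at all zeros of `s`. -/
theorem exists_section_genLocus (hdim : topologicalKrullDim X = 1) (L : X.Modules) (hL : PicF.IsInvertible L)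
    (s : Coh.structureModule X ⟶ L) (hs : s ≠ 0)
    (hsurj : Function.Surjective (Canon.HHlin k (cokernel.π s) 0)) :
    ∃ t : Coh.structureModule X ⟶ L, ∀ x ∈ CohB1.support (cokernel s), x ∈ CohB1.genLocus L t := by
  haveI := isLocallyNoetherian (X := X) k
  have hO := Groth.Agent.Lib.Helper23.TensorUnit.isInvertible_structureModule X
  have hQc := isCoh_cokernel hO hL s
  have hpt := isClosed_of_mem_support hdim hO hL s hs
  have hcl : ∀ T : Set X, T ⊆ CohB1.support (cokernel s) → IsClosed T :=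
    fun T hT => Groth.Agent.S0047.isClosed_of_subset_support _ hQc hpt T hT
  haveI : Mono s := mono_of_ne_zero hO hL s hs
  choose W e hW he using fun x : CohB1.support (cokernel s) => exists_gen L hL x.1
  obtain ⟨c, hc⟩ := exists_glue (cokernel s) hcl W hW (fun x => (cokernel.π s).app (W x) (e x))
  obtain ⟨t, ht⟩ := exists_lift_section k (cokernel.π s) hsurj (secHom (cokernel s) c)
  refine ⟨t, fun x hx => ?_⟩
  obtain ⟨B, hB, hxB, hres⟩ := hc ⟨x, hx⟩
  have hxs : x ∉ CohB1.genLocus L s := fun h => notMem_support_cokernel_of_mem_genLocus L s x h hx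
  refine mem_genLocus_of_cokernel L s t x hxs hxB (res L hB (e ⟨x, hx⟩)) ((he ⟨x, hx⟩).mono hB) ?_
  have h1 : (cokernel.π s).app B (sv t B) = sv (t ≫ cokernel.π s) B := rfl
  rw [h1, ht, sv_secHom, hres]
  exact (app_map (cokernel.π s) (homOfLE hB) (e ⟨x, hx⟩)).symm

/-- an epimorphism out of a coherent torsion module is surjective on `H⁰`. -/
theorem surjective_HHlin_of_epi_tors (hdim : topologicalKrullDim X = 1) {A B : X.Modules} (φ : A ⟶ B) [Epi φ]
    (hA : Coh.IsCoh A) (hB : Coh.IsCoh B) (hAt : IsTors A) :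
    Function.Surjective (Canon.HHlin k φ 0) := by
  haveI := isLocallyNoetherian (X := X) k
  let S : ShortComplex X.Modules := ShortComplex.mk (kernel.ι φ) φ (kernel.condition φ)
  have hS : S.ShortExact :=
    { exact := ShortComplex.exact_kernel φ
      mono_f := inferInstanceAs (Mono (kernel.ι φ))
      epi_g := inferInstanceAs (Epi φ) }
  have hK := isCoh_kernel φ hA hB
  have hKt : IsTors (kernel φ) := IsTors.of_mono (kernel.ι φ) hAt
  exact surjective_g k S hS 0 (subsingleton_HH_of_isTors k hdim (kernel φ) hK hKt 1 Nat.one_pos)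

/-- propagation of surjectivity from `M` to `M ⊗ L`. -/
theorem surj_step (hdim : topologicalKrullDim X = 1) (M : X.Modules) (hM : Coh.IsCoh M) {L Q : X.Modules}
    (π : L ⟶ Q) (hL : Coh.IsCoh L) (hQ : Coh.IsCoh Q) (hQt : IsTors Q) (t : Coh.structureModule X ⟶ L)
    (hdis : ∀ x ∈ CohB1.support Q, x ∉ CohB1.support (cokernel t))
    (hP : Function.Surjective (Canon.HHlin k (KoszTw.tensorMap (𝟙 M) π) 0)) :
    Function.Surjective (Canon.HHlin k (KoszTw.tensorMap (𝟙 (CohB1.tensorMod M L)) π) 0) := by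
  haveI : Epi (KoszTw.tensorMap (mulSec M t) (𝟙 Q)) :=
    epi_tensorMap_of_disjoint (mulSec M t) Q
      (fun x hx h => hdis x hx (support_cokernel_mulSec_subset M t h))
  have h1 : Function.Surjective (Canon.HHlin k (KoszTw.tensorMap (mulSec M t) (𝟙 Q)) 0) :=
    surjective_HHlin_of_epi_tors k hdim _ (isCoh_tensor M Q hM hQ)
      (isCoh_tensor (CohB1.tensorMod M L) Q (isCoh_tensor M L hM hL) hQ) (IsTors.tensor_right M hQt)
  have h2 : Function.Surjective
      (Canon.HHlin k (KoszTw.tensorMap (𝟙 M) π ≫ KoszTw.tensorMap (mulSec M t) (𝟙 Q)) 0) := by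
    rw [HHlin_comp]
    exact h1.comp hP
  rw [square, HHlin_comp] at h2
  exact Function.Surjective.of_comp h2

/-- `O ⊗ - ≅ 𝟭`, typed in `X.Modules`. -/
noncomputable def tlUnitIso (X : Scheme.{u}) : DCoh.tensorBi.obj (Coh.structureModule X) ≅ 𝟭 X.Modules :=
  tLUnitIso X.sheaf

/-- the base case. -/
theorem surj_base {L Q : X.Modules} (π : L ⟶ Q) (h : Function.Surjective (Canon.HHlin k π 0)) :
    Function.Surjective (Canon.HHlin k (KoszTw.tensorMap (𝟙 (Coh.structureModule X)) π) 0) := by
  rw [← KoszTw.tensorBi_obj_map]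
  have nat : (DCoh.tensorBi.obj (Coh.structureModule X)).map π ≫ (tlUnitIso X).hom.app Q =
      (tlUnitIso X).hom.app L ≫ π := (tlUnitIso X).hom.naturality π
  have h1 : Function.Surjective (Canon.HHlin k ((tlUnitIso X).hom.app L ≫ π) 0) := by
    rw [HHlin_comp]
    exact h.comp (HHequiv k ((tlUnitIso X).app L) 0).surjective
  rw [← nat, HHlin_comp, LinearMap.coe_comp] at h1
  exact Function.Surjective.of_comp_left h1 (HHequiv k ((tlUnitIso X).app Q) 0).injective

/-- if `H⁰(M ⊗ L) → H⁰(M ⊗ L/sO)` is surjective then `h¹(M ⊗ L) = h¹(M)`. -/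
theorem h1_eq (hdim : topologicalKrullDim X = 1) (M : X.Modules) (hM : PicF.IsInvertible M)
    (L : X.Modules) (hL : PicF.IsInvertible L) (s : Coh.structureModule X ⟶ L) (hs : s ≠ 0)
    (hP : Function.Surjective (Canon.HHlin k (KoszTw.tensorMap (𝟙 M) (cokernel.π s)) 0)) :
    Module.finrank k (Coh.HH X (CohB1.tensorMod M L) 1) = Module.finrank k (Coh.HH X M 1) := by
  haveI := isLocallyNoetherian (X := X) k
  have hO := Groth.Agent.Lib.Helper23.TensorUnit.isInvertible_structureModule X
  have hMc := isCoh_of_isInvertible M hM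
  have hLc := isCoh_of_isInvertible L hL
  have hOc := isCoh_of_isInvertible _ hO
  have hQc := isCoh_cokernel hO hL s
  have hQt := isTors_cokernel_of_ne_zero L hL s hs
  haveI := Groth.Agent.Lib.T2H5.ProjFLF.preservesFiniteColimits_tensorBi_obj M
  haveI := Groth.Agent.Lib.T2H5.ProjFLF.preservesFiniteLimits_tensorBi_obj M
    (Groth.Agent.Helper18PBUnit.isFinLocFree_of_isInvertible hM)
  have hS : ((sc s).map (DCoh.tensorBi.obj M)).ShortExact :=
    (sc_shortExact hO hL s hs).map_of_exact (DCoh.tensorBi.obj M)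
  have h1 := finrank_H1_add k hdim _ hS (isCoh_tensor M _ hMc hOc) (isCoh_tensor M L hMc hLc)
    (isCoh_tensor M _ hMc hQc) (IsTors.tensor_right M hQt)
  have hsurj : Function.Surjective (Canon.HHlin k ((sc s).map (DCoh.tensorBi.obj M)).g 0) := by
    have h2 : ((sc s).map (DCoh.tensorBi.obj M)).g = KoszTw.tensorMap (𝟙 M) (cokernel.π s) :=
      KoszTw.tensorBi_obj_map M (cokernel.π s)
    rw [h2]
    exact hP
  rw [LinearMap.range_eq_top.2 hsurj, finrank_top] at h1
  have h3 : Module.finrank k (Coh.HH X (CohB1.tensorMod M (Coh.structureModule X)) 1) =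
      Module.finrank k (Coh.HH X M 1) :=
    (HHequiv k ((trUnitIso (X := X)).app M) 1).finrank_eq
  have h4 : Module.finrank k (Coh.HH X (CohB1.tensorMod M (Coh.structureModule X)) 1) =
      Module.finrank k (Coh.HH X (CohB1.tensorMod M L) 1) := by
    have := Nat.add_right_cancel h1
    exact this
  rw [← h4, h3]

/-- **Equality in `h⁰ ≤ deg + 1` forces genus zero** (positive degree). -/
theorem genus_eq_zero (hdim : topologicalKrullDim X = 1) (L : X.Modules) (hL : PicF.IsInvertible L)
    (s : Coh.structureModule X ⟶ L) (hs : s ≠ 0)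
    (hsurj : Function.Surjective (Canon.HHlin k (cokernel.π s) 0)) (hdeg : 0 < Curv2.deg k X L 1) :
    Curv2.genus k X = 0 := by
  haveI := isLocallyNoetherian (X := X) k
  have hO := Groth.Agent.Lib.Helper23.TensorUnit.isInvertible_structureModule X
  have hLc := isCoh_of_isInvertible L hL
  have hOc := isCoh_of_isInvertible _ hO
  have hQc := isCoh_cokernel hO hL s
  have hQt := isTors_cokernel_of_ne_zero L hL s hs
  obtain ⟨t, ht⟩ := exists_section_genLocus k hdim L hL s hs hsurj
  have hdis : ∀ x ∈ CohB1.support (cokernel s), x ∉ CohB1.support (cokernel t) :=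
    fun x hx => notMem_support_cokernel_of_mem_genLocus L t x (ht x hx)
  have key : ∀ n : ℕ,
      Function.Surjective (Canon.HHlin k (KoszTw.tensorMap (𝟙 (CohB1.tensorPow L n)) (cokernel.π s)) 0) ∧
        Module.finrank k (Coh.HH X (CohB1.tensorPow L n) 1) =
          Module.finrank k (Coh.HH X (Coh.structureModule X) 1) := by
    intro n
    induction n with
    | zero => exact ⟨surj_base k (cokernel.π s) hsurj, rfl⟩
    | succ n ih =>
      have hLn := isInvertible_tensorPow hL n
      refine ⟨surj_step k hdim (CohB1.tensorPow L n) (isCoh_of_isInvertible _ hLn) (cokernel.π s) hLc hQc hQt t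
        hdis ih.1, ?_⟩
      rw [← ih.2]
      exact h1_eq k hdim (CohB1.tensorPow L n) hLn L hL s hs ih.1
  obtain ⟨n₀, hn₀⟩ := exists_vanishing k hdim L hL hdeg (Coh.structureModule X) hOc
  have hv := hn₀ n₀ le_rfl
  have e : Coh.HH X (CohB1.tensorMod (Coh.structureModule X) (CohB1.tensorPow L n₀)) 1 ≃ₗ[k]
      Coh.HH X (CohB1.tensorPow L n₀) 1 := HHequiv k ((tlUnitIso X).app (CohB1.tensorPow L n₀)) 1
  haveI : Subsingleton (Coh.HH X (CohB1.tensorPow L n₀) 1) := e.symm.injective.subsingleton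
  unfold Curv2.genus
  rw [← (key n₀).2]
  exact Module.finrank_zero_of_subsingleton

end Curve

end Groth.Agent.Lib.T2H6.CurveLinSer2
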