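import Mathlib
import Groth.Agent.Lib.T2H5EulerLen
import Groth.Agent.Lib.T2H5KosPn
import Groth.Agent.Lib.T2H5PnFinite
import Groth.Agent.Lib.T2H5Mumford
import Groth.Agent.S0022
import Groth.Agent.S0038
import Groth.Agent.S0046
import Groth.Agent.Lib.Helper23FTsub
import Groth.Agent.Lib.Helper23TensorQCoh
import Groth.Agent.Lib.Helper23FinTypeLocal
import Groth.Agent.S2357

/-!
# T2H5HilbPoly: the Hilbert polynomial of a coherent module on `P^r_A`, `A` Artinian (helper5)
-/

set_option autoImplicit false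
set_option linter.style.haveILetI false
universe u

namespace Groth.Agent.Lib.T2H5.HilbPoly

open CategoryTheory CategoryTheory.Limits AlgebraicGeometry Abelian
open Groth.Agent.Lib.Helper23.QCohLocal Groth.Agent.Lib.T2H5.HHLes Groth.Agent.Lib.T2H5.EulerAlg
open Groth.Agent.Lib.T2H5.EulerLen Groth.Agent.Lib.T2H5.KosStage Groth.Agent.Lib.T2H5.KosPn

section General

variable {A : Type u} [CommRing A] {X : Scheme.{u}} [X.Over (Spec (CommRingCat.of A))]

theorem HHlin_inv_hom {F G : X.Modules} (ε : F ≅ G) (r : ℕ) (x : Coh.HH X G r) :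
    Canon.HHlin A ε.hom r (Canon.HHlin A ε.inv r x) = x := by
  have hgf : (SheafOfModules.toSheaf X.ringCatSheaf).map ε.inv ≫
      (SheafOfModules.toSheaf X.ringCatSheaf).map ε.hom = 𝟙 (Coh.toAb G) :=
    ((SheafOfModules.toSheaf X.ringCatSheaf).mapIso ε).inv_hom_id
  change Sheaf.H.map ((SheafOfModules.toSheaf X.ringCatSheaf).map ε.hom) r
    (Sheaf.H.map ((SheafOfModules.toSheaf X.ringCatSheaf).map ε.inv) r x) = x
  rw [← Sheaf.H.map_comp_apply, hgf, Sheaf.H.map_id_apply]

/-- an isomorphism of modules induces a linear equivalence on cohomology -/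
noncomputable def hhEquiv {F G : X.Modules} (ε : F ≅ G) (r : ℕ) :
    Coh.HH X F r ≃ₗ[A] Coh.HH X G r :=
  LinearEquiv.ofLinearMap (Canon.HHlin A ε.hom r) (Canon.HHlin A ε.inv r)
    (LinearMap.ext (fun x => HHlin_inv_hom ε r x))
    (LinearMap.ext (fun x => HHlin_inv_hom ε.symm r x))

theorem chi_of_iso {F G : X.Modules} (ε : F ≅ G) (r : ℕ) : chi A X F r = chi A X G r := by
  unfold chi
  refine Finset.sum_congr rfl (fun j _ => ?_)
  rw [lenZ_congr (hhEquiv (A := A) ε j)]

theorem chi_of_isZero {F : X.Modules} (h : IsZero F) (r : ℕ) : chi A X F r = 0 := by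
  unfold chi
  refine Finset.sum_eq_zero (fun j _ => ?_)
  haveI := subsingleton_HH_of_isZero h j
  rw [lenZ_of_subsingleton, mul_zero]

/-- the short exact sequences cut out of an exact complex -/
theorem shortExact_kernel (Y : ℕ → X.Modules) (d : ∀ p, Y p ⟶ Y (p + 1))
    (dd : ∀ p, d p ≫ d (p + 1) = 0)
    (hex : ∀ p, (ShortComplex.mk (d p) (d (p + 1)) (dd p)).Exact) (p : ℕ) :
    ∃ (g : Y p ⟶ kernel (d (p + 1))) (w : kernel.ι (d p) ≫ g = 0),
      (ShortComplex.mk (kernel.ι (d p)) g w).ShortExact := by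
  have hepi : Epi (kernel.lift (d (p + 1)) (d p) (dd p)) :=
    (ShortComplex.exact_iff_epi_kernel_lift _).1 (hex p)
  have w : kernel.ι (d p) ≫ kernel.lift (d (p + 1)) (d p) (dd p) = 0 := by
    rw [← cancel_mono (kernel.ι (d (p + 1))), Category.assoc, kernel.lift_ι,
      kernel.condition, zero_comp]
  let S : ShortComplex X.Modules :=
    ShortComplex.mk (kernel.ι (d p)) (kernel.lift (d (p + 1)) (d p) (dd p)) w
  let S' : ShortComplex X.Modules :=
    ShortComplex.mk (kernel.ι (d p)) (d p) (kernel.condition (d p))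
  let φ : S ⟶ S' :=
    { τ₁ := 𝟙 _
      τ₂ := 𝟙 _
      τ₃ := kernel.ι (d (p + 1))
      comm₁₂ := by
        change 𝟙 _ ≫ kernel.ι (d p) = kernel.ι (d p) ≫ 𝟙 _
        rw [Category.id_comp, Category.comp_id]
      comm₂₃ := by
        change 𝟙 _ ≫ d p = kernel.lift (d (p + 1)) (d p) (dd p) ≫ kernel.ι (d (p + 1))
        rw [Category.id_comp, kernel.lift_ι] }
  have : Epi φ.τ₁ := by
    change Epi (𝟙 _)
    infer_instance
  have : IsIso φ.τ₂ := by
    change IsIso (𝟙 _)
    infer_instance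
  have : Mono φ.τ₃ := by
    change Mono (kernel.ι (d (p + 1)))
    infer_instance
  exact ⟨_, w,
    { exact := (ShortComplex.exact_iff_of_epi_of_isIso_of_mono φ).2
        (ShortComplex.exact_kernel (d p))
      mono_f := inferInstanceAs (Mono (kernel.ι (d p)))
      epi_g := hepi }⟩

end General

section Pn

variable (r : ℕ) (A : Type u) [CommRing A] [IsArtinianRing A]

theorem isFiniteLength_HH (G : (CohB1.ProjSpace r A).Modules) (hG : Coh.IsCoh G) (j : ℕ) :
    IsFiniteLength A (Coh.HH (CohB1.ProjSpace r A) G j) := by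
  haveI := Groth.Agent.S0038.result r A G hG j
  rw [isFiniteLength_iff_isNoetherian_isArtinian]
  exact ⟨inferInstance, inferInstance⟩

/-- the length Euler characteristic on `P^r_A` -/
noncomputable def chiP (G : (CohB1.ProjSpace r A).Modules) : ℤ := chi A (CohB1.ProjSpace r A) G r

theorem chiP_additive (S : ShortComplex (CohB1.ProjSpace r A).Modules) (hS : S.ShortExact)
    (h1 : Coh.IsCoh S.X₁) (h2 : Coh.IsCoh S.X₂) (h3 : Coh.IsCoh S.X₃) :
    chiP r A S.X₂ = chiP r A S.X₁ + chiP r A S.X₃ := by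
  haveI : Coh.IsQCoh S.X₁ := h1.1
  exact chi_additive S hS r (isFiniteLength_HH r A _ h1) (isFiniteLength_HH r A _ h2)
    (isFiniteLength_HH r A _ h3) (Groth.Agent.S0022.result r A S.X₁ (r + 1) (by omega))

theorem isCoh_biprod {X : Scheme.{u}} (G H : X.Modules) (hG : Coh.IsCoh G) (hH : Coh.IsCoh H) :
    Coh.IsCoh (G ⊞ H) := by
  haveI : G.IsQuasicoherent := hG.1
  haveI : H.IsQuasicoherent := hH.1
  haveI : SheafOfModules.IsFiniteType (R := X.ringCatSheaf) G := hG.2
  haveI : SheafOfModules.IsFiniteType (R := X.ringCatSheaf) H := hH.2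
  exact ⟨isQuasicoherent_biprod G H, Groth.Agent.Lib.Helper23.FTsub.isFiniteType_biprod G H⟩

theorem chiP_biprod (G H : (CohB1.ProjSpace r A).Modules) (hG : Coh.IsCoh G) (hH : Coh.IsCoh H) :
    chiP r A (G ⊞ H) = chiP r A G + chiP r A H := by
  let S : ShortComplex (CohB1.ProjSpace r A).Modules :=
    ShortComplex.mk (biprod.inl : G ⟶ G ⊞ H) (biprod.snd : G ⊞ H ⟶ H) biprod.inl_snd
  have hS : S.ShortExact := (ShortComplex.Splitting.ofHasBinaryBiproduct G H).shortExact
  exact chiP_additive r A S hS hG (isCoh_biprod G H hG hH) hH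

theorem isCoh_of_isZero {X : Scheme.{u}} (F T : X.Modules) (hF : Coh.IsCoh F) (hT : IsZero T) :
    Coh.IsCoh T := by
  haveI : F.IsQuasicoherent := hF.1
  haveI : SheafOfModules.IsFiniteType (R := X.ringCatSheaf) F := hF.2
  haveI : (cokernel (𝟙 F)).IsQuasicoherent := isQuasicoherent_cokernel (𝟙 F)
  have hz : IsZero (cokernel (𝟙 F)) := isZero_cokernel_of_epi (𝟙 F)
  haveI : T.IsQuasicoherent :=
    Groth.Agent.Lib.Helper23.TensorQCoh.isQuasicoherent_of_iso (hz.iso hT)
  haveI : Epi (0 : F ⟶ T) := ⟨fun g h _ => hT.eq_of_src g h⟩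
  exact ⟨inferInstance, Groth.Agent.Lib.Helper23.FinType.isFiniteType_of_epi (0 : F ⟶ T)⟩

theorem isLocallyNoetherian_projSpace : IsLocallyNoetherian (CohB1.ProjSpace r A) := by
  have hN : IsNoetherian (Proj (CohB1.polyGrading r A)) :=
    Groth.Agent.S2357.result (CohB1.polyGrading r A)
  exact hN.toIsLocallyNoetherian

/-- the alternating sum of the Euler characteristics along an exact complex vanishes -/
theorem sum_chiP_eq_zero (Y : ℕ → (CohB1.ProjSpace r A).Modules) (d : ∀ p, Y p ⟶ Y (p + 1))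
    (dd : ∀ p, d p ≫ d (p + 1) = 0)
    (hex : ∀ p, (ShortComplex.mk (d p) (d (p + 1)) (dd p)).Exact) (hmono : Mono (d 0))
    (hY : ∀ p, Coh.IsCoh (Y p)) (N : ℕ) (hz : IsZero (Y (N + 1))) :
    ∑ p ∈ Finset.range (N + 1), (-1 : ℤ) ^ p * chiP r A (Y p) = 0 := by
  haveI := isLocallyNoetherian_projSpace r A
  have hK : ∀ p, Coh.IsCoh (kernel (d p)) := by
    intro p
    have hKq : (kernel (d p)).IsQuasicoherent :=
      @isQuasicoherent_kernel _ _ _ (hY p).1 (hY (p + 1)).1 (d p)
    exact Groth.Agent.S0046.result _ _ _ (kernel.ι (d p)) (hY p) hKq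
  have key : ∀ p, ∑ q ∈ Finset.range p, (-1 : ℤ) ^ q * chiP r A (Y q) =
      -((-1 : ℤ) ^ p * chiP r A (kernel (d p))) := by
    intro p
    induction p with
    | zero =>
      have h0 : chiP r A (kernel (d 0)) = 0 := chi_of_isZero (isZero_kernel_of_mono (d 0)) r
      rw [h0]
      simp
    | succ p ih =>
      obtain ⟨g, w, hS⟩ := shortExact_kernel Y d dd hex p
      have hadd := chiP_additive r A _ hS (hK p) (hY p) (hK (p + 1))
      change chiP r A (Y p) = chiP r A (kernel (d p)) + chiP r A (kernel (d (p + 1))) at hadd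
      rw [Finset.sum_range_succ, ih, hadd, pow_succ]
      ring
  rw [key (N + 1)]
  have hzK : IsZero (kernel (d (N + 1))) := by
    have h0 : d (N + 1) = 0 := hz.eq_of_src _ _
    have hι : kernel.ι (d (N + 1)) = 0 := hz.eq_of_tgt _ _
    rw [IsZero.iff_id_eq_zero, ← cancel_mono (kernel.ι (d (N + 1))), hι, comp_zero, comp_zero]
  rw [show chiP r A (kernel (d (N + 1))) = 0 from chi_of_isZero hzK r]
  simp

omit [IsArtinianRing A] in
theorem isCoh_GF (F : (CohB1.ProjSpace r A).Modules) (hF : Coh.IsCoh F) (j : ℤ) :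
    Coh.IsCoh (CohB1.tensorMod F (Twist.twistProjSpace r A j)) := by
  haveI : F.IsQuasicoherent := hF.1
  haveI : SheafOfModules.IsFiniteType (R := (CohB1.ProjSpace r A).ringCatSheaf) F := hF.2
  haveI : (Twist.twistProjSpace r A j).IsQuasicoherent :=
    (Groth.Agent.Lib.T2H5.PnFinite.isCoh_twist r A j).1
  haveI : SheafOfModules.IsFiniteType (R := (CohB1.ProjSpace r A).ringCatSheaf)
      (Twist.twistProjSpace r A j) := (Groth.Agent.Lib.T2H5.PnFinite.isCoh_twist r A j).2
  exact ⟨Groth.Agent.Lib.Helper23.TensorQCoh.isQuasicoherent_tensorMod _ _,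
    Groth.Agent.Lib.Helper23.TensorQCoh.isFiniteType_tensorMod _ _⟩

/-- the Koszul relation between the Euler characteristics of the twists -/
theorem koszul_relation (F : (CohB1.ProjSpace r A).Modules) (hF : Coh.IsCoh F) (a : ℤ) :
    ∑ p ∈ Finset.range (r + 1 + 1),
      (-1 : ℤ) ^ p * (((r + 1).choose p : ℤ) * chiP r A (GF r A F (a + p))) = 0 := by
  have hprop := iter_X_prop (GF r A F) (μF r A F) (μF_comm r A F)
    (fun m b T => Coh.IsCoh T ∧ chiP r A T = (m : ℤ) * chiP r A (GF r A F b))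
    (fun b T hT => ⟨isCoh_of_isZero F T hF hT, by
      rw [show chiP r A T = 0 from chi_of_isZero hT r]; simp⟩)
    (fun m m' b T T' hT hT' => ⟨isCoh_biprod T T' hT.1 hT'.1, by
      rw [chiP_biprod r A T T' hT.1 hT'.1, hT.2, hT'.2]; push_cast; ring⟩)
    (fun b => ⟨isCoh_GF r A F hF b, by simp⟩)
    (List.finRange (r + 1))
  rw [List.length_finRange] at hprop
  have hsum := sum_chiP_eq_zero r A (fun p => (stage r A F).X a p) (fun p => (stage r A F).d a p)
    (fun p => (stage r A F).dd a p) (stage_exact r A F a) (stage_mono r A F a)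
    (fun p => (hprop a p).1) (r + 1) (stage_isZero r A F a (r + 1 + 1) (by omega))
  rw [← hsum]
  refine Finset.sum_congr rfl (fun p _ => ?_)
  exact congrArg (fun z => (-1 : ℤ) ^ p * z) (hprop a p).2.symm

/-- the Hilbert polynomial of a coherent module on `P^r_A` -/
theorem exists_hilbertPolynomial (F : (CohB1.ProjSpace r A).Modules) (hF : Coh.IsCoh F) :
    ∃ P : Polynomial ℚ, ∀ n : ℤ,
      (chiP r A (CohB1.tensorMod F (Twist.twistProjSpace r A n)) : ℚ) = P.eval (n : ℚ) := by
  refine exists_polynomial_of_difference_eq_zero (r + 1)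
    (fun n => (chiP r A (GF r A F n) : ℚ)) (fun a => ?_)
  have h := koszul_relation r A F hF a
  have h2 := congrArg (fun z : ℤ => (z : ℚ)) h
  simp only [Int.cast_sum, Int.cast_mul, Int.cast_pow, Int.cast_neg, Int.cast_one, Int.cast_natCast,
    Int.cast_zero] at h2
  rw [← h2]
  refine Finset.sum_congr rfl (fun p _ => ?_)
  ring

end Pn

end Groth.Agent.Lib.T2H5.HilbPoly
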