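import Mathlib
import Groth.Prelude.Def_StabCat

/-!
# Extending a filtration of a subobject by the whole object (`StabCat.factor`)

For a monomorphism `f : S ⟶ E` in an abelian category which is not an isomorphism, a chain of subobjects
of `S` from `⊥` to `⊤` pushes forward to a chain of subobjects of `E` from `⊥` to the image of `f`; adding
`⊤` gives a chain from `⊥` to `⊤` whose factors are those of the original chain followed by `cokernel f`.
-/

universe v u

open CategoryTheory CategoryTheory.Limits StabCat

namespace Groth.Agent.Lib.T2H6.FiltExt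

variable {C : Type u} [Category.{v} C] [Abelian C]

/-- the factor of a chain only depends on its two terms. -/
noncomputable def factorIsoOfEq {E : C} (t : LTSeries (Subobject E)) (i : Fin t.length) {A B : Subobject E}
    (hA : t i.castSucc = A) (hB : t i.succ = B) (h : A ≤ B) :
    factor t i ≅ cokernel (Subobject.ofLE A B h) := by
  subst hA hB
  exact Iso.refl _

/-- the underlying object of the image of a subobject under a monomorphism. -/
noncomputable def mapObjIso {S E : C} (f : S ⟶ E) [Mono f] (A : Subobject S) :
    (((Subobject.map f).obj A : Subobject E) : C) ≅ (A : C) :=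
  Subobject.isoOfEq _ _ (show (Subobject.map f).obj A = Subobject.mk (A.arrow ≫ f) by
      conv_lhs => rw [← Subobject.mk_arrow A]
      exact Subobject.map_mk _ _) ≪≫
    Subobject.underlyingIso (A.arrow ≫ f)

@[reassoc]
theorem mapObjIso_hom_arrow {S E : C} (f : S ⟶ E) [Mono f] (A : Subobject S) :
    (mapObjIso f A).hom ≫ A.arrow ≫ f = ((Subobject.map f).obj A).arrow := by
  unfold mapObjIso
  rw [Iso.trans_hom, Category.assoc, Subobject.underlyingIso_hom_comp_eq_mk, Subobject.isoOfEq_hom,
    Subobject.ofLE_arrow]

/-- pushing forward a pair of subobjects along a monomorphism does not change the quotient. -/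
noncomputable def cokernelMapIso {S E : C} (f : S ⟶ E) [Mono f] (A B : Subobject S) (h : A ≤ B)
    (h' : (Subobject.map f).obj A ≤ (Subobject.map f).obj B) :
    cokernel (Subobject.ofLE _ _ h') ≅ cokernel (Subobject.ofLE A B h) :=
  cokernel.mapIso _ _ (mapObjIso f A) (mapObjIso f B) (by
    rw [← cancel_mono (B.arrow ≫ f), Category.assoc, Category.assoc, mapObjIso_hom_arrow,
      Subobject.ofLE_arrow, Subobject.ofLE_arrow_assoc, mapObjIso_hom_arrow])

/-- the quotient of `⊤` by the image of a monomorphism is its cokernel. -/
noncomputable def cokernelTopIso {S E : C} (f : S ⟶ E) [Mono f] (h : Subobject.mk f ≤ ⊤) :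
    cokernel (Subobject.ofLE (Subobject.mk f) ⊤ h) ≅ cokernel f :=
  cokernel.mapIso _ _ (Subobject.underlyingIso f) (asIso (⊤ : Subobject E).arrow) (by
    rw [asIso_hom, Subobject.ofLE_arrow, Subobject.underlyingIso_hom_comp_eq_mk])

theorem strictMono_map {S E : C} (f : S ⟶ E) [Mono f] : StrictMono (Subobject.map f).obj :=
  (Subobject.map f).monotone.strictMono_of_injective (Subobject.map_obj_injective f)

/-- extension of a filtration of a proper subobject by the whole object. -/
theorem exists_ext {S E : C} (f : S ⟶ E) [Mono f] (hf : ¬ IsIso f) (P : C → Prop)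
    (hP : ∀ {A B : C}, (A ≅ B) → P A → P B)
    (s : LTSeries (Subobject S)) (hs0 : s.head = ⊥) (hs1 : s.last = ⊤)
    (hs : ∀ i, P (factor s i)) (hQ : P (cokernel f)) :
    ∃ t : LTSeries (Subobject E), t.head = ⊥ ∧ t.last = ⊤ ∧ ∀ i, P (factor t i) := by
  have hlast : (s.map (Subobject.map f).obj (strictMono_map f)).last = Subobject.mk f := by
    rw [LTSeries.last_map, hs1, Subobject.map_top]
  have hlt : (s.map (Subobject.map f).obj (strictMono_map f)).last < ⊤ := by
    rw [hlast]
    exact lt_of_le_of_ne le_top (fun h => hf ((Subobject.isIso_iff_mk_eq_top f).2 h))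
  refine ⟨(s.map (Subobject.map f).obj (strictMono_map f)).snoc ⊤ hlt, ?_, ?_, ?_⟩
  · rw [RelSeries.head_snoc, LTSeries.head_map, hs0, Subobject.map_bot]
  · rw [RelSeries.last_snoc]
  · intro i
    set s' := s.map (Subobject.map f).obj (strictMono_map f) with hs'
    change Fin (s.length + 1) at i
    induction i using Fin.lastCases with
    | last =>
      have hA : (s'.snoc ⊤ hlt) (Fin.castSucc (Fin.last s.length)) = Subobject.mk f := by
        rw [RelSeries.snoc_castSucc]
        exact hlast
      have hB : (s'.snoc ⊤ hlt) (Fin.succ (Fin.last s.length)) = ⊤ := by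
        exact RelSeries.last_snoc' s' ⊤ hlt
      exact hP ((factorIsoOfEq (s'.snoc ⊤ hlt) (Fin.last s.length) hA hB le_top).trans
        (cokernelTopIso f le_top)).symm hQ
    | cast j =>
      have hA : (s'.snoc ⊤ hlt) (Fin.castSucc (Fin.castSucc j)) = (Subobject.map f).obj (s j.castSucc) := by
        rw [RelSeries.snoc_castSucc]
        rfl
      have hB : (s'.snoc ⊤ hlt) (Fin.succ (Fin.castSucc j)) = (Subobject.map f).obj (s j.succ) := by
        exact RelSeries.snoc_castSucc s' ⊤ hlt j.succ
      have hle : (Subobject.map f).obj (s j.castSucc) ≤ (Subobject.map f).obj (s j.succ) :=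
        (strictMono_map f (s.step j)).le
      exact hP ((factorIsoOfEq (s'.snoc ⊤ hlt) (Fin.castSucc j) hA hB hle).trans
        (cokernelMapIso f _ _ (le_of_lt (s.step j)) hle)).symm (hs j)

/-- the trivial filtration of a zero object. -/
theorem exists_of_isZero {E : C} (hE : IsZero E) (P : C → Prop) :
    ∃ t : LTSeries (Subobject E), t.head = ⊥ ∧ t.last = ⊤ ∧ ∀ i, P (factor t i) := by
  refine ⟨RelSeries.singleton _ ⊥, RelSeries.head_singleton _, ?_, fun i => i.elim0⟩
  rw [RelSeries.last_singleton]
  refine le_antisymm bot_le ?_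
  exact Subobject.le_of_comm 0 (hE.eq_of_tgt _ _)

end Groth.Agent.Lib.T2H6.FiltExt
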