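import Mathlib
import Groth.Prelude
import Groth.Agent.Lib.Helper23ModLocal
import Groth.Agent.Lib.Helper23FinType2
import Groth.Agent.Lib.Helper20StalkExact
set_option backward.isDefEq.respectTransparency.types false

/-!
# The ascending chain condition for coherent submodules on a Noetherian scheme (helper6)

Namespace `Groth.Agent.Lib.T2H6.CohACC`.

`exists_maximal_sub` : `X` Noetherian, `Q` coherent; every nonempty family of submodules of `Q` has a member `S`
such that every inclusion `S ⟶ S'` (over `Q`) into a quasi-coherent member is an epimorphism.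
-/

set_option autoImplicit false
set_option linter.style.haveILetI false
set_option linter.unusedSectionVars false
universe u

open CategoryTheory TopCat TopologicalSpace Opposite AlgebraicGeometry Limits

namespace Groth.Agent.Lib.T2H6.CohACC

variable {X : Scheme.{u}}

/-- a morphism of quasi-coherent modules which is surjective on sections over the members of an affine open
cover is an epimorphism -/
theorem epi_of_surjective_app_cover {M N : X.Modules} [M.IsQuasicoherent] [N.IsQuasicoherent]
    (φ : M ⟶ N) {ι : Type*} (V : ι → X.Opens) (hV : IsOpenCover V) (hVa : ∀ i, IsAffineOpen (V i))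
    (h : ∀ i, Function.Surjective (φ.app (V i))) : Epi φ := by
  refine Groth.Agent.Lib.Helper23.ModLocal.epi_of_surjective_ΓU φ V hV hVa fun i => ?_
  have h1 : (hVa i).fromSpec ''ᵁ ⊤ = V i :=
    (Scheme.Hom.image_top_eq_opensRange _).trans (hVa i).opensRange_fromSpec
  have : ∀ {A B : X.Opens} (_ : A = B), Function.Surjective (φ.app B) → Function.Surjective (φ.app A) := by
    intro A B e hb; subst e; exact hb
  exact this h1 (h i)

/-- the map on sections over `U`, as a linear map. -/
noncomputable def appLin {M N : X.Modules} (φ : M ⟶ N) (U : X.Opens) :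
    Γ(M, U) →ₗ[Γ(X, U)] Γ(N, U) where
  toFun := φ.app U
  map_add' := map_add _
  map_smul' r x := Scheme.Modules.Hom.app_smul φ r x

/-- the family of images of a map on the sections over a family of opens. -/
noncomputable def rangeFam {ι : Type*} (V : ι → X.Opens) {S Q : X.Modules} (f : S ⟶ Q) :
    ∀ i : ι, Submodule Γ(X, V i) Γ(Q, V i) :=
  fun i => LinearMap.range (appLin f (V i))

theorem exists_maximal_sub [IsNoetherian X] (Q : X.Modules) (hQ : Coh.IsCoh Q)
    (P : ∀ S : X.Modules, (S ⟶ Q) → Prop) (hne : ∃ (S : X.Modules) (f : S ⟶ Q), P S f) :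
    ∃ (S : X.Modules) (f : S ⟶ Q), P S f ∧
      ∀ (S' : X.Modules) (f' : S' ⟶ Q), P S' f' → Mono f' → S.IsQuasicoherent → S'.IsQuasicoherent →
        ∀ j : S ⟶ S', j ≫ f' = f → Epi j := by
  classical
  haveI := hQ.1
  haveI : SheafOfModules.IsFiniteType (R := X.ringCatSheaf) Q := hQ.2
  obtain ⟨s, hsfin, hs⟩ := isCompact_iff_finite_and_eq_biUnion_affineOpens.1
    (show IsCompact (X := X) (⊤ : X.Opens) from by simpa using isCompact_univ)
  haveI : Finite s := hsfin.to_subtype
  let V : s → X.Opens := fun U => (U.1 : X.Opens)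
  have hVa : ∀ i, IsAffineOpen (V i) := fun i => i.1.2
  have hV : IsOpenCover V := by
    rw [IsOpenCover, eq_top_iff, hs]
    refine iSup₂_le fun U hU => ?_
    exact le_iSup V ⟨U, hU⟩
  haveI : ∀ i : s, IsNoetherian Γ(X, V i) Γ(Q, V i) := fun i => by
    haveI : IsNoetherianRing Γ(X, V i) := IsLocallyNoetherian.component_noetherian ⟨V i, hVa i⟩
    haveI : Module.Finite Γ(X, V i) Γ(Q, V i) :=
      Groth.Agent.Lib.Helper23.FinType.finite_of_isFiniteType Q (hVa i)
    exact isNoetherian_of_isNoetherianRing_of_finite _ _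
  haveI : WellFoundedGT (∀ i : s, Submodule Γ(X, V i) Γ(Q, V i)) := by
    have := Pi.wellFoundedLT (ι := s) (α := fun i => (Submodule Γ(X, V i) Γ(Q, V i))ᵒᵈ)
    exact ⟨this.wf⟩
  let A : Set (∀ i : s, Submodule Γ(X, V i) Γ(Q, V i)) :=
    {N | ∃ (S : X.Modules) (f : S ⟶ Q), P S f ∧ N = rangeFam V f}
  have hA : A.Nonempty := by
    obtain ⟨S, f, hf⟩ := hne
    exact ⟨_, S, f, hf, rfl⟩
  obtain ⟨N, ⟨S, f, hPf, rfl⟩, hmax⟩ := (wellFounded_gt (α := ∀ i : s, Submodule Γ(X, V i) Γ(Q, V i))).has_min A hA
  refine ⟨S, f, hPf, ?_⟩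
  intro S' f' hP' hmono hSq hS'q j hj
  haveI := hmono
  haveI := hSq
  haveI := hS'q
  have hle : rangeFam V f ≤ rangeFam V f' := by
    intro i x hx
    obtain ⟨y, rfl⟩ := hx
    refine ⟨j.app (V i) y, ?_⟩
    rw [← hj]
    rfl
  have heq : rangeFam V f = rangeFam V f' := by
    by_contra hne'
    exact hmax _ ⟨S', f', hP', rfl⟩ (lt_of_le_of_ne hle hne')
  refine epi_of_surjective_app_cover j V hV hVa fun i => ?_
  intro y
  have hy : appLin f' (V i) y ∈ rangeFam V f i := by
    rw [heq]
    exact ⟨y, rfl⟩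
  obtain ⟨x, hx⟩ := hy
  refine ⟨x, ?_⟩
  apply Groth.Agent.Lib.Helper20.StalkExact.injective_app_of_mono f' (V i)
  rw [← hj] at hx
  exact hx

end Groth.Agent.Lib.T2H6.CohACC
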