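import Mathlib
import Groth.Prelude.Def_StabCat
set_option backward.isDefEq.respectTransparency.types false

/-!
# Polynomial calculus for reduced Hilbert polynomials (helper6)

Namespace `Groth.Agent.Lib.T2H6.HilbPolyA`.  Mathlib and `Def_StabCat` only.

* `binomPoly i` : the polynomial `m ↦ C(m + i - 1, i)`; `ofCoords a D = Σ_{i ≤ D} a_i · binomPoly i`.
* `alpha_ofCoords` : the multiplicity of `ofCoords a D` in dimension `e` is `a e` when `a i = 0` for `i > e`.
* `eq_of_eval_nat` : polynomials are determined by their values on `ℕ`.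
* see-saw and transitivity lemmas for `StabCat.RedLE`, `RedLT`, `RedEq`.
-/

set_option autoImplicit false
set_option linter.style.haveILetI false
set_option linter.unusedSectionVars false
open Polynomial StabCat

namespace Groth.Agent.Lib.T2H6.HilbPolyA

/-- the polynomial `m ↦ C(m + i - 1, i)`. -/
noncomputable def binomPoly (i : ℕ) : ℚ[X] := C ((i.factorial : ℚ)⁻¹) * ascPochhammer ℚ i

theorem eval_binomPoly (i m : ℕ) : (binomPoly i).eval (m : ℚ) = ((m + i - 1).choose i : ℚ) := by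
  rw [binomPoly, eval_mul, eval_C, ascPochhammer_nat_eq_natCast_ascFactorial,
    Nat.ascFactorial_eq_factorial_mul_choose']
  have : (i.factorial : ℚ) ≠ 0 := by exact_mod_cast i.factorial_ne_zero
  push_cast
  field_simp

theorem natDegree_binomPoly_le (i : ℕ) : (binomPoly i).natDegree ≤ i := by
  unfold binomPoly
  refine le_trans (natDegree_C_mul_le _ _) ?_
  rw [ascPochhammer_natDegree]

theorem coeff_binomPoly_self (i : ℕ) : (binomPoly i).coeff i = ((i.factorial : ℚ))⁻¹ := by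
  unfold binomPoly
  rw [coeff_C_mul]
  have h := (monic_ascPochhammer ℚ i)
  have h2 : (ascPochhammer ℚ i).coeff i = 1 := by
    have := h.leadingCoeff
    rwa [leadingCoeff, ascPochhammer_natDegree] at this
  rw [h2, mul_one]

theorem coeff_binomPoly_of_lt {i j : ℕ} (h : i < j) : (binomPoly i).coeff j = 0 :=
  coeff_eq_zero_of_natDegree_lt (lt_of_le_of_lt (natDegree_binomPoly_le i) h)

/-- the polynomial with binomial coordinates `a_0, …, a_D`. -/
noncomputable def ofCoords (a : ℕ → ℚ) (D : ℕ) : ℚ[X] :=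
  ∑ i ∈ Finset.range (D + 1), C (a i) * binomPoly i

theorem eval_ofCoords (a : ℕ → ℚ) (D m : ℕ) :
    (ofCoords a D).eval (m : ℚ) = ∑ i ∈ Finset.range (D + 1), a i * ((m + i - 1).choose i : ℚ) := by
  unfold ofCoords
  rw [eval_finsetSum]
  refine Finset.sum_congr rfl (fun i _ => ?_)
  rw [eval_mul, eval_C, eval_binomPoly]

theorem coeff_ofCoords (a : ℕ → ℚ) (D e : ℕ) (h0 : ∀ i, e < i → a i = 0) :
    (ofCoords a D).coeff e = if e ≤ D then a e / (e.factorial : ℚ) else 0 := by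
  unfold ofCoords
  rw [finset_sum_coeff]
  have hterm : ∀ i ∈ Finset.range (D + 1), i ≠ e → (C (a i) * binomPoly i).coeff e = 0 := by
    intro i _ hie
    rw [coeff_C_mul]
    rcases lt_or_gt_of_ne hie with h | h
    · rw [coeff_binomPoly_of_lt h, mul_zero]
    · rw [h0 i h, zero_mul]
  by_cases he : e ≤ D
  · rw [if_pos he, Finset.sum_eq_single_of_mem e (Finset.mem_range.2 (by omega)) hterm, coeff_C_mul,
      coeff_binomPoly_self, div_eq_mul_inv]
  · rw [if_neg he]
    apply Finset.sum_eq_zero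
    intro i hi
    exact hterm i hi (by rw [Finset.mem_range] at hi; omega)

theorem alpha_ofCoords (a : ℕ → ℚ) (D e : ℕ) (he : e ≤ D) (h0 : ∀ i, e < i → a i = 0) :
    alpha e (ofCoords a D) = a e := by
  unfold alpha
  rw [coeff_ofCoords a D e h0, if_pos he]
  have : (e.factorial : ℚ) ≠ 0 := by exact_mod_cast e.factorial_ne_zero
  field_simp

theorem alpha_ofCoords_of_lt (a : ℕ → ℚ) (D e d : ℕ) (hed : e < d) (h0 : ∀ i, e < i → a i = 0) :
    alpha d (ofCoords a D) = 0 := by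
  unfold alpha
  rw [coeff_ofCoords a D d (fun i hi => h0 i (lt_trans hed hi))]
  split_ifs
  · rw [h0 d hed, zero_div, mul_zero]
  · rw [mul_zero]

/-- polynomials are determined by their values at the natural numbers. -/
theorem eq_of_eval_nat (P Q : ℚ[X]) (h : ∀ m : ℕ, P.eval (m : ℚ) = Q.eval (m : ℚ)) : P = Q := by
  apply Polynomial.eq_of_infinite_eval_eq
  apply Set.infinite_of_injective_forall_mem (f := fun m : ℕ => (m : ℚ)) Nat.cast_injective
  intro m
  exact h m

theorem alpha_add (d : ℕ) (P Q : ℚ[X]) : alpha d (P + Q) = alpha d P + alpha d Q := by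
  unfold alpha; rw [coeff_add]; ring

theorem alpha_smul (d : ℕ) (c : ℚ) (P : ℚ[X]) : alpha d (c • P) = c * alpha d P := by
  unfold alpha; rw [coeff_smul, smul_eq_mul]; ring

section calculus

variable {d : ℕ} {P Q R : ℚ[X]}

theorem redLE_refl (d : ℕ) (P : ℚ[X]) : RedLE d P P := ⟨0, fun _ _ => le_refl _⟩

theorem redLE_of_redEq (h : RedEq d P Q) : RedLE d P Q := by
  unfold RedEq at h
  exact ⟨0, fun m _ => by rw [h]⟩

theorem redLE_of_redEq' (h : RedEq d P Q) : RedLE d Q P := by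
  unfold RedEq at h
  exact ⟨0, fun m _ => by rw [h]⟩

theorem redLE_of_redLT (h : RedLT d P Q) : RedLE d P Q := by
  obtain ⟨N, hN⟩ := h
  exact ⟨N, fun m hm => (hN m hm).le⟩

/-- transitivity of the reduced comparison (positive middle multiplicity). -/
theorem redLE_trans (hP : 0 ≤ alpha d P) (hQ : 0 < alpha d Q) (hR : 0 ≤ alpha d R)
    (h1 : RedLE d P Q) (h2 : RedLE d Q R) : RedLE d P R := by
  obtain ⟨N1, hN1⟩ := h1
  obtain ⟨N2, hN2⟩ := h2
  refine ⟨max N1 N2, fun m hm => ?_⟩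
  have e1 := hN1 m (le_trans (le_max_left _ _) hm)
  have e2 := hN2 m (le_trans (le_max_right _ _) hm)
  simp only [eval_smul, smul_eq_mul] at e1 e2 ⊢
  have e3 := mul_le_mul_of_nonneg_left e1 hR
  have e4 := mul_le_mul_of_nonneg_left e2 hP
  have e5 : alpha d Q * (alpha d R * P.eval (m : ℚ)) ≤ alpha d Q * (alpha d P * R.eval (m : ℚ)) := by
    nlinarith
  exact le_of_mul_le_mul_left e5 hQ

theorem redLT_of_redLT_of_redLE (hP : 0 ≤ alpha d P) (hQ : 0 < alpha d Q) (hR : 0 < alpha d R)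
    (h1 : RedLT d P Q) (h2 : RedLE d Q R) : RedLT d P R := by
  obtain ⟨N1, hN1⟩ := h1
  obtain ⟨N2, hN2⟩ := h2
  refine ⟨max N1 N2, fun m hm => ?_⟩
  have e1 := hN1 m (le_trans (le_max_left _ _) hm)
  have e2 := hN2 m (le_trans (le_max_right _ _) hm)
  simp only [eval_smul, smul_eq_mul] at e1 e2 ⊢
  have e3 := mul_lt_mul_of_pos_left e1 hR
  have e4 := mul_le_mul_of_nonneg_left e2 hP
  have e5 : alpha d Q * (alpha d R * P.eval (m : ℚ)) < alpha d Q * (alpha d P * R.eval (m : ℚ)) := by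
    nlinarith
  exact lt_of_mul_lt_mul_left e5 hQ.le

theorem redLT_of_redLE_of_redLT (hP : 0 < alpha d P) (hQ : 0 < alpha d Q) (hR : 0 ≤ alpha d R)
    (h1 : RedLE d P Q) (h2 : RedLT d Q R) : RedLT d P R := by
  obtain ⟨N1, hN1⟩ := h1
  obtain ⟨N2, hN2⟩ := h2
  refine ⟨max N1 N2, fun m hm => ?_⟩
  have e1 := hN1 m (le_trans (le_max_left _ _) hm)
  have e2 := hN2 m (le_trans (le_max_right _ _) hm)
  simp only [eval_smul, smul_eq_mul] at e1 e2 ⊢
  have e3 := mul_le_mul_of_nonneg_left e1 hR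
  have e4 := mul_lt_mul_of_pos_left e2 hP
  have e5 : alpha d Q * (alpha d R * P.eval (m : ℚ)) < alpha d Q * (alpha d P * R.eval (m : ℚ)) := by
    nlinarith
  exact lt_of_mul_lt_mul_left e5 hQ.le

theorem not_redLT_self (d : ℕ) (P : ℚ[X]) : ¬ RedLT d P P := by
  rintro ⟨N, hN⟩
  exact lt_irrefl _ (hN N le_rfl)

/-- **see-saw**: if `P_F = P_K + P_I` and `p(K) ≤ p(F)` then `p(F) ≤ p(I)`. -/
theorem seesaw_le {PK PI PF : ℚ[X]} (h : PF = PK + PI) (hle : RedLE d PK PF) : RedLE d PF PI := by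
  obtain ⟨N, hN⟩ := hle
  refine ⟨N, fun m hm => ?_⟩
  have e1 := hN m hm
  have ha : alpha d PF = alpha d PK + alpha d PI := by rw [h, alpha_add]
  simp only [eval_smul, smul_eq_mul] at e1 ⊢
  have hv : PF.eval (m : ℚ) = PK.eval (m : ℚ) + PI.eval (m : ℚ) := by rw [h, eval_add]
  rw [ha, hv] at e1 ⊢
  nlinarith

theorem seesaw_lt {PK PI PF : ℚ[X]} (h : PF = PK + PI) (hlt : RedLT d PK PF) : RedLT d PF PI := by
  obtain ⟨N, hN⟩ := hlt
  refine ⟨N, fun m hm => ?_⟩
  have e1 := hN m hm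
  have ha : alpha d PF = alpha d PK + alpha d PI := by rw [h, alpha_add]
  simp only [eval_smul, smul_eq_mul] at e1 ⊢
  have hv : PF.eval (m : ℚ) = PK.eval (m : ℚ) + PI.eval (m : ℚ) := by rw [h, eval_add]
  rw [ha, hv] at e1 ⊢
  nlinarith

/-- the other see-saw: if `P_F = P_K + P_I` and `p(I) ≤ p(F)` then `p(F) ≤ p(K)`. -/
theorem seesaw_le' {PK PI PF : ℚ[X]} (h : PF = PK + PI) (hle : RedLE d PI PF) : RedLE d PF PK :=
  seesaw_le (by rw [h, add_comm]) hle

theorem seesaw_lt' {PK PI PF : ℚ[X]} (h : PF = PK + PI) (hlt : RedLT d PI PF) : RedLT d PF PK :=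
  seesaw_lt (by rw [h, add_comm]) hlt

end calculus

end Groth.Agent.Lib.T2H6.HilbPolyA
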