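import Mathlib
import Groth.Prelude
import Groth.Agent.S11753
import Groth.Agent.Lib.T2H6PosD
import Groth.Agent.Lib.T2H9TensorInv
import Groth.Agent.Lib.Helper3DimCons
import Groth.Agent.Lib.T2H6HilbPolyA
set_option backward.isDefEq.respectTransparency.types false

/-!
# Hilbert polynomials of coherent modules on a proper scheme over a field (helper6)

Namespace `Groth.Agent.Lib.T2H6.HilbPolyB`.  `X` proper over a field `k`, `L` an invertible module.

* `hilb k L F` : the Hilbert polynomial of `F` with respect to `L` (binomial coordinates = intersection numbers).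
* `isHilbPoly_hilb` : it is one (`ShStab.IsHilbPoly`); `isHilbPoly_unique`.
* `alpha_pos` : `L` ample, `dim Supp F = d` ⇒ `0 < alpha d P`; `alpha_eq_zero` : `dim Supp F < d` ⇒ `alpha d P = 0`.
* `isHilbPoly_add` : additivity on short exact sequences; `isHilbPoly_of_iso`.
-/

set_option autoImplicit false
set_option linter.style.haveILetI false
set_option linter.unusedSectionVars false
universe u

open CategoryTheory TopCat TopologicalSpace Opposite AlgebraicGeometry Limits Polynomial StabCat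

namespace Groth.Agent.Lib.T2H6.HilbPolyB

open Groth.Agent.Lib.T2H6.HilbPolyA Groth.Agent.Lib.T2H5.Twist Groth.Agent.Lib.T2H6.TensorPows
  Groth.Agent.Lib.T2H6.IntNum

variable {X : Scheme.{u}} (k : Type u) [Field k] [X.Over (Spec (CommRingCat.of k))]
  [IsProper (X ↘ Spec (CommRingCat.of k))]

include k in
theorem exists_dim_le : ∃ D : ℕ, topologicalKrullDim X ≤ (D : WithBot ℕ∞) := by
  haveI : CompactSpace X :=
    QuasiCompact.compactSpace_of_compactSpace (X ↘ Spec (CommRingCat.of k))
  have h := Groth.Agent.Lib.Helper3.DimCons.topologicalKrullDim_lt_top_of_lft_field k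
    (X ↘ Spec (CommRingCat.of k))
  generalize topologicalKrullDim X = t at h
  induction t with
  | bot => exact ⟨0, bot_le⟩
  | coe n =>
    have hn : n ≠ ⊤ := by
      rintro rfl
      exact lt_irrefl _ h
    obtain ⟨m, rfl⟩ := ENat.ne_top_iff_exists.1 hn
    exact ⟨m, le_refl _⟩

/-- a natural number bounding the dimension of `X`. -/
noncomputable def dimBound : ℕ := (exists_dim_le (X := X) k).choose

theorem dimBound_spec : topologicalKrullDim X ≤ (dimBound (X := X) k : WithBot ℕ∞) :=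
  (exists_dim_le (X := X) k).choose_spec

theorem support_dim_le (F : X.Modules) :
    topologicalKrullDim (CohB1.support F) ≤ (dimBound (X := X) k : WithBot ℕ∞) :=
  (topologicalKrullDim_subspace_le X _).trans (dimBound_spec k)

/-- the Hilbert polynomial of `F` with respect to `L`. -/
noncomputable def hilb (L F : X.Modules) : ℚ[X] :=
  ofCoords (fun i => (FGA.intNum k X (dimBound (X := X) k)
    (fun _ : Fin i => Groth.Agent.Lib.T2H9.TensorInv.inv L) F : ℚ)) (dimBound (X := X) k)

theorem isHilbPoly_hilb (L : X.Modules) (hL : PicF.IsInvertible L) (F : X.Modules) (hF : Coh.IsCoh F) :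
    ShStab.IsHilbPoly k X L F (hilb k L F) := by
  intro m
  unfold hilb ShStab.twist
  rw [eval_ofCoords,
    Groth.Agent.Lib.T2H6.FieldBC.euler_eq_of_iso k X (braidIso F (CohB1.tensorPow L m)),
    ← Groth.Agent.Lib.T2H6.FGABridge.eulerCharLE_eq_euler k X _ _ (dimBound_spec k),
    Groth.Agent.S11753.result k X _ (dimBound_spec k) L (Groth.Agent.Lib.T2H9.TensorInv.inv L) hL
      ⟨Groth.Agent.Lib.T2H9.TensorInv.tensorInvIso L hL⟩ F hF _ (support_dim_le k F) m]
  push_cast
  refine Finset.sum_congr rfl fun i _ => ?_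
  ring

include k in
theorem isHilbPoly_unique (L F : X.Modules) (P Q : ℚ[X]) (hP : ShStab.IsHilbPoly k X L F P)
    (hQ : ShStab.IsHilbPoly k X L F Q) : P = Q :=
  eq_of_eval_nat P Q fun m => by rw [← hP m, ← hQ m]

theorem eq_hilb (L : X.Modules) (hL : PicF.IsInvertible L) (F : X.Modules) (hF : Coh.IsCoh F) (P : ℚ[X])
    (hP : ShStab.IsHilbPoly k X L F P) : P = hilb k L F :=
  isHilbPoly_unique k L F P _ hP (isHilbPoly_hilb k L hL F hF)

theorem intNum_eq_zero (L : X.Modules) (hL : PicF.IsInvertible L) (F : X.Modules) (hF : Coh.IsCoh F)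
    (i : ℕ) (hi : topologicalKrullDim (CohB1.support F) < (i : WithBot ℕ∞)) :
    FGA.intNum k X (dimBound (X := X) k) (fun _ : Fin i => Groth.Agent.Lib.T2H9.TensorInv.inv L) F = 0 := by
  rw [Groth.Agent.Lib.T2H6.FGABridge.intNum_eq k _ (dimBound_spec k),
    inum_eq_zero k i _ (fun _ => Groth.Agent.Lib.T2H9.TensorInv.isInvertible_inv L hL) F hF hi, mul_zero]

/-- the multiplicity vanishes above the dimension of the support. -/
theorem alpha_eq_zero (L : X.Modules) (hL : PicF.IsInvertible L) (F : X.Modules) (hF : Coh.IsCoh F)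
    (P : ℚ[X]) (hP : ShStab.IsHilbPoly k X L F P) (d : ℕ)
    (h : topologicalKrullDim (CohB1.support F) < (d : WithBot ℕ∞)) : alpha d P = 0 := by
  rw [eq_hilb k L hL F hF P hP]
  unfold hilb alpha
  rw [coeff_ofCoords _ _ d (fun i hi => by
    rw [intNum_eq_zero k L hL F hF i (h.trans (by exact_mod_cast hi)), Int.cast_zero])]
  split_ifs
  · rw [intNum_eq_zero k L hL F hF d h, Int.cast_zero, zero_div, mul_zero]
  · rw [mul_zero]

/-- the multiplicity is positive in the dimension of the support. -/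
theorem alpha_pos (L : X.Modules) (hL : CohB1.IsAmple L) (F : X.Modules) (hF : Coh.IsCoh F)
    (P : ℚ[X]) (hP : ShStab.IsHilbPoly k X L F P) (d : ℕ)
    (hd : topologicalKrullDim (CohB1.support F) = (d : WithBot ℕ∞)) : 0 < alpha d P := by
  rw [eq_hilb k L hL.1 F hF P hP]
  unfold hilb
  have hdD : d ≤ dimBound (X := X) k := by
    have := support_dim_le k F
    rw [hd] at this
    exact_mod_cast this
  rw [alpha_ofCoords _ _ d hdD fun i hi => by
    rw [intNum_eq_zero k L hL.1 F hF i (lt_of_le_of_lt hd.le (by exact_mod_cast hi)), Int.cast_zero]]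
  rw [Groth.Agent.Lib.T2H6.FGABridge.intNum_eq k _ (dimBound_spec k)]
  exact_mod_cast Groth.Agent.Lib.T2H6.PosD.pos k d (fun _ => L) _ (fun _ => hL)
    (fun _ => ⟨Groth.Agent.Lib.T2H9.TensorInv.tensorInvIso L hL.1⟩) F hF hd

theorem alpha_nonneg (L : X.Modules) (hL : CohB1.IsAmple L) (F : X.Modules) (hF : Coh.IsCoh F)
    (P : ℚ[X]) (hP : ShStab.IsHilbPoly k X L F P) (d : ℕ)
    (hd : topologicalKrullDim (CohB1.support F) ≤ (d : WithBot ℕ∞)) : 0 ≤ alpha d P := by
  rcases hd.lt_or_eq with h | h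
  · rw [alpha_eq_zero k L hL.1 F hF P hP d h]
  · exact (alpha_pos k L hL F hF P hP d h).le

include k in
theorem isHilbPoly_of_iso (L : X.Modules) {F G : X.Modules} (e : F ≅ G) (P : ℚ[X])
    (hP : ShStab.IsHilbPoly k X L F P) : ShStab.IsHilbPoly k X L G P := by
  intro m
  rw [← hP m]
  unfold ShStab.twist
  exact_mod_cast (Groth.Agent.Lib.T2H6.FieldBC.euler_eq_of_iso k X
    ((tr (CohB1.tensorPow L m)).mapIso e)).symm

/-- additivity of Hilbert polynomials in short exact sequences. -/
theorem isHilbPoly_add (L : X.Modules) (hL : PicF.IsInvertible L) (S : ShortComplex X.Modules)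
    (hS : S.ShortExact) (h₁ : Coh.IsCoh S.X₁) (h₂ : Coh.IsCoh S.X₂) (h₃ : Coh.IsCoh S.X₃)
    (P₁ P₂ P₃ : ℚ[X]) (hP₁ : ShStab.IsHilbPoly k X L S.X₁ P₁) (hP₂ : ShStab.IsHilbPoly k X L S.X₂ P₂)
    (hP₃ : ShStab.IsHilbPoly k X L S.X₃ P₃) : P₂ = P₁ + P₃ := by
  refine eq_of_eval_nat _ _ fun m => ?_
  rw [eval_add, ← hP₁ m, ← hP₂ m, ← hP₃ m]
  have hLm := Groth.Agent.Lib.Helper23.SecTw.isInvertible_tensorPow hL m
  have cLm := Groth.Agent.Lib.T2H6.CurveDeg.isCoh_of_isInvertible _ hLm
  have := Groth.Agent.Lib.T2H6.EulerField.euler_additive k X (S.map (tr (CohB1.tensorPow L m)))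
    (shortExact_map_tr hLm S hS)
    (Groth.Agent.Lib.T2H6.TensorDeg.isCoh_tensor _ _ h₁ cLm)
    (Groth.Agent.Lib.T2H6.TensorDeg.isCoh_tensor _ _ h₂ cLm)
    (Groth.Agent.Lib.T2H6.TensorDeg.isCoh_tensor _ _ h₃ cLm)
  unfold ShStab.twist
  exact_mod_cast this

end Groth.Agent.Lib.T2H6.HilbPolyB
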