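import Mathlib
import Groth.Prelude
import Groth.Agent.Lib.T2H6HilbPolyB
import Groth.Agent.Lib.T2H6HHLin
import Groth.Agent.Lib.T2H6CurveVB
import Groth.Agent.Lib.T2H6CurveSS2
import Groth.Agent.Lib.T2H5Devissage
set_option backward.isDefEq.respectTransparency.types false

/-!
# Morphisms between semistable sheaves (helper6)

Namespace `Groth.Agent.Lib.T2H6.HilbPolyC`.  `X` proper over a field `k`, `L` ample.

* `isZero_of_isHilbPoly_zero`, `isHilbPoly_zero_of_isZero`.
* `redLE_image`, `redLT_image` : `F` semistable (stable), `φ : F ⟶ G` nonzero (not mono) ⇒ `p(F) ≤ p(im φ)` (`<`).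
* `image_redLE`, `image_redLT` : `G` semistable (stable) ⇒ `p(im φ) ≤ p(G)` (`<` if `φ` not epi).
* `redLE_of_hom_ne_zero`, `mono_of_stable`, `epi_of_stable`, `isIso_of_stable`.
-/

set_option autoImplicit false
set_option linter.style.haveILetI false
set_option linter.unusedSectionVars false
universe u

open CategoryTheory TopCat TopologicalSpace Opposite AlgebraicGeometry Limits Polynomial StabCat

namespace Groth.Agent.Lib.T2H6.HilbPolyC

open Groth.Agent.Lib.T2H6.HilbPolyA Groth.Agent.Lib.T2H6.HilbPolyB Groth.Agent.Lib.T2H6.HHLin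

variable {X : Scheme.{u}} (k : Type u) [Field k] [X.Over (Spec (CommRingCat.of k))]
  [IsProper (X ↘ Spec (CommRingCat.of k))]

include k in
theorem isLocallyNoetherian : IsLocallyNoetherian X := by
  haveI : IsNoetherian X := Groth.Agent.Lib.T2H6.CurveSatur.isNoetherian_of_proper k
  infer_instance

theorem isHilbPoly_zero_of_isZero (L F : X.Modules) (h : IsZero F) : ShStab.IsHilbPoly k X L F 0 := by
  intro m
  unfold ShStab.twist
  have hz : IsZero (CohB1.tensorMod F (CohB1.tensorPow L m)) :=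
    (Groth.Agent.Lib.T2H5.Twist.tr (CohB1.tensorPow L m)).map_isZero h
  rw [Groth.Agent.Lib.T2H6.CurveSS2.euler_eq_zero_of_isZero k _ hz, eval_zero, Int.cast_zero]

include k in
theorem exists_nat_dim (T : Set X) (hT : T.Nonempty) : ∃ e : ℕ, topologicalKrullDim T = (e : WithBot ℕ∞) := by
  have hle : topologicalKrullDim T ≤ (dimBound (X := X) k : WithBot ℕ∞) :=
    (topologicalKrullDim_subspace_le X _).trans (dimBound_spec k)
  haveI : Nonempty T := hT.to_subtype
  have h0 : (0 : WithBot ℕ∞) ≤ topologicalKrullDim T := by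
    unfold topologicalKrullDim
    haveI : Nonempty (IrreducibleCloseds T) := by
      obtain ⟨t⟩ := ‹Nonempty T›
      exact ⟨⟨closure {t}, isIrreducible_singleton.closure, isClosed_closure⟩⟩
    exact Order.krullDim_nonneg
  generalize topologicalKrullDim T = t at hle h0
  induction t with
  | bot => exact absurd h0 (by simp)
  | coe n =>
    have hn : n ≠ ⊤ := by
      rintro rfl
      have : (⊤ : ℕ∞) ≤ (dimBound (X := X) k : ℕ∞) := by exact_mod_cast hle
      exact absurd this (by simp)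
    obtain ⟨m, rfl⟩ := ENat.ne_top_iff_exists.1 hn
    exact ⟨m, rfl⟩

/-- a coherent module whose Hilbert polynomial vanishes is zero. -/
theorem isZero_of_isHilbPoly_zero (L : X.Modules) (hL : CohB1.IsAmple L) (F : X.Modules) (hF : Coh.IsCoh F)
    (h : ShStab.IsHilbPoly k X L F 0) : IsZero F := by
  by_contra hne
  have hsupp : (CohB1.support F).Nonempty := by
    rw [Set.nonempty_iff_ne_empty]
    intro he
    exact hne (Groth.Agent.Lib.T2H5.Devissage.isZero_of_support_eq_empty F he)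
  obtain ⟨e, he⟩ := exists_nat_dim k _ hsupp
  have := alpha_pos k L hL F hF 0 h e he
  unfold alpha at this
  simp at this

section hom

variable (L : X.Modules) (hL : CohB1.IsAmple L) {d : ℕ}

theorem dim_support_of_pure {E : X.Modules} (hp : ShStab.IsPure X E d) (hE : Coh.IsCoh E) (h0 : ¬ IsZero E) :
    topologicalKrullDim (CohB1.support E) = (d : WithBot ℕ∞) :=
  hp E (𝟙 E) inferInstance hE h0

include hL in
theorem alpha_pos_of_sub {E F : X.Modules} (hp : ShStab.IsPure X E d) (ι : F ⟶ E) [Mono ι]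
    (hF : Coh.IsCoh F) (h0 : ¬ IsZero F) (P : ℚ[X]) (hP : ShStab.IsHilbPoly k X L F P) : 0 < alpha d P :=
  alpha_pos k L hL F hF P hP d (hp F ι inferInstance hF h0)

theorem not_isZero_image {F G : X.Modules} (φ : F ⟶ G) (hφ : φ ≠ 0) : ¬ IsZero (Abelian.image φ) := by
  intro h
  apply hφ
  rw [← Abelian.image.fac φ]
  rw [h.eq_of_tgt (Abelian.factorThruImage φ) 0, Limits.zero_comp]

theorem not_isIso_kernel_ι {F G : X.Modules} (φ : F ⟶ G) (hφ : φ ≠ 0) : ¬ IsIso (kernel.ι φ) := by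
  intro h
  exact hφ ((cancel_epi (kernel.ι φ)).1 (by rw [kernel.condition, Limits.comp_zero]))

theorem epi_of_isIso_image_ι {F G : X.Modules} (φ : F ⟶ G) (h : IsIso (Abelian.image.ι φ)) : Epi φ := by
  rw [← Abelian.image.fac φ]
  infer_instance

include hL in
/-- see-saw for the kernel/image sequence: the Hilbert polynomials add. -/
theorem hilb_add_kerIm {F G : X.Modules} (hF : Coh.IsCoh F) (hG : Coh.IsCoh G) (φ : F ⟶ G)
    (pK pF pI : ℚ[X]) (hpK : ShStab.IsHilbPoly k X L (kernel φ) pK) (hpF : ShStab.IsHilbPoly k X L F pF)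
    (hpI : ShStab.IsHilbPoly k X L (Abelian.image φ) pI) : pF = pK + pI := by
  haveI := isLocallyNoetherian (X := X) k
  exact isHilbPoly_add k L hL.1 (kerImSC φ) (kerImSC_shortExact φ)
    (Groth.Agent.Lib.T2H5.GenIsoB.isCoh_kernel φ hF hG) hF
    (Groth.Agent.Lib.T2H6.CurveVB.isCoh_image φ hF hG) pK pF pI hpK hpF hpI

include hL in
/-- `F` semistable, `φ : F ⟶ G` nonzero: `p(F) ≤ p(im φ)`. -/
theorem redLE_image {F G : X.Modules} (hF : Coh.IsCoh F) (hG : Coh.IsCoh G)
    (hFss : StabCat.IsSS Coh.IsCoh (ShStab.IsHilbPoly k X L) d F)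
    (φ : F ⟶ G) (hφ : φ ≠ 0) (pF pI : ℚ[X]) (hpF : ShStab.IsHilbPoly k X L F pF)
    (hpI : ShStab.IsHilbPoly k X L (Abelian.image φ) pI) : RedLE d pF pI := by
  haveI := isLocallyNoetherian (X := X) k
  have cK := Groth.Agent.Lib.T2H5.GenIsoB.isCoh_kernel φ hF hG
  have hpK := isHilbPoly_hilb k L hL.1 (kernel φ) cK
  have hadd := hilb_add_kerIm k L hL hF hG φ _ pF pI hpK hpF hpI
  by_cases hK : IsZero (kernel φ)
  · have h0 : hilb k L (kernel φ) = 0 :=
      isHilbPoly_unique k L _ _ _ hpK (isHilbPoly_zero_of_isZero k L _ hK)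
    rw [h0, zero_add] at hadd
    rw [hadd]
    exact redLE_refl d pI
  · exact seesaw_le hadd
      (hFss (kernel φ) (kernel.ι φ) inferInstance cK hK (not_isIso_kernel_ι φ hφ) _ pF hpK hpF)

include hL in
/-- `F` stable, `φ : F ⟶ G` nonzero and not a monomorphism: `p(F) < p(im φ)`. -/
theorem redLT_image {F G : X.Modules} (hF : Coh.IsCoh F) (hG : Coh.IsCoh G)
    (hFst : StabCat.IsSt Coh.IsCoh (ShStab.IsHilbPoly k X L) d F)
    (φ : F ⟶ G) (hφ : φ ≠ 0) (hmono : ¬ Mono φ) (pF pI : ℚ[X]) (hpF : ShStab.IsHilbPoly k X L F pF)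
    (hpI : ShStab.IsHilbPoly k X L (Abelian.image φ) pI) : RedLT d pF pI := by
  haveI := isLocallyNoetherian (X := X) k
  have cK := Groth.Agent.Lib.T2H5.GenIsoB.isCoh_kernel φ hF hG
  have hpK := isHilbPoly_hilb k L hL.1 (kernel φ) cK
  have hadd := hilb_add_kerIm k L hL hF hG φ _ pF pI hpK hpF hpI
  have hK : ¬ IsZero (kernel φ) := fun h => hmono (Preadditive.mono_of_isZero_kernel φ h)
  exact seesaw_lt hadd
    (hFst (kernel φ) (kernel.ι φ) inferInstance cK hK (not_isIso_kernel_ι φ hφ) _ pF hpK hpF)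

include hL in
/-- `G` semistable, `φ : F ⟶ G` nonzero: `p(im φ) ≤ p(G)`. -/
theorem image_redLE {F G : X.Modules} (hF : Coh.IsCoh F) (hG : Coh.IsCoh G)
    (hGss : StabCat.IsSS Coh.IsCoh (ShStab.IsHilbPoly k X L) d G)
    (φ : F ⟶ G) (hφ : φ ≠ 0) (pI pG : ℚ[X]) (hpI : ShStab.IsHilbPoly k X L (Abelian.image φ) pI)
    (hpG : ShStab.IsHilbPoly k X L G pG) : RedLE d pI pG := by
  haveI := isLocallyNoetherian (X := X) k
  have cI := Groth.Agent.Lib.T2H6.CurveVB.isCoh_image φ hF hG
  by_cases hiso : IsIso (Abelian.image.ι φ)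
  · have : pI = pG :=
      isHilbPoly_unique k L _ _ _ (isHilbPoly_of_iso k L (asIso (Abelian.image.ι φ)) pI hpI) hpG
    rw [this]
    exact redLE_refl d pG
  · exact hGss _ (Abelian.image.ι φ) inferInstance cI (not_isZero_image φ hφ) hiso pI pG hpI hpG

include hL in
/-- `G` stable, `φ : F ⟶ G` nonzero and not an epimorphism: `p(im φ) < p(G)`. -/
theorem image_redLT {F G : X.Modules} (hF : Coh.IsCoh F) (hG : Coh.IsCoh G)
    (hGst : StabCat.IsSt Coh.IsCoh (ShStab.IsHilbPoly k X L) d G)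
    (φ : F ⟶ G) (hφ : φ ≠ 0) (hepi : ¬ Epi φ) (pI pG : ℚ[X])
    (hpI : ShStab.IsHilbPoly k X L (Abelian.image φ) pI)
    (hpG : ShStab.IsHilbPoly k X L G pG) : RedLT d pI pG := by
  haveI := isLocallyNoetherian (X := X) k
  have cI := Groth.Agent.Lib.T2H6.CurveVB.isCoh_image φ hF hG
  exact hGst _ (Abelian.image.ι φ) inferInstance cI (not_isZero_image φ hφ)
    (fun h => hepi (epi_of_isIso_image_ι φ h)) pI pG hpI hpG

theorem isSS_of_isSt {E : X.Modules} (h : StabCat.IsSt Coh.IsCoh (ShStab.IsHilbPoly k X L) d E) :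
    StabCat.IsSS Coh.IsCoh (ShStab.IsHilbPoly k X L) d E :=
  fun F ι hι hF h0 hiso pF pE hpF hpE => redLE_of_redLT (h F ι hι hF h0 hiso pF pE hpF hpE)

end hom

section main

variable (L : X.Modules) (hL : CohB1.IsAmple L) {d : ℕ}

theorem isSemistable_of_isStable {E : X.Modules} (h : ShStab.IsStable k X L E d) :
    ShStab.IsSemistable k X L E d :=
  ⟨h.1, h.2.1, h.2.2.1, isSS_of_isSt k L h.2.2.2⟩

include hL in
theorem alpha_pos_of_isSemistable {E : X.Modules} (hE : ShStab.IsSemistable k X L E d) (P : ℚ[X])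
    (hP : ShStab.IsHilbPoly k X L E P) : 0 < alpha d P :=
  alpha_pos k L hL E hE.1 P hP d (dim_support_of_pure hE.2.2.1 hE.1 hE.2.1)

include hL in
/-- a nonzero morphism between semistable sheaves forces `p(F) ≤ p(G)`. -/
theorem redLE_of_hom_ne_zero {F G : X.Modules} (hF : ShStab.IsSemistable k X L F d)
    (hG : ShStab.IsSemistable k X L G d) (φ : F ⟶ G) (hφ : φ ≠ 0) (pF pG : ℚ[X])
    (hpF : ShStab.IsHilbPoly k X L F pF) (hpG : ShStab.IsHilbPoly k X L G pG) : RedLE d pF pG := by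
  haveI := isLocallyNoetherian (X := X) k
  have cI := Groth.Agent.Lib.T2H6.CurveVB.isCoh_image φ hF.1 hG.1
  have hpI := isHilbPoly_hilb k L hL.1 _ cI
  exact redLE_trans (alpha_pos_of_isSemistable k L hL hF pF hpF).le
    (alpha_pos_of_sub k L hL hG.2.2.1 (Abelian.image.ι φ) cI (not_isZero_image φ hφ) _ hpI)
    (alpha_pos_of_isSemistable k L hL hG pG hpG).le
    (redLE_image k L hL hF.1 hG.1 hF.2.2.2 φ hφ pF _ hpF hpI)
    (image_redLE k L hL hF.1 hG.1 hG.2.2.2 φ hφ _ pG hpI hpG)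

include hL in
theorem redLT_of_not_mono {F G : X.Modules} (hF : ShStab.IsStable k X L F d)
    (hG : ShStab.IsSemistable k X L G d) (φ : F ⟶ G) (hφ : φ ≠ 0) (hm : ¬ Mono φ) (pF pG : ℚ[X])
    (hpF : ShStab.IsHilbPoly k X L F pF) (hpG : ShStab.IsHilbPoly k X L G pG) : RedLT d pF pG := by
  haveI := isLocallyNoetherian (X := X) k
  have cI := Groth.Agent.Lib.T2H6.CurveVB.isCoh_image φ hF.1 hG.1
  have hpI := isHilbPoly_hilb k L hL.1 _ cI
  exact redLT_of_redLT_of_redLE
    (alpha_pos_of_isSemistable k L hL (isSemistable_of_isStable k L hF) pF hpF).le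
    (alpha_pos_of_sub k L hL hG.2.2.1 (Abelian.image.ι φ) cI (not_isZero_image φ hφ) _ hpI)
    (alpha_pos_of_isSemistable k L hL hG pG hpG)
    (redLT_image k L hL hF.1 hG.1 hF.2.2.2 φ hφ hm pF _ hpF hpI)
    (image_redLE k L hL hF.1 hG.1 hG.2.2.2 φ hφ _ pG hpI hpG)

include hL in
theorem redLT_of_not_epi {F G : X.Modules} (hF : ShStab.IsSemistable k X L F d)
    (hG : ShStab.IsStable k X L G d) (φ : F ⟶ G) (hφ : φ ≠ 0) (hm : ¬ Epi φ) (pF pG : ℚ[X])
    (hpF : ShStab.IsHilbPoly k X L F pF) (hpG : ShStab.IsHilbPoly k X L G pG) : RedLT d pF pG := by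
  haveI := isLocallyNoetherian (X := X) k
  have cI := Groth.Agent.Lib.T2H6.CurveVB.isCoh_image φ hF.1 hG.1
  have hpI := isHilbPoly_hilb k L hL.1 _ cI
  exact redLT_of_redLE_of_redLT
    (alpha_pos_of_isSemistable k L hL hF pF hpF)
    (alpha_pos_of_sub k L hL hG.2.2.1 (Abelian.image.ι φ) cI (not_isZero_image φ hφ) _ hpI)
    (alpha_pos_of_isSemistable k L hL (isSemistable_of_isStable k L hG) pG hpG).le
    (redLE_image k L hL hF.1 hG.1 hF.2.2.2 φ hφ pF _ hpF hpI)
    (image_redLT k L hL hF.1 hG.1 hG.2.2.2 φ hφ hm _ pG hpI hpG)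

include hL in
/-- **Hom vanishing** (S15192). -/
theorem hom_eq_zero {F G : X.Modules} (hF : ShStab.IsSemistable k X L F d)
    (hG : ShStab.IsSemistable k X L G d) (pF pG : ℚ[X])
    (hpF : ShStab.IsHilbPoly k X L F pF) (hpG : ShStab.IsHilbPoly k X L G pG)
    (hlt : RedLT d pG pF) (φ : F ⟶ G) : φ = 0 := by
  by_contra hφ
  exact not_redLT_self d pG (redLT_of_redLT_of_redLE
    (alpha_pos_of_isSemistable k L hL hG pG hpG).le (alpha_pos_of_isSemistable k L hL hF pF hpF)
    (alpha_pos_of_isSemistable k L hL hG pG hpG) hlt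
    (redLE_of_hom_ne_zero k L hL hF hG φ hφ pF pG hpF hpG))

include hL in
/-- S15193. -/
theorem mono_of_stable {F G : X.Modules} (hF : ShStab.IsStable k X L F d)
    (hG : ShStab.IsSemistable k X L G d) (pF pG : ℚ[X])
    (hpF : ShStab.IsHilbPoly k X L F pF) (hpG : ShStab.IsHilbPoly k X L G pG)
    (heq : RedEq d pF pG) (φ : F ⟶ G) (hφ : φ ≠ 0) : Mono φ := by
  by_contra hm
  have hFs := isSemistable_of_isStable k L hF
  exact not_redLT_self d pF (redLT_of_redLT_of_redLE
    (alpha_pos_of_isSemistable k L hL hFs pF hpF).le (alpha_pos_of_isSemistable k L hL hG pG hpG)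
    (alpha_pos_of_isSemistable k L hL hFs pF hpF)
    (redLT_of_not_mono k L hL hF hG φ hφ hm pF pG hpF hpG) (redLE_of_redEq' heq))

include hL in
/-- S15194. -/
theorem epi_of_stable {F G : X.Modules} (hF : ShStab.IsSemistable k X L F d)
    (hG : ShStab.IsStable k X L G d) (pF pG : ℚ[X])
    (hpF : ShStab.IsHilbPoly k X L F pF) (hpG : ShStab.IsHilbPoly k X L G pG)
    (heq : RedEq d pF pG) (φ : F ⟶ G) (hφ : φ ≠ 0) : Epi φ := by
  by_contra hm
  have hGs := isSemistable_of_isStable k L hG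
  exact not_redLT_self d pF (redLT_of_redLT_of_redLE
    (alpha_pos_of_isSemistable k L hL hF pF hpF).le (alpha_pos_of_isSemistable k L hL hGs pG hpG)
    (alpha_pos_of_isSemistable k L hL hF pF hpF)
    (redLT_of_not_epi k L hL hF hG φ hφ hm pF pG hpF hpG) (redLE_of_redEq' heq))

include hL in
/-- a monomorphism of coherent modules with the same Hilbert polynomial is an isomorphism. -/
theorem isIso_of_mono_of_isHilbPoly_eq {F G : X.Modules} (hF : Coh.IsCoh F) (hG : Coh.IsCoh G) (P : ℚ[X])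
    (hpF : ShStab.IsHilbPoly k X L F P) (hpG : ShStab.IsHilbPoly k X L G P) (φ : F ⟶ G) [Mono φ] :
    IsIso φ := by
  have cC := Groth.Agent.Lib.T2H5.GenIsoB.isCoh_cokernel φ hF hG
  have hpC := isHilbPoly_hilb k L hL.1 _ cC
  have hS : (ShortComplex.mk φ (cokernel.π φ) (cokernel.condition φ)).ShortExact :=
    { exact := ShortComplex.exact_cokernel φ
      mono_f := inferInstanceAs (Mono φ)
      epi_g := inferInstanceAs (Epi (cokernel.π φ)) }
  have hadd := isHilbPoly_add k L hL.1 _ hS hF hG cC P P _ hpF hpG hpC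
  have h0 : hilb k L (cokernel φ) = 0 := by
    have := congrArg (fun Q => Q - P) hadd
    simpa using this.symm
  rw [h0] at hpC
  have hz := isZero_of_isHilbPoly_zero k L hL _ cC hpC
  haveI : Epi φ := Preadditive.epi_of_isZero_cokernel φ hz
  exact isIso_of_mono_of_epi φ

include hL in
/-- an epimorphism of coherent modules with the same Hilbert polynomial is an isomorphism. -/
theorem isIso_of_epi_of_isHilbPoly_eq {F G : X.Modules} (hF : Coh.IsCoh F) (hG : Coh.IsCoh G) (P : ℚ[X])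
    (hpF : ShStab.IsHilbPoly k X L F P) (hpG : ShStab.IsHilbPoly k X L G P) (φ : F ⟶ G) [Epi φ] :
    IsIso φ := by
  haveI := isLocallyNoetherian (X := X) k
  have cK := Groth.Agent.Lib.T2H5.GenIsoB.isCoh_kernel φ hF hG
  have hpK := isHilbPoly_hilb k L hL.1 _ cK
  have hS : (ShortComplex.mk (kernel.ι φ) φ (kernel.condition φ)).ShortExact :=
    { exact := ShortComplex.exact_kernel φ
      mono_f := inferInstanceAs (Mono (kernel.ι φ))
      epi_g := inferInstanceAs (Epi φ) }
  have hadd := isHilbPoly_add k L hL.1 _ hS cK hF hG _ P P hpK hpF hpG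
  have h0 : hilb k L (kernel φ) = 0 := by
    have := congrArg (fun Q => Q - P) hadd
    simpa using this.symm
  rw [h0] at hpK
  have hz := isZero_of_isHilbPoly_zero k L hL _ cK hpK
  haveI : Mono φ := Preadditive.mono_of_isZero_kernel φ hz
  exact isIso_of_mono_of_epi φ

theorem redEq_refl (d : ℕ) (P : ℚ[X]) : RedEq d P P := rfl

include hL in
/-- S15195. -/
theorem isIso_of_stable {F G : X.Modules} (hF : ShStab.IsSemistable k X L F d)
    (hG : ShStab.IsSemistable k X L G d)
    (hst : ShStab.IsStable k X L F d ∨ ShStab.IsStable k X L G d) (P : ℚ[X])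
    (hpF : ShStab.IsHilbPoly k X L F P) (hpG : ShStab.IsHilbPoly k X L G P)
    (φ : F ⟶ G) (hφ : φ ≠ 0) : IsIso φ := by
  rcases hst with h | h
  · haveI := mono_of_stable k L hL h hG P P hpF hpG (redEq_refl d P) φ hφ
    exact isIso_of_mono_of_isHilbPoly_eq k L hL hF.1 hG.1 P hpF hpG φ
  · haveI := epi_of_stable k L hL hF h P P hpF hpG (redEq_refl d P) φ hφ
    exact isIso_of_epi_of_isHilbPoly_eq k L hL hF.1 hG.1 P hpF hpG φ

end main

end Groth.Agent.Lib.T2H6.HilbPolyC
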