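import Mathlib
import Groth.Prelude.Def_StabCat
import Groth.Agent.Lib.T2H6HilbPolyA
set_option backward.isDefEq.respectTransparency.types false
set_option autoImplicit false
open Polynomial StabCat Filter

/-!
# More polynomial calculus for reduced Hilbert polynomials (helper6)

Namespace `Groth.Agent.Lib.T2H6.HilbPolyD`.  Mathlib and `Def_StabCat` only.

* `eventually_pos`, `coeff_nonneg_of_eventually_nonneg` : sign of a polynomial at large natural numbers.
* `coeff_topPart`, `alpha_topPart`, `topPart_self_eq`, `redLE_topPart` : truncations.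
* `redEq_of_redLE_of_redLE`, `hatSlope_le_of_redLE`.
-/

namespace Groth.Agent.Lib.T2H6.HilbPolyD

open Groth.Agent.Lib.T2H6.HilbPolyA


/-- a polynomial with positive top coefficient is eventually positive on `ℕ`. -/
theorem eventually_pos (P : ℚ[X]) (e : ℕ) (h0 : ∀ i, e < i → P.coeff i = 0) (hpos : 0 < P.coeff e) :
    ∃ N : ℕ, ∀ m : ℕ, N ≤ m → 0 < P.eval (m : ℚ) := by
  have hdeg : P.natDegree = e := by
    apply le_antisymm
    · rw [natDegree_le_iff_coeff_eq_zero]
      exact h0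
    · exact le_natDegree_of_ne_zero hpos.ne'
  have hlc : P.leadingCoeff = P.coeff e := by rw [leadingCoeff, hdeg]
  rcases Nat.eq_zero_or_pos e with rfl | he
  · refine ⟨0, fun m _ => ?_⟩
    rw [eq_C_of_natDegree_eq_zero hdeg, eval_C]
    exact hpos
  · have hP0 : P ≠ 0 := by
      rintro rfl
      simp at hpos
    have hd : 0 < P.degree := by
      rw [degree_eq_natDegree hP0, hdeg]
      exact_mod_cast he
    have ht := P.tendsto_atTop_of_leadingCoeff_nonneg hd (by rw [hlc]; exact hpos.le)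
    have ht2 := ht.comp (tendsto_natCast_atTop_atTop (R := ℚ))
    have := ht2.eventually (eventually_gt_atTop 0)
    rw [eventually_atTop] at this
    obtain ⟨N, hN⟩ := this
    exact ⟨N, fun m hm => hN m hm⟩

theorem coeff_nonneg_of_eventually_nonneg (P : ℚ[X]) (e : ℕ) (h0 : ∀ i, e < i → P.coeff i = 0)
    (hev : ∃ N : ℕ, ∀ m : ℕ, N ≤ m → 0 ≤ P.eval (m : ℚ)) : 0 ≤ P.coeff e := by
  by_contra hneg
  push Not at hneg
  obtain ⟨N, hN⟩ := hev
  obtain ⟨N', hN'⟩ := eventually_pos (-P) e (fun i hi => by rw [coeff_neg, h0 i hi, neg_zero])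
    (by rw [coeff_neg]; linarith)
  have h1 := hN (max N N') (le_max_left _ _)
  have h2 := hN' (max N N') (le_max_right _ _)
  rw [eval_neg] at h2
  linarith

theorem coeff_topPart (ℓ d : ℕ) (P : ℚ[X]) (i : ℕ) :
    (topPart ℓ d P).coeff i = if d - ℓ ≤ i ∧ i ≤ d then P.coeff i else 0 := by
  unfold topPart
  rw [finset_sum_coeff]
  simp only [coeff_monomial]
  rw [Finset.sum_ite_eq' (Finset.Icc (d - ℓ) d) i (fun j => P.coeff j)]
  simp only [Finset.mem_Icc]

theorem alpha_topPart (ℓ d : ℕ) (P : ℚ[X]) : alpha d (topPart ℓ d P) = alpha d P := by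
  unfold alpha
  rw [coeff_topPart, if_pos ⟨Nat.sub_le _ _, le_refl _⟩]

theorem topPart_self_eq (d : ℕ) (P : ℚ[X]) (hP : ∀ i, d < i → P.coeff i = 0) : topPart d d P = P := by
  ext i
  rw [coeff_topPart]
  split_ifs with h
  · rfl
  · rw [hP i (by omega)]

theorem topPart_smul (ℓ d : ℕ) (c : ℚ) (P : ℚ[X]) : topPart ℓ d (c • P) = c • topPart ℓ d P := by
  ext i
  rw [coeff_smul, coeff_topPart, coeff_topPart, coeff_smul]
  split_ifs <;> simp

theorem topPart_sub (ℓ d : ℕ) (P Q : ℚ[X]) : topPart ℓ d (P - Q) = topPart ℓ d P - topPart ℓ d Q := by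
  ext i
  rw [coeff_sub, coeff_topPart, coeff_topPart, coeff_topPart, coeff_sub]
  split_ifs <;> simp

theorem eventually_nonneg_topPart (ℓ d : ℕ) (Q : ℚ[X]) (hQ : ∀ i, d < i → Q.coeff i = 0)
    (hev : ∃ N : ℕ, ∀ m : ℕ, N ≤ m → 0 ≤ Q.eval (m : ℚ)) :
    ∃ N : ℕ, ∀ m : ℕ, N ≤ m → 0 ≤ (topPart ℓ d Q).eval (m : ℚ) := by
  by_cases hQ0 : Q = 0
  · refine ⟨0, fun m _ => ?_⟩
    have : topPart ℓ d Q = 0 := by
      ext i
      rw [coeff_topPart, hQ0]
      simp
    rw [this, eval_zero]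
  set e := Q.natDegree with he
  have hlc : Q.coeff e ≠ 0 := by
    rw [he]
    exact leadingCoeff_ne_zero.2 hQ0
  have h0 : ∀ i, e < i → Q.coeff i = 0 := fun i hi => coeff_eq_zero_of_natDegree_lt hi
  have hpos : 0 < Q.coeff e := lt_of_le_of_ne (coeff_nonneg_of_eventually_nonneg Q e h0 hev) hlc.symm
  have hed : e ≤ d := by
    by_contra h
    exact hlc (hQ e (by omega))
  by_cases hle : d - ℓ ≤ e
  · obtain ⟨N, hN⟩ := eventually_pos (topPart ℓ d Q) e
      (fun i hi => by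
        rw [coeff_topPart]
        split_ifs
        · exact h0 i hi
        · rfl)
      (by rw [coeff_topPart, if_pos ⟨hle, hed⟩]; exact hpos)
    exact ⟨N, fun m hm => (hN m hm).le⟩
  · refine ⟨0, fun m _ => ?_⟩
    have : topPart ℓ d Q = 0 := by
      ext i
      rw [coeff_topPart]
      split_ifs with h
      · rw [h0 i (by omega)]; simp
      · simp
    rw [this, eval_zero]

theorem redLE_topPart (ℓ d : ℕ) (P Q : ℚ[X]) (hP : ∀ i, d < i → P.coeff i = 0)
    (hQ : ∀ i, d < i → Q.coeff i = 0) (h : RedLE d P Q) : RedLE d (topPart ℓ d P) (topPart ℓ d Q) := by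
  unfold RedLE PolyLE
  rw [alpha_topPart, alpha_topPart]
  obtain ⟨N, hN⟩ := h
  have hev : ∃ N : ℕ, ∀ m : ℕ, N ≤ m → 0 ≤ (alpha d P • Q - alpha d Q • P).eval (m : ℚ) :=
    ⟨N, fun m hm => by
      rw [eval_sub]
      exact sub_nonneg.2 (hN m hm)⟩
  obtain ⟨N', hN'⟩ := eventually_nonneg_topPart ℓ d _ (fun i hi => by
    rw [coeff_sub, coeff_smul, coeff_smul, hP i hi, hQ i hi]; simp) hev
  refine ⟨N', fun m hm => ?_⟩
  have := hN' m hm
  rw [topPart_sub, topPart_smul, topPart_smul, eval_sub] at this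
  exact sub_nonneg.1 this

theorem redLT_topPart_self (d : ℕ) (P Q : ℚ[X]) (hP : ∀ i, d < i → P.coeff i = 0)
    (hQ : ∀ i, d < i → Q.coeff i = 0) : RedLT d (topPart d d P) (topPart d d Q) ↔ RedLT d P Q := by
  rw [topPart_self_eq d P hP, topPart_self_eq d Q hQ]

theorem redLE_topPart_self (d : ℕ) (P Q : ℚ[X]) (hP : ∀ i, d < i → P.coeff i = 0)
    (hQ : ∀ i, d < i → Q.coeff i = 0) : RedLE d (topPart d d P) (topPart d d Q) ↔ RedLE d P Q := by
  rw [topPart_self_eq d P hP, topPart_self_eq d Q hQ]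

theorem redEq_of_redLE_of_redLE {d : ℕ} {P Q : ℚ[X]} (h1 : RedLE d P Q) (h2 : RedLE d Q P) :
    RedEq d P Q := by
  obtain ⟨N1, hN1⟩ := h1
  obtain ⟨N2, hN2⟩ := h2
  unfold RedEq
  apply Polynomial.eq_of_infinite_eval_eq
  apply Set.infinite_of_injective_forall_mem (f := fun m : ℕ => ((m + max N1 N2 : ℕ) : ℚ))
  · intro a b hab
    have hab' : ((a + max N1 N2 : ℕ) : ℚ) = ((b + max N1 N2 : ℕ) : ℚ) := hab
    have : (a + max N1 N2 : ℕ) = b + max N1 N2 := by exact_mod_cast hab'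
    omega
  · intro m
    exact le_antisymm (hN1 _ (le_trans (le_max_left _ _) (Nat.le_add_left _ _)))
      (hN2 _ (le_trans (le_max_right _ _) (Nat.le_add_left _ _)))

theorem hatSlope_le_of_redLE {d : ℕ} (hd : 1 ≤ d) {P Q : ℚ[X]} (hP : ∀ i, d < i → P.coeff i = 0)
    (hQ : ∀ i, d < i → Q.coeff i = 0) (haP : 0 < alpha d P) (haQ : 0 < alpha d Q)
    (h : RedLE d P Q) : hatSlope d P ≤ hatSlope d Q := by
  obtain ⟨N, hN⟩ := h
  have hev : ∃ N : ℕ, ∀ m : ℕ, N ≤ m → 0 ≤ (alpha d P • Q - alpha d Q • P).eval (m : ℚ) :=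
    ⟨N, fun m hm => by
      rw [eval_sub]
      exact sub_nonneg.2 (hN m hm)⟩
  have h0 : ∀ i, d - 1 < i → (alpha d P • Q - alpha d Q • P).coeff i = 0 := by
    intro i hi
    rw [coeff_sub, coeff_smul, coeff_smul]
    rcases (show d ≤ i by omega).lt_or_eq with h | h
    · rw [hP i h, hQ i h]; simp
    · subst h
      unfold alpha
      simp only [smul_eq_mul]
      ring
  have := coeff_nonneg_of_eventually_nonneg _ (d - 1) h0 hev
  rw [coeff_sub, coeff_smul, coeff_smul, smul_eq_mul, smul_eq_mul] at this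
  unfold hatSlope
  rw [div_le_div_iff₀ haP haQ]
  have hf : (0 : ℚ) < ((d - 1).factorial : ℚ) := by exact_mod_cast (d - 1).factorial_pos
  have h2 : alpha (d - 1) P = ((d - 1).factorial : ℚ) * P.coeff (d - 1) := rfl
  have h3 : alpha (d - 1) Q = ((d - 1).factorial : ℚ) * Q.coeff (d - 1) := rfl
  rw [h2, h3]
  nlinarith

end Groth.Agent.Lib.T2H6.HilbPolyD
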