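import Mathlib
import Groth.Prelude
import Groth.Agent.Lib.T2H6HilbPolyC
import Groth.Agent.Lib.T2H6HilbPolyD
set_option backward.isDefEq.respectTransparency.types false

/-!
# Hilbert polynomials: signs, purity and the variants of semistability (helper6)

Namespace `Groth.Agent.Lib.T2H6.HilbPolyE`.  `X` proper over a field `k`, `L` ample.

* `coeff_eq_zero_of_dim_le`, `eventually_pos_of_not_isZero`, `eventually_nonneg`.
* `polyLE_of_mono`, `alpha_eq_of_mono` (S16340).
* `isPure_of_isSS` (S15213/S15214), `isMuSemistable_of_isSemistable` (S15210),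
  `isEllSS_of_isSemistable` (S15222), `isSemistable_iff_isEllSemistable` (S15217), `isStable_iff_isEllStable` (S15218).
* `isMaxDestab_unique` (S15201).
-/

set_option autoImplicit false
set_option linter.style.haveILetI false
set_option linter.unusedSectionVars false
universe u

open CategoryTheory TopCat TopologicalSpace Opposite AlgebraicGeometry Limits Polynomial StabCat

namespace Groth.Agent.Lib.T2H6.HilbPolyE

open Groth.Agent.Lib.T2H6.HilbPolyA Groth.Agent.Lib.T2H6.HilbPolyB Groth.Agent.Lib.T2H6.HilbPolyC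
  Groth.Agent.Lib.T2H6.HilbPolyD

variable {X : Scheme.{u}} (k : Type u) [Field k] [X.Over (Spec (CommRingCat.of k))]
  [IsProper (X ↘ Spec (CommRingCat.of k))] (L : X.Modules) (hL : CohB1.IsAmple L)

include hL in
theorem coeff_eq_zero_of_dim_le (F : X.Modules) (hF : Coh.IsCoh F) (P : ℚ[X])
    (hP : ShStab.IsHilbPoly k X L F P) (d : ℕ)
    (hd : topologicalKrullDim (CohB1.support F) ≤ (d : WithBot ℕ∞)) (i : ℕ) (hi : d < i) :
    P.coeff i = 0 := by
  have := alpha_eq_zero k L hL.1 F hF P hP i (lt_of_le_of_lt hd (by exact_mod_cast hi))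
  unfold alpha at this
  have hf : (i.factorial : ℚ) ≠ 0 := by exact_mod_cast i.factorial_ne_zero
  exact (mul_eq_zero.1 this).resolve_left hf

include hL in
/-- the Hilbert polynomial of a nonzero coherent module is eventually positive. -/
theorem eventually_pos_of_not_isZero (F : X.Modules) (hF : Coh.IsCoh F) (h0 : ¬ IsZero F) (P : ℚ[X])
    (hP : ShStab.IsHilbPoly k X L F P) : ∃ N : ℕ, ∀ m : ℕ, N ≤ m → 0 < P.eval (m : ℚ) := by
  have hsupp : (CohB1.support F).Nonempty := by
    rw [Set.nonempty_iff_ne_empty]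
    intro he
    exact h0 (Groth.Agent.Lib.T2H5.Devissage.isZero_of_support_eq_empty F he)
  obtain ⟨e, he⟩ := exists_nat_dim k _ hsupp
  have hpos := alpha_pos k L hL F hF P hP e he
  refine eventually_pos P e (coeff_eq_zero_of_dim_le k L hL F hF P hP e he.le) ?_
  unfold alpha at hpos
  have hf : (0 : ℚ) < (e.factorial : ℚ) := by exact_mod_cast e.factorial_pos
  exact (mul_pos_iff_of_pos_left hf).1 hpos

include hL in
theorem eventually_nonneg (F : X.Modules) (hF : Coh.IsCoh F) (P : ℚ[X])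
    (hP : ShStab.IsHilbPoly k X L F P) : ∃ N : ℕ, ∀ m : ℕ, N ≤ m → 0 ≤ P.eval (m : ℚ) := by
  by_cases h0 : IsZero F
  · have : P = 0 := isHilbPoly_unique k L F P 0 hP (isHilbPoly_zero_of_isZero k L F h0)
    exact ⟨0, fun m _ => by rw [this, eval_zero]⟩
  · obtain ⟨N, hN⟩ := eventually_pos_of_not_isZero k L hL F hF h0 P hP
    exact ⟨N, fun m hm => (hN m hm).le⟩

theorem shortExact_cokernel {E E' : X.Modules} (ι : E ⟶ E') [Mono ι] :
    (ShortComplex.mk ι (cokernel.π ι) (cokernel.condition ι)).ShortExact :=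
  { exact := ShortComplex.exact_cokernel ι
    mono_f := inferInstanceAs (Mono ι)
    epi_g := inferInstanceAs (Epi (cokernel.π ι)) }

include hL in
theorem hilb_add_cokernel {E E' : X.Modules} (hE : Coh.IsCoh E) (hE' : Coh.IsCoh E') (ι : E ⟶ E') [Mono ι]
    (pE pE' pC : ℚ[X]) (hpE : ShStab.IsHilbPoly k X L E pE) (hpE' : ShStab.IsHilbPoly k X L E' pE')
    (hpC : ShStab.IsHilbPoly k X L (cokernel ι) pC) : pE' = pE + pC :=
  isHilbPoly_add k L hL.1 _ (shortExact_cokernel ι) hE hE'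
    (Groth.Agent.Lib.T2H5.GenIsoB.isCoh_cokernel ι hE hE') pE pE' pC hpE hpE' hpC

include hL in
/-- S16340, first part. -/
theorem polyLE_of_mono {E E' : X.Modules} (hE : Coh.IsCoh E) (hE' : Coh.IsCoh E') (ι : E ⟶ E') [Mono ι]
    (pE pE' : ℚ[X]) (hpE : ShStab.IsHilbPoly k X L E pE) (hpE' : ShStab.IsHilbPoly k X L E' pE') :
    PolyLE pE pE' := by
  have cC := Groth.Agent.Lib.T2H5.GenIsoB.isCoh_cokernel ι hE hE'
  have hpC := isHilbPoly_hilb k L hL.1 _ cC
  have hadd := hilb_add_cokernel k L hL hE hE' ι pE pE' _ hpE hpE' hpC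
  obtain ⟨N, hN⟩ := eventually_nonneg k L hL _ cC _ hpC
  refine ⟨N, fun m hm => ?_⟩
  rw [hadd, eval_add]
  linarith [hN m hm]

include hL in
/-- S16340, second part. -/
theorem alpha_eq_of_mono {E E' : X.Modules} (hE : Coh.IsCoh E) (hE' : Coh.IsCoh E') (ι : E ⟶ E') [Mono ι]
    (pE pE' : ℚ[X]) (hpE : ShStab.IsHilbPoly k X L E pE) (hpE' : ShStab.IsHilbPoly k X L E' pE') (d : ℕ)
    (hd : topologicalKrullDim (CohB1.support (cokernel ι)) < (d : WithBot ℕ∞)) :
    alpha d pE = alpha d pE' := by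
  have cC := Groth.Agent.Lib.T2H5.GenIsoB.isCoh_cokernel ι hE hE'
  have hpC := isHilbPoly_hilb k L hL.1 _ cC
  have hadd := hilb_add_cokernel k L hL hE hE' ι pE pE' _ hpE hpE' hpC
  rw [hadd, alpha_add, alpha_eq_zero k L hL.1 _ cC _ hpC d hd, add_zero]

include hL in
/-- a proper coherent submodule has strictly smaller Hilbert polynomial (eventually). -/
theorem polyLT_of_mono_not_isIso {E E' : X.Modules} (hE : Coh.IsCoh E) (hE' : Coh.IsCoh E') (ι : E ⟶ E')
    [Mono ι] (hι : ¬ IsIso ι)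
    (pE pE' : ℚ[X]) (hpE : ShStab.IsHilbPoly k X L E pE) (hpE' : ShStab.IsHilbPoly k X L E' pE') :
    PolyLT pE pE' := by
  have cC := Groth.Agent.Lib.T2H5.GenIsoB.isCoh_cokernel ι hE hE'
  have hpC := isHilbPoly_hilb k L hL.1 _ cC
  have hadd := hilb_add_cokernel k L hL hE hE' ι pE pE' _ hpE hpE' hpC
  have hC0 : ¬ IsZero (cokernel ι) := by
    intro hz
    haveI : Epi ι := Preadditive.epi_of_isZero_cokernel ι hz
    exact hι (isIso_of_mono_of_epi ι)
  obtain ⟨N, hN⟩ := eventually_pos_of_not_isZero k L hL _ cC hC0 _ hpC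
  refine ⟨N, fun m hm => ?_⟩
  rw [hadd, eval_add]
  linarith [hN m hm]

theorem dim_support_le_of_mono {F E : X.Modules} (ι : F ⟶ E) [Mono ι] :
    topologicalKrullDim (CohB1.support F) ≤ topologicalKrullDim (CohB1.support E) :=
  (Topology.IsEmbedding.inclusion
    (Groth.Agent.Lib.T2H5.GenIsoB.support_subset_of_mono ι)).isInducing.topologicalKrullDim_le

theorem support_eq_empty_of_isZero {F : X.Modules} (h : IsZero F) : CohB1.support F = ∅ := by
  ext x
  simp only [Set.mem_empty_iff_false, iff_false]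
  intro hx
  exact hx (Groth.Agent.Lib.T2H5.GenIsoA.subsingleton_stalk_of_isZero x h)

include hL in
/-- purity follows from the cross-multiplied semistability inequality (S15213, S15214). -/
theorem isPure_of_isSS {E : X.Modules} (hE : Coh.IsCoh E) {d : ℕ}
    (hdim : topologicalKrullDim (CohB1.support E) = (d : WithBot ℕ∞))
    (hss : StabCat.IsSS Coh.IsCoh (ShStab.IsHilbPoly k X L) d E) : ShStab.IsPure X E d := by
  intro F ι hι hF hF0
  haveI := hι
  have hle : topologicalKrullDim (CohB1.support F) ≤ (d : WithBot ℕ∞) :=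
    (dim_support_le_of_mono ι).trans hdim.le
  by_contra hne
  have hlt : topologicalKrullDim (CohB1.support F) < (d : WithBot ℕ∞) := lt_of_le_of_ne hle hne
  have hpF := isHilbPoly_hilb k L hL.1 F hF
  have hpE := isHilbPoly_hilb k L hL.1 E hE
  have haF : alpha d (hilb k L F) = 0 := alpha_eq_zero k L hL.1 F hF _ hpF d hlt
  have haE : 0 < alpha d (hilb k L E) := alpha_pos k L hL E hE _ hpE d hdim
  have hniso : ¬ IsIso ι := by
    intro hiso
    have : hilb k L F = hilb k L E :=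
      isHilbPoly_unique k L E _ _ (isHilbPoly_of_iso k L (asIso ι) _ hpF) hpE
    rw [this] at haF
    exact haE.ne' haF
  obtain ⟨N, hN⟩ := hss F ι hι hF hF0 hniso _ _ hpF hpE
  obtain ⟨N', hN'⟩ := eventually_pos_of_not_isZero k L hL F hF hF0 _ hpF
  have h1 := hN (max N N') (le_max_left _ _)
  have h2 := hN' (max N N') (le_max_right _ _)
  rw [haF] at h1
  simp only [eval_smul, smul_eq_mul, zero_mul] at h1
  nlinarith

section variants

variable {d : ℕ} {E : X.Modules}

include hL in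
/-- data extracted from a submodule with `0 < α_d(F) < α_d(E)` of a semistable sheaf. -/
theorem redLE_of_alpha_lt (hE : ShStab.IsSemistable k X L E d) (F : X.Modules) (ι : F ⟶ E) [Mono ι]
    (hF : Coh.IsCoh F) (pF pE : ℚ[X]) (hpF : ShStab.IsHilbPoly k X L F pF)
    (hpE : ShStab.IsHilbPoly k X L E pE) (h1 : 0 < alpha d pF) (h2 : alpha d pF < alpha d pE) :
    RedLE d pF pE := by
  have hF0 : ¬ IsZero F := by
    intro hz
    have : pF = 0 := isHilbPoly_unique k L F pF 0 hpF (isHilbPoly_zero_of_isZero k L F hz)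
    rw [this] at h1
    unfold alpha at h1
    simp at h1
  have hniso : ¬ IsIso ι := by
    intro hiso
    have : pF = pE := isHilbPoly_unique k L E _ _ (isHilbPoly_of_iso k L (asIso ι) _ hpF) hpE
    rw [this] at h2
    exact lt_irrefl _ h2
  exact hE.2.2.2 F ι inferInstance hF hF0 hniso pF pE hpF hpE

include hL in
theorem coeff_eq_zero_of_sub (hE : ShStab.IsSemistable k X L E d) (F : X.Modules) (ι : F ⟶ E) [Mono ι]
    (hF : Coh.IsCoh F) (pF : ℚ[X]) (hpF : ShStab.IsHilbPoly k X L F pF) (i : ℕ) (hi : d < i) :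
    pF.coeff i = 0 :=
  coeff_eq_zero_of_dim_le k L hL F hF pF hpF d
    ((dim_support_le_of_mono ι).trans (dim_support_of_pure hE.2.2.1 hE.1 hE.2.1).le) i hi

include hL in
/-- S15222. -/
theorem isEllSemistable_of_isSemistable (hE : ShStab.IsSemistable k X L E d) (ℓ : ℕ) :
    ShStab.IsEllSemistable k X L E d ℓ := by
  refine ⟨hE.1, hE.2.1, hE.2.2.1, ?_⟩
  intro F ι hι hF pF pE hpF hpE h1 h2
  haveI := hι
  exact redLE_topPart ℓ d pF pE (coeff_eq_zero_of_sub k L hL hE F ι hF pF hpF)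
    (coeff_eq_zero_of_sub k L hL hE E (𝟙 E) hE.1 pE hpE)
    (redLE_of_alpha_lt k L hL hE F ι hF pF pE hpF hpE h1 h2)

include hL in
/-- S15210. -/
theorem isMuSemistable_of_isSemistable (hd : 1 ≤ d) (hE : ShStab.IsSemistable k X L E d) :
    ShStab.IsMuSemistable k X L E d := by
  refine ⟨hE.1, hE.2.1, dim_support_of_pure hE.2.2.1 hE.1 hE.2.1, ?_, ?_⟩
  · intro F ι hι hF
    by_cases hz : IsZero F
    · rw [support_eq_empty_of_isZero hz]
      have : topologicalKrullDim (∅ : Set X) = ⊥ := by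
        unfold topologicalKrullDim
        rw [Order.krullDim_eq_bot_iff]
        refine ⟨fun T => ?_⟩
        obtain ⟨⟨x, hx⟩⟩ := T.2.1.nonempty
        exact hx.elim
      rw [this]
      simp
    · rw [hE.2.2.1 F ι hι hF hz]
      intro h
      have h' : ((d + 1 : ℕ) : WithBot ℕ∞) = ((d : ℕ) : WithBot ℕ∞) := by exact_mod_cast h
      have : d + 1 = d := by exact_mod_cast h'
      omega
  · intro F ι hι hF pF pE hpF hpE h1 h2
    haveI := hι
    exact hatSlope_le_of_redLE hd (coeff_eq_zero_of_sub k L hL hE F ι hF pF hpF)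
      (coeff_eq_zero_of_sub k L hL hE E (𝟙 E) hE.1 pE hpE) h1 (h1.trans h2)
      (redLE_of_alpha_lt k L hL hE F ι hF pF pE hpF hpE h1 h2)

end variants

section ell

variable {d : ℕ} {E : X.Modules}

include hL in
/-- multiplicities of a submodule of a pure sheaf. -/
theorem alpha_le_of_mono (hE : Coh.IsCoh E) (h0 : ¬ IsZero E) (hp : ShStab.IsPure X E d)
    (F : X.Modules) (ι : F ⟶ E) [Mono ι]
    (hF : Coh.IsCoh F) (pF pE : ℚ[X]) (hpF : ShStab.IsHilbPoly k X L F pF)
    (hpE : ShStab.IsHilbPoly k X L E pE) : alpha d pF ≤ alpha d pE := by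
  have cC := Groth.Agent.Lib.T2H5.GenIsoB.isCoh_cokernel ι hF hE
  have hpC := isHilbPoly_hilb k L hL.1 _ cC
  have hadd := hilb_add_cokernel k L hL hF hE ι pF pE _ hpF hpE hpC
  have hdimC : topologicalKrullDim (CohB1.support (cokernel ι)) ≤ (d : WithBot ℕ∞) := by
    refine le_trans ?_ (dim_support_of_pure hp hE h0).le
    exact (Topology.IsEmbedding.inclusion
      (Groth.Agent.Lib.T2H5.GenIsoB.support_subset_of_epi (cokernel.π ι))).isInducing.topologicalKrullDim_le
  have := alpha_nonneg k L hL _ cC _ hpC d hdimC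
  rw [hadd, alpha_add]
  linarith

include hL in
/-- S15217. -/
theorem isSemistable_iff_isEllSemistable :
    ShStab.IsSemistable k X L E d ↔ ShStab.IsEllSemistable k X L E d d := by
  refine ⟨fun h => isEllSemistable_of_isSemistable k L hL h d, fun h => ?_⟩
  obtain ⟨hE, h0, hp, hell⟩ := h
  refine ⟨hE, h0, hp, ?_⟩
  intro F ι hι hF hF0 hniso pF pE hpF hpE
  haveI := hι
  have hdimE := dim_support_of_pure hp hE h0
  have hcF : ∀ i, d < i → pF.coeff i = 0 :=
    coeff_eq_zero_of_dim_le k L hL F hF pF hpF d ((dim_support_le_of_mono ι).trans hdimE.le)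
  have hcE : ∀ i, d < i → pE.coeff i = 0 := coeff_eq_zero_of_dim_le k L hL E hE pE hpE d hdimE.le
  have haF : 0 < alpha d pF := alpha_pos_of_sub k L hL hp ι hF hF0 pF hpF
  rcases (alpha_le_of_mono k L hL hE h0 hp F ι hF pF pE hpF hpE).lt_or_eq with hlt | heq
  · exact (redLE_topPart_self d pF pE hcF hcE).1 (hell F ι hι hF pF pE hpF hpE haF hlt)
  · obtain ⟨N, hN⟩ := polyLE_of_mono k L hL hF hE ι pF pE hpF hpE
    refine ⟨N, fun m hm => ?_⟩
    rw [heq]
    simp only [eval_smul, smul_eq_mul]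
    exact mul_le_mul_of_nonneg_left (hN m hm) (heq ▸ haF.le)

include hL in
/-- S15218. -/
theorem isStable_iff_isEllStable :
    ShStab.IsStable k X L E d ↔ ShStab.IsEllStable k X L E d d := by
  constructor
  · intro h
    have hss := isSemistable_of_isStable k L h
    refine ⟨h.1, h.2.1, h.2.2.1, ?_⟩
    intro F ι hι hF pF pE hpF hpE h1 h2
    haveI := hι
    have hF0 : ¬ IsZero F := by
      intro hz
      have : pF = 0 := isHilbPoly_unique k L F pF 0 hpF (isHilbPoly_zero_of_isZero k L F hz)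
      rw [this] at h1
      unfold alpha at h1
      simp at h1
    have hniso : ¬ IsIso ι := by
      intro hiso
      have : pF = pE := isHilbPoly_unique k L E _ _ (isHilbPoly_of_iso k L (asIso ι) _ hpF) hpE
      rw [this] at h2
      exact lt_irrefl _ h2
    exact (redLT_topPart_self d pF pE (coeff_eq_zero_of_sub k L hL hss F ι hF pF hpF)
      (coeff_eq_zero_of_sub k L hL hss E (𝟙 E) h.1 pE hpE)).2
      (h.2.2.2 F ι hι hF hF0 hniso pF pE hpF hpE)
  · intro h
    obtain ⟨hE, h0, hp, hell⟩ := h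
    refine ⟨hE, h0, hp, ?_⟩
    intro F ι hι hF hF0 hniso pF pE hpF hpE
    haveI := hι
    have hdimE := dim_support_of_pure hp hE h0
    have hcF : ∀ i, d < i → pF.coeff i = 0 :=
      coeff_eq_zero_of_dim_le k L hL F hF pF hpF d ((dim_support_le_of_mono ι).trans hdimE.le)
    have hcE : ∀ i, d < i → pE.coeff i = 0 := coeff_eq_zero_of_dim_le k L hL E hE pE hpE d hdimE.le
    have haF : 0 < alpha d pF := alpha_pos_of_sub k L hL hp ι hF hF0 pF hpF
    rcases (alpha_le_of_mono k L hL hE h0 hp F ι hF pF pE hpF hpE).lt_or_eq with hlt | heq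
    · exact (redLT_topPart_self d pF pE hcF hcE).1 (hell F ι hι hF pF pE hpF hpE haF hlt)
    · obtain ⟨N, hN⟩ := polyLT_of_mono_not_isIso k L hL hF hE ι hniso pF pE hpF hpE
      refine ⟨N, fun m hm => ?_⟩
      rw [heq]
      simp only [eval_smul, smul_eq_mul]
      exact mul_lt_mul_of_pos_left (hN m hm) (heq ▸ haF)

end ell

section maxdestab

include hL in
/-- S15201. -/
theorem isMaxDestab_unique {d : ℕ} {E : X.Modules} (F₁ F₂ : X.Modules) (ι₁ : F₁ ⟶ E) (ι₂ : F₂ ⟶ E)
    (h₁ : ShStab.IsMaxDestab k X L E d F₁ ι₁) (h₂ : ShStab.IsMaxDestab k X L E d F₂ ι₂) :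
    ∃ e : F₁ ≅ F₂, e.hom ≫ ι₂ = ι₁ := by
  obtain ⟨m₁, c₁, n₁, H₁⟩ := h₁
  obtain ⟨m₂, c₂, n₂, H₂⟩ := h₂
  haveI := m₁
  haveI := m₂
  have hp₁ := isHilbPoly_hilb k L hL.1 F₁ c₁
  have hp₂ := isHilbPoly_hilb k L hL.1 F₂ c₂
  obtain ⟨le21, f21⟩ := H₁ F₂ ι₂ m₂ c₂ n₂ _ _ hp₁ hp₂
  obtain ⟨le12, f12⟩ := H₂ F₁ ι₁ m₁ c₁ n₁ _ _ hp₂ hp₁
  have heq21 : RedEq d (hilb k L F₂) (hilb k L F₁) := redEq_of_redLE_of_redLE le21 le12
  have heq12 : RedEq d (hilb k L F₁) (hilb k L F₂) := redEq_of_redLE_of_redLE le12 le21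
  obtain ⟨ψ, hψ⟩ := f21 heq21
  obtain ⟨φ, hφ⟩ := f12 heq12
  refine ⟨⟨φ, ψ, ?_, ?_⟩, hφ⟩
  · rw [← cancel_mono ι₁, Category.assoc, hψ, hφ, Category.id_comp]
  · rw [← cancel_mono ι₂, Category.assoc, hφ, hψ, Category.id_comp]

end maxdestab

end Groth.Agent.Lib.T2H6.HilbPolyE
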