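import Mathlib
import Groth.Prelude
import Groth.Agent.Lib.T2H6HilbPolyE
import Groth.Agent.Lib.T2H6CohACC
import Groth.Agent.Lib.T2H5Filt
set_option backward.isDefEq.respectTransparency.types false

/-!
# Saturation of coherent submodules; semistability through saturated submodules and quotients (helper6)

Namespace `Groth.Agent.Lib.T2H6.HilbPolyK`.  `X` proper over a field `k`, `L` ample.

* `dim_lt_of_shortExact` : an extension of modules of dimension `< d` has dimension `< d`.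
* `exists_torsion_sub` : the maximal coherent submodule of dimension `< d`.
* `exists_saturation` : the saturation of a submodule of a pure module.
-/

set_option autoImplicit false
set_option linter.style.haveILetI false
set_option linter.unusedSectionVars false
universe u

open CategoryTheory TopCat TopologicalSpace Opposite AlgebraicGeometry Limits Polynomial StabCat ZeroObject

namespace Groth.Agent.Lib.T2H6.HilbPolyK

open Groth.Agent.Lib.T2H6.HilbPolyA Groth.Agent.Lib.T2H6.HilbPolyB Groth.Agent.Lib.T2H6.HilbPolyC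
  Groth.Agent.Lib.T2H6.HilbPolyD Groth.Agent.Lib.T2H6.HilbPolyE Groth.Agent.Lib.T2H5.FiltCat

variable {X : Scheme.{u}} (k : Type u) [Field k] [X.Over (Spec (CommRingCat.of k))]
  [IsProper (X ↘ Spec (CommRingCat.of k))] (L : X.Modules) (hL : CohB1.IsAmple L)

theorem dim_empty : topologicalKrullDim (∅ : Set X) = ⊥ := by
  unfold topologicalKrullDim
  rw [Order.krullDim_eq_bot_iff]
  refine ⟨fun T => ?_⟩
  obtain ⟨⟨x, hx⟩⟩ := T.2.1.nonempty
  exact hx.elim

include k hL in
/-- an extension of coherent modules of dimension `< d` has dimension `< d`. -/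
theorem dim_lt_of_shortExact (S : ShortComplex X.Modules) (hS : S.ShortExact) (h₁ : Coh.IsCoh S.X₁)
    (h₂ : Coh.IsCoh S.X₂) (h₃ : Coh.IsCoh S.X₃) (d : ℕ)
    (hd₁ : topologicalKrullDim (CohB1.support S.X₁) < (d : WithBot ℕ∞))
    (hd₃ : topologicalKrullDim (CohB1.support S.X₃) < (d : WithBot ℕ∞)) :
    topologicalKrullDim (CohB1.support S.X₂) < (d : WithBot ℕ∞) := by
  by_contra hnot
  have hsupp : (CohB1.support S.X₂).Nonempty := by
    rw [Set.nonempty_iff_ne_empty]
    intro he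
    apply hnot
    rw [he, dim_empty]
    exact WithBot.bot_lt_coe _
  obtain ⟨e, he⟩ := exists_nat_dim k _ hsupp
  have hde : d ≤ e := by
    by_contra hlt
    apply hnot
    rw [he]
    exact_mod_cast (not_le.1 hlt)
  have hp₁ := isHilbPoly_hilb k L hL.1 _ h₁
  have hp₂ := isHilbPoly_hilb k L hL.1 _ h₂
  have hp₃ := isHilbPoly_hilb k L hL.1 _ h₃
  have hadd := isHilbPoly_add k L hL.1 S hS h₁ h₂ h₃ _ _ _ hp₁ hp₂ hp₃
  have hpos := alpha_pos k L hL _ h₂ _ hp₂ e he
  have hle : ((d : ℕ) : WithBot ℕ∞) ≤ ((e : ℕ) : WithBot ℕ∞) := by exact_mod_cast hde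
  rw [hadd, alpha_add, alpha_eq_zero k L hL.1 _ h₁ _ hp₁ e (lt_of_lt_of_le hd₁ hle),
    alpha_eq_zero k L hL.1 _ h₃ _ hp₃ e (lt_of_lt_of_le hd₃ hle), add_zero] at hpos
  exact lt_irrefl _ hpos

include k hL in
/-- the maximal coherent submodule of dimension `< d`. -/
theorem exists_torsion_sub (Q : X.Modules) (hQ : Coh.IsCoh Q) (d : ℕ) :
    ∃ (T : X.Modules) (τ : T ⟶ Q), Mono τ ∧ Coh.IsCoh T ∧
      topologicalKrullDim (CohB1.support T) < (d : WithBot ℕ∞) ∧
      ∀ (S : X.Modules) (j : S ⟶ cokernel τ), Mono j → Coh.IsCoh S →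
        topologicalKrullDim (CohB1.support S) < (d : WithBot ℕ∞) → IsZero S := by
  haveI : IsNoetherian X := Groth.Agent.Lib.T2H6.CurveSatur.isNoetherian_of_proper k
  obtain ⟨T, τ, ⟨hm, hc, hd⟩, hmax⟩ := Groth.Agent.Lib.T2H6.CohACC.exists_maximal_sub Q hQ
    (fun S f => Mono f ∧ Coh.IsCoh S ∧ topologicalKrullDim (CohB1.support S) < (d : WithBot ℕ∞))
    ⟨(0 : X.Modules), 0, inferInstance, isCoh_of_isZero (isZero_zero _), by
      rw [support_eq_empty_of_isZero (isZero_zero _), dim_empty]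
      exact WithBot.bot_lt_coe _⟩
  haveI := hm
  refine ⟨T, τ, hm, hc, hd, ?_⟩
  intro S j hj hS hdS
  haveI := hj
  have cC := Groth.Agent.Lib.T2H5.GenIsoB.isCoh_cokernel τ hc hQ
  have hSES := shortExact_pullback τ (cokernel.π τ) (cokernel.condition τ) j (shortExact_cokernel τ)
  have cF' : Coh.IsCoh (pullback (cokernel.π τ) j) := isCoh_pullback_mod (cokernel.π τ) j hQ cC hS
  have hdF' := dim_lt_of_shortExact k L hL _ hSES hc cF' hS d hd hdS
  haveI := hc.1
  haveI := cF'.1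
  have hepi := hmax _ (pullback.fst (cokernel.π τ) j) ⟨inferInstance, cF', hdF'⟩ inferInstance
    hc.1 cF'.1 (liftA τ (cokernel.π τ) (cokernel.condition τ) j) (liftA_fst _ _ _ _)
  haveI := hepi
  haveI := hSES.epi_g
  have hg0 : pullback.snd (cokernel.π τ) j = 0 := by
    rw [← cancel_epi (liftA τ (cokernel.π τ) (cokernel.condition τ) j), liftA_snd, Limits.comp_zero]
  exact IsZero.of_epi_eq_zero _ hg0

theorem isPure_of_iso {A B : X.Modules} (e : A ≅ B) {d : ℕ} (h : ShStab.IsPure X A d) :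
    ShStab.IsPure X B d := by
  intro S ι hι hS hS0
  haveI := hι
  exact h S (ι ≫ e.inv) inferInstance hS hS0

include k hL in
/-- the saturation of a coherent submodule. -/
theorem exists_saturation {d : ℕ} {E : X.Modules} (hE : Coh.IsCoh E)
    (hdimE : topologicalKrullDim (CohB1.support E) ≤ (d : WithBot ℕ∞))
    (F : X.Modules) (ι : F ⟶ E) [Mono ι] (hF : Coh.IsCoh F) :
    ∃ (F' : X.Modules) (ι' : F' ⟶ E) (j : F ⟶ F'), Mono ι' ∧ Mono j ∧ Coh.IsCoh F' ∧ j ≫ ι' = ι ∧
      ShStab.IsPure X (cokernel ι') d ∧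
      ∀ pF pF' : ℚ[X], ShStab.IsHilbPoly k X L F pF → ShStab.IsHilbPoly k X L F' pF' →
        alpha d pF' = alpha d pF := by
  haveI := isLocallyNoetherian (X := X) k
  have cQ := Groth.Agent.Lib.T2H5.GenIsoB.isCoh_cokernel ι hF hE
  obtain ⟨T, τ, hm, cT, hdT, hmax⟩ := exists_torsion_sub k L hL (cokernel ι) cQ d
  haveI := hm
  have hSES := shortExact_pullback ι (cokernel.π ι) (cokernel.condition ι) τ (shortExact_cokernel ι)
  have cF' : Coh.IsCoh (pullback (cokernel.π ι) τ) := isCoh_pullback_mod (cokernel.π ι) τ hE cQ cT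
  refine ⟨pullback (cokernel.π ι) τ, pullback.fst _ _, liftA ι (cokernel.π ι) (cokernel.condition ι) τ,
    inferInstance, hSES.mono_f, cF', liftA_fst _ _ _ _, ?_, ?_⟩
  · refine isPure_of_iso (cokernelPullbackFstIso (cokernel.π ι) τ).symm ?_
    intro S σ hσ hS hS0
    haveI := hσ
    refine le_antisymm ?_ (not_lt.1 fun hlt => hS0 (hmax S σ hσ hS hlt))
    refine le_trans ?_ hdimE
    refine (Topology.IsEmbedding.inclusion ?_).isInducing.topologicalKrullDim_le
    exact (Groth.Agent.Lib.T2H5.GenIsoB.support_subset_of_mono σ).trans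
      ((Groth.Agent.Lib.T2H5.GenIsoB.support_subset_of_epi (cokernel.π τ)).trans
        (Groth.Agent.Lib.T2H5.GenIsoB.support_subset_of_epi (cokernel.π ι)))
  · intro pF pF' hpF hpF'
    have hpT := isHilbPoly_hilb k L hL.1 T cT
    have hadd := isHilbPoly_add k L hL.1 _ hSES hF cF' cT pF pF' _ hpF hpF' hpT
    rw [hadd, alpha_add, alpha_eq_zero k L hL.1 T cT _ hpT d hdT, add_zero]

include hL in
/-- semistability can be tested on saturated submodules. -/
theorem isSS_of_saturated {d : ℕ} {E : X.Modules} (hE : Coh.IsCoh E) (h0 : ¬ IsZero E)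
    (hp : ShStab.IsPure X E d)
    (H : ∀ (F : X.Modules) (ι : F ⟶ E), Mono ι → Coh.IsCoh F → ¬ IsZero F → ¬ IsIso ι →
      ShStab.IsPure X (cokernel ι) d → ∀ pF pE : ℚ[X], ShStab.IsHilbPoly k X L F pF →
        ShStab.IsHilbPoly k X L E pE → RedLE d pF pE) :
    StabCat.IsSS Coh.IsCoh (ShStab.IsHilbPoly k X L) d E := by
  intro F ι hι hF hF0 hniso pF pE hpF hpE
  haveI := hι
  have hdimE := dim_support_of_pure hp hE h0
  obtain ⟨F', ι', j, hι', hj, cF', hfac, hpure, halpha⟩ := exists_saturation k L hL hE hdimE.le F ι hF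
  haveI := hι'
  haveI := hj
  have hpF' := isHilbPoly_hilb k L hL.1 F' cF'
  have ha := halpha pF _ hpF hpF'
  obtain ⟨N, hN⟩ := polyLE_of_mono k L hL hF cF' j pF _ hpF hpF'
  have aE : 0 < alpha d pE := alpha_pos k L hL E hE pE hpE d hdimE
  by_cases hiso : IsIso ι'
  · have heq : hilb k L F' = pE :=
      isHilbPoly_unique k L E _ _ (isHilbPoly_of_iso k L (asIso ι') _ hpF') hpE
    rw [heq] at ha hN
    refine ⟨N, fun m hm => ?_⟩
    simp only [eval_smul, smul_eq_mul]
    rw [← ha]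
    exact mul_le_mul_of_nonneg_left (hN m hm) aE.le
  · have hF'0 : ¬ IsZero F' := fun hz => hF0 (IsZero.of_mono j hz)
    obtain ⟨N', hN'⟩ := H F' ι' hι' cF' hF'0 hiso hpure _ pE hpF' hpE
    refine ⟨max N N', fun m hm => ?_⟩
    have e1 := hN m (le_trans (le_max_left _ _) hm)
    have e2 := hN' m (le_trans (le_max_right _ _) hm)
    simp only [eval_smul, smul_eq_mul] at e2 ⊢
    rw [ha] at e2
    exact le_trans (mul_le_mul_of_nonneg_left e1 aE.le) e2

include hL in
/-- stability can be tested on saturated submodules. -/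
theorem isSt_of_saturated {d : ℕ} {E : X.Modules} (hE : Coh.IsCoh E) (h0 : ¬ IsZero E)
    (hp : ShStab.IsPure X E d)
    (H : ∀ (F : X.Modules) (ι : F ⟶ E), Mono ι → Coh.IsCoh F → ¬ IsZero F → ¬ IsIso ι →
      ShStab.IsPure X (cokernel ι) d → ∀ pF pE : ℚ[X], ShStab.IsHilbPoly k X L F pF →
        ShStab.IsHilbPoly k X L E pE → RedLT d pF pE) :
    StabCat.IsSt Coh.IsCoh (ShStab.IsHilbPoly k X L) d E := by
  intro F ι hι hF hF0 hniso pF pE hpF hpE
  haveI := hι
  have hdimE := dim_support_of_pure hp hE h0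
  obtain ⟨F', ι', j, hι', hj, cF', hfac, hpure, halpha⟩ := exists_saturation k L hL hE hdimE.le F ι hF
  haveI := hι'
  haveI := hj
  have hpF' := isHilbPoly_hilb k L hL.1 F' cF'
  have ha := halpha pF _ hpF hpF'
  have aE : 0 < alpha d pE := alpha_pos k L hL E hE pE hpE d hdimE
  by_cases hiso : IsIso ι'
  · have heq : hilb k L F' = pE :=
      isHilbPoly_unique k L E _ _ (isHilbPoly_of_iso k L (asIso ι') _ hpF') hpE
    have hjn : ¬ IsIso j := by
      intro hj'
      apply hniso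
      rw [← hfac]
      infer_instance
    obtain ⟨N, hN⟩ := polyLT_of_mono_not_isIso k L hL hF cF' j hjn pF _ hpF hpF'
    rw [heq] at ha hN
    refine ⟨N, fun m hm => ?_⟩
    simp only [eval_smul, smul_eq_mul]
    rw [← ha]
    exact mul_lt_mul_of_pos_left (hN m hm) aE
  · have hF'0 : ¬ IsZero F' := fun hz => hF0 (IsZero.of_mono j hz)
    obtain ⟨N, hN⟩ := polyLE_of_mono k L hL hF cF' j pF _ hpF hpF'
    obtain ⟨N', hN'⟩ := H F' ι' hι' cF' hF'0 hiso hpure _ pE hpF' hpE
    refine ⟨max N N', fun m hm => ?_⟩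
    have e1 := hN m (le_trans (le_max_left _ _) hm)
    have e2 := hN' m (le_trans (le_max_right _ _) hm)
    simp only [eval_smul, smul_eq_mul] at e2 ⊢
    rw [ha] at e2
    exact lt_of_le_of_lt (mul_le_mul_of_nonneg_left e1 aE.le) e2

section quot

variable {d : ℕ}

theorem seesaw_rev_le {PK PI PF : ℚ[X]} (h : PF = PK + PI) (hle : RedLE d PF PI) : RedLE d PK PF := by
  obtain ⟨N, hN⟩ := hle
  refine ⟨N, fun m hm => ?_⟩
  have e1 := hN m hm
  have ha : alpha d PF = alpha d PK + alpha d PI := by rw [h, alpha_add]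
  simp only [eval_smul, smul_eq_mul] at e1 ⊢
  have hv : PF.eval (m : ℚ) = PK.eval (m : ℚ) + PI.eval (m : ℚ) := by rw [h, eval_add]
  rw [ha, hv] at e1 ⊢
  nlinarith

theorem seesaw_rev_lt {PK PI PF : ℚ[X]} (h : PF = PK + PI) (hlt : RedLT d PF PI) : RedLT d PK PF := by
  obtain ⟨N, hN⟩ := hlt
  refine ⟨N, fun m hm => ?_⟩
  have e1 := hN m hm
  have ha : alpha d PF = alpha d PK + alpha d PI := by rw [h, alpha_add]
  simp only [eval_smul, smul_eq_mul] at e1 ⊢
  have hv : PF.eval (m : ℚ) = PK.eval (m : ℚ) + PI.eval (m : ℚ) := by rw [h, eval_add]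
  rw [ha, hv] at e1 ⊢
  nlinarith

theorem shortExact_kernel {E G : X.Modules} (π : E ⟶ G) [Epi π] :
    (ShortComplex.mk (kernel.ι π) π (kernel.condition π)).ShortExact :=
  { exact := ShortComplex.exact_kernel π
    mono_f := inferInstanceAs (Mono (kernel.ι π))
    epi_g := inferInstanceAs (Epi π) }

include hL in
/-- data for a proper quotient of positive multiplicity. -/
theorem kernel_data {E G : X.Modules} (hE : Coh.IsCoh E) (π : E ⟶ G) [Epi π] (hG : Coh.IsCoh G)
    (hπ : ¬ IsIso π) (pE pG : ℚ[X]) (hpE : ShStab.IsHilbPoly k X L E pE)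
    (hpG : ShStab.IsHilbPoly k X L G pG) (ha : 0 < alpha d pG) :
    Coh.IsCoh (kernel π) ∧ ¬ IsZero (kernel π) ∧ ¬ IsIso (kernel.ι π) ∧
      pE = hilb k L (kernel π) + pG := by
  haveI := isLocallyNoetherian (X := X) k
  have cK := Groth.Agent.Lib.T2H5.GenIsoB.isCoh_kernel π hE hG
  refine ⟨cK, ?_, ?_, ?_⟩
  · intro hz
    haveI : Mono π := Preadditive.mono_of_isZero_kernel π hz
    exact hπ (isIso_of_mono_of_epi π)
  · intro hiso
    have hπ0 : π = 0 := (cancel_epi (kernel.ι π)).1 (by rw [kernel.condition, Limits.comp_zero])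
    have hz : IsZero G := IsZero.of_epi_eq_zero π hπ0
    have : pG = 0 := isHilbPoly_unique k L G pG 0 hpG (isHilbPoly_zero_of_isZero k L G hz)
    rw [this] at ha
    unfold alpha at ha
    simp at ha
  · exact isHilbPoly_add k L hL.1 _ (shortExact_kernel π) cK hE hG _ pE pG
      (isHilbPoly_hilb k L hL.1 _ cK) hpE hpG

include hL in
/-- (i) ⇒ (iii), semistable case. -/
theorem redLE_quot {E : X.Modules} (hE : ShStab.IsSemistable k X L E d) (G : X.Modules) (π : E ⟶ G) [Epi π]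
    (hG : Coh.IsCoh G) (hπ : ¬ IsIso π) (pE pG : ℚ[X]) (hpE : ShStab.IsHilbPoly k X L E pE)
    (hpG : ShStab.IsHilbPoly k X L G pG) (ha : 0 < alpha d pG) : RedLE d pE pG := by
  obtain ⟨cK, hK0, hKiso, hadd⟩ := kernel_data k L hL hE.1 π hG hπ pE pG hpE hpG ha
  exact seesaw_le hadd (hE.2.2.2 _ (kernel.ι π) inferInstance cK hK0 hKiso _ pE
    (isHilbPoly_hilb k L hL.1 _ cK) hpE)

include hL in
/-- (i) ⇒ (iii), stable case. -/
theorem redLT_quot {E : X.Modules} (hE : ShStab.IsStable k X L E d) (G : X.Modules) (π : E ⟶ G) [Epi π]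
    (hG : Coh.IsCoh G) (hπ : ¬ IsIso π) (pE pG : ℚ[X]) (hpE : ShStab.IsHilbPoly k X L E pE)
    (hpG : ShStab.IsHilbPoly k X L G pG) (ha : 0 < alpha d pG) : RedLT d pE pG := by
  obtain ⟨cK, hK0, hKiso, hadd⟩ := kernel_data k L hL hE.1 π hG hπ pE pG hpE hpG ha
  exact seesaw_lt hadd (hE.2.2.2 _ (kernel.ι π) inferInstance cK hK0 hKiso _ pE
    (isHilbPoly_hilb k L hL.1 _ cK) hpE)

include hL in
/-- data for a proper nonzero submodule: its cokernel. -/
theorem cokernel_data {E F : X.Modules} (hE : Coh.IsCoh E) (ι : F ⟶ E) [Mono ι] (hF : Coh.IsCoh F)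
    (hF0 : ¬ IsZero F) (hι : ¬ IsIso ι) (pF pE : ℚ[X]) (hpF : ShStab.IsHilbPoly k X L F pF)
    (hpE : ShStab.IsHilbPoly k X L E pE) :
    Coh.IsCoh (cokernel ι) ∧ ¬ IsZero (cokernel ι) ∧ ¬ IsIso (cokernel.π ι) ∧
      pE = pF + hilb k L (cokernel ι) := by
  have cC := Groth.Agent.Lib.T2H5.GenIsoB.isCoh_cokernel ι hF hE
  refine ⟨cC, ?_, ?_, ?_⟩
  · intro hz
    haveI : Epi ι := Preadditive.epi_of_isZero_cokernel ι hz
    exact hι (isIso_of_mono_of_epi ι)
  · intro hiso
    have hι0 : ι = 0 := (cancel_mono (cokernel.π ι)).1 (by rw [cokernel.condition, Limits.zero_comp])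
    exact hF0 (IsZero.of_mono_eq_zero ι hι0)
  · exact hilb_add_cokernel k L hL hF hE ι pF pE _ hpF hpE (isHilbPoly_hilb k L hL.1 _ cC)

end quot

end Groth.Agent.Lib.T2H6.HilbPolyK
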