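import Mathlib
import Groth.Prelude
import Groth.Agent.Lib.T2H6HilbPolyK
set_option backward.isDefEq.respectTransparency.types false

/-!
# Semistable sheaves with a fixed reduced Hilbert polynomial form an abelian subcategory (helper6)

Namespace `Groth.Agent.Lib.T2H6.HilbPolyL`.  `X` proper over a field `k`, `L` ample.

* `isSemistable_of_iso`.
* `sub_isSemistable_of_redEq` : a nonzero submodule of a semistable sheaf with the same reduced polynomial is semistable.
* `quot_isSemistable_of_redEq` : the quotient by a submodule with the same reduced polynomial is semistable (or zero).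
* `kernel_cokernel_isSemistable` (S15272).
-/

set_option autoImplicit false
set_option linter.style.haveILetI false
set_option linter.unusedSectionVars false
universe u

open CategoryTheory TopCat TopologicalSpace Opposite AlgebraicGeometry Limits Polynomial StabCat

namespace Groth.Agent.Lib.T2H6.HilbPolyL

open Groth.Agent.Lib.T2H6.HilbPolyA Groth.Agent.Lib.T2H6.HilbPolyB Groth.Agent.Lib.T2H6.HilbPolyC
  Groth.Agent.Lib.T2H6.HilbPolyD Groth.Agent.Lib.T2H6.HilbPolyE Groth.Agent.Lib.T2H6.HilbPolyK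
  Groth.Agent.Lib.T2H5.FiltCat

variable {X : Scheme.{u}} (k : Type u) [Field k] [X.Over (Spec (CommRingCat.of k))]
  [IsProper (X ↘ Spec (CommRingCat.of k))] (L : X.Modules) (hL : CohB1.IsAmple L) {d : ℕ}

include k in
theorem isSemistable_of_iso {A B : X.Modules} (e : A ≅ B) (h : ShStab.IsSemistable k X L A d) :
    ShStab.IsSemistable k X L B d := by
  obtain ⟨cA, A0, pA, ssA⟩ := h
  refine ⟨Groth.Agent.Lib.T2H5.Devissage.isCoh_of_iso e cA, fun hz => A0 (hz.of_iso e), isPure_of_iso e pA, ?_⟩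
  intro S ι hι hS hS0 hniso pS pB hpS hpB
  haveI := hι
  refine ssA S (ι ≫ e.inv) inferInstance hS hS0 ?_ pS pB hpS (isHilbPoly_of_iso k L e.symm pB hpB)
  intro hiso
  apply hniso
  have : ι = (ι ≫ e.inv) ≫ e.hom := by rw [Category.assoc, e.inv_hom_id, Category.comp_id]
  rw [this]
  infer_instance

section preimage

variable {I F Q' : X.Modules} (ι : I ⟶ F) [Mono ι] (σ : Q' ⟶ cokernel ι) [Mono σ]

/-- the preimage in `F` of a submodule of `F / I`. -/
noncomputable abbrev pre : X.Modules := pullback (cokernel.π ι) σ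

theorem pre_shortExact :
    (ShortComplex.mk (liftA ι (cokernel.π ι) (cokernel.condition ι) σ) (pullback.snd (cokernel.π ι) σ)
      (liftA_snd _ _ _ _)).ShortExact :=
  shortExact_pullback ι (cokernel.π ι) (cokernel.condition ι) σ (shortExact_cokernel ι)

theorem isIso_of_isIso_pre_fst (h : IsIso (pullback.fst (cokernel.π ι) σ)) : IsIso σ := by
  have hz : IsZero (cokernel (pullback.fst (cokernel.π ι) σ)) := isZero_cokernel_of_epi _
  have hz' : IsZero (cokernel σ) := hz.of_iso (cokernelPullbackFstIso (cokernel.π ι) σ).symm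
  haveI : Epi σ := Preadditive.epi_of_isZero_cokernel σ hz'
  exact isIso_of_mono_of_epi σ

theorem not_isZero_pre (h : ¬ IsZero Q') : ¬ IsZero (pre ι σ) := by
  intro hz
  haveI := (pre_shortExact ι σ).epi_g
  exact h (IsZero.of_epi (pullback.snd (cokernel.π ι) σ) hz)

end preimage

include hL in
/-- a nonzero coherent submodule with the reduced Hilbert polynomial of a semistable sheaf is semistable. -/
theorem sub_isSemistable_of_redEq {E K : X.Modules} (hE : ShStab.IsSemistable k X L E d) (ι : K ⟶ E) [Mono ι]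
    (hK : Coh.IsCoh K) (hK0 : ¬ IsZero K) (pK pE : ℚ[X]) (hpK : ShStab.IsHilbPoly k X L K pK)
    (hpE : ShStab.IsHilbPoly k X L E pE) (heq : RedEq d pK pE) : ShStab.IsSemistable k X L K d := by
  obtain ⟨cE, E0, pE', ssE⟩ := hE
  have hpure : ShStab.IsPure X K d := by
    intro S σ hσ hS hS0
    haveI := hσ
    exact pE' S (σ ≫ ι) inferInstance hS hS0
  refine ⟨hK, hK0, hpure, ?_⟩
  intro S σ hσ hS hS0 hniso pS pK' hpS hpK'
  haveI := hσ
  have hpK'' : pK' = pK := isHilbPoly_unique k L K _ _ hpK' hpK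
  subst hpK''
  have hn : ¬ IsIso (σ ≫ ι) := by
    intro hiso
    haveI : IsSplitEpi ι := IsSplitEpi.mk' ⟨inv (σ ≫ ι) ≫ σ, by rw [Category.assoc, IsIso.inv_hom_id]⟩
    haveI : IsIso ι := isIso_of_mono_of_isSplitEpi ι
    apply hniso
    have : σ = (σ ≫ ι) ≫ inv ι := by rw [Category.assoc, IsIso.hom_inv_id, Category.comp_id]
    rw [this]
    infer_instance
  have h1 := ssE S (σ ≫ ι) inferInstance hS hS0 hn pS pE hpS hpE
  have aE : 0 < alpha d pE :=
    alpha_pos k L hL E cE pE hpE d (dim_support_of_pure pE' cE E0)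
  have aS : 0 < alpha d pS := alpha_pos_of_sub k L hL hpure σ hS hS0 pS hpS
  have aK : 0 < alpha d pK' := alpha_pos_of_sub k L hL pE' ι hK hK0 pK' hpK
  exact redLE_trans aS.le aE aK.le h1 (redLE_of_redEq' heq)

include hL in
/-- the quotient of a semistable sheaf by a submodule with the same reduced Hilbert polynomial is zero or
semistable with the same reduced Hilbert polynomial. -/
theorem quot_isSemistable_of_redEq {F I : X.Modules} (hF : ShStab.IsSemistable k X L F d) (ι : I ⟶ F) [Mono ι]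
    (hI : Coh.IsCoh I) (pI pF : ℚ[X]) (hpI : ShStab.IsHilbPoly k X L I pI)
    (hpF : ShStab.IsHilbPoly k X L F pF) (heq : RedEq d pI pF) (hQ0 : ¬ IsZero (cokernel ι)) :
    ShStab.IsSemistable k X L (cokernel ι) d ∧
      ∀ pQ : ℚ[X], ShStab.IsHilbPoly k X L (cokernel ι) pQ → RedEq d pQ pF := by
  haveI := isLocallyNoetherian (X := X) k
  obtain ⟨cF, F0, pureF, ssF⟩ := hF
  have hdimF := dim_support_of_pure pureF cF F0
  have cQ := Groth.Agent.Lib.T2H5.GenIsoB.isCoh_cokernel ι hI cF
  have hpQ := isHilbPoly_hilb k L hL.1 _ cQ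
  have hadd := hilb_add_cokernel k L hL hI cF ι pI pF _ hpI hpF hpQ
  have aF : 0 < alpha d pF := alpha_pos k L hL F cF pF hpF d hdimF
  set pQ := hilb k L (cokernel ι) with hpQdef
  -- reduced polynomial of the quotient
  have hred : RedEq d pQ pF := by
    unfold RedEq at heq ⊢
    have h1 : pQ = pF - pI := by rw [hadd]; ring
    have h2 : alpha d pQ = alpha d pF - alpha d pI := by rw [hadd, alpha_add]; ring
    rw [h2, h1, smul_sub, sub_smul, heq]
  have hdimQ : topologicalKrullDim (CohB1.support (cokernel ι)) ≤ (d : WithBot ℕ∞) := by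
    refine le_trans ?_ hdimF.le
    exact (Topology.IsEmbedding.inclusion
      (Groth.Agent.Lib.T2H5.GenIsoB.support_subset_of_epi (cokernel.π ι))).isInducing.topologicalKrullDim_le
  have aQ : 0 < alpha d pQ := by
    rcases (alpha_nonneg k L hL _ cQ pQ hpQ d hdimQ).lt_or_eq with h | h
    · exact h
    · exfalso
      unfold RedEq at hred
      rw [← h, zero_smul] at hred
      have : pQ = 0 := by
        have h3 := congrArg (fun P => (alpha d pF)⁻¹ • P) hred
        simpa [smul_smul, inv_mul_cancel₀ aF.ne'] using h3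
      rw [this] at hpQ
      exact hQ0 (isZero_of_isHilbPoly_zero k L hL _ cQ hpQ)
  -- the comparison for preimages
  have key : ∀ (Q' : X.Modules) (σ : Q' ⟶ cokernel ι), Mono σ → Coh.IsCoh Q' → ¬ IsZero Q' → ¬ IsIso σ →
      ∀ pQ' : ℚ[X], ShStab.IsHilbPoly k X L Q' pQ' → RedLE d pQ' pF := by
    intro Q' σ hσ hQ' hQ'0 hniso pQ' hpQ'
    haveI := hσ
    have cP : Coh.IsCoh (pre ι σ) := isCoh_pullback_mod (cokernel.π ι) σ cF cQ hQ'
    have hpP := isHilbPoly_hilb k L hL.1 _ cP
    have haddP := isHilbPoly_add k L hL.1 _ (pre_shortExact ι σ) hI cP hQ' pI _ pQ' hpI hpP hpQ'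
    obtain ⟨N, hN⟩ := ssF (pre ι σ) (pullback.fst _ _) inferInstance cP (not_isZero_pre ι σ hQ'0)
      (fun h => hniso (isIso_of_isIso_pre_fst ι σ h)) _ pF hpP hpF
    refine ⟨N, fun m hm => ?_⟩
    have e1 := hN m hm
    unfold RedEq at heq
    have e2 := congrArg (fun P => P.eval (m : ℚ)) heq
    simp only [eval_smul, smul_eq_mul] at e1 e2 ⊢
    rw [haddP, alpha_add, eval_add] at e1
    nlinarith
  have hpure : ShStab.IsPure X (cokernel ι) d := by
    intro T σ hσ hT hT0
    haveI := hσ
    refine le_antisymm ((dim_support_le_of_mono σ).trans hdimQ) (not_lt.1 fun hlt => ?_)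
    have hpT := isHilbPoly_hilb k L hL.1 T hT
    have haT : alpha d (hilb k L T) = 0 := alpha_eq_zero k L hL.1 T hT _ hpT d hlt
    have hniso : ¬ IsIso σ := by
      intro hiso
      have : hilb k L T = pQ := isHilbPoly_unique k L _ _ _ (isHilbPoly_of_iso k L (asIso σ) _ hpT) hpQ
      rw [this] at haT
      exact aQ.ne' haT
    obtain ⟨N, hN⟩ := key T σ hσ hT hT0 hniso _ hpT
    obtain ⟨N', hN'⟩ := eventually_pos_of_not_isZero k L hL T hT hT0 _ hpT
    have e1 := hN (max N N') (le_max_left _ _)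
    have e2 := hN' (max N N') (le_max_right _ _)
    rw [haT] at e1
    simp only [eval_smul, smul_eq_mul, zero_mul] at e1
    nlinarith
  refine ⟨⟨cQ, hQ0, hpure, ?_⟩, fun pQ' hpQ' => by
    rw [isHilbPoly_unique k L _ _ _ hpQ' hpQ]; exact hred⟩
  intro Q' σ hσ hQ' hQ'0 hniso pQ' pQ'' hpQ' hpQ''
  haveI := hσ
  rw [isHilbPoly_unique k L _ _ _ hpQ'' hpQ]
  have aQ' : 0 < alpha d pQ' := alpha_pos_of_sub k L hL hpure σ hQ' hQ'0 pQ' hpQ'
  exact redLE_trans aQ'.le aF aQ.le (key Q' σ hσ hQ' hQ'0 hniso pQ' hpQ') (redLE_of_redEq' hred)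

/-- `F / im f ≅ coker f`. -/
noncomputable def cokernelImageIso {E F : X.Modules} (f : E ⟶ F) :
    cokernel (Abelian.image.ι f) ≅ cokernel f :=
  IsColimit.coconePointUniqueUpToIso (colimit.isColimit _)
    (Abelian.epiIsCokernelOfKernel (f := cokernel.π f) _ (kernelIsKernel (cokernel.π f)))

theorem redEq_sub_of_add {PK PI PF : ℚ[X]} (h : PF = PK + PI) (heq : RedEq d PI PF) : RedEq d PK PF := by
  unfold RedEq at heq ⊢
  have h1 : PK = PF - PI := by rw [h]; ring
  have h2 : alpha d PK = alpha d PF - alpha d PI := by rw [h, alpha_add]; ring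
  rw [h2, h1, smul_sub, sub_smul, heq]

theorem redEq_zero_left (d : ℕ) (P : ℚ[X]) : RedEq d 0 P := by
  unfold RedEq alpha
  simp

theorem redEq_trans' {P Q R : ℚ[X]} (hQ : alpha d Q ≠ 0) (h1 : RedEq d P Q) (h2 : RedEq d R Q) :
    RedEq d P R := by
  unfold RedEq at h1 h2 ⊢
  have e1 : alpha d Q • (alpha d R • P) = alpha d Q • (alpha d P • R) := by
    rw [smul_comm, h1, smul_smul, mul_comm, ← smul_smul, ← h2, smul_comm]
  have := congrArg (fun T => (alpha d Q)⁻¹ • T) e1
  simpa [smul_smul, ← mul_assoc, inv_mul_cancel₀ hQ] using this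

include hL in
/-- S15272. -/
theorem kernel_cokernel_isSemistable {E F : X.Modules} (hE : ShStab.IsSemistable k X L E d)
    (hF : ShStab.IsSemistable k X L F d) (pE pF : ℚ[X]) (hpE : ShStab.IsHilbPoly k X L E pE)
    (hpF : ShStab.IsHilbPoly k X L F pF) (hred : RedEq d pE pF) (f : E ⟶ F) :
    (IsZero (kernel f) ∨ (ShStab.IsSemistable k X L (kernel f) d ∧
        ∀ pK : ℚ[X], ShStab.IsHilbPoly k X L (kernel f) pK → RedEq d pK pE)) ∧
    (IsZero (cokernel f) ∨ (ShStab.IsSemistable k X L (cokernel f) d ∧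
        ∀ pQ : ℚ[X], ShStab.IsHilbPoly k X L (cokernel f) pQ → RedEq d pQ pE)) := by
  haveI := isLocallyNoetherian (X := X) k
  have cK := Groth.Agent.Lib.T2H5.GenIsoB.isCoh_kernel f hE.1 hF.1
  have cI := Groth.Agent.Lib.T2H6.CurveVB.isCoh_image f hE.1 hF.1
  have hpK := isHilbPoly_hilb k L hL.1 _ cK
  have hpI := isHilbPoly_hilb k L hL.1 _ cI
  have hadd := hilb_add_kerIm k L hL hE.1 hF.1 f _ pE _ hpK hpE hpI
  have aE := alpha_pos_of_isSemistable k L hL hE pE hpE
  have aF := alpha_pos_of_isSemistable k L hL hF pF hpF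
  -- the image has the common reduced polynomial
  have hI : RedEq d (hilb k L (Abelian.image f)) pF ∧ RedEq d (hilb k L (Abelian.image f)) pE := by
    by_cases hf : f = 0
    · have hz : IsZero (Abelian.image f) := by
        rw [IsZero.iff_id_eq_zero, ← cancel_mono (Abelian.image.ι f), ← cancel_epi (Abelian.factorThruImage f)]
        rw [Category.id_comp, Abelian.image.fac, hf, Limits.zero_comp, Limits.comp_zero]
      have h0 : hilb k L (Abelian.image f) = 0 :=
        isHilbPoly_unique k L _ _ _ hpI (isHilbPoly_zero_of_isZero k L _ hz)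
      rw [h0]
      exact ⟨redEq_zero_left d pF, redEq_zero_left d pE⟩
    · have aI : 0 < alpha d (hilb k L (Abelian.image f)) :=
        alpha_pos_of_sub k L hL hF.2.2.1 (Abelian.image.ι f) cI (not_isZero_image f hf) _ hpI
      have h1 := redLE_image k L hL hE.1 hF.1 hE.2.2.2 f hf pE _ hpE hpI
      have h2 := image_redLE k L hL hE.1 hF.1 hF.2.2.2 f hf _ pF hpI hpF
      have h3 : RedLE d pF pE := redLE_of_redEq' hred
      exact ⟨redEq_of_redLE_of_redLE h2 (redLE_trans aF.le aE aI.le h3 h1),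
        redEq_of_redLE_of_redLE (redLE_trans aI.le aF aE.le h2 h3) h1⟩
  constructor
  · by_cases hK0 : IsZero (kernel f)
    · exact Or.inl hK0
    · right
      have heqK : RedEq d (hilb k L (kernel f)) pE := redEq_sub_of_add hadd hI.2
      refine ⟨sub_isSemistable_of_redEq k L hL hE (kernel.ι f) cK hK0 _ pE hpK hpE heqK, fun pK' hpK' => ?_⟩
      rw [isHilbPoly_unique k L _ _ _ hpK' hpK]
      exact heqK
  · by_cases hQ0 : IsZero (cokernel f)
    · exact Or.inl hQ0
    · right
      have hQ0' : ¬ IsZero (cokernel (Abelian.image.ι f)) := fun hz => hQ0 (hz.of_iso (cokernelImageIso f).symm)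
      obtain ⟨ss, hr⟩ := quot_isSemistable_of_redEq k L hL hF (Abelian.image.ι f) cI _ pF hpI hpF hI.1 hQ0'
      refine ⟨isSemistable_of_iso k L (cokernelImageIso f) ss, fun pQ hpQ => ?_⟩
      have h1 := hr pQ (isHilbPoly_of_iso k L (cokernelImageIso f).symm pQ hpQ)
      exact redEq_trans' aF.ne' h1 hred

end Groth.Agent.Lib.T2H6.HilbPolyL
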