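import Mathlib
import Groth.Prelude
import Groth.Agent.Lib.T2H6HilbPolyL
import Groth.Agent.Lib.T2H6FiltExt

/-!
# Existence of Jordan–Hölder filtrations of semistable sheaves

* `eq_of_polyLE_of_not_polyLT`, `redEq_of_redLE_of_not_redLT`: trichotomy for eventual comparison.
* `alpha_int`: the multiplicity of a Hilbert polynomial is an integer.
* `isStable_of_iso`.
* `exists_isJHFiltration`: a semistable sheaf on a projective scheme over a field has a Jordan–Hölder filtration.
-/

universe u

open CategoryTheory TopCat TopologicalSpace Opposite AlgebraicGeometry Limits Polynomial StabCat ZeroObject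

namespace Groth.Agent.Lib.T2H6.HilbPolyM

open Groth.Agent.Lib.T2H6.HilbPolyA Groth.Agent.Lib.T2H6.HilbPolyB Groth.Agent.Lib.T2H6.HilbPolyC
  Groth.Agent.Lib.T2H6.HilbPolyD Groth.Agent.Lib.T2H6.HilbPolyE Groth.Agent.Lib.T2H6.HilbPolyK
  Groth.Agent.Lib.T2H6.HilbPolyL Groth.Agent.Lib.T2H5.FiltCat Groth.Agent.Lib.T2H6.FiltExt

theorem eq_of_polyLE_of_not_polyLT {A B : ℚ[X]} (h : PolyLE A B) (hn : ¬ PolyLT A B) : A = B := by
  by_contra hne
  have hR : B - A ≠ 0 := sub_ne_zero.2 (Ne.symm hne)
  have h0 : ∀ i, (B - A).natDegree < i → (B - A).coeff i = 0 :=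
    fun i hi => coeff_eq_zero_of_natDegree_lt hi
  have hlc : (B - A).coeff (B - A).natDegree ≠ 0 := by
    rw [coeff_natDegree]
    exact leadingCoeff_ne_zero.2 hR
  rcases lt_or_gt_of_ne hlc with hneg | hpos
  · obtain ⟨N, hN⟩ := eventually_pos (-(B - A)) (B - A).natDegree
      (by intro i hi; rw [coeff_neg, h0 i hi, neg_zero]) (by rw [coeff_neg]; linarith)
    obtain ⟨N', hN'⟩ := h
    have h1 := hN (max N N') (le_max_left _ _)
    have h2 := hN' (max N N') (le_max_right _ _)
    rw [eval_neg, eval_sub] at h1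
    linarith
  · obtain ⟨N, hN⟩ := eventually_pos (B - A) _ h0 hpos
    exact hn ⟨N, fun m hm => by have := hN m hm; rw [eval_sub] at this; linarith⟩

theorem redEq_of_redLE_of_not_redLT {d : ℕ} {P Q : ℚ[X]} (h : RedLE d P Q) (hn : ¬ RedLT d P Q) :
    RedEq d P Q :=
  eq_of_polyLE_of_not_polyLT h hn

theorem redEq_add {d : ℕ} {P₁ P₂ Q : ℚ[X]} (h1 : RedEq d P₁ Q) (h2 : RedEq d P₂ Q) :
    RedEq d (P₁ + P₂) Q := by
  unfold RedEq at h1 h2 ⊢
  rw [smul_add, h1, h2, alpha_add, add_smul]

variable {X : Scheme.{u}} (k : Type u) [Field k] [X.Over (Spec (CommRingCat.of k))]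
  [IsProper (X ↘ Spec (CommRingCat.of k))] (L : X.Modules) (hL : CohB1.IsAmple L)

/-- the multiplicity of a Hilbert polynomial is an integer. -/
theorem alpha_int (hLi : PicF.IsInvertible L) (F : X.Modules) (hF : Coh.IsCoh F)
    (P : ℚ[X]) (hP : ShStab.IsHilbPoly k X L F P) (d : ℕ)
    (hd : topologicalKrullDim (CohB1.support F) ≤ (d : WithBot ℕ∞)) : ∃ z : ℤ, alpha d P = z := by
  rw [eq_hilb k L hLi F hF P hP]
  unfold hilb alpha
  rw [coeff_ofCoords _ _ d (fun i hi => by
    rw [intNum_eq_zero k L hLi F hF i (lt_of_le_of_lt hd (by exact_mod_cast hi)), Int.cast_zero])]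
  split_ifs
  · refine ⟨FGA.intNum k X (dimBound (X := X) k)
      (fun _ : Fin d => Groth.Agent.Lib.T2H9.TensorInv.inv L) F, ?_⟩
    have : (d.factorial : ℚ) ≠ 0 := by exact_mod_cast d.factorial_ne_zero
    field_simp
  · exact ⟨0, by simp⟩

include k in
theorem isStable_of_iso {d : ℕ} {A B : X.Modules} (e : A ≅ B) (h : ShStab.IsStable k X L A d) :
    ShStab.IsStable k X L B d := by
  obtain ⟨cA, A0, pA, ssA⟩ := h
  refine ⟨Groth.Agent.Lib.T2H5.Devissage.isCoh_of_iso e cA, fun hz => A0 (hz.of_iso e), isPure_of_iso e pA, ?_⟩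
  intro S ι hι hS hS0 hniso pS pB hpS hpB
  haveI := hι
  refine ssA S (ι ≫ e.inv) inferInstance hS hS0 ?_ pS pB hpS (isHilbPoly_of_iso k L e.symm pB hpB)
  intro hiso
  apply hniso
  have : ι = (ι ≫ e.inv) ≫ e.hom := by rw [Category.assoc, e.inv_hom_id, Category.comp_id]
  rw [this]
  infer_instance

/-- the condition on the factors of a Jordan–Hölder filtration. -/
def Fac (d : ℕ) (pE : ℚ[X]) (G : X.Modules) : Prop :=
  ShStab.IsStable k X L G d ∧ ∀ p : ℚ[X], ShStab.IsHilbPoly k X L G p → RedEq d p pE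

include hL in
theorem exists_jh_aux (d : ℕ) (n : ℕ) : ∀ (E : X.Modules), Coh.IsCoh E →
    (IsZero E ∨ ShStab.IsSemistable k X L E d) → alpha d (hilb k L E) ≤ (n : ℚ) →
    ∃ s : LTSeries (Subobject E), s.head = ⊥ ∧ s.last = ⊤ ∧
      ∀ i, Fac k L d (hilb k L E) (factor s i) := by
  induction n with
  | zero =>
    intro E cE hE ha
    rcases hE with hz | hss
    · exact exists_of_isZero hz (Fac k L d (hilb k L E))
    · exfalso
      have := alpha_pos_of_isSemistable k L hL hss _ (isHilbPoly_hilb k L hL.1 E cE)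
      simp only [Nat.cast_zero] at ha
      linarith
  | succ n ih =>
    intro E cE hE ha
    rcases hE with hz | hss
    · exact exists_of_isZero hz (Fac k L d (hilb k L E))
    · haveI : IsNoetherian X := Groth.Agent.Lib.T2H6.CurveSatur.isNoetherian_of_proper k
      haveI := isLocallyNoetherian (X := X) k
      have E0 := hss.2.1
      set pE := hilb k L E with hpEdef
      have hpE := isHilbPoly_hilb k L hL.1 E cE
      have aE : 0 < alpha d pE := alpha_pos_of_isSemistable k L hL hss pE hpE
      obtain ⟨S, f, ⟨hm, cS, hniso, hred⟩, hmax⟩ := Groth.Agent.Lib.T2H6.CohACC.exists_maximal_sub E cE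
        (fun S f => Mono f ∧ Coh.IsCoh S ∧ ¬ IsIso f ∧ RedEq d (hilb k L S) pE)
        ⟨(0 : X.Modules), 0, inferInstance, isCoh_of_isZero (isZero_zero _), by
          intro hiso
          exact E0 ((isZero_zero _).of_iso (asIso (0 : (0 : X.Modules) ⟶ E)).symm), by
          rw [← eq_hilb k L hL.1 _ (isCoh_of_isZero (isZero_zero _)) 0
            (isHilbPoly_zero_of_isZero k L _ (isZero_zero _))]
          exact redEq_zero_left d pE⟩
      haveI := hm
      have hpS := isHilbPoly_hilb k L hL.1 S cS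
      have cQ := Groth.Agent.Lib.T2H5.GenIsoB.isCoh_cokernel f cS cE
      have Q0 : ¬ IsZero (cokernel f) := fun hz => hniso (by
        haveI : Epi f := Preadditive.epi_of_isZero_cokernel f hz
        exact isIso_of_mono_of_epi f)
      obtain ⟨ssQ, hredQ⟩ := quot_isSemistable_of_redEq k L hL hss f cS _ pE hpS hpE hred Q0
      have hpQ := isHilbPoly_hilb k L hL.1 _ cQ
      have hadd := hilb_add_cokernel k L hL cS cE f _ pE _ hpS hpE hpQ
      have aQ : 0 < alpha d (hilb k L (cokernel f)) := alpha_pos_of_isSemistable k L hL ssQ _ hpQ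
      -- the quotient is stable
      have stQ : ShStab.IsStable k X L (cokernel f) d := by
        refine ⟨ssQ.1, ssQ.2.1, ssQ.2.2.1, ?_⟩
        intro G σ hσ cG G0 hσiso pG pQ hpG hpQ'
        haveI := hσ
        by_contra hnlt
        have hle := ssQ.2.2.2 G σ hσ cG G0 hσiso pG pQ hpG hpQ'
        have heq : RedEq d pG pQ := redEq_of_redLE_of_not_redLT hle hnlt
        have hpQeq : pQ = hilb k L (cokernel f) := eq_hilb k L hL.1 _ cQ pQ hpQ'
        rw [hpQeq] at heq
        have heqE : RedEq d pG pE := redEq_trans' aQ.ne' heq (hredQ _ hpQ).symm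
        have cS' : Coh.IsCoh (pre f σ) := isCoh_pullback_mod (cokernel.π f) σ cE cQ cG
        have hSES := pre_shortExact f σ
        have hpS' := isHilbPoly_hilb k L hL.1 _ cS'
        have hadd' := isHilbPoly_add k L hL.1 _ hSES cS cS' cG _ _ pG hpS hpS' hpG
        have hred' : RedEq d (hilb k L (pre f σ)) pE := by
          rw [hadd']
          exact redEq_add hred heqE
        have hniso' : ¬ IsIso (pullback.fst (cokernel.π f) σ) :=
          fun h => hσiso (isIso_of_isIso_pre_fst f σ h)
        haveI := cS.1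
        haveI := cS'.1
        have hepi := hmax _ (pullback.fst (cokernel.π f) σ) ⟨inferInstance, cS', hniso', hred'⟩ inferInstance
          cS.1 cS'.1 (liftA f (cokernel.π f) (cokernel.condition f) σ) (liftA_fst _ _ _ _)
        haveI := hepi
        haveI := hSES.epi_g
        have hg0 : pullback.snd (cokernel.π f) σ = 0 := by
          rw [← cancel_epi (liftA f (cokernel.π f) (cokernel.condition f) σ), liftA_snd, Limits.comp_zero]
        exact G0 (IsZero.of_epi_eq_zero _ hg0)
      -- the multiplicity of `S` is smaller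
      have haS : alpha d (hilb k L S) ≤ (n : ℚ) := by
        have h1 : alpha d pE = alpha d (hilb k L S) + alpha d (hilb k L (cokernel f)) := by
          rw [hadd, alpha_add]
        obtain ⟨z, hz⟩ := alpha_int k L hL.1 (cokernel f) cQ _ hpQ d
          (dim_support_of_pure ssQ.2.2.1 ssQ.1 ssQ.2.1).le
        have h2 : (1 : ℚ) ≤ alpha d (hilb k L (cokernel f)) := by
          rw [hz] at aQ ⊢
          have : 0 < z := by exact_mod_cast aQ
          exact_mod_cast this
        push_cast at ha
        linarith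
      -- the filtration of `S`
      have hser : ∃ s : LTSeries (Subobject S), s.head = ⊥ ∧ s.last = ⊤ ∧
          ∀ i, Fac k L d pE (factor s i) := by
        by_cases hS0 : IsZero S
        · exact exists_of_isZero hS0 (Fac k L d pE)
        · have ssS := sub_isSemistable_of_redEq k L hL hss f cS hS0 _ pE hpS hpE hred
          have aS : 0 < alpha d (hilb k L S) := alpha_pos_of_isSemistable k L hL ssS _ hpS
          obtain ⟨s, h0, h1, hs⟩ := ih S cS (Or.inr ssS) haS
          exact ⟨s, h0, h1, fun i => ⟨(hs i).1, fun p hp => redEq_trans' aS.ne' ((hs i).2 p hp) hred.symm⟩⟩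
      obtain ⟨s, h0, h1, hs⟩ := hser
      exact exists_ext f hniso (Fac k L d pE)
        (fun e h => ⟨isStable_of_iso k L e h.1, fun p hp => h.2 p (isHilbPoly_of_iso k L e.symm p hp)⟩)
        s h0 h1 hs ⟨stQ, hredQ⟩

include hL in
/-- a semistable sheaf has a Jordan–Hölder filtration. -/
theorem exists_isJHFiltration (d : ℕ) (E : X.Modules) (hE : ShStab.IsSemistable k X L E d) :
    ∃ s : LTSeries (Subobject E), ShStab.IsJHFiltration k X L E d s := by
  have hpE := isHilbPoly_hilb k L hL.1 E hE.1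
  obtain ⟨z, hz⟩ := alpha_int k L hL.1 E hE.1 _ hpE d (dim_support_of_pure hE.2.2.1 hE.1 hE.2.1).le
  obtain ⟨s, h0, h1, hs⟩ := exists_jh_aux k L hL d z.toNat E hE.1 (Or.inr hE) (by
    rw [hz]
    exact_mod_cast Int.self_le_toNat z)
  refine ⟨s, h0, h1, fun i => ⟨(hs i).1, fun p q hp hq => ?_⟩⟩
  rw [eq_hilb k L hL.1 E hE.1 q hq]
  exact (hs i).2 p hp

end Groth.Agent.Lib.T2H6.HilbPolyM
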