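import Mathlib
import Groth.Prelude.Def_StabCat
import Groth.Agent.Lib.T2H6FiltExt

/-!
# An abstract Jordan–Hölder theorem for chains of subobjects (`StabCat.grObj`)

In an abelian category, for an object `E`, a predicate `Good` on subobjects of `E` and a predicate `Fac` on
objects ("simple"), subject to the hypotheses below, any two chains of subobjects from `⊥` to `⊤` with factors
in `Fac` have the same length and isomorphic associated graded objects.  The proof equips `Subobject E` with
Mathlib's `JordanHolderLattice` structure and uses `CompositionSeries.jordan_holder`, together with the second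
isomorphism theorem in the lattice of subobjects.
-/

universe v u

open CategoryTheory CategoryTheory.Limits StabCat

namespace Groth.Agent.Lib.T2H6.JHLattice

open Groth.Agent.Lib.T2H6.FiltExt

variable {C : Type u} [Category.{v} C] [Abelian C] {E : C}

/-- if `y ⟶ z ⟶ z / x` vanishes then `y ≤ x`. -/
theorem le_of_toQuot_eq_zero {x y z : Subobject E} (hxz : x ≤ z) (hyz : y ≤ z)
    (h : Subobject.ofLE y z hyz ≫ cokernel.π (Subobject.ofLE x z hxz) = 0) : y ≤ x := by
  refine Subobject.le_of_comm (Abelian.monoLift (Subobject.ofLE x z hxz) (Subobject.ofLE y z hyz) h) ?_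
  rw [← Subobject.ofLE_arrow hxz, Abelian.monoLift_comp_assoc, Subobject.ofLE_arrow]

/-- if `y ⟶ z ⟶ z / x` is an epimorphism then `x ⊔ y = z`. -/
theorem sup_eq_of_epi {x y z : Subobject E} (hxz : x ≤ z) (hyz : y ≤ z)
    (h : Epi (Subobject.ofLE y z hyz ≫ cokernel.π (Subobject.ofLE x z hxz))) : x ⊔ y = z := by
  have hwz : x ⊔ y ≤ z := sup_le hxz hyz
  refine le_antisymm hwz ?_
  haveI : Epi (Subobject.ofLE (x ⊔ y) z hwz) := by
    refine Preadditive.epi_of_cancel_zero _ fun {T} g hg => ?_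
    have h1 : Subobject.ofLE x z hxz ≫ g = 0 := by
      rw [← Subobject.ofLE_comp_ofLE x (x ⊔ y) z le_sup_left hwz, Category.assoc, hg, comp_zero]
    have h2 : Subobject.ofLE y z hyz ≫ g = 0 := by
      rw [← Subobject.ofLE_comp_ofLE y (x ⊔ y) z le_sup_right hwz, Category.assoc, hg, comp_zero]
    have h3 : cokernel.desc _ g h1 = 0 := by
      rw [← cancel_epi (Subobject.ofLE y z hyz ≫ cokernel.π (Subobject.ofLE x z hxz)), Category.assoc,
        cokernel.π_desc, h2, comp_zero]
    rw [← cokernel.π_desc _ g h1, h3, comp_zero]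
  haveI : IsIso (Subobject.ofLE (x ⊔ y) z hwz) := isIso_of_mono_of_epi _
  exact Subobject.le_of_comm (inv (Subobject.ofLE (x ⊔ y) z hwz)) (by
    rw [IsIso.inv_comp_eq, Subobject.ofLE_arrow])

/-- a morphism out of `x ⊔ y` vanishing on `x` and on `y` vanishes. -/
theorem eq_zero_of_sup {x y : Subobject E} {T : C} (φ : ((x ⊔ y : Subobject E) : C) ⟶ T)
    (h1 : Subobject.ofLE x (x ⊔ y) le_sup_left ≫ φ = 0)
    (h2 : Subobject.ofLE y (x ⊔ y) le_sup_right ≫ φ = 0) : φ = 0 := by
  have hx : x ≤ Subobject.mk (kernel.ι φ ≫ (x ⊔ y).arrow) :=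
    Subobject.le_mk_of_comm (kernel.lift φ _ h1) (by rw [kernel.lift_ι_assoc, Subobject.ofLE_arrow])
  have hy : y ≤ Subobject.mk (kernel.ι φ ≫ (x ⊔ y).arrow) :=
    Subobject.le_mk_of_comm (kernel.lift φ _ h2) (by rw [kernel.lift_ι_assoc, Subobject.ofLE_arrow])
  have hle := sup_le hx hy
  have h3 : Subobject.ofLEMk (x ⊔ y) (kernel.ι φ ≫ (x ⊔ y).arrow) hle ≫ kernel.ι φ = 𝟙 _ := by
    rw [← cancel_mono (x ⊔ y).arrow, Category.assoc, Subobject.ofLEMk_comp, Category.id_comp]
  calc φ = (Subobject.ofLEMk (x ⊔ y) (kernel.ι φ ≫ (x ⊔ y).arrow) hle ≫ kernel.ι φ) ≫ φ := by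
        rw [h3, Category.id_comp]
    _ = 0 := by rw [Category.assoc, kernel.condition, comp_zero]

section secondIso

variable (x y : Subobject E)

/-- the map `y ⟶ (x ⊔ y) / x`. -/
noncomputable def toSupQuot : (y : C) ⟶ cokernel (Subobject.ofLE x (x ⊔ y) le_sup_left) :=
  Subobject.ofLE y (x ⊔ y) le_sup_right ≫ cokernel.π _

instance : Epi (toSupQuot x y) := by
  refine Preadditive.epi_of_cancel_zero _ fun {T} g hg => ?_
  have : cokernel.π (Subobject.ofLE x (x ⊔ y) le_sup_left) ≫ g = 0 := by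
    refine eq_zero_of_sup _ ?_ ?_
    · rw [cokernel.condition_assoc, zero_comp]
    · rw [← Category.assoc]
      exact hg
  rw [← cancel_epi (cokernel.π (Subobject.ofLE x (x ⊔ y) le_sup_left)), this, comp_zero]

theorem inf_toSupQuot : Subobject.ofLE (x ⊓ y) y inf_le_right ≫ toSupQuot x y = 0 := by
  unfold toSupQuot
  have : Subobject.ofLE (x ⊓ y) y inf_le_right ≫ Subobject.ofLE y (x ⊔ y) le_sup_right =
      Subobject.ofLE (x ⊓ y) x inf_le_left ≫ Subobject.ofLE x (x ⊔ y) le_sup_left := by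
    rw [Subobject.ofLE_comp_ofLE, Subobject.ofLE_comp_ofLE]
  rw [← Category.assoc, this, Category.assoc, cokernel.condition, comp_zero]

theorem factors_of_toSupQuot_eq_zero {T : C} (t : T ⟶ (y : C)) (ht : t ≫ toSupQuot x y = 0) :
    (x ⊓ y).Factors (t ≫ y.arrow) := by
  rw [Subobject.inf_factors]
  refine ⟨?_, Subobject.factors_comp_arrow t⟩
  have ht' : (t ≫ Subobject.ofLE y (x ⊔ y) le_sup_right) ≫
      cokernel.π (Subobject.ofLE x (x ⊔ y) le_sup_left) = 0 := by
    rw [Category.assoc]
    exact ht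
  have : t ≫ y.arrow = Abelian.monoLift (Subobject.ofLE x (x ⊔ y) le_sup_left) _ ht' ≫ x.arrow := by
    rw [← Subobject.ofLE_arrow (le_sup_left : x ≤ x ⊔ y), Abelian.monoLift_comp_assoc, Category.assoc,
      Subobject.ofLE_arrow]
  rw [this]
  exact Subobject.factors_comp_arrow _

/-- `x ⊓ y` is the kernel of `y ⟶ (x ⊔ y) / x`. -/
noncomputable def isLimitInf :
    IsLimit (KernelFork.ofι (Subobject.ofLE (x ⊓ y) y inf_le_right) (inf_toSupQuot x y)) := by
  refine KernelFork.IsLimit.ofι _ _
    (fun {T} t ht => Subobject.factorThru (x ⊓ y) (t ≫ y.arrow) (factors_of_toSupQuot_eq_zero x y t ht))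
    (fun {T} t ht => ?_) (fun {T} t ht m hm => ?_)
  · rw [← cancel_mono y.arrow, Category.assoc, Subobject.ofLE_arrow, Subobject.factorThru_arrow]
  · rw [← cancel_mono (Subobject.ofLE (x ⊓ y) y inf_le_right), hm, ← cancel_mono y.arrow, Category.assoc,
      Subobject.ofLE_arrow, Subobject.factorThru_arrow]

/-- the second isomorphism theorem: `y / (x ⊓ y) ≅ (x ⊔ y) / x`. -/
noncomputable def secondIso :
    cokernel (Subobject.ofLE (x ⊓ y) y inf_le_right) ≅ cokernel (Subobject.ofLE x (x ⊔ y) le_sup_left) :=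
  IsColimit.coconePointUniqueUpToIso (colimit.isColimit _)
    (Abelian.epiIsCokernelOfKernel (f := toSupQuot x y) _ (isLimitInf x y))

end secondIso

/-- the quotient only depends on the two subobjects. -/
noncomputable def cokernelIsoOfEq {a a' b b' : Subobject E} (ha : a = a') (hb : b = b') (h : a ≤ b)
    (h' : a' ≤ b') : cokernel (Subobject.ofLE a b h) ≅ cokernel (Subobject.ofLE a' b' h') := by
  subst ha hb
  exact Iso.refl _

/-- a total version of the quotient `y / x`. -/
noncomputable def quot (x y : Subobject E) : C := cokernel (Subobject.ofLE (x ⊓ y) y inf_le_right)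

noncomputable def quotIso {x y : Subobject E} (h : x ≤ y) : quot x y ≅ cokernel (Subobject.ofLE x y h) :=
  cokernelIsoOfEq (inf_eq_left.2 h) rfl _ _

/-- the hypotheses on the two predicates. -/
structure Hyp (E : C) (Good : Subobject E → Prop) (Fac : C → Prop) : Prop where
  iso : ∀ {A B : C}, (A ≅ B) → Fac A → Fac B
  nz : ∀ {A : C}, Fac A → ¬ IsZero A
  epi : ∀ (x y z : Subobject E) (hxz : x ≤ z) (hyz : y ≤ z), Good x → Good y → Good z →
    Fac (cokernel (Subobject.ofLE x z hxz)) → ¬ y ≤ x →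
      Epi (Subobject.ofLE y z hyz ≫ cokernel.π (Subobject.ofLE x z hxz))
  sub : ∀ (w x : Subobject E) (h : w ≤ x), Good x → Fac (cokernel (Subobject.ofLE w x h)) → Good w
  top : Good ⊤

variable {Good : Subobject E → Prop} {Fac : C → Prop}

/-- `x` is maximal in `y`: both are good and the quotient is simple. -/
def IsMax (Good : Subobject E → Prop) (Fac : C → Prop) (x y : Subobject E) : Prop :=
  ∃ h : x ≤ y, Good x ∧ Good y ∧ Fac (cokernel (Subobject.ofLE x y h))

theorem IsMax.lt (H : Hyp E Good Fac) {x y : Subobject E} (h : IsMax Good Fac x y) : x < y := by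
  obtain ⟨hle, -, -, hF⟩ := h
  refine lt_of_le_of_ne hle fun heq => ?_
  subst heq
  refine H.nz hF ?_
  haveI : IsIso (Subobject.ofLE x x hle) := by
    rw [Subobject.ofLE_refl]
    infer_instance
  exact isZero_cokernel_of_epi _

theorem IsMax.sup_eq_aux (H : Hyp E Good Fac) {x y z : Subobject E} (hx : IsMax Good Fac x z)
    (hy : IsMax Good Fac y z) (hne : ¬ y ≤ x) : x ⊔ y = z := by
  obtain ⟨hxz, gx, gz, fx⟩ := hx
  obtain ⟨hyz, gy, -, -⟩ := hy
  exact sup_eq_of_epi hxz hyz (H.epi x y z hxz hyz gx gy gz fx hne)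

theorem IsMax.sup_eq (H : Hyp E Good Fac) {x y z : Subobject E} (hx : IsMax Good Fac x z)
    (hy : IsMax Good Fac y z) (hne : x ≠ y) : x ⊔ y = z := by
  by_cases h : y ≤ x
  · have h' : ¬ x ≤ y := fun h' => hne (le_antisymm h' h)
    rw [sup_comm]
    exact IsMax.sup_eq_aux H hy hx h'
  · exact IsMax.sup_eq_aux H hx hy h

theorem IsMax.inf_left (H : Hyp E Good Fac) {x y : Subobject E} (hx : IsMax Good Fac x (x ⊔ y))
    (hy : IsMax Good Fac y (x ⊔ y)) : IsMax Good Fac (x ⊓ y) x := by
  obtain ⟨-, gx, -, -⟩ := hx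
  obtain ⟨hyz, gy, -, fy⟩ := hy
  have hF : Fac (cokernel (Subobject.ofLE (x ⊓ y) x inf_le_left)) := by
    refine H.iso ?_ fy
    exact (cokernelIsoOfEq rfl (sup_comm x y) hyz le_sup_left).trans
      ((secondIso y x).symm.trans (cokernelIsoOfEq (inf_comm y x) rfl _ _))
  exact ⟨inf_le_left, H.sub _ _ inf_le_left gx hF, gx, hF⟩

/-- the Jordan–Hölder lattice structure on the subobjects of `E`. -/
@[reducible]
noncomputable def jhLattice (H : Hyp E Good Fac) : JordanHolderLattice (Subobject E) where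
  IsMaximal := IsMax Good Fac
  lt_of_isMaximal := IsMax.lt H
  sup_eq_of_isMaximal := IsMax.sup_eq H
  isMaximal_inf_left_of_isMaximal_sup := IsMax.inf_left H

theorem nonempty_quot_iso_of_iso (H : Hyp E Good Fac) {p q : Subobject E × Subobject E}
    (h : @JordanHolderLattice.Iso _ _ (jhLattice H) p q) : Nonempty (quot p.1 p.2 ≅ quot q.1 q.2) := by
  letI := jhLattice H
  refine JordanHolderLattice.Iso.rel (X := Subobject E)
    (fun p q => Nonempty (quot p.1 p.2 ≅ quot q.1 q.2)) ⟨Iso.refl _⟩ (fun ⟨e⟩ => ⟨e.symm⟩)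
    (fun ⟨e⟩ ⟨e'⟩ => ⟨e.trans e'⟩) ?_ h
  intro x y _
  exact ⟨(quotIso le_sup_left).trans ((secondIso x y).symm.trans (quotIso inf_le_right).symm)⟩

/-- all terms of a chain ending at `⊤` with simple factors are good. -/
theorem good_of_chain (H : Hyp E Good Fac) (s : LTSeries (Subobject E)) (hs1 : s.last = ⊤)
    (hsF : ∀ i, Fac (factor s i)) (i : Fin (s.length + 1)) : Good (s i) := by
  induction i using Fin.reverseInduction with
  | last =>
    have : s (Fin.last s.length) = ⊤ := hs1
    rw [this]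
    exact H.top
  | cast j ih => exact H.sub _ _ (le_of_lt (s.step j)) ih (hsF j)

/-- **Jordan–Hölder**: two chains from `⊥` to `⊤` with simple factors have isomorphic graded objects. -/
theorem jh_unique (H : Hyp E Good Fac) (s t : LTSeries (Subobject E))
    (hs0 : s.head = ⊥) (hs1 : s.last = ⊤) (hsF : ∀ i, Fac (factor s i))
    (ht0 : t.head = ⊥) (ht1 : t.last = ⊤) (htF : ∀ i, Fac (factor t i)) :
    s.length = t.length ∧ Nonempty (grObj s ≅ grObj t) := by
  letI := jhLattice H
  let cs : CompositionSeries (Subobject E) :=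
    { length := s.length
      toFun := s.toFun
      step := fun i => ⟨le_of_lt (s.step i), good_of_chain H s hs1 hsF _, good_of_chain H s hs1 hsF _, hsF i⟩ }
  let ct : CompositionSeries (Subobject E) :=
    { length := t.length
      toFun := t.toFun
      step := fun i => ⟨le_of_lt (t.step i), good_of_chain H t ht1 htF _, good_of_chain H t ht1 htF _, htF i⟩ }
  obtain ⟨f, hf⟩ := CompositionSeries.jordan_holder cs ct (hs0.trans ht0.symm) (hs1.trans ht1.symm)
  have hiso : ∀ i : Fin s.length, Nonempty (factor t (f i) ≅ factor s i) := by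
    intro i
    obtain ⟨e⟩ := nonempty_quot_iso_of_iso H (hf i)
    exact ⟨((quotIso (le_of_lt (t.step (f i)))).symm.trans (e.symm.trans
      (quotIso (le_of_lt (s.step i)))) : _)⟩
  refine ⟨Fin.equiv_iff_eq.1 ⟨f⟩, ?_⟩
  exact ⟨Sigma.whiskerEquiv f (fun i => (hiso i).some)⟩

end Groth.Agent.Lib.T2H6.JHLattice
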