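import Mathlib
import Groth.Prelude
import Groth.Agent.Lib.T2H6HilbPolyM
import Groth.Agent.Lib.T2H6JHLattice

/-!
# Uniqueness of the graded object of a Jordan–Hölder filtration of a semistable sheaf
-/

universe u

open CategoryTheory TopCat TopologicalSpace Opposite AlgebraicGeometry Limits Polynomial StabCat ZeroObject

namespace Groth.Agent.Lib.T2H6.HilbPolyN

open Groth.Agent.Lib.T2H6.HilbPolyA Groth.Agent.Lib.T2H6.HilbPolyB Groth.Agent.Lib.T2H6.HilbPolyC
  Groth.Agent.Lib.T2H6.HilbPolyD Groth.Agent.Lib.T2H6.HilbPolyE Groth.Agent.Lib.T2H6.HilbPolyK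
  Groth.Agent.Lib.T2H6.HilbPolyL Groth.Agent.Lib.T2H6.HilbPolyM Groth.Agent.Lib.T2H5.FiltCat
  Groth.Agent.Lib.T2H6.FiltExt Groth.Agent.Lib.T2H6.JHLattice

theorem redEq_sub {d : ℕ} {P₁ P₂ Q : ℚ[X]} (h1 : RedEq d P₁ Q) (h2 : RedEq d P₂ Q) :
    RedEq d (P₁ - P₂) Q := by
  unfold RedEq at h1 h2 ⊢
  have : alpha d (P₁ - P₂) = alpha d P₁ - alpha d P₂ := by
    unfold alpha
    rw [coeff_sub]
    ring
  rw [smul_sub, h1, h2, this, sub_smul]

variable {X : Scheme.{u}} (k : Type u) [Field k] [X.Over (Spec (CommRingCat.of k))]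
  [IsProper (X ↘ Spec (CommRingCat.of k))] (L : X.Modules) (hL : CohB1.IsAmple L)

/-- the condition on the terms of a Jordan–Hölder filtration. -/
def Good (d : ℕ) (pE : ℚ[X]) {E : X.Modules} (x : Subobject E) : Prop :=
  Coh.IsCoh (x : X.Modules) ∧ RedEq d (hilb k L (x : X.Modules)) pE

include k in
theorem fac_of_iso {d : ℕ} {pE : ℚ[X]} {A B : X.Modules} (e : A ≅ B) (h : Fac k L d pE A) :
    Fac k L d pE B :=
  ⟨isStable_of_iso k L e h.1, fun p hp => h.2 p (isHilbPoly_of_iso k L e.symm p hp)⟩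

/-- a monomorphism is the kernel of its cokernel. -/
noncomputable def isoKernelCokernel {A B : X.Modules} (f : A ⟶ B) [Mono f] : A ≅ kernel (cokernel.π f) :=
  IsLimit.conePointUniqueUpToIso (Abelian.monoIsKernelOfCokernel _ (colimit.isColimit (parallelPair f 0)))
    (limit.isLimit _)

include hL in
theorem hyp (d : ℕ) (E : X.Modules) (hE : ShStab.IsSemistable k X L E d) :
    Hyp E (Good k L d (hilb k L E)) (Fac k L d (hilb k L E)) := by
  haveI := isLocallyNoetherian (X := X) k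
  have cE := hE.1
  have hpE := isHilbPoly_hilb k L hL.1 E cE
  have aE : 0 < alpha d (hilb k L E) := alpha_pos_of_isSemistable k L hL hE _ hpE
  refine ⟨fun e h => fac_of_iso k L e h, fun h => h.1.2.1, ?_, ?_, ?_⟩
  · intro x y z hxz hyz gx gy gz fx hne
    have hg : Subobject.ofLE y z hyz ≫ cokernel.π (Subobject.ofLE x z hxz) ≠ 0 :=
      fun h => hne (le_of_toQuot_eq_zero hxz hyz h)
    have hY0 : ¬ IsZero (y : X.Modules) := fun hz => hg (hz.eq_of_src _ _)
    have hpY := isHilbPoly_hilb k L hL.1 _ gy.1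
    have ssY := sub_isSemistable_of_redEq k L hL hE y.arrow gy.1 hY0 _ _ hpY hpE gy.2
    have hpQ := isHilbPoly_hilb k L hL.1 _ fx.1.1
    exact epi_of_stable k L hL ssY fx.1 _ _ hpY hpQ
      (redEq_trans' aE.ne' gy.2 (fx.2 _ hpQ)) _ hg
  · intro w x h gx fw
    have cQ := fw.1.1
    have cW : Coh.IsCoh (w : X.Modules) :=
      Groth.Agent.Lib.T2H5.Devissage.isCoh_of_iso (isoKernelCokernel (Subobject.ofLE w x h)).symm
        (Groth.Agent.Lib.T2H5.GenIsoB.isCoh_kernel _ gx.1 cQ)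
    refine ⟨cW, ?_⟩
    have hpW := isHilbPoly_hilb k L hL.1 _ cW
    have hpX := isHilbPoly_hilb k L hL.1 _ gx.1
    have hpQ := isHilbPoly_hilb k L hL.1 _ cQ
    have hadd := hilb_add_cokernel k L hL cW gx.1 (Subobject.ofLE w x h) _ _ _ hpW hpX hpQ
    have : hilb k L (w : X.Modules) = hilb k L (x : X.Modules) -
        hilb k L (cokernel (Subobject.ofLE w x h)) := by
      rw [hadd]; ring
    rw [this]
    exact redEq_sub gx.2 (fw.2 _ hpQ)
  · have e : ((⊤ : Subobject E) : X.Modules) ≅ E := asIso (⊤ : Subobject E).arrow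
    have cT : Coh.IsCoh ((⊤ : Subobject E) : X.Modules) :=
      Groth.Agent.Lib.T2H5.Devissage.isCoh_of_iso e.symm cE
    refine ⟨cT, ?_⟩
    rw [isHilbPoly_unique k L E _ _ (isHilbPoly_of_iso k L e _ (isHilbPoly_hilb k L hL.1 _ cT)) hpE]
    exact redEq_refl d _

include hL in
/-- the graded object of a Jordan–Hölder filtration is unique up to isomorphism. -/
theorem grObj_unique (d : ℕ) (E : X.Modules) (hE : ShStab.IsSemistable k X L E d)
    (s t : LTSeries (Subobject E)) (hs : ShStab.IsJHFiltration k X L E d s)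
    (ht : ShStab.IsJHFiltration k X L E d t) :
    s.length = t.length ∧ Nonempty (StabCat.grObj s ≅ StabCat.grObj t) := by
  have hpE := isHilbPoly_hilb k L hL.1 E hE.1
  obtain ⟨hs0, hs1, hsF⟩ := hs
  obtain ⟨ht0, ht1, htF⟩ := ht
  exact jh_unique (hyp k L hL d E hE) s t hs0 hs1
    (fun i => ⟨(hsF i).1, fun p hp => (hsF i).2 p _ hp hpE⟩) ht0 ht1
    (fun i => ⟨(htF i).1, fun p hp => (htF i).2 p _ hp hpE⟩)

end Groth.Agent.Lib.T2H6.HilbPolyN
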