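import Mathlib
import Groth.Prelude.Def_StabCat
import Groth.Agent.Lib.T2H6HilbPolyA
import Groth.Agent.Lib.T2H6HilbPolyD

/-!
# Harder–Narasimhan theory in a lattice with a polynomial-valued modular function

`Data Λ d`: a lattice `Λ` with least and greatest elements, the ascending chain condition, and a function
`P : Λ → ℚ[X]` which is modular, increasing (for the eventual order) and whose multiplicities
`alpha d (P x)` are integers, increasing in `x`.  For `x ≤ y` the "Hilbert polynomial of `y / x`" is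
`D x y = P y - P x`.  `Sat a`: every `y > a` has bigger multiplicity ("`⊤ / a` is pure").

* `exists_maxDestab`: the maximal destabilising element relative to a saturated `a ≠ ⊤`.
* `exists_hn`: existence of Harder–Narasimhan chains from a saturated element to the top.
* `hn_unique`: uniqueness of Harder–Narasimhan chains.
-/

open Polynomial StabCat

namespace Groth.Agent.Lib.T2H6.LatHN

open Groth.Agent.Lib.T2H6.HilbPolyA Groth.Agent.Lib.T2H6.HilbPolyD

section poly

variable {d : ℕ} {P Q R : ℚ[X]}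

theorem polyLE_or_polyLT (A B : ℚ[X]) : PolyLE A B ∨ PolyLT B A := by
  by_cases hR : B - A = 0
  · left
    have : A = B := (sub_eq_zero.1 hR).symm
    rw [this]
    exact ⟨0, fun _ _ => le_refl _⟩
  · have h0 : ∀ i, (B - A).natDegree < i → (B - A).coeff i = 0 :=
      fun i hi => coeff_eq_zero_of_natDegree_lt hi
    have hlc : (B - A).coeff (B - A).natDegree ≠ 0 := by
      rw [coeff_natDegree]
      exact leadingCoeff_ne_zero.2 hR
    rcases lt_or_gt_of_ne hlc with hneg | hpos
    · right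
      obtain ⟨N, hN⟩ := eventually_pos (-(B - A)) (B - A).natDegree
        (by intro i hi; rw [coeff_neg, h0 i hi, neg_zero]) (by rw [coeff_neg]; linarith)
      refine ⟨N, fun m hm => ?_⟩
      have h1 := hN m hm
      rw [eval_neg, eval_sub] at h1
      linarith
    · left
      obtain ⟨N, hN⟩ := eventually_pos (B - A) _ h0 hpos
      exact ⟨N, fun m hm => by have := hN m hm; rw [eval_sub] at this; linarith⟩

theorem redLE_or_redLT (d : ℕ) (P Q : ℚ[X]) : RedLE d P Q ∨ RedLT d Q P :=
  polyLE_or_polyLT _ _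

theorem not_redLT_of_redLE (h : RedLE d P Q) : ¬ RedLT d Q P := by
  rintro ⟨N, hN⟩
  obtain ⟨N', hN'⟩ := h
  have h1 := hN (max N N') (le_max_left _ _)
  have h2 := hN' (max N N') (le_max_right _ _)
  exact lt_irrefl _ (lt_of_lt_of_le h1 h2)

theorem redLT_of_redLE_of_not_redEq (h : RedLE d P Q) (hne : ¬ RedEq d P Q) : RedLT d P Q := by
  rcases redLE_or_redLT d Q P with h' | h'
  · exact absurd (redEq_of_redLE_of_redLE h h') hne
  · exact h'

theorem redLE_of_not_redLT (h : ¬ RedLT d Q P) : RedLE d P Q := by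
  rcases redLE_or_redLT d P Q with h' | h'
  · exact h'
  · exact absurd h' h

/-- see-saw: `p(F) < p(K)` implies `p(I) < p(K)`. -/
theorem seesaw_quot_lt_sub {PK PI PF : ℚ[X]} (h : PF = PK + PI) (hlt : RedLT d PF PK) :
    RedLT d PI PK := by
  obtain ⟨N, hN⟩ := hlt
  refine ⟨N, fun m hm => ?_⟩
  have e1 := hN m hm
  have ha : alpha d PF = alpha d PK + alpha d PI := by rw [h, alpha_add]
  simp only [eval_smul, smul_eq_mul] at e1 ⊢
  have hv : PF.eval (m : ℚ) = PK.eval (m : ℚ) + PI.eval (m : ℚ) := by rw [h, eval_add]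
  rw [ha, hv] at e1
  nlinarith

theorem alpha_sub (d : ℕ) (P Q : ℚ[X]) : alpha d (P - Q) = alpha d P - alpha d Q := by
  unfold alpha; rw [coeff_sub]; ring

theorem not_redLT_zero (h : RedLT d P 0) : False := by
  obtain ⟨N, hN⟩ := h
  have := hN N le_rfl
  simp [alpha] at this

end poly

/-- the data of a lattice with a polynomial-valued modular function. -/
structure Data (Λ : Type*) [Lattice Λ] (d : ℕ) where
  P : Λ → ℚ[X]
  top : Λ
  le_top : ∀ x, x ≤ top
  mod : ∀ x y, P (x ⊔ y) + P (x ⊓ y) = P x + P y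
  le : ∀ x y, x ≤ y → PolyLE (P x) (P y)
  int : ∀ x, ∃ z : ℤ, alpha d (P x) = z
  mono : ∀ x y, x ≤ y → alpha d (P x) ≤ alpha d (P y)
  acc : ∀ S : Set Λ, S.Nonempty → ∃ m ∈ S, ∀ x ∈ S, m ≤ x → x = m

variable {Λ : Type*} [Lattice Λ] {d : ℕ} (A : Data Λ d)

/-- the polynomial of the interval `[x, y]`. -/
noncomputable def Data.D (x y : Λ) : ℚ[X] := A.P y - A.P x

/-- `a` is saturated: every bigger element has bigger multiplicity. -/
def Data.Sat (a : Λ) : Prop := ∀ y, a < y → alpha d (A.P a) < alpha d (A.P y)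

theorem D_add (x y z : Λ) : A.D x z = A.D x y + A.D y z := by
  unfold Data.D; ring

theorem D_self (x : Λ) : A.D x x = 0 := by
  unfold Data.D; ring

theorem alpha_D (x y : Λ) : alpha d (A.D x y) = alpha d (A.P y) - alpha d (A.P x) := alpha_sub d _ _

theorem alpha_D_nonneg {x y : Λ} (h : x ≤ y) : 0 ≤ alpha d (A.D x y) := by
  rw [alpha_D]; linarith [A.mono x y h]

theorem alpha_D_pos {a y : Λ} (ha : A.Sat a) (h : a < y) : 0 < alpha d (A.D a y) := by
  rw [alpha_D]; linarith [ha y h]

theorem D_mod (x y : Λ) : A.D (x ⊓ y) y = A.D x (x ⊔ y) := by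
  unfold Data.D
  have := A.mod x y
  linear_combination -this

section maxDestab

variable {A} {a : Λ}

/-- `≼`-maximal elements above `a`. -/
def PMax (A : Data Λ d) (a y : Λ) : Prop :=
  a < y ∧ ∀ z, y ≤ z → RedLE d (A.D a y) (A.D a z) → z = y

theorem rle_trans (ha : A.Sat a) {x y z : Λ} (hx : a < x) (hy : a < y) (hz : a < z)
    (h1 : RedLE d (A.D a x) (A.D a y)) (h2 : RedLE d (A.D a y) (A.D a z)) :
    RedLE d (A.D a x) (A.D a z) :=
  redLE_trans (alpha_D_pos A ha hx).le (alpha_D_pos A ha hy) (alpha_D_pos A ha hz).le h1 h2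

theorem rlt_of_lt_of_le (ha : A.Sat a) {x y z : Λ} (hx : a < x) (hy : a < y) (hz : a < z)
    (h1 : RedLT d (A.D a x) (A.D a y)) (h2 : RedLE d (A.D a y) (A.D a z)) :
    RedLT d (A.D a x) (A.D a z) :=
  redLT_of_redLT_of_redLE (alpha_D_pos A ha hx).le (alpha_D_pos A ha hy) (alpha_D_pos A ha hz) h1 h2

theorem rlt_of_le_of_lt (ha : A.Sat a) {x y z : Λ} (hx : a < x) (hy : a < y) (hz : a < z)
    (h1 : RedLE d (A.D a x) (A.D a y)) (h2 : RedLT d (A.D a y) (A.D a z)) :
    RedLT d (A.D a x) (A.D a z) :=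
  redLT_of_redLE_of_redLT (alpha_D_pos A ha hx) (alpha_D_pos A ha hy) (alpha_D_pos A ha hz).le h1 h2

/-- above any `y > a` and below `u` there is an element which is `≼`-maximal in `[a, u]`. -/
theorem exists_pmax_ge (ha : A.Sat a) {y : Λ} (hy : a < y) (u : Λ) (hyu : y ≤ u) :
    ∃ z, y ≤ z ∧ z ≤ u ∧ RedLE d (A.D a y) (A.D a z) ∧
      ∀ w, z ≤ w → w ≤ u → RedLE d (A.D a z) (A.D a w) → w = z := by
  obtain ⟨m, ⟨hym, hmu, hle⟩, hmax⟩ := A.acc {z | y ≤ z ∧ z ≤ u ∧ RedLE d (A.D a y) (A.D a z)}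
    ⟨y, le_refl y, hyu, redLE_refl d _⟩
  refine ⟨m, hym, hmu, hle, fun w hmw hwu hw => ?_⟩
  have ham : a < m := lt_of_lt_of_le hy hym
  exact hmax w ⟨hym.trans hmw, hwu, rle_trans ha hy ham (lt_of_lt_of_le ham hmw) hle hw⟩ hmw

theorem lt_inf_of_pmax (ha : A.Sat a) {F G : Λ} (hF : PMax A a F) (hG : a < G) (hGF : ¬ G ≤ F)
    (hle : RedLE d (A.D a F) (A.D a G)) :
    a < F ⊓ G ∧ RedLT d (A.D a G) (A.D a (F ⊓ G)) := by
  have hFW : F < F ⊔ G :=
    lt_of_le_of_ne le_sup_left (fun h => hGF (by rw [h]; exact le_sup_right))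
  have h1 : RedLT d (A.D a (F ⊔ G)) (A.D a F) := by
    rcases redLE_or_redLT d (A.D a F) (A.D a (F ⊔ G)) with h | h
    · exact absurd (hF.2 _ le_sup_left h) (ne_of_gt hFW)
    · exact h
  have hQ : A.D (F ⊓ G) G = A.D F (F ⊔ G) := D_mod A F G
  have h2 : RedLT d (A.D F (F ⊔ G)) (A.D a F) := seesaw_quot_lt_sub (D_add A a F (F ⊔ G)) h1
  have h3 : RedLT d (A.D F (F ⊔ G)) (A.D a G) :=
    redLT_of_redLT_of_redLE (alpha_D_nonneg A le_sup_left) (alpha_D_pos A ha hF.1)
      (alpha_D_pos A ha hG) h2 hle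
  have haI : a ≤ F ⊓ G := le_inf hF.1.le hG.le
  have h4 : RedLT d (A.D a G) (A.D a (F ⊓ G)) :=
    seesaw_lt' (D_add A a (F ⊓ G) G) (by rw [hQ]; exact h3)
  refine ⟨lt_of_le_of_ne haI (fun heq => ?_), h4⟩
  rw [← heq, D_self] at h4
  exact not_redLT_zero h4

theorem no_bigger_sub (ha : A.Sat a) {F : Λ} (hF : PMax A a F)
    (hmin : ∀ F', PMax A a F' → alpha d (A.D a F) ≤ alpha d (A.D a F')) :
    ¬ ∃ G, a < G ∧ G ≤ F ∧ RedLT d (A.D a F) (A.D a G) := by
  rintro ⟨G₀, haG₀, hG₀F, hlt₀⟩
  obtain ⟨G, hG₀G, hGF, hle₀, hGmax⟩ := exists_pmax_ge ha haG₀ F hG₀F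
  have haG : a < G := lt_of_lt_of_le haG₀ hG₀G
  have hlt : RedLT d (A.D a F) (A.D a G) := rlt_of_lt_of_le ha hF.1 haG₀ haG hlt₀ hle₀
  obtain ⟨G', hGG', -, hle', hG'max⟩ := exists_pmax_ge ha haG A.top (A.le_top G)
  have haG' : a < G' := lt_of_lt_of_le haG hGG'
  have hG'pmax : PMax A a G' := ⟨haG', fun z hz h => hG'max z hz (A.le_top z) h⟩
  have hlt' : RedLT d (A.D a F) (A.D a G') := rlt_of_lt_of_le ha hF.1 haG haG' hlt hle'
  by_cases hG'F : G' ≤ F
  · have hGG : G' = G := hGmax G' hGG' hG'F hle'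
    rw [hGG] at hG'pmax
    have h1 : alpha d (A.D a F) ≤ alpha d (A.D a G) := hmin G hG'pmax
    have h2 : alpha d (A.D a G) ≤ alpha d (A.D a F) := by
      rw [alpha_D, alpha_D]
      linarith [A.mono G F hGF]
    have heq : alpha d (A.D a G) = alpha d (A.D a F) := le_antisymm h2 h1
    have hpos := alpha_D_pos A ha hF.1
    rcases hGF.lt_or_eq with hlt2 | heq2
    · obtain ⟨N, hN⟩ := hlt
      obtain ⟨N', hN'⟩ := A.le G F hlt2.le
      have e1 := hN (max N N') (le_max_left _ _)
      have e2 := hN' (max N N') (le_max_right _ _)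
      simp only [eval_smul, smul_eq_mul] at e1
      rw [heq] at e1
      have e3 := lt_of_mul_lt_mul_left e1 hpos.le
      simp only [Data.D, eval_sub] at e3
      linarith
    · rw [heq2] at hlt
      exact not_redLT_self d _ hlt
  · obtain ⟨haI, h4⟩ := lt_inf_of_pmax ha hF haG' hG'F (redLE_of_redLT hlt')
    have h5 : RedLT d (A.D a G) (A.D a (F ⊓ G')) := rlt_of_le_of_lt ha haG haG' haI hle' h4
    have h6 : F ⊓ G' = G := hGmax _ (le_inf hGF hGG') inf_le_left (redLE_of_redLT h5)
    rw [h6] at h5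
    exact not_redLT_self d _ h5

/-- the maximal destabilising element relative to a saturated `a`. -/
theorem exists_maxDestab (ha : A.Sat a) (hne : a ≠ A.top) :
    ∃ F, a < F ∧ A.Sat F ∧ ∀ G, a < G →
      RedLE d (A.D a G) (A.D a F) ∧ (RedEq d (A.D a G) (A.D a F) → G ≤ F) := by
  classical
  have hatop : a < A.top := lt_of_le_of_ne (A.le_top a) hne
  -- the set of multiplicities of `≼`-maximal elements
  let S : Set ℕ := {n | ∃ F, PMax A a F ∧ alpha d (A.D a F) = (n : ℚ)}
  have hS : S.Nonempty := by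
    obtain ⟨z, hz1, -, -, hzmax⟩ := exists_pmax_ge ha hatop A.top le_rfl
    have haz : a < z := lt_of_lt_of_le hatop hz1
    obtain ⟨n1, hn1⟩ := A.int z
    obtain ⟨n2, hn2⟩ := A.int a
    have hpos := alpha_D_pos A ha haz
    rw [alpha_D, hn1, hn2] at hpos
    refine ⟨(n1 - n2).toNat, z, ⟨haz, fun w hw h => hzmax w hw (A.le_top w) h⟩, ?_⟩
    rw [alpha_D, hn1, hn2]
    have h0 : 0 ≤ n1 - n2 := by
      have : (0 : ℚ) < ((n1 - n2 : ℤ) : ℚ) := by push_cast; exact hpos
      exact_mod_cast this.le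
    have : ((n1 - n2).toNat : ℤ) = n1 - n2 := Int.toNat_of_nonneg h0
    exact_mod_cast this.symm
  obtain ⟨F, hF, hFn⟩ := Nat.sInf_mem hS
  have hmin : ∀ F', PMax A a F' → alpha d (A.D a F) ≤ alpha d (A.D a F') := by
    intro F' hF'
    obtain ⟨n1, hn1⟩ := A.int F'
    obtain ⟨n2, hn2⟩ := A.int a
    have hpos := alpha_D_pos A ha hF'.1
    have hval : alpha d (A.D a F') = ((n1 - n2 : ℤ) : ℚ) := by rw [alpha_D, hn1, hn2]; push_cast; ring
    have h0 : 0 ≤ n1 - n2 := by
      rw [hval] at hpos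
      exact_mod_cast hpos.le
    have hmem : (n1 - n2).toNat ∈ S := by
      refine ⟨F', hF', ?_⟩
      rw [hval]
      have : ((n1 - n2).toNat : ℤ) = n1 - n2 := Int.toNat_of_nonneg h0
      exact_mod_cast this.symm
    have hle := Nat.sInf_le hmem
    rw [hFn, hval]
    have : ((n1 - n2).toNat : ℤ) = n1 - n2 := Int.toNat_of_nonneg h0
    have h' : ((sInf S : ℕ) : ℤ) ≤ n1 - n2 := by rw [← this]; exact_mod_cast hle
    exact_mod_cast h'
  have hno := no_bigger_sub ha hF hmin
  have hmain : ∀ G, a < G → RedLE d (A.D a G) (A.D a F) ∧ (RedEq d (A.D a G) (A.D a F) → G ≤ F) := by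
    intro G hG
    constructor
    · apply redLE_of_not_redLT
      intro hlt
      by_cases hGF : G ≤ F
      · exact hno ⟨G, hG, hGF, hlt⟩
      · obtain ⟨haI, h4⟩ := lt_inf_of_pmax ha hF hG hGF (redLE_of_redLT hlt)
        exact hno ⟨F ⊓ G, haI, inf_le_left, redLT_of_redLT_of_redLE (alpha_D_pos A ha hF.1).le
          (alpha_D_pos A ha hG) (alpha_D_pos A ha haI) hlt (redLE_of_redLT h4)⟩
    · intro heq
      by_contra hGF
      obtain ⟨haI, h4⟩ := lt_inf_of_pmax ha hF hG hGF (redLE_of_redEq' heq)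
      exact hno ⟨F ⊓ G, haI, inf_le_left, rlt_of_le_of_lt ha hF.1 hG haI (redLE_of_redEq' heq) h4⟩
  refine ⟨F, hF.1, ?_, hmain⟩
  -- saturation
  intro y hy
  by_contra hcon
  have hle : alpha d (A.P F) ≤ alpha d (A.P y) := A.mono F y hy.le
  have heq : alpha d (A.P y) = alpha d (A.P F) := le_antisymm (not_lt.1 hcon) hle
  have hay : a < y := lt_trans hF.1 hy
  have hle' : RedLE d (A.D a F) (A.D a y) := by
    obtain ⟨N, hN⟩ := A.le F y hy.le
    refine ⟨N, fun m hm => ?_⟩
    have e := hN m hm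
    have hpos := alpha_D_pos A ha hF.1
    simp only [eval_smul, smul_eq_mul]
    rw [alpha_D, alpha_D, heq]
    rw [alpha_D] at hpos
    apply mul_le_mul_of_nonneg_left _ hpos.le
    simp only [Data.D, eval_sub]
    linarith
  exact (ne_of_gt hy) (hF.2 y hy.le hle')

end maxDestab

section hn

variable {A}

/-- the interval `[a, b]` is semistable (and "pure"). -/
def SSInt (A : Data Λ d) (a b : Λ) : Prop :=
  ∀ y, a < y → y ≤ b → 0 < alpha d (A.D a y) ∧ RedLE d (A.D a y) (A.D a b)

/-- Harder–Narasimhan chains. -/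
def IsHN (A : Data Λ d) (s : LTSeries Λ) : Prop :=
  (∀ i : Fin s.length, SSInt A (s i.castSucc) (s i.succ)) ∧
    ∀ i j : Fin s.length, i.val + 1 = j.val →
      RedLT d (A.D (s j.castSucc) (s j.succ)) (A.D (s i.castSucc) (s i.succ))

/-- prepend an element to a chain. -/
def consSeries (t : LTSeries Λ) (a : Λ) (h : a < t.head) : LTSeries Λ :=
  LTSeries.mk (t.length + 1) (Fin.cons a t.toFun) (by
    rw [Fin.strictMono_iff_lt_succ]
    intro i
    induction i using Fin.cases with
    | zero => exact h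
    | succ j => exact t.step j)

theorem wf (A : Data Λ d) : WellFounded ((· > ·) : Λ → Λ → Prop) := by
  rw [WellFounded.wellFounded_iff_has_min]
  intro S hS
  obtain ⟨m, hm, hmax⟩ := A.acc S hS
  refine ⟨m, hm, fun x hx hgt => ?_⟩
  have hgt' : m < x := hgt
  have := hmax x hx (le_of_lt hgt')
  rw [this] at hgt'
  exact lt_irrefl _ hgt'

/-- existence of Harder–Narasimhan chains. -/
theorem exists_hn : ∀ a, A.Sat a → ∃ s : LTSeries Λ, s.head = a ∧ s.last = A.top ∧ IsHN A s := by
  intro a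
  refine (wf A).induction
    (C := fun a => A.Sat a → ∃ s : LTSeries Λ, s.head = a ∧ s.last = A.top ∧ IsHN A s) a ?_
  intro a ih ha
  by_cases hne : a = A.top
  · exact ⟨RelSeries.singleton _ a, rfl, hne, fun i => i.elim0, fun i => i.elim0⟩
  · obtain ⟨F, haF, hFsat, hF⟩ := exists_maxDestab ha hne
    obtain ⟨t, ht0, ht1, htHN⟩ := ih F haF hFsat
    have hlt : a < t.head := ht0 ▸ haF
    have hss : SSInt A a F := fun y hy hyF => ⟨alpha_D_pos A ha hy, (hF y hy).1⟩
    refine ⟨consSeries t a hlt, rfl, ht1, ?_, ?_⟩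
    · intro i
      induction i using Fin.cases with
      | zero =>
        change SSInt A a t.head
        rw [ht0]
        exact hss
      | succ j => exact htHN.1 j
    · intro i j hij
      induction j using Fin.cases with
      | zero => simp at hij
      | succ j' =>
        induction i using Fin.cases with
        | zero =>
          have hj' : j'.val = 0 := by simpa using hij.symm
          have hj0 : (j'.castSucc : Fin (t.length + 1)) = 0 := by
            ext; simpa using hj'
          change RedLT d (A.D (t j'.castSucc) (t j'.succ)) (A.D a t.head)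
          have ht0' : t j'.castSucc = F := by rw [hj0]; exact ht0
          rw [ht0', ht0]
          have hFt : F < t j'.succ := by rw [← ht0']; exact t.step j'
          have hat : a < t j'.succ := lt_trans haF hFt
          obtain ⟨h1, h2⟩ := hF _ hat
          have h3 : RedLT d (A.D a (t j'.succ)) (A.D a F) :=
            redLT_of_redLE_of_not_redEq h1 (fun heq => absurd (h2 heq) (not_le_of_gt hFt))
          exact seesaw_quot_lt_sub (D_add A a F (t j'.succ)) h3
        | succ i' =>
          exact htHN.2 i' j' (by simpa using hij)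

theorem alpha_pos_of_isHN {s : LTSeries Λ} (hs : IsHN A s) (i : Fin s.length) :
    0 < alpha d (A.D (s i.castSucc) (s i.succ)) :=
  (hs.1 i _ (s.step i) le_rfl).1

theorem rlt_of_isHN {s : LTSeries Λ} (hs : IsHN A s) :
    ∀ (n : ℕ) (i j : Fin s.length), i.val + 1 + n = j.val →
      RedLT d (A.D (s j.castSucc) (s j.succ)) (A.D (s i.castSucc) (s i.succ)) := by
  intro n
  induction n with
  | zero => intro i j hij; exact hs.2 i j (by simpa using hij)
  | succ n ih =>
    intro i j hij
    have hj : j.val - 1 < s.length := lt_of_le_of_lt (Nat.sub_le _ _) j.2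
    have h1 := ih i ⟨j.val - 1, hj⟩ (by simp; omega)
    have h2 := hs.2 ⟨j.val - 1, hj⟩ j (by simp; omega)
    exact redLT_of_redLT_of_redLE (alpha_pos_of_isHN hs j).le (alpha_pos_of_isHN hs _)
      (alpha_pos_of_isHN hs i) h2 (redLE_of_redLT h1)

/-- a semistable interval starting at `s i` with slope at least that of `[s i, s (i+1)]` lies below
`s (i+1)`. -/
theorem le_succ_of_ssInt {s : LTSeries Λ} (hs : IsHN A s) (hs1 : s.last = A.top) (i : Fin s.length)
    (y : Λ) (hy : s i.castSucc < y) (hss : SSInt A (s i.castSucc) y)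
    (hle : RedLE d (A.D (s i.castSucc) (s i.succ)) (A.D (s i.castSucc) y)) : y ≤ s i.succ := by
  classical
  by_contra hcon
  have hex : ∃ k : ℕ, ∃ hk : k < s.length + 1, y ≤ s ⟨k, hk⟩ :=
    ⟨s.length, Nat.lt_succ_self _, by
      have : s ⟨s.length, Nat.lt_succ_self _⟩ = A.top := hs1
      rw [this]; exact A.le_top y⟩
  obtain ⟨hk, hyk⟩ := Nat.find_spec hex
  set k := Nat.find hex with hkdef
  have hk2 : i.val + 2 ≤ k := by
    by_contra hlt
    apply hcon
    refine le_trans hyk (s.strictMono.monotone ?_)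
    rw [Fin.le_def]
    simp only [Fin.val_succ]
    omega
  have hjlt : k - 1 < s.length := by omega
  let jj : Fin s.length := ⟨k - 1, hjlt⟩
  have hu : ¬ y ≤ s jj.castSucc := by
    intro h
    have := Nat.find_min hex (m := k - 1) (by omega)
    exact this ⟨by omega, h⟩
  have hv : y ≤ s jj.succ := by
    have : jj.succ = ⟨k, hk⟩ := by ext; simp [jj]; omega
    rw [this]; exact hyk
  set a := s i.castSucc with hadef
  set b := s i.succ with hbdef
  set u := s jj.castSucc with hudef
  set v := s jj.succ with hvdef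
  have hbu : b ≤ u := s.strictMono.monotone (by
    rw [Fin.le_def]; simp only [Fin.val_succ, Fin.val_castSucc, jj]; omega)
  have hab : a < b := s.step i
  have hau : a ≤ u := hab.le.trans hbu
  have huw : u < u ⊔ y := lt_of_le_of_ne le_sup_left (fun h => hu (by rw [h]; exact le_sup_right))
  have hwv : u ⊔ y ≤ v := sup_le (s.step jj).le hv
  have hDm : A.D (u ⊓ y) y = A.D u (u ⊔ y) := D_mod A u y
  obtain ⟨hwpos, hwle⟩ := hs.1 jj (u ⊔ y) huw hwv
  have hrlt : RedLT d (A.D u v) (A.D a b) := rlt_of_isHN hs (k - 1 - (i.val + 1)) i jj (by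
    simp only [jj]; omega)
  have hypos : 0 < alpha d (A.D a y) := (hss y hy le_rfl).1
  have h1 : RedLT d (A.D u (u ⊔ y)) (A.D a b) :=
    redLT_of_redLE_of_redLT hwpos (alpha_pos_of_isHN hs jj) (alpha_pos_of_isHN hs i).le hwle hrlt
  have h2 : RedLT d (A.D u (u ⊔ y)) (A.D a y) :=
    redLT_of_redLT_of_redLE hwpos.le (alpha_pos_of_isHN hs i) hypos h1 hle
  have ham : a ≤ u ⊓ y := le_inf hau hy.le
  rcases ham.lt_or_eq with hlt | heq
  · have h3 : RedLE d (A.D a (u ⊓ y)) (A.D a y) := (hss _ hlt inf_le_right).2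
    have h4 : RedLE d (A.D a y) (A.D (u ⊓ y) y) := seesaw_le (D_add A a (u ⊓ y) y) h3
    rw [hDm] at h4
    exact not_redLT_of_redLE h4 h2
  · rw [← hDm, ← heq] at h2
    exact not_redLT_self d _ h2

theorem hn_unique_aux {s t : LTSeries Λ} (hs : IsHN A s) (ht : IsHN A t) (h0 : s.head = t.head)
    (hs1 : s.last = A.top) (ht1 : t.last = A.top) :
    ∀ (n : ℕ) (hn : n < s.length + 1) (hn' : n < t.length + 1), s ⟨n, hn⟩ = t ⟨n, hn'⟩ := by
  intro n
  induction n with
  | zero => intro _ _; exact h0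
  | succ n ih =>
    intro hn hn'
    let i : Fin s.length := ⟨n, by omega⟩
    let i' : Fin t.length := ⟨n, by omega⟩
    have hst : s i.castSucc = t i'.castSucc := ih _ _
    change s i.succ = t i'.succ
    have key : ∀ (hle : RedLE d (A.D (s i.castSucc) (s i.succ)) (A.D (s i.castSucc) (t i'.succ))),
        s i.succ = t i'.succ := by
      intro hle
      have h1 : t i'.succ ≤ s i.succ := by
        refine le_succ_of_ssInt hs hs1 i _ (by rw [hst]; exact t.step i') ?_ hle
        rw [hst]; exact ht.1 i'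
      have h2 : RedLE d (A.D (t i'.castSucc) (t i'.succ)) (A.D (t i'.castSucc) (s i.succ)) := by
        rw [← hst]
        exact (hs.1 i _ (by rw [hst]; exact t.step i') h1).2
      have h3 : s i.succ ≤ t i'.succ := by
        refine le_succ_of_ssInt ht ht1 i' _ (by rw [← hst]; exact s.step i) ?_ h2
        rw [← hst]; exact hs.1 i
      exact le_antisymm h3 h1
    rcases redLE_or_redLT d (A.D (s i.castSucc) (s i.succ)) (A.D (s i.castSucc) (t i'.succ)) with h | h
    · exact key h
    · -- symmetric case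
      have hle : RedLE d (A.D (t i'.castSucc) (t i'.succ)) (A.D (t i'.castSucc) (s i.succ)) := by
        rw [← hst]; exact redLE_of_redLT h
      have h1 : s i.succ ≤ t i'.succ := by
        refine le_succ_of_ssInt ht ht1 i' _ (by rw [← hst]; exact s.step i) ?_ hle
        rw [← hst]; exact hs.1 i
      have h2 : RedLE d (A.D (s i.castSucc) (s i.succ)) (A.D (s i.castSucc) (t i'.succ)) := by
        rw [hst]
        exact (ht.1 i' _ (by rw [← hst]; exact s.step i) h1).2
      exact key h2

/-- uniqueness of Harder–Narasimhan chains. -/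
theorem hn_unique {s t : LTSeries Λ} (hs : IsHN A s) (ht : IsHN A t) (h0 : s.head = t.head)
    (hs1 : s.last = A.top) (ht1 : t.last = A.top) : s = t := by
  have haux := hn_unique_aux hs ht h0 hs1 ht1
  have hlen : s.length = t.length := by
    rcases lt_trichotomy s.length t.length with h | h | h
    · exfalso
      have h1 := haux s.length (Nat.lt_succ_self _) (by omega)
      have h2 : s ⟨s.length, Nat.lt_succ_self _⟩ = A.top := hs1
      have h3 : t ⟨s.length, by omega⟩ < t ⟨t.length, Nat.lt_succ_self _⟩ :=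
        t.strictMono (by rw [Fin.lt_def]; exact h)
      have h4 : t ⟨t.length, Nat.lt_succ_self _⟩ = A.top := ht1
      rw [← h1, h2, h4] at h3
      exact lt_irrefl _ h3
    · exact h
    · exfalso
      have h1 := haux t.length (by omega) (Nat.lt_succ_self _)
      have h2 : t ⟨t.length, Nat.lt_succ_self _⟩ = A.top := ht1
      have h3 : s ⟨t.length, by omega⟩ < s ⟨s.length, Nat.lt_succ_self _⟩ :=
        s.strictMono (by rw [Fin.lt_def]; exact h)
      have h4 : s ⟨s.length, Nat.lt_succ_self _⟩ = A.top := hs1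
      rw [h1, h2, h4] at h3
      exact lt_irrefl _ h3
  refine RelSeries.ext hlen ?_
  funext i
  exact haux i.val i.2 (by omega)

end hn

end Groth.Agent.Lib.T2H6.LatHN
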