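import Mathlib
import Groth.Prelude
import Groth.Agent.Lib.T2H6HilbPolyN
import Groth.Agent.Lib.T2H6LatHN

/-!
# The lattice of coherent submodules of a coherent sheaf, with its Hilbert polynomial function

`cohSub E hE : Sublattice (Subobject E)` is the sublattice of coherent subobjects; `cohData` makes it a
`LatHN.Data` (modularity by the second isomorphism theorem, ascending chain condition, integrality of the
multiplicities).  This translates the abstract Harder–Narasimhan theory of `T2H6LatHN` to sheaves.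
-/

universe u

open CategoryTheory TopCat TopologicalSpace Opposite AlgebraicGeometry Limits Polynomial StabCat ZeroObject

namespace Groth.Agent.Lib.T2H6.HilbPolyO

open Groth.Agent.Lib.T2H6.HilbPolyA Groth.Agent.Lib.T2H6.HilbPolyB Groth.Agent.Lib.T2H6.HilbPolyC
  Groth.Agent.Lib.T2H6.HilbPolyD Groth.Agent.Lib.T2H6.HilbPolyE Groth.Agent.Lib.T2H6.HilbPolyK
  Groth.Agent.Lib.T2H6.HilbPolyL Groth.Agent.Lib.T2H6.HilbPolyM Groth.Agent.Lib.T2H6.HilbPolyN
  Groth.Agent.Lib.T2H5.FiltCat
  Groth.Agent.Lib.T2H6.FiltExt Groth.Agent.Lib.T2H6.JHLattice Groth.Agent.Lib.T2H6.LatHN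

variable {X : Scheme.{u}}

section coh

variable [IsLocallyNoetherian X] {E : X.Modules}

theorem isCoh_inf (hE : Coh.IsCoh E) {x y : Subobject E} (hx : Coh.IsCoh (x : X.Modules))
    (hy : Coh.IsCoh (y : X.Modules)) : Coh.IsCoh ((x ⊓ y : Subobject E) : X.Modules) := by
  have e : ((x ⊓ y : Subobject E) : X.Modules) ≅ pullback x.arrow y.arrow :=
    (Subobject.inf_isPullback x y).isoPullback
  exact Groth.Agent.Lib.T2H5.Devissage.isCoh_of_iso e.symm (isCoh_pullback_mod x.arrow y.arrow hx hE hy)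

theorem isCoh_sup (hE : Coh.IsCoh E) {x y : Subobject E} (hx : Coh.IsCoh (x : X.Modules))
    (hy : Coh.IsCoh (y : X.Modules)) : Coh.IsCoh ((x ⊔ y : Subobject E) : X.Modules) := by
  have cI := isCoh_inf hE hx hy
  have cQ : Coh.IsCoh (cokernel (Subobject.ofLE (x ⊓ y) y inf_le_right)) :=
    Groth.Agent.Lib.T2H5.GenIsoB.isCoh_cokernel _ cI hy
  have cQ' : Coh.IsCoh (cokernel (Subobject.ofLE x (x ⊔ y) le_sup_left)) :=
    Groth.Agent.Lib.T2H5.Devissage.isCoh_of_iso (secondIso x y) cQ
  exact Groth.Agent.Lib.T2H5.GenIsoA.isCoh_of_shortExact _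
    (shortExact_cokernel (Subobject.ofLE x (x ⊔ y) le_sup_left)) hx cQ'

/-- the sublattice of coherent subobjects. -/
def cohSub (E : X.Modules) (hE : Coh.IsCoh E) : Sublattice (Subobject E) where
  carrier := {x | Coh.IsCoh (x : X.Modules)}
  supClosed' := fun _ hx _ hy => isCoh_sup hE hx hy
  infClosed' := fun _ hx _ hy => isCoh_inf hE hx hy

theorem isCoh_top (hE : Coh.IsCoh E) : Coh.IsCoh ((⊤ : Subobject E) : X.Modules) :=
  Groth.Agent.Lib.T2H5.Devissage.isCoh_of_iso (asIso (⊤ : Subobject E).arrow).symm hE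

theorem isCoh_bot : Coh.IsCoh ((⊥ : Subobject E) : X.Modules) :=
  isCoh_of_isZero ((isZero_zero _).of_iso Subobject.botCoeIsoZero)

theorem isCoh_mk {G : X.Modules} (κ : G ⟶ E) [Mono κ] (hG : Coh.IsCoh G) :
    Coh.IsCoh ((Subobject.mk κ : Subobject E) : X.Modules) :=
  Groth.Agent.Lib.T2H5.Devissage.isCoh_of_iso (Subobject.underlyingIso κ).symm hG

end coh

variable (k : Type u) [Field k] [X.Over (Spec (CommRingCat.of k))]
  [IsProper (X ↘ Spec (CommRingCat.of k))] (L : X.Modules) (hL : CohB1.IsAmple L) {d : ℕ} {E : X.Modules}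

section data

theorem dim_le_sub (hdim : topologicalKrullDim (CohB1.support E) ≤ (d : WithBot ℕ∞)) (x : Subobject E) :
    topologicalKrullDim (CohB1.support (x : X.Modules)) ≤ (d : WithBot ℕ∞) :=
  (dim_support_le_of_mono x.arrow).trans hdim

theorem dim_le_quot (hdim : topologicalKrullDim (CohB1.support E) ≤ (d : WithBot ℕ∞)) {x y : Subobject E}
    (h : x ≤ y) :
    topologicalKrullDim (CohB1.support (cokernel (Subobject.ofLE x y h))) ≤ (d : WithBot ℕ∞) :=
  ((Topology.IsEmbedding.inclusion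
    (Groth.Agent.Lib.T2H5.GenIsoB.support_subset_of_epi
      (cokernel.π (Subobject.ofLE x y h)))).isInducing.topologicalKrullDim_le).trans (dim_le_sub hdim y)

include hL in
/-- additivity along an inclusion of coherent subobjects. -/
theorem hilb_ofLE {x y : Subobject E} (h : x ≤ y) (hx : Coh.IsCoh (x : X.Modules))
    (hy : Coh.IsCoh (y : X.Modules)) :
    hilb k L (y : X.Modules) = hilb k L (x : X.Modules) + hilb k L (cokernel (Subobject.ofLE x y h)) :=
  hilb_add_cokernel k L hL hx hy (Subobject.ofLE x y h) _ _ _ (isHilbPoly_hilb k L hL.1 _ hx)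
    (isHilbPoly_hilb k L hL.1 _ hy)
    (isHilbPoly_hilb k L hL.1 _ (Groth.Agent.Lib.T2H5.GenIsoB.isCoh_cokernel _ hx hy))

include k in
theorem hilb_of_iso {A B : X.Modules} (e : A ≅ B) (hLi : PicF.IsInvertible L) (hA : Coh.IsCoh A) :
    hilb k L A = hilb k L B :=
  isHilbPoly_unique k L B _ _ (isHilbPoly_of_iso k L e _ (isHilbPoly_hilb k L hLi A hA))
    (isHilbPoly_hilb k L hLi B (Groth.Agent.Lib.T2H5.Devissage.isCoh_of_iso e hA))

/-- the Harder–Narasimhan data of the lattice of coherent subobjects. -/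
noncomputable def cohData (hE : Coh.IsCoh E)
    (hdim : topologicalKrullDim (CohB1.support E) ≤ (d : WithBot ℕ∞)) :
    haveI := isLocallyNoetherian (X := X) k
    Data (cohSub E hE) d :=
  haveI := isLocallyNoetherian (X := X) k
  { P := fun x => hilb k L (x.1 : X.Modules)
    top := ⟨⊤, isCoh_top hE⟩
    le_top := fun x => (le_top : x.1 ≤ ⊤)
    mod := fun x y => by
      have cI : Coh.IsCoh ((x.1 ⊓ y.1 : Subobject E) : X.Modules) := isCoh_inf hE x.2 y.2
      have cS : Coh.IsCoh ((x.1 ⊔ y.1 : Subobject E) : X.Modules) := isCoh_sup hE x.2 y.2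
      have h1 := hilb_ofLE k L hL (le_sup_left : x.1 ≤ x.1 ⊔ y.1) x.2 cS
      have h2 := hilb_ofLE k L hL (inf_le_right : x.1 ⊓ y.1 ≤ y.1) cI y.2
      have h3 := hilb_of_iso k L (secondIso x.1 y.1) hL.1
        (Groth.Agent.Lib.T2H5.GenIsoB.isCoh_cokernel _ cI y.2)
      change hilb k L ((x.1 ⊔ y.1 : Subobject E) : X.Modules) +
        hilb k L ((x.1 ⊓ y.1 : Subobject E) : X.Modules) = _
      rw [h1, h2, h3]
      ring
    le := fun x y h => by
      have hle : x.1 ≤ y.1 := h
      exact polyLE_of_mono k L hL x.2 y.2 (Subobject.ofLE x.1 y.1 hle) _ _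
        (isHilbPoly_hilb k L hL.1 _ x.2) (isHilbPoly_hilb k L hL.1 _ y.2)
    int := fun x => alpha_int k L hL.1 _ x.2 _ (isHilbPoly_hilb k L hL.1 _ x.2) d (dim_le_sub hdim x.1)
    mono := fun x y h => by
      have hle : x.1 ≤ y.1 := h
      rw [hilb_ofLE k L hL hle x.2 y.2, alpha_add]
      have := alpha_nonneg k L hL _ (Groth.Agent.Lib.T2H5.GenIsoB.isCoh_cokernel _ x.2 y.2) _
        (isHilbPoly_hilb k L hL.1 _ (Groth.Agent.Lib.T2H5.GenIsoB.isCoh_cokernel
          (Subobject.ofLE x.1 y.1 hle) x.2 y.2)) d (dim_le_quot hdim hle)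
      linarith
    acc := fun S hS => by
      haveI : IsNoetherian X := Groth.Agent.Lib.T2H6.CurveSatur.isNoetherian_of_proper k
      obtain ⟨T, f, ⟨x, hxS, e, hef⟩, hmax⟩ := Groth.Agent.Lib.T2H6.CohACC.exists_maximal_sub E hE
        (fun T f => ∃ x ∈ S, ∃ e : T ≅ (x.1 : X.Modules), e.hom ≫ x.1.arrow = f)
        (by
          obtain ⟨x, hx⟩ := hS
          exact ⟨(x.1 : X.Modules), x.1.arrow, x, hx, Iso.refl _, by simp⟩)
      refine ⟨x, hxS, fun y hyS hxy => ?_⟩
      have hle : x.1 ≤ y.1 := hxy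
      have cT : Coh.IsCoh T := Groth.Agent.Lib.T2H5.Devissage.isCoh_of_iso e.symm x.2
      have hepi := hmax (y.1 : X.Modules) y.1.arrow ⟨y, hyS, Iso.refl _, by simp⟩ inferInstance cT.1 y.2.1
        (e.hom ≫ Subobject.ofLE x.1 y.1 hle) (by
          rw [Category.assoc, Subobject.ofLE_arrow]; exact hef)
      haveI := hepi
      haveI : Epi (Subobject.ofLE x.1 y.1 hle) := epi_of_epi e.hom _
      haveI : IsIso (Subobject.ofLE x.1 y.1 hle) := isIso_of_mono_of_epi _
      have : y.1 ≤ x.1 := Subobject.le_of_comm (inv (Subobject.ofLE x.1 y.1 hle)) (by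
        rw [IsIso.inv_comp_eq, Subobject.ofLE_arrow])
      exact Subtype.ext (le_antisymm this hle) }

end data

section maxDestab

include k in
theorem hilb_bot (hLi : PicF.IsInvertible L) : hilb k L ((⊥ : Subobject E) : X.Modules) = 0 := by
  haveI := isLocallyNoetherian (X := X) k
  exact (eq_hilb k L hLi _ isCoh_bot 0 (isHilbPoly_zero_of_isZero k L _
    ((isZero_zero _).of_iso Subobject.botCoeIsoZero))).symm

theorem not_isZero_of_ne_bot {y : Subobject E} (hy : y ≠ ⊥) : ¬ IsZero (y : X.Modules) := by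
  intro hz
  apply hy
  rw [← Subobject.mk_arrow y, Subobject.mk_eq_bot_iff_zero]
  exact hz.eq_of_src _ _

include hL in
/-- for a pure sheaf the bottom element is saturated. -/
theorem sat_bot (hE : Coh.IsCoh E) (h0 : ¬ IsZero E) (hp : ShStab.IsPure X E d) :
    haveI := isLocallyNoetherian (X := X) k
    (cohData k L hL hE (dim_support_of_pure hp hE h0).le).Sat ⟨⊥, isCoh_bot⟩ := by
  haveI := isLocallyNoetherian (X := X) k
  intro y hy
  have hne : y.1 ≠ ⊥ := fun h => (ne_of_gt hy) (Subtype.ext h)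
  change alpha d (hilb k L ((⊥ : Subobject E) : X.Modules)) < alpha d (hilb k L (y.1 : X.Modules))
  rw [hilb_bot k L hL.1]
  have : alpha d (0 : ℚ[X]) = 0 := by simp [alpha]
  rw [this]
  exact alpha_pos_of_sub k L hL hp y.1.arrow y.2 (not_isZero_of_ne_bot hne) _
    (isHilbPoly_hilb k L hL.1 _ y.2)

include hL in
/-- existence of the maximal destabilising submodule (S15200). -/
theorem exists_isMaxDestab (d : ℕ) (E : X.Modules) (hE : Coh.IsCoh E) (h0 : ¬ IsZero E)
    (hp : ShStab.IsPure X E d) : ∃ (F : X.Modules) (ι : F ⟶ E), ShStab.IsMaxDestab k X L E d F ι := by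
  haveI := isLocallyNoetherian (X := X) k
  set A := cohData k L hL hE (dim_support_of_pure hp hE h0).le with hA
  have hsat := sat_bot k L hL hE h0 hp
  have hne : (⟨⊥, isCoh_bot⟩ : cohSub E hE) ≠ A.top := by
    intro h
    haveI := Subobject.nontrivial_of_not_isZero h0
    exact bot_ne_top (congrArg Subtype.val h)
  obtain ⟨F, hF, -, hmax⟩ := exists_maxDestab hsat hne
  have hFne : F.1 ≠ ⊥ := fun h => (ne_of_gt hF) (Subtype.ext h)
  refine ⟨(F.1 : X.Modules), F.1.arrow, inferInstance, F.2, not_isZero_of_ne_bot hFne, ?_⟩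
  intro G κ hκ cG G0 pF pG hpF hpG
  haveI := hκ
  have hGne : Subobject.mk κ ≠ ⊥ := by
    rw [Ne, Subobject.mk_eq_bot_iff_zero]
    intro h
    exact G0 (IsZero.of_mono_eq_zero κ h)
  let y : cohSub E hE := ⟨Subobject.mk κ, isCoh_mk κ cG⟩
  have hy : (⟨⊥, isCoh_bot⟩ : cohSub E hE) < y :=
    lt_of_le_of_ne (bot_le : (⊥ : Subobject E) ≤ Subobject.mk κ) (fun h => hGne (congrArg Subtype.val h).symm)
  obtain ⟨h1, h2⟩ := hmax y hy
  have hDy : A.D ⟨⊥, isCoh_bot⟩ y = pG := by
    change hilb k L ((Subobject.mk κ : Subobject E) : X.Modules) -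
      hilb k L ((⊥ : Subobject E) : X.Modules) = pG
    rw [hilb_bot k L hL.1, sub_zero, hilb_of_iso k L (Subobject.underlyingIso κ) hL.1 (isCoh_mk κ cG)]
    exact (eq_hilb k L hL.1 G cG pG hpG).symm
  have hDF : A.D ⟨⊥, isCoh_bot⟩ F = pF := by
    change hilb k L (F.1 : X.Modules) - hilb k L ((⊥ : Subobject E) : X.Modules) = pF
    rw [hilb_bot k L hL.1, sub_zero]
    exact (eq_hilb k L hL.1 _ F.2 pF hpF).symm
  rw [hDy, hDF] at h1 h2
  refine ⟨h1, fun heq => ?_⟩
  have hle : Subobject.mk κ ≤ F.1 := h2 heq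
  refine ⟨(Subobject.underlyingIso κ).inv ≫ Subobject.ofLE _ _ hle, ?_⟩
  rw [Category.assoc, Subobject.ofLE_arrow, Subobject.underlyingIso_arrow]

end maxDestab

section preimage

variable {a b : Subobject E} (h : a ≤ b) {G : X.Modules} (σ : G ⟶ cokernel (Subobject.ofLE a b h)) [Mono σ]

/-- the preimage in `b` of a submodule of `b / a`, as a subobject of `E`. -/
noncomputable def preSub : Subobject E :=
  Subobject.mk (pullback.fst (cokernel.π (Subobject.ofLE a b h)) σ ≫ b.arrow)

theorem preSub_le : preSub h σ ≤ b := Subobject.mk_le_of_comm (pullback.fst _ _) rfl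

theorem le_preSub : a ≤ preSub h σ :=
  Subobject.le_mk_of_comm
    (liftA (Subobject.ofLE a b h) (cokernel.π _) (cokernel.condition _) σ) (by
      rw [← Category.assoc, liftA_fst, Subobject.ofLE_arrow])

/-- the underlying object of the preimage. -/
noncomputable def preSubIso : (preSub h σ : X.Modules) ≅ pre (Subobject.ofLE a b h) σ :=
  Subobject.underlyingIso _

include k hL in
theorem hilb_preSub (ha : Coh.IsCoh (a : X.Modules)) (hb : Coh.IsCoh (b : X.Modules))
    (hG : Coh.IsCoh G) :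
    Coh.IsCoh (preSub h σ : X.Modules) ∧
      hilb k L (preSub h σ : X.Modules) = hilb k L (a : X.Modules) + hilb k L G := by
  haveI := isLocallyNoetherian (X := X) k
  have cQ := Groth.Agent.Lib.T2H5.GenIsoB.isCoh_cokernel (Subobject.ofLE a b h) ha hb
  have cP : Coh.IsCoh (pre (Subobject.ofLE a b h) σ) := isCoh_pullback_mod _ σ hb cQ hG
  have cS : Coh.IsCoh (preSub h σ : X.Modules) :=
    Groth.Agent.Lib.T2H5.Devissage.isCoh_of_iso (preSubIso h σ).symm cP
  refine ⟨cS, ?_⟩
  rw [hilb_of_iso k L (preSubIso h σ) hL.1 cS]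
  exact isHilbPoly_add k L hL.1 _ (pre_shortExact (Subobject.ofLE a b h) σ) ha cP hG _ _ _
    (isHilbPoly_hilb k L hL.1 _ ha) (isHilbPoly_hilb k L hL.1 _ cP) (isHilbPoly_hilb k L hL.1 _ hG)

end preimage

section kernelIso

variable {a y b : Subobject E} (hay : a ≤ y) (hyb : y ≤ b)

theorem ofLE_toQuot : Subobject.ofLE a y hay ≫ Subobject.ofLE y b hyb ≫
    cokernel.π (Subobject.ofLE a b (hay.trans hyb)) = 0 := by
  rw [← Category.assoc, Subobject.ofLE_comp_ofLE, cokernel.condition]

/-- `a` is the kernel of `y ⟶ b ⟶ b / a`. -/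
noncomputable def isLimitKernel :
    IsLimit (KernelFork.ofι (Subobject.ofLE a y hay) (ofLE_toQuot hay hyb)) := by
  refine KernelFork.IsLimit.ofι _ _
    (fun {T} t ht => Abelian.monoLift (Subobject.ofLE a b (hay.trans hyb)) (t ≫ Subobject.ofLE y b hyb)
      (by rw [Category.assoc]; exact ht))
    (fun {T} t ht => ?_) (fun {T} t ht m hm => ?_)
  · rw [← cancel_mono (Subobject.ofLE y b hyb), Category.assoc, Subobject.ofLE_comp_ofLE,
      Abelian.monoLift_comp]
  · rw [← cancel_mono (Subobject.ofLE a y hay), hm, ← cancel_mono (Subobject.ofLE y b hyb), Category.assoc,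
      Subobject.ofLE_comp_ofLE, Abelian.monoLift_comp]

noncomputable def kernelIso :
    kernel (Subobject.ofLE y b hyb ≫ cokernel.π (Subobject.ofLE a b (hay.trans hyb))) ≅ (a : X.Modules) :=
  IsLimit.conePointUniqueUpToIso (limit.isLimit _) (isLimitKernel hay hyb)

end kernelIso

end Groth.Agent.Lib.T2H6.HilbPolyO
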