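import Mathlib
import Groth.Prelude
import Groth.Agent.Lib.T2H6HilbPolyO

/-!
# Existence and uniqueness of the Harder–Narasimhan filtration of a pure sheaf
-/

universe u

open CategoryTheory TopCat TopologicalSpace Opposite AlgebraicGeometry Limits Polynomial StabCat ZeroObject

namespace Groth.Agent.Lib.T2H6.HilbPolyP

open Groth.Agent.Lib.T2H6.HilbPolyA Groth.Agent.Lib.T2H6.HilbPolyB Groth.Agent.Lib.T2H6.HilbPolyC
  Groth.Agent.Lib.T2H6.HilbPolyD Groth.Agent.Lib.T2H6.HilbPolyE Groth.Agent.Lib.T2H6.HilbPolyK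
  Groth.Agent.Lib.T2H6.HilbPolyL Groth.Agent.Lib.T2H6.HilbPolyM Groth.Agent.Lib.T2H6.HilbPolyN
  Groth.Agent.Lib.T2H6.HilbPolyO Groth.Agent.Lib.T2H5.FiltCat
  Groth.Agent.Lib.T2H6.FiltExt Groth.Agent.Lib.T2H6.JHLattice Groth.Agent.Lib.T2H6.LatHN

variable {X : Scheme.{u}} (k : Type u) [Field k] [X.Over (Spec (CommRingCat.of k))]
  [IsProper (X ↘ Spec (CommRingCat.of k))] (L : X.Modules) (hL : CohB1.IsAmple L) {d : ℕ} {E : X.Modules}

section translate

variable [IsLocallyNoetherian X] (hE : Coh.IsCoh E)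
  (hdim : topologicalKrullDim (CohB1.support E) ≤ (d : WithBot ℕ∞))

include hL in
theorem D_eq_hilb_cokernel (a b : cohSub E hE) (h : a.1 ≤ b.1) :
    (cohData k L hL hE hdim).D a b = hilb k L (cokernel (Subobject.ofLE a.1 b.1 h)) := by
  change hilb k L (b.1 : X.Modules) - hilb k L (a.1 : X.Modules) = _
  rw [hilb_ofLE k L hL h a.2 b.2]
  ring

include hL in
theorem isSemistable_of_ssInt (a b : cohSub E hE) (hab : a < b)
    (hss : SSInt (cohData k L hL hE hdim) a b) :
    ShStab.IsSemistable k X L (cokernel (Subobject.ofLE a.1 b.1 hab.le)) d := by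
  have hle : a.1 ≤ b.1 := hab.le
  have cQ := Groth.Agent.Lib.T2H5.GenIsoB.isCoh_cokernel (Subobject.ofLE a.1 b.1 hle) a.2 b.2
  have hDab := D_eq_hilb_cokernel k L hL hE hdim a b hle
  have Q0 : ¬ IsZero (cokernel (Subobject.ofLE a.1 b.1 hle)) := by
    intro hz
    haveI : Epi (Subobject.ofLE a.1 b.1 hle) := Preadditive.epi_of_isZero_cokernel _ hz
    haveI : IsIso (Subobject.ofLE a.1 b.1 hle) := isIso_of_mono_of_epi _
    have : b.1 ≤ a.1 := Subobject.le_of_comm (inv (Subobject.ofLE a.1 b.1 hle)) (by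
      rw [IsIso.inv_comp_eq, Subobject.ofLE_arrow])
    exact (not_le_of_gt hab) this
  have key : ∀ (G : X.Modules) (σ : G ⟶ cokernel (Subobject.ofLE a.1 b.1 hle)), Mono σ → Coh.IsCoh G →
      ¬ IsZero G → 0 < alpha d (hilb k L G) ∧
        RedLE d (hilb k L G) (hilb k L (cokernel (Subobject.ofLE a.1 b.1 hle))) := by
    intro G σ hσ cG G0
    haveI := hσ
    obtain ⟨cS, hS⟩ := hilb_preSub k L hL hle σ a.2 b.2 cG
    let y : cohSub E hE := ⟨preSub hle σ, cS⟩
    have hay : a ≤ y := le_preSub hle σ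
    have hyb : y ≤ b := preSub_le hle σ
    have hDay : (cohData k L hL hE hdim).D a y = hilb k L G := by
      change hilb k L (preSub hle σ : X.Modules) - hilb k L (a.1 : X.Modules) = _
      rw [hS]; ring
    have hlt : a < y := by
      refine lt_of_le_of_ne hay (fun heq => ?_)
      have h0 : (cohData k L hL hE hdim).D a y = 0 := by rw [← heq]; exact D_self _ a
      rw [hDay] at h0
      obtain ⟨N, hN⟩ := eventually_pos_of_not_isZero k L hL G cG G0 _ (isHilbPoly_hilb k L hL.1 G cG)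
      have := hN N le_rfl
      rw [h0, eval_zero] at this
      exact lt_irrefl _ this
    have := hss y hlt hyb
    rw [hDay, hDab] at this
    exact this
  refine ⟨cQ, Q0, ?_, ?_⟩
  · intro G σ hσ cG G0
    haveI := hσ
    have hle' : topologicalKrullDim (CohB1.support G) ≤ (d : WithBot ℕ∞) :=
      (dim_support_le_of_mono σ).trans (dim_le_quot hdim hle)
    rcases hle'.lt_or_eq with hlt | heq
    · exfalso
      have := alpha_eq_zero k L hL.1 G cG _ (isHilbPoly_hilb k L hL.1 G cG) d hlt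
      linarith [(key G σ hσ cG G0).1]
    · exact heq
  · intro G σ hσ cG G0 _ pG pQ hpG hpQ
    rw [eq_hilb k L hL.1 G cG pG hpG, eq_hilb k L hL.1 _ cQ pQ hpQ]
    exact (key G σ hσ cG G0).2

include hL in
theorem ssInt_of_isSemistable (a b : cohSub E hE) (hab : a < b)
    (hQ : ShStab.IsSemistable k X L (cokernel (Subobject.ofLE a.1 b.1 hab.le)) d) :
    SSInt (cohData k L hL hE hdim) a b := by
  obtain ⟨cQ, Q0, pureQ, ssQ⟩ := hQ
  intro y hay hyb
  have hay' : a.1 ≤ y.1 := hay.le
  have hyb' : y.1 ≤ b.1 := hyb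
  let φ : (y.1 : X.Modules) ⟶ cokernel (Subobject.ofLE a.1 b.1 hab.le) :=
    Subobject.ofLE y.1 b.1 hyb' ≫ cokernel.π (Subobject.ofLE a.1 b.1 hab.le)
  have hφ : φ ≠ 0 := fun h => not_le_of_gt hay (le_of_toQuot_eq_zero hab.le hyb' h)
  have cI := Groth.Agent.Lib.T2H6.CurveVB.isCoh_image φ y.2 cQ
  have I0 := not_isZero_image φ hφ
  have cK := Groth.Agent.Lib.T2H5.GenIsoB.isCoh_kernel φ y.2 cQ
  have hpI := isHilbPoly_hilb k L hL.1 _ cI
  have hadd := hilb_add_kerIm k L hL y.2 cQ φ _ _ _ (isHilbPoly_hilb k L hL.1 _ cK)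
    (isHilbPoly_hilb k L hL.1 _ y.2) hpI
  have hK : hilb k L (kernel φ) = hilb k L (a.1 : X.Modules) :=
    hilb_of_iso k L (kernelIso hay' hyb') hL.1 cK
  have hDay : (cohData k L hL hE hdim).D a y = hilb k L (Abelian.image φ) := by
    change hilb k L (y.1 : X.Modules) - hilb k L (a.1 : X.Modules) = _
    rw [hadd, hK]; ring
  rw [hDay, D_eq_hilb_cokernel k L hL hE hdim a b hab.le]
  exact ⟨alpha_pos_of_sub k L hL pureQ (Abelian.image.ι φ) cI I0 _ hpI,
    image_redLE k L hL y.2 cQ ssQ φ hφ _ _ hpI (isHilbPoly_hilb k L hL.1 _ cQ)⟩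

end translate

section main

theorem strictMono_val [IsLocallyNoetherian X] (hE : Coh.IsCoh E) :
    StrictMono (Subtype.val : cohSub E hE → Subobject E) := fun _ _ h => h

include hL in
/-- a Harder–Narasimhan chain of coherent subobjects gives a Harder–Narasimhan filtration. -/
theorem isHNFiltration_of_isHN [IsLocallyNoetherian X] (hE : Coh.IsCoh E)
    (hdim : topologicalKrullDim (CohB1.support E) ≤ (d : WithBot ℕ∞))
    (s : LTSeries (cohSub E hE)) (hs0 : s.head = ⟨⊥, isCoh_bot⟩)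
    (hs1 : s.last = (cohData k L hL hE hdim).top) (hs : IsHN (cohData k L hL hE hdim) s) :
    ShStab.IsHNFiltration k X L E d (s.map Subtype.val (strictMono_val hE)) := by
  refine ⟨?_, ?_, ?_, ?_⟩
  · rw [LTSeries.head_map, hs0]
  · rw [LTSeries.last_map, hs1]
    rfl
  · intro i
    exact isSemistable_of_ssInt k L hL hE hdim (s i.castSucc) (s i.succ) (s.step i) (hs.1 i)
  · intro i j hij p q hp hq
    have h := hs.2 i j hij
    rw [D_eq_hilb_cokernel k L hL hE hdim _ _ (s.step i).le,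
      D_eq_hilb_cokernel k L hL hE hdim _ _ (s.step j).le] at h
    have cQi := Groth.Agent.Lib.T2H5.GenIsoB.isCoh_cokernel
      (Subobject.ofLE (s i.castSucc).1 (s i.succ).1 (s.step i).le) (s i.castSucc).2 (s i.succ).2
    have cQj := Groth.Agent.Lib.T2H5.GenIsoB.isCoh_cokernel
      (Subobject.ofLE (s j.castSucc).1 (s j.succ).1 (s.step j).le) (s j.castSucc).2 (s j.succ).2
    rw [eq_hilb k L hL.1 _ cQi p hp, eq_hilb k L hL.1 _ cQj q hq]
    exact h

include hL in
/-- a Harder–Narasimhan filtration comes from a Harder–Narasimhan chain of coherent subobjects. -/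
theorem exists_isHN_of_isHNFiltration [IsLocallyNoetherian X] (hE : Coh.IsCoh E)
    (hdim : topologicalKrullDim (CohB1.support E) ≤ (d : WithBot ℕ∞))
    (t : LTSeries (Subobject E)) (ht : ShStab.IsHNFiltration k X L E d t) :
    ∃ s : LTSeries (cohSub E hE), s.map Subtype.val (strictMono_val hE) = t ∧
      s.head = ⟨⊥, isCoh_bot⟩ ∧ s.last = (cohData k L hL hE hdim).top ∧
      IsHN (cohData k L hL hE hdim) s := by
  obtain ⟨ht0, ht1, htss, htlt⟩ := ht
  have hcoh : ∀ i : Fin (t.length + 1), Coh.IsCoh (t i : X.Modules) := by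
    intro i
    induction i using Fin.induction with
    | zero =>
      have : t 0 = ⊥ := ht0
      rw [this]
      exact isCoh_bot
    | succ j ih =>
      exact Groth.Agent.Lib.T2H5.GenIsoA.isCoh_of_shortExact _
        (shortExact_cokernel (Subobject.ofLE (t j.castSucc) (t j.succ) (le_of_lt (t.step j)))) ih
        (htss j).1
  let s : LTSeries (cohSub E hE) :=
    LTSeries.mk t.length (fun i => ⟨t i, hcoh i⟩) (fun i j h => t.strictMono h)
  refine ⟨s, ?_, ?_, ?_, ?_, ?_⟩
  · exact RelSeries.ext rfl (funext fun i => rfl)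
  · exact Subtype.ext ht0
  · exact Subtype.ext ht1
  · intro i
    exact ssInt_of_isSemistable k L hL hE hdim (s i.castSucc) (s i.succ) (s.step i) (htss i)
  · intro i j hij
    rw [D_eq_hilb_cokernel k L hL hE hdim _ _ (s.step i).le,
      D_eq_hilb_cokernel k L hL hE hdim _ _ (s.step j).le]
    exact htlt i j hij _ _ (isHilbPoly_hilb k L hL.1 _ (htss i).1) (isHilbPoly_hilb k L hL.1 _ (htss j).1)

include hL in
/-- **Harder–Narasimhan filtration** (S15191). -/
theorem existsUnique_isHNFiltration (d : ℕ) (E : X.Modules) (hE : Coh.IsCoh E) (h0 : ¬ IsZero E)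
    (hp : ShStab.IsPure X E d) :
    ∃! s : LTSeries (Subobject E), ShStab.IsHNFiltration k X L E d s := by
  haveI := isLocallyNoetherian (X := X) k
  have hdim := (dim_support_of_pure hp hE h0).le
  have hsat := sat_bot k L hL hE h0 hp
  obtain ⟨s, hs0, hs1, hsHN⟩ := exists_hn (A := cohData k L hL hE hdim) _ hsat
  refine ⟨s.map Subtype.val (strictMono_val hE),
    isHNFiltration_of_isHN k L hL hE hdim s hs0 hs1 hsHN, ?_⟩
  intro t ht
  obtain ⟨t', hmap, ht0, ht1, htHN⟩ := exists_isHN_of_isHNFiltration k L hL hE hdim t ht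
  have : t' = s := hn_unique htHN hsHN (ht0.trans hs0.symm) ht1 hs1
  rw [← hmap, this]

end main

end Groth.Agent.Lib.T2H6.HilbPolyP
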