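import Mathlib
import Groth.Prelude
import Groth.Agent.Lib.T2H6HilbPolyP
import Groth.Agent.Lib.T2H5AmplePn
import Groth.Agent.Lib.T2H5HilbPoly
import Groth.Agent.S9705

/-!
# Harder–Narasimhan chains of pure sheaves on projective space, in the finite-set formulation
-/

universe u

open CategoryTheory TopCat TopologicalSpace Opposite AlgebraicGeometry Limits Polynomial StabCat ZeroObject

namespace Groth.Agent.Lib.T2H6.HNPn

open Groth.Agent.Lib.T2H6.HilbPolyA Groth.Agent.Lib.T2H6.HilbPolyB Groth.Agent.Lib.T2H6.HilbPolyC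
  Groth.Agent.Lib.T2H6.HilbPolyD Groth.Agent.Lib.T2H6.HilbPolyE Groth.Agent.Lib.T2H6.HilbPolyK
  Groth.Agent.Lib.T2H6.HilbPolyL Groth.Agent.Lib.T2H6.HilbPolyM Groth.Agent.Lib.T2H6.HilbPolyN
  Groth.Agent.Lib.T2H6.HilbPolyO Groth.Agent.Lib.T2H6.HilbPolyP Groth.Agent.Lib.T2H5.Twist

variable (n : ℕ) (k : Type u) [Field k]

instance : IsProper (CohB1.ProjSpace n k ↘ Spec (CommRingCat.of k)) :=
  Groth.Agent.S9705.isProper_projSpace_toSpec n k

theorem isAmple_one : CohB1.IsAmple (Twist.twistProjSpace n k 1) := by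
  have := Groth.Agent.Lib.T2H5.AmplePn.isAmple_twist_of_pos n k 1 Nat.one_pos
  simpa using this

/-- the twist by `O(1)^{⊗ m}` is the twist by `O(m)`. -/
theorem nonempty_twist_iso (F : (CohB1.ProjSpace n k).Modules) (m : ℕ) :
    Nonempty (ShStab.twist (CohB1.ProjSpace n k) (Twist.twistProjSpace n k 1) F m ≅
      CohB1.tensorMod F (Twist.twistProjSpace n k (m : ℤ))) := by
  obtain ⟨e⟩ := Groth.Agent.Lib.T2H5.AmplePn.nonempty_tensorPow_twist_iso n k 1 m
  rw [mul_one] at e
  exact ⟨(trCongr e).app F⟩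

theorem euler_twist_nat (F : (CohB1.ProjSpace n k).Modules) (hF : Coh.IsCoh F) (m : ℕ) :
    (Curv2.euler k (CohB1.ProjSpace n k) (CohB1.tensorMod F (Twist.twistProjSpace n k (m : ℤ))) : ℚ) =
      (hilb k (Twist.twistProjSpace n k 1) F).eval (m : ℚ) := by
  obtain ⟨e⟩ := nonempty_twist_iso n k F m
  rw [← isHilbPoly_hilb k _ (isAmple_one n k).1 F hF m]
  exact congrArg _ (Groth.Agent.Lib.T2H6.FieldBC.euler_eq_of_iso k _ e).symm

/-- the Hilbert polynomial computes the Euler characteristics of all integral twists. -/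
theorem euler_twist_int (F : (CohB1.ProjSpace n k).Modules) (hF : Coh.IsCoh F) (m : ℤ) :
    (Curv2.euler k (CohB1.ProjSpace n k) (CohB1.tensorMod F (Twist.twistProjSpace n k m)) : ℚ) =
      (hilb k (Twist.twistProjSpace n k 1) F).eval (m : ℚ) := by
  obtain ⟨m₀, hm₀⟩ : ∃ m₀ : ℕ, 0 ≤ m + m₀ := ⟨m.natAbs, by omega⟩
  set F' := CohB1.tensorMod F (Twist.twistProjSpace n k (-(m₀ : ℤ))) with hF'
  have cF' : Coh.IsCoh F' := Groth.Agent.Lib.T2H5.HilbPoly.isCoh_GF n k F hF _
  -- `F'(j) ≅ F(j - m₀)`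
  have hiso : ∀ j : ℤ, Nonempty (CohB1.tensorMod F' (Twist.twistProjSpace n k j) ≅
      CohB1.tensorMod F (Twist.twistProjSpace n k (j - m₀))) := fun j =>
    ⟨(twAdd n k (-(m₀ : ℤ)) j (j - m₀) (by ring)).app F⟩
  have heul : ∀ j : ℕ, (Curv2.euler k (CohB1.ProjSpace n k)
      (CohB1.tensorMod F (Twist.twistProjSpace n k ((j : ℤ) - m₀))) : ℚ) =
      (hilb k (Twist.twistProjSpace n k 1) F').eval (j : ℚ) := by
    intro j
    rw [← euler_twist_nat n k F' cF' j]
    obtain ⟨e⟩ := hiso j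
    exact congrArg _ (Groth.Agent.Lib.T2H6.FieldBC.euler_eq_of_iso k _ e).symm
  -- the two polynomials agree
  have hpoly : hilb k (Twist.twistProjSpace n k 1) F =
      (hilb k (Twist.twistProjSpace n k 1) F').comp (X + C (m₀ : ℚ)) := by
    apply eq_of_eval_nat
    intro i
    rw [← euler_twist_nat n k F hF i, eval_comp, eval_add, eval_X, eval_C]
    have := heul (i + m₀)
    rw [show ((i + m₀ : ℕ) : ℤ) - (m₀ : ℤ) = (i : ℤ) by push_cast; ring] at this
    rw [this]
    push_cast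
    rfl
  obtain ⟨j, hj⟩ : ∃ j : ℕ, (j : ℤ) = m + m₀ := ⟨(m + m₀).toNat, Int.toNat_of_nonneg hm₀⟩
  have := heul j
  rw [show (j : ℤ) - (m₀ : ℤ) = m by rw [hj]; ring] at this
  rw [this, hpoly, eval_comp, eval_add, eval_X, eval_C]
  congr 1
  have : ((j : ℤ) : ℚ) = ((m + m₀ : ℤ) : ℚ) := by rw [hj]
  push_cast at this
  exact this

section compare

variable {d : ℕ} {ψ φ : ℚ[X]}

theorem alpha_eq_rankOf (d : ℕ) (φ : ℚ[X]) : W4c2simpsonmod1.rankOf d φ = alpha d φ := rfl

theorem redLE_iff (hψ : 0 < alpha d ψ) (hφ : 0 < alpha d φ) :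
    W4c2simpsonmod1.RedLE d ψ φ ↔ StabCat.RedLE d ψ φ := by
  constructor
  · rintro ⟨N, hN⟩
    refine ⟨N.toNat, fun m hm => ?_⟩
    have h := hN (m : ℤ) (by omega)
    rw [alpha_eq_rankOf, alpha_eq_rankOf, div_le_div_iff₀ hψ hφ] at h
    simp only [eval_smul, smul_eq_mul]
    push_cast at h
    linarith
  · rintro ⟨N, hN⟩
    refine ⟨(N : ℤ), fun m hm => ?_⟩
    have hm0 : 0 ≤ m := le_trans (Int.natCast_nonneg N) hm
    have h := hN m.toNat (by omega)
    simp only [eval_smul, smul_eq_mul] at h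
    rw [alpha_eq_rankOf, alpha_eq_rankOf, div_le_div_iff₀ hψ hφ]
    have hc : ((m.toNat : ℕ) : ℚ) = ((m : ℤ) : ℚ) := by
      have : ((m.toNat : ℕ) : ℤ) = m := Int.toNat_of_nonneg hm0
      exact_mod_cast congrArg (fun z : ℤ => (z : ℚ)) this
    rw [hc] at h
    linarith

theorem redLT_iff (hψ : 0 < alpha d ψ) (hφ : 0 < alpha d φ) :
    W4c2simpsonmod1.RedLT d ψ φ ↔ StabCat.RedLT d ψ φ := by
  constructor
  · rintro ⟨N, hN⟩
    refine ⟨N.toNat, fun m hm => ?_⟩
    have h := hN (m : ℤ) (by omega)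
    rw [alpha_eq_rankOf, alpha_eq_rankOf, div_lt_div_iff₀ hψ hφ] at h
    simp only [eval_smul, smul_eq_mul]
    push_cast at h
    linarith
  · rintro ⟨N, hN⟩
    refine ⟨(N : ℤ), fun m hm => ?_⟩
    have hm0 : 0 ≤ m := le_trans (Int.natCast_nonneg N) hm
    have h := hN m.toNat (by omega)
    simp only [eval_smul, smul_eq_mul] at h
    rw [alpha_eq_rankOf, alpha_eq_rankOf, div_lt_div_iff₀ hψ hφ]
    have hc : ((m.toNat : ℕ) : ℚ) = ((m : ℤ) : ℚ) := by
      have : ((m.toNat : ℕ) : ℤ) = m := Int.toNat_of_nonneg hm0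
      exact_mod_cast congrArg (fun z : ℤ => (z : ℚ)) this
    rw [hc] at h
    linarith

end compare

section chains

variable {α : Type*} [PartialOrder α]

/-- a nonempty finite chain is the range of a strictly increasing series. -/
theorem exists_ltSeries_of_chain (C : Finset α) (hne : C.Nonempty)
    (hC : IsChain (fun A B : α => A ≤ B) (↑C : Set α)) :
    ∃ t : LTSeries α, ∀ x, x ∈ C ↔ ∃ i, t i = x := by
  classical
  letI : LinearOrder {x // x ∈ C} :=
    { (inferInstance : PartialOrder {x // x ∈ C}) with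
      le_total := fun a b => by
        by_cases h : a = b
        · left; rw [h]
        · rcases hC a.2 b.2 (fun hab => h (Subtype.ext hab)) with h' | h'
          · left; exact h'
          · right; exact h'
      toDecidableLE := Classical.decRel _ }
  have hcard : 0 < Fintype.card {x // x ∈ C} := by
    obtain ⟨x, hx⟩ := hne
    exact Fintype.card_pos_iff.2 ⟨⟨x, hx⟩⟩
  obtain ⟨len, hlen⟩ : ∃ len, Fintype.card {x // x ∈ C} = len + 1 := ⟨_, (Nat.succ_pred_eq_of_pos hcard).symm⟩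
  let e := monoEquivOfFin {x // x ∈ C} hlen
  refine ⟨LTSeries.mk len (fun i => (e i).1) (fun i j hij => e.strictMono hij), fun x => ?_⟩
  constructor
  · intro hx
    exact ⟨e.symm ⟨x, hx⟩, by simp [LTSeries.mk]⟩
  · rintro ⟨i, rfl⟩
    exact (e i).2

/-- consecutive members of the range of a series are adjacent terms. -/
theorem exists_adjacent (t : LTSeries α) {A B : α} (hA : ∃ i, t i = A) (hB : ∃ i, t i = B) (hAB : A < B)
    (hno : ∀ D, (∃ i, t i = D) → ¬ (A < D ∧ D < B)) :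
    ∃ i : Fin t.length, A = t i.castSucc ∧ B = t i.succ := by
  obtain ⟨a, rfl⟩ := hA
  obtain ⟨b, rfl⟩ := hB
  have hab : a < b := t.strictMono.lt_iff_lt.1 hAB
  have hb : a.val + 1 = b.val := by
    by_contra hne
    have hlt : a.val + 1 < b.val := lt_of_le_of_ne hab (fun h => hne h)
    have hlen : a.val + 1 < t.length + 1 := lt_trans hlt b.2
    refine hno (t ⟨a.val + 1, hlen⟩) ⟨_, rfl⟩ ⟨t.strictMono ?_, t.strictMono ?_⟩
    · rw [Fin.lt_def]; simp
    · rw [Fin.lt_def]; exact hlt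
  have halt : a.val < t.length := by omega
  refine ⟨⟨a.val, halt⟩, ?_, ?_⟩
  · rfl
  · congr 1
    ext
    simp [hb]

theorem not_between (t : LTSeries α) (i : Fin t.length) (D : α) (hD : ∃ j, t j = D) :
    ¬ (t i.castSucc < D ∧ D < t i.succ) := by
  obtain ⟨j, rfl⟩ := hD
  rintro ⟨h1, h2⟩
  have h1' := t.strictMono.lt_iff_lt.1 h1
  have h2' := t.strictMono.lt_iff_lt.1 h2
  rw [Fin.lt_def] at h1' h2'
  simp at h1' h2'
  omega

end chains

section main

variable {n} {k}

theorem isHilbPoly_of_forall_int (F : (CohB1.ProjSpace n k).Modules) (φ : ℚ[X])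
    (h : ∀ m : ℤ, (Curv2.euler k (CohB1.ProjSpace n k)
      (CohB1.tensorMod F (Twist.twistProjSpace n k m)) : ℚ) = φ.eval (m : ℚ)) :
    ShStab.IsHilbPoly k (CohB1.ProjSpace n k) (Twist.twistProjSpace n k 1) F φ := by
  intro m
  obtain ⟨e⟩ := nonempty_twist_iso n k F m
  have := h (m : ℤ)
  push_cast at this
  rw [← this]
  exact congrArg _ (Groth.Agent.Lib.T2H6.FieldBC.euler_eq_of_iso k _ e)

theorem isCoh_of_isHNFiltration {d : ℕ} {E : (CohB1.ProjSpace n k).Modules}
    (t : LTSeries (Subobject E))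
    (ht : ShStab.IsHNFiltration k (CohB1.ProjSpace n k) (Twist.twistProjSpace n k 1) E d t)
    (i : Fin (t.length + 1)) : Coh.IsCoh (t i : (CohB1.ProjSpace n k).Modules) := by
  haveI := isLocallyNoetherian (X := CohB1.ProjSpace n k) k
  obtain ⟨ht0, ht1, htss, htlt⟩ := ht
  induction i using Fin.induction with
  | zero =>
    have : t 0 = ⊥ := ht0
    rw [this]
    exact isCoh_bot
  | succ j ih =>
    exact Groth.Agent.Lib.T2H5.GenIsoA.isCoh_of_shortExact _
      (shortExact_cokernel (Subobject.ofLE (t j.castSucc) (t j.succ) (le_of_lt (t.step j)))) ih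
      (htss j).1

theorem not_isZero_of_dim {d : ℕ} {Q : (CohB1.ProjSpace n k).Modules}
    (h : topologicalKrullDim ↥(CohB1.support Q) = (d : WithBot ℕ∞)) : ¬ IsZero Q := by
  intro hz
  rw [support_eq_empty_of_isZero hz, dim_empty] at h
  exact absurd h (by simp)

set_option maxHeartbeats 1600000 in
/-- **S14972**: existence and uniqueness of the Harder–Narasimhan chain, finite-set formulation. -/
theorem existsUnique_chain (d : ℕ) (E : (CohB1.ProjSpace n k).Modules) (hE : Coh.IsCoh E)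
    (hpure : (topologicalKrullDim ↥(CohB1.support E) = (d : WithBot ℕ∞) ∧
      ∀ (G : (CohB1.ProjSpace n k).Modules) (ι : G ⟶ E), Mono ι → Coh.IsCoh G → ¬ IsZero G →
        topologicalKrullDim ↥(CohB1.support G) = (d : WithBot ℕ∞))) :
    ∃! C : Finset (Subobject E),
      ⊥ ∈ C ∧ ⊤ ∈ C ∧ IsChain (fun A B : Subobject E => A ≤ B) (↑C : Set (Subobject E)) ∧
      (∀ A ∈ C, Coh.IsCoh (A : (CohB1.ProjSpace n k).Modules)) ∧
      (∀ A ∈ C, ∀ B ∈ C, ∀ hAB : A < B, (∀ D ∈ C, ¬ (A < D ∧ D < B)) →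
        (topologicalKrullDim ↥(CohB1.support (cokernel (Subobject.ofLE A B hAB.le))) = (d : WithBot ℕ∞) ∧
          ∀ (G : (CohB1.ProjSpace n k).Modules) (ι : G ⟶ (cokernel (Subobject.ofLE A B hAB.le))), Mono ι →
            Coh.IsCoh G → ¬ IsZero G → topologicalKrullDim ↥(CohB1.support G) = (d : WithBot ℕ∞)) ∧
        (∀ (G : (CohB1.ProjSpace n k).Modules) (ι : G ⟶ (cokernel (Subobject.ofLE A B hAB.le))), Mono ι →
          Coh.IsCoh G → ¬ IsZero G →
          ∀ φ ψ : Polynomial ℚ, (∀ m : ℤ, (Curv2.euler k (CohB1.ProjSpace n k) (CohB1.tensorMod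
            (cokernel (Subobject.ofLE A B hAB.le)) (Twist.twistProjSpace n k m)) : ℚ) = φ.eval (m : ℚ)) →
            (∀ m : ℤ, (Curv2.euler k (CohB1.ProjSpace n k) (CohB1.tensorMod G
              (Twist.twistProjSpace n k m)) : ℚ) = ψ.eval (m : ℚ)) →
            W4c2simpsonmod1.RedLE d ψ φ)) ∧
      (∀ A ∈ C, ∀ B ∈ C, ∀ B' ∈ C, ∀ hAB : A < B, ∀ hBB : B < B',
        (∀ D ∈ C, ¬ (A < D ∧ D < B)) → (∀ D ∈ C, ¬ (B < D ∧ D < B')) →
        ∀ ψ ψ' : Polynomial ℚ, (∀ m : ℤ, (Curv2.euler k (CohB1.ProjSpace n k) (CohB1.tensorMod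
          (cokernel (Subobject.ofLE A B hAB.le)) (Twist.twistProjSpace n k m)) : ℚ) = ψ.eval (m : ℚ)) →
          (∀ m : ℤ, (Curv2.euler k (CohB1.ProjSpace n k) (CohB1.tensorMod
            (cokernel (Subobject.ofLE B B' hBB.le)) (Twist.twistProjSpace n k m)) : ℚ) = ψ'.eval (m : ℚ)) →
          W4c2simpsonmod1.RedLT d ψ' ψ) := by
  classical
  haveI := isLocallyNoetherian (X := CohB1.ProjSpace n k) k
  have hL := isAmple_one n k
  have h0 : ¬ IsZero E := not_isZero_of_dim hpure.1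
  have hp : ShStab.IsPure (CohB1.ProjSpace n k) E d := hpure.2
  obtain ⟨s, hs, huniq⟩ := existsUnique_isHNFiltration k (Twist.twistProjSpace n k 1) hL d E hE h0 hp
  have hscoh := isCoh_of_isHNFiltration s hs
  obtain ⟨hs0, hs1, hsss, hslt⟩ := hs
  refine ⟨Finset.univ.image (fun i => s i), ?_, ?_⟩
  · -- existence
    have mem : ∀ x, x ∈ Finset.univ.image (fun i => s i) ↔ ∃ i, s i = x := by
      intro x; simp
    refine ⟨(mem _).2 ⟨0, hs0⟩, (mem _).2 ⟨Fin.last _, hs1⟩, ?_, ?_, ?_, ?_⟩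
    · intro A hA B hB _
      obtain ⟨a, rfl⟩ := (mem _).1 (Finset.mem_coe.1 hA)
      obtain ⟨b, rfl⟩ := (mem _).1 (Finset.mem_coe.1 hB)
      rcases le_total a b with h | h
      · left; exact s.strictMono.monotone h
      · right; exact s.strictMono.monotone h
    · intro A hA
      obtain ⟨a, rfl⟩ := (mem _).1 hA
      exact hscoh a
    · intro A hA B hB hAB hno
      obtain ⟨i, rfl, rfl⟩ := exists_adjacent s ((mem _).1 hA) ((mem _).1 hB) hAB
        (fun D hD => hno D ((mem _).2 hD))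
      have hss : ShStab.IsSemistable k _ (Twist.twistProjSpace n k 1)
        (cokernel (Subobject.ofLE (s i.castSucc) (s i.succ) hAB.le)) d := hsss i
      obtain ⟨cQ, Q0, pQ, ssQ⟩ := hss
      refine ⟨⟨dim_support_of_pure pQ cQ Q0, pQ⟩, ?_⟩
      intro G ι hι cG G0 φ ψ hφ hψ
      haveI := hι
      have hpφ := isHilbPoly_of_forall_int _ φ hφ
      have hpψ := isHilbPoly_of_forall_int _ ψ hψ
      have aφ : 0 < alpha d φ := alpha_pos k _ hL _ cQ φ hpφ d (dim_support_of_pure pQ cQ Q0)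
      have aψ : 0 < alpha d ψ := alpha_pos_of_sub k _ hL pQ ι cG G0 ψ hpψ
      refine (redLE_iff aψ aφ).2 ?_
      by_cases hiso : IsIso ι
      · have : ψ = φ := isHilbPoly_unique k _ _ _ _ (isHilbPoly_of_iso k _ (asIso ι) ψ hpψ) hpφ
        rw [this]
        exact redLE_refl d φ
      · exact ssQ G ι hι cG G0 hiso ψ φ hpψ hpφ
    · intro A hA B hB B' hB' hAB hBB hno hno' ψ ψ' hψ hψ'
      obtain ⟨i, rfl, hBi⟩ := exists_adjacent s ((mem _).1 hA) ((mem _).1 hB) hAB
        (fun D hD => hno D ((mem _).2 hD))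
      obtain ⟨j, hBj, rfl⟩ := exists_adjacent s ((mem _).1 hB) ((mem _).1 hB') hBB
        (fun D hD => hno' D ((mem _).2 hD))
      subst hBi
      have hij : i.succ = j.castSucc := s.strictMono.injective hBj
      have hij' : i.val + 1 = j.val := by
        have := congrArg Fin.val hij
        simpa using this
      have hpψ : ShStab.IsHilbPoly k _ (Twist.twistProjSpace n k 1) (factor s i) ψ :=
        isHilbPoly_of_forall_int _ ψ hψ
      have hpψ' : ShStab.IsHilbPoly k _ (Twist.twistProjSpace n k 1) (factor s j) ψ' :=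
        isHilbPoly_of_iso k _ (Groth.Agent.Lib.T2H6.JHLattice.cokernelIsoOfEq hBj rfl hBB.le
          (le_of_lt (s.step j))) ψ' (isHilbPoly_of_forall_int _ ψ' hψ')
      have aψ : 0 < alpha d ψ := alpha_pos_of_isSemistable k _ hL (hsss i) ψ hpψ
      have aψ' : 0 < alpha d ψ' := alpha_pos_of_isSemistable k _ hL (hsss j) ψ' hpψ'
      exact (redLT_iff aψ' aψ).2 (hslt i j hij' ψ ψ' hpψ hpψ')
  · -- uniqueness
    rintro C' ⟨hbot, htop, hchain, hcoh, hfac, hdec⟩
    obtain ⟨t, ht⟩ := exists_ltSeries_of_chain C' ⟨⊥, hbot⟩ hchain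
    have hmemt : ∀ i, t i ∈ C' := fun i => (ht _).2 ⟨i, rfl⟩
    have ht0 : t.head = ⊥ := by
      obtain ⟨j, hj⟩ := (ht _).1 hbot
      have : t 0 ≤ t j := t.strictMono.monotone (Fin.zero_le j)
      rw [hj] at this
      exact le_bot_iff.1 this
    have ht1 : t.last = ⊤ := by
      obtain ⟨j, hj⟩ := (ht _).1 htop
      have : t j ≤ t (Fin.last _) := t.strictMono.monotone (Fin.le_last j)
      rw [hj] at this
      exact top_le_iff.1 this
    have hfac' : ∀ i : Fin t.length, ShStab.IsSemistable k _ (Twist.twistProjSpace n k 1) (factor t i) d := by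
      intro i
      obtain ⟨⟨hdim, hpQ⟩, hle⟩ := hfac _ (hmemt i.castSucc) _ (hmemt i.succ) (t.step i)
        (fun D hD => not_between t i D ((ht _).1 hD))
      have cQ : Coh.IsCoh (factor t i) := Groth.Agent.Lib.T2H5.GenIsoB.isCoh_cokernel _
        (hcoh _ (hmemt i.castSucc)) (hcoh _ (hmemt i.succ))
      refine ⟨cQ, not_isZero_of_dim hdim, hpQ, ?_⟩
      intro G ι hι cG G0 _ pG pQ hpG hpQ'
      have h := hle G ι hι cG G0 _ _ (euler_twist_int n k _ cQ) (euler_twist_int n k _ cG)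
      have aG : 0 < alpha d (hilb k (Twist.twistProjSpace n k 1) G) :=
        alpha_pos k _ hL G cG _ (isHilbPoly_hilb k _ hL.1 G cG) d (hpQ G ι hι cG G0)
      have aQ : 0 < alpha d (hilb k (Twist.twistProjSpace n k 1) (factor t i)) :=
        alpha_pos k _ hL _ cQ _ (isHilbPoly_hilb k _ hL.1 _ cQ) d hdim
      have h' := (redLE_iff aG aQ).1 h
      rw [eq_hilb k _ hL.1 G cG pG hpG, eq_hilb k _ hL.1 _ cQ pQ hpQ']
      exact h'
    have htHN : ShStab.IsHNFiltration k _ (Twist.twistProjSpace n k 1) E d t := by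
      refine ⟨ht0, ht1, hfac', ?_⟩
      intro i j hij p q hp hq
      have hsucc : t i.succ = t j.castSucc := by
        congr 1
        ext
        simpa using hij
      have hBB : t i.succ < t j.succ := by rw [hsucc]; exact t.step j
      have cQi := (hfac' i).1
      have cQj := (hfac' j).1
      have e := Groth.Agent.Lib.T2H6.JHLattice.cokernelIsoOfEq hsucc rfl hBB.le (le_of_lt (t.step j))
      have cQ' : Coh.IsCoh (cokernel (Subobject.ofLE (t i.succ) (t j.succ) hBB.le)) :=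
        Groth.Agent.Lib.T2H5.Devissage.isCoh_of_iso e.symm cQj
      have h := hdec _ (hmemt i.castSucc) _ (hmemt i.succ) _ (hmemt j.succ) (t.step i) hBB
        (fun D hD => not_between t i D ((ht _).1 hD))
        (fun D hD => by rw [hsucc]; exact not_between t j D ((ht _).1 hD))
        _ _ (euler_twist_int n k _ cQi) (euler_twist_int n k _ cQ')
      have aQi := alpha_pos_of_isSemistable k _ hL (hfac' i) _ (isHilbPoly_hilb k _ hL.1 _ cQi)
      have hq' : hilb k (Twist.twistProjSpace n k 1) (cokernel (Subobject.ofLE (t i.succ) (t j.succ) hBB.le)) = q :=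
        (eq_hilb k _ hL.1 _ cQ' q (isHilbPoly_of_iso k _ e.symm q hq)).symm
      have aQj := alpha_pos_of_isSemistable k _ hL (hfac' j) q hq
      rw [hq'] at h
      have h' := (redLT_iff aQj aQi).1 h
      rw [eq_hilb k _ hL.1 _ cQi p hp]
      exact h'
    have hts : t = s := huniq t htHN
    subst hts
    ext x
    rw [ht x]
    simp

end main

end Groth.Agent.Lib.T2H6.HNPn
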