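import Mathlib
import Groth.Prelude.Def_CohB1
import Groth.Agent.S3557

/-!
# Projective space over a field is integral (helper6)
-/

set_option autoImplicit false
universe u

open CategoryTheory CategoryTheory.Limits AlgebraicGeometry MvPolynomial

namespace Groth.Agent.Lib.T2H6.PnIntegral

theorem X_mem_irrelevant (n : ℕ) (k : Type u) [Field k] :
    (X 0 : MvPolynomial (Fin (n + 1)) k) ∈
      (HomogeneousIdeal.irrelevant (CohB1.polyGrading n k)).toIdeal := by
  refine (HomogeneousIdeal.mem_irrelevant_iff _ _).2 ?_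
  have hmem : (X 0 : MvPolynomial (Fin (n + 1)) k) ∈ CohB1.polyGrading n k 1 := isHomogeneous_X k 0
  rw [GradedRing.proj_apply, DirectSum.decompose_of_mem_ne (CohB1.polyGrading n k) hmem]
  exact one_ne_zero

instance isIntegral_projSpace (n : ℕ) (k : Type u) [Field k] :
    IsIntegral (CohB1.ProjSpace n k) := by
  refine (Groth.Agent.S3557.result (CohB1.polyGrading n k) ?_).mpr
    ⟨⟨X 0, X_mem_irrelevant n k, X_ne_zero 0⟩, ?_⟩
  · intro f _ hf
    exact hf.eq_zero
  · intro f _ g _ h
    exact mul_eq_zero.mp h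

end Groth.Agent.Lib.T2H6.PnIntegral
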