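import Mathlib
import Groth.Agent.Lib.T2H6P1Lift
import Groth.Agent.Lib.T2H6PnIntegral
import Groth.Agent.Lib.Helper27ProjDim
import Groth.Agent.Lib.T2H6TensorDeg
import Groth.Agent.Lib.T2H6CurveRR
import Groth.Agent.Lib.T2H6HNPn
import Groth.Agent.Lib.T2H5EulerPn
import Groth.Agent.Lib.T2H5SerrePn
import Groth.Agent.Lib.Helper23QAffSec
import Groth.Agent.Lib.T2H5Mumford
import Groth.Agent.Lib.T2H6EulerField
import Groth.Agent.Lib.T2H6CurveVanish

/-!
# The projective line as a regular curve; non-regularity of vector bundles (T2H6)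

* `hdim1`, `hreg1`: `P^1_k` has dimension one and regular local rings.
* `exists_nontrivial_H1`: a vector bundle of positive rank on `P^1_k` has a twist with `H¹ ≠ 0`.
* `exists_regular_not_regular`: a vector bundle `F` of positive rank on `P^1_k` is `m`-regular with
  `H¹(F(m-2)) ≠ 0` for a suitable `m`.
-/

set_option autoImplicit false
universe u

open CategoryTheory CategoryTheory.Limits AlgebraicGeometry TopologicalSpace Opposite

namespace Groth.Agent.Lib.T2H6.GSplit

section Alg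

theorem isPrincipalIdealRing_of_isLocalization {R S : Type*} [CommRing R] [CommRing S]
    [Algebra R S] (M : Submonoid R) [IsLocalization M S] [IsPrincipalIdealRing R] :
    IsPrincipalIdealRing S := by
  refine ⟨fun J => ?_⟩
  obtain ⟨a, ha⟩ := (IsPrincipalIdealRing.principal (J.under R)).principal
  refine ⟨⟨algebraMap R S a, ?_⟩⟩
  have h1 := IsLocalization.map_under M S J
  rw [ha] at h1
  rw [← h1]
  change Ideal.map (algebraMap R S) (Ideal.span {a}) = Ideal.span {algebraMap R S a}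
  rw [Ideal.map_span, Set.image_singleton]

end Alg

variable (k : Type u) [Field k]

open Groth.Agent.Lib.T2H6.HNPn

theorem hdim1 : topologicalKrullDim (CohB1.ProjSpace 1 k) = 1 := by
  have h3 : topologicalKrullDim (CohB1.ProjSpace 1 k) = ((1 : ℕ) : WithBot ℕ∞) :=
    Groth.Agent.Lib.Helper27ProjDim.main k 1
  rw [h3]
  rfl

theorem hreg1 (x : CohB1.ProjSpace 1 k) :
    IsRegularLocalRing ((CohB1.ProjSpace 1 k).presheaf.stalk x) := by
  obtain ⟨U, hxU, hdom, hpid⟩ := Groth.Agent.Lib.T2H6.P1Lift.exists_pid_cover k x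
  have hloc := U.2.isLocalization_stalk ⟨x, hxU⟩
  let _ : Algebra Γ(CohB1.ProjSpace 1 k, U.1) ((CohB1.ProjSpace 1 k).presheaf.stalk x) :=
    TopCat.Presheaf.algebra_section_stalk (CohB1.ProjSpace 1 k).presheaf ⟨x, hxU⟩
  have hp : IsPrincipalIdealRing ((CohB1.ProjSpace 1 k).presheaf.stalk x) :=
    isPrincipalIdealRing_of_isLocalization (U.2.primeIdealOf ⟨x, hxU⟩).asIdeal.primeCompl
  infer_instance

open Groth.Agent.Lib.T2H5.Twist

theorem isCoh_of_rank (r : ℕ) (F : (CohB1.ProjSpace 1 k).Modules)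
    (hF : FlatMod.IsFinLocFreeOfRank r F) : Coh.IsCoh F :=
  Groth.Agent.Lib.T2H6.RankAdd.isCoh_of_isFinLocFreeOfRank F r hF

/-- `χ(O(j)) = j + 1` on `P^1_k`. -/
theorem euler_twist (j : ℤ) :
    Curv2.euler k (CohB1.ProjSpace 1 k) (Twist.twistProjSpace 1 k j) = j + 1 := by
  have hq : (Twist.twistProjSpace 1 k j).IsQuasicoherent :=
    (Groth.Agent.Lib.T2H5.PnFinite.isCoh_twist 1 k j).1
  rw [Groth.Agent.Lib.T2H6.EulerField.euler_eq_sum k (CohB1.ProjSpace 1 k) _ 1
    (fun i hi => Groth.Agent.Lib.T2H6.CurveVanish.subsingleton_HH_of_two_le k (hdim1 k) _ i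
      (by omega))]
  rw [Groth.Agent.Lib.T2H5.EulerPn.euler_char k 1 Nat.one_pos j, Ring.choose_one_right]
  push_cast
  ring

/-- a vector bundle of positive rank on `P^1_k` has a twist with nonzero `H¹`. -/
theorem exists_nontrivial_H1 (r : ℕ) (hr : 0 < r) (F : (CohB1.ProjSpace 1 k).Modules)
    (hF : FlatMod.IsFinLocFreeOfRank r F) :
    ∃ j : ℤ, Nontrivial (Coh.HH (CohB1.ProjSpace 1 k)
      (CohB1.tensorMod F (Twist.twistProjSpace 1 k j)) 1) := by
  have hFc := isCoh_of_rank k r F hF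
  set eO := Curv2.euler k (CohB1.ProjSpace 1 k) (Coh.structureModule (CohB1.ProjSpace 1 k)) with heO
  set eF := Curv2.euler k (CohB1.ProjSpace 1 k) F with heF
  have hte : ∀ j : ℤ, Curv2.euler k (CohB1.ProjSpace 1 k)
      (CohB1.tensorMod F (Twist.twistProjSpace 1 k j)) = (r : ℤ) * ((j + 1) - eO) + eF := by
    intro j
    have h := Groth.Agent.Lib.T2H6.TensorDeg.tensor_euler k (hdim1 k) (Twist.twistProjSpace 1 k j) 1
      (Groth.Agent.Lib.Helper23.SecTw.isFinLocFreeOfRank_one_of_isInvertible _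
        (isInvertible_twist 1 k j)) F hFc
    rw [Groth.Agent.Lib.T2H6.CurveSS2.grank_of_isFinLocFreeOfRank F r hF] at h
    unfold Curv2.deg at h
    rw [euler_twist] at h
    rw [h]
    push_cast
    ring
  set c : ℤ := (r : ℤ) * eO - eF with hc
  refine ⟨-|c| - 2, ?_⟩
  have hq : (CohB1.tensorMod F (Twist.twistProjSpace 1 k (-|c| - 2))).IsQuasicoherent :=
    (Groth.Agent.Lib.T2H5.Mumford.isCoh_tw 1 k F hFc _).1
  have h1 := Groth.Agent.Lib.T2H6.CurveRR.euler_eq_sub k (hdim1 k)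
    (CohB1.tensorMod F (Twist.twistProjSpace 1 k (-|c| - 2)))
  rw [hte] at h1
  have hr' : (1 : ℤ) ≤ (r : ℤ) := by exact_mod_cast hr
  have h2 := neg_abs_le c
  have h3 := abs_nonneg c
  have h4 : (0 : ℤ) ≤ (Module.finrank k (Coh.HH (CohB1.ProjSpace 1 k)
      (CohB1.tensorMod F (Twist.twistProjSpace 1 k (-|c| - 2))) 0) : ℤ) := Int.natCast_nonneg _
  have hpos : 0 < Module.finrank k (Coh.HH (CohB1.ProjSpace 1 k)
      (CohB1.tensorMod F (Twist.twistProjSpace 1 k (-|c| - 2))) 1) := by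
    have : (0 : ℤ) < (Module.finrank k (Coh.HH (CohB1.ProjSpace 1 k)
        (CohB1.tensorMod F (Twist.twistProjSpace 1 k (-|c| - 2))) 1) : ℤ) := by
      nlinarith
    exact_mod_cast this
  exact Module.nontrivial_of_finrank_pos (R := k) hpos

/-- a vector bundle `F` of positive rank on `P^1_k` is `m`-regular with `H¹(F(m-2)) ≠ 0` for a
suitable `m`. -/
theorem exists_regular_not_regular (r : ℕ) (hr : 0 < r) (F : (CohB1.ProjSpace 1 k).Modules)
    (hF : FlatMod.IsFinLocFreeOfRank r F) :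
    ∃ m : ℤ, Curv2.IsMRegular k 1 F m ∧ Nontrivial (Coh.HH (CohB1.ProjSpace 1 k)
      (CohB1.tensorMod F (Twist.twistProjSpace 1 k (m - 1 - (1 : ℕ)))) 1) := by
  have hFc := isCoh_of_rank k r F hF
  obtain ⟨j₀, hj₀⟩ := exists_nontrivial_H1 k r hr F hF
  obtain ⟨d₀, hd₀⟩ := Groth.Agent.Lib.T2H5.SerrePn.serre_vanishing 1 k F hFc
  obtain ⟨j₁, hj₁, hmax⟩ := Int.exists_greatest_of_bdd
    (P := fun j : ℤ => Nontrivial (Coh.HH (CohB1.ProjSpace 1 k)
      (CohB1.tensorMod F (Twist.twistProjSpace 1 k j)) 1))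
    ⟨d₀, fun z hz => by
      by_contra hlt
      push Not at hlt
      have := hd₀ z hlt.le 1 le_rfl
      exact not_subsingleton _ this⟩ ⟨j₀, hj₀⟩
  refine ⟨j₁ + 2, ?_, ?_⟩
  · intro i hi hin
    obtain rfl : i = 1 := by omega
    have he : j₁ + 2 - ((1 : ℕ) : ℤ) = j₁ + 1 := by push_cast; ring
    rw [he]
    by_contra hns
    rw [not_subsingleton_iff_nontrivial] at hns
    have := hmax (j₁ + 1) hns
    omega
  · have he : j₁ + 2 - 1 - ((1 : ℕ) : ℤ) = j₁ := by push_cast; ring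
    rw [he]
    exact hj₁

end Groth.Agent.Lib.T2H6.GSplit
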