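import Mathlib
import Groth.Prelude.Def_EGA4Misc
import Groth.Agent.Lib.Helper4DimFormulaAE
import Groth.Agent.Lib.T2H3Birat

/-!
# Codimension does not increase along a birational morphism locally of finite type (helper9)
-/

set_option autoImplicit false
set_option linter.style.haveILetI false
universe u

open AlgebraicGeometry CategoryTheory

namespace Groth.Agent.Lib.T2H9.BiratDim

open Groth.Agent.Lib.Helper4.DimFormula

variable {X Y : Scheme.{u}}

/-- `ptTrdeg = 0` when the residue field map is bijective. -/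
theorem ptTrdeg_eq_zero_of_bijective (f : Y ⟶ X) [LocallyOfFiniteType f] (η : Y)
    (h : Function.Bijective (f.residueFieldMap η).hom) : ptTrdeg f η = 0 := by
  have h1 := trdeg_eq_ptTrdeg f η
  letI := (f.residueFieldMap η).hom.toAlgebra
  have hsurj : Function.Surjective (algebraMap (X.residueField (f.base η)) (Y.residueField η)) :=
    h.2
  haveI : Algebra.IsIntegral (X.residueField (f.base η)) (Y.residueField η) :=
    Algebra.isIntegral_of_surjective hsurj
  haveI : Algebra.IsAlgebraic (X.residueField (f.base η)) (Y.residueField η) := inferInstance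
  rw [trdeg_eq_zero] at h1
  exact_mod_cast h1.symm

/-- The dimension inequality when maximal points have `ptTrdeg = 0`. -/
theorem stalk_dim_add_ptTrdeg_le [IsLocallyNoetherian X] (f : Y ⟶ X) [LocallyOfFiniteType f]
    (h0 : ∀ η : Y, (∀ z : Y, z ⤳ η → z = η) → ptTrdeg f η = 0) (y : Y) :
    ringKrullDim (Y.presheaf.stalk y) + (ptTrdeg f y : WithBot ℕ∞) ≤
      ringKrullDim (X.presheaf.stalk (f.base y)) := by
  haveI : IsLocallyNoetherian Y := LocallyOfFiniteType.isLocallyNoetherian f
  obtain ⟨𝔮, hmin, hdim⟩ :=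
    exists_minimalPrimes_ringKrullDim_quotient_eq (R := Y.presheaf.stalk y)
  haveI : 𝔮.IsPrime := hmin.1.1
  have hmax := (mem_minimalPrimes_iff_fromSpecStalk_maximal y 𝔮).mp hmin
  have h1 := ringKrullDim_quotient_add_ptTrdeg_le f y 𝔮
  rw [h0 _ hmax, hdim] at h1
  refine h1.trans ?_
  rw [Nat.cast_zero, add_zero]
  exact ringKrullDim_quotient_le _

theorem main (f : Y ⟶ X) [IsLocallyNoetherian X] [LocallyOfFiniteType f]
    (hf : RadPt.IsBirational f) (y : Y) :
    ringKrullDim (Y.presheaf.stalk y) ≤ ringKrullDim (X.presheaf.stalk (f.base y)) := by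
  have h0 : ∀ η : Y, (∀ z : Y, z ⤳ η → z = η) → ptTrdeg f η = 0 := by
    intro η hη
    have hgen : η ∈ genericPoints Y := (T2H3.Birat.mem_genericPoints_iff η).mpr hη
    have hfη : f η ∈ genericPoints X := hf.1.mapsTo hgen
    exact ptTrdeg_eq_zero_of_bijective f η ((hf.2 _ hfη).2 η rfl)
  refine le_trans ?_ (stalk_dim_add_ptTrdeg_le f h0 y)
  exact le_add_of_nonneg_right (by exact_mod_cast Nat.zero_le _)

end Groth.Agent.Lib.T2H9.BiratDim
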