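import Mathlib
import Groth.Agent.Lib.T2H9BiratDim
import Groth.Agent.Lib.Helper4DimFormulaAN
import Groth.Agent.Lib.Helper4DimFormulaAR

/-!
# Finite fibres of a birational morphism of finite type over points of codimension `≤ 1` (helper9)
-/

set_option autoImplicit false
set_option linter.style.haveILetI false
universe u

open AlgebraicGeometry CategoryTheory TopologicalSpace

namespace Groth.Agent.Lib.T2H9.BiratFib

open Groth.Agent.Lib.Helper4.DimFormula Groth.Agent.Lib.T2H9.BiratDim

/-- A Noetherian quasi-sober space without nontrivial specializations is finite. -/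
theorem finite_of_forall_specializes_eq {α : Type*} [TopologicalSpace α] [NoetherianSpace α]
    [QuasiSober α] (h : ∀ a b : α, a ⤳ b → a = b) : Finite α := by
  rw [← Set.finite_univ_iff, ← sUnion_irreducibleComponents]
  refine Set.Finite.sUnion NoetherianSpace.finite_irreducibleComponents ?_
  intro Z hZ
  obtain ⟨ζ, hζ⟩ := QuasiSober.sober hZ.1 (isClosed_of_mem_irreducibleComponents Z hZ)
  refine (Set.finite_singleton ζ).subset ?_
  intro z hz
  have : ζ ⤳ z := hζ.specializes hz
  exact (h ζ z this).symm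

variable {X Y : Scheme.{u}}

/-- In a locally Noetherian scheme, a maximal point lies in every dense open. -/
theorem mem_of_dense_of_maximal [IsLocallyNoetherian Y] (W : Y.Opens) (hW : Dense (W : Set Y))
    (η : Y) (hη : ∀ z : Y, z ⤳ η → z = η) : η ∈ W := by
  obtain ⟨_, ⟨N, hN : IsAffineOpen N, rfl⟩, hηN, -⟩ :=
    Y.isBasis_affineOpens.exists_subset_of_mem_open (Set.mem_univ η) isOpen_univ
  haveI : IsNoetherianRing Γ(Y, N) := IsLocallyNoetherian.component_noetherian ⟨N, hN⟩
  haveI : NoetherianSpace ↥(N : Set Y) := noetherianSpace_of_isAffineOpen N hN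
  haveI : QuasiSober ↥(N : Set Y) := N.2.isOpenEmbedding_subtypeVal.quasiSober
  let η' : ↥(N : Set Y) := ⟨η, hηN⟩
  have hη' : η' ∈ genericPoints ↥(N : Set Y) := by
    rw [T2H3.Birat.mem_genericPoints_iff]
    intro z hz
    have : (z : Y) ⤳ η := (Topology.IsInducing.subtypeVal.specializes_iff).mpr hz
    exact Subtype.ext (hη _ this)
  obtain ⟨o, ho, hone, hoZ⟩ :=
    NoetherianSpace.exists_isOpen_nonempty_subset_irreducibleComponent
      (closure ({η'} : Set ↥(N : Set Y))) hη'
  have ho' : IsOpen (Subtype.val '' o : Set Y) := N.2.isOpenMap_subtype_val o ho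
  obtain ⟨w, ⟨w', hw'o, rfl⟩, hwW⟩ := hW.inter_open_nonempty _ ho' (hone.image _)
  have h1 : η' ⤳ w' := specializes_iff_mem_closure.mpr (hoZ hw'o)
  have h2 : η ⤳ (w' : Y) := (Topology.IsInducing.subtypeVal.specializes_iff).mpr h1
  exact h2.mem_open W.2 hwW

theorem ptTrdeg_congr {f g : Y ⟶ X} (h : f = g) [LocallyOfFiniteType f] [LocallyOfFiniteType g]
    (y : Y) : ptTrdeg f y = ptTrdeg g y := by
  subst h
  rfl

/-- `ptTrdeg = 0` at points over an open over which `f` is an isomorphism. -/
theorem ptTrdeg_eq_zero_of_isIso_restrict (f : Y ⟶ X) [LocallyOfFiniteType f] (U : X.Opens)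
    [IsIso (f ∣_ U)] (η : Y) (hη : η ∈ f ⁻¹ᵁ U) : ptTrdeg f η = 0 := by
  let η' : ↥(f ⁻¹ᵁ U) := ⟨η, hη⟩
  have h1 : ptTrdeg ((f ⁻¹ᵁ U).ι ≫ f) η' = ptTrdeg f η :=
    ptTrdeg_comp_of_isPreimmersion (f ⁻¹ᵁ U).ι f η'
  have h2 : ptTrdeg ((f ∣_ U) ≫ U.ι) η' = 0 := by
    rw [ptTrdeg_comp, ptTrdeg_eq_zero_of_isPreimmersion, ptTrdeg_eq_zero_of_isPreimmersion]
  rw [← h1, ← h2]
  exact ptTrdeg_congr (morphismRestrict_ι f U).symm η'

end Groth.Agent.Lib.T2H9.BiratFib

namespace Groth.Agent.Lib.T2H9.BiratFib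

open Groth.Agent.Lib.Helper4.DimFormula Groth.Agent.Lib.T2H9.BiratDim Order

variable {X Y : Scheme.{u}}

theorem main [IsLocallyNoetherian X] [IsLocallyNoetherian Y] (f : Y ⟶ X) [LocallyOfFiniteType f]
    [QuasiCompact f] (U : X.Opens)
    (hU' : Dense ((f ⁻¹ᵁ U : Y.Opens) : Set Y)) (hiso : IsIso (f ∣_ U))
    (x : X) (hx : ringKrullDim (X.presheaf.stalk x) ≤ 1) :
    (f.base ⁻¹' {x}).Finite := by
  by_cases hxU : x ∈ U
  · refine Set.Subsingleton.finite ?_
    intro y₁ hy₁ y₂ hy₂
    have e1 : f.base y₁ = x := hy₁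
    have e2 : f.base y₂ = x := hy₂
    have h1 : y₁ ∈ f ⁻¹ᵁ U := by
      change f.base y₁ ∈ U
      rw [e1]; exact hxU
    have h2 : y₂ ∈ f ⁻¹ᵁ U := by
      change f.base y₂ ∈ U
      rw [e2]; exact hxU
    have hinj : Function.Injective (f ∣_ U).base := (f ∣_ U).homeomorph.injective
    have : (⟨y₁, h1⟩ : ↥(f ⁻¹ᵁ U)) = ⟨y₂, h2⟩ := by
      apply hinj
      apply Subtype.ext
      rw [morphismRestrict_base_coe, morphismRestrict_base_coe]
      exact e1.trans e2.symm
    exact congrArg Subtype.val this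
  · have h0 : ∀ η : Y, (∀ z : Y, z ⤳ η → z = η) → ptTrdeg f η = 0 := fun η hη =>
      ptTrdeg_eq_zero_of_isIso_restrict f U η (mem_of_dense_of_maximal _ hU' η hη)
    have hdim : ∀ y : Y, f.base y = x → ringKrullDim (Y.presheaf.stalk y) ≤ 1 := by
      intro y hy
      have h1 := stalk_dim_add_ptTrdeg_le f h0 y
      rw [hy] at h1
      refine le_trans ?_ (h1.trans hx)
      exact le_add_of_nonneg_right (by exact_mod_cast Nat.zero_le _)
    have hnospec : ∀ y y' : Y, f.base y = x → f.base y' = x → y ⤳ y' → y = y' := by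
      intro y y' hy hy' hspec
      by_contra hne
      have hynot : ¬ ∀ z : Y, z ⤳ y → z = y := by
        intro hmax
        have := mem_of_dense_of_maximal _ hU' y hmax
        change f.base y ∈ U at this
        rw [hy] at this
        exact hxU this
      push Not at hynot
      obtain ⟨z, hzy, hzne⟩ := hynot
      have hlt1 : y' < y := by
        refine lt_of_le_not_ge (Scheme.le_iff_specializes.mpr hspec) ?_
        intro hle
        exact hne ((Scheme.le_iff_specializes.mp hle).antisymm hspec).symm.eq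
      have hlt2 : y < z := by
        refine lt_of_le_not_ge (Scheme.le_iff_specializes.mpr hzy) ?_
        intro hle
        exact hzne ((Scheme.le_iff_specializes.mp hle).antisymm hzy).symm.eq
      have c1 := coheight_add_one_le hlt1
      have c2 := coheight_add_one_le hlt2
      have hd := hdim y' hy'
      rw [ringKrullDim_stalk_eq_coheight] at hd
      have hd' : coheight y' ≤ 1 := by exact_mod_cast hd
      have h3 : coheight z + 1 + 1 ≤ 1 := (add_le_add_left c2 1).trans (c1.trans hd')
      have : (2 : ℕ∞) ≤ 1 :=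
        le_trans (by rw [show (2 : ℕ∞) = 0 + 1 + 1 by norm_num]; gcongr; exact zero_le) h3
      exact absurd this (by norm_num)
    haveI : IsLocallyNoetherian (f.fiber x) :=
      LocallyOfFiniteType.isLocallyNoetherian (f.fiberToSpecResidueField x)
    haveI : IsNoetherian (f.fiber x) := {}
    haveI : Finite ↥(f.fiber x) := by
      apply finite_of_forall_specializes_eq
      intro a b hab
      have h1 : f.fiberHomeo x a ⤳ f.fiberHomeo x b := hab.map (f.fiberHomeo x).continuous
      have h2 : (f.fiberHomeo x a : Y) ⤳ (f.fiberHomeo x b : Y) :=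
        (Topology.IsInducing.subtypeVal.specializes_iff).mpr h1
      have h3 := hnospec _ _ (f.fiberHomeo x a).2 (f.fiberHomeo x b).2 h2
      exact (f.fiberHomeo x).injective (Subtype.ext h3)
    exact Set.finite_coe_iff.mp (Finite.of_equiv _ (f.fiberHomeo x).toEquiv)

end Groth.Agent.Lib.T2H9.BiratFib
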