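import Mathlib
import Groth.Agent.Lib.T2H6TensorDegGen
import Groth.Agent.Lib.T2H9BiratFib
import Groth.Agent.Lib.Helper4FibDimL
import Groth.Agent.Lib.T2H6EffCartier
import Groth.Agent.Lib.T2H6HHLin
import Groth.Agent.S0047
set_option backward.isDefEq.respectTransparency.types false

/-!
# Finite birational morphisms of proper schemes of dimension `≤ 1` (helper6)

* `deg_pullback_eq_psi`: for a finite morphism `f : X' ⟶ X` over a field, `deg(f^*E) = Ψ_E(f_* O_{X'})`.
* `isFinite_of_birational`: a proper morphism to a locally Noetherian scheme of dimension `≤ 1` which is an isomorphism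
  over an open with dense preimage is finite.
* `deg_pullback_birational`, `genus_le_of_birational`.
-/

set_option autoImplicit false
set_option linter.style.haveILetI false
set_option linter.unusedSectionVars false
universe u

open AlgebraicGeometry CategoryTheory Limits TopologicalSpace Opposite

namespace Groth.Agent.Lib.T2H6.FinBir

open Groth.Agent.Lib.T2H5.Twist Groth.Agent.Lib.T2H6.TensorDeg Groth.Agent.Lib.T2H6.TensorDegGen
  Groth.Agent.Lib.T2H6.AddFn

section Core

variable {X X' : Scheme.{u}} (f : X' ⟶ X) (k : Type u) [Field k]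
  [X.Over (Spec (CommRingCat.of k))] [X'.Over (Spec (CommRingCat.of k))]
  [IsProper (X ↘ Spec (CommRingCat.of k))]

/-- **the degree of a pullback along a finite morphism**: `deg(f^*E) = Ψ_E(f_* O_{X'})`. -/
theorem deg_pullback_eq_psi [IsFinite f]
    (hf : f ≫ (X ↘ Spec (CommRingCat.of k)) = X' ↘ Spec (CommRingCat.of k))
    (n : ℕ) (E : X.Modules) (hE : FlatMod.IsFinLocFreeOfRank n E) :
    Curv2.deg k X' ((Scheme.Modules.pullback f).obj E) n =
      TensorDeg.psi k E n ((Scheme.Modules.pushforward f).obj (Coh.structureModule X')) := by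
  haveI : IsProper (X' ↘ Spec (CommRingCat.of k)) := by
    rw [← hf]; infer_instance
  have hEc := Groth.Agent.Lib.T2H6.RankAdd.isCoh_of_isFinLocFreeOfRank E n hE
  haveI := hEc.1
  have hlf : FlatMod.IsFinLocFree E := fun x => by
    obtain ⟨U, hx, h⟩ := hE x
    exact ⟨U, n, hx, h⟩
  have hE' : FlatMod.IsFinLocFreeOfRank n ((Scheme.Modules.pullback f).obj E) :=
    Groth.Agent.Lib.Helper26.ModRank.isFinLocFreeOfRank_pullback f E hE
  have hEc' := Groth.Agent.Lib.T2H6.RankAdd.isCoh_of_isFinLocFreeOfRank _ n hE'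
  have hOc : Coh.IsCoh (Coh.structureModule X') :=
    Groth.Agent.Lib.T2H5.GenIsoF.isCoh_structureModule
  haveI := hOc.1
  have hT : Coh.IsCoh (CohB1.tensorMod (Coh.structureModule X') ((Scheme.Modules.pullback f).obj E)) :=
    isCoh_tensor _ _ hOc hEc'
  haveI := hT.1
  obtain ⟨e⟩ := nonempty_push_tensor_pullback_iso f E hlf (Coh.structureModule X')
  obtain ⟨ε⟩ := Groth.Agent.Lib.T2H6.TensorFree.nonempty_unitTensorIso'
    ((Scheme.Modules.pullback f).obj E)
  have h1 : Curv2.euler k X (CohB1.tensorMod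
      ((Scheme.Modules.pushforward f).obj (Coh.structureModule X')) E) =
      Curv2.euler k X' ((Scheme.Modules.pullback f).obj E) := by
    rw [← Groth.Agent.Lib.T2H6.HiggsCurve.euler_eq_of_iso k e
      (Groth.Agent.Lib.T2H5.ClosedTransfer.isCoh_pushforward f _ hT),
      euler_pushforward f k hf _, Groth.Agent.Lib.T2H6.HiggsCurve.euler_eq_of_iso k ε hT]
  have h2 : Curv2.euler k X ((Scheme.Modules.pushforward f).obj (Coh.structureModule X')) =
      Curv2.euler k X' (Coh.structureModule X') := euler_pushforward f k hf _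
  unfold TensorDeg.psi Curv2.deg
  rw [h1, h2]

end Core

section Birational

variable {X X' : Scheme.{u}} (f : X' ⟶ X)

/-- the sections of `f` over opens inside an open over which `f` is an isomorphism. -/
theorem isIso_app_of_isIso_restrict (U : X.Opens) [IsIso (f ∣_ U)] (W : X.Opens) (hW : W ≤ U) :
    IsIso (f.app W) := by
  obtain ⟨V, rfl⟩ : ∃ V : (U : Scheme.{u}).Opens, U.ι ''ᵁ V = W := by
    refine ⟨U.ι ⁻¹ᵁ W, ?_⟩
    rw [Scheme.Hom.image_preimage_eq_opensRange_inf, Scheme.Opens.opensRange_ι]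
    exact inf_eq_right.2 hW
  have h := morphismRestrict_app f U V
  have h0 : IsIso ((f ∣_ U).app V) := inferInstance
  haveI : IsIso (f.app (U.ι ''ᵁ V) ≫
      X'.presheaf.map (eqToHom (image_morphismRestrict_preimage f U V)).op) := by
    rw [← h]; exact h0
  exact IsIso.of_isIso_comp_right (f.app (U.ι ''ᵁ V))
    (X'.presheaf.map (eqToHom (image_morphismRestrict_preimage f U V)).op)

/-- `O_X ⟶ f_* O_{X'}` is an isomorphism over an open over which `f` is an isomorphism. -/
theorem isoOn_unitToPush (U : X.Opens) [IsIso (f ∣_ U)] :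
    Groth.Agent.Lib.Helper23.Extend.IsoOn (ClSub.unitToPush f) U := by
  intro W hW
  haveI := isIso_app_of_isIso_restrict f U W hW
  rw [ConcreteCategory.isIso_iff_bijective]
  exact (ConcreteCategory.isIso_iff_bijective (f.app W)).1 inferInstance

/-- a proper morphism to a locally Noetherian scheme of dimension `≤ 1`, which is an isomorphism over an open with
dense preimage, is finite. -/
theorem isFinite_of_birational [IsLocallyNoetherian X] [IsProper f] (hdim : topologicalKrullDim X ≤ 1)
    (U : X.Opens) (hU' : Dense ((f ⁻¹ᵁ U : X'.Opens) : Set X')) (hiso : IsIso (f ∣_ U)) :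
    IsFinite f := by
  haveI : IsLocallyNoetherian X' := LocallyOfFiniteType.isLocallyNoetherian f
  haveI : LocallyQuasiFinite f := LocallyQuasiFinite.of_finite_preimage_singleton f (fun x =>
    Groth.Agent.Lib.T2H9.BiratFib.main f U hU' hiso x
      ((Groth.Agent.Lib.Helper4.FibDim.ringKrullDim_stalk_le_topologicalKrullDim X x).trans hdim))
  exact IsFinite.of_isProper_of_locallyQuasiFinite f

/-- in a locally Noetherian scheme of dimension `≤ 1`, the points outside a dense open are closed. -/
theorem isClosed_singleton_of_notMem_dense [IsLocallyNoetherian X] (hdim : topologicalKrullDim X ≤ 1)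
    (U : X.Opens) (hU : Dense (U : Set X)) (x : X) (hx : x ∉ U) : IsClosed ({x} : Set X) := by
  by_contra hcl
  apply hx
  refine Groth.Agent.Lib.T2H9.BiratFib.mem_of_dense_of_maximal U hU x ?_
  intro z hz
  by_contra hne
  exact hcl (Groth.Agent.Lib.T2H6.EffCartier.isClosed_singleton_of_specializes hdim x z hz hne)

end Birational

section Compare

open Groth.Agent.Lib.T2H5.GenIsoB Groth.Agent.Lib.Helper23.Extend

variable {X : Scheme.{u}}

/-- an additive function vanishing on modules supported at closed points takes the same value on two coherent modules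
related by a morphism which is an isomorphism over a dense open, on a Noetherian scheme of dimension `≤ 1`. -/
theorem IsAddFn.eq_of_isoOn_dense [IsNoetherian X] (hdim : topologicalKrullDim X ≤ 1)
    {Φ : X.Modules → ℤ} (hΦ : IsAddFn Φ) (hpt : VanishesOnPoints Φ) {A B : X.Modules} (φ : A ⟶ B)
    (hA : Coh.IsCoh A) (hB : Coh.IsCoh B) (U : X.Opens) (hU : Dense (U : Set X)) (hφ : IsoOn φ U) :
    Φ A = Φ B := by
  have hK : Coh.IsCoh (kernel φ) := isCoh_kernel φ hA hB
  have hC : Coh.IsCoh (cokernel φ) := isCoh_cokernel φ hA hB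
  have hIm : Coh.IsCoh (kernel (cokernel.π φ)) := isCoh_kernel _ hB hC
  have hCoim : Coh.IsCoh (cokernel (kernel.ι φ)) := isCoh_cokernel _ hK hA
  have h1 := hΦ.add (kerSC φ) (kerSC_shortExact φ) hK hA hCoim
  have h2 := hΦ.add (cokerSC φ) (cokerSC_shortExact φ) hIm hB hC
  change Φ A = Φ (kernel φ) + Φ (cokernel (kernel.ι φ)) at h1
  change Φ B = Φ (kernel (cokernel.π φ)) + Φ (cokernel φ) at h2
  have h3 : Φ (kernel φ) = 0 :=
    Groth.Agent.Lib.T2H6.AddFnB.IsAddFn.eq_zero_of_closedPoints hΦ hpt _ hK (fun x hx =>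
      isClosed_singleton_of_notMem_dense hdim U hU x
        (fun hxU => notMem_support_kernel_of_isoOn φ U hφ x hxU hx))
  have h4 : Φ (cokernel φ) = 0 :=
    Groth.Agent.Lib.T2H6.AddFnB.IsAddFn.eq_zero_of_closedPoints hΦ hpt _ hC (fun x hx =>
      isClosed_singleton_of_notMem_dense hdim U hU x
        (fun hxU => notMem_support_cokernel_of_isoOn φ U hφ x hxU hx))
  have h5 : Φ (cokernel (kernel.ι φ)) = Φ (kernel (cokernel.π φ)) :=
    hΦ.iso (Abelian.coimageIsoImage φ) hCoim
  rw [h1, h2, h3, h4, h5, zero_add, add_zero]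

variable (k : Type u) [Field k] [X.Over (Spec (CommRingCat.of k))]
  [IsProper (X ↘ Spec (CommRingCat.of k))]

/-- **degree of a pullback along a birational morphism** of proper schemes of dimension `≤ 1`. -/
theorem deg_pullback_birational {X' : Scheme.{u}} [X'.Over (Spec (CommRingCat.of k))]
    (hdim : topologicalKrullDim X ≤ 1) (f : X' ⟶ X)
    (hf : f ≫ (X ↘ (Spec (CommRingCat.of k))) = X' ↘ (Spec (CommRingCat.of k))) [IsProper f]
    (U : X.Opens) (hU : Dense (U : Set X)) (hU' : Dense ((f ⁻¹ᵁ U : X'.Opens) : Set X'))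
    (hfU : IsIso (f ∣_ U))
    (n : ℕ) (E : X.Modules) (hE : FlatMod.IsFinLocFreeOfRank n E) :
    Curv2.deg k X' ((Scheme.Modules.pullback f).obj E) n = Curv2.deg k X E n := by
  haveI : IsNoetherian X := Groth.Agent.Lib.T2H6.CurveSatur.isNoetherian_of_proper k
  haveI : IsFinite f := isFinite_of_birational f hdim U hU' hfU
  have hEc := Groth.Agent.Lib.T2H6.RankAdd.isCoh_of_isFinLocFreeOfRank E n hE
  have hOc : Coh.IsCoh (Coh.structureModule X) :=
    Groth.Agent.Lib.T2H5.GenIsoF.isCoh_structureModule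
  have hOc' : Coh.IsCoh (Coh.structureModule X') :=
    Groth.Agent.Lib.T2H5.GenIsoF.isCoh_structureModule
  rw [deg_pullback_eq_psi f k hf n E hE,
    ← IsAddFn.eq_of_isoOn_dense hdim (isAddFn_psi k E n hE) (vanishesOnPoints_psi k E n hE)
      (ClSub.unitToPush f) hOc (Groth.Agent.Lib.T2H5.ClosedTransfer.isCoh_pushforward f _ hOc')
      U hU (isoOn_unitToPush f U)]
  obtain ⟨ε⟩ := Groth.Agent.Lib.T2H6.TensorFree.nonempty_unitTensorIso' E
  unfold TensorDeg.psi Curv2.deg
  rw [Groth.Agent.Lib.T2H6.HiggsCurve.euler_eq_of_iso k ε (isCoh_tensor _ E hOc hEc)]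

end Compare

section Genus

open Groth.Agent.Lib.T2H5.GenIsoB Groth.Agent.Lib.Helper23.Extend Groth.Agent.Lib.T2H6.HHLin

variable {X : Scheme.{u}} (k : Type u) [Field k] [X.Over (Spec (CommRingCat.of k))]
  [IsProper (X ↘ Spec (CommRingCat.of k))]

/-- `h¹(B) ≤ h¹(A)` for a morphism `A ⟶ B` of coherent modules with `H²(ker) = 0` and `H¹(coker) = 0`. -/
theorem finrank_HH_one_le {A B : X.Modules} (φ : A ⟶ B) (hA : Coh.IsCoh A) (hB : Coh.IsCoh B)
    (hK2 : Subsingleton (Coh.HH X (kernel φ) 2)) (hC1 : Subsingleton (Coh.HH X (cokernel φ) 1)) :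
    Module.finrank k (Coh.HH X B 1) ≤ Module.finrank k (Coh.HH X A 1) := by
  haveI : IsNoetherian X := Groth.Agent.Lib.T2H6.CurveSatur.isNoetherian_of_proper k
  have hK : Coh.IsCoh (kernel φ) := isCoh_kernel φ hA hB
  have hC : Coh.IsCoh (cokernel φ) := isCoh_cokernel φ hA hB
  have hIm : Coh.IsCoh (kernel (cokernel.π φ)) := isCoh_kernel _ hB hC
  have hCoim : Coh.IsCoh (cokernel (kernel.ι φ)) := isCoh_cokernel _ hK hA
  haveI := Groth.Agent.Lib.T2H6.EulerField.finite_HH k X A hA 1
  haveI := Groth.Agent.Lib.T2H6.EulerField.finite_HH k X B hB 1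
  haveI := Groth.Agent.Lib.T2H6.EulerField.finite_HH k X _ hIm 1
  haveI := Groth.Agent.Lib.T2H6.EulerField.finite_HH k X _ hCoim 1
  have s1 : Function.Surjective (Canon.HHlin k (kerSC φ).g 1) :=
    surjective_g k (kerSC φ) (kerSC_shortExact φ) 1 hK2
  have s2 : Function.Surjective (Canon.HHlin k (cokerSC φ).f 1) := by
    have hE := exact₂ k (cokerSC φ) (cokerSC_shortExact φ) 1
    rw [← LinearMap.range_eq_top, ← hE, LinearMap.ker_eq_top]
    ext x
    exact @Subsingleton.elim _ hC1 _ _
  have h1 : Module.finrank k (Coh.HH X (cokernel (kernel.ι φ)) 1) ≤ Module.finrank k (Coh.HH X A 1) :=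
    LinearMap.finrank_le_finrank_of_surjective s1
  have h2 : Module.finrank k (Coh.HH X B 1) ≤ Module.finrank k (Coh.HH X (kernel (cokernel.π φ)) 1) :=
    LinearMap.finrank_le_finrank_of_surjective s2
  have h3 : Module.finrank k (Coh.HH X (cokernel (kernel.ι φ)) 1) =
      Module.finrank k (Coh.HH X (kernel (cokernel.π φ)) 1) :=
    (HHequiv k (Abelian.coimageIsoImage φ) 1).finrank_eq
  omega

/-- **genus inequality** for a proper birational morphism onto a proper scheme of dimension `≤ 1`. -/
theorem genus_le_of_birational {X' : Scheme.{u}} [X'.Over (Spec (CommRingCat.of k))]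
    (hdim : topologicalKrullDim X ≤ 1) (f : X' ⟶ X)
    (hf : f ≫ (X ↘ (Spec (CommRingCat.of k))) = X' ↘ (Spec (CommRingCat.of k))) [IsProper f]
    (U : X.Opens) (hU : Dense (U : Set X)) (hU' : Dense ((f ⁻¹ᵁ U : X'.Opens) : Set X'))
    (hfU : IsIso (f ∣_ U)) :
    Curv2.genus k X' ≤ Curv2.genus k X := by
  haveI : IsNoetherian X := Groth.Agent.Lib.T2H6.CurveSatur.isNoetherian_of_proper k
  haveI : IsFinite f := isFinite_of_birational f hdim U hU' hfU
  have hOc : Coh.IsCoh (Coh.structureModule X) :=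
    Groth.Agent.Lib.T2H5.GenIsoF.isCoh_structureModule
  have hOc' : Coh.IsCoh (Coh.structureModule X') :=
    Groth.Agent.Lib.T2H5.GenIsoF.isCoh_structureModule
  haveI := hOc'.1
  have hB := Groth.Agent.Lib.T2H5.ClosedTransfer.isCoh_pushforward f _ hOc'
  have hK : Coh.IsCoh (kernel (ClSub.unitToPush f)) := isCoh_kernel _ hOc hB
  have hC : Coh.IsCoh (cokernel (ClSub.unitToPush f)) := isCoh_cokernel _ hOc hB
  have hiso := isoOn_unitToPush f U
  have hK2 : Subsingleton (Coh.HH X (kernel (ClSub.unitToPush f)) 2) :=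
    Groth.Agent.S0047.result X _ hK (fun x hx =>
      isClosed_singleton_of_notMem_dense hdim U hU x
        (fun hxU => notMem_support_kernel_of_isoOn _ U hiso x hxU hx)) 2 (by norm_num)
  have hC1 : Subsingleton (Coh.HH X (cokernel (ClSub.unitToPush f)) 1) :=
    Groth.Agent.S0047.result X _ hC (fun x hx =>
      isClosed_singleton_of_notMem_dense hdim U hU x
        (fun hxU => notMem_support_cokernel_of_isoOn _ U hiso x hxU hx)) 1 Nat.one_pos
  have h := finrank_HH_one_le k (ClSub.unitToPush f) hOc hB hK2 hC1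
  rw [finrank_HH_pushforward f k hf _ 1] at h
  exact h

end Genus

section Vanishing

open Groth.Agent.Lib.T2H5.GenIsoB Groth.Agent.Lib.Helper23.Extend Groth.Agent.Lib.T2H6.HHLin
  Groth.Agent.Lib.Helper23.StalkLin Groth.Agent.Lib.Helper4.NormDelta

variable {X : Scheme.{u}}

/-- the cokernel of a morphism which is surjective on the sections over affine opens inside `W` vanishes on `W`. -/
theorem notMem_support_cokernel_of_surjOn {A B : X.Modules} (φ : A ⟶ B) (W : X.Opens)
    (hφ : ∀ W' : X.Opens, IsAffineOpen W' → W' ≤ W →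
      Function.Surjective (Scheme.Modules.Hom.app φ W'))
    (y : X) (hy : y ∈ W) : y ∉ CohB1.support (cokernel φ) := by
  intro h
  apply h
  refine ⟨fun a b => ?_⟩
  have key : ∀ t : (cokernel φ).presheaf.stalk y, t = 0 := by
    intro t
    obtain ⟨b, rfl⟩ := stalkLin_surjective (cokernel.π φ) y t
    obtain ⟨U, hUW, hyU, s, rfl⟩ := exists_germ_eq_le B W y hy b
    obtain ⟨_, ⟨W', hW', rfl⟩, hyW', hW'U⟩ :=
      X.isBasis_affineOpens.exists_subset_of_mem_open hyU U.2
    have hle : W' ≤ U := hW'U
    have hres : B.presheaf.germ W' y hyW' (B.presheaf.map (homOfLE hle).op s) =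
        B.presheaf.germ U y hyU s :=
      TopCat.Presheaf.germ_res_apply B.presheaf (homOfLE hle) y hyW' s
    rw [← hres]
    obtain ⟨a, ha⟩ := hφ W' hW' (hle.trans hUW) (B.presheaf.map (homOfLE hle).op s)
    rw [← ha, stalkLin_germ]
    have h2 : (φ ≫ cokernel.π φ).app W' a = 0 := by rw [cokernel.condition]; rfl
    have h3 : Scheme.Modules.Hom.app (cokernel.π φ) W' (Scheme.Modules.Hom.app φ W' a) = 0 := h2
    rw [h3, map_zero]
  rw [key a, key b]

variable (k : Type u) [Field k] [X.Over (Spec (CommRingCat.of k))]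
  [IsProper (X ↘ Spec (CommRingCat.of k))]

include k in
/-- **Grothendieck vanishing** for coherent modules on a proper scheme of dimension `≤ 1` over a field. -/
theorem subsingleton_HH_of_two_le (hdim : topologicalKrullDim X ≤ 1) (F : X.Modules) (hF : Coh.IsCoh F)
    (i : ℕ) (hi : 2 ≤ i) : Subsingleton (Coh.HH X F i) := by
  haveI : IsNoetherian X := Groth.Agent.Lib.T2H6.CurveSatur.isNoetherian_of_proper k
  refine Groth.Agent.Lib.T2H5.Devissage.core (fun M => Subsingleton (Coh.HH X M i)) ?_ ?_ ?_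
    Set.univ ?_ F hF (Set.subset_univ _)
  · rintro M N ⟨e⟩ hM
    exact (HHequiv k e i).symm.subsingleton
  · intro M hM
    exact Groth.Agent.Lib.T2H5.Chevalley.subsingleton_HH_of_isZero hM i
  · intro S hS _ _ _ h1 h3
    have hE := exact₂ k S hS i
    refine ⟨fun a b => ?_⟩
    have key : ∀ x : Coh.HH X S.X₂ i, x = 0 := by
      intro x
      have hx : x ∈ LinearMap.ker (Canon.HHlin k S.g i) := by
        rw [LinearMap.mem_ker]
        exact @Subsingleton.elim _ h3 _ _
      rw [hE] at hx
      obtain ⟨z, rfl⟩ := hx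
      rw [@Subsingleton.elim _ h1 z 0, map_zero]
    rw [key a, key b]
  · intro Z hZ hirr _ _ M hM hk
    by_cases hZd : 1 ≤ topologicalKrullDim Z
    · have hd1 : topologicalKrullDim Z = 1 :=
        le_antisymm ((topologicalKrullDim_subspace_le X Z).trans hdim) hZd
      set J := Scheme.IdealSheafData.vanishingIdeal ⟨Z, hZ⟩ with hJ
      letI : J.subscheme.Over (Spec (CommRingCat.of k)) :=
        ⟨J.subschemeι ≫ (X ↘ (Spec (CommRingCat.of k)))⟩
      haveI : IsProper (J.subscheme ↘ Spec (CommRingCat.of k)) :=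
        inferInstanceAs (IsProper (J.subschemeι ≫ (X ↘ (Spec (CommRingCat.of k)))))
      haveI : IsIntegral J.subscheme :=
        Groth.Agent.Lib.T2H5.GenIsoE.isIntegral_subscheme_vanishingIdeal Z hZ hirr
      have hdimC : topologicalKrullDim J.subscheme = 1 := by
        rw [Groth.Agent.Lib.T2H6.AmpleComp.topologicalKrullDim_subscheme,
          Scheme.IdealSheafData.coe_support_vanishingIdeal]
        exact hd1
      obtain ⟨G, hG, ⟨e⟩⟩ := Groth.Agent.S0786.result J.subschemeι M hM (by
        rw [Scheme.IdealSheafData.ker_subschemeι]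
        exact hk)
      haveI := hG.1
      obtain ⟨θ⟩ := Groth.Agent.Lib.T2H5.ClosedLin.nonempty_linearEquiv J.subschemeι k rfl G i
      haveI : Subsingleton (Coh.HH J.subscheme G i) :=
        Groth.Agent.Lib.T2H6.CurveVanish.subsingleton_HH_of_two_le k hdimC G i hi
      haveI : Subsingleton (Coh.HH X ((Scheme.Modules.pushforward J.subschemeι).obj G) i) :=
        θ.symm.subsingleton
      exact (HHequiv k e i).symm.subsingleton
    · have hZ0 := Groth.Agent.Lib.T2H6.AmpleComp.le_zero_of_not_one_le _ hZd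
      have hpts : ∀ x ∈ Z, IsClosed ({x} : Set X) := fun x hx =>
        Groth.Agent.Lib.T2H6.AddFnB.isClosed_singleton_of_dim_le_zero Z hZ hZ0 x hx
      have hsupp := Groth.Agent.Lib.T2H6.AmpleComp.support_subset_of_killed _ M hM hk
      rw [Scheme.IdealSheafData.coe_support_vanishingIdeal] at hsupp
      exact Groth.Agent.S0047.result X M hM (fun x hx => hpts x (hsupp hx)) i (by omega)

end Vanishing

section Onto

open Groth.Agent.Lib.T2H5.GenIsoB Groth.Agent.Lib.Helper23.Extend Groth.Agent.Lib.T2H6.HHLin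

variable {X Y : Scheme.{u}} (f : Y ⟶ X)

/-- the sections of `f` over affine opens inside an open over which `f` is a closed immersion are surjective. -/
theorem app_surjective_of_isClosedImmersion_restrict (U : X.Opens) [IsClosedImmersion (f ∣_ U)]
    (W : X.Opens) (hWa : IsAffineOpen W) (hW : W ≤ U) : Function.Surjective (f.app W) := by
  have hVa : IsAffineOpen (U.ι ⁻¹ᵁ W) :=
    hWa.preimage_of_isOpenImmersion U.ι (by rw [Scheme.Opens.opensRange_ι]; exact hW)
  obtain ⟨V, hV, rfl⟩ : ∃ V : (U : Scheme.{u}).Opens, IsAffineOpen V ∧ U.ι ''ᵁ V = W := by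
    refine ⟨U.ι ⁻¹ᵁ W, hVa, ?_⟩
    rw [Scheme.Hom.image_preimage_eq_opensRange_inf, Scheme.Opens.opensRange_ι]
    exact inf_eq_right.2 hW
  have h := morphismRestrict_app f U V
  have hs : Function.Surjective ((f ∣_ U).app V) := (f ∣_ U).app_surjective V hV
  rw [h] at hs
  have hinj : Function.Injective
      (Y.presheaf.map (eqToHom (image_morphismRestrict_preimage f U V)).op) :=
    (ConcreteCategory.bijective_of_isIso _).1
  intro b
  obtain ⟨a, ha⟩ := hs (Y.presheaf.map (eqToHom (image_morphismRestrict_preimage f U V)).op b)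
  exact ⟨a, hinj ha⟩

variable (k : Type u) [Field k] [X.Over (Spec (CommRingCat.of k))] [Y.Over (Spec (CommRingCat.of k))]
  [IsProper (X ↘ Spec (CommRingCat.of k))]

/-- **genus inequality** for a finite morphism onto a proper scheme of dimension `≤ 1` which is a closed immersion
over a dense open. -/
theorem genus_le_of_finite_onto (hdim : topologicalKrullDim X ≤ 1) [IsFinite f]
    (hf : f ≫ (X ↘ (Spec (CommRingCat.of k))) = Y ↘ (Spec (CommRingCat.of k)))
    (U : X.Opens) (hU : Dense (U : Set X)) (hfU : IsClosedImmersion (f ∣_ U)) :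
    Curv2.genus k Y ≤ Curv2.genus k X := by
  haveI : IsNoetherian X := Groth.Agent.Lib.T2H6.CurveSatur.isNoetherian_of_proper k
  have hOc : Coh.IsCoh (Coh.structureModule X) :=
    Groth.Agent.Lib.T2H5.GenIsoF.isCoh_structureModule
  have hOc' : Coh.IsCoh (Coh.structureModule Y) :=
    Groth.Agent.Lib.T2H5.GenIsoF.isCoh_structureModule
  haveI := hOc'.1
  have hB := Groth.Agent.Lib.T2H5.ClosedTransfer.isCoh_pushforward f _ hOc'
  have hK : Coh.IsCoh (kernel (ClSub.unitToPush f)) := isCoh_kernel _ hOc hB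
  have hC : Coh.IsCoh (cokernel (ClSub.unitToPush f)) := isCoh_cokernel _ hOc hB
  have hK2 : Subsingleton (Coh.HH X (kernel (ClSub.unitToPush f)) 2) :=
    subsingleton_HH_of_two_le k hdim _ hK 2 le_rfl
  have hsurj : ∀ W' : X.Opens, IsAffineOpen W' → W' ≤ U →
      Function.Surjective (Scheme.Modules.Hom.app (ClSub.unitToPush f) W') := by
    intro W' hW' hle
    exact app_surjective_of_isClosedImmersion_restrict f U W' hW' hle
  have hC1 : Subsingleton (Coh.HH X (cokernel (ClSub.unitToPush f)) 1) :=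
    Groth.Agent.S0047.result X _ hC (fun x hx =>
      isClosed_singleton_of_notMem_dense hdim U hU x
        (fun hxU => notMem_support_cokernel_of_surjOn _ U hsurj x hxU hx)) 1 Nat.one_pos
  have h := finrank_HH_one_le k (ClSub.unitToPush f) hOc hB hK2 hC1
  rw [finrank_HH_pushforward f k hf _ 1] at h
  exact h

end Onto

end Groth.Agent.Lib.T2H6.FinBir
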