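import Mathlib

/-!
# T2H9DegMorA (helper9): stalks of a direct image along a closed map at a point with one-point fibre
-/

set_option autoImplicit false
universe u

open CategoryTheory TopologicalSpace Opposite TopCat AlgebraicGeometry

namespace Groth.Agent.Lib.T2H9.DegMor

variable {X Y : TopCat.{u}} (f : X ⟶ Y)

/-- for a closed map, every neighbourhood of a one-point fibre contains the preimage of a neighbourhood -/
theorem exists_preimage_le (hf : IsClosedMap f) (x : X) (hx : f ⁻¹' {f x} = {x})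
    (U : Opens X) (hxU : x ∈ U) :
    ∃ V : Opens Y, f x ∈ V ∧ (Opens.map f).obj V ≤ U := by
  refine ⟨⟨(f '' (U : Set X)ᶜ)ᶜ, (hf _ U.isOpen.isClosed_compl).isOpen_compl⟩, ?_, ?_⟩
  · rintro ⟨z, hz, hzx⟩
    have : z ∈ f ⁻¹' {f x} := hzx
    rw [hx] at this
    exact hz (by rw [Set.mem_singleton_iff.1 this]; exact hxU)
  · intro z hz
    by_contra hzU
    exact hz ⟨z, hzU, rfl⟩

theorem stalkPushforward_bijective (hf : IsClosedMap f) (F : X.Presheaf AddCommGrpCat.{u}) (x : X)
    (hx : f ⁻¹' {f x} = {x}) :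
    Function.Bijective (F.stalkPushforward AddCommGrpCat.{u} f x) := by
  constructor
  · rw [injective_iff_map_eq_zero]
    intro w hw
    obtain ⟨V, hyV, t, rfl⟩ := (f _* F).exists_germ_eq w
    rw [Presheaf.stalkPushforward_germ_apply] at hw
    have hw' : F.germ ((Opens.map f).obj V) x hyV t = F.germ ((Opens.map f).obj V) x hyV 0 := by
      rw [hw, map_zero]
    obtain ⟨U', hxU', iU, iV, e⟩ := F.germ_eq x hyV hyV t 0 hw'
    obtain ⟨V₁, hyV₁, hle⟩ := exists_preimage_le f hf x hx U' hxU'
    have hyV' : f x ∈ V ⊓ V₁ := ⟨hyV, hyV₁⟩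
    have h1 : (f _* F).germ V (f x) hyV t =
        (f _* F).germ (V ⊓ V₁) (f x) hyV' ((f _* F).map (homOfLE inf_le_left).op t) :=
      (Presheaf.germ_res_apply (f _* F) (homOfLE inf_le_left) (f x) hyV' t).symm
    rw [h1]
    have hle' : (Opens.map f).obj (V ⊓ V₁) ≤ U' := fun z hz => hle hz.2
    have h2 : (f _* F).map (homOfLE (inf_le_left : V ⊓ V₁ ≤ V)).op t =
        F.map (homOfLE hle').op (F.map iU.op t) := by
      change F.map _ t = _
      rw [← ConcreteCategory.comp_apply, ← F.map_comp]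
      rfl
    rw [h2, e, map_zero, map_zero, map_zero]
  · intro z
    obtain ⟨U, hxU, m, rfl⟩ := F.exists_germ_eq z
    obtain ⟨V, hyV, hle⟩ := exists_preimage_le f hf x hx U hxU
    refine ⟨(f _* F).germ V (f x) hyV (F.map (homOfLE hle).op m), ?_⟩
    rw [Presheaf.stalkPushforward_germ_apply]
    exact Presheaf.germ_res_apply F (homOfLE hle) x hyV m

end Groth.Agent.Lib.T2H9.DegMor
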