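import Mathlib
import Groth.Prelude.Def_FlatMod2
import Groth.Agent.Lib.T2H9DegMorA
import Groth.Agent.Lib.Helper2QCoh

/-!
# T2H9DegMorB (helper9): the stalk of `φ_* M` at `φ x` when `x` is the only point over `φ x` (closed `φ`)
-/

set_option autoImplicit false
set_option linter.style.haveILetI false
universe u

open CategoryTheory TopologicalSpace Opposite TopCat AlgebraicGeometry

namespace Groth.Agent.Lib.T2H9.DegMor

variable {X Y : Scheme.{u}} (φ : X ⟶ Y) (M : X.Modules) (x : X)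

/-- the comparison map `(φ_* M)_{φ x} → M_x` -/
noncomputable def stalkPush :
    ((Scheme.Modules.pushforward φ).obj M).presheaf.stalk (φ x) →+ M.presheaf.stalk x :=
  (M.presheaf.stalkPushforward AddCommGrpCat.{u} φ.base x).hom

theorem stalkPush_germ (V : Y.Opens) (hV : φ x ∈ V) (t : Γ(M, φ ⁻¹ᵁ V)) :
    stalkPush φ M x (((Scheme.Modules.pushforward φ).obj M).presheaf.germ V (φ x) hV t) =
      M.presheaf.germ (φ ⁻¹ᵁ V) x hV t :=
  Presheaf.stalkPushforward_germ_apply AddCommGrpCat.{u} φ.base M.presheaf V x hV t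

theorem stalkPush_bijective (hφ : IsClosedMap φ) (hx : φ ⁻¹' {φ x} = {x}) :
    Function.Bijective (stalkPush φ M x) :=
  stalkPushforward_bijective φ.base hφ M.presheaf x hx

theorem stalkPush_smul (r : Y.presheaf.stalk (φ x))
    (w : ((Scheme.Modules.pushforward φ).obj M).presheaf.stalk (φ x)) :
    stalkPush φ M x (r • w) = (φ.stalkMap x r) • stalkPush φ M x w := by
  obtain ⟨V₁, hV₁, a, rfl⟩ := Y.presheaf.exists_germ_eq r
  obtain ⟨V₂, hV₂, t, rfl⟩ := ((Scheme.Modules.pushforward φ).obj M).presheaf.exists_germ_eq w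
  have hV : φ x ∈ V₁ ⊓ V₂ := ⟨hV₁, hV₂⟩
  have e1 : Y.presheaf.germ V₁ (φ x) hV₁ a =
      Y.presheaf.germ (V₁ ⊓ V₂) (φ x) hV (Y.presheaf.map (homOfLE inf_le_left).op a) :=
    (Presheaf.germ_res_apply Y.presheaf (homOfLE inf_le_left) (φ x) hV a).symm
  have e2 : ((Scheme.Modules.pushforward φ).obj M).presheaf.germ V₂ (φ x) hV₂ t =
      ((Scheme.Modules.pushforward φ).obj M).presheaf.germ (V₁ ⊓ V₂) (φ x) hV
        (((Scheme.Modules.pushforward φ).obj M).presheaf.map (homOfLE inf_le_right).op t) :=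
    (Presheaf.germ_res_apply ((Scheme.Modules.pushforward φ).obj M).presheaf
      (homOfLE inf_le_right) (φ x) hV t).symm
  rw [e1, e2]
  set a' := Y.presheaf.map (homOfLE (inf_le_left : V₁ ⊓ V₂ ≤ V₁)).op a with ha'
  set t' := ((Scheme.Modules.pushforward φ).obj M).presheaf.map
    (homOfLE (inf_le_right : V₁ ⊓ V₂ ≤ V₂)).op t with ht'
  rw [← Groth.Agent.Lib.Helper2.QCoh.germ_smul ((Scheme.Modules.pushforward φ).obj M) (φ x)
    (V₁ ⊓ V₂) hV a' t']
  have h3 : (a' • t' : Γ((Scheme.Modules.pushforward φ).obj M, V₁ ⊓ V₂)) =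
      ((φ.app (V₁ ⊓ V₂) a') • (show Γ(M, φ ⁻¹ᵁ (V₁ ⊓ V₂)) from t') : Γ(M, φ ⁻¹ᵁ (V₁ ⊓ V₂))) := rfl
  rw [stalkPush_germ, stalkPush_germ, Scheme.Hom.germ_stalkMap_apply]
  rw [h3]
  exact Groth.Agent.Lib.Helper2.QCoh.germ_smul M x (φ ⁻¹ᵁ (V₁ ⊓ V₂)) hV _ _

end Groth.Agent.Lib.T2H9.DegMor
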