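import Mathlib
import Groth.Prelude.Def_Curv2
import Groth.Agent.Lib.T2H9DegMorB
import Groth.Agent.Lib.T2H6FinBir

/-!
# T2H9DegMorC (helper9): `deg φ^*E = [K(X) : K(Y)] · deg E` for a finite morphism of integral proper curves
-/

set_option autoImplicit false
set_option linter.style.haveILetI false
universe u

open CategoryTheory TopologicalSpace Opposite TopCat AlgebraicGeometry

namespace Groth.Agent.Lib.T2H9.DegMor

variable {X Y : Scheme.{u}} (φ : X ⟶ Y) (x : X)

/-- the field degree, as the rank of `O_{X,x}` over `O_{Y,φ x}` -/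
noncomputable def stalkDeg : ℕ :=
  letI := (φ.stalkMap x).hom.toAlgebra
  Module.finrank (Y.presheaf.stalk (φ x)) (X.presheaf.stalk x)

theorem finrank_stalk_pushforward (M : X.Modules) (hφ : IsClosedMap φ) (hx : φ ⁻¹' {φ x} = {x}) :
    Module.finrank (Y.presheaf.stalk (φ x))
      (((Scheme.Modules.pushforward φ).obj M).presheaf.stalk (φ x)) =
    (letI := FlatMod.moduleStalkOver φ M x
     Module.finrank (Y.presheaf.stalk (φ x)) (M.presheaf.stalk x)) := by
  letI := FlatMod.moduleStalkOver φ M x
  let l : ((Scheme.Modules.pushforward φ).obj M).presheaf.stalk (φ x) →ₗ[Y.presheaf.stalk (φ x)]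
      M.presheaf.stalk x :=
    { toFun := stalkPush φ M x
      map_add' := map_add _
      map_smul' := fun r w => stalkPush_smul φ M x r w }
  exact (LinearEquiv.ofBijective l (stalkPush_bijective φ M x hφ hx)).finrank_eq

theorem finrank_stalk_pushforward_structure (hφ : IsClosedMap φ) (hx : φ ⁻¹' {φ x} = {x}) :
    Module.finrank (Y.presheaf.stalk (φ x))
      (((Scheme.Modules.pushforward φ).obj (Coh.structureModule X)).presheaf.stalk (φ x)) =
    stalkDeg φ x := by
  rw [finrank_stalk_pushforward φ x _ hφ hx]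
  have hO1 : FlatMod.IsFinLocFreeOfRank 1 (Coh.structureModule X) :=
    Groth.Agent.Lib.Helper23.SecTw.isFinLocFreeOfRank_one_of_isInvertible _
      (Groth.Agent.Lib.Helper23.TensorUnit.isInvertible_structureModule X)
  obtain ⟨hfree, hfin, hrk⟩ :=
    Groth.Agent.Lib.T2H6.RankAdd.free_finite_stalk (Coh.structureModule X) 1 hO1 x
  haveI := hfree
  haveI := hfin
  obtain ⟨e⟩ := FiniteDimensional.nonempty_linearEquiv_of_finrank_eq
    (R := X.presheaf.stalk x) (M := (Coh.structureModule X).presheaf.stalk x)
    (M' := X.presheaf.stalk x) (by rw [hrk, Module.finrank_self])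
  letI := FlatMod.moduleStalkOver φ (Coh.structureModule X) x
  letI := (φ.stalkMap x).hom.toAlgebra
  let e' : (Coh.structureModule X).presheaf.stalk x ≃ₗ[Y.presheaf.stalk (φ x)] X.presheaf.stalk x :=
    { e with
      map_smul' := fun r w => e.map_smul ((φ.stalkMap x).hom r) w }
  exact e'.finrank_eq

section Curves

open Groth.Agent.Lib.T2H6.CurveSS2

variable (k : Type u) [Field k] [X.Over (Spec (CommRingCat.of k))] [Y.Over (Spec (CommRingCat.of k))]
  [IsIntegral X] [IsIntegral Y]

theorem grank_pushforward (hφc : IsClosedMap φ) (hgen : φ (genericPoint X) = genericPoint Y)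
    (hfib : φ ⁻¹' {φ (genericPoint X)} = {genericPoint X}) :
    grank ((Scheme.Modules.pushforward φ).obj (Coh.structureModule X)) =
      stalkDeg φ (genericPoint X) := by
  have h1 : ∀ (F : Y.Modules) (y y' : Y) (_ : y = y'),
      Module.finrank (Y.presheaf.stalk y) (F.presheaf.stalk y) =
        Module.finrank (Y.presheaf.stalk y') (F.presheaf.stalk y') := by
    intro F y y' h
    subst h
    rfl
  have h2 : grank ((Scheme.Modules.pushforward φ).obj (Coh.structureModule X)) =
      Module.finrank (Y.presheaf.stalk (genericPoint Y))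
        (((Scheme.Modules.pushforward φ).obj (Coh.structureModule X)).presheaf.stalk
          (genericPoint Y)) := rfl
  rw [h2, ← h1 _ _ _ hgen]
  exact finrank_stalk_pushforward_structure φ (genericPoint X) hφc hfib

variable [IsProper (Y ↘ Spec (CommRingCat.of k))]

/-- **degree of a pullback along a finite morphism of integral proper curves** -/
theorem deg_pullback (hdimY : topologicalKrullDim Y = 1) [IsFinite φ]
    (hφ : φ ≫ (Y ↘ Spec (CommRingCat.of k)) = X ↘ Spec (CommRingCat.of k))
    (hgen : φ (genericPoint X) = genericPoint Y)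
    (hfib : φ ⁻¹' {φ (genericPoint X)} = {genericPoint X})
    (E : Y.Modules) (hE : PicF.IsInvertible E) :
    Curv2.deg k X ((Scheme.Modules.pullback φ).obj E) 1 =
      (stalkDeg φ (genericPoint X) : ℤ) * Curv2.deg k Y E 1 := by
  have hE1 : FlatMod.IsFinLocFreeOfRank 1 E :=
    Groth.Agent.Lib.Helper23.SecTw.isFinLocFreeOfRank_one_of_isInvertible _ hE
  have h1 := Groth.Agent.Lib.T2H6.FinBir.deg_pullback_eq_psi φ k hφ 1 E hE1
  have hOc : Coh.IsCoh (Coh.structureModule X) :=
    Groth.Agent.Lib.T2H5.GenIsoF.isCoh_structureModule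
  have hB := Groth.Agent.Lib.T2H5.ClosedTransfer.isCoh_pushforward φ _ hOc
  have h2 := Groth.Agent.Lib.T2H6.TensorDeg.tensor_euler k hdimY E 1 hE1 _ hB
  rw [h1]
  unfold Groth.Agent.Lib.T2H6.TensorDeg.psi
  rw [h2, grank_pushforward φ φ.isClosedMap hgen hfib]
  ring

end Curves

end Groth.Agent.Lib.T2H9.DegMor
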