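import Mathlib
import Groth.Prelude.Def_Curv2
import Groth.Agent.Lib.T2H9DegMorC
import Groth.Agent.Lib.Helper10CurveFin
import Groth.Agent.Lib.T2H6GrothA
import Groth.Agent.Lib.T2H6CurveDeg
import Groth.Agent.Lib.T2H6PtTwistB

/-!
# T2H9DegMorD (helper9): nonconstant morphisms from a proper integral curve to an integral curve
-/

set_option autoImplicit false
set_option linter.style.haveILetI false
universe u

open CategoryTheory TopologicalSpace Opposite TopCat AlgebraicGeometry

namespace Groth.Agent.Lib.T2H9.DegMor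

section Top

variable {Z : Scheme.{u}} [IsIntegral Z]

/-- on an integral scheme of dimension one every point is closed or generic -/
theorem isClosed_or_eq_genericPoint (hdim : topologicalKrullDim Z ≤ 1) (z : Z) :
    IsClosed ({z} : Set Z) ∨ z = genericPoint Z := by
  rcases Groth.Agent.Lib.Helper10.CurveFin.forall_of_topologicalKrullDim_le_one hdim z with h | h
  · exact Or.inl (Groth.Agent.Lib.Helper10.CurveFin.isClosed_singleton_of_forall h)
  · right
    have h1 : genericPoint Z ⤳ z := genericPoint_specializes z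
    exact ((h _ h1).antisymm h1).eq

end Top

section Mor

variable {X Y : Scheme.{u}} [IsIntegral X] [IsIntegral Y] (φ : X ⟶ Y)
  (hdimX : topologicalKrullDim X = 1) (hdimY : topologicalKrullDim Y = 1)
  (hcl : IsClosedMap φ)
  (hnc : ¬ ∃ p : Y, IsClosed ({p} : Set Y) ∧ Set.range φ ⊆ {p})

include hdimY hnc in
theorem map_genericPoint_of_nonconstant : φ (genericPoint X) = genericPoint Y := by
  rcases isClosed_or_eq_genericPoint hdimY.le (φ (genericPoint X)) with h | h
  · exfalso
    refine hnc ⟨_, h, ?_⟩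
    rintro _ ⟨x, rfl⟩
    have h1 : φ (genericPoint X) ⤳ φ x := (genericPoint_specializes x).map φ.continuous
    have h2 : φ x ∈ closure ({φ (genericPoint X)} : Set Y) := specializes_iff_mem_closure.1 h1
    rw [h.closure_eq] at h2
    exact h2
  · exact h

include hdimX hdimY hcl hnc in
theorem fibre_genericPoint_of_nonconstant :
    φ ⁻¹' {φ (genericPoint X)} = {genericPoint X} := by
  have hgen := map_genericPoint_of_nonconstant φ hdimY hnc
  ext x
  constructor
  · intro hx
    have hx' : φ x = φ (genericPoint X) := hx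
    rcases isClosed_or_eq_genericPoint hdimX.le x with h | h
    · exfalso
      have h1 : IsClosed (φ '' ({x} : Set X)) := hcl _ h
      rw [Set.image_singleton, hx', hgen] at h1
      exact Groth.Agent.Lib.T2H6.PtTwistB.genericPoint_ne_of_isClosed hdimY _ h1 rfl
    · exact h
  · intro hx
    rw [Set.mem_singleton_iff.1 hx]
    rfl

end Mor

section P1

open Groth.Agent.Lib.T2H6.PnIntegral

variable (k : Type u) [Field k]

instance : IsProper ((CohB1.ProjSpace 1 k) ↘ Spec (CommRingCat.of k)) :=
  Groth.Agent.S9705.isProper_projSpace_toSpec 1 k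

theorem deg_twist_one :
    Curv2.deg k (CohB1.ProjSpace 1 k) (Twist.twistProjSpace 1 k 1) 1 = 1 := by
  unfold Curv2.deg
  obtain ⟨e⟩ := Groth.Agent.Lib.T2H5.Twist.nonempty_twist_zero_iso 1 k
  have hc : Coh.IsCoh (Twist.twistProjSpace 1 k 0) := Groth.Agent.Lib.T2H5.PnFinite.isCoh_twist 1 k 0
  rw [← Groth.Agent.Lib.T2H6.HiggsCurve.euler_eq_of_iso k e hc,
    Groth.Agent.Lib.T2H6.GSplit.euler_twist, Groth.Agent.Lib.T2H6.GSplit.euler_twist]
  norm_num

variable {X : Scheme.{u}} [X.Over (Spec (CommRingCat.of k))] [IsIntegral X]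
  [IsProper (X ↘ Spec (CommRingCat.of k))] (hdim : topologicalKrullDim X = 1)
  (φ : X ⟶ CohB1.ProjSpace 1 k)
  (hφ : φ ≫ CohB1.ProjSpace.toSpec 1 k = X ↘ Spec (CommRingCat.of k))
  (hnc : ¬ ∃ p : CohB1.ProjSpace 1 k, IsClosed ({p} : Set (CohB1.ProjSpace 1 k)) ∧ Set.range φ ⊆ {p})

include hdim hφ hnc in
/-- a nonconstant morphism from a proper integral curve to the projective line is finite -/
theorem isFinite_of_nonconstant : IsFinite φ := by
  haveI : IsProper (CohB1.ProjSpace.toSpec 1 k) := Groth.Agent.S9705.isProper_projSpace_toSpec 1 k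
  refine Groth.Agent.Lib.Helper10.CurveFin.main k X (CohB1.ProjSpace 1 k)
    (X ↘ Spec (CommRingCat.of k)) (CohB1.ProjSpace.toSpec 1 k) φ hφ hdim.le (fun Z hZ _ => ?_)
  rw [irreducibleComponents_eq_singleton, Set.mem_singleton_iff] at hZ
  subst hZ
  by_contra hnt
  rw [Set.not_nontrivial_iff] at hnt
  haveI : IsProper (φ ≫ CohB1.ProjSpace.toSpec 1 k) := by rw [hφ]; infer_instance
  haveI : IsProper φ := IsProper.of_comp φ (CohB1.ProjSpace.toSpec 1 k)
  have hcl : IsClosed (φ '' (Set.univ : Set X)) := φ.isClosedMap _ isClosed_univ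
  have heq : φ '' (Set.univ : Set X) = {φ (genericPoint X)} := by
    apply Set.Subset.antisymm
    · rintro _ ⟨x, -, rfl⟩
      exact hnt ⟨x, trivial, rfl⟩ ⟨genericPoint X, trivial, rfl⟩
    · rintro _ rfl
      exact ⟨genericPoint X, trivial, rfl⟩
  refine hnc ⟨φ (genericPoint X), heq ▸ hcl, ?_⟩
  rintro _ ⟨x, rfl⟩
  exact heq ▸ ⟨x, trivial, rfl⟩

include hdim hφ hnc in
/-- the degree of a nonconstant morphism to the projective line is the degree of the pullback of `O(1)` -/
theorem deg_pullback_twist_one :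
    Curv2.deg k X ((Scheme.Modules.pullback φ).obj (Twist.twistProjSpace 1 k 1)) 1 =
      (stalkDeg φ (genericPoint X) : ℤ) := by
  haveI := isFinite_of_nonconstant k hdim φ hφ hnc
  have hdimY := Groth.Agent.Lib.T2H6.GSplit.hdim1 k
  have hgen := map_genericPoint_of_nonconstant φ hdimY hnc
  have hfib := fibre_genericPoint_of_nonconstant φ hdim hdimY φ.isClosedMap hnc
  rw [deg_pullback φ k hdimY hφ hgen hfib _ (Groth.Agent.Lib.T2H5.Twist.isInvertible_twist 1 k 1),
    deg_twist_one, mul_one]

include hdim hφ hnc in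
theorem stalkDeg_le (L : X.Modules) (hL : PicF.IsInvertible L)
    (α : (Scheme.Modules.pullback φ).obj (Twist.twistProjSpace 1 k 1) ⟶ L) (hα : α ≠ 0) :
    (stalkDeg φ (genericPoint X) : ℤ) ≤ Curv2.deg k X L 1 := by
  rw [← deg_pullback_twist_one k hdim φ hφ hnc]
  exact Groth.Agent.Lib.T2H6.CurveDeg.deg_le k hdim
    (Groth.Agent.Lib.Helper23.PB.isInvertible_pullback φ _
      (Groth.Agent.Lib.T2H5.Twist.isInvertible_twist 1 k 1)) hL α hα

end P1

end Groth.Agent.Lib.T2H9.DegMor
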