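import Mathlib
import Groth.Agent.Lib.Helper4CurveRatMap
import Groth.Agent.Lib.T2H6P1Lift
import Groth.Agent.Lib.Helper27PnChart
import Groth.Agent.Lib.T2H6PnIntegral

/-!
# T2H9P1Dom2 (helper9): the projective line: valuation-ring stalks, function field `k(t)`
-/

set_option autoImplicit false
set_option linter.style.haveILetI false
universe u

open AlgebraicGeometry CategoryTheory

namespace Groth.Agent.Lib.T2H9.P1Dom

open Groth.Agent.Lib.Helper4.RatMapExt

theorem isPrincipalIdealRing_of_isLocalization {R : Type*} [CommRing R] (M : Submonoid R)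
    (S : Type*) [CommRing S] [Algebra R S] [IsLocalization M S] [IsPrincipalIdealRing R] :
    IsPrincipalIdealRing S := by
  refine ⟨fun I => ?_⟩
  have h := IsLocalization.map_under M S I
  obtain ⟨a, ha⟩ := (IsPrincipalIdealRing.principal (Ideal.under R I))
  refine ⟨algebraMap R S a, ?_⟩
  rw [← h, ha, Ideal.submodule_span_eq, Ideal.map_span, Set.image_singleton]

open Groth.Agent.Lib.T2H6.PnIntegral in
theorem valuationRing_stalk_P1 (k : Type u) [Field k] (x : CohB1.ProjSpace 1 k) :
    ValuationRing ((CohB1.ProjSpace 1 k).presheaf.stalk x) := by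
  obtain ⟨U, hx, hdom, hpid⟩ := Groth.Agent.Lib.T2H6.P1Lift.exists_pid_cover k x
  letI := (CohB1.ProjSpace 1 k).presheaf.algebra_section_stalk (U := U.1) ⟨x, hx⟩
  haveI := U.2.isLocalization_stalk ⟨x, hx⟩
  haveI : IsPrincipalIdealRing ((CohB1.ProjSpace 1 k).presheaf.stalk x) :=
    isPrincipalIdealRing_of_isLocalization (U.2.primeIdealOf ⟨x, hx⟩).asIdeal.primeCompl _
  infer_instance

/-- the structure map `k → K(Y)` of an integral scheme over `Spec k` -/
noncomputable def ffStr {Y : Scheme.{u}} [IsIntegral Y] {k : Type u} [Field k]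
    (q : Y ⟶ Spec (CommRingCat.of k)) : CommRingCat.of k ⟶ Y.functionField :=
  Spec.preimage (Y.fromSpecStalk (genericPoint Y) ≫ q)

theorem SpecMap_ffStr {Y : Scheme.{u}} [IsIntegral Y] {k : Type u} [Field k]
    (q : Y ⟶ Spec (CommRingCat.of k)) :
    Spec.map (ffStr q) = Y.fromSpecStalk (genericPoint Y) ≫ q :=
  Spec.map_preimage _

set_option backward.isDefEq.respectTransparency false in
theorem exists_ringEquiv_functionField_of_openImmersion {Y : Scheme.{u}} [IsIntegral Y]
    (k : Type u) [Field k] (q : Y ⟶ Spec (CommRingCat.of k))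
    (A : Type u) [CommRing A] [IsDomain A] [Algebra k A]
    (j : Spec (CommRingCat.of A) ⟶ Y) [IsOpenImmersion j]
    (hj : j ≫ q = Spec.map (CommRingCat.ofHom (algebraMap k A)))
    (K : Type u) [Field K] [Algebra A K] [IsFractionRing A K] [Algebra k K]
    [IsScalarTower k A K] :
    ∃ β : Y.functionField ≃+* K, ∀ c, β ((ffStr q).hom c) = algebraMap k K c := by
  haveI : IsIntegral (Spec (CommRingCat.of A)) := inferInstance
  have hη : j (genericPoint (Spec (CommRingCat.of A))) = genericPoint Y :=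
    genericPoint_eq_of_isOpenImmersion j
  let φj : Y.functionField ⟶ (Spec (CommRingCat.of A)).functionField :=
    Y.presheaf.stalkSpecializes (specializes_of_eq hη) ≫ j.stalkMap (genericPoint (Spec (CommRingCat.of A)))
  haveI : IsIso φj := by
    haveI : IsIso (Y.presheaf.stalkSpecializes (specializes_of_eq hη)) :=
      (Y.presheaf.stalkCongr (Inseparable.of_eq hη.symm)).isIso_hom
    infer_instance
  have h1 : (Spec (CommRingCat.of A)).fromSpecStalk (genericPoint (Spec (CommRingCat.of A))) ≫ j =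
      Spec.map φj ≫ Y.fromSpecStalk (genericPoint Y) := fromSpecStalk_genericPoint_comp j hη
  have h2 : ffStr q ≫ φj = CommRingCat.ofHom (algebraMap k A) ≫
      StructureSheaf.toStalk (CommRingCat.of A) (genericPoint (Spec (CommRingCat.of A))) := by
    apply Spec.map_injective
    rw [Spec.map_comp, SpecMap_ffStr, ← Category.assoc, ← h1, Category.assoc, hj, Spec.map_comp,
      Spec.fromSpecStalk_eq']
  let e1 : Y.functionField ≃+* (Spec (CommRingCat.of A)).functionField :=
    (asIso φj).commRingCatIsoToRingEquiv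
  letI : Algebra A (Spec (CommRingCat.of A)).functionField :=
    AlgebraicGeometry.instAlgebraCarrierFunctionFieldSpec (CommRingCat.of A)
  haveI : IsFractionRing A (Spec (CommRingCat.of A)).functionField :=
    functionField_isFractionRing_of_affine (CommRingCat.of A)
  let e2 : (Spec (CommRingCat.of A)).functionField ≃ₐ[A] K :=
    IsLocalization.algEquiv (nonZeroDivisors A) _ _
  refine ⟨e1.trans e2.toRingEquiv, fun c => ?_⟩
  have h3 : e1 ((ffStr q).hom c) = algebraMap A (Spec (CommRingCat.of A)).functionField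
      (algebraMap k A c) := congr($(h2) c)
  rw [RingEquiv.trans_apply, h3]
  change e2 _ = _
  rw [e2.commutes, ← IsScalarTower.algebraMap_apply]

section P1

open HomogeneousLocalization MvPolynomial

variable (k : Type u) [Field k]

noncomputable instance uniqueNeZero : Unique {j : Fin 2 // j ≠ 0} where
  default := ⟨1, by decide⟩
  uniq := by
    rintro ⟨j, hj⟩
    fin_cases j
    · exact absurd rfl hj
    · rfl

/-- the `k`-algebra structure of the chart ring -/
noncomputable abbrev awayAlg : Algebra k (Away (CohB1.polyGrading 1 k) (X 0 : MvPolynomial (Fin 2) k)) :=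
  ((HomogeneousLocalization.fromZeroRingHom (CohB1.polyGrading 1 k)
    (Submonoid.powers (X 0 : MvPolynomial (Fin 2) k))).comp
      (algebraMap k (CohB1.polyGrading 1 k 0))).toAlgebra

/-- the chart ring is a polynomial ring in one variable -/
noncomputable def awayEquiv :
    Away (CohB1.polyGrading 1 k) (X 0 : MvPolynomial (Fin 2) k) ≃+* Polynomial k :=
  (RingEquiv.ofBijective _ (Groth.Agent.Lib.Helper27PnChart.chart_bijective 1 k 0)).symm.trans
    (MvPolynomial.uniqueAlgEquiv k {j : Fin 2 // j ≠ 0}).toRingEquiv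

theorem awayEquiv_algebraMap (c : k) :
    awayEquiv k (@algebraMap k _ _ _ (awayAlg k) c) = Polynomial.C c := by
  have h1 : @algebraMap k _ _ _ (awayAlg k) c =
      Groth.Agent.Lib.Helper27PnChart.chart 1 k 0 (C c) := by
    rw [Groth.Agent.Lib.Helper27PnChart.chart, MvPolynomial.coe_eval₂Hom, MvPolynomial.eval₂_C]
    rfl
  rw [h1, awayEquiv, RingEquiv.trans_apply]
  have h2 : (RingEquiv.ofBijective _ (Groth.Agent.Lib.Helper27PnChart.chart_bijective 1 k 0)).symm
      (Groth.Agent.Lib.Helper27PnChart.chart 1 k 0 (C c)) = C c :=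
    (RingEquiv.ofBijective _ (Groth.Agent.Lib.Helper27PnChart.chart_bijective 1 k 0)).symm_apply_apply _
  rw [h2]
  change (MvPolynomial.uniqueAlgEquiv k {j : Fin 2 // j ≠ 0}) (algebraMap k _ c) = _
  rw [AlgEquiv.commutes]
  rfl

theorem exists_ringEquiv_functionField_P1 :
    ∃ β : (CohB1.ProjSpace 1 k).functionField ≃+* RatFunc k,
      ∀ c, β ((ffStr (CohB1.ProjSpace.toSpec 1 k)).hom c) = algebraMap k (RatFunc k) c := by
  letI := awayAlg k
  haveI := Groth.Agent.Lib.T2H6.P1Lift.isDomain_away k 0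
  have hj0 : Proj.awayι (CohB1.polyGrading 1 k) (X 0 : MvPolynomial (Fin 2) k)
      (Groth.Agent.Lib.T2H6.P1Lift.X_mem k 0) one_pos ≫ (Proj.toSpecZero (CohB1.polyGrading 1 k) ≫
        Spec.map (CommRingCat.ofHom (algebraMap k (CohB1.polyGrading 1 k 0)))) =
      Spec.map (CommRingCat.ofHom (algebraMap k
        (Away (CohB1.polyGrading 1 k) (X 0 : MvPolynomial (Fin 2) k)))) := by
    rw [← Category.assoc, Proj.awayι_toSpecZero, ← Spec.map_comp]
    rfl
  let j : Spec (CommRingCat.of (Away (CohB1.polyGrading 1 k) (X 0 : MvPolynomial (Fin 2) k))) ⟶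
      CohB1.ProjSpace 1 k :=
    Proj.awayι (CohB1.polyGrading 1 k) (X 0 : MvPolynomial (Fin 2) k)
      (Groth.Agent.Lib.T2H6.P1Lift.X_mem k 0) one_pos
  haveI : IsOpenImmersion j :=
    inferInstanceAs (IsOpenImmersion (Proj.awayι (CohB1.polyGrading 1 k)
      (X 0 : MvPolynomial (Fin 2) k) (Groth.Agent.Lib.T2H6.P1Lift.X_mem k 0) one_pos))
  have hj : j ≫ CohB1.ProjSpace.toSpec 1 k = Spec.map (CommRingCat.ofHom (algebraMap k
        (Away (CohB1.polyGrading 1 k) (X 0 : MvPolynomial (Fin 2) k)))) := hj0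
  obtain ⟨β₀, hβ₀⟩ := exists_ringEquiv_functionField_of_openImmersion k
    (CohB1.ProjSpace.toSpec 1 k) (Away (CohB1.polyGrading 1 k) (X 0 : MvPolynomial (Fin 2) k))
    j hj
    (FractionRing (Away (CohB1.polyGrading 1 k) (X 0 : MvPolynomial (Fin 2) k)))
  refine ⟨β₀.trans (IsFractionRing.ringEquivOfRingEquiv (awayEquiv k)), fun c => ?_⟩
  rw [RingEquiv.trans_apply, hβ₀, IsScalarTower.algebraMap_apply k
    (Away (CohB1.polyGrading 1 k) (X 0 : MvPolynomial (Fin 2) k))
    (FractionRing (Away (CohB1.polyGrading 1 k) (X 0 : MvPolynomial (Fin 2) k))),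
    IsFractionRing.ringEquivOfRingEquiv_algebraMap, awayEquiv_algebraMap]
  rfl

end P1

end Groth.Agent.Lib.T2H9.P1Dom
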