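import Mathlib
import Groth.Prelude.Def_Curv2
import Groth.Prelude.Def_Pi1
import Groth.Agent.Lib.T2H9DegMorD
import Groth.Agent.Lib.Helper4NormIso
import Groth.Agent.Lib.Helper20OnePtStalk
import Groth.Agent.Lib.T2H9P1Dom2

/-!
# T2H9DegMorF (helper9): a finite morphism of degree one onto a normal integral scheme is an isomorphism
-/

set_option autoImplicit false
set_option linter.style.haveILetI false
set_option linter.unusedSectionVars false
universe u

open CategoryTheory TopologicalSpace Opposite TopCat AlgebraicGeometry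

namespace Groth.Agent.Lib.T2H9.DegMor

section Key

variable {X Y : Scheme.{u}} [IsIntegral X] [IsIntegral Y] (f : X ⟶ Y)

theorem isField_stalk_of_eq_genericPoint (y : Y) (hy : y = genericPoint Y) :
    IsField (Y.presheaf.stalk y) := by
  subst hy
  exact Field.toIsField Y.functionField

theorem isFractionRing_stalk_of_eq_genericPoint (y : Y) (hy : y = genericPoint Y)
    (V : Y.Opens) (hV : IsAffineOpen V) (hyV : y ∈ V) :
    letI := (Y.presheaf.germ V y hyV).hom.toAlgebra
    IsFractionRing Γ(Y, V) (Y.presheaf.stalk y) := by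
  subst hy
  haveI : Nonempty V := ⟨⟨_, hyV⟩⟩
  exact functionField_isFractionRing_of_isAffineOpen Y V hV

theorem app_bijective_of_stalkMap_surjective [IsIntegralHom f] (x : X) (V : Y.Opens)
    (hV : IsAffineOpen V) (hxV : f x ∈ V)
    (hic : IsIntegrallyClosed Γ(Y, V))
    (hy : f x = genericPoint Y)
    (hsurj : Function.Surjective (f.stalkMap x).hom) :
    Function.Bijective (f.app V).hom := by
  have hK := isField_stalk_of_eq_genericPoint (f x) hy
  have hfr := isFractionRing_stalk_of_eq_genericPoint (f x) hy V hV hxV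
  letI := hK.toField
  have hinj : Function.Injective (f.stalkMap x).hom := (f.stalkMap x).hom.injective
  have hgX : Function.Injective (X.presheaf.germ (f ⁻¹ᵁ V) x hxV).hom :=
    germ_injective_of_isIntegral X x hxV
  have hgY : Function.Injective (Y.presheaf.germ V (f x) hxV).hom :=
    germ_injective_of_isIntegral Y (f x) hxV
  have hcomm : ∀ a, (f.stalkMap x).hom ((Y.presheaf.germ V (f x) hxV).hom a) =
      (X.presheaf.germ (f ⁻¹ᵁ V) x hxV).hom ((f.app V).hom a) :=
    fun a => Scheme.Hom.germ_stalkMap_apply f V x hxV a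
  constructor
  · intro a a' h
    apply hgY
    apply hinj
    rw [hcomm, hcomm, h]
  · intro b
    obtain ⟨c, hc⟩ := hsurj ((X.presheaf.germ (f ⁻¹ᵁ V) x hxV).hom b)
    have hb : (f.app V).hom.IsIntegralElem b := IsIntegralHom.isIntegral_app f V hV b
    obtain ⟨p, hp, hpb⟩ := hb
    letI := (Y.presheaf.germ V (f x) hxV).hom.toAlgebra
    have hcint : IsIntegral Γ(Y, V) c := by
      refine ⟨p, hp, ?_⟩
      apply hinj
      rw [map_zero]
      change (f.stalkMap x).hom (Polynomial.eval₂ (Y.presheaf.germ V (f x) hxV).hom c p) = 0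
      rw [Polynomial.hom_eval₂, hc]
      have h3 : (f.stalkMap x).hom.comp (Y.presheaf.germ V (f x) hxV).hom =
          (X.presheaf.germ (f ⁻¹ᵁ V) x hxV).hom.comp (f.app V).hom := by
        ext a
        exact hcomm a
      rw [h3, ← Polynomial.hom_eval₂, hpb, map_zero]
    haveI := hfr
    haveI := hic
    obtain ⟨a, ha⟩ := IsIntegrallyClosed.isIntegral_iff.1 hcint
    refine ⟨a, ?_⟩
    apply hgX
    rw [← hcomm, ← hc]
    exact congrArg _ ha

theorem stalkMap_surjective_of_stalkDeg_eq_one (x : X) (hy : f x = genericPoint Y)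
    (hdeg : stalkDeg f x = 1) : Function.Surjective (f.stalkMap x).hom := by
  have hK := isField_stalk_of_eq_genericPoint (f x) hy
  letI := hK.toField
  letI := (f.stalkMap x).hom.toAlgebra
  have h1 : Module.finrank (Y.presheaf.stalk (f x)) (X.presheaf.stalk x) = 1 := hdeg
  have h2 := (finrank_eq_one_iff_of_nonzero' (1 : X.presheaf.stalk x) one_ne_zero).1 h1
  intro b
  obtain ⟨c, hc⟩ := h2 b
  refine ⟨c, ?_⟩
  rw [← hc, Algebra.smul_def, mul_one]
  rfl

theorem isIso_of_app_bijective [IsAffineHom f]
    (h : ∀ V : Y.Opens, IsAffineOpen V → Function.Bijective (f.app V).hom) : IsIso f := by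
  rw [← MorphismProperty.isomorphisms.iff,
    HasAffineProperty.iff_of_iSup_eq_top (P := MorphismProperty.isomorphisms Scheme)
      (fun V : Y.affineOpens => V) (iSup_affineOpens_eq_top Y)]
  intro V
  refine ⟨(V.2.preimage f : IsAffineOpen (f ⁻¹ᵁ V.1)), ?_⟩
  rw [morphismRestrict_appTop]
  have hiso : IsIso (f.app (V.1.ι ''ᵁ ⊤)) :=
    (ConcreteCategory.isIso_iff_bijective (f.app (V.1.ι ''ᵁ ⊤))).2
      (h _ (by rw [Scheme.Opens.ι_image_top]; exact V.2))
  refine @IsIso.comp_isIso _ _ _ _ _ _ _ hiso ?_
  apply (config := { allowSynthFailures := true }) Functor.map_isIso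

/-- a finite morphism of degree one onto a normal integral scheme is an isomorphism -/
theorem isIso_of_stalkDeg_eq_one [IsFinite f] (hgen : f (genericPoint X) = genericPoint Y)
    (hdeg : stalkDeg f (genericPoint X) = 1) (hY : Pi1.IsNormalScheme Y) : IsIso f := by
  refine isIso_of_app_bijective f (fun V hV => ?_)
  by_cases hne : Nonempty V
  · have hη : genericPoint Y ∈ V :=
      ((genericPoint_spec Y).mem_open_set_iff V.isOpen).mpr (by simpa using hne)
    have hxV : f (genericPoint X) ∈ V := hgen ▸ hη
    exact app_bijective_of_stalkMap_surjective f (genericPoint X) V hV hxV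
      (Groth.Agent.Lib.Helper4.NormIso.isIntegrallyClosed_sections hY V hV) hgen
      (stalkMap_surjective_of_stalkDeg_eq_one f _ hgen hdeg)
  · have hV0 : V = ⊥ := by
      ext y
      constructor
      · intro hy
        exact (hne ⟨⟨y, hy⟩⟩).elim
      · intro hy
        exact hy.elim
    subst hV0
    haveI : Subsingleton Γ(X, f ⁻¹ᵁ ⊥) := by
      rw [Scheme.Hom.preimage_bot]
      infer_instance
    exact ⟨fun a b _ => Subsingleton.elim a b, fun b => ⟨0, Subsingleton.elim _ _⟩⟩

/-- the degree of a finite morphism with one-point generic fibre is positive -/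
theorem stalkDeg_pos [IsFinite f] (hgen : f (genericPoint X) = genericPoint Y)
    (hfib : f ⁻¹' {f (genericPoint X)} = {genericPoint X}) :
    0 < stalkDeg f (genericPoint X) := by
  have hK := isField_stalk_of_eq_genericPoint (f (genericPoint X)) hgen
  have hfin := Groth.Agent.Lib.Helper20.OnePt.stalkMap_finite_of_singleton_fibre f _ hfib
  letI := hK.toField
  letI := (f.stalkMap (genericPoint X)).hom.toAlgebra
  haveI : Module.Finite (Y.presheaf.stalk (f (genericPoint X)))
      (X.presheaf.stalk (genericPoint X)) := hfin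
  have h : 0 < Module.finrank (Y.presheaf.stalk (f (genericPoint X)))
      (X.presheaf.stalk (genericPoint X)) := Module.finrank_pos
  exact h

end Key

section P1

open Groth.Agent.Lib.T2H6.PnIntegral

variable (k : Type u) [Field k]

theorem isNormalScheme_P1 : Pi1.IsNormalScheme (CohB1.ProjSpace 1 k) := by
  intro x
  haveI := Groth.Agent.Lib.T2H9.P1Dom.valuationRing_stalk_P1 k x
  exact ⟨inferInstance, inferInstance⟩

variable {X : Scheme.{u}} [X.Over (Spec (CommRingCat.of k))] [IsIntegral X]
  [IsProper (X ↘ Spec (CommRingCat.of k))] (hdim : topologicalKrullDim X = 1)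
  (φ : X ⟶ CohB1.ProjSpace 1 k)
  (hφ : φ ≫ CohB1.ProjSpace.toSpec 1 k = X ↘ Spec (CommRingCat.of k))
  (hnc : ¬ ∃ p : CohB1.ProjSpace 1 k, IsClosed ({p} : Set (CohB1.ProjSpace 1 k)) ∧ Set.range φ ⊆ {p})

include hdim hφ hnc in
/-- a nonconstant morphism of degree at most one from a proper integral curve to `P^1` is an
isomorphism -/
theorem isIso_of_stalkDeg_le_one (hdeg : stalkDeg φ (genericPoint X) ≤ 1) : IsIso φ := by
  haveI := isFinite_of_nonconstant k hdim φ hφ hnc
  have hdimY := Groth.Agent.Lib.T2H6.GSplit.hdim1 k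
  have hgen := map_genericPoint_of_nonconstant φ hdimY hnc
  have hfib := fibre_genericPoint_of_nonconstant φ hdim hdimY φ.isClosedMap hnc
  have hpos := stalkDeg_pos φ hgen hfib
  exact isIso_of_stalkDeg_eq_one φ hgen (le_antisymm hdeg hpos) (isNormalScheme_P1 k)

end P1

end Groth.Agent.Lib.T2H9.DegMor
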