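import Mathlib
import Groth.Prelude.Def_Curv2
import Groth.Agent.Lib.T2H9DegMorF
import Groth.Agent.Lib.T2H6CurveLinSer2
import Groth.Agent.Lib.T2H6VAmpleC
import Groth.Agent.Lib.T2H6PtTwistD

/-!
# T2H9P1IsoA (helper9): `H^1(O_X) = 0` and an invertible module of degree one force `X ≅ P^1`
-/

set_option autoImplicit false
set_option linter.style.haveILetI false
set_option linter.unusedSectionVars false
universe u

open AlgebraicGeometry CategoryTheory Limits TopologicalSpace Opposite

namespace Groth.Agent.Lib.T2H9.P1Iso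

open Groth.Agent.Lib.Helper23.GenLocus Groth.Agent.Lib.Helper23.SecTw Groth.Agent.Lib.Helper6
  Groth.Agent.Lib.Helper23.Extend Groth.Agent.Lib.T2H6.CurveDeg
  Groth.Agent.Lib.T2H6.InvMono Groth.Agent.Lib.T2H5.GenIsoB
  Groth.Agent.Lib.T2H6.Segre Groth.Agent.Lib.T2H6.SegreB

variable {X : Scheme.{u}}

/-- a section generating everywhere is an isomorphism -/
theorem isIso_of_top_le_genLocus (L : X.Modules) (s : Coh.structureModule X ⟶ L)
    (h : ⊤ ≤ CohB1.genLocus L s) : IsIso s := by
  have hk : IsZero (kernel s) := by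
    apply Groth.Agent.Lib.T2H5.Devissage.isZero_of_support_eq_empty
    rw [Set.eq_empty_iff_forall_notMem]
    intro x
    obtain ⟨V, hxV, hV⟩ := (mem_genLocus_iff L s x).1 (h trivial)
    exact notMem_support_kernel_of_isoOn s V hV x hxV
  have hc : IsZero (cokernel s) := by
    apply Groth.Agent.Lib.T2H5.Devissage.isZero_of_support_eq_empty
    rw [Set.eq_empty_iff_forall_notMem]
    intro x
    obtain ⟨V, hxV, hV⟩ := (mem_genLocus_iff L s x).1 (h trivial)
    exact notMem_support_cokernel_of_isoOn s V hV x hxV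
  haveI : Mono s := Preadditive.mono_of_isZero_kernel s hk
  haveI : Epi s := Preadditive.epi_of_isZero_cokernel s hc
  exact isIso_of_mono_of_epi s

/-- outside the support of its cokernel a section of an invertible module generates -/
theorem mem_genLocus_of_notMem_support (L : X.Modules) (hL : PicF.IsInvertible L)
    (s : Coh.structureModule X ⟶ L) [Mono s] (x : X)
    (hx : x ∉ CohB1.support (cokernel s)) : x ∈ CohB1.genLocus L s := by
  have hsub : Subsingleton ((cokernel s).presheaf.stalk x) := by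
    by_contra hns
    exact hx hns
  obtain ⟨W, e, hxW, he⟩ := exists_gen L hL x
  let S : ShortComplex X.Modules := ShortComplex.mk s (cokernel.π s) (cokernel.condition s)
  have hS : S.ShortExact :=
    { exact := ShortComplex.exact_cokernel s
      mono_f := inferInstanceAs (Mono s)
      epi_g := inferInstanceAs (Epi (cokernel.π s)) }
  have hg : (cokernel s).presheaf.germ W x hxW ((cokernel.π s).app W e) =
      (cokernel s).presheaf.germ W x hxW 0 := Subsingleton.elim _ _
  obtain ⟨W', hxW', i1, i2, heq⟩ := (cokernel s).presheaf.germ_eq x hxW hxW _ _ hg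
  have hW'W : W' ≤ W := i1.le
  have hy : (cokernel.π s).app W' (res L hW'W e) = 0 := by
    have h1 := app_map (cokernel.π s) (homOfLE hW'W) e
    have h2 : (cokernel s).presheaf.map i1.op ((cokernel.π s).app W e) =
        (cokernel s).presheaf.map i2.op 0 := heq
    rw [map_zero] at h2
    exact h1.trans h2
  obtain ⟨a, ha⟩ := Groth.Agent.Lib.Helper2.ModExact.exists_app_eq_of_shortExact S hS W' _ hy
  have ha' : s.app W' a = res L hW'W e := ha
  have he' : IsGen L W' (res L hW'W e) := he.mono hW'W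
  have hs1 := sv_eq_coef_smul s he'
  set cs := coef he' le_rfl (sv s W') with hcs
  have h1 : s.app W' a = (ofS W' a * cs) • res L hW'W e := by
    have := app_toS s W' (ofS W' a)
    rw [toS_ofS] at this
    rw [this, mul_smul, ← hs1]
  have h3 : ofS W' a * cs = 1 := by
    apply (he' W' le_rfl).1
    change (ofS W' a * cs) • res L le_rfl (res L hW'W e) = (1 : Γ(X, W')) • res L le_rfl (res L hW'W e)
    rw [Groth.Agent.Lib.Helper23.SecTw.res_self, ← h1, one_smul, ha']
  have hgs := genLocus_inf_eq_coef s he'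
  rw [← hcs] at hgs
  have hxcs : x ∈ X.basicOpen cs := by
    rw [Scheme.mem_basicOpen X _ x hxW']
    have h4 : X.presheaf.germ W' x hxW' (ofS W' a) * X.presheaf.germ W' x hxW' cs = 1 := by
      rw [← map_mul, h3, map_one]
    exact IsUnit.of_mul_eq_one _ (by rw [mul_comm]; exact h4)
  rw [← hgs] at hxcs
  exact hxcs.1

variable (k : Type u) [Field k] [X.Over (Spec (CommRingCat.of k))] [IsIntegral X]
  [IsProper (X ↘ Spec (CommRingCat.of k))]

/-- two sections generating an invertible module of degree one define an isomorphism to `P^1` -/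
theorem exists_iso_of_generating_pair (hdim : topologicalKrullDim X = 1)
    (L : X.Modules) (hL : PicF.IsInvertible L) (hdeg : Curv2.deg k X L 1 = 1)
    (s t : Coh.structureModule X ⟶ L)
    (hcov : ∀ x : X, x ∈ CohB1.genLocus L s ∨ x ∈ CohB1.genLocus L t) :
    ∃ e : X ≅ CohB1.ProjSpace 1 k,
      e.hom ≫ CohB1.ProjSpace.toSpec 1 k = X ↘ (Spec (CommRingCat.of k)) := by
  classical
  let sec : Fin (1 + 1) → ProjUP.Γm L := fun i => if i = 0 then sv s ⊤ else sv t ⊤
  have hsec0 : secHom L (sec 0) = s := by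
    change secHom L (sv s ⊤) = s
    exact Groth.Agent.Lib.T2H6.VAmpleB.secHom_sv s
  have hsec1 : secHom L (sec 1) = t := by
    change secHom L (sv t ⊤) = t
    exact Groth.Agent.Lib.T2H6.VAmpleB.secHom_sv t
  have hgen : ProjUP.GeneratedBy L sec := by
    refine Groth.Agent.Lib.T2H6.VAmple.generatedBy_of_cover L sec (fun x => ?_)
    rcases hcov x with h | h
    · exact ⟨0, by rw [hsec0]; exact h⟩
    · exact ⟨1, by rw [hsec1]; exact h⟩
  obtain ⟨φ, hφ, hchart, τ, -⟩ := Groth.Agent.Lib.T2H6.VAmpleC.exists_mor_Pn 1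
    (X ↘ Spec (CommRingCat.of k)) L hL sec hgen
  have hnc : ¬ ∃ p : CohB1.ProjSpace 1 k,
      IsClosed ({p} : Set (CohB1.ProjSpace 1 k)) ∧ Set.range φ ⊆ {p} := by
    rintro ⟨p, -, hp⟩
    obtain ⟨j, hj⟩ := D_cover k 1 p
    obtain ⟨-, hge, -⟩ := hchart j
    have htop : ⊤ ≤ CohB1.genLocus L (secHom L (sec j)) := by
      intro x _
      apply hge
      change φ x ∈ D k 1 j
      have : φ x = p := hp ⟨x, rfl⟩
      rw [this]
      exact hj
    haveI := isIso_of_top_le_genLocus L _ htop
    have h0 := Groth.Agent.Lib.T2H6.PtTwistD.deg_eq_of_iso k (asIso (secHom L (sec j))) 1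
    rw [deg_structureModule, hdeg] at h0
    exact zero_ne_one h0
  have h1 := Groth.Agent.Lib.T2H9.DegMor.deg_pullback_twist_one k hdim φ hφ hnc
  rw [Groth.Agent.Lib.T2H6.PtTwistD.deg_eq_of_iso k τ 1, hdeg] at h1
  have h2 : Groth.Agent.Lib.T2H9.DegMor.stalkDeg φ (genericPoint X) = 1 := by exact_mod_cast h1.symm
  haveI := Groth.Agent.Lib.T2H9.DegMor.isIso_of_stalkDeg_le_one k hdim φ hφ hnc h2.le
  exact ⟨asIso φ, hφ⟩

/-- **S6541**: `H^1(O) = 0` and an invertible module of degree one force `X ≅ P^1` -/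
theorem exists_iso_of_h1_zero (hdim : topologicalKrullDim X = 1)
    (h1 : Subsingleton (Coh.HH X (Coh.structureModule X) 1))
    (L : X.Modules) (hL : PicF.IsInvertible L) (hdeg : Curv2.deg k X L 1 = 1) :
    ∃ e : X ≅ CohB1.ProjSpace 1 k,
      e.hom ≫ CohB1.ProjSpace.toSpec 1 k = X ↘ (Spec (CommRingCat.of k)) := by
  have hO := Groth.Agent.Lib.Helper23.TensorUnit.isInvertible_structureModule X
  haveI := Groth.Agent.Lib.T2H6.CurveRR.isQuasicoherent_of_isInvertible L hL
  haveI := Groth.Agent.Lib.T2H6.CurveRR.isQuasicoherent_of_isInvertible _ hO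
  have hOe := Groth.Agent.Lib.T2H6.CurveRR.euler_eq_sub k hdim (Coh.structureModule X)
  have hLe := Groth.Agent.Lib.T2H6.CurveRR.euler_eq_sub k hdim L
  have hO1 : Module.finrank k (Coh.HH X (Coh.structureModule X) 1) = 0 :=
    Module.finrank_zero_of_subsingleton
  have hd := hdeg
  unfold Curv2.deg at hd
  rw [hOe, hLe, hO1] at hd
  push_cast at hd
  have hpos : 0 < Module.finrank k (Coh.HH X L 0) := by
    have : (0 : ℤ) < (Module.finrank k (Coh.HH X L 0) : ℤ) := by
      have h3 : (0 : ℤ) ≤ (Module.finrank k (Coh.HH X L 1) : ℤ) := Int.natCast_nonneg _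
      have h4 : (0 : ℤ) ≤ (Module.finrank k (Coh.HH X (Coh.structureModule X) 0) : ℤ) :=
        Int.natCast_nonneg _
      linarith
    exact_mod_cast this
  have hnt : Nontrivial (Coh.HH X L 0) := Module.nontrivial_of_finrank_pos (R := k) hpos
  obtain ⟨s, hs⟩ := Groth.Agent.Lib.T2H6.CurveRR.exists_section_ne_zero L hnt
  have hS := sc_shortExact hO hL s hs
  have hsurj : Function.Surjective (Canon.HHlin k (cokernel.π s) 0) :=
    Groth.Agent.Lib.T2H6.HHLin.surjective_g k (sc s) hS 0 h1
  obtain ⟨t, ht⟩ := Groth.Agent.Lib.T2H6.CurveLinSer2.exists_section_genLocus k hdim L hL s hs hsurj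
  haveI : Mono s := mono_of_ne_zero hO hL s hs
  refine exists_iso_of_generating_pair k hdim L hL hdeg s t (fun x => ?_)
  by_cases hx : x ∈ CohB1.support (cokernel s)
  · exact Or.inr (ht x hx)
  · exact Or.inl (mem_genLocus_of_notMem_support L hL s x hx)

end Groth.Agent.Lib.T2H9.P1Iso
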