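import Mathlib
import Groth.Prelude.Def_Curv2
import Groth.Agent.Lib.T2H9P1IsoA
import Groth.Agent.Lib.T2H6PtTwistD
import Groth.Agent.Lib.T2H9TensorInv
import Groth.Agent.Lib.T2H9DVRSmooth

/-!
# T2H9RatPt (helper9): sections `Spec k ⟶ X` give closed rational points; a curve with `H^1(O) = 0` and a
rational point with a discrete valuation local ring is the projective line
-/

set_option autoImplicit false
set_option linter.style.haveILetI false
set_option linter.unusedSectionVars false
universe u

open AlgebraicGeometry CategoryTheory Limits TopologicalSpace Opposite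

namespace Groth.Agent.Lib.T2H9.RatPt

variable (k : Type u) [Field k] {X : Scheme.{u}} [X.Over (Spec (CommRingCat.of k))]
  (s : Spec (CommRingCat.of k) ⟶ X) (hs : s ≫ (X ↘ Spec (CommRingCat.of k)) = 𝟙 _)

/-- the image point of a section -/
noncomputable def pt : X := s (IsLocalRing.closedPoint k)

include hs in
theorem isClosedImmersion_of_section : IsClosedImmersion s :=
  isClosedImmersion_of_comp_eq_id (X ↘ Spec (CommRingCat.of k)) s hs

theorem range_eq : Set.range s = {pt k s} := by
  ext x
  constructor
  · rintro ⟨z, rfl⟩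
    have : z = IsLocalRing.closedPoint k := Subsingleton.elim _ _
    rw [this]
    rfl
  · rintro rfl
    exact ⟨_, rfl⟩

include hs in
theorem isClosed_pt : IsClosed ({pt k s} : Set X) := by
  haveI := isClosedImmersion_of_section k s hs
  rw [← range_eq]
  exact s.isClosedEmbedding.isClosed_range

include hs in
theorem stalkClosedPointTo_stalkMap (c : k) :
    (Scheme.stalkClosedPointTo s).hom (Curv2.stalkMap k X (pt k s) c) = c := by
  have h3 : ∀ y : Γ(X, ⊤), (Scheme.stalkClosedPointTo s).hom
      ((X.presheaf.germ ⊤ (s (IsLocalRing.closedPoint k)) trivial).hom y) =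
      (Scheme.ΓSpecIso (CommRingCat.of k)).hom.hom (s.appTop.hom y) := by
    intro y
    change ((stalkClosedPointIso (CommRingCat.of k)).hom).hom
      ((s.stalkMap (IsLocalRing.closedPoint k)).hom
        ((X.presheaf.germ ⊤ (s (IsLocalRing.closedPoint k)) trivial).hom y)) = _
    rw [Scheme.Hom.germ_stalkMap_apply]
    change (((Spec (CommRingCat.of k)).presheaf.germ ⊤ (IsLocalRing.closedPoint k) trivial ≫
      (stalkClosedPointIso (CommRingCat.of k)).hom)).hom (s.appTop.hom y) = _
    rw [germ_stalkClosedPointIso_hom]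
  have h4 : s.appTop.hom (Coh.toGlobal (X ↘ Spec (CommRingCat.of k)) c) =
      (Scheme.ΓSpecIso (CommRingCat.of k)).inv.hom c := by
    change ((X ↘ Spec (CommRingCat.of k)).appTop ≫ s.appTop).hom
      ((Scheme.ΓSpecIso (CommRingCat.of k)).inv.hom c) = _
    rw [← Scheme.Hom.comp_appTop, hs]
    rfl
  change (Scheme.stalkClosedPointTo s).hom
    ((X.presheaf.germ ⊤ (s (IsLocalRing.closedPoint k)) trivial).hom
      (Coh.toGlobal (X ↘ Spec (CommRingCat.of k)) c)) = c
  rw [h3, h4]
  change ((Scheme.ΓSpecIso (CommRingCat.of k)).inv ≫ (Scheme.ΓSpecIso (CommRingCat.of k)).hom).hom c = c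
  rw [Iso.inv_hom_id]
  rfl

include hs in
/-- the image of a section is a rational point -/
theorem resMap_surjective : Function.Surjective (Curv2.resMap k X (pt k s)) := by
  intro b
  obtain ⟨a, rfl⟩ := IsLocalRing.residue_surjective b
  refine ⟨(Scheme.stalkClosedPointTo s).hom a, ?_⟩
  set c := (Scheme.stalkClosedPointTo s).hom a with hc
  change IsLocalRing.residue _ (Curv2.stalkMap k X (pt k s) c) = IsLocalRing.residue _ a
  rw [← sub_eq_zero, ← map_sub, IsLocalRing.residue_eq_zero_iff]
  rw [IsLocalRing.mem_maximalIdeal, mem_nonunits_iff]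
  intro hu
  have h1 : IsUnit ((Scheme.stalkClosedPointTo s).hom (Curv2.stalkMap k X (pt k s) c - a)) :=
    hu.map _
  have h2 : (Scheme.stalkClosedPointTo s).hom (Curv2.stalkMap k X (pt k s) c - a) = 0 := by
    have h3 := stalkClosedPointTo_stalkMap k s hs c
    have h4 := RingHom.map_sub (Scheme.stalkClosedPointTo s).hom (Curv2.stalkMap k X (pt k s) c) a
    exact h4.trans (by rw [h3, hc, sub_self])
  rw [h2] at h1
  exact not_isUnit_zero h1


/-- a normal Noetherian local domain of dimension one is a discrete valuation ring -/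
theorem isDVR_of_normal_dim_one (R : Type*) [CommRing R] [IsDomain R] [IsLocalRing R]
    [IsNoetherianRing R] [IsIntegrallyClosed R] (h : ringKrullDim R = 1) :
    IsDiscreteValuationRing R := by
  have hF : ¬ IsField R := by
    intro hF
    have h0 := ringKrullDim_eq_zero_of_isField hF
    rw [h] at h0
    exact one_ne_zero h0
  haveI : Ring.KrullDimLE 1 R := Ring.krullDimLE_iff.mpr (by rw [h]; rfl)
  haveI : Ring.DimensionLEOne R :=
    ⟨fun {p} hp hp' => Ring.krullDimLE_one_iff_of_noZeroDivisors.mp ‹_› p hp hp'⟩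
  haveI ded : IsDedekindDomain R := { }
  exact ((IsDiscreteValuationRing.TFAE R hF).out 2 0).mp ded

variable [IsIntegral X] [IsProper (X ↘ Spec (CommRingCat.of k))]

include hs in
/-- a proper integral curve with `H^1(O) = 0` and a rational point whose local ring is a discrete valuation ring
is the projective line -/
theorem exists_iso_of_section (hdim : topologicalKrullDim X = 1)
    (h1 : Subsingleton (Coh.HH X (Coh.structureModule X) 1))
    (hdvr : IsDiscreteValuationRing (X.presheaf.stalk (pt k s))) :
    ∃ e : X ≅ CohB1.ProjSpace 1 k,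
      e.hom ≫ CohB1.ProjSpace.toSpec 1 k = X ↘ (Spec (CommRingCat.of k)) := by
  haveI := Groth.Agent.Lib.T2H6.CurveDeg.isLocallyNoetherian (X := X) k
  have hp := isClosed_pt k s hs
  have hrat := resMap_surjective k s hs
  have hI := Groth.Agent.Lib.T2H6.PtTwistD.isInvertible_idealMod_ptIdeal X hdim (pt k s) hp hdvr
  have hdegI := Groth.Agent.Lib.T2H6.PtTwistD.deg_idealMod_ptIdeal k (pt k s) hp hrat
  have hL := Groth.Agent.Lib.T2H9.TensorInv.isInvertible_inv _ hI
  have hdeg := Groth.Agent.Lib.T2H6.PtTwistD.deg_inv k hdim _ hI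
  rw [hdegI, neg_neg] at hdeg
  exact Groth.Agent.Lib.T2H9.P1Iso.exists_iso_of_h1_zero k hdim h1 _ hL hdeg

end Groth.Agent.Lib.T2H9.RatPt
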