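import Mathlib
import Groth.Agent.Lib.T2H6PtTwistD
import Groth.Agent.Lib.T2H6DegNonpos
import Groth.Agent.Lib.T2H5Dev2
set_option backward.isDefEq.respectTransparency.types false

/-!
# Twisting down at a base point (helper6)

Namespace `Groth.Agent.Lib.T2H6.PtTwistE`.

* `comp_πM_eq_zero` : a section of `O ⊗ M` which does not generate at `p` dies in `O_p ⊗ M`.
* `stay` : if `h⁰(O ⊗ M) = 1` and the section vanishes at `p` then `h⁰(I_p ⊗ M) = 1`.
* `exists_stay`, `exists_stay_many` : on a smooth curve, lowering the degree keeping `h⁰ = 1`.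
-/

set_option autoImplicit false
set_option linter.style.haveILetI false
set_option linter.unusedSectionVars false
universe u
open CategoryTheory CategoryTheory.Limits Opposite TopologicalSpace AlgebraicGeometry

namespace Groth.Agent.Lib.T2H6.PtTwistE

open Groth.Agent.Lib.Helper23.Serre Groth.Agent.Lib.Helper23.GenLocus Groth.Agent.Lib.Helper23.SecTw
  Groth.Agent.Lib.Helper6 Groth.Agent.Lib.Helper23.AffVanish Groth.Agent.Lib.Helper23.QCohLocal
  Groth.Agent.Lib.T2H5.Twist Groth.Agent.Lib.T2H6.ParShA Groth.Agent.Lib.T2H6.ParShC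
  Groth.Agent.Lib.T2H6.AmpleCrit Groth.Agent.Lib.T2H6.PtTwistA Groth.Agent.Lib.T2H6.PtTwistB
  Groth.Agent.Lib.T2H6.PtTwistC Groth.Agent.Lib.T2H6.PtTwistD

variable {X : Scheme.{u}}

/-- a section of `O ⊗ M` which does not generate `M` at the closed point `p` dies in `O_p ⊗ M`. -/
theorem comp_πM_eq_zero (M : X.Modules) (hM : PicF.IsInvertible M)
    (p : X) (hp : IsClosed ({p} : Set X))
    (s₀ : Coh.structureModule X ⟶ CohB1.tensorMod (Coh.structureModule X) M)
    (hps : p ∉ CohB1.genLocus _ s₀) :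
    s₀ ≫ πM (ptIdeal p hp) M = 0 := by
  obtain ⟨W, e, hpW, hgen⟩ := exists_gen M hM p
  obtain ⟨U, hU, hpU, hUW⟩ := exists_isAffineOpen_mem_and_subset (x := p) (U := W) hpW
  let U' : X.affineOpens := ⟨U, hU⟩
  have hgenU : IsGen M U (res M hUW e) := hgen.mono hUW
  set eU := res M hUW e with heU
  have hg : IsGen (CohB1.tensorMod (Coh.structureModule X) M) U
      (tm (Coh.structureModule X) M U (toS U 1) eU) :=
    isGen_tm (Coh.structureModule X) M U (toS U 1) eU (isGen_one U) hgenU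
  have hloc := genLocus_inf_eq_coef s₀ hg
  set c := coef hg le_rfl (sv s₀ U) with hc
  have hsv : sv s₀ U = c • tm (Coh.structureModule X) M U (toS U 1) eU := sv_eq_coef_smul s₀ hg
  have hpc : p ∉ X.basicOpen c := by
    rw [← hloc]
    exact fun h => hps h.1
  have hcI : c ∈ (ptIdeal p hp).ideal U' := (mem_ptIdeal_iff p hp U' hpU c).2 hpc
  have hc0 : ((ptIdeal p hp).subschemeι.app U).hom c = 0 := by
    rw [← RingHom.mem_ker, (ptIdeal p hp).ker_subschemeι_app U']
    exact hcI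
  -- the section over `U` vanishes
  have h1 : sv (s₀ ≫ πM (ptIdeal p hp) M) U = 0 := by
    rw [Groth.Agent.Lib.T2H6.NegTwistB.sv_comp, hsv, Scheme.Modules.Hom.app_smul]
    have h2 : (πM (ptIdeal p hp) M).app U (tm (Coh.structureModule X) M U (toS U 1) eU) =
        tm (ClSub.quotMod (ptIdeal p hp)) M U ((ClSub.toSubscheme (ptIdeal p hp)).app U (toS U 1)) eU :=
      trMap_toSubscheme_tm (ptIdeal p hp) M U 1 eU
    rw [h2, ← tm_smul_left]
    have h4 : c • (ClSub.toSubscheme (ptIdeal p hp)).app U (toS U 1) =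
        (0 : Γ(ClSub.quotMod (ptIdeal p hp), U)) := by
      rw [smul_toSubscheme_one (ptIdeal p hp) U c]
      have h3 : toS ((ptIdeal p hp).subschemeι ⁻¹ᵁ U) (((ptIdeal p hp).subschemeι.app U).hom c) = 0 := by
        rw [hc0]; rfl
      exact h3
    rw [h4, tm_zero_left]
  -- the support of `O_p ⊗ M`
  have hQMsupp : CohB1.support (CohB1.tensorMod (ClSub.quotMod (ptIdeal p hp)) M) ⊆ {p} := by
    refine (Groth.Agent.Lib.T2H5.Dim0.support_tensorMod_subset _ _).trans ?_
    have h := support_quotMod_subset (ptIdeal p hp)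
    rwa [coe_support_ptIdeal] at h
  have hsv0 : sv (s₀ ≫ πM (ptIdeal p hp) M) ⊤ =
      sv (0 : Coh.structureModule X ⟶ CohB1.tensorMod (ClSub.quotMod (ptIdeal p hp)) M) ⊤ := by
    let Ux : X.Opens := ⟨({p} : Set X)ᶜ, hp.isOpen_compl⟩
    have hcover : (⊤ : X.Opens) ≤ U ⊔ Ux := by
      intro y _
      by_cases hy : y = p
      · left; rw [hy]; exact hpU
      · right; exact hy
    refine eq_of_res_eq₂ _ (le_top : U ≤ ⊤) (le_top : Ux ≤ ⊤) hcover _ _ ?_ ?_
    · rw [res_sv, res_sv, h1, sv_zero]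
    · have hz : ∀ t : Γ(CohB1.tensorMod (ClSub.quotMod (ptIdeal p hp)) M, Ux), t = 0 :=
        Groth.Agent.Lib.T2H5.Dev2.section_eq_zero_of_support Ux (fun x hx hx' => hx (hQMsupp hx'))
      rw [hz (res _ _ (sv (s₀ ≫ πM (ptIdeal p hp) M) ⊤)), hz (res _ _ (sv 0 ⊤))]
  rw [← Groth.Agent.Lib.T2H6.VAmpleB.secHom_sv (s₀ ≫ πM (ptIdeal p hp) M), hsv0,
    Groth.Agent.Lib.T2H6.VAmpleB.secHom_sv]

section curve

variable (k : Type u) [Field k] [X.Over (Spec (CommRingCat.of k))] [IsIntegral X]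
  [IsProper (X ↘ Spec (CommRingCat.of k))]

/-- **Twisting down at a base point**: if `h⁰(O ⊗ M) = 1` and the section vanishes at `p`, then `h⁰(I_p ⊗ M) = 1`. -/
theorem stay (p : X) (hp : IsClosed ({p} : Set X)) (M : X.Modules) (hM : PicF.IsInvertible M)
    (h01 : Module.finrank k (Coh.HH X (CohB1.tensorMod (Coh.structureModule X) M) 0) = 1)
    (s₀ : Coh.structureModule X ⟶ CohB1.tensorMod (Coh.structureModule X) M) (hs₀ : s₀ ≠ 0)
    (hps : p ∉ CohB1.genLocus _ s₀) :
    Module.finrank k (Coh.HH X (CohB1.tensorMod (ClSub.idealMod (ptIdeal p hp)) M) 0) = 1 := by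
  haveI : IsNoetherian X := Groth.Agent.Lib.T2H6.CurveSatur.isNoetherian_of_proper k
  have hS : (twSC (ptIdeal p hp) M).ShortExact :=
    shortExact_map_tr hM (idealSC (ptIdeal p hp)) (idealSC_shortExact (ptIdeal p hp))
  have hOc : Coh.IsCoh (Coh.structureModule X) := Groth.Agent.Lib.T2H5.GenIsoF.isCoh_structureModule
  have hMc := Groth.Agent.Lib.T2H6.CurveDeg.isCoh_of_isInvertible M hM
  have h2c : Coh.IsCoh (twSC (ptIdeal p hp) M).X₂ :=
    Groth.Agent.Lib.T2H6.TensorDeg.isCoh_tensor _ M hOc hMc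
  have ha := Groth.Agent.Lib.T2H6.CurveLinSer.finrank_H0_eq k (twSC (ptIdeal p hp) M) hS h2c
  have hfin : Module.finrank k (Coh.structureModule X ⟶ CohB1.tensorMod (Coh.structureModule X) M) = 1 := by
    rw [Groth.Agent.Lib.T2H6.CurveSerre.finrank_hom_eq, h01]
  have hspan := (finrank_eq_one_iff_of_nonzero' s₀ hs₀).1 hfin
  have hr : LinearMap.range (Canon.HHlin k (twSC (ptIdeal p hp) M).g 0) = ⊥ := by
    rw [eq_bot_iff]
    rintro _ ⟨x, rfl⟩
    obtain ⟨σ, rfl⟩ := (Groth.Agent.Lib.T2H6.CurveSerre.bijective_evLin k _).2 x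
    obtain ⟨c, rfl⟩ := hspan σ
    have h1 : Groth.Agent.Lib.T2H6.CurveSerre.evLin k _ ((c • s₀) ≫ πM (ptIdeal p hp) M) =
        Canon.HHlin k (twSC (ptIdeal p hp) M).g 0
          (Groth.Agent.Lib.T2H6.CurveSerre.evLin k _ (c • s₀)) :=
      Groth.Agent.Lib.T2H6.HHLin.HHlin_comp_apply k (c • s₀) (πM (ptIdeal p hp) M) 0 _
    rw [Submodule.mem_bot, ← h1, Linear.smul_comp, comp_πM_eq_zero M hM p hp s₀ hps, smul_zero, map_zero]
    rfl
  rw [hr, finrank_bot] at ha
  change Module.finrank k (Coh.HH X (twSC (ptIdeal p hp) M).X₁ 0) = 1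
  change Module.finrank k (Coh.HH X (twSC (ptIdeal p hp) M).X₂ 0) = 1 at h01
  omega

variable [IsAlgClosed k] [Smooth (X ↘ Spec (CommRingCat.of k))]

attribute [local instance] Curv2.resAlgebra

include k in
/-- on a smooth curve every closed point has an invertible ideal. -/
theorem isInvertible_idealMod_ptIdeal_of_smooth (hdim : topologicalKrullDim X = 1) (p : X)
    (hp : IsClosed ({p} : Set X)) : PicF.IsInvertible (ClSub.idealMod (ptIdeal p hp)) := by
  haveI : LocallyOfFiniteType (X ↘ Spec (CommRingCat.of k)) := inferInstance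
  haveI : LocallyOfFinitePresentation (X ↘ Spec (CommRingCat.of k)) := inferInstance
  haveI := Groth.Agent.Lib.T2H6.CurveDeg.isLocallyNoetherian (X := X) k
  haveI : Algebra.IsSeparable k (X.residueField p) := by
    haveI : Module.Finite k (X.residueField p) :=
      Groth.Agent.Lib.T2H6.ResFinite.finite_residueField k X p hp
    haveI : Algebra.IsAlgebraic k (X.residueField p) := Algebra.IsAlgebraic.of_finite k _
    infer_instance
  have hps : p ∈ (X ↘ Spec (CommRingCat.of k)).smoothLocus := by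
    rw [Scheme.Hom.smoothLocus_eq_top]
    trivial
  exact isInvertible_idealMod_ptIdeal X hdim p hp
    ((Groth.Agent.Lib.T2H9.DVRSmooth.main k X hdim p hp).2 hps)

/-- lowering the degree by one keeping `h⁰ = 1`. -/
theorem exists_stay (hdim : topologicalKrullDim X = 1) (M : X.Modules) (hM : PicF.IsInvertible M)
    (h0 : Module.finrank k (Coh.HH X M 0) = 1) (hdeg : 0 < Curv2.deg k X M 1) :
    ∃ M' : X.Modules, PicF.IsInvertible M' ∧ Module.finrank k (Coh.HH X M' 0) = 1 ∧
      Curv2.deg k X M' 1 = Curv2.deg k X M 1 - 1 := by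
  haveI : LocallyOfFiniteType (X ↘ Spec (CommRingCat.of k)) := inferInstance
  haveI : JacobsonSpace X := LocallyOfFiniteType.jacobsonSpace (X ↘ Spec (CommRingCat.of k))
  have e := Groth.Agent.Lib.Helper23.TensorUnit.unitTensorIso M
  have e0 := Groth.Agent.Lib.T2H6.FieldBC.finrank_HH_eq_of_iso k X e 0
  have hO := Groth.Agent.Lib.Helper23.TensorUnit.isInvertible_structureModule X
  have hOM : PicF.IsInvertible (CohB1.tensorMod (Coh.structureModule X) M) :=
    Groth.Agent.Lib.Helper23.SecTw.isInvertible_tensorMod hO hM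
  have h01 : Module.finrank k (Coh.HH X (CohB1.tensorMod (Coh.structureModule X) M) 0) = 1 := by
    rw [e0, h0]
  have hnt : Nontrivial (Coh.HH X (CohB1.tensorMod (Coh.structureModule X) M) 0) := by
    apply Module.nontrivial_of_finrank_pos (R := k)
    rw [h01]
    exact one_pos
  obtain ⟨s₀, hs₀⟩ := Groth.Agent.Lib.T2H6.CurveRR.exists_section_ne_zero _ hnt
  have hne : CohB1.genLocus _ s₀ ≠ ⊤ := by
    intro htop
    haveI := Groth.Agent.Lib.T2H6.DegNonpos.isIso_of_genLocus_eq_top _ s₀ htop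
    have h1 := deg_eq_of_iso k (asIso s₀) 1
    have h2 := deg_eq_of_iso k e 1
    rw [Groth.Agent.Lib.T2H6.CurveDeg.deg_structureModule] at h1
    rw [← h2, ← h1] at hdeg
    exact lt_irrefl _ hdeg
  have hZne : ((CohB1.genLocus _ s₀ : Set X)ᶜ).Nonempty := by
    rw [Set.nonempty_compl]
    intro h
    exact hne (TopologicalSpace.Opens.ext h)
  obtain ⟨p, hpZ, hpc⟩ := nonempty_inter_closedPoints hZne
    (CohB1.genLocus _ s₀).2.isClosed_compl.isLocallyClosed
  have hp : IsClosed ({p} : Set X) := hpc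
  have hinv := isInvertible_idealMod_ptIdeal_of_smooth k hdim p hp
  have hrat := surjective_resMap k X p hp
  refine ⟨CohB1.tensorMod (ClSub.idealMod (ptIdeal p hp)) M,
    Groth.Agent.Lib.Helper23.SecTw.isInvertible_tensorMod hinv hM,
    stay k p hp M hM h01 s₀ hs₀ hpZ, ?_⟩
  rw [deg_tensor1 k hdim _ M hinv hM, deg_idealMod_ptIdeal k p hp hrat]
  ring

/-- lowering the degree by `d` keeping `h⁰ = 1`. -/
theorem exists_stay_many (hdim : topologicalKrullDim X = 1) :
    ∀ (d : ℕ) (M : X.Modules), PicF.IsInvertible M → Module.finrank k (Coh.HH X M 0) = 1 →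
      (d : ℤ) ≤ Curv2.deg k X M 1 →
      ∃ M' : X.Modules, PicF.IsInvertible M' ∧ Module.finrank k (Coh.HH X M' 0) = 1 ∧
        Curv2.deg k X M' 1 = Curv2.deg k X M 1 - d
  | 0, M, hM, h0, _ => ⟨M, hM, h0, by simp⟩
  | d + 1, M, hM, h0, hd => by
    push_cast at hd
    obtain ⟨M₁, hM₁, a0, a1⟩ := exists_stay k hdim M hM h0 (by linarith [Int.natCast_nonneg d])
    obtain ⟨M₂, hM₂, b0, b1⟩ := exists_stay_many hdim d M₁ hM₁ a0 (by rw [a1]; linarith)
    refine ⟨M₂, hM₂, b0, ?_⟩
    rw [b1, a1]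
    push_cast
    ring

/-- **Invertible modules of every degree `r ≤ g` with `h⁰ = 1`** on a smooth proper curve. -/
theorem exists_deg_h0_one (hdim : topologicalKrullDim X = 1) (r : ℕ) (hr : r ≤ Curv2.genus k X) :
    ∃ L : X.Modules, PicF.IsInvertible L ∧ Curv2.deg k X L 1 = (r : ℤ) ∧
      Module.finrank k (Coh.HH X L 0) = 1 := by
  obtain ⟨⟨L, hL, h0, h1⟩, -⟩ := main1523' k hdim
  haveI : L.IsQuasicoherent := (Groth.Agent.Lib.T2H6.CurveDeg.isCoh_of_isInvertible L hL).1
  have eL := Groth.Agent.Lib.T2H6.CurveRR.euler_eq_sub k hdim L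
  have eO := euler_structureModule k hdim
  have f1 : Module.finrank k (Coh.HH X L 1) = 0 := Module.finrank_zero_of_subsingleton
  rw [h0, f1] at eL
  have hdegL : Curv2.deg k X L 1 = (Curv2.genus k X : ℤ) := by
    unfold Curv2.deg
    rw [eL, eO]
    push_cast
    ring
  obtain ⟨M', hM', a0, a1⟩ := exists_stay_many k hdim (Curv2.genus k X - r) L hL h0 (by
    rw [hdegL]; exact_mod_cast Nat.sub_le _ _)
  refine ⟨M', hM', ?_, a0⟩
  rw [a1, hdegL]
  have : ((Curv2.genus k X - r : ℕ) : ℤ) = (Curv2.genus k X : ℤ) - r := Nat.cast_sub hr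
  rw [this]
  ring

end curve

end Groth.Agent.Lib.T2H6.PtTwistE
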