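import Mathlib
import Groth.Agent.Lib.T2H6PtTwistE
import Groth.Agent.Lib.T2H6InvMono
import Groth.Agent.Lib.Helper23GG
import Groth.Agent.Lib.Helper23AmpleIso
import Groth.Agent.Lib.T2H6TensorPows
set_option backward.isDefEq.respectTransparency.types false

/-!
# Base points and the inequality `h⁰(L) + h⁰(L') ≤ h⁰(L ⊗ L') + 1` on a curve (helper6)

Namespace `Groth.Agent.Lib.T2H6.PtTwistF`.
-/

set_option autoImplicit false
set_option linter.style.haveILetI false
set_option linter.unusedSectionVars false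
universe u
open CategoryTheory CategoryTheory.Limits Opposite TopologicalSpace AlgebraicGeometry

namespace Groth.Agent.Lib.T2H6.PtTwistF

open Groth.Agent.Lib.T2H5.Twist Groth.Agent.Lib.T2H6.AmpleCrit Groth.Agent.Lib.T2H6.PtTwistA
  Groth.Agent.Lib.T2H6.PtTwistB Groth.Agent.Lib.T2H6.PtTwistC Groth.Agent.Lib.T2H6.PtTwistD
  Groth.Agent.Lib.T2H6.PtTwistE

variable {X : Scheme.{u}} (k : Type u) [Field k] [X.Over (Spec (CommRingCat.of k))] [IsIntegral X]
  [IsProper (X ↘ Spec (CommRingCat.of k))]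

/-- if every section vanishes at `p` then `h⁰(I_p ⊗ M) = h⁰(O ⊗ M)`. -/
theorem stay_all (p : X) (hp : IsClosed ({p} : Set X)) (M : X.Modules) (hM : PicF.IsInvertible M)
    (hall : ∀ s₀ : Coh.structureModule X ⟶ CohB1.tensorMod (Coh.structureModule X) M,
      p ∉ CohB1.genLocus _ s₀) :
    Module.finrank k (Coh.HH X (CohB1.tensorMod (ClSub.idealMod (ptIdeal p hp)) M) 0) =
      Module.finrank k (Coh.HH X (CohB1.tensorMod (Coh.structureModule X) M) 0) := by
  haveI : IsNoetherian X := Groth.Agent.Lib.T2H6.CurveSatur.isNoetherian_of_proper k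
  have hS : (twSC (ptIdeal p hp) M).ShortExact :=
    shortExact_map_tr hM (idealSC (ptIdeal p hp)) (idealSC_shortExact (ptIdeal p hp))
  have hOc : Coh.IsCoh (Coh.structureModule X) := Groth.Agent.Lib.T2H5.GenIsoF.isCoh_structureModule
  have hMc := Groth.Agent.Lib.T2H6.CurveDeg.isCoh_of_isInvertible M hM
  have h2c : Coh.IsCoh (twSC (ptIdeal p hp) M).X₂ :=
    Groth.Agent.Lib.T2H6.TensorDeg.isCoh_tensor _ M hOc hMc
  have ha := Groth.Agent.Lib.T2H6.CurveLinSer.finrank_H0_eq k (twSC (ptIdeal p hp) M) hS h2c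
  have hr : LinearMap.range (Canon.HHlin k (twSC (ptIdeal p hp) M).g 0) = ⊥ := by
    rw [eq_bot_iff]
    rintro _ ⟨x, rfl⟩
    obtain ⟨σ, hσ⟩ := (Groth.Agent.Lib.T2H6.CurveSerre.bijective_evLin k
      (CohB1.tensorMod (Coh.structureModule X) M)).2 x
    have h1 : Groth.Agent.Lib.T2H6.CurveSerre.evLin k _ (σ ≫ πM (ptIdeal p hp) M) =
        Canon.HHlin k (twSC (ptIdeal p hp) M).g 0
          (Groth.Agent.Lib.T2H6.CurveSerre.evLin k (CohB1.tensorMod (Coh.structureModule X) M) σ) :=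
      Groth.Agent.Lib.T2H6.HHLin.HHlin_comp_apply k σ (πM (ptIdeal p hp) M) 0 _
    rw [Submodule.mem_bot, ← hσ]
    change Canon.HHlin k (twSC (ptIdeal p hp) M).g 0
      (Groth.Agent.Lib.T2H6.CurveSerre.evLin k (CohB1.tensorMod (Coh.structureModule X) M) σ) = 0
    rw [← h1, comp_πM_eq_zero M hM p hp σ (hall σ), map_zero]
    rfl
  rw [hr, finrank_bot] at ha
  change Module.finrank k (Coh.HH X (twSC (ptIdeal p hp) M).X₁ 0) =
    Module.finrank k (Coh.HH X (twSC (ptIdeal p hp) M).X₂ 0)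
  omega

/-- a rational point `p` is not a base point of `M` iff `h⁰(I_p ⊗ M) + 1 = h⁰(O ⊗ M)`. -/
theorem exists_mem_genLocus_iff (hdim : topologicalKrullDim X = 1) (p : X) (hp : IsClosed ({p} : Set X))
    (hrat : Function.Surjective (Curv2.resMap k X p)) (M : X.Modules) (hM : PicF.IsInvertible M) :
    (∃ s₀ : Coh.structureModule X ⟶ CohB1.tensorMod (Coh.structureModule X) M,
      p ∈ CohB1.genLocus _ s₀) ↔
    Module.finrank k (Coh.HH X (CohB1.tensorMod (ClSub.idealMod (ptIdeal p hp)) M) 0) + 1 =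
      Module.finrank k (Coh.HH X (CohB1.tensorMod (Coh.structureModule X) M) 0) := by
  constructor
  · rintro ⟨s₀, hs₀⟩
    exact (drop k hdim p hp hrat M hM s₀ hs₀).1
  · intro h
    by_contra hcon
    push Not at hcon
    have := stay_all k p hp M hM hcon
    omega

/-- the same for `M` itself and the tensor product in the other order. -/
theorem exists_mem_genLocus_iff' (hdim : topologicalKrullDim X = 1) (p : X) (hp : IsClosed ({p} : Set X))
    (hrat : Function.Surjective (Curv2.resMap k X p)) (M : X.Modules) (hM : PicF.IsInvertible M) :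
    (∃ s : Coh.structureModule X ⟶ M, p ∈ CohB1.genLocus M s) ↔
    Module.finrank k (Coh.HH X (CohB1.tensorMod M (ClSub.idealMod (ptIdeal p hp))) 0) + 1 =
      Module.finrank k (Coh.HH X M 0) := by
  have e := Groth.Agent.Lib.Helper23.TensorUnit.unitTensorIso M
  have e0 := Groth.Agent.Lib.T2H6.FieldBC.finrank_HH_eq_of_iso k X e 0
  have b0 := Groth.Agent.Lib.T2H6.FieldBC.finrank_HH_eq_of_iso k X
    (Groth.Agent.Lib.T2H6.TensorPows.braidIso M (ClSub.idealMod (ptIdeal p hp))) 0
  rw [b0, ← e0, ← exists_mem_genLocus_iff k hdim p hp hrat M hM]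
  constructor
  · rintro ⟨s, hs⟩
    refine ⟨s ≫ e.inv, ?_⟩
    have := Groth.Agent.Lib.Helper23.AmpleIso.genLocus_comp_iso e.symm s
    rw [Iso.symm_hom] at this
    rw [this]
    exact hs
  · rintro ⟨s₀, hs₀⟩
    refine ⟨s₀ ≫ e.hom, ?_⟩
    rw [Groth.Agent.Lib.Helper23.AmpleIso.genLocus_comp_iso e s₀]
    exact hs₀

section alg

variable [IsAlgClosed k]

/-- a nonzero section of `L` gives `h⁰(L') ≤ h⁰(L ⊗ L')`. -/
theorem h0_le_h0_tensor (L L' : X.Modules) (hL : PicF.IsInvertible L) (hL' : PicF.IsInvertible L')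
    (hs : Nontrivial (Coh.HH X L 0)) :
    Module.finrank k (Coh.HH X L' 0) ≤ Module.finrank k (Coh.HH X (CohB1.tensorMod L L') 0) := by
  obtain ⟨s, hs0⟩ := Groth.Agent.Lib.T2H6.CurveRR.exists_section_ne_zero L hs
  have hO := Groth.Agent.Lib.Helper23.TensorUnit.isInvertible_structureModule X
  haveI : Mono s := Groth.Agent.Lib.T2H6.InvMono.mono_of_ne_zero hO hL s hs0
  have hL'1 := Groth.Agent.Lib.Helper23.SecTw.isFinLocFreeOfRank_one_of_isInvertible L' hL'
  have hlf : FlatMod.IsFinLocFree L' := fun x => by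
    obtain ⟨U, hx, h⟩ := hL'1 x
    exact ⟨U, 1, hx, h⟩
  haveI := Groth.Agent.Lib.T2H6.TensorDeg.preservesFiniteLimits_tr_of_isFinLocFree L' hlf
  haveI : Mono ((tr L').map s) := inferInstance
  have hinj := Groth.Agent.Lib.T2H6.HHLin.injective_HHlin_zero_of_mono k ((tr L').map s)
  have hc : Coh.IsCoh (CohB1.tensorMod L L') :=
    Groth.Agent.Lib.T2H6.CurveDeg.isCoh_of_isInvertible _
      (Groth.Agent.Lib.Helper23.SecTw.isInvertible_tensorMod hL hL')
  haveI : Module.Finite k (Coh.HH X (CohB1.tensorMod L L') 0) :=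
    Groth.Agent.Lib.T2H6.EulerField.finite_HH k X _ hc 0
  have e0 := Groth.Agent.Lib.T2H6.FieldBC.finrank_HH_eq_of_iso k X
    (Groth.Agent.Lib.Helper23.TensorUnit.unitTensorIso L') 0
  rw [← e0]
  exact LinearMap.finrank_le_finrank_of_injective hinj

/-- **`h⁰(L) + h⁰(L') ≤ h⁰(L ⊗ L') + 1`** for invertible modules with sections on an integral proper curve over an
algebraically closed field. -/
theorem h0_add_le (hdim : topologicalKrullDim X = 1) :
    ∀ (n : ℕ) (L L' : X.Modules), PicF.IsInvertible L → PicF.IsInvertible L' →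
      Module.finrank k (Coh.HH X L 0) = n + 1 → Nontrivial (Coh.HH X L' 0) →
      Module.finrank k (Coh.HH X L 0) + Module.finrank k (Coh.HH X L' 0) ≤
        Module.finrank k (Coh.HH X (CohB1.tensorMod L L') 0) + 1
  | 0, L, L', hL, hL', h0, hs' => by
    have hs : Nontrivial (Coh.HH X L 0) := by
      apply Module.nontrivial_of_finrank_pos (R := k)
      rw [h0]; exact Nat.succ_pos _
    have := h0_le_h0_tensor k L L' hL hL' hs
    omega
  | n + 1, L, L', hL, hL', h0, hs' => by
    have hs : Nontrivial (Coh.HH X L 0) := by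
      apply Module.nontrivial_of_finrank_pos (R := k)
      rw [h0]; exact Nat.succ_pos _
    have hO := Groth.Agent.Lib.Helper23.TensorUnit.isInvertible_structureModule X
    have hLL' := Groth.Agent.Lib.Helper23.SecTw.isInvertible_tensorMod hL hL'
    have hOL := Groth.Agent.Lib.Helper23.SecTw.isInvertible_tensorMod hO hL
    have hOLL' := Groth.Agent.Lib.Helper23.SecTw.isInvertible_tensorMod hO hLL'
    -- sections
    have e1 := Groth.Agent.Lib.T2H6.FieldBC.finrank_HH_eq_of_iso k X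
      (Groth.Agent.Lib.Helper23.TensorUnit.unitTensorIso L) 0
    have e2 := Groth.Agent.Lib.T2H6.FieldBC.finrank_HH_eq_of_iso k X
      (Groth.Agent.Lib.Helper23.TensorUnit.unitTensorIso (CohB1.tensorMod L L')) 0
    have hle := h0_le_h0_tensor k L L' hL hL' hs
    haveI : Module.Finite k (Coh.HH X L' 0) :=
      Groth.Agent.Lib.T2H6.EulerField.finite_HH k X _
        (Groth.Agent.Lib.T2H6.CurveDeg.isCoh_of_isInvertible L' hL') 0
    have hpos' : 0 < Module.finrank k (Coh.HH X L' 0) := Module.finrank_pos_iff.2 hs'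
    have hnt1 : Nontrivial (Coh.HH X (CohB1.tensorMod (Coh.structureModule X) L) 0) := by
      apply Module.nontrivial_of_finrank_pos (R := k)
      rw [e1, h0]; exact Nat.succ_pos _
    have hnt2 : Nontrivial (Coh.HH X (CohB1.tensorMod (Coh.structureModule X) (CohB1.tensorMod L L')) 0) := by
      apply Module.nontrivial_of_finrank_pos (R := k)
      rw [e2]; omega
    obtain ⟨s₁, hs₁⟩ := Groth.Agent.Lib.T2H6.CurveRR.exists_section_ne_zero _ hnt1
    obtain ⟨s₂, hs₂⟩ := Groth.Agent.Lib.T2H6.CurveRR.exists_section_ne_zero _ hnt2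
    have hg1 := Groth.Agent.Lib.T2H6.PosH.genericPoint_mem_genLocus _ hOL s₁ hs₁
    have hg2 := Groth.Agent.Lib.T2H6.PosH.genericPoint_mem_genLocus _ hOLL' s₂ hs₂
    obtain ⟨p, hp, ⟨hp1, hp2⟩, hrat, hinv⟩ :=
      enoughPts k hdim (CohB1.genLocus _ s₁ ⊓ CohB1.genLocus _ s₂) ⟨hg1, hg2⟩
    obtain ⟨d1, -⟩ := drop k hdim p hp hrat L hL s₁ hp1
    obtain ⟨d2, -⟩ := drop k hdim p hp hrat (CohB1.tensorMod L L') hLL' s₂ hp2
    have hIL := Groth.Agent.Lib.Helper23.SecTw.isInvertible_tensorMod hinv hL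
    have a1 := Groth.Agent.Lib.T2H6.FieldBC.finrank_HH_eq_of_iso k X
      (Groth.Agent.Lib.T2H6.TensorPows.assocIso' (ClSub.idealMod (ptIdeal p hp)) L L') 0
    have ih := h0_add_le hdim n (CohB1.tensorMod (ClSub.idealMod (ptIdeal p hp)) L) L' hIL hL'
      (by omega) hs'
    omega

end alg

end Groth.Agent.Lib.T2H6.PtTwistF
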