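import Mathlib
import Groth.Agent.S9408
import Groth.Agent.Lib.LeadJacDim
import Groth.Agent.Lib.Helper5RLR
import Groth.Agent.Lib.Helper7TopDim
import Groth.Agent.Lib.Helper14LocalDim

/-!
# Commutative algebra of smooth curves over a field (helper6)

Local rings of a smooth curve over a field are fields or discrete valuation rings; ideals with discrete zero locus are
locally generated by a nonzerodivisor; the zero locus of a nonzerodivisor is discrete.
-/

set_option autoImplicit false
set_option linter.style.haveILetI false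
set_option linter.unusedSectionVars false
universe u
open IsLocalRing

namespace Groth.Agent.Lib.T2H6.SmCurve

section Local

variable {O : Type u} [CommRing O] [IsLocalRing O] [IsNoetherianRing O]

/-- in a Noetherian local ring with principal maximal ideal `(t)`, every nonzero ideal is `(t ^ n)`. -/
theorem exists_eq_span_pow (t : O) (ht : maximalIdeal O = Ideal.span {t}) (𝔞 : Ideal O) (h𝔞 : 𝔞 ≠ ⊥) :
    ∃ n : ℕ, 𝔞 = Ideal.span {t ^ n} := by
  classical
  have hex : ∃ n : ℕ, ¬ 𝔞 ≤ maximalIdeal O ^ n := by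
    by_contra hcon
    push Not at hcon
    apply h𝔞
    rw [eq_bot_iff, ← Ideal.iInf_pow_eq_bot_of_isLocalRing (maximalIdeal O) Ideal.IsPrime.ne_top']
    exact le_iInf hcon
  have hn0 : Nat.find hex ≠ 0 := by
    intro h0
    have h1 := Nat.find_spec hex
    rw [h0, pow_zero, Ideal.one_eq_top] at h1
    exact h1 le_top
  obtain ⟨m, hm⟩ := Nat.exists_eq_succ_of_ne_zero hn0
  have hle : 𝔞 ≤ maximalIdeal O ^ m := by
    by_contra hcon
    exact Nat.find_min hex (by omega) hcon
  have hnot : ¬ 𝔞 ≤ maximalIdeal O ^ (m + 1) := by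
    have := Nat.find_spec hex
    rwa [hm] at this
  refine ⟨m, le_antisymm ?_ ?_⟩
  · rw [← Ideal.span_singleton_pow, ← ht]
    exact hle
  · obtain ⟨x, hx, hxn⟩ := SetLike.not_le_iff_exists.1 hnot
    have hx' := hle hx
    rw [ht, Ideal.span_singleton_pow, Ideal.mem_span_singleton'] at hx'
    obtain ⟨b, hb⟩ := hx'
    have hbu : IsUnit b := by
      by_contra hnu
      have hbm : b ∈ maximalIdeal O := (mem_maximalIdeal b).2 hnu
      apply hxn
      rw [← hb, pow_succ, mul_comm b]
      refine Ideal.mul_mem_mul ?_ hbm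
      rw [ht, Ideal.span_singleton_pow]
      exact Ideal.mem_span_singleton_self _
    obtain ⟨u, rfl⟩ := hbu
    rw [Ideal.span_singleton_le_iff_mem]
    have : t ^ m = (u⁻¹ : Oˣ) * x := by
      rw [← hb, ← mul_assoc, Units.inv_mul, one_mul]
    rw [this]
    exact Ideal.mul_mem_left _ _ hx

/-- in a Noetherian local ring with principal maximal ideal `(t)`, `t` not nilpotent, the powers of `t` are
nonzerodivisors. -/
theorem pow_mem_nonZeroDivisors (t : O) (ht : maximalIdeal O = Ideal.span {t}) (hnil : ¬ IsNilpotent t) (n : ℕ) :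
    t ^ n ∈ nonZeroDivisors O := by
  refine pow_mem ?_ n
  rw [mem_nonZeroDivisors_iff_right]
  intro x hx
  by_contra hx0
  have hne : Ideal.span {x} ≠ ⊥ := by
    rw [Ne, Ideal.span_singleton_eq_bot]
    exact hx0
  obtain ⟨k, hk⟩ := exists_eq_span_pow t ht (Ideal.span {x}) hne
  have h1 : t ^ k ∈ Ideal.span {x} := by
    rw [hk]
    exact Ideal.mem_span_singleton_self _
  obtain ⟨c, hc⟩ := Ideal.mem_span_singleton'.mp h1
  apply hnil
  refine ⟨k + 1, ?_⟩
  rw [pow_succ, ← hc, mul_assoc, hx, mul_zero]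

end Local

section Curve

/-- A *curve ring*: a regular (Noetherian) ring all of whose primes have height `≤ 1` and whose spectrum has no
isolated generic point. Coordinate rings of smooth curves over a field are of this kind. -/
structure IsCurveRing (T : Type u) [CommRing T] : Prop where
  regular : IsRegularRing T
  height_le : ∀ q : Ideal T, q.IsPrime → q.height ≤ 1
  not_isOpen : ∀ q : PrimeSpectrum T, q.asIdeal ∈ minimalPrimes T →
    ¬ IsOpen ({q} : Set (PrimeSpectrum T))

variable {T : Type u} [CommRing T]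

theorem IsCurveRing.isNoetherianRing (hT : IsCurveRing T) : IsNoetherianRing T :=
  haveI := hT.regular
  inferInstance

/-- no chains of primes of length two in a curve ring. -/
theorem IsCurveRing.no_chain (hT : IsCurveRing T) (p₀ p₁ p₂ : Ideal T) [p₀.IsPrime] [p₁.IsPrime]
    [hp₂ : p₂.IsPrime] (h₀ : p₀ < p₁) (h₁ : p₁ < p₂) : False := by
  have h2 := hT.height_le p₂ hp₂
  haveI : p₂.FiniteHeight := ⟨Or.inr (ne_top_of_le_ne_top (by simp) h2)⟩
  have h3 := Ideal.height_strict_mono_of_isPrime_of_isPrime h₁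
  haveI : p₁.FiniteHeight := ⟨Or.inr (ne_top_of_lt h3)⟩
  have h4 := Ideal.height_strict_mono_of_isPrime_of_isPrime h₀
  have h5 : p₁.height < 1 := lt_of_lt_of_le h3 h2
  have h6 : p₁.height = 0 := Order.lt_one_iff.mp h5
  rw [h6] at h4
  exact not_lt_bot h4

/-- a regular ring whose spectrum has local dimension `1` everywhere is a curve ring. -/
theorem isCurveRing_of_localDim (T : Type u) [CommRing T] [IsRegularRing T]
    (h : ∀ z : PrimeSpectrum T, FlatMor.localDim (PrimeSpectrum T) z = 1) : IsCurveRing T := by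
  refine ⟨inferInstance, ?_, ?_⟩
  · intro q hq
    obtain ⟨U, hzU, hU⟩ := Groth.Agent.Lib.Helper7.TopDim.exists_opens_dim_eq_localDim
      (⟨q, hq⟩ : PrimeSpectrum T)
    rw [h] at hU
    obtain ⟨_, ⟨g, rfl⟩, hzg, hgU⟩ := PrimeSpectrum.isTopologicalBasis_basic_opens.exists_subset_of_mem_open
      hzU U.isOpen
    have h1 := Groth.Agent.Lib.Helper14.LocalDim.height_le_dim_basicOpen g q hzg
    have h2 : topologicalKrullDim ((PrimeSpectrum.basicOpen g : TopologicalSpace.Opens (PrimeSpectrum T)) :
        Set (PrimeSpectrum T)) ≤ topologicalKrullDim (U : Set (PrimeSpectrum T)) :=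
      Topology.IsInducing.topologicalKrullDim_le (f := Set.inclusion hgU) (Topology.IsEmbedding.inclusion hgU).isInducing
    have h3 := h1.trans (h2.trans hU.le)
    exact_mod_cast h3
  · intro q _ hopen
    have h1 := (Groth.Agent.Lib.Helper7.TopDim.isOpen_singleton_iff_localDim_eq_zero q).mp hopen
    rw [h] at h1
    exact one_ne_zero h1

/-- standard smooth algebras of relative dimension one over a field are curve rings. -/
theorem isCurveRing_of_isStandardSmooth (k T : Type u) [Field k] [CommRing T] [Algebra k T]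
    [Algebra.IsStandardSmoothOfRelativeDimension 1 k T] : IsCurveRing T := by
  haveI : Algebra.IsStandardSmooth k T :=
    Algebra.IsStandardSmoothOfRelativeDimension.isStandardSmooth 1
  haveI : IsRegularRing T := Groth.Agent.S9408.isRegularRing_of_smooth k T
  exact isCurveRing_of_localDim T
    (fun z => Groth.Agent.Lib.LeadJacDim.localDim_of_isStandardSmooth k T 1 z)

/-- in a curve ring, a point of a discrete closed subset is not a minimal prime. -/
theorem IsCurveRing.notMem_minimalPrimes_of_isDiscrete (hT : IsCurveRing T) (𝔞 : Ideal T)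
    (hd : IsDiscrete (PrimeSpectrum.zeroLocus (𝔞 : Set T))) (q : PrimeSpectrum T)
    (hq : q ∈ PrimeSpectrum.zeroLocus (𝔞 : Set T)) : q.asIdeal ∉ minimalPrimes T := by
  intro hmin
  haveI := hT.isNoetherianRing
  obtain ⟨O, hO, hOq⟩ := isDiscrete_iff_forall_mem_exists_isOpen.mp hd q hq
  have hfin : (minimalPrimes T).Finite := minimalPrimes.finite_of_isNoetherianRing T
  -- the complement of the other irreducible components
  let C : Set (PrimeSpectrum T) := ⋃ m ∈ (minimalPrimes T \ {q.asIdeal}), PrimeSpectrum.zeroLocus (m : Set T)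
  have hC : IsClosed C :=
    (hfin.subset Set.sdiff_subset).isClosed_biUnion (fun m _ => PrimeSpectrum.isClosed_zeroLocus _)
  have hqC : q ∉ C := by
    intro hqC
    simp only [C, Set.mem_iUnion, PrimeSpectrum.mem_zeroLocus, SetLike.coe_subset_coe] at hqC
    obtain ⟨m, ⟨hm, hmq⟩, hle⟩ := hqC
    haveI := hm.1.1
    exact hmq (le_antisymm hle (hmin.2 ⟨hm.1.1, bot_le⟩ hle))
  have hsub : O ∩ Cᶜ ⊆ {q} := by
    rintro p ⟨hpO, hpC⟩
    rw [← hOq]
    refine ⟨hpO, ?_⟩
    obtain ⟨m, hm, hmp⟩ := Ideal.exists_minimalPrimes_le (I := (⊥ : Ideal T)) (J := p.asIdeal) bot_le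
    have hmq : m = q.asIdeal := by
      by_contra hne
      apply hpC
      simp only [C, Set.mem_iUnion, PrimeSpectrum.mem_zeroLocus, SetLike.coe_subset_coe]
      exact ⟨m, ⟨hm, hne⟩, hmp⟩
    rw [PrimeSpectrum.mem_zeroLocus, SetLike.coe_subset_coe] at hq ⊢
    exact hq.trans (hmq ▸ hmp)
  have hqO : q ∈ O := by
    have : q ∈ O ∩ PrimeSpectrum.zeroLocus (𝔞 : Set T) := by rw [hOq]; rfl
    exact this.1
  have heq : O ∩ Cᶜ = {q} := Set.Subset.antisymm hsub (by
    rintro _ rfl
    exact ⟨hqO, hqC⟩)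
  exact hT.not_isOpen q hmin (heq ▸ hO.inter hC.isOpen_compl)

/-- in a curve ring, a closed subset containing no minimal prime is discrete. -/
theorem IsCurveRing.isDiscrete_zeroLocus (hT : IsCurveRing T) (𝔞 : Ideal T)
    (h : ∀ q ∈ PrimeSpectrum.zeroLocus (𝔞 : Set T), q.asIdeal ∉ minimalPrimes T) :
    IsDiscrete (PrimeSpectrum.zeroLocus (𝔞 : Set T)) := by
  haveI := hT.isNoetherianRing
  have hfin : (𝔞.minimalPrimes).Finite := Ideal.finite_minimalPrimes_of_isNoetherianRing T 𝔞
  -- every point of `V(𝔞)` is a minimal prime over `𝔞` and is maximal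
  have key : ∀ q ∈ PrimeSpectrum.zeroLocus (𝔞 : Set T), q.asIdeal ∈ 𝔞.minimalPrimes ∧
      q.asIdeal.IsMaximal := by
    intro q hq
    have hq' : 𝔞 ≤ q.asIdeal := by
      rw [PrimeSpectrum.mem_zeroLocus, SetLike.coe_subset_coe] at hq
      exact hq
    have hnm : ∀ p : Ideal T, p.IsPrime → 𝔞 ≤ p → ∃ p₀ : Ideal T, p₀.IsPrime ∧ p₀ < p := by
      intro p hp hap
      obtain ⟨p₀, hp₀, hp₀p⟩ := Ideal.exists_minimalPrimes_le (I := (⊥ : Ideal T)) (J := p) bot_le
      refine ⟨p₀, hp₀.1.1, lt_of_le_of_ne hp₀p ?_⟩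
      rintro rfl
      exact h ⟨p₀, hp⟩ (by
        rw [PrimeSpectrum.mem_zeroLocus, SetLike.coe_subset_coe]
        exact hap) hp₀
    constructor
    · obtain ⟨m, hm, hmq⟩ := Ideal.exists_minimalPrimes_le hq'
      haveI := hm.1.1
      obtain ⟨p₀, hp₀, hp₀m⟩ := hnm m hm.1.1 hm.1.2
      haveI := hp₀
      by_cases hmq' : m = q.asIdeal
      · rw [← hmq']
        exact hm
      · exact (hT.no_chain p₀ m q.asIdeal hp₀m (lt_of_le_of_ne hmq hmq')).elim
    · obtain ⟨p₀, hp₀, hp₀q⟩ := hnm q.asIdeal q.isPrime hq'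
      haveI := hp₀
      obtain ⟨M, hM, hqM⟩ := Ideal.exists_le_maximal q.asIdeal q.isPrime.ne_top
      haveI := hM.isPrime
      by_cases hqM' : q.asIdeal = M
      · rw [hqM']
        exact hM
      · exact (hT.no_chain p₀ q.asIdeal M hp₀q (lt_of_le_of_ne hqM hqM')).elim
  have hfin' : (PrimeSpectrum.zeroLocus (𝔞 : Set T)).Finite := by
    refine (hfin.preimage (f := PrimeSpectrum.asIdeal) ?_).subset (fun q hq => (key q hq).1)
    intro a _ b _ hab
    exact PrimeSpectrum.ext hab
  rw [isDiscrete_iff_forall_mem_exists_isOpen]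
  intro y hy
  have hcl : IsClosed (PrimeSpectrum.zeroLocus (𝔞 : Set T) \ {y}) := by
    have h1 : PrimeSpectrum.zeroLocus (𝔞 : Set T) \ {y} =
        ⋃ q ∈ (PrimeSpectrum.zeroLocus (𝔞 : Set T) \ {y}), ({q} : Set (PrimeSpectrum T)) := by
      ext z
      simp only [Set.mem_iUnion, Set.mem_singleton_iff, exists_prop]
      exact ⟨fun hz => ⟨z, hz, rfl⟩, fun ⟨q, hq, hzq⟩ => hzq ▸ hq⟩
    rw [h1]
    refine (hfin'.subset Set.sdiff_subset).isClosed_biUnion (fun q hq => ?_)
    exact (PrimeSpectrum.isClosed_singleton_iff_isMaximal q).mpr (key q hq.1).2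
  refine ⟨(PrimeSpectrum.zeroLocus (𝔞 : Set T) \ {y})ᶜ, hcl.isOpen_compl, ?_⟩
  ext z
  simp only [Set.mem_inter_iff, Set.mem_compl_iff, Set.mem_sdiff, Set.mem_singleton_iff, not_and,
    not_not]
  constructor
  · rintro ⟨h1, h2⟩
    exact h1 h2
  · rintro rfl
    exact ⟨fun _ => rfl, hy⟩

section Loc

theorem IsCurveRing.isRegularLocalRing_of_isLocalization (hT : IsCurveRing T) (q : Ideal T) [q.IsPrime]
    (L : Type u) [CommRing L] [Algebra T L] [IsLocalization.AtPrime L q] : IsRegularLocalRing L := by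
  haveI := hT.regular
  exact IsRegularLocalRing.of_ringEquiv
    (IsLocalization.algEquiv q.primeCompl (Localization.AtPrime q) L).toRingEquiv

theorem IsCurveRing.isDomain_of_isLocalization (hT : IsCurveRing T) (q : Ideal T) [q.IsPrime]
    (L : Type u) [CommRing L] [Algebra T L] [IsLocalization.AtPrime L q] : IsDomain L := by
  haveI := hT.isRegularLocalRing_of_isLocalization q L
  exact Groth.Agent.Lib.Helper5.isDomain_of_isRegularLocalRing L

theorem IsCurveRing.ringKrullDim_le_of_isLocalization (hT : IsCurveRing T) (q : Ideal T) [q.IsPrime]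
    (L : Type u) [CommRing L] [Algebra T L] [IsLocalization.AtPrime L q] : ringKrullDim L ≤ 1 := by
  rw [IsLocalization.AtPrime.ringKrullDim_eq_height q L]
  exact_mod_cast hT.height_le q inferInstance

theorem IsCurveRing.ringKrullDim_eq_one_of_isLocalization (hT : IsCurveRing T) (q : Ideal T) [q.IsPrime]
    (L : Type u) [CommRing L] [Algebra T L] [IsLocalization.AtPrime L q] (hq : q ∉ minimalPrimes T) :
    ringKrullDim L = 1 := by
  rw [IsLocalization.AtPrime.ringKrullDim_eq_height q L]
  have h1 := hT.height_le q inferInstance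
  have h2 : q.height ≠ 0 := fun h => hq (Ideal.height_eq_zero_iff.mp h)
  have h3 : q.height = 1 := le_antisymm h1 (Order.one_le_iff_pos.mpr (pos_iff_ne_zero.mpr h2))
  rw [h3]
  rfl

theorem IsCurveRing.isPrincipalIdealRing_of_isLocalization (hT : IsCurveRing T) (q : Ideal T) [q.IsPrime]
    (L : Type u) [CommRing L] [Algebra T L] [IsLocalization.AtPrime L q] : IsPrincipalIdealRing L := by
  haveI := hT.isRegularLocalRing_of_isLocalization q L
  haveI := hT.isDomain_of_isLocalization q L
  have h := hT.ringKrullDim_le_of_isLocalization q L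
  have h1 := (IsRegularLocalRing.iff_finrank_cotangentSpace L).mp inferInstance
  have h2 : Module.finrank (ResidueField L) (CotangentSpace L) ≤ 1 := by
    rw [← h1] at h
    exact_mod_cast h
  exact ((tfae_of_isNoetherianRing_of_isLocalRing_of_isDomain L).out 0 5).mpr h2

end Loc

end Curve

end Groth.Agent.Lib.T2H6.SmCurve
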