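import Mathlib
import Groth.Prelude.Def_BlowUp2
import Groth.Agent.Lib.T2H6SmCurveAlg
import Groth.Agent.Lib.T2H2UFDCartierSch2
import Groth.Agent.Lib.T2H4EffCartProd
import Groth.Agent.Lib.Helper20EffCartier
set_option backward.isDefEq.respectTransparency.types false

/-!
# Ideal sheaves on smooth curves over a field (helper6)

Namespace `Groth.Agent.Lib.T2H6.SmCurve`.

* `LocallyCurve Y` : `Y` is covered by affine opens whose coordinate rings are curve rings.
* `locallyCurve_of_smooth` : a scheme smooth of relative dimension one over a field is locally a curve.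
* `isEffCartierIdeal_of_isDiscrete_support` : an ideal sheaf with discrete support on such a scheme is effective Cartier.
* `isDiscrete_support_of_isEffCartier` : conversely the support of an effective Cartier divisor is discrete.
-/

set_option autoImplicit false
set_option linter.style.haveILetI false
set_option linter.unusedSectionVars false
universe u
open CategoryTheory CategoryTheory.Limits AlgebraicGeometry TopologicalSpace

namespace Groth.Agent.Lib.T2H6.SmCurve

/-- `Y` is covered by affine opens whose coordinate rings are curve rings. -/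
def LocallyCurve (Y : Scheme.{u}) : Prop :=
  ∀ y : Y, ∃ (U : Y.Opens) (_ : IsAffineOpen U), y ∈ U ∧ IsCurveRing Γ(Y, U)

/-- a scheme smooth of relative dimension one over a field is locally a curve. -/
theorem locallyCurve_of_smooth {Y : Scheme.{u}} (K : Type u) [Field K]
    (p : Y ⟶ Spec (CommRingCat.of K)) [SmoothOfRelativeDimension 1 p] : LocallyCurve Y := by
  intro y
  obtain ⟨U, hU, V, hV, hyV, e, hstd⟩ :=
    SmoothOfRelativeDimension.exists_isStandardSmoothOfRelativeDimension (n := 1) (f := p) y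
  obtain rfl : U = ⊤ := by
    ext z
    simp only [TopologicalSpace.Opens.coe_top, Set.mem_univ, iff_true]
    haveI : Subsingleton (PrimeSpectrum K) := inferInstance
    have hz : z = p y := Subsingleton.elim (α := PrimeSpectrum K) _ _
    rw [hz]
    exact e hyV
  refine ⟨V, hV, hyV, ?_⟩
  let φ : K →+* Γ(Y, V) := (p.appLE ⊤ V e).hom.comp
    (Scheme.ΓSpecIso (CommRingCat.of K)).symm.commRingCatIsoToRingEquiv.toRingHom
  have hφ : φ.IsStandardSmoothOfRelativeDimension 1 :=
    (RingHom.isStandardSmoothOfRelativeDimension_respectsIso (n := 1)).2 _ _ hstd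
  letI := φ.toAlgebra
  haveI : Algebra.IsStandardSmoothOfRelativeDimension 1 K Γ(Y, V) := hφ
  exact isCurveRing_of_isStandardSmooth K Γ(Y, V)

section LC

variable {Y : Scheme.{u}}

theorem LocallyCurve.isLocallyNoetherian (hY : LocallyCurve Y) : IsLocallyNoetherian Y := by
  choose U hU hyU hT using hY
  refine isLocallyNoetherian_of_affine_cover (S := fun y => ⟨U y, hU y⟩) ?_
    (fun y => (hT y).isNoetherianRing)
  rw [eq_top_iff]
  intro y _
  exact TopologicalSpace.Opens.mem_iSup.mpr ⟨y, hyU y⟩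

theorem isDomain_stalk_of_chart {U : Y.Opens} (hU : IsAffineOpen U) (hT : IsCurveRing Γ(Y, U))
    (y : Y) (hy : y ∈ U) : IsDomain (Y.presheaf.stalk y) := by
  letI : Algebra Γ(Y, U) (Y.presheaf.stalk y) :=
    TopCat.Presheaf.algebra_section_stalk Y.presheaf ⟨y, hy⟩
  haveI := hU.isLocalization_stalk ⟨y, hy⟩
  exact hT.isDomain_of_isLocalization (hU.primeIdealOf ⟨y, hy⟩).asIdeal _

theorem isPrincipalIdealRing_stalk_of_chart {U : Y.Opens} (hU : IsAffineOpen U)
    (hT : IsCurveRing Γ(Y, U)) (y : Y) (hy : y ∈ U) : IsPrincipalIdealRing (Y.presheaf.stalk y) := by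
  letI : Algebra Γ(Y, U) (Y.presheaf.stalk y) :=
    TopCat.Presheaf.algebra_section_stalk Y.presheaf ⟨y, hy⟩
  haveI := hU.isLocalization_stalk ⟨y, hy⟩
  exact hT.isPrincipalIdealRing_of_isLocalization (hU.primeIdealOf ⟨y, hy⟩).asIdeal _

theorem LocallyCurve.isDomain_stalk (hY : LocallyCurve Y) (y : Y) : IsDomain (Y.presheaf.stalk y) := by
  obtain ⟨U, hU, hyU, hT⟩ := hY y
  exact isDomain_stalk_of_chart hU hT y hyU

theorem LocallyCurve.isPrincipalIdealRing_stalk (hY : LocallyCurve Y) (y : Y) :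
    IsPrincipalIdealRing (Y.presheaf.stalk y) := by
  obtain ⟨U, hU, hyU, hT⟩ := hY y
  exact isPrincipalIdealRing_stalk_of_chart hU hT y hyU

theorem LocallyCurve.ringKrullDim_stalk_le (hY : LocallyCurve Y) (y : Y) :
    ringKrullDim (Y.presheaf.stalk y) ≤ 1 := by
  obtain ⟨U, hU, hyU, hT⟩ := hY y
  letI : Algebra Γ(Y, U) (Y.presheaf.stalk y) :=
    TopCat.Presheaf.algebra_section_stalk Y.presheaf ⟨y, hyU⟩
  haveI := hU.isLocalization_stalk ⟨y, hyU⟩
  exact hT.ringKrullDim_le_of_isLocalization (hU.primeIdealOf ⟨y, hyU⟩).asIdeal _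

/-- the zero locus of `J(U)` in `Spec Γ(Y, U)` is the preimage of the support of `J`. -/
theorem zeroLocus_eq_preimage_support (J : Y.IdealSheafData) {U : Y.Opens} (hU : IsAffineOpen U) :
    PrimeSpectrum.zeroLocus (J.ideal ⟨U, hU⟩ : Set Γ(Y, U)) = hU.fromSpec ⁻¹' (J.support : Set Y) := by
  ext q
  rw [PrimeSpectrum.mem_zeroLocus, SetLike.coe_subset_coe]
  exact (Groth.Agent.Lib.T2H4.EffCartProd.fromSpec_mem_support_iff J ⟨U, hU⟩ q).symm

/-- on a scheme which is locally a curve, the local ring at a point of a discrete closed subscheme has dimension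
one. -/
theorem ringKrullDim_stalk_eq_one_of_isDiscrete (hY : LocallyCurve Y) (J : Y.IdealSheafData)
    (hJ : _root_.IsDiscrete (J.support : Set Y)) (x : Y) (hx : x ∈ J.support) :
    ringKrullDim (Y.presheaf.stalk x) = 1 := by
  obtain ⟨U, hU, hxU, hT⟩ := hY x
  letI : Algebra Γ(Y, U) (Y.presheaf.stalk x) :=
    TopCat.Presheaf.algebra_section_stalk Y.presheaf ⟨x, hxU⟩
  haveI := hU.isLocalization_stalk ⟨x, hxU⟩
  refine hT.ringKrullDim_eq_one_of_isLocalization (hU.primeIdealOf ⟨x, hxU⟩).asIdeal _ ?_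
  refine hT.notMem_minimalPrimes_of_isDiscrete (J.ideal ⟨U, hU⟩) ?_ _ ?_
  · rw [zeroLocus_eq_preimage_support]
    exact hJ.preimage hU.fromSpec.continuous.continuousOn hU.fromSpec.isOpenEmbedding.injective
  · rw [PrimeSpectrum.mem_zeroLocus, SetLike.coe_subset_coe]
    exact (Groth.Agent.Lib.T2H4.EffCartProd.mem_support_iff_le_primeIdealOf J ⟨U, hU⟩ x hxU).mp hx

/-- **an ideal sheaf with discrete support on a smooth curve is an effective Cartier divisor.** -/
theorem isEffCartierIdeal_of_isDiscrete_support (hY : LocallyCurve Y) (J : Y.IdealSheafData)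
    (hJ : _root_.IsDiscrete (J.support : Set Y)) : BlowUp.IsEffCartierIdeal J := by
  haveI := hY.isLocallyNoetherian
  have hmem : ∀ z : J.subscheme, J.subschemeι z ∈ J.support := fun z => by
    have : J.subschemeι z ∈ Set.range J.subschemeι := ⟨z, rfl⟩
    rw [J.range_subschemeι] at this
    exact this
  have hT1 : ∀ z z' : J.subscheme, z' ⤳ z → z' = z := by
    intro z z' hzz
    have h1 : J.subschemeι z' ⤳ J.subschemeι z := hzz.map J.subschemeι.continuous
    exact J.subschemeι.isClosedEmbedding.injective (hJ.eq_of_specializes h1 (hmem z') (hmem z))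
  apply Groth.Agent.Lib.T2H2.UFDCartierSch.isEffCartierIdeal_of_noEmbedded
  · intro z _ z' hzz
    exact hT1 z z' hzz
  · intro z _
    exact ringKrullDim_stalk_eq_one_of_isDiscrete hY J hJ _ (hmem z)
  · intro x _
    haveI := hY.isDomain_stalk x
    haveI := hY.isPrincipalIdealRing_stalk x
    exact ⟨inferInstance, inferInstance⟩

/-- on any scheme, the local ring at a point of an effective Cartier divisor has positive dimension. -/
theorem ringKrullDim_stalk_ne_zero_of_isEffCartier (J : Y.IdealSheafData)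
    (hJ : BlowUp.IsEffCartierIdeal J) (x : Y) (hx : x ∈ J.support) :
    ringKrullDim (Y.presheaf.stalk x) ≠ 0 := by
  obtain ⟨W, hxW, a, ha, hJa⟩ := hJ x
  letI : Algebra Γ(Y, W.1) (Y.presheaf.stalk x) :=
    TopCat.Presheaf.algebra_section_stalk Y.presheaf ⟨x, hxW⟩
  haveI := W.2.isLocalization_stalk ⟨x, hxW⟩
  rw [IsLocalization.AtPrime.ringKrullDim_eq_height (W.2.primeIdealOf ⟨x, hxW⟩).asIdeal
    (Y.presheaf.stalk x)]
  intro h0
  have h1 : (W.2.primeIdealOf ⟨x, hxW⟩).asIdeal.height = 0 := by exact_mod_cast h0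
  have h2 := Ideal.height_eq_zero_iff.mp h1
  have h3 : a ∈ (W.2.primeIdealOf ⟨x, hxW⟩).asIdeal := by
    apply (Groth.Agent.Lib.T2H4.EffCartProd.mem_support_iff_le_primeIdealOf J W x hxW).mp hx
    rw [hJa]
    exact Ideal.mem_span_singleton_self a
  exact Set.disjoint_left.mp (Ideal.disjoint_nonZeroDivisors_of_mem_minimalPrimes h2) h3 ha

/-- on a scheme which is locally a curve, a closed subscheme none of whose points is a generic point is
discrete. -/
theorem isDiscrete_support_of_forall_dim_ne_zero (hY : LocallyCurve Y) (J : Y.IdealSheafData)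
    (h : ∀ x ∈ J.support, ringKrullDim (Y.presheaf.stalk x) ≠ 0) :
    _root_.IsDiscrete (J.support : Set Y) := by
  rw [isDiscrete_iff_forall_mem_exists_isOpen]
  intro x hx
  obtain ⟨U, hU, hxU, hT⟩ := hY x
  have hd : _root_.IsDiscrete (PrimeSpectrum.zeroLocus (J.ideal ⟨U, hU⟩ : Set Γ(Y, U))) := by
    refine hT.isDiscrete_zeroLocus _ ?_
    intro q hq hmin
    have hqU : hU.fromSpec q ∈ U := Groth.Agent.Lib.Helper2.QCoh.fromSpec_mem hU q
    have hqs : hU.fromSpec q ∈ J.support := by
      rw [zeroLocus_eq_preimage_support] at hq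
      exact hq
    apply h _ hqs
    letI : Algebra Γ(Y, U) (Y.presheaf.stalk (hU.fromSpec q)) :=
      TopCat.Presheaf.algebra_section_stalk Y.presheaf ⟨hU.fromSpec q, hqU⟩
    have hloc := hU.isLocalization_stalk' q hqU
    rw [@IsLocalization.AtPrime.ringKrullDim_eq_height _ _ q.asIdeal _
      (Y.presheaf.stalk (hU.fromSpec q)) _
      (TopCat.Presheaf.algebra_section_stalk Y.presheaf ⟨hU.fromSpec q, hqU⟩) hloc,
      Ideal.height_eq_zero_iff.mpr hmin]
    rfl
  have hq : hU.primeIdealOf ⟨x, hxU⟩ ∈ PrimeSpectrum.zeroLocus (J.ideal ⟨U, hU⟩ : Set Γ(Y, U)) := by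
    rw [PrimeSpectrum.mem_zeroLocus, SetLike.coe_subset_coe]
    exact (Groth.Agent.Lib.T2H4.EffCartProd.mem_support_iff_le_primeIdealOf J ⟨U, hU⟩ x hxU).mp hx
  obtain ⟨O, hO, hOq⟩ := isDiscrete_iff_forall_mem_exists_isOpen.mp hd _ hq
  refine ⟨hU.fromSpec '' O, hU.fromSpec.isOpenEmbedding.isOpenMap O hO, ?_⟩
  ext z
  constructor
  · rintro ⟨⟨q', hq'O, rfl⟩, hzs⟩
    have h1 : q' ∈ O ∩ PrimeSpectrum.zeroLocus (J.ideal ⟨U, hU⟩ : Set Γ(Y, U)) := by
      refine ⟨hq'O, ?_⟩
      rw [zeroLocus_eq_preimage_support]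
      exact hzs
    rw [hOq] at h1
    have h1' : q' = hU.primeIdealOf ⟨x, hxU⟩ := h1
    rw [h1', hU.fromSpec_primeIdealOf]
    rfl
  · rintro rfl
    have h1 : hU.primeIdealOf ⟨z, hxU⟩ ∈ O ∩ PrimeSpectrum.zeroLocus (J.ideal ⟨U, hU⟩ : Set Γ(Y, U)) := by
      rw [hOq]
      rfl
    exact ⟨⟨_, h1.1, hU.fromSpec_primeIdealOf ⟨z, hxU⟩⟩, hx⟩

/-- **the support of an effective Cartier divisor on a smooth curve is discrete.** -/
theorem isDiscrete_support_of_isEffCartier (hY : LocallyCurve Y) (J : Y.IdealSheafData)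
    (hJ : BlowUp.IsEffCartierIdeal J) : _root_.IsDiscrete (J.support : Set Y) :=
  isDiscrete_support_of_forall_dim_ne_zero hY J
    (fun x hx => ringKrullDim_stalk_ne_zero_of_isEffCartier J hJ x hx)

end LC

end Groth.Agent.Lib.T2H6.SmCurve
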