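import Groth.Agent.Lib.Helper4VarDim9
import Groth.Agent.Lib.Helper4VarDim5
import Groth.Agent.Lib.Helper4VarDim10
import Groth.Agent.Lib.Helper4VarDim7
import Groth.Agent.Lib.Helper4VarDim6
import Groth.Agent.Lib.Helper6SmRegSch
import Groth.Agent.Lib.T2H2QRegStalk
import Groth.Prelude.Def_IntMult

/-!
# Geometric setup for Tor-formula intersection multiplicities (T2H9)

For a smooth integral `X` over a field, integral closed subschemes `V`, `W` meeting properly and a
maximal point `ξ` of `V ∩ W`: the stalk ideals are prime, primes containing both are maximal, and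
`dim O_ξ ≤ dim O_{V,ξ} + dim O_{W,ξ}`.
-/

set_option autoImplicit false
set_option linter.style.haveILetI false
set_option linter.unusedSectionVars false
universe u
open CategoryTheory AlgebraicGeometry Limits

namespace Groth.Agent.Lib.T2H9.IntMultSetup

open Groth.Agent.Lib.Helper4.VarDim

section Stalk

variable {X : Scheme.{u}}

/-- the stalk of the closed subscheme of an ideal sheaf is the quotient of the stalk by the stalk ideal -/
theorem ker_stalkMap_subschemeι (I : X.IdealSheafData) (v : I.subscheme) :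
    RingHom.ker (I.subschemeι.stalkMap v).hom = IntMult.stalkIdeal I (I.subschemeι v) := by
  have key : ∀ (U : X.affineOpens) (hx : I.subschemeι v ∈ U.1),
      (I.ideal U).map (X.presheaf.germ U.1 (I.subschemeι v) hx).hom =
        RingHom.ker (I.subschemeι.stalkMap v).hom := by
    intro U hx
    rw [Groth.Agent.Lib.T2H2.QRegStalk.ker_stalkMap_eq_map_ker_app I.subschemeι v U.1 U.2 hx,
      I.ker_subschemeι_app U]
  obtain ⟨U₀, hU₀, hx₀, -⟩ := TopologicalSpace.Opens.isBasis_iff_nbhd.mp X.isBasis_affineOpens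
    (TopologicalSpace.Opens.mem_top (I.subschemeι v))
  apply le_antisymm
  · rw [← key ⟨U₀, hU₀⟩ hx₀]
    unfold IntMult.stalkIdeal
    exact le_iSup₂_of_le ⟨U₀, hU₀⟩ hx₀ le_rfl
  · unfold IntMult.stalkIdeal
    exact iSup₂_le fun U hx => (key U hx).le

theorem stalkMap_subschemeι_surjective (I : X.IdealSheafData) (v : I.subscheme) :
    Function.Surjective (I.subschemeι.stalkMap v).hom :=
  I.subschemeι.stalkMap_surjective v

/-- the stalk ideal of an integral closed subscheme is prime -/
theorem isPrime_stalkIdeal (I : X.IdealSheafData) [IsIntegral I.subscheme] (x : X)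
    (hx : x ∈ I.support) : (IntMult.stalkIdeal I x).IsPrime := by
  let v : I.subscheme := ⟨x, hx⟩
  have hker : RingHom.ker (I.subschemeι.stalkMap v).hom = IntMult.stalkIdeal I x :=
    ker_stalkMap_subschemeι I v
  rw [← hker]
  exact RingHom.ker_isPrime _

/-- generizations of `x` whose prime contains the stalk ideal lie in the support -/
theorem fromSpecStalk_mem_support' (I : X.IdealSheafData) (v : I.subscheme)
    (𝔭 : PrimeSpectrum (X.presheaf.stalk (I.subschemeι v)))
    (h : IntMult.stalkIdeal I (I.subschemeι v) ≤ 𝔭.asIdeal) :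
    X.fromSpecStalk (I.subschemeι v) 𝔭 ∈ I.support := by
  have hker := ker_stalkMap_subschemeι I v
  have hsurj : Function.Surjective (I.subschemeι.stalkMap v).hom :=
    I.subschemeι.stalkMap_surjective v
  have hle : RingHom.ker (I.subschemeι.stalkMap v).hom ≤ 𝔭.asIdeal := hker ▸ h
  haveI : (𝔭.asIdeal.map (I.subschemeι.stalkMap v).hom).IsPrime :=
    Ideal.map_isPrime_of_surjective hsurj hle
  let 𝔮 : PrimeSpectrum (I.subscheme.presheaf.stalk v) :=
    ⟨𝔭.asIdeal.map (I.subschemeι.stalkMap v).hom, inferInstance⟩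
  have hcomap : Spec.map (I.subschemeι.stalkMap v) 𝔮 = 𝔭 := by
    apply PrimeSpectrum.ext
    show Ideal.comap (I.subschemeι.stalkMap v).hom (𝔭.asIdeal.map (I.subschemeι.stalkMap v).hom) = _
    rw [Ideal.comap_map_of_surjective _ hsurj]
    refine le_antisymm (sup_le le_rfl ?_) le_sup_left
    rw [← RingHom.ker_eq_comap_bot]
    exact hle
  have hnat := Scheme.SpecMap_stalkMap_fromSpecStalk (f := I.subschemeι) (x := v)
  have h2 : X.fromSpecStalk (I.subschemeι v) 𝔭 =
      I.subschemeι (I.subscheme.fromSpecStalk v 𝔮) := by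
    rw [← hcomap, ← Scheme.Hom.comp_apply, hnat, Scheme.Hom.comp_apply]
  rw [h2]
  have : I.subschemeι (I.subscheme.fromSpecStalk v 𝔮) ∈ Set.range I.subschemeι := ⟨_, rfl⟩
  rw [I.range_subschemeι] at this
  exact this

theorem fromSpecStalk_mem_support (I : X.IdealSheafData) (x : X) (hx : x ∈ I.support)
    (𝔭 : PrimeSpectrum (X.presheaf.stalk x)) (h : IntMult.stalkIdeal I x ≤ 𝔭.asIdeal) :
    X.fromSpecStalk x 𝔭 ∈ I.support :=
  fromSpecStalk_mem_support' I ⟨x, hx⟩ 𝔭 h

/-- at a maximal point of `V ∩ W`, primes containing both stalk ideals are maximal -/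
theorem isMaximal_of_sup_le (IV IW : X.IdealSheafData) (ξ : X) (hξV : ξ ∈ IV.support)
    (hξW : ξ ∈ IW.support)
    (hmax : ∀ ξ' : X, ξ' ∈ IV.support → ξ' ∈ IW.support → ξ' ⤳ ξ → ξ' = ξ)
    (𝔭 : Ideal (X.presheaf.stalk ξ)) (h𝔭 : 𝔭.IsPrime)
    (h : IntMult.stalkIdeal IV ξ ⊔ IntMult.stalkIdeal IW ξ ≤ 𝔭) : 𝔭.IsMaximal := by
  let p : PrimeSpectrum (X.presheaf.stalk ξ) := ⟨𝔭, h𝔭⟩
  have h1 := fromSpecStalk_mem_support IV ξ hξV p (le_sup_left.trans h)
  have h2 := fromSpecStalk_mem_support IW ξ hξW p (le_sup_right.trans h)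
  have h3 : X.fromSpecStalk ξ p ⤳ ξ := by
    have : X.fromSpecStalk ξ p ∈ Set.range (X.fromSpecStalk ξ) := ⟨p, rfl⟩
    rw [Scheme.range_fromSpecStalk] at this
    exact this
  have h4 := hmax _ h1 h2 h3
  have h5 : X.fromSpecStalk ξ p = X.fromSpecStalk ξ (IsLocalRing.closedPoint _) := by
    rw [h4, Scheme.fromSpecStalk_closedPoint]
  have hinj : Function.Injective (X.fromSpecStalk ξ) :=
    (X.fromSpecStalk ξ).isEmbedding.injective
  have h6 : p = IsLocalRing.closedPoint _ := hinj h5
  have h7 : 𝔭 = IsLocalRing.maximalIdeal _ := congrArg PrimeSpectrum.asIdeal h6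
  rw [h7]
  infer_instance

end Stalk

section Field

variable (k : Type u) [Field k] (Y : Scheme.{u}) [Y.Over (Spec (CommRingCat.of k))]
  [LocallyOfFiniteType (Y ↘ Spec (CommRingCat.of k))] [IrreducibleSpace Y]

include k

/-- the local dimension of an irreducible variety is its dimension -/
theorem localDim_eq_topologicalKrullDim (y : Y) :
    FlatMor.localDim Y y = topologicalKrullDim Y := by
  unfold FlatMor.localDim
  haveI : Nonempty {U : TopologicalSpace.Opens Y // y ∈ U} := ⟨⟨⊤, trivial⟩⟩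
  have : ∀ U : {U : TopologicalSpace.Opens Y // y ∈ U},
      topologicalKrullDim (U.1 : Set Y) = topologicalKrullDim Y := fun U =>
    topologicalKrullDim_opens_eq_of_irreducible k Y U.1 ⟨y, U.2⟩
  simp only [this]
  exact ciInf_const

/-- `dim O_{Y,y} + trdeg κ(y)/k = dim Y` for an irreducible scheme locally of finite type over `k` -/
theorem ringKrullDim_stalk_add_trdegNat (y : Y) :
    ringKrullDim (Y.presheaf.stalk y) + ((trdegNat k Y y : ℕ) : WithBot ℕ∞) =
      topologicalKrullDim Y := by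
  obtain ⟨b, hb⟩ := exists_ringKrullDim_stalk_eq k Y y
  have h := localDim_eq_add k Y y (trdegNat k Y y) b (trdeg_eq_trdegNat k Y y) hb
  rw [localDim_eq_topologicalKrullDim k Y y] at h
  rw [h, hb]
  push_cast
  rw [add_comm]

end Field

section Sub

variable (k : Type u) [Field k] (X : Scheme.{u}) [X.Over (Spec (CommRingCat.of k))]
  [LocallyOfFiniteType (X ↘ Spec (CommRingCat.of k))]

attribute [local instance] sectionsAlgebra Curv2.resAlgebra

/-- `dim O_{X,x}/I_x + trdeg κ(x)/k = dim V(I)` for an integral closed subscheme -/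
theorem ringKrullDim_quot_stalkIdeal_add_trdegNat (I : X.IdealSheafData) [IsIntegral I.subscheme]
    (x : X) (hx : x ∈ I.support) :
    ringKrullDim (X.presheaf.stalk x ⧸ IntMult.stalkIdeal I x) +
      ((trdegNat k X x : ℕ) : WithBot ℕ∞) = topologicalKrullDim ↥I.support := by
  letI : I.subscheme.Over (Spec (CommRingCat.of k)) :=
    ⟨I.subschemeι ≫ (X ↘ Spec (CommRingCat.of k))⟩
  haveI : LocallyOfFiniteType (I.subscheme ↘ Spec (CommRingCat.of k)) := by
    show LocallyOfFiniteType (I.subschemeι ≫ (X ↘ Spec (CommRingCat.of k)))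
    infer_instance
  let v : I.subscheme := ⟨x, hx⟩
  have hv : I.subschemeι v = x := rfl
  have h1 := ringKrullDim_stalk_add_trdegNat k I.subscheme v
  -- the stalks
  have hsurj : Function.Surjective (I.subschemeι.stalkMap v).hom :=
    I.subschemeι.stalkMap_surjective v
  have hker := ker_stalkMap_subschemeι I v
  have e1 : ringKrullDim (I.subscheme.presheaf.stalk v) =
      ringKrullDim (X.presheaf.stalk x ⧸ IntMult.stalkIdeal I x) := by
    have e := RingHom.quotientKerEquivOfSurjective hsurj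
    rw [← ringKrullDim_eq_of_ringEquiv e, hker]
    rfl
  -- the residue fields
  have e2 : trdegNat k I.subscheme v = trdegNat k X x := by
    have hb := residueFieldMap_bijective_of_isPreimmersion I.subschemeι v
    let a := residueFieldAlgHom k I.subschemeι rfl v
    have hb' : Function.Bijective a := hb
    have := (AlgEquiv.ofBijective a hb').trdeg_eq
    unfold trdegNat
    rw [← this]
    rfl
  rw [e1, e2] at h1
  exact h1

end Sub

lemma exists_nat_of_add_eq {a : WithBot ℕ∞} {t n : ℕ}
    (h : a + ((t : ℕ) : WithBot ℕ∞) = ((n : ℕ) : WithBot ℕ∞)) :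
    ∃ a' : ℕ, a = ((a' : ℕ) : WithBot ℕ∞) ∧ a' + t = n := by
  induction a with
  | bot => simp at h
  | coe a =>
    induction a with
    | top =>
      exfalso
      have h1 : ((⊤ : ℕ∞) : WithBot ℕ∞) + ((t : ℕ) : WithBot ℕ∞) = ((⊤ : ℕ∞) : WithBot ℕ∞) := by
        rw [show ((t : ℕ) : WithBot ℕ∞) = (((t : ℕ) : ℕ∞) : WithBot ℕ∞) from rfl, ← WithBot.coe_add,
          top_add]
      rw [h1] at h
      have h2 : ((n : ℕ) : WithBot ℕ∞) = (((n : ℕ) : ℕ∞) : WithBot ℕ∞) := rfl
      rw [h2] at h
      exact ENat.top_ne_natCast n (WithBot.coe_injective h)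
    | coe a' =>
      refine ⟨a', rfl, ?_⟩
      exact_mod_cast h

section Setup

variable (K : Type u) [Field K] (X : Scheme.{u}) (f : X ⟶ Spec (CommRingCat.of K)) [Smooth f]
  [IsIntegral X] (IV IW : X.IdealSheafData) [IsIntegral IV.subscheme] [IsIntegral IW.subscheme]
  (n r s : ℕ) (hn : topologicalKrullDim X = n) (hr : topologicalKrullDim IV.support = r)
  (hs : topologicalKrullDim IW.support = s)
  (hprop : IntMult.ProperInt (IV.support : Set X) (IW.support : Set X) n r s) (ξ : X)
  (hξV : ξ ∈ IV.support) (hξW : ξ ∈ IW.support)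

include K f hn hr hs hprop hξV hξW in
/-- the dimension inequality `dim O_ξ ≤ dim O_{V,ξ} + dim O_{W,ξ}` for a proper intersection -/
theorem ringKrullDim_le_add :
    ringKrullDim (X.presheaf.stalk ξ) ≤
      ringKrullDim (X.presheaf.stalk ξ ⧸ IntMult.stalkIdeal IV ξ) +
        ringKrullDim (X.presheaf.stalk ξ ⧸ IntMult.stalkIdeal IW ξ) := by
  letI : X.Over (Spec (CommRingCat.of K)) := ⟨f⟩
  haveI : LocallyOfFiniteType (X ↘ Spec (CommRingCat.of K)) :=
    (inferInstance : LocallyOfFiniteType f)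
  have h1 := ringKrullDim_stalk_add_trdegNat K X ξ
  have h2 := ringKrullDim_quot_stalkIdeal_add_trdegNat K X IV ξ hξV
  have h3 := ringKrullDim_quot_stalkIdeal_add_trdegNat K X IW ξ hξW
  rw [hn] at h1
  rw [hr] at h2
  rw [hs] at h3
  obtain ⟨hle, hd⟩ := hprop ⟨ξ, hξV, hξW⟩
  have hcl : IsClosed ((IV.support : Set X) ∩ (IW.support : Set X)) :=
    IV.support.isClosed.inter IW.support.isClosed
  have h4 := trdegNat_le_topologicalKrullDim_of_isLocallyClosed K X _ hcl.isLocallyClosed ξ
    ⟨hξV, hξW⟩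
  have h5 := h4.trans hd
  have h5' : trdegNat K X ξ ≤ r + s - n := by exact_mod_cast h5
  obtain ⟨a, ha, ha'⟩ := exists_nat_of_add_eq h1
  obtain ⟨p, hp, hp'⟩ := exists_nat_of_add_eq h2
  obtain ⟨q, hq, hq'⟩ := exists_nat_of_add_eq h3
  rw [ha, hp, hq]
  have : a ≤ p + q := by omega
  exact_mod_cast this

end Setup

end Groth.Agent.Lib.T2H9.IntMultSetup
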