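import Mathlib
import Groth.Prelude.Def_BlowUp2
import Groth.Prelude.Def_IntMult
import Groth.Agent.Lib.T2H6SmCurveSch
import Groth.Agent.Lib.T2H4FibreDeg
import Groth.Agent.Lib.T2H9IntMultSetup
import Groth.Agent.Lib.T2H6AffGlue
set_option backward.isDefEq.respectTransparency.types false

/-!
# Degrees of effective Cartier divisors on smooth curves over a field (helper6)

Namespace `Groth.Agent.Lib.T2H6.SmCurve`.

* `stalkIdeal_eq_map_germ_of_mem` : the stalk ideal of an ideal sheaf is computed on any affine neighbourhood.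
* `stalkIdeal_mul`, `stalkIdeal_eq_top_of_notMem_support`.
* `finrank_subscheme_eq_finsum` : the degree of a finite closed subscheme `V(J)` of a `k`-scheme `Y` is
  `∑ length(O_{Y,x}/J_x) [κ(x):k]`.
* `toNat_length_stalkIdeal_mul` : additivity of `length(O_{Y,x}/J_x)` for effective Cartier divisors on a curve.
-/

set_option autoImplicit false
set_option linter.style.haveILetI false
set_option linter.unusedSectionVars false
universe u
open CategoryTheory CategoryTheory.Limits AlgebraicGeometry TopologicalSpace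

namespace Groth.Agent.Lib.T2H6.SmCurve

section Stalk

variable {X : Scheme.{u}}

theorem map_germ_eq_of_le (I : X.IdealSheafData) (x : X) (V W : X.affineOpens) (hWV : W.1 ≤ V.1)
    (hxW : x ∈ W.1)
    (h : (I.ideal V).map (X.presheaf.map (homOfLE hWV).op).hom = I.ideal W) :
    (I.ideal V).map (X.presheaf.germ V.1 x (hWV hxW)).hom =
      (I.ideal W).map (X.presheaf.germ W.1 x hxW).hom := by
  rw [← h, Ideal.map_map, ← CommRingCat.hom_comp, X.presheaf.germ_res]

/-- the stalk ideal of an ideal sheaf at `x` is computed on any affine open neighbourhood of `x`. -/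
theorem stalkIdeal_eq_map_germ_of_mem (I : X.IdealSheafData) (x : X) (U : X.affineOpens)
    (hxU : x ∈ U.1) :
    IntMult.stalkIdeal I x = (I.ideal U).map (X.presheaf.germ U.1 x hxU).hom := by
  apply le_antisymm
  · unfold IntMult.stalkIdeal
    refine iSup₂_le fun V hxV => ?_
    obtain ⟨f, g, hfg, hxf⟩ := exists_basicOpen_le_affine_inter U.2 V.2 x ⟨hxU, hxV⟩
    have hxg : x ∈ X.basicOpen g := hfg ▸ hxf
    have h3 := map_germ_eq_of_le I x V (X.affineBasicOpen g) (X.basicOpen_le g) hxg
      (I.map_ideal_basicOpen V g)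
    have h4 := map_germ_eq_of_le I x U (X.affineBasicOpen f) (X.basicOpen_le f) hxf
      (I.map_ideal_basicOpen U f)
    have hfg' : X.affineBasicOpen f = X.affineBasicOpen g := Subtype.ext hfg
    have key : ∀ (W W' : X.affineOpens) (h : W = W') (hW : x ∈ W.1) (hW' : x ∈ W'.1),
        (I.ideal W).map (X.presheaf.germ W.1 x hW).hom =
          (I.ideal W').map (X.presheaf.germ W'.1 x hW').hom := by
      intro W W' h hW hW'
      subst h
      rfl
    rw [h3, ← key _ _ hfg' hxf hxg, ← h4]
  · unfold IntMult.stalkIdeal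
    exact le_iSup₂_of_le U hxU le_rfl

theorem stalkIdeal_mul (I₁ I₂ : X.IdealSheafData) (x : X) :
    IntMult.stalkIdeal (I₁ * I₂) x = IntMult.stalkIdeal I₁ x * IntMult.stalkIdeal I₂ x := by
  obtain ⟨U, hU, hxU, -⟩ := TopologicalSpace.Opens.isBasis_iff_nbhd.mp X.isBasis_affineOpens
    (TopologicalSpace.Opens.mem_top x)
  rw [stalkIdeal_eq_map_germ_of_mem (I₁ * I₂) x ⟨U, hU⟩ hxU,
    stalkIdeal_eq_map_germ_of_mem I₁ x ⟨U, hU⟩ hxU, stalkIdeal_eq_map_germ_of_mem I₂ x ⟨U, hU⟩ hxU,
    Scheme.IdealSheafData.ideal_mul, Pi.mul_apply, Ideal.map_mul]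

theorem stalkIdeal_eq_top_of_notMem_support (I : X.IdealSheafData) (x : X) (hx : x ∉ I.support) :
    IntMult.stalkIdeal I x = ⊤ := by
  obtain ⟨U, hU, hxU, -⟩ := TopologicalSpace.Opens.isBasis_iff_nbhd.mp X.isBasis_affineOpens
    (TopologicalSpace.Opens.mem_top x)
  rw [stalkIdeal_eq_map_germ_of_mem I x ⟨U, hU⟩ hxU]
  have h1 : ¬ I.ideal ⟨U, hU⟩ ≤ (hU.primeIdealOf ⟨x, hxU⟩).asIdeal := fun h =>
    hx ((Groth.Agent.Lib.T2H4.EffCartProd.mem_support_iff_le_primeIdealOf I ⟨U, hU⟩ x hxU).mpr h)
  obtain ⟨a, haI, haq⟩ := SetLike.not_le_iff_exists.mp h1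
  have hax : x ∈ X.basicOpen a := by
    rw [Groth.Agent.Lib.T2H6.AffGlue.mem_basicOpen_iff_primeIdealOf U hU a x hxU]
    exact haq
  have hu : IsUnit ((X.presheaf.germ U x hxU).hom a) := (X.mem_basicOpen a x hxU).mp hax
  exact Ideal.eq_top_of_isUnit_mem _ (Ideal.mem_map_of_mem _ haI) hu

/-- the stalk ideal of an effective Cartier divisor is generated by a nonzerodivisor. -/
theorem exists_stalkIdeal_eq_span (J : X.IdealSheafData) (hJ : BlowUp.IsEffCartierIdeal J) (x : X) :
    ∃ c ∈ nonZeroDivisors (X.presheaf.stalk x), IntMult.stalkIdeal J x = Ideal.span {c} := by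
  obtain ⟨W, hxW, a, ha, hJa⟩ := hJ x
  refine ⟨(X.presheaf.germ W.1 x hxW).hom a, ?_, ?_⟩
  · letI : Algebra Γ(X, W.1) (X.presheaf.stalk x) :=
      TopCat.Presheaf.algebra_section_stalk X.presheaf ⟨x, hxW⟩
    haveI := W.2.isLocalization_stalk ⟨x, hxW⟩
    exact IsLocalization.map_nonZeroDivisors_le (W.2.primeIdealOf ⟨x, hxW⟩).asIdeal.primeCompl
      (X.presheaf.stalk x) (Submonoid.mem_map_of_mem _ ha)
  · rw [stalkIdeal_eq_map_germ_of_mem J x W hxW, hJa, Ideal.map_span, Set.image_singleton]

/-- the length of the local ring of a closed subscheme at a point. -/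
theorem length_stalk_subscheme (J : X.IdealSheafData) (z : J.subscheme) :
    Module.length (J.subscheme.presheaf.stalk z) (J.subscheme.presheaf.stalk z) =
      Module.length (X.presheaf.stalk (J.subschemeι z))
        (X.presheaf.stalk (J.subschemeι z) ⧸ IntMult.stalkIdeal J (J.subschemeι z)) := by
  rw [← Groth.Agent.Lib.T2H9.IntMultSetup.ker_stalkMap_subschemeι J z]
  have hσ : Function.Surjective (J.subschemeι.stalkMap z).hom := J.subschemeι.stalkMap_surjective z
  letI : Algebra (X.presheaf.stalk (J.subschemeι z)) (J.subscheme.presheaf.stalk z) :=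
    (J.subschemeι.stalkMap z).hom.toAlgebra
  let e : (X.presheaf.stalk (J.subschemeι z) ⧸ RingHom.ker (J.subschemeι.stalkMap z).hom)
      ≃ₗ[X.presheaf.stalk (J.subschemeι z)] (J.subscheme.presheaf.stalk z) :=
    { (RingHom.quotientKerEquivOfSurjective hσ).toAddEquiv with
      map_smul' := fun r m => by
        obtain ⟨a, rfl⟩ := Ideal.Quotient.mk_surjective m
        change (RingHom.quotientKerEquivOfSurjective hσ) (r • Ideal.Quotient.mk _ a) =
          (J.subschemeι.stalkMap z).hom r * (RingHom.quotientKerEquivOfSurjective hσ)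
            (Ideal.Quotient.mk _ a)
        have h1 : r • (Ideal.Quotient.mk (RingHom.ker (J.subschemeι.stalkMap z).hom)) a =
            (Ideal.Quotient.mk _) r * (Ideal.Quotient.mk _) a := rfl
        rw [h1, map_mul]
        rfl }
  rw [e.length_eq]
  exact (Module.length_eq_of_surjective hσ).symm

end Stalk

section OverField

attribute [local instance] Curv2.resAlgebra

variable (k : Type u) [Field k] (Y : Scheme.{u}) [Y.Over (Spec (CommRingCat.of k))]

/-- the residue degree over `k` of a point of a closed subscheme. -/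
theorem finrank_residueField_subscheme (J : Y.IdealSheafData) (z : J.subscheme) :
    letI : J.subscheme.Over (Spec (CommRingCat.of k)) :=
      ⟨J.subschemeι ≫ (Y ↘ Spec (CommRingCat.of k))⟩
    Module.finrank k (J.subscheme.residueField z) =
      Module.finrank k (Y.residueField (J.subschemeι z)) := by
  letI : J.subscheme.Over (Spec (CommRingCat.of k)) :=
    ⟨J.subschemeι ≫ (Y ↘ Spec (CommRingCat.of k))⟩
  have hb := Groth.Agent.Lib.Helper4.VarDim.residueFieldMap_bijective_of_isPreimmersion
    J.subschemeι z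
  have h1 := Groth.Agent.Lib.T2H4.FibreDeg.finrank_eq_of_bijective
    (Curv2.resMap k Y (J.subschemeι z)) (J.subschemeι.residueFieldMap z).hom hb
  have h2 : (J.subschemeι.residueFieldMap z).hom.comp (Curv2.resMap k Y (J.subschemeι z)) =
      Curv2.resMap k J.subscheme z := by
    have h3 : CommRingCat.ofHom (Curv2.resMap k Y (J.subschemeι z)) ≫
        J.subschemeι.residueFieldMap z = CommRingCat.ofHom (Curv2.resMap k J.subscheme z) := by
      apply Spec.map_injective
      rw [Spec.map_comp]
      have hY := Groth.Agent.Lib.Helper4.VarDim.SpecMap_resMap k Y (J.subschemeι z)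
      have hZ := Groth.Agent.Lib.Helper4.VarDim.SpecMap_resMap k J.subscheme z
      have hY' : Spec.map (CommRingCat.ofHom (Curv2.resMap k Y (J.subschemeι z))) =
          Y.fromSpecResidueField (J.subschemeι z) ≫ (Y ↘ Spec (CommRingCat.of k)) := hY
      have hZ' : Spec.map (CommRingCat.ofHom (Curv2.resMap k J.subscheme z)) =
          J.subscheme.fromSpecResidueField z ≫ (J.subscheme ↘ Spec (CommRingCat.of k)) := hZ
      rw [hY', hZ', ← Category.assoc, Scheme.Hom.SpecMap_residueFieldMap_fromSpecResidueField,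
        Category.assoc]
      rfl
    have h4 := congrArg CommRingCat.Hom.hom h3
    exact h4
  rw [h2] at h1
  exact h1.symm

/-- **the degree of a finite closed subscheme of a `k`-scheme as a sum of local terms.** -/
theorem finrank_subscheme_eq_finsum (J : Y.IdealSheafData)
    [IsFinite (J.subschemeι ≫ (Y ↘ Spec (CommRingCat.of k)))]
    [Flat (J.subschemeι ≫ (Y ↘ Spec (CommRingCat.of k)))] (pt : Spec (CommRingCat.of k)) :
    (J.subschemeι ≫ (Y ↘ Spec (CommRingCat.of k))).finrank pt =
      ∑ᶠ x : Y, (Module.length (Y.presheaf.stalk x)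
        (Y.presheaf.stalk x ⧸ IntMult.stalkIdeal J x)).toNat * Module.finrank k (Y.residueField x) := by
  letI : J.subscheme.Over (Spec (CommRingCat.of k)) :=
    ⟨J.subschemeι ≫ (Y ↘ Spec (CommRingCat.of k))⟩
  haveI : IsFinite (J.subscheme ↘ Spec (CommRingCat.of k)) :=
    inferInstanceAs (IsFinite (J.subschemeι ≫ (Y ↘ Spec (CommRingCat.of k))))
  haveI : Flat (J.subscheme ↘ Spec (CommRingCat.of k)) :=
    inferInstanceAs (Flat (J.subschemeι ≫ (Y ↘ Spec (CommRingCat.of k))))
  have h1 := Groth.Agent.Lib.T2H4.FibreDeg.finrank_structure k J.subscheme pt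
  have h2 := Groth.Agent.Lib.T2H4.FibreDeg.finrank_global_eq_finsum k J.subscheme
  have h0 : (J.subschemeι ≫ (Y ↘ Spec (CommRingCat.of k))).finrank pt =
      (J.subscheme ↘ Spec (CommRingCat.of k)).finrank pt := rfl
  rw [h0, h1, h2]
  set F : Y → ℕ := fun x => (Module.length (Y.presheaf.stalk x)
    (Y.presheaf.stalk x ⧸ IntMult.stalkIdeal J x)).toNat * Module.finrank k (Y.residueField x) with hF
  have h3 : ∀ z : J.subscheme,
      (Module.length (J.subscheme.presheaf.stalk z) (J.subscheme.presheaf.stalk z)).toNat *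
        Module.finrank k (J.subscheme.residueField z) = F (J.subschemeι z) := by
    intro z
    rw [hF]
    dsimp only
    rw [length_stalk_subscheme J z, finrank_residueField_subscheme k Y J z]
  rw [finsum_congr h3, ← finsum_mem_range J.subschemeι.isClosedEmbedding.injective, finsum_mem_def]
  congr 1
  rw [Set.indicator_eq_self]
  intro x hx
  by_contra hxr
  apply hx
  rw [J.range_subschemeι] at hxr
  have htop := stalkIdeal_eq_top_of_notMem_support J x hxr
  rw [hF]
  dsimp only
  have hsub : Subsingleton (Y.presheaf.stalk x ⧸ IntMult.stalkIdeal J x) := by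
    rw [htop]
    exact Ideal.Quotient.subsingleton_iff.mpr rfl
  rw [Module.length_eq_zero, ENat.toNat_zero, zero_mul]

end OverField

section Add

variable {Y : Scheme.{u}}

/-- additivity of the local multiplicities of effective Cartier divisors on a curve. -/
theorem toNat_length_stalkIdeal_mul (hY : LocallyCurve Y) (J₁ J₂ : Y.IdealSheafData)
    (h₁ : BlowUp.IsEffCartierIdeal J₁) (h₂ : BlowUp.IsEffCartierIdeal J₂) (x : Y) :
    (Module.length (Y.presheaf.stalk x)
      (Y.presheaf.stalk x ⧸ IntMult.stalkIdeal (J₁ * J₂) x)).toNat =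
    (Module.length (Y.presheaf.stalk x) (Y.presheaf.stalk x ⧸ IntMult.stalkIdeal J₁ x)).toNat +
      (Module.length (Y.presheaf.stalk x) (Y.presheaf.stalk x ⧸ IntMult.stalkIdeal J₂ x)).toNat := by
  haveI := hY.isLocallyNoetherian
  haveI : IsNoetherianRing (Y.presheaf.stalk x) := inferInstance
  haveI : Ring.KrullDimLE 1 (Y.presheaf.stalk x) :=
    Ring.krullDimLE_iff.mpr (hY.ringKrullDim_stalk_le x)
  obtain ⟨c₁, hc₁, e₁⟩ := exists_stalkIdeal_eq_span J₁ h₁ x
  obtain ⟨c₂, hc₂, e₂⟩ := exists_stalkIdeal_eq_span J₂ h₂ x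
  rw [stalkIdeal_mul, e₁, e₂, Ideal.span_singleton_mul_span_singleton]
  have h3 : Ring.ord (Y.presheaf.stalk x) (c₁ * c₂) =
      Ring.ord (Y.presheaf.stalk x) c₁ + Ring.ord (Y.presheaf.stalk x) c₂ := Ring.ord_mul _ hc₂
  have h4 := Ring.ord_ne_top hc₁
  have h5 := Ring.ord_ne_top hc₂
  show (Ring.ord (Y.presheaf.stalk x) (c₁ * c₂)).toNat =
    (Ring.ord (Y.presheaf.stalk x) c₁).toNat + (Ring.ord (Y.presheaf.stalk x) c₂).toNat
  rw [h3, ENat.toNat_add h4 h5]

end Add

section OverField2

attribute [local instance] Curv2.resAlgebra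

variable (k : Type u) [Field k] (Y : Scheme.{u}) [Y.Over (Spec (CommRingCat.of k))]

/-- finitely many points support the local terms of a finite closed subscheme. -/
theorem finite_support_term (J : Y.IdealSheafData)
    [IsFinite (J.subschemeι ≫ (Y ↘ Spec (CommRingCat.of k)))] :
    (Function.support fun x : Y => (Module.length (Y.presheaf.stalk x)
        (Y.presheaf.stalk x ⧸ IntMult.stalkIdeal J x)).toNat *
          Module.finrank k (Y.residueField x)).Finite := by
  have hfin : (Set.range J.subschemeι).Finite := by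
    have h1 := (J.subschemeι ≫ (Y ↘ Spec (CommRingCat.of k))).finite_preimage_singleton
      (default : Spec (CommRingCat.of k))
    have h2 : (J.subschemeι ≫ (Y ↘ Spec (CommRingCat.of k))) ⁻¹' {default} = Set.univ := by
      ext z
      simp only [Set.mem_preimage, Set.mem_singleton_iff, Set.mem_univ, iff_true]
      exact Subsingleton.elim (α := PrimeSpectrum k) _ _
    rw [h2] at h1
    rw [← Set.image_univ]
    exact h1.image _
  refine hfin.subset ?_
  intro x hx
  by_contra hxr
  apply hx
  rw [J.range_subschemeι] at hxr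
  have htop := stalkIdeal_eq_top_of_notMem_support J x hxr
  dsimp only
  have hsub : Subsingleton (Y.presheaf.stalk x ⧸ IntMult.stalkIdeal J x) := by
    rw [htop]
    exact Ideal.Quotient.subsingleton_iff.mpr rfl
  rw [Module.length_eq_zero, ENat.toNat_zero, zero_mul]

/-- **additivity of the degree of effective Cartier divisors on a smooth curve over a field.** -/
theorem finrank_mul_eq_add (hY : LocallyCurve Y) (J₁ J₂ : Y.IdealSheafData)
    (h₁ : BlowUp.IsEffCartierIdeal J₁) (h₂ : BlowUp.IsEffCartierIdeal J₂)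
    [IsFinite (J₁.subschemeι ≫ (Y ↘ Spec (CommRingCat.of k)))]
    [Flat (J₁.subschemeι ≫ (Y ↘ Spec (CommRingCat.of k)))]
    [IsFinite (J₂.subschemeι ≫ (Y ↘ Spec (CommRingCat.of k)))]
    [Flat (J₂.subschemeι ≫ (Y ↘ Spec (CommRingCat.of k)))]
    [IsFinite ((J₁ * J₂).subschemeι ≫ (Y ↘ Spec (CommRingCat.of k)))]
    [Flat ((J₁ * J₂).subschemeι ≫ (Y ↘ Spec (CommRingCat.of k)))] (pt : Spec (CommRingCat.of k)) :
    ((J₁ * J₂).subschemeι ≫ (Y ↘ Spec (CommRingCat.of k))).finrank pt =
      (J₁.subschemeι ≫ (Y ↘ Spec (CommRingCat.of k))).finrank pt +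
        (J₂.subschemeι ≫ (Y ↘ Spec (CommRingCat.of k))).finrank pt := by
  rw [finrank_subscheme_eq_finsum k Y (J₁ * J₂) pt, finrank_subscheme_eq_finsum k Y J₁ pt,
    finrank_subscheme_eq_finsum k Y J₂ pt,
    ← finsum_add_distrib (finite_support_term k Y J₁) (finite_support_term k Y J₂)]
  refine finsum_congr fun x => ?_
  rw [toNat_length_stalkIdeal_mul hY J₁ J₂ h₁ h₂ x, add_mul]

end OverField2

end Groth.Agent.Lib.T2H6.SmCurve
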