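import Mathlib
import Groth.Prelude.Def_Curv2
import Groth.Agent.Lib.T2H9H0Unit

/-!
# T2H9Tower (helper9): on an integral proper `k`-scheme, `h^0(O_X)` divides every `dim_k H^n(X, M)`
-/

set_option autoImplicit false
set_option linter.style.haveILetI false
set_option linter.unusedSectionVars false
universe u

open AlgebraicGeometry CategoryTheory Limits TopologicalSpace Opposite

namespace Groth.Agent.Lib.T2H9.Tower

theorem finrank_dvd_of_isField {F K A : Type*} [Field F] [Ring K] (hK : IsField K) [Module F K]
    [AddCommGroup A] [Module K A] [Module F A] [IsScalarTower F K A] :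
    Module.finrank F K ∣ Module.finrank F A := by
  have h1 : StrongRankCondition K := by
    letI := hK.toField
    exact (inferInstance : StrongRankCondition K)
  have h2 : Module.Free K A := by
    letI := hK.toField
    exact Module.Free.of_divisionRing K A
  exact Module.finrank_dvd_finrank_right F K A

variable (k : Type u) [Field k] (X : Scheme.{u}) [X.Over (Spec (CommRingCat.of k))]

/-- the `k`-module structure on global functions -/
@[instance_reducible]
noncomputable def moduleΓ : Module k (Coh.Γtop X) :=
  Module.compHom (Coh.Γtop X) (Coh.toGlobal (X ↘ Spec (CommRingCat.of k)))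

attribute [local instance] moduleΓ

theorem isScalarTower (M : X.Modules) (n : ℕ) : IsScalarTower k (Coh.Γtop X) (Coh.HH X M n) := by
  refine ⟨fun c r x => ?_⟩
  change (Coh.toGlobal (X ↘ Spec (CommRingCat.of k)) c * r) • x =
    Coh.toGlobal (X ↘ Spec (CommRingCat.of k)) c • (r • x)
  rw [mul_smul]

/-- `H^0(X, O_X) ≃ Γ(X, O_X)` is `k`-linear -/
noncomputable def hh0UnitLin : Coh.HH X (Coh.structureModule X) 0 ≃ₗ[k] Coh.Γtop X :=
  { Groth.Agent.Lib.T2H9.H0Unit.hh0Unit X with
    map_smul' := fun c x => by
      change Groth.Agent.Lib.T2H9.H0Unit.hh0Unit X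
          (Coh.toGlobal (X ↘ Spec (CommRingCat.of k)) c • x) =
        Coh.toGlobal (X ↘ Spec (CommRingCat.of k)) c * Groth.Agent.Lib.T2H9.H0Unit.hh0Unit X x
      exact Groth.Agent.Lib.T2H9.H0Unit.hh0Unit_smul X _ x }

variable [IsIntegral X] [IsProper (X ↘ Spec (CommRingCat.of k))]

include k in
theorem isField_Γtop : IsField (Coh.Γtop X) :=
  isField_of_universallyClosed k (X ↘ Spec (CommRingCat.of k))

/-- **tower law**: `h^0(O_X)` divides `dim_k H^n(X, M)` on an integral proper `k`-scheme -/
theorem finrank_hh0_dvd (M : X.Modules) (n : ℕ) :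
    Module.finrank k (Coh.HH X (Coh.structureModule X) 0) ∣ Module.finrank k (Coh.HH X M n) := by
  rw [(hh0UnitLin k X).finrank_eq]
  haveI := isScalarTower k X M n
  exact finrank_dvd_of_isField (isField_Γtop k X)

end Groth.Agent.Lib.T2H9.Tower
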