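import Mathlib
import Groth.Prelude.Def_Curv2
import Groth.Agent.Lib.T2H9Tower
import Groth.Agent.Lib.T2H6PtTwistD
import Groth.Agent.Lib.T2H6SmCurveDeg
import Groth.Agent.Lib.T2H6TensorDegGen
import Groth.Agent.Lib.T2H9TensorInv
import Groth.Agent.Lib.T2H9RatPt

/-!
# T2H9PtDeg (helper9): the ideal of a closed point of a proper curve has degree minus the residue degree;
the degrees of invertible modules form a subgroup containing the residue degrees of normal closed points
-/

set_option autoImplicit false
set_option linter.style.haveILetI false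
set_option linter.unusedSectionVars false
universe u

open AlgebraicGeometry CategoryTheory Limits TopologicalSpace Opposite

namespace Groth.Agent.Lib.T2H9.PtDeg

open Groth.Agent.Lib.T2H6.PtTwistA

attribute [local instance] Curv2.resAlgebra Groth.Agent.Lib.T2H9.Tower.moduleΓ

variable (k : Type u) [Field k] {X : Scheme.{u}} [X.Over (Spec (CommRingCat.of k))]

theorem finrank_residueField_congr (p q : X) (h : q = p) :
    Module.finrank k (X.residueField q) = Module.finrank k (X.residueField p) := by
  subst h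
  rfl

/-- the length of a local ring which is a field -/
theorem length_self_of_isField (R : Type*) [CommRing R] (hR : IsField R) : Module.length R R = 1 := by
  haveI : IsSimpleModule R R := by
    rw [isSimpleModule_self_iff_isUnit]
    refine ⟨hR.nontrivial, fun x hx => ?_⟩
    obtain ⟨y, hy⟩ := hR.mul_inv_cancel hx
    exact IsUnit.of_mul_eq_one y hy
  exact Module.length_eq_one R R

variable [IsProper (X ↘ Spec (CommRingCat.of k))]

/-- `h^0(O_p) = [κ(p) : k]` for a closed point `p` of a proper `k`-scheme -/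
theorem finrank_HH_zero_quotMod_ptIdeal (p : X) (hp : IsClosed ({p} : Set X)) :
    Module.finrank k (Coh.HH X (ClSub.quotMod (ptIdeal p hp)) 0) =
      Module.finrank k (X.residueField p) := by
  set I := ptIdeal p hp with hI
  letI : I.subscheme.Over (Spec (CommRingCat.of k)) :=
    ⟨I.subschemeι ≫ (X ↘ Spec (CommRingCat.of k))⟩
  haveI : IsIntegral I.subscheme :=
    Groth.Agent.Lib.T2H5.GenIsoE.isIntegral_subscheme_vanishingIdeal {p} hp isIrreducible_singleton
  -- the subscheme is a single point
  have hrange : ∀ z : I.subscheme, I.subschemeι z = p := by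
    intro z
    have hmem : I.subschemeι z ∈ (I.support : Set X) := by
      rw [← Scheme.IdealSheafData.range_subschemeι]; exact ⟨_, rfl⟩
    rw [coe_support_ptIdeal] at hmem
    exact hmem
  haveI : Subsingleton I.subscheme :=
    ⟨fun a b => I.subschemeι.isClosedEmbedding.injective ((hrange a).trans (hrange b).symm)⟩
  -- finite over `k`
  haveI : IsProper (I.subscheme ↘ Spec (CommRingCat.of k)) :=
    inferInstanceAs (IsProper (I.subschemeι ≫ (X ↘ Spec (CommRingCat.of k))))
  haveI : LocallyQuasiFinite (I.subscheme ↘ Spec (CommRingCat.of k)) :=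
    LocallyQuasiFinite.of_finite_preimage_singleton _ (fun _ => Set.toFinite _)
  haveI : IsFinite (I.subscheme ↘ Spec (CommRingCat.of k)) :=
    IsFinite.of_isProper_of_locallyQuasiFinite _
  -- step 1: cohomology of the pushforward
  haveI : (Coh.structureModule I.subscheme).IsQuasicoherent :=
    Groth.Agent.Lib.Helper23.Serre.isQuasicoherent_structureModule' _
  have h1 := Groth.Agent.Lib.T2H6.TensorDegGen.finrank_HH_pushforward I.subschemeι k rfl
    (Coh.structureModule I.subscheme) 0
  rw [h1, (Groth.Agent.Lib.T2H9.Tower.hh0UnitLin k I.subscheme).finrank_eq]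
  -- step 2: global sections of a finite `k`-scheme
  have h2 := Groth.Agent.Lib.T2H4.FibreDeg.finrank_global_eq_finsum k I.subscheme
  refine Eq.trans ?_ (h2.trans ?_)
  · rfl
  · obtain ⟨z₀⟩ : Nonempty I.subscheme := inferInstance
    rw [finsum_eq_single _ z₀ (fun z hz => (hz (Subsingleton.elim z z₀)).elim)]
    have hfield : IsField (I.subscheme.presheaf.stalk z₀) := by
      haveI := Groth.Agent.Lib.T2H4.FibreDeg.finite_stalk k I.subscheme z₀
      letI := Curv2.stalkAlgebra k I.subscheme z₀
      haveI : IsArtinianRing (I.subscheme.presheaf.stalk z₀) := IsArtinianRing.of_finite k _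
      exact IsArtinianRing.isField_of_isDomain _
    rw [length_self_of_isField _ hfield, ENat.toNat_one, one_mul,
      Groth.Agent.Lib.T2H6.SmCurve.finrank_residueField_subscheme k X I z₀]
    exact finrank_residueField_congr k p _ (hrange z₀)

variable [IsIntegral X]

/-- the degree of the ideal of a closed point is minus its residue degree -/
theorem deg_idealMod_ptIdeal (p : X) (hp : IsClosed ({p} : Set X)) :
    Curv2.deg k X (ClSub.idealMod (ptIdeal p hp)) 1 = -(Module.finrank k (X.residueField p) : ℤ) := by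
  haveI : IsNoetherian X := Groth.Agent.Lib.T2H6.CurveSatur.isNoetherian_of_proper k
  have hOc : Coh.IsCoh (Coh.structureModule X) := Groth.Agent.Lib.T2H5.GenIsoF.isCoh_structureModule
  have hQc : Coh.IsCoh (ClSub.quotMod (ptIdeal p hp)) :=
    Groth.Agent.Lib.T2H6.ParShC.isCoh_quotMod (ptIdeal p hp)
  have hIc : Coh.IsCoh (ClSub.idealMod (ptIdeal p hp)) :=
    Groth.Agent.Lib.T2H5.Devissage.isCoh_of_mono (ClSub.idealModι (ptIdeal p hp)) hOc
      (Groth.Agent.Lib.T2H6.AmpleCrit.isQuasicoherent_idealMod (ptIdeal p hp))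
  have hadd := Groth.Agent.Lib.T2H6.EulerField.euler_additive k X
    (Groth.Agent.Lib.T2H6.AmpleCrit.idealSC (ptIdeal p hp))
    (Groth.Agent.Lib.T2H6.AmpleCrit.idealSC_shortExact (ptIdeal p hp)) hIc hOc hQc
  have hQsupp : CohB1.support (ClSub.quotMod (ptIdeal p hp)) ⊆ {p} := by
    have h := Groth.Agent.Lib.T2H6.ParShC.support_quotMod_subset (ptIdeal p hp)
    rwa [coe_support_ptIdeal] at h
  have hQpts : ∀ x ∈ CohB1.support (ClSub.quotMod (ptIdeal p hp)), IsClosed ({x} : Set X) := by
    intro x hx
    rw [Set.mem_singleton_iff.1 (hQsupp hx)]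
    exact hp
  have hq : Curv2.euler k X (ClSub.quotMod (ptIdeal p hp)) =
      (Module.finrank k (X.residueField p) : ℤ) := by
    rw [Groth.Agent.Lib.T2H6.PosD.euler_eq_finrank_of_closedPoints k _ hQc hQpts,
      finrank_HH_zero_quotMod_ptIdeal k p hp]
  change Curv2.euler k X (Coh.structureModule X) =
    Curv2.euler k X (ClSub.idealMod (ptIdeal p hp)) + Curv2.euler k X (ClSub.quotMod (ptIdeal p hp)) at hadd
  unfold Curv2.deg
  push_cast
  linarith

/-- the degrees of invertible modules form a subgroup of `ℤ` -/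
noncomputable def degSubgroup (hdim : topologicalKrullDim X = 1) : AddSubgroup ℤ where
  carrier := {n | ∃ L : X.Modules, PicF.IsInvertible L ∧ Curv2.deg k X L 1 = n}
  zero_mem' := ⟨Coh.structureModule X,
    Groth.Agent.Lib.Helper23.TensorUnit.isInvertible_structureModule X,
    Groth.Agent.Lib.T2H6.CurveDeg.deg_structureModule k⟩
  add_mem' := by
    rintro a b ⟨L, hL, rfl⟩ ⟨M, hM, rfl⟩
    exact ⟨CohB1.tensorMod L M, Groth.Agent.Lib.Helper23.SecTw.isInvertible_tensorMod hL hM,
      Groth.Agent.Lib.T2H6.PtTwistD.deg_tensor1 k hdim L M hL hM⟩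
  neg_mem' := by
    rintro a ⟨L, hL, rfl⟩
    exact ⟨Groth.Agent.Lib.T2H9.TensorInv.inv L, Groth.Agent.Lib.T2H9.TensorInv.isInvertible_inv L hL,
      Groth.Agent.Lib.T2H6.PtTwistD.deg_inv k hdim L hL⟩

theorem finrank_mem_degSubgroup (hdim : topologicalKrullDim X = 1) (p : X)
    (hp : IsClosed ({p} : Set X)) (hn : IsIntegrallyClosed (X.presheaf.stalk p)) :
    (Module.finrank k (X.residueField p) : ℤ) ∈ degSubgroup k hdim := by
  haveI := Groth.Agent.Lib.T2H6.CurveDeg.isLocallyNoetherian (X := X) k
  have hd1 := Groth.Agent.Lib.T2H9.DVRSmooth.ringKrullDim_stalk_eq_one_of_isClosed X hdim p hp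
  have hdvr := Groth.Agent.Lib.T2H9.RatPt.isDVR_of_normal_dim_one (X.presheaf.stalk p) hd1
  have hI := Groth.Agent.Lib.T2H6.PtTwistD.isInvertible_idealMod_ptIdeal X hdim p hp hdvr
  have h1 : -(Module.finrank k (X.residueField p) : ℤ) ∈ degSubgroup k hdim :=
    ⟨_, hI, deg_idealMod_ptIdeal k p hp⟩
  have h2 := (degSubgroup k hdim).neg_mem h1
  rwa [neg_neg] at h2

theorem gcd_mem_degSubgroup (hdim : topologicalKrullDim X = 1) (s : Finset X)
    (hcl : ∀ x ∈ s, IsClosed ({x} : Set X))
    (hn : ∀ x ∈ s, IsIntegrallyClosed (X.presheaf.stalk x)) :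
    ((s.gcd (fun x => Module.finrank k (X.residueField x)) : ℕ) : ℤ) ∈ degSubgroup k hdim := by
  classical
  induction s using Finset.induction_on with
  | empty =>
    rw [Finset.gcd_empty]
    exact (degSubgroup k hdim).zero_mem
  | insert a s ha ih =>
    rw [Finset.gcd_insert]
    have h1 := finrank_mem_degSubgroup k hdim a (hcl a (Finset.mem_insert_self a s))
      (hn a (Finset.mem_insert_self a s))
    have h2 := ih (fun x hx => hcl x (Finset.mem_insert_of_mem hx))
      (fun x hx => hn x (Finset.mem_insert_of_mem hx))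
    set m := Module.finrank k (X.residueField a) with hm
    set n := s.gcd (fun x => Module.finrank k (X.residueField x)) with hn'
    change ((Nat.gcd m n : ℕ) : ℤ) ∈ _
    rw [Nat.gcd_eq_gcd_ab]
    refine (degSubgroup k hdim).add_mem ?_ ?_
    · have := (degSubgroup k hdim).zsmul_mem h1 (Nat.gcdA m n)
      rwa [smul_eq_mul, mul_comm] at this
    · have := (degSubgroup k hdim).zsmul_mem h2 (Nat.gcdB m n)
      rwa [smul_eq_mul, mul_comm] at this

/-- **S6542**: `H^1(O) = 0` and normal closed points of coprime residue degrees force `X ≅ P^1` -/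
theorem exists_iso_of_gcd_one (hdim : topologicalKrullDim X = 1)
    (h1 : Subsingleton (Coh.HH X (Coh.structureModule X) 1))
    (s : Finset X) (hcl : ∀ x ∈ s, IsClosed ({x} : Set X))
    (hn : ∀ x ∈ s, IsIntegrallyClosed (X.presheaf.stalk x))
    (hgcd : s.gcd (fun x => Module.finrank k (X.residueField x)) = 1) :
    ∃ e : X ≅ CohB1.ProjSpace 1 k,
      e.hom ≫ CohB1.ProjSpace.toSpec 1 k = X ↘ (Spec (CommRingCat.of k)) := by
  have h := gcd_mem_degSubgroup k hdim s hcl hn
  rw [hgcd] at h
  obtain ⟨L, hL, hdeg⟩ := h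
  exact Groth.Agent.Lib.T2H9.P1Iso.exists_iso_of_h1_zero k hdim h1 L hL (by exact_mod_cast hdeg)

end Groth.Agent.Lib.T2H9.PtDeg
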