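import Mathlib
import Groth.Agent.Lib.T2H6AffPtsA

/-!
# Finite sets of points of codimension ≤ 1 lie in an affine open (helper6)

Stacks 09NN: reduction to the integral case through the irreducible components.
-/

set_option autoImplicit false
set_option linter.style.haveILetI false
universe u
open CategoryTheory CategoryTheory.Limits AlgebraicGeometry TopologicalSpace IsLocalRing

namespace Groth.Agent.Lib.T2H6.AffPts

open Groth.Agent.Lib.T2H6.AffImg

open Scheme.IdealSheafData in
/-- **Stacks 09NN** for separated schemes with finitely many irreducible components. -/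
theorem exists_affine_of_finite_components (Y : Scheme.{u}) [Y.IsSeparated]
    (hY : (irreducibleComponents Y).Finite) (s : Finset Y)
    (hs : ∀ x ∈ s, IsNoetherianRing (Y.presheaf.stalk x) ∧
      ringKrullDim (Y.presheaf.stalk x) ≤ 1) :
    ∃ U : Y.Opens, IsAffineOpen U ∧ ∀ x ∈ s, x ∈ U := by
  classical
  apply Groth.Agent.Lib.T2H6.AffGlue.exists_affine_of_components Y hY s
  intro Zs hZs
  set C : Closeds Y := ⟨Zs, isClosed_of_mem_irreducibleComponents Zs hZs⟩ with hC
  let W : Scheme.{u} := (vanishingIdeal C).subscheme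
  let i : W ⟶ Y := (vanishingIdeal C).subschemeι
  have hrange : Set.range i = Zs := Groth.Agent.Lib.T2H6.AffGlue.range_subschemeι_vanishingIdeal C
  haveI : IsReduced W := Groth.Agent.Lib.Helper10.RedInd.isReduced_subscheme_vanishingIdeal C
  haveI : IrreducibleSpace W := by
    let e : W ≃ₜ Set.range i := i.isClosedEmbedding.isEmbedding.toHomeomorph
    haveI : IrreducibleSpace (Set.range i) :=
      isIrreducible_iff_irreducibleSpace.1 (hrange ▸ hZs.1)
    rw [irreducibleSpace_def]
    have h1 := (IrreducibleSpace.isIrreducible_univ (Set.range i)).image e.symm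
      e.symm.continuous.continuousOn
    rwa [Set.image_univ_of_surjective e.symm.surjective] at h1
  haveI : IsIntegral W := isIntegral_of_irreducibleSpace_of_isReduced W
  haveI : W.IsSeparated := by
    have h : IsSeparated (i ≫ terminal.from Y) := inferInstance
    rw [terminal.comp_from] at h
    exact ⟨h⟩
  let sW : Finset W := s.preimage i i.isClosedEmbedding.injective.injOn
  obtain ⟨V, hV, hVs⟩ := exists_affine_of_isIntegral sW (fun w hw => by
    have hx := hs _ (Finset.mem_preimage.1 hw)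
    have hsurj := i.stalkMap_surjective w
    haveI := hx.1
    exact ⟨isNoetherianRing_of_surjective _ _ (i.stalkMap w).hom hsurj,
      (ringKrullDim_le_of_surjective _ hsurj).trans hx.2⟩)
  refine ⟨V, hV, fun t ht htZ => ?_⟩
  obtain ⟨w, rfl⟩ : t ∈ Set.range i := hrange ▸ htZ
  exact ⟨w, hVs w (Finset.mem_preimage.2 ht), rfl⟩

/-- **Stacks 09NN**. -/
theorem exists_affine_of_separated (X : Scheme.{u}) [X.IsSeparated]
    (hirr : ∀ U : X.Opens, IsCompact (U : Set X) → (irreducibleComponents (U : Set X)).Finite)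
    (s : Finset X)
    (hs : ∀ x ∈ s, IsNoetherianRing (X.presheaf.stalk x) ∧
      ringKrullDim (X.presheaf.stalk x) ≤ 1) :
    ∃ U : X.Opens, IsAffineOpen U ∧ ∀ x ∈ s, x ∈ U := by
  classical
  obtain ⟨X₀, hX₀c, hsX₀⟩ : ∃ X₀ : X.Opens, IsCompact (X₀ : Set X) ∧ ∀ x ∈ s, x ∈ X₀ := by
    have h : ∀ x : X, ∃ W : X.Opens, IsAffineOpen W ∧ x ∈ W := fun x => by
      obtain ⟨_, ⟨W, hW, rfl⟩, hx, -⟩ := X.isBasis_affineOpens.exists_subset_of_mem_open
        (Set.mem_univ x) isOpen_univ
      exact ⟨W, hW, hx⟩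
    choose W hW hxW using h
    refine ⟨⨆ x ∈ s, W x, ?_, fun x hx => ?_⟩
    · have : ((⨆ x ∈ s, W x : X.Opens) : Set X) = ⋃ x ∈ s, (W x : Set X) := by
        simp
      rw [this]
      exact s.isCompact_biUnion (fun x _ => (hW x).isCompact)
    · exact Opens.mem_iSup.2 ⟨x, Opens.mem_iSup.2 ⟨hx, hxW x⟩⟩
  let Y : Scheme.{u} := X₀.toScheme
  have hY : (irreducibleComponents Y).Finite := hirr X₀ hX₀c
  haveI : Y.IsSeparated := by
    have h : IsSeparated (X₀.ι ≫ terminal.from X) := inferInstance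
    rw [terminal.comp_from] at h
    exact ⟨h⟩
  let sY : Finset Y := s.preimage X₀.ι X₀.ι.isOpenEmbedding.injective.injOn
  obtain ⟨U, hU, hUs⟩ := exists_affine_of_finite_components Y hY sY (fun y hy => by
    have hx := hs _ (Finset.mem_preimage.1 hy)
    let e : X.presheaf.stalk (X₀.ι y) ≅ Y.presheaf.stalk y := asIso (X₀.ι.stalkMap y)
    haveI := hx.1
    exact ⟨isNoetherianRing_of_ringEquiv _ e.commRingCatIsoToRingEquiv,
      (ringKrullDim_eq_of_ringEquiv e.commRingCatIsoToRingEquiv) ▸ hx.2⟩)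
  refine ⟨X₀.ι ''ᵁ U, hU.image_of_isOpenImmersion X₀.ι, fun x hx => ?_⟩
  exact ⟨⟨x, hsX₀ x hx⟩, hUs _ (Finset.mem_preimage.2 hx), rfl⟩

end Groth.Agent.Lib.T2H6.AffPts
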