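import Mathlib

/-!
# Algebra for ample invertible modules on one-dimensional Noetherian schemes (helper6)

* `exists_forall_one_lt`: approximation for finitely many rank one discrete valuations on a ring (possibly with different
  supports): if each has an element of value `> 1`, some element has all values `> 1`.
* `exists_mul_pow_eq_of_isNilpotent`: lifting an "inverse up to nilpotents" to an exact inverse of a power, in a
  localization away from `g`.
* `exists_pow_inverse_lift`: in a Noetherian local ring `B` of dimension one, if `b / g^n` has an inverse in the maximal ideal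
  modulo every non-maximal prime, then some power of `b / g^n` has an inverse in `g B` (in `B_g`).

Namespace `Groth.Agent.Lib.T2H6.AmpCurve`.
-/

set_option autoImplicit false
universe u

namespace Groth.Agent.Lib.T2H6.AmpCurve

open WithZero

section approx

theorem exists_pow_gt_finset {ι : Type*} (T : Finset ι) (a b : ι → ℤᵐ⁰) (hb : ∀ i ∈ T, 1 < b i) :
    ∃ M : ℕ, ∀ m, M ≤ m → ∀ i ∈ T, a i < b i ^ m := by
  classical
  induction T using Finset.induction_on with
  | empty => exact ⟨0, by simp⟩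
  | insert j T hj ih =>
    obtain ⟨M₁, hM₁⟩ := ih (fun i hi => hb i (Finset.mem_insert_of_mem hi))
    have hbj := hb j (Finset.mem_insert_self _ _)
    obtain ⟨n, hn⟩ := MulArchimedean.arch (a j) hbj
    refine ⟨max M₁ (n + 1), fun m hm i hi => ?_⟩
    rcases Finset.mem_insert.mp hi with rfl | hi
    · have h1 : n < m := lt_of_lt_of_le (Nat.lt_succ_self n) (le_trans (le_max_right _ _) hm)
      exact lt_of_le_of_lt hn (pow_lt_pow_right₀ hbj h1)
    · exact hM₁ m (le_trans (le_max_left _ _) hm) i hi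

/-- **Approximation** for finitely many rank one discrete valuations on a commutative ring. -/
theorem exists_forall_one_lt {A : Type*} [CommRing A] {ι : Type*} (T : Finset ι)
    (w : ι → Valuation A ℤᵐ⁰) (h : ∀ i ∈ T, ∃ y : A, 1 < w i y) : ∃ x : A, ∀ i ∈ T, 1 < w i x := by
  classical
  induction T using Finset.induction_on with
  | empty => exact ⟨1, by simp⟩
  | insert i₀ T hi₀ ih =>
    obtain ⟨x, hx⟩ := ih (fun i hi => h i (Finset.mem_insert_of_mem hi))
    obtain ⟨y, hy⟩ := h i₀ (Finset.mem_insert_self _ _)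
    by_cases h1 : 1 < w i₀ x
    · refine ⟨x, fun i hi => ?_⟩
      rcases Finset.mem_insert.mp hi with rfl | hi
      · exact h1
      · exact hx i hi
    · obtain ⟨M, hM⟩ := exists_pow_gt_finset T (fun i => w i y) (fun i => w i x) hx
      have hM' := hM (M + 1) (Nat.le_succ M)
      refine ⟨x ^ (M + 1) + y, fun i hi => ?_⟩
      rcases Finset.mem_insert.mp hi with rfl | hi
      · have h2 : w i (x ^ (M + 1)) < w i y := by
          rw [map_pow]
          exact lt_of_le_of_lt (pow_le_one₀ zero_le (not_lt.mp h1)) hy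
        rw [Valuation.map_add_eq_of_lt_right _ h2]
        exact hy
      · have h2 : w i y < w i (x ^ (M + 1)) := by
          rw [map_pow]
          exact hM' i hi
        rw [Valuation.map_add_eq_of_lt_left _ h2, map_pow]
        exact one_lt_pow₀ (hx i hi) (Nat.succ_ne_zero M)

end approx


section nilp

variable {B : Type*} [CommRing B] (g : B) (K : Type*) [CommRing K] [Algebra B K] [IsLocalization.Away g K]

omit [IsLocalization.Away g K] in
/-- powers of a unit `1 + ν₂` (`ν₂` nilpotent) have bounded denominators. -/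
theorem exists_pow_mul_eq_algebraMap (ν₂ : K) (r : ℕ) (hr : ν₂ ^ r = 0) (y : B) (k : ℕ)
    (hy : ν₂ * algebraMap B K g ^ k = algebraMap B K y) (Q : ℕ) :
    ∃ yQ : B, algebraMap B K g ^ (k * r) * (ν₂ + 1) ^ Q = algebraMap B K yQ := by
  refine ⟨∑ m ∈ Finset.range (Q + 1), if m < r then g ^ (k * (r - m)) * y ^ m * (Q.choose m : B) else 0, ?_⟩
  rw [map_sum, add_pow, Finset.mul_sum]
  refine Finset.sum_congr rfl (fun m _ => ?_)
  by_cases hm : m < r
  · rw [if_pos hm, map_mul, map_mul, map_pow, map_pow, ← hy, map_natCast, one_pow, mul_one]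
    have h1 : k * r = k * (r - m) + k * m := by
      rw [← Nat.mul_add, Nat.sub_add_cancel hm.le]
    rw [h1, pow_add, mul_pow, ← pow_mul]
    ring
  · rw [if_neg hm, map_zero]
    have h1 : ν₂ ^ m = 0 := by
      obtain ⟨j, rfl⟩ := Nat.exists_eq_add_of_le (not_lt.mp hm)
      rw [pow_add, hr, zero_mul]
    rw [h1, zero_mul, zero_mul, mul_zero]

/-- **Lifting an inverse modulo nilpotents**: if `g c₀ b^P - g^(nP)` is nilpotent, then `(b/g^n)^(PQ)` has an inverse of the
form `g c'` in the localization away from `g`. -/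
theorem exists_mul_pow_eq_of_isNilpotent (c₀ b : B) (n P : ℕ)
    (hnil : IsNilpotent (g * c₀ * b ^ P - g ^ (n * P))) :
    ∃ (Q : ℕ) (c' : B), 1 ≤ Q ∧
      algebraMap B K (g * c' * b ^ (P * Q)) = algebraMap B K (g ^ (n * (P * Q))) := by
  have hγ : IsUnit (algebraMap B K g) := IsLocalization.Away.algebraMap_isUnit g
  set γ := algebraMap B K g with hγdef
  set α := algebraMap B K (g * c₀ * b ^ P) with hα
  set G := γ ^ (n * P) with hG
  have hGu : IsUnit G := hγ.pow _
  have hν : IsNilpotent (α - G) := by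
    have h1 : α - G = algebraMap B K (g * c₀ * b ^ P - g ^ (n * P)) := by
      rw [map_sub, map_pow]
    rw [h1]
    exact hnil.map _
  -- `α = G * u` with `u = 1 + nilpotent`
  obtain ⟨Ginv, hGinv⟩ := hGu.exists_right_inv
  have hν₁ : IsNilpotent ((α - G) * Ginv) := (Commute.all _ _).isNilpotent_mul_right hν
  have hu : IsUnit (1 + (α - G) * Ginv) := hν₁.isUnit_one_add
  have hαu : α * Ginv = 1 + (α - G) * Ginv := by
    rw [sub_mul, hGinv]; ring
  obtain ⟨v, hv⟩ := hu.exists_right_inv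
  -- `v = 1 + ν₂`
  have hν₂ : IsNilpotent (v - 1) := by
    have h1 : v - 1 = -((α - G) * Ginv) * v := by
      have : (1 + (α - G) * Ginv) * v = 1 := hv
      linear_combination this
    rw [h1]
    exact (Commute.all _ _).isNilpotent_mul_right hν₁.neg
  obtain ⟨r, hr⟩ := hν₂
  obtain ⟨⟨y, s⟩, hys⟩ := IsLocalization.surj (Submonoid.powers g) (v - 1)
  obtain ⟨k, hk⟩ := s.2
  have hy : (v - 1) * γ ^ k = algebraMap B K y := by
    rw [← hys, ← hk, map_pow]
  obtain ⟨yQ, hyQ⟩ := exists_pow_mul_eq_algebraMap g K (v - 1) r hr y k hy (k * r + 1)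
  rw [sub_add_cancel] at hyQ
  refine ⟨k * r + 1, c₀ ^ (k * r + 1) * yQ, Nat.le_add_left 1 _, ?_⟩
  have hαv : α * v = G := by
    have h1 : α * Ginv * v = 1 := by rw [hαu]; exact hv
    calc α * v = α * v * (G * Ginv) := by rw [hGinv, mul_one]
      _ = G * (α * Ginv * v) := by ring
      _ = G := by rw [h1, mul_one]
  have e1 : algebraMap B K (g * (c₀ ^ (k * r + 1) * yQ) * b ^ (P * (k * r + 1))) =
      (α * v) ^ (k * r + 1) := by
    rw [map_mul, map_mul, map_mul, map_pow, map_pow, ← hyQ, mul_pow, hα, map_mul, map_mul, map_pow, mul_pow,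
      mul_pow, ← pow_mul]
    rw [pow_succ γ (k * r)]
    ring
  rw [e1, hαv, hG, map_pow, ← pow_mul, ← mul_assoc]

end nilp


section crt

variable {B : Type u} [CommRing B]

/-- **Chinese remainder type gluing** of inverses modulo finitely many ideals which are pairwise comaximal up to powers of
`g`. -/
theorem exists_crt_lift (S : Finset (Ideal B)) (g b : B) (n k e : ℕ)
    (hpair : ∀ p ∈ S, ∃ ε : B, (∀ q ∈ S, q ≠ p → ε ∈ q) ∧ ε - g ^ k ∈ p)
    (hc : ∀ p ∈ S, ∃ c d : B, c * b - g ^ n ∈ p ∧ c ^ e = g * d) :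
    ∃ c : B, ∀ p ∈ S, g * c * b ^ (e * (k + 1)) - g ^ (n * (e * (k + 1))) ∈ p := by
  classical
  choose! ε hε using hpair
  choose! c d hcd using hc
  refine ⟨∑ p ∈ S, ε p * d p ^ (k + 1), fun p₀ hp₀ => ?_⟩
  rw [← Ideal.Quotient.eq]
  set π := Ideal.Quotient.mk p₀ with hπ
  have h1 : π (∑ p ∈ S, ε p * d p ^ (k + 1)) = π (g) ^ k * π (d p₀) ^ (k + 1) := by
    rw [map_sum, Finset.sum_eq_single p₀]
    · rw [map_mul, map_pow]
      congr 1
      rw [← map_pow]
      exact (Ideal.Quotient.eq).2 (hε p₀ hp₀).2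
    · intro q hq hqp
      have h2 : ε q ∈ p₀ := (hε q hq).1 p₀ hp₀ (Ne.symm hqp)
      rw [map_mul, (Ideal.Quotient.eq_zero_iff_mem).2 h2, zero_mul]
    · intro h; exact absurd hp₀ h
  have h2 : π (c p₀) * π b = π g ^ n := by
    rw [← map_mul, ← map_pow]
    exact (Ideal.Quotient.eq).2 (hcd p₀ hp₀).1
  have h3 : π (c p₀) ^ e = π g * π (d p₀) := by
    rw [← map_pow, (hcd p₀ hp₀).2, map_mul]
  rw [map_mul, map_mul, map_pow, map_pow, h1]
  calc π g * (π g ^ k * π (d p₀) ^ (k + 1)) * π b ^ (e * (k + 1))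
      = (π g * π (d p₀)) ^ (k + 1) * π b ^ (e * (k + 1)) := by rw [mul_pow, pow_succ' (π g) k]; ring
    _ = (π (c p₀) * π b) ^ (e * (k + 1)) := by rw [← h3, ← pow_mul, mul_pow]
    _ = π g ^ (n * (e * (k + 1))) := by rw [h2, ← pow_mul]

variable [IsLocalRing B] [IsNoetherianRing B] [Ring.KrullDimLE 1 B]

open IsLocalRing in
/-- **Inverses of powers in a one-dimensional Noetherian local ring**: if `b / g^n` has an inverse in the maximal ideal
modulo every non-maximal prime, then some power `(b / g^n)^M` has an inverse of the form `g c'` in `B_g`. -/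
theorem exists_pow_inverse_lift (g b : B) (n : ℕ) (hgm : g ∈ maximalIdeal B)
    (hg : ∀ p : Ideal B, p.IsPrime → g ∈ p → p = maximalIdeal B)
    (hne : ∃ p : Ideal B, p.IsPrime ∧ p ≠ maximalIdeal B)
    (H : ∀ p : Ideal B, p.IsPrime → p ≠ maximalIdeal B → ∃ c ∈ maximalIdeal B, c * b - g ^ n ∈ p) :
    ∃ (M : ℕ) (c' : B) (l : ℕ), 1 ≤ M ∧ g ^ l * (g * c' * b ^ M - g ^ (n * M)) = 0 := by
  classical
  -- the finite set of non-maximal primes
  let S : Finset (Ideal B) := (minimalPrimes.finite_of_isNoetherianRing B).toFinset.filter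
    (fun p => p ≠ maximalIdeal B)
  have hmemS : ∀ p : Ideal B, p ∈ S ↔ p ∈ minimalPrimes B ∧ p ≠ maximalIdeal B := by
    intro p
    simp [S]
  have hSprime : ∀ p ∈ S, p.IsPrime := fun p hp => ((hmemS p).1 hp).1.1.1
  have hSall : ∀ p : Ideal B, p.IsPrime → p ≠ maximalIdeal B → p ∈ S := by
    intro p hp hpm
    rcases Ring.krullDimLE_one_iff.1 ‹Ring.KrullDimLE 1 B› p hp with h | h
    · exact (hmemS p).2 ⟨h, hpm⟩
    · exact absurd (IsLocalRing.eq_maximalIdeal h) hpm
  have hSmin : ∀ p ∈ S, p ∈ minimalPrimes B := fun p hp => ((hmemS p).1 hp).1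
  -- `𝔪 ^ e ≤ (g)`
  have hrad : maximalIdeal B ≤ (Ideal.span {g} : Ideal B).radical := by
    rw [Ideal.radical_eq_sInf]
    refine le_sInf (fun r hr => ?_)
    have h1 : r = maximalIdeal B := hg r hr.2 (hr.1 (Ideal.subset_span rfl))
    rw [h1]
  obtain ⟨e₀, he₀⟩ := Ideal.exists_pow_le_of_le_radical_of_fg hrad (IsNoetherian.noetherian _)
  have he : maximalIdeal B ^ (e₀ + 1) ≤ Ideal.span {g} := (Ideal.pow_le_pow_right (Nat.le_succ e₀)).trans he₀
  -- pairwise comaximality up to powers of `g`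
  have hpair₀ : ∀ p ∈ S, ∃ (k : ℕ) (ε : B), (∀ q ∈ S, q ≠ p → ε ∈ q) ∧ ε - g ^ k ∈ p := by
    intro p hp
    have hgr : g ∈ ((S.erase p).inf id ⊔ p).radical := by
      rw [Ideal.radical_eq_sInf]
      refine Submodule.mem_sInf.2 (fun (r : Ideal B) hr => ?_)
      haveI : r.IsPrime := hr.2
      have hI : (S.erase p).inf id ≤ r := le_sup_left.trans hr.1
      have hpr : p ≤ r := le_sup_right.trans hr.1
      obtain ⟨q, hq, hqr⟩ := (Ideal.IsPrime.inf_le' (s := S.erase p) (f := id) hr.2).1 hI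
      have hqS : q ∈ S := Finset.mem_of_mem_erase hq
      have hqp : q ≠ p := Finset.ne_of_mem_erase hq
      have hrm : r = maximalIdeal B := by
        rcases Ring.krullDimLE_one_iff.1 ‹Ring.KrullDimLE 1 B› r hr.2 with h | h
        · exfalso
          have h1 : r ≤ q := h.2 ⟨hSprime q hqS, bot_le⟩ hqr
          have h2 : r ≤ p := h.2 ⟨hSprime p hp, bot_le⟩ hpr
          exact hqp ((le_antisymm hqr h1).trans (le_antisymm hpr h2).symm)
        · exact IsLocalRing.eq_maximalIdeal h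
      rw [hrm]
      exact hgm
    obtain ⟨k, hk⟩ := hgr
    obtain ⟨ε, hε, π, hπ, hsum⟩ := Submodule.mem_sup.1 hk
    refine ⟨k, ε, fun q hq hqp => ?_, ?_⟩
    · have h1 : (S.erase p).inf id ≤ id q := Finset.inf_le (Finset.mem_erase.2 ⟨hqp, hq⟩)
      exact h1 hε
    · have h2 : ε - g ^ k = -π := by rw [← hsum]; ring
      rw [h2]
      exact p.neg_mem hπ
  choose! kf εf hεf using hpair₀
  let k : ℕ := S.sup kf
  have hpair : ∀ p ∈ S, ∃ ε : B, (∀ q ∈ S, q ≠ p → ε ∈ q) ∧ ε - g ^ k ∈ p := by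
    intro p hp
    have hkp : kf p ≤ k := Finset.le_sup hp
    refine ⟨g ^ (k - kf p) * εf p, fun q hq hqp => Ideal.mul_mem_left _ _ ((hεf p hp).1 q hq hqp), ?_⟩
    have h1 : g ^ (k - kf p) * εf p - g ^ k = g ^ (k - kf p) * (εf p - g ^ kf p) := by
      rw [mul_sub, ← pow_add, Nat.sub_add_cancel hkp]
    rw [h1]
    exact Ideal.mul_mem_left _ _ (hεf p hp).2
  have hc : ∀ p ∈ S, ∃ c d : B, c * b - g ^ n ∈ p ∧ c ^ (e₀ + 1) = g * d := by
    intro p hp
    obtain ⟨c, hcm, hcb⟩ := H p (hSprime p hp) ((hmemS p).1 hp).2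
    have h1 : c ^ (e₀ + 1) ∈ Ideal.span {g} := he (Ideal.pow_mem_pow hcm _)
    obtain ⟨d, hd⟩ := Ideal.mem_span_singleton'.1 h1
    exact ⟨c, d, hcb, by rw [← hd, mul_comm]⟩
  obtain ⟨c, hcS⟩ := exists_crt_lift S g b n k (e₀ + 1) hpair hc
  set P := (e₀ + 1) * (k + 1) with hP
  have hP1 : 1 ≤ P := Nat.mul_pos (Nat.succ_pos _) (Nat.succ_pos _)
  have hnil : IsNilpotent (g * c * b ^ P - g ^ (n * P)) := by
    rw [nilpotent_iff_mem_prime]
    intro J hJ
    by_cases hJm : J = maximalIdeal B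
    · obtain ⟨p₁, hp₁, hp₁m⟩ := hne
      have h1 := hcS p₁ (hSall p₁ hp₁ hp₁m)
      rw [hJm]
      exact IsLocalRing.le_maximalIdeal hp₁.ne_top h1
    · exact hcS J (hSall J hJ hJm)
  obtain ⟨Q, c', hQ, hQeq⟩ := exists_mul_pow_eq_of_isNilpotent g (Localization.Away g) c b n P hnil
  obtain ⟨⟨_, l, rfl⟩, hl⟩ := (IsLocalization.eq_iff_exists (Submonoid.powers g) (Localization.Away g)).1 hQeq
  refine ⟨P * Q, c', l, Nat.mul_pos hP1 hQ, ?_⟩
  rw [mul_sub]
  exact sub_eq_zero.2 hl

end crt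

end Groth.Agent.Lib.T2H6.AmpCurve
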