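import Mathlib

/-!
# Ample invertible modules on one-dimensional Noetherian separated schemes, algebra part B (helper6)

In the fraction field of a one-dimensional local domain `B'`: if `φ` has an inverse in the maximal ideal of `B'`, then so
has `ε φ ^ N` for every nonzero `ε` and all large `N`.
-/

set_option autoImplicit false
universe u

namespace Groth.Agent.Lib.T2H6.AmpCurve

open IsLocalRing in
theorem exists_inverse_mul_pow (B' K : Type*) [CommRing B'] [IsDomain B'] [IsLocalRing B'] [Ring.KrullDimLE 1 B']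
    [Field K] [Algebra B' K] [IsFractionRing B' K]
    (γ : B') (hγ : γ ∈ maximalIdeal B') (φ ε : K) (hγφ : algebraMap B' K γ * φ = 1) (hε : ε ≠ 0) :
    ∃ j : ℕ, ∀ N, j ≤ N → ∃ γ' ∈ maximalIdeal B', algebraMap B' K γ' * (ε * φ ^ N) = 1 := by
  obtain ⟨d, u, hu, hdu⟩ := IsFractionRing.div_surjective (A := B') ε⁻¹
  have hu0 : u ≠ 0 := nonZeroDivisors.ne_zero hu
  have hιu : algebraMap B' K u ≠ 0 := by
    intro h
    exact hu0 ((IsFractionRing.injective B' K) (by rw [h, map_zero]))
  have hεd : ε * algebraMap B' K d = algebraMap B' K u := by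
    have h1 : algebraMap B' K d = ε⁻¹ * algebraMap B' K u := by
      rw [← hdu, div_mul_cancel₀ _ hιu]
    rw [h1, ← mul_assoc, mul_inv_cancel₀ hε, one_mul]
  have hrad : γ ∈ (Ideal.span {u} : Ideal B').radical := by
    rw [Ideal.radical_eq_sInf]
    refine Submodule.mem_sInf.2 (fun (r : Ideal B') hr => ?_)
    have hur : u ∈ r := hr.1 (Ideal.subset_span rfl)
    rcases Ring.krullDimLE_one_iff.1 ‹Ring.KrullDimLE 1 B'› r hr.2 with h | h
    · exfalso
      rw [IsDomain.minimalPrimes_eq_singleton_bot, Set.mem_singleton_iff] at h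
      rw [h] at hur
      exact hu0 hur
    · rw [IsLocalRing.eq_maximalIdeal h]
      exact hγ
  obtain ⟨j, hj⟩ := hrad
  obtain ⟨a, ha⟩ := Ideal.mem_span_singleton'.1 hj
  refine ⟨j + 1, fun N hN => ⟨γ ^ (N - j) * a * d, ?_, ?_⟩⟩
  · have h1 : γ ^ (N - j) ∈ maximalIdeal B' :=
      Ideal.pow_mem_of_mem _ hγ _ (by omega)
    rw [mul_assoc]
    exact Ideal.mul_mem_right _ _ h1
  · have h2 : algebraMap B' K γ ^ j = algebraMap B' K a * algebraMap B' K u := by
      rw [← map_pow, ← ha, map_mul]
    calc algebraMap B' K (γ ^ (N - j) * a * d) * (ε * φ ^ N)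
        = algebraMap B' K γ ^ (N - j) * algebraMap B' K a * (ε * algebraMap B' K d) * φ ^ N := by
          rw [map_mul, map_mul, map_pow]; ring
      _ = algebraMap B' K γ ^ (N - j) * algebraMap B' K γ ^ j * φ ^ N := by rw [hεd, h2]; ring
      _ = (algebraMap B' K γ * φ) ^ N := by
          rw [← pow_add, Nat.sub_add_cancel (by omega), mul_pow]
      _ = 1 := by rw [hγφ, one_pow]

end Groth.Agent.Lib.T2H6.AmpCurve
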