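import Mathlib
import Groth.Agent.Lib.T2H6AffPtsA
import Groth.Agent.S1640
set_option backward.isDefEq.respectTransparency.types false

/-!
# Sections with prescribed poles at finitely many codimension one points (helper6)

`X` integral separated, `U` a nonempty affine open whose complement consists of finitely many points with Noetherian
one-dimensional local rings.  Then there is `f₀ ∈ Γ(X, U)` whose inverse (in the function field) lies in the maximal ideal
of every `𝒪_{X,x}`, `x ∉ U` (Stacks 09NX, via the algebra lemma S1640).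
-/

set_option autoImplicit false
set_option linter.style.haveILetI false
set_option linter.unusedVariables false
universe u
open CategoryTheory CategoryTheory.Limits AlgebraicGeometry TopologicalSpace Opposite

namespace Groth.Agent.Lib.T2H6.GenInv

open Groth.Agent.Lib.T2H6.AffPts Groth.Agent.Lib.T2H6.AffImg

variable {X : Scheme.{u}} [IsIntegral X]

/-- the sections over a nonempty open as a subring of the function field. -/
noncomputable def secSubring (U : X.Opens) [Nonempty U] : Subring X.functionField :=
  (X.germToFunctionField U).hom.range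

/-- the isomorphism from the sections to their image in the function field. -/
noncomputable def toSecSubring (U : X.Opens) [Nonempty U] :
    Γ(X, U) ⟶ CommRingCat.of (secSubring U) :=
  CommRingCat.ofHom (X.germToFunctionField U).hom.rangeRestrict

theorem toSecSubring_bijective (U : X.Opens) [Nonempty U] : Function.Bijective (toSecSubring U) := by
  constructor
  · intro a b hab
    apply X.germToFunctionField_injective U
    exact congrArg Subtype.val hab
  · exact (X.germToFunctionField U).hom.rangeRestrict_surjective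

theorem isFractionRing_secSubring (U : X.Opens) [Nonempty U] (hU : IsAffineOpen U) :
    IsFractionRing (secSubring U) X.functionField := by
  haveI := functionField_isFractionRing_of_isAffineOpen X U hU
  refine IsFractionRing.of_field (R := secSubring U) (K := X.functionField) (fun z => ?_)
  obtain ⟨a, b, _, hab⟩ := IsFractionRing.div_surjective (A := Γ(X, U)) z
  exact ⟨⟨_, a, rfl⟩, ⟨_, b, rfl⟩, hab.symm⟩

/-- **separatedness**: sections over an affine open and the local ring at a codimension one point outside of it generate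
the function field. -/
theorem secSubring_sup_stalkSubring_eq_top [X.IsSeparated] (U : X.Opens) [Nonempty U] (hU : IsAffineOpen U)
    (x : X) (hx : x ∉ U) [Ring.KrullDimLE 1 (X.presheaf.stalk x)] :
    secSubring U ⊔ stalkSubring x = ⊤ := by
  by_contra hB
  set B := secSubring U ⊔ stalkSubring x with hBdef
  have hUB : secSubring U ≤ B := le_sup_left
  have hxB : stalkSubring x ≤ B := le_sup_right
  let ι : Spec X.functionField ⟶ Spec (CommRingCat.of B) :=
    Spec.map (CommRingCat.ofHom B.subtype : CommRingCat.of B ⟶ X.functionField)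
  let gU : Spec (CommRingCat.of B) ⟶ X :=
    Spec.map (toSecSubring U ≫ CommRingCat.ofHom (Subring.inclusion hUB)) ≫ hU.fromSpec
  let gx := Spec.map (CommRingCat.ofHom (Subring.inclusion hxB)) ≫ fromStalkSubring x
  have hιx : ι ≫ gx = X.fromSpecStalk (genericPoint X) := by
    rw [← subtype_fromStalkSubring x, ← Category.assoc, ← Spec.map_comp]
    rfl
  have hgU : genericPoint X ∈ U :=
    ((genericPoint_spec X).mem_open_set_iff U.isOpen).mpr (by simpa using ‹Nonempty U›)
  have hιU : ι ≫ gU = X.fromSpecStalk (genericPoint X) := by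
    rw [← hU.fromSpecStalk_eq_fromSpecStalk hgU, IsAffineOpen.fromSpecStalk, ← Category.assoc,
      ← Spec.map_comp]
    rfl
  haveI : IsDominant ι := isDominant_SpecMap_of_injective _ Subtype.val_injective
  have heq : gU = gx := ext_of_isDominant_of_isSeparated (terminal.from X)
    (terminal.hom_ext _ _) ι (hιU.trans hιx.symm)
  have hBf : ¬ IsField B := by
    intro hf
    apply hB
    rw [eq_top_iff]
    intro z _
    obtain ⟨a, b, hb, hab⟩ := IsFractionRing.div_surjective (A := stalkSubring x) z
    have hb0 : (b : X.functionField) ≠ 0 := by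
      have := nonZeroDivisors.ne_zero hb
      exact fun h => this (Subtype.ext h)
    have hb0' : Subring.inclusion hxB b ≠ 0 := fun h => hb0 (congrArg Subtype.val h)
    obtain ⟨c, hc⟩ := hf.mul_inv_cancel hb0'
    have hc' : (b : X.functionField) * c = 1 := congrArg Subtype.val hc
    have hz : z = (Subring.inclusion hxB a * c : B) := by
      have : (a : X.functionField) / b = z := hab
      rw [← this]
      push_cast
      rw [div_eq_iff hb0, mul_assoc, mul_comm (c : X.functionField), hc', mul_one]
      rfl
    rw [hz]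
    exact (Subring.inclusion hxB a * c).2
  obtain ⟨𝔫, h𝔫0, h𝔫p⟩ := Ring.not_isField_iff_exists_prime.1 hBf
  let pt : Spec (CommRingCat.of B) := ⟨𝔫, h𝔫p⟩
  have h1 : gx pt = x := fromStalkSubring_comp_apply x B hxB pt h𝔫0
  have h2 : gU pt ∈ (U : Set X) := by
    rw [← hU.range_fromSpec]
    exact ⟨_, rfl⟩
  rw [heq, h1] at h2
  exact hx h2


/-- **the key section**: `f₀ ∈ Γ(X, U)` whose inverse lies in the maximal ideal of every local ring outside of `U`. -/
theorem exists_section [X.IsSeparated] (U : X.Opens) [Nonempty U] (hU : IsAffineOpen U)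
    (hfin : ((U : Set X)ᶜ).Finite)
    (hloc : ∀ x : X, x ∉ U → IsNoetherianRing (X.presheaf.stalk x) ∧ ringKrullDim (X.presheaf.stalk x) = 1) :
    ∃ f₀ : Γ(X, U), ∀ x : X, x ∉ U → ∃ γ : X.presheaf.stalk x, γ ∈ IsLocalRing.maximalIdeal (X.presheaf.stalk x) ∧
      algebraMap (X.presheaf.stalk x) X.functionField γ * X.germToFunctionField U f₀ = 1 := by
  classical
  let s : Finset X := hfin.toFinset
  have hs : ∀ x, x ∈ s ↔ x ∉ U := fun x => by simp [s]
  let pts : Fin s.card → X := fun i => (s.equivFin.symm i).1
  have hmem : ∀ i, pts i ∉ U := fun i => (hs _).1 (s.equivFin.symm i).2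
  let B : Fin s.card → Subring X.functionField := fun i => stalkSubring (pts i)
  haveI : ∀ i, IsNoetherianRing (X.presheaf.stalk (pts i)) := fun i => (hloc _ (hmem i)).1
  haveI : ∀ i, IsNoetherianRing (B i) := fun i =>
    isNoetherianRing_of_ringEquiv _ (stalkEquiv (pts i))
  haveI : ∀ i, IsFractionRing (B i) X.functionField := fun i =>
    inferInstanceAs (IsFractionRing (stalkSubring (pts i)) X.functionField)
  haveI : ∀ i, Ring.KrullDimLE 1 (X.presheaf.stalk (pts i)) := fun i =>
    Ring.krullDimLE_iff.2 (hloc _ (hmem i)).2.le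
  have hdimB : ∀ i, ringKrullDim (B i) = 1 := fun i => by
    rw [← ringKrullDim_eq_of_ringEquiv (stalkEquiv (pts i))]; exact (hloc _ (hmem i)).2
  have hsl : ∀ i, Finite (MaximalSpectrum (B i)) := fun i =>
    inferInstanceAs (Finite (MaximalSpectrum (stalkSubring (pts i))))
  haveI : IsFractionRing (secSubring U) X.functionField := isFractionRing_secSubring U hU
  have hgen : ∀ i, secSubring U ⊔ B i = ⊤ := fun i =>
    secSubring_sup_stalkSubring_eq_top U hU (pts i) (hmem i)
  obtain ⟨f, hfA, hf0, hf⟩ := Groth.Agent.S1640.result X.functionField (secSubring U) s.card B hdimB hsl hgen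
  obtain ⟨f₀, rfl⟩ := hfA
  have key : ∀ i, ∃ γ : X.presheaf.stalk (pts i), γ ∈ IsLocalRing.maximalIdeal (X.presheaf.stalk (pts i)) ∧
      algebraMap (X.presheaf.stalk (pts i)) X.functionField γ * X.germToFunctionField U f₀ = 1 := by
    intro i
    obtain ⟨hfi, hjac⟩ := hf i
    have hjac' : (⟨_, hfi⟩ : stalkSubring (pts i)) ∈ IsLocalRing.maximalIdeal (stalkSubring (pts i)) := by
      have := IsLocalRing.jacobson_eq_maximalIdeal (R := stalkSubring (pts i)) ⊥ bot_ne_top
      rw [← this]
      exact hjac
    refine ⟨(stalkEquiv (pts i)).symm ⟨_, hfi⟩, ?_, ?_⟩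
    · have hnu : ¬ IsUnit (⟨_, hfi⟩ : stalkSubring (pts i)) := (IsLocalRing.mem_maximalIdeal _).1 hjac'
      rw [IsLocalRing.mem_maximalIdeal]
      intro hu
      apply hnu
      have := hu.map (stalkEquiv (pts i))
      rwa [RingEquiv.apply_symm_apply] at this
    · have h1 : algebraMap (X.presheaf.stalk (pts i)) X.functionField
          ((stalkEquiv (pts i)).symm ⟨_, hfi⟩) =
          ((stalkEquiv (pts i)) ((stalkEquiv (pts i)).symm ⟨_, hfi⟩) : X.functionField) := rfl
      rw [h1, RingEquiv.apply_symm_apply]
      exact inv_mul_cancel₀ hf0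
  refine ⟨f₀, fun x hx => ?_⟩
  have hxs : x ∈ s := (hs x).2 hx
  have hpx : pts (s.equivFin ⟨x, hxs⟩) = x := by simp [pts]
  have := key (s.equivFin ⟨x, hxs⟩)
  rw [hpx] at this
  exact this


/-- a proper generization of a point of codimension `≤ 1` is the generic point. -/
theorem eq_or_eq_genericPoint_of_specializes (x y : X) [Ring.KrullDimLE 1 (X.presheaf.stalk x)]
    (h : y ⤳ x) : y = x ∨ y = genericPoint X := by
  obtain ⟨w, hw⟩ := exists_fromSpecStalk_eq x y h
  by_cases hw0 : w.asIdeal = ⊥
  · right
    rw [← hw]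
    exact fromSpecStalk_eq_genericPoint x w hw0
  · left
    have h1 : w.asIdeal.IsMaximal := Ideal.IsPrime.isMaximal_of_ne_bot w.2 hw0
    have h2 : w = IsLocalRing.closedPoint (X.presheaf.stalk x) :=
      PrimeSpectrum.ext (IsLocalRing.eq_maximalIdeal h1)
    rw [← hw, h2, Scheme.fromSpecStalk_closedPoint]

open Groth.Agent.Lib.Helper6 in
/-- **spreading out** the local equation at a point outside of `U`. -/
theorem exists_local_equation (U : X.Opens) [Nonempty U] (f₀ : Γ(X, U)) (hfin : ((U : Set X)ᶜ).Finite)
    (x : X) (hx : x ∉ U) [Ring.KrullDimLE 1 (X.presheaf.stalk x)]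
    (γ : X.presheaf.stalk x) (hγ : γ ∈ IsLocalRing.maximalIdeal (X.presheaf.stalk x))
    (hγf : algebraMap (X.presheaf.stalk x) X.functionField γ * X.germToFunctionField U f₀ = 1) :
    ∃ (V : X.Opens) (g : Γ(X, V)), x ∈ V ∧ (∀ y ∈ V, y ∉ U → y = x) ∧ X.basicOpen g = U ⊓ V ∧
      ∀ (W : X.Opens) (hWU : W ≤ U) (hWV : W ≤ V), (W : Set X).Nonempty →
        resf hWV g * resf hWU f₀ = 1 := by
  classical
  have hgU : genericPoint X ∈ U :=
    ((genericPoint_spec X).mem_open_set_iff U.isOpen).mpr (by simpa using ‹Nonempty U›)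
  obtain ⟨V₀, hxV₀, g₀, hg₀⟩ := X.presheaf.exists_germ_eq γ
  -- the closed set of the closures of the other bad points
  let C : Set X := ⋃ y ∈ ((U : Set X)ᶜ \ {x}), closure {y}
  have hC : IsClosed C := (hfin.subset Set.diff_subset).isClosed_biUnion (fun _ _ => isClosed_closure)
  have hxC : x ∉ C := by
    intro h
    obtain ⟨y, hy, hxy⟩ := Set.mem_iUnion₂.1 h
    have hyx : y ⤳ x := specializes_iff_mem_closure.2 hxy
    rcases eq_or_eq_genericPoint_of_specializes x y hyx with h1 | h1
    · exact hy.2 h1
    · exact hy.1 (h1 ▸ hgU)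
  let V : X.Opens := V₀ ⊓ ⟨Cᶜ, hC.isOpen_compl⟩
  have hxV : x ∈ V := ⟨hxV₀, hxC⟩
  have hVV₀ : V ≤ V₀ := inf_le_left
  let g : Γ(X, V) := resf hVV₀ g₀
  have hg : X.presheaf.germ V x hxV g = γ := by
    rw [← hg₀]
    exact X.presheaf.germ_res_apply (homOfLE hVV₀) x hxV g₀
  have hV : ∀ y ∈ V, y ∉ U → y = x := by
    intro y hyV hyU
    by_contra hne
    exact hyV.2 (Set.mem_iUnion₂.2 ⟨y, ⟨hyU, hne⟩, subset_closure rfl⟩)
  have hmul : ∀ (W : X.Opens) (hWU : W ≤ U) (hWV : W ≤ V), (W : Set X).Nonempty →
      resf hWV g * resf hWU f₀ = 1 := by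
    intro W hWU hWV hW
    haveI : Nonempty W := hW.to_subtype
    haveI : Nonempty V := ⟨⟨x, hxV⟩⟩
    apply X.germToFunctionField_injective W
    rw [map_mul, map_one]
    have e1 : X.germToFunctionField W (resf hWU f₀) = X.germToFunctionField U f₀ :=
      X.presheaf.germ_res_apply (homOfLE hWU) _ _ f₀
    have e2 : X.germToFunctionField W (resf hWV g) = X.germToFunctionField V g :=
      X.presheaf.germ_res_apply (homOfLE hWV) _ _ g
    have e3 : X.germToFunctionField V g = algebraMap (X.presheaf.stalk x) X.functionField γ := by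
      rw [← hg]
      exact (Scheme.algebraMap_germ_eq_germToFunctionField X hxV g).symm
    rw [e1, e2, e3]
    exact hγf
  refine ⟨V, g, hxV, hV, ?_, hmul⟩
  apply le_antisymm
  · intro y hy
    have hyV : y ∈ V := X.basicOpen_le g hy
    refine ⟨?_, hyV⟩
    by_contra hyU
    have hyx := hV y hyV hyU
    subst hyx
    have hu : IsUnit (X.presheaf.germ V y hxV g) := (X.mem_basicOpen g y hxV).1 hy
    rw [hg] at hu
    exact (IsLocalRing.mem_maximalIdeal _).1 hγ hu
  · intro y hy
    have hW : ((U ⊓ V : X.Opens) : Set X).Nonempty := ⟨y, hy⟩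
    have h1 := hmul (U ⊓ V) inf_le_left inf_le_right hW
    have hu : IsUnit (resf (inf_le_right : U ⊓ V ≤ V) g) := IsUnit.of_mul_eq_one _ h1
    have h2 := X.basicOpen_of_isUnit hu
    rw [X.basicOpen_res] at h2
    have : y ∈ (U ⊓ V) ⊓ X.basicOpen g := by rw [h2]; exact hy
    exact this.2

end Groth.Agent.Lib.T2H6.GenInv
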