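import Mathlib
import Groth.Agent.Lib.T2H6GenInvB
import Groth.Agent.Lib.T2H6AmpCurveB
set_option backward.isDefEq.respectTransparency.types false

/-!
# Ample invertible modules on one-dimensional Noetherian separated schemes, part C (helper6)

Sections of `𝒪_X` over an affine open `U` with "poles" at all the points outside of `U` of an integral closed subscheme
`ι : Z ⟶ X`.
-/

set_option autoImplicit false
set_option linter.style.haveILetI false
set_option linter.unusedVariables false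
set_option linter.unusedSectionVars false
universe u
open CategoryTheory CategoryTheory.Limits AlgebraicGeometry TopologicalSpace Opposite

namespace Groth.Agent.Lib.T2H6.AmpCurve

open Groth.Agent.Lib.T2H6.AffPts Groth.Agent.Lib.T2H6.AffImg Groth.Agent.Lib.T2H6.GenInv Groth.Agent.Lib.Helper6

variable {X Z : Scheme.{u}} (ι : Z ⟶ X) [IsClosedImmersion ι] [IsIntegral Z]

/-- `f ∈ Γ(X, U)` restricted to the integral closed subscheme `Z` has, at every point of `Z` outside of `U`, an inverse in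
the maximal ideal of the local ring. -/
def HasPoles (U : X.Opens) [Nonempty (ι ⁻¹ᵁ U)] (f : Γ(X, U)) : Prop :=
  ∀ z : Z, z ∉ ι ⁻¹ᵁ U → ∃ γ : Z.presheaf.stalk z, γ ∈ IsLocalRing.maximalIdeal (Z.presheaf.stalk z) ∧
    algebraMap (Z.presheaf.stalk z) Z.functionField γ * Z.germToFunctionField (ι ⁻¹ᵁ U) (ι.app U f) = 1

theorem finite_compl_preimage (U : X.Opens) (hfin : ((U : Set X)ᶜ).Finite) :
    (((ι ⁻¹ᵁ U : Z.Opens) : Set Z)ᶜ).Finite := by
  have h : ((ι ⁻¹ᵁ U : Z.Opens) : Set Z)ᶜ = ι ⁻¹' ((U : Set X)ᶜ) := rfl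
  rw [h]
  exact hfin.preimage ι.isClosedEmbedding.injective.injOn

theorem exists_hasPoles [X.IsSeparated] (U : X.Opens) (hU : IsAffineOpen U) [Nonempty (ι ⁻¹ᵁ U)]
    (hfin : ((U : Set X)ᶜ).Finite)
    (hloc : ∀ x : X, x ∉ U → IsNoetherianRing (X.presheaf.stalk x) ∧ ringKrullDim (X.presheaf.stalk x) ≤ 1) :
    ∃ f : Γ(X, U), HasPoles ι U f := by
  haveI : Z.IsSeparated := by
    have h : IsSeparated (ι ≫ terminal.from X) := inferInstance
    rw [terminal.comp_from] at h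
    exact ⟨h⟩
  have hUZ : IsAffineOpen (ι ⁻¹ᵁ U) := hU.preimage ι
  have hfinZ := finite_compl_preimage ι U hfin
  have hgen : genericPoint Z ∈ ι ⁻¹ᵁ U :=
    ((genericPoint_spec Z).mem_open_set_iff (ι ⁻¹ᵁ U).isOpen).mpr (by simpa using ‹Nonempty (ι ⁻¹ᵁ U)›)
  have hlocZ : ∀ z : Z, z ∉ ι ⁻¹ᵁ U → IsNoetherianRing (Z.presheaf.stalk z) ∧
      ringKrullDim (Z.presheaf.stalk z) = 1 := by
    intro z hz
    have hx := hloc (ι z) hz
    have hsurj := ι.stalkMap_surjective z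
    haveI := hx.1
    refine ⟨isNoetherianRing_of_surjective _ _ (ι.stalkMap z).hom hsurj, ?_⟩
    have h1 : ringKrullDim (Z.presheaf.stalk z) ≤ 1 := (ringKrullDim_le_of_surjective _ hsurj).trans hx.2
    by_contra hne
    have h0 := le_zero_of_le_one_of_ne _ h1 hne
    have := eq_genericPoint_of_krullDimLE_zero z h0
    exact hz (this ▸ hgen)
  obtain ⟨f, hf⟩ := exists_section (ι ⁻¹ᵁ U) hUZ hfinZ hlocZ
  obtain ⟨f', rfl⟩ := ι.app_surjective U hU f
  exact ⟨f', hf⟩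

theorem HasPoles.mul_pow_add (U : X.Opens) [Nonempty (ι ⁻¹ᵁ U)] (hfin : ((U : Set X)ᶜ).Finite)
    (hloc : ∀ x : X, x ∉ U → ringKrullDim (X.presheaf.stalk x) ≤ 1)
    (f' e : Γ(X, U)) (hf' : HasPoles ι U f') (he : ι.app U e ≠ 0) :
    ∃ j : ℕ, ∀ N, j ≤ N → ∀ r : Γ(X, U), ι.app U r = 0 → HasPoles ι U (e * f' ^ N + r) := by
  classical
  have hfinZ := finite_compl_preimage ι U hfin
  have key : ∀ z : Z, z ∉ ι ⁻¹ᵁ U → ∃ j : ℕ, ∀ N, j ≤ N →
      ∃ γ' ∈ IsLocalRing.maximalIdeal (Z.presheaf.stalk z),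
        algebraMap (Z.presheaf.stalk z) Z.functionField γ' *
          (Z.germToFunctionField (ι ⁻¹ᵁ U) (ι.app U e) * Z.germToFunctionField (ι ⁻¹ᵁ U) (ι.app U f') ^ N) = 1 := by
    intro z hz
    haveI : Ring.KrullDimLE 1 (Z.presheaf.stalk z) :=
      Ring.krullDimLE_iff.2 ((ringKrullDim_le_of_surjective _ (ι.stalkMap_surjective z)).trans (hloc _ hz))
    obtain ⟨γ, hγ, hγf⟩ := hf' z hz
    refine exists_inverse_mul_pow (Z.presheaf.stalk z) Z.functionField γ hγ _ _ hγf ?_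
    intro h
    exact he (Z.germToFunctionField_injective _ (h.trans (map_zero _).symm))
  choose! j hj using key
  refine ⟨hfinZ.toFinset.sup j, fun N hN r hr z hz => ?_⟩
  have hzj : j z ≤ N := (Finset.le_sup (hfinZ.mem_toFinset.2 hz)).trans hN
  obtain ⟨γ', hγ', h1⟩ := hj z hz N hzj
  refine ⟨γ', hγ', ?_⟩
  rw [map_add, hr, add_zero, map_mul, map_pow, map_mul, map_pow]
  exact h1

theorem HasPoles.exists_local (U : X.Opens) [Nonempty (ι ⁻¹ᵁ U)] (f₀ : Γ(X, U)) (hf₀ : HasPoles ι U f₀)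
    (z : Z) (hz : z ∉ ι ⁻¹ᵁ U) :
    ∃ (W : X.Opens) (c : Γ(X, W)), ι z ∈ W ∧ ι z ∉ X.basicOpen c ∧
      ι (genericPoint Z) ∉ X.basicOpen
        (resf (inf_le_left : W ⊓ U ≤ W) c * resf (inf_le_right : W ⊓ U ≤ U) f₀ - 1) := by
  obtain ⟨γ, hγ, hγf⟩ := hf₀ z hz
  obtain ⟨c₀, hc₀⟩ := ι.stalkMap_surjective z γ
  obtain ⟨W, hxW, c, hc⟩ := X.presheaf.exists_germ_eq c₀
  refine ⟨W, c, hxW, ?_, ?_⟩
  · intro h
    have hu : IsUnit (X.presheaf.germ W (ι z) hxW c) := (X.mem_basicOpen c (ι z) hxW).1 h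
    rw [hc] at hu
    have hu2 : IsUnit (ι.stalkMap z c₀) := hu.map (ι.stalkMap z).hom
    rw [hc₀] at hu2
    exact (IsLocalRing.mem_maximalIdeal _).1 hγ hu2
  · intro h
    set s := resf (inf_le_left : W ⊓ U ≤ W) c * resf (inf_le_right : W ⊓ U ≤ U) f₀ - 1 with hs
    have hξ : genericPoint Z ∈ ι ⁻¹ᵁ (X.basicOpen s) := h
    rw [Scheme.preimage_basicOpen] at hξ
    have hξW : genericPoint Z ∈ ι ⁻¹ᵁ (W ⊓ U) := Z.basicOpen_le _ hξ
    haveI : Nonempty (ι ⁻¹ᵁ (W ⊓ U)) := ⟨⟨_, hξW⟩⟩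
    haveI : Nonempty (ι ⁻¹ᵁ W) := ⟨⟨z, hxW⟩⟩
    have hnat : ∀ {A B : X.Opens} (hBA : B ≤ A) (t : Γ(X, A)),
        ι.app B (resf hBA t) = Z.presheaf.map ((Opens.map ι.base).map (homOfLE hBA)).op (ι.app A t) := by
      intro A B hBA t
      exact congr($(ι.naturality (homOfLE hBA).op) t)
    have h0 : ι.app (W ⊓ U) s = 0 := by
      apply Z.germToFunctionField_injective (ι ⁻¹ᵁ (W ⊓ U))
      rw [map_zero, hs, map_sub, map_sub, map_mul, map_mul, map_one, map_one, hnat, hnat]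
      have e1 : Z.germToFunctionField (ι ⁻¹ᵁ (W ⊓ U))
          (Z.presheaf.map ((Opens.map ι.base).map (homOfLE (inf_le_left : W ⊓ U ≤ W))).op (ι.app W c)) =
          Z.germToFunctionField (ι ⁻¹ᵁ W) (ι.app W c) :=
        Z.presheaf.germ_res_apply ((Opens.map ι.base).map (homOfLE (inf_le_left : W ⊓ U ≤ W))) _ _ _
      have e2 : Z.germToFunctionField (ι ⁻¹ᵁ (W ⊓ U))
          (Z.presheaf.map ((Opens.map ι.base).map (homOfLE (inf_le_right : W ⊓ U ≤ U))).op (ι.app U f₀)) =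
          Z.germToFunctionField (ι ⁻¹ᵁ U) (ι.app U f₀) :=
        Z.presheaf.germ_res_apply ((Opens.map ι.base).map (homOfLE (inf_le_right : W ⊓ U ≤ U))) _ _ _
      have e3 : Z.germToFunctionField (ι ⁻¹ᵁ W) (ι.app W c) =
          algebraMap (Z.presheaf.stalk z) Z.functionField γ := by
        rw [← Scheme.algebraMap_germ_eq_germToFunctionField Z (show z ∈ ι ⁻¹ᵁ W from hxW) (ι.app W c),
          ← Scheme.Hom.germ_stalkMap_apply ι W z hxW c, hc, hc₀]
      rw [e1, e2, e3, hγf, sub_self]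
    rw [h0, Scheme.basicOpen_zero] at hξ
    exact hξ

end Groth.Agent.Lib.T2H6.AmpCurve
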