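import Mathlib
import Groth.Agent.Lib.Helper10CurveFin

/-!
# Topology of Noetherian spaces of dimension at most one (helper6)

Generic points, closed discrete complements of dense opens, disjoint neighbourhoods of the generic points.

Namespace `Groth.Agent.Lib.T2H6.PicLift`.
-/

set_option autoImplicit false
set_option linter.style.haveILetI false
set_option linter.unusedSectionVars false
set_option linter.unusedVariables false
universe u
open TopologicalSpace

namespace Groth.Agent.Lib.T2H6.PicLift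

open Groth.Agent.Lib.Helper10.CurveFin

variable {α : Type*} [TopologicalSpace α]

/-- the points without proper generizations -/
def genPts (α : Type*) [TopologicalSpace α] : Set α := {x | ∀ z, z ⤳ x → x ⤳ z}

theorem finite_genPts [NoetherianSpace α] [QuasiSober α] [T0Space α] : (genPts α).Finite :=
  finite_setOf_forall

theorem eq_of_specializes_genPts [T0Space α] {η z : α} (hη : η ∈ genPts α) (h : z ⤳ η) : z = η :=
  (h.antisymm (hη z h)).eq

section dimOne
variable [QuasiSober α] [T0Space α] (hdim : topologicalKrullDim α ≤ 1)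

include hdim in
theorem isClosed_singleton_of_not_mem_genPts {y : α} (hy : y ∉ genPts α) : IsClosed ({y} : Set α) :=
  isClosed_singleton_of_forall ((forall_of_topologicalKrullDim_le_one hdim y).resolve_right hy)

include hdim in
theorem exists_genPt_specializes (y : α) : ∃ η ∈ genPts α, η ⤳ y := by
  by_cases hy : y ∈ genPts α
  · exact ⟨y, hy, specializes_rfl⟩
  · have hy' := hy
    simp only [genPts, Set.mem_ofPred_eq, not_forall] at hy'
    obtain ⟨z, hzy, hyz⟩ := hy'
    refine ⟨z, ?_, hzy⟩
    rcases forall_of_topologicalKrullDim_le_one hdim z with h | h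
    · exact absurd (h y hzy) hyz
    · exact h

variable [NoetherianSpace α]

include hdim in
/-- the complement of an open set containing all generic points is finite and all its subsets are closed. -/
theorem finite_compl_and_isClosed {M : Set α} (hM : IsOpen M) (hG : genPts α ⊆ M) :
    Mᶜ.Finite ∧ ∀ S : Set α, S ⊆ Mᶜ → IsClosed S := by
  have hpt : ∀ y ∈ Mᶜ, IsClosed ({y} : Set α) := fun y hy =>
    isClosed_singleton_of_not_mem_genPts hdim (fun h => hy (hG h))
  have hfin : Mᶜ.Finite := by
    obtain ⟨S, hSf, hSc, hSi, hSU⟩ := NoetherianSpace.exists_finite_set_isClosed_irreducible hM.isClosed_compl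
    rw [hSU]
    refine Set.Finite.sUnion hSf fun t ht => ?_
    obtain ⟨g, hg⟩ := QuasiSober.sober (hSi t ht) (hSc t ht)
    have htM : t ⊆ Mᶜ := by rw [hSU]; exact Set.subset_sUnion_of_mem ht
    have hgt : g ∈ t := by rw [← hg.def]; exact subset_closure rfl
    rw [← hg.def, (hpt g (htM hgt)).closure_eq]
    exact Set.finite_singleton g
  refine ⟨hfin, fun S hS => ?_⟩
  have h1 : IsClosed (⋃ y ∈ S, ({y} : Set α)) :=
    (hfin.subset hS).isClosed_biUnion (fun y hy => hpt y (hS hy))
  rwa [Set.biUnion_of_singleton] at h1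

/-- the union of the closures of the other generic points -/
def others (η : α) : Set α := ⋃ η' ∈ genPts α \ {η}, closure {η'}

theorem isClosed_others (η : α) : IsClosed (others η) :=
  (finite_genPts.subset Set.sdiff_subset).isClosed_biUnion (fun _ _ => isClosed_closure)

theorem not_mem_others {η : α} (hη : η ∈ genPts α) : η ∉ others η := by
  intro h
  obtain ⟨η', hη', hmem⟩ := Set.mem_iUnion₂.1 h
  have h1 : η' ⤳ η := specializes_iff_mem_closure.2 hmem
  exact hη'.2 (eq_of_specializes_genPts hη h1)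

include hdim in
theorem disjoint_compl_others {η η' : α} (hne : η ≠ η') (z : α) (hz : z ∉ others η) (hz' : z ∉ others η') :
    False := by
  obtain ⟨ξ, hξ, hξz⟩ := exists_genPt_specializes hdim z
  have hmem : z ∈ closure ({ξ} : Set α) := specializes_iff_mem_closure.1 hξz
  by_cases h : ξ = η
  · have h' : ξ ≠ η' := fun h' => hne (h.symm.trans h')
    exact hz' (Set.mem_iUnion₂.2 ⟨ξ, ⟨hξ, h'⟩, hmem⟩)
  · exact hz (Set.mem_iUnion₂.2 ⟨ξ, ⟨hξ, h⟩, hmem⟩)

include hdim in
/-- a generic point outside of an open set is not in its closure. -/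
theorem not_mem_closure_of_genPts {O : Set α} (hO : IsOpen O) {η : α} (hη : η ∈ genPts α) (hηO : η ∉ O) :
    η ∉ closure O := by
  intro h
  have hC : IsClosed (⋃ η' ∈ genPts α ∩ O, closure ({η'} : Set α)) :=
    (finite_genPts.subset Set.inter_subset_left).isClosed_biUnion (fun _ _ => isClosed_closure)
  have hOC : O ⊆ ⋃ η' ∈ genPts α ∩ O, closure ({η'} : Set α) := by
    intro z hz
    obtain ⟨ξ, hξ, hξz⟩ := exists_genPt_specializes hdim z
    exact Set.mem_iUnion₂.2 ⟨ξ, ⟨hξ, hξz.mem_open hO hz⟩, specializes_iff_mem_closure.1 hξz⟩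
  obtain ⟨η', hη', hmem⟩ := Set.mem_iUnion₂.1 (closure_minimal hOC hC h)
  have h1 : η' ⤳ η := specializes_iff_mem_closure.2 hmem
  exact hηO (eq_of_specializes_genPts hη h1 ▸ hη'.2)

include hdim in
/-- shrinking a neighbourhood `T` of `y ∉ U` so that its trace on `U` lies in a given open `N` containing the generic points
of `T ∩ U`. -/
theorem exists_open_shrink {T U N : Set α} (hT : IsOpen T) (hU : IsOpen U) (hN : IsOpen N) (y : α) (hyT : y ∈ T)
    (hyU : y ∉ U) (hG : genPts α ∩ (T ∩ U) ⊆ N) :
    ∃ T' : Set α, IsOpen T' ∧ y ∈ T' ∧ T' ⊆ T ∧ T' ∩ U ⊆ N := by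
  have hO : IsOpen (T ∩ U) := hT.inter hU
  have hM : IsOpen (N ∪ (closure (T ∩ U))ᶜ) := hN.union isClosed_closure.isOpen_compl
  have hGM : genPts α ⊆ N ∪ (closure (T ∩ U))ᶜ := by
    intro η hη
    by_cases h : η ∈ T ∩ U
    · exact Or.inl (hG ⟨hη, h⟩)
    · exact Or.inr (not_mem_closure_of_genPts hdim hO hη h)
  have hC : IsClosed ((N ∪ (closure (T ∩ U))ᶜ)ᶜ \ {y}) :=
    (finite_compl_and_isClosed hdim hM hGM).2 _ Set.sdiff_subset
  refine ⟨T ∩ ((N ∪ (closure (T ∩ U))ᶜ)ᶜ \ {y})ᶜ, hT.inter hC.isOpen_compl, ⟨hyT, fun h => h.2 rfl⟩,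
    Set.inter_subset_left, ?_⟩
  rintro z ⟨⟨hzT, hzC⟩, hzU⟩
  by_contra hzN
  apply hzC
  refine ⟨?_, fun h => hyU (h ▸ hzU)⟩
  rintro (h | h)
  · exact hzN h
  · exact h (subset_closure ⟨hzT, hzU⟩)

end dimOne

end Groth.Agent.Lib.T2H6.PicLift
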