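import Mathlib
import Groth.Agent.Lib.T2H6AmpCurveC
import Groth.Agent.Lib.T2H6PicLiftB
import Groth.Agent.Lib.T2H5GenIsoE
import Groth.Agent.Lib.Helper4FibDimL
set_option backward.isDefEq.respectTransparency.types false

/-!
# Ample invertible modules on one-dimensional Noetherian separated schemes, part D (helper6)

`X` Noetherian separated of dimension `≤ 1`, `U` an affine open containing all the generic points.  There is
`f₀ ∈ Γ(X, U)` which, on every irreducible component through a point `x ∉ U`, has an inverse vanishing at `x`.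
-/

set_option autoImplicit false
set_option linter.style.haveILetI false
set_option linter.unusedVariables false
set_option linter.unusedSectionVars false
universe u
open CategoryTheory CategoryTheory.Limits AlgebraicGeometry TopologicalSpace Opposite

namespace Groth.Agent.Lib.T2H6.AmpCurve

open Groth.Agent.Lib.T2H6.AffPts Groth.Agent.Lib.T2H6.AffImg Groth.Agent.Lib.T2H6.GenInv Groth.Agent.Lib.Helper6
open Groth.Agent.Lib.T2H6.PicLift Groth.Agent.Lib.T2H5.GenIsoE
open Scheme.IdealSheafData

variable {X : Scheme.{u}}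

/-- the reduced closed subscheme on the closure of a point -/
noncomputable def comp (η : X) : Scheme.{u} := (vanishingIdeal ⟨closure {η}, isClosed_closure⟩).subscheme

/-- the closed immersion of the closure of a point -/
noncomputable def compι (η : X) : comp η ⟶ X := (vanishingIdeal ⟨closure {η}, isClosed_closure⟩).subschemeι

instance (η : X) : IsClosedImmersion (compι η) :=
  inferInstanceAs (IsClosedImmersion (vanishingIdeal ⟨closure {η}, isClosed_closure⟩).subschemeι)

instance (η : X) : IsIntegral (comp η) :=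
  isIntegral_subscheme_vanishingIdeal _ _ isIrreducible_singleton.closure

theorem range_compι (η : X) : Set.range (compι η) = closure {η} :=
  range_subschemeι_vanishingIdeal _ _

theorem compι_genericPoint (η : X) (hη : η ∈ genPts X) : compι η (genericPoint (comp η)) = η := by
  have h1 : η ∈ Set.range (compι η) := by rw [range_compι]; exact subset_closure rfl
  obtain ⟨z₀, hz₀⟩ := h1
  have h2 : genericPoint (comp η) ⤳ z₀ := genericPoint_specializes z₀
  have h3 : compι η (genericPoint (comp η)) ⤳ compι η z₀ := h2.map (compι η).continuous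
  rw [hz₀] at h3
  exact eq_of_specializes_genPts hη h3

/-- the local condition at `x ∉ U` and a generization `η ∈ U` of `x`. -/
def LocInv (U : X.Opens) (f₀ : Γ(X, U)) (x η : X) : Prop :=
  ∃ (W : X.Opens) (c : Γ(X, W)), x ∈ W ∧ x ∉ X.basicOpen c ∧
    η ∉ X.basicOpen (resf (inf_le_left : W ⊓ U ≤ W) c * resf (inf_le_right : W ⊓ U ≤ U) f₀ - 1)

theorem exists_locInv [IsNoetherian X] [X.IsSeparated] (hdim : topologicalKrullDim X ≤ 1)
    (U : X.Opens) (hU : IsAffineOpen U) (hgen : genPts X ⊆ U) :
    ∃ f₀ : Γ(X, U), ∀ x : X, x ∉ U → ∀ η ∈ genPts X, η ⤳ x → LocInv U f₀ x η := by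
  classical
  have hfin : ((U : Set X)ᶜ).Finite := (finite_compl_and_isClosed hdim U.isOpen hgen).1
  have hloc : ∀ x : X, x ∉ U → IsNoetherianRing (X.presheaf.stalk x) ∧ ringKrullDim (X.presheaf.stalk x) ≤ 1 :=
    fun x _ => ⟨inferInstance,
      (Groth.Agent.Lib.Helper4.FibDim.ringKrullDim_stalk_le_topologicalKrullDim X x).trans hdim⟩
  haveI : Fintype ↥(genPts X) := (finite_genPts (α := X)).fintype
  haveI hne : ∀ η : ↥(genPts X), Nonempty ((compι η.1) ⁻¹ᵁ U) := fun η =>
    ⟨⟨genericPoint (comp η.1), by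
      change compι η.1 (genericPoint (comp η.1)) ∈ U
      rw [compι_genericPoint η.1 η.2]; exact hgen η.2⟩⟩
  have hex1 : ∀ η : ↥(genPts X), ∃ f : Γ(X, U), HasPoles (compι η.1) U f := fun η =>
    exists_hasPoles (compι η.1) U hU hfin hloc
  choose f' hf' using hex1
  have hex2 : ∀ η : ↥(genPts X), ∃ e : Γ(X, U), X.basicOpen e ≤ U ⊓ ⟨(others η.1)ᶜ, (isClosed_others η.1).isOpen_compl⟩ ∧
      η.1 ∈ X.basicOpen e := fun η =>
    hU.exists_basicOpen_le (V := U ⊓ ⟨(others η.1)ᶜ, (isClosed_others η.1).isOpen_compl⟩)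
      ⟨η.1, ⟨hgen η.2, not_mem_others η.2⟩⟩ (hgen η.2)
  choose e he1 he2 using hex2
  have he : ∀ η : ↥(genPts X), (compι η.1).app U (e η) ≠ 0 := by
    intro η h0
    have h1 : genericPoint (comp η.1) ∈ (compι η.1) ⁻¹ᵁ (X.basicOpen (e η)) := by
      change compι η.1 (genericPoint (comp η.1)) ∈ X.basicOpen (e η)
      rw [compι_genericPoint η.1 η.2]; exact he2 η
    rw [Scheme.preimage_basicOpen, h0, Scheme.basicOpen_zero] at h1
    exact h1
  have he' : ∀ η η' : ↥(genPts X), η ≠ η' → (compι η'.1).app U (e η) = 0 := by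
    intro η η' hne'
    rw [← basicOpen_eq_bot_iff, ← Scheme.preimage_basicOpen, eq_bot_iff]
    intro z hz
    have hz1 : compι η'.1 z ∈ X.basicOpen (e η) := hz
    have hz2 : compι η'.1 z ∉ others η.1 := (he1 η hz1).2
    apply hz2
    have hz3 : compι η'.1 z ∈ closure ({η'.1} : Set X) := by
      rw [← range_compι]; exact Set.mem_range_self z
    exact Set.mem_iUnion₂.2 ⟨η'.1, ⟨η'.2, fun h => hne' (Subtype.ext h).symm⟩, hz3⟩
  have hex3 : ∀ η : ↥(genPts X), ∃ j : ℕ, ∀ N, j ≤ N → ∀ r : Γ(X, U), (compι η.1).app U r = 0 →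
      HasPoles (compι η.1) U (e η * f' η ^ N + r) := fun η =>
    HasPoles.mul_pow_add (compι η.1) U hfin (fun x hx => (hloc x hx).2) (f' η) (e η) (hf' η) (he η)
  choose j hj using hex3
  set N := Finset.univ.sup j with hN
  refine ⟨∑ η, e η * f' η ^ N, fun x hx η₀ hη₀ hηx => ?_⟩
  obtain ⟨η, rfl⟩ : ∃ η : ↥(genPts X), η.1 = η₀ := ⟨⟨η₀, hη₀⟩, rfl⟩
  have hP : HasPoles (compι η.1) U (∑ η, e η * f' η ^ N) := by
    have h1 := Finset.add_sum_erase Finset.univ (fun η : ↥(genPts X) => e η * f' η ^ N)
      (Finset.mem_univ η)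
    rw [← h1]
    refine hj η N (Finset.le_sup (Finset.mem_univ _)) _ ?_
    rw [map_sum]
    refine Finset.sum_eq_zero (fun η' hη' => ?_)
    rw [map_mul, he' η' η (Finset.ne_of_mem_erase hη'), zero_mul]
  have hx2 : x ∈ Set.range (compι η.1) := by
    rw [range_compι]; exact specializes_iff_mem_closure.1 hηx
  obtain ⟨z, rfl⟩ := hx2
  have := HasPoles.exists_local (compι η.1) U _ hP z hx
  rw [compι_genericPoint η.1 η.2] at this
  exact this

end Groth.Agent.Lib.T2H6.AmpCurve
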