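import Mathlib
import Groth.Agent.Lib.T2H6AmpCurveA
import Groth.Agent.Lib.T2H6AmpCurveD
import Groth.Agent.Lib.T2H5DimOneAff
set_option backward.isDefEq.respectTransparency.types false

/-!
# Ample invertible modules on one-dimensional Noetherian separated schemes, part E (helper6)

The local inverse of a power of `f₀` near a point outside of `U`.
-/

set_option autoImplicit false
set_option linter.style.haveILetI false
set_option linter.unusedVariables false
set_option linter.unusedSectionVars false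
universe u
open CategoryTheory CategoryTheory.Limits AlgebraicGeometry TopologicalSpace Opposite

namespace Groth.Agent.Lib.T2H6.AmpCurve

open Groth.Agent.Lib.T2H6.AffPts Groth.Agent.Lib.T2H6.AffImg Groth.Agent.Lib.T2H6.GenInv Groth.Agent.Lib.Helper6
open Groth.Agent.Lib.T2H6.PicLift Groth.Agent.Lib.T2H5.GenIsoE

variable {X : Scheme.{u}}

/-- a germ at `x` lies in a prime of the local ring iff the section vanishes at the corresponding generization. -/
theorem germ_mem_asIdeal_iff (T : X.Opens) (x : X) (hxT : x ∈ T) (s : Γ(X, T))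
    (w : Spec (X.presheaf.stalk x)) :
    X.presheaf.germ T x hxT s ∈ w.asIdeal ↔ X.fromSpecStalk x w ∉ X.basicOpen s := by
  have h1 : X.fromSpecStalk x w ∈ X.basicOpen s ↔ w ∈ (X.fromSpecStalk x) ⁻¹ᵁ (X.basicOpen s) := Iff.rfl
  rw [h1, Scheme.preimage_basicOpen, Scheme.fromSpecStalk_app hxT]
  have h2 : (Spec (X.presheaf.stalk x)).basicOpen
      ((X.presheaf.germ T x hxT ≫ (Scheme.ΓSpecIso (X.presheaf.stalk x)).inv ≫
        (Spec (X.presheaf.stalk x)).presheaf.map (homOfLE le_top).op) s) =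
      (X.fromSpecStalk x) ⁻¹ᵁ T ⊓ (Spec (X.presheaf.stalk x)).basicOpen
        ((Scheme.ΓSpecIso (X.presheaf.stalk x)).inv (X.presheaf.germ T x hxT s)) :=
    Scheme.basicOpen_res _ _ _
  rw [h2, basicOpen_eq_of_affine]
  have h3 : w ∈ (X.fromSpecStalk x) ⁻¹ᵁ T :=
    (fromSpecStalk_specializes x w).mem_open T.isOpen hxT
  constructor
  · intro h hw
    exact (PrimeSpectrum.mem_basicOpen _ _).1 hw.2 h
  · intro h
    by_contra hn
    exact h ⟨h3, (PrimeSpectrum.mem_basicOpen _ _).2 hn⟩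

theorem r_mul {A B : X.Opens} (h : B ≤ A) (a b : Γ(X, A)) : resf h (a * b) = resf h a * resf h b := map_mul _ _ _
theorem r_pow {A B : X.Opens} (h : B ≤ A) (a : Γ(X, A)) (n : ℕ) : resf h (a ^ n) = resf h a ^ n := map_pow _ _ _
theorem r_sub {A B : X.Opens} (h : B ≤ A) (a b : Γ(X, A)) : resf h (a - b) = resf h a - resf h b := map_sub _ _ _
theorem r_one {A B : X.Opens} (h : B ≤ A) : resf h (1 : Γ(X, A)) = 1 := map_one _
theorem r_zero {A B : X.Opens} (h : B ≤ A) : resf h (0 : Γ(X, A)) = 0 := map_zero _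
theorem r_r {A B C : X.Opens} (h₁ : B ≤ A) (h₂ : C ≤ B) (a : Γ(X, A)) :
    resf h₂ (resf h₁ a) = resf (h₂.trans h₁) a := resf_resf h₁ h₂ a

theorem germ_resf {A B : X.Opens} (h : B ≤ A) (x : X) (hx : x ∈ B) (a : Γ(X, A)) :
    X.presheaf.germ B x hx (resf h a) = X.presheaf.germ A x (h hx) a :=
  X.presheaf.germ_res_apply (homOfLE h) x hx a

theorem chart_eq {D T U Q : X.Opens} (hDT : D ≤ T) (hDU : D ≤ U) (hQD : Q ≤ D) (f₀ : Γ(X, U)) (g b : Γ(X, T)) (n : ℕ)
    (hb : resf hDU f₀ * resf hDT g ^ n = resf hDT b) :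
    resf (hQD.trans hDU) f₀ * resf (hQD.trans hDT) g ^ n = resf (hQD.trans hDT) b := by
  have h := congrArg (resf hQD) hb
  rwa [r_mul, r_pow, r_r, r_r, r_r] at h

open Groth.Agent.Lib.T2H5.DimOneAff Groth.Agent.Lib.Helper10.CurveFin in
/-- **the local inverse of a power of `f₀`** near a point `x ∉ U`. -/
theorem exists_local_inverse [IsNoetherian X] [X.IsSeparated] (hdim : topologicalKrullDim X ≤ 1)
    (U : X.Opens) (hU : IsAffineOpen U) (hgen : genPts X ⊆ U) (f₀ : Γ(X, U)) (x : X) (hx : x ∉ U)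
    (H : ∀ η ∈ genPts X, η ⤳ x → LocInv U f₀ x η) :
    ∃ (M : ℕ) (T : X.Opens) (g₁ : Γ(X, T)), 1 ≤ M ∧ x ∈ T ∧ x ∉ X.basicOpen g₁ ∧
      resf (inf_le_left : T ⊓ U ≤ T) g₁ * resf (inf_le_right : T ⊓ U ≤ U) (f₀ ^ M) = 1 := by
  classical
  have hcl := (finite_compl_and_isClosed hdim U.isOpen hgen).2
  have hd : ringKrullDim (X.presheaf.stalk x) ≤ 1 :=
    (Groth.Agent.Lib.Helper4.FibDim.ringKrullDim_stalk_le_topologicalKrullDim X x).trans hdim
  haveI : Ring.KrullDimLE 1 (X.presheaf.stalk x) := Ring.krullDimLE_iff.2 hd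
  -- the chart
  obtain ⟨V₀, hV₀, hxV₀⟩ : ∃ V₀ : X.Opens, IsAffineOpen V₀ ∧ x ∈ V₀ := by
    obtain ⟨_, ⟨W, hW, rfl⟩, hx', -⟩ := X.isBasis_affineOpens.exists_subset_of_mem_open
      (Set.mem_univ x) isOpen_univ
    exact ⟨W, hW, hx'⟩
  obtain ⟨f, h, hxh, hUh⟩ := exists_inf_basicOpen_eq X U x hx inferInstance hd V₀ hV₀ hxV₀
  set T : X.Opens := X.basicOpen h with hTdef
  have hT : IsAffineOpen T := hV₀.basicOpen h
  have hTV : T ≤ V₀ := X.basicOpen_le h
  obtain ⟨g, hgdef⟩ : ∃ g : Γ(X, T), g = resf hTV (f * h) := ⟨_, rfl⟩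
  have hD : X.basicOpen g = U ⊓ T := by
    rw [hgdef, Scheme.basicOpen_res, ← hUh]
    exact inf_eq_right.2 inf_le_right
  have hDT : X.basicOpen g ≤ T := X.basicOpen_le g
  have hDU : X.basicOpen g ≤ U := hD.le.trans inf_le_left
  haveI := hT.isLocalization_basicOpen g
  obtain ⟨n, b, hb⟩ := IsLocalization.Away.surj g (resf hDU f₀)
  have hb' : resf hDU f₀ * resf hDT g ^ n = resf hDT b := hb
  have hxT : x ∈ T := hxh
  set gx : X.presheaf.stalk x := X.presheaf.germ T x hxT g with hgx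
  set bx : X.presheaf.stalk x := X.presheaf.germ T x hxT b with hbx
  have hgm : gx ∈ IsLocalRing.maximalIdeal (X.presheaf.stalk x) := by
    refine (IsLocalRing.mem_maximalIdeal _).2 (fun hu => ?_)
    have h1 : x ∈ X.basicOpen g := (X.mem_basicOpen g x hxT).2 hu
    rw [hD] at h1
    exact hx h1.1
  have hclosed : ∀ w : Spec (X.presheaf.stalk x), X.fromSpecStalk x w = x →
      w.asIdeal = IsLocalRing.maximalIdeal (X.presheaf.stalk x) := by
    intro w hw
    have h1 : w = IsLocalRing.closedPoint (X.presheaf.stalk x) := by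
      apply fromSpecStalk_injective x
      rw [Scheme.fromSpecStalk_closedPoint]; exact hw
    rw [h1]; rfl
  have hg : ∀ p : Ideal (X.presheaf.stalk x), p.IsPrime → gx ∈ p →
      p = IsLocalRing.maximalIdeal (X.presheaf.stalk x) := by
    intro p hp hgp
    let w : Spec (X.presheaf.stalk x) := (⟨p, hp⟩ : PrimeSpectrum (X.presheaf.stalk x))
    have hy : X.fromSpecStalk x w ∉ X.basicOpen g := (germ_mem_asIdeal_iff T x hxT g w).1 hgp
    have hyx : X.fromSpecStalk x w ⤳ x := fromSpecStalk_specializes x w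
    have hyT : X.fromSpecStalk x w ∈ T := hyx.mem_open T.isOpen hxT
    have hyU : X.fromSpecStalk x w ∉ U := fun hyU => hy (hD ▸ ⟨hyU, hyT⟩)
    have hycl : IsClosed ({X.fromSpecStalk x w} : Set X) := hcl _ (by simpa using hyU)
    have hxy : x ∈ ({X.fromSpecStalk x w} : Set X) := hyx.mem_closed hycl rfl
    exact hclosed w (Set.mem_singleton_iff.1 hxy).symm
  have hne : ∃ p : Ideal (X.presheaf.stalk x), p.IsPrime ∧ p ≠ IsLocalRing.maximalIdeal (X.presheaf.stalk x) := by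
    obtain ⟨η, hη, hηx⟩ := exists_genPt_specializes hdim x
    obtain ⟨w, hw⟩ := exists_fromSpecStalk_eq x η hηx
    refine ⟨w.asIdeal, w.2, fun h => ?_⟩
    have h1 : w = IsLocalRing.closedPoint (X.presheaf.stalk x) := PrimeSpectrum.ext h
    rw [h1, Scheme.fromSpecStalk_closedPoint] at hw
    exact hx (hw ▸ hgen hη)
  have H' : ∀ p : Ideal (X.presheaf.stalk x), p.IsPrime → p ≠ IsLocalRing.maximalIdeal (X.presheaf.stalk x) →
      ∃ c ∈ IsLocalRing.maximalIdeal (X.presheaf.stalk x), c * bx - gx ^ n ∈ p := by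
    intro p hp hpm
    let w : Spec (X.presheaf.stalk x) := (⟨p, hp⟩ : PrimeSpectrum (X.presheaf.stalk x))
    have hyx : X.fromSpecStalk x w ⤳ x := fromSpecStalk_specializes x w
    have hyne : X.fromSpecStalk x w ≠ x := fun h => hpm (hclosed w h)
    have hygen : X.fromSpecStalk x w ∈ genPts X := by
      rcases forall_of_topologicalKrullDim_le_one hdim (X.fromSpecStalk x w) with h1 | h1
      · exact absurd (hyx.antisymm (h1 x hyx)).eq hyne
      · exact h1
    obtain ⟨W, c, hxW, hxc, hyc⟩ := H _ hygen hyx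
    have hyU : X.fromSpecStalk x w ∈ U := hgen hygen
    refine ⟨X.presheaf.germ W x hxW c, ?_, ?_⟩
    · exact (IsLocalRing.mem_maximalIdeal _).2 (fun hu => hxc ((X.mem_basicOpen c x hxW).2 hu))
    · have hxR : x ∈ W ⊓ T := ⟨hxW, hxT⟩
      set s : Γ(X, W ⊓ T) := resf (inf_le_left : W ⊓ T ≤ W) c * resf (inf_le_right : W ⊓ T ≤ T) b -
        resf (inf_le_right : W ⊓ T ≤ T) g ^ n with hsdef
      have hs : X.presheaf.germ (W ⊓ T) x hxR s = X.presheaf.germ W x hxW c * bx - gx ^ n := by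
        rw [hsdef, map_sub, map_mul, map_pow, germ_resf, germ_resf, germ_resf]
      rw [← hs]
      change X.presheaf.germ (W ⊓ T) x hxR s ∈ w.asIdeal
      rw [germ_mem_asIdeal_iff (W ⊓ T) x hxR s w]
      intro hys
      have hyR : X.fromSpecStalk x w ∈ W ⊓ T := X.basicOpen_le s hys
      have hyQ : X.fromSpecStalk x w ∈ (W ⊓ T) ⊓ U := ⟨hyR, hyU⟩
      have hQD : (W ⊓ T) ⊓ U ≤ X.basicOpen g := by
        rw [hD]; exact fun z hz => ⟨hz.2, hz.1.2⟩
      have hQWU : (W ⊓ T) ⊓ U ≤ W ⊓ U := fun z hz => ⟨hz.1.1, hz.2⟩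
      have key : resf (inf_le_left : (W ⊓ T) ⊓ U ≤ W ⊓ T) s = resf (hQD.trans hDT) g ^ n *
          resf hQWU (resf (inf_le_left : W ⊓ U ≤ W) c * resf (inf_le_right : W ⊓ U ≤ U) f₀ - 1) := by
        have e1 := chart_eq hDT hDU hQD f₀ g b n hb'
        rw [hsdef]
        simp only [r_sub, r_mul, r_pow, r_r, r_one]
        rw [← e1]
        ring
      have h1 : X.fromSpecStalk x w ∈ X.basicOpen (resf (inf_le_left : (W ⊓ T) ⊓ U ≤ W ⊓ T) s) := by
        rw [Scheme.basicOpen_res]; exact ⟨hyQ, hys⟩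
      rw [key, Scheme.basicOpen_mul] at h1
      have h2 := h1.2
      rw [Scheme.basicOpen_res] at h2
      exact hyc h2.2
  obtain ⟨M, c', l, hM, heq⟩ := exists_pow_inverse_lift gx bx n hgm hg hne H'
  obtain ⟨T₁, hT₁T, hxT₁, c₁, hc₁⟩ := X.presheaf.exists_le_germ_eq c' hxT
  set E : Γ(X, T₁) := resf hT₁T g ^ l * (resf hT₁T g * c₁ * resf hT₁T b ^ M - resf hT₁T g ^ (n * M)) with hEdef
  have hE : X.presheaf.germ T₁ x hxT₁ E = X.presheaf.germ T₁ x hxT₁ 0 := by
    rw [hEdef, map_zero, map_mul, map_sub, map_mul, map_mul, map_pow, map_pow, map_pow, germ_resf, germ_resf, hc₁]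
    exact heq
  obtain ⟨T₂, hxT₂, i₁, i₂, hE2⟩ := X.presheaf.germ_eq x hxT₁ hxT₁ E 0 hE
  have hT₂T₁ : T₂ ≤ T₁ := i₁.le
  have hE3 : resf hT₂T₁ E = 0 := by
    have h1 : resf hT₂T₁ E = X.presheaf.map i₁.op E := rfl
    rw [h1, hE2, map_zero]
  have hT₂T : T₂ ≤ T := hT₂T₁.trans hT₁T
  refine ⟨M, T₂, resf hT₂T g * resf hT₂T₁ c₁, hM, hxT₂, ?_, ?_⟩
  · intro hmem
    have hu : IsUnit (X.presheaf.germ T₂ x hxT₂ (resf hT₂T g * resf hT₂T₁ c₁)) :=
      (X.mem_basicOpen _ x hxT₂).1 hmem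
    rw [map_mul, germ_resf, germ_resf] at hu
    have h1 : gx * X.presheaf.germ T₁ x (hT₂T₁ hxT₂) c₁ ∈ IsLocalRing.maximalIdeal (X.presheaf.stalk x) :=
      Ideal.mul_mem_right _ _ hgm
    exact (IsLocalRing.mem_maximalIdeal _).1 h1 hu
  · have hQD : T₂ ⊓ U ≤ X.basicOpen g := by
      rw [hD]; exact fun z hz => ⟨hz.2, hT₂T hz.1⟩
    have e1 := chart_eq hDT hDU hQD f₀ g b n hb'
    have hE4 := congrArg (resf (inf_le_left : T₂ ⊓ U ≤ T₂)) hE3
    rw [hEdef, r_r, r_zero, r_mul, r_sub, r_mul, r_mul, r_pow, r_pow, r_pow, r_r, r_r, ← e1] at hE4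
    have hu0 : IsUnit (resf hDT g) := RingedSpace.isUnit_res_basicOpen _ g
    have hu1 : IsUnit (resf (hQD.trans hDT) g) := by
      have := hu0.map (X.presheaf.map (homOfLE hQD).op).hom
      rwa [show (X.presheaf.map (homOfLE hQD).op).hom (resf hDT g) = resf (hQD.trans hDT) g from
        r_r hDT hQD g] at this
    have hu : IsUnit (resf (hQD.trans hDT) g ^ l * resf (hQD.trans hDT) g ^ (n * M)) :=
      (hu1.pow l).mul (hu1.pow (n * M))
    apply hu.mul_left_cancel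
    rw [r_mul, r_pow, r_r, r_r, mul_one]
    linear_combination hE4

end Groth.Agent.Lib.T2H6.AmpCurve
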