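import Mathlib
import Groth.Agent.Lib.T2H5GlueInvB
import Groth.Agent.Lib.Helper23SecTw10
set_option backward.isDefEq.respectTransparency.types false

/-!
# An invertible module with two sections from local equations (helper6)

Variant of helper5's `T2H5.GlueInv.exists_invertible_section`: besides the section `s` with local equations `g i`
we get a second section `τ` with local equations `h i`, provided `h i * g j = h j * g i` on the overlaps.
-/

set_option autoImplicit false
set_option linter.style.haveILetI false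
set_option linter.unusedVariables false
universe u
open CategoryTheory CategoryTheory.Limits AlgebraicGeometry TopologicalSpace Opposite

namespace Groth.Agent.Lib.T2H6.GenInv

open Groth.Agent.Lib.Helper6 Groth.Agent.Helper13ModGlue Groth.Agent.Lib.T2H4.Cocycle
  Groth.Agent.Lib.T2H4.CocycleMod Groth.Agent.Lib.Helper23.SecTw Groth.Agent.Lib.Helper23.GenLocus
  Groth.Agent.Lib.T2H5.GlueInv

variable {X : Scheme.{u}}

section main
variable (U : X.Opens) {ι : Type u} (T : ι → X.Opens) (g : ∀ i, Γ(X, T i)) (h : ∀ i, Γ(X, T i))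
  (hg : ∀ i, X.basicOpen (g i) = U ⊓ T i) (hTU : ∀ i j, i ≠ j → T i ⊓ T j ≤ U)
  (hgh : ∀ i j, resf (inf_le_left : T i ⊓ T j ≤ T i) (h i) * resf (inf_le_right : T i ⊓ T j ≤ T j) (g j) =
    resf (inf_le_right : T i ⊓ T j ≤ T j) (h j) * resf (inf_le_left : T i ⊓ T j ≤ T i) (g i))

include hg hTU hgh in
/-- **An invertible module with two sections**: `s` has generating locus `U` (local equations `g i`), and `τ` has local
equations `h i`. -/
theorem exists_invertible_two_sections (hT : iSup T = ⊤) :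
    ∃ (L : X.Modules) (s τ : Coh.structureModule X ⟶ L), PicF.IsInvertible L ∧ CohB1.genLocus L s = U ∧
      ∀ i, CohB1.genLocus L τ ⊓ T i = X.basicOpen (h i) := by
  let P : X.Modules := (Scheme.Modules.pushforward U.ι).obj (Coh.structureModule (↑U : Scheme.{u}))
  have ha : ∀ i, IsUnit (U.ι.app (T i) (g i)) := by
    intro i
    have h1 : (↑U : Scheme.{u}).basicOpen (U.ι.app (T i) (g i)) = U.ι ⁻¹ᵁ T i := by
      rw [← Scheme.preimage_basicOpen, hg i]
      ext z
      constructor
      · intro hz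
        exact hz.2
      · intro hz
        exact ⟨z.2, hz⟩
    refine (↑U : Scheme.{u}).toRingedSpace.isUnit_of_isUnit_germ _ _ (fun z hz => ?_)
    have hz' : z ∈ (↑U : Scheme.{u}).basicOpen (U.ι.app (T i) (g i)) := by rw [h1]; exact hz
    exact ((↑U : Scheme.{u}).mem_basicOpen _ z hz).1 hz'
  let e : ∀ i, Γ(P, T i) := fun i => toS (U.ι ⁻¹ᵁ T i) ((ha i).unit⁻¹ : (Γ((↑U : Scheme.{u}), U.ι ⁻¹ᵁ T i))ˣ)
  have hgen : ∀ (i : ι) (W : X.Opens) (hW : W ≤ T i), W ≤ U →
      Function.Bijective (fun r : Γ(X, W) => r • res P hW (e i)) := by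
    intro i W hW hWU
    haveI : IsIso (U.ι.app W) := Scheme.Hom.isIso_app U.ι W (by rw [Scheme.Opens.opensRange_ι]; exact hWU)
    have h2 : Function.Bijective (U.ι.app W) := ConcreteCategory.bijective_of_isIso (U.ι.app W)
    set v : Γ((↑U : Scheme.{u}), U.ι ⁻¹ᵁ W) :=
      (↑U : Scheme.{u}).presheaf.map (homOfLE (U.ι.preimage_mono hW)).op
        (((ha i).unit⁻¹ : (Γ((↑U : Scheme.{u}), U.ι ⁻¹ᵁ T i))ˣ) : Γ((↑U : Scheme.{u}), U.ι ⁻¹ᵁ T i)) with hv
    have hvu : IsUnit v := (Units.isUnit _).map _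
    have h3 : (fun r : Γ(X, W) => r • res P hW (e i)) =
        (fun r' : Γ((↑U : Scheme.{u}), U.ι ⁻¹ᵁ W) => toS (U.ι ⁻¹ᵁ W) (r' * v)) ∘
          (fun r : Γ(X, W) => U.ι.app W r) := by
      funext r
      rfl
    rw [h3]
    refine Function.Bijective.comp ?_ h2
    obtain ⟨w, hw⟩ := hvu
    have h4 : (fun r' : Γ((↑U : Scheme.{u}), U.ι ⁻¹ᵁ W) => toS (U.ι ⁻¹ᵁ W) (r' * v)) =
        ⇑(Units.mulRight w) := by
      funext r'
      rw [← hw]
      rfl
    rw [h4]
    exact (Units.mulRight w).bijective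
  obtain ⟨L, hL, ε, ψ, hε, hψ⟩ := exists_glue U P T e hgen hTU hT
  have hone : ∀ i, g i • e i = toS (U.ι ⁻¹ᵁ T i) (1 : Γ((↑U : Scheme.{u}), U.ι ⁻¹ᵁ T i)) := by
    intro i
    change toS (U.ι ⁻¹ᵁ T i) (U.ι.app (T i) (g i) *
      (((ha i).unit⁻¹ : (Γ((↑U : Scheme.{u}), U.ι ⁻¹ᵁ T i))ˣ) : Γ((↑U : Scheme.{u}), U.ι ⁻¹ᵁ T i))) = _
    rw [IsUnit.mul_val_inv]
  have hres1 : ∀ (i : ι) (W : X.Opens) (hW : W ≤ T i),
      res P hW (toS (U.ι ⁻¹ᵁ T i) (1 : Γ((↑U : Scheme.{u}), U.ι ⁻¹ᵁ T i))) =
        toS (U.ι ⁻¹ᵁ W) (1 : Γ((↑U : Scheme.{u}), U.ι ⁻¹ᵁ W)) := by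
    intro i W hW
    change toS (U.ι ⁻¹ᵁ W) ((↑U : Scheme.{u}).presheaf.map (homOfLE (U.ι.preimage_mono hW)).op 1) = _
    rw [map_one]
  -- the first section
  obtain ⟨σ, hσ⟩ := res_glue L T ⊤ (fun _ => le_top) (by rw [show (⨆ a, T a) = ⊤ from hT])
    (fun i => g i • ε i) (by
      intro i j
      by_cases hij : i = j
      · subst hij
        rfl
      · have hWU : T i ⊓ T j ≤ U := hTU i j hij
        have hb := bijective_app U P T e hgen L ε ψ hε hψ i (T i ⊓ T j) inf_le_left hWU
        apply hb.1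
        rw [res_smul, res_smul, hψ i _ inf_le_left, hψ j _ inf_le_right, ← res_smul, ← res_smul, hone i, hone j,
          hres1, hres1])
  -- the second section
  obtain ⟨σ', hσ'⟩ := res_glue L T ⊤ (fun _ => le_top) (by rw [show (⨆ a, T a) = ⊤ from hT])
    (fun i => h i • ε i) (by
      intro i j
      by_cases hij : i = j
      · subst hij
        rfl
      · have hWU : T i ⊓ T j ≤ U := hTU i j hij
        have hb := bijective_app U P T e hgen L ε ψ hε hψ i (T i ⊓ T j) inf_le_left hWU
        apply hb.1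
        rw [res_smul, res_smul, hψ i _ inf_le_left, hψ j _ inf_le_right]
        -- `h i • e i = h j • e j` on the overlap, after multiplying by the unit `g i * g j`
        have hunit : ∀ (k : ι) (hk : T i ⊓ T j ≤ T k), IsUnit (resf hk (g k)) := by
          intro k hk
          have hle : T i ⊓ T j ≤ X.basicOpen (g k) := by rw [hg k]; exact le_inf hWU hk
          have h1 : IsUnit (resf (X.basicOpen_le (g k)) (g k)) :=
            X.toRingedSpace.isUnit_res_basicOpen (g k)
          have h2 : resf hk (g k) = resf hle (resf (X.basicOpen_le (g k)) (g k)) := by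
            rw [resf_resf]
          rw [h2]
          exact h1.map _
        have hgi := hunit i inf_le_left
        have hgj := hunit j inf_le_right
        have hu : IsUnit (resf (inf_le_left : T i ⊓ T j ≤ T i) (g i) *
            resf (inf_le_right : T i ⊓ T j ≤ T j) (g j)) := hgi.mul hgj
        have key : ∀ (k : ι) (hk : T i ⊓ T j ≤ T k) (c : Γ(X, T i ⊓ T j)),
            (c * resf hk (g k)) • res P hk (e k) =
              c • (show Γ(P, T i ⊓ T j) from
                toS (U.ι ⁻¹ᵁ (T i ⊓ T j)) (1 : Γ((↑U : Scheme.{u}), U.ι ⁻¹ᵁ (T i ⊓ T j)))) := by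
          intro k hk c
          rw [mul_smul, ← res_smul, hone k, hres1]
        have e1 : (resf (inf_le_left : T i ⊓ T j ≤ T i) (g i) *
            resf (inf_le_right : T i ⊓ T j ≤ T j) (g j)) •
              (resf (inf_le_left : T i ⊓ T j ≤ T i) (h i) • res P (inf_le_left : T i ⊓ T j ≤ T i) (e i)) =
            (resf (inf_le_left : T i ⊓ T j ≤ T i) (g i) *
            resf (inf_le_right : T i ⊓ T j ≤ T j) (g j)) •
              (resf (inf_le_right : T i ⊓ T j ≤ T j) (h j) • res P (inf_le_right : T i ⊓ T j ≤ T j) (e j)) := by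
          rw [← mul_smul, ← mul_smul]
          have a1 : resf (inf_le_left : T i ⊓ T j ≤ T i) (g i) *
              resf (inf_le_right : T i ⊓ T j ≤ T j) (g j) *
              resf (inf_le_left : T i ⊓ T j ≤ T i) (h i) =
              (resf (inf_le_left : T i ⊓ T j ≤ T i) (h i) *
                resf (inf_le_right : T i ⊓ T j ≤ T j) (g j)) *
              resf (inf_le_left : T i ⊓ T j ≤ T i) (g i) := by ring
          have a2 : resf (inf_le_left : T i ⊓ T j ≤ T i) (g i) *
              resf (inf_le_right : T i ⊓ T j ≤ T j) (g j) *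
              resf (inf_le_right : T i ⊓ T j ≤ T j) (h j) =
              (resf (inf_le_right : T i ⊓ T j ≤ T j) (h j) *
                resf (inf_le_left : T i ⊓ T j ≤ T i) (g i)) *
              resf (inf_le_right : T i ⊓ T j ≤ T j) (g j) := by ring
          rw [a1, a2, key i inf_le_left, key j inf_le_right, hgh i j]
        exact hu.smul_left_cancel.1 e1)
  refine ⟨L, secHom L σ, secHom L σ', hL, ?_, ?_⟩
  · have hloc : ∀ i, CohB1.genLocus L (secHom L σ) ⊓ T i = U ⊓ T i := by
      intro i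
      rw [← hg i]
      refine genLocus_inf_eq_of_isGen L (secHom L σ) (T i) (ε i) (g i) (hε i) ?_
      rw [sv_secHom]
      exact hσ i
    ext y
    have hy : y ∈ (iSup T : X.Opens) := by rw [hT]; trivial
    obtain ⟨i, hi⟩ := Opens.mem_iSup.1 hy
    constructor
    · intro h'
      have h1 : y ∈ CohB1.genLocus L (secHom L σ) ⊓ T i := ⟨h', hi⟩
      rw [hloc i] at h1
      exact h1.1
    · intro h'
      have h1 : y ∈ U ⊓ T i := ⟨h', hi⟩
      rw [← hloc i] at h1
      exact h1.1
  · intro i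
    refine genLocus_inf_eq_of_isGen L (secHom L σ') (T i) (ε i) (h i) (hε i) ?_
    rw [sv_secHom]
    exact hσ' i

end main

end Groth.Agent.Lib.T2H6.GenInv
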