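import Mathlib
import Groth.Agent.Lib.T2H6GenInvA
import Groth.Agent.Lib.T2H6GenInvB
set_option backward.isDefEq.respectTransparency.types false

/-!
# Stacks 09NX: a globally generated invertible module with `X_s = U` (helper6)
-/

set_option autoImplicit false
set_option linter.style.haveILetI false
set_option linter.unusedVariables false
universe u
open CategoryTheory CategoryTheory.Limits AlgebraicGeometry TopologicalSpace Opposite

namespace Groth.Agent.Lib.T2H6.GenInv

open Groth.Agent.Lib.T2H6.AffPts Groth.Agent.Lib.T2H6.AffImg Groth.Agent.Lib.Helper6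
  Groth.Agent.Lib.Helper23.SecTw

variable {X : Scheme.{u}} [IsIntegral X]

/-- **Stacks 09NX**. -/
theorem exists_globallyGenerated_invertible [X.IsSeparated]
    (U : X.Opens) (hU : IsAffineOpen U) (hne : (U : Set X).Nonempty) (hfin : ((U : Set X)ᶜ).Finite)
    (hloc : ∀ x : X, x ∉ U → IsNoetherianRing (X.presheaf.stalk x) ∧ ringKrullDim (X.presheaf.stalk x) = 1) :
    ∃ (L : X.Modules) (s : Coh.structureModule X ⟶ L), PicF.IsInvertible L ∧ Curv2.IsGloballyGenerated L ∧
      CohB1.genLocus L s = U := by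
  classical
  haveI : Nonempty U := hne.to_subtype
  obtain ⟨f₀, hf₀⟩ := exists_section U hU hfin hloc
  have hkd : ∀ x : X, x ∉ U → Ring.KrullDimLE 1 (X.presheaf.stalk x) := fun x hx =>
    Ring.krullDimLE_iff.2 (hloc x hx).2.le
  have hex : ∀ x : ↥((U : Set X)ᶜ), ∃ (V : X.Opens) (g : Γ(X, V)), x.1 ∈ V ∧ (∀ y ∈ V, y ∉ U → y = x.1) ∧
      X.basicOpen g = U ⊓ V ∧ ∀ (W : X.Opens) (hWU : W ≤ U) (hWV : W ≤ V), (W : Set X).Nonempty →
        resf hWV g * resf hWU f₀ = 1 := by
    intro x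
    haveI := hkd x.1 x.2
    obtain ⟨γ, hγ, hγf⟩ := hf₀ x.1 x.2
    exact exists_local_equation U f₀ hfin x.1 x.2 γ hγ hγf
  choose V g hxV hV hbo hmul using hex
  let T : Option ↥((U : Set X)ᶜ) → X.Opens := fun i => i.elim U V
  let gg : ∀ i, Γ(X, T i) := fun i =>
    Option.rec (motive := fun i => Γ(X, T i)) (1 : Γ(X, U)) (fun x => g x) i
  let hh : ∀ i, Γ(X, T i) := fun i =>
    Option.rec (motive := fun i => Γ(X, T i)) f₀ (fun x => (1 : Γ(X, V x))) i
  have hVne : ∀ x, ((V x : X.Opens) : Set X).Nonempty := fun x => ⟨x.1, hxV x⟩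
  have r1 : ∀ {A B : X.Opens} (h : B ≤ A), resf h (1 : Γ(X, A)) = 1 := fun h => map_one _
  have hg : ∀ i, X.basicOpen (gg i) = U ⊓ T i := by
    rintro (_ | x)
    · change X.basicOpen (1 : Γ(X, U)) = U ⊓ U
      rw [inf_idem, Scheme.basicOpen_one]
    · exact hbo x
  have hTU : ∀ i j, i ≠ j → T i ⊓ T j ≤ U := by
    rintro (_ | x) (_ | y) hij
    · exact absurd rfl hij
    · exact inf_le_left
    · exact inf_le_right
    · intro z hz
      by_contra hzU
      have h1 := hV x z hz.1 hzU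
      have h2 := hV y z hz.2 hzU
      exact hij (congrArg some (Subtype.ext (h1.symm.trans h2)))
  have hgh : ∀ i j, resf (inf_le_left : T i ⊓ T j ≤ T i) (hh i) * resf (inf_le_right : T i ⊓ T j ≤ T j) (gg j) =
      resf (inf_le_right : T i ⊓ T j ≤ T j) (hh j) * resf (inf_le_left : T i ⊓ T j ≤ T i) (gg i) := by
    rintro (_ | x) (_ | y)
    · rfl
    · change resf (inf_le_left : U ⊓ V y ≤ U) f₀ * resf (inf_le_right : U ⊓ V y ≤ V y) (g y) =
        resf (inf_le_right : U ⊓ V y ≤ V y) 1 * resf (inf_le_left : U ⊓ V y ≤ U) 1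
      rw [r1, r1, mul_one, mul_comm]
      exact hmul y (U ⊓ V y) inf_le_left inf_le_right
        (nonempty_preirreducible_inter U.2 (V y).2 hne (hVne y))
    · change resf (inf_le_left : V x ⊓ U ≤ V x) 1 * resf (inf_le_right : V x ⊓ U ≤ U) 1 =
        resf (inf_le_right : V x ⊓ U ≤ U) f₀ * resf (inf_le_left : V x ⊓ U ≤ V x) (g x)
      rw [r1, r1, mul_one, mul_comm]
      exact (hmul x (V x ⊓ U) inf_le_right inf_le_left
        (nonempty_preirreducible_inter (V x).2 U.2 (hVne x) hne)).symm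
    · change resf (inf_le_left : V x ⊓ V y ≤ V x) 1 * resf (inf_le_right : V x ⊓ V y ≤ V y) (g y) =
        resf (inf_le_right : V x ⊓ V y ≤ V y) 1 * resf (inf_le_left : V x ⊓ V y ≤ V x) (g x)
      rw [r1, r1, one_mul, one_mul]
      by_cases hxy : x = y
      · subst hxy
        rfl
      · have hWU : V x ⊓ V y ≤ U := hTU (some x) (some y) (fun h => hxy (Option.some.inj h))
        have hW : ((V x ⊓ V y : X.Opens) : Set X).Nonempty :=
          nonempty_preirreducible_inter (V x).2 (V y).2 (hVne x) (hVne y)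
        have e1 := hmul x (V x ⊓ V y) hWU inf_le_left hW
        have e2 := hmul y (V x ⊓ V y) hWU inf_le_right hW
        calc resf (inf_le_right : V x ⊓ V y ≤ V y) (g y)
            = resf (inf_le_right : V x ⊓ V y ≤ V y) (g y) *
                (resf (inf_le_left : V x ⊓ V y ≤ V x) (g x) * resf hWU f₀) := by rw [e1, mul_one]
          _ = resf (inf_le_left : V x ⊓ V y ≤ V x) (g x) *
                (resf (inf_le_right : V x ⊓ V y ≤ V y) (g y) * resf hWU f₀) := by ring
          _ = resf (inf_le_left : V x ⊓ V y ≤ V x) (g x) := by rw [e2, mul_one]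
  have hT : iSup T = ⊤ := by
    rw [eq_top_iff]
    intro z _
    by_cases hz : z ∈ U
    · exact Opens.mem_iSup.2 ⟨none, hz⟩
    · exact Opens.mem_iSup.2 ⟨some ⟨z, hz⟩, hxV ⟨z, hz⟩⟩
  obtain ⟨L, s, τ, hL, hs, hτ⟩ := exists_invertible_two_sections U T gg hh hg hTU hgh hT
  refine ⟨L, s, hL, ?_, hs⟩
  refine isGloballyGenerated_of_forall_mem_genLocus L (fun z => ?_)
  by_cases hz : z ∈ U
  · exact ⟨s, hs ▸ hz⟩
  · refine ⟨τ, ?_⟩
    have h1 : CohB1.genLocus L τ ⊓ V ⟨z, hz⟩ = X.basicOpen (1 : Γ(X, V ⟨z, hz⟩)) := hτ (some ⟨z, hz⟩)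
    rw [Scheme.basicOpen_one] at h1
    have h2 : z ∈ CohB1.genLocus L τ ⊓ V ⟨z, hz⟩ := by rw [h1]; exact hxV ⟨z, hz⟩
    exact h2.1

end Groth.Agent.Lib.T2H6.GenInv
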