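import Mathlib
import Groth.Agent.Lib.T2H6AmpCurveE
import Groth.Agent.Lib.T2H6GenInvA
import Groth.Agent.Lib.T2H6GenInvC
set_option backward.isDefEq.respectTransparency.types false

/-!
# Ample invertible modules on one-dimensional Noetherian separated schemes, part F (helper6)

`X` Noetherian separated of dimension `≤ 1`, `U` an affine open containing all the generic points.  Then there is a globally
generated invertible module `L` with a section `s` such that `X_s = U` (generalisation of Stacks 09NX to non-integral `X`).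
-/

set_option autoImplicit false
set_option linter.style.haveILetI false
set_option linter.unusedVariables false
set_option linter.unusedSectionVars false
universe u
open CategoryTheory CategoryTheory.Limits AlgebraicGeometry TopologicalSpace Opposite

namespace Groth.Agent.Lib.T2H6.AmpCurve

open Groth.Agent.Lib.T2H6.AffPts Groth.Agent.Lib.T2H6.AffImg Groth.Agent.Lib.T2H6.GenInv Groth.Agent.Lib.Helper6
open Groth.Agent.Lib.T2H6.PicLift Groth.Agent.Lib.Helper23.SecTw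

variable {X : Scheme.{u}}

/-- a uniform power of `f₀` with local inverses near all the points outside of `U`. -/
theorem exists_local_equations [IsNoetherian X] [X.IsSeparated] (hdim : topologicalKrullDim X ≤ 1)
    (U : X.Opens) (hU : IsAffineOpen U) (hgen : genPts X ⊆ U) :
    ∃ f₁ : Γ(X, U), ∀ x : X, x ∉ U → ∃ (V : X.Opens) (g : Γ(X, V)), x ∈ V ∧ (∀ y ∈ V, y ∉ U → y = x) ∧
      X.basicOpen g = U ⊓ V ∧ ∀ (W : X.Opens) (hWU : W ≤ U) (hWV : W ≤ V), resf hWV g * resf hWU f₁ = 1 := by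
  classical
  obtain ⟨hfin, hcl⟩ := finite_compl_and_isClosed hdim U.isOpen hgen
  obtain ⟨f₀, hf₀⟩ := exists_locInv hdim U hU hgen
  have hex : ∀ x : ↥((U : Set X)ᶜ), ∃ (M : ℕ) (T : X.Opens) (g₁ : Γ(X, T)), 1 ≤ M ∧ x.1 ∈ T ∧ x.1 ∉ X.basicOpen g₁ ∧
      resf (inf_le_left : T ⊓ U ≤ T) g₁ * resf (inf_le_right : T ⊓ U ≤ U) (f₀ ^ M) = 1 := fun x =>
    exists_local_inverse hdim U hU hgen f₀ x.1 x.2 (hf₀ x.1 x.2)
  choose M T g₁ hM hxT hxg hmul using hex
  haveI : Fintype ↥((U : Set X)ᶜ) := hfin.fintype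
  refine ⟨f₀ ^ (∏ x, M x), fun x₀ hx₀ => ?_⟩
  obtain ⟨x, rfl⟩ : ∃ x : ↥((U : Set X)ᶜ), x.1 = x₀ := ⟨⟨x₀, hx₀⟩, rfl⟩
  set k : ℕ := ∏ y ∈ Finset.univ.erase x, M y with hk
  have hk1 : 0 < k := Finset.prod_pos (fun y _ => hM y)
  have hMk : ∏ y, M y = M x * k := (Finset.mul_prod_erase Finset.univ M (Finset.mem_univ x)).symm
  -- the closed set of the other bad points
  have hC : IsClosed ((U : Set X)ᶜ \ {x.1}) := hcl _ Set.sdiff_subset
  let V : X.Opens := T x ⊓ ⟨((U : Set X)ᶜ \ {x.1})ᶜ, hC.isOpen_compl⟩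
  have hVT : V ≤ T x := inf_le_left
  have hxV : x.1 ∈ V := ⟨hxT x, fun h => h.2 rfl⟩
  have hV : ∀ y ∈ V, y ∉ U → y = x.1 := by
    intro y hyV hyU
    by_contra hne
    exact hyV.2 ⟨hyU, hne⟩
  have hmul' : ∀ (W : X.Opens) (hWU : W ≤ U) (hWV : W ≤ V),
      resf hWV (resf hVT (g₁ x ^ k)) * resf hWU (f₀ ^ (∏ y, M y)) = 1 := by
    intro W hWU hWV
    have hWTU : W ≤ T x ⊓ U := fun z hz => ⟨hVT (hWV hz), hWU hz⟩
    have h1 := congrArg (resf hWTU) (hmul x)
    rw [r_mul, r_r, r_r, r_one] at h1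
    rw [r_r, hMk, pow_mul, r_pow, r_pow, ← mul_pow, h1, one_pow]
  refine ⟨V, resf hVT (g₁ x ^ k), hxV, hV, ?_, hmul'⟩
  apply le_antisymm
  · intro y hy
    have hyV : y ∈ V := X.basicOpen_le _ hy
    refine ⟨?_, hyV⟩
    by_contra hyU
    have hyx := hV y hyV hyU
    rw [Scheme.basicOpen_res, Scheme.basicOpen_pow _ _ hk1] at hy
    rw [hyx] at hy
    exact hxg x hy.2
  · intro y hy
    have h1 := hmul' (U ⊓ V) inf_le_left inf_le_right
    have hu : IsUnit (resf (inf_le_right : U ⊓ V ≤ V) (resf hVT (g₁ x ^ k))) := IsUnit.of_mul_eq_one _ h1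
    have h2 := X.basicOpen_of_isUnit hu
    rw [X.basicOpen_res] at h2
    have : y ∈ (U ⊓ V) ⊓ X.basicOpen (resf hVT (g₁ x ^ k)) := by rw [h2]; exact hy
    exact this.2

/-- **Generalisation of Stacks 09NX** to Noetherian separated schemes of dimension `≤ 1`. -/
theorem exists_globallyGenerated_invertible_of_dim_le_one [IsNoetherian X] [X.IsSeparated]
    (hdim : topologicalKrullDim X ≤ 1) (U : X.Opens) (hU : IsAffineOpen U) (hgen : genPts X ⊆ U) :
    ∃ (L : X.Modules) (s : Coh.structureModule X ⟶ L), PicF.IsInvertible L ∧ Curv2.IsGloballyGenerated L ∧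
      CohB1.genLocus L s = U := by
  classical
  obtain ⟨f₀, hex'⟩ := exists_local_equations hdim U hU hgen
  have hex : ∀ x : ↥((U : Set X)ᶜ), ∃ (V : X.Opens) (g : Γ(X, V)), x.1 ∈ V ∧ (∀ y ∈ V, y ∉ U → y = x.1) ∧
      X.basicOpen g = U ⊓ V ∧ ∀ (W : X.Opens) (hWU : W ≤ U) (hWV : W ≤ V), resf hWV g * resf hWU f₀ = 1 :=
    fun x => hex' x.1 x.2
  choose V g hxV hV hbo hmul using hex
  let T : Option ↥((U : Set X)ᶜ) → X.Opens := fun i => i.elim U V
  let gg : ∀ i, Γ(X, T i) := fun i =>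
    Option.rec (motive := fun i => Γ(X, T i)) (1 : Γ(X, U)) (fun x => g x) i
  let hh : ∀ i, Γ(X, T i) := fun i =>
    Option.rec (motive := fun i => Γ(X, T i)) f₀ (fun x => (1 : Γ(X, V x))) i
  have r1 : ∀ {A B : X.Opens} (h : B ≤ A), resf h (1 : Γ(X, A)) = 1 := fun h => map_one _
  have hg : ∀ i, X.basicOpen (gg i) = U ⊓ T i := by
    rintro (_ | x)
    · change X.basicOpen (1 : Γ(X, U)) = U ⊓ U
      rw [inf_idem, Scheme.basicOpen_one]
    · exact hbo x
  have hTU : ∀ i j, i ≠ j → T i ⊓ T j ≤ U := by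
    rintro (_ | x) (_ | y) hij
    · exact absurd rfl hij
    · exact inf_le_left
    · exact inf_le_right
    · intro z hz
      by_contra hzU
      have h1 := hV x z hz.1 hzU
      have h2 := hV y z hz.2 hzU
      exact hij (congrArg some (Subtype.ext (h1.symm.trans h2)))
  have hgh : ∀ i j, resf (inf_le_left : T i ⊓ T j ≤ T i) (hh i) * resf (inf_le_right : T i ⊓ T j ≤ T j) (gg j) =
      resf (inf_le_right : T i ⊓ T j ≤ T j) (hh j) * resf (inf_le_left : T i ⊓ T j ≤ T i) (gg i) := by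
    rintro (_ | x) (_ | y)
    · rfl
    · change resf (inf_le_left : U ⊓ V y ≤ U) f₀ * resf (inf_le_right : U ⊓ V y ≤ V y) (g y) =
        resf (inf_le_right : U ⊓ V y ≤ V y) 1 * resf (inf_le_left : U ⊓ V y ≤ U) 1
      rw [r1, r1, mul_one, mul_comm]
      exact hmul y (U ⊓ V y) inf_le_left inf_le_right
    · change resf (inf_le_left : V x ⊓ U ≤ V x) 1 * resf (inf_le_right : V x ⊓ U ≤ U) 1 =
        resf (inf_le_right : V x ⊓ U ≤ U) f₀ * resf (inf_le_left : V x ⊓ U ≤ V x) (g x)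
      rw [r1, r1, mul_one, mul_comm]
      exact (hmul x (V x ⊓ U) inf_le_right inf_le_left).symm
    · change resf (inf_le_left : V x ⊓ V y ≤ V x) 1 * resf (inf_le_right : V x ⊓ V y ≤ V y) (g y) =
        resf (inf_le_right : V x ⊓ V y ≤ V y) 1 * resf (inf_le_left : V x ⊓ V y ≤ V x) (g x)
      rw [r1, r1, one_mul, one_mul]
      by_cases hxy : x = y
      · subst hxy
        rfl
      · have hWU : V x ⊓ V y ≤ U := hTU (some x) (some y) (fun h => hxy (Option.some.inj h))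
        have e1 := hmul x (V x ⊓ V y) hWU inf_le_left
        have e2 := hmul y (V x ⊓ V y) hWU inf_le_right
        calc resf (inf_le_right : V x ⊓ V y ≤ V y) (g y)
            = resf (inf_le_right : V x ⊓ V y ≤ V y) (g y) *
                (resf (inf_le_left : V x ⊓ V y ≤ V x) (g x) * resf hWU f₀) := by rw [e1, mul_one]
          _ = resf (inf_le_left : V x ⊓ V y ≤ V x) (g x) *
                (resf (inf_le_right : V x ⊓ V y ≤ V y) (g y) * resf hWU f₀) := by ring
          _ = resf (inf_le_left : V x ⊓ V y ≤ V x) (g x) := by rw [e2, mul_one]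
  have hT : iSup T = ⊤ := by
    rw [eq_top_iff]
    intro z _
    by_cases hz : z ∈ U
    · exact Opens.mem_iSup.2 ⟨none, hz⟩
    · exact Opens.mem_iSup.2 ⟨some ⟨z, hz⟩, hxV ⟨z, hz⟩⟩
  obtain ⟨L, s, τ, hL, hs, hτ⟩ := exists_invertible_two_sections U T gg hh hg hTU hgh hT
  refine ⟨L, s, hL, ?_, hs⟩
  refine isGloballyGenerated_of_forall_mem_genLocus L (fun z => ?_)
  by_cases hz : z ∈ U
  · exact ⟨s, hs ▸ hz⟩
  · refine ⟨τ, ?_⟩
    have h1 : CohB1.genLocus L τ ⊓ V ⟨z, hz⟩ = X.basicOpen (1 : Γ(X, V ⟨z, hz⟩)) := hτ (some ⟨z, hz⟩)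
    rw [Scheme.basicOpen_one] at h1
    have h2 : z ∈ CohB1.genLocus L τ ⊓ V ⟨z, hz⟩ := by rw [h1]; exact hxV ⟨z, hz⟩
    exact h2.1

end Groth.Agent.Lib.T2H6.AmpCurve
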