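import Groth.Agent.Lib.T2H6VAmpleG
import Groth.Agent.Lib.T2H5PnOverB
import Groth.Agent.Lib.Helper13ProjQuotIdeal
import Groth.Agent.Lib.Helper27RelProj4
import Groth.Agent.S9705
import Groth.Agent.Lib.Helper27ProjGamma2

/-!
# helper6 (team 2): a proper scheme over `Spec A` with an ample module is `Proj` of a graded quotient of a polynomial ring
-/

set_option autoImplicit false
set_option linter.unusedSectionVars false
set_option linter.style.haveILetI false
universe u

open CategoryTheory CategoryTheory.Limits AlgebraicGeometry TopologicalSpace Opposite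

namespace Groth.Agent.Lib.T2H6.ProjOfAmple

open Groth.Agent.Helper13GradedQuot Groth.Agent.Helper13ProjQuotIdeal

section quot

variable {R A : Type u} [CommRing R] [CommRing A] [Algebra R A] {𝒜 : ℕ → Submodule R A}
  [GradedAlgebra 𝒜]
variable {ι : Type u} {f : ι → A} (hf : ∀ i, f i ∈ 𝒜 1)

include hf in
/-- explicit form of `exists_proj_quot`: the graded quotient is `A ⧸ J` with the quotient grading. -/
theorem exists_proj_quot' [Finite ι] (hcov : ⨆ i, Proj.basicOpen 𝒜 (f i) = ⊤) {Z : Scheme.{u}}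
    (i : Z ⟶ Proj 𝒜) [IsClosedImmersion i] :
    ∃ (J : Ideal A) (hJ : J.IsHomogeneous 𝒜),
      letI : GradedAlgebra (qgr 𝒜 J) := gradedAlgebraQuot 𝒜 J hJ
      ∃ (hφ : HomogeneousIdeal.irrelevant (qgr 𝒜 J) ≤ (HomogeneousIdeal.irrelevant 𝒜).map (quotHom 𝒜 J))
        (e : Z ≅ Proj (qgr 𝒜 J)), e.hom ≫ Proj.map (quotHom 𝒜 J) hφ = i := by
  refine ⟨(J hf i.ker).toIdeal, (J hf i.ker).isHomogeneous, ?_⟩
  letI : GradedAlgebra (qgr 𝒜 (J hf i.ker).toIdeal) :=
    gradedAlgebraQuot 𝒜 (J hf i.ker).toIdeal (J hf i.ker).isHomogeneous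
  have hsurj := quotHom_surjective 𝒜 (J hf i.ker).toIdeal
  have hφ := irrelevant_le_map (quotHom 𝒜 (J hf i.ker).toIdeal) hsurj
  haveI : IsClosedImmersion (Proj.map (quotHom 𝒜 (J hf i.ker).toIdeal) hφ) :=
    Groth.Agent.Lib.Helper27ProjClosed.isClosedImmersion_map _ hsurj hφ
  have hker : (Proj.map (quotHom 𝒜 (J hf i.ker).toIdeal) hφ).ker = i.ker := by
    refine Scheme.IdealSheafData.ext_of_iSup_eq_top (Uaff hf) hcov (fun j => ?_)
    rw [Scheme.Hom.ker_apply]
    ext x
    obtain ⟨k, a, ha, rfl⟩ := exists_dehom_eq hf j x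
    rw [RingHom.mem_ker]
    refine (map_app_dehom_eq_zero_iff _ hφ (hf j) ha).trans ?_
    refine Iff.trans ?_ (dehom_mem_iff hf i.ker j ha).symm
    simp only [quotHom_eq_zero_iff]
  haveI := IsClosedImmersion.isIso_lift (Proj.map (quotHom 𝒜 (J hf i.ker).toIdeal) hφ) i hker
  exact ⟨hφ,
    asIso (IsClosedImmersion.lift (Proj.map (quotHom 𝒜 (J hf i.ker).toIdeal) hφ) i hker.le),
    IsClosedImmersion.lift_fac _ _ _⟩

end quot

section main

open Groth.Agent.Lib.T2H5.PnOver

variable {A : Type u} [CommRing A] {X : Scheme.{u}}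

/-- a proper scheme over `Spec A` with an ample module is a closed subscheme of some `P^m_A`. -/
theorem exists_closedImmersion_projSpace (f : X ⟶ Spec (CommRingCat.of A)) [IsProper f]
    (L : X.Modules) (hL : CohB1.IsAmple L) :
    ∃ (m : ℕ) (j : X ⟶ CohB1.ProjSpace m A), IsClosedImmersion j ∧
      j ≫ CohB1.ProjSpace.toSpec m A = f := by
  obtain ⟨m, i₀, himm, hcomp⟩ := Groth.Agent.Lib.T2H6.VAmpleG.exists_immersion_of_isAmple f L hL
  let R₀ := ULift.{u} ℤ
  let ι₀ : R₀ →+* A := (Int.castRingHom A).comp (ULift.ringEquiv : ULift.{u} ℤ ≃+* ℤ).toRingHom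
  letI : Algebra R₀ A := ι₀.toAlgebra
  let P := pullback (CohB1.ProjSpace.toSpec m R₀)
    (specULiftZIsTerminal.from (Spec (CommRingCat.of A)))
  let i : X ⟶ P := i₀
  let p : P ⟶ Spec (CommRingCat.of A) := pullback.snd _ _
  have hip : i ≫ p = f := hcomp
  haveI hp : IsProper p := Groth.Agent.S9705.isProper_toBase m _
  haveI : IsImmersion i := himm
  haveI : IsProper (i ≫ p) := by rw [hip]; infer_instance
  haveI : IsProper i := IsProper.of_comp i p
  haveI : IsClosedImmersion i := by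
    rw [IsClosedImmersion.iff_isProper_and_mono]; exact ⟨inferInstance, inferInstance⟩
  have hfrom : specULiftZIsTerminal.from (Spec (CommRingCat.of A)) =
      Spec.map (CommRingCat.ofHom (algebraMap R₀ A)) := specULiftZIsTerminal.hom_ext _ _
  have h1 : IsPullback (pullback.fst _ _ : P ⟶ _) p (CohB1.ProjSpace.toSpec m R₀)
      (Spec.map (CommRingCat.ofHom (algebraMap R₀ A))) :=
    (congrArg (fun g' => IsPullback (pullback.fst _ _ : P ⟶ _) p (CohB1.ProjSpace.toSpec m R₀) g')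
      hfrom).mp (IsPullback.of_hasPullback _ _)
  have h2 := isPullback_phi R₀ A m
  let c : P ≅ Proj (gA R₀ A m) := h1.isoIsPullback _ _ h2
  have hc : c.hom ≫ toSpecA R₀ A m = p := h1.isoIsPullback_hom_snd _ _ h2
  let d : Proj (gA R₀ A m) ⟶ CohB1.ProjSpace m A :=
    Proj.map (idTo R₀ (CohB1.polyGrading m A)) (irr_to R₀ (CohB1.polyGrading m A))
  haveI : IsIso d := isIso_map_idTo R₀ _
  have hd : d ≫ CohB1.ProjSpace.toSpec m A = toSpecA R₀ A m :=
    Groth.Agent.Lib.Helper27RelProj4.map_toSpecZero (idTo R₀ (CohB1.polyGrading m A))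
      (irr_to R₀ (CohB1.polyGrading m A)) (algebraMap A (CohB1.polyGrading m A 0)) (zA R₀ A m)
      (fun r => rfl)
  refine ⟨m, i ≫ c.hom ≫ d, inferInstance, ?_⟩
  rw [Category.assoc, Category.assoc, hd, hc, hip]

/-- a closed subscheme of `P^m_A` is `Proj` of a graded quotient of the polynomial ring, over `Spec A`. -/
theorem exists_proj_of_closedImmersion (m : ℕ) (j : X ⟶ CohB1.ProjSpace m A) [IsClosedImmersion j] :
    ∃ (S : Type u) (_ : CommRing S) (_ : Algebra A S) (𝒮 : ℕ → Submodule A S) (_ : GradedAlgebra 𝒮)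
      (s : Finset S),
      Function.Surjective (algebraMap A (𝒮 0)) ∧ (∀ g ∈ s, g ∈ 𝒮 1) ∧
      (HomogeneousIdeal.irrelevant 𝒮).toIdeal = Ideal.span (s : Set S) ∧
      ∃ e : X ≅ Proj 𝒮, e.hom ≫ Proj.toSpecZero 𝒮 ≫
        Spec.map (CommRingCat.ofHom (algebraMap A (𝒮 0))) = j ≫ CohB1.ProjSpace.toSpec m A := by
  classical
  let g : ULift.{u} (Fin (m + 1)) → MvPolynomial (Fin (m + 1)) A := fun k => MvPolynomial.X k.down
  have hg : ∀ k, g k ∈ CohB1.polyGrading m A 1 := fun k =>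
    Groth.Agent.Lib.Helper27ProjGamma.hX m A k.down
  have hrange : Set.range g = Set.range (fun k : Fin (m + 1) =>
      (MvPolynomial.X k : MvPolynomial (Fin (m + 1)) A)) := by
    ext x
    constructor
    · rintro ⟨k, rfl⟩; exact ⟨k.down, rfl⟩
    · rintro ⟨k, rfl⟩; exact ⟨⟨k⟩, rfl⟩
  have hirr := Groth.Agent.Lib.Helper27ProjGamma.irrelevant_le m A
  have hcov : ⨆ k, Proj.basicOpen (CohB1.polyGrading m A) (g k) = ⊤ :=
    Proj.iSup_basicOpen_eq_top _ g (by rw [hrange]; exact hirr)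
  let j' : X ⟶ Proj (CohB1.polyGrading m A) := j
  haveI : IsClosedImmersion j' := ‹IsClosedImmersion j›
  obtain ⟨J, hJ, h⟩ := exists_proj_quot' (𝒜 := CohB1.polyGrading m A) hg hcov j'
  letI : GradedAlgebra (qgr (CohB1.polyGrading m A) J) := gradedAlgebraQuot (CohB1.polyGrading m A) J hJ
  obtain ⟨hφ, e, he⟩ := h
  refine ⟨MvPolynomial (Fin (m + 1)) A ⧸ J, inferInstance, inferInstance, qgr (CohB1.polyGrading m A) J,
    gradedAlgebraQuot (CohB1.polyGrading m A) J hJ,
    Finset.univ.image (fun k : Fin (m + 1) => Ideal.Quotient.mk J (MvPolynomial.X k)), ?_, ?_, ?_, e, ?_⟩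
  · rintro ⟨b, hb⟩
    obtain ⟨a, ha, rfl⟩ := (mem_qgr (CohB1.polyGrading m A) J 0 b).1 hb
    have hz : a ∈ (1 : Submodule A (MvPolynomial (Fin (m + 1)) A)) := by
      rw [← MvPolynomial.homogeneousSubmodule_zero]
      exact ha
    rw [Submodule.mem_one] at hz
    obtain ⟨r, rfl⟩ := hz
    refine ⟨r, Subtype.ext ?_⟩
    rw [SetLike.GradeZero.coe_algebraMap]
    rfl
  · intro b hb
    obtain ⟨k, -, rfl⟩ := Finset.mem_image.1 hb
    exact mk_mem_qgr (CohB1.polyGrading m A) J (Groth.Agent.Lib.Helper27ProjGamma.hX m A k)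
  · apply le_antisymm
    · have h1 : (HomogeneousIdeal.irrelevant (qgr (CohB1.polyGrading m A) J)).toIdeal ≤
          ((HomogeneousIdeal.irrelevant (CohB1.polyGrading m A)).map
            (quotHom (CohB1.polyGrading m A) J)).toIdeal := hφ
      rw [HomogeneousIdeal.toIdeal_map] at h1
      refine h1.trans ?_
      refine (Ideal.map_mono hirr).trans ?_
      rw [Ideal.map_span, Ideal.span_le]
      rintro _ ⟨_, ⟨k, rfl⟩, rfl⟩
      refine Ideal.subset_span ?_
      rw [Finset.coe_image]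
      exact ⟨k, Finset.mem_coe.2 (Finset.mem_univ k), rfl⟩
    · rw [Ideal.span_le]
      intro b hb
      rw [Finset.coe_image] at hb
      obtain ⟨k, -, rfl⟩ := hb
      exact HomogeneousIdeal.mem_irrelevant_of_mem _ Nat.one_pos
        (mk_mem_qgr (CohB1.polyGrading m A) J (Groth.Agent.Lib.Helper27ProjGamma.hX m A k))
  · have h2 := Groth.Agent.Lib.Helper27RelProj4.map_toSpecZero (quotHom (CohB1.polyGrading m A) J) hφ
      (algebraMap A (CohB1.polyGrading m A 0))
      (algebraMap A (qgr (CohB1.polyGrading m A) J 0)) (fun r => rfl)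
    have he' : e.hom ≫ Proj.map (quotHom (CohB1.polyGrading m A) J) hφ = j' := he
    change _ = j' ≫ (Proj.toSpecZero (CohB1.polyGrading m A) ≫
      Spec.map (CommRingCat.ofHom (algebraMap A (CohB1.polyGrading m A 0))))
    rw [← he', Category.assoc, h2]

end main

end Groth.Agent.Lib.T2H6.ProjOfAmple
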