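import Mathlib
import Groth.Agent.S1664
import Groth.Agent.Lib.T2H6AmpCurveF
import Groth.Agent.Lib.T2H6AffPtsB
import Groth.Agent.Lib.T2H6ProjOfAmple
set_option backward.isDefEq.respectTransparency.types false

/-!
# Ample invertible modules on one-dimensional Noetherian separated schemes, part G (helper6)

Existence of an ample invertible module in dimension `≤ 1`, and immersions into `P^m_A`.
-/

set_option autoImplicit false
set_option linter.style.haveILetI false
set_option linter.unusedVariables false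
set_option linter.unusedSectionVars false
universe u
open CategoryTheory CategoryTheory.Limits AlgebraicGeometry TopologicalSpace Opposite

namespace Groth.Agent.Lib.T2H6.AmpCurve

open Groth.Agent.Lib.T2H6.PicLift

/-- **Stacks 09NZ** for dimension `≤ 1`. -/
theorem exists_ample_of_dim_le_one (X : Scheme.{u}) [IsNoetherian X] [X.IsSeparated]
    (hdim : topologicalKrullDim X ≤ 1) : ∃ L : X.Modules, CohB1.IsAmple L := by
  classical
  apply Groth.Agent.S1664.result X
  intro x
  have hgfin : (genPts X).Finite := finite_genPts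
  have hirr : ∀ U : X.Opens, IsCompact (U : Set X) → (irreducibleComponents (U : Set X)).Finite :=
    fun U _ => TopologicalSpace.NoetherianSpace.finite_irreducibleComponents
  obtain ⟨U, hU, hUs⟩ := Groth.Agent.Lib.T2H6.AffPts.exists_affine_of_separated X hirr
    (insert x hgfin.toFinset) (fun y _ => ⟨inferInstance,
      (Groth.Agent.Lib.Helper4.FibDim.ringKrullDim_stalk_le_topologicalKrullDim X y).trans hdim⟩)
  have hxU : x ∈ U := hUs x (Finset.mem_insert_self _ _)
  have hgenU : genPts X ⊆ U := fun η hη =>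
    hUs η (Finset.mem_insert_of_mem (hgfin.mem_toFinset.2 hη))
  obtain ⟨L, s, hL, hgg, hs⟩ := exists_globallyGenerated_invertible_of_dim_le_one hdim U hU hgenU
  exact ⟨L, s, hL, hgg, hs ▸ hxU, hs ▸ hU⟩

/-- a scheme of finite type over a Noetherian affine scheme is Noetherian. -/
theorem isNoetherian_of_finiteType {A : Type u} [CommRing A] [IsNoetherianRing A] {X : Scheme.{u}}
    (f : X ⟶ Spec (CommRingCat.of A)) [LocallyOfFiniteType f] [QuasiCompact f] : IsNoetherian X :=
  { toIsLocallyNoetherian := LocallyOfFiniteType.isLocallyNoetherian f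
    toCompactSpace := QuasiCompact.compactSpace_of_compactSpace f }

/-- a scheme separated over an affine scheme is separated. -/
theorem isSeparated_of_over_affine {A : Type u} [CommRing A] {X : Scheme.{u}}
    (f : X ⟶ Spec (CommRingCat.of A)) [IsSeparated f] : X.IsSeparated := by
  have h : IsSeparated (f ≫ terminal.from (Spec (CommRingCat.of A))) := inferInstance
  rw [terminal.comp_from] at h
  exact ⟨h⟩

section proj

open Groth.Agent.Lib.T2H5.PnOver

variable {A : Type u} [CommRing A] {X : Scheme.{u}}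

/-- `P^m_{Spec A}` (the base change of `P^m_ℤ`) is `P^m_A` over `Spec A`. -/
theorem exists_projSpaceOver_iso (m : ℕ) (A : Type u) [CommRing A] :
    ∃ e : CohB1.ProjSpaceOver m (Spec (CommRingCat.of A)) ≅ CohB1.ProjSpace m A,
      e.hom ≫ CohB1.ProjSpace.toSpec m A =
        pullback.snd (CohB1.ProjSpace.toSpec m (ULift.{u} ℤ))
          (specULiftZIsTerminal.from (Spec (CommRingCat.of A))) := by
  let R₀ := ULift.{u} ℤ
  let ι₀ : R₀ →+* A := (Int.castRingHom A).comp (ULift.ringEquiv : ULift.{u} ℤ ≃+* ℤ).toRingHom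
  letI : Algebra R₀ A := ι₀.toAlgebra
  let P := pullback (CohB1.ProjSpace.toSpec m R₀)
    (specULiftZIsTerminal.from (Spec (CommRingCat.of A)))
  let p : P ⟶ Spec (CommRingCat.of A) := pullback.snd _ _
  have hfrom : specULiftZIsTerminal.from (Spec (CommRingCat.of A)) =
      Spec.map (CommRingCat.ofHom (algebraMap R₀ A)) := specULiftZIsTerminal.hom_ext _ _
  have h1 : IsPullback (pullback.fst _ _ : P ⟶ _) p (CohB1.ProjSpace.toSpec m R₀)
      (Spec.map (CommRingCat.ofHom (algebraMap R₀ A))) :=
    (congrArg (fun g' => IsPullback (pullback.fst _ _ : P ⟶ _) p (CohB1.ProjSpace.toSpec m R₀) g')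
      hfrom).mp (IsPullback.of_hasPullback _ _)
  have h2 := isPullback_phi R₀ A m
  let c : P ≅ Proj (gA R₀ A m) := h1.isoIsPullback _ _ h2
  have hc : c.hom ≫ toSpecA R₀ A m = p := h1.isoIsPullback_hom_snd _ _ h2
  let d : Proj (gA R₀ A m) ⟶ CohB1.ProjSpace m A :=
    Proj.map (idTo R₀ (CohB1.polyGrading m A)) (irr_to R₀ (CohB1.polyGrading m A))
  haveI : IsIso d := isIso_map_idTo R₀ _
  have hd : d ≫ CohB1.ProjSpace.toSpec m A = toSpecA R₀ A m :=
    Groth.Agent.Lib.Helper27RelProj4.map_toSpecZero (idTo R₀ (CohB1.polyGrading m A))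
      (irr_to R₀ (CohB1.polyGrading m A)) (algebraMap A (CohB1.polyGrading m A 0)) (zA R₀ A m)
      (fun r => rfl)
  refine ⟨c ≪≫ asIso d, ?_⟩
  change (c.hom ≫ d) ≫ CohB1.ProjSpace.toSpec m A = p
  rw [Category.assoc, hd, hc]

/-- a scheme locally of finite type over `Spec A` with an ample module admits an immersion into some `P^m_A`. -/
theorem exists_immersion_projSpace (f : X ⟶ Spec (CommRingCat.of A)) [LocallyOfFiniteType f]
    (L : X.Modules) (hL : CohB1.IsAmple L) :
    ∃ (m : ℕ) (j : X ⟶ CohB1.ProjSpace m A), IsImmersion j ∧ j ≫ CohB1.ProjSpace.toSpec m A = f := by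
  obtain ⟨m, i₀, himm, hcomp⟩ := Groth.Agent.Lib.T2H6.VAmpleG.exists_immersion_of_isAmple f L hL
  obtain ⟨e, he⟩ := exists_projSpaceOver_iso m A
  haveI := himm
  refine ⟨m, i₀ ≫ e.hom, inferInstance, ?_⟩
  rw [Category.assoc, he, hcomp]

end proj

end Groth.Agent.Lib.T2H6.AmpCurve
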