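import Mathlib
import Groth.Prelude.Def_ModSite
import Groth.Agent.Lib.Helper21ModTensor7
import Groth.Agent.Lib.Helper21FlatCalc

/-!
# T2H6KillA: modules killed by an "ideal", formal theory on a ringed site (helper6)

For a sheaf of commutative rings `O` on a small site, an `O`-module `B` with an epimorphism `π : O ⟶ B` (think:
`B = O/I`), we study the full subcategory of modules `A` for which `ρ_A : A ⟶ A ⊗ B` is an isomorphism ("killed by
`I`"): closure under subobjects, quotients, and the relation with the internal hom `Φ = Hom_O(B, -)`: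
`ev M : Φ M ⟶ M` is a monomorphism, `Φ M` is killed, and composition with `ev M` is a bijection
`Hom(A, Φ M) ≃ Hom(A, M)` for killed `A`.
-/

set_option autoImplicit false
set_option linter.style.haveILetI false
set_option linter.unusedSectionVars false
universe u
open CategoryTheory CategoryTheory.Limits Opposite

namespace Groth.Agent.Lib.T2H6.Kill

open Groth.Agent.Lib.Helper21.ModTensor3 Groth.Agent.Lib.Helper21.ModTensor5
  Groth.Agent.Lib.Helper21.ModTensor7

variable {C : Type u} [SmallCategory C] {J : GrothendieckTopology C} (O : Sheaf J CommRingCat.{u})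
variable (B : ModSite.Mod O) (π : ModSite.unit O ⟶ B)

/-- `A ⊗ π : A ⊗ O ⟶ A ⊗ B`, naturally in `A`. -/
noncomputable def Pi : tR O (ModSite.unit O) ⟶ tR O B := (ModSite.tensorBi O).flip.map π

theorem Pi_app (A : ModSite.Mod O) : (Pi O B π).app A = (tL O A).map π := rfl

/-- the right unit isomorphism `- ⊗ O ≅ 𝟭`. -/
noncomputable def rUnit : tR O (ModSite.unit O) ≅ 𝟭 (ModSite.Mod O) :=
  ((brd O).app (ModSite.unit O)).symm ≪≫ tLUnitIso O

/-- `ρ_A : A ⟶ A ⊗ B`. -/
noncomputable def rho : 𝟭 (ModSite.Mod O) ⟶ tR O B := (rUnit O).inv ≫ Pi O B π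

theorem rho_app (A : ModSite.Mod O) :
    (rho O B π).app A = (rUnit O).inv.app A ≫ (tL O A).map π := rfl

/-- `A` is killed by the kernel of `π` when `ρ_A` is an isomorphism. -/
def Killed (A : ModSite.Mod O) : Prop := IsIso ((rho O B π).app A)

instance epi_tL_map [Epi π] (A : ModSite.Mod O) : Epi ((tL O A).map π) := by
  haveI : (tL O A).PreservesEpimorphisms := preservesEpimorphisms_of_preservesColimitsOfShape _
  infer_instance

instance epi_rho [Epi π] (A : ModSite.Mod O) : Epi ((rho O B π).app A) := by
  rw [rho_app]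
  infer_instance

theorem killed_iff_isIso_map (A : ModSite.Mod O) :
    Killed O B π A ↔ IsIso ((tL O A).map π) := by
  unfold Killed
  rw [rho_app]
  constructor
  · intro h
    have : (tL O A).map π = (rUnit O).hom.app A ≫ ((rUnit O).inv.app A ≫ (tL O A).map π) := by
      rw [← Category.assoc, Iso.hom_inv_id_app, Category.id_comp]
    rw [this]
    infer_instance
  · intro h
    infer_instance

/-- the kernel sequence of `π`. -/
noncomputable def kerSC : ShortComplex (ModSite.Mod O) :=
  ShortComplex.mk (kernel.ι π) π (kernel.condition π)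

theorem kerSC_shortExact [Epi π] : (kerSC O B π).ShortExact := by
  haveI : Mono (kerSC O B π).f := inferInstanceAs (Mono (kernel.ι π))
  haveI : Epi (kerSC O B π).g := inferInstanceAs (Epi π)
  exact ShortComplex.ShortExact.mk (ShortComplex.exact_of_f_is_kernel _ (kernelIsKernel π))

theorem killed_iff_map_kernel_eq_zero [Epi π] (A : ModSite.Mod O) :
    Killed O B π A ↔ (tL O A).map (kernel.ι π) = 0 := by
  rw [killed_iff_isIso_map]
  have h := (Groth.Agent.Lib.Helper21.FlatCalc.exact_and_epi_of_rightExact (tL O A) (kerSC O B π)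
    (kerSC_shortExact O B π)).1
  have h2 : Mono ((tL O A).map π) ↔ (tL O A).map (kernel.ι π) = 0 := h.mono_g_iff
  constructor
  · intro hi
    exact h2.1 inferInstance
  · intro h0
    haveI := h2.2 h0
    exact isIso_of_mono_of_epi _

theorem killed_of_iso [Epi π] {A A' : ModSite.Mod O} (e : A ≅ A') (hA : Killed O B π A) :
    Killed O B π A' := by
  rw [killed_iff_map_kernel_eq_zero] at hA ⊢
  have h := ((ModSite.tensorBi O).map e.inv).naturality (kernel.ι π)
  -- (tL A').map j ≫ (e.inv ⊗ O) = (e.inv ⊗ I) ≫ (tL A).map j
  have h' : (tL O A').map (kernel.ι π) ≫ ((ModSite.tensorBi O).map e.inv).app (ModSite.unit O) = 0 := by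
    rw [h, hA, comp_zero]
  haveI : IsIso (((ModSite.tensorBi O).map e.inv).app (ModSite.unit O)) := by
    haveI : IsIso ((ModSite.tensorBi O).map e.inv) := inferInstance
    infer_instance
  exact (cancel_mono (((ModSite.tensorBi O).map e.inv).app (ModSite.unit O))).1 (h'.trans zero_comp.symm)

/-- subobjects of killed modules are killed -/
theorem killed_of_mono [Epi π] {A' A : ModSite.Mod O} (m : A' ⟶ A) [Mono m] (hA : Killed O B π A) :
    Killed O B π A' := by
  rw [killed_iff_map_kernel_eq_zero] at hA ⊢
  have h := ((ModSite.tensorBi O).map m).naturality (kernel.ι π)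
  have h' : (tL O A').map (kernel.ι π) ≫ ((ModSite.tensorBi O).map m).app (ModSite.unit O) = 0 := by
    rw [h, hA, comp_zero]
  -- `m ⊗ O` is a monomorphism, being conjugate to `m`
  have hn := (rUnit O).hom.naturality m
  haveI : Mono (((ModSite.tensorBi O).map m).app (ModSite.unit O)) := by
    have e : ((ModSite.tensorBi O).map m).app (ModSite.unit O) =
        (rUnit O).hom.app A' ≫ m ≫ (rUnit O).inv.app A := by
      have : ((ModSite.tensorBi O).map m).app (ModSite.unit O) ≫ (rUnit O).hom.app A =
          (rUnit O).hom.app A' ≫ m := hn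
      rw [← Category.assoc, ← this, Category.assoc, Iso.hom_inv_id_app]
      exact (Category.comp_id _).symm
    rw [e]
    infer_instance
  exact (cancel_mono (((ModSite.tensorBi O).map m).app (ModSite.unit O))).1 (h'.trans zero_comp.symm)

/-- quotients of killed modules are killed -/
theorem killed_of_epi [Epi π] {A A'' : ModSite.Mod O} (q : A ⟶ A'') [Epi q] (hA : Killed O B π A) :
    Killed O B π A'' := by
  rw [killed_iff_map_kernel_eq_zero] at hA ⊢
  have h := ((ModSite.tensorBi O).map q).naturality (kernel.ι π)
  -- (tL A).map j ≫ (q ⊗ O) = (q ⊗ I) ≫ (tL A'').map j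
  haveI : Epi (((ModSite.tensorBi O).map q).app (kernel π)) := by
    change Epi ((tR O (kernel π)).map q)
    haveI : (tR O (kernel π)).PreservesEpimorphisms := preservesEpimorphisms_of_preservesColimitsOfShape _
    infer_instance
  have h' : ((ModSite.tensorBi O).map q).app (kernel π) ≫ (tL O A'').map (kernel.ι π) = 0 := by
    rw [← h, hA, zero_comp]
  exact (cancel_epi (((ModSite.tensorBi O).map q).app (kernel π))).1 (h'.trans comp_zero.symm)

end Groth.Agent.Lib.T2H6.Kill
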