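import Mathlib
import Groth.Agent.Lib.T2H6KillA

/-!
# T2H6KillB: the internal hom out of `B = O/I` and relative injectives (helper6)

`ev M : Hom_O(B, M) ⟶ M`, `mono_ev`, `killed_sheafHom`, `bijective_comp_ev` and the notion `RelInj` of an object
of the "killed" subcategory which is injective relative to it; `relInj_sheafHom_of_injective`,
`RelInj.exists_retraction`, `RelInj.of_retract`.
-/

set_option autoImplicit false
set_option linter.style.haveILetI false
set_option linter.unusedSectionVars false
universe u
open CategoryTheory CategoryTheory.Limits Opposite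

namespace Groth.Agent.Lib.T2H6.Kill

open Groth.Agent.Lib.Helper21.ModTensor3 Groth.Agent.Lib.Helper21.ModTensor5
  Groth.Agent.Lib.Helper21.ModTensor7

variable {C : Type u} [SmallCategory C] {J : GrothendieckTopology C} (O : Sheaf J CommRingCat.{u})
variable (B : ModSite.Mod O) (π : ModSite.unit O ⟶ B) [ModSite.HasSheafHom B]

/-- evaluation at one: `Hom_O(B, M) ⟶ M`. -/
noncomputable def ev (M : ModSite.Mod O) : (ModSite.sheafHom B).obj M ⟶ M :=
  (rho O B π).app ((ModSite.sheafHom B).obj M) ≫ (ModSite.sheafHomAdj B).counit.app M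

theorem comp_ev {A M : ModSite.Mod O} (u : A ⟶ (ModSite.sheafHom B).obj M) :
    u ≫ ev O B π M = (rho O B π).app A ≫ ((ModSite.sheafHomAdj B).homEquiv A M).symm u := by
  unfold ev
  have h := (rho O B π).naturality u
  -- u ≫ ρ_{ΦM} = ρ_A ≫ (tR B).map u
  rw [← Category.assoc]
  have h' : u ≫ (rho O B π).app ((ModSite.sheafHom B).obj M) =
      (rho O B π).app A ≫ (tR O B).map u := h
  rw [h', Category.assoc, Adjunction.homEquiv_counit]

theorem ev_naturality {M M' : ModSite.Mod O} (f : M ⟶ M') :
    (ModSite.sheafHom B).map f ≫ ev O B π M' = ev O B π M ≫ f := by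
  unfold ev
  have h := (rho O B π).naturality ((ModSite.sheafHom B).map f)
  have h' : (ModSite.sheafHom B).map f ≫ (rho O B π).app ((ModSite.sheafHom B).obj M') =
      (rho O B π).app ((ModSite.sheafHom B).obj M) ≫ (tR O B).map ((ModSite.sheafHom B).map f) := h
  rw [← Category.assoc, h', Category.assoc, Category.assoc]
  congr 1
  exact (ModSite.sheafHomAdj B).counit.naturality f

instance mono_ev [Epi π] (M : ModSite.Mod O) : Mono (ev O B π M) := by
  constructor
  intro T u v huv
  rw [comp_ev, comp_ev, cancel_epi] at huv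
  exact ((ModSite.sheafHomAdj B).homEquiv T M).symm.injective huv

/-- for killed `A`, composition with `ev M` is a bijection `Hom(A, Φ M) ≃ Hom(A, M)` -/
theorem bijective_comp_ev {A : ModSite.Mod O} (hA : Killed O B π A) (M : ModSite.Mod O) :
    Function.Bijective (fun u : A ⟶ (ModSite.sheafHom B).obj M => u ≫ ev O B π M) := by
  haveI : IsIso ((rho O B π).app A) := hA
  have : (fun u : A ⟶ (ModSite.sheafHom B).obj M => u ≫ ev O B π M) =
      (fun w : (tR O B).obj A ⟶ M => (rho O B π).app A ≫ w) ∘
        ((ModSite.sheafHomAdj B).homEquiv A M).symm := by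
    funext u
    exact comp_ev O B π u
  rw [this]
  refine Function.Bijective.comp ?_ ((ModSite.sheafHomAdj B).homEquiv A M).symm.bijective
  constructor
  · intro w w' h
    exact (cancel_epi _).1 h
  · intro w
    exact ⟨inv ((rho O B π).app A) ≫ w, by simp⟩

theorem exists_lift_ev {A : ModSite.Mod O} (hA : Killed O B π A) {M : ModSite.Mod O} (w : A ⟶ M) :
    ∃ u : A ⟶ (ModSite.sheafHom B).obj M, u ≫ ev O B π M = w :=
  (bijective_comp_ev O B π hA M).2 w

/-- `Hom_O(B, M)` is killed -/
theorem killed_sheafHom [Epi π] (M : ModSite.Mod O) : Killed O B π ((ModSite.sheafHom B).obj M) := by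
  rw [killed_iff_map_kernel_eq_zero]
  set Φ := (ModSite.sheafHom B).obj M with hΦ
  -- enough after composing with the mono `(rUnit).hom ≫ ev`
  have h1 : (tL O Φ).map (kernel.ι π) ≫ (tL O Φ).map π = 0 := by
    rw [← Functor.map_comp, kernel.condition, Functor.map_zero]
  have h2 : (rUnit O).hom.app Φ ≫ ev O B π M =
      (tL O Φ).map π ≫ (ModSite.sheafHomAdj B).counit.app M := by
    unfold ev
    rw [rho_app, ← Category.assoc, ← Category.assoc, Iso.hom_inv_id_app, Category.id_comp]
  haveI : Mono ((rUnit O).hom.app Φ ≫ ev O B π M) := mono_comp _ _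
  apply (cancel_mono ((rUnit O).hom.app Φ ≫ ev O B π M)).1
  rw [h2, ← Category.assoc, h1, zero_comp, zero_comp]

/-- relative injectivity: `A` is killed and maps into it extend along monomorphisms of killed modules -/
structure RelInj (A : ModSite.Mod O) : Prop where
  killed : Killed O B π A
  ext : ∀ {X Y : ModSite.Mod O} (m : X ⟶ Y) [Mono m], Killed O B π Y → ∀ f : X ⟶ A,
    ∃ f' : Y ⟶ A, m ≫ f' = f

theorem relInj_sheafHom_of_injective [Epi π] (I : ModSite.Mod O) [Injective I] :
    RelInj O B π ((ModSite.sheafHom B).obj I) where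
  killed := killed_sheafHom O B π I
  ext := by
    intro X Y m _ hY f
    obtain ⟨g, hg⟩ := exists_lift_ev O B π hY (Injective.factorThru (f ≫ ev O B π I) m)
    refine ⟨g, ?_⟩
    apply (cancel_mono (ev O B π I)).1
    rw [Category.assoc, hg, Injective.comp_factorThru]

variable {O B π}

/-- a monomorphism from a relative injective into a killed module splits -/
theorem RelInj.exists_retraction {A Y : ModSite.Mod O} (hA : RelInj O B π A) (m : A ⟶ Y) [Mono m]
    (hY : Killed O B π Y) : ∃ r : Y ⟶ A, m ≫ r = 𝟙 A :=
  hA.ext m hY (𝟙 A)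

/-- retracts of relative injectives are relative injectives -/
theorem RelInj.of_retract [Epi π] {A A' : ModSite.Mod O} (hA : RelInj O B π A) (s : A' ⟶ A) (r : A ⟶ A')
    (hsr : s ≫ r = 𝟙 A') : RelInj O B π A' where
  killed := by
    haveI : Mono s := mono_of_mono_fac hsr
    exact killed_of_mono O B π s hA.killed
  ext := by
    intro X Y m _ hY f
    obtain ⟨g, hg⟩ := hA.ext m hY (f ≫ s)
    exact ⟨g ≫ r, by rw [← Category.assoc, hg, Category.assoc, hsr, Category.comp_id]⟩

theorem relInj_of_isZero [Epi π] {A : ModSite.Mod O} (hA : IsZero A) : RelInj O B π A where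
  killed := by
    rw [killed_iff_map_kernel_eq_zero]
    have : IsZero ((tL O A).obj (ModSite.unit O)) := by
      have h : IsZero ((tR O (ModSite.unit O)).obj A) :=
        Functor.map_isZero (tR O (ModSite.unit O)) hA
      exact h
    exact this.eq_of_tgt _ _
  ext := by
    intro X Y m _ hY f
    exact ⟨0, hA.eq_of_tgt _ _⟩

end Groth.Agent.Lib.T2H6.Kill
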