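import Mathlib
import Groth.Prelude.Def_ModSite2
import Groth.Agent.Lib.T2H6KillB
import Groth.Agent.Lib.Helper16DimShiftNat

/-!
# T2H6KillC: `Ext^r(G, W) ≅ Hom(G, ℰxt^r(B, W))` for `G` killed, when the lower `ℰxt^j(B, W)` vanish (helper6)

With `B = O/I` (an epimorphism `π : O ⟶ B`), `Φ = Hom_O(B, -)`: if `Φ W = 0` and `R^j Φ (W) = 0` for `0 < j < r = p + 1`,
there is a class `c ∈ Ext^r(R^r Φ (W), W)` such that `g ↦ g^* c` is a bijection `Hom(G, R^r Φ (W)) ≃ Ext^r(G, W)` for every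
`G` killed by `I` (Hartshorne III.7.4, in the relative-injective form).
-/

set_option autoImplicit false
set_option linter.style.haveILetI false
set_option linter.unusedSectionVars false
universe w u
open CategoryTheory CategoryTheory.Limits Opposite Abelian

namespace Groth.Agent.Lib.T2H6.Kill

open Groth.Agent.Lib.Helper16.DimShift

variable {C : Type u} [SmallCategory C] {J : GrothendieckTopology C} {O : Sheaf J CommRingCat.{u}}
variable {B : ModSite.Mod O} {π : ModSite.unit O ⟶ B} [ModSite.HasSheafHom B]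

/-- splitting off a relatively injective image -/
theorem split_of_relInj [Epi π] {X₁ X₂ X₃ : ModSite.Mod O} (a : X₁ ⟶ X₂) (b : X₂ ⟶ X₃) (w : a ≫ b = 0)
    [Mono a] (hex : (ShortComplex.mk a b w).Exact) (h₁ : RelInj O B π X₁) (h₂ : RelInj O B π X₂)
    (h₃ : Killed O B π X₃) :
    (∃ σ : cokernel b ⟶ X₃, σ ≫ cokernel.π b = 𝟙 _) ∧
      (∀ {G : ModSite.Mod O} (v : G ⟶ X₃), v ≫ cokernel.π b = 0 → ∃ w' : G ⟶ X₂, w' ≫ b = v) := by
  let e : X₂ ⟶ Abelian.image b := Abelian.factorThruImage b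
  let m : Abelian.image b ⟶ X₃ := Abelian.image.ι b
  have hem : e ≫ m = b := Abelian.image.fac b
  have wae : a ≫ e = 0 := by
    apply (cancel_mono m).1
    rw [Category.assoc, hem, w, zero_comp]
  -- the short exact sequence `X₁ → X₂ → image`
  let S' : ShortComplex (ModSite.Mod O) := ShortComplex.mk a e wae
  let φ : S' ⟶ ShortComplex.mk a b w :=
    { τ₁ := 𝟙 _
      τ₂ := 𝟙 _
      τ₃ := m
      comm₁₂ := by simp [S']
      comm₂₃ := by
        change 𝟙 _ ≫ b = e ≫ m
        rw [hem, Category.id_comp] }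
  haveI : Epi φ.τ₁ := inferInstanceAs (Epi (𝟙 X₁))
  haveI : IsIso φ.τ₂ := inferInstanceAs (IsIso (𝟙 X₂))
  haveI : Mono φ.τ₃ := inferInstanceAs (Mono m)
  have hS' : S'.Exact := (ShortComplex.exact_iff_of_epi_of_isIso_of_mono φ).2 hex
  haveI : Epi S'.g := inferInstanceAs (Epi e)
  obtain ⟨r, hr⟩ := h₁.exists_retraction a h₂.killed
  let spl : S'.Splitting := ShortComplex.Splitting.ofExactOfRetraction S' hS' r hr inferInstance
  have hsg : spl.s ≫ e = 𝟙 _ := spl.s_g
  have hN : RelInj O B π (Abelian.image b) := h₂.of_retract spl.s e hsg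
  obtain ⟨rm, hrm⟩ := hN.exists_retraction m h₃
  -- the short exact sequence `image → X₃ → coker`
  let S'' : ShortComplex (ModSite.Mod O) :=
    ShortComplex.mk (kernel.ι (cokernel.π b)) (cokernel.π b) (kernel.condition _)
  have hS'' : S''.Exact := ShortComplex.exact_of_f_is_kernel _ (kernelIsKernel _)
  haveI : Epi S''.g := inferInstanceAs (Epi (cokernel.π b))
  let spl' : S''.Splitting := ShortComplex.Splitting.ofExactOfRetraction S'' hS'' rm hrm inferInstance
  refine ⟨⟨spl'.s, spl'.s_g⟩, ?_⟩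
  intro G v hv
  refine ⟨kernel.lift (cokernel.π b) v hv ≫ spl.s, ?_⟩
  calc (kernel.lift (cokernel.π b) v hv ≫ spl.s) ≫ b
      = (kernel.lift (cokernel.π b) v hv ≫ spl.s) ≫ (e ≫ m) := by rw [hem]
    _ = kernel.lift (cokernel.π b) v hv ≫ (spl.s ≫ e) ≫ m := by simp only [Category.assoc]
    _ = kernel.lift (cokernel.π b) v hv ≫ m := by rw [hsg, Category.id_comp]
    _ = v := kernel.lift_ι _ _ _


instance sheafHom_preservesFiniteLimits : PreservesFiniteLimits (ModSite.sheafHom B) := by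
  haveI : (ModSite.sheafHom B).IsRightAdjoint := (ModSite.sheafHomAdj B).isRightAdjoint
  infer_instance

variable [HasInjectiveResolutions (ModSite.Mod O)] [HasExt.{w} (ModSite.Mod O)]

theorem subsingleton_ext_injective (G I : ModSite.Mod O) [Injective I] (q : ℕ) :
    Subsingleton (Ext.{w} G I (q + 1)) :=
  ⟨fun a b => by rw [a.eq_zero_of_injective, b.eq_zero_of_injective]⟩

/-- **Hartshorne III.7.4 (relative-injective form)**. -/
theorem exists_class [Epi π] (W : ModSite.Mod O) (p : ℕ)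
    (h0 : IsZero ((ModSite.sheafHom B).obj W))
    (hv : ∀ j : ℕ, j < p → IsZero (((ModSite.sheafHom B).rightDerived (j + 1)).obj W)) :
    ∃ c : Ext.{w} (((ModSite.sheafHom B).rightDerived (p + 1)).obj W) W (p + 1),
      ∀ G : ModSite.Mod O, Killed O B π G → Function.Bijective
        (fun g : G ⟶ ((ModSite.sheafHom B).rightDerived (p + 1)).obj W =>
          (Ext.mk₀ g).comp c (zero_add (p + 1))) := by
  let Φ := ModSite.sheafHom B
  let I : InjectiveResolution W := injectiveResolution W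
  let D : Data (ModSite.Mod O) := ofResolution I
  haveI hinj : ∀ k, Injective (D.J k) := fun k => I.injective k
  -- exactness of `Φ` on the data
  have hw : ∀ k, Φ.map (D.f k) ≫ Φ.map (D.g k) = 0 := fun k => by
    rw [← Φ.map_comp, D.w, Φ.map_zero]
  have hex : ∀ k, (ShortComplex.mk (Φ.map (D.f k)) (Φ.map (D.g k)) (hw k)).Exact := fun k =>
    (D.hS k).exact.map_of_mono_of_preservesKernel Φ (D.hS k).mono_f inferInstance
  haveI hmono : ∀ k, Mono (Φ.map (D.f k)) := fun k => by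
    haveI := (D.hS k).mono_f
    exact inferInstanceAs (Mono (Φ.map (ShortComplex.mk (D.f k) (D.g k) (D.w k)).f))
  have hepi : ∀ k, k < p → Epi (Φ.map (D.g k)) := by
    intro k hk
    have hz : IsZero (cokernel (Φ.map (gg I k))) :=
      IsZero.of_iso (hv k hk) (rightDerivedSuccIso Φ I k).symm
    have : cokernel.π (Φ.map (gg I k)) = 0 := hz.eq_of_tgt _ _
    exact Preadditive.epi_of_cokernel_zero this
  -- relative injectivity of the `Φ (Z k)`, `k ≤ p`
  have hJ : ∀ k, RelInj O B π (Φ.obj (D.J k)) := fun k =>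
    relInj_sheafHom_of_injective O B π (D.J k)
  have hRI : ∀ k, k ≤ p → RelInj O B π (Φ.obj (D.Z k)) := by
    intro k
    induction k with
    | zero => intro _; exact relInj_of_isZero h0
    | succ k ih =>
      intro hk
      have h1 := ih (by omega)
      haveI := hepi k (by omega)
      obtain ⟨r, hr⟩ := h1.exists_retraction (Φ.map (D.f k)) (hJ k).killed
      let S : ShortComplex (ModSite.Mod O) := ShortComplex.mk (Φ.map (D.f k)) (Φ.map (D.g k)) (hw k)
      let spl : S.Splitting :=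
        ShortComplex.Splitting.ofExactOfRetraction S (hex k) r hr (inferInstanceAs (Epi (Φ.map (D.g k))))
      exact (hJ k).of_retract spl.s (Φ.map (D.g k)) spl.s_g
  -- the splitting at level `p`
  obtain ⟨⟨σ, hσ⟩, hlift⟩ := split_of_relInj (π := π) (Φ.map (D.f p)) (Φ.map (D.g p)) (hw p) (hex p)
    (hRI p le_rfl) (hJ p) (killed_sheafHom O B π (D.Z (p + 1)))
  let eiso : (Φ.rightDerived (p + 1)).obj W ≅ cokernel (Φ.map (D.g p)) := rightDerivedSuccIso Φ I p
  let evZ : Φ.obj (D.Z (p + 1)) ⟶ D.Z (p + 1) := ev O B π (D.Z (p + 1))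
  let evJ : Φ.obj (D.J p) ⟶ D.J p := ev O B π (D.J p)
  have hevnat : Φ.map (D.g p) ≫ evZ = evJ ≫ D.g p := ev_naturality O B π (D.g p)
  refine ⟨(Ext.mk₀ (eiso.hom ≫ σ ≫ evZ)).comp (D.cls p) (zero_add (p + 1)), ?_⟩
  intro G hG
  obtain ⟨hs, hk⟩ := ds' G p D (fun k q => subsingleton_ext_injective G (D.J k) q)
  -- reduce to the cokernel
  have hfun : (fun g : G ⟶ (Φ.rightDerived (p + 1)).obj W =>
      (Ext.mk₀ g).comp ((Ext.mk₀ (eiso.hom ≫ σ ≫ evZ)).comp (D.cls p) (zero_add (p + 1)))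
        (zero_add (p + 1))) =
      (fun g' : G ⟶ cokernel (Φ.map (D.g p)) => D.δ G p (g' ≫ σ ≫ evZ)) ∘
        (fun g : G ⟶ (Φ.rightDerived (p + 1)).obj W => g ≫ eiso.hom) := by
    funext g
    change _ = D.δ G p ((g ≫ eiso.hom) ≫ σ ≫ evZ)
    rw [Data.δ_apply, ← Ext.comp_assoc_of_second_deg_zero, Ext.mk₀_comp_mk₀, Category.assoc]
  refine Eq.mpr (congrArg Function.Bijective hfun) ?_
  refine Function.Bijective.comp ?_ ⟨fun g g' h => (cancel_mono eiso.hom).1 h,
    fun g' => ⟨g' ≫ eiso.inv, by simp⟩⟩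
  have hker : ∀ x : G ⟶ D.Z (p + 1), D.δ G p x = 0 → ∃ a : G ⟶ D.J p, a ≫ D.g p = x := by
    intro x hx
    have : x ∈ (D.δ G p).ker := hx
    rw [hk] at this
    obtain ⟨a, ha⟩ := this
    exact ⟨a, ha⟩
  have hrange : ∀ a : G ⟶ D.J p, D.δ G p (a ≫ D.g p) = 0 := by
    intro a
    have : a ≫ D.g p ∈ (D.δ G p).ker := by
      rw [hk]
      exact ⟨a, rfl⟩
    exact this
  constructor
  · intro g₁ g₂ h
    have h' : D.δ G p ((g₁ - g₂) ≫ σ ≫ evZ) = 0 := by
      rw [Preadditive.sub_comp, map_sub, sub_eq_zero]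
      exact h
    obtain ⟨a, ha⟩ := hker _ h'
    obtain ⟨a', ha'⟩ := exists_lift_ev O B π hG a
    have h2 : (a' ≫ Φ.map (D.g p)) ≫ evZ = ((g₁ - g₂) ≫ σ) ≫ evZ := by
      rw [Category.assoc, hevnat, ← Category.assoc, ha', ha, Category.assoc]
    have h3 : a' ≫ Φ.map (D.g p) = (g₁ - g₂) ≫ σ := (cancel_mono evZ).1 h2
    have h4 : (g₁ - g₂) ≫ σ ≫ cokernel.π (Φ.map (D.g p)) = 0 := by
      rw [← Category.assoc, ← h3, Category.assoc, cokernel.condition, comp_zero]
    rw [hσ, Category.comp_id] at h4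
    exact sub_eq_zero.1 h4
  · intro y
    obtain ⟨u, hu⟩ := hs y
    obtain ⟨u', hu'⟩ := exists_lift_ev O B π hG u
    let g' : G ⟶ cokernel (Φ.map (D.g p)) := u' ≫ cokernel.π (Φ.map (D.g p))
    have hv0 : (u' - g' ≫ σ) ≫ cokernel.π (Φ.map (D.g p)) = 0 := by
      rw [Preadditive.sub_comp, Category.assoc, hσ, Category.comp_id, sub_self]
    obtain ⟨w', hw'⟩ := hlift (u' - g' ≫ σ) hv0
    refine ⟨g', ?_⟩
    have h5 : D.δ G p ((u' - g' ≫ σ) ≫ evZ) = 0 := by
      rw [← hw', Category.assoc, hevnat, ← Category.assoc]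
      exact hrange _
    have h6 : g' ≫ σ ≫ evZ = u' ≫ evZ - (u' - g' ≫ σ) ≫ evZ := by
      rw [Preadditive.sub_comp, Category.assoc]
      abel
    change D.δ G p (g' ≫ σ ≫ evZ) = y
    rw [h6, map_sub, h5, sub_zero, hu', hu]

end Groth.Agent.Lib.T2H6.Kill
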