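import Mathlib
import Groth.Agent.Lib.T2H6KillC
import Groth.Agent.Lib.T2H6ClosedFull
import Groth.Agent.Lib.Helper23Serre

/-!
# T2H6KillD: modules annihilated by the image of `j : K ⟶ O` (helper6)

A presheaf-level criterion for `A ⊗ j = 0`.
-/

set_option autoImplicit false
set_option linter.style.haveILetI false
set_option linter.unusedSectionVars false
universe u
open CategoryTheory CategoryTheory.Limits Opposite MonoidalCategory TensorProduct

namespace Groth.Agent.Lib.T2H6.Kill

open Groth.Agent.Lib.Helper21.ModTensor2 Groth.Agent.Lib.Helper21.ModTensor3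

section Pre

variable {C : Type u} [SmallCategory C] {R : Cᵒᵖ ⥤ CommRingCat.{u}}

/-- if every section in the image of `j : K ⟶ 𝟙` annihilates `A`, then `A ◁ j = 0`. -/
theorem whiskerLeft_eq_zero (A K : PresheafOfModules.{u} (R ⋙ forget₂ CommRingCat.{u} RingCat.{u}))
    (j : K ⟶ 𝟙_ (PresheafOfModules.{u} (R ⋙ forget₂ CommRingCat.{u} RingCat.{u})))
    (h : ∀ (X : Cᵒᵖ) (x : K.obj X) (a : A.obj X),
      (show (R.obj X) from (j.app X).hom x) • a = 0) : A ◁ j = 0 := by
  apply PresheafOfModules.hom_ext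
  intro X
  rw [PresheafOfModules.whiskerLeft_app]
  apply ModuleCat.MonoidalCategory.tensor_ext
  intro a x
  rw [ModuleCat.MonoidalCategory.whiskerLeft_apply]
  let r : R.obj X := (j.app X).hom x
  have h1 : a ⊗ₜ[R.obj X] r = (r • a) ⊗ₜ[R.obj X] (1 : R.obj X) := by
    rw [TensorProduct.smul_tmul, smul_eq_mul, mul_one]
  have h2 : r • a = 0 := h X x a
  have h3 : a ⊗ₜ[R.obj X] r = 0 := by rw [h1, h2, TensorProduct.zero_tmul]
  exact h3

end Pre


section Site

variable {C : Type u} [SmallCategory C] {J : GrothendieckTopology C} (O : Sheaf J CommRingCat.{u})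

/-- if every section in the image of `j : K ⟶ O` annihilates `A`, then `A ⊗ j = 0`. -/
theorem tL_map_eq_zero (A K : ModSite.Mod O) (j : K ⟶ ModSite.unit O)
    (h : ∀ (X : Cᵒᵖ) (x : K.val.obj X) (a : A.val.obj X),
      (show (O.obj.obj X) from (j.val.app X).hom x) • a = 0) : (tL O A).map j = 0 := by
  rw [tL_map]
  have h0 : ((fgt O).obj A ◁ (show (fgt O).obj K ⟶ 𝟙_ (PM O) from (fgt O).map j)) = 0 :=
    whiskerLeft_eq_zero ((fgt O).obj A) ((fgt O).obj K) _ h
  have h1 : ((fgt O).obj A ◁ (fgt O).map j : ((fgt O).obj A ⊗ (fgt O).obj K : PM O) ⟶ _) = 0 := h0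
  rw [h1, Functor.map_zero]
  rfl

end Site

section Sch

open AlgebraicGeometry

variable {X P : Scheme.{u}} (ι : X ⟶ P) [IsClosedImmersion ι]

/-- `B = ι_* O_X` as an `O_P`-module. -/
noncomputable abbrev BB : ModSite.Mod P.sheaf :=
  (Scheme.Modules.pushforward ι).obj (Coh.structureModule X)

/-- `π : O_P ⟶ ι_* O_X`. -/
noncomputable abbrev ππ : ModSite.unit P.sheaf ⟶ BB ι :=
  Groth.Agent.Lib.Helper23.Serre.unitPush ι

instance epi_ππ : Epi (ππ ι) := Groth.Agent.Lib.Helper23.Serre.epi_unitPush ι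

/-- **direct images along a closed immersion are killed by the ideal** -/
theorem killed_pushforward [ModSite.HasSheafHom (BB ι)] (F : X.Modules) :
    Killed P.sheaf (BB ι) (ππ ι) ((Scheme.Modules.pushforward ι).obj F) := by
  rw [killed_iff_map_kernel_eq_zero]
  apply tL_map_eq_zero
  intro U x a
  have h1 : (kernel.ι (ππ ι) ≫ ππ ι).val.app U = 0 := by
    rw [kernel.condition]
    rfl
  have h2 : ((ππ ι).val.app U).hom (((kernel.ι (ππ ι)).val.app U).hom x) = 0 :=
    congrArg (fun t => t.hom x) h1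
  let r : Γ(P, U.unop) := ((kernel.ι (ππ ι)).val.app U).hom x
  have h3 : (ι.app U.unop).hom r = 0 := h2
  change (show Γ(F, ι ⁻¹ᵁ U.unop) from ((ι.app U.unop).hom r • (show Γ(F, ι ⁻¹ᵁ U.unop) from a))) = 0
  rw [h3, zero_smul]

end Sch

end Groth.Agent.Lib.T2H6.Kill
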