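import Mathlib
import Groth.Agent.Lib.T2H6KillC

/-!
# T2H6KillE: Hartshorne III.7.4 in all degrees, including degree zero (helper6)

`exists_class'`: if `ℰxt^j(B, W) = 0` for `j < r`, there is a class `c ∈ Ext^r(ℰxt^r(B, W), W)` such
that `g ↦ g^* c` is a bijection `Hom(G, ℰxt^r(B, W)) → Ext^r(G, W)` for every module `G` killed by
the kernel of `π : O → B`.
-/

set_option autoImplicit false
set_option linter.style.haveILetI false
set_option linter.unusedSectionVars false
universe w u
open CategoryTheory CategoryTheory.Limits Opposite Abelian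

namespace Groth.Agent.Lib.T2H6.Kill

variable {C : Type u} [SmallCategory C] {J : GrothendieckTopology C} {O : Sheaf J CommRingCat.{u}}
variable {B : ModSite.Mod O} {π : ModSite.unit O ⟶ B} [ModSite.HasSheafHom B]
variable [HasInjectiveResolutions (ModSite.Mod O)] [HasExt.{w} (ModSite.Mod O)]

theorem exists_class_zero (W : ModSite.Mod O) :
    ∃ c : Ext.{w} (((ModSite.sheafHom B).rightDerived 0).obj W) W 0,
      ∀ G : ModSite.Mod O, Killed O B π G → Function.Bijective
        (fun g : G ⟶ ((ModSite.sheafHom B).rightDerived 0).obj W =>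
          (Ext.mk₀ g).comp c (zero_add 0)) := by
  let e : ((ModSite.sheafHom B).rightDerived 0).obj W ≅ (ModSite.sheafHom B).obj W :=
    (Functor.rightDerivedZeroIsoSelf (ModSite.sheafHom B)).app W
  refine ⟨Ext.mk₀ (e.hom ≫ ev O B π W), fun G hG => ?_⟩
  have h : (fun g : G ⟶ ((ModSite.sheafHom B).rightDerived 0).obj W =>
      (Ext.mk₀ g).comp (Ext.mk₀ (e.hom ≫ ev O B π W)) (zero_add 0)) =
      (Ext.mk₀ : (G ⟶ W) → Ext.{w} G W 0) ∘
        (fun u : G ⟶ (ModSite.sheafHom B).obj W => u ≫ ev O B π W) ∘
          (fun g : G ⟶ ((ModSite.sheafHom B).rightDerived 0).obj W => g ≫ e.hom) := by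
    funext g
    simp only [Function.comp_apply, Ext.mk₀_comp_mk₀, Category.assoc]
  rw [h]
  exact (Ext.mk₀_bijective G W).comp ((bijective_comp_ev O B π hG W).comp
    (e.homToEquiv (Z := G)).bijective)

theorem exists_class' [Epi π] (W : ModSite.Mod O) (r : ℕ)
    (hv : ∀ j : ℕ, j < r → IsZero (((ModSite.sheafHom B).rightDerived j).obj W)) :
    ∃ c : Ext.{w} (((ModSite.sheafHom B).rightDerived r).obj W) W r,
      ∀ G : ModSite.Mod O, Killed O B π G → Function.Bijective
        (fun g : G ⟶ ((ModSite.sheafHom B).rightDerived r).obj W =>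
          (Ext.mk₀ g).comp c (zero_add r)) := by
  cases r with
  | zero => exact exists_class_zero W
  | succ p =>
    refine exists_class W p ?_ (fun j hj => hv (j + 1) (by omega))
    exact (hv 0 (by omega)).of_iso
      ((Functor.rightDerivedZeroIsoSelf (ModSite.sheafHom B)).app W).symm

end Groth.Agent.Lib.T2H6.Kill
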