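import Mathlib
import Groth.Agent.Lib.T2H5HHLes2

/-!
# Dimension shifting for `Ext` and sheaf cohomology, linearly (T2H6)

* `finrank_four_term`: the alternating sum of dimensions in a four term exact sequence vanishes;
* `extδ`, `extPre`: the connecting map and the pull-back maps of `Ext(-, Y)` as linear maps, with
  `extδ_bijective` and `finrank_ext_one` (dimension of `Ext¹` from a presentation);
* `HH` side: `exact₁`, `exact₂` and `δLin_bijective`.
-/

set_option autoImplicit false
universe w v u

open CategoryTheory CategoryTheory.Limits Abelian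

namespace Groth.Agent.Lib.T2H6.ExtDual

section LinAlg

variable {k : Type*} [Field k] {A B C D : Type*} [AddCommGroup A] [Module k A]
  [AddCommGroup B] [Module k B] [AddCommGroup C] [Module k C] [AddCommGroup D] [Module k D]

/-- dimensions in a four term exact sequence `0 → A → B → C → D → 0`. -/
theorem finrank_four_term [FiniteDimensional k B] [FiniteDimensional k C]
    (f : A →ₗ[k] B) (g : B →ₗ[k] C) (h : C →ₗ[k] D) (hf : Function.Injective f)
    (hfg : LinearMap.ker g = LinearMap.range f) (hgh : LinearMap.ker h = LinearMap.range g)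
    (hh : Function.Surjective h) :
    Module.finrank k A + Module.finrank k C = Module.finrank k B + Module.finrank k D := by
  have h1 := LinearMap.finrank_range_add_finrank_ker g
  have h2 := LinearMap.finrank_range_add_finrank_ker h
  have h3 : Module.finrank k (LinearMap.range f) = Module.finrank k A :=
    LinearMap.finrank_range_of_inj hf
  have h4 : Module.finrank k (LinearMap.range h) = Module.finrank k D := by
    rw [LinearMap.range_eq_top.mpr hh, finrank_top]
  rw [hfg, h3] at h1
  rw [hgh, h4] at h2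
  omega

theorem finite_of_four_term [FiniteDimensional k C] (h : C →ₗ[k] D) (hh : Function.Surjective h) :
    FiniteDimensional k D :=
  Module.Finite.of_surjective h hh

end LinAlg

section ExtSide

variable {C : Type u} [Category.{v} C] [Abelian C] [HasExt.{w} C]
  (R : Type*) [CommRing R] [Linear R C]

/-- the connecting homomorphism of `Ext(-, Y)` as a linear map. -/
noncomputable def extδ {S : ShortComplex C} (hS : S.ShortExact) (Y : C) (i : ℕ) :
    Ext S.X₁ Y i →ₗ[R] Ext S.X₃ Y (i + 1) where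
  toFun x := hS.extClass.comp x (add_comm 1 i)
  map_add' _ _ := Ext.comp_add _ _ _ _
  map_smul' _ _ := Ext.comp_smul _ _ _ _

/-- pulling back along a morphism, as a linear map. -/
noncomputable def extPre {X X' : C} (f : X ⟶ X') (Y : C) (i : ℕ) :
    Ext X' Y i →ₗ[R] Ext X Y i where
  toFun x := (Ext.mk₀ f).comp x (zero_add i)
  map_add' _ _ := Ext.comp_add _ _ _ _
  map_smul' _ _ := Ext.comp_smul _ _ _ _

theorem extδ_bijective {S : ShortComplex C} (hS : S.ShortExact) (Y : C) (i : ℕ)
    (h₁ : Subsingleton (Ext S.X₂ Y i)) (h₂ : Subsingleton (Ext S.X₂ Y (i + 1))) :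
    Function.Bijective (extδ R hS Y i) := by
  constructor
  · rw [injective_iff_map_eq_zero]
    intro x hx
    obtain ⟨x₂, rfl⟩ := Ext.contravariant_sequence_exact₁ hS Y x (add_comm 1 i) hx
    rw [Subsingleton.elim x₂ 0, Ext.comp_zero]
  · intro x₃
    obtain ⟨x₁, hx₁⟩ := Ext.contravariant_sequence_exact₃ hS Y x₃
      (Subsingleton.elim _ _) (add_comm 1 i)
    exact ⟨x₁, hx₁⟩

theorem extδ_surjective {S : ShortComplex C} (hS : S.ShortExact) (Y : C) (i : ℕ)
    (h₂ : Subsingleton (Ext S.X₂ Y (i + 1))) :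
    Function.Surjective (extδ R hS Y i) := by
  intro x₃
  obtain ⟨x₁, hx₁⟩ := Ext.contravariant_sequence_exact₃ hS Y x₃
    (Subsingleton.elim _ _) (add_comm 1 i)
  exact ⟨x₁, hx₁⟩

theorem ker_extδ {S : ShortComplex C} (hS : S.ShortExact) (Y : C) (i : ℕ) :
    LinearMap.ker (extδ R hS Y i) = LinearMap.range (extPre R S.f Y i) := by
  ext x
  rw [LinearMap.mem_ker, LinearMap.mem_range]
  constructor
  · intro hx
    obtain ⟨x₂, hx₂⟩ := Ext.contravariant_sequence_exact₁ hS Y x (add_comm 1 i) hx
    exact ⟨x₂, hx₂⟩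
  · rintro ⟨x₂, rfl⟩
    change hS.extClass.comp ((Ext.mk₀ S.f).comp x₂ (zero_add i)) (add_comm 1 i) = 0
    rw [← Ext.comp_assoc_of_second_deg_zero, hS.extClass_comp, Ext.zero_comp]

theorem ker_extPre_f {S : ShortComplex C} (hS : S.ShortExact) (Y : C) (i : ℕ) :
    LinearMap.ker (extPre R S.f Y i) = LinearMap.range (extPre R S.g Y i) := by
  ext x
  rw [LinearMap.mem_ker, LinearMap.mem_range]
  constructor
  · intro hx
    obtain ⟨x₁, hx₁⟩ := Ext.contravariant_sequence_exact₂ hS Y x hx
    exact ⟨x₁, hx₁⟩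
  · rintro ⟨x₁, rfl⟩
    change (Ext.mk₀ S.f).comp ((Ext.mk₀ S.g).comp x₁ (zero_add i)) (zero_add i) = 0
    rw [← Ext.comp_assoc_of_second_deg_zero, Ext.mk₀_comp_mk₀, S.zero, Ext.mk₀_zero, Ext.zero_comp]

theorem extPre_g_injective_zero {S : ShortComplex C} (hS : S.ShortExact) (Y : C) :
    Function.Injective (extPre R S.g Y 0) := by
  have := hS.epi_g
  exact Ext.precomp_mk₀_injective_of_epi Y S.g

end ExtSide

section HHSide

open AlgebraicGeometry Groth.Agent.Lib.T2H5.HHLes Groth.Agent.Lib.Helper23.QCohLocal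

variable (A : Type u) [CommRing A] {X : Scheme.{u}} [X.Over (Spec (CommRingCat.of A))]

/-- exactness at `H^i(S.X₂)`. -/
theorem exact₂ (S : ShortComplex X.Modules) (hS : S.ShortExact) (i : ℕ) :
    LinearMap.ker (Canon.HHlin A S.g i) = LinearMap.range (Canon.HHlin A S.f i) := by
  ext x
  rw [LinearMap.mem_ker, LinearMap.mem_range]
  constructor
  · intro hx
    obtain ⟨y, hy⟩ := Ext.covariant_sequence_exact₂ _ (shortExact_toAbF S hS) x hx
    exact ⟨y, hy⟩
  · rintro ⟨y, rfl⟩
    change (y.comp (Ext.mk₀ ((toAbF X).map S.f)) (add_zero i)).comp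
      (Ext.mk₀ ((toAbF X).map S.g)) (add_zero i) = 0
    have hz : (Ext.mk₀ ((toAbF X).map S.f)).comp (Ext.mk₀ ((toAbF X).map S.g)) (zero_add 0) =
        0 := by
      rw [Ext.mk₀_comp_mk₀]
      have h0 : (toAbF X).map S.f ≫ (toAbF X).map S.g = 0 := (S.map (toAbF X)).zero
      rw [h0, Ext.mk₀_zero]
    exact (Ext.comp_assoc_of_second_deg_zero y (Ext.mk₀ ((toAbF X).map S.f))
      (Ext.mk₀ ((toAbF X).map S.g)) (add_zero i)).trans
      ((congrArg (fun z => y.comp z (add_zero i)) hz).trans (Ext.comp_zero y _ _ _ _))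

/-- exactness at `H^{i+1}(S.X₁)`. -/
theorem exact₁ (S : ShortComplex X.Modules) (hS : S.ShortExact) (i : ℕ) :
    LinearMap.ker (Canon.HHlin A S.f (i + 1)) = LinearMap.range (δLin (A := A) S hS i) := by
  ext x
  rw [LinearMap.mem_ker, LinearMap.mem_range]
  constructor
  · intro hx
    obtain ⟨y, hy⟩ := Ext.covariant_sequence_exact₁ _ (shortExact_toAbF S hS) x hx rfl
    exact ⟨y, hy⟩
  · rintro ⟨y, rfl⟩
    change (y.comp (shortExact_toAbF S hS).extClass rfl).comp
      (Ext.mk₀ ((toAbF X).map S.f)) (add_zero (i + 1)) = 0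
    exact (Ext.comp_assoc_of_third_deg_zero y (shortExact_toAbF S hS).extClass
      (Ext.mk₀ ((toAbF X).map S.f)) rfl).trans
      ((congrArg (fun z => y.comp z rfl) (shortExact_toAbF S hS).extClass_comp).trans
        (Ext.comp_zero y _ _ _ _))

theorem δLin_bijective (S : ShortComplex X.Modules) (hS : S.ShortExact) (i : ℕ)
    (h₁ : Subsingleton (Coh.HH X S.X₂ i)) (h₂ : Subsingleton (Coh.HH X S.X₂ (i + 1))) :
    Function.Bijective (δLin (A := A) S hS i) := by
  constructor
  · rw [← LinearMap.ker_eq_bot, exact₃, LinearMap.range_eq_bot]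
    exact Subsingleton.elim _ _
  · rw [← LinearMap.range_eq_top, ← exact₁, LinearMap.ker_eq_top]
    exact Subsingleton.elim _ _

theorem HHlin_f_injective_zero (S : ShortComplex X.Modules) (hS : S.ShortExact) :
    Function.Injective (Canon.HHlin A S.f 0) := by
  have : Mono ((toAbF X).map S.f) := (shortExact_toAbF S hS).mono_f
  exact Ext.postcomp_mk₀_injective_of_mono _ ((toAbF X).map S.f)

end HHSide

end Groth.Agent.Lib.T2H6.ExtDual
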