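import Mathlib
import Groth.Agent.Lib.T2H6ExtDualA
import Groth.Agent.Lib.T2H5Twist
import Groth.Agent.Lib.T2H5PnVanish
import Groth.Agent.Lib.Helper21ModCoh

/-!
# Vanishing of `Ext^j(⊕ O(-q), O(-n-1))` on projective space (T2H6)

* generic: `Ext` is invariant under isomorphisms, vanishes on finite coproducts of objects on
  which it vanishes, and is invariant under equivalences of abelian categories;
* `subsingleton_ext_twist`: `Ext^j(O(a), O(b)) = 0` on `P^n_R` for `j ≥ 1` unless `j = n` and
  `b - a ≤ -n-1`.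
-/

set_option autoImplicit false
universe w w' v v' u u'

open CategoryTheory CategoryTheory.Limits Abelian

namespace Groth.Agent.Lib.T2H6.ExtDual

section Generic

variable {C : Type u} [Category.{v} C] [Abelian C] [HasExt.{w} C]

theorem subsingleton_ext_of_iso_left {X X' : C} (e : X ≅ X') (Y : C) (i : ℕ)
    (h : Subsingleton (Ext X Y i)) : Subsingleton (Ext X' Y i) := by
  have key : ∀ x : Ext X' Y i,
      x = (Ext.mk₀ e.inv).comp ((Ext.mk₀ e.hom).comp x (zero_add i)) (zero_add i) := by
    intro x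
    rw [← Ext.comp_assoc_of_second_deg_zero, Ext.mk₀_comp_mk₀, e.inv_hom_id, Ext.mk₀_id_comp]
  refine ⟨fun a b => ?_⟩
  rw [key a, key b, Subsingleton.elim ((Ext.mk₀ e.hom).comp a (zero_add i))
    ((Ext.mk₀ e.hom).comp b (zero_add i))]

theorem subsingleton_ext_of_iso_right (X : C) {Y Y' : C} (e : Y ≅ Y') (i : ℕ)
    (h : Subsingleton (Ext X Y i)) : Subsingleton (Ext X Y' i) := by
  have key : ∀ x : Ext X Y' i,
      x = (x.comp (Ext.mk₀ e.inv) (add_zero i)).comp (Ext.mk₀ e.hom) (add_zero i) := by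
    intro x
    rw [Ext.comp_assoc_of_second_deg_zero, Ext.mk₀_comp_mk₀, e.inv_hom_id, Ext.comp_mk₀_id]
  refine ⟨fun a b => ?_⟩
  rw [key a, key b, Subsingleton.elim (a.comp (Ext.mk₀ e.inv) (add_zero i))
    (b.comp (Ext.mk₀ e.inv) (add_zero i))]

/-- `Ext(-, Y)` vanishes on a finite coproduct of objects on which it vanishes. -/
theorem subsingleton_ext_sigma {J : Type} [Finite J] (E : J → C) (Y : C) (i : ℕ)
    (h : ∀ j, Subsingleton (Ext (E j) Y i)) : Subsingleton (Ext (∐ E) Y i) := by
  classical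
  have := Fintype.ofFinite J
  have hsum : ∑ j, Sigma.π E j ≫ Sigma.ι E j = 𝟙 (∐ E) := by
    apply Sigma.hom_ext
    intro b
    rw [Preadditive.comp_sum, Category.comp_id]
    rw [Finset.sum_eq_single b]
    · rw [← Category.assoc, Sigma.ι_π_eq_id, Category.id_comp]
    · intro c _ hc
      rw [← Category.assoc, Sigma.ι_π_of_ne E (Ne.symm hc), zero_comp]
    · intro hb
      exact absurd (Finset.mem_univ b) hb
  have key : ∀ x : Ext (∐ E) Y i, x = 0 := by
    intro x
    have h1 : x = (Ext.mk₀ (∑ j, Sigma.π E j ≫ Sigma.ι E j)).comp x (zero_add i) := by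
      rw [hsum, Ext.mk₀_id_comp]
    rw [h1, Ext.mk₀_sum, Ext.sum_comp]
    refine Finset.sum_eq_zero fun j _ => ?_
    rw [← Ext.mk₀_comp_mk₀, Ext.comp_assoc_of_second_deg_zero,
      Subsingleton.elim ((Ext.mk₀ (Sigma.ι E j)).comp x (zero_add i)) 0, Ext.comp_zero]
  exact ⟨fun a b => (key a).trans (key b).symm⟩

variable {D : Type u'} [Category.{v'} D] [Abelian D] [HasExt.{w'} D]

/-- `Ext` is invariant under an (additive) equivalence of abelian categories. -/
theorem subsingleton_ext_of_equivalence (e : C ≌ D) [e.functor.Additive] [EnoughInjectives C]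
    (X Y : C) (i : ℕ) (h : Subsingleton (Ext (e.functor.obj X) (e.functor.obj Y) i)) :
    Subsingleton (Ext X Y i) := by
  have : e.functor.PreservesInjectiveObjects :=
    Functor.preservesInjectiveObjects_of_adjunction_of_preservesMonomorphisms
      e.symm.toAdjunction
  exact (e.functor.mapExt_bijective_of_preservesInjectiveObjects X Y i).injective.subsingleton

end Generic

section Pn

open AlgebraicGeometry Groth.Agent.Lib.T2H5.Twist

theorem enoughInjectives_modules (X : Scheme.{u}) : EnoughInjectives X.Modules := by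
  have := Groth.Agent.Lib.Helper21.ModTensor3.isGrothendieckAbelian X.sheaf
  exact (inferInstance : EnoughInjectives (ModSite.Mod X.sheaf))

/-- `Ext^j(O, M) = 0` as soon as `H^j(M) = 0`. -/
theorem subsingleton_ext_structureModule {X : Scheme.{u}} [HasExt.{u} X.Modules] (M : X.Modules)
    (j : ℕ) (h : Subsingleton (Coh.HH X M j)) :
    Subsingleton (Ext (Coh.structureModule X) M j) := by
  have : HasExt.{u} (SheafOfModules.{u} X.ringCatSheaf) := ‹HasExt.{u} X.Modules›
  obtain ⟨e⟩ := Groth.Agent.Lib.Helper21.FreeAb.nonempty_ext_unit_iso X.ringCatSheaf M j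
  have e' : Ext (Coh.structureModule X) M j ≃+ Coh.HH X M j := e.addCommGroupIsoToAddEquiv
  exact e'.injective.subsingleton

/-- twisting by an invertible module does not change `Ext`. -/
theorem subsingleton_ext_of_tr {X : Scheme.{u}} [HasExt.{u} X.Modules] {G F : X.Modules}
    (e : CohB1.tensorMod G F ≅ Coh.structureModule X)
    (e' : CohB1.tensorMod F G ≅ Coh.structureModule X) (M N : X.Modules) (j : ℕ)
    (h : Subsingleton (Ext (CohB1.tensorMod M G) (CohB1.tensorMod N G) j)) :
    Subsingleton (Ext M N j) := by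
  have := enoughInjectives_modules X
  have : (trEquiv e e').functor.Additive := additive_tr (X := X) G
  exact subsingleton_ext_of_equivalence (trEquiv e e') M N j h

variable (n : ℕ) (R : Type u) [CommRing R] [HasExt.{u} (CohB1.ProjSpace n R).Modules]

/-- `Ext^j(O(a), O(b)) = 0` on `P^n_R` when `H^j(O(b-a)) = 0`. -/
theorem subsingleton_ext_twist (a b : ℤ) (j : ℕ)
    (h₀ : ¬ (j = 0 ∧ 0 ≤ b - a)) (hn : ¬ (j = n ∧ b - a ≤ -((n : ℤ) + 1))) :
    Subsingleton (Ext (Twist.twistProjSpace n R a) (Twist.twistProjSpace n R b) j) := by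
  obtain ⟨e₁⟩ := nonempty_twist_tensor_iso n R a (-a) 0 (by omega)
  obtain ⟨e₁'⟩ := nonempty_twist_tensor_iso n R (-a) a 0 (by omega)
  obtain ⟨e₂⟩ := nonempty_twist_zero_iso n R
  obtain ⟨e₃⟩ := nonempty_twist_tensor_iso n R b (-a) (b - a) (by omega)
  have h1 : Subsingleton (Ext (Coh.structureModule (CohB1.ProjSpace n R))
      (Twist.twistProjSpace n R (b - a)) j) :=
    subsingleton_ext_structureModule _ j
      (Groth.Agent.Lib.T2H5.PnVanish.subsingleton_HH_twist n R (b - a) j h₀ hn)
  refine subsingleton_ext_of_tr (e₁' ≪≫ e₂) (e₁ ≪≫ e₂) _ _ j ?_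
  exact subsingleton_ext_of_iso_left (e₁ ≪≫ e₂).symm _ j
    (subsingleton_ext_of_iso_right _ e₃.symm j h1)

end Pn

end Groth.Agent.Lib.T2H6.ExtDual
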