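import Groth.Agent.Lib.T2H6SDualJ

/-!
# Serre duality on `P^0_k` (T2H6)

The case `n = 0` of the duality theorem: morphisms `O(d) ⟶ O(d')`, `d ≤ d'`, on `P^0_R` are
multiplications by forms, hence `(O(-1), trP)` is dualizing on `P^0_k`.
-/

set_option autoImplicit false
universe u

open CategoryTheory CategoryTheory.Limits AlgebraicGeometry TopologicalSpace Opposite MvPolynomial

namespace Groth.Agent.Lib.T2H6.SDual

open Groth.Agent.Lib.Helper27GrTildeSect Groth.Agent.Lib.T2H5.LaurentAlg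
  Groth.Agent.Lib.T2H5.TwistSect Groth.Agent.Lib.Helper23.SecTw Groth.Agent.Lib.Helper23.Extend
  Groth.Agent.Lib.Helper6 Groth.Agent.Lib.Helper27PnSections Groth.Agent.Lib.T2H5.CechPn
  Groth.Agent.Lib.T2H5.PnVanish Groth.Agent.Lib.T2H5.PnTop

section Zero

variable {R : Type u} [CommRing R]

local notation "𝒫₀" => CohB1.polyGrading 0 R

/-- a form of degree `j` in one variable is a multiple of `x_0^j`. -/
theorem eq_C_mul_X_pow {m : MvPolynomial (Fin (0 + 1)) R} {j : ℕ}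
    (hm : m ∈ CohB1.polyGrading 0 R j) :
    m = C (coeff (Finsupp.single 0 j) m) * X 0 ^ j := by
  classical
  have hsub : Subsingleton (Fin (0 + 1)) := inferInstanceAs (Subsingleton (Fin 1))
  ext a
  rw [X_pow_eq_monomial, C_mul_monomial, mul_one, coeff_monomial]
  split_ifs with h
  · rw [h]
  · by_contra hne
    have h1 : Finsupp.weight (1 : Fin (0 + 1) → ℕ) a = j := hm hne
    apply h
    ext l
    obtain rfl : l = 0 := Subsingleton.elim _ _
    rw [Finsupp.single_eq_same, ← h1]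
    have h0 : Finsupp.weight (1 : Fin (0 + 1) → ℕ) a = Finsupp.degree a := by
      rw [Finsupp.degree_eq_weight_one]
      rfl
    rw [h0, Finsupp.degree_eq_sum]
    simp

/-- every morphism `O(d) ⟶ O(d')` on `P^0_R`, `d ≤ d'`, is pointwise the multiplication by a
polynomial all of whose monomials have degree `d' - d`. -/
theorem exists_form0 {d d' : ℤ} (hdd : d ≤ d')
    (φ : GrTilde.tilde 𝒫₀ 𝒫₀ d ⟶ GrTilde.tilde 𝒫₀ 𝒫₀ d') :
    ∃ f : MvPolynomial (Fin (0 + 1)) R,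
      (∀ a ∈ f.support, ((∑ l, a l : ℕ) : ℤ) = d' - d) ∧
      ∀ (A : (Proj 𝒫₀).Opens) (s : Γ(GrTilde.tilde 𝒫₀ 𝒫₀ d, A)) (y : ProjectiveSpectrum 𝒫₀)
        (hy : y ∈ A), (secVal 𝒫₀ 𝒫₀ d' A (φ.app A s) y hy : Twist.Loc 𝒫₀ y) =
          Localization.mk f (1 : y.asHomogeneousIdeal.toIdeal.primeCompl) *
            (secVal 𝒫₀ 𝒫₀ d A s y hy : Twist.Loc 𝒫₀ y) := by
  classical
  have hsub : Subsingleton (Fin (0 + 1)) := inferInstanceAs (Subsingleton (Fin 1))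
  obtain ⟨k, j, m, hrep⟩ := exists_rep (isLocus_WW (R := R) (0 : Fin (0 + 1)))
    (by rw [tdeg_single]; exact Nat.one_pos) (φ.app (WW 0 R 0) (genSec d 0))
  set p := d.toNat with hp
  set q := (-d).toNat with hq
  have hdeg : (j : ℤ) = k + d' := by
    have := hrep.deg
    rw [tdeg_single] at this
    simpa using this
  have hle : k + p ≤ j + q := by omega
  obtain ⟨e, he⟩ := Nat.exists_eq_add_of_le hle
  set c := coeff (Finsupp.single 0 j) m with hc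
  have hm : m = C c * X 0 ^ j := eq_C_mul_X_pow hrep.mem
  refine ⟨C c * X 0 ^ e, fun a ha => ?_, fun A s y hy => ?_⟩
  · rw [X_pow_eq_monomial, C_mul_monomial, mul_one] at ha
    have h1 := MvPolynomial.support_monomial_subset ha
    rw [Finset.mem_singleton] at h1
    subst h1
    have h2 : (∑ l, (Finsupp.single (0 : Fin (0 + 1)) e) l : ℕ) = e := by simp
    rw [h2]
    omega
  · obtain ⟨i, hi⟩ := exists_X_not_mem 0 R y
    obtain rfl : i = 0 := Subsingleton.elim _ _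
    have hyW : y ∈ WW 0 R 0 := (ProjectiveSpectrum.mem_basicOpen 𝒫₀ _ y).mpr hi
    have hyB : y ∈ A ⊓ WW 0 R 0 := ⟨hy, hyW⟩
    have e1 := secVal_app_eq φ 0 hrep (inf_le_right : A ⊓ WW 0 R 0 ≤ WW 0 R 0)
      (res (GrTilde.tilde 𝒫₀ 𝒫₀ d) (inf_le_left : A ⊓ WW 0 R 0 ≤ A) s) y hyB
    have e2 : φ.app (A ⊓ WW 0 R 0) (res (GrTilde.tilde 𝒫₀ 𝒫₀ d) (inf_le_left : A ⊓ WW 0 R 0 ≤ A) s) =
        res (GrTilde.tilde 𝒫₀ 𝒫₀ d') (inf_le_left : A ⊓ WW 0 R 0 ≤ A) (φ.app A s) :=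
      app_map φ (homOfLE (inf_le_left : A ⊓ WW 0 R 0 ≤ A)) s
    rw [e2] at e1
    have e3 : (secVal 𝒫₀ 𝒫₀ d' (A ⊓ WW 0 R 0)
        (res (GrTilde.tilde 𝒫₀ 𝒫₀ d') (inf_le_left : A ⊓ WW 0 R 0 ≤ A) (φ.app A s)) y hyB :
        Twist.Loc 𝒫₀ y) = secVal 𝒫₀ 𝒫₀ d' A (φ.app A s) y hy := rfl
    have e4 : (secVal 𝒫₀ 𝒫₀ d (A ⊓ WW 0 R 0)
        (res (GrTilde.tilde 𝒫₀ 𝒫₀ d) (inf_le_left : A ⊓ WW 0 R 0 ≤ A) s) y hyB :
        Twist.Loc 𝒫₀ y) = secVal 𝒫₀ 𝒫₀ d A s y hy := rfl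
    rw [e3, e4] at e1
    rw [e1]
    congr 1
    rw [Localization.mk_eq_mk_iff, Localization.r_iff_exists]
    refine ⟨1, ?_⟩
    simp only [OneMemClass.coe_one, one_mul]
    rw [mul_comm _ (C c * X 0 ^ e)]
    conv_lhs => rw [hm]
    rw [mul_assoc, ← pow_add, mul_assoc, ← pow_add, he, add_comm e]

/-- every morphism `O(d) ⟶ O(d')` on `P^0_R`, `d ≤ d'`, is the multiplication by a form. -/
theorem exists_eq_mulForm0 {d d' : ℤ} {e : ℕ} (hde : d + (e : ℤ) = d')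
    (φ : GrTilde.tilde 𝒫₀ 𝒫₀ d ⟶ GrTilde.tilde 𝒫₀ 𝒫₀ d') :
    ∃ (f : MvPolynomial (Fin (0 + 1)) R) (hf : f ∈ CohB1.polyGrading 0 R e),
      φ = mulForm 𝒫₀ 𝒫₀ hf hde := by
  obtain ⟨f, hfs, hfv⟩ := exists_form0 (by omega) φ
  have hf : f ∈ CohB1.polyGrading 0 R e := by
    intro a ha
    have h1 := hfs a (MvPolynomial.mem_support_iff.mpr ha)
    have h0 : Finsupp.weight (1 : Fin (0 + 1) → ℕ) a = Finsupp.degree a := by
      rw [Finsupp.degree_eq_weight_one]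
      rfl
    rw [h0, Finsupp.degree_eq_sum]
    have : ((∑ l, a l : ℕ) : ℤ) = (e : ℤ) := by rw [h1]; omega
    exact_mod_cast this
  refine ⟨f, hf, ?_⟩
  apply Scheme.Modules.hom_ext
  intro A
  ext s
  rw [mulForm_app]
  apply sec_ext
  intro y hy
  rw [secVal_mulFormSec]
  exact hfv A s y hy

variable (R)

/-- Serre duality for the twisting sheaves `O(d)`, `d ≤ -1`, of `P^0_R`. -/
theorem existsUnique_hom_twist0 (d : ℤ) (hle : d ≤ dω 0)
    (ψ : Coh.HH (CohB1.ProjSpace 0 R) (OO 0 R d) 0 →ₗ[R] R) :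
    ∃! φ : OO 0 R d ⟶ OO 0 R (dω 0), ∀ x : Coh.HH (CohB1.ProjSpace 0 R) (OO 0 R d) 0,
      ψ x = trP 0 R (Sheaf.H.map ((SheafOfModules.toSheaf
        (CohB1.ProjSpace 0 R).ringCatSheaf).map φ) 0 x) := by
  have hd : d < 0 := lt_of_le_of_lt hle (dω_neg 0)
  obtain ⟨e, he⟩ := Int.eq_ofNat_of_zero_le (sub_nonneg.mpr hle)
  have hde : d + (e : ℤ) = dω 0 := by omega
  refine ⟨mulForm 𝒫₀ 𝒫₀ (formOf_mem 0 R d hd hde ψ) hde, fun x => ?_, fun φ' hφ' => ?_⟩
  · rw [trP_mulForm' 0 R d hd _ hde]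
    exact exists_form_of_linear 0 R d hd hde ψ x
  · obtain ⟨g, hg, rfl⟩ := exists_eq_mulForm0 hde
      (show GrTilde.tilde 𝒫₀ 𝒫₀ d ⟶ GrTilde.tilde 𝒫₀ 𝒫₀ (dω 0) from φ')
    have hpair : pairL 0 R d g = pairL 0 R d (formOf 0 R d hd hde ψ) := by
      ext l
      obtain ⟨x, rfl⟩ := (resTop 0 R d hd).surjective l
      rw [← trP_mulForm' 0 R d hd hg hde, ← exists_form_of_linear 0 R d hd hde ψ x]
      exact (hφ' x).symm
    have hgf := form_eq_of_pairL_eq 0 R d hde hg (formOf_mem 0 R d hd hde ψ) hpair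
    subst hgf
    rfl

/-- the duality map of `(O(-1), trP)` on `P^0_R` is bijective on the twisting sheaves `O(d)`,
`d ≤ -1`. -/
theorem bijective_dualityMap_OO0 (d : ℤ) (hle : d ≤ dω 0) :
    Function.Bijective (Canon.dualityMap R (CohB1.ProjSpace 0 R) 0 (OO 0 R (dω 0)) (trP 0 R)
      (OO 0 R d)) := by
  constructor
  · intro φ φ' h
    obtain ⟨φ₀, -, huniq⟩ := existsUnique_hom_twist0 R d hle
      (Canon.dualityMap R (CohB1.ProjSpace 0 R) 0 (OO 0 R (dω 0)) (trP 0 R) (OO 0 R d) φ)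
    rw [huniq φ (fun x => rfl), huniq φ' (fun x => by rw [h]; rfl)]
  · intro ψ
    obtain ⟨φ, hφ, -⟩ := existsUnique_hom_twist0 R d hle ψ
    refine ⟨φ, ?_⟩
    ext x
    exact (hφ x).symm

end Zero

section Field

variable (n : ℕ) (k : Type u) [Field k]

/-- **Serre duality on `P^n_k`** (all `n`): the duality map of `(O(-n-1), trP)` is bijective on
every coherent module. -/
theorem bijective_dualityMap_of_isCoh_all (F : (CohB1.ProjSpace n k).Modules)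
    (hF : Coh.IsCoh F) :
    Function.Bijective (Canon.dualityMap k (CohB1.ProjSpace n k) n (OO n k (dω n)) (trP n k) F) := by
  rcases Nat.eq_zero_or_pos n with rfl | hn
  · exact bijective_dualityMap_of_isCoh'' 0 k (dω 0) (bijective_dualityMap_OO0 k) F hF
  · exact bijective_dualityMap_of_isCoh n k hn F hF

/-- Serre duality on `P^n_k` in the form of unique existence. -/
theorem existsUnique_hom_of_isCoh (F : (CohB1.ProjSpace n k).Modules) (hF : Coh.IsCoh F)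
    (ψ : Coh.HH (CohB1.ProjSpace n k) F n →ₗ[k] k) :
    ∃! φ : F ⟶ OO n k (dω n), ∀ x : Coh.HH (CohB1.ProjSpace n k) F n,
      ψ x = trP n k (Sheaf.H.map ((SheafOfModules.toSheaf
        (CohB1.ProjSpace n k).ringCatSheaf).map φ) n x) := by
  obtain ⟨hinj, hsurj⟩ := bijective_dualityMap_of_isCoh_all n k F hF
  obtain ⟨φ, hφ⟩ := hsurj ψ
  refine ⟨φ, fun x => ?_, fun φ' hφ' => ?_⟩
  · rw [← hφ]
    rfl
  · apply hinj
    rw [hφ]
    ext x
    exact (hφ' x).symm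

end Field

end Groth.Agent.Lib.T2H6.SDual
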