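import Mathlib
import Groth.Agent.Lib.T2H6ExtDualB
import Groth.Agent.Lib.T2H6SDualK
import Groth.Agent.Lib.T2H6CurveSerre
import Groth.Agent.Lib.T2H5PnFinite

/-!
# Serre duality for `Ext` on projective space over a field (T2H6)

`Ext^i(F, O(-n-1))` and `H^{n-i}(P^n_k, F)` have the same (finite) dimension for every coherent
`F`, and `Ext^i(F, O(-n-1)) = 0` for `i > n`.  The proof is by dimension shifting along a
presentation `0 → K → ⊕ O(-m) → F → 0`, starting from Serre duality in degree `0`.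
-/

set_option autoImplicit false
universe w v u

open CategoryTheory CategoryTheory.Limits Abelian

namespace Groth.Agent.Lib.T2H6.ExtDual

section GenericExt

variable {C : Type u} [Category.{v} C] [Abelian C] [HasExt.{w} C]
  (k : Type*) [Field k] [Linear k C]

/-- the dimension of `Ext¹` from a presentation. -/
theorem finrank_ext_one {S : ShortComplex C} (hS : S.ShortExact) (Y : C)
    (h1 : Subsingleton (Ext S.X₂ Y 1))
    (f2 : Module.Finite k (Ext S.X₂ Y 0)) (f1 : Module.Finite k (Ext S.X₁ Y 0)) :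
    Module.Finite k (Ext S.X₃ Y 1) ∧
      Module.finrank k (Ext S.X₃ Y 0) + Module.finrank k (Ext S.X₁ Y 0) =
        Module.finrank k (Ext S.X₂ Y 0) + Module.finrank k (Ext S.X₃ Y 1) := by
  have hsurj : Function.Surjective (extδ k hS Y 0) := extδ_surjective k hS Y 0 h1
  refine ⟨Module.Finite.of_surjective (extδ k hS Y 0) hsurj, ?_⟩
  exact finrank_four_term (extPre k S.g Y 0) (extPre k S.f Y 0) (extδ k hS Y 0)
    (extPre_g_injective_zero k hS Y) (ker_extPre_f k hS Y 0) (ker_extδ k hS Y 0) hsurj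

/-- dimension shifting in higher degrees. -/
theorem nonempty_ext_succ_equiv {S : ShortComplex C} (hS : S.ShortExact) (Y : C) (i : ℕ)
    (h₁ : Subsingleton (Ext S.X₂ Y i)) (h₂ : Subsingleton (Ext S.X₂ Y (i + 1))) :
    Nonempty (Ext S.X₁ Y i ≃ₗ[k] Ext S.X₃ Y (i + 1)) :=
  ⟨LinearEquiv.ofBijective (extδ k hS Y i) (extδ_bijective k hS Y i h₁ h₂)⟩

end GenericExt

section GenericHH

open AlgebraicGeometry Groth.Agent.Lib.T2H5.HHLes Groth.Agent.Lib.Helper23.QCohLocal

variable (k : Type u) [Field k] {X : Scheme.{u}} [X.Over (Spec (CommRingCat.of k))]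

theorem HHlin_g_surjective (S : ShortComplex X.Modules) (hS : S.ShortExact) (i : ℕ)
    (h : Subsingleton (Coh.HH X S.X₁ (i + 1))) :
    Function.Surjective (Canon.HHlin k S.g i) := by
  rw [← LinearMap.range_eq_top, ← exact₃ S hS i, LinearMap.ker_eq_top]
  exact Subsingleton.elim _ _

theorem δLin_injective (S : ShortComplex X.Modules) (hS : S.ShortExact) (i : ℕ)
    (h : Subsingleton (Coh.HH X S.X₂ i)) :
    Function.Injective (δLin (A := k) S hS i) := by
  rw [← LinearMap.ker_eq_bot, exact₃, LinearMap.range_eq_bot]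
  exact Subsingleton.elim _ _

/-- `0 → H^j(X₃) → H^{j+1}(X₁) → H^{j+1}(X₂) → H^{j+1}(X₃) → 0`. -/
theorem finrank_HH_four (S : ShortComplex X.Modules) (hS : S.ShortExact) (j : ℕ)
    (h2 : Subsingleton (Coh.HH X S.X₂ j)) (h1 : Subsingleton (Coh.HH X S.X₁ (j + 1 + 1)))
    (f1 : Module.Finite k (Coh.HH X S.X₁ (j + 1))) (f2 : Module.Finite k (Coh.HH X S.X₂ (j + 1))) :
    Module.finrank k (Coh.HH X S.X₃ j) + Module.finrank k (Coh.HH X S.X₂ (j + 1)) =
      Module.finrank k (Coh.HH X S.X₁ (j + 1)) + Module.finrank k (Coh.HH X S.X₃ (j + 1)) :=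
  finrank_four_term (δLin (A := k) S hS j) (Canon.HHlin k S.f (j + 1)) (Canon.HHlin k S.g (j + 1))
    (δLin_injective k S hS j h2) (exact₁ k S hS j) (exact₂ k S hS (j + 1))
    (HHlin_g_surjective k S hS (j + 1) h1)

/-- `0 → H^0(X₁) → H^0(X₂) → H^0(X₃) → 0`. -/
theorem finrank_HH_three (S : ShortComplex X.Modules) (hS : S.ShortExact)
    (h1 : Subsingleton (Coh.HH X S.X₁ 1)) (f2 : Module.Finite k (Coh.HH X S.X₂ 0)) :
    Module.finrank k (Coh.HH X S.X₂ 0) =
      Module.finrank k (Coh.HH X S.X₁ 0) + Module.finrank k (Coh.HH X S.X₃ 0) := by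
  have h := LinearMap.finrank_range_add_finrank_ker (Canon.HHlin k S.g 0)
  rw [LinearMap.range_eq_top.mpr (HHlin_g_surjective k S hS 0 h1), finrank_top,
    exact₂ k S hS 0, LinearMap.finrank_range_of_inj (HHlin_f_injective_zero k S hS)] at h
  omega

theorem δLin_equiv (S : ShortComplex X.Modules) (hS : S.ShortExact) (i : ℕ)
    (h₁ : Subsingleton (Coh.HH X S.X₂ i)) (h₂ : Subsingleton (Coh.HH X S.X₂ (i + 1))) :
    Nonempty (Coh.HH X S.X₃ i ≃ₗ[k] Coh.HH X S.X₁ (i + 1)) :=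
  ⟨LinearEquiv.ofBijective (δLin (A := k) S hS i) (δLin_bijective k S hS i h₁ h₂)⟩

variable [HasExt.{u} X.Modules]

/-- the duality map as a linear map. -/
noncomputable def dualityLin (r : ℕ) (ω : X.Modules) (tr : Coh.HH X ω r →ₗ[k] k) (F : X.Modules) :
    (F ⟶ ω) →ₗ[k] Module.Dual k (Coh.HH X F r) where
  toFun := Canon.dualityMap k X r ω tr F
  map_add' φ ψ := Groth.Agent.Lib.T2H6.SDual.dualityMap_add k r ω tr φ ψ
  map_smul' c φ := by
    unfold Canon.dualityMap
    rw [Groth.Agent.Lib.T2H6.CurveSerre.HHlin_smul k c φ r, LinearMap.comp_smul]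
    rfl

/-- degree zero: `Ext^0(F, ω)` is dual to `H^r(F)` when the duality map is bijective. -/
theorem finrank_ext_zero (r : ℕ) (ω : X.Modules) (tr : Coh.HH X ω r →ₗ[k] k) (F : X.Modules)
    (hbij : Function.Bijective (Canon.dualityMap k X r ω tr F))
    (hfin : Module.Finite k (Coh.HH X F r)) :
    Module.Finite k (Ext F ω 0) ∧
      Module.finrank k (Ext F ω 0) = Module.finrank k (Coh.HH X F r) := by
  let e₁ : Ext F ω 0 ≃ₗ[k] (F ⟶ ω) := Ext.linearEquiv₀
  let e₂ : (F ⟶ ω) ≃ₗ[k] Module.Dual k (Coh.HH X F r) :=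
    LinearEquiv.ofBijective (dualityLin k r ω tr F) hbij
  refine ⟨Module.Finite.equiv (e₁.trans e₂).symm, ?_⟩
  rw [LinearEquiv.finrank_eq (e₁.trans e₂), Subspace.dual_finrank_eq]

end GenericHH

section Pn

open AlgebraicGeometry Groth.Agent.Lib.T2H5.HHLes Groth.Agent.Lib.T2H6.SDual

variable (n : ℕ) (k : Type u) [Field k]

/-- the dualizing module `O(-n-1)` of `P^n_k`. -/
noncomputable abbrev ωP : (CohB1.ProjSpace n k).Modules :=
  Twist.twistProjSpace n k (-((n : ℤ) + 1))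

variable [HasExt.{u} (CohB1.ProjSpace n k).Modules]

/-- a presentation `0 → K → E → F → 0` of a coherent module on `P^n_k` with `E` a finite sum of
copies of some `O(-m)`, `m ≥ 1`: all that is needed of it. -/
theorem exists_pres (F : (CohB1.ProjSpace n k).Modules) (hF : Coh.IsCoh F) :
    ∃ (S : ShortComplex (CohB1.ProjSpace n k).Modules), S.ShortExact ∧ S.X₃ = F ∧
      Coh.IsCoh S.X₁ ∧ Coh.IsCoh S.X₂ ∧
      (∀ j : ℕ, 1 ≤ j → Subsingleton (Ext S.X₂ (ωP n k) j)) ∧
      (∀ j : ℕ, j < n → Subsingleton (Coh.HH (CohB1.ProjSpace n k) S.X₂ j)) := by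
  have := isLocallyNoetherian_projSpace' n k
  obtain ⟨m, b, φ, hm, hφ⟩ : ∃ (m : ℤ) (b : ℕ)
      (φ : (∐ fun _ : Fin b => Twist.twistProjSpace n k (-m)) ⟶ F), 1 ≤ m ∧ Epi φ :=
    exists_epi_twists_ge n k F hF 1
  have hE : Coh.IsCoh (∐ fun _ : Fin b => Twist.twistProjSpace n k (-m)) :=
    Groth.Agent.Lib.T2H5.GenIsoA.isCoh_sigma _
      (fun _ => Groth.Agent.Lib.T2H5.PnFinite.isCoh_twist n k (-m))
  have hK : Coh.IsCoh (kernel φ) := Groth.Agent.Lib.T2H5.GenIsoB.isCoh_kernel φ hE hF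
  refine ⟨ShortComplex.mk (kernel.ι φ) φ (kernel.condition φ), ?_, rfl, hK, hE, ?_, ?_⟩
  · exact ShortComplex.ShortExact.mk (ShortComplex.exact_kernel φ)
  · intro j hj
    refine subsingleton_ext_sigma _ _ j fun _ => ?_
    exact subsingleton_ext_twist n k (-m) (-((n : ℤ) + 1)) j (by omega) (by omega)
  · intro j hj
    refine Groth.Agent.Lib.T2H5.RegRes.subsingleton_HH_sigma _ j fun _ => ?_
    exact Groth.Agent.Lib.T2H5.PnVanish.subsingleton_HH_twist n k (-m) j (by omega) (by omega)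

theorem arith_one {eF0 eK0 eE0 eF1 hFn hKn hEn hFj : ℕ} (e1 : eF0 + eK0 = eE0 + eF1)
    (eK : eK0 = hKn) (eE : eE0 = hEn) (eF : eF0 = hFn) (h4 : hFj + hEn = hKn + hFn) :
    eF1 = hFj := by omega

theorem arith_zero {eF0 eK0 eE0 eF1 hF0 hK0 hE0 : ℕ} (e1 : eF0 + eK0 = eE0 + eF1)
    (eK : eK0 = hK0) (eE : eE0 = hE0) (eF : eF0 = hF0) (h3 : hE0 = hK0 + hF0) :
    eF1 = 0 := by omega

/-- the inductive property. -/
def DualProp (i : ℕ) : Prop :=
  ∀ F : (CohB1.ProjSpace n k).Modules, Coh.IsCoh F →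
    Module.Finite k (Ext F (ωP n k) i) ∧
    (∀ j : ℕ, i + j = n → Module.finrank k (Ext F (ωP n k) i) =
      Module.finrank k (Coh.HH (CohB1.ProjSpace n k) F j)) ∧
    (n < i → Subsingleton (Ext F (ωP n k) i))

theorem dualProp_zero : DualProp n k 0 := by
  have key : ∀ T : (CohB1.ProjSpace n k).Modules, T = OO n k (dω n) →
      ∀ F : (CohB1.ProjSpace n k).Modules, Coh.IsCoh F →
        Module.Finite k (Ext F T 0) ∧
          Module.finrank k (Ext F T 0) = Module.finrank k (Coh.HH (CohB1.ProjSpace n k) F n) := by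
    intro T hT F hF
    subst hT
    exact finrank_ext_zero k n (OO n k (dω n)) (trP n k) F
      (bijective_dualityMap_of_isCoh_all n k F hF)
      (Groth.Agent.Lib.T2H5.PnFinite.finite_HH n k F hF n)
  intro F hF
  obtain ⟨h1, h2⟩ := key (ωP n k) (Groth.Agent.Lib.T2H5.PnTop.twist_eq n k _) F hF
  refine ⟨h1, ?_, ?_⟩
  · intro j hj
    obtain rfl : j = n := by omega
    exact h2
  · intro h
    omega

end Pn

end Groth.Agent.Lib.T2H6.ExtDual
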