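import Mathlib
import Groth.Agent.Lib.T2H6ExtDualC

/-!
# Serre duality for `Ext` on projective space over a field: the induction (T2H6)
-/

set_option autoImplicit false
universe w v u

open CategoryTheory CategoryTheory.Limits Abelian

namespace Groth.Agent.Lib.T2H6.ExtDual

section Pn

open AlgebraicGeometry Groth.Agent.Lib.T2H5.HHLes Groth.Agent.Lib.T2H6.SDual

variable (n : ℕ) (k : Type u) [Field k] [HasExt.{u} (CohB1.ProjSpace n k).Modules]

theorem dualProp_one : DualProp n k 1 := by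
  intro F hF
  obtain ⟨S, hS, rfl, hK, hE, hExt, hHH⟩ := exists_pres n k F hF
  have hK1 := hK.1
  have hfour : ∀ j : ℕ, 1 + j = n →
      Module.finrank k (Coh.HH (CohB1.ProjSpace n k) S.X₃ j) +
          Module.finrank k (Coh.HH (CohB1.ProjSpace n k) S.X₂ (j + 1)) =
        Module.finrank k (Coh.HH (CohB1.ProjSpace n k) S.X₁ (j + 1)) +
          Module.finrank k (Coh.HH (CohB1.ProjSpace n k) S.X₃ (j + 1)) := by
    intro j hj
    exact finrank_HH_four k S hS j (hHH j (by omega))
      (Groth.Agent.S0022.result n k S.X₁ (j + 1 + 1) (by omega))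
      (Groth.Agent.Lib.T2H5.PnFinite.finite_HH n k S.X₁ hK (j + 1))
      (Groth.Agent.Lib.T2H5.PnFinite.finite_HH n k S.X₂ hE (j + 1))
  have hthree : n < 1 →
      Module.finrank k (Coh.HH (CohB1.ProjSpace n k) S.X₂ 0) =
        Module.finrank k (Coh.HH (CohB1.ProjSpace n k) S.X₁ 0) +
          Module.finrank k (Coh.HH (CohB1.ProjSpace n k) S.X₃ 0) := by
    intro hn
    exact finrank_HH_three k S hS (Groth.Agent.S0022.result n k S.X₁ 1 hn)
      (Groth.Agent.Lib.T2H5.PnFinite.finite_HH n k S.X₂ hE 0)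
  obtain ⟨fK, eK, -⟩ := dualProp_zero n k S.X₁ hK
  obtain ⟨fE, eE, -⟩ := dualProp_zero n k S.X₂ hE
  obtain ⟨fF, eF, -⟩ := dualProp_zero n k S.X₃ hF
  have hf1 := finrank_ext_one k hS (ωP n k) (hExt 1 le_rfl) fE fK
  refine ⟨hf1.1, ?_, ?_⟩
  · intro j hj
    have hj' : 0 + (j + 1) = n := by omega
    exact arith_one hf1.2 (eK (j + 1) hj') (eE (j + 1) hj') (eF (j + 1) hj') (hfour j hj)
  · intro hn
    have hn' : 0 + 0 = n := by omega
    have h0 : Module.finrank k (Ext S.X₃ (ωP n k) 1) = 0 :=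
      arith_zero hf1.2 (eK 0 hn') (eE 0 hn') (eF 0 hn') (hthree hn)
    have := hf1.1
    exact Module.finrank_zero_iff.mp h0

theorem dualProp_succ (i : ℕ) (hi : 1 ≤ i) (ih : DualProp n k i) : DualProp n k (i + 1) := by
  intro F hF
  obtain ⟨S, hS, rfl, hK, hE, hExt, hHH⟩ := exists_pres n k F hF
  obtain ⟨fK, eK, sK⟩ := ih S.X₁ hK
  obtain ⟨e⟩ := nonempty_ext_succ_equiv k hS (ωP n k) i (hExt i hi) (hExt (i + 1) (by omega))
  refine ⟨Module.Finite.equiv e, ?_, ?_⟩
  · intro j hj
    obtain ⟨e'⟩ := δLin_equiv k S hS j (hHH j (by omega)) (hHH (j + 1) (by omega))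
    exact (LinearEquiv.finrank_eq e).symm.trans
      ((eK (j + 1) (by omega)).trans (LinearEquiv.finrank_eq e').symm)
  · intro hn
    by_cases hin : n < i
    · have := sK hin
      exact e.symm.injective.subsingleton
    · have hin' : i + 0 = n := by omega
      have h0n : 0 < n := by omega
      have hinj := HHlin_f_injective_zero k S hS
      have : Subsingleton (Coh.HH (CohB1.ProjSpace n k) S.X₂ 0) := hHH 0 h0n
      have : Subsingleton (Coh.HH (CohB1.ProjSpace n k) S.X₁ 0) := hinj.subsingleton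
      have h0' : Module.finrank k (Coh.HH (CohB1.ProjSpace n k) S.X₁ 0) = 0 :=
        Module.finrank_zero_of_subsingleton
      have : Subsingleton (Ext S.X₁ (ωP n k) i) :=
        Module.finrank_zero_iff.mp ((eK 0 hin').trans h0')
      exact e.symm.injective.subsingleton

theorem dualProp_all (i : ℕ) : DualProp n k i := by
  induction i with
  | zero => exact dualProp_zero n k
  | succ i ih =>
    rcases Nat.eq_zero_or_pos i with rfl | hi
    · exact dualProp_one n k
    · exact dualProp_succ n k i hi ih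

/-- **Serre duality for `Ext` on `P^n_k`**. -/
theorem ext_duality (F : (CohB1.ProjSpace n k).Modules) (hF : Coh.IsCoh F) :
    (∀ i : ℕ, i ≤ n → Nonempty (Ext F (Twist.twistProjSpace n k (-((n : ℤ) + 1))) i ≃ₗ[k]
      Module.Dual k (Coh.HH (CohB1.ProjSpace n k) F (n - i)))) ∧
    ∀ i : ℕ, n < i → Subsingleton (Ext F (Twist.twistProjSpace n k (-((n : ℤ) + 1))) i) := by
  refine ⟨fun i hi => ?_, fun i hi => (dualProp_all n k i F hF).2.2 hi⟩
  obtain ⟨h1, h2, -⟩ := dualProp_all n k i F hF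
  have hfin := Groth.Agent.Lib.T2H5.PnFinite.finite_HH n k F hF (n - i)
  have h3 := h2 (n - i) (by omega)
  exact ⟨LinearEquiv.ofFinrankEq _ _ (h3.trans Subspace.dual_finrank_eq.symm)⟩

end Pn

end Groth.Agent.Lib.T2H6.ExtDual
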