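import Mathlib

/-!
# Comparing `Ext` groups along an exact functor (T2H6)

For an exact functor `G : C ⥤ D` of abelian categories, objects `A : C`, `B : D` and a morphism
`u : B ⟶ G.obj A`, the maps `Ext^p(A, Y) → Ext^p(B, G Y)`, `x ↦ u ≫ G(x)`, form a morphism of
`δ`-functors in `Y`.  If it is bijective in degree `0` and `Ext^p(B, G I) = 0` for `I` injective and
`p > 0`, it is bijective in all degrees (`extCmp_bijective`).
-/

set_option autoImplicit false
universe w w' v v' u u'

open CategoryTheory CategoryTheory.Limits Abelian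

namespace Groth.Agent.Lib.T2H6.ExtCmp

variable {C : Type u} [Category.{v} C] [Abelian C] {D : Type u'} [Category.{v'} D] [Abelian D]
  (G : C ⥤ D) [G.Additive] [PreservesFiniteLimits G] [PreservesFiniteColimits G]
  [HasExt.{w} C] [HasExt.{w'} D]

/-- the comparison map `x ↦ u ≫ G(x)`. -/
noncomputable def extCmp {A : C} {B : D} (u : B ⟶ G.obj A) (Y : C) (p : ℕ) :
    Ext A Y p →+ Ext B (G.obj Y) p :=
  ((Ext.mk₀ u).precomp (G.obj Y) (zero_add p)).comp (G.mapExtAddHom A Y p)

variable {G} in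
theorem extCmp_apply {A : C} {B : D} (u : B ⟶ G.obj A) (Y : C) (p : ℕ) (x : Ext A Y p) :
    extCmp G u Y p x = (Ext.mk₀ u).comp (x.mapExactFunctor G) (zero_add p) := rfl

theorem extCmp_comp_mk₀ {A : C} {B : D} (u : B ⟶ G.obj A) {Y Y' : C} (g : Y ⟶ Y') (p : ℕ)
    (x : Ext A Y p) :
    extCmp G u Y' p (x.comp (Ext.mk₀ g) (add_zero p)) =
      (extCmp G u Y p x).comp (Ext.mk₀ (G.map g)) (add_zero p) := by
  rw [extCmp_apply, extCmp_apply, Ext.mapExactFunctor_comp, Ext.mapExactFunctor_mk₀,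
    Ext.comp_assoc_of_third_deg_zero]

theorem extCmp_comp_extClass {A : C} {B : D} (u : B ⟶ G.obj A) {S : ShortComplex C}
    (hS : S.ShortExact) (p : ℕ) (x : Ext A S.X₃ p) :
    extCmp G u S.X₁ (p + 1) (x.comp hS.extClass rfl) =
      (extCmp G u S.X₃ p x).comp (hS.map_of_exact G).extClass rfl := by
  rw [extCmp_apply, extCmp_apply, Ext.mapExactFunctor_comp, Ext.mapExactFunctor_extClass]
  exact (Ext.comp_assoc (Ext.mk₀ u) (x.mapExactFunctor G) (hS.map_of_exact G).extClass
    (zero_add p) rfl (by omega)).symm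

theorem extCmp_mk₀ {A : C} {B : D} (u : B ⟶ G.obj A) (Y : C) (f : A ⟶ Y) :
    extCmp G u Y 0 (Ext.mk₀ f) = Ext.mk₀ (u ≫ G.map f) := by
  rw [extCmp_apply, Ext.mapExactFunctor_mk₀, Ext.mk₀_comp_mk₀]

/-- **Comparison of effaceable `δ`-functors**: the maps `Ext^p(A, Y) → Ext^p(B, G Y)` are bijective
as soon as they are in degree `0` and the target vanishes on injectives in positive degrees. -/
theorem extCmp_bijective [EnoughInjectives C] {A : C} {B : D} (u : B ⟶ G.obj A)
    (h0 : ∀ Y : C, Function.Bijective (fun f : A ⟶ Y => u ≫ G.map f))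
    (hI : ∀ I : C, Injective I → ∀ p : ℕ, Subsingleton (Ext B (G.obj I) (p + 1)))
    (Y : C) (p : ℕ) : Function.Bijective (extCmp G u Y p) := by
  induction p generalizing Y with
  | zero =>
    have h1 : (extCmp G u Y 0) ∘ Ext.mk₀ = Ext.mk₀ ∘ (fun f : A ⟶ Y => u ≫ G.map f) :=
      funext fun f => extCmp_mk₀ G u Y f
    have h2 : Function.Bijective ((extCmp G u Y 0) ∘ Ext.mk₀) := by
      rw [h1]
      exact (Ext.mk₀_bijective _ _).comp (h0 Y)
    exact (Function.Bijective.of_comp_iff _ (Ext.mk₀_bijective A Y)).mp h2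
  | succ p ih =>
    obtain ⟨S, hS, rfl, hJ⟩ : ∃ S : ShortComplex C, S.ShortExact ∧ S.X₁ = Y ∧ Injective S.X₂ := by
      let I : InjectivePresentation Y := Classical.arbitrary _
      exact ⟨ShortComplex.mk _ _ (cokernel.condition I.f),
        { exact := ShortComplex.exact_cokernel I.f }, rfl, I.injective⟩
    have hGS := hS.map_of_exact G
    constructor
    · rw [injective_iff_map_eq_zero]
      intro x hx
      obtain ⟨z, rfl⟩ := Ext.covariant_sequence_exact₁ A hS x (Ext.eq_zero_of_injective _) rfl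
      rw [extCmp_comp_extClass] at hx
      obtain ⟨w, hw⟩ := Ext.covariant_sequence_exact₃ B hGS _ rfl hx
      obtain ⟨w', rfl⟩ := (ih S.X₂).2 w
      have hz : z = w'.comp (Ext.mk₀ S.g) (add_zero p) := by
        apply (ih S.X₃).1
        rw [extCmp_comp_mk₀]
        exact hw.symm
      rw [hz, Ext.comp_assoc_of_second_deg_zero, hS.comp_extClass, Ext.comp_zero]
    · intro y
      have hsub : Subsingleton (Ext B (S.map G).X₂ (p + 1)) := hI S.X₂ hJ p
      obtain ⟨y₃, rfl⟩ := Ext.covariant_sequence_exact₁ B hGS y (Subsingleton.elim _ _) rfl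
      obtain ⟨z, rfl⟩ := (ih S.X₃).2 y₃
      exact ⟨z.comp hS.extClass rfl, extCmp_comp_extClass G u hS p z⟩

section Linear

variable (R : Type*) [CommRing R] [Linear R C] [Linear R D] [G.Linear R]

theorem extCmp_smul {A : C} {B : D} (u : B ⟶ G.obj A) (Y : C) (p : ℕ) (r : R) (x : Ext A Y p) :
    extCmp G u Y p (r • x) = r • extCmp G u Y p x := by
  rw [extCmp_apply, extCmp_apply, Functor.mapExactFunctor_smul, Ext.comp_smul]

end Linear

end Groth.Agent.Lib.T2H6.ExtCmp
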