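import Mathlib
import Groth.Agent.Lib.T2H6ExtCmpA
import Groth.Agent.Lib.Helper21ModCoh
import Groth.Agent.Lib.T2H6CurveSimple2
import Groth.Agent.Lib.T2H5HHLes
import Groth.Prelude.Def_KLin

/-!
# `Ext^p(O_X, M) ≅ H^p(X, M)`, linearly (T2H6)

The explicit comparison map `Ext^p_{O_X}(O_X, M) → Ext^p_{Ab}(ℤ, M) = H^p(X, M)` (forget the module
structure and restrict along the unit section `ℤ → O_X`) is bijective, and linear over the base.
-/

set_option autoImplicit false
universe u

open CategoryTheory CategoryTheory.Limits Abelian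

namespace Groth.Agent.Lib.T2H6.ExtCmp

section Site

open Groth.Agent.Lib.Helper21.FreeAb Groth.Agent.Lib.Helper21.TorsFree

variable {C : Type u} [SmallCategory C] {J : GrothendieckTopology C} (R : Sheaf J RingCat.{u})

/-- the unit section `ℤ → R`. -/
noncomputable def unitSec :
    Zc (J := J) ⟶ (SheafOfModules.toSheaf R).obj (SheafOfModules.unit R) :=
  (freeShRAdj R).unit.app Zc ≫ (SheafOfModules.toSheaf R).map (freeShRZcIso R).hom

theorem unitSec_comp_bijective (M : SheafOfModules.{u} R) :
    Function.Bijective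
      (fun f : SheafOfModules.unit R ⟶ M => unitSec R ≫ (SheafOfModules.toSheaf R).map f) := by
  have h : (fun f : SheafOfModules.unit R ⟶ M =>
      unitSec R ≫ (SheafOfModules.toSheaf R).map f) =
      (fun g => (freeShRAdj R).homEquiv _ _ g) ∘ (fun f => (freeShRZcIso R).hom ≫ f) := by
    funext f
    simp only [unitSec, Function.comp_apply, Adjunction.homEquiv_unit, Functor.map_comp,
      Category.assoc]
  rw [h]
  refine ((freeShRAdj R).homEquiv _ _).bijective.comp ?_
  exact (freeShRZcIso R).symm.homFromEquiv.bijective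

theorem subsingleton_ext_Zc_toSheaf (I : SheafOfModules.{u} R) (hI : Injective I) (p : ℕ) :
    Subsingleton (Ext.{u} (Zc (J := J)) ((SheafOfModules.toSheaf R).obj I) (p + 1)) :=
  ⟨fun x y => (ext_toSheaf_eq_zero R I p _ TF_Zc x).trans
    (ext_toSheaf_eq_zero R I p _ TF_Zc y).symm⟩

end Site

section Scheme

open AlgebraicGeometry Groth.Agent.Lib.Helper23.QCohLocal Groth.Agent.Lib.Helper21.FreeAb

variable {X : Scheme.{u}}

instance preservesFiniteColimits_toAbF : PreservesFiniteColimits (toAbF X) :=
  inferInstanceAs (PreservesFiniteColimits (SheafOfModules.toSheaf.{u} X.ringCatSheaf))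

theorem enoughInjectives_modules (X : Scheme.{u}) : EnoughInjectives X.Modules := by
  have := Groth.Agent.S0484.result (Opens.grothendieckTopology X) X.ringCatSheaf
  exact (inferInstance : EnoughInjectives (SheafOfModules.{u} X.ringCatSheaf))

/-- the unit section `ℤ → O_X`. -/
noncomputable def unitSecX (X : Scheme.{u}) :
    Zc (J := Opens.grothendieckTopology X) ⟶ (toAbF X).obj (Coh.structureModule X) :=
  unitSec X.ringCatSheaf

variable [HasExt.{u} X.Modules]

/-- the comparison map `Ext^p(O_X, M) → H^p(X, M)`. -/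
noncomputable def extToHH (M : X.Modules) (p : ℕ) :
    Ext (Coh.structureModule X) M p →+ Coh.HH X M p :=
  extCmp (toAbF X) (unitSecX X) M p

theorem extToHH_bijective (M : X.Modules) (p : ℕ) : Function.Bijective (extToHH M p) := by
  have := enoughInjectives_modules X
  exact extCmp_bijective (toAbF X) (unitSecX X)
    (fun Y => unitSec_comp_bijective X.ringCatSheaf Y)
    (fun I hI p => subsingleton_ext_Zc_toSheaf X.ringCatSheaf I hI p) M p

/-- naturality of the comparison map. -/
theorem extToHH_comp_mk₀ {M N : X.Modules} (g : M ⟶ N) (p : ℕ)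
    (x : Ext (Coh.structureModule X) M p) :
    extToHH N p (x.comp (Ext.mk₀ g) (add_zero p)) =
      Sheaf.H.map ((SheafOfModules.toSheaf X.ringCatSheaf).map g) p (extToHH M p x) :=
  extCmp_comp_mk₀ (toAbF X) (unitSecX X) g p x

variable (A : Type u) [CommRing A] [X.Over (Spec (CommRingCat.of A))]

omit [HasExt.{u} X.Modules] in
theorem toSheaf_map_smul_id' (E : X.Modules) (c : A) :
    (SheafOfModules.toSheaf X.ringCatSheaf).map (c • 𝟙 E) =
      Coh.smulAb E (Coh.toGlobal (X ↘ Spec (CommRingCat.of A)) c) := by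
  ext U m
  rw [Coh.smulAb_app]
  exact KLin.smul_app_apply c (𝟙 E) U.unop m

theorem extToHH_smul (M : X.Modules) (p : ℕ) (c : A) (x : Ext (Coh.structureModule X) M p) :
    extToHH M p (c • x) = c • extToHH M p x := by
  have h1 : c • x = x.comp (Ext.mk₀ (c • 𝟙 M)) (add_zero p) := by
    rw [Ext.mk₀_smul, Ext.comp_smul, Ext.comp_mk₀_id]
  rw [h1, extToHH_comp_mk₀, toSheaf_map_smul_id']
  rfl

/-- **`Ext^p(O_X, M) ≅ H^p(X, M)`**, linearly over the base ring. -/
noncomputable def extToHHLin (M : X.Modules) (p : ℕ) :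
    Ext (Coh.structureModule X) M p ≃ₗ[A] Coh.HH X M p :=
  LinearEquiv.ofBijective
    { toFun := extToHH M p
      map_add' := map_add _
      map_smul' := extToHH_smul A M p } (extToHH_bijective M p)

end Scheme

end Groth.Agent.Lib.T2H6.ExtCmp
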