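import Mathlib
import Groth.Prelude.Def_KLin
import Groth.Prelude.Def_ExtSupp
import Groth.Agent.Lib.Helper21ExtShDelta
import Groth.Agent.Lib.Helper21RelExt
import Groth.Agent.Lib.T2H6ExtCmpB
import Groth.Agent.Lib.T2H6ParShF
import Groth.Agent.Lib.T2H5Twist

/-!
# Global sections of the sheaf Hom, naturally in the first variable (T2H6)

* `theta M Y : (M ⟶ Y) → (O ⟶ ℋom(M, Y))`, bijective, additive, linear over the base ring, and natural in
  `M` with respect to `ExtSupp.sheafHomMap`;
* `theta0`: the same with values in `(ℰxt^0(M, -)).obj G`;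
* `gam`: `(O ⟶ N) ≃ₗ[A] H^0(X, N)`, naturally in `N`;
* `Theta`: `(M ⟶ G) ≃ₗ[A] H^0(X, ℰxt^0(M, G))`, naturally in `M`.
-/

set_option autoImplicit false
set_option linter.style.haveILetI false
universe u

open CategoryTheory CategoryTheory.Limits Abelian AlgebraicGeometry

namespace Groth.Agent.Lib.T2H6.LocGlob

open Groth.Agent.Lib.Helper21.ExtShDelta Groth.Agent.Lib.Helper21.ModTensor3
  Groth.Agent.Lib.Helper21.ModTensor5 Groth.Agent.Lib.Helper21.ModTensor7
  Groth.Agent.Lib.Helper21.CoDeltaLib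

attribute [local instance] hasSheafHom

section Site

variable {C : Type u} [SmallCategory C] {J : GrothendieckTopology C} (O : Sheaf J CommRingCat.{u})

/-- `O ⊗ M ≅ M`. -/
noncomputable def lu (M : ModSite.Mod O) : (tR O M).obj (ModSite.unit O) ≅ M :=
  (tLUnitIso O).app M

theorem lu_nat {M' M : ModSite.Mod O} (g : M' ⟶ M) :
    ((ModSite.tensorBi O).flip.map g).app (ModSite.unit O) ≫ (lu O M).hom =
      (lu O M').hom ≫ g :=
  (tLUnitIso O).hom.naturality g

variable {O}

/-- the global section of `ℋom(M, Y)` attached to a morphism `M ⟶ Y`. -/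
noncomputable def theta (M Y : ModSite.Mod O) (φ : M ⟶ Y) :
    ModSite.unit O ⟶ (ModSite.sheafHom M).obj Y :=
  (ModSite.sheafHomAdj M).homEquiv _ _ ((lu O M).hom ≫ φ)

theorem theta_bijective (M Y : ModSite.Mod O) : Function.Bijective (theta M Y) := by
  have h : theta M Y = (fun g => (ModSite.sheafHomAdj M).homEquiv _ _ g) ∘
      (fun φ => (lu O M).hom ≫ φ) := rfl
  rw [h]
  exact ((ModSite.sheafHomAdj M).homEquiv _ _).bijective.comp
    (lu O M).symm.homFromEquiv.bijective

theorem theta_nat {M' M : ModSite.Mod O} (g : M' ⟶ M) (Y : ModSite.Mod O) (φ : M ⟶ Y) :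
    theta M' Y (g ≫ φ) = theta M Y φ ≫ (ExtSupp.sheafHomMap g).app Y := by
  apply ((ModSite.sheafHomAdj M').homEquiv _ _).symm.injective
  unfold theta
  rw [Equiv.symm_apply_apply, Adjunction.homEquiv_counit, Functor.map_comp, Category.assoc]
  unfold ExtSupp.sheafHomMap
  rw [conjugateEquiv_counit]
  have h1 := ((ModSite.tensorBi O).flip.map g).naturality
    ((ModSite.sheafHomAdj M).homEquiv _ _ ((lu O M).hom ≫ φ))
  have h2 : ((ModSite.tensorBi O).flip.obj M).map
      ((ModSite.sheafHomAdj M).homEquiv _ _ ((lu O M).hom ≫ φ)) ≫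
      (ModSite.sheafHomAdj M).counit.app Y = (lu O M).hom ≫ φ := by
    have := ((ModSite.sheafHomAdj M).homEquiv _ _).symm_apply_apply ((lu O M).hom ≫ φ)
    rwa [Adjunction.homEquiv_counit] at this
  rw [← Category.assoc _ _ ((ModSite.sheafHomAdj M).counit.app Y), h1, Category.assoc, h2,
    reassoc_of% (lu_nat O g)]

theorem theta_add (M Y : ModSite.Mod O) (φ ψ : M ⟶ Y) :
    theta M Y (φ + ψ) = theta M Y φ + theta M Y ψ := by
  unfold theta
  rw [Preadditive.comp_add, Adjunction.homEquiv_unit, Adjunction.homEquiv_unit,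
    Adjunction.homEquiv_unit, Functor.map_add, Preadditive.comp_add]

section Derived

variable [HasInjectiveResolutions (ModSite.Mod O)]

/-- the global section of `ℰxt^0(M, G)` attached to a morphism `M ⟶ G`. -/
noncomputable def theta0 (M G : ModSite.Mod O) (φ : M ⟶ G) :
    ModSite.unit O ⟶ ((ModSite.sheafHom M).rightDerived 0).obj G :=
  theta M G φ ≫ (ModSite.sheafHom M).toRightDerivedZero.app G

theorem theta0_bijective (M G : ModSite.Mod O) : Function.Bijective (theta0 M G) := by
  haveI := sheafHom_preservesFiniteLimits O M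
  have h : theta0 M G = (fun s => s ≫ (ModSite.sheafHom M).toRightDerivedZero.app G) ∘
      theta M G := rfl
  rw [h]
  exact (asIso ((ModSite.sheafHom M).toRightDerivedZero.app G)).homToEquiv.bijective.comp
    (theta_bijective M G)

theorem theta0_add (M G : ModSite.Mod O) (φ ψ : M ⟶ G) :
    theta0 M G (φ + ψ) = theta0 M G φ + theta0 M G ψ := by
  unfold theta0
  rw [theta_add, Preadditive.add_comp]

theorem theta0_nat {M' M : ModSite.Mod O} (g : M' ⟶ M) (G : ModSite.Mod O) (φ : M ⟶ G) :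
    theta0 M' G (g ≫ φ) = theta0 M G φ ≫ (extShDelta G).map 0 g := by
  haveI := sheafHom_preservesFiniteLimits O M
  haveI := sheafHom_preservesFiniteLimits O M'
  unfold theta0
  rw [theta_nat, Category.assoc, Category.assoc]
  congr 1
  exact Groth.Agent.Lib.Helper21.RelExt.toRightDerivedZero_nat (ExtSupp.sheafHomMap g) G

end Derived

end Site

section Scheme

open Groth.Agent.Lib.T2H6.ExtCmp Groth.Agent.Lib.T2H5.Twist

variable {X : Scheme.{u}} (A : Type u) [CommRing A] [X.Over (Spec (CommRingCat.of A))]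

theorem tr_map_smul' (D E : X.Modules) (c : A) :
    (tr D).map (c • 𝟙 E) = c • 𝟙 ((tr D).obj E) := by
  rw [KLin.smul_id, KLin.smul_id]
  exact Groth.Agent.Lib.T2H6.ParShF.tr_map_smulModΓ D E _

/-- `O ⊗ M ≅ M` on a scheme. -/
noncomputable def luX (M : X.Modules) : (tr M).obj (Coh.structureModule X) ≅ M :=
  lu X.sheaf M

/-- `theta` for modules on a scheme. -/
noncomputable def thetaX (M Y : X.Modules) (φ : M ⟶ Y) :
    Coh.structureModule X ⟶ ((ModSite.sheafHom (O := X.sheaf) M).obj Y : X.Modules) :=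
  theta (O := X.sheaf) M Y φ

theorem thetaX_smul (M Y : X.Modules) (c : A) (φ : M ⟶ Y) :
    thetaX M Y (c • φ) = c • thetaX M Y φ := by
  have h1 : (luX M).hom ≫ (c • φ) =
      (tr M).map (c • 𝟙 (Coh.structureModule X)) ≫ (luX M).hom ≫ φ := by
    rw [tr_map_smul', Linear.comp_smul, Linear.smul_comp, Category.id_comp]
  have h2 : c • thetaX M Y φ = (c • 𝟙 (Coh.structureModule X)) ≫ thetaX M Y φ := by
    rw [Linear.smul_comp, Category.id_comp]
  rw [h2]
  exact (congrArg ((ModSite.sheafHomAdj (O := X.sheaf) M).homEquiv _ _) h1).trans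
    ((ModSite.sheafHomAdj (O := X.sheaf) M).homEquiv_naturality_left _ _)

section Gam

variable [HasExt.{u} X.Modules]

/-- global sections as `H^0`, linearly. -/
noncomputable def gam (N : X.Modules) : (Coh.structureModule X ⟶ N) ≃ₗ[A] Coh.HH X N 0 :=
  (Ext.linearEquiv₀ (R := A)).symm ≪≫ₗ extToHHLin A N 0

theorem gam_apply (N : X.Modules) (s : Coh.structureModule X ⟶ N) :
    gam A N s = extToHH N 0 (Ext.mk₀ s) := rfl

theorem gam_nat {N N' : X.Modules} (g : N ⟶ N') (s : Coh.structureModule X ⟶ N) :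
    gam A N' (s ≫ g) = Canon.HHlin A g 0 (gam A N s) := by
  rw [gam_apply, gam_apply, ← Ext.mk₀_comp_mk₀]
  exact extToHH_comp_mk₀ g 0 (Ext.mk₀ s)

end Gam

section Theta

variable [HasExt.{u} X.Modules] [HasInjectiveResolutions (ModSite.Mod X.sheaf)]

/-- `ℰxt^p(M, G)` as a module on the scheme. -/
noncomputable abbrev EE (p : ℕ) (M G : X.Modules) : X.Modules :=
  ((ModSite.sheafHom (O := X.sheaf) M).rightDerived p).obj G

/-- the map `ℰxt^p(M, G) ⟶ ℰxt^p(M', G)` induced by `M' ⟶ M`. -/
noncomputable abbrev EEmap (p : ℕ) {M' M : X.Modules} (g : M' ⟶ M) (G : X.Modules) :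
    EE p M G ⟶ EE p M' G :=
  (extShDelta (O := X.sheaf) G).map p g

/-- `theta0` for modules on a scheme. -/
noncomputable def theta0X (M G : X.Modules) (φ : M ⟶ G) : Coh.structureModule X ⟶ EE 0 M G :=
  theta0 (O := X.sheaf) M G φ

omit [HasExt.{u} X.Modules] in
theorem theta0X_smul (M G : X.Modules) (c : A) (φ : M ⟶ G) :
    theta0X M G (c • φ) = c • theta0X M G φ := by
  have h : ∀ ψ : M ⟶ G, theta0X M G ψ =
      thetaX M G ψ ≫ ((ModSite.sheafHom (O := X.sheaf) M).toRightDerivedZero.app G :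
        ((ModSite.sheafHom (O := X.sheaf) M).obj G : X.Modules) ⟶ EE 0 M G) := fun _ => rfl
  rw [h, h, thetaX_smul, Linear.smul_comp]

omit [HasExt.{u} X.Modules] in
theorem theta0X_nat {M' M : X.Modules} (g : M' ⟶ M) (G : X.Modules) (φ : M ⟶ G) :
    theta0X M' G (g ≫ φ) = theta0X M G φ ≫ EEmap 0 g G :=
  theta0_nat (O := X.sheaf) g G φ

/-- **`Hom(M, G) ≅ H^0(X, ℰxt^0(M, G))`**, linearly. -/
noncomputable def Theta (M G : X.Modules) : (M ⟶ G) ≃ₗ[A] Coh.HH X (EE 0 M G) 0 :=
  LinearEquiv.ofBijective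
    { toFun := fun φ => gam A (EE 0 M G) (theta0X M G φ)
      map_add' := fun φ ψ => by
        have : theta0X M G (φ + ψ) = theta0X M G φ + theta0X M G ψ :=
          theta0_add (O := X.sheaf) M G φ ψ
        rw [this, map_add]
      map_smul' := fun c φ => by
        rw [theta0X_smul, map_smul]
        rfl }
    ((gam A (EE 0 M G)).bijective.comp (theta0_bijective (O := X.sheaf) M G))

theorem Theta_apply (M G : X.Modules) (φ : M ⟶ G) :
    Theta A M G φ = gam A (EE 0 M G) (theta0X M G φ) := rfl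

/-- naturality of `Theta` in the first variable. -/
theorem Theta_nat {M' M : X.Modules} (g : M' ⟶ M) (G : X.Modules) (φ : M ⟶ G) :
    Theta A M' G (g ≫ φ) = Canon.HHlin A (EEmap 0 g G) 0 (Theta A M G φ) := by
  rw [Theta_apply, Theta_apply, theta0X_nat, gam_nat]

end Theta

end Scheme

end Groth.Agent.Lib.T2H6.LocGlob
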