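import Mathlib
import Groth.Agent.Lib.T2H6LocGlobA
import Groth.Agent.Lib.T2H6ExtDualA
import Groth.Agent.Lib.T2H6HHLin

/-!
# Local to global `Ext`: the dimension shifting steps (T2H6)

* `four_term`: global sections of a four term exact sequence `0 → P → Q → T → W → 0` with
  `H¹(P) = H²(P) = H¹(Q) = 0`;
* `good_zero`: `Ext⁰(F, G) ≅ H⁰(ℰxt⁰(F, G))`;
* `good_one`: `Ext¹(F, G) ≅ H⁰(ℰxt¹(F, G))` from a presentation `0 → R → E → F → 0`;
* `good_succ`: the dimension shifting step in higher degrees.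
-/

set_option autoImplicit false
set_option linter.style.haveILetI false
universe u

open CategoryTheory CategoryTheory.Limits Abelian AlgebraicGeometry

namespace Groth.Agent.Lib.T2H6.LocGlob

open Groth.Agent.Lib.Helper21.ExtShDelta Groth.Agent.Lib.Helper21.CoDeltaLib
  Groth.Agent.Lib.T2H6.ExtDual Groth.Agent.Lib.T2H6.HHLin Groth.Agent.Lib.T2H5.HHLes

attribute [local instance] hasSheafHom

section LinAlg

variable {A : Type*} [CommRing A] {M T₁ T₂ : Type*} [AddCommGroup M] [Module A M]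
  [AddCommGroup T₁] [Module A T₁] [AddCommGroup T₂] [Module A T₂]

/-- two surjections with the same kernel have isomorphic targets. -/
theorem nonempty_linearEquiv_of_ker_eq (p₁ : M →ₗ[A] T₁) (p₂ : M →ₗ[A] T₂)
    (h₁ : Function.Surjective p₁) (h₂ : Function.Surjective p₂)
    (hk : LinearMap.ker p₁ = LinearMap.ker p₂) : Nonempty (T₁ ≃ₗ[A] T₂) :=
  ⟨(p₁.quotKerEquivOfSurjective h₁).symm ≪≫ₗ (Submodule.quotEquivOfEq _ _ hk) ≪≫ₗ
    p₂.quotKerEquivOfSurjective h₂⟩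

end LinAlg

variable (A : Type u) [CommRing A] {X : Scheme.{u}} [X.Over (Spec (CommRingCat.of A))]

/-- global sections of a four term exact sequence. -/
theorem four_term {P Q T W : X.Modules} (a : P ⟶ Q) (b : Q ⟶ T) (c : T ⟶ W) [Mono a] [Epi c]
    (wab : a ≫ b = 0) (hab : (ShortComplex.mk a b wab).Exact)
    (wbc : b ≫ c = 0) (hbc : (ShortComplex.mk b c wbc).Exact)
    (hP1 : Subsingleton (Coh.HH X P 1)) (hP2 : Subsingleton (Coh.HH X P 2))
    (hQ1 : Subsingleton (Coh.HH X Q 1)) :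
    Function.Surjective (Canon.HHlin A c 0) ∧
      LinearMap.ker (Canon.HHlin A c 0) = LinearMap.range (Canon.HHlin A b 0) := by
  -- the image `K` of `b`
  let e : Q ⟶ kernel c := kernel.lift c b wbc
  have he : e ≫ kernel.ι c = b := kernel.lift_ι _ _ _
  haveI : Epi e := (ShortComplex.exact_iff_epi_kernel_lift _).1 hbc
  have wae : a ≫ e = 0 := by
    rw [← cancel_mono (kernel.ι c), Category.assoc, he, wab, zero_comp]
  have hae : (ShortComplex.mk a e wae).Exact := by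
    let φ : ShortComplex.mk a e wae ⟶ ShortComplex.mk a b wab :=
      { τ₁ := 𝟙 _
        τ₂ := 𝟙 _
        τ₃ := kernel.ι c
        comm₁₂ := by simp
        comm₂₃ := by
          dsimp only
          rw [he, Category.id_comp] }
    haveI : Epi φ.τ₁ := inferInstanceAs (Epi (𝟙 _))
    haveI : IsIso φ.τ₂ := inferInstanceAs (IsIso (𝟙 _))
    haveI : Mono φ.τ₃ := inferInstanceAs (Mono (kernel.ι c))
    exact (ShortComplex.exact_iff_of_epi_of_isIso_of_mono φ).2 hab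
  let S₁ : ShortComplex X.Modules := ShortComplex.mk a e wae
  have hS₁ : S₁.ShortExact := ShortComplex.ShortExact.mk' hae ‹Mono a› ‹Epi e›
  let S₂ : ShortComplex X.Modules := ShortComplex.mk (kernel.ι c) c (kernel.condition c)
  have hS₂ : S₂.ShortExact :=
    ShortComplex.ShortExact.mk' (ShortComplex.exact_of_f_is_kernel _ (kernelIsKernel c))
      (inferInstanceAs (Mono (kernel.ι c))) ‹Epi c›
  -- `H¹(K) = 0`
  have hK1 : Subsingleton (Coh.HH X (kernel c) 1) := by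
    have hz : Canon.HHlin A S₁.g 1 = 0 := by
      ext x
      rw [@Subsingleton.elim _ hQ1 x 0, map_zero, map_zero]
    have hinj : Function.Injective (δLin (A := A) S₁ hS₁ 1) := by
      rw [← LinearMap.ker_eq_bot, exact₃, LinearMap.range_eq_bot]
      exact hz
    exact @Function.Injective.subsingleton _ _ _ hinj hP2
  -- `H⁰(Q) → H⁰(K)` is onto
  have hesurj : Function.Surjective (Canon.HHlin A e 0) := by
    rw [← LinearMap.range_eq_top, ← exact₃ (A := A) S₁ hS₁ 0, LinearMap.ker_eq_top]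
    ext x
    exact @Subsingleton.elim _ hP1 _ _
  constructor
  · rw [← LinearMap.range_eq_top, ← exact₃ (A := A) S₂ hS₂ 0, LinearMap.ker_eq_top]
    ext x
    exact @Subsingleton.elim _ hK1 _ _
  · have h1 : LinearMap.ker (Canon.HHlin A c 0) = LinearMap.range (Canon.HHlin A (kernel.ι c) 0) :=
      Groth.Agent.Lib.T2H6.ExtDual.exact₂ A S₂ hS₂ 0
    rw [h1, ← he, HHlin_comp, LinearMap.range_comp_of_range_eq_top _
      (LinearMap.range_eq_top.mpr hesurj)]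

section Good

variable [HasExt.{u} X.Modules] [HasInjectiveResolutions (ModSite.Mod X.sheaf)]

/-- `Ext^i(F, G) ≅ H⁰(X, ℰxt^i(F, G))`, linearly. -/
def Good (i : ℕ) (F G : X.Modules) : Prop :=
  Nonempty (Ext F G i ≃ₗ[A] Coh.HH X (EE i F G) 0)

theorem good_zero (F G : X.Modules) : Good A 0 F G :=
  ⟨(Ext.linearEquiv₀ (R := A)).trans (Theta A F G)⟩

/-- `Ext¹` from a presentation. -/
theorem good_one (S : ShortComplex X.Modules) (hS : S.ShortExact) (G : X.Modules)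
    (hE1 : IsZero (EE 1 S.X₂ G)) (hExt : Subsingleton (Ext S.X₂ G 1))
    (hF1 : Subsingleton (Coh.HH X (EE 0 S.X₃ G) 1)) (hF2 : Subsingleton (Coh.HH X (EE 0 S.X₃ G) 2))
    (hE : Subsingleton (Coh.HH X (EE 0 S.X₂ G) 1)) : Good A 1 S.X₃ G := by
  let Δ := extShDelta (O := X.sheaf) G
  let a : EE 0 S.X₃ G ⟶ EE 0 S.X₂ G := EEmap 0 S.g G
  let b : EE 0 S.X₂ G ⟶ EE 0 S.X₁ G := EEmap 0 S.f G
  let c : EE 0 S.X₁ G ⟶ EE 1 S.X₃ G := Δ.δ S hS 0
  haveI : Mono a := Δ.mono_zero S hS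
  haveI : Epi c := Δ.epi_δ S hS 0 hE1
  obtain ⟨wab, hab⟩ := Δ.exact₂ S hS 0
  obtain ⟨wbc, hbc⟩ := Δ.exact₃ S hS 0
  obtain ⟨hsurj, hker⟩ := four_term A a b c wab hab wbc hbc hF1 hF2 hE
  -- the two surjections from `Hom(R, G)`
  let p₂ : (S.X₁ ⟶ G) →ₗ[A] Coh.HH X (EE 1 S.X₃ G) 0 :=
    (Canon.HHlin A c 0) ∘ₗ (Theta A S.X₁ G).toLinearMap
  let p₁ : (S.X₁ ⟶ G) →ₗ[A] Ext S.X₃ G 1 :=
    (extδ A hS G 0) ∘ₗ (Ext.linearEquiv₀ (R := A)).symm.toLinearMap
  have hp₂ : Function.Surjective p₂ := hsurj.comp (Theta A S.X₁ G).surjective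
  have hp₁ : Function.Surjective p₁ :=
    (extδ_surjective A hS G 0 hExt).comp (Ext.linearEquiv₀ (R := A)).symm.surjective
  have hk₂ : ∀ φ : S.X₁ ⟶ G, p₂ φ = 0 ↔ ∃ ψ : S.X₂ ⟶ G, S.f ≫ ψ = φ := by
    intro φ
    have h0 : p₂ φ = 0 ↔ Theta A S.X₁ G φ ∈ LinearMap.ker (Canon.HHlin A c 0) := by
      rw [LinearMap.mem_ker]
      rfl
    rw [h0, hker, LinearMap.mem_range]
    constructor
    · rintro ⟨y, hy⟩
      obtain ⟨ψ, rfl⟩ := (Theta A S.X₂ G).surjective y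
      refine ⟨ψ, ?_⟩
      apply (Theta A S.X₁ G).injective
      rw [← hy]
      exact Theta_nat A S.f G ψ
    · rintro ⟨ψ, rfl⟩
      exact ⟨Theta A S.X₂ G ψ, (Theta_nat A S.f G ψ).symm⟩
  have hk₁ : ∀ φ : S.X₁ ⟶ G, p₁ φ = 0 ↔ ∃ ψ : S.X₂ ⟶ G, S.f ≫ ψ = φ := by
    intro φ
    have h0 : p₁ φ = 0 ↔ Ext.mk₀ φ ∈ LinearMap.ker (extδ A hS G 0) := by
      rw [LinearMap.mem_ker]
      rfl
    rw [h0, ker_extδ, LinearMap.mem_range]
    constructor
    · rintro ⟨y, hy⟩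
      obtain ⟨ψ, rfl⟩ := (Ext.mk₀_bijective S.X₂ G).2 y
      refine ⟨ψ, ?_⟩
      apply (Ext.mk₀_bijective S.X₁ G).1
      rw [← hy]
      exact (Ext.mk₀_comp_mk₀ S.f ψ).symm
    · rintro ⟨ψ, rfl⟩
      exact ⟨Ext.mk₀ ψ, Ext.mk₀_comp_mk₀ S.f ψ⟩
  have hk : LinearMap.ker p₁ = LinearMap.ker p₂ := by
    ext φ
    rw [LinearMap.mem_ker, LinearMap.mem_ker, hk₁, hk₂]
  exact nonempty_linearEquiv_of_ker_eq p₁ p₂ hp₁ hp₂ hk

/-- dimension shifting in higher degrees. -/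
theorem good_succ (S : ShortComplex X.Modules) (hS : S.ShortExact) (G : X.Modules) (i : ℕ)
    (hE1 : IsZero (EE (i + 1) S.X₂ G)) (hE2 : IsZero (EE (i + 2) S.X₂ G))
    (hExt1 : Subsingleton (Ext S.X₂ G (i + 1))) (hExt2 : Subsingleton (Ext S.X₂ G (i + 2)))
    (hR : Good A (i + 1) S.X₁ G) : Good A (i + 2) S.X₃ G := by
  obtain ⟨e⟩ := hR
  let Δ := extShDelta (O := X.sheaf) G
  have hiso : IsIso (Δ.δ S hS (i + 1)) := Δ.isIso_δ S hS (i + 1) hE1 hE2
  let iso : EE (i + 1) S.X₁ G ≅ EE (i + 2) S.X₃ G := @asIso _ _ _ _ (Δ.δ S hS (i + 1)) hiso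
  let e₁ : Ext S.X₁ G (i + 1) ≃ₗ[A] Ext S.X₃ G (i + 1 + 1) :=
    LinearEquiv.ofBijective (extδ A hS G (i + 1)) (extδ_bijective A hS G (i + 1) hExt1 hExt2)
  let e₂ : Coh.HH X (EE (i + 1) S.X₁ G) 0 ≃ₗ[A] Coh.HH X (EE (i + 2) S.X₃ G) 0 :=
    HHequiv A iso 0
  exact ⟨e₁.symm.trans (e.trans e₂)⟩

end Good

end Groth.Agent.Lib.T2H6.LocGlob
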