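import Mathlib
import Groth.Agent.Lib.T2H5RpushSect
import Groth.Agent.Lib.LeadRpushCmp
import Groth.Agent.Lib.Helper23AffVanish7

/-!
# Cohomology is the global sections of the higher direct image over an affine base (helper5)

Namespace `Groth.Agent.Lib.T2H5.RpushGlobal`.
-/

set_option autoImplicit false
set_option linter.style.haveILetI false
set_option linter.unusedSectionVars false
universe u
open CategoryTheory CategoryTheory.Limits Opposite TopologicalSpace AlgebraicGeometry Abelian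

namespace Groth.Agent.Lib.T2H5.RpushGlobal

open Groth.Agent.Lib.Helper23.AffVanish Groth.Agent.Lib.T2H5.RpushSect

variable {X S : Scheme.{u}} (f : X ⟶ S) [QuasiCompact f] [QuasiSeparated f] [IsAffine S]
  (M : X.Modules) [M.IsQuasicoherent]

theorem nonempty_equiv_zero :
    Nonempty (Coh.HH X M 0 ≃+ ↑(((Coh.RpushAb f 0).obj (Coh.toAb M)).obj.obj (op ⊤))) := by
  haveI := Groth.Agent.Lib.Helper16.ClosedEmb.push_preservesFiniteLimits f.base
  let e1 : Coh.HH X M 0 ≃+ (ab' M).obj.obj (op ⊤) :=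
    (HETopEquivH X.carrier (ab' M) 0).symm.trans (h0Equiv (ab' M) ⊤)
  let i0 : (Coh.RpushAb f 0).obj (Coh.toAb M) ≅ (Coh.pushAb f).obj (Coh.toAb M) :=
    (Functor.rightDerivedZeroIsoSelf (Coh.pushAb f)).app (Coh.toAb M)
  let i1 : ((Coh.RpushAb f 0).obj (Coh.toAb M)).obj.obj (op ⊤) ≅ ((Coh.pushAb f).obj (Coh.toAb M)).obj.obj (op ⊤) :=
    ((sheafToPresheaf _ _).mapIso i0).app (op ⊤)
  let e2 : ↑(((Coh.RpushAb f 0).obj (Coh.toAb M)).obj.obj (op ⊤)) ≃+
      ↑(((Coh.pushAb f).obj (Coh.toAb M)).obj.obj (op ⊤)) := i1.addCommGroupIsoToAddEquiv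
  exact ⟨e1.trans e2.symm⟩

theorem nonempty_equiv_succ (n : ℕ) :
    Nonempty (Coh.HH X M (n + 1) ≃+ ↑(((Coh.RpushAb f (n + 1)).obj (Coh.toAb M)).obj.obj (op ⊤))) := by
  obtain ⟨c, hnat, hsurj, hinj⟩ :=
    Groth.Agent.Lib.Lead.RpushCmp.exists_comparison f.base (ab' M) n
  have hb := bijective_comparison f M (n + 1) ((CohTop.Rpush f.base (n + 1)).obj (ab' M)) c hnat hsurj hinj
  let e1 : Coh.HH X M (n + 1) ≃+ HE (ab' M) (n + 1) ⊤ := (HETopEquivH X.carrier (ab' M) (n + 1)).symm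
  exact ⟨e1.trans (AddEquiv.ofBijective (c ⊤) hb)⟩

theorem nonempty_equiv (q : ℕ) :
    Nonempty (Coh.HH X M q ≃+ ↑(((Coh.RpushAb f q).obj (Coh.toAb M)).obj.obj (op ⊤))) := by
  cases q with
  | zero => exact nonempty_equiv_zero f M
  | succ n => exact nonempty_equiv_succ f M n

end Groth.Agent.Lib.T2H5.RpushGlobal
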