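import Mathlib
import Groth.Agent.Lib.T2H6GVMain
set_option backward.isDefEq.respectTransparency.types false

/-!
# Grothendieck vanishing with supports (helper6)

Namespace `Groth.Agent.Lib.T2H6.GVSupp`.

* `subsingleton_H_of_SZ_of_dim` : on a Noetherian space, a sheaf vanishing on the open `U` has no cohomology in degrees
  above the dimension of the closed complement of `U`.
* `subsingleton_HH_of_stalk` : the same for a module on a scheme whose stalks vanish on `U`.
-/

set_option autoImplicit false
set_option linter.style.haveILetI false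
set_option linter.unusedSectionVars false
universe u
open CategoryTheory CategoryTheory.Limits Opposite TopologicalSpace

namespace Groth.Agent.Lib.T2H6.GVSupp

open Groth.Agent.Lib.Helper16.ClosedEmb Groth.Agent.Lib.T2H6.GVTools Groth.Agent.Lib.T2H6.GVMain

theorem subsingleton_H_of_SZ_of_dim {X : TopCat.{u}} [NoetherianSpace X] (U : Opens X) (G : CohTop.Ab X)
    (hG : SZ U G) (p : ℕ) (hp : topologicalKrullDim ((U : Set X)ᶜ : Set X) < (p : WithBot ℕ∞)) :
    Subsingleton (CohTop.H G p) := by
  refine subsingleton_H_of_SZ U G hG p fun G' => ?_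
  haveI : NoetherianSpace (TopCat.of ((U : Set X)ᶜ : Set X)) :=
    (Topology.IsInducing.subtypeVal (t := ((U : Set X)ᶜ : Set X))).noetherianSpace
  exact grothendieck_vanishing (X := TopCat.of ((U : Set X)ᶜ : Set X)) G' p hp

open AlgebraicGeometry in
/-- a module on a Noetherian scheme whose stalks vanish on the open `U` has no cohomology above the dimension of the
complement of `U`. -/
theorem subsingleton_HH_of_stalk (Y : Scheme.{u}) [NoetherianSpace Y] (M : Y.Modules) (U : Y.Opens)
    (hU : ∀ x ∈ U, Subsingleton (M.presheaf.stalk x)) (p : ℕ)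
    (hp : topologicalKrullDim ((U : Set Y)ᶜ : Set Y) < (p : WithBot ℕ∞)) : Subsingleton (Coh.HH Y M p) := by
  refine subsingleton_H_of_SZ_of_dim (X := Y.carrier) U (Coh.toAb M) ?_ p hp
  intro V hV
  refine ⟨fun s t => ?_⟩
  refine TopCat.Presheaf.section_ext ⟨M.presheaf, M.isSheaf⟩ V _ _ (fun z hz => ?_)
  haveI := hU z (hV hz)
  exact Subsingleton.elim _ _

end Groth.Agent.Lib.T2H6.GVSupp
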