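import Mathlib
import Groth.Prelude.Def_KLin
import Groth.Prelude.Def_Formal
import Groth.Agent.Lib.T2H6GVSupp
import Groth.Agent.Lib.Helper2QCoh
set_option backward.isDefEq.respectTransparency.types false

/-!
# Vanishing of `H^p(X₁, M/I^n M)` above the dimension of the closed fibre (helper6)

Namespace `Groth.Agent.Lib.T2H6.FibDimVan`.
-/

set_option autoImplicit false
set_option linter.style.haveILetI false
set_option linter.unusedSectionVars false
universe u
open CategoryTheory CategoryTheory.Limits Opposite TopologicalSpace AlgebraicGeometry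

namespace Groth.Agent.Lib.T2H6.FibDimVan

theorem mem_basicOpen_toGlobal_iff {A : Type u} [CommRing A] {Z : Scheme.{u}} (h : Z ⟶ Spec (CommRingCat.of A))
    (b : A) (x : Z) :
    x ∈ Z.basicOpen (show Γ(Z, ⊤) from Coh.toGlobal h b) ↔ b ∉ (h x).asIdeal := by
  have h1 : Z.basicOpen (show Γ(Z, ⊤) from Coh.toGlobal h b) =
      h ⁻¹ᵁ ((Spec (CommRingCat.of A)).basicOpen ((Scheme.ΓSpecIso (CommRingCat.of A)).inv.hom b)) := by
    rw [Scheme.preimage_basicOpen]
    rfl
  rw [h1, basicOpen_eq_of_affine']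
  have h2 : (ConcreteCategory.hom (Scheme.ΓSpecIso (CommRingCat.of A)).hom)
      ((CommRingCat.Hom.hom (Scheme.ΓSpecIso (CommRingCat.of A)).inv) b) = b := by
    change ((Scheme.ΓSpecIso (CommRingCat.of A)).inv ≫ (Scheme.ΓSpecIso (CommRingCat.of A)).hom).hom b = b
    rw [Iso.inv_hom_id]
    rfl
  rw [h2]
  rfl

section modPow

variable {A : Type u} [CommRing A] {Z : Scheme.{u}} [Z.Over (Spec (CommRingCat.of A))]

/-- `M / I^n M` is killed by the elements of `I^n`. -/
theorem smulMod_modPow_eq_zero (I : Ideal A) (n : ℕ) (M : Z.Modules) (b : A) (hb : b ∈ I ^ n) :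
    Formal.smulMod A (Formal.modPow I n M) b = 0 := by
  have h1 : Formal.smulMod A M b ≫ Formal.modPowπ I n M = 0 := by
    have h2 : Formal.smulMod A M b =
        Sigma.ι (fun _ : (I ^ n : Ideal A) => M) ⟨b, hb⟩ ≫ Formal.smulFamily (I ^ n) M := by
      unfold Formal.smulFamily
      rw [Sigma.ι_desc]
    rw [h2, Category.assoc]
    have h4 : Formal.smulFamily (I ^ n) M ≫ Formal.modPowπ I n M = 0 :=
      cokernel.condition (Formal.smulFamily (I ^ n) M)
    rw [h4, comp_zero]
  have h3 : Formal.modPowπ I n M ≫ Formal.smulMod A (Formal.modPow I n M) b = 0 := by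
    unfold Formal.smulMod
    rw [KLin.comp_smulModΓ]
    exact h1
  haveI : Epi (Formal.modPowπ I n M) :=
    inferInstanceAs (Epi (cokernel.π (Formal.smulFamily (I ^ n) M)))
  exact (cancel_epi (Formal.modPowπ I n M)).1 (h3.trans comp_zero.symm)

/-- the stalks of `M / I^n M` vanish at the points where some element of `I^n` is invertible. -/
theorem subsingleton_stalk_modPow (I : Ideal A) (n : ℕ) (M : Z.Modules) (x : Z) (b : A) (hb : b ∈ I ^ n)
    (hbx : b ∉ ((Z ↘ Spec (CommRingCat.of A)) x).asIdeal) :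
    Subsingleton ((Formal.modPow I n M).presheaf.stalk x) := by
  have hx : x ∈ Z.basicOpen (show Γ(Z, ⊤) from Coh.toGlobal (Z ↘ Spec (CommRingCat.of A)) b) :=
    (mem_basicOpen_toGlobal_iff _ b x).2 hbx
  have hunit := (Scheme.mem_basicOpen Z _ x (show x ∈ (⊤ : Z.Opens) from trivial)).1 hx
  have key : ∀ q : (Formal.modPow I n M).presheaf.stalk x, q = 0 := by
    intro q
    obtain ⟨V, hxV, s, rfl⟩ := (Formal.modPow I n M).presheaf.exists_germ_eq q
    have h0 : (Formal.smulMod A (Formal.modPow I n M) b).app V s = 0 := by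
      rw [smulMod_modPow_eq_zero I n M b hb]
      rfl
    unfold Formal.smulMod at h0
    rw [KLin.smulModΓ_app_apply] at h0
    have h1 := congrArg ((Formal.modPow I n M).presheaf.germ V x hxV) h0
    rw [Groth.Agent.Lib.Helper2.QCoh.germ_smul, map_zero] at h1
    have h2 : Z.presheaf.germ V x hxV (Z.presheaf.map (homOfLE (le_top : V ≤ ⊤)).op
        (Coh.toGlobal (Z ↘ Spec (CommRingCat.of A)) b)) =
        Z.presheaf.germ ⊤ x trivial (show Γ(Z, ⊤) from Coh.toGlobal (Z ↘ Spec (CommRingCat.of A)) b) :=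
      TopCat.Presheaf.germ_res_apply Z.presheaf (homOfLE (le_top : V ≤ ⊤)) x hxV _
    rw [h2] at h1
    exact Groth.Agent.Lib.Helper2.QCoh.germ_smul_eq_zero_of_isUnit hunit h1
  exact ⟨fun a b => (key a).trans (key b).symm⟩

/-- on a scheme over a local ring, `H^p(M / 𝔪^{n+1} M) = 0` above the dimension of the closed fibre. -/
theorem subsingleton_HHmodPow_of_dim [IsLocalRing A] [NoetherianSpace Z] (M : Z.Modules) (d p : ℕ) (hp : d < p)
    (hT : topologicalKrullDim
      (((Z ↘ Spec (CommRingCat.of A)) ⁻¹' {IsLocalRing.closedPoint A} : Set Z) : Set Z) ≤ (d : WithBot ℕ∞))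
    (n : ℕ) :
    Subsingleton (Formal.HHmodPow (IsLocalRing.maximalIdeal A) M p n) := by
  have hcl : IsClosed ((Z ↘ Spec (CommRingCat.of A)) ⁻¹' {IsLocalRing.closedPoint A} : Set Z) :=
    (IsLocalRing.isClosed_singleton_closedPoint A).preimage (Z ↘ Spec (CommRingCat.of A)).continuous
  let U : Z.Opens := ⟨((Z ↘ Spec (CommRingCat.of A)) ⁻¹' {IsLocalRing.closedPoint A} : Set Z)ᶜ, hcl.isOpen_compl⟩
  refine Groth.Agent.Lib.T2H6.GVSupp.subsingleton_HH_of_stalk Z _ U ?_ p ?_
  · intro x hx
    have hne : (Z ↘ Spec (CommRingCat.of A)) x ≠ IsLocalRing.closedPoint A := fun h => hx h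
    have hlt : ((Z ↘ Spec (CommRingCat.of A)) x).asIdeal < IsLocalRing.maximalIdeal A := by
      refine lt_of_le_of_ne (IsLocalRing.le_maximalIdeal
        ((Z ↘ Spec (CommRingCat.of A)) x).isPrime.ne_top) ?_
      intro h
      exact hne (PrimeSpectrum.ext h)
    obtain ⟨a, ha, hax⟩ := Set.exists_of_ssubset hlt
    refine subsingleton_stalk_modPow (IsLocalRing.maximalIdeal A) (n + 1) M x (a ^ (n + 1))
      (Ideal.pow_mem_pow ha _) ?_
    intro h
    exact hax (((Z ↘ Spec (CommRingCat.of A)) x).isPrime.mem_of_pow_mem _ h)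
  · have h1 : ((U : Set Z)ᶜ : Set Z) = ((Z ↘ Spec (CommRingCat.of A)) ⁻¹' {IsLocalRing.closedPoint A} : Set Z) :=
      compl_compl _
    rw [h1]
    exact lt_of_le_of_lt hT (by exact_mod_cast hp)

/-- the inverse limit of the `H^p(M / 𝔪^{n+1} M)` vanishes above the dimension of the closed fibre. -/
theorem subsingleton_HHlim_of_dim [IsLocalRing A] [NoetherianSpace Z] (M : Z.Modules) (d p : ℕ) (hp : d < p)
    (hT : topologicalKrullDim
      (((Z ↘ Spec (CommRingCat.of A)) ⁻¹' {IsLocalRing.closedPoint A} : Set Z) : Set Z) ≤ (d : WithBot ℕ∞)) :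
    Subsingleton (Formal.HHlim (IsLocalRing.maximalIdeal A) M p) := by
  refine ⟨fun a b => Subtype.ext (funext fun n => ?_)⟩
  haveI := subsingleton_HHmodPow_of_dim M d p hp hT n
  exact Subsingleton.elim _ _

end modPow

end Groth.Agent.Lib.T2H6.FibDimVan
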