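import Mathlib
import Groth.Prelude.Def_KLin
import Groth.Prelude.Def_Formal
import Groth.Agent.Lib.T2H6FibDimVan
import Groth.Agent.Lib.Helper23ModAbBridge
import Groth.Agent.Lib.T2H5RpushClosed
import Groth.Agent.S4467
set_option backward.isDefEq.respectTransparency.types false

/-!
# The stalk of `R^p f_* F` vanishes above the dimension of the fibre (helper6)

Namespace `Groth.Agent.Lib.T2H6.FibDimVanB`.
-/

set_option autoImplicit false
set_option linter.style.haveILetI false
set_option linter.unusedSectionVars false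
universe u
open CategoryTheory CategoryTheory.Limits Opposite TopologicalSpace AlgebraicGeometry

namespace Groth.Agent.Lib.T2H6.FibDimVanB

open Groth.Agent.Lib.T2H6.FibDimVan

section geom

variable {X Y : Scheme.{u}} (f : X ⟶ Y) (y : Y)
  (X₁ : Scheme.{u}) [hO : X₁.Over (Spec (CommRingCat.of (Y.presheaf.stalk y)))] (g : X₁ ⟶ X)
  (hsq : IsPullback g (X₁ ↘ Spec (CommRingCat.of (Y.presheaf.stalk y))) f (Y.fromSpecStalk y))

include hsq in
/-- the closed fibre of `X₁ = X ×_Y Spec O_{Y,y}` is homeomorphic to the fibre of `f` over `y`. -/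
theorem dim_closedFibre_eq :
    topologicalKrullDim (((X₁ ↘ Spec (CommRingCat.of (Y.presheaf.stalk y))) ⁻¹'
      {IsLocalRing.closedPoint (Y.presheaf.stalk y)} : Set X₁) : Set X₁) =
      topologicalKrullDim ↥(f.fiber y) := by
  have hw : f.fiberι y ≫ f =
      (f.fiberToSpecResidueField y ≫ Spec.map (Y.residue y)) ≫ Y.fromSpecStalk y := by
    rw [Category.assoc]
    exact f.fiber_fac y
  let j : f.fiber y ⟶ X₁ := hsq.lift (f.fiberι y)
    (f.fiberToSpecResidueField y ≫ Spec.map (Y.residue y)) hw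
  have hj1 : j ≫ g = f.fiberι y := hsq.lift_fst _ _ _
  have hj2 : j ≫ (X₁ ↘ Spec (CommRingCat.of (Y.presheaf.stalk y))) =
      f.fiberToSpecResidueField y ≫ Spec.map (Y.residue y) := hsq.lift_snd _ _ _
  have hbig : IsPullback (j ≫ g) (f.fiberToSpecResidueField y) f
      (Spec.map (Y.residue y) ≫ Y.fromSpecStalk y) := by
    rw [hj1]
    exact IsPullback.of_hasPullback f (Y.fromSpecResidueField y)
  have hpb : IsPullback j (f.fiberToSpecResidueField y)
      (X₁ ↘ Spec (CommRingCat.of (Y.presheaf.stalk y))) (Spec.map (Y.residue y)) :=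
    IsPullback.of_right hbig hj2 hsq
  haveI : IsClosedImmersion (Spec.map (Y.residue y)) := inferInstance
  haveI : IsClosedImmersion j := MorphismProperty.of_isPullback hpb.flip inferInstance
  have hemb : Topology.IsEmbedding j := j.isEmbedding
  -- the range of `j` is the closed fibre
  have hrange : Set.range j = ((X₁ ↘ Spec (CommRingCat.of (Y.presheaf.stalk y))) ⁻¹'
      {IsLocalRing.closedPoint (Y.presheaf.stalk y)} : Set X₁) := by
    let q : pullback (X₁ ↘ Spec (CommRingCat.of (Y.presheaf.stalk y))) (Spec.map (Y.residue y)) ⟶ X₁ :=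
      pullback.fst _ _
    have h1 : j = hpb.isoPullback.hom ≫ q := (hpb.isoPullback_hom_fst).symm
    have h2 : Set.range j = Set.range q := by
      rw [h1]
      change Set.range (⇑q ∘ ⇑hpb.isoPullback.hom) = _
      rw [Set.range_comp, Set.range_eq_univ.2 hpb.isoPullback.hom.surjective, Set.image_univ]
    rw [h2]
    change Set.range (pullback.fst (X₁ ↘ Spec (CommRingCat.of (Y.presheaf.stalk y))) (Spec.map (Y.residue y))) = _
    rw [Scheme.Pullback.range_fst]
    congr 1
    ext z
    constructor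
    · rintro ⟨w, rfl⟩
      exact IsLocalRing.PrimeSpectrum.comap_residue _ w
    · intro hz
      refine ⟨IsLocalRing.closedPoint _, ?_⟩
      rw [Set.mem_singleton_iff.1 hz]
      exact IsLocalRing.PrimeSpectrum.comap_residue _ _
  rw [← hrange]
  exact (hemb.toHomeomorph.isHomeomorph.topologicalKrullDim_eq).symm

end geom

/-- **Vanishing of the stalk of `R^p f_* F` above the dimension of the fibre** (module version). -/
theorem subsingleton_stalk_Rpush {X Y : Scheme.{u}} (f : X ⟶ Y)
    [IsProper f] [IsLocallyNoetherian Y] [HasInjectiveResolutions X.Modules]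
    (y : Y) (d : ℕ) (hd : topologicalKrullDim ↥(f.fiber y) ≤ d)
    (M : X.Modules) (hM : Coh.IsCoh M) (p : ℕ) (hp : d < p) :
    Subsingleton (((Coh.Rpush f p).obj M).presheaf.stalk y) := by
  let X₁ : Scheme.{u} := pullback f (Y.fromSpecStalk y)
  letI hO : X₁.Over (Spec (CommRingCat.of (Y.presheaf.stalk y))) := ⟨pullback.snd _ _⟩
  let g : X₁ ⟶ X := pullback.fst _ _
  have hsq : IsPullback g (X₁ ↘ Spec (CommRingCat.of (Y.presheaf.stalk y))) f (Y.fromSpecStalk y) :=
    IsPullback.of_hasPullback _ _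
  obtain ⟨hfin, ⟨e⟩⟩ := Groth.Agent.S4467.result f M hM y p X₁ g hsq
  haveI : IsNoetherianRing (Y.presheaf.stalk y) := inferInstance
  haveI : IsNoetherianRing (CommRingCat.of (Y.presheaf.stalk y)) := ‹IsNoetherianRing (Y.presheaf.stalk y)›
  haveI : IsLocallyNoetherian X₁ :=
    inferInstanceAs (IsLocallyNoetherian (pullback f (Y.fromSpecStalk y)))
  haveI : CompactSpace X₁ :=
    inferInstanceAs (CompactSpace ↑(pullback f (Y.fromSpecStalk y)))
  haveI : IsNoetherian X₁ := ⟨⟩
  haveI : NoetherianSpace X₁ := inferInstance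
  have hdim := dim_closedFibre_eq f y X₁ g hsq
  haveI : Subsingleton (Formal.HHlim (IsLocalRing.maximalIdeal (Y.presheaf.stalk y))
      ((Scheme.Modules.pullback g).obj M) p) :=
    subsingleton_HHlim_of_dim _ d p hp (by rw [hdim]; exact hd)
  haveI : Subsingleton (AdicCompletion (IsLocalRing.maximalIdeal (Y.presheaf.stalk y))
      (((Coh.Rpush f p).obj M).presheaf.stalk y)) := e.toEquiv.subsingleton
  haveI := hfin
  exact (AdicCompletion.of_injective (IsLocalRing.maximalIdeal (Y.presheaf.stalk y))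
    (((Coh.Rpush f p).obj M).presheaf.stalk y)).subsingleton

/-- **Vanishing of the stalk of `R^p f_* F` above the dimension of the fibre** (abelian sheaf version). -/
theorem isZero_stalk_RpushAb {X Y : Scheme.{u}} (f : X ⟶ Y)
    [IsProper f] [IsLocallyNoetherian Y]
    (y : Y) (d : ℕ) (hd : topologicalKrullDim ↥(f.fiber y) ≤ d)
    (M : X.Modules) (hM : Coh.IsCoh M) (p : ℕ) (hp : d < p) :
    Limits.IsZero (TopCat.Presheaf.stalk ((Coh.RpushAb f p).obj (Coh.toAb M)).obj y) := by
  haveI := Groth.Agent.Lib.T2H5.RpushClosed.hasInjectiveResolutions_modules X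
  haveI := subsingleton_stalk_Rpush f y d hd M hM p hp
  obtain ⟨e⟩ := Groth.Agent.Lib.Helper23.ModAbBridge.nonempty_toAb_Rpush_iso f M p
  have e' : TopCat.Presheaf.stalk (Coh.toAb ((Coh.Rpush f p).obj M)).obj y ≅
      TopCat.Presheaf.stalk ((Coh.RpushAb f p).obj (Coh.toAb M)).obj y :=
    (TopCat.Presheaf.stalkFunctor AddCommGrpCat.{u} y).mapIso
      ((sheafToPresheaf _ _).mapIso e)
  refine Limits.IsZero.of_iso ?_ e'.symm
  haveI : Subsingleton ↑(TopCat.Presheaf.stalk (Coh.toAb ((Coh.Rpush f p).obj M)).obj y) :=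
    ‹Subsingleton (((Coh.Rpush f p).obj M).presheaf.stalk y)›
  exact AddCommGrpCat.isZero_of_subsingleton _

end Groth.Agent.Lib.T2H6.FibDimVanB
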