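import Groth.Agent.Lib.T2H6SDualL
import Groth.Agent.Lib.T2H5ResProp
import Groth.Agent.Lib.T2H5RpushGlobal
import Groth.Agent.Lib.Helper23PB
import Groth.Agent.Lib.T2H5AmplePn
import Groth.Agent.S0042
import Groth.Agent.S9705

/-!
# Dualizing pairs on schemes with an ample invertible module (T2H6)

* `exists_epi_sigma_of_isAmple`: a coherent module on a scheme with an ample invertible module `L` is
  a quotient of a finite sum of copies of an inverse of `L^{⊗ m}`, `m` as large as we please.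
-/

set_option autoImplicit false
set_option linter.style.haveILetI false
universe u

open CategoryTheory CategoryTheory.Limits AlgebraicGeometry TopologicalSpace Opposite

namespace Groth.Agent.Lib.T2H6.SDual

open Groth.Agent.Lib.T2H5.Twist

section Ample

variable {X : Scheme.{u}}

/-- a coherent module on a scheme with an ample invertible module `L` is a quotient of a finite sum of
copies of an inverse `Q m` of `L^{⊗ m}`, with `m` as large as we please. -/
theorem exists_epi_sigma_of_isAmple (L : X.Modules) (hL : CohB1.IsAmple L) (Q : ℕ → X.Modules)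
    (hQ : ∀ m, Nonempty (CohB1.tensorMod (CohB1.tensorPow L m) (Q m) ≅ Coh.structureModule X))
    (F : X.Modules) (hF : Coh.IsCoh F) (m₀ : ℕ) :
    ∃ (m : ℕ) (b : ℕ) (φ : (∐ fun _ : Fin b => Q m) ⟶ F), m₀ ≤ m ∧ Epi φ := by
  haveI : CompactSpace X := hL.2.1
  haveI : F.IsQuasicoherent := hF.1
  haveI : SheafOfModules.IsFiniteType (R := X.ringCatSheaf) F := hF.2
  choose V n₀ hxV hn₀ using Groth.Agent.Lib.Helper23.LocGen.exists_locGen_nhd L hL F
  obtain ⟨T, hT⟩ : ∃ T : Finset X, (Set.univ : Set X) ⊆ ⋃ x ∈ T, (V x : Set X) :=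
    isCompact_univ.elim_finite_subcover (fun x => (V x : Set X)) (fun x => (V x).2)
      (fun x _ => Set.mem_iUnion.2 ⟨x, hxV x⟩)
  let m : ℕ := max (T.sup n₀) m₀
  let M : X.Modules := CohB1.tensorMod F (CohB1.tensorPow L m)
  have hMc : Coh.IsCoh M :=
    Groth.Agent.Lib.T2H5.AmpleSerre.isCoh_tensor_tensorPow F _ hF hL.1 m
  haveI : M.IsQuasicoherent := hMc.1
  haveI : SheafOfModules.IsFiniteType (R := X.ringCatSheaf) M := hMc.2
  have hgen : ∀ y : X, ∃ W : X.Opens, y ∈ W ∧ Groth.Agent.Lib.Helper23.LocGen.LocGen M W := by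
    intro y
    obtain ⟨x, hx⟩ := Set.mem_iUnion.1 (hT (Set.mem_univ y))
    obtain ⟨hxT, hyx⟩ := Set.mem_iUnion.1 hx
    exact ⟨V x, hyx, hn₀ x m ((Finset.le_sup hxT).trans (le_max_left _ _))⟩
  obtain ⟨b, t, ht⟩ := Groth.Agent.Lib.T2H5.FinGlobGen.exists_fin_epi M hgen
  obtain ⟨e⟩ := hQ m
  haveI : PreservesFiniteColimits (tr (Q m)) := preservesFiniteColimits_tr (Q m)
  haveI := ht
  let q : (tr (Q m)).obj (∐ fun _ : Fin b => Coh.structureModule X) ⟶ (tr (Q m)).obj M :=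
    (tr (Q m)).map (Sigma.desc t)
  haveI hq : Epi q := inferInstanceAs (Epi ((tr (Q m)).map (Sigma.desc t)))
  let c : (tr (Q m)).obj M ≅ F := (trCompIsoId e).app F
  let a : (∐ fun _ : Fin b => Q m) ≅ (tr (Q m)).obj (∐ fun _ : Fin b => Coh.structureModule X) :=
    Sigma.mapIso (fun _ => (Groth.Agent.Lib.Helper23.TensorUnit.unitTensorIso (Q m)).symm) ≪≫
      (PreservesCoproduct.iso (tr (Q m)) (fun _ : Fin b => Coh.structureModule X)).symm
  exact ⟨m, b, a.hom ≫ q ≫ c.hom, le_max_right _ _, inferInstance⟩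

end Ample

section Vanish

variable (A : Type u) [CommRing A] [IsNoetherianRing A] {X : Scheme.{u}}
  [X.Over (Spec (CommRingCat.of A))]

/-- Grothendieck vanishing above the fibre dimension for a proper scheme over a Noetherian ring. -/
theorem subsingleton_HH_of_fibre_dim_lt [IsProper (X ↘ Spec (CommRingCat.of A))] (r : ℕ)
    (hfib : ∀ y : ↥(Spec (CommRingCat.of A)),
      topologicalKrullDim ↥((X ↘ Spec (CommRingCat.of A)).fiber y) ≤ (r : WithBot ℕ∞))
    (K : X.Modules) (hK : Coh.IsCoh K) (p : ℕ) (hp : r < p) : Subsingleton (Coh.HH X K p) := by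
  haveI : K.IsQuasicoherent := hK.1
  obtain ⟨e⟩ := Groth.Agent.Lib.T2H5.RpushGlobal.nonempty_equiv (X ↘ Spec (CommRingCat.of A)) K p
  set G := (Coh.RpushAb (X ↘ Spec (CommRingCat.of A)) p).obj (Coh.toAb K) with hG
  have hz : ∀ y : ↥(Spec (CommRingCat.of A)), IsZero (TopCat.Presheaf.stalk G.obj y) := fun y =>
    Groth.Agent.S0042.result (X ↘ Spec (CommRingCat.of A)) y r (hfib y) K hK p hp
  have hsub : Subsingleton ↑(G.obj.obj (op ⊤)) := by
    refine ⟨fun s t => ?_⟩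
    apply TopCat.Presheaf.section_ext G ⊤ s t
    intro y hy
    have : Subsingleton ↑(TopCat.Presheaf.stalk G.obj y) :=
      AddCommGrpCat.subsingleton_of_isZero (hz y)
    exact Subsingleton.elim _ _
  exact e.toEquiv.subsingleton

end Vanish

section ClosedPn

variable (A : Type u) [CommRing A] (n : ℕ) {X : Scheme.{u}} (ι : X ⟶ CohB1.ProjSpace n A)

/-- `ι^* O(m)`. -/
noncomputable abbrev Lm (m : ℤ) : X.Modules :=
  (Scheme.Modules.pullback ι).obj (Twist.twistProjSpace n A m)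

theorem isInvertible_Lm (m : ℤ) : PicF.IsInvertible (Lm A n ι m) :=
  Groth.Agent.Lib.Helper23.PB.isInvertible_pullback ι _ (isInvertible_twist n A m)

theorem nonempty_Lm_tensor_iso (a b c : ℤ) (h : a + b = c) :
    Nonempty (CohB1.tensorMod (Lm A n ι a) (Lm A n ι b) ≅ Lm A n ι c) := by
  obtain ⟨e⟩ := nonempty_twist_tensor_iso n A a b c h
  obtain ⟨e'⟩ := Groth.Agent.Lib.Helper23.PB.nonempty_pullback_tensorMod_iso ι _ _
    (isInvertible_twist n A a) (isInvertible_twist n A b)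
  exact ⟨e'.symm ≪≫ (Scheme.Modules.pullback ι).mapIso e⟩

theorem nonempty_tensorPow_Lm_iso (m : ℕ) :
    Nonempty (CohB1.tensorPow (Lm A n ι 1) m ≅ Lm A n ι (m : ℤ)) := by
  obtain ⟨e⟩ := Groth.Agent.Lib.T2H5.AmplePn.nonempty_tensorPow_twist_iso n A 1 m
  obtain ⟨e'⟩ := Groth.Agent.Lib.Helper23.PB.nonempty_pullback_tensorPow_iso ι _
    (isInvertible_twist n A 1) m
  rw [mul_one] at e
  exact ⟨e'.symm ≪≫ (Scheme.Modules.pullback ι).mapIso e⟩

theorem nonempty_Lm_zero_iso : Nonempty (Lm A n ι 0 ≅ Coh.structureModule X) := by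
  obtain ⟨e⟩ := nonempty_twist_zero_iso n A
  exact ⟨(Scheme.Modules.pullback ι).mapIso e ≪≫ Groth.Agent.Lib.Helper23.PB.pullbackUnitIso ι⟩

theorem nonempty_tensorPow_tensor_iso (m : ℕ) :
    Nonempty (CohB1.tensorMod (CohB1.tensorPow (Lm A n ι 1) m) (Lm A n ι (-(m : ℤ))) ≅
      Coh.structureModule X) := by
  obtain ⟨e₁⟩ := nonempty_tensorPow_Lm_iso A n ι m
  obtain ⟨e₂⟩ := nonempty_Lm_tensor_iso A n ι (m : ℤ) (-(m : ℤ)) 0 (by ring)
  obtain ⟨e₃⟩ := nonempty_Lm_zero_iso A n ι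
  exact ⟨(tr (Lm A n ι (-(m : ℤ)))).mapIso e₁ ≪≫ e₂ ≪≫ e₃⟩

theorem isAmple_Lm_one [IsClosedImmersion ι] : CohB1.IsAmple (Lm A n ι 1) := by
  have h1 : CohB1.IsAmple (Twist.twistProjSpace n A ((1 : ℕ) : ℤ)) :=
    Groth.Agent.Lib.T2H5.AmplePn.isAmple_twist_of_pos n A 1 Nat.one_pos
  rw [Nat.cast_one] at h1
  exact Groth.Agent.Lib.Helper23.PB.isAmple_pullback_of_isAffineHom ι _ h1

/-- every coherent module on a closed subscheme of `P^n_A` is a quotient of a finite sum of twisting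
sheaves. -/
theorem exists_epi_sigma_Lm [IsClosedImmersion ι] (F : X.Modules) (hF : Coh.IsCoh F) :
    ∃ (b : ℕ) (E : Fin b → X.Modules) (φ : (∐ E) ⟶ F),
      (∀ j, ∃ m : ℤ, E j = Lm A n ι m) ∧ Epi φ := by
  obtain ⟨m, b, φ, -, hφ⟩ := exists_epi_sigma_of_isAmple (Lm A n ι 1) (isAmple_Lm_one A n ι)
    (fun m => Lm A n ι (-(m : ℤ))) (nonempty_tensorPow_tensor_iso A n ι) F hF 0
  exact ⟨b, fun _ => Lm A n ι (-(m : ℤ)), φ, fun _ => ⟨_, rfl⟩, hφ⟩

end ClosedPn

end Groth.Agent.Lib.T2H6.SDual
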