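import Mathlib
import Groth.Agent.Lib.T2H6LocGlobB
import Groth.Agent.Lib.T2H6SDualM
import Groth.Agent.Lib.T2H5ClosedTransfer
import Groth.Agent.Lib.T2H4ExtShCoh
import Groth.Agent.Lib.Helper21ExtLocFree
import Groth.Agent.Lib.Helper1FLF1
import Groth.Agent.Lib.T2H4HZshLF

/-!
# Local to global `Ext` for large twists on a projective scheme (Hartshorne III.6.9) (T2H6)

* `sheafHomTwistIso`: `ℋom(M, - ⊗ L) ≅ ℋom(M, -) ⊗ L` for `L` invertible;
* `good_twist`: for `X` closed in `P^n_A`, `A` Noetherian, `F`, `G` coherent and `d ≫ 0`: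
  `Ext^i(F, G(d)) ≃ₗ[A] H⁰(X, ℰxt^i(F, G(d)))`.
-/

set_option autoImplicit false
set_option linter.style.haveILetI false
universe u

open CategoryTheory CategoryTheory.Limits Abelian AlgebraicGeometry

namespace Groth.Agent.Lib.T2H6.LocGlob

open Groth.Agent.Lib.Helper21.ExtShDelta Groth.Agent.Lib.Helper21.CoDeltaLib
  Groth.Agent.Lib.Helper21.ModTensor3 Groth.Agent.Lib.Helper21.ModTensor5
  Groth.Agent.Lib.T2H5.Twist Groth.Agent.Lib.T2H6.SDual

attribute [local instance] hasSheafHom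

section Twist

variable {X : Scheme.{u}}

/-- `ℋom(M, - ⊗ L) ≅ ℋom(M, -) ⊗ L` for `L` invertible with inverse `L'`. -/
noncomputable def sheafHomTwistIso (M L L' : X.Modules)
    (e : CohB1.tensorMod L' L ≅ Coh.structureModule X)
    (e' : CohB1.tensorMod L L' ≅ Coh.structureModule X) :
    ModSite.sheafHom (O := X.sheaf) M ⋙ tR X.sheaf L ≅
      tR X.sheaf L ⋙ ModSite.sheafHom (O := X.sheaf) M :=
  let adjL : tR X.sheaf L' ⊣ tR X.sheaf L := (trEquiv e e').toAdjunction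
  let adj₁ : tR X.sheaf L' ⋙ tR X.sheaf M ⊣ ModSite.sheafHom (O := X.sheaf) M ⋙ tR X.sheaf L :=
    adjL.comp (ModSite.sheafHomAdj (O := X.sheaf) M)
  let adj₂ : tR X.sheaf M ⋙ tR X.sheaf L' ⊣ tR X.sheaf L ⋙ ModSite.sheafHom (O := X.sheaf) M :=
    (ModSite.sheafHomAdj (O := X.sheaf) M).comp adjL
  let iso : tR X.sheaf L' ⋙ tR X.sheaf M ≅ tR X.sheaf M ⋙ tR X.sheaf L' :=
    trComp L' M ≪≫ trCongr (brdApp X.sheaf L' M) ≪≫ (trComp M L').symm
  (adj₁.ofNatIsoLeft iso).rightAdjointUniq adj₂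

variable [HasInjectiveResolutions (ModSite.Mod X.sheaf)]

/-- `ℰxt⁰(M, Y) ≅ ℋom(M, Y)`. -/
noncomputable def EEzeroIso (M Y : X.Modules) :
    EE 0 M Y ≅ ((ModSite.sheafHom (O := X.sheaf) M).obj Y : X.Modules) :=
  haveI := sheafHom_preservesFiniteLimits X.sheaf M
  (Functor.rightDerivedZeroIsoSelf (ModSite.sheafHom (O := X.sheaf) M)).app Y

theorem nonempty_EE_zero_twist_iso (M G L L' : X.Modules)
    (e : CohB1.tensorMod L' L ≅ Coh.structureModule X)
    (e' : CohB1.tensorMod L L' ≅ Coh.structureModule X) :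
    Nonempty (EE 0 M (CohB1.tensorMod G L) ≅ CohB1.tensorMod (EE 0 M G) L) :=
  ⟨EEzeroIso M (CohB1.tensorMod G L) ≪≫ ((sheafHomTwistIso M L L' e e').app G).symm ≪≫
    (tr L).mapIso (EEzeroIso M G).symm⟩

end Twist

section Closed

variable (A : Type u) [CommRing A] [IsNoetherianRing A] (n : ℕ) {X : Scheme.{u}}
  [X.Over (Spec (CommRingCat.of A))] (ι : X ⟶ CohB1.ProjSpace n A) [IsClosedImmersion ι]
  (hι : ι ≫ CohB1.ProjSpace.toSpec n A = X ↘ Spec (CommRingCat.of A))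

include hι in
theorem isLocallyNoetherian_of_closed : IsLocallyNoetherian X := by
  haveI hP : IsProper (CohB1.ProjSpace.toSpec n A) :=
    Groth.Agent.S9705.isProper_projSpace_toSpec n A
  haveI hprop : IsProper (X ↘ Spec (CommRingCat.of A)) := by
    rw [← hι]
    infer_instance
  exact LocallyOfFiniteType.isLocallyNoetherian (X ↘ Spec (CommRingCat.of A))

omit [IsNoetherianRing A] [X.Over (Spec (CommRingCat.of A))] [IsClosedImmersion ι] in
/-- `O_X(d) ⊗ O_X(-d) ≅ O_X`. -/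
theorem nonempty_Lm_inv_iso (a b : ℤ) (h : a + b = 0) :
    Nonempty (CohB1.tensorMod (Lm A n ι a) (Lm A n ι b) ≅ Coh.structureModule X) := by
  obtain ⟨e₂⟩ := nonempty_Lm_tensor_iso A n ι a b 0 h
  obtain ⟨e₃⟩ := nonempty_Lm_zero_iso A n ι
  exact ⟨e₂ ≪≫ e₃⟩

variable [HasInjectiveResolutions (ModSite.Mod X.sheaf)]

include hι in
/-- Serre vanishing for the sheaf Hom into large twists. -/
theorem exists_vanishing_EE_zero (M G : X.Modules) (hM : Coh.IsCoh M) (hG : Coh.IsCoh G) :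
    ∃ d₀ : ℤ, ∀ d : ℤ, d₀ ≤ d → ∀ q : ℕ, 1 ≤ q →
      Subsingleton (Coh.HH X (EE 0 M (CohB1.tensorMod G (Lm A n ι d))) q) := by
  haveI := isLocallyNoetherian_of_closed A n ι hι
  have hN : Coh.IsCoh (EE 0 M G) := Groth.Agent.Lib.T2H4.ExtShCoh.isCoh_extSh M G hM hG 0
  obtain ⟨d₀, hd₀⟩ := Groth.Agent.Lib.T2H5.ClosedTransfer.serre_vanishing_closed n A ι (EE 0 M G) hN
  refine ⟨d₀, fun d hd q hq => ?_⟩
  obtain ⟨e⟩ := nonempty_Lm_inv_iso A n ι (-d) d (by omega)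
  obtain ⟨e'⟩ := nonempty_Lm_inv_iso A n ι d (-d) (by omega)
  obtain ⟨φ⟩ := nonempty_EE_zero_twist_iso M G (Lm A n ι d) (Lm A n ι (-d)) e e'
  exact Groth.Agent.Lib.T2H5.PnStruct.subsingleton_HH_of_iso φ.symm q (hd₀ d hd q hq)

variable [HasExt.{u} X.Modules]

include hι in
/-- `Ext^q(E, G(d)) = 0` for `E` finite locally free, `q ≥ 1`, `d ≫ 0`. -/
theorem exists_vanishing_ext_locFree (E G : X.Modules) (hE : FlatMod.IsFinLocFree E)
    (hEc : Coh.IsCoh E) (hG : Coh.IsCoh G) :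
    ∃ d₀ : ℤ, ∀ d : ℤ, d₀ ≤ d → ∀ q : ℕ, 1 ≤ q →
      Subsingleton (Ext E (CohB1.tensorMod G (Lm A n ι d)) q) := by
  obtain ⟨d₀, hd₀⟩ := exists_vanishing_EE_zero A n ι hι E G hEc hG
  refine ⟨d₀, fun d hd q hq => ?_⟩
  haveI := Groth.Agent.Lib.Helper21.ModTensor3.isGrothendieckAbelian X.sheaf
  haveI : EnoughInjectives (ModSite.Mod X.sheaf) := inferInstance
  haveI : HasExt.{u} (ModSite.Mod X.sheaf) := ‹HasExt.{u} X.Modules›
  haveI := Groth.Agent.Lib.Helper21.ExtLocFree.preservesFiniteColimits_sheafHom X.sheaf E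
    (fun G q => Groth.Agent.Lib.Helper21.ExtShLocFree.isZero_extSh_of_isFinLocFree E G hE q)
  obtain ⟨ε⟩ := Groth.Agent.Lib.Helper21.ExtLocFree.nonempty_ext_addEquiv_HC X.sheaf E
    (CohB1.tensorMod G (Lm A n ι d)) q
  have h1 : Subsingleton (Coh.HH X
      ((ModSite.sheafHom (O := X.sheaf) E).obj (CohB1.tensorMod G (Lm A n ι d)) : X.Modules) q) :=
    Groth.Agent.Lib.T2H5.PnStruct.subsingleton_HH_of_iso
      (EEzeroIso E (CohB1.tensorMod G (Lm A n ι d))) q (hd₀ d hd q hq)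
  exact ε.injective.subsingleton

omit [HasInjectiveResolutions (ModSite.Mod X.sheaf)] [HasExt X.Modules] in
include hι in
/-- a presentation of a coherent module by a finite locally free one. -/
theorem exists_pres_locFree (F : X.Modules) (hF : Coh.IsCoh F) :
    ∃ S : ShortComplex X.Modules, S.ShortExact ∧ S.X₃ = F ∧ Coh.IsCoh S.X₁ ∧ Coh.IsCoh S.X₂ ∧
      FlatMod.IsFinLocFree S.X₂ := by
  haveI := isLocallyNoetherian_of_closed A n ι hι
  obtain ⟨b, E, φ, hE, hφ⟩ := exists_epi_sigma_Lm A n ι F hF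
  have hinv : ∀ j, PicF.IsInvertible (E j) := by
    intro j
    obtain ⟨m, hm⟩ := hE j
    rw [hm]
    exact isInvertible_Lm A n ι m
  have hflf : FlatMod.IsFinLocFree (∐ E) :=
    Groth.Agent.Lib.Helper1.FLF.isFinLocFree_of_isColimit_cofan E (Cofan.mk (∐ E) (Sigma.ι E))
      (coproductIsCoproduct E) Finset.univ (fun i hi => absurd (Finset.mem_univ i) hi)
      (fun j => Groth.Agent.Helper18PBUnit.isFinLocFree_of_isInvertible (hinv j))
  have hEc : Coh.IsCoh (∐ E) :=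
    Groth.Agent.Lib.T2H5.GenIsoA.isCoh_sigma E
      (fun j => Groth.Agent.Lib.T2H6.CurveDeg.isCoh_of_isInvertible _ (hinv j))
  have hK : Coh.IsCoh (kernel φ) := Groth.Agent.Lib.T2H5.GenIsoB.isCoh_kernel φ hEc hF
  exact ⟨ShortComplex.mk (kernel.ι φ) φ (kernel.condition φ),
    ShortComplex.ShortExact.mk (ShortComplex.exact_kernel φ), rfl, hK, hEc, hflf⟩

include hι in
/-- **Hartshorne III.6.9**: `Ext^i(F, G(d)) ≅ H⁰(X, ℰxt^i(F, G(d)))` for `d ≫ 0`, linearly. -/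
theorem good_twist (G : X.Modules) (hG : Coh.IsCoh G) (i : ℕ) :
    ∀ F : X.Modules, Coh.IsCoh F → ∃ d₀ : ℤ, ∀ d : ℤ, d₀ ≤ d →
      Good A i F (CohB1.tensorMod G (Lm A n ι d)) := by
  induction i using Nat.twoStepInduction with
  | zero =>
    intro F _
    exact ⟨0, fun d _ => good_zero A F _⟩
  | one =>
    intro F hF
    obtain ⟨S, hS, rfl, hR, hEc, hE⟩ := exists_pres_locFree A n ι hι F hF
    obtain ⟨d₁, hd₁⟩ := exists_vanishing_EE_zero A n ι hι S.X₃ G hF hG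
    obtain ⟨d₂, hd₂⟩ := exists_vanishing_EE_zero A n ι hι S.X₂ G hEc hG
    obtain ⟨d₃, hd₃⟩ := exists_vanishing_ext_locFree A n ι hι S.X₂ G hE hEc hG
    refine ⟨max d₁ (max d₂ d₃), fun d hd => ?_⟩
    have h1 : d₁ ≤ d := (le_max_left _ _).trans hd
    have h2 : d₂ ≤ d := ((le_max_left _ _).trans (le_max_right _ _)).trans hd
    have h3 : d₃ ≤ d := ((le_max_right _ _).trans (le_max_right _ _)).trans hd
    exact good_one A S hS _
      (Groth.Agent.Lib.Helper21.ExtShLocFree.isZero_extSh_of_isFinLocFree S.X₂ _ hE 0)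
      (hd₃ d h3 1 le_rfl) (hd₁ d h1 1 le_rfl) (hd₁ d h1 2 (by omega)) (hd₂ d h2 1 le_rfl)
  | more i _ ih =>
    intro F hF
    obtain ⟨S, hS, rfl, hR, hEc, hE⟩ := exists_pres_locFree A n ι hι F hF
    obtain ⟨d₁, hd₁⟩ := ih S.X₁ hR
    obtain ⟨d₃, hd₃⟩ := exists_vanishing_ext_locFree A n ι hι S.X₂ G hE hEc hG
    refine ⟨max d₁ d₃, fun d hd => ?_⟩
    have h1 : d₁ ≤ d := (le_max_left _ _).trans hd
    have h3 : d₃ ≤ d := (le_max_right _ _).trans hd
    exact good_succ A S hS _ i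
      (Groth.Agent.Lib.Helper21.ExtShLocFree.isZero_extSh_of_isFinLocFree S.X₂ _ hE i)
      (Groth.Agent.Lib.Helper21.ExtShLocFree.isZero_extSh_of_isFinLocFree S.X₂ _ hE (i + 1))
      (hd₃ d h3 (i + 1) (by omega)) (hd₃ d h3 (i + 2) (by omega)) (hd₁ d h1)

end Closed

end Groth.Agent.Lib.T2H6.LocGlob
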