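import Mathlib
import Groth.Agent.Lib.T2H6LocGlobC
import Groth.Agent.Lib.T2H6ExtDualD
import Groth.Agent.Lib.Helper21DerAcyc
import Groth.Agent.Lib.Helper21DerPost
import Groth.Agent.Lib.Helper21Dual12
import Groth.Agent.Lib.Helper21Dual9
import Groth.Agent.Lib.T2H5Chevalley
import Groth.Agent.S10950

/-!
# Vanishing of cohomology of negative twists and vanishing of `ℰxt` sheaves on `P^n_k` (T2H6)

* `nonempty_EE_twist_iso`: `ℰxt^p(M, G ⊗ L) ≅ ℰxt^p(M, G) ⊗ L` for `L` invertible;
* `isZero_of_sections_twist`: a coherent module on `P^n_k` all of whose large twists have no global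
  sections is zero;
* `vanishing_iff_isZero_EE`: `H^{n-j}(P, F(-m)) = 0` for `m ≫ 0` iff `ℰxt^j(F, ω_P) = 0`.
-/

set_option autoImplicit false
set_option linter.style.haveILetI false
universe u

open CategoryTheory CategoryTheory.Limits Abelian AlgebraicGeometry

namespace Groth.Agent.Lib.T2H6.LocGlob

open Groth.Agent.Lib.Helper21.ExtShDelta Groth.Agent.Lib.Helper21.CoDeltaLib
  Groth.Agent.Lib.Helper21.ModTensor3 Groth.Agent.Lib.Helper21.ModTensor5
  Groth.Agent.Lib.T2H5.Twist Groth.Agent.Lib.T2H6.SDual Groth.Agent.Lib.Helper21.DerPost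
  Groth.Agent.Lib.Helper21.Dual

attribute [local instance] hasSheafHom

section Twist

variable {X : Scheme.{u}} [HasInjectiveResolutions (ModSite.Mod X.sheaf)]

/-- `ℰxt^p(M, G ⊗ L) ≅ ℰxt^p(M, G) ⊗ L` for `L` invertible with inverse `L'`. -/
theorem nonempty_EE_twist_iso (p : ℕ) (M G L L' : X.Modules) (hL : PicF.IsInvertible L)
    (e : CohB1.tensorMod L' L ≅ Coh.structureModule X)
    (e' : CohB1.tensorMod L L' ≅ Coh.structureModule X) :
    Nonempty (EE p M (CohB1.tensorMod G L) ≅ CohB1.tensorMod (EE p M G) L) := by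
  haveI := Groth.Agent.Lib.Helper21.ModTensor3.isGrothendieckAbelian X.sheaf
  haveI : EnoughInjectives (ModSite.Mod X.sheaf) := inferInstance
  haveI : PreservesFiniteLimits (tR X.sheaf L) := preservesFiniteLimits_tr hL
  haveI : (tR X.sheaf L).PreservesHomology := inferInstance
  haveI := sheafHom_preservesFiniteLimits X.sheaf M
  have hLff : IsLocFF (O := X.sheaf) L :=
    isLocFF_of_isFinLocFree L (Groth.Agent.Helper18PBUnit.isFinLocFree_of_isInvertible hL)
  have hT : ∀ I : ModSite.Mod X.sheaf, Injective I → ∀ q : ℕ, 0 < q →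
      IsZero (((ModSite.sheafHom (O := X.sheaf) M).rightDerived q).obj ((tR X.sheaf L).obj I)) := by
    intro I hI q hq
    obtain ⟨q, rfl⟩ : ∃ r, q = r + 1 := ⟨q - 1, by omega⟩
    haveI : Injective ((tR X.sheaf L).obj I) := injective_tR_obj L hLff I
    exact Functor.isZero_rightDerived_obj_injective_succ _ q _
  obtain ⟨e₁⟩ := Groth.Agent.Lib.Helper21.DerAcyc.nonempty_rightDerived_comp_iso
    (tR X.sheaf L) (ModSite.sheafHom (O := X.sheaf) M) hT G p
  let e₂ := natIsoRightDerived (sheafHomTwistIso M L L' e e') p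
  let e₃ := postIso (ModSite.sheafHom (O := X.sheaf) M) (tR X.sheaf L) p
  exact ⟨e₁.symm ≪≫ (e₂.app G).symm ≪≫ e₃.app G⟩

end Twist

section General

open Groth.Agent.Lib.T2H6.ExtDual

variable (A : Type u) [CommRing A] {X : Scheme.{u}} [X.Over (Spec (CommRingCat.of A))]

omit [X.Over (Spec (CommRingCat.of A))] in
/-- `A ⊗ B ≅ A ⊗ B'` for `B ≅ B'`. -/
noncomputable def tensorModCongrRight (M : X.Modules) {B B' : X.Modules} (e : B ≅ B') :
    CohB1.tensorMod M B ≅ CohB1.tensorMod M B' :=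
  (tL X.sheaf M).mapIso e

omit [X.Over (Spec (CommRingCat.of A))] in
/-- `Ext^j(F ⊗ L', N) = 0 ↔ Ext^j(F, N ⊗ L) = 0` for `L`, `L'` inverse to each other. -/
theorem subsingleton_ext_tensor_iff [HasExt.{u} X.Modules] (F N L L' : X.Modules)
    (e : CohB1.tensorMod L' L ≅ Coh.structureModule X)
    (e' : CohB1.tensorMod L L' ≅ Coh.structureModule X) (j : ℕ) :
    Subsingleton (Ext (CohB1.tensorMod F L') N j) ↔
      Subsingleton (Ext F (CohB1.tensorMod N L) j) := by
  constructor
  · intro h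
    refine subsingleton_ext_of_tr (G := L') (F := L) e e' F _ j ?_
    have i2 : (tr L ⋙ tr L').obj N ≅ N := (trCompIsoId e').app N
    exact subsingleton_ext_of_iso_right _ i2.symm j h
  · intro h
    refine subsingleton_ext_of_tr (G := L) (F := L') e' e _ N j ?_
    have i1 : (tr L' ⋙ tr L).obj F ≅ F := (trCompIsoId e).app F
    exact subsingleton_ext_of_iso_left i1.symm _ j h

/-- the chain `Ext^j(F ⊗ L⁻¹, ω) = 0 ↔ H⁰(ℰxt^j(F, ω) ⊗ L) = 0` when `Ext^j(F, ω ⊗ L)` is computed by
global sections. -/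
theorem chain_aux [HasExt.{u} X.Modules] [HasInjectiveResolutions (ModSite.Mod X.sheaf)]
    (F ω L L' L'' : X.Modules) (hL : PicF.IsInvertible L)
    (e : CohB1.tensorMod L' L ≅ Coh.structureModule X)
    (e' : CohB1.tensorMod L L' ≅ Coh.structureModule X) (isoL : L'' ≅ L) (j : ℕ)
    (hD : Good A j F (CohB1.tensorMod ω L'')) :
    Subsingleton (Ext (CohB1.tensorMod F L') ω j) ↔
      Subsingleton (Coh.HH X (CohB1.tensorMod (EE j F ω) L) 0) := by
  obtain ⟨eD⟩ := hD
  let isoA : CohB1.tensorMod ω L'' ≅ CohB1.tensorMod ω L := tensorModCongrRight ω isoL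
  obtain ⟨eE⟩ := nonempty_EE_twist_iso j F ω L L' hL e e'
  let isoE : EE j F (CohB1.tensorMod ω L'') ≅ CohB1.tensorMod (EE j F ω) L :=
    ((ModSite.sheafHom (O := X.sheaf) F).rightDerived j).mapIso isoA ≪≫ eE
  rw [subsingleton_ext_tensor_iff F ω L L' e e' j]
  constructor
  · intro h
    have h1 : Subsingleton (Ext F (CohB1.tensorMod ω L'') j) :=
      subsingleton_ext_of_iso_right _ isoA.symm j h
    have h2 : Subsingleton (Coh.HH X (EE j F (CohB1.tensorMod ω L'')) 0) :=
      eD.symm.injective.subsingleton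
    exact Groth.Agent.Lib.T2H5.PnStruct.subsingleton_HH_of_iso isoE 0 h2
  · intro h
    have h2 : Subsingleton (Coh.HH X (EE j F (CohB1.tensorMod ω L'')) 0) :=
      Groth.Agent.Lib.T2H5.PnStruct.subsingleton_HH_of_iso isoE.symm 0 h
    have h1 : Subsingleton (Ext F (CohB1.tensorMod ω L'') j) :=
      eD.injective.subsingleton
    exact subsingleton_ext_of_iso_right _ isoA j h1

end General

section Pn

open Groth.Agent.Lib.T2H5.PnTop Groth.Agent.Lib.T2H6.ExtDual

variable (n : ℕ) (k : Type u) [Field k]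

/-- `Hom(O(-m), E) = 0` if `E(m)` has no global sections. -/
theorem hom_twist_eq_zero [HasExt.{u} (CohB1.ProjSpace n k).Modules]
    (E : (CohB1.ProjSpace n k).Modules) (m : ℤ)
    (h : Subsingleton (Coh.HH (CohB1.ProjSpace n k)
      (CohB1.tensorMod E (Twist.twistProjSpace n k m)) 0))
    (f : Twist.twistProjSpace n k (-m) ⟶ E) : f = 0 := by
  let u : Coh.structureModule (CohB1.ProjSpace n k) ≅
      (tw n k m).obj (Twist.twistProjSpace n k (-m)) :=
    (Groth.Agent.Lib.T2H5.ClosedTransfer.twistInvIso' n k m).symm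
  let g : Coh.structureModule (CohB1.ProjSpace n k) ⟶ (tw n k m).obj E := u.hom ≫ (tw n k m).map f
  have hg : g = 0 := by
    apply (gam k ((tw n k m).obj E)).injective
    exact @Subsingleton.elim _ h _ _
  have h1 : (tw n k m).map f = 0 := by
    have : u.hom ≫ (tw n k m).map f = u.hom ≫ 0 := by rw [comp_zero]; exact hg
    exact (cancel_epi u.hom).mp this
  haveI : (tw n k m).Faithful := by
    rw [← twEquiv_functor]
    infer_instance
  apply (tw n k m).map_injective
  rw [h1, Functor.map_zero]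

/-- a coherent module on `P^n_k` all of whose large twists have no global sections is zero. -/
theorem isZero_of_sections_twist [HasExt.{u} (CohB1.ProjSpace n k).Modules]
    (E : (CohB1.ProjSpace n k).Modules) (hE : Coh.IsCoh E) (m₀ : ℤ)
    (h : ∀ m : ℤ, m₀ ≤ m → Subsingleton (Coh.HH (CohB1.ProjSpace n k)
      (CohB1.tensorMod E (Twist.twistProjSpace n k m)) 0)) : IsZero E := by
  obtain ⟨m, b, φ, hm, hφ⟩ := exists_epi_twists_ge n k E hE m₀
  have key : ∀ T : (CohB1.ProjSpace n k).Modules, T = Twist.twistProjSpace n k (-m) →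
      ∀ φ : (∐ fun _ : Fin b => T) ⟶ E, Epi φ → IsZero E := by
    intro T hT φ hφ
    subst hT
    refine IsZero.of_epi_eq_zero φ ?_
    apply Sigma.hom_ext
    intro j
    rw [comp_zero]
    exact hom_twist_eq_zero n k E m (h m hm) _
  exact key _ (twist_eq n k (-m)).symm φ hφ

theorem isCoh_tensorMod' {X : Scheme.{u}} (A B : X.Modules) (hA : Coh.IsCoh A) (hB : Coh.IsCoh B) :
    Coh.IsCoh (CohB1.tensorMod A B) := by
  haveI : A.IsQuasicoherent := hA.1
  haveI : B.IsQuasicoherent := hB.1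
  haveI : SheafOfModules.IsFiniteType (R := X.ringCatSheaf) A := hA.2
  haveI : SheafOfModules.IsFiniteType (R := X.ringCatSheaf) B := hB.2
  exact ⟨Groth.Agent.Lib.Helper23.TensorQCoh.isQuasicoherent_tensorMod A B,
    Groth.Agent.Lib.Helper23.TensorQCoh.isFiniteType_tensorMod A B⟩

/-- **`H^{n-j}(P, F(-m)) = 0` for `m ≫ 0` iff `ℰxt^j(F, ω) = 0`**, for a module `ω` satisfying
duality in degree `j`. -/
theorem vanishing_iff_isZero_EE_aux [HasExt.{u} (CohB1.ProjSpace n k).Modules]
    [HasInjectiveResolutions (ModSite.Mod (CohB1.ProjSpace n k).sheaf)]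
    (ω : (CohB1.ProjSpace n k).Modules) (hωc : Coh.IsCoh ω) (j : ℕ)
    (hB : ∀ F' : (CohB1.ProjSpace n k).Modules, Coh.IsCoh F' →
      (Subsingleton (Ext F' ω j) ↔ Subsingleton (Coh.HH (CohB1.ProjSpace n k) F' (n - j))))
    (F : (CohB1.ProjSpace n k).Modules) (hF : Coh.IsCoh F) :
    (∃ m₀ : ℤ, ∀ m : ℤ, m₀ ≤ m → Subsingleton (Coh.HH (CohB1.ProjSpace n k)
        (CohB1.tensorMod F (Twist.twistProjSpace n k (-m))) (n - j))) ↔
      IsZero (EE j F ω) := by
  haveI : IsLocallyNoetherian (CohB1.ProjSpace n k) := isLocallyNoetherian_projSpace' n k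
  have hEc : Coh.IsCoh (EE j F ω) := Groth.Agent.Lib.T2H4.ExtShCoh.isCoh_extSh F ω hF hωc j
  obtain ⟨m₁, hm₁⟩ := good_twist k n (𝟙 (CohB1.ProjSpace n k)) (Category.id_comp _) ω hωc j F hF
  -- the chain of equivalences for a single large `m`
  have chain : ∀ m : ℤ, m₁ ≤ m →
      (Subsingleton (Coh.HH (CohB1.ProjSpace n k)
        (CohB1.tensorMod F (Twist.twistProjSpace n k (-m))) (n - j)) ↔
      Subsingleton (Coh.HH (CohB1.ProjSpace n k)
        (CohB1.tensorMod (EE j F ω) (Twist.twistProjSpace n k m)) 0)) := by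
    intro m hm
    have hFm : Coh.IsCoh (CohB1.tensorMod F (Twist.twistProjSpace n k (-m))) :=
      isCoh_tensorMod' _ _ hF (Groth.Agent.Lib.T2H5.PnFinite.isCoh_twist n k _)
    exact (hB _ hFm).symm.trans
      (chain_aux k F ω (Twist.twistProjSpace n k m) (Twist.twistProjSpace n k (-m))
        (Lm k n (𝟙 (CohB1.ProjSpace n k)) m) (isInvertible_twist n k m)
        (Groth.Agent.Lib.T2H5.ClosedTransfer.twistInvIso' n k m)
        (Groth.Agent.Lib.T2H5.ClosedTransfer.twistInvIso n k m)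
        ((Scheme.Modules.pullbackId (CohB1.ProjSpace n k)).app (Twist.twistProjSpace n k m))
        j (hm₁ m hm))
  constructor
  · rintro ⟨m₀, hm₀⟩
    refine isZero_of_sections_twist n k (EE j F ω) hEc (max m₀ m₁) (fun m hm => ?_)
    exact (chain m ((le_max_right _ _).trans hm)).1 (hm₀ m ((le_max_left _ _).trans hm))
  · intro hz
    refine ⟨m₁, fun m hm => (chain m hm).2 ?_⟩
    refine Groth.Agent.Lib.T2H5.Chevalley.subsingleton_HH_of_isZero ?_ 0
    exact (tw n k m).map_isZero hz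

/-- **`H^{n-j}(P, F(-m)) = 0` for `m ≫ 0` iff `ℰxt^j(F, ω_P) = 0`.** -/
theorem vanishing_iff_isZero_EE [HasExt.{u} (CohB1.ProjSpace n k).Modules]
    [HasInjectiveResolutions (ModSite.Mod (CohB1.ProjSpace n k).sheaf)]
    (F : (CohB1.ProjSpace n k).Modules) (hF : Coh.IsCoh F) (j : ℕ) (hj : j ≤ n) :
    (∃ m₀ : ℤ, ∀ m : ℤ, m₀ ≤ m → Subsingleton (Coh.HH (CohB1.ProjSpace n k)
        (CohB1.tensorMod F (Twist.twistProjSpace n k (-m))) (n - j))) ↔
      IsZero (EE j F (Twist.twistProjSpace n k (-((n : ℤ) + 1)))) :=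
  vanishing_iff_isZero_EE_aux n k _ (Groth.Agent.Lib.T2H5.PnFinite.isCoh_twist n k _) j
    (fun F' hF' => Groth.Agent.S10950.result k n F' hF' j hj) F hF

/-- **`H^p(X, O_X(-m)) = 0` for `m ≫ 0` iff `ℰxt^{n-p}(ι_* O_X, ω_P) = 0`**, for `X` closed in `P^n_k`. -/
theorem closed_vanishing_iff_isZero_EE
    [HasInjectiveResolutions (ModSite.Mod (CohB1.ProjSpace n k).sheaf)]
    {X : Scheme.{u}} (ι : X ⟶ CohB1.ProjSpace n k) [IsClosedImmersion ι] (p : ℕ) (hp : p ≤ n) :
    (∃ m₀ : ℤ, ∀ m : ℤ, m₀ ≤ m → Subsingleton (Coh.HH X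
        ((Scheme.Modules.pullback ι).obj (Twist.twistProjSpace n k (-m))) p)) ↔
      IsZero (EE (n - p) ((Scheme.Modules.pushforward ι).obj (Coh.structureModule X))
        (Twist.twistProjSpace n k (-((n : ℤ) + 1)))) := by
  haveI := Groth.Agent.Lib.Helper21.ModTensor3.isGrothendieckAbelian (CohB1.ProjSpace n k).sheaf
  haveI : HasExt.{u} (CohB1.ProjSpace n k).Modules :=
    (inferInstance : HasExt.{u} (ModSite.Mod (CohB1.ProjSpace n k).sheaf))
  have hO : Coh.IsCoh (Coh.structureModule X) := Groth.Agent.Lib.T2H5.GenIsoF.isCoh_structureModule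
  have hFm : Coh.IsCoh ((Scheme.Modules.pushforward ι).obj (Coh.structureModule X)) :=
    Groth.Agent.Lib.T2H5.ClosedTransfer.isCoh_pushforward ι _ hO
  have hA : ∀ m : ℤ,
      Subsingleton (Coh.HH X ((Scheme.Modules.pullback ι).obj (Twist.twistProjSpace n k (-m))) p) ↔
      Subsingleton (Coh.HH (CohB1.ProjSpace n k)
        (CohB1.tensorMod ((Scheme.Modules.pushforward ι).obj (Coh.structureModule X))
          (Twist.twistProjSpace n k (-m))) p) := by
    intro m
    rw [← Groth.Agent.Lib.T2H5.ClosedTransfer.subsingleton_HH_twist_iff n k ι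
      (Coh.structureModule X) hO.1 (-m) p]
    have iso := Groth.Agent.Lib.Helper23.TensorUnit.unitTensorIso
      ((Scheme.Modules.pullback ι).obj (Twist.twistProjSpace n k (-m)))
    exact ⟨Groth.Agent.Lib.T2H5.PnStruct.subsingleton_HH_of_iso iso.symm p,
      Groth.Agent.Lib.T2H5.PnStruct.subsingleton_HH_of_iso iso p⟩
  have hmain := vanishing_iff_isZero_EE n k _ hFm (n - p) (Nat.sub_le n p)
  rw [Nat.sub_sub_self hp] at hmain
  rw [← hmain]
  constructor
  · rintro ⟨m₀, h⟩
    exact ⟨m₀, fun m hm => (hA m).1 (h m hm)⟩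
  · rintro ⟨m₀, h⟩
    exact ⟨m₀, fun m hm => (hA m).2 (h m hm)⟩

end Pn

end Groth.Agent.Lib.T2H6.LocGlob
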