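import Mathlib
import Groth.Agent.Lib.T2H6LocGlobD
import Groth.Agent.Lib.T2H6GVMain
import Groth.Agent.Lib.T2H6RankAdd
import Groth.Agent.Lib.Helper1FLF1

/-!
# Vanishing of `ℰxt^i(ι_* O_X, ω_P)` below the codimension (Hartshorne III.7.3) (T2H6)
-/

set_option autoImplicit false
set_option linter.style.haveILetI false
universe u

open CategoryTheory CategoryTheory.Limits Abelian AlgebraicGeometry

namespace Groth.Agent.Lib.T2H6.LocGlob

open Groth.Agent.Lib.Helper21.ExtShDelta Groth.Agent.Lib.Helper21.CoDeltaLib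
  Groth.Agent.Lib.T2H5.Twist Groth.Agent.Lib.T2H6.SDual Groth.Agent.Lib.Helper21.Dual
  Groth.Agent.Lib.Helper21.ModTensor3 Groth.Agent.Lib.Helper21.ModTensor5
  Groth.Agent.Lib.Helper21.DerPost

attribute [local instance] hasSheafHom

section LocFree

variable {X : Scheme.{u}}

/-- `ℋom(M, - ⊗ E) ≅ ℋom(M, -) ⊗ E` for `E` locally free of finite rank. -/
noncomputable def sheafHomTensorIsoLF (M E : X.Modules) (hE : IsLocFF (O := X.sheaf) E) :
    ModSite.sheafHom (O := X.sheaf) M ⋙ tR X.sheaf E ≅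
      tR X.sheaf E ⋙ ModSite.sheafHom (O := X.sheaf) M :=
  let adjL : tR X.sheaf (dual (O := X.sheaf) E) ⊣ tR X.sheaf E := dualAdjSw E hE
  let adj₁ : tR X.sheaf (dual (O := X.sheaf) E) ⋙ tR X.sheaf M ⊣
      ModSite.sheafHom (O := X.sheaf) M ⋙ tR X.sheaf E :=
    adjL.comp (ModSite.sheafHomAdj (O := X.sheaf) M)
  let adj₂ : tR X.sheaf M ⋙ tR X.sheaf (dual (O := X.sheaf) E) ⊣
      tR X.sheaf E ⋙ ModSite.sheafHom (O := X.sheaf) M :=
    (ModSite.sheafHomAdj (O := X.sheaf) M).comp adjL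
  let iso : tR X.sheaf (dual (O := X.sheaf) E) ⋙ tR X.sheaf M ≅
      tR X.sheaf M ⋙ tR X.sheaf (dual (O := X.sheaf) E) :=
    trComp (dual (O := X.sheaf) E) M ≪≫ trCongr (brdApp X.sheaf (dual (O := X.sheaf) E) M) ≪≫
      (trComp M (dual (O := X.sheaf) E)).symm
  (adj₁.ofNatIsoLeft iso).rightAdjointUniq adj₂

variable [HasInjectiveResolutions (ModSite.Mod X.sheaf)]

/-- `ℰxt^p(M, G ⊗ E) ≅ ℰxt^p(M, G) ⊗ E` for `E` finite locally free. -/
theorem nonempty_EE_tensor_iso_LF (p : ℕ) (M G E : X.Modules) (hE : FlatMod.IsFinLocFree E) :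
    Nonempty (EE p M (CohB1.tensorMod G E) ≅ CohB1.tensorMod (EE p M G) E) := by
  haveI := Groth.Agent.Lib.Helper21.ModTensor3.isGrothendieckAbelian X.sheaf
  haveI : EnoughInjectives (ModSite.Mod X.sheaf) := inferInstance
  have hLff : IsLocFF (O := X.sheaf) E := isLocFF_of_isFinLocFree E hE
  haveI : PreservesFiniteLimits (tR X.sheaf E) := preservesFiniteLimits_tR_of_isLocFF E hLff
  haveI : (tR X.sheaf E).PreservesHomology := inferInstance
  haveI := sheafHom_preservesFiniteLimits X.sheaf M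
  have hT : ∀ I : ModSite.Mod X.sheaf, Injective I → ∀ q : ℕ, 0 < q →
      IsZero (((ModSite.sheafHom (O := X.sheaf) M).rightDerived q).obj ((tR X.sheaf E).obj I)) := by
    intro I hI q hq
    obtain ⟨q, rfl⟩ : ∃ r, q = r + 1 := ⟨q - 1, by omega⟩
    haveI : Injective ((tR X.sheaf E).obj I) := injective_tR_obj E hLff I
    exact Functor.isZero_rightDerived_obj_injective_succ _ q _
  obtain ⟨e₁⟩ := Groth.Agent.Lib.Helper21.DerAcyc.nonempty_rightDerived_comp_iso
    (tR X.sheaf E) (ModSite.sheafHom (O := X.sheaf) M) hT G p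
  let e₂ := natIsoRightDerived (sheafHomTensorIsoLF M E hLff) p
  let e₃ := postIso (ModSite.sheafHom (O := X.sheaf) M) (tR X.sheaf E) p
  exact ⟨e₁.symm ≪≫ (e₂.app G).symm ≪≫ e₃.app G⟩

/-- if `ℰxt^p(M, ω) = 0` with `ω` invertible then `ℰxt^p(M, E) = 0` for every finite locally free `E`. -/
theorem isZero_EE_locFree_of_invertible (p : ℕ) (M ω ω' E : X.Modules)
    (e : CohB1.tensorMod ω ω' ≅ Coh.structureModule X) (hω' : FlatMod.IsFinLocFree ω')
    (hE : FlatMod.IsFinLocFree E) (hz : IsZero (EE p M ω)) : IsZero (EE p M E) := by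
  let E' : X.Modules := CohB1.tensorMod ω' E
  have hE' : FlatMod.IsFinLocFree E' := Groth.Agent.Lib.Helper1.FLF.isFinLocFree_tensor ω' E hω' hE
  let i1 : E ≅ CohB1.tensorMod ω E' :=
    (Groth.Agent.Lib.Helper23.TensorUnit.unitTensorIso E).symm ≪≫ (tr E).mapIso e.symm ≪≫
      (trComp ω' E).app ω
  obtain ⟨i2⟩ := nonempty_EE_tensor_iso_LF p M ω E' hE'
  have hz2 : IsZero (CohB1.tensorMod (EE p M ω) E') := (tr E').map_isZero hz
  exact IsZero.of_iso hz2
    (((ModSite.sheafHom (O := X.sheaf) M).rightDerived p).mapIso i1 ≪≫ i2)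

end LocFree

section Pn

variable (n : ℕ) (k : Type u) [Field k]

theorem noetherianSpace_of_closed {X : Scheme.{u}} (ι : X ⟶ CohB1.ProjSpace n k)
    [IsClosedImmersion ι] : TopologicalSpace.NoetherianSpace X := by
  have hN : IsNoetherian (Proj (CohB1.polyGrading n k)) :=
    Groth.Agent.S2357.result (CohB1.polyGrading n k)
  haveI : TopologicalSpace.NoetherianSpace (CohB1.ProjSpace n k) :=
    inferInstanceAs (TopologicalSpace.NoetherianSpace (Proj (CohB1.polyGrading n k)))
  exact ι.isClosedEmbedding.isInducing.noetherianSpace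

theorem zero_le_topologicalKrullDim (X : Type*) [TopologicalSpace X] [Nonempty X] :
    0 ≤ topologicalKrullDim X := by
  obtain ⟨x⟩ := ‹Nonempty X›
  haveI : Nonempty (TopologicalSpace.IrreducibleCloseds X) :=
    ⟨⟨closure {x}, isIrreducible_singleton.closure, isClosed_closure⟩⟩
  exact Order.krullDim_nonneg

/-- **Hartshorne III.7.3**: `ℰxt^i(ι_* O_X, ω_P) = 0` for `i < codim(X, P)`. -/
theorem isZero_EE_of_lt_codim
    [HasInjectiveResolutions (ModSite.Mod (CohB1.ProjSpace n k).sheaf)]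
    {X : Scheme.{u}} (ι : X ⟶ CohB1.ProjSpace n k) [IsClosedImmersion ι] (r : ℕ)
    (hr : topologicalKrullDim ↥X + (r : WithBot ℕ∞) ≤ (n : WithBot ℕ∞)) (i : ℕ) (hi : i < r) :
    IsZero (EE i ((Scheme.Modules.pushforward ι).obj (Coh.structureModule X))
      (Twist.twistProjSpace n k (-((n : ℤ) + 1)))) := by
  rcases isEmpty_or_nonempty X with hX | hX
  · have hz : IsZero ((Scheme.Modules.pushforward ι).obj (Coh.structureModule X)) :=
      (Scheme.Modules.pushforward ι).map_isZero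
        (Groth.Agent.Lib.T2H6.RankAdd.isZero_of_isEmpty (Coh.structureModule X))
    exact (extShDelta (O := (CohB1.ProjSpace n k).sheaf)
      (Twist.twistProjSpace n k (-((n : ℤ) + 1)))).isZero_E_of_isZero _ hz i
  · have h0 : (0 : WithBot ℕ∞) ≤ topologicalKrullDim ↥X := zero_le_topologicalKrullDim X
    -- the dimension of `X` is a natural number `a` with `a + r ≤ n`
    obtain ⟨a, ha, har⟩ : ∃ a : ℕ, topologicalKrullDim ↥X = (a : WithBot ℕ∞) ∧ a + r ≤ n := by
      generalize topologicalKrullDim ↥X = D at hr h0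
      induction D using WithBot.recBotCoe with
      | bot => exact absurd h0 (by simp)
      | coe D =>
        induction D using ENat.recTopCoe with
        | top =>
          exfalso
          have : ((⊤ : ℕ∞) : WithBot ℕ∞) + (r : WithBot ℕ∞) = ((⊤ : ℕ∞) : WithBot ℕ∞) := by
            rw [show (r : WithBot ℕ∞) = ((r : ℕ∞) : WithBot ℕ∞) from rfl, ← WithBot.coe_add,
              top_add]
          rw [this] at hr
          have h2 : ((⊤ : ℕ∞) : WithBot ℕ∞) ≤ ((n : ℕ∞) : WithBot ℕ∞) := hr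
          rw [WithBot.coe_le_coe, top_le_iff] at h2
          exact ENat.natCast_ne_top n h2
        | coe a =>
          refine ⟨a, rfl, ?_⟩
          have h2 : (((a + r : ℕ) : ℕ∞) : WithBot ℕ∞) ≤ ((n : ℕ∞) : WithBot ℕ∞) := by
            push_cast
            exact hr
          rw [WithBot.coe_le_coe, Nat.cast_le] at h2
          exact h2
    haveI := noetherianSpace_of_closed n k ι
    have hp : n - i ≤ n := Nat.sub_le n i
    have hmain := closed_vanishing_iff_isZero_EE n k ι (n - i) hp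
    rw [Nat.sub_sub_self (by omega : i ≤ n)] at hmain
    rw [← hmain]
    refine ⟨0, fun m _ => Groth.Agent.Lib.T2H6.GVMain.subsingleton_HH X _ (n - i) ?_⟩
    rw [ha]
    exact_mod_cast (by omega : a < n - i)

/-- `ℰxt^i(ι_* O_X, E) = 0` for `i < codim(X, P)` and `E` finite locally free. -/
theorem isZero_EE_locFree_of_lt_codim
    [HasInjectiveResolutions (ModSite.Mod (CohB1.ProjSpace n k).sheaf)]
    {X : Scheme.{u}} (ι : X ⟶ CohB1.ProjSpace n k) [IsClosedImmersion ι] (r : ℕ)
    (hr : topologicalKrullDim ↥X + (r : WithBot ℕ∞) ≤ (n : WithBot ℕ∞))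
    (E : (CohB1.ProjSpace n k).Modules) (hE : FlatMod.IsFinLocFree E) (i : ℕ) (hi : i < r) :
    IsZero (EE i ((Scheme.Modules.pushforward ι).obj (Coh.structureModule X)) E) :=
  isZero_EE_locFree_of_invertible i _ (Twist.twistProjSpace n k (-((n : ℤ) + 1)))
    (Twist.twistProjSpace n k (-(-((n : ℤ) + 1)))) E
    (Groth.Agent.Lib.T2H5.ClosedTransfer.twistInvIso n k (-((n : ℤ) + 1)))
    (Groth.Agent.Helper18PBUnit.isFinLocFree_of_isInvertible (isInvertible_twist n k _)) hE
    (isZero_EE_of_lt_codim n k ι r hr i hi)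

end Pn

end Groth.Agent.Lib.T2H6.LocGlob
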