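import Mathlib
import Groth.Agent.Lib.T2H6ExtDualD
import Groth.Agent.Lib.T2H6ExtCmpB
import Groth.Agent.Lib.Helper22ExtFunctor

/-!
# The Yoneda pairing `H^j(X, G) × Ext^i(G, ω) → H^{i+j}(X, ω)` and duality for `Ext` (T2H6)

For a scheme `X` over a field `k`, a module `ω` and a linear form `tr` on `H^N(X, ω)`:
* `post y` : postcomposition with an `Ext` class, `k`-linear on cohomology;
* `Θ` : `Ext^i(G, ω) → H^j(G)^*` (`i + j = N`);
* `Θ_bijective_of_pres`: `Θ` is bijective on coherent modules as soon as the duality map is and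
  enough acyclic presentations exist.
-/

set_option autoImplicit false
universe u

open CategoryTheory CategoryTheory.Limits Abelian AlgebraicGeometry

namespace Groth.Agent.Lib.T2H6.Yon

open Groth.Agent.Lib.Helper23.QCohLocal Groth.Agent.Lib.T2H5.HHLes Groth.Agent.Lib.T2H6.ExtDual
open Groth.Agent.Lib.T2H6.ExtCmp

section Generic

variable {X : Scheme.{u}}

/-- multiplication by a global function as a natural endomorphism of the forgetful functor. -/
noncomputable def smulNat (s : Coh.Γtop X) : toAbF X ⟶ toAbF X where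
  app M := Coh.smulAb M s
  naturality _ _ f := Canon.toSheaf_map_comp_smulAb f s

variable [HasExt.{u} X.Modules]

/-- the image of an `Ext` class of modules among abelian sheaves. -/
noncomputable def abCls {G W : X.Modules} {i : ℕ} (y : Ext G W i) :
    Ext ((toAbF X).obj G) ((toAbF X).obj W) i :=
  y.mapExactFunctor (toAbF X)

theorem abCls_smul {G W : X.Modules} {i : ℕ} (y : Ext G W i) (s : Coh.Γtop X) :
    (abCls y).comp (Ext.mk₀ (Coh.smulAb W s)) (add_zero i) =
      (Ext.mk₀ (Coh.smulAb G s)).comp (abCls y) (zero_add i) := by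
  have := ExtCmp.enoughInjectives_modules X
  exact Groth.Agent.Lib.Helper22.mapExactFunctor_natTrans (toAbF X) (toAbF X) (smulNat s) y

theorem abCls_mk₀ {G W : X.Modules} (f : G ⟶ W) :
    abCls (Ext.mk₀ f) = Ext.mk₀ ((toAbF X).map f) :=
  Ext.mapExactFunctor_mk₀ _ f

theorem abCls_comp {G W V : X.Modules} {a b c : ℕ} (x : Ext G W a) (y : Ext W V b)
    (h : a + b = c) : abCls (x.comp y h) = (abCls x).comp (abCls y) h :=
  Ext.mapExactFunctor_comp _ x y h

theorem abCls_extClass {S : ShortComplex X.Modules} (hS : S.ShortExact) :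
    abCls hS.extClass = (shortExact_toAbF S hS).extClass :=
  Ext.mapExactFunctor_extClass _ hS

theorem abCls_add {G W : X.Modules} {i : ℕ} (y₁ y₂ : Ext G W i) :
    abCls (y₁ + y₂) = abCls y₁ + abCls y₂ :=
  Ext.mapExactFunctor_add (toAbF X) G W i y₁ y₂

variable (k : Type u) [Field k] [X.Over (Spec (CommRingCat.of k))]

/-- postcomposition with an `Ext` class. -/
noncomputable def post {G W : X.Modules} {i : ℕ} (y : Ext G W i) (j m : ℕ) (h : j + i = m) :
    Coh.HH X G j →ₗ[k] Coh.HH X W m where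
  toFun x := x.comp (abCls y) h
  map_add' a b := Ext.add_comp _ _ _ _
  map_smul' c x := by
    change (x.comp (Ext.mk₀ (Coh.smulAb G (Coh.toGlobal (X ↘ Spec (CommRingCat.of k)) c)))
        (add_zero j)).comp (abCls y) h =
      (x.comp (abCls y) h).comp
        (Ext.mk₀ (Coh.smulAb W (Coh.toGlobal (X ↘ Spec (CommRingCat.of k)) c))) (add_zero m)
    rw [Ext.comp_assoc_of_second_deg_zero, ← abCls_smul, Ext.comp_assoc_of_third_deg_zero]
    rfl

theorem post_apply {G W : X.Modules} {i : ℕ} (y : Ext G W i) (j m : ℕ) (h : j + i = m)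
    (x : Coh.HH X G j) : post k y j m h x = x.comp (abCls y) h := rfl

theorem post_mk₀ {G W : X.Modules} (f : G ⟶ W) (j : ℕ) :
    post k (Ext.mk₀ f) j j (add_zero j) = Canon.HHlin k f j := by
  ext x
  rw [post_apply, abCls_mk₀]
  rfl

theorem post_add {G W : X.Modules} {i : ℕ} (y₁ y₂ : Ext G W i) (j m : ℕ) (h : j + i = m) :
    post k (y₁ + y₂) j m h = post k y₁ j m h + post k y₂ j m h := by
  ext x
  rw [LinearMap.add_apply, post_apply, post_apply, post_apply, abCls_add]
  exact Ext.comp_add _ _ _ _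

/-- the pairing map `Ext^i(G, ω) → H^j(G)^*`. -/
noncomputable def Θ (ω : X.Modules) (N : ℕ) (tr : Coh.HH X ω N →ₗ[k] k) (G : X.Modules)
    (i j : ℕ) (h : j + i = N) (y : Ext G ω i) : Coh.HH X G j →ₗ[k] k :=
  tr ∘ₗ post k y j N h

variable (ω : X.Modules) (N : ℕ) (tr : Coh.HH X ω N →ₗ[k] k)

theorem Θ_apply (G : X.Modules) (i j : ℕ) (h : j + i = N) (y : Ext G ω i) (x : Coh.HH X G j) :
    Θ k ω N tr G i j h y x = tr (x.comp (abCls y) h) := rfl

theorem Θ_add (G : X.Modules) (i j : ℕ) (h : j + i = N) (y₁ y₂ : Ext G ω i) :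
    Θ k ω N tr G i j h (y₁ + y₂) = Θ k ω N tr G i j h y₁ + Θ k ω N tr G i j h y₂ := by
  unfold Θ
  rw [post_add, LinearMap.comp_add]

theorem Θ_mk₀ (G : X.Modules) (φ : G ⟶ ω) :
    Θ k ω N tr G 0 N (add_zero N) (Ext.mk₀ φ) = Canon.dualityMap k X N ω tr G φ := by
  unfold Θ Canon.dualityMap
  rw [post_mk₀]

/-- compatibility with the connecting homomorphisms. -/
theorem Θ_extδ (S : ShortComplex X.Modules) (hS : S.ShortExact) (i j : ℕ) (h : j + (i + 1) = N)
    (y : Ext S.X₁ ω i) (x : Coh.HH X S.X₃ j) :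
    Θ k ω N tr S.X₃ (i + 1) j h (hS.extClass.comp y (add_comm 1 i)) x =
      Θ k ω N tr S.X₁ i (j + 1) (by omega) y (δLin (A := k) S hS j x) := by
  rw [Θ_apply, Θ_apply, δLin_apply, abCls_comp, abCls_extClass]
  congr 1
  exact (Ext.comp_assoc x (shortExact_toAbF S hS).extClass (abCls y) rfl (add_comm 1 i)
    (by omega)).symm

/-- compatibility with pullback along a morphism. -/
theorem Θ_pre {G G' : X.Modules} (f : G' ⟶ G) (i j : ℕ) (h : j + i = N) (y : Ext G ω i)
    (x : Coh.HH X G' j) :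
    Θ k ω N tr G' i j h ((Ext.mk₀ f).comp y (zero_add i)) x =
      Θ k ω N tr G i j h y (Canon.HHlin k f j x) := by
  rw [Θ_apply, Θ_apply, abCls_comp, abCls_mk₀]
  congr 1
  exact (Ext.comp_assoc_of_second_deg_zero x (Ext.mk₀ ((toAbF X).map f)) (abCls y) h).symm

end Generic

end Groth.Agent.Lib.T2H6.Yon
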