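import Mathlib
import Groth.Agent.Lib.T2H6YonA

/-!
# Duality for `Ext` on a scheme with a dualizing pair and acyclic presentations (T2H6)

`Θ_bijective_of_pres`: for `X` over a field `k`, `(ω, tr)` with bijective duality map on coherent
modules, and enough presentations `0 → K → E → G → 0` with `Ext^{≥1}(E, ω) = 0`, `H^{<N}(E) = 0`,
the Yoneda pairing `Ext^i(G, ω) → H^{N-i}(G)^*` is bijective for all coherent `G`.
-/

set_option autoImplicit false
universe u

open CategoryTheory CategoryTheory.Limits Abelian AlgebraicGeometry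

namespace Groth.Agent.Lib.T2H6.Yon

open Groth.Agent.Lib.Helper23.QCohLocal Groth.Agent.Lib.T2H5.HHLes Groth.Agent.Lib.T2H6.ExtDual

section LinAlg

variable {K V W : Type*} [Field K] [AddCommGroup V] [Module K V] [AddCommGroup W] [Module K W]

theorem exists_factor_of_ker_le (f : V →ₗ[K] W) (D : V →ₗ[K] K) (h : ∀ x, f x = 0 → D x = 0) :
    ∃ D' : W →ₗ[K] K, ∀ x, D' (f x) = D x := by
  have hD : D ∈ (LinearMap.ker f).dualAnnihilator := by
    rw [Submodule.mem_dualAnnihilator]
    intro x hx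
    exact h x (LinearMap.mem_ker.1 hx)
  rw [← LinearMap.range_dualMap_eq_dualAnnihilator_ker] at hD
  obtain ⟨D', hD'⟩ := hD
  exact ⟨D', fun x => by rw [← hD']; rfl⟩

theorem exists_extend_of_injective (f : V →ₗ[K] W) (hf : Function.Injective f) (ψ : V →ₗ[K] K) :
    ∃ ψ' : W →ₗ[K] K, ∀ x, ψ' (f x) = ψ x :=
  exists_factor_of_ker_le f ψ (fun x hx => by
    rw [hf (hx.trans (map_zero f).symm), map_zero])

end LinAlg

section Induction

variable (k : Type u) [Field k] {X : Scheme.{u}} [X.Over (Spec (CommRingCat.of k))]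
  [HasExt.{u} X.Modules] (ω : X.Modules) (N : ℕ) (tr : Coh.HH X ω N →ₗ[k] k)

theorem Θ_zero_bijective (G : X.Modules) (j : ℕ) (h : j + 0 = N)
    (hb : Function.Bijective (Canon.dualityMap k X N ω tr G)) :
    Function.Bijective (Θ k ω N tr G 0 j h) := by
  obtain rfl : j = N := by omega
  have hc : Θ k ω j tr G 0 j h ∘ (Ext.mk₀ : (G ⟶ ω) → Ext G ω 0) =
      Canon.dualityMap k X j ω tr G := by
    funext φ
    exact Θ_mk₀ k ω j tr G φ
  rw [← hc] at hb
  exact (Function.Bijective.of_comp_iff _ (Ext.mk₀_bijective G ω)).1 hb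

theorem Θ_sub (G : X.Modules) (i j : ℕ) (h : j + i = N) (y₁ y₂ : Ext G ω i) :
    Θ k ω N tr G i j h (y₁ - y₂) = Θ k ω N tr G i j h y₁ - Θ k ω N tr G i j h y₂ := by
  have h1 := Θ_add k ω N tr G i j h (y₁ - y₂) y₂
  rw [sub_add_cancel] at h1
  rw [h1, add_sub_cancel_right]

theorem Θ_bijective_of_pres
    (h0 : ∀ F : X.Modules, Coh.IsCoh F → Function.Bijective (Canon.dualityMap k X N ω tr F))
    (hpres : ∀ F : X.Modules, Coh.IsCoh F → ∃ S : ShortComplex X.Modules, S.ShortExact ∧
      S.X₃ = F ∧ Coh.IsCoh S.X₁ ∧ Coh.IsCoh S.X₂ ∧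
      (∀ j : ℕ, 1 ≤ j → Subsingleton (Ext S.X₂ ω j)) ∧
      (∀ j : ℕ, j < N → Subsingleton (Coh.HH X S.X₂ j)))
    (i j : ℕ) (h : j + i = N) (G : X.Modules) (hG : Coh.IsCoh G) :
    Function.Bijective (Θ k ω N tr G i j h) := by
  induction i generalizing j G with
  | zero =>
    exact Θ_zero_bijective k ω N tr G j h (h0 G hG)
  | succ i ih =>
    obtain ⟨S, hS, rfl, hK, hE, hExt, hHH⟩ := hpres G hG
    have hj1 : (j + 1) + i = N := by omega
    have ihK := ih (j + 1) hj1 S.X₁ hK
    have ihE := ih (j + 1) hj1 S.X₂ hE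
    have hsub : Subsingleton (Ext S.X₂ ω (i + 1)) := hExt (i + 1) (by omega)
    have hsubH : Subsingleton (Coh.HH X S.X₂ j) := hHH j (by omega)
    constructor
    · intro y₁ y₂ hy
      obtain ⟨y₁', rfl⟩ := extδ_surjective k hS ω i hsub y₁
      obtain ⟨y₂', rfl⟩ := extδ_surjective k hS ω i hsub y₂
      -- the difference functional vanishes on the image of δ
      have hvan : ∀ x : Coh.HH X S.X₁ (j + 1), Canon.HHlin k S.f (j + 1) x = 0 →
          Θ k ω N tr S.X₁ i (j + 1) hj1 (y₁' - y₂') x = 0 := by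
        intro x hx
        have hx' : x ∈ LinearMap.ker (Canon.HHlin k S.f (j + 1)) := LinearMap.mem_ker.2 hx
        rw [exact₁ k S hS j] at hx'
        obtain ⟨z, rfl⟩ := hx'
        rw [Θ_sub, LinearMap.sub_apply, ← Θ_extδ k ω N tr S hS i j h y₁' z,
          ← Θ_extδ k ω N tr S hS i j h y₂' z]
        have := congrArg (fun (ψ : Coh.HH X S.X₃ j →ₗ[k] k) => ψ z) hy
        exact sub_eq_zero.2 this
      obtain ⟨D', hD'⟩ := exists_factor_of_ker_le (Canon.HHlin k S.f (j + 1))
        (Θ k ω N tr S.X₁ i (j + 1) hj1 (y₁' - y₂')) hvan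
      obtain ⟨z, hz⟩ := ihE.2 D'
      have hK' : (Ext.mk₀ S.f).comp z (zero_add i) = y₁' - y₂' := by
        apply ihK.1
        ext x
        rw [Θ_pre k ω N tr S.f i (j + 1) hj1 z x, hz, hD']
      have hzero : extδ k hS ω i (y₁' - y₂') = 0 := by
        have hmem : (y₁' - y₂') ∈ LinearMap.ker (extδ k hS ω i) := by
          rw [ker_extδ k hS ω i]
          exact ⟨z, hK'⟩
        exact LinearMap.mem_ker.1 hmem
      rw [map_sub, sub_eq_zero] at hzero
      exact hzero
    · intro ψ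
      have hinj : Function.Injective (δLin (A := k) S hS j) := by
        rw [← LinearMap.ker_eq_bot, exact₃, LinearMap.range_eq_bot]
        exact Subsingleton.elim _ _
      obtain ⟨ψ', hψ'⟩ := exists_extend_of_injective (δLin (A := k) S hS j) hinj ψ
      obtain ⟨y', hy'⟩ := ihK.2 ψ'
      refine ⟨extδ k hS ω i y', ?_⟩
      ext x
      have h1 := Θ_extδ k ω N tr S hS i j h y' x
      rw [hy', hψ'] at h1
      exact h1

end Induction

end Groth.Agent.Lib.T2H6.Yon

namespace Groth.Agent.Lib.T2H6.Yon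

open Groth.Agent.Lib.T2H6.ExtDual Groth.Agent.Lib.T2H6.SDual Groth.Agent.Lib.T2H5.PnTop

/-- **Serre duality for `Ext` on `P^n_k`** via the Yoneda pairing: for a suitable trace, all the
maps `Ext^i(G, ω_P) → H^{n-i}(P, G)^*` are bijective for coherent `G`. -/
theorem exists_tr_Θ_bijective (n : ℕ) (k : Type u) [Field k]
    [HasExt.{u} (CohB1.ProjSpace n k).Modules] :
    ∃ tr : Coh.HH (CohB1.ProjSpace n k) (ωP n k) n →ₗ[k] k,
      ∀ (i j : ℕ) (h : j + i = n) (G : (CohB1.ProjSpace n k).Modules), Coh.IsCoh G →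
        Function.Bijective (Θ k (ωP n k) n tr G i j h) := by
  have key : ∀ T : (CohB1.ProjSpace n k).Modules, T = OO n k (dω n) →
      ∃ tr : Coh.HH (CohB1.ProjSpace n k) T n →ₗ[k] k,
        ∀ F : (CohB1.ProjSpace n k).Modules, Coh.IsCoh F →
          Function.Bijective (Canon.dualityMap k (CohB1.ProjSpace n k) n T tr F) := by
    intro T hT
    subst hT
    exact ⟨trP n k, fun F hF => bijective_dualityMap_of_isCoh_all n k F hF⟩
  obtain ⟨tr, htr⟩ := key (ωP n k) (twist_eq n k _)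
  exact ⟨tr, fun i j h G hG => Θ_bijective_of_pres k (ωP n k) n tr htr
    (fun F hF => exists_pres n k F hF) i j h G hG⟩

end Groth.Agent.Lib.T2H6.Yon
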