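import Mathlib
import Groth.Agent.Lib.T2H6KillD
import Groth.Agent.Lib.T2H6KillE
import Groth.Agent.Lib.T2H6YonB
import Groth.Agent.Lib.T2H6LocGlobE
import Groth.Agent.Lib.T2H5ClosedLin

/-!
# The dualizing sheaf of a closed subscheme of `P^N_k` (Hartshorne III.7.5) (T2H6)

* `exists_thetaLin`: the natural linear comparison `H^p(X, M) ≃ H^p(Y, i_* M)` for a closed
  immersion over an affine base;
* `exists_trace`: for a closed subscheme `ι : X → P^N_k` of dimension `≤ n` and `ω` with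
  `ι_* ω ≅ ℰxt^{N-n}(ι_* O_X, ω_P)`, the module `ω` is dualizing in degree `n`.
-/

set_option autoImplicit false
set_option linter.style.haveILetI false
universe u

open CategoryTheory CategoryTheory.Limits Abelian AlgebraicGeometry

namespace Groth.Agent.Lib.T2H6.DualSub

section Theta

variable {X Y : Scheme.{u}} (i : X ⟶ Y)

theorem exists_thetaLin (A : Type u) [CommRing A] [X.Over (Spec (CommRingCat.of A))]
    [Y.Over (Spec (CommRingCat.of A))] [IsClosedImmersion i]
    (hi : i ≫ (Y ↘ Spec (CommRingCat.of A)) = X ↘ Spec (CommRingCat.of A)) (p : ℕ) :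
    ∃ θ : ∀ M : X.Modules,
        Coh.HH X M p ≃ₗ[A] Coh.HH Y ((Scheme.Modules.pushforward i).obj M) p,
      ∀ (M M' : X.Modules) (φ : M ⟶ M') (x : Coh.HH X M p),
        θ M' (Canon.HHlin A φ p x) =
          Canon.HHlin A ((Scheme.Modules.pushforward i).map φ) p (θ M x) := by
  obtain ⟨θ, hθ, hnat⟩ :=
    Groth.Agent.Lib.T2H5.ClosedLin.exists_theta i.base i.isClosedEmbedding p
  have hs : ∀ (M : X.Modules) (c : A) (x : Coh.HH X M p),
      (show Coh.HH Y ((Scheme.Modules.pushforward i).obj M) p from θ (Coh.toAb M) (c • x)) =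
        c • (show Coh.HH Y ((Scheme.Modules.pushforward i).obj M) p from θ (Coh.toAb M) x) := by
    intro M c x
    have hr : Coh.toGlobal (X ↘ Spec (CommRingCat.of A)) c =
        i.appTop.hom (Coh.toGlobal (Y ↘ Spec (CommRingCat.of A)) c) := by
      rw [← hi]
      rfl
    change θ (Coh.toAb M)
        (Sheaf.H.map (Coh.smulAb M (Coh.toGlobal (X ↘ Spec (CommRingCat.of A)) c)) p x) =
      Sheaf.H.map (Coh.smulAb ((Scheme.Modules.pushforward i).obj M)
        (Coh.toGlobal (Y ↘ Spec (CommRingCat.of A)) c)) p (θ (Coh.toAb M) x)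
    rw [hnat, hr, Groth.Agent.Lib.T2H5.ClosedLin.smulAb_pushforward]
    rfl
  refine ⟨fun M => LinearEquiv.ofBijective
    ({ toFun := θ (Coh.toAb M)
       map_add' := map_add (θ (Coh.toAb M))
       map_smul' := hs M } :
      Coh.HH X M p →ₗ[A] Coh.HH Y ((Scheme.Modules.pushforward i).obj M) p)
    (hθ (Coh.toAb M)), ?_⟩
  intro M M' φ x
  exact hnat _ _ _ x

end Theta

section Main

open Groth.Agent.Lib.T2H6.Kill Groth.Agent.Lib.T2H6.Yon Groth.Agent.Lib.T2H6.ExtDual
  Groth.Agent.Lib.T2H6.LocGlob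

variable (k : Type u) [Field k] (N n : ℕ)

theorem cast_arith (hn : n ≤ N) (d : WithBot ℕ∞) (hd : d ≤ (n : WithBot ℕ∞)) :
    d + ((N - n : ℕ) : WithBot ℕ∞) ≤ (N : WithBot ℕ∞) := by
  calc d + ((N - n : ℕ) : WithBot ℕ∞)
      ≤ (n : WithBot ℕ∞) + ((N - n : ℕ) : WithBot ℕ∞) := add_le_add_left hd _
    _ = ((n + (N - n) : ℕ) : WithBot ℕ∞) := by push_cast; rfl
    _ = (N : WithBot ℕ∞) := by
        congr 1
        omega

/-- **Hartshorne III.7.5** (existence of the dualizing sheaf of a closed subscheme of `P^N_k`, with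
the identification `ι_* ω ≅ ℰxt^{N-n}(ι_* O_X, ω_P)`), for `dim X ≤ n`. -/
theorem exists_trace (hn : n ≤ N) (X : Scheme.{u}) [X.Over (Spec (CommRingCat.of k))]
    (ι : X ⟶ CohB1.ProjSpace N k) [IsClosedImmersion ι]
    (hι : ι ≫ CohB1.ProjSpace.toSpec N k = X ↘ Spec (CommRingCat.of k))
    (hdim : topologicalKrullDim ↥X ≤ (n : WithBot ℕ∞))
    [ModSite.HasSheafHom (O := (CohB1.ProjSpace N k).sheaf)
      ((Scheme.Modules.pushforward ι).obj (Coh.structureModule X))]
    [HasInjectiveResolutions (ModSite.Mod (CohB1.ProjSpace N k).sheaf)]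
    (ω : X.Modules)
    (e : (Scheme.Modules.pushforward ι).obj ω ≅
      (ModSite.extSh (O := (CohB1.ProjSpace N k).sheaf)
        ((Scheme.Modules.pushforward ι).obj (Coh.structureModule X)) (N - n)).obj
          (Twist.twistProjSpace N k (-((N : ℤ) + 1)))) :
    ∃ t : Coh.HH X ω n →ₗ[k] k, ∀ F : X.Modules, Coh.IsCoh F → ∀ ψ : Coh.HH X F n →ₗ[k] k,
      ∃! φ : F ⟶ ω, ∀ x : Coh.HH X F n,
        ψ x = t (Sheaf.H.map ((SheafOfModules.toSheaf X.ringCatSheaf).map φ) n x) := by
  haveI := Groth.Agent.Lib.Helper21.ModTensor3.isGrothendieckAbelian (CohB1.ProjSpace N k).sheaf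
  haveI hE : HasExt.{u} (CohB1.ProjSpace N k).Modules :=
    (inferInstance : HasExt.{u} (ModSite.Mod (CohB1.ProjSpace N k).sheaf))
  haveI hE' : HasExt.{u} (ModSite.Mod (CohB1.ProjSpace N k).sheaf) := hE
  obtain ⟨trP, hΘ⟩ := exists_tr_Θ_bijective N k
  have hnr : n + (N - n) = N := by omega
  have hc' : ∃ c : Ext.{u} (C := (CohB1.ProjSpace N k).Modules)
      ((ModSite.extSh (O := (CohB1.ProjSpace N k).sheaf)
        ((Scheme.Modules.pushforward ι).obj (Coh.structureModule X)) (N - n)).obj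
          (Twist.twistProjSpace N k (-((N : ℤ) + 1)))) (ωP N k) (N - n),
      ∀ F : X.Modules, Function.Bijective
        (fun g : (Scheme.Modules.pushforward ι).obj F ⟶
          (ModSite.extSh (O := (CohB1.ProjSpace N k).sheaf)
            ((Scheme.Modules.pushforward ι).obj (Coh.structureModule X)) (N - n)).obj
              (Twist.twistProjSpace N k (-((N : ℤ) + 1))) =>
          (Ext.mk₀ g).comp c (zero_add (N - n))) := by
    obtain ⟨c, hc⟩ := exists_class' (O := (CohB1.ProjSpace N k).sheaf) (B := BB ι) (π := ππ ι)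
      (ωP N k) (N - n)
      (fun j hj => isZero_EE_of_lt_codim N k ι (N - n) (cast_arith N n hn _ hdim) j hj)
    exact ⟨c, fun F => hc _ (killed_pushforward ι F)⟩
  obtain ⟨c, hc⟩ := hc'
  obtain ⟨θ, hθ⟩ := exists_thetaLin ι k hι n
  haveI := Groth.Agent.Lib.T2H6.ClosedFull.pushforward_full ι
  haveI := Groth.Agent.Lib.T2H5.ClosedTransfer.pushforward_faithful ι ι.isClosedEmbedding
  let cω : Ext ((Scheme.Modules.pushforward ι).obj ω) (ωP N k) (N - n) :=
    (Ext.mk₀ e.hom).comp c (zero_add _)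
  let t : Coh.HH X ω n →ₗ[k] k :=
    (Θ k (ωP N k) N trP ((Scheme.Modules.pushforward ι).obj ω) (N - n) n hnr cω) ∘ₗ
      (θ ω).toLinearMap
  have hD : ∀ (F : X.Modules) (φ : F ⟶ ω) (x : Coh.HH X F n),
      t (Sheaf.H.map ((SheafOfModules.toSheaf X.ringCatSheaf).map φ) n x) =
        Θ k (ωP N k) N trP ((Scheme.Modules.pushforward ι).obj F) (N - n) n hnr
          ((Ext.mk₀ ((Scheme.Modules.pushforward ι).map φ ≫ e.hom)).comp c (zero_add _))
          (θ F x) := by
    intro F φ x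
    have h1 := hθ F ω φ x
    change Θ k (ωP N k) N trP _ (N - n) n hnr cω (θ ω (Canon.HHlin k φ n x)) = _
    rw [h1, ← Θ_pre k (ωP N k) N trP ((Scheme.Modules.pushforward ι).map φ) (N - n) n hnr cω
      (θ F x)]
    have h2 : (Ext.mk₀ ((Scheme.Modules.pushforward ι).map φ)).comp cω (zero_add (N - n)) =
        (Ext.mk₀ ((Scheme.Modules.pushforward ι).map φ ≫ e.hom)).comp c (zero_add _) := by
      rw [← Ext.mk₀_comp_mk₀]
      exact (Ext.comp_assoc_of_second_deg_zero _ _ _ _).symm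
    rw [h2]
  refine ⟨t, fun F hF ψ => ?_⟩
  have hG : Coh.IsCoh ((Scheme.Modules.pushforward ι).obj F) :=
    Groth.Agent.Lib.T2H5.ClosedTransfer.isCoh_pushforward ι F hF
  have hΘG := hΘ (N - n) n hnr _ hG
  -- existence
  obtain ⟨y, hy⟩ := hΘG.2 (ψ ∘ₗ (θ F).symm.toLinearMap)
  obtain ⟨g, hg⟩ := (hc F).2 y
  obtain ⟨φ, hφ⟩ := (Scheme.Modules.pushforward ι).map_surjective (g ≫ e.inv)
  refine ⟨φ, ?_, ?_⟩
  · intro x
    rw [hD F φ x, hφ, Category.assoc, Iso.inv_hom_id, Category.comp_id]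
    have hg' : (Ext.mk₀ g).comp c (zero_add (N - n)) = y := hg
    rw [hg', hy]
    simp
  · intro φ' hφ'
    apply (Scheme.Modules.pushforward ι).map_injective
    have h3 : (Scheme.Modules.pushforward ι).map φ' ≫ e.hom =
        (Scheme.Modules.pushforward ι).map φ ≫ e.hom := by
      apply (hc F).1
      apply hΘG.1
      ext z
      obtain ⟨x, rfl⟩ := (θ F).surjective z
      have a1 := hD F φ' x
      have a2 := hD F φ x
      have b1 := hφ' x
      rw [hφ, Category.assoc, Iso.inv_hom_id, Category.comp_id] at a2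
      have hg' : (Ext.mk₀ g).comp c (zero_add (N - n)) = y := hg
      rw [hg', hy] at a2
      rw [hφ, Category.assoc, Iso.inv_hom_id, Category.comp_id]
      change _ = Θ k (ωP N k) N trP ((Scheme.Modules.pushforward ι).obj F) (N - n) n hnr
        ((Ext.mk₀ g).comp c (zero_add (N - n))) (θ F x)
      rw [hg', hy, ← a1, ← b1]
      simp
    exact (cancel_mono e.hom).1 h3

end Main

end Groth.Agent.Lib.T2H6.DualSub
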