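import Mathlib
import Groth.Agent.Lib.T2H6YonB

/-!
# The Yoneda pairing: linearity in the `Ext` class and duality in a range of degrees (T2H6)

* `ΘLin`: the map `Ext^i(G, ω) → H^j(G)^*` as a `k`-linear map;
* `Θ_bijective_of_pres_range`: the inductive duality statement for degrees `i ≤ s`, when the
  presentations are acyclic only in the degrees `N - s ≤ j < N`.
-/

set_option autoImplicit false
universe u

open CategoryTheory CategoryTheory.Limits Abelian AlgebraicGeometry

namespace Groth.Agent.Lib.T2H6.Yon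

open Groth.Agent.Lib.Helper23.QCohLocal Groth.Agent.Lib.T2H5.HHLes Groth.Agent.Lib.T2H6.ExtDual

section Linear

variable (k : Type u) [Field k] {X : Scheme.{u}} [X.Over (Spec (CommRingCat.of k))]
  [HasExt.{u} X.Modules] (ω : X.Modules) (N : ℕ) (tr : Coh.HH X ω N →ₗ[k] k)

theorem Θ_smul (G : X.Modules) (i j : ℕ) (h : j + i = N) (c : k) (y : Ext G ω i) :
    Θ k ω N tr G i j h (c • y) = c • Θ k ω N tr G i j h y := by
  ext x
  have h1 : c • y = y.comp (Ext.mk₀ (c • 𝟙 ω)) (add_zero i) := by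
    rw [Ext.mk₀_smul, Ext.comp_smul, Ext.comp_mk₀_id]
  rw [LinearMap.smul_apply, Θ_apply, Θ_apply, h1, abCls_comp, abCls_mk₀]
  have h2 : (toAbF X).map (c • 𝟙 ω) =
      Coh.smulAb ω (Coh.toGlobal (X ↘ Spec (CommRingCat.of k)) c) :=
    Groth.Agent.Lib.T2H6.ExtCmp.toSheaf_map_smul_id' k ω c
  rw [h2]
  have h3 : x.comp ((abCls y).comp
      (Ext.mk₀ (Coh.smulAb ω (Coh.toGlobal (X ↘ Spec (CommRingCat.of k)) c))) (add_zero i)) h =
      c • (show Coh.HH X ω N from x.comp (abCls y) h) :=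
    (Ext.comp_assoc_of_third_deg_zero x (abCls y) _ h).symm
  exact (congrArg tr h3).trans (tr.map_smul c _)

/-- the pairing map as a linear map. -/
noncomputable def ΘLin (G : X.Modules) (i j : ℕ) (h : j + i = N) :
    Ext G ω i →ₗ[k] Module.Dual k (Coh.HH X G j) where
  toFun := Θ k ω N tr G i j h
  map_add' := Θ_add k ω N tr G i j h
  map_smul' := Θ_smul k ω N tr G i j h

theorem ΘLin_apply (G : X.Modules) (i j : ℕ) (h : j + i = N) (y : Ext G ω i) :
    ΘLin k ω N tr G i j h y = Θ k ω N tr G i j h y := rfl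

/-- the duality statement in a range of degrees. -/
theorem Θ_bijective_of_pres_range (s : ℕ)
    (h0 : ∀ F : X.Modules, Coh.IsCoh F → Function.Bijective (Canon.dualityMap k X N ω tr F))
    (hpres : ∀ F : X.Modules, Coh.IsCoh F → ∃ S : ShortComplex X.Modules, S.ShortExact ∧
      S.X₃ = F ∧ Coh.IsCoh S.X₁ ∧ Coh.IsCoh S.X₂ ∧
      (∀ j : ℕ, 1 ≤ j → Subsingleton (Ext S.X₂ ω j)) ∧
      (∀ j : ℕ, N - s ≤ j → j < N → Subsingleton (Coh.HH X S.X₂ j)))
    (i j : ℕ) (h : j + i = N) (hi : i ≤ s) (G : X.Modules) (hG : Coh.IsCoh G) :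
    Function.Bijective (Θ k ω N tr G i j h) := by
  induction i generalizing j G with
  | zero =>
    exact Θ_zero_bijective k ω N tr G j h (h0 G hG)
  | succ i ih =>
    obtain ⟨S, hS, rfl, hK, hE, hExt, hHH⟩ := hpres G hG
    have hj1 : (j + 1) + i = N := by omega
    have ihK := ih (j + 1) hj1 (by omega) S.X₁ hK
    have ihE := ih (j + 1) hj1 (by omega) S.X₂ hE
    have hsub : Subsingleton (Ext S.X₂ ω (i + 1)) := hExt (i + 1) (by omega)
    have hsubH : Subsingleton (Coh.HH X S.X₂ j) := hHH j (by omega) (by omega)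
    constructor
    · intro y₁ y₂ hy
      obtain ⟨y₁', rfl⟩ := extδ_surjective k hS ω i hsub y₁
      obtain ⟨y₂', rfl⟩ := extδ_surjective k hS ω i hsub y₂
      have hvan : ∀ x : Coh.HH X S.X₁ (j + 1), Canon.HHlin k S.f (j + 1) x = 0 →
          Θ k ω N tr S.X₁ i (j + 1) hj1 (y₁' - y₂') x = 0 := by
        intro x hx
        have hx' : x ∈ LinearMap.ker (Canon.HHlin k S.f (j + 1)) := LinearMap.mem_ker.2 hx
        rw [exact₁ k S hS j] at hx'
        obtain ⟨z, rfl⟩ := hx'
        rw [Θ_sub, LinearMap.sub_apply, ← Θ_extδ k ω N tr S hS i j h y₁' z,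
          ← Θ_extδ k ω N tr S hS i j h y₂' z]
        have := congrArg (fun (ψ : Coh.HH X S.X₃ j →ₗ[k] k) => ψ z) hy
        exact sub_eq_zero.2 this
      obtain ⟨D', hD'⟩ := exists_factor_of_ker_le (Canon.HHlin k S.f (j + 1))
        (Θ k ω N tr S.X₁ i (j + 1) hj1 (y₁' - y₂')) hvan
      obtain ⟨z, hz⟩ := ihE.2 D'
      have hK' : (Ext.mk₀ S.f).comp z (zero_add i) = y₁' - y₂' := by
        apply ihK.1
        ext x
        rw [Θ_pre k ω N tr S.f i (j + 1) hj1 z x, hz, hD']
      have hzero : extδ k hS ω i (y₁' - y₂') = 0 := by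
        have hmem : (y₁' - y₂') ∈ LinearMap.ker (extδ k hS ω i) := by
          rw [ker_extδ k hS ω i]
          exact ⟨z, hK'⟩
        exact LinearMap.mem_ker.1 hmem
      rw [map_sub, sub_eq_zero] at hzero
      exact hzero
    · intro ψ
      have hinj : Function.Injective (δLin (A := k) S hS j) := by
        rw [← LinearMap.ker_eq_bot, exact₃, LinearMap.range_eq_bot]
        exact Subsingleton.elim _ _
      obtain ⟨ψ', hψ'⟩ := exists_extend_of_injective (δLin (A := k) S hS j) hinj ψ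
      obtain ⟨y', hy'⟩ := ihK.2 ψ'
      refine ⟨extδ k hS ω i y', ?_⟩
      ext x
      have h1 := Θ_extδ k ω N tr S hS i j h y' x
      rw [hy', hψ'] at h1
      exact h1

end Linear

end Groth.Agent.Lib.T2H6.Yon
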