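import Mathlib
import Groth.Agent.Lib.T2H6DualSubA
import Groth.Agent.Lib.T2H6YonC

/-!
# Duality for `Ext^i(F, ω_X)` in a range of degrees (Hartshorne III.7.6, (iii) ⟹ (i)) (T2H6)
-/

set_option autoImplicit false
set_option linter.style.haveILetI false
universe u

open CategoryTheory CategoryTheory.Limits Abelian AlgebraicGeometry

namespace Groth.Agent.Lib.T2H6.DualSub

section Range

open Groth.Agent.Lib.T2H6.Kill Groth.Agent.Lib.T2H6.Yon Groth.Agent.Lib.T2H6.ExtDual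
  Groth.Agent.Lib.T2H6.LocGlob Groth.Agent.Lib.T2H6.SDual

variable (k : Type u) [Field k] (n : ℕ) {X : Scheme.{u}} [X.Over (Spec (CommRingCat.of k))]
  (ι : X ⟶ CohB1.ProjSpace n k) [IsClosedImmersion ι]
  (hι : ι ≫ CohB1.ProjSpace.toSpec n k = X ↘ Spec (CommRingCat.of k))

omit [X.Over (Spec (CommRingCat.of k))] in
/-- `Ext^q(O_X(-d), ω) = 0` for `q ≥ 1` and `d ≫ 0`. -/
theorem exists_vanishing_ext_Lm [HasExt.{u} X.Modules] (ω : X.Modules) (hω : Coh.IsCoh ω) :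
    ∃ d₀ : ℤ, ∀ d : ℤ, d₀ ≤ d → ∀ q : ℕ, 1 ≤ q → Subsingleton (Ext (Lm k n ι (-d)) ω q) := by
  obtain ⟨d₀, hd₀⟩ := Groth.Agent.Lib.T2H5.ClosedTransfer.serre_vanishing_closed n k ι ω hω
  refine ⟨d₀, fun d hd q hq => ?_⟩
  obtain ⟨e⟩ := nonempty_Lm_inv_iso k n ι (-d) d (by omega)
  obtain ⟨e'⟩ := nonempty_Lm_inv_iso k n ι d (-d) (by omega)
  have h1 : Subsingleton (Ext (Coh.structureModule X) (CohB1.tensorMod ω (Lm k n ι d)) q) :=
    subsingleton_ext_structureModule _ q (hd₀ d hd q hq)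
  have h2 := (subsingleton_ext_tensor_iff (Coh.structureModule X) ω (Lm k n ι d)
    (Lm k n ι (-d)) e e' q).2 h1
  exact subsingleton_ext_of_iso_left
    (Groth.Agent.Lib.Helper23.TensorUnit.unitTensorIso (Lm k n ι (-d))) ω q h2

omit [X.Over (Spec (CommRingCat.of k))] in
/-- `H^p(X, O_X(-m)) = 0` for `m ≫ 0` in the range of degrees where the `ℰxt` sheaves vanish. -/
theorem exists_vanishing_HH_Lm
    [ModSite.HasSheafHom (O := (CohB1.ProjSpace n k).sheaf)
      ((Scheme.Modules.pushforward ι).obj (Coh.structureModule X))]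
    [HasInjectiveResolutions (ModSite.Mod (CohB1.ProjSpace n k).sheaf)]
    (r s : ℕ) (hr : r ≤ n)
    (hiii : ∀ p : ℕ, r - s ≤ p → p < r →
      IsZero ((ModSite.extSh (O := (CohB1.ProjSpace n k).sheaf)
        ((Scheme.Modules.pushforward ι).obj (Coh.structureModule X)) (n - p)).obj
          (Twist.twistProjSpace n k (-((n : ℤ) + 1))))) :
    ∃ m₀ : ℤ, ∀ m : ℤ, m₀ ≤ m → ∀ p : ℕ, r - s ≤ p → p < r →
      Subsingleton (Coh.HH X (Lm k n ι (-m)) p) := by
  have key : ∀ t : ℕ, t ≤ r → ∃ m₀ : ℤ, ∀ m : ℤ, m₀ ≤ m → ∀ p : ℕ, r - s ≤ p → p < t →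
      Subsingleton (Coh.HH X (Lm k n ι (-m)) p) := by
    intro t
    induction t with
    | zero => exact fun _ => ⟨0, fun m _ p _ hp => absurd hp (Nat.not_lt_zero p)⟩
    | succ t ih =>
      intro ht
      obtain ⟨m₁, hm₁⟩ := ih (by omega)
      by_cases hrt : r - s ≤ t
      · obtain ⟨m₂, hm₂⟩ := (closed_vanishing_iff_isZero_EE n k ι t (by omega)).2
          (hiii t hrt (by omega))
        refine ⟨max m₁ m₂, fun m hm p hp hpt => ?_⟩
        rcases Nat.lt_succ_iff_lt_or_eq.1 hpt with h | rfl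
        · exact hm₁ m ((le_max_left _ _).trans hm) p hp h
        · exact hm₂ m ((le_max_right _ _).trans hm)
      · refine ⟨m₁, fun m hm p hp hpt => ?_⟩
        exact hm₁ m hm p hp (by omega)
  exact key r le_rfl

include hι in
/-- presentations which are acyclic in the range. -/
theorem exists_pres_range [HasExt.{u} X.Modules] (ω : X.Modules) (hω : Coh.IsCoh ω) (r s : ℕ)
    (hvan : ∃ m₀ : ℤ, ∀ m : ℤ, m₀ ≤ m → ∀ p : ℕ, r - s ≤ p → p < r →
      Subsingleton (Coh.HH X (Lm k n ι (-m)) p))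
    (F : X.Modules) (hF : Coh.IsCoh F) :
    ∃ S : ShortComplex X.Modules, S.ShortExact ∧ S.X₃ = F ∧ Coh.IsCoh S.X₁ ∧ Coh.IsCoh S.X₂ ∧
      (∀ j : ℕ, 1 ≤ j → Subsingleton (Ext S.X₂ ω j)) ∧
      (∀ j : ℕ, r - s ≤ j → j < r → Subsingleton (Coh.HH X S.X₂ j)) := by
  haveI := isLocallyNoetherian_of_closed k n ι hι
  obtain ⟨d₀, hd₀⟩ := exists_vanishing_ext_Lm k n ι ω hω
  obtain ⟨m₀, hm₀⟩ := hvan
  obtain ⟨m, b, φ, hm, hφ⟩ := exists_epi_sigma_of_isAmple (Lm k n ι 1) (isAmple_Lm_one k n ι)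
    (fun m => Lm k n ι (-(m : ℤ))) (nonempty_tensorPow_tensor_iso k n ι) F hF
    (max d₀ m₀).toNat
  have hm' : max d₀ m₀ ≤ (m : ℤ) := (Int.self_le_toNat _).trans (by exact_mod_cast hm)
  have hEc : Coh.IsCoh (∐ fun _ : Fin b => Lm k n ι (-(m : ℤ))) :=
    Groth.Agent.Lib.T2H5.GenIsoA.isCoh_sigma _
      (fun _ => Groth.Agent.Lib.T2H6.CurveDeg.isCoh_of_isInvertible _ (isInvertible_Lm k n ι _))
  have hK : Coh.IsCoh (kernel φ) := Groth.Agent.Lib.T2H5.GenIsoB.isCoh_kernel φ hEc hF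
  refine ⟨ShortComplex.mk (kernel.ι φ) φ (kernel.condition φ),
    ShortComplex.ShortExact.mk (ShortComplex.exact_kernel φ), rfl, hK, hEc, ?_, ?_⟩
  · intro j hj
    exact subsingleton_ext_sigma _ _ j
      (fun _ => hd₀ (m : ℤ) ((le_max_left _ _).trans hm') j hj)
  · intro j hj1 hj2
    exact Groth.Agent.Lib.T2H5.RegRes.subsingleton_HH_sigma _ j
      (fun _ => hm₀ (m : ℤ) ((le_max_right _ _).trans hm') j hj1 hj2)

/-- **Hartshorne III.7.6, (iii) ⟹ (i)**, in a range of degrees. -/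
theorem nonempty_ext_linearEquiv (r s : ℕ) (hr : r ≤ n) (hs : s ≤ r)
    (hι : ι ≫ CohB1.ProjSpace.toSpec n k = X ↘ Spec (CommRingCat.of k))
    (hdim : topologicalKrullDim ↥X ≤ (r : WithBot ℕ∞))
    [ModSite.HasSheafHom (O := (CohB1.ProjSpace n k).sheaf)
      ((Scheme.Modules.pushforward ι).obj (Coh.structureModule X))]
    [HasInjectiveResolutions (ModSite.Mod (CohB1.ProjSpace n k).sheaf)]
    (ω : X.Modules)
    (e : (Scheme.Modules.pushforward ι).obj ω ≅
      (ModSite.extSh (O := (CohB1.ProjSpace n k).sheaf)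
        ((Scheme.Modules.pushforward ι).obj (Coh.structureModule X)) (n - r)).obj
          (Twist.twistProjSpace n k (-((n : ℤ) + 1))))
    [HasExt.{u} X.Modules]
    (hiii : ∀ p : ℕ, r - s ≤ p → p < r →
      IsZero ((ModSite.extSh (O := (CohB1.ProjSpace n k).sheaf)
        ((Scheme.Modules.pushforward ι).obj (Coh.structureModule X)) (n - p)).obj
          (Twist.twistProjSpace n k (-((n : ℤ) + 1)))))
    (F : X.Modules) (hF : Coh.IsCoh F) (i : ℕ) (hi : i ≤ s) :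
    Nonempty (Abelian.Ext F ω i ≃ₗ[k] Module.Dual k (Coh.HH X F (r - i))) := by
  obtain ⟨t, ht⟩ := exists_trace k n r hr X ι hι hdim ω e
  have h0 : ∀ G : X.Modules, Coh.IsCoh G →
      Function.Bijective (Canon.dualityMap k X r ω t G) := by
    intro G hG
    constructor
    · intro φ₁ φ₂ h12
      obtain ⟨φ, -, huniq⟩ := ht G hG (Canon.dualityMap k X r ω t G φ₁)
      have a1 : φ₁ = φ := huniq φ₁ (fun x => rfl)
      have a2 : φ₂ = φ := huniq φ₂ (fun x => by rw [h12]; rfl)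
      rw [a1, a2]
    · intro ψ
      obtain ⟨φ, hφ, -⟩ := ht G hG ψ
      refine ⟨φ, ?_⟩
      ext x
      exact (hφ x).symm
  haveI : IsLocallyNoetherian (CohB1.ProjSpace n k) := isLocallyNoetherian_projSpace' n k
  have hO : Coh.IsCoh (Coh.structureModule X) := Groth.Agent.Lib.T2H5.GenIsoF.isCoh_structureModule
  have hωc : Coh.IsCoh ω := by
    apply Groth.Agent.Lib.T2H6.ClosedFull.isCoh_of_pushforward ι ω
    refine Groth.Agent.Lib.T2H5.Devissage.isCoh_of_iso e.symm ?_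
    exact Groth.Agent.Lib.T2H4.ExtShCoh.isCoh_extSh _ _
      (Groth.Agent.Lib.T2H5.ClosedTransfer.isCoh_pushforward ι _ hO)
      (Groth.Agent.Lib.T2H5.PnFinite.isCoh_twist n k _) (n - r)
  have hvan := exists_vanishing_HH_Lm k n ι r s hr hiii
  have hb := Θ_bijective_of_pres_range k ω r t s h0
    (fun G hG => exists_pres_range k n ι hι ω hωc r s hvan G hG) i (r - i) (by omega) hi F hF
  exact ⟨LinearEquiv.ofBijective (ΘLin k ω r t F i (r - i) (by omega)) hb⟩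

end Range

end Groth.Agent.Lib.T2H6.DualSub
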