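import Mathlib
import Groth.Agent.Lib.T2H6KillD
import Groth.Agent.Lib.T2H6KillE

/-!
# T2H6KillF: the sheaves `ℰxt^q(B, W)` are killed by the ideal of `B = O/I`; section-wise meaning of
"killed" (helper6)
-/

set_option autoImplicit false
set_option linter.style.haveILetI false
set_option linter.unusedSectionVars false
universe u
open CategoryTheory CategoryTheory.Limits Opposite Abelian MonoidalCategory

namespace Groth.Agent.Lib.T2H6.Kill

open Groth.Agent.Lib.Helper16.DimShift Groth.Agent.Lib.Helper21.ModTensor2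
  Groth.Agent.Lib.Helper21.ModTensor3

section Derived

variable {C : Type u} [SmallCategory C] {J : GrothendieckTopology C} {O : Sheaf J CommRingCat.{u}}
variable {B : ModSite.Mod O} {π : ModSite.unit O ⟶ B} [ModSite.HasSheafHom B]
variable [HasInjectiveResolutions (ModSite.Mod O)]

/-- **all the sheaves `ℰxt^q(B, W)` are killed by the kernel of `O → B`.** -/
theorem killed_rightDerived [Epi π] (W : ModSite.Mod O) (q : ℕ) :
    Killed O B π (((ModSite.sheafHom B).rightDerived q).obj W) := by
  cases q with
  | zero =>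
    exact killed_of_iso O B π ((Functor.rightDerivedZeroIsoSelf (ModSite.sheafHom B)).app W).symm
      (killed_sheafHom O B π W)
  | succ p =>
    let I : InjectiveResolution W := injectiveResolution W
    let e := rightDerivedSuccIso (ModSite.sheafHom B) I p
    have h1 : Killed O B π (cokernel ((ModSite.sheafHom B).map (gg I p))) :=
      killed_of_epi O B π (cokernel.π ((ModSite.sheafHom B).map (gg I p))) (killed_sheafHom O B π _)
    exact killed_of_iso O B π e.symm h1

end Derived

section Sections

variable {C : Type u} [SmallCategory C] {J : GrothendieckTopology C} (O : Sheaf J CommRingCat.{u})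

/-- the converse of `tL_map_eq_zero`: if `A ⊗ j = 0` then the sections in the image of `j`
annihilate `A`. -/
theorem smul_eq_zero_of_tL_map_eq_zero (A K : ModSite.Mod O) (j : K ⟶ ModSite.unit O)
    (h : (tL O A).map j = 0) (X : Cᵒᵖ) (x : K.val.obj X) (a : A.val.obj X) :
    (show (O.obj.obj X) from (j.val.app X).hom x) • a = 0 := by
  let j' : (fgt O).obj K ⟶ 𝟙_ (PM O) := (fgt O).map j
  let g : ((fgt O).obj A ⊗ (fgt O).obj K : PM O) ⟶ (fgt O).obj A :=
    ((fgt O).obj A ◁ j') ≫ (ρ_ ((fgt O).obj A)).hom
  have hg : (shf O).map g = 0 := by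
    have h1 : (shf O).map ((fgt O).obj A ◁ j') = 0 := by
      rw [tL_map] at h
      exact h
    rw [Functor.map_comp, h1, zero_comp]
  have hg0 : g = 0 := by
    apply ((adj O).homEquiv _ A).symm.injective
    rw [Adjunction.homEquiv_counit, Adjunction.homEquiv_counit, hg, Functor.map_zero]
  have h2 := congrArg (fun φ : ((fgt O).obj A ⊗ (fgt O).obj K : PM O) ⟶ (fgt O).obj A =>
    (φ.app X).hom (a ⊗ₜ x)) hg0
  simp only [g, PresheafOfModules.comp_app, PresheafOfModules.whiskerLeft_app,
    PresheafOfModules.rightUnitor_hom_app] at h2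
  exact h2

end Sections

end Groth.Agent.Lib.T2H6.Kill

namespace Groth.Agent.Lib.T2H6.Kill

open AlgebraicGeometry Groth.Agent.Lib.Helper23.GenLocus Groth.Agent.Lib.Helper23.Serre

section Sch

variable {X P : Scheme.{u}} (ι : X ⟶ P) [IsClosedImmersion ι]

/-- a module killed (in the tensor sense) by the kernel of `O_P → ι_* O_X` is killed by the ideal
sheaf of `ι` on sections over affine opens. -/
theorem killedByIdeal_of_killed [ModSite.HasSheafHom (BB ι)] (E : P.Modules)
    (hE : Killed P.sheaf (BB ι) (ππ ι) E) : ClSub.KilledByIdeal ι.ker E := by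
  intro U a ha m
  rw [killed_iff_map_kernel_eq_zero] at hE
  rw [Scheme.Hom.ker_apply, RingHom.mem_ker] at ha
  have hπa : Scheme.Modules.Hom.app (ππ ι) U.1 (toS U.1 a) = 0 := by
    have h1 := unitPush_app ι U.1 a
    rw [ha] at h1
    exact h1
  obtain ⟨x, hx⟩ := Groth.Agent.Lib.Helper2.ModExact.exists_app_eq_of_shortExact
    (kerSC P.sheaf (BB ι) (ππ ι)) (kerSC_shortExact P.sheaf (BB ι) (ππ ι)) U.1 (toS U.1 a) hπa
  have h2 := smul_eq_zero_of_tL_map_eq_zero P.sheaf E (kernel (ππ ι)) (kernel.ι (ππ ι)) hE
    (op U.1) x m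
  have h3 : (show (P.sheaf.obj.obj (op U.1)) from ((kernel.ι (ππ ι)).val.app (op U.1)).hom x) = a :=
    hx
  rw [h3] at h2
  exact h2

end Sch

end Groth.Agent.Lib.T2H6.Kill
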