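import Groth.Agent.Lib.T2H6SDualM

/-!
# Dualizing pairs on projective schemes over a Noetherian ring (T2H6)

* `isRDualOver_of_bijective_twists`: for a closed subscheme `X` of `P^n_A` with fibres of dimension
  `≤ r`, a pair `(ω, tr)` whose duality map is bijective on all `O_X(m)` is `r`-dualizing.
-/

set_option autoImplicit false
set_option linter.style.haveILetI false
universe u

open CategoryTheory CategoryTheory.Limits AlgebraicGeometry TopologicalSpace Opposite

namespace Groth.Agent.Lib.T2H6.SDual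

open Groth.Agent.Lib.T2H5.Twist

theorem isCoh_of_isFP {X : Scheme.{u}} (G : X.Modules) (h : CohB1.IsFP G) : Coh.IsCoh G := by
  haveI : SheafOfModules.IsFinitePresentation (R := X.ringCatSheaf) G := h
  exact ⟨inferInstance, inferInstance⟩

theorem isRDualOver_of_bijective_twists (A : Type u) [CommRing A] [IsNoetherianRing A] (n r : ℕ)
    (X : Scheme.{u}) [X.Over (Spec (CommRingCat.of A))]
    (ι : X ⟶ CohB1.ProjSpace n A) [IsClosedImmersion ι]
    (hι : ι ≫ CohB1.ProjSpace.toSpec n A = X ↘ Spec (CommRingCat.of A))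
    (hfib : ∀ y : ↥(Spec (CommRingCat.of A)),
      topologicalKrullDim ↥((X ↘ Spec (CommRingCat.of A)).fiber y) ≤ (r : WithBot ℕ∞))
    (ω : X.Modules) (hω : Coh.IsQCoh ω) (tr : Coh.HH X ω r →ₗ[A] A)
    (h : ∀ m : ℤ, Function.Bijective
      (Canon.dualityMap A X r ω tr ((Scheme.Modules.pullback ι).obj (Twist.twistProjSpace n A m)))) :
    Canon.IsRDualOver A X r ω tr := by
  haveI hP : IsProper (CohB1.ProjSpace.toSpec n A) :=
    Groth.Agent.S9705.isProper_projSpace_toSpec n A
  haveI hprop : IsProper (X ↘ Spec (CommRingCat.of A)) := by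
    rw [← hι]
    infer_instance
  haveI : IsLocallyNoetherian X :=
    LocallyOfFiniteType.isLocallyNoetherian (X ↘ Spec (CommRingCat.of A))
  haveI : CompactSpace X := QuasiCompact.compactSpace_of_compactSpace (X ↘ Spec (CommRingCat.of A))
  haveI : QuasiSeparatedSpace X :=
    quasiSeparatedSpace_of_quasiSeparated (X ↘ Spec (CommRingCat.of A))
  refine ⟨hω, fun F hF => ?_⟩
  refine bijective_dualityMap_of_isQCoh_generic A r ω tr (fun G hG => ?_) F hF
  refine bijective_dualityMap_of_isCoh_generic A r ω tr (fun T => ∃ m : ℤ, T = Lm A n ι m)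
    ?_ ?_ ?_ ?_ G (isCoh_of_isFP G hG)
  · rintro T ⟨m, rfl⟩
    exact Groth.Agent.Lib.T2H6.CurveDeg.isCoh_of_isInvertible _ (isInvertible_Lm A n ι m)
  · rintro T ⟨m, rfl⟩
    exact h m
  · intro F' hF'
    exact exists_epi_sigma_Lm A n ι F' hF'
  · intro K hK
    exact subsingleton_HH_of_fibre_dim_lt A r hfib K hK (r + 1) (Nat.lt_succ_self r)

section Pn

open Groth.Agent.Lib.T2H5.PnTop

variable (A : Type u) [CommRing A] [IsNoetherianRing A] (d : ℕ)

/-- **Duality on `P^d_A`**, `A` Noetherian: `(O(-d-1), trP)` is a `d`-dualizing pair. -/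
theorem isRDualOver_projSpace :
    Canon.IsRDualOver A (CohB1.ProjSpace d A) d (OO d A (dω d)) (trP d A) := by
  haveI hN : IsNoetherian (Proj (CohB1.polyGrading d A)) :=
    Groth.Agent.S2357.result (CohB1.polyGrading d A)
  haveI : IsLocallyNoetherian (CohB1.ProjSpace d A) := hN.toIsLocallyNoetherian
  haveI : CompactSpace (CohB1.ProjSpace d A) := hN.toCompactSpace
  haveI : QuasiSeparatedSpace (CohB1.ProjSpace d A) := inferInstance
  refine ⟨inferInstance, fun F hF => ?_⟩
  refine bijective_dualityMap_of_isQCoh_generic A d _ _ (fun G hG => ?_) F hF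
  refine bijective_dualityMap_of_isCoh_generic A d _ _
    (fun T => ∃ m : ℤ, m ≤ -1 ∧ T = Twist.twistProjSpace d A m) ?_ ?_ ?_ ?_ G (isCoh_of_isFP G hG)
  · rintro T ⟨m, -, rfl⟩
    exact Groth.Agent.Lib.T2H5.PnFinite.isCoh_twist d A m
  · rintro T ⟨m, hm, rfl⟩
    rw [twist_eq]
    rcases Nat.eq_zero_or_pos d with rfl | hd
    · exact bijective_dualityMap_OO0 A m (by unfold dω; simpa using hm)
    · exact bijective_dualityMap_OO d A hd m
  · intro F' hF'
    have hL : CohB1.IsAmple (Twist.twistProjSpace d A 1) := by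
      have h1 : CohB1.IsAmple (Twist.twistProjSpace d A ((1 : ℕ) : ℤ)) :=
        Groth.Agent.Lib.T2H5.AmplePn.isAmple_twist_of_pos d A 1 Nat.one_pos
      rwa [Nat.cast_one] at h1
    have hQ : ∀ m : ℕ, Nonempty (CohB1.tensorMod (CohB1.tensorPow (Twist.twistProjSpace d A 1) m)
        (Twist.twistProjSpace d A (-(m : ℤ))) ≅ Coh.structureModule (CohB1.ProjSpace d A)) := by
      intro m
      obtain ⟨e₁⟩ := Groth.Agent.Lib.T2H5.AmplePn.nonempty_tensorPow_twist_iso d A 1 m
      rw [mul_one] at e₁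
      obtain ⟨e₂⟩ := nonempty_twist_tensor_iso d A (m : ℤ) (-(m : ℤ)) 0 (by ring)
      obtain ⟨e₃⟩ := nonempty_twist_zero_iso d A
      exact ⟨(tr (Twist.twistProjSpace d A (-(m : ℤ)))).mapIso e₁ ≪≫ e₂ ≪≫ e₃⟩
    obtain ⟨m, b, φ, hm, hφ⟩ := exists_epi_sigma_of_isAmple (Twist.twistProjSpace d A 1) hL
      (fun m => Twist.twistProjSpace d A (-(m : ℤ))) hQ F' hF' 1
    exact ⟨b, fun _ => Twist.twistProjSpace d A (-(m : ℤ)), φ,
      fun _ => ⟨-(m : ℤ), by omega, rfl⟩, hφ⟩
  · intro K hK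
    haveI : Coh.IsQCoh K := hK.1
    exact Groth.Agent.S0022.result d A K (d + 1) (Nat.lt_succ_self d)

/-- the form of the statement with `Twist.twistProjSpace`. -/
theorem exists_isRDualOver_projSpace :
    ∃ tr : Coh.HH (CohB1.ProjSpace d A) (Twist.twistProjSpace d A (-((d : ℤ) + 1))) d →ₗ[A] A,
      Canon.IsRDualOver A (CohB1.ProjSpace d A) d (Twist.twistProjSpace d A (-((d : ℤ) + 1))) tr := by
  have key : ∀ T : (CohB1.ProjSpace d A).Modules, T = OO d A (dω d) →
      ∃ tr : Coh.HH (CohB1.ProjSpace d A) T d →ₗ[A] A,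
        Canon.IsRDualOver A (CohB1.ProjSpace d A) d T tr := by
    intro T hT
    subst hT
    exact ⟨trP d A, isRDualOver_projSpace A d⟩
  exact key _ (twist_eq d A _)

end Pn

end Groth.Agent.Lib.T2H6.SDual
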