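import Mathlib
import Groth.Agent.Lib.T2H6DualSubB
import Groth.Agent.Lib.T2H6KillF
import Groth.Agent.Lib.T2H5GenSub
import Groth.Agent.Lib.T2H5Filt
import Groth.Agent.Lib.Helper27ProjDim
import Groth.Agent.Lib.T2H6SDualN

/-!
# Existence of a coherent dualizing pair on a closed subscheme of `P^n_k` (Hartshorne III.7.5) (T2H6)
-/

set_option autoImplicit false
set_option linter.style.haveILetI false
universe u

open CategoryTheory CategoryTheory.Limits Abelian AlgebraicGeometry
open scoped ZeroObject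

namespace Groth.Agent.Lib.T2H6.DualSub

section Exist

open Groth.Agent.Lib.T2H6.Kill Groth.Agent.Lib.T2H6.Yon Groth.Agent.Lib.T2H6.ExtDual
  Groth.Agent.Lib.T2H6.LocGlob Groth.Agent.Lib.T2H6.SDual

variable (k : Type u) [Field k] (n r : ℕ) (X : Scheme.{u}) [X.Over (Spec (CommRingCat.of k))]
  (ι : X ⟶ CohB1.ProjSpace n k) [IsClosedImmersion ι]
  (hι : ι ≫ CohB1.ProjSpace.toSpec n k = X ↘ Spec (CommRingCat.of k))

/-- the "exists unique" form of duality is bijectivity of the duality map. -/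
theorem bijective_dualityMap_of_existsUnique (ω : X.Modules) (t : Coh.HH X ω r →ₗ[k] k)
    (G : X.Modules)
    (h : ∀ ψ : Coh.HH X G r →ₗ[k] k, ∃! φ : G ⟶ ω, ∀ x : Coh.HH X G r,
      ψ x = t (Sheaf.H.map ((SheafOfModules.toSheaf X.ringCatSheaf).map φ) r x)) :
    Function.Bijective (Canon.dualityMap k X r ω t G) := by
  constructor
  · intro φ₁ φ₂ h12
    obtain ⟨φ, -, huniq⟩ := h (Canon.dualityMap k X r ω t G φ₁)
    have a1 : φ₁ = φ := huniq φ₁ (fun x => rfl)
    have a2 : φ₂ = φ := huniq φ₂ (fun x => by rw [h12]; rfl)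
    rw [a1, a2]
  · intro ψ
    obtain ⟨φ, hφ, -⟩ := h ψ
    refine ⟨φ, ?_⟩
    ext x
    exact (hφ x).symm

include hι in
/-- **existence of a coherent dualizing pair**, main case `r ≤ n`. -/
theorem exists_isCoh_isRDualOver_of_le (hr : r ≤ n)
    (hdim : topologicalKrullDim ↥X ≤ (r : WithBot ℕ∞)) :
    ∃ (ω : X.Modules) (tr : Coh.HH X ω r →ₗ[k] k), Coh.IsCoh ω ∧ Canon.IsRDualOver k X r ω tr := by
  haveI hSH : ModSite.HasSheafHom (O := (CohB1.ProjSpace n k).sheaf) (BB ι) :=
    Groth.Agent.Lib.Helper21.ModTensor3.tR_isLeftAdjoint (CohB1.ProjSpace n k).sheaf (BB ι)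
  haveI := Groth.Agent.Lib.Helper21.ModTensor3.isGrothendieckAbelian (CohB1.ProjSpace n k).sheaf
  haveI : HasInjectiveResolutions (ModSite.Mod (CohB1.ProjSpace n k).sheaf) := inferInstance
  haveI : IsLocallyNoetherian (CohB1.ProjSpace n k) := isLocallyNoetherian_projSpace' n k
  have hO : Coh.IsCoh (Coh.structureModule X) := Groth.Agent.Lib.T2H5.GenIsoF.isCoh_structureModule
  have hEc : Coh.IsCoh ((ModSite.extSh (O := (CohB1.ProjSpace n k).sheaf) (BB ι) (n - r)).obj
      (Twist.twistProjSpace n k (-((n : ℤ) + 1)))) :=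
    Groth.Agent.Lib.T2H4.ExtShCoh.isCoh_extSh _ _
      (Groth.Agent.Lib.T2H5.ClosedTransfer.isCoh_pushforward ι _ hO)
      (Groth.Agent.Lib.T2H5.PnFinite.isCoh_twist n k _) (n - r)
  have hEk : Killed (CohB1.ProjSpace n k).sheaf (BB ι) (ππ ι)
      ((ModSite.extSh (O := (CohB1.ProjSpace n k).sheaf) (BB ι) (n - r)).obj
        (Twist.twistProjSpace n k (-((n : ℤ) + 1)))) :=
    killed_rightDerived _ (n - r)
  obtain ⟨ω, hωc, ⟨e⟩⟩ := Groth.Agent.Lib.T2H5.GenSub.exists_iso_push_of_killed ι _ hEc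
    (killedByIdeal_of_killed ι _ hEk)
  obtain ⟨t, ht⟩ := exists_trace k n r hr X ι hι hdim ω e.symm
  refine ⟨ω, t, hωc, ?_⟩
  have hfib : ∀ y : ↥(Spec (CommRingCat.of k)),
      topologicalKrullDim ↥((X ↘ Spec (CommRingCat.of k)).fiber y) ≤ (r : WithBot ℕ∞) := by
    intro y
    exact (((X ↘ Spec (CommRingCat.of k)).fiberι y).isEmbedding.isInducing.topologicalKrullDim_le).trans
      hdim
  refine isRDualOver_of_bijective_twists k n r X ι hι hfib ω hωc.1 t (fun m => ?_)
  exact bijective_dualityMap_of_existsUnique k r X ω t _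
    (ht _ (Groth.Agent.Lib.T2H6.CurveDeg.isCoh_of_isInvertible _ (isInvertible_Lm k n ι m)))

include hι in
/-- **existence of a coherent dualizing pair** in every degree `r ≥ dim X`. -/
theorem exists_isCoh_isRDualOver (hdim : topologicalKrullDim ↥X ≤ (r : WithBot ℕ∞)) :
    ∃ (ω : X.Modules) (tr : Coh.HH X ω r →ₗ[k] k), Coh.IsCoh ω ∧ Canon.IsRDualOver k X r ω tr := by
  by_cases hr : r ≤ n
  · exact exists_isCoh_isRDualOver_of_le k n r X ι hι hr hdim
  · -- `r > n ≥ dim X`: all cohomology in degree `r` vanishes and the zero module is dualizing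
    haveI : TopologicalSpace.NoetherianSpace X := noetherianSpace_of_closed n k ι
    haveI : IsLocallyNoetherian X := isLocallyNoetherian_of_closed k n ι hι
    have hdimX : topologicalKrullDim ↥X < (r : WithBot ℕ∞) := by
      have h1 : topologicalKrullDim ↥X ≤ topologicalKrullDim ↥(CohB1.ProjSpace n k) :=
        ι.isClosedEmbedding.isInducing.topologicalKrullDim_le
      have h2 : topologicalKrullDim ↥(CohB1.ProjSpace n k) = (n : WithBot ℕ∞) :=
        Groth.Agent.Lib.Helper27ProjDim.main k n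
      rw [h2] at h1
      refine lt_of_le_of_lt h1 ?_
      exact_mod_cast (by omega : n < r)
    have hvan : ∀ F : X.Modules, Subsingleton (Coh.HH X F r) := fun F =>
      Groth.Agent.Lib.T2H6.GVMain.subsingleton_HH X F r hdimX
    have hz : IsZero (0 : X.Modules) := isZero_zero _
    refine ⟨0, 0, Groth.Agent.Lib.T2H5.FiltCat.isCoh_of_isZero hz, ?_, fun F _ => ?_⟩
    · exact (Groth.Agent.Lib.T2H5.FiltCat.isCoh_of_isZero hz).1
    · haveI := hvan F
      constructor
      · intro φ₁ φ₂ _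
        exact hz.eq_of_tgt _ _
      · intro ψ
        refine ⟨0, ?_⟩
        ext x
        rw [Subsingleton.elim x 0, map_zero, map_zero]

end Exist

end Groth.Agent.Lib.T2H6.DualSub
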