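import Mathlib
import Groth.Prelude.Def_Curv2
import Groth.Prelude.Def_Canon
import Groth.Agent.Lib.T2H6AmpCurveG
import Groth.Agent.Lib.T2H6DualSubC
import Groth.Agent.Lib.T2H5T2Chow
import Groth.Agent.S9705
import Groth.Agent.Lib.T2H6CurveSerre
import Groth.Agent.Lib.T2H6PtTwistF

/-!
# T2H9CurveDual (helper9): a dualizing module on an integral proper curve and first consequences
-/

set_option autoImplicit false
set_option linter.style.haveILetI false
set_option linter.unusedSectionVars false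
universe u

open AlgebraicGeometry CategoryTheory Limits TopologicalSpace Opposite

namespace Groth.Agent.Lib.T2H9.CurveDual

variable (k : Type u) [Field k] {X : Scheme.{u}} [X.Over (Spec (CommRingCat.of k))]
  [IsProper (X ↘ Spec (CommRingCat.of k))]

/-- a proper scheme of dimension `≤ 1` over a field is projective -/
theorem exists_closedImmersion_projSpace (hdim : topologicalKrullDim X ≤ 1) :
    ∃ (n : ℕ) (ι : X ⟶ CohB1.ProjSpace n k), IsClosedImmersion ι ∧
      ι ≫ CohB1.ProjSpace.toSpec n k = X ↘ Spec (CommRingCat.of k) := by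
  haveI : IsNoetherian X :=
    Groth.Agent.Lib.T2H6.AmpCurve.isNoetherian_of_finiteType (X ↘ Spec (CommRingCat.of k))
  haveI : X.IsSeparated :=
    Groth.Agent.Lib.T2H6.AmpCurve.isSeparated_of_over_affine (X ↘ Spec (CommRingCat.of k))
  obtain ⟨L, hL⟩ := Groth.Agent.Lib.T2H6.AmpCurve.exists_ample_of_dim_le_one X hdim
  obtain ⟨m, j, hj, hjc⟩ := Groth.Agent.Lib.T2H6.AmpCurve.exists_immersion_projSpace
    (X ↘ Spec (CommRingCat.of k)) L hL
  haveI := hj
  haveI := Groth.Agent.S9705.isProper_projSpace_toSpec m k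
  haveI : IsProper (j ≫ CohB1.ProjSpace.toSpec m k) := by rw [hjc]; infer_instance
  haveI : IsProper j := IsProper.of_comp j (CohB1.ProjSpace.toSpec m k)
  exact ⟨m, j, Groth.Agent.Lib.T2H5.T2Chow.isClosedImmersion_of_isProper j, hjc⟩

/-- **a coherent dualizing pair** on a proper curve over a field -/
theorem exists_dualizing (hdim : topologicalKrullDim X ≤ 1) :
    ∃ (ω : X.Modules) (tr : Coh.HH X ω 1 →ₗ[k] k), Coh.IsCoh ω ∧ Canon.IsRDualOver k X 1 ω tr := by
  obtain ⟨n, ι, hι, hc⟩ := exists_closedImmersion_projSpace k hdim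
  haveI := hι
  exact Groth.Agent.Lib.T2H6.DualSub.exists_isCoh_isRDualOver k n 1 X ι hc (by exact_mod_cast hdim)

section Dual

open Groth.Agent.Lib.T2H6.HHLin Groth.Agent.Lib.T2H6.CurveSerre Groth.Agent.Lib.T2H6.ParShA
  Groth.Agent.Lib.T2H6.CurveSS2

variable {k} (ω : X.Modules) (tr : Coh.HH X ω 1 →ₗ[k] k)

/-- the duality map as a linear map -/
noncomputable def dualityLin (F : X.Modules) : (F ⟶ ω) →ₗ[k] (Coh.HH X F 1 →ₗ[k] k) where
  toFun := Canon.dualityMap k X 1 ω tr F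
  map_add' φ ψ := by
    change tr ∘ₗ Canon.HHlin k (φ + ψ) 1 = tr ∘ₗ Canon.HHlin k φ 1 + tr ∘ₗ Canon.HHlin k ψ 1
    rw [HHlin_add, LinearMap.comp_add]
  map_smul' c φ := by
    change tr ∘ₗ Canon.HHlin k (c • φ) 1 = c • (tr ∘ₗ Canon.HHlin k φ 1)
    rw [HHlin_smul, LinearMap.comp_smul]

variable {ω tr} (hd : Canon.IsRDualOver k X 1 ω tr)

include hd in
/-- nonvanishing `H¹` produces a nonzero map to the dualizing module -/
theorem exists_hom_ne_zero (F : X.Modules) (hF : Coh.IsQCoh F) (h1 : Nontrivial (Coh.HH X F 1)) :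
    ∃ φ : F ⟶ ω, φ ≠ 0 := by
  obtain ⟨v, hv⟩ := exists_ne (0 : Coh.HH X F 1)
  haveI hfree : Module.Free k (Coh.HH X F 1) := Module.Free.of_divisionRing k _
  haveI hproj : Module.Projective k (Coh.HH X F 1) := Module.Projective.of_free
  have h2 : ¬ ∀ ψ : Module.Dual k (Coh.HH X F 1), ψ v = 0 := fun h =>
    hv ((Module.forall_dual_apply_eq_zero_iff (V := Coh.HH X F 1) k v).1 h)
  push Not at h2
  obtain ⟨ψ, hψ⟩ := h2
  obtain ⟨φ, hφ⟩ := (hd.2 F hF).2 ψ
  refine ⟨φ, fun h0 => hψ ?_⟩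
  have h3 : dualityLin ω tr F φ = ψ := hφ
  rw [← h3, h0, map_zero]
  rfl

end Dual

end Groth.Agent.Lib.T2H9.CurveDual
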