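import Mathlib
import Groth.Agent.Lib.T2H9CurveDual
import Groth.Agent.Lib.T2H6InvMono

/-!
# T2H9CurveDualB (helper9): consequences of duality on an integral proper curve
-/

set_option autoImplicit false
set_option linter.style.haveILetI false
set_option linter.unusedSectionVars false
universe u

open AlgebraicGeometry CategoryTheory Limits TopologicalSpace Opposite

namespace Groth.Agent.Lib.T2H9.CurveDual

open Groth.Agent.Lib.T2H6.HHLin Groth.Agent.Lib.T2H6.CurveSerre Groth.Agent.Lib.T2H6.ParShA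
  Groth.Agent.Lib.T2H6.CurveSS2

variable {k : Type u} [Field k] {X : Scheme.{u}} [X.Over (Spec (CommRingCat.of k))]
  [IsProper (X ↘ Spec (CommRingCat.of k))] [IsIntegral X]
  {ω : X.Modules} {tr : Coh.HH X ω 1 →ₗ[k] k} (hd : Canon.IsRDualOver k X 1 ω tr)

include hd in
/-- the dualizing module receives no nonzero maps from torsion modules -/
theorem hom_eq_zero_of_isTors (hdim : topologicalKrullDim X = 1) (T : X.Modules) (hT : Coh.IsCoh T)
    (hTt : IsTors T) (ψ : T ⟶ ω) : ψ = 0 := by
  haveI := subsingleton_HH_of_isTors k hdim T hT hTt 1 Nat.one_pos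
  apply (hd.2 T hT.1).1
  apply LinearMap.ext
  intro x
  rw [Subsingleton.elim x 0, map_zero, map_zero]

include hd in
/-- `h⁰(ω) = g` -/
theorem finrank_hom_structure :
    Module.finrank k (Coh.structureModule X ⟶ ω) = Curv2.genus k X := by
  have hq : Coh.IsQCoh (Coh.structureModule X) :=
    (Groth.Agent.Lib.T2H5.GenIsoF.isCoh_structureModule (Z := X)).1
  have e : (Coh.structureModule X ⟶ ω) ≃ₗ[k] (Coh.HH X (Coh.structureModule X) 1 →ₗ[k] k) :=
    LinearEquiv.ofBijective (dualityLin ω tr (Coh.structureModule X)) (hd.2 _ hq)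
  rw [e.finrank_eq]
  exact Subspace.dual_finrank_eq

omit [IsProper (X ↘ Spec (CommRingCat.of k))] in
/-- a coherent module of generic rank zero is torsion -/
theorem isTors_of_grank_eq_zero (M : X.Modules) (hM : Coh.IsCoh M) (h : grank M = 0) : IsTors M := by
  haveI := hM.1
  haveI : SheafOfModules.IsFiniteType (R := X.ringCatSheaf) M := hM.2
  haveI g1 := Groth.Agent.Lib.Helper2.FibreCrit.finite_stalk M (genericPoint X)
  letI : Field (X.presheaf.stalk (genericPoint X)) :=
    inferInstanceAs (Field X.functionField)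
  unfold grank at h
  exact (Module.finrank_zero_iff (R := X.presheaf.stalk (genericPoint X))).1 h

include hd in
/-- a section of a rank-one submodule of an invertible module killed by a nonzero map to `ω` vanishes -/
theorem section_eq_zero_of_comp_eq_zero (hdim : topologicalKrullDim X = 1) (F : X.Modules) (hF : Coh.IsCoh F)
    (hF1 : grank F = 1) (L : X.Modules) (hL : PicF.IsInvertible L) (j : F ⟶ L) [Mono j]
    (φ : F ⟶ ω) (hφ : φ ≠ 0) (s : Coh.structureModule X ⟶ F) (hs : s ≫ φ = 0) : s = 0 := by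
  by_contra hs0
  haveI := Groth.Agent.Lib.T2H6.CurveDeg.isLocallyNoetherian (X := X) k
  have hO := Groth.Agent.Lib.Helper23.TensorUnit.isInvertible_structureModule X
  have hOc : Coh.IsCoh (Coh.structureModule X) := Groth.Agent.Lib.T2H5.GenIsoF.isCoh_structureModule
  have hsj : s ≫ j ≠ 0 := fun h => hs0 (by rw [← cancel_mono j, h, zero_comp])
  haveI : Mono (s ≫ j) := Groth.Agent.Lib.T2H6.InvMono.mono_of_ne_zero hO hL _ hsj
  haveI : Mono s := mono_of_mono s j
  let S : ShortComplex X.Modules := ShortComplex.mk s (cokernel.π s) (cokernel.condition s)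
  have hS : S.ShortExact :=
    { exact := ShortComplex.exact_cokernel s
      mono_f := inferInstanceAs (Mono s)
      epi_g := inferInstanceAs (Epi (cokernel.π s)) }
  have hCc : Coh.IsCoh (cokernel s) := Groth.Agent.Lib.T2H5.GenIsoB.isCoh_cokernel s hOc hF
  have hadd := grank_add S hS hOc hCc
  have hO1 : grank (Coh.structureModule X) = 1 :=
    grank_of_isFinLocFreeOfRank _ 1
      (Groth.Agent.Lib.Helper23.SecTw.isFinLocFreeOfRank_one_of_isInvertible _ hO)
  change grank F = grank (Coh.structureModule X) + grank (cokernel s) at hadd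
  rw [hF1, hO1] at hadd
  have hCt : IsTors (cokernel s) := isTors_of_grank_eq_zero _ hCc (by omega)
  have h0 := hom_eq_zero_of_isTors hd hdim _ hCc hCt (cokernel.desc s φ hs)
  apply hφ
  rw [← cokernel.π_desc s φ hs, h0, comp_zero]

include hd in
/-- `h⁰(F) ≤ g` for a rank-one submodule `F` of an invertible module with a nonzero map to `ω` -/
theorem finrank_h0_le_genus (hdim : topologicalKrullDim X = 1) (hω : Coh.IsCoh ω) (F : X.Modules)
    (hF : Coh.IsCoh F) (hF1 : grank F = 1) (L : X.Modules) (hL : PicF.IsInvertible L) (j : F ⟶ L) [Mono j]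
    (φ : F ⟶ ω) (hφ : φ ≠ 0) : Module.finrank k (Coh.HH X F 0) ≤ Curv2.genus k X := by
  rw [← finrank_hom_eq k F, ← finrank_hom_structure hd]
  let c : (Coh.structureModule X ⟶ F) →ₗ[k] (Coh.structureModule X ⟶ ω) :=
    { toFun := fun s => s ≫ φ
      map_add' := fun s t => Preadditive.add_comp _ _ _ s t φ
      map_smul' := fun a s => Linear.smul_comp _ _ _ a s φ }
  have hc : Function.Injective c := by
    rw [injective_iff_map_eq_zero]
    intro s hs
    exact section_eq_zero_of_comp_eq_zero hd hdim F hF hF1 L hL j φ hφ s hs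
  haveI : Module.Finite k (Coh.HH X ω 0) := Groth.Agent.Lib.T2H6.EulerField.finite_HH k X ω hω 0
  haveI : Module.Finite k (Coh.structureModule X ⟶ ω) :=
    Module.Finite.equiv (LinearEquiv.ofBijective (evLin k ω) (bijective_evLin k ω)).symm
  exact LinearMap.finrank_le_finrank_of_injective hc

section Ideal

open Groth.Agent.Lib.T2H6.PtTwistB Groth.Agent.Lib.T2H6.AmpleCrit Groth.Agent.Lib.T2H5.Twist
  Groth.Agent.Lib.T2H6.TensorDeg

omit [IsProper (X ↘ Spec (CommRingCat.of k))] [X.Over (Spec (CommRingCat.of k))] in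
/-- a closed subset of dimension `≤ 0` of a one-dimensional integral scheme misses the generic point -/
theorem genericPoint_notMem_of_dim_le_zero (hdim : topologicalKrullDim X = 1) (Z : X.IdealSheafData)
    (hZ : topologicalKrullDim (Z.support : Set X) ≤ 0) : genericPoint X ∉ (Z.support : Set X) := by
  intro hη
  have huniv : (Z.support : Set X) = Set.univ := by
    apply Set.eq_univ_of_univ_subset
    rw [← (genericPoint_spec X)]
    exact (Z.support.isClosed.closure_subset_iff).2 (Set.singleton_subset_iff.2 hη)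
  rw [huniv] at hZ
  have h1 : topologicalKrullDim (Set.univ : Set X) = topologicalKrullDim X :=
    IsHomeomorph.topologicalKrullDim_eq _ (Homeomorph.Set.univ X).isHomeomorph
  rw [h1, hdim] at hZ
  exact absurd hZ (by decide)

variable (k)

/-- coherence and numerics of `I_Z ⊗ L` -/
theorem idealMod_tensor_data (hdim : topologicalKrullDim X = 1) (Z : X.IdealSheafData)
    (hη : genericPoint X ∉ (Z.support : Set X)) (L : X.Modules) (hL : PicF.IsInvertible L) :
    Coh.IsCoh (CohB1.tensorMod (ClSub.idealMod Z) L) ∧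
      grank (CohB1.tensorMod (ClSub.idealMod Z) L) = 1 ∧
      Curv2.euler k X (CohB1.tensorMod (ClSub.idealMod Z) L) =
        Curv2.deg k X L 1 + Curv2.euler k X (Coh.structureModule X) -
          (Module.finrank k (Coh.HH X (ClSub.quotMod Z) 0) : ℤ) := by
  haveI : IsNoetherian X := Groth.Agent.Lib.T2H6.CurveSatur.isNoetherian_of_proper k
  have hS : (twSC Z L).ShortExact := shortExact_map_tr hL (idealSC Z) (idealSC_shortExact Z)
  have hOc : Coh.IsCoh (Coh.structureModule X) := Groth.Agent.Lib.T2H5.GenIsoF.isCoh_structureModule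
  have hQc : Coh.IsCoh (ClSub.quotMod Z) := Groth.Agent.Lib.T2H6.ParShC.isCoh_quotMod Z
  have hLc := Groth.Agent.Lib.T2H6.CurveDeg.isCoh_of_isInvertible L hL
  have hIc : Coh.IsCoh (ClSub.idealMod Z) :=
    Groth.Agent.Lib.T2H5.Devissage.isCoh_of_mono (ClSub.idealModι Z) hOc (isQuasicoherent_idealMod Z)
  have h1c : Coh.IsCoh (twSC Z L).X₁ := isCoh_tensor _ L hIc hLc
  have h2c : Coh.IsCoh (twSC Z L).X₂ := isCoh_tensor _ L hOc hLc
  have h3c : Coh.IsCoh (twSC Z L).X₃ := isCoh_tensor _ L hQc hLc
  have hQt : IsTors (ClSub.quotMod Z) := by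
    rw [isTors_iff]
    exact fun h => hη (Groth.Agent.Lib.T2H6.ParShC.support_quotMod_subset Z h)
  have h3t : IsTors (twSC Z L).X₃ := IsTors.tensor_left hQt L
  have hL1 := Groth.Agent.Lib.Helper23.SecTw.isFinLocFreeOfRank_one_of_isInvertible L hL
  have hO := Groth.Agent.Lib.Helper23.TensorUnit.isInvertible_structureModule X
  have hOL : PicF.IsInvertible (CohB1.tensorMod (Coh.structureModule X) L) :=
    Groth.Agent.Lib.Helper23.SecTw.isInvertible_tensorMod hO hL
  refine ⟨h1c, ?_, ?_⟩
  · have hadd := grank_add (twSC Z L) hS h1c h3c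
    have h2 : grank (twSC Z L).X₂ = 1 :=
      grank_of_isFinLocFreeOfRank _ 1
        (Groth.Agent.Lib.Helper23.SecTw.isFinLocFreeOfRank_one_of_isInvertible _ hOL)
    rw [h2, h3t.grank_eq_zero] at hadd
    change grank (twSC Z L).X₁ = 1
    omega
  · have hadd := Groth.Agent.Lib.T2H6.EulerField.euler_additive k X (twSC Z L) hS h1c h2c h3c
    have e3 : Curv2.euler k X (twSC Z L).X₃ = (Module.finrank k (Coh.HH X (ClSub.quotMod Z) 0) : ℤ) := by
      change Curv2.euler k X (CohB1.tensorMod (ClSub.quotMod Z) L) = _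
      rw [tensor_euler k hdim L 1 hL1 _ hQc, hQt.grank_eq_zero, euler_eq_h0 k hdim _ hQc hQt]
      simp
    have e2 : Curv2.euler k X (twSC Z L).X₂ =
        Curv2.deg k X L 1 + Curv2.euler k X (Coh.structureModule X) := by
      change Curv2.euler k X (CohB1.tensorMod (Coh.structureModule X) L) = _
      have e : CohB1.tensorMod (Coh.structureModule X) L ≅ L :=
        Groth.Agent.Lib.Helper23.TensorUnit.unitTensorIso L
      rw [Groth.Agent.Lib.T2H6.FieldBC.euler_eq_of_iso k X e]
      unfold Curv2.deg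
      ring
    change Curv2.euler k X (twSC Z L).X₁ = _
    rw [e2, e3] at hadd
    linarith

/-- if `H¹(I_Z ⊗ L) ≠ 0` then `h⁰(I_Z ⊗ L) ≤ g` -/
theorem h0_le_genus_of_h1_nontrivial (hdim : topologicalKrullDim X = 1)
    (L : X.Modules) (hL : PicF.IsInvertible L) (Z : X.IdealSheafData)
    (hη : genericPoint X ∉ (Z.support : Set X))
    (h1 : Nontrivial (Coh.HH X (CohB1.tensorMod (ClSub.idealMod Z) L) 1)) :
    Module.finrank k (Coh.HH X (CohB1.tensorMod (ClSub.idealMod Z) L) 0) ≤ Curv2.genus k X := by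
  obtain ⟨ω, tr, hω, hd⟩ := exists_dualizing k (X := X) hdim.le
  obtain ⟨hFc, hF1, -⟩ := idealMod_tensor_data k hdim Z hη L hL
  obtain ⟨φ, hφ⟩ := exists_hom_ne_zero hd _ hFc.1 h1
  have hS : (twSC Z L).ShortExact := shortExact_map_tr hL (idealSC Z) (idealSC_shortExact Z)
  let j : CohB1.tensorMod (ClSub.idealMod Z) L ⟶ CohB1.tensorMod (Coh.structureModule X) L :=
    (twSC Z L).f
  haveI : Mono j := hS.mono_f
  have hO := Groth.Agent.Lib.Helper23.TensorUnit.isInvertible_structureModule X
  have hOL : PicF.IsInvertible (CohB1.tensorMod (Coh.structureModule X) L) :=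
    Groth.Agent.Lib.Helper23.SecTw.isInvertible_tensorMod hO hL
  exact finrank_h0_le_genus hd hdim hω _ hFc hF1 _ hOL j φ hφ

/-- **S1531**: `H¹(I_Z ⊗ L) ≠ 0` forces `deg L ≤ 2g - 2 + deg Z` -/
theorem deg_le_of_h1_nontrivial (hdim : topologicalKrullDim X = 1)
    (h0 : Module.finrank k (Coh.HH X (Coh.structureModule X) 0) = 1)
    (L : X.Modules) (hL : PicF.IsInvertible L) (Z : X.IdealSheafData)
    (hη : genericPoint X ∉ (Z.support : Set X))
    (h1 : Nontrivial (Coh.HH X (CohB1.tensorMod (ClSub.idealMod Z) L) 1)) :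
    Curv2.deg k X L 1 ≤
      2 * (Curv2.genus k X : ℤ) - 2 + Module.finrank k (Coh.HH X (ClSub.quotMod Z) 0) := by
  obtain ⟨hFc, hF1, hχ⟩ := idealMod_tensor_data k hdim Z hη L hL
  have hle := h0_le_genus_of_h1_nontrivial k hdim L hL Z hη h1
  haveI := hFc.1
  haveI : (Coh.structureModule X).IsQuasicoherent :=
    (Groth.Agent.Lib.T2H5.GenIsoF.isCoh_structureModule (Z := X)).1
  have eF := Groth.Agent.Lib.T2H6.CurveRR.euler_eq_sub k hdim (CohB1.tensorMod (ClSub.idealMod Z) L)
  have eO := Groth.Agent.Lib.T2H6.CurveRR.euler_eq_sub k hdim (Coh.structureModule X)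
  haveI : Module.Finite k (Coh.HH X (CohB1.tensorMod (ClSub.idealMod Z) L) 1) :=
    Groth.Agent.Lib.T2H6.EulerField.finite_HH k X _ hFc 1
  have hpos : 0 < Module.finrank k (Coh.HH X (CohB1.tensorMod (ClSub.idealMod Z) L) 1) :=
    Module.finrank_pos
  have hg : (Module.finrank k (Coh.HH X (Coh.structureModule X) 1) : ℤ) = (Curv2.genus k X : ℤ) := rfl
  rw [h0, hg] at eO
  rw [eF, eO] at hχ
  have h2 : (1 : ℤ) ≤ (Module.finrank k (Coh.HH X (CohB1.tensorMod (ClSub.idealMod Z) L) 1) : ℤ) := by
    exact_mod_cast hpos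
  have h3 : (Module.finrank k (Coh.HH X (CohB1.tensorMod (ClSub.idealMod Z) L) 0) : ℤ) ≤
      (Curv2.genus k X : ℤ) := by exact_mod_cast hle
  push_cast at hχ
  linarith

end Ideal

end Groth.Agent.Lib.T2H9.CurveDual
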