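import Mathlib
import Groth.Agent.Lib.T2H9CurveDualB
import Groth.Agent.Lib.T2H9PtDeg
import Groth.Agent.Lib.T2H9DegMorD
import Groth.Agent.Lib.T2H9P1IsoA
import Groth.Agent.Lib.Helper23LocGen

/-!
# T2H9CurveDualC (helper9): invertible modules of degree `≥ 2g` are globally generated
-/

set_option autoImplicit false
set_option linter.style.haveILetI false
set_option linter.unusedSectionVars false
universe u

open AlgebraicGeometry CategoryTheory Limits TopologicalSpace Opposite

namespace Groth.Agent.Lib.T2H9.CurveDual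

open Groth.Agent.Lib.T2H6.HHLin Groth.Agent.Lib.T2H6.CurveSerre Groth.Agent.Lib.T2H6.ParShA
  Groth.Agent.Lib.T2H6.CurveSS2 Groth.Agent.Lib.T2H6.PtTwistA

variable (k : Type u) [Field k] {X : Scheme.{u}} [X.Over (Spec (CommRingCat.of k))]
  [IsProper (X ↘ Spec (CommRingCat.of k))] [IsIntegral X]

attribute [local instance] Curv2.resAlgebra

/-- **S1533** (pointwise form): in degree `≥ 2g` every point is in the generating locus of some section -/
theorem exists_section_mem_genLocus (hdim : topologicalKrullDim X = 1)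
    (h0 : Module.finrank k (Coh.HH X (Coh.structureModule X) 0) = 1)
    (L : X.Modules) (hL : PicF.IsInvertible L) (hdeg : 2 * (Curv2.genus k X : ℤ) ≤ Curv2.deg k X L 1)
    (x : X) : ∃ s : Coh.structureModule X ⟶ L, x ∈ CohB1.genLocus L s := by
  haveI := Groth.Agent.Lib.T2H6.CurveDeg.isLocallyNoetherian (X := X) k
  have hO := Groth.Agent.Lib.Helper23.TensorUnit.isInvertible_structureModule X
  have hLc := Groth.Agent.Lib.T2H6.CurveDeg.isCoh_of_isInvertible L hL
  haveI := hLc.1
  haveI : (Coh.structureModule X).IsQuasicoherent :=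
    (Groth.Agent.Lib.T2H5.GenIsoF.isCoh_structureModule (Z := X)).1
  have eL := Groth.Agent.Lib.T2H6.CurveRR.euler_eq_sub k hdim L
  have eO := Groth.Agent.Lib.T2H6.CurveRR.euler_eq_sub k hdim (Coh.structureModule X)
  have hg : (Module.finrank k (Coh.HH X (Coh.structureModule X) 1) : ℤ) = (Curv2.genus k X : ℤ) := rfl
  rw [h0, hg] at eO
  have hdL : Curv2.deg k X L 1 = Curv2.euler k X L - Curv2.euler k X (Coh.structureModule X) := by
    unfold Curv2.deg; ring
  -- `h⁰(L) ≥ g + 1`
  have hL0 : (Curv2.genus k X : ℤ) + 1 ≤ (Module.finrank k (Coh.HH X L 0) : ℤ) := by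
    have h1nn : (0 : ℤ) ≤ (Module.finrank k (Coh.HH X L 1) : ℤ) := Int.natCast_nonneg _
    push_cast at eO
    linarith
  rcases Groth.Agent.Lib.T2H9.DegMor.isClosed_or_eq_genericPoint hdim.le x with hxc | hxg
  · by_contra hcon
    push Not at hcon
    have e : CohB1.tensorMod (Coh.structureModule X) L ≅ L :=
      Groth.Agent.Lib.Helper23.TensorUnit.unitTensorIso L
    have hall : ∀ s₀ : Coh.structureModule X ⟶ CohB1.tensorMod (Coh.structureModule X) L,
        x ∉ CohB1.genLocus _ s₀ := by
      intro s₀ hs₀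
      apply hcon (s₀ ≫ e.hom)
      rw [Groth.Agent.Lib.Helper23.AmpleIso.genLocus_comp_iso e s₀]
      exact hs₀
    have hst := Groth.Agent.Lib.T2H6.PtTwistF.stay_all k x hxc L hL hall
    rw [Groth.Agent.Lib.T2H6.FieldBC.finrank_HH_eq_of_iso k X e 0] at hst
    have hη : genericPoint X ∉ ((ptIdeal x hxc).support : Set X) := by
      rw [coe_support_ptIdeal]
      intro h
      exact Groth.Agent.Lib.T2H6.PtTwistB.genericPoint_ne_of_isClosed hdim x hxc
        (Set.mem_singleton_iff.1 h)
    obtain ⟨hFc, -, hχ⟩ := idealMod_tensor_data k hdim (ptIdeal x hxc) hη L hL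
    haveI := hFc.1
    have eF := Groth.Agent.Lib.T2H6.CurveRR.euler_eq_sub k hdim
      (CohB1.tensorMod (ClSub.idealMod (ptIdeal x hxc)) L)
    have hdx := Groth.Agent.Lib.T2H9.PtDeg.finrank_HH_zero_quotMod_ptIdeal k x hxc
    haveI := Groth.Agent.Lib.T2H6.ResFinite.finite_residueField k X x hxc
    have hpos : 0 < Module.finrank k (X.residueField x) := Module.finrank_pos
    have hpos' : (1 : ℤ) ≤ (Module.finrank k (X.residueField x) : ℤ) := by exact_mod_cast hpos
    rw [hdx, eF, hst, hdL, eL] at hχ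
    have h1pos : 0 < Module.finrank k (Coh.HH X (CohB1.tensorMod (ClSub.idealMod (ptIdeal x hxc)) L) 1) := by
      have h1nn : (0 : ℤ) ≤ (Module.finrank k (Coh.HH X L 1) : ℤ) := Int.natCast_nonneg _
      have : (0 : ℤ) <
          (Module.finrank k (Coh.HH X (CohB1.tensorMod (ClSub.idealMod (ptIdeal x hxc)) L) 1) : ℤ) := by
        linarith
      exact_mod_cast this
    have hnt : Nontrivial (Coh.HH X (CohB1.tensorMod (ClSub.idealMod (ptIdeal x hxc)) L) 1) :=
      Module.nontrivial_of_finrank_pos (R := k) h1pos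
    have hle := h0_le_genus_of_h1_nontrivial k hdim L hL (ptIdeal x hxc) hη hnt
    rw [hst] at hle
    have : (Module.finrank k (Coh.HH X L 0) : ℤ) ≤ (Curv2.genus k X : ℤ) := by exact_mod_cast hle
    linarith
  · have hnt : Nontrivial (Coh.HH X L 0) :=
      Module.nontrivial_of_finrank_pos (R := k) (by
        have : (0 : ℤ) < (Module.finrank k (Coh.HH X L 0) : ℤ) := by
          have : (0 : ℤ) ≤ (Curv2.genus k X : ℤ) := Int.natCast_nonneg _
          linarith
        exact_mod_cast this)
    obtain ⟨s, hs⟩ := Groth.Agent.Lib.T2H6.CurveRR.exists_section_ne_zero _ hnt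
    haveI : Mono s := Groth.Agent.Lib.T2H6.InvMono.mono_of_ne_zero hO hL s hs
    refine ⟨s, Groth.Agent.Lib.T2H9.P1Iso.mem_genLocus_of_notMem_support L hL s x ?_⟩
    rw [hxg]
    exact Groth.Agent.Lib.T2H6.CurveDeg.generic_notMem_support hO hL s hs

/-- **S1533**: invertible modules of degree `≥ 2g` are globally generated -/
theorem isGloballyGenerated_of_deg_ge (hdim : topologicalKrullDim X = 1)
    (h0 : Module.finrank k (Coh.HH X (Coh.structureModule X) 0) = 1)
    (L : X.Modules) (hL : PicF.IsInvertible L) (hdeg : 2 * (Curv2.genus k X : ℤ) ≤ Curv2.deg k X L 1) :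
    Curv2.IsGloballyGenerated L := by
  apply Groth.Agent.Lib.Helper23.LocGen.isGloballyGenerated_of_locGen
  intro x
  obtain ⟨s, hs⟩ := exists_section_mem_genLocus k hdim h0 L hL hdeg x
  exact ⟨_, hs, Groth.Agent.Lib.Helper23.LocGen.locGen_genLocus L s⟩

/-- **S1532** -/
theorem h1_subsingleton_of_deg_gt (hdim : topologicalKrullDim X = 1)
    (h0 : Module.finrank k (Coh.HH X (Coh.structureModule X) 0) = 1)
    (L : X.Modules) (hL : PicF.IsInvertible L) (Z : X.IdealSheafData)
    (hη : genericPoint X ∉ (Z.support : Set X))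
    (hdeg : 2 * (Curv2.genus k X : ℤ) - 2 + Module.finrank k (Coh.HH X (ClSub.quotMod Z) 0) <
      Curv2.deg k X L 1) :
    Subsingleton (Coh.HH X (CohB1.tensorMod (ClSub.idealMod Z) L) 1) ∧
      (Subsingleton (Coh.HH X (CohB1.tensorMod (ClSub.idealMod Z) L) 0) →
        Curv2.genus k X = 0 ∧
          Curv2.deg k X L 1 = Module.finrank k (Coh.HH X (ClSub.quotMod Z) 0) - 1) := by
  have h1 : Subsingleton (Coh.HH X (CohB1.tensorMod (ClSub.idealMod Z) L) 1) := by
    by_contra hns
    rw [not_subsingleton_iff_nontrivial] at hns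
    have := deg_le_of_h1_nontrivial k hdim h0 L hL Z hη hns
    linarith
  refine ⟨h1, fun h00 => ?_⟩
  obtain ⟨hFc, -, hχ⟩ := idealMod_tensor_data k hdim Z hη L hL
  haveI := hFc.1
  haveI : (Coh.structureModule X).IsQuasicoherent :=
    (Groth.Agent.Lib.T2H5.GenIsoF.isCoh_structureModule (Z := X)).1
  have eF := Groth.Agent.Lib.T2H6.CurveRR.euler_eq_sub k hdim (CohB1.tensorMod (ClSub.idealMod Z) L)
  have eO := Groth.Agent.Lib.T2H6.CurveRR.euler_eq_sub k hdim (Coh.structureModule X)
  have hg : (Module.finrank k (Coh.HH X (Coh.structureModule X) 1) : ℤ) = (Curv2.genus k X : ℤ) := rfl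
  rw [h0, hg] at eO
  rw [eF, eO, Module.finrank_zero_of_subsingleton, Module.finrank_zero_of_subsingleton] at hχ
  push_cast at hχ
  have hg0 : (Curv2.genus k X : ℤ) = 0 := by
    have : (0 : ℤ) ≤ (Curv2.genus k X : ℤ) := Int.natCast_nonneg _
    linarith
  refine ⟨by exact_mod_cast hg0, ?_⟩
  linarith

end Groth.Agent.Lib.T2H9.CurveDual
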