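import Mathlib
import Groth.Prelude.Def_ClSub2
import Groth.Agent.Lib.T2H4AmpleCartier
import Groth.Agent.Lib.T2H5MulTrick
import Groth.Agent.Lib.Helper18OmLS9
import Groth.Agent.Lib.Helper23TensorQCoh
import Groth.Agent.Lib.T2H6AmpleCrit
import Groth.Agent.Lib.T2H6PtTwistA
import Groth.Agent.Lib.T2H5IdealMul
import Groth.Agent.Lib.Helper23AmpleIso

/-!
# T2H9IdealProd (helper9): `I ⊗ J ≅ I · J` for ideal sheaves with `J` invertible
-/

set_option autoImplicit false
set_option linter.style.haveILetI false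
set_option linter.unusedSectionVars false
universe u

open AlgebraicGeometry CategoryTheory Limits TopologicalSpace Opposite

namespace Groth.Agent.Lib.T2H9.IdealProd

open Groth.Agent.Lib.Helper23.SecTw Groth.Agent.Lib.Helper23.GenLocus Groth.Agent.Lib.Helper6
  Groth.Agent.Lib.Helper23.TensorMap Groth.Agent.Lib.T2H4.AmpleCartier Groth.Agent.Lib.Helper23.Extend

variable {X : Scheme.{u}}

/-- a function lies in the ideal sheaf if it does so on every affine open -/
theorem toSubscheme_app_eq_zero_of_forall (K : X.IdealSheafData) (W : X.Opens) (x : Γ(X, W))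
    (h : ∀ (V : X.affineOpens) (hV : V.1 ≤ W), resf hV x ∈ K.ideal V) :
    (ClSub.toSubscheme K).app W (toS W x) = 0 := by
  have hloc : ∀ y : W, ∃ V : X.Opens, IsAffineOpen V ∧ y.1 ∈ V ∧ V ≤ W := fun y => by
    obtain ⟨V, hV, hyV, hVW⟩ := (Opens.isBasis_iff_nbhd.1 X.isBasis_affineOpens) y.2
    exact ⟨V, hV, hyV, hVW⟩
  choose V hVa hyV hVW using hloc
  refine (modSheaf (ClSub.quotMod K)).eq_of_locally_eq' V W (fun y => homOfLE (hVW y)) ?_ _ _
    (fun y => ?_)
  · intro y hy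
    exact Opens.mem_iSup.2 ⟨⟨y, hy⟩, hyV ⟨y, hy⟩⟩
  · change res (ClSub.quotMod K) (hVW y) ((ClSub.toSubscheme K).app W (toS W x)) =
      res (ClSub.quotMod K) (hVW y) 0
    have e0 : res (ClSub.quotMod K) (hVW y) 0 = 0 := map_zero _
    rw [e0]
    have e1 : res (ClSub.quotMod K) (hVW y) ((ClSub.toSubscheme K).app W (toS W x)) =
        (ClSub.toSubscheme K).app (V y) (res _ (hVW y) (toS W x)) :=
      (app_map (ClSub.toSubscheme K) (homOfLE (hVW y)) (toS W x)).symm
    rw [e1]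
    exact Groth.Agent.Lib.T2H6.PtTwistA.toSubscheme_app_eq_zero K ⟨V y, hVa y⟩ _ (h ⟨V y, hVa y⟩ (hVW y))

variable (I J : X.IdealSheafData)

/-- the multiplication `I ⊗ J ⟶ O`, `a ⊗ b ↦ a b` -/
noncomputable def mul₀ : CohB1.tensorMod (ClSub.idealMod I) (ClSub.idealMod J) ⟶ Coh.structureModule X :=
  mulHom (ClSub.idealModι I) (ClSub.idealMod J) ≫ ClSub.idealModι J

theorem mul₀_tm (W : X.Opens) (a : Γ(ClSub.idealMod I, W)) (b : Γ(ClSub.idealMod J, W)) :
    ofS W ((mul₀ I J).app W (tm _ _ W a b)) = ιf I W a * ιf J W b := by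
  unfold mul₀
  rw [Scheme.Modules.Hom.comp_app, ConcreteCategory.comp_apply, mulHom_tm]
  exact ιf_smul J W _ b

theorem mul₀_toSubscheme : mul₀ I J ≫ ClSub.toSubscheme (I * J) = 0 := by
  apply Groth.Agent.Lib.T2H5.MulTrick.hom_ext_tm
  intro W a b
  rw [Scheme.Modules.Hom.comp_app, ConcreteCategory.comp_apply, Scheme.Modules.Hom.zero_app]
  have h0 : (mul₀ I J).app W (tm _ _ W a b) = toS W (ιf I W a * ιf J W b) := by
    rw [← mul₀_tm]; rfl
  rw [h0]
  refine (toSubscheme_app_eq_zero_of_forall (I * J) W _ fun V hV => ?_).trans ?_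
  · have hm : resf hV (ιf I W a * ιf J W b) = resf hV (ιf I W a) * resf hV (ιf J W b) := map_mul _ _ _
    rw [hm, ← ιf_res, ← ιf_res]
    exact Ideal.mul_mem_mul (ιf_mem_ideal I V _) (ιf_mem_ideal J V _)
  · rfl

/-- the multiplication `I ⊗ J ⟶ I J` -/
noncomputable def mul : CohB1.tensorMod (ClSub.idealMod I) (ClSub.idealMod J) ⟶ ClSub.idealMod (I * J) :=
  kernel.lift _ (mul₀ I J) (mul₀_toSubscheme I J)

theorem mul_ι : mul I J ≫ ClSub.idealModι (I * J) = mul₀ I J := kernel.lift_ι _ _ _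

theorem ιf_mul_tm (W : X.Opens) (a : Γ(ClSub.idealMod I, W)) (b : Γ(ClSub.idealMod J, W)) :
    ιf (I * J) W ((mul I J).app W (tm _ _ W a b)) = ιf I W a * ιf J W b := by
  rw [← mul₀_tm, ← mul_ι]
  rfl

/-- on small affine opens the multiplication is bijective -/
theorem bijective_mul_app (W : X.Opens) (e : Γ(ClSub.idealMod J, W)) (he : IsGen (ClSub.idealMod J) W e)
    (V : X.affineOpens) (hV : V.1 ≤ W) : Function.Bijective ((mul I J).app V.1) := by
  set e' := res (ClSub.idealMod J) hV e with he'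
  set g := ιf J V.1 e' with hg
  have hb := bijective_tm_of_isGen (ClSub.idealMod I) (ClSub.idealMod J) W e he V.1 hV
  have hnzd : ∀ r : Γ(X, V.1), r * g = 0 → r = 0 := by
    intro r hr
    have h1 : ιf J V.1 (r • e') = ιf J V.1 0 := by rw [ιf_smul, ιf_zero]; exact hr
    have h2 : r • e' = (0 : Γ(X, V.1)) • e' := by rw [zero_smul]; exact ιf_injective J V.1 h1
    exact (he V.1 hV).1 h2
  have hspan : J.ideal V = Ideal.span {g} := by
    rw [ideal_eq_span J W e he V hV, hg, he', ιf_res]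
  have hval : ∀ t : Γ(ClSub.idealMod I, V.1),
      ιf (I * J) V.1 ((mul I J).app V.1 (tm _ _ V.1 t e')) = ιf I V.1 t * g := fun t => ιf_mul_tm I J V.1 t e'
  constructor
  · intro z z' hzz
    obtain ⟨t, rfl⟩ := hb.2 z
    obtain ⟨t', rfl⟩ := hb.2 z'
    have h1 : ιf I V.1 t * g = ιf I V.1 t' * g := by
      rw [← hval, ← hval]; exact congrArg _ hzz
    have h2 : ιf I V.1 t = ιf I V.1 t' := by
      have h3 : (ιf I V.1 t - ιf I V.1 t') * g = 0 := by rw [sub_mul, h1, sub_self]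
      exact sub_eq_zero.1 (hnzd _ h3)
    rw [ιf_injective I V.1 h2]
  · intro c
    have hc := ιf_mem_ideal (I * J) V c
    have hc' : ιf (I * J) V.1 c ∈ I.ideal V * J.ideal V := hc
    rw [hspan, Ideal.mem_mul_span_singleton] at hc'
    obtain ⟨a, ha, hac⟩ := hc'
    obtain ⟨t, ht⟩ := exists_ιf_eq I V a ha
    refine ⟨tm _ _ V.1 t e', ιf_injective (I * J) V.1 ?_⟩
    rw [hval, ht, hac]

/-- **`I ⊗ J ≅ I J`** when the ideal module of `J` is invertible -/
theorem isIso_mul (hJ : PicF.IsInvertible (ClSub.idealMod J)) : IsIso (mul I J) := by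
  haveI := Groth.Agent.Lib.T2H6.AmpleCrit.isQuasicoherent_idealMod I
  haveI := Groth.Agent.Lib.T2H6.AmpleCrit.isQuasicoherent_idealMod J
  haveI := Groth.Agent.Lib.T2H6.AmpleCrit.isQuasicoherent_idealMod (I * J)
  haveI := Groth.Agent.Lib.Helper23.TensorQCoh.isQuasicoherent_tensorMod (ClSub.idealMod I) (ClSub.idealMod J)
  have hloc : ∀ x : X, ∃ (W : X.Opens) (e : Γ(ClSub.idealMod J, W)) (V : X.Opens),
      IsGen (ClSub.idealMod J) W e ∧ IsAffineOpen V ∧ x ∈ V ∧ V ≤ W := fun x => by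
    obtain ⟨W, e, hxW, he⟩ := exists_gen (ClSub.idealMod J) hJ x
    obtain ⟨V, hV, hxV, hVW⟩ := (Opens.isBasis_iff_nbhd.1 X.isBasis_affineOpens) hxW
    exact ⟨W, e, V, he, hV, hxV, hVW⟩
  choose W e V he hVa hxV hVW using hloc
  refine Groth.Agent.Helper18OmLS.isIso_of_bijective_app_cover (mul I J) V ?_ hVa fun x => ?_
  · rw [IsOpenCover, eq_top_iff]
    intro x _
    exact Opens.mem_iSup.2 ⟨x, hxV x⟩
  · exact bijective_mul_app I J (W x) (e x) (he x) ⟨V x, hVa x⟩ (hVW x)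

/-- the isomorphism `I ⊗ J ≅ I J` -/
noncomputable def mulIso (hJ : PicF.IsInvertible (ClSub.idealMod J)) :
    CohB1.tensorMod (ClSub.idealMod I) (ClSub.idealMod J) ≅ ClSub.idealMod (I * J) :=
  haveI := isIso_mul I J hJ
  asIso (mul I J)

/-- the ideal module of the unit ideal is `O` -/
theorem isIso_idealModι_top : IsIso (ClSub.idealModι (⊤ : X.IdealSheafData)) := by
  haveI := Groth.Agent.Lib.T2H6.AmpleCrit.isQuasicoherent_idealMod (⊤ : X.IdealSheafData)
  haveI : (Coh.structureModule X).IsQuasicoherent :=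
    Groth.Agent.Lib.Helper23.Serre.isQuasicoherent_structureModule' X
  refine Groth.Agent.Lib.T2H5.IdealMul.isIso_of_bijective_app _ fun U => ⟨?_, fun b => ?_⟩
  · exact OmegaSh.idealModι_app_injective (W := U.1) (K := (⊤ : X.IdealSheafData))
  · obtain ⟨c, hc⟩ := exists_ιf_eq (⊤ : X.IdealSheafData) U (ofS U.1 b) (by
      rw [Scheme.IdealSheafData.ideal_top]; exact Submodule.mem_top)
    exact ⟨c, hc⟩

/-- `idealMod ⊤ ≅ O` -/
noncomputable def idealModTopIso : ClSub.idealMod (⊤ : X.IdealSheafData) ≅ Coh.structureModule X :=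
  haveI := isIso_idealModι_top (X := X)
  asIso (ClSub.idealModι (⊤ : X.IdealSheafData))

/-- `idealMod (I ^ 0) ≅ O` -/
noncomputable def idealModPowZeroIso : ClSub.idealMod (I ^ 0) ≅ Coh.structureModule X :=
  eqToIso (by rw [pow_zero]; rfl) ≪≫ idealModTopIso

/-- `I^n ⊗ I ≅ I^(n+1)` -/
noncomputable def powSuccIso (hI : PicF.IsInvertible (ClSub.idealMod I)) (n : ℕ) :
    CohB1.tensorMod (ClSub.idealMod (I ^ n)) (ClSub.idealMod I) ≅ ClSub.idealMod (I ^ (n + 1)) :=
  mulIso (I ^ n) I hI ≪≫ eqToIso (by rw [pow_succ])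

theorem isInvertible_idealMod_pow (hI : PicF.IsInvertible (ClSub.idealMod I)) (n : ℕ) :
    PicF.IsInvertible (ClSub.idealMod (I ^ n)) := by
  induction n with
  | zero =>
    exact Groth.Agent.Lib.Helper23.AmpleIso.isInvertible_of_iso (idealModPowZeroIso I).symm
      (Groth.Agent.Lib.Helper23.TensorUnit.isInvertible_structureModule X)
  | succ n ih =>
    exact Groth.Agent.Lib.Helper23.AmpleIso.isInvertible_of_iso (powSuccIso I hI n)
      (isInvertible_tensorMod ih hI)

end Groth.Agent.Lib.T2H9.IdealProd
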