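import Mathlib
import Groth.Prelude
import Groth.Agent.Lib.T2H5Twist
import Groth.Agent.Lib.T2H9TensorInv
import Groth.Agent.Lib.T2H6CurveSerre
import Groth.Agent.Lib.T2H6HHLin
import Groth.Agent.Lib.T2H6RankAdd
import Groth.Agent.Lib.T2H6PosI
import Groth.Agent.Lib.T2H6CurveSimple2
import Groth.Agent.Lib.T2H6PtTwistD
import Groth.Agent.Lib.Helper23TensorUnit

/-!
# Simple rank-two bundles on a curve: the degree bound for invertible subbundles (helper9)

* `exists_section_of_h1` : splitting lemma, `0 → A → E → M → 0` with `M` invertible and `H¹(A ⊗ M^∨) = 0` splits.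
* `subsingleton_h0_of_hom_eq_zero` : `Hom(M, L) = 0 ⇒ H⁰(L ⊗ M^∨) = 0`.
* `two_deg_le` : S11817.
-/

set_option autoImplicit false
set_option linter.style.haveILetI false
set_option linter.unusedSectionVars false
set_option linter.unusedVariables false
universe u

open CategoryTheory CategoryTheory.Limits AlgebraicGeometry

namespace Groth.Agent.Lib.T2H9.VBSimple

open Groth.Agent.Lib.T2H5.Twist Groth.Agent.Lib.T2H9.TensorInv Groth.Agent.Lib.T2H6.CurveSerre
  Groth.Agent.Lib.T2H6.HHLin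

variable (k : Type u) [Field k] {X : Scheme.{u}} [X.Over (Spec (CommRingCat.of k))]

/-- twisting by an invertible module is an equivalence -/
theorem isEquivalence_tr (G : X.Modules) (hG : PicF.IsInvertible G) : (tr G).IsEquivalence := by
  have h := (trEquiv (tensorInvIso G hG) (invTensorIso G hG)).isEquivalence_functor
  rwa [trEquiv_functor] at h

include k in
/-- **Splitting lemma.** A short exact sequence `0 → A → E → M → 0` with `M` invertible and
`H¹(A ⊗ M^∨) = 0` splits. -/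
theorem exists_section_of_h1 (S : ShortComplex X.Modules) (hS : S.ShortExact)
    (hM : PicF.IsInvertible S.X₃)
    (h1 : Subsingleton (Coh.HH X (CohB1.tensorMod S.X₁ (inv S.X₃)) 1)) :
    ∃ s : S.X₃ ⟶ S.X₂, s ≫ S.g = 𝟙 _ := by
  have hG : PicF.IsInvertible (inv S.X₃) := isInvertible_inv _ hM
  haveI := isEquivalence_tr (inv S.X₃) hG
  have hS' := shortExact_map_tr hG S hS
  let u : Coh.structureModule X ≅ (tr (inv S.X₃)).obj S.X₃ := (tensorInvIso S.X₃ hM).symm
  have hsurj := surjective_g (A := k) (S.map (tr (inv S.X₃))) hS' 0 h1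
  obtain ⟨x, hx⟩ := hsurj (evLin k _ u.hom)
  obtain ⟨v, hv⟩ := (bijective_evLin k ((tr (inv S.X₃)).obj S.X₂)).2 x
  have hvg : v ≫ (tr (inv S.X₃)).map S.g = u.hom := by
    apply (bijective_evLin k _).1
    change Canon.HHlin k (v ≫ (tr (inv S.X₃)).map S.g) 0 (unitClass X) = evLin k _ u.hom
    rw [HHlin_comp_apply]
    change Canon.HHlin k ((tr (inv S.X₃)).map S.g) 0 (evLin k _ v) = _
    rw [hv]
    exact hx
  refine ⟨(tr (inv S.X₃)).preimage (u.inv ≫ v), ?_⟩
  apply (tr (inv S.X₃)).map_injective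
  rw [Functor.map_comp, Functor.map_preimage, Category.assoc, hvg, Iso.inv_hom_id, CategoryTheory.Functor.map_id]


/-- a "simple" module in the abelian-sheaf form has only scalar endomorphisms -/
theorem eq_smul_of_simple (E : X.Modules)
    (hsimple : ∀ φ : E ⟶ E, ∃ c : k, (SheafOfModules.toSheaf X.ringCatSheaf).map φ =
      Coh.smulAb E (Coh.toGlobal (X ↘ Spec (CommRingCat.of k)) c)) (φ : E ⟶ E) :
    ∃ c : k, φ = c • 𝟙 E := by
  obtain ⟨c, hc⟩ := hsimple φ
  refine ⟨c, ?_⟩
  apply (SheafOfModules.toSheaf X.ringCatSheaf).map_injective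
  rw [hc, Groth.Agent.Lib.T2H6.CurveSimple2.toSheaf_map_smul_id]

include k in
/-- if `Hom(M, L) = 0` then `H⁰(L ⊗ M^∨) = 0`. -/
theorem subsingleton_h0_of_hom_eq_zero (L M : X.Modules) (hM : PicF.IsInvertible M)
    (h : ∀ φ : M ⟶ L, φ = 0) : Subsingleton (Coh.HH X (CohB1.tensorMod L (inv M)) 0) := by
  haveI := isEquivalence_tr M hM
  have hz : ∀ σ : Coh.structureModule X ⟶ CohB1.tensorMod L (inv M), σ = 0 := by
    intro σ
    apply (tr M).map_injective
    rw [Functor.map_zero]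
    let a : (tr M).obj (Coh.structureModule X) ≅ M := Groth.Agent.Lib.Helper23.TensorUnit.unitTensorIso M
    let b : (tr M).obj (CohB1.tensorMod L (inv M)) ≅ L := (trCompIsoId (invTensorIso M hM)).app L
    have h1 := h (a.inv ≫ (tr M).map σ ≫ b.hom)
    rw [Iso.inv_comp_eq, comp_zero] at h1
    exact (cancel_mono b.hom).1 (h1.trans zero_comp.symm)
  constructor
  intro a b
  obtain ⟨σ, hσ⟩ := (bijective_evLin k (CohB1.tensorMod L (inv M))).2 a
  obtain ⟨τ, hτ⟩ := (bijective_evLin k (CohB1.tensorMod L (inv M))).2 b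
  rw [← hσ, ← hτ, hz σ, hz τ]

include k in
/-- an invertible module on a scheme with `h⁰(O) = 1` is not zero. -/
theorem id_ne_zero_of_isInvertible (h0 : Module.finrank k (Coh.HH X (Coh.structureModule X) 0) = 1)
    (L : X.Modules) (hL : PicF.IsInvertible L) : 𝟙 L ≠ 0 := by
  intro h
  have h1 : 𝟙 ((tr (inv L)).obj L) = 0 := by
    rw [← CategoryTheory.Functor.map_id, h, Functor.map_zero]
  have h2 : 𝟙 (Coh.structureModule X) = 0 := by
    have e : (tr (inv L)).obj L ≅ Coh.structureModule X := tensorInvIso L hL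
    rw [← e.inv_hom_id, ← Category.id_comp e.hom, h1, zero_comp, comp_zero]
  have h3 : Subsingleton (Coh.HH X (Coh.structureModule X) 0) := by
    constructor
    intro a b
    obtain ⟨σ, hσ'⟩ := (bijective_evLin k (Coh.structureModule X)).2 a
    obtain ⟨τ, hτ'⟩ := (bijective_evLin k (Coh.structureModule X)).2 b
    have hσ : σ = 0 := by rw [← Category.id_comp σ, h2, zero_comp]
    have hτ : τ = 0 := by rw [← Category.id_comp τ, h2, zero_comp]
    rw [← hσ', ← hτ', hσ, hτ]
  rw [Module.finrank_zero_of_subsingleton] at h0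
  exact absurd h0 (by norm_num)

section main

variable [IsIntegral X] [IsProper (X ↘ Spec (CommRingCat.of k))]

omit [IsIntegral X] [IsProper (X ↘ Spec (CommRingCat.of k))] [X.Over (Spec (CommRingCat.of k))] in
theorem shortExact_cokernel {L E : X.Modules} (i : L ⟶ E) [Mono i] :
    (ShortComplex.mk i (cokernel.π i) (cokernel.condition i)).ShortExact :=
  { exact := ShortComplex.exact_of_g_is_cokernel _ (cokernelIsCokernel i)
    mono_f := ‹Mono i›
    epi_g := (inferInstance : Epi (cokernel.π i)) }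

/-- the short-exact-sequence form of the main theorem. -/
theorem two_deg_le_aux (hdim : topologicalKrullDim X = 1)
    (h0 : Module.finrank k (Coh.HH X (Coh.structureModule X) 0) = 1)
    (S : ShortComplex X.Modules) (hS : S.ShortExact)
    (hE : FlatMod.IsFinLocFreeOfRank 2 S.X₂)
    (hsimple : ∀ φ : S.X₂ ⟶ S.X₂, ∃ c : k, φ = c • 𝟙 S.X₂)
    (hL : PicF.IsInvertible S.X₁) (hq : PicF.IsInvertible S.X₃) :
    2 * Curv2.deg k X S.X₁ 1 ≤ Curv2.deg k X S.X₂ 2 + (Curv2.genus k X : ℤ) - 2 := by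
  haveI := hS.mono_f
  haveI := hS.epi_g
  have hiq : S.f ≫ S.g = 0 := S.zero
  have hLne : 𝟙 S.X₁ ≠ 0 := id_ne_zero_of_isInvertible k h0 S.X₁ hL
  have hMne : 𝟙 S.X₃ ≠ 0 := id_ne_zero_of_isInvertible k h0 S.X₃ hq
  -- Hom(M, L) = 0
  have hhom : ∀ φ : S.X₃ ⟶ S.X₁, φ = 0 := by
    intro φ
    obtain ⟨c, hc⟩ := hsimple (S.g ≫ φ ≫ S.f)
    have hsq : (S.g ≫ φ ≫ S.f) ≫ (S.g ≫ φ ≫ S.f) = 0 := by
      simp only [Category.assoc]
      rw [reassoc_of% hiq, zero_comp, comp_zero, comp_zero]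
    have hz : S.g ≫ φ ≫ S.f = 0 := by
      by_cases hc0 : c = 0
      · rw [hc, hc0, zero_smul]
      · rw [hc] at hsq
        rw [Linear.smul_comp, Linear.comp_smul, Category.id_comp, smul_smul] at hsq
        have h1 : 𝟙 S.X₂ = 0 := (smul_eq_zero.1 hsq).resolve_left (mul_ne_zero hc0 hc0)
        rw [← Category.comp_id (S.g ≫ φ ≫ S.f), h1, comp_zero]
    have h2 : φ ≫ S.f = 0 := by
      rw [← cancel_epi S.g, hz, comp_zero]
    rw [← cancel_mono S.f, h2, zero_comp]
  have hiM : PicF.IsInvertible (inv S.X₃) := isInvertible_inv S.X₃ hq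
  have hN : PicF.IsInvertible (CohB1.tensorMod S.X₁ (inv S.X₃)) :=
    Groth.Agent.Lib.Helper23.SecTw.isInvertible_tensorMod hL hiM
  have h0N : Subsingleton (Coh.HH X (CohB1.tensorMod S.X₁ (inv S.X₃)) 0) :=
    subsingleton_h0_of_hom_eq_zero k S.X₁ S.X₃ hq hhom
  have h1N : ¬ Subsingleton (Coh.HH X (CohB1.tensorMod S.X₁ (inv S.X₃)) 1) := by
    intro h1
    obtain ⟨s, hs⟩ := exists_section_of_h1 k S hS hq h1
    obtain ⟨c, hc⟩ := hsimple (S.g ≫ s)
    have h3 : S.f ≫ (S.g ≫ s) = 0 := by rw [reassoc_of% hiq, zero_comp]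
    rw [hc, Linear.comp_smul, Category.comp_id] at h3
    by_cases hc0 : c = 0
    · have h4 : S.g ≫ s = 0 := by rw [hc, hc0, zero_smul]
      have h5 : s = 0 := by rw [← cancel_epi S.g, h4, comp_zero]
      rw [h5, zero_comp] at hs
      exact hMne hs.symm
    · have h4 : S.f = 0 := (smul_eq_zero.1 h3).resolve_left hc0
      apply hLne
      rw [← cancel_mono S.f, h4, comp_zero, comp_zero]
  -- numerics
  have hcohN := Groth.Agent.Lib.T2H6.CurveDeg.isCoh_of_isInvertible _ hN
  haveI : (CohB1.tensorMod S.X₁ (inv S.X₃)).IsQuasicoherent := hcohN.1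
  have hO := Groth.Agent.Lib.T2H5.GenIsoF.isCoh_structureModule (Z := X)
  haveI : (Coh.structureModule X).IsQuasicoherent := hO.1
  have eN := Groth.Agent.Lib.T2H6.CurveRR.euler_eq_sub k hdim (CohB1.tensorMod S.X₁ (inv S.X₃))
  have eO := Groth.Agent.Lib.T2H6.CurveRR.euler_eq_sub k hdim (Coh.structureModule X)
  have f0 : Module.finrank k (Coh.HH X (CohB1.tensorMod S.X₁ (inv S.X₃)) 0) = 0 :=
    Module.finrank_zero_of_subsingleton
  haveI : Module.Finite k (Coh.HH X (CohB1.tensorMod S.X₁ (inv S.X₃)) 1) :=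
    Groth.Agent.Lib.T2H6.EulerField.finite_HH k X _ hcohN 1
  have f1 : 1 ≤ Module.finrank k (Coh.HH X (CohB1.tensorMod S.X₁ (inv S.X₃)) 1) := by
    rw [not_subsingleton_iff_nontrivial] at h1N
    exact Module.finrank_pos
  have hdN : Curv2.deg k X (CohB1.tensorMod S.X₁ (inv S.X₃)) 1 =
      Curv2.deg k X S.X₁ 1 - Curv2.deg k X S.X₃ 1 := by
    rw [Groth.Agent.Lib.T2H6.PtTwistD.deg_tensor1 k hdim S.X₁ (inv S.X₃) hL hiM,
      Groth.Agent.Lib.T2H6.PtTwistD.deg_inv k hdim S.X₃ hq]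
    ring
  have hdE := Groth.Agent.Lib.T2H6.RankAdd.deg_additive k S hS 1 2 1
    (Groth.Agent.Lib.Helper23.SecTw.isFinLocFreeOfRank_one_of_isInvertible S.X₁ hL) hE
    (Groth.Agent.Lib.Helper23.SecTw.isFinLocFreeOfRank_one_of_isInvertible S.X₃ hq)
  have hdN' : Curv2.deg k X (CohB1.tensorMod S.X₁ (inv S.X₃)) 1 =
      Curv2.euler k X (CohB1.tensorMod S.X₁ (inv S.X₃)) - Curv2.euler k X (Coh.structureModule X) := by
    unfold Curv2.deg
    simp
  have hg : (Curv2.genus k X : ℤ) = Module.finrank k (Coh.HH X (Coh.structureModule X) 1) := rfl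
  rw [h0] at eO
  rw [f0] at eN
  push_cast at eN eO
  have f1' : (1 : ℤ) ≤ Module.finrank k (Coh.HH X (CohB1.tensorMod S.X₁ (inv S.X₃)) 1) := by
    exact_mod_cast f1
  linarith

/-- **Main theorem.** On an integral proper curve with `h⁰(O) = 1`, if `E` of rank two has only scalar
endomorphisms and `L ⊆ E` is an invertible submodule with invertible quotient, then
`2 deg L ≤ deg E + g - 2`. -/
theorem two_deg_le (hdim : topologicalKrullDim X = 1)
    (h0 : Module.finrank k (Coh.HH X (Coh.structureModule X) 0) = 1)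
    (E : X.Modules) (hE : FlatMod.IsFinLocFreeOfRank 2 E)
    (hsimple : ∀ φ : E ⟶ E, ∃ c : k, φ = c • 𝟙 E)
    (L : X.Modules) (hL : PicF.IsInvertible L) (i : L ⟶ E) [Mono i]
    (hq : PicF.IsInvertible (cokernel i)) :
    2 * Curv2.deg k X L 1 ≤ Curv2.deg k X E 2 + (Curv2.genus k X : ℤ) - 2 :=
  two_deg_le_aux k hdim h0 (ShortComplex.mk i (cokernel.π i) (cokernel.condition i))
    (shortExact_cokernel i) hE hsimple hL hq

end main

end Groth.Agent.Lib.T2H9.VBSimple
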