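import Mathlib
import Groth.Prelude
import Groth.Agent.Lib.T2H9VBSimple
import Groth.Agent.Lib.T2H6CurveSatur
import Groth.Agent.Lib.T2H6CurveExt
import Groth.Agent.Lib.T2H9CurveDualC
import Groth.Agent.Lib.T2H9IdealProd

/-!
# Normalized rank-two bundles on a regular curve (helper9)

* `mono_of_ne_zero` : a nonzero map from an invertible module to a vector bundle is a monomorphism.
* `deg_le_zero_of_mono` : invertible submodules of a normalized module have degree `≤ 0`.
* `isInvertible_cokernel` : S12430.
* `h1_subsingleton_of_deg_gt` : `deg L > 2g - 2 ⇒ H¹(L) = 0` (plain form of S1532).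
* `deg_bounds` : S11347.
-/

set_option autoImplicit false
set_option linter.style.haveILetI false
set_option linter.unusedSectionVars false
set_option linter.unusedVariables false
universe u

open CategoryTheory CategoryTheory.Limits AlgebraicGeometry

namespace Groth.Agent.Lib.T2H9.VBNorm

open Groth.Agent.Lib.T2H5.Twist Groth.Agent.Lib.T2H9.TensorInv Groth.Agent.Lib.T2H6.CurveSerre
  Groth.Agent.Lib.T2H6.HHLin Groth.Agent.Lib.T2H9.VBSimple

variable (k : Type u) [Field k] {X : Scheme.{u}} [X.Over (Spec (CommRingCat.of k))]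
  [IsIntegral X] [IsProper (X ↘ Spec (CommRingCat.of k))]

include k in
/-- a nonzero map from an invertible module to a vector bundle on a regular curve is a monomorphism. -/
theorem mono_of_ne_zero (hdim : topologicalKrullDim X = 1)
    (hreg : ∀ x : X, IsRegularLocalRing (X.presheaf.stalk x)) {L E : X.Modules}
    (hL : PicF.IsInvertible L) (r : ℕ) (hE : FlatMod.IsFinLocFreeOfRank r E) (f : L ⟶ E) (hf : f ≠ 0) :
    Mono f := by
  obtain ⟨rK, rI, hK, hI, hrk, -, -⟩ := Groth.Agent.Lib.T2H6.CurveVB.ker_im_data k hdim hreg f 1 r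
    (Groth.Agent.Lib.Helper23.SecTw.isFinLocFreeOfRank_one_of_isInvertible L hL) hE
  have hrI : rI ≠ 0 := by
    intro h
    subst h
    apply hf
    rw [← Abelian.image.fac f]
    have hz := Groth.Agent.Lib.T2H6.CurveVB.isZero_of_rank_zero _ hI
    rw [hz.eq_of_tgt (Abelian.factorThruImage f) 0, zero_comp]
  have hrK : rK = 0 := by omega
  subst hrK
  exact Preadditive.mono_of_isZero_kernel f (Groth.Agent.Lib.T2H6.CurveVB.isZero_of_rank_zero _ hK)

/-- invertible submodules of a normalized module have degree `≤ 0`. -/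
theorem deg_le_zero_of_mono (hdim : topologicalKrullDim X = 1)
    (h0 : Module.finrank k (Coh.HH X (Coh.structureModule X) 0) = 1)
    (E : X.Modules)
    (hneg : ∀ M : X.Modules, PicF.IsInvertible M → Curv2.deg k X M 1 < 0 →
      Subsingleton (Coh.HH X (CohB1.tensorMod E M) 0))
    (L : X.Modules) (hL : PicF.IsInvertible L) (i : L ⟶ E) [Mono i] :
    Curv2.deg k X L 1 ≤ 0 := by
  by_contra hpos
  rw [not_le] at hpos
  have hiL := isInvertible_inv L hL
  have hdeg : Curv2.deg k X (inv L) 1 < 0 := by
    rw [Groth.Agent.Lib.T2H6.PtTwistD.deg_inv k hdim L hL]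
    linarith
  have hsub : Subsingleton (Coh.HH X ((tr (inv L)).obj E) 0) := hneg (inv L) hiL hdeg
  let u : Coh.structureModule X ≅ (tr (inv L)).obj L := (tensorInvIso L hL).symm
  have hσ : u.hom ≫ (tr (inv L)).map i = 0 := by
    apply (bijective_evLin k ((tr (inv L)).obj E)).1
    exact Subsingleton.elim _ _
  haveI := preservesFiniteLimits_tr hiL
  haveI : Mono ((tr (inv L)).map i) := inferInstance
  have hu : u.hom = 0 := by
    rw [← cancel_mono ((tr (inv L)).map i), hσ, zero_comp]
  have hO : 𝟙 (Coh.structureModule X) = 0 := by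
    rw [← u.hom_inv_id, hu, zero_comp]
  exact id_ne_zero_of_isInvertible k h0 (Coh.structureModule X)
    (Groth.Agent.Lib.Helper23.TensorUnit.isInvertible_structureModule X) hO

/-- **S12430.** the cokernel of a nonzero section of a normalized rank-two bundle is invertible. -/
theorem isInvertible_cokernel (hdim : topologicalKrullDim X = 1)
    (hreg : ∀ x : X, IsRegularLocalRing (X.presheaf.stalk x))
    (h0 : Module.finrank k (Coh.HH X (Coh.structureModule X) 0) = 1)
    (E : X.Modules) (hE : FlatMod.IsFinLocFreeOfRank 2 E)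
    (hneg : ∀ M : X.Modules, PicF.IsInvertible M → Curv2.deg k X M 1 < 0 →
      Subsingleton (Coh.HH X (CohB1.tensorMod E M) 0))
    (s : Coh.structureModule X ⟶ E) (hs : s ≠ 0) :
    PicF.IsInvertible (cokernel s) := by
  have hO := Groth.Agent.Lib.Helper23.TensorUnit.isInvertible_structureModule X
  have hO1 := Groth.Agent.Lib.Helper23.SecTw.isFinLocFreeOfRank_one_of_isInvertible _ hO
  haveI := mono_of_ne_zero k hdim hreg hO 2 hE s hs
  obtain ⟨I', i', j, hi', hji, -, hI', hcok, hdeg, hiso⟩ :=
    Groth.Agent.Lib.T2H6.CurveSatur.exists_saturation k hdim hreg s 1 2 hO1 hE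
  haveI := hi'
  have hI'inv : PicF.IsInvertible I' := Groth.Agent.Lib.T2H6.CurveExt.isInvertible_of_rank_one I' hI'
  have hle := deg_le_zero_of_mono k hdim h0 E hneg I' hI'inv i'
  rw [Groth.Agent.Lib.T2H6.CurveDeg.deg_structureModule] at hdeg hiso
  haveI : IsIso j := hiso (le_antisymm hdeg hle)
  have e : cokernel s ≅ cokernel i' :=
    cokernelIsoOfEq hji.symm ≪≫ cokernelEpiComp j i'
  have h1 : FlatMod.IsFinLocFreeOfRank 1 (cokernel s) :=
    Groth.Agent.Lib.Helper26.ModRank.isFinLocFreeOfRank_of_iso e.symm hcok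
  exact Groth.Agent.Lib.T2H6.CurveExt.isInvertible_of_rank_one _ h1

end Groth.Agent.Lib.T2H9.VBNorm
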