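import Mathlib
import Groth.Prelude
import Groth.Agent.Lib.T2H9VBNorm
import Groth.Agent.Lib.T2H5Chevalley
import Groth.Agent.Lib.T2H5GenIsoA

/-!
# Degree bounds for normalized indecomposable rank-two bundles (helper9)

* `h1_subsingleton_of_deg_gt` : `deg L > 2g - 2 ⇒ H¹(L) = 0` (plain form of S1532).
* `exists_iso_biprod_of_h1` : an extension of an invertible `M` by `A` with `H¹(A ⊗ M^∨) = 0` is `A ⊕ M`.
* `deg_bounds` : S11347.
-/

set_option autoImplicit false
set_option linter.style.haveILetI false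
set_option linter.unusedSectionVars false
set_option linter.unusedVariables false
universe u

open CategoryTheory CategoryTheory.Limits AlgebraicGeometry

namespace Groth.Agent.Lib.T2H9.VBNorm

open Groth.Agent.Lib.T2H5.Twist Groth.Agent.Lib.T2H9.TensorInv Groth.Agent.Lib.T2H6.CurveSerre
  Groth.Agent.Lib.T2H6.HHLin Groth.Agent.Lib.T2H9.VBSimple Groth.Agent.Lib.T2H6.AmpleCrit

variable (k : Type u) [Field k] {X : Scheme.{u}} [X.Over (Spec (CommRingCat.of k))]

omit [X.Over (Spec (CommRingCat.of k))] in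
theorem isZero_quotMod_top : IsZero (ClSub.quotMod (⊤ : X.IdealSheafData)) := by
  have hS := idealSC_shortExact (⊤ : X.IdealSheafData)
  haveI : IsIso (idealSC (⊤ : X.IdealSheafData)).f :=
    Groth.Agent.Lib.T2H9.IdealProd.isIso_idealModι_top (X := X)
  haveI := hS.epi_g
  have hg : (idealSC (⊤ : X.IdealSheafData)).g = 0 := by
    rw [← cancel_epi (idealSC (⊤ : X.IdealSheafData)).f, (idealSC (⊤ : X.IdealSheafData)).zero,
      comp_zero]
  have h1 : 𝟙 (idealSC (⊤ : X.IdealSheafData)).X₃ = 0 := by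
    rw [← cancel_epi (idealSC (⊤ : X.IdealSheafData)).g, hg, zero_comp, zero_comp]
  exact (IsZero.iff_id_eq_zero _).2 h1

include k in
/-- an extension of an invertible `M` by `A` with `H¹(A ⊗ M^∨) = 0` is isomorphic to `A ⊕ M`. -/
theorem exists_iso_biprod_of_h1 (S : ShortComplex X.Modules) (hS : S.ShortExact)
    (hM : PicF.IsInvertible S.X₃)
    (h1 : Subsingleton (Coh.HH X (CohB1.tensorMod S.X₁ (inv S.X₃)) 1)) :
    Nonempty (S.X₂ ≅ S.X₁ ⊞ S.X₃) := by
  obtain ⟨t, ht⟩ := exists_section_of_h1 k S hS hM h1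
  exact ⟨(ShortComplex.Splitting.ofExactOfSection S hS.exact t ht hS.mono_f).isoBinaryBiproduct⟩

variable [IsIntegral X] [IsProper (X ↘ Spec (CommRingCat.of k))]

/-- `deg L > 2g - 2 ⇒ H¹(L) = 0`. -/
theorem h1_subsingleton_of_deg_gt (hdim : topologicalKrullDim X = 1)
    (h0 : Module.finrank k (Coh.HH X (Coh.structureModule X) 0) = 1)
    (L : X.Modules) (hL : PicF.IsInvertible L)
    (hdeg : 2 * (Curv2.genus k X : ℤ) - 2 < Curv2.deg k X L 1) :
    Subsingleton (Coh.HH X L 1) := by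
  have hz := isZero_quotMod_top (X := X)
  have hq0 : Module.finrank k (Coh.HH X (ClSub.quotMod (⊤ : X.IdealSheafData)) 0) = 0 := by
    haveI := Groth.Agent.Lib.T2H5.Chevalley.subsingleton_HH_of_isZero hz 0
    exact Module.finrank_zero_of_subsingleton
  have hη : genericPoint X ∉ ((⊤ : X.IdealSheafData).support : Set X) := by
    rw [Scheme.IdealSheafData.support_top]
    exact fun h => h
  have h := (Groth.Agent.Lib.T2H9.CurveDual.h1_subsingleton_of_deg_gt k hdim h0 L hL ⊤ hη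
    (by rw [hq0]; push_cast; linarith)).1
  let e : (tr L).obj (ClSub.idealMod (⊤ : X.IdealSheafData)) ≅ L :=
    (tr L).mapIso Groth.Agent.Lib.T2H9.IdealProd.idealModTopIso ≪≫
      Groth.Agent.Lib.Helper23.TensorUnit.unitTensorIso L
  exact (Groth.Agent.Lib.T2H6.FieldBC.subsingleton_HH_iff_of_iso k X e 1).1 h

/-- **S11347.** degree bounds for a normalized indecomposable rank-two bundle. -/
theorem deg_bounds [IsAlgClosed k] (hdim : topologicalKrullDim X = 1)
    (hreg : ∀ x : X, IsRegularLocalRing (X.presheaf.stalk x))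
    (E : X.Modules) (hE : FlatMod.IsFinLocFreeOfRank 2 E)
    (hn0 : Nontrivial (Coh.HH X E 0))
    (hneg : ∀ M : X.Modules, PicF.IsInvertible M → Curv2.deg k X M 1 < 0 →
      Subsingleton (Coh.HH X (CohB1.tensorMod E M) 0))
    (hind : ∀ L₁ L₂ : X.Modules, PicF.IsInvertible L₁ → PicF.IsInvertible L₂ → IsEmpty (E ≅ L₁ ⊞ L₂)) :
    2 - 2 * (Curv2.genus k X : ℤ) ≤ Curv2.deg k X E 2 ∧
      Curv2.deg k X E 2 ≤ 2 * (Curv2.genus k X : ℤ) := by
  have h0 := Groth.Agent.Lib.T2H6.PosI.finrank_HH_zero_structureModule k X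
  have hO := Groth.Agent.Lib.Helper23.TensorUnit.isInvertible_structureModule X
  have hO1 := Groth.Agent.Lib.Helper23.SecTw.isFinLocFreeOfRank_one_of_isInvertible _ hO
  haveI : IsLocallyNoetherian X := Groth.Agent.Lib.T2H6.CurveDeg.isLocallyNoetherian k
  -- a nonzero section
  obtain ⟨x, hx⟩ := exists_ne (0 : Coh.HH X E 0)
  obtain ⟨s, hsx⟩ := (bijective_evLin k E).2 x
  have hs : s ≠ 0 := by
    intro h
    rw [h, map_zero] at hsx
    exact hx hsx.symm
  haveI := mono_of_ne_zero k hdim hreg hO 2 hE s hs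
  have hM : PicF.IsInvertible (cokernel s) := isInvertible_cokernel k hdim hreg h0 E hE hneg s hs
  have hS := shortExact_cokernel s
  obtain ⟨S, hSdef⟩ : ∃ S : ShortComplex X.Modules,
      S = ShortComplex.mk s (cokernel.π s) (cokernel.condition s) := ⟨_, rfl⟩
  rw [← hSdef] at hS
  have hX1 : S.X₁ = Coh.structureModule X := by rw [hSdef]
  have hX2 : S.X₂ = E := by rw [hSdef]
  have hM' : PicF.IsInvertible S.X₃ := by rw [hSdef]; exact hM
  have hM1 := Groth.Agent.Lib.Helper23.SecTw.isFinLocFreeOfRank_one_of_isInvertible _ hM'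
  have hdE : Curv2.deg k X E 2 = Curv2.deg k X S.X₃ 1 := by
    have h := Groth.Agent.Lib.T2H6.RankAdd.deg_additive k S hS 1 2 1 (by rw [hX1]; exact hO1)
      (by rw [hX2]; exact hE) hM1
    rw [hSdef] at h ⊢
    rw [Groth.Agent.Lib.T2H6.CurveDeg.deg_structureModule, zero_add] at h
    exact h
  rw [hdE]
  constructor
  · -- lower bound
    by_contra hlt
    rw [not_le] at hlt
    have hiM := isInvertible_inv S.X₃ hM'
    have hd : 2 * (Curv2.genus k X : ℤ) - 2 < Curv2.deg k X (inv S.X₃) 1 := by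
      rw [Groth.Agent.Lib.T2H6.PtTwistD.deg_inv k hdim _ hM']
      linarith
    have h1 := h1_subsingleton_of_deg_gt k hdim h0 (inv S.X₃) hiM hd
    have h1' : Subsingleton (Coh.HH X (CohB1.tensorMod S.X₁ (inv S.X₃)) 1) := by
      have e : (tr (inv S.X₃)).obj (Coh.structureModule X) ≅ inv S.X₃ :=
        Groth.Agent.Lib.Helper23.TensorUnit.unitTensorIso (inv S.X₃)
      rw [hX1]
      exact (Groth.Agent.Lib.T2H6.FieldBC.subsingleton_HH_iff_of_iso k X e 1).2 h1
    obtain ⟨e⟩ := exists_iso_biprod_of_h1 k S hS hM' h1'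
    subst hSdef
    exact (hind _ _ hO hM).false e
  · -- upper bound
    obtain ⟨L₀, hL₀, hd1⟩ := Groth.Agent.Lib.T2H6.PtTwistD.exists_deg_one k hdim (X := X)
    have hN := isInvertible_inv L₀ hL₀
    have hdN : Curv2.deg k X (inv L₀) 1 = -1 := by
      rw [Groth.Agent.Lib.T2H6.PtTwistD.deg_inv k hdim _ hL₀, hd1]
    have hsub : Subsingleton (Coh.HH X ((tr (inv L₀)).obj E) 0) := hneg (inv L₀) hN (by rw [hdN]; norm_num)
    have hS' := shortExact_map_tr hN S hS
    have hi1 : PicF.IsInvertible ((tr (inv L₀)).obj S.X₁) := by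
      rw [hX1]
      exact Groth.Agent.Lib.Helper23.SecTw.isInvertible_tensorMod hO hN
    have hi3 : PicF.IsInvertible ((tr (inv L₀)).obj S.X₃) :=
      Groth.Agent.Lib.Helper23.SecTw.isInvertible_tensorMod hM' hN
    have hc1 := Groth.Agent.Lib.T2H6.CurveDeg.isCoh_of_isInvertible _ hi1
    have hc3 := Groth.Agent.Lib.T2H6.CurveDeg.isCoh_of_isInvertible _ hi3
    have hc2 : Coh.IsCoh ((tr (inv L₀)).obj S.X₂) :=
      Groth.Agent.Lib.T2H5.GenIsoA.isCoh_of_shortExact (S.map (tr (inv L₀))) hS' hc1 hc3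
    have hadd := Groth.Agent.Lib.T2H6.EulerField.euler_additive k X (S.map (tr (inv L₀))) hS' hc1 hc2 hc3
    change Curv2.euler k X ((tr (inv L₀)).obj S.X₂) =
      Curv2.euler k X ((tr (inv L₀)).obj S.X₁) + Curv2.euler k X ((tr (inv L₀)).obj S.X₃) at hadd
    have hd1' : Curv2.deg k X ((tr (inv L₀)).obj S.X₁) 1 = -1 := by
      rw [hX1]
      change Curv2.deg k X (CohB1.tensorMod (Coh.structureModule X) (inv L₀)) 1 = -1
      rw [Groth.Agent.Lib.T2H6.PtTwistD.deg_tensor1 k hdim _ _ hO hN, hdN,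
        Groth.Agent.Lib.T2H6.CurveDeg.deg_structureModule]
      norm_num
    have hd3' : Curv2.deg k X ((tr (inv L₀)).obj S.X₃) 1 = Curv2.deg k X S.X₃ 1 - 1 := by
      change Curv2.deg k X (CohB1.tensorMod S.X₃ (inv L₀)) 1 = _
      rw [Groth.Agent.Lib.T2H6.PtTwistD.deg_tensor1 k hdim _ _ hM' hN, hdN]
      ring
    haveI := hc2.1
    have hO' := Groth.Agent.Lib.T2H5.GenIsoF.isCoh_structureModule (Z := X)
    haveI : (Coh.structureModule X).IsQuasicoherent := hO'.1
    have e2 := Groth.Agent.Lib.T2H6.CurveRR.euler_eq_sub k hdim ((tr (inv L₀)).obj S.X₂)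
    have eO := Groth.Agent.Lib.T2H6.CurveRR.euler_eq_sub k hdim (Coh.structureModule X)
    have f0 : Module.finrank k (Coh.HH X ((tr (inv L₀)).obj S.X₂) 0) = 0 := by
      rw [hX2]
      exact Module.finrank_zero_of_subsingleton
    have hg : (Curv2.genus k X : ℤ) = Module.finrank k (Coh.HH X (Coh.structureModule X) 1) := rfl
    unfold Curv2.deg at hd1' hd3'
    rw [h0] at eO
    rw [f0] at e2
    push_cast at e2 eO hd1' hd3'
    have hnn : (0 : ℤ) ≤ Module.finrank k (Coh.HH X ((tr (inv L₀)).obj S.X₂) 1) := Int.natCast_nonneg _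
    unfold Curv2.deg
    push_cast
    linarith

end Groth.Agent.Lib.T2H9.VBNorm
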