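import Mathlib
import Groth.Prelude
import Groth.Agent.Lib.T2H9VBNormB
import Groth.Agent.Lib.T2H9PtDeg
import Groth.Agent.Lib.T2H6TensorDeg
import Groth.Agent.Lib.Helper19ComplDVR

/-!
# The dualizing module of a regular proper curve is invertible of degree `2g - 2` (helper9)
-/

set_option autoImplicit false
set_option linter.style.haveILetI false
set_option linter.unusedSectionVars false
set_option linter.unusedVariables false
universe u

open CategoryTheory CategoryTheory.Limits AlgebraicGeometry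

namespace Groth.Agent.Lib.T2H9.CurveOmega

open Groth.Agent.Lib.T2H5.Twist Groth.Agent.Lib.T2H9.TensorInv Groth.Agent.Lib.T2H6.CurveSerre
  Groth.Agent.Lib.T2H6.HHLin Groth.Agent.Lib.T2H9.VBSimple Groth.Agent.Lib.T2H9.CurveDual
  Groth.Agent.Lib.T2H6.CurveSS2 Groth.Agent.Lib.T2H6.ParShA

section general

variable (k : Type u) [Field k] {X : Scheme.{u}} [X.Over (Spec (CommRingCat.of k))]

instance linear_tr (G : X.Modules) : (tr G).Linear k := ⟨fun f c => tr_map_smul' k G c f⟩

include k in
/-- `dim Hom(A ⊗ G, B ⊗ G) = dim Hom(A, B)` for `G` invertible. -/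
theorem finrank_hom_tr (G : X.Modules) (hG : PicF.IsInvertible G) (A B : X.Modules) :
    Module.finrank k ((tr G).obj A ⟶ (tr G).obj B) = Module.finrank k (A ⟶ B) := by
  haveI := isEquivalence_tr G hG
  have hb : Function.Bijective ((tr G).mapLinearMap k (X := A) (Y := B)) :=
    ⟨(tr G).map_injective, (tr G).map_surjective⟩
  exact (LinearEquiv.ofBijective _ hb).finrank_eq.symm

include k in
theorem finrank_hom_congr {A A' B B' : X.Modules} (a : A ≅ A') (b : B ≅ B') :
    Module.finrank k (A ⟶ B) = Module.finrank k (A' ⟶ B') :=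
  (Linear.homCongr k a b).finrank_eq

include k in
/-- `dim Hom(N^∨, F) = h⁰(F ⊗ N)`. -/
theorem finrank_hom_inv (N : X.Modules) (hN : PicF.IsInvertible N) (F : X.Modules) :
    Module.finrank k (inv N ⟶ F) = Module.finrank k (Coh.HH X (CohB1.tensorMod F N) 0) := by
  rw [← finrank_hom_eq k (CohB1.tensorMod F N), ← finrank_hom_tr k N hN (inv N) F]
  exact finrank_hom_congr k (invTensorIso N hN) (Iso.refl _)

end general


section curve

variable {k : Type u} [Field k] {X : Scheme.{u}} [X.Over (Spec (CommRingCat.of k))]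
  [IsProper (X ↘ Spec (CommRingCat.of k))] [IsIntegral X]
  {ω : X.Modules} {tr' : Coh.HH X ω 1 →ₗ[k] k} (hd : Canon.IsRDualOver k X 1 ω tr')

include hd in
/-- Serre duality, dimension form: `dim Hom(F, ω) = h¹(F)` for `F` coherent. -/
theorem finrank_hom_omega (F : X.Modules) (hF : Coh.IsCoh F) :
    Module.finrank k (F ⟶ ω) = Module.finrank k (Coh.HH X F 1) := by
  haveI : Module.Finite k (Coh.HH X F 1) := Groth.Agent.Lib.T2H6.EulerField.finite_HH k X F hF 1
  have e : (F ⟶ ω) ≃ₗ[k] (Coh.HH X F 1 →ₗ[k] k) :=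
    LinearEquiv.ofBijective (dualityLin ω tr' F) (hd.2 _ hF.1)
  rw [e.finrank_eq]
  exact Subspace.dual_finrank_eq

include hd in
/-- on a regular curve the dualizing module is locally free. -/
theorem isFinLocFreeOfRank_omega (hdim : topologicalKrullDim X = 1)
    (hreg : ∀ x : X, IsRegularLocalRing (X.presheaf.stalk x)) (hω : Coh.IsCoh ω) :
    FlatMod.IsFinLocFreeOfRank (grank ω) ω := by
  haveI : IsNoetherian X := Groth.Agent.Lib.T2H6.CurveSatur.isNoetherian_of_proper k
  obtain ⟨ω', π, hπ, hω'⟩ :=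
    Groth.Agent.Lib.T2H6.CurveSatur.exists_torsionFree_quotient hdim.le hreg ω hω
  haveI := hπ
  have cω' := Groth.Agent.Lib.T2H6.RankAdd.isCoh_of_isFinLocFreeOfRank _ _ hω'
  have cK : Coh.IsCoh (kernel π) := Groth.Agent.Lib.T2H5.GenIsoB.isCoh_kernel π hω cω'
  obtain ⟨S, hSdef⟩ : ∃ S : ShortComplex X.Modules,
      S = ShortComplex.mk (kernel.ι π) π (kernel.condition π) := ⟨_, rfl⟩
  have hS : S.ShortExact := by
    subst hSdef
    exact { exact := ShortComplex.exact_kernel π
            mono_f := (inferInstance : Mono (kernel.ι π))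
            epi_g := hπ }
  have hg := grank_add S hS (by subst hSdef; exact cK) (by subst hSdef; exact cω')
  subst hSdef
  change grank ω = grank (kernel π) + grank ω' at hg
  rw [grank_of_isFinLocFreeOfRank ω' _ hω'] at hg
  have hK0 : grank (kernel π) = 0 := by omega
  have hT := isTors_of_grank_eq_zero (kernel π) cK hK0
  have hz : kernel.ι π = 0 := hom_eq_zero_of_isTors hd hdim (kernel π) cK hT (kernel.ι π)
  haveI : Mono π := Preadditive.mono_of_kernel_zero hz
  haveI : IsIso π := isIso_of_mono_of_epi π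
  exact Groth.Agent.Lib.Helper26.ModRank.isFinLocFreeOfRank_of_iso (asIso π).symm hω'


attribute [local instance] Curv2.resAlgebra in
omit hd in
/-- an invertible module of positive degree on a regular proper curve over a field. -/
theorem exists_invertible_deg_pos (k : Type u) [Field k] {X : Scheme.{u}} [X.Over (Spec (CommRingCat.of k))]
    [IsProper (X ↘ Spec (CommRingCat.of k))] [IsIntegral X] (hdim : topologicalKrullDim X = 1)
    (hreg : ∀ x : X, IsRegularLocalRing (X.presheaf.stalk x)) :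
    ∃ N : X.Modules, PicF.IsInvertible N ∧ 0 < Curv2.deg k X N 1 := by
  haveI : IsNoetherian X := Groth.Agent.Lib.T2H6.CurveSatur.isNoetherian_of_proper k
  haveI : CompactSpace X := inferInstance
  obtain ⟨p, -, hp⟩ := IsClosed.exists_closed_singleton (isClosed_univ (X := X))
    ⟨Classical.arbitrary X, trivial⟩
  have hd1 := Groth.Agent.Lib.T2H9.DVRSmooth.ringKrullDim_stalk_eq_one_of_isClosed X hdim p hp
  haveI := hreg p
  obtain ⟨hdom, hdvr⟩ :=
    (Groth.Agent.Lib.Helper19.isDiscreteValuationRing_iff_regular_dim_one (X.presheaf.stalk p)).2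
      ⟨hreg p, hd1⟩
  have hI := Groth.Agent.Lib.T2H6.PtTwistD.isInvertible_idealMod_ptIdeal X hdim p hp hdvr
  refine ⟨inv _, isInvertible_inv _ hI, ?_⟩
  rw [Groth.Agent.Lib.T2H6.PtTwistD.deg_inv k hdim _ hI,
    Groth.Agent.Lib.T2H9.PtDeg.deg_idealMod_ptIdeal k p hp, neg_neg]
  haveI : Module.Finite k (X.residueField p) :=
    Groth.Agent.Lib.T2H6.ResFinite.finite_residueField k X p hp
  have : 0 < Module.finrank k (X.residueField p) := Module.finrank_pos
  exact_mod_cast this


section main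

variable (hdim : topologicalKrullDim X = 1)
  (h0 : Module.finrank k (Coh.HH X (Coh.structureModule X) 0) = 1) (hω : Coh.IsCoh ω)

omit hd in
/-- invertible modules of negative degree have no sections. -/
theorem subsingleton_h0_of_deg_neg (hdim : topologicalKrullDim X = 1) (L : X.Modules)
    (hL : PicF.IsInvertible L) (hneg : Curv2.deg k X L 1 < 0) : Subsingleton (Coh.HH X L 0) := by
  by_contra hns
  rw [not_subsingleton_iff_nontrivial] at hns
  obtain ⟨x, hx⟩ := exists_ne (0 : Coh.HH X L 0)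
  obtain ⟨s, hsx⟩ := (bijective_evLin k L).2 x
  have hs : s ≠ 0 := by
    intro h
    rw [h, map_zero] at hsx
    exact hx hsx.symm
  have := Groth.Agent.Lib.T2H6.CurveDeg.deg_nonneg k hdim L hL s hs
  linarith

include hd hdim h0 hω in
/-- `h⁰(ω ⊗ N) = deg N + g - 1` for `N` invertible of positive degree. -/
theorem finrank_h0_omega_tensor (N : X.Modules) (hN : PicF.IsInvertible N)
    (hn : 0 < Curv2.deg k X N 1) :
    (Module.finrank k (Coh.HH X (CohB1.tensorMod ω N) 0) : ℤ) =
      Curv2.deg k X N 1 + (Curv2.genus k X : ℤ) - 1 := by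
  have hiN := isInvertible_inv N hN
  have hc := Groth.Agent.Lib.T2H6.CurveDeg.isCoh_of_isInvertible _ hiN
  haveI := hc.1
  have hO := Groth.Agent.Lib.T2H5.GenIsoF.isCoh_structureModule (Z := X)
  haveI : (Coh.structureModule X).IsQuasicoherent := hO.1
  rw [← finrank_hom_inv k N hN ω, finrank_hom_omega hd (inv N) hc]
  have hdeg : Curv2.deg k X (inv N) 1 = - Curv2.deg k X N 1 :=
    Groth.Agent.Lib.T2H6.PtTwistD.deg_inv k hdim N hN
  haveI := subsingleton_h0_of_deg_neg hdim (inv N) hiN (by rw [hdeg]; linarith)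
  have e1 := Groth.Agent.Lib.T2H6.CurveRR.euler_eq_sub k hdim (inv N)
  have eO := Groth.Agent.Lib.T2H6.CurveRR.euler_eq_sub k hdim (Coh.structureModule X)
  have hg : (Curv2.genus k X : ℤ) = Module.finrank k (Coh.HH X (Coh.structureModule X) 1) := rfl
  rw [Module.finrank_zero_of_subsingleton] at e1
  rw [h0] at eO
  unfold Curv2.deg at hdeg
  push_cast at e1 eO hdeg
  unfold Curv2.deg
  push_cast
  linarith

include hd hdim h0 hω in
/-- the key inequality `ρ · n + χ(ω) ≤ n + g - 1`. -/
theorem grank_mul_deg_le (N : X.Modules) (hN : PicF.IsInvertible N)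
    (hn : 0 < Curv2.deg k X N 1) :
    (grank ω : ℤ) * Curv2.deg k X N 1 + Curv2.euler k X ω ≤
      Curv2.deg k X N 1 + (Curv2.genus k X : ℤ) - 1 := by
  have hN1 := Groth.Agent.Lib.Helper23.SecTw.isFinLocFreeOfRank_one_of_isInvertible _ hN
  have hχ := Groth.Agent.Lib.T2H6.TensorDeg.tensor_euler k hdim N 1 hN1 ω hω
  have hc := Groth.Agent.Lib.T2H6.TensorDeg.isCoh_tensor ω N hω
    (Groth.Agent.Lib.T2H6.CurveDeg.isCoh_of_isInvertible _ hN)
  haveI := hc.1
  have e1 := Groth.Agent.Lib.T2H6.CurveRR.euler_eq_sub k hdim (CohB1.tensorMod ω N)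
  have h := finrank_h0_omega_tensor hd hdim h0 hω N hN hn
  have hnn : (0 : ℤ) ≤ Module.finrank k (Coh.HH X (CohB1.tensorMod ω N) 1) := Int.natCast_nonneg _
  push_cast at hχ
  linarith

include hd hdim h0 hω in
/-- **the dualizing module of a regular proper curve has rank one.** -/
theorem grank_omega (hreg : ∀ x : X, IsRegularLocalRing (X.presheaf.stalk x)) : grank ω = 1 := by
  obtain ⟨N₀, hN₀, hd₀⟩ := exists_invertible_deg_pos k hdim hreg (X := X)
  have hle : grank ω ≤ 1 := by
    by_contra hgt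
    rw [not_le] at hgt
    set C := (Curv2.genus k X : ℤ) - 1 - Curv2.euler k X ω with hC
    set m := C.toNat + 1 with hm
    have hNm := Groth.Agent.Lib.Helper23.SecTw.isInvertible_tensorPow hN₀ m
    have hdm : Curv2.deg k X (CohB1.tensorPow N₀ m) 1 = m * Curv2.deg k X N₀ 1 :=
      deg_tensorPow k hdim N₀ hN₀ m
    have hmpos : (0 : ℤ) < m := by rw [hm]; positivity
    have hpos : 0 < Curv2.deg k X (CohB1.tensorPow N₀ m) 1 := by
      rw [hdm]; positivity
    have key := grank_mul_deg_le hd hdim h0 hω _ hNm hpos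
    have h2 : (2 : ℤ) ≤ (grank ω : ℤ) := by exact_mod_cast hgt
    have h3 : (2 : ℤ) * Curv2.deg k X (CohB1.tensorPow N₀ m) 1 ≤
        (grank ω : ℤ) * Curv2.deg k X (CohB1.tensorPow N₀ m) 1 :=
      mul_le_mul_of_nonneg_right h2 hpos.le
    have h4 : Curv2.deg k X (CohB1.tensorPow N₀ m) 1 ≤ C := by rw [hC]; linarith
    have h5 : (m : ℤ) ≤ Curv2.deg k X (CohB1.tensorPow N₀ m) 1 := by
      rw [hdm]
      have : (1 : ℤ) ≤ Curv2.deg k X N₀ 1 := hd₀
      nlinarith
    have h6 : C < (m : ℤ) := by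
      rw [hm]
      push_cast
      have := Int.self_le_toNat C
      linarith
    linarith
  have hne : grank ω ≠ 0 := by
    intro hz
    have hlf := isFinLocFreeOfRank_omega hd hdim hreg hω
    rw [hz] at hlf
    have hzero := Groth.Agent.Lib.T2H6.CurveVB.isZero_of_rank_zero ω hlf
    have hN2 := Groth.Agent.Lib.Helper23.SecTw.isInvertible_tensorPow hN₀ 2
    have hd2 : Curv2.deg k X (CohB1.tensorPow N₀ 2) 1 = (2 : ℕ) * Curv2.deg k X N₀ 1 :=
      deg_tensorPow k hdim N₀ hN₀ 2
    have hpos2 : 0 < Curv2.deg k X (CohB1.tensorPow N₀ 2) 1 := by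
      rw [hd2]; positivity
    have h1 := finrank_h0_omega_tensor hd hdim h0 hω _ hN2 hpos2
    rw [← finrank_hom_inv k _ hN2 ω] at h1
    haveI : Subsingleton (inv (CohB1.tensorPow N₀ 2) ⟶ ω) := ⟨fun a b => hzero.eq_of_tgt a b⟩
    rw [Module.finrank_zero_of_subsingleton] at h1
    have : (0 : ℤ) ≤ (Curv2.genus k X : ℤ) := Int.natCast_nonneg _
    push_cast at h1 hd2
    have : (1 : ℤ) ≤ Curv2.deg k X N₀ 1 := hd₀
    linarith
  omega


include hd hdim h0 hω in
/-- **the dualizing module of a regular proper curve is invertible.** -/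
theorem isInvertible_omega (hreg : ∀ x : X, IsRegularLocalRing (X.presheaf.stalk x)) :
    PicF.IsInvertible ω := by
  have hlf := isFinLocFreeOfRank_omega hd hdim hreg hω
  rw [grank_omega hd hdim h0 hω hreg] at hlf
  exact Groth.Agent.Lib.T2H6.CurveExt.isInvertible_of_rank_one ω hlf

include hd in
/-- `h⁰(ω) = g`. -/
theorem finrank_h0_omega : Module.finrank k (Coh.HH X ω 0) = Curv2.genus k X := by
  rw [← finrank_hom_eq k ω]
  exact finrank_hom_structure hd

include hd hω in
/-- `h¹(ω) = h⁰(O)` when `ω` is invertible. -/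
theorem finrank_h1_omega (hinv : PicF.IsInvertible ω) :
    Module.finrank k (Coh.HH X ω 1) = Module.finrank k (Coh.HH X (Coh.structureModule X) 0) := by
  rw [← finrank_hom_omega hd ω hω, ← finrank_hom_eq k (Coh.structureModule X),
    ← finrank_hom_tr k ω hinv (Coh.structureModule X) (Coh.structureModule X)]
  exact (finrank_hom_congr k (Groth.Agent.Lib.Helper23.TensorUnit.unitTensorIso ω)
    (Groth.Agent.Lib.Helper23.TensorUnit.unitTensorIso ω)).symm

include hd hdim h0 hω in
/-- `deg ω = 2g - 2`. -/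
theorem deg_omega (hinv : PicF.IsInvertible ω) :
    Curv2.deg k X ω 1 = 2 * (Curv2.genus k X : ℤ) - 2 := by
  haveI := hω.1
  have hO := Groth.Agent.Lib.T2H5.GenIsoF.isCoh_structureModule (Z := X)
  haveI : (Coh.structureModule X).IsQuasicoherent := hO.1
  have e1 := Groth.Agent.Lib.T2H6.CurveRR.euler_eq_sub k hdim ω
  have eO := Groth.Agent.Lib.T2H6.CurveRR.euler_eq_sub k hdim (Coh.structureModule X)
  have hg : (Curv2.genus k X : ℤ) = Module.finrank k (Coh.HH X (Coh.structureModule X) 1) := rfl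
  rw [finrank_h0_omega hd, finrank_h1_omega hd hω hinv, h0] at e1
  rw [h0] at eO
  unfold Curv2.deg
  push_cast at e1 eO ⊢
  linarith

end main

end curve


section exist

variable (k : Type u) [Field k] {X : Scheme.{u}} [X.Over (Spec (CommRingCat.of k))]
  [IsProper (X ↘ Spec (CommRingCat.of k))] [IsIntegral X]

/-- **Existence of an invertible dualizing module of degree `2g - 2`** on a regular integral proper curve with
`h⁰(O) = 1`. -/
theorem exists_omega (hdim : topologicalKrullDim X = 1)
    (hreg : ∀ x : X, IsRegularLocalRing (X.presheaf.stalk x))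
    (h0 : Module.finrank k (Coh.HH X (Coh.structureModule X) 0) = 1) :
    ∃ (ω : X.Modules) (tr' : Coh.HH X ω 1 →ₗ[k] k), Canon.IsRDualOver k X 1 ω tr' ∧ Coh.IsCoh ω ∧
      PicF.IsInvertible ω ∧ Curv2.deg k X ω 1 = 2 * (Curv2.genus k X : ℤ) - 2 ∧
      Module.finrank k (Coh.HH X ω 0) = Curv2.genus k X ∧ Module.finrank k (Coh.HH X ω 1) = 1 := by
  obtain ⟨ω, tr', hω, hd⟩ := exists_dualizing k (X := X) hdim.le
  have hinv := isInvertible_omega hd hdim h0 hω hreg
  exact ⟨ω, tr', hd, hω, hinv, deg_omega hd hdim h0 hω hinv, finrank_h0_omega hd,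
    (finrank_h1_omega hd hω hinv).trans h0⟩

end exist

end Groth.Agent.Lib.T2H9.CurveOmega
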