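import Mathlib
import Groth.Prelude.Def_Curv2
import Groth.Agent.Lib.T2H9DegMorD
import Groth.Agent.Lib.T2H6TensorDegGen
import Groth.Agent.Lib.T2H6FieldBC2
import Groth.Agent.Lib.Helper4PPSch
import Groth.Agent.Lib.Helper23PB
import Groth.Agent.Lib.Helper2PullbackSec
import Groth.Agent.Lib.T2H5EulerPn

/-!
# T2H9P1IsoC (helper9): cohomology of pullbacks along isomorphisms of `k`-schemes; `O(1)` on a copy of `P^1`
-/

set_option autoImplicit false
set_option linter.style.haveILetI false
set_option linter.unusedSectionVars false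
universe u

open AlgebraicGeometry CategoryTheory Limits TopologicalSpace Opposite

namespace Groth.Agent.Lib.T2H9.P1Iso

variable (k : Type u) [Field k] {Z X : Scheme.{u}} [Z.Over (Spec (CommRingCat.of k))]
  [X.Over (Spec (CommRingCat.of k))]

/-- cohomology of the pullback along an isomorphism of `k`-schemes -/
theorem finrank_HH_pullback_of_isIso (a : Z ⟶ X) [IsIso a]
    (ha : a ≫ (X ↘ Spec (CommRingCat.of k)) = Z ↘ Spec (CommRingCat.of k))
    (N : X.Modules) [N.IsQuasicoherent] (p : ℕ) :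
    Module.finrank k (Coh.HH Z ((Scheme.Modules.pullback a).obj N) p) =
      Module.finrank k (Coh.HH X N p) := by
  haveI : ((Scheme.Modules.pullback a).obj N).IsQuasicoherent :=
    Groth.Agent.Lib.Helper2.PullbackSec.isQuasicoherent_pullback a N
  rw [← Groth.Agent.Lib.T2H6.TensorDegGen.finrank_HH_pushforward a k ha _ p]
  haveI := Groth.Agent.Lib.Helper4.PPSch.isIso_unit_app a N
  exact (Groth.Agent.Lib.T2H6.FieldBC.finrank_HH_eq_of_iso k X
    (asIso ((Scheme.Modules.pullbackPushforwardAdjunction a).unit.app N)) p).symm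

theorem euler_pullback_of_isIso (a : Z ⟶ X) [IsIso a]
    (ha : a ≫ (X ↘ Spec (CommRingCat.of k)) = Z ↘ Spec (CommRingCat.of k))
    (N : X.Modules) [N.IsQuasicoherent] :
    Curv2.euler k Z ((Scheme.Modules.pullback a).obj N) = Curv2.euler k X N := by
  unfold Curv2.euler
  refine finsum_congr fun p => ?_
  rw [finrank_HH_pullback_of_isIso k a ha N p]

theorem deg_pullback_of_isIso (a : Z ⟶ X) [IsIso a]
    (ha : a ≫ (X ↘ Spec (CommRingCat.of k)) = Z ↘ Spec (CommRingCat.of k))
    (N : X.Modules) [N.IsQuasicoherent] (n : ℕ) :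
    Curv2.deg k Z ((Scheme.Modules.pullback a).obj N) n = Curv2.deg k X N n := by
  haveI : (Coh.structureModule X).IsQuasicoherent :=
    Groth.Agent.Lib.Helper23.Serre.isQuasicoherent_structureModule' X
  unfold Curv2.deg
  rw [euler_pullback_of_isIso k a ha N,
    ← Groth.Agent.Lib.T2H6.FieldBC.euler_eq_of_iso k Z (Groth.Agent.Lib.Helper23.PB.pullbackUnitIso a),
    euler_pullback_of_isIso k a ha (Coh.structureModule X)]

/-- **S11573 (⇒)**: on a scheme isomorphic to `P^1` the pullback of `O(1)` has degree one and two sections -/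
theorem exists_invertible_of_iso (e : Z ≅ CohB1.ProjSpace 1 k)
    (he : e.hom ≫ CohB1.ProjSpace.toSpec 1 k = Z ↘ (Spec (CommRingCat.of k))) :
    ∃ L : Z.Modules, PicF.IsInvertible L ∧ Curv2.deg k Z L 1 = 1 ∧
      2 ≤ Module.finrank k (Coh.HH Z L 0) := by
  have hq : (Twist.twistProjSpace 1 k 1).IsQuasicoherent :=
    (Groth.Agent.Lib.T2H5.PnFinite.isCoh_twist 1 k 1).1
  refine ⟨(Scheme.Modules.pullback e.hom).obj (Twist.twistProjSpace 1 k 1),
    Groth.Agent.Lib.Helper23.PB.isInvertible_pullback e.hom _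
      (Groth.Agent.Lib.T2H5.Twist.isInvertible_twist 1 k 1), ?_, ?_⟩
  · rw [deg_pullback_of_isIso k e.hom he _ 1]
    exact Groth.Agent.Lib.T2H9.DegMor.deg_twist_one k
  · rw [finrank_HH_pullback_of_isIso k e.hom he _ 0]
    obtain ⟨l⟩ := Groth.Agent.Lib.Helper27PnSections.nonempty_linearEquiv 1 k 1
    have h1 : Module.finrank k (Coh.HH (CohB1.ProjSpace 1 k) (Twist.twistProjSpace 1 k 1) 0) = 2 := by
      have h2 := l.finrank_eq
      rw [Groth.Agent.Lib.T2H5.EulerPn.finrank_homogeneousSubmodule] at h2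
      exact h2
    rw [h1]

end Groth.Agent.Lib.T2H9.P1Iso
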