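import Mathlib

/-!
# T2H9P1Dom1 (helper9): a consequence of Lüroth's theorem

A field `K` over `k` that is strictly bigger than `k` and embeds over `k` into a field `L ≃ k(t)`
is itself isomorphic to `L` over `k`.
-/

set_option autoImplicit false
universe u

namespace Groth.Agent.Lib.T2H9.P1Dom

open IntermediateField

theorem exists_ringEquiv_of_luroth {k K L : Type u} [Field k] [Field K] [Field L]
    (ιK : k →+* K) (ιL : k →+* L) (φ : K →+* L) (hφ : φ.comp ιK = ιL)
    (β : L ≃+* RatFunc k) (hβ : ∀ c, β (ιL c) = algebraMap k (RatFunc k) c)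
    (hK : ¬ Function.Surjective ιK) :
    ∃ ψ : L ≃+* K, ∀ c, ψ (ιL c) = ιK c := by
  let _ : Algebra k K := ιK.toAlgebra
  let _ : Algebra k L := ιL.toAlgebra
  let φ' : K →ₐ[k] L := { φ with commutes' := fun c => congrFun (congrArg DFunLike.coe hφ) c }
  let β' : L ≃ₐ[k] RatFunc k := { β with commutes' := hβ }
  let g : K →ₐ[k] RatFunc k := β'.toAlgHom.comp φ'
  let E : IntermediateField k (RatFunc k) := g.fieldRange
  have hE : E ≠ ⊥ := by
    intro h
    apply hK
    intro z
    have hz : g z ∈ E := ⟨z, rfl⟩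
    rw [h, IntermediateField.mem_bot] at hz
    obtain ⟨c, hc⟩ := hz
    refine ⟨c, ?_⟩
    apply g.injective
    exact (g.commutes c).trans hc
  let e1 : RatFunc k ≃ₐ[k] E := RatFunc.Luroth.algEquiv hE
  let e2 : K ≃ₐ[k] E := AlgEquiv.ofInjectiveField g
  let ψ : L ≃ₐ[k] K := (β'.trans e1).trans e2.symm
  exact ⟨ψ.toRingEquiv, fun c => ψ.commutes c⟩

end Groth.Agent.Lib.T2H9.P1Dom
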