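import Mathlib
import Groth.Agent.Lib.Helper4CurveRatMap

/-!
# T2H9P1Dom3 (helper9): integral schemes with valuation-ring stalks, proper over a base, with
isomorphic function fields are isomorphic
-/

set_option autoImplicit false
set_option linter.style.haveILetI false
universe u

open AlgebraicGeometry CategoryTheory

namespace Groth.Agent.Lib.T2H9.P1Dom

open Groth.Agent.Lib.Helper4.RatMapExt

theorem isDominant_fromSpecStalk_genericPoint (X : Scheme.{u}) [IsIntegral X] :
    IsDominant (X.fromSpecStalk (genericPoint X)) := by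
  constructor
  rw [DenseRange, Scheme.range_fromSpecStalk]
  intro x
  have hη : genericPoint X ∈ {y | y ⤳ genericPoint X} := specializes_rfl
  exact closure_mono (Set.singleton_subset_iff.mpr hη) (genericPoint_specializes x).mem_closure

set_option backward.isDefEq.respectTransparency false in
theorem exists_iso_of_functionField_iso {X Y S : Scheme.{u}} (p : X ⟶ S) (q : Y ⟶ S)
    [IsSeparated p] [LocallyOfFiniteType p] [IsSeparated q] [LocallyOfFiniteType q]
    (hvalp : ValuativeCriterion.Existence p) (hvalq : ValuativeCriterion.Existence q)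
    [IsIntegral X] [IsIntegral Y]
    (hX : ∀ x : X, ValuationRing (X.presheaf.stalk x))
    (hY : ∀ y : Y, ValuationRing (Y.presheaf.stalk y))
    (ψ : Y.functionField ≅ X.functionField)
    (hψ : Spec.map ψ.hom ≫ Y.fromSpecStalk (genericPoint Y) ≫ q =
      X.fromSpecStalk (genericPoint X) ≫ p) :
    ∃ e : X ≅ Y, e.hom ≫ q = p := by
  obtain ⟨u, ⟨hu1, hu, hu2⟩, -⟩ := existsUnique_of_functionField_hom p q hvalq hX ψ.hom hψ
  have hψ' : Spec.map ψ.inv ≫ X.fromSpecStalk (genericPoint X) ≫ p =
      Y.fromSpecStalk (genericPoint Y) ≫ q := by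
    rw [← hψ, ← Category.assoc, ← Spec.map_comp, ψ.hom_inv_id, Spec.map_id, Category.id_comp]
  obtain ⟨v, ⟨hv1, hv, hv2⟩, -⟩ := existsUnique_of_functionField_hom q p hvalp hY ψ.inv hψ'
  have hu3 : X.fromSpecStalk (genericPoint X) ≫ u =
      Spec.map ψ.hom ≫ Y.fromSpecStalk (genericPoint Y) := by
    rw [fromSpecStalk_genericPoint_comp u hu, hu2]
  have hv3 : Y.fromSpecStalk (genericPoint Y) ≫ v =
      Spec.map ψ.inv ≫ X.fromSpecStalk (genericPoint X) := by
    rw [fromSpecStalk_genericPoint_comp v hv, hv2]
  haveI := isDominant_fromSpecStalk_genericPoint X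
  haveI := isDominant_fromSpecStalk_genericPoint Y
  have huv : u ≫ v = 𝟙 X := by
    refine ext_of_isDominant_of_isSeparated p ?_ (X.fromSpecStalk (genericPoint X)) ?_
    · rw [Category.assoc, hv1, hu1, Category.id_comp]
    · rw [← Category.assoc, hu3, Category.assoc, hv3, ← Category.assoc, ← Spec.map_comp,
        ψ.inv_hom_id, Spec.map_id, Category.id_comp, Category.comp_id]
  have hvu : v ≫ u = 𝟙 Y := by
    refine ext_of_isDominant_of_isSeparated q ?_ (Y.fromSpecStalk (genericPoint Y)) ?_
    · rw [Category.assoc, hu1, hv1, Category.id_comp]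
    · rw [← Category.assoc, hv3, Category.assoc, hu3, ← Category.assoc, ← Spec.map_comp,
        ψ.hom_inv_id, Spec.map_id, Category.id_comp, Category.comp_id]
  exact ⟨⟨u, v, huv, hvu⟩, hu1⟩

end Groth.Agent.Lib.T2H9.P1Dom
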