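import Mathlib
import Groth.Prelude.Def_Pi1
import Groth.Agent.Lib.T2H9P1Dom1
import Groth.Agent.Lib.T2H9P1Dom2
import Groth.Agent.Lib.T2H9P1Dom3
import Groth.Agent.Lib.Helper4EtNormalSch
import Groth.Agent.Lib.Helper10CurveFin
import Groth.Agent.Lib.Helper4FibDimL
import Groth.Agent.Lib.Helper4BirDimOne
import Groth.Agent.S9705

/-!
# T2H9P1Dom4 (helper9): a normal curve dominated by the projective line is the projective line
-/

set_option autoImplicit false
set_option linter.style.haveILetI false
set_option linter.unusedSectionVars false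
universe u

open AlgebraicGeometry CategoryTheory TopologicalSpace

namespace Groth.Agent.Lib.T2H9.P1Dom

open Groth.Agent.Lib.Helper4.RatMapExt Groth.Agent.Lib

section Top

attribute [local instance] specializationOrder

theorem exists_specializes_of_dim_one {X : Type*} [TopologicalSpace X] [QuasiSober X] [T0Space X]
    (h : topologicalKrullDim X = 1) : ∃ a b : X, b ⤳ a ∧ ¬ a ⤳ b := by
  have h1 : (1 : WithBot ℕ∞) ≤ topologicalKrullDim X := h.ge
  rw [Helper7.topologicalKrullDim_eq_krullDim_points, Order.one_le_krullDim_iff] at h1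
  obtain ⟨x, y, hxy⟩ := h1
  rw [lt_iff_le_not_ge] at hxy
  exact ⟨x, y, hxy.1, hxy.2⟩

end Top

section Integral

variable (k : Type u) [Field k] {X : Scheme.{u}} (p : X ⟶ Spec (CommRingCat.of k))
  [LocallyOfFiniteType p] [QuasiCompact p]

include p in
theorem isIntegral_of_normal [ConnectedSpace X] (hN : Pi1.IsNormalScheme X) : IsIntegral X := by
  haveI : IsLocallyNoetherian X := LocallyOfFiniteType.isLocallyNoetherian p
  haveI : CompactSpace X := QuasiCompact.compactSpace_of_compactSpace p
  haveI : IsNoetherian X := ⟨⟩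
  have hfin : (irreducibleComponents X).Finite := NoetherianSpace.finite_irreducibleComponents
  haveI : IrreducibleSpace X :=
    Groth.Agent.Lib.Helper4.EtNormalSch.irreducibleSpace_of_connected (fun x => (hN x).1) hfin
  haveI : ∀ x : X, _root_.IsReduced (X.presheaf.stalk x) := fun x => by
    haveI := (hN x).1
    infer_instance
  haveI : IsReduced X := isReduced_of_isReduced_stalk X
  exact isIntegral_of_irreducibleSpace_of_isReduced X

end Integral

section Main

variable (k : Type u) [Field k] {X : Scheme.{u}} (p : X ⟶ Spec (CommRingCat.of k))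
  [IsSeparated p] [LocallyOfFiniteType p] [QuasiCompact p] [IsIntegral X]
  (hdim : topologicalKrullDim X = 1)
  (f : CohB1.ProjSpace 1 k ⟶ X) (hf : f ≫ p = CohB1.ProjSpace.toSpec 1 k)
  (hnc : ∃ a b : ↥(CohB1.ProjSpace 1 k), f.base a ≠ f.base b)

open Groth.Agent.Lib.T2H6.PnIntegral

include hdim hnc in
theorem map_genericPoint : f (genericPoint (CohB1.ProjSpace 1 k)) = genericPoint X := by
  rcases Groth.Agent.Lib.Helper10.CurveFin.forall_of_topologicalKrullDim_le_one hdim.le
    (f (genericPoint (CohB1.ProjSpace 1 k))) with h | h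
  · exfalso
    obtain ⟨a, b, hab⟩ := hnc
    have key : ∀ a, f a = f (genericPoint (CohB1.ProjSpace 1 k)) := fun a => by
      have h1 : f (genericPoint (CohB1.ProjSpace 1 k)) ⤳ f a :=
        (genericPoint_specializes a).map f.continuous
      exact ((h _ h1).antisymm h1).eq
    exact hab ((key a).trans (key b).symm)
  · have h1 : genericPoint X ⤳ f (genericPoint (CohB1.ProjSpace 1 k)) := genericPoint_specializes _
    exact ((h _ h1).antisymm h1).eq

include hdim hnc hf in
theorem surjective_of : Function.Surjective f := by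
  haveI : IsProper (f ≫ p) := hf ▸ Groth.Agent.S9705.isProper_projSpace_toSpec 1 k
  haveI : UniversallyClosed f := UniversallyClosed.of_comp_of_isSeparated f p
  have hcl : IsClosed (Set.range f) := f.isClosedMap.isClosed_range
  intro y
  exact (genericPoint_specializes y).mem_closed hcl ⟨_, map_genericPoint k hdim f hnc⟩

include hdim in
theorem ffStr_not_surjective : ¬ Function.Surjective (ffStr p).hom := by
  intro hs
  obtain ⟨a, b, hba, hab⟩ := exists_specializes_of_dim_one hdim
  let ιa : CommRingCat.of k ⟶ X.presheaf.stalk a := Spec.preimage (X.fromSpecStalk a ≫ p)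
  have h1 : ffStr p = ιa ≫ X.presheaf.stalkSpecializes (genericPoint_specializes a) := by
    apply Spec.map_injective
    rw [SpecMap_ffStr, Spec.map_comp, Spec.map_preimage, ← Category.assoc,
      Scheme.SpecMap_stalkSpecializes_fromSpecStalk]
  have hinj : Function.Injective (X.presheaf.stalkSpecializes (genericPoint_specializes a)) :=
    IsFractionRing.injective (X.presheaf.stalk a) X.functionField
  have hsurj : Function.Surjective ιa.hom := by
    intro s
    obtain ⟨c, hc⟩ := hs (X.presheaf.stalkSpecializes (genericPoint_specializes a) s)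
    refine ⟨c, hinj ?_⟩
    rw [← hc, h1]
    rfl
  have hF : IsField (X.presheaf.stalk a) :=
    MulEquiv.isField (Field.toIsField k)
      (RingEquiv.ofBijective ιa.hom ⟨ιa.hom.injective, hsurj⟩).symm.toMulEquiv
  have hsub : Subsingleton (PrimeSpectrum (X.presheaf.stalk a)) :=
    PrimeSpectrum.subsingleton_iff_isField_of_isReduced.mpr hF
  have ha : a ∈ Set.range (X.fromSpecStalk a) := by
    rw [Scheme.range_fromSpecStalk]; exact specializes_rfl
  have hb : b ∈ Set.range (X.fromSpecStalk a) := by
    rw [Scheme.range_fromSpecStalk]; exact hba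
  obtain ⟨P, hP⟩ := ha
  obtain ⟨Q, hQ⟩ := hb
  have hPQ : P = Q := hsub.elim P Q
  apply hab
  rw [← hP, ← hQ, hPQ]

end Main

open Groth.Agent.Lib.T2H6.PnIntegral in
set_option backward.isDefEq.respectTransparency false in
theorem main (k : Type u) [Field k] {X : Scheme.{u}}
    (p : X ⟶ Spec (CommRingCat.of k)) [IsSeparated p] [LocallyOfFiniteType p] [QuasiCompact p]
    [ConnectedSpace X] (hN : Pi1.IsNormalScheme X) (hdim : topologicalKrullDim X = 1)
    (f : CohB1.ProjSpace 1 k ⟶ X) (hf : f ≫ p = CohB1.ProjSpace.toSpec 1 k)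
    (hnc : ∃ a b : ↥(CohB1.ProjSpace 1 k), f.base a ≠ f.base b) :
    ∃ e : X ≅ CohB1.ProjSpace 1 k, e.hom ≫ CohB1.ProjSpace.toSpec 1 k = p := by
  haveI := isIntegral_of_normal k p hN
  have hη := map_genericPoint k hdim f hnc
  have hsurj := surjective_of k p hdim f hf hnc
  haveI : Surjective f := ⟨hsurj⟩
  haveI hprop : IsProper (CohB1.ProjSpace.toSpec 1 k) :=
    Groth.Agent.S9705.isProper_projSpace_toSpec 1 k
  haveI : UniversallyClosed (f ≫ p) := hf ▸ inferInstance
  haveI : UniversallyClosed p := UniversallyClosed.of_comp_surjective f p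
  have hvalp : ValuativeCriterion.Existence p := by
    have h1 : UniversallyClosed p := inferInstance
    rw [UniversallyClosed.eq_valuativeCriterion] at h1
    exact h1.1
  have hvalq : ValuativeCriterion.Existence (CohB1.ProjSpace.toSpec 1 k) := by
    have h1 : UniversallyClosed (CohB1.ProjSpace.toSpec 1 k) := inferInstance
    rw [UniversallyClosed.eq_valuativeCriterion] at h1
    exact h1.1
  haveI : IsLocallyNoetherian X := LocallyOfFiniteType.isLocallyNoetherian p
  have hX : ∀ x : X, ValuationRing (X.presheaf.stalk x) := fun x => by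
    haveI := (hN x).2
    exact Groth.Agent.Lib.Helper4.BirLocalIso.valuationRing_of_normal_dim_le_one _
      ((Groth.Agent.Lib.Helper4.FibDim.ringKrullDim_stalk_le_topologicalKrullDim X x).trans hdim.le)
  have hY := valuationRing_stalk_P1 k
  let φ : X.functionField ⟶ (CohB1.ProjSpace 1 k).functionField :=
    X.presheaf.stalkSpecializes (specializes_of_eq hη) ≫
      f.stalkMap (genericPoint (CohB1.ProjSpace 1 k))
  have hφ1 : (CohB1.ProjSpace 1 k).fromSpecStalk (genericPoint (CohB1.ProjSpace 1 k)) ≫ f =
      Spec.map φ ≫ X.fromSpecStalk (genericPoint X) := fromSpecStalk_genericPoint_comp f hη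
  have hφ : ffStr p ≫ φ = ffStr (CohB1.ProjSpace.toSpec 1 k) := by
    apply Spec.map_injective
    rw [Spec.map_comp, SpecMap_ffStr, SpecMap_ffStr, ← Category.assoc, ← hφ1, Category.assoc, hf]
  obtain ⟨β, hβ⟩ := exists_ringEquiv_functionField_P1 k
  obtain ⟨ψ, hψ⟩ := exists_ringEquiv_of_luroth (ffStr p).hom
    (ffStr (CohB1.ProjSpace.toSpec 1 k)).hom φ.hom (by rw [← CommRingCat.hom_comp, hφ]) β hβ
    (ffStr_not_surjective k p hdim)
  let ψ' : (CohB1.ProjSpace 1 k).functionField ≅ X.functionField := ψ.toCommRingCatIso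
  have hψ' : Spec.map ψ'.hom ≫ (CohB1.ProjSpace 1 k).fromSpecStalk
      (genericPoint (CohB1.ProjSpace 1 k)) ≫ CohB1.ProjSpace.toSpec 1 k =
      X.fromSpecStalk (genericPoint X) ≫ p := by
    rw [← SpecMap_ffStr, ← SpecMap_ffStr, ← Spec.map_comp]
    congr 1
    ext c
    exact hψ c
  exact exists_iso_of_functionField_iso p (CohB1.ProjSpace.toSpec 1 k) hvalp hvalq hX hY ψ' hψ'

end Groth.Agent.Lib.T2H9.P1Dom
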