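import Mathlib
import Groth.Prelude.Def_Curv2
import Groth.Prelude.Def_Pi1
import Groth.Agent.Lib.T2H9RatPt
import Groth.Agent.Lib.T2H6CurveLinSer2
import Groth.Agent.Lib.T2H9P1Dom4

/-!
# T2H9RatPtC (helper9): a connected normal proper curve with two distinct linearly equivalent rational points is `P^1`
-/

set_option autoImplicit false
set_option linter.style.haveILetI false
set_option linter.unusedSectionVars false
universe u

open AlgebraicGeometry CategoryTheory Limits TopologicalSpace Opposite

namespace Groth.Agent.Lib.T2H9.RatPt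

open Groth.Agent.Lib.T2H6.PtTwistA Groth.Agent.Lib.T2H5.Twist Groth.Agent.Lib.T2H9.TensorInv
  Groth.Agent.Lib.T2H5.GenIsoB Groth.Agent.Lib.T2H6.ParShA

section Dual

variable {X : Scheme.{u}}

/-- `O ⊗ N ≅ N` -/
noncomputable def unitTensorIso (N : X.Modules) : (tr N).obj (Coh.structureModule X) ≅ N :=
  (Groth.Agent.Lib.T2H6.CurveLinSer2.tlUnitIso X).app N

/-- the section of `M^∨` attached to a map `M ⟶ O` from an invertible module -/
noncomputable def dualSec {M : X.Modules} (hM : PicF.IsInvertible M) (a : M ⟶ Coh.structureModule X) :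
    Coh.structureModule X ⟶ inv M :=
  (tensorInvIso M hM).inv ≫ (tr (inv M)).map a ≫ (unitTensorIso (inv M)).hom

theorem support_cokernel_dualSec_subset {M : X.Modules} (hM : PicF.IsInvertible M)
    (a : M ⟶ Coh.structureModule X) :
    CohB1.support (cokernel (dualSec hM a)) ⊆ CohB1.support (cokernel a) := by
  haveI := preservesFiniteColimits_tr (X := X) (inv M)
  have e2 : (tr (inv M)).obj (cokernel a) ≅ cokernel ((tr (inv M)).map a) :=
    PreservesCokernel.iso (tr (inv M)) a
  have h2 : CohB1.support (cokernel ((tr (inv M)).map a)) ⊆ CohB1.support (cokernel a) := by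
    rw [← support_eq_of_iso e2]
    exact Groth.Agent.Lib.T2H5.Dim0.support_tensorMod_subset (cokernel a) (inv M)
  have e1 : cokernel (dualSec hM a) ≅ cokernel ((tr (inv M)).map a) := by
    unfold dualSec
    refine cokernelEpiComp (tensorInvIso M hM).inv _ ≪≫ ?_
    exact cokernelCompIsIso ((tr (inv M)).map a) _
  rw [support_eq_of_iso e1]
  exact h2

theorem mono_dualSec {M : X.Modules} (hM : PicF.IsInvertible M) (a : M ⟶ Coh.structureModule X)
    [Mono a] : Mono (dualSec hM a) := by
  haveI := preservesFiniteLimits_tr (isInvertible_inv M hM)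
  haveI : Mono ((tr (inv M)).map a) := inferInstance
  unfold dualSec
  have h2 : Mono ((tr (inv M)).map a ≫ (unitTensorIso (inv M)).hom) := mono_comp _ _
  exact @mono_comp _ _ _ _ _ _ inferInstance _ h2

/-- away from the support of `coker a` the section `dualSec a` generates `M^∨` -/
theorem mem_genLocus_dualSec {M : X.Modules} (hM : PicF.IsInvertible M)
    (a : M ⟶ Coh.structureModule X) [Mono a] (z : X) (hz : z ∉ CohB1.support (cokernel a)) :
    z ∈ CohB1.genLocus (inv M) (dualSec hM a) := by
  haveI := mono_dualSec hM a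
  exact Groth.Agent.Lib.T2H9.P1Iso.mem_genLocus_of_notMem_support (inv M) (isInvertible_inv M hM) _ z
    (fun h => hz (support_cokernel_dualSec_subset hM a h))

theorem support_cokernel_idealModι_subset (I : X.IdealSheafData) :
    CohB1.support (cokernel (ClSub.idealModι I)) ⊆ (I.support : Set X) := by
  have hS := Groth.Agent.Lib.T2H6.AmpleCrit.idealSC_shortExact I
  haveI := hS.epi_g
  have e : cokernel (ClSub.idealModι I) ≅ ClSub.quotMod I :=
    (colimit.isColimit _).coconePointUniqueUpToIso hS.exact.gIsCokernel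
  rw [support_eq_of_iso e]
  exact Groth.Agent.Lib.T2H6.ParShC.support_quotMod_subset I

theorem ptIdeal_congr (p q : X) (hp : IsClosed ({p} : Set X)) (hq : IsClosed ({q} : Set X))
    (h : p = q) : ptIdeal p hp = ptIdeal q hq := by
  subst h
  rfl

end Dual

section Sections

variable (k : Type u) [Field k] {X : Scheme.{u}} [X.Over (Spec (CommRingCat.of k))]
  (s : Spec (CommRingCat.of k) ⟶ X) (hs : s ≫ (X ↘ Spec (CommRingCat.of k)) = 𝟙 _)

theorem radical_ker : s.ker.radical = s.ker := by
  ext U : 2
  change (s.ker.ideal U).radical = s.ker.ideal U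
  rw [Scheme.Hom.ker_apply]
  apply Ideal.IsRadical.radical
  intro a ha
  obtain ⟨n, hn⟩ := ha
  rw [RingHom.mem_ker] at hn ⊢
  rw [map_pow] at hn
  exact IsReduced.eq_zero _ ⟨n, hn⟩

include hs in
/-- the kernel of a section is the ideal of its image point -/
theorem ker_eq_ptIdeal : s.ker = ptIdeal (pt k s) (isClosed_pt k s hs) := by
  rw [← radical_ker k s, ← Scheme.IdealSheafData.vanishingIdeal_support]
  congr 1
  apply TopologicalSpace.Closeds.ext
  rw [Scheme.Hom.support_ker, range_eq, (isClosed_pt k s hs).closure_eq]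
  rfl

include hs in
theorem coe_support_ker : (s.ker.support : Set X) = {pt k s} := by
  rw [ker_eq_ptIdeal k s hs]
  exact coe_support_ptIdeal _ _

variable (x y : Spec (CommRingCat.of k) ⟶ X) (hx : x ≫ (X ↘ Spec (CommRingCat.of k)) = 𝟙 _)
  (hy : y ≫ (X ↘ Spec (CommRingCat.of k)) = 𝟙 _)

include hx hy in
theorem eq_of_ker_eq (h : x.ker = y.ker) : x = y := by
  haveI := isClosedImmersion_of_section k x hx
  have h1 := IsClosedImmersion.lift_fac x y (le_of_eq h)
  have h2 : IsClosedImmersion.lift x y (le_of_eq h) = 𝟙 _ := by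
    have h3 := congrArg (fun f => f ≫ (X ↘ Spec (CommRingCat.of k))) h1
    simp only [Category.assoc] at h3
    rw [hx, hy, Category.comp_id] at h3
    exact h3
  rw [h2, Category.id_comp] at h1
  exact h1

end Sections

variable (k : Type u) [Field k]

/-- **S7820**: a connected normal proper curve with two distinct linearly equivalent rational points is `P^1` -/
theorem exists_iso_of_linEquiv {C : Scheme.{u}} (p : C ⟶ Spec (CommRingCat.of k))
    [IsProper p] [ConnectedSpace C] (hN : Pi1.IsNormalScheme C) (hC : topologicalKrullDim C = 1)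
    (x y : Spec (CommRingCat.of k) ⟶ C) (hx : x ≫ p = 𝟙 _) (hy : y ≫ p = 𝟙 _) (hxy : x ≠ y)
    (hlin : Nonempty (ClSub.idealMod x.ker ≅ ClSub.idealMod y.ker)) :
    ∃ e : C ≅ CohB1.ProjSpace 1 k, e.hom ≫ CohB1.ProjSpace.toSpec 1 k = p := by
  letI : C.Over (Spec (CommRingCat.of k)) := ⟨p⟩
  haveI : IsProper (C ↘ Spec (CommRingCat.of k)) := ‹IsProper p›
  haveI : IsIntegral C := Groth.Agent.Lib.T2H9.P1Dom.isIntegral_of_normal k p hN
  haveI := Groth.Agent.Lib.T2H6.CurveDeg.isLocallyNoetherian (X := C) k
  have hx' : x ≫ (C ↘ Spec (CommRingCat.of k)) = 𝟙 _ := hx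
  have hy' : y ≫ (C ↘ Spec (CommRingCat.of k)) = 𝟙 _ := hy
  have hpx := isClosed_pt k x hx'
  have hpy := isClosed_pt k y hy'
  have hkx := ker_eq_ptIdeal k x hx'
  have hky := ker_eq_ptIdeal k y hy'
  have hne : pt k x ≠ pt k y := by
    intro h
    apply hxy
    apply eq_of_ker_eq k x y hx' hy'
    rw [hkx, hky]
    exact ptIdeal_congr _ _ _ _ h
  haveI := (hN (pt k x)).2
  have hd1 := Groth.Agent.Lib.T2H9.DVRSmooth.ringKrullDim_stalk_eq_one_of_isClosed C hC _ hpx
  have hdvr := isDVR_of_normal_dim_one (C.presheaf.stalk (pt k x)) hd1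
  obtain ⟨e⟩ := hlin
  have hM : PicF.IsInvertible (ClSub.idealMod x.ker) := by
    rw [hkx]
    exact Groth.Agent.Lib.T2H6.PtTwistD.isInvertible_idealMod_ptIdeal C hC _ hpx hdvr
  have hdegM : Curv2.deg k C (ClSub.idealMod x.ker) 1 = -1 := by
    rw [hkx]
    exact Groth.Agent.Lib.T2H6.PtTwistD.deg_idealMod_ptIdeal k _ hpx (resMap_surjective k x hx')
  have hL := isInvertible_inv _ hM
  have hdeg := Groth.Agent.Lib.T2H6.PtTwistD.deg_inv k hC _ hM
  rw [hdegM, neg_neg] at hdeg
  haveI : Mono (ClSub.idealModι x.ker) := inferInstanceAs (Mono (kernel.ι _))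
  haveI : Mono (ClSub.idealModι y.ker) := inferInstanceAs (Mono (kernel.ι _))
  haveI : Mono (e.hom ≫ ClSub.idealModι y.ker) := mono_comp _ _
  refine Groth.Agent.Lib.T2H9.P1Iso.exists_iso_of_generating_pair k hC _ hL hdeg
    (dualSec hM (ClSub.idealModι x.ker)) (dualSec hM (e.hom ≫ ClSub.idealModι y.ker)) (fun z => ?_)
  by_cases hz : z = pt k x
  · right
    apply mem_genLocus_dualSec
    intro hzb
    rw [support_eq_of_iso (cokernelEpiComp e.hom (ClSub.idealModι y.ker))] at hzb
    have h1 := support_cokernel_idealModι_subset y.ker hzb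
    rw [coe_support_ker k y hy'] at h1
    exact hne (hz.symm.trans h1)
  · left
    apply mem_genLocus_dualSec
    intro hza
    have h1 := support_cokernel_idealModι_subset x.ker hza
    rw [coe_support_ker k x hx'] at h1
    exact hz h1

end Groth.Agent.Lib.T2H9.RatPt
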