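import Mathlib
import Groth.Agent.Lib.Helper6RatPt
import Groth.Agent.Lib.Helper6GenFib

/-!
# Generic smoothness (helper9)

* `genericPoint_mem_smoothLocus`: for `f : X ⟶ Y` locally of finite presentation between integral
  schemes mapping the generic point to the generic point, with `K(Y)` perfect, the generic point of
  `X` lies in the smooth locus.
* `exists_open_smooth`: hence there is a nonempty open of `X` smooth over `Y`.
* `mem_smoothLocus_of_isRegularLocalRing`: points of the generic fibre with regular local ring are
  smooth points when `K(Y)` is perfect.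
-/

set_option autoImplicit false
set_option linter.style.haveILetI false
set_option linter.unusedSectionVars false

universe u

open CategoryTheory CategoryTheory.Limits AlgebraicGeometry TopologicalSpace

namespace Groth.Agent.Lib.T2H9.GenSmooth

/-- A point of the generic fibre whose local ring is regular is a smooth point, if the function
field of the target is perfect. -/
theorem formallySmooth_stalkMap_of_isRegularLocalRing {X Y : Scheme.{u}} [IsIntegral Y]
    (f : X ⟶ Y) [LocallyOfFiniteType f] [PerfectField Y.functionField] (x : X)
    (hx : f x = genericPoint Y) [IsRegularLocalRing (X.presheaf.stalk x)] :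
    (f.stalkMap x).hom.FormallySmooth := by
  have hft := LocallyOfFiniteType.stalkMap f x
  algebraize [(f.stalkMap x).hom]
  let e : Y.presheaf.stalk (f x) ≃+* Y.functionField :=
    (Y.presheaf.stalkCongr (.of_eq hx)).commRingCatIsoToRingEquiv
  let : Field (Y.presheaf.stalk (f x)) := (e.toMulEquiv.isField (Field.toIsField _)).toField
  have : PerfectField (Y.presheaf.stalk (f x)) := PerfectField.of_ringEquiv e.symm
  exact Groth.Agent.Lib.Helper6.RatPt.formallySmooth_of_isRegularLocalRing_of_perfectField _ _

theorem mem_smoothLocus_of_isRegularLocalRing {X Y : Scheme.{u}} [IsIntegral Y]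
    (f : X ⟶ Y) [LocallyOfFinitePresentation f] [PerfectField Y.functionField] (x : X)
    (hx : f x = genericPoint Y) [IsRegularLocalRing (X.presheaf.stalk x)] :
    x ∈ f.smoothLocus :=
  formallySmooth_stalkMap_of_isRegularLocalRing f x hx

/-- The generic point of `X` is a smooth point of `f`, if `f` maps it to the generic point of `Y`
and `K(Y)` is perfect. -/
theorem genericPoint_mem_smoothLocus {X Y : Scheme.{u}} [IsIntegral X] [IsIntegral Y]
    (f : X ⟶ Y) [LocallyOfFinitePresentation f] [PerfectField Y.functionField]
    (h : f (genericPoint X) = genericPoint Y) : genericPoint X ∈ f.smoothLocus := by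
  have hft := LocallyOfFiniteType.stalkMap f (genericPoint X)
  rw [Scheme.Hom.mem_smoothLocus]
  algebraize [(f.stalkMap (genericPoint X)).hom]
  let e : Y.presheaf.stalk (f (genericPoint X)) ≃+* Y.functionField :=
    (Y.presheaf.stalkCongr (.of_eq h)).commRingCatIsoToRingEquiv
  let : Field (Y.presheaf.stalk (f (genericPoint X))) :=
    (e.toMulEquiv.isField (Field.toIsField _)).toField
  have : PerfectField (Y.presheaf.stalk (f (genericPoint X))) := PerfectField.of_ringEquiv e.symm
  let : Field (X.presheaf.stalk (genericPoint X)) :=
    inferInstanceAs (Field X.functionField)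
  exact Algebra.FormallySmooth.of_perfectField

/-- The restriction of `f` to its smooth locus is smooth. -/
theorem smooth_smoothLocus_ι_comp {X Y : Scheme.{u}} (f : X ⟶ Y) [LocallyOfFinitePresentation f] :
    Smooth (f.smoothLocus.ι ≫ f) := by
  rw [← Scheme.Hom.smoothLocus_eq_top_iff, ← Scheme.Hom.preimage_smoothLocus_eq]
  ext x
  simpa using x.2

/-- **Generic smoothness on the source.** -/
theorem exists_open_smooth {X Y : Scheme.{u}} [IsIntegral X] [IsIntegral Y]
    (f : X ⟶ Y) [LocallyOfFinitePresentation f] [PerfectField Y.functionField]
    (h : f (genericPoint X) = genericPoint Y) :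
    ∃ U : X.Opens, genericPoint X ∈ U ∧ Smooth (U.ι ≫ f) :=
  ⟨f.smoothLocus, genericPoint_mem_smoothLocus f h, smooth_smoothLocus_ι_comp f⟩

end Groth.Agent.Lib.T2H9.GenSmooth

namespace Groth.Agent.Lib.T2H9.GenSmooth

/-- a dominant morphism of irreducible schemes maps the generic point to the generic point. -/
theorem map_genericPoint_of_denseRange {X Y : Scheme.{u}} [IrreducibleSpace X] [IrreducibleSpace Y]
    (f : X ⟶ Y) (hf : DenseRange f.base) : f (genericPoint X) = genericPoint Y := by
  apply ((genericPoint_spec Y).eq _).symm
  have := (genericPoint_spec X).image f.continuous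
  rw [Set.image_univ, hf.closure_range] at this
  exact this

/-- the function field of an integral scheme over a field of characteristic zero has
characteristic zero. -/
theorem charZero_functionField (k : Type u) [Field k] [CharZero k] {Y : Scheme.{u}} [IsIntegral Y]
    (qY : Y ⟶ Spec (CommRingCat.of k)) : CharZero Y.functionField := by
  let φ : k →+* Y.functionField :=
    ((Scheme.ΓSpecIso (CommRingCat.of k)).inv ≫ qY.appTop ≫
      Y.presheaf.germ ⊤ (genericPoint Y) trivial).hom
  exact charZero_of_injective_ringHom φ.injective

/-- S10929 -/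
theorem main_S10929 (k : Type u) [Field k] [CharZero k]
    {X Y : Scheme.{u}} (qX : X ⟶ Spec (CommRingCat.of k)) (qY : Y ⟶ Spec (CommRingCat.of k))
    [LocallyOfFiniteType qX] [LocallyOfFiniteType qY]
    [IsIntegral X] [IsIntegral Y] (f : X ⟶ Y) (hf : f ≫ qY = qX) (hdom : DenseRange f.base) :
    ∃ U : X.Opens, (U : Set ↥X).Nonempty ∧ Smooth (U.ι ≫ f) := by
  haveI : IsLocallyNoetherian Y := LocallyOfFiniteType.isLocallyNoetherian qY
  haveI : LocallyOfFiniteType (f ≫ qY) := hf ▸ inferInstance
  haveI : LocallyOfFiniteType f := locallyOfFiniteType_of_comp f qY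
  haveI : LocallyOfFinitePresentation f := inferInstance
  haveI : CharZero Y.functionField := charZero_functionField k qY
  obtain ⟨U, hU, hs⟩ := exists_open_smooth f (map_genericPoint_of_denseRange f hdom)
  exact ⟨U, ⟨_, hU⟩, hs⟩

end Groth.Agent.Lib.T2H9.GenSmooth
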