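import Mathlib
import Groth.Prelude.Def_Curv2
import Groth.Prelude.Def_FDesc
import Groth.Agent.Lib.Helper6BcRed5
import Groth.Agent.Lib.Helper6OmProjJ
import Groth.Agent.Lib.Helper3Isog
import Groth.Agent.Lib.Helper12GeomRed
import Groth.Agent.Lib.Helper20SmoothDescSch
import Groth.Agent.Lib.T2H9GenSmooth
import Groth.Agent.Lib.Helper6SepCl3

/-!
# Geometric reducedness and dense smooth opens (helper9, S1549)
-/

set_option autoImplicit false
set_option linter.style.haveILetI false
set_option linter.unusedSectionVars false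
universe u
open CategoryTheory CategoryTheory.Limits AlgebraicGeometry TensorProduct

namespace Groth.Agent.Lib.T2H9.GeomRedSmooth

/-- a generic point of an irreducible component has no proper generization -/
theorem eq_of_specializes_of_isGenericPoint {T : Type*} [TopologicalSpace T] [T0Space T]
    {Z : Set T} (hZ : Z ∈ irreducibleComponents T) {η x : T} (hη : IsGenericPoint η Z)
    (h : x ⤳ η) : x = η := by
  have h1 : Z ⊆ closure {x} := by
    rw [← hη.def]
    exact closure_minimal (Set.singleton_subset_iff.mpr h.mem_closure) isClosed_closure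
  have h2 : IsIrreducible (closure ({x} : Set T)) := isIrreducible_singleton.closure
  have h3 : closure ({x} : Set T) ⊆ Z := hZ.2 h2 h1
  have h4 : IsGenericPoint x Z := (isGenericPoint_def).mpr (subset_antisymm h3 h1)
  exact h4.eq hη

open Groth.Agent.Lib.Helper6.BcBridge in
/-- a dense open of a locally Noetherian `k`-scheme contains the generic points of the
irreducible components -/
theorem mem_of_dense_of_isGenericPoint (k : Type u) [Field k] (X : Scheme.{u})
    [X.Over (Spec (CommRingCat.of k))] [IsLocallyNoetherian X] (U : X.Opens)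
    (hU : Dense (U : Set X)) {Z : Set X} (hZ : Z ∈ irreducibleComponents X) {η : X}
    (hη : IsGenericPoint η Z) : η ∈ U := by
  obtain ⟨R, _, _, ι, _, hι, z, rfl⟩ := exists_chart k X η
  haveI : IsLocallyNoetherian (Spec (CommRingCat.of R)) := isLocallyNoetherian_of_isOpenImmersion ι
  haveI : IsNoetherianRing R := (isLocallyNoetherian_Spec (R := CommRingCat.of R)).mp inferInstance
  have hmin : z.asIdeal ∈ minimalPrimes R := by
    refine ⟨⟨z.2, bot_le⟩, ?_⟩
    rintro q ⟨hq, -⟩ hqz
    have hsp : (⟨q, hq⟩ : PrimeSpectrum R) ⤳ z := (PrimeSpectrum.le_iff_specializes _ _).mp hqz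
    have h1 : ι (⟨q, hq⟩ : PrimeSpectrum R) = ι z :=
      eq_of_specializes_of_isGenericPoint hZ hη (hsp.map ι.continuous)
    have h2 : (⟨q, hq⟩ : PrimeSpectrum R) = z := ι.isOpenEmbedding.injective h1
    exact le_of_eq (congrArg PrimeSpectrum.asIdeal h2).symm
  have hd : Dense (ι ⁻¹' (U : Set X) : Set (PrimeSpectrum R)) :=
    hU.preimage ι.isOpenEmbedding.isOpenMap
  have := Groth.Agent.Lib.Helper6.OmProj.mem_of_dense_of_mem_minimalPrimes
    (A := R) ⟨ι ⁻¹' (U : Set X), (ι ⁻¹ᵁ U).2⟩ hd z.asIdeal hmin
  exact this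

variable (k : Type u) [Field k] (X : Scheme.{u}) [X.Over (Spec (CommRingCat.of k))]

/-- the smooth locus of a geometrically reduced scheme locally of finite type over a field is
dense -/
theorem dense_smoothLocus [LocallyOfFiniteType (X ↘ Spec (CommRingCat.of k))]
    [GeometricallyReduced (X ↘ Spec (CommRingCat.of k))] :
    Dense ((X ↘ Spec (CommRingCat.of k)).smoothLocus : Set X) := by
  have h1 : AlgebraicGeometry.IsReduced (pullback (X ↘ Spec (CommRingCat.of k))
      (Spec.map (CommRingCat.ofHom (algebraMap k (AlgebraicClosure k))))) :=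
    pullback_of_geometrically (GeometricallyReduced.geometrically_isReduced)
      (AlgebraicClosure k) _
  have hd := Scheme.Hom.dense_smoothLocus_of_perfectField
    (pullback.snd (X ↘ Spec (CommRingCat.of k))
      (Spec.map (CommRingCat.ofHom (algebraMap k (AlgebraicClosure k)))))
  have hsub : (pullback.fst (X ↘ Spec (CommRingCat.of k))
      (Spec.map (CommRingCat.ofHom (algebraMap k (AlgebraicClosure k))))) ''
      ((pullback.snd (X ↘ Spec (CommRingCat.of k))
        (Spec.map (CommRingCat.ofHom (algebraMap k (AlgebraicClosure k))))).smoothLocus : Set _) ⊆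
      ((X ↘ Spec (CommRingCat.of k)).smoothLocus : Set X) := by
    rintro _ ⟨w, hw, rfl⟩
    exact Groth.Agent.Lib.Helper20.FlatDesc.formallySmooth_stalkMap_of_flat_baseChange
      (X ↘ Spec (CommRingCat.of k)) _ w hw
  have hsurj : Function.Surjective (pullback.fst (X ↘ Spec (CommRingCat.of k))
      (Spec.map (CommRingCat.ofHom (algebraMap k (AlgebraicClosure k))))) :=
    Groth.Agent.Lib.Helper6.SepCl.bcFst_surjective k X (AlgebraicClosure k)
  exact (hsurj.denseRange.dense_image (Scheme.Hom.continuous _) hd).mono hsub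

/-- a reduced scheme locally of finite type over a field with a dense smooth open is
geometrically reduced -/
theorem geometricallyReduced_of_dense_smooth [AlgebraicGeometry.IsReduced X]
    [LocallyOfFiniteType (X ↘ Spec (CommRingCat.of k))] (U : X.Opens)
    (hU : Dense (U : Set X)) [Smooth (U.ι ≫ (X ↘ Spec (CommRingCat.of k)))] :
    GeometricallyReduced (X ↘ Spec (CommRingCat.of k)) := by
  haveI : IsLocallyNoetherian X :=
    LocallyOfFiniteType.isLocallyNoetherian (X ↘ Spec (CommRingCat.of k))
  apply Groth.Agent.Lib.Helper6.BcRed5.geometricallyReduced_of_generic k X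
  intro Z hZ η hη
  have hηU : η ∈ U := mem_of_dense_of_isGenericPoint k X U hU hZ hη
  have hgr : GeometricallyReduced (U.ι ≫ (X ↘ Spec (CommRingCat.of k))) :=
    Groth.Agent.Lib.Helper3.Isog.geometricallyReduced_of_smooth _
  have h1 : FBase.IsGeomReducedAt (U.ι ≫ (X ↘ Spec (CommRingCat.of k))) (⟨η, hηU⟩ : U) := by
    intro K _ _ x' _
    haveI : AlgebraicGeometry.IsReduced (FBase.bc (U.ι ≫ (X ↘ Spec (CommRingCat.of k))) K) :=
      pullback_of_geometrically (GeometricallyReduced.geometrically_isReduced) K _
    infer_instance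
  have h2 := (Groth.Agent.Lib.Helper12.GeomRed.isGeomReducedAt_iff_of_etale U.ι
    (X ↘ Spec (CommRingCat.of k)) (⟨η, hηU⟩ : U)).mp h1
  exact h2

end Groth.Agent.Lib.T2H9.GeomRedSmooth
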