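import Mathlib
import Groth.Prelude.Def_Curv2
import Groth.Agent.Lib.T2H9GeomRedSmooth
import Groth.Agent.Lib.Helper6GeomComp3
import Groth.Agent.Lib.Helper6SmRegSch
import Groth.Agent.Lib.Helper28Catenary

/-!
# A variety with a smooth rational point is geometrically integral (helper9, S7613)
-/

set_option autoImplicit false
set_option linter.style.haveILetI false
set_option linter.unusedSectionVars false
universe u
open CategoryTheory CategoryTheory.Limits AlgebraicGeometry TensorProduct

namespace Groth.Agent.Lib.T2H9.VarSmRat

variable (k : Type u) [Field k] (X : Scheme.{u}) [X.Over (Spec (CommRingCat.of k))]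

/-- the local ring at a smooth point of a scheme locally of finite type over a field is regular -/
theorem isRegularLocalRing_stalk_of_mem_smoothLocus
    [LocallyOfFiniteType (X ↘ Spec (CommRingCat.of k))] (x : X)
    (hsm : x ∈ (X ↘ Spec (CommRingCat.of k)).smoothLocus) :
    IsRegularLocalRing (X.presheaf.stalk x) := by
  haveI : IsLocallyNoetherian X :=
    LocallyOfFiniteType.isLocallyNoetherian (X ↘ Spec (CommRingCat.of k))
  haveI : LocallyOfFinitePresentation (X ↘ Spec (CommRingCat.of k)) := inferInstance
  set U := (X ↘ Spec (CommRingCat.of k)).smoothLocus with hU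
  haveI : Smooth (U.ι ≫ (X ↘ Spec (CommRingCat.of k))) :=
    Groth.Agent.Lib.T2H9.GenSmooth.smooth_smoothLocus_ι_comp _
  haveI h1 : IsRegularLocalRing (U.toScheme.presheaf.stalk ⟨x, hsm⟩) :=
    Groth.Agent.Lib.Helper6.SmRegSch.isRegularLocalRing_stalk_of_smooth_over_field k U
      (U.ι ≫ (X ↘ Spec (CommRingCat.of k))) ⟨x, hsm⟩
  exact IsRegularLocalRing.of_ringEquiv
    (asIso (U.ι.stalkMap ⟨x, hsm⟩)).commRingCatIsoToRingEquiv.symm

attribute [local instance] Curv2.resAlgebra Curv2.stalkAlgebra

/-- an integral scheme locally of finite type over a field with a smooth rational point is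
geometrically irreducible -/
theorem geometricallyIrreducible_of_smooth_rational [IsIntegral X]
    [LocallyOfFiniteType (X ↘ Spec (CommRingCat.of k))] (x : X)
    (hx : Function.Surjective (Curv2.resMap k X x))
    (hsm : x ∈ (X ↘ Spec (CommRingCat.of k)).smoothLocus) :
    GeometricallyIrreducible (X ↘ Spec (CommRingCat.of k)) := by
  rw [Groth.Agent.Lib.Helper6.GeomComp.geometricallyIrreducible_iff_sepClosed_generic k X]
  intro a ha
  haveI : IsRegularLocalRing (X.presheaf.stalk x) :=
    isRegularLocalRing_stalk_of_mem_smoothLocus k X x hsm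
  haveI : IsIntegrallyClosed (X.presheaf.stalk x) :=
    Groth.Agent.Lib.Helper28.isIntegrallyClosed_of_isRegularLocalRing _
  -- lift `a` to the function field
  let F := X.functionField
  let resF : F →ₐ[k] X.residueField (genericPoint X) :=
    { (X.residue (genericPoint X)).hom with commutes' := fun r => rfl }
  have hresF_inj : Function.Injective resF := RingHom.injective resF.toRingHom
  obtain ⟨b, hb⟩ : ∃ b : F, resF b = a := IsLocalRing.residue_surjective a
  have hbint : IsIntegral k b := by
    rw [← isIntegral_algHom_iff resF hresF_inj, hb]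
    exact ha.isIntegral
  haveI : IsScalarTower k (X.presheaf.stalk x) F := by
    apply IsScalarTower.of_algebraMap_eq'
    simp_rw [RingHom.algebraMap_toAlgebra]
    change _ = (((X.presheaf.stalkSpecializes
      ((genericPoint_spec X).specializes trivial)).hom.comp (X.presheaf.germ ⊤ x trivial).hom).comp
        (Coh.toGlobal (X ↘ Spec (CommRingCat.of k))))
    rw [← CommRingCat.hom_comp, X.presheaf.germ_stalkSpecializes]
    rfl
  have hbint' : IsIntegral (X.presheaf.stalk x) b := hbint.tower_top
  obtain ⟨c, hc⟩ := IsIntegrallyClosed.isIntegral_iff.mp hbint'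
  have hcint : IsIntegral k c := by
    rw [← isIntegral_algHom_iff (IsScalarTower.toAlgHom k (X.presheaf.stalk x) F)
      (IsFractionRing.injective (X.presheaf.stalk x) F)]
    change IsIntegral k (algebraMap (X.presheaf.stalk x) F c)
    rw [hc]
    exact hbint
  obtain ⟨t, ht⟩ := hx ((X.residue x).hom c)
  have hd : c - algebraMap k (X.presheaf.stalk x) t = 0 := by
    by_contra hd0
    have hunit : IsUnit (c - algebraMap k (X.presheaf.stalk x) t) :=
      IsIntegral.isUnit (hcint.sub isIntegral_algebraMap) hd0
    have hmem : c - algebraMap k (X.presheaf.stalk x) t ∈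
        IsLocalRing.maximalIdeal (X.presheaf.stalk x) := by
      rw [← IsLocalRing.residue_eq_zero_iff, map_sub, sub_eq_zero]
      exact ht.symm
    exact (IsLocalRing.mem_maximalIdeal _).mp hmem hunit
  rw [sub_eq_zero] at hd
  refine ⟨t, ?_⟩
  rw [← hb, ← hc, hd, ← IsScalarTower.algebraMap_apply k (X.presheaf.stalk x) F]
  exact (resF.commutes t).symm

/-- **A variety with a smooth rational point is geometrically integral.** -/
theorem geometricallyIntegral_of_smooth_rational [IsIntegral X]
    [LocallyOfFiniteType (X ↘ Spec (CommRingCat.of k))] (x : X)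
    (hx : Function.Surjective (Curv2.resMap k X x))
    (hsm : x ∈ (X ↘ Spec (CommRingCat.of k)).smoothLocus) :
    GeometricallyIntegral (X ↘ Spec (CommRingCat.of k)) := by
  haveI : IsLocallyNoetherian X :=
    LocallyOfFiniteType.isLocallyNoetherian (X ↘ Spec (CommRingCat.of k))
  haveI : LocallyOfFinitePresentation (X ↘ Spec (CommRingCat.of k)) := inferInstance
  haveI : GeometricallyIrreducible (X ↘ Spec (CommRingCat.of k)) :=
    geometricallyIrreducible_of_smooth_rational k X x hx hsm
  haveI : Smooth ((X ↘ Spec (CommRingCat.of k)).smoothLocus.ι ≫ (X ↘ Spec (CommRingCat.of k))) :=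
    Groth.Agent.Lib.T2H9.GenSmooth.smooth_smoothLocus_ι_comp _
  haveI : GeometricallyReduced (X ↘ Spec (CommRingCat.of k)) := by
    apply Groth.Agent.Lib.T2H9.GeomRedSmooth.geometricallyReduced_of_dense_smooth k X
      (X ↘ Spec (CommRingCat.of k)).smoothLocus
    exact ((X ↘ Spec (CommRingCat.of k)).smoothLocus.isOpen.dense ⟨x, hsm⟩)
  exact GeometricallyIntegral.of_geometricallyReduced_of_geometricallyIrreducible _

end Groth.Agent.Lib.T2H9.VarSmRat
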