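import Mathlib
import Groth.Prelude.Def_Curv2
import Groth.Agent.Lib.T2H9RatPtC
import Groth.Agent.Lib.T2H9PtDeg
import Groth.Agent.Lib.T2H6PtTwistE
import Groth.Agent.Lib.T2H6TensorPows
import Groth.Agent.Lib.T2H9P1IsoC
import Groth.Agent.Lib.Helper5RLR
import Groth.Agent.Lib.T2H9VarSmRat
import Groth.Agent.Lib.Helper19ComplDVR

/-!
# T2H9GenusOne (helper9): degree-zero invertible modules on a genus-one curve with a rational point
-/

set_option autoImplicit false
set_option linter.style.haveILetI false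
set_option linter.unusedSectionVars false
universe u

open AlgebraicGeometry CategoryTheory Limits TopologicalSpace Opposite

namespace Groth.Agent.Lib.T2H9.GenusOne

open Groth.Agent.Lib.T2H6.PtTwistA Groth.Agent.Lib.T2H5.Twist Groth.Agent.Lib.T2H9.TensorInv
  Groth.Agent.Lib.T2H6.TensorPows Groth.Agent.Lib.T2H9.RatPt

attribute [local instance] Curv2.resAlgebra

section Cancel

variable {X : Scheme.{u}}

/-- cancellation of an invertible tensor factor -/
theorem nonempty_iso_of_tensor_iso {A B N : X.Modules} (hN : PicF.IsInvertible N)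
    (e : CohB1.tensorMod A N ≅ CohB1.tensorMod B N) : Nonempty (A ≅ B) := by
  have eA : ∀ T : X.Modules, CohB1.tensorMod (CohB1.tensorMod T N) (inv N) ≅ T := fun T =>
    assocIso' T N (inv N) ≪≫ (trCongr (tensorInvIso N hN)).app T ≪≫ (trUnitIso (X := X)).app T
  exact ⟨(eA A).symm ≪≫ (tr (inv N)).mapIso e ≪≫ eA B⟩

end Cancel

variable (k : Type u) [Field k] {X : Scheme.{u}} [X.Over (Spec (CommRingCat.of k))]
  [IsProper (X ↘ Spec (CommRingCat.of k))] [IsIntegral X]

/-- a nonzero section of an invertible module of nonzero degree vanishes at some closed point -/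
theorem exists_closed_notMem_genLocus (hdim : topologicalKrullDim X = 1) (M : X.Modules)
    (hM : PicF.IsInvertible M) (hdeg : Curv2.deg k X M 1 ≠ 0)
    (s : Coh.structureModule X ⟶ M) :
    ∃ P : X, IsClosed ({P} : Set X) ∧ P ∉ CohB1.genLocus M s := by
  haveI : LocallyOfFiniteType (X ↘ Spec (CommRingCat.of k)) := inferInstance
  haveI : JacobsonSpace X := LocallyOfFiniteType.jacobsonSpace (X ↘ Spec (CommRingCat.of k))
  by_contra hcon
  push Not at hcon
  have htop : ⊤ ≤ CohB1.genLocus M s := by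
    intro x _
    by_contra hx
    obtain ⟨P, hP1, hP2⟩ := nonempty_inter_closedPoints
      (Z := ((CohB1.genLocus M s : X.Opens) : Set X)ᶜ) ⟨x, hx⟩
      (CohB1.genLocus M s).2.isClosed_compl.isLocallyClosed
    exact hP1 (hcon P hP2)
  haveI := Groth.Agent.Lib.T2H9.P1Iso.isIso_of_top_le_genLocus M s htop
  apply hdeg
  rw [← Groth.Agent.Lib.T2H6.PtTwistD.deg_eq_of_iso k (asIso s) 1]
  exact Groth.Agent.Lib.T2H6.CurveDeg.deg_structureModule k

/-- an invertible module of degree one with `h⁰ = 1` on a curve whose closed points are regular is `O(P)` for a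
rational point `P` -/
theorem exists_rational_point_of_deg_one (hdim : topologicalKrullDim X = 1)
    (hdvr : ∀ p : X, IsClosed ({p} : Set X) → IsDiscreteValuationRing (X.presheaf.stalk p))
    (M : X.Modules) (hM : PicF.IsInvertible M) (hdeg : Curv2.deg k X M 1 = 1)
    (h01 : Module.finrank k (Coh.HH X (CohB1.tensorMod (Coh.structureModule X) M) 0) = 1) :
    ∃ (P : X) (hP : IsClosed ({P} : Set X)), Module.finrank k (X.residueField P) = 1 ∧
      Nonempty (CohB1.tensorMod (ClSub.idealMod (ptIdeal P hP)) M ≅ Coh.structureModule X) := by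
  haveI := Groth.Agent.Lib.T2H6.CurveDeg.isLocallyNoetherian (X := X) k
  haveI : LocallyOfFiniteType (X ↘ Spec (CommRingCat.of k)) := inferInstance
  have hO := Groth.Agent.Lib.Helper23.TensorUnit.isInvertible_structureModule X
  have hOM : PicF.IsInvertible (CohB1.tensorMod (Coh.structureModule X) M) :=
    Groth.Agent.Lib.Helper23.SecTw.isInvertible_tensorMod hO hM
  have hdegOM : Curv2.deg k X (CohB1.tensorMod (Coh.structureModule X) M) 1 = 1 := by
    have e : CohB1.tensorMod (Coh.structureModule X) M ≅ M := unitTensorIso M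
    rw [Groth.Agent.Lib.T2H6.PtTwistD.deg_eq_of_iso k e 1, hdeg]
  have hnt : Nontrivial (Coh.HH X (CohB1.tensorMod (Coh.structureModule X) M) 0) :=
    Module.nontrivial_of_finrank_pos (R := k) (by rw [h01]; exact one_pos)
  obtain ⟨s₀, hs₀⟩ := Groth.Agent.Lib.T2H6.CurveRR.exists_section_ne_zero _ hnt
  obtain ⟨P, hP, hPs⟩ := exists_closed_notMem_genLocus k hdim _ hOM (by rw [hdegOM]; exact one_ne_zero) s₀
  have hstay := Groth.Agent.Lib.T2H6.PtTwistE.stay k P hP M hM h01 s₀ hs₀ hPs
  have hI := Groth.Agent.Lib.T2H6.PtTwistD.isInvertible_idealMod_ptIdeal X hdim P hP (hdvr P hP)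
  have hF : PicF.IsInvertible (CohB1.tensorMod (ClSub.idealMod (ptIdeal P hP)) M) :=
    Groth.Agent.Lib.Helper23.SecTw.isInvertible_tensorMod hI hM
  have hdegF : Curv2.deg k X (CohB1.tensorMod (ClSub.idealMod (ptIdeal P hP)) M) 1 =
      -(Module.finrank k (X.residueField P) : ℤ) + 1 := by
    rw [Groth.Agent.Lib.T2H6.PtTwistD.deg_tensor1 k hdim _ _ hI hM,
      Groth.Agent.Lib.T2H9.PtDeg.deg_idealMod_ptIdeal k P hP, hdeg]
  have hnt2 : Nontrivial (Coh.HH X (CohB1.tensorMod (ClSub.idealMod (ptIdeal P hP)) M) 0) :=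
    Module.nontrivial_of_finrank_pos (R := k) (by rw [hstay]; exact one_pos)
  obtain ⟨t, ht⟩ := Groth.Agent.Lib.T2H6.CurveRR.exists_section_ne_zero _ hnt2
  have hle := Groth.Agent.Lib.T2H6.CurveDeg.deg_le k hdim hO hF t ht
  rw [Groth.Agent.Lib.T2H6.CurveDeg.deg_structureModule, hdegF] at hle
  haveI := Groth.Agent.Lib.T2H6.ResFinite.finite_residueField k X P hP
  have hpos : 0 < Module.finrank k (X.residueField P) := Module.finrank_pos
  have h1 : Module.finrank k (X.residueField P) = 1 := by omega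
  refine ⟨P, hP, h1, ?_⟩
  have hdeg0 : Curv2.deg k X (Coh.structureModule X) 1 =
      Curv2.deg k X (CohB1.tensorMod (ClSub.idealMod (ptIdeal P hP)) M) 1 := by
    rw [Groth.Agent.Lib.T2H6.CurveDeg.deg_structureModule, hdegF, h1]
    norm_num
  haveI := Groth.Agent.Lib.T2H6.CurveDeg.isIso_of_deg_eq k hdim hO hF t ht hdeg0
  exact ⟨(asIso t).symm⟩

/-- two distinct closed points, one of them rational and regular, with isomorphic ideal sheaves force `X ≅ P^1` -/
theorem exists_iso_of_ptIdeal_iso (hdim : topologicalKrullDim X = 1) (p q : X)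
    (hp : IsClosed ({p} : Set X)) (hq : IsClosed ({q} : Set X)) (hpq : p ≠ q)
    (hrat : Function.Surjective (Curv2.resMap k X p))
    (hdvr : IsDiscreteValuationRing (X.presheaf.stalk p))
    (e : ClSub.idealMod (ptIdeal p hp) ≅ ClSub.idealMod (ptIdeal q hq)) :
    ∃ e' : X ≅ CohB1.ProjSpace 1 k,
      e'.hom ≫ CohB1.ProjSpace.toSpec 1 k = X ↘ (Spec (CommRingCat.of k)) := by
  haveI := Groth.Agent.Lib.T2H6.CurveDeg.isLocallyNoetherian (X := X) k
  have hM : PicF.IsInvertible (ClSub.idealMod (ptIdeal p hp)) :=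
    Groth.Agent.Lib.T2H6.PtTwistD.isInvertible_idealMod_ptIdeal X hdim _ hp hdvr
  have hdegM : Curv2.deg k X (ClSub.idealMod (ptIdeal p hp)) 1 = -1 :=
    Groth.Agent.Lib.T2H6.PtTwistD.deg_idealMod_ptIdeal k _ hp hrat
  have hL := isInvertible_inv _ hM
  have hdeg := Groth.Agent.Lib.T2H6.PtTwistD.deg_inv k hdim _ hM
  rw [hdegM, neg_neg] at hdeg
  haveI : Mono (ClSub.idealModι (ptIdeal p hp)) := inferInstanceAs (Mono (kernel.ι _))
  haveI : Mono (ClSub.idealModι (ptIdeal q hq)) := inferInstanceAs (Mono (kernel.ι _))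
  haveI : Mono (e.hom ≫ ClSub.idealModι (ptIdeal q hq)) := mono_comp _ _
  refine Groth.Agent.Lib.T2H9.P1Iso.exists_iso_of_generating_pair k hdim _ hL hdeg
    (dualSec hM (ClSub.idealModι (ptIdeal p hp))) (dualSec hM (e.hom ≫ ClSub.idealModι (ptIdeal q hq)))
    (fun z => ?_)
  by_cases hz : z = p
  · right
    apply mem_genLocus_dualSec
    intro hza
    rw [Groth.Agent.Lib.T2H5.GenIsoB.support_eq_of_iso
      (cokernelEpiComp e.hom (ClSub.idealModι (ptIdeal q hq)))] at hza
    have h1 := support_cokernel_idealModι_subset (ptIdeal q hq) hza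
    rw [coe_support_ptIdeal] at h1
    exact hpq (hz.symm.trans h1)
  · left
    apply mem_genLocus_dualSec
    intro hza
    have h1 := support_cokernel_idealModι_subset (ptIdeal p hp) hza
    rw [coe_support_ptIdeal] at h1
    exact hz h1

/-- an invertible module of degree one with two independent sections forces genus zero -/
theorem genus_eq_zero_of_deg_one (hdim : topologicalKrullDim X = 1)
    (h0 : Module.finrank k (Coh.HH X (Coh.structureModule X) 0) = 1)
    (L : X.Modules) (hL : PicF.IsInvertible L) (hdeg : Curv2.deg k X L 1 = 1)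
    (h2 : 2 ≤ Module.finrank k (Coh.HH X L 0)) : Curv2.genus k X = 0 := by
  have hnt : Nontrivial (Coh.HH X L 0) :=
    Module.nontrivial_of_finrank_pos (R := k) (by omega)
  obtain ⟨s, hs⟩ := Groth.Agent.Lib.T2H6.CurveRR.exists_section_ne_zero _ hnt
  obtain ⟨hle, heq⟩ := Groth.Agent.Lib.T2H6.CurveLinSer.h0_le k hdim h0 L hL s hs
  rw [hdeg] at hle heq
  have h3 : (Module.finrank k (Coh.HH X L 0) : ℤ) = 1 + 1 := by
    have : (2 : ℤ) ≤ (Module.finrank k (Coh.HH X L 0) : ℤ) := by exact_mod_cast h2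
    linarith
  exact Groth.Agent.Lib.T2H6.CurveLinSer2.genus_eq_zero k hdim L hL s hs (heq h3)
    (by rw [hdeg]; exact one_pos)

/-- **S14341** (integral form) -/
theorem existsUnique_point (hdim : topologicalKrullDim X = 1)
    (h0 : Module.finrank k (Coh.HH X (Coh.structureModule X) 0) = 1)
    (hg : Curv2.genus k X = 1)
    (hdvr : ∀ p : X, IsClosed ({p} : Set X) → IsDiscreteValuationRing (X.presheaf.stalk p))
    (O₀ : X) (hOc : IsClosed ({O₀} : Set X)) (hO : Function.Bijective (Curv2.resMap k X O₀))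
    (L : X.Modules) (hL : PicF.IsInvertible L) (hdeg : Curv2.deg k X L 1 = 0) :
    ∃! P : {x : X // IsClosed ({x} : Set X) ∧ Function.Bijective (Curv2.resMap k X x)},
      Nonempty (CohB1.tensorMod L (ClSub.idealMod (ptIdeal P.1 P.2.1)) ≅
        ClSub.idealMod (ptIdeal O₀ hOc)) := by
  haveI := Groth.Agent.Lib.T2H6.CurveDeg.isLocallyNoetherian (X := X) k
  haveI : LocallyOfFiniteType (X ↘ Spec (CommRingCat.of k)) := inferInstance
  have hIO : PicF.IsInvertible (ClSub.idealMod (ptIdeal O₀ hOc)) :=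
    Groth.Agent.Lib.T2H6.PtTwistD.isInvertible_idealMod_ptIdeal X hdim _ hOc (hdvr O₀ hOc)
  have hdegIO : Curv2.deg k X (ClSub.idealMod (ptIdeal O₀ hOc)) 1 = -1 :=
    Groth.Agent.Lib.T2H6.PtTwistD.deg_idealMod_ptIdeal k _ hOc hO.2
  set A := inv (ClSub.idealMod (ptIdeal O₀ hOc)) with hA
  have hAi : PicF.IsInvertible A := isInvertible_inv _ hIO
  have hdegA : Curv2.deg k X A 1 = 1 := by
    rw [hA, Groth.Agent.Lib.T2H6.PtTwistD.deg_inv k hdim _ hIO, hdegIO, neg_neg]
  set M := CohB1.tensorMod L A with hMdef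
  have hM : PicF.IsInvertible M := Groth.Agent.Lib.Helper23.SecTw.isInvertible_tensorMod hL hAi
  have hdegM : Curv2.deg k X M 1 = 1 := by
    rw [hMdef, Groth.Agent.Lib.T2H6.PtTwistD.deg_tensor1 k hdim _ _ hL hAi, hdeg, hdegA, zero_add]
  -- `h⁰(M) = 1`
  have hO := Groth.Agent.Lib.Helper23.TensorUnit.isInvertible_structureModule X
  haveI := Groth.Agent.Lib.T2H6.CurveRR.isQuasicoherent_of_isInvertible _ hO
  haveI := Groth.Agent.Lib.T2H6.CurveRR.isQuasicoherent_of_isInvertible _ hM
  have eO := Groth.Agent.Lib.T2H6.CurveRR.euler_eq_sub k hdim (Coh.structureModule X)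
  have eM := Groth.Agent.Lib.T2H6.CurveRR.euler_eq_sub k hdim M
  have hg' : Module.finrank k (Coh.HH X (Coh.structureModule X) 1) = 1 := hg
  have hMge : 1 ≤ Module.finrank k (Coh.HH X M 0) := by
    have hd := hdegM
    unfold Curv2.deg at hd
    rw [eO, eM, h0, hg'] at hd
    push_cast at hd
    have : (1 : ℤ) ≤ (Module.finrank k (Coh.HH X M 0) : ℤ) := by
      have h5 : (0 : ℤ) ≤ (Module.finrank k (Coh.HH X M 1) : ℤ) := Int.natCast_nonneg _
      linarith
    exact_mod_cast this
  have hM1 : Module.finrank k (Coh.HH X M 0) = 1 := by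
    by_contra hne
    have h2 : 2 ≤ Module.finrank k (Coh.HH X M 0) := by omega
    have := genus_eq_zero_of_deg_one k hdim h0 M hM hdegM h2
    rw [hg] at this
    exact one_ne_zero this
  have h01 : Module.finrank k (Coh.HH X (CohB1.tensorMod (Coh.structureModule X) M) 0) = 1 := by
    have e : CohB1.tensorMod (Coh.structureModule X) M ≅ M := unitTensorIso M
    rw [Groth.Agent.Lib.T2H6.FieldBC.finrank_HH_eq_of_iso k X e 0, hM1]
  obtain ⟨P, hP, hκ, ⟨e₀⟩⟩ := exists_rational_point_of_deg_one k hdim hdvr M hM hdegM h01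
  have hPbij : Function.Bijective (Curv2.resMap k X P) := by
    refine ⟨(Curv2.resMap k X P).injective, ?_⟩
    intro y
    have h1 := Subalgebra.bot_eq_top_of_finrank_eq_one hκ
    have hy : y ∈ (⊤ : Subalgebra k (X.residueField P)) := Algebra.mem_top
    rw [← h1, Algebra.mem_bot] at hy
    obtain ⟨c, hc⟩ := hy
    exact ⟨c, hc⟩
  -- existence
  have hex : Nonempty (CohB1.tensorMod L (ClSub.idealMod (ptIdeal P hP)) ≅
      ClSub.idealMod (ptIdeal O₀ hOc)) := by
    apply nonempty_iso_of_tensor_iso hAi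
    exact swapIso L (ClSub.idealMod (ptIdeal P hP)) A ≪≫ braidIso _ _ ≪≫ e₀ ≪≫
      (tensorInvIso _ hIO).symm
  refine ⟨⟨P, hP, hPbij⟩, hex, ?_⟩
  rintro ⟨P', hP', hP'bij⟩ ⟨e'⟩
  obtain ⟨e⟩ := hex
  apply Subtype.ext
  change P' = P
  by_contra hne
  have e1 : CohB1.tensorMod (ClSub.idealMod (ptIdeal P' hP')) L ≅
      CohB1.tensorMod (ClSub.idealMod (ptIdeal P hP)) L :=
    braidIso _ _ ≪≫ e' ≪≫ e.symm ≪≫ braidIso _ _
  obtain ⟨e2⟩ := nonempty_iso_of_tensor_iso hL e1
  obtain ⟨ε, hε⟩ := exists_iso_of_ptIdeal_iso k hdim P' P hP' hP hne hP'bij.2 (hdvr P' hP') e2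
  obtain ⟨N, hN, hNdeg, hN2⟩ := Groth.Agent.Lib.T2H9.P1Iso.exists_invertible_of_iso k ε hε
  have := genus_eq_zero_of_deg_one k hdim h0 N hN hNdeg hN2
  rw [hg] at this
  exact one_ne_zero this

end Groth.Agent.Lib.T2H9.GenusOne

namespace Groth.Agent.Lib.T2H9.GenusOne

open Groth.Agent.Lib.T2H6.PtTwistA

attribute [local instance] Curv2.resAlgebra

variable (k : Type u) [Field k] {X : Scheme.{u}} [X.Over (Spec (CommRingCat.of k))]

/-- a connected scheme of finite type over a field with regular local rings is integral -/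
theorem isIntegral_of_regular [LocallyOfFiniteType (X ↘ Spec (CommRingCat.of k))]
    [QuasiCompact (X ↘ Spec (CommRingCat.of k))] [ConnectedSpace X]
    (hreg : ∀ x : X, IsRegularLocalRing (X.presheaf.stalk x)) : IsIntegral X := by
  haveI : IsLocallyNoetherian X :=
    LocallyOfFiniteType.isLocallyNoetherian (X ↘ Spec (CommRingCat.of k))
  haveI : CompactSpace X := QuasiCompact.compactSpace_of_compactSpace (X ↘ Spec (CommRingCat.of k))
  haveI : IsNoetherian X := ⟨⟩
  have hfin : (irreducibleComponents X).Finite := NoetherianSpace.finite_irreducibleComponents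
  have hdom : ∀ x : X, IsDomain (X.presheaf.stalk x) := fun x => by
    haveI := hreg x
    exact Groth.Agent.Lib.Helper5.isDomain_of_isRegularLocalRing _
  haveI : IrreducibleSpace X :=
    Groth.Agent.Lib.Helper4.EtNormalSch.irreducibleSpace_of_connected hdom hfin
  haveI : ∀ x : X, _root_.IsReduced (X.presheaf.stalk x) := fun x => by
    haveI := hdom x
    infer_instance
  haveI : IsReduced X := isReduced_of_isReduced_stalk X
  exact isIntegral_of_irreducibleSpace_of_isReduced X

/-- **S14341** -/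
theorem main [IsProper (X ↘ Spec (CommRingCat.of k))] [Smooth (X ↘ Spec (CommRingCat.of k))]
    [GeometricallyConnected (X ↘ Spec (CommRingCat.of k))] (hX : topologicalKrullDim X = 1)
    (hg : Curv2.genus k X = 1) (O₀ : X) (hOc : IsClosed ({O₀} : Set X))
    (hO : Function.Bijective (Curv2.resMap k X O₀)) (L : X.Modules) (hL : PicF.IsInvertible L)
    (hdeg : Curv2.deg k X L 1 = 0) :
    ∃! P : {x : X // IsClosed ({x} : Set X) ∧ Function.Bijective (Curv2.resMap k X x)},
      Nonempty (CohB1.tensorMod L (ClSub.idealMod (Scheme.IdealSheafData.vanishingIdeal ⟨{P.1}, P.2.1⟩)) ≅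
        ClSub.idealMod (Scheme.IdealSheafData.vanishingIdeal ⟨{O₀}, hOc⟩)) := by
  haveI : LocallyOfFiniteType (X ↘ Spec (CommRingCat.of k)) := inferInstance
  haveI : ConnectedSpace X :=
    GeometricallyConnected.connectedSpace_of_subsingleton (f := X ↘ Spec (CommRingCat.of k))
  have hreg : ∀ x : X, IsRegularLocalRing (X.presheaf.stalk x) := fun x => by
    apply Groth.Agent.Lib.T2H9.VarSmRat.isRegularLocalRing_stalk_of_mem_smoothLocus k X x
    rw [Scheme.Hom.smoothLocus_eq_top]
    trivial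
  haveI : IsIntegral X := isIntegral_of_regular k hreg
  haveI := Groth.Agent.Lib.T2H6.CurveDeg.isLocallyNoetherian (X := X) k
  have hdvr : ∀ p : X, IsClosed ({p} : Set X) → IsDiscreteValuationRing (X.presheaf.stalk p) := by
    intro p hp
    have hd1 := Groth.Agent.Lib.T2H9.DVRSmooth.ringKrullDim_stalk_eq_one_of_isClosed X hX p hp
    exact ((Groth.Agent.Lib.Helper19.isDiscreteValuationRing_iff_regular_dim_one _).2
      ⟨hreg p, hd1⟩).2
  -- `h⁰(O) = 1` by the tower law at the rational point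
  have h0 : Module.finrank k (Coh.HH X (Coh.structureModule X) 0) = 1 := by
    have h1 := Groth.Agent.Lib.T2H9.Tower.finrank_hh0_dvd k X (ClSub.quotMod (ptIdeal O₀ hOc)) 0
    rw [Groth.Agent.Lib.T2H9.PtDeg.finrank_HH_zero_quotMod_ptIdeal k O₀ hOc] at h1
    have h2 : Module.finrank k (X.residueField O₀) = 1 := by
      letI := Curv2.resAlgebra k X O₀
      have e : k ≃ₗ[k] X.residueField O₀ :=
        LinearEquiv.ofBijective (Algebra.linearMap k (X.residueField O₀)) hO
      rw [← e.finrank_eq, Module.finrank_self]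
    rw [h2] at h1
    exact Nat.dvd_one.mp h1
  exact existsUnique_point k hX h0 hg hdvr O₀ hOc hO L hL hdeg

end Groth.Agent.Lib.T2H9.GenusOne
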