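import Mathlib
import Groth.Prelude
import Groth.Agent.Lib.Helper1FLF1
import Groth.Agent.Lib.T2H6TensorDegGen
import Groth.Agent.Lib.T2H6CurveVB

/-!
# The tensor product of bundles of ranks `n`, `m` is a bundle of rank `n * m` (helper9)
-/

set_option autoImplicit false
set_option linter.style.haveILetI false
set_option linter.unusedSectionVars false
set_option linter.unusedVariables false
universe u

open CategoryTheory CategoryTheory.Limits AlgebraicGeometry

namespace Groth.Agent.Lib.T2H9.TensorRank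

variable {X : Scheme.{u}} [IsIntegral X] [IsNoetherian X]

theorem isFinLocFreeOfRank_tensor (E V : X.Modules) (n m : ℕ)
    (hE : FlatMod.IsFinLocFreeOfRank n E) (hV : FlatMod.IsFinLocFreeOfRank m V) :
    FlatMod.IsFinLocFreeOfRank (n * m) (CohB1.tensorMod E V) := by
  have hEc := Groth.Agent.Lib.T2H6.RankAdd.isCoh_of_isFinLocFreeOfRank E n hE
  have hVc := Groth.Agent.Lib.T2H6.RankAdd.isCoh_of_isFinLocFreeOfRank V m hV
  have hEVc := Groth.Agent.Lib.T2H6.TensorDeg.isCoh_tensor E V hEc hVc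
  haveI := hEVc.1
  have hlfE : FlatMod.IsFinLocFree E := fun x => by
    obtain ⟨U, hx, h⟩ := hE x
    exact ⟨U, n, hx, h⟩
  have hlfV : FlatMod.IsFinLocFree V := fun x => by
    obtain ⟨U, hx, h⟩ := hV x
    exact ⟨U, m, hx, h⟩
  have hlf : FlatMod.IsFinLocFree (CohB1.tensorMod E V) :=
    Groth.Agent.Lib.Helper1.FLF.isFinLocFree_tensor E V hlfE hlfV
  have h1 := Groth.Agent.Lib.T2H6.CurveVB.exists_rank (CohB1.tensorMod E V) hlf
  have h2 := Groth.Agent.Lib.T2H6.CurveSS2.grank_of_isFinLocFreeOfRank _ _ h1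
  have h3 := Groth.Agent.Lib.T2H6.TensorDegGen.grank_tensor E hEc V m hV
  rw [Groth.Agent.Lib.T2H6.CurveSS2.grank_of_isFinLocFreeOfRank E n hE] at h3
  rw [← h3, h2]
  exact h1

end Groth.Agent.Lib.T2H9.TensorRank
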