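import Mathlib
import Groth.Prelude
import Groth.Agent.Lib.T2H9CurveOmega
import Groth.Agent.Lib.T2H6CurveSmooth

/-!
# `H¹` vanishing for (semi)stable bundles of large slope on a curve (helper9)

* `exists_sub_of_h1` : if `H¹(E) ≠ 0` for a vector bundle `E` of rank `rK + 1` then `E` has a subbundle `K` of rank
  `rK` with `deg E - deg K ≤ 2g - 2` (the kernel of a nonzero map to the dualizing module).
* `h1_subsingleton_of_semistable`, `h1_subsingleton_of_stable` : S11812, S11813.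
-/

set_option autoImplicit false
set_option linter.style.haveILetI false
set_option linter.unusedSectionVars false
set_option linter.unusedVariables false
universe u

open CategoryTheory CategoryTheory.Limits AlgebraicGeometry

namespace Groth.Agent.Lib.T2H9.VBSlope

open Groth.Agent.Lib.T2H5.Twist Groth.Agent.Lib.T2H9.TensorInv Groth.Agent.Lib.T2H6.CurveSerre
  Groth.Agent.Lib.T2H6.HHLin Groth.Agent.Lib.T2H9.VBSimple Groth.Agent.Lib.T2H9.CurveDual
  Groth.Agent.Lib.T2H6.CurveSS2 Groth.Agent.Lib.T2H9.CurveOmega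

variable (k : Type u) [Field k] {X : Scheme.{u}} [X.Over (Spec (CommRingCat.of k))]
  [IsProper (X ↘ Spec (CommRingCat.of k))] [IsIntegral X]

/-- if `H¹(E) ≠ 0` then the kernel of a nonzero map `E → ω` is a subbundle `K` of corank one with
`deg E - deg K ≤ 2g - 2`. -/
theorem exists_sub_of_h1 (hdim : topologicalKrullDim X = 1)
    (hreg : ∀ x : X, IsRegularLocalRing (X.presheaf.stalk x))
    (h0 : Module.finrank k (Coh.HH X (Coh.structureModule X) 0) = 1)
    (r : ℕ) (E : X.Modules) (hE : FlatMod.IsFinLocFreeOfRank r E)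
    (h1 : Nontrivial (Coh.HH X E 1)) :
    ∃ (rK : ℕ) (K : X.Modules) (i : K ⟶ E), r = rK + 1 ∧ Mono i ∧ FlatMod.IsFinLocFreeOfRank rK K ∧
      Curv2.deg k X E r - Curv2.deg k X K rK ≤ 2 * (Curv2.genus k X : ℤ) - 2 := by
  obtain ⟨ω, tr', hd, hω, hinv, hdeg, -, -⟩ := exists_omega k hdim hreg h0 (X := X)
  have hEc := Groth.Agent.Lib.T2H6.RankAdd.isCoh_of_isFinLocFreeOfRank E r hE
  obtain ⟨φ, hφ⟩ := exists_hom_ne_zero hd E hEc.1 h1
  have hω1 := Groth.Agent.Lib.Helper23.SecTw.isFinLocFreeOfRank_one_of_isInvertible ω hinv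
  obtain ⟨rK, rI, hK, hI, hrk, hrI, hdE⟩ :=
    Groth.Agent.Lib.T2H6.CurveVB.ker_im_data k hdim hreg φ r 1 hE hω1
  have hrI0 : rI ≠ 0 := by
    intro h
    subst h
    apply hφ
    rw [← Abelian.image.fac φ]
    have hz := Groth.Agent.Lib.T2H6.CurveVB.isZero_of_rank_zero _ hI
    rw [hz.eq_of_tgt (Abelian.factorThruImage φ) 0, zero_comp]
  have hrI1 : rI = 1 := by omega
  subst hrI1
  have hIinv : PicF.IsInvertible (Abelian.image φ) :=
    Groth.Agent.Lib.T2H6.CurveExt.isInvertible_of_rank_one _ hI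
  have hιne : Abelian.image.ι φ ≠ 0 := by
    intro h
    apply hφ
    rw [← Abelian.image.fac φ, h, comp_zero]
  have hle := Groth.Agent.Lib.T2H6.CurveDeg.deg_le k hdim hIinv hinv (Abelian.image.ι φ) hιne
  refine ⟨rK, kernel φ, kernel.ι φ, hrk, inferInstance, hK, ?_⟩
  rw [hdE]
  linarith

/-- **S11812.** -/
theorem h1_subsingleton_of_semistable (hdim : topologicalKrullDim X = 1)
    (hreg : ∀ x : X, IsRegularLocalRing (X.presheaf.stalk x))
    (h0 : Module.finrank k (Coh.HH X (Coh.structureModule X) 0) = 1)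
    (r : ℕ) (hr : 0 < r) (E : X.Modules) (hE : FlatMod.IsFinLocFreeOfRank r E)
    (hss : ∀ (F : X.Modules) (r' : ℕ) (i : F ⟶ E), Mono i → 0 < r' → FlatMod.IsFinLocFreeOfRank r' F →
      Curv2.deg k X F r' * (r : ℤ) ≤ Curv2.deg k X E r * (r' : ℤ))
    (hdeg : (r : ℤ) * (2 * (Curv2.genus k X : ℤ) - 2) < Curv2.deg k X E r) :
    Subsingleton (Coh.HH X E 1) := by
  by_contra hns
  rw [not_subsingleton_iff_nontrivial] at hns
  obtain ⟨rK, K, i, hrk, hi, hK, hle⟩ := exists_sub_of_h1 k hdim hreg h0 r E hE hns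
  subst hrk
  by_cases hrK : rK = 0
  · subst hrK
    have hz := Groth.Agent.Lib.T2H6.CurveVB.isZero_of_rank_zero K hK
    have hdK : Curv2.deg k X K 0 = 0 := by
      unfold Curv2.deg
      rw [euler_eq_zero_of_isZero k K hz]
      simp
    rw [hdK] at hle
    push_cast at hdeg
    linarith
  · have h := hss K rK i hi (Nat.pos_of_ne_zero hrK) hK
    push_cast at h hdeg
    nlinarith

/-- **S11813.** -/
theorem h1_subsingleton_of_stable (hdim : topologicalKrullDim X = 1)
    (hreg : ∀ x : X, IsRegularLocalRing (X.presheaf.stalk x))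
    (h0 : Module.finrank k (Coh.HH X (Coh.structureModule X) 0) = 1)
    (r : ℕ) (hr : 2 ≤ r) (E : X.Modules) (hE : FlatMod.IsFinLocFreeOfRank r E)
    (hst : ∀ (F : X.Modules) (r' : ℕ) (i : F ⟶ E), Mono i → 0 < r' → r' < r →
      FlatMod.IsFinLocFreeOfRank r' F → Curv2.deg k X F r' * (r : ℤ) < Curv2.deg k X E r * (r' : ℤ))
    (hdeg : (r : ℤ) * (2 * (Curv2.genus k X : ℤ) - 2) ≤ Curv2.deg k X E r) :
    Subsingleton (Coh.HH X E 1) := by
  by_contra hns
  rw [not_subsingleton_iff_nontrivial] at hns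
  obtain ⟨rK, K, i, hrk, hi, hK, hle⟩ := exists_sub_of_h1 k hdim hreg h0 r E hE hns
  subst hrk
  have h := hst K rK i hi (by omega) (by omega) hK
  push_cast at h hdeg
  nlinarith

end Groth.Agent.Lib.T2H9.VBSlope
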