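import Mathlib
import Groth.Prelude
import Groth.Agent.Lib.T2H9VBSlope
import Groth.Agent.Lib.T2H5Dim0c
import Groth.Agent.Lib.T2H3GGDescent
import Groth.Agent.Lib.Helper2FibreCrit2
import Groth.Agent.Lib.T2H9Tower2
import Groth.Agent.S2286
import Groth.Agent.S0047
import Groth.Agent.Lib.T2H4AmpleAffine
import Groth.Agent.Lib.T2H5PnStruct

set_option autoImplicit false
set_option linter.style.haveILetI false
set_option linter.unusedSectionVars false
set_option linter.unusedVariables false
universe u

open CategoryTheory CategoryTheory.Limits AlgebraicGeometry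

namespace Groth.Agent.Lib.T2H9.VBFibre

open Groth.Agent.Lib.T2H5.Twist Groth.Agent.Lib.T2H6.PtTwistA Groth.Agent.Lib.T2H6.AmpleCrit
  Groth.Agent.Lib.T2H6.ParShC Groth.Agent.Lib.Helper21.ModTensor3 Groth.Agent.Lib.Helper21.ModTensor5
  Groth.Agent.Lib.Helper21.ModTensor7

variable {X : Scheme.{u}}

/-- the stalk of `O_p` at `p` is nonzero. -/
theorem mem_support_quotMod_ptIdeal (p : X) (hp : IsClosed ({p} : Set X)) :
    p ∈ CohB1.support (ClSub.quotMod (ptIdeal p hp)) := by
  by_contra hcon
  apply toSubscheme_ptIdeal_ne_zero p hp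
  have hz : IsZero (ClSub.quotMod (ptIdeal p hp)) := by
    apply Groth.Agent.Helper18Epi.isZero_of_subsingleton_stalk
    intro x
    by_contra hx
    have h1 : x ∈ CohB1.support (ClSub.quotMod (ptIdeal p hp)) := hx
    have h2 := support_quotMod_subset (ptIdeal p hp) h1
    rw [coe_support_ptIdeal] at h2
    rw [Set.mem_singleton_iff.1 h2] at h1
    exact hcon h1
  exact hz.eq_of_tgt _ _

/-- **Nakayama**: if `O_p ⊗ C = 0` for a coherent `C` then `C_p = 0`. -/
theorem subsingleton_stalk_of_isZero_tensor (C : X.Modules) (hC : Coh.IsCoh C)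
    (p : X) (hp : IsClosed ({p} : Set X))
    (hz : IsZero (CohB1.tensorMod (ClSub.quotMod (ptIdeal p hp)) C)) :
    Subsingleton (C.presheaf.stalk p) := by
  haveI := hC.1
  haveI : SheafOfModules.IsFiniteType (R := X.ringCatSheaf) C := hC.2
  have hQ := isCoh_quotMod (ptIdeal p hp)
  haveI := hQ.1
  haveI : SheafOfModules.IsFiniteType (R := X.ringCatSheaf) (ClSub.quotMod (ptIdeal p hp)) := hQ.2
  have h1 := Groth.Agent.Helper18Epi.subsingleton_stalk_of_isZero hz p
  rw [Groth.Agent.S2286.subsingleton_stalk_tensorMod_iff] at h1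
  haveI := Groth.Agent.Lib.Helper2.FibreCrit.finite_stalk C p
  haveI := Groth.Agent.Lib.Helper2.FibreCrit.finite_stalk (ClSub.quotMod (ptIdeal p hp)) p
  rw [Groth.Agent.S2286.subsingleton_tensor_iff] at h1
  rcases h1 with h | h
  · exact absurd h (mem_support_quotMod_ptIdeal p hp)
  · exact h

/-- a coherent module all of whose stalks at closed points vanish is zero. -/
theorem isZero_of_closedPoints [CompactSpace X] (C : X.Modules) (hC : Coh.IsCoh C)
    (h : ∀ p : X, IsClosed ({p} : Set X) → Subsingleton (C.presheaf.stalk p)) : IsZero C := by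
  apply Groth.Agent.Helper18Epi.isZero_of_subsingleton_stalk
  have hZ : IsClosed (CohB1.support C) := Groth.Agent.S0020.result X C hC.2
  by_contra hcon
  push Not at hcon
  obtain ⟨x, hx⟩ := hcon
  have hne : (CohB1.support C).Nonempty := ⟨x, not_subsingleton_iff_nontrivial.2 hx⟩
  obtain ⟨p, hpS, hpc⟩ := hZ.exists_closed_singleton hne
  exact hpS (h p hpc)

/-- tensoring on the left with `N` -/
noncomputable abbrev tl (N : X.Modules) : X.Modules ⥤ X.Modules := tL X.sheaf N

theorem tl_obj (N M : X.Modules) : (tl N).obj M = CohB1.tensorMod N M := rfl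

/-- `O ⊗ - ≅ 𝟭` -/
noncomputable def tlUnitIso : tl (Coh.structureModule X) ≅ 𝟭 X.Modules := tLUnitIso X.sheaf

/-- interchange. -/
theorem tr_map_tl_map {A B M N : X.Modules} (f : A ⟶ B) (g : M ⟶ N) :
    (tr M).map f ≫ (tl B).map g = (tl A).map g ≫ (tr N).map f :=
  (((ModSite.tensorBi X.sheaf).map f).naturality g).symm

/-- every global section of `E` factors through the evaluation map. -/
theorem exists_section_factor_ev (E : X.Modules) (s : Coh.structureModule X ⟶ E) :
    ∃ a : Coh.structureModule X ⟶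
        (SheafOfModules.free (Coh.structureModule X ⟶ E) : X.Modules), a ≫ Groth.Agent.Lib.T2H3.GGDescent.ev E = s :=
  ⟨_, Groth.Agent.Lib.T2H3.GGDescent.ιFree_ev E s⟩

/-- a coherent quotient `C` of `E` killing all global sections of `E` vanishes as soon as fibre sections lift. -/
theorem isZero_of_forall_lift [IsLocallyNoetherian X] [CompactSpace X]
    (E C : X.Modules) (hE : Coh.IsCoh E) (hC : Coh.IsCoh C) (πC : E ⟶ C) [Epi πC]
    (hsec : ∀ s : Coh.structureModule X ⟶ E, s ≫ πC = 0)
    (h : ∀ (p : X) (hp : IsClosed ({p} : Set X))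
      (s : Coh.structureModule X ⟶ (tr E).obj (ClSub.quotMod (ptIdeal p hp))),
      ∃ t : Coh.structureModule X ⟶ (tr E).obj (Coh.structureModule X),
        t ≫ (tr E).map (ClSub.toSubscheme (ptIdeal p hp)) = s) :
    IsZero C := by
  apply isZero_of_closedPoints C hC
  intro p hp
  apply subsingleton_stalk_of_isZero_tensor C hC p hp
  have hQ := isCoh_quotMod (ptIdeal p hp)
  have hQE := Groth.Agent.Lib.T2H6.TensorDeg.isCoh_tensor _ E hQ hE
  have hQC := Groth.Agent.Lib.T2H6.TensorDeg.isCoh_tensor _ C hQ hC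
  have hsuppQ : CohB1.support (ClSub.quotMod (ptIdeal p hp)) ⊆ {p} := by
    have h := support_quotMod_subset (ptIdeal p hp)
    rwa [coe_support_ptIdeal] at h
  have hsupp : ∀ M : X.Modules, ∀ x ∈ CohB1.support (CohB1.tensorMod (ClSub.quotMod (ptIdeal p hp)) M),
      IsClosed ({x} : Set X) := by
    intro M x hx
    have h1 := hsuppQ (Groth.Agent.Lib.T2H5.Dim0.support_tensorMod_subset _ M hx)
    rw [Set.mem_singleton_iff.1 h1]
    exact hp
  -- every section of `O_p ⊗ C` vanishes
  have hzero : ∀ s : Coh.structureModule X ⟶ (tr C).obj (ClSub.quotMod (ptIdeal p hp)), s = 0 := by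
    intro s
    obtain ⟨g, hg⟩ : ∃ g : (tr E).obj (ClSub.quotMod (ptIdeal p hp)) ⟶
        (tr C).obj (ClSub.quotMod (ptIdeal p hp)), g = (tl (ClSub.quotMod (ptIdeal p hp))).map πC :=
      ⟨_, rfl⟩
    haveI : PreservesFiniteColimits (tl (ClSub.quotMod (ptIdeal p hp))) :=
      tL_preservesFiniteColimits X.sheaf _
    haveI : (tl (ClSub.quotMod (ptIdeal p hp))).PreservesEpimorphisms :=
      preservesEpimorphisms_of_preservesColimitsOfShape _
    haveI : Epi g := by
      rw [hg]
      exact (tl (ClSub.quotMod (ptIdeal p hp))).map_epi πC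
    have hQE' : Coh.IsCoh ((tr E).obj (ClSub.quotMod (ptIdeal p hp))) := hQE
    have hQC' : Coh.IsCoh ((tr C).obj (ClSub.quotMod (ptIdeal p hp))) := hQC
    have hKc : Coh.IsCoh (kernel g) := Groth.Agent.Lib.T2H5.GenIsoB.isCoh_kernel g hQE' hQC'
    have hK1 : Subsingleton (Coh.HH X (kernel g) 1) :=
      Groth.Agent.S0047.result X (kernel g) hKc (fun x hx =>
        hsupp E x (Groth.Agent.Lib.T2H5.GenIsoB.support_subset_of_mono (kernel.ι g) hx)) 1 Nat.one_pos
    let S : ShortComplex X.Modules := ShortComplex.mk (kernel.ι g) g (kernel.condition g)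
    have hS : S.ShortExact :=
      { exact := ShortComplex.exact_kernel g
        mono_f := inferInstanceAs (Mono (kernel.ι g))
        epi_g := inferInstanceAs (Epi g) }
    obtain ⟨s', hs'⟩ := Groth.Agent.Lib.T2H9.Tower.exists_lift_unit S hS hK1 s
    have hs'' : s' ≫ g = s := hs'
    obtain ⟨t, ht⟩ := h p hp s'
    have h1 : s = t ≫ (tr E).map (ClSub.toSubscheme (ptIdeal p hp)) ≫ g := by
      rw [← Category.assoc, ht]
      exact hs''.symm
    have h2 : (tr E).map (ClSub.toSubscheme (ptIdeal p hp)) ≫ g =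
        (tl (Coh.structureModule X)).map πC ≫ (tr C).map (ClSub.toSubscheme (ptIdeal p hp)) := by
      rw [hg]
      exact tr_map_tl_map _ _
    have h3 : t ≫ (tl (Coh.structureModule X)).map πC = 0 := by
      have hn := tlUnitIso.hom.naturality πC
      have h4 : t ≫ (tl (Coh.structureModule X)).map πC ≫ (tlUnitIso (X := X)).hom.app C = 0 := by
        rw [hn, ← Category.assoc]
        exact hsec _
      have h5 : (t ≫ (tl (Coh.structureModule X)).map πC) ≫ (tlUnitIso (X := X)).hom.app C =
          0 ≫ (tlUnitIso (X := X)).hom.app C := by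
        rw [Category.assoc, h4, zero_comp]
      exact (cancel_mono _).1 h5
    rw [h1, h2, ← Category.assoc, h3, zero_comp]
  -- `O_p ⊗ C` is globally generated, hence zero
  obtain ⟨ι, q, hq⟩ := Groth.Agent.Lib.T2H5.Dim0.isGloballyGenerated_of_closed_points _ hQC (hsupp C)
  have hq0 : q = 0 := by
    refine Sigma.hom_ext (C := SheafOfModules X.ringCatSheaf) _ _ (fun i => ?_)
    exact (hzero _).trans (comp_zero).symm
  exact @IsZero.of_epi_eq_zero _ _ _ _ _ q hq hq0

/-- **Pointwise criterion for epimorphisms** -/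
theorem epi_of_forall_lift [IsLocallyNoetherian X] [CompactSpace X]
    (F E : X.Modules) [F.IsQuasicoherent] (hE : Coh.IsCoh E) (e : F ⟶ E)
    (hsec : ∀ s : Coh.structureModule X ⟶ E, ∃ a : Coh.structureModule X ⟶ F, a ≫ e = s)
    (h : ∀ (p : X) (hp : IsClosed ({p} : Set X))
      (s : Coh.structureModule X ⟶ (tr E).obj (ClSub.quotMod (ptIdeal p hp))),
      ∃ t : Coh.structureModule X ⟶ (tr E).obj (Coh.structureModule X),
        t ≫ (tr E).map (ClSub.toSubscheme (ptIdeal p hp)) = s) :
    Epi e := by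
  haveI := hE.1
  have hqc : (cokernel e).IsQuasicoherent :=
    Groth.Agent.Lib.Helper23.QCohLocal.isQuasicoherent_cokernel _
  have hCc : Coh.IsCoh (cokernel e) :=
    Groth.Agent.Lib.T2H5.Devissage.isCoh_of_epi (cokernel.π e) hE hqc
  have hz := isZero_of_forall_lift E _ hE hCc (cokernel.π e) (fun s => by
    obtain ⟨a, rfl⟩ := hsec s
    rw [Category.assoc, cokernel.condition, comp_zero]) h
  exact Abelian.epi_of_cokernel_π_eq_zero _ (hz.eq_of_tgt _ _)

/-- **Pointwise criterion for global generation**: a coherent module `E` on a quasi-compact locally noetherian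
scheme such that, at every closed point `p`, all sections of the fibre `O_p ⊗ E` lift to sections of `O ⊗ E`,
is globally generated. -/
theorem isGloballyGenerated_of_forall_lift [IsLocallyNoetherian X] [CompactSpace X]
    (E : X.Modules) (hE : Coh.IsCoh E)
    (h : ∀ (p : X) (hp : IsClosed ({p} : Set X))
      (s : Coh.structureModule X ⟶ (tr E).obj (ClSub.quotMod (ptIdeal p hp))),
      ∃ t : Coh.structureModule X ⟶ (tr E).obj (Coh.structureModule X),
        t ≫ (tr E).map (ClSub.toSubscheme (ptIdeal p hp)) = s) :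
    Curv2.IsGloballyGenerated E := by
  apply Groth.Agent.Lib.T2H3.GGDescent.isGloballyGenerated_of_epi_ev
  haveI : (SheafOfModules.free (Coh.structureModule X ⟶ E) : X.Modules).IsQuasicoherent :=
    inferInstanceAs (SheafOfModules.free (R := X.ringCatSheaf) (Coh.structureModule X ⟶ E)).IsQuasicoherent
  exact epi_of_forall_lift _ E hE _ (exists_section_factor_ev E) h

/-- sections of the fibre `O_p ⊗ E` of a bundle lift to sections of `O ⊗ E` when `H¹(I_p ⊗ E) = 0`. -/
theorem exists_lift_of_h1 (E : X.Modules) (hE : FlatMod.IsFinLocFree E) (I : X.IdealSheafData)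
    (h1 : Subsingleton (Coh.HH X ((tr E).obj (ClSub.idealMod I)) 1))
    (s : Coh.structureModule X ⟶ (tr E).obj (ClSub.quotMod I)) :
    ∃ t : Coh.structureModule X ⟶ (tr E).obj (Coh.structureModule X),
      t ≫ (tr E).map (ClSub.toSubscheme I) = s := by
  haveI := Groth.Agent.Lib.T2H6.TensorDeg.preservesFiniteLimits_tr_of_isFinLocFree E hE
  haveI := preservesFiniteColimits_tr E
  have hS : ((idealSC I).map (tr E)).ShortExact := (idealSC_shortExact I).map_of_exact (tr E)
  exact Groth.Agent.Lib.T2H9.Tower.exists_lift_unit _ hS h1 s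

/-- a bundle `E` on a quasi-compact locally noetherian scheme with `H¹(E ⊗ I_p) = 0` for all closed points `p`
is globally generated. -/
theorem isGloballyGenerated_of_h1 [IsLocallyNoetherian X] [CompactSpace X]
    (E : X.Modules) (hEc : Coh.IsCoh E) (hE : FlatMod.IsFinLocFree E)
    (h : ∀ (p : X) (hp : IsClosed ({p} : Set X)),
      Subsingleton (Coh.HH X (CohB1.tensorMod E (ClSub.idealMod (ptIdeal p hp))) 1)) :
    Curv2.IsGloballyGenerated E := by
  apply isGloballyGenerated_of_forall_lift E hEc
  intro p hp s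
  apply exists_lift_of_h1 E hE (ptIdeal p hp) _ s
  exact Groth.Agent.Lib.T2H5.PnStruct.subsingleton_HH_of_iso
    (Groth.Agent.Lib.T2H4.AmpleAffine.tensorComm E (ClSub.idealMod (ptIdeal p hp))) 1 (h p hp)

end Groth.Agent.Lib.T2H9.VBFibre
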