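import Mathlib
import Groth.Prelude
import Groth.Agent.Lib.T2H9VBFibre
import Groth.Agent.Lib.T2H9VBNorm
import Groth.Agent.Lib.T2H9TensorRank
import Groth.Agent.Lib.T2H9GenusOne
import Groth.Agent.Lib.T2H6TensorDegGen
import Groth.Agent.Lib.T2H5EulerLen
import Groth.Agent.S0047

/-!
# Bound on `h⁰` of a slope-semistable bundle on a curve (helper9): S18831, S18778
-/

set_option autoImplicit false
set_option linter.style.haveILetI false
set_option linter.unusedSectionVars false
set_option linter.unusedVariables false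
universe u

open CategoryTheory CategoryTheory.Limits AlgebraicGeometry

namespace Groth.Agent.Lib.T2H9.VBH0Bound

open Groth.Agent.Lib.T2H5.Twist Groth.Agent.Lib.T2H9.TensorInv Groth.Agent.Lib.T2H6.CurveSerre
  Groth.Agent.Lib.T2H6.HHLin Groth.Agent.Lib.T2H9.VBSimple Groth.Agent.Lib.T2H9.VBNorm
  Groth.Agent.Lib.T2H6.PtTwistA Groth.Agent.Lib.T2H6.TensorPows Groth.Agent.Lib.T2H6.AmpleCrit

variable (k : Type u) [Field k] {X : Scheme.{u}} [X.Over (Spec (CommRingCat.of k))]
  [IsProper (X ↘ Spec (CommRingCat.of k))] [IsIntegral X]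

/-- slope-semistability is invariant under isomorphism. -/
theorem semistable_of_iso {G G' : X.Modules} (e : G ≅ G') (r : ℕ)
    (hss : ModFun.IsSlopeSemistable k X G r) : ModFun.IsSlopeSemistable k X G' r := by
  intro F r' i hi hr' hF
  haveI := hi
  have h := hss F r' (i ≫ e.inv) (mono_comp _ _) hr' hF
  rwa [Groth.Agent.Lib.T2H6.PtTwistD.deg_eq_of_iso k e r] at h

/-- slope-semistability is preserved by twisting with an invertible module. -/
theorem semistable_tensor (hdim : topologicalKrullDim X = 1) (G : X.Modules) (r : ℕ)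
    (hG : FlatMod.IsFinLocFreeOfRank r G) (N : X.Modules) (hN : PicF.IsInvertible N)
    (hss : ModFun.IsSlopeSemistable k X G r) :
    ModFun.IsSlopeSemistable k X (CohB1.tensorMod G N) r := by
  intro F r' i hi hr' hF
  haveI := hi
  haveI : IsNoetherian X := Groth.Agent.Lib.T2H6.CurveSatur.isNoetherian_of_proper k
  have hN1 := Groth.Agent.Lib.Helper23.SecTw.isFinLocFreeOfRank_one_of_isInvertible N hN
  have hiN := isInvertible_inv N hN
  have hiN1 := Groth.Agent.Lib.Helper23.SecTw.isFinLocFreeOfRank_one_of_isInvertible _ hiN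
  have hF' : FlatMod.IsFinLocFreeOfRank (r' * 1) (CohB1.tensorMod F (inv N)) :=
    Groth.Agent.Lib.T2H9.TensorRank.isFinLocFreeOfRank_tensor F (inv N) r' 1 hF hiN1
  let eA : CohB1.tensorMod (CohB1.tensorMod G N) (inv N) ≅ G :=
    assocIso' G N (inv N) ≪≫ (trCongr (tensorInvIso N hN)).app G ≪≫ (trUnitIso (X := X)).app G
  have hlfN : FlatMod.IsFinLocFree (inv N) := fun x => by
    obtain ⟨U, hx, h⟩ := hiN1 x
    exact ⟨U, 1, hx, h⟩
  haveI := Groth.Agent.Lib.T2H6.TensorDeg.preservesFiniteLimits_tr_of_isFinLocFree (inv N) hlfN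
  haveI : (tr (inv N)).PreservesMonomorphisms :=
    CategoryTheory.preservesMonomorphisms_of_preservesLimitsOfShape _
  haveI : Mono ((tr (inv N)).map i) := Functor.map_mono (tr (inv N)) i
  have hm : Mono ((tr (inv N)).map i ≫ eA.hom) := mono_comp ((tr (inv N)).map i) eA.hom
  have h := hss (CohB1.tensorMod F (inv N)) (r' * 1) ((tr (inv N)).map i ≫ eA.hom) hm
    (by omega) hF'
  have hd1 := Groth.Agent.Lib.T2H6.TensorDegGen.deg_tensor k hdim.le r' 1 F (inv N) hF hiN1
  have hd2 := Groth.Agent.Lib.T2H6.TensorDegGen.deg_tensor k hdim.le r 1 G N hG hN1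
  have hdi := Groth.Agent.Lib.T2H6.PtTwistD.deg_inv k hdim N hN
  rw [hd1, hdi] at h
  have hr1 : r * 1 = r := mul_one r
  rw [hr1] at hd2
  rw [hd2]
  push_cast at h ⊢
  nlinarith [h]

/-- a slope-semistable bundle of negative degree has no nonzero section. -/
theorem h0_eq_zero_of_deg_neg (hdim : topologicalKrullDim X = 1)
    (hreg : ∀ x : X, IsRegularLocalRing (X.presheaf.stalk x)) (G : X.Modules) (r : ℕ)
    (hG : FlatMod.IsFinLocFreeOfRank r G) (hss : ModFun.IsSlopeSemistable k X G r)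
    (hneg : Curv2.deg k X G r < 0) : Module.finrank k (Coh.HH X G 0) = 0 := by
  have hO := Groth.Agent.Lib.Helper23.TensorUnit.isInvertible_structureModule X
  have hO1 := Groth.Agent.Lib.Helper23.SecTw.isFinLocFreeOfRank_one_of_isInvertible _ hO
  have hz : ∀ s : Coh.structureModule X ⟶ G, s = 0 := by
    intro s
    by_contra hs
    haveI := mono_of_ne_zero k hdim hreg hO r hG s hs
    have h := hss _ 1 s inferInstance one_pos hO1
    rw [Groth.Agent.Lib.T2H6.CurveDeg.deg_structureModule] at h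
    push_cast at h
    linarith
  rw [← finrank_hom_eq k G]
  haveI : Subsingleton (Coh.structureModule X ⟶ G) := ⟨fun a b => by rw [hz a, hz b]⟩
  exact Module.finrank_zero_of_subsingleton

/-- `h⁰(G) ≤ h⁰(G ⊗ I_p) + r · deg p`. -/
theorem h0_le_twist (hdim : topologicalKrullDim X = 1) (G : X.Modules) (r : ℕ)
    (hG : FlatMod.IsFinLocFreeOfRank r G) (p : X) (hp : IsClosed ({p} : Set X))
    (hI : PicF.IsInvertible (ClSub.idealMod (ptIdeal p hp))) :
    (Module.finrank k (Coh.HH X G 0) : ℤ) ≤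
      Module.finrank k (Coh.HH X (CohB1.tensorMod G (ClSub.idealMod (ptIdeal p hp))) 0) -
        r * Curv2.deg k X (ClSub.idealMod (ptIdeal p hp)) 1 := by
  haveI : IsNoetherian X := Groth.Agent.Lib.T2H6.CurveSatur.isNoetherian_of_proper k
  have hI1 := Groth.Agent.Lib.Helper23.SecTw.isFinLocFreeOfRank_one_of_isInvertible _ hI
  have hGc := Groth.Agent.Lib.T2H6.RankAdd.isCoh_of_isFinLocFreeOfRank G r hG
  have hIc := Groth.Agent.Lib.T2H6.RankAdd.isCoh_of_isFinLocFreeOfRank _ 1 hI1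
  have hGIc := Groth.Agent.Lib.T2H6.TensorDeg.isCoh_tensor G _ hGc hIc
  have hlf : FlatMod.IsFinLocFree G := fun x => by
    obtain ⟨U, hx, h⟩ := hG x
    exact ⟨U, r, hx, h⟩
  haveI := hGc.1
  haveI := hGIc.1
  -- Euler characteristics
  have hd := Groth.Agent.Lib.T2H6.TensorDegGen.deg_tensor k hdim.le r 1 G _ hG hI1
  have hr1 : r * 1 = r := mul_one r
  rw [hr1] at hd
  have e1 := Groth.Agent.Lib.T2H6.CurveRR.euler_eq_sub k hdim G
  have e2 := Groth.Agent.Lib.T2H6.CurveRR.euler_eq_sub k hdim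
    (CohB1.tensorMod G (ClSub.idealMod (ptIdeal p hp)))
  have hdG : Curv2.deg k X G r = Curv2.euler k X G - r * Curv2.euler k X (Coh.structureModule X) := rfl
  have hdGI : Curv2.deg k X (CohB1.tensorMod G (ClSub.idealMod (ptIdeal p hp))) r =
      Curv2.euler k X (CohB1.tensorMod G (ClSub.idealMod (ptIdeal p hp))) -
        r * Curv2.euler k X (Coh.structureModule X) := rfl
  -- `H¹(G ⊗ I) → H¹(G)` is surjective
  haveI := Groth.Agent.Lib.T2H6.TensorDeg.preservesFiniteLimits_tr_of_isFinLocFree G hlf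
  haveI := preservesFiniteColimits_tr G
  have hS : ((idealSC (ptIdeal p hp)).map (tr G)).ShortExact :=
    (idealSC_shortExact (ptIdeal p hp)).map_of_exact (tr G)
  have hQc : Coh.IsCoh (ClSub.quotMod (ptIdeal p hp)) :=
    Groth.Agent.Lib.T2H6.ParShC.isCoh_quotMod (ptIdeal p hp)
  have hQGc := Groth.Agent.Lib.T2H6.TensorDeg.isCoh_tensor _ G hQc hGc
  have hQsupp : ∀ x ∈ CohB1.support (CohB1.tensorMod (ClSub.quotMod (ptIdeal p hp)) G),
      IsClosed ({x} : Set X) := by
    intro x hx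
    have h1 := Groth.Agent.Lib.T2H5.Dim0.support_tensorMod_subset _ _ hx
    have h2 := Groth.Agent.Lib.T2H6.ParShC.support_quotMod_subset (ptIdeal p hp) h1
    rw [coe_support_ptIdeal] at h2
    rw [Set.mem_singleton_iff.1 h2]
    exact hp
  have hH1 : Subsingleton (Coh.HH X (CohB1.tensorMod (ClSub.quotMod (ptIdeal p hp)) G) 1) :=
    Groth.Agent.S0047.result X _ hQGc hQsupp 1 one_pos
  have hex := Groth.Agent.Lib.T2H5.EulerLen.exact₂ (A := k) _ hS 1
  have hsurj : Function.Surjective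
      (Canon.HHlin k ((tr G).map (ClSub.idealModι (ptIdeal p hp))) 1) := by
    rw [← LinearMap.range_eq_top]
    change LinearMap.ker (Canon.HHlin k ((tr G).map (ClSub.toSubscheme (ptIdeal p hp))) 1) =
      LinearMap.range (Canon.HHlin k ((tr G).map (ClSub.idealModι (ptIdeal p hp))) 1) at hex
    rw [← hex]
    ext x
    simp only [LinearMap.mem_ker, Submodule.mem_top, iff_true]
    exact @Subsingleton.elim _ hH1 _ _
  have eGO : (tr G).obj (Coh.structureModule X) ≅ G :=
    Groth.Agent.Lib.Helper23.TensorUnit.unitTensorIso G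
  have eIG : CohB1.tensorMod G (ClSub.idealMod (ptIdeal p hp)) ≅
      (tr G).obj (ClSub.idealMod (ptIdeal p hp)) :=
    Groth.Agent.Lib.T2H4.AmpleAffine.tensorComm G (ClSub.idealMod (ptIdeal p hp))
  have hfin : Module.Finite k (Coh.HH X ((tr G).obj (ClSub.idealMod (ptIdeal p hp))) 1) :=
    Groth.Agent.Lib.T2H6.EulerField.finite_HH k X _
      (Groth.Agent.Lib.T2H6.TensorDeg.isCoh_tensor _ G hIc hGc) 1
  have hle : Module.finrank k (Coh.HH X ((tr G).obj (Coh.structureModule X)) 1) ≤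
      Module.finrank k (Coh.HH X ((tr G).obj (ClSub.idealMod (ptIdeal p hp))) 1) :=
    LinearMap.finrank_le_finrank_of_surjective hsurj
  have h1 : Module.finrank k (Coh.HH X ((tr G).obj (Coh.structureModule X)) 1) =
      Module.finrank k (Coh.HH X G 1) := (HHequiv k eGO 1).finrank_eq
  have h2 : Module.finrank k (Coh.HH X (CohB1.tensorMod G (ClSub.idealMod (ptIdeal p hp))) 1) =
      Module.finrank k (Coh.HH X ((tr G).obj (ClSub.idealMod (ptIdeal p hp))) 1) :=
    (HHequiv k eIG 1).finrank_eq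
  rw [h1, ← h2] at hle
  have hle' : (Module.finrank k (Coh.HH X G 1) : ℤ) ≤
      Module.finrank k (Coh.HH X (CohB1.tensorMod G (ClSub.idealMod (ptIdeal p hp))) 1) := by
    exact_mod_cast hle
  push_cast at hd
  linarith

/-- induction: a semistable bundle of degree `< n · r` has `h⁰ ≤ r · n`. -/
theorem h0_le_aux (hdim : topologicalKrullDim X = 1)
    (hreg : ∀ x : X, IsRegularLocalRing (X.presheaf.stalk x))
    (p : X) (hp : IsClosed ({p} : Set X))
    (hI : PicF.IsInvertible (ClSub.idealMod (ptIdeal p hp)))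
    (hdp : Curv2.deg k X (ClSub.idealMod (ptIdeal p hp)) 1 = -1) :
    ∀ (n : ℕ) (G : X.Modules) (r : ℕ), FlatMod.IsFinLocFreeOfRank r G →
      ModFun.IsSlopeSemistable k X G r → Curv2.deg k X G r < (n : ℤ) * r →
      (Module.finrank k (Coh.HH X G 0) : ℤ) ≤ (r : ℤ) * n := by
  haveI : IsNoetherian X := Groth.Agent.Lib.T2H6.CurveSatur.isNoetherian_of_proper k
  have hI1 := Groth.Agent.Lib.Helper23.SecTw.isFinLocFreeOfRank_one_of_isInvertible _ hI
  intro n
  induction n with
  | zero =>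
    intro G r hG hss hμ
    have h := h0_eq_zero_of_deg_neg k hdim hreg G r hG hss (by simpa using hμ)
    rw [h]
    simp
  | succ n ih =>
    intro G r hG hss hμ
    have hG' : FlatMod.IsFinLocFreeOfRank r (CohB1.tensorMod G (ClSub.idealMod (ptIdeal p hp))) := by
      have h := Groth.Agent.Lib.T2H9.TensorRank.isFinLocFreeOfRank_tensor G _ r 1 hG hI1
      rwa [mul_one] at h
    have hss' := semistable_tensor k hdim G r hG _ hI hss
    have hd := Groth.Agent.Lib.T2H6.TensorDegGen.deg_tensor k hdim.le r 1 G _ hG hI1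
    have hr1 : r * 1 = r := mul_one r
    rw [hr1, hdp] at hd
    have h1 := ih _ r hG' hss' (by rw [hd]; push_cast at hμ ⊢; linarith)
    have h2 := h0_le_twist k hdim G r hG p hp hI
    rw [hdp] at h2
    push_cast
    linarith

/-- **S18831** (general form): `h⁰(G) ≤ r · max(⌊μ⌋ + 1, 0)` for a semistable bundle, given a rational
closed point with invertible ideal. -/
theorem h0_le_floor (hdim : topologicalKrullDim X = 1)
    (hreg : ∀ x : X, IsRegularLocalRing (X.presheaf.stalk x))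
    (p : X) (hp : IsClosed ({p} : Set X))
    (hI : PicF.IsInvertible (ClSub.idealMod (ptIdeal p hp)))
    (hdp : Curv2.deg k X (ClSub.idealMod (ptIdeal p hp)) 1 = -1)
    (r : ℕ) (hr : 0 < r) (G : X.Modules) (hG : FlatMod.IsFinLocFreeOfRank r G)
    (hss : ModFun.IsSlopeSemistable k X G r) :
    (Module.finrank k (Coh.HH X G 0) : ℤ) ≤
      (r : ℤ) * max (⌊(Curv2.deg k X G r : ℚ) / (r : ℚ)⌋ + 1) 0 := by
  obtain ⟨n, hn⟩ : ∃ n : ℕ, (n : ℤ) = max (⌊(Curv2.deg k X G r : ℚ) / (r : ℚ)⌋ + 1) 0 :=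
    ⟨(max (⌊(Curv2.deg k X G r : ℚ) / (r : ℚ)⌋ + 1) 0).toNat, Int.toNat_of_nonneg (le_max_right _ _)⟩
  rw [← hn]
  apply h0_le_aux k hdim hreg p hp hI hdp n G r hG hss
  have hrq : (0 : ℚ) < (r : ℚ) := by exact_mod_cast hr
  have h1 : (Curv2.deg k X G r : ℚ) / (r : ℚ) < (⌊(Curv2.deg k X G r : ℚ) / (r : ℚ)⌋ : ℚ) + 1 :=
    Int.lt_floor_add_one _
  have h2 : ((⌊(Curv2.deg k X G r : ℚ) / (r : ℚ)⌋ + 1 : ℤ) : ℚ) ≤ (n : ℚ) := by
    have : (⌊(Curv2.deg k X G r : ℚ) / (r : ℚ)⌋ + 1 : ℤ) ≤ (n : ℤ) := by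
      rw [hn]; exact le_max_left _ _
    exact_mod_cast this
  have h3 : (Curv2.deg k X G r : ℚ) < (n : ℚ) * (r : ℚ) := by
    rw [div_lt_iff₀ hrq] at h1
    push_cast at h2
    nlinarith
  exact_mod_cast h3

end Groth.Agent.Lib.T2H9.VBH0Bound
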