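import Mathlib
import Groth.Prelude
import Groth.Agent.Lib.T2H9VBSlope

set_option autoImplicit false
set_option linter.style.haveILetI false
set_option linter.unusedSectionVars false
set_option linter.unusedVariables false
universe u

open CategoryTheory CategoryTheory.Limits AlgebraicGeometry

namespace Groth.Agent.Lib.T2H9.VBSlopeTw

open Groth.Agent.Lib.T2H5.Twist Groth.Agent.Lib.T2H9.TensorInv Groth.Agent.Lib.T2H6.CurveSerre
  Groth.Agent.Lib.T2H6.HHLin Groth.Agent.Lib.T2H9.VBSimple Groth.Agent.Lib.T2H9.CurveDual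
  Groth.Agent.Lib.T2H6.CurveSS2 Groth.Agent.Lib.T2H9.CurveOmega

variable (k : Type u) [Field k] {X : Scheme.{u}} [X.Over (Spec (CommRingCat.of k))]
  [IsProper (X ↘ Spec (CommRingCat.of k))] [IsIntegral X]

/-- the kernel of a nonzero map from a bundle `E` to an invertible module `L'` is a subbundle `K` of corank one with
`deg E - deg K ≤ deg L'`. -/
theorem exists_sub_of_hom (hdim : topologicalKrullDim X = 1)
    (hreg : ∀ x : X, IsRegularLocalRing (X.presheaf.stalk x))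
    (r : ℕ) (E : X.Modules) (hE : FlatMod.IsFinLocFreeOfRank r E)
    (L' : X.Modules) (hinv : PicF.IsInvertible L') (φ : E ⟶ L') (hφ : φ ≠ 0) :
    ∃ (rK : ℕ) (K : X.Modules) (i : K ⟶ E), r = rK + 1 ∧ Mono i ∧ FlatMod.IsFinLocFreeOfRank rK K ∧
      Curv2.deg k X E r - Curv2.deg k X K rK ≤ Curv2.deg k X L' 1 := by
  have hω1 := Groth.Agent.Lib.Helper23.SecTw.isFinLocFreeOfRank_one_of_isInvertible L' hinv
  obtain ⟨rK, rI, hK, hI, hrk, hrI, hdE⟩ :=
    Groth.Agent.Lib.T2H6.CurveVB.ker_im_data k hdim hreg φ r 1 hE hω1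
  have hrI0 : rI ≠ 0 := by
    intro h
    subst h
    apply hφ
    rw [← Abelian.image.fac φ]
    have hz := Groth.Agent.Lib.T2H6.CurveVB.isZero_of_rank_zero _ hI
    rw [hz.eq_of_tgt (Abelian.factorThruImage φ) 0, zero_comp]
  have hrI1 : rI = 1 := by omega
  subst hrI1
  have hIinv : PicF.IsInvertible (Abelian.image φ) :=
    Groth.Agent.Lib.T2H6.CurveExt.isInvertible_of_rank_one _ hI
  have hιne : Abelian.image.ι φ ≠ 0 := by
    intro h
    apply hφ
    rw [← Abelian.image.fac φ, h, comp_zero]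
  have hle := Groth.Agent.Lib.T2H6.CurveDeg.deg_le k hdim hIinv hinv (Abelian.image.ι φ) hιne
  refine ⟨rK, kernel φ, kernel.ι φ, hrk, inferInstance, hK, ?_⟩
  rw [hdE]
  linarith

/-- if `H¹(E ⊗ N) ≠ 0` with `N` invertible then `E` has a subbundle `K` of corank one with
`deg E - deg K ≤ 2g - 2 - deg N`. -/
theorem exists_sub_of_h1_tensor (hdim : topologicalKrullDim X = 1)
    (hreg : ∀ x : X, IsRegularLocalRing (X.presheaf.stalk x))
    (h0 : Module.finrank k (Coh.HH X (Coh.structureModule X) 0) = 1)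
    (r : ℕ) (E : X.Modules) (hE : FlatMod.IsFinLocFreeOfRank r E)
    (N : X.Modules) (hN : PicF.IsInvertible N)
    (h1 : Nontrivial (Coh.HH X (CohB1.tensorMod E N) 1)) :
    ∃ (rK : ℕ) (K : X.Modules) (i : K ⟶ E), r = rK + 1 ∧ Mono i ∧ FlatMod.IsFinLocFreeOfRank rK K ∧
      Curv2.deg k X E r - Curv2.deg k X K rK ≤ 2 * (Curv2.genus k X : ℤ) - 2 - Curv2.deg k X N 1 := by
  obtain ⟨ω, tr', hd, hω, hinv, hdeg, -, -⟩ := exists_omega k hdim hreg h0 (X := X)
  have hEc := Groth.Agent.Lib.T2H6.RankAdd.isCoh_of_isFinLocFreeOfRank E r hE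
  have hNc := Groth.Agent.Lib.T2H6.CurveDeg.isCoh_of_isInvertible N hN
  have hENc := Groth.Agent.Lib.T2H6.TensorDeg.isCoh_tensor E N hEc hNc
  obtain ⟨ψ, hψ⟩ := exists_hom_ne_zero hd (CohB1.tensorMod E N) hENc.1 h1
  haveI := isEquivalence_tr (inv N) (isInvertible_inv N hN)
  let b : (tr (inv N)).obj (CohB1.tensorMod E N) ≅ E := (trCompIsoId (tensorInvIso N hN)).app E
  have hL' : PicF.IsInvertible (CohB1.tensorMod ω (inv N)) :=
    Groth.Agent.Lib.Helper23.SecTw.isInvertible_tensorMod hinv (isInvertible_inv N hN)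
  obtain ⟨φ, hφdef⟩ : ∃ φ : E ⟶ CohB1.tensorMod ω (inv N), φ = b.inv ≫ (tr (inv N)).map ψ := ⟨_, rfl⟩
  have hφ : φ ≠ 0 := by
    intro h
    apply hψ
    apply (tr (inv N)).map_injective
    rw [Functor.map_zero]
    have h2 : b.inv ≫ (tr (inv N)).map ψ = 0 := hφdef ▸ h
    rw [Iso.inv_comp_eq, comp_zero] at h2
    exact h2
  obtain ⟨rK, K, i, hrk, hi, hK, hle⟩ := exists_sub_of_hom k hdim hreg r E hE _ hL' φ hφ
  refine ⟨rK, K, i, hrk, hi, hK, ?_⟩
  rw [Groth.Agent.Lib.T2H6.PtTwistD.deg_tensor1 k hdim ω (inv N) hinv (isInvertible_inv N hN),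
    Groth.Agent.Lib.T2H6.PtTwistD.deg_inv k hdim N hN, hdeg] at hle
  linarith

end Groth.Agent.Lib.T2H9.VBSlopeTw
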