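import Mathlib
import Groth.Prelude
import Groth.Agent.Lib.T2H9VBH0Bound
import Groth.Agent.Lib.T2H9DualHom
import Groth.Agent.Lib.T2H6CurveSS
import Groth.Agent.Lib.T2H9VBSlopeTw

/-!
# Splitting of extensions of semistable bundles via Serre duality and dual bundles (helper9): S18779
-/

set_option autoImplicit false
set_option linter.style.haveILetI false
set_option linter.unusedSectionVars false
set_option linter.unusedVariables false
universe u

open CategoryTheory CategoryTheory.Limits AlgebraicGeometry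

namespace Groth.Agent.Lib.T2H9.VBSplit

open Groth.Agent.Lib.T2H5.Twist Groth.Agent.Lib.T2H9.TensorInv Groth.Agent.Lib.T2H6.CurveSerre
  Groth.Agent.Lib.T2H6.HHLin Groth.Agent.Lib.T2H9.VBSimple Groth.Agent.Lib.T2H9.VBNorm
  Groth.Agent.Lib.T2H9.CurveDual Groth.Agent.Lib.T2H9.CurveOmega
  Groth.Agent.Lib.Helper21.Dual Groth.Agent.Lib.T2H9.DualHom
  Groth.Agent.Lib.Helper21.ModTensor Groth.Agent.Lib.Helper21.ModTensor2
  Groth.Agent.Lib.Helper21.ModTensor3 Groth.Agent.Lib.Helper21.ModTensor4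
  Groth.Agent.Lib.Helper21.ModTensor5
  Groth.Agent.Lib.Helper21.ModTensor6 Groth.Agent.Lib.Helper21.ModTensor7

variable (k : Type u) [Field k] {X : Scheme.{u}} [X.Over (Spec (CommRingCat.of k))]

/-- the dual bundle, as an `O_X`-module. -/
noncomputable def dualMod (B : X.Modules) : X.Modules := dual (O := X.sheaf) B

include k in
/-- an extension `0 → A → E → B → 0` with `B` finite locally free and `H¹(A ⊗ B^∨) = 0` splits. -/
theorem isSplitEpi_of_h1 (T : ShortComplex X.Modules) (hT : T.ShortExact)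
    (hB : FlatMod.IsFinLocFree T.X₃)
    (h1 : Subsingleton (Coh.HH X (CohB1.tensorMod T.X₁ (dualMod T.X₃)) 1)) : IsSplitEpi T.g := by
  have hL : IsLocFF (O := X.sheaf) T.X₃ := isLocFF_of_isFinLocFree T.X₃ hB
  have hD : FlatMod.IsFinLocFree (dualMod T.X₃) := Groth.Agent.Lib.T2H9.LocFF.isFinLocFree_dual T.X₃ hB
  haveI := Groth.Agent.Lib.T2H6.TensorDeg.preservesFiniteLimits_tr_of_isFinLocFree (dualMod T.X₃) hD
  haveI := preservesFiniteColimits_tr (dualMod T.X₃)
  have hT' : (T.map (tr (dualMod T.X₃))).ShortExact := hT.map_of_exact (tr (dualMod T.X₃))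
  have hsurj := surjective_g (A := k) (T.map (tr (dualMod T.X₃))) hT' 0 h1
  obtain ⟨u, hu⟩ : ∃ u : Coh.structureModule X ⟶ (tr (dualMod T.X₃)).obj T.X₃,
      u = homDualEquiv (O := X.sheaf) T.X₃ hL T.X₃ (𝟙 T.X₃) := ⟨_, rfl⟩
  obtain ⟨x, hx⟩ := hsurj (evLin k _ u)
  obtain ⟨v, hv⟩ := (bijective_evLin k ((tr (dualMod T.X₃)).obj T.X₂)).2 x
  have hvg : v ≫ (tr (dualMod T.X₃)).map T.g = u := by
    apply (bijective_evLin k _).1
    change Canon.HHlin k (v ≫ (tr (dualMod T.X₃)).map T.g) 0 (unitClass X) = evLin k _ u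
    rw [HHlin_comp_apply]
    change Canon.HHlin k ((tr (dualMod T.X₃)).map T.g) 0 (evLin k _ v) = _
    rw [hv]
    exact hx
  obtain ⟨σ, hσ⟩ : ∃ σ : T.X₃ ⟶ T.X₂, σ = (homDualEquiv (O := X.sheaf) T.X₃ hL T.X₂).symm v := ⟨_, rfl⟩
  have hσv : homDualEquiv (O := X.sheaf) T.X₃ hL T.X₂ σ = v := by
    rw [hσ]; exact AddEquiv.apply_symm_apply _ _
  have hsec : σ ≫ T.g = 𝟙 T.X₃ := by
    apply (homDualEquiv (O := X.sheaf) T.X₃ hL T.X₃).injective
    refine (homDualEquiv_naturality (O := X.sheaf) T.X₃ hL T.g σ).trans ?_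
    exact (congrArg (fun t => t ≫ (tr (dualMod T.X₃)).map T.g) hσv).trans (hvg.trans hu)
  exact IsSplitEpi.mk' ⟨σ, hsec⟩

variable [IsProper (X ↘ Spec (CommRingCat.of k))] [IsIntegral X]

/-- `H¹(A ⊗ B^∨) = 0` for semistable bundles with `μ(A) > μ(B) + 2g - 2`. -/
theorem h1_tensor_dual_subsingleton (hdim : topologicalKrullDim X = 1)
    (hreg : ∀ x : X, IsRegularLocalRing (X.presheaf.stalk x))
    (h0 : Module.finrank k (Coh.HH X (Coh.structureModule X) 0) = 1)
    (A B : X.Modules) (a b : ℕ) (ha : 0 < a) (hb : 0 < b)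
    (hA : FlatMod.IsFinLocFreeOfRank a A) (hB : FlatMod.IsFinLocFreeOfRank b B)
    (hAss : ModFun.IsSlopeSemistable k X A a) (hBss : ModFun.IsSlopeSemistable k X B b)
    (hslope : (Curv2.deg k X B b + (b : ℤ) * (2 * (Curv2.genus k X : ℤ) - 2)) * (a : ℤ) <
      Curv2.deg k X A a * (b : ℤ)) :
    Subsingleton (Coh.HH X (CohB1.tensorMod A (dualMod B)) 1) := by
  haveI : IsNoetherian X := Groth.Agent.Lib.T2H6.CurveSatur.isNoetherian_of_proper k
  have hBlf : FlatMod.IsFinLocFree B := fun x => by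
    obtain ⟨U, hx, h⟩ := hB x
    exact ⟨U, b, hx, h⟩
  have hL : IsLocFF (O := X.sheaf) B := isLocFF_of_isFinLocFree B hBlf
  have hD : FlatMod.IsFinLocFree (dualMod B) := Groth.Agent.Lib.T2H9.LocFF.isFinLocFree_dual B hBlf
  have hAc := Groth.Agent.Lib.T2H6.RankAdd.isCoh_of_isFinLocFreeOfRank A a hA
  have hDc : Coh.IsCoh (dualMod B) := Groth.Agent.Lib.T2H5.RegPush.isCoh_of_isFinLocFree _ hD
  have hADc := Groth.Agent.Lib.T2H6.TensorDeg.isCoh_tensor A (dualMod B) hAc hDc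
  by_contra hns
  rw [not_subsingleton_iff_nontrivial] at hns
  obtain ⟨ω, tr', hd, hω, hinv, hdeg, -, -⟩ := exists_omega k hdim hreg h0 (X := X)
  have hω1 := Groth.Agent.Lib.Helper23.SecTw.isFinLocFreeOfRank_one_of_isInvertible ω hinv
  obtain ⟨ψ, hψ⟩ := exists_hom_ne_zero hd (CohB1.tensorMod A (dualMod B)) hADc.1 hns
  -- adjunction
  obtain ⟨ψ', hψ'⟩ : ∃ ψ' : A ⟶ (tr B).obj ω,
      ψ' = ((dualAdjSw (O := X.sheaf) B hL).homAddEquiv A ω) ψ := ⟨_, rfl⟩
  have hψ'ne : ψ' ≠ 0 := by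
    intro h
    apply hψ
    have h2 : ((dualAdjSw (O := X.sheaf) B hL).homAddEquiv A ω) ψ = 0 := hψ'.symm.trans h
    exact (AddEquiv.map_eq_zero_iff _).1 h2
  -- `ω ⊗ B ≅ B ⊗ ω` is semistable of degree `deg B + b (2g - 2)`
  have e : (tr B).obj ω ≅ CohB1.tensorMod B ω := Groth.Agent.Lib.T2H4.AmpleAffine.tensorComm ω B
  have hF : FlatMod.IsFinLocFreeOfRank b (CohB1.tensorMod B ω) := by
    have h := Groth.Agent.Lib.T2H9.TensorRank.isFinLocFreeOfRank_tensor B ω b 1 hB hω1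
    rwa [mul_one] at h
  have hFss := Groth.Agent.Lib.T2H9.VBH0Bound.semistable_tensor k hdim B b hB ω hinv hBss
  have hdF := Groth.Agent.Lib.T2H6.TensorDegGen.deg_tensor k hdim.le b 1 B ω hB hω1
  have hb1 : b * 1 = b := mul_one b
  rw [hb1, hdeg] at hdF
  have hz := Groth.Agent.Lib.T2H6.CurveSS.hom_eq_zero k hdim hreg a b ha A (CohB1.tensorMod B ω) hA hF hAss
    (by
      intro G r' i hi hr' hG
      have h1 := hFss G r' i hi hr' hG
      rw [hdF] at h1
      have ha0 : (0 : ℤ) < (a : ℤ) := by exact_mod_cast ha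
      have hb0 : (0 : ℤ) < (b : ℤ) := by exact_mod_cast hb
      have hr0 : (0 : ℤ) < (r' : ℤ) := by exact_mod_cast hr'
      by_contra hcon
      rw [not_lt] at hcon
      have h2 := mul_le_mul_of_nonneg_right hcon hb0.le
      have h3 := mul_le_mul_of_nonneg_right h1 ha0.le
      have h4 := mul_lt_mul_of_pos_right hslope hr0
      push_cast at h1 h3 h4
      nlinarith)
    (ψ' ≫ e.hom)
  apply hψ'ne
  rw [← cancel_mono e.hom, hz, zero_comp]

end Groth.Agent.Lib.T2H9.VBSplit
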