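import Mathlib
import Groth.Prelude
import Groth.Agent.Lib.T2H9VBSplit

/-!
# Degree of the dual bundle on a curve (helper9)
-/

set_option autoImplicit false
set_option linter.style.haveILetI false
set_option linter.unusedSectionVars false
set_option linter.unusedVariables false
universe u

open CategoryTheory CategoryTheory.Limits AlgebraicGeometry

namespace Groth.Agent.Lib.T2H9.DegDual

open Groth.Agent.Lib.T2H5.Twist Groth.Agent.Lib.T2H9.TensorInv Groth.Agent.Lib.T2H6.CurveSerre
  Groth.Agent.Lib.T2H6.HHLin Groth.Agent.Lib.T2H9.VBSimple Groth.Agent.Lib.T2H9.VBNorm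
  Groth.Agent.Lib.T2H9.CurveDual Groth.Agent.Lib.T2H9.CurveOmega
  Groth.Agent.Lib.Helper21.Dual Groth.Agent.Lib.T2H9.DualHom Groth.Agent.Lib.T2H9.VBSplit
  Groth.Agent.Lib.Helper21.ModTensor Groth.Agent.Lib.Helper21.ModTensor2
  Groth.Agent.Lib.Helper21.ModTensor3 Groth.Agent.Lib.Helper21.ModTensor4
  Groth.Agent.Lib.Helper21.ModTensor5
  Groth.Agent.Lib.Helper21.ModTensor6 Groth.Agent.Lib.Helper21.ModTensor7

variable (k : Type u) [Field k] {X : Scheme.{u}} [X.Over (Spec (CommRingCat.of k))]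

/-- the hom-set bijection of an adjunction between twists is `k`-linear. -/
noncomputable def adjLinearEquiv {D D' : X.Modules} (adj : tr D ⊣ tr D') (M N : X.Modules) :
    ((tr D).obj M ⟶ N) ≃ₗ[k] (M ⟶ (tr D').obj N) where
  toFun := adj.homEquiv M N
  invFun := (adj.homEquiv M N).symm
  left_inv := (adj.homEquiv M N).left_inv
  right_inv := (adj.homEquiv M N).right_inv
  map_add' f g := by
    rw [Adjunction.homEquiv_unit, Adjunction.homEquiv_unit, Adjunction.homEquiv_unit,
      Functor.map_add, Preadditive.comp_add]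
  map_smul' c f := by
    rw [Adjunction.homEquiv_unit, Adjunction.homEquiv_unit, tr_map_smul', Linear.comp_smul]
    rfl

/-- precomposition with an isomorphism, linearly. -/
noncomputable def precompLinearEquiv {M M' : X.Modules} (e : M ≅ M') (N : X.Modules) :
    (M' ⟶ N) ≃ₗ[k] (M ⟶ N) where
  toFun f := e.hom ≫ f
  invFun g := e.inv ≫ g
  left_inv f := by simp
  right_inv g := by simp
  map_add' f g := Preadditive.comp_add _ _ _ _ _ _
  map_smul' c f := Linear.comp_smul _ _ _ _ _ _

/-- postcomposition with an isomorphism, linearly. -/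
noncomputable def postcompLinearEquiv (M : X.Modules) {N N' : X.Modules} (e : N ≅ N') :
    (M ⟶ N) ≃ₗ[k] (M ⟶ N') where
  toFun f := f ≫ e.hom
  invFun g := g ≫ e.inv
  left_inv f := by simp
  right_inv g := by simp
  map_add' f g := Preadditive.add_comp _ _ _ _ _ _
  map_smul' c f := Linear.smul_comp _ _ _ _ _ _

/-- a twist by an invertible module is fully faithful, linearly. -/
noncomputable def trLinearEquiv (N : X.Modules) (hN : PicF.IsInvertible N) (M M' : X.Modules) :
    (M ⟶ M') ≃ₗ[k] ((tr N).obj M ⟶ (tr N).obj M') :=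
  haveI := isEquivalence_tr N hN
  LinearEquiv.ofBijective
    { toFun := fun f => (tr N).map f
      map_add' := fun f g => Functor.map_add _
      map_smul' := fun c f => tr_map_smul' k N c f }
    ⟨fun f g h => (tr N).map_injective h, fun g => (tr N).map_surjective g⟩

variable [IsProper (X ↘ Spec (CommRingCat.of k))] [IsIntegral X]

/-- `dim Hom(F, ω) = h¹(F)` for a dualizing pair on a proper curve. -/
theorem finrank_hom_omega {ω : X.Modules} {tr' : Coh.HH X ω 1 →ₗ[k] k}
    (hd : Canon.IsRDualOver k X 1 ω tr') (F : X.Modules) (hF : Coh.IsCoh F) :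
    Module.finrank k (F ⟶ ω) = Module.finrank k (Coh.HH X F 1) := by
  haveI : Module.Finite k (Coh.HH X F 1) := Groth.Agent.Lib.T2H6.EulerField.finite_HH k X F hF 1
  have e : (F ⟶ ω) ≃ₗ[k] (Coh.HH X F 1 →ₗ[k] k) :=
    LinearEquiv.ofBijective (dualityLin ω tr' F) (hd.2 F hF.1)
  rw [e.finrank_eq]
  exact Subspace.dual_finrank_eq

/-- **The degree of the dual bundle.** -/
theorem deg_dual (hdim : topologicalKrullDim X = 1)
    (hreg : ∀ x : X, IsRegularLocalRing (X.presheaf.stalk x))
    (h0 : Module.finrank k (Coh.HH X (Coh.structureModule X) 0) = 1)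
    (B : X.Modules) (b : ℕ) (hB : FlatMod.IsFinLocFreeOfRank b B) :
    Curv2.deg k X (dualMod B) b = - Curv2.deg k X B b := by
  haveI : IsNoetherian X := Groth.Agent.Lib.T2H6.CurveSatur.isNoetherian_of_proper k
  have hBlf : FlatMod.IsFinLocFree B := fun x => by
    obtain ⟨U, hx, h⟩ := hB x
    exact ⟨U, b, hx, h⟩
  have hL : IsLocFF (O := X.sheaf) B := isLocFF_of_isFinLocFree B hBlf
  have hD : FlatMod.IsFinLocFree (dualMod B) := Groth.Agent.Lib.T2H9.LocFF.isFinLocFree_dual B hBlf
  have hBc := Groth.Agent.Lib.T2H6.RankAdd.isCoh_of_isFinLocFreeOfRank B b hB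
  have hDc : Coh.IsCoh (dualMod B) := Groth.Agent.Lib.T2H5.RegPush.isCoh_of_isFinLocFree _ hD
  haveI := hDc.1
  haveI : (Coh.structureModule X).IsQuasicoherent :=
    (Groth.Agent.Lib.T2H5.GenIsoF.isCoh_structureModule (Z := X)).1
  obtain ⟨ω, tr', hd, hω, hinv, hdeg, -, -⟩ := exists_omega k hdim hreg h0 (X := X)
  have hω1 := Groth.Agent.Lib.Helper23.SecTw.isFinLocFreeOfRank_one_of_isInvertible ω hinv
  have hBωc := Groth.Agent.Lib.T2H6.TensorDeg.isCoh_tensor B ω hBc hω
  haveI := hBωc.1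
  -- (a) `h¹(B^∨) = h⁰(ω ⊗ B)`
  have ha : Module.finrank k (Coh.HH X (dualMod B) 1) =
      Module.finrank k (Coh.HH X (CohB1.tensorMod B ω) 0) := by
    rw [← finrank_hom_omega k hd _ hDc]
    have e1 : (dualMod B ⟶ ω) ≃ₗ[k] ((tr (dualMod B)).obj (Coh.structureModule X) ⟶ ω) :=
      precompLinearEquiv k (Groth.Agent.Lib.Helper23.TensorUnit.unitTensorIso (dualMod B)) ω
    have e2 : ((tr (dualMod B)).obj (Coh.structureModule X) ⟶ ω) ≃ₗ[k]
        (Coh.structureModule X ⟶ (tr B).obj ω) :=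
      adjLinearEquiv k (dualAdjSw (O := X.sheaf) B hL) _ _
    have e3 : (Coh.structureModule X ⟶ (tr B).obj ω) ≃ₗ[k]
        (Coh.structureModule X ⟶ CohB1.tensorMod B ω) :=
      postcompLinearEquiv k _ (Groth.Agent.Lib.T2H4.AmpleAffine.tensorComm ω B)
    rw [(e1.trans (e2.trans e3)).finrank_eq, finrank_hom_eq]
  -- (b) `h⁰(B^∨) = h¹(B ⊗ ω)`
  have hb' : Module.finrank k (Coh.HH X (dualMod B) 0) =
      Module.finrank k (Coh.HH X (CohB1.tensorMod B ω) 1) := by
    rw [← finrank_hom_eq k (dualMod B), ← finrank_hom_omega k hd _ hBωc]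
    have e1 : (Coh.structureModule X ⟶ dualMod B) ≃ₗ[k]
        (Coh.structureModule X ⟶ (tr (dualMod B)).obj (Coh.structureModule X)) :=
      postcompLinearEquiv k _ (Groth.Agent.Lib.Helper23.TensorUnit.unitTensorIso (dualMod B)).symm
    have e2 : ((tr B).obj (Coh.structureModule X) ⟶ Coh.structureModule X) ≃ₗ[k]
        (Coh.structureModule X ⟶ (tr (dualMod B)).obj (Coh.structureModule X)) :=
      adjLinearEquiv k (dualAdj (O := X.sheaf) B hL) _ _
    have e3 : (B ⟶ Coh.structureModule X) ≃ₗ[k]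
        ((tr B).obj (Coh.structureModule X) ⟶ Coh.structureModule X) :=
      precompLinearEquiv k (Groth.Agent.Lib.Helper23.TensorUnit.unitTensorIso B) _
    have e4 : (B ⟶ Coh.structureModule X) ≃ₗ[k]
        ((tr ω).obj B ⟶ (tr ω).obj (Coh.structureModule X)) := trLinearEquiv k ω hinv _ _
    have e5 : ((tr ω).obj B ⟶ (tr ω).obj (Coh.structureModule X)) ≃ₗ[k] ((tr ω).obj B ⟶ ω) :=
      postcompLinearEquiv k _ (Groth.Agent.Lib.Helper23.TensorUnit.unitTensorIso ω)
    rw [(e1.trans (e2.symm.trans (e3.symm.trans (e4.trans e5)))).finrank_eq]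
    rfl
  -- Euler characteristics
  have eD := Groth.Agent.Lib.T2H6.CurveRR.euler_eq_sub k hdim (dualMod B)
  have eBω := Groth.Agent.Lib.T2H6.CurveRR.euler_eq_sub k hdim (CohB1.tensorMod B ω)
  have eO := Groth.Agent.Lib.T2H6.CurveRR.euler_eq_sub k hdim (Coh.structureModule X)
  have hgg : (Module.finrank k (Coh.HH X (Coh.structureModule X) 1) : ℤ) = (Curv2.genus k X : ℤ) := rfl
  rw [h0, hgg] at eO
  have hdT := Groth.Agent.Lib.T2H6.TensorDegGen.deg_tensor k hdim.le b 1 B ω hB hω1
  have hb1 : b * 1 = b := mul_one b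
  rw [hb1, hdeg] at hdT
  have hd1 : Curv2.deg k X (CohB1.tensorMod B ω) b = Curv2.euler k X (CohB1.tensorMod B ω) -
      b * Curv2.euler k X (Coh.structureModule X) := rfl
  have hd2 : Curv2.deg k X (dualMod B) b = Curv2.euler k X (dualMod B) -
      b * Curv2.euler k X (Coh.structureModule X) := rfl
  rw [hd2, eD, ha, hb', eO]
  rw [hd1, eBω, eO] at hdT
  push_cast at hdT ⊢
  linarith

end Groth.Agent.Lib.T2H9.DegDual
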