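import Mathlib

/-!
# Algebra lemmas for global sections of proper schemes over fields (helper9, S1536/S7615)
-/

set_option autoImplicit false
set_option linter.style.haveILetI false
set_option linter.unusedSectionVars false
universe u
open TensorProduct Polynomial

namespace Groth.Agent.Lib.T2H9.GammaBCAlg

/-- an integral, reduced algebra without nontrivial idempotents over an algebraically closed field
is trivial -/
theorem surjective_of_isIntegral_of_isAlgClosed {K B : Type*} [Field K] [IsAlgClosed K]
    [CommRing B] [IsReduced B] [Nontrivial B] (ι : K →+* B) (hint : ι.IsIntegral)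
    (hidem : ∀ e : B, IsIdempotentElem e → e = 0 ∨ e = 1) : Function.Surjective ι := by
  letI : Algebra K B := ι.toAlgebra
  intro h
  have hh : IsIntegral K h := hint h
  set p := minpoly K h with hp
  have hp0 : p ≠ 0 := minpoly.ne_zero hh
  have hdeg : p.degree ≠ 0 := by
    have := minpoly.degree_pos hh
    exact ne_of_gt this
  obtain ⟨α, hα⟩ := IsAlgClosed.exists_root p hdeg
  obtain ⟨q, hq, hndvd⟩ := Polynomial.exists_eq_pow_rootMultiplicity_mul_and_not_dvd p hp0 α
  set m := p.rootMultiplicity α with hm
  have hmpos : 0 < m := (Polynomial.rootMultiplicity_pos hp0).mpr hα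
  have hcop : IsCoprime ((X - C α) ^ m) q := by
    apply IsCoprime.pow_left
    exact (Polynomial.irreducible_X_sub_C α).coprime_iff_not_dvd.mpr hndvd
  obtain ⟨a, b, hab⟩ := hcop
  set u : B := aeval h ((X - C α) ^ m) with hu
  set v : B := aeval h q with hv
  have huv : u * v = 0 := by
    rw [hu, hv, ← map_mul, ← hq, hp, minpoly.aeval]
  have hsum : aeval h a * u + aeval h b * v = 1 := by
    rw [hu, hv, ← map_mul, ← map_mul, ← map_add, hab, map_one]
  have he : IsIdempotentElem (aeval h a * u) := by
    unfold IsIdempotentElem
    have h1 : aeval h a * u = 1 - aeval h b * v := by rw [← hsum]; ring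
    calc aeval h a * u * (aeval h a * u) = aeval h a * u * (1 - aeval h b * v) := by rw [← h1]
      _ = aeval h a * u - aeval h a * aeval h b * (u * v) := by ring
      _ = aeval h a * u := by rw [huv, mul_zero, sub_zero]
  rcases hidem _ he with h0 | h1
  · -- `v` is a unit, so `u = 0`
    have hvunit : aeval h b * v = 1 := by rw [← hsum, h0, zero_add]
    have hu0 : u = 0 := by
      calc u = u * (aeval h b * v) := by rw [hvunit, mul_one]
        _ = aeval h b * (u * v) := by ring
        _ = 0 := by rw [huv, mul_zero]
    have hnil : IsNilpotent (h - algebraMap K B α) := by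
      refine ⟨m, ?_⟩
      have : u = (h - algebraMap K B α) ^ m := by
        rw [hu, map_pow, map_sub, aeval_X, aeval_C]
      rw [← this, hu0]
    have := hnil.eq_zero
    exact ⟨α, (sub_eq_zero.mp this).symm⟩
  · -- `u` is a unit, so `v = 0`, contradicting minimality
    exfalso
    have hv0 : v = 0 := by
      calc v = (aeval h a * u) * v := by rw [h1, one_mul]
        _ = aeval h a * (u * v) := by ring
        _ = 0 := by rw [huv, mul_zero]
    have hq0 : q ≠ 0 := by
      rintro rfl
      rw [mul_zero] at hq
      exact hp0 hq
    have hle := minpoly.degree_le_of_ne_zero K h hq0 hv0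
    have hle' : p.natDegree ≤ q.natDegree := Polynomial.natDegree_le_natDegree hle
    have hnat : p.natDegree = m + q.natDegree := by
      conv_lhs => rw [hq]
      rw [Polynomial.natDegree_mul (pow_ne_zero _ (Polynomial.X_sub_C_ne_zero α)) hq0,
        Polynomial.natDegree_pow, Polynomial.natDegree_X_sub_C, mul_one]
    omega

/-- if `A ⊗[R] K' → B` is injective, `K' → B` is surjective and `R` is a field, then `R → A`
is surjective -/
theorem surjective_algebraMap_of_injective_productMap {R A K' B : Type u} [Field R]
    [CommRing A] [Algebra R A] [Nontrivial A] [CommRing K'] [Nontrivial K'] [Algebra R K'] [CommRing B]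
    [Algebra R B] (φ : A →ₐ[R] B) (ι : K' →ₐ[R] B)
    (hinj : Function.Injective (Algebra.TensorProduct.productMap φ ι))
    (hsurj : Function.Surjective ι) : Function.Surjective (algebraMap R A) := by
  intro f
  by_contra hf
  obtain ⟨c₀, hc₀⟩ := hsurj (φ f)
  have h1 : (f ⊗ₜ[R] (1 : K')) = (1 : A) ⊗ₜ[R] c₀ := by
    apply hinj
    rw [Algebra.TensorProduct.productMap_apply_tmul, Algebra.TensorProduct.productMap_apply_tmul,
      map_one, map_one, mul_one, one_mul, hc₀]
  have h2 : (1 : K') ⊗ₜ[R] f = c₀ ⊗ₜ[R] (1 : A) := by
    have := congrArg (Algebra.TensorProduct.comm R A K') h1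
    rwa [Algebra.TensorProduct.comm_tmul, Algebra.TensorProduct.comm_tmul] at this
  have hli : LinearIndependent R ![(1 : A), f] := by
    rw [LinearIndependent.pair_iff]
    intro s t hst
    by_cases ht : t = 0
    · subst ht
      rw [zero_smul, add_zero] at hst
      have : s = 0 := by
        by_contra hs
        have h3 : (1 : A) = 0 := by
          have := congrArg (fun x => s⁻¹ • x) hst
          simpa [smul_smul, inv_mul_cancel₀ hs] using this
        exact one_ne_zero h3
      exact ⟨this, rfl⟩
    · exfalso
      apply hf
      refine ⟨-(t⁻¹ * s), ?_⟩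
      have h3 : t • f = -(s • (1 : A)) := by
        rw [eq_neg_iff_add_eq_zero, add_comm]; exact hst
      have h4 : f = t⁻¹ • (t • f) := by rw [smul_smul, inv_mul_cancel₀ ht, one_smul]
      rw [h4, h3, Algebra.algebraMap_eq_smul_one, smul_neg, smul_smul, neg_smul]
  have hli2 := Module.Flat.linearIndependent_one_tmul (S := K') hli
  have h5 := Fintype.linearIndependent_iff.mp hli2 ![-c₀, 1] (by
    rw [Fin.sum_univ_two]
    simp only [Matrix.cons_val_zero, Matrix.cons_val_one]
    rw [h2, one_smul, TensorProduct.smul_tmul', smul_eq_mul, mul_one, ← TensorProduct.add_tmul,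
      neg_add_cancel, TensorProduct.zero_tmul]) (1 : Fin 2)
  simp only [Matrix.cons_val_one] at h5
  exact one_ne_zero h5

end Groth.Agent.Lib.T2H9.GammaBCAlg
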