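import Mathlib
import Groth.Agent.Lib.T2H9GammaBCAlg

/-!
# Global sections of proper schemes over fields (helper9, S1536/S7615)
-/

set_option autoImplicit false
set_option linter.style.haveILetI false
set_option linter.unusedSectionVars false
universe u
open CategoryTheory CategoryTheory.Limits AlgebraicGeometry TensorProduct

namespace Groth.Agent.Lib.T2H9.GammaBC

open Groth.Agent.Lib.T2H9.GammaBCAlg

/-- on a connected reduced scheme every idempotent global function is trivial -/
theorem eq_zero_or_eq_one_of_isIdempotentElem (Y : Scheme.{u}) [IsReduced Y] [ConnectedSpace Y]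
    (e : Γ(Y, ⊤)) (he : IsIdempotentElem e) : e = 0 ∨ e = 1 := by
  have h1 : Y.basicOpen e ⊓ Y.basicOpen (1 - e) = ⊥ := by
    rw [← Scheme.basicOpen_mul, mul_sub, mul_one, he.eq, sub_self, Scheme.basicOpen_zero]
  have h2 : ∀ y : Y, y ∈ Y.basicOpen e ∨ y ∈ Y.basicOpen (1 - e) := by
    intro y
    rw [Scheme.mem_basicOpen_top, Scheme.mem_basicOpen_top]
    apply IsLocalRing.isUnit_or_isUnit_of_add_one
    rw [← map_add, add_sub_cancel, map_one]
  have hcompl : ((Y.basicOpen e : Set Y))ᶜ = (Y.basicOpen (1 - e) : Set Y) := by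
    ext y
    constructor
    · intro hy
      exact (h2 y).resolve_left hy
    · intro hy hy'
      have : y ∈ Y.basicOpen e ⊓ Y.basicOpen (1 - e) := ⟨hy', hy⟩
      rw [h1] at this
      exact this
  have hclopen : IsClopen (Y.basicOpen e : Set Y) :=
    ⟨⟨by rw [hcompl]; exact (Y.basicOpen (1 - e)).2⟩, (Y.basicOpen e).2⟩
  rcases isClopen_iff.mp hclopen with h | h
  · left
    apply (basicOpen_eq_bot_iff e).mp
    ext y
    simp [h]
  · right
    have h3 : Y.basicOpen (1 - e) = ⊥ := by
      apply SetLike.coe_injective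
      rw [← hcompl, h, Set.compl_univ]
      rfl
    have := (basicOpen_eq_bot_iff (1 - e)).mp h3
    exact (sub_eq_zero.mp this).symm

lemma appLE_top_top {X Y : Scheme.{u}} (f : X ⟶ Y) : f.appLE ⊤ ⊤ le_top = f.appTop :=
  Scheme.Hom.appLE_eq_app f

section BaseChange

variable {X Y S T : Scheme.{u}} {f : T ⟶ S} {g : Y ⟶ X} {iX : X ⟶ S} {iY : Y ⟶ T}
  (H : IsPullback g iY iX f)

include H in
/-- **flat base change, injectivity part**: `Γ(X) ⊗_{Γ(S)} Γ(T) → Γ(X ×_S T)` is injective for
`X` quasi-compact, `S`, `T` affine and `T → S` flat. -/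
theorem injective_productMap [Flat f] [IsAffine S] [IsAffine T] [CompactSpace X] :
    letI : Algebra Γ(S, ⊤) Γ(X, ⊤) := iX.appTop.hom.toAlgebra
    letI : Algebra Γ(S, ⊤) Γ(T, ⊤) := f.appTop.hom.toAlgebra
    letI : Algebra Γ(S, ⊤) Γ(Y, ⊤) := (g.appTop.hom.comp iX.appTop.hom).toAlgebra
    ∀ (φ : Γ(X, ⊤) →ₐ[Γ(S, ⊤)] Γ(Y, ⊤)) (ι : Γ(T, ⊤) →ₐ[Γ(S, ⊤)] Γ(Y, ⊤)),
      (φ : Γ(X, ⊤) →+* Γ(Y, ⊤)) = g.appTop.hom → (ι : Γ(T, ⊤) →+* Γ(Y, ⊤)) = iY.appTop.hom →
      Function.Injective (Algebra.TensorProduct.productMap φ ι) := by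
  letI : Algebra Γ(S, ⊤) Γ(X, ⊤) := iX.appTop.hom.toAlgebra
  letI : Algebra Γ(S, ⊤) Γ(T, ⊤) := f.appTop.hom.toAlgebra
  letI : Algebra Γ(S, ⊤) Γ(Y, ⊤) := (g.appTop.hom.comp iX.appTop.hom).toAlgebra
  intro φ ι hφ hι
  have hmono := mono_pushoutSection_of_isCompact_of_flat_right H
    (US := ⊤) (UT := ⊤) (UX := ⊤) (UY := ⊤) le_top le_top (by simp) (isAffineOpen_top _)
    (isAffineOpen_top _) isCompact_univ
  have hsq := CommRingCat.isPushout_tensorProduct Γ(S, ⊤) Γ(X, ⊤) Γ(T, ⊤)
  have h1 : CommRingCat.ofHom (algebraMap Γ(S, ⊤) Γ(X, ⊤)) = iX.appLE ⊤ ⊤ le_top := by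
    rw [appLE_top_top]; rfl
  have h2 : CommRingCat.ofHom (algebraMap Γ(S, ⊤) Γ(T, ⊤)) = f.appLE ⊤ ⊤ le_top := by
    rw [appLE_top_top]; rfl
  rw [h1, h2] at hsq
  have hcomp : hsq.isoPushout.hom ≫ pushoutSection H (US := ⊤) (UT := ⊤) (UX := ⊤) (UY := ⊤)
      le_top le_top (by simp) =
      CommRingCat.ofHom (Algebra.TensorProduct.productMap φ ι).toRingHom := by
    apply hsq.hom_ext
    · rw [IsPushout.inl_isoPushout_hom_assoc, pushoutSection, pushout.inl_desc,
        appLE_top_top]
      ext x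
      change g.appTop.hom x = Algebra.TensorProduct.productMap φ ι (x ⊗ₜ 1)
      rw [Algebra.TensorProduct.productMap_apply_tmul, map_one, mul_one]
      exact (DFunLike.congr_fun hφ x).symm
    · rw [IsPushout.inr_isoPushout_hom_assoc, pushoutSection, pushout.inr_desc,
        appLE_top_top]
      ext x
      change iY.appTop.hom x = Algebra.TensorProduct.productMap φ ι (1 ⊗ₜ x)
      rw [Algebra.TensorProduct.productMap_apply_tmul, map_one, one_mul]
      exact (DFunLike.congr_fun hι x).symm
  have hmono2 : Mono (CommRingCat.ofHom (Algebra.TensorProduct.productMap φ ι).toRingHom) := by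
    rw [← hcomp]
    infer_instance
  exact (ConcreteCategory.mono_iff_injective_of_preservesPullback _).mp hmono2

end BaseChange

section Main

theorem isField_Γ_Spec (k : Type u) [Field k] : IsField Γ(Spec (CommRingCat.of k), ⊤) :=
  MulEquiv.isField (Field.toIsField k)
    (Scheme.ΓSpecIso (CommRingCat.of k)).commRingCatIsoToRingEquiv.toMulEquiv

/-- **Global functions on a proper, geometrically reduced and geometrically connected scheme over
a field are constant.** -/
theorem appTop_surjective (k : Type u) [Field k] (X : Scheme.{u})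
    (p : X ⟶ Spec (CommRingCat.of k)) [IsProper p] [GeometricallyReduced p]
    [GeometricallyConnected p] : Function.Surjective p.appTop.hom := by
  let K := AlgebraicClosure k
  let q : Spec (CommRingCat.of K) ⟶ Spec (CommRingCat.of k) :=
    Spec.map (CommRingCat.ofHom (algebraMap k K))
  have H : IsPullback (pullback.fst p q) (pullback.snd p q) p q := IsPullback.of_hasPullback p q
  haveI : Flat q := by
    rw [Flat.SpecMap_iff]
    exact (RingHom.flat_algebraMap_iff (R := k) (S := K)).mpr inferInstance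
  haveI : CompactSpace X := QuasiCompact.compactSpace_of_compactSpace p
  haveI hred : AlgebraicGeometry.IsReduced (pullback p q) :=
    pullback_of_geometrically (GeometricallyReduced.geometrically_isReduced) K q
  haveI hconn : ConnectedSpace ↥(pullback p q) :=
    pullback_of_geometrically (GeometricallyConnected.geometrically_connectedSpace) K q
  haveI : Nonempty ↥(pullback p q) := inferInstance
  haveI : Nonempty X := ⟨(pullback.fst p q) (Classical.arbitrary _)⟩
  haveI : Nonempty ↥(⊤ : X.Opens) := ⟨⟨Classical.arbitrary _, trivial⟩⟩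
  haveI : Nonempty ↥(⊤ : (pullback p q).Opens) := ⟨⟨Classical.arbitrary _, trivial⟩⟩
  haveI : Nontrivial Γ(X, ⊤) := inferInstance
  haveI : Nontrivial Γ(pullback p q, ⊤) := inferInstance
  have hR : IsField Γ(Spec (CommRingCat.of k), ⊤) := isField_Γ_Spec k
  have hK' : IsField Γ(Spec (CommRingCat.of K), ⊤) := isField_Γ_Spec K
  haveI : Nontrivial Γ(Spec (CommRingCat.of K), ⊤) := hK'.nontrivial
  letI : Field Γ(Spec (CommRingCat.of k), ⊤) := hR.toField
  letI algA : Algebra Γ(Spec (CommRingCat.of k), ⊤) Γ(X, ⊤) := p.appTop.hom.toAlgebra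
  letI algK : Algebra Γ(Spec (CommRingCat.of k), ⊤) Γ(Spec (CommRingCat.of K), ⊤) :=
    q.appTop.hom.toAlgebra
  letI algB : Algebra Γ(Spec (CommRingCat.of k), ⊤) Γ(pullback p q, ⊤) :=
    ((pullback.fst p q).appTop.hom.comp p.appTop.hom).toAlgebra
  let φ : Γ(X, ⊤) →ₐ[Γ(Spec (CommRingCat.of k), ⊤)] Γ(pullback p q, ⊤) :=
    { (pullback.fst p q).appTop.hom with commutes' := fun r => rfl }
  let ι : Γ(Spec (CommRingCat.of K), ⊤) →ₐ[Γ(Spec (CommRingCat.of k), ⊤)] Γ(pullback p q, ⊤) :=
    { (pullback.snd p q).appTop.hom with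
      commutes' := fun r => by
        have h1 : q.appTop ≫ (pullback.snd p q).appTop = p.appTop ≫ (pullback.fst p q).appTop := by
          rw [← Scheme.Hom.comp_appTop, ← Scheme.Hom.comp_appTop, H.w]
        exact congrArg (fun t => t.hom r) h1 }
  have hinj : Function.Injective (Algebra.TensorProduct.productMap φ ι) :=
    injective_productMap H φ ι rfl rfl
  have hsurj : Function.Surjective ι := by
    have hint1 : (pullback.snd p q).appTop.hom.IsIntegral :=
      isIntegral_appTop_of_universallyClosed (pullback.snd p q)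
    have hint2 : ((pullback.snd p q).appTop.hom.comp
        (Scheme.ΓSpecIso (CommRingCat.of K)).inv.hom).IsIntegral :=
      RingHom.IsIntegral.trans _ _ (RingHom.isIntegral_of_surjective _
        (ConcreteCategory.bijective_of_isIso (Scheme.ΓSpecIso (CommRingCat.of K)).inv).2) hint1
    have h3 := surjective_of_isIntegral_of_isAlgClosed (K := K) _ hint2
      (eq_zero_or_eq_one_of_isIdempotentElem (pullback p q))
    exact Function.Surjective.of_comp h3
  exact surjective_algebraMap_of_injective_productMap φ ι hinj hsurj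

end Main

end Groth.Agent.Lib.T2H9.GammaBC
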