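import Mathlib
import Groth.Agent.Lib.T2H9GammaBC
import Groth.Agent.Lib.Helper23Coprod

/-!
# Flat base change of global sections, bijectivity; connectedness from global sections
(helper9, S16754)
-/

set_option autoImplicit false
set_option linter.style.haveILetI false
set_option linter.unusedSectionVars false
universe u
open TensorProduct CategoryTheory CategoryTheory.Limits AlgebraicGeometry

namespace Groth.Agent.Lib.T2H9.GammaBC

section BaseChange

variable {X Y S T : Scheme.{u}} {f : T ⟶ S} {g : Y ⟶ X} {iX : X ⟶ S} {iY : Y ⟶ T}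
  (H : IsPullback g iY iX f)

include H in
/-- **flat base change for global sections**: `Γ(X) ⊗_{Γ(S)} Γ(T) → Γ(X ×_S T)` is bijective for
`X` quasi-compact and quasi-separated, `S`, `T` affine and `T → S` flat. -/
theorem bijective_productMap [Flat f] [IsAffine S] [IsAffine T] [CompactSpace X]
    [QuasiSeparatedSpace X] :
    letI : Algebra Γ(S, ⊤) Γ(X, ⊤) := iX.appTop.hom.toAlgebra
    letI : Algebra Γ(S, ⊤) Γ(T, ⊤) := f.appTop.hom.toAlgebra
    letI : Algebra Γ(S, ⊤) Γ(Y, ⊤) := (g.appTop.hom.comp iX.appTop.hom).toAlgebra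
    ∀ (φ : Γ(X, ⊤) →ₐ[Γ(S, ⊤)] Γ(Y, ⊤)) (ι : Γ(T, ⊤) →ₐ[Γ(S, ⊤)] Γ(Y, ⊤)),
      (φ : Γ(X, ⊤) →+* Γ(Y, ⊤)) = g.appTop.hom → (ι : Γ(T, ⊤) →+* Γ(Y, ⊤)) = iY.appTop.hom →
      Function.Bijective (Algebra.TensorProduct.productMap φ ι) := by
  letI : Algebra Γ(S, ⊤) Γ(X, ⊤) := iX.appTop.hom.toAlgebra
  letI : Algebra Γ(S, ⊤) Γ(T, ⊤) := f.appTop.hom.toAlgebra
  letI : Algebra Γ(S, ⊤) Γ(Y, ⊤) := (g.appTop.hom.comp iX.appTop.hom).toAlgebra
  intro φ ι hφ hι
  have hiso := isIso_pushoutSection_of_isQuasiSeparated_of_flat_right H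
    (US := ⊤) (UT := ⊤) (UX := ⊤) (UY := ⊤) le_top le_top (by simp) (isAffineOpen_top _)
    (isAffineOpen_top _) isCompact_univ
    ((isQuasiSeparated_univ_iff).mpr inferInstance)
  have hsq := CommRingCat.isPushout_tensorProduct Γ(S, ⊤) Γ(X, ⊤) Γ(T, ⊤)
  have h1 : CommRingCat.ofHom (algebraMap Γ(S, ⊤) Γ(X, ⊤)) = iX.appLE ⊤ ⊤ le_top := by
    rw [appLE_top_top]; rfl
  have h2 : CommRingCat.ofHom (algebraMap Γ(S, ⊤) Γ(T, ⊤)) = f.appLE ⊤ ⊤ le_top := by
    rw [appLE_top_top]; rfl
  rw [h1, h2] at hsq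
  have hcomp : hsq.isoPushout.hom ≫ pushoutSection H (US := ⊤) (UT := ⊤) (UX := ⊤) (UY := ⊤)
      le_top le_top (by simp) =
      CommRingCat.ofHom (Algebra.TensorProduct.productMap φ ι).toRingHom := by
    apply hsq.hom_ext
    · rw [IsPushout.inl_isoPushout_hom_assoc, pushoutSection, pushout.inl_desc,
        appLE_top_top]
      ext x
      change g.appTop.hom x = Algebra.TensorProduct.productMap φ ι (x ⊗ₜ 1)
      rw [Algebra.TensorProduct.productMap_apply_tmul, map_one, mul_one]
      exact (DFunLike.congr_fun hφ x).symm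
    · rw [IsPushout.inr_isoPushout_hom_assoc, pushoutSection, pushout.inr_desc,
        appLE_top_top]
      ext x
      change iY.appTop.hom x = Algebra.TensorProduct.productMap φ ι (1 ⊗ₜ x)
      rw [Algebra.TensorProduct.productMap_apply_tmul, map_one, one_mul]
      exact (DFunLike.congr_fun hι x).symm
  have hiso2 : IsIso (CommRingCat.ofHom (Algebra.TensorProduct.productMap φ ι).toRingHom) := by
    rw [← hcomp]
    infer_instance
  exact ConcreteCategory.bijective_of_isIso
    (CommRingCat.ofHom (Algebra.TensorProduct.productMap φ ι).toRingHom)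

end BaseChange

/-- a scheme whose ring of global functions is local is preconnected -/
theorem preconnectedSpace_of_isLocalRing (Y : Scheme.{u}) [IsLocalRing Γ(Y, ⊤)] :
    PreconnectedSpace Y := by
  rw [preconnectedSpace_iff_clopen]
  intro s hs
  let U₁ : Y.Opens := ⟨s, hs.isOpen⟩
  let U₂ : Y.Opens := ⟨sᶜ, hs.compl.isOpen⟩
  have hcov : U₁ ⊔ U₂ = ⊤ := by
    ext x
    simp [U₁, U₂]
  have hdisj : U₁ ⊓ U₂ = ⊥ := by
    ext x
    simp [U₁, U₂]
  obtain ⟨e, he1, he2⟩ :=
    Groth.Agent.Lib.Helper23.Coprod.exists_idempotent_of_disjoint_cover U₁ U₂ hcov hdisj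
  rcases IsLocalRing.isUnit_or_isUnit_one_sub_self e with h | h
  · right
    have : U₁ = ⊤ := by rw [← he1]; exact Scheme.basicOpen_of_isUnit Y h
    exact congrArg (fun V : Y.Opens => (V : Set Y)) this
  · left
    have h2 : U₂ = ⊤ := by rw [← he2]; exact Scheme.basicOpen_of_isUnit Y h
    have : U₁ = ⊥ := by
      rw [← hdisj, h2, inf_top_eq]
    exact congrArg (fun V : Y.Opens => (V : Set Y)) this

/-- if the global functions of a nonempty qcqs `k`-scheme are the constants, it is geometrically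
connected -/
theorem geometricallyConnected_of_appTop_surjective (k : Type u) [Field k] (X : Scheme.{u})
    (p : X ⟶ Spec (CommRingCat.of k)) [CompactSpace X] [QuasiSeparatedSpace X] [Nonempty X]
    (hs : Function.Surjective p.appTop.hom) : GeometricallyConnected p := by
  rw [geometricallyConnected_iff, geometrically_iff_of_commRing_of_isClosedUnderIsomorphisms]
  intro K _ _
  let q : Spec (CommRingCat.of K) ⟶ Spec (CommRingCat.of k) :=
    Spec.map (CommRingCat.ofHom (algebraMap k K))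
  change ConnectedSpace ↥(pullback p q)
  have H : IsPullback (pullback.fst p q) (pullback.snd p q) p q := IsPullback.of_hasPullback p q
  haveI : Flat q := by
    rw [Flat.SpecMap_iff]
    exact (RingHom.flat_algebraMap_iff (R := k) (S := K)).mpr inferInstance
  haveI : Nonempty ↥(pullback p q) := by
    obtain ⟨x⟩ := ‹Nonempty X›
    obtain ⟨z, -, -⟩ := Scheme.Pullback.exists_preimage_pullback (f := p) (g := q) x
      (default : PrimeSpectrum K) (Subsingleton.elim (α := PrimeSpectrum k) _ _)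
    exact ⟨z⟩
  haveI : Nonempty ↥(⊤ : (pullback p q).Opens) := ⟨⟨Classical.arbitrary _, trivial⟩⟩
  haveI : Nontrivial Γ(pullback p q, ⊤) := inferInstance
  have hR : IsField Γ(Spec (CommRingCat.of k), ⊤) := isField_Γ_Spec k
  have hK' : IsField Γ(Spec (CommRingCat.of K), ⊤) := isField_Γ_Spec K
  letI : Field Γ(Spec (CommRingCat.of k), ⊤) := hR.toField
  letI : Field Γ(Spec (CommRingCat.of K), ⊤) := hK'.toField
  letI algA : Algebra Γ(Spec (CommRingCat.of k), ⊤) Γ(X, ⊤) := p.appTop.hom.toAlgebra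
  letI algK : Algebra Γ(Spec (CommRingCat.of k), ⊤) Γ(Spec (CommRingCat.of K), ⊤) :=
    q.appTop.hom.toAlgebra
  letI algB : Algebra Γ(Spec (CommRingCat.of k), ⊤) Γ(pullback p q, ⊤) :=
    ((pullback.fst p q).appTop.hom.comp p.appTop.hom).toAlgebra
  let φ : Γ(X, ⊤) →ₐ[Γ(Spec (CommRingCat.of k), ⊤)] Γ(pullback p q, ⊤) :=
    { (pullback.fst p q).appTop.hom with commutes' := fun r => rfl }
  let ι : Γ(Spec (CommRingCat.of K), ⊤) →ₐ[Γ(Spec (CommRingCat.of k), ⊤)] Γ(pullback p q, ⊤) :=
    { (pullback.snd p q).appTop.hom with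
      commutes' := fun r => by
        have h1 : q.appTop ≫ (pullback.snd p q).appTop = p.appTop ≫ (pullback.fst p q).appTop := by
          rw [← Scheme.Hom.comp_appTop, ← Scheme.Hom.comp_appTop, H.w]
        exact congrArg (fun t => t.hom r) h1 }
  have hbij : Function.Bijective (Algebra.TensorProduct.productMap φ ι) :=
    bijective_productMap H φ ι rfl rfl
  have hιsurj : Function.Surjective ι := by
    intro y
    obtain ⟨t, rfl⟩ := hbij.2 y
    induction t using TensorProduct.induction_on with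
    | zero => exact ⟨0, by simp⟩
    | tmul a c =>
      obtain ⟨r, rfl⟩ := hs a
      refine ⟨r • c, ?_⟩
      rw [Algebra.TensorProduct.productMap_apply_tmul, map_smul, Algebra.smul_def]
      congr 1
    | add t₁ t₂ h₁ h₂ =>
      obtain ⟨c₁, hc₁⟩ := h₁
      obtain ⟨c₂, hc₂⟩ := h₂
      exact ⟨c₁ + c₂, by rw [map_add, map_add, hc₁, hc₂]⟩
  haveI : IsLocalRing Γ(pullback p q, ⊤) := IsLocalRing.of_surjective' ι.toRingHom hιsurj
  haveI := preconnectedSpace_of_isLocalRing (pullback p q)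
  exact ConnectedSpace.mk inferInstance

end Groth.Agent.Lib.T2H9.GammaBC
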