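import Mathlib
import Groth.Prelude.Def_Curv2
import Groth.Prelude.Def_Pi1
import Groth.Agent.Lib.T2H9GammaBC2
import Groth.Agent.Lib.T2H9H0Unit
import Groth.Agent.Lib.Helper6Var1
import Groth.Agent.Lib.Helper6SmRegSch
import Groth.Agent.Lib.Helper7NorOpen
import Groth.Agent.Lib.Helper3Isog

/-!
# `h^0 = 1` iff geometrically connected iff geometrically integral, for smooth proper schemes
over a field (helper9, S16754)
-/

set_option autoImplicit false
set_option linter.style.haveILetI false
set_option linter.unusedSectionVars false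
universe u
open CategoryTheory CategoryTheory.Limits AlgebraicGeometry TensorProduct

namespace Groth.Agent.Lib.T2H9.CurvH0

open Groth.Agent.Lib.T2H9.H0Unit

variable (k : Type u) [Field k] (X : Scheme.{u}) [X.Over (Spec (CommRingCat.of k))]

/-- if `H^0(X, O_X)` is one-dimensional then the global functions are the constants -/
theorem toGlobal_surjective_of_finrank_eq_one
    (h : Module.finrank k (Coh.HH X (Coh.structureModule X) 0) = 1) :
    Nontrivial (Coh.Γtop X) ∧
      Function.Surjective (Coh.toGlobal (X ↘ Spec (CommRingCat.of k))) := by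
  have hnt : Nontrivial (Coh.Γtop X) := by
    by_contra hn
    rw [not_nontrivial_iff_subsingleton] at hn
    haveI : Subsingleton (Coh.HH X (Coh.structureModule X) 0) :=
      (hh0Unit X).toEquiv.subsingleton
    rw [Module.finrank_zero_of_subsingleton] at h
    exact zero_ne_one h
  refine ⟨hnt, ?_⟩
  have nz : (hh0Unit X).symm 1 ≠ 0 := by
    intro h
    have := congrArg (hh0Unit X) h
    rw [AddEquiv.apply_symm_apply, map_zero] at this
    exact one_ne_zero this
  rw [finrank_eq_one_iff_of_nonzero' _ nz] at h
  intro g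
  obtain ⟨c, hc⟩ := h ((hh0Unit X).symm g)
  refine ⟨c, ?_⟩
  have h1 : c • (hh0Unit X).symm 1 =
      (Coh.toGlobal (X ↘ Spec (CommRingCat.of k)) c) • (hh0Unit X).symm 1 := rfl
  rw [h1] at hc
  have h2 := congrArg (hh0Unit X) hc
  rw [hh0Unit_smul, AddEquiv.apply_symm_apply, AddEquiv.apply_symm_apply, _root_.mul_one] at h2
  exact h2

theorem main [IsProper (X ↘ Spec (CommRingCat.of k))] [Smooth (X ↘ Spec (CommRingCat.of k))] :
    (Module.finrank k (Coh.HH X (Coh.structureModule X) 0) = 1 ↔
        GeometricallyConnected (X ↘ Spec (CommRingCat.of k))) ∧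
      (GeometricallyConnected (X ↘ Spec (CommRingCat.of k)) ↔
        GeometricallyIntegral (X ↘ Spec (CommRingCat.of k))) := by
  haveI : GeometricallyReduced (X ↘ Spec (CommRingCat.of k)) :=
    Groth.Agent.Lib.Helper3.Isog.geometricallyReduced_of_smooth _
  haveI : CompactSpace X := QuasiCompact.compactSpace_of_compactSpace (X ↘ Spec (CommRingCat.of k))
  haveI : QuasiSeparatedSpace X :=
    quasiSeparatedSpace_of_quasiSeparated (X ↘ Spec (CommRingCat.of k))
  refine ⟨⟨fun h => ?_, fun h => ?_⟩, ⟨fun h => ?_, fun h => ?_⟩⟩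
  · obtain ⟨hnt, hs⟩ := toGlobal_surjective_of_finrank_eq_one k X h
    haveI : Nonempty X := by
      by_contra hne
      rw [not_nonempty_iff] at hne
      have : (⊤ : X.Opens) = ⊥ := by
        ext x
        exact (hne.false x).elim
      haveI : Subsingleton Γ(X, ⊤) := by rw [this]; infer_instance
      exact not_subsingleton (Coh.Γtop X) (inferInstanceAs (Subsingleton Γ(X, ⊤)))
    apply Groth.Agent.Lib.T2H9.GammaBC.geometricallyConnected_of_appTop_surjective k X
    unfold Coh.toGlobal at hs
    exact Function.Surjective.of_comp hs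
  · have hs := Groth.Agent.Lib.T2H9.GammaBC.appTop_surjective k X (X ↘ (Spec (CommRingCat.of k)))
    haveI : Nonempty X := by
      haveI : ConnectedSpace X :=
        GeometricallyConnected.connectedSpace_of_subsingleton (X ↘ (Spec (CommRingCat.of k)))
      infer_instance
    haveI : Nonempty ↥(⊤ : X.Opens) := ⟨⟨Classical.arbitrary _, trivial⟩⟩
    haveI : Nontrivial (Coh.Γtop X) := inferInstanceAs (Nontrivial Γ(X, ⊤))
    apply Groth.Agent.Lib.T2H9.H0Unit.finrank_hh0_eq_one k X
    unfold Coh.toGlobal
    exact hs.comp (ConcreteCategory.bijective_of_isIso (Scheme.ΓSpecIso (CommRingCat.of k)).inv).2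
  · have hX : ∀ (K : Type u) [Field K] [Algebra k K], Pi1.IsNormalScheme (Curv2.bc k X K) := by
      intro K _ _ y
      haveI : IsRegularLocalRing ((Curv2.bc k X K).presheaf.stalk y) :=
        Groth.Agent.Lib.Helper6.SmRegSch.isRegularLocalRing_stalk_of_smooth_over_field K
          (Curv2.bc k X K) (Curv2.bcSnd k X K) y
      exact Groth.Agent.Lib.Helper7.NorOpen.isNormalDomain_of_isRegularLocalRing _
    haveI : GeometricallyIrreducible (X ↘ Spec (CommRingCat.of k)) :=
      (Groth.Agent.Lib.Helper6.Var1.geometricallyConnected_iff_geometricallyIrreducible_of_normal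
        k X hX).mp h
    exact GeometricallyIntegral.of_geometricallyReduced_of_geometricallyIrreducible _
  · exact Groth.Agent.Lib.Helper6.SepCl.geometricallyConnected_of_geometricallyIrreducible _

end Groth.Agent.Lib.T2H9.CurvH0
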