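import Mathlib
import Groth.Prelude
import Groth.Agent.Lib.T2H9RatPt
import Groth.Agent.Lib.T2H6PtTwistC
import Groth.Agent.Lib.T2H6PtTwistD
import Groth.Agent.Lib.Helper11SepPts
import Groth.Agent.Lib.T2H6CurveSmooth
import Groth.Agent.Lib.T2H9CurvH0
import Groth.Agent.Lib.T2H9VBNormB

/-!
# Twisting down by rational points given as sections (helper9): S19880
-/

set_option autoImplicit false
set_option linter.style.haveILetI false
set_option linter.unusedSectionVars false
set_option linter.unusedVariables false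
universe u

open CategoryTheory CategoryTheory.Limits AlgebraicGeometry TopologicalSpace

namespace Groth.Agent.Lib.T2H9.RatTwist

open Groth.Agent.Lib.T2H6.PtTwistA Groth.Agent.Lib.T2H6.PtTwistB Groth.Agent.Lib.T2H9.RatPt

variable (k : Type u) [Field k] {X : Scheme.{u}} [X.Over (Spec (CommRingCat.of k))]

/-- the kernel of a section is the ideal of its image point. -/
theorem ker_eq_ptIdeal (s : Spec (CommRingCat.of k) ⟶ X)
    (hs : s ≫ (X ↘ Spec (CommRingCat.of k)) = 𝟙 _) :
    s.ker = ptIdeal (pt k s) (isClosed_pt k s hs) := by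
  haveI := isClosedImmersion_of_section k s hs
  have hrad : s.ker.radical = s.ker := by
    ext U : 2
    rw [Scheme.IdealSheafData.radical_ideal, Scheme.Hom.ker_apply]
    apply Ideal.IsRadical.radical
    intro x hx
    obtain ⟨n, hn⟩ := hx
    rw [RingHom.mem_ker] at hn ⊢
    rw [map_pow] at hn
    exact IsReduced.eq_zero _ ⟨n, hn⟩
  have hsupp : s.ker.support = ⟨{pt k s}, isClosed_pt k s hs⟩ := by
    apply TopologicalSpace.Closeds.ext
    rw [Scheme.Hom.support_ker, range_eq k s]
    exact (isClosed_pt k s hs).closure_eq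
  unfold ptIdeal
  rw [← hsupp, Scheme.IdealSheafData.vanishingIdeal_support, hrad]

variable [IsIntegral X] [IsProper (X ↘ Spec (CommRingCat.of k))]

/-- the ideal of a section of a regular curve is invertible of degree `-1`. -/
theorem isInvertible_idealMod_ker (hdim : topologicalKrullDim X = 1)
    (hreg : ∀ x : X, IsRegularLocalRing (X.presheaf.stalk x))
    (s : Spec (CommRingCat.of k) ⟶ X) (hs : s ≫ (X ↘ Spec (CommRingCat.of k)) = 𝟙 _) :
    PicF.IsInvertible (ClSub.idealMod s.ker) ∧ Curv2.deg k X (ClSub.idealMod s.ker) 1 = -1 := by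
  haveI := Groth.Agent.Lib.T2H6.CurveDeg.isLocallyNoetherian (X := X) k
  have hp := isClosed_pt k s hs
  have hrat := resMap_surjective k s hs
  have hd1 := Groth.Agent.Lib.T2H9.DVRSmooth.ringKrullDim_stalk_eq_one_of_isClosed X hdim (pt k s) hp
  have hdvr : IsDiscreteValuationRing (X.presheaf.stalk (pt k s)) :=
    ((Groth.Agent.Lib.Helper19.isDiscreteValuationRing_iff_regular_dim_one _).2
      ⟨hreg (pt k s), hd1⟩).2
  rw [ker_eq_ptIdeal k s hs]
  exact ⟨Groth.Agent.Lib.T2H6.PtTwistD.isInvertible_idealMod_ptIdeal X hdim (pt k s) hp hdvr,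
    Groth.Agent.Lib.T2H6.PtTwistD.deg_idealMod_ptIdeal k (pt k s) hp hrat⟩

/-- over a separably closed field: twisting an invertible module with a nonzero section down by a suitable
rational point drops `h⁰` by one and keeps `h¹`. -/
theorem exists_section_drop [IsSepClosed k] [Smooth (X ↘ Spec (CommRingCat.of k))]
    (hdim : topologicalKrullDim X = 1)
    (M : X.Modules) (hM : PicF.IsInvertible M) (h0 : Module.finrank k (Coh.HH X M 0) ≠ 0) :
    ∃ (s : Spec (CommRingCat.of k) ⟶ X) (hs : s ≫ (X ↘ Spec (CommRingCat.of k)) = 𝟙 _),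
      Module.finrank k (Coh.HH X (CohB1.tensorMod (ClSub.idealMod s.ker) M) 0) + 1 =
        Module.finrank k (Coh.HH X M 0) ∧
      Module.finrank k (Coh.HH X (CohB1.tensorMod (ClSub.idealMod s.ker) M) 1) =
        Module.finrank k (Coh.HH X M 1) := by
  have e := Groth.Agent.Lib.Helper23.TensorUnit.unitTensorIso M
  have e0 := Groth.Agent.Lib.T2H6.FieldBC.finrank_HH_eq_of_iso k X e 0
  have e1 := Groth.Agent.Lib.T2H6.FieldBC.finrank_HH_eq_of_iso k X e 1
  have hOM : PicF.IsInvertible (CohB1.tensorMod (Coh.structureModule X) M) :=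
    Groth.Agent.Lib.Helper23.SecTw.isInvertible_tensorMod
      (Groth.Agent.Lib.Helper23.TensorUnit.isInvertible_structureModule X) hM
  have hnt : Nontrivial (Coh.HH X (CohB1.tensorMod (Coh.structureModule X) M) 0) := by
    apply Module.nontrivial_of_finrank_pos (R := k)
    rw [e0]
    exact Nat.pos_of_ne_zero h0
  obtain ⟨s₀, hs₀⟩ := Groth.Agent.Lib.T2H6.CurveRR.exists_section_ne_zero _ hnt
  have hgen := Groth.Agent.Lib.T2H6.PosH.genericPoint_mem_genLocus _ hOM s₀ hs₀
  -- a rational point in the generating locus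
  let X' : Over (Spec (CommRingCat.of k)) := Over.mk (X ↘ Spec (CommRingCat.of k))
  haveI : Smooth X'.hom := inferInstanceAs (Smooth (X ↘ Spec (CommRingCat.of k)))
  obtain ⟨p, hp⟩ := Groth.Agent.Lib.Helper11SepPts.exists_point_mem_open k k (X := X')
    (CohB1.genLocus _ s₀) (genericPoint X) hgen
  have hw := Over.w p
  obtain ⟨σ, hσ⟩ : ∃ σ : Spec (CommRingCat.of k) ⟶ X, σ = p.left := ⟨p.left, rfl⟩
  have hs : σ ≫ (X ↘ Spec (CommRingCat.of k)) = 𝟙 _ := by
    rw [hσ]
    refine hw.trans ?_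
    change Spec.map (CommRingCat.ofHom (algebraMap k k)) = 𝟙 _
    rw [Algebra.algebraMap_self]
    exact Spec.map_id _
  refine ⟨σ, hs, ?_⟩
  have hcl := isClosed_pt k σ hs
  have hrat := resMap_surjective k σ hs
  have hp' : pt k σ ∈ CohB1.genLocus _ s₀ := by rw [hσ]; exact hp
  obtain ⟨d0, d1⟩ := drop k hdim (pt k σ) hcl hrat M hM s₀ hp'
  rw [ker_eq_ptIdeal k σ hs]
  exact ⟨by rw [d0, e0], by rw [d1, e1]⟩

open Groth.Agent.Lib.T2H5.Twist in
/-- `(L ⊗ I) ⊗ T ≅ (I ⊗ L) ⊗ T`, in functor form. -/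
noncomputable def commIso₀ (L I T : X.Modules) :
    (tr T).obj (CohB1.tensorMod L I) ≅ (tr T).obj (CohB1.tensorMod I L) :=
  (tr T).mapIso (Groth.Agent.Lib.T2H4.AmpleAffine.tensorComm L I)

/-- `(L ⊗ I) ⊗ T ≅ (I ⊗ L) ⊗ T`. -/
noncomputable def commIso (L I T : X.Modules) :
    CohB1.tensorMod (CohB1.tensorMod L I) T ≅ CohB1.tensorMod (CohB1.tensorMod I L) T :=
  commIso₀ L I T

/-- `L ⊗ (I ⊗ T) ≅ I ⊗ (L ⊗ T)`. -/
noncomputable def swapIso (L I T : X.Modules) :
    CohB1.tensorMod L (CohB1.tensorMod I T) ≅ CohB1.tensorMod I (CohB1.tensorMod L T) :=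
  (Groth.Agent.Lib.Helper23.LocGen.tensorAssoc L I T).symm ≪≫ commIso L I T ≪≫
    Groth.Agent.Lib.Helper23.LocGen.tensorAssoc I L T

/-- over a separably closed field, twisting down `n` times by rational points. -/
theorem exists_sections_drop [IsSepClosed k] [Smooth (X ↘ Spec (CommRingCat.of k))]
    (hdim : topologicalKrullDim X = 1) (hreg : ∀ x : X, IsRegularLocalRing (X.presheaf.stalk x))
    (L : X.Modules) (hL : PicF.IsInvertible L) :
    ∀ n : ℕ, n ≤ Module.finrank k (Coh.HH X L 0) →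
      ∃ σ : Fin n → (Spec (CommRingCat.of k) ⟶ X),
        (∀ t, σ t ≫ (X ↘ Spec (CommRingCat.of k)) = 𝟙 _) ∧
        PicF.IsInvertible (CohB1.tensorMod L (FGA.tensorList (List.ofFn fun t : Fin n =>
          ClSub.idealMod (σ t).ker))) ∧
        Module.finrank k (Coh.HH X (CohB1.tensorMod L (FGA.tensorList (List.ofFn fun t : Fin n =>
          ClSub.idealMod (σ t).ker))) 0) + n = Module.finrank k (Coh.HH X L 0) ∧
        Module.finrank k (Coh.HH X (CohB1.tensorMod L (FGA.tensorList (List.ofFn fun t : Fin n =>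
          ClSub.idealMod (σ t).ker))) 1) = Module.finrank k (Coh.HH X L 1) := by
  intro n
  induction n with
  | zero =>
    intro _
    have e : CohB1.tensorMod L (Coh.structureModule X) ≅ L :=
      Groth.Agent.Lib.T2H4.AmpleAffine.tensorComm L (Coh.structureModule X) ≪≫
        Groth.Agent.Lib.Helper23.TensorUnit.unitTensorIso L
    refine ⟨fun t => t.elim0, fun t => t.elim0, ?_, ?_, ?_⟩
    · rw [List.ofFn_zero]
      exact Groth.Agent.Lib.Helper23.AmpleIso.isInvertible_of_iso e.symm hL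
    · rw [List.ofFn_zero, Nat.add_zero]
      exact Groth.Agent.Lib.T2H6.FieldBC.finrank_HH_eq_of_iso k X e 0
    · rw [List.ofFn_zero]
      exact Groth.Agent.Lib.T2H6.FieldBC.finrank_HH_eq_of_iso k X e 1
  | succ n ih =>
    intro hn
    obtain ⟨σ, hσ, hinv, h0, h1⟩ := ih (by omega)
    set M := CohB1.tensorMod L (FGA.tensorList (List.ofFn fun t : Fin n =>
      ClSub.idealMod (σ t).ker)) with hMdef
    obtain ⟨s, hs, d0, d1⟩ := exists_section_drop k hdim M hinv (by omega)
    have hI := (isInvertible_idealMod_ker k hdim hreg s hs).1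
    have hlist : (List.ofFn fun t : Fin (n + 1) =>
        ClSub.idealMod ((Fin.cons s σ : Fin (n + 1) → (Spec (CommRingCat.of k) ⟶ X)) t).ker) =
        ClSub.idealMod s.ker :: List.ofFn fun t : Fin n => ClSub.idealMod (σ t).ker := by
      rw [List.ofFn_succ]
      simp only [Fin.cons_zero, Fin.cons_succ]
    have e : CohB1.tensorMod L (FGA.tensorList (List.ofFn fun t : Fin (n + 1) =>
        ClSub.idealMod ((Fin.cons s σ : Fin (n + 1) → (Spec (CommRingCat.of k) ⟶ X)) t).ker)) ≅
        CohB1.tensorMod (ClSub.idealMod s.ker) M := by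
      rw [hlist]
      exact swapIso L (ClSub.idealMod s.ker) _
    refine ⟨Fin.cons s σ, ?_, ?_, ?_, ?_⟩
    · intro t
      refine Fin.cases ?_ (fun j => ?_) t
      · exact hs
      · exact hσ j
    · exact Groth.Agent.Lib.Helper23.AmpleIso.isInvertible_of_iso e.symm
        (Groth.Agent.Lib.Helper23.SecTw.isInvertible_tensorMod hI hinv)
    · rw [Groth.Agent.Lib.T2H6.FieldBC.finrank_HH_eq_of_iso k X e 0]
      omega
    · rw [Groth.Agent.Lib.T2H6.FieldBC.finrank_HH_eq_of_iso k X e 1]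
      omega

/-- **S19880** (internal form). -/
theorem exists_sections_h0_eq_one [IsSepClosed k] [Smooth (X ↘ Spec (CommRingCat.of k))]
    (hdim : topologicalKrullDim X = 1) (hreg : ∀ x : X, IsRegularLocalRing (X.presheaf.stalk x))
    (h0 : Module.finrank k (Coh.HH X (Coh.structureModule X) 0) = 1)
    (g : ℕ) (hg : Curv2.genus k X = g) (r : ℕ) (hr : 2 * g < r)
    (L : X.Modules) (hL : PicF.IsInvertible L) (hLdeg : Curv2.deg k X L 1 = (r : ℤ)) :
    ∃ σ : Fin (r - g) → (Spec (CommRingCat.of k) ⟶ X),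
      (∀ t, σ t ≫ (X ↘ Spec (CommRingCat.of k)) = 𝟙 _) ∧
      Module.finrank k (Coh.HH X (CohB1.tensorMod L (FGA.tensorList (List.ofFn fun t : Fin (r - g) =>
        ClSub.idealMod (σ t).ker))) 0) = 1 := by
  haveI : L.IsQuasicoherent := (Groth.Agent.Lib.T2H6.CurveDeg.isCoh_of_isInvertible L hL).1
  haveI : (Coh.structureModule X).IsQuasicoherent :=
    (Groth.Agent.Lib.T2H5.GenIsoF.isCoh_structureModule (Z := X)).1
  haveI h1 : Subsingleton (Coh.HH X L 1) :=
    Groth.Agent.Lib.T2H9.VBNorm.h1_subsingleton_of_deg_gt k hdim h0 L hL (by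
      rw [hLdeg, hg]
      push_cast
      omega)
  have h1' : Module.finrank k (Coh.HH X L 1) = 0 := Module.finrank_zero_of_subsingleton
  have eL := Groth.Agent.Lib.T2H6.CurveRR.euler_eq_sub k hdim L
  have eO := Groth.Agent.Lib.T2H6.CurveRR.euler_eq_sub k hdim (Coh.structureModule X)
  have hgg : (Module.finrank k (Coh.HH X (Coh.structureModule X) 1) : ℤ) = (g : ℤ) := by
    rw [← hg]; rfl
  rw [h0, hgg] at eO
  rw [h1'] at eL
  have hd : Curv2.deg k X L 1 =
      Curv2.euler k X L - ((1 : ℕ) : ℤ) * Curv2.euler k X (Coh.structureModule X) := rfl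
  rw [hd, eL, eO] at hLdeg
  push_cast at hLdeg
  have hh0 : Module.finrank k (Coh.HH X L 0) = r + 1 - g := by omega
  obtain ⟨σ, hσ, -, e0, -⟩ := exists_sections_drop k hdim hreg L hL (r - g) (by omega)
  exact ⟨σ, hσ, by omega⟩

end Groth.Agent.Lib.T2H9.RatTwist
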