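import Mathlib
import Groth.Prelude
import Groth.Agent.Lib.T2H9RatTwist
import Groth.Agent.Lib.T2H9DegDual
import Groth.Agent.Lib.T2H9CurveOmega
import Groth.Agent.Lib.T2H6PtTwistF

/-!
# `h¹(L(Q))` for a rational point `Q` (helper9): S17807
-/

set_option autoImplicit false
set_option linter.style.haveILetI false
set_option linter.unusedSectionVars false
set_option linter.unusedVariables false
universe u

open CategoryTheory CategoryTheory.Limits AlgebraicGeometry TopologicalSpace

namespace Groth.Agent.Lib.T2H9.RatTwist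

open Groth.Agent.Lib.T2H6.PtTwistA Groth.Agent.Lib.T2H6.PtTwistB Groth.Agent.Lib.T2H9.RatPt
  Groth.Agent.Lib.T2H5.Twist Groth.Agent.Lib.T2H9.TensorInv Groth.Agent.Lib.T2H9.DegDual
  Groth.Agent.Lib.T2H6.CurveSerre

variable (k : Type u) [Field k] {X : Scheme.{u}} [X.Over (Spec (CommRingCat.of k))]
  [IsIntegral X] [IsProper (X ↘ Spec (CommRingCat.of k))]

/-- `dim Hom(L, F) = h⁰(F ⊗ L⁻¹)` for invertible `L`. -/
theorem finrank_hom_invertible (L : X.Modules) (hL : PicF.IsInvertible L) (F : X.Modules) :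
    Module.finrank k (L ⟶ F) = Module.finrank k (Coh.HH X (CohB1.tensorMod F (inv L)) 0) := by
  have hJ := isInvertible_inv L hL
  have e1 := trLinearEquiv k (inv L) hJ L F
  have i : Coh.structureModule X ≅ (tr (inv L)).obj L := (tensorInvIso L hL).symm
  have e2 := precompLinearEquiv k i ((tr (inv L)).obj F)
  rw [e1.finrank_eq, e2.finrank_eq]
  exact finrank_hom_eq k ((tr (inv L)).obj F)

/-- `(ω ⊗ I) ⊗ J ≅ I ⊗ (ω ⊗ J)`. -/
noncomputable def swapIso' (W I J : X.Modules) :
    CohB1.tensorMod (CohB1.tensorMod W I) J ≅ CohB1.tensorMod I (CohB1.tensorMod W J) :=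
  commIso W I J ≪≫ Groth.Agent.Lib.Helper23.LocGen.tensorAssoc I W J

/-- **S17807** (internal form). -/
theorem exists_open_h1_twist (hdim : topologicalKrullDim X = 1)
    (hreg : ∀ x : X, IsRegularLocalRing (X.presheaf.stalk x))
    (h0 : Module.finrank k (Coh.HH X (Coh.structureModule X) 0) = 1)
    (L : X.Modules) (hL : PicF.IsInvertible L) (hL1 : 0 < Module.finrank k (Coh.HH X L 1)) :
    ∃ U : X.Opens, (U : Set X).Nonempty ∧
      ∀ (σ : Spec (CommRingCat.of k) ⟶ X) (hσ : σ ≫ (X ↘ Spec (CommRingCat.of k)) = 𝟙 _)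
        (M : X.Modules) (hM : PicF.IsInvertible M)
        (hML : Nonempty (CohB1.tensorMod M (ClSub.idealMod σ.ker) ≅ L)),
        (pt k σ ∈ U → Module.finrank k (Coh.HH X M 1) = Module.finrank k (Coh.HH X L 1) - 1) ∧
        (pt k σ ∉ U → Module.finrank k (Coh.HH X M 1) = Module.finrank k (Coh.HH X L 1)) := by
  obtain ⟨ω, tr', hd, hωc, hωinv, -, -, -⟩ :=
    Groth.Agent.Lib.T2H9.CurveOmega.exists_omega k hdim hreg h0
  have hJ := isInvertible_inv L hL
  set N := CohB1.tensorMod ω (inv L) with hN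
  have hNinv : PicF.IsInvertible N := Groth.Agent.Lib.Helper23.SecTw.isInvertible_tensorMod hωinv hJ
  have hLc := Groth.Agent.Lib.T2H6.CurveDeg.isCoh_of_isInvertible L hL
  have hL1' : Module.finrank k (Coh.HH X L 1) = Module.finrank k (Coh.HH X N 0) := by
    rw [← finrank_hom_omega k hd L hLc]
    exact finrank_hom_invertible k L hL ω
  have eN := Groth.Agent.Lib.Helper23.TensorUnit.unitTensorIso N
  have eN0 := Groth.Agent.Lib.T2H6.FieldBC.finrank_HH_eq_of_iso k X eN 0
  refine ⟨⨆ s₀ : Coh.structureModule X ⟶ CohB1.tensorMod (Coh.structureModule X) N,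
    CohB1.genLocus _ s₀, ?_, ?_⟩
  · have hnt : Nontrivial (Coh.HH X (CohB1.tensorMod (Coh.structureModule X) N) 0) := by
      apply Module.nontrivial_of_finrank_pos (R := k)
      rw [eN0, ← hL1']
      exact hL1
    obtain ⟨s₀, hs₀⟩ := Groth.Agent.Lib.T2H6.CurveRR.exists_section_ne_zero _ hnt
    have hOM : PicF.IsInvertible (CohB1.tensorMod (Coh.structureModule X) N) :=
      Groth.Agent.Lib.Helper23.SecTw.isInvertible_tensorMod
        (Groth.Agent.Lib.Helper23.TensorUnit.isInvertible_structureModule X) hNinv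
    have hgen := Groth.Agent.Lib.T2H6.PosH.genericPoint_mem_genLocus _ hOM s₀ hs₀
    exact ⟨genericPoint X, TopologicalSpace.Opens.mem_iSup.2 ⟨s₀, hgen⟩⟩
  · intro σ hσ M hM ⟨e⟩
    have hI := (isInvertible_idealMod_ker k hdim hreg σ hσ).1
    have hMc := Groth.Agent.Lib.T2H6.CurveDeg.isCoh_of_isInvertible M hM
    -- `h¹(M) = h⁰(I ⊗ N)`
    have hM1 : Module.finrank k (Coh.HH X M 1) =
        Module.finrank k (Coh.HH X (CohB1.tensorMod (ClSub.idealMod σ.ker) N) 0) := by
      rw [← finrank_hom_omega k hd M hMc]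
      have e1 := trLinearEquiv k (ClSub.idealMod σ.ker) hI M ω
      have i : L ≅ (tr (ClSub.idealMod σ.ker)).obj M := e.symm
      have e2 := precompLinearEquiv k i ((tr (ClSub.idealMod σ.ker)).obj ω)
      rw [e1.finrank_eq, e2.finrank_eq, finrank_hom_invertible k L hL]
      exact Groth.Agent.Lib.T2H6.FieldBC.finrank_HH_eq_of_iso k X
        (swapIso' ω (ClSub.idealMod σ.ker) (inv L)) 0
    have hcl := isClosed_pt k σ hσ
    have hrat := resMap_surjective k σ hσ
    rw [hM1, hL1', ker_eq_ptIdeal k σ hσ, ← eN0]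
    constructor
    · intro hU
      obtain ⟨s₀, hs₀⟩ := TopologicalSpace.Opens.mem_iSup.1 hU
      obtain ⟨d0, -⟩ := drop k hdim (pt k σ) hcl hrat N hNinv s₀ hs₀
      omega
    · intro hU
      exact Groth.Agent.Lib.T2H6.PtTwistF.stay_all k (pt k σ) hcl N hNinv (fun s₀ hs₀ =>
        hU (TopologicalSpace.Opens.mem_iSup.2 ⟨s₀, hs₀⟩))

end Groth.Agent.Lib.T2H9.RatTwist
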