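import Mathlib
import Groth.Prelude
import Groth.Agent.Lib.T2H9RatTwistB
import Groth.Agent.Lib.T2H1RpushSupport
import Groth.Agent.Lib.T2H5Dim0b
import Groth.Agent.Lib.T2H5GenIsoB
import Groth.Agent.Lib.T2H9VarSmRat
import Groth.Agent.Lib.Helper3FibDimBC
import Groth.Agent.Lib.T2H9RatPt
import Groth.Agent.Lib.Helper11SepPts
import Groth.Agent.Lib.T2H5FlatPullback
import Groth.Agent.Lib.T2H6AmpleCrit
import Groth.Agent.Lib.Helper23PB
import Groth.Agent.Lib.T2H9FBCMain
import Groth.Agent.Lib.T2H6FieldBC2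

/-!
# Twisting down by pulled-back point ideals after a field extension (helper9): S6487
-/

set_option autoImplicit false
set_option linter.style.haveILetI false
set_option linter.unusedSectionVars false
set_option linter.unusedVariables false
universe u

open CategoryTheory CategoryTheory.Limits AlgebraicGeometry TopologicalSpace

namespace Groth.Agent.Lib.T2H9.RatTwistC

open Groth.Agent.Lib.T2H6.PtTwistA Groth.Agent.Lib.T2H6.PtTwistB Groth.Agent.Lib.T2H9.RatPt
  Groth.Agent.Lib.T2H5.Twist Groth.Agent.Lib.T2H9.TensorInv Groth.Agent.Lib.T2H9.RatTwist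

section nv

variable {Y : Scheme.{u}}

/-- for invertible `M`, the support of `T` is contained in that of `T ⊗ M`. -/
theorem support_subset_support_tensor (T M : Y.Modules) (hM : PicF.IsInvertible M) :
    CohB1.support T ⊆ CohB1.support (CohB1.tensorMod T M) := by
  have e1 : CohB1.tensorMod (CohB1.tensorMod T M) (inv M) ≅
      CohB1.tensorMod T (CohB1.tensorMod M (inv M)) :=
    Groth.Agent.Lib.Helper23.LocGen.tensorAssoc T M (inv M)
  have e2 : CohB1.tensorMod T (CohB1.tensorMod M (inv M)) ≅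
      CohB1.tensorMod T (Coh.structureModule Y) :=
    Groth.Agent.Lib.Helper23.AmpleIso.tensorModIso (Iso.refl T) (tensorInvIso M hM)
  have e3 : CohB1.tensorMod T (Coh.structureModule Y) ≅ CohB1.tensorMod (Coh.structureModule Y) T :=
    Groth.Agent.Lib.T2H4.AmpleAffine.tensorComm T (Coh.structureModule Y)
  have e4 : CohB1.tensorMod (Coh.structureModule Y) T ≅ T :=
    Groth.Agent.Lib.Helper23.TensorUnit.unitTensorIso T
  have e : CohB1.tensorMod (CohB1.tensorMod T M) (inv M) ≅ T := e1 ≪≫ e2 ≪≫ e3 ≪≫ e4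
  rw [← Groth.Agent.Lib.T2H5.GenIsoB.support_eq_of_iso e]
  exact Groth.Agent.Lib.T2H5.Dim0.support_tensorMod_subset _ _

/-- a section of `O ⊗ M` generating at a point of the support of a quotient `T` of `O` does not die in `T ⊗ M`. -/
theorem comp_map_ne_zero (T : Y.Modules) (π : Coh.structureModule Y ⟶ T) [Epi π]
    (M : Y.Modules) (hM : PicF.IsInvertible M) (p : Y) (hpT : p ∈ CohB1.support T)
    (s₁ : Coh.structureModule Y ⟶ (tr M).obj (Coh.structureModule Y))
    (hp : p ∈ CohB1.genLocus ((tr M).obj (Coh.structureModule Y)) s₁) :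
    s₁ ≫ (tr M).map π ≠ 0 := by
  intro h0
  unfold CohB1.genLocus at hp
  obtain ⟨U', hU', hpU'⟩ := TopologicalSpace.Opens.mem_sSup.1 hp
  obtain ⟨U, hUU⟩ : ∃ U : Y.Opens, U = U' := ⟨U', rfl⟩
  have hU : IsIso ((Scheme.Modules.restrictFunctor U.ι).map s₁) := by
    rw [hUU]; exact hU'
  have hpU : p ∈ U := by rw [hUU]; exact hpU'
  haveI := hU
  haveI := preservesFiniteColimits_tr M
  haveI : Epi ((tr M).map π) := inferInstance
  haveI : (Scheme.Modules.restrictFunctor U.ι).IsLeftAdjoint :=
    (Scheme.Modules.restrictAdjunction U.ι).isLeftAdjoint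
  haveI : Epi ((Scheme.Modules.restrictFunctor U.ι).map ((tr M).map π)) := inferInstance
  have h1 : (Scheme.Modules.restrictFunctor U.ι).map s₁ ≫
      (Scheme.Modules.restrictFunctor U.ι).map ((tr M).map π) = 0 := by
    rw [← Functor.map_comp, h0, Functor.map_zero]
  have h2 : (Scheme.Modules.restrictFunctor U.ι).map ((tr M).map π) = 0 := by
    rw [← cancel_epi ((Scheme.Modules.restrictFunctor U.ι).map s₁), h1, comp_zero]
  have hz : IsZero ((Scheme.Modules.restrictFunctor U.ι).obj ((tr M).obj T)) :=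
    IsZero.of_epi_eq_zero _ h2
  have h3 : p ∉ CohB1.support ((tr M).obj T) :=
    Groth.Agent.Lib.T2H1.RpushSupport.not_mem_support_of_isZero_restrict _ U hz p hpU
  exact h3 (support_subset_support_tensor T M hM hpT)

end nv

section ad

open Groth.Agent.Lib.T2H6.ParShA

variable (k : Type u) [Field k] {Y : Scheme.{u}} [Y.Over (Spec (CommRingCat.of k))]
  [IsIntegral Y] [IsProper (Y ↘ Spec (CommRingCat.of k))]

/-- **abstract twisting down**: for a short exact sequence `0 → J → O → T → 0` with `T` supported at closed points and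
`h⁰(T) = 1`, and a section of `O ⊗ M` not dying in `T ⊗ M`: `h⁰` drops by one and `h¹` is unchanged. -/
theorem drop_of_shortExact (hdim : topologicalKrullDim Y = 1)
    {J T : Y.Modules} (f : J ⟶ Coh.structureModule Y) (π : Coh.structureModule Y ⟶ T) (w : f ≫ π = 0)
    (hS : (ShortComplex.mk f π w).ShortExact)
    (hJc : Coh.IsCoh J) (hTc : Coh.IsCoh T)
    (hpts : ∀ x ∈ CohB1.support T, IsClosed ({x} : Set Y))
    (hT1 : Module.finrank k (Coh.HH Y T 0) = 1)
    (M : Y.Modules) (hM : PicF.IsInvertible M)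
    (s₁ : Coh.structureModule Y ⟶ (tr M).obj (Coh.structureModule Y))
    (hne : s₁ ≫ (tr M).map π ≠ 0) :
    Module.finrank k (Coh.HH Y ((tr M).obj J) 0) + 1 =
      Module.finrank k (Coh.HH Y ((tr M).obj (Coh.structureModule Y)) 0) ∧
    Module.finrank k (Coh.HH Y ((tr M).obj J) 1) =
      Module.finrank k (Coh.HH Y ((tr M).obj (Coh.structureModule Y)) 1) := by
  haveI : IsNoetherian Y := Groth.Agent.Lib.T2H6.CurveSatur.isNoetherian_of_proper k
  set S := ShortComplex.mk f π w with hSdef
  have hSM : (S.map (tr M)).ShortExact := shortExact_map_tr hM S hS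
  have hOc : Coh.IsCoh (Coh.structureModule Y) := Groth.Agent.Lib.T2H5.GenIsoF.isCoh_structureModule
  have hMc := Groth.Agent.Lib.T2H6.CurveDeg.isCoh_of_isInvertible M hM
  have h1c : Coh.IsCoh (S.map (tr M)).X₁ := Groth.Agent.Lib.T2H6.TensorDeg.isCoh_tensor _ M hJc hMc
  have h2c : Coh.IsCoh (S.map (tr M)).X₂ := Groth.Agent.Lib.T2H6.TensorDeg.isCoh_tensor _ M hOc hMc
  have h3c : Coh.IsCoh (S.map (tr M)).X₃ := Groth.Agent.Lib.T2H6.TensorDeg.isCoh_tensor _ M hTc hMc
  have hTMpts : ∀ x ∈ CohB1.support (CohB1.tensorMod T M), IsClosed ({x} : Set Y) := fun x hx =>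
    hpts x (Groth.Agent.Lib.T2H5.Dim0.support_tensorMod_subset _ _ hx)
  have hM1 := Groth.Agent.Lib.Helper23.SecTw.isFinLocFreeOfRank_one_of_isInvertible M hM
  have e1 := Groth.Agent.Lib.T2H6.EffCartier.euler_tensor_of_closedPoints k _ hTc hpts 1 M hM1
  have h3c' : Coh.IsCoh (CohB1.tensorMod T M) := h3c
  rw [Groth.Agent.Lib.T2H6.PosD.euler_eq_finrank_of_closedPoints k _ h3c' hTMpts,
    Groth.Agent.Lib.T2H6.PosD.euler_eq_finrank_of_closedPoints k _ hTc hpts, hT1] at e1
  have e1' : Module.finrank k (Coh.HH Y (S.map (tr M)).X₃ 0) = 1 := by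
    have : (Module.finrank k (Coh.HH Y (CohB1.tensorMod T M) 0) : ℤ) = 1 := by
      rw [e1]; simp
    exact_mod_cast this
  have ht : IsTors (S.map (tr M)).X₃ := by
    rw [isTors_iff]
    intro hgen
    exact genericPoint_ne_of_isClosed hdim (genericPoint Y) (hTMpts _ hgen) rfl
  have ha := Groth.Agent.Lib.T2H6.CurveLinSer.finrank_H0_eq k (S.map (tr M)) hSM h2c
  have hb := Groth.Agent.Lib.T2H6.CurveLinSer.finrank_H1_add k hdim (S.map (tr M)) hSM h1c h2c h3c ht
  haveI : Module.Finite k (Coh.HH Y (S.map (tr M)).X₃ 0) :=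
    Groth.Agent.Lib.T2H6.EulerField.finite_HH k Y _ h3c 0
  have hr1 : Module.finrank k (LinearMap.range (Canon.HHlin k (S.map (tr M)).g 0)) ≤ 1 := by
    rw [← e1']
    exact Submodule.finrank_le _
  have hr2 : 1 ≤ Module.finrank k (LinearMap.range (Canon.HHlin k (S.map (tr M)).g 0)) := by
    rw [Nat.one_le_iff_ne_zero, Ne, Submodule.finrank_eq_zero, ← Ne]
    intro hbot
    apply hne
    apply (Groth.Agent.Lib.T2H6.CurveSerre.bijective_evLin k _).1
    rw [map_zero]
    have h1 : Groth.Agent.Lib.T2H6.CurveSerre.evLin k _ (s₁ ≫ (tr M).map π) =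
        Canon.HHlin k (S.map (tr M)).g 0
          (Groth.Agent.Lib.T2H6.CurveSerre.evLin k _ s₁) :=
      Groth.Agent.Lib.T2H6.HHLin.HHlin_comp_apply k s₁ ((tr M).map π) 0 _
    rw [h1]
    have h2 : Canon.HHlin k (S.map (tr M)).g 0 (Groth.Agent.Lib.T2H6.CurveSerre.evLin k _ s₁) ∈
        LinearMap.range (Canon.HHlin k (S.map (tr M)).g 0) := LinearMap.mem_range_self _ _
    rw [hbot] at h2
    exact (Submodule.mem_bot k).1 h2
  change Module.finrank k (Coh.HH Y (S.map (tr M)).X₁ 0) + 1 =
      Module.finrank k (Coh.HH Y (S.map (tr M)).X₂ 0) ∧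
    Module.finrank k (Coh.HH Y (S.map (tr M)).X₁ 1) =
      Module.finrank k (Coh.HH Y (S.map (tr M)).X₂ 1)
  constructor <;> omega

end ad


section pts

variable (k : Type u) [Field k] {X : Scheme.{u}} [X.Over (Spec (CommRingCat.of k))]

/-- over a separably closed field, every nonempty open of a smooth scheme contains a rational point (as a section). -/
theorem exists_section_mem_open [IsSepClosed k] [Smooth (X ↘ Spec (CommRingCat.of k))]
    (U : X.Opens) (x : X) (hx : x ∈ U) :
    ∃ σ : Spec (CommRingCat.of k) ⟶ X, σ ≫ (X ↘ Spec (CommRingCat.of k)) = 𝟙 _ ∧ pt k σ ∈ U := by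
  let X' : Over (Spec (CommRingCat.of k)) := Over.mk (X ↘ Spec (CommRingCat.of k))
  haveI : Smooth X'.hom := inferInstanceAs (Smooth (X ↘ Spec (CommRingCat.of k)))
  obtain ⟨p, hp⟩ := Groth.Agent.Lib.Helper11SepPts.exists_point_mem_open k k (X := X') U x hx
  have hw := Over.w p
  obtain ⟨σ, hσ⟩ : ∃ σ : Spec (CommRingCat.of k) ⟶ X, σ = p.left := ⟨p.left, rfl⟩
  refine ⟨σ, ?_, ?_⟩
  · rw [hσ]
    refine hw.trans ?_
    change Spec.map (CommRingCat.ofHom (algebraMap k k)) = 𝟙 _
    rw [Algebra.algebraMap_self]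
    exact Spec.map_id _
  · rw [hσ]; exact hp

end pts

section bc

variable (k : Type u) [Field k] {X : Scheme.{u}} [X.Over (Spec (CommRingCat.of k))]
  (K : Type u) [Field K] [Algebra k K] {XK : Scheme.{u}} [XK.Over (Spec (CommRingCat.of K))]
  (g : XK ⟶ X)
  (hpb : IsPullback g (XK ↘ Spec (CommRingCat.of K)) (X ↘ Spec (CommRingCat.of k))
    (Spec.map (CommRingCat.ofHom (algebraMap k K))))

include hpb

theorem isProper_bc [IsProper (X ↘ Spec (CommRingCat.of k))] :
    IsProper (XK ↘ Spec (CommRingCat.of K)) :=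
  MorphismProperty.of_isPullback hpb inferInstance

theorem smooth_bc [Smooth (X ↘ Spec (CommRingCat.of k))] :
    Smooth (XK ↘ Spec (CommRingCat.of K)) :=
  MorphismProperty.of_isPullback hpb inferInstance

theorem flat_g : Flat g :=
  MorphismProperty.of_isPullback (P := @Flat) hpb.flip inferInstance

theorem universallyOpen_g : UniversallyOpen g :=
  MorphismProperty.of_isPullback (P := @UniversallyOpen) hpb.flip inferInstance

theorem dim_bc [LocallyOfFiniteType (X ↘ Spec (CommRingCat.of k))] :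
    topologicalKrullDim XK = topologicalKrullDim X :=
  Groth.Agent.Lib.Helper3.FibDimBC.topologicalKrullDim_eq_of_isPullback_field k K _ _ g hpb

theorem geometricallyIntegral_of_sepClosed [IsSepClosed k] [IsIntegral X]
    [Smooth (X ↘ Spec (CommRingCat.of k))] :
    GeometricallyIntegral (X ↘ Spec (CommRingCat.of k)) := by
  obtain ⟨σ, hσ, -⟩ := exists_section_mem_open k (X := X) ⊤ (genericPoint X) trivial
  have hrat := resMap_surjective k σ hσ
  have hsm : pt k σ ∈ (X ↘ Spec (CommRingCat.of k)).smoothLocus := by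
    rw [Scheme.Hom.smoothLocus_eq_top]; trivial
  exact Groth.Agent.Lib.T2H9.VarSmRat.geometricallyIntegral_of_smooth_rational k X _ hrat hsm

theorem isIntegral_bc [IsSepClosed k] [IsIntegral X] [Smooth (X ↘ Spec (CommRingCat.of k))] :
    IsIntegral XK := by
  have hgi := geometricallyIntegral_of_sepClosed k K g hpb
  exact hgi.geometrically_isIntegral _ g _ hpb

theorem geometricallyIntegral_bc [IsSepClosed k] [IsIntegral X]
    [Smooth (X ↘ Spec (CommRingCat.of k))] :
    GeometricallyIntegral (XK ↘ Spec (CommRingCat.of K)) := by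
  have hgi := geometricallyIntegral_of_sepClosed k K g hpb
  exact MorphismProperty.of_isPullback (P := @GeometricallyIntegral) hpb hgi

end bc

section flatpb

open Groth.Agent.Lib.T2H6.AmpleCrit Groth.Agent.Lib.Helper23.PB

variable {X XK : Scheme.{u}} (g : XK ⟶ X) (I : X.IdealSheafData)

/-- the pulled-back ideal module. -/
noncomputable def pbJ : XK.Modules := (Scheme.Modules.pullback g).obj (ClSub.idealMod I)

/-- the pulled-back quotient module. -/
noncomputable def pbT : XK.Modules := (Scheme.Modules.pullback g).obj (ClSub.quotMod I)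

/-- the pulled-back inclusion `g^* I → O`. -/
noncomputable def pbf : pbJ g I ⟶ Coh.structureModule XK :=
  (Scheme.Modules.pullback g).map (ClSub.idealModι I) ≫ (pullbackUnitIso g).hom

/-- the pulled-back projection `O → g^* (O/I)`. -/
noncomputable def pbπ : Coh.structureModule XK ⟶ pbT g I :=
  (pullbackUnitIso g).inv ≫ (Scheme.Modules.pullback g).map (ClSub.toSubscheme I)

theorem pb_w : pbf g I ≫ pbπ g I = 0 := by
  have h : ClSub.idealModι I ≫ ClSub.toSubscheme I = 0 := kernel.condition _
  have h2 : (Scheme.Modules.pullback g).map (ClSub.idealModι I) ≫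
      (Scheme.Modules.pullback g).map (ClSub.toSubscheme I) = 0 := by
    rw [← Functor.map_comp, h, Functor.map_zero]
  unfold pbf pbπ
  rw [Category.assoc, Iso.hom_inv_id_assoc]
  exact h2

/-- the pulled-back ideal sequence. -/
noncomputable def pbSC : ShortComplex XK.Modules := ShortComplex.mk (pbf g I) (pbπ g I) (pb_w g I)

theorem pbSC_shortExact [Flat g] : (pbSC g I).ShortExact := by
  haveI := Groth.Agent.Lib.T2H5.FlatPullback.preservesFiniteLimits_pullback g
  haveI := Groth.Agent.Lib.T2H5.FlatPullback.preservesFiniteColimits_pullback g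
  have h1 : ((idealSC I).map (Scheme.Modules.pullback g)).ShortExact :=
    (idealSC_shortExact I).map_of_exact (Scheme.Modules.pullback g)
  have e : (idealSC I).map (Scheme.Modules.pullback g) ≅ pbSC g I :=
    ShortComplex.isoMk (Iso.refl _) (pullbackUnitIso g) (Iso.refl _)
      (by
        change 𝟙 _ ≫ pbf g I = (Scheme.Modules.pullback g).map (ClSub.idealModι I) ≫ _
        rw [Category.id_comp]; rfl)
      (by
        change (pullbackUnitIso g).hom ≫ pbπ g I =
          (Scheme.Modules.pullback g).map (ClSub.toSubscheme I) ≫ 𝟙 _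
        unfold pbπ
        rw [Iso.hom_inv_id_assoc, Category.comp_id])
  exact ShortComplex.shortExact_of_iso e h1

instance epi_pbπ [Flat g] : Epi (pbπ g I) := (pbSC_shortExact g I).epi_g

end flatpb


section bcsec

variable (k : Type u) [Field k] {X : Scheme.{u}} [X.Over (Spec (CommRingCat.of k))]
  (K : Type u) [Field K] [Algebra k K] {XK : Scheme.{u}} [XK.Over (Spec (CommRingCat.of K))]
  (g : XK ⟶ X)
  (hpb : IsPullback g (XK ↘ Spec (CommRingCat.of K)) (X ↘ Spec (CommRingCat.of k))
    (Spec.map (CommRingCat.ofHom (algebraMap k K))))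
  (σ : Spec (CommRingCat.of k) ⟶ X) (hσ : σ ≫ (X ↘ Spec (CommRingCat.of k)) = 𝟙 _)

/-- the base-changed section. -/
noncomputable def secK : Spec (CommRingCat.of K) ⟶ XK :=
  hpb.lift (Spec.map (CommRingCat.ofHom (algebraMap k K)) ≫ σ) (𝟙 _)
    (by rw [Category.assoc, hσ, Category.comp_id, Category.id_comp])

theorem secK_g : secK k K g hpb σ hσ ≫ g = Spec.map (CommRingCat.ofHom (algebraMap k K)) ≫ σ :=
  hpb.lift_fst _ _ _

theorem secK_over : secK k K g hpb σ hσ ≫ (XK ↘ Spec (CommRingCat.of K)) = 𝟙 _ :=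
  hpb.lift_snd _ _ _

theorem isPullback_secK :
    IsPullback (secK k K g hpb σ hσ) (Spec.map (CommRingCat.ofHom (algebraMap k K))) g σ := by
  refine IsPullback.of_right ?_ (secK_g k K g hpb σ hσ) hpb.flip
  rw [secK_over, hσ]
  exact IsPullback.of_horiz_isIso ⟨by rw [Category.id_comp, Category.comp_id]⟩

theorem preimage_pt : g ⁻¹' {pt k σ} = {pt K (secK k K g hpb σ hσ)} := by
  have h := isPullback_secK k K g hpb σ hσ
  have h1 : Set.range (secK k K g hpb σ hσ) = g ⁻¹' Set.range σ := by
    have hs : Function.Surjective h.isoPullback.hom := h.isoPullback.hom.homeomorph.surjective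
    rw [← Scheme.Pullback.range_fst g σ, ← h.isoPullback_hom_fst, Scheme.Hom.comp_base,
      TopCat.coe_comp, Set.range_comp, Set.range_eq_univ.2 hs, Set.image_univ]
  rw [range_eq K (secK k K g hpb σ hσ), range_eq k σ] at h1
  exact h1.symm

end bcsec

section bcnum

variable (k : Type u) [Field k] {X : Scheme.{u}} [X.Over (Spec (CommRingCat.of k))]
  (K : Type u) [Field K] [Algebra k K] {XK : Scheme.{u}} [XK.Over (Spec (CommRingCat.of K))]
  (g : XK ⟶ X)
  (hpb : IsPullback g (XK ↘ Spec (CommRingCat.of K)) (X ↘ Spec (CommRingCat.of k))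
    (Spec.map (CommRingCat.ofHom (algebraMap k K))))
  [QuasiCompact (X ↘ Spec (CommRingCat.of k))] [IsSeparated (X ↘ Spec (CommRingCat.of k))]

include hpb

theorem finrank_HH_pb (F : X.Modules) [F.IsQuasicoherent] (i : ℕ) :
    Module.finrank K (Coh.HH XK ((Scheme.Modules.pullback g).obj F) i) =
      Module.finrank k (Coh.HH X F i) := by
  obtain ⟨e⟩ := Groth.Agent.Lib.T2H9.FBCMain.flat_base_change (A := k) (B := K) g hpb F i
  rw [← e.finrank_eq, Module.finrank_baseChange]

theorem euler_pb (F : X.Modules) [F.IsQuasicoherent] :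
    Curv2.euler K XK ((Scheme.Modules.pullback g).obj F) = Curv2.euler k X F := by
  unfold Curv2.euler
  refine finsum_congr fun i => ?_
  rw [finrank_HH_pb k K g hpb F i]

theorem euler_structureModule_pb :
    Curv2.euler K XK (Coh.structureModule XK) = Curv2.euler k X (Coh.structureModule X) := by
  haveI : (Coh.structureModule X).IsQuasicoherent :=
    (Groth.Agent.Lib.T2H5.GenIsoF.isCoh_structureModule (Z := X)).1
  rw [← euler_pb k K g hpb (Coh.structureModule X)]
  exact (Groth.Agent.Lib.T2H6.FieldBC.euler_eq_of_iso K XK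
    (Groth.Agent.Lib.Helper23.PB.pullbackUnitIso g)).symm

theorem deg_pb (F : X.Modules) [F.IsQuasicoherent] (n : ℕ) :
    Curv2.deg K XK ((Scheme.Modules.pullback g).obj F) n = Curv2.deg k X F n := by
  unfold Curv2.deg
  rw [euler_pb k K g hpb F, euler_structureModule_pb k K g hpb]

end bcnum

end Groth.Agent.Lib.T2H9.RatTwistC
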