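import Mathlib
import Groth.Agent.Lib.T2H9ASBunA
import Groth.Agent.Lib.T2H9RatTwistC
import Groth.Agent.Lib.T2H5LocusMod
import Groth.Agent.Lib.T2H5GenIsoB
import Groth.Agent.Lib.Helper2LocFree
import Groth.Agent.Lib.T2H2FlatRestrict
import Groth.Agent.Lib.T2H5Devissage
import Groth.Agent.Lib.Helper23FinType2

/-!
# Isotypical decompositions (helper9)

Namespace `Groth.Agent.Lib.T2H9.ASBun`.
-/

set_option autoImplicit false
set_option linter.style.haveILetI false
universe u v

open CategoryTheory CategoryTheory.Limits AlgebraicGeometry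

namespace Groth.Agent.Lib.T2H9.ASBun

open Groth.Agent.Lib.T2H9.HomBC Groth.Agent.Lib.T2H9.KS

section Abstract

variable {C : Type u} [Category.{v} C] [Preadditive C] [HasFiniteBiproducts C] [HasBinaryBiproducts C]
  [HasFiniteCoproducts C] (k : Type*) [Field k] [Linear k C] [IsIdempotentComplete C]

omit [HasFiniteCoproducts C] in
/-- the summands of any decomposition of a copower of an indecomposable object are copowers of it. -/
theorem summands_isotypical (L : C) (hL : Indec L) [Module.Finite k (End L)] (M : C)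
    [Module.Finite k (End M)] (r : ℕ) (eM : M ≅ ∐ fun _ : Fin r => L) {N : ℕ} (Ms : Fin N → C)
    (e : M ≅ ∐ Ms) (i : Fin N) : ∃ ri : ℕ, Nonempty (Ms i ≅ ∐ fun _ : Fin ri => L) := by
  have e' : M ≅ ⨁ Ms := e ≪≫ (biproduct.isoCoproduct Ms).symm
  have hfin : ∀ j, Module.Finite k (End (Ms j)) := fun j =>
    finite_end_of_retract k (biproduct.ι Ms j ≫ e'.inv) (e'.hom ≫ biproduct.π Ms j) (by simp)
  have hdec : ∀ j, ∃ (n : ℕ) (Hs : Fin n → C), (∀ a, Indec (Hs a)) ∧ Nonempty (Ms j ≅ ⨁ Hs) := fun j => by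
    haveI := hfin j
    exact exists_decomp k (Ms j)
  choose n Hs hHs hiso using hdec
  let φ : ∀ j, Ms j ≅ ⨁ Hs j := fun j => (hiso j).some
  have hloc : ∀ p : (Σ j, Fin (n j)), IsLocalRing (End (Hs p.1 p.2)) := fun p => by
    haveI := hfin p.1
    haveI : Module.Finite k (End (Hs p.1 p.2)) :=
      finite_end_of_retract k (biproduct.ι (Hs p.1) p.2 ≫ (φ p.1).inv)
        ((φ p.1).hom ≫ biproduct.π (Hs p.1) p.2) (by simp)
    exact isLocalRing_end k (hHs p.1 p.2)
  have hLloc : IsLocalRing (End L) := isLocalRing_end k hL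
  let Φ : (⨁ fun p : (Σ j, Fin (n j)) => Hs p.1 p.2) ≅ ⨁ fun _ : Fin r => L :=
    (biproductBiproductIso (fun j => Fin (n j)) (fun j a => Hs j a)).symm ≪≫
      (biproduct.mapIso φ).symm ≪≫ e'.symm ≪≫ eM ≪≫ (biproduct.isoCoproduct _).symm
  obtain ⟨ε, hε⟩ := uniq (fun p : (Σ j, Fin (n j)) => Hs p.1 p.2) (fun _ : Fin r => L) hloc
    (fun _ => hLloc) Φ
  exact ⟨n i, ⟨φ i ≪≫ biproduct.mapIso (fun a => (hε ⟨i, a⟩).some) ≪≫
    biproduct.isoCoproduct (fun _ : Fin (n i) => L)⟩⟩

omit [HasBinaryBiproducts C] [IsIdempotentComplete C] [HasFiniteCoproducts C] in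
theorem isZero_copow_zero' (Ws : Fin 0 → C) : IsZero (∐ Ws) := by
  rw [IsZero.iff_id_eq_zero]
  exact Sigma.hom_ext _ _ fun j => j.elim0

end Abstract

section Retract

variable {X : Scheme.{u}} [IsLocallyNoetherian X]

/-- a retract of a coherent module is coherent. -/
theorem isCoh_of_retract {A E : X.Modules} (i : A ⟶ E) (p : E ⟶ A) (hip : i ≫ p = 𝟙 A)
    (hE : Coh.IsCoh E) : Coh.IsCoh A := by
  have h0 : i ≫ (𝟙 E - p ≫ i) = 0 := by
    rw [Preadditive.comp_sub, Category.comp_id, reassoc_of% hip, sub_self]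
  let e : A ≅ kernel (𝟙 E - p ≫ i) :=
    { hom := kernel.lift _ i h0
      inv := kernel.ι _ ≫ p
      hom_inv_id := by rw [kernel.lift_ι_assoc, hip]
      inv_hom_id := by
        apply (cancel_mono (kernel.ι (𝟙 E - p ≫ i))).1
        rw [Category.assoc, kernel.lift_ι, Category.id_comp, Category.assoc]
        have := kernel.condition (𝟙 E - p ≫ i)
        rw [Preadditive.comp_sub, Category.comp_id, sub_eq_zero] at this
        exact this.symm }
  exact Groth.Agent.Lib.T2H5.Devissage.isCoh_of_iso e.symm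
    (Groth.Agent.Lib.T2H5.GenIsoB.isCoh_kernel _ hE hE)

/-- a retract of a finite locally free module is finite locally free. -/
theorem isFinLocFree_of_retract {A E : X.Modules} (i : A ⟶ E) (p : E ⟶ A) (hip : i ≫ p = 𝟙 A)
    (hE : FlatMod.IsFinLocFree E) : FlatMod.IsFinLocFree A := by
  have hEc := Groth.Agent.Lib.T2H4.HZshLF.isCoh_of_isFinLocFree E hE
  have hAc := isCoh_of_retract i p hip hEc
  haveI : A.IsQuasicoherent := hAc.1
  haveI : E.IsQuasicoherent := hEc.1
  haveI : SheafOfModules.IsFiniteType (R := X.ringCatSheaf) A := hAc.2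
  haveI := Groth.Agent.Lib.Helper23.FinType.isFinitePresentation_of_isFiniteType A
  have hflat := Groth.Agent.Lib.Helper2.LocFree.isFlat_of_isFinLocFree E hE
  intro x
  have hA : FlatMod.IsFlatAt A x := by
    haveI : Module.Flat (X.presheaf.stalk x) (E.presheaf.stalk x) := hflat x
    refine Module.Flat.of_retract (RefHull.stalkMapₗ i x) (RefHull.stalkMapₗ p x) ?_
    rw [← RefFun.stalkMapₗ_comp, hip, RefFun.stalkMapₗ_id]
  obtain ⟨D, m, hxD, e⟩ := Groth.Agent.Lib.Helper2.LocFree.exists_restrict_iso_freeMod_of_isFlatAt A x hA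
  exact ⟨D, m, hxD, e⟩

end Retract

section Geo

variable (k K : Type u) [Field k] [Field K] [Algebra k K]
  {X X' : Scheme.{u}} [X.Over (Spec (CommRingCat.of k))] [X'.Over (Spec (CommRingCat.of K))]
  (g' : X' ⟶ X)
  (h : IsPullback g' (X' ↘ Spec (CommRingCat.of K)) (X ↘ Spec (CommRingCat.of k))
    (Spec.map (CommRingCat.ofHom (algebraMap k K))))

include h in
/-- a finite locally free module which is isotypical over an algebraic extension, of indecomposable coherent
type, is a power of an indecomposable finite locally free module. -/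
theorem exists_indec_pow [Algebra.IsAlgebraic k K] [IsProper (X ↘ Spec (CommRingCat.of k))]
    (E : X.Modules) (hE : FlatMod.IsFinLocFree E) (hE0 : ¬ IsZero E) (L : X'.Modules)
    (hLc : Coh.IsCoh L) (hLi : Indec L) (r : ℕ)
    (e : (Scheme.Modules.pullback g').obj E ≅ ∐ fun _ : Fin r => L) :
    ∃ (G : X.Modules) (n : ℕ), FlatMod.IsFinLocFree G ∧ Indec G ∧
      Nonempty (E ≅ ∐ fun _ : Fin n => G) := by
  haveI : IsLocallyNoetherian X :=
    LocallyOfFiniteType.isLocallyNoetherian (X ↘ Spec (CommRingCat.of k))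
  haveI : IsProper (X' ↘ Spec (CommRingCat.of K)) :=
    Groth.Agent.Lib.T2H9.RatTwistC.isProper_bc k K g' h
  have hEc := Groth.Agent.Lib.T2H4.HZshLF.isCoh_of_isFinLocFree E hE
  haveI : Module.Finite k (End E) := Groth.Agent.Lib.T2H9.HomFinite.finite_hom k E E hEc hEc
  obtain ⟨N, Gs, hGs, ⟨eE⟩⟩ := (krullSchmidt k E).1
  have hN : N ≠ 0 := by
    rintro rfl
    exact hE0 ((isZero_copow_zero' Gs).of_iso eE)
  let j0 : Fin N := ⟨0, Nat.pos_of_ne_zero hN⟩
  let eE' : E ≅ ⨁ Gs := eE ≪≫ (biproduct.isoCoproduct Gs).symm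
  have hret : ∀ j, (biproduct.ι Gs j ≫ eE'.inv) ≫ (eE'.hom ≫ biproduct.π Gs j) = 𝟙 (Gs j) := fun j => by
    simp
  have hGc : ∀ j, Coh.IsCoh (Gs j) := fun j => isCoh_of_retract _ _ (hret j) hEc
  -- over `K`
  have hEKc := Groth.Agent.Lib.T2H5.LocusMod.isCoh_pullback g' E hEc
  haveI : Module.Finite K (End ((Scheme.Modules.pullback g').obj E)) :=
    Groth.Agent.Lib.T2H9.HomFinite.finite_hom K _ _ hEKc hEKc
  haveI : Module.Finite K (End L) := Groth.Agent.Lib.T2H9.HomFinite.finite_hom K _ _ hLc hLc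
  haveI := (Scheme.Modules.pullbackPushforwardAdjunction g').leftAdjoint_preservesColimits
  let eK : (Scheme.Modules.pullback g').obj E ≅ ∐ fun j => (Scheme.Modules.pullback g').obj (Gs j) :=
    (Scheme.Modules.pullback g').mapIso eE ≪≫ PreservesCoproduct.iso (Scheme.Modules.pullback g') Gs
  have hiso : ∀ j, Nonempty (Gs j ≅ Gs j0) := fun j => by
    obtain ⟨rj, ⟨ej⟩⟩ := summands_isotypical K L hLi ((Scheme.Modules.pullback g').obj E) r e
      (fun j => (Scheme.Modules.pullback g').obj (Gs j)) eK j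
    obtain ⟨r0, ⟨e0⟩⟩ := summands_isotypical K L hLi ((Scheme.Modules.pullback g').obj E) r e
      (fun j => (Scheme.Modules.pullback g').obj (Gs j)) eK j0
    exact nonempty_iso_of_isotypical k K g' h L (Gs j) (Gs j0) (hGc j) (hGc j0) (hGs j) (hGs j0)
      rj r0 ej e0
  exact ⟨Gs j0, N, isFinLocFree_of_retract _ _ (hret j0) hE, hGs j0,
    ⟨eE ≪≫ Sigma.mapIso (fun j => (hiso j).some)⟩⟩

end Geo

end Groth.Agent.Lib.T2H9.ASBun
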