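import Mathlib
import Groth.Prelude.Def_W4c1astiltbs12AS
import Groth.Agent.Lib.T2H9ASBunB
import Groth.Agent.Lib.T2H9TensorInv
import Groth.Agent.Lib.T2H6ParShF
import Groth.Agent.Lib.T2H9GammaBC

set_option autoImplicit false
set_option linter.style.haveILetI false
universe u v

open CategoryTheory CategoryTheory.Limits AlgebraicGeometry

namespace Groth.Agent.Lib.T2H9.ASBun

open Groth.Agent.Lib.T2H9.HomBC Groth.Agent.Lib.T2H9.KS Groth.Agent.Lib.T2H9.HomFinite
  Groth.Agent.Lib.Helper23.GenLocus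

section Scalar

variable (K : Type u) [Field K] {Y : Scheme.{u}} [Y.Over (Spec (CommRingCat.of K))]

/-- endomorphisms of the structure sheaf are scalars when all global functions are constant. -/
theorem endo_unit_scalar (hs : Function.Surjective (Coh.toGlobal (Y ↘ Spec (CommRingCat.of K))))
    (q : Coh.structureModule Y ⟶ Coh.structureModule Y) : ∃ c : K, q = c • 𝟙 _ := by
  obtain ⟨c, hc⟩ := hs (ofS ⊤ (ev1 _ q))
  refine ⟨c, ev1_injective _ ?_⟩
  rw [ev1_smul K]
  have h1 : ev1 _ (𝟙 (Coh.structureModule Y)) = toS ⊤ 1 := rfl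
  rw [h1]
  change _ = (show Γ(Y, ⊤) from Coh.toGlobal (Y ↘ Spec (CommRingCat.of K)) c) • toS ⊤ (1 : Γ(Y, ⊤))
  rw [smul_toS, mul_one]
  exact (congrArg (toS ⊤) hc).symm

open Groth.Agent.Lib.T2H5.Twist Groth.Agent.Lib.T2H9.TensorInv in
/-- endomorphisms of an invertible module are scalars when all global functions are constant. -/
theorem endo_invertible_scalar (hs : Function.Surjective (Coh.toGlobal (Y ↘ Spec (CommRingCat.of K))))
    (L : Y.Modules) (hL : PicF.IsInvertible L) (p : L ⟶ L) : ∃ c : K, p = c • 𝟙 L := by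
  let E := trEquiv (invTensorIso L hL) (tensorInvIso L hL)
  let e : (tr (inv L)).obj L ≅ Coh.structureModule Y := tensorInvIso L hL
  obtain ⟨c, hc⟩ := endo_unit_scalar K hs (e.inv ≫ (tr (inv L)).map p ≫ e.hom)
  refine ⟨c, ?_⟩
  have h1 : (tr (inv L)).map p = (tr (inv L)).map (c • 𝟙 L) := by
    rw [Groth.Agent.Lib.T2H6.ParShF.tr_map_smul K (inv L) L c]
    have h2 : (tr (inv L)).map p = e.hom ≫ (e.inv ≫ (tr (inv L)).map p ≫ e.hom) ≫ e.inv := by
      simp
    rw [h2, hc, Linear.smul_comp, Linear.comp_smul, Category.id_comp, Iso.hom_inv_id]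
  exact E.functor.map_injective h1

/-- global functions on a proper geometrically integral scheme over a field are constant. -/
theorem toGlobal_surjective [IsProper (Y ↘ Spec (CommRingCat.of K))]
    [GeometricallyIntegral (Y ↘ Spec (CommRingCat.of K))] :
    Function.Surjective (Coh.toGlobal (Y ↘ Spec (CommRingCat.of K))) := by
  haveI : GeometricallyConnected (Y ↘ Spec (CommRingCat.of K)) :=
    Groth.Agent.Lib.Helper6.SepCl.geometricallyConnected_of_geometricallyIrreducible _
  have hs := Groth.Agent.Lib.T2H9.GammaBC.appTop_surjective K Y (Y ↘ (Spec (CommRingCat.of K)))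
  unfold Coh.toGlobal
  exact hs.comp (ConcreteCategory.bijective_of_isIso (Scheme.ΓSpecIso (CommRingCat.of K)).inv).2

end Scalar

section Pow

variable {C : Type u} [Category.{v} C] [Preadditive C] (W : C) (r : ℕ)
  [HasCoproduct (fun _ : Fin r => W)]

/-- the `j`-th projection of a finite copower. -/
noncomputable def copowπ (j : Fin r) : (∐ fun _ : Fin r => W) ⟶ W :=
  Sigma.desc fun i => if i = j then 𝟙 W else 0

theorem ι_copowπ (i j : Fin r) :
    Sigma.ι (fun _ : Fin r => W) i ≫ copowπ W r j = if i = j then 𝟙 W else 0 := by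
  unfold copowπ
  rw [Sigma.ι_desc]

theorem sum_copowπ_ι : ∑ j, copowπ W r j ≫ Sigma.ι (fun _ : Fin r => W) j = 𝟙 _ := by
  refine Sigma.hom_ext _ _ fun i => ?_
  rw [Preadditive.comp_sum, Category.comp_id]
  have h1 : ∀ j, Sigma.ι (fun _ : Fin r => W) i ≫ copowπ W r j ≫ Sigma.ι (fun _ : Fin r => W) j =
      if i = j then Sigma.ι (fun _ : Fin r => W) i else 0 := by
    intro j
    rw [← Category.assoc, ι_copowπ]
    split_ifs with hij
    · subst hij
      rw [Category.id_comp]
    · rw [zero_comp]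
  rw [Finset.sum_congr rfl fun j _ => h1 j, Finset.sum_ite_eq]
  simp

theorem exists_entry_ne_zero (g : (∐ fun _ : Fin r => W) ⟶ ∐ fun _ : Fin r => W) (hg : g ≠ 0) :
    ∃ i j, Sigma.ι (fun _ : Fin r => W) i ≫ g ≫ copowπ W r j ≠ 0 := by
  by_contra hcon
  push Not at hcon
  apply hg
  have h1 : g = (∑ i, copowπ W r i ≫ Sigma.ι (fun _ : Fin r => W) i) ≫ g ≫
      ∑ j, copowπ W r j ≫ Sigma.ι (fun _ : Fin r => W) j := by
    rw [sum_copowπ_ι, Category.id_comp, Category.comp_id]
  rw [h1, Preadditive.sum_comp]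
  refine Finset.sum_eq_zero fun i _ => ?_
  rw [Preadditive.comp_sum, Preadditive.comp_sum]
  refine Finset.sum_eq_zero fun j _ => ?_
  have h2 := hcon i j
  rw [Category.assoc, ← Category.assoc g, ← Category.assoc (Sigma.ι _ i), h2, zero_comp, comp_zero]

/-- if the endomorphisms of `W` are scalars, then a nonzero endomorphism of a copower of `W` generates the unit two-sided
ideal. -/
theorem exists_sum_conj_eq_id {K : Type*} [Field K] [Linear K C]
    (hsc : ∀ p : W ⟶ W, ∃ c : K, p = c • 𝟙 W)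
    (g : (∐ fun _ : Fin r => W) ⟶ ∐ fun _ : Fin r => W) (hg : g ≠ 0) :
    ∃ A B : Fin r → ((∐ fun _ : Fin r => W) ⟶ ∐ fun _ : Fin r => W),
      ∑ l, A l ≫ g ≫ B l = 𝟙 _ := by
  obtain ⟨i, j, hij⟩ := exists_entry_ne_zero W r g hg
  obtain ⟨c, hc⟩ := hsc (Sigma.ι (fun _ : Fin r => W) i ≫ g ≫ copowπ W r j)
  have hc0 : c ≠ 0 := by
    rintro rfl
    rw [zero_smul] at hc
    exact hij hc
  refine ⟨fun l => c⁻¹ • (copowπ W r l ≫ Sigma.ι (fun _ : Fin r => W) i),
    fun l => copowπ W r j ≫ Sigma.ι (fun _ : Fin r => W) l, ?_⟩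
  rw [← sum_copowπ_ι W r]
  refine Finset.sum_congr rfl fun l _ => ?_
  have h1 : (c⁻¹ • (copowπ W r l ≫ Sigma.ι (fun _ : Fin r => W) i)) ≫ g ≫
      copowπ W r j ≫ Sigma.ι (fun _ : Fin r => W) l =
      c⁻¹ • (copowπ W r l ≫ (Sigma.ι (fun _ : Fin r => W) i ≫ g ≫ copowπ W r j) ≫
        Sigma.ι (fun _ : Fin r => W) l) := by
    rw [Linear.smul_comp]
    simp only [Category.assoc]
  rw [h1, hc, Linear.smul_comp, Linear.comp_smul, Category.id_comp, smul_smul,
    inv_mul_cancel₀ hc0, one_smul]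

end Pow

section Ideal

variable (k K : Type u) [Field k] [Field K] [Algebra k K]
  {X X' : Scheme.{u}} [X.Over (Spec (CommRingCat.of k))] [X'.Over (Spec (CommRingCat.of K))]
  (g' : X' ⟶ X)
  (h : IsPullback g' (X' ↘ Spec (CommRingCat.of K)) (X ↘ Spec (CommRingCat.of k))
    (Spec.map (CommRingCat.ofHom (algebraMap k K))))

/-- the additive subgroup of `End(g'^*E)` generated by the `c • g'^*x`, `x` in a two-sided ideal `I` of `End E`. -/
noncomputable def pbIdeal (E : X.Modules) (I : TwoSidedIdeal (End E)) :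
    AddSubgroup ((Scheme.Modules.pullback g').obj E ⟶ (Scheme.Modules.pullback g').obj E) :=
  AddSubgroup.closure {t | ∃ (c : K) (x : End E), x ∈ I ∧ t = c • (Scheme.Modules.pullback g').map x}

theorem smul_map_mem_pbIdeal (E : X.Modules) (I : TwoSidedIdeal (End E)) (c : K) (x : End E)
    (hx : x ∈ I) : c • (Scheme.Modules.pullback g').map x ∈ pbIdeal K g' E I :=
  AddSubgroup.subset_closure ⟨c, x, hx, rfl⟩

include h in
theorem comp_mem_pbIdeal [CompactSpace X] (E : X.Modules) (hE : Coh.IsCoh E) [E.IsQuasicoherent]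
    (I : TwoSidedIdeal (End E))
    (A : (Scheme.Modules.pullback g').obj E ⟶ (Scheme.Modules.pullback g').obj E)
    (t : (Scheme.Modules.pullback g').obj E ⟶ (Scheme.Modules.pullback g').obj E)
    (ht : t ∈ pbIdeal K g' E I) : A ≫ t ∈ pbIdeal K g' E I ∧ t ≫ A ∈ pbIdeal K g' E I := by
  obtain ⟨n, c, a, -, hA⟩ := exists_sum_smul_pullback k K g' h E E hE A
  unfold pbIdeal at ht
  induction ht using AddSubgroup.closure_induction with
  | mem t ht =>
    obtain ⟨d, x, hx, rfl⟩ := ht
    constructor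
    · rw [hA, Preadditive.sum_comp]
      refine AddSubgroup.sum_mem _ fun l _ => ?_
      rw [Linear.smul_comp, Linear.comp_smul, smul_smul, ← Functor.map_comp]
      exact smul_map_mem_pbIdeal K g' E I _ _ (I.mul_mem_right (x : End E) (a l) hx)
    · rw [hA, Preadditive.comp_sum]
      refine AddSubgroup.sum_mem _ fun l _ => ?_
      rw [Linear.smul_comp, Linear.comp_smul, smul_smul, ← Functor.map_comp]
      exact smul_map_mem_pbIdeal K g' E I _ _ (I.mul_mem_left (a l) (x : End E) hx)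
  | zero =>
    rw [comp_zero, zero_comp]
    exact ⟨AddSubgroup.zero_mem _, AddSubgroup.zero_mem _⟩
  | add t t' _ _ ih ih' =>
    rw [Preadditive.comp_add, Preadditive.add_comp]
    exact ⟨AddSubgroup.add_mem _ ih.1 ih'.1, AddSubgroup.add_mem _ ih.2 ih'.2⟩
  | neg t _ ih =>
    rw [Preadditive.comp_neg, Preadditive.neg_comp]
    exact ⟨AddSubgroup.neg_mem _ ih.1, AddSubgroup.neg_mem _ ih.2⟩


include h in
/-- if the identity of `g'^*E` lies in the subgroup generated by the `c • g'^*x`, `x ∈ I`, then `1 ∈ I`. -/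
theorem one_mem_of_id_mem_pbIdeal [CompactSpace X] (E : X.Modules) (hE : Coh.IsCoh E)
    [E.IsQuasicoherent] (I : TwoSidedIdeal (End E))
    (h1 : 𝟙 ((Scheme.Modules.pullback g').obj E) ∈ pbIdeal K g' E I) : (1 : End E) ∈ I := by
  by_contra hn
  let S : Submodule k (E ⟶ E) :=
    { carrier := {x | (x : End E) ∈ I}
      add_mem' := fun {a b} ha hb => I.add_mem ha hb
      zero_mem' := I.zero_mem
      smul_mem' := fun c x hx => by
        have h2 : c • x = (c • 𝟙 E) ≫ x := by rw [Linear.smul_comp, Category.id_comp]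
        change (c • x : End E) ∈ I
        rw [h2]
        exact I.mul_mem_right (x : End E) (c • 𝟙 E : End E) hx }
  obtain ⟨lam, hlam1, hlamS⟩ := Submodule.exists_le_ker_of_notMem (p := S) (v := 𝟙 E) hn
  let Λ : TensorProduct k K (E ⟶ E) →+ K :=
    ((TensorProduct.rid k K).toLinearMap ∘ₗ LinearMap.lTensor K lam).toAddMonoidHom
  let β := AddEquiv.ofBijective (homBC k K g' h.w E E) (homBC_bijective k K g' h E E hE)
  let Θ : ((Scheme.Modules.pullback g').obj E ⟶ (Scheme.Modules.pullback g').obj E) →+ K :=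
    Λ.comp β.symm.toAddMonoidHom
  have hΘ : ∀ (c : K) (x : E ⟶ E), Θ (c • (Scheme.Modules.pullback g').map x) = lam x • c := by
    intro c x
    have h2 : β (TensorProduct.tmul k c x) = c • (Scheme.Modules.pullback g').map x :=
      homBC_tmul k K g' h.w E E c x
    change Λ (β.symm (c • (Scheme.Modules.pullback g').map x)) = _
    rw [← h2, AddEquiv.symm_apply_apply]
    change (TensorProduct.rid k K) (LinearMap.lTensor K lam (TensorProduct.tmul k c x)) = _
    rw [LinearMap.lTensor_tmul, TensorProduct.rid_tmul]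
  have hker : pbIdeal K g' E I ≤ Θ.ker := by
    apply (AddSubgroup.closure_le _).2
    rintro t ⟨c, x, hx, rfl⟩
    change Θ _ = 0
    rw [hΘ]
    have h3 : lam x = 0 := hlamS (show x ∈ S from hx)
    rw [h3, zero_smul]
  have h4 : Θ (𝟙 ((Scheme.Modules.pullback g').obj E)) = 0 := hker h1
  have h5 : 𝟙 ((Scheme.Modules.pullback g').obj E) =
      (1 : K) • (Scheme.Modules.pullback g').map (𝟙 E) := by
    rw [one_smul, CategoryTheory.Functor.map_id]
  rw [h5, hΘ] at h4
  apply hlam1
  have h6 : lam (𝟙 E) • (1 : K) = algebraMap k K (lam (𝟙 E)) := by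
    rw [Algebra.smul_def, mul_one]
  rw [h6] at h4
  exact (map_eq_zero (algebraMap k K)).1 h4

include h in
/-- **two-sided ideals of `End E` are trivial** when `g'^*E` is a copower of a module with only scalar endomorphisms. -/
theorem one_mem_of_ne_zero_mem [CompactSpace X] (E : X.Modules) (hE : Coh.IsCoh E)
    [E.IsQuasicoherent] (W : X'.Modules) (hsc : ∀ p : W ⟶ W, ∃ c : K, p = c • 𝟙 W) (r : ℕ)
    (φ : (Scheme.Modules.pullback g').obj E ≅ ∐ fun _ : Fin r => W)
    (I : TwoSidedIdeal (End E)) (f : End E) (hfI : f ∈ I) (hf : f ≠ 0) : (1 : End E) ∈ I := by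
  apply one_mem_of_id_mem_pbIdeal k K g' h E hE I
  have hne : φ.inv ≫ (Scheme.Modules.pullback g').map f ≫ φ.hom ≠ 0 := by
    intro h0
    apply hf
    apply eq_zero_of_pullback_map_eq_zero k K g' h f
    have h1 := congrArg (fun t => φ.hom ≫ t ≫ φ.inv) h0
    simpa using h1
  obtain ⟨A, B, hAB⟩ := exists_sum_conj_eq_id W r hsc _ hne
  have h2 : 𝟙 ((Scheme.Modules.pullback g').obj E) =
      ∑ l, (φ.hom ≫ A l ≫ φ.inv) ≫ (Scheme.Modules.pullback g').map f ≫ (φ.hom ≫ B l ≫ φ.inv) := by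
    have h1 := congrArg (fun t => φ.hom ≫ t ≫ φ.inv) hAB
    simp only [Preadditive.sum_comp, Preadditive.comp_sum, Category.assoc, Category.id_comp,
      Iso.hom_inv_id] at h1
    rw [← h1]
    refine Finset.sum_congr rfl fun l _ => ?_
    simp only [Category.assoc]
  rw [h2]
  refine AddSubgroup.sum_mem _ fun l _ => ?_
  have h3 : (Scheme.Modules.pullback g').map f ∈ pbIdeal K g' E I := by
    have h1 := smul_map_mem_pbIdeal K g' E I 1 f hfI
    rwa [one_smul] at h1
  have h4 := (comp_mem_pbIdeal k K g' h E hE I (φ.hom ≫ B l ≫ φ.inv) _ h3).2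
  exact (comp_mem_pbIdeal k K g' h E hE I (φ.hom ≫ A l ≫ φ.inv) _ h4).1

include h in
/-- **`End E` is a simple ring** when `E ≠ 0` and `g'^*E` is a copower of a module with only scalar endomorphisms. -/
theorem isSimpleRing_end_of_copow [CompactSpace X] (E : X.Modules) (hE : Coh.IsCoh E)
    [E.IsQuasicoherent] (hE0 : ¬ IsZero E) (W : X'.Modules)
    (hsc : ∀ p : W ⟶ W, ∃ c : K, p = c • 𝟙 W) (r : ℕ)
    (φ : (Scheme.Modules.pullback g').obj E ≅ ∐ fun _ : Fin r => W) : IsSimpleRing (End E) := by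
  haveI : Nontrivial (End E) := ⟨⟨𝟙 E, 0, fun h0 => hE0 ((IsZero.iff_id_eq_zero E).2 h0)⟩⟩
  refine IsSimpleRing.of_eq_bot_or_eq_top fun I => ?_
  by_cases hI : I = ⊥
  · exact Or.inl hI
  · right
    have : ∃ f : End E, f ∈ I ∧ f ≠ 0 := by
      by_contra hcon
      push Not at hcon
      apply hI
      rw [eq_bot_iff]
      intro x hx
      exact (TwoSidedIdeal.mem_bot _).2 (hcon x hx)
    obtain ⟨f, hfI, hf⟩ := this
    exact (TwoSidedIdeal.one_mem_iff I).1 (one_mem_of_ne_zero_mem k K g' h E hE W hsc r φ I f hfI hf)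

end Ideal

section Ring

/-- a simple local Dedekind-finite ring is a division ring. -/
theorem isUnit_of_ne_zero_of_isSimpleRing {R : Type*} [Ring R] [IsLocalRing R]
    [IsDedekindFiniteMonoid R] [IsSimpleRing R] (f : R) (hf : f ≠ 0) : IsUnit f := by
  by_contra hnu
  let J : TwoSidedIdeal R := TwoSidedIdeal.mk' {x | ¬ IsUnit x} not_isUnit_zero
    (fun {a b} ha hb hab => (IsLocalRing.isUnit_or_isUnit_of_isUnit_add hab).elim ha hb)
    (fun {a} ha hna => ha (by simpa using hna.neg))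
    (fun {a b} hb hab => hb (isUnit_of_mul_isUnit_right hab))
    (fun {a b} ha hab => ha (isUnit_of_mul_isUnit_left hab))
  have hJ : J ≠ ⊤ := by
    intro htop
    have h1 : (1 : R) ∈ J := htop ▸ TwoSidedIdeal.mem_top _
    exact ((TwoSidedIdeal.mem_mk' _ _ _ _ _ _ _).1 h1) isUnit_one
  have hJ' : J = ⊥ := (eq_bot_or_eq_top J).resolve_right hJ
  have h2 : f ∈ J := (TwoSidedIdeal.mem_mk' _ _ _ _ _ _ _).2 hnu
  rw [hJ'] at h2
  exact hf ((TwoSidedIdeal.mem_bot _).1 h2)

end Ring

end Groth.Agent.Lib.T2H9.ASBun
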