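import Mathlib
import Groth.Prelude.Def_BrSev
import Groth.Agent.Lib.T2H9ASBunC

set_option autoImplicit false
set_option linter.style.haveILetI false
universe u v

open CategoryTheory CategoryTheory.Limits AlgebraicGeometry

namespace Groth.Agent.Lib.T2H9.ASBun

open Groth.Agent.Lib.T2H5.Twist Groth.Agent.Lib.Helper21.ModTensor5

section TensorCopow

variable {Y : Scheme.{u}}

/-- `(∐_r A) ⊗ B ≅ ∐_r (A ⊗ B)`. -/
noncomputable def copowTensorIso (A B : Y.Modules) (r : ℕ) :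
    CohB1.tensorMod (∐ fun _ : Fin r => A) B ≅ ∐ fun _ : Fin r => CohB1.tensorMod A B :=
  haveI := preservesFiniteColimits_tr B
  PreservesCoproduct.iso (tr B) (fun _ : Fin r => A)

/-- the braiding `A ⊗ B ≅ B ⊗ A`. -/
noncomputable def tensorSwapIso (A B : Y.Modules) : CohB1.tensorMod A B ≅ CohB1.tensorMod B A :=
  ((brd Y.sheaf).app A).app B

/-- `A ⊗ (∐_s B) ≅ ∐_s (A ⊗ B)`. -/
noncomputable def tensorCopowIso (A B : Y.Modules) (s : ℕ) :
    CohB1.tensorMod A (∐ fun _ : Fin s => B) ≅ ∐ fun _ : Fin s => CohB1.tensorMod A B :=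
  tensorSwapIso A _ ≪≫ copowTensorIso B A s ≪≫ Sigma.mapIso (fun _ => tensorSwapIso B A)

/-- a double copower is a copower over the product. -/
noncomputable def copowMulIso (W : Y.Modules) (r s : ℕ) :
    (∐ fun _ : Fin r => ∐ fun _ : Fin s => W) ≅ ∐ fun _ : Fin (r * s) => W :=
  copowProdIso W s r ≪≫ biproduct.reindex finProdFinEquiv (fun _ : Fin (r * s) => W) ≪≫
    biproduct.isoCoproduct _

/-- `(∐_r A) ⊗ (∐_s B) ≅ ∐_{rs} (A ⊗ B)`. -/
noncomputable def copowTensorCopowIso (A B : Y.Modules) (r s : ℕ) :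
    CohB1.tensorMod (∐ fun _ : Fin r => A) (∐ fun _ : Fin s => B) ≅
      ∐ fun _ : Fin (r * s) => CohB1.tensorMod A B :=
  copowTensorIso A _ r ≪≫ Sigma.mapIso (fun _ => tensorCopowIso A B s) ≪≫
    copowMulIso (CohB1.tensorMod A B) r s

end TensorCopow

end Groth.Agent.Lib.T2H9.ASBun

namespace Groth.Agent.Lib.T2H9.ASBun

open Groth.Agent.Lib.T2H5.Twist Groth.Agent.Lib.Helper23.RestrTensor

section BrSev

variable {k : Type u} [Field k] {X : Scheme.{u}} {f : X ⟶ Spec (CommRingCat.of k)}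
  {K : Type u} [Field K] [Algebra k K] {n : ℕ}

theorem nonempty_twist_tensor_iso' (e : BrSev.Splitting f K n) (j l : ℤ) :
    Nonempty (CohB1.tensorMod (e.twist j) (e.twist l) ≅ e.twist (j + l)) :=
  ⟨(pullbackTensorIso _ _ e.iso.hom).symm ≪≫
    (Scheme.Modules.pullback e.iso.hom).mapIso (nonempty_twist_tensor_iso n K j l (j + l) rfl).some⟩

theorem isTwPow_tensorMod (e : BrSev.Splitting f K n) (j l : ℤ) (r s : ℕ) (W W' : X.Modules)
    (hWt : BrSev.IsTwPow e j r W) (hW't : BrSev.IsTwPow e l s W') :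
    BrSev.IsTwPow e (j + l) (r * s) (CohB1.tensorMod W W') := by
  obtain ⟨e1⟩ := hWt
  obtain ⟨e2⟩ := hW't
  obtain ⟨e3⟩ := nonempty_twist_tensor_iso' e j l
  exact ⟨pullbackTensorIso W W' (BrSev.proj f K) ≪≫ PicGrp.tensorModIso e1 e2 ≪≫
    copowTensorCopowIso _ _ r s ≪≫ Sigma.mapIso (fun _ => e3)⟩

end BrSev

end Groth.Agent.Lib.T2H9.ASBun
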