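import Mathlib
import Groth.Agent.Lib.T2H9ASBunD

set_option autoImplicit false
set_option linter.style.haveILetI false
universe u v

open CategoryTheory CategoryTheory.Limits AlgebraicGeometry

namespace Groth.Agent.Lib.T2H9.ASBun

section HomCopow

variable {C : Type u} [Category.{v} C] [Preadditive C] {K : Type*} [Field K] [Linear K C]
  [HasFiniteCoproducts C]

/-- morphisms between finite copowers are matrices. -/
noncomputable def homCopowEquiv (A B : C) (a b : ℕ) :
    ((∐ fun _ : Fin a => A) ⟶ ∐ fun _ : Fin b => B) ≃ₗ[K] (Fin a × Fin b → (A ⟶ B)) where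
  toFun φ := fun ij => Sigma.ι (fun _ : Fin a => A) ij.1 ≫ φ ≫ copowπ B b ij.2
  invFun m := ∑ i, ∑ j, copowπ A a i ≫ m (i, j) ≫ Sigma.ι (fun _ : Fin b => B) j
  map_add' φ ψ := by
    funext ij
    simp only [Pi.add_apply, Preadditive.add_comp, Preadditive.comp_add]
  map_smul' c φ := by
    funext ij
    simp only [Pi.smul_apply, RingHom.id_apply, Linear.smul_comp, Linear.comp_smul]
  left_inv φ := by
    have h1 : φ = (∑ i, copowπ A a i ≫ Sigma.ι (fun _ : Fin a => A) i) ≫ φ ≫
        ∑ j, copowπ B b j ≫ Sigma.ι (fun _ : Fin b => B) j := by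
      rw [sum_copowπ_ι, sum_copowπ_ι, Category.id_comp, Category.comp_id]
    conv_rhs => rw [h1]
    rw [Preadditive.sum_comp]
    refine Finset.sum_congr rfl fun i _ => ?_
    rw [Preadditive.comp_sum, Preadditive.comp_sum]
    refine Finset.sum_congr rfl fun j _ => ?_
    simp only [Category.assoc]
  right_inv m := by
    funext ij
    obtain ⟨i, j⟩ := ij
    change Sigma.ι (fun _ : Fin a => A) i ≫ (∑ i', ∑ j', copowπ A a i' ≫ m (i', j') ≫
      Sigma.ι (fun _ : Fin b => B) j') ≫ copowπ B b j = m (i, j)
    rw [Preadditive.sum_comp, Preadditive.comp_sum, Finset.sum_eq_single i]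
    · rw [Preadditive.sum_comp, Preadditive.comp_sum, Finset.sum_eq_single j]
      · rw [Category.assoc, Category.assoc, ι_copowπ, if_pos rfl, Category.comp_id,
          ← Category.assoc, ι_copowπ, if_pos rfl, Category.id_comp]
      · intro j' _ hj'
        rw [Category.assoc, Category.assoc, ι_copowπ, if_neg hj', comp_zero, comp_zero, comp_zero]
      · intro hj
        exact absurd (Finset.mem_univ j) hj
    · intro i' _ hi'
      rw [Preadditive.sum_comp, Preadditive.comp_sum]
      refine Finset.sum_eq_zero fun j' _ => ?_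
      rw [Category.assoc, ← Category.assoc (Sigma.ι _ i), ι_copowπ, if_neg (Ne.symm hi'), zero_comp]
    · intro hi
      exact absurd (Finset.mem_univ i) hi

theorem finrank_hom_copow (A B : C) (a b : ℕ) (hAB : Module.finrank K (A ⟶ B) = 1) :
    Module.finrank K ((∐ fun _ : Fin a => A) ⟶ ∐ fun _ : Fin b => B) = a * b := by
  haveI : Module.Finite K (A ⟶ B) := Module.finite_of_finrank_pos (by omega)
  rw [(homCopowEquiv (K := K) A B a b).finrank_eq, Module.finrank_pi_fintype]
  simp [hAB]

/-- if all endomorphisms of a nonzero object are scalars, its endomorphism space is one-dimensional. -/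
theorem finrank_end_eq_one (A : C) (hA : 𝟙 A ≠ 0) (hsc : ∀ p : A ⟶ A, ∃ c : K, p = c • 𝟙 A) :
    Module.finrank K (A ⟶ A) = 1 := by
  rw [finrank_eq_one_iff_of_nonzero' (𝟙 A) hA]
  intro p
  obtain ⟨c, hc⟩ := hsc p
  exact ⟨c, hc.symm⟩

end HomCopow

section DivMod

variable {k : Type*} [Field k] {C : Type u} [Category.{v} C] [Preadditive C] [Linear k C]
  {C' : Type u} [Category.{v} C'] [Preadditive C'] [Linear k C']

/-- if `End W` is a division ring then `dim_k End W` divides `dim_k Hom(A, F W)` for every additive `k`-linear functor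
`F`. -/
theorem finrank_end_dvd (F : C ⥤ C') [F.Additive]
    (hF : ∀ (c : k) (W : C) (d : W ⟶ W), F.map (c • d) = c • F.map d) (W : C) (A : C')
    [Nontrivial (End W)] (hD : ∀ f : End W, IsUnit f ∨ f = 0) :
    Module.finrank k (End W) ∣ Module.finrank k (A ⟶ F.obj W) := by
  letI : DivisionRing (End W) := DivisionRing.ofIsUnitOrEqZero hD
  letI : Module (End W) (A ⟶ F.obj W) :=
    { smul := fun d v => v ≫ F.map d
      one_smul := fun v => by
        change v ≫ F.map (𝟙 W) = v
        rw [F.map_id, Category.comp_id]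
      mul_smul := fun d d' v => by
        change v ≫ F.map (d' ≫ d) = (v ≫ F.map d') ≫ F.map d
        rw [F.map_comp, Category.assoc]
      smul_zero := fun d => by
        change (0 : A ⟶ F.obj W) ≫ F.map d = 0
        rw [zero_comp]
      smul_add := fun d v v' => by
        change (v + v') ≫ F.map d = v ≫ F.map d + v' ≫ F.map d
        rw [Preadditive.add_comp]
      add_smul := fun d d' v => by
        change v ≫ F.map (d + d') = v ≫ F.map d + v ≫ F.map d'
        rw [F.map_add, Preadditive.comp_add]
      zero_smul := fun v => by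
        change v ≫ F.map (0 : W ⟶ W) = 0
        rw [F.map_zero, comp_zero] }
  haveI : IsScalarTower k (End W) (A ⟶ F.obj W) := ⟨fun c d v => by
    change v ≫ F.map (c • d) = c • (v ≫ F.map d)
    rw [hF, Linear.comp_smul]⟩
  exact ⟨_, (Module.finrank_mul_finrank k (End W) (A ⟶ F.obj W)).symm⟩

end DivMod

end Groth.Agent.Lib.T2H9.ASBun
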