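import Mathlib
import Groth.Agent.Lib.T2H9ASBunD
import Groth.Agent.Lib.T2H5GenIsoF
import Groth.Agent.Lib.Helper23TensorQCoh

set_option autoImplicit false
set_option linter.style.haveILetI false
universe u v

open CategoryTheory CategoryTheory.Limits AlgebraicGeometry TensorProduct

namespace Groth.Agent.Lib.T2H9.ASBun

open Groth.Agent.Lib.T2H9.HomBC Groth.Agent.Lib.T2H9.KS

section Dim

variable (k K : Type u) [Field k] [Field K] [Algebra k K]
  {X X' : Scheme.{u}} [X.Over (Spec (CommRingCat.of k))] [X'.Over (Spec (CommRingCat.of K))]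
  (g' : X' ⟶ X)
  (h : IsPullback g' (X' ↘ Spec (CommRingCat.of K)) (X ↘ Spec (CommRingCat.of k))
    (Spec.map (CommRingCat.ofHom (algebraMap k K))))

theorem homBC_smul (F G : X.Modules) (c : K) (z : K ⊗[k] (F ⟶ G)) :
    homBC k K g' h.w F G (c • z) = c • homBC k K g' h.w F G z := by
  induction z using TensorProduct.induction_on with
  | zero => rw [smul_zero, map_zero, smul_zero]
  | tmul d f => rw [TensorProduct.smul_tmul', homBC_tmul, homBC_tmul, smul_eq_mul, mul_smul]
  | add x y hx hy => rw [smul_add, map_add, map_add, hx, hy, smul_add]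

/-- base change of `Hom`, as a `K`-linear equivalence. -/
noncomputable def homBCEquiv [CompactSpace X] (F G : X.Modules) (hF : Coh.IsCoh F)
    [G.IsQuasicoherent] :
    (K ⊗[k] (F ⟶ G)) ≃ₗ[K]
      ((Scheme.Modules.pullback g').obj F ⟶ (Scheme.Modules.pullback g').obj G) :=
  LinearEquiv.ofBijective
    { toFun := homBC k K g' h.w F G
      map_add' := map_add _
      map_smul' := fun c z => homBC_smul k K g' h F G c z }
    (homBC_bijective k K g' h F G hF)

include h in
theorem finrank_hom_pullback [CompactSpace X] (F G : X.Modules) (hF : Coh.IsCoh F)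
    [G.IsQuasicoherent] :
    Module.finrank K ((Scheme.Modules.pullback g').obj F ⟶ (Scheme.Modules.pullback g').obj G) =
      Module.finrank k (F ⟶ G) := by
  rw [← (homBCEquiv k K g' h F G hF).finrank_eq, Module.finrank_baseChange]

end Dim

end Groth.Agent.Lib.T2H9.ASBun
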