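import Mathlib
import Groth.Agent.Lib.T2H9ASBunD
import Groth.Agent.Lib.T2H5GenIsoF
import Groth.Agent.Lib.Helper23TensorQCoh
import Groth.Agent.Lib.T2H9ASBunE1
import Groth.Agent.Lib.T2H9ASBunE2

set_option autoImplicit false
set_option linter.style.haveILetI false
universe u v

open CategoryTheory CategoryTheory.Limits AlgebraicGeometry TensorProduct

namespace Groth.Agent.Lib.T2H9.ASBun

open Groth.Agent.Lib.T2H9.HomBC Groth.Agent.Lib.T2H9.KS Groth.Agent.Lib.T2H5.Twist
  Groth.Agent.Lib.Helper23.RestrTensor Groth.Agent.Lib.Helper23.PB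

section Mult

variable (k K : Type u) [Field k] [Field K] [Algebra k K]
  {X X' : Scheme.{u}} [X.Over (Spec (CommRingCat.of k))] [X'.Over (Spec (CommRingCat.of K))]
  (g' : X' ⟶ X)
  (h : IsPullback g' (X' ↘ Spec (CommRingCat.of K)) (X ↘ Spec (CommRingCat.of k))
    (Spec.map (CommRingCat.ofHom (algebraMap k K))))

theorem tr_map_smul' (W' : X.Modules) (c : k) (W : X.Modules) (d : W ⟶ W) :
    (tr W').map (c • d) = c • (tr W').map d := by
  have h1 : c • d = (c • 𝟙 W) ≫ d := by rw [Linear.smul_comp, Category.id_comp]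
  rw [h1, Functor.map_comp, Groth.Agent.Lib.T2H6.ParShF.tr_map_smul k W' W c, Linear.smul_comp,
    Category.id_comp]

include h in
/-- **multiplicities of inverse types divide each other.** -/
theorem mult_dvd [CompactSpace X] (W W' : X.Modules) (hW : Coh.IsCoh W) (hW' : Coh.IsCoh W')
    (hWi : Indec W) (N N' : X'.Modules) (hN : 𝟙 N ≠ 0)
    (hsc : ∀ p : N ⟶ N, ∃ c : K, p = c • 𝟙 N)
    (hO : 𝟙 (Coh.structureModule X') ≠ 0)
    (hscO : ∀ p : Coh.structureModule X' ⟶ Coh.structureModule X', ∃ c : K, p = c • 𝟙 _)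
    (ψ : CohB1.tensorMod N N' ≅ Coh.structureModule X') (d d' : ℕ) (hd : 0 < d)
    (φ : (Scheme.Modules.pullback g').obj W ≅ ∐ fun _ : Fin d => N)
    (φ' : (Scheme.Modules.pullback g').obj W' ≅ ∐ fun _ : Fin d' => N') : d ∣ d' := by
  haveI : W.IsQuasicoherent := hW.1
  haveI : W'.IsQuasicoherent := hW'.1
  have h1 : Module.finrank k (End W) = d * d := by
    change Module.finrank k (W ⟶ W) = d * d
    rw [← finrank_hom_pullback k K g' h W W hW, (Linear.homCongr K φ φ).finrank_eq,
      finrank_hom_copow N N d d (finrank_end_eq_one N hN hsc)]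
  haveI : Module.Finite k (End W) :=
    Module.finite_of_finrank_pos (by rw [h1]; exact Nat.mul_pos hd hd)
  haveI : IsLocalRing (End W) := isLocalRing_end k hWi
  haveI : IsArtinianRing (End W) := IsArtinianRing.of_finite k (End W)
  haveI : IsSimpleRing (End W) := isSimpleRing_end_of_copow k K g' h W hW hWi.1 N hsc d φ
  have hD : ∀ f : End W, IsUnit f ∨ f = 0 := fun f => by
    by_cases hf : f = 0
    · exact Or.inr hf
    · exact Or.inl (isUnit_of_ne_zero_of_isSimpleRing f hf)
  haveI : (CohB1.tensorMod W W').IsQuasicoherent :=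
    Groth.Agent.Lib.Helper23.TensorQCoh.isQuasicoherent_tensorMod W W'
  have h2 : Module.finrank k (Coh.structureModule X ⟶ (tr W').obj W) = d * d' := by
    change Module.finrank k (Coh.structureModule X ⟶ CohB1.tensorMod W W') = d * d'
    rw [← finrank_hom_pullback k K g' h _ _ Groth.Agent.Lib.T2H5.GenIsoF.isCoh_structureModule]
    let α : (Scheme.Modules.pullback g').obj (Coh.structureModule X) ≅
        ∐ fun _ : Fin 1 => Coh.structureModule X' :=
      pullbackUnitIso g' ≪≫ (coproductUniqueIso (fun _ : Fin 1 => Coh.structureModule X')).symm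
    let β : (Scheme.Modules.pullback g').obj (CohB1.tensorMod W W') ≅
        ∐ fun _ : Fin (d * d') => Coh.structureModule X' :=
      pullbackTensorIso W W' g' ≪≫ PicGrp.tensorModIso φ φ' ≪≫ copowTensorCopowIso N N' d d' ≪≫
        Sigma.mapIso (fun _ => ψ)
    rw [(Linear.homCongr K α β).finrank_eq,
      finrank_hom_copow _ _ 1 (d * d') (finrank_end_eq_one _ hO hscO), one_mul]
  have h3 := finrank_end_dvd (k := k) (tr W') (fun c W d => tr_map_smul' k W' c W d) W
    (Coh.structureModule X) hD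
  rw [h1, h2] at h3
  exact Nat.dvd_of_mul_dvd_mul_left hd h3

end Mult

section Mult2

variable (k K : Type u) [Field k] [Field K] [Algebra k K]
  {X X' : Scheme.{u}} [X.Over (Spec (CommRingCat.of k))] [X'.Over (Spec (CommRingCat.of K))]
  (g' : X' ⟶ X)
  (h : IsPullback g' (X' ↘ Spec (CommRingCat.of K)) (X ↘ Spec (CommRingCat.of k))
    (Spec.map (CommRingCat.ofHom (algebraMap k K))))

omit [X'.Over (Spec (CommRingCat.of K))] in
theorem isZero_copow_of_isZero {N : X'.Modules} (hN : IsZero N) (d : ℕ) :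
    IsZero (∐ fun _ : Fin d => N) := by
  rw [IsZero.iff_id_eq_zero]
  exact Sigma.hom_ext _ _ fun j => hN.eq_of_src _ _

omit [X'.Over (Spec (CommRingCat.of K))] in
theorem isZero_of_isZero_structureModule (hO : IsZero (Coh.structureModule X')) (N : X'.Modules) :
    IsZero N := by
  have h1 : IsZero ((tr N).obj (Coh.structureModule X')) := (tr N).map_isZero hO
  have e1 : N ≅ CohB1.tensorMod N (Coh.structureModule X') := (trUnitIso.app N).symm
  exact h1.of_iso (e1 ≪≫ tensorSwapIso N _)

include h in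
/-- `mult_dvd` with the non-vanishing hypotheses derived from `W ≠ 0`. -/
theorem mult_dvd' [CompactSpace X] (W W' : X.Modules) (hW : Coh.IsCoh W) (hW' : Coh.IsCoh W')
    (hWi : Indec W) (N N' : X'.Modules)
    (hsc : ∀ p : N ⟶ N, ∃ c : K, p = c • 𝟙 N)
    (hscO : ∀ p : Coh.structureModule X' ⟶ Coh.structureModule X', ∃ c : K, p = c • 𝟙 _)
    (ψ : CohB1.tensorMod N N' ≅ Coh.structureModule X') (d d' : ℕ)
    (φ : (Scheme.Modules.pullback g').obj W ≅ ∐ fun _ : Fin d => N)
    (φ' : (Scheme.Modules.pullback g').obj W' ≅ ∐ fun _ : Fin d' => N') : d ∣ d' := by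
  haveI : W.IsQuasicoherent := hW.1
  have hN : 𝟙 N ≠ 0 := by
    intro h0
    apply hWi.1
    apply isZero_of_isZero_pullback k K g' h W
    exact (isZero_copow_of_isZero ((IsZero.iff_id_eq_zero N).2 h0) d).of_iso φ
  have hO : 𝟙 (Coh.structureModule X') ≠ 0 := by
    intro h0
    exact hN ((IsZero.iff_id_eq_zero N).1
      (isZero_of_isZero_structureModule ((IsZero.iff_id_eq_zero _).2 h0) N))
  have hd : 0 < d := by
    rcases Nat.eq_zero_or_pos d with rfl | hd
    · exfalso
      apply hWi.1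
      apply isZero_of_isZero_pullback k K g' h W
      exact (isZero_copow_zero N).of_iso φ
    · exact hd
  exact mult_dvd k K g' h W W' hW hW' hWi N N' hN hsc hO hscO ψ d d' hd φ φ'

include h in
/-- **indecomposable modules of inverse invertible types have the same multiplicity.** -/
theorem mult_eq [CompactSpace X] (W W' : X.Modules) (hW : Coh.IsCoh W) (hW' : Coh.IsCoh W')
    (hWi : Indec W) (hW'i : Indec W') (N N' : X'.Modules)
    (hsc : ∀ p : N ⟶ N, ∃ c : K, p = c • 𝟙 N) (hsc' : ∀ p : N' ⟶ N', ∃ c : K, p = c • 𝟙 N')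
    (hscO : ∀ p : Coh.structureModule X' ⟶ Coh.structureModule X', ∃ c : K, p = c • 𝟙 _)
    (ψ : CohB1.tensorMod N N' ≅ Coh.structureModule X') (d d' : ℕ)
    (φ : (Scheme.Modules.pullback g').obj W ≅ ∐ fun _ : Fin d => N)
    (φ' : (Scheme.Modules.pullback g').obj W' ≅ ∐ fun _ : Fin d' => N') : d = d' :=
  Nat.dvd_antisymm (mult_dvd' k K g' h W W' hW hW' hWi N N' hsc hscO ψ d d' φ φ')
    (mult_dvd' k K g' h W' W hW' hW hW'i N' N hsc' hscO (tensorSwapIso N' N ≪≫ ψ) d' d φ' φ)

end Mult2

end Groth.Agent.Lib.T2H9.ASBun
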