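import Mathlib
import Groth.Agent.Lib.T2H9ASBunE3
import Groth.Agent.Lib.Helper27ProjGamma2
import Groth.Prelude.Def_PicLoc

set_option autoImplicit false
set_option linter.style.haveILetI false
universe u v

open CategoryTheory CategoryTheory.Limits AlgebraicGeometry TensorProduct

namespace Groth.Agent.Lib.T2H9.ASBun

open Groth.Agent.Lib.T2H9.HomBC Groth.Agent.Lib.T2H9.KS Groth.Agent.Lib.T2H5.Twist
  Groth.Agent.Lib.Helper23.RestrTensor Groth.Agent.Lib.Helper23.PB

section BrSev2

variable {k : Type u} [Field k] {X : Scheme.{u}} {f : X ⟶ Spec (CommRingCat.of k)}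
  {K : Type u} [Field K] [Algebra k K] {n : ℕ}

/-- global functions on a split Severi–Brauer scheme are constant. -/
theorem toGlobal_surjective_of_splitting (e : BrSev.Splitting f K n) :
    Function.Surjective (Coh.toGlobal (BrSev.bcTo f K)) := by
  have h1 : IsIso (BrSev.bcTo f K).appTop := by
    rw [← e.comm, Scheme.Hom.comp_appTop]
    haveI := Groth.Agent.Lib.Helper27ProjGamma.isIso_toSpec_appTop n K
    haveI : IsIso (Scheme.Hom.appTop e.iso.hom) :=
      inferInstanceAs (IsIso (Scheme.Γ.map e.iso.hom.op))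
    infer_instance
  have hs : Function.Surjective (BrSev.bcTo f K).appTop.hom :=
    (ConcreteCategory.bijective_of_isIso (BrSev.bcTo f K).appTop).2
  unfold Coh.toGlobal
  exact hs.comp (ConcreteCategory.bijective_of_isIso (Scheme.ΓSpecIso (CommRingCat.of K)).inv).2

theorem isInvertible_splitting_twist (e : BrSev.Splitting f K n) (j : ℤ) :
    PicF.IsInvertible (e.twist j) :=
  PicLoc.isInvertible_pullback e.iso.hom (isInvertible_twist n K j)

theorem nonempty_twist_tensor_neg_iso (e : BrSev.Splitting f K n) (j : ℤ) :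
    Nonempty (CohB1.tensorMod (e.twist j) (e.twist (-j)) ≅ Coh.structureModule (BrSev.bc f K)) :=
  ⟨(pullbackTensorIso _ _ e.iso.hom).symm ≪≫
    (Scheme.Modules.pullback e.iso.hom).mapIso
      ((nonempty_twist_tensor_iso n K j (-j) 0 (by omega)).some ≪≫
        (nonempty_twist_zero_iso n K).some) ≪≫ pullbackUnitIso e.iso.hom⟩

/-- **S14202**: indecomposable modules of types `O(j)` and `O(-j)` have the same multiplicity. -/
theorem twPow_multiplicity_neg [IsProper f] (e : BrSev.Splitting f K n) (j : ℤ)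
    (W W' : X.Modules) (hW : FlatMod.IsFinLocFree W) (hW' : FlatMod.IsFinLocFree W')
    (hWi : Indec W) (hW'i : Indec W') (r r' : ℕ) (hWt : BrSev.IsTwPow e j r W)
    (hW't : BrSev.IsTwPow e (-j) r' W') : r = r' := by
  letI : X.Over (Spec (CommRingCat.of k)) := ⟨f⟩
  haveI : IsProper (X ↘ Spec (CommRingCat.of k)) := inferInstanceAs (IsProper f)
  letI : (BrSev.bc f K).Over (Spec (CommRingCat.of K)) := ⟨BrSev.bcTo f K⟩
  have hpb : IsPullback (BrSev.proj f K)
      ((BrSev.bc f K) ↘ Spec (CommRingCat.of K)) (X ↘ Spec (CommRingCat.of k))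
      (Spec.map (CommRingCat.ofHom (algebraMap k K))) :=
    IsPullback.of_hasPullback f (Spec.map (CommRingCat.ofHom (algebraMap k K)))
  haveI : CompactSpace X :=
    QuasiCompact.compactSpace_of_compactSpace (X ↘ Spec (CommRingCat.of k))
  have hs : Function.Surjective (Coh.toGlobal ((BrSev.bc f K) ↘ Spec (CommRingCat.of K))) :=
    toGlobal_surjective_of_splitting e
  obtain ⟨φ⟩ := hWt
  obtain ⟨φ'⟩ := hW't
  obtain ⟨ψ⟩ := nonempty_twist_tensor_neg_iso e j
  exact mult_eq k K (BrSev.proj f K) hpb W W'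
    (Groth.Agent.Lib.T2H4.HZshLF.isCoh_of_isFinLocFree W hW)
    (Groth.Agent.Lib.T2H4.HZshLF.isCoh_of_isFinLocFree W' hW') hWi hW'i (e.twist j) (e.twist (-j))
    (endo_invertible_scalar K hs _ (isInvertible_splitting_twist e j))
    (endo_invertible_scalar K hs _ (isInvertible_splitting_twist e (-j)))
    (endo_unit_scalar K hs) ψ r r' φ φ'

end BrSev2

end Groth.Agent.Lib.T2H9.ASBun
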