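import Mathlib
import Groth.Agent.Lib.T2H9ASBunE4
import Groth.Prelude.Def_PicGrp

set_option autoImplicit false
set_option linter.style.haveILetI false
universe u v

open CategoryTheory CategoryTheory.Limits AlgebraicGeometry TensorProduct

namespace Groth.Agent.Lib.T2H9.ASBun

open Groth.Agent.Lib.T2H9.HomBC Groth.Agent.Lib.T2H9.KS Groth.Agent.Lib.T2H5.Twist
  Groth.Agent.Lib.Helper23.RestrTensor Groth.Agent.Lib.Helper23.PB

section ScalarBC

variable (k K : Type u) [Field k] [Field K] [Algebra k K]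
  {X X' : Scheme.{u}} [X.Over (Spec (CommRingCat.of k))] [X'.Over (Spec (CommRingCat.of K))]
  (g' : X' ⟶ X)
  (h : IsPullback g' (X' ↘ Spec (CommRingCat.of K)) (X ↘ Spec (CommRingCat.of k))
    (Spec.map (CommRingCat.ofHom (algebraMap k K))))

include h in
/-- if the endomorphisms of `O_X` are `k`-scalars, those of `O_{X_K}` are `K`-scalars. -/
theorem endo_unit_scalar_bc [CompactSpace X]
    (hscX : ∀ q : Coh.structureModule X ⟶ Coh.structureModule X, ∃ c : k, q = c • 𝟙 _)
    (q : Coh.structureModule X' ⟶ Coh.structureModule X') : ∃ c : K, q = c • 𝟙 _ := by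
  haveI : (Coh.structureModule X).IsQuasicoherent :=
    (Groth.Agent.Lib.T2H5.GenIsoF.isCoh_structureModule (Z := X)).1
  let α := pullbackUnitIso g'
  obtain ⟨n, c, f, -, hq⟩ := exists_sum_smul_pullback k K g' h _ _
    Groth.Agent.Lib.T2H5.GenIsoF.isCoh_structureModule (α.hom ≫ q ≫ α.inv)
  choose a ha using fun l => hscX (f l)
  refine ⟨∑ l, c l * algebraMap k K (a l), ?_⟩
  have h1 : α.hom ≫ q ≫ α.inv = (∑ l, c l * algebraMap k K (a l)) • 𝟙 _ := by
    rw [hq, Finset.sum_smul]
    refine Finset.sum_congr rfl fun l _ => ?_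
    rw [ha l, pullback_map_smul k K g' h.w, CategoryTheory.Functor.map_id, smul_smul]
  have h2 : q = α.inv ≫ (α.hom ≫ q ≫ α.inv) ≫ α.hom := by simp
  rw [h2, h1, Linear.smul_comp, Linear.comp_smul, Category.id_comp, Iso.inv_hom_id]

end ScalarBC

section Scalar'

variable (K : Type u) [Field K] {Y : Scheme.{u}} [Y.Over (Spec (CommRingCat.of K))]

open Groth.Agent.Lib.T2H9.TensorInv in
/-- endomorphisms of an invertible module are scalars when those of the structure sheaf are. -/
theorem endo_invertible_scalar'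
    (hscO : ∀ q : Coh.structureModule Y ⟶ Coh.structureModule Y, ∃ c : K, q = c • 𝟙 _)
    (L : Y.Modules) (hL : PicF.IsInvertible L) (p : L ⟶ L) : ∃ c : K, p = c • 𝟙 L := by
  let E := trEquiv (invTensorIso L hL) (tensorInvIso L hL)
  let e : (tr (inv L)).obj L ≅ Coh.structureModule Y := tensorInvIso L hL
  obtain ⟨c, hc⟩ := hscO (e.inv ≫ (tr (inv L)).map p ≫ e.hom)
  refine ⟨c, ?_⟩
  have h1 : (tr (inv L)).map p = (tr (inv L)).map (c • 𝟙 L) := by
    rw [Groth.Agent.Lib.T2H6.ParShF.tr_map_smul K (inv L) L c]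
    have h2 : (tr (inv L)).map p = e.hom ≫ (e.inv ≫ (tr (inv L)).map p ≫ e.hom) ≫ e.inv := by
      simp
    rw [h2, hc, Linear.smul_comp, Linear.comp_smul, Category.id_comp, Iso.hom_inv_id]
  exact E.functor.map_injective h1

end Scalar'

section IndecTwist

variable {Y : Scheme.{u}}

/-- twisting by an invertible module preserves indecomposability. -/
theorem indec_tensor_of_iso_unit {W M M' : Y.Modules} (hW : Indec W)
    (e : CohB1.tensorMod M M' ≅ Coh.structureModule Y)
    (e' : CohB1.tensorMod M' M ≅ Coh.structureModule Y) : Indec (CohB1.tensorMod W M) := by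
  have i1 : ∀ A : Y.Modules, (tr M').obj ((tr M).obj A) ≅ A := fun A => (trCompIsoId e).app A
  have i2 : ∀ A : Y.Modules, (tr M).obj ((tr M').obj A) ≅ A := fun A => (trCompIsoId e').app A
  constructor
  · intro hz
    exact hW.1 (((tr M').map_isZero hz).of_iso (i1 W).symm)
  · rintro A B ⟨φ⟩
    haveI : PreservesBinaryBiproducts (tr M') := preservesBinaryBiproducts_of_preservesBiproducts _
    have φ2 : W ≅ (tr M').obj A ⊞ (tr M').obj B :=
      (i1 W).symm ≪≫ (tr M').mapIso φ ≪≫ (tr M').mapBiprod A B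
    rcases hW.2 _ _ ⟨φ2⟩ with hA | hB
    · exact Or.inl (((tr M).map_isZero hA).of_iso (i2 A).symm)
    · exact Or.inr (((tr M).map_isZero hB).of_iso (i2 B).symm)

end IndecTwist

end Groth.Agent.Lib.T2H9.ASBun
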