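import Mathlib
import Groth.Agent.Lib.T2H9ASBunF1
import Groth.Agent.Lib.T2H6RankAdd
import Groth.Agent.Lib.Helper23SecTw
import Groth.Agent.Lib.T2H5FibReg

set_option autoImplicit false
set_option linter.style.haveILetI false
universe u v

open CategoryTheory CategoryTheory.Limits AlgebraicGeometry TensorProduct

namespace Groth.Agent.Lib.T2H9.ASBun

open Groth.Agent.Lib.T2H9.HomBC Groth.Agent.Lib.T2H9.KS Groth.Agent.Lib.T2H5.Twist
  Groth.Agent.Lib.Helper23.RestrTensor Groth.Agent.Lib.Helper23.PB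

section Same

variable (k K : Type u) [Field k] [Field K] [Algebra k K]
  {X X' : Scheme.{u}} [X.Over (Spec (CommRingCat.of k))] [X'.Over (Spec (CommRingCat.of K))]
  (g' : X' ⟶ X)
  (h : IsPullback g' (X' ↘ Spec (CommRingCat.of K)) (X ↘ Spec (CommRingCat.of k))
    (Spec.map (CommRingCat.ofHom (algebraMap k K))))

include h in
/-- indecomposable coherent modules of the same type have the same multiplicity. -/
theorem mult_eq_same [Algebra.IsAlgebraic k K] [IsProper (X ↘ Spec (CommRingCat.of k))]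
    (W W' : X.Modules) (hW : Coh.IsCoh W) (hW' : Coh.IsCoh W') (hWi : Indec W) (hW'i : Indec W')
    (N : X'.Modules) (hsc : ∀ p : N ⟶ N, ∃ c : K, p = c • 𝟙 N) (d d' : ℕ)
    (φ : (Scheme.Modules.pullback g').obj W ≅ ∐ fun _ : Fin d => N)
    (φ' : (Scheme.Modules.pullback g').obj W' ≅ ∐ fun _ : Fin d' => N) : d = d' := by
  haveI : W.IsQuasicoherent := hW.1
  obtain ⟨ε⟩ := nonempty_iso_of_isotypical k K g' h N W W' hW hW' hWi hW'i d d' φ φ'
  have hN : 𝟙 N ≠ 0 := by
    intro h0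
    apply hWi.1
    apply isZero_of_isZero_pullback k K g' h W
    exact (isZero_copow_of_isZero ((IsZero.iff_id_eq_zero N).2 h0) d).of_iso φ
  have iso : (∐ fun _ : Fin d => N) ≅ ∐ fun _ : Fin d' => N :=
    φ.symm ≪≫ (Scheme.Modules.pullback g').mapIso ε ≪≫ φ'
  have h1 := finrank_hom_copow (K := K) N N d d (finrank_end_eq_one N hN hsc)
  have h2 := finrank_hom_copow (K := K) N N d' d' (finrank_end_eq_one N hN hsc)
  have h3 := (Linear.homCongr K iso iso).finrank_eq
  rw [h1, h2] at h3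
  exact Nat.mul_self_inj.1 h3

end Same

section PicCyclic

open W4c1astiltbs12 in
/-- **S15409** in library form. -/
theorem rank_periodic_symmetric (k : Type u) [Field k] {X : Scheme.{u}}
    (p : X ⟶ Spec (CommRingCat.of k)) [IsProper p] (hO : IsIso p.appTop) (K : Type u) [Field K]
    [Algebra k K] [Algebra.IsAlgebraic k K]
    [PicGrp.Law X] [PicGrp.Law (W4bk4gw11416.baseChange p K)] (hπ : PicGrp.PullMul (proj p K))
    (L : (W4bk4gw11416.baseChange p K).Modules) (hL : PicF.IsInvertible L)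
    (r : ℕ) (J : X.Modules) (hJ : PicF.IsInvertible J)
    (hJL : PicGrp.cls (bcMod p K J) (PicLoc.isInvertible_pullback (proj p K) hJ) =
      PicGrp.cls L hL ^ r)
    (j a j' : ℤ) (hj' : j' = -j ∨ j' = j + a * r)
    (N N' : (W4bk4gw11416.baseChange p K).Modules) (hN : PicF.IsInvertible N)
    (hN' : PicF.IsInvertible N')
    (hNj : PicGrp.cls N hN = PicGrp.cls L hL ^ j) (hN'j : PicGrp.cls N' hN' = PicGrp.cls L hL ^ j')
    (W W' : X.Modules) (hW : FlatMod.IsFinLocFree W) (hW' : FlatMod.IsFinLocFree W')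
    (hWi : Indec W) (hW'i : Indec W')
    (d d' : ℕ) (eW : Nonempty (bcMod p K W ≅ pow N d)) (eW' : Nonempty (bcMod p K W' ≅ pow N' d')) :
    d = d' := by
  letI : X.Over (Spec (CommRingCat.of k)) := ⟨p⟩
  haveI : IsProper (X ↘ Spec (CommRingCat.of k)) := inferInstanceAs (IsProper p)
  letI : (W4bk4gw11416.baseChange p K).Over (Spec (CommRingCat.of K)) :=
    ⟨pullback.snd p (Spec.map (CommRingCat.ofHom (algebraMap k K)))⟩
  have hpb : IsPullback (proj p K)
      ((W4bk4gw11416.baseChange p K) ↘ Spec (CommRingCat.of K)) (X ↘ Spec (CommRingCat.of k))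
      (Spec.map (CommRingCat.ofHom (algebraMap k K))) :=
    IsPullback.of_hasPullback p (Spec.map (CommRingCat.ofHom (algebraMap k K)))
  haveI : CompactSpace X :=
    QuasiCompact.compactSpace_of_compactSpace (X ↘ Spec (CommRingCat.of k))
  have hsX : Function.Surjective (Coh.toGlobal (X ↘ Spec (CommRingCat.of k))) := by
    unfold Coh.toGlobal
    exact (ConcreteCategory.bijective_of_isIso p.appTop).2.comp
      (ConcreteCategory.bijective_of_isIso (Scheme.ΓSpecIso (CommRingCat.of k)).inv).2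
  have hscO := endo_unit_scalar_bc k K (proj p K) hpb (endo_unit_scalar k hsX)
  have hsc := endo_invertible_scalar' K hscO
  have hWc := Groth.Agent.Lib.T2H4.HZshLF.isCoh_of_isFinLocFree W hW
  have hW'c := Groth.Agent.Lib.T2H4.HZshLF.isCoh_of_isFinLocFree W' hW'
  obtain ⟨φ⟩ := eW
  obtain ⟨φ'⟩ := eW'
  rcases hj' with rfl | rfl
  · have h1 : PicGrp.cls N hN * PicGrp.cls N' hN' = 1 := by
      rw [hNj, hN'j, zpow_neg, mul_inv_cancel]
    obtain ⟨ψ⟩ := (PicGrp.cls_mul_cls_eq_one_iff hN hN').1 h1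
    exact mult_eq k K (proj p K) hpb W W' hWc hW'c hWi hW'i N N' (hsc N hN) (hsc N' hN') hscO ψ
      d d' φ φ'
  · obtain ⟨M, hM, hMcls⟩ := PicGrp.exists_eq_cls ((PicGrp.cls J hJ) ^ a)
    obtain ⟨M', hM', hM'cls⟩ := PicGrp.exists_eq_cls ((PicGrp.cls J hJ) ^ (-a))
    have e1 : PicGrp.cls M hM * PicGrp.cls M' hM' = 1 := by
      rw [← hMcls, ← hM'cls, zpow_neg, mul_inv_cancel]
    obtain ⟨ψ1⟩ := (PicGrp.cls_mul_cls_eq_one_iff hM hM').1 e1
    obtain ⟨ψ2⟩ := (PicGrp.cls_mul_cls_eq_one_iff hM' hM).1 (by rw [mul_comm]; exact e1)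
    have hŴi : Indec (CohB1.tensorMod W M) := indec_tensor_of_iso_unit hWi ψ1 ψ2
    have hMK : PicGrp.cls ((Scheme.Modules.pullback (proj p K)).obj M)
        (PicLoc.isInvertible_pullback (proj p K) hM) = PicGrp.cls L hL ^ ((r : ℤ) * a) := by
      rw [← PicGrp.pullHom_cls (proj p K) hπ M hM, ← hMcls, map_zpow, PicGrp.pullHom_cls, hJL,
        ← zpow_natCast, ← zpow_mul]
    have hcl : PicGrp.cls N hN * PicGrp.cls ((Scheme.Modules.pullback (proj p K)).obj M)
        (PicLoc.isInvertible_pullback (proj p K) hM) = PicGrp.cls N' hN' := by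
      rw [hNj, hMK, hN'j, ← zpow_add]
      congr 1
      ring
    have hθ : Nonempty (CohB1.tensorMod N ((Scheme.Modules.pullback (proj p K)).obj M) ≅ N') := by
      rw [← PicGrp.cl_eq_cl_iff,
        ← PicGrp.cls_mul_cls_val hN (PicLoc.isInvertible_pullback (proj p K) hM), hcl]
      rfl
    obtain ⟨θ⟩ := hθ
    have hMc : Coh.IsCoh M := Groth.Agent.Lib.T2H6.RankAdd.isCoh_of_isFinLocFreeOfRank M 1
      (Groth.Agent.Lib.Helper23.SecTw.isFinLocFreeOfRank_one_of_isInvertible M hM)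
    exact mult_eq_same k K (proj p K) hpb (CohB1.tensorMod W M) W'
      (Groth.Agent.Lib.T2H5.FibReg.isCoh_tensor hWc hMc) hW'c hŴi hW'i N'
      (hsc N' hN') d d'
      (pullbackTensorIso W M (proj p K) ≪≫ PicGrp.tensorModIso φ (Iso.refl _) ≪≫
        copowTensorIso N _ d ≪≫ Sigma.mapIso (fun _ => θ)) φ'

end PicCyclic

end Groth.Agent.Lib.T2H9.ASBun
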