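import Mathlib
import Groth.Agent.Lib.T2H9ASBunF2

set_option autoImplicit false
set_option linter.style.haveILetI false
universe u v

open CategoryTheory CategoryTheory.Limits AlgebraicGeometry TensorProduct

namespace Groth.Agent.Lib.T2H9.ASBun

open Groth.Agent.Lib.T2H9.HomBC Groth.Agent.Lib.T2H9.KS Groth.Agent.Lib.T2H5.Twist
  Groth.Agent.Lib.Helper23.RestrTensor Groth.Agent.Lib.Helper23.PB
  Groth.Agent.Lib.Helper23.GenLocus Groth.Agent.Lib.T2H9.HomFinite

section Conn

/-- on a connected scheme every idempotent global function is trivial (no reducedness needed). -/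
theorem eq_zero_or_eq_one_of_isIdempotentElem' (Y : Scheme.{u}) [ConnectedSpace Y]
    (e : Γ(Y, ⊤)) (he : IsIdempotentElem e) : e = 0 ∨ e = 1 := by
  have h1 : Y.basicOpen e ⊓ Y.basicOpen (1 - e) = ⊥ := by
    rw [← Scheme.basicOpen_mul, mul_sub, mul_one, he.eq, sub_self, Scheme.basicOpen_zero]
  have h2 : ∀ y : Y, y ∈ Y.basicOpen e ∨ y ∈ Y.basicOpen (1 - e) := by
    intro y
    rw [Scheme.mem_basicOpen_top, Scheme.mem_basicOpen_top]
    apply IsLocalRing.isUnit_or_isUnit_of_add_one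
    rw [← map_add, add_sub_cancel, map_one]
  have hcompl : ((Y.basicOpen e : Set Y))ᶜ = (Y.basicOpen (1 - e) : Set Y) := by
    ext y
    constructor
    · intro hy
      exact (h2 y).resolve_left hy
    · intro hy hy'
      have : y ∈ Y.basicOpen e ⊓ Y.basicOpen (1 - e) := ⟨hy', hy⟩
      rw [h1] at this
      exact this
  have hclopen : IsClopen (Y.basicOpen e : Set Y) :=
    ⟨⟨by rw [hcompl]; exact (Y.basicOpen (1 - e)).2⟩, (Y.basicOpen e).2⟩
  have hunit : ∀ f : Γ(Y, ⊤), (∀ y : Y, y ∈ Y.basicOpen f) → IsUnit f := by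
    intro f hf
    apply Y.toRingedSpace.isUnit_of_isUnit_germ ⊤ f
    intro x hx
    exact (Scheme.mem_basicOpen_top Y f x).1 (hf x)
  have hmul : e * (1 - e) = 0 := by rw [mul_sub, mul_one, he.eq, sub_self]
  rcases isClopen_iff.mp hclopen with h | h
  · left
    have hu : IsUnit (1 - e) := hunit _ fun y => (h2 y).resolve_left (by
      intro hy
      have : y ∈ (Y.basicOpen e : Set Y) := hy
      rw [h] at this
      exact this)
    exact (hu.mul_left_eq_zero).1 hmul
  · right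
    have hu : IsUnit e := hunit _ fun y => by
      have : y ∈ (Y.basicOpen e : Set Y) := by rw [h]; trivial
      exact this
    have := (hu.mul_right_eq_zero).1 hmul
    exact (sub_eq_zero.mp this).symm

variable {Y : Scheme.{u}}

/-- an idempotent endomorphism of the structure module of a connected scheme is `0` or `𝟙`. -/
theorem idem_unit_eq_zero_or_id [ConnectedSpace Y]
    (σ : Coh.structureModule Y ⟶ Coh.structureModule Y) (hσ : σ ≫ σ = σ) : σ = 0 ∨ σ = 𝟙 _ := by
  have h1 : σ.app ⊤ (toS ⊤ 1) = toS ⊤ (endFun σ ⊤) := by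
    rw [end_app_eq, one_mul]
  have h2 : IsIdempotentElem (endFun σ ⊤) := by
    have h3 : (σ ≫ σ).app ⊤ (toS ⊤ 1) = toS ⊤ (endFun σ ⊤ * endFun σ ⊤) := by
      change σ.app ⊤ (σ.app ⊤ (toS ⊤ 1)) = _
      rw [h1, end_app_eq]
    rw [hσ, h1] at h3
    exact (congrArg (ofS ⊤) h3).symm
  rcases eq_zero_or_eq_one_of_isIdempotentElem' Y _ h2 with h | h
  · left
    apply ev1_injective
    change σ.app ⊤ (toS ⊤ 1) = Scheme.Modules.Hom.app (0 : Coh.structureModule Y ⟶ Coh.structureModule Y) ⊤ (toS ⊤ 1)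
    rw [h1, h]
    rfl
  · right
    apply ev1_injective
    change σ.app ⊤ (toS ⊤ 1) = Scheme.Modules.Hom.app (𝟙 (Coh.structureModule Y)) ⊤ (toS ⊤ 1)
    rw [h1, h]
    rfl

/-- an object which is nonzero and has only trivial idempotents is indecomposable. -/
theorem indec_of_idem_trivial {C : Type u} [Category.{v} C] [Preadditive C] [HasBinaryBiproducts C]
    {F : C} (h0 : ¬ IsZero F) (hid : ∀ σ : F ⟶ F, σ ≫ σ = σ → σ = 0 ∨ σ = 𝟙 F) : Indec F := by
  refine ⟨h0, ?_⟩
  rintro A B ⟨φ⟩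
  have hσ : (φ.hom ≫ biprod.fst ≫ biprod.inl ≫ φ.inv) ≫ (φ.hom ≫ biprod.fst ≫ biprod.inl ≫ φ.inv) =
      φ.hom ≫ biprod.fst ≫ biprod.inl ≫ φ.inv := by
    simp
  rcases hid _ hσ with h | h
  · left
    rw [IsZero.iff_id_eq_zero]
    have h1 : 𝟙 A = biprod.inl ≫ φ.inv ≫ (φ.hom ≫ biprod.fst ≫ biprod.inl ≫ φ.inv) ≫ φ.hom ≫
        biprod.fst := by simp
    rw [h1, h]
    simp
  · right
    rw [IsZero.iff_id_eq_zero]
    have h2 : (biprod.fst ≫ biprod.inl : A ⊞ B ⟶ A ⊞ B) = 𝟙 _ := by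
      have : (biprod.fst ≫ biprod.inl : A ⊞ B ⟶ A ⊞ B) =
          φ.inv ≫ (φ.hom ≫ biprod.fst ≫ biprod.inl ≫ φ.inv) ≫ φ.hom := by simp
      rw [this, h]
      simp
    have h3 : 𝟙 B = biprod.inr ≫ (biprod.fst ≫ biprod.inl : A ⊞ B ⟶ A ⊞ B) ≫ biprod.snd := by
      rw [h2]
      simp
    rw [h3]
    simp

/-- the structure module of a nonempty scheme is nonzero. -/
theorem not_isZero_structureModule [Nonempty Y] : ¬ IsZero (Coh.structureModule Y) := by
  intro hz
  have h1 : (𝟙 (Coh.structureModule Y)) = 0 := hz.eq_of_src _ _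
  have h2 : toS (Y := Y) ⊤ 1 = toS ⊤ 0 := by
    have := congrArg (fun σ : Coh.structureModule Y ⟶ Coh.structureModule Y => ev1 _ σ) h1
    exact this
  have h3 : (1 : Γ(Y, ⊤)) = 0 := congrArg (ofS ⊤) h2
  have h4 : (⊤ : Y.Opens) = ⊥ := by
    rw [← Scheme.basicOpen_zero Y ⊤, ← h3]
    exact (Scheme.basicOpen_of_isUnit Y isUnit_one).symm
  obtain ⟨y⟩ := ‹Nonempty Y›
  have : y ∈ (⊤ : Y.Opens) := trivial
  rw [h4] at this
  exact this

/-- the structure module of a connected scheme is indecomposable. -/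
theorem indec_structureModule [ConnectedSpace Y] : Indec (Coh.structureModule Y) :=
  indec_of_idem_trivial not_isZero_structureModule idem_unit_eq_zero_or_id

open Groth.Agent.Lib.T2H9.TensorInv in
/-- an invertible module on a connected scheme is indecomposable. -/
theorem indec_invertible [ConnectedSpace Y] (N : Y.Modules) (hN : PicF.IsInvertible N) : Indec N :=
  (indec_tensor_of_iso_unit (indec_structureModule (Y := Y)) (tensorInvIso N hN)
    (invTensorIso N hN)).of_iso (tensorSwapIso _ _ ≪≫ trUnitIso.app N)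

end Conn

end Groth.Agent.Lib.T2H9.ASBun
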