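import Mathlib
import Groth.Agent.Lib.T2H9ASBunG1
import Groth.Agent.Lib.Helper1Sky9
import Groth.Agent.Lib.T2H5PushUnit
import Groth.Agent.Lib.Helper23SecTw6

set_option autoImplicit false
set_option linter.style.haveILetI false
universe u v

open CategoryTheory CategoryTheory.Limits AlgebraicGeometry TensorProduct

namespace Groth.Agent.Lib.T2H9.ASBun

open Groth.Agent.Lib.T2H9.HomBC Groth.Agent.Lib.T2H9.KS Groth.Agent.Lib.T2H5.Twist
  Groth.Agent.Lib.Helper23.RestrTensor Groth.Agent.Lib.Helper23.PB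

section TensorPow

variable {Y : Scheme.{u}}

/-- tensor powers of isomorphic modules are isomorphic. -/
theorem nonempty_tensorPow_iso {M M' : Y.Modules} (e : M ≅ M') (j : ℕ) :
    Nonempty (CohB1.tensorPow M j ≅ CohB1.tensorPow M' j) := by
  induction j with
  | zero => exact ⟨Iso.refl _⟩
  | succ j ih =>
    obtain ⟨φ⟩ := ih
    exact ⟨PicGrp.tensorModIso φ e⟩

/-- pull-back commutes with tensor powers. -/
theorem nonempty_pullback_tensorPow_iso {Z : Scheme.{u}} (f : Z ⟶ Y) (M : Y.Modules) (j : ℕ) :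
    Nonempty ((Scheme.Modules.pullback f).obj (CohB1.tensorPow M j) ≅
      CohB1.tensorPow ((Scheme.Modules.pullback f).obj M) j) := by
  induction j with
  | zero => exact ⟨pullbackUnitIso f⟩
  | succ j ih =>
    obtain ⟨φ⟩ := ih
    exact ⟨pullbackTensorIso _ _ f ≪≫ PicGrp.tensorModIso φ (Iso.refl _)⟩

theorem nonempty_copow_cast (W : Y.Modules) (n m : ℕ) (h : n = m) :
    Nonempty ((∐ fun _ : Fin n => W) ≅ ∐ fun _ : Fin m => W) := by
  subst h
  exact ⟨Iso.refl _⟩

/-- a tensor power of a copower is a copower of the tensor power. -/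
theorem nonempty_tensorPow_copow_iso (L : Y.Modules) (d j : ℕ) :
    Nonempty (CohB1.tensorPow (∐ fun _ : Fin d => L) j ≅
      ∐ fun _ : Fin (d ^ j) => CohB1.tensorPow L j) := by
  induction j with
  | zero =>
    obtain ⟨φ⟩ := nonempty_copow_cast (Coh.structureModule Y) 1 (d ^ 0) (pow_zero d).symm
    exact ⟨(coproductUniqueIso (fun _ : Fin 1 => Coh.structureModule Y)).symm ≪≫ φ⟩
  | succ j ih =>
    obtain ⟨φ⟩ := ih
    obtain ⟨ψ⟩ := nonempty_copow_cast (CohB1.tensorMod (CohB1.tensorPow L j) L) (d ^ j * d)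
      (d ^ (j + 1)) (pow_succ d j).symm
    exact ⟨PicGrp.tensorModIso φ (Iso.refl _) ≪≫ copowTensorCopowIso _ _ _ _ ≪≫ ψ⟩

theorem isFinLocFree_tensorPow (M : Y.Modules) (hM : FlatMod.IsFinLocFree M) (j : ℕ) :
    FlatMod.IsFinLocFree (CohB1.tensorPow M j) := by
  induction j with
  | zero => exact Groth.Agent.Lib.T2H5.PushUnit.isFinLocFree_structureModule Y
  | succ j ih => exact Groth.Agent.Lib.Helper1.FLF.isFinLocFree_tensor _ _ ih hM

end TensorPow

section Geo

variable (k K : Type u) [Field k] [Field K] [Algebra k K]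
  {X X' : Scheme.{u}} [X.Over (Spec (CommRingCat.of k))] [X'.Over (Spec (CommRingCat.of K))]
  (g' : X' ⟶ X)
  (h : IsPullback g' (X' ↘ Spec (CommRingCat.of K)) (X ↘ Spec (CommRingCat.of k))
    (Spec.map (CommRingCat.ofHom (algebraMap k K))))

theorem not_isZero_copow {C : Type u} [Category.{v} C] [Preadditive C] (W : C) (hW : ¬ IsZero W) (r : ℕ)
    (hr : r ≠ 0) [HasCoproduct (fun _ : Fin r => W)] : ¬ IsZero (∐ fun _ : Fin r => W) := by
  intro hz
  apply hW
  rw [IsZero.iff_id_eq_zero]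
  have h1 := ι_copowπ W r ⟨0, Nat.pos_of_ne_zero hr⟩ ⟨0, Nat.pos_of_ne_zero hr⟩
  rw [if_pos rfl] at h1
  rw [← h1, hz.eq_of_tgt (Sigma.ι _ _) 0, zero_comp]

include h in
/-- a nonzero finite locally free module which is isotypical of indecomposable coherent type `N` over an algebraic
extension has an indecomposable finite locally free summand which is isotypical of type `N`. -/
theorem exists_indec_of_type [Algebra.IsAlgebraic k K] [IsProper (X ↘ Spec (CommRingCat.of k))]
    (E : X.Modules) (hE : FlatMod.IsFinLocFree E) (hE0 : ¬ IsZero E) (N : X'.Modules)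
    (hNc : Coh.IsCoh N) (hNi : Indec N) (r : ℕ)
    (e : (Scheme.Modules.pullback g').obj E ≅ ∐ fun _ : Fin r => N) :
    ∃ (G : X.Modules) (d : ℕ), FlatMod.IsFinLocFree G ∧ Indec G ∧
      Nonempty ((Scheme.Modules.pullback g').obj G ≅ ∐ fun _ : Fin d => N) := by
  haveI : IsProper (X' ↘ Spec (CommRingCat.of K)) :=
    Groth.Agent.Lib.T2H9.RatTwistC.isProper_bc k K g' h
  obtain ⟨G, n, hG, hGi, ⟨φ⟩⟩ := exists_indec_pow k K g' h E hE hE0 N hNc hNi r e
  have hn : n ≠ 0 := by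
    rintro rfl
    exact hE0 ((isZero_copow_zero G).of_iso φ)
  have hEc := Groth.Agent.Lib.T2H4.HZshLF.isCoh_of_isFinLocFree E hE
  have hEKc := Groth.Agent.Lib.T2H5.LocusMod.isCoh_pullback g' E hEc
  haveI : Module.Finite K (End ((Scheme.Modules.pullback g').obj E)) :=
    Groth.Agent.Lib.T2H9.HomFinite.finite_hom K _ _ hEKc hEKc
  haveI : Module.Finite K (End N) := Groth.Agent.Lib.T2H9.HomFinite.finite_hom K _ _ hNc hNc
  obtain ⟨d, hd⟩ := summands_isotypical K N hNi ((Scheme.Modules.pullback g').obj E) r e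
    (fun _ : Fin n => (Scheme.Modules.pullback g').obj G)
    ((Scheme.Modules.pullback g').mapIso φ ≪≫ pullbackCopowIso g' G n) ⟨0, Nat.pos_of_ne_zero hn⟩
  exact ⟨G, d, hG, hGi, hd⟩

include h in
/-- from an indecomposable finite locally free module of type `L` (invertible), one gets such modules of type
`L^{⊗ j}` for all `j`. -/
theorem exists_indec_tensorPow [Algebra.IsAlgebraic k K] [IsProper (X ↘ Spec (CommRingCat.of k))]
    [ConnectedSpace X']
    (L : X'.Modules) (hL : PicF.IsInvertible L)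
    (M₁ : X.Modules) (hM₁ : FlatMod.IsFinLocFree M₁) (hM₁i : Indec M₁) (d₁ : ℕ)
    (e₁ : (Scheme.Modules.pullback g').obj M₁ ≅ ∐ fun _ : Fin d₁ => L) (j : ℕ) :
    ∃ (G : X.Modules) (d : ℕ), FlatMod.IsFinLocFree G ∧ Indec G ∧
      Nonempty ((Scheme.Modules.pullback g').obj G ≅ ∐ fun _ : Fin d => CohB1.tensorPow L j) := by
  haveI : IsProper (X' ↘ Spec (CommRingCat.of K)) :=
    Groth.Agent.Lib.T2H9.RatTwistC.isProper_bc k K g' h
  haveI : IsLocallyNoetherian X' :=
    LocallyOfFiniteType.isLocallyNoetherian (X' ↘ Spec (CommRingCat.of K))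
  have hM₁c := Groth.Agent.Lib.T2H4.HZshLF.isCoh_of_isFinLocFree M₁ hM₁
  haveI : M₁.IsQuasicoherent := hM₁c.1
  have hd₁ : d₁ ≠ 0 := by
    rintro rfl
    exact hM₁i.1 (isZero_of_isZero_pullback k K g' h M₁ ((isZero_copow_zero L).of_iso e₁))
  have hLj := Groth.Agent.Lib.Helper23.SecTw.isInvertible_tensorPow hL j
  have hLji := indec_invertible _ hLj
  have hLjc : Coh.IsCoh (CohB1.tensorPow L j) :=
    Groth.Agent.Lib.T2H6.RankAdd.isCoh_of_isFinLocFreeOfRank _ 1
      (Groth.Agent.Lib.Helper23.SecTw.isFinLocFreeOfRank_one_of_isInvertible _ hLj)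
  obtain ⟨φ1⟩ := nonempty_pullback_tensorPow_iso g' M₁ j
  obtain ⟨φ2⟩ := nonempty_tensorPow_iso e₁ j
  obtain ⟨φ3⟩ := nonempty_tensorPow_copow_iso L d₁ j
  have hE0 : ¬ IsZero (CohB1.tensorPow M₁ j) := by
    intro hz
    refine not_isZero_copow (CohB1.tensorPow L j) hLji.1 (d₁ ^ j) (pow_ne_zero j hd₁) ?_
    exact ((Scheme.Modules.pullback g').map_isZero hz).of_iso (φ1 ≪≫ φ2 ≪≫ φ3).symm
  exact exists_indec_of_type k K g' h (CohB1.tensorPow M₁ j) (isFinLocFree_tensorPow M₁ hM₁ j) hE0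
    (CohB1.tensorPow L j) hLjc hLji (d₁ ^ j) (φ1 ≪≫ φ2 ≪≫ φ3)

end Geo

end Groth.Agent.Lib.T2H9.ASBun
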