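import Mathlib
import Groth.Agent.S1528
import Groth.Agent.Lib.T2H5LocSemi
import Groth.Agent.Lib.Helper3DimCons
import Groth.Agent.Lib.T2H9ASBunG2
import Groth.Agent.Lib.T2H5FibReg
import Groth.Agent.Lib.T2H5FPExtend
import Groth.Agent.Lib.T2H6FieldBC2
import Groth.Agent.Lib.Helper23RestrTensor
import Groth.Agent.Lib.Helper23PB
set_option backward.isDefEq.respectTransparency.types false

/-!
# Local constancy of the Snapper polynomial of the fibres of a flat family (helper5)

Namespace `Groth.Agent.Lib.T2H5.SnapperFam`.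

* `isFP_tensorMod_of_isInvertible`, `isFP_tensorPows`, `isFlatOver_tensorPows`
* `nonempty_pullback_tensorPows_iso`: pull-back commutes with the iterated twists
* `exists_open_fibre_dim_le`: uniform bound of the fibre dimension near a point, proper morphisms
* `exists_mvPolynomial_fibre`: Snapper polynomial of a fibre
* `mvPolynomial_eq_of_eval_eq`
* `main`: local constancy of the Snapper polynomial of the fibres
-/

set_option autoImplicit false
set_option linter.style.haveILetI false
set_option linter.unusedSectionVars false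
set_option linter.unusedVariables false
universe u
open CategoryTheory CategoryTheory.Limits AlgebraicGeometry TopologicalSpace Opposite

namespace Groth.Agent.Lib.T2H5.SnapperFam

section FP

variable {X : Scheme.{u}}

/-- twisting by an invertible module preserves finite presentation -/
theorem isFP_tensorMod_of_isInvertible (F L : X.Modules) (hF : CohB1.IsFP F) (hL : PicF.IsInvertible L) :
    CohB1.IsFP (CohB1.tensorMod F L) := by
  haveI : F.IsQuasicoherent := Groth.Agent.Helper18Strict.isQCoh_of_isFP F hF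
  haveI : L.IsQuasicoherent := Groth.Agent.Lib.Helper23.SecTw.isQuasicoherent_of_isInvertible L hL
  haveI : (CohB1.tensorMod F L).IsQuasicoherent :=
    Groth.Agent.Lib.Helper23.TensorQCoh.isQuasicoherent_tensorMod F L
  let ι : Type u := {W : X.Opens // IsAffineOpen W ∧
    Module.FinitePresentation Γ(X, W) Γ(CohB1.tensorMod F L, W)}
  refine Groth.Agent.Lib.Helper2.FinPushFP.isFinitePresentation_of_finitePresentation_sections
    (CohB1.tensorMod F L) (fun i : ι => i.1) ?_ (fun i => i.2.1) (fun i => i.2.2)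
  rw [IsOpenCover, eq_top_iff]
  intro x _
  obtain ⟨U, hxU, ⟨e⟩⟩ := hL x
  -- the restriction to `U`
  let G : (↑U : Scheme.{u}).Modules := F.restrict U.ι
  haveI : G.IsQuasicoherent := Scheme.Modules.isQuasicoherent_restrictFunctor U.ι F
  have hGfp : CohB1.IsFP G :=
    Groth.Agent.Lib.T2H5.FPColim2.isFP_of_iso ((Scheme.Modules.restrictFunctorIsoPullback U.ι).app F).symm
      (Groth.Agent.Helper18Strict.isFP_pullback U.ι F hF)
  haveI : SheafOfModules.IsFinitePresentation (R := (↑U : Scheme.{u}).ringCatSheaf) G := hGfp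
  let e' : (CohB1.tensorMod F L).restrict U.ι ≅ G :=
    Groth.Agent.Lib.Helper23.RestrTensor.restrictTensorIso F L U.ι ≪≫
      Groth.Agent.Lib.Helper23.AmpleIso.tensorModIso (Iso.refl _) e ≪≫
      Groth.Agent.Lib.Helper23.TensorUnit.tensorUnitIso _
  have hon : Groth.Agent.Lib.T2H5.FPExtend.FPOn (CohB1.tensorMod F L) U.ι.opensRange :=
    Groth.Agent.Lib.T2H5.FPExtend.fpOn_of_iso_restrict U.ι (CohB1.tensorMod F L) G e'
  obtain ⟨_, ⟨W, hW, rfl⟩, hxW, hWU⟩ :=
    X.isBasis_affineOpens.exists_subset_of_mem_open hxU U.isOpen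
  have hWU' : W ≤ U.ι.opensRange := by
    rw [Scheme.Opens.opensRange_ι]
    exact hWU
  exact Opens.mem_iSup.2 ⟨⟨W, hW, hon W hW hWU'⟩, hxW⟩

/-- the iterated twists of a finitely presented module are finitely presented -/
theorem isFP_tensorPows (F : X.Modules) (hF : CohB1.IsFP F) : ∀ (r : ℕ) (L : Fin r → X.Modules)
    (_ : ∀ i, PicF.IsInvertible (L i)) (n : Fin r → ℕ), CohB1.IsFP (Curv2.tensorPows F r L n) := by
  intro r
  induction r with
  | zero => intro L _ n; exact hF
  | succ r ih =>
    intro L hL n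
    exact isFP_tensorMod_of_isInvertible _ _ (ih (fun i => L i.castSucc) (fun i => hL i.castSucc) _)
      (Groth.Agent.Lib.Helper23.SecTw.isInvertible_tensorPow (hL (Fin.last r)) (n (Fin.last r)))

/-- the iterated twists of a module flat over the base are flat over the base -/
theorem isFlatOver_tensorPows {S : Scheme.{u}} (f : X ⟶ S) (F : X.Modules) (hF : CohB1.IsFP F)
    (hfl : FlatMod.IsFlatOver f F) : ∀ (r : ℕ) (L : Fin r → X.Modules)
    (_ : ∀ i, PicF.IsInvertible (L i)) (n : Fin r → ℕ),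
    FlatMod.IsFlatOver f (Curv2.tensorPows F r L n) := by
  intro r
  induction r with
  | zero => intro L _ n; exact hfl
  | succ r ih =>
    intro L hL n
    haveI : (Curv2.tensorPows F r (fun i => L i.castSucc) (fun i => n i.castSucc)).IsQuasicoherent :=
      Groth.Agent.Helper18Strict.isQCoh_of_isFP _
        (isFP_tensorPows F hF r (fun i => L i.castSucc) (fun i => hL i.castSucc) _)
    exact Groth.Agent.Lib.T2H5.FibReg.isFlatOver_tensor_of_isInvertible f _ _
      (Groth.Agent.Lib.Helper23.SecTw.isInvertible_tensorPow (hL (Fin.last r)) (n (Fin.last r)))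
      (ih (fun i => L i.castSucc) (fun i => hL i.castSucc) _)

/-- pull-back commutes with the iterated twists -/
theorem nonempty_pullback_tensorPows_iso {Z : Scheme.{u}} (i : Z ⟶ X) (F : X.Modules) :
    ∀ (r : ℕ) (L : Fin r → X.Modules) (n : Fin r → ℕ),
    Nonempty ((Scheme.Modules.pullback i).obj (Curv2.tensorPows F r L n) ≅
      Curv2.tensorPows ((Scheme.Modules.pullback i).obj F) r
        (fun j => (Scheme.Modules.pullback i).obj (L j)) n) := by
  intro r
  induction r with
  | zero => intro L n; exact ⟨Iso.refl _⟩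
  | succ r ih =>
    intro L n
    obtain ⟨e1⟩ := ih (fun j => L j.castSucc) (fun j => n j.castSucc)
    obtain ⟨e2⟩ := Groth.Agent.Lib.T2H9.ASBun.nonempty_pullback_tensorPow_iso i (L (Fin.last r))
      (n (Fin.last r))
    exact ⟨Groth.Agent.Lib.Helper23.RestrTensor.pullbackTensorIso _ _ i ≪≫ PicGrp.tensorModIso e1 e2⟩

end FP

section Dim

theorem exists_nat_le_of_lt_top (v : WithBot ℕ∞) (h : v < ⊤) : ∃ D : ℕ, v ≤ D := by
  induction v using WithBot.recBotCoe with
  | bot => exact ⟨0, bot_le⟩
  | coe w =>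
    have hw : w ≠ ⊤ := by
      rintro rfl
      exact lt_irrefl _ h
    obtain ⟨n, rfl⟩ := ENat.ne_top_iff_exists.1 hw
    exact ⟨n, le_rfl⟩

/-- near a point, the dimensions of the fibres of a proper morphism are uniformly bounded -/
theorem exists_open_fibre_dim_le {X S : Scheme.{u}} (f : X ⟶ S) [IsProper f] (s : S) :
    ∃ (D : ℕ) (U : S.Opens), s ∈ U ∧
      ∀ s' : S, s' ∈ U → topologicalKrullDim ↥(f.fiber s') ≤ (D : WithBot ℕ∞) := by
  obtain ⟨D, hD⟩ := exists_nat_le_of_lt_top _ (Groth.Agent.Lib.Helper3.DimCons.fibre_dim_lt_top f s)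
  let C : Set S := f '' {x : X | ((D + 1 : ℕ) : WithBot ℕ∞) ≤ FlatMor.fibreDimAt f x}
  have hC : IsClosed C :=
    f.isClosedMap _ (Groth.Agent.Lib.Helper3.DimCons.isClosed_setOf_le_fibreDimAt f (D + 1))
  refine ⟨D, ⟨Cᶜ, hC.isOpen_compl⟩, ?_, ?_⟩
  · intro hs
    have h1 := (Groth.Agent.Lib.Helper3.DimCons.natCast_le_fibre_dim_iff f s (D + 1)).2 hs
    exact (Groth.Agent.Lib.Helper3.DimCons.succ_le_iff_not_le _ D).1 h1 hD
  · intro s' hs'
    by_contra hcon
    exact hs' ((Groth.Agent.Lib.Helper3.DimCons.natCast_le_fibre_dim_iff f s' (D + 1)).1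
      ((Groth.Agent.Lib.Helper3.DimCons.succ_le_iff_not_le _ D).2 hcon))

end Dim

section Poly

theorem mvPolynomial_eq_of_eval_eq (t D : ℕ) (P Q : MvPolynomial (Fin t) ℚ) (hP : P.totalDegree ≤ D)
    (hQ : Q.totalDegree ≤ D)
    (h : ∀ n : Fin t → ℕ, (∀ i, n i ≤ D) →
      MvPolynomial.eval (fun i => (n i : ℚ)) P = MvPolynomial.eval (fun i => (n i : ℚ)) Q) : P = Q := by
  have key : P - Q = 0 := by
    refine MvPolynomial.eq_zero_of_eval_zero_at_prod_finset (P - Q)
      (fun _ => (Finset.range (D + 1)).image (Nat.cast : ℕ → ℚ)) ?_ ?_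
    · intro i
      have h1 : (P - Q).degreeOf i ≤ D :=
        (MvPolynomial.degreeOf_le_totalDegree _ _).trans
          ((MvPolynomial.totalDegree_sub _ _).trans (max_le hP hQ))
      rw [Finset.card_image_of_injective _ Nat.cast_injective, Finset.card_range]
      omega
    · intro x hx
      choose n hn hxn using fun i => Finset.mem_image.1 (hx i)
      have hx' : x = fun i => (n i : ℚ) := funext fun i => (hxn i).symm
      rw [hx', map_sub, h n (fun i => by have := Finset.mem_range.1 (hn i); omega), sub_self]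
  exact sub_eq_zero.1 key

end Poly

section Fibre

variable {X S : Scheme.{u}} (f : X ⟶ S) [IsProper f]

/-- the Snapper polynomial of a fibre -/
theorem exists_mvPolynomial_fibre (F : X.Modules) (hF : CohB1.IsFP F) (t : ℕ) (L : Fin t → X.Modules)
    (hL : ∀ i, PicF.IsInvertible (L i)) (s : S) (D : ℕ)
    (hD : topologicalKrullDim ↥(f.fiber s) ≤ (D : WithBot ℕ∞)) :
    ∃ P : MvPolynomial (Fin t) ℚ, P.totalDegree ≤ D ∧ ∀ n : Fin t → ℕ,
      ((@Curv2.euler (S.residueField s) _ (f.fiber s) ⟨f.fiberToSpecResidueField s⟩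
        ((Scheme.Modules.pullback (f.fiberι s)).obj (Curv2.tensorPows F t L n)) : ℤ) : ℚ) =
        MvPolynomial.eval (fun i => (n i : ℚ)) P := by
  letI inst : (f.fiber s).Over (Spec (CommRingCat.of (S.residueField s))) :=
    ⟨f.fiberToSpecResidueField s⟩
  haveI : IsProper ((f.fiber s) ↘ Spec (CommRingCat.of (S.residueField s))) := by
    show IsProper (pullback.snd f (S.fromSpecResidueField s))
    infer_instance
  let Fs : (f.fiber s).Modules := (Scheme.Modules.pullback (f.fiberι s)).obj F
  have hFs : CohB1.IsFP Fs := Groth.Agent.Helper18Strict.isFP_pullback _ F hF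
  have hcoh : Coh.IsCoh Fs :=
    ⟨Groth.Agent.Helper18Strict.isQCoh_of_isFP _ hFs, Groth.Agent.Helper18Strict.isFT_of_isFP _ hFs⟩
  have hsupp : topologicalKrullDim ↥(CohB1.support Fs) ≤ (D : WithBot ℕ∞) :=
    (Topology.IsInducing.subtypeVal.topologicalKrullDim_le).trans hD
  obtain ⟨P, hP1, hP2⟩ := Groth.Agent.S1528.result (S.residueField s) (f.fiber s) Fs hcoh D hsupp t
    (fun j => (Scheme.Modules.pullback (f.fiberι s)).obj (L j))
    (fun j => Groth.Agent.Lib.Helper23.PB.isInvertible_pullback _ (L j) (hL j))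
  refine ⟨P, hP1, fun n => ?_⟩
  obtain ⟨e⟩ := nonempty_pullback_tensorPows_iso (f.fiberι s) F t L n
  rw [← hP2 n, Groth.Agent.Lib.T2H6.FieldBC.euler_eq_of_iso (S.residueField s) (f.fiber s) e]

variable [LocallyOfFinitePresentation f]

/-- the Euler characteristic of the fibres of a flat finitely presented module is locally constant -/
theorem exists_open_euler_eq (G : X.Modules) (hG : CohB1.IsFP G) (hfl : FlatMod.IsFlatOver f G) (s : S) :
    ∃ U : S.Opens, s ∈ U ∧ ∀ s' : S, s' ∈ U →
      @Curv2.euler (S.residueField s') _ (f.fiber s') ⟨f.fiberToSpecResidueField s'⟩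
          ((Scheme.Modules.pullback (f.fiberι s')).obj G) =
        @Curv2.euler (S.residueField s) _ (f.fiber s) ⟨f.fiberToSpecResidueField s⟩
          ((Scheme.Modules.pullback (f.fiberι s)).obj G) := by
  haveI : G.IsQuasicoherent := Groth.Agent.Helper18Strict.isQCoh_of_isFP G hG
  have h := Groth.Agent.Lib.T2H5.LocSemi.isLocallyConstant_eulerChar f G hG hfl
  obtain ⟨U, hUo, hsU, hU⟩ := (IsLocallyConstant.iff_exists_open _).1 h s
  exact ⟨⟨U, hUo⟩, hsU, fun s' hs' => hU s' hs'⟩

/-- **local constancy of the Snapper polynomial of the fibres** -/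
theorem main (F : X.Modules) (hF : CohB1.IsFP F) (hfl : FlatMod.IsFlatOver f F)
    (t : ℕ) (L : Fin t → X.Modules) (hL : ∀ i, PicF.IsInvertible (L i)) (s : S) :
    ∃ U : S.Opens, s ∈ U ∧ ∀ s' : S, s' ∈ U → ∀ n : Fin t → ℕ,
      @Curv2.euler (S.residueField s') _ (f.fiber s') ⟨f.fiberToSpecResidueField s'⟩
            ((Scheme.Modules.pullback (f.fiberι s')).obj (Curv2.tensorPows F t L n)) =
        @Curv2.euler (S.residueField s) _ (f.fiber s) ⟨f.fiberToSpecResidueField s⟩
            ((Scheme.Modules.pullback (f.fiberι s)).obj (Curv2.tensorPows F t L n)) := by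
  obtain ⟨D, U₀, hsU₀, hD⟩ := exists_open_fibre_dim_le f s
  choose Un hsUn hUn using fun n : Fin t → ℕ =>
    exists_open_euler_eq f (Curv2.tensorPows F t L n) (isFP_tensorPows F hF t L hL n)
      (isFlatOver_tensorPows f F hF hfl t L hL n) s
  let T : Finset (Fin t → ℕ) := Fintype.piFinset (fun _ => Finset.range (D + 1))
  let U₁ : S.Opens := ⟨⋂ n ∈ T, ((Un n : S.Opens) : Set S), isOpen_biInter_finset (fun n _ => (Un n).2)⟩
  refine ⟨U₀ ⊓ U₁, ⟨hsU₀, Set.mem_iInter₂.2 (fun n _ => hsUn n)⟩, ?_⟩
  intro s' hs' n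
  obtain ⟨P', hP'd, hP'⟩ := exists_mvPolynomial_fibre f F hF t L hL s' D (hD s' hs'.1)
  obtain ⟨P, hPd, hP⟩ := exists_mvPolynomial_fibre f F hF t L hL s D (hD s hsU₀)
  have hPP : P' = P := mvPolynomial_eq_of_eval_eq t D P' P hP'd hPd (fun m hm => by
    rw [← hP' m, ← hP m]
    have hmT : m ∈ T := Fintype.mem_piFinset.2 (fun i => Finset.mem_range.2 (by have := hm i; omega))
    have hs'm : s' ∈ Un m := Set.mem_iInter₂.1 hs'.2 m hmT
    exact congrArg (fun z : ℤ => (z : ℚ)) (hUn m s' hs'm))
  have hfin := (hP' n).trans ((congrArg (fun Q => MvPolynomial.eval (fun i => (n i : ℚ)) Q) hPP).trans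
    (hP n).symm)
  exact_mod_cast hfin

end Fibre

end Groth.Agent.Lib.T2H5.SnapperFam
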