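import Mathlib
import Groth.Agent.Lib.T2H5RelReg
import Groth.Agent.Lib.T2H5SerrePn
import Groth.Agent.Lib.T2H5LocMain
import Groth.Agent.Lib.T2H5LocSemi
import Groth.Agent.Lib.T2H5BC0MainB
import Groth.Agent.Lib.T2H5SnapperFam
import Groth.Agent.Lib.T2H5T2Chart
import Groth.Agent.Lib.T2H5FibReg
import Groth.Agent.S0022
set_option backward.isDefEq.respectTransparency.types false

/-!
# T2H5FibRegGen: uniform vanishing of the higher direct images of the twists of a flat finitely presented module on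
`P^r_S`, arbitrary quasi-compact base (helper5)

Namespace `Groth.Agent.Lib.T2H5.FibRegGen`.
-/

set_option autoImplicit false
set_option linter.style.haveILetI false
set_option linter.unusedSectionVars false
set_option linter.unusedVariables false
universe u
open CategoryTheory CategoryTheory.Limits AlgebraicGeometry TopologicalSpace Opposite

namespace Groth.Agent.Lib.T2H5.FibRegGen

open Groth.Agent.Lib.Helper23.AffVanish Groth.Agent.Lib.Helper1.PT
  Groth.Agent.Lib.Helper21.ModTensor5 Groth.Agent.Lib.T2H5.ProjFLF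
  Groth.Agent.Lib.T2H6 Groth.Agent.Lib.T2H6.HProjChart Groth.Agent.Lib.T2H5.KosPn
  Groth.Agent.Lib.T2H5.PnOver

section Chart

variable (n : ℕ) {S : Scheme.{u}} (A : Type u) [CommRing A] [Algebra Z₀.{u} A]
  (j : Spec (CommRingCat.of A) ⟶ S)

theorem hjA : j ≫ tS S = Spec.map (CommRingCat.ofHom (algebraMap Z₀.{u} A)) :=
  specULiftZIsTerminal.hom_ext _ _

/-- the chart of `P^n_S` attached to `Spec A ⟶ S`: the morphism `P^n_A ⟶ P^n_S` -/
noncomputable def embA : CohB1.ProjSpace n A ⟶ CohB1.ProjSpaceOver n S :=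
  PnChart.emb Z₀.{u} A n (tS S) j (hjA A j)

theorem isPullback_embA :
    IsPullback (embA n A j) (CohB1.ProjSpace.toSpec n A) (CohB1.ProjSpaceOver.toBase n S) j :=
  PnChart.isPullback_emb Z₀.{u} A n (tS S) j (hjA A j)

theorem embA_fst : embA n A j ≫ pullback.fst (CohB1.ProjSpace.toSpec n Z₀.{u}) (tS S) =
    Proj.map (PnChart.phiA Z₀.{u} A n) (PnChart.irr_phiA Z₀.{u} A n) :=
  PnChart.emb_fst Z₀.{u} A n (tS S) j (hjA A j)

/-- `O(d)` on `P^n_S` pulls back to `O(d)` on `P^n_A` -/
theorem nonempty_pullback_embA_twistOver (d : ℤ) :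
    Nonempty ((Scheme.Modules.pullback (embA n A j)).obj (Twist.twistOver n S d) ≅
      Twist.twistProjSpace n A d) := by
  obtain ⟨e⟩ := Groth.Agent.Lib.T2H5.T2Chart.nonempty_pullback_phiA_twist Z₀.{u} A n d
  exact ⟨(Scheme.Modules.pullbackComp (embA n A j)
      (pullback.fst (CohB1.ProjSpace.toSpec n Z₀.{u}) (tS S))).app (Twist.twistProjSpace n Z₀.{u} d) ≪≫
    (Scheme.Modules.pullbackCongr (embA_fst n A j)).app _ ≪≫ e⟩

/-- the pullback of `F(d) = O(d) ⊗ F` to `P^n_A` -/
theorem nonempty_pullback_embA_twF (d : ℤ) (F : (CohB1.ProjSpaceOver n S).Modules) :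
    Nonempty ((Scheme.Modules.pullback (embA n A j)).obj (KRR.twF n S d F) ≅
      GF n A ((Scheme.Modules.pullback (embA n A j)).obj F) d) := by
  obtain ⟨e⟩ := nonempty_pullback_embA_twistOver n A j d
  let i1 : (Scheme.Modules.pullback (embA n A j)).obj (CohB1.tensorMod (Twist.twistOver n S d) F) ≅
      CohB1.tensorMod ((Scheme.Modules.pullback (embA n A j)).obj (Twist.twistOver n S d))
        ((Scheme.Modules.pullback (embA n A j)).obj F) :=
    Groth.Agent.Lib.Helper23.RestrTensor.pullbackTensorIso _ _ (embA n A j)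
  let i2 : CohB1.tensorMod ((Scheme.Modules.pullback (embA n A j)).obj (Twist.twistOver n S d))
        ((Scheme.Modules.pullback (embA n A j)).obj F) ≅
      CohB1.tensorMod (Twist.twistProjSpace n A d)
        ((Scheme.Modules.pullback (embA n A j)).obj F) :=
    PicGrp.tensorModIso e (Iso.refl _)
  let i3 : tens (Twist.twistProjSpace n A d) ((Scheme.Modules.pullback (embA n A j)).obj F) ≅
      tens ((Scheme.Modules.pullback (embA n A j)).obj F) (Twist.twistProjSpace n A d) :=
    brdApp (CohB1.ProjSpace n A).sheaf _ _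
  exact ⟨i1 ≪≫ i2 ≪≫ i3⟩

/-- the cohomology of the base change of `P^n_S ⟶ S` along `Spec A ⟶ S`, computed on `P^n_A` -/
theorem subsingleton_HH_pullback_iff (G : (CohB1.ProjSpaceOver n S).Modules) (q : ℕ) :
    Subsingleton (Coh.HH (pullback (KRR.pr n S) j)
        ((Scheme.Modules.pullback (pullback.fst (KRR.pr n S) j)).obj G) q) ↔
      Subsingleton (Coh.HH (CohB1.ProjSpace n A) ((Scheme.Modules.pullback (embA n A j)).obj G) q) := by
  let ε : CohB1.ProjSpace n A ≅ pullback (KRR.pr n S) j := (isPullback_embA n A j).isoPullback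
  have hε : ε.hom ≫ pullback.fst (KRR.pr n S) j = embA n A j :=
    (isPullback_embA n A j).isoPullback_hom_fst
  let N : (pullback (KRR.pr n S) j).Modules :=
    (Scheme.Modules.pullback (pullback.fst (KRR.pr n S) j)).obj G
  have iso1 : (Scheme.Modules.pullback ε.hom).obj N ≅ (Scheme.Modules.pullback (embA n A j)).obj G :=
    (Scheme.Modules.pullbackComp ε.hom (pullback.fst (KRR.pr n S) j)).app G ≪≫
      (Scheme.Modules.pullbackCongr hε).app G
  have hrange : Set.range ε.hom.base =
      (((⊤ : (pullback (KRR.pr n S) j).Opens)) : Set ↥(pullback (KRR.pr n S) j)) := by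
    rw [Opens.coe_top]
    exact Set.range_eq_univ.2 (TopCat.homeoOfIso (Scheme.forgetToTop.mapIso ε)).surjective
  constructor
  · intro h
    have h1 : Subsingleton (HE (ab' N) q ⊤) :=
      (Groth.Agent.Lib.T2H5.RpushBC.subsingleton_HH_iff_HE_top N q).1 h
    have h2 := Groth.Agent.Lib.T2H5.RelReg.subsingleton_HH_pullback_of_HE ε.hom ⊤ hrange N q h1
    exact Groth.Agent.Lib.T2H5.PnStruct.subsingleton_HH_of_iso iso1 q h2
  · intro h
    have h2 : Subsingleton (Coh.HH (CohB1.ProjSpace n A)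
        ((Scheme.Modules.pullback ε.hom).obj N) q) :=
      Groth.Agent.Lib.T2H5.PnStruct.subsingleton_HH_of_iso iso1.symm q h
    have h1 := subsingleton_HE_of_openImmersion ε.hom ⊤ hrange N q h2
    exact (Groth.Agent.Lib.T2H5.RpushBC.subsingleton_HH_iff_HE_top N q).2 h1

end Chart

section Pt

variable (n : ℕ) {S : Scheme.{u}} (s : S)

/-- the residue field at a point, as a type -/
def kap : Type u := (S.residueField s : CommRingCat.{u})

noncomputable instance : Field (kap s) := S.instFieldCarrierResidueField s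

/-- the algebra structure of a residue field over the integers -/
noncomputable instance algKappa : Algebra Z₀.{u} (kap s) :=
  ((Int.castRingHom (kap s)).comp (ULift.ringEquiv : Z₀.{u} ≃+* ℤ).toRingHom).toAlgebra

/-- the inclusion of the point -/
noncomputable def jPt : Spec (CommRingCat.of (kap s)) ⟶ S := S.fromSpecResidueField s

/-- the chart of `P^n_S` at a point: the inclusion of `P^n_{κ(s)}` -/
noncomputable abbrev embPt : CohB1.ProjSpace n (kap s) ⟶ CohB1.ProjSpaceOver n S :=
  embA n (kap s) (jPt s)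

/-- the cohomology of a fibre of `P^n_S ⟶ S`, computed on the chart at the point -/
theorem subsingleton_fiberH_iff (G : (CohB1.ProjSpaceOver n S).Modules) (q : ℕ) :
    Subsingleton (CohIII.fiberH (KRR.pr n S) G s q) ↔
      Subsingleton (Coh.HH (CohB1.ProjSpace n (kap s))
        ((Scheme.Modules.pullback (embPt n s)).obj G) q) :=
  subsingleton_HH_pullback_iff n (kap s) (jPt s) G q

end Pt

section Main

open Groth.Agent.Lib.T2H5.TwistOver

variable (r : ℕ) (S : Scheme.{u})

theorem lofp_toBase : LocallyOfFinitePresentation (CohB1.ProjSpaceOver.toBase r S) := by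
  haveI := Groth.Agent.S9705.isProper_projSpace_toSpec r (ULift.{u} ℤ)
  haveI : IsNoetherianRing (ULift.{u} ℤ) := isNoetherianRing_of_ringEquiv ℤ ULift.ringEquiv.symm
  haveI : IsLocallyNoetherian (Spec (CommRingCat.of (ULift.{u} ℤ))) := inferInstance
  haveI : LocallyOfFinitePresentation (CohB1.ProjSpace.toSpec r (ULift.{u} ℤ)) := inferInstance
  unfold CohB1.ProjSpaceOver.toBase
  exact MorphismProperty.pullback_snd (P := @LocallyOfFinitePresentation) _ _ inferInstance

variable (F : (KRR.PY r S).Modules) (hF : CohB1.IsFP F) (hfl : FlatMod.IsFlatOver (KRR.pr r S) F)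

/-- `O(d) ⊗ F ≅ F ⊗ O(d)` -/
noncomputable def twFIso (d : ℤ) : KRR.twF r S d F ≅ CohB1.tensorMod F (Twist.twistOver r S d) :=
  brdApp (CohB1.ProjSpaceOver r S).sheaf (Twist.twistOver r S d) F

include hF in
theorem isFP_twF (d : ℤ) : CohB1.IsFP (KRR.twF r S d F) :=
  Groth.Agent.Lib.T2H5.FPColim2.isFP_of_iso (twFIso r S F d).symm
    (Groth.Agent.Lib.T2H5.SnapperFam.isFP_tensorMod_of_isInvertible F _ hF (isInvertible_twistOver r S d))

include hF hfl in
theorem isFlatOver_twF (d : ℤ) : FlatMod.IsFlatOver (KRR.pr r S) (KRR.twF r S d F) := by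
  haveI : F.IsQuasicoherent := Groth.Agent.Helper18Strict.isQCoh_of_isFP F hF
  intro x
  exact Groth.Agent.Lib.Helper26.FlatLim.isFlatOverAt_of_iso (KRR.pr r S) (twFIso r S F d).symm x
    (Groth.Agent.Lib.T2H5.FibReg.isFlatOver_tensor_of_isInvertible (KRR.pr r S) F _
      (isInvertible_twistOver r S d) hfl x)

include hF hfl in
/-- near a point, the fibres of `F` are uniformly regular -/
theorem exists_open_regular (s : S) :
    ∃ (m : ℤ) (U : S.Opens), s ∈ U ∧ ∀ s' : S, s' ∈ U → ∀ d : ℤ, m ≤ d → ∀ i : ℕ, 1 ≤ i →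
      Subsingleton (CohIII.fiberH (KRR.pr r S) (KRR.twF r S d F) s' i) := by
  haveI : IsProper (KRR.pr r S) := Groth.Agent.S9705.isProper_toBase r S
  haveI : LocallyOfFinitePresentation (KRR.pr r S) := lofp_toBase r S
  have hqc : ∀ s' : S, ((Scheme.Modules.pullback (embPt r s')).obj F).IsQuasicoherent := fun s' =>
    Groth.Agent.Helper18Strict.isQCoh_of_isFP _ (Groth.Agent.Helper18Strict.isFP_pullback _ F hF)
  have hGs : Coh.IsCoh ((Scheme.Modules.pullback (embPt r s)).obj F) :=
    ⟨hqc s, Groth.Agent.Helper18Strict.isFT_of_isFP _ (Groth.Agent.Helper18Strict.isFP_pullback _ F hF)⟩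
  obtain ⟨d₀, hd₀⟩ := Groth.Agent.Lib.T2H5.SerrePn.serre_vanishing r (kap s) _ hGs
  let m : ℤ := d₀ + r
  have hs : ∀ i : ℕ, 1 ≤ i → i ≤ r →
      CohIII.fiberRank (KRR.pr r S) (KRR.twF r S (m - i) F) i s = 0 := by
    intro i hi hir
    apply Groth.Agent.Lib.T2H5.LocMain.fiberRank_eq_zero_of_subsingleton
    rw [subsingleton_fiberH_iff]
    obtain ⟨e⟩ := nonempty_pullback_embA_twF r (kap s) (jPt s) (m - i) F
    exact Groth.Agent.Lib.T2H5.PnStruct.subsingleton_HH_of_iso e.symm i
      (hd₀ (m - i) (by simp only [m]; omega) i hi)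
  let U : Set S := ⋂ i ∈ Finset.Icc 1 r,
    {y : S | CohIII.fiberRank (KRR.pr r S) (KRR.twF r S (m - (i : ℕ)) F) i y < 1}
  have hUo : IsOpen U := isOpen_biInter_finset (fun i _ => by
    haveI : (KRR.twF r S (m - (i : ℕ)) F).IsQuasicoherent :=
      Groth.Agent.Helper18Strict.isQCoh_of_isFP _ (isFP_twF r S F hF _)
    exact Groth.Agent.Lib.T2H5.LocSemi.isOpen_fiberRank_lt (KRR.pr r S) _ (isFP_twF r S F hF _)
      (isFlatOver_twF r S F hF hfl _) i 1)
  refine ⟨m, ⟨U, hUo⟩, ?_, ?_⟩
  · refine Set.mem_iInter₂.2 (fun i hi => ?_)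
    have hi' := Finset.mem_Icc.1 hi
    show CohIII.fiberRank (KRR.pr r S) (KRR.twF r S (m - (i : ℕ)) F) i s < 1
    rw [hs i hi'.1 hi'.2]
    exact Nat.zero_lt_one
  · intro s' hs' d hd i hi
    haveI := hqc s'
    have hreg : ∀ i : ℕ, 1 ≤ i → Subsingleton (Coh.HH (CohB1.ProjSpace r (kap s'))
        (GF r (kap s') ((Scheme.Modules.pullback (embPt r s')).obj F) (m - i)) i) := by
      intro i hi
      by_cases hir : i ≤ r
      · have h0 : CohIII.fiberRank (KRR.pr r S) (KRR.twF r S (m - (i : ℕ)) F) i s' = 0 := by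
          have h := Set.mem_iInter₂.1 hs' i (Finset.mem_Icc.2 ⟨hi, hir⟩)
          exact Nat.lt_one_iff.1 h
        have h1 := Groth.Agent.Lib.T2H5.BC0MainB.subsingleton_fiberH_of_fiberRank (KRR.pr r S) _
          (isFP_twF r S F hF _) s' i h0
        rw [subsingleton_fiberH_iff] at h1
        obtain ⟨e⟩ := nonempty_pullback_embA_twF r (kap s') (jPt s') (m - i) F
        exact Groth.Agent.Lib.T2H5.PnStruct.subsingleton_HH_of_iso e i h1
      · haveI : Coh.IsQCoh (GF r (kap s') ((Scheme.Modules.pullback (embPt r s')).obj F) (m - i)) :=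
          Groth.Agent.Lib.T2H5.SerrePn.isQCoh_tw r (kap s') _ (hqc s') (m - i)
        exact Groth.Agent.S0022.result r (kap s') _ i (by omega)
    obtain ⟨t, ht⟩ := Int.eq_ofNat_of_zero_le (show 0 ≤ d - m + i by omega)
    have h2 := regular_add r (kap s') ((Scheme.Modules.pullback (embPt r s')).obj F) m hreg t i hi
    have hb : m + (t : ℤ) - i = d := by omega
    rw [hb] at h2
    rw [subsingleton_fiberH_iff]
    obtain ⟨e⟩ := nonempty_pullback_embA_twF r (kap s') (jPt s') d F
    exact Groth.Agent.Lib.T2H5.PnStruct.subsingleton_HH_of_iso e.symm i h2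

include hF hfl in
/-- **uniform vanishing and local freeness for the twists of a flat finitely presented module on `P^r_S`** -/
theorem main [CompactSpace S] : ∃ n₀ : ℕ, ∀ n : ℕ, n₀ ≤ n →
    (∀ q : ℕ, 1 ≤ q →
      IsZero ((Coh.RpushAb (KRR.pr r S) q).obj (Coh.toAb (KRR.twF r S (n : ℤ) F)))) ∧
    FlatMod.IsFinLocFree ((Scheme.Modules.pushforward (KRR.pr r S)).obj (KRR.twF r S (n : ℤ) F)) := by
  haveI : IsProper (KRR.pr r S) := Groth.Agent.S9705.isProper_toBase r S
  haveI : LocallyOfFinitePresentation (KRR.pr r S) := lofp_toBase r S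
  haveI := Groth.Agent.Lib.T2H5.RpushClosed.hasInjectiveResolutions_modules (KRR.PY r S)
  choose m U hsU hU using exists_open_regular r S F hF hfl
  obtain ⟨t, ht⟩ := isCompact_univ.elim_finite_subcover (fun s : S => ((U s : S.Opens) : Set S))
    (fun s => (U s).2) (fun x _ => Set.mem_iUnion.2 ⟨x, hsU x⟩)
  let n₀ : ℕ := t.sup (fun s => (m s).toNat)
  refine ⟨n₀, fun n hn => ?_⟩
  have hfib : ∀ (s' : S) (i : ℕ), 1 ≤ i →
      Subsingleton (CohIII.fiberH (KRR.pr r S) (KRR.twF r S (n : ℤ) F) s' i) := by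
    intro s' i hi
    obtain ⟨s, hst, hs'⟩ : ∃ s ∈ t, s' ∈ U s := by
      have h := ht (Set.mem_univ s')
      simp only [Set.mem_iUnion] at h
      obtain ⟨s, hst, hs'⟩ := h
      exact ⟨s, hst, hs'⟩
    refine hU s s' hs' n ?_ i hi
    have h1 : (m s).toNat ≤ n₀ := Finset.le_sup (f := fun s => (m s).toNat) hst
    have h2 : m s ≤ ((m s).toNat : ℤ) := Int.self_le_toNat _
    omega
  constructor
  · intro q hq
    have hz := Groth.Agent.Lib.T2H5.LocMain.isZero_Rpush_of_fibre (KRR.pr r S) (KRR.twF r S (n : ℤ) F)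
      (isFP_twF r S F hF _) (isFlatOver_twF r S F hF hfl _) q (fun y => hfib y q hq)
    obtain ⟨e⟩ := Groth.Agent.Lib.Helper23.ModAbBridge.nonempty_toAb_Rpush_iso (KRR.pr r S)
      (KRR.twF r S (n : ℤ) F) q
    have hz' : IsZero (Coh.toAb ((Coh.Rpush (KRR.pr r S) q).obj (KRR.twF r S (n : ℤ) F))) :=
      (SheafOfModules.toSheaf S.ringCatSheaf).map_isZero hz
    exact hz'.of_iso e.symm
  · have h := Groth.Agent.Lib.T2H5.LocMain.isFinLocFree_Rpush_of_adjacent (KRR.pr r S)
      (KRR.twF r S (n : ℤ) F) (isFP_twF r S F hF _) (isFlatOver_twF r S F hF hfl _) 0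
      (fun y => hfib y 1 le_rfl) (fun q hq => absurd hq (Nat.succ_ne_zero q))
    exact Groth.Agent.Helper18PBUnit.isFinLocFree_of_iso
      (Groth.Agent.Lib.T2H5.LocMain.rpushZeroIso (KRR.pr r S) _) h

end Main

end Groth.Agent.Lib.T2H5.FibRegGen
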