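import Groth.Agent.Lib.T2H5GBCLocC
set_option backward.isDefEq.respectTransparency.types false

/-!
# Cohomology and base change: local freeness criteria (helper5)

Namespace `Groth.Agent.Lib.T2H5.GBCLoc`.

* `mem_goodF_of_reduced`, `mem_goodP_of_reduced`, `mem_goodP_pred_of_reduced`: over a reduced base with locally constant
  `h^p`, every point is good in degrees `p` and `p - 1`.
* `epi_iff_isFinLocFree`: if `bc_{i+1}` of the fibre at `s` is epi, then `bc_i` of the fibre at `s` is epi iff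
  `R^{i+1} π_* F` is finite locally free near `s`.
* `epi_all_iff_isFinLocFree`: `bc_i` of all fibres epi for all `i ≥ m` iff `R^i π_* F` finite locally free for `i > m`.
-/

set_option autoImplicit false
set_option linter.style.haveILetI false
set_option linter.unusedSectionVars false
set_option linter.unusedVariables false
universe u
open CategoryTheory CategoryTheory.Limits AlgebraicGeometry Opposite TopologicalSpace Topology

namespace Groth.Agent.Lib.T2H5.GBCLoc

open Groth.Agent.Lib.T2H5.BC0GlueE Groth.Agent.Helper13AffBC Groth.Agent.Lib.T2H5.BC0Main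

section main

variable {X Y : Scheme.{u}} (π : X ⟶ Y) (F : X.Modules)

variable [IsProper π] [LocallyOfFinitePresentation π] [HasInjectiveResolutions X.Modules]
  {Δ : RDer.DerivedLES (Scheme.Modules.pushforward π)} (E : CohCmp.SectCmp π Δ)

variable (hfp : CohB1.IsFP F) (hfl : FlatMod.IsFlatOver π F)

include hfp hfl in
/-- over a reduced base with `h^p` locally constant every point is good in degrees `-p` and `-p-1` -/
theorem exists_good_of_reduced [IsReduced Y] (p : ℕ)
    (hlc : IsLocallyConstant (CohIII.fiberRank π F p)) (s : Y) :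
    ∃ (V : Y.Opens) (hV : IsAffineOpen V) (D : BCLoc π F hV),
      s ∈ D.good (-(p : ℤ)) ∧ s ∈ D.good (-(p : ℤ) - 1) := by
  obtain ⟨V, hV, hsV, -⟩ := exists_isAffineOpen_mem_and_subset (x := s) (U := ⊤) trivial
  obtain ⟨D⟩ := nonempty_bcLoc π F hfp hfl hV
  exact ⟨V, hV, D, D.mem_good_of_reduced p hlc s hsV⟩

include hfp hfl in
theorem mem_goodF_of_reduced [IsReduced Y] (p : ℕ)
    (hlc : IsLocallyConstant (CohIII.fiberRank π F p)) (s : Y) : s ∈ GoodF π F p := by
  obtain ⟨V, hV, D, h1, h2⟩ := exists_good_of_reduced π F hfp hfl p hlc s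
  exact ⟨V, hV, D, h2, Or.inr h1⟩

include hfp hfl in
theorem mem_goodP_of_reduced [IsReduced Y] (p : ℕ)
    (hlc : IsLocallyConstant (CohIII.fiberRank π F p)) (s : Y) : s ∈ GoodP π F p := by
  obtain ⟨V, hV, D, h1, h2⟩ := exists_good_of_reduced π F hfp hfl p hlc s
  exact ⟨V, hV, D, h2⟩

include hfp hfl in
theorem mem_goodP_pred_of_reduced [IsReduced Y] (j : ℕ)
    (hlc : IsLocallyConstant (CohIII.fiberRank π F (j + 1))) (s : Y) : s ∈ GoodP π F j := by
  obtain ⟨V, hV, D, h1, h2⟩ := exists_good_of_reduced π F hfp hfl (j + 1) hlc s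
  have c : (-((j + 1 : ℕ) : ℤ)) = -(j : ℤ) - 1 := by
    push_cast
    ring
  rw [c] at h1
  exact ⟨V, hV, D, h1⟩

include hfp hfl in
/-- if `bc_{i+1}` of the fibre at `s` is an epimorphism, then `bc_i` of the fibre at `s` is an epimorphism iff
`R^{i+1} π_* F` is finite locally free near `s`; in that case `h^{i+1}` is locally constant near `s` -/
theorem epi_iff_isFinLocFree (i : ℕ) (s : Y) [HasInjectiveResolutions (π.fiber s).Modules]
    {Δs : RDer.DerivedLES (Scheme.Modules.pushforward (π.fiberToSpecResidueField s))}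
    {Es : CohCmp.SectCmp (π.fiberToSpecResidueField s) Δs}
    (Bs : CohCmp.GenBC π (Y.fromSpecResidueField s) (π.fiberToSpecResidueField s) (π.fiberι s)
      (π.fiber_fac s) E Es)
    (hs : Epi (Bs.bc (i + 1) F)) :
    (Epi (Bs.bc i F) ↔
      ∃ V : Y.Opens, s ∈ V ∧ FlatMod.IsFinLocFree (((Coh.Rpush π (i + 1)).obj F).restrict V.ι)) ∧
    (Epi (Bs.bc i F) →
      ∃ V : Y.Opens, s ∈ V ∧ FlatMod.IsFinLocFree (((Coh.Rpush π (i + 1)).obj F).restrict V.ι) ∧
        IsLocallyConstant (fun v : V => CohIII.fiberRank π F (i + 1) v.1)) := by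
  haveI : F.IsQuasicoherent := Groth.Agent.Helper18Strict.isQCoh_of_isFP F hfp
  obtain ⟨V, hV, hsV, -⟩ := exists_isAffineOpen_mem_and_subset (x := s) (U := ⊤) trivial
  obtain ⟨D⟩ := nonempty_bcLoc π F hfp hfl hV
  have hA : s ∈ D.good (-((i + 1 : ℕ) : ℤ) - 1) :=
    D.mem_good_of_bc_surjective s hsV (i + 1) Bs (surjective_app_top_of_epi _)
  have c : (-((i + 1 : ℕ) : ℤ)) = -(i : ℤ) - 1 := by
    push_cast
    ring
  have main : Epi (Bs.bc i F) →
      ∃ V : Y.Opens, s ∈ V ∧ FlatMod.IsFinLocFree (((Coh.Rpush π (i + 1)).obj F).restrict V.ι) ∧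
        IsLocallyConstant (fun v : V => CohIII.fiberRank π F (i + 1) v.1) := by
    intro hepi
    have hB : s ∈ D.good (-(i : ℤ) - 1) :=
      D.mem_good_of_bc_surjective s hsV i Bs (surjective_app_top_of_epi _)
    rw [← c] at hB
    let O : Y.Opens := ⟨D.good (-((i + 1 : ℕ) : ℤ)) ∩ D.good (-((i + 1 : ℕ) : ℤ) - 1),
      (D.isOpen_good _).inter (D.isOpen_good _)⟩
    have hO : (O : Set Y) ⊆ GoodF π F (i + 1) := fun t ht => ⟨V, hV, D, ht.2, Or.inr ht.1⟩
    exact ⟨O, ⟨hB, hA⟩, isFinLocFree_Rpush_restrict π F hfp (i + 1) O hO,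
      D.isLocallyConstant_fiberRank (i + 1) O (fun t ht => ht)⟩
  refine ⟨⟨fun hepi => ?_, ?_⟩, main⟩
  · obtain ⟨O, h1, h2, -⟩ := main hepi
    exact ⟨O, h1, h2⟩
  · rintro ⟨V', hsV', hf⟩
    have hB := D.mem_good_of_isFinLocFree s (i + 1) hA V' hsV' hf
    rw [c] at hB
    haveI := isIso_bc_fibre π F E i s Bs ⟨V, hV, D, hB⟩
    infer_instance

include hfp hfl in
/-- `bc_i` of all fibres epi for all `i ≥ m` iff `R^i π_* F` is finite locally free for all `i > m` -/
theorem epi_all_iff_isFinLocFree (m : ℕ) [∀ s : Y, HasInjectiveResolutions (π.fiber s).Modules]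
    (Δs : ∀ s : Y, RDer.DerivedLES (Scheme.Modules.pushforward (π.fiberToSpecResidueField s)))
    (Es : ∀ s : Y, CohCmp.SectCmp (π.fiberToSpecResidueField s) (Δs s))
    (Bs : ∀ s : Y, CohCmp.GenBC π (Y.fromSpecResidueField s) (π.fiberToSpecResidueField s)
      (π.fiberι s) (π.fiber_fac s) E (Es s)) :
    (∀ (s : Y) (i : ℕ), m ≤ i → Epi ((Bs s).bc i F)) ↔
      ∀ i : ℕ, m < i → FlatMod.IsFinLocFree ((Coh.Rpush π i).obj F) := by
  haveI : F.IsQuasicoherent := Groth.Agent.Helper18Strict.isQCoh_of_isFP F hfp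
  constructor
  · intro hepi i hi
    obtain ⟨p, rfl⟩ : ∃ p, i = p + 1 := ⟨i - 1, by omega⟩
    refine isFinLocFree_Rpush π F hfp (p + 1) fun s => ?_
    obtain ⟨V, hV, hsV, -⟩ := exists_isAffineOpen_mem_and_subset (x := s) (U := ⊤) trivial
    obtain ⟨D⟩ := nonempty_bcLoc π F hfp hfl hV
    haveI := hepi s p (by omega)
    haveI := hepi s (p + 1) (by omega)
    have hA : s ∈ D.good (-((p + 1 : ℕ) : ℤ) - 1) :=
      D.mem_good_of_bc_surjective s hsV (p + 1) (Bs s) (surjective_app_top_of_epi _)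
    have hB : s ∈ D.good (-(p : ℤ) - 1) :=
      D.mem_good_of_bc_surjective s hsV p (Bs s) (surjective_app_top_of_epi _)
    have c : (-((p + 1 : ℕ) : ℤ)) = -(p : ℤ) - 1 := by
      push_cast
      ring
    rw [← c] at hB
    exact ⟨V, hV, D, hA, Or.inr hB⟩
  · intro hflf s i hi
    obtain ⟨V, hV, hsV, -⟩ := exists_isAffineOpen_mem_and_subset (x := s) (U := ⊤) trivial
    obtain ⟨D, b, hb⟩ := nonempty_bcLoc_bdd π F hfp hfl hV
    have key : ∀ (k : ℕ) (q : ℕ), m ≤ q → -(q : ℤ) - 1 < b + k → s ∈ D.good (-(q : ℤ) - 1) := by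
      intro k
      induction k with
      | zero =>
        intro q _ hq
        refine D.mem_good_of_isZero _ (hb _ ?_) s hsV
        simpa using hq
      | succ k ih =>
        intro q hmq hq
        have h1 : s ∈ D.good (-((q + 1 : ℕ) : ℤ) - 1) := ih (q + 1) (by omega) (by
          push_cast at hq ⊢
          omega)
        have hf : FlatMod.IsFinLocFree (((Coh.Rpush π (q + 1)).obj F).restrict (⊤ : Y.Opens).ι) :=
          isFinLocFree_restrict_of_local _ ⊤ fun u _ => hflf (q + 1) (by omega) u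
        have h2 := D.mem_good_of_isFinLocFree s (q + 1) h1 ⊤ trivial hf
        have c : (-((q + 1 : ℕ) : ℤ)) = -(q : ℤ) - 1 := by
          push_cast
          ring
        rw [c] at h2
        exact h2
    obtain ⟨k, hk⟩ : ∃ k : ℕ, -(i : ℤ) - 1 < b + k := ⟨(-(i : ℤ) - b).toNat, by omega⟩
    haveI := isIso_bc_fibre π F E i s (Bs s) ⟨V, hV, D, key k i hi hk⟩
    infer_instance

end main

end Groth.Agent.Lib.T2H5.GBCLoc
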