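import Groth.Agent.Lib.T2H5GBCLoc
set_option backward.isDefEq.respectTransparency.types false

/-!
# Cohomology and base change in arbitrary degree over an arbitrary base (helper5)

Namespace `Groth.Agent.Lib.T2H5.GBCLoc`.

`π : X ⟶ Y` proper of finite presentation, `F` of finite presentation and flat over `Y` (no Noetherian hypothesis),
pinned comparison data `E : CohCmp.SectCmp π Δ`.  `GoodP π F p` is the set of points of `Y` near which
`opcycles_{-p-1}` of a universal complex is free.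

* `isOpen_goodP`, `mem_goodP_of_fiberRank`, `mem_goodP_of_fiberRank_succ`, `mem_goodP_of_epi`: the locus is open,
  contains the points `s` with `H^p(X_s, F_s) = 0`, those with `H^{p+1}(X_s, F_s) = 0`, and those at which the degree
  `p` base change map of the fibre square is an epimorphism.
* `isIso_bc_of_good`: the degree `p` base change map of a cartesian square over `g : S' ⟶ Y` with image in
  `GoodP π F p` is an isomorphism; `isIso_bc_fibre`: in particular at the fibre squares.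
* `isFinLocFree_Rpush_restrict`: `R^p π_* F` is finite locally free over every open inside `GoodF π F p`.
-/

set_option autoImplicit false
set_option linter.style.haveILetI false
set_option linter.unusedSectionVars false
set_option linter.unusedVariables false
universe u
open CategoryTheory CategoryTheory.Limits AlgebraicGeometry Opposite TopologicalSpace

namespace Groth.Agent.Lib.T2H5.GBCLoc

open Groth.Agent.Lib.T2H5.BC0GlueE Groth.Agent.Helper13AffBC Groth.Agent.Lib.T2H5.BC0Main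

section main

variable {X Y : Scheme.{u}} (π : X ⟶ Y) (F : X.Modules)

/-- the points of `Y` near which `opcycles_{-p-1}` of a universal complex is free -/
def GoodP (p : ℕ) : Set Y :=
  {s | ∃ (V : Y.Opens) (hV : IsAffineOpen V) (D : BCLoc π F hV), s ∈ D.good (-(p : ℤ) - 1)}

theorem isOpen_goodP (p : ℕ) : IsOpen (GoodP π F p) := by
  rw [isOpen_iff_forall_mem_open]
  rintro s ⟨V, hV, D, hs⟩
  exact ⟨D.good (-(p : ℤ) - 1), fun t ht => ⟨V, hV, D, ht⟩, D.isOpen_good _, hs⟩

/-- the points of `Y` near which `opcycles_{-p-1}` and (if `p ≠ 0`) `opcycles_{-p}` of a universal complex are free -/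
def GoodF (p : ℕ) : Set Y :=
  {s | ∃ (V : Y.Opens) (hV : IsAffineOpen V) (D : BCLoc π F hV), s ∈ D.good (-(p : ℤ) - 1) ∧
    (p = 0 ∨ s ∈ D.good (-(p : ℤ)))}

variable [IsProper π] [LocallyOfFinitePresentation π] [HasInjectiveResolutions X.Modules]
  {Δ : RDer.DerivedLES (Scheme.Modules.pushforward π)} (E : CohCmp.SectCmp π Δ)

/-- **cohomology and base change**: the degree `p` base change map of a cartesian square over a morphism with image
in the good locus is an isomorphism -/
theorem isIso_bc_of_good [F.IsQuasicoherent] (p : ℕ) {X' S' : Scheme.{u}} (g : S' ⟶ Y) (g' : X' ⟶ X)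
    (f' : X' ⟶ S') (h : IsPullback g' f' π g) [HasInjectiveResolutions X'.Modules]
    {Δ' : RDer.DerivedLES (Scheme.Modules.pushforward f')} {E' : CohCmp.SectCmp f' Δ'}
    (B : CohCmp.GenBC π g f' g' h.w E E') (hgood : ∀ y : S', g y ∈ GoodP π F p) :
    IsIso (B.bc p F) := by
  let ι : Type u := {U' : S'.Opens // IsAffineOpen U' ∧ ∃ (V : Y.Opens) (hV : IsAffineOpen V)
    (D : BCLoc π F hV) (W : Y.Opens), IsAffineOpen W ∧ W ≤ V ∧
      (W : Set Y) ⊆ D.good (-(p : ℤ) - 1) ∧ U' ≤ g ⁻¹ᵁ W}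
  refine isIso_of_bijective_on_basis _ (fun i : ι => i.1) ?_ ?_
  · rw [Opens.isBasis_iff_nbhd]
    intro O y hyO
    obtain ⟨V, hV, D, hD⟩ := hgood y
    obtain ⟨_, ⟨W, hW, rfl⟩, hyW, hWG⟩ := Y.isBasis_affineOpens.exists_subset_of_mem_open hD
      (D.isOpen_good (-(p : ℤ) - 1))
    obtain ⟨U', hU', hyU', hU'le⟩ := exists_isAffineOpen_mem_and_subset (x := y)
      (U := O ⊓ g ⁻¹ᵁ W) ⟨hyO, hyW⟩
    exact ⟨U', ⟨⟨U', hU', V, hV, D, W, hW, fun x hx => D.good_subset _ (hWG hx), hWG,
      hU'le.trans inf_le_right⟩, rfl⟩, hyU', hU'le.trans inf_le_left⟩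
  · rintro ⟨U', hU', V, hV, D, W, hW, hWV, hWG, hle⟩
    exact D.bc_app_bijective hW hWV p hWG g g' f' h B hU' hle

variable (hfp : CohB1.IsFP F) (hfl : FlatMod.IsFlatOver π F)

include hfp hfl in
/-- vanishing of `H^{p+1}` of the fibre at `s` puts `s` in the good locus -/
theorem mem_goodP_of_fiberRank_succ (p : ℕ) (s : Y) (h0 : CohIII.fiberRank π F (p + 1) s = 0) :
    s ∈ GoodP π F p := by
  obtain ⟨V, hV, hsV, -⟩ := exists_isAffineOpen_mem_and_subset (x := s) (U := ⊤) trivial
  obtain ⟨D⟩ := nonempty_bcLoc π F hfp hfl hV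
  have h1 := D.mem_good_of_fiberRank_eq_zero s hsV (p + 1) h0
  have c : (-((p + 1 : ℕ) : ℤ)) = -(p : ℤ) - 1 := by
    push_cast
    ring
  rw [c] at h1
  exact ⟨V, hV, D, h1⟩

include hfp hfl in
/-- vanishing of `H^p` of the fibre at `s` puts `s` in the good locus -/
theorem mem_goodP_of_fiberRank (p : ℕ) (s : Y) (h0 : CohIII.fiberRank π F p s = 0) :
    s ∈ GoodP π F p := by
  obtain ⟨V, hV, hsV, -⟩ := exists_isAffineOpen_mem_and_subset (x := s) (U := ⊤) trivial
  obtain ⟨D⟩ := nonempty_bcLoc π F hfp hfl hV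
  exact ⟨V, hV, D, D.mem_good_pred_of_fiberRank_eq_zero s hsV p h0⟩

include hfp hfl in
/-- if the degree `p` base change map of the fibre square at `s` is an epimorphism then `s` is in the good locus -/
theorem mem_goodP_of_epi (p : ℕ) (s : Y) [HasInjectiveResolutions (π.fiber s).Modules]
    {Δs : RDer.DerivedLES (Scheme.Modules.pushforward (π.fiberToSpecResidueField s))}
    {Es : CohCmp.SectCmp (π.fiberToSpecResidueField s) Δs}
    (Bs : CohCmp.GenBC π (Y.fromSpecResidueField s) (π.fiberToSpecResidueField s) (π.fiberι s)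
      (π.fiber_fac s) E Es)
    (hepi : Epi (Bs.bc p F)) : s ∈ GoodP π F p := by
  haveI : F.IsQuasicoherent := Groth.Agent.Helper18Strict.isQCoh_of_isFP F hfp
  obtain ⟨V, hV, hsV, -⟩ := exists_isAffineOpen_mem_and_subset (x := s) (U := ⊤) trivial
  obtain ⟨D⟩ := nonempty_bcLoc π F hfp hfl hV
  exact ⟨V, hV, D, D.mem_good_of_bc_surjective s hsV p Bs (surjective_app_top_of_epi _)⟩

/-- at a point of the good locus the degree `p` base change map of the fibre square is an isomorphism -/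
theorem isIso_bc_fibre [F.IsQuasicoherent] (p : ℕ) (s : Y) [HasInjectiveResolutions (π.fiber s).Modules]
    {Δs : RDer.DerivedLES (Scheme.Modules.pushforward (π.fiberToSpecResidueField s))}
    {Es : CohCmp.SectCmp (π.fiberToSpecResidueField s) Δs}
    (Bs : CohCmp.GenBC π (Y.fromSpecResidueField s) (π.fiberToSpecResidueField s) (π.fiberι s)
      (π.fiber_fac s) E Es)
    (hs : s ∈ GoodP π F p) : IsIso (Bs.bc p F) := by
  have hsq : IsPullback (π.fiberι s) (π.fiberToSpecResidueField s) π (Y.fromSpecResidueField s) :=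
    IsPullback.of_hasPullback _ _
  refine isIso_bc_of_good π F E p (Y.fromSpecResidueField s) (π.fiberι s)
    (π.fiberToSpecResidueField s) hsq Bs fun z => ?_
  rw [Scheme.fromSpecResidueField_apply]
  exact hs

include hfp in
/-- `R^p π_* F` is free near every point of `GoodF π F p` -/
theorem exists_restrict_iso_freeMod (p : ℕ) (u : Y) (hu : u ∈ GoodF π F p) :
    ∃ (D' : Y.Opens) (m : ℕ), u ∈ D' ∧
      Nonempty (((Coh.Rpush π p).obj F).restrict D'.ι ≅ FlatMod.freeMod (D' : Scheme.{u}) m) := by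
  haveI : F.IsQuasicoherent := Groth.Agent.Helper18Strict.isQCoh_of_isFP F hfp
  haveI := Groth.Agent.Lib.T2H5.RpushQCoh.isQuasicoherent_Rpush π F p
  obtain ⟨V, hV, D, hD1, hD2⟩ := hu
  rcases hD2 with rfl | hD2
  · have hD1' : u ∈ D.good (-1) := by
      have c : (-((0 : ℕ) : ℤ) - 1) = -1 := by norm_num
      rw [c] at hD1
      exact hD1
    obtain ⟨_, ⟨W, hW, rfl⟩, huW, hWG⟩ := Y.isBasis_affineOpens.exists_subset_of_mem_open hD1'
      (D.isOpen_good (-1))
    have hWV : W ≤ V := fun x hx => D.good_subset (-1) (hWG hx)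
    obtain ⟨hf, hp⟩ := D.finite_projective_sect_zero hW hWV hWG
    obtain ⟨D', m, huD', -, hiso⟩ :=
      Groth.Agent.Lib.T2H5.LocApply.exists_restrict_iso_freeMod_of_finite_projective
        ((Coh.Rpush π 0).obj F) hW hf hp u huW
    exact ⟨D', m, huD', hiso⟩
  · obtain ⟨_, ⟨W, hW, rfl⟩, huW, hWG⟩ := Y.isBasis_affineOpens.exists_subset_of_mem_open
      (show u ∈ D.good (-(p : ℤ)) ∩ D.good (-(p : ℤ) - 1) from ⟨hD2, hD1⟩)
      ((D.isOpen_good _).inter (D.isOpen_good _))
    have hWV : W ≤ V := fun x hx => D.good_subset _ (hWG hx).1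
    obtain ⟨hf, hp⟩ := D.finite_projective_sect hW hWV p (fun x hx => (hWG hx).1)
      (fun x hx => (hWG hx).2)
    obtain ⟨D', m, huD', -, hiso⟩ :=
      Groth.Agent.Lib.T2H5.LocApply.exists_restrict_iso_freeMod_of_finite_projective
        ((Coh.Rpush π p).obj F) hW hf hp u huW
    exact ⟨D', m, huD', hiso⟩

include hfp in
/-- `R^p π_* F` is finite locally free over every open inside `GoodF π F p` -/
theorem isFinLocFree_Rpush_restrict (p : ℕ) (U : Y.Opens) (hU : (U : Set Y) ⊆ GoodF π F p) :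
    FlatMod.IsFinLocFree (((Coh.Rpush π p).obj F).restrict U.ι) :=
  isFinLocFree_restrict_of_local _ U fun u hu => exists_restrict_iso_freeMod π F hfp p u (hU hu)

include hfp in
/-- `R^p π_* F` is finite locally free if every point is in `GoodF π F p` -/
theorem isFinLocFree_Rpush (p : ℕ) (hU : ∀ u : Y, u ∈ GoodF π F p) :
    FlatMod.IsFinLocFree ((Coh.Rpush π p).obj F) :=
  fun u => exists_restrict_iso_freeMod π F hfp p u (hU u)

include hfp hfl in
theorem mem_goodF_zero (s : Y) (h1 : CohIII.fiberRank π F 1 s = 0) : s ∈ GoodF π F 0 := by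
  obtain ⟨V, hV, hsV, -⟩ := exists_isAffineOpen_mem_and_subset (x := s) (U := ⊤) trivial
  obtain ⟨D⟩ := nonempty_bcLoc π F hfp hfl hV
  have h := D.mem_good_of_fiberRank_eq_zero s hsV 1 h1
  have c : (-((1 : ℕ) : ℤ)) = -((0 : ℕ) : ℤ) - 1 := by norm_num
  rw [c] at h
  exact ⟨V, hV, D, h, Or.inl rfl⟩

include hfp hfl in
theorem mem_goodF_succ (p : ℕ) (s : Y) (h1 : CohIII.fiberRank π F p s = 0)
    (h2 : CohIII.fiberRank π F (p + 2) s = 0) : s ∈ GoodF π F (p + 1) := by
  obtain ⟨V, hV, hsV, -⟩ := exists_isAffineOpen_mem_and_subset (x := s) (U := ⊤) trivial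
  obtain ⟨D⟩ := nonempty_bcLoc π F hfp hfl hV
  have ha := D.mem_good_of_fiberRank_eq_zero s hsV (p + 2) h2
  have ca : (-((p + 2 : ℕ) : ℤ)) = -((p + 1 : ℕ) : ℤ) - 1 := by
    push_cast
    ring
  rw [ca] at ha
  have hb := D.mem_good_pred_of_fiberRank_eq_zero s hsV p h1
  have cb : (-(p : ℤ) - 1) = -((p + 1 : ℕ) : ℤ) := by
    push_cast
    ring
  rw [cb] at hb
  exact ⟨V, hV, D, ha, Or.inr hb⟩

include hfp hfl in
/-- `bc_p` epi at `s` and `H^{p+2}` of the fibre at `s` zero: `s ∈ GoodF π F (p + 1)` -/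
theorem mem_goodF_succ_of_epi (p : ℕ) (s : Y) [HasInjectiveResolutions (π.fiber s).Modules]
    {Δs : RDer.DerivedLES (Scheme.Modules.pushforward (π.fiberToSpecResidueField s))}
    {Es : CohCmp.SectCmp (π.fiberToSpecResidueField s) Δs}
    (Bs : CohCmp.GenBC π (Y.fromSpecResidueField s) (π.fiberToSpecResidueField s) (π.fiberι s)
      (π.fiber_fac s) E Es)
    (hepi : Epi (Bs.bc p F)) (h2 : CohIII.fiberRank π F (p + 2) s = 0) : s ∈ GoodF π F (p + 1) := by
  haveI : F.IsQuasicoherent := Groth.Agent.Helper18Strict.isQCoh_of_isFP F hfp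
  obtain ⟨V, hV, hsV, -⟩ := exists_isAffineOpen_mem_and_subset (x := s) (U := ⊤) trivial
  obtain ⟨D⟩ := nonempty_bcLoc π F hfp hfl hV
  have ha := D.mem_good_of_fiberRank_eq_zero s hsV (p + 2) h2
  have ca : (-((p + 2 : ℕ) : ℤ)) = -((p + 1 : ℕ) : ℤ) - 1 := by
    push_cast
    ring
  rw [ca] at ha
  have hb := D.mem_good_of_bc_surjective s hsV p Bs (surjective_app_top_of_epi _)
  have cb : (-(p : ℤ) - 1) = -((p + 1 : ℕ) : ℤ) := by
    push_cast
    ring
  rw [cb] at hb
  exact ⟨V, hV, D, ha, Or.inr hb⟩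

include hfp hfl in
/-- `R^j π_* F` vanishes if `h^j = 0` everywhere -/
theorem isZero_Rpush (j : ℕ) (hU : ∀ s : Y, CohIII.fiberRank π F j s = 0) :
    IsZero ((Coh.Rpush π j).obj F) := by
  haveI : F.IsQuasicoherent := Groth.Agent.Helper18Strict.isQCoh_of_isFP F hfp
  haveI := Groth.Agent.Lib.T2H5.RpushQCoh.isQuasicoherent_Rpush π F j
  choose O hsO hO using fun (s : Y) =>
    Groth.Agent.Lib.T2H5.LocApply.exists_open_subsingleton π F hfp hfl s j (hU s)
  refine Groth.Agent.Lib.T2H5.IdealMul.isZero_of_affine_cover _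
    {W : Y.affineOpens | ∃ s : Y, W.1 ≤ O s} (fun x => ?_) (fun W hW t => ?_)
  · obtain ⟨_, ⟨W, hW, rfl⟩, hxW, hWle⟩ :=
      Y.isBasis_affineOpens.exists_subset_of_mem_open (hsO x) (O x).2
    exact ⟨⟨W, hW⟩, ⟨x, hWle⟩, hxW⟩
  · obtain ⟨s, hle⟩ := hW
    haveI := hO s W.1 W.2 hle
    exact Subsingleton.elim (α := Γ((Coh.Rpush π j).obj F, W.1)) t 0

end main

end Groth.Agent.Lib.T2H5.GBCLoc
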