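import Groth.Agent.Lib.T2H9FlatFib6
import Groth.Agent.Lib.T2H9FBCZero
import Groth.Agent.Lib.T2H9InvFlat
import Groth.Agent.Lib.Helper23TensorUnit

/-!
# T2H9H0Triv (helper9): `A → Γ(X, O_X)` is bijective when `H^0` of the closed fibre is one-dimensional

`X` proper and flat over a Noetherian local ring `A`.  If `H^0(X, O_X/𝔪O_X) ≃ₗ[A] A/𝔪` then `A → Γ(X, O_X)` is
bijective (`bijective_toGlobal_of_linearEquiv`): the global section `1` is a "basis mod `𝔪`" (it cannot die in `O/𝔪O`,
`hom_eq_zero_of_app_top_one`), so by `FlatFib.bijective_linearCombination_of_good` (cohomology and base change in degree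
`0`, where left exactness gives the injectivity hypothesis for free) it is a basis of `H^0(X, O_X)`.
-/

set_option autoImplicit false
set_option linter.style.haveILetI false
set_option linter.unusedSectionVars false
set_option linter.unusedVariables false
universe u
open CategoryTheory AlgebraicGeometry Limits TopologicalSpace Opposite

namespace Groth.Agent.Lib.T2H9.H0Triv

open Groth.Agent.Lib.T2H9.FlatFib Groth.Agent.Lib.T2H9.FFGeom Groth.Agent.Lib.T2H9.FBCZero
  Groth.Agent.Lib.T2H9.H0Unit
open Groth.Agent.Lib.Helper23.SecTw Groth.Agent.Lib.Helper6 Groth.Agent.Lib.Helper23.GenLocus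

section zero
variable {X : Scheme.{u}}

/-- a morphism `O ⟶ N` killing the global section `1` is zero -/
theorem hom_eq_zero_of_app_top_one {N : X.Modules} (ψ : Coh.structureModule X ⟶ N)
    (h : ψ.app ⊤ (toS ⊤ 1) = 0) : ψ = 0 := by
  have h0 : sv ψ ⊤ = 0 := h
  apply Scheme.Modules.hom_ext
  intro U
  ext m
  have h1 : sv ψ U = 0 := by
    rw [← res_sv ψ (le_top : U ≤ ⊤), h0, res_zero]
  have h2 := app_toS ψ U (ofS U m)
  rw [toS_ofS, h1, smul_zero] at h2
  exact h2

end zero

section main
variable {A : Type u} [CommRing A] [IsNoetherianRing A] [IsLocalRing A]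
variable (X : Scheme.{u}) [X.Over (Spec (CommRingCat.of A))]
  [IsProper (X ↘ Spec (CommRingCat.of A))] [Flat (X ↘ Spec (CommRingCat.of A))]

/-- `X` proper and flat over a Noetherian local ring `A` with `H^0(X, O/𝔪O)` one-dimensional over the residue field:
then `A → Γ(X, O_X)` is bijective. -/
theorem bijective_toGlobal_of_linearEquiv
    (e' : Coh.HH X (cokernel (Formal.smulFamily (IsLocalRing.maximalIdeal A) (Coh.structureModule X))) 0
      ≃ₗ[A] IsLocalRing.ResidueField A) :
    Function.Bijective (Coh.toGlobal (X ↘ Spec (CommRingCat.of A))) := by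
  have hF : Coh.IsCoh (Coh.structureModule X) := Groth.Agent.Lib.T2H5.GenIsoF.isCoh_structureModule
  haveI := hF.1
  have hfl : FlatMod.IsFlatOver (X ↘ Spec (CommRingCat.of A)) (Coh.structureModule X) :=
    Groth.Agent.Lib.T2H9.InvFlat.isFlatOver_of_isInvertible _ _
      (Groth.Agent.Lib.Helper23.TensorUnit.isInvertible_structureModule X)
  let u : Coh.HH X (Coh.structureModule X) 0 := (hh0Γ X (Coh.structureModule X)).symm (toS ⊤ 1)
  have hqu : qJ X (Coh.structureModule X) 0 (IsLocalRing.maximalIdeal A) u ≠ 0 := by
    intro h0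
    have h1 : (cokernel.π (Formal.smulFamily (IsLocalRing.maximalIdeal A) (Coh.structureModule X))).app ⊤
        (toS ⊤ 1) = 0 := by
      have h := hh0Γ_map (cokernel.π (Formal.smulFamily (IsLocalRing.maximalIdeal A) (Coh.structureModule X))) u
      rw [AddEquiv.apply_symm_apply] at h
      rw [← h]
      have h' : Sheaf.H.map ((SheafOfModules.toSheaf _).map
          (cokernel.π (Formal.smulFamily (IsLocalRing.maximalIdeal A) (Coh.structureModule X)))) 0 u = 0 := h0
      rw [h', map_zero]
    have h2 := hom_eq_zero_of_app_top_one _ h1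
    have h3 : IsZero (cokernel (Formal.smulFamily (IsLocalRing.maximalIdeal A) (Coh.structureModule X))) :=
      IsZero.of_epi_eq_zero _ h2
    haveI : Subsingleton (Coh.HH X (cokernel (Formal.smulFamily (IsLocalRing.maximalIdeal A)
        (Coh.structureModule X))) 0) :=
      Groth.Agent.Lib.T2H5.Chevalley.subsingleton_HH_of_isZero h3 0
    have h4 : (1 : IsLocalRing.ResidueField A) = 0 := by
      rw [← e'.apply_symm_apply 1, Subsingleton.elim (e'.symm 1) 0, map_zero]
    exact one_ne_zero h4
  let t : Fin 1 → Coh.HH X (Coh.structureModule X) 0 := fun _ => u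
  have hφ : ∀ c : Fin 1 → A, φJ X (Coh.structureModule X) 0 t (IsLocalRing.maximalIdeal A) c =
      c 0 • qJ X (Coh.structureModule X) 0 (IsLocalRing.maximalIdeal A) u := by
    intro c
    unfold φJ
    rw [LinearMap.comp_apply, Fintype.linearCombination_apply, Fin.sum_univ_one, map_smul]
  have hk : e' (qJ X (Coh.structureModule X) 0 (IsLocalRing.maximalIdeal A) u) ≠ 0 :=
    fun h => hqu ((LinearEquiv.map_eq_zero_iff e').1 h)
  have hsm : ∀ (a : A) (k : IsLocalRing.ResidueField A), a • k = IsLocalRing.residue A a * k :=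
    fun a k => Algebra.smul_def a k
  have hG : Good X (Coh.structureModule X) 0 t (IsLocalRing.maximalIdeal A) := by
    constructor
    · intro m
      obtain ⟨a, ha⟩ := IsLocalRing.residue_surjective
        (e' m / e' (qJ X (Coh.structureModule X) 0 (IsLocalRing.maximalIdeal A) u))
      refine ⟨fun _ => a, ?_⟩
      rw [hφ]
      apply e'.injective
      rw [map_smul, hsm, ha, div_mul_cancel₀ _ hk]
    · intro c hc i
      rw [hφ] at hc
      have h1 := congrArg e' hc
      rw [map_smul, map_zero, hsm] at h1
      have h2 : IsLocalRing.residue A (c 0) = 0 := (mul_eq_zero.1 h1).resolve_right hk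
      have hi : i = 0 := Subsingleton.elim _ _
      subst hi
      exact (IsLocalRing.residue_eq_zero_iff _).1 h2
  have hbij := bijective_linearCombination_of_good X (Coh.structureModule X) hF hfl 0 t hG
    (fun J J' hle _ => injective_εJ_zero X (Coh.structureModule X) J J' hle)
  have hto : ∀ a : A, toS ⊤ (Coh.toGlobal (X ↘ Spec (CommRingCat.of A)) a) =
      hh0Γ X (Coh.structureModule X) (Fintype.linearCombination A t (fun _ => a)) := by
    intro a
    rw [Fintype.linearCombination_apply, Fin.sum_univ_one]
    have e1 : (a • u : Coh.HH X (Coh.structureModule X) 0) =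
        (show Coh.Γtop X from Coh.toGlobal (X ↘ Spec (CommRingCat.of A)) a) • u := rfl
    change _ = hh0Γ X (Coh.structureModule X) (a • u)
    rw [e1, hh0Γ_smul, AddEquiv.apply_symm_apply, smul_toS, mul_one]
  constructor
  · intro a b hab
    have h1 : hh0Γ X (Coh.structureModule X) (Fintype.linearCombination A t (fun _ => a)) =
        hh0Γ X (Coh.structureModule X) (Fintype.linearCombination A t (fun _ => b)) := by
      rw [← hto, ← hto, hab]
    exact congrFun (hbij.1 ((hh0Γ X (Coh.structureModule X)).injective h1)) 0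
  · intro r
    obtain ⟨c, hc⟩ := hbij.2 ((hh0Γ X (Coh.structureModule X)).symm (toS ⊤ r))
    refine ⟨c 0, ?_⟩
    have h1 : (fun _ : Fin 1 => c 0) = c := funext (fun i => by rw [Subsingleton.elim i 0])
    have h2 := hto (c 0)
    rw [h1, hc, AddEquiv.apply_symm_apply] at h2
    exact h2

end main

end Groth.Agent.Lib.T2H9.H0Triv
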