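import Groth.Agent.Lib.T2H5UnitPush
import Groth.Agent.Lib.T2H5GBCLocB
import Groth.Agent.Lib.T2H9H0Triv
set_option backward.isDefEq.respectTransparency.types false

/-!
# `O_S → f_* O_X` after base change; families of curves with `h^0(O) = 1` (helper5)

Namespace `Groth.Agent.Lib.T2H5.UnitPush`.
-/

set_option autoImplicit false
set_option linter.style.haveILetI false
set_option linter.unusedSectionVars false
set_option linter.unusedVariables false
universe u
open CategoryTheory CategoryTheory.Limits AlgebraicGeometry Opposite TopologicalSpace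

namespace Groth.Agent.Lib.T2H5.UnitPush

open Groth.Agent.Helper13AffBC Groth.Agent.Helper13PullbackUnit Groth.Agent.Lib.Helper23.GenLocus
  Groth.Agent.Lib.Helper23.PB Groth.Agent.Lib.T2H5.AdicPic Scheme.Modules

section nat

/-- naturality of `unitSec` in the module -/
theorem unitSec_nat {X Y : Scheme.{u}} (f : Y ⟶ X) {F G : X.Modules} (φ : F ⟶ G)
    {V : X.Opens} {U : Y.Opens} (hle : U ≤ f ⁻¹ᵁ V) (m : Γ(F, V)) :
    ((Scheme.Modules.pullback f).map φ).app U (unitSec f F hle m) =
      unitSec f G hle (φ.app V m) := by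
  rw [unitSec_apply, unitSec_apply]
  have n1 := congr($(((Scheme.Modules.pullback f).map φ).mapPresheaf.naturality (homOfLE hle).op)
    (((pullbackPushforwardAdjunction f).unit.app F).app V m))
  have hn := (pullbackPushforwardAdjunction f).unit.naturality φ
  have h2 := congrArg (fun k => (Scheme.Modules.Hom.app k V) m) hn
  exact n1.trans (congrArg _ h2.symm)

/-- morphisms out of the structure module are determined by the image of the global section `1` -/
theorem hom_ext_of_app_top_one {X : Scheme.{u}} {N : X.Modules} (φ ψ : Coh.structureModule X ⟶ N)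
    (h : φ.app ⊤ (toS ⊤ 1) = ψ.app ⊤ (toS ⊤ 1)) : φ = ψ := by
  have h0 : (φ - ψ).app ⊤ (toS ⊤ 1) = 0 := by
    rw [Scheme.Modules.Hom.sub_app]
    exact sub_eq_zero.mpr h
  exact sub_eq_zero.mp (Groth.Agent.Lib.T2H9.H0Triv.hom_eq_zero_of_app_top_one _ h0)

end nat

section bc

open Groth.Agent.Lib.T2H5.BC0GlueE Groth.Agent.Lib.T2H5.BC0Main

variable {X S X' S' : Scheme.{u}} (f : X ⟶ S) [IsProper f] [Flat f] [LocallyOfFinitePresentation f]

theorem mem_Good_of_surjective (s : S)
    (hs : Function.Surjective (f.fiberToSpecResidueField s).appTop.hom) :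
    s ∈ Good f (Coh.structureModule X) := by
  obtain ⟨V, hV, hsV, -⟩ := exists_isAffineOpen_mem_and_subset (x := s) (U := ⊤) trivial
  obtain ⟨D⟩ := nonempty_bcLoc f _ isFP_structureModule (isFlatOver_structureModule f) hV
  exact ⟨V, hV, D, mem_good_of_surjective_appTop f D s hsV hs⟩

/-- `O_{S'} → f'_* O_{X'}` is an isomorphism for every base change `f'` of `f` -/
theorem isIso_unitToPush_baseChange
    (hH : ∀ s : S, Function.Bijective (f.fiberToSpecResidueField s).appTop.hom)
    (g : S' ⟶ S) (g' : X' ⟶ X) (f' : X' ⟶ S') (h : IsPullback g' f' f g) :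
    IsIso (ClSub.unitToPush f') := by
  haveI := isIso_unitToPush f hH
  haveI hq : (Coh.structureModule X).IsQuasicoherent :=
    Groth.Agent.Helper18Strict.isQCoh_of_isFP _ isFP_structureModule
  haveI : IsIso (bcMap f g g' f' h (Coh.structureModule X)) :=
    isIso_bcMap_of_good f _ g g' f' h (fun y => mem_Good_of_surjective f (g y) (hH _).2)
  let T : Coh.structureModule S' ⟶ (pushforward f').obj (Coh.structureModule X') :=
    (pullbackUnitIso g).inv ≫ (Scheme.Modules.pullback g).map (ClSub.unitToPush f) ≫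
      bcMap f g g' f' h (Coh.structureModule X) ≫ (pushforward f').map (pullbackUnitHom g')
  haveI : IsIso T := inferInstance
  have hT : T = ClSub.unitToPush f' := by
    apply hom_ext_of_app_top_one
    have s1 : (pullbackUnitIso g).inv.app ⊤ (toS ⊤ 1) =
        unitSec g (Coh.structureModule S) (le_top : (⊤ : S'.Opens) ≤ g ⁻¹ᵁ ⊤) (toS ⊤ 1) := by
      have e := pullbackUnitHom_unitSec_one g (A := ⊤) (A' := ⊤) le_top
      have h3 : ∀ x, (pullbackUnitIso g).inv.app ⊤ ((pullbackUnitHom g).app ⊤ x) = x := fun x =>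
        congrArg (fun t => t.app ⊤ x) (pullbackUnitIso g).hom_inv_id
      rw [← e, h3]
    have s2 := unitSec_nat g (ClSub.unitToPush f) (le_top : (⊤ : S'.Opens) ≤ g ⁻¹ᵁ ⊤) (toS ⊤ 1)
    have s3 : (ClSub.unitToPush f).app ⊤ (toS ⊤ 1) = toS (f ⁻¹ᵁ ⊤) 1 := by
      show toS (f ⁻¹ᵁ ⊤) ((f.app ⊤).hom 1) = _
      rw [map_one]
    have s4 := bcMap_unitSec f g g' f' h (Coh.structureModule X)
      (le_top : (⊤ : S'.Opens) ≤ g ⁻¹ᵁ ⊤) (toS (f ⁻¹ᵁ ⊤) 1)
    have s5 := pullbackUnitHom_unitSec_one g' (A := f ⁻¹ᵁ ⊤) (A' := f' ⁻¹ᵁ ⊤)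
      (preimage_le f g g' f' h (le_top : (⊤ : S'.Opens) ≤ g ⁻¹ᵁ ⊤))
    have s6 : (ClSub.unitToPush f').app ⊤ (toS ⊤ 1) = toS (f' ⁻¹ᵁ ⊤) 1 := by
      show toS (f' ⁻¹ᵁ ⊤) ((f'.app ⊤).hom 1) = _
      rw [map_one]
    show ((pushforward f').map (pullbackUnitHom g')).app ⊤
      ((bcMap f g g' f' h (Coh.structureModule X)).app ⊤
        (((Scheme.Modules.pullback g).map (ClSub.unitToPush f)).app ⊤
          ((pullbackUnitIso g).inv.app ⊤ (toS ⊤ 1)))) = _
    rw [s1, s2, s3, s4, s6]
    exact s5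
  rw [← hT]
  infer_instance

end bc

section rank

open Groth.Agent.Lib.T2H9.FBCZero

/-- a scheme over a field `k` with `dim_k H^0(Y, O_Y) = 1` has `k → Γ(Y, O_Y)` bijective -/
theorem bijective_appTop_of_hRank_eq_one (k : Type u) [Field k] (Y : Scheme.{u})
    (g : Y ⟶ Spec (CommRingCat.of k))
    (h : Models.hRank k Y g (Coh.structureModule Y) 0 = 1) :
    Function.Bijective g.appTop.hom := by
  letI : Y.Over (Spec (CommRingCat.of k)) := ⟨g⟩
  have h1 : Module.finrank k (Coh.HH Y (Coh.structureModule Y) 0) = 1 := h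
  let e := hh0Γ Y (Coh.structureModule Y)
  let u : Coh.HH Y (Coh.structureModule Y) 0 := e.symm (toS ⊤ 1)
  have hnt : Nontrivial (Coh.HH Y (Coh.structureModule Y) 0) :=
    Module.nontrivial_of_finrank_pos (R := k) (by rw [h1]; exact Nat.one_pos)
  have hu : u ≠ 0 := by
    intro h0
    obtain ⟨a, b, hab⟩ := hnt.exists_pair_ne
    apply hab
    have key : ∀ x : Coh.HH Y (Coh.structureModule Y) 0, x = 0 := by
      intro x
      apply e.injective
      rw [map_zero]
      have h2 : e x = (ofS ⊤ (e x) : Γ(Y, ⊤)) • toS ⊤ 1 := by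
        rw [smul_toS, mul_one, toS_ofS]
      have h3 : toS ⊤ (1 : Γ(Y, ⊤)) = 0 := by
        have := congrArg e h0
        rw [AddEquiv.apply_symm_apply, map_zero] at this
        exact this
      rw [h2, h3, smul_zero]
    rw [key a, key b]
  have hspan := (finrank_eq_one_iff_of_nonzero' u hu).mp h1
  have hsm : ∀ a : k, e (a • u) = toS ⊤ (Coh.toGlobal g a) := by
    intro a
    have e1 : (a • u : Coh.HH Y (Coh.structureModule Y) 0) =
        (show Coh.Γtop Y from Coh.toGlobal (Y ↘ Spec (CommRingCat.of k)) a) • u := rfl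
    rw [e1, hh0Γ_smul, AddEquiv.apply_symm_apply, smul_toS, mul_one]
    rfl
  have hbij : Function.Bijective (Coh.toGlobal g) := by
    constructor
    · intro a b hab
      have h2 : a • u = b • u := by
        apply e.injective
        rw [hsm, hsm, hab]
      exact smul_left_injective k hu h2
    · intro r
      obtain ⟨c, hc⟩ := hspan (e.symm (toS ⊤ r))
      refine ⟨c, ?_⟩
      have h2 := hsm c
      rw [hc, AddEquiv.apply_symm_apply] at h2
      exact h2.symm
  have hγ : Function.Bijective (Scheme.ΓSpecIso (CommRingCat.of k)).inv.hom :=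
    (ConcreteCategory.isIso_iff_bijective (Scheme.ΓSpecIso (CommRingCat.of k)).inv).1 inferInstance
  have hcomp : (Coh.toGlobal g : k → Coh.Γtop Y) =
      (g.appTop.hom : _ → _) ∘ (Scheme.ΓSpecIso (CommRingCat.of k)).inv.hom := rfl
  rw [hcomp] at hbij
  exact (Function.Bijective.of_comp_iff _ hγ).1 hbij

end rank

section curves

open Groth.Agent.Lib.T2H5.BC0GlueE Groth.Agent.Lib.T2H5.BC0Main Groth.Agent.Lib.T2H5.GBCLoc

variable {X S : Scheme.{u}} (f : X ⟶ S) [IsProper f] [Flat f] [LocallyOfFinitePresentation f]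
  [HasInjectiveResolutions X.Modules]

/-- `R^1 f_* O_X` is finite locally free for a family of curves whose fibres have only constant functions -/
theorem isFinLocFree_Rpush_one (hdim : ∀ s : S, topologicalKrullDim ↥(f.fiber s) ≤ 1)
    (hH : ∀ s : S, Function.Surjective (f.fiberToSpecResidueField s).appTop.hom) :
    FlatMod.IsFinLocFree ((Coh.Rpush f 1).obj (Coh.structureModule X)) := by
  refine isFinLocFree_Rpush f _ isFP_structureModule 1 (fun s => ?_)
  obtain ⟨V, hV, hsV, -⟩ := exists_isAffineOpen_mem_and_subset (x := s) (U := ⊤) trivial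
  obtain ⟨D⟩ := nonempty_bcLoc f _ isFP_structureModule (isFlatOver_structureModule f) hV
  have h2 : CohIII.fiberRank f (Coh.structureModule X) 2 s = 0 :=
    Groth.Agent.Lib.T2H5.LocMain.fiberRank_eq_zero_of_subsingleton f _ s 2
      (Groth.Agent.Lib.T2H5.BC0MainB.subsingleton_fiberH_of_dim f _ s 1 (hdim s) 2 (by norm_num))
  have ha := D.mem_good_of_fiberRank_eq_zero s hsV 2 h2
  have ca : (-((2 : ℕ) : ℤ)) = -((1 : ℕ) : ℤ) - 1 := by norm_num
  rw [ca] at ha
  have hb := mem_good_of_surjective_appTop f D s hsV (hH s)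
  have cb : (-1 : ℤ) = -((1 : ℕ) : ℤ) := by norm_num
  rw [cb] at hb
  exact ⟨V, hV, D, ha, Or.inr hb⟩

end curves

end Groth.Agent.Lib.T2H5.UnitPush
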