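import Mathlib
import Groth.Agent.Lib.T2H5UnitPushB
set_option backward.isDefEq.respectTransparency.types false

/-!
# `h^0(O_{X_y}) = 1` for all `y` iff `O_T = (f_T)_* O` universally (helper5)

Namespace `Groth.Agent.Lib.T2H5.UnitPush`.
-/

set_option autoImplicit false
set_option linter.style.haveILetI false
set_option linter.unusedSectionVars false
set_option linter.unusedVariables false
universe u
open CategoryTheory CategoryTheory.Limits AlgebraicGeometry Opposite TopologicalSpace

namespace Groth.Agent.Lib.T2H5.UnitPush

section D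

variable {X Y : Scheme.{u}} (f : X ⟶ Y)

/-- if `O_Y ⟶ f_* O_X` is an isomorphism, so are its components -/
theorem isIso_app_of_isIso_unitToPush [IsIso (ClSub.unitToPush f)] (V : Y.Opens) : IsIso (f.app V) := by
  have h3 : ∀ x, (inv (ClSub.unitToPush f)).app V ((ClSub.unitToPush f).app V x) = x := fun x =>
    congrArg (fun t => t.app V x) (IsIso.hom_inv_id (ClSub.unitToPush f))
  have h4 : ∀ x, (ClSub.unitToPush f).app V ((inv (ClSub.unitToPush f)).app V x) = x := fun x =>
    congrArg (fun t => t.app V x) (IsIso.inv_hom_id (ClSub.unitToPush f))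
  have hb : Function.Bijective ((ClSub.unitToPush f).app V) :=
    ⟨Function.LeftInverse.injective h3, Function.RightInverse.surjective h4⟩
  exact (ConcreteCategory.isIso_iff_bijective (f.app V)).2 hb

theorem algebraMap_fiberGlobal (y : Y) :
    algebraMap (Y.residueField y) Γ(f.fiber y, ⊤) =
      (f.fiberToSpecResidueField y).appTop.hom.comp (Scheme.ΓSpecIso (Y.residueField y)).inv.hom := rfl

/-- `dim_{κ(y)} Γ(X_y, O) = 1` means that `κ(y) → Γ(X_y, O)` is bijective -/
theorem bijective_appTop_iff_finrank_eq_one (y : Y) :
    Function.Bijective (f.fiberToSpecResidueField y).appTop.hom ↔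
      Module.finrank (Y.residueField y) Γ(f.fiber y, ⊤) = 1 := by
  have hiso : Function.Bijective (Scheme.ΓSpecIso (Y.residueField y)).inv.hom :=
    ConcreteCategory.bijective_of_isIso (Scheme.ΓSpecIso (Y.residueField y)).inv
  have hiso' : Function.Bijective (Scheme.ΓSpecIso (Y.residueField y)).hom.hom :=
    ConcreteCategory.bijective_of_isIso (Scheme.ΓSpecIso (Y.residueField y)).hom
  have hcomp : ∀ x, algebraMap (Y.residueField y) Γ(f.fiber y, ⊤) x =
      (f.fiberToSpecResidueField y).appTop.hom ((Scheme.ΓSpecIso (Y.residueField y)).inv.hom x) :=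
    fun x => rfl
  constructor
  · intro h
    have hb : Function.Bijective (algebraMap (Y.residueField y) Γ(f.fiber y, ⊤)) := by
      have : (algebraMap (Y.residueField y) Γ(f.fiber y, ⊤) : _ → _) =
          (f.fiberToSpecResidueField y).appTop.hom ∘ (Scheme.ΓSpecIso (Y.residueField y)).inv.hom :=
        funext hcomp
      rw [this]
      exact h.comp hiso
    let e : (Y.residueField y) ≃ₗ[Y.residueField y] Γ(f.fiber y, ⊤) :=
      LinearEquiv.ofBijective (Algebra.linearMap (Y.residueField y) Γ(f.fiber y, ⊤)) hb
    rw [← e.finrank_eq, Module.finrank_self]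
  · intro h
    haveI : Nontrivial Γ(f.fiber y, ⊤) := Module.nontrivial_of_finrank_pos (R := Y.residueField y) (by omega)
    have hinj : Function.Injective (algebraMap (Y.residueField y) Γ(f.fiber y, ⊤)) :=
      (algebraMap (Y.residueField y) Γ(f.fiber y, ⊤)).injective
    have hsurj : Function.Surjective (algebraMap (Y.residueField y) Γ(f.fiber y, ⊤)) :=
      Algebra.surjective_algebraMap_iff.2 (Subalgebra.bot_eq_top_of_finrank_eq_one h).symm
    have hb : Function.Bijective (algebraMap (Y.residueField y) Γ(f.fiber y, ⊤)) := ⟨hinj, hsurj⟩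
    have : ((f.fiberToSpecResidueField y).appTop.hom : _ → _) =
        (algebraMap (Y.residueField y) Γ(f.fiber y, ⊤)) ∘ (Scheme.ΓSpecIso (Y.residueField y)).hom.hom := by
      funext x
      show _ = algebraMap (Y.residueField y) Γ(f.fiber y, ⊤) ((Scheme.ΓSpecIso (Y.residueField y)).hom.hom x)
      rw [hcomp]
      congr 1
      exact (congrArg (fun k => k.hom x) (Scheme.ΓSpecIso (Y.residueField y)).hom_inv_id).symm
    rw [this]
    exact hb.comp hiso'

variable [IsProper f] [Flat f] [LocallyOfFinitePresentation f]

/-- `dim_{κ(y)} Γ(X_y, O) = 1` for all `y` iff `O_T → (f_T)_* O` is an isomorphism on all opens, universally -/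
theorem finrank_eq_one_iff_isIso_app :
    (∀ y : Y, Module.finrank (Y.residueField y) Γ(f.fiber y, ⊤) = 1) ↔
      ∀ (T : Scheme.{u}) (g : T ⟶ Y) (U : T.Opens), IsIso ((pullback.snd f g).app U) := by
  constructor
  · intro h T g U
    have hH : ∀ s : Y, Function.Bijective (f.fiberToSpecResidueField s).appTop.hom := fun s =>
      (bijective_appTop_iff_finrank_eq_one f s).2 (h s)
    haveI := isIso_unitToPush_baseChange f hH g (pullback.fst f g) (pullback.snd f g)
      (IsPullback.of_hasPullback f g)
    exact isIso_app_of_isIso_unitToPush (pullback.snd f g) U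
  · intro h y
    have h1 : IsIso ((pullback.snd f (Y.fromSpecResidueField y)).app ⊤) :=
      h (Spec (Y.residueField y)) (Y.fromSpecResidueField y) ⊤
    have h2 : Function.Bijective (f.fiberToSpecResidueField y).appTop.hom :=
      (ConcreteCategory.isIso_iff_bijective _).1 h1
    exact (bijective_appTop_iff_finrank_eq_one f y).1 h2

end D

end Groth.Agent.Lib.T2H5.UnitPush
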