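import Mathlib
import Groth.Agent.Lib.T2H5PicDescGeo
import Groth.Agent.Lib.Helper23GenNear
import Groth.Agent.Lib.T2H5UnitPushD
import Groth.Agent.Lib.T2H5GBCLocD
set_option backward.isDefEq.respectTransparency.types false

/-!
# Invertible modules trivial on a fibre of a proper morphism (helper5)

Namespace `Groth.Agent.Lib.T2H5.FibTriv`.

* `isGenNear_of_isGen_unitSec`: if the pullback of a local section generates the pulled back invertible module,
  the section generates near the image points.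
-/

set_option autoImplicit false
set_option linter.style.haveILetI false
set_option linter.unusedSectionVars false
set_option linter.unusedVariables false
universe u
open CategoryTheory CategoryTheory.Limits AlgebraicGeometry Opposite TopologicalSpace

namespace Groth.Agent.Lib.T2H5.FibTriv

open Groth.Agent.Lib.Helper6 Groth.Agent.Lib.Helper23.SecTw Groth.Agent.Lib.Helper23.GenLocus
  Groth.Agent.Lib.Helper23.PB Groth.Agent.Helper13PullbackUnit Groth.Agent.Lib.Helper23.Extend
  Groth.Agent.Lib.Helper23.GenNear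

section A

variable {X X' : Scheme.{u}} (p : X' ⟶ X) (F : X.Modules)

/-- if the pullback of a local section `a` of an invertible module generates the pullback over `V'`, then `a` generates
near every point of the image of `V'` -/
theorem isGenNear_of_isGen_unitSec (hF : PicF.IsInvertible F) (B : X.Opens) (a : Γ(F, B))
    (V' : X'.Opens) (hle : V' ≤ p ⁻¹ᵁ B)
    (hgen : IsGen ((Scheme.Modules.pullback p).obj F) V' (unitSec p F hle a))
    (x' : X') (hx' : x' ∈ V') : IsGenNear F B a (p x') := by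
  haveI : F.IsQuasicoherent := isQuasicoherent_of_isInvertible F hF
  obtain ⟨W₀, e₀, hxW₀, hW₀aff, he₀⟩ := exists_affine_gen F hF (p x')
  obtain ⟨W, hW, hxW, hWle⟩ := exists_isAffineOpen_mem_and_subset (X := X) (x := p x') (U := W₀ ⊓ B)
    ⟨hxW₀, hle hx'⟩
  have hWW₀ : W ≤ W₀ := hWle.trans inf_le_left
  have hWB : W ≤ B := hWle.trans inf_le_right
  have he : IsGen F W (res F hWW₀ e₀) := he₀.mono hWW₀
  obtain ⟨e, hee⟩ : ∃ e, e = res F hWW₀ e₀ := ⟨_, rfl⟩
  rw [← hee] at he
  have hγ := isGen_unitSec p F hW e he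
  let A' : X'.Opens := V' ⊓ p ⁻¹ᵁ W
  have hA1 : A' ≤ V' := inf_le_left
  have hA2 : A' ≤ p ⁻¹ᵁ W := inf_le_right
  have hxA' : x' ∈ A' := ⟨hx', hxW⟩
  obtain ⟨α, hα0⟩ : ∃ α : Γ(X, W), α = coef he le_rfl (res F hWB a) := ⟨_, rfl⟩
  have hα : res F hWB a = α • e := by
    have h := coef_spec he le_rfl (res F hWB a)
    rw [Groth.Agent.Lib.Helper23.SecTw.res_self] at h
    rw [hα0]
    exact h.symm
  have h1 : res ((Scheme.Modules.pullback p).obj F) hA1 (unitSec p F hle a) =
      p.appLE W A' hA2 α • res ((Scheme.Modules.pullback p).obj F) hA2 (unitSec p F le_rfl e) := by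
    rw [res_unitSec p F hle hA2 hWB hA1 a, hα, unitSec_smul,
      res_unitSec p F le_rfl hA2 le_rfl hA2 e, Groth.Agent.Lib.Helper23.SecTw.res_self]
  have h2 : IsGen ((Scheme.Modules.pullback p).obj F) A'
      (p.appLE W A' hA2 α • res ((Scheme.Modules.pullback p).obj F) hA2 (unitSec p F le_rfl e)) := by
    rw [← h1]
    exact hgen.mono hA1
  have hunit : IsUnit (p.appLE W A' hA2 α) := (isGen_smul_iff (hγ.mono hA2) _).1 h2
  have h4 : x' ∈ X'.basicOpen (p.appLE W A' hA2 α) := by
    rw [Scheme.basicOpen_of_isUnit _ hunit]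
    exact hxA'
  have h5 : p x' ∈ X.basicOpen α := by
    have h6 : X'.basicOpen (p.appLE W A' hA2 α) = A' ⊓ p ⁻¹ᵁ X.basicOpen α := by
      rw [Scheme.Hom.appLE]
      change X'.basicOpen ((X'.presheaf.map (homOfLE hA2).op).hom ((p.app W).hom α)) = _
      rw [Scheme.basicOpen_res, Scheme.preimage_basicOpen]
    rw [h6] at h4
    exact h4.2
  rw [isGenNear_iff_of_isGen he hWB a (p x') hxW, ← hα0]
  exact h5

end A

section B

open Groth.Agent.Helper13AffBC Groth.Agent.Helper13QcqsBC Groth.Agent.Helper13FlatMV TensorProduct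
  Groth.Agent.Lib.T2H5.BC0Main Groth.Agent.Lib.T2H5.BC0GlueC

variable {X Y : Scheme.{u}} (π : X ⟶ Y) [IsProper π] [LocallyOfFinitePresentation π] (L : X.Modules)

/-- **a section generating along a fibre**: if `y` is a good point for degree zero base change, `L` is trivial on the
fibre `X_y` and `Γ(X_y, O) = κ(y)`, then over every affine open neighbourhood `U` of `y` there is a section of `L`
over `π⁻¹U` generating `L` near every point of the fibre. -/
theorem exists_section_isGenNear_fibre (hL : PicF.IsInvertible L) (y : Y) (hgood : y ∈ Good π L)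
    (φ : CohIII.fiberMod π L y ≅ Coh.structureModule (π.fiber y))
    (hH : Function.Bijective (π.fiberToSpecResidueField y).appTop.hom)
    {U : Y.Opens} (hU : IsAffineOpen U) (hyU : y ∈ U) :
    ∃ a : Γ(L, π ⁻¹ᵁ U), ∀ x' : π.fiber y, IsGenNear L (π ⁻¹ᵁ U) a (π.fiberι y x') := by
  haveI : L.IsQuasicoherent := isQuasicoherent_of_isInvertible L hL
  haveI := Groth.Agent.Lib.Helper23.QCohLocal.isQuasicoherent_pushforward π L
  have hsq : IsPullback (π.fiberι y) (π.fiberToSpecResidueField y) π (Y.fromSpecResidueField y) :=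
    IsPullback.of_hasPullback _ _
  obtain ⟨g, hg⟩ : ∃ g : Spec (Y.residueField y) ⟶ Y, g = Y.fromSpecResidueField y := ⟨_, rfl⟩
  obtain ⟨g', hg'⟩ : ∃ g' : π.fiber y ⟶ X, g' = π.fiberι y := ⟨_, rfl⟩
  obtain ⟨f', hf'⟩ : ∃ f' : π.fiber y ⟶ Spec (Y.residueField y), f' = π.fiberToSpecResidueField y :=
    ⟨_, rfl⟩
  rw [← hg, ← hg', ← hf'] at hsq
  rw [← hf'] at hH
  have hgy : ∀ z, g z = y := by
    intro z
    rw [hg, Scheme.fromSpecResidueField_apply]
  haveI : IsIso (bcMap π g g' f' hsq L) :=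
    isIso_bcMap_of_good π L g g' f' hsq (fun z => by rw [hgy z]; exact hgood)
  have hU' : IsAffineOpen (⊤ : (Spec (Y.residueField y)).Opens) := isAffineOpen_top _
  have hle : (⊤ : (Spec (Y.residueField y)).Opens) ≤ g ⁻¹ᵁ U := by
    intro z _
    change g z ∈ U
    rw [hgy z]
    exact hyU
  have hsurj : Function.Surjective ((bcMap π g g' f' hsq L).app ⊤) := by
    have h4 : ∀ x, (bcMap π g g' f' hsq L).app ⊤ ((inv (bcMap π g g' f' hsq L)).app ⊤ x) = x := fun x =>
      congrArg (fun t => t.app ⊤ x) (IsIso.inv_hom_id (bcMap π g g' f' hsq L))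
    exact Function.RightInverse.surjective h4
  have hK := (bcMap_app_surjective_iff π g g' f' hsq L hU hU' hle).1 hsurj
  unfold KSurj at hK
  letI : Algebra Γ(Y, U) Γ(Spec (Y.residueField y), ⊤) := (g.appLE U ⊤ hle).hom.toAlgebra
  let V' : (π.fiber y).Opens := Vp g' f' ⊤ (π ⁻¹ᵁ U)
  have hV'1 : V' ≤ g' ⁻¹ᵁ (π ⁻¹ᵁ U) := inf_le_left
  have hV'2 : V' ≤ f' ⁻¹ᵁ ⊤ := inf_le_right
  have hV'top : ∀ x' : π.fiber y, x' ∈ V' := by
    intro x'
    refine ⟨?_, trivial⟩
    change π (g' x') ∈ U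
    have h1 : π (g' x') = g (f' x') := by
      have := congrArg (fun t => t x') hsq.w
      simpa using this
    rw [h1, hgy]
    exact hyU
  -- the generator of the fibre module
  have φ' : (Scheme.Modules.pullback g').obj L ≅ Coh.structureModule (π.fiber y) := by
    rw [hg']
    exact φ
  have he' : IsGen ((Scheme.Modules.pullback g').obj L) V' (φ'.symm.hom.app V' (toS V' 1)) :=
    isGen_of_iso φ'.symm (isGen_one V')
  obtain ⟨e', hee'⟩ : ∃ e', e' = φ'.symm.hom.app V' (toS V' 1) := ⟨_, rfl⟩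
  rw [← hee'] at he'
  -- the field acting
  let β : Γ(Spec (Y.residueField y), ⊤) →+* Γ(π.fiber y, V') := (f'.appLE ⊤ V' hV'2).hom
  have hβ : Function.Bijective β := by
    have hVeq : V' = f' ⁻¹ᵁ ⊤ := le_antisymm hV'2 (fun x' _ => hV'top x')
    have hiso : IsIso ((π.fiber y).presheaf.map (homOfLE hV'2).op) := by
      have : IsIso (homOfLE hV'2) :=
        ⟨homOfLE (fun x' _ => hV'top x'), Subsingleton.elim _ _, Subsingleton.elim _ _⟩
      infer_instance
    have h1 : Function.Bijective ((π.fiber y).presheaf.map (homOfLE hV'2).op).hom :=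
      ConcreteCategory.bijective_of_isIso _
    have h2 : (β : _ → _) = ((π.fiber y).presheaf.map (homOfLE hV'2).op).hom ∘ f'.appTop.hom := by
      funext c
      rfl
    rw [h2]
    exact h1.comp hH
  have hfield : ∀ c : Γ(Spec (Y.residueField y), ⊤), c ≠ 0 → IsUnit c := by
    intro c hc
    let ε : Γ(Spec (Y.residueField y), ⊤) ≃+* Y.residueField y :=
      (Scheme.ΓSpecIso (Y.residueField y)).commRingCatIsoToRingEquiv
    have h1 : ε c ≠ 0 := fun h0 => hc (ε.injective (h0.trans (map_zero ε).symm))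
    have h2 : IsUnit (ε c) := isUnit_iff_ne_zero.2 h1
    have h3 := h2.map ε.symm
    rwa [RingEquiv.symm_apply_apply] at h3
  haveI : Nontrivial Γ(Spec (Y.residueField y), ⊤) := by
    let ε : Γ(Spec (Y.residueField y), ⊤) ≃+* Y.residueField y :=
      (Scheme.ΓSpecIso (Y.residueField y)).commRingCatIsoToRingEquiv
    exact ε.symm.injective.nontrivial
  by_contra hcon
  have hall : ∀ a : Γ(L, π ⁻¹ᵁ U), ¬ IsGen ((Scheme.Modules.pullback g').obj L) V' (unitSec g' L hV'1 a) := by
    intro a ha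
    apply hcon
    refine ⟨a, fun x' => ?_⟩
    rw [← hg']
    exact isGenNear_of_isGen_unitSec g' L hL (π ⁻¹ᵁ U) a V' hV'1 ha x' (hV'top x')
  have hzero : ∀ a : Γ(L, π ⁻¹ᵁ U), unitSec g' L hV'1 a = 0 := by
    intro a
    have hspec := coef_spec he' le_rfl (unitSec g' L hV'1 a)
    rw [Groth.Agent.Lib.Helper23.SecTw.res_self] at hspec
    by_cases hd : coef he' le_rfl (unitSec g' L hV'1 a) = 0
    · rw [← hspec, hd, zero_smul]
    · exfalso
      obtain ⟨c, hc⟩ := hβ.2 (coef he' le_rfl (unitSec g' L hV'1 a))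
      have hc0 : c ≠ 0 := by
        intro h0
        apply hd
        rw [← hc, h0, map_zero]
      have hu : IsUnit (coef he' le_rfl (unitSec g' L hV'1 a)) := by
        rw [← hc]
        exact (hfield c hc0).map β
      apply hall a
      rw [← hspec]
      exact (isGen_smul_iff he' _).2 hu
  have hkap : ∀ z, kap (R := Γ(Y, U)) (R' := Γ(Spec (Y.residueField y), ⊤))
      (uW π g' f' L le_rfl (inf_le_left : Vp g' f' ⊤ (π ⁻¹ᵁ U) ≤ g' ⁻¹ᵁ (π ⁻¹ᵁ U)) inf_le_right)
      (uW_smul π g g' f' hsq L hle le_rfl inf_le_left inf_le_right) z = 0 := by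
    intro z
    induction z using TensorProduct.induction_on with
    | zero => exact map_zero _
    | tmul r' a =>
      rw [kap_tmul]
      have : uW π g' f' L le_rfl (inf_le_left : Vp g' f' ⊤ (π ⁻¹ᵁ U) ≤ g' ⁻¹ᵁ (π ⁻¹ᵁ U)) inf_le_right a = 0 :=
        hzero a
      rw [this, smul_zero]
    | add x y hx hy => rw [map_add, hx, hy, add_zero]
  obtain ⟨z, hz⟩ := hK e'
  have he0 : e' = 0 := hz.symm.trans (hkap z)
  have h10 : (1 : Γ(π.fiber y, V')) = 0 := by
    apply (he' V' le_rfl).1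
    simp only []
    rw [Groth.Agent.Lib.Helper23.SecTw.res_self, he0, smul_zero, smul_zero]
  have h10' : (1 : Γ(Spec (Y.residueField y), ⊤)) = 0 := by
    apply hβ.1
    rw [map_one, map_zero]
    exact h10
  exact one_ne_zero h10'

end B

section C

open Groth.Agent.Lib.T2H5.BC0Main

variable {X Y : Scheme.{u}} (π : X ⟶ Y) [IsProper π] [LocallyOfFinitePresentation π] (L : X.Modules)

/-- **local triviality over the base**: if `y` is a good point for degree zero base change, `L` is trivial on the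
fibre `X_y` and `Γ(X_y, O) = κ(y)`, then `L` is trivial over the preimage of an open neighbourhood of `y`. -/
theorem exists_open_restrict_iso (hL : PicF.IsInvertible L) (y : Y) (hgood : y ∈ Good π L)
    (φ : CohIII.fiberMod π L y ≅ Coh.structureModule (π.fiber y))
    (hH : Function.Bijective (π.fiberToSpecResidueField y).appTop.hom) :
    ∃ V : Y.Opens, y ∈ V ∧
      Nonempty (L.restrict (π ⁻¹ᵁ V).ι ≅ Coh.structureModule (↑(π ⁻¹ᵁ V) : Scheme.{u})) := by
  obtain ⟨U, hU, hyU, -⟩ := exists_isAffineOpen_mem_and_subset (x := y) (U := ⊤) trivial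
  obtain ⟨a, ha⟩ := exists_section_isGenNear_fibre π L hL y hgood φ hH hU hyU
  let G : Set X := {x | IsGenNear L (π ⁻¹ᵁ U) a x}
  have hGo : IsOpen G := by
    rw [isOpen_iff_forall_mem_open]
    rintro x ⟨W, hW, hxW, hgen⟩
    exact ⟨W, fun x₁ hx₁ => ⟨W, hW, hx₁, hgen⟩, W.isOpen, hxW⟩
  have hfib : ∀ x : X, π x = y → x ∈ G := by
    intro x hx
    have h1 : x ∈ Set.range (π.fiberι y) := by
      rw [Scheme.Hom.range_fiberι]
      exact hx
    obtain ⟨x', rfl⟩ := h1
    exact ha x'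
  have hC : IsClosed (π '' Gᶜ) := π.isClosedMap _ hGo.isClosed_compl
  have hyC : y ∉ π '' Gᶜ := by
    rintro ⟨x, hxG, hx⟩
    exact hxG (hfib x hx)
  let V : Y.Opens := U ⊓ ⟨(π '' Gᶜ)ᶜ, hC.isOpen_compl⟩
  have hyV : y ∈ V := ⟨hyU, hyC⟩
  have hle : π ⁻¹ᵁ V ≤ π ⁻¹ᵁ U := fun x hx => hx.1
  have hG : ∀ x ∈ π ⁻¹ᵁ V, x ∈ G := by
    intro x hx
    by_contra hxG
    exact hx.2 ⟨x, hxG, rfl⟩
  refine ⟨V, hyV, ?_⟩
  have hgen : ∀ x ∈ π ⁻¹ᵁ V, IsGenNear L (π ⁻¹ᵁ V) (res L hle a) x := fun x hx =>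
    (IsGenNear.res_iff hL hle a x hx).2 (hG x hx)
  have htop : CohB1.genLocus (L.restrict (π ⁻¹ᵁ V).ι) (restrSecLocal L (π ⁻¹ᵁ V) (res L hle a)) = ⊤ := by
    apply le_antisymm le_top
    intro x' _
    exact (mem_genLocus_restrSecLocal_iff L (π ⁻¹ᵁ V) (res L hle a) x').2 (hgen x'.1 x'.2)
  haveI := Groth.Agent.Lib.T2H5.PicDescGeo.isIso_of_genLocus_eq_top _ _ htop
  exact ⟨(asIso (restrSecLocal L (π ⁻¹ᵁ V) (res L hle a))).symm⟩

end C

end Groth.Agent.Lib.T2H5.FibTriv
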