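import Mathlib
import Groth.Agent.Lib.T2H5FibTriv
import Groth.Agent.Lib.T2H1RestrictPush
import Groth.Agent.Lib.Helper23CounitEpi
import Groth.Agent.Lib.T2H3ConormalInter
import Groth.Agent.Lib.Helper23RestrTensor
import Groth.Agent.Lib.T2H9H0Unit
import Groth.Agent.Lib.T2H6FieldBC2
set_option backward.isDefEq.respectTransparency.types false

/-!
# Invertible modules trivial on the fibres of a proper flat morphism descend (helper5)

Namespace `Groth.Agent.Lib.T2H5.FibTriv`.

* `isGloballyGenerated_structureModule`.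
* `isInvertible_push_and_isIso_counit_of_local`: `π` proper flat of finite presentation with `Γ(X_y, O) = κ(y)` for all `y`,
  `L` invertible and trivial over the preimages of a cover of the base: `π_* L` is invertible and `π^*π_* L → L` is an
  isomorphism.
-/

set_option autoImplicit false
set_option linter.style.haveILetI false
set_option linter.unusedSectionVars false
set_option linter.unusedVariables false
universe u
open CategoryTheory CategoryTheory.Limits AlgebraicGeometry Opposite TopologicalSpace

namespace Groth.Agent.Lib.T2H5.FibTriv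

section D

theorem isGloballyGenerated_structureModule (X : Scheme.{u}) :
    Curv2.IsGloballyGenerated (Coh.structureModule X) := by
  let p : (SheafOfModules.free PUnit.{u + 1} : X.Modules) ⟶ Coh.structureModule X :=
    Sigma.desc (fun _ => 𝟙 _)
  have hp : Sigma.ι (fun _ : PUnit.{u + 1} => SheafOfModules.unit X.ringCatSheaf) PUnit.unit ≫ p = 𝟙 _ :=
    Sigma.ι_desc _ _
  haveI : IsSplitEpi p := IsSplitEpi.mk' ⟨_, hp⟩
  exact ⟨PUnit, p, inferInstance⟩

variable {X Y : Scheme.{u}} (π : X ⟶ Y) [IsProper π] [Flat π] [LocallyOfFinitePresentation π] (L : X.Modules)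

/-- if `Γ(X_y, O) = κ(y)` for all `y` and the invertible module `L` is trivial over the preimages of a cover of the base,
then `π_* L` is invertible and `π^*π_* L → L` is an isomorphism. -/
theorem isInvertible_push_and_isIso_counit_of_local (hL : PicF.IsInvertible L)
    (hH : ∀ s : Y, Function.Bijective (π.fiberToSpecResidueField s).appTop.hom)
    (hloc : ∀ y : Y, ∃ V : Y.Opens, y ∈ V ∧
      Nonempty (L.restrict (π ⁻¹ᵁ V).ι ≅ Coh.structureModule (↑(π ⁻¹ᵁ V) : Scheme.{u}))) :
    PicF.IsInvertible ((Scheme.Modules.pushforward π).obj L) ∧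
      IsIso ((Scheme.Modules.pullbackPushforwardAdjunction π).counit.app L) := by
  have hinv : PicF.IsInvertible ((Scheme.Modules.pushforward π).obj L) := by
    intro y
    obtain ⟨V, hyV, ⟨e⟩⟩ := hloc y
    refine ⟨V, hyV, ?_⟩
    haveI : IsIso (ClSub.unitToPush (π ∣_ V)) :=
      Groth.Agent.Lib.T2H5.UnitPush.isIso_unitToPush_baseChange π hH V.ι (π ⁻¹ᵁ V).ι (π ∣_ V)
        (isPullback_morphismRestrict π V).flip
    exact ⟨(Groth.Agent.Lib.T2H1.RestrictPush.pushRestrictIso π V).app L ≪≫
      (Scheme.Modules.pushforward (π ∣_ V)).mapIso e ≪≫ (asIso (ClSub.unitToPush (π ∣_ V))).symm⟩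
  refine ⟨hinv, ?_⟩
  haveI : Epi ((Scheme.Modules.pullbackPushforwardAdjunction π).counit.app L) := by
    apply Groth.Agent.Lib.Helper23.CounitEpi.epi_counit_of_isGloballyGenerated
    intro x
    obtain ⟨V, hyV, ⟨e⟩⟩ := hloc (π x)
    exact ⟨V, hyV, Groth.Agent.Lib.Helper23.RestrTensor.isGloballyGenerated_of_iso e.symm
      (isGloballyGenerated_structureModule _)⟩
  have h1 := Groth.Agent.Lib.Helper23.SecTw.isFinLocFreeOfRank_one_of_isInvertible _
    (Groth.Agent.Lib.Helper23.PB.isInvertible_pullback π _ hinv)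
  have h2 := Groth.Agent.Lib.Helper23.SecTw.isFinLocFreeOfRank_one_of_isInvertible L hL
  exact Groth.Agent.Lib.T2H3.ConormalInter.isIso_of_epi_of_rank 1 h1 h2 _

end D

section E

variable {X Y : Scheme.{u}} (π : X ⟶ Y) (L : X.Modules)

/-- `h^0(X_y, L_y) = 1` if `L_y` is trivial and `Γ(X_y, O) = κ(y)` -/
theorem fiberRank_zero_eq_one (y : Y)
    (φ : CohIII.fiberMod π L y ≅ Coh.structureModule (π.fiber y))
    (hH : Function.Bijective (π.fiberToSpecResidueField y).appTop.hom) :
    CohIII.fiberRank π L 0 y = 1 := by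
  letI inst : (π.fiber y).Over (Spec (CommRingCat.of (Y.residueField y))) :=
    ⟨π.fiberToSpecResidueField y⟩
  have hiso : Function.Bijective (Scheme.ΓSpecIso (CommRingCat.of (Y.residueField y))).inv.hom :=
    ConcreteCategory.bijective_of_isIso (Scheme.ΓSpecIso (CommRingCat.of (Y.residueField y))).inv
  have hbij : Function.Bijective
      (Coh.toGlobal ((π.fiber y) ↘ Spec (CommRingCat.of (Y.residueField y)))) := by
    have : (Coh.toGlobal ((π.fiber y) ↘ Spec (CommRingCat.of (Y.residueField y))) : _ → _) =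
        (π.fiberToSpecResidueField y).appTop.hom ∘
          (Scheme.ΓSpecIso (CommRingCat.of (Y.residueField y))).inv.hom := rfl
    rw [this]
    exact hH.comp hiso
  haveI : Nontrivial (Coh.Γtop (π.fiber y)) := hbij.1.nontrivial
  have h1 := Groth.Agent.Lib.T2H9.H0Unit.finrank_hh0_eq_one (Y.residueField y) (π.fiber y) hbij.2
  have h2 := Groth.Agent.Lib.T2H6.FieldBC.finrank_HH_eq_of_iso (Y.residueField y) (π.fiber y) φ 0
  exact h2.trans h1

end E

end Groth.Agent.Lib.T2H5.FibTriv
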