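import Mathlib
import Groth.Agent.Lib.T2H5FibTrivB
import Groth.Agent.Lib.T2H5FPExtend
import Groth.Agent.Lib.Helper2FinPushFP
import Groth.Agent.Lib.T2H9InvFlat
set_option backward.isDefEq.respectTransparency.types false

/-!
# Invertible modules trivial on the fibres of a proper flat morphism descend: main theorem (helper5)

Namespace `Groth.Agent.Lib.T2H5.FibTriv`.

* `isFP_of_isInvertible`: invertible modules are of finite presentation.
* `main`: `π` proper flat of finite presentation over a reduced base with `Γ(X_y, O) = κ(y)` for all `y`, `L` invertible and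
  trivial on every fibre: `π_* L` is invertible and `π^*π_* L → L` is an isomorphism.
-/

set_option autoImplicit false
set_option linter.style.haveILetI false
set_option linter.unusedSectionVars false
set_option linter.unusedVariables false
universe u
open CategoryTheory CategoryTheory.Limits AlgebraicGeometry Opposite TopologicalSpace

namespace Groth.Agent.Lib.T2H5.FibTriv

section F

theorem isFP_of_isInvertible {X : Scheme.{u}} (L : X.Modules) (hL : PicF.IsInvertible L) : CohB1.IsFP L := by
  haveI : L.IsQuasicoherent := Groth.Agent.Lib.Helper23.SecTw.isQuasicoherent_of_isInvertible L hL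
  let ι : Type u := {W : X.Opens // IsAffineOpen W ∧ Module.FinitePresentation Γ(X, W) Γ(L, W)}
  refine Groth.Agent.Lib.Helper2.FinPushFP.isFinitePresentation_of_finitePresentation_sections
    L (fun i : ι => i.1) ?_ (fun i => i.2.1) (fun i => i.2.2)
  rw [IsOpenCover, eq_top_iff]
  intro x _
  obtain ⟨U, hxU, ⟨e⟩⟩ := hL x
  haveI : (Coh.structureModule (↑U : Scheme.{u})).IsQuasicoherent :=
    Groth.Agent.Lib.Helper23.Serre.isQuasicoherent_structureModule' _
  haveI : SheafOfModules.IsFinitePresentation (R := (↑U : Scheme.{u}).ringCatSheaf)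
      (Coh.structureModule (↑U : Scheme.{u})) := Groth.Agent.Lib.T2H5.UnitPush.isFP_structureModule
  have hon : Groth.Agent.Lib.T2H5.FPExtend.FPOn L U.ι.opensRange :=
    Groth.Agent.Lib.T2H5.FPExtend.fpOn_of_iso_restrict U.ι L _ e
  obtain ⟨_, ⟨W, hW, rfl⟩, hxW, hWU⟩ :=
    X.isBasis_affineOpens.exists_subset_of_mem_open hxU U.isOpen
  have hWU' : W ≤ U.ι.opensRange := by
    rw [Scheme.Opens.opensRange_ι]
    exact hWU
  exact Opens.mem_iSup.2 ⟨⟨W, hW, hon W hW hWU'⟩, hxW⟩

variable {X Y : Scheme.{u}} (π : X ⟶ Y) [IsProper π] [Flat π] [LocallyOfFinitePresentation π] (L : X.Modules)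

open Groth.Agent.Lib.T2H5.BC0Main Groth.Agent.Lib.T2H5.GBCLoc in
/-- **an invertible module trivial on the fibres comes from the base**: `π` proper flat of finite presentation over a
reduced base with `Γ(X_y, O) = κ(y)` for all `y`, `L` invertible and trivial on every fibre: `π_* L` is invertible and
`π^*π_* L → L` is an isomorphism. -/
theorem main [IsReduced Y] (hL : PicF.IsInvertible L)
    (hH : ∀ s : Y, Function.Bijective (π.fiberToSpecResidueField s).appTop.hom)
    (htriv : ∀ y : Y, Nonempty (CohIII.fiberMod π L y ≅ Coh.structureModule (π.fiber y))) :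
    PicF.IsInvertible ((Scheme.Modules.pushforward π).obj L) ∧
      IsIso ((Scheme.Modules.pullbackPushforwardAdjunction π).counit.app L) := by
  have hfp : CohB1.IsFP L := isFP_of_isInvertible L hL
  have hfl : FlatMod.IsFlatOver π L := Groth.Agent.Lib.T2H9.InvFlat.isFlatOver_of_isInvertible π L hL
  haveI := Groth.Agent.Lib.T2H5.RpushClosed.hasInjectiveResolutions_modules X
  have hlc : IsLocallyConstant (CohIII.fiberRank π L 0) := by
    have : CohIII.fiberRank π L 0 = fun _ => 1 := by
      funext y
      obtain ⟨φ⟩ := htriv y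
      exact fiberRank_zero_eq_one π L y φ (hH y)
    rw [this]
    exact IsLocallyConstant.const 1
  refine isInvertible_push_and_isIso_counit_of_local π L hL hH (fun y => ?_)
  obtain ⟨φ⟩ := htriv y
  obtain ⟨V, hV, D, -, h2⟩ := exists_good_of_reduced π L hfp hfl 0 hlc y
  have c : (-((0 : ℕ) : ℤ) - 1) = -1 := by norm_num
  rw [c] at h2
  exact exists_open_restrict_iso π L hL y ⟨V, hV, D, h2⟩ φ (hH y)

end F

end Groth.Agent.Lib.T2H5.FibTriv
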