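import Mathlib
import Groth.Agent.Lib.T2H5FibTrivC
set_option backward.isDefEq.respectTransparency.types false

/-!
# Invertible modules trivial on the fibres of a proper flat morphism: the equivalence (helper5)

Namespace `Groth.Agent.Lib.T2H5.FibTriv`.

* `nonempty_iso_structureModule_of_unique`: invertible modules on a one point scheme are trivial.
* `nonempty_fiberMod_iso_of_pullback`: a module pulled back from an invertible module on the base is trivial on the fibres.
* `descent_iff`: `L ≅ π^* M` for an invertible `M` iff `L` is trivial on all fibres.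
-/

set_option autoImplicit false
set_option linter.style.haveILetI false
set_option linter.unusedSectionVars false
set_option linter.unusedVariables false
universe u
open CategoryTheory CategoryTheory.Limits AlgebraicGeometry Opposite TopologicalSpace

namespace Groth.Agent.Lib.T2H5.FibTriv

open Groth.Agent.Lib.Helper6 Groth.Agent.Lib.Helper23.SecTw Groth.Agent.Lib.Helper23.GenLocus
  Groth.Agent.Lib.Helper23.PB Groth.Agent.Helper13PullbackUnit Groth.Agent.Lib.Helper23.Extend

section G

/-- invertible modules on a one point scheme are trivial -/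
theorem nonempty_iso_structureModule_of_unique {S : Scheme.{u}} [Unique S] (M : S.Modules)
    (hM : PicF.IsInvertible M) : Nonempty (M ≅ Coh.structureModule S) := by
  obtain ⟨W, e, hW, he⟩ := exists_gen M hM default
  have hWtop : W = ⊤ := by
    apply le_antisymm le_top
    intro x _
    rw [Unique.eq_default x]
    exact hW
  subst hWtop
  have h1 : IsGen M ⊤ (sv (secHom M e) ⊤) := by
    rw [sv_secHom, Groth.Agent.Lib.Helper23.SecTw.res_self]
    exact he
  have htop : CohB1.genLocus M (secHom M e) = ⊤ :=
    le_antisymm le_top (le_genLocus_of_isGen M _ ⊤ h1)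
  haveI := Groth.Agent.Lib.T2H5.PicDescGeo.isIso_of_genLocus_eq_top M _ htop
  exact ⟨(asIso (secHom M e)).symm⟩

variable {X Y : Scheme.{u}} (π : X ⟶ Y) (L : X.Modules)

/-- a module pulled back from an invertible module on the base is trivial on the fibres -/
theorem nonempty_fiberMod_iso_of_pullback (M : Y.Modules) (hM : PicF.IsInvertible M)
    (ψ : (Scheme.Modules.pullback π).obj M ≅ L) (y : Y) :
    Nonempty (CohIII.fiberMod π L y ≅ Coh.structureModule (π.fiber y)) := by
  obtain ⟨τ⟩ := nonempty_iso_structureModule_of_unique
    ((Scheme.Modules.pullback (Y.fromSpecResidueField y)).obj M)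
    (isInvertible_pullback (Y.fromSpecResidueField y) M hM)
  have hw : π.fiberι y ≫ π = π.fiberToSpecResidueField y ≫ Y.fromSpecResidueField y :=
    pullback.condition
  exact ⟨(Scheme.Modules.pullback (π.fiberι y)).mapIso ψ.symm ≪≫
    (Scheme.Modules.pullbackComp (π.fiberι y) π).app M ≪≫
    (Scheme.Modules.pullbackCongr hw).app M ≪≫
    ((Scheme.Modules.pullbackComp (π.fiberToSpecResidueField y) (Y.fromSpecResidueField y)).app M).symm ≪≫
    (Scheme.Modules.pullback (π.fiberToSpecResidueField y)).mapIso τ ≪≫
    pullbackUnitIso (π.fiberToSpecResidueField y)⟩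

variable [IsProper π] [Flat π] [LocallyOfFinitePresentation π]

/-- **descent of invertible modules along a proper flat morphism with `Γ(X_y, O) = κ(y)`, reduced base**:
`L ≅ π^* M` with `M` invertible iff `L` is trivial on all fibres; then `π_* L` is invertible and `π^*π_* L ≅ L`. -/
theorem descent_iff [IsReduced Y] (hL : PicF.IsInvertible L)
    (hH : ∀ s : Y, Function.Bijective (π.fiberToSpecResidueField s).appTop.hom) :
    ((∃ M : Y.Modules, PicF.IsInvertible M ∧ Nonempty ((Scheme.Modules.pullback π).obj M ≅ L)) ↔
        ∀ y : Y, Nonempty (CohIII.fiberMod π L y ≅ Coh.structureModule (π.fiber y))) ∧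
      ((∀ y : Y, Nonempty (CohIII.fiberMod π L y ≅ Coh.structureModule (π.fiber y))) →
        PicF.IsInvertible ((Scheme.Modules.pushforward π).obj L) ∧
          IsIso ((Scheme.Modules.pullbackPushforwardAdjunction π).counit.app L)) := by
  refine ⟨⟨?_, fun h => ?_⟩, fun h => main π L hL hH h⟩
  · rintro ⟨M, hM, ⟨ψ⟩⟩ y
    exact nonempty_fiberMod_iso_of_pullback π L M hM ψ y
  · obtain ⟨h1, h2⟩ := main π L hL hH h
    exact ⟨_, h1, ⟨asIso ((Scheme.Modules.pullbackPushforwardAdjunction π).counit.app L)⟩⟩

end G

end Groth.Agent.Lib.T2H5.FibTriv
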