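import Mathlib
import Groth.Agent.Lib.T2H5FibTrivD
import Groth.Agent.Lib.T2H5LocSemi
import Groth.Agent.Lib.T2H5T2Main
import Groth.Agent.Lib.T2H5GenIsoF
set_option backward.isDefEq.respectTransparency.types false

/-!
# Families with integral fibres over a base of finite type over an algebraically closed field (helper5)

Namespace `Groth.Agent.Lib.T2H5.FibTriv`.

* `bijective_appTop_of_isClosed`: `Γ(X_s, O) = κ(s)` at closed points `s` with integral fibre.
* `bijective_appTop_of_integral_fibres`: `Γ(X_s, O) = κ(s)` at all points for proper flat families with integral fibres.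
-/

set_option autoImplicit false
set_option linter.style.haveILetI false
set_option linter.unusedSectionVars false
set_option linter.unusedVariables false
universe u
open CategoryTheory CategoryTheory.Limits AlgebraicGeometry Opposite TopologicalSpace

namespace Groth.Agent.Lib.T2H5.FibTriv

open Groth.Agent.Lib.Helper23.PB

section H

variable (k : Type u) [Field k] [IsAlgClosed k] {X Y : Scheme.{u}} (g : Y ⟶ Spec (CommRingCat.of k))
  [LocallyOfFiniteType g] (f : X ⟶ Y)

include g in
theorem bijective_appTop_of_isClosed [UniversallyClosed f] (s : Y) (hs : IsClosed {s})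
    (hint : IsIntegral (f.fiber s)) :
    Function.Bijective (f.fiberToSpecResidueField s).appTop.hom := by
  let e : Y.residueField s ≅ CommRingCat.of k := residueFieldIsoBase g s hs
  haveI : IsAlgClosed (Y.residueField s) :=
    IsAlgClosed.of_ringEquiv (k := k) (Y.residueField s) e.symm.commRingCatIsoToRingEquiv
  haveI : UniversallyClosed (f.fiberToSpecResidueField s) :=
    (inferInstance : UniversallyClosed (pullback.snd f (Y.fromSpecResidueField s)))
  have hiso : Function.Bijective (Scheme.ΓSpecIso (Y.residueField s)).inv.hom :=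
    ConcreteCategory.bijective_of_isIso (Scheme.ΓSpecIso (Y.residueField s)).inv
  have hiso' : Function.Bijective (Scheme.ΓSpecIso (Y.residueField s)).hom.hom :=
    ConcreteCategory.bijective_of_isIso (Scheme.ΓSpecIso (Y.residueField s)).hom
  let F : Y.residueField s →+* Γ(f.fiber s, ⊤) :=
    (f.fiberToSpecResidueField s).appTop.hom.comp (Scheme.ΓSpecIso (Y.residueField s)).inv.hom
  have hintg : F.IsIntegral :=
    RingHom.IsIntegral.trans _ _ (RingHom.isIntegral_of_surjective _ hiso.2)
      (isIntegral_appTop_of_universallyClosed (f.fiberToSpecResidueField s))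
  algebraize [F]
  haveI : Algebra.IsIntegral (Y.residueField s) Γ(f.fiber s, ⊤) := ⟨hintg⟩
  have hbij : Function.Bijective F :=
    IsAlgClosed.algebraMap_bijective_of_isIntegral (k := Y.residueField s) (K := Γ(f.fiber s, ⊤))
  have : ((f.fiberToSpecResidueField s).appTop.hom : _ → _) =
      F ∘ (Scheme.ΓSpecIso (Y.residueField s)).hom.hom := by
    funext x
    show _ = (f.fiberToSpecResidueField s).appTop.hom ((Scheme.ΓSpecIso (Y.residueField s)).inv.hom
      ((Scheme.ΓSpecIso (Y.residueField s)).hom.hom x))
    congr 1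
    exact (congrArg (fun k => k.hom x) (Scheme.ΓSpecIso (Y.residueField s)).hom_inv_id).symm
  rw [this]
  exact hbij.comp hiso'

/-- `H^0(X, O_X) ≃ Γ(X, O_X)` linearly over the base field -/
noncomputable def hh0LinearEquiv (K : Type u) [Field K] (Z : Scheme.{u}) [Z.Over (Spec (CommRingCat.of K))] :
    letI : Algebra K Γ(Z, ⊤) := (Coh.toGlobal (Z ↘ Spec (CommRingCat.of K))).toAlgebra
    Coh.HH Z (Coh.structureModule Z) 0 ≃ₗ[K] Γ(Z, ⊤) :=
  letI : Algebra K Γ(Z, ⊤) := (Coh.toGlobal (Z ↘ Spec (CommRingCat.of K))).toAlgebra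
  { Groth.Agent.Lib.T2H9.H0Unit.hh0Unit Z with
    map_smul' := fun c x =>
      Groth.Agent.Lib.T2H9.H0Unit.hh0Unit_smul Z (Coh.toGlobal (Z ↘ Spec (CommRingCat.of K)) c) x }

include g in
theorem bijective_appTop_of_integral_fibres [IsProper f] [Flat f] [LocallyOfFinitePresentation f]
    (hint : ∀ y : Y, IsIntegral (f.fiber y)) (s : Y) :
    Function.Bijective (f.fiberToSpecResidueField s).appTop.hom := by
  have hfp : CohB1.IsFP (Coh.structureModule X) := Groth.Agent.Lib.T2H5.UnitPush.isFP_structureModule
  have hfl : FlatMod.IsFlatOver f (Coh.structureModule X) :=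
    Groth.Agent.Lib.T2H5.UnitPush.isFlatOver_structureModule f
  haveI : (Coh.structureModule X).IsQuasicoherent :=
    Groth.Agent.Helper18Strict.isQCoh_of_isFP _ hfp
  have hopen : IsOpen {y : Y | CohIII.fiberRank f (Coh.structureModule X) 0 y < 2} :=
    Groth.Agent.Lib.T2H5.LocSemi.isOpen_fiberRank_lt f _ hfp hfl 0 2
  haveI : JacobsonSpace Y := LocallyOfFiniteType.jacobsonSpace g
  have hcl : ∀ y : Y, IsClosed {y} → CohIII.fiberRank f (Coh.structureModule X) 0 y < 2 := by
    intro y hy
    rw [fiberRank_zero_eq_one f (Coh.structureModule X) y (pullbackUnitIso (f.fiberι y))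
      (bijective_appTop_of_isClosed k g f y hy (hint y))]
    norm_num
  have hall : ∀ y : Y, CohIII.fiberRank f (Coh.structureModule X) 0 y < 2 := by
    intro y
    by_contra hy
    have h1 := JacobsonSpace.closure_inter_closedPoints (X := Y) hopen.isClosed_compl
    have h2 : {y : Y | CohIII.fiberRank f (Coh.structureModule X) 0 y < 2}ᶜ ∩ closedPoints Y = ∅ := by
      ext z
      simp only [Set.mem_inter_iff, Set.mem_compl_iff, Set.mem_ofPred_eq, Set.mem_empty_iff_false, iff_false,
        not_and]
      intro hz hzc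
      exact hz (hcl z hzc)
    rw [h2, closure_empty] at h1
    have : y ∈ (∅ : Set Y) := by
      rw [h1]
      exact hy
    exact this
  -- conversion to global sections of the fibre
  letI inst : (f.fiber s).Over (Spec (CommRingCat.of (Y.residueField s))) :=
    ⟨f.fiberToSpecResidueField s⟩
  haveI : IsProper ((f.fiber s) ↘ Spec (CommRingCat.of (Y.residueField s))) :=
    (inferInstance : IsProper (pullback.snd f (Y.fromSpecResidueField s)))
  have hfin : Module.Finite (Y.residueField s) (Coh.HH (f.fiber s) (Coh.structureModule (f.fiber s)) 0) :=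
    Groth.Agent.Lib.T2H5.T2Main.finite_HH_of_isProper (Y.residueField s) (f.fiber s) _
      Groth.Agent.Lib.T2H5.GenIsoF.isCoh_structureModule 0
  have h2 := Groth.Agent.Lib.T2H6.FieldBC.finrank_HH_eq_of_iso (Y.residueField s) (f.fiber s)
    (pullbackUnitIso (f.fiberι s)) 0
  have h3 : Module.finrank (Y.residueField s) (Coh.HH (f.fiber s) (Coh.structureModule (f.fiber s)) 0) < 2 := by
    rw [← h2]
    exact hall s
  haveI := hint s
  haveI : Nontrivial (Coh.Γtop (f.fiber s)) := inferInstanceAs (Nontrivial Γ(f.fiber s, ⊤))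
  haveI : Nontrivial (Coh.HH (f.fiber s) (Coh.structureModule (f.fiber s)) 0) :=
    (Groth.Agent.Lib.T2H9.H0Unit.hh0Unit (f.fiber s)).symm.injective.nontrivial
  have h4 : 0 < Module.finrank (Y.residueField s) (Coh.HH (f.fiber s) (Coh.structureModule (f.fiber s)) 0) :=
    Module.finrank_pos
  have h5 : Module.finrank (Y.residueField s) Γ(f.fiber s, ⊤) = 1 := by
    have h6 : Module.finrank (Y.residueField s) (Coh.HH (f.fiber s) (Coh.structureModule (f.fiber s)) 0) =
        Module.finrank (Y.residueField s) Γ(f.fiber s, ⊤) :=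
      LinearEquiv.finrank_eq (hh0LinearEquiv (Y.residueField s) (f.fiber s))
    omega
  exact (Groth.Agent.Lib.T2H5.UnitPush.bijective_appTop_iff_finrank_eq_one f s).2 h5

end H

end Groth.Agent.Lib.T2H5.FibTriv
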