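import Mathlib
import Groth.Agent.Lib.T2H5FibTrivE
import Groth.Agent.Lib.T2H3DualFrame
import Groth.Agent.Lib.Helper23SecTw10
import Groth.Agent.Lib.Helper23LocGen
import Groth.Agent.Lib.Helper23TensorUnit
set_option backward.isDefEq.respectTransparency.types false

/-!
# Invertible modules isomorphic on the fibres differ by a twist from the base (helper5)

Namespace `Groth.Agent.Lib.T2H5.FibTriv`.

* `nonempty_tensorMod_dual_iso`: `M ⊗ M^∨ ≅ O` for invertible `M`.
* `exists_twist_of_fibrewise_iso`: `π` proper flat of finite presentation over a reduced base with `Γ(X_y, O) = κ(y)`,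
  `L`, `M` invertible and isomorphic on every fibre: `L ≅ M ⊗ π^* E` for an invertible `E` on the base.
-/

set_option autoImplicit false
set_option linter.style.haveILetI false
set_option linter.unusedSectionVars false
set_option linter.unusedVariables false
universe u
open CategoryTheory CategoryTheory.Limits AlgebraicGeometry Opposite TopologicalSpace

namespace Groth.Agent.Lib.T2H5.FibTriv

open Groth.Agent.Lib.Helper6 Groth.Agent.Lib.Helper23.SecTw Groth.Agent.Lib.Helper23.GenLocus
  Groth.Agent.Lib.Helper23.PB Groth.Agent.Helper13PullbackUnit Groth.Agent.Lib.Helper23.Extend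
  Groth.Agent.Lib.T2H3.DualFrame Groth.Agent.Lib.Helper23.AmpleIso

section I

variable {X : Scheme.{u}}

/-- `M ⊗ M^∨ ≅ O` for an invertible module `M` -/
theorem nonempty_tensorMod_dual_iso (M : X.Modules) (hM : PicF.IsInvertible M) :
    Nonempty (CohB1.tensorMod M (RefHull.dual M) ≅ Coh.structureModule X) := by
  obtain ⟨Φ, -⟩ := exists_iso_of_frames (CohB1.tensorMod M (RefHull.dual M)) (Coh.structureModule X)
    (fun p : Fr M => p.1.1)
    (fun x => by
      obtain ⟨W, e, hxW, he⟩ := exists_gen M hM x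
      exact ⟨⟨⟨W, e⟩, he⟩, hxW⟩)
    (fun p => tm M (RefHull.dual M) _ p.1.2 (dualFrame p.2))
    (fun p => toS p.1.1 1)
    (fun p => isGen_tm _ _ _ _ _ p.2 (isGen_dualFrame p.2))
    (fun p => isGen_one p.1.1)
    (fun p q => by
      obtain ⟨γ, hγ⟩ := exists_transition' p.1.2 q.2
      have hd := res_dualFrame_eq_smul q.2 p.2 inf_le_right inf_le_left γ hγ
      refine cocycle_of_transition (isGen_tm _ _ _ _ _ q.2 (isGen_dualFrame q.2)) 1 ?_ ?_
      · rw [res_tm, res_tm, one_smul, hγ, hd, tm_smul_left, tm_smul_right]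
      · rw [one_smul]
        have h1 : ∀ {W W' : X.Opens} (hW' : W' ≤ W),
            res (Coh.structureModule X) hW' (toS W 1) = toS W' 1 := fun hW' =>
          (map_toS (homOfLE hW') 1).trans (by rw [map_one])
        rw [h1, h1])
  exact ⟨Φ⟩

end I

section J

variable {X Y : Scheme.{u}} (π : X ⟶ Y) [IsProper π] [Flat π] [LocallyOfFinitePresentation π]

/-- two invertible modules isomorphic on every fibre differ by the pullback of an invertible module on the base -/
theorem exists_twist_of_fibrewise_iso [IsReduced Y]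
    (hH : ∀ s : Y, Function.Bijective (π.fiberToSpecResidueField s).appTop.hom)
    (L M : X.Modules) (hL : PicF.IsInvertible L) (hM : PicF.IsInvertible M)
    (hLM : ∀ y : Y, Nonempty ((Scheme.Modules.pullback (π.fiberι y)).obj L ≅
      (Scheme.Modules.pullback (π.fiberι y)).obj M)) :
    ∃ E : Y.Modules, PicF.IsInvertible E ∧
      Nonempty (L ≅ CohB1.tensorMod M ((Scheme.Modules.pullback π).obj E)) := by
  have hD : PicF.IsInvertible (RefHull.dual M) := isInvertible_dual M hM
  obtain ⟨ε⟩ := nonempty_tensorMod_dual_iso M hM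
  have hN : PicF.IsInvertible (CohB1.tensorMod L (RefHull.dual M)) := isInvertible_tensorMod hL hD
  have htriv : ∀ y : Y, Nonempty (CohIII.fiberMod π (CohB1.tensorMod L (RefHull.dual M)) y ≅
      Coh.structureModule (π.fiber y)) := by
    intro y
    obtain ⟨a⟩ := nonempty_pullback_tensorMod_iso (π.fiberι y) L (RefHull.dual M) hL hD
    obtain ⟨b⟩ := nonempty_pullback_tensorMod_iso (π.fiberι y) M (RefHull.dual M) hM hD
    obtain ⟨c⟩ := hLM y
    exact ⟨a ≪≫ tensorModIso c (Iso.refl _) ≪≫ b.symm ≪≫
      (Scheme.Modules.pullback (π.fiberι y)).mapIso ε ≪≫ pullbackUnitIso (π.fiberι y)⟩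
  obtain ⟨hE, hiso⟩ := main π _ hN hH htriv
  refine ⟨_, hE, ?_⟩
  let κ := asIso ((Scheme.Modules.pullbackPushforwardAdjunction π).counit.app
    (CohB1.tensorMod L (RefHull.dual M)))
  obtain ⟨σ⟩ := nonempty_tensorMod_comm_iso L (RefHull.dual M) hL hD
  exact ⟨(tensorModIso (Iso.refl M) (κ ≪≫ σ) ≪≫
    (Groth.Agent.Lib.Helper23.LocGen.tensorAssoc M (RefHull.dual M) L).symm ≪≫
    tensorModIso ε (Iso.refl L) ≪≫ Groth.Agent.Lib.Helper23.TensorUnit.unitTensorIso L).symm⟩

end J

end Groth.Agent.Lib.T2H5.FibTriv
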