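import Mathlib

set_option autoImplicit false
set_option linter.unusedSectionVars false
set_option linter.unusedVariables false
set_option linter.style.haveILetI false

universe u

namespace Groth.Agent.Lib.T2H7.Collapse

open CategoryTheory CategoryTheory.Limits AlgebraicGeometry

/-- A surjective morphism that is injective on sections over every open is an epimorphism. -/
theorem epi_of_surjective_of_injective {P Q : Scheme.{u}} (g : P ⟶ Q) [Surjective g]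
    (hinj : ∀ V : Q.Opens, Function.Injective (g.app V).hom) : Epi g := by
  refine ⟨fun {W} a b hab => ?_⟩
  have hpt : ∀ q : Q, a.base q = b.base q := by
    intro q
    obtain ⟨p, rfl⟩ := g.surjective q
    have := congrArg (fun h : P ⟶ W => h.base p) hab
    simpa using this
  refine Scheme.hom_ext_of_forall _ _ fun q => ?_
  obtain ⟨_, ⟨W₀, hW₀, rfl⟩, hqW₀, -⟩ :=
    W.isBasis_affineOpens.exists_subset_of_mem_open (Set.mem_univ (a.base q)) isOpen_univ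
  let W₁ : W.Opens := W₀
  have hW₁ : IsAffineOpen W₁ := hW₀
  let U : Q.Opens := a ⁻¹ᵁ W₁ ⊓ b ⁻¹ᵁ W₁
  have hqU : q ∈ U := ⟨hqW₀, by show b.base q ∈ W₁; rw [← hpt q]; exact hqW₀⟩
  refine ⟨U, hqU, ?_⟩
  have ea : U ≤ a ⁻¹ᵁ W₁ := inf_le_left
  have eb : U ≤ b ⁻¹ᵁ W₁ := inf_le_right
  have hcongr : ∀ (h h' : P ⟶ W) (hh : h = h') (e : g ⁻¹ᵁ U ≤ h ⁻¹ᵁ W₁) (e' : g ⁻¹ᵁ U ≤ h' ⁻¹ᵁ W₁),
      h.appLE W₁ (g ⁻¹ᵁ U) e = h'.appLE W₁ (g ⁻¹ᵁ U) e' := by
    rintro h _ rfl e e'; rfl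
  have h3 : a.appLE W₁ U ea ≫ g.app U = b.appLE W₁ U eb ≫ g.app U := by
    rw [Scheme.Hom.app_eq_appLE, Scheme.Hom.appLE_comp_appLE, Scheme.Hom.appLE_comp_appLE]
    exact hcongr _ _ hab _ _
  have h4 : a.appLE W₁ U ea = b.appLE W₁ U eb := by
    ext x
    apply hinj U
    have := congrArg (fun h => h.hom x) h3
    simpa using this
  have key : a.resLE W₁ U ea = b.resLE W₁ U eb := by
    rw [← cancel_mono hW₁.isoSpec.hom, IsAffineOpen.isoSpec_hom,
      ← Scheme.Opens.toSpecΓ_SpecMap_appLE, ← Scheme.Opens.toSpecΓ_SpecMap_appLE, h4]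
  rw [← Scheme.Hom.resLE_comp_ι a ea, ← Scheme.Hom.resLE_comp_ι b eb, key]

section Main

variable {X Y S : Scheme.{u}} (ξ : X ⟶ S) (v : Y ⟶ S) (f : X ⟶ Y)

/-- The locus of points whose fibre is collapsed by `f`. -/
def locus : Set S := {s : ↥S | ∃ y : ↥Y, ∀ x : ↥X, ξ.base x = s → f.base x = y}

/-- A factorization over an open. -/
def Fac (U : S.Opens) (r : (U : Scheme.{u}) ⟶ Y) : Prop :=
  (ξ ⁻¹ᵁ U).ι ≫ f = (ξ ∣_ U) ≫ r

theorem surjective_of_bijective (hcl : IsClosedMap ξ.base)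
    (h0 : ∀ U : S.Opens, Function.Injective (ξ.app U).hom) : Surjective ξ := by
  refine ⟨fun s => ?_⟩
  by_contra hs
  let U : S.Opens := ⟨(Set.range ξ.base)ᶜ, (hcl.isClosed_range).isOpen_compl⟩
  have hsU : s ∈ U := hs
  have hbot : ξ ⁻¹ᵁ U = ⊥ := by
    ext x
    simp only [TopologicalSpace.Opens.coe_bot, Set.mem_empty_iff_false, iff_false]
    intro hx
    exact hx ⟨x, rfl⟩
  have hsub : Subsingleton Γ(X, ξ ⁻¹ᵁ U) := by rw [hbot]; infer_instance
  have hsub' : Subsingleton Γ(S, U) := (h0 U).subsingleton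
  have : Nonempty U := ⟨⟨s, hsU⟩⟩
  have hnt : Nontrivial Γ(S, U) := inferInstance
  exact not_subsingleton _ hsub'

theorem epi_restrict (hcl : IsClosedMap ξ.base)
    (h0 : ∀ U : S.Opens, Function.Injective (ξ.app U).hom) (U : S.Opens) : Epi (ξ ∣_ U) := by
  have hs : Surjective ξ := surjective_of_bijective ξ hcl h0
  have hs' : Surjective (ξ ∣_ U) := IsZariskiLocalAtTarget.restrict (P := @Surjective) hs U
  refine epi_of_surjective_of_injective _ fun V => ?_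
  rw [morphismRestrict_app]
  intro x y hxy
  apply h0 (U.ι ''ᵁ V)
  have hiso : Function.Injective
      (X.presheaf.map (eqToHom (image_morphismRestrict_preimage ξ U V)).op).hom :=
    ((ConcreteCategory.isIso_iff_bijective
        (X.presheaf.map (eqToHom (image_morphismRestrict_preimage ξ U V)).op)).mp
          inferInstance).1
  apply hiso
  exact hxy

theorem fac_restrict {U U' : S.Opens} (hle : U' ≤ U) {r : (U : Scheme.{u}) ⟶ Y}
    (h : Fac ξ f U r) : Fac ξ f U' (S.homOfLE hle ≫ r) := by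
  unfold Fac at h ⊢
  have hle' : ξ ⁻¹ᵁ U' ≤ ξ ⁻¹ᵁ U := fun x hx => hle hx
  have h1 : (ξ ⁻¹ᵁ U').ι = X.homOfLE hle' ≫ (ξ ⁻¹ᵁ U).ι := (X.homOfLE_ι hle').symm
  have h2 : X.homOfLE hle' ≫ (ξ ∣_ U) = (ξ ∣_ U') ≫ S.homOfLE hle := by
    rw [← cancel_mono U.ι, Category.assoc, Category.assoc, morphismRestrict_ι, S.homOfLE_ι,
      morphismRestrict_ι, X.homOfLE_ι_assoc]
  rw [h1, Category.assoc, h, reassoc_of% h2]

theorem fac_subset_locus {U : S.Opens} {r : (U : Scheme.{u}) ⟶ Y} (h : Fac ξ f U r) :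
    (U : Set S) ⊆ locus ξ f := by
  intro s hs
  refine ⟨r.base ⟨s, hs⟩, fun x hx => ?_⟩
  have hxU : x ∈ ξ ⁻¹ᵁ U := by show ξ.base x ∈ U; rw [hx]; exact hs
  have h1 := congrArg (fun k : ((ξ ⁻¹ᵁ U : X.Opens) : Scheme.{u}) ⟶ Y => k.base ⟨x, hxU⟩) h
  simp only [Scheme.Hom.comp_base, TopCat.hom_comp, ContinuousMap.comp_apply] at h1
  have h2 : (ξ ∣_ U).base ⟨x, hxU⟩ = ⟨s, hs⟩ := by
    apply Subtype.ext
    rw [morphismRestrict_base_coe]
    exact hx
  rw [h2] at h1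
  exact h1

theorem exists_local_fac (hcl : IsClosedMap ξ.base)
    (h0 : ∀ U : S.Opens, Function.Bijective (ξ.app U).hom) {s : S} (hs : s ∈ locus ξ f) :
    ∃ (U : S.Opens) (r : (U : Scheme.{u}) ⟶ Y), s ∈ U ∧ Fac ξ f U r := by
  obtain ⟨y, hy⟩ := hs
  obtain ⟨_, ⟨V₀, hV₀, rfl⟩, hyV₀, -⟩ :=
    Y.isBasis_affineOpens.exists_subset_of_mem_open (Set.mem_univ y) isOpen_univ
  let V : Y.Opens := V₀
  have hV : IsAffineOpen V := hV₀
  let C : Set S := ξ.base '' ((f ⁻¹ᵁ V : X.Opens) : Set X)ᶜ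
  have hC : IsClosed C := hcl _ (f ⁻¹ᵁ V).isOpen.isClosed_compl
  let U : S.Opens := ⟨Cᶜ, hC.isOpen_compl⟩
  have hsU : s ∈ U := by
    rintro ⟨x, hx, hxs⟩
    exact hx (show f.base x ∈ V by rw [hy x hxs]; exact hyV₀)
  have hle : ξ ⁻¹ᵁ U ≤ f ⁻¹ᵁ V := by
    intro x hx
    by_contra hxV
    exact hx ⟨x, hxV, rfl⟩
  have hiso : IsIso (ξ.app U) := (ConcreteCategory.isIso_iff_bijective _).mpr (h0 U)
  refine ⟨U, U.toSpecΓ ≫ Spec.map (inv (ξ.app U)) ≫ Spec.map (f.appLE V (ξ ⁻¹ᵁ U) hle) ≫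
    hV.fromSpec, hsU, ?_⟩
  unfold Fac
  rw [← Scheme.Opens.toSpecΓ_naturality_assoc, ← Spec.map_comp_assoc, IsIso.inv_hom_id,
    Spec.map_id, Category.id_comp, Scheme.Opens.toSpecΓ_SpecMap_appLE_assoc,
    IsAffineOpen.toSpecΓ_fromSpec, Scheme.Hom.resLE_comp_ι]

theorem fac_unique (hcl : IsClosedMap ξ.base)
    (h0 : ∀ U : S.Opens, Function.Injective (ξ.app U).hom) {U : S.Opens}
    {r r' : (U : Scheme.{u}) ⟶ Y} (h : Fac ξ f U r) (h' : Fac ξ f U r') : r = r' := by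
  have := epi_restrict ξ hcl h0 U
  rw [← cancel_epi (ξ ∣_ U)]
  exact h.symm.trans h'

theorem homOfLE_restrict {U U' : S.Opens} (hle : U' ≤ U) (hle' : ξ ⁻¹ᵁ U' ≤ ξ ⁻¹ᵁ U) :
    X.homOfLE hle' ≫ (ξ ∣_ U) = (ξ ∣_ U') ≫ S.homOfLE hle := by
  rw [← cancel_mono U.ι, Category.assoc, Category.assoc, morphismRestrict_ι, S.homOfLE_ι,
    morphismRestrict_ι, X.homOfLE_ι_assoc]

/-- hom extensionality along a jointly surjective family of open immersions -/
theorem hom_ext_of_cover {P Z : Scheme.{u}} {J : Type*} (C : J → Scheme.{u})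
    (c : ∀ i, C i ⟶ P) [∀ i, IsOpenImmersion (c i)]
    (hcov : ∀ x : P, ∃ i, x ∈ Set.range (c i).base) (a b : P ⟶ Z)
    (h : ∀ i, c i ≫ a = c i ≫ b) : a = b := by
  let 𝒰 : P.OpenCover := Scheme.Cover.mkOfCovers J C c
    (fun x => by
      obtain ⟨i, y, hy⟩ := hcov x
      exact ⟨i, y, hy⟩) (fun i => inferInstance)
  exact 𝒰.hom_ext _ _ h

/-- gluing along a jointly surjective family of open immersions (compatible after refinement) -/
theorem exists_glue_of_refinement {P Z : Scheme.{u}} {J : Type*} (C : J → Scheme.{u})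
    (c : ∀ i, C i ⟶ P) [∀ i, IsOpenImmersion (c i)]
    (hcov : ∀ x : P, ∃ i, x ∈ Set.range (c i).base)
    (m : ∀ i, C i ⟶ Z)
    (compat : ∀ (i j : J) (x : P), x ∈ Set.range (c i).base → x ∈ Set.range (c j).base →
      ∃ (k : J) (ti : C k ⟶ C i) (tj : C k ⟶ C j), x ∈ Set.range (c k).base ∧
        ti ≫ c i = c k ∧ tj ≫ c j = c k ∧ ti ≫ m i = m k ∧ tj ≫ m j = m k) :
    ∃ M : P ⟶ Z, ∀ i, c i ≫ M = m i := by
  have H : ∀ i j : J, pullback.fst (c i) (c j) ≫ m i = pullback.snd (c i) (c j) ≫ m j := by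
    intro i j
    refine Scheme.hom_ext_of_forall _ _ fun q => ?_
    have hqi : (pullback.fst (c i) (c j) ≫ c i).base q ∈ Set.range (c i).base :=
      ⟨(pullback.fst (c i) (c j)).base q, rfl⟩
    have hqj : (pullback.fst (c i) (c j) ≫ c i).base q ∈ Set.range (c j).base := by
      rw [pullback.condition]
      exact ⟨(pullback.snd (c i) (c j)).base q, rfl⟩
    obtain ⟨k, ti, tj, hk, hti, htj, hmi, hmj⟩ := compat i j _ hqi hqj
    let U : (pullback (c i) (c j)).Opens := (pullback.fst (c i) (c j) ≫ c i) ⁻¹ᵁ (c k).opensRange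
    have hrange : Set.range (U.ι ≫ pullback.fst (c i) (c j) ≫ c i).base ⊆ Set.range (c k).base := by
      rintro _ ⟨w, rfl⟩
      exact w.2
    let t : (U : Scheme.{u}) ⟶ C k := IsOpenImmersion.lift (c k) _ hrange
    have ht : t ≫ c k = U.ι ≫ pullback.fst (c i) (c j) ≫ c i := IsOpenImmersion.lift_fac _ _ _
    have h1 : U.ι ≫ pullback.fst (c i) (c j) = t ≫ ti := by
      rw [← cancel_mono (c i), Category.assoc, Category.assoc, hti, ht]
    have h2 : U.ι ≫ pullback.snd (c i) (c j) = t ≫ tj := by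
      rw [← cancel_mono (c j), Category.assoc, Category.assoc, htj, ht, pullback.condition]
    refine ⟨U, hk, ?_⟩
    rw [reassoc_of% h1, reassoc_of% h2, hmi, hmj]
  let 𝒰 : P.OpenCover := Scheme.Cover.mkOfCovers J C c
    (fun x => by
      obtain ⟨i, y, hy⟩ := hcov x
      exact ⟨i, y, hy⟩) (fun i => inferInstance)
  exact ⟨𝒰.glueMorphisms m H, fun i => 𝒰.ι_glueMorphisms m H i⟩

theorem isOpen_locus (hcl : IsClosedMap ξ.base)
    (h0 : ∀ U : S.Opens, Function.Bijective (ξ.app U).hom) : IsOpen (locus ξ f) := by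
  rw [isOpen_iff_forall_mem_open]
  intro s hs
  obtain ⟨U, r, hsU, hfac⟩ := exists_local_fac ξ f hcl h0 hs
  exact ⟨U, fac_subset_locus ξ f hfac, U.isOpen, hsU⟩

/-- The global factorization over the collapsed locus. -/
theorem exists_fac_locus (hcl : IsClosedMap ξ.base)
    (h0 : ∀ U : S.Opens, Function.Bijective (ξ.app U).hom) :
    ∃ M : ((⟨locus ξ f, isOpen_locus ξ f hcl h0⟩ : S.Opens) : Scheme.{u}) ⟶ Y,
      Fac ξ f ⟨locus ξ f, isOpen_locus ξ f hcl h0⟩ M := by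
  set Uo : S.Opens := ⟨locus ξ f, isOpen_locus ξ f hcl h0⟩ with hUo
  have h0i : ∀ U : S.Opens, Function.Injective (ξ.app U).hom := fun U => (h0 U).1
  let J := {p : Σ U : S.Opens, ((U : Scheme.{u}) ⟶ Y) // Fac ξ f p.1 p.2}
  have hJle : ∀ j : J, j.1.1 ≤ Uo := fun j => fac_subset_locus ξ f j.2
  have hJle' : ∀ j : J, ξ ⁻¹ᵁ j.1.1 ≤ ξ ⁻¹ᵁ Uo := fun j x hx => hJle j hx
  have hrange : ∀ (j : J) (x : Uo), x ∈ Set.range (S.homOfLE (hJle j)).base ↔ x.1 ∈ j.1.1 := by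
    intro j x
    constructor
    · rintro ⟨y, rfl⟩
      rw [Scheme.homOfLE_apply]
      exact y.2
    · intro hx
      exact ⟨⟨x.1, hx⟩, Scheme.homOfLE_apply' _ _ _⟩
  obtain ⟨M, hM⟩ := exists_glue_of_refinement (P := (Uo : Scheme.{u})) (Z := Y)
    (fun j : J => ((j.1.1 : S.Opens) : Scheme.{u}))
    (fun j => S.homOfLE (hJle j))
    (fun x => by
      obtain ⟨U, r, hsU, hfac⟩ := exists_local_fac ξ f hcl h0 x.2
      exact ⟨⟨⟨U, r⟩, hfac⟩, (hrange _ x).mpr hsU⟩)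
    (fun j => j.1.2)
    (fun i j x hxi hxj => by
      replace hxi := (hrange i x).mp hxi
      replace hxj := (hrange j x).mp hxj
      refine ⟨⟨⟨i.1.1 ⊓ j.1.1, S.homOfLE inf_le_left ≫ i.1.2⟩, fac_restrict ξ f inf_le_left i.2⟩,
        S.homOfLE inf_le_left, S.homOfLE inf_le_right, (hrange _ x).mpr ⟨hxi, hxj⟩,
        S.homOfLE_homOfLE _ _, S.homOfLE_homOfLE _ _, rfl, ?_⟩
      exact fac_unique ξ f hcl h0i (fac_restrict ξ f inf_le_right j.2)
        (fac_restrict ξ f inf_le_left i.2))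
  refine ⟨M, ?_⟩
  unfold Fac
  refine hom_ext_of_cover (fun j : J => ((ξ ⁻¹ᵁ j.1.1 : X.Opens) : Scheme.{u}))
    (fun j => X.homOfLE (hJle' j)) (fun x => ?_) _ _ (fun j => ?_)
  · obtain ⟨U, r, hsU, hfac⟩ := exists_local_fac ξ f hcl h0 (s := ξ.base x.1) x.2
    exact ⟨⟨⟨U, r⟩, hfac⟩, ⟨⟨x.1, hsU⟩, Scheme.homOfLE_apply' _ _ _⟩⟩
  · rw [X.homOfLE_ι_assoc, reassoc_of% (homOfLE_restrict ξ (hJle j) (hJle' j)), hM j]
    exact j.2

theorem main (hcl : IsClosedMap ξ.base)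
    (h0 : ∀ U : S.Opens, Function.Bijective (ξ.app U).hom) (hf : f ≫ v = ξ) :
    IsOpen (locus ξ f) ∧
    ∀ (T : Scheme.{u}) (τ : T ⟶ S),
      ((∃ r : T ⟶ Y, r ≫ v = τ ∧ pullback.fst ξ τ ≫ f = pullback.snd ξ τ ≫ r) ↔
        ∀ t : ↥T, τ.base t ∈ locus ξ f) := by
  refine ⟨isOpen_locus ξ f hcl h0, fun T τ => ⟨?_, ?_⟩⟩
  · rintro ⟨r, hr, hfac⟩ t
    refine ⟨r.base t, fun x hx => ?_⟩
    obtain ⟨z, hz1, hz2⟩ := Scheme.Pullback.exists_preimage_pullback (f := ξ) (g := τ) x t hx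
    have := congrArg (fun k : pullback ξ τ ⟶ Y => k.base z) hfac
    simp only [Scheme.Hom.comp_base, TopCat.hom_comp, ContinuousMap.comp_apply] at this
    rw [hz1, hz2] at this
    exact this
  · intro hT
    let Uo : S.Opens := ⟨locus ξ f, isOpen_locus ξ f hcl h0⟩
    obtain ⟨M, hM⟩ : ∃ M : (Uo : Scheme.{u}) ⟶ Y, Fac ξ f Uo M := exists_fac_locus ξ f hcl h0
    unfold Fac at hM
    have h0i : ∀ U : S.Opens, Function.Injective (ξ.app U).hom := fun U => (h0 U).1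
    have hepi := epi_restrict ξ hcl h0i Uo
    have hMv : M ≫ v = Uo.ι := by
      rw [← cancel_epi (ξ ∣_ Uo), ← Category.assoc, ← hM, Category.assoc, hf, morphismRestrict_ι]
    have hr1 : Set.range τ.base ⊆ Set.range Uo.ι.base := by
      rintro _ ⟨t, rfl⟩
      rw [Scheme.Opens.range_ι]
      exact hT t
    let τ' : T ⟶ (Uo : Scheme.{u}) := IsOpenImmersion.lift Uo.ι τ hr1
    have hτ' : τ' ≫ Uo.ι = τ := IsOpenImmersion.lift_fac _ _ _
    have hr2 : Set.range (pullback.fst ξ τ).base ⊆ Set.range (ξ ⁻¹ᵁ Uo).ι.base := by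
      rintro _ ⟨z, rfl⟩
      rw [Scheme.Opens.range_ι]
      show ξ.base ((pullback.fst ξ τ).base z) ∈ locus ξ f
      have := congrArg (fun k : pullback ξ τ ⟶ S => k.base z) (pullback.condition (f := ξ) (g := τ))
      simp only [Scheme.Hom.comp_base, TopCat.hom_comp, ContinuousMap.comp_apply] at this
      rw [this]
      exact hT _
    let k : pullback ξ τ ⟶ ((ξ ⁻¹ᵁ Uo : X.Opens) : Scheme.{u}) :=
      IsOpenImmersion.lift (ξ ⁻¹ᵁ Uo).ι (pullback.fst ξ τ) hr2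
    have hk : k ≫ (ξ ⁻¹ᵁ Uo).ι = pullback.fst ξ τ := IsOpenImmersion.lift_fac _ _ _
    have hk2 : k ≫ (ξ ∣_ Uo) = pullback.snd ξ τ ≫ τ' := by
      rw [← cancel_mono Uo.ι, Category.assoc, Category.assoc, morphismRestrict_ι, reassoc_of% hk,
        hτ', pullback.condition]
    refine ⟨τ' ≫ M, by rw [Category.assoc, hMv, hτ'], ?_⟩
    rw [← hk, Category.assoc, hM, reassoc_of% hk2]

end Main

end Groth.Agent.Lib.T2H7.Collapse
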