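import Mathlib

set_option autoImplicit false
set_option linter.unusedSectionVars false
set_option linter.unusedVariables false
set_option linter.style.haveILetI false

universe u

namespace Groth.Agent.Lib.T2H7.MumA

open CategoryTheory CategoryTheory.Limits AlgebraicGeometry TensorProduct

section Algebra

/-- Flatness and colon ideals: if `(I' : a) = J` and `B` is flat over `A`, then
`a b ∈ I' B` implies `b ∈ J B`. -/
theorem mem_map_of_mul_mem {A B : Type*} [CommRing A] [CommRing B] [Algebra A B]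
    [Module.Flat A B] (I' J : Ideal A) (a : A) (h1 : ∀ r ∈ J, r * a ∈ I')
    (h2 : ∀ r, r * a ∈ I' → r ∈ J) (b : B)
    (hb : algebraMap A B a * b ∈ I'.map (algebraMap A B)) : b ∈ J.map (algebraMap A B) := by
  let ψ₀ : A →ₗ[A] (A ⧸ I') := (Submodule.mkQ I') ∘ₗ (LinearMap.mulRight A a)
  have hψ₀ : J ≤ LinearMap.ker ψ₀ := by
    intro r hr
    rw [LinearMap.mem_ker]
    show Submodule.Quotient.mk (r * a) = (0 : A ⧸ I')
    exact (Submodule.Quotient.mk_eq_zero I').mpr (h1 r hr)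
  let ψ : (A ⧸ J) →ₗ[A] (A ⧸ I') := Submodule.liftQ J ψ₀ hψ₀
  have hψmk : ∀ r : A, ψ (Ideal.Quotient.mk J r) = Ideal.Quotient.mk I' (r * a) := fun r => rfl
  have hinj : Function.Injective ψ := by
    rw [injective_iff_map_eq_zero]
    intro x hx
    obtain ⟨r, rfl⟩ := Ideal.Quotient.mk_surjective x
    rw [hψmk, Ideal.Quotient.eq_zero_iff_mem] at hx
    exact Ideal.Quotient.eq_zero_iff_mem.mpr (h2 r hx)
  have hflat : Function.Injective (ψ.lTensor B) :=
    Module.Flat.lTensor_preserves_injective_linearMap ψ hinj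
  have e1 : (ψ.lTensor B) (b ⊗ₜ[A] (1 : A ⧸ J)) = (algebraMap A B a * b) ⊗ₜ[A] (1 : A ⧸ I') := by
    rw [LinearMap.lTensor_tmul]
    have : ψ (1 : A ⧸ J) = a • (1 : A ⧸ I') := by
      have := hψmk 1
      rw [map_one, one_mul] at this
      rw [this]
      have h3 : a • (Submodule.Quotient.mk (1 : A) : A ⧸ I') = Submodule.Quotient.mk (a • (1 : A)) :=
        (Submodule.Quotient.mk_smul I' a 1).symm
      rw [smul_eq_mul, mul_one] at h3
      exact h3.symm
    rw [this, TensorProduct.tmul_smul, TensorProduct.smul_tmul', Algebra.smul_def]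
  have e2 : (algebraMap A B a * b) ⊗ₜ[A] (1 : A ⧸ I') = 0 := by
    have := Algebra.TensorProduct.quotIdealMapEquivTensorQuot_mk B I' (algebraMap A B a * b)
    rw [← this, Ideal.Quotient.eq_zero_iff_mem.mpr hb, map_zero]
  have e3 : b ⊗ₜ[A] (1 : A ⧸ J) = 0 := by
    apply hflat
    rw [e1, e2, map_zero]
  have e4 := Algebra.TensorProduct.quotIdealMapEquivTensorQuot_mk B J b
  rw [e3] at e4
  have e5 : Ideal.Quotient.mk (J.map (algebraMap A B)) b = 0 :=
    (Algebra.TensorProduct.quotIdealMapEquivTensorQuot B J).injective (by rw [e4, map_zero])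
  exact Ideal.Quotient.eq_zero_iff_mem.mp e5

/-- In a Noetherian local ring, a nonzero ideal `I` has a sub-ideal `I'` with `I = I' + (a)`,
`𝔪 a ⊆ I'` and `(I' : a) ⊆ 𝔪`. -/
theorem exists_lt_simple {A : Type*} [CommRing A] [IsLocalRing A] [IsNoetherianRing A]
    (I : Ideal A) (hI : I ≠ ⊥) :
    ∃ (I' : Ideal A) (a : A), I' < I ∧ a ∈ I ∧ I = I' ⊔ Ideal.span {a} ∧
      (∀ r ∈ IsLocalRing.maximalIdeal A, r * a ∈ I') ∧
      (∀ r, r * a ∈ I' → r ∈ IsLocalRing.maximalIdeal A) := by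
  obtain ⟨I', hI'lt, hI'max⟩ := (wellFounded_gt (α := Ideal A)).has_min {J | J < I}
    ⟨⊥, bot_lt_iff_ne_bot.mpr hI⟩
  have hI'lt' : I' < I := hI'lt
  obtain ⟨a, haI, haI'⟩ := SetLike.exists_of_lt hI'lt'
  have hmax : ∀ J : Ideal A, I' < J → J ≤ I → J = I := by
    intro J h1 h2
    by_contra hne
    exact hI'max J (lt_of_le_of_ne h2 hne) h1
  have hspan : ∀ x : A, x ∈ I → x ∉ I' → I' ⊔ Ideal.span {x} = I := by
    intro x hx hx'
    apply hmax
    · refine lt_of_le_of_ne le_sup_left ?_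
      intro h
      apply hx'
      rw [h]
      exact Ideal.mem_sup_right (Ideal.mem_span_singleton_self x)
    · exact sup_le hI'lt'.le ((Ideal.span_singleton_le_iff_mem I).mpr hx)
  refine ⟨I', a, hI'lt', haI, (hspan a haI haI').symm, ?_, ?_⟩
  · intro r hr
    by_contra hra
    have h1 := hspan (r * a) (I.mul_mem_left r haI) hra
    have ha : a ∈ I' ⊔ Ideal.span {r * a} := by rw [h1]; exact haI
    rw [Submodule.mem_sup] at ha
    obtain ⟨i', hi', z, hz, hsum⟩ := ha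
    rw [Ideal.mem_span_singleton'] at hz
    obtain ⟨t, rfl⟩ := hz
    have hu : IsUnit (1 - t * r) := by
      have : t * r ∈ IsLocalRing.maximalIdeal A := Ideal.mul_mem_left _ t hr
      exact IsLocalRing.isUnit_one_sub_self_of_mem_nonunits _ this
    have h2 : (1 - t * r) * a = i' := by
      linear_combination (-1 : A) * hsum
    apply haI'
    have h3 : a = hu.unit⁻¹ * i' := by
      rw [← h2, ← mul_assoc, IsUnit.val_inv_mul, one_mul]
    rw [h3]
    exact I'.mul_mem_left _ hi'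
  · intro r hr
    by_contra hrm
    have hu : IsUnit r := by
      by_contra hnu
      exact hrm ((IsLocalRing.mem_maximalIdeal r).mpr hnu)
    apply haI'
    have h3 : a = hu.unit⁻¹ * (r * a) := by
      rw [← mul_assoc, IsUnit.val_inv_mul, one_mul]
    rw [h3]
    exact I'.mul_mem_left _ hr

/-- Pushout of a surjection of commutative rings: the kernel of the opposite leg. -/
theorem ker_of_isPushout {R B R' P : CommRingCat.{u}} {f : R ⟶ B} {g : R ⟶ R'} {f' : B ⟶ P}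
    {g' : R' ⟶ P} (H : IsPushout f g f' g') (hg : Function.Surjective g.hom) :
    RingHom.ker f'.hom = (RingHom.ker g.hom).map f.hom := by
  apply le_antisymm
  · -- build a cocone on the quotient
    let Q : CommRingCat.{u} := CommRingCat.of (B ⧸ (RingHom.ker g.hom).map f.hom)
    let mkQ : B ⟶ Q := CommRingCat.ofHom (Ideal.Quotient.mk _)
    have hker : RingHom.ker g.hom ≤ RingHom.ker (f ≫ mkQ).hom := by
      intro r hr
      rw [RingHom.mem_ker]
      show Ideal.Quotient.mk ((RingHom.ker g.hom).map f.hom) (f.hom r) = 0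
      rw [Ideal.Quotient.eq_zero_iff_mem]
      exact Ideal.mem_map_of_mem _ hr
    let l : R' ⟶ Q := CommRingCat.ofHom (RingHom.liftOfSurjective g.hom hg ⟨(f ≫ mkQ).hom, hker⟩)
    have hl : g ≫ l = f ≫ mkQ := by
      ext r
      exact RingHom.liftOfSurjective_comp_apply g.hom hg ⟨(f ≫ mkQ).hom, hker⟩ r
    let d : P ⟶ Q := H.desc mkQ l hl.symm
    have hd : f' ≫ d = mkQ := H.inl_desc _ _ _
    intro b hb
    rw [RingHom.mem_ker] at hb
    have h1 : mkQ.hom b = 0 := by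
      rw [← hd, CommRingCat.hom_comp, RingHom.comp_apply, hb, map_zero]
    exact Ideal.Quotient.eq_zero_iff_mem.mp h1
  · rw [Ideal.map_le_iff_le_comap]
    intro r hr
    rw [RingHom.mem_ker] at hr
    rw [Ideal.mem_comap, RingHom.mem_ker]
    have := congrArg (fun h => h.hom r) H.w
    simp only [CommRingCat.hom_comp, RingHom.comp_apply] at this
    rw [this, hr, map_zero]

end Algebra

section Sheaf

open TopologicalSpace Opposite

/-- Glue sections given on a basis-like family of opens, compatible with restrictions. -/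
theorem exists_section_of_compatible {Z : Scheme.{u}} {J : Type*} (V : J → Z.Opens)
    (le : J → J → Prop) (hle : ∀ j' j, le j' j → V j' ≤ V j)
    (hcov : ∀ z : Z, ∃ j, z ∈ V j)
    (hbasis : ∀ j₁ j₂ (z : Z), z ∈ V j₁ → z ∈ V j₂ → ∃ j₃, z ∈ V j₃ ∧ le j₃ j₁ ∧ le j₃ j₂)
    (β : ∀ j, Γ(Z, V j))
    (hβ : ∀ j j' (h : le j' j), (Z.presheaf.map (homOfLE (hle j' j h)).op).hom (β j) = β j') :
    ∃ b : Γ(Z, ⊤), ∀ j, (Z.presheaf.map (homOfLE (le_top : V j ≤ ⊤)).op).hom b = β j := by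
  have hcompat : TopCat.Presheaf.IsCompatible Z.sheaf.1 V β := by
    intro j₁ j₂
    let K := {j₃ : J // le j₃ j₁ ∧ le j₃ j₂}
    refine Z.sheaf.eq_of_locally_eq' (fun k : K => V k.1) (V j₁ ⊓ V j₂)
      (fun k => homOfLE (le_inf (hle _ _ k.2.1) (hle _ _ k.2.2))) ?_ _ _ (fun k => ?_)
    · intro z hz
      obtain ⟨j₃, hz₃, h1, h2⟩ := hbasis j₁ j₂ z hz.1 hz.2
      exact Opens.mem_iSup.mpr ⟨⟨j₃, h1, h2⟩, hz₃⟩
    · have e1 := hβ j₁ k.1 k.2.1
      have e2 := hβ j₂ k.1 k.2.2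
      rw [← ConcreteCategory.comp_apply, ← ConcreteCategory.comp_apply, ← Functor.map_comp,
        ← Functor.map_comp]
      exact e1.trans e2.symm
  obtain ⟨b, hb, -⟩ := Z.sheaf.existsUnique_gluing' V ⊤ (fun j => homOfLE le_top)
    (fun z _ => by
      obtain ⟨j, hj⟩ := hcov z
      exact Opens.mem_iSup.mpr ⟨j, hj⟩) β hcompat
  exact ⟨b, hb⟩

/-- Sections agreeing on a covering family of opens agree. -/
theorem section_ext_of_cover {Z : Scheme.{u}} {J : Type*} (V : J → Z.Opens) (W : Z.Opens)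
    (hle : ∀ j, V j ≤ W) (hcov : ∀ z ∈ W, ∃ j, z ∈ V j) (s t : Γ(Z, W))
    (h : ∀ j, (Z.presheaf.map (homOfLE (hle j)).op).hom s =
      (Z.presheaf.map (homOfLE (hle j)).op).hom t) : s = t := by
  refine Z.sheaf.eq_of_locally_eq' V W (fun j => homOfLE (hle j)) ?_ s t h
  intro z hz
  obtain ⟨j, hj⟩ := hcov z hz
  exact Opens.mem_iSup.mpr ⟨j, hj⟩

end Sheaf

section Artin

variable {S T X X₀ : Scheme.{u}} (t : T ⟶ S) (p : X ⟶ S) (i₀ : X₀ ⟶ X) (p₀ : X₀ ⟶ T)

/-- structure map to the sections over `U` -/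
noncomputable abbrev rho (U : X.Opens) : Γ(S, ⊤) →+* Γ(X, U) := (p.appLE ⊤ U le_top).hom

/-- restriction of a global section -/
noncomputable abbrev res (U : X.Opens) : Γ(X, ⊤) →+* Γ(X, U) :=
  (X.presheaf.map (homOfLE (le_top : U ≤ ⊤)).op).hom

theorem appLE_top_top {P Q : Scheme.{u}} (f : P ⟶ Q) : f.appLE ⊤ ⊤ le_top = f.appTop :=
  Scheme.Hom.appLE_eq_app f

theorem rho_eq (U : X.Opens) (c : Γ(S, ⊤)) : rho p U c = res U (p.appTop.hom c) := rfl

theorem E1 (U : X.Opens) (σ : Γ(X, ⊤)) :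
    (i₀.app U).hom (res U σ) = (i₀.appLE ⊤ (i₀ ⁻¹ᵁ U) le_top).hom σ := by
  have := Scheme.Hom.map_appLE i₀ (U := U) (V := i₀ ⁻¹ᵁ U) le_rfl (homOfLE (le_top : U ≤ ⊤)).op
  rw [Scheme.Hom.appLE_eq_app] at this
  exact congrArg (fun h => h.hom σ) this

theorem E3 (H : i₀ ≫ p = p₀ ≫ t) (V : X₀.Opens) (c : Γ(S, ⊤)) :
    (i₀.appLE ⊤ V le_top).hom (p.appTop.hom c) = (p₀.appLE ⊤ V le_top).hom (t.appTop.hom c) := by
  have h1 : p.appTop ≫ i₀.appLE ⊤ V le_top = (i₀ ≫ p).appLE ⊤ V le_top :=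
    (Scheme.Hom.comp_appLE i₀ p ⊤ V le_top).symm
  have h2 : t.appTop ≫ p₀.appLE ⊤ V le_top = (p₀ ≫ t).appLE ⊤ V le_top :=
    (Scheme.Hom.comp_appLE p₀ t ⊤ V le_top).symm
  have h3 : ∀ (a b : X₀ ⟶ S) (hab : a = b), a.appLE ⊤ V le_top = b.appLE ⊤ V le_top := by
    rintro a _ rfl; rfl
  have h4 := (h1.trans (h3 _ _ H)).trans h2.symm
  exact congrArg (fun h => h.hom c) h4

variable [IsAffine S] [IsAffine T]

theorem ker_app (H : IsPullback i₀ p₀ p t) (ht : Function.Surjective t.appTop.hom)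
    {U : X.Opens} (hU : IsAffineOpen U) :
    RingHom.ker (i₀.app U).hom = (RingHom.ker t.appTop.hom).map (rho p U) := by
  have hUY : i₀ ⁻¹ᵁ U = i₀ ⁻¹ᵁ U ⊓ p₀ ⁻¹ᵁ ⊤ := by simp
  have hiso := isIso_pushoutSection_of_isAffineOpen H (US := ⊤) (UT := ⊤) (UX := U)
    (UY := i₀ ⁻¹ᵁ U) le_top le_top hUY (isAffineOpen_top S) (isAffineOpen_top T) hU
  have hP := (isIso_pushoutSection_iff H (US := ⊤) (UT := ⊤) (UX := U)
    (UY := i₀ ⁻¹ᵁ U) le_top le_top hUY).mp hiso
  have ht' : Function.Surjective (t.appLE ⊤ ⊤ le_top).hom := by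
    rw [appLE_top_top]; exact ht
  have h1 := ker_of_isPushout hP ht'
  rw [Scheme.Hom.appLE_eq_app] at h1
  rw [h1, appLE_top_top]

/-- `σ` is congruent to a constant modulo `I 𝒪_X` -/
def Cong (I : Ideal Γ(S, ⊤)) (σ : Γ(X, ⊤)) : Prop :=
  ∃ c : Γ(S, ⊤), ∀ U : X.affineOpens, res U.1 σ - rho p U.1 c ∈ I.map (rho p U.1)

theorem cong_max (H : IsPullback i₀ p₀ p t) (ht : Function.Surjective t.appTop.hom)
    (h0 : Function.Surjective p₀.appTop.hom) (σ : Γ(X, ⊤)) :
    Cong p (RingHom.ker t.appTop.hom) σ := by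
  obtain ⟨κ, hκ⟩ := h0 (i₀.appTop.hom σ)
  obtain ⟨c, rfl⟩ := ht κ
  refine ⟨c, fun U => ?_⟩
  rw [← ker_app t p i₀ p₀ H ht U.2, RingHom.mem_ker, map_sub, sub_eq_zero, E1, rho_eq p U.1 c, E1,
    E3 t p i₀ p₀ H.w]
  show (X₀.presheaf.map _).hom (i₀.appTop.hom σ) = (X₀.presheaf.map _).hom (p₀.appTop.hom _)
  rw [hκ]
  rfl

theorem cong_bot (σ : Γ(X, ⊤)) (h : Cong p ⊥ σ) : ∃ c, p.appTop.hom c = σ := by
  obtain ⟨c, hc⟩ := h
  refine ⟨c, ?_⟩
  refine section_ext_of_cover (fun U : X.affineOpens => U.1) ⊤ (fun _ => le_top) ?_ _ _ ?_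
  · intro z _
    obtain ⟨_, ⟨U, hU, rfl⟩, hz, -⟩ :=
      X.isBasis_affineOpens.exists_subset_of_mem_open (Set.mem_univ z) isOpen_univ
    exact ⟨⟨U, hU⟩, hz⟩
  · intro U
    have := hc U
    rw [Ideal.map_bot, Ideal.mem_bot, sub_eq_zero] at this
    exact this.symm

theorem mul_mem_map_of_forall {A B : Type*} [CommRing A] [CommRing B] (ρ : A →+* B)
    (I' 𝔪 : Ideal A) (a : A) (h : ∀ r ∈ 𝔪, r * a ∈ I') {x : B} (hx : x ∈ 𝔪.map ρ) :
    ρ a * x ∈ I'.map ρ := by
  unfold Ideal.map at hx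
  refine Submodule.span_induction ?_ ?_ ?_ ?_ hx
  · rintro _ ⟨r, hr, rfl⟩
    rw [← map_mul, mul_comm]
    exact Ideal.mem_map_of_mem ρ (h r hr)
  · rw [mul_zero]; exact zero_mem _
  · intro x y _ _ hx hy
    rw [mul_add]; exact add_mem hx hy
  · intro b x _ hx
    rw [smul_eq_mul, mul_left_comm]
    exact Ideal.mul_mem_left _ _ hx

theorem E4 (H : i₀ ≫ p = p₀ ≫ t) (U : X.Opens) (c : Γ(S, ⊤)) :
    (i₀.app U).hom (rho p U c) = res (i₀ ⁻¹ᵁ U) (p₀.appTop.hom (t.appTop.hom c)) := by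
  rw [rho_eq p U c, E1, E3 t p i₀ p₀ H]
  rfl

theorem res_rho (U U' : X.Opens) (h : U' ≤ U) (r : Γ(S, ⊤)) :
    (X.presheaf.map (homOfLE h).op).hom (rho p U r) = rho p U' r := by
  have := Scheme.Hom.appLE_map p (U := ⊤) (V := U) le_top (homOfLE h).op
  exact congrArg (fun k => k.hom r) this

theorem res_res (U U' : X.Opens) (h : U' ≤ U) (σ : Γ(X, ⊤)) :
    (X.presheaf.map (homOfLE h).op).hom (res U σ) = res U' σ := by
  show ((X.presheaf.map (homOfLE (le_top : U ≤ ⊤)).op) ≫ (X.presheaf.map (homOfLE h).op)).hom σ = _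
  rw [← Functor.map_comp]
  rfl

theorem cong_step [Flat p] (H : IsPullback i₀ p₀ p t) (ht : Function.Surjective t.appTop.hom)
    (h0 : Function.Surjective p₀.appTop.hom)
    (I I' : Ideal Γ(S, ⊤)) (a : Γ(S, ⊤)) (hsup : I = I' ⊔ Ideal.span {a})
    (hm1 : ∀ r ∈ RingHom.ker t.appTop.hom, r * a ∈ I')
    (hm2 : ∀ r, r * a ∈ I' → r ∈ RingHom.ker t.appTop.hom)
    (σ : Γ(X, ⊤)) (h : Cong p I σ) : Cong p I' σ := by
  obtain ⟨c, hc⟩ := h
  have hb : ∀ U : X.affineOpens, ∃ b : Γ(X, U.1),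
      res U.1 σ - rho p U.1 c - rho p U.1 a * b ∈ I'.map (rho p U.1) := by
    intro U
    have := hc U
    rw [hsup, Ideal.map_sup, Ideal.map_span, Set.image_singleton, Submodule.mem_sup] at this
    obtain ⟨y, hy, z, hz, hyz⟩ := this
    rw [Ideal.mem_span_singleton'] at hz
    obtain ⟨b, rfl⟩ := hz
    refine ⟨b, ?_⟩
    rw [← hyz]
    have : y + b * rho p U.1 a - rho p U.1 a * b = y := by ring
    rw [this]; exact hy
  choose b hb using hb
  have hdiff : ∀ (U U' : X.affineOpens) (h : U'.1 ≤ U.1),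
      (X.presheaf.map (homOfLE h).op).hom (b U) - b U' ∈
        (RingHom.ker t.appTop.hom).map (rho p U'.1) := by
    intro U U' h
    have hflat : (rho p U'.1).Flat := Scheme.Hom.flat_appLE p (isAffineOpen_top S) U'.2 le_top
    letI := (rho p U'.1).toAlgebra
    have hflat' : Module.Flat Γ(S, ⊤) Γ(X, U'.1) := hflat
    refine mem_map_of_mul_mem I' (RingHom.ker t.appTop.hom) a hm1 hm2 _ ?_
    have h1 := Ideal.mem_map_of_mem (X.presheaf.map (homOfLE h).op).hom (hb U)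
    rw [Ideal.map_map] at h1
    have hcomp : (X.presheaf.map (homOfLE h).op).hom.comp (rho p U.1) = rho p U'.1 :=
      RingHom.ext (res_rho p U.1 U'.1 h)
    rw [hcomp, map_sub, map_sub, map_mul, res_res, res_rho, res_rho] at h1
    have h2 := hb U'
    have h3 := sub_mem h1 h2
    have : (res U'.1 σ - rho p U'.1 c -
        rho p U'.1 a * (X.presheaf.map (homOfLE h).op).hom (b U)) -
        (res U'.1 σ - rho p U'.1 c - rho p U'.1 a * b U') =
        - (rho p U'.1 a * ((X.presheaf.map (homOfLE h).op).hom (b U) - b U')) := by ring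
    rw [this] at h3
    exact (neg_mem_iff.mp h3)
  -- glue
  have hpre : ∀ U' U : X.affineOpens, U'.1 ≤ U.1 → i₀ ⁻¹ᵁ U'.1 ≤ i₀ ⁻¹ᵁ U.1 :=
    fun U' U h x hx => h hx
  obtain ⟨β, hβ⟩ := exists_section_of_compatible (Z := X₀) (J := X.affineOpens)
    (fun U => i₀ ⁻¹ᵁ U.1) (fun U' U => U'.1 ≤ U.1) hpre
    (fun z => by
      obtain ⟨_, ⟨U, hU, rfl⟩, hz, -⟩ :=
        X.isBasis_affineOpens.exists_subset_of_mem_open (Set.mem_univ (i₀.base z)) isOpen_univ
      exact ⟨⟨U, hU⟩, hz⟩)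
    (fun U₁ U₂ z hz₁ hz₂ => by
      obtain ⟨_, ⟨U, hU, rfl⟩, hz, hle⟩ :=
        X.isBasis_affineOpens.exists_subset_of_mem_open
          (show i₀.base z ∈ ((U₁.1 ⊓ U₂.1 : X.Opens) : Set X) from ⟨hz₁, hz₂⟩)
          (U₁.1 ⊓ U₂.1).isOpen
      exact ⟨⟨U, hU⟩, hz, fun x hx => (hle hx).1, fun x hx => (hle hx).2⟩)
    (fun U => (i₀.app U.1).hom (b U))
    (fun U U' h => by
      have hnat := Scheme.Hom.naturality i₀ (homOfLE h).op
      have h1 := congrArg (fun k => k.hom (b U)) hnat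
      simp only [CommRingCat.hom_comp, RingHom.comp_apply] at h1
      have h2 : (i₀.app U'.1).hom ((X.presheaf.map (homOfLE h).op).hom (b U)) =
          (i₀.app U'.1).hom (b U') := by
        rw [← sub_eq_zero, ← map_sub, ← RingHom.mem_ker, ker_app t p i₀ p₀ H ht U'.2]
        exact hdiff U U' h
      rw [← h2, h1]
      rfl)
  obtain ⟨κ, hκ⟩ := h0 β
  obtain ⟨c₂, rfl⟩ := ht κ
  refine ⟨c + a * c₂, fun U => ?_⟩
  have h4 : b U - rho p U.1 c₂ ∈ (RingHom.ker t.appTop.hom).map (rho p U.1) := by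
    rw [← ker_app t p i₀ p₀ H ht U.2, RingHom.mem_ker, map_sub, sub_eq_zero,
      E4 t p i₀ p₀ H.w, hκ]
    exact (hβ U).symm
  have h5 := mul_mem_map_of_forall (rho p U.1) I' _ a hm1 h4
  have h6 := add_mem (hb U) h5
  have : res U.1 σ - rho p U.1 (c + a * c₂) =
      (res U.1 σ - rho p U.1 c - rho p U.1 a * b U) + rho p U.1 a * (b U - rho p U.1 c₂) := by
    rw [map_add, map_mul]; ring
  rw [this]
  exact h6

/-- **Artin step.** Let `S` be the spectrum of an Artinian local ring, `T → S` the closed point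
and `p : X → S` flat with special fibre `X₀`. If `Γ(T) → Γ(X₀)` is surjective then so is
`Γ(S) → Γ(X)`. -/
theorem artin_surjective [IsLocalRing Γ(S, ⊤)] [IsArtinianRing Γ(S, ⊤)] [Flat p]
    (H : IsPullback i₀ p₀ p t) (ht : Function.Surjective t.appTop.hom)
    (hker : RingHom.ker t.appTop.hom = IsLocalRing.maximalIdeal Γ(S, ⊤))
    (h0 : Function.Surjective p₀.appTop.hom) : Function.Surjective p.appTop.hom := by
  intro σ
  have key : ∀ I : Ideal Γ(S, ⊤), Cong p I σ → Cong p ⊥ σ := by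
    intro I
    induction I using (wellFounded_lt (α := Ideal Γ(S, ⊤))).induction with
    | _ I ih =>
      intro hI
      by_cases hbot : I = ⊥
      · rwa [hbot] at hI
      · obtain ⟨I', a, hlt, haI, hsup, hm1, hm2⟩ := exists_lt_simple I hbot
        rw [← hker] at hm1 hm2
        exact ih I' hlt (cong_step t p i₀ p₀ H ht h0 I I' a hsup hm1 hm2 σ hI)
  exact cong_bot p σ (key _ (cong_max t p i₀ p₀ H ht h0 σ))

end Artin

end Groth.Agent.Lib.T2H7.MumA
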