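import Mathlib
import Groth.Agent.Lib.T2H7MumA
import Groth.Agent.Lib.Helper11RigidAntiC
import Groth.Agent.Lib.Helper11Rigidity

set_option autoImplicit false
set_option linter.unusedSectionVars false
set_option linter.unusedVariables false
set_option linter.style.haveILetI false

universe u

namespace Groth.Agent.Lib.T2H7.MumB

open CategoryTheory CategoryTheory.Limits AlgebraicGeometry
open Groth.Agent.Lib.Helper11RigidAntiC

/-- every point of an open of a locally noetherian scheme has an affine open neighbourhood inside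
that open whose sections inject into the stalk -/
theorem exists_affine_nhd_germ_injective_le (Y : Scheme.{u}) [IsLocallyNoetherian Y] (y : Y)
    (W : Y.Opens) (hyW : y ∈ W) :
    ∃ (N : Y.Opens) (hy : y ∈ N), N ≤ W ∧ IsAffineOpen N ∧
      Function.Injective (Y.presheaf.germ N y hy) := by
  obtain ⟨_, ⟨N₀, hN₀, rfl⟩, hy₀, hN₀W⟩ :=
    Y.isBasis_affineOpens.exists_subset_of_mem_open hyW W.isOpen
  have hnoeth : IsNoetherianRing Γ(Y, N₀) := IsLocallyNoetherian.component_noetherian ⟨N₀, hN₀⟩
  let alg := Y.presheaf.algebra_section_stalk ⟨y, hy₀⟩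
  have hloc := hN₀.isLocalization_stalk ⟨y, hy₀⟩
  obtain ⟨s, hs, hker⟩ := Groth.Agent.Lib.Helper11RigidAntiAlg.exists_kills_ker
    (B := Γ(Y, N₀)) (O := Y.presheaf.stalk y) (hN₀.primeIdealOf ⟨y, hy₀⟩).asIdeal.primeCompl
  have hunit : IsUnit (Y.presheaf.germ N₀ y hy₀ s) :=
    IsLocalization.map_units (Y.presheaf.stalk y) ⟨s, hs⟩
  have hyN : y ∈ Y.basicOpen s := (Y.mem_basicOpen s y hy₀).mpr hunit
  refine ⟨Y.basicOpen s, hyN, (Y.basicOpen_le s).trans hN₀W, hN₀.basicOpen s, ?_⟩
  have hlocs := hN₀.isLocalization_basicOpen s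
  rw [injective_iff_map_eq_zero]
  intro c hc
  obtain ⟨⟨b, m⟩, hbm⟩ := IsLocalization.surj (Submonoid.powers s) c
  have hm_unit : IsUnit (algebraMap Γ(Y, N₀) Γ(Y, Y.basicOpen s) (m : Γ(Y, N₀))) :=
    IsLocalization.map_units Γ(Y, Y.basicOpen s) m
  have hs_unit : IsUnit (algebraMap Γ(Y, N₀) Γ(Y, Y.basicOpen s) s) :=
    IsLocalization.map_units Γ(Y, Y.basicOpen s) (⟨s, Submonoid.mem_powers s⟩ : Submonoid.powers s)
  have hres : ∀ b : Γ(Y, N₀), Y.presheaf.germ (Y.basicOpen s) y hyN
      (algebraMap Γ(Y, N₀) Γ(Y, Y.basicOpen s) b) = Y.presheaf.germ N₀ y hy₀ b := by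
    intro b
    exact TopCat.Presheaf.germ_res_apply Y.presheaf (homOfLE (Y.basicOpen_le s)) y hyN b
  have h2 : Y.presheaf.germ N₀ y hy₀ b = 0 := by
    rw [← hres, ← hbm, map_mul, hc, zero_mul]
  have h3 : s * b = 0 := hker b h2
  have h6 : algebraMap Γ(Y, N₀) Γ(Y, Y.basicOpen s) b = 0 := by
    have h4 : algebraMap Γ(Y, N₀) Γ(Y, Y.basicOpen s) s *
        algebraMap Γ(Y, N₀) Γ(Y, Y.basicOpen s) b = 0 := by
      rw [← map_mul, h3, map_zero]
    exact (hs_unit.mul_right_eq_zero).mp h4
  rw [h6] at hbm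
  exact (hm_unit.mul_left_eq_zero).mp hbm

/-- **Krull separation.** Two morphisms from a locally noetherian scheme which send `x` into a
common affine open and agree on all infinitesimal neighbourhoods of `x` agree near `x`. -/
theorem krull_eq {X Y : Scheme.{u}} [IsLocallyNoetherian X] (f g : X ⟶ Y) (x : X)
    (V : Y.Opens) (hV : IsAffineOpen V) (hfx : f.base x ∈ V) (hgx : g.base x ∈ V)
    (h : ∀ n : ℕ, thickι X x (n + 1) ≫ f = thickι X x (n + 1) ≫ g) :
    ∃ N : X.Opens, x ∈ N ∧ N.ι ≫ f = N.ι ≫ g := by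
  obtain ⟨N, hxN, hNW, hN, hinj⟩ := exists_affine_nhd_germ_injective_le X x (f ⁻¹ᵁ V ⊓ g ⁻¹ᵁ V)
    ⟨hfx, hgx⟩
  have ef : N ≤ f ⁻¹ᵁ V := hNW.trans inf_le_left
  have eg : N ≤ g ⁻¹ᵁ V := hNW.trans inf_le_right
  refine ⟨N, hxN, ?_⟩
  have key : f.appLE V N ef = g.appLE V N eg := by
    ext c
    rw [← sub_eq_zero]
    apply hinj
    rw [map_zero]
    apply Groth.Agent.Lib.Helper11RigidAntiAlg.eq_zero_of_forall_mk_pow_eq_zero
    intro n
    have hle : IsLocalRing.maximalIdeal (X.presheaf.stalk x) ^ (n + 1) ≤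
        IsLocalRing.maximalIdeal (X.presheaf.stalk x) ^ n := Ideal.pow_le_pow_right (Nat.le_succ n)
    rw [Ideal.Quotient.eq_zero_iff_mem]
    apply hle
    rw [← Ideal.Quotient.eq_zero_iff_mem]
    -- use the hypothesis at level n+1
    have h1 := h n
    have h2 : Spec.map (thickQ X x (n + 1)) ≫ N.fromSpecStalkOfMem x hxN ≫ f.resLE V N ef =
        Spec.map (thickQ X x (n + 1)) ≫ N.fromSpecStalkOfMem x hxN ≫ g.resLE V N eg := by
      rw [← cancel_mono V.ι]
      simp only [Category.assoc, Scheme.Hom.resLE_comp_ι]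
      rw [reassoc_of% (Scheme.Opens.fromSpecStalkOfMem_ι N x hxN),
        reassoc_of% (Scheme.Opens.fromSpecStalkOfMem_ι N x hxN)]
      simpa only [Category.assoc] using h1
    have h3 := congrArg (fun k => k ≫ V.toSpecΓ) h2
    simp only [Category.assoc] at h3
    rw [← Scheme.Opens.toSpecΓ_SpecMap_appLE, ← Scheme.Opens.toSpecΓ_SpecMap_appLE,
      Scheme.Opens.fromSpecStalkOfMem_toSpecΓ_assoc, Scheme.Opens.fromSpecStalkOfMem_toSpecΓ_assoc,
      ← Spec.map_comp, ← Spec.map_comp, ← Spec.map_comp, ← Spec.map_comp, Spec.map_inj] at h3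
    have h4 := congrArg (fun k => k.hom c) h3
    simp only [CommRingCat.hom_comp, RingHom.comp_apply] at h4
    rw [map_sub, map_sub, sub_eq_zero]
    exact h4
  have key2 : f.resLE V N ef = g.resLE V N eg := by
    rw [← cancel_mono hV.isoSpec.hom, IsAffineOpen.isoSpec_hom,
      ← Scheme.Opens.toSpecΓ_SpecMap_appLE, ← Scheme.Opens.toSpecΓ_SpecMap_appLE, key]
  rw [← Scheme.Hom.resLE_comp_ι f ef, ← Scheme.Hom.resLE_comp_ι g eg, key2]

section Thick

variable (S : Scheme.{u}) [IsLocallyNoetherian S] (s : S) (n : ℕ)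

theorem pow_succ_ne_top :
    IsLocalRing.maximalIdeal (S.presheaf.stalk s) ^ (n + 1) ≠ ⊤ := by
  intro h
  have h1 : IsLocalRing.maximalIdeal (S.presheaf.stalk s) ^ (n + 1) ≤
      IsLocalRing.maximalIdeal (S.presheaf.stalk s) := Ideal.pow_le_self (Nat.succ_ne_zero n)
  rw [h] at h1
  exact (IsLocalRing.maximalIdeal.isMaximal (S.presheaf.stalk s)).ne_top (top_le_iff.mp h1)

theorem isLocalRing_quot :
    IsLocalRing (S.presheaf.stalk s ⧸ IsLocalRing.maximalIdeal (S.presheaf.stalk s) ^ (n + 1)) := by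
  have : Nontrivial
      (S.presheaf.stalk s ⧸ IsLocalRing.maximalIdeal (S.presheaf.stalk s) ^ (n + 1)) :=
    Ideal.Quotient.nontrivial_iff.mpr (pow_succ_ne_top S s n)
  exact IsLocalRing.of_surjective' (Ideal.Quotient.mk _) Ideal.Quotient.mk_surjective

theorem isArtinianRing_quot :
    IsArtinianRing
      (S.presheaf.stalk s ⧸ IsLocalRing.maximalIdeal (S.presheaf.stalk s) ^ (n + 1)) := by
  apply IsLocalRing.quotient_artinian_of_mem_minimalPrimes_of_isLocalRing
  rw [Ideal.minimalPrimes, Set.mem_ofPred]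
  refine ⟨⟨inferInstance, Ideal.pow_le_self (Nat.succ_ne_zero n)⟩, ?_⟩
  rintro q ⟨hq, hle⟩ -
  exact hq.le_of_pow_le hle

/-- the ring equivalence with global sections of the spectrum -/
noncomputable def gammaEquiv (R : CommRingCat.{u}) : R ≃+* Γ(Spec R, ⊤) :=
  (Scheme.ΓSpecIso R).symm.commRingCatIsoToRingEquiv

theorem isLocalRing_thick : IsLocalRing Γ(thick S s (n + 1), ⊤) := by
  have := isLocalRing_quot S s n
  exact (gammaEquiv (CommRingCat.of
    (S.presheaf.stalk s ⧸ IsLocalRing.maximalIdeal (S.presheaf.stalk s) ^ (n + 1)))).isLocalRing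

theorem isArtinianRing_thick : IsArtinianRing Γ(thick S s (n + 1), ⊤) := by
  have := isArtinianRing_quot S s n
  exact (gammaEquiv (CommRingCat.of
    (S.presheaf.stalk s ⧸ IsLocalRing.maximalIdeal (S.presheaf.stalk s) ^ (n + 1)))).isArtinianRing

/-- the map from the thickened local ring to the residue field -/
noncomputable def toRes :
    CommRingCat.of (S.presheaf.stalk s ⧸ IsLocalRing.maximalIdeal (S.presheaf.stalk s) ^ (n + 1)) ⟶
      S.residueField s :=
  CommRingCat.ofHom (Ideal.Quotient.lift _ (S.residue s).hom (by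
    intro a ha
    have h1 : a ∈ IsLocalRing.maximalIdeal (S.presheaf.stalk s) :=
      Ideal.pow_le_self (Nat.succ_ne_zero n) ha
    exact (IsLocalRing.residue_eq_zero_iff (R := S.presheaf.stalk s) a).mpr h1))

theorem thickQ_toRes : thickQ S s (n + 1) ≫ toRes S s n = S.residue s := by
  ext a
  rfl

theorem toRes_surjective : Function.Surjective (toRes S s n).hom := by
  intro k
  obtain ⟨a, rfl⟩ := IsLocalRing.residue_surjective (R := S.presheaf.stalk s) k
  exact ⟨Ideal.Quotient.mk _ a, rfl⟩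

/-- the closed point of the thickening -/
noncomputable def tn : Spec (S.residueField s) ⟶ thick S s (n + 1) := Spec.map (toRes S s n)

theorem tn_thickι : tn S s n ≫ thickι S s (n + 1) = S.fromSpecResidueField s := by
  rw [tn, thickι, ← Category.assoc, ← Spec.map_comp, thickQ_toRes]
  rfl

theorem tn_appTop_surjective : Function.Surjective (tn S s n).appTop.hom := by
  intro k
  obtain ⟨a, ha⟩ := toRes_surjective S s n ((Scheme.ΓSpecIso (S.residueField s)).hom.hom k)
  refine ⟨(Scheme.ΓSpecIso _).inv.hom a, ?_⟩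
  have h1 := Scheme.ΓSpecIso_inv_naturality (toRes S s n)
  have h2 := congrArg (fun h => h.hom a) h1
  simp only [CommRingCat.hom_comp, RingHom.comp_apply] at h2
  rw [tn]
  rw [← h2, ha]
  rw [← RingHom.comp_apply, ← CommRingCat.hom_comp, Iso.hom_inv_id]
  rfl

theorem tn_ker [IsLocalRing Γ(thick S s (n + 1), ⊤)] :
    RingHom.ker (tn S s n).appTop.hom = IsLocalRing.maximalIdeal Γ(thick S s (n + 1), ⊤) := by
  apply IsLocalRing.eq_maximalIdeal
  have hf : IsField Γ(Spec (S.residueField s), ⊤) :=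
    (gammaEquiv (S.residueField s)).symm.toMulEquiv.isField (Field.toIsField _)
  letI := hf.toField
  exact RingHom.ker_isMaximal_of_surjective _ (tn_appTop_surjective S s n)

variable {S} {X : Scheme.{u}} (p : X ⟶ S) [Flat p]

/-- Global sections of the thickened fibre: surjectivity. -/
theorem appTop_snd_surjective
    (h0 : Function.Surjective (pullback.snd p (S.fromSpecResidueField s)).appTop.hom) :
    Function.Surjective (pullback.snd p (thickι S s (n + 1))).appTop.hom := by
  have hloc := isLocalRing_thick S s n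
  have hart := isArtinianRing_thick S s n
  have t := IsPullback.of_hasPullback p (thickι S s (n + 1))
  have s₀ : IsPullback (pullback.fst p (S.fromSpecResidueField s))
      (pullback.snd p (S.fromSpecResidueField s)) p (tn S s n ≫ thickι S s (n + 1)) := by
    rw [tn_thickι]
    exact IsPullback.of_hasPullback p (S.fromSpecResidueField s)
  have H := IsPullback.of_right' s₀ t
  exact Groth.Agent.Lib.T2H7.MumA.artin_surjective (tn S s n) (pullback.snd p (thickι S s (n + 1)))
    _ (pullback.snd p (S.fromSpecResidueField s)) H (tn_appTop_surjective S s n) (tn_ker S s n) h0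

/-- the induced map on thickenings -/
theorem pow_le_comap (x : X) (n : ℕ) :
    IsLocalRing.maximalIdeal (S.presheaf.stalk (p.base x)) ^ n ≤
      (IsLocalRing.maximalIdeal (X.presheaf.stalk x) ^ n).comap (p.stalkMap x).hom := by
  have h1 : IsLocalRing.maximalIdeal (S.presheaf.stalk (p.base x)) ≤
      (IsLocalRing.maximalIdeal (X.presheaf.stalk x)).comap (p.stalkMap x).hom :=
    ((IsLocalRing.local_hom_TFAE (p.stalkMap x).hom).out 0 3).mp
      (inferInstance : IsLocalHom (p.stalkMap x).hom)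
  exact (Ideal.pow_right_mono h1 n).trans (Ideal.le_comap_pow _ n)

/-- the map between thickenings induced by `p` -/
noncomputable def thickMap (x : X) (n : ℕ) : thick X x n ⟶ thick S (p.base x) n :=
  Spec.map (CommRingCat.ofHom (Ideal.quotientMap _ (p.stalkMap x).hom (pow_le_comap p x n)))

theorem thickMap_comm (x : X) (n : ℕ) :
    thickι X x n ≫ p = thickMap p x n ≫ thickι S (p.base x) n := by
  have h1 : p.stalkMap x ≫ thickQ X x n = thickQ S (p.base x) n ≫
      CommRingCat.ofHom (Ideal.quotientMap _ (p.stalkMap x).hom (pow_le_comap p x n)) := by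
    ext a
    rfl
  rw [thickι, thickι, thickMap, Category.assoc, ← Scheme.SpecMap_stalkMap_fromSpecStalk,
    ← Category.assoc, ← Category.assoc, ← Spec.map_comp, ← Spec.map_comp, h1]

/-- On the thickened fibre, `f` is constant along `p`. -/
theorem thick_eq {Y : Scheme.{u}} (e : S ⟶ X) (he : e ≫ p = 𝟙 S) (f : X ⟶ Y) (x : X)
    (h0 : Function.Surjective (pullback.snd p (S.fromSpecResidueField (p.base x))).appTop.hom)
    (V : Y.Opens) (hV : IsAffineOpen V) (hfV : ∀ x' : X, p.base x' = p.base x → f.base x' ∈ V)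
    (n : ℕ) :
    thickι X x (n + 1) ≫ f = thickι X x (n + 1) ≫ p ≫ e ≫ f := by
  set s := p.base x with hs
  let pn := pullback.snd p (thickι S s (n + 1))
  let en : thick S s (n + 1) ⟶ pullback p (thickι S s (n + 1)) :=
    pullback.lift (thickι S s (n + 1) ≫ e) (𝟙 _) (by rw [Category.assoc, he, Category.comp_id,
      Category.id_comp])
  have hen : en ≫ pn = 𝟙 _ := pullback.lift_snd _ _ _
  have hen1 : en ≫ pullback.fst p (thickι S s (n + 1)) = thickι S s (n + 1) ≫ e :=
    pullback.lift_fst _ _ _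
  have hsurj := appTop_snd_surjective s n p h0
  have hbij : Function.Bijective pn.appTop := by
    refine ⟨?_, hsurj⟩
    have h1 : pn.appTop ≫ en.appTop = 𝟙 _ := by
      rw [← Scheme.Hom.comp_appTop, hen]; rfl
    intro a b hab
    have := congrArg (fun c => en.appTop.hom c) hab
    simp only at this
    rw [← RingHom.comp_apply, ← RingHom.comp_apply, ← CommRingCat.hom_comp, h1] at this
    exact this
  have hrange : Set.range (pullback.fst p (thickι S s (n + 1)) ≫ f).base ⊆ V := by
    rintro _ ⟨z, rfl⟩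
    rw [Scheme.Hom.comp_base, TopCat.comp_app]
    apply hfV
    have h1 := congrArg (fun k : pullback p (thickι S s (n + 1)) ⟶ S => k.base z)
      (pullback.condition (f := p) (g := thickι S s (n + 1)))
    exact h1.trans (thickι_apply S s (n + 1) _)
  have hE := Groth.Agent.Lib.Helper11Rigidity.eq_comp_of_appTop_bijective pn en hen hbij
    (pullback.fst p (thickι S s (n + 1)) ≫ f) V hV hrange
  have hE' : pullback.fst p (thickι S s (n + 1)) ≫ f =
      pullback.fst p (thickι S s (n + 1)) ≫ p ≫ e ≫ f := by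
    have h2 : pullback.fst p (thickι S s (n + 1)) ≫ p ≫ e ≫ f =
        pn ≫ thickι S s (n + 1) ≫ e ≫ f := pullback.condition_assoc _
    rw [hE, reassoc_of% hen1, h2]
    simp only [Category.assoc]
  let kn : thick X x (n + 1) ⟶ pullback p (thickι S s (n + 1)) :=
    pullback.lift (thickι X x (n + 1)) (thickMap p x (n + 1)) (thickMap_comm p x (n + 1))
  have hkn : kn ≫ pullback.fst p (thickι S s (n + 1)) = thickι X x (n + 1) :=
    pullback.lift_fst _ _ _
  rw [← hkn, Category.assoc, hE', Category.assoc]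

/-- **Local rigidity.** If `p` is flat with a section `e`, the fibre through `x` has only constant
global functions and is mapped by `f` into an affine open, then `f = p ≫ e ≫ f` near `x`. -/
theorem local_eq [IsLocallyNoetherian X] {Y : Scheme.{u}} (e : S ⟶ X) (he : e ≫ p = 𝟙 S)
    (f : X ⟶ Y) (x : X)
    (h0 : Function.Surjective (pullback.snd p (S.fromSpecResidueField (p.base x))).appTop.hom)
    (V : Y.Opens) (hV : IsAffineOpen V) (hfV : ∀ x' : X, p.base x' = p.base x → f.base x' ∈ V) :
    ∃ N : X.Opens, x ∈ N ∧ N.ι ≫ f = N.ι ≫ p ≫ e ≫ f := by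
  refine krull_eq f (p ≫ e ≫ f) x V hV (hfV x rfl) ?_ (thick_eq p e he f x h0 V hV hfV)
  have h1 : (p ≫ e ≫ f).base x = f.base (e.base (p.base x)) := by
    simp only [Scheme.Hom.comp_base, TopCat.comp_app]
  rw [h1]
  apply hfV
  have h2 := congrArg (fun k : S ⟶ S => k.base (p.base x)) he
  simpa using h2

end Thick

end Groth.Agent.Lib.T2H7.MumB
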