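import Mathlib
import Groth.Agent.Lib.T2H7MumB
import Groth.Agent.Lib.T2H7Collapse

set_option autoImplicit false
set_option linter.unusedSectionVars false
set_option linter.unusedVariables false
set_option linter.style.haveILetI false

universe u

namespace Groth.Agent.Lib.T2H7.MumC

open CategoryTheory CategoryTheory.Limits AlgebraicGeometry

/-- In a locally noetherian scheme, an open set stable under specialization is closed. -/
theorem isClosed_of_isOpen_of_stable {S : Scheme.{u}} [IsLocallyNoetherian S] (T : Set S)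
    (hopen : IsOpen T) (hst : StableUnderSpecialization T) : IsClosed T := by
  have hU : TopologicalSpace.IsOpenCover (fun U : S.affineOpens => U.1) :=
    iSup_affineOpens_eq_top S
  rw [hU.isClosed_iff_coe_preimage]
  intro U
  have hnoeth : IsNoetherianRing Γ(S, U.1) := IsLocallyNoetherian.component_noetherian U
  have h1 : IsClosed (U.2.fromSpec.base ⁻¹' T) := by
    apply PrimeSpectrum.isClosed_of_stableUnderSpecialization_of_isConstructible
    · exact hst.preimage U.2.fromSpec.continuous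
    · exact IsRetrocompact.isConstructible (hopen.preimage U.2.fromSpec.continuous)
        (fun V hV hVo => TopologicalSpace.NoetherianSpace.isCompact _)
  have h2 : ((Subtype.val : U.1 → S) ⁻¹' T : Set U.1) = U.2.isoSpec.hom.base ⁻¹' (U.2.fromSpec.base ⁻¹' T) := by
    ext z
    simp only [Set.mem_preimage]
    have h3 : U.2.isoSpec.hom ≫ U.2.fromSpec = U.1.ι := by
      rw [IsAffineOpen.isoSpec_hom, IsAffineOpen.toSpecΓ_fromSpec]
    have h4 := congrArg (fun k : (U.1 : Scheme.{u}) ⟶ S => k.base z) h3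
    simp only [Scheme.Hom.comp_base, TopCat.comp_app] at h4
    rw [h4]
    rfl
  have h5 := h1.preimage U.2.isoSpec.hom.continuous
  rw [← h2] at h5
  exact h5

section EqLocus

variable {X Y S : Scheme.{u}} (q : Y ⟶ S) (f g : X ⟶ Y) (hfg : f ≫ q = g ≫ q)

/-- the (topological) locus where `f` and `g` agree scheme-theoretically -/
def eqSet : Set X := (pullback.lift f g hfg).base ⁻¹' (Set.range (pullback.diagonal q).base)

theorem isClosed_eqSet [IsSeparated q] : IsClosed (eqSet q f g hfg) := by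
  apply IsClosed.preimage (pullback.lift f g hfg).continuous
  exact (pullback.diagonal q).isClosedEmbedding.isClosed_range

theorem subset_eqSet (N : X.Opens) (h : N.ι ≫ f = N.ι ≫ g) : (N : Set X) ⊆ eqSet q f g hfg := by
  intro x hx
  have h1 : N.ι ≫ pullback.lift f g hfg = N.ι ≫ f ≫ pullback.diagonal q := by
    apply pullback.hom_ext
    · rw [Category.assoc, pullback.lift_fst, Category.assoc, Category.assoc, pullback.diagonal_fst,
        Category.comp_id]
    · rw [Category.assoc, pullback.lift_snd, Category.assoc, Category.assoc, pullback.diagonal_snd,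
        Category.comp_id, h]
  have h2 := congrArg (fun k : (N : Scheme.{u}) ⟶ pullback q q => k.base ⟨x, hx⟩) h1
  simp only [Scheme.Hom.comp_base, TopCat.comp_app] at h2
  exact ⟨_, h2.symm⟩

theorem eq_of_mem_eqSet {x : X} (hx : x ∈ eqSet q f g hfg) : f.base x = g.base x := by
  obtain ⟨y, hy⟩ := hx
  have h1 : f.base x = y := by
    have := congrArg (pullback.fst q q).base hy
    rw [← Scheme.Hom.comp_apply, ← Scheme.Hom.comp_apply, pullback.diagonal_fst,
      pullback.lift_fst] at this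
    exact this.symm
  have h2 : g.base x = y := by
    have := congrArg (pullback.snd q q).base hy
    rw [← Scheme.Hom.comp_apply, ← Scheme.Hom.comp_apply, pullback.diagonal_snd,
      pullback.lift_snd] at this
    exact this.symm
  rw [h1, h2]

end EqLocus

section SectionCase

open Groth.Agent.Lib.T2H7.Collapse Groth.Agent.Lib.T2H7.MumB

variable {S X Y : Scheme.{u}} [IsLocallyNoetherian S] [IsLocallyNoetherian X]
  (p : X ⟶ S) [Flat p] (e : S ⟶ X) (q : Y ⟶ S) [IsSeparated q] (f : X ⟶ Y)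

/-- **Rigidity, section case.** -/
theorem section_case (hcl : IsClosedMap p.base) (he : e ≫ p = 𝟙 S) (hf : f ≫ q = p)
    (h0 : ∀ s : S, Function.Surjective (pullback.snd p (S.fromSpecResidueField s)).appTop.hom) :
    ∃ T : S.Opens, IsClosed (T : Set S) ∧ (p ⁻¹ᵁ T).ι ≫ f = (p ⁻¹ᵁ T).ι ≫ p ≫ e ≫ f ∧
      ∀ s : S, (∃ V : Y.Opens, IsAffineOpen V ∧ ∀ x : X, p.base x = s → f.base x ∈ V) → s ∈ T := by
  set g : X ⟶ Y := p ≫ e ≫ f with hg
  have hfg : f ≫ q = g ≫ q := by
    rw [hg, Category.assoc, Category.assoc, hf, he, Category.comp_id]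
  let Good : Set X := {x | ∃ N : X.Opens, x ∈ N ∧ N.ι ≫ f = N.ι ≫ g}
  have hGoodOpen : IsOpen Good := by
    rw [isOpen_iff_forall_mem_open]
    rintro x ⟨N, hxN, hN⟩
    exact ⟨N, fun z hz => ⟨N, hz, hN⟩, N.isOpen, hxN⟩
  let W : X.Opens := ⟨Good, hGoodOpen⟩
  have hW : W.ι ≫ f = W.ι ≫ g := by
    let J := {N : X.Opens // N.ι ≫ f = N.ι ≫ g}
    have hJle : ∀ j : J, j.1 ≤ W := fun j z hz => ⟨j.1, hz, j.2⟩
    refine hom_ext_of_cover (fun j : J => ((j.1 : X.Opens) : Scheme.{u}))
      (fun j => X.homOfLE (hJle j)) (fun x => ?_) _ _ (fun j => ?_)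
    · obtain ⟨N, hxN, hN⟩ := x.2
      exact ⟨⟨N, hN⟩, ⟨⟨x.1, hxN⟩, Scheme.homOfLE_apply' _ _ _⟩⟩
    · rw [X.homOfLE_ι_assoc, X.homOfLE_ι_assoc]
      exact j.2
  have hTopen : IsOpen (p.base '' Goodᶜ)ᶜ := (hcl _ hGoodOpen.isClosed_compl).isOpen_compl
  let T : S.Opens := ⟨(p.base '' Goodᶜ)ᶜ, hTopen⟩
  have hTGood : ∀ x : X, p.base x ∈ T → x ∈ Good := by
    intro x hx
    by_contra hxG
    exact hx ⟨x, hxG, rfl⟩
  have hle : p ⁻¹ᵁ T ≤ W := fun x hx => hTGood x hx
  have hcoll : ∀ s : S, (∃ V : Y.Opens, IsAffineOpen V ∧ ∀ x : X, p.base x = s → f.base x ∈ V) →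
      s ∈ T := by
    rintro s ⟨V, hV, hfV⟩
    rintro ⟨x, hxG, rfl⟩
    apply hxG
    obtain ⟨N, hxN, hN⟩ := local_eq p e he f x (h0 _) V hV (fun x' hx' => hfV x' hx')
    exact ⟨N, hxN, hN⟩
  refine ⟨T, ?_, ?_, hcoll⟩
  · apply isClosed_of_isOpen_of_stable _ hTopen
    intro s' s hss hs'
    apply hcoll
    obtain ⟨_, ⟨V₀, hV₀, rfl⟩, hyV₀, -⟩ :=
      Y.isBasis_affineOpens.exists_subset_of_mem_open (Set.mem_univ (f.base (e.base s))) isOpen_univ
    refine ⟨V₀, hV₀, fun x hx => ?_⟩
    have hgen : GeneralizingMap p.base := Flat.generalizingMap p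
    obtain ⟨x', hx'x, hx's'⟩ := hgen (a := x) (b := s') (by rw [hx]; exact hss)
    have hx'G : x' ∈ Good := hTGood x' (by rw [hx's']; exact hs')
    obtain ⟨N, hx'N, hN⟩ := hx'G
    have hx'E : x' ∈ eqSet q f g hfg := subset_eqSet q f g hfg N hN hx'N
    have hxE : x ∈ eqSet q f g hfg := hx'x.mem_closed (isClosed_eqSet q f g hfg) hx'E
    have h1 := eq_of_mem_eqSet q f g hfg hxE
    have h2 : g.base x = f.base (e.base s) := by
      rw [hg]
      simp only [Scheme.Hom.comp_base, TopCat.comp_app]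
      rw [hx]
    rw [h1, h2]
    exact hyV₀
  · rw [← X.homOfLE_ι hle, Category.assoc, hW, Category.assoc]

end SectionCase

end Groth.Agent.Lib.T2H7.MumC
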