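import Mathlib
import Groth.Agent.Lib.T2H7MumC
import Groth.Agent.Lib.Helper11RigidAntiF

set_option autoImplicit false
set_option linter.unusedSectionVars false
set_option linter.unusedVariables false
set_option linter.style.haveILetI false

universe u

namespace Groth.Agent.Lib.T2H7.MumD

open CategoryTheory CategoryTheory.Limits AlgebraicGeometry

/-- Flat base change for global sections, when the structure map is bijective on global
sections. -/
theorem appTop_bijective_of_flat_baseChange {X Y S T : Scheme.{u}} {f : T ⟶ S} {g : Y ⟶ X}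
    {iX : X ⟶ S} {iY : Y ⟶ T} (H : IsPullback g iY iX f) [Flat f] [IsAffine S] [IsAffine T]
    [QuasiCompact iX] [QuasiSeparated iX] (hX : Function.Bijective iX.appTop.hom) :
    Function.Bijective iY.appTop.hom := by
  have hcomp : CompactSpace X := QuasiCompact.compactSpace_of_compactSpace iX
  have hqs : QuasiSeparatedSpace X := quasiSeparatedSpace_of_quasiSeparated iX
  have hiso := isIso_pushoutSection_of_isQuasiSeparated_of_flat_right H
    (US := ⊤) (UT := ⊤) (UX := ⊤) (UY := ⊤) le_top le_top (by simp) (isAffineOpen_top _)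
    (isAffineOpen_top _) isCompact_univ (isQuasiSeparated_univ)
  have hXiso : IsIso iX.appTop := (ConcreteCategory.isIso_iff_bijective _).mpr hX
  have hXiso' : IsIso (iX.appLE ⊤ ⊤ le_top) := by
    rw [Groth.Agent.Lib.T2H7.MumA.appLE_top_top]; exact hXiso
  have hinr : IsIso (pushout.inr (iX.appLE ⊤ ⊤ le_top) (f.appLE ⊤ ⊤ le_top)) :=
    inferInstance
  have hcomp2 : pushout.inr (iX.appLE ⊤ ⊤ le_top) (f.appLE ⊤ ⊤ le_top) ≫
      pushoutSection H (US := ⊤) (UT := ⊤) (UX := ⊤) (UY := ⊤) le_top le_top (by simp) =
      iY.appTop := by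
    rw [pushoutSection, pushout.inr_desc, Groth.Agent.Lib.T2H7.MumA.appLE_top_top]
  have : IsIso iY.appTop := by
    rw [← hcomp2]; infer_instance
  exact (ConcreteCategory.isIso_iff_bijective _).mp this

section Fibre

variable {S X : Scheme.{u}} (p : X ⟶ S) [QuasiCompact p] [QuasiSeparated p]

theorem flat_SpecMap_residueFieldMap (x : X) : Flat (Spec.map (p.residueFieldMap x)) := by
  rw [Flat.SpecMap_iff]
  letI := (p.residueFieldMap x).hom.toAlgebra
  show Module.Flat (S.residueField (p.base x)) (X.residueField x)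
  infer_instance

/-- The fibres of `X ×_S X → X` have only constant global functions if those of `X → S` do. -/
theorem appTop_snd_bijective_of_fibre (x : X)
    (h0 : Function.Bijective (pullback.snd p (S.fromSpecResidueField (p.base x))).appTop.hom) :
    Function.Bijective
      (pullback.snd (pullback.fst p p) (X.fromSpecResidueField x)).appTop.hom := by
  have s₁ := IsPullback.of_hasPullback (pullback.fst p p) (X.fromSpecResidueField x)
  have t₁ : IsPullback (pullback.snd p p) (pullback.fst p p) p p :=
    (IsPullback.of_hasPullback p p).flip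
  have outer := s₁.paste_horiz t₁
  rw [← Scheme.Hom.SpecMap_residueFieldMap_fromSpecResidueField] at outer
  have t₂ := IsPullback.of_hasPullback p (S.fromSpecResidueField (p.base x))
  have H := IsPullback.of_right' outer t₂
  have := flat_SpecMap_residueFieldMap p x
  exact appTop_bijective_of_flat_baseChange H h0

end Fibre

section ProperCase

open Groth.Agent.Lib.T2H7.MumC

variable {S X Y : Scheme.{u}} [IsLocallyNoetherian S] (p : X ⟶ S) [IsProper p] [Flat p]
  (q : Y ⟶ S) [IsSeparated q] (f : X ⟶ Y)

/-- an affine open of `Y ×_S X` around a point pair -/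
theorem exists_affine_prod (x : X) (y : Y) (hxy : q.base y = p.base x) :
    ∃ V' : (pullback q p).Opens, IsAffineOpen V' ∧
      ∀ z : ↥(pullback q p), (pullback.fst q p).base z = y → (pullback.snd q p).base z = x →
        z ∈ V' := by
  obtain ⟨_, ⟨US, hUS, rfl⟩, hsUS, -⟩ :=
    S.isBasis_affineOpens.exists_subset_of_mem_open (Set.mem_univ (p.base x)) isOpen_univ
  obtain ⟨_, ⟨UX, hUX, rfl⟩, hxUX, hUXle⟩ :=
    X.isBasis_affineOpens.exists_subset_of_mem_open
      (show x ∈ ((p ⁻¹ᵁ US : X.Opens) : Set X) from hsUS) (p ⁻¹ᵁ US).isOpen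
  obtain ⟨_, ⟨V, hV, rfl⟩, hyV, hVle⟩ :=
    Y.isBasis_affineOpens.exists_subset_of_mem_open
      (show y ∈ ((q ⁻¹ᵁ US : Y.Opens) : Set Y) from by
        show q.base y ∈ US
        rw [hxy]; exact hsUS) (q ⁻¹ᵁ US).isOpen
  have H := IsPullback.of_hasPullback q p
  have hUST : (UX : X.Opens) ≤ p ⁻¹ᵁ US := hUXle
  have hUSX : (V : Y.Opens) ≤ q ⁻¹ᵁ US := hVle
  let V' : (pullback q p).Opens := pullback.fst q p ⁻¹ᵁ V ⊓ pullback.snd q p ⁻¹ᵁ UX
  have hP := Scheme.Hom.isPullback_resLE H (US := US) (UT := UX) (UX := V) hUST hUSX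
    (UY := V') rfl
  have h1 : IsAffine (US : Scheme.{u}) := hUS
  have h2 : IsAffine ((UX : X.Opens) : Scheme.{u}) := hUX
  have h3 : IsAffine ((V : Y.Opens) : Scheme.{u}) := hV
  have hV' : IsAffineOpen V' := IsAffine.of_isIso hP.isoPullback.hom
  exact ⟨V', hV', fun z hz1 hz2 => ⟨by show (pullback.fst q p).base z ∈ V; rw [hz1]; exact hyV,
    by show (pullback.snd q p).base z ∈ UX; rw [hz2]; exact hxUX⟩⟩

/-- **Rigidity, proper case (before descent).** -/
theorem proper_case (hf : f ≫ q = p)
    (h0 : ∀ s : S, Function.Bijective (pullback.snd p (S.fromSpecResidueField s)).appTop.hom) :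
    ∃ T' : X.Opens, IsClosed (T' : Set X) ∧
      (pullback.fst p p ⁻¹ᵁ T').ι ≫ pullback.snd p p ≫ f =
        (pullback.fst p p ⁻¹ᵁ T').ι ≫ pullback.fst p p ≫ f ∧
      ∀ x : X, (∀ x' : X, p.base x' = p.base x → f.base x' = f.base x) → x ∈ T' := by
  have hX : IsLocallyNoetherian X := LocallyOfFiniteType.isLocallyNoetherian p
  have hX₂ : IsLocallyNoetherian (pullback p p) :=
    LocallyOfFiniteType.isLocallyNoetherian (pullback.fst p p)
  let f' : pullback p p ⟶ pullback q p :=
    pullback.lift (pullback.snd p p ≫ f) (pullback.fst p p)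
      (by rw [Category.assoc, hf, pullback.condition])
  have hf' : f' ≫ pullback.snd q p = pullback.fst p p := pullback.lift_snd _ _ _
  have hf'1 : f' ≫ pullback.fst q p = pullback.snd p p ≫ f := pullback.lift_fst _ _ _
  have he' : pullback.diagonal p ≫ pullback.fst p p = 𝟙 X := pullback.diagonal_fst p
  obtain ⟨T', hT'cl, hT'eq, hT'coll⟩ := section_case (pullback.fst p p) (pullback.diagonal p)
    (pullback.snd q p) f' (pullback.fst p p).isClosedMap he' hf'
    (fun x => (appTop_snd_bijective_of_fibre p x (h0 _)).2)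
  refine ⟨T', hT'cl, ?_, ?_⟩
  · have h1 := congrArg (fun k => k ≫ pullback.fst q p) hT'eq
    simp only [Category.assoc] at h1
    rw [hf'1, pullback.diagonal_snd_assoc] at h1
    exact h1
  · intro x hx
    apply hT'coll
    have hq : q.base (f.base x) = p.base x := by
      have := congrArg (fun k : X ⟶ S => k.base x) hf
      simpa using this
    obtain ⟨V', hV', hV'mem⟩ := exists_affine_prod p q x (f.base x) hq
    refine ⟨V', hV', fun z hz => ?_⟩
    apply hV'mem
    · have h1 := congrArg (fun k : pullback p p ⟶ Y => k.base z) hf'1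
      simp only [Scheme.Hom.comp_base, TopCat.comp_app] at h1
      rw [h1]
      apply hx
      have h2 := congrArg (fun k : pullback p p ⟶ S => k.base z) (pullback.condition (f := p) (g := p))
      simp only [Scheme.Hom.comp_base, TopCat.comp_app] at h2
      rw [← h2, hz]
    · have h1 := congrArg (fun k : pullback p p ⟶ X => k.base z) hf'
      simp only [Scheme.Hom.comp_base, TopCat.comp_app] at h1
      rw [h1, hz]

end ProperCase

section Global

open Groth.Agent.Lib.T2H7.MumC

variable {S X Y : Scheme.{u}} (p : X ⟶ S)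

theorem exists_mem_fibre (s : S)
    (h0 : Function.Bijective (pullback.snd p (S.fromSpecResidueField s)).appTop.hom) :
    ∃ x : X, p.base x = s := by
  have hne : Nonempty ↥(pullback p (S.fromSpecResidueField s)) := by
    by_contra hemp
    rw [not_nonempty_iff] at hemp
    have hsub : Subsingleton Γ(pullback p (S.fromSpecResidueField s), ⊤) := inferInstance
    have hsub' : Subsingleton Γ(Spec (S.residueField s), ⊤) := h0.1.subsingleton
    have hnt : Nontrivial Γ(Spec (S.residueField s), ⊤) := inferInstance
    exact not_subsingleton _ hsub'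
  obtain ⟨z⟩ := hne
  refine ⟨(pullback.fst p (S.fromSpecResidueField s)).base z, ?_⟩
  have h1 := congrArg (fun k : pullback p (S.fromSpecResidueField s) ⟶ S => k.base z)
    (pullback.condition (f := p) (g := S.fromSpecResidueField s))
  simp only [Scheme.Hom.comp_base, TopCat.comp_app] at h1
  rw [h1]
  have h2 : (S.fromSpecResidueField s).base
      ((pullback.snd p (S.fromSpecResidueField s)).base z) ∈
      Set.range (S.fromSpecResidueField s).base := ⟨_, rfl⟩
  rw [Scheme.range_fromSpecResidueField] at h2
  exact h2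

theorem isConnected_fibre (s : S)
    (h0 : Function.Bijective (pullback.snd p (S.fromSpecResidueField s)).appTop.hom) :
    _root_.IsConnected (p.base ⁻¹' {s}) := by
  have hconn : ConnectedSpace ↥(pullback p (S.fromSpecResidueField s)) := by
    have hbij : Function.Bijective ((Scheme.ΓSpecIso (CommRingCat.of (S.residueField s))).inv ≫
        (pullback.snd p (S.fromSpecResidueField s)).appTop).hom := by
      rw [CommRingCat.hom_comp, RingHom.coe_comp]
      refine h0.comp ?_
      exact (ConcreteCategory.isIso_iff_bijective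
        (Scheme.ΓSpecIso (CommRingCat.of (S.residueField s))).inv).mp inferInstance
    exact Groth.Agent.Lib.Helper11RigidAntiF.connectedSpace_of_bijective (k := S.residueField s)
      (Over.mk (pullback.snd p (S.fromSpecResidueField s))) hbij
  have h1 : p.base ⁻¹' {s} = Set.range (pullback.fst p (S.fromSpecResidueField s)).base := by
    rw [Scheme.Pullback.range_fst, Scheme.range_fromSpecResidueField]
  rw [h1]
  exact isConnected_range (pullback.fst p (S.fromSpecResidueField s)).continuous

variable [IsLocallyNoetherian S] [IsProper p] [Flat p] (q : Y ⟶ S) [IsSeparated q] (f : X ⟶ Y)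

theorem surjective_of_h0
    (h0 : ∀ s : S, Function.Bijective (pullback.snd p (S.fromSpecResidueField s)).appTop.hom) :
    Surjective p := ⟨fun s => exists_mem_fibre p s (h0 s)⟩

theorem isQuotientMap_of_h0
    (h0 : ∀ s : S, Function.Bijective (pullback.snd p (S.fromSpecResidueField s)).appTop.hom) :
    Topology.IsQuotientMap p.base :=
  p.isClosedMap.isQuotientMap p.continuous (fun s => exists_mem_fibre p s (h0 s))

/-- The collapsed locus is open and closed. -/
theorem isClopen_locus (hf : f ≫ q = p)
    (h0 : ∀ s : S, Function.Bijective (pullback.snd p (S.fromSpecResidueField s)).appTop.hom) :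
    IsClopen {s : S | ∃ y : Y, ∀ x : X, p.base x = s → f.base x = y} := by
  obtain ⟨T', hT'cl, hT'eq, hT'coll⟩ := proper_case p q f hf h0
  have hquot := isQuotientMap_of_h0 p h0
  have hpre : p.base ⁻¹' {s : S | ∃ y : Y, ∀ x : X, p.base x = s → f.base x = y} = (T' : Set X) := by
    ext x
    constructor
    · rintro ⟨y, hy⟩
      apply hT'coll
      intro x' hx'
      rw [hy x' hx', hy x rfl]
    · intro hx
      refine ⟨f.base x, fun x' hx' => ?_⟩
      obtain ⟨z, hz1, hz2⟩ := Scheme.Pullback.exists_preimage_pullback (f := p) (g := p) x x'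
        hx'.symm
      have hz : z ∈ pullback.fst p p ⁻¹ᵁ T' := by
        show (pullback.fst p p).base z ∈ T'
        rw [hz1]; exact hx
      have h1 := congrArg (fun k : ((pullback.fst p p ⁻¹ᵁ T' : (pullback p p).Opens) : Scheme.{u}) ⟶ Y
        => k.base ⟨z, hz⟩) hT'eq
      simp only [Scheme.Hom.comp_base, TopCat.comp_app] at h1
      have h2 : (pullback.fst p p ⁻¹ᵁ T').ι.base ⟨z, hz⟩ = z := rfl
      rw [h2, hz1, hz2] at h1
      exact h1
  constructor
  · rw [← hquot.isCoinducing.isClosed_preimage, hpre]
    exact hT'cl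
  · rw [← hquot.isCoinducing.isOpen_preimage, hpre]
    exact T'.isOpen

/-- **Rigidity lemma, proper case, connected base.** -/
theorem exists_section_of_connected [ConnectedSpace S] (hf : f ≫ q = p)
    (h0 : ∀ s : S, Function.Bijective (pullback.snd p (S.fromSpecResidueField s)).appTop.hom)
    (s₀ : S) (hs₀ : ∀ x x' : X, p.base x = s₀ → p.base x' = s₀ → f.base x = f.base x') :
    ∃ t : S ⟶ Y, t ≫ q = 𝟙 S ∧ f = p ≫ t := by
  have hclopen := isClopen_locus p q f hf h0
  have hne : {s : S | ∃ y : Y, ∀ x : X, p.base x = s → f.base x = y}.Nonempty := by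
    obtain ⟨x₀, hx₀⟩ := exists_mem_fibre p s₀ (h0 s₀)
    exact ⟨s₀, f.base x₀, fun x hx => hs₀ x x₀ hx hx₀⟩
  have huniv := hclopen.eq_univ hne
  obtain ⟨T', hT'cl, hT'eq, hT'coll⟩ := proper_case p q f hf h0
  have hT'univ : ∀ x : X, x ∈ T' := by
    intro x
    apply hT'coll
    have hx : p.base x ∈ {s : S | ∃ y : Y, ∀ x : X, p.base x = s → f.base x = y} := by
      rw [huniv]; trivial
    obtain ⟨y, hy⟩ := hx
    intro x' hx'
    rw [hy x' hx', hy x rfl]
  have heq : pullback.snd p p ≫ f = pullback.fst p p ≫ f := by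
    refine Scheme.hom_ext_of_forall _ _ fun z => ⟨pullback.fst p p ⁻¹ᵁ T', hT'univ _, hT'eq⟩
  have hsurj := surjective_of_h0 p h0
  have heff : EffectiveEpi p := inferInstance
  let t : S ⟶ Y := EffectiveEpi.desc p f (fun {Z} g₁ g₂ hg => by
    have h1 : g₁ = pullback.lift g₁ g₂ hg ≫ pullback.fst p p := (pullback.lift_fst _ _ _).symm
    have h2 : g₂ = pullback.lift g₁ g₂ hg ≫ pullback.snd p p := (pullback.lift_snd _ _ _).symm
    rw [h1, Category.assoc, ← heq, ← Category.assoc, ← h2])
  have ht : p ≫ t = f := EffectiveEpi.fac p f _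
  have hepi : Epi p := inferInstance
  refine ⟨t, ?_, ht.symm⟩
  rw [← cancel_epi p, ← Category.assoc, ht, hf, Category.comp_id]

end Global

section FibreGeneral

theorem flat_SpecMap_residueFieldMap' {A B : Scheme.{u}} (g : A ⟶ B) (a : A) :
    Flat (Spec.map (g.residueFieldMap a)) := by
  rw [Flat.SpecMap_iff]
  letI := (g.residueFieldMap a).hom.toAlgebra
  show Module.Flat (B.residueField (g.base a)) (A.residueField a)
  infer_instance

/-- The condition `H⁰(fibre) = κ` is stable under base change. -/
theorem appTop_snd_bijective_of_isPullback {P X Y' S : Scheme.{u}} {fst' : P ⟶ X} {snd' : P ⟶ Y'}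
    {p : X ⟶ S} {g : Y' ⟶ S} (h : IsPullback fst' snd' p g) [QuasiCompact p] [QuasiSeparated p]
    (y : Y')
    (h0 : Function.Bijective (pullback.snd p (S.fromSpecResidueField (g.base y))).appTop.hom) :
    Function.Bijective (pullback.snd snd' (Y'.fromSpecResidueField y)).appTop.hom := by
  have H := isPullback_fiberToSpecResidueField_of_isPullback h y
  have := flat_SpecMap_residueFieldMap' g y
  have h1 : QuasiCompact (p.fiberToSpecResidueField (g y)) :=
    inferInstanceAs (QuasiCompact (pullback.snd p (S.fromSpecResidueField (g y))))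
  have h2 : QuasiSeparated (p.fiberToSpecResidueField (g y)) :=
    MorphismProperty.pullback_snd (P := @QuasiSeparated) _ _ inferInstance
  exact @appTop_bijective_of_flat_baseChange _ _ _ _ _ _ _ _ H _ _ _ h1 h2 h0

end FibreGeneral

end Groth.Agent.Lib.T2H7.MumD
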