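import Mathlib
import Groth.Agent.Lib.T2H7MumD
import Groth.Agent.Lib.Helper12Reduced

set_option autoImplicit false
set_option linter.unusedSectionVars false
set_option linter.unusedVariables false
set_option linter.style.haveILetI false

universe u

namespace Groth.Agent.Lib.T2H7.MumE

open CategoryTheory CategoryTheory.Limits AlgebraicGeometry TensorProduct

/-- Faithfully flat descent of bijectivity along a pushout square of commutative rings, over a
field. -/
theorem bijective_of_isPushout_of_bijective {R A B P : CommRingCat.{u}} {f : R ⟶ A} {g : R ⟶ B}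
    {a : A ⟶ P} {b : B ⟶ P} (H : IsPushout f g a b) (hR : IsField R) [Nontrivial B]
    (hb : Function.Bijective b.hom) : Function.Bijective f.hom := by
  letI := hR.toField
  algebraize [f.hom, g.hom]
  let e := ((CommRingCat.isPushout_tensorProduct R A B).isoIsPushout A B H).commRingCatIsoToRingEquiv
  have he : ∀ y : B, e ((1 : A) ⊗ₜ[R] y) = b.hom y := by
    intro y
    have h1 := (CommRingCat.isPushout_tensorProduct R A B).inr_isoIsPushout_hom A B H
    exact congrArg (fun k => k.hom y) h1
  have hincl : Function.Bijective (fun y : B => ((1 : A) ⊗ₜ[R] y : A ⊗[R] B)) := by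
    have h2 : (fun y : B => ((1 : A) ⊗ₜ[R] y : A ⊗[R] B)) = e.symm ∘ b.hom := by
      funext y
      simp only [Function.comp_apply]
      rw [← he y, RingEquiv.symm_apply_apply]
    rw [h2]
    exact e.symm.bijective.comp hb
  have hlt : Function.Bijective ((Algebra.linearMap R A).lTensor B) := by
    have h3 : ((Algebra.linearMap R A).lTensor B : B ⊗[R] R → B ⊗[R] A) =
        (TensorProduct.comm R A B) ∘ (fun y : B => ((1 : A) ⊗ₜ[R] y : A ⊗[R] B)) ∘
          (TensorProduct.rid R B) := by
      funext z
      induction z using TensorProduct.induction_on with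
      | zero => simp
      | tmul y r =>
        simp only [Function.comp_apply, LinearMap.lTensor_tmul, Algebra.linearMap_apply,
          TensorProduct.rid_tmul, TensorProduct.comm_tmul]
        rw [Algebra.algebraMap_eq_smul_one, TensorProduct.tmul_smul, TensorProduct.smul_tmul']
      | add x y hx hy =>
        simp only [Function.comp_apply, map_add] at hx hy ⊢
        rw [hx, hy]
        simp [TensorProduct.tmul_add]
    rw [h3]
    exact (TensorProduct.comm R A B).bijective.comp (hincl.comp (TensorProduct.rid R B).bijective)
  have hbij := (Module.FaithfullyFlat.lTensor_bijective_iff_bijective R B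
    (Algebra.linearMap R A)).mp hlt
  exact hbij

/-- Descent of `H⁰ = k` along a faithfully flat base change of fields. -/
theorem appTop_bijective_of_baseChange_bijective {X Y S T : Scheme.{u}} {f : T ⟶ S} {g : Y ⟶ X}
    {iX : X ⟶ S} {iY : Y ⟶ T} (H : IsPullback g iY iX f) [Flat f] [IsAffine S] [IsAffine T]
    [QuasiCompact iX] [QuasiSeparated iX] (hS : IsField Γ(S, ⊤)) [Nonempty T]
    (hY : Function.Bijective iY.appTop.hom) : Function.Bijective iX.appTop.hom := by
  have hcomp : CompactSpace X := QuasiCompact.compactSpace_of_compactSpace iX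
  have hqs : QuasiSeparatedSpace X := quasiSeparatedSpace_of_quasiSeparated iX
  have hiso := isIso_pushoutSection_of_isQuasiSeparated_of_flat_right H
    (US := ⊤) (UT := ⊤) (UX := ⊤) (UY := ⊤) le_top le_top (by simp) (isAffineOpen_top _)
    (isAffineOpen_top _) isCompact_univ (isQuasiSeparated_univ)
  have hP := (isIso_pushoutSection_iff H (US := ⊤) (UT := ⊤) (UX := ⊤) (UY := ⊤) le_top le_top
    (by simp)).mp hiso
  have hne : Nonempty (⊤ : T.Opens) := by
    obtain ⟨t⟩ := (inferInstance : Nonempty T)
    exact ⟨⟨t, trivial⟩⟩
  have hnt : Nontrivial Γ(T, ⊤) := Scheme.component_nontrivial T ⊤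
  have hb : Function.Bijective (iY.appLE ⊤ ⊤ (by simp)).hom := by
    have : iY.appLE ⊤ ⊤ (by simp) = iY.appTop := Groth.Agent.Lib.T2H7.MumA.appLE_top_top iY
    rw [this]; exact hY
  have h1 := bijective_of_isPushout_of_bijective hP hS hb
  have : iX.appLE ⊤ ⊤ le_top = iX.appTop := Groth.Agent.Lib.T2H7.MumA.appLE_top_top iX
  rw [this] at h1
  exact h1

theorem flat_SpecMap_of_field {k K : Type u} [Field k] [Field K] (φ : k →+* K) :
    Flat (Spec.map (CommRingCat.ofHom φ)) := by
  rw [Flat.SpecMap_iff]
  letI := φ.toAlgebra
  show Module.Flat k K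
  infer_instance

theorem isField_Γ_Spec (k : Type u) [Field k] : IsField Γ(Spec (CommRingCat.of k), ⊤) :=
  (Scheme.ΓSpecIso (CommRingCat.of k)).commRingCatIsoToRingEquiv.toMulEquiv.isField
    (Field.toIsField k)

section GeomIntegral

variable {S X : Scheme.{u}} (p : X ⟶ S)

/-- Proper with geometrically integral fibres implies `H⁰(X_s) = κ(s)`. -/
theorem appTop_snd_bijective_of_geometricallyIntegral [IsProper p] [GeometricallyIntegral p]
    (s : S) :
    Function.Bijective (pullback.snd p (S.fromSpecResidueField s)).appTop.hom := by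
  let K := AlgebraicClosure (S.residueField s)
  let φ : S.residueField s →+* K := algebraMap (S.residueField s) K
  let y : Spec (CommRingCat.of K) ⟶ S := Spec.map (CommRingCat.ofHom φ) ≫ S.fromSpecResidueField s
  have hint : IsIntegral (pullback p y) :=
    (GeometricallyIntegral.geometrically_isIntegral (f := p)) y (pullback.fst p y)
      (pullback.snd p y) (IsPullback.of_hasPullback p y)
  have hbij : Function.Bijective (pullback.snd p y).appTop :=
    Groth.Agent.Lib.Helper11Rigidity.appTop_bijective_of_isAlgClosed (pullback.snd p y)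
  have t₂ := IsPullback.of_hasPullback p (S.fromSpecResidueField s)
  have H := IsPullback.of_right' (IsPullback.of_hasPullback p y) t₂
  have := flat_SpecMap_of_field φ
  exact appTop_bijective_of_baseChange_bijective H (isField_Γ_Spec (S.residueField s)) hbij

end GeomIntegral

end Groth.Agent.Lib.T2H7.MumE
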