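import Mathlib
import Groth.Agent.Lib.T2H7MumE
import Groth.Agent.Lib.T2H9GammaBC

set_option autoImplicit false
set_option linter.unusedSectionVars false
set_option linter.unusedVariables false
set_option linter.style.haveILetI false

universe u

namespace Groth.Agent.Lib.T2H7.MumF

open CategoryTheory CategoryTheory.Limits AlgebraicGeometry

/-- Global functions on a connected reduced universally closed scheme over an algebraically closed
field are constant. -/
theorem appTop_bijective_of_isAlgClosed_of_connected {K : Type u} [Field K] [IsAlgClosed K]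
    {Z : Scheme.{u}} (p : Z ⟶ Spec (CommRingCat.of K)) [UniversallyClosed p] [IsReduced Z]
    [ConnectedSpace Z] : Function.Bijective p.appTop.hom := by
  have hne : Nonempty (⊤ : Z.Opens) := by
    obtain ⟨z⟩ := (inferInstance : Nonempty Z)
    exact ⟨⟨z, trivial⟩⟩
  have hnt : Nontrivial Γ(Z, ⊤) := Scheme.component_nontrivial Z ⊤
  have hint1 : p.appTop.hom.IsIntegral := isIntegral_appTop_of_universallyClosed p
  have hint2 : (p.appTop.hom.comp (Scheme.ΓSpecIso (CommRingCat.of K)).inv.hom).IsIntegral :=
    RingHom.IsIntegral.trans _ _ (RingHom.isIntegral_of_surjective _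
      (ConcreteCategory.bijective_of_isIso (Scheme.ΓSpecIso (CommRingCat.of K)).inv).2) hint1
  have h3 := Groth.Agent.Lib.T2H9.GammaBCAlg.surjective_of_isIntegral_of_isAlgClosed (K := K) _ hint2
    (Groth.Agent.Lib.T2H9.GammaBC.eq_zero_or_eq_one_of_isIdempotentElem Z)
  have h3i : Function.Injective (p.appTop.hom.comp (Scheme.ΓSpecIso (CommRingCat.of K)).inv.hom) :=
    RingHom.injective _
  have h2 : Function.Bijective (Scheme.ΓSpecIso (CommRingCat.of K)).hom.hom :=
    ConcreteCategory.bijective_of_isIso (Scheme.ΓSpecIso (CommRingCat.of K)).hom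
  have h4 : ⇑p.appTop.hom = ⇑(p.appTop.hom.comp (Scheme.ΓSpecIso (CommRingCat.of K)).inv.hom) ∘
      ⇑(Scheme.ΓSpecIso (CommRingCat.of K)).hom.hom := by
    funext a
    change _ = p.appTop.hom ((Scheme.ΓSpecIso (CommRingCat.of K)).inv.hom
      ((Scheme.ΓSpecIso (CommRingCat.of K)).hom.hom a))
    rw [Iso.hom_inv_id_apply]
  rw [h4]
  exact ⟨h3i.comp h2.1, h3.comp h2.2⟩

section Fibre

variable {S X : Scheme.{u}} (p : X ⟶ S)

/-- Smooth proper with connected geometric fibre at `s` (over the algebraic closure of `κ(s)`)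
implies `H⁰(X_s) = κ(s)`. -/
theorem appTop_snd_bijective_of_smooth_of_connected [IsProper p] [Smooth p] (s : S)
    (hc : ConnectedSpace ↥(pullback p (Spec.map (CommRingCat.ofHom
      (algebraMap (S.residueField s) (AlgebraicClosure (S.residueField s)))) ≫
        S.fromSpecResidueField s))) :
    Function.Bijective (pullback.snd p (S.fromSpecResidueField s)).appTop.hom := by
  let K := AlgebraicClosure (S.residueField s)
  let φ : S.residueField s →+* K := algebraMap (S.residueField s) K
  let y : Spec (CommRingCat.of K) ⟶ S := Spec.map (CommRingCat.ofHom φ) ≫ S.fromSpecResidueField s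
  have hred : IsReduced (pullback p y) :=
    Groth.Agent.Lib.Helper12.Reduced.isReduced_of_smooth (pullback.snd p y)
  have hconn : ConnectedSpace ↥(pullback p y) := hc
  have hbij : Function.Bijective (pullback.snd p y).appTop.hom :=
    appTop_bijective_of_isAlgClosed_of_connected (pullback.snd p y)
  have t₂ := IsPullback.of_hasPullback p (S.fromSpecResidueField s)
  have H := IsPullback.of_right' (IsPullback.of_hasPullback p y) t₂
  have := Groth.Agent.Lib.T2H7.MumE.flat_SpecMap_of_field φ
  exact Groth.Agent.Lib.T2H7.MumE.appTop_bijective_of_baseChange_bijective H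
    (Groth.Agent.Lib.T2H7.MumE.isField_Γ_Spec (S.residueField s)) hbij

/-- Smooth proper geometrically connected implies `H⁰(X_s) = κ(s)` for all `s`. -/
theorem appTop_snd_bijective_of_smooth_of_geometricallyConnected [IsProper p] [Smooth p]
    [GeometricallyConnected p] (s : S) :
    Function.Bijective (pullback.snd p (S.fromSpecResidueField s)).appTop.hom := by
  apply appTop_snd_bijective_of_smooth_of_connected p s
  exact pullback_of_geometrically (GeometricallyConnected.geometrically_connectedSpace)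
    (AlgebraicClosure (S.residueField s)) _

end Fibre

section Forall

open Groth.Agent.Lib.T2H7.MumD

variable {S X Y : Scheme.{u}} (p : X ⟶ S) [IsLocallyNoetherian S] [IsProper p] [Flat p]
  (q : Y ⟶ S) [IsSeparated q] (f : X ⟶ Y)

/-- **Rigidity lemma, proper case, all fibres collapsed.** -/
theorem exists_section_of_forall (hf : f ≫ q = p)
    (h0 : ∀ s : S, Function.Bijective (pullback.snd p (S.fromSpecResidueField s)).appTop.hom)
    (hall : ∀ x x' : X, p.base x = p.base x' → f.base x = f.base x') :
    ∃ t : S ⟶ Y, t ≫ q = 𝟙 S ∧ f = p ≫ t := by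
  obtain ⟨T', hT'cl, hT'eq, hT'coll⟩ := proper_case p q f hf h0
  have hT'univ : ∀ x : X, x ∈ T' := by
    intro x
    apply hT'coll
    intro x' hx'
    exact hall x' x hx'
  have heq : pullback.snd p p ≫ f = pullback.fst p p ≫ f := by
    refine Scheme.hom_ext_of_forall _ _ fun z => ⟨pullback.fst p p ⁻¹ᵁ T', hT'univ _, hT'eq⟩
  have hsurj := surjective_of_h0 p h0
  have heff : EffectiveEpi p := inferInstance
  let t : S ⟶ Y := EffectiveEpi.desc p f (fun {Z} g₁ g₂ hg => by
    have h1 : g₁ = pullback.lift g₁ g₂ hg ≫ pullback.fst p p := (pullback.lift_fst _ _ _).symm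
    have h2 : g₂ = pullback.lift g₁ g₂ hg ≫ pullback.snd p p := (pullback.lift_snd _ _ _).symm
    rw [h1, Category.assoc, ← heq, ← Category.assoc, ← h2])
  have ht : p ≫ t = f := EffectiveEpi.fac p f _
  have hepi : Epi p := inferInstance
  refine ⟨t, ?_, ht.symm⟩
  rw [← cancel_epi p, ← Category.assoc, ht, hf, Category.comp_id]

end Forall

section Decomp

open MonoidalCategory CartesianMonoidalCategory MonObj GrpObj

/-- Decomposition of a morphism `X ×_S Y → G` to a group, `X` proper flat with `H⁰(X_s) = κ(s)`,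
every point of `Y` joined to the image of a section by a preconnected set. -/
theorem decomp (S : Scheme.{u}) [IsLocallyNoetherian S]
    (X Y G : Over S) [GrpObj G] [IsSeparated G.hom] [IsProper X.hom] [Flat X.hom]
    (h0 : ∀ s : S, Function.Bijective (pullback.snd X.hom (S.fromSpecResidueField s)).appTop.hom)
    [IsLocallyNoetherian Y.left] (e : 𝟙_ (Over S) ⟶ Y)
    (hconn : ∀ y : Y.left, ∃ C : Set Y.left, _root_.IsPreconnected C ∧ y ∈ C ∧ ∃ s : S, e.left.base s ∈ C)
    (f : X ⊗ Y ⟶ G) :
    ∃ (g : X ⟶ G) (h : Y ⟶ G), f = (fst X Y ≫ g) * (snd X Y ≫ h) := by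
  classical
  let i : X ⟶ X ⊗ Y := lift (𝟙 X) (toUnit X ≫ e)
  let g : X ⟶ G := i ≫ f
  let F : X ⊗ Y ⟶ G := (fst X Y ≫ g)⁻¹ * f
  have hiF : i ≫ F = 1 := by
    show i ≫ ((fst X Y ≫ g)⁻¹ * f) = 1
    rw [MonObj.comp_mul, GrpObj.comp_inv, ← Category.assoc, lift_fst, Category.id_comp]
    exact inv_mul_cancel g
  -- the base-changed family over `Y`
  let p' : pullback X.hom Y.hom ⟶ Y.left := pullback.snd X.hom Y.hom
  let q' : pullback G.hom Y.hom ⟶ Y.left := pullback.snd G.hom Y.hom
  have hFw : F.left ≫ G.hom = pullback.snd X.hom Y.hom ≫ Y.hom := by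
    rw [Over.w F, Over.tensorObj_hom, pullback.condition]
  let f' : pullback X.hom Y.hom ⟶ pullback G.hom Y.hom :=
    pullback.lift F.left (pullback.snd X.hom Y.hom) hFw
  have hf' : f' ≫ q' = p' := pullback.lift_snd _ _ _
  have hf'1 : f' ≫ pullback.fst G.hom Y.hom = F.left := pullback.lift_fst _ _ _
  have h0' : ∀ y : Y.left, Function.Bijective
      (pullback.snd p' (Y.left.fromSpecResidueField y)).appTop.hom := by
    intro y
    exact Groth.Agent.Lib.T2H7.MumD.appTop_snd_bijective_of_isPullback
      (IsPullback.of_hasPullback X.hom Y.hom) y (h0 _)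
  have hi1 : i.left ≫ pullback.fst X.hom Y.hom = 𝟙 X.left := by
    have := congrArg (fun k : X ⟶ X => k.left) (lift_fst (𝟙 X) (toUnit X ≫ e))
    exact this
  have hi2 : i.left ≫ pullback.snd X.hom Y.hom = X.hom ≫ e.left := by
    have := congrArg (fun k : X ⟶ Y => k.left) (lift_snd (𝟙 X) (toUnit X ≫ e))
    exact this
  have he : e.left ≫ Y.hom = 𝟙 S := by
    have := Over.w e
    rw [Over.tensorUnit_hom] at this
    exact this
  have Hi : IsPullback i.left X.hom (pullback.snd X.hom Y.hom) e.left := by
    refine IsPullback.of_right ?_ hi2 (IsPullback.of_hasPullback X.hom Y.hom)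
    rw [hi1, he]
    exact IsPullback.of_horiz_isIso ⟨by simp⟩
  have hηw : (η[G]).left ≫ G.hom = e.left ≫ Y.hom := by
    rw [Over.w, Over.tensorUnit_hom, he]
  let c : S ⟶ pullback G.hom Y.hom := pullback.lift (η[G]).left e.left hηw
  have hif' : i.left ≫ f' = X.hom ≫ c := by
    apply pullback.hom_ext
    · rw [Category.assoc, hf'1, Category.assoc, pullback.lift_fst]
      have h1 := congrArg (fun k : X ⟶ G => k.left) hiF
      rw [Hom.one_def] at h1
      exact h1
    · rw [Category.assoc, pullback.lift_snd, Category.assoc, pullback.lift_snd, hi2]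
  have hcoll : ∀ (s : S) (z : ↥(pullback X.hom Y.hom)), p'.base z = e.left.base s →
      f'.base z = c.base s := by
    intro s z hz
    obtain ⟨x, hx1, hx2⟩ := Scheme.exists_preimage_of_isPullback Hi z s hz
    have h1 := congrArg (fun k : X.left ⟶ pullback G.hom Y.hom => k.base x) hif'
    simp only [Scheme.Hom.comp_base, TopCat.comp_app] at h1
    rw [hx1, hx2] at h1
    exact h1
  have hclopen := Groth.Agent.Lib.T2H7.MumD.isClopen_locus p' q' f' hf' h0'
  have hmem : ∀ y : Y.left, y ∈ {y : Y.left | ∃ w : ↥(pullback G.hom Y.hom),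
      ∀ z : ↥(pullback X.hom Y.hom), p'.base z = y → f'.base z = w} := by
    intro y
    obtain ⟨C, hC, hyC, s, hsC⟩ := hconn y
    have hsub := hC.subset_isClopen hclopen ⟨e.left.base s, hsC, c.base s, fun z hz => hcoll s z hz⟩
    exact hsub hyC
  obtain ⟨t₀, ht₀, hht₀⟩ := exists_section_of_forall p' q' f' hf' h0'
    (fun z z' hzz' => by
      obtain ⟨w, hw⟩ := hmem (p'.base z')
      rw [hw z hzz', hw z' rfl])
  have hhw : (t₀ ≫ pullback.fst G.hom Y.hom) ≫ G.hom = Y.hom := by
    rw [Category.assoc, pullback.condition, ← Category.assoc, ht₀, Category.id_comp]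
  let h : Y ⟶ G := Over.homMk (t₀ ≫ pullback.fst G.hom Y.hom) hhw
  have hF : F = snd X Y ≫ h := by
    apply Over.OverMorphism.ext
    show F.left = pullback.snd X.hom Y.hom ≫ t₀ ≫ pullback.fst G.hom Y.hom
    rw [← hf'1, hht₀, Category.assoc]
  refine ⟨g, h, ?_⟩
  rw [← hF]
  show f = (fst X Y ≫ g) * ((fst X Y ≫ g)⁻¹ * f)
  rw [mul_inv_cancel_left]

end Decomp

end Groth.Agent.Lib.T2H7.MumF
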