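import Groth.Agent.Lib.T2H5UnitPush
import Groth.Agent.Lib.T2H7MumF
set_option backward.isDefEq.respectTransparency.types false

/-!
# `O_S → f_* O_X` for proper flat morphisms with reduced connected geometric fibres (helper5)

Namespace `Groth.Agent.Lib.T2H5.UnitPush`.
-/

set_option autoImplicit false
set_option linter.style.haveILetI false
set_option linter.unusedSectionVars false
set_option linter.unusedVariables false
universe u
open CategoryTheory CategoryTheory.Limits AlgebraicGeometry Opposite TopologicalSpace

namespace Groth.Agent.Lib.T2H5.UnitPush

section geom

variable {X S : Scheme.{u}} (f : X ⟶ S) [IsProper f]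

/-- proper with reduced connected geometric fibre at `s` (over the algebraic closure of `κ(s)`): `H^0(X_s, O) = κ(s)` -/
theorem appTop_bijective_of_reduced_connected (s : S)
    (hred : IsReduced (pullback f (Spec.map (CommRingCat.ofHom
      (algebraMap (S.residueField s) (AlgebraicClosure (S.residueField s)))) ≫
        S.fromSpecResidueField s)))
    (hc : ConnectedSpace ↥(pullback f (Spec.map (CommRingCat.ofHom
      (algebraMap (S.residueField s) (AlgebraicClosure (S.residueField s)))) ≫
        S.fromSpecResidueField s))) :
    Function.Bijective (f.fiberToSpecResidueField s).appTop.hom := by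
  show Function.Bijective (pullback.snd f (S.fromSpecResidueField s)).appTop.hom
  let K := AlgebraicClosure (S.residueField s)
  let φ : S.residueField s →+* K := algebraMap (S.residueField s) K
  let y : Spec (CommRingCat.of K) ⟶ S := Spec.map (CommRingCat.ofHom φ) ≫ S.fromSpecResidueField s
  have hred' : IsReduced (pullback f y) := hred
  have hconn : ConnectedSpace ↥(pullback f y) := hc
  have hbij : Function.Bijective (pullback.snd f y).appTop.hom :=
    Groth.Agent.Lib.T2H7.MumF.appTop_bijective_of_isAlgClosed_of_connected (pullback.snd f y)
  have t₂ := IsPullback.of_hasPullback f (S.fromSpecResidueField s)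
  have H := IsPullback.of_right' (IsPullback.of_hasPullback f y) t₂
  have := Groth.Agent.Lib.T2H7.MumE.flat_SpecMap_of_field φ
  exact Groth.Agent.Lib.T2H7.MumE.appTop_bijective_of_baseChange_bijective H
    (Groth.Agent.Lib.T2H7.MumE.isField_Γ_Spec (S.residueField s)) hbij

end geom

end Groth.Agent.Lib.T2H5.UnitPush
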