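import Mathlib
import Groth.Agent.Lib.T2H5FibTrivF
import Groth.Agent.Lib.T2H5UnitPushC
set_option backward.isDefEq.respectTransparency.types false

/-!
# Invertible modules with sections on both sides are trivial; closedness of the trivial locus (helper5)

Namespace `Groth.Agent.Lib.T2H5.FibTriv`.

* `eq_zero_of_res_eq_zero`: a global section of an invertible module on an integral scheme vanishing on a nonempty open is zero.
* `nonempty_iso_of_sections`: on an integral scheme whose ring of global functions is a field, an invertible module `A` such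
  that `A` and an inverse `A'` both have a nonzero global section is trivial.
-/

set_option autoImplicit false
set_option linter.style.haveILetI false
set_option linter.unusedSectionVars false
set_option linter.unusedVariables false
universe u
open CategoryTheory CategoryTheory.Limits AlgebraicGeometry Opposite TopologicalSpace

namespace Groth.Agent.Lib.T2H5.FibTriv

open Groth.Agent.Lib.Helper6 Groth.Agent.Lib.Helper23.SecTw Groth.Agent.Lib.Helper23.GenLocus
  Groth.Agent.Lib.Helper23.PB Groth.Agent.Helper13PullbackUnit Groth.Agent.Lib.Helper23.Extend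
  Groth.Agent.Lib.Helper23.AmpleIso Groth.Agent.Lib.Helper23.GenNear

section K

variable {Z : Scheme.{u}} [IsIntegral Z]

/-- a global section of an invertible module on an integral scheme vanishing on a nonempty open is zero -/
theorem eq_zero_of_res_eq_zero (M : Z.Modules) (hM : PicF.IsInvertible M) (m : Γ(M, ⊤)) (W : Z.Opens)
    (hW : (W : Set Z).Nonempty) (h : res M (le_top : W ≤ ⊤) m = 0) : m = 0 := by
  refine TopCat.Presheaf.section_ext ⟨M.presheaf, M.isSheaf⟩ ⊤ _ _ (fun z hz => ?_)
  obtain ⟨W₀, e, hzW₀, he⟩ := exists_gen M hM z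
  obtain ⟨c, hc⟩ : ∃ c : Γ(Z, W₀), c = coef he le_rfl (res M le_top m) := ⟨_, rfl⟩
  have hspec : c • e = res M le_top m := by
    have := coef_spec he le_rfl (res M (le_top : W₀ ≤ ⊤) m)
    rw [Groth.Agent.Lib.Helper23.SecTw.res_self, ← hc] at this
    exact this
  have hne : ((W₀ ⊓ W : Z.Opens) : Set Z).Nonempty :=
    nonempty_preirreducible_inter W₀.isOpen W.isOpen ⟨z, hzW₀⟩ hW
  obtain ⟨z', hz'⟩ := hne
  haveI : Nonempty ↥((W₀ ⊓ W : Z.Opens) : Scheme.{u}) := ⟨⟨z', hz'⟩⟩
  have h1 : resf (inf_le_left : W₀ ⊓ W ≤ W₀) c • res M (inf_le_left : W₀ ⊓ W ≤ W₀) e = 0 := by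
    rw [← res_smul, hspec, res_res]
    have : res M (le_top : W₀ ⊓ W ≤ ⊤) m = res M (inf_le_right : W₀ ⊓ W ≤ W) (res M le_top m) := by
      rw [res_res]
    rw [this, h, res_zero]
  have h2 : resf (inf_le_left : W₀ ⊓ W ≤ W₀) c = 0 := by
    apply (he (W₀ ⊓ W) inf_le_left).1
    simp only []
    rw [h1, zero_smul]
  have h3 : c = 0 := by
    apply map_injective_of_isIntegral Z (homOfLE (inf_le_left : W₀ ⊓ W ≤ W₀))
    refine Eq.trans ?_ (map_zero _).symm
    exact h2
  have h4 : res M (le_top : W₀ ≤ ⊤) m = 0 := by rw [← hspec, h3, zero_smul]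
  have h5 := TopCat.Presheaf.germ_res_apply M.presheaf (homOfLE (le_top : W₀ ≤ ⊤)) z hzW₀ m
  change M.presheaf.germ ⊤ z hz m = M.presheaf.germ ⊤ z hz 0
  rw [map_zero]
  refine h5.symm.trans ?_
  have : M.presheaf.map (homOfLE (le_top : W₀ ≤ ⊤)).op m = 0 := h4
  rw [this, map_zero]

/-- on an integral scheme whose ring of global functions is a field, an invertible module `A` such that `A` and an inverse
`A'` both have a nonzero global section is trivial -/
theorem nonempty_iso_of_sections (hfield : ∀ a : Γ(Z, ⊤), a ≠ 0 → IsUnit a)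
    (A A' : Z.Modules) (hA : PicF.IsInvertible A) (hA' : PicF.IsInvertible A')
    (ε : CohB1.tensorMod A A' ≅ Coh.structureModule Z)
    (s : Γ(A, ⊤)) (t : Γ(A', ⊤)) (hs : s ≠ 0) (ht : t ≠ 0) :
    Nonempty (A ≅ Coh.structureModule Z) := by
  obtain ⟨a, ha⟩ : ∃ a : Γ(Z, ⊤), a = ofS ⊤ (ε.hom.app ⊤ (tm A A' ⊤ s t)) := ⟨_, rfl⟩
  have key : ∀ z : Z, ∃ (W : Z.Opens) (e : Γ(A, W)) (c c' u : Γ(Z, W)), z ∈ W ∧ IsGen A W e ∧
      res A le_top s = c • e ∧ (c = 0 → s = 0) ∧ (c' = 0 → t = 0) ∧ IsUnit u ∧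
      resf le_top a = c * c' * u := by
    intro z
    obtain ⟨W₁, e₁, hz₁, he₁⟩ := exists_gen A hA z
    obtain ⟨W₂, e₂, hz₂, he₂⟩ := exists_gen A' hA' z
    obtain ⟨W, hWdef⟩ : ∃ W : Z.Opens, W = W₁ ⊓ W₂ := ⟨_, rfl⟩
    have hW1 : W ≤ W₁ := hWdef ▸ inf_le_left
    have hW2 : W ≤ W₂ := hWdef ▸ inf_le_right
    have hzW : z ∈ W := hWdef ▸ ⟨hz₁, hz₂⟩
    have he : IsGen A W (res A hW1 e₁) := he₁.mono hW1
    have he' : IsGen A' W (res A' hW2 e₂) := he₂.mono hW2
    obtain ⟨e, hee⟩ : ∃ e, e = res A hW1 e₁ := ⟨_, rfl⟩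
    obtain ⟨e', hee'⟩ : ∃ e', e' = res A' hW2 e₂ := ⟨_, rfl⟩
    rw [← hee] at he
    rw [← hee'] at he'
    obtain ⟨c, hc⟩ : ∃ c, c = coef he le_rfl (res A le_top s) := ⟨_, rfl⟩
    obtain ⟨c', hc'⟩ : ∃ c', c' = coef he' le_rfl (res A' le_top t) := ⟨_, rfl⟩
    have hcs : res A (le_top : W ≤ ⊤) s = c • e := by
      have := coef_spec he le_rfl (res A (le_top : W ≤ ⊤) s)
      rw [Groth.Agent.Lib.Helper23.SecTw.res_self, ← hc] at this
      exact this.symm
    have hcs' : res A' (le_top : W ≤ ⊤) t = c' • e' := by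
      have := coef_spec he' le_rfl (res A' (le_top : W ≤ ⊤) t)
      rw [Groth.Agent.Lib.Helper23.SecTw.res_self, ← hc'] at this
      exact this.symm
    have hg : IsGen (CohB1.tensorMod A A') W (tm A A' W e e') := isGen_tm _ _ _ _ _ he he'
    have hg2 : IsGen (Coh.structureModule Z) W (ε.hom.app W (tm A A' W e e')) := isGen_of_iso ε hg
    obtain ⟨u, hu⟩ : ∃ u, u = ofS W (ε.hom.app W (tm A A' W e e')) := ⟨_, rfl⟩
    have huu : IsUnit u := by
      obtain ⟨r, hr⟩ := (hg2 W le_rfl).2 (toS W 1)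
      simp only [] at hr
      rw [Groth.Agent.Lib.Helper23.SecTw.res_self] at hr
      have h1 : r * u = 1 := by
        have := congrArg (ofS W) hr
        rw [hu]
        exact this
      exact IsUnit.of_mul_eq_one r (by rw [mul_comm]; exact h1)
    have hares : resf (le_top : W ≤ ⊤) a = c * c' * u := by
      have h1 : resf (le_top : W ≤ ⊤) a =
          ofS W (res (Coh.structureModule Z) (le_top : W ≤ ⊤) (ε.hom.app ⊤ (tm A A' ⊤ s t))) := by
        rw [ha]
        rfl
      have h2 : res (Coh.structureModule Z) (le_top : W ≤ ⊤) (ε.hom.app ⊤ (tm A A' ⊤ s t)) =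
          ε.hom.app W (res (CohB1.tensorMod A A') (le_top : W ≤ ⊤) (tm A A' ⊤ s t)) :=
        (app_map ε.hom (homOfLE (le_top : W ≤ ⊤)) (tm A A' ⊤ s t)).symm
      rw [h1, h2, res_tm, hcs, hcs', tm_smul_smul, Scheme.Modules.Hom.app_smul, hu]
      rfl
    refine ⟨W, e, c, c', u, hzW, he, hcs, ?_, ?_, huu, hares⟩
    · intro h0
      refine eq_zero_of_res_eq_zero A hA s W ⟨z, hzW⟩ ?_
      rw [hcs, h0, zero_smul]
    · intro h0
      refine eq_zero_of_res_eq_zero A' hA' t W ⟨z, hzW⟩ ?_
      rw [hcs', h0, zero_smul]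
  have ha0 : a ≠ 0 := by
    intro h0
    obtain ⟨z⟩ : Nonempty Z := inferInstance
    obtain ⟨W, e, c, c', u, hzW, he, hcs, h1, h2, hu, hres⟩ := key z
    rw [h0] at hres
    have hres0 : resf (le_top : W ≤ ⊤) (0 : Γ(Z, ⊤)) = 0 := map_zero _
    have hres' : c * c' * u = 0 := hres.symm.trans hres0
    haveI : Nonempty ↥((W : Z.Opens) : Scheme.{u}) := ⟨⟨z, hzW⟩⟩
    haveI : IsDomain Γ(Z, W) := inferInstance
    have h3 : c * c' = 0 := (hu.mul_left_eq_zero).1 hres'
    rcases mul_eq_zero.1 h3 with h | h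
    · exact hs (h1 h)
    · exact ht (h2 h)
  have hau : IsUnit a := hfield a ha0
  have htop : CohB1.genLocus A (secHom A s) = ⊤ := by
    apply le_antisymm le_top
    intro z _
    obtain ⟨W, e, c, c', u, hzW, he, hcs, h1, h2, hu, hres⟩ := key z
    have hcu : IsUnit c := by
      have h3 : IsUnit (c * c' * u) := by
        rw [← hres]
        exact hau.map _
      exact isUnit_of_mul_isUnit_left (isUnit_of_mul_isUnit_left h3)
    have hgen : IsGen A W (sv (secHom A s) W) := by
      rw [sv_secHom, hcs]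
      exact (isGen_smul_iff he c).2 hcu
    exact le_genLocus_of_isGen A _ W hgen hzW
  haveI := Groth.Agent.Lib.T2H5.PicDescGeo.isIso_of_genLocus_eq_top A _ htop
  exact ⟨(asIso (secHom A s)).symm⟩

end K

section M

open Groth.Agent.Lib.T2H3.DualFrame

variable {X Y : Scheme.{u}} (f : X ⟶ Y) [IsProper f] [Flat f] [LocallyOfFinitePresentation f]

/-- **closedness of the locus where an invertible module is trivial on the fibre**, for proper flat families with
geometrically integral fibres -/
theorem isClosed_setOf_trivial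
    (hgeo : ∀ (K : Type u) [Field K] (x : Spec (CommRingCat.of K) ⟶ Y), IsIntegral (pullback f x))
    (L : X.Modules) (hL : PicF.IsInvertible L) :
    IsClosed {y : Y | Nonempty (CohIII.fiberMod f L y ≅ Coh.structureModule (f.fiber y))} := by
  have hint : ∀ y : Y, IsIntegral (f.fiber y) := fun y =>
    hgeo (Y.residueField y) (Y.fromSpecResidueField y)
  have hH : ∀ s : Y, Function.Bijective (f.fiberToSpecResidueField s).appTop.hom := by
    intro s
    haveI := hgeo (AlgebraicClosure (Y.residueField s)) (Spec.map (CommRingCat.ofHom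
      (algebraMap (Y.residueField s) (AlgebraicClosure (Y.residueField s)))) ≫
        Y.fromSpecResidueField s)
    exact Groth.Agent.Lib.T2H5.UnitPush.appTop_bijective_of_reduced_connected f s
      inferInstance inferInstance
  have hL' : PicF.IsInvertible (RefHull.dual L) := isInvertible_dual L hL
  obtain ⟨ε⟩ := nonempty_tensorMod_dual_iso L hL
  have hfp : CohB1.IsFP L := isFP_of_isInvertible L hL
  have hfl : FlatMod.IsFlatOver f L := Groth.Agent.Lib.T2H9.InvFlat.isFlatOver_of_isInvertible f L hL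
  have hfp' : CohB1.IsFP (RefHull.dual L) := isFP_of_isInvertible _ hL'
  have hfl' : FlatMod.IsFlatOver f (RefHull.dual L) :=
    Groth.Agent.Lib.T2H9.InvFlat.isFlatOver_of_isInvertible f _ hL'
  haveI : L.IsQuasicoherent := isQuasicoherent_of_isInvertible L hL
  haveI : (RefHull.dual L).IsQuasicoherent := isQuasicoherent_of_isInvertible _ hL'
  -- the tensor product is trivial on the fibres
  have hε : ∀ y : Y, Nonempty (CohB1.tensorMod (CohIII.fiberMod f L y) (CohIII.fiberMod f (RefHull.dual L) y) ≅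
      Coh.structureModule (f.fiber y)) := by
    intro y
    obtain ⟨b⟩ := nonempty_pullback_tensorMod_iso (f.fiberι y) L (RefHull.dual L) hL hL'
    exact ⟨b.symm ≪≫ (Scheme.Modules.pullback (f.fiberι y)).mapIso ε ≪≫ pullbackUnitIso (f.fiberι y)⟩
  have hset : {y : Y | Nonempty (CohIII.fiberMod f L y ≅ Coh.structureModule (f.fiber y))} =
      {y : Y | CohIII.fiberRank f L 0 y < 1}ᶜ ∩ {y : Y | CohIII.fiberRank f (RefHull.dual L) 0 y < 1}ᶜ := by
    ext y
    simp only [Set.mem_ofPred_eq, Set.mem_inter_iff, Set.mem_compl_iff, not_lt]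
    obtain ⟨εy⟩ := hε y
    constructor
    · rintro ⟨φ⟩
      have φ' : CohIII.fiberMod f (RefHull.dual L) y ≅ Coh.structureModule (f.fiber y) :=
        (Groth.Agent.Lib.Helper23.TensorUnit.unitTensorIso _).symm ≪≫
          tensorModIso φ.symm (Iso.refl _) ≪≫ εy
      rw [fiberRank_zero_eq_one f L y φ (hH y), fiberRank_zero_eq_one f _ y φ' (hH y)]
      exact ⟨le_rfl, le_rfl⟩
    · rintro ⟨h1, h2⟩
      haveI := hint y
      -- nonzero sections
      have hsec : ∀ (N : X.Modules), 1 ≤ CohIII.fiberRank f N 0 y →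
          ∃ s : Γ(CohIII.fiberMod f N y, ⊤), s ≠ 0 := by
        intro N hN
        have hnt : Nontrivial (CohIII.fiberH f N y 0) := by
          by_contra hcon
          rw [not_nontrivial_iff_subsingleton] at hcon
          have : CohIII.fiberRank f N 0 y = 0 := Module.finrank_zero_of_subsingleton
          omega
        obtain ⟨x, hx⟩ := exists_ne (0 : CohIII.fiberH f N y 0)
        refine ⟨(show Γ(CohIII.fiberMod f N y, ⊤) from
          Groth.Agent.Lib.T2H9.H0Unit.hh0Equiv (f.fiber y) (CohIII.fiberMod f N y) x), fun h0 => hx ?_⟩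
        apply (Groth.Agent.Lib.T2H9.H0Unit.hh0Equiv (f.fiber y) (CohIII.fiberMod f N y)).injective
        rw [map_zero]
        exact h0
      obtain ⟨s, hs⟩ := hsec L h1
      obtain ⟨t, ht⟩ := hsec (RefHull.dual L) h2
      -- global functions on the fibre form a field
      have hfield : ∀ a : Γ(f.fiber y, ⊤), a ≠ 0 → IsUnit a := by
        intro a ha
        obtain ⟨c, rfl⟩ := (hH y).2 a
        let ε₀ : Γ(Spec (Y.residueField y), ⊤) ≃+* Y.residueField y :=
          (Scheme.ΓSpecIso (Y.residueField y)).commRingCatIsoToRingEquiv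
        have hc : c ≠ 0 := by
          rintro rfl
          exact ha (map_zero _)
        have h1 : ε₀ c ≠ 0 := fun h0 => hc (ε₀.injective (h0.trans (map_zero ε₀).symm))
        have h2 : IsUnit (ε₀ c) := isUnit_iff_ne_zero.2 h1
        have h3 := h2.map ε₀.symm
        rw [RingEquiv.symm_apply_apply] at h3
        exact h3.map _
      exact nonempty_iso_of_sections hfield _ _ (isInvertible_pullback (f.fiberι y) L hL)
        (isInvertible_pullback (f.fiberι y) _ hL') εy s t hs ht
  rw [hset]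
  exact (Groth.Agent.Lib.T2H5.LocSemi.isOpen_fiberRank_lt f L hfp hfl 0 1).isClosed_compl.inter
    (Groth.Agent.Lib.T2H5.LocSemi.isOpen_fiberRank_lt f _ hfp' hfl' 0 1).isClosed_compl

end M

end Groth.Agent.Lib.T2H5.FibTriv
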