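import Mathlib
import Groth.Agent.Lib.T2H5FibTrivE
import Groth.Agent.S0404
import Groth.Prelude.Def_ModelsG
set_option backward.isDefEq.respectTransparency.types false

/-!
# The locus of fibres of dimension one with `h^0(O) = 1` is open (helper5)

Namespace `Groth.Agent.Lib.T2H5.FibTriv`.
-/

set_option autoImplicit false
set_option linter.style.haveILetI false
set_option linter.unusedSectionVars false
set_option linter.unusedVariables false
universe u
open CategoryTheory CategoryTheory.Limits AlgebraicGeometry Opposite TopologicalSpace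

namespace Groth.Agent.Lib.T2H5.FibTriv

open Groth.Agent.Lib.Helper23.PB

section N

variable {X S : Scheme.{u}} (f : X ⟶ S) [Flat f] [IsProper f] [LocallyOfFinitePresentation f]

/-- `h^0(X_s, O_{X_s})` in terms of the fibre rank of `O_X` -/
theorem hRank_structureModule_eq_fiberRank (s : S) :
    Models.hRank ↥(S.residueField s) (f.fiber s) (f.fiberToSpecResidueField s)
      (Coh.structureModule (f.fiber s)) 0 = CohIII.fiberRank f (Coh.structureModule X) 0 s := by
  letI inst : (f.fiber s).Over (Spec (CommRingCat.of (S.residueField s))) :=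
    ⟨f.fiberToSpecResidueField s⟩
  exact (Groth.Agent.Lib.T2H6.FieldBC.finrank_HH_eq_of_iso (S.residueField s) (f.fiber s)
    (pullbackUnitIso (f.fiberι s)) 0).symm

/-- a nonempty fibre has `h^0(O) ≥ 1` -/
theorem one_le_fiberRank_of_nonempty (s : S) (hne : Nonempty ↥(f.fiber s)) :
    1 ≤ CohIII.fiberRank f (Coh.structureModule X) 0 s := by
  rw [← hRank_structureModule_eq_fiberRank]
  letI inst : (f.fiber s).Over (Spec (CommRingCat.of (S.residueField s))) :=
    ⟨f.fiberToSpecResidueField s⟩
  haveI : IsProper ((f.fiber s) ↘ Spec (CommRingCat.of (S.residueField s))) :=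
    (inferInstance : IsProper (pullback.snd f (S.fromSpecResidueField s)))
  have hfin : Module.Finite (S.residueField s) (Coh.HH (f.fiber s) (Coh.structureModule (f.fiber s)) 0) :=
    Groth.Agent.Lib.T2H5.T2Main.finite_HH_of_isProper (S.residueField s) (f.fiber s) _
      Groth.Agent.Lib.T2H5.GenIsoF.isCoh_structureModule 0
  haveI : Nonempty ↥((⊤ : (f.fiber s).Opens) : Scheme.{u}) := by
    obtain ⟨x⟩ := hne
    exact ⟨⟨x, trivial⟩⟩
  haveI : Nontrivial (Coh.Γtop (f.fiber s)) :=
    (inferInstance : Nontrivial Γ(f.fiber s, ⊤))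
  haveI : Nontrivial (Coh.HH (f.fiber s) (Coh.structureModule (f.fiber s)) 0) :=
    (Groth.Agent.Lib.T2H9.H0Unit.hh0Unit (f.fiber s)).symm.injective.nontrivial
  have h4 : 0 < Module.finrank (S.residueField s) (Coh.HH (f.fiber s) (Coh.structureModule (f.fiber s)) 0) :=
    Module.finrank_pos
  exact h4

theorem isOpen_setOf_dim_one_and_h0_eq_one
    (hdim : ∀ s : S, topologicalKrullDim ↥(f.fiber s) ≤ 1) :
    IsOpen {s : S | topologicalKrullDim ↥(f.fiber s) = 1 ∧
      Models.hRank ↥(S.residueField s) (f.fiber s) (f.fiberToSpecResidueField s)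
        (Coh.structureModule (f.fiber s)) 0 = 1} := by
  have hfp : CohB1.IsFP (Coh.structureModule X) := Groth.Agent.Lib.T2H5.UnitPush.isFP_structureModule
  have hfl : FlatMod.IsFlatOver f (Coh.structureModule X) :=
    Groth.Agent.Lib.T2H5.UnitPush.isFlatOver_structureModule f
  haveI : (Coh.structureModule X).IsQuasicoherent :=
    Groth.Agent.Helper18Strict.isQCoh_of_isFP _ hfp
  have h1 : IsOpen {s : S | (0 : WithBot ℕ∞) < topologicalKrullDim ↥(f.fiber s)} :=
    Groth.Agent.S0404.result f 0
  have h2 : IsOpen {s : S | CohIII.fiberRank f (Coh.structureModule X) 0 s < 2} :=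
    Groth.Agent.Lib.T2H5.LocSemi.isOpen_fiberRank_lt f _ hfp hfl 0 2
  have hset : {s : S | topologicalKrullDim ↥(f.fiber s) = 1 ∧
      Models.hRank ↥(S.residueField s) (f.fiber s) (f.fiberToSpecResidueField s)
        (Coh.structureModule (f.fiber s)) 0 = 1} =
      {s : S | (0 : WithBot ℕ∞) < topologicalKrullDim ↥(f.fiber s)} ∩
        {s : S | CohIII.fiberRank f (Coh.structureModule X) 0 s < 2} := by
    ext s
    simp only [Set.mem_ofPred_eq, Set.mem_inter_iff]
    rw [hRank_structureModule_eq_fiberRank]
    constructor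
    · rintro ⟨h3, h4⟩
      refine ⟨?_, by omega⟩
      rw [h3]
      exact zero_lt_one
    · rintro ⟨h3, h4⟩
      have hne : Nonempty ↥(f.fiber s) := by
        by_contra hcon
        rw [not_nonempty_iff] at hcon
        have hbot : topologicalKrullDim ↥(f.fiber s) = ⊥ := by
          unfold topologicalKrullDim
          rw [Order.krullDim_eq_bot_iff]
          exact ⟨fun c => by
            obtain ⟨x, -⟩ := c.isIrreducible'.nonempty
            exact hcon.false x⟩
        rw [hbot] at h3
        exact absurd h3 (by simp)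
      have h5 := one_le_fiberRank_of_nonempty f s hne
      refine ⟨le_antisymm (hdim s) ?_, by omega⟩
      have key : ∀ d : WithBot ℕ∞, 0 < d → 1 ≤ d := by
        intro d hd
        induction d using WithBot.recBotCoe with
        | bot => exact absurd hd (by simp)
        | coe n =>
          have h : (0 : ℕ∞) < n := by exact_mod_cast hd
          have h' : (1 : ℕ∞) ≤ n := Order.one_le_iff_pos.2 h
          exact_mod_cast h'
      exact key _ h3
  rw [hset]
  exact h1.inter h2

end N

end Groth.Agent.Lib.T2H5.FibTriv
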