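import Mathlib
import Groth.Agent.Lib.T2H5FibTrivH
import Groth.Agent.Lib.T2H4QCohAlgD
import Groth.Agent.Lib.Helper2PullbackSec
set_option backward.isDefEq.respectTransparency.types false

/-!
# Base change in degree zero for a module generated over the preimage of a neighbourhood (helper5)

Namespace `Groth.Agent.Lib.T2H5.FibTriv`.

* `surjective_bcMap_app_top_of_isGen`: if `L` is generated by one section over the preimage of an affine open
  neighbourhood of `y`, is trivial on the fibre `X_y`, and `Γ(X_y, O) = κ(y)`, then the base change map of the fibre square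
  is surjective on global sections.
* `epi_bcMap_of_isGen`: the base change map is then an epimorphism.
* `epi_bcMap_of_pullback`: the case `L ≅ π^* L₀`.
-/

set_option autoImplicit false
set_option linter.style.haveILetI false
set_option linter.unusedSectionVars false
set_option linter.unusedVariables false
universe u
open CategoryTheory CategoryTheory.Limits AlgebraicGeometry Opposite TopologicalSpace

namespace Groth.Agent.Lib.T2H5.FibTriv

open Groth.Agent.Lib.Helper6 Groth.Agent.Lib.Helper23.SecTw Groth.Agent.Lib.Helper23.GenLocus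
  Groth.Agent.Lib.Helper23.PB Groth.Agent.Helper13PullbackUnit Groth.Agent.Lib.Helper23.Extend
  Groth.Agent.Lib.Helper23.GenNear

section P

open Groth.Agent.Helper13AffBC Groth.Agent.Helper13QcqsBC Groth.Agent.Helper13FlatMV TensorProduct
  Groth.Agent.Lib.T2H5.BC0Main Groth.Agent.Lib.T2H5.BC0GlueC

variable {X Y : Scheme.{u}} (π : X ⟶ Y) [QuasiCompact π] [QuasiSeparated π] (L : X.Modules)

/-- if `L` is generated by one section over the preimage of an affine open neighbourhood of `y`, is trivial on the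
(nonempty) fibre `X_y`, and `Γ(X_y, O) = κ(y)`, then the base change map of the fibre square is surjective on global
sections -/
theorem surjective_bcMap_app_top_of_isGen (hL : PicF.IsInvertible L) (y : Y)
    (φ : CohIII.fiberMod π L y ≅ Coh.structureModule (π.fiber y))
    (hH : Function.Bijective (π.fiberToSpecResidueField y).appTop.hom)
    (hne : Nonempty (π.fiber y))
    {U : Y.Opens} (hU : IsAffineOpen U) (hyU : y ∈ U) (e : Γ(L, π ⁻¹ᵁ U)) (he : IsGen L (π ⁻¹ᵁ U) e)
    (hsq : IsPullback (π.fiberι y) (π.fiberToSpecResidueField y) π (Y.fromSpecResidueField y)) :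
    Function.Surjective ((bcMap π (Y.fromSpecResidueField y) (π.fiberι y) (π.fiberToSpecResidueField y)
      hsq L).app ⊤) := by
  haveI : L.IsQuasicoherent := isQuasicoherent_of_isInvertible L hL
  haveI := Groth.Agent.Lib.Helper23.QCohLocal.isQuasicoherent_pushforward π L
  obtain ⟨g, hg⟩ : ∃ g : Spec (Y.residueField y) ⟶ Y, g = Y.fromSpecResidueField y := ⟨_, rfl⟩
  obtain ⟨g', hg'⟩ : ∃ g' : π.fiber y ⟶ X, g' = π.fiberι y := ⟨_, rfl⟩
  obtain ⟨f', hf'⟩ : ∃ f' : π.fiber y ⟶ Spec (Y.residueField y), f' = π.fiberToSpecResidueField y :=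
    ⟨_, rfl⟩
  revert hsq
  rw [← hg, ← hg', ← hf']
  intro hsq
  rw [← hf'] at hH
  have hgy : ∀ z, g z = y := by
    intro z
    rw [hg, Scheme.fromSpecResidueField_apply]
  have hU' : IsAffineOpen (⊤ : (Spec (Y.residueField y)).Opens) := isAffineOpen_top _
  have hle : (⊤ : (Spec (Y.residueField y)).Opens) ≤ g ⁻¹ᵁ U := by
    intro z _
    change g z ∈ U
    rw [hgy z]
    exact hyU
  rw [bcMap_app_surjective_iff π g g' f' hsq L hU hU' hle]
  unfold KSurj
  letI : Algebra Γ(Y, U) Γ(Spec (Y.residueField y), ⊤) := (g.appLE U ⊤ hle).hom.toAlgebra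
  let V' : (π.fiber y).Opens := Vp g' f' ⊤ (π ⁻¹ᵁ U)
  have hV'1 : V' ≤ g' ⁻¹ᵁ (π ⁻¹ᵁ U) := inf_le_left
  have hV'2 : V' ≤ f' ⁻¹ᵁ ⊤ := inf_le_right
  have hV'top : ∀ x' : π.fiber y, x' ∈ V' := by
    intro x'
    refine ⟨?_, trivial⟩
    change π (g' x') ∈ U
    have h1 : π (g' x') = g (f' x') := by
      have := congrArg (fun t => t x') hsq.w
      simpa using this
    rw [h1, hgy]
    exact hyU
  -- the generator of the fibre module
  have φ' : (Scheme.Modules.pullback g').obj L ≅ Coh.structureModule (π.fiber y) := by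
    rw [hg']
    exact φ
  have he' : IsGen ((Scheme.Modules.pullback g').obj L) V' (φ'.symm.hom.app V' (toS V' 1)) :=
    isGen_of_iso φ'.symm (isGen_one V')
  obtain ⟨e', hee'⟩ : ∃ e', e' = φ'.symm.hom.app V' (toS V' 1) := ⟨_, rfl⟩
  rw [← hee'] at he'
  -- the field acting
  let β : Γ(Spec (Y.residueField y), ⊤) →+* Γ(π.fiber y, V') := (f'.appLE ⊤ V' hV'2).hom
  have hβ : Function.Bijective β := by
    have hVeq : V' = f' ⁻¹ᵁ ⊤ := le_antisymm hV'2 (fun x' _ => hV'top x')
    have hiso : IsIso ((π.fiber y).presheaf.map (homOfLE hV'2).op) := by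
      have : IsIso (homOfLE hV'2) :=
        ⟨homOfLE (fun x' _ => hV'top x'), Subsingleton.elim _ _, Subsingleton.elim _ _⟩
      infer_instance
    have h1 : Function.Bijective ((π.fiber y).presheaf.map (homOfLE hV'2).op).hom :=
      ConcreteCategory.bijective_of_isIso _
    have h2 : (β : _ → _) = ((π.fiber y).presheaf.map (homOfLE hV'2).op).hom ∘ f'.appTop.hom := by
      funext c
      rfl
    rw [h2]
    exact h1.comp hH
  have hfield : ∀ c : Γ(Spec (Y.residueField y), ⊤), c ≠ 0 → IsUnit c := by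
    intro c hc
    let ε : Γ(Spec (Y.residueField y), ⊤) ≃+* Y.residueField y :=
      (Scheme.ΓSpecIso (Y.residueField y)).commRingCatIsoToRingEquiv
    have h1 : ε c ≠ 0 := fun h0 => hc (ε.injective (h0.trans (map_zero ε).symm))
    have h2 : IsUnit (ε c) := isUnit_iff_ne_zero.2 h1
    have h3 := h2.map ε.symm
    rwa [RingEquiv.symm_apply_apply] at h3
  -- the pulled back generator
  obtain ⟨t, ht⟩ : ∃ t, t = unitSec g' L hV'1 e := ⟨_, rfl⟩
  have ht0 : t ≠ 0 := by
    intro h0
    obtain ⟨x'⟩ := hne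
    obtain ⟨W, hW, hxW, hWle⟩ := exists_isAffineOpen_mem_and_subset (X := X) (x := g' x') (U := π ⁻¹ᵁ U)
      (hV'1 (hV'top x'))
    have heW : IsGen L W (res L hWle e) := he.mono hWle
    have hγ := isGen_unitSec g' L hW (res L hWle e) heW
    let A' : (π.fiber y).Opens := V' ⊓ g' ⁻¹ᵁ W
    have hA1 : A' ≤ V' := inf_le_left
    have hA2 : A' ≤ g' ⁻¹ᵁ W := inf_le_right
    have hxA' : x' ∈ A' := ⟨hV'top x', hxW⟩
    have h1 : res ((Scheme.Modules.pullback g').obj L) hA1 (unitSec g' L hV'1 e) =
        res ((Scheme.Modules.pullback g').obj L) hA2 (unitSec g' L le_rfl (res L hWle e)) := by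
      rw [res_unitSec g' L hV'1 hA2 hWle hA1 e, res_unitSec g' L le_rfl hA2 le_rfl hA2 (res L hWle e),
        Groth.Agent.Lib.Helper23.SecTw.res_self]
    have h2 : IsGen ((Scheme.Modules.pullback g').obj L) A'
        (res ((Scheme.Modules.pullback g').obj L) hA2 (unitSec g' L le_rfl (res L hWle e))) := hγ.mono hA2
    rw [← h1, ← ht, h0] at h2
    have h3 : res ((Scheme.Modules.pullback g').obj L) hA1 (0 : Γ((Scheme.Modules.pullback g').obj L, V')) = 0 :=
      map_zero _
    haveI : Nonempty ↥((A' : (π.fiber y).Opens) : Scheme.{u}) := ⟨⟨x', hxA'⟩⟩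
    haveI : Nontrivial Γ(π.fiber y, A') := Scheme.component_nontrivial _ _
    have h10 : (1 : Γ(π.fiber y, A')) = 0 := by
      apply (h2 A' le_rfl).1
      simp only []
      rw [Groth.Agent.Lib.Helper23.SecTw.res_self, h3, smul_zero, smul_zero]
    exact one_ne_zero h10
  -- `t` is a unit multiple of `e'`
  obtain ⟨d, hd⟩ : ∃ d, d = coef he' le_rfl t := ⟨_, rfl⟩
  have hdt : d • e' = t := by
    have hspec := coef_spec he' le_rfl t
    rw [Groth.Agent.Lib.Helper23.SecTw.res_self] at hspec
    rw [hd]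
    exact hspec
  obtain ⟨c₀, hc₀⟩ := hβ.2 d
  have hc₀0 : c₀ ≠ 0 := by
    intro h0
    apply ht0
    rw [← hdt, ← hc₀, h0, map_zero, zero_smul]
  obtain ⟨c₁, hc₁⟩ := (hfield c₀ hc₀0).exists_left_inv
  intro n
  obtain ⟨m, hm⟩ : ∃ m, m = coef he' le_rfl (show Γ((Scheme.Modules.pullback g').obj L, V') from n) := ⟨_, rfl⟩
  have hmn : m • e' = (show Γ((Scheme.Modules.pullback g').obj L, V') from n) := by
    have hspec := coef_spec he' le_rfl (show Γ((Scheme.Modules.pullback g').obj L, V') from n)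
    rw [Groth.Agent.Lib.Helper23.SecTw.res_self] at hspec
    rw [hm]
    exact hspec
  obtain ⟨c, hc⟩ := hβ.2 m
  refine ⟨(c * c₁) ⊗ₜ[Γ(Y, U)] e, ?_⟩
  rw [kap_tmul]
  change β (c * c₁) • unitSec g' L hV'1 e = (show Γ((Scheme.Modules.pullback g').obj L, V') from n)
  rw [← ht, ← hdt, ← hmn, ← hc, ← hc₀, smul_smul, ← map_mul, mul_assoc, hc₁, mul_one]

/-- the base change map of the fibre square is then an epimorphism -/
theorem epi_bcMap_of_isGen (hL : PicF.IsInvertible L) (y : Y)
    (φ : CohIII.fiberMod π L y ≅ Coh.structureModule (π.fiber y))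
    (hH : Function.Bijective (π.fiberToSpecResidueField y).appTop.hom)
    (hne : Nonempty (π.fiber y))
    {U : Y.Opens} (hU : IsAffineOpen U) (hyU : y ∈ U) (e : Γ(L, π ⁻¹ᵁ U)) (he : IsGen L (π ⁻¹ᵁ U) e)
    (hsq : IsPullback (π.fiberι y) (π.fiberToSpecResidueField y) π (Y.fromSpecResidueField y)) :
    Epi (bcMap π (Y.fromSpecResidueField y) (π.fiberι y) (π.fiberToSpecResidueField y) hsq L) := by
  haveI : L.IsQuasicoherent := isQuasicoherent_of_isInvertible L hL
  haveI := Groth.Agent.Lib.Helper23.QCohLocal.isQuasicoherent_pushforward π L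
  haveI : ((Scheme.Modules.pullback (Y.fromSpecResidueField y)).obj
      ((Scheme.Modules.pushforward π).obj L)).IsQuasicoherent :=
    Groth.Agent.Lib.Helper2.PullbackSec.isQuasicoherent_pullback _ _
  haveI : ((Scheme.Modules.pullback (π.fiberι y)).obj L).IsQuasicoherent :=
    Groth.Agent.Lib.Helper2.PullbackSec.isQuasicoherent_pullback _ _
  haveI : QuasiCompact (π.fiberToSpecResidueField y) :=
    inferInstanceAs (QuasiCompact (pullback.snd π (Y.fromSpecResidueField y)))
  haveI : QuasiSeparated (π.fiberToSpecResidueField y) :=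
    inferInstanceAs (QuasiSeparated (pullback.snd π (Y.fromSpecResidueField y)))
  haveI := Groth.Agent.Lib.Helper23.QCohLocal.isQuasicoherent_pushforward (π.fiberToSpecResidueField y)
    ((Scheme.Modules.pullback (π.fiberι y)).obj L)
  exact Groth.Agent.Lib.T2H4.QCohAlg.epi_of_surjective_app_top _
    (surjective_bcMap_app_top_of_isGen π L hL y φ hH hne hU hyU e he hsq)

/-- the base change map of the fibre square is an epimorphism for a module pulled back from an invertible module on the
base, when `Γ(X_y, O) = κ(y)` and the fibre is nonempty -/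
theorem epi_bcMap_of_pullback (L₀ : Y.Modules) (hL₀ : PicF.IsInvertible L₀)
    (ψ : (Scheme.Modules.pullback π).obj L₀ ≅ L) (y : Y)
    (hH : Function.Bijective (π.fiberToSpecResidueField y).appTop.hom)
    (hne : Nonempty (π.fiber y))
    (hsq : IsPullback (π.fiberι y) (π.fiberToSpecResidueField y) π (Y.fromSpecResidueField y)) :
    Epi (bcMap π (Y.fromSpecResidueField y) (π.fiberι y) (π.fiberToSpecResidueField y) hsq L) := by
  haveI : L₀.IsQuasicoherent := isQuasicoherent_of_isInvertible L₀ hL₀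
  have hL : PicF.IsInvertible L :=
    Groth.Agent.Lib.Helper23.AmpleIso.isInvertible_of_iso ψ (isInvertible_pullback π L₀ hL₀)
  obtain ⟨φ⟩ := nonempty_fiberMod_iso_of_pullback π L L₀ hL₀ ψ y
  obtain ⟨W, e₀, hyW, hW, he₀⟩ := exists_affine_gen L₀ hL₀ y
  exact epi_bcMap_of_isGen π L hL y φ hH hne hW hyW _
    (isGen_of_iso ψ (isGen_unitSec π L₀ hW e₀ he₀)) hsq

end P

end Groth.Agent.Lib.T2H5.FibTriv
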