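import Mathlib
import Groth.Agent.Lib.T2H5UnitPushD
import Groth.Agent.Lib.Helper23PB
set_option backward.isDefEq.respectTransparency.types false

/-!
# The unit `L → f_* f^* L` for invertible `L` when `O_Y = f_* O_X` (helper5)

Namespace `Groth.Agent.Lib.T2H5.UnitInv`.
-/

set_option autoImplicit false
set_option linter.style.haveILetI false
set_option linter.unusedSectionVars false
set_option linter.unusedVariables false
universe u
open CategoryTheory CategoryTheory.Limits AlgebraicGeometry Opposite TopologicalSpace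

namespace Groth.Agent.Lib.T2H5.UnitInv

open Groth.Agent.Lib.Helper6 Groth.Agent.Lib.Helper23.SecTw Groth.Agent.Lib.Helper23.GenLocus
  Groth.Agent.Lib.Helper23.PB Groth.Agent.Helper13PullbackUnit Groth.Agent.Lib.Helper23.Extend
  Groth.Agent.Helper13AffBC

variable {X Y : Scheme.{u}} (f : X ⟶ Y)

/-- **projection formula for invertible modules**: if `O_Y → f_* O_X` is an isomorphism then `L → f_* f^* L` is an
isomorphism for every invertible `L` -/
theorem isIso_unit_of_isInvertible [IsIso (ClSub.unitToPush f)] (L : Y.Modules) (hL : PicF.IsInvertible L) :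
    IsIso ((Scheme.Modules.pullbackPushforwardAdjunction f).unit.app L) := by
  haveI : L.IsQuasicoherent := isQuasicoherent_of_isInvertible L hL
  let ι : Type u := {p : Σ V : Y.Opens, Γ(L, V) // IsAffineOpen p.1 ∧ IsGen L p.1 p.2}
  refine isIso_of_bijective_on_basis _ (fun i : ι => i.1.1) ?_ ?_
  · rw [Opens.isBasis_iff_nbhd]
    intro O y hyO
    obtain ⟨W, e, hyW, hW, he⟩ := exists_affine_gen L hL y
    obtain ⟨V, hV, hyV, hVle⟩ := exists_isAffineOpen_mem_and_subset (X := Y) (x := y) (U := O ⊓ W) ⟨hyO, hyW⟩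
    exact ⟨V, ⟨⟨⟨V, res L (hVle.trans inf_le_right) e⟩, hV, he.mono _⟩, rfl⟩, hyV, hVle.trans inf_le_left⟩
  · rintro ⟨⟨V, e⟩, hV, he⟩
    have hγ := isGen_unitSec f L hV e he
    haveI := Groth.Agent.Lib.T2H5.UnitPush.isIso_app_of_isIso_unitToPush f V
    have happ : Function.Bijective (f.app V).hom := ConcreteCategory.bijective_of_isIso (f.app V)
    have hu : ∀ m : Γ(L, V), ((Scheme.Modules.pullbackPushforwardAdjunction f).unit.app L).app V m =
        unitSec f L (le_refl (f ⁻¹ᵁ V)) m := by
      intro m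
      rw [unitSec_apply]
      exact (Groth.Agent.Lib.Helper23.SecTw.res_self _ _).symm
    have hsm : ∀ c : Γ(Y, V), unitSec f L (le_refl (f ⁻¹ᵁ V)) (c • e) =
        (f.app V).hom c • unitSec f L (le_refl (f ⁻¹ᵁ V)) e := by
      intro c
      rw [unitSec_smul, Scheme.Hom.appLE_eq_app]
    have hcoef : ∀ m : Γ(L, V), ∃ c : Γ(Y, V), m = c • e := by
      intro m
      refine ⟨coef he le_rfl m, ?_⟩
      have := coef_spec he le_rfl m
      rw [Groth.Agent.Lib.Helper23.SecTw.res_self] at this
      exact this.symm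
    constructor
    · intro m m' h
      obtain ⟨c, rfl⟩ := hcoef m
      obtain ⟨c', rfl⟩ := hcoef m'
      have h' : unitSec f L (le_refl (f ⁻¹ᵁ V)) (c • e) = unitSec f L (le_refl (f ⁻¹ᵁ V)) (c' • e) := by
        rw [← hu, ← hu]
        exact h
      rw [hsm, hsm] at h'
      have h2 : (f.app V).hom c = (f.app V).hom c' := by
        apply (hγ (f ⁻¹ᵁ V) le_rfl).1
        simp only []
        rw [Groth.Agent.Lib.Helper23.SecTw.res_self]
        exact h'
      rw [happ.1 h2]
    · intro n
      obtain ⟨d, hd⟩ := (hγ (f ⁻¹ᵁ V) le_rfl).2 n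
      simp only [] at hd
      rw [Groth.Agent.Lib.Helper23.SecTw.res_self] at hd
      obtain ⟨c, rfl⟩ := happ.2 d
      refine ⟨c • e, ?_⟩
      rw [hu, hsm]
      exact hd

end Groth.Agent.Lib.T2H5.UnitInv
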