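import Mathlib
import Groth.Agent.Lib.T2H5FibTrivI
import Groth.Agent.Lib.T2H5FibTrivG
import Groth.Agent.Lib.T2H5UnitInv
import Groth.Agent.Lib.Helper2TensorInv
import Groth.Agent.Lib.Helper21ModTensor5
set_option backward.isDefEq.respectTransparency.types false

/-!
# Descent of invertible modules along proper flat morphisms with integral fibres, arbitrary base (helper5)

Namespace `Groth.Agent.Lib.T2H5.FibTriv`.

* `isInvertible_of_tensorMod_iso_right`, `nonempty_iso_of_inverses`: inverses are invertible and unique.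
* `nonempty_fiberMod_iso_of_nontrivial`: `L ⊗ M ≅ O`, `H^0(X_y, L_y) ≠ 0`, `H^0(X_y, M_y) ≠ 0`, `X_y` integral with
  `Γ(X_y, O) = κ(y)`: then `L_y ≅ O`.
* `main_of_good`: if all points are good for degree zero base change of `L` and `L` is trivial on the fibres then
  `π_* L` is invertible and `π^*π_* L → L` is an isomorphism (no reducedness).
* `nonempty_iso_push_of_pullback`: `L ≅ π^* L₀` implies `L₀ ≅ π_* L`.
* `descent_iff_of_epi`: the equivalence.
-/

set_option autoImplicit false
set_option linter.style.haveILetI false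
set_option linter.unusedSectionVars false
set_option linter.unusedVariables false
universe u
open CategoryTheory CategoryTheory.Limits AlgebraicGeometry Opposite TopologicalSpace

namespace Groth.Agent.Lib.T2H5.FibTriv

open Groth.Agent.Lib.Helper6 Groth.Agent.Lib.Helper23.SecTw Groth.Agent.Lib.Helper23.GenLocus
  Groth.Agent.Lib.Helper23.PB Groth.Agent.Helper13PullbackUnit Groth.Agent.Lib.Helper23.Extend
  Groth.Agent.Lib.Helper23.AmpleIso Groth.Agent.Lib.T2H3.DualFrame

section Q

variable {X : Scheme.{u}}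

/-- a right inverse of a module for the tensor product is invertible -/
theorem isInvertible_of_tensorMod_iso_right (L M : X.Modules)
    (ε : CohB1.tensorMod L M ≅ Coh.structureModule X) : PicF.IsInvertible M :=
  Groth.Agent.Lib.Helper2.TensorInv.isInvertible_of_tensor_iso M L
    (Groth.Agent.Lib.Helper21.ModTensor5.brdApp X.sheaf M L ≪≫ ε)

/-- inverses for the tensor product are unique -/
theorem nonempty_iso_of_inverses (L M D : X.Modules)
    (ε : CohB1.tensorMod L M ≅ Coh.structureModule X) (δ : CohB1.tensorMod L D ≅ Coh.structureModule X) :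
    Nonempty (M ≅ D) :=
  ⟨(Groth.Agent.Lib.Helper23.TensorUnit.unitTensorIso M).symm ≪≫
    tensorModIso (δ.symm ≪≫ Groth.Agent.Lib.Helper21.ModTensor5.brdApp X.sheaf L D) (Iso.refl M) ≪≫
    Groth.Agent.Lib.Helper23.LocGen.tensorAssoc D L M ≪≫
    tensorModIso (Iso.refl D) ε ≪≫ Groth.Agent.Lib.Helper23.TensorUnit.tensorUnitIso D⟩

end Q

section R

variable {X Y : Scheme.{u}} (π : X ⟶ Y) (L M : X.Modules)

/-- the restrictions of inverse modules to a fibre are inverse to each other -/
theorem nonempty_tensorMod_fiberMod_iso (hL : PicF.IsInvertible L) (hM : PicF.IsInvertible M)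
    (ε : CohB1.tensorMod L M ≅ Coh.structureModule X) (y : Y) :
    Nonempty (CohB1.tensorMod (CohIII.fiberMod π L y) (CohIII.fiberMod π M y) ≅
      Coh.structureModule (π.fiber y)) := by
  obtain ⟨b⟩ := nonempty_pullback_tensorMod_iso (π.fiberι y) L M hL hM
  exact ⟨b.symm ≪≫ (Scheme.Modules.pullback (π.fiberι y)).mapIso ε ≪≫ pullbackUnitIso (π.fiberι y)⟩

/-- if `L ⊗ M ≅ O`, the fibre `X_y` is integral with `Γ(X_y, O) = κ(y)` and both `L_y`, `M_y` have nonzero global
sections, then `L_y ≅ O` -/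
theorem nonempty_fiberMod_iso_of_nontrivial (hL : PicF.IsInvertible L) (hM : PicF.IsInvertible M)
    (ε : CohB1.tensorMod L M ≅ Coh.structureModule X) (y : Y) (hint : IsIntegral (π.fiber y))
    (hH : Function.Bijective (π.fiberToSpecResidueField y).appTop.hom)
    (h1 : Nontrivial (CohIII.fiberH π L y 0)) (h2 : Nontrivial (CohIII.fiberH π M y 0)) :
    Nonempty (CohIII.fiberMod π L y ≅ Coh.structureModule (π.fiber y)) := by
  haveI := hint
  obtain ⟨εy⟩ := nonempty_tensorMod_fiberMod_iso π L M hL hM ε y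
  have hsec : ∀ (N : X.Modules), Nontrivial (CohIII.fiberH π N y 0) →
      ∃ s : Γ(CohIII.fiberMod π N y, ⊤), s ≠ 0 := by
    intro N hnt
    obtain ⟨x, hx⟩ := exists_ne (0 : CohIII.fiberH π N y 0)
    refine ⟨(show Γ(CohIII.fiberMod π N y, ⊤) from
      Groth.Agent.Lib.T2H9.H0Unit.hh0Equiv (π.fiber y) (CohIII.fiberMod π N y) x), fun h0 => hx ?_⟩
    apply (Groth.Agent.Lib.T2H9.H0Unit.hh0Equiv (π.fiber y) (CohIII.fiberMod π N y)).injective
    rw [map_zero]
    exact h0
  obtain ⟨s, hs⟩ := hsec L h1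
  obtain ⟨t, ht⟩ := hsec M h2
  have hfield : ∀ a : Γ(π.fiber y, ⊤), a ≠ 0 → IsUnit a := by
    intro a ha
    obtain ⟨c, rfl⟩ := hH.2 a
    let ε₀ : Γ(Spec (Y.residueField y), ⊤) ≃+* Y.residueField y :=
      (Scheme.ΓSpecIso (Y.residueField y)).commRingCatIsoToRingEquiv
    have hc : c ≠ 0 := by
      rintro rfl
      exact ha (map_zero _)
    have h1 : ε₀ c ≠ 0 := fun h0 => hc (ε₀.injective (h0.trans (map_zero ε₀).symm))
    have h2 : IsUnit (ε₀ c) := isUnit_iff_ne_zero.2 h1
    have h3 := h2.map ε₀.symm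
    rw [RingEquiv.symm_apply_apply] at h3
    exact h3.map _
  exact nonempty_iso_of_sections hfield _ _ (isInvertible_pullback (π.fiberι y) L hL)
    (isInvertible_pullback (π.fiberι y) _ hM) εy s t hs ht

/-- nontriviality of `H^0` of a trivial module on the fibre -/
theorem nontrivial_fiberH_of_iso (y : Y)
    (φ : CohIII.fiberMod π L y ≅ Coh.structureModule (π.fiber y))
    (hH : Function.Bijective (π.fiberToSpecResidueField y).appTop.hom) :
    Nontrivial (CohIII.fiberH π L y 0) := by
  have h := fiberRank_zero_eq_one π L y φ hH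
  by_contra hcon
  rw [not_nontrivial_iff_subsingleton] at hcon
  have h0 : CohIII.fiberRank π L 0 y = 0 := Module.finrank_zero_of_subsingleton
  omega

end R

section S

open Groth.Agent.Lib.T2H5.BC0Main Groth.Agent.Helper13AffBC

variable {X Y : Scheme.{u}} (π : X ⟶ Y) [IsProper π] [Flat π] [LocallyOfFinitePresentation π] (L M : X.Modules)

/-- if all points are good for degree zero base change of `L` and `L` is trivial on the fibres then `π_* L` is invertible and
`π^*π_* L → L` is an isomorphism -/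
theorem main_of_good (hL : PicF.IsInvertible L)
    (hH : ∀ s : Y, Function.Bijective (π.fiberToSpecResidueField s).appTop.hom)
    (hgood : ∀ y : Y, y ∈ Good π L)
    (htriv : ∀ y : Y, Nonempty (CohIII.fiberMod π L y ≅ Coh.structureModule (π.fiber y))) :
    PicF.IsInvertible ((Scheme.Modules.pushforward π).obj L) ∧
      IsIso ((Scheme.Modules.pullbackPushforwardAdjunction π).counit.app L) := by
  refine isInvertible_push_and_isIso_counit_of_local π L hL hH (fun y => ?_)
  obtain ⟨φ⟩ := htriv y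
  exact exists_open_restrict_iso π L hL y (hgood y) φ (hH y)

/-- `L ≅ π^* L₀` implies `L₀ ≅ π_* L` -/
theorem nonempty_iso_push_of_pullback
    (hH : ∀ s : Y, Function.Bijective (π.fiberToSpecResidueField s).appTop.hom)
    (L₀ : Y.Modules) (hL₀ : PicF.IsInvertible L₀) (ψ : L ≅ (Scheme.Modules.pullback π).obj L₀) :
    Nonempty (L₀ ≅ (Scheme.Modules.pushforward π).obj L) := by
  haveI := Groth.Agent.Lib.T2H5.UnitPush.isIso_unitToPush π hH
  haveI := Groth.Agent.Lib.T2H5.UnitInv.isIso_unit_of_isInvertible π L₀ hL₀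
  exact ⟨asIso ((Scheme.Modules.pullbackPushforwardAdjunction π).unit.app L₀) ≪≫
    (Scheme.Modules.pushforward π).mapIso ψ.symm⟩

/-- **descent of invertible modules along proper flat morphisms with integral fibres** over an arbitrary base: for `L` with
inverse `M`, `L ≅ π^* L₀` with `L₀` invertible iff `H^0` of `L` and `M` on every fibre is nonzero and the degree zero base
change maps of the fibre squares for `L` and `M` are epimorphisms. -/
theorem descent_iff_of_epi (hL : PicF.IsInvertible L)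
    (ε : CohB1.tensorMod L M ≅ Coh.structureModule X)
    (hH : ∀ s : Y, Function.Bijective (π.fiberToSpecResidueField s).appTop.hom)
    (hint : ∀ s : Y, IsIntegral (π.fiber s))
    (hsq : ∀ s : Y, IsPullback (π.fiberι s) (π.fiberToSpecResidueField s) π (Y.fromSpecResidueField s)) :
    ((∃ L₀ : Y.Modules, PicF.IsInvertible L₀ ∧ Nonempty (L ≅ (Scheme.Modules.pullback π).obj L₀)) ↔
      ((∀ s : Y, Nontrivial (CohIII.fiberH π L s 0)) ∧ (∀ s : Y, Nontrivial (CohIII.fiberH π M s 0)) ∧
        (∀ s : Y, Epi (bcMap π (Y.fromSpecResidueField s) (π.fiberι s) (π.fiberToSpecResidueField s)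
          (hsq s) L)) ∧
        (∀ s : Y, Epi (bcMap π (Y.fromSpecResidueField s) (π.fiberι s) (π.fiberToSpecResidueField s)
          (hsq s) M)))) ∧
    (((∀ s : Y, Nontrivial (CohIII.fiberH π L s 0)) ∧ (∀ s : Y, Nontrivial (CohIII.fiberH π M s 0)) ∧
        (∀ s : Y, Epi (bcMap π (Y.fromSpecResidueField s) (π.fiberι s) (π.fiberToSpecResidueField s)
          (hsq s) L)) ∧
        (∀ s : Y, Epi (bcMap π (Y.fromSpecResidueField s) (π.fiberι s) (π.fiberToSpecResidueField s)
          (hsq s) M))) →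
      (∀ s : Y, CohIII.fiberRank π L 0 s = 1 ∧ CohIII.fiberRank π M 0 s = 1) ∧
      PicF.IsInvertible ((Scheme.Modules.pushforward π).obj L) ∧
      IsIso ((Scheme.Modules.pullbackPushforwardAdjunction π).counit.app L)) := by
  have hM : PicF.IsInvertible M := isInvertible_of_tensorMod_iso_right L M ε
  have ε' : CohB1.tensorMod M L ≅ Coh.structureModule X :=
    Groth.Agent.Lib.Helper21.ModTensor5.brdApp X.sheaf M L ≪≫ ε
  have hfpL : CohB1.IsFP L := isFP_of_isInvertible L hL
  have hflL : FlatMod.IsFlatOver π L := Groth.Agent.Lib.T2H9.InvFlat.isFlatOver_of_isInvertible π L hL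
  have hfpM : CohB1.IsFP M := isFP_of_isInvertible M hM
  have hflM : FlatMod.IsFlatOver π M := Groth.Agent.Lib.T2H9.InvFlat.isFlatOver_of_isInvertible π M hM
  have hne : ∀ s : Y, Nonempty (π.fiber s) := fun s => by
    haveI := hint s
    infer_instance
  have key : ((∀ s : Y, Nontrivial (CohIII.fiberH π L s 0)) ∧ (∀ s : Y, Nontrivial (CohIII.fiberH π M s 0)) ∧
        (∀ s : Y, Epi (bcMap π (Y.fromSpecResidueField s) (π.fiberι s) (π.fiberToSpecResidueField s)
          (hsq s) L)) ∧
        (∀ s : Y, Epi (bcMap π (Y.fromSpecResidueField s) (π.fiberι s) (π.fiberToSpecResidueField s)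
          (hsq s) M))) →
      (∀ s : Y, CohIII.fiberRank π L 0 s = 1 ∧ CohIII.fiberRank π M 0 s = 1) ∧
      PicF.IsInvertible ((Scheme.Modules.pushforward π).obj L) ∧
      IsIso ((Scheme.Modules.pullbackPushforwardAdjunction π).counit.app L) := by
    rintro ⟨h1, h2, h3, h4⟩
    have htrivL : ∀ y : Y, Nonempty (CohIII.fiberMod π L y ≅ Coh.structureModule (π.fiber y)) := fun y =>
      nonempty_fiberMod_iso_of_nontrivial π L M hL hM ε y (hint y) (hH y) (h1 y) (h2 y)
    have htrivM : ∀ y : Y, Nonempty (CohIII.fiberMod π M y ≅ Coh.structureModule (π.fiber y)) := fun y =>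
      nonempty_fiberMod_iso_of_nontrivial π M L hM hL ε' y (hint y) (hH y) (h2 y) (h1 y)
    refine ⟨fun s => ?_, ?_⟩
    · obtain ⟨φ⟩ := htrivL s
      obtain ⟨φ'⟩ := htrivM s
      exact ⟨fiberRank_zero_eq_one π L s φ (hH s), fiberRank_zero_eq_one π M s φ' (hH s)⟩
    · exact main_of_good π L hL hH (fun y => mem_good_of_epi π L hfpL hflL y (hsq y) (h3 y)) htrivL
  refine ⟨⟨?_, fun h => ?_⟩, key⟩
  · rintro ⟨L₀, hL₀, ⟨ψ⟩⟩
    have hD₀ : PicF.IsInvertible (RefHull.dual L₀) := isInvertible_dual L₀ hL₀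
    obtain ⟨ε₀⟩ := nonempty_tensorMod_dual_iso L₀ hL₀
    obtain ⟨b⟩ := nonempty_pullback_tensorMod_iso π L₀ (RefHull.dual L₀) hL₀ hD₀
    have δ : CohB1.tensorMod L ((Scheme.Modules.pullback π).obj (RefHull.dual L₀)) ≅
        Coh.structureModule X :=
      tensorModIso ψ (Iso.refl _) ≪≫ b.symm ≪≫ (Scheme.Modules.pullback π).mapIso ε₀ ≪≫ pullbackUnitIso π
    obtain ⟨ψ'⟩ := nonempty_iso_of_inverses L M _ ε δ
    have htrivL : ∀ y : Y, Nonempty (CohIII.fiberMod π L y ≅ Coh.structureModule (π.fiber y)) := fun y =>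
      nonempty_fiberMod_iso_of_pullback π L L₀ hL₀ ψ.symm y
    have htrivM : ∀ y : Y, Nonempty (CohIII.fiberMod π M y ≅ Coh.structureModule (π.fiber y)) := fun y =>
      nonempty_fiberMod_iso_of_pullback π M _ hD₀ ψ'.symm y
    refine ⟨fun s => ?_, fun s => ?_, fun s => ?_, fun s => ?_⟩
    · obtain ⟨φ⟩ := htrivL s
      exact nontrivial_fiberH_of_iso π L s φ (hH s)
    · obtain ⟨φ⟩ := htrivM s
      exact nontrivial_fiberH_of_iso π M s φ (hH s)
    · exact epi_bcMap_of_pullback π L L₀ hL₀ ψ.symm s (hH s) (hne s) (hsq s)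
    · exact epi_bcMap_of_pullback π M _ hD₀ ψ'.symm s (hH s) (hne s) (hsq s)
  · obtain ⟨-, h2, h3⟩ := key h
    exact ⟨_, h2, ⟨(asIso ((Scheme.Modules.pullbackPushforwardAdjunction π).counit.app L)).symm⟩⟩

end S

end Groth.Agent.Lib.T2H5.FibTriv
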