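import Mathlib

/-!
# Fibrewise criteria over arbitrary residue field extensions (helper5)

Namespace `Groth.Agent.Lib.T2H5.FibreAlg`.

* `nontrivial_tensor_of_mem_support`: for a finite module `C`, a prime `p` in its support and a field `K` with
  `A → K` of kernel `p`: `K ⊗ C ≠ 0`.
* `surjective_of_forall_field`: a linear map into a finite module which is surjective after tensoring with such a field for
  every prime is surjective.
* `bijective_smul_of_fibres`: for `M` finite projective and `m₀ ∈ M`, if `K → K ⊗ M`, `c ↦ c ⊗ m₀` is bijective for such a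
  field for every prime then `A → M`, `a ↦ a • m₀` is bijective.
-/

set_option autoImplicit false
set_option linter.style.haveILetI false
universe u v w
open TensorProduct

namespace Groth.Agent.Lib.T2H5.FibreAlg

variable {A : Type u} [CommRing A]

theorem nontrivial_tensor_of_mem_support (C : Type v) [AddCommGroup C] [Module A C]
    [Module.Finite A C] (p : PrimeSpectrum A) (hp : p ∈ Module.support A C) (K : Type w) [CommRing K]
    [Algebra A K] (hKf : IsField K) (hK : RingHom.ker (algebraMap A K) = p.asIdeal) :
    Nontrivial (K ⊗[A] C) := by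
  have h1 : Nontrivial (p.asIdeal.ResidueField ⊗[A] C) :=
    (Module.mem_support_iff_nontrivial_residueField_tensorProduct p).mp hp
  let ι : p.asIdeal.ResidueField →+* K :=
    Ideal.ResidueField.lift p.asIdeal (algebraMap A K) (le_of_eq hK.symm) (by
      intro r hr
      have hne : algebraMap A K r ≠ 0 := by
        intro h0
        apply hr
        rw [← hK]
        exact h0
      obtain ⟨b, hb⟩ := hKf.mul_inv_cancel hne
      exact IsUnit.of_mul_eq_one b hb)
  letI : Algebra p.asIdeal.ResidueField K := ι.toAlgebra
  haveI : IsScalarTower A p.asIdeal.ResidueField K :=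
    IsScalarTower.of_algebraMap_eq (fun r =>
      (Ideal.ResidueField.lift_algebraMap p.asIdeal (algebraMap A K) _ _ r).symm)
  have e := AlgebraTensorModule.cancelBaseChange A p.asIdeal.ResidueField K K C
  haveI : Nontrivial K := ⟨hKf.exists_pair_ne⟩
  haveI : Nontrivial (K ⊗[p.asIdeal.ResidueField] (p.asIdeal.ResidueField ⊗[A] C)) := inferInstance
  exact e.toEquiv.symm.nontrivial

/-- a linear map into a finite module which is surjective on all fibres (over arbitrary fields) is surjective -/
theorem surjective_of_forall_field {L : Type v} {N : Type v} [AddCommGroup L] [Module A L]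
    [AddCommGroup N] [Module A N] [Module.Finite A N] (ψ : L →ₗ[A] N)
    (h : ∀ p : PrimeSpectrum A, ∃ (K : Type w) (_ : CommRing K) (_ : Algebra A K), IsField K ∧
      RingHom.ker (algebraMap A K) = p.asIdeal ∧ Function.Surjective (LinearMap.lTensor K ψ)) :
    Function.Surjective ψ := by
  let C := N ⧸ LinearMap.range ψ
  let π : N →ₗ[A] C := (LinearMap.range ψ).mkQ
  have hπ : Function.Surjective π := Submodule.mkQ_surjective _
  have hex : Function.Exact ψ π := LinearMap.exact_map_mkQ_range ψ
  have hC : Subsingleton C := by
    by_contra hM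
    rw [not_subsingleton_iff_nontrivial] at hM
    obtain ⟨p, hp⟩ := Module.nonempty_support_of_nontrivial (R := A) (M := C)
    obtain ⟨K, _, _, hKf, hK, hs⟩ := h p
    have hnt := nontrivial_tensor_of_mem_support C p hp K hKf hK
    have hex' := lTensor_exact K hex hπ
    have hz : ∀ z : K ⊗[A] C, z = 0 := by
      intro z
      obtain ⟨w, rfl⟩ := LinearMap.lTensor_surjective K hπ z
      obtain ⟨v, rfl⟩ := hs w
      exact (hex' _).mpr ⟨v, rfl⟩
    obtain ⟨a, b, hab⟩ := hnt.exists_pair_ne
    exact hab (by rw [hz a, hz b])
  rw [← LinearMap.range_eq_top]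
  exact Submodule.Quotient.subsingleton_iff.mp hC

/-- for `M` finite projective and `m₀ ∈ M`: if `K → K ⊗ M`, `c ↦ c ⊗ m₀` is bijective for a field `K` over every prime
then `a ↦ a • m₀` is bijective -/
theorem bijective_smul_of_fibres {M : Type u} [AddCommGroup M] [Module A M] [Module.Finite A M]
    [Module.Projective A M] (m₀ : M)
    (h : ∀ p : PrimeSpectrum A, ∃ (K : Type w) (_ : CommRing K) (_ : Algebra A K), IsField K ∧
      RingHom.ker (algebraMap A K) = p.asIdeal ∧ Function.Bijective (fun c : K => c ⊗ₜ[A] m₀)) :
    Function.Bijective (fun a : A => a • m₀) := by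
  let φ : A →ₗ[A] M := LinearMap.toSpanSingleton A M m₀
  have hφK : ∀ (K : Type w) [CommRing K] [Algebra A K], Function.Bijective (fun c : K => c ⊗ₜ[A] m₀) →
      Function.Bijective (LinearMap.lTensor K φ) := by
    intro K _ _ hb
    have e : (LinearMap.lTensor K φ : K ⊗[A] A → K ⊗[A] M) =
        (fun c : K => c ⊗ₜ[A] m₀) ∘ (TensorProduct.rid A K) := by
      funext z
      induction z using TensorProduct.induction_on with
      | zero => simp
      | tmul c a =>
        simp only [LinearMap.lTensor_tmul, Function.comp_apply, TensorProduct.rid_tmul, φ,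
          LinearMap.toSpanSingleton_apply]
        rw [TensorProduct.tmul_smul, TensorProduct.smul_tmul']
      | add x y hx hy =>
        simp only [map_add, Function.comp_apply, TensorProduct.add_tmul] at hx hy ⊢
        rw [hx, hy]
    rw [e]
    exact hb.comp (TensorProduct.rid A K).bijective
  have hsurj : Function.Surjective φ := by
    refine surjective_of_forall_field φ (fun p => ?_)
    obtain ⟨K, i1, i2, hKf, hK, hb⟩ := h p
    exact ⟨K, i1, i2, hKf, hK, (hφK K hb).2⟩
  obtain ⟨σ, hσ⟩ := Module.projective_lifting_property φ LinearMap.id hsurj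
  have hσsurj : Function.Surjective σ := by
    refine surjective_of_forall_field σ (fun p => ?_)
    obtain ⟨K, i1, i2, hKf, hK, hb⟩ := h p
    refine ⟨K, i1, i2, hKf, hK, ?_⟩
    intro z
    refine ⟨LinearMap.lTensor K φ z, ?_⟩
    apply (hφK K hb).1
    rw [← LinearMap.comp_apply, ← LinearMap.lTensor_comp, hσ, LinearMap.lTensor_id,
      LinearMap.id_apply]
  refine ⟨?_, fun m => ?_⟩
  · intro a b hab
    have h0 : φ (a - b) = 0 := by
      rw [map_sub]
      exact sub_eq_zero.mpr hab
    obtain ⟨m, hm⟩ := hσsurj (a - b)
    have h1 : m = 0 := by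
      have := LinearMap.congr_fun hσ m
      rw [LinearMap.comp_apply, hm, h0, LinearMap.id_apply] at this
      exact this.symm
    rw [h1, map_zero] at hm
    exact (sub_eq_zero.mp hm.symm)
  · obtain ⟨a, ha⟩ := hsurj m
    exact ⟨a, ha⟩

end Groth.Agent.Lib.T2H5.FibreAlg
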