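import Mathlib
import Groth.Agent.Lib.T2H5FinGen

/-!
# Finite surjective morphisms of integral schemes: a generically bijective map from a free module (helper5)

Namespace `Groth.Agent.Lib.T2H5.FinGen2`.
-/

set_option autoImplicit false
set_option linter.style.haveILetI false
set_option linter.unusedSectionVars false
universe u
open CategoryTheory CategoryTheory.Limits AlgebraicGeometry Opposite TopologicalSpace

namespace Groth.Agent.Lib.T2H5.FinGen2

open Groth.Agent.Lib.T2H5.IdealMul Groth.Agent.Lib.T2H5.Devissage Groth.Agent.Lib.T2H5.GenIsoA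
open Groth.Agent.Lib.T2H5.GenIsoB Groth.Agent.Lib.T2H5.GenIsoC Groth.Agent.Lib.T2H5.GenIsoD
open Groth.Agent.Lib.T2H5.GenIsoE Groth.Agent.Lib.T2H5.GenIsoF Groth.Agent.Lib.T2H5.SubSec
open Groth.Agent.Lib.T2H5.ArtinRees Groth.Agent.Lib.T2H5.ExtendHom Groth.Agent.Lib.T2H5.GenSub
open Groth.Agent.Lib.T2H5.Dev2 Groth.Agent.Lib.T2H5.PushIdeal Groth.Agent.Lib.T2H5.FinSurj
open Groth.Agent.Lib.T2H5.FinGen
open Groth.Agent.Lib.Helper23.ModLocal Groth.Agent.Lib.Helper23.QCohLocal Groth.Agent.Lib.Helper23.FinType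
open Groth.Agent.Lib.Helper2.ModExact Groth.Agent.Lib.T2H5.CohSigma
open Groth.Agent.Lib.Helper23.Extend Scheme.IdealSheafData

attribute [local instance] Abelian.hasFiniteBiproducts

variable {X Y : Scheme.{u}}

section pushout

theorem isQuasicoherent_pushout {P A B : X.Modules} [A.IsQuasicoherent] [B.IsQuasicoherent]
    [P.IsQuasicoherent] (a : P ⟶ A) (c : P ⟶ B) : (pushout a c).IsQuasicoherent := by
  haveI := isQuasicoherent_biprod A B
  have h := isQuasicoherent_cokernel (biprod.lift a (-c))
  let e : pushout a c ≅ cokernel (biprod.lift a (-c)) :=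
    IsColimit.coconePointUniqueUpToIso
      (Abelian.BiproductToPushoutIsCokernel.isColimitBiproductToPushout a c) (colimit.isColimit _)
  exact (SheafOfModules.isQuasicoherent X.ringCatSheaf).prop_of_iso e.symm h

theorem isCoh_pushout [IsLocallyNoetherian X] {P A B : X.Modules} (hA : Coh.IsCoh A) (hB : Coh.IsCoh B)
    [P.IsQuasicoherent] (a : P ⟶ A) (c : P ⟶ B) : Coh.IsCoh (pushout a c) := by
  haveI := hA.1
  haveI := hB.1
  haveI : Epi (Abelian.BiproductToPushoutIsCokernel.biproductToPushout a c) :=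
    epi_of_isColimit_cofork (Abelian.BiproductToPushoutIsCokernel.isColimitBiproductToPushout a c)
  exact isCoh_of_epi (Abelian.BiproductToPushoutIsCokernel.biproductToPushout a c)
    (isCoh_biprod A B hA hB) (isQuasicoherent_pushout a c)

end pushout

/-- pullback of modules preserves isomorphisms over opens. -/
theorem isoOn_pullback_map (f : X ⟶ Y) {A B : Y.Modules} (g : A ⟶ B) (D : Y.Opens) (hg : IsoOn g D) :
    IsoOn ((Scheme.Modules.pullback f).map g) (f ⁻¹ᵁ D) := by
  have h1 : IsIso ((Scheme.Modules.restrictFunctor D.ι).map g) := by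
    rw [isIso_restrict_iff, Scheme.Opens.opensRange_ι]; exact hg
  let E : Scheme.Modules.pullback f ⋙ Scheme.Modules.restrictFunctor (f ⁻¹ᵁ D).ι ≅
      Scheme.Modules.restrictFunctor D.ι ⋙ Scheme.Modules.pullback (f ∣_ D) :=
    Functor.isoWhiskerLeft _ (Scheme.Modules.restrictFunctorIsoPullback (f ⁻¹ᵁ D).ι) ≪≫
      Scheme.Modules.pullbackComp (f ⁻¹ᵁ D).ι f ≪≫
      Scheme.Modules.pullbackCongr (morphismRestrict_ι f D).symm ≪≫
      (Scheme.Modules.pullbackComp (f ∣_ D) D.ι).symm ≪≫
      Functor.isoWhiskerRight (Scheme.Modules.restrictFunctorIsoPullback D.ι).symm _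
  have h2 : IsIso ((Scheme.Modules.restrictFunctor D.ι ⋙ Scheme.Modules.pullback (f ∣_ D)).map g) := by
    rw [Functor.comp_map]; infer_instance
  have h3 : IsIso ((Scheme.Modules.pullback f ⋙ Scheme.Modules.restrictFunctor (f ⁻¹ᵁ D).ι).map g) :=
    (NatIso.isIso_map_iff E g).2 h2
  rw [Functor.comp_map] at h3
  have h4 := (isIso_restrict_iff (f ⁻¹ᵁ D).ι ((Scheme.Modules.pullback f).map g)).1 h3
  rwa [Scheme.Opens.opensRange_ι] at h4

open Groth.Agent.Lib.Helper26.ModSec in
/-- **Generic comparison, covariant form**: for a finite surjective morphism `f : X ⟶ Y` of integral Noetherian schemes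
there are `r ≥ 1`, a coherent `M` on `X` and `O_Y^r ⟶ f_* M`, an isomorphism near the generic point. -/
theorem exists_free_to_push [IsIntegral X] [IsNoetherian X] [IsIntegral Y] [IsNoetherian Y]
    (f : X ⟶ Y) [IsFinite f] [Surjective f] :
    ∃ (r : ℕ) (M : X.Modules) (α : (∐ fun _ : Fin r => Coh.structureModule Y) ⟶
        (Scheme.Modules.pushforward f).obj M) (D : Y.Opens),
      0 < r ∧ Coh.IsCoh M ∧ genericPoint Y ∈ D ∧ IsoOn α D := by
  have hOX : Coh.IsCoh (Coh.structureModule X) := isCoh_structureModule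
  have hOY : Coh.IsCoh (Coh.structureModule Y) := isCoh_structureModule
  haveI := hOX.1
  have hA : Coh.IsCoh ((Scheme.Modules.pushforward f).obj (Coh.structureModule X)) :=
    isCoh_pushforward_finite f _ hOX
  haveI := hA.1
  obtain ⟨D, r, hη, ⟨b⟩⟩ := exists_generic_free _ hA
  have hr : 0 < r := by
    rcases Nat.eq_zero_or_pos r with h0 | h0
    · exfalso
      subst h0
      obtain ⟨x, hx⟩ := f.surjective (genericPoint Y)
      have h1 := subsingleton_stalk_of_iso_freeMod_zero D _ b (genericPoint Y) hη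
      have h2 := mem_support_pushforward_structureModule f x
      rw [hx] at h2
      exact h2 h1
    · exact h0
  have hE : Coh.IsCoh (∐ fun _ : Fin r => Coh.structureModule Y) := isCoh_sigma _ fun _ => hOY
  haveI := hE.1
  let φ : (∐ fun _ : Fin r => Coh.structureModule Y).restrict D.ι ≅
      ((Scheme.Modules.pushforward f).obj (Coh.structureModule X)).restrict D.ι :=
    Groth.Agent.Lib.Helper20.LocFree.restrictFreeMod D.ι r ≪≫ b.symm
  set I₀ := vanishingIdeal ⟨(D : Set Y)ᶜ, D.2.isClosed_compl⟩ with hI₀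
  have hsupp : (I₀.support : Set Y) = (D : Set Y)ᶜ := coe_support_vanishingIdeal _
  have hD : (D : Set Y) = (I₀.support : Set Y)ᶜ := by rw [hsupp, compl_compl]
  have hdisj : (I₀.support : Set Y) ∩ D = ∅ := by rw [hsupp]; exact Set.compl_inter_self _
  obtain ⟨n, ψ, hψ⟩ := exists_pow_extension ((Scheme.Modules.pushforward f).obj (Coh.structureModule X))
    (∐ fun _ : Fin r => Coh.structureModule Y) hE I₀ D hD φ.hom
  set incl := Dual3.idealMulι (I₀ ^ n) (∐ fun _ : Fin r => Coh.structureModule Y) with hincl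
  have hinc : IsoOn incl D := isoOn_idealMulι_pow I₀ _ D hdisj n
  have hψD : IsoOn ψ D := by
    have h1 : IsIso ((Scheme.Modules.restrictFunctor D.ι).map incl) := by
      rw [isIso_restrict_iff, Scheme.Opens.opensRange_ι]; exact hinc
    have h2 : IsIso ((Scheme.Modules.restrictFunctor D.ι).map ψ) := by rw [hψ]; infer_instance
    have h3 := (isIso_restrict_iff D.ι ψ).1 h2
    rwa [Scheme.Opens.opensRange_ι] at h3
  -- the construction on `X`
  let adj := Scheme.Modules.pullbackPushforwardAdjunction f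
  let L := Scheme.Modules.pullback f
  let R := Scheme.Modules.pushforward f
  let a : L.obj ((Dual3.idealMul (I₀ ^ n)).obj (∐ fun _ : Fin r => Coh.structureModule Y)) ⟶
      L.obj (∐ fun _ : Fin r => Coh.structureModule Y) := L.map incl
  let c : L.obj ((Dual3.idealMul (I₀ ^ n)).obj (∐ fun _ : Fin r => Coh.structureModule Y)) ⟶
      Coh.structureModule X := L.map ψ ≫ adj.counit.app (Coh.structureModule X)
  have hLE : Coh.IsCoh (L.obj (∐ fun _ : Fin r => Coh.structureModule Y)) := isCoh_pullback f _ hE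
  have hLQ : Coh.IsCoh (L.obj ((Dual3.idealMul (I₀ ^ n)).obj (∐ fun _ : Fin r => Coh.structureModule Y))) :=
    isCoh_pullback f _ (isCoh_idealMul _ _ hE)
  haveI := hLQ.1
  have hM : Coh.IsCoh (pushout a c) := isCoh_pushout hLE hOX a c
  have haU : IsoOn a (f ⁻¹ᵁ D) := isoOn_pullback_map f incl D hinc
  have hinrU : IsoOn (pushout.inr a c) (f ⁻¹ᵁ D) := by
    have hpo := (IsPushout.of_hasPushout a c).map (Scheme.Modules.restrictFunctor (f ⁻¹ᵁ D).ι)
    have h1 : IsIso ((Scheme.Modules.restrictFunctor (f ⁻¹ᵁ D).ι).map a) := by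
      rw [isIso_restrict_iff, Scheme.Opens.opensRange_ι]; exact haU
    have h2 := hpo.isIso_inr_of_isIso h1
    have h3 := (isIso_restrict_iff (f ⁻¹ᵁ D).ι (pushout.inr a c)).1 h2
    rwa [Scheme.Opens.opensRange_ι] at h3
  have hRinr : IsoOn (R.map (pushout.inr a c)) D := isoOn_pushforward f _ (f ⁻¹ᵁ D) hinrU D le_rfl
  let uE : (∐ fun _ : Fin r => Coh.structureModule Y) ⟶
      R.obj (L.obj (∐ fun _ : Fin r => Coh.structureModule Y)) := adj.unit.app _
  let α : (∐ fun _ : Fin r => Coh.structureModule Y) ⟶ R.obj (pushout a c) :=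
    uE ≫ R.map (pushout.inl a c)
  refine ⟨r, pushout a c, α, D, hr, hM, hη, ?_⟩
  -- the key identity
  have key : incl ≫ α = ψ ≫ R.map (pushout.inr a c) := by
    have e1 : incl ≫ uE = adj.unit.app _ ≫ R.map (L.map incl) := adj.unit.naturality incl
    have e2 : ψ ≫ adj.unit.app (R.obj (Coh.structureModule X)) = adj.unit.app _ ≫ R.map (L.map ψ) :=
      adj.unit.naturality ψ
    have e3 : adj.unit.app (R.obj (Coh.structureModule X)) ≫ R.map (adj.counit.app (Coh.structureModule X)) =
        𝟙 _ := adj.right_triangle_components (Coh.structureModule X)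
    calc incl ≫ α
        = (incl ≫ uE) ≫ R.map (pushout.inl a c) := by rw [Category.assoc]
      _ = adj.unit.app _ ≫ R.map (a ≫ pushout.inl a c) := by
          rw [e1, Category.assoc, ← R.map_comp]
      _ = adj.unit.app _ ≫ R.map (c ≫ pushout.inr a c) := by rw [pushout.condition]
      _ = (adj.unit.app _ ≫ R.map (L.map ψ)) ≫ R.map (adj.counit.app (Coh.structureModule X)) ≫
            R.map (pushout.inr a c) := by
          simp only [c, R.map_comp, Category.assoc]
      _ = ψ ≫ R.map (pushout.inr a c) := by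
          rw [← e2, Category.assoc, ← Category.assoc (adj.unit.app _), e3, Category.id_comp]
  intro W hW
  haveI := hinc W hW
  haveI := hψD W hW
  haveI := hRinr W hW
  have h5 : IsIso (incl.app W ≫ α.app W) := by
    rw [← Scheme.Modules.Hom.comp_app, key, Scheme.Modules.Hom.comp_app]
    infer_instance
  exact IsIso.of_isIso_comp_left (incl.app W) _

end Groth.Agent.Lib.T2H5.FinGen2
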