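import Mathlib
import Groth.Agent.Lib.T2H5GlueInvC
import Groth.Agent.Lib.T2H5GlueInvD
import Groth.Agent.Lib.Helper23Restr
set_option backward.isDefEq.respectTransparency.types false

/-!
# T2H5FiniteIsoPic (helper5): for a finite morphism `f : X ⟶ Y` which is an isomorphism over an open `V` with discrete
complement, every invertible module on `X` is pulled back from `Y`.

Namespace `Groth.Agent.Lib.T2H5.FiniteIsoPic`.
-/

set_option autoImplicit false
set_option linter.style.haveILetI false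
set_option linter.unusedSectionVars false
set_option linter.unusedVariables false
universe u
open CategoryTheory CategoryTheory.Limits AlgebraicGeometry TopologicalSpace Opposite

namespace Groth.Agent.Lib.T2H5.FiniteIsoPic

open Groth.Agent.Lib.Helper6 Groth.Agent.Helper13ModGlue Groth.Agent.Lib.Helper23.SecTw
  Groth.Agent.Lib.Helper23.GenLocus Groth.Agent.Lib.T2H5.GlueInv

variable {X Y : Scheme.{u}} (f : X ⟶ Y)

theorem bijective_app_image (V : Y.Opens) [IsIso (f ∣_ V)] (W' : (↑V : Scheme.{u}).Opens) :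
    Function.Bijective (f.app (V.ι ''ᵁ W')) := by
  have h0 : Function.Bijective ((f ∣_ V).app W') := ConcreteCategory.bijective_of_isIso _
  have h2 : Function.Bijective (X.presheaf.map (eqToHom (image_morphismRestrict_preimage f V W')).op) :=
    ConcreteCategory.bijective_of_isIso _
  have h1 : ∀ r, (f ∣_ V).app W' r =
      X.presheaf.map (eqToHom (image_morphismRestrict_preimage f V W')).op (f.app (V.ι ''ᵁ W') r) := by
    intro r
    have h := morphismRestrict_app f V W'
    exact congrArg (fun φ => (ConcreteCategory.hom φ) r) h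
  have h3 : (fun r => (f ∣_ V).app W' r) =
      (fun t => X.presheaf.map (eqToHom (image_morphismRestrict_preimage f V W')).op t) ∘
        (fun r => f.app (V.ι ''ᵁ W') r) := funext h1
  have h4 : Function.Bijective
      ((fun t => X.presheaf.map (eqToHom (image_morphismRestrict_preimage f V W')).op t) ∘
        (fun r => f.app (V.ι ''ᵁ W') r)) := by
    rw [← h3]
    exact h0
  exact (Function.Bijective.of_comp_iff' h2 _).1 h4

/-- if `f` is an isomorphism over `V`, the maps on functions over the opens `W ≤ V` are bijective -/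
theorem bijective_app_of_le (V : Y.Opens) [IsIso (f ∣_ V)] (W : Y.Opens) (hW : W ≤ V) :
    Function.Bijective (f.app W) := by
  have h1 : W = V.ι ''ᵁ (V.ι ⁻¹ᵁ W) := (image_preimage_of_le V hW).symm
  rw [h1]
  exact bijective_app_image f V _

/-- an invertible module on the source of a finite morphism is trivial over the preimage of a small affine neighbourhood
of any point of the target -/
theorem exists_nhd_gen [IsFinite f] (L : X.Modules) (hL : PicF.IsInvertible L) (y : Y) (O : Y.Opens)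
    (hyO : y ∈ O) :
    ∃ T : Y.Opens, y ∈ T ∧ T ≤ O ∧ IsAffineOpen T ∧ ∃ e : Γ(L, f ⁻¹ᵁ T), IsGen L (f ⁻¹ᵁ T) e := by
  obtain ⟨_, ⟨T₀, hT₀, rfl⟩, hyT₀, hT₀O⟩ := Y.isBasis_affineOpens.exists_subset_of_mem_open hyO O.2
  have haff : IsAffineOpen (f ⁻¹ᵁ T₀) := hT₀.preimage f
  have hfin : (f ⁻¹' {y}).Finite := f.finite_preimage_singleton y
  have hsub : f ⁻¹' {y} ⊆ (f ⁻¹ᵁ T₀ : X.Opens) := by
    intro x hx
    have hx' : f x = y := hx
    change f x ∈ T₀
    rw [hx']
    exact hyT₀
  obtain ⟨g, hFg, hiso⟩ := Groth.Agent.Lib.Helper2.SemiLocFree.exists_basicOpen_iso_freeMod L 1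
    (isFinLocFreeOfRank_one_of_isInvertible L hL) _ hfin haff hsub
  obtain ⟨e₀, he₀⟩ := exists_isGen_of_iso_freeMod L _ hiso
  have hcl : IsClosed (f '' ((X.basicOpen g : Set X)ᶜ)) :=
    f.isClosedMap _ (X.basicOpen g).isOpen.isClosed_compl
  let T₁ : Y.Opens := ⟨(f '' ((X.basicOpen g : Set X)ᶜ))ᶜ, hcl.isOpen_compl⟩
  have hyT₁ : y ∈ T₁ := by
    rintro ⟨x, hx, hxy⟩
    exact hx (hFg hxy)
  obtain ⟨_, ⟨T, hT, rfl⟩, hyT, hTle⟩ := Y.isBasis_affineOpens.exists_subset_of_mem_open
    (show y ∈ T₀ ⊓ T₁ from ⟨hyT₀, hyT₁⟩) (T₀ ⊓ T₁).2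
  have hpre : f ⁻¹ᵁ T ≤ X.basicOpen g := by
    intro x hx
    by_contra hxg
    exact (hTle hx).2 ⟨x, hxg, rfl⟩
  exact ⟨T, hyT, fun z hz => hT₀O (hTle hz).1, hT, res L hpre e₀, he₀.mono hpre⟩

/-- **`Pic Y → Pic X` is surjective** for a finite morphism `X ⟶ Y` which is an isomorphism over an open with discrete
complement. -/
theorem exists_invertible_pullback_iso [IsFinite f] (V : Y.Opens) (hV : IsIso (f ∣_ V))
    (hdisc : DiscreteTopology ↥((V : Set Y)ᶜ)) (L : X.Modules) (hL : PicF.IsInvertible L) :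
    ∃ N : Y.Modules, PicF.IsInvertible N ∧ Nonempty ((Scheme.Modules.pullback f).obj N ≅ L) := by
  haveI := hV
  have hdata : ∀ y : Y, ∃ T : Y.Opens, y ∈ T ∧ (∀ z ∈ T, z ∉ V → z = y) ∧ IsAffineOpen T ∧
      ∃ e : Γ(L, f ⁻¹ᵁ T), IsGen L (f ⁻¹ᵁ T) e := by
    intro y
    by_cases hy : y ∈ V
    · obtain ⟨T, hyT, hTV, hT, e, he⟩ := exists_nhd_gen f L hL y V hy
      exact ⟨T, hyT, fun z hz hzV => absurd (hTV hz) hzV, hT, e, he⟩
    · obtain ⟨O, hyO, hO⟩ := exists_open_isolating Y V hdisc y hy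
      obtain ⟨T, hyT, hTO, hT, e, he⟩ := exists_nhd_gen f L hL y O hyO
      exact ⟨T, hyT, fun z hz hzV => hO z (hTO hz) hzV, hT, e, he⟩
  choose T hyT hiso hTaff e he using hdata
  let P : Y.Modules := (Scheme.Modules.pushforward f).obj L
  let e' : ∀ i, Γ(P, T i) := fun i => e i
  have hgen : ∀ (i : Y) (W : Y.Opens) (hW : W ≤ T i), W ≤ V →
      Function.Bijective (fun r : Γ(Y, W) => r • res P hW (e' i)) := by
    intro i W hW hWV
    have h1 := he i (f ⁻¹ᵁ W) (f.preimage_mono hW)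
    have h2 : Function.Bijective (f.app W) := bijective_app_of_le f V W hWV
    have h3 : (fun r : Γ(Y, W) => r • res P hW (e' i)) =
        (fun r' : Γ(X, f ⁻¹ᵁ W) => r' • res L (f.preimage_mono hW) (e i)) ∘
          (fun r : Γ(Y, W) => f.app W r) := by
      funext r
      rfl
    rw [h3]
    exact h1.comp h2
  have hTU : ∀ i j, i ≠ j → T i ⊓ T j ≤ V := by
    intro i j hij z hz
    by_contra hzV
    exact hij ((hiso i z hz.1 hzV).symm.trans (hiso j z hz.2 hzV))
  have hT : iSup T = ⊤ := by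
    rw [eq_top_iff]
    intro y _
    exact Opens.mem_iSup.2 ⟨y, hyT y⟩
  obtain ⟨N, hN, ε, ψ, hε, hψ⟩ := exists_glue V P T e' hgen hTU hT
  haveI : N.IsQuasicoherent := isQuasicoherent_of_isInvertible N hN
  refine ⟨N, hN, nonempty_pullback_iso_of_gens f N L ψ T hT hTaff ε hε (fun i => ?_)⟩
  have h1 := hψ i (T i) le_rfl 1
  rw [one_smul, one_smul, Groth.Agent.Helper13ModGlue.res_self, Groth.Agent.Helper13ModGlue.res_self] at h1
  have h2 : (show Γ(L, f ⁻¹ᵁ T i) from ψ.app (T i) (ε i)) = e i := h1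
  rw [h2]
  exact he i

end Groth.Agent.Lib.T2H5.FiniteIsoPic
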