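import Mathlib
import Groth.Agent.Lib.T2H5FlatBCA

/-!
# T2H5FlatBCG (helper5): tensoring `Ext` groups with a finite projective module

Abstract part of base change along a finite locally free algebra: if the balanced family `Φ : M → Hom(F, G)` has a
"dual basis" (`bb i ∈ M`, `lam i : M → A` with `m = ∑ lam i m • bb i`, and morphisms `Λ i : G ⟶ F` with
`φ m ≫ Λ i = lam i m` and `∑ Λ i ≫ φ (bb i) = 𝟙`), then `theta Φ Z p : Ext^p(Z, F) ⊗_A M → Ext^p(Z, G)` is bijective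
for every `Z` and `p` (`pz_of_dual`).  No flatness or finiteness hypothesis on `Z`.
-/

set_option autoImplicit false
set_option backward.isDefEq.respectTransparency.types false
set_option linter.style.haveILetI false
set_option linter.unusedSectionVars false
set_option linter.unusedVariables false
universe w v' u' uA uM
open CategoryTheory CategoryTheory.Limits Abelian TensorProduct

namespace Groth.Agent.Lib.T2H5.FlatBC

variable {C : Type u'} [Category.{v'} C] [Abelian C] [HasExt.{w} C]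
variable {A : Type uA} [CommRing A]
variable {F G : C} {aF : A →+* End F} {aG : A →+* End G}
variable {M : Type uM} [AddCommGroup M] [Module A M] (Φ : Fam aF aG M)

/-- a class, viewed in the module `EM aF Z p` -/
def toEM {F : C} (aF : A →+* End F) {Z : C} {p : ℕ} (x : Ext.{w} Z F p) : EM aF Z p := x

theorem toEM_add {F : C} (aF : A →+* End F) {Z : C} {p : ℕ} (x y : Ext.{w} Z F p) :
    toEM aF (x + y) = toEM aF x + toEM aF y := rfl

theorem toEM_zero {F : C} (aF : A →+* End F) {Z : C} {p : ℕ} :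
    toEM aF (0 : Ext.{w} Z F p) = 0 := rfl

theorem toEM_sum {F : C} (aF : A →+* End F) {Z : C} {p : ℕ} {ι : Type} [Fintype ι] (x : ι → Ext.{w} Z F p) :
    toEM aF (∑ i, x i) = ∑ i, toEM aF (x i) := rfl

theorem smul_toEM {F : C} (aF : A →+* End F) {Z : C} {p : ℕ} (a : A) (x : Ext.{w} Z F p) :
    a • toEM aF x = toEM aF (x.comp (Ext.mk₀ (aF a : F ⟶ F)) (add_zero p)) := rfl

theorem theta_toEM (Z : C) (p : ℕ) (x : Ext.{w} Z F p) (m : M) :
    theta Φ Z p (toEM aF x ⊗ₜ m) = toEM aG (x.comp (Ext.mk₀ (Φ.φ m)) (add_zero p)) := rfl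

/-- the inverse of `theta` attached to a dual basis -/
noncomputable def rhoDual {ι : Type} [Fintype ι] (bb : ι → M) (Λ : ι → (G ⟶ F)) (Z : C) (p : ℕ)
    (y : Ext.{w} Z G p) : EM aF Z p ⊗[A] M :=
  ∑ i, toEM aF (y.comp (Ext.mk₀ (Λ i)) (add_zero p)) ⊗ₜ[A] bb i

theorem rhoDual_add {ι : Type} [Fintype ι] (bb : ι → M) (Λ : ι → (G ⟶ F)) (Z : C) (p : ℕ)
    (y y' : Ext.{w} Z G p) :
    rhoDual (aF := aF) bb Λ Z p (y + y') = rhoDual (aF := aF) bb Λ Z p y + rhoDual (aF := aF) bb Λ Z p y' := by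
  unfold rhoDual
  rw [← Finset.sum_add_distrib]
  refine Finset.sum_congr rfl (fun i _ => ?_)
  rw [Ext.add_comp, toEM_add, TensorProduct.add_tmul]

theorem rhoDual_zero {ι : Type} [Fintype ι] (bb : ι → M) (Λ : ι → (G ⟶ F)) (Z : C) (p : ℕ) :
    rhoDual (aF := aF) bb Λ Z p (0 : Ext.{w} Z G p) = 0 := by
  unfold rhoDual
  refine Finset.sum_eq_zero (fun i _ => ?_)
  rw [Ext.zero_comp, toEM_zero, TensorProduct.zero_tmul]

theorem pz_of_dual {ι : Type} [Fintype ι] (bb : ι → M) (lam : ι → (M →ₗ[A] A))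
    (hb : ∀ m, ∑ i, lam i m • bb i = m)
    (Λ : ι → (G ⟶ F))
    (h1 : ∀ (m : M) (i : ι), Φ.φ m ≫ Λ i = (aF (lam i m) : F ⟶ F))
    (h2 : ∑ i, Λ i ≫ Φ.φ (bb i) = 𝟙 G) (Z : C) : PZ Φ Z := by
  intro p
  refine Function.bijective_iff_has_inverse.2
    ⟨fun y => rhoDual (aF := aF) bb Λ Z p (y : Ext.{w} Z G p), fun t => ?_, fun y => ?_⟩
  · change rhoDual (aF := aF) bb Λ Z p (theta Φ Z p t : Ext.{w} Z G p) = t
    induction t using TensorProduct.induction_on with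
    | zero =>
      rw [map_zero]
      exact rhoDual_zero bb Λ Z p
    | tmul x m =>
      obtain ⟨x, rfl⟩ : ∃ x' : Ext.{w} Z F p, toEM aF x' = x := ⟨x, rfl⟩
      rw [theta_toEM]
      change ∑ i, toEM aF ((x.comp (Ext.mk₀ (Φ.φ m)) (add_zero p)).comp (Ext.mk₀ (Λ i)) (add_zero p)) ⊗ₜ[A] bb i =
        toEM aF x ⊗ₜ m
      have key : ∀ i, toEM aF ((x.comp (Ext.mk₀ (Φ.φ m)) (add_zero p)).comp (Ext.mk₀ (Λ i)) (add_zero p)) =
          lam i m • toEM aF x := by
        intro i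
        rw [smul_toEM, Ext.comp_assoc_of_third_deg_zero, Ext.mk₀_comp_mk₀, h1]
      calc ∑ i, toEM aF ((x.comp (Ext.mk₀ (Φ.φ m)) (add_zero p)).comp (Ext.mk₀ (Λ i)) (add_zero p)) ⊗ₜ[A] bb i
          = ∑ i, toEM aF x ⊗ₜ[A] (lam i m • bb i) := by
            refine Finset.sum_congr rfl (fun i _ => ?_)
            rw [key i, TensorProduct.smul_tmul]
        _ = toEM aF x ⊗ₜ[A] (∑ i, lam i m • bb i) := (TensorProduct.tmul_sum _ _ _).symm
        _ = toEM aF x ⊗ₜ m := by rw [hb]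
    | add s t hs ht =>
      rw [map_add]
      exact (rhoDual_add bb Λ Z p _ _).trans (by rw [hs, ht])
  · obtain ⟨y, rfl⟩ : ∃ y' : Ext.{w} Z G p, toEM aG y' = y := ⟨y, rfl⟩
    change theta Φ Z p (∑ i, toEM aF (y.comp (Ext.mk₀ (Λ i)) (add_zero p)) ⊗ₜ[A] bb i) = toEM aG y
    rw [map_sum]
    calc ∑ i, theta Φ Z p (toEM aF (y.comp (Ext.mk₀ (Λ i)) (add_zero p)) ⊗ₜ[A] bb i)
        = ∑ i, toEM aG (y.comp (Ext.mk₀ (Λ i ≫ Φ.φ (bb i))) (add_zero p)) := by
          refine Finset.sum_congr rfl (fun i _ => ?_)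
          rw [theta_toEM, Ext.comp_assoc_of_third_deg_zero, Ext.mk₀_comp_mk₀]
      _ = toEM aG (∑ i, y.comp (Ext.mk₀ (Λ i ≫ Φ.φ (bb i))) (add_zero p)) := (toEM_sum aG _).symm
      _ = toEM aG (y.comp (Ext.mk₀ (𝟙 G)) (add_zero p)) := by
          rw [← Ext.comp_sum, ← Ext.mk₀_sum, h2]
      _ = toEM aG y := by rw [Ext.comp_mk₀_id]

end Groth.Agent.Lib.T2H5.FlatBC
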