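import Mathlib
import Groth.Agent.Lib.T2H5FlatBCE
import Groth.Agent.Lib.T2H5FlatBCG

/-!
# T2H5FlatBCH (helper5): base change of cohomology along a finite locally free algebra

`A → B` with `B` finite projective as an `A`-module, `X` ANY scheme over `Spec A`, `X' = X ×_A Spec B`,
`g : X' ⟶ X`, `F` quasi-coherent on `X`: `B ⊗_A H^q(X, F) ≃ H^q(X', g^*F)` as `B`-modules
(`finite_projective_base_change`).
-/

set_option autoImplicit false
set_option backward.isDefEq.respectTransparency.types false
set_option linter.style.haveILetI false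
set_option linter.unusedSectionVars false
set_option linter.unusedVariables false
universe u
open CategoryTheory CategoryTheory.Limits Abelian TensorProduct TopologicalSpace Opposite AlgebraicGeometry

namespace Groth.Agent.Lib.T2H5.FlatBC

open Groth.Agent.Lib.Helper23.AffVanish Groth.Agent.Helper13PullbackUnit

section Assembly

variable (A A' : Type u) [CommRing A] [CommRing A'] [Algebra A A']
  {X X' : Scheme.{u}} [X.Over (Spec (CommRingCat.of A))] [X'.Over (Spec (CommRingCat.of A'))]
  (g : X' ⟶ X)
  (hg : g ≫ (X ↘ Spec (CommRingCat.of A)) =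
    (X' ↘ Spec (CommRingCat.of A')) ≫ Spec.map (CommRingCat.ofHom (algebraMap A A')))
  (F : X.Modules) (G' : X'.Modules)
  (N : Type u) [AddCommGroup N] [Module A' N] [Module A N] [IsScalarTower A A' N]
  (ψ : N →+ ((Scheme.Modules.pullback g).obj F ⟶ G'))
  (hψ : ∀ (a' : A') (n : N), ψ (a' • n) = ψ n ≫ Formal.smulMod A' G' a')

include hg hψ in
/-- the assembly of `nonempty_linearEquiv`, from the bijectivity of `theta` on the constant sheaf -/
theorem nonempty_linearEquiv_of_theta [IsAffineHom g] [G'.IsQuasicoherent] (q : ℕ)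
    (hθ : Function.Bijective (theta (fam A A' g hg F G' N ψ hψ) (ZU (⊤ : X.Opens)) q)) :
    Nonempty (N ⊗[A] Coh.HH X F q ≃ₗ[A'] Coh.HH X' G' q) := by
  let Φ := fam A A' g hg F G' N ψ hψ
  let e1 : N ⊗[A] Coh.HH X F q ≃ₗ[A] Coh.HH X F q ⊗[A] N := TensorProduct.comm A _ _
  let e2 : Coh.HH X F q ⊗[A] N ≃ₗ[A] EM (actA A F) (ZU (⊤ : X.Opens)) q ⊗[A] N :=
    TensorProduct.congr (topLin A F q).symm (LinearEquiv.refl A N)
  let t : N ⊗[A] Coh.HH X F q → Coh.HH X' G' q := fun z =>
    CohPull.pushEdge g G' q (topLin A ((Scheme.Modules.pushforward g).obj G') q (theta Φ (ZU (⊤ : X.Opens)) q (e2 (e1 z))))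
  have ht_bij : Function.Bijective t :=
    (Groth.Agent.Lib.T2H5.PushEdge.pushEdge_bijective_of_isAffineHom g G' q).comp
      ((topLin A ((Scheme.Modules.pushforward g).obj G') q).bijective.comp (hθ.comp (e2.bijective.comp e1.bijective)))
  have ht_add : ∀ z w, t (z + w) = t z + t w := by
    intro z w
    simp only [t, map_add]
  have ht_tmul : ∀ (n : N) (x : Coh.HH X F q), t (n ⊗ₜ x) =
      CohPull.pushEdge g G' q (Sheaf.H.map (Φ.φ n) q x) := by
    intro n x
    change CohPull.pushEdge g G' q (topLin A ((Scheme.Modules.pushforward g).obj G') q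
      (theta Φ (ZU (⊤ : X.Opens)) q (((topLin A F q).symm x) ⊗ₜ n))) = _
    rw [theta_tmul, topLin_apply, HETopEquivH_comp, ← topLin_apply A F q, LinearEquiv.apply_symm_apply]
    rfl
  have ht_smul : ∀ (a' : A') (z : N ⊗[A] Coh.HH X F q), t (a' • z) = a' • t z := by
    intro a' z
    induction z using TensorProduct.induction_on with
    | zero =>
      rw [smul_zero]
      have h0 : t 0 = 0 := by
        have := ht_add 0 0
        rw [add_zero] at this
        have h := congrArg (fun s => s - t 0) this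
        simpa using h.symm
      rw [h0, smul_zero]
    | tmul n x =>
      rw [TensorProduct.smul_tmul', ht_tmul, ht_tmul]
      change CohPull.pushEdge g G' q (Sheaf.H.map
          ((SheafOfModules.toSheaf X.ringCatSheaf).map (phiMod g F G' N ψ (a' • n))) q x) =
        Sheaf.H.map (Coh.smulAb G' (Coh.toGlobal (X' ↘ Spec (CommRingCat.of A')) a')) q
          (CohPull.pushEdge g G' q (Sheaf.H.map
            ((SheafOfModules.toSheaf X.ringCatSheaf).map (phiMod g F G' N ψ n)) q x))
      have h0 := toSheaf_phiMod_smul A' g F G' N ψ hψ a' n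
      have h1 : Sheaf.H.map ((SheafOfModules.toSheaf X.ringCatSheaf).map (phiMod g F G' N ψ (a' • n))) q x =
          Sheaf.H.map ((CohTop.push g.base).map
            (Coh.smulAb G' (Coh.toGlobal (X' ↘ Spec (CommRingCat.of A')) a'))) q
            (Sheaf.H.map ((SheafOfModules.toSheaf X.ringCatSheaf).map (phiMod g F G' N ψ n)) q x) := by
        refine Eq.trans (congrArg (fun φ => Sheaf.H.map φ q x) h0) ?_
        exact (Groth.Agent.Lib.T2H5.PushEdge.H_map_comp _ _ q x).symm
      have hE : ∀ y, CohPull.pushEdge g G' q y =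
          Groth.Agent.Lib.T2H5.PushEdge.edgeAb g.base (Coh.toAb G') q y := fun y =>
        congrArg (fun h => h y) (Groth.Agent.Lib.T2H5.PushEdge.pushEdge_eq g G' q)
      have h2 := Groth.Agent.Lib.T2H5.PushEdge.edgeAb_nat g.base
        (Coh.smulAb G' (Coh.toGlobal (X' ↘ Spec (CommRingCat.of A')) a')) q
        (Sheaf.H.map ((SheafOfModules.toSheaf X.ringCatSheaf).map (phiMod g F G' N ψ n)) q x)
      exact ((congrArg (CohPull.pushEdge g G' q) h1).trans (hE _)).trans
        (h2.trans (congrArg (fun z => Sheaf.H.map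
          (Coh.smulAb G' (Coh.toGlobal (X' ↘ Spec (CommRingCat.of A')) a')) q z) (hE _).symm))
    | add z w hz hw => rw [smul_add, ht_add, ht_add, hz, hw, smul_add]
  exact ⟨LinearEquiv.ofBijective
    ({ toFun := t, map_add' := ht_add, map_smul' := ht_smul } : N ⊗[A] Coh.HH X F q →ₗ[A'] Coh.HH X' G' q)
    ht_bij⟩

end Assembly

section Dual

variable (A B : Type u) [CommRing A] [CommRing B] [Algebra A B]
  {X X' : Scheme.{u}} [X.Over (Spec (CommRingCat.of A))] [X'.Over (Spec (CommRingCat.of B))]
  (g : X' ⟶ X)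
  (hg : g ≫ (X ↘ Spec (CommRingCat.of A)) =
    (X' ↘ Spec (CommRingCat.of B)) ≫ Spec.map (CommRingCat.ofHom (algebraMap A B)))
  (sq : IsPullback g (X' ↘ Spec (CommRingCat.of B)) (X ↘ Spec (CommRingCat.of A))
    (Spec.map (CommRingCat.ofHom (algebraMap A B))))
  (F : X.Modules) [F.IsQuasicoherent]

/-- the chosen identification `B ⊗_A Γ(W, F) ≃ Γ(g⁻¹W, g^*F)` for `W` affine -/
noncomputable def betaE (W : X.Opens) (hW : IsAffineOpen W) :
    B ⊗[A] SecA A F W ≃ₗ[B] SecA B ((Scheme.Modules.pullback g).obj F) (g ⁻¹ᵁ W) :=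
  LinearEquiv.ofBijective (Classical.choose (exists_beta A B g hg sq F W hW))
    (Classical.choose_spec (exists_beta A B g hg sq F W hW)).1

/-- the section `g^♯ x` of `g^*F` over `g⁻¹W` -/
noncomputable def uSec (W : X.Opens) (x : SecA A F W) :
    SecA B ((Scheme.Modules.pullback g).obj F) (g ⁻¹ᵁ W) :=
  (((Scheme.Modules.pullbackPushforwardAdjunction g).unit.app F).app W).hom x

theorem betaE_tmul (W : X.Opens) (hW : IsAffineOpen W) (b : B) (x : SecA A F W) :
    betaE A B g hg sq F W hW (b ⊗ₜ x) = b • uSec A B g F W x := by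
  have h := (Classical.choose_spec (exists_beta A B g hg sq F W hW)).2 b x
  rw [unitSec_refl] at h
  exact h

/-- `λ ⊗ id` on sections over the affine open `W` -/
noncomputable def lamSec (lam : B →ₗ[A] A) (W : X.Opens) (hW : IsAffineOpen W) :
    SecA B ((Scheme.Modules.pullback g).obj F) (g ⁻¹ᵁ W) →+ SecA A F W :=
  ((TensorProduct.lid A (SecA A F W)).toLinearMap.comp
    (LinearMap.rTensor (SecA A F W) lam)).toAddMonoidHom.comp
      (betaE A B g hg sq F W hW).symm.toLinearMap.toAddMonoidHom

theorem lamSec_smul_uSec (lam : B →ₗ[A] A) (W : X.Opens) (hW : IsAffineOpen W) (b : B) (x : SecA A F W) :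
    lamSec A B g hg sq F lam W hW (b • uSec A B g F W x) = lam b • x := by
  rw [← betaE_tmul A B g hg sq F W hW]
  change (TensorProduct.lid A (SecA A F W)) (LinearMap.rTensor (SecA A F W) lam
    ((betaE A B g hg sq F W hW).symm (betaE A B g hg sq F W hW (b ⊗ₜ x)))) = _
  rw [LinearEquiv.symm_apply_apply, LinearMap.rTensor_tmul, TensorProduct.lid_tmul]

include hg sq in
/-- every section over `g⁻¹W` is a sum of `b • g^♯ x` -/
theorem sec_induction (W : X.Opens) (hW : IsAffineOpen W)
    (P : SecA B ((Scheme.Modules.pullback g).obj F) (g ⁻¹ᵁ W) → Prop)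
    (h0 : P 0) (h1 : ∀ (b : B) (x : SecA A F W), P (b • uSec A B g F W x))
    (h2 : ∀ y y', P y → P y' → P (y + y')) (y : SecA B ((Scheme.Modules.pullback g).obj F) (g ⁻¹ᵁ W)) : P y := by
  obtain ⟨t, rfl⟩ := (betaE A B g hg sq F W hW).surjective y
  induction t using TensorProduct.induction_on with
  | zero => rw [map_zero]; exact h0
  | tmul b x => rw [betaE_tmul]; exact h1 b x
  | add s t hs ht => rw [map_add]; exact h2 _ _ hs ht

/-- restriction of sections -/
noncomputable def resSec {Y : Scheme.{u}} (R : Type u) [CommRing R] [Y.Over (Spec (CommRingCat.of R))]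
    (M : Y.Modules) {U U' : Y.Opens} (h : U' ≤ U) : SecA R M U →+ SecA R M U' :=
  ((ab' M).obj.map (homOfLE h).op).hom

theorem resSec_smul {Y : Scheme.{u}} (R : Type u) [CommRing R] [Y.Over (Spec (CommRingCat.of R))]
    (M : Y.Modules) {U U' : Y.Opens} (h : U' ≤ U) (r : R) (y : SecA R M U) :
    resSec R M h (r • y) = r • resSec R M h y := by
  rw [SecA.smul_def, SecA.smul_def]
  have h1 := M.val.map_smul (homOfLE h).op (toSec R U r) y
  have h2 : (Y.ringCatSheaf.obj.map (homOfLE h).op).hom (toSec R U r) = toSec R U' r :=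
    Coh.resTop_comp (op U) (op U') (homOfLE h).op _
  rw [← h2]
  exact h1

theorem uSec_res {W W' : X.Opens} (h : W' ≤ W) (x : SecA A F W) :
    resSec B ((Scheme.Modules.pullback g).obj F) (g.preimage_mono h) (uSec A B g F W x) =
      uSec A B g F W' (resSec A F h x) :=
  (ConcreteCategory.congr_hom (((SheafOfModules.toSheaf X.ringCatSheaf).map
    ((Scheme.Modules.pullbackPushforwardAdjunction g).unit.app F)).hom.naturality (homOfLE h).op) x).symm

include hg sq in
theorem lamSec_res (lam : B →ₗ[A] A) {W W' : X.Opens} (hW : IsAffineOpen W) (hW' : IsAffineOpen W')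
    (h : W' ≤ W) (y : SecA B ((Scheme.Modules.pullback g).obj F) (g ⁻¹ᵁ W)) :
    lamSec A B g hg sq F lam W' hW' (resSec B ((Scheme.Modules.pullback g).obj F) (g.preimage_mono h) y) =
      resSec A F h (lamSec A B g hg sq F lam W hW y) := by
  refine sec_induction A B g hg sq F W hW
    (fun y => lamSec A B g hg sq F lam W' hW' (resSec B ((Scheme.Modules.pullback g).obj F) (g.preimage_mono h) y) =
      resSec A F h (lamSec A B g hg sq F lam W hW y)) ?_ ?_ ?_ y
  · rw [map_zero, map_zero, map_zero, map_zero]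
  · intro b x
    rw [resSec_smul, uSec_res, lamSec_smul_uSec, lamSec_smul_uSec, resSec_smul]
  · intro y y' hy hy'
    rw [map_add, map_add, map_add, map_add, hy, hy']

/-- affine opens form a basis -/
theorem isBasis_range_affineOpens :
    Opens.IsBasis (Set.range (fun W : X.affineOpens => (W : X.Opens))) := by
  rw [Subtype.range_coe]
  exact X.isBasis_affineOpens

/-- an object of the induced category, as an affine open -/
def affOf (W : InducedCategory X.Opens (fun W : X.affineOpens => (W : X.Opens))) : X.affineOpens := W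

/-- `λ ⊗ id` on the basis of affine opens -/
noncomputable def lamNat (lam : B →ₗ[A] A) :
    (inducedFunctor (fun W : X.affineOpens => (W : X.Opens))).op ⋙
        (ab' ((Scheme.Modules.pushforward g).obj ((Scheme.Modules.pullback g).obj F))).obj ⟶
      (inducedFunctor (fun W : X.affineOpens => (W : X.Opens))).op ⋙ (ab' F).obj where
  app W := AddCommGrpCat.ofHom (lamSec A B g hg sq F lam (affOf W.unop).1 (affOf W.unop).2)
  naturality W W' f := by
    ext y
    have hle : (affOf W'.unop).1 ≤ (affOf W.unop).1 := leOfHom f.unop.hom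
    have hf : f.unop.hom = homOfLE hle := Subsingleton.elim _ _
    have := lamSec_res A B g hg sq F lam (affOf W.unop).2 (affOf W'.unop).2 hle y
    change lamSec A B g hg sq F lam _ _ (((ab' ((Scheme.Modules.pushforward g).obj
      ((Scheme.Modules.pullback g).obj F))).obj.map f.unop.hom.op).hom y) =
      ((ab' F).obj.map f.unop.hom.op).hom (lamSec A B g hg sq F lam _ _ y)
    rw [hf]
    exact this

/-- `λ ⊗ id : g_* g^* F ⟶ F`, as a morphism of abelian sheaves -/
noncomputable def lamHom (lam : B →ₗ[A] A) :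
    ab' ((Scheme.Modules.pushforward g).obj ((Scheme.Modules.pullback g).obj F)) ⟶ ab' F :=
  ⟨TopCat.Sheaf.restrictHomEquivHom
    (ab' ((Scheme.Modules.pushforward g).obj ((Scheme.Modules.pullback g).obj F))).obj (ab' F)
    (isBasis_range_affineOpens (X := X)) (lamNat A B g hg sq F lam)⟩

theorem lamHom_app (lam : B →ₗ[A] A) (W : X.Opens) (hW : IsAffineOpen W)
    (y : SecA B ((Scheme.Modules.pullback g).obj F) (g ⁻¹ᵁ W)) :
    ((lamHom A B g hg sq F lam).hom.app (op W)).hom y = lamSec A B g hg sq F lam W hW y := by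
  have h := TopCat.Sheaf.extend_hom_app
    (ab' ((Scheme.Modules.pushforward g).obj ((Scheme.Modules.pullback g).obj F))).obj (ab' F)
    (isBasis_range_affineOpens (X := X)) (lamNat A B g hg sq F lam) (⟨W, hW⟩ : X.affineOpens)
  exact ConcreteCategory.congr_hom h y

theorem uSec_add (W : X.Opens) (x y : SecA A F W) :
    uSec A B g F W (x + y) = uSec A B g F W x + uSec A B g F W y :=
  map_add (((Scheme.Modules.pullbackPushforwardAdjunction g).unit.app F).app W).hom x y

theorem uSec_zero (W : X.Opens) : uSec A B g F W 0 = 0 :=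
  map_zero (((Scheme.Modules.pullbackPushforwardAdjunction g).unit.app F).app W).hom

include hg in
theorem uSec_smul (W : X.Opens) (a : A) (x : SecA A F W) :
    uSec A B g F W (a • x) = algebraMap A B a • uSec A B g F W x := by
  have h := unitSec_smul g F (le_refl (g ⁻¹ᵁ W)) (toΓ A W a) (show Γ(F, W) from x)
  rw [unitSec_refl, unitSec_refl] at h
  have h2 : (g.appLE W (g ⁻¹ᵁ W) le_rfl).hom (toΓ A W a) = toSec B (g ⁻¹ᵁ W) (algebraMap A B a) :=
    appLE_toΓ A B g hg W a
  rw [SecA.smul_def B, ← h2]
  exact h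

/-- the balanced family `b ↦ (x ↦ b • g^♯ x)` -/
noncomputable abbrev famB :
    Fam (actA A F) (actA A ((Scheme.Modules.pushforward g).obj ((Scheme.Modules.pullback g).obj F))) B :=
  fam A B g hg F ((Scheme.Modules.pullback g).obj F) B (psiSmul B ((Scheme.Modules.pullback g).obj F))
    (fun a' n => smulMod_mul' B _ a' n)

theorem famB_app (b : B) (W : X.Opens) (x : SecA A F W) :
    (((famB A B g hg F).φ b).hom.app (op W)).hom x = b • uSec A B g F W x := rfl

include sq in
theorem famB_comp_lamHom (lam : B →ₗ[A] A) (b : B) :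
    (famB A B g hg F).φ b ≫ lamHom A B g hg sq F lam = (actA A F (lam b) : ab' F ⟶ ab' F) := by
  apply Sheaf.hom_ext
  refine TopCat.Sheaf.hom_ext _ (ab' F) (isBasis_range_affineOpens (X := X)) (fun W => ?_)
  ext x
  change ((lamHom A B g hg sq F lam).hom.app (op W.1)).hom
    ((((famB A B g hg F).φ b).hom.app (op W.1)).hom x) = _
  rw [famB_app, lamHom_app A B g hg sq F lam W.1 W.2, lamSec_smul_uSec]
  rfl

/-- evaluation of morphisms of abelian sheaves on sections, additively -/
noncomputable def appHom {P Q : CohTop.Ab X.carrier} (W : X.Opens) :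
    (P ⟶ Q) →+ (P.obj.obj (op W) →+ Q.obj.obj (op W)) where
  toFun f := (f.hom.app (op W)).hom
  map_zero' := rfl
  map_add' _ _ := rfl

include sq in
theorem sum_lamHom_comp_famB {ι : Type} [Fintype ι] (bb : ι → B) (lam : ι → (B →ₗ[A] A))
    (hb : ∀ b, ∑ i, lam i b • bb i = b) :
    ∑ i, lamHom A B g hg sq F (lam i) ≫ (famB A B g hg F).φ (bb i) = 𝟙 _ := by
  apply Sheaf.hom_ext
  refine TopCat.Sheaf.hom_ext _
    (ab' ((Scheme.Modules.pushforward g).obj ((Scheme.Modules.pullback g).obj F)))
    (isBasis_range_affineOpens (X := X)) (fun W => ?_)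
  ext y
  change appHom W.1 (∑ i, lamHom A B g hg sq F (lam i) ≫ (famB A B g hg F).φ (bb i)) y = y
  rw [map_sum, AddMonoidHom.finsetSum_apply]
  have key : ∀ i, appHom W.1 (lamHom A B g hg sq F (lam i) ≫ (famB A B g hg F).φ (bb i)) y =
      bb i • uSec A B g F W.1 (lamSec A B g hg sq F (lam i) W.1 W.2 y) := by
    intro i
    change (((famB A B g hg F).φ (bb i)).hom.app (op W.1)).hom
      (((lamHom A B g hg sq F (lam i)).hom.app (op W.1)).hom y) = _
    rw [lamHom_app A B g hg sq F (lam i) W.1 W.2, famB_app]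
  rw [Finset.sum_congr rfl (fun i _ => key i)]
  refine sec_induction A B g hg sq F W.1 W.2
    (fun y => ∑ i, bb i • uSec A B g F W.1 (lamSec A B g hg sq F (lam i) W.1 W.2 y) = y) ?_ ?_ ?_ y
  · refine Finset.sum_eq_zero (fun i _ => ?_)
    rw [map_zero, uSec_zero, smul_zero]
  · intro c x
    calc ∑ i, bb i • uSec A B g F W.1 (lamSec A B g hg sq F (lam i) W.1 W.2 (c • uSec A B g F W.1 x))
        = ∑ i, (lam i c • bb i) • uSec A B g F W.1 x := by
          refine Finset.sum_congr rfl (fun i _ => ?_)
          rw [lamSec_smul_uSec, uSec_smul A B g hg, ← mul_smul, Algebra.smul_def (lam i c) (bb i), mul_comm]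
      _ = (∑ i, lam i c • bb i) • uSec A B g F W.1 x := Finset.sum_smul.symm
      _ = c • uSec A B g F W.1 x := by rw [hb]
  · intro y y' hy hy'
    have : ∀ i, bb i • uSec A B g F W.1 (lamSec A B g hg sq F (lam i) W.1 W.2 (y + y')) =
        bb i • uSec A B g F W.1 (lamSec A B g hg sq F (lam i) W.1 W.2 y) +
          bb i • uSec A B g F W.1 (lamSec A B g hg sq F (lam i) W.1 W.2 y') := by
      intro i
      rw [map_add, uSec_add, smul_add]
    rw [Finset.sum_congr rfl (fun i _ => this i), Finset.sum_add_distrib, hy, hy']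

include hg sq in
/-- **Base change of cohomology along a finite locally free algebra**, no hypothesis on `X`. -/
theorem finite_projective_base_change [Module.Finite A B] [Module.Projective A B] (q : ℕ) :
    Nonempty (B ⊗[A] Coh.HH X F q ≃ₗ[B] Coh.HH X' ((Scheme.Modules.pullback g).obj F) q) := by
  haveI : IsAffineHom g := MorphismProperty.of_isPullback (P := @IsAffineHom) sq.flip inferInstance
  haveI : ((Scheme.Modules.pullback g).obj F).IsQuasicoherent :=
    Groth.Agent.Lib.Helper2.PullbackSec.isQuasicoherent_pullback g F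
  obtain ⟨n, r, s, -, -, hrs⟩ := Module.Finite.exists_comp_eq_id_of_projective A B
  classical
  let bb : Fin n → B := fun i => r (Pi.single i 1)
  let lam : Fin n → (B →ₗ[A] A) := fun i => (LinearMap.proj i).comp s
  have hb : ∀ b, ∑ i, lam i b • bb i = b := by
    intro b
    have h1 : r (s b) = b := congrArg (fun l : B →ₗ[A] B => l b) hrs
    have h2 : s b = ∑ i, (s b i) • Pi.single (M := fun _ => A) i 1 := pi_eq_sum_univ' (s b)
    calc ∑ i, lam i b • bb i = ∑ i, (s b i) • r (Pi.single i 1) := rfl
      _ = r (∑ i, (s b i) • Pi.single (M := fun _ => A) i 1) := by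
          rw [map_sum]
          exact Finset.sum_congr rfl (fun i _ => (map_smul r _ _).symm)
      _ = r (s b) := by rw [← h2]
      _ = b := h1
  refine nonempty_linearEquiv_of_theta A B g hg F _ B (psiSmul B _)
    (fun a' n => smulMod_mul' B _ a' n) q ?_
  exact pz_of_dual (famB A B g hg F) bb lam hb (fun i => lamHom A B g hg sq F (lam i))
    (fun m i => famB_comp_lamHom A B g hg sq F (lam i) m)
    (sum_lamHom_comp_famB A B g hg sq F bb lam hb) _ q

end Dual

end Groth.Agent.Lib.T2H5.FlatBC
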