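import Mathlib
import Groth.Agent.Lib.T2H5LocusMod
import Groth.Agent.Lib.Helper26FGZ
import Groth.Agent.Lib.Helper26FlatLimD
set_option backward.isDefEq.respectTransparency.types false

/-!
# T2H5FlatDescZ: Noetherian descent of flatness for finitely presented modules (helper5)

Namespace `Groth.Agent.Lib.T2H5.FlatDescZ`.

* `exists_stage_data`: for `f : X ⟶ Spec A` of finite presentation and `F` of finite presentation, a stage
  `A₀ ⊆ A` (finitely generated `ℤ`-subalgebra) with a model `(X_j, u_j, F_j)`.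
* `main`: EGA IV 11.2.7 (**S4867**).
-/

set_option autoImplicit false
set_option linter.style.haveILetI false
set_option linter.unusedSectionVars false
universe u
open CategoryTheory CategoryTheory.Limits AlgebraicGeometry TopologicalSpace Opposite

namespace Groth.Agent.Lib.T2H5.FlatDescZ

open Groth.Agent.Lib.Helper26.FGZ Groth.Agent.Lib.Helper26.FlatLim Groth.Agent.Lib.T2H5.LocusMod
open Groth.Agent.Helper18Strict

variable {A : Type u} [CommRing A]

instance (i : (FGSub A)ᵒᵖ) : CompactSpace ((specDiagram A).obj i) := inferInstance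
instance (i : (FGSub A)ᵒᵖ) : QuasiSeparatedSpace ((specDiagram A).obj i) := inferInstance

theorem isNoetherianRing_of_fg (A₀ : Subalgebra ℤ A) (h : A₀.FG) : IsNoetherianRing A₀ := by
  haveI : Algebra.FiniteType ℤ A₀ := (Subalgebra.fg_iff_finiteType A₀).1 h
  exact Algebra.FiniteType.isNoetherianRing ℤ A₀

/-- the output at a stage `j₁` over `j` -/
theorem output_of_stage {X : Scheme.{u}} (f : X ⟶ (specCone A).pt) (F : X.Modules)
    (j : (FGSub A)ᵒᵖ) (Xj : Scheme.{u}) (uj : Xj ⟶ (specDiagram A).obj j) (sX : X ⟶ Xj) (Fj : Xj.Modules)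
    [LocallyOfFinitePresentation uj] [QuasiCompact uj] [Fj.IsQuasicoherent]
    (hFj : SheafOfModules.IsFinitePresentation (R := Xj.ringCatSheaf) Fj)
    (hpb : IsPullback sX f uj ((specCone A).π.app j))
    (φ : (Scheme.Modules.pullback sX).obj Fj ≅ F) (j₁ : Over j) :
    ∃ (X₀ : Scheme.{u}) (f₀ : X₀ ⟶ Spec (CommRingCat.of ↥(unop j₁.left).1))
      (_ : LocallyOfFiniteType f₀) (_ : QuasiCompact f₀) (F₀ : X₀.Modules) (_ : Coh.IsCoh F₀) (q : X ⟶ X₀)
      (_ : IsPullback q f f₀ (Spec.map (CommRingCat.ofHom (unop j₁.left).1.val.toRingHom)))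
      (_ : (Scheme.Modules.pullback q).obj F₀ ≅ F) (p : X₀ ⟶ Xj),
      IsPullback p f₀ uj ((specDiagram A).map j₁.hom) ∧ q ≫ p = sX ∧
        F₀ = (Scheme.Modules.pullback p).obj Fj := by
  have hcomm : sX ≫ uj = (f ≫ (specCone A).π.app j₁.left) ≫ (specDiagram A).map j₁.hom := by
    rw [Category.assoc, (specCone A).w j₁.hom]
    exact hpb.w
  let v : X ⟶ pullback uj ((specDiagram A).map j₁.hom) :=
    pullback.lift sX (f ≫ (specCone A).π.app j₁.left) hcomm
  have hv1 : v ≫ pullback.fst uj ((specDiagram A).map j₁.hom) = sX := pullback.lift_fst _ _ _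
  have hv2 : v ≫ pullback.snd uj ((specDiagram A).map j₁.hom) = f ≫ (specCone A).π.app j₁.left :=
    pullback.lift_snd _ _ _
  have hright : IsPullback (pullback.fst uj ((specDiagram A).map j₁.hom))
      (pullback.snd uj ((specDiagram A).map j₁.hom)) uj ((specDiagram A).map j₁.hom) :=
    IsPullback.of_hasPullback _ _
  have hbig : IsPullback (v ≫ pullback.fst uj ((specDiagram A).map j₁.hom)) f uj
      ((specCone A).π.app j₁.left ≫ (specDiagram A).map j₁.hom) := by
    rw [hv1, (specCone A).w j₁.hom]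
    exact hpb
  have hleft : IsPullback v f (pullback.snd uj ((specDiagram A).map j₁.hom))
      ((specCone A).π.app j₁.left) := IsPullback.of_right hbig hv2 hright
  haveI : IsNoetherianRing ↥(unop j₁.left).1 := isNoetherianRing_of_fg _ (unop j₁.left).2
  haveI : IsLocallyNoetherian ((specDiagram A).obj j₁.left) := by
    show IsLocallyNoetherian (Spec (CommRingCat.of ↥(unop j₁.left).1))
    infer_instance
  haveI : LocallyOfFiniteType uj := inferInstance
  haveI hlft : LocallyOfFiniteType (pullback.snd uj ((specDiagram A).map j₁.hom)) :=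
    MorphismProperty.pullback_snd _ _ inferInstance
  haveI hqc : QuasiCompact (pullback.snd uj ((specDiagram A).map j₁.hom)) :=
    MorphismProperty.pullback_snd _ _ inferInstance
  haveI : IsLocallyNoetherian (pullback uj ((specDiagram A).map j₁.hom)) :=
    @LocallyOfFiniteType.isLocallyNoetherian _ _ (pullback.snd uj ((specDiagram A).map j₁.hom)) hlft
      (by assumption)
  haveI hq1 : ((Scheme.Modules.pullback (pullback.fst uj ((specDiagram A).map j₁.hom))).obj Fj).IsQuasicoherent :=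
    Groth.Agent.Lib.Helper20.PullbackAff.isQuasicoherent_pullback _ Fj
  have hfp1 := isFP_pullback (pullback.fst uj ((specDiagram A).map j₁.hom)) Fj hFj
  refine ⟨pullback uj ((specDiagram A).map j₁.hom), pullback.snd uj ((specDiagram A).map j₁.hom),
    hlft, hqc,
    (Scheme.Modules.pullback (pullback.fst uj ((specDiagram A).map j₁.hom))).obj Fj,
    isCoh_of_isFP _ hq1 hfp1, v, hleft,
    (Scheme.Modules.pullbackComp v (pullback.fst uj ((specDiagram A).map j₁.hom))).app Fj ≪≫
      (Scheme.Modules.pullbackCongr hv1).app Fj ≪≫ φ,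
    pullback.fst uj ((specDiagram A).map j₁.hom), hright, hv1, rfl⟩

/-- **EGA IV 11.2.7** (S4867) -/
theorem main {X : Scheme.{u}} (f : X ⟶ Spec (CommRingCat.of A)) [hf₁ : LocallyOfFinitePresentation f]
    [hf₂ : QuasiCompact f] [hf₃ : QuasiSeparated f] (F : X.Modules) [hFq : F.IsQuasicoherent]
    (hF : SheafOfModules.IsFinitePresentation (R := X.ringCatSheaf) F) (x : X) :
    (FlatMod.IsFlatOverAt f F x →
      ∃ (A₀ : Subalgebra ℤ A) (_ : A₀.FG) (X₀ : Scheme.{u}) (f₀ : X₀ ⟶ Spec (CommRingCat.of ↥A₀))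
        (_ : LocallyOfFiniteType f₀) (_ : QuasiCompact f₀) (F₀ : X₀.Modules) (_ : Coh.IsCoh F₀) (q : X ⟶ X₀)
        (_ : IsPullback q f f₀ (Spec.map (CommRingCat.ofHom A₀.val.toRingHom)))
        (_ : (Scheme.Modules.pullback q).obj F₀ ≅ F),
        FlatMod.IsFlatOverAt f₀ F₀ (q x)) ∧
    (FlatMod.IsFlatOver f F →
      ∃ (A₀ : Subalgebra ℤ A) (_ : A₀.FG) (X₀ : Scheme.{u}) (f₀ : X₀ ⟶ Spec (CommRingCat.of ↥A₀))
        (_ : LocallyOfFiniteType f₀) (_ : QuasiCompact f₀) (F₀ : X₀.Modules) (_ : Coh.IsCoh F₀) (q : X ⟶ X₀)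
        (_ : IsPullback q f f₀ (Spec.map (CommRingCat.ofHom A₀.val.toRingHom)))
        (_ : (Scheme.Modules.pullback q).obj F₀ ≅ F),
        FlatMod.IsFlatOver f₀ F₀) := by
  obtain ⟨j, Xj, uj, sX, Fj, h1, h2, h3, h4, h5, hpb, ⟨φ⟩⟩ :=
    @exists_model_mod _ _ _ (specDiagram A) (specCone A) (specIsLimit A) _ _ _ X f hf₁ hf₂ hf₃ F hFq hF
  haveI := h1
  haveI := h2
  haveI := h3
  haveI := h4
  haveI := h5
  constructor
  · intro H
    have H' : FlatMod.IsFlatOverAt f
        ((Scheme.Modules.pullback sX).obj Fj) x := isFlatOverAt_of_iso _ φ.symm x H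
    obtain ⟨j₁, hj₁⟩ := exists_stage_isFlatOverAt (specDiagram A) (specCone A) (specIsLimit A) j uj Fj
      hpb x H'
    obtain ⟨X₀, f₀, a1, a2, F₀, a3, q, a4, a5, p, hp, hqp, hF₀⟩ :=
      output_of_stage f F j Xj uj sX Fj h5 hpb φ j₁
    refine ⟨(unop j₁.left).1, (unop j₁.left).2, X₀, f₀, a1, a2, F₀, a3, q, a4, a5, ?_⟩
    subst hF₀
    exact hj₁ j₁ (𝟙 j₁) p f₀ hp q hqp a4.w
  · intro H
    have H' : FlatMod.IsFlatOver f
        ((Scheme.Modules.pullback sX).obj Fj) := isFlatOver_of_iso _ φ.symm H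
    haveI : CompactSpace Xj := QuasiCompact.compactSpace_of_compactSpace uj
    obtain ⟨j₁, hj₁⟩ := exists_stage_isFlatOver (specDiagram A) (specCone A) (specIsLimit A) j uj Fj
      hpb H'
    obtain ⟨X₀, f₀, a1, a2, F₀, a3, q, a4, a5, p, hp, hqp, hF₀⟩ :=
      output_of_stage f F j Xj uj sX Fj h5 hpb φ j₁
    refine ⟨(unop j₁.left).1, (unop j₁.left).2, X₀, f₀, a1, a2, F₀, a3, q, a4, a5, ?_⟩
    subst hF₀
    exact hj₁ j₁ (𝟙 j₁) p f₀ hp

end Groth.Agent.Lib.T2H5.FlatDescZ
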