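import Groth.Agent.Lib.T2H5BC0Alg
set_option backward.isDefEq.respectTransparency.types false

/-!
# Vanishing of the rank function and the free locus of the preceding module of cocycles (helper5)

Namespace `Groth.Agent.Lib.T2H5.GBCAlg`.

`mem_freeLocus_pred_of_dRank_eq_zero`: for a complex `P` of finite projective modules over an arbitrary commutative ring,
if `H_q(P ⊗ κ(x)) = 0` then `opcycles_{q-1}(P)` is free at `x` (besides `opcycles_q(P)`, which is
`BC0Alg.mem_freeLocus_of_dRank_eq_zero`).
-/

set_option autoImplicit false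
set_option linter.style.haveILetI false
set_option linter.unusedSectionVars false
set_option linter.unusedVariables false
universe u
open CategoryTheory CategoryTheory.Limits MonoidalCategory

namespace Groth.Agent.Lib.T2H5.GBCAlg

open Groth.Agent.Lib.Helper3 Groth.Agent.Lib.T2H9.EW Groth.Agent.Lib.T2H9.TFunAlg
  Groth.Agent.Lib.T2H5.BC0Alg

variable {A : Type u} [CommRing A] (P : ChainComplex (ModuleCat.{u} A) ℤ)
  (hP : ∀ i, Module.Finite A (P.X i) ∧ Module.Projective A (P.X i))

include hP in
/-- vanishing of the rank function at a prime: `T_q` of the residue field vanishes over the local ring -/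
theorem isZero_TFun_residue_of_dRank_eq_zero (q : ℤ) (x : PrimeSpectrum A)
    (h : CohIII.dRank P q x = 0) :
    IsZero ((CohIII.TFun (CohIII.bcCx (algebraMap A (Localization.AtPrime x.asIdeal)) P) q).obj
      (ModuleCat.of (Localization.AtPrime x.asIdeal) x.asIdeal.ResidueField)) := by
  let R := Localization.AtPrime x.asIdeal
  let κ := x.asIdeal.ResidueField
  let φ : A →+* R := algebraMap A R
  let ψ : R →+* κ := algebraMap R κ
  let Q := CohIII.bcCx φ P
  have hQ := hP_bcCx' P hP R
  have hκ := hP_bcCx' P hP κ
  haveI : Module.Finite κ ((CohIII.bcCx (algebraMap A κ) P).homology q) := by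
    haveI := (hκ q).1
    haveI := finite_opcycles (CohIII.bcCx (algebraMap A κ) P) q
    exact Module.Finite.of_injective ((CohIII.bcCx (algebraMap A κ) P).homologyι q).hom
      ((ModuleCat.mono_iff_injective _).mp inferInstance)
  have hsub : Subsingleton ((CohIII.bcCx (algebraMap A κ) P).homology q) :=
    Module.finrank_zero_iff.mp h
  have hz0 : IsZero ((CohIII.bcCx (algebraMap A κ) P).homology q) :=
    @ModuleCat.isZero_of_subsingleton _ _ _ hsub
  have hcomp : ψ.comp φ = algebraMap A κ := (IsScalarTower.algebraMap_eq A R κ).symm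
  have hz1 : IsZero ((CohIII.bcCx ψ Q).homology q) := by
    have e := (HomologicalComplex.homologyFunctor _ _ q).mapIso
      (Groth.Agent.Lib.T2H5.LocAlg.bcCxCompIso φ ψ P)
    rw [hcomp] at e
    exact hz0.of_iso e.symm
  have hz2 : IsZero ((CohIII.TFun (CohIII.bcCx ψ Q) q).obj (ModuleCat.of κ κ)) :=
    hz1.of_iso (TUnitIso _ q)
  have hz3 : IsZero ((ModuleCat.restrictScalars ψ).obj
      ((CohIII.TFun (CohIII.bcCx ψ Q) q).obj (ModuleCat.of κ κ))) :=
    (ModuleCat.restrictScalars ψ).map_isZero hz2
  have hz4 : IsZero ((CohIII.TFun Q q).obj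
      ((ModuleCat.restrictScalars ψ).obj (ModuleCat.of κ κ))) :=
    hz3.of_iso ((Groth.Agent.Lib.T2H9.ProjFormula.tFunBcIso ψ Q q).app (ModuleCat.of κ κ)).symm
  exact hz4.of_iso ((CohIII.TFun Q q).mapIso (fIso R κ)).symm

include hP in
/-- **vanishing of the rank function at a prime puts the prime in the free locus of the preceding module of
cocycles** -/
theorem mem_freeLocus_pred_of_dRank_eq_zero (q : ℤ) (x : PrimeSpectrum A)
    (h : CohIII.dRank P q x = 0) : x ∈ Module.freeLocus A (P.opcycles (q - 1)) := by
  let R := Localization.AtPrime x.asIdeal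
  let Q := CohIII.bcCx (algebraMap A R) P
  have hQ := hP_bcCx' P hP R
  have hz5 := isZero_TFun_residue_of_dRank_eq_zero P hP q x h
  haveI hsub : Subsingleton ((CohIII.TFun Q q).obj
      (ModuleCat.of R (IsLocalRing.ResidueField R))) := ModuleCat.subsingleton_of_isZero hz5
  have hrel : (ComplexShape.down ℤ).Rel q (q - 1) := by
    change q - 1 + 1 = q
    ring
  have hfree := free_opcycles_of_surjective' Q hQ q (q - 1) hrel
    (fun y => ⟨0, Subsingleton.elim _ _⟩)
  haveI := (hP (q - 1)).1
  exact mem_freeLocus_of_flat_bcCx_opcycles P (q - 1) x R (by haveI := hfree; infer_instance)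

end Groth.Agent.Lib.T2H5.GBCAlg
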