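import Groth.Agent.Lib.T2H5GBCAlg
import Groth.Agent.Lib.Helper3FlatCxRank
import Groth.Agent.Lib.Helper10RedProjU
set_option backward.isDefEq.respectTransparency.types false

/-!
# Rank functions and modules of cocycles over an arbitrary commutative ring (helper5)

Namespace `Groth.Agent.Lib.T2H5.GBCAlg`.  `P` a complex of finite projective modules over `A` (no Noetherian hypothesis).

* `locConst_of_projective`: if `opcycles_p`, `opcycles_{p-1}` are projective then `x ↦ dim H_p(P ⊗ κ(x))` is locally
  constant.
* `projective_opcycles_of_locConst`: for `A` reduced, the converse.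
* `projective_opcycles_of_homology`: if `opcycles_{p-1}` and `H_p` are projective then so is `opcycles_p`.
-/

set_option autoImplicit false
set_option linter.style.haveILetI false
set_option linter.unusedSectionVars false
set_option linter.unusedVariables false
universe u
open CategoryTheory CategoryTheory.Limits MonoidalCategory TensorProduct Topology

namespace Groth.Agent.Lib.T2H5.GBCAlg

open Groth.Agent.Lib.Helper3 Groth.Agent.Lib.T2H9.EW Groth.Agent.Lib.T2H9.TFunAlg
  Groth.Agent.Lib.T2H5.BC0Alg Groth.Agent.S2380

section fd

variable {A : Type u} [CommRing A]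

theorem fd_eventually_eq' (M : Type u) [AddCommGroup M] [Module A M] [Module.FinitePresentation A M]
    [Module.Flat A M] (x0 : PrimeSpectrum A) : ∀ᶠ x in 𝓝 x0, fd M x = fd M x0 := by
  haveI : Module.Finite A M := inferInstance
  have h := (Module.isLocallyConstant_rankAtStalk (R := A) (M := M)).eventually_eq x0
  filter_upwards [h] with x hx
  have e1 : fd M x = Module.rankAtStalk M x := (Module.rankAtStalk_eq x).symm
  have e2 : fd M x0 = Module.rankAtStalk M x0 := (Module.rankAtStalk_eq x0).symm
  rw [e1, e2, hx]

end fd

section rank

variable {A : Type u} [CommRing A] (P : ChainComplex (ModuleCat.{u} A) ℤ)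
  (hP : ∀ i, Module.Finite A (P.X i) ∧ Module.Projective A (P.X i))

include hP in
/-- projective modules of cocycles in degrees `p`, `p - 1` make the rank function locally constant -/
theorem locConst_of_projective (p : ℤ) (h1 : Module.Projective A (P.opcycles p))
    (h2 : Module.Projective A (P.opcycles (p - 1))) : IsLocallyConstant (CohIII.dRank P p) := by
  have hfin : ∀ i, Module.Finite A (P.X i) := fun i => (hP i).1
  have key := dRank_add_opcycles P hfin p
  haveI := finitePresentation_opcycles P hP p
  haveI := finitePresentation_opcycles P hP (p - 1)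
  haveI := (hP (p - 1)).1
  haveI := (hP (p - 1)).2
  haveI : Module.FinitePresentation A (P.X (p - 1)) := Module.finitePresentation_of_projective A _
  haveI : Module.Flat A (P.opcycles p) := inferInstance
  haveI : Module.Flat A (P.opcycles (p - 1)) := inferInstance
  haveI : Module.Flat A (P.X (p - 1)) := inferInstance
  rw [IsLocallyConstant.iff_eventually_eq]
  intro x
  filter_upwards [fd_eventually_eq' (P.opcycles p) x, fd_eventually_eq' (P.opcycles (p - 1)) x,
    fd_eventually_eq' (P.X (p - 1)) x] with y e1 e2 e3
  have k1 := key y
  have k2 := key x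
  omega

include hP in
/-- over a reduced ring a locally constant rank function makes the modules of cocycles in degrees `p`, `p - 1`
projective -/
theorem projective_opcycles_of_locConst [IsReduced A] (p : ℤ)
    (hlc : IsLocallyConstant (CohIII.dRank P p)) :
    Module.Projective A (P.opcycles p) ∧ Module.Projective A (P.opcycles (p - 1)) := by
  have hfin : ∀ i, Module.Finite A (P.X i) := fun i => (hP i).1
  have key := dRank_add_opcycles P hfin p
  haveI := (hP p).1
  haveI := (hP (p - 1)).1
  haveI := (hP (p - 1)).2
  haveI : Module.Finite A (P.opcycles p) := finite_opcycles P p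
  haveI : Module.Finite A (P.opcycles (p - 1)) := finite_opcycles P (p - 1)
  haveI : Module.FinitePresentation A (P.X (p - 1)) := Module.finitePresentation_of_projective A _
  haveI : Module.Flat A (P.X (p - 1)) := inferInstance
  have hboth : ∀ x : PrimeSpectrum A, ∀ᶠ y in 𝓝 x,
      fd (P.opcycles p) y = fd (P.opcycles p) x ∧
        fd (P.opcycles (p - 1)) y = fd (P.opcycles (p - 1)) x := by
    intro x
    filter_upwards [fd_eventually_le (P.opcycles p) x, fd_eventually_le (P.opcycles (p - 1)) x,
      fd_eventually_eq' (P.X (p - 1)) x, (IsLocallyConstant.iff_eventually_eq _).mp hlc x]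
      with y e1 e2 e3 e4
    have k1 := key y
    have k2 := key x
    constructor <;> omega
  refine ⟨?_, ?_⟩
  · refine Groth.Agent.Lib.Helper10.RedProjU.projective_of_isLocallyConstant ?_
    rw [IsLocallyConstant.iff_eventually_eq]
    intro x
    filter_upwards [hboth x] with y hy
    exact hy.1
  · refine Groth.Agent.Lib.Helper10.RedProjU.projective_of_isLocallyConstant ?_
    rw [IsLocallyConstant.iff_eventually_eq]
    intro x
    filter_upwards [hboth x] with y hy
    exact hy.2

end rank

section four

variable {R : Type*} [CommRing R] {H C N D : Type*} [AddCommGroup H] [AddCommGroup C]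
  [AddCommGroup N] [AddCommGroup D] [Module R H] [Module R C] [Module R N] [Module R D]

/-- in an exact sequence `0 → H → C → N → D → 0` with `N` finite projective and `D`, `H` projective, `C` is
projective -/
theorem projective_of_four' (ι : H →ₗ[R] C) (φ : C →ₗ[R] N) (π : N →ₗ[R] D)
    (hι : Function.Injective ι) (hπ : Function.Surjective π) (h1 : Function.Exact ι φ)
    (h2 : Function.Exact φ π) [Module.Finite R N] [Module.Projective R N] [Module.Projective R D]
    [Module.Projective R H] : Module.Projective R C := by
  have hI : Module.Finite R (LinearMap.range φ) ∧ Module.Projective R (LinearMap.range φ) := by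
    refine Groth.Agent.Lib.T2H5.LocAlg.finite_projective_of_exact (LinearMap.range φ).subtype π
      (LinearMap.range φ).injective_subtype hπ ?_
    intro q
    rw [h2 q]
    constructor
    · rintro ⟨c, rfl⟩
      exact ⟨⟨φ c, c, rfl⟩, rfl⟩
    · rintro ⟨⟨_, c, rfl⟩, rfl⟩
      exact ⟨c, rfl⟩
  haveI := hI.2
  have hex : Function.Exact ι φ.rangeRestrict := by
    intro c
    rw [← h1 c]
    constructor
    · intro h
      exact congrArg Subtype.val h
    · intro h
      exact Subtype.ext h
  obtain ⟨l, hl⟩ := Module.projective_lifting_property φ.rangeRestrict LinearMap.id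
    φ.surjective_rangeRestrict
  have htf := (hex.split_tfae hι φ.surjective_rangeRestrict).out 0 2
  obtain ⟨e, -, -⟩ := htf.1 ⟨l, hl⟩
  exact Module.Projective.of_equiv e.symm

end four

section opc

variable {A : Type u} [CommRing A] (P : ChainComplex (ModuleCat.{u} A) ℤ)

/-- if `opcycles_{j-1}` and `H_j` are projective then so is `opcycles_j` -/
theorem projective_opcycles_of_homology (j : ℤ) [Module.Finite A (P.X (j - 1))]
    [Module.Projective A (P.X (j - 1))] [Module.Projective A (P.homology j)]
    [Module.Projective A (P.opcycles (j - 1))] : Module.Projective A (P.opcycles j) := by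
  have hrel : (ComplexShape.down ℤ).Rel j (j - 1) := by
    show j - 1 + 1 = j
    ring
  exact projective_of_four' (P.homologyι j).hom (P.fromOpcycles j (j - 1)).hom
    (P.pOpcycles (j - 1)).hom ((ModuleCat.mono_iff_injective _).mp inferInstance)
    ((ModuleCat.epi_iff_surjective _).mp inferInstance)
    (exact_homologyι_fromOpcycles P j (j - 1) ((ComplexShape.down ℤ).next_eq' hrel))
    (exact_fromOpcycles_pOpcycles P j (j - 1) ((ComplexShape.down ℤ).prev_eq' hrel))

end opc

end Groth.Agent.Lib.T2H5.GBCAlg
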