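import Mathlib
import Groth.Agent.Lib.T2H5ResLE3

/-!
# Local injectivity of the comparison maps `CohCmp.SectCmp` (helper5)

Namespace `Groth.Agent.Lib.T2H5.ResLE`.
-/

set_option autoImplicit false
set_option linter.style.haveILetI false
set_option linter.unusedSectionVars false
set_option linter.unusedVariables false
set_option linter.unnecessarySimpa false
universe u
open CategoryTheory Opposite TopologicalSpace AlgebraicGeometry

namespace Groth.Agent.Lib.T2H5.ResLE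
open Scheme.Modules

section LZ

open CohPull CohCmp Groth.Agent.Lib.Helper23.SectCmpLib Abelian Limits

variable {X Y : Scheme.{u}} (f : X ⟶ Y) [HasInjectiveResolutions X.Modules]
  {Δ : RDer.DerivedLES (pushforward f)} (E : CohCmp.SectCmp f Δ)

/-- `τ : f_* F ⟶ R^0 f_* F` is injective on sections -/
lemma tau_injective (F : X.Modules) (V : Y.Opens) (a b : F.presheaf.obj (op (f ⁻¹ᵁ V)))
    (hs : ((pushforward f).toRightDerivedZero.app F).app V a =
      ((pushforward f).toRightDerivedZero.app F).app V b) : a = b := by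
  have := enoughInjectives_modules X
  let τ := (pushforward f).toRightDerivedZero.app F
  have : IsIso τ := inferInstance
  have h1 : ∀ s : F.presheaf.obj (op (f ⁻¹ᵁ V)), (inv τ).app V (τ.app V s) = s := fun s =>
    congrArg (fun φ : (pushforward f).obj F ⟶ (pushforward f).obj F => φ.app V s) (IsIso.hom_inv_id τ)
  exact (h1 a).symm.trans ((congrArg (fun z => (inv τ).app V z) hs).trans (h1 b))

lemma tau_surjective (F : X.Modules) (V : Y.Opens) (t : ((Coh.Rpush f 0).obj F).presheaf.obj (op V)) :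
    ∃ s : F.presheaf.obj (op (f ⁻¹ᵁ V)), ((pushforward f).toRightDerivedZero.app F).app V s = t := by
  have := enoughInjectives_modules X
  let τ := (pushforward f).toRightDerivedZero.app F
  have : IsIso τ := inferInstance
  exact ⟨(inv τ).app V t,
    congrArg (fun φ : (Coh.Rpush f 0).obj F ⟶ (Coh.Rpush f 0).obj F => φ.app V t) (IsIso.inv_hom_id τ)⟩

omit [HasInjectiveResolutions X.Modules] in
lemma tau_naturality [HasInjectiveResolutions X.Modules] {F G : X.Modules} (g : F ⟶ G) (W : Y.Opens)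
    (s : F.presheaf.obj (op (f ⁻¹ᵁ W))) :
    ((pushforward f).toRightDerivedZero.app G).app W (g.app (f ⁻¹ᵁ W) s) =
      ((Coh.Rpush f 0).map g).app W (((pushforward f).toRightDerivedZero.app F).app W s) :=
  congrArg (fun φ : (pushforward f).obj F ⟶ (Coh.Rpush f 0).obj G => φ.app W s)
    ((pushforward f).toRightDerivedZero.naturality g)

omit E in
/-- exactness of the long exact sequence of higher direct images, on sections, locally -/
lemma exists_lift_delta (S : ShortComplex X.Modules) (hS : S.ShortExact) (p : ℕ) (V : Y.Opens)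
    (t : ((Coh.Rpush f p).obj S.X₃).presheaf.obj (op V)) (y : Y) (W₀ : Y.Opens) (hW₀ : W₀ ≤ V) (hy : y ∈ W₀)
    (h0 : ((Coh.Rpush f (p + 1)).obj S.X₁).presheaf.map (homOfLE hW₀).op
      ((Δ.δ S hS p (p + 1) rfl).app V t) = 0) :
    ∃ (W₁ : Y.Opens) (hW₁ : W₁ ≤ V), y ∈ W₁ ∧ ∃ t' : ((Coh.Rpush f p).obj S.X₂).presheaf.obj (op W₁),
      ((Coh.Rpush f p).map S.g).app W₁ t' = ((Coh.Rpush f p).obj S.X₃).presheaf.map (homOfLE hW₁).op t := by
  have ht₀ : (Δ.δ S hS p (p + 1) rfl).app W₀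
      (((Coh.Rpush f p).obj S.X₃).presheaf.map (homOfLE hW₀).op t) = 0 :=
    (delta_res f S hS p hW₀ t).trans h0
  obtain ⟨W₁, hW₁, hyW₁, t', ht'⟩ := exists_local_lift_of_exact
    (ShortComplex.mk ((Coh.Rpush f p).map S.g) (Δ.δ S hS p (p + 1) rfl) (Δ.comp_δ S hS p (p + 1) rfl))
    (Δ.exact₃ S hS p (p + 1) rfl) W₀ _ ht₀ y hy
  refine ⟨W₁, hW₁.trans hW₀, hyW₁, t', ht'.trans ?_⟩
  have hc : (homOfLE (hW₁.trans hW₀)).op = (homOfLE hW₀).op ≫ (homOfLE hW₁).op := rfl
  rw [hc, Functor.map_comp]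
  rfl

lemma res_dl_eq_zero (S : ShortComplex X.Modules) (hS : S.ShortExact) {U U' : X.Opens} (h : U' ≤ U) (p : ℕ)
    (x' : Coh.HHon X S.X₃ U p) (hx : CohPull.resLE S.X₃ h p x' = 0) :
    CohPull.resLE S.X₁ h (p + 1) (dl S hS U p x') = 0 :=
  (resLE_dl S hS h p x').trans ((congrArg (dl S hS U' p) hx).trans (map_zero _))

lemma res_dl_eq_zero' (S : ShortComplex X.Modules) (hS : S.ShortExact) {U U' : X.Opens} (h : U' ≤ U) (p : ℕ)
    (x' : Coh.HHon X S.X₃ U p) (z : Coh.HHon X S.X₂ U' p)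
    (hx : CohPull.resLE S.X₃ h p x' = mapH ((restrictFunctor U'.ι).map S.g) p z) :
    CohPull.resLE S.X₁ h (p + 1) (dl S hS U p x') = 0 :=
  (resLE_dl S hS h p x').trans ((congrArg (dl S hS U' p) hx).trans (dl_mapH S hS U' p z))

/-- degree one -/
lemma step_zero (S : ShortComplex X.Modules) (hS : S.ShortExact) (V : Y.Opens)
    (x' : Coh.HHon X S.X₃ (f ⁻¹ᵁ V) 0) {W₁ : Y.Opens} (hW₁ : W₁ ≤ V)
    (t' : ((Coh.Rpush f 0).obj S.X₂).presheaf.obj (op W₁))
    (ht' : ((Coh.Rpush f 0).map S.g).app W₁ t' =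
      ((Coh.Rpush f 0).obj S.X₃).presheaf.map (homOfLE hW₁).op (E.ε V S.X₃ 0 x')) :
    CohPull.resLE S.X₁ (f.preimage_mono hW₁) 1 (dl S hS (f ⁻¹ᵁ V) 0 x') = 0 := by
  obtain ⟨s', rfl⟩ := (sectH0 S.X₃ (f ⁻¹ᵁ V)).surjective x'
  obtain ⟨s'', rfl⟩ := tau_surjective f S.X₂ W₁ t'
  rw [E.zero, ← tau_naturality, ← tau_res] at ht'
  have hg := tau_injective f S.X₃ W₁ _ _ ht'
  refine res_dl_eq_zero' S hS (f.preimage_mono hW₁) 0 _ (sectH0 S.X₂ (f ⁻¹ᵁ W₁) s'') ?_
  refine (resLE_sectH0 _ _ s').trans ?_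
  refine (congrArg (sectH0 S.X₃ (f ⁻¹ᵁ W₁)) hg.symm).trans ?_
  exact sectH0_naturality S.g (f ⁻¹ᵁ W₁) s''

omit E in
/-- higher degrees -/
lemma step_succ (S : ShortComplex X.Modules) [Injective S.X₂] (k : ℕ) {W₁ : Y.Opens}
    (t' : ((Coh.Rpush f (k + 1)).obj S.X₂).presheaf.obj (op W₁)) :
    ((Coh.Rpush f (k + 1)).map S.g).app W₁ t' = 0 := by
  have := enoughInjectives_modules X
  have hz : IsZero ((Coh.Rpush f (k + 1)).obj S.X₂) :=
    Functor.isZero_rightDerived_obj_injective_succ _ k _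
  have hsub := subsingleton_sections_of_isZero _ hz W₁
  have ht'0 : t' = 0 := Subsingleton.elim _ _
  rw [ht'0, map_zero]

end LZ

end Groth.Agent.Lib.T2H5.ResLE
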