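import Mathlib
import Groth.Agent.Lib.T2H5ResLE4

/-!
# Local injectivity of the comparison maps `CohCmp.SectCmp`: the induction (helper5)

Namespace `Groth.Agent.Lib.T2H5.ResLE`.
-/

set_option autoImplicit false
set_option linter.style.haveILetI false
set_option linter.unusedSectionVars false
set_option linter.unusedVariables false
set_option linter.unnecessarySimpa false
universe u
open CategoryTheory Opposite TopologicalSpace AlgebraicGeometry

namespace Groth.Agent.Lib.T2H5.ResLE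
open Scheme.Modules

section LZ

open CohPull CohCmp Groth.Agent.Lib.Helper23.SectCmpLib Abelian Limits

variable {X Y : Scheme.{u}} (f : X ⟶ Y) [HasInjectiveResolutions X.Modules]
  {Δ : RDer.DerivedLES (pushforward f)} (E : CohCmp.SectCmp f Δ)

/-- local injectivity in degree `p` for the module `F` -/
def LZ (p : ℕ) (F : X.Modules) : Prop :=
  ∀ (V : Y.Opens) (x : Coh.HHon X F (f ⁻¹ᵁ V) p) (y : Y) (W₀ : Y.Opens) (hW₀ : W₀ ≤ V), y ∈ W₀ →
    ((Coh.Rpush f p).obj F).presheaf.map (homOfLE hW₀).op (E.ε V F p x) = 0 →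
    ∃ (W : Y.Opens) (hWV : W ≤ V), y ∈ W ∧ CohPull.resLE F (f.preimage_mono hWV) p x = 0

/-- the inductive step of local injectivity -/
lemma LZ_step (S : ShortComplex X.Modules) (hS : S.ShortExact) [Injective S.X₂] (p : ℕ)
    (ih : LZ f E p S.X₃) : LZ f E (p + 1) S.X₁ := by
  intro V x y W₀ hW₀ hy h0
  obtain ⟨x', hx'⟩ := exists_dl_eq S hS (f ⁻¹ᵁ V) p x
  have h0' : ((Coh.Rpush f (p + 1)).obj S.X₁).presheaf.map (homOfLE hW₀).op
      ((Δ.δ S hS p (p + 1) rfl).app V (E.ε V S.X₃ p x')) = 0 :=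
    (congrArg (fun z => ((Coh.Rpush f (p + 1)).obj S.X₁).presheaf.map (homOfLE hW₀).op
      (E.ε V S.X₁ (p + 1) z)) hx').trans h0 |>.symm.trans
      (congrArg (fun z => ((Coh.Rpush f (p + 1)).obj S.X₁).presheaf.map (homOfLE hW₀).op z)
        (eps_dl f E S hS V p x')) |>.symm
  obtain ⟨W₁, hW₁, hyW₁, t', ht'⟩ := exists_lift_delta f S hS p V _ y W₀ hW₀ hy h0'
  cases p with
  | zero =>
    exact ⟨W₁, hW₁, hyW₁, (congrArg (CohPull.resLE S.X₁ (f.preimage_mono hW₁) 1) hx').symm.trans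
      (step_zero f E S hS V x' hW₁ t' ht')⟩
  | succ k =>
    obtain ⟨W, hWV, hyW, hres⟩ := ih V x' y W₁ hW₁ hyW₁ (ht'.symm.trans (step_succ f S k t'))
    exact ⟨W, hWV, hyW, (congrArg (CohPull.resLE S.X₁ (f.preimage_mono hWV) (k + 1 + 1)) hx').symm.trans
      (res_dl_eq_zero S hS (f.preimage_mono hWV) (k + 1) x' hres)⟩

lemma LZ_zero (F : X.Modules) : LZ f E 0 F := by
  intro V x y W₀ hW₀ hy h0
  obtain ⟨s, hs⟩ := (sectH0 F (f ⁻¹ᵁ V)).surjective x
  have h1 : ((pushforward f).toRightDerivedZero.app F).app W₀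
      (F.presheaf.map (homOfLE (f.preimage_mono hW₀)).op s) =
      ((pushforward f).toRightDerivedZero.app F).app W₀ 0 := by
    refine (tau_res f F hW₀ s).trans ?_
    refine Eq.trans ?_ (map_zero _).symm
    refine Eq.trans ?_ h0
    exact congrArg (fun z => ((Coh.Rpush f 0).obj F).presheaf.map (homOfLE hW₀).op z)
      ((E.zero V F s).symm.trans (congrArg (E.ε V F 0) hs))
  have h2 : F.presheaf.map (homOfLE (f.preimage_mono hW₀)).op s = 0 := tau_injective f F W₀ _ _ h1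
  refine ⟨W₀, hW₀, hy, ?_⟩
  exact (congrArg (CohPull.resLE F (f.preimage_mono hW₀) 0) hs).symm.trans
    ((resLE_sectH0 F (f.preimage_mono hW₀) s).trans
      ((congrArg (sectH0 F (f ⁻¹ᵁ W₀)) h2).trans (map_zero (sectH0 F (f ⁻¹ᵁ W₀)))))

theorem LZ_all (p : ℕ) : ∀ F : X.Modules, LZ f E p F := by
  have := enoughInjectives_modules X
  induction p with
  | zero => exact fun F => LZ_zero f E F
  | succ p ih => exact fun F => LZ_step f E (sesInj F) (sesInj_shortExact F) p (ih (sesInj F).X₃)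

/-- local injectivity of the comparison maps -/
theorem locally_zero (p : ℕ) (F : X.Modules) (V : Y.Opens) (x : Coh.HHon X F (f ⁻¹ᵁ V) p) (y : Y)
    (W₀ : Y.Opens) (hW₀ : W₀ ≤ V) (hy : y ∈ W₀)
    (h0 : ((Coh.Rpush f p).obj F).presheaf.map (homOfLE hW₀).op (E.ε V F p x) = 0) :
    ∃ (W : Y.Opens) (hWV : W ≤ V), y ∈ W ∧ CohPull.resLE F (f.preimage_mono hWV) p x = 0 :=
  LZ_all f E p F V x y W₀ hW₀ hy h0

end LZ

end Groth.Agent.Lib.T2H5.ResLE
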