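import Mathlib
import Groth.Agent.Lib.T2H5ResLE3

/-!
# The comparison maps `CohCmp.SectCmp` commute with restriction to smaller opens of the base (helper5)

Namespace `Groth.Agent.Lib.T2H5.ResLE`.
-/

set_option autoImplicit false
set_option linter.style.haveILetI false
set_option linter.unusedSectionVars false
set_option linter.unusedVariables false
set_option linter.unnecessarySimpa false
universe u
open CategoryTheory Opposite TopologicalSpace AlgebraicGeometry

namespace Groth.Agent.Lib.T2H5.ResLE
open Scheme.Modules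

section ER

open CohPull CohCmp Groth.Agent.Lib.Helper23.SectCmpLib Abelian Limits

variable {X Y : Scheme.{u}} (f : X ⟶ Y) [HasInjectiveResolutions X.Modules]
  {Δ : RDer.DerivedLES (pushforward f)} (E : CohCmp.SectCmp f Δ)

/-- compatibility of the comparison maps with restriction, in degree `p` for the module `F` -/
def ER (p : ℕ) (F : X.Modules) : Prop :=
  ∀ {V W : Y.Opens} (hWV : W ≤ V) (x : Coh.HHon X F (f ⁻¹ᵁ V) p),
    E.ε W F p (CohPull.resLE F (f.preimage_mono hWV) p x) =
      ((Coh.Rpush f p).obj F).presheaf.map (homOfLE hWV).op (E.ε V F p x)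

lemma ER_zero (F : X.Modules) : ER f E 0 F := by
  intro V W hWV x
  obtain ⟨s, hs⟩ := (sectH0 F (f ⁻¹ᵁ V)).surjective x
  refine (congrArg (fun z => E.ε W F 0 (CohPull.resLE F (f.preimage_mono hWV) 0 z)) hs).symm.trans ?_
  refine Eq.trans ?_ (congrArg (fun z => ((Coh.Rpush f 0).obj F).presheaf.map (homOfLE hWV).op
    (E.ε V F 0 z)) hs)
  refine (congrArg (E.ε W F 0) (resLE_sectH0 F (f.preimage_mono hWV) s)).trans ?_
  refine (E.zero W F _).trans ?_
  refine (tau_res f F hWV s).trans ?_
  exact congrArg (fun z => ((Coh.Rpush f 0).obj F).presheaf.map (homOfLE hWV).op z) (E.zero V F s).symm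

lemma ER_step (S : ShortComplex X.Modules) (hS : S.ShortExact) [Injective S.X₂] (p : ℕ)
    (ih : ER f E p S.X₃) : ER f E (p + 1) S.X₁ := by
  intro V W hWV x
  obtain ⟨x', hx'⟩ := exists_dl_eq S hS (f ⁻¹ᵁ V) p x
  refine (congrArg (fun z => E.ε W S.X₁ (p + 1) (CohPull.resLE S.X₁ (f.preimage_mono hWV) (p + 1) z))
    hx').symm.trans ?_
  refine Eq.trans ?_ (congrArg (fun z => ((Coh.Rpush f (p + 1)).obj S.X₁).presheaf.map (homOfLE hWV).op
    (E.ε V S.X₁ (p + 1) z)) hx')
  refine (congrArg (E.ε W S.X₁ (p + 1)) (resLE_dl S hS (f.preimage_mono hWV) p x')).trans ?_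
  refine (eps_dl f E S hS W p _).trans ?_
  refine (congrArg (fun z => (Δ.δ S hS p (p + 1) rfl).app W z) (ih hWV x')).trans ?_
  refine (delta_res f S hS p hWV _).trans ?_
  exact congrArg (fun z => ((Coh.Rpush f (p + 1)).obj S.X₁).presheaf.map (homOfLE hWV).op z)
    (eps_dl f E S hS V p x').symm

theorem ER_all (p : ℕ) : ∀ F : X.Modules, ER f E p F := by
  have := enoughInjectives_modules X
  induction p with
  | zero => exact fun F => ER_zero f E F
  | succ p ih => exact fun F => ER_step f E (sesInj F) (sesInj_shortExact F) p (ih (sesInj F).X₃)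

/-- the comparison maps are compatible with restriction to smaller opens of the base -/
theorem eps_resLE (p : ℕ) (F : X.Modules) {V W : Y.Opens} (hWV : W ≤ V) (x : Coh.HHon X F (f ⁻¹ᵁ V) p) :
    E.ε W F p (CohPull.resLE F (f.preimage_mono hWV) p x) =
      ((Coh.Rpush f p).obj F).presheaf.map (homOfLE hWV).op (E.ε V F p x) :=
  ER_all f E p F hWV x

end ER

end Groth.Agent.Lib.T2H5.ResLE
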