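import Mathlib
import Groth.Agent.Lib.T2H5ResLE6
import Groth.Agent.Lib.T2H5ResLE5
import Groth.Agent.Lib.T2H5RpushAffine

/-!
# Comparison of `Ext(ℤ_U, F)` on `X` with the cohomology of `F|_U` on `U`, compatibly with restriction (helper5)

Namespace `Groth.Agent.Lib.T2H5.HEComp`.

* `tauU F U p : HE (ab' F) p U →+ Coh.HHon X F U p`, bijective (`tauU_bijective`);
* `tauU_sect`: in degree `0` it sends the class of a section to `CohPull.sectH0`;
* `tauU_delta`: compatible with connecting homomorphisms;
* `tauU_resE`: `tauU` intertwines `resE` with `CohPull.resLE`.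
-/

set_option autoImplicit false
set_option linter.style.haveILetI false
set_option linter.unusedSectionVars false
universe u
open CategoryTheory CategoryTheory.Limits Opposite TopologicalSpace AlgebraicGeometry Abelian

namespace Groth.Agent.Lib.T2H5.HEComp

open Groth.Agent.Lib.Helper23.AffVanish Groth.Agent.Lib.Helper16.ClosedEmb
open Groth.Agent.Lib.Helper16.ExtCompare Groth.Agent.Lib.Helper16.Restr
open Groth.Agent.Lib.Helper23.SectCmpLib Groth.Agent.Lib.T2H5.ResLE
open Scheme.Modules CohPull CohCmp

section General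

universe w w' v v' u₁ u₂

variable {𝒞 : Type u₁} [Category.{v} 𝒞] [Abelian 𝒞] [EnoughInjectives 𝒞] [HasExt.{w} 𝒞]
variable {𝒟 : Type u₂} [Category.{v'} 𝒟] [Abelian 𝒟] [HasExt.{w'} 𝒟]
variable (R : 𝒞 ⥤ 𝒟) [R.Additive] [PreservesFiniteLimits R] [PreservesFiniteColimits R]

/-- the comparison maps of `Ext` groups along an exact functor commute with connecting homomorphisms -/
theorem cmp_comp_extClass {A : 𝒞} {B : 𝒟} (w : B ⟶ R.obj A) {T : ShortComplex 𝒞} (hT : T.ShortExact)
    (n : ℕ) (x : Ext.{w} A T.X₃ n) :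
    cmp R w T.X₁ (n + 1) (x.comp hT.extClass rfl) =
      (cmp R w T.X₃ n x).comp (hT.map_of_exact R).extClass rfl := by
  rw [cmp_apply, cmp_apply, Ext.mapExactFunctor_comp, Ext.mapExactFunctor_extClass]
  exact (Ext.comp_assoc _ _ _ _ _ (by omega)).symm

end General

variable {X : Scheme.{u}}

/-- the comparison `Ext^p(ℤ_U, F) → H^p(U, F|_U)` -/
noncomputable def tauU (F : X.Modules) (U : X.Opens) (p : ℕ) :
    HE (ab' F) p U →+ Coh.HHon X F U p :=
  haveI := restr_preservesFiniteLimits (X := X.carrier) U
  haveI := restr_preservesFiniteColimits (X := X.carrier) U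
  cmp (CohTop.restrFunctor (X := X.carrier) U) (wU (X := X.carrier) U) (ab' F) p

theorem tauU_bijective (F : X.Modules) (U : X.Opens) (p : ℕ) : Function.Bijective (tauU F U p) := by
  haveI := restr_preservesFiniteLimits (X := X.carrier) U
  haveI := restr_preservesFiniteColimits (X := X.carrier) U
  exact cmp_bijective.{u, u} (CohTop.restrFunctor (X := X.carrier) U) (wU (X := X.carrier) U)
    (wU_bijective (X := X.carrier) U) (fun I _ m => by
      haveI := Groth.Agent.Lib.Helper16.Flasque.injective_isFlasque I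
      exact Groth.Agent.Lib.Helper16.Flasque.H_subsingleton ((CohTop.restrFunctor (X := X.carrier) U).obj I) m) p
    (ab' F)

/-- `H.equiv₀` of a degree-zero class given by a morphism -/
theorem equiv₀_mk₀ {Y : TopCat.{u}} (G : CohTop.Ab Y) (χ : constZ Y ⟶ G) :
    Sheaf.H.equiv₀ G (isTerminalTop : IsTerminal (⊤ : Opens Y)) (Ext.mk₀ χ) =
      ((adjC Y).homEquiv _ _ χ) ⟨1⟩ := by
  simp only [Sheaf.H.equiv₀, AddEquiv.trans_apply, addEquiv₀_mk₀]
  rfl

/-- in degree zero the comparison sends the class of a section to `sectH0` -/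
theorem tauU_sect (F : X.Modules) (U : X.Opens) (s : F.presheaf.obj (op U)) :
    tauU F U 0 ((h0Equiv (ab' F) U).symm s) = sectH0 F U s := by
  haveI := restr_preservesFiniteLimits (X := X.carrier) U
  haveI := restr_preservesFiniteColimits (X := X.carrier) U
  apply (Sheaf.H.equiv₀ (Coh.toAb (F.restrict U.ι))
    (Limits.isTerminalTop : Limits.IsTerminal (⊤ : (U : Scheme.{u}).Opens))).injective
  rw [equiv₀_sectH0]
  have h1 : (h0Equiv (ab' F) U).symm s = Ext.mk₀ (CohFree.ofSect (J X.carrier) U (ab' F) s) := rfl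
  rw [h1]
  have h2 : tauU F U 0 (Ext.mk₀ (CohFree.ofSect (J X.carrier) U (ab' F) s)) =
      Ext.mk₀ (wU (X := X.carrier) U ≫ (CohTop.restrFunctor (X := X.carrier) U).map
        (CohFree.ofSect (J X.carrier) U (ab' F) s)) :=
    cmp_mk₀ (CohTop.restrFunctor (X := X.carrier) U) (wU (X := X.carrier) U) (ab' F) _
  rw [h2]
  refine (equiv₀_mk₀ _ _).trans ?_
  refine (homEquiv_wU_comp (X := X.carrier) U (F := ab' F)
    (CohFree.ofSect (J X.carrier) U (ab' F) s)).trans ?_
  refine (congrArg (fun t => (ab' F).obj.map (homOfLE (img_le (X := X.carrier) U ⊤)).op t)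
    (CohFree.evalGen_ofSect (J X.carrier) U (ab' F) s)).trans ?_
  rfl

/-- the underlying abelian sheaf functor, typed on `X.Modules` -/
noncomputable def abF (X : Scheme.{u}) : X.Modules ⥤ CohTop.Ab X.carrier :=
  SheafOfModules.toSheaf X.ringCatSheaf

noncomputable instance (X : Scheme.{u}) : (abF X).Additive :=
  inferInstanceAs (SheafOfModules.toSheaf X.ringCatSheaf).Additive

/-- the underlying abelian sheaf functor is exact -/
theorem abF_shortExact (S : ShortComplex X.Modules) (hS : S.ShortExact) :
    (S.map (abF X)).ShortExact := by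
  let E : SheafOfModules.{u} X.ringCatSheaf ⥤ Sheaf (Opens.grothendieckTopology X) AddCommGrpCat.{u} :=
    SheafOfModules.toSheaf X.ringCatSheaf
  let S' : ShortComplex (SheafOfModules.{u} X.ringCatSheaf) := S
  have hS' : S'.ShortExact := hS
  have h1 : (S'.map E).ShortExact := hS'.map_of_exact E
  exact h1

/-- the connecting homomorphism on the `Ext(ℤ_U, -)` side -/
noncomputable def dE (S : ShortComplex X.Modules) (hS : S.ShortExact) (U : X.Opens) (p : ℕ) :
    HE (ab' S.X₃) p U →+ HE (ab' S.X₁) (p + 1) U :=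
  (abF_shortExact S hS).extClass.postcomp (Groth.Agent.Lib.Helper23.AffVanish.ZU (X := X.carrier) U) rfl

/-- the comparison is compatible with connecting homomorphisms -/
theorem tauU_delta (S : ShortComplex X.Modules) (hS : S.ShortExact) (U : X.Opens) (p : ℕ)
    (x : HE (ab' S.X₃) p U) :
    tauU S.X₁ U (p + 1) (dE S hS U p x) = dl S hS U p (tauU S.X₃ U p x) := by
  haveI := restr_preservesFiniteLimits (X := X.carrier) U
  haveI := restr_preservesFiniteColimits (X := X.carrier) U
  have hAb := abF_shortExact S hS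
  have hA' : ((S.map (abF X)).map (CohTop.restrFunctor (X := X.carrier) U)).ShortExact :=
    hAb.map_of_exact (CohTop.restrFunctor (X := X.carrier) U)
  change cmp (CohTop.restrFunctor (X := X.carrier) U) (wU (X := X.carrier) U) _ (p + 1)
      (x.comp hAb.extClass rfl) =
    (cmp (CohTop.restrFunctor (X := X.carrier) U) (wU (X := X.carrier) U) _ p x).comp hA'.extClass rfl
  exact cmp_comp_extClass (CohTop.restrFunctor (X := X.carrier) U) (wU (X := X.carrier) U) hAb p x

/-- every class of positive degree of the first term is a boundary when the middle term is injective -/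
theorem exists_dE_eq (S : ShortComplex X.Modules) (hS : S.ShortExact) [Injective S.X₂] (U : X.Opens) (p : ℕ)
    (x : HE (ab' S.X₁) (p + 1) U) : ∃ y : HE (ab' S.X₃) p U, dE S hS U p y = x := by
  have hsub : Subsingleton (HE (ab' S.X₂) (p + 1) U) :=
    Groth.Agent.Lib.Helper23.ModAbBridge.subsingleton_HE_of_injective S.X₂ U p
  have hAb := abF_shortExact S hS
  have h0 : (x : Ext.{u} _ ((S.map (abF X)).X₁) (p + 1)).comp
      (Ext.mk₀ (S.map (abF X)).f) (add_zero (p + 1)) = 0 :=
    @Subsingleton.elim _ hsub _ _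
  exact Ext.covariant_sequence_exact₁ _ hAb x h0 rfl

/-- restriction commutes with the connecting homomorphism on the `Ext(ℤ_U, -)` side -/
theorem resE_dE (S : ShortComplex X.Modules) (hS : S.ShortExact) {U U' : X.Opens} (h : U' ≤ U) (p : ℕ)
    (y : HE (ab' S.X₃) p U) :
    resE (ab' S.X₁) (p + 1) h (dE S hS U p y) = dE S hS U' p (resE (ab' S.X₃) p h y) := by
  have hAb := abF_shortExact S hS
  change (Ext.mk₀ (CohCx.freeSheafMap (J X.carrier) (homOfLE h))).comp (y.comp hAb.extClass rfl)
      (zero_add (p + 1)) =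
    ((Ext.mk₀ (CohCx.freeSheafMap (J X.carrier) (homOfLE h))).comp y (zero_add p)).comp hAb.extClass rfl
  exact (Ext.comp_assoc _ _ _ _ _ (by omega)).symm

/-- **the comparison intertwines the two restriction maps** -/
theorem tauU_resE (p : ℕ) : ∀ (F : X.Modules) {U U' : X.Opens} (h : U' ≤ U) (x : HE (ab' F) p U),
    tauU F U' p (resE (ab' F) p h x) = CohPull.resLE F h p (tauU F U p x) := by
  have := enoughInjectives_modules X
  induction p with
  | zero =>
    intro F U U' h x
    obtain ⟨s, rfl⟩ := (h0Equiv (ab' F) U).symm.surjective x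
    have h1 : resE (ab' F) 0 h ((h0Equiv (ab' F) U).symm s) =
        (h0Equiv (ab' F) U').symm (((ab' F).obj.map (homOfLE h).op).hom s) := by
      apply (h0Equiv (ab' F) U').injective
      rw [h0Equiv_res, AddEquiv.apply_symm_apply, AddEquiv.apply_symm_apply]
    refine (congrArg (tauU F U' 0) h1).trans ?_
    refine (tauU_sect F U' _).trans ?_
    refine Eq.trans ?_ (congrArg (CohPull.resLE F h 0) (tauU_sect F U s)).symm
    exact (resLE_sectH0 F h s).symm
  | succ p ih =>
    intro F U U' h x
    obtain ⟨y, rfl⟩ := exists_dE_eq (sesInj F) (sesInj_shortExact F) U p x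
    refine (congrArg (tauU F U' (p + 1)) (resE_dE (sesInj F) (sesInj_shortExact F) h p y)).trans ?_
    refine (tauU_delta (sesInj F) (sesInj_shortExact F) U' p _).trans ?_
    refine (congrArg (dl (sesInj F) (sesInj_shortExact F) U' p) (ih (sesInj F).X₃ h y)).trans ?_
    refine (resLE_dl (sesInj F) (sesInj_shortExact F) h p _).symm.trans ?_
    exact congrArg (CohPull.resLE F h (p + 1)) (tauU_delta (sesInj F) (sesInj_shortExact F) U p y).symm

end Groth.Agent.Lib.T2H5.HEComp
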