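import Mathlib
import Groth.Agent.Lib.T2H5HEComp
import Groth.Agent.S16954

/-!
# The comparison maps `ε_V` are bijective over affine opens (helper5)

Namespace `Groth.Agent.Lib.T2H5.HEComp`.

`eps_bijective_of_isAffineOpen`: for `f : X ⟶ S` quasi-compact quasi-separated, `F` quasi-coherent and `V₀` an affine
open of `S`, the comparison `E.ε V₀ F q : H^q(f⁻¹V₀, F|) → Γ(V₀, R^q f_* F)` of any `E : CohCmp.SectCmp f Δ` is bijective.
-/

set_option autoImplicit false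
set_option linter.style.haveILetI false
set_option linter.unusedSectionVars false
universe u
open CategoryTheory CategoryTheory.Limits Opposite TopologicalSpace AlgebraicGeometry Abelian

namespace Groth.Agent.Lib.T2H5.HEComp

open Groth.Agent.Lib.Helper23.AffVanish Groth.Agent.Lib.Helper16.ClosedEmb
open Groth.Agent.Lib.T2H5.ResLE Groth.Agent.Lib.T2H5.RpushAffine
open Scheme.Modules CohPull CohCmp

variable {X S : Scheme.{u}} (f : X ⟶ S) [QuasiCompact f] [QuasiSeparated f]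
  [HasInjectiveResolutions X.Modules]
  {Δ : RDer.DerivedLES (pushforward f)} (E : CohCmp.SectCmp f Δ) (F : X.Modules) [Coh.IsQCoh F] (q : ℕ)

theorem eps_bijective_of_isAffineOpen (V₀ : S.Opens) (hV₀ : IsAffineOpen V₀) :
    Function.Bijective (E.ε V₀ F q) := by
  haveI : F.IsQuasicoherent := ‹Coh.IsQCoh F›
  let T : CohTop.Ab S.carrier := Coh.toAb ((Coh.Rpush f q).obj F)
  let c : ∀ V : S.Opens, HE (ab' F) q (f ⁻¹ᵁ V) →+ T.obj.obj (op V) :=
    fun V => (E.ε V F q).comp (tauU F (f ⁻¹ᵁ V) q)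
  have hnat : ∀ (V V' : S.Opens) (h : V' ≤ V) (α : HE (ab' F) q (f ⁻¹ᵁ V)),
      c V' (resE (ab' F) q (f.preimage_mono h) α) = (T.obj.map (homOfLE h).op).hom (c V α) := by
    intro V V' h α
    change E.ε V' F q (tauU F (f ⁻¹ᵁ V') q (resE (ab' F) q (f.preimage_mono h) α)) = _
    refine (congrArg (E.ε V' F q) (tauU_resE q F (f.preimage_mono h) α)).trans ?_
    exact eps_resLE f E q F h _
  have hsurj : ∀ (V : S.Opens) (t : T.obj.obj (op V)) (y : S), y ∈ V →
      ∃ (V' : S.Opens) (h : V' ≤ V), y ∈ V' ∧ ∃ α : HE (ab' F) q (f ⁻¹ᵁ V'),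
        c V' α = (T.obj.map (homOfLE h).op).hom t := by
    intro V t y hy
    obtain ⟨W, hWV, hyW, x, hx⟩ := Groth.Agent.S16954.result f E F q V t y hy
    obtain ⟨α, rfl⟩ := (tauU_bijective F (f ⁻¹ᵁ W) q).2 x
    exact ⟨W, hWV, hyW, α, hx⟩
  have hinj : ∀ (V : S.Opens) (α : HE (ab' F) q (f ⁻¹ᵁ V)), c V α = 0 → ∀ y : S, y ∈ V →
      ∃ (V' : S.Opens) (h : V' ≤ V), y ∈ V' ∧ resE (ab' F) q (f.preimage_mono h) α = 0 := by
    intro V α hα y hy
    have h0 : ((Coh.Rpush f q).obj F).presheaf.map (homOfLE (le_refl V)).op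
        (E.ε V F q (tauU F (f ⁻¹ᵁ V) q α)) = 0 := by
      have h1 : E.ε V F q (tauU F (f ⁻¹ᵁ V) q α) = 0 := hα
      rw [h1, map_zero]
    obtain ⟨W, hWV, hyW, hres⟩ := locally_zero f E q F V (tauU F (f ⁻¹ᵁ V) q α) y V (le_refl V) hy h0
    refine ⟨W, hWV, hyW, ?_⟩
    apply (tauU_bijective F (f ⁻¹ᵁ W) q).1
    rw [map_zero]
    exact (tauU_resE q F (f.preimage_mono hWV) α).trans hres
  have hb : Function.Bijective (c V₀) :=
    bijective_comparison_affineOpen f F q T c hnat hsurj hinj V₀ hV₀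
  have hc : (c V₀ : _ → _) = (E.ε V₀ F q) ∘ (tauU F (f ⁻¹ᵁ V₀) q) := rfl
  rw [hc] at hb
  exact (Function.Bijective.of_comp_iff _ (tauU_bijective F (f ⁻¹ᵁ V₀) q)).1 hb

end Groth.Agent.Lib.T2H5.HEComp
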