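import Groth.Agent.Lib.T2H5GBCTw
import Groth.Agent.Lib.T2H5HECompB
import Groth.Agent.Lib.Helper13ModAffine
set_option backward.isDefEq.respectTransparency.types false

/-!
# Horizontal composition of the base change maps `GenBC` (helper5)

Namespace `Groth.Agent.Lib.T2H5.GBCComp`.

* `unit_comp_app`: the unit of `(f ≫ g)^* ⊣ (f ≫ g)_*` on sections through the units of `f` and `g`.
* `pullOn_comp`: `CohPull.pullOn` along a composite.
* `bc_comp`: horizontal composition of `GenBC.bc`.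
-/

set_option autoImplicit false
set_option linter.style.haveILetI false
set_option linter.unusedSectionVars false
set_option linter.unusedVariables false
set_option linter.unnecessarySimpa false
universe u
open CategoryTheory CategoryTheory.Limits Opposite TopologicalSpace AlgebraicGeometry Abelian

namespace Groth.Agent.Lib.T2H5.GBCComp

open CohPull Scheme.Modules Groth.Agent.Lib.T2H5.ResLE Groth.Agent.Lib.T2H5.PushEdge
  Groth.Agent.Lib.T2H5.TwComp Groth.Agent.Lib.T2H5.BCPull Groth.Agent.Lib.T2H5.GBCTw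

section unit

variable {X Y Z : Scheme.{u}}

/-- the unit of `(f ≫ g)^* ⊣ (f ≫ g)_*` on sections through the units of `f` and `g` -/
lemma unit_comp_app (f : X ⟶ Y) (g : Y ⟶ Z) (M : Z.Modules) (A : Z.Opens) (m : Γ(M, A)) :
    ((Scheme.Modules.pullbackComp f g).hom.app M).app (f ⁻¹ᵁ (g ⁻¹ᵁ A))
      (((pullbackPushforwardAdjunction f).unit.app ((Scheme.Modules.pullback g).obj M)).app (g ⁻¹ᵁ A)
        (((pullbackPushforwardAdjunction g).unit.app M).app A m)) =
    ((pullbackPushforwardAdjunction (f ≫ g)).unit.app M).app A m := by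
  have h := unit_pullbackComp_hom f g M
  have h2 := congrArg (fun φ => (Scheme.Modules.Hom.app φ A) m) h
  simp at h2
  exact h2

/-- the same after restriction to smaller opens -/
lemma unit_comp_app_res (f : X ⟶ Y) (g : Y ⟶ Z) (L : Z.Modules) (A : Z.Opens) (A' : Y.Opens)
    (A'' : X.Opens) (hA' : A' ≤ g ⁻¹ᵁ A) (hA'' : A'' ≤ f ⁻¹ᵁ A') (hA : A'' ≤ (f ≫ g) ⁻¹ᵁ A)
    (m : Γ(L, A)) :
    ((Scheme.Modules.pullbackComp f g).hom.app L).app A''
      (((Scheme.Modules.pullback f).obj ((Scheme.Modules.pullback g).obj L)).presheaf.map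
        (homOfLE hA'').op
        (((pullbackPushforwardAdjunction f).unit.app ((Scheme.Modules.pullback g).obj L)).app A'
          (((Scheme.Modules.pullback g).obj L).presheaf.map (homOfLE hA').op
            (((pullbackPushforwardAdjunction g).unit.app L).app A m)))) =
    ((Scheme.Modules.pullback (f ≫ g)).obj L).presheaf.map (homOfLE hA).op
      (((pullbackPushforwardAdjunction (f ≫ g)).unit.app L).app A m) := by
  have n1 := congr($(((pullbackPushforwardAdjunction f).unit.app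
    ((Scheme.Modules.pullback g).obj L)).mapPresheaf.naturality (homOfLE hA').op)
    (((pullbackPushforwardAdjunction g).unit.app L).app A m))
  have n2 := congr($(((Scheme.Modules.pullbackComp f g).hom.app L).mapPresheaf.naturality
    (homOfLE (hA''.trans (f.preimage_mono hA'))).op)
    (((pullbackPushforwardAdjunction f).unit.app ((Scheme.Modules.pullback g).obj L)).app (g ⁻¹ᵁ A)
        (((pullbackPushforwardAdjunction g).unit.app L).app A m)))
  have n3 := unit_comp_app f g L A m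
  have n1' : ((pullbackPushforwardAdjunction f).unit.app ((Scheme.Modules.pullback g).obj L)).app A'
      (((Scheme.Modules.pullback g).obj L).presheaf.map (homOfLE hA').op
        (((pullbackPushforwardAdjunction g).unit.app L).app A m)) =
      ((Scheme.Modules.pullback f).obj ((Scheme.Modules.pullback g).obj L)).presheaf.map
        (homOfLE (f.preimage_mono hA')).op
        (((pullbackPushforwardAdjunction f).unit.app ((Scheme.Modules.pullback g).obj L)).app (g ⁻¹ᵁ A)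
          (((pullbackPushforwardAdjunction g).unit.app L).app A m)) := n1
  have n2' : ((Scheme.Modules.pullbackComp f g).hom.app L).app A''
      (((Scheme.Modules.pullback f).obj ((Scheme.Modules.pullback g).obj L)).presheaf.map
        (homOfLE (hA''.trans (f.preimage_mono hA'))).op
        (((pullbackPushforwardAdjunction f).unit.app ((Scheme.Modules.pullback g).obj L)).app (g ⁻¹ᵁ A)
          (((pullbackPushforwardAdjunction g).unit.app L).app A m))) =
      ((Scheme.Modules.pullback (f ≫ g)).obj L).presheaf.map (homOfLE hA).op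
        (((Scheme.Modules.pullbackComp f g).hom.app L).app (f ⁻¹ᵁ (g ⁻¹ᵁ A))
          (((pullbackPushforwardAdjunction f).unit.app ((Scheme.Modules.pullback g).obj L)).app (g ⁻¹ᵁ A)
            (((pullbackPushforwardAdjunction g).unit.app L).app A m))) := n2
  rw [n1', map_map_eq ((Scheme.Modules.pullback f).obj ((Scheme.Modules.pullback g).obj L)) _ _
    (homOfLE (hA''.trans (f.preimage_mono hA'))), n2', n3]

end unit

section pullOn

variable {X Y Z : Scheme.{u}} (f : X ⟶ Y) (g : Y ⟶ Z) (U : Z.Opens) (U' : Y.Opens) (U'' : X.Opens)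
  (h : U' ≤ g ⁻¹ᵁ U) (h' : U'' ≤ f ⁻¹ᵁ U') (h'' : U'' ≤ (f ≫ g) ⁻¹ᵁ U) (L : Z.Modules)

/-- `CohPull.pullOn` along a composite -/
theorem pullOn_comp (p : ℕ) (x : Coh.HHon Z L U p) :
    CohPull.mapH ((Scheme.Modules.restrictFunctor U''.ι).map
        ((Scheme.Modules.pullbackComp f g).hom.app L)) p
      (pullOn f U' U'' h' ((Scheme.Modules.pullback g).obj L) p (pullOn g U U' h L p x)) =
    pullOn (f ≫ g) U U'' h'' L p x := by
  have e1 := pullOn_eq_twM g U U' h L p x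
  have e2 := pullOn_eq_twM f U' U'' h' ((Scheme.Modules.pullback g).obj L) p (pullOn g U U' h L p x)
  have e3 := pullOn_eq_twM (f ≫ g) U U'' h'' L p x
  refine Eq.trans (congrArg (CohPull.mapH ((Scheme.Modules.restrictFunctor U''.ι).map
    ((Scheme.Modules.pullbackComp f g).hom.app L)) p) (e2.trans (congrArg _ e1))) ?_
  refine Eq.trans (mapH_twM _ _ _ p _) ?_
  refine Eq.trans ?_ e3.symm
  refine twM_twM' (f.resLE U' U'' h') (g.resLE U U' h) ((f ≫ g).resLE U U'' h'')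
    (Scheme.Hom.resLE_comp_resLE f h' g h) _ _ _ ?_ p x
  intro W m
  have t1 := (ConcreteCategory.congr_hom (Groth.Agent.Lib.T2H5.BC0GlueA.theta_app (f ≫ g) U.ι U''.ι
    ((f ≫ g).resLE U U'' h'') (Scheme.Hom.resLE_comp_ι (f ≫ g) h'') L W) m).trans
    (ConcreteCategory.comp_apply _ _ m)
  have t2 := (ConcreteCategory.congr_hom (Groth.Agent.Lib.T2H5.BC0GlueA.theta_app g U.ι U'.ι
    (g.resLE U U' h) (Scheme.Hom.resLE_comp_ι g h) L W) m).trans
    (ConcreteCategory.comp_apply _ _ m)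
  have t3 := fun n => (ConcreteCategory.congr_hom (Groth.Agent.Lib.T2H5.BC0GlueA.theta_app f U'.ι U''.ι
    (f.resLE U' U'' h') (Scheme.Hom.resLE_comp_ι f h') ((Scheme.Modules.pullback g).obj L)
    ((g.resLE U U' h) ⁻¹ᵁ W)) n).trans (ConcreteCategory.comp_apply _ _ n)
  rw [t1, t2]
  have hc : ∀ z, (Scheme.Modules.Hom.app
      (Groth.Agent.Lib.T2H5.BC0GlueA.theta f U'.ι U''.ι (f.resLE U' U'' h')
        (Scheme.Hom.resLE_comp_ι f h') ((Scheme.Modules.pullback g).obj L) ≫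
        (pushforward (f.resLE U' U'' h')).map
          ((restrictFunctor U''.ι).map ((Scheme.Modules.pullbackComp f g).hom.app L)))
      ((g.resLE U U' h) ⁻¹ᵁ W)) z =
      (((Scheme.Modules.pullbackComp f g).hom.app L).app
        (U''.ι ''ᵁ ((f.resLE U' U'' h') ⁻¹ᵁ ((g.resLE U U' h) ⁻¹ᵁ W))))
        ((Scheme.Modules.Hom.app (Groth.Agent.Lib.T2H5.BC0GlueA.theta f U'.ι U''.ι (f.resLE U' U'' h')
          (Scheme.Hom.resLE_comp_ι f h') ((Scheme.Modules.pullback g).obj L))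
          ((g.resLE U U' h) ⁻¹ᵁ W)) z) := fun z => rfl
  rw [hc, t3]
  have key := unit_comp_app_res f g L (U.ι ''ᵁ W) (U'.ι ''ᵁ ((g.resLE U U' h) ⁻¹ᵁ W))
    (U''.ι ''ᵁ ((f.resLE U' U'' h') ⁻¹ᵁ ((g.resLE U U' h) ⁻¹ᵁ W)))
    (Groth.Agent.Lib.T2H5.BC0GlueA.image_le g U.ι U'.ι (g.resLE U U' h)
        (Scheme.Hom.resLE_comp_ι g h) W)
    (Groth.Agent.Lib.T2H5.BC0GlueA.image_le f U'.ι U''.ι (f.resLE U' U'' h')
      (Scheme.Hom.resLE_comp_ι f h') ((g.resLE U U' h) ⁻¹ᵁ W))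
    ((Groth.Agent.Lib.T2H5.BC0GlueA.image_le f U'.ι U''.ι (f.resLE U' U'' h')
      (Scheme.Hom.resLE_comp_ι f h') ((g.resLE U U' h) ⁻¹ᵁ W)).trans
      (f.preimage_mono (Groth.Agent.Lib.T2H5.BC0GlueA.image_le g U.ι U'.ι (g.resLE U U' h)
        (Scheme.Hom.resLE_comp_ι g h) W))) m
  refine Eq.trans ?_ (congrArg (fun z =>
    ((((Scheme.Modules.pullback (f ≫ g)).obj L).restrict U''.ι).presheaf.map (eqToHom _).op) z)
    key.symm)
  have e1 : ∀ {A B : (↑U'' : Scheme.{u}).Opens} (i : A ⟶ B) (y),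
      (((Scheme.Modules.pullback (f ≫ g)).obj L).restrict U''.ι).presheaf.map i.op y =
        ((Scheme.Modules.pullback (f ≫ g)).obj L).presheaf.map (U''.ι.opensFunctor.map i).op y :=
    fun _ _ => rfl
  refine Eq.trans ?_ (e1 _ _).symm
  exact (map_map_eq ((Scheme.Modules.pullback (f ≫ g)).obj L) _ _ _ _).symm

end pullOn

section main

variable {X Y Z U V W : Scheme.{u}} (f : X ⟶ Y) (g : Y ⟶ Z) (ξ : X ⟶ U) (η : Y ⟶ V) (ζ : Z ⟶ W)
  (φ : U ⟶ V) (ψ : V ⟶ W) (w₁ : f ≫ η = ξ ≫ φ) (w₂ : g ≫ ζ = η ≫ ψ)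
  (hw : (f ≫ g) ≫ ζ = ξ ≫ (φ ≫ ψ))
  [QuasiCompact ζ] [QuasiSeparated ζ]
  [HasInjectiveResolutions X.Modules] [HasInjectiveResolutions Y.Modules]
  [HasInjectiveResolutions Z.Modules]
  (L : Z.Modules) [Coh.IsQCoh L] (p : ℕ)
  {Δζ : RDer.DerivedLES (pushforward ζ)} {Δη : RDer.DerivedLES (pushforward η)}
  {Δξ : RDer.DerivedLES (pushforward ξ)}
  (Eζ : CohCmp.SectCmp ζ Δζ) (Eη : CohCmp.SectCmp η Δη) (Eξ : CohCmp.SectCmp ξ Δξ)
  (B₂ : CohCmp.GenBC ζ ψ η g w₂ Eζ Eη) (B₁ : CohCmp.GenBC η φ ξ f w₁ Eη Eξ)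
  (B : CohCmp.GenBC ζ (φ ≫ ψ) ξ (f ≫ g) hw Eζ Eξ)

/-- horizontal composition of the base change maps, in adjoint form -/
theorem phi_comp :
    B.φ p L ≫ (Scheme.Modules.pushforwardComp φ ψ).inv.app _ =
      B₂.φ p L ≫ (pushforward ψ).map (B₁.φ p ((Scheme.Modules.pullback g).obj L) ≫
        (pushforward φ).map ((Coh.Rpush ξ p).map ((Scheme.Modules.pullbackComp f g).hom.app L))) := by
  refine Groth.Agent.Helper13ModAffine.hom_ext_affine _ _ (fun V₀ hV₀ => ?_)
  apply ConcreteCategory.hom_ext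
  intro t
  obtain ⟨x, rfl⟩ := (Groth.Agent.Lib.T2H5.HEComp.eps_bijective_of_isAffineOpen ζ Eζ L p V₀ hV₀).2 t
  have c0 := B.compat V₀ L p x
  have c2 := B₂.compat V₀ L p x
  have c1 := B₁.compat (ψ ⁻¹ᵁ V₀) ((Scheme.Modules.pullback g).obj L) p
    (pullOn g (ζ ⁻¹ᵁ V₀) (η ⁻¹ᵁ (ψ ⁻¹ᵁ V₀)) (CohCmp.sqLE ζ ψ η g w₂ V₀) L p x)
  have nat := Eξ.natural (φ ⁻¹ᵁ (ψ ⁻¹ᵁ V₀)) ((Scheme.Modules.pullbackComp f g).hom.app L) p
    (pullOn f (η ⁻¹ᵁ (ψ ⁻¹ᵁ V₀)) (ξ ⁻¹ᵁ (φ ⁻¹ᵁ (ψ ⁻¹ᵁ V₀))) (CohCmp.sqLE η φ ξ f w₁ (ψ ⁻¹ᵁ V₀))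
      ((Scheme.Modules.pullback g).obj L) p
      (pullOn g (ζ ⁻¹ᵁ V₀) (η ⁻¹ᵁ (ψ ⁻¹ᵁ V₀)) (CohCmp.sqLE ζ ψ η g w₂ V₀) L p x))
  have pc := pullOn_comp f g (ζ ⁻¹ᵁ V₀) (η ⁻¹ᵁ (ψ ⁻¹ᵁ V₀)) (ξ ⁻¹ᵁ (φ ⁻¹ᵁ (ψ ⁻¹ᵁ V₀)))
    (CohCmp.sqLE ζ ψ η g w₂ V₀) (CohCmp.sqLE η φ ξ f w₁ (ψ ⁻¹ᵁ V₀))
    (CohCmp.sqLE ζ (φ ≫ ψ) ξ (f ≫ g) hw V₀) L p x
  show (B.φ p L).app V₀ (Eζ.ε V₀ L p x) =
    ((Coh.Rpush ξ p).map ((Scheme.Modules.pullbackComp f g).hom.app L)).app (φ ⁻¹ᵁ (ψ ⁻¹ᵁ V₀))
      ((B₁.φ p ((Scheme.Modules.pullback g).obj L)).app (ψ ⁻¹ᵁ V₀)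
        ((B₂.φ p L).app V₀ (Eζ.ε V₀ L p x)))
  refine c0.trans ?_
  rw [c2, c1]
  refine Eq.trans ?_ nat
  exact congrArg _ pc.symm

/-- **horizontal composition of the base change maps** -/
theorem bc_comp :
    (Scheme.Modules.pullbackComp φ ψ).hom.app ((Coh.Rpush ζ p).obj L) ≫ B.bc p L =
      (Scheme.Modules.pullback φ).map (B₂.bc p L) ≫ B₁.bc p ((Scheme.Modules.pullback g).obj L) ≫
        (Coh.Rpush ξ p).map ((Scheme.Modules.pullbackComp f g).hom.app L) := by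
  apply ((pullbackPushforwardAdjunction φ).homEquiv _ _).injective
  apply ((pullbackPushforwardAdjunction ψ).homEquiv _ _).injective
  have hB : (pullbackPushforwardAdjunction (φ ≫ ψ)).homEquiv _ _ (B.bc p L) = B.φ p L :=
    Equiv.apply_symm_apply _ _
  have hB₁ : (pullbackPushforwardAdjunction φ).homEquiv _ _
      (B₁.bc p ((Scheme.Modules.pullback g).obj L)) = B₁.φ p ((Scheme.Modules.pullback g).obj L) :=
    Equiv.apply_symm_apply _ _
  have hB₂ : (pullbackPushforwardAdjunction ψ).homEquiv _ _ (B₂.bc p L) = B₂.φ p L :=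
    Equiv.apply_symm_apply _ _
  have r : (pullbackPushforwardAdjunction ψ).homEquiv _ _
      ((pullbackPushforwardAdjunction φ).homEquiv _ _
        ((Scheme.Modules.pullback φ).map (B₂.bc p L) ≫
          B₁.bc p ((Scheme.Modules.pullback g).obj L) ≫
          (Coh.Rpush ξ p).map ((Scheme.Modules.pullbackComp f g).hom.app L))) =
      B₂.φ p L ≫ (pushforward ψ).map (B₁.φ p ((Scheme.Modules.pullback g).obj L) ≫
        (pushforward φ).map ((Coh.Rpush ξ p).map ((Scheme.Modules.pullbackComp f g).hom.app L))) := by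
    rw [Adjunction.homEquiv_naturality_left, Adjunction.homEquiv_naturality_right, hB₂,
      Adjunction.homEquiv_naturality_right, hB₁]
  have l : (pullbackPushforwardAdjunction ψ).homEquiv _ _
      ((pullbackPushforwardAdjunction φ).homEquiv _ _
        ((Scheme.Modules.pullbackComp φ ψ).hom.app ((Coh.Rpush ζ p).obj L) ≫ B.bc p L)) =
      B.φ p L ≫ (Scheme.Modules.pushforwardComp φ ψ).inv.app _ := by
    have h1 := unit_pullbackComp_hom φ ψ ((Coh.Rpush ζ p).obj L)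
    have n := (Scheme.Modules.pushforwardComp φ ψ).inv.naturality (B.bc p L)
    rw [Adjunction.homEquiv_unit, Adjunction.homEquiv_unit, ← hB, Adjunction.homEquiv_unit]
    calc _ = ((pullbackPushforwardAdjunction ψ).unit.app ((Coh.Rpush ζ p).obj L) ≫
          (pushforward ψ).map ((pullbackPushforwardAdjunction φ).unit.app
            ((Scheme.Modules.pullback ψ).obj ((Coh.Rpush ζ p).obj L))) ≫
          (pushforward ψ).map ((pushforward φ).map
            ((Scheme.Modules.pullbackComp φ ψ).hom.app ((Coh.Rpush ζ p).obj L)))) ≫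
          (pushforward ψ).map ((pushforward φ).map (B.bc p L)) := by
          simp only [Functor.map_comp, Category.assoc]
      _ = _ := by
          rw [h1, Category.assoc, Category.assoc]
          exact congrArg _ n.symm
  exact (l.trans (phi_comp f g ξ η ζ φ ψ w₁ w₂ hw L p Eζ Eη Eξ B₂ B₁ B)).trans r.symm

end main

end Groth.Agent.Lib.T2H5.GBCComp
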