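import Mathlib
import Groth.Agent.Lib.T2H5ResLE6
import Groth.Agent.Lib.T2H2PunctLin

/-!
# The comparison maps `CohCmp.SectCmp` are linear over the functions on the base (helper5)

Namespace `Groth.Agent.Lib.T2H5.GBCLin`.

`eps_smul`: for `t ∈ Γ(S, W)` and `x ∈ H^p(f⁻¹W, F|)`: `ε_W(t • x) = t • ε_W(x)`, where `t` acts on the cohomology
through `f^♯ t`, a global function of the open subscheme `f⁻¹W`.
-/

set_option autoImplicit false
set_option linter.style.haveILetI false
set_option linter.unusedSectionVars false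
set_option linter.unusedVariables false
universe u
open CategoryTheory Opposite TopologicalSpace AlgebraicGeometry

namespace Groth.Agent.Lib.T2H5.GBCLin
open Scheme.Modules

section EL

open CohPull CohCmp Groth.Agent.Lib.Helper23.SectCmpLib Abelian Limits Groth.Agent.Lib.T2H5.ResLE
  Groth.Agent.Lib.T2H2.PunctLin

variable {X Y : Scheme.{u}} (f : X ⟶ Y) [HasInjectiveResolutions X.Modules]
  {Δ : RDer.DerivedLES (pushforward f)} (E : CohCmp.SectCmp f Δ)

/-- a function on `W ⊆ Y` as a global function of the open subscheme `f⁻¹W` -/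
noncomputable def actΓ (W : Y.Opens) : Γ(Y, W) →+* Coh.Γtop (↑(f ⁻¹ᵁ W) : Scheme.{u}) :=
  (toΓtop (f ⁻¹ᵁ W)).comp (f.app W).hom

/-- linearity of the comparison maps, in degree `p` for the module `F` -/
def EL (p : ℕ) (F : X.Modules) : Prop :=
  ∀ (W : Y.Opens) (t : Γ(Y, W)) (x : Coh.HHon X F (f ⁻¹ᵁ W) p),
    E.ε W F p (actΓ f W t • x) = t • (show Γ((Coh.Rpush f p).obj F, W) from E.ε W F p x)

lemma EL_zero (F : X.Modules) : EL f E 0 F := by
  intro W t x
  obtain ⟨s, rfl⟩ := (sectH0 F (f ⁻¹ᵁ W)).surjective x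
  have h1 : actΓ f W t • sectH0 F (f ⁻¹ᵁ W) s =
      sectH0 F (f ⁻¹ᵁ W) (((f.app W).hom t : Γ(X, f ⁻¹ᵁ W)) • (show Γ(F, f ⁻¹ᵁ W) from s)) :=
    (sectH0_smul F (f ⁻¹ᵁ W) ((f.app W).hom t) s).symm
  rw [h1, E.zero, E.zero]
  exact Scheme.Modules.Hom.app_smul ((pushforward f).toRightDerivedZero.app F) t
    (show Γ((pushforward f).obj F, W) from s)

lemma EL_step (S : ShortComplex X.Modules) (hS : S.ShortExact) [Injective S.X₂] (p : ℕ)
    (ih : EL f E p S.X₃) : EL f E (p + 1) S.X₁ := by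
  intro W t x
  obtain ⟨x', rfl⟩ := exists_dl_eq S hS (f ⁻¹ᵁ W) p x
  rw [← dl_smul S hS (f ⁻¹ᵁ W) p (actΓ f W t) x', eps_dl f E S hS W p, eps_dl f E S hS W p, ih W t x']
  exact Scheme.Modules.Hom.app_smul (Δ.δ S hS p (p + 1) rfl) t
    (show Γ((Coh.Rpush f p).obj S.X₃, W) from E.ε W S.X₃ p x')

theorem EL_all (p : ℕ) : ∀ F : X.Modules, EL f E p F := by
  have := enoughInjectives_modules X
  induction p with
  | zero => exact fun F => EL_zero f E F
  | succ p ih => exact fun F => EL_step f E (sesInj F) (sesInj_shortExact F) p (ih (sesInj F).X₃)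

/-- the comparison maps are linear over the functions on the base -/
theorem eps_smul (p : ℕ) (F : X.Modules) (W : Y.Opens) (t : Γ(Y, W)) (x : Coh.HHon X F (f ⁻¹ᵁ W) p) :
    E.ε W F p (actΓ f W t • x) = t • (show Γ((Coh.Rpush f p).obj F, W) from E.ε W F p x) :=
  EL_all f E p F W t x

end EL

end Groth.Agent.Lib.T2H5.GBCLin
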