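import Groth.Agent.Lib.T2H5GBCLin
import Groth.Agent.Lib.T2H5BC0GlueB
set_option backward.isDefEq.respectTransparency.types false

/-!
# The module structure of `H^p(f⁻¹W, –)` over `Γ(S, W)` (helper5)

Namespace `Groth.Agent.Lib.T2H5.GBCLin`.

`smul_overU`: the action of `t ∈ Γ(S, W)` on `H^p(f⁻¹W, M)` through the structure morphism `f⁻¹W ⟶ Spec Γ(S, W)` is the
action of the global function `f^♯ t` of `f⁻¹W`.
-/

set_option autoImplicit false
set_option linter.style.haveILetI false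
set_option linter.unusedSectionVars false
set_option linter.unusedVariables false
universe u
open CategoryTheory Opposite TopologicalSpace AlgebraicGeometry

namespace Groth.Agent.Lib.T2H5.GBCLin
open Scheme.Modules Groth.Agent.Lib.T2H5.T2Coh Groth.Agent.Lib.T2H5.BC0GlueB Groth.Agent.Lib.T2H2.PunctLin

variable {X Y : Scheme.{u}} (f : X ⟶ Y)

lemma toGlobal_g₀ (W : Y.Opens) : Coh.toGlobal (g₀ f (U := W)) = actΓ f W := by
  have h1 : (Scheme.ΓSpecIso Γ(Y, W)).inv ≫ (g₀ f (U := W)).appTop =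
      f.app W ≫ (f ⁻¹ᵁ W).topIso.inv := by
    rw [g₀, Scheme.Hom.comp_appTop, ← Category.assoc, ← Scheme.ΓSpecIso_inv_naturality,
      Scheme.Opens.toSpecΓ_appTop, Category.assoc, Iso.inv_hom_id_assoc]
  ext t
  exact congrArg (fun φ : Γ(Y, W) ⟶ Γ(↑(f ⁻¹ᵁ W), ⊤) => φ.hom t) h1

lemma smul_overU (W : Y.Opens) (M : (↑(f ⁻¹ᵁ W) : Scheme.{u}).Modules) (p : ℕ) (t : Γ(Y, W))
    (x : Coh.HH (↑(f ⁻¹ᵁ W) : Scheme.{u}) M p) :
    letI := overU f (U := W)
    t • x = actΓ f W t • x := by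
  let _ := overU f (U := W)
  change Coh.toGlobal (g₀ f (U := W)) t • x = _
  rw [toGlobal_g₀]

end Groth.Agent.Lib.T2H5.GBCLin
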