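import Groth.Agent.Lib.T2H5GBCMain
import Groth.Agent.Lib.T2H5GBCAlg
import Groth.Agent.Lib.T2H5BC0MainB
set_option backward.isDefEq.respectTransparency.types false

/-!
# The pinned base change maps `CohCmp.GenBC` and the universal complexes (helper5)

Namespace `Groth.Agent.Lib.T2H5.BC0GlueE` (lemmas on `BCLoc`).

* `BCLoc.mem_good_pred_of_fiberRank_eq_zero`: `h^p(y) = 0` puts `y` in `D.good (-p-1)` as well.
* `BCLoc.bc_app_bijective`: over an affine open `W ⊆ V` inside `D.good (-p-1)` the degree `p` base change map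
  `B.bc p F` of any cartesian square is bijective on sections over every affine open mapping into `W`.
* `BCLoc.mem_good_of_bc_surjective`: surjectivity of the degree `p` base change map of the fibre square at `s` on
  global sections puts `s` in `D.good (-p-1)`.
-/

set_option autoImplicit false
set_option linter.style.haveILetI false
set_option linter.unusedSectionVars false
set_option linter.unusedVariables false
universe u
open CategoryTheory CategoryTheory.Limits AlgebraicGeometry Opposite TopologicalSpace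

namespace Groth.Agent.Lib.T2H5.BC0GlueE

open Groth.Agent.Lib.T2H5.T2Coh Groth.Agent.Lib.T2H5.BC0GlueB Groth.Agent.Lib.T2H5.BC0Bridge
  Groth.Agent.Lib.T2H5.BC0Alg Groth.Agent.Lib.T2H9.EW Groth.Agent.Helper13AffBC
  Groth.Agent.Lib.T2H5.BC0GlueF Groth.Agent.Lib.T2H5.BC0GlueG Groth.Agent.Lib.T2H5.BC0GlueC

section gbc

variable {X Y : Scheme.{u}} {π : X ⟶ Y} {F : X.Modules} {V : Y.Opens} {hV : IsAffineOpen V}

theorem BCLoc.mem_good_pred_of_fiberRank_eq_zero (D : BCLoc π F hV) (y : Y) (hy : y ∈ V) (p : ℕ)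
    (h0 : CohIII.fiberRank π F p y = 0) : y ∈ D.good (-(p : ℤ) - 1) :=
  ⟨hy, Groth.Agent.Lib.T2H5.GBCAlg.mem_freeLocus_pred_of_dRank_eq_zero D.P D.hP' (-(p : ℤ)) _
    ((D.rank_eq y hy p).symm.trans h0)⟩

variable [QuasiCompact π] [QuasiSeparated π] [HasInjectiveResolutions X.Modules] [F.IsQuasicoherent]
  {Δ : RDer.DerivedLES (Scheme.Modules.pushforward π)} {E : CohCmp.SectCmp π Δ}

/-- over an affine open `W ⊆ V` inside the good locus the degree `p` base change map is bijective on the sections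
over every affine open mapping into `W` -/
theorem BCLoc.bc_app_bijective (D : BCLoc π F hV) {W : Y.Opens} (hW : IsAffineOpen W) (hWV : W ≤ V)
    (p : ℕ) (hg : (W : Set Y) ⊆ D.good (-(p : ℤ) - 1)) {X' S' : Scheme.{u}} (g : S' ⟶ Y) (g' : X' ⟶ X)
    (f' : X' ⟶ S') (h : IsPullback g' f' π g) [HasInjectiveResolutions X'.Modules]
    {Δ' : RDer.DerivedLES (Scheme.Modules.pushforward f')} {E' : CohCmp.SectCmp f' Δ'}
    (B : CohCmp.GenBC π g f' g' h.w E E') {U' : S'.Opens} (hU' : IsAffineOpen U')
    (hle : U' ≤ g ⁻¹ᵁ W) : Function.Bijective ((B.bc p F).app U') := by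
  letI := overU π (U := W)
  letI : Algebra Γ(Y, W) Γ(S', U') := (g.appLE W U' hle).hom.toAlgebra
  rw [Groth.Agent.Lib.T2H5.GBCMain.bc_app_bijective_iff_ewLin π g g' f' h B F p hW hU' hle]
  obtain ⟨e⟩ := D.bc W hW hWV p
  haveI := D.projective_opcycles_res (-(p : ℤ) - 1) hW hWV hg
  have hfl : Module.Flat Γ(Y, W)
      ((CohIII.bcCx (Y.presheaf.map (homOfLE hWV).op).hom D.P).opcycles (-(p : ℤ) - 1)) :=
    inferInstance
  exact ewLin_bijective_of_iso e _
    (ewBij_of_flat_opcycles _ (D.hPflat_res hWV) (-(p : ℤ)) (-(p : ℤ) - 1) (by ring) hfl _)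

/-- surjectivity of the degree `p` base change map of the fibre square at `s` on global sections puts `s` in the
good locus -/
theorem BCLoc.mem_good_of_bc_surjective (D : BCLoc π F hV) (s : Y) (hs : s ∈ V) (p : ℕ)
    [HasInjectiveResolutions (π.fiber s).Modules]
    {Δs : RDer.DerivedLES (Scheme.Modules.pushforward (π.fiberToSpecResidueField s))}
    {Es : CohCmp.SectCmp (π.fiberToSpecResidueField s) Δs}
    (Bs : CohCmp.GenBC π (Y.fromSpecResidueField s) (π.fiberToSpecResidueField s) (π.fiberι s)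
      (π.fiber_fac s) E Es)
    (hsurj : Function.Surjective ((Bs.bc p F).app ⊤)) : s ∈ D.good (-(p : ℤ) - 1) := by
  refine ⟨hs, ?_⟩
  letI := overU π (U := V)
  have hsq : IsPullback (π.fiberι s) (π.fiberToSpecResidueField s) π (Y.fromSpecResidueField s) :=
    IsPullback.of_hasPullback _ _
  have hle := top_le_preimage (V := V) s hs
  letI instAlgK : Algebra Γ(Y, V) Γ(Spec (Y.residueField s), ⊤) :=
    ((Y.fromSpecResidueField s).appLE V ⊤ hle).hom.toAlgebra
  have h1 := (Groth.Agent.Lib.T2H5.GBCMain.bc_app_surjective_iff_ewLin π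
    (Y.fromSpecResidueField s) (π.fiberι s) (π.fiberToSpecResidueField s) hsq Bs F p hV
    (isAffineOpen_top (Spec (Y.residueField s))) hle).mp hsurj
  obtain ⟨e⟩ := D.br p
  letI instAlgR : Algebra Γ(Y, V) (Y.presheaf.stalk s) := (Y.presheaf.germ V s hs).hom.toAlgebra
  haveI hloc : IsLocalization.AtPrime (Y.presheaf.stalk s) (hV.primeIdealOf ⟨s, hs⟩).asIdeal :=
    hV.isLocalization_stalk ⟨s, hs⟩
  let lin : Γ(Spec (Y.residueField s), ⊤) ≃ₗ[Γ(Y, V)] IsLocalRing.ResidueField (Y.presheaf.stalk s) :=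
    { toFun := fun c => (Scheme.ΓSpecIso (Y.residueField s)).hom c
      invFun := fun c => (Scheme.ΓSpecIso (Y.residueField s)).inv c
      left_inv := fun c => by
        exact congrArg (fun φ : Γ(Spec (Y.residueField s), ⊤) ⟶ Γ(Spec (Y.residueField s), ⊤) =>
          φ.hom c) (Scheme.ΓSpecIso (Y.residueField s)).hom_inv_id
      right_inv := fun c => by
        exact congrArg (fun φ : Y.residueField s ⟶ Y.residueField s =>
          φ.hom c) (Scheme.ΓSpecIso (Y.residueField s)).inv_hom_id
      map_add' := fun a b => map_add _ a b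
      map_smul' := fun a c => by
        rw [RingHom.id_apply]
        change (Scheme.ΓSpecIso (Y.residueField s)).hom
          (((Y.fromSpecResidueField s).appLE V ⊤ hle).hom a * c) = _
        rw [map_mul]
        have e1 := congrArg (fun φ : Γ(Y, V) ⟶ Y.residueField s => φ.hom a)
          (appLE_fromSpecResidueField s hs hle)
        exact congrArg (fun t => t * (Scheme.ΓSpecIso (Y.residueField s)).hom c) e1 }
  have h2 := ewLin_surjective_of_moduleIso
    (liftA (Groth.Agent.Lib.T2H5.BCKey.Tp Γ(Y, V) (F.restrict (π ⁻¹ᵁ V).ι) p)) lin.toModuleIso h1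
  exact mem_freeLocus_of_ewLin_surjective D.P D.hP' (hV.primeIdealOf ⟨s, hs⟩)
    (Y.presheaf.stalk s) (-(p : ℤ)) (-(p : ℤ) - 1) (by ring) e h2

end gbc

end Groth.Agent.Lib.T2H5.BC0GlueE
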