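import Groth.Agent.Lib.T2H5GBCLocB
import Groth.Agent.Lib.T2H5GBCAlgB
import Groth.Agent.Lib.Helper18FinFlat3
import Groth.Agent.Lib.Helper20LocProj
import Groth.Agent.S2440
set_option backward.isDefEq.respectTransparency.types false

/-!
# Universal complexes: local freeness of the higher direct images and the good loci (helper5)

Namespace `Groth.Agent.Lib.T2H5.BC0GlueE` (lemmas on `BCLoc`) and `Groth.Agent.Lib.T2H5.GBCLocC`.

* `BCLoc.subset_good_of_projective_opcycles_res`: if `opcycles_q` of the base changed complex over an affine `W ⊆ V` is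
  projective then `W ⊆ D.good q`.
* `BCLoc.mem_good_of_isFinLocFree`: if `s ∈ D.good (-p-1)` and `R^p π_* F` is finite locally free near `s` then
  `s ∈ D.good (-p)`.
* `nonempty_bcLoc_bdd`, `BCLoc.mem_good_of_isZero`: universal complexes are bounded below; vanishing terms give good points.
* `BCLoc.fiberRank_fromSpec`, `BCLoc.isLocallyConstant_fiberRank`: the fibre rank is locally constant on the good loci.
* `BCLoc.mem_good_of_reduced`: over a reduced base, a locally constant fibre rank makes every point good.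
-/

set_option autoImplicit false
set_option linter.style.haveILetI false
set_option linter.unusedSectionVars false
set_option linter.unusedVariables false
universe u
open CategoryTheory CategoryTheory.Limits AlgebraicGeometry Opposite TopologicalSpace Topology

namespace Groth.Agent.Lib.T2H5.GBCLocC

section flf

variable {Y : Scheme.{u}}

/-- a module which is finite locally free near `s` has finite free sections over some affine neighbourhood of `s` -/
theorem exists_affine_projective_of_isFinLocFree_restrict (M : Y.Modules) (V' : Y.Opens)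
    (h : FlatMod.IsFinLocFree (M.restrict V'.ι)) (s : Y) (hs : s ∈ V') :
    ∃ W₀ : Y.Opens, IsAffineOpen W₀ ∧ s ∈ W₀ ∧ Module.Finite Γ(Y, W₀) Γ(M, W₀) ∧
      Module.Projective Γ(Y, W₀) Γ(M, W₀) := by
  obtain ⟨U', n, hsU', ⟨e⟩⟩ := h ⟨s, hs⟩
  let e' : M.restrict (U'.ι ≫ V'.ι) ≅ FlatMod.freeMod (↑U' : Scheme.{u}) n :=
    (Scheme.Modules.restrictFunctorComp U'.ι V'.ι).app M ≪≫ e
  obtain ⟨W, hW, hsW, ⟨b⟩⟩ :=
    Groth.Agent.Helper18FinFlat.exists_affine_basis_of_restrict_iso_freeMod' M (U'.ι ≫ V'.ι) e'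
      ⟨⟨s, hs⟩, hsU'⟩
  haveI : Module.Free Γ(Y, W) Γ(M, W) := Module.Free.of_basis b
  exact ⟨W, hW, hsW, Module.Finite.of_basis b, inferInstance⟩

end flf

end Groth.Agent.Lib.T2H5.GBCLocC

namespace Groth.Agent.Lib.T2H5.BC0GlueE

open Groth.Agent.Lib.T2H5.T2Coh Groth.Agent.Lib.T2H5.BC0GlueB Groth.Agent.Lib.T2H5.BC0Bridge
  Groth.Agent.Lib.T2H5.BC0Alg Groth.Agent.Lib.T2H9.EW Groth.Agent.Helper13AffBC
  Groth.Agent.Lib.T2H5.BC0GlueF Groth.Agent.Lib.T2H5.BC0GlueG Groth.Agent.Lib.T2H5.BC0GlueC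
  Groth.Agent.Lib.T2H5.GBCAlg Groth.Agent.Lib.Helper3

section conv

variable {X Y : Scheme.{u}} {π : X ⟶ Y} {F : X.Modules} {V : Y.Opens} {hV : IsAffineOpen V}

/-- projectivity of the module of cocycles of the base changed complex over an affine `W ⊆ V` puts `W` in the good locus -/
theorem BCLoc.subset_good_of_projective_opcycles_res (D : BCLoc π F hV) (q : ℤ) {W : Y.Opens}
    (hW : IsAffineOpen W) (hWV : W ≤ V)
    (h : Module.Projective Γ(Y, W)
      ((CohIII.bcCx (Y.presheaf.map (homOfLE hWV).op).hom D.P).opcycles q)) :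
    (W : Set Y) ⊆ D.good q := by
  intro y hy
  refine ⟨hWV hy, ?_⟩
  letI instAlgVW : Algebra Γ(Y, V) Γ(Y, W) := (Y.presheaf.map (homOfLE hWV).op).hom.toAlgebra
  letI instAlgWR : Algebra Γ(Y, W) (Y.presheaf.stalk y) := (Y.presheaf.germ W y hy).hom.toAlgebra
  letI instAlgVR : Algebra Γ(Y, V) (Y.presheaf.stalk y) :=
    (Y.presheaf.germ V y (hWV hy)).hom.toAlgebra
  haveI hloc : IsLocalization.AtPrime (Y.presheaf.stalk y)
      (hV.primeIdealOf ⟨y, hWV hy⟩).asIdeal := hV.isLocalization_stalk ⟨y, hWV hy⟩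
  haveI := (D.hP q).1
  refine mem_freeLocus_of_flat_bcCx_opcycles D.P q _ (Y.presheaf.stalk y) ?_
  let Q := CohIII.bcCx (algebraMap Γ(Y, V) Γ(Y, W)) D.P
  haveI hfl : Module.Flat Γ(Y, W) (Q.opcycles q) := by
    haveI : Module.Projective Γ(Y, W) (Q.opcycles q) := h
    infer_instance
  have h1 : Module.Flat (Y.presheaf.stalk y)
      ((CohIII.bcCx (algebraMap Γ(Y, W) (Y.presheaf.stalk y)) Q).opcycles q) :=
    flat_bcCx_opcycles (Y.presheaf.stalk y) Q q
  have hcomp : (algebraMap Γ(Y, W) (Y.presheaf.stalk y)).comp (algebraMap Γ(Y, V) Γ(Y, W)) =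
      algebraMap Γ(Y, V) (Y.presheaf.stalk y) := by
    ext a
    exact congrArg (fun φ : Γ(Y, V) ⟶ Y.presheaf.stalk y => φ.hom a)
      (Y.presheaf.germ_res (homOfLE hWV) y hy)
  have e := (HomologicalComplex.opcyclesFunctor _ _ q).mapIso
    (Groth.Agent.Lib.T2H5.LocAlg.bcCxCompIso (algebraMap Γ(Y, V) Γ(Y, W))
      (algebraMap Γ(Y, W) (Y.presheaf.stalk y)) D.P)
  rw [hcomp] at e
  exact (Module.Flat.equiv_iff e.toLinearEquiv).mpr h1

/-- a vanishing term of the universal complex makes every point of `V` good in that degree -/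
theorem BCLoc.mem_good_of_isZero (D : BCLoc π F hV) (q : ℤ) (hz : IsZero (D.P.X q)) (y : Y)
    (hy : y ∈ V) : y ∈ D.good q := by
  refine ⟨hy, ?_⟩
  haveI := finitePresentation_opcycles D.P D.hP' q
  haveI : Subsingleton (D.P.X q) := ModuleCat.subsingleton_of_isZero hz
  haveI : Subsingleton (D.P.opcycles q) :=
    ((ModuleCat.epi_iff_surjective _).mp (inferInstance : Epi (D.P.pOpcycles q))).subsingleton
  haveI : Module.Projective Γ(Y, V) (D.P.opcycles q) := inferInstance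
  have hu : Module.freeLocus Γ(Y, V) (D.P.opcycles q) = Set.univ :=
    Module.freeLocus_eq_univ_iff.mpr inferInstance
  rw [hu]
  exact Set.mem_univ _

/-- the fibre rank through the base changed complex over an affine `W ⊆ V` -/
theorem BCLoc.fiberRank_fromSpec (D : BCLoc π F hV) {W : Y.Opens} (hW : IsAffineOpen W) (hWV : W ≤ V)
    (p : ℕ) (x : PrimeSpectrum Γ(Y, W)) :
    CohIII.fiberRank π F p (hW.fromSpec x) =
      CohIII.dRank (CohIII.bcCx (Y.presheaf.map (homOfLE hWV).op).hom D.P) (-(p : ℤ)) x := by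
  letI instAlgVW : Algebra Γ(Y, V) Γ(Y, W) := (Y.presheaf.map (homOfLE hWV).op).hom.toAlgebra
  have h1 := D.rank_eq (hW.fromSpec x) (hWV (fromSpec_mem hW x)) p
  have h2 := comap_res_eq hV hW hWV x
  have h3 := Groth.Agent.S2440.result (A' := Γ(Y, W)) D.P D.hPflat (-(p : ℤ)) x
  rw [h1, ← h2]
  exact h3.symm

/-- the fibre rank is locally constant on an open inside the good loci of degrees `-p` and `-p-1` -/
theorem BCLoc.isLocallyConstant_fiberRank (D : BCLoc π F hV) (p : ℕ) (O : Y.Opens)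
    (hO : (O : Set Y) ⊆ D.good (-(p : ℤ)) ∩ D.good (-(p : ℤ) - 1)) :
    IsLocallyConstant (fun v : O => CohIII.fiberRank π F p v.1) := by
  rw [IsLocallyConstant.iff_eventually_eq]
  intro v
  obtain ⟨_, ⟨W, hW, rfl⟩, hvW, hWO⟩ := Y.isBasis_affineOpens.exists_subset_of_mem_open
    (show v.1 ∈ (O : Set Y) from v.2) O.2
  have hWV : W ≤ V := fun x hx => D.good_subset _ (hO (hWO hx)).1
  have hlc := locConst_of_projective (CohIII.bcCx (Y.presheaf.map (homOfLE hWV).op).hom D.P)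
    (D.hP_res hWV) (-(p : ℤ))
    (D.projective_opcycles_res (-(p : ℤ)) hW hWV (fun x hx => (hO (hWO hx)).1))
    (D.projective_opcycles_res (-(p : ℤ) - 1) hW hWV (fun x hx => (hO (hWO hx)).2))
  let x₀ := hW.primeIdealOf ⟨v.1, hvW⟩
  have hx₀ : hW.fromSpec x₀ = v.1 := hW.fromSpec_primeIdealOf ⟨v.1, hvW⟩
  have hT : IsOpen {x : PrimeSpectrum Γ(Y, W) |
      CohIII.dRank (CohIII.bcCx (Y.presheaf.map (homOfLE hWV).op).hom D.P) (-(p : ℤ)) x =
        CohIII.dRank (CohIII.bcCx (Y.presheaf.map (homOfLE hWV).op).hom D.P) (-(p : ℤ)) x₀} :=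
    hlc.isOpen_fiber _
  have hopen := hW.fromSpec.isOpenEmbedding.isOpenMap _ hT
  have hmem : v.1 ∈ hW.fromSpec '' {x : PrimeSpectrum Γ(Y, W) |
      CohIII.dRank (CohIII.bcCx (Y.presheaf.map (homOfLE hWV).op).hom D.P) (-(p : ℤ)) x =
        CohIII.dRank (CohIII.bcCx (Y.presheaf.map (homOfLE hWV).op).hom D.P) (-(p : ℤ)) x₀} :=
    ⟨x₀, rfl, hx₀⟩
  have hnh := (hopen.preimage (continuous_subtype_val (p := fun y : Y => y ∈ O))).mem_nhds
    (show v ∈ Subtype.val ⁻¹' _ from hmem)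
  filter_upwards [hnh] with y hy
  obtain ⟨x, hx, hxy⟩ := hy
  have e1 := D.fiberRank_fromSpec hW hWV p x
  have e2 := D.fiberRank_fromSpec hW hWV p x₀
  rw [hxy] at e1
  rw [hx₀] at e2
  exact e1.trans (hx.trans e2.symm)

/-- over a reduced base a locally constant fibre rank makes every point of `V` good in degrees `-p` and `-p-1` -/
theorem BCLoc.mem_good_of_reduced [IsReduced Y] (D : BCLoc π F hV) (p : ℕ)
    (hlc : IsLocallyConstant (CohIII.fiberRank π F p)) (y : Y) (hy : y ∈ V) :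
    y ∈ D.good (-(p : ℤ)) ∧ y ∈ D.good (-(p : ℤ) - 1) := by
  have hd : CohIII.dRank D.P (-(p : ℤ)) = fun x => CohIII.fiberRank π F p (hV.fromSpec x) := by
    funext x
    have h1 := D.rank_eq (hV.fromSpec x) (fromSpec_mem hV x) p
    rw [primeIdealOf_fromSpec hV x] at h1
    exact h1.symm
  have hlc' : IsLocallyConstant (CohIII.dRank D.P (-(p : ℤ))) := by
    rw [hd]
    exact hlc.comp_continuous hV.fromSpec.continuous
  obtain ⟨h1, h2⟩ := projective_opcycles_of_locConst D.P D.hP' (-(p : ℤ)) hlc'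
  haveI := finitePresentation_opcycles D.P D.hP' (-(p : ℤ))
  haveI := finitePresentation_opcycles D.P D.hP' (-(p : ℤ) - 1)
  have hu1 : Module.freeLocus Γ(Y, V) (D.P.opcycles (-(p : ℤ))) = Set.univ :=
    Module.freeLocus_eq_univ_iff.mpr h1
  have hu2 : Module.freeLocus Γ(Y, V) (D.P.opcycles (-(p : ℤ) - 1)) = Set.univ :=
    Module.freeLocus_eq_univ_iff.mpr h2
  exact ⟨⟨hy, hu1 ▸ Set.mem_univ _⟩, ⟨hy, hu2 ▸ Set.mem_univ _⟩⟩

variable [QuasiCompact π] [QuasiSeparated π] [HasInjectiveResolutions X.Modules] [F.IsQuasicoherent]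

/-- if `s ∈ D.good (-p-1)` and `R^p π_* F` is finite locally free near `s` then `s ∈ D.good (-p)` -/
theorem BCLoc.mem_good_of_isFinLocFree (D : BCLoc π F hV) (s : Y) (p : ℕ)
    (hg : s ∈ D.good (-(p : ℤ) - 1)) (V' : Y.Opens) (hsV' : s ∈ V')
    (hf : FlatMod.IsFinLocFree (((Coh.Rpush π p).obj F).restrict V'.ι)) : s ∈ D.good (-(p : ℤ)) := by
  haveI := Groth.Agent.Lib.T2H5.RpushQCoh.isQuasicoherent_Rpush π F p
  obtain ⟨W₀, hW₀, hsW₀, hfin₀, hpr₀⟩ :=
    Groth.Agent.Lib.T2H5.GBCLocC.exists_affine_projective_of_isFinLocFree_restrict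
      ((Coh.Rpush π p).obj F) V' hf s hsV'
  obtain ⟨_, ⟨W, hW, rfl⟩, hsW, hWO⟩ := Y.isBasis_affineOpens.exists_subset_of_mem_open
    (show s ∈ D.good (-(p : ℤ) - 1) ∩ (W₀ : Set Y) from ⟨hg, hsW₀⟩)
    ((D.isOpen_good _).inter W₀.2)
  have hWV : W ≤ V := fun x hx => D.good_subset _ (hWO hx).1
  have hWW₀ : W ≤ W₀ := fun x hx => (hWO hx).2
  haveI := hpr₀
  haveI hprW : Module.Projective Γ(Y, W) Γ((Coh.Rpush π p).obj F, W) :=
    Groth.Agent.Lib.Helper20.LocProj.projective_of_le hW₀ ((Coh.Rpush π p).obj F) hW hWW₀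
  obtain ⟨e⟩ := D.sect hW hWV p
  haveI : Module.Projective Γ(Y, W)
      ((CohIII.bcCx (Y.presheaf.map (homOfLE hWV).op).hom D.P).homology (-(p : ℤ))) :=
    Module.Projective.of_equiv e
  haveI := D.projective_opcycles_res (-(p : ℤ) - 1) hW hWV (fun x hx => (hWO hx).1)
  haveI := (D.hP_res hWV (-(p : ℤ) - 1)).1
  haveI := (D.hP_res hWV (-(p : ℤ) - 1)).2
  have hpr := projective_opcycles_of_homology
    (CohIII.bcCx (Y.presheaf.map (homOfLE hWV).op).hom D.P) (-(p : ℤ))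
  exact D.subset_good_of_projective_opcycles_res (-(p : ℤ)) hW hWV hpr hsW

end conv

section bdd

variable {X Y : Scheme.{u}} (π : X ⟶ Y) [IsProper π] [LocallyOfFinitePresentation π]
  (F : X.Modules) (hfp : CohB1.IsFP F) (hfl : FlatMod.IsFlatOver π F)

include hfp hfl in
/-- universal complexes can be taken bounded below -/
theorem nonempty_bcLoc_bdd {V : Y.Opens} (hV : IsAffineOpen V) :
    ∃ (D : BCLoc π F hV) (b : ℤ), ∀ i, i < b → IsZero (D.P.X i) := by
  haveI : F.IsQuasicoherent := Groth.Agent.Helper18Strict.isQCoh_of_isFP F hfp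
  have hsq : IsPullback (π ⁻¹ᵁ V).ι (g₀ π (U := V)) π hV.fromSpec :=
    Groth.Agent.Lib.T2H9.Grauert.isPullback_g₀ π hV
  haveI : IsProper (g₀ π (U := V)) := MorphismProperty.of_isPullback hsq inferInstance
  haveI : LocallyOfFinitePresentation (g₀ π (U := V)) :=
    MorphismProperty.of_isPullback hsq inferInstance
  let FV := (Scheme.Modules.pullback (π ⁻¹ᵁ V).ι).obj F
  have hFVfp : CohB1.IsFP FV := Groth.Agent.Helper18Strict.isFP_pullback _ F hfp
  haveI : FV.IsQuasicoherent := Groth.Agent.Helper18Strict.isQCoh_of_isFP FV hFVfp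
  have hFVfl : FlatMod.IsFlatOver (g₀ π (U := V)) FV := fun x' =>
    Groth.Agent.Lib.Helper2.PullbackSec.isFlatOverAt_pullback_of_isPullback hsq F x' (hfl _)
  letI instO := overU π (U := V)
  haveI : IsProper ((↑(π ⁻¹ᵁ V) : Scheme.{u}) ↘ Spec (CommRingCat.of Γ(Y, V))) :=
    (inferInstance : IsProper (g₀ π (U := V)))
  haveI : LocallyOfFinitePresentation ((↑(π ⁻¹ᵁ V) : Scheme.{u}) ↘ Spec (CommRingCat.of Γ(Y, V))) :=
    (inferInstance : LocallyOfFinitePresentation (g₀ π (U := V)))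
  have hFVfl' : FlatMod.IsFlatOver ((↑(π ⁻¹ᵁ V) : Scheme.{u}) ↘ Spec (CommRingCat.of Γ(Y, V))) FV :=
    hFVfl
  obtain ⟨P, hP, ⟨b, hb⟩, hpos, h3, h4⟩ :=
    exists_chain_bridge_general Γ(Y, V) (↑(π ⁻¹ᵁ V) : Scheme.{u}) FV hFVfp hFVfl'
  refine ⟨{ P := P, hP := hP, pos := hpos, rank_eq := ?_, br := ?_, bc := ?_ }, b, hb⟩
  · intro y' hy' p
    have e1 := Groth.Agent.Lib.T2H9.FibRankBC.fiberRank_pullback hsq F p
      (hV.primeIdealOf ⟨y', hy'⟩)
    rw [hV.fromSpec_primeIdealOf ⟨y', hy'⟩] at e1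
    have e4 := Groth.Agent.Lib.T2H9.FibRank.fiberRank_eq_dRank Γ(Y, V) FV P p
      (fun A' _ _ X' _ g'' hsq' => h4 A' X' g'' hsq' p) (hV.primeIdealOf ⟨y', hy'⟩)
    rw [← e1]
    exact e4
  · intro p
    obtain ⟨e⟩ := h3 p
    exact ⟨e ≪≫ Functor.isoWhiskerRight (tensorAFunctorCongr Γ(Y, V)
      ((Scheme.Modules.restrictFunctorIsoPullback (π ⁻¹ᵁ V).ι).app F).symm) _⟩
  · intro W hW hWV p
    letI instOW := overU π (U := W)
    letI instAlg : Algebra Γ(Y, V) Γ(Y, W) := (Y.presheaf.map (homOfLE hWV).op).hom.toAlgebra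
    let incl : (↑(π ⁻¹ᵁ W) : Scheme.{u}) ⟶ (↑(π ⁻¹ᵁ V) : Scheme.{u}) :=
      X.homOfLE (show π ⁻¹ᵁ W ≤ π ⁻¹ᵁ V from fun x hx => hWV hx)
    have hsqW : IsPullback incl ((↑(π ⁻¹ᵁ W) : Scheme.{u}) ↘ Spec (CommRingCat.of Γ(Y, W)))
        ((↑(π ⁻¹ᵁ V) : Scheme.{u}) ↘ Spec (CommRingCat.of Γ(Y, V)))
        (Spec.map (CommRingCat.ofHom (algebraMap Γ(Y, V) Γ(Y, W)))) :=
      Groth.Agent.Lib.T2H5.NoethModel.isPullback_g₀_le π hV hW hWV
    obtain ⟨e⟩ := h4 Γ(Y, W) (↑(π ⁻¹ᵁ W) : Scheme.{u}) incl hsqW p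
    have hincl : incl ≫ (π ⁻¹ᵁ V).ι = (π ⁻¹ᵁ W).ι := Scheme.homOfLE_ι _ _
    let ε : (Scheme.Modules.pullback incl).obj FV ≅ F.restrict (π ⁻¹ᵁ W).ι :=
      (Scheme.Modules.pullbackComp incl (π ⁻¹ᵁ V).ι).app F ≪≫
        (Scheme.Modules.pullbackCongr hincl).app F ≪≫
        ((Scheme.Modules.restrictFunctorIsoPullback (π ⁻¹ᵁ W).ι).app F).symm
    exact ⟨e ≪≫ Functor.isoWhiskerRight (tensorAFunctorCongr Γ(Y, W) ε) _⟩

end bdd

end Groth.Agent.Lib.T2H5.BC0GlueE
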