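import Groth.Agent.Lib.T2H5TwComp
import Groth.Agent.Lib.T2H5BC0GlueA
import Groth.Agent.Lib.T2H5BCPull
set_option backward.isDefEq.respectTransparency.types false

/-!
# Twisted pullbacks of module cohomology; restriction of `CohPull.pullOn` to smaller opens (helper5)

Namespace `Groth.Agent.Lib.T2H5.GBCTw`.

* `twM q φ p : H^p(Z, M) → H^p(Z', N)` for `q : Z' ⟶ Z` and `φ : M ⟶ q_* N`; `pullMod = twM unit`;
  `mapH_twM`, `twM_twM'` (composition).
* `resLE_pullOn`: restricting `pullOn g U U'` to a smaller open `U'' ⊆ U'` gives `pullOn g U U''`.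
-/

set_option autoImplicit false
set_option linter.style.haveILetI false
set_option linter.unusedSectionVars false
set_option linter.unusedVariables false
set_option linter.unnecessarySimpa false
universe u
open CategoryTheory CategoryTheory.Limits Opposite TopologicalSpace AlgebraicGeometry Abelian

namespace Groth.Agent.Lib.T2H5.GBCTw

open CohPull Scheme.Modules Groth.Agent.Lib.T2H5.ResLE Groth.Agent.Lib.T2H5.PushEdge
  Groth.Agent.Lib.T2H5.TwComp Groth.Agent.Lib.T2H5.BCPull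

section twM

variable {Z Z' Z'' : Scheme.{u}}

/-- the underlying map of abelian sheaves `M ⟶ q_* N` -/
noncomputable def flat (q : Z' ⟶ Z) {M : Z.Modules} {N : Z'.Modules} (φ : M ⟶ (pushforward q).obj N) :
    Coh.toAb M ⟶ (CohTop.push q.base).obj (Coh.toAb N) :=
  (SheafOfModules.toSheaf Z.ringCatSheaf).map φ

/-- twisted pullback of module cohomology along `q : Z' ⟶ Z` for a `q`-map `φ : M ⟶ q_* N` -/
noncomputable def twM (q : Z' ⟶ Z) {M : Z.Modules} {N : Z'.Modules} (φ : M ⟶ (pushforward q).obj N)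
    (p : ℕ) : Coh.HH Z M p →+ Coh.HH Z' N p :=
  tw q.base (((invPushAdj q.base).homEquiv _ _).symm (flat q φ)) p

lemma pullMod_eq_twM (q : Z' ⟶ Z) (M : Z.Modules) (p : ℕ) :
    pullMod q M p = twM q ((pullbackPushforwardAdjunction q).unit.app M) p := rfl

lemma flat_comp_map (q : Z' ⟶ Z) {M : Z.Modules} {N N' : Z'.Modules} (φ : M ⟶ (pushforward q).obj N)
    (ψ : N ⟶ N') :
    flat q (φ ≫ (pushforward q).map ψ) =
      flat q φ ≫ (CohTop.push q.base).map ((SheafOfModules.toSheaf Z'.ringCatSheaf).map ψ) := by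
  exact (SheafOfModules.toSheaf Z.ringCatSheaf).map_comp φ ((pushforward q).map ψ)

lemma mapH_twM (q : Z' ⟶ Z) {M : Z.Modules} {N N' : Z'.Modules} (φ : M ⟶ (pushforward q).obj N)
    (ψ : N ⟶ N') (p : ℕ) (x : Coh.HH Z M p) :
    mapH ψ p (twM q φ p x) = twM q (φ ≫ (pushforward q).map ψ) p x := by
  unfold twM
  rw [flat_comp_map, Adjunction.homEquiv_naturality_right_symm]
  change Sheaf.H.map _ p (Sheaf.H.map _ p _) = Sheaf.H.map _ p _
  rw [H_map_comp]

lemma twM_twM (q' : Z'' ⟶ Z') (q : Z' ⟶ Z) {M : Z.Modules} {N : Z'.Modules} {P : Z''.Modules}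
    (φ : M ⟶ (pushforward q).obj N) (φ' : N ⟶ (pushforward q').obj P)
    (φ'' : M ⟶ (pushforward (q' ≫ q)).obj P)
    (hφ : flat (q' ≫ q) φ'' = flat q φ ≫ (CohTop.push q.base).map (flat q' φ'))
    (p : ℕ) (x : Coh.HH Z M p) :
    twM q' φ' p (twM q φ p x) = twM (q' ≫ q) φ'' p x := by
  unfold twM
  rw [hφ]
  exact tw_comp q'.base q.base (flat q φ) (flat q' φ') p x

lemma twM_twM' (q' : Z'' ⟶ Z') (q : Z' ⟶ Z) (q'' : Z'' ⟶ Z) (hq : q' ≫ q = q'')
    {M : Z.Modules} {N : Z'.Modules} {P : Z''.Modules}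
    (φ : M ⟶ (pushforward q).obj N) (φ' : N ⟶ (pushforward q').obj P)
    (φ'' : M ⟶ (pushforward q'').obj P)
    (hφ : ∀ (W : Z.Opens) (m : Γ(M, W)), φ''.app W m =
      P.presheaf.map (eqToHom (by rw [← hq]; rfl : q'' ⁻¹ᵁ W = q' ⁻¹ᵁ (q ⁻¹ᵁ W))).op
        (φ'.app (q ⁻¹ᵁ W) (φ.app W m)))
    (p : ℕ) (x : Coh.HH Z M p) :
    twM q' φ' p (twM q φ p x) = twM q'' φ'' p x := by
  subst hq
  refine twM_twM q' q φ φ' φ'' ?_ p x
  apply Sheaf.hom_ext
  apply NatTrans.ext
  funext W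
  apply ConcreteCategory.hom_ext
  intro m
  have h1 := hφ W.unop m
  have h2 : ∀ (A : Z''.Opens) (e : A = A) (y : Γ(P, A)), P.presheaf.map (eqToHom e).op y = y := by
    intro A e y
    rw [eqToHom_refl, op_id, P.presheaf.map_id]
    rfl
  exact h1.trans (h2 _ _ _)

end twM

section resLE

variable {X Y : Scheme.{u}} (g : X ⟶ Y) (U : Y.Opens) (U' : X.Opens) (h : U' ≤ g ⁻¹ᵁ U) (F : Y.Modules)

lemma map_map_eq (G : X.Modules) {A B C : X.Opens} (i : B ⟶ A) (j : C ⟶ B) (k : C ⟶ A) (y : Γ(G, A)) :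
    G.presheaf.map j.op (G.presheaf.map i.op y) = G.presheaf.map k.op y := by
  have hk : k = j ≫ i := Subsingleton.elim _ _
  subst hk
  rw [op_comp, Functor.map_comp]
  rfl

/-- `pullOn` as a twisted pullback -/
lemma pullOn_eq_twM (p : ℕ) (x : Coh.HHon Y F U p) :
    pullOn g U U' h F p x =
      twM (g.resLE U U' h) (Groth.Agent.Lib.T2H5.BC0GlueA.theta g U.ι U'.ι (g.resLE U U' h)
        (Scheme.Hom.resLE_comp_ι g h) F) p x := by
  change mapH (pullOnIso g U U' h F).hom p (pullMod (g.resLE U U' h) (F.restrict U.ι) p x) = _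
  rw [pullMod_eq_twM, mapH_twM, ← Groth.Agent.Lib.T2H5.BC0GlueA.rho_eq_pullOnIso]
  rfl

/-- `resLE` as a twisted pullback -/
lemma resLE_eq_twM (G : X.Modules) {U' U'' : X.Opens} (h'' : U'' ≤ U') (p : ℕ) (y : Coh.HHon X G U' p) :
    CohPull.resLE G h'' p y = twM (jj h'') (theta' G h'') p y := by
  rw [resLE_eq, pullMod_eq_twM, mapH_twM]
  rfl

lemma jj_comp_resLE {U'' : X.Opens} (h'' : U'' ≤ U') :
    jj h'' ≫ g.resLE U U' h = g.resLE U U'' (h''.trans h) := by
  rw [← cancel_mono U.ι, Category.assoc, Scheme.Hom.resLE_comp_ι, Scheme.Hom.resLE_comp_ι,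
    ← Category.assoc, Scheme.Hom.resLE_comp_ι, Category.comp_id]

/-- restricting `pullOn g U U'` to a smaller open `U'' ⊆ U'` gives `pullOn g U U''` -/
theorem resLE_pullOn {U'' : X.Opens} (h'' : U'' ≤ U') (p : ℕ) (x : Coh.HHon Y F U p) :
    CohPull.resLE ((Scheme.Modules.pullback g).obj F) h'' p (pullOn g U U' h F p x) =
      pullOn g U U'' (h''.trans h) F p x := by
  rw [pullOn_eq_twM, pullOn_eq_twM, resLE_eq_twM]
  refine twM_twM' (jj h'') (g.resLE U U' h) (g.resLE U U'' (h''.trans h)) (jj_comp_resLE g U U' h h'')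
    _ _ _ ?_ p x
  intro W m
  rw [Groth.Agent.Lib.T2H5.BC0GlueA.theta_app, Groth.Agent.Lib.T2H5.BC0GlueA.theta_app, theta'_app]
  refine (ConcreteCategory.comp_apply _ _ m).trans ?_
  refine Eq.trans ?_ (congrArg (fun z => (((Scheme.Modules.pullback g).obj F).restrict U''.ι).presheaf.map
    (eqToHom _).op (((Scheme.Modules.pullback g).obj F).presheaf.map (homOfLE _).op z))
    (ConcreteCategory.comp_apply _ _ m).symm)
  have e1 : ∀ {A B : (↑U'' : Scheme.{u}).Opens} (i : A ⟶ B) (y),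
      (((Scheme.Modules.pullback g).obj F).restrict U''.ι).presheaf.map i.op y =
        ((Scheme.Modules.pullback g).obj F).presheaf.map (U''.ι.opensFunctor.map i).op y := fun _ _ => rfl
  rw [e1]
  refine Eq.trans ?_ (congrArg _ (map_map_eq ((Scheme.Modules.pullback g).obj F) _ _ (homOfLE ?_) _).symm)
  · exact (map_map_eq ((Scheme.Modules.pullback g).obj F) _ _ _ _).symm
  · intro z hz
    obtain ⟨y, hy, rfl⟩ := hz
    exact Groth.Agent.Lib.T2H5.BC0GlueA.image_le g U.ι U'.ι (g.resLE U U' h)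
      (Scheme.Hom.resLE_comp_ι g h) W ⟨(jj h'') y, hy, by
        have := Scheme.Hom.resLE_comp_ι (𝟙 X) (hle h'')
        have h2 := congrArg (fun φ : (U'' : Scheme.{u}) ⟶ X => φ y) this
        simpa using h2⟩

end resLE

end Groth.Agent.Lib.T2H5.GBCTw
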