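import Groth.Agent.Lib.T2H5GBCLinB
import Groth.Agent.Lib.T2H5GBCTw
import Groth.Agent.Lib.T2H5BCKey
import Groth.Agent.Lib.T2H5BC0GlueD
import Groth.Agent.Lib.T2H5HECompB
import Groth.Agent.Lib.T2H5RpushQCoh
set_option backward.isDefEq.respectTransparency.types false

/-!
# The base change maps of `CohCmp.GenBC` on sections over affine opens (helper5)

Namespace `Groth.Agent.Lib.T2H5.GBCMain`.

For a cartesian square `g' : X' ⟶ X`, `f' : X' ⟶ S'`, `f : X ⟶ S`, `g : S' ⟶ S` with `f` quasi-compact and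
quasi-separated, `F` quasi-coherent on `X`, pinned base change data `B : CohCmp.GenBC f g f' g' w E E'`, affine
opens `U ⊆ S`, `U' ⊆ g⁻¹U`: the base change map `B.bc i F : g^* R^i f_* F ⟶ R^i f'_* g'^* F` is bijective
(surjective) on sections over `U'` iff the linearised pullback
`Γ(S',U') ⊗ H^i(f⁻¹U, F) → H^i(f'⁻¹U', g'^*F)` is, iff the Eilenberg–Watts comparison of the functor
`T^i(M) = H^i(f⁻¹U, φ^*(M~) ⊗ F)` at `Γ(S', U')` is.
-/

set_option autoImplicit false
set_option linter.style.haveILetI false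
set_option linter.unusedSectionVars false
set_option linter.unusedVariables false
universe u
open CategoryTheory CategoryTheory.Limits AlgebraicGeometry Opposite TopologicalSpace

namespace Groth.Agent.Lib.T2H5.GBCMain

open Groth.Agent.Lib.T2H5.T2Coh Groth.Agent.Helper13PullbackUnit
  Groth.Agent.Helper13AffBC Groth.Agent.Helper13FlatMV
  Groth.Agent.Lib.T2H5.BC0GlueB TensorProduct

section adj

variable {S S' : Scheme.{u}} (g : S' ⟶ S) {G : S.Modules} {N : S'.Modules}
  (φ : G ⟶ (Scheme.Modules.pushforward g).obj N) {U : S.Opens} {U' : S'.Opens} (hle : U' ≤ g ⁻¹ᵁ U)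

/-- the transpose of `φ : G ⟶ g_* N` on the canonical sections `unitSec` -/
theorem transpose_unitSec (m : Γ(G, U)) :
    (((Scheme.Modules.pullbackPushforwardAdjunction g).homEquiv G N).symm φ).app U'
      (unitSec g G hle m) = N.presheaf.map (homOfLE hle).op (φ.app U m) := by
  obtain ⟨β, hβ⟩ : ∃ β, β = ((Scheme.Modules.pullbackPushforwardAdjunction g).homEquiv G N).symm φ :=
    ⟨_, rfl⟩
  have hu : (Scheme.Modules.pullbackPushforwardAdjunction g).unit.app G ≫
      (Scheme.Modules.pushforward g).map β = φ := by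
    have h0 := ((Scheme.Modules.pullbackPushforwardAdjunction g).homEquiv G N).apply_symm_apply φ
    rw [Adjunction.homEquiv_unit] at h0
    rw [hβ]
    exact h0
  rw [← hβ]
  obtain ⟨y, hy⟩ : ∃ y : Γ((Scheme.Modules.pullback g).obj G, g ⁻¹ᵁ U),
      y = ((Scheme.Modules.pullbackPushforwardAdjunction g).unit.app G).app U m := ⟨_, rfl⟩
  have e1 : unitSec g G hle m =
      ((Scheme.Modules.pullback g).obj G).presheaf.map (homOfLE hle).op y := by
    rw [hy]; rfl
  have n : β.app U' (((Scheme.Modules.pullback g).obj G).presheaf.map (homOfLE hle).op y) =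
      N.presheaf.map (homOfLE hle).op (β.app (g ⁻¹ᵁ U) y) :=
    CategoryTheory.congr_fun (β.mapPresheaf.naturality (homOfLE hle).op) y
  have e2 : β.app (g ⁻¹ᵁ U) y = φ.app U m := by
    rw [← hu, hy]
    rfl
  rw [e1, n, e2]

end adj

section sq

variable {X S X' S' : Scheme.{u}} {f : X ⟶ S} {g : S' ⟶ S} {g' : X' ⟶ X} {f' : X' ⟶ S'}
  (h : IsPullback g' f' f g)
  [HasInjectiveResolutions X.Modules] [HasInjectiveResolutions X'.Modules]
  {Δ : RDer.DerivedLES (Scheme.Modules.pushforward f)}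
  {Δ' : RDer.DerivedLES (Scheme.Modules.pushforward f')}
  {E : CohCmp.SectCmp f Δ} {E' : CohCmp.SectCmp f' Δ'} (B : CohCmp.GenBC f g f' g' h.w E E')
  (F : X.Modules) (i : ℕ) {U : S.Opens} {U' : S'.Opens} (hle : U' ≤ g ⁻¹ᵁ U)

/-- the base change map on the canonical sections -/
theorem bc_unitSec (m : Γ((Coh.Rpush f i).obj F, U)) :
    (B.bc i F).app U' (unitSec g ((Coh.Rpush f i).obj F) hle m) =
      ((Coh.Rpush f' i).obj ((Scheme.Modules.pullback g').obj F)).presheaf.map (homOfLE hle).op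
        ((B.φ i F).app U m) :=
  transpose_unitSec g (B.φ i F) hle m

/-- the adjoint base change map on classes: restriction of `φ(ε x)` to `U'` is `ε'` of the pullback of `x` -/
theorem phi_eps (x : Coh.HHon X F (f ⁻¹ᵁ U) i) :
    ((Coh.Rpush f' i).obj ((Scheme.Modules.pullback g').obj F)).presheaf.map (homOfLE hle).op
      ((B.φ i F).app U (E.ε U F i x)) =
    E'.ε U' ((Scheme.Modules.pullback g').obj F) i
      (CohPull.pullOn g' (f ⁻¹ᵁ U) (f' ⁻¹ᵁ U') (preimage_le f g g' f' h hle) F i x) := by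
  rw [B.compat U F i x]
  rw [← Groth.Agent.Lib.T2H5.ResLE.eps_resLE f' E' i ((Scheme.Modules.pullback g').obj F) hle]
  rw [Groth.Agent.Lib.T2H5.GBCTw.resLE_pullOn]

end sq

section generic

theorem bij_surj_iff_of_comm {A₀ B₀ C₀ D₀ : Type*} (β : B₀ → C₀) (π : A₀ → D₀) (b1 : A₀ → B₀) (b2 : D₀ → C₀)
    (h1 : Function.Bijective b1) (h2 : Function.Bijective b2) (hc : ∀ z, β (b1 z) = b2 (π z)) :
    (Function.Bijective β ↔ Function.Bijective π) ∧ (Function.Surjective β ↔ Function.Surjective π) := by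
  have key : β ∘ b1 = b2 ∘ π := funext hc
  refine ⟨⟨fun hb => ?_, fun hb => ?_⟩, ⟨fun hb => ?_, fun hb => ?_⟩⟩
  · have h3 : Function.Bijective (b2 ∘ π) := key ▸ hb.comp h1
    exact (Function.Bijective.of_comp_iff' h2 _).1 h3
  · have h3 : Function.Bijective (β ∘ b1) := key ▸ h2.comp hb
    exact (Function.Bijective.of_comp_iff _ h1).1 h3
  · have h3 : Function.Surjective (b2 ∘ π) := key ▸ hb.comp h1.surjective
    intro y
    obtain ⟨x, hx⟩ := h3 (b2 y)
    exact ⟨x, h2.injective hx⟩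
  · have h3 : Function.Surjective (β ∘ b1) := key ▸ h2.surjective.comp hb
    exact Function.Surjective.of_comp h3

end generic

section main

variable {X S X' S' : Scheme.{u}} (f : X ⟶ S) (g : S' ⟶ S) (g' : X' ⟶ X) (f' : X' ⟶ S')
  (h : IsPullback g' f' f g) [QuasiCompact f] [QuasiSeparated f]
  [HasInjectiveResolutions X.Modules] [HasInjectiveResolutions X'.Modules]
  {Δ : RDer.DerivedLES (Scheme.Modules.pushforward f)}
  {Δ' : RDer.DerivedLES (Scheme.Modules.pushforward f')}
  {E : CohCmp.SectCmp f Δ} {E' : CohCmp.SectCmp f' Δ'} (B : CohCmp.GenBC f g f' g' h.w E E')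
  (F : X.Modules) [F.IsQuasicoherent] (i : ℕ) {U : S.Opens} {U' : S'.Opens}
  (hU : IsAffineOpen U) (hU' : IsAffineOpen U') (hle : U' ≤ g ⁻¹ᵁ U)

include hU hU' in
/-- the base change map on sections over `U'`, up to bijections, is the linearised pullback on cohomology -/
theorem bc_app_decomp :
    letI := overU f (U := U)
    letI := overU f' (U := U')
    letI : Algebra Γ(S, U) Γ(S', U') := (g.appLE U U' hle).hom.toAlgebra
    ∃ (b1 : Γ(S', U') ⊗[Γ(S, U)] Coh.HH (↑(f ⁻¹ᵁ U) : Scheme.{u}) (F.restrict (f ⁻¹ᵁ U).ι) i →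
        Γ((Scheme.Modules.pullback g).obj ((Coh.Rpush f i).obj F), U'))
      (b2 : Coh.HH (↑(f' ⁻¹ᵁ U') : Scheme.{u})
          ((Scheme.Modules.pullback (gR f g g' f' h hle)).obj (F.restrict (f ⁻¹ᵁ U).ι)) i →
        Γ((Coh.Rpush f' i).obj ((Scheme.Modules.pullback g').obj F), U')),
      Function.Bijective b1 ∧ Function.Bijective b2 ∧
      ∀ z, (B.bc i F).app U' (b1 z) =
        b2 (Groth.Agent.Lib.T2H5.BCKey.pullLin (gR f g g' f' h hle)
          (isPullback_gR' f g g' f' h hU hU' hle) (F.restrict (f ⁻¹ᵁ U).ι) i z) := by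
  letI := overU f (U := U)
  letI := overU f' (U := U')
  letI : Algebra Γ(S, U) Γ(S', U') := (g.appLE U U' hle).hom.toAlgebra
  haveI : QuasiCompact f' := MorphismProperty.of_isPullback h inferInstance
  haveI : QuasiSeparated f' := MorphismProperty.of_isPullback h inferInstance
  haveI hqF : Coh.IsQCoh F := ‹F.IsQuasicoherent›
  haveI : ((Scheme.Modules.pullback g').obj F).IsQuasicoherent :=
    Groth.Agent.Lib.Helper2.PullbackSec.isQuasicoherent_pullback g' F
  haveI hqF' : Coh.IsQCoh ((Scheme.Modules.pullback g').obj F) :=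
    ‹((Scheme.Modules.pullback g').obj F).IsQuasicoherent›
  haveI hqG : ((Coh.Rpush f i).obj F).IsQuasicoherent :=
    Groth.Agent.Lib.T2H5.RpushQCoh.isQuasicoherent_Rpush f F i
  -- the canonical sections
  let φ : Γ((Coh.Rpush f i).obj F, U) →+
      Γ((Scheme.Modules.pullback g).obj ((Coh.Rpush f i).obj F), U') :=
    unitSec g ((Coh.Rpush f i).obj F) hle
  have hφ : ∀ (r : Γ(S, U)) (m : Γ((Coh.Rpush f i).obj F, U)),
      φ (r • m) = algebraMap Γ(S, U) Γ(S', U') r • φ m :=
    fun r m => unitSec_smul g ((Coh.Rpush f i).obj F) hle r m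
  have hκ : Function.Bijective (kap (R := Γ(S, U)) (R' := Γ(S', U')) φ hφ) := by
    refine kap_bijective_of_existsUnique _ hφ ?_
    intro N _ _ l hl
    exact existsUnique_lift g ((Coh.Rpush f i).obj F) hU hU' hle N l hl
  -- the comparison maps, linearly
  have hεb : Function.Bijective (E.ε U F i) :=
    Groth.Agent.Lib.T2H5.HEComp.eps_bijective_of_isAffineOpen f E F i U hU
  have hεb' : Function.Bijective (E'.ε U' ((Scheme.Modules.pullback g').obj F) i) :=
    Groth.Agent.Lib.T2H5.HEComp.eps_bijective_of_isAffineOpen f' E'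
      ((Scheme.Modules.pullback g').obj F) i U' hU'
  let εL : Coh.HH (↑(f ⁻¹ᵁ U) : Scheme.{u}) (F.restrict (f ⁻¹ᵁ U).ι) i →ₗ[Γ(S, U)]
      Γ((Coh.Rpush f i).obj F, U) :=
    { toFun := fun x => E.ε U F i x
      map_add' := fun a b => map_add _ a b
      map_smul' := fun t x => by
        rw [RingHom.id_apply]
        refine (congrArg (E.ε U F i)
          (Groth.Agent.Lib.T2H5.GBCLin.smul_overU f U (F.restrict (f ⁻¹ᵁ U).ι) i t x)).trans ?_
        exact Groth.Agent.Lib.T2H5.GBCLin.eps_smul f E i F U t x }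
  have hεL : Function.Bijective (εL.lTensor Γ(S', U')) :=
    ((LinearEquiv.ofBijective εL hεb).lTensor Γ(S', U')).bijective
  -- the pullback of classes
  let po : Coh.HH (↑(f ⁻¹ᵁ U) : Scheme.{u}) (F.restrict (f ⁻¹ᵁ U).ι) i →+
      Coh.HH (↑(f' ⁻¹ᵁ U') : Scheme.{u})
        ((Scheme.Modules.pullback (gR f g g' f' h hle)).obj (F.restrict (f ⁻¹ᵁ U).ι)) i :=
    CohPull.pullMod (gR f g g' f' h hle) (F.restrict (f ⁻¹ᵁ U).ι) i
  let ι₀ := CohPull.pullOnIso g' (f ⁻¹ᵁ U) (f' ⁻¹ᵁ U') (preimage_le f g g' f' h hle) F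
  let b2 : Coh.HH (↑(f' ⁻¹ᵁ U') : Scheme.{u})
        ((Scheme.Modules.pullback (gR f g g' f' h hle)).obj (F.restrict (f ⁻¹ᵁ U).ι)) i →
      Γ((Coh.Rpush f' i).obj ((Scheme.Modules.pullback g').obj F), U') :=
    fun y => E'.ε U' ((Scheme.Modules.pullback g').obj F) i (CohPull.mapH ι₀.hom i y)
  have hb2 : Function.Bijective b2 :=
    hεb'.comp (Groth.Agent.Lib.T2H5.BCPull.mapH_bijective_of_isIso ι₀.hom i)
  have hb2lin : ∀ (r' : Γ(S', U')) y, b2 (r' • y) =
      r' • (show Γ((Coh.Rpush f' i).obj ((Scheme.Modules.pullback g').obj F), U') from b2 y) := by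
    intro r' y
    have e1 : CohPull.mapH ι₀.hom i (r' • y) = r' • CohPull.mapH ι₀.hom i y :=
      (Canon.HHlin Γ(S', U') ι₀.hom i).map_smul r' y
    refine (congrArg (E'.ε U' ((Scheme.Modules.pullback g').obj F) i) e1).trans ?_
    refine (congrArg (E'.ε U' ((Scheme.Modules.pullback g').obj F) i)
      (Groth.Agent.Lib.T2H5.GBCLin.smul_overU f' U' _ i r' _)).trans ?_
    exact Groth.Agent.Lib.T2H5.GBCLin.eps_smul f' E' i ((Scheme.Modules.pullback g').obj F) U' r' _
  have key : ∀ z, (B.bc i F).app U' (kap (R := Γ(S, U)) (R' := Γ(S', U')) φ hφ (εL.lTensor Γ(S', U') z)) =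
      b2 (Groth.Agent.Lib.T2H5.BCKey.pullLin (gR f g g' f' h hle)
          (isPullback_gR' f g g' f' h hU hU' hle) (F.restrict (f ⁻¹ᵁ U).ι) i z) := by
    intro z
    induction z using TensorProduct.induction_on with
    | zero =>
      have e0 : b2 0 = 0 := by
        change E'.ε U' ((Scheme.Modules.pullback g').obj F) i (CohPull.mapH ι₀.hom i 0) = 0
        rw [map_zero, map_zero]
      rw [map_zero, map_zero, map_zero, map_zero, e0]
    | tmul r' x =>
      rw [LinearMap.lTensor_tmul, kap_tmul, Groth.Agent.Lib.T2H5.BCKey.pullLin_tmul, hb2lin]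
      refine ((B.bc i F).app_smul r' _).trans ?_
      congr 1
      refine (bc_unitSec h B F i hle _).trans ?_
      exact phi_eps h B F i hle x
    | add z w hz hw =>
      have ea : ∀ a b, b2 (a + b) = b2 a + b2 b := by
        intro a b
        change E'.ε U' ((Scheme.Modules.pullback g').obj F) i (CohPull.mapH ι₀.hom i (a + b)) = _
        rw [map_add, map_add]
      rw [map_add, map_add, map_add, map_add, ea, hz, hw]
  exact ⟨fun z => kap (R := Γ(S, U)) (R' := Γ(S', U')) φ hφ (εL.lTensor Γ(S', U') z), b2,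
    hκ.comp hεL, hb2, key⟩

include hU hU' in
/-- the base change map is bijective on sections over `U'` iff the Eilenberg–Watts comparison of
`M ↦ H^i(f⁻¹U, φ^*(M~) ⊗ F)` is bijective at `Γ(S', U')` -/
theorem bc_app_bijective_iff_ewLin :
    letI := overU f (U := U)
    letI : Algebra Γ(S, U) Γ(S', U') := (g.appLE U U' hle).hom.toAlgebra
    Function.Bijective ((B.bc i F).app U') ↔
    Function.Bijective (Groth.Agent.Lib.T2H9.EW.ewLin (Groth.Agent.Lib.T2H9.EW.liftA
      (Groth.Agent.Lib.T2H5.BCKey.Tp Γ(S, U) (F.restrict (f ⁻¹ᵁ U).ι) i))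
      (ModuleCat.of Γ(S, U) Γ(S', U'))) := by
  letI := overU f (U := U)
  letI := overU f' (U := U')
  letI : Algebra Γ(S, U) Γ(S', U') := (g.appLE U U' hle).hom.toAlgebra
  haveI : (F.restrict (f ⁻¹ᵁ U).ι).IsQuasicoherent :=
    Scheme.Modules.isQuasicoherent_restrictFunctor _ F
  obtain ⟨b1, b2, h1, h2, hc⟩ := bc_app_decomp f g g' f' h B F i hU hU' hle
  rw [Groth.Agent.Lib.T2H5.BCKey.ewLin_bijective_iff (gR f g g' f' h hle)
    (isPullback_gR' f g g' f' h hU hU' hle) (F.restrict (f ⁻¹ᵁ U).ι) i]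
  exact (bij_surj_iff_of_comm _ _ b1 b2 h1 h2 hc).1

include hU hU' in
theorem bc_app_surjective_iff_ewLin :
    letI := overU f (U := U)
    letI : Algebra Γ(S, U) Γ(S', U') := (g.appLE U U' hle).hom.toAlgebra
    Function.Surjective ((B.bc i F).app U') ↔
    Function.Surjective (Groth.Agent.Lib.T2H9.EW.ewLin (Groth.Agent.Lib.T2H9.EW.liftA
      (Groth.Agent.Lib.T2H5.BCKey.Tp Γ(S, U) (F.restrict (f ⁻¹ᵁ U).ι) i))
      (ModuleCat.of Γ(S, U) Γ(S', U'))) := by
  letI := overU f (U := U)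
  letI := overU f' (U := U')
  letI : Algebra Γ(S, U) Γ(S', U') := (g.appLE U U' hle).hom.toAlgebra
  haveI : (F.restrict (f ⁻¹ᵁ U).ι).IsQuasicoherent :=
    Scheme.Modules.isQuasicoherent_restrictFunctor _ F
  obtain ⟨b1, b2, h1, h2, hc⟩ := bc_app_decomp f g g' f' h B F i hU hU' hle
  rw [Groth.Agent.Lib.T2H5.BCKey.ewLin_surjective_iff (gR f g g' f' h hle)
    (isPullback_gR' f g g' f' h hU hU' hle) (F.restrict (f ⁻¹ᵁ U).ι) i]
  exact (bij_surj_iff_of_comm _ _ b1 b2 h1 h2 hc).2

end main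

end Groth.Agent.Lib.T2H5.GBCMain
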