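import Mathlib
import Groth.Agent.Lib.T2H5AmpleLimC
import Groth.Agent.Lib.Helper23GG
import Groth.Agent.Lib.Helper23SecTw10
import Groth.Agent.Lib.Helper23CounitEpi
import Groth.Agent.Lib.T2H5CounitGG
import Groth.Agent.Lib.T2H5GlobGenQ
import Groth.Agent.Lib.Helper23RestrTensor
set_option backward.isDefEq.respectTransparency.types false

/-!
# T2H5GGLimA: global generation of a pulled back invertible module on a limit holds at a stage (helper5)

Namespace `Groth.Agent.Lib.T2H5.GGLim`.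

* `exists_section_stage₁`: a section of the pullback to the limit of an invertible module descends to a stage,
  compatibly with loci.
* `exists_section_transport₁`: transport of sections along transition maps.
* `exists_isGG_stage`: if the pullback to the limit of an invertible module is globally generated, so is its
  pullback to a stage.
-/

set_option autoImplicit false
set_option linter.style.haveILetI false
set_option linter.unusedSectionVars false
universe u
open CategoryTheory CategoryTheory.Limits AlgebraicGeometry TopologicalSpace Opposite Topology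

namespace Groth.Agent.Lib.T2H5.GGLim

open Groth.Agent.Lib.Helper23.SecTw Groth.Agent.Lib.Helper23.GenLocus Groth.Agent.Lib.Helper6
open Groth.Agent.Lib.Helper23.PB Groth.Agent.Lib.T2H5.ModLimB Groth.Agent.Lib.Helper23.AmpleIso

variable {I : Type u} [SmallCategory I] [IsCofiltered I] (D : I ⥤ Scheme.{u}) (c : Cone D)
  (hc : IsLimit c) [∀ (i j : I) (f : i ⟶ j), IsAffineHom (D.map f)]
  [∀ i, CompactSpace (D.obj i)] [∀ i, QuasiSeparatedSpace (D.obj i)]

include hc in
/-- descending a section of the pullback of an invertible module to a stage -/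
theorem exists_section_stage₁ (i₀ : I) (G₀ : (D.obj i₀).Modules) (hG₀inv : PicF.IsInvertible G₀)
    (s : Coh.structureModule c.pt ⟶ (Scheme.Modules.pullback (c.π.app i₀)).obj G₀) :
    ∃ (k : I) (φ : k ⟶ i₀) (t : Coh.structureModule (D.obj k) ⟶
        (Scheme.Modules.pullback (D.map φ)).obj G₀),
      (c.π.app k) ⁻¹ᵁ CohB1.genLocus _ t = CohB1.genLocus _ s := by
  haveI : G₀.IsQuasicoherent := isQuasicoherent_of_isInvertible G₀ hG₀inv
  haveI : (Coh.structureModule (D.obj i₀)).IsQuasicoherent :=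
    Groth.Agent.Lib.Helper23.Serre.isQuasicoherent_structureModule' (D.obj i₀)
  haveI : SheafOfModules.IsFinitePresentation (R := (D.obj i₀).ringCatSheaf)
      (Coh.structureModule (D.obj i₀)) :=
    Groth.Agent.Helper18FinFlat.isFinitePresentation_structureModule (D.obj i₀)
  obtain ⟨k, φ, hk, hhk⟩ := Groth.Agent.Lib.T2H5.ModLimE.hom_surjective D c hc i₀
    (Coh.structureModule (D.obj i₀)) G₀ ((pullbackUnitIso (c.π.app i₀)).hom ≫ s)
  obtain ⟨iso1, hiso1⟩ : ∃ iso1, iso1 = ((Scheme.Modules.pullbackComp (c.π.app k) (D.map φ) ≪≫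
      Scheme.Modules.pullbackCongr (c.w φ)).app (Coh.structureModule (D.obj i₀))) := ⟨_, rfl⟩
  obtain ⟨iso2, hiso2⟩ : ∃ iso2, iso2 = ((Scheme.Modules.pullbackComp (c.π.app k) (D.map φ) ≪≫
      Scheme.Modules.pullbackCongr (c.w φ)).app G₀) := ⟨_, rfl⟩
  rw [← hiso1, ← hiso2] at hhk
  have hinvk : PicF.IsInvertible ((Scheme.Modules.pullback (D.map φ)).obj G₀) :=
    isInvertible_pullback (D.map φ) G₀ hG₀inv
  refine ⟨k, φ, (pullbackUnitIso (D.map φ)).inv ≫ hk, ?_⟩
  let e : Coh.structureModule c.pt ≅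
      (Scheme.Modules.pullback (c.π.app k)).obj (Coh.structureModule (D.obj k)) :=
    ((Scheme.Modules.pullback (c.π.app k)).mapIso (pullbackUnitIso (D.map φ)).symm ≪≫ iso1 ≪≫
      pullbackUnitIso (c.π.app i₀)).symm
  rw [← genLocus_pullback (c.π.app k) _ hinvk ((pullbackUnitIso (D.map φ)).inv ≫ hk) e]
  have h1 : (Scheme.Modules.pullback (c.π.app k)).map hk =
      iso1.hom ≫ ((pullbackUnitIso (c.π.app i₀)).hom ≫ s) ≫ iso2.inv := by
    rw [← hhk]
    simp only [Category.assoc, Iso.hom_inv_id, Category.comp_id, Iso.hom_inv_id_assoc]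
  have hkey : e.hom ≫ (Scheme.Modules.pullback (c.π.app k)).map ((pullbackUnitIso (D.map φ)).inv ≫ hk) =
      s ≫ iso2.symm.hom := by
    rw [CategoryTheory.Functor.map_comp, h1]
    simp only [e, Iso.symm_hom, Iso.trans_inv, Functor.mapIso_inv, Iso.symm_inv, Category.assoc]
    rw [← CategoryTheory.Functor.map_comp_assoc, Iso.hom_inv_id, CategoryTheory.Functor.map_id,
      Category.id_comp, Iso.inv_hom_id_assoc, Iso.inv_hom_id_assoc]
  rw [hkey, genLocus_comp_iso]

omit [IsCofiltered I] [∀ (i j : I) (f : i ⟶ j), IsAffineHom (D.map f)] [∀ i, CompactSpace (D.obj i)]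
  [∀ i, QuasiSeparatedSpace (D.obj i)] in
/-- transporting a section of `φ^*G₀` along a transition map -/
theorem exists_section_transport₁ {i₀ k m : I} (φ : k ⟶ i₀) (θ : m ⟶ k) (μ : m ⟶ i₀) (hμ : θ ≫ φ = μ)
    (G₀ : (D.obj i₀).Modules) (hG₀ : PicF.IsInvertible G₀)
    (t : Coh.structureModule (D.obj k) ⟶ (Scheme.Modules.pullback (D.map φ)).obj G₀) :
    ∃ t' : Coh.structureModule (D.obj m) ⟶ (Scheme.Modules.pullback (D.map μ)).obj G₀,
      CohB1.genLocus _ t' = (D.map θ) ⁻¹ᵁ CohB1.genLocus _ t := by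
  have hw : D.map θ ≫ D.map φ = D.map μ := by rw [← D.map_comp, hμ]
  refine ⟨((pullbackUnitIso (D.map θ)).symm.hom ≫ (Scheme.Modules.pullback (D.map θ)).map t) ≫
    (ModLimB.cmp (D.map θ) (D.map φ) (D.map μ) hw G₀).hom, ?_⟩
  rw [genLocus_comp_iso]
  exact genLocus_pullback (D.map θ) _ (isInvertible_pullback (D.map φ) G₀ hG₀) t
    (pullbackUnitIso (D.map θ)).symm

include hc in
/-- if the pullback of an invertible module to the limit is globally generated, so is its pullback to a stage -/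
theorem exists_isGG_stage (i₀ : I) (M₀ : (D.obj i₀).Modules) (hM₀ : PicF.IsInvertible M₀)
    (h : Curv2.IsGloballyGenerated ((Scheme.Modules.pullback (c.π.app i₀)).obj M₀)) :
    ∃ (i : I) (φ : i ⟶ i₀), Curv2.IsGloballyGenerated ((Scheme.Modules.pullback (D.map φ)).obj M₀) := by
  classical
  have inst : ∀ {i j : I} (f : i ⟶ j), IsAffineHom (D.map f) := fun f => inferInstance
  haveI : IsAffineHom (c.π.app i₀) := isAffineHom_π_app D c hc i₀
  haveI : CompactSpace c.pt := QuasiCompact.compactSpace_of_compactSpace (c.π.app i₀)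
  have hpt : ∀ x : c.pt, ∃ t : Coh.structureModule c.pt ⟶
      (Scheme.Modules.pullback (c.π.app i₀)).obj M₀, x ∈ CohB1.genLocus _ t :=
    Groth.Agent.Lib.Helper23.GG.exists_section_mem_genLocus (X := c.pt) _
      (isInvertible_pullback (c.π.app i₀) M₀ hM₀) h
  choose s hxs using hpt
  obtain ⟨T, hT⟩ := CompactSpace.elim_nhds_subcover
    (fun x => ((CohB1.genLocus _ (s x) : c.pt.Opens) : Set c.pt))
    (fun x => (CohB1.genLocus _ (s x)).2.mem_nhds (hxs x))
  have hex : ∀ x : c.pt, ∃ (k : I) (φ : k ⟶ i₀) (t : Coh.structureModule (D.obj k) ⟶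
        (Scheme.Modules.pullback (D.map φ)).obj M₀),
      (c.π.app k) ⁻¹ᵁ CohB1.genLocus _ t = CohB1.genLocus _ (s x) :=
    fun x => exists_section_stage₁ D c hc i₀ M₀ hM₀ (s x)
  choose k φ t ht using hex
  obtain ⟨S, hS⟩ := IsCofiltered.inf_objs_exists
    ((Finset.univ : Finset T).image (fun x : T => Over.mk (φ x.1)))
  have hθ : ∀ x : T, ∃ θ : S.left ⟶ k x.1, θ ≫ φ x.1 = S.hom := fun x => by
    obtain ⟨g⟩ := hS (Finset.mem_image_of_mem (fun x : T => Over.mk (φ x.1)) (Finset.mem_univ x))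
    exact ⟨g.left, Over.w g⟩
  choose θ hθ using hθ
  obtain ⟨μ, hμ⟩ : ∃ μ : S.left ⟶ i₀, μ = S.hom := ⟨_, rfl⟩
  rw [← hμ] at hθ
  have hLm : PicF.IsInvertible ((Scheme.Modules.pullback (D.map μ)).obj M₀) :=
    isInvertible_pullback (D.map μ) M₀ hM₀
  have hex' : ∀ x : T, ∃ t' : Coh.structureModule (D.obj S.left) ⟶
      (Scheme.Modules.pullback (D.map μ)).obj M₀,
      CohB1.genLocus _ t' = (D.map (θ x)) ⁻¹ᵁ CohB1.genLocus _ (t x.1) :=
    fun x => exists_section_transport₁ D (φ x.1) (θ x) μ (hθ x) M₀ hM₀ (t x.1)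
  choose t' ht' using hex'
  have hpre : ∀ x : T, (c.π.app S.left) ⁻¹ᵁ CohB1.genLocus _ (t' x) = CohB1.genLocus _ (s x.1) := by
    intro x
    rw [ht' x, ← Scheme.Hom.comp_preimage, c.w (θ x), ht x.1]
  have hcov : c.π.app S.left ⁻¹ᵁ (⊤ : (D.obj S.left).Opens) ≤
      c.π.app S.left ⁻¹ᵁ (⨆ x : T, CohB1.genLocus _ (t' x)) := by
    intro y _
    have hy : y ∈ ⋃ x ∈ T, ((CohB1.genLocus _ (s x) : c.pt.Opens) : Set c.pt) := by
      rw [hT]; trivial
    obtain ⟨x, hxT, hyx⟩ := Set.mem_iUnion₂.1 hy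
    have hyx' : y ∈ (c.π.app S.left) ⁻¹ᵁ CohB1.genLocus _ (t' ⟨x, hxT⟩) := by
      rw [hpre ⟨x, hxT⟩]; exact hyx
    exact Opens.mem_iSup.2 ⟨⟨x, hxT⟩, hyx'⟩
  obtain ⟨j₀, ν₀, hle⟩ := exists_map_preimage_le_map_preimage D c hc
    (U := (⊤ : (D.obj S.left).Opens)) (V := ⨆ x : T, CohB1.genLocus _ (t' x)) isCompact_univ hcov
  refine ⟨j₀, ν₀ ≫ μ, ?_⟩
  refine Groth.Agent.Lib.Helper23.RestrTensor.isGloballyGenerated_of_iso
    (ModLimB.cmp (D.map ν₀) (D.map μ) (D.map (ν₀ ≫ μ)) (D.map_comp ν₀ μ).symm M₀) ?_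
  refine isGloballyGenerated_of_forall_mem_genLocus _ (fun y => ?_)
  have hy : (D.map ν₀) y ∈ (⨆ x : T, CohB1.genLocus _ (t' x) : (D.obj S.left).Opens) :=
    hle (show y ∈ D.map ν₀ ⁻¹ᵁ (⊤ : (D.obj S.left).Opens) from trivial)
  obtain ⟨x, hx⟩ := Opens.mem_iSup.1 hy
  refine ⟨(pullbackUnitIso (D.map ν₀)).symm.hom ≫ (Scheme.Modules.pullback (D.map ν₀)).map (t' x), ?_⟩
  rw [genLocus_pullback (D.map ν₀) _ hLm (t' x) (pullbackUnitIso (D.map ν₀)).symm]
  exact hx

end Groth.Agent.Lib.T2H5.GGLim
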