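import Mathlib
import Groth.Agent.Lib.T2H5GGLimA
set_option backward.isDefEq.respectTransparency.types false

/-!
# T2H5GGLimB: relative generation (epimorphic counit) through a cofiltered limit (helper5)

Namespace `Groth.Agent.Lib.T2H5.GGLimRel`.

* `isGG_restrict_iff`: global generation on the preimage of an open in terms of the chosen pullback.
* `StageGG`, `stageGG_mono`, `exists_stageGG`: the system `U₀ ×_{S_{i₀}} S_k` and global generation at a stage.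
* `exists_stage_counit_epi`: **S17426**.
-/

set_option autoImplicit false
set_option linter.style.haveILetI false
set_option linter.unusedSectionVars false
universe u
open CategoryTheory CategoryTheory.Limits AlgebraicGeometry TopologicalSpace Opposite Topology

namespace Groth.Agent.Lib.T2H5.GGLimRel

open Groth.Agent.Lib.Helper23.PB Groth.Agent.Lib.T2H5.ModLimB Groth.Agent.Lib.Helper23.AmpleIso
open Groth.Agent.Lib.T2H7.GrpLimA Groth.Agent.Lib.T2H5.AmpleLimRel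
open Groth.Agent.Lib.Helper23.RestrTensor Groth.Agent.Lib.T2H5.GlobGenQ

/-- global generation of a pullback only depends on the morphism up to an isomorphism of the source -/
theorem isGG_pullback_of_iso_source {C D Z : Scheme.{u}} (a : C ⟶ Z) (b : D ⟶ Z) (j : C ≅ D)
    (hj : j.hom ≫ b = a) (L : Z.Modules)
    (h : Curv2.IsGloballyGenerated ((Scheme.Modules.pullback b).obj L)) :
    Curv2.IsGloballyGenerated ((Scheme.Modules.pullback a).obj L) :=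
  isGloballyGenerated_of_iso (ModLimB.cmp j.hom b a hj L) (isGloballyGenerated_pullback j.hom _ h)

section restrict

variable {X₀ Y₀ B₀ B Y' X' : Scheme.{u}} {f₀ : X₀ ⟶ Y₀} {g₀ : Y₀ ⟶ B₀} {σ : B ⟶ B₀}
  {pY : Y' ⟶ Y₀} {gY : Y' ⟶ B} {pX : X' ⟶ X₀} {f' : X' ⟶ Y'}

theorem isGG_restrict_iff (hY : IsPullback pY gY g₀ σ) (hX : IsPullback pX f' f₀ pY) (U : X₀.Opens)
    (L₀ : X₀.Modules) :
    Curv2.IsGloballyGenerated (((Scheme.Modules.pullback pX).obj L₀).restrict (pX ⁻¹ᵁ U).ι) ↔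
      Curv2.IsGloballyGenerated
        ((Scheme.Modules.pullback (pullback.fst (U.ι ≫ f₀ ≫ g₀) σ ≫ U.ι)).obj L₀) := by
  obtain ⟨e, he⟩ : ∃ e : ((pX ⁻¹ᵁ U : X'.Opens) : Scheme.{u}) ≅ pullback (U.ι ≫ f₀ ≫ g₀) σ,
      e.hom ≫ pullback.fst (U.ι ≫ f₀ ≫ g₀) σ = pX ∣_ U :=
    ⟨(isPullback_restrict hY hX U).isoPullback, IsPullback.isoPullback_hom_fst _⟩
  have hea : e.hom ≫ (pullback.fst (U.ι ≫ f₀ ≫ g₀) σ ≫ U.ι) = (pX ⁻¹ᵁ U).ι ≫ pX := by
    rw [← Category.assoc, he, morphismRestrict_ι]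
  have hea' : e.inv ≫ ((pX ⁻¹ᵁ U).ι ≫ pX) = pullback.fst (U.ι ≫ f₀ ≫ g₀) σ ≫ U.ι := by
    rw [← hea, Iso.inv_hom_id_assoc]
  let iso1 : ((Scheme.Modules.pullback pX).obj L₀).restrict (pX ⁻¹ᵁ U).ι ≅
      (Scheme.Modules.pullback ((pX ⁻¹ᵁ U).ι ≫ pX)).obj L₀ :=
    (Scheme.Modules.restrictFunctorIsoPullback (pX ⁻¹ᵁ U).ι).app _ ≪≫
      ModLimB.cmp (pX ⁻¹ᵁ U).ι pX _ rfl L₀
  constructor
  · intro h
    exact isGG_pullback_of_iso_source _ _ e.symm hea' L₀ (isGloballyGenerated_of_iso iso1 h)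
  · intro h
    exact isGloballyGenerated_of_iso iso1.symm (isGG_pullback_of_iso_source _ _ e hea L₀ h)

end restrict

section system

variable {I : Type u} [SmallCategory I] [IsCofiltered I] (D : I ⥤ Scheme.{u}) (c : Cone D)
  (hc : IsLimit c) [∀ (i j : I) (f : i ⟶ j), IsAffineHom (D.map f)] (i₀ : I)
  {U₀ X₀ : Scheme.{u}} (u : U₀ ⟶ D.obj i₀) (a : U₀ ⟶ X₀) (L₀ : X₀.Modules)

/-- global generation of the pullback of `L₀` at the stage `U₀ ×_{S_{i₀}} S_k` -/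
def StageGG (k : Over i₀) : Prop :=
  Curv2.IsGloballyGenerated ((Scheme.Modules.pullback (pullback.fst u (D.map k.hom) ≫ a)).obj L₀)

omit [IsCofiltered I] [∀ (i j : I) (f : i ⟶ j), IsAffineHom (D.map f)] in
theorem stageGG_mono {k l : Over i₀} (ψ : l ⟶ k) (h : StageGG D i₀ u a L₀ k) :
    StageGG D i₀ u a L₀ l := by
  have h1 : Curv2.IsGloballyGenerated ((Scheme.Modules.pullback ((sysX D i₀ u).map ψ)).obj
      ((Scheme.Modules.pullback (pullback.fst u (D.map k.hom) ≫ a)).obj L₀)) :=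
    isGloballyGenerated_pullback ((sysX D i₀ u).map ψ) _ h
  have hw : (sysX D i₀ u).map ψ ≫ (pullback.fst u (D.map k.hom) ≫ a) =
      pullback.fst u (D.map l.hom) ≫ a := by
    rw [← Category.assoc]
    congr 1
    exact sysX_map_fst D i₀ u ψ
  exact isGloballyGenerated_of_iso (ModLimB.cmp _ _ _ hw L₀) h1

omit [IsCofiltered I] [∀ (i j : I) (f : i ⟶ j), IsAffineHom (D.map f)] in
theorem stageGG_comp {l : Over i₀} (h : StageGG D i₀ u a L₀ l) {k : I} (ψ : k ⟶ l.left) :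
    Curv2.IsGloballyGenerated
      ((Scheme.Modules.pullback (pullback.fst u (D.map (ψ ≫ l.hom)) ≫ a)).obj L₀) := by
  have h2 : StageGG D i₀ u a L₀ (Over.mk (ψ ≫ l.hom)) :=
    stageGG_mono D i₀ u a L₀ (Over.homMk (U := Over.mk (ψ ≫ l.hom)) (V := l) ψ rfl) h
  exact h2

include hc in
theorem exists_stageGG [CompactSpace U₀] [QuasiSeparatedSpace U₀] (hL₀ : PicF.IsInvertible L₀)
    (h : Curv2.IsGloballyGenerated
      ((Scheme.Modules.pullback (pullback.fst u (c.π.app i₀) ≫ a)).obj L₀)) :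
    ∃ k : Over i₀, StageGG D i₀ u a L₀ k := by
  haveI haffk : ∀ k : Over i₀, IsAffineHom (pullback.fst u (tr D i₀ k)) := fun k =>
    MorphismProperty.pullback_fst (P := @IsAffineHom) u (tr D i₀ k)
      (inferInstanceAs (IsAffineHom (D.map k.hom)))
  haveI : ∀ k : Over i₀, CompactSpace ((sysX D i₀ u).obj k) := fun k =>
    show CompactSpace (pullback u (tr D i₀ k) : Scheme.{u}) from
      QuasiCompact.compactSpace_of_compactSpace (pullback.fst u (tr D i₀ k))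
  haveI : ∀ k : Over i₀, QuasiSeparatedSpace ((sysX D i₀ u).obj k) := fun k =>
    show QuasiSeparatedSpace (pullback u (tr D i₀ k) : Scheme.{u}) from
      quasiSeparatedSpace_of_quasiSeparated (pullback.fst u (tr D i₀ k))
  obtain ⟨k₀, hk₀⟩ : ∃ k₀ : Over i₀, k₀ = Over.mk (𝟙 i₀) := ⟨_, rfl⟩
  obtain ⟨M₀, hM₀⟩ : ∃ M₀ : ((sysX D i₀ u).obj k₀).Modules,
      M₀ = (Scheme.Modules.pullback (pullback.fst u (tr D i₀ k₀) ≫ a)).obj L₀ := ⟨_, rfl⟩
  have hM₀inv : PicF.IsInvertible M₀ := by rw [hM₀]; exact isInvertible_pullback _ L₀ hL₀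
  have hw : (sysC D c i₀ u).π.app k₀ ≫ (pullback.fst u (tr D i₀ k₀) ≫ a) =
      pullback.fst u (c.π.app i₀) ≫ a := by
    rw [← Category.assoc]
    congr 1
    exact sysC_π_fst D c i₀ u k₀
  have hyp : Curv2.IsGloballyGenerated
      ((Scheme.Modules.pullback ((sysC D c i₀ u).π.app k₀)).obj M₀) := by
    rw [hM₀]
    exact isGloballyGenerated_of_iso (ModLimB.cmp _ _ _ hw L₀).symm h
  obtain ⟨k, φ, hk⟩ := Groth.Agent.Lib.T2H5.GGLim.exists_isGG_stage (sysX D i₀ u) (sysC D c i₀ u)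
    (isLimitSysC D c i₀ u hc) k₀ M₀ hM₀inv hyp
  refine ⟨k, ?_⟩
  rw [hM₀] at hk
  have hw' : (sysX D i₀ u).map φ ≫ (pullback.fst u (tr D i₀ k₀) ≫ a) =
      pullback.fst u (D.map k.hom) ≫ a := by
    rw [← Category.assoc]
    congr 1
    exact sysX_map_fst D i₀ u φ
  exact isGloballyGenerated_of_iso (ModLimB.cmp _ _ _ hw' L₀) hk

end system

section cover

variable {X₀ Y₀ B₀ B Y' X' : Scheme.{u}} {f₀ : X₀ ⟶ Y₀} {g₀ : Y₀ ⟶ B₀} {σ : B ⟶ B₀}
  {pY : Y' ⟶ Y₀} {gY : Y' ⟶ B} {pX : X' ⟶ X₀} {f' : X' ⟶ Y'}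

/-- limit side: an epimorphic counit gives global generation over the preimage of an affine open of `Y₀` -/
theorem isGG_of_epi_counit (hY : IsPullback pY gY g₀ σ) (hX : IsPullback pX f' f₀ pY) [IsAffineHom pY]
    [QuasiCompact f'] [QuasiSeparated f'] (L₀ : X₀.Modules) (hL₀ : PicF.IsInvertible L₀)
    (hgen : Epi ((Scheme.Modules.pullbackPushforwardAdjunction f').counit.app
      ((Scheme.Modules.pullback pX).obj L₀)))
    (V : Y₀.Opens) (hV : IsAffineOpen V) :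
    Curv2.IsGloballyGenerated
      ((Scheme.Modules.pullback (pullback.fst ((f₀ ⁻¹ᵁ V).ι ≫ f₀ ≫ g₀) σ ≫ (f₀ ⁻¹ᵁ V).ι)).obj L₀) := by
  haveI : ((Scheme.Modules.pullback pX).obj L₀).IsQuasicoherent :=
    Groth.Agent.Lib.Helper23.SecTw.isQuasicoherent_of_isInvertible _ (isInvertible_pullback pX L₀ hL₀)
  have h1 := Groth.Agent.Lib.T2H5.CounitGG.isGloballyGenerated_restrict_of_epi_counit f' _ hgen
    (pY ⁻¹ᵁ V) (hV.preimage pY)
  have hop : f' ⁻¹ᵁ (pY ⁻¹ᵁ V) = pX ⁻¹ᵁ (f₀ ⁻¹ᵁ V) := by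
    rw [← Scheme.Hom.comp_preimage, ← hX.w, Scheme.Hom.comp_preimage]
  rw [hop] at h1
  exact (isGG_restrict_iff hY hX (f₀ ⁻¹ᵁ V) L₀).1 h1

/-- stage side: global generation over the preimages of the members of an open cover of `Y₀` gives an epimorphic
counit -/
theorem epi_counit_of_isGG (hY : IsPullback pY gY g₀ σ) (hX : IsPullback pX f' f₀ pY)
    (L₀ : X₀.Modules) {ι : Type*} (V : ι → Y₀.Opens) (hV : ⨆ i, V i = ⊤)
    (h : ∀ i, Curv2.IsGloballyGenerated ((Scheme.Modules.pullback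
      (pullback.fst ((f₀ ⁻¹ᵁ V i).ι ≫ f₀ ≫ g₀) σ ≫ (f₀ ⁻¹ᵁ V i).ι)).obj L₀)) :
    Epi ((Scheme.Modules.pullbackPushforwardAdjunction f').counit.app
      ((Scheme.Modules.pullback pX).obj L₀)) := by
  refine Groth.Agent.Lib.Helper23.CounitEpi.epi_counit_of_isGloballyGenerated f' _ (fun x => ?_)
  have hmem : pY (f' x) ∈ (⨆ i, V i : Y₀.Opens) := by
    rw [hV]; trivial
  obtain ⟨i, hi⟩ := Opens.mem_iSup.1 hmem
  refine ⟨pY ⁻¹ᵁ V i, hi, ?_⟩
  have hop : f' ⁻¹ᵁ (pY ⁻¹ᵁ V i) = pX ⁻¹ᵁ (f₀ ⁻¹ᵁ V i) := by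
    rw [← Scheme.Hom.comp_preimage, ← hX.w, Scheme.Hom.comp_preimage]
  rw [hop]
  exact (isGG_restrict_iff hY hX (f₀ ⁻¹ᵁ V i) L₀).2 (h i)

end cover

section main

variable {I : Type u} [SmallCategory I] [IsCofiltered I] (D : I ⥤ Scheme.{u}) (c : Cone D)
  (hc : IsLimit c) [∀ (i j : I) (f : i ⟶ j), IsAffineHom (D.map f)] (i₀ : I)

include hc in
/-- a common stage where all members of a finite affine cover are globally generated -/
theorem exists_common_stageGG [CompactSpace (D.obj i₀)]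
    {X₀ Y₀ : Scheme.{u}} (f₀ : X₀ ⟶ Y₀) (g₀ : Y₀ ⟶ D.obj i₀)
    [QuasiCompact g₀] [QuasiSeparated g₀] [QuasiCompact (f₀ ≫ g₀)] [QuasiSeparated (f₀ ≫ g₀)]
    (L₀ : X₀.Modules) (hL₀ : PicF.IsInvertible L₀)
    {X Y : Scheme.{u}} (f : X ⟶ Y) (g : Y ⟶ c.pt) (qY : Y ⟶ Y₀) (qX : X ⟶ X₀)
    (hY : IsPullback qY g g₀ (c.π.app i₀)) (hX : IsPullback qX f f₀ qY)
    (hgen : Epi ((Scheme.Modules.pullbackPushforwardAdjunction f).counit.app
      ((Scheme.Modules.pullback qX).obj L₀)))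
    (s : Finset Y₀.affineOpens) :
    ∃ l : Over i₀, ∀ V : s,
      StageGG D i₀ ((f₀ ⁻¹ᵁ V.1.1).ι ≫ f₀ ≫ g₀) (f₀ ⁻¹ᵁ V.1.1).ι L₀ l := by
  classical
  haveI : QuasiCompact f₀ := QuasiCompact.of_comp f₀ g₀
  haveI : QuasiSeparated f₀ := QuasiSeparated.of_comp f₀ g₀
  haveI : IsAffineHom (c.π.app i₀) := isAffineHom_π_app D c hc i₀
  haveI : IsAffineHom qY := MorphismProperty.of_isPullback (P := @IsAffineHom) hY.flip inferInstance
  haveI : QuasiCompact f := MorphismProperty.of_isPullback (P := @QuasiCompact) hX inferInstance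
  haveI : QuasiSeparated f := MorphismProperty.of_isPullback (P := @QuasiSeparated) hX inferInstance
  have hex : ∀ V : s, ∃ k : Over i₀,
      StageGG D i₀ ((f₀ ⁻¹ᵁ V.1.1).ι ≫ f₀ ≫ g₀) (f₀ ⁻¹ᵁ V.1.1).ι L₀ k := by
    intro V
    haveI : CompactSpace ((f₀ ⁻¹ᵁ V.1.1 : X₀.Opens) : Scheme.{u}) :=
      isCompact_iff_compactSpace.1
        (QuasiCompact.isCompact_preimage (f := f₀) _ V.1.1.2 V.1.2.isCompact)
    haveI : QuasiSeparatedSpace ((f₀ ⁻¹ᵁ V.1.1 : X₀.Opens) : Scheme.{u}) := by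
      haveI : IsAffine ((V.1.1 : Y₀.Opens) : Scheme.{u}) := V.1.2
      exact quasiSeparatedSpace_of_quasiSeparated (f₀ ∣_ V.1.1)
    exact exists_stageGG D c hc i₀ _ _ L₀ hL₀ (isGG_of_epi_counit hY hX L₀ hL₀ hgen V.1.1 V.1.2)
  choose k hk using hex
  obtain ⟨l, hl⟩ := IsCofiltered.inf_objs_exists ((Finset.univ : Finset s).image k)
  refine ⟨l, fun V => ?_⟩
  obtain ⟨ψ⟩ := hl (Finset.mem_image_of_mem k (Finset.mem_univ V))
  exact stageGG_mono D i₀ _ _ L₀ ψ (hk V)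

include hc in
/-- **S17426** -/
theorem exists_stage_counit_epi [CompactSpace (D.obj i₀)]
    {X₀ Y₀ : Scheme.{u}} (f₀ : X₀ ⟶ Y₀) (g₀ : Y₀ ⟶ D.obj i₀)
    [QuasiCompact g₀] [QuasiSeparated g₀] [QuasiCompact (f₀ ≫ g₀)] [QuasiSeparated (f₀ ≫ g₀)]
    (L₀ : X₀.Modules) (hL₀ : PicF.IsInvertible L₀)
    {X Y : Scheme.{u}} (f : X ⟶ Y) (g : Y ⟶ c.pt) (qY : Y ⟶ Y₀) (qX : X ⟶ X₀)
    (hY : IsPullback qY g g₀ (c.π.app i₀)) (hX : IsPullback qX f f₀ qY)
    (hgen : Epi ((Scheme.Modules.pullbackPushforwardAdjunction f).counit.app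
      ((Scheme.Modules.pullback qX).obj L₀))) :
    ∃ (j : I) (φ : j ⟶ i₀), ∀ (k : I) (ψ : k ⟶ j) (Xk Yk : Scheme.{u}) (fk : Xk ⟶ Yk)
      (gk : Yk ⟶ D.obj k) (pY : Yk ⟶ Y₀) (pX : Xk ⟶ X₀), IsPullback pY gk g₀ (D.map (ψ ≫ φ)) →
        IsPullback pX fk f₀ pY →
        Epi ((Scheme.Modules.pullbackPushforwardAdjunction fk).counit.app
          ((Scheme.Modules.pullback pX).obj L₀)) := by
  haveI : CompactSpace Y₀ := QuasiCompact.compactSpace_of_compactSpace g₀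
  obtain ⟨s, hs⟩ := Groth.Agent.Lib.Helper26.ModLim.exists_finite_affine_cover Y₀
  obtain ⟨l, hl⟩ := exists_common_stageGG D c hc i₀ f₀ g₀ L₀ hL₀ f g qY qX hY hX hgen s
  refine ⟨l.left, l.hom, fun k' ψ Xk Yk fk gk pY pX hYk hXk => ?_⟩
  refine epi_counit_of_isGG hYk hXk L₀ (fun V : s => (V.1 : Y₀.Opens)) hs.iSup_eq_top (fun V => ?_)
  exact stageGG_comp D i₀ ((f₀ ⁻¹ᵁ V.1.1).ι ≫ f₀ ≫ g₀) (f₀ ⁻¹ᵁ V.1.1).ι L₀ (hl V) ψ

end main

end Groth.Agent.Lib.T2H5.GGLimRel
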