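import Mathlib
import Groth.Prelude.Def_GrSyz
import Groth.Prelude.Def_CohB1

/-!
# T2H5GrSyzAlg: graded algebra for sheafifying graded free resolutions over a polynomial ring
(helper5)

The `ℤ`-indexed standard grading `GrSyz.stdGr` against the `ℕ`-indexed `CohB1.polyGrading`; the
`ℕ`-indexed families of a graded free module with prescribed generator degrees; homogeneous
components of preimages under homogeneous matrices and under the augmentation.
-/

set_option autoImplicit false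
set_option linter.style.haveILetI false
set_option linter.unusedSectionVars false
universe u

namespace Groth.Agent.Lib.T2H5.GrSyzAlg

open DirectSum

variable (k : Type u) [Field k] (r : ℕ)

local notation "SS" => MvPolynomial (Fin (r + 1)) k
local notation "𝒢" => CohB1.polyGrading r k
local notation "𝒵" => GrSyz.stdGr k (Fin (r + 1))

theorem weight_int (d : Fin (r + 1) →₀ ℕ) :
    Finsupp.weight (fun _ : Fin (r + 1) => (1 : ℤ)) d =
      ((Finsupp.weight (1 : Fin (r + 1) → ℕ) d : ℕ) : ℤ) := by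
  simp [Finsupp.weight_apply, Finsupp.sum]

theorem stdGr_natCast (n : ℕ) : 𝒵 (n : ℤ) = 𝒢 n := by
  ext p
  rw [GrSyz.mem_stdGr_iff]
  change _ ↔ p.IsHomogeneous n
  unfold MvPolynomial.IsHomogeneous MvPolynomial.IsWeightedHomogeneous
  constructor
  · intro h d hd
    have := h hd
    rw [weight_int] at this
    exact_mod_cast this
  · intro h d hd
    rw [weight_int, h hd]

theorem stdGr_neg (e : ℤ) (he : e < 0) : 𝒵 e = ⊥ := by
  rw [eq_bot_iff]
  intro p hp
  rw [GrSyz.mem_stdGr_iff] at hp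
  rw [Submodule.mem_bot]
  by_contra hne
  obtain ⟨d, hd⟩ := MvPolynomial.ne_zero_iff.mp hne
  have := hp hd
  rw [weight_int] at this
  omega

theorem mem_stdGr_of_mem {n : ℕ} {p : SS} (hp : p ∈ 𝒢 n) : p ∈ 𝒵 (n : ℤ) := by
  rw [stdGr_natCast]; exact hp

theorem mem_of_mem_stdGr {n : ℕ} {p : SS} (hp : p ∈ 𝒵 (n : ℤ)) : p ∈ 𝒢 n := by
  rw [stdGr_natCast] at hp; exact hp

theorem mul_mem_stdGr {a b : SS} {i j e : ℤ} (ha : a ∈ 𝒵 i) (hb : b ∈ 𝒵 j) (h : i + j = e) :
    a * b ∈ 𝒵 e := by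
  subst h
  exact SetLike.mul_mem_graded ha hb

/-- the `ℕ`-indexed pieces of the graded free module with generator degrees `c` -/
def shiftFam {m : ℕ} (c : Fin m → ℤ) (n : ℕ) : Submodule k (Fin m → SS) where
  carrier := {v | ∀ b, v b ∈ 𝒵 ((n : ℤ) - c b)}
  zero_mem' := fun _ => zero_mem _
  add_mem' := fun hv hw b => add_mem (hv b) (hw b)
  smul_mem' := fun a _ hv b => Submodule.smul_mem _ a (hv b)

theorem mem_shiftFam {m : ℕ} (c : Fin m → ℤ) (n : ℕ) (v : Fin m → SS) :
    v ∈ shiftFam k r c n ↔ ∀ b, v b ∈ 𝒵 ((n : ℤ) - c b) := Iff.rfl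

instance gradedSMul_shiftFam {m : ℕ} (c : Fin m → ℤ) :
    SetLike.GradedSMul 𝒢 (shiftFam k r c) where
  smul_mem := by
    intro i j a v ha hv b
    change a • v b ∈ _
    rw [smul_eq_mul]
    refine mul_mem_stdGr k r (mem_stdGr_of_mem k r ha) (hv b) ?_
    rw [vadd_eq_add]
    push_cast
    ring

/-- the `ℕ`-indexed pieces of the polynomial ring with its generator placed in degree `a` -/
def lineFam (a : ℤ) (n : ℕ) : Submodule k SS := 𝒵 ((n : ℤ) - a)

instance gradedSMul_lineFam (a : ℤ) : SetLike.GradedSMul 𝒢 (lineFam k r a) where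
  smul_mem := by
    intro i j p q hp hq
    change p • q ∈ 𝒵 _
    rw [smul_eq_mul]
    refine mul_mem_stdGr k r (mem_stdGr_of_mem k r hp) hq ?_
    rw [vadd_eq_add]
    push_cast
    ring

/-- a homogeneous matrix preserves the pieces -/
theorem mulVecLin_mem {m₁ m₂ : ℕ} (c₁ : Fin m₁ → ℤ) (c₂ : Fin m₂ → ℤ)
    (D : Matrix (Fin m₂) (Fin m₁) SS) (hD : ∀ a b, D a b ∈ 𝒵 (c₁ b - c₂ a)) (n : ℕ)
    (v : Fin m₁ → SS) (hv : v ∈ shiftFam k r c₁ n) : Matrix.mulVecLin D v ∈ shiftFam k r c₂ n := by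
  intro a
  rw [Matrix.mulVecLin_apply]
  change ∑ b, D a b * v b ∈ _
  refine Submodule.sum_mem _ (fun b _ => ?_)
  exact mul_mem_stdGr k r (hD a b) (hv b) (by ring)

theorem proj_mem {m : ℕ} (c : Fin m → ℤ) (b : Fin m) (n : ℕ) (v : Fin m → SS)
    (hv : v ∈ shiftFam k r c n) :
    (LinearMap.proj b : (Fin m → SS) →ₗ[SS] SS) v ∈ lineFam k r (c b) n := hv b

theorem single_mem {m : ℕ} (c : Fin m → ℤ) (b : Fin m) (n : ℕ) (p : SS)
    (hp : p ∈ lineFam k r (c b) n) :
    (LinearMap.single SS (fun _ : Fin m => SS) b) p ∈ shiftFam k r c n := by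
  intro b'
  rw [LinearMap.coe_single]
  by_cases h : b' = b
  · subst h
    rw [Pi.single_eq_same]
    exact hp
  · rw [Pi.single_eq_of_ne h]
    exact zero_mem _

theorem decompose_nat_eq (a : SS) (e : ℕ) :
    (DirectSum.decompose 𝒢 a e : SS) = (DirectSum.decompose 𝒵 a (e : ℤ) : SS) := by
  classical
  induction a using DirectSum.Decomposition.inductionOn 𝒢 with
  | zero => simp
  | @homogeneous j a =>
    have ha : (a : SS) ∈ 𝒵 (j : ℤ) := mem_stdGr_of_mem k r a.2
    by_cases hj : j = e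
    · subst hj
      rw [DirectSum.decompose_of_mem_same 𝒢 a.2, DirectSum.decompose_of_mem_same 𝒵 ha]
    · have hne : (j : ℤ) ≠ (e : ℤ) := fun h => hj (by exact_mod_cast h)
      rw [DirectSum.decompose_of_mem_ne 𝒢 a.2 hj, DirectSum.decompose_of_mem_ne 𝒵 ha hne]
  | add a b ha hb =>
    rw [DirectSum.decompose_add, DirectSum.decompose_add, DirectSum.add_apply,
      DirectSum.add_apply, AddMemClass.coe_add, AddMemClass.coe_add, ha, hb]

/-- a preimage under a homogeneous matrix of a homogeneous vector may be taken homogeneous -/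
theorem exists_hom_preimage_mulVec {m₁ m₂ : ℕ} (c₁ : Fin m₁ → ℤ) (c₂ : Fin m₂ → ℤ)
    (D : Matrix (Fin m₂) (Fin m₁) SS) (hD : ∀ a b, D a b ∈ 𝒵 (c₁ b - c₂ a)) (n : ℕ)
    (v : Fin m₁ → SS) (hv : Matrix.mulVecLin D v ∈ shiftFam k r c₂ n) :
    ∃ v' ∈ shiftFam k r c₁ n, Matrix.mulVecLin D v' = Matrix.mulVecLin D v := by
  classical
  refine ⟨fun b => (DirectSum.decompose 𝒵 (v b) ((n : ℤ) - c₁ b) : SS),
    fun b => SetLike.coe_mem _, ?_⟩
  funext a
  rw [Matrix.mulVecLin_apply, Matrix.mulVecLin_apply]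
  change ∑ b, D a b * (DirectSum.decompose 𝒵 (v b) ((n : ℤ) - c₁ b) : SS) = ∑ b, D a b * v b
  have h1 : ∀ b, D a b * (DirectSum.decompose 𝒵 (v b) ((n : ℤ) - c₁ b) : SS) =
      (DirectSum.decompose 𝒵 (D a b * v b) ((n : ℤ) - c₂ a) : SS) := by
    intro b
    have := DirectSum.coe_decompose_mul_add_of_left_mem 𝒵 (i := c₁ b - c₂ a)
      (j := (n : ℤ) - c₁ b) (b := v b) (hD a b)
    rw [← this]
    have e : c₁ b - c₂ a + ((n : ℤ) - c₁ b) = (n : ℤ) - c₂ a := by omega
    rw [e]
  rw [Finset.sum_congr rfl (fun b _ => h1 b)]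
  have h2 : ∑ b, (DirectSum.decompose 𝒵 (D a b * v b) ((n : ℤ) - c₂ a) : SS) =
      (DirectSum.decompose 𝒵 (∑ b, D a b * v b) ((n : ℤ) - c₂ a) : SS) := by
    rw [DirectSum.decompose_sum, DFinsupp.finsetSum_apply, AddSubmonoidClass.coe_finsetSum]
  rw [h2]
  have h3 : ∑ b, D a b * v b ∈ 𝒵 ((n : ℤ) - c₂ a) := by
    have := hv a
    rw [Matrix.mulVecLin_apply] at this
    exact this
  exact DirectSum.decompose_of_mem_same 𝒵 h3

/-- nonzero scalars act injectively on the free modules -/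
theorem eq_zero_of_smul_eq_zero {m : ℕ} (c : SS) (hc : c ≠ 0) (w : Fin m → SS) (h : c • w = 0) :
    w = 0 := by
  funext b
  have h1 : c * w b = 0 := congrFun h b
  rcases mul_eq_zero.mp h1 with h2 | h2
  · exact absurd h2 hc
  · exact h2

section Module

variable {M : Type u} [AddCommGroup M] [Module k M] [Module (MvPolynomial (Fin (r + 1)) k) M]
  [IsScalarTower k (MvPolynomial (Fin (r + 1)) k) M]
  (ℳ : ℤ → Submodule k M) [DirectSum.Decomposition ℳ]
  [SetLike.GradedSMul (GrSyz.stdGr k (Fin (r + 1))) ℳ]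

theorem smul_mem_int {a : SS} {μ : M} {i j e : ℤ} (ha : a ∈ 𝒵 i) (hμ : μ ∈ ℳ j) (h : i + j = e) :
    a • μ ∈ ℳ e := by
  subst h
  exact SetLike.GradedSMul.smul_mem ha hμ

theorem decompose_smul_int {i : ℤ} {μ : M} (hμ : μ ∈ ℳ i) (a : SS) (j : ℤ) :
    (DirectSum.decompose ℳ (a • μ) (j + i) : M) = (DirectSum.decompose 𝒵 a j : SS) • μ := by
  classical
  induction a using DirectSum.Decomposition.inductionOn 𝒵 with
  | zero => simp
  | @homogeneous e a =>
    have ha : (a : SS) • μ ∈ ℳ (e + i) := smul_mem_int k r ℳ a.2 hμ rfl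
    by_cases hje : e = j
    · subst hje
      rw [DirectSum.decompose_of_mem_same ℳ ha, DirectSum.decompose_of_mem_same 𝒵 a.2]
    · have hne : e + i ≠ j + i := fun h => hje (add_right_cancel h)
      rw [DirectSum.decompose_of_mem_ne ℳ ha hne, DirectSum.decompose_of_mem_ne 𝒵 a.2 hje,
        zero_smul]
  | add a b ha hb =>
    rw [add_smul, DirectSum.decompose_add, DirectSum.decompose_add, DirectSum.add_apply,
      DirectSum.add_apply, AddMemClass.coe_add, AddMemClass.coe_add, ha, hb, add_smul]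

/-- the augmentation of homogeneous generators preserves the pieces -/
theorem linComb_mem {m : ℕ} (c : Fin m → ℤ) (g : Fin m → M) (hg : ∀ b, g b ∈ ℳ (c b)) (n : ℕ)
    (v : Fin m → SS) (hv : v ∈ shiftFam k r c n) :
    Fintype.linearCombination SS g v ∈ ℳ (n : ℤ) := by
  rw [Fintype.linearCombination_apply]
  refine Submodule.sum_mem _ (fun b _ => ?_)
  exact smul_mem_int k r ℳ (hv b) (hg b) (by ring)

/-- a preimage under the augmentation of a homogeneous element may be taken homogeneous -/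
theorem exists_hom_preimage_linComb {m : ℕ} (c : Fin m → ℤ) (g : Fin m → M)
    (hg : ∀ b, g b ∈ ℳ (c b)) (n : ℕ) (v : Fin m → SS)
    (hv : Fintype.linearCombination SS g v ∈ ℳ (n : ℤ)) :
    ∃ v' ∈ shiftFam k r c n,
      Fintype.linearCombination SS g v' = Fintype.linearCombination SS g v := by
  classical
  refine ⟨fun b => (DirectSum.decompose 𝒵 (v b) ((n : ℤ) - c b) : SS),
    fun b => SetLike.coe_mem _, ?_⟩
  rw [Fintype.linearCombination_apply, Fintype.linearCombination_apply]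
  have h1 : ∀ b, (DirectSum.decompose 𝒵 (v b) ((n : ℤ) - c b) : SS) • g b =
      (DirectSum.decompose ℳ (v b • g b) (n : ℤ) : M) := by
    intro b
    rw [← decompose_smul_int k r ℳ (hg b) (v b) ((n : ℤ) - c b)]
    have e : (n : ℤ) - c b + c b = (n : ℤ) := by omega
    rw [e]
  rw [Finset.sum_congr rfl (fun b _ => h1 b)]
  have h2 : ∑ b, (DirectSum.decompose ℳ (v b • g b) (n : ℤ) : M) =
      (DirectSum.decompose ℳ (∑ b, v b • g b) (n : ℤ) : M) := by
    rw [DirectSum.decompose_sum, DFinsupp.finsetSum_apply, AddSubmonoidClass.coe_finsetSum]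
  rw [h2]
  rw [Fintype.linearCombination_apply] at hv
  exact DirectSum.decompose_of_mem_same ℳ hv

/-- homogeneous annihilators outside a homogeneous prime -/
theorem exists_homogeneous_smul_eq_zero (y : ProjectiveSpectrum 𝒢) {i : ℕ} {μ : M}
    (hμ : μ ∈ ℳ (i : ℤ)) (c : SS) (hc : c ∉ y.asHomogeneousIdeal) (h : c • μ = 0) :
    ∃ (e : ℕ) (c' : SS), c' ∈ 𝒢 e ∧ c' ∉ y.asHomogeneousIdeal ∧ c' • μ = 0 := by
  classical
  by_contra hcon
  push Not at hcon
  apply hc
  rw [← DirectSum.sum_support_decompose 𝒢 c]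
  refine Ideal.sum_mem _ (fun e _ => ?_)
  by_contra hne
  refine hcon e _ (DirectSum.decompose 𝒢 c e).2 hne ?_
  rw [decompose_nat_eq, ← decompose_smul_int k r ℳ hμ c (e : ℤ), h, DirectSum.decompose_zero]
  rfl

end Module

end Groth.Agent.Lib.T2H5.GrSyzAlg
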