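import Mathlib
import Groth.Agent.Lib.T2H5GrSyzAlg

/-!
# T2H5GrSyzExt: a module graded by `ℕ` over the polynomial ring, regraded by `ℤ` (helper5)
-/

set_option autoImplicit false
set_option linter.style.haveILetI false
set_option linter.unusedSectionVars false
universe u

namespace Groth.Agent.Lib.T2H5.GrSyzExt

open DirectSum Groth.Agent.Lib.T2H5.GrSyzAlg

variable (k : Type u) [Field k] (r : ℕ)

local notation "SS" => MvPolynomial (Fin (r + 1)) k
local notation "𝒢" => CohB1.polyGrading r k
local notation "𝒵" => GrSyz.stdGr k (Fin (r + 1))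

variable {N : Type u} [AddCommGroup N] [Module k N] [Module (MvPolynomial (Fin (r + 1)) k) N]
  [IsScalarTower k (MvPolynomial (Fin (r + 1)) k) N]
  (𝒩 : ℕ → Submodule k N)

/-- the pieces indexed by `ℤ`: zero in negative degrees -/
def ext (e : ℤ) : Submodule k N := if 0 ≤ e then 𝒩 e.toNat else ⊥

theorem ext_natCast (n : ℕ) : ext k 𝒩 (n : ℤ) = 𝒩 n := by
  unfold ext
  rw [if_pos (by omega), Int.toNat_natCast]

theorem ext_neg (e : ℤ) (he : e < 0) : ext k 𝒩 e = ⊥ := by
  unfold ext
  rw [if_neg (by omega)]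

theorem ext_eq_of_nonneg (e : ℤ) (he : 0 ≤ e) : ext k 𝒩 e = 𝒩 e.toNat := by
  unfold ext
  rw [if_pos he]

theorem isInternal_ext [DirectSum.Decomposition 𝒩] : DirectSum.IsInternal (ext k 𝒩) := by
  have h𝒩 := DirectSum.Decomposition.isInternal 𝒩
  rw [DirectSum.isInternal_submodule_iff_iSupIndep_and_iSup_eq_top]
  constructor
  · intro e
    by_cases he : 0 ≤ e
    · have hind := h𝒩.submodule_iSupIndep e.toNat
      rw [ext_eq_of_nonneg k 𝒩 e he]
      refine hind.mono_right ?_
      refine iSup₂_le (fun e' he' => ?_)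
      by_cases h0 : 0 ≤ e'
      · rw [ext_eq_of_nonneg k 𝒩 e' h0]
        have hne : e'.toNat ≠ e.toNat := by
          intro h
          apply he'
          have h1 : ((e'.toNat : ℕ) : ℤ) = e' := Int.toNat_of_nonneg h0
          have h2 : ((e.toNat : ℕ) : ℤ) = e := Int.toNat_of_nonneg he
          omega
        exact le_iSup₂_of_le e'.toNat hne le_rfl
      · rw [ext_neg k 𝒩 e' (by omega)]
        exact bot_le
    · rw [ext_neg k 𝒩 e (by omega)]
      exact disjoint_bot_left
  · rw [eq_top_iff, ← h𝒩.submodule_iSup_eq_top]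
    refine iSup_le (fun n => ?_)
    rw [← ext_natCast k 𝒩 n]
    exact le_iSup (ext k 𝒩) (n : ℤ)

/-- the decomposition of the regraded module -/
@[reducible] noncomputable def decomposition_ext [DirectSum.Decomposition 𝒩] :
    DirectSum.Decomposition (ext k 𝒩) :=
  (isInternal_ext k 𝒩).chooseDecomposition

theorem gradedSMul_ext [SetLike.GradedSMul (CohB1.polyGrading r k) 𝒩] :
    SetLike.GradedSMul (GrSyz.stdGr k (Fin (r + 1))) (ext k 𝒩) where
  smul_mem := by
    intro i j a m ha hm
    rw [vadd_eq_add]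
    by_cases hi : 0 ≤ i
    · by_cases hj : 0 ≤ j
      · have h1 : ((i.toNat : ℕ) : ℤ) = i := Int.toNat_of_nonneg hi
        have h2 : ((j.toNat : ℕ) : ℤ) = j := Int.toNat_of_nonneg hj
        have ha' : a ∈ 𝒢 i.toNat := by
          apply mem_of_mem_stdGr k r
          rw [h1]; exact ha
        have hm' : m ∈ 𝒩 j.toNat := by
          rw [ext_eq_of_nonneg k 𝒩 j hj] at hm; exact hm
        have h3 : a • m ∈ 𝒩 (i.toNat + j.toNat) := SetLike.GradedSMul.smul_mem ha' hm'
        have h4 : i + j = ((i.toNat + j.toNat : ℕ) : ℤ) := by push_cast; omega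
        rw [h4, ext_natCast]
        exact h3
      · rw [ext_neg k 𝒩 j (by omega)] at hm
        rw [(Submodule.mem_bot k).mp hm, smul_zero]
        exact zero_mem _
    · have ha0 : a = 0 := by
        have h := ha
        rw [stdGr_neg k r i (by omega)] at h
        exact (Submodule.mem_bot k).mp h
      rw [ha0, zero_smul]
      exact zero_mem _

theorem gradedSMul_ext_nat [SetLike.GradedSMul (CohB1.polyGrading r k) 𝒩] :
    SetLike.GradedSMul (CohB1.polyGrading r k) (fun n : ℕ => ext k 𝒩 (n : ℤ)) where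
  smul_mem := by
    intro i j a m ha hm
    change a • m ∈ ext k 𝒩 ((i +ᵥ j : ℕ) : ℤ)
    have hm' : m ∈ 𝒩 j := by
      have h : m ∈ ext k 𝒩 (j : ℤ) := hm
      rw [ext_natCast] at h; exact h
    rw [ext_natCast]
    exact SetLike.GradedSMul.smul_mem ha hm'

end Groth.Agent.Lib.T2H5.GrSyzExt
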