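import Mathlib
import Groth.Agent.Lib.T2H5RegRes2
import Groth.Agent.S0022

/-!
# T2H5GrSyzRes: regularity of the module resolved by a complex with regular terms (helper5)

Let `⋯ → E₂ → E₁ → E₀ → G → 0` be an exact sequence of quasi-coherent modules on `P^n_R` with
`H^{i+j}(E_j(d - i)) = 0` for all `i ≥ 1`, `j ≥ 0`.  Then `H^i(G(d - i)) = 0` for all `i ≥ 1`.
-/

set_option autoImplicit false
set_option linter.style.haveILetI false
set_option linter.unusedSectionVars false
universe u

open CategoryTheory CategoryTheory.Limits AlgebraicGeometry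

namespace Groth.Agent.Lib.T2H5.GrSyzRes

open Groth.Agent.Lib.T2H5.Twist Groth.Agent.Lib.T2H5.HHSub Groth.Agent.Lib.Helper23.QCohLocal

variable (n : ℕ) (R : Type u) [CommRing R]
variable (E : ℕ → (CohB1.ProjSpace n R).Modules) (δ : ∀ j, E (j + 1) ⟶ E j)

theorem subsingleton_HH_aux (hE : ∀ j, (E j).IsQuasicoherent)
    (hzero : ∀ j, δ (j + 1) ≫ δ j = 0)
    (hex : ∀ j, (ShortComplex.mk (δ (j + 1)) (δ j) (hzero j)).Exact) (d : ℤ)
    (hvan : ∀ j i : ℕ, 1 ≤ i →
      Subsingleton (Coh.HH (CohB1.ProjSpace n R) ((tw n R (d - i)).obj (E j)) (i + j))) :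
    ∀ (K N : ℕ), n + 1 ≤ N + K → ∀ (j i : ℕ), 1 ≤ i → i + j = N →
      ∀ (G : (CohB1.ProjSpace n R).Modules) (_ : G.IsQuasicoherent) (ε : E j ⟶ G) (_ : Epi ε)
        (w : δ j ≫ ε = 0), (ShortComplex.mk (δ j) ε w).Exact →
        Subsingleton (Coh.HH (CohB1.ProjSpace n R) ((tw n R (d - i)).obj G) N) := by
  have base : ∀ (N : ℕ), n + 1 ≤ N → ∀ (i : ℕ) (G : (CohB1.ProjSpace n R).Modules)
      (_ : G.IsQuasicoherent),
      Subsingleton (Coh.HH (CohB1.ProjSpace n R) ((tw n R (d - i)).obj G) N) := by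
    intro N hN i G hG
    have : (Twist.twistProjSpace n R (d - i)).IsQuasicoherent :=
      (Groth.Agent.Lib.T2H5.PnFinite.isCoh_twist n R (d - i)).1
    have : Coh.IsQCoh (CohB1.tensorMod G (Twist.twistProjSpace n R (d - i))) :=
      Groth.Agent.Lib.Helper23.TensorQCoh.isQuasicoherent_tensorMod _ _
    exact Groth.Agent.S0022.result n R
      (CohB1.tensorMod G (Twist.twistProjSpace n R (d - i))) N (by omega)
  intro K
  induction K with
  | zero =>
    intro N hN j i hi hij G hG ε hε w hexact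
    exact base N (by omega) i G hG
  | succ K ih =>
    intro N hN j i hi hij G hG ε hε w hexact
    by_cases hN' : n + 1 ≤ N
    · exact base N hN' i G hG
    · subst hij
      have hS : (ShortComplex.mk (kernel.ι ε) ε (kernel.condition ε)).ShortExact :=
        { exact := ShortComplex.exact_kernel ε }
      have hS' := shortExact_map_tw n R (d - i) _ hS
      refine subsingleton_X₃ _ hS' (i + j) (hvan j i hi) ?_
      haveI := hE j
      haveI := hG
      have hK : (kernel ε).IsQuasicoherent := isQuasicoherent_kernel ε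
      have hepi : Epi (kernel.lift ε (δ j) w) :=
        (ShortComplex.exact_iff_epi_kernel_lift (ShortComplex.mk (δ j) ε w)).mp hexact
      have w' : δ (j + 1) ≫ kernel.lift ε (δ j) w = 0 := by
        rw [← cancel_mono (kernel.ι ε), Category.assoc, kernel.lift_ι, zero_comp]
        exact hzero j
      have hexact' : (ShortComplex.mk (δ (j + 1)) (kernel.lift ε (δ j) w) w').Exact := by
        let φ : ShortComplex.mk (δ (j + 1)) (kernel.lift ε (δ j) w) w' ⟶
            ShortComplex.mk (δ (j + 1)) (δ j) (hzero j) :=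
          { τ₁ := 𝟙 _
            τ₂ := 𝟙 _
            τ₃ := kernel.ι ε
            comm₁₂ := by simp
            comm₂₃ := by simp }
        haveI : Epi φ.τ₁ := by change Epi (𝟙 _); infer_instance
        haveI : IsIso φ.τ₂ := by change IsIso (𝟙 _); infer_instance
        haveI : Mono φ.τ₃ := by change Mono (kernel.ι ε); infer_instance
        exact (ShortComplex.exact_iff_of_epi_of_isIso_of_mono φ).mpr (hex j)
      exact ih (i + j + 1) (by omega) (j + 1) i hi (by omega) (kernel ε) hK
        (kernel.lift ε (δ j) w) hepi w' hexact'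

/-- the module resolved by a complex with (shifted-)regular terms is regular -/
theorem subsingleton_HH_of_resolution (hE : ∀ j, (E j).IsQuasicoherent)
    (hzero : ∀ j, δ (j + 1) ≫ δ j = 0)
    (hex : ∀ j, (ShortComplex.mk (δ (j + 1)) (δ j) (hzero j)).Exact) (d : ℤ)
    (hvan : ∀ j i : ℕ, 1 ≤ i →
      Subsingleton (Coh.HH (CohB1.ProjSpace n R) ((tw n R (d - i)).obj (E j)) (i + j)))
    (G : (CohB1.ProjSpace n R).Modules) (hG : G.IsQuasicoherent) (ε : E 0 ⟶ G) (hε : Epi ε)
    (w : δ 0 ≫ ε = 0) (hexact : (ShortComplex.mk (δ 0) ε w).Exact) (i : ℕ) (hi : 1 ≤ i) :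
    Subsingleton (Coh.HH (CohB1.ProjSpace n R)
      (CohB1.tensorMod G (Twist.twistProjSpace n R (d - i))) i) :=
  subsingleton_HH_aux n R E δ hE hzero hex d hvan (n + 1) i (by omega) 0 i hi (by omega) G hG ε hε
    w hexact

/-- an object with a total family of retractions onto objects `L b` is their coproduct -/
noncomputable def isoSigmaOfTotal {C : Type*} [Category C] [Preadditive C] {J : Type} [Fintype J]
    [DecidableEq J] (X : C) (L : J → C) [HasCoproduct L] (p : ∀ b, X ⟶ L b) (ι : ∀ b, L b ⟶ X)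
    (hsame : ∀ b, ι b ≫ p b = 𝟙 (L b)) (hne : ∀ b b', b ≠ b' → ι b ≫ p b' = 0)
    (hsum : ∑ b, p b ≫ ι b = 𝟙 X) : X ≅ ∐ L where
  hom := ∑ b, p b ≫ Sigma.ι L b
  inv := Sigma.desc ι
  hom_inv_id := by
    rw [Preadditive.sum_comp]
    simp only [Category.assoc, Sigma.ι_desc]
    exact hsum
  inv_hom_id := by
    apply Sigma.hom_ext
    intro b
    rw [Category.comp_id, ← Category.assoc, Sigma.ι_desc, Preadditive.comp_sum]
    rw [Finset.sum_eq_single b]
    · rw [← Category.assoc, hsame, Category.id_comp]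
    · intro b' _ hb'
      rw [← Category.assoc, hne b b' (Ne.symm hb'), zero_comp]
    · intro hb
      exact absurd (Finset.mem_univ b) hb

end Groth.Agent.Lib.T2H5.GrSyzRes
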