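import Mathlib
import Groth.Agent.Lib.T2H5GrSyzAlg
import Groth.Agent.Lib.T2H5GrSyzLoc
import Groth.Agent.Lib.T2H5GrSyzSame
import Groth.Agent.Lib.T2H5GrSyzRes

/-!
# T2H5GrSyzMain: the sheaf on `P^r_k` of a graded module with a graded free resolution generated
in degrees `≤ d + i` is `d`-regular (helper5)
-/

set_option autoImplicit false
set_option linter.style.haveILetI false
set_option linter.unusedSectionVars false
universe u

open CategoryTheory CategoryTheory.Limits AlgebraicGeometry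

namespace Groth.Agent.Lib.T2H5.GrSyzMain

open Groth.Agent.Lib.T2H5.GrSyzAlg Groth.Agent.Lib.T2H5.GrSyzLoc Groth.Agent.Lib.T2H5.GrSyzSame
  Groth.Agent.Lib.T2H5.GrSyzRes Groth.Agent.Lib.T2H5.Twist

variable (k : Type u) [Field k] (r : ℕ)

local notation "SS" => MvPolynomial (Fin (r + 1)) k
local notation "𝒢" => CohB1.polyGrading r k
local notation "𝒵" => GrSyz.stdGr k (Fin (r + 1))

section Free

/-- the module of the polynomial ring with its generator in degree `a` -/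
noncomputable abbrev LL (a : ℤ) : (CohB1.ProjSpace r k).Modules :=
  GrMod.tilde 𝒢 (lineFam k r a) 0

theorem fracLE_line (a : ℤ) : FracLE (lineFam k r a) 𝒢 0 (-a) := by
  intro i j m hm hij
  by_cases h : 0 ≤ (i : ℤ) - a
  · have e : ((((i : ℤ) - a).toNat : ℕ) : ℤ) = (i : ℤ) - a := Int.toNat_of_nonneg h
    refine ⟨((i : ℤ) - a).toNat, ?_, Or.inl (by omega)⟩
    apply mem_of_mem_stdGr k r
    rw [e]
    exact hm
  · have h0 : m = 0 := by
      have : m ∈ 𝒵 ((i : ℤ) - a) := hm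
      rw [stdGr_neg k r _ (by omega)] at this
      exact (Submodule.mem_bot _).mp this
    exact ⟨0, h0 ▸ zero_mem _, Or.inr h0⟩

theorem fracLE_line' (a : ℤ) : FracLE 𝒢 (lineFam k r a) (-a) 0 := by
  intro i j m hm hij
  refine ⟨j, ?_, Or.inl (by simp)⟩
  change m ∈ 𝒵 ((j : ℤ) - a)
  have e : (j : ℤ) - a = (i : ℤ) := by omega
  rw [e]
  exact mem_stdGr_of_mem k r hm

/-- `S(-a)~ ≅ O(-a)` -/
noncomputable def lineIso (a : ℤ) : LL k r a ≅ Twist.twistProjSpace r k (-a) :=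
  sameIso 𝒢 (fracLE_line k r a) (fracLE_line' k r a)

variable {m : ℕ} (c : Fin m → ℤ)

/-- the module of the graded free module with generator degrees `c` -/
noncomputable abbrev EE : (CohB1.ProjSpace r k).Modules :=
  GrMod.tilde 𝒢 (shiftFam k r c) 0

/-- the projection to a summand -/
noncomputable def pr (b : Fin m) : EE k r c ⟶ LL k r (c b) :=
  GrMod.map 𝒢 (LinearMap.proj b : (Fin m → SS) →ₗ[SS] SS) (fun i v hv => proj_mem k r c b i v hv) 0

/-- the inclusion of a summand -/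
noncomputable def inc (b : Fin m) : LL k r (c b) ⟶ EE k r c :=
  GrMod.map 𝒢 (LinearMap.single SS (fun _ : Fin m => SS) b)
    (fun i p hp => single_mem k r c b i p hp) 0

theorem inc_pr_same (b : Fin m) : inc k r c b ≫ pr k r c b = 𝟙 _ :=
  (map_comp' 𝒢 (lineFam k r (c b)) (shiftFam k r c) (lineFam k r (c b))
    (LinearMap.single SS (fun _ : Fin m => SS) b) (fun i p hp => single_mem k r c b i p hp)
    (LinearMap.proj b : (Fin m → SS) →ₗ[SS] SS) (fun i v hv => proj_mem k r c b i v hv) 0).symm.trans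
  ((map_eq_of_eq 𝒢 _ _ _ LinearMap.id _ (fun _ _ h => h)
    (LinearMap.proj_comp_single_same SS (fun _ : Fin m => SS) b) 0).trans (map_id' 𝒢 _ 0))

theorem inc_pr_ne (b b' : Fin m) (h : b ≠ b') : inc k r c b ≫ pr k r c b' = 0 :=
  (map_comp' 𝒢 (lineFam k r (c b)) (shiftFam k r c) (lineFam k r (c b'))
    (LinearMap.single SS (fun _ : Fin m => SS) b) (fun i p hp => single_mem k r c b i p hp)
    (LinearMap.proj b' : (Fin m → SS) →ₗ[SS] SS) (fun i v hv => proj_mem k r c b' i v hv) 0).symm.trans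
  ((map_eq_of_eq 𝒢 _ _ _ 0 _ (fun i p _ => by simp)
    (LinearMap.proj_comp_single_ne SS (fun _ : Fin m => SS) b' b (Ne.symm h)) 0).trans
    (map_zero' 𝒢 _ _ _ 0))

theorem sum_single_proj : ∑ b : Fin m, (LinearMap.single SS (fun _ : Fin m => SS) b) ∘ₗ
    (LinearMap.proj b : (Fin m → SS) →ₗ[SS] SS) = LinearMap.id := by
  classical
  apply LinearMap.ext
  intro v
  funext b'
  rw [LinearMap.sum_apply, Finset.sum_apply]
  simp only [LinearMap.comp_apply, LinearMap.coe_single, LinearMap.proj_apply,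
    LinearMap.id_apply]
  rw [Finset.sum_eq_single b']
  · rw [Pi.single_eq_same]
  · intro b _ hb
    rw [Pi.single_eq_of_ne (Ne.symm hb)]
  · intro hb
    exact absurd (Finset.mem_univ b') hb

theorem sum_pr_inc : ∑ b, pr k r c b ≫ inc k r c b = 𝟙 (EE k r c) := by
  classical
  have hmem : ∀ (b : Fin m) (i : ℕ) (v : Fin m → SS), v ∈ shiftFam k r c i →
      ((LinearMap.single SS (fun _ : Fin m => SS) b) ∘ₗ
        (LinearMap.proj b : (Fin m → SS) →ₗ[SS] SS)) v ∈ shiftFam k r c i :=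
    fun b i v hv => single_mem k r c b i _ (proj_mem k r c b i v hv)
  have h1 : ∀ b : Fin m, pr k r c b ≫ inc k r c b =
      GrMod.map 𝒢 ((LinearMap.single SS (fun _ : Fin m => SS) b) ∘ₗ
        (LinearMap.proj b : (Fin m → SS) →ₗ[SS] SS)) (hmem b) 0 := fun b =>
    (map_comp' 𝒢 (shiftFam k r c) (lineFam k r (c b)) (shiftFam k r c)
      (LinearMap.proj b : (Fin m → SS) →ₗ[SS] SS) (fun i v hv => proj_mem k r c b i v hv)
      (LinearMap.single SS (fun _ : Fin m => SS) b) (fun i p hp => single_mem k r c b i p hp)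
      0).symm
  have h2 := map_sum' 𝒢 (shiftFam k r c) (shiftFam k r c) Finset.univ
    (fun b => (LinearMap.single SS (fun _ : Fin m => SS) b) ∘ₗ
      (LinearMap.proj b : (Fin m → SS) →ₗ[SS] SS)) hmem 0
    (sum_mem_of _ _ _ _ hmem)
  have h3 := (map_eq_of_eq 𝒢 (shiftFam k r c) (shiftFam k r c) _ LinearMap.id
    (sum_mem_of _ _ _ _ hmem) (fun _ _ h => h) (sum_single_proj k r) 0).trans
    (map_id' 𝒢 (shiftFam k r c) 0)
  exact (Finset.sum_congr rfl (fun b _ => h1 b)).trans (h2.symm.trans h3)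

/-- `F~ ≅ ⊕ O(-c_b)` -/
noncomputable def freeIso :
    EE k r c ≅ ∐ fun b : Fin m => Twist.twistProjSpace r k (-(c b)) :=
  isoSigmaOfTotal (EE k r c) (fun b => LL k r (c b)) (pr k r c) (inc k r c)
    (inc_pr_same k r c) (inc_pr_ne k r c) (sum_pr_inc k r c) ≪≫
    Sigma.mapIso (fun b => lineIso k r (c b))

theorem isQuasicoherent_EE : (EE k r c).IsQuasicoherent := by
  have hQ : ∀ b : Fin m, (Twist.twistProjSpace r k (-(c b))).IsQuasicoherent := fun b =>
    (Groth.Agent.Lib.T2H5.PnFinite.isCoh_twist r k (-(c b))).1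
  haveI := Groth.Agent.Lib.T2H5.CohSigma.isQuasicoherent_sigma _ hQ
  exact Groth.Agent.Lib.Helper23.TensorQCoh.isQuasicoherent_of_iso (freeIso k r c).symm

/-- cohomology vanishing of the twisted free module -/
theorem subsingleton_HH_EE (d : ℤ) (j i : ℕ) (hi : 1 ≤ i) (hc : ∀ b, c b ≤ d + j) :
    Subsingleton (Coh.HH (CohB1.ProjSpace r k) ((tw r k (d - i)).obj (EE k r c)) (i + j)) := by
  refine Groth.Agent.Lib.T2H5.PnStruct.subsingleton_HH_of_iso
    ((tw r k (d - i)).mapIso (freeIso k r c)).symm (i + j) ?_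
  refine Groth.Agent.Lib.T2H5.RegRes.subsingleton_HH_tw_sigma r k
    (fun b : Fin m => Twist.twistProjSpace r k (-(c b))) (d - i) (i + j) (fun b => ?_)
  obtain ⟨e⟩ := nonempty_twist_tensor_iso r k (-(c b)) (d - i) (d - i - c b) (by ring)
  refine Groth.Agent.Lib.T2H5.PnStruct.subsingleton_HH_of_iso e.symm (i + j) ?_
  refine Groth.Agent.Lib.T2H5.PnVanish.subsingleton_HH_twist r k (d - i - c b) (i + j)
    (by omega) ?_
  rintro ⟨h1, h2⟩
  have := hc b
  omega

end Free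

section Main

open Groth.Agent.Lib.Helper2GrModSect Groth.Agent.Lib.Helper23.QCohLocal

theorem H3_free {m₁ m₂ : ℕ} (D : (Fin m₁ → SS) →ₗ[SS] (Fin m₂ → SS))
    (y : ProjectiveSpectrum 𝒢) (v : Fin m₁ → SS) (c : SS) (hc : c ∉ y.asHomogeneousIdeal)
    (h : c • D v = 0) :
    ∃ (e : ℕ) (c' : SS), c' ∈ 𝒢 e ∧ c' ∉ y.asHomogeneousIdeal ∧ c' • D v = 0 := by
  have hc0 : c ≠ 0 := fun h0 => hc (h0 ▸ zero_mem _)
  have h1 := eq_zero_of_smul_eq_zero k r c hc0 _ h
  obtain ⟨e, f, _, hf, hfy⟩ := exists_homogeneous_pos_not_mem 𝒢 y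
  exact ⟨e, f, hf, hfy, by rw [h1, smul_zero]⟩

variable {M : Type u} [AddCommGroup M] [Module k M] [Module (MvPolynomial (Fin (r + 1)) k) M]
  [IsScalarTower k (MvPolynomial (Fin (r + 1)) k) M]
  (ℳ : ℤ → Submodule k M) [DirectSum.Decomposition ℳ]
  [SetLike.GradedSMul (GrSyz.stdGr k (Fin (r + 1))) ℳ]
  [SetLike.GradedSMul (CohB1.polyGrading r k) (fun n : ℕ => ℳ (n : ℤ))]
  (F : GrSyz.FreeRes (GrSyz.stdGr k (Fin (r + 1))) ℳ)

/-- the module attached to the resolved module -/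
noncomputable abbrev Mt : (CohB1.ProjSpace r k).Modules :=
  GrMod.tilde 𝒢 (fun n : ℕ => ℳ (n : ℤ)) 0

/-- the terms of the sheafified resolution -/
noncomputable abbrev Et (j : ℕ) : (CohB1.ProjSpace r k).Modules := EE k r (F.deg j)

theorem dLin_mem (j : ℕ) (i : ℕ) (v : Fin (F.rk (j + 1)) → SS)
    (hv : v ∈ shiftFam k r (F.deg (j + 1)) i) : F.dLin j v ∈ shiftFam k r (F.deg j) i :=
  mulVecLin_mem k r (F.deg (j + 1)) (F.deg j) (F.d j) (F.d_mem j) i v hv

theorem augLin_mem (i : ℕ) (v : Fin (F.rk 0) → SS) (hv : v ∈ shiftFam k r (F.deg 0) i) :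
    F.augLin v ∈ ℳ (i : ℤ) :=
  linComb_mem k r ℳ (F.deg 0) F.aug F.aug_mem i v hv

/-- the differentials of the sheafified resolution -/
noncomputable def dt (j : ℕ) : Et k r ℳ F (j + 1) ⟶ Et k r ℳ F j :=
  GrMod.map 𝒢 (F.dLin j) (dLin_mem k r ℳ F j) 0

/-- the augmentation of the sheafified resolution -/
noncomputable def augt : Et k r ℳ F 0 ⟶ Mt k r ℳ :=
  GrMod.map 𝒢 F.augLin (augLin_mem k r ℳ F) 0

theorem dt_comp (j : ℕ) : dt k r ℳ F (j + 1) ≫ dt k r ℳ F j = 0 :=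
  map_comp_eq_zero 𝒢 _ _ _ (F.dLin (j + 1)) (dLin_mem k r ℳ F (j + 1)) (F.dLin j)
    (dLin_mem k r ℳ F j) (LinearMap.range_le_ker_iff.mp (F.exact_succ j).ge) 0

theorem dt_exact (j : ℕ) :
    (ShortComplex.mk (dt k r ℳ F (j + 1)) (dt k r ℳ F j) (dt_comp k r ℳ F j)).Exact :=
  exact_map 𝒢 _ _ _ (F.dLin (j + 1)) (dLin_mem k r ℳ F (j + 1)) (F.dLin j)
    (dLin_mem k r ℳ F j) (LinearMap.exact_iff.mpr (F.exact_succ j))
    (fun i v hv => exists_hom_preimage_mulVec k r (F.deg (j + 2)) (F.deg (j + 1)) (F.d (j + 1))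
      (F.d_mem (j + 1)) i v hv)
    (fun y _ v _ c hc h0 => H3_free k r (F.dLin j) y v c hc h0) 0 (dt_comp k r ℳ F j)

theorem dt_augt : dt k r ℳ F 0 ≫ augt k r ℳ F = 0 :=
  map_comp_eq_zero 𝒢 _ _ _ (F.dLin 0) (dLin_mem k r ℳ F 0) F.augLin
    (augLin_mem k r ℳ F) (LinearMap.range_le_ker_iff.mp F.exact_zero.ge) 0

theorem augt_exact :
    (ShortComplex.mk (dt k r ℳ F 0) (augt k r ℳ F) (dt_augt k r ℳ F)).Exact :=
  exact_map 𝒢 _ _ _ (F.dLin 0) (dLin_mem k r ℳ F 0) F.augLin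
    (augLin_mem k r ℳ F) (LinearMap.exact_iff.mpr F.exact_zero)
    (fun i v hv => exists_hom_preimage_mulVec k r (F.deg 1) (F.deg 0) (F.d 0)
      (F.d_mem 0) i v hv)
    (fun y i v hv c hc h0 => exists_homogeneous_smul_eq_zero k r ℳ y
      (augLin_mem k r ℳ F i v hv) c hc h0) 0 (dt_augt k r ℳ F)

theorem epi_augt : Epi (augt k r ℳ F) := by
  refine epi_map 𝒢 _ _ F.augLin (augLin_mem k r ℳ F) ?_ 0
  intro i m hm
  obtain ⟨v, hv⟩ := F.aug_surjective m
  have hm' : F.augLin v ∈ ℳ (i : ℤ) := by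
    change Fintype.linearCombination SS F.aug v ∈ ℳ (i : ℤ)
    rw [hv]; exact hm
  obtain ⟨v', hv', h⟩ := exists_hom_preimage_linComb k r ℳ (F.deg 0) F.aug F.aug_mem i v hm'
  exact ⟨v', hv', h.trans hv⟩

include F in
theorem isQuasicoherent_Mt : (Mt k r ℳ).IsQuasicoherent := by
  haveI := epi_augt k r ℳ F
  have hcok := (augt_exact k r ℳ F).gIsCokernel
  let e : cokernel (dt k r ℳ F 0) ≅ Mt k r ℳ :=
    IsColimit.coconePointUniqueUpToIso (cokernelIsCokernel (dt k r ℳ F 0)) hcok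
  haveI : (Et k r ℳ F 1).IsQuasicoherent := isQuasicoherent_EE k r (F.deg 1)
  haveI : (Et k r ℳ F 0).IsQuasicoherent := isQuasicoherent_EE k r (F.deg 0)
  haveI := isQuasicoherent_cokernel (dt k r ℳ F 0)
  exact Groth.Agent.Lib.Helper23.TensorQCoh.isQuasicoherent_of_iso e

/-- the sheaf of a graded module with a graded free resolution generated in degrees `≤ d + i` is
`d`-regular -/
theorem isMRegular_tilde (d : ℤ) (hgen : F.IsGenLE d) :
    Curv2.IsMRegular k r
      (GrTilde.tilde (CohB1.polyGrading r k) (fun n : ℕ => ℳ (n : ℤ)) 0) d := by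
  intro i hi _
  exact subsingleton_HH_of_resolution r k (Et k r ℳ F) (dt k r ℳ F)
    (fun j => isQuasicoherent_EE k r (F.deg j)) (dt_comp k r ℳ F) (dt_exact k r ℳ F) d
    (fun j i hi => subsingleton_HH_EE k r (F.deg j) d j i hi (fun b => hgen j b))
    (Mt k r ℳ) (isQuasicoherent_Mt k r ℳ F) (augt k r ℳ F) (epi_augt k r ℳ F)
    (dt_augt k r ℳ F) (augt_exact k r ℳ F) i hi

end Main

end Groth.Agent.Lib.T2H5.GrSyzMain
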