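import Mathlib
import Groth.Agent.Lib.T2H5ProjTransfer

/-!
# T2H5GrZero: the comparison map `M_n → Γ(Proj S, M(n)~)` when the graded ring is finitely
generated in degree one over a Noetherian ring mapping to its degree-zero part (helper5)

The grading of `S` and of `M` may be by submodules over another base ring.
-/

set_option autoImplicit false
set_option linter.style.haveILetI false
set_option linter.unusedSectionVars false
universe u

open CategoryTheory CategoryTheory.Limits AlgebraicGeometry TopologicalSpace Opposite MvPolynomial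
open scoped HomogeneousIdeal

namespace Groth.Agent.Lib.T2H5.GrZero

open Groth.Agent.Lib.Helper2GrModSect Groth.Agent.Lib.T2H5.GrAlpha
  Groth.Agent.Lib.T2H5.ProjTransfer

section Carrier

variable {R R' M : Type u} [CommRing R] [CommRing R'] [AddCommGroup M] [Module R M] [Module R' M]
  (ℳ : ℕ → Submodule R M) [DirectSum.Decomposition ℳ] (ℳ' : ℕ → Submodule R' M)
  (h : ∀ (i : ℕ) (m : M), m ∈ ℳ' i ↔ m ∈ ℳ i)

/-- the identification of the pieces of two families with the same carriers -/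
def pieceEquiv (i : ℕ) : ℳ i ≃+ ℳ' i where
  toFun x := ⟨x.1, (h i x.1).2 x.2⟩
  invFun x := ⟨x.1, (h i x.1).1 x.2⟩
  left_inv _ := rfl
  right_inv _ := rfl
  map_add' _ _ := rfl

theorem coe_map_pieceEquiv (z : DirectSum ℕ fun i => ℳ i) :
    DirectSum.coeAddMonoidHom ℳ' (DirectSum.map (fun i => (pieceEquiv ℳ ℳ' h i).toAddMonoidHom) z) =
      DirectSum.coeAddMonoidHom ℳ z := by
  induction z using DirectSum.induction_on with
  | zero => simp
  | of i x =>
    rw [DirectSum.map_of, DirectSum.coeAddMonoidHom_of, DirectSum.coeAddMonoidHom_of]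
    rfl
  | add x y hx hy => rw [map_add, map_add, map_add, hx, hy]

/-- a decomposition passes to a family of submodules with the same carriers -/
@[instance_reducible]
def decompositionOfCarrier : DirectSum.Decomposition ℳ' :=
  DirectSum.Decomposition.ofAddHom ℳ'
    ((DirectSum.map (fun i => (pieceEquiv ℳ ℳ' h i).toAddMonoidHom)).comp
      (DirectSum.decomposeAddEquiv ℳ).toAddMonoidHom)
    (by
      apply AddMonoidHom.ext
      intro m
      rw [AddMonoidHom.comp_apply, AddMonoidHom.comp_apply, coe_map_pieceEquiv]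
      exact DirectSum.Decomposition.left_inv (ℳ := ℳ) m)
    (by
      apply DirectSum.addHom_ext
      intro i x
      rw [AddMonoidHom.comp_apply, AddMonoidHom.id_apply, DirectSum.coeAddMonoidHom_of,
        AddMonoidHom.comp_apply]
      have h1 : (DirectSum.decomposeAddEquiv ℳ).toAddMonoidHom (x : M) =
          DirectSum.of (fun i => ℳ i) i ⟨x.1, (h i x.1).1 x.2⟩ :=
        DirectSum.decompose_of_mem ℳ ((h i x.1).1 x.2)
      rw [h1, DirectSum.map_of]
      rfl)

end Carrier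

section Comap

variable {R' R A' B : Type u} [CommRing R'] [CommRing R] [CommRing A'] [CommRing B]
  [Algebra R' A'] [Algebra R B]
  (𝒜' : ℕ → Submodule R' A') [GradedAlgebra 𝒜'] (ℬ : ℕ → Submodule R B) [GradedAlgebra ℬ]
  (ψ : 𝒜' →+*ᵍ ℬ) (hψ : ℬ₊ ≤ (𝒜'₊).map ψ)
  {N : Type u} [AddCommGroup N] [Module R' N] [Module R N] [Module A' N] [Module B N]
  (𝒩' : ℕ → Submodule R' N) [DirectSum.Decomposition 𝒩'] [SetLike.GradedSMul 𝒜' 𝒩']
  (𝒩 : ℕ → Submodule R N) [DirectSum.Decomposition 𝒩] [SetLike.GradedSMul ℬ 𝒩]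
  (hsm : ∀ (p : A') (m : N), p • m = ψ p • m)
  (hcar : ∀ (i : ℕ) (m : N), m ∈ 𝒩' i ↔ m ∈ 𝒩 i)

variable {𝒜' ℬ} in
/-- the identity, semilinear over the homomorphism of graded rings -/
def idSemi' : N →ₛₗ[ψ.toRingHom] N where
  toFun := id
  map_add' := fun _ _ => rfl
  map_smul' := hsm

theorem irrelevant_le_map (hsurj : Function.Surjective ψ) : ℬ₊ ≤ (𝒜'₊).map ψ := by
  change (HomogeneousIdeal.irrelevant ℬ).toIdeal ≤
    ((HomogeneousIdeal.irrelevant 𝒜').map ψ).toIdeal
  rw [HomogeneousIdeal.toIdeal_map]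
  intro b hb
  obtain ⟨a, rfl⟩ := hsurj b
  replace hb : ψ a ∈ HomogeneousIdeal.irrelevant ℬ := hb
  rw [HomogeneousIdeal.mem_irrelevant_iff, GradedRing.proj_apply,
    ← GradedRingHom.map_directSumDecompose] at hb
  have h1 : ψ a = ψ (a - (DirectSum.decompose 𝒜' a 0 : A')) := by rw [map_sub, hb, sub_zero]
  rw [h1]
  apply Ideal.mem_map_of_mem
  change _ ∈ HomogeneousIdeal.irrelevant 𝒜'
  rw [HomogeneousIdeal.mem_irrelevant_iff, GradedRing.proj_apply, DirectSum.decompose_sub,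
    DirectSum.sub_apply, Submodule.coe_sub, DirectSum.decompose_coe, DirectSum.of_eq_same,
    sub_self]

include hψ hsm hcar in
/-- if the comparison map is bijective over the source ring, it is bijective over the target;
the two rings and the two families of pieces may be graded over different base rings -/
theorem bijective_alpha_of_comap' (n : ℕ) (h : Function.Bijective (alpha 𝒜' 𝒩' n)) :
    Function.Bijective (alpha ℬ 𝒩 n) := by
  have hv : ∀ (i : ℕ) (m : N), m ∈ 𝒩' i → idSemi' ψ hsm m ∈ 𝒩 i := fun i m hm => (hcar i m).1 hm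
  haveI : IsIso (GrMod.comap ψ hψ (idSemi' ψ hsm) hv (n : ℤ)) :=
    Groth.Agent.Lib.Helper2.GrModComapIso.isIso_comap ψ hψ 𝒩' 𝒩 (idSemi' ψ hsm) hv (n : ℤ)
      ⟨fun _ _ h => h, fun m => ⟨m, rfl⟩⟩
  have hiso : IsIso ((GrMod.comap ψ hψ (idSemi' ψ hsm) hv (n : ℤ)).app ⊤) :=
    Scheme.Modules.Hom.isIso_iff_isIso_app.1 inferInstance ⊤
  have hbij : Function.Bijective ((GrMod.comap ψ hψ (idSemi' ψ hsm) hv (n : ℤ)).app ⊤) :=
    ConcreteCategory.bijective_of_isIso _
  let c : Γ(GrMod.tilde 𝒜' 𝒩' (n : ℤ), ⊤) → Γ(GrMod.tilde ℬ 𝒩 (n : ℤ), ⊤) :=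
    fun σ => (GrMod.comap ψ hψ (idSemi' ψ hsm) hv (n : ℤ)).app ⊤ σ
  have hc : Function.Bijective c := hbij
  let e : 𝒩' n ≃ 𝒩 n :=
    { toFun := fun m => ⟨m.1, (hcar n m.1).1 m.2⟩
      invFun := fun m => ⟨m.1, (hcar n m.1).2 m.2⟩
      left_inv := fun _ => rfl
      right_inv := fun _ => rfl }
  have hcomp : alpha ℬ 𝒩 n ∘ e = c ∘ alpha 𝒜' 𝒩' n := by
    funext m
    apply Groth.Agent.Lib.T2H5.GrSyzLoc.sec_ext'
    intro y hy
    have h1 : secVal ℬ 𝒩 (n : ℤ) ⊤ (c (alpha 𝒜' 𝒩' n m)) y hy =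
        GrMod.locModMap ψ hψ (idSemi' ψ hsm) y
          (secVal 𝒜' 𝒩' (n : ℤ) ⊤ (alpha 𝒜' 𝒩' n m) (ProjectiveSpectrum.comap ψ hψ y) trivial) :=
      rfl
    rw [Function.comp_apply, Function.comp_apply, h1, secVal_alpha, secVal_alpha]
    change _ = GrMod.locModMap ψ hψ (idSemi' ψ hsm) y (LocalizedModule.mk m.1 1)
    rw [GrMod.locModMap_mk]
    congr 1
    apply Subtype.ext
    exact (map_one ψ).symm
  have h2 : alpha ℬ 𝒩 n = (c ∘ alpha 𝒜' 𝒩' n) ∘ e.symm := by
    rw [← hcomp]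
    funext m
    simp
  rw [h2]
  exact (hc.comp h).comp e.symm.bijective

end Comap

section Base

variable {R A : Type u} [CommRing R] [CommRing A] [Algebra R A] (𝒜 : ℕ → Submodule R A)
  [GradedAlgebra 𝒜] {A₀ : Type u} [CommRing A₀] [Algebra A₀ A]
  (h0 : ∀ a : A₀, algebraMap A₀ A a ∈ 𝒜 0)
  (r : ℕ) (g : Fin (r + 1) → A) (hg1 : ∀ i, g i ∈ 𝒜 1)

include h0 hg1 in
theorem aeval_mem₀ {p : MvPolynomial (Fin (r + 1)) A₀} {d : ℕ}
    (hp : p ∈ CohB1.polyGrading r A₀ d) : aeval g p ∈ 𝒜 d := by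
  classical
  rw [p.as_sum, map_sum]
  refine Submodule.sum_mem _ fun m hm => ?_
  rw [aeval_monomial]
  have hdeg : Finsupp.weight 1 m = d := hp (mem_support_iff.mp hm)
  have h1 := SetLike.prod_pow_mem_graded 𝒜 (fun _ : Fin (r + 1) => 1) g (fun i => m i)
    (F := m.support) (fun k _ => hg1 k)
  have h2 : (∑ k ∈ m.support, m k • 1) = d := by
    rw [← hdeg, Finsupp.weight_apply]
    rfl
  rw [h2] at h1
  have h3 := SetLike.mul_mem_graded (h0 (coeff m p)) h1
  rw [zero_add] at h3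
  exact h3

/-- the graded ring homomorphism from the polynomial ring over the base -/
noncomputable def psi₀ : CohB1.polyGrading r A₀ →+*ᵍ 𝒜 where
  toRingHom := (aeval g : MvPolynomial (Fin (r + 1)) A₀ →ₐ[A₀] A).toRingHom
  map_mem := fun hx => aeval_mem₀ 𝒜 h0 r g hg1 hx

theorem psi₀_surjective (hgen : Algebra.adjoin A₀ (Set.range g) = ⊤) :
    Function.Surjective (psi₀ 𝒜 h0 r g hg1) := by
  intro x
  have hx : x ∈ (aeval g : MvPolynomial (Fin (r + 1)) A₀ →ₐ[A₀] A).range := by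
    rw [← Algebra.adjoin_range_eq_range_aeval, hgen]
    exact Algebra.mem_top
  obtain ⟨p, hp⟩ := hx
  exact ⟨p, hp⟩

variable {M : Type u} [AddCommGroup M] [Module R M] [Module A M] [Module A₀ M]
  [IsScalarTower A₀ A M]
  (ℳ : ℕ → Submodule R M) [DirectSum.Decomposition ℳ] [SetLike.GradedSMul 𝒜 ℳ]
  (ℳ₀ : ℕ → Submodule A₀ M) [DirectSum.Decomposition ℳ₀]
  (hcar : ∀ (i : ℕ) (m : M), m ∈ ℳ₀ i ↔ m ∈ ℳ i)

include h0 hg1 hcar in
theorem gradedSMul_poly₀ :
    letI := polyModule A₀ r g M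
    SetLike.GradedSMul (CohB1.polyGrading r A₀) ℳ₀ := by
  letI := polyModule A₀ r g M
  refine ⟨fun {i j p m} hp hm => ?_⟩
  change aeval g p • m ∈ ℳ₀ (i + j)
  rw [hcar]
  exact SetLike.GradedSMul.smul_mem (aeval_mem₀ 𝒜 h0 r g hg1 hp) ((hcar j m).1 hm)

include h0 hg1 hcar in
/-- the comparison map `M_n → Γ(Proj S, M(n)~)` is bijective for large `n`, for `S` generated by
finitely many elements of degree one over a Noetherian ring mapping to its degree-zero part -/
theorem exists_bijective_alpha₀ [IsNoetherianRing A₀] [Module.Finite A M]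
    (hgen : Algebra.adjoin A₀ (Set.range g) = ⊤) :
    ∃ N : ℕ, ∀ n : ℕ, N ≤ n → Function.Bijective (alpha 𝒜 ℳ n) := by
  letI := polyModule A₀ r g M
  haveI := isScalarTower_poly (A := A₀) r g (M := M)
  haveI := gradedSMul_poly₀ 𝒜 h0 r g hg1 ℳ ℳ₀ hcar
  haveI := finite_poly (A := A₀) r g hgen (M := M)
  obtain ⟨N, hN⟩ := Groth.Agent.Lib.T2H5.GrSerre.alpha_bijective_of_large r A₀ ℳ₀
  refine ⟨N, fun n hn => ?_⟩
  exact bijective_alpha_of_comap' (CohB1.polyGrading r A₀) 𝒜 (psi₀ 𝒜 h0 r g hg1)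
    (irrelevant_le_map _ _ _ (psi₀_surjective 𝒜 h0 r g hg1 hgen)) ℳ₀ ℳ
    (fun _ _ => rfl) hcar n (hN n hn)

end Base

section Gen

variable {R A : Type u} [CommRing R] [CommRing A] [Algebra R A] (𝒜 : ℕ → Submodule R A)
  [GradedAlgebra 𝒜]

/-- in a Noetherian graded ring, the degree-one part is spanned over the degree-zero part by
finitely many elements -/
theorem exists_finset_span_one [IsNoetherianRing A] :
    ∃ T : Finset A, (∀ t ∈ T, t ∈ 𝒜 1) ∧
      ∀ x ∈ 𝒜 1, x ∈ Submodule.span (𝒜 0) (T : Set A) := by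
  classical
  have hfg : (Submodule.span A (𝒜 1 : Set A)).FG :=
    (inferInstance : IsNoetherianRing A).noetherian _
  obtain ⟨T, hT1, hT⟩ := (Submodule.fg_span_iff_fg_span_finset_subset _).1 hfg
  refine ⟨T, fun t ht => hT1 ht, fun x hx => ?_⟩
  have hx' : x ∈ Submodule.span A (T : Set A) := by
    rw [← hT]
    exact Submodule.subset_span hx
  obtain ⟨f, -, hf⟩ := Submodule.mem_span_finset.1 hx'
  have h1 : x = ∑ t ∈ T, (DirectSum.decompose 𝒜 (f t) 0 : A) * t := by
    have h2 : (DirectSum.decompose 𝒜 x (0 + 1) : A) = x := by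
      rw [zero_add]
      exact DirectSum.decompose_of_mem_same 𝒜 hx
    rw [← h2, ← hf, DirectSum.decompose_sum, DFinsupp.finsetSum_apply,
      AddSubmonoidClass.coe_finsetSum]
    refine Finset.sum_congr rfl fun t ht => ?_
    rw [smul_eq_mul]
    exact DirectSum.coe_decompose_mul_add_of_right_mem 𝒜 (hT1 ht)
  rw [h1]
  refine Submodule.sum_mem _ fun t ht => ?_
  have h3 : (DirectSum.decompose 𝒜 (f t) 0 : A) * t =
      (DirectSum.decompose 𝒜 (f t) 0 : 𝒜 0) • t := rfl
  rw [h3]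
  exact Submodule.smul_mem _ _ (Submodule.subset_span ht)

/-- a graded ring with `𝒜 (i + 1) = 𝒜 1 * 𝒜 i` is generated over its degree-zero part by any
set spanning its degree-one part -/
theorem adjoin_eq_top_of_span (hgen : ∀ i : ℕ, 𝒜 (i + 1) = 𝒜 1 * 𝒜 i) (T : Set A)
    (hT : ∀ x ∈ 𝒜 1, x ∈ Submodule.span (𝒜 0) T) : Algebra.adjoin (𝒜 0) T = ⊤ := by
  classical
  have h1 : ∀ x ∈ 𝒜 1, x ∈ Algebra.adjoin (𝒜 0) T := fun x hx =>
    Algebra.span_le_adjoin (𝒜 0) T (hT x hx)
  have hn : ∀ n : ℕ, ∀ x ∈ 𝒜 n, x ∈ Algebra.adjoin (𝒜 0) T := by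
    intro n
    induction n with
    | zero =>
      intro x hx
      exact Subalgebra.algebraMap_mem _ (⟨x, hx⟩ : 𝒜 0)
    | succ n ih =>
      intro x hx
      rw [hgen n] at hx
      exact Submodule.mul_induction_on hx
        (fun y hy z hz => Subalgebra.mul_mem _ (h1 y hy) (ih z hz))
        (fun y z hy hz => Subalgebra.add_mem _ hy hz)
  rw [eq_top_iff]
  intro x _
  rw [← DirectSum.sum_support_decompose 𝒜 x]
  exact Subalgebra.sum_mem _ fun i _ => hn i _ (SetLike.coe_mem _)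

end Gen

section Main

variable {R A : Type u} [CommRing R] [CommRing A] [Algebra R A] (𝒜 : ℕ → Submodule R A)
  [GradedAlgebra 𝒜]
  {M : Type u} [AddCommGroup M] [Module R M] [Module A M]
  (ℳ : ℕ → Submodule R M) [DirectSum.Decomposition ℳ] [SetLike.GradedSMul 𝒜 ℳ]

/-- for a Noetherian graded ring generated in degree one over its degree-zero part and a finite
graded module, the comparison map `M_n → Γ(Proj, M(n)~)` is bijective for large `n` -/
theorem exists_bijective_alpha_of_gen [IsNoetherianRing A] [Module.Finite A M]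
    (hgen : ∀ i : ℕ, 𝒜 (i + 1) = 𝒜 1 * 𝒜 i) :
    ∃ N : ℕ, ∀ n : ℕ, N ≤ n → Function.Bijective (alpha 𝒜 ℳ n) := by
  classical
  haveI : IsNoetherianRing (𝒜 0) :=
    isNoetherianRing_of_surjective A (𝒜 0) (GradedRing.projZeroRingHom' 𝒜)
      (GradedRing.projZeroRingHom'_surjective 𝒜)
  letI : Module (𝒜 0) M := Module.compHom M (algebraMap (𝒜 0) A)
  haveI : IsScalarTower (𝒜 0) A M := IsScalarTower.of_algebraMap_smul (fun _ _ => rfl)
  let ℳ₀ : ℕ → Submodule (𝒜 0) M := fun i =>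
    { carrier := ℳ i
      add_mem' := fun ha hb => (ℳ i).add_mem ha hb
      zero_mem' := (ℳ i).zero_mem
      smul_mem' := fun c m hm => by
        have h1 : (c : A) • m ∈ ℳ (0 + i) := SetLike.GradedSMul.smul_mem c.2 hm
        rw [zero_add] at h1
        exact h1 }
  letI : DirectSum.Decomposition ℳ₀ := decompositionOfCarrier ℳ ℳ₀ (fun _ _ => Iff.rfl)
  obtain ⟨T, hT1, hT⟩ := exists_finset_span_one 𝒜
  let T' : Finset A := insert (0 : A) T
  have hT'1 : ∀ t ∈ T', t ∈ 𝒜 1 := by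
    intro t ht
    rcases Finset.mem_insert.1 ht with h | h
    · rw [h]
      exact Submodule.zero_mem _
    · exact hT1 t h
  have hT' : ∀ x ∈ 𝒜 1, x ∈ Submodule.span (𝒜 0) (T' : Set A) := fun x hx =>
    Submodule.span_mono (by
      intro t ht
      exact Finset.mem_coe.2 (Finset.mem_insert_of_mem (Finset.mem_coe.1 ht))) (hT x hx)
  obtain ⟨r, hr⟩ : ∃ r, T'.card = r + 1 :=
    Nat.exists_eq_succ_of_ne_zero (Finset.card_ne_zero.mpr ⟨0, Finset.mem_insert_self _ _⟩)
  let e : Fin (r + 1) ≃ T' := (finCongr hr.symm).trans T'.equivFin.symm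
  let g : Fin (r + 1) → A := fun j => (e j).1
  have hrange : Set.range g = (T' : Set A) := by
    ext x
    constructor
    · rintro ⟨j, rfl⟩
      exact (e j).2
    · intro hx
      exact ⟨e.symm ⟨x, hx⟩, by simp [g]⟩
  have hadj : Algebra.adjoin (𝒜 0) (Set.range g) = ⊤ := by
    rw [hrange]
    exact adjoin_eq_top_of_span 𝒜 hgen T' hT'
  exact exists_bijective_alpha₀ 𝒜 (A₀ := 𝒜 0) (fun a => a.2) r g (fun j => hT'1 _ (e j).2) ℳ ℳ₀
    (fun _ _ => Iff.rfl) hadj

end Main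

end Groth.Agent.Lib.T2H5.GrZero
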