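import Mathlib
import Groth.Agent.Lib.T2H5GrZero
import Groth.Agent.Lib.Helper13Veronese

/-!
# T2H5GrTF: graded modules with (TF) over a graded ring (graded by additive subgroups) generated
in degree one (helper5)

The comparison map `M_n → Γ(Proj S, M(n)~)` is bijective for large `n`, and the sections of the
twists are generated over the degree-one part from some degree on.  The proof passes to the
submodule generated by the pieces of large degree, seen as a finite graded module over the ring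
graded by submodules over its prime subring.
-/

set_option autoImplicit false
set_option linter.style.haveILetI false
set_option linter.unusedSectionVars false
universe u

open CategoryTheory CategoryTheory.Limits AlgebraicGeometry TopologicalSpace Opposite
open scoped HomogeneousIdeal

namespace Groth.Agent.Lib.T2H5.GrTF

section Carrier

variable {R M τ : Type u} [CommRing R] [AddCommGroup M] [Module R M] [SetLike τ M]
  [AddSubgroupClass τ M] (ℳ : ℕ → τ) [DirectSum.Decomposition ℳ] (ℳ' : ℕ → Submodule R M)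
  (h : ∀ (i : ℕ) (m : M), m ∈ ℳ' i ↔ m ∈ ℳ i)

/-- the identification of the pieces of two families with the same carriers -/
def pieceEquiv (i : ℕ) : ℳ i ≃+ ℳ' i where
  toFun x := ⟨x.1, (h i x.1).2 x.2⟩
  invFun x := ⟨x.1, (h i x.1).1 x.2⟩
  left_inv _ := rfl
  right_inv _ := rfl
  map_add' _ _ := rfl

theorem coe_map_pieceEquiv (z : DirectSum ℕ fun i => ℳ i) :
    DirectSum.coeAddMonoidHom ℳ' (DirectSum.map (fun i => (pieceEquiv ℳ ℳ' h i).toAddMonoidHom) z) =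
      DirectSum.coeAddMonoidHom ℳ z := by
  induction z using DirectSum.induction_on with
  | zero => simp
  | of i x =>
    rw [DirectSum.map_of, DirectSum.coeAddMonoidHom_of, DirectSum.coeAddMonoidHom_of]
    rfl
  | add x y hx hy => rw [map_add, map_add, map_add, hx, hy]

/-- a decomposition passes to a family of submodules with the same carriers -/
@[instance_reducible]
def decompositionOfCarrier : DirectSum.Decomposition ℳ' :=
  DirectSum.Decomposition.ofAddHom ℳ'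
    ((DirectSum.map (fun i => (pieceEquiv ℳ ℳ' h i).toAddMonoidHom)).comp
      (DirectSum.decomposeAddEquiv ℳ).toAddMonoidHom)
    (by
      apply AddMonoidHom.ext
      intro m
      rw [AddMonoidHom.comp_apply, AddMonoidHom.comp_apply, coe_map_pieceEquiv]
      exact DirectSum.Decomposition.left_inv (ℳ := ℳ) m)
    (by
      apply DirectSum.addHom_ext
      intro i x
      rw [AddMonoidHom.comp_apply, AddMonoidHom.id_apply, DirectSum.coeAddMonoidHom_of,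
        AddMonoidHom.comp_apply]
      have h1 : (DirectSum.decomposeAddEquiv ℳ).toAddMonoidHom (x : M) =
          DirectSum.of (fun i => ℳ i) i ⟨x.1, (h i x.1).1 x.2⟩ :=
        DirectSum.decompose_of_mem ℳ ((h i x.1).1 x.2)
      rw [h1, DirectSum.map_of]
      rfl)

end Carrier

section ZWorld

variable {A σ : Type u} [CommRing A] [SetLike σ A] [AddSubgroupClass σ A] (𝒜 : ℕ → σ)

/-- the pieces of a graded ring, as submodules over the prime subring -/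
def zA (i : ℕ) : Submodule (⊥ : Subring A) A where
  carrier := {x | x ∈ 𝒜 i}
  add_mem' := fun ha hb => add_mem ha hb
  zero_mem' := zero_mem (𝒜 i)
  smul_mem' := by
    rintro ⟨c, hc⟩ x hx
    obtain ⟨n, rfl⟩ := Subring.mem_bot.1 hc
    change (n : A) * x ∈ 𝒜 i
    rw [← zsmul_eq_mul]
    exact zsmul_mem hx n

theorem mem_zA {i : ℕ} {x : A} : x ∈ zA 𝒜 i ↔ x ∈ 𝒜 i := Iff.rfl

variable [GradedRing 𝒜]

instance gradedAlgebra_zA : GradedAlgebra (zA 𝒜) :=
  { one_mem := SetLike.GradedOne.one_mem (A := 𝒜)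
    mul_mem := fun _ _ _ _ ha hb => SetLike.GradedMul.mul_mem (A := 𝒜) ha hb
    toDecomposition := decompositionOfCarrier 𝒜 (zA 𝒜) (fun _ _ => Iff.rfl) }

variable {M τ : Type u} [AddCommGroup M] [Module A M] [SetLike τ M] [AddSubgroupClass τ M]
  (ℳ : ℕ → τ)

/-- the pieces of a graded module, as submodules over the prime subring -/
def zM (i : ℕ) : Submodule (⊥ : Subring A) M where
  carrier := {x | x ∈ ℳ i}
  add_mem' := fun ha hb => add_mem ha hb
  zero_mem' := zero_mem (ℳ i)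
  smul_mem' := by
    rintro ⟨c, hc⟩ x hx
    obtain ⟨n, rfl⟩ := Subring.mem_bot.1 hc
    change (n : A) • x ∈ ℳ i
    rw [Int.cast_smul_eq_zsmul]
    exact zsmul_mem hx n

theorem mem_zM {i : ℕ} {x : M} : x ∈ zM (A := A) ℳ i ↔ x ∈ ℳ i := Iff.rfl

instance decomposition_zM [DirectSum.Decomposition ℳ] : DirectSum.Decomposition (zM (A := A) ℳ) :=
  decompositionOfCarrier ℳ (zM (A := A) ℳ) (fun _ _ => Iff.rfl)

instance gradedSMul_zM [SetLike.GradedSMul 𝒜 ℳ] : SetLike.GradedSMul (zA 𝒜) (zM (A := A) ℳ) where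
  smul_mem := fun {_ _ _ _} ha hm => SetLike.GradedSMul.smul_mem (A := 𝒜) (B := ℳ) ha hm

end ZWorld


section Trunc

variable {A σ : Type u} [CommRing A] [SetLike σ A] [AddSubgroupClass σ A] (𝒜 : ℕ → σ)
  [GradedRing 𝒜]
variable {M τ : Type u} [AddCommGroup M] [Module A M] [SetLike τ M] [AddSubgroupClass τ M]
  (ℳ : ℕ → τ) [SetLike.GradedSMul 𝒜 ℳ] [DirectSum.Decomposition ℳ] (k : ℕ)

/-- the submodule generated by the homogeneous elements of degree at least `k` -/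
def tail : Submodule A M := Submodule.span A (⋃ i ∈ Set.Ici k, (ℳ i : Set M))

theorem mem_tail_of_mem {i : ℕ} (hi : k ≤ i) {m : M} (hm : m ∈ ℳ i) : m ∈ tail (A := A) ℳ k :=
  Submodule.subset_span (Set.mem_iUnion₂.2 ⟨i, hi, hm⟩)

include 𝒜 in
theorem decompose_eq_zero_of_mem_tail {x : M} (hx : x ∈ tail (A := A) ℳ k) {i : ℕ} (hi : i < k) :
    (DirectSum.decompose (zM (A := A) ℳ) x i : M) = 0 := by
  classical
  unfold tail at hx
  induction hx using Submodule.span_induction generalizing i with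
  | mem x hx =>
    obtain ⟨j, hj, hxj⟩ := Set.mem_iUnion₂.1 hx
    have hj' : k ≤ j := hj
    exact DirectSum.decompose_of_mem_ne (zM (A := A) ℳ) (show x ∈ zM (A := A) ℳ j from hxj)
      (by omega)
  | zero => rw [DirectSum.decompose_zero]; rfl
  | add x y _ _ hx hy =>
    rw [DirectSum.decompose_add, DirectSum.add_apply, Submodule.coe_add, hx hi, hy hi, add_zero]
  | smul a x _ hx =>
    induction a using DirectSum.Decomposition.inductionOn (zA 𝒜) generalizing i with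
    | zero => rw [zero_smul, DirectSum.decompose_zero]; rfl
    | @homogeneous l a =>
      rw [Groth.Agent.Helper13Veronese.decompose_smul_of_mem (zA 𝒜) (zM (A := A) ℳ) a.2 x i]
      split_ifs with hl
      · rw [hx (by omega : i - l < k), smul_zero]
      · rfl
    | add a b ha hb =>
      rw [add_smul, DirectSum.decompose_add, DirectSum.add_apply, Submodule.coe_add, ha hi, hb hi,
        add_zero]

/-- the pieces of the truncated module (the graded ring is an argument so that instances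
about this family can refer to it) -/
def trFam (_𝒜 : ℕ → σ) (ℳ : ℕ → τ) (k : ℕ) (i : ℕ) :
    Submodule (⊥ : Subring A) (tail (A := A) ℳ k) where
  carrier := {x | (x : M) ∈ ℳ i ∧ (i < k → x = 0)}
  add_mem' := fun {x y} hx hy => ⟨add_mem hx.1 hy.1, fun hi => by rw [hx.2 hi, hy.2 hi, add_zero]⟩
  zero_mem' := ⟨zero_mem (ℳ i), fun _ => rfl⟩
  smul_mem' := fun c x hx => ⟨(zM (A := A) ℳ i).smul_mem c hx.1, fun hi => by
    rw [hx.2 hi, smul_zero]⟩

theorem mem_trFam {i : ℕ} {x : tail (A := A) ℳ k} :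
    x ∈ trFam (A := A) 𝒜 ℳ k i ↔ (x : M) ∈ ℳ i ∧ (i < k → x = 0) := Iff.rfl

include 𝒜 in
theorem iSupIndep_trFam : iSupIndep (trFam (A := A) 𝒜 ℳ k) := by
  classical
  rw [iSupIndep_iff_finsetSum_eq_zero_imp_eq_zero]
  intro s v hv hsum i hi
  have hind : iSupIndep (zM (A := A) ℳ) :=
    (DirectSum.Decomposition.isInternal (zM (A := A) ℳ)).submodule_iSupIndep
  rw [iSupIndep_iff_finsetSum_eq_zero_imp_eq_zero] at hind
  have h1 := hind s (fun j => ((v j : tail (A := A) ℳ k) : M)) (fun j hj => (hv j hj).1) (by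
    have h2 := congrArg Subtype.val hsum
    rw [AddSubmonoidClass.coe_finsetSum] at h2
    exact h2) i hi
  exact Subtype.ext h1

include 𝒜 in
theorem iSup_trFam : iSup (trFam (A := A) 𝒜 ℳ k) = ⊤ := by
  classical
  rw [eq_top_iff]
  intro x _
  have hcomp : ∀ i, ∃ y : tail (A := A) ℳ k,
      (y : M) = (DirectSum.decompose (zM (A := A) ℳ) (x : M) i : M) ∧ y ∈ trFam (A := A) 𝒜 ℳ k i := by
    intro i
    by_cases hi : i < k
    · refine ⟨0, ?_, zero_mem _⟩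
      rw [decompose_eq_zero_of_mem_tail 𝒜 ℳ k x.2 hi]
      rfl
    · exact ⟨⟨_, mem_tail_of_mem ℳ k (not_lt.1 hi)
        (show (DirectSum.decompose (zM (A := A) ℳ) (x : M) i : M) ∈ ℳ i from SetLike.coe_mem _)⟩, rfl,
        ⟨SetLike.coe_mem _, fun h => absurd h hi⟩⟩
  choose y hy1 hy2 using hcomp
  have hx : x = ∑ i ∈ (DirectSum.decompose (zM (A := A) ℳ) (x : M)).support, y i := by
    apply Subtype.ext
    rw [AddSubmonoidClass.coe_finsetSum]
    simp_rw [hy1]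
    exact (DirectSum.sum_support_decompose (zM (A := A) ℳ) (x : M)).symm
  rw [hx]
  exact Submodule.sum_mem _ fun i _ => Submodule.mem_iSup_of_mem i (hy2 i)

noncomputable instance decomposition_trFam : DirectSum.Decomposition (trFam (A := A) 𝒜 ℳ k) :=
  (DirectSum.isInternal_submodule_of_iSupIndep_of_iSup_eq_top (iSupIndep_trFam (A := A) 𝒜 ℳ k)
    (iSup_trFam (A := A) 𝒜 ℳ k)).chooseDecomposition

instance gradedSMul_trFam : SetLike.GradedSMul (zA 𝒜) (trFam (A := A) 𝒜 ℳ k) where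
  smul_mem := fun {i j a x} ha hx =>
    ⟨SetLike.GradedSMul.smul_mem (A := 𝒜) (B := ℳ) ha hx.1, fun hlt => by
      have hj : j < k := by
        change i + j < k at hlt
        omega
      rw [hx.2 hj, smul_zero]⟩

/-- the identity as a homomorphism of graded rings -/
def zHom : zA 𝒜 →+*ᵍ 𝒜 where
  toRingHom := RingHom.id A
  map_mem := fun hx => hx

theorem zHom_apply (a : A) : zHom 𝒜 a = a := rfl

/-- the inclusion of the truncated module -/
def incl : tail (A := A) ℳ k →ₛₗ[(zHom 𝒜).toRingHom] M where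
  toFun := fun x => x.1
  map_add' := fun _ _ => rfl
  map_smul' := fun _ _ => rfl

theorem incl_apply (x : tail (A := A) ℳ k) : incl 𝒜 ℳ k x = x.1 := rfl

theorem incl_injective : Function.Injective (incl 𝒜 ℳ k) := fun _ _ h => Subtype.ext h

theorem incl_mem (i : ℕ) (x : tail (A := A) ℳ k) (hx : x ∈ trFam (A := A) 𝒜 ℳ k i) :
    incl 𝒜 ℳ k x ∈ ℳ i := hx.1

theorem exists_incl_eq {i : ℕ} (hi : k ≤ i) {m : M} (hm : m ∈ ℳ i) :
    ∃ x : tail (A := A) ℳ k, x ∈ trFam (A := A) 𝒜 ℳ k i ∧ incl 𝒜 ℳ k x = m :=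
  ⟨⟨m, mem_tail_of_mem ℳ k hi hm⟩, ⟨hm, fun h => absurd h (by omega)⟩, rfl⟩

end Trunc


section Iso

open Groth.Agent.Lib.Helper2GrModSect Groth.Agent.Lib.Helper2.RelTildeQCoh
  Groth.Agent.Lib.Helper2.GrModComapIso

variable {A σ : Type u} [CommRing A] [SetLike σ A] [AddSubgroupClass σ A] {𝒜 : ℕ → σ} [GradedRing 𝒜]
variable {B σ' : Type u} [CommRing B] [SetLike σ' B] [AddSubgroupClass σ' B] {ℬ : ℕ → σ'} [GradedRing ℬ]
variable (ψ : 𝒜 →+*ᵍ ℬ) (hψ : ℬ₊ ≤ (𝒜₊).map ψ)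
variable {M τ : Type u} [AddCommGroup M] [Module A M] [SetLike τ M] [AddSubgroupClass τ M] (ℳ : ℕ → τ)
  [SetLike.GradedSMul 𝒜 ℳ] [DirectSum.Decomposition ℳ]
variable {N τ' : Type u} [AddCommGroup N] [Module B N] [SetLike τ' N] [AddSubgroupClass τ' N] (𝒩 : ℕ → τ')
  [SetLike.GradedSMul ℬ 𝒩] [DirectSum.Decomposition 𝒩]
variable (v : M →ₛₗ[ψ.toRingHom] N) (hv : ∀ (i : ℕ) (m : M), m ∈ ℳ i → v m ∈ 𝒩 i)
variable (n : ℤ)

include hv in
/-- local surjectivity of `comap` on sections when `v` is injective and surjective in large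
degrees. -/
theorem comap_locally_surjective' (hinj : Function.Injective v) (k₀ : ℕ)
    (hsurj : ∀ i : ℕ, k₀ ≤ i → ∀ x ∈ 𝒩 i, ∃ m : M, v m = x) (O : (Proj 𝒜).Opens)
    (t : Γ((Scheme.Modules.pushforward (Proj.map ψ hψ)).obj (GrMod.tilde ℬ 𝒩 n), O))
    (y : Proj 𝒜) (hy : y ∈ O) :
    ∃ (O' : (Proj 𝒜).Opens) (hO' : O' ≤ O), y ∈ O' ∧ ∃ s : Γ(GrMod.tilde 𝒜 ℳ n, O'),
      (GrMod.comap ψ hψ v hv n).app O' s =
        ((Scheme.Modules.pushforward (Proj.map ψ hψ)).obj (GrMod.tilde ℬ 𝒩 n)).presheaf.map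
          (homOfLE hO').op t := by
  obtain ⟨d, f, hd, hf, hyf, hfO⟩ := Groth.Agent.Lib.Helper2.RelTildeExact.exists_basicOpen_le 𝒜 O y hy
  have hψf : ψ f ∈ ℬ d := ψ.map_mem hf
  have hle : Proj.basicOpen ℬ (ψ f) ≤ Proj.map ψ hψ ⁻¹ᵁ O := (Proj.map ψ hψ).preimage_mono hfO
  let t' : Γ(GrMod.tilde ℬ 𝒩 n, Proj.basicOpen ℬ (ψ f)) :=
    (GrMod.tilde ℬ 𝒩 n).presheaf.map (homOfLE hle).op t
  obtain ⟨k, i, ⟨n', hn'⟩, hi, hval⟩ := exists_global (𝒜 := ℬ) (ℳ := 𝒩) (n := n) (f := ψ f)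
    (toSect ℬ 𝒩 n _ t') hd hψf
  -- raise the degree of the numerator
  have hpow : (ψ f) ^ k₀ ∈ ℬ (k₀ • d) := SetLike.pow_mem_graded k₀ hψf
  have hn'' : (ψ f) ^ k₀ • n' ∈ 𝒩 (k₀ • d + i) := SetLike.GradedSMul.smul_mem hpow hn'
  obtain ⟨m, hm'⟩ := hsurj (k₀ • d + i) (by
    rw [smul_eq_mul]
    nlinarith) _ hn''
  have hm : m ∈ ℳ (k₀ • d + i) :=
    mem_of_map_mem ψ ℳ 𝒩 v hv hinj (by rw [hm']; exact hn'')
  have hfk : f ^ (k + k₀) ∈ 𝒜 ((k + k₀) • d) := SetLike.pow_mem_graded (k + k₀) hf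
  have hij : ((k₀ • d + i : ℕ) : ℤ) = (((k + k₀) • d : ℕ) : ℤ) + n := by
    rw [smul_eq_mul, smul_eq_mul]
    push_cast
    rw [hi]
    ring
  have hW : ∀ z : (Proj.basicOpen 𝒜 f : (Proj 𝒜).Opens), f ^ (k + k₀) ∉ z.1.asHomogeneousIdeal :=
    fun z => pow_not_mem (k + k₀) z
  refine ⟨Proj.basicOpen 𝒜 f, hfO, hyf, ofSect 𝒜 ℳ n _ (fracOn 𝒜 ℳ n _ hm hfk hij hW), ?_⟩
  change (show Γ(GrMod.tilde ℬ 𝒩 n, Proj.basicOpen ℬ (ψ f)) from
    (GrMod.comap ψ hψ v hv n).app (Proj.basicOpen 𝒜 f)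
      (ofSect 𝒜 ℳ n _ (fracOn 𝒜 ℳ n _ hm hfk hij hW))) = t'
  apply sec_ext
  intro y' hy'
  have h1 : secVal ℬ 𝒩 n _ t' y' hy' =
      LocalizedModule.mk n' (⟨(ψ f) ^ k, fun h => (ProjectiveSpectrum.mem_basicOpen ℬ (ψ f) y').mp hy'
        (y'.isPrime.mem_of_pow_mem k h)⟩ : y'.asHomogeneousIdeal.toIdeal.primeCompl) := hval ⟨y', hy'⟩
  rw [h1]
  have h2 : secVal ℬ 𝒩 n _ (show Γ(GrMod.tilde ℬ 𝒩 n, Proj.basicOpen ℬ (ψ f)) from
      (GrMod.comap ψ hψ v hv n).app (Proj.basicOpen 𝒜 f)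
        (ofSect 𝒜 ℳ n _ (fracOn 𝒜 ℳ n _ hm hfk hij hW))) y' hy' =
      GrMod.locModMap ψ hψ v y' (LocalizedModule.mk m (⟨f ^ (k + k₀), hW ⟨_, hy'⟩⟩ :
        (ProjectiveSpectrum.comap ψ hψ y').asHomogeneousIdeal.toIdeal.primeCompl)) := rfl
  rw [h2, GrMod.locModMap_mk, LocalizedModule.mk_eq]
  refine ⟨1, ?_⟩
  simp only [one_smul, Submonoid.smul_def, map_pow]
  rw [hm', pow_add, mul_smul]

include hv in
/-- `M(n)~ ⟶ Φ_*(N(n)~)` is an isomorphism when `v : M → N` is injective and surjective in large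
degrees. -/
theorem isIso_comap' (hinj : Function.Injective v) (k₀ : ℕ)
    (hsurj : ∀ i : ℕ, k₀ ≤ i → ∀ x ∈ 𝒩 i, ∃ m : M, v m = x) :
    IsIso (GrMod.comap ψ hψ v hv n) := by
  haveI : Mono (GrMod.comap ψ hψ v hv n) :=
    Groth.Agent.Lib.Helper2.RelTildeMonoEpi.mono_of_app_injective _
      (comap_app_injective ψ hψ ℳ 𝒩 v hv n hinj)
  haveI : Epi (GrMod.comap ψ hψ v hv n) :=
    Groth.Agent.Lib.Helper23.Serre.epi_of_locally_surjective _
      (fun V t x hx => comap_locally_surjective' ψ hψ ℳ 𝒩 v hv n hinj k₀ hsurj V t x hx)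
  exact isIso_of_mono_of_epi _

end Iso


section Alpha

open Groth.Agent.Lib.Helper2GrModSect Groth.Agent.Lib.T2H5.GrAlpha

variable {A σ : Type u} [CommRing A] [SetLike σ A] [AddSubgroupClass σ A] (𝒜 : ℕ → σ)
  [GradedRing 𝒜]
variable {M τ : Type u} [AddCommGroup M] [Module A M] [SetLike τ M] [AddSubgroupClass τ M]
  (ℳ : ℕ → τ) [SetLike.GradedSMul 𝒜 ℳ] [DirectSum.Decomposition ℳ] (k : ℕ)

theorem irrelevant_le_map_zHom : 𝒜₊ ≤ ((zA 𝒜)₊).map (zHom 𝒜) := by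
  change (HomogeneousIdeal.irrelevant 𝒜).toIdeal ≤
    ((HomogeneousIdeal.irrelevant (zA 𝒜)).map (zHom 𝒜)).toIdeal
  rw [HomogeneousIdeal.toIdeal_map]
  intro b hb
  have hb' : zHom 𝒜 b ∈ HomogeneousIdeal.irrelevant 𝒜 := hb
  rw [HomogeneousIdeal.mem_irrelevant_iff, GradedRing.proj_apply,
    ← GradedRingHom.map_directSumDecompose] at hb'
  have h1 : b = zHom 𝒜 (b - (DirectSum.decompose (zA 𝒜) b 0 : A)) := by
    rw [map_sub, hb', sub_zero]
    rfl
  rw [h1]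
  apply Ideal.mem_map_of_mem
  change _ ∈ HomogeneousIdeal.irrelevant (zA 𝒜)
  rw [HomogeneousIdeal.mem_irrelevant_iff, GradedRing.proj_apply, DirectSum.decompose_sub,
    DirectSum.sub_apply, Submodule.coe_sub, DirectSum.decompose_coe, DirectSum.of_eq_same,
    sub_self]


theorem secVal_grModAlpha (n : ℕ) (m : ℳ n) (y : ProjectiveSpectrum 𝒜)
    (hy : y ∈ (⊤ : (Proj 𝒜).Opens)) :
    secVal 𝒜 ℳ n ⊤ (GrMod.alpha 𝒜 ℳ n m) y hy =
      (LocalizedModule.mk (m : M) 1 : GrMod.LocMod 𝒜 (M := M) y) := rfl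

/-- if the comparison map of the truncated module is bijective in a degree at least `k`, then
so is that of the module -/
theorem bijective_alpha_of_tail (n : ℕ) (hn : k ≤ n)
    (h : Function.Bijective (alpha (zA 𝒜) (trFam (A := A) 𝒜 ℳ k) n)) :
    Function.Bijective (GrMod.alpha 𝒜 ℳ n) := by
  have hψ := irrelevant_le_map_zHom 𝒜
  have hv := incl_mem 𝒜 ℳ k
  haveI : IsIso (GrMod.comap (zHom 𝒜) hψ (incl 𝒜 ℳ k) hv (n : ℤ)) :=
    isIso_comap' (zHom 𝒜) hψ (trFam (A := A) 𝒜 ℳ k) ℳ (incl 𝒜 ℳ k) hv (n : ℤ)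
      (incl_injective 𝒜 ℳ k) k (fun i hi x hx => by
        obtain ⟨y, -, hy⟩ := exists_incl_eq 𝒜 ℳ k hi hx
        exact ⟨y, hy⟩)
  have hiso : IsIso ((GrMod.comap (zHom 𝒜) hψ (incl 𝒜 ℳ k) hv (n : ℤ)).app ⊤) :=
    Scheme.Modules.Hom.isIso_iff_isIso_app.1 inferInstance ⊤
  have hbij : Function.Bijective ((GrMod.comap (zHom 𝒜) hψ (incl 𝒜 ℳ k) hv (n : ℤ)).app ⊤) :=
    ConcreteCategory.bijective_of_isIso _
  let c : Γ(GrMod.tilde (zA 𝒜) (trFam (A := A) 𝒜 ℳ k) (n : ℤ), ⊤) → Γ(GrMod.tilde 𝒜 ℳ (n : ℤ), ⊤) :=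
    fun σ => (GrMod.comap (zHom 𝒜) hψ (incl 𝒜 ℳ k) hv (n : ℤ)).app ⊤ σ
  have hc : Function.Bijective c := hbij
  let e : trFam (A := A) 𝒜 ℳ k n ≃ ℳ n :=
    { toFun := fun x => ⟨x.1.1, x.2.1⟩
      invFun := fun m => ⟨⟨m.1, mem_tail_of_mem ℳ k hn m.2⟩, ⟨m.2, fun h => absurd h (by omega)⟩⟩
      left_inv := fun _ => rfl
      right_inv := fun _ => rfl }
  have hcomp : (fun m => GrMod.alpha 𝒜 ℳ n m) ∘ e =
      c ∘ alpha (zA 𝒜) (trFam (A := A) 𝒜 ℳ k) n := by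
    funext m
    apply Groth.Agent.Lib.T2H5.GrSyzLoc.sec_ext'
    intro y hy
    have h1 : secVal 𝒜 ℳ (n : ℤ) ⊤ (c (alpha (zA 𝒜) (trFam (A := A) 𝒜 ℳ k) n m)) y hy =
        GrMod.locModMap (zHom 𝒜) hψ (incl 𝒜 ℳ k) y
          (secVal (zA 𝒜) (trFam (A := A) 𝒜 ℳ k) (n : ℤ) ⊤
            (alpha (zA 𝒜) (trFam (A := A) 𝒜 ℳ k) n m)
            (ProjectiveSpectrum.comap (zHom 𝒜) hψ y) trivial) :=
      rfl
    rw [Function.comp_apply, Function.comp_apply, h1, secVal_alpha, secVal_grModAlpha]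
    change _ = GrMod.locModMap (zHom 𝒜) hψ (incl 𝒜 ℳ k) y (LocalizedModule.mk m.1 1)
    rw [GrMod.locModMap_mk]
    congr 1
  have h2 : (fun m => GrMod.alpha 𝒜 ℳ n m) =
      (c ∘ alpha (zA 𝒜) (trFam (A := A) 𝒜 ℳ k) n) ∘ e.symm := by
    rw [← hcomp]
    funext m
    simp
  change Function.Bijective (fun m => GrMod.alpha 𝒜 ℳ n m)
  rw [h2]
  exact (hc.comp h).comp e.symm.bijective

end Alpha


section Main

open Groth.Agent.Lib.Helper2GrModSect Groth.Agent.Lib.T2H5.GrAlpha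

variable {A σ : Type u} [CommRing A] [SetLike σ A] [AddSubgroupClass σ A] (𝒜 : ℕ → σ)
  [GradedRing 𝒜]
variable {M τ : Type u} [AddCommGroup M] [Module A M] [SetLike τ M] [AddSubgroupClass τ M]
  (ℳ : ℕ → τ) [SetLike.GradedSMul 𝒜 ℳ] [DirectSum.Decomposition ℳ]

theorem zA_succ (hgen : (HomogeneousIdeal.irrelevant 𝒜).toIdeal = Ideal.span (𝒜 1 : Set A))
    (i : ℕ) : zA 𝒜 (i + 1) = zA 𝒜 1 * zA 𝒜 i := by
  classical
  apply le_antisymm
  · intro x hx
    have hx' : x ∈ (HomogeneousIdeal.irrelevant 𝒜).toIdeal :=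
      HomogeneousIdeal.mem_irrelevant_of_mem _ (Nat.succ_pos i) hx
    rw [hgen] at hx'
    obtain ⟨f, t, ht, -, hsum⟩ := Submodule.mem_span_iff_exists_finset_subset.1 hx'
    have h2 : (DirectSum.decompose (zA 𝒜) x (i + 1) : A) = x :=
      DirectSum.decompose_of_mem_same (zA 𝒜) hx
    rw [← h2, ← hsum, DirectSum.decompose_sum, DFinsupp.finsetSum_apply,
      AddSubmonoidClass.coe_finsetSum]
    refine Submodule.sum_mem _ fun a ha => ?_
    have ha1 : a ∈ zA 𝒜 1 := ht ha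
    rw [smul_eq_mul, DirectSum.coe_decompose_mul_add_of_right_mem (zA 𝒜) ha1, mul_comm _ a]
    exact Submodule.mul_mem_mul ha1 (SetLike.coe_mem _)
  · rw [Submodule.mul_le]
    intro a ha b hb
    have h1 : a * b ∈ 𝒜 (1 + i) := SetLike.mul_mem_graded ha hb
    rw [add_comm] at h1
    exact h1

/-- Serre's comparison theorem for a graded module with (TF) over a Noetherian graded ring
generated in degree one -/
theorem exists_bijective_grModAlpha [IsNoetherianRing A]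
    (hgen : (HomogeneousIdeal.irrelevant 𝒜).toIdeal = Ideal.span (𝒜 1 : Set A))
    (hTF : ∃ k : ℕ, (Submodule.span A (⋃ i ∈ Set.Ici k, (ℳ i : Set M))).FG) :
    ∃ N : ℕ, ∀ n : ℕ, N ≤ n → Function.Bijective (GrMod.alpha 𝒜 ℳ n) := by
  obtain ⟨k, hk⟩ := hTF
  haveI : Module.Finite A (tail (A := A) ℳ k) := Module.Finite.iff_fg.2 hk
  obtain ⟨N, hN⟩ := Groth.Agent.Lib.T2H5.GrZero.exists_bijective_alpha_of_gen (zA 𝒜)
    (trFam (A := A) 𝒜 ℳ k) (zA_succ 𝒜 hgen)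
  exact ⟨max N k, fun n hn => bijective_alpha_of_tail 𝒜 ℳ k n (le_of_max_le_right hn)
    (hN n (le_of_max_le_left hn))⟩

end Main


section Gen

open Groth.Agent.Lib.T2H5.GrPres Groth.Agent.Lib.T2H5.GrFree

variable {A σ : Type u} [CommRing A] [SetLike σ A] [AddSubgroupClass σ A] (𝒜 : ℕ → σ)
  [GradedRing 𝒜]
variable {M τ : Type u} [AddCommGroup M] [Module A M] [SetLike τ M] [AddSubgroupClass τ M]
  (ℳ : ℕ → τ) [SetLike.GradedSMul 𝒜 ℳ] [DirectSum.Decomposition ℳ] (k : ℕ)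

theorem zA_add (hgen : (HomogeneousIdeal.irrelevant 𝒜).toIdeal = Ideal.span (𝒜 1 : Set A))
    (p q : ℕ) : zA 𝒜 (p + q) = zA 𝒜 p * zA 𝒜 q := by
  induction p with
  | zero =>
    rw [zero_add]
    apply le_antisymm
    · intro x hx
      have h1 : x = 1 * x := (one_mul x).symm
      rw [h1]
      exact Submodule.mul_mem_mul (SetLike.GradedOne.one_mem (A := 𝒜)) hx
    · rw [Submodule.mul_le]
      intro a ha b hb
      have h1 : a * b ∈ 𝒜 (0 + q) := SetLike.mul_mem_graded ha hb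
      rw [zero_add] at h1
      exact h1
  | succ p ih =>
    rw [show p + 1 + q = (p + q) + 1 by omega, zA_succ 𝒜 hgen, ih, ← mul_assoc,
      ← zA_succ 𝒜 hgen]

/-- in large degrees a module with (TF) over a ring generated in degree one is generated by
any of its pieces -/
theorem exists_generation [Module.Finite A (tail (A := A) ℳ k)]
    (hgen : (HomogeneousIdeal.irrelevant 𝒜).toIdeal = Ideal.span (𝒜 1 : Set A)) :
    ∃ K : ℕ, ∀ n : ℕ, K ≤ n → ∀ (e : ℕ) (P : M → Prop), P 0 →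
      (∀ x y, P x → P y → P (x + y)) → (∀ a ∈ 𝒜 e, ∀ x ∈ ℳ n, P (a • x)) →
      ∀ m ∈ ℳ (n + e), P m := by
  obtain ⟨s, a, μ, hμ, hspan⟩ :=
    exists_homogeneous_generators (A := A) (trFam (A := A) 𝒜 ℳ k)
  refine ⟨max k (Finset.univ.sup a), fun n hn e P h0 hadd hsm m hm => ?_⟩
  have hkn : k ≤ n := le_of_max_le_left hn
  have han : ∀ j, a j ≤ n := fun j =>
    (Finset.le_sup (Finset.mem_univ j)).trans (le_of_max_le_right hn)
  obtain ⟨x, hx, rfl⟩ := exists_incl_eq 𝒜 ℳ k (by omega : k ≤ n + e) hm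
  obtain ⟨f, hf, hpres⟩ :=
    exists_hom_preimage (zA 𝒜) (trFam (A := A) 𝒜 ℳ k) hμ hspan (n + e) x hx
  have key : ∀ j, P ((f j • μ j : tail (A := A) ℳ k) : M) := by
    intro j
    have h1 : f j ∈ zA 𝒜 (n + e - a j) :=
      (mem_piece_of_le (zA 𝒜) (by have := han j; omega)).1 (hf j)
    have h2 : n + e - a j = e + (n - a j) := by have := han j; omega
    rw [h2, zA_add 𝒜 hgen] at h1
    refine Submodule.mul_induction_on h1 (fun c hc b hb => ?_) (fun c b hc hb => ?_)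
    · have h3 : (((c * b) • μ j : tail (A := A) ℳ k) : M) = c • (b • (μ j : M)) := by
        rw [mul_smul]
        rfl
      rw [h3]
      refine hsm c hc _ ?_
      have h4 : b • (μ j : M) ∈ ℳ ((n - a j) + a j) :=
        SetLike.GradedSMul.smul_mem (A := 𝒜) (B := ℳ) hb (hμ j).1
      rwa [Nat.sub_add_cancel (han j)] at h4
    · rw [add_smul]
      exact hadd _ _ hc hb
  rw [← hpres, pres_apply, incl_apply, AddSubmonoidClass.coe_finsetSum]
  exact Finset.sum_induction _ P hadd h0 (fun j _ => key j)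

end Gen


section Final

variable {A σ : Type u} [CommRing A] [SetLike σ A] [AddSubgroupClass σ A] (𝒜 : ℕ → σ)
  [GradedRing 𝒜]
variable {M τ : Type u} [AddCommGroup M] [Module A M] [SetLike τ M] [AddSubgroupClass τ M]
  (ℳ : ℕ → τ) [SetLike.GradedSMul 𝒜 ℳ] [DirectSum.Decomposition ℳ]

theorem exists_eq_mk (n : ℕ) (hsurj : Function.Surjective (GrMod.alpha 𝒜 ℳ n)) (n' : ℤ)
    (h : (n : ℤ) = n') (s : GrMod.sect 𝒜 ℳ n' (op ⊤)) :
    ∃ m : ℳ n, ∀ x, ((s.1 x : GrMod.tildeAt 𝒜 ℳ n' x.1) : GrMod.LocMod 𝒜 (M := M) x.1) =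
      LocalizedModule.mk (m : M) 1 := by
  subst h
  obtain ⟨m, hm⟩ := hsurj s
  refine ⟨m, fun x => ?_⟩
  rw [← hm]
  rfl

/-- the sections of the twists of a module with (TF) are generated over the degree-one part
from some degree on -/
theorem iSup_range_smulSect_eq_top [IsNoetherianRing A]
    (hgen : (HomogeneousIdeal.irrelevant 𝒜).toIdeal = Ideal.span (𝒜 1 : Set A))
    (hTF : ∃ k : ℕ, (Submodule.span A (⋃ i ∈ Set.Ici k, (ℳ i : Set M))).FG) :
    ∃ k : ℕ, ∀ e : ℕ,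
      (⨆ a : 𝒜 e, (GrMod.smulSect 𝒜 ℳ a (k : ℤ)
        (op (⊤ : Opens (ProjectiveSpectrum.top 𝒜)))).range) = ⊤ := by
  obtain ⟨N, hN⟩ := exists_bijective_grModAlpha 𝒜 ℳ hgen hTF
  obtain ⟨k₀, hk₀⟩ := hTF
  haveI : Module.Finite A (tail (A := A) ℳ k₀) := Module.Finite.iff_fg.2 hk₀
  obtain ⟨K, hK⟩ := exists_generation 𝒜 ℳ k₀ hgen
  refine ⟨max N K, fun e => ?_⟩
  rw [eq_top_iff]
  intro s _
  obtain ⟨m, hm⟩ := exists_eq_mk 𝒜 ℳ (max N K + e)
    (hN (max N K + e) ((le_max_left N K).trans (Nat.le_add_right _ _))).2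
    (((max N K : ℕ) : ℤ) + (e : ℤ)) (by push_cast; rfl) s
  have key := hK (max N K) (le_max_right _ _) e
    (fun m' => ∃ t ∈ (⨆ a : 𝒜 e, (GrMod.smulSect 𝒜 ℳ a ((max N K : ℕ) : ℤ)
        (op (⊤ : Opens (ProjectiveSpectrum.top 𝒜)))).range),
      ∀ x, ((t.1 x : GrMod.tildeAt 𝒜 ℳ (((max N K : ℕ) : ℤ) + (e : ℤ)) x.1) :
        GrMod.LocMod 𝒜 (M := M) x.1) = LocalizedModule.mk m' 1) ?_ ?_ ?_ m.1 m.2
  · obtain ⟨t, ht, htx⟩ := key
    have hst : s = t := Subtype.ext (funext fun x => Subtype.ext ((hm x).trans (htx x).symm))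
    rw [hst]
    exact ht
  · exact ⟨0, zero_mem _, fun x => (LocalizedModule.zero_mk _).symm⟩
  · rintro x y ⟨t, ht, htx⟩ ⟨t', ht', htx'⟩
    refine ⟨t + t', add_mem ht ht', fun z => ?_⟩
    have h1 : (((t + t').1 z : GrMod.tildeAt 𝒜 ℳ (((max N K : ℕ) : ℤ) + (e : ℤ)) z.1) :
        GrMod.LocMod 𝒜 (M := M) z.1) = ((t.1 z : GrMod.tildeAt 𝒜 ℳ _ z.1) :
          GrMod.LocMod 𝒜 (M := M) z.1) + ((t'.1 z : GrMod.tildeAt 𝒜 ℳ _ z.1) :
          GrMod.LocMod 𝒜 (M := M) z.1) := rfl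
    rw [h1, htx z, htx' z, LocalizedModule.mk_add_mk]
    simp
  · intro a ha x hx
    refine ⟨GrMod.smulSect 𝒜 ℳ ⟨a, ha⟩ ((max N K : ℕ) : ℤ) (op ⊤)
      (GrMod.globalOf 𝒜 ℳ ⟨x, hx⟩), AddSubgroup.mem_iSup_of_mem ⟨a, ha⟩ ⟨_, rfl⟩, fun z => ?_⟩
    rw [GrMod.smulSect_apply_coe, GrMod.globalOf_apply_coe, LocalizedModule.mk_smul_mk, one_mul]

end Final

end Groth.Agent.Lib.T2H5.GrTF
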