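import Mathlib
import Groth.Agent.Lib.Helper16TensorCmp2

/-!
# A co-Yoneda (Eilenberg–Watts) lemma for colimit preserving functors out of a module category (helper5)

Namespace `Groth.Agent.Lib.T2H5.HomEW`.

For an additive functor `T : ModuleCat A ⥤ 𝒞` into an abelian category which preserves coproducts and finite colimits,
morphisms `T(M) ⟶ G` are the same as `A`-linear families `ψ : M → (T(A) ⟶ G)`:
* `hom_ext` : a morphism `T(M) ⟶ G` is determined by the composites `T(θ_m) ≫ Ψ`, `θ_m : A → M`, `a ↦ a • m`;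
* `exists_desc` : every additive family `ψ` with `ψ (a • m) = T(a • 𝟙) ≫ ψ m` comes from a morphism.
-/

set_option autoImplicit false
set_option linter.style.haveILetI false
set_option linter.unusedSectionVars false
universe u v w
open CategoryTheory CategoryTheory.Limits

namespace Groth.Agent.Lib.T2H5.HomEW

open Groth.Agent.Lib.Helper16.TensorCmp

variable {A : Type u} [CommRing A] {𝒞 : Type w} [Category.{v} 𝒞] [Abelian 𝒞]
  (T : ModuleCat.{u} A ⥤ 𝒞) [T.Additive]
  [∀ J : Type u, PreservesColimitsOfShape (Discrete J) T] [PreservesFiniteColimits T]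

lemma θ_smul {M : ModuleCat.{u} A} (a : A) (x : M) :
    (θ (a • x) : ModuleCat.of A A ⟶ M) = (a • 𝟙 (ModuleCat.of A A)) ≫ θ x := by
  ext
  simp

lemma θ_add {M : ModuleCat.{u} A} (x y : M) :
    (θ (x + y) : ModuleCat.of A A ⟶ M) = θ x + θ y := by
  ext
  simp

lemma θ_zero {M : ModuleCat.{u} A} : (θ (0 : M) : ModuleCat.of A A ⟶ M) = 0 := by
  ext
  simp

/-- the free module on the underlying set of `M` -/
noncomputable abbrev L₀ (M : ModuleCat.{u} A) : ModuleCat.{u} A := ModuleCat.of A (M →₀ A)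

/-- its standard basis -/
noncomputable abbrev b₀ (M : ModuleCat.{u} A) : Module.Basis M A (L₀ M) := Finsupp.basisSingleOne

lemma θ_b₀_freeCover {M : ModuleCat.{u} A} (m : M) : θ (b₀ M m) ≫ freeCover M = θ m := by
  rw [θ_comp]
  congr 1
  simp [freeCover]

instance epi_freeCover (M : ModuleCat.{u} A) : Epi (freeCover M) :=
  (ModuleCat.epi_iff_surjective _).2 (freeCover_surjective M)

theorem hom_ext {M : ModuleCat.{u} A} {G : 𝒞} (Ψ₁ Ψ₂ : T.obj M ⟶ G)
    (h : ∀ m : M, T.map (θ m) ≫ Ψ₁ = T.map (θ m) ≫ Ψ₂) : Ψ₁ = Ψ₂ := by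
  haveI : Epi (T.map (freeCover M)) := inferInstance
  rw [← cancel_epi (T.map (freeCover M))]
  apply (isColimitOfPreserves T (isColimitCofan (L₀ M) (b₀ M))).hom_ext
  rintro ⟨m⟩
  have key : T.map (θ (b₀ M m)) ≫ T.map (freeCover M) ≫ Ψ₁ =
      T.map (θ (b₀ M m)) ≫ T.map (freeCover M) ≫ Ψ₂ := by
    rw [← T.map_comp_assoc, ← T.map_comp_assoc, θ_b₀_freeCover]
    exact h m
  exact key

section desc

variable {M : ModuleCat.{u} A} {G : 𝒞} (ψ : M → (T.obj (ModuleCat.of A A) ⟶ G))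

/-- the morphism out of `T` of the free module -/
noncomputable def cc : Cocone (Discrete.functor (fun _ : M => ModuleCat.of A A) ⋙ T) where
  pt := G
  ι := Discrete.natTrans (fun i => ψ i.as)

noncomputable def Ψ₀ : T.obj (L₀ M) ⟶ G :=
  (isColimitOfPreserves T (isColimitCofan (L₀ M) (b₀ M))).desc (cc T ψ)

lemma map_θ_b₀_Ψ₀ (m : M) : T.map (θ (b₀ M m)) ≫ Ψ₀ T ψ = ψ m :=
  (isColimitOfPreserves T (isColimitCofan (L₀ M) (b₀ M))).fac (cc T ψ) ⟨m⟩

variable (hadd : ∀ m m', ψ (m + m') = ψ m + ψ m')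
  (hsmul : ∀ (a : A) (m : M), ψ (a • m) = T.map (a • 𝟙 (ModuleCat.of A A)) ≫ ψ m)

omit [T.Additive] [∀ J : Type u, PreservesColimitsOfShape (Discrete J) T] [PreservesFiniteColimits T] in
include hadd in
lemma ψ_zero : ψ 0 = 0 := by
  have h := hadd 0 0
  rw [add_zero] at h
  exact (add_eq_left.1 h.symm)

include hadd hsmul in
lemma map_θ_Ψ₀ (l : L₀ M) : T.map (θ l) ≫ Ψ₀ T ψ = ψ ((freeCover M).hom l) := by
  induction l using Finsupp.induction_linear with
  | zero =>
    rw [θ_zero, T.map_zero, zero_comp, map_zero, ψ_zero T ψ hadd]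
  | add l l' hl hl' =>
    rw [θ_add, T.map_add, Preadditive.add_comp, hl, hl', map_add, hadd]
  | single m a =>
    have e1 : (Finsupp.single m a : L₀ M) = a • b₀ M m := by
      change Finsupp.single m a = a • Finsupp.single m (1 : A)
      rw [Finsupp.smul_single, smul_eq_mul, mul_one]
    have e2 : (freeCover M).hom (Finsupp.single m a : L₀ M) = a • m := by
      simp [freeCover]
    rw [e2, hsmul, e1, θ_smul, T.map_comp, Category.assoc, map_θ_b₀_Ψ₀]

/-- the kernel of the free cover -/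
noncomputable abbrev K (M : ModuleCat.{u} A) : Submodule A (L₀ M) := LinearMap.ker (freeCover M).hom

/-- the free module on the kernel of the free cover -/
noncomputable abbrev L₁ (M : ModuleCat.{u} A) : ModuleCat.{u} A := ModuleCat.of A (K M →₀ A)

noncomputable abbrev b₁ (M : ModuleCat.{u} A) : Module.Basis (K M) A (L₁ M) := Finsupp.basisSingleOne

/-- the presentation map -/
noncomputable abbrev d₁ (M : ModuleCat.{u} A) : L₁ M ⟶ L₀ M :=
  ModuleCat.ofHom (Finsupp.linearCombination A (fun k : K M => (k : L₀ M)))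

lemma d₁_freeCover (M : ModuleCat.{u} A) : d₁ M ≫ freeCover M = 0 := by
  ext : 1
  apply (b₁ M).ext
  intro k
  have h1 : (d₁ M).hom (b₁ M k) = (k : L₀ M) := by
    simp [d₁]
  change (freeCover M).hom ((d₁ M).hom (b₁ M k)) = 0
  rw [h1]
  exact k.2

/-- the presentation of `M` -/
noncomputable def pres (M : ModuleCat.{u} A) : ShortComplex (ModuleCat.{u} A) :=
  ShortComplex.mk (d₁ M) (freeCover M) (d₁_freeCover M)

lemma pres_exact (M : ModuleCat.{u} A) : (pres M).Exact := by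
  rw [ShortComplex.moduleCat_exact_iff_range_eq_ker]
  change LinearMap.range (Finsupp.linearCombination A (fun k : K M => (k : L₀ M))) = K M
  rw [Finsupp.range_linearCombination]
  apply le_antisymm
  · rw [Submodule.span_le]
    rintro _ ⟨k, rfl⟩
    exact k.2
  · intro x hx
    exact Submodule.subset_span ⟨⟨x, hx⟩, rfl⟩

include hadd hsmul in
lemma map_d₁_Ψ₀ : T.map (d₁ M) ≫ Ψ₀ T ψ = 0 := by
  apply (isColimitOfPreserves T (isColimitCofan (L₁ M) (b₁ M))).hom_ext
  rintro ⟨k⟩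
  have key : T.map (θ (b₁ M k)) ≫ T.map (d₁ M) ≫ Ψ₀ T ψ = T.map (θ (b₁ M k)) ≫ 0 := by
    rw [comp_zero, ← T.map_comp_assoc, θ_comp]
    have h1 : (d₁ M).hom (b₁ M k) = (k : L₀ M) := by
      simp [d₁]
    rw [h1, map_θ_Ψ₀ T ψ hadd hsmul]
    have h2 : (freeCover M).hom (k : L₀ M) = 0 := k.2
    rw [h2, ψ_zero T ψ hadd]
  exact key

include hadd hsmul in
theorem exists_desc : ∃ Ψ : T.obj M ⟶ G, ∀ m : M, T.map (θ m) ≫ Ψ = ψ m := by
  have hex : ((pres M).map T).Exact :=
    (pres_exact M).map_of_epi_of_preservesCokernel T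
      (inferInstanceAs (Epi (freeCover M))) inferInstance
  haveI : Epi ((pres M).map T).g := inferInstanceAs (Epi (T.map (freeCover M)))
  refine ⟨hex.desc (Ψ₀ T ψ) (map_d₁_Ψ₀ T ψ hadd hsmul), fun m => ?_⟩
  have h1 : T.map (freeCover M) ≫ hex.desc (Ψ₀ T ψ) (map_d₁_Ψ₀ T ψ hadd hsmul) = Ψ₀ T ψ :=
    hex.g_desc _ _
  rw [← θ_b₀_freeCover, T.map_comp, Category.assoc, h1, map_θ_b₀_Ψ₀]

end desc

end Groth.Agent.Lib.T2H5.HomEW
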