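import Mathlib
import Groth.Agent.Lib.T2H5HilbPoly
import Groth.Agent.Lib.T2H5CohSigma

/-!
# T2H5K0Add: additive functions on coherent modules on a locally Noetherian scheme (helper5)

A function `φ` from modules to an abelian group which is additive on short exact sequences of
coherent modules: values on zero objects, isomorphic objects, biproducts, finite coproducts, and
alternating sums along exact complexes and along resolutions.
-/

set_option autoImplicit false
set_option linter.style.haveILetI false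
set_option linter.unusedSectionVars false
universe u

open CategoryTheory CategoryTheory.Limits AlgebraicGeometry ZeroObject

namespace Groth.Agent.Lib.T2H5.K0Add

open Groth.Agent.Lib.Helper23.QCohLocal Groth.Agent.Lib.T2H5.HilbPoly

variable {X : Scheme.{u}} [IsLocallyNoetherian X] {G : Type*} [AddCommGroup G]
  (φ : X.Modules → G)

/-- additivity on short exact sequences of coherent modules -/
def IsAdd : Prop :=
  ∀ S : ShortComplex X.Modules, S.ShortExact → Coh.IsCoh S.X₁ → Coh.IsCoh S.X₂ → Coh.IsCoh S.X₃ →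
    φ S.X₂ = φ S.X₁ + φ S.X₃

variable {φ} (hφ : IsAdd φ) (O : X.Modules) (hO : Coh.IsCoh O)

include hφ hO

theorem map_isZero {T : X.Modules} (hT : IsZero T) : φ T = 0 := by
  have hc : Coh.IsCoh T := isCoh_of_isZero O T hO hT
  let S : ShortComplex X.Modules := ShortComplex.mk (0 : T ⟶ T) (0 : T ⟶ T) (by simp)
  have hS : S.ShortExact :=
    { exact := ShortComplex.exact_of_isZero_X₂ _ hT
      mono_f := ⟨fun _ _ _ => hT.eq_of_tgt _ _⟩
      epi_g := ⟨fun _ _ _ => hT.eq_of_src _ _⟩ }
  have h : φ T = φ T + φ T := hφ S hS hc hc hc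
  have := congrArg (fun t => t - φ T) h
  simpa using this.symm

theorem isCoh_of_iso {A B : X.Modules} (e : A ≅ B) (hA : Coh.IsCoh A) : Coh.IsCoh B := by
  haveI : A.IsQuasicoherent := hA.1
  haveI : SheafOfModules.IsFiniteType (R := X.ringCatSheaf) A := hA.2
  haveI : B.IsQuasicoherent := Groth.Agent.Lib.Helper23.TensorQCoh.isQuasicoherent_of_iso e
  exact ⟨inferInstance, Groth.Agent.Lib.Helper23.FinType.isFiniteType_of_epi e.hom⟩

theorem map_iso {A B : X.Modules} (e : A ≅ B) (hA : Coh.IsCoh A) : φ A = φ B := by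
  have hB : Coh.IsCoh B := isCoh_of_iso hφ O hO e hA
  have hz : IsZero (0 : X.Modules) := isZero_zero _
  let S : ShortComplex X.Modules := ShortComplex.mk e.hom (0 : B ⟶ 0) (by simp)
  have hS : S.ShortExact :=
    { exact := by
        have : Epi S.f := by dsimp [S]; infer_instance
        exact (ShortComplex.exact_iff_epi _ rfl).2 this
      mono_f := by dsimp [S]; infer_instance
      epi_g := ⟨fun _ _ _ => hz.eq_of_src _ _⟩ }
  have h : φ B = φ A + φ (0 : X.Modules) := hφ S hS hA hB (isCoh_of_isZero O _ hO hz)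
  rw [map_isZero hφ O hO hz, add_zero] at h
  exact h.symm

theorem map_biprod (A B : X.Modules) (hA : Coh.IsCoh A) (hB : Coh.IsCoh B) :
    φ (A ⊞ B) = φ A + φ B := by
  let S : ShortComplex X.Modules :=
    ShortComplex.mk (biprod.inl : A ⟶ A ⊞ B) (biprod.snd : A ⊞ B ⟶ B) biprod.inl_snd
  have hS : S.ShortExact := (ShortComplex.Splitting.ofHasBinaryBiproduct A B).shortExact
  exact hφ S hS hA (isCoh_biprod A B hA hB) hB

/-- the alternating sum of the values along an exact complex vanishes -/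
theorem sum_eq_zero (Y : ℕ → X.Modules) (d : ∀ p, Y p ⟶ Y (p + 1))
    (dd : ∀ p, d p ≫ d (p + 1) = 0)
    (hex : ∀ p, (ShortComplex.mk (d p) (d (p + 1)) (dd p)).Exact) (hmono : Mono (d 0))
    (hY : ∀ p, Coh.IsCoh (Y p)) (N : ℕ) (hz : IsZero (Y (N + 1))) :
    ∑ p ∈ Finset.range (N + 1), (-1 : ℤ) ^ p • φ (Y p) = 0 := by
  have hK : ∀ p, Coh.IsCoh (kernel (d p)) := by
    intro p
    have hKq : (kernel (d p)).IsQuasicoherent :=
      @isQuasicoherent_kernel _ _ _ (hY p).1 (hY (p + 1)).1 (d p)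
    exact Groth.Agent.S0046.result _ _ _ (kernel.ι (d p)) (hY p) hKq
  have key : ∀ p, ∑ q ∈ Finset.range p, (-1 : ℤ) ^ q • φ (Y q) =
      -((-1 : ℤ) ^ p • φ (kernel (d p))) := by
    intro p
    induction p with
    | zero =>
      have h0 : φ (kernel (d 0)) = 0 := map_isZero hφ O hO (isZero_kernel_of_mono (d 0))
      rw [h0]
      simp
    | succ p ih =>
      obtain ⟨g, w, hS⟩ := shortExact_kernel Y d dd hex p
      have hadd := hφ _ hS (hK p) (hY p) (hK (p + 1))
      change φ (Y p) = φ (kernel (d p)) + φ (kernel (d (p + 1))) at hadd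
      rw [Finset.sum_range_succ, ih, hadd, pow_succ, smul_add, mul_neg_one, neg_smul]
      abel
  rw [key (N + 1)]
  have hzK : IsZero (kernel (d (N + 1))) := by
    have hι : kernel.ι (d (N + 1)) = 0 := hz.eq_of_tgt _ _
    rw [IsZero.iff_id_eq_zero, ← cancel_mono (kernel.ι (d (N + 1))), hι, comp_zero, comp_zero]
  rw [map_isZero hφ O hO hzK]
  simp

/-- the value on a module is the alternating sum of the values along a finite resolution -/
theorem eq_sum_of_resolution_aux (E : ℕ → X.Modules) (δ : ∀ j, E (j + 1) ⟶ E j)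
    (hE : ∀ j, Coh.IsCoh (E j)) (hzero : ∀ j, δ (j + 1) ≫ δ j = 0)
    (hex : ∀ j, (ShortComplex.mk (δ (j + 1)) (δ j) (hzero j)).Exact) (N : ℕ)
    (hz : ∀ j, N < j → IsZero (E j)) :
    ∀ (K j : ℕ), N + 1 ≤ j + K → ∀ (M : X.Modules) (_ : Coh.IsCoh M) (ε : E j ⟶ M) (_ : Epi ε)
      (w : δ j ≫ ε = 0), (ShortComplex.mk (δ j) ε w).Exact →
      φ M = ∑ i ∈ Finset.range K, (-1 : ℤ) ^ i • φ (E (j + i)) := by
  intro K
  induction K with
  | zero =>
    intro j hj M hM ε hε w hexact
    have hEz : IsZero (E j) := hz j (by omega)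
    have hMz : IsZero M := by
      rw [IsZero.iff_id_eq_zero, ← cancel_epi ε, hEz.eq_of_src (ε ≫ 𝟙 M) (ε ≫ 0)]
    rw [map_isZero hφ O hO hMz]
    simp
  | succ K ih =>
    intro j hj M hM ε hε w hexact
    have hS : (ShortComplex.mk (kernel.ι ε) ε (kernel.condition ε)).ShortExact :=
      { exact := ShortComplex.exact_kernel ε }
    have hKq : (kernel ε).IsQuasicoherent :=
      @isQuasicoherent_kernel _ _ _ (hE j).1 hM.1 ε
    have hK : Coh.IsCoh (kernel ε) :=
      Groth.Agent.S0046.result _ _ _ (kernel.ι ε) (hE j) hKq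
    have hadd : φ (E j) = φ (kernel ε) + φ M := hφ _ hS hK (hE j) hM
    have hepi : Epi (kernel.lift ε (δ j) w) :=
      (ShortComplex.exact_iff_epi_kernel_lift (ShortComplex.mk (δ j) ε w)).mp hexact
    have w' : δ (j + 1) ≫ kernel.lift ε (δ j) w = 0 := by
      rw [← cancel_mono (kernel.ι ε), Category.assoc, kernel.lift_ι, zero_comp]
      exact hzero j
    have hexact' : (ShortComplex.mk (δ (j + 1)) (kernel.lift ε (δ j) w) w').Exact := by
      let ψ : ShortComplex.mk (δ (j + 1)) (kernel.lift ε (δ j) w) w' ⟶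
          ShortComplex.mk (δ (j + 1)) (δ j) (hzero j) :=
        { τ₁ := 𝟙 _
          τ₂ := 𝟙 _
          τ₃ := kernel.ι ε
          comm₁₂ := by simp
          comm₂₃ := by simp }
      haveI : Epi ψ.τ₁ := by change Epi (𝟙 _); infer_instance
      haveI : IsIso ψ.τ₂ := by change IsIso (𝟙 _); infer_instance
      haveI : Mono ψ.τ₃ := by change Mono (kernel.ι ε); infer_instance
      exact (ShortComplex.exact_iff_of_epi_of_isIso_of_mono ψ).mpr (hex j)
    have hrec := ih (j + 1) (by omega) (kernel ε) hK (kernel.lift ε (δ j) w) hepi w' hexact'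
    rw [Finset.sum_range_succ', pow_zero, one_smul, add_zero, hadd, hrec]
    have : ∀ i ∈ Finset.range K, (-1 : ℤ) ^ (i + 1) • φ (E (j + (i + 1))) =
        -((-1 : ℤ) ^ i • φ (E (j + 1 + i))) := by
      intro i _
      rw [pow_succ, mul_neg_one, neg_smul, show j + (i + 1) = j + 1 + i by omega]
    rw [Finset.sum_congr rfl this, Finset.sum_neg_distrib]
    abel

theorem eq_sum_of_resolution (E : ℕ → X.Modules) (δ : ∀ j, E (j + 1) ⟶ E j)
    (hE : ∀ j, Coh.IsCoh (E j)) (hzero : ∀ j, δ (j + 1) ≫ δ j = 0)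
    (hex : ∀ j, (ShortComplex.mk (δ (j + 1)) (δ j) (hzero j)).Exact) (N : ℕ)
    (hz : ∀ j, N < j → IsZero (E j)) (M : X.Modules) (hM : Coh.IsCoh M) (ε : E 0 ⟶ M)
    (hε : Epi ε) (w : δ 0 ≫ ε = 0) (hexact : (ShortComplex.mk (δ 0) ε w).Exact) :
    φ M = ∑ i ∈ Finset.range (N + 1), (-1 : ℤ) ^ i • φ (E i) := by
  have h := eq_sum_of_resolution_aux hφ O hO E δ hE hzero hex N hz (N + 1) 0 (by omega) M hM ε hε
    w hexact
  rw [h]
  refine Finset.sum_congr rfl (fun i _ => ?_)
  rw [zero_add]

omit hφ hO [IsLocallyNoetherian X] in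
theorem isCoh_sigma {m : ℕ} (f : Fin m → X.Modules) (hf : ∀ j, Coh.IsCoh (f j)) :
    Coh.IsCoh (∐ f) :=
  ⟨Groth.Agent.Lib.T2H5.CohSigma.isQuasicoherent_sigma f (fun j => (hf j).1),
    Groth.Agent.Lib.T2H5.CohSigma.isFiniteType_sigma f (fun j => (hf j).1) (fun j => (hf j).2)⟩

/-- splitting off the first summand of a finite coproduct -/
noncomputable def sigmaSuccIso {m : ℕ} (f : Fin (m + 1) → X.Modules) :
    ∐ f ≅ f 0 ⊞ ∐ (fun i : Fin m => f i.succ) :=
  IsColimit.coconePointUniqueUpToIso (coproductIsCoproduct f)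
    (extendCofanIsColimit f (coproductIsCoproduct (fun i : Fin m => f i.succ))
      (BinaryBiproduct.isColimit (f 0) (∐ (fun i : Fin m => f i.succ))))

/-- the value on a finite coproduct is the sum of the values -/
theorem map_sigma : ∀ {m : ℕ} (f : Fin m → X.Modules) (_ : ∀ j, Coh.IsCoh (f j)),
    φ (∐ f) = ∑ j, φ (f j) := by
  intro m
  induction m with
  | zero =>
    intro f hf
    have hz : IsZero (∐ f) := by
      rw [IsZero.iff_id_eq_zero]
      exact Sigma.hom_ext _ _ (fun j => j.elim0)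
    rw [map_isZero hφ O hO hz]
    simp
  | succ m ih =>
    intro f hf
    have hc := isCoh_sigma f hf
    have hc' := isCoh_sigma (fun i : Fin m => f i.succ) (fun i => hf i.succ)
    rw [map_iso hφ O hO (sigmaSuccIso f) hc, map_biprod hφ O hO _ _ (hf 0) hc',
      ih (fun i : Fin m => f i.succ) (fun i => hf i.succ), Fin.sum_univ_succ]

end Groth.Agent.Lib.T2H5.K0Add
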