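import Mathlib

/-!
# T2H5K0Rel: a sequence satisfying the binomial (Koszul) relation is determined by `n`
consecutive values (helper5)
-/

set_option autoImplicit false
set_option linter.style.haveILetI false
set_option linter.unusedSectionVars false

namespace Groth.Agent.Lib.T2H5.K0Rel

variable {G : Type*} [AddCommGroup G] (t : ℤ → G) (H : AddSubgroup G) (n : ℕ)

theorem mem_of_neg_one_pow_smul_mem (x : G) (h : (-1 : ℤ) ^ n • x ∈ H) : x ∈ H := by
  rcases Nat.even_or_odd n with he | ho
  · rw [he.neg_one_pow, one_smul] at h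
    exact h
  · rw [ho.neg_one_pow, neg_smul, one_smul] at h
    exact (AddSubgroup.neg_mem_iff H).mp h

variable (hrel : ∀ a : ℤ, ∑ p ∈ Finset.range (n + 1),
    (-1 : ℤ) ^ p • ((n.choose p) • t (a + p)) = 0)
  (hbase : ∀ i : ℕ, i < n → t (-(i : ℤ)) ∈ H)

include hrel hbase

theorem mem_nonneg (hn : 0 < n) : ∀ m : ℕ, t (m : ℤ) ∈ H := by
  intro m
  induction m using Nat.strong_induction_on with
  | _ m ih =>
    rcases Nat.eq_zero_or_pos m with h0 | hpos
    · subst h0
      have := hbase 0 hn
      simpa using this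
    · have h := hrel ((m : ℤ) - n)
      rw [Finset.sum_range_succ, Nat.choose_self, one_smul] at h
      have e : (m : ℤ) - n + (n : ℕ) = m := by ring
      rw [e] at h
      have hsum : ∑ p ∈ Finset.range n, (-1 : ℤ) ^ p • ((n.choose p) • t ((m : ℤ) - n + p)) ∈ H := by
        refine H.sum_mem (fun p hp => ?_)
        have hp' : p < n := Finset.mem_range.mp hp
        refine H.zsmul_mem (H.nsmul_mem ?_ _) _
        by_cases hneg : (m : ℤ) - n + p < 0
        · obtain ⟨i, hi⟩ := Int.eq_ofNat_of_zero_le (show 0 ≤ -((m : ℤ) - n + p) by omega)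
          have hi' : (m : ℤ) - n + p = -(i : ℤ) := by omega
          rw [hi']
          exact hbase i (by omega)
        · obtain ⟨i, hi⟩ := Int.eq_ofNat_of_zero_le (show 0 ≤ (m : ℤ) - n + p by omega)
          rw [hi]
          exact ih i (by omega)
      have h2 : (-1 : ℤ) ^ n • t (m : ℤ) =
          -∑ p ∈ Finset.range n, (-1 : ℤ) ^ p • ((n.choose p) • t ((m : ℤ) - n + p)) :=
        eq_neg_of_add_eq_zero_right h
      exact mem_of_neg_one_pow_smul_mem H n _ (h2 ▸ H.neg_mem hsum)

theorem mem_nonpos : ∀ m : ℕ, t (-(m : ℤ)) ∈ H := by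
  intro m
  induction m using Nat.strong_induction_on with
  | _ m ih =>
    by_cases hm : m < n
    · exact hbase m hm
    · have h := hrel (-(m : ℤ))
      rw [Finset.sum_range_succ', Nat.choose_zero_right, pow_zero, one_smul, one_smul] at h
      have e : -(m : ℤ) + ((0 : ℕ) : ℤ) = -(m : ℤ) := by simp
      rw [e] at h
      have hsum : ∑ p ∈ Finset.range n,
          (-1 : ℤ) ^ (p + 1) • ((n.choose (p + 1)) • t (-(m : ℤ) + ((p + 1 : ℕ) : ℤ))) ∈ H := by
        refine H.sum_mem (fun p hp => ?_)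
        have hp' : p < n := Finset.mem_range.mp hp
        refine H.zsmul_mem (H.nsmul_mem ?_ _) _
        have hi' : -(m : ℤ) + ((p + 1 : ℕ) : ℤ) = -((m - (p + 1) : ℕ) : ℤ) := by
          push_cast [Nat.cast_sub (show p + 1 ≤ m by omega)]
          ring
        rw [hi']
        exact ih _ (by omega)
      have h2 : t (-(m : ℤ)) = -∑ p ∈ Finset.range n,
          (-1 : ℤ) ^ (p + 1) • ((n.choose (p + 1)) • t (-(m : ℤ) + ((p + 1 : ℕ) : ℤ))) :=
        eq_neg_of_add_eq_zero_right h
      rw [h2]
      exact H.neg_mem hsum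

theorem mem_all (hn : 0 < n) (d : ℤ) : t d ∈ H := by
  rcases le_total 0 d with h | h
  · obtain ⟨m, rfl⟩ := Int.eq_ofNat_of_zero_le h
    exact mem_nonneg t H n hrel hbase hn m
  · obtain ⟨m, hm⟩ := Int.eq_ofNat_of_zero_le (show 0 ≤ -d by omega)
    have : d = -(m : ℤ) := by omega
    rw [this]
    exact mem_nonpos t H n hrel hbase m

end Groth.Agent.Lib.T2H5.K0Rel
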