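import Mathlib
import Groth.Agent.Lib.T2H5GrSyzMain
import Groth.Agent.Lib.T2H5GrSyzExt
import Groth.Agent.Lib.Helper27ProjGamma2
import Groth.Agent.Lib.Helper13RegLin
import Groth.Agent.S3551

/-!
# T2H5ResTwists: a coherent module on projective space over a field has a resolution of length
at most `n + 1` by finite sums of twisting modules (helper5)
-/

set_option autoImplicit false
set_option linter.style.haveILetI false
set_option linter.unusedSectionVars false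
universe u

open CategoryTheory CategoryTheory.Limits AlgebraicGeometry

namespace Groth.Agent.Lib.T2H5.ResTwists

open Groth.Agent.Lib.T2H5.GrSyzAlg Groth.Agent.Lib.T2H5.GrSyzLoc Groth.Agent.Lib.T2H5.GrSyzSame
  Groth.Agent.Lib.T2H5.GrSyzMain Groth.Agent.Lib.T2H5.GrSyzExt

theorem exact_mk_congr {C : Type*} [Category C] [HasZeroMorphisms C] {X Y Z : C}
    {f f' : X ⟶ Y} {g g' : Y ⟶ Z} (w : f ≫ g = 0) (w' : f' ≫ g' = 0) (hf : f = f')
    (hg : g = g') (h : (ShortComplex.mk f g w).Exact) : (ShortComplex.mk f' g' w').Exact := by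
  subst hf
  subst hg
  exact h

variable (k : Type u) [Field k] (r : ℕ)

local notation "SS" => MvPolynomial (Fin (r + 1)) k
local notation "𝒢" => CohB1.polyGrading r k

/-- the irrelevant ideal of the polynomial ring is generated by the variables -/
theorem irrelevant_eq [DecidableEq (MvPolynomial (Fin (r + 1)) k)] :
    (HomogeneousIdeal.irrelevant 𝒢).toIdeal =
      Ideal.span ((Finset.univ.image
        (fun i : Fin (r + 1) => (MvPolynomial.X i : SS)) : Finset SS) : Set SS) := by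
  apply le_antisymm
  · refine (Groth.Agent.Lib.Helper27ProjGamma.irrelevant_le r k).trans (Ideal.span_mono ?_)
    rintro _ ⟨i, rfl⟩
    exact Finset.mem_coe.mpr (Finset.mem_image.mpr ⟨i, Finset.mem_univ i, rfl⟩)
  · rw [Ideal.span_le]
    intro x hx
    obtain ⟨i, _, rfl⟩ := Finset.mem_image.mp (Finset.mem_coe.mp hx)
    change _ ∈ (HomogeneousIdeal.irrelevant 𝒢)
    rw [HomogeneousIdeal.mem_irrelevant_iff, GradedRing.proj_apply]
    exact DirectSum.decompose_of_mem_ne 𝒢 (Groth.Agent.Lib.Helper27ProjGamma.hX r k i) one_ne_zero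

theorem isZero_EE {m : ℕ} (c : Fin m → ℤ) (hm : m = 0) : IsZero (EE k r c) := by
  subst hm
  rw [IsZero.iff_id_eq_zero, ← sum_pr_inc k r c]
  exact Finset.sum_of_isEmpty _

section Res

variable {M : Type u} [AddCommGroup M] [Module k M] [Module (MvPolynomial (Fin (r + 1)) k) M]
  [IsScalarTower k (MvPolynomial (Fin (r + 1)) k) M]
  (ℳ : ℤ → Submodule k M) [DirectSum.Decomposition ℳ]
  [SetLike.GradedSMul (GrSyz.stdGr k (Fin (r + 1))) ℳ]
  [SetLike.GradedSMul (CohB1.polyGrading r k) (fun n : ℕ => ℳ (n : ℤ))]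
  (F : GrSyz.FreeRes (GrSyz.stdGr k (Fin (r + 1))) ℳ)

/-- the sheafified resolution as a chain complex -/
noncomputable def CC : ChainComplex (CohB1.ProjSpace r k).Modules ℕ :=
  ChainComplex.of (Et k r ℳ F) (dt k r ℳ F) (dt_comp k r ℳ F)

theorem CC_d (j : ℕ) : (CC k r ℳ F).d (j + 1) j = dt k r ℳ F j :=
  ChainComplex.of_d _ _ j

theorem isZero_homology_CC (i : ℕ) (hi : 1 ≤ i) : IsZero ((CC k r ℳ F).homology i) := by
  obtain ⟨j, rfl⟩ : ∃ j, i = j + 1 := ⟨i - 1, by omega⟩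
  rw [← HomologicalComplex.exactAt_iff_isZero_homology,
    HomologicalComplex.exactAt_iff' (CC k r ℳ F) (j + 1 + 1) (j + 1) j
      (ChainComplex.prev ℕ (j + 1)) (ChainComplex.next_nat_succ j)]
  exact exact_mk_congr _ _ (CC_d k r ℳ F (j + 1)).symm (CC_d k r ℳ F j).symm
    (dt_exact k r ℳ F j)

theorem exists_resolution (hlen : F.HasLengthLE (r + 1)) (G : (CohB1.ProjSpace r k).Modules)
    (e : Mt k r ℳ ≅ G) :
    ∃ (C : ChainComplex (CohB1.ProjSpace r k).Modules ℕ) (π : C.X 0 ⟶ G)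
      (w : C.d 1 0 ≫ π = 0),
      (∀ i : ℕ, r + 1 < i → IsZero (C.X i)) ∧
      (∀ i : ℕ, ∃ (m : ℕ) (d : Fin m → ℤ),
        Nonempty (C.X i ≅ ∐ fun j : Fin m => Twist.twistProjSpace r k (d j))) ∧
      (∀ i : ℕ, 1 ≤ i → IsZero (C.homology i)) ∧ Epi π ∧
      (ShortComplex.mk (C.d 1 0) π w).Exact := by
  have hd : (CC k r ℳ F).d 1 0 = dt k r ℳ F 0 := CC_d k r ℳ F 0
  have w : (CC k r ℳ F).d 1 0 ≫ (augt k r ℳ F ≫ e.hom) = 0 := by
    rw [hd]
    exact (Category.assoc _ _ _).symm.trans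
      ((congrArg (fun f => f ≫ e.hom) (dt_augt k r ℳ F)).trans zero_comp)
  refine ⟨CC k r ℳ F, augt k r ℳ F ≫ e.hom, w, ?_, ?_, isZero_homology_CC k r ℳ F, ?_, ?_⟩
  · intro i hi
    exact isZero_EE k r (F.deg i) (hlen i hi)
  · intro i
    exact ⟨F.rk i, fun b => -(F.deg i b), ⟨freeIso k r (F.deg i)⟩⟩
  · exact @epi_comp _ _ _ _ _ (augt k r ℳ F) (epi_augt k r ℳ F) e.hom _
  · refine ShortComplex.exact_of_iso ?_ (augt_exact k r ℳ F)
    refine ShortComplex.isoMk (Iso.refl _) (Iso.refl _) e ?_ ?_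
    · change 𝟙 _ ≫ (CC k r ℳ F).d 1 0 = dt k r ℳ F 0 ≫ 𝟙 _
      rw [hd, Category.id_comp, Category.comp_id]
    · change 𝟙 _ ≫ (augt k r ℳ F ≫ e.hom) = augt k r ℳ F ≫ e.hom
      rw [Category.id_comp]

end Res

/-- **Resolution by sums of twisting modules** on projective space over a field. -/
theorem exists_resolution_of_isCoh (G : (CohB1.ProjSpace r k).Modules) (hG : Coh.IsCoh G) :
    ∃ (C : ChainComplex (CohB1.ProjSpace r k).Modules ℕ) (π : C.X 0 ⟶ G)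
      (w : C.d 1 0 ≫ π = 0),
      (∀ i : ℕ, r + 1 < i → IsZero (C.X i)) ∧
      (∀ i : ℕ, ∃ (m : ℕ) (d : Fin m → ℤ),
        Nonempty (C.X i ≅ ∐ fun j : Fin m => Twist.twistProjSpace r k (d j))) ∧
      (∀ i : ℕ, 1 ≤ i → IsZero (C.homology i)) ∧ Epi π ∧
      (ShortComplex.mk (C.d 1 0) π w).Exact := by
  classical
  obtain ⟨N, _, _, _, _, 𝒩, _, _, hfin, ⟨e⟩⟩ :=
    Groth.Agent.S3551.result 𝒢
      (Finset.univ.image (fun i : Fin (r + 1) => (MvPolynomial.X i : SS)))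
      (by
        intro f hf
        obtain ⟨i, _, rfl⟩ := Finset.mem_image.mp hf
        exact Groth.Agent.Lib.Helper27ProjGamma.hX r k i)
      (irrelevant_eq k r) G hG.1 hG.2
  letI := decomposition_ext k 𝒩
  haveI := gradedSMul_ext k r 𝒩
  haveI := gradedSMul_ext_nat k r 𝒩
  obtain ⟨Fr, hmin⟩ := Groth.Agent.Helper13MinRes.exists_freeRes_isMinimal (k := k)
    (σ := Fin (r + 1)) (ext k 𝒩)
  have hlen := Groth.Agent.Helper13RegLin.hasLengthLE_of_isMinimal Fr hmin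
  have h1 : FracLE (fun n : ℕ => ext k 𝒩 (n : ℤ)) 𝒩 0 0 := by
    intro i j m hm _
    refine ⟨i, ?_, Or.inl (by omega)⟩
    have h : m ∈ ext k 𝒩 (i : ℤ) := hm
    rw [ext_natCast] at h
    exact h
  have h2 : FracLE 𝒩 (fun n : ℕ => ext k 𝒩 (n : ℤ)) 0 0 := by
    intro i j m hm _
    refine ⟨i, ?_, Or.inl (by omega)⟩
    change m ∈ ext k 𝒩 (i : ℤ)
    rw [ext_natCast]
    exact hm
  exact exists_resolution k r (ext k 𝒩) Fr hlen G (sameIso 𝒢 h1 h2 ≪≫ e)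

/-- **Resolution by sums of twisting modules**, as a sequence of modules and maps. -/
theorem exists_seq_resolution_of_isCoh (G : (CohB1.ProjSpace r k).Modules) (hG : Coh.IsCoh G) :
    ∃ (E : ℕ → (CohB1.ProjSpace r k).Modules) (δ : ∀ j, E (j + 1) ⟶ E j)
      (hzero : ∀ j, δ (j + 1) ≫ δ j = 0) (ε : E 0 ⟶ G) (w : δ 0 ≫ ε = 0),
      (∀ j, (ShortComplex.mk (δ (j + 1)) (δ j) (hzero j)).Exact) ∧ Epi ε ∧
      (ShortComplex.mk (δ 0) ε w).Exact ∧ (∀ j : ℕ, r + 1 < j → IsZero (E j)) ∧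
      (∀ j : ℕ, ∃ (m : ℕ) (d : Fin m → ℤ),
        Nonempty (E j ≅ ∐ fun b : Fin m => Twist.twistProjSpace r k (d b))) := by
  classical
  obtain ⟨N, _, _, _, _, 𝒩, _, _, hfin, ⟨e⟩⟩ :=
    Groth.Agent.S3551.result 𝒢
      (Finset.univ.image (fun i : Fin (r + 1) => (MvPolynomial.X i : SS)))
      (by
        intro f hf
        obtain ⟨i, _, rfl⟩ := Finset.mem_image.mp hf
        exact Groth.Agent.Lib.Helper27ProjGamma.hX r k i)
      (irrelevant_eq k r) G hG.1 hG.2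
  letI := decomposition_ext k 𝒩
  haveI := gradedSMul_ext k r 𝒩
  haveI := gradedSMul_ext_nat k r 𝒩
  obtain ⟨Fr, hmin⟩ := Groth.Agent.Helper13MinRes.exists_freeRes_isMinimal (k := k)
    (σ := Fin (r + 1)) (ext k 𝒩)
  have hlen := Groth.Agent.Helper13RegLin.hasLengthLE_of_isMinimal Fr hmin
  have h1 : FracLE (fun n : ℕ => ext k 𝒩 (n : ℤ)) 𝒩 0 0 := by
    intro i j m hm _
    refine ⟨i, ?_, Or.inl (by omega)⟩
    have h : m ∈ ext k 𝒩 (i : ℤ) := hm
    rw [ext_natCast] at h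
    exact h
  have h2 : FracLE 𝒩 (fun n : ℕ => ext k 𝒩 (n : ℤ)) 0 0 := by
    intro i j m hm _
    refine ⟨i, ?_, Or.inl (by omega)⟩
    change m ∈ ext k 𝒩 (i : ℤ)
    rw [ext_natCast]
    exact hm
  let e' : Mt k r (ext k 𝒩) ≅ G := sameIso 𝒢 h1 h2 ≪≫ e
  have w : dt k r (ext k 𝒩) Fr 0 ≫ (augt k r (ext k 𝒩) Fr ≫ e'.hom) = 0 :=
    (Category.assoc _ _ _).symm.trans
      ((congrArg (fun f => f ≫ e'.hom) (dt_augt k r (ext k 𝒩) Fr)).trans zero_comp)
  refine ⟨Et k r (ext k 𝒩) Fr, dt k r (ext k 𝒩) Fr, dt_comp k r (ext k 𝒩) Fr,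
    augt k r (ext k 𝒩) Fr ≫ e'.hom, w, dt_exact k r (ext k 𝒩) Fr,
    @epi_comp _ _ _ _ _ (augt k r (ext k 𝒩) Fr) (epi_augt k r (ext k 𝒩) Fr) e'.hom _, ?_, ?_, ?_⟩
  · refine ShortComplex.exact_of_iso ?_ (augt_exact k r (ext k 𝒩) Fr)
    refine ShortComplex.isoMk (Iso.refl _) (Iso.refl _) e' ?_ ?_
    · change 𝟙 _ ≫ dt k r (ext k 𝒩) Fr 0 = dt k r (ext k 𝒩) Fr 0 ≫ 𝟙 _
      rw [Category.id_comp, Category.comp_id]
    · change 𝟙 _ ≫ (augt k r (ext k 𝒩) Fr ≫ e'.hom) = augt k r (ext k 𝒩) Fr ≫ e'.hom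
      rw [Category.id_comp]
  · intro j hj
    exact isZero_EE k r (Fr.deg j) (hlen j hj)
  · intro j
    exact ⟨Fr.rk j, fun b => -(Fr.deg j b), ⟨freeIso k r (Fr.deg j)⟩⟩

end Groth.Agent.Lib.T2H5.ResTwists
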