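import Mathlib
import Groth.Agent.Lib.T2H5K0Add
import Groth.Agent.Lib.T2H5K0Rel
import Groth.Agent.Lib.T2H5ResTwists
import Groth.Agent.Lib.Helper17K0a
import Groth.Agent.Lib.T2H5EulerPn

/-!
# T2H5K0Pn: the Grothendieck group of coherent modules on projective space over a field is free
on the classes of `O, O(-1), …, O(-r)` (helper5)
-/

set_option autoImplicit false
set_option linter.style.haveILetI false
set_option linter.unusedSectionVars false
universe u

open CategoryTheory CategoryTheory.Limits AlgebraicGeometry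

namespace Groth.Agent.Lib.T2H5.K0Pn

open Groth.Agent.Lib.T2H5.K0Add Groth.Agent.Lib.T2H5.K0Rel Groth.Agent.Lib.T2H5.HilbPoly
  Groth.Agent.Lib.T2H5.KosPn Groth.Agent.Lib.T2H5.KosStage Groth.Agent.Lib.T2H5.Twist
  Groth.Agent.Lib.T2H5.PnFinite Groth.Agent.Lib.T2H5.EulerLen Groth.Agent.Lib.T2H5.EulerAlg

variable (k : Type u) [Field k] (r : ℕ)

local instance instLN : IsLocallyNoetherian (CohB1.ProjSpace r k) :=
  isLocallyNoetherian_projSpace r k

section Additive

variable {G : Type*} [AddCommGroup G] {φ : (CohB1.ProjSpace r k).Modules → G} (hφ : IsAdd φ)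

include hφ

/-- the Koszul relation for an additive function -/
theorem koszul_relation (F : (CohB1.ProjSpace r k).Modules) (hF : Coh.IsCoh F) (a : ℤ) :
    ∑ p ∈ Finset.range (r + 1 + 1),
      (-1 : ℤ) ^ p • (((r + 1).choose p) • φ (GF r k F (a + p))) = 0 := by
  have hO := isCoh_twist r k 0
  have hprop := iter_X_prop (GF r k F) (μF r k F) (μF_comm r k F)
    (fun m b T => Coh.IsCoh T ∧ φ T = m • φ (GF r k F b))
    (fun b T hT => ⟨isCoh_of_isZero F T hF hT, by rw [map_isZero hφ _ hO hT, zero_smul]⟩)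
    (fun m m' b T T' hT hT' => ⟨isCoh_biprod T T' hT.1 hT'.1, by
      rw [map_biprod hφ _ hO T T' hT.1 hT'.1, hT.2, hT'.2, add_smul]⟩)
    (fun b => ⟨isCoh_GF r k F hF b, by rw [one_smul]⟩)
    (List.finRange (r + 1))
  rw [List.length_finRange] at hprop
  have hsum := sum_eq_zero hφ _ hO (fun p => (stage r k F).X a p) (fun p => (stage r k F).d a p)
    (fun p => (stage r k F).dd a p) (stage_exact r k F a) (stage_mono r k F a)
    (fun p => (hprop a p).1) (r + 1) (stage_isZero r k F a (r + 1 + 1) (by omega))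
  rw [← hsum]
  refine Finset.sum_congr rfl (fun p _ => ?_)
  exact congrArg (fun z => (-1 : ℤ) ^ p • z) (hprop a p).2.symm

theorem twist_relation (a : ℤ) :
    ∑ p ∈ Finset.range (r + 1 + 1),
      (-1 : ℤ) ^ p • (((r + 1).choose p) • φ (Twist.twistProjSpace r k (a + p))) = 0 := by
  have hO := isCoh_twist r k 0
  rw [← koszul_relation k r hφ (Twist.twistProjSpace r k 0) hO a]
  refine Finset.sum_congr rfl (fun p _ => ?_)
  obtain ⟨e⟩ := nonempty_twist_tensor_iso r k 0 (a + p) (a + p) (zero_add _)
  have h : φ (GF r k (Twist.twistProjSpace r k 0) (a + p)) =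
      φ (Twist.twistProjSpace r k (a + p)) :=
    map_iso hφ _ hO e (isCoh_GF r k _ hO (a + p))
  rw [h]

variable (H : AddSubgroup G)
  (hbase : ∀ i : ℕ, i < r + 1 → φ (Twist.twistProjSpace r k (-(i : ℤ))) ∈ H)

include hbase

theorem map_twist_mem (d : ℤ) : φ (Twist.twistProjSpace r k d) ∈ H :=
  mem_all (fun d => φ (Twist.twistProjSpace r k d)) H (r + 1) (twist_relation k r hφ) hbase
    (Nat.succ_pos r) d

/-- the value of an additive function on a coherent module lies in the subgroup generated by
its values on `O, O(-1), …, O(-r)` -/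
theorem map_mem (F : (CohB1.ProjSpace r k).Modules) (hF : Coh.IsCoh F) : φ F ∈ H := by
  have hO := isCoh_twist r k 0
  obtain ⟨E, δ, hzero, ε, w, hex, hε, hexact, hz, hE⟩ :=
    Groth.Agent.Lib.T2H5.ResTwists.exists_seq_resolution_of_isCoh k r F hF
  have hEc : ∀ j, Coh.IsCoh (E j) := by
    intro j
    obtain ⟨m, d, ⟨e⟩⟩ := hE j
    exact isCoh_of_iso hφ _ hO e.symm (isCoh_sigma _ (fun b => isCoh_twist r k (d b)))
  rw [eq_sum_of_resolution hφ _ hO E δ hEc hzero hex (r + 1) hz F hF ε hε w hexact]
  refine H.sum_mem (fun j _ => H.zsmul_mem ?_ _)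
  obtain ⟨m, d, ⟨e⟩⟩ := hE j
  rw [map_iso hφ _ hO e (hEc j), map_sigma hφ _ hO _ (fun b => isCoh_twist r k (d b))]
  exact H.sum_mem (fun b _ => map_twist_mem k r hφ H hbase (d b))

end Additive

section Class

/-- the property of being coherent -/
abbrev CohP : ObjectProperty (CohB1.ProjSpace r k).Modules := fun M => Coh.IsCoh M

/-- the class of a module in the Grothendieck group of coherent modules -/
noncomputable def κ (M : (CohB1.ProjSpace r k).Modules) : KZero.K0sub (CohP k r) :=
  KZero.clSub (CohP k r) M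

theorem isAdd_κ : IsAdd (κ k r) := fun S hS h1 h2 h3 =>
  Groth.Agent.Lib.Helper17.K0a.clSub_shortExact (CohP k r) S hS h1 h2 h3

/-- the classes of `O, O(-1), …, O(-r)` -/
noncomputable def v (i : Fin (r + 1)) : KZero.K0sub (CohP k r) :=
  κ k r (Twist.twistProjSpace r k (-((i : ℕ) : ℤ)))

theorem span_v_eq_top : Submodule.span ℤ (Set.range (v k r)) = ⊤ := by
  rw [eq_top_iff]
  rintro x -
  obtain ⟨y, rfl⟩ := QuotientAddGroup.mk'_surjective (KZero.relSub (CohP k r)) x
  induction y using FreeAbelianGroup.induction_on with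
  | zero => rw [map_zero]; exact zero_mem _
  | of M =>
    obtain ⟨M, hM⟩ := M
    have h1 : QuotientAddGroup.mk' (KZero.relSub (CohP k r)) (FreeAbelianGroup.of ⟨M, hM⟩) =
        κ k r M := (Groth.Agent.Lib.Helper17.K0a.clSub_of_prop (CohP k r) hM).symm
    rw [h1]
    have := map_mem k r (isAdd_κ k r) (Submodule.span ℤ (Set.range (v k r))).toAddSubgroup
      (fun i hi => Submodule.subset_span ⟨⟨i, hi⟩, rfl⟩) M hM
    exact this
  | neg M h => rw [map_neg]; exact neg_mem h
  | add y z hy hz => rw [map_add]; exact add_mem hy hz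

end Class

section Lift

variable {G : Type*} [AddCommGroup G] {φ : (CohB1.ProjSpace r k).Modules → G} (hφ : IsAdd φ)

/-- an additive function induces a homomorphism from the Grothendieck group -/
noncomputable def lift : KZero.K0sub (CohP k r) →+ G :=
  QuotientAddGroup.lift (KZero.relSub (CohP k r))
    (FreeAbelianGroup.lift (fun M : Subtype (CohP k r) => φ M.1)) (by
      unfold KZero.relSub
      rw [AddSubgroup.closure_le]
      rintro x ⟨S, h1, h2, h3, hS, rfl⟩
      rw [SetLike.mem_coe, AddMonoidHom.mem_ker, map_sub, map_sub, FreeAbelianGroup.lift_apply_of,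
        FreeAbelianGroup.lift_apply_of, FreeAbelianGroup.lift_apply_of]
      change φ S.X₂ - φ S.X₁ - φ S.X₃ = 0
      rw [hφ S hS h1 h2 h3]
      abel)

theorem lift_κ (M : (CohB1.ProjSpace r k).Modules) (hM : Coh.IsCoh M) :
    lift k r hφ (κ k r M) = φ M := by
  unfold κ
  rw [Groth.Agent.Lib.Helper17.K0a.clSub_of_prop (CohP k r) hM]
  unfold lift
  rw [QuotientAddGroup.lift_mk, FreeAbelianGroup.lift_apply_of]

end Lift

section Euler

/-- the Euler characteristic of the twist by `m` -/
noncomputable def χ (m : ℤ) (M : (CohB1.ProjSpace r k).Modules) : ℤ := chiP r k (GF r k M m)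

theorem isAdd_χ (m : ℤ) : IsAdd (χ k r m) := by
  intro S hS h1 h2 h3
  have hS' := shortExact_map_tw r k m S hS
  exact chiP_additive r k (S.map (tw r k m)) hS' (isCoh_GF r k _ h1 m) (isCoh_GF r k _ h2 m)
    (isCoh_GF r k _ h3 m)

theorem chiP_twist_neg (d : ℤ) (h1 : d < 0) (h2 : -(r : ℤ) ≤ d) :
    chiP r k (Twist.twistProjSpace r k d) = 0 := by
  unfold chiP chi
  refine Finset.sum_eq_zero (fun j _ => ?_)
  haveI := Groth.Agent.Lib.T2H5.PnVanish.subsingleton_HH_twist r k d j (by omega) (by omega)
  rw [lenZ_of_subsingleton, mul_zero]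

theorem chiP_twist_zero : chiP r k (Twist.twistProjSpace r k 0) = 1 := by
  unfold chiP chi
  rw [Finset.sum_eq_single 0]
  · obtain ⟨e⟩ := Groth.Agent.Lib.Helper27PnSections.nonempty_linearEquiv r k 0
    have hfr := Groth.Agent.Lib.T2H5.EulerPn.finrank_homogeneousSubmodule k r 0
    rw [zero_add, Nat.choose_self] at hfr
    haveI : Module.Finite k ↥(MvPolynomial.homogeneousSubmodule (Fin (r + 1)) k 0) :=
      Module.finite_of_finrank_pos (by rw [hfr]; exact Nat.one_pos)
    have hl : lenZ k (Coh.HH (CohB1.ProjSpace r k) (Twist.twistProjSpace r k ((0 : ℕ) : ℤ)) 0) = 1 := by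
      rw [lenZ_congr e]
      unfold lenZ
      rw [Module.length_eq_finrank, hfr]
      rfl
    rw [pow_zero, one_mul]
    exact hl
  · intro j _ hj
    haveI := Groth.Agent.Lib.T2H5.PnVanish.subsingleton_HH_twist r k 0 j (by omega) (by omega)
    rw [lenZ_of_subsingleton, mul_zero]
  · intro h
    exact absurd (Finset.mem_range.mpr (Nat.succ_pos r)) h

theorem χ_twist (m d c : ℤ) (h : d + m = c) :
    χ k r m (Twist.twistProjSpace r k d) = chiP r k (Twist.twistProjSpace r k c) := by
  obtain ⟨e⟩ := nonempty_twist_tensor_iso r k d m c h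
  exact chi_of_iso e r

end Euler

/-- **The Grothendieck group of coherent modules on projective space over a field** is free on
the classes of `O, O(-1), …, O(-r)`. -/
theorem bijective_comb :
    Function.Bijective (fun a : Fin (r + 1) → ℤ => ∑ i : Fin (r + 1), a i • v k r i) := by
  have hfun : (fun a : Fin (r + 1) → ℤ => ∑ i : Fin (r + 1), a i • v k r i) =
      ⇑(Fintype.linearCombination ℤ (v k r)) := by
    funext a
    rw [Fintype.linearCombination_apply]
  rw [hfun]
  constructor
  · rw [← LinearMap.ker_eq_bot, LinearMap.ker_eq_bot']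
    intro a ha
    rw [Fintype.linearCombination_apply] at ha
    have heq : ∀ m : Fin (r + 1), ∑ i : Fin (r + 1),
        a i * chiP r k (Twist.twistProjSpace r k ((m : ℕ) - (i : ℕ) : ℤ)) = 0 := by
      intro m
      have h1 := congrArg (lift k r (isAdd_χ k r (m : ℕ))) ha
      rw [map_sum, map_zero] at h1
      rw [← h1]
      refine Finset.sum_congr rfl (fun i _ => ?_)
      rw [map_zsmul, smul_eq_mul]
      unfold v
      rw [lift_κ k r (isAdd_χ k r (m : ℕ)) _ (isCoh_twist r k _),
        χ_twist k r (m : ℕ) (-((i : ℕ) : ℤ)) ((m : ℕ) - (i : ℕ) : ℤ) (by ring)]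
    have key : ∀ n (hn : n < r + 1), a ⟨n, hn⟩ = 0 := by
      intro n
      induction n using Nat.strong_induction_on with
      | _ n ih =>
        intro hn
        have hm := heq ⟨n, hn⟩
        rw [Finset.sum_eq_single ⟨n, hn⟩] at hm
        · have e0 : (((⟨n, hn⟩ : Fin (r + 1)) : ℕ) : ℤ) - (((⟨n, hn⟩ : Fin (r + 1)) : ℕ) : ℤ) = 0 :=
            sub_self _
          rw [e0, chiP_twist_zero, mul_one] at hm
          exact hm
        · intro i _ hi
          rcases lt_or_gt_of_ne (fun h => hi (Fin.ext h) : (i : ℕ) ≠ n) with hlt | hgt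
          · have : a i = 0 := ih i hlt i.2
            rw [this, zero_mul]
          · have hi2 := i.2
            rw [chiP_twist_neg k r _ (by
              change ((n : ℕ) : ℤ) - ((i : ℕ) : ℤ) < 0
              omega) (by
              change -(r : ℤ) ≤ ((n : ℕ) : ℤ) - ((i : ℕ) : ℤ)
              omega), mul_zero]
        · intro h
          exact absurd (Finset.mem_univ _) h
    funext i
    exact key i i.2
  · rw [← LinearMap.range_eq_top, Fintype.range_linearCombination]
    exact span_v_eq_top k r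

end Groth.Agent.Lib.T2H5.K0Pn
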