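import Mathlib

/-!
# T2H5SigmaFin: finite coproducts of copies of one object (helper5)
-/

set_option autoImplicit false
universe v u

open CategoryTheory CategoryTheory.Limits

namespace Groth.Agent.Lib.T2H5.SigmaFin

variable {𝒞 : Type u} [Category.{v} 𝒞] [Preadditive 𝒞] [HasZeroObject 𝒞] [HasBinaryBiproducts 𝒞]
  [HasFiniteCoproducts 𝒞]

/-- the empty coproduct is a zero object -/
theorem isZero_sigma_zero (G : 𝒞) : IsZero (∐ fun _ : Fin 0 => G) := by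
  rw [IsZero.iff_id_eq_zero]
  apply Sigma.hom_ext
  intro b
  exact b.elim0

theorem nonempty_iso_sigma_zero (G A : 𝒞) (hA : IsZero A) :
    Nonempty (A ≅ ∐ fun _ : Fin 0 => G) :=
  ⟨hA.iso (isZero_sigma_zero G)⟩

theorem nonempty_iso_sigma_one (G : 𝒞) : Nonempty (G ≅ ∐ fun _ : Fin 1 => G) :=
  ⟨(coproductUniqueIso (fun _ : Fin 1 => G)).symm⟩

/-- `G^m ⊞ G^m' ≅ G^(m + m')` -/
noncomputable def sigmaAddIso (G : 𝒞) (m m' : ℕ) :
    ((∐ fun _ : Fin m => G) ⊞ (∐ fun _ : Fin m' => G)) ≅ ∐ fun _ : Fin (m + m') => G :=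
  let f₁ : Fin m → 𝒞 := fun _ => G
  let f₂ : Fin m' → 𝒞 := fun _ => G
  let c₁ : Cofan f₁ := Cofan.mk (∐ f₁) (Sigma.ι f₁)
  let c₂ : Cofan f₂ := Cofan.mk (∐ f₂) (Sigma.ι f₂)
  let bc : BinaryCofan c₁.pt c₂.pt := (BinaryBiproduct.bicone c₁.pt c₂.pt).toCocone
  let h₁ : IsColimit c₁ := coproductIsCoproduct f₁
  let h₂ : IsColimit c₂ := coproductIsCoproduct f₂
  let h : IsColimit bc := BinaryBiproduct.isColimit c₁.pt c₂.pt
  (IsColimit.coconePointUniqueUpToIso (Cofan.combPairIsColimit h₁ h₂ h)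
      (coproductIsCoproduct (Sum.elim f₁ f₂))) ≪≫
    Sigma.whiskerEquiv (f := Sum.elim f₁ f₂) (g := fun _ : Fin (m + m') => G) finSumFinEquiv
      (fun j => by
        cases j
        · exact Iso.refl _
        · exact Iso.refl _)

theorem nonempty_iso_sigma_add (G A B : 𝒞) (m m' : ℕ)
    (hA : Nonempty (A ≅ ∐ fun _ : Fin m => G)) (hB : Nonempty (B ≅ ∐ fun _ : Fin m' => G)) :
    Nonempty (A ⊞ B ≅ ∐ fun _ : Fin (m + m') => G) := by
  obtain ⟨eA⟩ := hA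
  obtain ⟨eB⟩ := hB
  exact ⟨biprod.mapIso eA eB ≪≫ sigmaAddIso G m m'⟩

end Groth.Agent.Lib.T2H5.SigmaFin
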