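import Mathlib
import Groth.Agent.Lib.T2H5KosPn
import Groth.Agent.Lib.T2H5SigmaFin

/-!
# T2H5KosCx: the Koszul complex of projective space as a cochain complex (helper5)
-/

set_option autoImplicit false
universe u

open CategoryTheory CategoryTheory.Limits AlgebraicGeometry TopologicalSpace Opposite

namespace Groth.Agent.Lib.T2H5.KosCx

open Groth.Agent.Lib.Helper1.Sky
  Groth.Agent.Lib.T2H5.KosStage Groth.Agent.Lib.T2H5.KosExact Groth.Agent.Lib.T2H5.StalkIso
  Groth.Agent.Lib.T2H5.KosPn Groth.Agent.Lib.T2H5.SigmaFin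

variable (n : ℕ) (R : Type u) [CommRing R]

local notation "𝒫" => CohB1.polyGrading n R

theorem isIso_stalk_xm (j : Fin (n + 1)) (x : CohB1.ProjSpace n R) (hx : x ∈ UU n R j) (a : ℤ) :
    IsIso ((stalkFun x).map (xm n R j a)) :=
  isIso_stalkFun_map_of_isoOn _ _
    (Groth.Agent.Lib.T2H5.KosNu.isoOn_nu 𝒫 𝒫 (Groth.Agent.Lib.Helper27ProjGamma.hX n R j) rfl)
    x hx

/-- the Koszul complex `0 → O(a) → O(a+1)^{n+1} → ⋯ → O(a+n+1) → 0`, indexed by `ℕ` -/
noncomputable def kos (a : ℤ) : CochainComplex (CohB1.ProjSpace n R).Modules ℕ :=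
  cx (OO n R) (xm n R) (xm_comm n R) (List.finRange (n + 1)) a

theorem kos_exactAt (a : ℤ) (p : ℕ) : (kos n R a).ExactAt p :=
  cx_exactAt (OO n R) (xm n R) (xm_comm n R) (UU n R) (cover n R) (isIso_stalk_xm n R)
    (List.finRange (n + 1)) (fun j => List.mem_finRange j) a p

theorem kos_X_iso (a : ℤ) (p : ℕ) :
    Nonempty ((kos n R a).X p ≅ ∐ fun _ : Fin (Nat.choose (n + 1) p) => OO n R (a + p)) := by
  have := iter_X_prop (OO n R) (xm n R) (xm_comm n R)
    (fun m b A => Nonempty (A ≅ ∐ fun _ : Fin m => OO n R b))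
    (fun b A hA => nonempty_iso_sigma_zero (OO n R b) A hA)
    (fun m m' b A B hA hB => nonempty_iso_sigma_add (OO n R b) A B m m' hA hB)
    (fun b => nonempty_iso_sigma_one (OO n R b))
    (List.finRange (n + 1)) a p
  rw [List.length_finRange] at this
  exact this

theorem kos_X_isZero (a : ℤ) (p : ℕ) (hp : n + 1 < p) : IsZero ((kos n R a).X p) :=
  isZero_iter_X (OO n R) (xm n R) (xm_comm n R) (List.finRange (n + 1)) a p
    (by rw [List.length_finRange]; exact hp)

/-- the Koszul complex, indexed by `ℤ` -/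
noncomputable def kosZ (a : ℤ) : CochainComplex (CohB1.ProjSpace n R).Modules ℤ :=
  (kos n R a).extend ComplexShape.embeddingUpNat

theorem kosZ_exactAt (a : ℤ) (i : ℤ) : (kosZ n R a).ExactAt i := by
  by_cases hi : 0 ≤ i
  · obtain ⟨p, rfl⟩ := Int.eq_ofNat_of_zero_le hi
    exact (HomologicalComplex.extend_exactAt_iff (kos n R a) ComplexShape.embeddingUpNat
      (j := p) (j' := (p : ℤ)) rfl).2 (kos_exactAt n R a p)
  · refine HomologicalComplex.extend_exactAt (kos n R a) ComplexShape.embeddingUpNat i ?_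
    intro j hj
    apply hi
    rw [← hj]
    exact Int.natCast_nonneg j

theorem kosZ_X_iso (a : ℤ) (p : ℕ) :
    Nonempty ((kosZ n R a).X (p : ℤ) ≅
      ∐ fun _ : Fin (Nat.choose (n + 1) p) => OO n R (a + p)) := by
  obtain ⟨e⟩ := kos_X_iso n R a p
  exact ⟨(kos n R a).extendXIso ComplexShape.embeddingUpNat (i := p) (i' := (p : ℤ)) rfl ≪≫ e⟩

theorem kosZ_X_isZero (a : ℤ) (i : ℤ) (hi : i < 0 ∨ (n : ℤ) + 1 < i) :
    IsZero ((kosZ n R a).X i) := by
  rcases hi with hi | hi
  · refine HomologicalComplex.isZero_extend_X (kos n R a) ComplexShape.embeddingUpNat i ?_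
    intro j hj
    have : (0 : ℤ) ≤ i := by
      rw [← hj]
      exact Int.natCast_nonneg j
    omega
  · obtain ⟨p, rfl⟩ := Int.eq_ofNat_of_zero_le (by omega : 0 ≤ i)
    exact IsZero.of_iso (kos_X_isZero n R a p (by omega))
      ((kos n R a).extendXIso ComplexShape.embeddingUpNat (i := p) (i' := (p : ℤ)) rfl)

end Groth.Agent.Lib.T2H5.KosCx
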