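import Groth.Agent.Lib.T2H5SqZeroPic
import Groth.Agent.Lib.Helper20OmegaAff

/-!
# Square-zero thickenings: the cohomological hypothesis on the closed subscheme (helper5)

`X` a scheme, `I` a quasi-coherent ideal with `I * I = ⊥`, `i : X₀ ⟶ X` the closed subscheme.

* `unitSec_surjective_of_affine`, `unitSec_injective_of_affine`: for affine opens `V ⊆ X`, `U ⊆ f⁻¹V` with
  `O(V) → O(U)` surjective, the sections of `f^*F` over `U` are the sections of `F` over `V` modulo the kernel;
* `h1Van_of_subsingleton_pullback`: `H¹(X₀, i^*I) = 0` gives the Čech vanishing property `H1Van I`;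
* `nonempty_iso_of_pullback_iso_of_H1_pullback`.
-/

set_option autoImplicit false
set_option backward.isDefEq.respectTransparency.types false
set_option linter.style.haveILetI false
set_option linter.unusedSectionVars false
set_option linter.unusedVariables false
universe u

open CategoryTheory CategoryTheory.Limits AlgebraicGeometry TopologicalSpace Opposite

namespace Groth.Agent.Lib.T2H5.SqZeroPic

open Groth.Agent.Lib.Helper6 Groth.Agent.Lib.Helper23.SecTw Groth.Agent.Lib.Helper23.GenLocus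
  Groth.Agent.Lib.Helper23.PB Groth.Agent.Helper13PullbackUnit Groth.Agent.Lib.Helper23.Extend
  Groth.Agent.Lib.Helper20.IdealModSec

section alg

variable {R S : Type u} [CommRing R] [CommRing S] (φ : R →+* S) (hφ : Function.Surjective φ)
  {M : Type u} [AddCommGroup M] [Module R M] (hK : ∀ r : R, φ r = 0 → ∀ x : M, r • x = 0)

/-- scalar multiplication by the quotient ring on a module killed by the kernel -/
@[instance_reducible]
noncomputable def smulOfSurj : SMul S M := ⟨fun s x => Classical.choose (hφ s) • x⟩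

include hK in
theorem smulOfSurj_spec (c : R) (x : M) : (smulOfSurj φ hφ).smul (φ c) x = c • x := by
  change Classical.choose (hφ (φ c)) • x = c • x
  have h := Classical.choose_spec (hφ (φ c))
  have h2 : (Classical.choose (hφ (φ c)) - c) • x = 0 := hK _ (by rw [map_sub, h, sub_self]) x
  rw [sub_smul, sub_eq_zero] at h2
  exact h2

/-- a module killed by the kernel of a surjection is a module over the target -/
@[instance_reducible]
noncomputable def moduleOfSurj : Module S M :=
  letI := smulOfSurj φ hφ (M := M)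
  Function.Surjective.moduleLeft φ hφ (smulOfSurj_spec φ hφ hK)

end alg

section unitSec

variable {X Y : Scheme.{u}} (f : Y ⟶ X) (F : X.Modules) [F.IsQuasicoherent]
  {V : X.Opens} (hV : IsAffineOpen V) {U : Y.Opens} (hU : IsAffineOpen U) (hle : U ≤ f ⁻¹ᵁ V)

include hV hU in
theorem unitSec_surjective_of_affine (hsurj : Function.Surjective (f.appLE V U hle).hom) :
    Function.Surjective (unitSec f F hle) := by
  let T' : Submodule Γ(Y, U) Γ((Scheme.Modules.pullback f).obj F, U) :=
    { carrier := Set.range (unitSec f F hle)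
      add_mem' := by
        rintro _ _ ⟨x, rfl⟩ ⟨y, rfl⟩
        exact ⟨x + y, map_add _ _ _⟩
      zero_mem' := ⟨0, map_zero _⟩
      smul_mem' := by
        rintro r _ ⟨x, rfl⟩
        obtain ⟨s, rfl⟩ := hsurj r
        exact ⟨s • x, unitSec_smul f F hle s x⟩ }
  obtain ⟨l', hl', huniq⟩ := existsUnique_lift f F hV hU hle
    (Γ((Scheme.Modules.pullback f).obj F, U) ⧸ T') 0 (fun r x => by simp)
  have h1 : T'.mkQ = l' := huniq T'.mkQ (fun x => by
    change T'.mkQ (unitSec f F hle x) = 0
    rw [Submodule.mkQ_apply, Submodule.Quotient.mk_eq_zero]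
    exact ⟨x, rfl⟩)
  have h2 : (0 : Γ((Scheme.Modules.pullback f).obj F, U) →ₗ[Γ(Y, U)]
      (Γ((Scheme.Modules.pullback f).obj F, U) ⧸ T')) = l' := huniq 0 (fun x => rfl)
  intro t
  have h3 : T'.mkQ t = 0 := by
    rw [h1, ← h2]
    rfl
  rw [Submodule.mkQ_apply, Submodule.Quotient.mk_eq_zero] at h3
  exact h3

include hV hU in
theorem unitSec_injective_of_affine (hsurj : Function.Surjective (f.appLE V U hle).hom)
    (hK : ∀ r : Γ(X, V), (f.appLE V U hle).hom r = 0 → ∀ x : Γ(F, V), r • x = 0) :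
    Function.Injective (unitSec f F hle) := by
  letI : Module Γ(Y, U) Γ(F, V) := moduleOfSurj (f.appLE V U hle).hom hsurj hK
  obtain ⟨l', hl', -⟩ := existsUnique_lift f F hV hU hle Γ(F, V) (AddMonoidHom.id _)
    (fun r x => (smulOfSurj_spec (f.appLE V U hle).hom hsurj hK r x).symm)
  intro x y hxy
  have h1 := congrArg l' hxy
  rw [hl', hl'] at h1
  exact h1

end unitSec

section main2

variable {X : Scheme.{u}} (I : X.IdealSheafData)

/-- the ideal module is killed by the ideal when `I * I = ⊥` -/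
theorem smul_eq_zero_of_mem_Kr (hI : I * I = ⊥) {V : X.Opens} {r : Γ(X, V)} (hr : r ∈ Kr I V)
    (j : Γ(ClSub.idealMod I, V)) : r • j = 0 := by
  apply kap_injective I
  rw [kap_zero]
  have h1 : kap I V (r • j) = r * kap I V j := by
    change ofS V ((ClSub.idealModι I).app V (r • j)) = r * ofS V ((ClSub.idealModι I).app V j)
    rw [Scheme.Modules.Hom.app_smul]
    rfl
  rw [h1]
  exact mul_eq_zero_of_mem_Kr I hI hr (kap_mem I V j)

theorem appLE_self_surjective {A : X.Opens} (hA : IsAffineOpen A) :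
    Function.Surjective (I.subschemeι.appLE A (I.subschemeι ⁻¹ᵁ A) le_rfl).hom := by
  rw [Scheme.Hom.appLE_eq_app]
  exact I.subschemeι_app_surjective ⟨A, hA⟩

theorem unitSec_ideal_surjective {A : X.Opens} (hA : IsAffineOpen A) :
    Function.Surjective (unitSec I.subschemeι (ClSub.idealMod I) (le_refl (I.subschemeι ⁻¹ᵁ A))) :=
  unitSec_surjective_of_affine I.subschemeι (ClSub.idealMod I) hA (hA.preimage I.subschemeι) le_rfl
    (appLE_self_surjective I hA)

theorem unitSec_ideal_injective_affine (hI : I * I = ⊥) {A : X.Opens} (hA : IsAffineOpen A) :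
    Function.Injective (unitSec I.subschemeι (ClSub.idealMod I) (le_refl (I.subschemeι ⁻¹ᵁ A))) := by
  refine unitSec_injective_of_affine I.subschemeι (ClSub.idealMod I) hA (hA.preimage I.subschemeι) le_rfl
    (appLE_self_surjective I hA) (fun r hr x => ?_)
  refine smul_eq_zero_of_mem_Kr I hI ?_ x
  rw [mem_Kr]
  have h1 : I.subschemeι.appLE A (I.subschemeι ⁻¹ᵁ A) le_rfl = I.subschemeι.app A :=
    Scheme.Hom.appLE_eq_app _
  rw [← h1]
  exact hr

/-- injectivity of `unitSec` for the ideal module over an arbitrary open -/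
theorem unitSec_ideal_eq_zero (hI : I * I = ⊥) {V : X.Opens} {U₀ : I.subscheme.Opens}
    (hle : U₀ ≤ I.subschemeι ⁻¹ᵁ V) (hge : I.subschemeι ⁻¹ᵁ V ≤ U₀) (z : Γ(ClSub.idealMod I, V))
    (hz : unitSec I.subschemeι (ClSub.idealMod I) hle z = 0) : z = 0 := by
  refine (modSheaf (ClSub.idealMod I)).eq_of_locally_eq'
    (fun A : {A : X.Opens // IsAffineOpen A ∧ A ≤ V} => A.1) V (fun A => homOfLE A.2.2)
    (le_iSup_affine V) z 0 (fun A => ?_)
  change res (ClSub.idealMod I) A.2.2 z = res (ClSub.idealMod I) A.2.2 0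
  rw [res_zero]
  apply unitSec_ideal_injective_affine I hI A.2.1
  rw [map_zero]
  have h1 := res_unitSec I.subschemeι (ClSub.idealMod I) hle (le_refl (I.subschemeι ⁻¹ᵁ A.1)) A.2.2
    ((I.subschemeι.preimage_mono A.2.2).trans hge) z
  rw [← h1, hz]
  exact res_zero _ _

/-- **`H¹(X₀, i^*I) = 0` gives the Čech vanishing property.** -/
theorem h1Van_of_subsingleton_pullback (hI : I * I = ⊥)
    (h : Subsingleton (Coh.HH I.subscheme
      ((Scheme.Modules.pullback I.subschemeι).obj (ClSub.idealMod I)) 1)) : H1Van I := by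
  intro κ W hWaff hcov a ha hcoc
  choose α hα using fun k l => exists_kap_eq I (W k ⊓ W l) (a k l) (ha k l)
  obtain ⟨M₀, hM₀⟩ : ∃ M₀ : I.subscheme.Modules,
      M₀ = (Scheme.Modules.pullback I.subschemeι).obj (ClSub.idealMod I) := ⟨_, rfl⟩
  let V : κ → I.subscheme.Opens := fun k => I.subschemeι ⁻¹ᵁ W k
  have hcov₀ : ⨆ k, V k = ⊤ := I.subschemeι.iSup_preimage_eq_top hcov
  have hle2 : ∀ k l, V k ⊓ V l ≤ I.subschemeι ⁻¹ᵁ (W k ⊓ W l) := fun k l _ hx => hx
  have hge2 : ∀ k l, I.subschemeι ⁻¹ᵁ (W k ⊓ W l) ≤ V k ⊓ V l := fun k l _ hx => hx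
  -- the cocycle condition upstairs, in the ideal module
  have hcocα : ∀ k l m,
      res (ClSub.idealMod I) (le_inf (inf_le_left.trans inf_le_right) inf_le_right :
        W k ⊓ W l ⊓ W m ≤ W l ⊓ W m) (α l m) -
      res (ClSub.idealMod I) (le_inf (inf_le_left.trans inf_le_left) inf_le_right :
        W k ⊓ W l ⊓ W m ≤ W k ⊓ W m) (α k m) +
      res (ClSub.idealMod I) (inf_le_left : W k ⊓ W l ⊓ W m ≤ W k ⊓ W l) (α k l) = 0 := by
    intro k l m
    apply kap_injective I
    rw [kap_add, kap_sub, kap_zero, kap_res, kap_res, kap_res, hα, hα, hα]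
    exact hcoc k l m
  subst hM₀
  have hle3 : ∀ k l m, V k ⊓ V l ⊓ V m ≤ I.subschemeι ⁻¹ᵁ (W k ⊓ W l ⊓ W m) := fun k l m _ hx => hx
  obtain ⟨βbar, hβbar⟩ := Groth.Agent.Lib.T2H5.SqZeroCech.exists_coboundary_of_subsingleton I.subscheme
    ((Scheme.Modules.pullback I.subschemeι).obj (ClSub.idealMod I)) h V hcov₀
    (fun k l => unitSec I.subschemeι (ClSub.idealMod I) (hle2 k l) (α k l)) (fun k l m => by
      have e1 := res_unitSec I.subschemeι (ClSub.idealMod I) (hle2 l m) (hle3 k l m)
        (le_inf (inf_le_left.trans inf_le_right) inf_le_right : W k ⊓ W l ⊓ W m ≤ W l ⊓ W m)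
        (le_inf (inf_le_left.trans inf_le_right) inf_le_right : V k ⊓ V l ⊓ V m ≤ V l ⊓ V m) (α l m)
      have e2 := res_unitSec I.subschemeι (ClSub.idealMod I) (hle2 k m) (hle3 k l m)
        (le_inf (inf_le_left.trans inf_le_left) inf_le_right : W k ⊓ W l ⊓ W m ≤ W k ⊓ W m)
        (le_inf (inf_le_left.trans inf_le_left) inf_le_right : V k ⊓ V l ⊓ V m ≤ V k ⊓ V m) (α k m)
      have e3 := res_unitSec I.subschemeι (ClSub.idealMod I) (hle2 k l) (hle3 k l m)
        (inf_le_left : W k ⊓ W l ⊓ W m ≤ W k ⊓ W l)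
        (inf_le_left : V k ⊓ V l ⊓ V m ≤ V k ⊓ V l) (α k l)
      refine (congrArg₂ (· + ·) (congrArg₂ (· - ·) e1 e2) e3).trans ?_
      change unitSec I.subschemeι (ClSub.idealMod I) (hle3 k l m) _ -
        unitSec I.subschemeι (ClSub.idealMod I) (hle3 k l m) _ +
        unitSec I.subschemeι (ClSub.idealMod I) (hle3 k l m) _ = 0
      rw [← map_sub, ← map_add, hcocα k l m, map_zero])
  -- the coboundary comes from the ideal module
  choose β hβ using fun k => unitSec_ideal_surjective I (hWaff k) (βbar k)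
  refine ⟨fun k => kap I (W k) (β k), fun k => kap_mem I _ _, fun k l => ?_⟩
  have key : α k l - (res (ClSub.idealMod I) (inf_le_right : W k ⊓ W l ≤ W l) (β l) -
      res (ClSub.idealMod I) (inf_le_left : W k ⊓ W l ≤ W k) (β k)) = 0 := by
    refine unitSec_ideal_eq_zero I hI (hle2 k l) (hge2 k l) _ ?_
    rw [map_sub, map_sub]
    have e1 := res_unitSec I.subschemeι (ClSub.idealMod I) (le_refl (V l)) (hle2 k l)
      (inf_le_right : W k ⊓ W l ≤ W l) (inf_le_right : V k ⊓ V l ≤ V l) (β l)
    have e2 := res_unitSec I.subschemeι (ClSub.idealMod I) (le_refl (V k)) (hle2 k l)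
      (inf_le_left : W k ⊓ W l ≤ W k) (inf_le_left : V k ⊓ V l ≤ V k) (β k)
    rw [← e1, ← e2, hβ, hβ, sub_eq_zero]
    exact hβbar k l
  rw [sub_eq_zero] at key
  rw [← hα k l, key, kap_sub, kap_res, kap_res]

variable {I}

/-- two invertible modules with isomorphic restrictions to `X₀` are isomorphic when `H¹(X₀, i^*I) = 0` -/
theorem nonempty_iso_of_pullback_iso_of_H1_pullback (hI : I * I = ⊥)
    (h1 : Subsingleton (Coh.HH I.subscheme
      ((Scheme.Modules.pullback I.subschemeι).obj (ClSub.idealMod I)) 1))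
    (L L' : X.Modules) (hL : PicF.IsInvertible L) (hL' : PicF.IsInvertible L')
    (φ : (Scheme.Modules.pullback I.subschemeι).obj L ≅ (Scheme.Modules.pullback I.subschemeι).obj L') :
    Nonempty (L ≅ L') :=
  nonempty_iso_of_pullback_iso hI (h1Van_of_subsingleton_pullback I hI h1) L L' hL hL' φ

theorem mul_eq_bot_of_pow_two (hI : I ^ 2 = ⊥) : I * I = ⊥ := by
  rw [← hI]
  ext U : 2
  rw [Scheme.IdealSheafData.ideal_mul, Scheme.IdealSheafData.ideal_pow]
  exact (pow_two _).symm

end main2

end Groth.Agent.Lib.T2H5.SqZeroPic
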