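import Mathlib
import Groth.Prelude.Def_CxOX
import Groth.Agent.S0484
import Groth.Agent.Lib.Helper21UnitHom
import Groth.Agent.Lib.Helper23Serre
import Groth.Agent.Lib.T2H5BaerFam
import Groth.Agent.Lib.T2H5AdjSub
import Groth.Agent.Lib.T2H5ExtZeroSch

/-!
# Injectivity of `O_X`-modules is local (helper5, team 2)

* `exists_not_factor`: the modules `j_{W!} O_W`, `W` running through a basis of opens, detect isomorphisms among
  monomorphisms of `O_X`-modules;
* `extZeroLEIso`: `j_{W!} ≅ j_{WU!} ⋙ j_{U!}` for opens `W ≤ U`;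
* `injective_of_locally_injective`: a module which is injective on the members of an open cover is injective.
-/
set_option autoImplicit false
set_option linter.style.haveILetI false
set_option linter.unusedSectionVars false
universe u
open CategoryTheory Limits AlgebraicGeometry TopologicalSpace Opposite

namespace Groth.Agent.Lib.T2H5.LocInj

open Groth.Agent.Lib.T2H5.ExtZeroSch Groth.Agent.Lib.T2H5.AdjSub

variable {X : Scheme.{u}}

theorem exists_not_factor (B : X.Opens → Prop)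
    (hB : ∀ (x : X) (V : X.Opens), x ∈ V → ∃ W : X.Opens, B W ∧ x ∈ W ∧ W ≤ V)
    {M N : X.Modules} (p : M ⟶ N) [Mono p] (hp : ¬ IsIso p) :
    ∃ (W : {W : X.Opens // B W}) (f : CxOX.extZeroUnit W.1.ι ⟶ N),
      ∀ a : CxOX.extZeroUnit W.1.ι ⟶ M, a ≫ p ≠ f := by
  by_contra hcon
  push Not at hcon
  apply hp
  haveI : Epi p := by
    apply Groth.Agent.Lib.Helper23.Serre.epi_of_locally_surjective
    intro V t x hx
    obtain ⟨W, hBW, hxW, hWV⟩ := hB x V hx
    have hV' : W.ι ''ᵁ ⊤ = W := by simp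
    have hle : W.ι ''ᵁ ⊤ ≤ V := by rw [hV']; exact hWV
    have hxV' : x ∈ W.ι ''ᵁ ⊤ := by rw [hV']; exact hxW
    refine ⟨W.ι ''ᵁ ⊤, hle, hxV', ?_⟩
    let adj := CxOX.extZeroAdj W.ι
    let R := Scheme.Modules.restrictFunctor W.ι
    let e := Groth.Agent.Lib.Helper21.UnitHom.unitHomAddEquiv
      (R := (W : Scheme.{u}).ringCatSheaf) (isTerminalTop : IsTerminal (⊤ : (W : Scheme.{u}).Opens))
    let s' : Γ(N, W.ι ''ᵁ ⊤) := N.presheaf.map (homOfLE hle).op t
    let g : Coh.structureModule (W : Scheme.{u}) ⟶ R.obj N := (e (R.obj N)).symm s'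
    obtain ⟨a, ha⟩ := hcon ⟨W, hBW⟩ ((adj.homEquiv _ _).symm g)
    have h1 : adj.homEquiv _ _ a ≫ R.map p = g := by
      rw [← adj.homEquiv_naturality_right, ha, Equiv.apply_symm_apply]
    refine ⟨(e (R.obj M)) (adj.homEquiv _ _ a), ?_⟩
    have h2 : (e (R.obj N)) g = s' := (e (R.obj N)).apply_symm_apply s'
    rw [← h1] at h2
    exact h2
  exact isIso_of_mono_of_epi p

/-- the adjunction `j_{WU!} ⋙ j_{U!} ⊣ (-)|_W` for opens `W ≤ U` -/
noncomputable def adjLE {W U : X.Opens} (h : W ≤ U) :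
    CxOX.extZero (X.homOfLE h) ⋙ CxOX.extZero U.ι ⊣ Scheme.Modules.restrictFunctor W.ι :=
  ((CxOX.extZeroAdj (X.homOfLE h)).comp (CxOX.extZeroAdj U.ι)).ofNatIsoRight
    ((Scheme.Modules.restrictFunctorComp (X.homOfLE h) U.ι).symm ≪≫
      Scheme.Modules.restrictFunctorCongr (X.homOfLE_ι h))

/-- `j_{W!} ≅ j_{WU!} ⋙ j_{U!}` -/
noncomputable def extZeroLEIso {W U : X.Opens} (h : W ≤ U) :
    CxOX.extZero W.ι ≅ CxOX.extZero (X.homOfLE h) ⋙ CxOX.extZero U.ι :=
  (CxOX.extZeroAdj W.ι).leftAdjointUniq (adjLE h)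

instance : IsGrothendieckAbelian.{u} X.Modules :=
  Groth.Agent.S0484.result (Opens.grothendieckTopology X) X.ringCatSheaf

/-- maps from subobjects of `j_{W!} O_W` extend, when `F` is injective on an open `U ⊇ W` -/
theorem exists_extend {W U : X.Opens} (h : W ≤ U) (F : X.Modules)
    (hF : Injective ((Scheme.Modules.restrictFunctor U.ι).obj F))
    (A : Subobject (CxOX.extZeroUnit W.ι)) (φ : (A : X.Modules) ⟶ F) :
    ∃ ψ : CxOX.extZeroUnit W.ι ⟶ F, A.arrow ≫ ψ = φ := by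
  haveI := preservesFiniteLimits_extZero U
  haveI := hF
  let θ : CxOX.extZeroUnit W.ι ≅
      (CxOX.extZero U.ι).obj ((CxOX.extZero (X.homOfLE h)).obj (Coh.structureModule (W : Scheme.{u}))) :=
    (extZeroLEIso h).app _
  obtain ⟨ψ, hψ⟩ := exists_extend_of_injective (CxOX.extZeroAdj U.ι) (mono_counit U)
    (A.arrow ≫ θ.hom) F φ
  exact ⟨θ.hom ≫ ψ, by rw [← Category.assoc]; exact hψ⟩

/-- Injectivity of modules is local on the scheme. -/
theorem injective_of_locally_injective (F : X.Modules)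
    (hF : ∀ x : X, ∃ U : X.Opens, x ∈ U ∧ Injective ((Scheme.Modules.restrictFunctor U.ι).obj F)) :
    Injective F := by
  let B : X.Opens → Prop := fun W =>
    ∃ U : X.Opens, W ≤ U ∧ Injective ((Scheme.Modules.restrictFunctor U.ι).obj F)
  have hB : ∀ (x : X) (V : X.Opens), x ∈ V → ∃ W : X.Opens, B W ∧ x ∈ W ∧ W ≤ V := by
    intro x V hxV
    obtain ⟨U, hxU, hU⟩ := hF x
    exact ⟨U ⊓ V, ⟨U, inf_le_left, hU⟩, ⟨hxU, hxV⟩, inf_le_right⟩
  refine Groth.Agent.Lib.T2H5.BaerFam.injective_of_forall_extend.{u}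
    (fun W : {W : X.Opens // B W} => CxOX.extZeroUnit W.1.ι)
    (fun p _ hp => exists_not_factor B hB p hp) F ?_
  rintro ⟨W, U, hWU, hU⟩ A φ
  exact exists_extend hWU F hU A φ

end Groth.Agent.Lib.T2H5.LocInj
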