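import Mathlib
import Groth.Agent.Lib.Helper3LocusFam
import Groth.Agent.Lib.Helper3ConsOfLocus

/-!
# Loci of a locus family near the generic point of an irreducible scheme (helper5)

Namespace `Groth.Agent.Lib.T2H5.LocusGen`.

* `mem_interior_or_of_isOpenEmbedding`: for an open embedding `j : Y → X` into an irreducible space
  hitting the generic point, a constructible subset of `Y` or its complement is a neighbourhood of the
  point over the generic point.
* `genericPoint_mem_interior_or`, `genericPoint_mem_interior_of_mem`: the two generic-point statements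
  for the loci of a locus family.
-/

set_option autoImplicit false
set_option linter.unusedSectionVars false
set_option linter.style.haveILetI false
universe u
open CategoryTheory CategoryTheory.Limits AlgebraicGeometry Topology

namespace Groth.Agent.Lib.T2H5.LocusGen

open Groth.Agent.Lib.Helper3.LocusFam

theorem mem_interior_or_of_isOpenEmbedding {X Y : Type*} [TopologicalSpace X] [TopologicalSpace Y]
    [IrreducibleSpace X] {η : X} (hη : IsGenericPoint η ⊤) {j : Y → X} (hj : IsOpenEmbedding j)
    {y₀ : Y} (hy : j y₀ = η) {C : Set Y} (hC : IsConstructible C) :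
    y₀ ∈ interior C ∨ y₀ ∈ interior Cᶜ := by
  haveI : Nonempty Y := ⟨y₀⟩
  haveI : PreirreducibleSpace Y :=
    ⟨by
      have := (IrreducibleSpace.isIrreducible_univ X).isPreirreducible.preimage hj
      rwa [Set.preimage_univ] at this⟩
  haveI : IrreducibleSpace Y := { toPreirreducibleSpace := inferInstance, toNonempty := inferInstance }
  have hgen : IsGenericPoint y₀ (⊤ : Set Y) := by
    show closure {y₀} = ⊤
    rw [hj.isEmbedding.closure_eq_preimage_closure_image, Set.image_singleton, hy,
      show closure {η} = ⊤ from hη]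
    rfl
  rcases Groth.Agent.Lib.Helper3.ConsOfLocus.interior_nonempty_or_of_isConstructible hC with h | h
  · left
    exact (hgen.mem_open_set_iff isOpen_interior).2 (by rwa [Set.top_eq_univ, Set.univ_inter])
  · right
    exact (hgen.mem_open_set_iff isOpen_interior).2 (by rwa [Set.top_eq_univ, Set.univ_inter])

theorem mem_interior_of_image {X Y : Type*} [TopologicalSpace X] [TopologicalSpace Y] {j : Y → X}
    (hj : IsOpenEmbedding j) {y₀ : Y} {C : Set Y} {E : Set X} (hCE : C ⊆ j ⁻¹' E)
    (h : y₀ ∈ interior C) : j y₀ ∈ interior E := by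
  refine mem_interior.2 ⟨j '' interior C, ?_, hj.isOpenMap _ isOpen_interior, ⟨y₀, h, rfl⟩⟩
  rintro _ ⟨y, hy, rfl⟩
  exact hCE (interior_subset hy)

section Main
variable {Fam : ∀ S : Scheme.{u}, Set S → Prop}

theorem exists_affine_chart (S : Scheme.{u}) [IrreducibleSpace S] :
    ∃ (A : CommRingCat.{u}) (j : Spec A ⟶ S) (_ : IsOpenImmersion j) (y₀ : Spec A),
      j y₀ = genericPoint S := by
  obtain ⟨_, ⟨U : S.Opens, hU, rfl⟩, hxU, -⟩ := S.isBasis_affineOpens.exists_subset_of_mem_open
    (Set.mem_univ (genericPoint S)) isOpen_univ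
  have : genericPoint S ∈ Set.range hU.fromSpec := by
    rw [hU.range_fromSpec]; exact hxU
  obtain ⟨y₀, hy₀⟩ := this
  exact ⟨Γ(S, U), hU.fromSpec, inferInstance, y₀, hy₀⟩

/-- constructible case: a locus or its complement is a neighbourhood of the generic point. -/
theorem genericPoint_mem_interior_or (hF : IsLocusFam Fam)
    (hC : ∀ (S : Scheme.{u}) [IsIntegral S] [IsNoetherian S] (E : Set S), Fam S E →
      (interior E).Nonempty ∨ (interior Eᶜ).Nonempty)
    {S : Scheme.{u}} [IrreducibleSpace S] {E : Set S} (h : Fam S E) :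
    genericPoint S ∈ interior E ∨ genericPoint S ∈ interior Eᶜ := by
  obtain ⟨A, j, hj, y₀, hy₀⟩ := exists_affine_chart S
  have h1 : Fam (Spec A) (j ⁻¹' E) := hF.bc _ h
  obtain ⟨A₀, φ, E₀, hN, h0, hE⟩ := hF.approx _ h1
  have h2 : IsConstructible (j ⁻¹' E) := by
    rw [hE]
    exact (Spec.map φ).isConstructible_preimage (isConstructible_of_noeth hF hC A₀ h0)
  rcases mem_interior_or_of_isOpenEmbedding (genericPoint_spec S) j.isOpenEmbedding hy₀ h2 with h3 | h3
  · left
    rw [← hy₀]
    exact mem_interior_of_image j.isOpenEmbedding (le_refl _) h3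
  · right
    rw [← hy₀]
    exact mem_interior_of_image j.isOpenEmbedding (E := Eᶜ) (le_refl _) h3

/-- ind-constructible case: a locus containing the generic point is a neighbourhood of it. -/
theorem genericPoint_mem_interior_of_mem (hF : IsLocusFam Fam)
    (hI : ∀ (S : Scheme.{u}) [IsIntegral S] [IsNoetherian S] (E : Set S), Fam S E →
      genericPoint S ∈ E → (interior E).Nonempty)
    {S : Scheme.{u}} [IrreducibleSpace S] {E : Set S} (h : Fam S E) (hη : genericPoint S ∈ E) :
    genericPoint S ∈ interior E := by
  obtain ⟨A, j, hj, y₀, hy₀⟩ := exists_affine_chart S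
  have h1 : Fam (Spec A) (j ⁻¹' E) := hF.bc _ h
  obtain ⟨C, hC, hyC, hCE⟩ := exists_constructible_of_affine hF hI A h1 y₀ (by
    show j y₀ ∈ E
    rw [hy₀]; exact hη)
  rcases mem_interior_or_of_isOpenEmbedding (genericPoint_spec S) j.isOpenEmbedding hy₀ hC with h3 | h3
  · rw [← hy₀]
    exact mem_interior_of_image j.isOpenEmbedding hCE h3
  · exact absurd hyC (interior_subset h3)

end Main

end Groth.Agent.Lib.T2H5.LocusGen
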