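import Mathlib
import Groth.Agent.Lib.T2H5ModLimF

/-!
# Descent of finitely presented quotients to a stage (EGA IV 8.5.2) (helper5)

Namespace `Groth.Agent.Lib.T2H5.ModLimG`.

* `quotient_descends`: a finitely presented quotient of the pull-back of a finitely presented module
  comes from a finitely presented quotient at some stage.
-/

set_option autoImplicit false
set_option linter.unusedSectionVars false
set_option linter.style.haveILetI false
universe u
open CategoryTheory CategoryTheory.Limits AlgebraicGeometry Opposite TopologicalSpace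

namespace Groth.Agent.Lib.T2H5.ModLimG

open Groth.Agent.Lib.T2H5.ModLimB Groth.Agent.Lib.T2H5.ModLimE Groth.Agent.Lib.T2H5.ModLimF
open Groth.Agent.Helper18Strict

variable {I : Type u} [SmallCategory I] [IsCofiltered I] (D : I ⥤ Scheme.{u}) (c : Cone D)
  (hc : IsLimit c) [∀ (i j : I) (f : i ⟶ j), IsAffineHom (D.map f)] (i₀ : I)

include hc in
theorem quotient_descends [CompactSpace (D.obj i₀)] [QuasiSeparatedSpace (D.obj i₀)]
    (F₀ : (D.obj i₀).Modules) [F₀.IsQuasicoherent]
    (hF₀ : SheafOfModules.IsFinitePresentation (R := (D.obj i₀).ringCatSheaf) F₀)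
    {G : c.pt.Modules} [G.IsQuasicoherent]
    (hG : SheafOfModules.IsFinitePresentation (R := c.pt.ringCatSheaf) G)
    (p : (Scheme.Modules.pullback (c.π.app i₀)).obj F₀ ⟶ G) [Epi p] :
    ∃ (j : I) (φ : j ⟶ i₀) (Gj : (D.obj j).Modules) (_ : Gj.IsQuasicoherent)
      (pj : (Scheme.Modules.pullback (D.map φ)).obj F₀ ⟶ Gj)
      (e : (Scheme.Modules.pullback (c.π.app j)).obj Gj ≅ G),
      CohB1.IsFP Gj ∧ Epi pj ∧
        ((Scheme.Modules.pullbackComp (c.π.app j) (D.map φ) ≪≫
            Scheme.Modules.pullbackCongr (c.w φ)).app F₀).inv ≫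
          (Scheme.Modules.pullback (c.π.app j)).map pj ≫ e.hom = p := by
  haveI : IsAffineHom (c.π.app i₀) := isAffineHom_π_app D c hc i₀
  haveI hq0 : ((Scheme.Modules.pullback (c.π.app i₀)).obj F₀).IsQuasicoherent :=
    Groth.Agent.Lib.Helper20.PullbackAff.isQuasicoherent_pullback (c.π.app i₀) F₀
  have hfp0 : SheafOfModules.IsFinitePresentation (R := c.pt.ringCatSheaf)
      ((Scheme.Modules.pullback (c.π.app i₀)).obj F₀) := isFP_pullback (c.π.app i₀) F₀ hF₀
  have hft0 : SheafOfModules.IsFiniteType (R := c.pt.ringCatSheaf)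
      ((Scheme.Modules.pullback (c.π.app i₀)).obj F₀) := isFT_of_isFP _ hfp0
  haveI hKq : (kernel p).IsQuasicoherent :=
    Groth.Agent.Lib.Helper23.QCohLocal.isQuasicoherent_kernel p
  have hKft : SheafOfModules.IsFiniteType (R := c.pt.ringCatSheaf) (kernel p) :=
    Groth.Agent.Lib.Helper26.ModLim2.isFiniteType_kernel_of_epi hft0 hG p
  obtain ⟨H₁, β, hH₁, hβ⟩ := exists_fp_pullback_epi (X := c.pt) (c.π.app i₀) (kernel p) hKft
  haveI := hβ
  haveI : H₁.IsQuasicoherent := isQCoh_of_isFP H₁ hH₁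
  haveI : SheafOfModules.IsFinitePresentation (R := (D.obj i₀).ringCatSheaf) H₁ := hH₁
  obtain ⟨j, φ, dj, hdj⟩ := hom_surjective D c hc i₀ H₁ F₀ (β ≫ kernel.ι p)
  haveI hq1 : ((Scheme.Modules.pullback (D.map φ)).obj H₁).IsQuasicoherent :=
    Groth.Agent.Lib.Helper20.PullbackAff.isQuasicoherent_pullback _ _
  haveI hq2 : ((Scheme.Modules.pullback (D.map φ)).obj F₀).IsQuasicoherent :=
    Groth.Agent.Lib.Helper20.PullbackAff.isQuasicoherent_pullback _ _
  haveI hp1 : SheafOfModules.IsFinitePresentation (R := (D.obj j).ringCatSheaf)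
      ((Scheme.Modules.pullback (D.map φ)).obj H₁) := isFP_pullback (D.map φ) H₁ hH₁
  haveI hp2 : SheafOfModules.IsFinitePresentation (R := (D.obj j).ringCatSheaf)
      ((Scheme.Modules.pullback (D.map φ)).obj F₀) := isFP_pullback (D.map φ) F₀ hF₀
  have hsq : (Scheme.Modules.pullback (c.π.app j)).map dj ≫
      ((Scheme.Modules.pullbackComp (c.π.app j) (D.map φ) ≪≫
        Scheme.Modules.pullbackCongr (c.w φ)).app F₀).hom =
      ((Scheme.Modules.pullbackComp (c.π.app j) (D.map φ) ≪≫
        Scheme.Modules.pullbackCongr (c.w φ)).app H₁).hom ≫ (β ≫ kernel.ι p) := by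
    rw [← hdj]
    simp only [Iso.hom_inv_id_assoc]
  let e0 : (Scheme.Modules.pullback (c.π.app j)).obj (cokernel dj) ≅
      cokernel ((Scheme.Modules.pullback (c.π.app j)).map dj) :=
    PreservesCokernel.iso (Scheme.Modules.pullback (c.π.app j)) dj
  have h0 : (Scheme.Modules.pullback (c.π.app j)).map (cokernel.π dj) ≫ e0.hom =
      cokernel.π ((Scheme.Modules.pullback (c.π.app j)).map dj) :=
    PreservesCokernel.π_iso_hom _ _
  let e1 : cokernel ((Scheme.Modules.pullback (c.π.app j)).map dj) ≅ cokernel (β ≫ kernel.ι p) :=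
    cokernel.mapIso _ _ _ _ hsq
  have h1 : cokernel.π ((Scheme.Modules.pullback (c.π.app j)).map dj) ≫ e1.hom =
      ((Scheme.Modules.pullbackComp (c.π.app j) (D.map φ) ≪≫
        Scheme.Modules.pullbackCongr (c.w φ)).app F₀).hom ≫ cokernel.π (β ≫ kernel.ι p) := by
    simp [e1]
  let e2 : cokernel (β ≫ kernel.ι p) ≅ cokernel (kernel.ι p) := cokernelEpiComp β (kernel.ι p)
  have h2 : cokernel.π (β ≫ kernel.ι p) ≫ e2.hom = cokernel.π (kernel.ι p) := by
    simp [e2]
  let e3 : cokernel (kernel.ι p) ≅ G :=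
    (cokernelIsCokernel (kernel.ι p)).coconePointUniqueUpToIso
      (Abelian.epiIsCokernelOfKernel (KernelFork.ofι (kernel.ι p) (kernel.condition p))
        (kernelIsKernel p))
  have h3 : cokernel.π (kernel.ι p) ≫ e3.hom = p :=
    (cokernelIsCokernel (kernel.ι p)).comp_coconePointUniqueUpToIso_hom _ WalkingParallelPair.one
  refine ⟨j, φ, cokernel dj, Groth.Agent.Lib.Helper23.QCohLocal.isQuasicoherent_cokernel dj,
    cokernel.π dj, e0 ≪≫ e1 ≪≫ e2 ≪≫ e3,
    Groth.Agent.Lib.T2H3.InjFlatOpen.isFinitePresentation_cokernel dj, inferInstance, ?_⟩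
  simp only [Iso.trans_hom]
  rw [← Category.assoc _ e0.hom, h0, ← Category.assoc _ e1.hom, h1, Category.assoc,
    ← Category.assoc _ e2.hom, h2, h3, Iso.inv_hom_id_assoc]

end Groth.Agent.Lib.T2H5.ModLimG
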