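import Mathlib

/-!
# Morphisms from a Noetherian object to a coproduct (helper5, team 2)

In a Grothendieck abelian category, a morphism from a Noetherian object to a coproduct `∐ I` factors through a finite
subcoproduct (`exists_factor_finite`).  Consequently (`exists_extend_coproduct`) morphisms from subobjects of a
Noetherian object to a coproduct of injective objects extend.
-/
set_option autoImplicit false
set_option linter.style.haveILetI false
set_option linter.unusedSectionVars false
universe w v u
open CategoryTheory Category Limits ZeroObject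

namespace Groth.Agent.Lib.T2H5.NoethCoprod

open CoproductsFromFiniteFiltered

attribute [local instance] IsFiltered.isConnected

variable {C : Type u} [Category.{v} C] [Abelian C] [IsGrothendieckAbelian.{w} C]
  {K : Type w} (I : K → C)

/-- the index category of finite subsets -/
abbrev J (K : Type w) : Type w := Finset (Discrete K)

/-- the diagram of finite subcoproducts -/
noncomputable abbrev D : J K ⥤ C := liftToFinsetObj (Discrete.functor I)

/-- the inclusions of the finite subcoproducts, as a natural transformation to the constant diagram -/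
noncomputable abbrev σ : D I ⟶ (Functor.const (J K)).obj (∐ I) := (finiteSubcoproductsCocone I).ι

instance : IsIso (colimMap (σ I)) :=
  IsColimit.isIso_colimMap_ι (isColimitFiniteSubproductsCocone I)

instance (S : J K) : Mono ((σ I).app S) := by
  have hι : Function.Injective (fun x : S => x.1.as) := by
    rintro ⟨⟨a⟩, ha⟩ ⟨⟨b⟩, hb⟩ h
    cases h
    rfl
  exact MonoCoprod.mono_of_injective' I (fun x : S => x.1.as) hι

variable {A : C} (φ : A ⟶ ∐ I)

/-- the quotient diagram `S ↦ (∐ I) / D_S` -/
noncomputable abbrev V : J K ⥤ C := cokernel (σ I)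

/-- the composite `A ⟶ ∐ I ⟶ (∐ I) / D_S`, as a morphism of diagrams -/
noncomputable abbrev g : (Functor.const (J K)).obj A ⟶ V I :=
  (Functor.const (J K)).map φ ≫ cokernel.π (σ I)

instance : HasExactColimitsOfShape (J K) C := inferInstance

theorem isZero_colim_V : IsZero ((colim : (J K ⥤ C) ⥤ C).obj (V I)) := by
  have e := PreservesCokernel.iso (colim : (J K ⥤ C) ⥤ C) (σ I)
  haveI : IsIso ((colim : (J K ⥤ C) ⥤ C).map (σ I)) := inferInstanceAs (IsIso (colimMap (σ I)))
  exact (isZero_cokernel_of_epi _).of_iso e

theorem epi_colim_kernel : Epi ((colim : (J K ⥤ C) ⥤ C).map (kernel.ι (g I φ))) := by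
  have hS : (ShortComplex.mk (kernel.ι (g I φ)) (g I φ) (kernel.condition _)).Exact :=
    ShortComplex.exact_kernel _
  have hS' := hS.map (colim : (J K ⥤ C) ⥤ C)
  exact hS'.epi_f ((isZero_colim_V I).eq_of_tgt _ _)

instance (S : J K) : Mono ((kernel.ι (g I φ)).app S) :=
  (NatTrans.mono_iff_mono_app _).1 inferInstance S

/-- the kernels `ker (A ⟶ (∐ I) / D_S)` as a diagram of subobjects of `A` -/
noncomputable def F : J K ⥤ MonoOver A where
  obj S := MonoOver.mk ((kernel.ι (g I φ)).app S)
  map {S S'} h := MonoOver.homMk ((kernel (g I φ)).map h) (by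
    exact ((kernel.ι (g I φ)).naturality h).trans (Category.comp_id _))

theorem iSup_eq_top : (⨆ S, Subobject.mk ((kernel.ι (g I φ)).app S)) = ⊤ := by
  let G := F I φ ⋙ MonoOver.forget _ ⋙ Over.forget _
  let c : Cocone G := colimit.cocone G
  let s : Cocone G :=
    { pt := A
      ι :=
        { app := fun S => (kernel.ι (g I φ)).app S
          naturality := fun S S' h => (kernel.ι (g I φ)).naturality h } }
  let f : c.pt ⟶ A := colimit.desc G s
  have hf : ∀ S, c.ι.app S ≫ f = ((F I φ).obj S).obj.hom := fun S => colimit.ι_desc s S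
  have hmono := IsGrothendieckAbelian.mono_of_isColimit_monoOver (F I φ) (colimit.isColimit G) f hf
  have hsup := IsGrothendieckAbelian.subobjectMk_of_isColimit_eq_iSup (F I φ) (colimit.isColimit G) f hf
  -- `f` is an epimorphism
  haveI : Epi f := by
    haveI := epi_colim_kernel I φ
    let tA : colimit ((Functor.const (J K)).obj A) ⟶ A :=
      colimit.desc _ (constCocone (J K) A)
    have htA : ∀ S : J K, colimit.ι ((Functor.const (J K)).obj A) S ≫ tA = 𝟙 A :=
      fun S => colimit.ι_desc (constCocone (J K) A) S
    haveI : IsSplitEpi tA := ⟨⟨⟨colimit.ι ((Functor.const (J K)).obj A) ∅, htA ∅⟩⟩⟩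
    constructor
    intro Z h₁ h₂ h
    have key : (colim : (J K ⥤ C) ⥤ C).map (kernel.ι (g I φ)) ≫ (tA ≫ h₁) =
        (colim : (J K ⥤ C) ⥤ C).map (kernel.ι (g I φ)) ≫ (tA ≫ h₂) := by
      apply colimit.hom_ext
      intro S
      have e1 : colimit.ι (kernel (g I φ)) S ≫ (colim : (J K ⥤ C) ⥤ C).map (kernel.ι (g I φ)) ≫ tA =
          (kernel.ι (g I φ)).app S := by
        rw [← Category.assoc]
        have e0 : colimit.ι (kernel (g I φ)) S ≫ (colim : (J K ⥤ C) ⥤ C).map (kernel.ι (g I φ)) =
            (kernel.ι (g I φ)).app S ≫ colimit.ι ((Functor.const (J K)).obj A) S := by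
          simp
        rw [e0, Category.assoc, htA]
        exact Category.comp_id _
      have e2 := congrArg (fun m => c.ι.app S ≫ m) h
      simp only [← Category.assoc, hf] at e2
      rw [← Category.assoc, ← Category.assoc, ← Category.assoc, ← Category.assoc]
      rw [Category.assoc (colimit.ι _ S), e1]
      exact e2
    exact (cancel_epi tA).1 ((cancel_epi _).1 key)
  haveI := hmono
  haveI : IsIso f := isIso_of_mono_of_epi f
  have hsup' : Subobject.mk f = ⨆ S, Subobject.mk ((kernel.ι (g I φ)).app S) := hsup
  rw [← hsup']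
  exact Subobject.mk_eq_top_of_isIso f

/-- A morphism from a Noetherian object to a coproduct factors through a finite subcoproduct. -/
theorem exists_factor_finite [IsNoetherianObject A] :
    ∃ (S : J K) (φ₀ : A ⟶ (D I).obj S), φ₀ ≫ (σ I).app S = φ := by
  classical
  let t : J K → Subobject A := fun S => Subobject.mk ((kernel.ι (g I φ)).app S)
  have tmono : ∀ S S' : J K, S ≤ S' → t S ≤ t S' := fun S S' h =>
    Subobject.mk_le_mk_of_comm ((kernel (g I φ)).map (homOfLE h))
      (((kernel.ι (g I φ)).naturality (homOfLE h)).trans (Category.comp_id _))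
  obtain ⟨m, ⟨S₀, rfl⟩, hmax⟩ :=
    WellFounded.has_min (wellFounded_gt (α := Subobject A)) (Set.range t) ⟨_, ∅, rfl⟩
  have hle : ∀ S, t S ≤ t S₀ := by
    intro S
    have h1 : t S₀ ≤ t (S ∪ S₀) := tmono _ _ Finset.subset_union_right
    have h2 : t (S ∪ S₀) = t S₀ :=
      (eq_of_le_of_not_lt h1 (hmax (t (S ∪ S₀)) ⟨_, rfl⟩)).symm
    exact (tmono _ _ Finset.subset_union_left).trans h2.le
  have htop : t S₀ = ⊤ := by
    rw [eq_top_iff, ← iSup_eq_top I φ]
    exact iSup_le hle
  haveI : IsIso ((kernel.ι (g I φ)).app S₀) := (Subobject.isIso_iff_mk_eq_top _).2 htop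
  have hg0 : φ ≫ (cokernel.π (σ I)).app S₀ = 0 := by
    have h := congr_app (kernel.condition (g I φ)) S₀
    rw [NatTrans.comp_app] at h
    have h' : (kernel.ι (g I φ)).app S₀ ≫ (g I φ).app S₀ = 0 := h
    exact (cancel_epi ((kernel.ι (g I φ)).app S₀)).1 (h'.trans comp_zero.symm)
  have hex : (ShortComplex.mk (σ I) (cokernel.π (σ I)) (cokernel.condition _)).Exact :=
    ShortComplex.exact_cokernel _
  have hex' := hex.map ((evaluation (J K) C).obj S₀)
  haveI : Mono ((ShortComplex.mk (σ I) (cokernel.π (σ I)) (cokernel.condition _)).map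
      ((evaluation (J K) C).obj S₀)).f := inferInstanceAs (Mono ((σ I).app S₀))
  exact ⟨S₀, hex'.lift φ hg0, hex'.lift_f φ hg0⟩

theorem injective_biproduct {β : Type*} (c : β → C) [HasBiproduct c] (h : ∀ b, Injective (c b)) :
    Injective (⨁ c) where
  factors g f mono := by
    refine ⟨biproduct.lift fun b => Injective.factorThru (g ≫ biproduct.π _ _) f, ?_⟩
    ext
    simp only [Category.assoc, biproduct.lift_π, Injective.comp_factorThru]

theorem injective_D (hI : ∀ k, Injective (I k)) (S : J K) : Injective ((D I).obj S) := by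
  haveI : HasFiniteBiproducts C := Abelian.hasFiniteBiproducts
  haveI : HasBiproductsOfShape S C := hasBiproductsOfShape_finite C
  haveI : HasBiproduct (fun x : S => (Discrete.functor I).obj x) := HasBiproductsOfShape.has_biproduct _
  haveI := injective_biproduct (fun x : S => (Discrete.functor I).obj x) (fun x => hI _)
  exact Injective.of_iso (biproduct.isoCoproduct (fun x : S => (Discrete.functor I).obj x)) inferInstance

/-- morphisms from subobjects of a Noetherian object to a coproduct of injectives extend -/
theorem exists_extend_coproduct (hI : ∀ k, Injective (I k)) {E : C} [IsNoetherianObject E]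
    (a : A ⟶ E) [Mono a] : ∃ ψ : E ⟶ ∐ I, a ≫ ψ = φ := by
  haveI : IsNoetherianObject A := isNoetherianObject_of_mono a
  obtain ⟨S, φ₀, hφ₀⟩ := exists_factor_finite I φ
  haveI := injective_D I hI S
  refine ⟨Injective.factorThru φ₀ a ≫ (σ I).app S, ?_⟩
  rw [← Category.assoc, Injective.comp_factorThru, hφ₀]

end Groth.Agent.Lib.T2H5.NoethCoprod
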