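import Mathlib
import Groth.Prelude.Def_CxOX
import Groth.Agent.Lib.T2H5BaerFam
import Groth.Agent.Lib.T2H5NoethCoprod
import Groth.Agent.Lib.T2H5LocInj
import Groth.Agent.Lib.T2H5ExtZeroNoeth

/-!
# Coproducts of injective modules on a locally Noetherian scheme (helper5, team 2)

* `injective_coproduct`: in a Grothendieck abelian category with a family of Noetherian objects detecting
  isomorphisms among monomorphisms, coproducts of injective objects are injective;
* `noeth_affine`: on a locally Noetherian scheme `j_{W!} O_W` is a Noetherian object for `W` affine open;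
* `injective_coproduct_modules`: coproducts of injective `O_X`-modules are injective on a locally Noetherian scheme.
-/
set_option autoImplicit false
set_option linter.style.haveILetI false
set_option linter.unusedSectionVars false
universe w v u
open CategoryTheory Category Limits AlgebraicGeometry TopologicalSpace Opposite

namespace Groth.Agent.Lib.T2H5.NoethCoprodSch

open Groth.Agent.Lib.T2H5.NoethCoprod

section Abstract

variable {C : Type u} [Category.{v} C] [Abelian C] [IsGrothendieckAbelian.{w} C]

theorem injective_coproduct {ι' : Type*} (G : ι' → C)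
    (hdet : ∀ {X Y : C} (p : X ⟶ Y) [Mono p], ¬ IsIso p →
      ∃ (i : ι') (f : G i ⟶ Y), ∀ a : G i ⟶ X, a ≫ p ≠ f)
    (hG : ∀ i, IsNoetherianObject (G i))
    {K : Type w} (I : K → C) (hI : ∀ k, Injective (I k)) : Injective (∐ I) := by
  refine Groth.Agent.Lib.T2H5.BaerFam.injective_of_forall_extend.{w} G hdet (∐ I) ?_
  intro i A φ
  haveI := hG i
  exact exists_extend_coproduct I φ hI A.arrow

end Abstract

section Scheme

variable {X : Scheme.{u}}

theorem noeth_affine [IsLocallyNoetherian X] (W : X.Opens) (hW : IsAffineOpen W) :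
    IsNoetherianObject (CxOX.extZeroUnit W.ι) := by
  rw [isNoetherianObject_iff_monotone_chain_condition]
  intro c
  haveI : IsLocallyNoetherian (W : Scheme.{u}) := isLocallyNoetherian_of_isOpenImmersion W.ι
  haveI : IsAffine (W : Scheme.{u}) := hW
  haveI : IsNoetherian (W : Scheme.{u}) := {}
  exact Groth.Agent.Lib.T2H5.ExtZeroNoeth.noeth_ι W c

theorem injective_coproduct_modules [IsLocallyNoetherian X] {K : Type u} (I : K → X.Modules)
    (hI : ∀ k, Injective (I k)) : Injective (∐ I) := by
  let B : X.Opens → Prop := fun W => IsAffineOpen W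
  have hB : ∀ (x : X) (V : X.Opens), x ∈ V → ∃ W : X.Opens, B W ∧ x ∈ W ∧ W ≤ V := by
    intro x V hxV
    obtain ⟨W, hW, hxW, hWV⟩ := Opens.isBasis_iff_nbhd.1 (X.isBasis_affineOpens) hxV
    exact ⟨W, hW, hxW, hWV⟩
  exact injective_coproduct.{u} (fun W : {W : X.Opens // B W} => CxOX.extZeroUnit W.1.ι)
    (fun p _ hp => Groth.Agent.Lib.T2H5.LocInj.exists_not_factor B hB p hp)
    (fun W => noeth_affine W.1 W.2) I hI

end Scheme

end Groth.Agent.Lib.T2H5.NoethCoprodSch
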