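import Mathlib
import Groth.Agent.Lib.T2H6ChowLim
import Groth.Agent.S9189

/-!
# Properness descends along cofiltered limits with affine transition maps (helper6, team 2)

Stacks 081F, through Chow's lemma over a qcqs base (`ChowLim.chow_qcqs`), descent of separatedness
(`S9190`) and of closed immersions (`S9189`).
-/

set_option autoImplicit false
universe u

namespace Groth.Agent.Lib.T2H6.PropDesc

open AlgebraicGeometry CategoryTheory TopologicalSpace Limits CohB1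
open Groth.Agent.Lib.T2H6.ChowLim

/-- the pasting pattern: a Chow diagram `X₀' → X₀`, `X₀' → P₀ → Y₀` base changed along `pY`. -/
theorem exists_lift_chow {X₀ Y₀ X₀' P₀ X Y P X' : Scheme.{u}} {f₀ : X₀ ⟶ Y₀} {π₀ : X₀' ⟶ X₀}
    {ι₀ : X₀' ⟶ P₀} {p₀ : P₀ ⟶ Y₀} (hc : ι₀ ≫ p₀ = π₀ ≫ f₀) {pY : Y ⟶ Y₀} {pX : X ⟶ X₀}
    {f : X ⟶ Y} {pP : P ⟶ P₀} {a : P ⟶ Y} {pX' : X' ⟶ X₀'} {ι : X' ⟶ P}
    (hX : IsPullback pX f f₀ pY) (hP : IsPullback pP a p₀ pY) (hX' : IsPullback pX' ι ι₀ pP) :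
    ∃ b : X' ⟶ X, IsPullback pX' b π₀ pX ∧ b ≫ f = ι ≫ a := by
  have hcompat : (pX' ≫ π₀) ≫ f₀ = (ι ≫ a) ≫ pY := by
    rw [Category.assoc, ← hc, ← Category.assoc, hX'.w, Category.assoc, hP.w, Category.assoc]
  let b : X' ⟶ X := hX.lift (pX' ≫ π₀) (ι ≫ a) hcompat
  have hb1 : b ≫ pX = pX' ≫ π₀ := hX.lift_fst _ _ _
  have hb2 : b ≫ f = ι ≫ a := hX.lift_snd _ _ _
  refine ⟨b, ?_, hb2⟩
  have hbig : IsPullback pX' (b ≫ f) (π₀ ≫ f₀) pY := by
    rw [hb2, ← hc]; exact hX'.paste_vert hP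
  exact IsPullback.of_bot hbig hb1.symm hX

section

variable {I : Type u} [SmallCategory I] [IsCofiltered I]
    (D : I ⥤ Scheme.{u}) (c : Limits.Cone D) (hc : Limits.IsLimit c)
    [∀ (i j : I) (f : i ⟶ j), IsAffineHom (D.map f)]

include hc in
/-- the separated case. -/
theorem descend_of_isSeparated (i₀ : I) [CompactSpace (D.obj i₀)]
    [QuasiSeparatedSpace (D.obj i₀)] {X₀ Y₀ : Scheme.{u}} (f₀ : X₀ ⟶ Y₀) (g₀ : Y₀ ⟶ D.obj i₀)
    [CompactSpace X₀] [QuasiSeparatedSpace X₀] [CompactSpace Y₀] [QuasiSeparatedSpace Y₀]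
    {X Y : Scheme.{u}} (f : X ⟶ Y) (g : Y ⟶ c.pt) (qY : Y ⟶ Y₀) (qX : X ⟶ X₀)
    (hY : IsPullback qY g g₀ (c.π.app i₀)) (hX : IsPullback qX f f₀ qY) [LocallyOfFiniteType f₀]
    [IsSeparated f₀] [IsProper f] :
    ∃ (i : I) (φ : i ⟶ i₀) (Xi Yi : Scheme.{u}) (fi : Xi ⟶ Yi) (gi : Yi ⟶ D.obj i) (pY : Yi ⟶ Y₀)
      (pX : Xi ⟶ X₀), IsPullback pY gi g₀ (D.map φ) ∧ IsPullback pX fi f₀ pY ∧ IsProper fi := by
  haveI : QuasiCompact f₀ := inferInstance
  obtain ⟨n, X₀', π₀, ι₀, hι₀, hcomp, hπ₀, hπ₀s⟩ := chow_qcqs f₀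
  haveI := hι₀; haveI := hπ₀; haveI := hπ₀s
  let P₀ := ProjSpaceOver n Y₀
  let p₀ : P₀ ⟶ Y₀ := ProjSpaceOver.toBase n Y₀
  haveI : IsProper p₀ := Groth.Agent.S9705.isProper_toBase n Y₀
  have hcomp' : ι₀ ≫ p₀ = π₀ ≫ f₀ := hcomp
  haveI : CompactSpace P₀ := QuasiCompact.compactSpace_of_compactSpace p₀
  haveI : QuasiSeparatedSpace P₀ := quasiSeparatedSpace_of_quasiSeparated p₀
  haveI : CompactSpace X₀' := QuasiCompact.compactSpace_of_compactSpace π₀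
  haveI : QuasiSeparatedSpace X₀' := quasiSeparatedSpace_of_quasiSeparated π₀
  haveI : LocallyOfFiniteType (ι₀ ≫ p₀) := by rw [hcomp']; infer_instance
  haveI : LocallyOfFiniteType ι₀ := locallyOfFiniteType_of_comp ι₀ p₀
  -- limit level
  let P := pullback p₀ qY
  let pP : P ⟶ P₀ := pullback.fst p₀ qY
  let a : P ⟶ Y := pullback.snd p₀ qY
  have hP : IsPullback pP a p₀ qY := IsPullback.of_hasPullback p₀ qY
  let X' := pullback ι₀ pP
  let pX' : X' ⟶ X₀' := pullback.fst ι₀ pP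
  let ι : X' ⟶ P := pullback.snd ι₀ pP
  have hX' : IsPullback pX' ι ι₀ pP := IsPullback.of_hasPullback ι₀ pP
  obtain ⟨b, hb, hbf⟩ := exists_lift_chow hcomp' hX hP hX'
  haveI : IsProper b := MorphismProperty.of_isPullback (P := @IsProper) hb inferInstance
  haveI : IsProper a := MorphismProperty.of_isPullback (P := @IsProper) hP inferInstance
  haveI : IsProper (ι ≫ a) := by rw [← hbf]; infer_instance
  haveI : IsProper ι :=
    MorphismProperty.of_postcomp (W := @IsProper) (W' := @IsSeparated) ι a inferInstance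
      inferInstance
  haveI : IsImmersion ι := MorphismProperty.of_isPullback (P := @IsImmersion) hX' inferInstance
  haveI : IsClosedImmersion ι :=
    IsClosedImmersion.of_isPreimmersion _ ι.isClosedMap.isClosed_range
  have hY' : IsPullback pP (a ≫ g) (p₀ ≫ g₀) (c.π.app i₀) := hP.paste_vert hY
  obtain ⟨i, φ, X'i, Pi, ιi, gPi, pPi, pX'i, hPi, hX'i, hιi⟩ :=
    Groth.Agent.S9189.result D c hc i₀ ι₀ (p₀ ≫ g₀) ι (a ≫ g) pP pX' hY' hX'
  haveI := hιi
  -- stage level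
  let Yi := pullback g₀ (D.map φ)
  let pY : Yi ⟶ Y₀ := pullback.fst g₀ (D.map φ)
  let gi : Yi ⟶ D.obj i := pullback.snd g₀ (D.map φ)
  have hYi : IsPullback pY gi g₀ (D.map φ) := IsPullback.of_hasPullback _ _
  let ai : Pi ⟶ Yi := hYi.lift (pPi ≫ p₀) gPi (by rw [Category.assoc]; exact hPi.w)
  have hai1 : ai ≫ pY = pPi ≫ p₀ := hYi.lift_fst _ _ _
  have hai2 : ai ≫ gi = gPi := hYi.lift_snd _ _ _
  have hPi' : IsPullback pPi ai p₀ pY := by
    have hbig : IsPullback pPi (ai ≫ gi) (p₀ ≫ g₀) (D.map φ) := by rw [hai2]; exact hPi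
    exact IsPullback.of_bot hbig hai1.symm hYi
  let Xi := pullback f₀ pY
  let pX : Xi ⟶ X₀ := pullback.fst f₀ pY
  let fi : Xi ⟶ Yi := pullback.snd f₀ pY
  have hXi : IsPullback pX fi f₀ pY := IsPullback.of_hasPullback _ _
  obtain ⟨bi, hbi, hbif⟩ := exists_lift_chow hcomp' hXi hPi' hX'i
  haveI : Surjective bi := MorphismProperty.of_isPullback (P := @Surjective) hbi inferInstance
  haveI : IsProper ai := MorphismProperty.of_isPullback (P := @IsProper) hPi' inferInstance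
  haveI : IsProper (bi ≫ fi) := by rw [hbif]; infer_instance
  haveI : IsSeparated fi := MorphismProperty.of_isPullback (P := @IsSeparated) hXi inferInstance
  haveI : LocallyOfFiniteType fi :=
    MorphismProperty.of_isPullback (P := @LocallyOfFiniteType) hXi inferInstance
  haveI : QuasiCompact fi :=
    MorphismProperty.of_isPullback (P := @QuasiCompact) hXi inferInstance
  haveI : UniversallyClosed fi := UniversallyClosed.of_comp_surjective bi fi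
  exact ⟨i, φ, Xi, Yi, fi, gi, pY, pX, hYi, hXi, {}⟩

include hc in
theorem descend (i₀ : I) [CompactSpace (D.obj i₀)]
    [QuasiSeparatedSpace (D.obj i₀)] {X₀ Y₀ : Scheme.{u}} (f₀ : X₀ ⟶ Y₀) (g₀ : Y₀ ⟶ D.obj i₀)
    [CompactSpace X₀] [QuasiSeparatedSpace X₀] [CompactSpace Y₀] [QuasiSeparatedSpace Y₀]
    {X Y : Scheme.{u}} (f : X ⟶ Y) (g : Y ⟶ c.pt) (qY : Y ⟶ Y₀) (qX : X ⟶ X₀)
    (hY : IsPullback qY g g₀ (c.π.app i₀)) (hX : IsPullback qX f f₀ qY) [LocallyOfFiniteType f₀]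
    [IsProper f] :
    ∃ (i : I) (φ : i ⟶ i₀) (Xi Yi : Scheme.{u}) (fi : Xi ⟶ Yi) (gi : Yi ⟶ D.obj i) (pY : Yi ⟶ Y₀)
      (pX : Xi ⟶ X₀), IsPullback pY gi g₀ (D.map φ) ∧ IsPullback pX fi f₀ pY ∧ IsProper fi := by
  obtain ⟨i₁, φ₁, X₁, Y₁, f₁, g₁, pY₁, pX₁, hY₁, hX₁, hsep⟩ :=
    Groth.Agent.S9190.result D c hc i₀ f₀ g₀ f g qY qX hY hX
  haveI := hsep
  -- the stage `i₁` is qcqs
  haveI : CompactSpace (D.obj i₁) := QuasiCompact.compactSpace_of_compactSpace (D.map φ₁)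
  haveI : QuasiSeparatedSpace (D.obj i₁) := quasiSeparatedSpace_of_quasiSeparated (D.map φ₁)
  haveI : QuasiCompact g₀ := inferInstance
  haveI : QuasiSeparated g₀ := inferInstance
  haveI : QuasiCompact f₀ := inferInstance
  haveI : QuasiSeparated f₀ := inferInstance
  haveI : QuasiCompact g₁ := MorphismProperty.of_isPullback (P := @QuasiCompact) hY₁ inferInstance
  haveI : QuasiSeparated g₁ :=
    MorphismProperty.of_isPullback (P := @QuasiSeparated) hY₁ inferInstance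
  haveI : CompactSpace Y₁ := QuasiCompact.compactSpace_of_compactSpace g₁
  haveI : QuasiSeparatedSpace Y₁ := quasiSeparatedSpace_of_quasiSeparated g₁
  haveI : QuasiCompact f₁ := MorphismProperty.of_isPullback (P := @QuasiCompact) hX₁ inferInstance
  haveI : QuasiSeparated f₁ :=
    MorphismProperty.of_isPullback (P := @QuasiSeparated) hX₁ inferInstance
  haveI : CompactSpace X₁ := QuasiCompact.compactSpace_of_compactSpace f₁
  haveI : QuasiSeparatedSpace X₁ := quasiSeparatedSpace_of_quasiSeparated f₁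
  haveI : LocallyOfFiniteType f₁ :=
    MorphismProperty.of_isPullback (P := @LocallyOfFiniteType) hX₁ inferInstance
  -- `Y` and `X` over the new stage
  have hw : c.π.app i₁ ≫ D.map φ₁ = c.π.app i₀ := c.w φ₁
  let qY' : Y ⟶ Y₁ := hY₁.lift qY (g ≫ c.π.app i₁) (by rw [Category.assoc, hw]; exact hY.w)
  have hqY1 : qY' ≫ pY₁ = qY := hY₁.lift_fst _ _ _
  have hqY2 : qY' ≫ g₁ = g ≫ c.π.app i₁ := hY₁.lift_snd _ _ _
  have hY' : IsPullback qY' g g₁ (c.π.app i₁) := by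
    have hbig : IsPullback (qY' ≫ pY₁) g g₀ (c.π.app i₁ ≫ D.map φ₁) := by
      rw [hqY1, hw]; exact hY
    exact IsPullback.of_right hbig hqY2 hY₁
  let qX' : X ⟶ X₁ := hX₁.lift qX (f ≫ qY') (by rw [Category.assoc, hqY1]; exact hX.w)
  have hqX1 : qX' ≫ pX₁ = qX := hX₁.lift_fst _ _ _
  have hqX2 : qX' ≫ f₁ = f ≫ qY' := hX₁.lift_snd _ _ _
  have hX' : IsPullback qX' f f₁ qY' := by
    have hbig : IsPullback (qX' ≫ pX₁) f f₀ (qY' ≫ pY₁) := by
      rw [hqX1, hqY1]; exact hX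
    exact IsPullback.of_right hbig hqX2 hX₁
  obtain ⟨i, φ, Xi, Yi, fi, gi, pY, pX, hYi, hXi, hprop⟩ :=
    descend_of_isSeparated D c hc i₁ f₁ g₁ f g qY' qX' hY' hX'
  refine ⟨i, φ ≫ φ₁, Xi, Yi, fi, gi, pY ≫ pY₁, pX ≫ pX₁, ?_, ?_, hprop⟩
  · rw [D.map_comp]; exact hYi.paste_horiz hY₁
  · exact hXi.paste_horiz hX₁

end

end Groth.Agent.Lib.T2H6.PropDesc
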