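import Mathlib
import Groth.Agent.S0591
import Groth.Agent.Lib.T2H6PropDesc
import Groth.Agent.Lib.T2H5ModLimF
import Groth.Agent.Lib.Helper26FlatLimC
import Groth.Agent.Lib.T2H7GrpLimA
set_option backward.isDefEq.respectTransparency.types false

/-!
# Descent of a proper finitely presented morphism with a flat finitely presented module to a stage (helper5)

Namespace `Groth.Agent.Lib.T2H5.NoethModel`.

`S = lim S_i` cofiltered limit of qcqs schemes with affine transition maps.

* `exists_proper_stage`: a proper morphism of finite presentation `X ⟶ S` is the base change of a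
  proper morphism of finite presentation `X₀ ⟶ S_i`.
* `exists_model`: moreover a quasi-coherent finitely presented module on `X`, flat over `S`, is the
  pull-back of a quasi-coherent finitely presented module on `X₀`, flat over `S_i`.
-/

set_option autoImplicit false
set_option linter.style.haveILetI false
set_option linter.unusedSectionVars false
universe u
open CategoryTheory CategoryTheory.Limits AlgebraicGeometry TopologicalSpace Opposite

namespace Groth.Agent.Lib.T2H5.NoethModel

open Groth.Agent.Lib.T2H7.GrpLimA Groth.Agent.Lib.T2H5.ModLimB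

variable {I : Type u} [SmallCategory I] [IsCofiltered I] (D : I ⥤ Scheme.{u}) (c : Cone D)
  (hc : IsLimit c) [∀ (i j : I) (f : i ⟶ j), IsAffineHom (D.map f)]
  [∀ i, CompactSpace (D.obj i)] [∀ i, QuasiSeparatedSpace (D.obj i)]

include hc in
theorem exists_proper_stage {X : Scheme.{u}} (f : X ⟶ c.pt) [IsProper f]
    [LocallyOfFinitePresentation f] :
    ∃ (i : I) (X₀ : Scheme.{u}) (x : X₀ ⟶ D.obj i) (q : X ⟶ X₀),
      IsProper x ∧ LocallyOfFinitePresentation x ∧ IsPullback q f x (c.π.app i) := by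
  obtain ⟨i, Xi, fi, g, hlfp, hqc, hqs, hpb⟩ := Groth.Agent.S0591.result D c hc X f
  haveI := hlfp
  haveI := hqc
  haveI := hqs
  haveI : CompactSpace Xi := QuasiCompact.compactSpace_of_compactSpace fi
  haveI : QuasiSeparatedSpace Xi := quasiSeparatedSpace_of_quasiSeparated fi
  haveI : LocallyOfFiniteType fi := inferInstance
  have hY : IsPullback (c.π.app i) (𝟙 c.pt) (𝟙 (D.obj i)) (c.π.app i) := IsPullback.id_vert _
  obtain ⟨i', φ, Xi', Yi', fi', gi, pY, pX, hYi, hXi, hprop⟩ :=
    Groth.Agent.Lib.T2H6.PropDesc.descend D c hc i fi (𝟙 (D.obj i)) f (𝟙 c.pt) (c.π.app i) g hY hpb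
  haveI := hprop
  haveI : IsIso gi := hYi.isIso_snd_of_isIso
  have hw : c.π.app i' ≫ D.map φ = c.π.app i := c.w φ
  let s : c.pt ⟶ Yi' := hYi.lift (c.π.app i) (c.π.app i') (by rw [Category.comp_id, hw])
  have hs1 : s ≫ pY = c.π.app i := hYi.lift_fst _ _ _
  have hs2 : s ≫ gi = c.π.app i' := hYi.lift_snd _ _ _
  let q : X ⟶ Xi' := hXi.lift g (f ≫ s) (by rw [Category.assoc, hs1]; exact hpb.w)
  have hq1 : q ≫ pX = g := hXi.lift_fst _ _ _
  have hq2 : q ≫ fi' = f ≫ s := hXi.lift_snd _ _ _
  have hleft : IsPullback q f fi' s := by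
    have hbig : IsPullback (q ≫ pX) f fi (s ≫ pY) := by rw [hq1, hs1]; exact hpb
    exact IsPullback.of_right hbig hq2 hXi
  have hlow : IsPullback s (𝟙 c.pt) gi (c.π.app i') :=
    IsPullback.of_vert_isIso ⟨by rw [hs2, Category.id_comp]⟩
  have hfin : IsPullback q f (fi' ≫ gi) (c.π.app i') := by
    have h := hleft.paste_vert hlow
    rwa [Category.comp_id] at h
  haveI : LocallyOfFinitePresentation fi' :=
    MorphismProperty.of_isPullback (P := @LocallyOfFinitePresentation) hXi inferInstance
  exact ⟨i', Xi', fi' ≫ gi, q, inferInstance, inferInstance, hfin⟩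

include hc in
theorem exists_model {X : Scheme.{u}} (f : X ⟶ c.pt) [IsProper f] [LocallyOfFinitePresentation f]
    (F : X.Modules) [F.IsQuasicoherent] (hfp : CohB1.IsFP F) (hfl : FlatMod.IsFlatOver f F) :
    ∃ (i : I) (X₀ : Scheme.{u}) (x : X₀ ⟶ D.obj i) (q : X ⟶ X₀) (F₀ : X₀.Modules),
      IsProper x ∧ LocallyOfFinitePresentation x ∧ IsPullback q f x (c.π.app i) ∧
      F₀.IsQuasicoherent ∧ CohB1.IsFP F₀ ∧ FlatMod.IsFlatOver x F₀ ∧
      Nonempty ((Scheme.Modules.pullback q).obj F₀ ≅ F) := by
  obtain ⟨i, X₁, x, q, hxp, hxl, hpb⟩ := exists_proper_stage D c hc f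
  haveI := hxp
  haveI := hxl
  let e : X ≅ pullback x (c.π.app i) := hpb.isoPullback
  have he2 : e.hom ≫ pullback.snd x (c.π.app i) = f := hpb.isoPullback_hom_snd
  -- the module on the limit of the system
  let F' : (sysC D c i x).pt.Modules := (Scheme.Modules.pullback e.inv).obj F
  haveI : F'.IsQuasicoherent :=
    Groth.Agent.Lib.Helper20.PullbackAff.isQuasicoherent_pullback e.inv F
  have hF' : CohB1.IsFP F' := Groth.Agent.Helper18Strict.isFP_pullback e.inv F hfp
  obtain ⟨k, -, Fk, hFkq, hFkfp, ⟨isoK⟩⟩ := Groth.Agent.Lib.T2H5.ModLimF.fp_descends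
    (sysX D i x) (sysC D c i x) (isLimitSysC D c i x hc) (Over.mk (𝟙 i)) F' hF'
  haveI := hFkq
  haveI : SheafOfModules.IsFinitePresentation (R := ((sysX D i x).obj k).ringCatSheaf) Fk := hFkfp
  -- `F` as a pull-back from the stage `k`
  have isoF : ∀ (l : Over i) (φ : l ⟶ k),
      Nonempty ((Scheme.Modules.pullback (e.hom ≫ (sysC D c i x).π.app l)).obj
        ((Scheme.Modules.pullback ((sysX D i x).map φ)).obj Fk) ≅ F) := by
    intro l φ
    have hw : (e.hom ≫ (sysC D c i x).π.app l) ≫ (sysX D i x).map φ =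
        e.hom ≫ (sysC D c i x).π.app k := by
      rw [Category.assoc]
      exact congrArg (fun t => e.hom ≫ t) ((sysC D c i x).w φ)
    exact ⟨ModLimB.cmp _ _ _ hw Fk ≪≫ (ModLimB.cmp e.hom ((sysC D c i x).π.app k) _ rfl Fk).symm ≪≫
      (Scheme.Modules.pullback e.hom).mapIso isoK ≪≫
      ModLimB.cmp e.hom e.inv (𝟙 X) e.hom_inv_id F ≪≫ (Scheme.Modules.pullbackId X).app F⟩
  -- pull-back squares over the stages
  have hsq : ∀ l : Over i, IsPullback (e.hom ≫ (sysC D c i x).π.app l) f
      (pullback.snd x (tr D i l)) (c.π.app l.left) := by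
    intro l
    have h1 : IsPullback e.hom f (pullback.snd x (c.π.app i)) (𝟙 c.pt) :=
      IsPullback.of_horiz_isIso ⟨by rw [he2, Category.comp_id]⟩
    have h2 := h1.paste_horiz (isPullback_sysC_π D c i x l)
    rwa [Category.id_comp] at h2
  -- flatness at a stage
  haveI : LocallyOfFinitePresentation (pullback.snd x (tr D i k)) :=
    MorphismProperty.pullback_snd (P := @LocallyOfFinitePresentation) x (tr D i k) inferInstance
  haveI : CompactSpace ((sysX D i x).obj k) := inferInstance
  haveI : CompactSpace (pullback x (tr D i k) : Scheme.{u}) :=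
    inferInstanceAs (CompactSpace ((sysX D i x).obj k))
  have hflk : FlatMod.IsFlatOver f ((Scheme.Modules.pullback (e.hom ≫ (sysC D c i x).π.app k)).obj Fk) := by
    obtain ⟨iso0⟩ := isoF k (𝟙 k)
    have hid : (sysX D i x).map (𝟙 k) = 𝟙 _ := (sysX D i x).map_id k
    have iso1 : (Scheme.Modules.pullback (e.hom ≫ (sysC D c i x).π.app k)).obj Fk ≅ F :=
      (Scheme.Modules.pullback (e.hom ≫ (sysC D c i x).π.app k)).mapIso
        ((Scheme.Modules.pullbackId _).app Fk).symm ≪≫
      (Scheme.Modules.pullback (e.hom ≫ (sysC D c i x).π.app k)).mapIso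
        ((Scheme.Modules.pullbackCongr hid.symm).app Fk) ≪≫ iso0
    exact Groth.Agent.Lib.Helper26.FlatLim.isFlatOver_of_iso f iso1.symm hfl
  haveI hq' : SheafOfModules.IsQuasicoherent
      (R := (pullback x (tr D i k) : Scheme.{u}).ringCatSheaf) Fk := hFkq
  haveI hp' : SheafOfModules.IsFinitePresentation
      (R := (pullback x (tr D i k) : Scheme.{u}).ringCatSheaf) Fk := hFkfp
  obtain ⟨j, hj⟩ := Groth.Agent.Lib.Helper26.FlatLim.exists_stage_isFlatOver D c hc k.left
    (pullback.snd x (tr D i k)) Fk (hsq k) hflk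
  -- the final stage
  let l : Over i := Over.mk (j.hom ≫ k.hom)
  let φ : l ⟶ k := Over.homMk j.hom rfl
  have hflat := hj j (𝟙 j) ((sysX D i x).map φ) (pullback.snd x (tr D i l))
    (isPullback_sysX_map D i x φ)
  have hqF₀ : ((Scheme.Modules.pullback ((sysX D i x).map φ)).obj Fk).IsQuasicoherent :=
    Groth.Agent.Lib.Helper20.PullbackAff.isQuasicoherent_pullback _ _
  refine ⟨l.left, pullback x (tr D i l), pullback.snd x (tr D i l),
    e.hom ≫ (sysC D c i x).π.app l, (Scheme.Modules.pullback ((sysX D i x).map φ)).obj Fk,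
    ?_, ?_, hsq l, hqF₀, ?_, hflat, isoF l φ⟩
  · exact MorphismProperty.pullback_snd (P := @IsProper) x (tr D i l) inferInstance
  · exact MorphismProperty.pullback_snd (P := @LocallyOfFinitePresentation) x (tr D i l) inferInstance
  · exact Groth.Agent.Helper18Strict.isFP_pullback _ Fk hFkfp

end Groth.Agent.Lib.T2H5.NoethModel
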