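import Mathlib
import Groth.Agent.S0590
import Groth.Agent.Lib.T2H5NoethModelA
import Groth.Agent.Lib.Helper22NA4
import Groth.Agent.Lib.T2H4FFlatComp
set_option backward.isDefEq.respectTransparency.types false

/-!
# Noetherian approximation of a proper finitely presented morphism with a flat module (helper5)

Namespace `Groth.Agent.Lib.T2H5.NoethModel`.

* `exists_noeth_model`: for `f : X ⟶ S` proper of finite presentation with `S` affine and `F` a
  quasi-coherent finitely presented module on `X`, flat over `S`: there are an affine Noetherian scheme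
  `S₀`, a proper morphism `f₀ : X₀ ⟶ S₀`, a cartesian square `X = X₀ ×_{S₀} S` and a coherent module
  `F₀` on `X₀`, flat over `S₀`, whose pull-back to `X` is `F`.
-/

set_option autoImplicit false
set_option linter.style.haveILetI false
set_option linter.unusedSectionVars false
universe u
open CategoryTheory CategoryTheory.Limits AlgebraicGeometry TopologicalSpace Opposite

namespace Groth.Agent.Lib.T2H5.NoethModel

theorem isFlatOver_comp_iso {X S S' : Scheme.{u}} (f : X ⟶ S) (g : S ⟶ S') [IsIso g]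
    (F : X.Modules) (hfl : FlatMod.IsFlatOver f F) : FlatMod.IsFlatOver (f ≫ g) F := fun x =>
  Groth.Agent.Lib.T2H4.FFlatComp.isFlatOverAt_comp f g F x (Flat.stalkMap g (f x)) (hfl x)

theorem exists_noeth_model {X S : Scheme.{u}} (f : X ⟶ S) [IsAffine S] [IsProper f]
    [LocallyOfFinitePresentation f] (F : X.Modules) [F.IsQuasicoherent] (hfp : CohB1.IsFP F)
    (hfl : FlatMod.IsFlatOver f F) :
    ∃ (S₀ X₀ : Scheme.{u}) (f₀ : X₀ ⟶ S₀) (g : S ⟶ S₀) (g' : X ⟶ X₀) (F₀ : X₀.Modules),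
      IsAffine S₀ ∧ IsNoetherian S₀ ∧ IsPullback g' f f₀ g ∧ IsProper f₀ ∧ Coh.IsCoh F₀ ∧
      FlatMod.IsFlatOver f₀ F₀ ∧ Nonempty ((Scheme.Modules.pullback g').obj F₀ ≅ F) := by
  obtain ⟨I, instP, instD, instN, D, c, hc, haff, hft, ⟨e⟩⟩ := Groth.Agent.S0590.result S
  haveI : ∀ (i j : Iᵒᵖ) (a : i ⟶ j), IsAffineHom (D.map a) := haff
  haveI : ∀ i : Iᵒᵖ, CompactSpace (D.obj i) := fun i => (hft i).1
  haveI hlft : ∀ i : Iᵒᵖ, LocallyOfFiniteType (specULiftZIsTerminal.from (D.obj i)) :=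
    fun i => (hft i).2
  haveI hln : ∀ i : Iᵒᵖ, IsLocallyNoetherian (D.obj i) := fun i =>
    Groth.Agent.Lib.Helper22.NA4.isLocallyNoetherian_of_lft (D.obj i)
  haveI : ∀ i : Iᵒᵖ, QuasiSeparatedSpace (D.obj i) := fun i => inferInstance
  haveI : IsAffine c.pt := .of_isIso e.hom
  obtain ⟨i₁, hi₁⟩ := Scheme.exists_isAffine_of_isLimit D c hc
  haveI := hi₁
  -- the system of the stages over `i₁`
  let D' : Over i₁ ⥤ Scheme.{u} := Over.forget i₁ ⋙ D
  let c' : Cone D' := c.whisker (Over.forget i₁)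
  have hc' : IsLimit c' := (Functor.Initial.isLimitWhiskerEquiv (Over.forget i₁) c).symm hc
  haveI : ∀ (a b : Over i₁) (φ : a ⟶ b), IsAffineHom (D'.map φ) := fun a b φ =>
    inferInstanceAs (IsAffineHom (D.map φ.left))
  haveI : ∀ a : Over i₁, CompactSpace (D'.obj a) := fun a =>
    inferInstanceAs (CompactSpace (D.obj a.left))
  haveI : ∀ a : Over i₁, QuasiSeparatedSpace (D'.obj a) := fun a =>
    inferInstanceAs (QuasiSeparatedSpace (D.obj a.left))
  have hfl' : FlatMod.IsFlatOver (f ≫ e.inv) F := isFlatOver_comp_iso f e.inv F hfl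
  obtain ⟨a, X₀, x, q, F₀, hxp, hxl, hpb, hF₀q, hF₀fp, hF₀fl, hiso⟩ :=
    exists_model D' c' hc' (f ≫ e.inv) F hfp hfl'
  haveI : IsAffine (D.obj a.left) := isAffine_of_isAffineHom (D.map a.hom)
  haveI : IsNoetherian (D.obj a.left) := {}
  refine ⟨D.obj a.left, X₀, x, e.inv ≫ c.π.app a.left, q, F₀, inferInstance, inferInstance, ?_,
    hxp, ⟨hF₀q, Groth.Agent.Helper18Strict.isFT_of_isFP F₀ hF₀fp⟩, hF₀fl, hiso⟩
  have h2 : IsPullback (𝟙 X) f (f ≫ e.inv) e.inv :=
    IsPullback.of_horiz_isIso ⟨by rw [Category.id_comp]⟩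
  have h3 := h2.paste_horiz (show IsPullback q (f ≫ e.inv) x (c.π.app a.left) from hpb)
  rwa [Category.id_comp] at h3

end Groth.Agent.Lib.T2H5.NoethModel
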