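import Groth.Agent.Lib.T2H9CechBC2
import Groth.Agent.Lib.T2H9Bridge2

/-!
# T2H9CoreBC (helper9): the bridge theorem with base change

* `nonempty_coreIso_of_separated`: base change for the functors `T^p` (`X` quasi-compact separated
  over `A`, `F` quasi-coherent, arbitrary `A → A'`).
* `bridgeBc`, `exists_chain_bridge_bc`: the complex `P` of the bridge theorem computes, after base
  change to `A'`, the functors `T'^p` of `X' = X ×_A A'` and `g'^*F`.
-/

set_option autoImplicit false
set_option linter.style.haveILetI false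
set_option linter.unusedSectionVars false
set_option linter.unusedVariables false
universe u
open CategoryTheory AlgebraicGeometry Opposite TopologicalSpace Limits

namespace Groth.Agent.Lib.T2H9.CoreBC

open Groth.Agent.Lib.T2H9.CechBC Groth.Agent.Lib.T2H9.Bridge Groth.Agent.Lib.T2H9.ProjFormula
  Groth.Agent.Lib.T2H9.TFunGeo

variable {A A' : Type u} [CommRing A] [CommRing A'] [Algebra A A']
variable {X X' : Scheme.{u}} [X.Over (Spec (CommRingCat.of A))] [X'.Over (Spec (CommRingCat.of A'))]
variable (g' : X' ⟶ X)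
variable (h : IsPullback g' (X' ↘ Spec (CommRingCat.of A')) (X ↘ Spec (CommRingCat.of A))
  (Spec.map (CommRingCat.ofHom (algebraMap A A'))))
variable (F : X.Modules)

include h in
/-- **Base change for the functors `T^p`**, for `X` quasi-compact and separated over `A`. -/
theorem nonempty_coreIso_of_separated [QuasiCompact (X ↘ Spec (CommRingCat.of A))]
    [IsSeparated (X ↘ Spec (CommRingCat.of A))] [F.IsQuasicoherent] (p : ℕ) :
    Nonempty (ModuleCat.restrictScalars (algebraMap A A') ⋙ CohIII.tensorAFunctor A F ⋙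
        CohIII.HAb X p ≅
      CohIII.tensorAFunctor A' ((Scheme.Modules.pullback g').obj F) ⋙ CohIII.HAb X' p) := by
  haveI : CompactSpace X := QuasiCompact.compactSpace_of_compactSpace (X ↘ Spec (CommRingCat.of A))
  obtain ⟨t, W, hW, hcovW⟩ :=
    Groth.Agent.Lib.Helper22.NA9.exists_fin_affine_cover (⊤ : X.Opens) isCompact_univ
  let U : ULift.{u} (Fin t) → X.Opens := fun i => W i.down
  have hcov : iSup U = ⊤ := by
    rw [← hcovW]
    apply le_antisymm
    · exact iSup_le fun i => le_iSup W i.down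
    · exact iSup_le fun k => le_iSup U ⟨k⟩
  have hUa : ∀ (n : ℕ) (x : Fin (n + 1) → ULift.{u} (Fin t)),
      IsAffineOpen (iInf fun k => U (x k)) := fun n x =>
    isAffineOpen_iInf (X ↘ Spec (CommRingCat.of A)) (fun k => hW (x k).down)
  exact nonempty_coreIso g' h F U hcov hUa p

/-- a bridge for `F` over `A` and the base change isomorphism give a bridge for `g'^*F` over `A'`
with the base changed complex -/
noncomputable def bridgeBc {κ : Type} {c : ComplexShape κ} (P : HomologicalComplex (ModuleCat.{u} A) c)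
    (j : κ) (p : ℕ)
    (e : CohIII.TFun P j ⋙ forget₂ (ModuleCat.{u} A) AddCommGrpCat.{u} ≅
      CohIII.tensorAFunctor A F ⋙ CohIII.HAb X p)
    (core : ModuleCat.restrictScalars (algebraMap A A') ⋙ CohIII.tensorAFunctor A F ⋙
        CohIII.HAb X p ≅
      CohIII.tensorAFunctor A' ((Scheme.Modules.pullback g').obj F) ⋙ CohIII.HAb X' p) :
    CohIII.TFun (CohIII.bcCx (algebraMap A A') P) j ⋙
        forget₂ (ModuleCat.{u} A') AddCommGrpCat.{u} ≅
      CohIII.tensorAFunctor A' ((Scheme.Modules.pullback g').obj F) ⋙ CohIII.HAb X' p :=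
  Functor.isoWhiskerLeft _ (restrictForgetIso (algebraMap A A')).symm ≪≫
    (Functor.associator _ _ _).symm ≪≫
    Functor.isoWhiskerRight (tFunBcIso (algebraMap A A') P j) _ ≪≫
    Functor.associator _ _ _ ≪≫
    Functor.isoWhiskerLeft _ e ≪≫ core

/-- **The bridge theorem with base change**: for `X` proper over a Noetherian ring `A` and `F`
coherent, flat over `A`, there is a bounded below chain complex `P` of finite free `A`-modules
computing `H^p(X, f^*(M~) ⊗ F)` as `H_{-p}(P ⊗ M)` and, for every base change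
`X' = X ×_A A'`, computing `H^p(X', f'^*(M'~) ⊗ g'^*F)` as `H_{-p}((A' ⊗_A P) ⊗_{A'} M')`. -/
theorem exists_chain_bridge_bc (A : Type u) [CommRing A] [IsNoetherianRing A] (X : Scheme.{u})
    [X.Over (Spec (CommRingCat.of A))] [IsProper (X ↘ Spec (CommRingCat.of A))] (F : X.Modules)
    (hF : Coh.IsCoh F) (hfl : FlatMod.IsFlatOver (X ↘ Spec (CommRingCat.of A)) F) :
    ∃ P : ChainComplex (ModuleCat.{u} A) ℤ,
      (∀ i, Module.Finite A (P.X i) ∧ Module.Free A (P.X i)) ∧
      (∃ b : ℤ, ∀ i, i < b → IsZero (P.X i)) ∧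
      (∀ p : ℕ, Nonempty (CohIII.TFun P (-(p : ℤ)) ⋙ forget₂ (ModuleCat.{u} A) AddCommGrpCat.{u} ≅
        CohIII.tensorAFunctor A F ⋙ CohIII.HAb X p)) ∧
      ∀ (A' : Type u) [CommRing A'] [Algebra A A'] (X' : Scheme.{u})
        [X'.Over (Spec (CommRingCat.of A'))] (g' : X' ⟶ X)
        (_ : IsPullback g' (X' ↘ Spec (CommRingCat.of A')) (X ↘ Spec (CommRingCat.of A))
          (Spec.map (CommRingCat.ofHom (algebraMap A A')))) (p : ℕ),
        Nonempty (CohIII.TFun (CohIII.bcCx (algebraMap A A') P) (-(p : ℤ)) ⋙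
            forget₂ (ModuleCat.{u} A') AddCommGrpCat.{u} ≅
          CohIII.tensorAFunctor A' ((Scheme.Modules.pullback g').obj F) ⋙ CohIII.HAb X' p) := by
  obtain ⟨P, h1, h2, h3⟩ := exists_chain_bridge A X F hF hfl
  refine ⟨P, h1, h2, h3, ?_⟩
  intro A' _ _ X' _ g' hsq p
  haveI := hF.1
  obtain ⟨e⟩ := h3 p
  obtain ⟨core⟩ := nonempty_coreIso_of_separated g' hsq F p
  exact ⟨bridgeBc g' F P _ p e core⟩

end Groth.Agent.Lib.T2H9.CoreBC
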