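import Mathlib
import Groth.Prelude.Def_ega3
import Groth.Agent.Lib.Helper3FlatCx
import Groth.Agent.S2444
import Groth.Agent.S4492
import Groth.Agent.S4497
import Groth.Agent.S0313
import Groth.Agent.Lib.Helper3FlatCxLen

/-!
# T2H9LenFormula — the length criterion for cohomological flatness (EGA III 7.5/7.8 type)

`surjective_of_injective` (long exact sequence), `facSC` (`ker → A/m^{n+1} → A/m`), and
`surjective_of_length_eq`: for a complex `P` of finite flat modules over a Noetherian local ring, the
length formula `ℓ(T_p(A/m^{n+1})) = ℓ(T_p(k)) · ℓ(A/m^{n+1})` forces `T_p(A/m^{n+1}) → T_p(A/m)` and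
`T_{p+1}(A/m^{n+1}) → T_{p+1}(A/m)` to be surjective.
-/

set_option autoImplicit false
universe u

namespace Groth.Agent.Lib.T2H9.LenFormula

open CategoryTheory CategoryTheory.Limits MonoidalCategory TensorProduct Groth.Agent.Lib.Helper3
  Groth.Agent.S4492 Groth.Agent.S2444

variable {A : Type u} [CommRing A]

/-- long exact sequence consequence: if `T_p(f)` is injective then `T_q(g)` is surjective (`p + 1 = q`). -/
theorem surjective_of_injective (P : ChainComplex (ModuleCat.{u} A) ℤ)
    (hP : ∀ i, Module.Flat A (P.X i)) (p q : ℤ) (hpq : p + 1 = q)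
    (S : ShortComplex (ModuleCat.{u} A)) (hS : S.ShortExact)
    (hinj : Function.Injective ((CohIII.TFun P p).map S.f).hom) :
    Function.Surjective ((CohIII.TFun P q).map S.g).hom := by
  have hT := tensorSC_shortExact P hP S hS
  have hrel : (ComplexShape.down ℤ).Rel q p := by
    show p + 1 = q
    exact hpq
  have h1 := hT.homology_exact₁ q p hrel
  have h3 := hT.homology_exact₃ q p hrel
  have hmono : Mono (HomologicalComplex.homologyMap (tensorSC P S).f p) :=
    (ModuleCat.mono_iff_injective _).mpr hinj
  have hδ : hT.δ q p hrel = 0 := by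
    rw [← cancel_mono (HomologicalComplex.homologyMap (tensorSC P S).f p), zero_comp]
    exact hT.δ_comp q p hrel
  have hepi : Epi (HomologicalComplex.homologyMap (tensorSC P S).g q) := by
    have := h3.epi_f hδ
    exact this
  exact (ModuleCat.epi_iff_surjective _).mp hepi

variable [IsLocalRing A]

/-- the projection `A/m^{n+1} → A/m` -/
noncomputable abbrev fac (n : ℕ) :
    (A ⧸ IsLocalRing.maximalIdeal A ^ (n + 1)) →ₗ[A] (A ⧸ IsLocalRing.maximalIdeal A) :=
  (Ideal.Quotient.factorₐ A (Ideal.pow_le_self (I := IsLocalRing.maximalIdeal A)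
    (Nat.succ_ne_zero n))).toLinearMap

theorem fac_surjective (n : ℕ) : Function.Surjective (fac (A := A) n) :=
  Ideal.Quotient.factor_surjective (Ideal.pow_le_self (I := IsLocalRing.maximalIdeal A)
    (Nat.succ_ne_zero n))

/-- `ker → A/m^{n+1} → A/m` -/
noncomputable def facSC (n : ℕ) : ShortComplex (ModuleCat.{u} A) :=
  ShortComplex.mk (ModuleCat.ofHom (LinearMap.ker (fac (A := A) n)).subtype)
    (ModuleCat.ofHom (fac (A := A) n)) (by
      ext x
      exact x.2)

theorem facSC_shortExact (n : ℕ) : (facSC (A := A) n).ShortExact := by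
  have : Mono (facSC (A := A) n).f :=
    (ModuleCat.mono_iff_injective _).mpr (Submodule.subtype_injective _)
  have : Epi (facSC (A := A) n).g := (ModuleCat.epi_iff_surjective _).mpr (fac_surjective n)
  refine ShortComplex.ShortExact.mk ?_
  rw [ShortComplex.ShortExact.moduleCat_exact_iff_function_exact]
  exact LinearMap.exact_subtype_ker_map _

theorem length_quot_eq [IsNoetherianRing A] (n : ℕ) :
    Module.length A (A ⧸ IsLocalRing.maximalIdeal A ^ (n + 1)) =
      Module.length A (LinearMap.ker (fac (A := A) n)) + 1 := by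
  rw [Module.length_eq_add_of_exact (LinearMap.ker (fac (A := A) n)).subtype (fac (A := A) n)
    (Submodule.subtype_injective _) (fac_surjective n) (LinearMap.exact_subtype_ker_map _)]
  congr 1
  have hs : IsSimpleModule A (A ⧸ IsLocalRing.maximalIdeal A) :=
    isSimpleModule_iff_quot_maximal.mpr ⟨_, inferInstance, ⟨LinearEquiv.refl _ _⟩⟩
  exact Module.length_eq_one _ _

/-- **Lemma A**: the length formula at level `n` forces surjectivity of `T_p(A/m^{n+1}) → T_p(A/m)` and of
`T_{p+1}(A/m^{n+1}) → T_{p+1}(A/m)`. -/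
theorem surjective_of_length_eq [IsNoetherianRing A] (P : ChainComplex (ModuleCat.{u} A) ℤ)
    (hP : ∀ i, Module.Finite A (P.X i) ∧ Module.Flat A (P.X i)) (p q : ℤ) (hpq : p + 1 = q) (n : ℕ)
    (h : Module.length A (CohIII.T P p (ModuleCat.of A (A ⧸ IsLocalRing.maximalIdeal A ^ (n + 1)))) =
      Module.length A (CohIII.T P p (ModuleCat.of A (IsLocalRing.ResidueField A))) *
        Module.length A (A ⧸ IsLocalRing.maximalIdeal A ^ (n + 1))) :
    Function.Surjective ((CohIII.TFun P p).map (ModuleCat.ofHom (fac (A := A) n))).hom ∧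
      Function.Surjective ((CohIII.TFun P q).map (ModuleCat.ofHom (fac (A := A) n))).hom := by
  have hflat : ∀ i, Module.Flat A (P.X i) := fun i => (hP i).2
  have hfinp := (hP p).1
  have hkfin : Module.Finite A (ModuleCat.of A (IsLocalRing.ResidueField A)) :=
    inferInstanceAs (Module.Finite A (IsLocalRing.ResidueField A))
  have hd : Module.length A (CohIII.T P p (ModuleCat.of A (IsLocalRing.ResidueField A))) ≠ ⊤ := by
    have := finite_opcycles P p
    have hinj : Function.Injective (jT P p (ModuleCat.of A (IsLocalRing.ResidueField A))).hom :=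
      (ModuleCat.mono_iff_injective _).mp inferInstance
    have hle := Module.length_le_of_injective _ hinj
    have e2 : (P.opcycles p ⊗ ModuleCat.of A (IsLocalRing.ResidueField A) : ModuleCat.{u} A) ≃ₗ[A]
        (IsLocalRing.ResidueField A ⊗[A] (P.opcycles p)) :=
      TensorProduct.comm A (P.opcycles p) (IsLocalRing.ResidueField A)
    rw [LinearEquiv.length_eq e2, Groth.Agent.Lib.Helper3.length_residue_tensor] at hle
    exact ne_top_of_le_ne_top (ENat.natCast_ne_top _) hle
  have hex := exact_T P hflat p (facSC n) (facSC_shortExact n)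
  have hMfl : IsFiniteLength A (A ⧸ IsLocalRing.maximalIdeal A ^ (n + 1)) :=
    Groth.Agent.S0313.isFiniteLength_quotient_pow (n + 1)
  have hKfl : IsFiniteLength A (LinearMap.ker (fac (A := A) n)) := by
    rw [isFiniteLength_iff_isNoetherian_isArtinian] at hMfl ⊢
    obtain ⟨h1, h2⟩ := hMfl
    exact ⟨inferInstance, inferInstance⟩
  have hKlen : Module.length A (LinearMap.ker (fac (A := A) n)) ≠ ⊤ :=
    Module.length_ne_top_iff.mpr hKfl
  have hm := length_T_le P hflat p (LinearMap.ker (fac (A := A) n)) hKfl
  have hTK : Module.length A (CohIII.T P p (ModuleCat.of A (LinearMap.ker (fac (A := A) n)))) ≠ ⊤ :=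
    ne_top_of_le_ne_top (WithTop.mul_ne_top hd hKlen) hm
  have hle : Module.length A (CohIII.T P p (ModuleCat.of A (A ⧸ IsLocalRing.maximalIdeal A ^ (n + 1)))) ≤
      Module.length A (CohIII.T P p (ModuleCat.of A (LinearMap.ker (fac (A := A) n)))) +
        Module.length A (CohIII.T P p (ModuleCat.of A (IsLocalRing.ResidueField A))) :=
    length_le_add _ _ hex
  have heq : Module.length A (CohIII.T P p (ModuleCat.of A (A ⧸ IsLocalRing.maximalIdeal A ^ (n + 1)))) =
      Module.length A (CohIII.T P p (ModuleCat.of A (LinearMap.ker (fac (A := A) n)))) +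
        Module.length A (CohIII.T P p (ModuleCat.of A (IsLocalRing.ResidueField A))) := by
    apply le_antisymm hle
    rw [h, length_quot_eq, mul_add, mul_one]
    gcongr
  obtain ⟨hinj, hsurj⟩ := (length_eq_add_iff _ _ hex hTK hd).mp heq
  exact ⟨hsurj, surjective_of_injective P hflat p q hpq (facSC n) (facSC_shortExact n) hinj⟩

end Groth.Agent.Lib.T2H9.LenFormula
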