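import Mathlib
import Groth.Prelude.Def_ega3
import Groth.Agent.Lib.T2H9Bridge2
import Groth.Agent.Lib.T2H9LenFormula
import Groth.Agent.S4490
import Groth.Agent.S2409
import Groth.Agent.S4497

/-!
# T2H9LenFormula2 — geometric length criterion (EGA III 7.8.? (b) ⇔ (c), local base)

`bridgeLinearEquiv`: the components of a bridge isomorphism `TFun P j ⋙ forget₂ ≅ 𝒯 ⋙ H^p` are `A`-linear for
the geometric `A`-module structure on cohomology.  `length_formula_iff`: over a Noetherian local base,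
`T^p` is exact iff eventually `ℓ(T^p(A/m^{n+1})) = ℓ(T^p(k)) · ℓ(A/m^{n+1})`.
-/

set_option autoImplicit false
universe u

namespace Groth.Agent.Lib.T2H9.LenFormula

open CategoryTheory CategoryTheory.Limits AlgebraicGeometry Groth.Agent.Lib.T2H9.TFunGeo
  Groth.Agent.Lib.T2H9.TFunAlg

variable (A : Type u) [CommRing A] {X : Scheme.{u}} [X.Over (Spec (CommRingCat.of A))]
  (F : X.Modules)

/-- the components of a bridge isomorphism are `A`-linear for the geometric module structure -/
noncomputable def bridgeLinearEquiv (P : ChainComplex (ModuleCat.{u} A) ℤ) (j : ℤ) (p : ℕ)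
    (e : CohIII.TFun P j ⋙ forget₂ (ModuleCat.{u} A) AddCommGrpCat.{u} ≅
      CohIII.tensorAFunctor A F ⋙ CohIII.HAb X p) (M : ModuleCat.{u} A) :
    (CohIII.TFun P j).obj M ≃ₗ[A] Coh.HH X ((CohIII.tensorAFunctor A F).obj M) p :=
  { (e.app M).addCommGroupIsoToAddEquiv with
    map_smul' := fun a x => by
      have hnat := e.hom.naturality (a • 𝟙 M)
      have h1 := congrArg (fun φ => φ.hom x) hnat
      have h2 : (CohIII.TFun P j).map (a • 𝟙 M) = a • 𝟙 _ := by
        rw [TFun_map_smul, CategoryTheory.Functor.map_id]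
      have h3 : (CohIII.tensorAFunctor A F).map (a • 𝟙 M) =
          Formal.smulMod A _ a := tensorAFunctor_map_smul A F _ a
      simp only [Functor.comp_map, h2, h3] at h1
      exact h1 }

/-- **Length criterion** for cohomological flatness in degree `p` (local Noetherian base). -/
theorem length_formula_iff [IsNoetherianRing A] [IsLocalRing A]
    [IsProper (X ↘ Spec (CommRingCat.of A))] (hF : Coh.IsCoh F)
    (hfl : FlatMod.IsFlatOver (X ↘ Spec (CommRingCat.of A)) F) (p : ℕ) :
    ((CohIII.tensorAFunctor A F ⋙ CohIII.HAb X p).PreservesMonomorphisms ∧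
        (CohIII.tensorAFunctor A F ⋙ CohIII.HAb X p).PreservesEpimorphisms) ↔
      ∃ n₀ : ℕ, ∀ n : ℕ, n₀ ≤ n →
        Module.length A (Coh.HH X ((CohIII.tensorAFunctor A F).obj
            (ModuleCat.of A (A ⧸ IsLocalRing.maximalIdeal A ^ (n + 1)))) p) =
          Module.length A (Coh.HH X ((CohIII.tensorAFunctor A F).obj
              (ModuleCat.of A (IsLocalRing.ResidueField A))) p) *
            Module.length A (A ⧸ IsLocalRing.maximalIdeal A ^ (n + 1)) := by
  obtain ⟨P, h1, h2, h3⟩ := Groth.Agent.Lib.T2H9.Bridge.exists_chain_bridge A X F hF hfl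
  obtain ⟨e⟩ := h3 p
  have hP : ∀ i, Module.Finite A (P.X i) ∧ Module.Flat A (P.X i) := fun i =>
    ⟨(h1 i).1, haveI := (h1 i).2; inferInstance⟩
  have hflat : ∀ i, Module.Flat A (P.X i) := fun i => (hP i).2
  have hlen : ∀ M : ModuleCat.{u} A,
      Module.length A (Coh.HH X ((CohIII.tensorAFunctor A F).obj M) p) =
        Module.length A (CohIII.T P (-(p : ℤ)) M) := fun M =>
    (LinearEquiv.length_eq (bridgeLinearEquiv A F P _ p e M)).symm
  rw [Groth.Agent.Lib.T2H9.Bridge.preservesEpi_iff e,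
    Groth.Agent.Lib.T2H9.Bridge.preservesMono_iff e]
  simp only [hlen]
  constructor
  · rintro ⟨hm, he⟩
    refine ⟨0, fun n _ => ?_⟩
    exact Groth.Agent.S4497.length_T_eq P hflat (-(p : ℤ)) hm he
      (A ⧸ IsLocalRing.maximalIdeal A ^ (n + 1))
      (Groth.Agent.S0313.isFiniteLength_quotient_pow (n + 1))
  · rintro ⟨n₀, hn⟩
    have hs := fun n hn' =>
      surjective_of_length_eq P hP (-(p : ℤ)) (-(p : ℤ) + 1) rfl n (hn n hn')
    have he_p : (CohIII.TFun P (-(p : ℤ))).PreservesEpimorphisms :=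
      (Groth.Agent.S4490.result P hP (-(p : ℤ))).2.mpr ⟨n₀, fun n hn' => (hs n hn').1⟩
    have he_q : (CohIII.TFun P (-(p : ℤ) + 1)).PreservesEpimorphisms :=
      (Groth.Agent.S4490.result P hP (-(p : ℤ) + 1)).2.mpr ⟨n₀, fun n hn' => (hs n hn').2⟩
    have sp := (Groth.Agent.S4490.result P hP (-(p : ℤ))).1.mp he_p
    have sq := (Groth.Agent.S4490.result P hP (-(p : ℤ) + 1)).1.mp he_q
    exact (Groth.Agent.S2409.result P hP (-(p : ℤ)) (-(p : ℤ) + 1) rfl).mpr ⟨sq, sp⟩

end Groth.Agent.Lib.T2H9.LenFormula
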