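import Groth.Agent.Lib.T2H9CoreBC
import Groth.Agent.Lib.T2H9LenFormula2
import Groth.Agent.Lib.T2H5HilbPoly
import Groth.Agent.S2440

/-!
# T2H9FibRank (helper9): the fibre rank `dim H^p(X_y, F_y)` as the rank function of a complex

* `resAlg A y`: the residue field of the point `y` of the scheme `Spec A` as an `A`-algebra;
  `specMap_algebraMap`, `finrank_homology_bcCx_resAlg` (it computes `CohIII.dRank`).
* `fiberRank_eq_dRank`: if the base changes of `P` compute the functors `T'^p` of all base changes
  of `(X, F)` (as in `T2H9CoreBC.exists_chain_bridge_bc`), then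
  `CohIII.fiberRank f F p y = CohIII.dRank P (-p) y`.
-/

set_option autoImplicit false
set_option linter.style.haveILetI false
set_option linter.unusedSectionVars false
set_option linter.unusedVariables false
universe u
open CategoryTheory AlgebraicGeometry Opposite TopologicalSpace Limits

namespace Groth.Agent.Lib.T2H9.FibRank

open Groth.Agent.Lib.T2H9.TFunGeo Groth.Agent.Lib.Helper3

section alg
variable (A : Type u) [CommRing A]

/-- the residue field of a point of `Spec A`, as an `A`-algebra (through `Ideal.ResidueField`) -/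
noncomputable abbrev resAlg (y : Spec (CommRingCat.of A)) :
    Algebra A ((Spec (CommRingCat.of A)).residueField y) :=
  ((Scheme.Spec.residueFieldIso (CommRingCat.of A) y).inv.hom.comp
    (algebraMap A y.asIdeal.ResidueField)).toAlgebra

theorem specMap_algebraMap (y : Spec (CommRingCat.of A)) :
    letI := resAlg A y
    Spec.map (CommRingCat.ofHom (algebraMap A ((Spec (CommRingCat.of A)).residueField y))) =
      (Spec (CommRingCat.of A)).fromSpecResidueField y := by
  letI := resAlg A y
  rw [← Scheme.Spec.map_residueFieldIso_inv_eq_fromSpecResidueField, ← Spec.map_comp]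
  rfl

/-- the rank function `dRank` computed through the residue field of the scheme `Spec A` -/
theorem finrank_homology_bcCx_resAlg {κ : Type} {c : ComplexShape κ}
    (P : HomologicalComplex (ModuleCat.{u} A) c) (j : κ) (y : Spec (CommRingCat.of A)) :
    letI := resAlg A y
    Module.finrank ((Spec (CommRingCat.of A)).residueField y)
      ((CohIII.bcCx (algebraMap A ((Spec (CommRingCat.of A)).residueField y)) P).homology j) =
    CohIII.dRank P j y := by
  letI := resAlg A y
  let cc : A →+* y.asIdeal.ResidueField := algebraMap A y.asIdeal.ResidueField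
  let ψ : y.asIdeal.ResidueField →+* (Spec (CommRingCat.of A)).residueField y :=
    (Scheme.Spec.residueFieldIso (CommRingCat.of A) y).inv.hom
  have hc : algebraMap A ((Spec (CommRingCat.of A)).residueField y) = ψ.comp cc := rfl
  let e : ModuleCat.extendScalars.{u, u, u} (ψ.comp cc) ≅
      ModuleCat.extendScalars.{u, u, u} cc ⋙ ModuleCat.extendScalars.{u, u, u} ψ :=
    ModuleCat.extendScalarsComp cc ψ
  let isoCx : CohIII.bcCx (ψ.comp cc) P ≅
      ((ModuleCat.extendScalars ψ).mapHomologicalComplex _).obj (CohIII.bcCx cc P) :=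
    HomologicalComplex.Hom.isoOfComponents (fun i => e.app (P.X i)) (by
      intro i j _
      exact (e.hom.naturality (P.d i j)).symm)
  have h1 : Module.finrank ((Spec (CommRingCat.of A)).residueField y)
      ((CohIII.bcCx (ψ.comp cc) P).homology j) =
      Module.finrank ((Spec (CommRingCat.of A)).residueField y)
        ((((ModuleCat.extendScalars ψ).mapHomologicalComplex _).obj (CohIII.bcCx cc P)).homology j) :=
    LinearEquiv.finrank_eq
      ((HomologicalComplex.homologyFunctor _ _ j).mapIso isoCx).toLinearEquiv
  exact h1.trans (Groth.Agent.S2440.finrank_homology_extendScalars_field ψ (CohIII.bcCx cc P) j)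

end alg

section geo
variable (A : Type u) [CommRing A] {X : Scheme.{u}} [X.Over (Spec (CommRingCat.of A))]
  (F : X.Modules)

/-- **the fibre rank is the rank function of a complex computing cohomology universally** -/
theorem fiberRank_eq_dRank (P : ChainComplex (ModuleCat.{u} A) ℤ) (p : ℕ)
    (hbc : ∀ (A' : Type u) [CommRing A'] [Algebra A A'] (X' : Scheme.{u})
        [X'.Over (Spec (CommRingCat.of A'))] (g' : X' ⟶ X)
        (_ : IsPullback g' (X' ↘ Spec (CommRingCat.of A')) (X ↘ Spec (CommRingCat.of A))
          (Spec.map (CommRingCat.ofHom (algebraMap A A')))),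
        Nonempty (CohIII.TFun (CohIII.bcCx (algebraMap A A') P) (-(p : ℤ)) ⋙
            forget₂ (ModuleCat.{u} A') AddCommGrpCat.{u} ≅
          CohIII.tensorAFunctor A' ((Scheme.Modules.pullback g').obj F) ⋙ CohIII.HAb X' p))
    (y : Spec (CommRingCat.of A)) :
    CohIII.fiberRank (X ↘ Spec (CommRingCat.of A)) F p y = CohIII.dRank P (-(p : ℤ)) y := by
  letI := resAlg A y
  let f := X ↘ Spec (CommRingCat.of A)
  let κ : Type u := (Spec (CommRingCat.of A)).residueField y
  letI : (f.fiber y).Over (Spec (CommRingCat.of κ)) := CohIII.fiberOver f y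
  have hsq : IsPullback (f.fiberι y) (f.fiber y ↘ Spec (CommRingCat.of κ)) f
      (Spec.map (CommRingCat.ofHom (algebraMap A κ))) := by
    rw [specMap_algebraMap]
    exact IsPullback.of_hasPullback _ _
  obtain ⟨e'⟩ := hbc κ (f.fiber y) (f.fiberι y) hsq
  let Fy := (Scheme.Modules.pullback (f.fiberι y)).obj F
  let l1 := Groth.Agent.Lib.T2H9.LenFormula.bridgeLinearEquiv κ Fy
    (CohIII.bcCx (algebraMap A κ) P) (-(p : ℤ)) p e' (ModuleCat.of κ κ)
  let l2 : Coh.HH (f.fiber y) ((CohIII.tensorAFunctor κ Fy).obj (ModuleCat.of κ κ)) p ≃ₗ[κ]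
      Coh.HH (f.fiber y) Fy p :=
    Groth.Agent.Lib.T2H5.HilbPoly.hhEquiv (tensorAFunctorUnitIso κ Fy) p
  let l3 := (TUnitIso (CohIII.bcCx (algebraMap A κ) P) (-(p : ℤ))).toLinearEquiv
  have h1 : CohIII.fiberRank f F p y = Module.finrank κ (Coh.HH (f.fiber y) Fy p) := rfl
  rw [← finrank_homology_bcCx_resAlg A P (-(p : ℤ)) y]
  refine h1.trans ?_
  exact (LinearEquiv.finrank_eq ((l3.symm.trans l1).trans l2)).symm

end geo

end Groth.Agent.Lib.T2H9.FibRank
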