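import Groth.Agent.Lib.T2H9FBCMain
import Groth.Agent.Lib.T2H5HilbPoly
import Groth.Prelude.Def_ega3

/-!
# T2H9FibRankBC (helper9): the fibre rank is invariant under base change

`fiberRank_pullback`: for a cartesian square `X' = X ×_Y Y'` with `f` quasi-compact separated, `F`
quasi-coherent and `y' ∈ Y'`: `fiberRank f' (g'^*F) p y' = fiberRank f F p (g y')` (the fibre of `f'` at
`y'` is the base change of the fibre of `f` at `g y'` along the field extension `κ(g y') → κ(y')`; flat
base change `T2H9FBCMain.flat_base_change`).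
-/

set_option autoImplicit false
set_option linter.style.haveILetI false
set_option linter.unusedSectionVars false
set_option linter.unusedVariables false
universe u
open CategoryTheory AlgebraicGeometry Opposite TopologicalSpace Limits TensorProduct

namespace Groth.Agent.Lib.T2H9.FibRankBC

variable {X Y X' Y' : Scheme.{u}} {g' : X' ⟶ X} {f' : X' ⟶ Y'} {f : X ⟶ Y} {g : Y' ⟶ Y}

/-- **the fibre rank is invariant under base change**: for a cartesian square and a point `y'` of
`Y'`, `dim_{κ(y')} H^p(X'_{y'}, (g'^*F)_{y'}) = dim_{κ(g y')} H^p(X_{g y'}, F_{g y'})`. -/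
theorem fiberRank_pullback (h : IsPullback g' f' f g) [QuasiCompact f] [IsSeparated f]
    (F : X.Modules) [F.IsQuasicoherent] (p : ℕ) (y' : Y') :
    CohIII.fiberRank f' ((Scheme.Modules.pullback g').obj F) p y' =
      CohIII.fiberRank f F p (g y') := by
  let y := g y'
  let k : Type u := Y.residueField y
  let K : Type u := Y'.residueField y'
  letI : Algebra k K := (g.residueFieldMap y').hom.toAlgebra
  letI : (f.fiber y).Over (Spec (CommRingCat.of k)) := CohIII.fiberOver f y
  letI : (f'.fiber y').Over (Spec (CommRingCat.of K)) := CohIII.fiberOver f' y'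
  let j : f'.fiber y' ⟶ f.fiber y :=
    pullback.map _ _ _ _ g' (Spec.map (g.residueFieldMap y')) g h.w.symm
      (Scheme.Hom.SpecMap_residueFieldMap_fromSpecResidueField g y').symm
  have hsq : IsPullback j (f'.fiber y' ↘ Spec (CommRingCat.of K))
      (f.fiber y ↘ Spec (CommRingCat.of k)) (Spec.map (CommRingCat.ofHom (algebraMap k K))) :=
    isPullback_fiberToSpecResidueField_of_isPullback h y'
  haveI : QuasiCompact (f.fiber y ↘ Spec (CommRingCat.of k)) :=
    MorphismProperty.of_isPullback (P := @QuasiCompact) (IsPullback.of_hasPullback f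
      (Y.fromSpecResidueField y)) inferInstance
  haveI : IsSeparated (f.fiber y ↘ Spec (CommRingCat.of k)) :=
    MorphismProperty.of_isPullback (P := @IsSeparated) (IsPullback.of_hasPullback f
      (Y.fromSpecResidueField y)) inferInstance
  let Fy := (Scheme.Modules.pullback (f.fiberι y)).obj F
  obtain ⟨e1⟩ := Groth.Agent.Lib.T2H9.FBCMain.flat_base_change (A := k) (B := K) j hsq Fy p
  have hj : j ≫ f.fiberι y = f'.fiberι y' ≫ g' := pullback.lift_fst _ _ _
  let ε : (Scheme.Modules.pullback j).obj Fy ≅
      (Scheme.Modules.pullback (f'.fiberι y')).obj ((Scheme.Modules.pullback g').obj F) :=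
    (Scheme.Modules.pullbackComp j (f.fiberι y)).app F ≪≫
      (Scheme.Modules.pullbackCongr hj).app F ≪≫
      ((Scheme.Modules.pullbackComp (f'.fiberι y') g').app F).symm
  let e2 : Coh.HH (f'.fiber y') ((Scheme.Modules.pullback j).obj Fy) p ≃ₗ[K]
      Coh.HH (f'.fiber y')
        ((Scheme.Modules.pullback (f'.fiberι y')).obj ((Scheme.Modules.pullback g').obj F)) p :=
    Groth.Agent.Lib.T2H5.HilbPoly.hhEquiv ε p
  have h1 : CohIII.fiberRank f' ((Scheme.Modules.pullback g').obj F) p y' =
      Module.finrank K (Coh.HH (f'.fiber y')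
        ((Scheme.Modules.pullback (f'.fiberι y')).obj ((Scheme.Modules.pullback g').obj F)) p) := rfl
  have h2 : CohIII.fiberRank f F p y = Module.finrank k (Coh.HH (f.fiber y) Fy p) := rfl
  rw [h1, ← LinearEquiv.finrank_eq (e1.trans e2), Module.finrank_baseChange]
  exact h2.symm

end Groth.Agent.Lib.T2H9.FibRankBC
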