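import Groth.Agent.Lib.T2H5NoethModelB
import Groth.Agent.Lib.T2H5RpushSectQC
import Groth.Agent.Lib.T2H9CoreBC
import Groth.Agent.Lib.T2H5BridgePos
import Groth.Agent.Lib.T2H9FibRank
import Groth.Agent.Lib.T2H9FibRankBC
import Groth.Agent.Lib.T2H9Grauert2
import Groth.Agent.Lib.T2H9LenFormula2
import Groth.Agent.Lib.Helper18Strict6
set_option backward.isDefEq.respectTransparency.types false

/-!
# Local universal complexes for proper finitely presented morphisms over arbitrary bases (helper5)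

Namespace `Groth.Agent.Lib.T2H5.NoethModel`.

* `exists_noeth_model_ring`: the Noetherian model of `exists_noeth_model` over the spectrum of a ring.
* `fiberRank_congr`: the fibre rank only depends on the isomorphism class of the module.
* `LocData π F y`: an affine open neighbourhood `V` of `y`, a Noetherian ring `A` with a ring map
  `φ : A → Γ(Y, V)` and a bounded below complex `P` of finite free `A`-modules such that the fibre ranks of
  `F` over `V` are the rank functions of `P` (which vanish in positive homological degrees) and, for every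
  affine open `W ≤ V`,
  `H^p(π⁻¹W, F) ≃ₗ[Γ(Y, W)] H_{-p}(P ⊗_A Γ(Y, W))`.
* `nonempty_locData`: such data exist for `π` proper of finite presentation and `F` quasi-coherent of
  finite presentation, flat over `Y` (arbitrary base `Y`).
-/

set_option autoImplicit false
set_option linter.style.haveILetI false
set_option linter.unusedSectionVars false
set_option linter.unusedVariables false
universe u
open CategoryTheory CategoryTheory.Limits AlgebraicGeometry TopologicalSpace Opposite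

namespace Groth.Agent.Lib.T2H5.NoethModel

open Groth.Agent.Lib.T2H5.T2Coh

theorem exists_noeth_model_ring {X : Scheme.{u}} {B : CommRingCat.{u}} (f : X ⟶ Spec B) [IsProper f]
    [LocallyOfFinitePresentation f] (F : X.Modules) [F.IsQuasicoherent] (hfp : CohB1.IsFP F)
    (hfl : FlatMod.IsFlatOver f F) :
    ∃ (A₀ : Type u) (_ : CommRing A₀) (_ : IsNoetherianRing A₀) (ψ : A₀ →+* B) (X₀ : Scheme.{u})
      (f₀ : X₀ ⟶ Spec (CommRingCat.of A₀)) (g' : X ⟶ X₀) (F₀ : X₀.Modules),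
      IsPullback g' f f₀ (Spec.map (CommRingCat.ofHom ψ)) ∧ IsProper f₀ ∧ Coh.IsCoh F₀ ∧
      FlatMod.IsFlatOver f₀ F₀ ∧ Nonempty ((Scheme.Modules.pullback g').obj F₀ ≅ F) := by
  obtain ⟨S₀, X₀, f₀, g, g', F₀, hS₀, hN, hpb, hprop, hcoh, hflat, hiso⟩ :=
    exists_noeth_model f F hfp hfl
  haveI := hS₀
  haveI := hN
  haveI := hprop
  haveI : IsNoetherianRing Γ(S₀, ⊤) :=
    IsLocallyNoetherian.component_noetherian (X := S₀) ⟨⊤, isAffineOpen_top S₀⟩
  let ψ : Γ(S₀, ⊤) ⟶ B := Spec.preimage (g ≫ S₀.isoSpec.hom)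
  have hψ : Spec.map ψ = g ≫ S₀.isoSpec.hom := Spec.map_preimage _
  refine ⟨Γ(S₀, ⊤), inferInstance, inferInstance, ψ.hom, X₀, f₀ ≫ S₀.isoSpec.hom, g', F₀, ?_,
    inferInstance, hcoh, isFlatOver_comp_iso f₀ S₀.isoSpec.hom F₀ hflat, hiso⟩
  have h2 : IsPullback (𝟙 X₀) f₀ (f₀ ≫ S₀.isoSpec.hom) S₀.isoSpec.hom :=
    IsPullback.of_horiz_isIso ⟨by rw [Category.id_comp]⟩
  have h3 := hpb.paste_horiz h2
  rw [Category.comp_id] at h3
  have h4 : Spec.map (CommRingCat.ofHom ψ.hom) = g ≫ S₀.isoSpec.hom := hψ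
  rw [h4]
  exact h3

theorem fiberRank_congr {X Y : Scheme.{u}} (f : X ⟶ Y) {F G : X.Modules} (e : F ≅ G) (p : ℕ) (y : Y) :
    CohIII.fiberRank f F p y = CohIII.fiberRank f G p y := by
  letI : (f.fiber y).Over (Spec (CommRingCat.of (Y.residueField y))) := CohIII.fiberOver f y
  exact LinearEquiv.finrank_eq (Groth.Agent.Lib.T2H5.HilbPoly.hhEquiv (A := Y.residueField y)
    ((Scheme.Modules.pullback (f.fiberι y)).mapIso e) p)

section Data

variable {X Y : Scheme.{u}} (π : X ⟶ Y) (F : X.Modules)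

/-- local universal complexes computing the cohomology of `F` over the preimages of small affine opens -/
structure LocData (y : Y) where
  V : Y.Opens
  hV : IsAffineOpen V
  hy : y ∈ V
  A : Type u
  [instCR : CommRing A]
  [instN : IsNoetherianRing A]
  φ : A →+* Γ(Y, V)
  P : ChainComplex (ModuleCat.{u} A) ℤ
  hP : ∀ i, Module.Finite A (P.X i) ∧ Module.Free A (P.X i)
  hb : ∃ b : ℤ, ∀ i, i < b → IsZero (P.X i)
  pos : ∀ i : ℤ, 0 < i → ∀ x : PrimeSpectrum A, CohIII.dRank P i x = 0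
  rank_eq : ∀ (y' : Y) (hy' : y' ∈ V) (p : ℕ), CohIII.fiberRank π F p y' =
    CohIII.dRank P (-(p : ℤ)) (PrimeSpectrum.comap φ (hV.primeIdealOf ⟨y', hy'⟩))
  hh : ∀ (W : Y.Opens) (hW : IsAffineOpen W) (hWV : W ≤ V) (p : ℕ),
    letI : (↑(π ⁻¹ᵁ W) : Scheme.{u}).Over (Spec (CommRingCat.of Γ(Y, W))) := ⟨g₀ π (U := W)⟩
    Nonempty (Coh.HH (↑(π ⁻¹ᵁ W) : Scheme.{u}) (F.restrict (π ⁻¹ᵁ W).ι) p ≃ₗ[Γ(Y, W)]
      (CohIII.bcCx ((Y.presheaf.map (homOfLE hWV).op).hom.comp φ) P).homology (-(p : ℤ)))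

attribute [instance] LocData.instCR LocData.instN

end Data

section Construct

variable {X Y : Scheme.{u}} (π : X ⟶ Y) [IsProper π] [LocallyOfFinitePresentation π]
  (F : X.Modules) [F.IsQuasicoherent] (hfp : CohB1.IsFP F) (hfl : FlatMod.IsFlatOver π F)

/-- the square relating the preimages of two affine opens -/
theorem isPullback_g₀_le {V W : Y.Opens} (hV : IsAffineOpen V) (hW : IsAffineOpen W) (hWV : W ≤ V) :
    IsPullback (X.homOfLE (show π ⁻¹ᵁ W ≤ π ⁻¹ᵁ V from fun x hx => hWV hx)) (g₀ π (U := W))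
      (g₀ π (U := V)) (Spec.map (Y.presheaf.map (homOfLE hWV).op)) := by
  have hbig : IsPullback (X.homOfLE (show π ⁻¹ᵁ W ≤ π ⁻¹ᵁ V from fun x hx => hWV hx) ≫
      (π ⁻¹ᵁ V).ι) (g₀ π (U := W)) π
      (Spec.map (Y.presheaf.map (homOfLE hWV).op) ≫ hV.fromSpec) := by
    rw [Scheme.homOfLE_ι, hV.map_fromSpec hW]
    exact Groth.Agent.Lib.T2H9.Grauert.isPullback_g₀ π hW
  refine IsPullback.of_right hbig ?_ (Groth.Agent.Lib.T2H9.Grauert.isPullback_g₀ π hV)
  rw [← cancel_mono hV.fromSpec, Category.assoc, Category.assoc, g₀_fromSpec π hV,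
    hV.map_fromSpec hW, g₀_fromSpec π hW, ← Category.assoc, Scheme.homOfLE_ι]

include hfp hfl in
theorem nonempty_locData (y : Y) : Nonempty (LocData π F y) := by
  obtain ⟨V, hV, hyV, -⟩ := exists_isAffineOpen_mem_and_subset (x := y) (U := ⊤) trivial
  have hsq : IsPullback (π ⁻¹ᵁ V).ι (g₀ π (U := V)) π hV.fromSpec :=
    Groth.Agent.Lib.T2H9.Grauert.isPullback_g₀ π hV
  haveI : IsProper (g₀ π (U := V)) := MorphismProperty.of_isPullback hsq inferInstance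
  haveI : LocallyOfFinitePresentation (g₀ π (U := V)) :=
    MorphismProperty.of_isPullback hsq inferInstance
  let FV := (Scheme.Modules.pullback (π ⁻¹ᵁ V).ι).obj F
  have hFVfp : CohB1.IsFP FV := Groth.Agent.Helper18Strict.isFP_pullback _ F hfp
  haveI : FV.IsQuasicoherent := Groth.Agent.Helper18Strict.isQCoh_of_isFP FV hFVfp
  have hFVfl : FlatMod.IsFlatOver (g₀ π (U := V)) FV := fun x' =>
    Groth.Agent.Lib.Helper2.PullbackSec.isFlatOverAt_pullback_of_isPullback hsq F x' (hfl _)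
  obtain ⟨A₀, instCR, instN, ψ, X₀, f₀, g', F₀, hpb, hprop, hcoh, hflat, ⟨iso⟩⟩ :=
    exists_noeth_model_ring (g₀ π (U := V)) FV hFVfp hFVfl
  haveI := hprop
  haveI := hcoh.1
  letI instO : X₀.Over (Spec (CommRingCat.of A₀)) := ⟨f₀⟩
  haveI : IsProper (X₀ ↘ Spec (CommRingCat.of A₀)) := hprop
  have hflat' : FlatMod.IsFlatOver (X₀ ↘ Spec (CommRingCat.of A₀)) F₀ := hflat
  obtain ⟨P, hP, hb, h3, hpos, h4⟩ :=
    Groth.Agent.Lib.T2H5.BridgePos.exists_chain_bridge_bc_pos A₀ X₀ F₀ hcoh hflat'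
  refine ⟨{
    V := V, hV := hV, hy := hyV, A := A₀, φ := ψ, P := P, hP := hP, hb := hb,
    pos := fun i hi x => Groth.Agent.Lib.T2H5.BridgePos.dRank_eq_zero_of_isZero_T P i (hpos i hi) x,
    rank_eq := ?_, hh := ?_ }⟩
  · intro y' hy' p
    have e1 := Groth.Agent.Lib.T2H9.FibRankBC.fiberRank_pullback hsq F p
      (hV.primeIdealOf ⟨y', hy'⟩)
    rw [hV.fromSpec_primeIdealOf ⟨y', hy'⟩] at e1
    have e2 := Groth.Agent.Lib.T2H9.FibRankBC.fiberRank_pullback hpb F₀ p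
      (hV.primeIdealOf ⟨y', hy'⟩)
    have e3 := fiberRank_congr (g₀ π (U := V)) iso p (hV.primeIdealOf ⟨y', hy'⟩)
    have e4 := Groth.Agent.Lib.T2H9.FibRank.fiberRank_eq_dRank A₀ F₀ P p
      (fun A' _ _ X' _ g'' hsq' => h4 A' X' g'' hsq' p)
      (Spec.map (CommRingCat.ofHom ψ) (hV.primeIdealOf ⟨y', hy'⟩))
    rw [← e1]
    exact e3.symm.trans (e2.trans e4)
  · intro W hW hWV p
    letI instOW : (↑(π ⁻¹ᵁ W) : Scheme.{u}).Over (Spec (CommRingCat.of Γ(Y, W))) :=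
      ⟨g₀ π (U := W)⟩
    let res : Γ(Y, V) →+* Γ(Y, W) := (Y.presheaf.map (homOfLE hWV).op).hom
    letI instAlg : Algebra A₀ Γ(Y, W) := (res.comp ψ).toAlgebra
    let incl : (↑(π ⁻¹ᵁ W) : Scheme.{u}) ⟶ (↑(π ⁻¹ᵁ V) : Scheme.{u}) :=
      X.homOfLE (show π ⁻¹ᵁ W ≤ π ⁻¹ᵁ V from fun x hx => hWV hx)
    have hsqW : IsPullback (incl ≫ g') ((↑(π ⁻¹ᵁ W) : Scheme.{u}) ↘ Spec (CommRingCat.of Γ(Y, W)))
        (X₀ ↘ Spec (CommRingCat.of A₀))
        (Spec.map (CommRingCat.ofHom (algebraMap A₀ Γ(Y, W)))) := by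
      have h5 := (isPullback_g₀_le π hV hW hWV).paste_horiz hpb
      have h6 : Spec.map (CommRingCat.ofHom (algebraMap A₀ Γ(Y, W))) =
          Spec.map (Y.presheaf.map (homOfLE hWV).op) ≫ Spec.map (CommRingCat.ofHom ψ) := by
        rw [← Spec.map_comp]
        rfl
      rw [h6]
      exact h5
    obtain ⟨e⟩ := h4 Γ(Y, W) (↑(π ⁻¹ᵁ W) : Scheme.{u}) (incl ≫ g') hsqW p
    let G := (Scheme.Modules.pullback (incl ≫ g')).obj F₀
    have hincl : incl ≫ (π ⁻¹ᵁ V).ι = (π ⁻¹ᵁ W).ι := Scheme.homOfLE_ι _ _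
    let ε : G ≅ F.restrict (π ⁻¹ᵁ W).ι :=
      ((Scheme.Modules.pullbackComp incl g').app F₀).symm ≪≫
        (Scheme.Modules.pullback incl).mapIso iso ≪≫
        (Scheme.Modules.pullbackComp incl (π ⁻¹ᵁ V).ι).app F ≪≫
        (Scheme.Modules.pullbackCongr hincl).app F ≪≫
        ((Scheme.Modules.restrictFunctorIsoPullback (π ⁻¹ᵁ W).ι).app F).symm
    let l1 := Groth.Agent.Lib.T2H9.LenFormula.bridgeLinearEquiv Γ(Y, W) G
      (CohIII.bcCx (algebraMap A₀ Γ(Y, W)) P) (-(p : ℤ)) p e (ModuleCat.of Γ(Y, W) Γ(Y, W))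
    let l2 : Coh.HH (↑(π ⁻¹ᵁ W) : Scheme.{u})
        ((CohIII.tensorAFunctor Γ(Y, W) G).obj (ModuleCat.of Γ(Y, W) Γ(Y, W))) p ≃ₗ[Γ(Y, W)]
        Coh.HH (↑(π ⁻¹ᵁ W) : Scheme.{u}) G p :=
      Groth.Agent.Lib.T2H5.HilbPoly.hhEquiv
        (Groth.Agent.Lib.T2H9.TFunGeo.tensorAFunctorUnitIso Γ(Y, W) G) p
    let l3 : Coh.HH (↑(π ⁻¹ᵁ W) : Scheme.{u}) G p ≃ₗ[Γ(Y, W)]
        Coh.HH (↑(π ⁻¹ᵁ W) : Scheme.{u}) (F.restrict (π ⁻¹ᵁ W).ι) p :=
      Groth.Agent.Lib.T2H5.HilbPoly.hhEquiv ε p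
    let l0 := (Groth.Agent.Lib.Helper3.TUnitIso (CohIII.bcCx (algebraMap A₀ Γ(Y, W)) P)
      (-(p : ℤ))).toLinearEquiv
    exact ⟨((l0.symm.trans l1).trans (l2.trans l3)).symm⟩

end Construct

end Groth.Agent.Lib.T2H5.NoethModel
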