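import Mathlib
import Groth.Prelude.Def_Fitting
import Groth.Agent.Lib.Helper23SecTw9
import Groth.Agent.Lib.T2H4CocycleMod
import Groth.Agent.Lib.T2H3NormQAff2

/-!
# Descending ampleness along a finite morphism with a norm, part A (helper5)

* `exists_invertible_of_cocycle`: an invertible module with global sections from multiplicative
  transition data on an open cover.
* `mem_basicOpen_norm_iff`: the non-vanishing locus of the norm of a function.
* `exists_invertible_of_sections`: the norm of an invertible module trivialised near the fibres by a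
  family of global sections, with the norms of those sections.
-/

set_option autoImplicit false
set_option backward.isDefEq.respectTransparency.types false
set_option linter.style.haveILetI false
set_option linter.unusedSectionVars false
set_option linter.unusedVariables false
universe u

open CategoryTheory CategoryTheory.Limits AlgebraicGeometry Opposite TopologicalSpace

namespace Groth.Agent.Lib.T2H5.NormAmple

open Groth.Agent.Lib.Helper6 Groth.Agent.Lib.Helper23.SecTw Groth.Agent.Lib.Helper23.GenLocus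
open Groth.Agent.Lib.T2H4.CocycleMod Groth.Agent.Lib.T2H4.Cocycle Groth.Agent.Lib.T2H3.NormQAff2

section cocycle

variable {Y : Scheme.{u}} {ι : Type u} (V : ι → Y.Opens) (n : ∀ k i : ι, Γ(Y, V i))

/-- the unit cocycle attached to multiplicative transition data -/
noncomputable def etaU (h1 : ∀ i, n i i = 1)
    (hmul : ∀ (k i j : ι) (W : Y.Opens) (hi : W ≤ V i) (hj : W ≤ V j),
      resf hj (n k j) = resf hi (n k i) * resf hj (n i j)) (i j : ι) : (Γ(Y, V i ⊓ V j))ˣ where
  val := resf (inf_le_right : V i ⊓ V j ≤ V j) (n i j)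
  inv := resf (inf_le_left : V i ⊓ V j ≤ V i) (n j i)
  val_inv := by
    rw [← hmul i j i (V i ⊓ V j) inf_le_right inf_le_left, h1, resf_one]
  inv_val := by
    rw [mul_comm, ← hmul i j i (V i ⊓ V j) inf_le_right inf_le_left, h1, resf_one]

variable (h1 : ∀ i, n i i = 1)
  (hmul : ∀ (k i j : ι) (W : Y.Opens) (hi : W ≤ V i) (hj : W ≤ V j),
    resf hj (n k j) = resf hi (n k i) * resf hj (n i j))

theorem etaU_cocycle (i j k : ι) :
    resf (inf_le_inf_right (V k) inf_le_left : V i ⊓ V j ⊓ V k ≤ V i ⊓ V k)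
        (etaU V n h1 hmul i k : Γ(Y, V i ⊓ V k)) =
      resf (inf_le_left : V i ⊓ V j ⊓ V k ≤ V i ⊓ V j) (etaU V n h1 hmul i j : Γ(Y, V i ⊓ V j)) *
        resf (inf_le_inf_right (V k) inf_le_right : V i ⊓ V j ⊓ V k ≤ V j ⊓ V k)
          (etaU V n h1 hmul j k : Γ(Y, V j ⊓ V k)) := by
  change resf _ (resf _ (n i k)) = resf _ (resf _ (n i j)) * resf _ (resf _ (n j k))
  rw [resf_resf, resf_resf, resf_resf]
  exact hmul i j k _ _ _

/-- the global section of the cocycle module with coordinates `n k i` -/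
noncomputable def tauSec (k : ι) : secSubgroup V (ηv V (etaU V n h1 hmul)) ⊤ :=
  ⟨fun i => resf (inf_le_right : ⊤ ⊓ V i ≤ V i) (n k i), by
    intro i j
    change resf _ (resf _ (n k j)) = resf _ (resf _ (n k i)) * resf _ (resf _ (n i j))
    rw [resf_resf, resf_resf, resf_resf]
    exact hmul k i j _ _ _⟩

include h1 hmul in
theorem exists_invertible_of_cocycle (hV : iSup V = ⊤) :
    ∃ (N : Y.Modules) (_ : PicF.IsInvertible N) (s : ι → (Coh.structureModule Y ⟶ N)),
      ∀ k i, CohB1.genLocus N (s k) ⊓ V i = Y.basicOpen (n k i) := by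
  let η := etaU V n h1 hmul
  have hη := etaU_cocycle V n h1 hmul
  let N := cocycleMod V (ηv V η)
  let τ : ι → Γ(N, ⊤) := fun k => ofSec V (ηv V η) (tauSec V n h1 hmul k)
  refine ⟨N, isInvertible_cocycleMod V η hη hV, fun k => secHom N (τ k), fun k i => ?_⟩
  have hgen : IsGen N (V i) (gen V η hη i) := gen_isGen V η hη i
  refine genLocus_inf_eq_of_isGen N (secHom N (τ k)) (V i) (gen V η hη i) (n k i) hgen ?_
  rw [sv_secHom]
  apply sec_ext
  intro j
  rw [toSec_res, toSec_smul, toSec_gen]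
  change resf _ (resf _ (n k j)) = resf _ (n k i) * resf _ (n i j)
  rw [resf_resf]
  exact hmul k i j _ _ _

end cocycle

section normLocus

variable {X Y : Scheme.{u}} (π : X ⟶ Y)

/-- the norm of a function `a` is invertible at `y` iff `a` is invertible at every point over `y` -/
theorem mem_basicOpen_norm_iff (hcl : IsClosedMap π.base) (N : PreNorm π) (W : Y.Opens)
    (a : Γ(X, π ⁻¹ᵁ W)) (y : Y) (hy : y ∈ W) :
    y ∈ Y.basicOpen (N.norm W a) ↔ ∀ x : X, π.base x = y → x ∈ X.basicOpen a := by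
  constructor
  · intro hyb x hx
    subst hx
    have hx1 : IsUnit (Y.presheaf.germ W (π.base x) hy (N.norm W a)) :=
      (Y.mem_basicOpen (N.norm W a) (π.base x) hy).mp hyb
    by_contra hxa
    have hx2 : ¬ IsUnit (X.presheaf.germ (π ⁻¹ᵁ W) x hy a) := fun h =>
      hxa ((X.mem_basicOpen a x hy).mpr h)
    have := N.norm_mem W a x hy ((IsLocalRing.mem_maximalIdeal _).mpr hx2)
    exact ((IsLocalRing.mem_maximalIdeal _).mp this) hx1
  · intro hfib
    let W' : Y.Opens := ⟨(π.base '' ((X.basicOpen a : Set X)ᶜ))ᶜ,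
      (hcl _ (X.basicOpen a).2.isClosed_compl).isOpen_compl⟩
    have hyW' : y ∈ W' := by
      rintro ⟨x, hx, hxy⟩
      exact hx (hfib x hxy)
    let W'' : Y.Opens := W' ⊓ W
    have hyW'' : y ∈ W'' := ⟨hyW', hy⟩
    have hW''a : π ⁻¹ᵁ W'' ≤ X.basicOpen a := by
      intro x hx
      by_contra hxa
      exact hx.1 ⟨x, hxa, rfl⟩
    let i : W'' ⟶ W := homOfLE inf_le_right
    have hunit : IsUnit (X.presheaf.map ((Opens.map π.base).map i).op a) := by
      apply RingedSpace.isUnit_of_isUnit_germ X.toLocallyRingedSpace.toRingedSpace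
      intro x hx
      have hxa : x ∈ X.basicOpen a := hW''a hx
      have h := (X.mem_basicOpen a x hx.2).mp hxa
      have e := X.presheaf.germ_res_apply ((Opens.map π.base).map i) x hx a
      exact e ▸ h
    have hres := N.norm_res i a
    have hunit2 : IsUnit (Y.presheaf.map i.op (N.norm W a)) := by
      rw [show Y.presheaf.map i.op (N.norm W a) = _ from hres]
      exact hunit.map (N.norm W'')
    rw [Y.mem_basicOpen (N.norm W a) y hy]
    have e := Y.presheaf.germ_res_apply i y hyW'' (N.norm W a)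
    rw [← e]
    exact hunit2.map _

end normLocus

section sections

variable {X Y : Scheme.{u}} (π : X ⟶ Y) (N₀ : PreNorm π) (M : X.Modules) {ι : Type u}
  (σ : ι → (Coh.structureModule X ⟶ M)) (V : ι → Y.Opens)
  (hle : ∀ i, π ⁻¹ᵁ (V i) ≤ CohB1.genLocus M (σ i))

/-- the local generator given by `σ i` on the preimage of `V i` -/
noncomputable def eGen (i : ι) : Γ(M, π ⁻¹ᵁ (V i)) := sv (σ i) (π ⁻¹ᵁ (V i))

include hle in
theorem isGen_eGen (i : ι) : IsGen M (π ⁻¹ᵁ (V i)) (eGen π M σ V i) := by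
  have h := (isGen_sv_genLocus M (σ i)).mono (hle i)
  rw [res_sv] at h
  exact h

/-- the coefficient of `σ k` with respect to `σ i` on the preimage of `V i` -/
noncomputable def cf (k i : ι) : Γ(X, π ⁻¹ᵁ (V i)) :=
  coef (isGen_eGen π M σ V hle i) le_rfl (sv (σ k) (π ⁻¹ᵁ (V i)))

theorem cf_spec (k i : ι) : sv (σ k) (π ⁻¹ᵁ (V i)) = cf π M σ V hle k i • eGen π M σ V i := by
  have h := coef_spec (isGen_eGen π M σ V hle i) le_rfl (sv (σ k) (π ⁻¹ᵁ (V i)))
  rw [res_self] at h
  exact h.symm

theorem cf_self (i : ι) : cf π M σ V hle i i = 1 := by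
  refine (coef_unique (isGen_eGen π M σ V hle i) le_rfl _ _ ?_).symm
  rw [one_smul, res_self]
  rfl

theorem cf_res_spec (k i : ι) (W' : X.Opens) (hi : W' ≤ π ⁻¹ᵁ (V i)) :
    resf hi (cf π M σ V hle k i) • sv (σ i) W' = sv (σ k) W' := by
  have h := congrArg (res M hi) (cf_spec π M σ V hle k i)
  rw [res_smul, res_sv] at h
  have h2 : res M hi (eGen π M σ V i) = sv (σ i) W' := res_sv (σ i) hi
  rw [h2] at h
  exact h.symm

theorem cf_mul (k i j : ι) (W' : X.Opens) (hi : W' ≤ π ⁻¹ᵁ (V i)) (hj : W' ≤ π ⁻¹ᵁ (V j)) :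
    resf hj (cf π M σ V hle k j) = resf hi (cf π M σ V hle k i) * resf hj (cf π M σ V hle i j) := by
  have hg : IsGen M W' (sv (σ j) W') := by
    have h := (isGen_eGen π M σ V hle j).mono hj
    have h2 : res M hj (eGen π M σ V j) = sv (σ j) W' := res_sv (σ j) hj
    rw [h2] at h
    exact h
  apply (hg W' le_rfl).1
  change resf hj (cf π M σ V hle k j) • res M le_rfl (sv (σ j) W') =
    (resf hi (cf π M σ V hle k i) * resf hj (cf π M σ V hle i j)) • res M le_rfl (sv (σ j) W')
  rw [res_self, mul_smul, cf_res_spec, cf_res_spec, cf_res_spec]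

theorem basicOpen_cf (k i : ι) :
    X.basicOpen (cf π M σ V hle k i) = CohB1.genLocus M (σ k) ⊓ π ⁻¹ᵁ (V i) :=
  (genLocus_inf_eq_of_isGen M (σ k) (π ⁻¹ᵁ (V i)) (eGen π M σ V i) (cf π M σ V hle k i)
    (isGen_eGen π M σ V hle i) (cf_spec π M σ V hle k i)).symm

/-- the norms of the coefficients -/
noncomputable def nf (k i : ι) : Γ(Y, V i) := N₀.norm (V i) (cf π M σ V hle k i)

theorem nf_self (i : ι) : nf π N₀ M σ V hle i i = 1 := by
  unfold nf
  rw [cf_self, map_one]

theorem nf_mul (k i j : ι) (W : Y.Opens) (hi : W ≤ V i) (hj : W ≤ V j) :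
    resf hj (nf π N₀ M σ V hle k j) = resf hi (nf π N₀ M σ V hle k i) * resf hj (nf π N₀ M σ V hle i j) := by
  unfold nf
  have e1 := N₀.norm_res (homOfLE hj) (cf π M σ V hle k j)
  have e2 := N₀.norm_res (homOfLE hi) (cf π M σ V hle k i)
  have e3 := N₀.norm_res (homOfLE hj) (cf π M σ V hle i j)
  change resf hj _ = resf hi _ * resf hj _
  rw [show resf hj (N₀.norm (V j) (cf π M σ V hle k j)) = _ from e1,
    show resf hi (N₀.norm (V i) (cf π M σ V hle k i)) = _ from e2,
    show resf hj (N₀.norm (V j) (cf π M σ V hle i j)) = _ from e3, ← map_mul]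
  congr 1
  exact cf_mul π M σ V hle k i j (π ⁻¹ᵁ W) (fun x hx => hi hx) (fun x hx => hj hx)

include N₀ in
/-- The norm of an invertible module trivialised near the fibres of `π` by global sections, together with
the norms of these sections. -/
theorem exists_invertible_of_sections (hcl : IsClosedMap π.base) (hsurj : Function.Surjective π.base)
    (hV : iSup V = ⊤)
    (hVmem : ∀ (i : ι) (y : Y), y ∈ V i ↔ ∀ x : X, π.base x = y → x ∈ CohB1.genLocus M (σ i)) :
    ∃ (N : Y.Modules) (_ : PicF.IsInvertible N) (s : ι → (Coh.structureModule Y ⟶ N)),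
      ∀ k, CohB1.genLocus N (s k) = V k := by
  have hle : ∀ i, π ⁻¹ᵁ (V i) ≤ CohB1.genLocus M (σ i) := fun i x hx => (hVmem i (π.base x)).1 hx x rfl
  obtain ⟨N, hN, s, hs⟩ := exists_invertible_of_cocycle V (nf π N₀ M σ V hle) (nf_self π N₀ M σ V hle)
    (nf_mul π N₀ M σ V hle) hV
  refine ⟨N, hN, s, fun k => ?_⟩
  ext y
  have hy : y ∈ (iSup V : Y.Opens) := by rw [hV]; trivial
  obtain ⟨i, hyi⟩ := Opens.mem_iSup.1 hy
  have h1 : y ∈ CohB1.genLocus N (s k) ↔ y ∈ Y.basicOpen (nf π N₀ M σ V hle k i) := by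
    rw [← hs k i]
    exact ⟨fun h => ⟨h, hyi⟩, fun h => h.1⟩
  change y ∈ CohB1.genLocus N (s k) ↔ y ∈ V k
  rw [h1]
  unfold nf
  rw [mem_basicOpen_norm_iff π hcl N₀ (V i) _ y hyi, hVmem k y]
  constructor
  · intro h x hx
    have := h x hx
    rw [basicOpen_cf] at this
    exact this.1
  · intro h x hx
    rw [basicOpen_cf]
    exact ⟨h x hx, by change π.base x ∈ V i; rw [hx]; exact hyi⟩

end sections

end Groth.Agent.Lib.T2H5.NormAmple
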