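import Mathlib
import Groth.Agent.Lib.T2H5NormAmpleA
import Groth.Agent.Lib.T2H3NormQAff
import Groth.Agent.S2324

/-!
# Descending ampleness along a finite morphism with a norm, part B (helper5)

* `exists_basicOpen_of_finite_affine`: prime avoidance in an affine open.
* `exists_good_section`: near each point of the base, a section of a power of the ample module whose
  "norm locus" is an affine open.
* `exists_common_power`: a finite family of sections of positive powers moved to a common power.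
* `exists_ample_of_preNorm`: ampleness descends.
-/

set_option autoImplicit false
set_option backward.isDefEq.respectTransparency.types false
set_option linter.style.haveILetI false
set_option linter.unusedSectionVars false
set_option linter.unusedVariables false
universe u

open CategoryTheory CategoryTheory.Limits AlgebraicGeometry Opposite TopologicalSpace

namespace Groth.Agent.Lib.T2H5.NormAmple

open Groth.Agent.Lib.Helper6 Groth.Agent.Lib.Helper23.SecTw Groth.Agent.Lib.Helper23.GenLocus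
open Groth.Agent.Lib.Helper23.AmpleIso Groth.Agent.Lib.Helper23.TensorUnit
open Groth.Agent.Lib.T2H3.NormQAff2

/-- prime avoidance in an affine open -/
theorem exists_basicOpen_of_finite_affine {X : Scheme.{u}} {U : X.Opens} (hU : IsAffineOpen U) (F : Set X)
    (hF : F.Finite) (W : X.Opens) (hFW : F ⊆ W) (hWU : W ≤ U) :
    ∃ f : Γ(X, U), F ⊆ X.basicOpen f ∧ X.basicOpen f ≤ W := by
  haveI : IsAffine (U : Scheme.{u}) := hU
  have hF' : (U.ι.base ⁻¹' F).Finite := hF.preimage (U.ι.isOpenEmbedding.injective.injOn)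
  obtain ⟨f₀, h1, h2⟩ := Groth.Agent.Lib.T2H3.NormQAff.exists_basicOpen_of_finite (U : Scheme.{u}) _ hF'
    (U.ι ⁻¹ᵁ W) (fun z hz => hFW hz)
  have hinv : U.topIso.inv (U.topIso.hom f₀) = f₀ := by
    rw [← CommRingCat.comp_apply, Iso.hom_inv_id]
    rfl
  refine ⟨U.topIso.hom f₀, ?_, ?_⟩
  · intro x hx
    have hxU : x ∈ U := hWU (hFW hx)
    have hz : (⟨x, hxU⟩ : U) ∈ (U : Scheme.{u}).basicOpen f₀ := h1 (show U.ι.base ⟨x, hxU⟩ ∈ F from hx)
    rw [← Scheme.Opens.ι_image_basicOpen_topIso_inv, hinv]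
    exact ⟨⟨x, hxU⟩, hz, rfl⟩
  · rw [← Scheme.Opens.ι_image_basicOpen_topIso_inv, hinv]
    rintro _ ⟨z, hz, rfl⟩
    exact h2 hz

variable {X Y : Scheme.{u}} (π : X ⟶ Y)

theorem exists_good_section [IsFinite π] (hsurj : Function.Surjective π.base) (N₀ : PreNorm π)
    (L : X.Modules) (hL : CohB1.IsAmple L) (y : Y) :
    ∃ (a : ℕ) (_ : 0 < a) (σ : Coh.structureModule X ⟶ CohB1.tensorPow L a) (Vy : Y.Opens),
      IsAffineOpen Vy ∧ y ∈ Vy ∧
        ∀ y' : Y, y' ∈ Vy ↔ ∀ x : X, π.base x = y' → x ∈ CohB1.genLocus _ σ := by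
  haveI : CompactSpace X := hL.2.1
  haveI : X.IsSeparated := isSeparated_of_cover L hL.1 hL.2.2
  haveI : QuasiSeparatedSpace X := quasiSeparatedSpace_of_isAmple L hL
  have hcl : IsClosedMap π.base := π.isClosedMap
  obtain ⟨V', hV', hyV'⟩ : ∃ V : Y.Opens, IsAffineOpen V ∧ y ∈ V := by
    obtain ⟨_, ⟨V, hV, rfl⟩, hyV, -⟩ :=
      Y.isBasis_affineOpens.exists_subset_of_mem_open (Set.mem_univ y) isOpen_univ
    exact ⟨V, hV, hyV⟩
  have hX' : IsAffineOpen (π ⁻¹ᵁ V') := hV'.preimage π
  have hfin : (π.base ⁻¹' {y}).Finite := Scheme.Hom.finite_preimage_singleton π y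
  have hFX' : π.base ⁻¹' {y} ⊆ (π ⁻¹ᵁ V' : X.Opens) := by
    intro x hx
    change π.base x ∈ V'
    rw [show π.base x = y from hx]
    exact hyV'
  obtain ⟨n, s, hFs, hsX', hsaff⟩ := Groth.Agent.S2324.result X L hL _ hfin (π ⁻¹ᵁ V') hFX'
  have hsX'' : CohB1.genLocus _ s ≤ π ⁻¹ᵁ V' := hsX'
  obtain ⟨f', hFf, hfs⟩ := exists_basicOpen_of_finite_affine hX' _ hfin (CohB1.genLocus _ s) hFs hsX''
  let g : Γ(X, CohB1.genLocus _ s) := resf hsX'' f'
  have hg : X.basicOpen g = X.basicOpen f' := by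
    change X.basicOpen (X.presheaf.map (homOfLE hsX'').op f') = _
    rw [Scheme.basicOpen_res]
    exact inf_eq_right.mpr hfs
  have hM : PicF.IsInvertible (CohB1.tensorPow L (n + 1)) := isInvertible_tensorPow hL.1 (n + 1)
  obtain ⟨k, τ, hτ⟩ := exists_section_genLocus_eq_basicOpen (CohB1.tensorPow L (n + 1)) hM s g
  obtain ⟨Φ⟩ := nonempty_tensorPow_tensorPow_iso L hL.1 (n + 1) (k + 1) ((n + 1) * (k + 1)) rfl
  have hσ : CohB1.genLocus _ (τ ≫ Φ.hom) = X.basicOpen f' := by
    rw [genLocus_comp_iso, hτ, hg]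
  refine ⟨(n + 1) * (k + 1), Nat.mul_pos (Nat.succ_pos _) (Nat.succ_pos _), τ ≫ Φ.hom,
    Y.basicOpen (N₀.norm V' f'), hV'.basicOpen _, ?_, ?_⟩
  · rw [mem_basicOpen_norm_iff π hcl N₀ V' f' y hyV']
    intro x hx
    exact hFf hx
  · intro y'
    rw [hσ]
    constructor
    · intro hy'
      have hy'V : y' ∈ V' := Y.basicOpen_le _ hy'
      exact (mem_basicOpen_norm_iff π hcl N₀ V' f' y' hy'V).1 hy'
    · intro h
      obtain ⟨x, hx⟩ := hsurj y'
      have hxf : x ∈ X.basicOpen f' := h x hx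
      have hy'V : y' ∈ V' := by
        have : x ∈ π ⁻¹ᵁ V' := X.basicOpen_le _ hxf
        rw [← hx]
        exact this
      exact (mem_basicOpen_norm_iff π hcl N₀ V' f' y' hy'V).2 h

/-- a finite family of sections of positive powers, moved to a common power -/
theorem exists_common_power_family {X : Scheme.{u}} (L : X.Modules) (hL : PicF.IsInvertible L)
    {T : Type u} [Fintype T] (a : T → ℕ) (ha : ∀ t, 0 < a t)
    (σ : ∀ t, Coh.structureModule X ⟶ CohB1.tensorPow L (a t)) :
    ∃ (m : ℕ) (_ : 0 < m) (σ' : T → (Coh.structureModule X ⟶ CohB1.tensorPow L m)),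
      ∀ t, CohB1.genLocus _ (σ' t) = CohB1.genLocus _ (σ t) := by
  classical
  let m : ℕ := ∏ t, a t
  have hm : 0 < m := Finset.prod_pos (fun t _ => ha t)
  have hdvd : ∀ t, a t ∣ m := fun t => Finset.dvd_prod_of_mem a (Finset.mem_univ t)
  have key : ∀ t, ∃ σ' : Coh.structureModule X ⟶ CohB1.tensorPow L m,
      CohB1.genLocus _ σ' = CohB1.genLocus _ (σ t) := by
    intro t
    obtain ⟨b, hb⟩ := hdvd t
    have hb0 : 0 < b := by
      rcases Nat.eq_zero_or_pos b with h | h
      · rw [h, mul_zero] at hb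
        omega
      · exact h
    obtain ⟨Φ⟩ := nonempty_tensorPow_tensorPow_iso L hL (a t) b m hb.symm
    refine ⟨SecTwist.powHom (σ t) b ≫ Φ.hom, ?_⟩
    rw [genLocus_comp_iso, genLocus_powHom (isInvertible_tensorPow hL (a t)) (σ t) b hb0]
  choose σ' hσ' using key
  exact ⟨m, hm, σ', hσ'⟩

/-- **Ampleness descends** along a finite surjective morphism carrying a norm. -/
theorem exists_ample_of_preNorm [IsFinite π] (hsurj : Function.Surjective π.base) (N₀ : PreNorm π)
    (L : X.Modules) (hL : CohB1.IsAmple L) : ∃ N : Y.Modules, CohB1.IsAmple N := by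
  classical
  haveI : CompactSpace X := hL.2.1
  haveI : CompactSpace Y := by
    constructor
    rw [← Set.range_eq_univ.mpr hsurj]
    exact isCompact_range π.continuous
  choose a ha σ Vy hVaff hyV hVmem using exists_good_section π hsurj N₀ L hL
  obtain ⟨T, hT⟩ := isCompact_univ.elim_finite_subcover (fun y : Y => (Vy y : Set Y))
    (fun y => (Vy y).2) (fun y _ => Set.mem_iUnion.2 ⟨y, hyV y⟩)
  let ι : Type u := {y : Y // y ∈ T}
  obtain ⟨m, hm, σ', hσ'⟩ := exists_common_power_family L hL.1 (fun t : ι => a t.1) (fun t => ha t.1)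
    (fun t => σ t.1)
  have hV : iSup (fun t : ι => Vy t.1) = ⊤ := by
    rw [eq_top_iff]
    intro y _
    have := hT (Set.mem_univ y)
    simp only [Set.mem_iUnion] at this
    obtain ⟨t, ht, hyt⟩ := this
    exact Opens.mem_iSup.2 ⟨⟨t, ht⟩, hyt⟩
  obtain ⟨N, hN, s, hs⟩ := exists_invertible_of_sections π N₀ (CohB1.tensorPow L m) σ' (fun t : ι => Vy t.1)
    π.isClosedMap hsurj hV (fun t y => by rw [hσ' t]; exact hVmem t.1 y)
  refine ⟨N, hN, inferInstance, fun y => ?_⟩
  have hy : y ∈ (iSup (fun t : ι => Vy t.1) : Y.Opens) := by rw [hV]; trivial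
  obtain ⟨t, hyt⟩ := Opens.mem_iSup.1 hy
  have e : CohB1.genLocus (CohB1.tensorMod (Coh.structureModule Y) N) (s t ≫ (unitTensorIso N).symm.hom) =
      Vy t.1 := by
    rw [genLocus_comp_iso, hs t]
  refine ⟨0, s t ≫ (unitTensorIso N).symm.hom, ?_, ?_⟩
  · change y ∈ CohB1.genLocus (CohB1.tensorMod (Coh.structureModule Y) N) (s t ≫ (unitTensorIso N).symm.hom)
    rw [e]
    exact hyt
  · change IsAffineOpen (CohB1.genLocus (CohB1.tensorMod (Coh.structureModule Y) N)
      (s t ≫ (unitTensorIso N).symm.hom))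
    rw [e]
    exact hVaff t.1

end Groth.Agent.Lib.T2H5.NormAmple
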