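import Mathlib
import Groth.Agent.Lib.T2H5NormAmpleB
import Groth.Agent.Lib.T2H4Cocycle
import Groth.Agent.Lib.Helper23PB
import Groth.Agent.Lib.Helper18FinFlat2

/-!
# Descending ampleness along a finite locally free surjective morphism, part C (helper5)

* `exists_invertible_of_cocycle'`: the cocycle module with its generators and their transitions.
* `exists_preNorm_deg`: the norm of a finite locally free morphism with its local degree.
* `exists_good_section'`: good sections with norm locus inside a prescribed neighbourhood.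
-/

set_option autoImplicit false
set_option backward.isDefEq.respectTransparency.types false
set_option linter.style.haveILetI false
set_option linter.unusedSectionVars false
set_option linter.unusedVariables false
universe u

open CategoryTheory CategoryTheory.Limits AlgebraicGeometry Opposite TopologicalSpace

namespace Groth.Agent.Lib.T2H5.NormAmple

open Groth.Agent.Lib.Helper6 Groth.Agent.Lib.Helper23.SecTw Groth.Agent.Lib.Helper23.GenLocus
open Groth.Agent.Lib.Helper23.AmpleIso Groth.Agent.Lib.Helper23.TensorUnit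
open Groth.Agent.Lib.T2H4.CocycleMod Groth.Agent.Lib.T2H4.Cocycle Groth.Agent.Lib.T2H3.NormQAff2

section cocycle

variable {Y : Scheme.{u}} {ι : Type u} (V : ι → Y.Opens) (n : ∀ k i : ι, Γ(Y, V i))
  (h1 : ∀ i, n i i = 1)
  (hmul : ∀ (k i j : ι) (W : Y.Opens) (hi : W ≤ V i) (hj : W ≤ V j),
    resf hj (n k j) = resf hi (n k i) * resf hj (n i j))

include h1 hmul in
theorem exists_invertible_of_cocycle' (hV : iSup V = ⊤) :
    ∃ (N : Y.Modules) (_ : PicF.IsInvertible N) (s : ι → (Coh.structureModule Y ⟶ N))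
      (ε : ∀ i, Γ(N, V i)),
      (∀ i, IsGen N (V i) (ε i)) ∧
      (∀ i j, res N (inf_le_left : V i ⊓ V j ≤ V i) (ε i) =
        resf (inf_le_right : V i ⊓ V j ≤ V j) (n i j) • res N (inf_le_right : V i ⊓ V j ≤ V j) (ε j)) ∧
      ∀ k i, CohB1.genLocus N (s k) ⊓ V i = Y.basicOpen (n k i) := by
  let η := etaU V n h1 hmul
  have hη := etaU_cocycle V n h1 hmul
  let N := cocycleMod V (ηv V η)
  let τ : ι → Γ(N, ⊤) := fun k => ofSec V (ηv V η) (tauSec V n h1 hmul k)
  refine ⟨N, isInvertible_cocycleMod V η hη hV, fun k => secHom N (τ k), fun i => gen V η hη i,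
    fun i => gen_isGen V η hη i, fun i j => gen_transition V η hη i j, fun k i => ?_⟩
  have hgen : IsGen N (V i) (gen V η hη i) := gen_isGen V η hη i
  refine genLocus_inf_eq_of_isGen N (secHom N (τ k)) (V i) (gen V η hη i) (n k i) hgen ?_
  rw [sv_secHom]
  apply sec_ext
  intro j
  rw [toSec_res, toSec_smul, toSec_gen]
  change resf _ (resf _ (n k j)) = resf _ (n k i) * resf _ (n i j)
  rw [resf_resf]
  exact hmul k i j _ _ _

end cocycle

section gens

variable {X : Scheme.{u}}

/-- a unit multiple of a generator is a generator -/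
theorem isGen_smul_of_isUnit (M : X.Modules) (W : X.Opens) (a : Γ(M, W)) (ha : IsGen M W a)
    (c : Γ(X, W)) (hc : IsUnit c) : IsGen M W (c • a) := by
  intro W' hW'
  have hc' : IsUnit (resf hW' c) := hc.map _
  have hfun : (fun r : Γ(X, W') => r • res M hW' (c • a)) =
      (fun r : Γ(X, W') => r • res M hW' a) ∘ (fun r : Γ(X, W') => r * resf hW' c) := by
    funext r
    change r • res M hW' (c • a) = (r * resf hW' c) • res M hW' a
    rw [res_smul, mul_smul]
  rw [hfun]
  refine (ha W' hW').comp ⟨hc'.mul_left_injective, fun r => ?_⟩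
  obtain ⟨v, hv⟩ := hc'
  exact ⟨r * ↑v⁻¹, by change r * ↑v⁻¹ * resf hW' c = r; rw [← hv, mul_assoc, Units.inv_mul, mul_one]⟩

end gens

section deg

open Groth.Agent.Helper18Norm Groth.Agent.Helper18Trace Groth.Agent.Helper18FinFlat

variable {X Y : Scheme.{u}} (π : X ⟶ Y)

/-- A finite locally free morphism has a degree-free norm, which is the `n`-th power on functions from the
base wherever the rank is `n`. -/
theorem exists_preNorm_deg (hπ : Mor2.IsFinLocFree π) :
    ∃ N₀ : PreNorm π, ∀ (U : Y.Opens) (n : ℕ), (∀ y ∈ U, π.finrank y = n) →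
      ∀ g : Γ(Y, U), N₀.norm U (π.app U g) = g ^ n := by
  haveI : IsFinite π := hπ.1
  haveI : Flat π := hπ.2.1
  have h := pushforward_isFinLocFree π hπ
  have hB := isBasis_good_directImage π h
  refine ⟨{ norm := fun U => normHom (RelSpec.QCAlg.directImage π) hB U
            norm_res := fun i s => normSec_res (RelSpec.QCAlg.directImage π) hB (leOfHom i) s
            norm_mem := fun U s x hx hs => normSec_mem π hB U s x hx hs }, fun U n hU g => ?_⟩
  change normSec (RelSpec.QCAlg.directImage π) hB U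
    (((RelSpec.QCAlg.directImage π).str.app (op U)).hom g) = g ^ n
  have key : ∀ y : U, ∃ (W : Y.Opens) (_ : IsAffineOpen W) (_ : W ≤ U) (d : ℕ)
      (_ : letI := alg (RelSpec.QCAlg.directImage π) W
        Module.Basis (Fin d) Γ(Y, W) ((RelSpec.QCAlg.directImage π).presheaf.obj (op W))),
      y.1 ∈ W := by
    intro y
    obtain ⟨W, hW, hyW, hWU, d, ⟨b⟩⟩ := exists_good_directImage π h y.1 U y.2
    exact ⟨W, hW, hWU, d, b, hyW⟩
  choose W hW hWU d b hyW using key
  refine TopCat.Sheaf.eq_of_locally_eq' Y.sheaf W U (fun y => homOfLE (hWU y)) ?_ _ _ (fun y => ?_)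
  · intro y hy
    exact Opens.mem_iSup.2 ⟨⟨y, hy⟩, hyW _⟩
  · letI := alg (RelSpec.QCAlg.directImage π) (W y)
    change (Y.presheaf.map (homOfLE (hWU y)).op).hom _ = (Y.presheaf.map (homOfLE (hWU y)).op).hom _
    rw [normSec_res, str_res_apply, normSec_good _ hB (isGood_of_basis _ (hW y) (b y)), map_pow]
    have := Algebra.norm_algebraMap_of_basis (b y) ((Y.presheaf.map (homOfLE (hWU y)).op).hom g)
    rw [Fintype.card_fin] at this
    have hd : d y = n := by
      rw [← hU y.1 y.2]
      let b' : Module.Basis (Fin (d y)) Γ(Y, W y)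
          Γ((Scheme.Modules.pushforward π).obj (Coh.structureModule X), W y) :=
        (b y).map (pushEquiv π (W y)).symm
      haveI : Nonempty (W y) := ⟨⟨y.1, hyW y⟩⟩
      haveI : Nontrivial Γ(Y, W y) := inferInstance
      exact (finrank_eq_of_rankQ π (hW y) y.1 (hyW y) (d y) (rankQ_of_basis π b')).symm
    rw [← hd]
    exact this

end deg

section goodsec

variable {X Y : Scheme.{u}} (π : X ⟶ Y)

/-- good sections whose norm locus lies in a prescribed neighbourhood -/
theorem exists_good_section' [IsFinite π] (hsurj : Function.Surjective π.base) (N₀ : PreNorm π)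
    (L : X.Modules) (hL : CohB1.IsAmple L) (y : Y) (U : Y.Opens) (hyU : y ∈ U) :
    ∃ (a : ℕ) (_ : 0 < a) (σ : Coh.structureModule X ⟶ CohB1.tensorPow L a) (Vy : Y.Opens),
      IsAffineOpen Vy ∧ y ∈ Vy ∧ Vy ≤ U ∧
        ∀ y' : Y, y' ∈ Vy ↔ ∀ x : X, π.base x = y' → x ∈ CohB1.genLocus _ σ := by
  haveI : CompactSpace X := hL.2.1
  haveI : X.IsSeparated := isSeparated_of_cover L hL.1 hL.2.2
  haveI : QuasiSeparatedSpace X := quasiSeparatedSpace_of_isAmple L hL
  have hcl : IsClosedMap π.base := π.isClosedMap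
  obtain ⟨V', hV', hyV', hV'U⟩ := exists_isAffineOpen_mem_and_subset (X := Y) (x := y) (U := U) hyU
  have hX' : IsAffineOpen (π ⁻¹ᵁ V') := hV'.preimage π
  have hfin : (π.base ⁻¹' {y}).Finite := Scheme.Hom.finite_preimage_singleton π y
  have hFX' : π.base ⁻¹' {y} ⊆ (π ⁻¹ᵁ V' : X.Opens) := by
    intro x hx
    change π.base x ∈ V'
    rw [show π.base x = y from hx]
    exact hyV'
  obtain ⟨n, s, hFs, hsX', hsaff⟩ := Groth.Agent.S2324.result X L hL _ hfin (π ⁻¹ᵁ V') hFX'
  have hsX'' : CohB1.genLocus _ s ≤ π ⁻¹ᵁ V' := hsX'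
  obtain ⟨f', hFf, hfs⟩ := exists_basicOpen_of_finite_affine hX' _ hfin (CohB1.genLocus _ s) hFs hsX''
  let g : Γ(X, CohB1.genLocus _ s) := resf hsX'' f'
  have hg : X.basicOpen g = X.basicOpen f' := by
    change X.basicOpen (X.presheaf.map (homOfLE hsX'').op f') = _
    rw [Scheme.basicOpen_res]
    exact inf_eq_right.mpr hfs
  have hM : PicF.IsInvertible (CohB1.tensorPow L (n + 1)) := isInvertible_tensorPow hL.1 (n + 1)
  obtain ⟨k, τ, hτ⟩ := exists_section_genLocus_eq_basicOpen (CohB1.tensorPow L (n + 1)) hM s g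
  obtain ⟨Φ⟩ := nonempty_tensorPow_tensorPow_iso L hL.1 (n + 1) (k + 1) ((n + 1) * (k + 1)) rfl
  have hσ : CohB1.genLocus _ (τ ≫ Φ.hom) = X.basicOpen f' := by
    rw [genLocus_comp_iso, hτ, hg]
  refine ⟨(n + 1) * (k + 1), Nat.mul_pos (Nat.succ_pos _) (Nat.succ_pos _), τ ≫ Φ.hom,
    Y.basicOpen (N₀.norm V' f'), hV'.basicOpen _, ?_, (Y.basicOpen_le _).trans hV'U, ?_⟩
  · rw [mem_basicOpen_norm_iff π hcl N₀ V' f' y hyV']
    intro x hx
    exact hFf hx
  · intro y'
    rw [hσ]
    constructor
    · intro hy'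
      have hy'V : y' ∈ V' := Y.basicOpen_le _ hy'
      exact (mem_basicOpen_norm_iff π hcl N₀ V' f' y' hy'V).1 hy'
    · intro h
      obtain ⟨x, hx⟩ := hsurj y'
      have hxf : x ∈ X.basicOpen f' := h x hx
      have hy'V : y' ∈ V' := by
        have : x ∈ π ⁻¹ᵁ V' := X.basicOpen_le _ hxf
        rw [← hx]
        exact this
      exact (mem_basicOpen_norm_iff π hcl N₀ V' f' y' hy'V).2 h

end goodsec

section ampleCover

variable {Y : Scheme.{u}}

/-- an invertible module with global sections whose non-vanishing loci form an affine cover is ample -/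
theorem isAmple_of_sections_cover [CompactSpace Y] (N : Y.Modules) (hN : PicF.IsInvertible N) {ι : Type u}
    (s : ι → (Coh.structureModule Y ⟶ N)) (V : ι → Y.Opens) (hVaff : ∀ i, IsAffineOpen (V i))
    (hV : iSup V = ⊤) (hs : ∀ k, CohB1.genLocus N (s k) = V k) : CohB1.IsAmple N := by
  refine ⟨hN, inferInstance, fun y => ?_⟩
  have hy : y ∈ (iSup V : Y.Opens) := by rw [hV]; trivial
  obtain ⟨t, hyt⟩ := Opens.mem_iSup.1 hy
  have e : CohB1.genLocus (CohB1.tensorMod (Coh.structureModule Y) N) (s t ≫ (unitTensorIso N).symm.hom) =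
      V t := by
    rw [genLocus_comp_iso, hs t]
  refine ⟨0, s t ≫ (unitTensorIso N).symm.hom, ?_, ?_⟩
  · change y ∈ CohB1.genLocus (CohB1.tensorMod (Coh.structureModule Y) N) (s t ≫ (unitTensorIso N).symm.hom)
    rw [e]
    exact hyt
  · change IsAffineOpen (CohB1.genLocus (CohB1.tensorMod (Coh.structureModule Y) N)
      (s t ≫ (unitTensorIso N).symm.hom))
    rw [e]
    exact hVaff t

end ampleCover

end Groth.Agent.Lib.T2H5.NormAmple
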