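import Mathlib
import Groth.Agent.Lib.T2H5NormAmpleC
import Groth.Agent.Lib.Helper23Restr2

/-!
# Descending ampleness along a finite locally free surjective morphism, part D (helper5)

* `res_pullback_frame`: transition functions of powers of pulled-back frames.
* `bcoef_rel`, `norm_rel`: comparison of the section frames with the pulled-back frames, and its norm.
* `isAmple_of_pullback_isFinLocFree`: if `π` is finite locally free and surjective and `π^* L₀` is ample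
  then `L₀` is ample.
-/

set_option autoImplicit false
set_option backward.isDefEq.respectTransparency.types false
set_option linter.style.haveILetI false
set_option linter.unusedSectionVars false
set_option linter.unusedVariables false
universe u

open CategoryTheory CategoryTheory.Limits AlgebraicGeometry Opposite TopologicalSpace

namespace Groth.Agent.Lib.T2H5.NormAmple

open Groth.Agent.Lib.Helper6 Groth.Agent.Lib.Helper23.SecTw Groth.Agent.Lib.Helper23.GenLocus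
open Groth.Agent.Lib.Helper23.AmpleIso Groth.Agent.Lib.Helper23.TensorUnit
open Groth.Agent.Lib.T2H4.CocycleMod Groth.Agent.Lib.T2H4.Cocycle Groth.Agent.Lib.T2H3.NormQAff2
open Groth.Agent.Lib.Helper23.PB Groth.Agent.Helper13PullbackUnit

section frames

variable {X Y : Scheme.{u}} (π : X ⟶ Y) (L₀ : Y.Modules)

/-- transition functions of the powers of pulled-back frames -/
theorem res_pullback_frame {W₁ W₂ : Y.Opens} (e₁ : Γ(L₀, W₁)) (e₂ : Γ(L₀, W₂)) (γ : Γ(Y, W₁ ⊓ W₂))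
    (h : res L₀ inf_le_left e₁ = γ • res L₀ inf_le_right e₂) (m : ℕ) :
    res (CohB1.tensorPow ((Scheme.Modules.pullback π).obj L₀) m)
        (π.preimage_mono inf_le_left : π ⁻¹ᵁ (W₁ ⊓ W₂) ≤ π ⁻¹ᵁ W₁)
        (pw ((Scheme.Modules.pullback π).obj L₀) (π ⁻¹ᵁ W₁) (unitSec π L₀ le_rfl e₁) m) =
      (π.app (W₁ ⊓ W₂) γ) ^ m •
        res (CohB1.tensorPow ((Scheme.Modules.pullback π).obj L₀) m)
          (π.preimage_mono inf_le_right : π ⁻¹ᵁ (W₁ ⊓ W₂) ≤ π ⁻¹ᵁ W₂)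
          (pw ((Scheme.Modules.pullback π).obj L₀) (π ⁻¹ᵁ W₂) (unitSec π L₀ le_rfl e₂) m) := by
  rw [res_pw, res_pw, ← pw_smul]
  congr 1
  rw [res_unitSec π L₀ le_rfl (le_refl (π ⁻¹ᵁ (W₁ ⊓ W₂))) inf_le_left (π.preimage_mono inf_le_left) e₁,
    res_unitSec π L₀ le_rfl (le_refl (π ⁻¹ᵁ (W₁ ⊓ W₂))) inf_le_right (π.preimage_mono inf_le_right) e₂,
    h, unitSec_smul, Scheme.Hom.appLE_eq_app]

end frames

section rel

variable {X Y : Scheme.{u}} (π : X ⟶ Y) (N₀ : PreNorm π) (M : X.Modules) {ι : Type u}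
  (σ : ι → (Coh.structureModule X ⟶ M)) (V : ι → Y.Opens)
  (hle : ∀ i, π ⁻¹ᵁ (V i) ≤ CohB1.genLocus M (σ i))
  (γ : ∀ i, Γ(M, π ⁻¹ᵁ (V i))) (hγ : ∀ i, IsGen M (π ⁻¹ᵁ (V i)) (γ i))
  (c : ∀ i j, Γ(X, π ⁻¹ᵁ (V i ⊓ V j)))
  (hc : ∀ i j, res M (π.preimage_mono inf_le_left : π ⁻¹ᵁ (V i ⊓ V j) ≤ π ⁻¹ᵁ (V i)) (γ i) =
    c i j • res M (π.preimage_mono inf_le_right : π ⁻¹ᵁ (V i ⊓ V j) ≤ π ⁻¹ᵁ (V j)) (γ j))

/-- the coefficient of the section frame with respect to the given frame -/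
noncomputable def bcoef (i : ι) : Γ(X, π ⁻¹ᵁ (V i)) := coef (hγ i) le_rfl (eGen π M σ V i)

theorem bcoef_spec (i : ι) : eGen π M σ V i = bcoef π M σ V γ hγ i • γ i := by
  have h := coef_spec (hγ i) le_rfl (eGen π M σ V i)
  rw [res_self] at h
  exact h.symm

include hle in
theorem isUnit_bcoef (i : ι) : IsUnit (bcoef π M σ V γ hγ i) :=
  isUnit_coef_of_isGen (hγ i) (isGen_eGen π M σ V hle i)

include hc in
theorem bcoef_rel (i j : ι) :
    resf (π.preimage_mono inf_le_left : π ⁻¹ᵁ (V i ⊓ V j) ≤ π ⁻¹ᵁ (V i)) (bcoef π M σ V γ hγ i) * c i j =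
      resf (π.preimage_mono inf_le_right : π ⁻¹ᵁ (V i ⊓ V j) ≤ π ⁻¹ᵁ (V j)) (cf π M σ V hle i j) *
        resf (π.preimage_mono inf_le_right : π ⁻¹ᵁ (V i ⊓ V j) ≤ π ⁻¹ᵁ (V j)) (bcoef π M σ V γ hγ j) := by
  have hi' : π ⁻¹ᵁ (V i ⊓ V j) ≤ π ⁻¹ᵁ (V i) := π.preimage_mono inf_le_left
  have hj' : π ⁻¹ᵁ (V i ⊓ V j) ≤ π ⁻¹ᵁ (V j) := π.preimage_mono inf_le_right
  apply (hγ j _ hj').1
  change (resf hi' (bcoef π M σ V γ hγ i) * c i j) • res M hj' (γ j) =
    (resf hj' (cf π M σ V hle i j) * resf hj' (bcoef π M σ V γ hγ j)) • res M hj' (γ j)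
  have e1 : res M hi' (eGen π M σ V i) = sv (σ i) (π ⁻¹ᵁ (V i ⊓ V j)) := res_sv (σ i) hi'
  have e2 : res M hj' (eGen π M σ V j) = sv (σ j) (π ⁻¹ᵁ (V i ⊓ V j)) := res_sv (σ j) hj'
  have e3 := cf_res_spec π M σ V hle i j (π ⁻¹ᵁ (V i ⊓ V j)) hj'
  rw [mul_smul, ← hc i j, ← res_smul, ← bcoef_spec, e1, mul_smul, ← res_smul, ← bcoef_spec, e2, e3]

include hc in
theorem norm_rel (i j : ι) :
    resf (inf_le_left : V i ⊓ V j ≤ V i) (N₀.norm (V i) (bcoef π M σ V γ hγ i)) *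
        N₀.norm (V i ⊓ V j) (c i j) =
      resf (inf_le_right : V i ⊓ V j ≤ V j) (nf π N₀ M σ V hle i j) *
        resf (inf_le_right : V i ⊓ V j ≤ V j) (N₀.norm (V j) (bcoef π M σ V γ hγ j)) := by
  have e1 := N₀.norm_res (homOfLE (inf_le_left : V i ⊓ V j ≤ V i)) (bcoef π M σ V γ hγ i)
  have e2 := N₀.norm_res (homOfLE (inf_le_right : V i ⊓ V j ≤ V j)) (cf π M σ V hle i j)
  have e3 := N₀.norm_res (homOfLE (inf_le_right : V i ⊓ V j ≤ V j)) (bcoef π M σ V γ hγ j)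
  unfold nf
  rw [show resf (inf_le_left : V i ⊓ V j ≤ V i) (N₀.norm (V i) (bcoef π M σ V γ hγ i)) = _ from e1,
    show resf (inf_le_right : V i ⊓ V j ≤ V j) (N₀.norm (V j) (cf π M σ V hle i j)) = _ from e2,
    show resf (inf_le_right : V i ⊓ V j ≤ V j) (N₀.norm (V j) (bcoef π M σ V γ hγ j)) = _ from e3,
    ← map_mul, ← map_mul]
  congr 1
  exact bcoef_rel π M σ V hle γ hγ c hc i j

end rel

section main

variable {X Y : Scheme.{u}} (π : X ⟶ Y)

/-- **Ampleness descends along finite locally free surjective morphisms.** -/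
theorem isAmple_of_pullback_isFinLocFree (hπ : Mor2.IsFinLocFree π) (hsurj : Function.Surjective π.base)
    (L₀ : Y.Modules) (hL₀ : PicF.IsInvertible L₀)
    (hL : CohB1.IsAmple ((Scheme.Modules.pullback π).obj L₀)) : CohB1.IsAmple L₀ := by
  classical
  haveI : IsFinite π := hπ.1
  haveI : Flat π := hπ.2.1
  haveI : LocallyOfFinitePresentation π := hπ.2.2
  haveI : L₀.IsQuasicoherent := isQuasicoherent_of_isInvertible L₀ hL₀
  haveI : CompactSpace X := hL.2.1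
  haveI : CompactSpace Y := by
    constructor
    rw [← Set.range_eq_univ.mpr hsurj]
    exact isCompact_range π.continuous
  obtain ⟨N₀, hdeg⟩ := exists_preNorm_deg π hπ
  -- local data: a frame of `L₀` on an open where the rank is constant
  have hloc : ∀ y : Y, ∃ (U : Y.Opens) (e : Γ(L₀, U)), y ∈ U ∧ IsGen L₀ U e ∧
      ∀ y' ∈ U, π.finrank y' = π.finrank y := by
    intro y
    obtain ⟨U₁, e₁, hyU₁, -, he₁⟩ := exists_affine_gen L₀ hL₀ y
    have hlc := (Scheme.Hom.isLocallyConstant_finrank π).isOpen_fiber (π.finrank y)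
    let U₂ : Y.Opens := ⟨_, hlc⟩
    have hyU₂ : y ∈ U₂ := rfl
    exact ⟨U₁ ⊓ U₂, res L₀ inf_le_left e₁, ⟨hyU₁, hyU₂⟩, he₁.mono inf_le_left, fun y' hy' => hy'.2⟩
  choose U₁ e₁ hyU₁ he₁ hrk using hloc
  choose a ha σ Vy hVaff hyV hVU hVmem using fun y : Y =>
    exists_good_section' π hsurj N₀ ((Scheme.Modules.pullback π).obj L₀) hL y (U₁ y) (hyU₁ y)
  obtain ⟨T, hT⟩ := isCompact_univ.elim_finite_subcover (fun y : Y => (Vy y : Set Y))
    (fun y => (Vy y).2) (fun y _ => Set.mem_iUnion.2 ⟨y, hyV y⟩)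
  let ι : Type u := {y : Y // y ∈ T}
  obtain ⟨m, hm, σ', hσ'⟩ := exists_common_power_family ((Scheme.Modules.pullback π).obj L₀) hL.1
    (fun t : ι => a t.1) (fun t => ha t.1) (fun t => σ t.1)
  let V : ι → Y.Opens := fun t => Vy t.1
  have hV : iSup V = ⊤ := by
    rw [eq_top_iff]
    intro y _
    have := hT (Set.mem_univ y)
    simp only [Set.mem_iUnion] at this
    obtain ⟨t, ht, hyt⟩ := this
    exact Opens.mem_iSup.2 ⟨⟨t, ht⟩, hyt⟩
  let M : X.Modules := CohB1.tensorPow ((Scheme.Modules.pullback π).obj L₀) m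
  have hVmem' : ∀ (t : ι) (y : Y), y ∈ V t ↔ ∀ x : X, π.base x = y → x ∈ CohB1.genLocus M (σ' t) := by
    intro t y
    rw [hσ' t]
    exact hVmem t.1 y
  have hle : ∀ i, π ⁻¹ᵁ (V i) ≤ CohB1.genLocus M (σ' i) := fun i x hx => (hVmem' i (π.base x)).1 hx x rfl
  -- degrees
  let d : ι → ℕ := fun t => π.finrank t.1
  have hd : ∀ (t : ι) (y : Y), y ∈ V t → π.finrank y = d t := fun t y hy => hrk t.1 y (hVU t.1 hy)
  have hdpos : ∀ t, 0 < d t := by
    intro t
    obtain ⟨x, hx⟩ := hsurj t.1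
    have := Scheme.Hom.one_le_finrank_map π x
    rw [show π x = t.1 from hx] at this
    exact this
  let D : ℕ := ∏ t, d t
  let q : ι → ℕ := fun t => D / d t
  have hq : ∀ t, d t * q t = D := fun t => Nat.mul_div_cancel' (Finset.dvd_prod_of_mem d (Finset.mem_univ t))
  have hDpos : 0 < D := Finset.prod_pos (fun t _ => hdpos t)
  have hqpos : ∀ t, 0 < q t := by
    intro t
    rcases Nat.eq_zero_or_pos (q t) with h | h
    · have := hq t
      rw [h, mul_zero] at this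
      omega
    · exact h
  have hqeq : ∀ (i j : ι) (W : Y.Opens) (hi : W ≤ V i) (hj : W ≤ V j) (r : Γ(Y, W)),
      r ^ q i = r ^ q j := by
    intro i j W hi hj r
    by_cases hW : ∃ y, y ∈ W
    · obtain ⟨y, hy⟩ := hW
      have h1 : d i = d j := (hd i y (hi hy)).symm.trans (hd j y (hj hy))
      have h2 : q i = q j := by
        change D / d i = D / d j
        rw [h1]
      rw [h2]
    · have hbot : W = ⊥ := by
        ext y
        constructor
        · intro hy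
          exact (hW ⟨y, hy⟩).elim
        · intro hy
          exact hy.elim
      subst hbot
      exact Subsingleton.elim _ _
  -- the cocycle
  let n2 : ∀ k i : ι, Γ(Y, V i) := fun k i => nf π N₀ M σ' V hle k i ^ q i
  have h1 : ∀ i, n2 i i = 1 := fun i => by
    change nf π N₀ M σ' V hle i i ^ q i = 1
    rw [nf_self, one_pow]
  have hmul : ∀ (k i j : ι) (W : Y.Opens) (hi : W ≤ V i) (hj : W ≤ V j),
      resf hj (n2 k j) = resf hi (n2 k i) * resf hj (n2 i j) := by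
    intro k i j W hi hj
    change resf hj (nf π N₀ M σ' V hle k j ^ q j) =
      resf hi (nf π N₀ M σ' V hle k i ^ q i) * resf hj (nf π N₀ M σ' V hle i j ^ q j)
    rw [resf_pow, resf_pow, resf_pow, nf_mul π N₀ M σ' V hle k i j W hi hj, mul_pow,
      hqeq i j W hi hj (resf hi (nf π N₀ M σ' V hle k i))]
  obtain ⟨N, hN, s, ε, hε, hεtr, hs⟩ := exists_invertible_of_cocycle' V n2 h1 hmul hV
  have hsV : ∀ k, CohB1.genLocus N (s k) = V k := by
    intro k
    ext y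
    have hy : y ∈ (iSup V : Y.Opens) := by rw [hV]; trivial
    obtain ⟨i, hyi⟩ := Opens.mem_iSup.1 hy
    have h1 : y ∈ CohB1.genLocus N (s k) ↔ y ∈ Y.basicOpen (nf π N₀ M σ' V hle k i) := by
      rw [← Scheme.basicOpen_pow (X := Y) (nf π N₀ M σ' V hle k i) (hqpos i)]
      change _ ↔ y ∈ Y.basicOpen (n2 k i)
      rw [← hs k i]
      exact ⟨fun h => ⟨h, hyi⟩, fun h => h.1⟩
    change y ∈ CohB1.genLocus N (s k) ↔ y ∈ V k
    rw [h1]
    unfold nf
    rw [mem_basicOpen_norm_iff π π.isClosedMap N₀ (V i) _ y hyi, hVmem' k y]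
    constructor
    · intro h x hx
      have := h x hx
      rw [basicOpen_cf] at this
      exact this.1
    · intro h x hx
      rw [basicOpen_cf]
      exact ⟨h x hx, by change π.base x ∈ V i; rw [hx]; exact hyi⟩
  have hNample : CohB1.IsAmple N :=
    isAmple_of_sections_cover N hN s V (fun t => hVaff t.1) hV hsV
  -- frames of `L₀` and its powers
  let e₀ : ∀ t : ι, Γ(L₀, V t) := fun t => res L₀ (hVU t.1) (e₁ t.1)
  have he₀ : ∀ t, IsGen L₀ (V t) (e₀ t) := fun t => (he₁ t.1).mono (hVU t.1)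
  choose u hu using fun i j : ι => exists_transition' (e₀ i) (he₀ j)
  let P : Y.Modules := CohB1.tensorPow L₀ (m * D)
  let a₀ : ∀ t, Γ(P, V t) := fun t => pw L₀ (V t) (e₀ t) (m * D)
  have ha₀ : ∀ t, IsGen P (V t) (a₀ t) := fun t => isGen_pw L₀ (V t) (e₀ t) (he₀ t) (m * D)
  have ha₀tr : ∀ i j, res P (inf_le_left : V i ⊓ V j ≤ V i) (a₀ i) =
      (u i j) ^ (m * D) • res P (inf_le_right : V i ⊓ V j ≤ V j) (a₀ j) := by
    intro i j
    change res (CohB1.tensorPow L₀ (m * D)) _ (pw L₀ (V i) (e₀ i) (m * D)) =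
      (u i j) ^ (m * D) • res (CohB1.tensorPow L₀ (m * D)) _ (pw L₀ (V j) (e₀ j) (m * D))
    rw [res_pw, res_pw, hu i j, pw_smul]
  -- pulled-back frames
  let γ : ∀ t, Γ(M, π ⁻¹ᵁ (V t)) := fun t =>
    pw ((Scheme.Modules.pullback π).obj L₀) (π ⁻¹ᵁ (V t)) (unitSec π L₀ le_rfl (e₀ t)) m
  have hγ : ∀ t, IsGen M (π ⁻¹ᵁ (V t)) (γ t) := fun t =>
    isGen_pw _ _ _ (isGen_unitSec π L₀ (hVaff t.1) (e₀ t) (he₀ t)) m
  let c : ∀ i j, Γ(X, π ⁻¹ᵁ (V i ⊓ V j)) := fun i j => (π.app (V i ⊓ V j) (u i j)) ^ m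
  have hc : ∀ i j, res M (π.preimage_mono inf_le_left : π ⁻¹ᵁ (V i ⊓ V j) ≤ π ⁻¹ᵁ (V i)) (γ i) =
      c i j • res M (π.preimage_mono inf_le_right : π ⁻¹ᵁ (V i ⊓ V j) ≤ π ⁻¹ᵁ (V j)) (γ j) :=
    fun i j => res_pullback_frame π L₀ (e₀ i) (e₀ j) (u i j) (hu i j) m
  let w : ∀ t, Γ(Y, V t) := fun t => N₀.norm (V t) (bcoef π M σ' V γ hγ t)
  have hwu : ∀ t, IsUnit (w t) := fun t => (isUnit_bcoef π M σ' V hle γ hγ t).map (N₀.norm (V t))
  have hrel : ∀ i j, resf (inf_le_left : V i ⊓ V j ≤ V i) (w i) * ((u i j) ^ d j) ^ m =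
      resf (inf_le_right : V i ⊓ V j ≤ V j) (nf π N₀ M σ' V hle i j) *
        resf (inf_le_right : V i ⊓ V j ≤ V j) (w j) := by
    intro i j
    have h := norm_rel π N₀ M σ' V hle γ hγ c hc i j
    have h2 : N₀.norm (V i ⊓ V j) (c i j) = ((u i j) ^ d j) ^ m := by
      change N₀.norm (V i ⊓ V j) ((π.app (V i ⊓ V j) (u i j)) ^ m) = _
      rw [map_pow, hdeg (V i ⊓ V j) (d j) (fun y hy => hd j y hy.2) (u i j)]
    rw [h2] at h
    exact h
  have hwqu : ∀ t, IsUnit (w t ^ q t) := fun t => (hwu t).pow (q t)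
  have hrel2 : ∀ i j, (u i j) ^ (m * D) * resf (inf_le_left : V i ⊓ V j ≤ V i) (w i ^ q i) =
      resf (inf_le_right : V i ⊓ V j ≤ V j) (w j ^ q j) *
        resf (inf_le_right : V i ⊓ V j ≤ V j) (n2 i j) := by
    intro i j
    have h := congrArg (fun r => r ^ q j) (hrel i j)
    simp only [mul_pow] at h
    change _ = resf _ (w j ^ q j) * resf _ (nf π N₀ M σ' V hle i j ^ q j)
    rw [resf_pow, resf_pow, resf_pow,
      hqeq i j (V i ⊓ V j) inf_le_left inf_le_right (resf (inf_le_left : V i ⊓ V j ≤ V i) (w i)),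
      mul_comm (resf _ (w j) ^ q j), ← h, mul_comm]
    congr 1
    rw [← pow_mul, ← pow_mul]
    congr 1
    calc m * D = m * (d j * q j) := by rw [hq j]
      _ = d j * (m * q j) := by ring
  obtain ⟨Φ⟩ := exists_iso_of_units V hV N P ε a₀ hε ha₀
    (fun i j => resf (inf_le_right : V i ⊓ V j ≤ V j) (n2 i j)) (fun i j => (u i j) ^ (m * D)) hεtr ha₀tr
    (fun t => (hwqu t).unit) (fun i j => by
      rw [IsUnit.unit_spec, IsUnit.unit_spec]
      exact hrel2 i j)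
  have hP : CohB1.IsAmple P := isAmple_of_iso Φ hNample
  exact (Groth.Agent.Lib.Helper23.SecTw.isAmple_tensorPow_iff L₀ hL₀ (m * D) (Nat.mul_pos hm hDpos)).2 hP

end main

end Groth.Agent.Lib.T2H5.NormAmple
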