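import Groth.Agent.Lib.T2H5CechNat
import Groth.Agent.Lib.T2H5PnVanish

/-!
# The top cohomology of `O(d)` on projective space, `d < 0` (T2H5)

* `exists_equiv_natural`: Čech cohomology of a covering with affine finite intersections computes the
  cohomology of a quasi-coherent module, compatibly with endomorphisms of the underlying abelian sheaf;
* `nonempty_linearEquiv_of_cech`: a linear identification of cohomology from one of Čech cohomology;
* `nonempty_linearEquiv_top`: `H^n(P^n_R, O(d))`, `d < 0`, is `R`-linearly isomorphic to the functions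
  with finite support on the everywhere negative multidegrees of total degree `d`.
-/

set_option autoImplicit false
universe u

namespace Groth.Agent.Lib.T2H5.PnTop

open CategoryTheory CategoryTheory.Limits AlgebraicGeometry TopologicalSpace Opposite MvPolynomial
open Groth.Agent.Lib.Helper23.AffVanish
open Groth.Agent.Lib.Helper16.CechLow Groth.Agent.Lib.Helper16.CechH1
open Groth.Agent.Lib.T2H5.CechPn Groth.Agent.Lib.T2H5.PnVanish Groth.Agent.Lib.T2H5.TwistSect
open Groth.Agent.Lib.Helper27GrTildeSect

/-- Čech cohomology of a covering with affine finite intersections computes cohomology, compatibly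
with endomorphisms of the underlying abelian sheaf. -/
theorem exists_equiv_natural (X : Scheme.{u}) {ι : Type u}
    (U : ι → X.Opens) (hcov : ⨆ i, U i = ⊤)
    (hU : ∀ s : Finset ι, s.Nonempty → IsAffineOpen (⨅ i ∈ s, U i))
    (M : X.Modules) [Coh.IsQCoh M] (p : ℕ) :
    ∃ Ψ : ↑(CohB1.cechH U M p) ≃+ Coh.HH X M p,
      ∀ (τ : Coh.toAb M ⟶ Coh.toAb M) (x : ↑(CohB1.cechH U M p)),
        Ψ (HomologicalComplex.homologyMap ((cechComplexFunctor U).map τ.hom) p x) =
          Sheaf.H.map τ p (Ψ x) := by
  have h : ∀ (p : ℕ) (a : Fin (p + 1) → ι) (q : ℕ),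
      Subsingleton (CohTop.HU (ab' M) (q + 1) (iInf fun k => U (a k))) := by
    intro p a q
    have haff : IsAffineOpen (iInf fun k => U (a k)) := by
      classical
      have := hU (Finset.image a Finset.univ) (Finset.image_nonempty.2 Finset.univ_nonempty)
      have e : (⨅ i ∈ Finset.image a Finset.univ, U i) = iInf fun k => U (a k) := by
        apply le_antisymm
        · refine le_iInf fun k => ?_
          exact iInf₂_le (a k) (Finset.mem_image.2 ⟨k, Finset.mem_univ k, rfl⟩)
        · refine le_iInf₂ fun i hi => ?_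
          obtain ⟨k, -, rfl⟩ := Finset.mem_image.1 hi
          exact iInf_le _ k
      rwa [e] at this
    exact subsingleton_HE_of_isAffineOpen haff M q
  exact Groth.Agent.Lib.T2H5.CechNat.exists_equiv_natural (ab' M) U hcov h p

theorem smul_HH_eq (A : Type u) [CommRing A] (X : Scheme.{u}) [X.Over (Spec (CommRingCat.of A))]
    (M : X.Modules) (p : ℕ) (r : A) (x : Coh.HH X M p) :
    r • x = Sheaf.H.map (Coh.smulAb M (Coh.toGlobal (X ↘ Spec (CommRingCat.of A)) r)) p x := rfl

/-- a linear identification of cohomology from an identification of Čech cohomology which is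
compatible with the multiplications by scalars. -/
theorem nonempty_linearEquiv_of_cech (A : Type u) [CommRing A] (X : Scheme.{u})
    [X.Over (Spec (CommRingCat.of A))] {ι : Type u}
    (U : ι → X.Opens) (hcov : ⨆ i, U i = ⊤)
    (hU : ∀ s : Finset ι, s.Nonempty → IsAffineOpen (⨅ i ∈ s, U i))
    (M : X.Modules) [Coh.IsQCoh M] (p : ℕ)
    {N : Type u} [AddCommGroup N] [Module A N]
    (Θ : ↑(CohB1.cechH U M p) ≃+ N)
    (hΘ : ∀ (r : A) (x : ↑(CohB1.cechH U M p)),
      Θ (HomologicalComplex.homologyMap ((cechComplexFunctor U).map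
        (Coh.smulAb M (Coh.toGlobal (X ↘ Spec (CommRingCat.of A)) r)).hom) p x) = r • Θ x) :
    Nonempty (Coh.HH X M p ≃ₗ[A] N) := by
  obtain ⟨Ψ, hΨ⟩ := exists_equiv_natural X U hcov hU M p
  refine ⟨(Ψ.symm.trans Θ).toLinearEquiv fun r x => ?_⟩
  obtain ⟨y, rfl⟩ := Ψ.surjective x
  rw [smul_HH_eq, ← hΨ, AddEquiv.trans_apply, AddEquiv.trans_apply, AddEquiv.symm_apply_apply,
    AddEquiv.symm_apply_apply, hΘ]

variable (n : ℕ) (R : Type u) [CommRing R]

/-- `O(d)` on projective space is the sheaf associated with the shifted polynomial ring. -/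
theorem twist_eq (d : ℤ) : Twist.twistProjSpace n R d =
    GrTilde.tilde (CohB1.polyGrading n R) (CohB1.polyGrading n R) d := rfl

/-- multiplication by a constant on the sections of `O(d)`. -/
theorem smulAb_app_eq (d : ℤ) (r : R) (V : (Proj (CohB1.polyGrading n R)).Opens)
    (s : (PP (n := n) (R := R) d).obj (op V)) :
    (Coh.smulAb (X := CohB1.ProjSpace n R)
      (GrTilde.tilde (CohB1.polyGrading n R) (CohB1.polyGrading n R) d)
      (Coh.toGlobal (CohB1.ProjSpace n R ↘ Spec (CommRingCat.of R)) r)).hom.app (op V) s =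
      constOn V r • s := rfl

/-- the top Čech cohomology of `O(d)`, `d < 0`, with the multiplications by scalars. -/
theorem exists_addEquiv_top_smul (d : ℤ) (hd : d < 0) :
    ∃ Θ : ↑(CohB1.cechH (X := CohB1.ProjSpace n R) (stdU n R)
          (GrTilde.tilde (CohB1.polyGrading n R) (CohB1.polyGrading n R) d) n) ≃+
        ↥(Finsupp.supported R R (negDeg (n := n) d (idxEquiv.{u} n))),
      ∀ (r : R) (x : ↑(CohB1.cechH (X := CohB1.ProjSpace n R) (stdU n R)
          (GrTilde.tilde (CohB1.polyGrading n R) (CohB1.polyGrading n R) d) n)),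
        Θ (HomologicalComplex.homologyMap ((cechComplexFunctor (stdU n R)).map
          (Coh.smulAb (X := CohB1.ProjSpace n R)
            (GrTilde.tilde (CohB1.polyGrading n R) (CohB1.polyGrading n R) d)
            (Coh.toGlobal (CohB1.ProjSpace n R ↘ Spec (CommRingCat.of R)) r)).hom) n x) =
          r • Θ x := by
  obtain ⟨Θ, hΘ⟩ := exists_addEquiv_top d (stdU n R) (idxEquiv n) (stdU_eq n R) hd
  refine ⟨Θ, fun r x => ?_⟩
  exact Groth.Agent.Lib.T2H5.CechCrit.addEquiv_homology_natural n
    (resHom' d (stdU n R) (idxEquiv n) (stdU_eq n R)) Θ hΘ _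
    (DistribSMul.toAddMonoidHom _ r)
    (fun c => resHom'_smul d (stdU n R) (idxEquiv n) (stdU_eq n R) _ r
      (fun s => smulAb_app_eq n R d r _ s) c) x

/-- the top cohomology of `O(d)`, `d < 0`, on projective space. -/
theorem nonempty_linearEquiv_top (d : ℤ) (hd : d < 0) :
    Nonempty (Coh.HH (CohB1.ProjSpace n R) (Twist.twistProjSpace n R d) n ≃ₗ[R]
      ↥(Finsupp.supported R R (negDeg (n := n) d (idxEquiv.{u} n)))) := by
  rw [twist_eq]
  obtain ⟨Θ, hΘ⟩ := exists_addEquiv_top_smul n R d hd
  have : Coh.IsQCoh (X := CohB1.ProjSpace n R)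
      (GrTilde.tilde (CohB1.polyGrading n R) (CohB1.polyGrading n R) d) :=
    isQuasicoherent_tilde (CohB1.polyGrading n R) (CohB1.polyGrading n R) d
  exact nonempty_linearEquiv_of_cech R (CohB1.ProjSpace n R) (stdU n R) (iSup_stdU n R)
    (isAffineOpen_iInf n R)
    (GrTilde.tilde (CohB1.polyGrading n R) (CohB1.polyGrading n R) d : (CohB1.ProjSpace n R).Modules)
    n (N := ↥(Finsupp.supported R R (negDeg (n := n) d (idxEquiv.{u} n)))) Θ hΘ

end Groth.Agent.Lib.T2H5.PnTop
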