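import Mathlib
import Groth.Agent.Lib.T2H5ArtinRees
import Groth.Agent.S10865
import Groth.Agent.Lib.T2H5Filt

/-!
# Coherence of direct images by dévissage (helper5)
-/

set_option autoImplicit false
set_option linter.style.haveILetI false
set_option linter.unusedSectionVars false
universe u
open CategoryTheory CategoryTheory.Limits AlgebraicGeometry Opposite TopologicalSpace

namespace Groth.Agent.Lib.T2H5.PushCoh

open Groth.Agent.Lib.T2H5.IdealMul Groth.Agent.Lib.T2H5.Devissage Groth.Agent.Lib.T2H5.GenIsoA
open Groth.Agent.Lib.T2H5.GenIsoB Groth.Agent.Lib.T2H5.GenIsoC Groth.Agent.Lib.T2H5.GenIsoD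
open Groth.Agent.Lib.T2H5.GenIsoE Groth.Agent.Lib.T2H5.GenIsoF Groth.Agent.Lib.T2H5.FiltCat
open Groth.Agent.Lib.Helper23.ModLocal Groth.Agent.Lib.Helper23.QCohLocal Groth.Agent.Lib.Helper23.FinType
open Groth.Agent.Lib.T2H5.CohSigma

variable {X Y : Scheme.{u}}

/-- **Coherence of direct images by dévissage.** -/
theorem isCoh_pushforward_of_witness [IsNoetherian X] [IsNoetherian Y] (f : X ⟶ Y)
    (hgen : ∀ (Z : Scheme.{u}) (i : Z ⟶ X) [IsClosedImmersion i] [IsIntegral Z],
      ∃ H : Z.Modules, Coh.IsCoh H ∧ Nontrivial (H.presheaf.stalk (genericPoint Z)) ∧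
        Coh.IsCoh ((Scheme.Modules.pushforward (i ≫ f)).obj H))
    (F : X.Modules) (hF : Coh.IsCoh F) : Coh.IsCoh ((Scheme.Modules.pushforward f).obj F) := by
  by_cases hne : Nonempty X
  · let K : ObjectProperty X.Modules := fun F => Coh.IsCoh ((Scheme.Modules.pushforward f).obj F)
    haveI : K.IsClosedUnderIsomorphisms :=
      ⟨fun e h => isCoh_of_iso ((Scheme.Modules.pushforward f).mapIso e) h⟩
    have hq : ∀ A : X.Modules, Coh.IsCoh A → ((Scheme.Modules.pushforward f).obj A).IsQuasicoherent := by
      intro A hA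
      haveI := hA.1
      exact isQuasicoherent_pushforward f A
    refine Groth.Agent.S10865.result X K ?_ ?_ ?_ F hF
    · intro S hS h1 h2 h3
      haveI := hS.mono_f
      haveI : Mono ((Scheme.Modules.pushforward f).map S.f) := inferInstance
      have hex : (S.map (Scheme.Modules.pushforward f)).Exact :=
        hS.exact.map_of_mono_of_preservesKernel (Scheme.Modules.pushforward f) inferInstance inferInstance
      constructor
      · intro k2 _
        exact isCoh_of_mono ((Scheme.Modules.pushforward f).map S.f) k2 (hq _ h1)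
      · intro k1 k3
        show Coh.IsCoh ((Scheme.Modules.pushforward f).obj S.X₂)
        haveI := hq _ h1
        haveI := hq _ h2
        haveI := hq _ h3
        set g' := (Scheme.Modules.pushforward f).map S.g with hg'
        have hkq : (kernel g').IsQuasicoherent := isQuasicoherent_kernel g'
        haveI := hkq
        have hcq : (cokernel (kernel.ι g')).IsQuasicoherent := isQuasicoherent_cokernel (kernel.ι g')
        have hcoim : Coh.IsCoh (cokernel (kernel.ι g')) :=
          isCoh_of_mono (Abelian.factorThruCoimage g') k3 hcq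
        haveI : Mono (S.map (Scheme.Modules.pushforward f)).f := ‹Mono ((Scheme.Modules.pushforward f).map S.f)›
        have eker : (Scheme.Modules.pushforward f).obj S.X₁ ≅ kernel g' :=
          IsLimit.conePointUniqueUpToIso hex.fIsKernel (limit.isLimit _)
        have hker : Coh.IsCoh (kernel g') := isCoh_of_iso eker k1
        exact isCoh_of_shortExact (kerSC g') (kerSC_shortExact g') hker hcoim
    · intro A d hd hA hKA
      have e := pushSigmaIso f A d
      have h1 : Coh.IsCoh (∐ fun _ : Fin d => (Scheme.Modules.pushforward f).obj A) := isCoh_of_iso e hKA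
      have hsplit : Sigma.ι (fun _ : Fin d => (Scheme.Modules.pushforward f).obj A) ⟨0, hd⟩ ≫
          Sigma.desc (fun _ => 𝟙 ((Scheme.Modules.pushforward f).obj A)) = 𝟙 _ := Sigma.ι_desc _ _
      haveI : Epi (Sigma.desc (fun _ : Fin d => 𝟙 ((Scheme.Modules.pushforward f).obj A))) :=
        epi_of_epi_fac hsplit
      exact isCoh_of_epi (Sigma.desc (fun _ : Fin d => 𝟙 ((Scheme.Modules.pushforward f).obj A))) h1 (hq A hA)
    · intro Z i _ _
      obtain ⟨H, hH, hHξ, hc⟩ := hgen Z i
      exact ⟨H, hH, hHξ, isCoh_of_iso ((Scheme.Modules.pushforwardComp i f).app H).symm hc⟩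
  · have hz : IsZero F := by
      refine isZero_of_support_eq_empty F ?_
      rw [Set.eq_empty_iff_forall_notMem]
      exact fun x _ => hne ⟨x⟩
    exact isCoh_of_isZero (Functor.map_isZero _ hz)

end Groth.Agent.Lib.T2H5.PushCoh
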