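import Mathlib
import Groth.Agent.S0306
import Groth.Agent.S0307
import Groth.Agent.Lib.T2H5HullLocal
import Groth.Agent.Lib.T2H5TildeSky
import Groth.Agent.Lib.T2H5NoethCoprodSch

/-!
# `I~` is an injective `O_{Spec A}`-module for `I` injective over a Noetherian ring `A` (helper5, team 2)

By Matlis' structure theorem `I` is a direct sum of injective hulls `E_i` of residue fields of primes; each `E_i~`
is an (injective) skyscraper module, `~` commutes with direct sums, and direct sums of injective modules are injective
on a locally Noetherian scheme.
-/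
set_option autoImplicit false
set_option linter.style.haveILetI false
set_option linter.unusedSectionVars false
universe u
open CategoryTheory Limits AlgebraicGeometry TopologicalSpace Opposite

namespace Groth.Agent.Lib.T2H5.TildeInj

open Groth.Agent.Lib.T2H5.TildeSky

variable (A : Type u) [CommRing A] [IsNoetherianRing A]

/-- `E~` is injective for `E` an injective hull of the residue field of a prime -/
theorem injective_tilde_hull (E : Type u) [AddCommGroup E] [Module A E] (p : Ideal A) [p.IsPrime]
    (g : p.ResidueField →ₗ[A] E) (hg : InjHull.IsInjectiveHull g) : Injective (T A E) := by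
  haveI : Module.Injective A E := hg.isInjective
  have hK1 : ∀ f : A, f ∈ p → ∀ c : p.ResidueField, f • c = 0 := by
    intro f hf c
    rw [Algebra.smul_def, (Ideal.algebraMap_residueField_eq_zero).2 hf, zero_mul]
  have hK2 : ∀ f : A, f ∉ p → Function.Bijective (fun c : p.ResidueField => f • c) := by
    intro f hf
    have hne : algebraMap A p.ResidueField f ≠ 0 := fun h => hf ((Ideal.algebraMap_residueField_eq_zero).1 h)
    have := mulLeft_bijective₀ _ hne
    convert this using 2 with c
    exact Algebra.smul_def f c
  exact injective_tilde_of_local (⟨p, inferInstance⟩ : PrimeSpectrum A)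
    (fun f hf => Groth.Agent.Lib.T2H5.HullLocal.smul_bijective hg.toIsEssentialInj f (hK2 f hf))
    (fun f hf e => Groth.Agent.Lib.T2H5.HullLocal.exists_pow_smul_eq_zero hg.toIsEssentialInj f (hK1 f hf) e)

/-- `I~` is injective for `I` an injective module over a Noetherian ring -/
theorem injective_tilde (I : Type u) [AddCommGroup I] [Module A I] [Module.Injective A I] :
    Injective (T A I) := by
  classical
  obtain ⟨ι, E, hint, hE⟩ := Groth.Agent.S0307.result A I inferInstance
  have hinj : ∀ i, Injective (T A (E i)) := by
    intro i
    obtain ⟨p, hp, g, hg⟩ := Groth.Agent.S0306.result A (E i) (hE i).1 (hE i).2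
    haveI := hp
    exact injective_tilde_hull A (E i) p g hg
  -- the decomposition of `I` in `ModuleCat A`
  let Z : ι → ModuleCat.{u} A := fun i => ModuleCat.of A (E i)
  let e1 : (DirectSum ι fun i => E i) ≃ₗ[A] I := LinearEquiv.ofBijective (DirectSum.coeLinearMap E) hint
  let e2 : (∐ Z) ≅ ModuleCat.of A I := ModuleCat.coprodIsoDirectSum Z ≪≫ e1.toModuleIso
  -- `~` commutes with coproducts
  let F := tilde.functor (CommRingCat.of A)
  haveI : PreservesColimitsOfSize.{u, u} F :=
    (tilde.adjunction (R := CommRingCat.of A)).leftAdjoint_preservesColimits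
  let e3 : F.obj (∐ Z) ≅ ∐ fun i => F.obj (Z i) := PreservesCoproduct.iso F Z
  haveI : Injective (∐ fun i => F.obj (Z i)) :=
    Groth.Agent.Lib.T2H5.NoethCoprodSch.injective_coproduct_modules (fun i => F.obj (Z i)) hinj
  exact Injective.of_iso (e3.symm ≪≫ F.mapIso e2) inferInstance

end Groth.Agent.Lib.T2H5.TildeInj
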