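import Mathlib
import Groth.Agent.S9498
import Groth.Agent.Lib.Helper23ModLocal
import Groth.Agent.Lib.Helper23QCohAbelian
import Groth.Agent.Lib.Helper26ModLim
import Groth.Agent.Lib.T2H5TildeInj

/-!
# Quasi-coherent modules on a Noetherian scheme embed in quasi-coherent injective modules (helper5, team 2)

* `exists_mono_injective_affine`: on `Spec A`, `A` Noetherian, every quasi-coherent module embeds in `I~` with `I`
  injective, which is an injective `O`-module;
* `exists_mono_injective_openImm`: transport along an open immersion `Spec A ⟶ X`;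
* `exists_mono_injective_qcoh`: on a Noetherian scheme every quasi-coherent module embeds in a quasi-coherent module
  which is injective in the category of all modules;
* `injective_of_injective_qcoh`: an injective object of `QCoh(X)` is injective in `Mod(X)`.
-/
set_option autoImplicit false
set_option linter.style.haveILetI false
set_option linter.unusedSectionVars false
universe u
open CategoryTheory Limits AlgebraicGeometry TopologicalSpace Opposite

namespace Groth.Agent.Lib.T2H5.QCohInjEmb

open Groth.Agent.Lib.Helper23.QCohLocal

attribute [local instance] Groth.Agent.Lib.Helper23.QCohLocal.restrictFunctor_isRightAdjoint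

theorem exists_mono_injective_affine (A : Type u) [CommRing A] [IsNoetherianRing A]
    (G : (Spec (CommRingCat.of A)).Modules) [G.IsQuasicoherent] :
    ∃ (Q : (Spec (CommRingCat.of A)).Modules) (n : G ⟶ Q), Mono n ∧ Q.IsQuasicoherent ∧ Injective Q := by
  let N : ModuleCat.{u} A := (ΓF (CommRingCat.of A)).obj G
  let I' : ModuleCat.{u} A := Injective.under N
  have hI' : Injective (ModuleCat.of A I') := (inferInstance : Injective (Injective.under N))
  haveI : Module.Injective A I' := Module.injective_module_of_injective_object A I'
  have hQ : Injective (Groth.Agent.Lib.T2H5.TildeSky.T A I') :=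
    Groth.Agent.Lib.T2H5.TildeInj.injective_tilde A I'
  haveI : IsIso ((tildeΓAdj (CommRingCat.of A)).counit.app G) := isIso_fromTildeΓ G
  haveI : PreservesFiniteLimits (tilde.functor (CommRingCat.of A)) :=
    (Groth.Agent.S9498.aux (CommRingCat.of A)).1
  haveI : Mono ((tilde.functor (CommRingCat.of A)).map (Injective.ι N)) := inferInstance
  refine ⟨(tilde.functor (CommRingCat.of A)).obj I',
    inv ((tildeΓAdj (CommRingCat.of A)).counit.app G) ≫ (tilde.functor (CommRingCat.of A)).map (Injective.ι N),
    mono_comp _ _, inferInstanceAs ((tilde (R := CommRingCat.of A) I').IsQuasicoherent), hQ⟩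

theorem exists_mono_injective_openImm {X : Scheme.{u}} (A : Type u) [CommRing A] [IsNoetherianRing A]
    (f : Spec (CommRingCat.of A) ⟶ X) [IsOpenImmersion f] [QuasiCompact f] [QuasiSeparated f]
    (J : X.Modules) [J.IsQuasicoherent] :
    ∃ (Q : X.Modules) (m : J ⟶ Q), Q.IsQuasicoherent ∧ Injective Q ∧
      Mono ((Scheme.Modules.restrictFunctor f).map m) := by
  obtain ⟨Q₀, n, hn, hQ₀, hinj⟩ := exists_mono_injective_affine A ((Scheme.Modules.restrictFunctor f).obj J)
  let adj := Scheme.Modules.restrictAdjunction f
  haveI := hinj
  haveI := hQ₀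
  haveI := hn
  refine ⟨(Scheme.Modules.pushforward f).obj Q₀, adj.homEquiv J Q₀ n,
    isQuasicoherent_pushforward f Q₀, Injective.injective_of_adjoint adj Q₀, ?_⟩
  have h : (Scheme.Modules.restrictFunctor f).map (adj.homEquiv J Q₀ n) ≫ adj.counit.app Q₀ = n :=
    (Adjunction.homEquiv_counit adj J Q₀ (adj.homEquiv J Q₀ n)).symm.trans
      ((adj.homEquiv J Q₀).symm_apply_apply n)
  have hm : Mono ((Scheme.Modules.restrictFunctor f).map (adj.homEquiv J Q₀ n) ≫ adj.counit.app Q₀) := by
    rw [h]; exact hn
  exact mono_of_mono _ (adj.counit.app Q₀)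

theorem exists_mono_injective_qcoh (X : Scheme.{u}) [IsNoetherian X] (J : X.Modules) [J.IsQuasicoherent] :
    ∃ (F : X.Modules) (m : J ⟶ F), Mono m ∧ F.IsQuasicoherent ∧ Injective F := by
  classical
  obtain ⟨s, hs⟩ := Groth.Agent.Lib.Helper26.ModLim.exists_finite_affine_cover X
  -- the charts
  let A : s → Type u := fun k => Γ(X, (k.1 : X.Opens))
  haveI : ∀ k : s, IsNoetherianRing (A k) := fun k => IsLocallyNoetherian.component_noetherian k.1
  let f : ∀ k : s, Spec (CommRingCat.of (A k)) ⟶ X := fun k => k.1.2.fromSpec
  haveI : ∀ k : s, IsOpenImmersion (f k) := fun k => inferInstanceAs (IsOpenImmersion k.1.2.fromSpec)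
  have hex := fun k : s => exists_mono_injective_openImm (A k) (f k) J
  choose Q m hQ hinj hm using hex
  haveI := hinj
  haveI : HasFiniteBiproducts X.Modules := Abelian.hasFiniteBiproducts
  haveI : HasBiproductsOfShape s X.Modules := hasBiproductsOfShape_finite X.Modules
  haveI : HasBiproduct Q := HasBiproductsOfShape.has_biproduct _
  refine ⟨⨁ Q, biproduct.lift m, ?_, ?_, inferInstance⟩
  · refine Groth.Agent.Lib.Helper23.ModLocal.mono_of_mono_restrict (biproduct.lift m)
      (fun k : s => Spec (CommRingCat.of (A k))) f ?_ ?_
    · intro x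
      obtain ⟨k, hk⟩ := hs.exists_mem x
      have hr : x ∈ (f k).opensRange := by
        rw [IsAffineOpen.opensRange_fromSpec]; exact hk
      obtain ⟨y, hy⟩ := hr
      exact ⟨k, y, hy⟩
    · intro k
      haveI := hm k
      have h : (Scheme.Modules.restrictFunctor (f k)).map (biproduct.lift m) ≫
          (Scheme.Modules.restrictFunctor (f k)).map (biproduct.π Q k) =
          (Scheme.Modules.restrictFunctor (f k)).map (m k) := by
        rw [← Functor.map_comp, biproduct.lift_π]
      have hmono : Mono ((Scheme.Modules.restrictFunctor (f k)).map (biproduct.lift m) ≫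
          (Scheme.Modules.restrictFunctor (f k)).map (biproduct.π Q k)) := by
        rw [h]; infer_instance
      exact mono_of_mono _ ((Scheme.Modules.restrictFunctor (f k)).map (biproduct.π Q k))
  · haveI := hQ
    have hc : (colimit (Discrete.functor Q)).IsQuasicoherent :=
      isQuasicoherent_colimit (Discrete.functor Q) (fun k => hQ k.as)
    exact (SheafOfModules.isQuasicoherent X.ringCatSheaf).prop_of_iso (biproduct.isoCoproduct Q).symm hc

/-- On a Noetherian scheme, an injective object of `QCoh(X)` is injective in the category of all modules. -/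
theorem injective_of_injective_qcoh (X : Scheme.{u}) [IsNoetherian X]
    (J : ObjectProperty.FullSubcategory (fun M : X.Modules => SheafOfModules.IsQuasicoherent M))
    (hJ : Injective J) : Injective J.obj := by
  haveI : J.obj.IsQuasicoherent := J.property
  obtain ⟨F, m, hm, hF, hinj⟩ := exists_mono_injective_qcoh X J.obj
  let F' : ObjectProperty.FullSubcategory (fun M : X.Modules => SheafOfModules.IsQuasicoherent M) := ⟨F, hF⟩
  let m' : J ⟶ F' := ObjectProperty.homMk m
  haveI : Mono m' := by
    apply Functor.mono_of_mono_map (ObjectProperty.ι _)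
    exact hm
  let r : F' ⟶ J := Injective.factorThru (𝟙 J) m'
  have hr : m' ≫ r = 𝟙 J := Injective.comp_factorThru _ _
  have hr' : m ≫ r.hom = 𝟙 J.obj := congrArg (fun φ => φ.hom) hr
  constructor
  intro A B g a _
  refine ⟨Injective.factorThru (g ≫ m) a ≫ r.hom, ?_⟩
  rw [← Category.assoc, Injective.comp_factorThru, Category.assoc, hr', Category.comp_id]

end Groth.Agent.Lib.T2H5.QCohInjEmb
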