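import Mathlib
import Groth.Prelude.Def_Coh
import Groth.Agent.S0484
import Groth.Agent.Lib.Helper23QCohAbelian

/-!
# The largest quasi-coherent submodule contained in a submodule (helper5, team 2)

For `G ↪ F` with `F` quasi-coherent, the supremum `G'` of all quasi-coherent subobjects of `F` contained in `G` is
quasi-coherent, and every morphism from a quasi-coherent module to `G` factors uniquely through `G'`.
-/
set_option autoImplicit false
set_option linter.style.haveILetI false
set_option linter.unusedSectionVars false
universe u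
open CategoryTheory Limits AlgebraicGeometry TopologicalSpace Opposite

namespace Groth.Agent.Lib.T2H5.QCohSub

open Groth.Agent.Lib.Helper23.QCohLocal

variable {X : Scheme.{u}}

instance : IsGrothendieckAbelian.{u} X.Modules :=
  Groth.Agent.S0484.result (Opens.grothendieckTopology X) X.ringCatSheaf

/-- quasi-coherence is invariant under isomorphism -/
theorem isQCoh_of_iso {M N : X.Modules} (e : M ≅ N) (hM : M.IsQuasicoherent) : N.IsQuasicoherent :=
  (SheafOfModules.isQuasicoherent X.ringCatSheaf).prop_of_iso e hM

/-- the image of a morphism between quasi-coherent modules is quasi-coherent -/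
theorem isQCoh_image {M N : X.Modules} (hM : M.IsQuasicoherent) (hN : N.IsQuasicoherent) (φ : M ⟶ N) :
    (Limits.image φ).IsQuasicoherent := by
  haveI := hM
  haveI := hN
  haveI : (cokernel φ).IsQuasicoherent := isQuasicoherent_cokernel φ
  have h : (kernel (cokernel.π φ)).IsQuasicoherent := isQuasicoherent_kernel (cokernel.π φ)
  exact isQCoh_of_iso (Abelian.imageIsoImage φ) h

/-- a small coproduct of quasi-coherent modules is quasi-coherent -/
theorem isQCoh_sigma {ι : Type u} (f : ι → X.Modules) (hf : ∀ i, (f i).IsQuasicoherent) :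
    (∐ f).IsQuasicoherent :=
  isQuasicoherent_colimit (Discrete.functor f) (fun j => hf j.as)

/-- the supremum of a set of quasi-coherent subobjects of a quasi-coherent module is quasi-coherent -/
theorem isQCoh_sSup {F : X.Modules} (hF : F.IsQuasicoherent) (S : Set (Subobject F))
    (hS : ∀ A ∈ S, (A : X.Modules).IsQuasicoherent) :
    ((sSup S : Subobject F) : X.Modules).IsQuasicoherent := by
  have h1 : (∐ fun j : equivShrink (Subobject F) '' S =>
      (((equivShrink (Subobject F)).symm j : Subobject F) : X.Modules)).IsQuasicoherent := by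
    apply isQCoh_sigma
    rintro ⟨j, A, hA, rfl⟩
    have : (equivShrink (Subobject F)).symm ((equivShrink (Subobject F)) A) = A :=
      Equiv.symm_apply_apply _ _
    rw [this]
    exact hS A hA
  have h2 := isQCoh_image h1 hF (Subobject.smallCoproductDesc S)
  exact isQCoh_of_iso (Subobject.underlyingIso (image.ι (Subobject.smallCoproductDesc S))).symm h2

theorem exists_largest (F G : X.Modules) (hF : Coh.IsQCoh F) (j : G ⟶ F) [Mono j] :
    ∃ (G' : X.Modules) (k : G' ⟶ G), Coh.IsQCoh G' ∧ Mono k ∧
      ∀ H : X.Modules, Coh.IsQCoh H → Function.Bijective (fun φ : H ⟶ G' => φ ≫ k) := by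
  let S : Set (Subobject F) := {A | (A : X.Modules).IsQuasicoherent ∧ A ≤ Subobject.mk j}
  let T : Subobject F := sSup S
  have hT : T ≤ Subobject.mk j := sSup_le (fun A hA => hA.2)
  let k : (T : X.Modules) ⟶ G := Subobject.ofLE _ _ hT ≫ (Subobject.underlyingIso j).hom
  have hk : k ≫ j = T.arrow := by
    simp only [k, Category.assoc, Subobject.underlyingIso_hom_comp_eq_mk, Subobject.ofLE_arrow]
  haveI : Mono k := by
    haveI : Mono (k ≫ j) := by rw [hk]; infer_instance
    exact mono_of_mono k j
  refine ⟨(T : X.Modules), k, isQCoh_sSup hF S (fun A hA => hA.1), inferInstance, fun H hH => ⟨?_, ?_⟩⟩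
  · intro φ ψ h
    exact (cancel_mono k).1 h
  · intro φ
    -- the image of `φ ≫ j` is a quasi-coherent subobject of `F` contained in `G`
    let I : Subobject F := Subobject.mk (image.ι (φ ≫ j))
    have hI : I ∈ S := by
      refine ⟨isQCoh_of_iso (Subobject.underlyingIso (image.ι (φ ≫ j))).symm
        (isQCoh_image hH hF (φ ≫ j)), ?_⟩
      refine Subobject.mk_le_mk_of_comm (image.lift ⟨G, j, φ, rfl⟩) ?_
      exact image.lift_fac _
    have hIT : I ≤ T := le_sSup hI
    let ψ : H ⟶ (T : X.Modules) := factorThruImage (φ ≫ j) ≫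
      (Subobject.underlyingIso (image.ι (φ ≫ j))).inv ≫ Subobject.ofLE I T hIT
    refine ⟨ψ, ?_⟩
    change ψ ≫ k = φ
    rw [← cancel_mono j, Category.assoc, hk]
    simp only [ψ, I, Category.assoc, Subobject.ofLE_arrow, Subobject.underlyingIso_arrow,
      image.fac]

end Groth.Agent.Lib.T2H5.QCohSub
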