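import Mathlib
import Groth.Agent.Lib.T2H5T2Main
import Groth.Agent.Lib.T2H5HilbPoly
import Groth.Agent.Lib.T2H5GenIsoB

/-!
# T2H5RankIneq: dimension estimates for the cohomology of the terms of an exact complex of coherent modules on a
scheme proper over a field (helper5)
-/

set_option autoImplicit false
set_option linter.style.haveILetI false
set_option linter.unusedSectionVars false
universe u
open CategoryTheory CategoryTheory.Limits Opposite TopologicalSpace AlgebraicGeometry

namespace Groth.Agent.Lib.T2H5.RankIneq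

open Groth.Agent.Lib.T2H5.HHLes Groth.Agent.Lib.T2H5.T2Les Groth.Agent.Lib.Helper23.QCohLocal

section LinAlg

variable {k : Type u} [Field k] {U V W : Type u} [AddCommGroup U] [Module k U] [AddCommGroup V]
  [Module k V] [AddCommGroup W] [Module k W]

theorem finrank_le_of_exact [Module.Finite k U] [Module.Finite k V] [Module.Finite k W]
    (φ : U →ₗ[k] V) (ψ : V →ₗ[k] W) (h : LinearMap.ker ψ = LinearMap.range φ) :
    (Module.finrank k V : ℤ) ≤ Module.finrank k U + Module.finrank k W := by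
  have h1 := LinearMap.finrank_range_add_finrank_ker ψ
  have h2 : Module.finrank k (LinearMap.ker ψ) ≤ Module.finrank k U := by
    rw [h]; exact LinearMap.finrank_range_le φ
  have h3 : Module.finrank k (LinearMap.range ψ) ≤ Module.finrank k W := Submodule.finrank_le _
  omega

end LinAlg

section SES

variable (k : Type u) [Field k] {X : Scheme.{u}} [X.Over (Spec (CommRingCat.of k))]

/-- the dimension of cohomology, as an integer -/
noncomputable def hh (F : X.Modules) (i : ℕ) : ℤ := (Module.finrank k (Coh.HH X F i) : ℤ)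

variable (S : ShortComplex X.Modules) (hS : S.ShortExact)
  (h1 : ∀ i, Module.Finite k (Coh.HH X S.X₁ i)) (h2 : ∀ i, Module.Finite k (Coh.HH X S.X₂ i))
  (h3 : ∀ i, Module.Finite k (Coh.HH X S.X₃ i))

include hS h1 h2 h3

theorem hh_X₂_le (i : ℕ) : hh k S.X₂ i ≤ hh k S.X₁ i + hh k S.X₃ i := by
  haveI := h1 i; haveI := h2 i; haveI := h3 i
  exact finrank_le_of_exact (Canon.HHlin k S.f i) (Canon.HHlin k S.g i) (exact₂ S hS i)

theorem hh_X₃_le (i : ℕ) : hh k S.X₃ i ≤ hh k S.X₂ i + hh k S.X₁ (i + 1) := by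
  haveI := h1 (i + 1); haveI := h2 i; haveI := h3 i
  exact finrank_le_of_exact (Canon.HHlin k S.g i) (δLin (A := k) S hS i) (exact₃ S hS i)

theorem hh_X₁_succ_le (i : ℕ) : hh k S.X₁ (i + 1) ≤ hh k S.X₃ i + hh k S.X₂ (i + 1) := by
  haveI := h1 (i + 1); haveI := h2 (i + 1); haveI := h3 i
  exact finrank_le_of_exact (δLin (A := k) S hS i) (Canon.HHlin k S.f (i + 1)) (exact₁ S hS i)

theorem hh_X₁_zero_le : hh k S.X₁ 0 ≤ hh k S.X₂ 0 := by
  haveI := h1 0; haveI := h2 0
  unfold hh
  exact_mod_cast LinearMap.finrank_le_finrank_of_injective (injective_f_zero (A := k) S hS)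

end SES

section Basic

variable (k : Type u) [Field k] (X : Scheme.{u}) [X.Over (Spec (CommRingCat.of k))]

theorem hh_nonneg (F : X.Modules) (i : ℕ) : 0 ≤ hh k F i := Int.natCast_nonneg _

theorem hh_eq_zero_of_isZero {F : X.Modules} (hF : IsZero F) (i : ℕ) : hh k F i = 0 := by
  haveI := Groth.Agent.Lib.T2H5.Chevalley.subsingleton_HH_of_isZero hF i
  unfold hh
  rw [Module.finrank_zero_of_subsingleton]
  rfl

end Basic

section Sums

theorem sum_Icc_one (n : ℕ) (F : ℕ → ℤ) :
    (Finset.Icc 1 n).sum F = (Finset.range n).sum fun t => F (t + 1) := by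
  induction n with
  | zero => simp
  | succ n ih =>
    rw [Finset.sum_Icc_succ_top (by omega), ih, Finset.sum_range_succ]

end Sums

section Main

open Groth.Agent.Lib.T2H5.HilbPoly Groth.Agent.Lib.T2H5.GenIsoB

variable (k : Type u) [Field k] (X : Scheme.{u}) [X.Over (Spec (CommRingCat.of k))]
  [IsProper (X ↘ Spec (CommRingCat.of k))]
  (C : ℕ → X.Modules) (hC : ∀ j, Coh.IsCoh (C j)) (d : ∀ j, C j ⟶ C (j + 1))
  (hd : ∀ j, d j ≫ d (j + 1) = 0)
  (hex : ∀ j, (ShortComplex.mk (d j) (d (j + 1)) (hd j)).Exact)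

omit [IsProper (X ↘ Spec (CommRingCat.of k))] in
theorem isLocallyNoetherian_of_isProper [IsProper (X ↘ Spec (CommRingCat.of k))] :
    IsLocallyNoetherian X :=
  LocallyOfFiniteType.isLocallyNoetherian (X ↘ Spec (CommRingCat.of k))

include hC hd hex

theorem finite_C (j i : ℕ) : Module.Finite k (Coh.HH X (C j) i) :=
  Groth.Agent.Lib.T2H5.T2Main.finite_HH_of_isProper k X (C j) (hC j) i

theorem finite_Z (j i : ℕ) : Module.Finite k (Coh.HH X (kernel (d j)) i) := by
  haveI := isLocallyNoetherian_of_isProper k X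
  exact Groth.Agent.Lib.T2H5.T2Main.finite_HH_of_isProper k X _
    (isCoh_kernel (φ := d j) (hC j) (hC (j + 1))) i

/-- the cohomology of the cycles is bounded by the cohomology of the later terms -/
theorem hh_Z_le (m : ℕ) : ∀ j : ℕ, hh k (kernel (d j)) m ≤
    (Finset.range (m + 1)).sum fun t => hh k (C (j + t)) (m - t) := by
  induction m with
  | zero =>
    intro j
    obtain ⟨g, w, hS⟩ := shortExact_kernel C d hd hex j
    have := hh_X₁_zero_le k _ hS (finite_Z k X C hC d hd hex j) (finite_C k X C hC d hd hex j)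
      (finite_Z k X C hC d hd hex (j + 1))
    simpa using this
  | succ m ih =>
    intro j
    obtain ⟨g, w, hS⟩ := shortExact_kernel C d hd hex j
    have h1 := hh_X₁_succ_le k _ hS (finite_Z k X C hC d hd hex j) (finite_C k X C hC d hd hex j)
      (finite_Z k X C hC d hd hex (j + 1)) m
    have h2 := ih (j + 1)
    rw [Finset.sum_range_succ']
    have h3 : ((Finset.range (m + 1)).sum fun t => hh k (C (j + (t + 1))) (m + 1 - (t + 1))) =
        (Finset.range (m + 1)).sum fun t => hh k (C (j + 1 + t)) (m - t) := by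
      refine Finset.sum_congr rfl (fun t _ => ?_)
      rw [show j + (t + 1) = j + 1 + t by omega, show m + 1 - (t + 1) = m - t by omega]
    rw [h3]
    change hh k (kernel (d j)) (m + 1) ≤ _ at h1
    change hh k (kernel (d j)) (m + 1) ≤ _
    have h4 : hh k (C (j + 0)) (m + 1 - 0) = hh k (C j) (m + 1) := rfl
    rw [h4]
    change _ ≤ hh k (kernel (d (j + 1))) m + hh k (C j) (m + 1) at h1
    linarith

/-- the main estimate, at an arbitrary place of the complex -/
theorem abs_sub_le_aux (j : ℕ) (hz0 : IsZero (kernel (d j))) (i : ℕ) :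
    |hh k (C j) i - hh k (C (j + 1)) i| ≤
      ((Finset.range (i + 1)).sum fun t => hh k (C (j + 1 + 1 + t)) (i - t)) +
        (Finset.range i).sum fun t => hh k (C (j + 1 + 1 + t)) (i - 1 - t) := by
  have fC := finite_C k X C hC d hd hex
  have fZ := finite_Z k X C hC d hd hex
  obtain ⟨g0, w0, hS0⟩ := shortExact_kernel C d hd hex j
  obtain ⟨g1, w1, hS1⟩ := shortExact_kernel C d hd hex (j + 1)
  have e1 : hh k (C j) i ≤ hh k (kernel (d (j + 1))) i := by
    have := hh_X₂_le k (ShortComplex.mk (kernel.ι (d j)) g0 w0) hS0 (fZ j) (fC j) (fZ (j + 1)) i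
    change hh k (C j) i ≤ hh k (kernel (d j)) i + hh k (kernel (d (j + 1))) i at this
    rw [hh_eq_zero_of_isZero k X hz0] at this
    linarith
  have e2 : hh k (kernel (d (j + 1))) i ≤ hh k (C j) i := by
    have := hh_X₃_le k (ShortComplex.mk (kernel.ι (d j)) g0 w0) hS0 (fZ j) (fC j) (fZ (j + 1)) i
    change hh k (kernel (d (j + 1))) i ≤ hh k (C j) i + hh k (kernel (d j)) (i + 1) at this
    rw [hh_eq_zero_of_isZero k X hz0] at this
    linarith
  have e3 := hh_X₂_le k (ShortComplex.mk (kernel.ι (d (j + 1))) g1 w1) hS1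
    (fZ (j + 1)) (fC (j + 1)) (fZ (j + 1 + 1)) i
  change hh k (C (j + 1)) i ≤ hh k (kernel (d (j + 1))) i + hh k (kernel (d (j + 1 + 1))) i at e3
  have b1 := hh_Z_le k X C hC d hd hex i (j + 1 + 1)
  have n2 : 0 ≤ (Finset.range i).sum fun t => hh k (C (j + 1 + 1 + t)) (i - 1 - t) :=
    Finset.sum_nonneg (fun t _ => hh_nonneg k X _ _)
  rw [abs_sub_le_iff]
  cases i with
  | zero =>
    have e4 := hh_X₁_zero_le k (ShortComplex.mk (kernel.ι (d (j + 1))) g1 w1) hS1
      (fZ (j + 1)) (fC (j + 1)) (fZ (j + 1 + 1))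
    change hh k (kernel (d (j + 1))) 0 ≤ hh k (C (j + 1)) 0 at e4
    have n1 := hh_nonneg k X (kernel (d (j + 1 + 1))) 0
    constructor <;> linarith
  | succ i =>
    have e4 := hh_X₁_succ_le k (ShortComplex.mk (kernel.ι (d (j + 1))) g1 w1) hS1
      (fZ (j + 1)) (fC (j + 1)) (fZ (j + 1 + 1)) i
    change hh k (kernel (d (j + 1))) (i + 1) ≤
        hh k (kernel (d (j + 1 + 1))) i + hh k (C (j + 1)) (i + 1) at e4
    have b2 := hh_Z_le k X C hC d hd hex i (j + 1 + 1)
    have s2 : ((Finset.range (i + 1)).sum fun t => hh k (C (j + 1 + 1 + t)) (i + 1 - 1 - t)) =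
        (Finset.range (i + 1)).sum fun t => hh k (C (j + 1 + 1 + t)) (i - t) :=
      Finset.sum_congr rfl (fun t _ => by rw [show i + 1 - 1 - t = i - t by omega])
    rw [s2]
    have n1 := hh_nonneg k X (kernel (d (j + 1 + 1))) (i + 1)
    have n3 := hh_nonneg k X (kernel (d (j + 1 + 1))) i
    constructor <;> linarith

/-- the main estimate -/
theorem abs_sub_le [Mono (d 0)] (i : ℕ) :
    |hh k (C 0) i - hh k (C 1) i| ≤
      ((Finset.Icc 1 (i + 1)).sum fun j => hh k (C (j + 1)) (i + 1 - j)) +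
        (Finset.Icc 1 i).sum fun j => hh k (C (j + 1)) (i - j) := by
  have h := abs_sub_le_aux k X C hC d hd hex 0 (isZero_kernel_of_mono (d 0)) i
  have s1 : ((Finset.Icc 1 (i + 1)).sum fun j => hh k (C (j + 1)) (i + 1 - j)) =
      (Finset.range (i + 1)).sum fun t => hh k (C (0 + 1 + 1 + t)) (i - t) := by
    rw [sum_Icc_one]
    refine Finset.sum_congr rfl (fun t _ => ?_)
    rw [show t + 1 + 1 = 0 + 1 + 1 + t by omega, show i + 1 - (t + 1) = i - t by omega]
  have s2 : ((Finset.Icc 1 i).sum fun j => hh k (C (j + 1)) (i - j)) =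
      (Finset.range i).sum fun t => hh k (C (0 + 1 + 1 + t)) (i - 1 - t) := by
    rw [sum_Icc_one]
    refine Finset.sum_congr rfl (fun t _ => ?_)
    rw [show t + 1 + 1 = 0 + 1 + 1 + t by omega, show i - (t + 1) = i - 1 - t by omega]
  rw [s1, s2]
  exact h

end Main

end Groth.Agent.Lib.T2H5.RankIneq
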