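import Mathlib
import Groth.Agent.Lib.T2H5PnPullVan
import Groth.Agent.Lib.T2H5RelReg
import Groth.Agent.Lib.T2H5GlobGenQ
import Groth.Agent.Lib.T2H5RpushCoh
import Groth.Agent.Lib.T2H5GenIsoD
import Groth.Agent.Lib.Helper23QCohAbelian
import Groth.Agent.Lib.T2H5RpushClosed
set_option backward.isDefEq.respectTransparency.types false

/-!
# T2H5RelRegKer: for a coherent module `F` on `P^n_Y` regular relative to `Y` (Noetherian), the kernel `Z` of the counit
`p^* p_* F ⟶ F` has `Z(1)` regular (helper5)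

Namespace `Groth.Agent.Lib.T2H5.RelRegKer`.
-/

set_option autoImplicit false
set_option linter.style.haveILetI false
set_option linter.unusedSectionVars false
universe u
open CategoryTheory CategoryTheory.Limits AlgebraicGeometry TopologicalSpace Opposite

namespace Groth.Agent.Lib.T2H5.RelRegKer

section Surj

variable {X S : Scheme.{u}} (f : X ⟶ S) (F : X.Modules)

/-- the counit `f^* f_* F ⟶ F` is surjective on sections over the preimage of any open of the base -/
theorem surjective_counit_app_preimage (V : S.Opens) :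
    Function.Surjective
      (((Scheme.Modules.pullbackPushforwardAdjunction f).counit.app F).app (f ⁻¹ᵁ V)) := by
  intro s
  have h := (Scheme.Modules.pullbackPushforwardAdjunction f).right_triangle_components F
  refine ⟨((Scheme.Modules.pullbackPushforwardAdjunction f).unit.app
    ((Scheme.Modules.pushforward f).obj F)).app V s, ?_⟩
  exact congrArg (fun φ : (Scheme.Modules.pushforward f).obj F ⟶ (Scheme.Modules.pushforward f).obj F =>
    φ.app V s) h

theorem surjective_counit_app_of_eq (W : X.Opens) (V : S.Opens) (hW : W = f ⁻¹ᵁ V) :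
    Function.Surjective
      (((Scheme.Modules.pullbackPushforwardAdjunction f).counit.app F).app W) := by
  subst hW
  exact surjective_counit_app_preimage f F V

/-- the counit restricted to an open subscheme which is the preimage of an open of the base is surjective on global
sections -/
theorem surjective_pullback_counit_app_top {P : Scheme.{u}} (e : P ⟶ X) [IsOpenImmersion e] (V : S.Opens)
    (hV : e.opensRange = f ⁻¹ᵁ V) :
    Function.Surjective (((Scheme.Modules.pullback e).map
      ((Scheme.Modules.pullbackPushforwardAdjunction f).counit.app F)).app ⊤) := by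
  intro s
  let ε := (Scheme.Modules.pullbackPushforwardAdjunction f).counit.app F
  let α := Scheme.Modules.restrictFunctorIsoPullback e
  have hnat := α.hom.naturality ε
  have hsurj : Function.Surjective (((Scheme.Modules.restrictFunctor e).map ε).app ⊤) :=
    surjective_counit_app_of_eq f F (e ''ᵁ ⊤) V (by rw [Scheme.Hom.image_top_eq_opensRange, hV])
  obtain ⟨t', ht'⟩ := hsurj ((α.inv.app F).app ⊤ s)
  refine ⟨(α.hom.app _).app ⊤ t', ?_⟩
  have h1 := congrArg (fun φ => φ.app ⊤ t') hnat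
  have h2 : (α.hom.app F).app ⊤ ((α.inv.app F).app ⊤ s) = s :=
    congrArg (fun φ : (Scheme.Modules.pullback e).obj F ⟶ (Scheme.Modules.pullback e).obj F => φ.app ⊤ s)
      (α.inv_hom_id_app F)
  refine h1.symm.trans ?_
  change (α.hom.app F).app ⊤ (((Scheme.Modules.restrictFunctor e).map ε).app ⊤ t') = s
  rw [ht', h2]

end Surj

section Main

open Groth.Agent.Lib.T2H5.RelReg Groth.Agent.Lib.T2H5.Twist Groth.Agent.Lib.T2H6
  Groth.Agent.Lib.T2H6.HProjChart Groth.Agent.Lib.T2H5.KosPn Groth.Agent.Lib.T2H5.PnStruct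

attribute [local instance] algSect

variable (n : ℕ) (Y : Scheme.{u}) [IsNoetherian Y]

/-- **the kernel of the counit of a regular coherent module, twisted by `O(1)`, is regular** -/
theorem isRegSheaf_twF_kernel_counit (F : (CohB1.ProjSpaceOver n Y).Modules) (hF : Coh.IsCoh F)
    (hreg : KRR.IsRegSheaf n Y F) :
    KRR.IsRegSheaf n Y (KRR.twF n Y 1
      (kernel ((Scheme.Modules.pullbackPushforwardAdjunction (KRR.pr n Y)).counit.app F))) := by
  haveI : F.IsQuasicoherent := hF.1
  haveI : IsProper (KRR.pr n Y) := Groth.Agent.S9705.isProper_toBase n Y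
  set ε := (Scheme.Modules.pullbackPushforwardAdjunction (KRR.pr n Y)).counit.app F with hεdef
  haveI hε : Epi ε := Groth.Agent.Lib.T2H5.GlobGenQ.epi_counit_of_isRegSheaf n Y F hreg
  haveI := Groth.Agent.Lib.T2H5.RpushClosed.hasInjectiveResolutions_modules (KRR.PY n Y)
  have hG : Coh.IsCoh ((Scheme.Modules.pushforward (KRR.pr n Y)).obj F) :=
    Groth.Agent.Lib.T2H5.RpushCoh.isCoh_pushforward (KRR.pr n Y) F hF
  haveI : ((Scheme.Modules.pushforward (KRR.pr n Y)).obj F).IsQuasicoherent := hG.1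
  haveI h1 : ((Scheme.Modules.pushforward (KRR.pr n Y) ⋙ Scheme.Modules.pullback (KRR.pr n Y)).obj
      F).IsQuasicoherent :=
    (inferInstance : ((Scheme.Modules.pullback (KRR.pr n Y)).obj
      ((Scheme.Modules.pushforward (KRR.pr n Y)).obj F)).IsQuasicoherent)
  haveI h2 : ((𝟭 (KRR.PY n Y).Modules).obj F).IsQuasicoherent := (inferInstance : F.IsQuasicoherent)
  haveI hZ : (kernel ε).IsQuasicoherent := Groth.Agent.Lib.Helper23.QCohLocal.isQuasicoherent_kernel ε
  let S : ShortComplex (CohB1.ProjSpaceOver n Y).Modules :=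
    ShortComplex.mk (kernel.ι ε) ε (kernel.condition ε)
  have hS : S.ShortExact :=
    { exact := ShortComplex.exact_of_f_is_kernel _ (kernelIsKernel ε)
      mono_f := inferInstance
      epi_g := hε }
  intro i hi
  obtain ⟨q, rfl⟩ : ∃ q, i = q + 1 := ⟨i - 1, by omega⟩
  refine isZero_of_subsingleton_HH_chart n Y _ q (fun V hV => ?_)
  haveI : IsNoetherianRing Γ(Y, V) := IsLocallyNoetherian.component_noetherian ⟨V, hV⟩
  haveI := Groth.Agent.Lib.T2H5.FlatPullback.preservesFiniteLimits_pullback (embU n hV)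
  have hS' : (S.map (Scheme.Modules.pullback (embU n hV))).ShortExact := hS.map_of_exact _
  -- the module on the chart
  obtain ⟨a1⟩ := nonempty_pullback_embU_twF n Y hV (-((q + 1 : ℕ) : ℤ)) (KRR.twF n Y 1 (kernel ε))
  obtain ⟨a2⟩ := nonempty_pullback_embU_twF n Y hV 1 (kernel ε)
  let a1' : (Scheme.Modules.pullback (embU n hV)).obj
      (KRR.twF n Y (-((q + 1 : ℕ) : ℤ)) (KRR.twF n Y 1 (kernel ε))) ≅
      (tw n Γ(Y, V) (-((q + 1 : ℕ) : ℤ))).obj
        ((Scheme.Modules.pullback (embU n hV)).obj (KRR.twF n Y 1 (kernel ε))) := a1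
  let a2' : (Scheme.Modules.pullback (embU n hV)).obj (KRR.twF n Y 1 (kernel ε)) ≅
      (tw n Γ(Y, V) 1).obj ((Scheme.Modules.pullback (embU n hV)).obj (kernel ε)) := a2
  let isoZ : (Scheme.Modules.pullback (embU n hV)).obj
      (KRR.twF n Y (-((q + 1 : ℕ) : ℤ)) (KRR.twF n Y 1 (kernel ε))) ≅
      (tw n Γ(Y, V) (-(q : ℤ))).obj ((Scheme.Modules.pullback (embU n hV)).obj (kernel ε)) :=
    a1' ≪≫ (tw n Γ(Y, V) (-((q + 1 : ℕ) : ℤ))).mapIso a2' ≪≫
      (twAdd n Γ(Y, V) 1 (-((q + 1 : ℕ) : ℤ)) (-(q : ℤ)) (by push_cast; omega)).app _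
  refine subsingleton_HH_of_iso isoZ.symm (q + 1) ?_
  -- the middle term
  let N : (Spec (CommRingCat.of Γ(Y, V))).Modules :=
    (Scheme.Modules.pullback hV.fromSpec).obj ((Scheme.Modules.pushforward (KRR.pr n Y)).obj F)
  have hN : Coh.IsCoh N := Groth.Agent.Lib.T2H5.GenIsoD.isCoh_pullback hV.fromSpec _ hG
  let isoMid : (Scheme.Modules.pullback (embU n hV)).obj
      ((Scheme.Modules.pullback (KRR.pr n Y)).obj ((Scheme.Modules.pushforward (KRR.pr n Y)).obj F)) ≅
      (Scheme.Modules.pullback (CohB1.ProjSpace.toSpec n Γ(Y, V))).obj N :=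
    (Scheme.Modules.pullbackComp (embU n hV) (KRR.pr n Y)).app _ ≪≫
      (Scheme.Modules.pullbackCongr (embU_toBase n hV)).app _ ≪≫
      ((Scheme.Modules.pullbackComp (CohB1.ProjSpace.toSpec n Γ(Y, V)) hV.fromSpec).app _).symm
  by_cases hq : q = 0
  · subst hq
    refine subsingleton_HH_of_iso ((twZero n Γ(Y, V)).app _).symm 1 ?_
    refine Groth.Agent.Lib.T2H5.RegRes.subsingleton_H1_of_surjective _ hS'
      (surjective_pullback_counit_app_top (KRR.pr n Y) F (embU n hV) V (opensRange_embU n hV)) ?_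
    have h0 := Groth.Agent.Lib.T2H5.PnPullVan.subsingleton_HH_tw_pullback n Γ(Y, V) 0 (by omega) 1 le_rfl N hN
    exact subsingleton_HH_of_iso (((twZero n Γ(Y, V)).app _) ≪≫ isoMid.symm) 1 h0
  · by_cases hqn : q ≤ n
    · have hS'' := shortExact_map_tw n Γ(Y, V) (-(q : ℤ)) _ hS'
      obtain ⟨q', rfl⟩ : ∃ q', q = q' + 1 := ⟨q - 1, by omega⟩
      refine Groth.Agent.Lib.T2H5.HHSub.subsingleton_X₁ _ hS'' (q' + 1) ?_ ?_
      · have hz := hreg (q' + 1) (by omega)
        haveI := isQuasicoherent_twF n Y (-((q' + 1 : ℕ) : ℤ)) F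
        have h := subsingleton_HH_chart_of_isZero n Y (KRR.twF n Y (-((q' + 1 : ℕ) : ℤ)) F) q' hz hV
        obtain ⟨a3⟩ := nonempty_pullback_embU_twF n Y hV (-((q' + 1 : ℕ) : ℤ)) F
        exact subsingleton_HH_of_iso a3 (q' + 1) h
      · have h0 := Groth.Agent.Lib.T2H5.PnPullVan.subsingleton_HH_tw_pullback n Γ(Y, V)
          (-((q' + 1 : ℕ) : ℤ)) (by push_cast; omega) (q' + 1 + 1) (by omega) N hN
        exact subsingleton_HH_of_iso ((tw n Γ(Y, V) (-((q' + 1 : ℕ) : ℤ))).mapIso isoMid.symm) _ h0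
    · have hq1 := Groth.Agent.Lib.T2H5.ClosedTransfer.isQCoh_twist n Γ(Y, V) (-(q : ℤ))
      haveI hpz : ((Scheme.Modules.pullback (embU n hV)).obj (kernel ε)).IsQuasicoherent :=
        Groth.Agent.Lib.Helper20.PullbackAff.isQuasicoherent_pullback (embU n hV) (kernel ε)
      haveI : ((tw n Γ(Y, V) (-(q : ℤ))).obj
          ((Scheme.Modules.pullback (embU n hV)).obj (kernel ε))).IsQuasicoherent :=
        @Groth.Agent.Lib.Helper23.TensorQCoh.isQuasicoherent_tensorMod (CohB1.ProjSpace n Γ(Y, V))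
          ((Scheme.Modules.pullback (embU n hV)).obj (kernel ε))
          (Twist.twistProjSpace n Γ(Y, V) (-(q : ℤ))) hpz hq1
      exact Groth.Agent.S0022.result n Γ(Y, V) _ (q + 1) (by omega)

end Main

end Groth.Agent.Lib.T2H5.RelRegKer
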