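import Mathlib
import Groth.Agent.Lib.T2H5ResProp
import Groth.Agent.Lib.T2H5ResPropAff
import Groth.Agent.Lib.Helper23Restr2
import Groth.Agent.Lib.Helper23RestrTensor
import Groth.Agent.Lib.Helper20ParaF4
set_option backward.isDefEq.respectTransparency.types false

/-!
# T2H5ResPropRel: the resolution property passes up along morphisms with a relatively ample invertible module
(helper5)

Namespace `Groth.Agent.Lib.T2H5.ResPropRel`.
-/

set_option autoImplicit false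
set_option linter.style.haveILetI false
set_option linter.unusedSectionVars false
universe u
open CategoryTheory CategoryTheory.Limits AlgebraicGeometry TopologicalSpace Opposite

namespace Groth.Agent.Lib.T2H5.ResPropRel

open Groth.Agent.Lib.T2H5.Twist Groth.Agent.Lib.T2H9.TensorInv Groth.Agent.Lib.Helper23.SecTw
  Groth.Agent.Lib.Helper23.LocGen Groth.Agent.Lib.Helper6 Groth.Agent.Lib.Helper20.ParaFLib
  Groth.Agent.Lib.T2H5.ResPropAff

variable {X : Scheme.{u}}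

/-- if `F ⊗ P` is a quotient of a finite locally free module with `P` invertible, so is `F` -/
theorem exists_epi_of_twist' (F P : X.Modules) (hP : PicF.IsInvertible P) (E₀ : X.Modules)
    (hE₀ : FlatMod.IsFinLocFree E₀) (p : E₀ ⟶ CohB1.tensorMod F P) (hp : Epi p) :
    ∃ (E : X.Modules) (π : E ⟶ F), FlatMod.IsFinLocFree E ∧ Epi π := by
  let Gm : X.Modules := inv P
  let E : X.Modules := CohB1.tensorMod E₀ Gm
  have hE : FlatMod.IsFinLocFree E :=
    Groth.Agent.Lib.Helper1.FLF.isFinLocFree_tensor _ _ hE₀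
      (Groth.Agent.Helper18PBUnit.isFinLocFree_of_isInvertible (isInvertible_inv P hP))
  let q : E ⟶ CohB1.tensorMod (CohB1.tensorMod F P) Gm := (tr Gm).map p
  haveI : PreservesFiniteColimits (tr Gm) := preservesFiniteColimits_tr Gm
  haveI := hp
  haveI hq : Epi q := inferInstanceAs (Epi ((tr Gm).map p))
  let φ : CohB1.tensorMod (CohB1.tensorMod F P) Gm ≅ F :=
    Groth.Agent.Lib.Helper23.LocGen.tensorAssoc F P Gm ≪≫
      Groth.Agent.Lib.Helper23.AmpleIso.tensorModIso (Iso.refl F) (tensorInvIso P hP) ≪≫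
      Groth.Agent.Lib.Helper23.TensorUnit.tensorUnitIso F
  exact ⟨E, q ≫ φ.hom, hE, epi_comp _ _⟩

theorem app_res {M G : X.Modules} (ψ : M ⟶ G) {U V : X.Opens} (h : V ≤ U) (m : Γ(M, U)) :
    ψ.app V (res M h m) = res G h (ψ.app U m) :=
  PresheafOfModules.naturality_apply ψ.val (homOfLE h).op m

/-- a morphism `ψ : M ⟶ G` restricts to an epimorphism over the open `W` as soon as its image over `W` contains global
sections of `G|_W` which generate -/
theorem epi_restrict_of_sections {M G : X.Modules} (ψ : M ⟶ G) (W : X.Opens) (b : ℕ)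
    (t : Fin b → (Coh.structureModule (↑W : Scheme.{u}) ⟶ G.restrict W.ι)) (ht : Epi (Sigma.desc t))
    (h : ∀ l, ∃ u : Γ(M, W.ι ''ᵁ ⊤), ψ.app (W.ι ''ᵁ ⊤) u = sv (t l) ⊤) :
    Epi ((Scheme.Modules.restrictFunctor W.ι).map ψ) := by
  choose u hu using h
  let u' : Fin b → (Coh.structureModule (↑W : Scheme.{u}) ⟶ M.restrict W.ι) := fun l =>
    secHom (M.restrict W.ι) (u l)
  have hfac : ∀ l, u' l ≫ (Scheme.Modules.restrictFunctor W.ι).map ψ = t l := by
    intro l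
    apply Groth.Agent.Lib.Helper23.SecTw.hom_ext_of_sv
    rw [Groth.Agent.Lib.Helper23.SecTw.sv_comp, sv_top_secHom]
    exact hu l
  have hdesc : Sigma.desc t = Sigma.desc u' ≫ (Scheme.Modules.restrictFunctor W.ι).map ψ := by
    apply Sigma.hom_ext
    intro l
    rw [Sigma.ι_desc, Sigma.ι_desc_assoc, hfac]
  haveI := ht
  haveI : Epi (Sigma.desc u' ≫ (Scheme.Modules.restrictFunctor W.ι).map ψ) := by
    rw [← hdesc]; infer_instance
  exact epi_of_epi (Sigma.desc u') _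

/-- uniform local generation of large twists by an ample module -/
theorem exists_forall_locGen (L : X.Modules) (hL : CohB1.IsAmple L) (F : X.Modules) [F.IsQuasicoherent]
    [SheafOfModules.IsFiniteType (R := X.ringCatSheaf) F] :
    ∃ n₀ : ℕ, ∀ n, n₀ ≤ n → ∀ y : X, ∃ V : X.Opens, y ∈ V ∧
      LocGen (CohB1.tensorMod F (CohB1.tensorPow L n)) V := by
  haveI := hL.2.1
  choose V N hxV hN using exists_locGen_nhd L hL F
  obtain ⟨T, hT⟩ : ∃ T : Finset X, (Set.univ : Set X) ⊆ ⋃ x ∈ T, (V x : Set X) :=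
    isCompact_univ.elim_finite_subcover (fun x => (V x : Set X)) (fun x => (V x).2)
      (fun x _ => Set.mem_iUnion.2 ⟨x, hxV x⟩)
  refine ⟨T.sup N, fun n hn y => ?_⟩
  obtain ⟨x, hx⟩ := Set.mem_iUnion.1 (hT (Set.mem_univ y))
  obtain ⟨hxT, hyx⟩ := Set.mem_iUnion.1 hx
  exact ⟨V x, hyx, hN x n ((Finset.le_sup hxT).trans hn)⟩

/-- **S7241** -/
theorem hasResolutionProperty_of_isRelAmple {X Y : Scheme.{u}} (f : X ⟶ Y) [CompactSpace Y]
    [QuasiSeparatedSpace Y] (hY : PerfAux.HasResolutionProperty Y) (L : X.Modules)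
    (hL : RelAmple.IsRelAmple f L) : PerfAux.HasResolutionProperty X := by
  classical
  intro F hFq hFt
  haveI : F.IsQuasicoherent := hFq
  haveI : SheafOfModules.IsFiniteType (R := X.ringCatSheaf) F := hFt
  have hFc : Coh.IsCoh F := ⟨hFq, hFt⟩
  by_cases hX : IsEmpty X
  · exact ⟨F, 𝟙 F, fun x => (hX.false x).elim, inferInstance⟩
  rw [not_isEmpty_iff] at hX
  obtain ⟨x₀⟩ := hX
  haveI hqc : QuasiCompact f := hL.1
  have hLinv : PicF.IsInvertible L := isInvertible_of_isRelAmple f L hL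
  haveI hqs : QuasiSeparated f := by
    refine (HasAffineProperty.iff_of_iSup_eq_top (P := @QuasiSeparated) (fun V : Y.affineOpens => V)
      (iSup_affineOpens_eq_top Y)).2 (fun V => ?_)
    exact quasiSeparatedSpace_of_isAmple _ (hL.2 V)
  -- a finite affine cover of `Y`
  obtain ⟨t, ht⟩ : ∃ t : Finset Y.affineOpens, (Set.univ : Set Y) ⊆ ⋃ V ∈ t, ((V : Y.Opens) : Set Y) :=
    isCompact_univ.elim_finite_subcover (fun V : Y.affineOpens => ((V : Y.Opens) : Set Y)) (fun V => V.1.2)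
      (fun y _ => by
        have hy : y ∈ (⨆ V : Y.affineOpens, (V : Y.Opens)) := by
          rw [iSup_affineOpens_eq_top]; trivial
        obtain ⟨V, hV⟩ := Opens.mem_iSup.1 hy
        exact Set.mem_iUnion.2 ⟨V, hV⟩)
  -- a uniform exponent
  have hcohW : ∀ V : Y.affineOpens, Coh.IsCoh (F.restrict (f ⁻¹ᵁ V.1).ι) := fun V =>
    Groth.Agent.Lib.T2H5.AmpleSerre.isCoh_restrict F hFc _
  have hex : ∀ V : Y.affineOpens, ∃ n₀ : ℕ, ∀ n, n₀ ≤ n → ∀ y : (↑(f ⁻¹ᵁ V.1) : Scheme.{u}),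
      ∃ A : (↑(f ⁻¹ᵁ V.1) : Scheme.{u}).Opens, y ∈ A ∧
        LocGen (CohB1.tensorMod (F.restrict (f ⁻¹ᵁ V.1).ι) (CohB1.tensorPow (L.restrict (f ⁻¹ᵁ V.1).ι) n)) A := by
    intro V
    haveI := (hcohW V).1
    haveI : SheafOfModules.IsFiniteType (R := (↑(f ⁻¹ᵁ V.1) : Scheme.{u}).ringCatSheaf)
      (F.restrict (f ⁻¹ᵁ V.1).ι) := (hcohW V).2
    exact exists_forall_locGen _ (hL.2 V) _
  choose n₀ hn₀ using hex
  let n : ℕ := t.sup n₀
  let G : X.Modules := CohB1.tensorMod F (CohB1.tensorPow L n)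
  have hGc : Coh.IsCoh G := Groth.Agent.Lib.T2H5.AmpleSerre.isCoh_tensor_tensorPow F L hFc hLinv n
  haveI : G.IsQuasicoherent := hGc.1
  haveI : SheafOfModules.IsFiniteType (R := X.ringCatSheaf) G := hGc.2
  -- finitely many generating sections over each `f⁻¹ V`
  have hgen : ∀ V : Y.affineOpens, V ∈ t → ∃ (b : ℕ)
      (τ : Fin b → (Coh.structureModule (↑(f ⁻¹ᵁ V.1) : Scheme.{u}) ⟶ G.restrict (f ⁻¹ᵁ V.1).ι)),
      Epi (Sigma.desc τ) := by
    intro V hV
    have hGW : Coh.IsCoh (G.restrict (f ⁻¹ᵁ V.1).ι) := Groth.Agent.Lib.T2H5.AmpleSerre.isCoh_restrict G hGc _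
    haveI := hGW.1
    haveI : SheafOfModules.IsFiniteType (R := (↑(f ⁻¹ᵁ V.1) : Scheme.{u}).ringCatSheaf)
      (G.restrict (f ⁻¹ᵁ V.1).ι) := hGW.2
    haveI : CompactSpace (↑(f ⁻¹ᵁ V.1) : Scheme.{u}) := (hL.2 V).2.1
    obtain ⟨Φ⟩ := Groth.Agent.Lib.Helper23.RestrTensor.nonempty_restrict_twist_iso F L hLinv (f ⁻¹ᵁ V.1) n
    refine Groth.Agent.Lib.T2H5.FinGlobGen.exists_fin_epi (G.restrict (f ⁻¹ᵁ V.1).ι) (fun y => ?_)
    obtain ⟨A, hyA, hA⟩ := hn₀ V n (Finset.le_sup hV) y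
    exact ⟨A, hyA, hA.of_iso Φ.symm⟩
  -- choose data for all `V` (trivial data outside `t`)
  have hgen' : ∀ V : Y.affineOpens, ∃ (b : ℕ)
      (τ : Fin b → (Coh.structureModule (↑(f ⁻¹ᵁ V.1) : Scheme.{u}) ⟶ G.restrict (f ⁻¹ᵁ V.1).ι)),
      V ∈ t → Epi (Sigma.desc τ) := by
    intro V
    by_cases hV : V ∈ t
    · obtain ⟨b, τ, hτ⟩ := hgen V hV
      exact ⟨b, τ, fun _ => hτ⟩
    · exact ⟨0, fun l => l.elim0, fun h => (hV h).elim⟩
  choose b τ hτ using hgen'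
  let K : Y.Modules := (Scheme.Modules.pushforward f).obj G
  haveI hK : K.IsQuasicoherent := Groth.Agent.Lib.Helper23.QCohLocal.isQuasicoherent_pushforward f G
  have hle : ∀ V : Y.affineOpens, f ⁻¹ᵁ V.1 ≤ (f ⁻¹ᵁ V.1).ι ''ᵁ ⊤ := fun V => by
    rw [Scheme.Opens.ι_image_top]
  have hle' : ∀ V : Y.affineOpens, (f ⁻¹ᵁ V.1).ι ''ᵁ ⊤ ≤ f ⁻¹ᵁ V.1 := fun V => by
    rw [Scheme.Opens.ι_image_top]
  -- the sections
  let s : ∀ V : Y.affineOpens, Fin (b V) → Γ(K, V.1) := fun V l => res G (hle V) (sv (τ V l) ⊤)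
  let l : List (Σ U : Y.affineOpens, Γ(K, U.1)) :=
    t.toList.flatMap (fun V => (List.finRange (b V)).map (fun j => (⟨V, s V j⟩ : Σ U : Y.affineOpens, Γ(K, U.1))))
  obtain ⟨V₀, hV₀⟩ : ∃ V₀ : Y.affineOpens, f.base x₀ ∈ V₀.1 := by
    obtain ⟨V, hV⟩ := Set.mem_iUnion.1 (ht (Set.mem_univ (f.base x₀)))
    obtain ⟨-, hV'⟩ := Set.mem_iUnion.1 hV
    exact ⟨V, hV'⟩
  obtain ⟨K', i, hi, hq, hf, hmem⟩ :=
    Groth.Agent.Lib.Helper23.FTsub.exists_ft_sub_list K (⟨V₀, 0⟩ : Σ U : Y.affineOpens, Γ(K, U.1)) l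
  haveI := hi
  haveI : K'.IsQuasicoherent := hq
  obtain ⟨E, π, hE, hπ⟩ := hY K' hq hf
  haveI := hπ
  haveI hEq : E.IsQuasicoherent := isQuasicoherent_of_isFinLocFree E hE
  let φ : E ⟶ K := π ≫ i
  let adj := Scheme.Modules.pullbackPushforwardAdjunction f
  let ψ : (Scheme.Modules.pullback f).obj E ⟶ G := (adj.homEquiv E G).symm φ
  have hφ : φ = adj.unit.app E ≫ (Scheme.Modules.pushforward f).map ψ :=
    ((adj.homEquiv E G).apply_symm_apply φ).symm.trans (adj.homEquiv_unit E G ψ)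
  -- `ψ` is an epimorphism
  have hψ : Epi ψ := by
    refine Groth.Agent.Lib.Helper23.ModLocal.epi_of_epi_restrict ψ
      (fun V : t => ((f ⁻¹ᵁ V.1.1 : X.Opens) : Scheme.{u})) (fun V => (f ⁻¹ᵁ V.1.1).ι) ?_ (fun V => ?_)
    · intro x
      obtain ⟨V, hV⟩ := Set.mem_iUnion.1 (ht (Set.mem_univ (f.base x)))
      obtain ⟨hVt, hxV⟩ := Set.mem_iUnion.1 hV
      exact ⟨⟨V, hVt⟩, ⟨x, hxV⟩, rfl⟩
    · obtain ⟨V, hVt⟩ := V
      refine epi_restrict_of_sections ψ (f ⁻¹ᵁ V.1) (b V) (τ V) (hτ V hVt) (fun j => ?_)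
      have hs' : (⟨V, s V j⟩ : Σ U : Y.affineOpens, Γ(K, U.1)) ∈
          (⟨V₀, 0⟩ : Σ U : Y.affineOpens, Γ(K, U.1)) :: l :=
        List.mem_cons_of_mem _ (List.mem_flatMap.2 ⟨V, Finset.mem_toList.2 hVt,
          List.mem_map.2 ⟨j, List.mem_finRange j, rfl⟩⟩)
      obtain ⟨g, hg⟩ := hmem _ hs'
      obtain ⟨e, he⟩ := Groth.Agent.Lib.Helper23.FinType.surjective_app_of_epi π V.2 g
      have h1 : φ.app V.1 e = s V j := by
        change i.app V.1 (π.app V.1 e) = s V j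
        rw [he]
        exact hg
      have h2 : ψ.app (f ⁻¹ᵁ V.1) ((adj.unit.app E).app V.1 e) = s V j := by
        rw [← h1, hφ]
        rfl
      refine ⟨res _ (hle' V) ((adj.unit.app E).app V.1 e), ?_⟩
      rw [app_res, h2]
      change res G (hle' V) (res G (hle V) (sv (τ V j) ⊤)) = sv (τ V j) ⊤
      rw [Groth.Agent.Lib.Helper6.res_res]
      exact res_self G _
  exact exists_epi_of_twist' F (CohB1.tensorPow L n) (isInvertible_tensorPow hLinv n) _
    (Groth.Agent.Lib.Helper1.Sky.isFinLocFree_pullback f E hE) ψ hψ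

end Groth.Agent.Lib.T2H5.ResPropRel
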