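import Mathlib
import Groth.Agent.Lib.T2H5RpushAffine
import Groth.Agent.Lib.LeadRpushCmp
import Groth.Agent.Lib.LeadLocBij

/-!
# Higher direct images along a composite with an affine second morphism (helper5)

Namespace `Groth.Agent.Lib.T2H5.RpushComp`.

For `f : X ⟶ Y` quasi-compact quasi-separated, `g : Y ⟶ Z` affine and `M` quasi-coherent on `X`,
`R^q (f ≫ g)_* M ≅ g_* (R^q f_* M)` as abelian sheaves.  Both sheaves receive a locally bijective comparison from
the presheaf `W ↦ H^q((f ≫ g)⁻¹ W, M)`.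
-/

set_option autoImplicit false
set_option linter.style.haveILetI false
set_option linter.unusedSectionVars false
universe u
open CategoryTheory CategoryTheory.Limits Opposite TopologicalSpace AlgebraicGeometry Abelian

namespace Groth.Agent.Lib.T2H5.RpushComp

open Groth.Agent.Lib.Helper23.AffVanish Groth.Agent.Lib.Helper16.ClosedEmb
open Groth.Agent.Lib.T2H5.RpushAffine

variable {X Y Z : Scheme.{u}} (f : X ⟶ Y) (g : Y ⟶ Z)

/-- The presheaf `W ↦ H^q((f ≫ g)⁻¹ W, G)` on `Z`. -/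
noncomputable def P (G : CohTop.Ab X.carrier) (q : ℕ) : (Opens Z.carrier)ᵒᵖ ⥤ AddCommGrpCat.{u} where
  obj W := AddCommGrpCat.of (HE G q ((Opens.map (f ≫ g).base).obj W.unop))
  map {W W'} i := AddCommGrpCat.ofHom (resE G q ((Opens.map (f ≫ g).base).monotone i.unop.le))
  map_id W := by
    ext x
    exact resE_self G q x
  map_comp {W W' W''} i j := by
    ext x
    exact (resE_resE G q _ _ x).symm

lemma P_map_apply (G : CohTop.Ab X.carrier) (q : ℕ) {W W' : Opens Z.carrier} (h : W' ≤ W)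
    (α : HE G q ((Opens.map (f ≫ g).base).obj W)) :
    ((P f g G q).map (homOfLE h).op).hom α = resE G q ((Opens.map (f ≫ g).base).monotone h) α := rfl

variable [QuasiCompact f] [QuasiSeparated f] [IsAffineHom g] (M : X.Modules) [M.IsQuasicoherent]

theorem nonempty_iso_succ (n : ℕ) :
    Nonempty ((CohTop.Rpush (f ≫ g).base (n + 1)).obj (ab' M) ≅
      (CohTop.push g.base).obj ((CohTop.Rpush f.base (n + 1)).obj (ab' M))) := by
  obtain ⟨c1, hnat1, hsurj1, hinj1⟩ :=
    Groth.Agent.Lib.Lead.RpushCmp.exists_comparison (f ≫ g).base (ab' M) n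
  obtain ⟨c2, hnat2, hsurj2, hinj2⟩ :=
    Groth.Agent.Lib.Lead.RpushCmp.exists_comparison f.base (ab' M) n
  -- bijectivity of `c2` over preimages of affine opens
  have hbij : ∀ W : Z.Opens, IsAffineOpen W → Function.Bijective (c2 (g ⁻¹ᵁ W)) := by
    intro W hW
    exact bijective_comparison_affineOpen f M (n + 1) ((CohTop.Rpush f.base (n + 1)).obj (ab' M))
      c2 hnat2 hsurj2 hinj2 (g ⁻¹ᵁ W) (hW.preimage g)
  have haff : ∀ (V : Z.Opens) (y : Z), y ∈ V → ∃ W : Z.Opens, IsAffineOpen W ∧ y ∈ W ∧ W ≤ V := by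
    intro V y hy
    obtain ⟨W, hWaff, hyW, hWV⟩ :=
      (Z.isBasis_affineOpens).exists_subset_of_mem_open (show y ∈ (V : Set Z) from hy) V.isOpen
    obtain ⟨W', hW', rfl⟩ := hWaff
    exact ⟨W', hW', hyW, hWV⟩
  let γ1 : P f g (ab' M) (n + 1) ⟶ ((CohTop.Rpush (f ≫ g).base (n + 1)).obj (ab' M)).obj :=
    { app := fun W => AddCommGrpCat.ofHom (c1 W.unop)
      naturality := by
        intro W W' i
        ext α
        exact hnat1 W.unop W'.unop i.unop.le α }
  let γ2 : P f g (ab' M) (n + 1) ⟶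
      ((CohTop.push g.base).obj ((CohTop.Rpush f.base (n + 1)).obj (ab' M))).obj :=
    { app := fun W => AddCommGrpCat.ofHom (c2 (g ⁻¹ᵁ W.unop))
      naturality := by
        intro W W' i
        ext α
        exact hnat2 (g ⁻¹ᵁ W.unop) (g ⁻¹ᵁ W'.unop) (g.preimage_mono i.unop.le) α }
  refine Groth.Agent.Lib.Lead.LocBij.nonempty_iso_of_locBij _ _ (P f g (ab' M) (n + 1)) γ1 γ2 ?_ ?_ ?_ ?_
  · intro V t y hy
    exact hsurj1 V t y hy
  · intro V α hα y hy
    exact hinj1 V α hα y hy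
  · intro V t y hy
    obtain ⟨W, hWaff, hyW, hle⟩ := haff V y hy
    refine ⟨W, hle, hyW, ?_⟩
    obtain ⟨α, hα⟩ := (hbij W hWaff).2
      ((((CohTop.push g.base).obj ((CohTop.Rpush f.base (n + 1)).obj (ab' M))).obj.map (homOfLE hle).op).hom t)
    exact ⟨α, hα⟩
  · intro V α hα y hy
    obtain ⟨W, hWaff, hyW, hle⟩ := haff V y hy
    refine ⟨W, hle, hyW, ?_⟩
    apply (hbij W hWaff).1
    have h1 := hnat2 (g ⁻¹ᵁ V) (g ⁻¹ᵁ W) (g.preimage_mono hle) α
    have hα' : c2 (g ⁻¹ᵁ V) α = 0 := hα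
    rw [hα', map_zero] at h1
    exact h1.trans (map_zero _).symm

omit [QuasiCompact f] [QuasiSeparated f] [IsAffineHom g] in
theorem nonempty_iso_zero (G : CohTop.Ab X.carrier) :
    Nonempty ((CohTop.Rpush (f ≫ g).base 0).obj G ≅
      (CohTop.push g.base).obj ((CohTop.Rpush f.base 0).obj G)) := by
  haveI := Groth.Agent.Lib.Helper16.ClosedEmb.push_preservesFiniteLimits (f ≫ g).base
  haveI := Groth.Agent.Lib.Helper16.ClosedEmb.push_preservesFiniteLimits f.base
  let i0 : (CohTop.Rpush (f ≫ g).base 0).obj G ≅ (CohTop.push (f ≫ g).base).obj G :=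
    (Functor.rightDerivedZeroIsoSelf (CohTop.push (f ≫ g).base)).app G
  let i1 : (CohTop.Rpush f.base 0).obj G ≅ (CohTop.push f.base).obj G :=
    (Functor.rightDerivedZeroIsoSelf (CohTop.push f.base)).app G
  let i2 : (CohTop.push (f ≫ g).base).obj G ≅
      (CohTop.push g.base).obj ((CohTop.push f.base).obj G) := Iso.refl _
  exact ⟨i0 ≪≫ i2 ≪≫ (CohTop.push g.base).mapIso i1.symm⟩

theorem nonempty_iso (q : ℕ) :
    Nonempty ((Coh.RpushAb (f ≫ g) q).obj (Coh.toAb M) ≅
      (Coh.pushAb g).obj ((Coh.RpushAb f q).obj (Coh.toAb M))) := by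
  cases q with
  | zero => exact nonempty_iso_zero f g (ab' M)
  | succ n => exact nonempty_iso_succ f g M n

end Groth.Agent.Lib.T2H5.RpushComp
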