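import Mathlib
import Groth.Agent.Lib.Helper23PushAcyclic

/-!
# Stalkwise vanishing of higher direct images (helper5)

Namespace `Groth.Agent.Lib.T2H5.RpushStalk`.

* `rightDerived_vanish_comp`: dimension shifting for right derived functors followed by a right exact functor;
* `isZero_stalk_Rpush`: for a continuous map `g : X ⟶ Y`, a point `y` of `Y`, a family `B` of opens of `Y` containing
  arbitrarily small neighbourhoods of `y` and an abelian sheaf `G` on `X` with `H^{i+1}(g⁻¹V, G) = 0` for `V ∈ B`,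
  the stalks at `y` of the higher direct images `R^{n+1} g_* G` vanish.
-/

set_option autoImplicit false
set_option linter.style.haveILetI false
set_option linter.unusedSectionVars false
universe v v' v'' u u' u''
open CategoryTheory CategoryTheory.Limits Opposite TopologicalSpace Abelian

namespace Groth.Agent.Lib.T2H5.RpushStalk

open Groth.Agent.Lib.Helper16.Flasque Groth.Agent.Lib.Helper23.AffVanish

section Abstract

variable {𝒜 : Type u} [Category.{v} 𝒜] [Abelian 𝒜] [EnoughInjectives 𝒜]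
  {ℬ : Type u'} [Category.{v'} ℬ] [Abelian ℬ] {𝒞 : Type u''} [Category.{v''} 𝒞] [Abelian 𝒞]

/-- Dimension shifting for right derived functors, followed by a right exact functor. -/
theorem rightDerived_vanish_comp (G : 𝒜 ⥤ ℬ) [G.Additive] [PreservesFiniteLimits G]
    (E : ℬ ⥤ 𝒞) [PreservesFiniteColimits E] (P : 𝒜 → Prop)
    (hinj : ∀ I : 𝒜, Injective I → P I)
    (h23 : ∀ S : ShortComplex 𝒜, S.ShortExact → P S.X₁ → P S.X₂ → P S.X₃)
    (hepi : ∀ S : ShortComplex 𝒜, S.ShortExact → P S.X₁ → Epi (E.map (G.map S.g)))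
    (F : 𝒜) (hF : P F) (n : ℕ) : IsZero (E.obj ((G.rightDerived (n + 1)).obj F)) := by
  let I : InjectiveResolution F := Classical.choice (HasInjectiveResolution.out)
  refine IsZero.of_iso ?_ (E.mapIso (I.isoRightDerivedObj G (n + 1)))
  set K := I.cocomplex with hK
  have hS' := shortExact_lift (I.ι.f 0) (K.d 0 1) (K.d 1 2) I.ι_f_zero_comp_complex_d
    (K.d_comp_d 0 1 2) I.exact₀ (I.exact_succ 0)
  have hS : ∀ k : ℕ, (ShortComplex.mk (kernel.ι (K.d (k + 1) (k + 2)))
      (kernel.lift (K.d (k + 2) (k + 3)) (K.d (k + 1) (k + 2)) (K.d_comp_d _ _ _)) (by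
        apply (cancel_mono (kernel.ι _)).1
        rw [Category.assoc, kernel.lift_ι, kernel.condition, zero_comp])).ShortExact := fun k =>
    shortExact_lift (kernel.ι (K.d (k + 1) (k + 2))) (K.d (k + 1) (k + 2)) (K.d (k + 2) (k + 3))
      (kernel.condition _) (K.d_comp_d _ _ _)
      (ShortComplex.exact_of_f_is_kernel _ (kernelIsKernel _)) (I.exact_succ (k + 1))
  have hP : ∀ k : ℕ, P (kernel (K.d (k + 1) (k + 2))) := by
    intro k
    induction k with
    | zero => exact h23 _ hS' hF (hinj _ (I.injective 0))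
    | succ k ih => exact h23 _ (hS k) ih (hinj _ (I.injective (k + 1)))
  have hE : Epi (E.map (G.map (kernel.lift (K.d (n + 1) (n + 2)) (K.d n (n + 1)) (K.d_comp_d _ _ _)))) := by
    cases n with
    | zero => exact hepi _ hS' hF
    | succ m => exact hepi _ (hS m) (hP m)
  set L := (G.mapHomologicalComplex (ComplexShape.up ℕ)).obj K with hL
  change IsZero (E.obj (L.homology (n + 1)))
  have e1 : L.homology (n + 1) ≅ (L.sc' n (n + 1) (n + 2)).homology :=
    L.homologyIsoSc' n (n + 1) (n + 2) (by simp) (by simp)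
  have e2 := (L.sc' n (n + 1) (n + 2)).homologyIsoCokernelLift
  refine IsZero.of_iso ?_ (E.mapIso (e1 ≪≫ e2))
  refine IsZero.of_iso ?_ (PreservesCokernel.iso E _)
  haveI : IsIso (kernelComparison (K.d (n + 1) (n + 2)) G) := by
    rw [← PreservesKernel.iso_hom]; infer_instance
  have key : Epi (E.map (G.map (kernel.lift (K.d (n + 1) (n + 2)) (K.d n (n + 1)) (K.d_comp_d _ _ _)) ≫
      kernelComparison (K.d (n + 1) (n + 2)) G)) := by
    rw [E.map_comp]; infer_instance
  rw [map_lift_kernelComparison] at key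
  haveI key' : Epi (E.map (kernel.lift (L.sc' n (n + 1) (n + 2)).g (L.sc' n (n + 1) (n + 2)).f
      (L.sc' n (n + 1) (n + 2)).zero)) := key
  exact isZero_cokernel_of_epi _

end Abstract

section Top

variable {X Y : TopCat.{u}} (g : X ⟶ Y)

/-- the stalk functor on abelian sheaves -/
noncomputable abbrev stalkF (y : Y) : CohTop.Ab Y ⥤ AddCommGrpCat.{u} :=
  TopCat.Sheaf.forget AddCommGrpCat.{u} Y ⋙ TopCat.Presheaf.stalkFunctor AddCommGrpCat.{u} y

lemma epi_stalk_push_map_of_acyclicOn (y : Y) (B : Set (Opens Y))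
    (hB : ∀ V : Opens Y, y ∈ V → ∃ V' ∈ B, y ∈ V' ∧ V' ≤ V)
    (S : ShortComplex (CohTop.Ab X)) (hS : S.ShortExact) (h₁ : AcyclicOn g B S.X₁) :
    Epi ((stalkF y).map ((CohTop.push g).map S.g)) := by
  rw [AddCommGrpCat.epi_iff_surjective]
  intro a
  obtain ⟨V, hyV, t, rfl⟩ := TopCat.Presheaf.exists_germ_eq (F := ((CohTop.push g).obj S.X₃).obj) a
  obtain ⟨V', hV'B, hyV', hV'V⟩ := hB V hyV
  set W := (Opens.map g).obj V' with hW
  have hWle : W ≤ (Opens.map g).obj V := (Opens.map g).monotone hV'V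
  let t' : S.X₃.obj.obj (op W) := S.X₃.obj.map (homOfLE hWle).op t
  haveI := h₁ V' hV'B 0
  obtain ⟨x₂, hx₂⟩ := Ext.covariant_sequence_exact₃ (ZU W) hS
    (Ext.mk₀ (CohFree.ofSect (J X) W S.X₃ t')) (zero_add 1)
    (Subsingleton.elim (α := HE S.X₁ (0 + 1) W) _ _)
  obtain ⟨c, rfl⟩ := (Ext.mk₀_bijective _ _).2 x₂
  rw [Ext.mk₀_comp_mk₀] at hx₂
  have hc : c ≫ S.g = CohFree.ofSect (J X) W S.X₃ t' := (Ext.mk₀_bijective _ _).1 hx₂
  have h3 : (S.g.hom.app (op W)).hom (CohFree.evalGen (J X) W S.X₂ c) =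
      CohFree.evalGen (J X) W S.X₃ (c ≫ S.g) := rfl
  have h4 : (S.g.hom.app (op W)).hom (CohFree.evalGen (J X) W S.X₂ c) = t' :=
    h3.trans (by rw [hc, CohFree.evalGen_ofSect])
  refine ⟨TopCat.Presheaf.germ ((CohTop.push g).obj S.X₂).obj V' y hyV' (CohFree.evalGen (J X) W S.X₂ c), ?_⟩
  have h5 := TopCat.Presheaf.stalkFunctor_map_germ_apply V' y hyV' ((CohTop.push g).map S.g).hom
    (CohFree.evalGen (J X) W S.X₂ c)
  refine h5.trans ?_
  have h6 : (((CohTop.push g).map S.g).hom.app (op V')).hom (CohFree.evalGen (J X) W S.X₂ c) = t' := h4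
  rw [h6]
  exact TopCat.Presheaf.germ_res_apply ((CohTop.push g).obj S.X₃).obj (homOfLE hV'V) y hyV' t

/-- **Stalkwise vanishing of higher direct images** from vanishing of cohomology over preimages of small
neighbourhoods. -/
theorem isZero_stalk_Rpush (y : Y) (B : Set (Opens Y))
    (hB : ∀ V : Opens Y, y ∈ V → ∃ V' ∈ B, y ∈ V' ∧ V' ≤ V) (G : CohTop.Ab X)
    (hG : AcyclicOn g B G) (n : ℕ) :
    IsZero (TopCat.Presheaf.stalk ((CohTop.Rpush g (n + 1)).obj G).obj y) := by
  haveI := Groth.Agent.Lib.Helper16.ClosedEmb.push_preservesFiniteLimits g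
  haveI : (stalkF y).IsLeftAdjoint := by
    classical
    exact (stalkSkyscraperSheafAdjunction y).isLeftAdjoint
  haveI : PreservesColimitsOfSize.{0, 0} (stalkF y) := inferInstance
  haveI : PreservesFiniteColimits (stalkF y) := PreservesColimitsOfSize.preservesFiniteColimits (stalkF y)
  exact rightDerived_vanish_comp (CohTop.push g) (stalkF y) (AcyclicOn g B)
    (fun I hI => acyclicOn_of_injective g B I)
    (fun S hS h₁ h₂ => acyclicOn_X₃ g B S hS h₁ h₂)
    (fun S hS h₁ => epi_stalk_push_map_of_acyclicOn g y B hB S hS h₁) G hG n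

end Top

end Groth.Agent.Lib.T2H5.RpushStalk
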