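import Mathlib
import Groth.Prelude.Def_SpSeq

/-!
# T2H5SSSerre: a Serre class of objects passes from the first page of a spectral sequence to its abutment (helper5)

Let `P` be a property of objects of an abelian category which is stable under isomorphisms, subobjects, quotients and
extensions and holds for zero objects.  If `P` holds for all terms of total degree `n` on the first page of a
cohomological spectral sequence `E` with abutment data `a : SpSeq.Abutment E H` whose filtration on `H n` is finite,
then `P (H n)`.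
-/

set_option autoImplicit false
set_option linter.style.haveILetI false
set_option linter.unusedSectionVars false
set_option linter.unusedSimpArgs false
universe v u
open CategoryTheory CategoryTheory.Limits

namespace Groth.Agent.Lib.T2H5.SSSerre

variable {C : Type u} [Category.{v} C] [Abelian C]

/-- a Serre class of objects -/
structure IsSerreClass (P : C → Prop) : Prop where
  iso : ∀ {X Y : C}, (X ≅ Y) → P X → P Y
  sub : ∀ {X Y : C} (i : X ⟶ Y), Mono i → P Y → P X
  quot : ∀ {X Y : C} (p : X ⟶ Y), Epi p → P X → P Y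
  ext : ∀ (S : ShortComplex C), S.ShortExact → P S.X₁ → P S.X₃ → P S.X₂
  zero : ∀ X : C, IsZero X → P X

variable {P : C → Prop} (hP : IsSerreClass P)

include hP in
theorem homology {ι : Type*} {c : ComplexShape ι} (K : HomologicalComplex C c) (i : ι)
    (h : P (K.X i)) : P (K.homology i) := by
  have h1 : P (K.opcycles i) := hP.quot (K.pOpcycles i) inferInstance h
  exact hP.sub (K.homologyι i) inferInstance h1

include hP in
theorem page {r₀ : ℤ} (E : CohomologicalSpectralSequence C r₀) (pq : ℤ × ℤ)
    (h : P ((E.page r₀ le_rfl).X pq)) : ∀ (r : ℤ) (hr : r₀ ≤ r), P ((E.page r hr).X pq) := by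
  intro r hr
  refine Int.le_induction (motive := fun r hr => P ((E.page r hr).X pq)) h (fun k hk ih => ?_) r hr
  exact hP.iso (E.iso k (k + 1) pq rfl hk) (homology hP _ _ ih)

include hP in
theorem grPiece_transport {H : ℤ → C} (fil : ∀ n : ℤ, ℤ → Subobject (H n))
    (anti : ∀ n, Antitone (fil n)) (m n : ℤ) (h : m = n) (p : ℤ)
    (hm : P (SpSeq.grPiece (fil m) (anti m) p)) : P (SpSeq.grPiece (fil n) (anti n) p) := by
  subst h
  exact hm

include hP in
theorem of_isFinite {X : C} (F : ℤ → Subobject X) (hF : Antitone F)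
    (hfin : (∃ a : ℤ, F a = ⊤) ∧ ∃ b : ℤ, F b = ⊥)
    (hgr : ∀ p : ℤ, P (SpSeq.grPiece F hF p)) : P X := by
  obtain ⟨⟨a, ha⟩, ⟨b, hb⟩⟩ := hfin
  have key : ∀ k : ℕ, P ((F (b - k) : Subobject X) : C) := by
    intro k
    induction k with
    | zero =>
      have h0 : F (b - (0 : ℕ)) = ⊥ := by
        have : b - ((0 : ℕ) : ℤ) = b := by simp
        rw [this, hb]
      rw [h0]
      exact hP.zero _ (IsZero.of_iso (isZero_zero C) Subobject.botCoeIsoZero)
    | succ k ih =>
      have hle : F (b - (k + 1 : ℕ) + 1) ≤ F (b - (k + 1 : ℕ)) := hF (Int.le_add_one le_rfl)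
      have hses := (ShortComplex.ShortExact.mk (S := ShortComplex.mk
        ((F (b - (k + 1 : ℕ) + 1)).ofLE (F (b - (k + 1 : ℕ))) hle)
        (cokernel.π ((F (b - (k + 1 : ℕ) + 1)).ofLE (F (b - (k + 1 : ℕ))) hle))
        (cokernel.condition _))
        (ShortComplex.exact_of_g_is_cokernel _ (cokernelIsCokernel _)))
      have h1 : P ((F (b - (k + 1 : ℕ) + 1) : Subobject X) : C) := by
        have e : b - ((k + 1 : ℕ) : ℤ) + 1 = b - (k : ℕ) := by push_cast; ring
        rw [e]
        exact ih
      exact hP.ext _ hses h1 (hgr (b - (k + 1 : ℕ)))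
  have hk := key (b - a).toNat
  have hle : b - ((b - a).toNat : ℤ) ≤ a := by
    have := Int.self_le_toNat (b - a)
    omega
  have htop : F (b - ((b - a).toNat : ℤ)) = ⊤ := by
    apply top_le_iff.1
    rw [← ha]
    exact hF hle
  rw [htop] at hk
  haveI : IsIso (⊤ : Subobject X).arrow := inferInstance
  exact hP.iso (asIso (⊤ : Subobject X).arrow) hk

include hP in
/-- **A Serre class passes from the first page to the abutment.** -/
theorem abutment {r₀ : ℤ} (E : CohomologicalSpectralSequence C r₀) (H : ℤ → C)
    (a : SpSeq.Abutment E H) (n : ℤ) (hfin : a.IsFinite n)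
    (h : ∀ p : ℤ, P ((E.page r₀ le_rfl).X (p, n - p))) : P (H n) := by
  refine of_isFinite hP (a.fil n) (a.anti n) hfin (fun p => ?_)
  have h1 : P ((E.page (a.rk (p, n - p)) (a.stat (p, n - p)).1).X (p, n - p)) :=
    page hP E (p, n - p) (h p) _ _
  have h2 := hP.iso (a.β (p, n - p)) h1
  exact grPiece_transport hP a.fil a.anti (p + (n - p)) n (by ring) p h2

end Groth.Agent.Lib.T2H5.SSSerre

namespace Groth.Agent.Lib.T2H5.SSSerre

variable {C : Type u} [Category.{v} C] [Abelian C]

/-- a weak Serre class of objects: stable under isomorphisms, kernels, cokernels and extensions -/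
structure IsWeakSerreClass (P : C → Prop) : Prop where
  iso : ∀ {X Y : C}, (X ≅ Y) → P X → P Y
  kernel : ∀ {X Y : C} (f : X ⟶ Y), P X → P Y → P (kernel f)
  cokernel : ∀ {X Y : C} (f : X ⟶ Y), P X → P Y → P (cokernel f)
  ext : ∀ (S : ShortComplex C), S.ShortExact → P S.X₁ → P S.X₃ → P S.X₂
  zero : ∀ X : C, IsZero X → P X

variable {P : C → Prop} (hP : IsWeakSerreClass P)

include hP in
theorem weak_homology {ι : Type*} {c : ComplexShape ι} (K : HomologicalComplex C c) (i : ι)
    (h0 : P (K.X (c.prev i))) (h1 : P (K.X i)) (h2 : P (K.X (c.next i))) : P (K.homology i) := by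
  have hc : P (K.cycles i) := by
    have e : K.cycles i ≅ kernel (K.d i (c.next i)) :=
      (K.cyclesIsKernel i (c.next i) rfl).conePointUniqueUpToIso (limit.isLimit _)
    exact hP.iso e.symm (hP.kernel _ h1 h2)
  have e : K.homology i ≅ cokernel (K.toCycles (c.prev i) i) :=
    (K.homologyIsCokernel (c.prev i) i rfl).coconePointUniqueUpToIso (colimit.isColimit _)
  exact hP.iso e.symm (hP.cokernel _ h0 hc)

/-- the region of positions where the property is under control on page `s` -/
def Good (n s : ℤ) (pq : ℤ × ℤ) : Prop :=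
  pq.1 + pq.2 ≤ n ∨ pq.2 + (pq.1 + pq.2 - n - 1) * (s - 1) ≤ n

theorem isZero_page_of_isZero {r₀ : ℤ} (E : CohomologicalSpectralSequence C r₀) (pq : ℤ × ℤ)
    (h : IsZero ((E.page r₀ le_rfl).X pq)) : ∀ (r : ℤ) (hr : r₀ ≤ r), IsZero ((E.page r hr).X pq) := by
  intro r hr
  refine Int.le_induction (motive := fun r hr => IsZero ((E.page r hr).X pq)) h (fun k hk ih => ?_) r hr
  have hz : IsZero ((E.page k hk).homology pq) := ShortComplex.isZero_homology_of_isZero_X₂ _ ih
  exact IsZero.of_iso hz (E.iso k (k + 1) pq rfl hk).symm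

theorem next_up' (r : ℤ) (pq : ℤ × ℤ) :
    (ComplexShape.up' (⟨r, 1 - r⟩ : ℤ × ℤ)).next pq = pq + (r, 1 - r) :=
  (ComplexShape.up' (⟨r, 1 - r⟩ : ℤ × ℤ)).next_eq' rfl

theorem prev_up' (r : ℤ) (pq : ℤ × ℤ) :
    (ComplexShape.up' (⟨r, 1 - r⟩ : ℤ × ℤ)).prev pq = pq - (r, 1 - r) :=
  (ComplexShape.up' (⟨r, 1 - r⟩ : ℤ × ℤ)).prev_eq' (sub_add_cancel pq (r, 1 - r))

include hP in
theorem page_region (E : E₂CohomologicalSpectralSequence C) (n : ℤ)
    (hQ : ∀ pq : ℤ × ℤ, (pq.1 < 0 ∨ pq.2 < 0) → IsZero ((E.page 2 le_rfl).X pq))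
    (h2 : ∀ pq : ℤ × ℤ, 0 ≤ pq.1 → 0 ≤ pq.2 → pq.2 ≤ n → P ((E.page 2 le_rfl).X pq)) :
    ∀ (s : ℤ) (hs : 2 ≤ s) (pq : ℤ × ℤ), Good n s pq → P ((E.page s hs).X pq) := by
  have hzero : ∀ (s : ℤ) (hs : 2 ≤ s) (pq : ℤ × ℤ), (pq.1 < 0 ∨ pq.2 < 0) →
      P ((E.page s hs).X pq) := fun s hs pq h =>
    hP.zero _ (isZero_page_of_isZero E pq (hQ pq h) s hs)
  intro s hs
  refine Int.le_induction (motive := fun s hs => ∀ pq : ℤ × ℤ, Good n s pq → P ((E.page s hs).X pq))
    ?_ (fun k hk ih => ?_) s hs
  · rintro ⟨p, q⟩ hg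
    by_cases hq : p < 0 ∨ q < 0
    · exact hzero 2 le_rfl (p, q) hq
    · simp only [not_or, not_lt] at hq
      refine h2 (p, q) hq.1 hq.2 ?_
      rcases hg with hg | hg
      · simp only at hg ⊢
        omega
      · simp only at hg ⊢
        by_cases hk : p + q ≤ n
        · omega
        · have : (0 : ℤ) ≤ (p + q - n - 1) * (2 - 1) := by
            have : (0 : ℤ) ≤ p + q - n - 1 := by omega
            nlinarith
          omega
  · rintro ⟨p, q⟩ hg
    by_cases hq : p < 0 ∨ q < 0
    · exact hzero (k + 1) (by omega) (p, q) hq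
    · simp only [not_or, not_lt] at hq
      obtain ⟨hp0, hq0⟩ := hq
      refine hP.iso (E.iso k (k + 1) (p, q) rfl hk) ?_
      refine weak_homology hP (E.page k hk) (p, q) ?_ ?_ ?_
      · -- the source
        rw [prev_up']
        by_cases hq' : p - k < 0 ∨ q - (1 - k) < 0
        · exact hzero k hk _ hq'
        · simp only [not_or, not_lt] at hq'
          apply ih
          simp only [Good, Prod.fst_sub, Prod.snd_sub] at hg ⊢
          rcases hg with hg | hg
          · left; omega
          · by_cases h1 : p + q - n - 1 ≤ 0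
            · left; omega
            · right
              simp only [not_le, not_lt] at h1
              have e1 : (p - k + (q - (1 - k)) - n - 1) * (k - 1) =
                  (p + q - n - 1) * (k + 1 - 1) - (p + q - n - 1) - (k - 1) := by ring
              rw [e1]
              omega
      · -- the position itself
        apply ih
        simp only [Good] at hg ⊢
        rcases hg with hg | hg
        · left; exact hg
        · by_cases h1 : p + q - n - 1 < 0
          · left; omega
          · right
            simp only [not_le, not_lt] at h1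
            have e1 : (p + q - n - 1) * (k + 1 - 1) = (p + q - n - 1) * (k - 1) + (p + q - n - 1) := by
              ring
            rw [e1] at hg
            omega
      · -- the target
        rw [next_up']
        by_cases hq' : p + k < 0 ∨ q + (1 - k) < 0
        · exact hzero k hk _ hq'
        · simp only [not_or, not_lt] at hq'
          apply ih
          simp only [Good, Prod.fst_add, Prod.snd_add] at hg ⊢
          right
          rcases hg with hg | hg
          · by_cases h1 : p + q = n
            · have e1 : (p + k + (q + (1 - k)) - n - 1) * (k - 1) = 0 := by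
                have : p + k + (q + (1 - k)) - n - 1 = 0 := by omega
                rw [this, zero_mul]
              rw [e1]
              omega
            · have h3 : p + k + (q + (1 - k)) - n - 1 ≤ -1 := by omega
              have h4 : (p + k + (q + (1 - k)) - n - 1) * (k - 1) ≤ 0 := by
                have : (0 : ℤ) ≤ k - 1 := by omega
                nlinarith
              omega
          · by_cases h1 : p + q - n - 1 < 0
            · -- then p + q ≤ n
              by_cases h5 : p + q = n
              · have e1 : (p + k + (q + (1 - k)) - n - 1) * (k - 1) = 0 := by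
                  have : p + k + (q + (1 - k)) - n - 1 = 0 := by omega
                  rw [this, zero_mul]
                rw [e1]
                omega
              · have h3 : p + k + (q + (1 - k)) - n - 1 ≤ -1 := by omega
                have h4 : (p + k + (q + (1 - k)) - n - 1) * (k - 1) ≤ 0 := by
                  have : (0 : ℤ) ≤ k - 1 := by omega
                  nlinarith
                omega
            · simp only [not_le, not_lt] at h1
              have e1 : (p + k + (q + (1 - k)) - n - 1) * (k - 1) =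
                  (p + q - n - 1) * (k + 1 - 1) - (p + q - n - 1) + (k - 1) := by ring
              rw [e1]
              omega

include hP in
/-- **A weak Serre class passes from the `E₂`-terms `E₂^{p,q}` with `q ≤ n` to the abutment in degrees `≤ n`**
(first quadrant spectral sequence). -/
theorem abutment_le (E : E₂CohomologicalSpectralSequence C) (H : ℤ → C)
    (a : SpSeq.Abutment E H) (n : ℤ)
    (hQ : ∀ pq : ℤ × ℤ, (pq.1 < 0 ∨ pq.2 < 0) → IsZero ((E.page 2 le_rfl).X pq))
    (h2 : ∀ pq : ℤ × ℤ, 0 ≤ pq.1 → 0 ≤ pq.2 → pq.2 ≤ n → P ((E.page 2 le_rfl).X pq))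
    (i : ℤ) (hi : i ≤ n) (hfin : a.IsFinite i) : P (H i) := by
  obtain ⟨⟨a₀, ha⟩, ⟨b₀, hb⟩⟩ := hfin
  -- graded pieces
  have hgr : ∀ p : ℤ, P (SpSeq.grPiece (a.fil i) (a.anti i) p) := by
    intro p
    have h1 : P ((E.page (a.rk (p, i - p)) (a.stat (p, i - p)).1).X (p, i - p)) := by
      apply page_region hP E n hQ h2
      left
      simp only
      omega
    have h3 := hP.iso (a.β (p, i - p)) h1
    have key : ∀ (m : ℤ) (_ : m = i), P (SpSeq.grPiece (a.fil m) (a.anti m) p) →
        P (SpSeq.grPiece (a.fil i) (a.anti i) p) := by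
      intro m hm h
      subst hm
      exact h
    exact key (p + (i - p)) (by ring) h3
  -- the finite filtration
  have key : ∀ k : ℕ, P ((a.fil i (b₀ - k) : Subobject (H i)) : C) := by
    intro k
    induction k with
    | zero =>
      have h0 : a.fil i (b₀ - (0 : ℕ)) = ⊥ := by
        have : b₀ - ((0 : ℕ) : ℤ) = b₀ := by simp
        rw [this]
        exact hb
      rw [h0]
      exact hP.zero _ (IsZero.of_iso (isZero_zero C) Subobject.botCoeIsoZero)
    | succ k ih =>
      have hle : a.fil i (b₀ - (k + 1 : ℕ) + 1) ≤ a.fil i (b₀ - (k + 1 : ℕ)) :=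
        a.anti i (Int.le_add_one le_rfl)
      have hses := (ShortComplex.ShortExact.mk (S := ShortComplex.mk
        ((a.fil i (b₀ - (k + 1 : ℕ) + 1)).ofLE (a.fil i (b₀ - (k + 1 : ℕ))) hle)
        (cokernel.π ((a.fil i (b₀ - (k + 1 : ℕ) + 1)).ofLE (a.fil i (b₀ - (k + 1 : ℕ))) hle))
        (cokernel.condition _))
        (ShortComplex.exact_of_g_is_cokernel _ (cokernelIsCokernel _)))
      have h1 : P ((a.fil i (b₀ - (k + 1 : ℕ) + 1) : Subobject (H i)) : C) := by
        have e : b₀ - ((k + 1 : ℕ) : ℤ) + 1 = b₀ - (k : ℕ) := by push_cast; ring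
        rw [e]
        exact ih
      exact hP.ext _ hses h1 (hgr (b₀ - (k + 1 : ℕ)))
  have hk := key (b₀ - a₀).toNat
  have hle : b₀ - ((b₀ - a₀).toNat : ℤ) ≤ a₀ := by
    have := Int.self_le_toNat (b₀ - a₀)
    omega
  have htop : a.fil i (b₀ - ((b₀ - a₀).toNat : ℤ)) = ⊤ := by
    apply top_le_iff.1
    have ha' : a.fil i a₀ = ⊤ := ha
    rw [← ha']
    exact a.anti i hle
  rw [htop] at hk
  haveI : IsIso (⊤ : Subobject (H i)).arrow := inferInstance
  exact hP.iso (asIso (⊤ : Subobject (H i)).arrow) hk

end Groth.Agent.Lib.T2H5.SSSerre
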