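import Groth.Agent.Lib.Helper23Serre

/-!
# A variant of Serre's criterion: exactness of global sections on sequences with kernel in `O^n` (T2H5)

`Hyp2 X`: the global sections of an epimorphism `O_X ⟶ Q` onto a quasi-coherent module, and of the
epimorphisms `psi l : O^{n+1} ⟶ O_X`, are surjective. The proofs of `Helper23Serre` are repeated with
this weaker hypothesis.
-/

set_option autoImplicit false
universe u
open CategoryTheory Limits AlgebraicGeometry TopologicalSpace Opposite

namespace Groth.Agent.Lib.T2H5.SerreVar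

open Groth.Agent.Lib.Helper23.AffVanish Groth.Agent.Lib.Helper23.QCohLocal
open Groth.Agent.Lib.Helper23.GenLocus Groth.Agent.Lib.Helper23.Serre
open CategoryTheory.Abelian

variable {X : Scheme.{u}}

/-- the hypothesis of the variant of Serre's criterion -/
structure Hyp2 (X : Scheme.{u}) : Prop where
  epi : ∀ {Q : X.Modules} [Q.IsQuasicoherent] (π : Coh.structureModule X ⟶ Q) [Epi π],
    Function.Surjective (π.app ⊤)
  psi : ∀ l : List Γ(X, ⊤), Epi (psi l) → Function.Surjective ((psi l).app ⊤)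

theorem surjective_app_top_of_isClosedImmersion (h : Hyp2 X) {Z : Scheme.{u}} (i : Z ⟶ X)
    [IsClosedImmersion i] : Function.Surjective (i.app ⊤) := by
  have : (Coh.structureModule Z).IsQuasicoherent := isQuasicoherent_structureModule' Z
  have : ((Scheme.Modules.pushforward i).obj (Coh.structureModule Z)).IsQuasicoherent :=
    isQuasicoherent_pushforward i _
  intro b
  obtain ⟨a, ha⟩ := h.epi (unitPush i) (toS (i ⁻¹ᵁ ⊤) b)
  exact ⟨ofS ⊤ a, congrArg (ofS (i ⁻¹ᵁ ⊤)) ha⟩

theorem exists_basicOpen_le (h : Hyp2 X) (x : X) (hx : IsClosed ({x} : Set X)) (U : X.Opens) (hxU : x ∈ U) :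
    ∃ f : Γ(X, ⊤), x ∈ X.basicOpen f ∧ X.basicOpen f ≤ U := by
  let T : Closeds X := ⟨(U : Set X)ᶜ ∪ {x}, U.isOpen.isClosed_compl.union hx⟩
  let J := Scheme.IdealSheafData.vanishingIdeal T
  let i : J.subscheme ⟶ X := J.subschemeι
  have hrange : Set.range i = (U : Set X)ᶜ ∪ {x} := by
    rw [J.range_subschemeι]
    exact Scheme.IdealSheafData.coe_support_vanishingIdeal T
  let Ux : X.Opens := ⟨({x} : Set X)ᶜ, hx.isOpen_compl⟩
  let V1 : J.subscheme.Opens := i ⁻¹ᵁ U
  let V2 : J.subscheme.Opens := i ⁻¹ᵁ Ux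
  have hinf : V1 ⊓ V2 = ⊥ := by
    ext z
    simp only [Opens.coe_inf, Set.mem_inter_iff, SetLike.mem_coe, Opens.coe_bot, Set.mem_empty_iff_false,
      iff_false, not_and]
    intro hz1 hz2
    have hz : i z ∈ (U : Set X)ᶜ ∪ {x} := hrange ▸ Set.mem_range_self z
    rcases hz with hz | hz
    · exact hz hz1
    · exact hz2 hz
  have hsup : V1 ⊔ V2 = ⊤ := by
    ext z
    simp only [Opens.coe_sup, Set.mem_union, SetLike.mem_coe, Opens.coe_top, Set.mem_univ, iff_true]
    by_cases hz : i z = x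
    · left
      change i z ∈ U
      rw [hz]; exact hxU
    · right
      exact hz
  obtain ⟨e, he1, he2⟩ := exists_idempotent_of_disjoint_cover J.subscheme V1 V2 hinf hsup
  obtain ⟨f, hf⟩ := surjective_app_top_of_isClosedImmersion h i e
  have hpre : i ⁻¹ᵁ (X.basicOpen f) = J.subscheme.basicOpen e := by
    rw [Scheme.preimage_basicOpen, hf]
    rfl
  have hV1 : V1 ≤ J.subscheme.basicOpen e := by
    have h1 := J.subscheme.basicOpen_res e (homOfLE (le_top : V1 ≤ ⊤)).op
    rw [he1] at h1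
    have h2 : J.subscheme.basicOpen (1 : Γ(J.subscheme, V1)) = V1 := J.subscheme.basicOpen_of_isUnit isUnit_one
    rw [h2] at h1
    exact inf_eq_left.1 h1.symm
  have hV2 : V2 ⊓ J.subscheme.basicOpen e = ⊥ := by
    have h1 := J.subscheme.basicOpen_res e (homOfLE (le_top : V2 ≤ ⊤)).op
    rw [he2, Scheme.basicOpen_zero] at h1
    exact h1.symm
  have hxr : x ∈ Set.range i := by rw [hrange]; right; rfl
  obtain ⟨z₀, hz₀⟩ := hxr
  refine ⟨f, ?_, ?_⟩
  · have : z₀ ∈ i ⁻¹ᵁ (X.basicOpen f) := by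
      rw [hpre]
      apply hV1
      change i z₀ ∈ U
      rw [hz₀]; exact hxU
    rw [← hz₀]
    exact this
  · intro y hy
    by_contra hyU
    have hyr : y ∈ Set.range i := by rw [hrange]; left; exact hyU
    obtain ⟨z, rfl⟩ := hyr
    have hz1 : z ∈ J.subscheme.basicOpen e := by
      rw [← hpre]; exact hy
    have hz2 : z ∈ V2 := by
      change i z ∈ ({x} : Set X)ᶜ
      intro hzx
      rw [Set.mem_singleton_iff] at hzx
      rw [hzx] at hyU
      exact hyU hxU
    have : z ∈ V2 ⊓ J.subscheme.basicOpen e := ⟨hz2, hz1⟩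
    rw [hV2] at this
    exact this

theorem exists_affine_basicOpen_mem (h : Hyp2 X) [CompactSpace X] (y : X) :
    ∃ f : Γ(X, ⊤), IsAffineOpen (X.basicOpen f) ∧ y ∈ X.basicOpen f := by
  by_contra hcon
  push Not at hcon
  let W : X.Opens := ⨆ f : {f : Γ(X, ⊤) // IsAffineOpen (X.basicOpen f)}, X.basicOpen f.1
  have hyW : y ∉ W := by
    intro hy
    obtain ⟨f, hf⟩ := Opens.mem_iSup.1 hy
    exact hcon f.1 f.2 hf
  obtain ⟨x, hxW, hx⟩ := IsClosed.exists_closed_singleton (S := (W : Set X)ᶜ) W.isOpen.isClosed_compl ⟨y, hyW⟩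
  obtain ⟨_, ⟨U, hU, rfl⟩, hxU, -⟩ :=
    X.isBasis_affineOpens.exists_subset_of_mem_open (Set.mem_univ x) isOpen_univ
  obtain ⟨f, hxf, hfU⟩ := exists_basicOpen_le h x hx U hxU
  have haff : IsAffineOpen (X.basicOpen f) := by
    have h1 := X.basicOpen_res f (homOfLE (le_top : U ≤ ⊤)).op
    rw [inf_eq_right.2 hfU] at h1
    rw [← h1]
    exact hU.basicOpen _
  exact hxW (Opens.mem_iSup.2 ⟨⟨f, haff⟩, hxf⟩)

theorem exists_finset_cover (h : Hyp2 X) [CompactSpace X] :
    ∃ s : Finset Γ(X, ⊤), (∀ f ∈ s, IsAffineOpen (X.basicOpen f)) ∧ ∀ y : X, ∃ f ∈ s, y ∈ X.basicOpen f := by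
  classical
  choose f hf1 hf2 using exists_affine_basicOpen_mem h
  obtain ⟨t, ht⟩ := CompactSpace.elim_nhds_subcover (fun y => (X.basicOpen (f y) : Set X))
    (fun y => (X.basicOpen (f y)).isOpen.mem_nhds (hf2 y))
  refine ⟨t.image f, ?_, ?_⟩
  · intro g hg
    obtain ⟨y, -, rfl⟩ := Finset.mem_image.1 hg
    exact hf1 y
  · intro y
    have hy : y ∈ ⋃ x ∈ t, (X.basicOpen (f x) : Set X) := by rw [ht]; trivial
    simp only [Set.mem_iUnion] at hy
    obtain ⟨x, hxt, hyx⟩ := hy
    exact ⟨f x, Finset.mem_image_of_mem f hxt, hyx⟩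

/-- restriction of a global function -/
noncomputable def resF (f : Γ(X, ⊤)) (W : X.Opens) : Γ(X, W) := X.presheaf.map (homOfLE (le_top : W ≤ ⊤)).op f

theorem span_eq_top (h : Hyp2 X) (l : List Γ(X, ⊤)) (hl : ∀ y : X, ∃ f ∈ l, y ∈ X.basicOpen f) :
    Ideal.span {f | f ∈ l} = ⊤ := by
  have hepi : Epi (psi l) := epi_psi l hl
  obtain ⟨s, hs⟩ := h.psi l hepi (toS ⊤ 1)
  rw [Ideal.eq_top_iff_one]
  have hmem := psi_app_mem l s
  have hs' : (psi l).app ⊤ s = toS ⊤ 1 := hs
  rw [hs'] at hmem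
  exact hmem

theorem isAffine_of_hyp2 (h : Hyp2 X) [CompactSpace X] : IsAffine X := by
  obtain ⟨s, hs1, hs2⟩ := exists_finset_cover h
  have hl : ∀ y : X, ∃ f ∈ s.toList, y ∈ X.basicOpen f := by
    intro y
    obtain ⟨f, hf, hy⟩ := hs2 y
    exact ⟨f, Finset.mem_toList.2 hf, hy⟩
  have hspan := span_eq_top h s.toList hl
  refine isAffine_of_isAffineOpen_basicOpen {f | f ∈ s.toList} hspan ?_
  intro f hf
  exact hs1 f (Finset.mem_toList.1 hf)

/-- an embedding of `O^{n+1}`, as an iterated biproduct, into a product indexed by `Fin (n + 1)`. -/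
noncomputable def emb : (l : List Γ(X, ⊤)) →
    (Pn l ⟶ ∏ᶜ (fun _ : Fin (l.length + 1) => Coh.structureModule X))
  | [] => Pi.lift (fun _ => 𝟙 _)
  | (_ :: l) => Pi.lift (Fin.cases (motive := fun _ => (Coh.structureModule X ⊞ Pn l ⟶
      Coh.structureModule X)) biprod.fst (fun k => biprod.snd ≫ emb l ≫ Pi.π _ k))

theorem mono_nil_aux (P : X.Modules) :
    Mono (Pi.lift (fun _ : Fin 1 => 𝟙 P)) := by
  have h : Pi.lift (fun _ : Fin 1 => 𝟙 P) ≫ Pi.π (fun _ : Fin 1 => P) 0 = 𝟙 P := Pi.lift_π _ _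
  exact mono_of_mono_fac h

theorem mono_cons_aux {P : X.Modules} {m : ℕ}
    (e : P ⟶ ∏ᶜ (fun _ : Fin m => Coh.structureModule X)) [Mono e] :
    Mono (Pi.lift (Fin.cases (motive := fun _ => (Coh.structureModule X ⊞ P ⟶
      Coh.structureModule X)) biprod.fst (fun k => biprod.snd ≫ e ≫ Pi.π _ k)) :
      Coh.structureModule X ⊞ P ⟶ ∏ᶜ (fun _ : Fin (m + 1) => Coh.structureModule X)) := by
  refine ⟨fun {Z} g g' hgg' => ?_⟩
  have h0 : g ≫ biprod.fst = g' ≫ biprod.fst := by
    have h := congrArg (fun t => t ≫ Pi.π (fun _ : Fin (m + 1) => Coh.structureModule X) 0) hgg'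
    simp only [Category.assoc, Pi.lift_π] at h
    exact h
  have h1 : (g ≫ biprod.snd) ≫ e = (g' ≫ biprod.snd) ≫ e := by
    apply Pi.hom_ext
    intro k
    have h := congrArg (fun t => t ≫ Pi.π (fun _ : Fin (m + 1) => Coh.structureModule X) k.succ) hgg'
    simp only [Category.assoc, Pi.lift_π] at h
    simp only [Category.assoc]
    exact h
  have h2 : g ≫ biprod.snd = g' ≫ biprod.snd := (cancel_mono e).1 h1
  exact biprod.hom_ext _ _ h0 h2

theorem mono_emb : ∀ l : List Γ(X, ⊤), Mono (emb (X := X) l)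
  | [] => mono_nil_aux (Coh.structureModule X)
  | (_ :: l) => by
    have := mono_emb l
    exact mono_cons_aux (emb l)

/-- the hypothesis of the variant, from the surjectivity of global sections on the short exact sequences
of quasi-coherent modules whose first term embeds into a finite product of copies of `O_X`. -/
theorem hyp2_of_surjective
    (h : ∀ (S : ShortComplex X.Modules) (n : ℕ)
      (j : S.X₁ ⟶ ∏ᶜ (fun _ : Fin n => Coh.structureModule X)),
      S.ShortExact → Mono j → Coh.IsQCoh S.X₁ → Coh.IsQCoh S.X₂ → Coh.IsQCoh S.X₃ →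
        Function.Surjective (S.g.val.app (op ⊤)).hom) : Hyp2 X := by
  have hO : (Coh.structureModule X).IsQuasicoherent := isQuasicoherent_structureModule' X
  refine ⟨fun {Q} hQ π hπ => ?_, fun l hl => ?_⟩
  · let S : ShortComplex X.Modules := ShortComplex.mk (kernel.ι π) π (kernel.condition π)
    have hS : S.ShortExact :=
      { exact := ShortComplex.exact_kernel π
        mono_f := inferInstanceAs (Mono (kernel.ι π))
        epi_g := hπ }
    have hK : (kernel π).IsQuasicoherent := isQuasicoherent_kernel π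
    have hm : Mono (emb (X := X) []) := mono_emb []
    have hj : Mono (kernel.ι π ≫ emb (X := X) []) :=
      @mono_comp _ _ _ _ _ (kernel.ι π) inferInstance (emb (X := X) []) hm
    have hsurj := h S 1 (kernel.ι π ≫ emb (X := X) []) hS hj hK hO hQ
    intro b
    obtain ⟨a, ha⟩ := hsurj b
    exact ⟨a, ha⟩
  · have hP : (Pn l).IsQuasicoherent := isQuasicoherent_Pn l
    let S : ShortComplex X.Modules :=
      ShortComplex.mk (kernel.ι (psi l)) (psi l) (kernel.condition (psi l))
    have hS : S.ShortExact :=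
      { exact := ShortComplex.exact_kernel (psi l)
        mono_f := inferInstanceAs (Mono (kernel.ι (psi l)))
        epi_g := hl }
    have hK : (kernel (psi l)).IsQuasicoherent := isQuasicoherent_kernel (psi l)
    have hm : Mono (emb l) := mono_emb l
    have hj : Mono (kernel.ι (psi l) ≫ emb l) :=
      @mono_comp _ _ _ _ _ (kernel.ι (psi l)) inferInstance (emb l) hm
    have hsurj := h S (l.length + 1) (kernel.ι (psi l) ≫ emb l) hS hj hK hP hO
    intro b
    obtain ⟨a, ha⟩ := hsurj b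
    exact ⟨a, ha⟩

end Groth.Agent.Lib.T2H5.SerreVar
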