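import Groth.Agent.Lib.T2H5PnTop
import Groth.Agent.S16023

/-!
# Vanishing of `H¹` kills Čech 1-cocycles of any open covering (helper5)

`isZero_cechH_one`: if `H¹(X, M) = 0` then `Ȟ¹(U, M) = 0` for every open covering `U` of `X` (the edge map
`Ȟ¹ → H¹` is injective), and the interface `exists_coboundary_of_subsingleton`.
-/

set_option autoImplicit false
set_option backward.isDefEq.respectTransparency.types false
set_option linter.style.haveILetI false
set_option linter.unusedSectionVars false
set_option linter.unusedVariables false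
universe u

open CategoryTheory CategoryTheory.Limits AlgebraicGeometry TopologicalSpace Opposite

namespace Groth.Agent.Lib.T2H5.SqZeroCech

open Groth.Agent.Lib.Helper23.AffVanish
open Groth.Agent.Lib.Helper16.CechLow Groth.Agent.Lib.Helper16.CechH1
  Groth.Agent.Lib.Helper16.CechCmp Groth.Agent.Lib.Helper16.CechLES
open Groth.Agent.Lib.T2H5.CechNat

section Top

variable {X : TopCat.{u}}

theorem isZero_cechH_one_top (F : CohTop.Ab X) {ι : Type u} (U : ι → Opens X) (hcov : iSup U = ⊤)
    (h : Subsingleton (CohTop.H F 1)) : IsZero (CohTop.cechH F.obj U 1) := by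
  let Y := fam U (iSup U) (le_iSup U)
  have hY : Sieve.ofArrows (fun i => (Y i).left) (fun i => (Y i).hom) ∈
      Opens.grothendieckTopology X (iSup U) := covering_of_iSup Y le_rfl
  obtain ⟨e, he⟩ := Groth.Agent.S16019.result (Opens.grothendieckTopology X) Y hY
  have hinj := Groth.Agent.S16023.result (Opens.grothendieckTopology X) Y e he F
  let Ψ1 : CohTop.cechH F.obj U 1 ≃+ CohCx.cechH F.obj Y 1 :=
    (isoH' F.obj U (iSup U) (le_iSup U) 1).addCommGroupIsoToAddEquiv
  let Ψ3 : CohSite.HU F 1 (iSup U) ≃+ CohSite.HU F 1 ⊤ := castHU F 1 hcov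
  let Ψ4 : HE F 1 ⊤ ≃+ CohTop.H F 1 := HETopEquivH X F 1
  have hsub : Subsingleton (CohTop.cechH F.obj U 1) := by
    refine ⟨fun x y => ?_⟩
    apply Ψ1.injective
    apply hinj
    apply Ψ3.injective
    apply Ψ4.injective
    exact Subsingleton.elim _ _
  exact AddCommGrpCat.isZero_of_subsingleton _

end Top

/-- if `H¹(X, M) = 0` then the first Čech cohomology of `M` for any open covering vanishes -/
theorem isZero_cechH_one (X : Scheme.{u}) (M : X.Modules) (h : Subsingleton (Coh.HH X M 1))
    {ι : Type u} (U : ι → X.Opens) (hcov : ⨆ i, U i = ⊤) : IsZero (CohB1.cechH U M 1) :=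
  isZero_cechH_one_top (ab' M) U hcov h

/-- **Interface**: if `H¹(X, M) = 0`, every Čech 1-cocycle of `M` on an open covering is a coboundary. -/
theorem exists_coboundary_of_subsingleton (X : Scheme.{u}) (M : X.Modules)
    (h : Subsingleton (Coh.HH X M 1)) {κ : Type u} (W : κ → X.Opens) (hcov : ⨆ i, W i = ⊤)
    (a : ∀ k l, M.presheaf.obj (op (W k ⊓ W l)))
    (hcoc : ∀ k l m,
      M.presheaf.map (homOfLE (le_inf (inf_le_left.trans inf_le_right) inf_le_right :
        W k ⊓ W l ⊓ W m ≤ W l ⊓ W m)).op (a l m) -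
      M.presheaf.map (homOfLE (le_inf (inf_le_left.trans inf_le_left) inf_le_right :
        W k ⊓ W l ⊓ W m ≤ W k ⊓ W m)).op (a k m) +
      M.presheaf.map (homOfLE (inf_le_left : W k ⊓ W l ⊓ W m ≤ W k ⊓ W l)).op (a k l) = 0) :
    ∃ b : ∀ k, M.presheaf.obj (op (W k)), ∀ k l,
      a k l = M.presheaf.map (homOfLE (inf_le_right : W k ⊓ W l ≤ W l)).op (b l) -
        M.presheaf.map (homOfLE (inf_le_left : W k ⊓ W l ≤ W k)).op (b k) :=
  exists_coboundary M.presheaf W (isZero_cechH_one X M h W hcov) a hcoc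

end Groth.Agent.Lib.T2H5.SqZeroCech
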