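import Groth.Agent.Lib.T2H5SqZeroCech
import Groth.Agent.Lib.Helper23IdealSec
import Groth.Agent.Lib.Helper23PB
import Groth.Agent.Lib.Helper20UFDPic

/-!
# Invertible modules on a square-zero thickening with isomorphic restrictions (helper5)

`X` a scheme, `I` a quasi-coherent ideal with `I * I = ⊥`, `i : X₀ ⟶ X` the closed subscheme.

* `Kr I V`: the functions on an open `V` which vanish on `X₀`; `mul_eq_zero_of_mem_Kr`, `isUnit_one_add`,
  `isUnit_of_isUnit_app`;
* `kap I V`: sections of the ideal module `ClSub.idealMod I` as elements of `Kr I V`;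
* `nonempty_iso_of_pullback_iso`: if every additive Čech 1-cocycle with values in `Kr I` is a coboundary, two
  invertible modules with isomorphic pullbacks to `X₀` are isomorphic;
* `nonempty_iso_of_pullback_iso_of_H1`: the same when `H¹(X, I) = 0`.
-/

set_option autoImplicit false
set_option backward.isDefEq.respectTransparency.types false
set_option linter.style.haveILetI false
set_option linter.unusedSectionVars false
set_option linter.unusedVariables false
universe u

open CategoryTheory CategoryTheory.Limits AlgebraicGeometry TopologicalSpace Opposite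

namespace Groth.Agent.Lib.T2H5.SqZeroPic

open Groth.Agent.Lib.Helper6 Groth.Agent.Lib.Helper23.SecTw Groth.Agent.Lib.Helper23.GenLocus
  Groth.Agent.Lib.Helper23.PB Groth.Agent.Helper13PullbackUnit Groth.Agent.Lib.Helper23.Extend
  Groth.Agent.Lib.Helper20.IdealModSec

variable {X : Scheme.{u}} (I : X.IdealSheafData)

section K

/-- functions on `V` vanishing on the closed subscheme -/
noncomputable def Kr (V : X.Opens) : Ideal Γ(X, V) := RingHom.ker (I.subschemeι.app V).hom

theorem mem_Kr {V : X.Opens} {x : Γ(X, V)} : x ∈ Kr I V ↔ (I.subschemeι.app V).hom x = 0 :=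
  RingHom.mem_ker

theorem app_resf {V V' : X.Opens} (h : V' ≤ V) (x : Γ(X, V)) :
    (I.subschemeι.app V').hom (resf h x) =
      (I.subscheme.presheaf.map (homOfLE (I.subschemeι.preimage_mono h)).op).hom
        ((I.subschemeι.app V).hom x) := by
  have := I.subschemeι.naturality (homOfLE h).op
  have := congrArg (fun φ => φ.hom x) this
  simp only [CommRingCat.hom_comp, RingHom.coe_comp, Function.comp_apply] at this
  exact this

theorem resf_mem_Kr {V V' : X.Opens} (h : V' ≤ V) {x : Γ(X, V)} (hx : x ∈ Kr I V) :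
    resf h x ∈ Kr I V' := by
  rw [mem_Kr] at hx ⊢
  rw [app_resf, hx, map_zero]

theorem eq_zero_of_affine {V : X.Opens} (z : Γ(X, V))
    (h : ∀ A : X.Opens, IsAffineOpen A → ∀ hA : A ≤ V, resf hA z = 0) : z = 0 := by
  refine X.sheaf.eq_of_locally_eq' (fun A : {A : X.Opens // IsAffineOpen A ∧ A ≤ V} => A.1) V
    (fun A => homOfLE A.2.2) (le_iSup_affine V) z 0 (fun A => ?_)
  have h1 := h A.1 A.2.1 A.2.2
  exact h1.trans (map_zero _).symm

theorem mul_eq_zero_of_mem_Kr (hI : I * I = ⊥) {V : X.Opens} {x y : Γ(X, V)}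
    (hx : x ∈ Kr I V) (hy : y ∈ Kr I V) : x * y = 0 := by
  refine eq_zero_of_affine _ (fun A hAff hA => ?_)
  have hx' := resf_mem_Kr I hA hx
  have hy' := resf_mem_Kr I hA hy
  have e : Kr I A = I.ideal ⟨A, hAff⟩ := I.ker_subschemeι_app ⟨A, hAff⟩
  rw [e] at hx' hy'
  have hm : resf hA x * resf hA y ∈ (I * I).ideal ⟨A, hAff⟩ := by
    rw [Scheme.IdealSheafData.ideal_mul]
    exact Ideal.mul_mem_mul hx' hy'
  rw [hI] at hm
  have hm' : resf hA x * resf hA y = 0 := hm
  have e2 : resf hA (x * y) = resf hA x * resf hA y := map_mul _ _ _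
  rw [e2]
  exact hm'

theorem isUnit_one_add (hI : I * I = ⊥) {V : X.Opens} {b : Γ(X, V)} (hb : b ∈ Kr I V) :
    IsUnit (1 + b) := by
  have h0 := mul_eq_zero_of_mem_Kr I hI hb hb
  refine IsUnit.of_mul_eq_one (1 - b) ?_
  have : (1 + b) * (1 - b) = 1 - b * b := by ring
  rw [this, h0, sub_zero]

theorem isUnit_of_isUnit_app (hI : I * I = ⊥) (U : X.affineOpens) (r : Γ(X, U.1))
    (h : IsUnit ((I.subschemeι.app U.1).hom r)) : IsUnit r := by
  obtain ⟨s₀, hs₀⟩ := h.exists_right_inv
  obtain ⟨s, hs⟩ := I.subschemeι_app_surjective U s₀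
  have hk : r * s - 1 ∈ Kr I U.1 := by
    rw [mem_Kr, map_sub, map_mul, map_one]
    have : (I.subschemeι.app U.1).hom s = s₀ := hs
    rw [this, hs₀, sub_self]
  have hu : IsUnit (1 + (r * s - 1)) := isUnit_one_add I hI hk
  have e : 1 + (r * s - 1) = r * s := by ring
  rw [e] at hu
  exact isUnit_of_mul_isUnit_left hu

end K

section kap

/-- the function underlying a section of the ideal module -/
noncomputable def kap (V : X.Opens) (j : Γ(ClSub.idealMod I, V)) : Γ(X, V) :=
  ofS V ((ClSub.idealModι I).app V j)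

theorem kap_mem (V : X.Opens) (j : Γ(ClSub.idealMod I, V)) : kap I V j ∈ Kr I V := by
  rw [mem_Kr]
  exact ι_toSubscheme I V j

theorem kap_injective (V : X.Opens) : Function.Injective (kap I V) := ι_injective I V

theorem exists_kap_eq (V : X.Opens) (a : Γ(X, V)) (ha : a ∈ Kr I V) :
    ∃ j : Γ(ClSub.idealMod I, V), kap I V j = a := by
  rw [mem_Kr] at ha
  exact exists_eq_ι I V (toS V a) ha

theorem kap_res {V V' : X.Opens} (h : V' ≤ V) (j : Γ(ClSub.idealMod I, V)) :
    kap I V' (res (ClSub.idealMod I) h j) = resf h (kap I V j) :=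
  app_map (ClSub.idealModι I) (homOfLE h) j

theorem kap_add (V : X.Opens) (j j' : Γ(ClSub.idealMod I, V)) :
    kap I V (j + j') = kap I V j + kap I V j' := map_add _ _ _

theorem kap_sub (V : X.Opens) (j j' : Γ(ClSub.idealMod I, V)) :
    kap I V (j - j') = kap I V j - kap I V j' := map_sub _ _ _

theorem kap_zero (V : X.Opens) : kap I V 0 = 0 := map_zero _

end kap

section main

theorem resf_mul' {U V : X.Opens} (h : V ≤ U) (r r' : Γ(X, U)) :
    resf h (r * r') = resf h r * resf h r' := map_mul _ _ _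

theorem resf_add' {U V : X.Opens} (h : V ≤ U) (r r' : Γ(X, U)) :
    resf h (r + r') = resf h r + resf h r' := map_add _ _ _

theorem resf_one' {U V : X.Opens} (h : V ≤ U) : resf h (1 : Γ(X, U)) = 1 := map_one _

theorem smul_cancel_of_isGen {Y : Scheme.{u}} {M : Y.Modules} {A : Y.Opens} {m : Γ(M, A)}
    (hm : IsGen M A m) {r r' : Γ(Y, A)} (h : r • m = r' • m) : r = r' := by
  apply (hm A le_rfl).1
  change r • res M le_rfl m = r' • res M le_rfl m
  rw [Groth.Agent.Lib.Helper23.SecTw.res_self]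
  exact h

/-- additive Čech 1-cocycles, on affine coverings, with values in the functions vanishing on `X₀` are
coboundaries -/
def H1Van (I : X.IdealSheafData) : Prop :=
  ∀ (κ : Type u) (W : κ → X.Opens), (∀ k, IsAffineOpen (W k)) → (⨆ k, W k = ⊤) →
    ∀ a : ∀ k l, Γ(X, W k ⊓ W l),
    (∀ k l, a k l ∈ Kr I (W k ⊓ W l)) →
    (∀ k l m,
      resf (le_inf (inf_le_left.trans inf_le_right) inf_le_right : W k ⊓ W l ⊓ W m ≤ W l ⊓ W m) (a l m) -
      resf (le_inf (inf_le_left.trans inf_le_left) inf_le_right : W k ⊓ W l ⊓ W m ≤ W k ⊓ W m) (a k m) +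
      resf (inf_le_left : W k ⊓ W l ⊓ W m ≤ W k ⊓ W l) (a k l) = 0) →
    ∃ b : ∀ k, Γ(X, W k), (∀ k, b k ∈ Kr I (W k)) ∧ ∀ k l,
      a k l = resf (inf_le_right : W k ⊓ W l ≤ W l) (b l) - resf (inf_le_left : W k ⊓ W l ≤ W k) (b k)

theorem h1Van_of_subsingleton (h : Subsingleton (Coh.HH X (ClSub.idealMod I) 1)) : H1Van I := by
  intro κ W _ hcov a ha hcoc
  choose α hα using fun k l => exists_kap_eq I (W k ⊓ W l) (a k l) (ha k l)
  obtain ⟨β, hβ⟩ := Groth.Agent.Lib.T2H5.SqZeroCech.exists_coboundary_of_subsingleton X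
    (ClSub.idealMod I) h W hcov α (fun k l m => by
      apply kap_injective I
      rw [kap_add, kap_sub, kap_zero]
      have e1 := kap_res I (le_inf (inf_le_left.trans inf_le_right) inf_le_right :
        W k ⊓ W l ⊓ W m ≤ W l ⊓ W m) (α l m)
      have e2 := kap_res I (le_inf (inf_le_left.trans inf_le_left) inf_le_right :
        W k ⊓ W l ⊓ W m ≤ W k ⊓ W m) (α k m)
      have e3 := kap_res I (inf_le_left : W k ⊓ W l ⊓ W m ≤ W k ⊓ W l) (α k l)
      rw [hα] at e1 e2 e3
      exact (congrArg₂ (· + ·) (congrArg₂ (· - ·) e1 e2) e3).trans (hcoc k l m))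
  refine ⟨fun k => kap I (W k) (β k), fun k => kap_mem I _ _, fun k l => ?_⟩
  have e1 := kap_res I (inf_le_right : W k ⊓ W l ≤ W l) (β l)
  have e2 := kap_res I (inf_le_left : W k ⊓ W l ≤ W k) (β k)
  rw [← hα k l, hβ k l, kap_sub]
  exact congrArg₂ (· - ·) e1 e2

variable {I}

/-- **Two invertible modules on a square-zero thickening with isomorphic restrictions to the closed subscheme are
isomorphic**, when additive 1-cocycles in the ideal are coboundaries. -/
theorem nonempty_iso_of_pullback_iso (hI : I * I = ⊥) (hH : H1Van I)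
    (L L' : X.Modules) (hL : PicF.IsInvertible L) (hL' : PicF.IsInvertible L')
    (φ : (Scheme.Modules.pullback I.subschemeι).obj L ≅ (Scheme.Modules.pullback I.subschemeι).obj L') :
    Nonempty (L ≅ L') := by
  classical
  haveI : L.IsQuasicoherent := isQuasicoherent_of_isInvertible L hL
  haveI : L'.IsQuasicoherent := isQuasicoherent_of_isInvertible L' hL'
  obtain ⟨i, hi⟩ : ∃ i : I.subscheme ⟶ X, i = I.subschemeι := ⟨_, rfl⟩
  -- index type: compatible pairs of frames
  let κ : Type u := {p : Σ W : X.Opens, Γ(L, W) × Γ(L', W) // IsAffineOpen p.1 ∧ IsGen L p.1 p.2.1 ∧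
    IsGen L' p.1 p.2.2 ∧ φ.hom.app (I.subschemeι ⁻¹ᵁ p.1) (unitSec I.subschemeι L le_rfl p.2.1) =
      unitSec I.subschemeι L' le_rfl p.2.2}
  let W : κ → X.Opens := fun p => p.1.1
  let e : ∀ p : κ, Γ(L, W p) := fun p => p.1.2.1
  let e' : ∀ p : κ, Γ(L', W p) := fun p => p.1.2.2
  have hWaff : ∀ p, IsAffineOpen (W p) := fun p => p.2.1
  have he : ∀ p, IsGen L (W p) (e p) := fun p => p.2.2.1
  have he' : ∀ p, IsGen L' (W p) (e' p) := fun p => p.2.2.2.1
  have hφ : ∀ p, φ.hom.app (I.subschemeι ⁻¹ᵁ W p) (unitSec I.subschemeι L le_rfl (e p)) =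
      unitSec I.subschemeι L' le_rfl (e' p) := fun p => p.2.2.2.2
  -- Step 1: these frames cover `X`
  have hcovx : ∀ x : X, ∃ p : κ, x ∈ W p := by
    intro x
    obtain ⟨W₁, e₁, hx₁, -, he₁⟩ := exists_affine_gen L hL x
    obtain ⟨W₂, e₂, hx₂, -, he₂⟩ := exists_affine_gen L' hL' x
    obtain ⟨U, hU, hxU, hUle⟩ := exists_isAffineOpen_mem_and_subset (x := x) (U := W₁ ⊓ W₂) ⟨hx₁, hx₂⟩
    have hU₁ : U ≤ W₁ := hUle.trans inf_le_left
    have hU₂ : U ≤ W₂ := hUle.trans inf_le_right
    have hg₁ : IsGen L U (res L hU₁ e₁) := he₁.mono hU₁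
    have hg₂ : IsGen L' U (res L' hU₂ e₂) := he₂.mono hU₂
    have hσ := isGen_unitSec I.subschemeι L hU _ hg₁
    have hσ' := isGen_unitSec I.subschemeι L' hU _ hg₂
    have hτ := isGen_of_iso φ hσ
    obtain ⟨r₀, hr₀⟩ : ∃ r₀, r₀ = coef hσ' le_rfl
      (φ.hom.app (I.subschemeι ⁻¹ᵁ U) (unitSec I.subschemeι L le_rfl (res L hU₁ e₁))) := ⟨_, rfl⟩
    have hr₀u : IsUnit r₀ := hr₀ ▸ isUnit_coef_of_isGen hσ' hτ
    have hr₀s : r₀ • unitSec I.subschemeι L' le_rfl (res L' hU₂ e₂) =
        φ.hom.app (I.subschemeι ⁻¹ᵁ U) (unitSec I.subschemeι L le_rfl (res L hU₁ e₁)) := by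
      have := coef_spec hσ' le_rfl
        (φ.hom.app (I.subschemeι ⁻¹ᵁ U) (unitSec I.subschemeι L le_rfl (res L hU₁ e₁)))
      rw [Groth.Agent.Lib.Helper23.SecTw.res_self] at this
      rw [hr₀]
      exact this
    obtain ⟨r, hr⟩ := I.subschemeι_app_surjective ⟨U, hU⟩ r₀
    have hr' : (I.subschemeι.app U).hom r = r₀ := hr
    have hru : IsUnit r := isUnit_of_isUnit_app I hI ⟨U, hU⟩ r (by rw [hr']; exact hr₀u)
    refine ⟨⟨⟨U, res L hU₁ e₁, r • res L' hU₂ e₂⟩, hU, hg₁,
      Groth.Agent.Lib.Helper20.UFDPic.isGen_unit_smul hg₂ r hru, ?_⟩, hxU⟩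
    change φ.hom.app (I.subschemeι ⁻¹ᵁ U) (unitSec I.subschemeι L le_rfl (res L hU₁ e₁)) =
      unitSec I.subschemeι L' le_rfl (r • res L' hU₂ e₂)
    rw [unitSec_smul, ← hr₀s]
    congr 1
    rw [Scheme.Hom.appLE_eq_app]
    exact hr'.symm
  have hcov : ⨆ p, W p = ⊤ := by
    refine top_le_iff.1 (fun x _ => ?_)
    obtain ⟨p, hp⟩ := hcovx x
    exact Opens.mem_iSup.2 ⟨p, hp⟩
  -- Step 2: transition functions
  let g : ∀ p q : κ, Γ(X, W p ⊓ W q) := fun p q => coef (he q) inf_le_right (res L inf_le_left (e p))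
  let g' : ∀ p q : κ, Γ(X, W p ⊓ W q) := fun p q => coef (he' q) inf_le_right (res L' inf_le_left (e' p))
  have hg : ∀ p q, res L inf_le_left (e p) = g p q • res L inf_le_right (e q) :=
    fun p q => (coef_spec (he q) inf_le_right _).symm
  have hg' : ∀ p q, res L' inf_le_left (e' p) = g' p q • res L' inf_le_right (e' q) :=
    fun p q => (coef_spec (he' q) inf_le_right _).symm
  have hgu : ∀ p q, IsUnit (g p q) := by
    intro p q
    have h1 : IsGen L (W p ⊓ W q) (res L inf_le_left (e p)) := (he p).mono inf_le_left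
    have h2 : IsGen L (W p ⊓ W q) (res L inf_le_right (e q)) := (he q).mono inf_le_right
    have hu := isUnit_coef_of_isGen h2 h1
    have e1 : g p q = coef h2 le_rfl (res L inf_le_left (e p)) := by
      apply coef_unique h2 le_rfl
      rw [Groth.Agent.Lib.Helper23.SecTw.res_self]
      exact (hg p q).symm
    rw [e1]
    exact hu
  have hdiff : ∀ p q, g' p q - g p q ∈ Kr I (W p ⊓ W q) := by
    intro p q
    have t1 := res_unitSec_of_transition I.subschemeι L (e p) (e q) (g p q) (hg p q)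
    have t2 := res_unitSec_of_transition I.subschemeι L' (e' p) (e' q) (g' p q) (hg' p q)
    have t3 := congrArg (φ.hom.app (I.subschemeι ⁻¹ᵁ W p ⊓ I.subschemeι ⁻¹ᵁ W q)) t1
    rw [Scheme.Modules.Hom.app_smul] at t3
    have n1 : φ.hom.app (I.subschemeι ⁻¹ᵁ W p ⊓ I.subschemeι ⁻¹ᵁ W q)
        (res _ inf_le_left (unitSec I.subschemeι L le_rfl (e p))) =
        res _ inf_le_left (unitSec I.subschemeι L' le_rfl (e' p)) := by
      rw [← hφ p]
      exact app_map φ.hom (homOfLE inf_le_left) _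
    have n2 : φ.hom.app (I.subschemeι ⁻¹ᵁ W p ⊓ I.subschemeι ⁻¹ᵁ W q)
        (res _ inf_le_right (unitSec I.subschemeι L le_rfl (e q))) =
        res _ inf_le_right (unitSec I.subschemeι L' le_rfl (e' q)) := by
      rw [← hφ q]
      exact app_map φ.hom (homOfLE inf_le_right) _
    rw [n1, n2, t2] at t3
    have hgen : IsGen ((Scheme.Modules.pullback I.subschemeι).obj L')
        (I.subschemeι ⁻¹ᵁ W p ⊓ I.subschemeι ⁻¹ᵁ W q)
        (res _ inf_le_right (unitSec I.subschemeι L' le_rfl (e' q))) :=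
      (isGen_unitSec I.subschemeι L' (hWaff q) _ (he' q)).mono inf_le_right
    have t4 := smul_cancel_of_isGen hgen t3
    have t5 : (I.subschemeι.app (W p ⊓ W q)).hom (g' p q) = (I.subschemeι.app (W p ⊓ W q)).hom (g p q) := by
      have h1 : I.subschemeι.appLE (W p ⊓ W q) (I.subschemeι ⁻¹ᵁ (W p ⊓ W q)) le_rfl =
          I.subschemeι.app (W p ⊓ W q) := Scheme.Hom.appLE_eq_app _
      rw [← h1]
      exact t4
    rw [mem_Kr, map_sub, t5, sub_self]
  have hex : ∀ p q, ∃ a : Γ(X, W p ⊓ W q), a ∈ Kr I (W p ⊓ W q) ∧ g' p q = g p q * (1 + a) := by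
    intro p q
    obtain ⟨c, hc⟩ := (hgu p q).exists_left_inv
    refine ⟨c * (g' p q - g p q), Ideal.mul_mem_left _ _ (hdiff p q), ?_⟩
    have : g p q * (1 + c * (g' p q - g p q)) = g p q + (c * g p q) * (g' p q - g p q) := by ring
    rw [this, hc]
    ring
  choose a ha hga using hex
  have hcoc : ∀ k l m,
      resf (le_inf (inf_le_left.trans inf_le_right) inf_le_right : W k ⊓ W l ⊓ W m ≤ W l ⊓ W m) (a l m) -
      resf (le_inf (inf_le_left.trans inf_le_left) inf_le_right : W k ⊓ W l ⊓ W m ≤ W k ⊓ W m) (a k m) +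
      resf (inf_le_left : W k ⊓ W l ⊓ W m ≤ W k ⊓ W l) (a k l) = 0 := by
    intro k l m
    have hkl : W k ⊓ W l ⊓ W m ≤ W k ⊓ W l := inf_le_left
    have hlm : W k ⊓ W l ⊓ W m ≤ W l ⊓ W m := le_inf (inf_le_left.trans inf_le_right) inf_le_right
    have hkm : W k ⊓ W l ⊓ W m ≤ W k ⊓ W m := le_inf (inf_le_left.trans inf_le_left) inf_le_right
    have hTk : W k ⊓ W l ⊓ W m ≤ W k := inf_le_left.trans inf_le_left
    have hTl : W k ⊓ W l ⊓ W m ≤ W l := inf_le_left.trans inf_le_right
    have hTm : W k ⊓ W l ⊓ W m ≤ W m := inf_le_right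
    have mulg : ∀ (M : X.Modules) (ε : ∀ p : κ, Γ(M, W p)) (hε : ∀ p, IsGen M (W p) (ε p))
        (γ : ∀ p q : κ, Γ(X, W p ⊓ W q))
        (hγ : ∀ p q, res M inf_le_left (ε p) = γ p q • res M inf_le_right (ε q)),
        resf hkm (γ k m) = resf hkl (γ k l) * resf hlm (γ l m) := by
      intro M ε hε γ hγ
      have hgenT : IsGen M (W k ⊓ W l ⊓ W m) (res M hTm (ε m)) := (hε m).mono hTm
      apply smul_cancel_of_isGen hgenT
      have l1 : resf hkm (γ k m) • res M hTm (ε m) = res M hTk (ε k) := by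
        have := congrArg (res M hkm) (hγ k m)
        rw [res_res, res_smul, res_res] at this
        exact this.symm
      have l2 : resf hkl (γ k l) • res M hTl (ε l) = res M hTk (ε k) := by
        have := congrArg (res M hkl) (hγ k l)
        rw [res_res, res_smul, res_res] at this
        exact this.symm
      have l3 : resf hlm (γ l m) • res M hTm (ε m) = res M hTl (ε l) := by
        have := congrArg (res M hlm) (hγ l m)
        rw [res_res, res_smul, res_res] at this
        exact this.symm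
      rw [l1, mul_smul, l3, l2]
    have m1 := mulg L e he g hg
    have m2 := mulg L' e' he' g' hg'
    have e1 : resf hkm (g' k m) = resf hkm (g k m) * (1 + resf hkm (a k m)) := by
      rw [hga k m, resf_mul', resf_add', resf_one']
    have e2 : resf hkl (g' k l) = resf hkl (g k l) * (1 + resf hkl (a k l)) := by
      rw [hga k l, resf_mul', resf_add', resf_one']
    have e3 : resf hlm (g' l m) = resf hlm (g l m) * (1 + resf hlm (a l m)) := by
      rw [hga l m, resf_mul', resf_add', resf_one']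
    have hu : IsUnit (resf hkl (g k l) * resf hlm (g l m)) :=
      ((hgu k l).map _).mul ((hgu l m).map _)
    have main : (1 + resf hkl (a k l)) * (1 + resf hlm (a l m)) = 1 + resf hkm (a k m) := by
      apply hu.mul_left_cancel
      calc resf hkl (g k l) * resf hlm (g l m) * ((1 + resf hkl (a k l)) * (1 + resf hlm (a l m)))
          = (resf hkl (g k l) * (1 + resf hkl (a k l))) * (resf hlm (g l m) * (1 + resf hlm (a l m))) := by
            ring
        _ = resf hkl (g' k l) * resf hlm (g' l m) := by rw [← e2, ← e3]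
        _ = resf hkm (g' k m) := m2.symm
        _ = resf hkm (g k m) * (1 + resf hkm (a k m)) := e1
        _ = resf hkl (g k l) * resf hlm (g l m) * (1 + resf hkm (a k m)) := by rw [m1]
    have z : resf hkl (a k l) * resf hlm (a l m) = 0 :=
      mul_eq_zero_of_mem_Kr I hI (resf_mem_Kr I hkl (ha k l)) (resf_mem_Kr I hlm (ha l m))
    linear_combination main - z
  -- Step 3: correct the frames of `L'` by the coboundary
  obtain ⟨b, hbK, hb⟩ := hH κ W hWaff hcov a ha hcoc
  obtain ⟨Φ, -⟩ := exists_iso_of_frames L L' W hcovx e (fun p => (1 + b p) • e' p) he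
    (fun p => Groth.Agent.Lib.Helper20.UFDPic.isGen_unit_smul (he' p) _ (isUnit_one_add I hI (hbK p)))
    (fun p q => by
      refine cocycle_of_transition (he q) (g p q) (hg p q) ?_
      rw [res_smul, res_smul, hg' p q, hga p q, smul_smul, smul_smul]
      congr 1
      have hbp := resf_mem_Kr I (inf_le_left : W p ⊓ W q ≤ W p) (hbK p)
      have hbq := resf_mem_Kr I (inf_le_right : W p ⊓ W q ≤ W q) (hbK q)
      have z1 := mul_eq_zero_of_mem_Kr I hI hbp hbq
      have z2 := mul_eq_zero_of_mem_Kr I hI hbp hbp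
      rw [resf_add', resf_one', resf_add', resf_one', hb p q]
      linear_combination (g p q) * z1 - (g p q) * z2)
  exact ⟨Φ⟩

/-- the same when `H¹(X, I) = 0` -/
theorem nonempty_iso_of_pullback_iso_of_H1 (hI : I * I = ⊥)
    (h1 : Subsingleton (Coh.HH X (ClSub.idealMod I) 1))
    (L L' : X.Modules) (hL : PicF.IsInvertible L) (hL' : PicF.IsInvertible L')
    (φ : (Scheme.Modules.pullback I.subschemeι).obj L ≅ (Scheme.Modules.pullback I.subschemeι).obj L') :
    Nonempty (L ≅ L') :=
  nonempty_iso_of_pullback_iso hI (h1Van_of_subsingleton I h1) L L' hL hL' φ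

end main

end Groth.Agent.Lib.T2H5.SqZeroPic
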