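import Groth.Agent.Lib.T2H5SqZeroPicB
import Groth.Agent.Lib.T2H5CechH2
import Groth.Agent.Lib.T2H4CocycleMod
import Groth.Agent.S0013

/-!
# Lifting invertible modules along a square-zero thickening (helper5)

`X` a separated scheme, `I` a quasi-coherent ideal with `I * I = ⊥`, `i : X₀ ⟶ X` the closed subscheme.

* `surjective_subschemeι`: a square-zero thickening is a homeomorphism on points (surjectivity);
* `appLE_surjective'`, `appLE_eq_zero_iff`, `isUnit_of_isUnit_appLE`, `appLE_resf`: functions on `A ⊆ X` and on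
  `i⁻¹A`;
* `H2Van I`: additive Čech 2-cocycles on affine coverings with values in the functions vanishing on `X₀` are
  coboundaries; `h2Van_of_subsingleton_pullback`: this holds when `H²(X₀, i^*I) = 0` and `X` is separated;
* `transition_mul`: multiplicativity of the transition functions of a family of frames.
-/

set_option autoImplicit false
set_option backward.isDefEq.respectTransparency.types false
set_option linter.style.haveILetI false
set_option linter.unusedSectionVars false
set_option linter.unusedVariables false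
universe u

open CategoryTheory CategoryTheory.Limits AlgebraicGeometry TopologicalSpace Opposite

namespace Groth.Agent.Lib.T2H5.SqZeroPic

open Groth.Agent.Lib.Helper6 Groth.Agent.Lib.Helper23.SecTw Groth.Agent.Lib.Helper23.GenLocus
  Groth.Agent.Lib.Helper23.PB Groth.Agent.Helper13PullbackUnit Groth.Agent.Lib.Helper23.Extend
  Groth.Agent.Lib.Helper20.IdealModSec Groth.Agent.Lib.T2H5.CechH2

variable {X : Scheme.{u}} (I : X.IdealSheafData)

section basics

theorem surjective_subschemeι (hI : I * I = ⊥) : Function.Surjective I.subschemeι := by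
  have h1 : Set.range I.subschemeι = (I.support : Set X) := I.range_subschemeι
  have h2 : (I * I).support = I.support ⊔ I.support := Scheme.IdealSheafData.support_mul I I
  rw [hI, Scheme.IdealSheafData.support_bot, sup_idem] at h2
  rw [← h2] at h1
  intro x
  have : x ∈ Set.range I.subschemeι := by rw [h1]; trivial
  exact this

instance isSeparated_subscheme [X.IsSeparated] : I.subscheme.IsSeparated := by
  have h : terminal.from I.subscheme = I.subschemeι ≫ terminal.from X := Subsingleton.elim _ _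
  refine ⟨?_⟩
  rw [h]
  infer_instance

variable {A : X.Opens} {B : I.subscheme.Opens} (hle : B ≤ I.subschemeι ⁻¹ᵁ A)
  (hge : I.subschemeι ⁻¹ᵁ A ≤ B)

include hge in
theorem appLE_surjective' (hA : IsAffineOpen A) :
    Function.Surjective (I.subschemeι.appLE A B hle).hom := by
  obtain rfl : B = I.subschemeι ⁻¹ᵁ A := le_antisymm hle hge
  exact appLE_self_surjective I hA

include hge in
theorem appLE_eq_zero_iff (r : Γ(X, A)) : (I.subschemeι.appLE A B hle).hom r = 0 ↔ r ∈ Kr I A := by
  obtain rfl : B = I.subschemeι ⁻¹ᵁ A := le_antisymm hle hge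
  rw [Scheme.Hom.appLE_eq_app, mem_Kr]

include hge in
theorem isUnit_of_isUnit_appLE (hI : I * I = ⊥) (hA : IsAffineOpen A) (r : Γ(X, A))
    (h : IsUnit ((I.subschemeι.appLE A B hle).hom r)) : IsUnit r := by
  obtain rfl : B = I.subschemeι ⁻¹ᵁ A := le_antisymm hle hge
  rw [Scheme.Hom.appLE_eq_app] at h
  exact isUnit_of_isUnit_app I hI ⟨A, hA⟩ r h

include hle hge in
theorem isAffineOpen_of_le_of_ge (hA : IsAffineOpen A) : IsAffineOpen B := by
  obtain rfl : B = I.subschemeι ⁻¹ᵁ A := le_antisymm hle hge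
  exact hA.preimage I.subschemeι

theorem appLE_resf {Y Z : Scheme.{u}} (f : Y ⟶ Z) {A A' : Z.Opens} {B B' : Y.Opens}
    (hle : B ≤ f ⁻¹ᵁ A) (hle' : B' ≤ f ⁻¹ᵁ A') (hA : A' ≤ A) (hB : B' ≤ B) (r : Γ(Z, A)) :
    (f.appLE A' B' hle').hom (resf hA r) = resf hB ((f.appLE A B hle).hom r) := by
  have h1 : Z.presheaf.map (homOfLE hA).op ≫ f.appLE A' B' hle' =
      f.appLE A B' (hB.trans hle) := Scheme.Hom.map_appLE f hle' (homOfLE hA).op
  have h2 : f.appLE A B hle ≫ Y.presheaf.map (homOfLE hB).op = f.appLE A B' (hB.trans hle) :=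
    Scheme.Hom.appLE_map f hle (homOfLE hB).op
  exact congrArg (fun φ => φ.hom r) (h1.trans h2.symm)

include hge in
theorem unitSec_ideal_surjective' (hA : IsAffineOpen A) :
    Function.Surjective (unitSec I.subschemeι (ClSub.idealMod I) hle) :=
  unitSec_surjective_of_affine I.subschemeι (ClSub.idealMod I) hA
    (isAffineOpen_of_le_of_ge I hle hge hA) hle (appLE_surjective' I hle hge hA)

end basics

section H2

/-- additive Čech 2-cocycles, on affine coverings, with values in the functions vanishing on `X₀` are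
coboundaries of 1-cochains with values in the functions vanishing on `X₀` -/
def H2Van (I : X.IdealSheafData) : Prop :=
  ∀ (κ : Type u) (W : κ → X.Opens), (∀ k, IsAffineOpen (W k)) → (⨆ k, W k = ⊤) →
    ∀ a : ∀ k l m, Γ(X, W k ⊓ W l ⊓ W m),
    (∀ k l m, a k l m ∈ Kr I (W k ⊓ W l ⊓ W m)) →
    (∀ k l m n,
      resf (le4_123 W k l m n) (a l m n) - resf (le4_023 W k l m n) (a k m n) +
      resf (le4_013 W k l m n) (a k l n) - resf (le4_012 W k l m n) (a k l m) = 0) →
    ∃ b : ∀ k l, Γ(X, W k ⊓ W l), (∀ k l, b k l ∈ Kr I (W k ⊓ W l)) ∧ ∀ k l m,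
      a k l m =
        resf (le_inf (inf_le_left.trans inf_le_right) inf_le_right : W k ⊓ W l ⊓ W m ≤ W l ⊓ W m) (b l m) -
        resf (le_inf (inf_le_left.trans inf_le_left) inf_le_right : W k ⊓ W l ⊓ W m ≤ W k ⊓ W m) (b k m) +
        resf (inf_le_left : W k ⊓ W l ⊓ W m ≤ W k ⊓ W l) (b k l)

/-- **Interface**: if `H²(Y, M) = 0` for a quasi-coherent `M`, every Čech 2-cocycle of `M` on an open covering with
affine finite intersections is a coboundary. -/
theorem exists_coboundary2_of_subsingleton (Y : Scheme.{u}) (M : Y.Modules) [M.IsQuasicoherent]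
    (h : Subsingleton (Coh.HH Y M 2)) {κ : Type u} (V : κ → Y.Opens) (hcov : ⨆ i, V i = ⊤)
    (hVfin : ∀ s : Finset κ, s.Nonempty → IsAffineOpen (⨅ i ∈ s, V i))
    (a : ∀ k l m, M.presheaf.obj (op (V k ⊓ V l ⊓ V m)))
    (hcoc : ∀ k l m n,
      M.presheaf.map (homOfLE (le4_123 V k l m n)).op (a l m n) -
      M.presheaf.map (homOfLE (le4_023 V k l m n)).op (a k m n) +
      M.presheaf.map (homOfLE (le4_013 V k l m n)).op (a k l n) -
      M.presheaf.map (homOfLE (le4_012 V k l m n)).op (a k l m) = 0) :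
    ∃ b : ∀ k l, M.presheaf.obj (op (V k ⊓ V l)), ∀ k l m,
      a k l m =
        M.presheaf.map (homOfLE (le_inf (inf_le_left.trans inf_le_right) inf_le_right :
          V k ⊓ V l ⊓ V m ≤ V l ⊓ V m)).op (b l m) -
        M.presheaf.map (homOfLE (le_inf (inf_le_left.trans inf_le_left) inf_le_right :
          V k ⊓ V l ⊓ V m ≤ V k ⊓ V m)).op (b k m) +
        M.presheaf.map (homOfLE (inf_le_left : V k ⊓ V l ⊓ V m ≤ V k ⊓ V l)).op (b k l) := by
  obtain ⟨e⟩ := Groth.Agent.S0013.result Y V hcov hVfin M 2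
  have hz : IsZero (CohB1.cechH V M 2) := by
    haveI : Subsingleton (CohB1.cechH V M 2) := ⟨fun x y => e.injective (Subsingleton.elim _ _)⟩
    exact AddCommGrpCat.isZero_of_subsingleton _
  exact exists_coboundary2 M.presheaf V hz a hcoc

/-- **`H²(X₀, i^*I) = 0` gives the Čech vanishing property on a separated scheme.** -/
theorem h2Van_of_subsingleton_pullback [X.IsSeparated] (hI : I * I = ⊥)
    (h : Subsingleton (Coh.HH I.subscheme
      ((Scheme.Modules.pullback I.subschemeι).obj (ClSub.idealMod I)) 2)) : H2Van I := by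
  intro κ W hWaff hcov a ha hcoc
  choose α hα using fun k l m => exists_kap_eq I (W k ⊓ W l ⊓ W m) (a k l m) (ha k l m)
  let V : κ → I.subscheme.Opens := fun k => I.subschemeι ⁻¹ᵁ W k
  have hcov₀ : ⨆ k, V k = ⊤ := I.subschemeι.iSup_preimage_eq_top hcov
  have hVaff : ∀ k, IsAffineOpen (V k) := fun k => (hWaff k).preimage I.subschemeι
  have hVfin : ∀ s : Finset κ, s.Nonempty → IsAffineOpen (⨅ i ∈ s, V i) := fun s hs =>
    IsAffineOpen.biInf (s : Set κ) s.finite_toSet hs (fun i _ => hVaff i)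
  have hle2 : ∀ k l, V k ⊓ V l ≤ I.subschemeι ⁻¹ᵁ (W k ⊓ W l) := fun k l _ hx => hx
  have hge2 : ∀ k l, I.subschemeι ⁻¹ᵁ (W k ⊓ W l) ≤ V k ⊓ V l := fun k l _ hx => hx
  have hle3 : ∀ k l m, V k ⊓ V l ⊓ V m ≤ I.subschemeι ⁻¹ᵁ (W k ⊓ W l ⊓ W m) := fun k l m _ hx => hx
  have hge3 : ∀ k l m, I.subschemeι ⁻¹ᵁ (W k ⊓ W l ⊓ W m) ≤ V k ⊓ V l ⊓ V m := fun k l m _ hx => hx
  have hle4 : ∀ k l m n, V k ⊓ V l ⊓ V m ⊓ V n ≤ I.subschemeι ⁻¹ᵁ (W k ⊓ W l ⊓ W m ⊓ W n) :=
    fun k l m n _ hx => hx
  haveI : ((Scheme.Modules.pullback I.subschemeι).obj (ClSub.idealMod I)).IsQuasicoherent :=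
    Groth.Agent.Lib.Helper2.PullbackSec.isQuasicoherent_pullback I.subschemeι (ClSub.idealMod I)
  -- the cocycle condition upstairs, in the ideal module
  have hcocα : ∀ k l m n,
      res (ClSub.idealMod I) (le4_123 W k l m n) (α l m n) -
      res (ClSub.idealMod I) (le4_023 W k l m n) (α k m n) +
      res (ClSub.idealMod I) (le4_013 W k l m n) (α k l n) -
      res (ClSub.idealMod I) (le4_012 W k l m n) (α k l m) = 0 := by
    intro k l m n
    apply kap_injective I
    rw [kap_sub, kap_add, kap_sub, kap_zero, kap_res, kap_res, kap_res, kap_res, hα, hα, hα, hα]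
    exact hcoc k l m n
  obtain ⟨βbar, hβbar⟩ := exists_coboundary2_of_subsingleton I.subscheme
    ((Scheme.Modules.pullback I.subschemeι).obj (ClSub.idealMod I)) h V hcov₀ hVfin
    (fun k l m => unitSec I.subschemeι (ClSub.idealMod I) (hle3 k l m) (α k l m)) (fun k l m n => by
      have e1 := res_unitSec I.subschemeι (ClSub.idealMod I) (hle3 l m n) (hle4 k l m n)
        (le4_123 W k l m n) (le4_123 V k l m n) (α l m n)
      have e2 := res_unitSec I.subschemeι (ClSub.idealMod I) (hle3 k m n) (hle4 k l m n)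
        (le4_023 W k l m n) (le4_023 V k l m n) (α k m n)
      have e3 := res_unitSec I.subschemeι (ClSub.idealMod I) (hle3 k l n) (hle4 k l m n)
        (le4_013 W k l m n) (le4_013 V k l m n) (α k l n)
      have e4 := res_unitSec I.subschemeι (ClSub.idealMod I) (hle3 k l m) (hle4 k l m n)
        (le4_012 W k l m n) (le4_012 V k l m n) (α k l m)
      refine (congrArg₂ (· - ·) (congrArg₂ (· + ·) (congrArg₂ (· - ·) e1 e2) e3) e4).trans ?_
      change unitSec I.subschemeι (ClSub.idealMod I) (hle4 k l m n) _ -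
        unitSec I.subschemeι (ClSub.idealMod I) (hle4 k l m n) _ +
        unitSec I.subschemeι (ClSub.idealMod I) (hle4 k l m n) _ -
        unitSec I.subschemeι (ClSub.idealMod I) (hle4 k l m n) _ = 0
      rw [← map_sub, ← map_add, ← map_sub, hcocα k l m n, map_zero])
  -- the coboundary comes from the ideal module
  choose β hβ using fun k l => unitSec_ideal_surjective' I (hle2 k l) (hge2 k l)
    ((hWaff k).inf (hWaff l)) (βbar k l)
  refine ⟨fun k l => kap I (W k ⊓ W l) (β k l), fun k l => kap_mem I _ _, fun k l m => ?_⟩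
  have key : α k l m - (res (ClSub.idealMod I) (le_inf (inf_le_left.trans inf_le_right) inf_le_right :
        W k ⊓ W l ⊓ W m ≤ W l ⊓ W m) (β l m) -
      res (ClSub.idealMod I) (le_inf (inf_le_left.trans inf_le_left) inf_le_right :
        W k ⊓ W l ⊓ W m ≤ W k ⊓ W m) (β k m) +
      res (ClSub.idealMod I) (inf_le_left : W k ⊓ W l ⊓ W m ≤ W k ⊓ W l) (β k l)) = 0 := by
    refine unitSec_ideal_eq_zero I hI (hle3 k l m) (hge3 k l m) _ ?_
    rw [map_sub, map_add, map_sub]
    have e1 := res_unitSec I.subschemeι (ClSub.idealMod I) (hle2 l m) (hle3 k l m)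
      (le_inf (inf_le_left.trans inf_le_right) inf_le_right : W k ⊓ W l ⊓ W m ≤ W l ⊓ W m)
      (le_inf (inf_le_left.trans inf_le_right) inf_le_right : V k ⊓ V l ⊓ V m ≤ V l ⊓ V m) (β l m)
    have e2 := res_unitSec I.subschemeι (ClSub.idealMod I) (hle2 k m) (hle3 k l m)
      (le_inf (inf_le_left.trans inf_le_left) inf_le_right : W k ⊓ W l ⊓ W m ≤ W k ⊓ W m)
      (le_inf (inf_le_left.trans inf_le_left) inf_le_right : V k ⊓ V l ⊓ V m ≤ V k ⊓ V m) (β k m)
    have e3 := res_unitSec I.subschemeι (ClSub.idealMod I) (hle2 k l) (hle3 k l m)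
      (inf_le_left : W k ⊓ W l ⊓ W m ≤ W k ⊓ W l)
      (inf_le_left : V k ⊓ V l ⊓ V m ≤ V k ⊓ V l) (β k l)
    rw [← e1, ← e2, ← e3, hβ, hβ, hβ, sub_eq_zero]
    exact hβbar k l m
  rw [sub_eq_zero] at key
  rw [← hα k l m, key, kap_add, kap_sub, kap_res, kap_res, kap_res]

end H2

section lift

open Groth.Agent.Lib.T2H4.CocycleMod

/-- multiplicativity of transition functions of frames -/
theorem transition_mul {Y : Scheme.{u}} (M : Y.Modules) {κ : Type*} (W : κ → Y.Opens)
    (ε : ∀ p, Γ(M, W p)) (hε : ∀ p, IsGen M (W p) (ε p)) (γ : ∀ p q, Γ(Y, W p ⊓ W q))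
    (hγ : ∀ p q, res M inf_le_left (ε p) = γ p q • res M inf_le_right (ε q)) (k l m : κ) :
    resf (le_inf (inf_le_left.trans inf_le_left) inf_le_right : W k ⊓ W l ⊓ W m ≤ W k ⊓ W m) (γ k m) =
      resf (inf_le_left : W k ⊓ W l ⊓ W m ≤ W k ⊓ W l) (γ k l) *
      resf (le_inf (inf_le_left.trans inf_le_right) inf_le_right : W k ⊓ W l ⊓ W m ≤ W l ⊓ W m)
        (γ l m) := by
  have hkl : W k ⊓ W l ⊓ W m ≤ W k ⊓ W l := inf_le_left
  have hlm : W k ⊓ W l ⊓ W m ≤ W l ⊓ W m := le_inf (inf_le_left.trans inf_le_right) inf_le_right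
  have hkm : W k ⊓ W l ⊓ W m ≤ W k ⊓ W m := le_inf (inf_le_left.trans inf_le_left) inf_le_right
  have hTk : W k ⊓ W l ⊓ W m ≤ W k := inf_le_left.trans inf_le_left
  have hTl : W k ⊓ W l ⊓ W m ≤ W l := inf_le_left.trans inf_le_right
  have hTm : W k ⊓ W l ⊓ W m ≤ W m := inf_le_right
  have hgenT : IsGen M (W k ⊓ W l ⊓ W m) (res M hTm (ε m)) := (hε m).mono hTm
  apply smul_cancel_of_isGen hgenT
  have l1 : resf hkm (γ k m) • res M hTm (ε m) = res M hTk (ε k) := by
    have := congrArg (res M hkm) (hγ k m)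
    rw [res_res, res_smul, res_res] at this
    exact this.symm
  have l2 : resf hkl (γ k l) • res M hTl (ε l) = res M hTk (ε k) := by
    have := congrArg (res M hkl) (hγ k l)
    rw [res_res, res_smul, res_res] at this
    exact this.symm
  have l3 : resf hlm (γ l m) • res M hTm (ε m) = res M hTl (ε l) := by
    have := congrArg (res M hlm) (hγ l m)
    rw [res_res, res_smul, res_res] at this
    exact this.symm
  rw [l1, mul_smul, l3, l2]

end lift

end Groth.Agent.Lib.T2H5.SqZeroPic
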