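import Groth.Agent.Lib.T2H5SqZeroPicC

/-!
# Lifting invertible modules along a square-zero thickening, II (helper5)

`exists_invertible_lift`: `X` separated, `I * I = ⊥`, under `H2Van I` every invertible module on `X₀` is the
restriction of an invertible module on `X`.
-/

set_option autoImplicit false
set_option backward.isDefEq.respectTransparency.types false
set_option linter.style.haveILetI false
set_option linter.unusedSectionVars false
set_option linter.unusedVariables false
universe u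

open CategoryTheory CategoryTheory.Limits AlgebraicGeometry TopologicalSpace Opposite

namespace Groth.Agent.Lib.T2H5.SqZeroPic

open Groth.Agent.Lib.Helper6 Groth.Agent.Lib.Helper23.SecTw Groth.Agent.Lib.Helper23.GenLocus
  Groth.Agent.Lib.Helper23.PB Groth.Agent.Helper13PullbackUnit Groth.Agent.Lib.Helper23.Extend
  Groth.Agent.Lib.Helper20.IdealModSec Groth.Agent.Lib.T2H5.CechH2

variable {X : Scheme.{u}} {I : X.IdealSheafData}

section lift

open Groth.Agent.Lib.T2H4.CocycleMod

/-- **Every invertible module on `X₀` lifts to the square-zero thickening `X`** when additive Čech 2-cocycles in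
the ideal are coboundaries. -/
theorem exists_invertible_lift [X.IsSeparated] (hI : I * I = ⊥) (hH : H2Van I)
    (L₀ : I.subscheme.Modules) (hL₀ : PicF.IsInvertible L₀) :
    ∃ L : X.Modules, PicF.IsInvertible L ∧
      Nonempty ((Scheme.Modules.pullback I.subschemeι).obj L ≅ L₀) := by
  classical
  -- index type: affine opens of `X` with a frame of `L₀` over the preimage
  let κ : Type u := {p : Σ W : X.Opens, Γ(L₀, I.subschemeι ⁻¹ᵁ W) //
    IsAffineOpen p.1 ∧ IsGen L₀ (I.subschemeι ⁻¹ᵁ p.1) p.2}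
  let W : κ → X.Opens := fun p => p.1.1
  let V : κ → I.subscheme.Opens := fun p => I.subschemeι ⁻¹ᵁ W p
  let ε : ∀ p : κ, Γ(L₀, V p) := fun p => p.1.2
  have hWaff : ∀ p, IsAffineOpen (W p) := fun p => p.2.1
  have hε : ∀ p, IsGen L₀ (V p) (ε p) := fun p => p.2.2
  -- Step 1: these opens cover `X`
  have hcovx : ∀ x : X, ∃ p : κ, x ∈ W p := by
    intro x
    obtain ⟨x₀, rfl⟩ := surjective_subschemeι I hI x
    obtain ⟨U₀, e₀, hx₀, -, he₀⟩ := exists_affine_gen L₀ hL₀ x₀
    obtain ⟨T, hT, hTU⟩ := I.subschemeι.isClosedEmbedding.isInducing.isOpen_iff.1 U₀.2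
    have hxT : I.subschemeι x₀ ∈ (⟨T, hT⟩ : X.Opens) := by
      change x₀ ∈ I.subschemeι ⁻¹' T
      rw [hTU]
      exact hx₀
    obtain ⟨A, hA, hxA, hAT⟩ := exists_isAffineOpen_mem_and_subset (x := I.subschemeι x₀)
      (U := (⟨T, hT⟩ : X.Opens)) hxT
    have hAU : I.subschemeι ⁻¹ᵁ A ≤ U₀ := by
      intro y hy
      have h1 : y ∈ I.subschemeι ⁻¹' T := hAT hy
      rw [hTU] at h1
      exact h1
    exact ⟨⟨⟨A, res L₀ hAU e₀⟩, hA, he₀.mono hAU⟩, hxA⟩
  have hcov : ⨆ p, W p = ⊤ := by
    refine top_le_iff.1 (fun x _ => ?_)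
    obtain ⟨p, hp⟩ := hcovx x
    exact Opens.mem_iSup.2 ⟨p, hp⟩
  have hcovx₀ : ∀ x₀ : I.subscheme, ∃ p : κ, x₀ ∈ V p := fun x₀ => hcovx (I.subschemeι x₀)
  have hle2 : ∀ k l, V k ⊓ V l ≤ I.subschemeι ⁻¹ᵁ (W k ⊓ W l) := fun k l _ hx => hx
  have hge2 : ∀ k l, I.subschemeι ⁻¹ᵁ (W k ⊓ W l) ≤ V k ⊓ V l := fun k l _ hx => hx
  have hle3 : ∀ k l m, V k ⊓ V l ⊓ V m ≤ I.subschemeι ⁻¹ᵁ (W k ⊓ W l ⊓ W m) := fun k l m _ hx => hx
  have hge3 : ∀ k l m, I.subschemeι ⁻¹ᵁ (W k ⊓ W l ⊓ W m) ≤ V k ⊓ V l ⊓ V m := fun k l m _ hx => hx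
  have hW2aff : ∀ k l, IsAffineOpen (W k ⊓ W l) := fun k l => (hWaff k).inf (hWaff l)
  -- Step 2: the transition functions downstairs and their lifts
  let gb : ∀ p q : κ, Γ(I.subscheme, V p ⊓ V q) :=
    fun p q => coef (hε q) inf_le_right (res L₀ inf_le_left (ε p))
  have hgb : ∀ p q, res L₀ inf_le_left (ε p) = gb p q • res L₀ inf_le_right (ε q) :=
    fun p q => (coef_spec (hε q) inf_le_right _).symm
  have hgbu : ∀ p q, IsUnit (gb p q) := by
    intro p q
    have h1 : IsGen L₀ (V p ⊓ V q) (res L₀ inf_le_left (ε p)) := (hε p).mono inf_le_left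
    have h2 : IsGen L₀ (V p ⊓ V q) (res L₀ inf_le_right (ε q)) := (hε q).mono inf_le_right
    have hu := isUnit_coef_of_isGen h2 h1
    have e1 : gb p q = coef h2 le_rfl (res L₀ inf_le_left (ε p)) := by
      apply coef_unique h2 le_rfl
      rw [Groth.Agent.Lib.Helper23.SecTw.res_self]
      exact (hgb p q).symm
    rw [e1]
    exact hu
  have hgbmul := transition_mul L₀ V ε hε gb hgb
  choose G hG using fun p q => appLE_surjective' I (hle2 p q) (hge2 p q) (hW2aff p q) (gb p q)
  have hGu : ∀ p q, IsUnit (G p q) := fun p q =>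
    isUnit_of_isUnit_appLE I (hle2 p q) (hge2 p q) hI (hW2aff p q) (G p q)
      (by rw [hG p q]; exact hgbu p q)
  -- Step 3: the defect of multiplicativity
  have hex : ∀ k l m, ∃ c : Γ(X, W k ⊓ W l ⊓ W m), c ∈ Kr I (W k ⊓ W l ⊓ W m) ∧
      resf (inf_le_left : W k ⊓ W l ⊓ W m ≤ W k ⊓ W l) (G k l) *
        resf (le_inf (inf_le_left.trans inf_le_right) inf_le_right : W k ⊓ W l ⊓ W m ≤ W l ⊓ W m) (G l m) =
      resf (le_inf (inf_le_left.trans inf_le_left) inf_le_right : W k ⊓ W l ⊓ W m ≤ W k ⊓ W m) (G k m) *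
        (1 + c) := by
    intro k l m
    have hkl : W k ⊓ W l ⊓ W m ≤ W k ⊓ W l := inf_le_left
    have hlm : W k ⊓ W l ⊓ W m ≤ W l ⊓ W m := le_inf (inf_le_left.trans inf_le_right) inf_le_right
    have hkm : W k ⊓ W l ⊓ W m ≤ W k ⊓ W m := le_inf (inf_le_left.trans inf_le_left) inf_le_right
    have hkl' : V k ⊓ V l ⊓ V m ≤ V k ⊓ V l := inf_le_left
    have hlm' : V k ⊓ V l ⊓ V m ≤ V l ⊓ V m := le_inf (inf_le_left.trans inf_le_right) inf_le_right
    have hkm' : V k ⊓ V l ⊓ V m ≤ V k ⊓ V m := le_inf (inf_le_left.trans inf_le_left) inf_le_right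
    have hdiff : resf hkl (G k l) * resf hlm (G l m) - resf hkm (G k m) ∈ Kr I (W k ⊓ W l ⊓ W m) := by
      rw [← appLE_eq_zero_iff I (hle3 k l m) (hge3 k l m), map_sub, map_mul,
        appLE_resf I.subschemeι (hle2 k l) (hle3 k l m) hkl hkl',
        appLE_resf I.subschemeι (hle2 l m) (hle3 k l m) hlm hlm',
        appLE_resf I.subschemeι (hle2 k m) (hle3 k l m) hkm hkm', hG, hG, hG, sub_eq_zero]
      exact (hgbmul k l m).symm
    have hu : IsUnit (resf hkm (G k m)) := (hGu k m).map _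
    obtain ⟨u, hu'⟩ := hu.exists_left_inv
    refine ⟨u * (resf hkl (G k l) * resf hlm (G l m) - resf hkm (G k m)),
      Ideal.mul_mem_left _ _ hdiff, ?_⟩
    have : resf hkm (G k m) * (1 + u * (resf hkl (G k l) * resf hlm (G l m) - resf hkm (G k m))) =
        resf hkm (G k m) + (u * resf hkm (G k m)) *
          (resf hkl (G k l) * resf hlm (G l m) - resf hkm (G k m)) := by ring
    rw [this, hu']
    ring
  choose c hcK hc using hex
  -- Step 4: the defect is an additive 2-cocycle
  have hcoc : ∀ k l m n,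
      resf (le4_123 W k l m n) (c l m n) - resf (le4_023 W k l m n) (c k m n) +
      resf (le4_013 W k l m n) (c k l n) - resf (le4_012 W k l m n) (c k l m) = 0 := by
    intro k l m n
    have qkl : W k ⊓ W l ⊓ W m ⊓ W n ≤ W k ⊓ W l := inf_le_left.trans inf_le_left
    have qlm : W k ⊓ W l ⊓ W m ⊓ W n ≤ W l ⊓ W m :=
      inf_le_left.trans (le_inf (inf_le_left.trans inf_le_right) inf_le_right)
    have qmn : W k ⊓ W l ⊓ W m ⊓ W n ≤ W m ⊓ W n := le_inf (inf_le_left.trans inf_le_right) inf_le_right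
    have qkm : W k ⊓ W l ⊓ W m ⊓ W n ≤ W k ⊓ W m :=
      inf_le_left.trans (le_inf (inf_le_left.trans inf_le_left) inf_le_right)
    have qln : W k ⊓ W l ⊓ W m ⊓ W n ≤ W l ⊓ W n :=
      le_inf (inf_le_left.trans (inf_le_left.trans inf_le_right)) inf_le_right
    have qkn : W k ⊓ W l ⊓ W m ⊓ W n ≤ W k ⊓ W n :=
      le_inf (inf_le_left.trans (inf_le_left.trans inf_le_left)) inf_le_right
    have hlmn : resf qlm (G l m) * resf qmn (G m n) =
        resf qln (G l n) * (1 + resf (le4_123 W k l m n) (c l m n)) := by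
      have := congrArg (resf (le4_123 W k l m n)) (hc l m n)
      rw [resf_mul', resf_mul', resf_add', resf_one', resf_resf, resf_resf, resf_resf] at this
      exact this
    have hkmn : resf qkm (G k m) * resf qmn (G m n) =
        resf qkn (G k n) * (1 + resf (le4_023 W k l m n) (c k m n)) := by
      have := congrArg (resf (le4_023 W k l m n)) (hc k m n)
      rw [resf_mul', resf_mul', resf_add', resf_one', resf_resf, resf_resf, resf_resf] at this
      exact this
    have hkln : resf qkl (G k l) * resf qln (G l n) =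
        resf qkn (G k n) * (1 + resf (le4_013 W k l m n) (c k l n)) := by
      have := congrArg (resf (le4_013 W k l m n)) (hc k l n)
      rw [resf_mul', resf_mul', resf_add', resf_one', resf_resf, resf_resf, resf_resf] at this
      exact this
    have hklm : resf qkl (G k l) * resf qlm (G l m) =
        resf qkm (G k m) * (1 + resf (le4_012 W k l m n) (c k l m)) := by
      have := congrArg (resf (le4_012 W k l m n)) (hc k l m)
      rw [resf_mul', resf_mul', resf_add', resf_one', resf_resf, resf_resf, resf_resf] at this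
      exact this
    have hF : IsUnit (resf qkn (G k n)) := (hGu k n).map _
    have z13 : resf (le4_123 W k l m n) (c l m n) * resf (le4_013 W k l m n) (c k l n) = 0 :=
      mul_eq_zero_of_mem_Kr I hI (resf_mem_Kr I _ (hcK l m n)) (resf_mem_Kr I _ (hcK k l n))
    have z24 : resf (le4_023 W k l m n) (c k m n) * resf (le4_012 W k l m n) (c k l m) = 0 :=
      mul_eq_zero_of_mem_Kr I hI (resf_mem_Kr I _ (hcK k m n)) (resf_mem_Kr I _ (hcK k l m))
    have key : resf qkn (G k n) * (resf (le4_123 W k l m n) (c l m n) - resf (le4_023 W k l m n) (c k m n) +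
        resf (le4_013 W k l m n) (c k l n) - resf (le4_012 W k l m n) (c k l m)) = 0 := by
      linear_combination (resf qmn (G m n)) * hklm +
        (1 + resf (le4_012 W k l m n) (c k l m)) * hkmn - (resf qkl (G k l)) * hlmn -
        (1 + resf (le4_123 W k l m n) (c l m n)) * hkln - (resf qkn (G k n)) * z13 +
        (resf qkn (G k n)) * z24
    exact hF.mul_right_eq_zero.1 key
  -- Step 5: correct the lifts by the coboundary
  obtain ⟨b, hbK, hb⟩ := hH κ W hWaff hcov c hcK hcoc
  have hηu : ∀ k l, IsUnit (G k l * (1 + -b k l)) := fun k l =>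
    (hGu k l).mul (isUnit_one_add I hI (neg_mem (hbK k l)))
  let η : ∀ k l, (Γ(X, W k ⊓ W l))ˣ := fun k l => (hηu k l).unit
  have hηv : ∀ k l, (η k l : Γ(X, W k ⊓ W l)) = G k l * (1 + -b k l) := fun k l => (hηu k l).unit_spec
  have hη : ∀ i j k : κ,
      resf (inf_le_inf_right (W k) inf_le_left : W i ⊓ W j ⊓ W k ≤ W i ⊓ W k) (η i k : Γ(X, W i ⊓ W k)) =
      resf (inf_le_left : W i ⊓ W j ⊓ W k ≤ W i ⊓ W j) (η i j : Γ(X, W i ⊓ W j)) *
        resf (inf_le_inf_right (W k) inf_le_right : W i ⊓ W j ⊓ W k ≤ W j ⊓ W k)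
          (η j k : Γ(X, W j ⊓ W k)) := by
    intro k l m
    have hkl : W k ⊓ W l ⊓ W m ≤ W k ⊓ W l := inf_le_left
    have hlm : W k ⊓ W l ⊓ W m ≤ W l ⊓ W m := le_inf (inf_le_left.trans inf_le_right) inf_le_right
    have hkm : W k ⊓ W l ⊓ W m ≤ W k ⊓ W m := le_inf (inf_le_left.trans inf_le_left) inf_le_right
    have hc' := hc k l m
    rw [hb k l m] at hc'
    have bp := resf_mem_Kr I hkl (hbK k l)
    have bq := resf_mem_Kr I hlm (hbK l m)
    have br := resf_mem_Kr I hkm (hbK k m)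
    have zpq := mul_eq_zero_of_mem_Kr I hI bp bq
    have zqq := mul_eq_zero_of_mem_Kr I hI bq bq
    have zpp := mul_eq_zero_of_mem_Kr I hI bp bp
    have zrp := mul_eq_zero_of_mem_Kr I hI br bp
    have zrq := mul_eq_zero_of_mem_Kr I hI br bq
    rw [hηv, hηv, hηv]
    change resf hkm (G k m * (1 + -b k m)) = resf hkl (G k l * (1 + -b k l)) * resf hlm (G l m * (1 + -b l m))
    rw [resf_mul', resf_mul', resf_mul', resf_add', resf_add', resf_add', resf_one', resf_one', resf_one',
      resf_neg, resf_neg, resf_neg]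
    linear_combination (-(1 - resf hkl (b k l)) * (1 - resf hlm (b l m))) * hc' +
      resf hkm (G k m) * ((1 - resf hlm (b l m) - resf hkl (b k l) + resf hkm (b k m)) * zpq + zqq + zpp -
        zrp - zrq)
  -- Step 6: the glued module
  obtain ⟨L, hLdef⟩ : ∃ L : X.Modules, L = cocycleMod W (ηv W η) := ⟨_, rfl⟩
  have hLinv : PicF.IsInvertible L := hLdef ▸ isInvertible_cocycleMod W η hη hcov
  obtain ⟨σ, hσgen, hσtr⟩ : ∃ σ : ∀ k, Γ(L, W k), (∀ k, IsGen L (W k) (σ k)) ∧
      ∀ k l, res L inf_le_left (σ k) = (η k l : Γ(X, W k ⊓ W l)) • res L inf_le_right (σ l) := by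
    subst hLdef
    exact ⟨gen W η hη, fun k V' h => gen_isGen W η hη k V' h, gen_transition W η hη⟩
  haveI : L.IsQuasicoherent := isQuasicoherent_of_isInvertible L hLinv
  have hσ : ∀ k, IsGen ((Scheme.Modules.pullback I.subschemeι).obj L) (V k)
      (unitSec I.subschemeι L le_rfl (σ k)) :=
    fun k => isGen_unitSec I.subschemeι L (hWaff k) _ (hσgen k)
  obtain ⟨Φ, -⟩ := exists_iso_of_frames ((Scheme.Modules.pullback I.subschemeι).obj L) L₀ V hcovx₀
    (fun k => unitSec I.subschemeι L le_rfl (σ k)) ε hσ hε (fun p q => by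
      refine cocycle_of_transition (hσ q) _
        (res_unitSec_of_transition I.subschemeι L (σ p) (σ q) _ (hσtr p q)) ?_
      have e1 : (I.subschemeι.appLE (W p ⊓ W q) (V p ⊓ V q)
          (preimage_inf_le I.subschemeι (W p) (W q))).hom (η p q : Γ(X, W p ⊓ W q)) = gb p q := by
        rw [hηv, map_mul, map_add, map_one, map_neg, hG p q,
          (appLE_eq_zero_iff I (hle2 p q) (hge2 p q) (b p q)).2 (hbK p q), neg_zero, add_zero, mul_one]
      have h3 := hgb p q
      rw [← e1] at h3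
      exact h3)
  exact ⟨L, hLinv, ⟨Φ⟩⟩

end lift

end Groth.Agent.Lib.T2H5.SqZeroPic
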