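import Mathlib
import Groth.Agent.Lib.Helper1Sky3
import Groth.Agent.Lib.Helper1KBC2

/-!
# Stalks of restrictions along open immersions and injectivity (helper5, team 2)

* `injective_extendScalars_iff`: extension of scalars along a bijective ring homomorphism preserves and reflects
  injective modules;
* `stalkRestrictIso`: `(F|_Y)_y ≅ O_{Y,y} ⊗_{O_{X,f y}} F_{f y}` for an open immersion `f : Y ⟶ X`;
* `injective_stalk_restrict_iff`: `(F|_Y)_y` is injective over `O_{Y,y}` iff `F_{f y}` is injective over `O_{X,f y}`.
-/
set_option autoImplicit false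
set_option linter.style.haveILetI false
set_option linter.unusedSectionVars false
universe u
open CategoryTheory Limits AlgebraicGeometry TopologicalSpace Opposite

namespace Groth.Agent.Lib.T2H5.StalkInj

open Groth.Agent.Lib.Helper1.Sky Groth.Agent.Lib.Helper1.StalkTensor Groth.Agent.Lib.Helper1.KBC

section Algebra

variable {S' S : Type u} [CommRing S'] [CommRing S] (φ : S' →+* S) (hφ : Function.Bijective φ)

/-- extension of scalars along a bijective ring homomorphism is inverse to restriction of scalars -/
noncomputable def extendScalarsIso :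
    ModuleCat.extendScalars.{u, u, u} φ ≅
      (ModuleCat.restrictScalarsEquivalenceOfRingEquiv (RingEquiv.ofBijective φ hφ)).inverse :=
  (ModuleCat.extendRestrictScalarsAdj.{u, u, u} φ).leftAdjointUniq
    (ModuleCat.restrictScalarsEquivalenceOfRingEquiv (RingEquiv.ofBijective φ hφ)).symm.toAdjunction

include hφ in
theorem injective_extendScalars_iff (N : ModuleCat.{u} S') :
    Injective ((ModuleCat.extendScalars.{u, u, u} φ).obj N) ↔ Injective N := by
  rw [Injective.iso_iff ((extendScalarsIso φ hφ).app N)]
  exact (ModuleCat.restrictScalarsEquivalenceOfRingEquiv (RingEquiv.ofBijective φ hφ)).symm.map_injective_iff N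

end Algebra

section Scheme

variable {X Y : Scheme.{u}} (f : Y ⟶ X) [IsOpenImmersion f]

/-- pullback and restriction along an open immersion agree -/
noncomputable def pullbackIsoRestrict : Scheme.Modules.pullback f ≅ Scheme.Modules.restrictFunctor f :=
  (Scheme.Modules.pullbackPushforwardAdjunction f).leftAdjointUniq (Scheme.Modules.restrictAdjunction f)

/-- `(F|_Y)_y ≅ O_{Y,y} ⊗ F_{f y}` -/
noncomputable def stalkRestrictIso (F : X.Modules) (y : Y) :
    (stalkFun y).obj ((Scheme.Modules.restrictFunctor f).obj F) ≅
      (ModuleCat.extendScalars.{u, u, u} (f.stalkMap y).hom).obj ((stalkFun (f y)).obj F) :=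
  (stalkFun y).mapIso ((pullbackIsoRestrict f).app F).symm ≪≫ (stalkPullbackIso f y).app F

theorem injective_stalk_restrict_iff (F : X.Modules) (y : Y) :
    Injective ((stalkFun y).obj ((Scheme.Modules.restrictFunctor f).obj F)) ↔
      Injective ((stalkFun (f y)).obj F) := by
  rw [Injective.iso_iff (stalkRestrictIso f F y)]
  have hbij : Function.Bijective (f.stalkMap y).hom :=
    ConcreteCategory.bijective_of_isIso (f.stalkMap y)
  exact injective_extendScalars_iff _ hbij _

end Scheme

end Groth.Agent.Lib.T2H5.StalkInj
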