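import Mathlib
import Groth.Agent.S9498
import Groth.Agent.S11327
import Groth.Agent.Lib.Helper23QCohExt
import Groth.Agent.Lib.T2H5StalkInj
import Groth.Agent.Lib.T2H5TildeInj
import Groth.Agent.Lib.T2H5LocInj
import Groth.Agent.Lib.T2H5ExtZeroNoeth

/-!
# A quasi-coherent module on a locally Noetherian scheme is injective iff its stalks are (helper5, team 2)

* `injective_restrict_iff`: restriction along an open immersion `f` vs. restriction to the open subscheme `range f`;
* `injective_iff_stalks_affine`: the affine case, from `I~` injective, Mathlib's local-global principle for injective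
  modules over Noetherian rings, and full faithfulness and exactness of `~`;
* `injective_iff_stalks`: the general case.
-/
set_option autoImplicit false
set_option linter.style.haveILetI false
set_option linter.unusedSectionVars false
universe u
open CategoryTheory Limits AlgebraicGeometry TopologicalSpace Opposite

namespace Groth.Agent.Lib.T2H5.StalkInjQCoh

open Groth.Agent.Lib.Helper1.Sky Groth.Agent.Lib.Helper1.StalkTensor Groth.Agent.Lib.Helper1.KBC
open Groth.Agent.Lib.Helper23.QCohLocal Groth.Agent.Lib.T2H5.TildeSky

theorem injective_restrict_iff {X Y : Scheme.{u}} (f : Y ⟶ X) [IsOpenImmersion f] (F : X.Modules) :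
    Injective ((Scheme.Modules.restrictFunctor f).obj F) ↔
      Injective ((Scheme.Modules.restrictFunctor f.opensRange.ι).obj F) := by
  let E := Groth.Agent.Lib.T2H5.ExtZeroNoeth.restrEquiv f.isoOpensRange
  have iso : (Scheme.Modules.restrictFunctor f).obj F ≅
      E.functor.obj ((Scheme.Modules.restrictFunctor f.opensRange.ι).obj F) :=
    (((Scheme.Modules.restrictFunctorComp f.isoOpensRange.hom f.opensRange.ι).symm ≪≫
      Scheme.Modules.restrictFunctorCongr f.isoOpensRange_hom_ι).symm).app F
  rw [Injective.iso_iff iso, E.map_injective_iff]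

section Affine

variable (A : Type u) [CommRing A] [IsNoetherianRing A]

theorem isLoc (x : PrimeSpectrum A) :
    IsLocalization.AtPrime ((structurePresheafInCommRingCat A).stalk x) x.asIdeal := inferInstance

theorem isLocMod (N : Type u) [AddCommGroup N] [Module A N] (x : PrimeSpectrum A) :
    IsLocalizedModule x.asIdeal.primeCompl (StructureSheaf.toStalkₗ A N x) := inferInstance

attribute [local instance] RingHomInvPair.of_ringEquiv in
set_option backward.defeqAttrib.useBackward true in
theorem injective_localizedModule {R : Type u} [CommRing R] (P : Ideal R) [P.IsPrime]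
    (Rₚ : Type u) [CommRing Rₚ] [Algebra R Rₚ] [IsLocalization.AtPrime Rₚ P]
    {M : Type u} (Mₚ : Type u) [AddCommGroup M] [Module R M] [AddCommGroup Mₚ] [Module R Mₚ] [Module Rₚ Mₚ]
    [IsScalarTower R Rₚ Mₚ] (f : M →ₗ[R] Mₚ) [IsLocalizedModule P.primeCompl f]
    (H : Module.Injective Rₚ Mₚ) :
    Module.Injective (Localization.AtPrime P) (LocalizedModule P.primeCompl M) := by
  refine Module.Injective.of_ringEquiv (M := Mₚ)
    (IsLocalization.algEquiv P.primeCompl Rₚ (Localization.AtPrime P)).toRingEquiv
    { __ := IsLocalizedModule.linearEquiv P.primeCompl f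
        (LocalizedModule.mkLinearMap P.primeCompl M)
      map_smul' := ?_ }
  · intro r m
    obtain ⟨r, s, rfl⟩ := IsLocalization.exists_mk'_eq P.primeCompl r
    apply ((Module.End.isUnit_iff _).mp
      (IsLocalizedModule.map_units (LocalizedModule.mkLinearMap P.primeCompl M) s)).1
    dsimp
    simp only [← map_smul, ← smul_assoc, IsLocalization.smul_mk'_self, algebraMap_smul,
      IsLocalization.map_id_mk']

theorem module_injective_of_stalks (N : Type u) [AddCommGroup N] [Module A N]
    (h : ∀ y : X A, Injective ((stalkFun y).obj (T A N))) : Module.Injective A N := by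
  apply Module.injective_of_localization_maximal
  intro P hP
  haveI := hP
  let x : PrimeSpectrum A := ⟨P, inferInstance⟩
  haveI : IsLocalization.AtPrime ((structurePresheafInCommRingCat A).stalk x) P := isLoc A x
  haveI : IsLocalizedModule P.primeCompl (StructureSheaf.toStalkₗ A N x) := isLocMod A N x
  have h1 : Injective (ModuleCat.of (Ox (X := X A) x) (St (toPM (T A N)) (x : X A))) := h (x : X A)
  have h2 : Module.Injective (Ox (X := X A) x) (St (toPM (T A N)) (x : X A)) :=
    Module.injective_module_of_injective_object (Ox (X := X A) x) (St (toPM (T A N)) (x : X A)) (inj := h1)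
  exact injective_localizedModule P ((structurePresheafInCommRingCat A).stalk x)
    ↑(TopCat.Presheaf.stalk (moduleStructurePresheaf A N).presheaf x) (StructureSheaf.toStalkₗ A N x) h2

theorem injective_iff_stalks_affine (G : (Spec (CommRingCat.of A)).Modules) [G.IsQuasicoherent] :
    Injective G ↔ ∀ y : X A, Injective ((stalkFun y).obj G) := by
  let N : ModuleCat.{u} A := (ΓF (CommRingCat.of A)).obj G
  haveI : IsIso ((tildeΓAdj (CommRingCat.of A)).counit.app G) := isIso_fromTildeΓ G
  let c := asIso ((tildeΓAdj (CommRingCat.of A)).counit.app G)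
  haveI : (tilde.functor (CommRingCat.of A)).Full := tilde.fullyFaithfulFunctor.full
  haveI : (tilde.functor (CommRingCat.of A)).Faithful := tilde.fullyFaithfulFunctor.faithful
  haveI : PreservesFiniteLimits (tilde.functor (CommRingCat.of A)) :=
    (Groth.Agent.S9498.aux (CommRingCat.of A)).1
  constructor
  · intro hG y
    have h1 : Injective ((tilde.functor (CommRingCat.of A)).obj N) := Injective.of_iso c.symm hG
    have h2 : Injective N := (tilde.functor (CommRingCat.of A)).injective_of_map_injective h1
    have h2' : Injective (ModuleCat.of A N) := h2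
    haveI : Module.Injective A N := Module.injective_module_of_injective_object A N
    exact Injective.of_iso ((stalkFun y).mapIso c) (injective_stalk (A := A) (E := N) y)
  · intro h
    haveI : Module.Injective A N :=
      module_injective_of_stalks A N (fun y => Injective.of_iso ((stalkFun y).mapIso c.symm) (h y))
    exact Injective.of_iso c (Groth.Agent.Lib.T2H5.TildeInj.injective_tilde A N)

end Affine

theorem injective_restrict_iff' {X Y : Scheme.{u}} (f : Y ⟶ X) [IsOpenImmersion f] (U : X.Opens)
    (hU : f.opensRange = U) (F : X.Modules) :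
    Injective ((Scheme.Modules.restrictFunctor f).obj F) ↔
      Injective ((Scheme.Modules.restrictFunctor U.ι).obj F) := by
  subst hU
  exact injective_restrict_iff f F

/-- A quasi-coherent module on a locally Noetherian scheme is injective iff all its stalks are injective. -/
theorem injective_iff_stalks {X : Scheme.{u}} [IsLocallyNoetherian X] (F : X.Modules) [F.IsQuasicoherent] :
    Injective F ↔ ∀ x : X, Injective ((stalkFun x).obj F) := by
  constructor
  · intro hF x
    obtain ⟨_, ⟨U : X.Opens, hU, rfl⟩, hxU, -⟩ :=
      X.isBasis_affineOpens.exists_subset_of_mem_open (Set.mem_univ x) isOpen_univ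
    haveI : IsNoetherianRing Γ(X, U) := IsLocallyNoetherian.component_noetherian ⟨U, hU⟩
    have h1 : Injective ((Scheme.Modules.restrictFunctor U.ι).obj F) := Groth.Agent.S11327.result X U F hF
    have h2 : Injective ((Scheme.Modules.restrictFunctor hU.fromSpec).obj F) :=
      (injective_restrict_iff' hU.fromSpec U hU.opensRange_fromSpec F).2 h1
    have h3 := (injective_iff_stalks_affine Γ(X, U) ((Scheme.Modules.restrictFunctor hU.fromSpec).obj F)).1 h2
      (hU.primeIdealOf ⟨x, hxU⟩)
    have h4 := (Groth.Agent.Lib.T2H5.StalkInj.injective_stalk_restrict_iff hU.fromSpec F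
      (hU.primeIdealOf ⟨x, hxU⟩)).1 h3
    have hx : hU.fromSpec (hU.primeIdealOf ⟨x, hxU⟩) = x := hU.fromSpec_primeIdealOf ⟨x, hxU⟩
    exact hx ▸ h4
  · intro h
    apply Groth.Agent.Lib.T2H5.LocInj.injective_of_locally_injective F
    intro x
    obtain ⟨_, ⟨U : X.Opens, hU, rfl⟩, hxU, -⟩ :=
      X.isBasis_affineOpens.exists_subset_of_mem_open (Set.mem_univ x) isOpen_univ
    haveI : IsNoetherianRing Γ(X, U) := IsLocallyNoetherian.component_noetherian ⟨U, hU⟩
    refine ⟨U, hxU, (injective_restrict_iff' hU.fromSpec U hU.opensRange_fromSpec F).1 ?_⟩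
    exact (injective_iff_stalks_affine Γ(X, U) ((Scheme.Modules.restrictFunctor hU.fromSpec).obj F)).2
      (fun y => (Groth.Agent.Lib.T2H5.StalkInj.injective_stalk_restrict_iff hU.fromSpec F y).2
        (h (hU.fromSpec y)))

end Groth.Agent.Lib.T2H5.StalkInjQCoh
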