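import Mathlib
import Groth.Agent.Lib.T2H5SubSec

/-!
# Subobjects of quasi-coherent modules through sections over affine opens; Artin–Rees for subobjects (helper5)

Namespace `Groth.Agent.Lib.T2H5.SubobjAR`.
-/

set_option autoImplicit false
set_option linter.style.haveILetI false
set_option linter.unusedSectionVars false
universe u
open CategoryTheory CategoryTheory.Limits AlgebraicGeometry Opposite TopologicalSpace

namespace Groth.Agent.Lib.T2H5.SubobjAR

open Groth.Agent.Lib.T2H5.IdealMul Groth.Agent.Lib.T2H5.SubSec Groth.Agent.Lib.T2H5.Devissage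
open Groth.Agent.Lib.Helper23.ModLocal Groth.Agent.Lib.Helper23.QCohLocal Groth.Agent.Lib.Helper23.FinType
open Groth.Agent.Lib.Helper2.ModExact Groth.Agent.Lib.T2H5.CohSigma

variable {X : Scheme.{u}}

/-- the submodule of sections of `F` over `U` coming from `A`. -/
noncomputable def secRange {A F : X.Modules} (a : A ⟶ F) (U : X.Opens) : Submodule Γ(X, U) Γ(F, U) :=
  LinearMap.range (appLin a U)

theorem mem_secRange {A F : X.Modules} (a : A ⟶ F) (U : X.Opens) (s : Γ(F, U)) :
    s ∈ secRange a U ↔ ∃ t : Γ(A, U), a.app U t = s := Iff.rfl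

theorem secRange_comp_le {A B F : X.Modules} (l : A ⟶ B) (b : B ⟶ F) (U : X.Opens) :
    secRange (l ≫ b) U ≤ secRange b U := by
  rintro _ ⟨t, rfl⟩
  exact ⟨l.app U t, rfl⟩

theorem secRange_iso_comp {A B F : X.Modules} (e : A ≅ B) (b : B ⟶ F) (U : X.Opens) :
    secRange (e.hom ≫ b) U = secRange b U := by
  refine le_antisymm (secRange_comp_le _ _ _) ?_
  have h : b = e.inv ≫ e.hom ≫ b := by rw [Iso.inv_hom_id_assoc]
  conv_lhs => rw [h]
  exact secRange_comp_le _ _ _

theorem secRange_mk_arrow {A F : X.Modules} (a : A ⟶ F) [Mono a] (U : X.Opens) :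
    secRange (Subobject.mk a).arrow U = secRange a U := by
  rw [← Subobject.underlyingIso_hom_comp_eq_mk]
  exact secRange_iso_comp _ _ _

theorem secRange_idealMulι (I : X.IdealSheafData) (F : X.Modules) [F.IsQuasicoherent] (U : X.affineOpens) :
    secRange (Dual3.idealMulι I F) U.1 = I.ideal U • ⊤ := by
  ext s
  rw [mem_secRange]
  exact exists_idealMulι_app_eq_iff I F U s

theorem secRange_idealMulι_comp (I : X.IdealSheafData) {A F : X.Modules} [A.IsQuasicoherent] (a : A ⟶ F)
    (U : X.affineOpens) : secRange (Dual3.idealMulι I A ≫ a) U.1 = I.ideal U • secRange a U.1 := by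
  have h1 : secRange (Dual3.idealMulι I A ≫ a) U.1 =
      (secRange (Dual3.idealMulι I A) U.1).map (appLin a U.1) := by
    ext s
    rw [mem_secRange, Submodule.mem_map]
    constructor
    · rintro ⟨t, rfl⟩
      exact ⟨(Dual3.idealMulι I A).app U.1 t, ⟨t, rfl⟩, rfl⟩
    · rintro ⟨_, ⟨t, rfl⟩, rfl⟩
      exact ⟨t, rfl⟩
  rw [h1, secRange_idealMulι, Submodule.map_smul'', Submodule.map_top]
  rfl

/-- `0 → Q → F → F/Q → 0` -/
theorem mem_secRange_iff_cokernel {B F : X.Modules} (b : B ⟶ F) [Mono b] (U : X.Opens) (s : Γ(F, U)) :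
    s ∈ secRange b U ↔ (cokernel.π b).app U s = 0 := by
  constructor
  · rintro ⟨t, rfl⟩
    have h2 : (b ≫ cokernel.π b).app U t = 0 := by rw [cokernel.condition]; rfl
    exact h2
  · intro hs
    have hS : (ShortComplex.mk b (cokernel.π b) (cokernel.condition b)).ShortExact :=
      { exact := ShortComplex.exact_cokernel b
        mono_f := inferInstanceAs (Mono b)
        epi_g := inferInstanceAs (Epi (cokernel.π b)) }
    exact exists_app_eq_of_shortExact _ hS U s hs

section inf

variable {F : X.Modules} (P Q : Subobject F)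

/-- the kernel of `P ⟶ F ⟶ F/Q` -/
noncomputable abbrev infKer : X.Modules := kernel (P.arrow ≫ cokernel.π Q.arrow)

/-- the inclusion of the kernel of `P ⟶ F ⟶ F/Q` into `F` -/
noncomputable abbrev infKerι : infKer P Q ⟶ F := kernel.ι (P.arrow ≫ cokernel.π Q.arrow) ≫ P.arrow

instance : Mono (infKerι P Q) := mono_comp _ _

theorem inf_eq_mk_infKerι : P ⊓ Q = Subobject.mk (infKerι P Q) := by
  apply le_antisymm
  · have h0 : Subobject.ofLE (P ⊓ Q) P inf_le_left ≫ P.arrow ≫ cokernel.π Q.arrow = 0 := by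
      rw [← Category.assoc, Subobject.ofLE_arrow, ← Subobject.ofLE_arrow (inf_le_right : P ⊓ Q ≤ Q),
        Category.assoc, cokernel.condition, comp_zero]
    refine Subobject.le_mk_of_comm (kernel.lift _ (Subobject.ofLE (P ⊓ Q) P inf_le_left) h0) ?_
    rw [← Category.assoc, kernel.lift_ι, Subobject.ofLE_arrow]
  · refine le_inf (Subobject.mk_le_of_comm (kernel.ι _) rfl) ?_
    have hk : infKerι P Q ≫ cokernel.π Q.arrow = 0 := by
      rw [Category.assoc, kernel.condition]
    exact Subobject.mk_le_of_comm (Abelian.monoLift Q.arrow (infKerι P Q) hk) (Abelian.monoLift_comp _ _ _)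

theorem secRange_inf_arrow (U : X.Opens) :
    secRange (P ⊓ Q).arrow U = secRange P.arrow U ⊓ secRange Q.arrow U := by
  rw [inf_eq_mk_infKerι, secRange_mk_arrow]
  ext s
  rw [Submodule.mem_inf, mem_secRange_iff_cokernel Q.arrow, mem_secRange, mem_secRange]
  constructor
  · rintro ⟨t, rfl⟩
    refine ⟨⟨(kernel.ι (P.arrow ≫ cokernel.π Q.arrow)).app U t, rfl⟩, ?_⟩
    have h2 : (kernel.ι (P.arrow ≫ cokernel.π Q.arrow) ≫ P.arrow ≫ cokernel.π Q.arrow).app U t = 0 := by
      rw [kernel.condition]; rfl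
    exact h2
  · rintro ⟨⟨t, rfl⟩, h2⟩
    obtain ⟨r, hr⟩ := exists_kernel_app_eq (P.arrow ≫ cokernel.π Q.arrow) U t h2
    refine ⟨r, ?_⟩
    rw [← hr]
    rfl

theorem isQuasicoherent_inf [F.IsQuasicoherent] [(P : X.Modules).IsQuasicoherent]
    [(Q : X.Modules).IsQuasicoherent] : ((P ⊓ Q : Subobject F) : X.Modules).IsQuasicoherent := by
  haveI : (cokernel Q.arrow).IsQuasicoherent := isQuasicoherent_cokernel _
  haveI : (infKer P Q).IsQuasicoherent := isQuasicoherent_kernel _
  exact (SheafOfModules.isQuasicoherent X.ringCatSheaf).prop_of_iso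
    ((Subobject.isoOfEqMk _ _ (inf_eq_mk_infKerι P Q)).symm) inferInstance

end inf

theorem isQuasicoherent_mk {A F : X.Modules} [A.IsQuasicoherent] (a : A ⟶ F) [Mono a] :
    ((Subobject.mk a : Subobject F) : X.Modules).IsQuasicoherent :=
  (SheafOfModules.isQuasicoherent X.ringCatSheaf).prop_of_iso (Subobject.underlyingIso a).symm inferInstance

/-- subobjects with quasi-coherent underlying modules are determined by their sections over an affine open cover -/
theorem subobject_le_of_secRange_le {F : X.Modules} [F.IsQuasicoherent] (P Q : Subobject F)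
    [(P : X.Modules).IsQuasicoherent] [(Q : X.Modules).IsQuasicoherent]
    (S : Set X.affineOpens) (hS : ∀ x : X, ∃ U ∈ S, x ∈ U.1)
    (h : ∀ U ∈ S, secRange P.arrow U.1 ≤ secRange Q.arrow U.1) : P ≤ Q := by
  obtain ⟨l, hl⟩ := exists_lift_of_range_le P.arrow Q.arrow S hS fun U hU t => h U hU ⟨t, rfl⟩
  exact Subobject.le_of_comm l hl

theorem subobject_eq_of_secRange_eq {F : X.Modules} [F.IsQuasicoherent] (P Q : Subobject F)
    [(P : X.Modules).IsQuasicoherent] [(Q : X.Modules).IsQuasicoherent]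
    (S : Set X.affineOpens) (hS : ∀ x : X, ∃ U ∈ S, x ∈ U.1)
    (h : ∀ U ∈ S, secRange P.arrow U.1 = secRange Q.arrow U.1) : P = Q :=
  le_antisymm (subobject_le_of_secRange_le P Q S hS fun U hU => (h U hU).le)
    (subobject_le_of_secRange_le Q P S hS fun U hU => (h U hU).ge)

section alg

theorem artinRees_mono {R M : Type*} [CommRing R] [AddCommGroup M] [Module R M] (J : Ideal R)
    (N : Submodule R M) (k c : ℕ) (hkc : k ≤ c)
    (hk : ∀ n ≥ k, J ^ n • ⊤ ⊓ N = J ^ (n - k) • (J ^ k • ⊤ ⊓ N)) :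
    ∀ n ≥ c, J ^ n • ⊤ ⊓ N = J ^ (n - c) • (J ^ c • ⊤ ⊓ N) := by
  intro n hn
  rw [hk n (hkc.trans hn), hk c hkc, ← Submodule.mul_smul, ← pow_add]
  congr 2
  omega

end alg

/-- **Artin–Rees for subobjects**: for a coherent `F`, a quasi-coherent submodule `G ⊆ F` and an ideal sheaf `I` there is
`c` with `I^(n-c) · (I^c F ∩ G) = I^n F ∩ G` for all `n ≥ c`. -/
theorem artinRees_subobject [IsNoetherian X] (F G : X.Modules) (hF : Coh.IsCoh F) [G.IsQuasicoherent]
    (ι : G ⟶ F) [Mono ι] (I : X.IdealSheafData) :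
    ∃ c : ℕ, ∀ n : ℕ, c ≤ n →
      Subobject.mk (Dual3.idealMulι (I ^ (n - c))
          (Subobject.underlying.obj (Subobject.mk (Dual3.idealMulι (I ^ c) F) ⊓ Subobject.mk ι)) ≫
        (Subobject.mk (Dual3.idealMulι (I ^ c) F) ⊓ Subobject.mk ι).arrow) =
      Subobject.mk (Dual3.idealMulι (I ^ n) F) ⊓ Subobject.mk ι := by
  classical
  haveI := hF.1
  haveI : SheafOfModules.IsFiniteType (R := X.ringCatSheaf) F := hF.2
  obtain ⟨t, ht⟩ := isCompact_univ.elim_finite_subcover (fun U : X.affineOpens => (U.1 : Set X))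
    (fun U => U.1.2) (by
      intro x _
      obtain ⟨_, ⟨U, hU, rfl⟩, hxU, -⟩ := X.isBasis_affineOpens.exists_subset_of_mem_open
        (Set.mem_univ x) isOpen_univ
      exact Set.mem_iUnion.2 ⟨⟨U, hU⟩, hxU⟩)
  have hcover : ∀ x : X, ∃ U ∈ (t : Set X.affineOpens), x ∈ U.1 := by
    intro x
    have := ht (Set.mem_univ x)
    simp only [Set.mem_iUnion] at this
    obtain ⟨U, hUt, hxU⟩ := this
    exact ⟨U, hUt, hxU⟩
  have hloc : ∀ U : X.affineOpens, ∃ k : ℕ, ∀ n ≥ k,
      ((I.ideal U) ^ n • ⊤ ⊓ secRange ι U.1 : Submodule Γ(X, U.1) Γ(F, U.1)) =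
        (I.ideal U) ^ (n - k) • ((I.ideal U) ^ k • ⊤ ⊓ secRange ι U.1) := by
    intro U
    haveI : Module.Finite Γ(X, U.1) Γ(F, U.1) := finite_of_isFiniteType F U.2
    haveI : IsNoetherianRing Γ(X, U.1) := IsLocallyNoetherian.component_noetherian U
    exact Ideal.exists_pow_inf_eq_pow_smul (I.ideal U) (secRange ι U.1)
  choose k hk using hloc
  refine ⟨t.sup k, fun n hn => ?_⟩
  haveI : Mono (Dual3.idealMulι (I ^ t.sup k) F) := Dual3.mono_idealMulι _ _
  haveI : Mono (Dual3.idealMulι (I ^ n) F) := Dual3.mono_idealMulι _ _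
  haveI h1 : ((Subobject.mk (Dual3.idealMulι (I ^ t.sup k) F) : Subobject F) : X.Modules).IsQuasicoherent :=
    isQuasicoherent_mk _
  haveI h2 : ((Subobject.mk (Dual3.idealMulι (I ^ n) F) : Subobject F) : X.Modules).IsQuasicoherent :=
    isQuasicoherent_mk _
  haveI h3 : ((Subobject.mk ι : Subobject F) : X.Modules).IsQuasicoherent := isQuasicoherent_mk _
  haveI h4 : ((Subobject.mk (Dual3.idealMulι (I ^ t.sup k) F) ⊓ Subobject.mk ι : Subobject F) :
      X.Modules).IsQuasicoherent := isQuasicoherent_inf _ _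
  haveI h5 : ((Subobject.mk (Dual3.idealMulι (I ^ n) F) ⊓ Subobject.mk ι : Subobject F) :
      X.Modules).IsQuasicoherent := isQuasicoherent_inf _ _
  haveI : Mono (Dual3.idealMulι (I ^ (n - t.sup k))
      (Subobject.underlying.obj (Subobject.mk (Dual3.idealMulι (I ^ t.sup k) F) ⊓ Subobject.mk ι))) :=
    Dual3.mono_idealMulι _ _
  haveI h6 : ((Subobject.mk (Dual3.idealMulι (I ^ (n - t.sup k))
          (Subobject.underlying.obj (Subobject.mk (Dual3.idealMulι (I ^ t.sup k) F) ⊓ Subobject.mk ι)) ≫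
        (Subobject.mk (Dual3.idealMulι (I ^ t.sup k) F) ⊓ Subobject.mk ι).arrow) : Subobject F) :
      X.Modules).IsQuasicoherent := isQuasicoherent_mk _
  refine subobject_eq_of_secRange_eq _ _ (t : Set X.affineOpens) hcover fun U hU => ?_
  rw [secRange_mk_arrow, secRange_idealMulι_comp, secRange_inf_arrow, secRange_inf_arrow,
    secRange_mk_arrow, secRange_mk_arrow, secRange_mk_arrow, secRange_idealMulι, secRange_idealMulι,
    Scheme.IdealSheafData.ideal_pow, Scheme.IdealSheafData.ideal_pow, Scheme.IdealSheafData.ideal_pow,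
    Pi.pow_apply, Pi.pow_apply, Pi.pow_apply]
  exact (artinRees_mono (I.ideal U) (secRange ι U.1) (k U) (t.sup k) (Finset.le_sup (f := k) hU) (hk U)
    n hn).symm

end Groth.Agent.Lib.T2H5.SubobjAR
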