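import Mathlib
import Groth.Agent.S2074
import Groth.Agent.S0020
import Groth.Agent.S2380
import Groth.Agent.Lib.Helper1ProperOver
import Groth.Agent.Lib.Helper1Sky3
import Groth.Agent.Lib.Helper2FibreCrit2
set_option backward.isDefEq.respectTransparency.types false

/-!
# T2H5SuppLim: properness of the support descends to a stage of a limit (helper5)

Namespace `Groth.Agent.Lib.T2H5.SuppLim`.

* `subsingleton_of_subsingleton_tensor`: for a local homomorphism `A → B` of local rings and a finite `A`-module `M`,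
  `B ⊗_A M = 0` implies `M = 0`.
* `support_pullback`: the support of the pullback of a quasi-coherent module of finite type is the preimage of the
  support.
* `exists_isProperOver_stage`: **S9221**.
-/

set_option autoImplicit false
set_option linter.style.haveILetI false
set_option linter.unusedSectionVars false
universe u
open CategoryTheory CategoryTheory.Limits AlgebraicGeometry TopologicalSpace Opposite Topology TensorProduct

namespace Groth.Agent.Lib.T2H5.SuppLim

open Groth.Agent.Lib.Helper1.Sky Groth.Agent.Lib.Helper1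

theorem subsingleton_of_subsingleton_tensor {A B : Type u} [CommRing A] [CommRing B] [IsLocalRing A]
    [IsLocalRing B] [Algebra A B] [IsLocalHom (algebraMap A B)] (M : Type u) [AddCommGroup M] [Module A M]
    [Module.Finite A M] (h : Subsingleton (B ⊗[A] M)) : Subsingleton M := by
  have h1 : Subsingleton (IsLocalRing.ResidueField B ⊗[B] (B ⊗[A] M)) := inferInstance
  have h2 : Subsingleton (IsLocalRing.ResidueField B ⊗[A] M) :=
    (TensorProduct.AlgebraTensorModule.cancelBaseChange A B (IsLocalRing.ResidueField B)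
      (IsLocalRing.ResidueField B) M).symm.toEquiv.subsingleton
  have h3 : Subsingleton (IsLocalRing.ResidueField B ⊗[IsLocalRing.ResidueField A]
      (IsLocalRing.ResidueField A ⊗[A] M)) :=
    (TensorProduct.AlgebraTensorModule.cancelBaseChange A (IsLocalRing.ResidueField A)
      (IsLocalRing.ResidueField B) (IsLocalRing.ResidueField B) M).toEquiv.subsingleton
  have h4 : Subsingleton (IsLocalRing.ResidueField A ⊗[A] M) :=
    (Module.FaithfullyFlat.subsingleton_tensorProduct_iff_right (IsLocalRing.ResidueField A)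
      (IsLocalRing.ResidueField B)).1 h3
  exact IsLocalRing.subsingleton_tensorProduct.1 h4

variable {X X' : Scheme.{u}}

/-- the support of a pullback -/
theorem mem_support_pullback_iff (g : X' ⟶ X) (F : X.Modules) [F.IsQuasicoherent]
    [SheafOfModules.IsFiniteType (R := X.ringCatSheaf) F] (z : X') :
    z ∈ CohB1.support ((Scheme.Modules.pullback g).obj F) ↔ g z ∈ CohB1.support F := by
  letI alg : Algebra (X.presheaf.stalk (g z)) (X'.presheaf.stalk z) := (g.stalkMap z).hom.toAlgebra
  haveI : IsLocalHom (algebraMap (X.presheaf.stalk (g z)) (X'.presheaf.stalk z)) :=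
    inferInstanceAs (IsLocalHom (g.stalkMap z).hom)
  let N := (stalkFun (g z)).obj F
  let e : ((Scheme.Modules.pullback g).obj F).presheaf.stalk z ≃ₗ[X'.presheaf.stalk z]
      (X'.presheaf.stalk z ⊗[X.presheaf.stalk (g z)] F.presheaf.stalk (g z)) :=
    ((stalkPullbackIso g z).app F).toLinearEquiv ≪≫ₗ
      Groth.Agent.S2380.bridge (X.presheaf.stalk (g z)) (X'.presheaf.stalk z) N
  have h1 : Subsingleton (((Scheme.Modules.pullback g).obj F).presheaf.stalk z) ↔
      Subsingleton (X'.presheaf.stalk z ⊗[X.presheaf.stalk (g z)] F.presheaf.stalk (g z)) :=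
    e.toEquiv.subsingleton_congr
  show ¬ Subsingleton (((Scheme.Modules.pullback g).obj F).presheaf.stalk z) ↔
    ¬ Subsingleton (F.presheaf.stalk (g z))
  rw [h1]
  constructor
  · intro h hsub
    exact h inferInstance
  · intro hFx hsub
    haveI : Module.Finite (X.presheaf.stalk (g z)) (F.presheaf.stalk (g z)) :=
      Groth.Agent.Lib.Helper2.FibreCrit.finite_stalk F (g z)
    exact hFx (subsingleton_of_subsingleton_tensor (A := X.presheaf.stalk (g z))
      (B := X'.presheaf.stalk z) (F.presheaf.stalk (g z)) hsub)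

theorem support_pullback (g : X' ⟶ X) (F : X.Modules) [F.IsQuasicoherent]
    [SheafOfModules.IsFiniteType (R := X.ringCatSheaf) F] :
    CohB1.support ((Scheme.Modules.pullback g).obj F) = g ⁻¹' CohB1.support F := by
  ext z
  exact mem_support_pullback_iff g F z

section main

variable {I : Type u} [SmallCategory I] [IsCofiltered I] (D : I ⥤ Scheme.{u}) (c : Cone D)
  (hc : IsLimit c) [∀ (i j : I) (f : i ⟶ j), IsAffineHom (D.map f)] (i₀ : I)

include hc in
/-- **S9221** -/
theorem exists_isProperOver_stage [CompactSpace (D.obj i₀)] [QuasiSeparatedSpace (D.obj i₀)]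
    {X₀ Y₀ : Scheme.{u}} (f₀ : X₀ ⟶ Y₀) (g₀ : Y₀ ⟶ D.obj i₀)
    [CompactSpace X₀] [QuasiSeparatedSpace X₀] [CompactSpace Y₀] [QuasiSeparatedSpace Y₀]
    [LocallyOfFiniteType f₀] (F₀ : X₀.Modules) [F₀.IsQuasicoherent]
    (hF₀ : SheafOfModules.IsFiniteType (R := X₀.ringCatSheaf) F₀)
    {X Y : Scheme.{u}} (f : X ⟶ Y) (g : Y ⟶ c.pt) (qY : Y ⟶ Y₀) (qX : X ⟶ X₀)
    (hY : IsPullback qY g g₀ (c.π.app i₀)) (hX : IsPullback qX f f₀ qY)
    (hF : ClSub.IsProperOver f (CohB1.support ((Scheme.Modules.pullback qX).obj F₀))) :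
    ∃ (i : I) (φ : i ⟶ i₀) (Xi Yi : Scheme.{u}) (fi : Xi ⟶ Yi) (gi : Yi ⟶ D.obj i) (pY : Yi ⟶ Y₀)
      (pX : Xi ⟶ X₀), IsPullback pY gi g₀ (D.map φ) ∧ IsPullback pX fi f₀ pY ∧
        ClSub.IsProperOver fi (CohB1.support ((Scheme.Modules.pullback pX).obj F₀)) := by
  haveI := hF₀
  have hcl : IsClosed (CohB1.support F₀) := Groth.Agent.S0020.result X₀ F₀ hF₀
  obtain ⟨Z₀', j₀, hj₀cl, hj₀r⟩ : ∃ (Z₀' : Scheme.{u}) (j₀ : Z₀' ⟶ X₀), IsClosedImmersion j₀ ∧
      Set.range j₀ = CohB1.support F₀ :=
    ⟨_, redι (CohB1.support F₀) hcl, inferInstance, range_redι _ hcl⟩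
  haveI := hj₀cl
  haveI : CompactSpace Z₀' := QuasiCompact.compactSpace_of_compactSpace j₀
  haveI : QuasiSeparatedSpace Z₀' := quasiSeparatedSpace_of_quasiSeparated j₀
  haveI : LocallyOfFiniteType f := MorphismProperty.of_isPullback (P := @LocallyOfFiniteType) hX inferInstance
  -- the base change of `Z₀'` to the limit
  have hr : Set.range (pullback.snd j₀ qX) = CohB1.support ((Scheme.Modules.pullback qX).obj F₀) := by
    rw [Scheme.Pullback.range_snd, hj₀r, support_pullback]
  haveI : IsProper (pullback.snd j₀ qX ≫ f) :=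
    (isProperOver_iff_isProper_comp f (pullback.snd j₀ qX) _ hr).1 hF
  have hW : IsPullback (pullback.fst j₀ qX) (pullback.snd j₀ qX ≫ f) (j₀ ≫ f₀) qY :=
    (IsPullback.of_hasPullback j₀ qX).paste_vert hX
  obtain ⟨i, φ, Wi, Yi, fi', gi, pY, pW, hYi, hWi, hprop⟩ :=
    Groth.Agent.S2074.result D c hc i₀ (j₀ ≫ f₀) g₀ (pullback.snd j₀ qX ≫ f) g qY (pullback.fst j₀ qX) hY hW
  haveI := hprop
  refine ⟨i, φ, pullback f₀ pY, Yi, pullback.snd f₀ pY, gi, pY, pullback.fst f₀ pY, hYi,
    IsPullback.of_hasPullback f₀ pY, ?_⟩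
  obtain ⟨ιi, hι1, hι2⟩ : ∃ ιi : Wi ⟶ pullback f₀ pY, ιi ≫ pullback.fst f₀ pY = pW ≫ j₀ ∧
      ιi ≫ pullback.snd f₀ pY = fi' :=
    ⟨pullback.lift (pW ≫ j₀) fi' (by rw [Category.assoc]; exact hWi.w), pullback.lift_fst _ _ _,
      pullback.lift_snd _ _ _⟩
  have hsq : IsPullback pW ιi j₀ (pullback.fst f₀ pY) := by
    refine IsPullback.of_bot ?_ hι1.symm (IsPullback.of_hasPullback f₀ pY)
    rw [hι2]
    exact hWi
  haveI : IsClosedImmersion ιi := MorphismProperty.of_isPullback (P := @IsClosedImmersion) hsq inferInstance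
  have hrι : Set.range ιi = CohB1.support ((Scheme.Modules.pullback (pullback.fst f₀ pY)).obj F₀) := by
    have h1 : ιi = hsq.isoPullback.hom ≫ pullback.snd j₀ (pullback.fst f₀ pY) :=
      (IsPullback.isoPullback_hom_snd hsq).symm
    have h2 : Set.range ιi = Set.range (pullback.snd j₀ (pullback.fst f₀ pY)) := by
      rw [h1, Scheme.Hom.comp_base, TopCat.coe_comp, Set.range_comp,
        Set.range_eq_univ.2 hsq.isoPullback.hom.surjective, Set.image_univ]
    rw [h2, Scheme.Pullback.range_snd, hj₀r, support_pullback]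
  refine (isProperOver_iff_isProper_comp (pullback.snd f₀ pY) ιi _ hrι).2 ?_
  rw [hι2]
  exact hprop

end main

end Groth.Agent.Lib.T2H5.SuppLim
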