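import Mathlib
import Groth.Agent.Lib.T2H5ResLE2
set_option backward.isDefEq.respectTransparency.types false

/-!
# Composition of twisted pullbacks on cohomology of abelian sheaves (helper5)

Namespace `Groth.Agent.Lib.T2H5.TwComp`.

For continuous maps `a : A ⟶ B`, `b : B ⟶ C`, abelian sheaves `M`, `N`, `P` on `C`, `B`, `A` and maps
`κ♭ : M ⟶ b_* N`, `λ♭ : N ⟶ a_* P`, the composite of the twisted pullbacks
`H^n(C, M) → H^n(B, N) → H^n(A, P)` is the twisted pullback along `a ≫ b` for `κ♭ ≫ b_* λ♭` (`tw_comp`).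
-/

set_option autoImplicit false
set_option linter.style.haveILetI false
set_option linter.unusedSectionVars false
set_option linter.unusedVariables false
universe u
open CategoryTheory CategoryTheory.Limits Opposite TopologicalSpace Abelian

namespace Groth.Agent.Lib.T2H5.TwComp

open CohPull Groth.Agent.Lib.Helper16.ExtCompare Groth.Agent.Lib.Helper9.ExtNat
  Groth.Agent.Lib.T2H5.ResLE Groth.Agent.Lib.T2H5.PushEdge

variable {A B C : TopCat.{u}} (a : A ⟶ B) (b : B ⟶ C)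

/-- the composite adjunction `b⁻¹ ⋙ a⁻¹ ⊣ (a ≫ b)_*` -/
noncomputable def adjC : inv b ⋙ inv a ⊣ CohTop.push (a ≫ b) :=
  (invPushAdj b).comp (invPushAdj a)

/-- the canonical comparison `a⁻¹ b⁻¹ ⟶ (a ≫ b)⁻¹` -/
noncomputable def ee : inv b ⋙ inv a ⟶ inv (a ≫ b) :=
  (conjugateEquiv (invPushAdj (a ≫ b)) (adjC a b)).symm (𝟙 _)

lemma adjC_homEquiv {M : CohTop.Ab C} {P : CohTop.Ab A} (ν : (inv a).obj ((inv b).obj M) ⟶ P) :
    (adjC a b).homEquiv M P ν =
      (invPushAdj b).homEquiv M ((CohTop.push a).obj P) ((invPushAdj a).homEquiv _ P ν) := by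
  have h : ∀ (adj : inv b ⋙ inv a ⊣ CohTop.push a ⋙ CohTop.push b)
      (_ : adj = (invPushAdj b).comp (invPushAdj a)),
      adj.homEquiv M P ν = (invPushAdj b).homEquiv M ((CohTop.push a).obj P)
        ((invPushAdj a).homEquiv _ P ν) := by
    intro adj hadj
    subst hadj
    rw [Adjunction.comp_homEquiv]
    rfl
  exact h (adjC a b) rfl

lemma homEquiv_ee {M : CohTop.Ab C} {P : CohTop.Ab A} (μ : (inv (a ≫ b)).obj M ⟶ P) :
    (adjC a b).homEquiv M P ((ee a b).app M ≫ μ) = (invPushAdj (a ≫ b)).homEquiv M P μ := by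
  rw [Adjunction.homEquiv_unit, Adjunction.homEquiv_unit, Functor.map_comp]
  have h := unit_conjugateEquiv_symm (invPushAdj (a ≫ b)) (adjC a b) (𝟙 _) M
  have h' : (invPushAdj (a ≫ b)).unit.app M =
      (adjC a b).unit.app M ≫ (CohTop.push (a ≫ b)).map ((ee a b).app M) :=
    (Category.comp_id _).symm.trans h
  rw [← Category.assoc, ← h']

/-- compatibility of the two transposition rules -/
lemma ee_comp {M : CohTop.Ab C} {N : CohTop.Ab B} {P : CohTop.Ab A}
    (κ' : M ⟶ (CohTop.push b).obj N) (l' : N ⟶ (CohTop.push a).obj P) :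
    (ee a b).app M ≫ ((invPushAdj (a ≫ b)).homEquiv M P).symm (κ' ≫ (CohTop.push b).map l') =
      (inv a).map (((invPushAdj b).homEquiv M N).symm κ') ≫ ((invPushAdj a).homEquiv N P).symm l' := by
  apply ((adjC a b).homEquiv M P).injective
  rw [homEquiv_ee, Equiv.apply_symm_apply, adjC_homEquiv,
    Adjunction.homEquiv_naturality_left, Equiv.apply_symm_apply,
    Adjunction.homEquiv_naturality_right, Equiv.apply_symm_apply]
  rfl

lemma adjZ_homEquiv_eq {Y : TopCat.{u}} {M : CohTop.Ab Y} (φ : CohTop.const Y (ULift.{u} ℤ) ⟶ M) :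
    (adjZ Y).homEquiv _ _ φ = oneSec Y ≫ φ.hom.app (op ⊤) := by
  have := (adjZ Y).homEquiv_naturality_right (𝟙 (CohTop.const Y (ULift.{u} ℤ))) φ
  rw [Category.id_comp] at this
  exact this

/-- the canonical maps `ℤ ⟶ g⁻¹ℤ` are compatible with composition -/
lemma oneTo_comp :
    (oneTo a ≫ (inv a).map (oneTo b)) ≫ (ee a b).app (CohTop.const C (ULift.{u} ℤ)) =
      oneTo (a ≫ b) := by
  apply ((adjZ A).homEquiv _ _).injective
  have hR : (adjZ A).homEquiv _ _ (oneTo (a ≫ b)) =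
      oneSec C ≫ ((invPushAdj (a ≫ b)).unit.app (CohTop.const C (ULift.{u} ℤ))).hom.app (op ⊤) :=
    ((adjZ A).homEquiv _ _).apply_symm_apply _
  rw [hR]
  let Z := CohTop.const C (ULift.{u} ℤ)
  let ψ : (inv b).obj Z ⟶ (CohTop.push a).obj ((inv (a ≫ b)).obj Z) :=
    (invPushAdj a).homEquiv _ _ ((ee a b).app Z)
  have h1 : (inv a).map (oneTo b) ≫ (ee a b).app Z =
      ((invPushAdj a).homEquiv _ _).symm (oneTo b ≫ ψ) := by
    rw [Adjunction.homEquiv_naturality_left_symm, Equiv.symm_apply_apply]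
  let ψ' : Z ⟶ (CohTop.push b).obj ((CohTop.push a).obj ((inv (a ≫ b)).obj Z)) :=
    (invPushAdj b).homEquiv _ _ ψ
  have h2 : ψ = ((invPushAdj b).homEquiv _ _).symm ψ' := (Equiv.symm_apply_apply _ _).symm
  have h3 : ψ' = (invPushAdj (a ≫ b)).unit.app Z := by
    have e1 := homEquiv_ee a b (𝟙 ((inv (a ≫ b)).obj Z))
    rw [Category.comp_id, adjC_homEquiv] at e1
    refine e1.trans ?_
    rw [Adjunction.homEquiv_unit, CategoryTheory.Functor.map_id]
    exact Category.comp_id _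
  rw [Category.assoc, h1]
  refine (homEquiv_oneTo_comp a _ (oneTo b ≫ ψ)).trans ?_
  rw [h2]
  refine (homEquiv_oneTo_comp b _ ψ').trans ?_
  rw [adjZ_homEquiv_eq, h3]
  rfl

/-- **composition of twisted pullbacks** -/
theorem tw_comp' {M : CohTop.Ab C} {N : CohTop.Ab B} {P : CohTop.Ab A}
    (κ : (inv b).obj M ⟶ N) (l : (inv a).obj N ⟶ P) (μ : (inv (a ≫ b)).obj M ⟶ P)
    (hμ : (ee a b).app M ≫ μ = (inv a).map κ ≫ l) (n : ℕ) (x : Sheaf.H M n) :
    tw a l n (tw b κ n x) = tw (a ≫ b) μ n x := by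
  rw [tw_apply, tw_apply, tw_apply, cmp_postcomp, cmp_cmp (inv b) (inv a) (oneTo b) (oneTo a),
    Ext.comp_assoc_of_third_deg_zero, Ext.mk₀_comp_mk₀, ← hμ, ← Ext.mk₀_comp_mk₀,
    ← Ext.comp_assoc_of_third_deg_zero, cmp_natTrans (ee a b), oneTo_comp]

/-- **composition of twisted pullbacks**, in terms of the adjoint maps -/
theorem tw_comp {M : CohTop.Ab C} {N : CohTop.Ab B} {P : CohTop.Ab A}
    (κ' : M ⟶ (CohTop.push b).obj N) (l' : N ⟶ (CohTop.push a).obj P) (n : ℕ) (x : Sheaf.H M n) :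
    tw a (((invPushAdj a).homEquiv N P).symm l') n
        (tw b (((invPushAdj b).homEquiv M N).symm κ') n x) =
      tw (a ≫ b) (((invPushAdj (a ≫ b)).homEquiv M P).symm (κ' ≫ (CohTop.push b).map l')) n x :=
  tw_comp' a b _ _ _ (ee_comp a b κ' l') n x

end Groth.Agent.Lib.T2H5.TwComp
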