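import Groth.Agent.Lib.T2H5AdicPicC
import Groth.Agent.Lib.T2H5BC0Main
import Groth.Agent.Lib.T2H5BC0MainB
import Groth.Agent.Lib.T2H5FibreAlg
set_option backward.isDefEq.respectTransparency.types false

/-!
# `O_S → f_* O_X` for proper flat morphisms whose fibres have only constant functions (helper5)

Namespace `Groth.Agent.Lib.T2H5.UnitPush`.

* `surjective_bcMap_app_top`: if `κ(s) → Γ(X_s, O)` is surjective then the degree zero base change map of the fibre
  square at `s` for `O_X` is surjective on global sections.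
-/

set_option autoImplicit false
set_option linter.style.haveILetI false
set_option linter.unusedSectionVars false
set_option linter.unusedVariables false
universe u
open CategoryTheory CategoryTheory.Limits AlgebraicGeometry Opposite TopologicalSpace

namespace Groth.Agent.Lib.T2H5.UnitPush

open Groth.Agent.Helper13AffBC Groth.Agent.Helper13PullbackUnit Groth.Agent.Lib.Helper23.GenLocus
  Groth.Agent.Lib.Helper23.PB Groth.Agent.Lib.T2H5.AdicPic

section fibre

variable {X S X' S' : Scheme.{u}} (f : X ⟶ S) (g : S' ⟶ S) (g' : X' ⟶ X) (f' : X' ⟶ S')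
  (h : IsPullback g' f' f g)

/-- the image of the unit section of `1` under `g'^* O_X ≅ O_{X'}` -/
theorem pullbackUnitHom_unitSec_one {A : X.Opens} {A' : X'.Opens} (hle : A' ≤ g' ⁻¹ᵁ A) :
    (pullbackUnitHom g').app A' (unitSec g' (Coh.structureModule X) hle (toS A 1)) = toS A' 1 := by
  rw [unitSec_apply]
  have n := congr($((pullbackUnitHom g').mapPresheaf.naturality (homOfLE hle).op)
    (((Scheme.Modules.pullbackPushforwardAdjunction g').unit.app (Coh.structureModule X)).app A
      (toS A 1)))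
  refine n.trans ?_
  have e := pullbackUnitHom_η g' A 1
  rw [map_one] at e
  refine (congrArg ((Coh.structureModule X').presheaf.map (homOfLE hle).op) e).trans ?_
  rw [map_toS, map_one]

/-- if `Γ(S', U') → Γ(X', f'⁻¹U')` is surjective then the degree zero base change map for `O_X` is surjective on
sections over `U'` -/
theorem surjective_bcMap_app_of_surjective_app (U' : S'.Opens)
    (hsurj : Function.Surjective (f'.app U').hom) :
    Function.Surjective ((bcMap f g g' f' h (Coh.structureModule X)).app U') := by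
  intro y
  have hinj : Function.Injective ((pullbackUnitHom g').app (f' ⁻¹ᵁ U')) := by
    have h3 : ∀ x, (pullbackUnitIso g').inv.app (f' ⁻¹ᵁ U')
        ((pullbackUnitHom g').app (f' ⁻¹ᵁ U') x) = x := by
      intro x
      have := congrArg (fun t => t.app (f' ⁻¹ᵁ U') x) (pullbackUnitIso g').hom_inv_id
      exact this
    exact Function.LeftInverse.injective h3
  obtain ⟨c, hc⟩ := hsurj (ofS (f' ⁻¹ᵁ U') ((pullbackUnitHom g').app (f' ⁻¹ᵁ U') y))
  refine ⟨c • unitSec g ((Scheme.Modules.pushforward f).obj (Coh.structureModule X))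
    (le_top : U' ≤ g ⁻¹ᵁ ⊤) (toS (f ⁻¹ᵁ ⊤) 1), ?_⟩
  rw [Scheme.Modules.Hom.app_smul, bcMap_unitSec]
  apply hinj
  rw [pushforward_smul]
  erw [Scheme.Modules.Hom.app_smul]
  rw [pullbackUnitHom_unitSec_one, smul_toS, mul_one, hc, toS_ofS]

end fibre

section aux

/-- the kernel of `Γ(Y, W) → Γ(Spec κ(s), ⊤)` is the prime of `s` -/
theorem ker_appLE_fromSpecResidueField {Y : Scheme.{u}} {W : Y.Opens} (hW : IsAffineOpen W) (s : Y)
    (hs : s ∈ W) (hle : (⊤ : (Spec (Y.residueField s)).Opens) ≤ (Y.fromSpecResidueField s) ⁻¹ᵁ W) :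
    RingHom.ker ((Y.fromSpecResidueField s).appLE W ⊤ hle).hom =
      (hW.primeIdealOf ⟨s, hs⟩).asIdeal := by
  have h1 := Groth.Agent.Lib.T2H5.BC0GlueG.appLE_fromSpecResidueField s hs hle
  letI : Algebra Γ(Y, W) (Y.presheaf.stalk s) := (Y.presheaf.germ W s hs).hom.toAlgebra
  haveI := hW.isLocalization_stalk ⟨s, hs⟩
  have h2 := IsLocalization.AtPrime.under_maximalIdeal (Y.presheaf.stalk s)
    (hW.primeIdealOf ⟨s, hs⟩).asIdeal
  ext a
  have h3 : (Scheme.ΓSpecIso (Y.residueField s)).hom.hom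
      (((Y.fromSpecResidueField s).appLE W ⊤ hle).hom a) =
      (Y.residue s).hom ((Y.presheaf.germ W s hs).hom a) :=
    congrArg (fun φ : Γ(Y, W) ⟶ Y.residueField s => φ.hom a) h1
  have hinj : Function.Injective (Scheme.ΓSpecIso (Y.residueField s)).hom.hom :=
    ((ConcreteCategory.isIso_iff_bijective (Scheme.ΓSpecIso (Y.residueField s)).hom).1
      inferInstance).1
  rw [RingHom.mem_ker, ← h2, Ideal.mem_comap]
  have h4 : (Y.residue s).hom ((Y.presheaf.germ W s hs).hom a) = 0 ↔
      (Y.presheaf.germ W s hs).hom a ∈ IsLocalRing.maximalIdeal (Y.presheaf.stalk s) :=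
    IsLocalRing.residue_eq_zero_iff _
  refine Iff.trans ?_ h4
  rw [← h3]
  constructor
  · intro h0
    rw [h0, map_zero]
  · intro h0
    apply hinj
    rw [h0, map_zero]

theorem bijective_appLE_of_bijective_app {X' K : Scheme.{u}} (f' : X' ⟶ K) (U' : K.Opens)
    (V' : X'.Opens) (e : V' ≤ f' ⁻¹ᵁ U') (he : f' ⁻¹ᵁ U' ≤ V')
    (hb : Function.Bijective (f'.app U').hom) : Function.Bijective (f'.appLE U' V' e).hom := by
  obtain rfl : V' = f' ⁻¹ᵁ U' := le_antisymm e he
  rw [Scheme.Hom.appLE_eq_app]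
  exact hb

/-- the linear equivalence on sections induced by an isomorphism of modules -/
noncomputable def secEquiv {Y : Scheme.{u}} {M N : Y.Modules} (e : M ≅ N) (W : Y.Opens) :
    Γ(M, W) ≃ₗ[Γ(Y, W)] Γ(N, W) where
  toFun := e.hom.app W
  invFun := e.inv.app W
  map_add' := fun a b => map_add _ a b
  map_smul' := fun r m => Scheme.Modules.Hom.app_smul e.hom r m
  left_inv := fun x => congrArg (fun t => t.app W x) e.hom_inv_id
  right_inv := fun x => congrArg (fun t => t.app W x) e.inv_hom_id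

open Groth.Agent.Helper13QcqsBC in
/-- the section `1` of `O_X` over `f⁻¹U` as an element of the `Γ(S, U)`-module `Γ(X, f⁻¹U)` -/
noncomputable def oneSec {X S : Scheme.{u}} (f : X ⟶ S) (U : S.Opens) :
    SecR f (Coh.structureModule X) U (f ⁻¹ᵁ U) le_rfl := toS (f ⁻¹ᵁ U) 1

open Groth.Agent.Helper13QcqsBC Groth.Agent.Helper13FlatMV TensorProduct in
/-- if the comparison `Γ(S', U') ⊗ Γ(X, f⁻¹U) → Γ(X', g'^* O_X)` is bijective and `Γ(S', U') → Γ(X', f'⁻¹U')` is
bijective then `c ↦ c ⊗ 1` is bijective -/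
theorem bijective_tmul_one_of_kBij {X S X' S' : Scheme.{u}} (f : X ⟶ S) (g : S' ⟶ S) (g' : X' ⟶ X)
    (f' : X' ⟶ S') (h : IsPullback g' f' f g) {U : S.Opens} {U' : S'.Opens} (hle : U' ≤ g ⁻¹ᵁ U)
    (hk : KBij f g g' f' h (Coh.structureModule X) hle (f ⁻¹ᵁ U) le_rfl)
    (hH : Function.Bijective (f'.app U').hom) :
    letI : Algebra Γ(S, U) Γ(S', U') := (g.appLE U U' hle).hom.toAlgebra
    Function.Bijective (fun c : Γ(S', U') => c ⊗ₜ[Γ(S, U)] oneSec f U) := by
  letI : Algebra Γ(S, U) Γ(S', U') := (g.appLE U U' hle).hom.toAlgebra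
  unfold KBij at hk
  have hpb : Function.Bijective ((pullbackUnitHom g').app (Vp g' f' U' (f ⁻¹ᵁ U))) := by
    have h3 : ∀ x, (pullbackUnitIso g').inv.app (Vp g' f' U' (f ⁻¹ᵁ U))
        ((pullbackUnitHom g').app (Vp g' f' U' (f ⁻¹ᵁ U)) x) = x := fun x =>
      congrArg (fun t => t.app (Vp g' f' U' (f ⁻¹ᵁ U)) x) (pullbackUnitIso g').hom_inv_id
    have h4 : ∀ x, (pullbackUnitHom g').app (Vp g' f' U' (f ⁻¹ᵁ U))
        ((pullbackUnitIso g').inv.app (Vp g' f' U' (f ⁻¹ᵁ U)) x) = x := fun x =>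
      congrArg (fun t => t.app (Vp g' f' U' (f ⁻¹ᵁ U)) x) (pullbackUnitIso g').inv_hom_id
    exact ⟨Function.LeftInverse.injective h3, Function.RightInverse.surjective h4⟩
  have hcomp : ∀ c : Γ(S', U'),
      (pullbackUnitHom g').app (Vp g' f' U' (f ⁻¹ᵁ U))
        (kap (R := Γ(S, U)) (R' := Γ(S', U'))
          (uW f g' f' (Coh.structureModule X) le_rfl
            (inf_le_left : Vp g' f' U' (f ⁻¹ᵁ U) ≤ g' ⁻¹ᵁ (f ⁻¹ᵁ U)) inf_le_right)
          (uW_smul f g g' f' h (Coh.structureModule X) hle le_rfl inf_le_left inf_le_right)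
          (c ⊗ₜ[Γ(S, U)] oneSec f U)) =
      toS (Vp g' f' U' (f ⁻¹ᵁ U)) ((f'.appLE U' (Vp g' f' U' (f ⁻¹ᵁ U)) inf_le_right).hom c) := by
    intro c
    rw [kap_tmul]
    show (pullbackUnitHom g').app (Vp g' f' U' (f ⁻¹ᵁ U))
      (((f'.appLE U' (Vp g' f' U' (f ⁻¹ᵁ U)) inf_le_right).hom c : Γ(X', Vp g' f' U' (f ⁻¹ᵁ U))) •
        unitSec g' (Coh.structureModule X)
          (inf_le_left : Vp g' f' U' (f ⁻¹ᵁ U) ≤ g' ⁻¹ᵁ (f ⁻¹ᵁ U)) (toS (f ⁻¹ᵁ U) 1)) = _
    rw [Scheme.Modules.Hom.app_smul, pullbackUnitHom_unitSec_one, smul_toS, mul_one]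
  have hbij2 : Function.Bijective (f'.appLE U' (Vp g' f' U' (f ⁻¹ᵁ U)) inf_le_right).hom :=
    bijective_appLE_of_bijective_app f' U' _ inf_le_right
      (le_inf (preimage_le f g g' f' h hle) le_rfl) hH
  have hΨ := hpb.comp hk
  refine (Function.Bijective.of_comp_iff' hΨ _).1 ?_
  have e : (((pullbackUnitHom g').app (Vp g' f' U' (f ⁻¹ᵁ U)) : _ → _) ∘
      (kap (R := Γ(S, U)) (R' := Γ(S', U'))
          (uW f g' f' (Coh.structureModule X) le_rfl
            (inf_le_left : Vp g' f' U' (f ⁻¹ᵁ U) ≤ g' ⁻¹ᵁ (f ⁻¹ᵁ U)) inf_le_right)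
          (uW_smul f g g' f' h (Coh.structureModule X) hle le_rfl inf_le_left inf_le_right))) ∘
      (fun c : Γ(S', U') => c ⊗ₜ[Γ(S, U)] oneSec f U) =
      (f'.appLE U' (Vp g' f' U' (f ⁻¹ᵁ U)) inf_le_right).hom := funext hcomp
  rw [e]
  exact hbij2

end aux

section main

open Groth.Agent.Lib.T2H5.BC0GlueE Groth.Agent.Lib.T2H5.BC0GlueF Groth.Agent.Lib.T2H5.BC0GlueG
  Groth.Agent.Lib.T2H5.BC0GlueC Groth.Agent.Helper13QcqsBC Groth.Agent.Helper13FlatMV TensorProduct
  Groth.Agent.Lib.T2H5.FibreAlg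

variable {X S : Scheme.{u}} (f : X ⟶ S)

theorem isFP_structureModule : CohB1.IsFP (Coh.structureModule X) :=
  Groth.Agent.Helper18FinFlat.isFinitePresentation_structureModule X

theorem isFlatOver_structureModule [Flat f] : FlatMod.IsFlatOver f (Coh.structureModule X) :=
  Groth.Agent.Lib.T2H9.InvFlat.isFlatOver_of_isInvertible f _
    (Groth.Agent.Lib.Helper23.TensorUnit.isInvertible_structureModule X)

variable [IsProper f] [LocallyOfFinitePresentation f]

/-- surjectivity of `κ(s) → Γ(X_s, O)` puts `s` in the good locus of a universal complex of `O_X` -/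
theorem mem_good_of_surjective_appTop {V : S.Opens} {hV : IsAffineOpen V}
    (D : BCLoc f (Coh.structureModule X) hV) (s : S) (hsV : s ∈ V)
    (hs : Function.Surjective (f.fiberToSpecResidueField s).appTop.hom) : s ∈ D.good (-1) := by
  haveI : (Coh.structureModule X).IsQuasicoherent :=
    Groth.Agent.Helper18Strict.isQCoh_of_isFP _ isFP_structureModule
  haveI := Groth.Agent.Lib.Helper23.QCohLocal.isQuasicoherent_pushforward f (Coh.structureModule X)
  have hsq : IsPullback (f.fiberι s) (f.fiberToSpecResidueField s) f (S.fromSpecResidueField s) :=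
    IsPullback.of_hasPullback _ _
  exact D.mem_good_of_surjective s hsV hsq
    (surjective_bcMap_app_of_surjective_app f _ _ _ hsq ⊤ hs)

/-- over an affine open inside the good locus, `Γ(S, W) → Γ(X, f⁻¹W)` is bijective if all fibres over `W` have only
constant functions -/
theorem bijective_app_of_good {V : S.Opens} {hV : IsAffineOpen V}
    (D : BCLoc f (Coh.structureModule X) hV) {W : S.Opens} (hW : IsAffineOpen W) (hWV : W ≤ V)
    (hWG : (W : Set S) ⊆ D.good (-1))
    (hH : ∀ s ∈ W, Function.Bijective (f.fiberToSpecResidueField s).appTop.hom) :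
    Function.Bijective (f.app W).hom := by
  haveI hq : (Coh.structureModule X).IsQuasicoherent :=
    Groth.Agent.Helper18Strict.isQCoh_of_isFP _ isFP_structureModule
  haveI hq' := Groth.Agent.Lib.Helper23.QCohLocal.isQuasicoherent_pushforward f
    (Coh.structureModule X)
  haveI := Groth.Agent.Lib.T2H5.RpushClosed.hasInjectiveResolutions_modules X
  let M := SecR f (Coh.structureModule X) W (f ⁻¹ᵁ W) le_rfl
  let m₀ : M := oneSec f W
  obtain ⟨hfin, hproj⟩ := D.finite_projective_sect_zero hW hWV hWG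
  let e₀ : M ≃ₗ[Γ(S, W)] Γ((Scheme.Modules.pushforward f).obj (Coh.structureModule X), W) :=
    { toFun := fun a => a
      invFun := fun a => a
      left_inv := fun _ => rfl
      right_inv := fun _ => rfl
      map_add' := fun _ _ => rfl
      map_smul' := fun r a => appLE_smul_eq f (Coh.structureModule X) W r a }
  let e₁ : M ≃ₗ[Γ(S, W)] Γ((Coh.Rpush f 0).obj (Coh.structureModule X), W) :=
    e₀.trans (secEquiv (Groth.Agent.Lib.T2H5.LocMain.rpushZeroIso f (Coh.structureModule X)).symm W)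
  haveI : Module.Finite Γ(S, W) M := Module.Finite.equiv e₁.symm
  haveI : Module.Projective Γ(S, W) M := Module.Projective.of_equiv e₁.symm
  have key := bijective_smul_of_fibres.{u, u} (A := Γ(S, W)) (M := M) m₀ (fun p => ?_)
  · have e : (fun a : Γ(S, W) => a • m₀) = (f.app W).hom := by
      funext a
      show toS (f ⁻¹ᵁ W) ((f.appLE W (f ⁻¹ᵁ W) le_rfl).hom a * 1) = _
      rw [mul_one, Scheme.Hom.appLE_eq_app]
      rfl
    rw [← e]
    exact key
  · -- the fibre at `p`
    have hs : hW.fromSpec p ∈ W := fromSpec_mem hW p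
    have hsq : IsPullback (f.fiberι (hW.fromSpec p)) (f.fiberToSpecResidueField (hW.fromSpec p)) f
        (S.fromSpecResidueField (hW.fromSpec p)) := IsPullback.of_hasPullback _ _
    have hle := top_le_preimage (V := W) (hW.fromSpec p) hs
    have hKf : IsField Γ(Spec (S.residueField (hW.fromSpec p)), ⊤) :=
      MulEquiv.isField (Field.toIsField (S.residueField (hW.fromSpec p)))
        (Scheme.ΓSpecIso (S.residueField (hW.fromSpec p))).commRingCatIsoToRingEquiv.toMulEquiv
    refine ⟨Γ(Spec (S.residueField (hW.fromSpec p)), ⊤), inferInstance,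
      ((S.fromSpecResidueField (hW.fromSpec p)).appLE W ⊤ hle).hom.toAlgebra, hKf, ?_, ?_⟩
    · refine (ker_appLE_fromSpecResidueField hW (hW.fromSpec p) hs hle).trans ?_
      rw [primeIdealOf_fromSpec hW p]
    · letI instAlg : Algebra Γ(S, W) Γ(Spec (S.residueField (hW.fromSpec p)), ⊤) :=
        ((S.fromSpecResidueField (hW.fromSpec p)).appLE W ⊤ hle).hom.toAlgebra
      have hb := D.bcMap_app_bijective hW hWV hWG (S.fromSpecResidueField (hW.fromSpec p))
        (f.fiberι (hW.fromSpec p)) (f.fiberToSpecResidueField (hW.fromSpec p)) hsq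
        (isAffineOpen_top (Spec (S.residueField (hW.fromSpec p)))) hle
      have hk := (bcMap_app_bijective_iff f (S.fromSpecResidueField (hW.fromSpec p))
        (f.fiberι (hW.fromSpec p)) (f.fiberToSpecResidueField (hW.fromSpec p)) hsq
        (Coh.structureModule X) hW (isAffineOpen_top (Spec (S.residueField (hW.fromSpec p)))) hle).mp hb
      exact bijective_tmul_one_of_kBij f (S.fromSpecResidueField (hW.fromSpec p))
        (f.fiberι (hW.fromSpec p)) (f.fiberToSpecResidueField (hW.fromSpec p)) hsq hle hk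
        (hH (hW.fromSpec p) hs)

/-- **`O_S → f_* O_X` is an isomorphism** for `f` proper flat of finite presentation whose fibres have only constant
functions -/
theorem isIso_unitToPush [Flat f]
    (hH : ∀ s : S, Function.Bijective (f.fiberToSpecResidueField s).appTop.hom) :
    IsIso (ClSub.unitToPush f) := by
  have hfp := isFP_structureModule (X := X)
  have hfl := isFlatOver_structureModule f
  let ι : Type u := {W : S.Opens // IsAffineOpen W ∧ ∃ (V : S.Opens) (hV : IsAffineOpen V)
    (D : BCLoc f (Coh.structureModule X) hV), W ≤ V ∧ (W : Set S) ⊆ D.good (-1)}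
  refine isIso_of_bijective_on_basis _ (fun i : ι => i.1) ?_ ?_
  · rw [Opens.isBasis_iff_nbhd]
    intro O y hyO
    obtain ⟨V, hV, hyV, -⟩ := exists_isAffineOpen_mem_and_subset (x := y) (U := ⊤) trivial
    obtain ⟨D⟩ := nonempty_bcLoc f (Coh.structureModule X) hfp hfl hV
    have hD := mem_good_of_surjective_appTop f D y hyV (hH y).2
    obtain ⟨_, ⟨W, hW, rfl⟩, hyW, hWG⟩ := S.isBasis_affineOpens.exists_subset_of_mem_open
      (show y ∈ D.good (-1) ∩ (O : Set S) from ⟨hD, hyO⟩) ((D.isOpen_good (-1)).inter O.2)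
    exact ⟨W, ⟨⟨W, hW, V, hV, D, fun x hx => D.good_subset (-1) (hWG hx).1,
      fun x hx => (hWG hx).1⟩, rfl⟩, hyW, fun x hx => (hWG hx).2⟩
  · rintro ⟨W, hW, V, hV, D, hWV, hWG⟩
    exact bijective_app_of_good f D hW hWV hWG (fun s _ => hH s)

/-- `Γ(S, V) → Γ(X, f⁻¹V)` is an isomorphism for every open `V` -/
theorem isIso_app_of_fibres [Flat f]
    (hH : ∀ s : S, IsIso (f.fiberToSpecResidueField s).appTop) (V : S.Opens) : IsIso (f.app V) := by
  have hH' : ∀ s : S, Function.Bijective (f.fiberToSpecResidueField s).appTop.hom :=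
    fun s => (ConcreteCategory.isIso_iff_bijective _).1 (hH s)
  haveI := isIso_unitToPush f hH'
  have h3 : ∀ x, (inv (ClSub.unitToPush f)).app V ((ClSub.unitToPush f).app V x) = x := fun x =>
    congrArg (fun t => t.app V x) (IsIso.hom_inv_id (ClSub.unitToPush f))
  have h4 : ∀ x, (ClSub.unitToPush f).app V ((inv (ClSub.unitToPush f)).app V x) = x := fun x =>
    congrArg (fun t => t.app V x) (IsIso.inv_hom_id (ClSub.unitToPush f))
  have hb : Function.Bijective ((ClSub.unitToPush f).app V) :=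
    ⟨Function.LeftInverse.injective h3, Function.RightInverse.surjective h4⟩
  exact (ConcreteCategory.isIso_iff_bijective (f.app V)).2 hb

end main

end Groth.Agent.Lib.T2H5.UnitPush
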