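import Groth.Agent.Lib.T2H5UnitsShD

/-!
# Lifting cohomology classes of units along a small extension of local rings (helper5)

Namespace `Groth.Agent.Lib.T2H5.UnitsShE`.

`A` a local ring, `t ≠ 0` in the maximal ideal `m` with `m t = 0`, `X'` flat over `A`, `i : X → X'` the base change to
`A/(t)`, `X₀` the closed fibre.  If `H^{q+1}(X₀, O) = 0` then `H^q(X', O^×) → H^q(X', i_* O_X^×)` is surjective (`main`).
-/

set_option autoImplicit false
set_option backward.isDefEq.respectTransparency.types false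
set_option linter.style.haveILetI false
set_option linter.unusedSectionVars false
set_option linter.unusedVariables false
universe u

open CategoryTheory CategoryTheory.Limits AlgebraicGeometry TopologicalSpace Opposite

namespace Groth.Agent.Lib.T2H5.UnitsShE

open Groth.Agent.Lib.T2H5.FlatBC Groth.Agent.Lib.T2H5.SqZeroPic Groth.Agent.Lib.Helper6
  Groth.Agent.Lib.T2H5.UnitsShC Groth.Agent.Lib.T2H5.UnitsShD

section BC

variable (A : Type u) [CommRing A] (X' : Scheme.{u}) [X'.Over (Spec (CommRingCat.of A))] (𝔞 : Ideal A)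

/-- the base change of `X'` to `A ⧸ 𝔞`, as a closed subscheme of `X'` -/
noncomputable abbrev bcι : pullback (X' ↘ Spec (CommRingCat.of A))
    (Spec.map (CommRingCat.ofHom (Ideal.Quotient.mk 𝔞))) ⟶ X' :=
  pullback.fst (X' ↘ Spec (CommRingCat.of A)) (Spec.map (CommRingCat.ofHom (Ideal.Quotient.mk 𝔞)))

instance isClosedImmersion_quot : IsClosedImmersion (Spec.map (CommRingCat.ofHom (Ideal.Quotient.mk 𝔞))) :=
  IsClosedImmersion.spec_of_surjective _ Ideal.Quotient.mk_surjective

instance isClosedImmersion_bcι : IsClosedImmersion (bcι A X' 𝔞) := inferInstance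

theorem resf_toΓ {V W : X'.Opens} (h : W ≤ V) (a : A) : resf h (toΓ A V a) = toΓ A W a := by
  unfold toΓ
  rw [RingHom.comp_apply, RingHom.comp_apply]
  have := ConcreteCategory.congr_hom
    (Scheme.Hom.appLE_map (X' ↘ Spec (CommRingCat.of A)) (le_top : V ≤ _) (homOfLE h).op)
    ((Scheme.ΓSpecIso (CommRingCat.of A)).inv.hom a)
  exact this

theorem app_toΓ (W : X'.Opens) (a : A) (ha : a ∈ 𝔞) : ((bcι A X' 𝔞).app W).hom (toΓ A W a) = 0 := by
  letI : (pullback (X' ↘ Spec (CommRingCat.of A))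
    (Spec.map (CommRingCat.ofHom (Ideal.Quotient.mk 𝔞)))).Over (Spec (CommRingCat.of (A ⧸ 𝔞))) :=
    ⟨pullback.snd _ _⟩
  have h1 := appLE_toΓ A (A ⧸ 𝔞) (bcι A X' 𝔞) pullback.condition W a
  rw [Scheme.Hom.appLE_eq_app] at h1
  rw [h1]
  have : algebraMap A (A ⧸ 𝔞) a = 0 := Ideal.Quotient.eq_zero_iff_mem.2 ha
  rw [this, map_zero]

theorem ker_app (W : X'.Opens) (hW : IsAffineOpen W) :
    RingHom.ker ((bcι A X' 𝔞).app W).hom = Ideal.map (toΓ A W) 𝔞 := by
  letI : (pullback (X' ↘ Spec (CommRingCat.of A))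
    (Spec.map (CommRingCat.ofHom (Ideal.Quotient.mk 𝔞)))).Over (Spec (CommRingCat.of (A ⧸ 𝔞))) :=
    ⟨pullback.snd _ _⟩
  have h1 := ker_appLE A (A ⧸ 𝔞) (bcι A X' 𝔞) pullback.condition (IsPullback.of_hasPullback _ _)
    Ideal.Quotient.mk_surjective W hW
  rw [Scheme.Hom.appLE_eq_app] at h1
  rw [h1]
  have : RingHom.ker (algebraMap A (A ⧸ 𝔞)) = 𝔞 := Ideal.mk_ker
  rw [this]

theorem flat_toΓ [Flat (X' ↘ Spec (CommRingCat.of A))] (W : X'.Opens) (hW : IsAffineOpen W) :
    (toΓ A W).Flat := by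
  unfold toΓ
  refine RingHom.Flat.comp ?_ ?_
  · exact RingHom.Flat.of_bijective (ConcreteCategory.bijective_of_isIso (Scheme.ΓSpecIso (CommRingCat.of A)).inv)
  · exact Flat.flat_appLE (X' ↘ Spec (CommRingCat.of A)) (isAffineOpen_top _) hW le_top

end BC

section Main

variable (A : Type u) [CommRing A] [IsLocalRing A]
  (t : A) (ht0 : t ≠ 0) (ht : t ∈ IsLocalRing.maximalIdeal A)
  (hmt : ∀ x ∈ IsLocalRing.maximalIdeal A, x * t = 0)
  (X' : Scheme.{u}) [X'.Over (Spec (CommRingCat.of A))] [Flat (X' ↘ Spec (CommRingCat.of A))]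

/-- the ideal sheaf of the base change to `A ⧸ (t)` -/
noncomputable abbrev JJ : X'.IdealSheafData := (bcι A X' (Ideal.span {t})).ker

theorem Kr_JJ (W : X'.Opens) (hW : IsAffineOpen W) : Kr (JJ A t X') W = Ideal.span {toΓ A W t} := by
  rw [Kr_ker, ker_app A X' _ W hW, Ideal.map_span, Set.image_singleton]

include ht hmt in
theorem JJ_mul : JJ A t X' * JJ A t X' = ⊥ := by
  apply Scheme.IdealSheafData.ext
  funext U
  rw [Scheme.IdealSheafData.ideal_mul]
  change (JJ A t X').ideal U * (JJ A t X').ideal U = ⊥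
  have e : (JJ A t X').ideal U = Ideal.span {toΓ A U.1 t} := by
    rw [← Kr_JJ A t X' U.1 U.2]
    exact ((JJ A t X').ker_subschemeι_app U).symm
  rw [e, Ideal.span_singleton_mul_span_singleton, ← map_mul, hmt t ht, map_zero]
  exact Ideal.span_singleton_eq_bot.2 rfl

theorem toΓ_mem_Kr : toΓ A ⊤ t ∈ Kr (JJ A t X') ⊤ := by
  rw [Kr_ker, RingHom.mem_ker]
  exact app_toΓ A X' _ ⊤ t (Ideal.subset_span rfl)

/-- the global section `t` of the ideal -/
noncomputable def sig : Γ(ClSub.idealMod (JJ A t X'), ⊤) :=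
  (exists_kap_eq (JJ A t X') ⊤ _ (toΓ_mem_Kr A t X')).choose

theorem kap_sig : kap (JJ A t X') ⊤ (sig A t X') = toΓ A ⊤ t :=
  (exists_kap_eq (JJ A t X') ⊤ _ (toΓ_mem_Kr A t X')).choose_spec

theorem tau_sig (W : X'.Opens) : tau (JJ A t X') (sig A t X') W = toΓ A W t := by
  unfold tau
  rw [kap_sig, resf_toΓ]

include ht0 ht hmt in
theorem mul_eq_zero_iff (W : X'.Opens) (hW : IsAffineOpen W) (f : Γ(X', W)) :
    f * toΓ A W t = 0 ↔ ((bcι A X' (IsLocalRing.maximalIdeal A)).app W).hom f = 0 := by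
  rw [← RingHom.mem_ker, ker_app A X' _ W hW]
  constructor
  · intro h
    refine mem_map_of_mul_eq_zero (toΓ A W) (flat_toΓ A X' W hW) t _
      (fun a ha => mem_of_mul_eq_zero_of_isLocalRing t ht0 a ha) f ?_
    rw [mul_comm]
    exact h
  · intro h
    have hle : Ideal.map (toΓ A W) (IsLocalRing.maximalIdeal A) ≤
        LinearMap.ker (LinearMap.mulRight Γ(X', W) (toΓ A W t)) := by
      rw [Ideal.map_le_iff_le_comap]
      intro a ha
      rw [Ideal.mem_comap, LinearMap.mem_ker, LinearMap.mulRight_apply, ← map_mul, hmt a ha, map_zero]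
    have := hle h
    rw [LinearMap.mem_ker, LinearMap.mulRight_apply] at this
    exact this

include ht0 ht hmt in
theorem main (q : ℕ)
    (hvan : Subsingleton (Coh.HH
      (pullback (X' ↘ Spec (CommRingCat.of A)) (Spec.map (CommRingCat.ofHom (IsLocalRing.residue A))))
      (Coh.structureModule _) (q + 1))) :
    Function.Surjective (Sheaf.H.map (UnitsSh.comap
      (pullback.fst (X' ↘ Spec (CommRingCat.of A))
        (Spec.map (CommRingCat.ofHom (Ideal.Quotient.mk (Ideal.span ({t} : Set A))))))) q) := by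
  apply Groth.Agent.Lib.T2H5.UnitsShB.surjective_H_map_comap_of_image
  apply Groth.Agent.Lib.T2H5.UnitsShB.surjective_H_map_comap (JJ A t X') (JJ_mul A t ht hmt X') q
  obtain ⟨e⟩ := nonempty_iso (JJ A t X') (sig A t X') (bcι A X' (IsLocalRing.maximalIdeal A))
    (fun W hW x hx => by
      rw [Kr_JJ A t X' W hW] at hx
      obtain ⟨f, hf⟩ := Ideal.mem_span_singleton'.1 hx
      exact ⟨f, by rw [tau_sig]; exact hf⟩)
    (fun W hW f => by
      rw [tau_sig]
      exact mul_eq_zero_iff A t ht0 ht hmt X' W hW f)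
  exact subsingleton_H_idealMod (JJ A t X') (bcι A X' (IsLocalRing.maximalIdeal A)) e (q + 1) hvan

end Main

end Groth.Agent.Lib.T2H5.UnitsShE
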