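import Groth.Agent.Lib.T2H5UnitsShE

/-!
# Kernels of units maps and composition of closed immersions (helper5)

Namespace `Groth.Agent.Lib.T2H5.UnitsShF`.

* `secU`, `injective_app_of_mono`, `exists_of_exact`, `exists_kernel_sec`: sections of abelian sheaves on a space;
* `shortExact_kernels`: for a short exact sequence `0 → J → B → C → 0` and `c : C → D` the sequence
  `0 → J → ker (B → D) → ker c → 0` is short exact;
* `subsingleton_H_of_shortExact`;
* `shortExact_comap`: the units sequence of a closed immersion with square-zero ideal;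
* `subsingleton_H_kernel_comap_comp`, `surjective_H_map_comap_comp'`.
-/

set_option autoImplicit false
set_option backward.isDefEq.respectTransparency.types false
set_option linter.style.haveILetI false
set_option linter.unusedSectionVars false
set_option linter.unusedVariables false
universe u

open CategoryTheory CategoryTheory.Limits AlgebraicGeometry TopologicalSpace Opposite Abelian

namespace Groth.Agent.Lib.T2H5.UnitsShF

section Sect

variable {Y : TopCat.{u}}

/-- sections over `U`, as a functor -/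
noncomputable def secU (U : (Opens Y)ᵒᵖ) : CohTop.Ab Y ⥤ AddCommGrpCat.{u} :=
  sheafToPresheaf _ _ ⋙ (evaluation _ _).obj U

noncomputable instance (U : (Opens Y)ᵒᵖ) : PreservesLimits (secU (Y := Y) U) := by
  unfold secU
  infer_instance

instance (U : (Opens Y)ᵒᵖ) : (secU (Y := Y) U).PreservesZeroMorphisms := ⟨fun _ _ => rfl⟩

theorem injective_app_of_mono {A B : CohTop.Ab Y} (f : A ⟶ B) [Mono f] (U : (Opens Y)ᵒᵖ) :
    Function.Injective (f.hom.app U) := by
  have : Mono ((secU U).map f) := inferInstance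
  exact (AddCommGrpCat.mono_iff_injective _).1 this

theorem exists_of_exact (S : ShortComplex (CohTop.Ab Y)) (hS : S.Exact) [Mono S.f] (U : (Opens Y)ᵒᵖ)
    (b : S.X₂.obj.obj U) (hb : S.g.hom.app U b = 0) : ∃ a : S.X₁.obj.obj U, S.f.hom.app U a = b := by
  have h1 : (S.map (secU U)).Exact :=
    hS.map_of_mono_of_preservesKernel (secU U) inferInstance inferInstance
  rw [ShortComplex.ab_exact_iff] at h1
  exact h1 b hb

variable {B C D : CohTop.Ab Y}

theorem kernel_ι_app (f : B ⟶ C) (U : (Opens Y)ᵒᵖ) (k : (kernel f).obj.obj U) :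
    f.hom.app U ((kernel.ι f).hom.app U k) = 0 := by
  have := congrArg (fun m : kernel f ⟶ C => m.hom.app U k) (kernel.condition f)
  exact this

theorem exists_kernel_sec (f : B ⟶ C) (U : (Opens Y)ᵒᵖ) (b : B.obj.obj U) (hb : f.hom.app U b = 0) :
    ∃ k : (kernel f).obj.obj U, (kernel.ι f).hom.app U k = b := by
  have hE : (ShortComplex.mk (kernel.ι f) f (kernel.condition f)).Exact :=
    ShortComplex.exact_of_f_is_kernel _ (kernelIsKernel f)
  haveI : Mono (ShortComplex.mk (kernel.ι f) f (kernel.condition f)).f := inferInstanceAs (Mono (kernel.ι f))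
  exact exists_of_exact _ hE U b hb

variable (S : ShortComplex (CohTop.Ab Y)) (c : S.X₃ ⟶ D)

/-- `J → ker (B → D)` -/
noncomputable def kf : S.X₁ ⟶ kernel (S.g ≫ c) :=
  kernel.lift (S.g ≫ c) S.f (by rw [← Category.assoc, S.zero, zero_comp])

/-- `ker (B → D) → ker (C → D)` -/
noncomputable def kg : kernel (S.g ≫ c) ⟶ kernel c :=
  kernel.lift c (kernel.ι (S.g ≫ c) ≫ S.g) (by rw [Category.assoc, kernel.condition])

theorem kf_ι : kf S c ≫ kernel.ι (S.g ≫ c) = S.f := kernel.lift_ι _ _ _

theorem kg_ι : kg S c ≫ kernel.ι c = kernel.ι (S.g ≫ c) ≫ S.g := kernel.lift_ι _ _ _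

theorem kf_kg : kf S c ≫ kg S c = 0 := by
  rw [← cancel_mono (kernel.ι c), Category.assoc, kg_ι, ← Category.assoc, kf_ι, S.zero, zero_comp]

theorem kf_app (U : (Opens Y)ᵒᵖ) (a : S.X₁.obj.obj U) :
    (kernel.ι (S.g ≫ c)).hom.app U ((kf S c).hom.app U a) = S.f.hom.app U a := by
  have := congrArg (fun m : S.X₁ ⟶ S.X₂ => m.hom.app U a) (kf_ι S c)
  exact this

theorem kg_app (U : (Opens Y)ᵒᵖ) (k : (kernel (S.g ≫ c)).obj.obj U) :
    (kernel.ι c).hom.app U ((kg S c).hom.app U k) = S.g.hom.app U ((kernel.ι (S.g ≫ c)).hom.app U k) := by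
  have := congrArg (fun m : kernel (S.g ≫ c) ⟶ S.X₃ => m.hom.app U k) (kg_ι S c)
  exact this

variable (hS : S.ShortExact)

include hS in
theorem shortExact_kernels : (ShortComplex.mk (kf S c) (kg S c) (kf_kg S c)).ShortExact := by
  haveI := hS.mono_f
  haveI := hS.epi_g
  have hinj : ∀ U : (Opens Y)ᵒᵖ, Function.Injective ((kf S c).hom.app U) := by
    intro U a a' h
    apply injective_app_of_mono S.f U
    rw [← kf_app S c, ← kf_app S c, h]
  have hex : ∀ (U : (Opens Y)ᵒᵖ) (b : (kernel (S.g ≫ c)).obj.obj U), (kg S c).hom.app U b = 0 →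
      ∃ a : S.X₁.obj.obj U, (kf S c).hom.app U a = b := by
    intro U b hb
    have h1 : S.g.hom.app U ((kernel.ι (S.g ≫ c)).hom.app U b) = 0 := by
      rw [← kg_app, hb, map_zero]
    obtain ⟨a, ha⟩ := exists_of_exact S hS.exact U _ h1
    refine ⟨a, ?_⟩
    apply injective_app_of_mono (kernel.ι (S.g ≫ c)) U
    rw [kf_app, ha]
  refine { exact := Groth.Agent.Lib.T2H5.UnitsShA.exact_of_sections _ _ _ hinj hex
           mono_f := Groth.Agent.Lib.T2H5.UnitsShA.mono_of_sections _ hinj
           epi_g := ?_ }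
  change Epi (kg S c)
  rw [Groth.Agent.Lib.Helper16.ClosedEmb.locSurj_iff]
  intro V t x hx
  obtain ⟨V', hle, ⟨β, hβ⟩, hxV'⟩ := (Groth.Agent.Lib.Helper16.ClosedEmb.locSurj_iff S.g).1 inferInstance V
    ((kernel.ι c).hom.app (op V) t) x hx
  have hb : (S.g ≫ c).hom.app (op V') β = 0 := by
    change c.hom.app (op V') (S.g.hom.app (op V') β) = 0
    rw [hβ]
    have n1 := ConcreteCategory.congr_hom ((kernel.ι c).hom.naturality (homOfLE hle).op) t
    simp only [ConcreteCategory.comp_apply] at n1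
    rw [← n1]
    exact kernel_ι_app c (op V') _
  obtain ⟨k, hk⟩ := exists_kernel_sec (S.g ≫ c) (op V') β hb
  refine ⟨V', hle, ⟨k, ?_⟩, hxV'⟩
  apply injective_app_of_mono (kernel.ι c) (op V')
  rw [kg_app, hk, hβ]
  have n1 := ConcreteCategory.congr_hom ((kernel.ι c).hom.naturality (homOfLE hle).op) t
  simp only [ConcreteCategory.comp_apply] at n1
  exact n1.symm

theorem subsingleton_H_of_shortExact (T : ShortComplex (CohTop.Ab Y)) (hT : T.ShortExact) (q : ℕ)
    (h1 : Subsingleton (Sheaf.H T.X₁ q)) (h3 : Subsingleton (Sheaf.H T.X₃ q)) :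
    Subsingleton (Sheaf.H T.X₂ q) := by
  refine ⟨fun x y => ?_⟩
  have key : ∀ z : Sheaf.H T.X₂ q, z = 0 := by
    intro z
    have h0 : (z : Ext.{u} _ T.X₂ q).comp (Ext.mk₀ T.g) (add_zero q) = 0 := @Subsingleton.elim _ h3 _ _
    obtain ⟨x₁, hx₁⟩ := Ext.covariant_sequence_exact₂ _ hT z h0
    have : x₁ = 0 := @Subsingleton.elim _ h1 _ _
    rw [this, Ext.zero_comp] at hx₁
    exact hx₁.symm
  rw [key x, key y]

theorem surjective_comp_push {Z X : TopCat.{u}} (i : Z ⟶ X) (hi : Topology.IsClosedEmbedding i) {B : CohTop.Ab X}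
    {F F' : CohTop.Ab Z} (a : B ⟶ (CohTop.push i).obj F) (φ : F ⟶ F') (q : ℕ)
    (h1 : Function.Surjective (Sheaf.H.map a q)) (h2 : Function.Surjective (Sheaf.H.map φ q)) :
    Function.Surjective (Sheaf.H.map (a ≫ (CohTop.push i).map φ) q) := by
  obtain ⟨θ, hθ, hnat⟩ := Groth.Agent.Lib.T2H5.ClosedLin.exists_theta i hi q
  intro y
  obtain ⟨y₁, hy₁⟩ := (hθ F').2 y
  obtain ⟨x₁, hx₁⟩ := h2 y₁
  obtain ⟨x₀, hx₀⟩ := h1 (θ F x₁)
  refine ⟨x₀, ?_⟩
  refine (Groth.Agent.Lib.T2H5.PushEdge.H_map_comp _ _ q x₀).symm.trans ?_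
  rw [hx₀, ← hnat, hx₁]
  exact hy₁

end Sect

section Sch

open Groth.Agent.Lib.T2H5.UnitsShA Groth.Agent.Lib.T2H5.UnitsShB

variable {Y Y₁ Y₀ : Scheme.{u}} (i : Y₁ ⟶ Y) [IsClosedImmersion i] (hI : i.ker * i.ker = ⊥)

theorem comap_image_app (U : (Opens Y)ᵒᵖ) (b : (UnitsSh.unitsAb Y).obj.obj U) :
    (UnitsSh.comap (i.toImage ≫ i.imageι)).hom.app U b =
      ((CohTop.push i.imageι.base).map (UnitsSh.comap i.toImage)).hom.app U
        ((UnitsSh.comap i.imageι).hom.app U b) := rfl

theorem shortExact_comap_aux (j : Y₁ ⟶ Y) (hj : i.toImage ≫ i.imageι = j) :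
    ∃ w : phi i.ker hI ≫ UnitsSh.comap j = 0,
      (ShortComplex.mk (phi i.ker hI) (UnitsSh.comap j) w).ShortExact := by
  subst hj
  haveI := isIso_comap i.toImage
  haveI : IsIso ((CohTop.push i.imageι.base).map (UnitsSh.comap i.toImage)) := Functor.map_isIso _ _
  have e := comap_comp i.toImage i.imageι
  have hinj := phi_injective i.ker hI
  have w : phi i.ker hI ≫ UnitsSh.comap (i.toImage ≫ i.imageι) = 0 := by
    rw [e]
    change phi i.ker hI ≫ UnitsSh.comap i.ker.subschemeι ≫ _ = 0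
    rw [← Category.assoc, phi_comap, zero_comp]
  refine ⟨w, ?_⟩
  have hex : ∀ (U : (Opens Y)ᵒᵖ) (b : (UnitsSh.unitsAb Y).obj.obj U),
      (UnitsSh.comap (i.toImage ≫ i.imageι)).hom.app U b = 0 →
      ∃ a : (Coh.toAb (ClSub.idealMod i.ker)).obj.obj U, (phi i.ker hI).hom.app U a = b := by
    intro U b hb
    rw [comap_image_app] at hb
    have h0 : (UnitsSh.comap i.imageι).hom.app U b = 0 := by
      apply injective_app_of_mono ((CohTop.push i.imageι.base).map (UnitsSh.comap i.toImage)) U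
      rw [hb, map_zero]
      rfl
    exact exists_phi_eq i.ker hI U b h0
  refine { exact := exact_of_sections _ _ _ hinj hex
           mono_f := mono_of_sections _ hinj
           epi_g := ?_ }
  change Epi (UnitsSh.comap (i.toImage ≫ i.imageι))
  haveI : Epi (UnitsSh.comap i.imageι) := epi_comap i.ker hI
  have he : Epi (UnitsSh.comap i.imageι ≫ (CohTop.push i.imageι.base).map (UnitsSh.comap i.toImage)) :=
    epi_comp _ _
  rw [e]
  exact he

theorem phi_comap' : phi i.ker hI ≫ UnitsSh.comap i = 0 :=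
  (shortExact_comap_aux i hI i i.toImage_imageι).choose

/-- the units sequence `0 → J → O_Y^× → i_* O_{Y₁}^× → 0` of a closed immersion with square-zero ideal -/
theorem shortExact_comap :
    (ShortComplex.mk (phi i.ker hI) (UnitsSh.comap i) (phi_comap' i hI)).ShortExact :=
  (shortExact_comap_aux i hI i i.toImage_imageι).choose_spec

include hI in
/-- the vanishing of cohomology of kernels of units maps passes along a square-zero closed immersion -/
theorem subsingleton_H_kernel_comap_comp (j₀ : Y₀ ⟶ Y₁) (q : ℕ)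
    (h1 : Subsingleton (Sheaf.H (Coh.toAb (ClSub.idealMod i.ker)) q))
    (h2 : Subsingleton (Sheaf.H (kernel (UnitsSh.comap j₀)) q)) :
    Subsingleton (Sheaf.H (kernel (UnitsSh.comap (j₀ ≫ i))) q) := by
  rw [comap_comp j₀ i]
  have hS := shortExact_comap i hI
  have hK := shortExact_kernels _ ((CohTop.push i.base).map (UnitsSh.comap j₀)) hS
  refine subsingleton_H_of_shortExact _ hK q h1 ?_
  haveI := Groth.Agent.Lib.Helper16.ClosedEmb.push_preservesFiniteLimits i.base
  let e : (CohTop.push i.base).obj (kernel (UnitsSh.comap j₀)) ≅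
      kernel ((CohTop.push i.base).map (UnitsSh.comap j₀)) :=
    PreservesKernel.iso (CohTop.push i.base) (UnitsSh.comap j₀)
  obtain ⟨θ⟩ := Groth.Agent.Lib.Helper16.ClosedEmb.nonempty_H_push i.base i.isClosedEmbedding
    (kernel (UnitsSh.comap j₀)) q
  haveI : Subsingleton (CohTop.H ((CohTop.push i.base).obj (kernel (UnitsSh.comap j₀))) q) :=
    @Equiv.subsingleton _ _ θ.symm.toEquiv h2
  have hb := H_map_bijective_of_isIso e.inv q
  exact hb.1.subsingleton

/-- surjectivity on cohomology of units maps is stable under composition of closed immersions -/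
theorem surjective_H_map_comap_comp' {Y₂ : Scheme.{u}} (j' : Y₂ ⟶ Y₁) (q : ℕ)
    (h1 : Function.Surjective (Sheaf.H.map (UnitsSh.comap i) q))
    (h2 : Function.Surjective (Sheaf.H.map (UnitsSh.comap j') q)) :
    Function.Surjective (Sheaf.H.map (UnitsSh.comap (j' ≫ i)) q) := by
  rw [comap_comp]
  exact surjective_comp_push i.base i.isClosedEmbedding (UnitsSh.comap i) (UnitsSh.comap j') q h1 h2

end Sch

end Groth.Agent.Lib.T2H5.UnitsShF
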