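import Mathlib

/-!
# Socle elements of Artinian local rings (helper5)

Namespace `Groth.Agent.Lib.T2H5.UnitsShG`.  Pure algebra.

* `exists_socle`: a nonzero ideal of an Artinian local ring contains a nonzero element killed by the maximal ideal;
* `isLocalRing_quotient`, `ker_lift_eq_maximalIdeal`.
-/

set_option autoImplicit false
universe u

namespace Groth.Agent.Lib.T2H5.UnitsShG

theorem exists_socle {A : Type u} [CommRing A] [IsLocalRing A] [IsArtinianRing A] (I : Ideal A) (hI : I ≠ ⊥) :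
    ∃ t : A, t ∈ I ∧ t ≠ 0 ∧ ∀ x ∈ IsLocalRing.maximalIdeal A, x * t = 0 := by
  obtain ⟨𝔠, ⟨h𝔠I, h𝔠0⟩, hmin⟩ := IsArtinian.set_has_minimal (R := A) (M := A)
    {𝔠 : Ideal A | 𝔠 ≤ I ∧ 𝔠 ≠ ⊥} ⟨I, le_rfl, hI⟩
  obtain ⟨t, ht𝔠, ht0⟩ := Submodule.exists_mem_ne_zero_of_ne_bot h𝔠0
  refine ⟨t, h𝔠I ht𝔠, ht0, fun x hx => ?_⟩
  by_contra hxt
  have hle : Ideal.span {x * t} ≤ 𝔠 := by
    rw [Ideal.span_le, Set.singleton_subset_iff]
    exact Ideal.mul_mem_left _ _ ht𝔠
  have hne : Ideal.span {x * t} ≠ ⊥ := by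
    rw [Ne, Ideal.span_singleton_eq_bot]
    exact hxt
  have hnlt := hmin (Ideal.span {x * t}) ⟨hle.trans h𝔠I, hne⟩
  have heq : Ideal.span {x * t} = 𝔠 := by
    by_contra hneq
    exact hnlt (lt_of_le_of_ne hle hneq)
  have htm : t ∈ Ideal.span {x * t} := heq ▸ ht𝔠
  obtain ⟨a, ha⟩ := Ideal.mem_span_singleton'.1 htm
  have hu : IsUnit (1 - a * x) := by
    have hax : a * x ∈ IsLocalRing.maximalIdeal A := Ideal.mul_mem_left _ _ hx
    by_contra hnu
    have h1 : 1 - a * x ∈ IsLocalRing.maximalIdeal A := (IsLocalRing.mem_maximalIdeal _).2 hnu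
    have h2 : (1 : A) ∈ IsLocalRing.maximalIdeal A := by
      have := Ideal.add_mem _ h1 hax
      rwa [sub_add_cancel] at this
    exact (IsLocalRing.maximalIdeal.isMaximal A).ne_top ((Ideal.eq_top_iff_one _).2 h2)
  have h0 : (1 - a * x) * t = 0 := by
    rw [sub_mul, one_mul, mul_assoc, ha, sub_self]
  exact ht0 ((hu.mul_right_eq_zero).1 h0)

theorem span_ne_top {A : Type u} [CommRing A] [IsLocalRing A] (t : A) (ht : t ∈ IsLocalRing.maximalIdeal A) :
    Ideal.span ({t} : Set A) ≠ ⊤ := by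
  intro h
  have hle : Ideal.span ({t} : Set A) ≤ IsLocalRing.maximalIdeal A := by
    rw [Ideal.span_le, Set.singleton_subset_iff]
    exact ht
  exact (IsLocalRing.maximalIdeal.isMaximal A).ne_top (top_le_iff.1 (h ▸ hle))

theorem isLocalRing_quotient {A : Type u} [CommRing A] [IsLocalRing A] (I : Ideal A) (hI : I ≠ ⊤) :
    IsLocalRing (A ⧸ I) := by
  haveI : Nontrivial (A ⧸ I) := Ideal.Quotient.nontrivial_iff.2 hI
  exact IsLocalRing.of_surjective' (Ideal.Quotient.mk I) Ideal.Quotient.mk_surjective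

/-- for a surjection `π : A → K` from a local ring with kernel the maximal ideal, and an ideal `I` inside the maximal
ideal, the induced map `A ⧸ I → K` has kernel the maximal ideal of `A ⧸ I` -/
theorem ker_lift_eq_maximalIdeal {A K : Type u} [CommRing A] [IsLocalRing A] [CommRing K] (π : A →+* K)
    (hkπ : RingHom.ker π = IsLocalRing.maximalIdeal A) (I : Ideal A) (hI : ∀ a ∈ I, π a = 0)
    [IsLocalRing (A ⧸ I)] :
    RingHom.ker (Ideal.Quotient.lift I π hI) = IsLocalRing.maximalIdeal (A ⧸ I) := by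
  have hIm : I ≤ IsLocalRing.maximalIdeal A := fun a ha => by
    rw [← hkπ, RingHom.mem_ker]
    exact hI a ha
  ext x
  obtain ⟨a, rfl⟩ := Ideal.Quotient.mk_surjective x
  rw [RingHom.mem_ker, Ideal.Quotient.lift_mk, ← RingHom.mem_ker, hkπ, IsLocalRing.mem_maximalIdeal,
    IsLocalRing.mem_maximalIdeal, mem_nonunits_iff, mem_nonunits_iff, not_iff_not]
  constructor
  · intro hu
    exact hu.map (Ideal.Quotient.mk I)
  · intro hu
    by_contra hnu
    have ham : a ∈ IsLocalRing.maximalIdeal A := (IsLocalRing.mem_maximalIdeal _).2 hnu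
    obtain ⟨y, hy⟩ := hu.exists_right_inv
    obtain ⟨b, rfl⟩ := Ideal.Quotient.mk_surjective y
    rw [← map_mul, ← map_one (Ideal.Quotient.mk I), Ideal.Quotient.eq] at hy
    have h1 : a * b - 1 ∈ IsLocalRing.maximalIdeal A := hIm hy
    have h2 : (1 : A) ∈ IsLocalRing.maximalIdeal A := by
      have := Ideal.sub_mem _ (Ideal.mul_mem_right b _ ham) h1
      rwa [sub_sub_cancel] at this
    exact (IsLocalRing.maximalIdeal.isMaximal A).ne_top ((Ideal.eq_top_iff_one _).2 h2)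

/-- the kernel of `A₀ → A → A ⧸ (t)` strictly contains that of `A₀ → A` when `t ≠ 0` -/
theorem ker_lt_ker {A₀ A : Type u} [CommRing A₀] [CommRing A] (ρ : A₀ →+* A) (hρ : Function.Surjective ρ)
    (t : A) (ht0 : t ≠ 0) :
    RingHom.ker ρ < RingHom.ker ((Ideal.Quotient.mk (Ideal.span ({t} : Set A))).comp ρ) := by
  refine lt_of_le_of_ne ?_ ?_
  · intro a ha
    rw [RingHom.mem_ker] at ha ⊢
    rw [RingHom.comp_apply, ha, map_zero]
  · intro h
    obtain ⟨a, rfl⟩ := hρ t
    have h1 : a ∈ RingHom.ker ((Ideal.Quotient.mk (Ideal.span ({ρ a} : Set A))).comp ρ) := by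
      rw [RingHom.mem_ker, RingHom.comp_apply, Ideal.Quotient.eq_zero_iff_mem]
      exact Ideal.subset_span rfl
    rw [← h, RingHom.mem_ker] at h1
    exact ht0 h1

end Groth.Agent.Lib.T2H5.UnitsShG
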