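import Groth.Agent.Lib.T2H5UnitsShF
import Groth.Agent.Lib.T2H5UnitsShG

/-!
# Units of flat schemes over Artinian local rings: induction along small extensions (helper5)

Namespace `Groth.Agent.Lib.T2H5.UnitsShH`.

* `ker_app_of_isPullback`, `isClosedImmersion_of_isPullback`, `isIso_of_bijective`: base change along a surjection;
* `liftHom`, `liftHom_fst`, `isPullback_liftHom`: a base change to a quotient `C` of `A ⧸ 𝔞` factors through the base
  change to `A ⧸ 𝔞`;
* `subsingleton_H_JJ`, `surjective_small`: the two consequences of a small extension with abstract closed fibre;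
* `vanishing`: `H^q(Y, ker (O_Y^× → i₀_* O_{Y₀}^×)) = 0` if `H^q(Y₀, O) = 0`;
* `surjective`: `H^q(Y, O_Y^×) → H^q(Y, i_* O_{Y_B}^×)` is surjective if `H^{q+1}(Y₀, O) = 0`.
-/

set_option autoImplicit false
set_option backward.isDefEq.respectTransparency.types false
set_option linter.style.haveILetI false
set_option linter.unusedSectionVars false
set_option linter.unusedVariables false
universe u

open CategoryTheory CategoryTheory.Limits AlgebraicGeometry TopologicalSpace Opposite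

namespace Groth.Agent.Lib.T2H5.UnitsShH

open Groth.Agent.Lib.T2H5.FlatBC Groth.Agent.Lib.T2H5.SqZeroPic Groth.Agent.Lib.Helper6
  Groth.Agent.Lib.T2H5.UnitsShC Groth.Agent.Lib.T2H5.UnitsShD Groth.Agent.Lib.T2H5.UnitsShE
  Groth.Agent.Lib.T2H5.UnitsShF Groth.Agent.Lib.T2H5.UnitsShG Groth.Agent.Lib.T2H5.UnitsShB

section Fib

variable (A K : Type u) [CommRing A] [CommRing K] (π : A →+* K) (hπ : Function.Surjective π)
  {Y Y₀ : Scheme.{u}} [Y.Over (Spec (CommRingCat.of A))] [Y₀.Over (Spec (CommRingCat.of K))] (i₀ : Y₀ ⟶ Y)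
  (sq : IsPullback i₀ (Y₀ ↘ Spec (CommRingCat.of K)) (Y ↘ Spec (CommRingCat.of A))
    (Spec.map (CommRingCat.ofHom π)))

include sq hπ in
theorem isClosedImmersion_of_isPullback : IsClosedImmersion i₀ := by
  have h : IsClosedImmersion (Spec.map (CommRingCat.ofHom π)) := IsClosedImmersion.spec_of_surjective _ hπ
  exact MorphismProperty.of_isPullback sq.flip h

include sq hπ in
theorem ker_app_of_isPullback (W : Y.Opens) (hW : IsAffineOpen W) :
    RingHom.ker (i₀.app W).hom = Ideal.map (toΓ A W) (RingHom.ker π) := by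
  letI : Algebra A K := π.toAlgebra
  have h1 := ker_appLE A K i₀ sq.w sq hπ W hW
  rw [Scheme.Hom.appLE_eq_app] at h1
  exact h1

include sq in
theorem isIso_of_bijective (hb : Function.Bijective π) : IsIso i₀ := by
  haveI : IsIso (CommRingCat.ofHom π) := (ConcreteCategory.isIso_iff_bijective _).2 hb
  haveI : IsIso (Spec.map (CommRingCat.ofHom π)) := inferInstance
  exact sq.isIso_fst_of_isIso

end Fib

section Lift

variable (A C : Type u) [CommRing A] [CommRing C] (γ : A →+* C) (𝔞 : Ideal A) (h𝔞 : ∀ a ∈ 𝔞, γ a = 0)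
  {Y Z : Scheme.{u}} [Y.Over (Spec (CommRingCat.of A))] [Z.Over (Spec (CommRingCat.of C))] (z : Z ⟶ Y)
  (sq : IsPullback z (Z ↘ Spec (CommRingCat.of C)) (Y ↘ Spec (CommRingCat.of A))
    (Spec.map (CommRingCat.ofHom γ)))

theorem spec_lift : Spec.map (CommRingCat.ofHom γ) =
    Spec.map (CommRingCat.ofHom (Ideal.Quotient.lift 𝔞 γ h𝔞)) ≫
      Spec.map (CommRingCat.ofHom (Ideal.Quotient.mk 𝔞)) := by
  rw [← Spec.map_comp, ← CommRingCat.ofHom_comp, Ideal.Quotient.lift_comp_mk]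

/-- the base change to `C` maps to the base change to `A ⧸ 𝔞` -/
noncomputable def liftHom : Z ⟶ pullback (Y ↘ Spec (CommRingCat.of A))
    (Spec.map (CommRingCat.ofHom (Ideal.Quotient.mk 𝔞))) :=
  pullback.lift z ((Z ↘ Spec (CommRingCat.of C)) ≫
    Spec.map (CommRingCat.ofHom (Ideal.Quotient.lift 𝔞 γ h𝔞)))
    (by rw [sq.w, spec_lift A C γ 𝔞 h𝔞, Category.assoc])

theorem liftHom_fst : liftHom A C γ 𝔞 h𝔞 z sq ≫ bcι A Y 𝔞 = z := pullback.lift_fst _ _ _

theorem isPullback_liftHom :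
    IsPullback (liftHom A C γ 𝔞 h𝔞 z sq) (Z ↘ Spec (CommRingCat.of C))
      (pullback.snd (Y ↘ Spec (CommRingCat.of A)) (Spec.map (CommRingCat.ofHom (Ideal.Quotient.mk 𝔞))))
      (Spec.map (CommRingCat.ofHom (Ideal.Quotient.lift 𝔞 γ h𝔞))) := by
  refine IsPullback.of_right (h₁₂ := bcι A Y 𝔞) (h₂₂ := Spec.map (CommRingCat.ofHom (Ideal.Quotient.mk 𝔞))) ?_
    (pullback.lift_snd _ _ _) (IsPullback.of_hasPullback _ _)
  have e1 := liftHom_fst A C γ 𝔞 h𝔞 z sq
  have e2 := spec_lift A C γ 𝔞 h𝔞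
  rw [e1, ← e2]
  exact sq

end Lift

/-- the structure of `A ⧸ 𝔞`-scheme on the base change -/
@[instance_reducible] noncomputable def bcOver (A : Type u) [CommRing A] (Y : Scheme.{u}) [Y.Over (Spec (CommRingCat.of A))]
    (𝔞 : Ideal A) : (pullback (Y ↘ Spec (CommRingCat.of A))
      (Spec.map (CommRingCat.ofHom (Ideal.Quotient.mk 𝔞)))).Over (Spec (CommRingCat.of (A ⧸ 𝔞))) :=
  ⟨pullback.snd _ _⟩

theorem flat_bc (A : Type u) [CommRing A] (Y : Scheme.{u}) [Y.Over (Spec (CommRingCat.of A))]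
    [Flat (Y ↘ Spec (CommRingCat.of A))] (𝔞 : Ideal A) :
    Flat (pullback.snd (Y ↘ Spec (CommRingCat.of A)) (Spec.map (CommRingCat.ofHom (Ideal.Quotient.mk 𝔞)))) :=
  inferInstance

section Small

variable (A : Type u) [CommRing A] [IsLocalRing A]
  (t : A) (ht0 : t ≠ 0) (ht : t ∈ IsLocalRing.maximalIdeal A)
  (hmt : ∀ x ∈ IsLocalRing.maximalIdeal A, x * t = 0)
  (K : Type u) [CommRing K] (π : A →+* K) (hπ : Function.Surjective π)
  (hkπ : RingHom.ker π = IsLocalRing.maximalIdeal A)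
  (Y Y₀ : Scheme.{u}) [Y.Over (Spec (CommRingCat.of A))] [Flat (Y ↘ Spec (CommRingCat.of A))]
  [Y₀.Over (Spec (CommRingCat.of K))] (i₀ : Y₀ ⟶ Y)
  (sq : IsPullback i₀ (Y₀ ↘ Spec (CommRingCat.of K)) (Y ↘ Spec (CommRingCat.of A))
    (Spec.map (CommRingCat.ofHom π)))

include ht0 ht hmt hπ hkπ sq in
theorem mul_eq_zero_iff' (W : Y.Opens) (hW : IsAffineOpen W) (f : Γ(Y, W)) :
    f * toΓ A W t = 0 ↔ (i₀.app W).hom f = 0 := by
  rw [← RingHom.mem_ker, ker_app_of_isPullback A K π hπ i₀ sq W hW, hkπ]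
  constructor
  · intro h
    refine mem_map_of_mul_eq_zero (toΓ A W) (flat_toΓ A Y W hW) t _
      (fun a ha => mem_of_mul_eq_zero_of_isLocalRing t ht0 a ha) f ?_
    rw [mul_comm]
    exact h
  · intro h
    have hle : Ideal.map (toΓ A W) (IsLocalRing.maximalIdeal A) ≤
        LinearMap.ker (LinearMap.mulRight Γ(Y, W) (toΓ A W t)) := by
      rw [Ideal.map_le_iff_le_comap]
      intro a ha
      rw [Ideal.mem_comap, LinearMap.mem_ker, LinearMap.mulRight_apply, ← map_mul, hmt a ha, map_zero]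
    have := hle h
    rw [LinearMap.mem_ker, LinearMap.mulRight_apply] at this
    exact this

include ht0 ht hmt hπ hkπ sq in
theorem subsingleton_H_JJ (p : ℕ) (hvan : Subsingleton (Coh.HH Y₀ (Coh.structureModule Y₀) p)) :
    Subsingleton (Sheaf.H (Coh.toAb (ClSub.idealMod (JJ A t Y))) p) := by
  haveI := isClosedImmersion_of_isPullback A K π hπ i₀ sq
  obtain ⟨e⟩ := nonempty_iso (JJ A t Y) (sig A t Y) i₀
    (fun W hW x hx => by
      rw [Kr_JJ A t Y W hW] at hx
      obtain ⟨f, hf⟩ := Ideal.mem_span_singleton'.1 hx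
      exact ⟨f, by rw [tau_sig]; exact hf⟩)
    (fun W hW f => by
      rw [tau_sig]
      exact mul_eq_zero_iff' A t ht0 ht hmt K π hπ hkπ Y Y₀ i₀ sq W hW f)
  exact subsingleton_H_idealMod (JJ A t Y) i₀ e p hvan

include ht0 ht hmt hπ hkπ sq in
theorem surjective_small (q : ℕ) (hvan : Subsingleton (Coh.HH Y₀ (Coh.structureModule Y₀) (q + 1))) :
    Function.Surjective (Sheaf.H.map (UnitsSh.comap (bcι A Y (Ideal.span {t}))) q) := by
  apply surjective_H_map_comap_of_image
  apply surjective_H_map_comap (JJ A t Y) (JJ_mul A t ht hmt Y) q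
  exact subsingleton_H_JJ A t ht0 ht hmt K π hπ hkπ Y Y₀ i₀ sq (q + 1) hvan

end Small

end Groth.Agent.Lib.T2H5.UnitsShH
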