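import Groth.Agent.Lib.T2H5UnitsShH

/-!
# Units of flat schemes over Artinian local rings: the two inductions (helper5)

Namespace `Groth.Agent.Lib.T2H5.UnitsShI`.

* `vanishing`: `H^q(Y, ker (O_Y^× → i₀_* O_{Y₀}^×)) = 0` if `H^q(Y₀, O) = 0`;
* `surjective`: `H^q(Y, O_Y^×) → H^q(Y, i_* O_{Y_B}^×)` is surjective if `H^{q+1}(Y₀, O) = 0`.
-/

set_option autoImplicit false
set_option backward.isDefEq.respectTransparency.types false
set_option linter.style.haveILetI false
set_option linter.unusedSectionVars false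
set_option linter.unusedVariables false
universe u

open CategoryTheory CategoryTheory.Limits AlgebraicGeometry TopologicalSpace Opposite

namespace Groth.Agent.Lib.T2H5.UnitsShI

open Groth.Agent.Lib.T2H5.UnitsShE Groth.Agent.Lib.T2H5.UnitsShF Groth.Agent.Lib.T2H5.UnitsShG
  Groth.Agent.Lib.T2H5.UnitsShB Groth.Agent.Lib.T2H5.UnitsShH

theorem subsingleton_H_kernel_of_isIso {Y Y₀ : Scheme.{u}} (i₀ : Y₀ ⟶ Y) [IsIso i₀] (q : ℕ) :
    Subsingleton (Sheaf.H (kernel (UnitsSh.comap i₀)) q) := by
  haveI := isIso_comap i₀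
  exact Sheaf.subsingleton_H_of_isZero (isZero_kernel_of_mono (UnitsSh.comap i₀)) q

theorem vanishing (A₀ : Type u) [CommRing A₀] [IsNoetherianRing A₀] (q : ℕ) (𝔟 : Ideal A₀) :
    ∀ (A : Type u) [CommRing A] [IsLocalRing A] [IsArtinianRing A] (ρ : A₀ →+* A),
      Function.Surjective ρ → RingHom.ker ρ = 𝔟 →
    ∀ (K : Type u) [CommRing K] (π : A →+* K), Function.Surjective π →
      RingHom.ker π = IsLocalRing.maximalIdeal A →
    ∀ (Y Y₀ : Scheme.{u}) [Y.Over (Spec (CommRingCat.of A))] [Flat (Y ↘ Spec (CommRingCat.of A))]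
      [Y₀.Over (Spec (CommRingCat.of K))] (i₀ : Y₀ ⟶ Y),
      IsPullback i₀ (Y₀ ↘ Spec (CommRingCat.of K)) (Y ↘ Spec (CommRingCat.of A))
        (Spec.map (CommRingCat.ofHom π)) →
      Subsingleton (Coh.HH Y₀ (Coh.structureModule Y₀) q) →
      Subsingleton (Sheaf.H (kernel (UnitsSh.comap i₀)) q) := by
  induction 𝔟 using WellFoundedGT.induction with
  | ind 𝔟 IH =>
    intro A _ _ _ ρ hρ hk K _ π hπ hkπ Y Y₀ _ _ _ i₀ sq hvan
    by_cases hm : IsLocalRing.maximalIdeal A = ⊥
    · have hb : Function.Bijective π := by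
        refine ⟨(RingHom.injective_iff_ker_eq_bot π).2 ?_, hπ⟩
        rw [hkπ, hm]
      haveI := isIso_of_bijective A K π i₀ sq hb
      exact subsingleton_H_kernel_of_isIso i₀ q
    · obtain ⟨t, ht, ht0, hmt⟩ := exists_socle (IsLocalRing.maximalIdeal A) hm
      have hπt : ∀ a ∈ Ideal.span ({t} : Set A), π a = 0 := by
        intro a ha
        have hle : Ideal.span ({t} : Set A) ≤ IsLocalRing.maximalIdeal A := by
          rw [Ideal.span_le, Set.singleton_subset_iff]
          exact ht
        rw [← RingHom.mem_ker, hkπ]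
        exact hle ha
      haveI : IsLocalRing (A ⧸ Ideal.span ({t} : Set A)) := isLocalRing_quotient _ (span_ne_top t ht)
      haveI : IsArtinianRing (A ⧸ Ideal.span ({t} : Set A)) :=
        (Ideal.Quotient.mk_surjective (I := Ideal.span ({t} : Set A))).isArtinianRing
      letI := bcOver A Y (Ideal.span {t})
      haveI : Flat ((pullback (Y ↘ Spec (CommRingCat.of A))
          (Spec.map (CommRingCat.ofHom (Ideal.Quotient.mk (Ideal.span ({t} : Set A)))))) ↘
          Spec (CommRingCat.of (A ⧸ Ideal.span ({t} : Set A)))) := flat_bc A Y _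
      have h2 := IH (RingHom.ker ((Ideal.Quotient.mk (Ideal.span ({t} : Set A))).comp ρ))
        (hk ▸ ker_lt_ker ρ hρ t ht0) (A ⧸ Ideal.span ({t} : Set A))
        ((Ideal.Quotient.mk (Ideal.span ({t} : Set A))).comp ρ)
        (Ideal.Quotient.mk_surjective.comp hρ) rfl K
        (Ideal.Quotient.lift (Ideal.span ({t} : Set A)) π hπt)
        (Ideal.Quotient.lift_surjective_of_surjective _ _ hπ)
        (ker_lift_eq_maximalIdeal π hkπ _ hπt) _ Y₀
        (liftHom A K π (Ideal.span {t}) hπt i₀ sq)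
        (isPullback_liftHom A K π (Ideal.span {t}) hπt i₀ sq) hvan
      have h1 := subsingleton_H_JJ A t ht0 ht hmt K π hπ hkπ Y Y₀ i₀ sq q hvan
      have h3 := subsingleton_H_kernel_comap_comp (bcι A Y (Ideal.span {t})) (JJ_mul A t ht hmt Y)
        (liftHom A K π (Ideal.span {t}) hπt i₀ sq) q h1 h2
      rw [liftHom_fst] at h3
      exact h3

theorem surjective (A₀ : Type u) [CommRing A₀] [IsNoetherianRing A₀] (q : ℕ) (𝔟 : Ideal A₀) :
    ∀ (A : Type u) [CommRing A] [IsLocalRing A] [IsArtinianRing A] (ρ : A₀ →+* A),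
      Function.Surjective ρ → RingHom.ker ρ = 𝔟 →
    ∀ (K : Type u) [CommRing K] (π : A →+* K), Function.Surjective π →
      RingHom.ker π = IsLocalRing.maximalIdeal A →
    ∀ (B : Type u) [CommRing B] (β : A →+* B), Function.Surjective β →
      RingHom.ker β ≤ IsLocalRing.maximalIdeal A →
    ∀ (Y Y₀ YB : Scheme.{u}) [Y.Over (Spec (CommRingCat.of A))] [Flat (Y ↘ Spec (CommRingCat.of A))]
      [Y₀.Over (Spec (CommRingCat.of K))] [YB.Over (Spec (CommRingCat.of B))] (i₀ : Y₀ ⟶ Y) (iB : YB ⟶ Y),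
      IsPullback i₀ (Y₀ ↘ Spec (CommRingCat.of K)) (Y ↘ Spec (CommRingCat.of A))
        (Spec.map (CommRingCat.ofHom π)) →
      IsPullback iB (YB ↘ Spec (CommRingCat.of B)) (Y ↘ Spec (CommRingCat.of A))
        (Spec.map (CommRingCat.ofHom β)) →
      Subsingleton (Coh.HH Y₀ (Coh.structureModule Y₀) (q + 1)) →
      Function.Surjective (Sheaf.H.map (UnitsSh.comap iB) q) := by
  induction 𝔟 using WellFoundedGT.induction with
  | ind 𝔟 IH =>
    intro A _ _ _ ρ hρ hk K _ π hπ hkπ B _ β hβ hkβ Y Y₀ YB _ _ _ _ i₀ iB sq sqB hvan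
    by_cases hm : RingHom.ker β = ⊥
    · have hb : Function.Bijective β := ⟨(RingHom.injective_iff_ker_eq_bot β).2 hm, hβ⟩
      haveI := isIso_of_bijective A B β iB sqB hb
      haveI := isIso_comap iB
      exact (H_map_bijective_of_isIso (UnitsSh.comap iB) q).2
    · obtain ⟨t, htβ, ht0, hmt⟩ := exists_socle (RingHom.ker β) hm
      have ht : t ∈ IsLocalRing.maximalIdeal A := hkβ htβ
      have hle : Ideal.span ({t} : Set A) ≤ IsLocalRing.maximalIdeal A := by
        rw [Ideal.span_le, Set.singleton_subset_iff]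
        exact ht
      have hπt : ∀ a ∈ Ideal.span ({t} : Set A), π a = 0 := by
        intro a ha
        rw [← RingHom.mem_ker, hkπ]
        exact hle ha
      have hβt : ∀ a ∈ Ideal.span ({t} : Set A), β a = 0 := by
        intro a ha
        have hle' : Ideal.span ({t} : Set A) ≤ RingHom.ker β := by
          rw [Ideal.span_le, Set.singleton_subset_iff]
          exact htβ
        exact RingHom.mem_ker.1 (hle' ha)
      haveI : IsLocalRing (A ⧸ Ideal.span ({t} : Set A)) := isLocalRing_quotient _ (span_ne_top t ht)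
      haveI : IsArtinianRing (A ⧸ Ideal.span ({t} : Set A)) :=
        (Ideal.Quotient.mk_surjective (I := Ideal.span ({t} : Set A))).isArtinianRing
      letI := bcOver A Y (Ideal.span {t})
      haveI : Flat ((pullback (Y ↘ Spec (CommRingCat.of A))
          (Spec.map (CommRingCat.ofHom (Ideal.Quotient.mk (Ideal.span ({t} : Set A)))))) ↘
          Spec (CommRingCat.of (A ⧸ Ideal.span ({t} : Set A)))) := flat_bc A Y _
      have hkβ' : RingHom.ker (Ideal.Quotient.lift (Ideal.span ({t} : Set A)) β hβt) ≤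
          IsLocalRing.maximalIdeal (A ⧸ Ideal.span ({t} : Set A)) := by
        rw [← ker_lift_eq_maximalIdeal π hkπ _ hπt]
        intro x hx
        obtain ⟨a, rfl⟩ := Ideal.Quotient.mk_surjective x
        rw [RingHom.mem_ker, Ideal.Quotient.lift_mk] at hx ⊢
        have : a ∈ RingHom.ker π := by
          rw [hkπ]
          exact hkβ (RingHom.mem_ker.2 hx)
        exact RingHom.mem_ker.1 this
      have h2 := IH (RingHom.ker ((Ideal.Quotient.mk (Ideal.span ({t} : Set A))).comp ρ))
        (hk ▸ ker_lt_ker ρ hρ t ht0) (A ⧸ Ideal.span ({t} : Set A))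
        ((Ideal.Quotient.mk (Ideal.span ({t} : Set A))).comp ρ)
        (Ideal.Quotient.mk_surjective.comp hρ) rfl K
        (Ideal.Quotient.lift (Ideal.span ({t} : Set A)) π hπt)
        (Ideal.Quotient.lift_surjective_of_surjective _ _ hπ)
        (ker_lift_eq_maximalIdeal π hkπ _ hπt) B
        (Ideal.Quotient.lift (Ideal.span ({t} : Set A)) β hβt)
        (Ideal.Quotient.lift_surjective_of_surjective _ _ hβ) hkβ' _ Y₀ YB
        (liftHom A K π (Ideal.span {t}) hπt i₀ sq) (liftHom A B β (Ideal.span {t}) hβt iB sqB)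
        (isPullback_liftHom A K π (Ideal.span {t}) hπt i₀ sq)
        (isPullback_liftHom A B β (Ideal.span {t}) hβt iB sqB) hvan
      have h1 := surjective_small A t ht0 ht hmt K π hπ hkπ Y Y₀ i₀ sq q hvan
      have h3 := surjective_H_map_comap_comp' (bcι A Y (Ideal.span {t}))
        (liftHom A B β (Ideal.span {t}) hβt iB sqB) q h1 h2
      rw [liftHom_fst] at h3
      exact h3

end Groth.Agent.Lib.T2H5.UnitsShI
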