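import Groth.Agent.Lib.T2H5UnitsShI

/-!
# Units of flat schemes over Artinian local rings: final forms (helper5)

Namespace `Groth.Agent.Lib.T2H5.UnitsShJ`.
-/

set_option autoImplicit false
set_option backward.isDefEq.respectTransparency.types false
set_option linter.style.haveILetI false
set_option linter.unusedSectionVars false
set_option linter.unusedVariables false
universe u

open CategoryTheory CategoryTheory.Limits AlgebraicGeometry TopologicalSpace Opposite

namespace Groth.Agent.Lib.T2H5.UnitsShJ

theorem main_vanishing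
    (A : Type u) [CommRing A] [IsArtinianRing A] [IsLocalRing A]
    (X' : Scheme.{u}) [X'.Over (Spec (CommRingCat.of A))] [Flat (X' ↘ Spec (CommRingCat.of A))]
    (q : ℕ)
    (hvan : Subsingleton (Coh.HH (pullback (X' ↘ Spec (CommRingCat.of A))
      (Spec.map (CommRingCat.ofHom (IsLocalRing.residue A)))) (Coh.structureModule _) q)) :
    Subsingleton (Sheaf.H (kernel (UnitsSh.comap
      (pullback.fst (X' ↘ Spec (CommRingCat.of A))
        (Spec.map (CommRingCat.ofHom (IsLocalRing.residue A)))))) q) := by
  letI : (pullback (X' ↘ Spec (CommRingCat.of A))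
      (Spec.map (CommRingCat.ofHom (IsLocalRing.residue A)))).Over
      (Spec (CommRingCat.of (IsLocalRing.ResidueField A))) := ⟨pullback.snd _ _⟩
  exact Groth.Agent.Lib.T2H5.UnitsShI.vanishing A q (RingHom.ker (RingHom.id A)) A (RingHom.id A)
    Function.surjective_id rfl (IsLocalRing.ResidueField A) (IsLocalRing.residue A)
    IsLocalRing.residue_surjective IsLocalRing.ker_residue X' _ (pullback.fst _ _)
    (IsPullback.of_hasPullback _ _) hvan

theorem main_surjective
    (A : Type u) [CommRing A] [IsArtinianRing A] [IsLocalRing A]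
    (J : Ideal A) (hJ : J ≤ IsLocalRing.maximalIdeal A)
    (X' : Scheme.{u}) [X'.Over (Spec (CommRingCat.of A))] [Flat (X' ↘ Spec (CommRingCat.of A))]
    (q : ℕ)
    (hvan : Subsingleton (Coh.HH (pullback (X' ↘ Spec (CommRingCat.of A))
      (Spec.map (CommRingCat.ofHom (IsLocalRing.residue A)))) (Coh.structureModule _) (q + 1))) :
    Function.Surjective (Sheaf.H.map (UnitsSh.comap
      (pullback.fst (X' ↘ Spec (CommRingCat.of A))
        (Spec.map (CommRingCat.ofHom (Ideal.Quotient.mk J))))) q) := by
  letI : (pullback (X' ↘ Spec (CommRingCat.of A))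
      (Spec.map (CommRingCat.ofHom (IsLocalRing.residue A)))).Over
      (Spec (CommRingCat.of (IsLocalRing.ResidueField A))) := ⟨pullback.snd _ _⟩
  letI : (pullback (X' ↘ Spec (CommRingCat.of A))
      (Spec.map (CommRingCat.ofHom (Ideal.Quotient.mk J)))).Over
      (Spec (CommRingCat.of (A ⧸ J))) := ⟨pullback.snd _ _⟩
  exact Groth.Agent.Lib.T2H5.UnitsShI.surjective A q (RingHom.ker (RingHom.id A)) A (RingHom.id A)
    Function.surjective_id rfl (IsLocalRing.ResidueField A) (IsLocalRing.residue A)
    IsLocalRing.residue_surjective IsLocalRing.ker_residue (A ⧸ J) (Ideal.Quotient.mk J)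
    Ideal.Quotient.mk_surjective (by rw [Ideal.mk_ker]; exact hJ) X' _ _ (pullback.fst _ _) (pullback.fst _ _)
    (IsPullback.of_hasPullback _ _) (IsPullback.of_hasPullback _ _) hvan

end Groth.Agent.Lib.T2H5.UnitsShJ
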