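import Groth.Agent.Lib.T2H5UnitsShJ

/-!
# Units of a trivial first-order deformation (helper5)

Namespace `Groth.Agent.Lib.T2H5.UnitsShK`.

* `retr`, `fst_retr`: for `f : X₀ → S`, `a : T → S` with a section `b : S → T`, the base change `X = P ×_T S` of
  `P = X₀ ×_S T` is a retract of `P`;
* `sec`, `sec_comap`: a retraction `p` of `i : X → P` which is the identity on points gives a section of the units map;
* `surjective_of_ker_mul`;
* `nonempty_ker_equiv`: for a split short exact sequence of abelian sheaves, the kernel of `H^q(B) → H^q(C)` is `H^q(J)`.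
-/

set_option autoImplicit false
set_option backward.isDefEq.respectTransparency.types false
set_option linter.style.haveILetI false
set_option linter.unusedSectionVars false
set_option linter.unusedVariables false
universe u

open CategoryTheory CategoryTheory.Limits AlgebraicGeometry TopologicalSpace Opposite

namespace Groth.Agent.Lib.T2H5.UnitsShK

section Cat

variable {𝒞 : Type*} [Category 𝒞] [HasPullbacks 𝒞] {S T X₀ : 𝒞} (f : X₀ ⟶ S) (a : T ⟶ S) (b : S ⟶ T)
  (hab : b ≫ a = 𝟙 S)

include hab in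
theorem endo_comm : pullback.fst f a ≫ f = (pullback.snd f a ≫ a ≫ b) ≫ a := by
  rw [Category.assoc, Category.assoc, hab, Category.comp_id, pullback.condition]

/-- the endomorphism of `P = X₀ ×_S T` induced by `T → S → T` -/
noncomputable def endo : pullback f a ⟶ pullback f a :=
  pullback.lift (pullback.fst f a) (pullback.snd f a ≫ a ≫ b) (endo_comm f a b hab)

/-- the retraction `P → P ×_T S` -/
noncomputable def retr : pullback f a ⟶ pullback (pullback.snd f a) b :=
  pullback.lift (endo f a b hab) (pullback.snd f a ≫ a)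
    (by unfold endo; rw [pullback.lift_snd, Category.assoc])

theorem fst_endo : pullback.fst (pullback.snd f a) b ≫ endo f a b hab = pullback.fst (pullback.snd f a) b := by
  apply pullback.hom_ext
  · unfold endo
    rw [Category.assoc, pullback.lift_fst]
  · unfold endo
    rw [Category.assoc, pullback.lift_snd, ← Category.assoc, pullback.condition, Category.assoc,
      ← Category.assoc b, hab, Category.id_comp]

theorem fst_retr : pullback.fst (pullback.snd f a) b ≫ retr f a b hab = 𝟙 _ := by
  apply pullback.hom_ext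
  · unfold retr
    rw [Category.assoc, pullback.lift_fst, fst_endo, Category.id_comp]
  · unfold retr
    rw [Category.assoc, pullback.lift_snd, ← Category.assoc, pullback.condition, Category.assoc, hab,
      Category.comp_id, Category.id_comp]

end Cat

section Sec

variable {X P : Scheme.{u}} (i : X ⟶ P) (p : P ⟶ X) (hip : i ≫ p = 𝟙 X)
  (hb : ∀ V : P.Opens, V ≤ p ⁻¹ᵁ (i ⁻¹ᵁ V))

theorem appLE_of_eq_id (f : X ⟶ X) (hf : f = 𝟙 X) (U : X.Opens) (e : U ≤ f ⁻¹ᵁ U) :
    f.appLE U U e = 𝟙 _ := by
  subst hf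
  have h : (homOfLE e) = 𝟙 U := Subsingleton.elim _ _
  change (𝟙 X : X ⟶ X).app U ≫ X.presheaf.map (homOfLE e).op = 𝟙 _
  rw [Scheme.Hom.id_app]
  exact (Category.id_comp _).trans ((congrArg (fun m => X.presheaf.map (Quiver.Hom.op m)) h).trans
    (X.presheaf.map_id _))

include hip in
theorem appLE_app (V : P.Opens) : p.appLE (i ⁻¹ᵁ V) V (hb V) ≫ i.app V = 𝟙 _ := by
  rw [Scheme.Hom.app_eq_appLE, Scheme.Hom.appLE_comp_appLE]
  exact appLE_of_eq_id (i ≫ p) hip _ _

/-- the section `i_* O_X^× → O_P^×` of the units map given by a retraction which is the identity on points -/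
noncomputable def sec : (CohTop.push i.base).obj (UnitsSh.unitsAb X) ⟶ UnitsSh.unitsAb P :=
  ⟨{ app := fun V => UnitsSh.unitsFunctor.map (p.appLE (i ⁻¹ᵁ V.unop) V.unop (hb V.unop))
     naturality := fun V V' j => by
       change UnitsSh.unitsFunctor.map (X.presheaf.map ((Opens.map i.base).op.map j)) ≫
           UnitsSh.unitsFunctor.map (p.appLE (i ⁻¹ᵁ V'.unop) V'.unop (hb V'.unop)) =
         UnitsSh.unitsFunctor.map (p.appLE (i ⁻¹ᵁ V.unop) V.unop (hb V.unop)) ≫
           UnitsSh.unitsFunctor.map (P.presheaf.map j)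
       rw [← Functor.map_comp, ← Functor.map_comp, Scheme.Hom.map_appLE, Scheme.Hom.appLE_map] }⟩

include hip in
theorem sec_comap : sec i p hb ≫ UnitsSh.comap i = 𝟙 _ := by
  apply Sheaf.hom_ext
  ext V : 2
  change UnitsSh.unitsFunctor.map (p.appLE (i ⁻¹ᵁ V.unop) V.unop (hb V.unop)) ≫
      UnitsSh.unitsFunctor.map (i.app V.unop) = 𝟙 _
  rw [← CategoryTheory.Functor.map_comp, appLE_app i p hip hb, CategoryTheory.Functor.map_id]

theorem surjective_of_ker_mul [IsClosedImmersion i] (hI : i.ker * i.ker = ⊥) : Function.Surjective i.base := by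
  have h1 : (i.ker * i.ker).support = i.ker.support := by
    rw [Scheme.IdealSheafData.support_mul, sup_idem]
  rw [hI, Scheme.IdealSheafData.support_bot] at h1
  have h2 := Scheme.Hom.support_ker i
  rw [← h1, i.isClosedEmbedding.isClosed_range.closure_eq] at h2
  intro x
  have : x ∈ Set.range i := by
    rw [← h2]
    trivial
  exact this

include hip in
theorem le_preimage_of_surjective (hsurj : Function.Surjective i.base) (V : P.Opens) :
    V ≤ p ⁻¹ᵁ (i ⁻¹ᵁ V) := by
  intro x hx
  obtain ⟨y, rfl⟩ := hsurj x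
  change i.base (p.base (i.base y)) ∈ V
  have : p.base (i.base y) = y := by
    have := congrArg (fun m : X ⟶ X => m.base y) hip
    exact this
  rw [this]
  exact hx

end Sec

section Coh

variable {Y : TopCat.{u}} (S : ShortComplex (CohTop.Ab Y)) (hS : S.ShortExact) (s : S.X₃ ⟶ S.X₂)
  (hs : s ≫ S.g = 𝟙 S.X₃)

theorem H_map_zero {A B : CohTop.Ab Y} (q : ℕ) (x : Sheaf.H A q) : Sheaf.H.map (0 : A ⟶ B) q x = 0 := by
  change (x : Abelian.Ext.{u} _ A q).comp (Abelian.Ext.mk₀ 0) (add_zero q) = 0
  rw [Abelian.Ext.mk₀_zero, Abelian.Ext.comp_zero]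

include hS hs in
theorem nonempty_ker_equiv (q : ℕ) : Nonempty ((Sheaf.H.map S.g q).ker ≃+ Sheaf.H S.X₁ q) := by
  haveI := hS.mono_f
  let σ := ShortComplex.Splitting.ofExactOfSection S hS.exact s hs hS.mono_f
  have hr : S.f ≫ σ.r = 𝟙 S.X₁ := σ.f_r
  have hinj : Function.Injective (Sheaf.H.map S.f q) := by
    intro x y hxy
    have h1 := congrArg (Sheaf.H.map σ.r q) hxy
    rw [Groth.Agent.Lib.T2H5.PushEdge.H_map_comp, Groth.Agent.Lib.T2H5.PushEdge.H_map_comp, hr] at h1
    exact (Sheaf.H.map_id_apply x).symm.trans (h1.trans (Sheaf.H.map_id_apply y))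
  have hmem : ∀ x, Sheaf.H.map S.f q x ∈ (Sheaf.H.map S.g q).ker := by
    intro x
    rw [AddMonoidHom.mem_ker, Groth.Agent.Lib.T2H5.PushEdge.H_map_comp, S.zero]
    exact H_map_zero q x
  let F : Sheaf.H S.X₁ q →+ (Sheaf.H.map S.g q).ker := (Sheaf.H.map S.f q).codRestrict _ hmem
  have hF : Function.Bijective F := by
    constructor
    · intro x y hxy
      exact hinj (congrArg Subtype.val hxy)
    · rintro ⟨z, hz⟩
      obtain ⟨x₁, hx₁⟩ := Abelian.Ext.covariant_sequence_exact₂ _ hS z (AddMonoidHom.mem_ker.1 hz)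
      exact ⟨x₁, Subtype.ext hx₁⟩
  exact ⟨(AddEquiv.ofBijective F hF).symm⟩

end Coh

end Groth.Agent.Lib.T2H5.UnitsShK
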