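import Groth.Agent.Lib.T2H5UnitsShK

/-!
# The tangent space of `H^q(-, O^×)` (helper5)

Namespace `Groth.Agent.Lib.T2H5.UnitsShL`.

`main`: for `X' = X₀ ×_k k[ε]` and `i : X → X'` the closed subscheme `ε = 0`, the kernel of
`H^q(X', O^×) → H^q(X', i_* O_X^×)` is isomorphic to `H^q(X, O_X)`.
-/

set_option autoImplicit false
set_option backward.isDefEq.respectTransparency.types false
set_option linter.style.haveILetI false
set_option linter.unusedSectionVars false
set_option linter.unusedVariables false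
universe u

open CategoryTheory CategoryTheory.Limits AlgebraicGeometry TopologicalSpace Opposite

namespace Groth.Agent.Lib.T2H5.UnitsShL

open Groth.Agent.Lib.T2H5.FlatBC Groth.Agent.Lib.T2H5.SqZeroPic Groth.Agent.Lib.Helper6
  Groth.Agent.Lib.T2H5.UnitsShC Groth.Agent.Lib.T2H5.UnitsShD Groth.Agent.Lib.T2H5.UnitsShE
  Groth.Agent.Lib.T2H5.UnitsShF Groth.Agent.Lib.T2H5.UnitsShG Groth.Agent.Lib.T2H5.UnitsShB
  Groth.Agent.Lib.T2H5.UnitsShH Groth.Agent.Lib.T2H5.UnitsShK

section Bridge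

variable (A : Type u) [CommRing A] [IsLocalRing A]
  (t : A) (ht0 : t ≠ 0) (ht : t ∈ IsLocalRing.maximalIdeal A)
  (hmt : ∀ x ∈ IsLocalRing.maximalIdeal A, x * t = 0)
  (K : Type u) [CommRing K] (π : A →+* K) (hπ : Function.Surjective π)
  (hkπ : RingHom.ker π = IsLocalRing.maximalIdeal A)
  (Y Y₀ : Scheme.{u}) [Y.Over (Spec (CommRingCat.of A))] [Flat (Y ↘ Spec (CommRingCat.of A))]
  [Y₀.Over (Spec (CommRingCat.of K))] (i₀ : Y₀ ⟶ Y)
  (sq : IsPullback i₀ (Y₀ ↘ Spec (CommRingCat.of K)) (Y ↘ Spec (CommRingCat.of A))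
    (Spec.map (CommRingCat.ofHom π)))

include ht0 ht hmt hπ hkπ sq in
theorem nonempty_iso_JJ :
    Nonempty (ClSub.idealMod (JJ A t Y) ≅ (Scheme.Modules.pushforward i₀).obj (Coh.structureModule Y₀)) := by
  haveI := isClosedImmersion_of_isPullback A K π hπ i₀ sq
  exact nonempty_iso (JJ A t Y) (sig A t Y) i₀
    (fun W hW x hx => by
      rw [Kr_JJ A t Y W hW] at hx
      obtain ⟨f, hf⟩ := Ideal.mem_span_singleton'.1 hx
      exact ⟨f, by rw [tau_sig]; exact hf⟩)
    (fun W hW f => by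
      rw [tau_sig]
      exact mul_eq_zero_iff' A t ht0 ht hmt K π hπ hkπ Y Y₀ i₀ sq W hW f)

include hπ sq in
theorem ker_eq_JJ (hk : RingHom.ker π = Ideal.span {t}) : i₀.ker = JJ A t Y := by
  haveI := isClosedImmersion_of_isPullback A K π hπ i₀ sq
  apply Scheme.IdealSheafData.ext
  funext U
  rw [Scheme.Hom.ker_apply, Scheme.Hom.ker_apply, ker_app_of_isPullback A K π hπ i₀ sq U.1 U.2,
    ker_app A Y _ U.1 U.2, hk]

/-- when the closed fibre is itself cut out by `t`: the kernel of the units map on cohomology is the cohomology of the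
structure sheaf of the closed fibre, provided the closed fibre is a retract -/
theorem nonempty_ker_equiv_of_retract (hk : RingHom.ker π = Ideal.span {t}) (p : Y ⟶ Y₀) (hip : i₀ ≫ p = 𝟙 Y₀)
    (q : ℕ) (ht0' : t ≠ 0) (ht' : t ∈ IsLocalRing.maximalIdeal A)
    (hmt' : ∀ x ∈ IsLocalRing.maximalIdeal A, x * t = 0) (hπ' : Function.Surjective π)
    (hkπ' : RingHom.ker π = IsLocalRing.maximalIdeal A)
    (sq' : IsPullback i₀ (Y₀ ↘ Spec (CommRingCat.of K)) (Y ↘ Spec (CommRingCat.of A))
      (Spec.map (CommRingCat.ofHom π))) :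
    Nonempty ((Sheaf.H.map (UnitsSh.comap i₀) q).ker ≃+ Coh.HH Y₀ (Coh.structureModule Y₀) q) := by
  haveI := isClosedImmersion_of_isPullback A K π hπ' i₀ sq'
  have hJ := ker_eq_JJ A t K π hπ' Y Y₀ i₀ sq' hk
  have key : ∀ (J : Y.IdealSheafData), J = JJ A t Y → J * J = ⊥ ∧
      Nonempty (ClSub.idealMod J ≅ (Scheme.Modules.pushforward i₀).obj (Coh.structureModule Y₀)) := by
    rintro J rfl
    exact ⟨JJ_mul A t ht' hmt' Y, nonempty_iso_JJ A t ht0' ht' hmt' K π hπ' hkπ' Y Y₀ i₀ sq'⟩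
  obtain ⟨hI, ⟨e⟩⟩ := key i₀.ker hJ
  have hS := shortExact_comap i₀ hI
  have hsurj := surjective_of_ker_mul i₀ hI
  have hb := le_preimage_of_surjective i₀ p hip hsurj
  obtain ⟨E⟩ := nonempty_ker_equiv _ hS (sec i₀ p hb) (sec_comap i₀ p hip hb) q
  obtain ⟨θ⟩ := Groth.Agent.Lib.Helper16.ClosedEmb.nonempty_H_push i₀.base i₀.isClosedEmbedding
    (Coh.toAb (Coh.structureModule Y₀)) q
  let e' : Coh.toAb (ClSub.idealMod i₀.ker) ≅ (CohTop.push i₀.base).obj (Coh.toAb (Coh.structureModule Y₀)) :=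
    (SheafOfModules.toSheaf Y.ringCatSheaf).mapIso e
  let E' : Sheaf.H (Coh.toAb (ClSub.idealMod i₀.ker)) q ≃+
      Sheaf.H ((CohTop.push i₀.base).obj (Coh.toAb (Coh.structureModule Y₀))) q :=
    AddEquiv.ofBijective (Sheaf.H.map e'.hom q) (H_map_bijective_of_isIso e'.hom q)
  exact ⟨(E.trans E').trans θ.symm⟩

end Bridge

section Main

variable (k : Type u) [Field k]

theorem fst_comp_algebraMap :
    (TrivSqZeroExt.fstHom k k k).toRingHom.comp (algebraMap k (DualNumber k)) = RingHom.id k := by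
  ext x
  rfl

theorem spec_comp : Spec.map (CommRingCat.ofHom (TrivSqZeroExt.fstHom k k k).toRingHom) ≫
    Spec.map (CommRingCat.ofHom (algebraMap k (DualNumber k))) = 𝟙 _ := by
  rw [← Spec.map_comp, ← CommRingCat.ofHom_comp, fst_comp_algebraMap]
  exact Spec.map_id _

theorem ker_fst_eq_span : RingHom.ker (TrivSqZeroExt.fstHom k k k).toRingHom =
    Ideal.span {(DualNumber.eps : DualNumber k)} := by
  ext x
  rw [RingHom.mem_ker, Ideal.mem_span_singleton]
  exact DualNumber.fst_eq_zero_iff_eps_dvd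

theorem eps_ne_zero : (DualNumber.eps : DualNumber k) ≠ 0 := by
  intro h
  have := congrArg TrivSqZeroExt.snd h
  simp at this

theorem main (X₀ : Scheme.{u}) [X₀.Over (Spec (CommRingCat.of k))] (q : ℕ) :
    Nonempty ((Sheaf.H.map (UnitsSh.comap (pullback.fst (pullback.snd (X₀ ↘ Spec (CommRingCat.of k)) (Spec.map (CommRingCat.ofHom (algebraMap k (DualNumber k))))) (Spec.map (CommRingCat.ofHom (TrivSqZeroExt.fstHom k k k).toRingHom)))) q).ker ≃+
      Coh.HH (pullback (pullback.snd (X₀ ↘ Spec (CommRingCat.of k)) (Spec.map (CommRingCat.ofHom (algebraMap k (DualNumber k))))) (Spec.map (CommRingCat.ofHom (TrivSqZeroExt.fstHom k k k).toRingHom))) (Coh.structureModule (pullback (pullback.snd (X₀ ↘ Spec (CommRingCat.of k)) (Spec.map (CommRingCat.ofHom (algebraMap k (DualNumber k))))) (Spec.map (CommRingCat.ofHom (TrivSqZeroExt.fstHom k k k).toRingHom)))) q) := by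
  letI oP : (pullback (X₀ ↘ Spec (CommRingCat.of k))
      (Spec.map (CommRingCat.ofHom (algebraMap k (DualNumber k))))).Over
      (Spec (CommRingCat.of (DualNumber k))) := ⟨pullback.snd _ _⟩
  haveI : Flat ((pullback (X₀ ↘ Spec (CommRingCat.of k))
      (Spec.map (CommRingCat.ofHom (algebraMap k (DualNumber k))))) ↘
      Spec (CommRingCat.of (DualNumber k))) :=
    inferInstanceAs (Flat (pullback.snd (X₀ ↘ Spec (CommRingCat.of k))
      (Spec.map (CommRingCat.ofHom (algebraMap k (DualNumber k))))))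
  letI oX : (pullback (pullback.snd (X₀ ↘ Spec (CommRingCat.of k))
      (Spec.map (CommRingCat.ofHom (algebraMap k (DualNumber k)))))
      (Spec.map (CommRingCat.ofHom (TrivSqZeroExt.fstHom k k k).toRingHom))).Over
      (Spec (CommRingCat.of k)) := ⟨pullback.snd _ _⟩
  have hkm : RingHom.ker (TrivSqZeroExt.fstHom k k k).toRingHom = IsLocalRing.maximalIdeal (DualNumber k) := by
    rw [DualNumber.maximalIdeal_eq_span_singleton_eps]
    exact ker_fst_eq_span k
  have hεm : (DualNumber.eps : DualNumber k) ∈ IsLocalRing.maximalIdeal (DualNumber k) := by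
    rw [DualNumber.maximalIdeal_eq_span_singleton_eps]
    exact Ideal.subset_span rfl
  have hmε : ∀ x ∈ IsLocalRing.maximalIdeal (DualNumber k), x * (DualNumber.eps : DualNumber k) = 0 := by
    intro x hx
    rw [DualNumber.maximalIdeal_eq_span_singleton_eps, Ideal.mem_span_singleton'] at hx
    obtain ⟨a, rfl⟩ := hx
    rw [mul_assoc, DualNumber.eps_mul_eps, mul_zero]
  have hsurj : Function.Surjective (TrivSqZeroExt.fstHom k k k).toRingHom := fun x =>
    ⟨TrivSqZeroExt.inl x, rfl⟩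
  exact nonempty_ker_equiv_of_retract (DualNumber k) DualNumber.eps k (TrivSqZeroExt.fstHom k k k).toRingHom
    _ _ (pullback.fst _ _) (ker_fst_eq_span k)
    (retr (X₀ ↘ Spec (CommRingCat.of k)) (Spec.map (CommRingCat.ofHom (algebraMap k (DualNumber k))))
      (Spec.map (CommRingCat.ofHom (TrivSqZeroExt.fstHom k k k).toRingHom)) (spec_comp k))
    (fst_retr _ _ _ (spec_comp k)) q (eps_ne_zero k) hεm hmε hsurj hkm (IsPullback.of_hasPullback _ _)

end Main

end Groth.Agent.Lib.T2H5.UnitsShL
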