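import Mathlib
import Groth.Prelude.Def_CohB1
set_option backward.isDefEq.respectTransparency.types false

/-!
# The affine chart `D_+(X_0) ⊆ P^n_k` and closed immersions of affine `k`-schemes of finite type (T2H6)

For a `k`-algebra `B` and `g : Fin n → B` we build the ring map
`φ : k[X_0, …, X_n]_{(X_0)} → B`, `a / X_0^d ↦ a(1, g)`, show that it is surjective when the `g i` generate `B`,
and the resulting immersion `chartMap : Spec B ⟶ P^n_k`, which is a closed immersion into `D_+(X_0)`.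
-/

set_option autoImplicit false
universe u

open CategoryTheory AlgebraicGeometry Limits

namespace Groth.Agent.Lib.T2H6.AffCompl

variable (k : Type u) [Field k] (n : ℕ) {B : Type u} [CommRing B] [Algebra k B] (g : Fin n → B)

local notation "𝒢" => CohB1.polyGrading n k

theorem hX0 : (MvPolynomial.X 0 : MvPolynomial (Fin (n + 1)) k) ∈ 𝒢 1 :=
  MvPolynomial.isHomogeneous_X k 0

/-- `X_0 ↦ 1`, `X_{i+1} ↦ g_i`. -/
noncomputable def ψ : MvPolynomial (Fin (n + 1)) k →ₐ[k] B :=
  MvPolynomial.aeval (Fin.cons 1 g : Fin (n + 1) → B)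

theorem ψ_X0 : ψ k n g (MvPolynomial.X 0) = 1 := by simp [ψ]

theorem ψ_succ (i : Fin n) : ψ k n g (MvPolynomial.X i.succ) = g i := by simp [ψ]

theorem ψ_C (c : k) : ψ k n g (MvPolynomial.C c) = algebraMap k B c := by simp [ψ]

theorem isUnit_ψ_X0 : IsUnit ((ψ k n g : MvPolynomial (Fin (n + 1)) k →+* B) (MvPolynomial.X 0)) := by
  change IsUnit (ψ k n g (MvPolynomial.X 0))
  rw [ψ_X0]; exact isUnit_one

/-- the ring map on the localization. -/
noncomputable def φL : Localization.Away (MvPolynomial.X 0 : MvPolynomial (Fin (n + 1)) k) →+* B :=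
  IsLocalization.Away.lift (MvPolynomial.X 0 : MvPolynomial (Fin (n + 1)) k) (isUnit_ψ_X0 k n g)

/-- the chart ring map `a / X_0^d ↦ a(1, g)`. -/
noncomputable def φ : HomogeneousLocalization.Away 𝒢 (MvPolynomial.X 0) →+* B :=
  (φL k n g).comp (algebraMap (HomogeneousLocalization.Away 𝒢 (MvPolynomial.X 0))
    (Localization.Away (MvPolynomial.X 0 : MvPolynomial (Fin (n + 1)) k)))

/-- `X_0^d` as an element of the submonoid of powers. -/
noncomputable def powX0 (d : ℕ) : Submonoid.powers (MvPolynomial.X 0 : MvPolynomial (Fin (n + 1)) k) :=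
  ⟨MvPolynomial.X 0 ^ d, ⟨d, rfl⟩⟩

theorem φL_mk (a : MvPolynomial (Fin (n + 1)) k) (d : ℕ) :
    φL k n g (Localization.mk a (powX0 k n d)) = ψ k n g a := by
  have h1 : Localization.mk a (powX0 k n d) *
      algebraMap _ _ ((MvPolynomial.X 0 : MvPolynomial (Fin (n + 1)) k) ^ d) = algebraMap _ _ a := by
    rw [Localization.mk_eq_mk']
    exact IsLocalization.mk'_spec _ a (powX0 k n d)
  have h2 := congrArg (φL k n g) h1
  rw [map_mul, φL, IsLocalization.Away.lift_eq, IsLocalization.Away.lift_eq] at h2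
  change _ * ψ k n g (MvPolynomial.X 0 ^ d) = ψ k n g a at h2
  rw [map_pow, ψ_X0, one_pow, mul_one] at h2
  exact h2

theorem φ_mk (d : ℕ) (a : MvPolynomial (Fin (n + 1)) k) (ha : a ∈ 𝒢 (d • 1)) :
    φ k n g (HomogeneousLocalization.Away.mk 𝒢 (hX0 k n) d a ha) = ψ k n g a := by
  change φL k n g ((HomogeneousLocalization.Away.mk 𝒢 (hX0 k n) d a ha).val) = _
  rw [HomogeneousLocalization.Away.val_mk]
  exact φL_mk k n g a d

theorem φ_fromZero (a : 𝒢 0) :
    φ k n g (HomogeneousLocalization.fromZeroRingHom 𝒢 _ a) = ψ k n g a.1 := by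
  change φL k n g ((HomogeneousLocalization.fromZeroRingHom 𝒢 _ a).val) = _
  have : (HomogeneousLocalization.fromZeroRingHom 𝒢
      (Submonoid.powers (MvPolynomial.X 0 : MvPolynomial (Fin (n + 1)) k)) a).val =
      Localization.mk a.1 (powX0 k n 0) := by
    simp only [HomogeneousLocalization.fromZeroRingHom, RingHom.coe_mk, MonoidHom.coe_mk,
      OneHom.coe_mk, HomogeneousLocalization.val_mk]
    rfl
  rw [this]
  exact φL_mk k n g a.1 0

theorem φ_algebraMap (c : k) :
    φ k n g (HomogeneousLocalization.fromZeroRingHom 𝒢 _ (algebraMap k (𝒢 0) c)) = algebraMap k B c := by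
  rw [φ_fromZero]
  have : ((algebraMap k (𝒢 0) c : 𝒢 0) : MvPolynomial (Fin (n + 1)) k) = MvPolynomial.C c := rfl
  rw [this, ψ_C]

theorem φ_surjective (hg : Function.Surjective (MvPolynomial.aeval g : MvPolynomial (Fin n) k →ₐ[k] B)) :
    Function.Surjective (φ k n g) := by
  intro b
  obtain ⟨P, rfl⟩ := hg b
  change MvPolynomial.aeval g P ∈ (φ k n g).range
  induction P using MvPolynomial.induction_on with
  | C c =>
    refine ⟨HomogeneousLocalization.fromZeroRingHom 𝒢 _ (algebraMap k (𝒢 0) c), ?_⟩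
    rw [φ_algebraMap]; simp
  | add p q hp hq =>
    rw [map_add]; exact (φ k n g).range.add_mem hp hq
  | mul_X p i hp =>
    rw [map_mul]
    refine (φ k n g).range.mul_mem hp ?_
    refine ⟨HomogeneousLocalization.Away.mk 𝒢 (hX0 k n) 1 (MvPolynomial.X i.succ) ?_, ?_⟩
    · exact MvPolynomial.isHomogeneous_X k i.succ
    · rw [φ_mk, ψ_succ]; simp

/-- the immersion `Spec B → P^n_k` with image in `D_+(X_0)`. -/
noncomputable def chartMap : Spec (CommRingCat.of B) ⟶ CohB1.ProjSpace n k :=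
  Spec.map (CommRingCat.ofHom (φ k n g)) ≫ Proj.awayι 𝒢 (MvPolynomial.X 0) (hX0 k n) one_pos

theorem chartMap_toSpec :
    chartMap k n g ≫ CohB1.ProjSpace.toSpec n k = Spec.map (CommRingCat.ofHom (algebraMap k B)) := by
  have h := Proj.awayι_toSpecZero 𝒢 (MvPolynomial.X 0) (hX0 k n) one_pos
  change (Spec.map (CommRingCat.ofHom (φ k n g)) ≫
      Proj.awayι 𝒢 (MvPolynomial.X 0) (hX0 k n) one_pos) ≫
    (Proj.toSpecZero 𝒢 ≫ Spec.map (CommRingCat.ofHom (algebraMap k (𝒢 0)))) = _
  rw [Category.assoc, reassoc_of% h, ← Spec.map_comp,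
    ← Spec.map_comp, ← CommRingCat.ofHom_comp, ← CommRingCat.ofHom_comp]
  congr 2
  ext c
  exact φ_algebraMap k n g c

end Groth.Agent.Lib.T2H6.AffCompl
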