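import Mathlib
set_option backward.isDefEq.respectTransparency.types false

/-!
# Closure of a graph in a product (T2H6)

`p : X ⟶ S` and `t : P ⟶ S` separated, `j : V ⟶ X` an open immersion, `c : V ⟶ D` a closed immersion,
`o : D ⟶ P` an open immersion with `j ≫ p = (c ≫ o) ≫ t`.  For `g = (j, c ≫ o) : V ⟶ X ×_S P` the closure
`C` of the image of `g` meets `pr₁⁻¹(j V)` and `pr₂⁻¹(o D)` exactly in the image of `g`.
-/

set_option autoImplicit false
universe u

open CategoryTheory AlgebraicGeometry Limits

namespace Groth.Agent.Lib.T2H6.AffCompl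

theorem closure_image_inter_range {A W : Type*} [TopologicalSpace A] [TopologicalSpace W]
    {O : A → W} (hO : Topology.IsEmbedding O) {F : Set A} (hF : IsClosed F) :
    closure (O '' F) ∩ Set.range O = O '' F := by
  apply Set.Subset.antisymm
  · rintro x ⟨hx, ⟨a, rfl⟩⟩
    have h1 : a ∈ closure F := by
      rw [hO.closure_eq_preimage_closure_image]; exact hx
    rw [hF.closure_eq] at h1
    exact ⟨a, h1, rfl⟩
  · rintro x ⟨a, ha, rfl⟩
    exact ⟨subset_closure ⟨a, ha, rfl⟩, ⟨a, rfl⟩⟩

section Graph

variable {S X P V D : Scheme.{u}} (p : X ⟶ S) (t : P ⟶ S) (j : V ⟶ X) (c : V ⟶ D) (o : D ⟶ P)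
  (comm : j ≫ p = (c ≫ o) ≫ t)

/-- the graph morphism. -/
noncomputable def graph : V ⟶ pullback p t := pullback.lift j (c ≫ o) comm

@[reassoc (attr := simp)]
theorem graph_fst : graph p t j c o comm ≫ pullback.fst p t = j := pullback.lift_fst _ _ _

@[reassoc (attr := simp)]
theorem graph_snd : graph p t j c o comm ≫ pullback.snd p t = c ≫ o := pullback.lift_snd _ _ _

theorem closure_range_graph_inter_snd [IsSeparated p] [IsOpenImmersion o] [IsClosedImmersion c] :
    closure (Set.range (graph p t j c o comm)) ∩ (pullback.snd p t) ⁻¹' (Set.range o) =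
      Set.range (graph p t j c o comm) := by
  let O : pullback p (o ≫ t) ⟶ pullback p t :=
    pullback.map p (o ≫ t) p t (𝟙 X) o (𝟙 S) (by simp) (by simp)
  have hO : Set.range O = (pullback.snd p t) ⁻¹' (Set.range o) := by
    rw [Scheme.Pullback.range_map]
    simp
  let g' : V ⟶ pullback p (o ≫ t) := pullback.lift j c (by rw [comm, Category.assoc])
  have hg' : g' ≫ O = graph p t j c o comm := by
    apply pullback.hom_ext
    · rw [Category.assoc]
      erw [pullback.lift_fst, pullback.lift_fst_assoc, pullback.lift_fst]
      simp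
    · rw [Category.assoc]
      erw [pullback.lift_snd, pullback.lift_snd_assoc, pullback.lift_snd]
  have : IsClosedImmersion (g' ≫ pullback.snd p (o ≫ t)) := by
    rw [pullback.lift_snd]; infer_instance
  have : IsClosedImmersion g' := IsClosedImmersion.of_comp g' (pullback.snd p (o ≫ t))
  have hr : Set.range (graph p t j c o comm) = O '' (Set.range g') := by
    rw [← hg', Scheme.Hom.comp_base, TopCat.coe_comp, Set.range_comp]
  rw [← hO, hr]
  exact closure_image_inter_range O.isOpenEmbedding.isEmbedding g'.isClosedEmbedding.isClosed_range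

theorem closure_range_graph_inter_fst [IsSeparated t] [IsOpenImmersion j] :
    closure (Set.range (graph p t j c o comm)) ∩ (pullback.fst p t) ⁻¹' (Set.range j) =
      Set.range (graph p t j c o comm) := by
  let O : pullback (j ≫ p) t ⟶ pullback p t :=
    pullback.map (j ≫ p) t p t j (𝟙 P) (𝟙 S) (by simp) (by simp)
  have hO : Set.range O = (pullback.fst p t) ⁻¹' (Set.range j) := by
    rw [Scheme.Pullback.range_map]
    simp
  let g' : V ⟶ pullback (j ≫ p) t := pullback.lift (𝟙 V) (c ≫ o) (by rw [Category.id_comp, comm])
  have hg' : g' ≫ O = graph p t j c o comm := by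
    apply pullback.hom_ext
    · rw [Category.assoc]
      erw [pullback.lift_fst, pullback.lift_fst_assoc, pullback.lift_fst]
      simp
    · rw [Category.assoc]
      erw [pullback.lift_snd, pullback.lift_snd_assoc, pullback.lift_snd]
      simp
  have : IsClosedImmersion (g' ≫ pullback.fst (j ≫ p) t) := by
    rw [pullback.lift_fst]; infer_instance
  have : IsClosedImmersion g' := IsClosedImmersion.of_comp g' (pullback.fst (j ≫ p) t)
  have hr : Set.range (graph p t j c o comm) = O '' (Set.range g') := by
    rw [← hg', Scheme.Hom.comp_base, TopCat.coe_comp, Set.range_comp]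
  rw [← hO, hr]
  exact closure_image_inter_range O.isOpenEmbedding.isEmbedding g'.isClosedEmbedding.isClosed_range

end Graph

end Groth.Agent.Lib.T2H6.AffCompl
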