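import Mathlib
import Groth.Agent.S0563
import Groth.Agent.S0604
import Groth.Agent.Lib.Helper6SmDim
import Groth.Agent.Lib.Helper28DepthBC

/-!
# Projective dimension of a Cohen–Macaulay quotient of a regular local ring (T2H6)

* `hasProjectiveDimensionLT_of_regular_of_cm`: let `A` be a regular local ring of dimension `≤ N`,
  `f : A → C` a surjection onto a Cohen–Macaulay local ring of dimension `n`, and `W` an `A`-module
  with a semilinear additive bijection onto `C`.  Then `pd_A W ≤ N - n`
  (Auslander–Buchsbaum).
* `projective_of_shortExact_chain`-style lemma `hasProjectiveDimensionLT_ker`: syzygies drop the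
  projective dimension.
-/

set_option autoImplicit false
set_option linter.style.haveILetI false
universe u

open CategoryTheory CategoryTheory.Limits

namespace Groth.Agent.Lib.T2H6.CM

section Alg

variable (A : Type u) [CommRing A] [IsRegularLocalRing A]

/-- Auslander–Buchsbaum for a Cohen–Macaulay quotient `C` of a regular local ring `A`:
`pd_A C ≤ N - n` if `dim A ≤ N` and `dim C = n`. -/
theorem hasProjectiveDimensionLT_of_regular_of_cm (N n : ℕ)
    (hA : ringKrullDim A ≤ (N : WithBot ℕ∞))
    (C : Type u) [CommRing C] [LocCoh.IsCohenMacaulayLocalRing C]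
    (hC : ringKrullDim C = (n : WithBot ℕ∞))
    (f : A →+* C) (hf : Function.Surjective f)
    (W : Type u) [AddCommGroup W] [Module A W] (σ : W →+ C) (hσ : Function.Bijective σ)
    (hσs : ∀ (a : A) (w : W), σ (a • w) = f a * σ w) :
    HasProjectiveDimensionLT (ModuleCat.of A W) (N - n + 1) := by
  haveI : IsNoetherianRing A := inferInstance
  haveI : IsLocalRing A := inferInstance
  haveI : IsNoetherianRing C := inferInstance
  haveI : IsLocalRing C := inferInstance
  letI : Algebra A C := f.toAlgebra
  haveI : IsLocalHom (algebraMap A C) := IsLocalHom.of_surjective f hf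
  haveI : Module.Finite A C := Module.Finite.of_surjective (Algebra.linearMap A C) hf
  -- `W ≅ C` as `A`-modules
  let σL : W →ₗ[A] C :=
    { toFun := σ
      map_add' := σ.map_add
      map_smul' := fun a w => by
        rw [RingHom.id_apply, hσs a w]
        rfl }
  let eL : W ≃ₗ[A] C := LinearEquiv.ofBijective σL hσ
  suffices hmain : HasProjectiveDimensionLT (ModuleCat.of A C) (N - n + 1) from
    hasProjectiveDimensionLT_of_iso eL.toModuleIso.symm _
  -- the dimension of `A`
  obtain ⟨d, hd⟩ : ∃ d : ℕ, ringKrullDim A = (d : WithBot ℕ∞) := by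
    have h1 : ringKrullDim A ≠ ⊥ := ringKrullDim_ne_bot
    have h2 : ringKrullDim A ≠ ⊤ := by
      intro h
      rw [h, top_le_iff] at hA
      have hA' : ((N : ℕ∞) : WithBot ℕ∞) = ((⊤ : ℕ∞) : WithBot ℕ∞) := hA
      rw [WithBot.coe_inj] at hA'
      exact ENat.natCast_ne_top N hA'
    generalize ringKrullDim A = D at h1 h2
    induction D with
    | bot => exact absurd rfl h1
    | coe D =>
      induction D with
      | top => exact absurd rfl h2
      | coe D => exact ⟨D, rfl⟩
  have hdN : d ≤ N := by
    rw [hd] at hA
    exact_mod_cast hA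
  have hpdlt : HasProjectiveDimensionLT (ModuleCat.of A C) (d + 1) :=
    Groth.Agent.S0563.result A d hd C
  -- the projective dimension of `C` is a natural number
  have hne : ¬ IsZero (ModuleCat.of A C) := by
    intro hz
    have : Subsingleton C := ModuleCat.subsingleton_of_isZero hz
    exact not_subsingleton C this
  obtain ⟨e', he'⟩ : ∃ e' : ℕ, projectiveDimension (ModuleCat.of A C) = (e' : WithBot ℕ∞) := by
    have h1 : projectiveDimension (ModuleCat.of A C) ≠ ⊥ := by
      rw [Ne, projectiveDimension_eq_bot_iff]
      exact hne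
    have h2 : projectiveDimension (ModuleCat.of A C) < ((d + 1 : ℕ) : WithBot ℕ∞) :=
      projectiveDimension_lt_iff.2 hpdlt
    generalize projectiveDimension (ModuleCat.of A C) = D at h1 h2
    induction D with
    | bot => exact absurd rfl h1
    | coe D =>
      induction D with
      | top => exact absurd h2 (by simp)
      | coe D => exact ⟨D, rfl⟩
  have hAB : LocCoh.depth A A = (e' : ℕ∞) + LocCoh.depth A C :=
    Groth.Agent.S0604.result A C e' he'
  have hdA : LocCoh.depth A A = (d : ℕ∞) := by
    have h := Groth.Agent.Lib.Helper6.SmDim.ringKrullDim_eq_depth_of_isRegularLocalRing A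
    rw [hd] at h
    exact_mod_cast h.symm
  have hdC : LocCoh.depth A C = (n : ℕ∞) := by
    rw [Groth.Agent.Lib.Helper28.depth_eq_depth_of_isLocalHom_of_finite (A := A) (B := C) (M := C)]
    have h := LocCoh.IsCohenMacaulayLocalRing.supportDim_eq_depth (R := C)
    rw [Module.supportDim_self_eq_ringKrullDim, hC] at h
    exact_mod_cast h.symm
  rw [hdA, hdC] at hAB
  have hnat : d = e' + n := by exact_mod_cast hAB
  have hlt : HasProjectiveDimensionLT (ModuleCat.of A C) (e' + 1) := by
    rw [← projectiveDimension_lt_iff, he']
    exact_mod_cast Nat.lt_succ_self e'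
  exact hasProjectiveDimensionLT_of_ge _ (e' + 1) _ (by omega)

end Alg

end Groth.Agent.Lib.T2H6.CM
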