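import Groth.Agent.Lib.T2H6SDualG

/-!
# Serre duality for the twisting sheaves of projective space: existence and uniqueness (T2H6)

`existsUnique_hom_twist`: for `n ≥ 1`, every linear form on `H^n(P^n_R, O(d))` is `trP ∘ H^n(φ)`
for exactly one `φ : O(d) ⟶ O(-n-1)`.
-/

set_option autoImplicit false
universe u

open CategoryTheory CategoryTheory.Limits AlgebraicGeometry TopologicalSpace Opposite MvPolynomial

namespace Groth.Agent.Lib.T2H6.SDual

open Groth.Agent.Lib.Helper27GrTildeSect Groth.Agent.Lib.T2H5.LaurentAlg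
  Groth.Agent.Lib.T2H5.TwistSect Groth.Agent.Lib.T2H5.CechPn
  Groth.Agent.Lib.T2H5.PnVanish Groth.Agent.Lib.T2H5.PnTop

variable (n : ℕ) (R : Type u) [CommRing R]

local notation "𝒫" => CohB1.polyGrading n R

/-- the pairing of a form with a class, as a linear form on the residues. -/
noncomputable def pairL (d : ℤ) (f : MvPolynomial (Fin (n + 1)) R) :
    ↥(Finsupp.supported R R (negDeg (n := n) d (idxEquiv.{u} n))) →ₗ[R] R :=
  ∑ a ∈ f.support, coeff a f • ((Finsupp.lapply (e₀ n - castE a)).comp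
    (Finsupp.supported R R (negDeg (n := n) d (idxEquiv.{u} n))).subtype)

theorem pairL_apply (d : ℤ) (f : MvPolynomial (Fin (n + 1)) R)
    (l : ↥(Finsupp.supported R R (negDeg (n := n) d (idxEquiv.{u} n)))) :
    pairL n R d f l = ∑ a ∈ f.support, coeff a f * (l : EE n →₀ R) (e₀ n - castE a) := by
  unfold pairL
  rw [LinearMap.sum_apply]
  rfl

theorem pairL_single (d : ℤ) {e : ℕ} (hde : d + (e : ℤ) = dω n)
    (f : MvPolynomial (Fin (n + 1)) R) (a₀ : Fin (n + 1) →₀ ℕ) (h : ∑ l, a₀ l = e) :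
    pairL n R d f ⟨Finsupp.single (e₀ n - castE a₀) 1,
      single_mem_supported' (mem_negDeg_e₀_sub a₀ hde h) 1⟩ = coeff a₀ f := by
  rw [pairL_apply]
  exact sum_coeff_single_eq f a₀

theorem trP_mulForm' (d : ℤ) (hd : d < 0) {e : ℕ}
    {f : MvPolynomial (Fin (n + 1)) R} (hf : f ∈ CohB1.polyGrading n R e)
    (hde : d + (e : ℤ) = dω n) (x : Coh.HH (CohB1.ProjSpace n R) (OO n R d) n) :
    trP n R (Sheaf.H.map ((SheafOfModules.toSheaf (CohB1.ProjSpace n R).ringCatSheaf).map
        (mulForm 𝒫 𝒫 hf hde)) n x) = pairL n R d f (resTop n R d hd x) := by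
  rw [trP_mulForm n R d hd hf hde, pairL_apply]

/-- existence: every linear form on `H^n(O(d))` is the pairing with a form. -/
theorem exists_form_of_linear (d : ℤ) (hd : d < 0) {e : ℕ} (hde : d + (e : ℤ) = dω n)
    (ψ : Coh.HH (CohB1.ProjSpace n R) (OO n R d) n →ₗ[R] R)
    (x : Coh.HH (CohB1.ProjSpace n R) (OO n R d) n) :
    ψ x = pairL n R d (formOf n R d hd hde ψ) (resTop n R d hd x) := by
  have key : ψ.comp (resTopₗ n R d hd).symm.toLinearMap = pairL n R d (formOf n R d hd hde ψ) := by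
    apply supported_lhom_ext
    intro ε hε
    obtain ⟨a₀, ha₀, rfl⟩ := exists_eq_e₀_sub hde ε hε
    rw [pairL_single n R d hde _ a₀ ha₀, coeff_formOf]
    unfold coefOf
    rw [dif_pos ha₀]
    rfl
  have := LinearMap.congr_fun key (resTop n R d hd x)
  rw [← this]
  change ψ x = ψ ((resTopₗ n R d hd).symm (resTopₗ n R d hd x))
  rw [LinearEquiv.symm_apply_apply]

/-- uniqueness: a form is determined by its pairing. -/
theorem form_eq_of_pairL_eq (d : ℤ) {e : ℕ} (hde : d + (e : ℤ) = dω n)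
    {f g : MvPolynomial (Fin (n + 1)) R} (hf : f ∈ CohB1.polyGrading n R e)
    (hg : g ∈ CohB1.polyGrading n R e) (h : pairL n R d f = pairL n R d g) : f = g := by
  ext a₀
  by_cases ha : ∑ l, a₀ l = e
  · rw [← pairL_single n R d hde f a₀ ha, ← pairL_single n R d hde g a₀ ha, h]
  · have hdeg : Finsupp.weight (1 : Fin (n + 1) → ℕ) a₀ ≠ e := by
      intro h2
      apply ha
      rw [← h2, ← Finsupp.degree_eq_sum, Finsupp.degree_eq_weight_one]
      rfl
    have h1 : coeff a₀ f = 0 := by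
      by_contra hne
      exact hdeg (hf hne)
    have h2 : coeff a₀ g = 0 := by
      by_contra hne
      exact hdeg (hg hne)
    rw [h1, h2]

/-- **Serre duality for the twisting sheaves of projective space** `P^n_R`, `n ≥ 1`: every linear
form on `H^n(O(d))` is `trP ∘ H^n(φ)` for exactly one `φ : O(d) ⟶ O(-n-1)`. -/
theorem existsUnique_hom_twist (hn : 1 ≤ n) (d : ℤ)
    (ψ : Coh.HH (CohB1.ProjSpace n R) (OO n R d) n →ₗ[R] R) :
    ∃! φ : OO n R d ⟶ OO n R (dω n), ∀ x : Coh.HH (CohB1.ProjSpace n R) (OO n R d) n,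
      ψ x = trP n R (Sheaf.H.map ((SheafOfModules.toSheaf
        (CohB1.ProjSpace n R).ringCatSheaf).map φ) n x) := by
  by_cases hle : d ≤ dω n
  · have hd : d < 0 := lt_of_le_of_lt hle (dω_neg n)
    obtain ⟨e, he⟩ := Int.eq_ofNat_of_zero_le (sub_nonneg.mpr hle)
    have hde : d + (e : ℤ) = dω n := by omega
    refine ⟨mulForm 𝒫 𝒫 (formOf_mem n R d hd hde ψ) hde, fun x => ?_, fun φ' hφ' => ?_⟩
    · rw [trP_mulForm' n R d hd _ hde]
      exact exists_form_of_linear n R d hd hde ψ x
    · obtain ⟨g, hg, rfl⟩ := exists_eq_mulForm hn hde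
        (show GrTilde.tilde 𝒫 𝒫 d ⟶ GrTilde.tilde 𝒫 𝒫 (dω n) from φ')
      have hpair : pairL n R d g = pairL n R d (formOf n R d hd hde ψ) := by
        ext l
        obtain ⟨x, rfl⟩ := (resTop n R d hd).surjective l
        rw [← trP_mulForm' n R d hd hg hde, ← exists_form_of_linear n R d hd hde ψ x]
        exact (hφ' x).symm
      have hgf := form_eq_of_pairL_eq n R d hde hg (formOf_mem n R d hd hde ψ) hpair
      subst hgf
      rfl
  · push Not at hle
    have hsub : Subsingleton (Coh.HH (CohB1.ProjSpace n R) (OO n R d) n) :=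
      subsingleton_HH_twist n R d n (fun h => by omega) (fun h => by
        have := h.2
        unfold dω at hle
        omega)
    refine ⟨0, fun x => ?_, fun φ' _ => ?_⟩
    · rw [Subsingleton.elim x 0, map_zero, map_zero, map_zero]
    · exact eq_zero_of_lt hn hle
        (show GrTilde.tilde 𝒫 𝒫 d ⟶ GrTilde.tilde 𝒫 𝒫 (dω n) from φ')

end Groth.Agent.Lib.T2H6.SDual
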