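import Mathlib
import Groth.Agent.Lib.T2H5HHLes2

/-!
# Devissage for dualizing pairs (T2H6)

For `X` over `Spec A`, a module `ω` and a trace `tr : H^r(X, ω) → A`, the duality map
`Canon.dualityMap : Hom(F, ω) → Hom_A(H^r(X, F), A)`:
* `dualityMap_comp`: naturality;
* `bijective_dualityMap_sigma`: bijective on finite coproducts of modules on which it is bijective;
* `bijective_dualityMap_of_presentation`: bijective on the cokernel of `E₁ ⟶ E₀` if it is bijective
  on `E₀`, injective on `E₁`, and `H^r(E₀) → H^r(F)` is onto.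
-/

set_option autoImplicit false
universe u

namespace Groth.Agent.Lib.T2H6.SDual

open CategoryTheory CategoryTheory.Limits AlgebraicGeometry Abelian
open Groth.Agent.Lib.Helper23.QCohLocal Groth.Agent.Lib.T2H5.HHLes

variable (A : Type u) [CommRing A] {X : Scheme.{u}} [X.Over (Spec (CommRingCat.of A))]

theorem HHlin_comp {F G H : X.Modules} (u : F ⟶ G) (v : G ⟶ H) (r : ℕ) :
    Canon.HHlin A (u ≫ v) r = (Canon.HHlin A v r).comp (Canon.HHlin A u r) := by
  ext x
  change Sheaf.H.map ((toAbF X).map (u ≫ v)) r x =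
    Sheaf.H.map ((toAbF X).map v) r
      (Sheaf.H.map ((toAbF X).map u) r x)
  rw [CategoryTheory.Functor.map_comp]
  exact Sheaf.H.map_comp_apply _ _ x

theorem HHlin_id (F : X.Modules) (r : ℕ) : Canon.HHlin A (𝟙 F) r = LinearMap.id := by
  ext x
  change Sheaf.H.map ((toAbF X).map (𝟙 F)) r x = x
  rw [CategoryTheory.Functor.map_id]
  exact Sheaf.H.map_id_apply x

theorem HHlin_add {F G : X.Modules} (u v : F ⟶ G) (r : ℕ) :
    Canon.HHlin A (u + v) r = Canon.HHlin A u r + Canon.HHlin A v r := by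
  ext x
  change Sheaf.H.map ((toAbF X).map (u + v)) r x =
    Sheaf.H.map ((toAbF X).map u) r x +
      Sheaf.H.map ((toAbF X).map v) r x
  rw [CategoryTheory.Functor.map_add]
  exact Sheaf.H.map_add_apply _ _ x

theorem HHlin_zero (F G : X.Modules) (r : ℕ) : Canon.HHlin A (0 : F ⟶ G) r = 0 := by
  have h := HHlin_add A (0 : F ⟶ G) 0 r
  rw [add_zero] at h
  exact left_eq_add.mp h

variable (r : ℕ) (ω : X.Modules) (tr : Coh.HH X ω r →ₗ[A] A)

theorem dualityMap_comp {F G : X.Modules} (u : F ⟶ G) (φ : G ⟶ ω) :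
    Canon.dualityMap A X r ω tr F (u ≫ φ) =
      (Canon.dualityMap A X r ω tr G φ).comp (Canon.HHlin A u r) := by
  unfold Canon.dualityMap
  rw [HHlin_comp, LinearMap.comp_assoc]

theorem dualityMap_zero (F : X.Modules) : Canon.dualityMap A X r ω tr F 0 = 0 := by
  unfold Canon.dualityMap
  rw [HHlin_zero, LinearMap.comp_zero]

theorem dualityMap_add {F : X.Modules} (φ φ' : F ⟶ ω) :
    Canon.dualityMap A X r ω tr F (φ + φ') =
      Canon.dualityMap A X r ω tr F φ + Canon.dualityMap A X r ω tr F φ' := by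
  unfold Canon.dualityMap
  rw [HHlin_add, LinearMap.comp_add]

/-- the decomposition of a class of a finite coproduct. -/
theorem HH_sigma_decomp {J : Type} [Fintype J] [DecidableEq J] (E : J → X.Modules) (x : Coh.HH X (∐ E) r) :
    x = ∑ j, Canon.HHlin A (Sigma.ι E j) r (Canon.HHlin A (Sigma.π E j) r x) := by
  have hsum : ∑ j, Sigma.π E j ≫ Sigma.ι E j = 𝟙 (∐ E) := by
    apply Sigma.hom_ext
    intro b
    rw [Preadditive.comp_sum, Category.comp_id]
    rw [Finset.sum_eq_single b]
    · rw [← Category.assoc, Sigma.ι_π_eq_id, Category.id_comp]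
    · intro c _ hc
      rw [← Category.assoc, Sigma.ι_π_of_ne E (Ne.symm hc), zero_comp]
    · intro hb
      exact absurd (Finset.mem_univ b) hb
  have h1 : ∀ j, Canon.HHlin A (Sigma.ι E j) r (Canon.HHlin A (Sigma.π E j) r x) =
      Canon.HHlin A (Sigma.π E j ≫ Sigma.ι E j) r x := by
    intro j
    rw [HHlin_comp]
    rfl
  simp only [h1]
  have h2 : ∀ (s : Finset J), ∑ j ∈ s, Canon.HHlin A (Sigma.π E j ≫ Sigma.ι E j) r x =
      Canon.HHlin A (∑ j ∈ s, Sigma.π E j ≫ Sigma.ι E j) r x := by
    intro s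
    induction s using Finset.induction_on with
    | empty => rw [Finset.sum_empty, Finset.sum_empty, HHlin_zero]; rfl
    | insert a s ha ih =>
      rw [Finset.sum_insert ha, Finset.sum_insert ha, ih, HHlin_add]
      rfl
  rw [h2, hsum, HHlin_id]
  rfl

/-- the duality map is bijective on a finite coproduct of modules on which it is bijective. -/
theorem bijective_dualityMap_sigma {J : Type} [Finite J] (E : J → X.Modules)
    (h : ∀ j, Function.Bijective (Canon.dualityMap A X r ω tr (E j))) :
    Function.Bijective (Canon.dualityMap A X r ω tr (∐ E)) := by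
  classical
  have := Fintype.ofFinite J
  constructor
  · intro φ φ' hφ
    apply Sigma.hom_ext
    intro j
    apply (h j).1
    rw [dualityMap_comp, dualityMap_comp, hφ]
  · intro ψ
    choose φ hφ using fun j => (h j).2 (ψ.comp (Canon.HHlin A (Sigma.ι E j) r))
    refine ⟨Sigma.desc φ, ?_⟩
    ext x
    conv_lhs => rw [HH_sigma_decomp A r E x]
    conv_rhs => rw [HH_sigma_decomp A r E x]
    rw [map_sum, map_sum]
    refine Finset.sum_congr rfl (fun j _ => ?_)
    have h1 := LinearMap.congr_fun (dualityMap_comp A r ω tr (Sigma.ι E j) (Sigma.desc φ))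
      (Canon.HHlin A (Sigma.π E j) r x)
    rw [Sigma.ι_desc, hφ j] at h1
    exact h1.symm

/-- the duality map is bijective on the cokernel of `a : E₁ ⟶ E₀` if it is bijective on `E₀`,
injective on `E₁`, and `H^r(E₀) → H^r(F)` is onto. -/
theorem bijective_dualityMap_of_presentation {E₁ E₀ F : X.Modules} (a : E₁ ⟶ E₀) (b : E₀ ⟶ F)
    [Epi b] (hab : a ≫ b = 0) (hex : (ShortComplex.mk a b hab).Exact)
    (h0 : Function.Bijective (Canon.dualityMap A X r ω tr E₀))
    (h1 : Function.Injective (Canon.dualityMap A X r ω tr E₁))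
    (hb : Function.Surjective (Canon.HHlin A b r)) :
    Function.Bijective (Canon.dualityMap A X r ω tr F) := by
  constructor
  · intro φ φ' hφ
    rw [← cancel_epi b]
    apply h0.1
    rw [dualityMap_comp, dualityMap_comp, hφ]
  · intro ψ
    obtain ⟨φ₀, hφ₀⟩ := h0.2 (ψ.comp (Canon.HHlin A b r))
    have hzero : a ≫ φ₀ = 0 := by
      apply h1
      rw [dualityMap_comp, hφ₀, dualityMap_zero, LinearMap.comp_assoc, ← HHlin_comp, hab,
        HHlin_zero, LinearMap.comp_zero]
    have : Epi (ShortComplex.mk a b hab).g := inferInstanceAs (Epi b)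
    refine ⟨hex.desc φ₀ hzero, ?_⟩
    ext y
    obtain ⟨x, rfl⟩ := hb y
    have h2 := LinearMap.congr_fun (dualityMap_comp A r ω tr b (hex.desc φ₀ hzero)) x
    have h3 : b ≫ hex.desc φ₀ hzero = φ₀ := hex.g_desc φ₀ hzero
    rw [h3, hφ₀] at h2
    exact h2.symm

end Groth.Agent.Lib.T2H6.SDual
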