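import Mathlib
import Groth.Agent.Lib.T2H6SDualH
import Groth.Agent.Lib.T2H6SDualI
import Groth.Agent.Lib.T2H5RegRes2
import Groth.Agent.Lib.T2H5SerrePn
import Groth.Agent.Lib.T2H5GenIsoB
import Groth.Agent.S2357

/-!
# Serre duality on projective space over a field: `O(-n-1)` is dualizing for coherent modules (T2H6)
-/

set_option autoImplicit false
universe u

open CategoryTheory CategoryTheory.Limits AlgebraicGeometry TopologicalSpace Opposite MvPolynomial

namespace Groth.Agent.Lib.T2H6.SDual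

open Groth.Agent.Lib.T2H5.PnVanish Groth.Agent.Lib.T2H5.PnTop Groth.Agent.Lib.T2H5.HHLes

section Ring

variable (n : ℕ) (R : Type u) [CommRing R]

/-- the duality map of `(O(-n-1), trP)` is bijective on the twisting sheaves, `n ≥ 1`. -/
theorem bijective_dualityMap_OO (hn : 1 ≤ n) (d : ℤ) :
    Function.Bijective (Canon.dualityMap R (CohB1.ProjSpace n R) n (OO n R (dω n)) (trP n R)
      (OO n R d)) := by
  constructor
  · intro φ φ' h
    obtain ⟨φ₀, -, huniq⟩ := existsUnique_hom_twist n R hn d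
      (Canon.dualityMap R (CohB1.ProjSpace n R) n (OO n R (dω n)) (trP n R) (OO n R d) φ)
    rw [huniq φ (fun x => rfl), huniq φ' (fun x => by rw [h]; rfl)]
  · intro ψ
    obtain ⟨φ, hφ, -⟩ := existsUnique_hom_twist n R hn d ψ
    refine ⟨φ, ?_⟩
    ext x
    exact (hφ x).symm

end Ring

section Field

variable (n : ℕ) (k : Type u) [Field k]

theorem isLocallyNoetherian_projSpace' : IsLocallyNoetherian (CohB1.ProjSpace n k) := by
  have hN : IsNoetherian (Proj (CohB1.polyGrading n k)) :=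
    Groth.Agent.S2357.result (CohB1.polyGrading n k)
  exact hN.toIsLocallyNoetherian

/-- every coherent module on `P^n_k` is a quotient of a finite sum of copies of one `O(-m)`, with
`m` as large as we please. -/
theorem exists_epi_twists_ge (F : (CohB1.ProjSpace n k).Modules) (hF : Coh.IsCoh F) (m₀ : ℤ) :
    ∃ (m : ℤ) (b : ℕ) (φ : (∐ fun _ : Fin b => OO n k (-m)) ⟶ F), m₀ ≤ m ∧ Epi φ := by
  obtain ⟨d₀, hd₀⟩ := Groth.Agent.Lib.T2H5.SerrePn.serre_vanishing n k F hF
  set d₁ := max d₀ m₀ with hd₁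
  have hreg : Curv2.IsMRegular k n F (d₁ + n) := by
    intro i hi hin
    have hle : (i : ℤ) ≤ n := by exact_mod_cast hin
    have h1 : d₀ ≤ d₁ := le_max_left _ _
    exact hd₀ (d₁ + n - i) (by omega) i hi
  obtain ⟨b, φ, hφ, -⟩ := Groth.Agent.Lib.T2H5.RegRes.exists_epi_twists_kernel_regular n k F hF
    (d₁ + n) hreg
  have key : ∀ (T : (CohB1.ProjSpace n k).Modules), T = OO n k (-(d₁ + n)) →
      ∀ φ : (∐ fun _ : Fin b => T) ⟶ F, Epi φ →
      ∃ (m : ℤ) (b : ℕ) (φ : (∐ fun _ : Fin b => OO n k (-m)) ⟶ F), m₀ ≤ m ∧ Epi φ := by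
    intro T hT φ hφ
    subst hT
    have h1 : m₀ ≤ d₁ := le_max_right _ _
    exact ⟨d₁ + n, b, φ, by omega, hφ⟩
  exact key _ (twist_eq n k (-(d₁ + n))) φ hφ

/-- every coherent module on `P^n_k` is a quotient of a finite sum of copies of one `O(-m)`. -/
theorem exists_epi_twists (F : (CohB1.ProjSpace n k).Modules) (hF : Coh.IsCoh F) :
    ∃ (m : ℤ) (b : ℕ) (φ : (∐ fun _ : Fin b => OO n k (-m)) ⟶ F), Epi φ := by
  obtain ⟨m, b, φ, -, hφ⟩ := exists_epi_twists_ge n k F hF 0
  exact ⟨m, b, φ, hφ⟩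

theorem isCoh_OO (d : ℤ) : Coh.IsCoh (OO n k d) := by
  have := Groth.Agent.Lib.T2H5.PnFinite.isCoh_twist n k d
  rwa [twist_eq] at this

/-- devissage: if the duality map of `(O(-n-1), trP)` is bijective on the twisting sheaves `O(d)`,
`d ≤ d₁`, it is bijective on every coherent module. -/
theorem bijective_dualityMap_of_isCoh'' (d₁ : ℤ) (hOO : ∀ d : ℤ, d ≤ d₁ → Function.Bijective
      (Canon.dualityMap k (CohB1.ProjSpace n k) n (OO n k (dω n)) (trP n k) (OO n k d)))
    (F : (CohB1.ProjSpace n k).Modules) (hF : Coh.IsCoh F) :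
    Function.Bijective (Canon.dualityMap k (CohB1.ProjSpace n k) n (OO n k (dω n)) (trP n k) F) := by
  have := isLocallyNoetherian_projSpace' n k
  obtain ⟨m, b, φ, hm, hφ⟩ := exists_epi_twists_ge n k F hF (-d₁)
  have hE₀ : Coh.IsCoh (∐ fun _ : Fin b => OO n k (-m)) :=
    Groth.Agent.Lib.T2H5.GenIsoA.isCoh_sigma _ (fun _ => isCoh_OO n k (-m))
  have hK : Coh.IsCoh (kernel φ) := Groth.Agent.Lib.T2H5.GenIsoB.isCoh_kernel φ hE₀ hF
  obtain ⟨m', b', φ', hm', hφ'⟩ := exists_epi_twists_ge n k (kernel φ) hK (-d₁)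
  have hab : (φ' ≫ kernel.ι φ) ≫ φ = 0 := by rw [Category.assoc, kernel.condition, comp_zero]
  have hex : (ShortComplex.mk (φ' ≫ kernel.ι φ) φ hab).Exact := by
    let S₁ : ShortComplex (CohB1.ProjSpace n k).Modules := ShortComplex.mk (φ' ≫ kernel.ι φ) φ hab
    let S₂ : ShortComplex (CohB1.ProjSpace n k).Modules :=
      ShortComplex.mk (kernel.ι φ) φ (kernel.condition φ)
    let α : S₁ ⟶ S₂ :=
      { τ₁ := φ'
        τ₂ := 𝟙 _
        τ₃ := 𝟙 _
        comm₁₂ := by simp [S₁, S₂]
        comm₂₃ := by simp [S₁, S₂] }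
    have : Epi α.τ₁ := hφ'
    have : IsIso α.τ₂ := inferInstanceAs (IsIso (𝟙 _))
    have : Mono α.τ₃ := inferInstanceAs (Mono (𝟙 _))
    exact (ShortComplex.exact_iff_of_epi_of_isIso_of_mono α).mpr (ShortComplex.exact_kernel φ)
  have hS : (ShortComplex.mk (kernel.ι φ) φ (kernel.condition φ)).ShortExact :=
    { exact := ShortComplex.exact_kernel φ }
  have hsurj : Function.Surjective (Canon.HHlin k φ n) := by
    refine surjective_g_of_injective_f_succ k _ hS n ?_
    have : Coh.IsQCoh (kernel φ) := hK.1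
    have : Subsingleton (Coh.HH (CohB1.ProjSpace n k) (kernel φ) (n + 1)) :=
      Groth.Agent.S0022.result n k (kernel φ) (n + 1) (Nat.lt_succ_self n)
    exact fun x y _ => Subsingleton.elim x y
  have : Epi φ := hφ
  exact bijective_dualityMap_of_presentation k n _ _ (φ' ≫ kernel.ι φ) φ hab hex
    (bijective_dualityMap_sigma k n _ _ _ (fun _ => hOO (-m) (by omega)))
    (bijective_dualityMap_sigma k n _ _ _ (fun _ => hOO (-m') (by omega))).1
    hsurj

/-- devissage: if the duality map of `(O(-n-1), trP)` is bijective on the twisting sheaves, it is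
bijective on every coherent module. -/
theorem bijective_dualityMap_of_isCoh' (hOO : ∀ d : ℤ, Function.Bijective
      (Canon.dualityMap k (CohB1.ProjSpace n k) n (OO n k (dω n)) (trP n k) (OO n k d)))
    (F : (CohB1.ProjSpace n k).Modules) (hF : Coh.IsCoh F) :
    Function.Bijective (Canon.dualityMap k (CohB1.ProjSpace n k) n (OO n k (dω n)) (trP n k) F) :=
  bijective_dualityMap_of_isCoh'' n k 0 (fun d _ => hOO d) F hF

/-- **Serre duality on `P^n_k`**, `n ≥ 1`: the duality map of `(O(-n-1), trP)` is bijective on every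
coherent module. -/
theorem bijective_dualityMap_of_isCoh (hn : 1 ≤ n) (F : (CohB1.ProjSpace n k).Modules)
    (hF : Coh.IsCoh F) :
    Function.Bijective (Canon.dualityMap k (CohB1.ProjSpace n k) n (OO n k (dω n)) (trP n k) F) :=
  bijective_dualityMap_of_isCoh' n k (bijective_dualityMap_OO n k hn) F hF

end Field

end Groth.Agent.Lib.T2H6.SDual
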