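import Mathlib
import Groth.Agent.Lib.T2H3FreeLocus
import Groth.Agent.Lib.Helper23FinPres
import Groth.Agent.Lib.Helper23StalkLin
import Groth.Agent.Lib.Helper21ExtShLocFree
import Groth.Agent.Lib.T2H6SDualJ
import Groth.Agent.Lib.T2H6LocGlobC

/-!
# Vanishing of local Ext sheaves from the projective dimension of the stalks at closed points (T2H6)

* `PdLT B m`: the stalks of `B` at all closed points have projective dimension `< m`.
* `isFinLocFree_of_pdLT_one`: a coherent module on a quasi-compact locally Noetherian scheme whose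
  stalks at closed points are projective is finite locally free.
* `isZero_extSh_of_pdLT`: on `P^N_k`, `ℰxt^j(B, G) = 0` for `j ≥ m ≥ 1` if `B` is coherent with
  `PdLT B m`.
-/

set_option autoImplicit false
set_option linter.style.haveILetI false
universe u

open CategoryTheory CategoryTheory.Limits AlgebraicGeometry

namespace Groth.Agent.Lib.T2H6.CM

open Groth.Agent.Lib.Helper4.NormDelta Groth.Agent.Lib.Helper23.StalkLin

section Stalk

variable {X : Scheme.{u}}

/-- the stalks of `B` at all closed points have projective dimension `< m`. -/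
def PdLT (B : X.Modules) (m : ℕ) : Prop :=
  ∀ x : X, IsClosed ({x} : Set X) →
    HasProjectiveDimensionLT (ModuleCat.of (X.presheaf.stalk x) (B.presheaf.stalk x)) m

/-- the short complex of stalks. -/
noncomputable def stalkSC (S : ShortComplex X.Modules) (hS : S.ShortExact) (x : X) :
    ShortComplex (ModuleCat.{u} (X.presheaf.stalk x)) :=
  ShortComplex.mk (ModuleCat.ofHom (stalkLin S.f x)) (ModuleCat.ofHom (stalkLin S.g x)) (by
    rw [← ModuleCat.ofHom_comp]
    rw [(stalkLin_exact S hS x).linearMap_comp_eq_zero]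
    rfl)

theorem stalkSC_shortExact (S : ShortComplex X.Modules) (hS : S.ShortExact) (x : X) :
    (stalkSC S hS x).ShortExact := by
  haveI := hS.mono_f
  haveI := hS.epi_g
  exact ModuleCat.shortComplex_shortExact _ (stalkLin_exact S hS x) (stalkLin_injective S.f x)
    (stalkLin_surjective S.g x)

theorem isFP_of_isCoh [IsLocallyNoetherian X] (B : X.Modules) (hB : Coh.IsCoh B) :
    SheafOfModules.IsFinitePresentation (R := X.ringCatSheaf) B := by
  haveI : B.IsQuasicoherent := hB.1
  haveI : SheafOfModules.IsFiniteType (R := X.ringCatSheaf) B := hB.2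
  exact Groth.Agent.Lib.Helper23.FinType.isFinitePresentation_of_isFiniteType B

/-- a coherent module whose stalks at closed points are projective is finite locally free. -/
theorem isFinLocFree_of_pdLT_one [CompactSpace X] [IsLocallyNoetherian X] (B : X.Modules)
    (hB : Coh.IsCoh B) (h : PdLT B 1) : FlatMod.IsFinLocFree B := by
  haveI : B.IsQuasicoherent := hB.1
  haveI := isFP_of_isCoh B hB
  rw [Groth.Agent.Lib.T2H3.FreeBC.isFinLocFree_iff_forall_free_stalk]
  have hopen := Groth.Agent.Lib.T2H3.FreeBC.isOpen_setOf_isFlatAt B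
  have hall : ∀ x : X, FlatMod.IsFlatAt B x := by
    by_contra hcon
    obtain ⟨x₀, hx₀⟩ := not_forall.1 hcon
    have hcl : IsClosed ({x : X | FlatMod.IsFlatAt B x}ᶜ) := hopen.isClosed_compl
    obtain ⟨x, hx, hxcl⟩ := hcl.exists_closed_singleton ⟨x₀, hx₀⟩
    apply hx
    haveI := h x hxcl
    haveI : Projective (ModuleCat.of (X.presheaf.stalk x) (B.presheaf.stalk x)) := inferInstance
    haveI : Module.Projective (X.presheaf.stalk x) (B.presheaf.stalk x) :=
      (IsProjective.iff_projective _).2 inferInstance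
    exact (inferInstance : Module.Flat (X.presheaf.stalk x) (B.presheaf.stalk x))
  intro x
  exact (Groth.Agent.Lib.T2H3.FreeBC.free_stalk_iff_isFlatAt B x).2 (hall x)

/-- the stalks of a coherent finite locally free module are projective. -/
theorem projective_stalk_of_isFinLocFree [IsLocallyNoetherian X] (L : X.Modules)
    (hLc : Coh.IsCoh L) (hL : FlatMod.IsFinLocFree L) (x : X) :
    Projective (ModuleCat.of (X.presheaf.stalk x) (L.presheaf.stalk x)) := by
  haveI : L.IsQuasicoherent := hLc.1
  haveI := isFP_of_isCoh L hLc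
  haveI : Module.Free (X.presheaf.stalk x) (L.presheaf.stalk x) :=
    (Groth.Agent.Lib.T2H3.FreeBC.isFinLocFree_iff_forall_free_stalk L).1 hL x
  exact (IsProjective.iff_projective _).1 inferInstance

/-- syzygies drop the projective dimension of the stalks. -/
theorem pdLT_kernel [IsLocallyNoetherian X] (S : ShortComplex X.Modules) (hS : S.ShortExact)
    (hLc : Coh.IsCoh S.X₂) (hL : FlatMod.IsFinLocFree S.X₂) (m : ℕ)
    (h : PdLT S.X₃ (m + 2)) : PdLT S.X₁ (m + 1) := by
  intro x hx
  haveI := projective_stalk_of_isFinLocFree S.X₂ hLc hL x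
  have h3 : HasProjectiveDimensionLT (stalkSC S hS x).X₃ (m + 1 + 1) := h x hx
  haveI : Projective (stalkSC S hS x).X₂ := projective_stalk_of_isFinLocFree S.X₂ hLc hL x
  have h2 : HasProjectiveDimensionLT (stalkSC S hS x).X₂ (m + 1) :=
    hasProjectiveDimensionLT_of_ge _ 1 (m + 1) (by omega)
  exact (stalkSC_shortExact S hS x).hasProjectiveDimensionLT_X₁ (m + 1) h2 h3

end Stalk

section Pn

open Groth.Agent.Lib.Helper21.ExtShDelta Groth.Agent.Lib.Helper21.CoDeltaLib

variable (N : ℕ) (k : Type u) [Field k]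

attribute [local instance] Groth.Agent.Lib.Helper21.ExtShDelta.hasSheafHom

/-- a presentation of a coherent module on `P^N_k` by a finite locally free one. -/
theorem exists_pres_locFree_Pn (F : (CohB1.ProjSpace N k).Modules) (hF : Coh.IsCoh F) :
    ∃ S : ShortComplex (CohB1.ProjSpace N k).Modules, S.ShortExact ∧ S.X₃ = F ∧
      Coh.IsCoh S.X₁ ∧ Coh.IsCoh S.X₂ ∧ FlatMod.IsFinLocFree S.X₂ := by
  haveI := Groth.Agent.Lib.T2H6.SDual.isLocallyNoetherian_projSpace' N k
  obtain ⟨m, b, φ, -, hφ⟩ := Groth.Agent.Lib.T2H6.SDual.exists_epi_twists_ge N k F hF 0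
  have hinv : PicF.IsInvertible (Twist.twistProjSpace N k (-m)) :=
    Groth.Agent.Lib.T2H5.Twist.isInvertible_twist N k (-m)
  have hflf : FlatMod.IsFinLocFree (∐ fun _ : Fin b => Twist.twistProjSpace N k (-m)) :=
    Groth.Agent.Lib.Helper1.FLF.isFinLocFree_of_isColimit_cofan _
      (Cofan.mk (∐ fun _ : Fin b => Twist.twistProjSpace N k (-m)) (Sigma.ι _))
      (coproductIsCoproduct _) Finset.univ (fun i hi => absurd (Finset.mem_univ i) hi)
      (fun _ => Groth.Agent.Helper18PBUnit.isFinLocFree_of_isInvertible hinv)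
  have hEc : Coh.IsCoh (∐ fun _ : Fin b => Twist.twistProjSpace N k (-m)) :=
    Groth.Agent.Lib.T2H5.GenIsoA.isCoh_sigma _
      (fun _ => Groth.Agent.Lib.T2H5.PnFinite.isCoh_twist N k (-m))
  have hK : Coh.IsCoh (kernel φ) := Groth.Agent.Lib.T2H5.GenIsoB.isCoh_kernel φ hEc hF
  exact ⟨ShortComplex.mk (kernel.ι φ) φ (kernel.condition φ),
    ShortComplex.ShortExact.mk (ShortComplex.exact_kernel φ), rfl, hK, hEc, hflf⟩

variable [HasInjectiveResolutions (ModSite.Mod (CohB1.ProjSpace N k).sheaf)]

/-- **vanishing of the local Ext sheaves above the projective dimension of the stalks**. -/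
theorem isZero_extSh_of_pdLT (G : (CohB1.ProjSpace N k).Modules) :
    ∀ (m : ℕ) (B : (CohB1.ProjSpace N k).Modules), Coh.IsCoh B → PdLT B (m + 1) →
      ∀ j : ℕ, m + 1 ≤ j →
        IsZero (((ModSite.sheafHom (O := (CohB1.ProjSpace N k).sheaf) B).rightDerived j).obj G) := by
  haveI := Groth.Agent.Lib.T2H6.SDual.isLocallyNoetherian_projSpace' N k
  haveI : CompactSpace (CohB1.ProjSpace N k) := Groth.Agent.Lib.T2H5.GlobGenPn.compactSpace N k
  intro m
  induction m with
  | zero =>
    intro B hB hpd j hj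
    obtain ⟨q, rfl⟩ : ∃ q, j = q + 1 := ⟨j - 1, by omega⟩
    exact Groth.Agent.Lib.Helper21.ExtShLocFree.isZero_extSh_of_isFinLocFree B G
      (isFinLocFree_of_pdLT_one B hB hpd) q
  | succ m ih =>
    intro B hB hpd j hj
    obtain ⟨S, hS, rfl, hK, hEc, hE⟩ := exists_pres_locFree_Pn N k B hB
    have hpdK : PdLT S.X₁ (m + 1) := pdLT_kernel S hS hEc hE m hpd
    obtain ⟨q, rfl⟩ : ∃ q, j = q + 1 + 1 := ⟨j - 2, by omega⟩
    have hK0 := ih S.X₁ hK hpdK (q + 1) (by omega)
    have h2 : IsZero ((extShDelta (O := (CohB1.ProjSpace N k).sheaf) G).E (q + 1 + 1) S.X₂) :=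
      Groth.Agent.Lib.Helper21.ExtShLocFree.isZero_extSh_of_isFinLocFree S.X₂ G hE (q + 1)
    haveI := CoDelta.epi_δ (extShDelta (O := (CohB1.ProjSpace N k).sheaf) G) S hS (q + 1) h2
    exact @IsZero.of_epi _ _ _ _ _
      ((extShDelta (O := (CohB1.ProjSpace N k).sheaf) G).δ S hS (q + 1)) this hK0

end Pn

end Groth.Agent.Lib.T2H6.CM
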