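import Mathlib
import Groth.Agent.Lib.T2H4ClosedImmLen
import Groth.Agent.Lib.Helper23UnitStalk
import Groth.Agent.Lib.T2H6CMAlgA
import Groth.Agent.Lib.T2H6CMSyz
import Groth.Agent.Lib.Helper27PnChart
import Groth.Agent.Lib.Helper27ProjDim

/-!
# The stalks of `P^N_k` and of `ι_* O_X` for a Cohen–Macaulay closed subscheme (T2H6)

* `ringKrullDim_stalk_le`: `dim O_{X,x} ≤ dim X`.
* `isRegularLocalRing_stalk_projSpace`: the local rings of `P^N_k` are regular.
* `pdLT_pushO`: if the local rings of `X ⊆ P^N_k` at closed points are Cohen–Macaulay of dimension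
  `n`, the stalks of `ι_* O_X` at closed points have projective dimension `≤ N - n`.
-/

set_option autoImplicit false
set_option linter.style.haveILetI false
universe u

open CategoryTheory CategoryTheory.Limits AlgebraicGeometry

namespace Groth.Agent.Lib.T2H6.CM

section Dim

attribute [local instance] specializationOrder in
theorem coheight_le_topologicalKrullDim {T : Type*} [TopologicalSpace T] [QuasiSober T]
    [T0Space T] (x : T) : (Order.coheight x : WithBot ℕ∞) ≤ topologicalKrullDim T := by
  rw [← Order.coheight_orderIso (irreducibleSetEquivPoints (α := T)).symm x]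
  exact Order.coheight_le_krullDim _

/-- `dim O_{X,x} ≤ dim X`. -/
theorem ringKrullDim_stalk_le (X : Scheme.{u}) (x : X) :
    ringKrullDim (X.presheaf.stalk x) ≤ topologicalKrullDim X := by
  rw [ringKrullDim_stalk_eq_coheight]
  exact coheight_le_topologicalKrullDim x

end Dim

section Reg

variable (N : ℕ) (k : Type u) [Field k]

open HomogeneousLocalization MvPolynomial

/-- the local rings of `P^N_k` are regular. -/
theorem isRegularLocalRing_stalk_projSpace (x : CohB1.ProjSpace N k) :
    IsRegularLocalRing ((CohB1.ProjSpace N k).presheaf.stalk x) := by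
  change IsRegularLocalRing ((Proj (CohB1.polyGrading N k)).presheaf.stalk x)
  have hx : x ∈ (⨆ i : Fin (N + 1), Proj.basicOpen (CohB1.polyGrading N k)
      (X i : MvPolynomial (Fin (N + 1)) k)) := by
    rw [Groth.Agent.Lib.Helper27PnChart.iSup_basicOpen_X]
    trivial
  obtain ⟨i, hi⟩ := TopologicalSpace.Opens.mem_iSup.1 hx
  have hXi : (X i : MvPolynomial (Fin (N + 1)) k) ∈ CohB1.polyGrading N k 1 :=
    MvPolynomial.isHomogeneous_X k i
  have haff : IsAffineOpen (Proj.basicOpen (CohB1.polyGrading N k)
      (X i : MvPolynomial (Fin (N + 1)) k)) :=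
    Proj.isAffineOpen_basicOpen (CohB1.polyGrading N k) _ hXi Nat.one_pos
  let e₁ : Away (CohB1.polyGrading N k) (X i : MvPolynomial (Fin (N + 1)) k) ≃+*
      Γ(Proj (CohB1.polyGrading N k), Proj.basicOpen (CohB1.polyGrading N k)
        (X i : MvPolynomial (Fin (N + 1)) k)) :=
    (Proj.basicOpenIsoAway (CohB1.polyGrading N k) (X i : MvPolynomial (Fin (N + 1)) k)
      hXi Nat.one_pos).commRingCatIsoToRingEquiv
  let e₂ : MvPolynomial {j : Fin (N + 1) // j ≠ i} k ≃+*
      Away (CohB1.polyGrading N k) (X i : MvPolynomial (Fin (N + 1)) k) :=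
    RingEquiv.ofBijective (Groth.Agent.Lib.Helper27PnChart.chart N k i)
      (Groth.Agent.Lib.Helper27PnChart.chart_bijective N k i)
  haveI : IsRegularRing (MvPolynomial {j : Fin (N + 1) // j ≠ i} k) := inferInstance
  haveI hreg : IsRegularRing Γ(Proj (CohB1.polyGrading N k),
      Proj.basicOpen (CohB1.polyGrading N k) (X i : MvPolynomial (Fin (N + 1)) k)) :=
    IsRegularRing.of_ringEquiv (e₂.trans e₁)
  have hloc := haff.isLocalization_stalk ⟨x, hi⟩
  letI : Algebra Γ(Proj (CohB1.polyGrading N k), Proj.basicOpen (CohB1.polyGrading N k)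
      (X i : MvPolynomial (Fin (N + 1)) k)) ((Proj (CohB1.polyGrading N k)).presheaf.stalk x) :=
    TopCat.Presheaf.algebra_section_stalk (Proj (CohB1.polyGrading N k)).presheaf ⟨x, hi⟩
  haveI : IsLocalization.AtPrime ((Proj (CohB1.polyGrading N k)).presheaf.stalk x)
      (haff.primeIdealOf ⟨x, hi⟩).asIdeal := hloc
  exact IsRegularLocalRing.of_ringEquiv
    (IsLocalization.algEquiv (haff.primeIdealOf ⟨x, hi⟩).asIdeal.primeCompl
      (Localization.AtPrime (haff.primeIdealOf ⟨x, hi⟩).asIdeal)
      ((Proj (CohB1.polyGrading N k)).presheaf.stalk x)).toRingEquiv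

end Reg

section Push

open Groth.Agent.Lib.Helper4.NormDelta Groth.Agent.Lib.T2H4.ClosedImmLen
  Groth.Agent.Lib.Helper23.UnitStalk

variable (N : ℕ) (k : Type u) [Field k] {X : Scheme.{u}}
  (ι : X ⟶ CohB1.ProjSpace N k) [IsClosedImmersion ι]

/-- the stalks of `ι_* O_X` at closed points have projective dimension `≤ N - n` if the local rings
of `X` at closed points are Cohen–Macaulay of dimension `n`. -/
theorem pdLT_pushO (n : ℕ)
    (hCM : ∀ x : X, IsClosed ({x} : Set ↥X) →
      LocCoh.IsCohenMacaulayLocalRing (X.presheaf.stalk x) ∧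
        ringKrullDim (X.presheaf.stalk x) = n) :
    PdLT ((Scheme.Modules.pushforward ι).obj (Coh.structureModule X)) (N - n + 1) := by
  intro x hx
  by_cases hxr : x ∈ Set.range ι
  · obtain ⟨y, rfl⟩ := hxr
    have hy : IsClosed ({y} : Set ↥X) := by
      have h1 : ({y} : Set ↥X) = ι ⁻¹' {ι y} := by
        ext z
        simp only [Set.mem_singleton_iff, Set.mem_preimage]
        exact ⟨fun h => by rw [h], fun h => ι.isClosedEmbedding.injective h⟩
      rw [h1]
      exact hx.preimage ι.continuous
    obtain ⟨hcm, hdim⟩ := hCM y hy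
    haveI := hcm
    haveI := isRegularLocalRing_stalk_projSpace N k (ι y)
    have hA : ringKrullDim ((CohB1.ProjSpace N k).presheaf.stalk (ι y)) ≤ (N : WithBot ℕ∞) := by
      have h := ringKrullDim_stalk_le (CohB1.ProjSpace N k) (ι y)
      have h2 : topologicalKrullDim ↥(CohB1.ProjSpace N k) = (N : WithBot ℕ∞) :=
        Groth.Agent.Lib.Helper27ProjDim.main k N
      rwa [h2] at h
    -- the semilinear bijection `(ι_* O_X)_{ι y} → O_{X,y}`
    let σ : (pushO ι).presheaf.stalk (ι y) →+ X.presheaf.stalk y :=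
      (unitStalkEquiv y).symm.toLinearMap.toAddMonoidHom.comp (cmp ι y).hom
    have hσ : Function.Bijective σ :=
      (unitStalkEquiv y).symm.bijective.comp (cmp_bijective ι y)
    have hσs : ∀ (a : (CohB1.ProjSpace N k).presheaf.stalk (ι y))
        (w : (pushO ι).presheaf.stalk (ι y)), σ (a • w) = (ι.stalkMap y).hom a * σ w := by
      intro a w
      change (unitStalkEquiv y).symm ((cmp ι y).hom (a • w)) =
        (ι.stalkMap y).hom a * (unitStalkEquiv y).symm ((cmp ι y).hom w)
      rw [cmp_smul, map_smul, smul_eq_mul]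
    exact hasProjectiveDimensionLT_of_regular_of_cm
      ((CohB1.ProjSpace N k).presheaf.stalk (ι y)) N n hA (X.presheaf.stalk y) hdim
      (ι.stalkMap y).hom (ι.stalkMap_surjective y) _ σ hσ hσs
  · haveI : Subsingleton ((pushO ι).presheaf.stalk x) :=
      subsingleton_stalk_of_notMem_range ι ι.isClosedEmbedding.isClosed_range x hxr
    have hz : IsZero (ModuleCat.of ((CohB1.ProjSpace N k).presheaf.stalk x)
        ((pushO ι).presheaf.stalk x)) := ModuleCat.isZero_of_subsingleton _
    haveI := hz.hasProjectiveDimensionLT_zero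
    exact hasProjectiveDimensionLT_of_ge _ 0 _ (Nat.zero_le _)

end Push

end Groth.Agent.Lib.T2H6.CM
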