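import Mathlib
import Groth.Agent.Lib.T2H6DualSubC
import Groth.Agent.Lib.T2H6CMStalk

/-!
# Duality for Cohen–Macaulay projective schemes (Hartshorne III.7.6, (a) ⟹ (c)) (T2H6)

Let `X ⊆ P^N_k` be closed of dimension `n`, with local rings at closed points Cohen–Macaulay of
dimension `n`, and `(ω, t)` a dualizing pair (in the coherent sense).  Then the Yoneda pairings
`Ext^i(F, ω) → H^{n-i}(X, F)^*` are bijective for all coherent `F` and all `i ≤ n`, and
`Ext^i(F, ω) = 0` for `i > n`.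
-/

set_option autoImplicit false
set_option linter.style.haveILetI false
universe u

open CategoryTheory CategoryTheory.Limits Abelian AlgebraicGeometry

namespace Groth.Agent.Lib.T2H6.CM

open Groth.Agent.Lib.T2H6.Kill Groth.Agent.Lib.T2H6.Yon Groth.Agent.Lib.T2H6.ExtDual
  Groth.Agent.Lib.T2H6.LocGlob Groth.Agent.Lib.T2H6.SDual Groth.Agent.Lib.T2H6.DualSub

variable (k : Type u) [Field k] (N n : ℕ) (X : Scheme.{u}) [X.Over (Spec (CommRingCat.of k))]
  (ι : X ⟶ CohB1.ProjSpace N k) [IsClosedImmersion ι]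
  (hι : ι ≫ CohB1.ProjSpace.toSpec N k = X ↘ Spec (CommRingCat.of k))

include hι in
/-- **Hartshorne III.7.6, (a) ⟹ (c)**. -/
theorem cm_duality (hn : topologicalKrullDim ↥X = n)
    (hCM : ∀ x : X, IsClosed ({x} : Set ↥X) →
      LocCoh.IsCohenMacaulayLocalRing (X.presheaf.stalk x) ∧ ringKrullDim (X.presheaf.stalk x) = n)
    [HasExt.{u} X.Modules]
    (ω : X.Modules) (hω : Coh.IsCoh ω) (t : Coh.HH X ω n →ₗ[k] k)
    (hdual : ∀ F : X.Modules, Coh.IsCoh F → ∀ ψ : Coh.HH X F n →ₗ[k] k,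
        ∃! φ : F ⟶ ω, ∀ x : Coh.HH X F n,
          ψ x = t (Sheaf.H.map ((SheafOfModules.toSheaf X.ringCatSheaf).map φ) n x)) :
    (∀ (i j : ℕ) (h : j + i = n) (F : X.Modules), Coh.IsCoh F →
      Function.Bijective (Θ k ω n t F i j h)) ∧
    (∀ (F : X.Modules), Coh.IsCoh F → ∀ i : ℕ, n < i → Subsingleton (Ext F ω i)) := by
  haveI hSH : ModSite.HasSheafHom (O := (CohB1.ProjSpace N k).sheaf) (BB ι) :=
    Groth.Agent.Lib.Helper21.ModTensor3.tR_isLeftAdjoint (CohB1.ProjSpace N k).sheaf (BB ι)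
  haveI := Groth.Agent.Lib.Helper21.ModTensor3.isGrothendieckAbelian (CohB1.ProjSpace N k).sheaf
  haveI : HasInjectiveResolutions (ModSite.Mod (CohB1.ProjSpace N k).sheaf) := inferInstance
  haveI : IsLocallyNoetherian (CohB1.ProjSpace N k) := isLocallyNoetherian_projSpace' N k
  have hnN : n ≤ N := by
    have h1 : topologicalKrullDim ↥X ≤ topologicalKrullDim ↥(CohB1.ProjSpace N k) :=
      ι.isClosedEmbedding.isInducing.topologicalKrullDim_le
    have h2 : topologicalKrullDim ↥(CohB1.ProjSpace N k) = (N : WithBot ℕ∞) :=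
      Groth.Agent.Lib.Helper27ProjDim.main k N
    rw [h2, hn] at h1
    exact_mod_cast h1
  have hO : Coh.IsCoh (Coh.structureModule X) := Groth.Agent.Lib.T2H5.GenIsoF.isCoh_structureModule
  have hB : Coh.IsCoh ((Scheme.Modules.pushforward ι).obj (Coh.structureModule X)) :=
    Groth.Agent.Lib.T2H5.ClosedTransfer.isCoh_pushforward ι _ hO
  have hpd := pdLT_pushO N k ι n hCM
  have hiii : ∀ p : ℕ, n - n ≤ p → p < n →
      IsZero ((ModSite.extSh (O := (CohB1.ProjSpace N k).sheaf)
        ((Scheme.Modules.pushforward ι).obj (Coh.structureModule X)) (N - p)).obj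
          (Twist.twistProjSpace N k (-((N : ℤ) + 1)))) := fun p _ hp =>
    isZero_extSh_of_pdLT N k (Twist.twistProjSpace N k (-((N : ℤ) + 1))) (N - n) _ hB hpd
      (N - p) (by omega)
  have hvan := exists_vanishing_HH_Lm k N ι n n hnN hiii
  have h0 : ∀ G : X.Modules, Coh.IsCoh G →
      Function.Bijective (Canon.dualityMap k X n ω t G) := fun G hG =>
    bijective_dualityMap_of_existsUnique k n X ω t G (hdual G hG)
  have hpres := fun (G : X.Modules) (hG : Coh.IsCoh G) =>
    exists_pres_range k N ι hι ω hω n n hvan G hG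
  have hΘ : ∀ (i j : ℕ) (h : j + i = n) (G : X.Modules), Coh.IsCoh G →
      Function.Bijective (Θ k ω n t G i j h) := fun i j h G hG =>
    Θ_bijective_of_pres_range k ω n t n h0 hpres i j h (by omega) G hG
  refine ⟨hΘ, ?_⟩
  have key : ∀ d : ℕ, ∀ G : X.Modules, Coh.IsCoh G → Subsingleton (Ext G ω (n + 1 + d)) := by
    intro d
    induction d with
    | zero =>
      intro G hG
      obtain ⟨S, hS, rfl, hK, hE, hExt, hHH⟩ := hpres G hG
      have hz : ∀ a : Ext S.X₃ ω (n + 1), a = 0 := by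
        intro a
        obtain ⟨y', rfl⟩ := extδ_surjective k hS ω n (hExt (n + 1) (by omega)) a
        obtain ⟨ψ', hψ'⟩ := exists_extend_of_injective (Canon.HHlin k S.f 0)
          (HHlin_f_injective_zero k S hS) (Θ k ω n t S.X₁ n 0 (zero_add n) y')
        obtain ⟨z, hz⟩ := (hΘ n 0 (zero_add n) S.X₂ hE).2 ψ'
        have hK' : (Ext.mk₀ S.f).comp z (zero_add n) = y' := by
          apply (hΘ n 0 (zero_add n) S.X₁ hK).1
          ext x
          rw [Θ_pre k ω n t S.f n 0 (zero_add n) z x, hz, hψ']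
        have hmem : y' ∈ LinearMap.ker (extδ k hS ω n) := by
          rw [ker_extδ k hS ω n]
          exact ⟨z, hK'⟩
        exact LinearMap.mem_ker.1 hmem
      exact ⟨fun a b => by rw [hz a, hz b]⟩
    | succ d ih =>
      intro G hG
      obtain ⟨S, hS, rfl, hK, hE, hExt, hHH⟩ := hpres G hG
      have hsurj := extδ_surjective k hS ω (n + 1 + d) (hExt _ (by omega))
      haveI := ih S.X₁ hK
      exact hsurj.subsingleton
  intro F hF i hi
  obtain ⟨d, rfl⟩ : ∃ d, i = n + 1 + d := ⟨i - (n + 1), by omega⟩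
  exact key d F hF

include hι in
/-- the linear form of the duality. -/
theorem cm_duality_linearEquiv (hn : topologicalKrullDim ↥X = n)
    (hCM : ∀ x : X, IsClosed ({x} : Set ↥X) →
      LocCoh.IsCohenMacaulayLocalRing (X.presheaf.stalk x) ∧ ringKrullDim (X.presheaf.stalk x) = n)
    [HasExt.{u} X.Modules]
    (ω : X.Modules) (hω : Coh.IsCoh ω) (t : Coh.HH X ω n →ₗ[k] k)
    (hdual : ∀ F : X.Modules, Coh.IsCoh F → ∀ ψ : Coh.HH X F n →ₗ[k] k,
        ∃! φ : F ⟶ ω, ∀ x : Coh.HH X F n,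
          ψ x = t (Sheaf.H.map ((SheafOfModules.toSheaf X.ringCatSheaf).map φ) n x))
    (F : X.Modules) (hF : Coh.IsCoh F) (i : ℕ) (hi : i ≤ n) :
    Nonempty (Abelian.Ext F ω i ≃ₗ[k] Module.Dual k (Coh.HH X F (n - i))) := by
  obtain ⟨hΘ, -⟩ := cm_duality k N n X ι hι hn hCM ω hω t hdual
  exact ⟨LinearEquiv.ofBijective (ΘLin k ω n t F i (n - i) (by omega))
    (hΘ i (n - i) (by omega) F hF)⟩

/-- a vector space is trivial iff its dual is. -/
theorem subsingleton_dual_iff (V : Type*) [AddCommGroup V] [Module k V] :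
    Subsingleton (Module.Dual k V) ↔ Subsingleton V := by
  constructor
  · intro h
    refine ⟨fun a b => ?_⟩
    have hz : ∀ v : V, v = 0 := fun v =>
      (Module.forall_dual_apply_eq_zero_iff k v).1 (fun φ => by
        rw [Subsingleton.elim φ 0]
        rfl)
    rw [hz a, hz b]
  · intro h
    refine ⟨fun φ ψ => ?_⟩
    ext v
    rw [Subsingleton.elim v 0, map_zero, map_zero]

end Groth.Agent.Lib.T2H6.CM
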