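import Mathlib
import Groth.Agent.Lib.T2H6ExtCmpB
import Groth.Agent.S12483
import Groth.Agent.Lib.T2H5Twist
import Groth.Agent.Lib.T2H6ParShF
import Groth.Agent.Lib.Helper2LocFree

/-!
# `Ext^p(F, Y) ≅ H^p(X, Hom(F, Y))` for `F` finite locally free, linearly (T2H6)
-/

set_option autoImplicit false
universe u

open CategoryTheory CategoryTheory.Limits Abelian AlgebraicGeometry

namespace Groth.Agent.Lib.T2H6.ExtCmp

open Groth.Agent.Lib.Helper21 Groth.Agent.Lib.Helper21.ExtShDelta
  Groth.Agent.Lib.Helper21.ExtShLocFree Groth.Agent.Lib.Helper21.ExtLocFree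
  Groth.Agent.Lib.Helper21.ModTensor3 Groth.Agent.Lib.Helper21.ModTensor5
  Groth.Agent.Lib.Helper21.ModTensor7 Groth.Agent.Lib.T2H5.Twist

variable {X : Scheme.{u}} (F : X.Modules) [DCoh.HasSheafHom F]

instance additive_sheafHom : (DCoh.sheafHom F).Additive :=
  (DCoh.sheafHomAdj F).right_adjoint_additive

instance preservesFiniteLimits_sheafHom : PreservesFiniteLimits (DCoh.sheafHom F) := by
  have : PreservesLimitsOfSize.{0, 0} (DCoh.sheafHom F) :=
    (DCoh.sheafHomAdj F).rightAdjoint_preservesLimits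
  exact PreservesLimitsOfSize.preservesFiniteLimits.{0, 0} _

theorem preservesFiniteColimits_sheafHom' (hF : FlatMod.IsFinLocFree F) :
    PreservesFiniteColimits (DCoh.sheafHom F) := by
  have : ModSite.HasSheafHom (O := X.sheaf) F := hasSheafHom X.sheaf F
  have := Groth.Agent.Lib.Helper21.ModTensor3.isGrothendieckAbelian X.sheaf
  have : EnoughInjectives (ModSite.Mod X.sheaf) := inferInstance
  have h0 := preservesFiniteColimits_sheafHom X.sheaf F
    (fun G q => isZero_extSh_of_isFinLocFree F G hF q)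
  have h1 : PreservesFiniteColimits
      (DCoh.sheafHom F : ModSite.Mod X.sheaf ⥤ ModSite.Mod X.sheaf) :=
    @preservesFiniteColimits_of_natIso _ _ _ _ _ _ (Groth.Agent.S12483.sheafHomIso F).symm h0
  exact h1

/-- the braiding `F ⊗ - ≅ - ⊗ F`. -/
noncomputable def tensorBiIso : (DCoh.tensorBi (X := X)).obj F ≅ tr F :=
  (brd X.sheaf).app F

/-- `F ⊗ O ≅ F`. -/
noncomputable def tensorBiUnit : ((DCoh.tensorBi (X := X)).obj F).obj (Coh.structureModule X) ≅ F :=
  (tensorBiIso F).app (Coh.structureModule X) ≪≫ (tLUnitIso X.sheaf).app F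

theorem preservesInjectiveObjects_sheafHom (hF : FlatMod.IsFinLocFree F) :
    (DCoh.sheafHom F).PreservesInjectiveObjects := by
  have hflat : PreservesFiniteLimits (tr F) :=
    (Groth.Agent.Lib.Helper1.StalkTensor.modSite_isFlat_of_isFlat F
      (Groth.Agent.Lib.Helper1.Sky.isFlat_of_isFinLocFree' F hF)).1
  have : PreservesFiniteLimits ((DCoh.tensorBi (X := X)).obj F) :=
    preservesFiniteLimits_of_natIso (tensorBiIso F).symm
  exact Functor.preservesInjectiveObjects_of_adjunction_of_preservesMonomorphisms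
    (DCoh.sheafHomAdj F)

/-- the unit `O → Hom(F, F)`. -/
noncomputable def unitHom : Coh.structureModule X ⟶ (DCoh.sheafHom F).obj F :=
  (DCoh.sheafHomAdj F).homEquiv _ _ (tensorBiUnit F).hom

theorem unitHom_comp_bijective (Y : X.Modules) :
    Function.Bijective (fun f : F ⟶ Y => unitHom F ≫ (DCoh.sheafHom F).map f) := by
  have h : (fun f : F ⟶ Y => unitHom F ≫ (DCoh.sheafHom F).map f) =
      (fun g => (DCoh.sheafHomAdj F).homEquiv _ _ g) ∘ (fun f => (tensorBiUnit F).hom ≫ f) := by
    funext f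
    simp only [unitHom, Function.comp_apply, Adjunction.homEquiv_naturality_right]
  rw [h]
  refine ((DCoh.sheafHomAdj F).homEquiv _ _).bijective.comp ?_
  exact (tensorBiUnit F).symm.homFromEquiv.bijective

section Linear

variable (k : Type u) [Field k] [X.Over (Spec (CommRingCat.of k))]

omit [DCoh.HasSheafHom F] in
theorem tensorBi_obj_map_smul (E : X.Modules) (c : k) :
    ((DCoh.tensorBi (X := X)).obj F).map (c • 𝟙 E) =
      c • 𝟙 (((DCoh.tensorBi (X := X)).obj F).obj E) := by
  have hnat := (tensorBiIso F).hom.naturality (c • 𝟙 E)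
  rw [Groth.Agent.Lib.T2H6.ParShF.tr_map_smul k F E c, Linear.comp_smul, Category.comp_id] at hnat
  exact (cancel_mono ((tensorBiIso F).hom.app E)).mp
    (hnat.trans (by rw [Linear.smul_comp, Category.id_comp]))

instance linear_sheafHom : (DCoh.sheafHom F).Linear k := by
  refine (Functor.linear_iff k _).mpr fun Y c => ?_
  apply ((DCoh.sheafHomAdj F).homEquiv _ _).symm.injective
  rw [Adjunction.homEquiv_counit, Adjunction.homEquiv_counit, tensorBi_obj_map_smul,
    Linear.smul_comp, Category.id_comp]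
  have := (DCoh.sheafHomAdj F).counit.naturality (c • 𝟙 Y)
  simp only [Functor.comp_map, Functor.id_map] at this
  rw [this, Linear.comp_smul]
  congr 1

variable [HasExt.{u} X.Modules]

/-- **`Ext^p(F, Y) ≅ Ext^p(O, Hom(F, Y))`** for `F` finite locally free. -/
theorem nonempty_ext_linearEquiv_ext_sheafHom (hF : FlatMod.IsFinLocFree F) (Y : X.Modules)
    (p : ℕ) :
    Nonempty (Ext F Y p ≃ₗ[k] Ext (Coh.structureModule X) ((DCoh.sheafHom F).obj Y) p) := by
  have := preservesFiniteColimits_sheafHom' F hF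
  have := preservesInjectiveObjects_sheafHom F hF
  have := enoughInjectives_modules X
  have hbij : Function.Bijective (extCmp (DCoh.sheafHom F) (unitHom F) Y p) :=
    extCmp_bijective (DCoh.sheafHom F) (unitHom F) (unitHom_comp_bijective F)
      (fun I hI q => by
        have : Injective ((DCoh.sheafHom F).obj I) :=
          Functor.PreservesInjectiveObjects.injective_obj hI
        exact ⟨fun x y => (Ext.eq_zero_of_injective x).trans (Ext.eq_zero_of_injective y).symm⟩)
      Y p
  exact ⟨LinearEquiv.ofBijective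
    { toFun := extCmp (DCoh.sheafHom F) (unitHom F) Y p
      map_add' := map_add _
      map_smul' := extCmp_smul (DCoh.sheafHom F) k (unitHom F) Y p } hbij⟩

/-- **`Ext^p(F, Y) ≅ H^p(X, Hom(F, Y))`** for `F` finite locally free, linearly. -/
theorem nonempty_ext_linearEquiv_HH_sheafHom (hF : FlatMod.IsFinLocFree F) (Y : X.Modules)
    (p : ℕ) :
    Nonempty (Ext F Y p ≃ₗ[k] Coh.HH X ((DCoh.sheafHom F).obj Y) p) := by
  obtain ⟨e⟩ := nonempty_ext_linearEquiv_ext_sheafHom F k hF Y p
  exact ⟨e.trans (extToHHLin k ((DCoh.sheafHom F).obj Y) p)⟩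

end Linear

end Groth.Agent.Lib.T2H6.ExtCmp
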