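import Mathlib
import Groth.Agent.Lib.T2H6CMDual
import Groth.Agent.Lib.T2H6ExtCmpC
import Groth.Agent.Lib.Helper3EquiDim
import Groth.Agent.Lib.Helper4VarDim5
import Groth.Agent.Lib.T2H4HZshLF
import Groth.Agent.S9705

/-!
# Duality for locally free sheaves on Cohen–Macaulay projective schemes (Hartshorne III.7.7) (T2H6)
-/

set_option autoImplicit false
set_option linter.style.haveILetI false
universe u

open CategoryTheory CategoryTheory.Limits Abelian AlgebraicGeometry

namespace Groth.Agent.Lib.T2H6.CM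

open Groth.Agent.Lib.T2H6.Yon Groth.Agent.Lib.T2H6.SDual

variable (k : Type u) [Field k] (N n : ℕ) (X : Scheme.{u}) [X.Over (Spec (CommRingCat.of k))]
  (ι : X ⟶ CohB1.ProjSpace N k) [IsClosedImmersion ι]
  (hι : ι ≫ CohB1.ProjSpace.toSpec N k = X ↘ Spec (CommRingCat.of k))

include hι in
theorem locallyOfFiniteType_of_closed : LocallyOfFiniteType (X ↘ Spec (CommRingCat.of k)) := by
  haveI hP : IsProper (CohB1.ProjSpace.toSpec N k) :=
    Groth.Agent.S9705.isProper_projSpace_toSpec N k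
  rw [← hι]
  infer_instance

attribute [local instance] Groth.Agent.Lib.Helper4.VarDim.sectionsAlgebra Curv2.resAlgebra in
include hι in
/-- on an equidimensional closed subscheme of `P^N_k` of dimension `n`, the local rings at closed
points have dimension `n`. -/
theorem ringKrullDim_stalk_of_equidim
    (heq : ∀ Z : Set ↥X, Z ∈ irreducibleComponents ↥X →
      topologicalKrullDim ↥Z = (n : WithBot ℕ∞))
    (x : X) (hx : IsClosed ({x} : Set ↥X)) :
    ringKrullDim (X.presheaf.stalk x) = (n : WithBot ℕ∞) := by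
  haveI := locallyOfFiniteType_of_closed k N X ι hι
  have h1 := (Groth.Agent.Lib.Helper3.EquiDim.forall_dim_irreducibleComponents_eq_iff k X n).1 heq x
  rw [← h1]
  exact (Groth.Agent.Lib.Helper4.VarDim.localDim_eq_of_trdeg_eq_zero k X x
    (Groth.Agent.Lib.Helper4.VarDim.trdeg_eq_zero_of_isClosed k X x hx)).symm

include hι in
/-- **Hartshorne III.7.7** (without the identification `ℋom(F, ω) = F^∨ ⊗ ω`). -/
theorem cm_duality_locFree (hn : topologicalKrullDim ↥X = n)
    (hCM : ∀ x : X, IsClosed ({x} : Set ↥X) →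
      LocCoh.IsCohenMacaulayLocalRing (X.presheaf.stalk x) ∧ ringKrullDim (X.presheaf.stalk x) = n)
    (ω : X.Modules) (hω : Coh.IsCoh ω) (t : Coh.HH X ω n →ₗ[k] k)
    (hdual : ∀ F : X.Modules, Coh.IsCoh F → ∀ ψ : Coh.HH X F n →ₗ[k] k,
        ∃! φ : F ⟶ ω, ∀ x : Coh.HH X F n,
          ψ x = t (Sheaf.H.map ((SheafOfModules.toSheaf X.ringCatSheaf).map φ) n x))
    (F : X.Modules) (hF : FlatMod.IsFinLocFree F) [DCoh.HasSheafHom F] (i : ℕ) (hi : i ≤ n) :
    Nonempty (Module.Dual k (Coh.HH X F i) ≃ₗ[k]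
      Coh.HH X ((DCoh.sheafHom F).obj ω) (n - i)) := by
  haveI := Groth.Agent.Lib.Helper21.ModTensor3.isGrothendieckAbelian X.sheaf
  haveI : HasExt.{u} X.Modules := (inferInstance : HasExt.{u} (ModSite.Mod X.sheaf))
  have hFc : Coh.IsCoh F := Groth.Agent.Lib.T2H4.HZshLF.isCoh_of_isFinLocFree F hF
  obtain ⟨hΘ, -⟩ := cm_duality k N n X ι hι hn hCM ω hω t hdual
  have h : i + (n - i) = n := by omega
  let e₁ : Ext F ω (n - i) ≃ₗ[k] Module.Dual k (Coh.HH X F i) :=
    LinearEquiv.ofBijective (ΘLin k ω n t F (n - i) i h) (hΘ (n - i) i h F hFc)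
  obtain ⟨e₂⟩ := Groth.Agent.Lib.T2H6.ExtCmp.nonempty_ext_linearEquiv_HH_sheafHom F k hF ω (n - i)
  exact ⟨e₁.symm.trans e₂⟩

end Groth.Agent.Lib.T2H6.CM
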