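import Mathlib
import Groth.Agent.Lib.T2H6CMSyz
import Groth.Agent.Lib.T2H4StalkTensorMod
import Groth.Agent.Lib.Helper23TensorMap
import Groth.Agent.Lib.Helper23UnitStalk
import Groth.Agent.Lib.T2H5Dev2
import Groth.Agent.Lib.T2H6CurveFitting
import Groth.Agent.Lib.T2H4InvLocus

/-!
# Stalk computations for the converse Cohen–Macaulay criterion (T2H6)

* `stalkLin_add`, `stalkLin_sum`: additivity of the stalk maps.
* `bijective_stalkLin_mulHom`: for `σ : A ⟶ O_X` bijective on the stalks at `x`, the multiplication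
  `A ⊗ M ⟶ M`, `a ⊗ e ↦ σ(a) • e` is bijective on the stalks at `x`.
* `exists_bijective_stalkLin_of_epi_sigma`: given an epimorphism `∐_b A ⟶ O_X` with `A` invertible
  and a point `x`, one of the components is bijective on the stalks at `x`.
-/

set_option autoImplicit false
set_option linter.style.haveILetI false
universe u

open CategoryTheory CategoryTheory.Limits AlgebraicGeometry TensorProduct

namespace Groth.Agent.Lib.T2H6.CMConv

open Groth.Agent.Lib.Helper4.NormDelta Groth.Agent.Lib.Helper23.StalkLin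
  Groth.Agent.Lib.T2H5.Dev2 Groth.Agent.Lib.T2H6.CurveFitting
  Groth.Agent.Lib.Helper23.UnitStalk Groth.Agent.Lib.Helper23.GenLocus

section Stalk

variable {X : Scheme.{u}}

theorem stalkLin_add {F G : X.Modules} (φ ψ : F ⟶ G) (x : X) :
    stalkLin (φ + ψ) x = stalkLin φ x + stalkLin ψ x := by
  ext y
  obtain ⟨V, hxV, t, rfl⟩ := F.presheaf.exists_germ_eq y
  rw [LinearMap.add_apply, stalkLin_germ, stalkLin_germ, stalkLin_germ, ← map_add]
  rfl

/-- the stalk map as an additive map. -/
noncomputable def stalkLinHom (F G : X.Modules) (x : X) :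
    (F ⟶ G) →+ (F.presheaf.stalk x →ₗ[X.presheaf.stalk x] G.presheaf.stalk x) where
  toFun φ := stalkLin φ x
  map_zero' := stalkLin_zero F G x
  map_add' φ ψ := stalkLin_add φ ψ x

theorem stalkLin_sum {F G : X.Modules} {ι : Type*} (s : Finset ι) (φ : ι → (F ⟶ G)) (x : X) :
    stalkLin (∑ j ∈ s, φ j) x = ∑ j ∈ s, stalkLin (φ j) x :=
  map_sum (stalkLinHom F G x) φ s

end Stalk

section Mul

open Groth.Agent.Lib.Helper23.TensorMap Groth.Agent.Lib.T2H4.StalkTensorMod
  Groth.Agent.Lib.Helper1.StalkTensor Groth.Agent.Lib.Helper2.QCoh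

variable {X : Scheme.{u}}

/-- the multiplication `A ⊗ M ⟶ M` attached to `σ : A ⟶ O_X`, on stalks. -/
theorem stalkLin_mulHom_τ {A : X.Modules} (σ : A ⟶ Coh.structureModule X) (M : X.Modules) (x : X)
    (a : A.presheaf.stalk x) (e : M.presheaf.stalk x) :
    stalkLin (mulHom σ M) x (τ A M x (a ⊗ₜ e)) =
      (unitStalkEquiv x).symm (stalkLin σ x a) • e := by
  obtain ⟨U, hU, a', e', rfl, rfl⟩ := exists_rep₂ (P := toPM A) (Q := toPM M) a e
  change stalkLin (mulHom σ M) x
      (τ A M x ((A.presheaf.germ U x hU a') ⊗ₜ (M.presheaf.germ U x hU e'))) =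
    (unitStalkEquiv x).symm (stalkLin σ x (A.presheaf.germ U x hU a')) •
      (M.presheaf.germ U x hU e')
  rw [τ_germ, stalkLin_germ, stalkLin_germ, mulHom_tm, germ_smul]
  congr 1
  rw [LinearEquiv.eq_symm_apply]
  have h := toUnitStalk_germ x U hU (ofS U (Scheme.Modules.Hom.app σ U a'))
  rw [toS_ofS] at h
  exact h

/-- if `σ : A ⟶ O_X` is bijective on the stalks at `x`, so is `A ⊗ M ⟶ M`. -/
theorem bijective_stalkLin_mulHom {A : X.Modules} (σ : A ⟶ Coh.structureModule X) (M : X.Modules)
    (x : X) (hσ : Function.Bijective (stalkLin σ x)) :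
    Function.Bijective (stalkLin (mulHom σ M) x) := by
  let ε : A.presheaf.stalk x ≃ₗ[X.presheaf.stalk x] X.presheaf.stalk x :=
    (LinearEquiv.ofBijective (stalkLin σ x) hσ).trans (unitStalkEquiv x).symm
  let μ : (A.presheaf.stalk x) ⊗[X.presheaf.stalk x] (M.presheaf.stalk x) ≃ₗ[X.presheaf.stalk x]
      M.presheaf.stalk x :=
    (TensorProduct.congr ε (LinearEquiv.refl _ _)).trans (TensorProduct.lid _ _)
  have h : (stalkLin (mulHom σ M) x) ∘ₗ (τ A M x).toLinearMap = μ.toLinearMap := by
    apply TensorProduct.ext'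
    intro a e
    rw [LinearMap.comp_apply, LinearEquiv.coe_coe, stalkLin_mulHom_τ]
    rfl
  have h2 : stalkLin (mulHom σ M) x = μ.toLinearMap ∘ₗ (τ A M x).symm.toLinearMap := by
    rw [← h, LinearMap.comp_assoc]
    ext y
    simp
  rw [h2]
  exact μ.bijective.comp (τ A M x).symm.bijective

end Mul

section Select

/-- local algebra: among finitely many maps between free modules of rank one over a local ring
whose ranges span the target, one is bijective. -/
theorem exists_bijective_of_iSup_range_eq_top {R : Type*} [CommRing R] [IsLocalRing R]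
    {P Q : Type*} [AddCommGroup P] [Module R P] [AddCommGroup Q] [Module R Q]
    (cP : P) (hP : Function.Bijective (fun r : R => r • cP))
    (cQ : Q) (hQ : Function.Bijective (fun r : R => r • cQ))
    {ι : Type*} (f : ι → P →ₗ[R] Q) (h : ⨆ j, LinearMap.range (f j) = ⊤) :
    ∃ j, Function.Bijective (f j) := by
  let εP : R ≃ₗ[R] P := LinearEquiv.ofBijective (LinearMap.toSpanSingleton R P cP) hP
  let εQ : R ≃ₗ[R] Q := LinearEquiv.ofBijective (LinearMap.toSpanSingleton R Q cQ) hQ
  have hεP : ∀ r : R, εP r = r • cP := fun r => rfl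
  have hεQ : ∀ r : R, εQ r = r • cQ := fun r => rfl
  let a : ι → R := fun j => εQ.symm (f j cP)
  have ha : ∀ j, f j cP = a j • cQ := fun j => by
    rw [← hεQ]; exact (εQ.apply_symm_apply _).symm
  have hf : ∀ j (r : R), f j (εP r) = εQ (r * a j) := by
    intro j r
    rw [hεP, map_smul, ha, hεQ, mul_smul]
  by_contra hcon
  have hnu : ∀ j, a j ∈ IsLocalRing.maximalIdeal R := by
    intro j
    rw [IsLocalRing.mem_maximalIdeal, mem_nonunits_iff]
    intro hu
    apply hcon
    refine ⟨j, ?_⟩
    obtain ⟨u, hu⟩ := hu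
    have hfj : (f j : P → Q) = εQ ∘ (fun r : R => r * a j) ∘ εP.symm := by
      funext p
      simp only [Function.comp_apply]
      rw [← hf, εP.apply_symm_apply]
    rw [hfj]
    refine εQ.bijective.comp (Function.Bijective.comp ?_ εP.symm.bijective)
    rw [← hu]
    exact (Units.mulRight_bijective u)
  have hle : (⨆ j, LinearMap.range (f j)) ≤
      Submodule.map εQ.toLinearMap (IsLocalRing.maximalIdeal R) := by
    refine iSup_le (fun j => ?_)
    rintro _ ⟨p, rfl⟩
    obtain ⟨r, rfl⟩ := εP.surjective p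
    rw [hf]
    exact ⟨r * a j, Ideal.mul_mem_left _ _ (hnu j), rfl⟩
  rw [h] at hle
  obtain ⟨s, hs, hs1⟩ := hle (Submodule.mem_top : cQ ∈ ⊤)
  have h1 : s = 1 := by
    apply εQ.injective
    rw [LinearEquiv.coe_coe] at hs1
    rw [hs1, hεQ, one_smul]
  rw [h1] at hs
  exact (Ideal.ne_top_iff_one _).1 (IsLocalRing.maximalIdeal.isMaximal R).ne_top hs

variable {X : Scheme.{u}}

open Groth.Agent.Lib.T2H4.InvLocus in
/-- the stalks of an invertible module are free of rank one. -/
theorem exists_free_stalk_of_isInvertible (A : X.Modules) (hA : PicF.IsInvertible A) (x : X) :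
    ∃ c : A.presheaf.stalk x, Function.Bijective (fun r : X.presheaf.stalk x => r • c) := by
  obtain ⟨U, hx, ⟨e⟩⟩ := hA x
  exact free_of_free_restrict U A ⟨x, hx⟩
    (exists_free_of_iso (Y := (↑U : Scheme.{u})) _ e ⟨x, hx⟩)

/-- given an epimorphism `∐_b A ⟶ O_X` with `A` invertible and a point `x`, one of the components
is bijective on the stalks at `x`. -/
theorem exists_bijective_stalkLin_of_epi_sigma (A : X.Modules) (hA : PicF.IsInvertible A) (b : ℕ)
    (φ : (∐ fun _ : Fin b => A) ⟶ Coh.structureModule X) [Epi φ] (x : X) :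
    ∃ j : Fin b, Function.Bijective (stalkLin (Sigma.ι (fun _ : Fin b => A) j ≫ φ) x) := by
  obtain ⟨cP, hP⟩ := exists_free_stalk_of_isInvertible A hA x
  refine exists_bijective_of_iSup_range_eq_top cP hP (one x)
    ⟨toUnitStalk_injective x, toUnitStalk_surjective x⟩ _ ?_
  rw [eq_top_iff]
  intro y _
  obtain ⟨z, rfl⟩ := stalkLin_surjective φ x y
  let π : ∀ j : Fin b, (∐ fun _ : Fin b => A) ⟶ A := fun j =>
    Sigma.desc (fun i => if i = j then 𝟙 A else 0)
  have htot : ∑ j : Fin b, π j ≫ Sigma.ι (fun _ : Fin b => A) j = 𝟙 _ := by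
    apply Sigma.hom_ext
    intro i
    rw [Preadditive.comp_sum, Category.comp_id]
    rw [Finset.sum_eq_single i]
    · rw [← Category.assoc, Sigma.ι_desc, if_pos rfl, Category.id_comp]
    · intro j _ hji
      rw [← Category.assoc, Sigma.ι_desc, if_neg (Ne.symm hji), zero_comp]
    · intro hi
      exact absurd (Finset.mem_univ i) hi
  have hφ : φ = ∑ j : Fin b, π j ≫ (Sigma.ι (fun _ : Fin b => A) j ≫ φ) := by
    conv_lhs => rw [← Category.id_comp φ, ← htot, Preadditive.sum_comp]
    simp only [Category.assoc]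
  have hz : stalkLin φ x z = ∑ j : Fin b,
      stalkLin (Sigma.ι (fun _ : Fin b => A) j ≫ φ) x (stalkLin (π j) x z) := by
    conv_lhs => rw [hφ, stalkLin_sum, LinearMap.sum_apply]
    refine Finset.sum_congr rfl (fun j _ => ?_)
    rw [stalkLin_comp]
  rw [hz]
  refine Submodule.sum_mem _ (fun j _ => ?_)
  exact Submodule.mem_iSup_of_mem j ⟨_, rfl⟩

end Select

end Groth.Agent.Lib.T2H6.CMConv
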