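import Mathlib
import Groth.Agent.Lib.T2H6CMConvA
import Groth.Agent.Lib.T2H6LocGlobE
import Groth.Agent.Lib.T2H6CMStalk

/-!
# A quotient of finite locally free modules on `P^N_k` with `ℰxt^1(-, ω) = 0` is locally free (T2H6)

* `isFinLocFree_of_isZero_EE_one`: for `0 → V → L → M → 0` on `P^N_k` with `V`, `L` coherent finite
  locally free, `ℰxt^1(M, ω_P) = 0` implies that `M` is finite locally free.
* `pdLT_of_isZero_EE`: **for `F` coherent on `P^N_k`, if `ℰxt^j(F, ω_P) = 0` for all `j > e` then the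
  stalks of `F` at closed points have projective dimension `≤ e`**.
-/

set_option autoImplicit false
set_option linter.style.haveILetI false
universe u

open CategoryTheory CategoryTheory.Limits Abelian AlgebraicGeometry

namespace Groth.Agent.Lib.T2H6.CMConv

open Groth.Agent.Lib.Helper4.NormDelta Groth.Agent.Lib.Helper23.StalkLin
  Groth.Agent.Lib.T2H5.Dev2 Groth.Agent.Lib.T2H6.CM Groth.Agent.Lib.T2H6.LocGlob
  Groth.Agent.Lib.Helper21.ExtShDelta Groth.Agent.Lib.Helper21.CoDeltaLib
  Groth.Agent.Lib.T2H5.Twist Groth.Agent.Lib.T2H6.SDual Groth.Agent.Lib.T2H6.ExtDual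
  Groth.Agent.Lib.Helper23.TensorMap Groth.Agent.Lib.T2H5.PnTop

attribute [local instance] Groth.Agent.Lib.Helper21.ExtShDelta.hasSheafHom

section Pn

variable (N : ℕ) (k : Type u) [Field k]
  [HasInjectiveResolutions (ModSite.Mod (CohB1.ProjSpace N k).sheaf)]

omit [HasInjectiveResolutions (ModSite.Mod (CohB1.ProjSpace N k).sheaf)] in
/-- a lift through an epimorphism of a short exact sequence when `Ext^1` vanishes. -/
theorem exists_lift_of_subsingleton_ext {C : Type*} [Category C] [Abelian C] [HasExt C]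
    (S : ShortComplex C) (hS : S.ShortExact) (T : C) (h : Subsingleton (Ext T S.X₁ 1))
    (φ : T ⟶ S.X₃) : ∃ ψ : T ⟶ S.X₂, ψ ≫ S.g = φ := by
  obtain ⟨x₂, hx₂⟩ := Ext.covariant_sequence_exact₃ T hS (Ext.mk₀ φ) (rfl : 0 + 1 = 1)
    (Subsingleton.elim _ _)
  obtain ⟨ψ, rfl⟩ := (Ext.mk₀_bijective T S.X₂).2 x₂
  refine ⟨ψ, ?_⟩
  rw [Ext.mk₀_comp_mk₀] at hx₂
  exact (Ext.mk₀_bijective T S.X₃).1 hx₂

theorem isFinLocFree_of_isZero_EE_one
    (S : ShortComplex (CohB1.ProjSpace N k).Modules) (hS : S.ShortExact)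
    (hV : FlatMod.IsFinLocFree S.X₁) (hVc : Coh.IsCoh S.X₁)
    (hL : FlatMod.IsFinLocFree S.X₂) (hLc : Coh.IsCoh S.X₂) (hMc : Coh.IsCoh S.X₃)
    (hz : IsZero (EE 1 S.X₃ (Twist.twistProjSpace N k (-((N : ℤ) + 1))))) :
    FlatMod.IsFinLocFree S.X₃ := by
  haveI := Groth.Agent.Lib.Helper21.ModTensor3.isGrothendieckAbelian (CohB1.ProjSpace N k).sheaf
  haveI : HasExt.{u} (CohB1.ProjSpace N k).Modules :=
    (inferInstance : HasExt.{u} (ModSite.Mod (CohB1.ProjSpace N k).sheaf))
  haveI : IsLocallyNoetherian (CohB1.ProjSpace N k) := isLocallyNoetherian_projSpace' N k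
  haveI : CompactSpace (CohB1.ProjSpace N k) := Groth.Agent.Lib.T2H5.GlobGenPn.compactSpace N k
  -- Step 1
  have hz1 : IsZero (EE 1 S.X₃ S.X₁) :=
    isZero_EE_locFree_of_invertible 1 S.X₃ (Twist.twistProjSpace N k (-((N : ℤ) + 1)))
      (Twist.twistProjSpace N k ((N : ℤ) + 1)) S.X₁
      (Groth.Agent.Lib.T2H5.ClosedTransfer.twistInvIso' N k ((N : ℤ) + 1))
      (Groth.Agent.Helper18PBUnit.isFinLocFree_of_isInvertible (isInvertible_twist N k _)) hV hz
  -- Step 2
  obtain ⟨m₁, hm₁⟩ := good_twist k N (𝟙 (CohB1.ProjSpace N k)) (Category.id_comp _) S.X₁ hVc 1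
    S.X₃ hMc
  have hO : Coh.IsCoh (Coh.structureModule (CohB1.ProjSpace N k)) :=
    Groth.Agent.Lib.T2H5.GenIsoF.isCoh_structureModule
  obtain ⟨m, b, φ, hm, hφ⟩ := exists_epi_twists_ge N k _ hO m₁
  have hsub : Subsingleton (Ext (CohB1.tensorMod S.X₃ (Twist.twistProjSpace N k (-m))) S.X₁ 1) := by
    rw [chain_aux k S.X₃ S.X₁ (Twist.twistProjSpace N k m) (Twist.twistProjSpace N k (-m))
        (Lm k N (𝟙 (CohB1.ProjSpace N k)) m) (isInvertible_twist N k m)
        (Groth.Agent.Lib.T2H5.ClosedTransfer.twistInvIso' N k m)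
        (Groth.Agent.Lib.T2H5.ClosedTransfer.twistInvIso N k m)
        ((Scheme.Modules.pullbackId (CohB1.ProjSpace N k)).app (Twist.twistProjSpace N k m))
        1 (hm₁ m hm)]
    exact Groth.Agent.Lib.T2H5.Chevalley.subsingleton_HH_of_isZero ((tw N k m).map_isZero hz1) 0
  have hsub' : Subsingleton (Ext (CohB1.tensorMod (Twist.twistProjSpace N k (-m)) S.X₃) S.X₁ 1) :=
    subsingleton_ext_of_iso_left
      (Groth.Agent.Lib.Helper21.ModTensor5.brdApp (CohB1.ProjSpace N k).sheaf S.X₃
        (Twist.twistProjSpace N k (-m))) S.X₁ 1 hsub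
  -- Step 3
  have key : ∀ T : (CohB1.ProjSpace N k).Modules, T = Twist.twistProjSpace N k (-m) →
      ∀ φ : (∐ fun _ : Fin b => T) ⟶ Coh.structureModule (CohB1.ProjSpace N k), Epi φ →
        PdLT S.X₃ 1 := by
    intro T hT φ hφ
    subst hT
    intro x hx
    obtain ⟨j, hj⟩ := exists_bijective_stalkLin_of_epi_sigma (Twist.twistProjSpace N k (-m))
      (isInvertible_twist N k (-m)) b φ x
    obtain ⟨ψ, hψ⟩ := exists_lift_of_subsingleton_ext S hS _ hsub'
      (mulHom (Sigma.ι (fun _ : Fin b => Twist.twistProjSpace N k (-m)) j ≫ φ) S.X₃)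
    have hbij := bijective_stalkLin_mulHom
      (Sigma.ι (fun _ : Fin b => Twist.twistProjSpace N k (-m)) j ≫ φ) S.X₃ x hj
    let εφ := LinearEquiv.ofBijective _ hbij
    have hsplit : (stalkLin S.g x) ∘ₗ ((stalkLin ψ x) ∘ₗ εφ.symm.toLinearMap) = LinearMap.id := by
      ext y
      rw [LinearMap.comp_apply, LinearMap.comp_apply, ← stalkLin_comp, hψ]
      exact εφ.apply_symm_apply y
    haveI : Module.Projective ((CohB1.ProjSpace N k).presheaf.stalk x)
        (S.X₂.presheaf.stalk x) :=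
      (IsProjective.iff_projective _).2 (projective_stalk_of_isFinLocFree S.X₂ hLc hL x)
    have hproj : Module.Projective ((CohB1.ProjSpace N k).presheaf.stalk x)
        (S.X₃.presheaf.stalk x) :=
      Module.Projective.of_split _ _ hsplit
    haveI : Projective (ModuleCat.of ((CohB1.ProjSpace N k).presheaf.stalk x)
        (S.X₃.presheaf.stalk x)) := (IsProjective.iff_projective _).1 hproj
    exact projective_iff_hasProjectiveDimensionLT_one.1 inferInstance
  exact isFinLocFree_of_pdLT_one S.X₃ hMc (key _ (twist_eq N k (-m)).symm φ hφ)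

omit [HasInjectiveResolutions (ModSite.Mod (CohB1.ProjSpace N k).sheaf)] in
/-- over a regular local ring of dimension `≤ N` every module has projective dimension `≤ N`. -/
theorem hasProjectiveDimensionLT_of_regular_le (A : Type u) [CommRing A] [IsRegularLocalRing A]
    (N : ℕ) (hA : ringKrullDim A ≤ (N : WithBot ℕ∞)) (M : Type u) [AddCommGroup M] [Module A M] :
    HasProjectiveDimensionLT (ModuleCat.of A M) (N + 1) := by
  haveI : IsLocalRing A := inferInstance
  obtain ⟨d, hd⟩ : ∃ d : ℕ, ringKrullDim A = (d : WithBot ℕ∞) := by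
    have h1 : ringKrullDim A ≠ ⊥ := ringKrullDim_ne_bot
    have h2 : ringKrullDim A ≠ ⊤ := by
      intro h
      rw [h, top_le_iff] at hA
      have hA' : ((N : ℕ∞) : WithBot ℕ∞) = ((⊤ : ℕ∞) : WithBot ℕ∞) := hA
      rw [WithBot.coe_inj] at hA'
      exact ENat.natCast_ne_top N hA'
    generalize ringKrullDim A = D at h1 h2
    induction D with
    | bot => exact absurd rfl h1
    | coe D =>
      induction D with
      | top => exact absurd rfl h2
      | coe D => exact ⟨D, rfl⟩
  have hdN : d ≤ N := by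
    rw [hd] at hA
    exact_mod_cast hA
  have hpdlt : HasProjectiveDimensionLT (ModuleCat.of A M) (d + 1) :=
    Groth.Agent.S0563.result A d hd M
  exact hasProjectiveDimensionLT_of_ge _ (d + 1) _ (by omega)

omit [HasInjectiveResolutions (ModSite.Mod (CohB1.ProjSpace N k).sheaf)] in
/-- the stalks of any module on `P^N_k` have projective dimension `≤ N`. -/
theorem pdLT_projSpace (F : (CohB1.ProjSpace N k).Modules) : PdLT F (N + 1) := by
  intro x _
  haveI := isRegularLocalRing_stalk_projSpace N k x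
  have hA : ringKrullDim ((CohB1.ProjSpace N k).presheaf.stalk x) ≤ (N : WithBot ℕ∞) := by
    have h := ringKrullDim_stalk_le (CohB1.ProjSpace N k) x
    have h2 : topologicalKrullDim ↥(CohB1.ProjSpace N k) = (N : WithBot ℕ∞) :=
      Groth.Agent.Lib.Helper27ProjDim.main k N
    rwa [h2] at h
  exact hasProjectiveDimensionLT_of_regular_le _ N hA _

/-- one step of the descent. -/
theorem pdLT_step : ∀ (m : ℕ) (F : (CohB1.ProjSpace N k).Modules), Coh.IsCoh F →
    PdLT F (m + 2) → IsZero (EE (m + 1) F (Twist.twistProjSpace N k (-((N : ℤ) + 1)))) →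
      PdLT F (m + 1) := by
  haveI : IsLocallyNoetherian (CohB1.ProjSpace N k) := isLocallyNoetherian_projSpace' N k
  haveI : CompactSpace (CohB1.ProjSpace N k) := Groth.Agent.Lib.T2H5.GlobGenPn.compactSpace N k
  intro m
  induction m with
  | zero =>
    intro F hF hpd hz
    obtain ⟨S, hS, rfl, hK, hEc, hE⟩ := exists_pres_locFree_Pn N k F hF
    have hpdK : PdLT S.X₁ 1 := pdLT_kernel S hS hEc hE 0 hpd
    have hV : FlatMod.IsFinLocFree S.X₁ := isFinLocFree_of_pdLT_one S.X₁ hK hpdK
    have hM : FlatMod.IsFinLocFree S.X₃ :=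
      isFinLocFree_of_isZero_EE_one N k S hS hV hK hE hEc hF hz
    intro x _
    exact projective_iff_hasProjectiveDimensionLT_one.1
      (projective_stalk_of_isFinLocFree S.X₃ hF hM x)
  | succ m ih =>
    intro F hF hpd hz
    obtain ⟨S, hS, rfl, hK, hEc, hE⟩ := exists_pres_locFree_Pn N k F hF
    have hpdK : PdLT S.X₁ (m + 2) := pdLT_kernel S hS hEc hE (m + 1) hpd
    have h1 : IsZero ((extShDelta (O := (CohB1.ProjSpace N k).sheaf)
        (Twist.twistProjSpace N k (-((N : ℤ) + 1)))).E (m + 1) S.X₂) :=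
      Groth.Agent.Lib.Helper21.ExtShLocFree.isZero_extSh_of_isFinLocFree S.X₂ _ hE m
    have h2 : IsZero ((extShDelta (O := (CohB1.ProjSpace N k).sheaf)
        (Twist.twistProjSpace N k (-((N : ℤ) + 1)))).E (m + 1 + 1) S.X₂) :=
      Groth.Agent.Lib.Helper21.ExtShLocFree.isZero_extSh_of_isFinLocFree S.X₂ _ hE (m + 1)
    have hiso := CoDelta.isIso_δ (extShDelta (O := (CohB1.ProjSpace N k).sheaf)
      (Twist.twistProjSpace N k (-((N : ℤ) + 1)))) S hS (m + 1) h1 h2
    have hzK : IsZero (EE (m + 1) S.X₁ (Twist.twistProjSpace N k (-((N : ℤ) + 1)))) :=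
      IsZero.of_iso hz (@asIso _ _ _ _ _ hiso)
    have hpdK' : PdLT S.X₁ (m + 1) := ih S.X₁ hK hpdK hzK
    intro x hx
    haveI : Projective (stalkSC S hS x).X₂ := projective_stalk_of_isFinLocFree S.X₂ hEc hE x
    have h2' : HasProjectiveDimensionLT (stalkSC S hS x).X₂ (m + 1 + 1) :=
      hasProjectiveDimensionLT_of_ge _ 1 (m + 1 + 1) (by omega)
    have h1' : HasProjectiveDimensionLT (stalkSC S hS x).X₁ (m + 1) := hpdK' x hx
    exact (stalkSC_shortExact S hS x).hasProjectiveDimensionLT_X₃ (m + 1) h1' h2'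

/-- **Key lemma**: for `F` coherent on `P^N_k`, if `ℰxt^j(F, ω_P) = 0` for all `j > e` then the
stalks of `F` at closed points have projective dimension `≤ e`. -/
theorem pdLT_of_isZero_EE (F : (CohB1.ProjSpace N k).Modules) (hF : Coh.IsCoh F) (e : ℕ)
    (h : ∀ j : ℕ, e < j → IsZero (EE j F (Twist.twistProjSpace N k (-((N : ℤ) + 1))))) :
    PdLT F (e + 1) := by
  have hgl : PdLT F (N + 1) := pdLT_projSpace N k F
  by_cases hNe : N ≤ e
  · intro x hx
    haveI := hgl x hx
    exact hasProjectiveDimensionLT_of_ge _ (N + 1) (e + 1) (by omega)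
  · have key : ∀ d t : ℕ, t + d = N + 1 → e + 1 ≤ t → PdLT F t := by
      intro d
      induction d with
      | zero =>
        intro t ht _
        have : t = N + 1 := by omega
        rw [this]
        exact hgl
      | succ d ih =>
        intro t ht het
        have h1 : PdLT F (t + 1) := ih (t + 1) (by omega) (by omega)
        obtain ⟨s, rfl⟩ : ∃ s, t = s + 1 := ⟨t - 1, by omega⟩
        exact pdLT_step N k s F hF h1 (h (s + 1) (by omega))
    exact key (N - e) (e + 1) (by omega) le_rfl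

end Pn

end Groth.Agent.Lib.T2H6.CMConv
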