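import Mathlib
import Groth.Agent.Lib.T2H6CMConvB
import Groth.Agent.Lib.T2H6CMDualB
import Groth.Agent.Lib.T2H6PnIntegral
import Groth.Agent.Lib.T2H6GVMain
import Groth.Agent.Lib.T2H5Devissage
import Groth.Agent.Lib.T2H3ReflexiveHom

/-!
# Depth of the stalks of a coherent module on `P^r_k` and vanishing of cohomology of negative twists

* `lt_depth_iff_hasProjectiveDimensionLT`: Auslander–Buchsbaum over a regular local ring of dimension
  `r`: `n < depth M ↔ pd M < r - n`.
* `ringKrullDim_stalk_projSpace_of_isClosed`: the local rings of `P^r_k` at closed points have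
  dimension `r`.
* `vanishing_iff_pdLT`: `H^i(P^r, F(-m)) = 0` for all `i ≤ n` and `m ≫ 0` iff the stalks of `F` at closed
  points have projective dimension `< r - n`.
-/

set_option autoImplicit false
set_option linter.style.haveILetI false
universe u

open CategoryTheory CategoryTheory.Limits Abelian AlgebraicGeometry

namespace Groth.Agent.Lib.T2H6.CMConv

open Groth.Agent.Lib.Helper4.NormDelta Groth.Agent.Lib.Helper23.StalkLin
  Groth.Agent.Lib.T2H5.Dev2 Groth.Agent.Lib.T2H6.CM Groth.Agent.Lib.T2H6.LocGlob
  Groth.Agent.Lib.T2H5.Twist Groth.Agent.Lib.T2H6.SDual Groth.Agent.Lib.T2H6.ExtDual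
  Groth.Agent.Lib.T2H5.PnTop Groth.Agent.Lib.T2H6.CurveFitting

section Alg

theorem depth_eq_top_of_subsingleton (A : Type u) [CommRing A] [IsLocalRing A] (M : Type u)
    [AddCommGroup M] [Module A M] [Subsingleton M] : LocCoh.depth A M = ⊤ := by
  unfold LocCoh.depth LocCoh.idealDepth
  rw [if_pos (Subsingleton.elim _ _)]

/-- Auslander–Buchsbaum over a regular local ring of dimension `r`: `n < depth M ↔ pd M < r - n`. -/
theorem lt_depth_iff_hasProjectiveDimensionLT (A : Type u) [CommRing A] [IsRegularLocalRing A]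
    (r : ℕ) (hA : ringKrullDim A = (r : WithBot ℕ∞)) (M : Type u) [AddCommGroup M] [Module A M]
    [Module.Finite A M] (n : ℕ) :
    (n : ℕ∞) < LocCoh.depth A M ↔ HasProjectiveDimensionLT (ModuleCat.of A M) (r - n) := by
  haveI : IsLocalRing A := inferInstance
  haveI : IsNoetherianRing A := inferInstance
  by_cases hM : Subsingleton M
  · have hd : LocCoh.depth A M = ⊤ := depth_eq_top_of_subsingleton A M
    have hz : IsZero (ModuleCat.of A M) := ModuleCat.isZero_of_subsingleton _
    constructor
    · intro _
      rw [← projectiveDimension_lt_iff, (projectiveDimension_eq_bot_iff _).2 hz]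
      exact WithBot.bot_lt_coe _
    · intro _
      rw [hd]
      exact ENat.natCast_lt_top n
  · haveI : Nontrivial M := not_subsingleton_iff_nontrivial.1 hM
    have hpdlt : HasProjectiveDimensionLT (ModuleCat.of A M) (r + 1) :=
      Groth.Agent.S0563.result A r hA M
    have hne : ¬ IsZero (ModuleCat.of A M) := by
      intro hz
      exact hM (ModuleCat.subsingleton_of_isZero hz)
    obtain ⟨e', he'⟩ : ∃ e' : ℕ, projectiveDimension (ModuleCat.of A M) = (e' : WithBot ℕ∞) := by
      have h1 : projectiveDimension (ModuleCat.of A M) ≠ ⊥ := by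
        rw [Ne, projectiveDimension_eq_bot_iff]
        exact hne
      have h2 : projectiveDimension (ModuleCat.of A M) < ((r + 1 : ℕ) : WithBot ℕ∞) :=
        projectiveDimension_lt_iff.2 hpdlt
      generalize projectiveDimension (ModuleCat.of A M) = D at h1 h2
      induction D with
      | bot => exact absurd rfl h1
      | coe D =>
        induction D with
        | top => exact absurd h2 (by simp)
        | coe D => exact ⟨D, rfl⟩
    have hAB : LocCoh.depth A A = (e' : ℕ∞) + LocCoh.depth A M :=
      Groth.Agent.S0604.result A M e' he'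
    have hdA : LocCoh.depth A A = (r : ℕ∞) := by
      have h := Groth.Agent.Lib.Helper6.SmDim.ringKrullDim_eq_depth_of_isRegularLocalRing A
      rw [hA] at h
      exact_mod_cast h.symm
    rw [hdA] at hAB
    obtain ⟨δ, hδ⟩ : ∃ δ : ℕ, LocCoh.depth A M = (δ : ℕ∞) := by
      generalize LocCoh.depth A M = D at hAB
      induction D with
      | top => simp at hAB
      | coe δ => exact ⟨δ, rfl⟩
    rw [hδ] at hAB ⊢
    have hnat : r = e' + δ := by exact_mod_cast hAB
    rw [← projectiveDimension_lt_iff, he']
    constructor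
    · intro h
      have h' : n < δ := by exact_mod_cast h
      exact_mod_cast (by omega : e' < r - n)
    · intro h
      have h' : e' < r - n := by exact_mod_cast h
      exact_mod_cast (by omega : n < δ)

end Alg

section Pn

variable (r : ℕ) (k : Type u) [Field k]

/-- the local rings of `P^r_k` at closed points have dimension `r`. -/
theorem ringKrullDim_stalk_projSpace_of_isClosed (x : CohB1.ProjSpace r k)
    (hx : IsClosed ({x} : Set ↥(CohB1.ProjSpace r k))) :
    ringKrullDim ((CohB1.ProjSpace r k).presheaf.stalk x) = (r : WithBot ℕ∞) := by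
  refine ringKrullDim_stalk_of_equidim k r r (CohB1.ProjSpace r k) (𝟙 _) (Category.id_comp _) ?_ x hx
  intro Z hZ
  haveI : IrreducibleSpace ↥(CohB1.ProjSpace r k) := inferInstance
  rw [irreducibleComponents_eq_singleton, Set.mem_singleton_iff] at hZ
  subst hZ
  rw [← Groth.Agent.Lib.Helper27ProjDim.main k r]
  exact IsHomeomorph.topologicalKrullDim_eq _ (Homeomorph.Set.univ _).isHomeomorph

/-- `n < depth F_x` at all closed points iff the stalks at closed points have `pd < r - n`. -/
theorem lt_depth_iff_pdLT (F : (CohB1.ProjSpace r k).Modules) (hF : Coh.IsCoh F) (n : ℕ) :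
    (∀ x : (CohB1.ProjSpace r k), IsClosed ({x} : Set ↥(CohB1.ProjSpace r k)) →
      (n : ℕ∞) < LocCoh.depth ((CohB1.ProjSpace r k).presheaf.stalk x) (F.presheaf.stalk x)) ↔
    PdLT F (r - n) := by
  refine forall_congr' (fun x => forall_congr' (fun hx => ?_))
  haveI := isRegularLocalRing_stalk_projSpace r k x
  haveI := Groth.Agent.Lib.T2H3.ReflexiveHom.finite_stalk_of_isCoh F hF x
  exact lt_depth_iff_hasProjectiveDimensionLT _ r
    (ringKrullDim_stalk_projSpace_of_isClosed r k x hx) _ n

/-- a coherent module on a quasi-compact scheme whose stalks at closed points vanish is zero. -/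
theorem isZero_of_pdLT_zero {X : Scheme.{u}} [CompactSpace X] (F : X.Modules) (hF : Coh.IsCoh F)
    (h : PdLT F 0) : IsZero F := by
  apply Groth.Agent.Lib.T2H5.Devissage.isZero_of_support_eq_empty
  by_contra hne
  obtain ⟨x₀, hx₀⟩ := Set.nonempty_iff_ne_empty.2 hne
  have hcl := Groth.Agent.Lib.T2H5.Devissage.isClosed_support F hF
  obtain ⟨x, hx, hxcl⟩ := hcl.exists_closed_singleton ⟨x₀, hx₀⟩
  apply hx
  haveI := h x hxcl
  have hz : IsZero (ModuleCat.of (X.presheaf.stalk x) (F.presheaf.stalk x)) := by
    rw [← projectiveDimension_eq_bot_iff]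
    have h1 : projectiveDimension (ModuleCat.of (X.presheaf.stalk x) (F.presheaf.stalk x)) <
        ((0 : ℕ) : WithBot ℕ∞) := projectiveDimension_lt_iff.2 inferInstance
    generalize projectiveDimension (ModuleCat.of (X.presheaf.stalk x) (F.presheaf.stalk x)) = D at h1
    induction D with
    | bot => rfl
    | coe D => exact absurd h1 (by simp)
  exact ModuleCat.subsingleton_of_isZero hz

/-- the stalks of a zero module vanish. -/
theorem pdLT_zero_of_isZero {X : Scheme.{u}} (F : X.Modules) (hF : IsZero F) : PdLT F 0 := by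
  intro x _
  have h1 : stalkLin (𝟙 F) x = 0 := by
    rw [hF.eq_of_src (𝟙 F) 0]
    exact stalkLin_zero F F x
  rw [stalkLin_id] at h1
  haveI : Subsingleton (F.presheaf.stalk x) :=
    ⟨fun a b => by
      have ha : a = 0 := LinearMap.congr_fun h1 a
      have hb : b = 0 := LinearMap.congr_fun h1 b
      rw [ha, hb]⟩
  have hz : IsZero (ModuleCat.of (X.presheaf.stalk x) (F.presheaf.stalk x)) :=
    ModuleCat.isZero_of_subsingleton _
  rw [← projectiveDimension_lt_iff, (projectiveDimension_eq_bot_iff _).2 hz]
  exact WithBot.bot_lt_coe _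

open Groth.Agent.Lib.Helper21.ExtShDelta in
attribute [local instance] Groth.Agent.Lib.Helper21.ExtShDelta.hasSheafHom in
/-- **`H^i(P^r, F(-m)) = 0` for all `i ≤ n` and `m ≫ 0` iff the stalks of `F` at closed points have
projective dimension `< r - n`.** -/
theorem vanishing_iff_pdLT (F : (CohB1.ProjSpace r k).Modules) (hF : Coh.IsCoh F) (n : ℕ) :
    (∃ m₀ : ℤ, ∀ m : ℤ, m₀ ≤ m → ∀ i : ℕ, i ≤ n →
      Subsingleton (Coh.HH (CohB1.ProjSpace r k)
        (CohB1.tensorMod F (Twist.twistProjSpace r k (-m))) i)) ↔ PdLT F (r - n) := by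
  haveI := Groth.Agent.Lib.Helper21.ModTensor3.isGrothendieckAbelian (CohB1.ProjSpace r k).sheaf
  haveI : HasExt.{u} (CohB1.ProjSpace r k).Modules :=
    (inferInstance : HasExt.{u} (ModSite.Mod (CohB1.ProjSpace r k).sheaf))
  haveI : HasInjectiveResolutions (ModSite.Mod (CohB1.ProjSpace r k).sheaf) := inferInstance
  haveI : IsLocallyNoetherian (CohB1.ProjSpace r k) := isLocallyNoetherian_projSpace' r k
  haveI : CompactSpace (CohB1.ProjSpace r k) := Groth.Agent.Lib.T2H5.GlobGenPn.compactSpace r k
  haveI : TopologicalSpace.NoetherianSpace (CohB1.ProjSpace r k) :=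
    noetherianSpace_of_closed r k (𝟙 (CohB1.ProjSpace r k))
  have hgv : ∀ (M : (CohB1.ProjSpace r k).Modules) (i : ℕ), r < i →
      Subsingleton (Coh.HH (CohB1.ProjSpace r k) M i) := fun M i hi =>
    Groth.Agent.Lib.T2H6.GVMain.subsingleton_HH _ M i (by
      have h2 : topologicalKrullDim ↥(CohB1.ProjSpace r k) = (r : WithBot ℕ∞) :=
        Groth.Agent.Lib.Helper27ProjDim.main k r
      rw [h2]
      exact_mod_cast hi)
  have hhigh : ∀ j, r < j → IsZero (EE j F (Twist.twistProjSpace r k (-((r : ℤ) + 1)))) :=
    fun j hj => isZero_extSh_of_pdLT r k _ r F hF (pdLT_projSpace r k F) j (by omega)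
  have hvan := fun (j : ℕ) (hj : j ≤ r) => vanishing_iff_isZero_EE r k F hF j hj
  constructor
  · rintro ⟨m₀, hm₀⟩
    have hEE : ∀ i, i ≤ n → i ≤ r →
        IsZero (EE (r - i) F (Twist.twistProjSpace r k (-((r : ℤ) + 1)))) := by
      intro i hin hir
      refine (hvan (r - i) (Nat.sub_le _ _)).1 ⟨m₀, fun m hm => ?_⟩
      rw [Nat.sub_sub_self hir]
      exact hm₀ m hm i hin
    have hall : ∀ j, r - n ≤ j →
        IsZero (EE j F (Twist.twistProjSpace r k (-((r : ℤ) + 1)))) := by
      intro j hj
      by_cases hjr : j ≤ r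
      · have := hEE (r - j) (by omega) (by omega)
        rwa [Nat.sub_sub_self hjr] at this
      · exact hhigh j (by omega)
    by_cases hnr : n < r
    · have := pdLT_of_isZero_EE r k F hF (r - n - 1) (fun j hj => hall j (by omega))
      rwa [show r - n - 1 + 1 = r - n by omega] at this
    · have hpd1 : PdLT F 1 := pdLT_of_isZero_EE r k F hF 0 (fun j _ => hall j (by omega))
      have hlf : FlatMod.IsFinLocFree F := isFinLocFree_of_pdLT_one F hF hpd1
      have hz0 : IsZero (EE 0 F F) :=
        isZero_EE_locFree_of_invertible 0 F (Twist.twistProjSpace r k (-((r : ℤ) + 1)))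
          (Twist.twistProjSpace r k ((r : ℤ) + 1)) F
          (Groth.Agent.Lib.T2H5.ClosedTransfer.twistInvIso' r k ((r : ℤ) + 1))
          (Groth.Agent.Helper18PBUnit.isFinLocFree_of_isInvertible (isInvertible_twist r k _))
          hlf (hall 0 (by omega))
      have hF0 : IsZero F := by
        rw [IsZero.iff_id_eq_zero]
        apply (Theta k F F).injective
        haveI := Groth.Agent.Lib.T2H5.Chevalley.subsingleton_HH_of_isZero hz0 0
        exact Subsingleton.elim _ _
      rw [show r - n = 0 by omega]
      exact pdLT_zero_of_isZero F hF0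
  · intro hpd
    by_cases hnr : n < r
    · have hEE : ∀ j, r - n ≤ j →
          IsZero (EE j F (Twist.twistProjSpace r k (-((r : ℤ) + 1)))) := by
        intro j hj
        have hpd' : PdLT F (r - n - 1 + 1) := by rwa [show r - n - 1 + 1 = r - n by omega]
        exact isZero_extSh_of_pdLT r k _ (r - n - 1) F hF hpd' j (by omega)
      have hex : ∀ i, i ≤ n → ∃ m₀ : ℤ, ∀ m : ℤ, m₀ ≤ m →
          Subsingleton (Coh.HH (CohB1.ProjSpace r k)
            (CohB1.tensorMod F (Twist.twistProjSpace r k (-m))) i) := by
        intro i hin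
        have hir : i ≤ r := by omega
        have := (hvan (r - i) (Nat.sub_le _ _)).2 (hEE (r - i) (by omega))
        rwa [Nat.sub_sub_self hir] at this
      choose! f hf using hex
      obtain ⟨M, hM⟩ := ((Finset.range (n + 1)).image f).exists_le
      exact ⟨M, fun m hm i hi => hf i hi m ((hM (f i) (Finset.mem_image_of_mem f
        (Finset.mem_range.2 (by omega)))).trans hm)⟩
    · have hF0 : IsZero F :=
        isZero_of_pdLT_zero F hF (by rwa [show r - n = 0 by omega] at hpd)
      exact ⟨0, fun m _ i _ => Groth.Agent.Lib.T2H5.Chevalley.subsingleton_HH_of_isZero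
        ((tw r k (-m)).map_isZero hF0) i⟩

end Pn

end Groth.Agent.Lib.T2H6.CMConv
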