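import Mathlib
import Groth.Prelude.Def_KLin
import Groth.Agent.Lib.T2H6NegTwistB
import Groth.Agent.Lib.T2H6CurveSerre
import Groth.Agent.Lib.T2H6EulerField
set_option backward.isDefEq.respectTransparency.types false

/-!
# Vanishing of sections of negative twists: the main lemma (helper6)

Namespace `Groth.Agent.Lib.T2H6.NegTwistC`.

`exists_forall_hom_eq_zero` : let `X` be proper over a field, `P` invertible with a section `t` such that `X_t` is affine,
and `G` coherent without closed associated points, all of whose associated points lie in `X_t`.  Then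
`Hom(P^{⊗ j}, G) = 0` for all large `j`.
-/

set_option autoImplicit false
set_option linter.style.haveILetI false
set_option linter.unusedSectionVars false
universe u

open CategoryTheory TopCat TopologicalSpace Opposite TensorProduct AlgebraicGeometry Limits

namespace Groth.Agent.Lib.T2H6.NegTwistC

open Groth.Agent.Lib.Helper2.FlatOver Groth.Agent.Lib.Helper23.SecTw Groth.Agent.Lib.Helper23.GenLocus
  Groth.Agent.Lib.Helper23.Extend Groth.Agent.Lib.Helper6 Groth.Agent.Lib.T2H6.NegTwistA
  Groth.Agent.Lib.T2H6.NegTwistB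

variable {X : Scheme.{u}}

/-- a section `O ⟶ G` vanishes as soon as the global section it names vanishes. -/
theorem eq_zero_of_sv_top_eq_zero {G : X.Modules} (s : Coh.structureModule X ⟶ G) (h : sv s ⊤ = 0) : s = 0 := by
  refine Scheme.Modules.hom_ext _ _ fun W => ?_
  ext r
  have h1 : sv s W = 0 := by
    rw [← res_sv s (le_top : W ≤ ⊤), h]
    exact map_zero _
  have h2 := app_toS s W (ofS W r)
  rw [h1, smul_zero] at h2
  exact h2

variable (k : Type u) [Field k] [X.Over (Spec (CommRingCat.of k))]

/-- the sections whose germs outside `U` lie in `𝔪^j G`. -/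
noncomputable def Usub (G : X.Modules) (U : X.Opens) (j : ℕ) : Submodule k (Coh.structureModule X ⟶ G) where
  carrier := {s | ∀ x : X, x ∉ U → InPow G x j (G.presheaf.germ ⊤ x (Set.mem_univ _) (sv s ⊤))}
  add_mem' := by
    intro a b ha hb x hx
    unfold InPow
    rw [sv_add, map_add]
    exact Submodule.add_mem _ (ha x hx) (hb x hx)
  zero_mem' := by
    intro x hx
    unfold InPow
    rw [sv_zero, map_zero]
    exact Submodule.zero_mem _
  smul_mem' := by
    intro c a ha x hx
    unfold InPow
    have h1 : sv (c • a) ⊤ = X.presheaf.map (homOfLE (le_top : (⊤ : X.Opens) ≤ ⊤)).op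
        (Coh.toGlobal (X ↘ Spec (CommRingCat.of k)) c) • sv a ⊤ :=
      KLin.smul_app_apply c a ⊤ (toS ⊤ 1)
    rw [h1, Groth.Agent.Lib.Helper2.QCoh.germ_smul]
    exact Submodule.smul_mem _ _ (ha x hx)

theorem Usub_antitone (G : X.Modules) (U : X.Opens) : Antitone (Usub k G U) := by
  intro i j hij s hs x hx
  have := hs x hx
  unfold InPow at this ⊢
  exact Submodule.smul_mono_left (Ideal.pow_le_pow_right hij) this


variable [IsProper (X ↘ Spec (CommRingCat.of k))]

include k in
/-- **Main lemma.** `Hom(P^{⊗ j}, G) = 0` for `j ≫ 0`. -/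
theorem exists_forall_hom_eq_zero (P : X.Modules) (hP : PicF.IsInvertible P) (t : Coh.structureModule X ⟶ P)
    (haff : IsAffineOpen (CohB1.genLocus P t)) (G : X.Modules) (hG : Coh.IsCoh G)
    (hcl : ∀ x : X, IsClosed ({x} : Set X) → ¬ Curv2.IsAssPoint G x)
    (hass : ∀ y : X, Curv2.IsAssPoint G y → y ∈ CohB1.genLocus P t) :
    ∃ j₀ : ℕ, ∀ j : ℕ, j₀ ≤ j → ∀ φ : CohB1.tensorPow P j ⟶ G, φ = 0 := by
  haveI : IsLocallyNoetherian X :=
    LocallyOfFiniteType.isLocallyNoetherian (X ↘ Spec (CommRingCat.of k))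
  haveI : G.IsQuasicoherent := hG.1
  haveI : SheafOfModules.IsFiniteType (R := X.ringCatSheaf) G := hG.2
  haveI : Module.Finite k (Coh.HH X G 0) := Groth.Agent.Lib.T2H6.EulerField.finite_HH k X G hG 0
  haveI : Module.Finite k (Coh.structureModule X ⟶ G) :=
    Module.Finite.of_injective (Groth.Agent.Lib.T2H6.CurveSerre.evLin k G)
      (Groth.Agent.Lib.T2H6.CurveSerre.bijective_evLin k G).1
  haveI : IsArtinian k (Coh.structureModule X ⟶ G) := inferInstance
  obtain ⟨n, hn⟩ := IsArtinian.monotone_stabilizes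
    (⟨fun j => OrderDual.toDual (Usub k G (CohB1.genLocus P t) j),
      fun i j hij => Usub_antitone k G (CohB1.genLocus P t) hij⟩ :
      ℕ →o (Submodule k (Coh.structureModule X ⟶ G))ᵒᵈ)
  have hn' : ∀ j, n ≤ j → Usub k G (CohB1.genLocus P t) n = Usub k G (CohB1.genLocus P t) j :=
    fun j hj => hn j hj
  have hbot : Usub k G (CohB1.genLocus P t) n = ⊥ := by
    rw [eq_bot_iff]
    intro s hs
    have hall : ∀ j, s ∈ Usub k G (CohB1.genLocus P t) j := by
      intro j
      rcases le_total n j with h | h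
      · rw [← hn' j h]
        exact hs
      · exact Usub_antitone k G (CohB1.genLocus P t) h hs
    have hgerm : ∀ x : X, x ∉ CohB1.genLocus P t →
        G.presheaf.germ ⊤ x (Set.mem_univ _) (sv s ⊤) = 0 := by
      intro x hx
      haveI := Groth.Agent.Lib.Helper2.FibreCrit.finite_stalk G x
      have hK := Ideal.iInf_pow_smul_eq_bot_of_isLocalRing (M := G.presheaf.stalk x)
        (IsLocalRing.maximalIdeal (X.presheaf.stalk x)) (IsLocalRing.maximalIdeal.isMaximal _).ne_top
      have hmem : G.presheaf.germ ⊤ x (Set.mem_univ _) (sv s ⊤) ∈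
          ⨅ i : ℕ, (IsLocalRing.maximalIdeal (X.presheaf.stalk x) ^ i) •
            (⊤ : Submodule (X.presheaf.stalk x) (G.presheaf.stalk x)) :=
        (Submodule.mem_iInf _).2 (fun j => hall j x hx)
      rw [hK] at hmem
      exact hmem
    have h0 := eq_zero_of_germ_eq_zero_off_affine k G hcl (CohB1.genLocus P t) haff (sv s ⊤) hgerm
    exact eq_zero_of_sv_top_eq_zero s h0
  refine ⟨n, fun j hj φ => ?_⟩
  apply eq_zero_of_powHom_comp_eq_zero P hP t hass j φ
  have hmem : SecTwist.powHom t j ≫ φ ∈ Usub k G (CohB1.genLocus P t) j :=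
    fun x hx => inPow_germ P hP t j φ x hx
  have h2 : SecTwist.powHom t j ≫ φ ∈ Usub k G (CohB1.genLocus P t) n :=
    Usub_antitone k G (CohB1.genLocus P t) hj hmem
  rw [hbot] at h2
  exact h2

end Groth.Agent.Lib.T2H6.NegTwistC
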