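import Mathlib
import Groth.Prelude.Def_KLin
import Groth.Prelude.Def_ClSub2
import Groth.Agent.Lib.T2H6NegTwistC
import Groth.Agent.Lib.T2H6NegTwistD
import Groth.Agent.Lib.T2H6TensorPows
import Groth.Agent.Lib.T2H5AmpleSerre
import Groth.Agent.Lib.Helper2TensorInv
import Groth.Agent.Lib.Helper23SecTw9
import Groth.Agent.Lib.Helper23TensorUnit
import Groth.Agent.Lib.T2H6FieldBC2
import Groth.Agent.Lib.T2H6CurveSatur
set_option backward.isDefEq.respectTransparency.types false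

/-!
# Vanishing of sections of negative twists (helper6)

Namespace `Groth.Agent.Lib.T2H6.NegTwistE`.

`exists_forall_subsingleton_HH_zero` : `X` proper over a field, `L` ample with inverse `M`, `F` coherent without closed
associated points; then `H⁰(X, F ⊗ M^{⊗ n}) = 0` for `n ≫ 0`.
-/

set_option autoImplicit false
set_option linter.style.haveILetI false
set_option linter.unusedSectionVars false
universe u

open CategoryTheory TopCat TopologicalSpace Opposite AlgebraicGeometry Limits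

namespace Groth.Agent.Lib.T2H6.NegTwistE

open Groth.Agent.Lib.T2H5.Twist Groth.Agent.Lib.T2H6.TensorPows

variable {X : Scheme.{u}}

theorem eq_zero_of_iso_comp {A B A' B' : X.Modules} (f : A ⟶ B) (a : A' ≅ A) (b : B ≅ B')
    (h : a.hom ≫ f ≫ b.hom = 0) : f = 0 := by
  have h1 : a.inv ≫ (a.hom ≫ f ≫ b.hom) ≫ b.inv = 0 := by rw [h, zero_comp, comp_zero]
  simpa using h1

/-- if `Q ⊗ R ≅ O` and `Hom(R, G) = 0` then `G ⊗ Q` has no nonzero sections. -/
theorem section_eq_zero_of_forall_hom_eq_zero (G Q R : X.Modules)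
    (e : CohB1.tensorMod Q R ≅ Coh.structureModule X) (e' : CohB1.tensorMod R Q ≅ Coh.structureModule X)
    (h : ∀ φ : R ⟶ G, φ = 0) (σ : Coh.structureModule X ⟶ CohB1.tensorMod G Q) : σ = 0 := by
  haveI : (tr R).IsEquivalence := by
    rw [← trEquiv_functor e' e]
    infer_instance
  let a : R ≅ (tr R).obj (Coh.structureModule X) := (Groth.Agent.Lib.Helper23.TensorUnit.unitTensorIso R).symm
  let b : (tr R).obj (CohB1.tensorMod G Q) ≅ G := (trCompIsoId e).app G
  have h2 : (tr R).map σ = 0 := eq_zero_of_iso_comp ((tr R).map σ) a b (h _)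
  apply (tr R).map_injective
  rw [h2, Functor.map_zero]

variable (k : Type u) [Field k] [X.Over (Spec (CommRingCat.of k))] [IsProper (X ↘ Spec (CommRingCat.of k))]

include k in
/-- `H⁰(X, F ⊗ M^{⊗ n}) = 0` for `n ≫ 0`, where `M` is inverse to the ample `L` and `F` is coherent without closed
associated points. -/
theorem exists_forall_subsingleton_HH_zero (L : X.Modules) (hL : CohB1.IsAmple L) (M : X.Modules)
    (hM : ClSub.IsInverseOf L M) (F : X.Modules) (hF : Coh.IsCoh F)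
    (hass : ∀ x : X, IsClosed ({x} : Set X) → ¬ Curv2.IsAssPoint F x) :
    ∃ n₀ : ℕ, ∀ n : ℕ, n₀ ≤ n →
      Subsingleton (Coh.HH X (CohB1.tensorMod F (CohB1.tensorPow M n)) 0) := by
  haveI : IsNoetherian X := Groth.Agent.Lib.T2H6.CurveSatur.isNoetherian_of_proper k
  haveI : F.IsQuasicoherent := hF.1
  haveI : SheafOfModules.IsFiniteType (R := X.ringCatSheaf) F := hF.2
  obtain ⟨eLM⟩ := hM
  have hLi : PicF.IsInvertible L := hL.1
  have eML : CohB1.tensorMod M L ≅ Coh.structureModule X := braidIso M L ≪≫ eLM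
  have hMi : PicF.IsInvertible M := Groth.Agent.Lib.Helper2.TensorInv.isInvertible_of_tensor_iso M L eML
  haveI : CompactSpace X := hL.2.1
  obtain ⟨m, t, hZt, -, haff⟩ := Groth.Agent.Lib.Helper23.SecTw.exists_affine_genLocus_of_finite L hL
    {x | Curv2.IsAssPoint F x} (Groth.Agent.Lib.T2H6.NegTwistD.finite_isAssPoint F) ⊤ (fun _ _ => trivial)
  have hP : PicF.IsInvertible (CohB1.tensorPow L (m + 1)) :=
    Groth.Agent.Lib.Helper23.SecTw.isInvertible_tensorPow hLi (m + 1)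
  have hN : PicF.IsInvertible (CohB1.tensorPow M (m + 1)) :=
    Groth.Agent.Lib.Helper23.SecTw.isInvertible_tensorPow hMi (m + 1)
  have eNP : ∀ j, Nonempty (CohB1.tensorMod (CohB1.tensorPow (CohB1.tensorPow M (m + 1)) j)
      (CohB1.tensorPow (CohB1.tensorPow L (m + 1)) j) ≅ Coh.structureModule X) := by
    intro j
    obtain ⟨e1⟩ := Groth.Agent.Lib.Helper23.SecTw.nonempty_tensorPow_tensorMod_iso M L hMi hLi (m + 1)
    have e2 : CohB1.tensorMod (CohB1.tensorPow M (m + 1)) (CohB1.tensorPow L (m + 1)) ≅ Coh.structureModule X :=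
      e1 ≪≫ Groth.Agent.Lib.Helper23.AmpleIso.tensorPowIso eML (m + 1) ≪≫
        Groth.Agent.Lib.Helper23.TensorUnit.tensorPowUnitIso (m + 1)
    obtain ⟨e3⟩ := Groth.Agent.Lib.Helper23.SecTw.nonempty_tensorPow_tensorMod_iso _ _ hN hP j
    exact ⟨e3 ≪≫ Groth.Agent.Lib.Helper23.AmpleIso.tensorPowIso e2 j ≪≫
      Groth.Agent.Lib.Helper23.TensorUnit.tensorPowUnitIso j⟩
  have hmain : ∀ r : ℕ, ∃ j₀ : ℕ, ∀ j : ℕ, j₀ ≤ j →
      ∀ φ : CohB1.tensorPow (CohB1.tensorPow L (m + 1)) j ⟶ CohB1.tensorMod F (CohB1.tensorPow M r), φ = 0 := by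
    intro r
    have hMr := Groth.Agent.Lib.Helper23.SecTw.isInvertible_tensorPow hMi r
    apply Groth.Agent.Lib.T2H6.NegTwistC.exists_forall_hom_eq_zero k _ hP t haff _
      (Groth.Agent.Lib.T2H5.AmpleSerre.isCoh_tensor_tensorPow F M hF hMi r)
    · intro x hx hx'
      exact hass x hx ((Groth.Agent.Lib.T2H6.NegTwistD.isAssPoint_tensorMod_iff F _ hMr x).1 hx')
    · intro y hy
      exact hZt ((Groth.Agent.Lib.T2H6.NegTwistD.isAssPoint_tensorMod_iff F _ hMr y).1 hy)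
  choose j₀ hj₀ using hmain
  refine ⟨((Finset.range (m + 1)).sup j₀) * (m + 1), fun n hn => ?_⟩
  have hr : n % (m + 1) < m + 1 := Nat.mod_lt _ (Nat.succ_pos m)
  have hj : (Finset.range (m + 1)).sup j₀ ≤ n / (m + 1) := (Nat.le_div_iff_mul_le (Nat.succ_pos m)).2 hn
  have hjr : j₀ (n % (m + 1)) ≤ n / (m + 1) := (Finset.le_sup (Finset.mem_range.2 hr)).trans hj
  have hn' : n % (m + 1) + (m + 1) * (n / (m + 1)) = n := Nat.mod_add_div n (m + 1)
  obtain ⟨e1⟩ := Groth.Agent.Lib.T2H5.AmpleSerre.nonempty_tensor_tensorPow_add_iso F M (n % (m + 1))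
    ((m + 1) * (n / (m + 1)))
  obtain ⟨e2⟩ := Groth.Agent.Lib.Helper23.SecTw.nonempty_tensorPow_tensorPow_iso M hMi (m + 1) (n / (m + 1))
    ((m + 1) * (n / (m + 1))) rfl
  rw [hn'] at e1
  have e : CohB1.tensorMod F (CohB1.tensorPow M n) ≅
      CohB1.tensorMod (CohB1.tensorMod F (CohB1.tensorPow M (n % (m + 1))))
        (CohB1.tensorPow (CohB1.tensorPow M (m + 1)) (n / (m + 1))) :=
    e1 ≪≫ Groth.Agent.Lib.Helper23.AmpleIso.tensorModIso (Iso.refl _) e2.symm
  rw [Groth.Agent.Lib.T2H6.FieldBC.subsingleton_HH_iff_of_iso k X e 0]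
  obtain ⟨eNPj⟩ := eNP (n / (m + 1))
  have ePNj := braidIso (CohB1.tensorPow (CohB1.tensorPow L (m + 1)) (n / (m + 1)))
    (CohB1.tensorPow (CohB1.tensorPow M (m + 1)) (n / (m + 1))) ≪≫ eNPj
  have hz : ∀ σ : Coh.structureModule X ⟶
      CohB1.tensorMod (CohB1.tensorMod F (CohB1.tensorPow M (n % (m + 1))))
        (CohB1.tensorPow (CohB1.tensorPow M (m + 1)) (n / (m + 1))), σ = 0 :=
    section_eq_zero_of_forall_hom_eq_zero _ _ _ eNPj ePNj (hj₀ (n % (m + 1)) (n / (m + 1)) hjr)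
  refine ⟨fun a b => ?_⟩
  obtain ⟨σ, rfl⟩ := (Groth.Agent.Lib.T2H6.CurveSerre.bijective_evLin k _).2 a
  obtain ⟨τ, rfl⟩ := (Groth.Agent.Lib.T2H6.CurveSerre.bijective_evLin k _).2 b
  rw [hz σ, hz τ]

end Groth.Agent.Lib.T2H6.NegTwistE
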