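import Mathlib
import Groth.Agent.Lib.T2H4ClosedImmLen
import Groth.Agent.Lib.Helper28DepthBC
import Groth.Agent.Lib.Helper28Depth
import Groth.Agent.Lib.T2H6CMConvC
import Groth.Agent.Lib.T2H3ReflexiveHom
set_option backward.isDefEq.respectTransparency.types false

/-!
# Stalks of the direct image of a module along a closed immersion, and their depth (T2H6)

* `cmpM i F z`: the comparison map `(i_* F)_{i z} ⟶ F_z`, bijective for a preimmersion and semilinear
  over `O_{X, i z} ⟶ O_{Z, z}`.
* `subsingleton_stalk_push_of_notMem_range`: the stalks of `i_* F` vanish outside the (closed) image.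
* `depth_stalk_push`: for a closed immersion, `depth (i_* F)_{i z} = depth F_z`.
* `le_depth_stalk_push`: a lower bound for the depth of `F` at all closed points gives the same bound
  for `i_* F`.
-/

set_option autoImplicit false
set_option linter.style.haveILetI false
universe u
open CategoryTheory CategoryTheory.Limits AlgebraicGeometry TopologicalSpace Opposite

namespace Groth.Agent.Lib.T2H6.NegVan

open Groth.Agent.Lib.Helper4.NormDelta Groth.Agent.Lib.Helper23.UnitStalk Groth.Agent.Lib.Helper23.GenLocus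
  Groth.Agent.Lib.Helper2.QCoh

variable {X Z : Scheme.{u}} (i : Z ⟶ X) (F : Z.Modules)

/-- the sections of a module over the empty open set vanish. -/
theorem subsingleton_sections_bot (G : Z.Modules) : Subsingleton Γ(G, ⊥) := by
  have hT : IsTerminal ((⟨G.presheaf, G.isSheaf⟩ : TopCat.Sheaf Ab Z).obj.obj (op ⊥)) :=
    TopCat.Sheaf.isTerminalOfEmpty _
  have hz : IsZero (G.presheaf.obj (op ⊥)) := by
    refine (isZero_zero Ab).of_iso (hT.uniqueUpToIso (isZero_zero Ab).isTerminal)
  exact AddCommGrpCat.subsingleton_of_isZero hz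

/-- `i_* F`. -/
noncomputable abbrev pushM : X.Modules := (Scheme.Modules.pushforward i).obj F

/-- a section of `i_* F` over `W`, as a section of `F` over `i⁻¹ W`. -/
def ofPushM (W : X.Opens) (b : Γ(pushM i F, W)) : Γ(F, i ⁻¹ᵁ W) := b

/-- a section of `F` over `i⁻¹ W`, as a section of `i_* F` over `W`. -/
def toPushM (W : X.Opens) (b : Γ(F, i ⁻¹ᵁ W)) : Γ(pushM i F, W) := b

theorem pushM_smul (W : X.Opens) (a : Γ(X, W)) (b : Γ(pushM i F, W)) :
    a • b = toPushM i F W ((i.app W).hom a • ofPushM i F W b) := rfl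

/-- the comparison map from the stalk of `i_* F` at `i z` to the stalk of `F` at `z` -/
noncomputable def cmpM (z : Z) :
    (pushM i F).presheaf.stalk (i z) ⟶ F.presheaf.stalk z :=
  TopCat.Presheaf.stalkPushforward Ab i.base F.presheaf z

theorem cmpM_germ (z : Z) (U : X.Opens) (hz : i z ∈ U) (b : Γ(pushM i F, U)) :
    (cmpM i F z).hom ((pushM i F).presheaf.germ U (i z) hz b) =
      F.presheaf.germ (i ⁻¹ᵁ U) z hz (ofPushM i F U b) :=
  TopCat.Presheaf.stalkPushforward_germ_apply Ab i.base F.presheaf U z hz b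

theorem cmpM_bijective [IsPreimmersion i] (z : Z) : Function.Bijective (cmpM i F z).hom := by
  haveI : IsIso (cmpM i F z) :=
    TopCat.Presheaf.stalkPushforward.stalkPushforward_iso_of_isInducing Ab i.isEmbedding.isInducing
      F.presheaf z
  exact ConcreteCategory.bijective_of_isIso (cmpM i F z)

theorem cmpM_smul (z : Z) (r : X.presheaf.stalk (i z)) (p : (pushM i F).presheaf.stalk (i z)) :
    (cmpM i F z).hom (r • p) = (i.stalkMap z).hom r • (cmpM i F z).hom p := by
  obtain ⟨W₁, hx₁, a, rfl⟩ := X.presheaf.exists_germ_eq (x := i z) r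
  obtain ⟨W₂, hx₂, b, rfl⟩ := (pushM i F).presheaf.exists_germ_eq p
  have hx : i z ∈ W₁ ⊓ W₂ := ⟨hx₁, hx₂⟩
  rw [← TopCat.Presheaf.germ_res_apply X.presheaf (homOfLE (inf_le_left : W₁ ⊓ W₂ ≤ W₁)) (i z) hx a,
    ← TopCat.Presheaf.germ_res_apply (pushM i F).presheaf (homOfLE (inf_le_right : W₁ ⊓ W₂ ≤ W₂))
      (i z) hx b,
    ← germ_smul, cmpM_germ, cmpM_germ, pushM_smul]
  have h1 := Scheme.Hom.germ_stalkMap_apply i (W₁ ⊓ W₂) z hx
    (X.presheaf.map (homOfLE (inf_le_left : W₁ ⊓ W₂ ≤ W₁)).op a)
  rw [h1, ← germ_smul]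
  rfl

/-- the stalk of `i_* F` vanishes outside the image of `i` when the image is closed -/
theorem subsingleton_stalk_push_of_notMem_range (hcl : IsClosed (Set.range i)) (x : X)
    (hx : x ∉ Set.range i) : Subsingleton ((pushM i F).presheaf.stalk x) := by
  refine ⟨fun p q => ?_⟩
  let W : X.Opens := ⟨(Set.range i)ᶜ, hcl.isOpen_compl⟩
  have hxW : x ∈ W := hx
  have hW : i ⁻¹ᵁ W = ⊥ := by
    ext z
    simp only [Opens.coe_bot, Set.mem_empty_iff_false, iff_false]
    intro hz
    exact hz ⟨z, rfl⟩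
  have key : ∀ p : (pushM i F).presheaf.stalk x, p = 0 := by
    intro p
    obtain ⟨U, hxU, b, rfl⟩ := (pushM i F).presheaf.exists_germ_eq p
    have hx' : x ∈ U ⊓ W := ⟨hxU, hxW⟩
    rw [← TopCat.Presheaf.germ_res_apply (pushM i F).presheaf (homOfLE (inf_le_left : U ⊓ W ≤ U)) x hx' b]
    have hbot : i ⁻¹ᵁ (U ⊓ W) = ⊥ := by
      apply le_bot_iff.1
      rw [← hW]
      exact (Opens.map i.base).monotone inf_le_right
    haveI : Subsingleton Γ(F, i ⁻¹ᵁ (U ⊓ W)) := by
      rw [hbot]
      exact subsingleton_sections_bot F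
    have h0 : (pushM i F).presheaf.map (homOfLE (inf_le_left : U ⊓ W ≤ U)).op b = 0 :=
      Subsingleton.elim (α := Γ(F, i ⁻¹ᵁ (U ⊓ W))) _ _
    rw [h0, map_zero]
  rw [key p, key q]

section Depth

variable [IsClosedImmersion i] [IsLocallyNoetherian X]

/-- for a closed immersion `i`, `depth (i_* F)_{i z} = depth F_z`. -/
theorem depth_stalk_push (hF : Coh.IsCoh F) (z : Z) :
    LocCoh.depth (X.presheaf.stalk (i z)) ((pushM i F).presheaf.stalk (i z)) =
      LocCoh.depth (Z.presheaf.stalk z) (F.presheaf.stalk z) := by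
  haveI : IsLocallyNoetherian Z := LocallyOfFiniteType.isLocallyNoetherian i
  letI : Algebra (X.presheaf.stalk (i z)) (Z.presheaf.stalk z) := (i.stalkMap z).hom.toAlgebra
  letI : Module (X.presheaf.stalk (i z)) (F.presheaf.stalk z) :=
    Module.compHom _ (i.stalkMap z).hom
  haveI : IsScalarTower (X.presheaf.stalk (i z)) (Z.presheaf.stalk z) (F.presheaf.stalk z) :=
    IsScalarTower.of_algebraMap_smul (fun r m => rfl)
  haveI : IsLocalHom (algebraMap (X.presheaf.stalk (i z)) (Z.presheaf.stalk z)) :=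
    IsLocalHom.of_surjective _ (i.stalkMap_surjective z)
  haveI : Module.Finite (X.presheaf.stalk (i z)) (Z.presheaf.stalk z) :=
    Module.Finite.of_surjective (Algebra.linearMap (X.presheaf.stalk (i z)) (Z.presheaf.stalk z))
      (i.stalkMap_surjective z)
  haveI : Module.Finite (Z.presheaf.stalk z) (F.presheaf.stalk z) :=
    Groth.Agent.Lib.T2H3.ReflexiveHom.finite_stalk_of_isCoh F hF z
  haveI : Module.Finite (X.presheaf.stalk (i z)) (F.presheaf.stalk z) :=
    Module.Finite.trans (Z.presheaf.stalk z) (F.presheaf.stalk z)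
  let e₀ : (pushM i F).presheaf.stalk (i z) →ₗ[X.presheaf.stalk (i z)] F.presheaf.stalk z :=
    { toFun := (cmpM i F z).hom
      map_add' := map_add _
      map_smul' := fun r p => cmpM_smul i F z r p }
  let e : (pushM i F).presheaf.stalk (i z) ≃ₗ[X.presheaf.stalk (i z)] F.presheaf.stalk z :=
    LinearEquiv.ofBijective e₀ (cmpM_bijective i F z)
  have h1 : LocCoh.depth (X.presheaf.stalk (i z)) ((pushM i F).presheaf.stalk (i z)) =
      LocCoh.depth (X.presheaf.stalk (i z)) (F.presheaf.stalk z) :=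
    Groth.Agent.Lib.Helper28.idealDepth_congr e _
  rw [h1]
  exact Groth.Agent.Lib.Helper28.depth_eq_depth_of_isLocalHom_of_finite
    (A := X.presheaf.stalk (i z)) (B := Z.presheaf.stalk z) (M := F.presheaf.stalk z)

/-- a lower bound for the depth of `F` at all closed points gives the same bound for `i_* F`. -/
theorem le_depth_stalk_push (hF : Coh.IsCoh F) (c : ℕ∞)
    (h : ∀ z : Z, IsClosed ({z} : Set Z) → c ≤ LocCoh.depth (Z.presheaf.stalk z) (F.presheaf.stalk z))
    (x : X) (hx : IsClosed ({x} : Set X)) :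
    c ≤ LocCoh.depth (X.presheaf.stalk x) ((pushM i F).presheaf.stalk x) := by
  by_cases hxr : x ∈ Set.range i
  · obtain ⟨z, rfl⟩ := hxr
    rw [depth_stalk_push i F hF z]
    apply h z
    have h1 : ({z} : Set Z) = i ⁻¹' {i z} := by
      ext w
      simp only [Set.mem_singleton_iff, Set.mem_preimage]
      exact ⟨fun hw => by rw [hw], fun hw => i.isClosedEmbedding.injective hw⟩
    rw [h1]
    exact hx.preimage i.continuous
  · haveI := subsingleton_stalk_push_of_notMem_range i F i.isClosedEmbedding.isClosed_range x hxr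
    rw [Groth.Agent.Lib.T2H6.CMConv.depth_eq_top_of_subsingleton]
    exact le_top

end Depth

end Groth.Agent.Lib.T2H6.NegVan
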