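import Mathlib
import Groth.Agent.Lib.T2H6VAmpleE
import Groth.Agent.Lib.T2H5T2Main
import Groth.Agent.Lib.T2H5T2Chart
import Groth.Agent.Lib.T2H6PnChart
import Groth.Agent.S9705
set_option backward.isDefEq.respectTransparency.types false

/-!
# Projective embeddings by a power of an ample module, with the twisting sheaf (T2H6)

`exists_closedImmersion_twist`: a proper scheme over `Spec A` with an ample module `L` admits a closed
immersion `j` into some `P^N_A` with `L^{⊗ d} ≅ j^* O(1)` for some `d > 0`.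
-/

set_option autoImplicit false
set_option linter.style.haveILetI false
set_option linter.unusedSectionVars false
universe u
open CategoryTheory CategoryTheory.Limits Opposite TopologicalSpace AlgebraicGeometry

namespace Groth.Agent.Lib.T2H6.NegVan

open Groth.Agent.Lib.T2H6 Groth.Agent.Lib.T2H6.HProjChart

variable {A : Type u} [CommRing A] {X : Scheme.{u}}

/-- a proper scheme over `Spec A` with an ample module `L` admits a closed immersion `j` into some
`P^N_A` with `L^{⊗ d} ≅ j^* O(1)`, `d > 0`. -/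
theorem exists_closedImmersion_twist (f : X ⟶ Spec (CommRingCat.of A)) [IsProper f]
    (L : X.Modules) (hL : CohB1.IsAmple L) :
    ∃ (d N : ℕ) (j : X ⟶ CohB1.ProjSpace N A), 0 < d ∧ IsClosedImmersion j ∧
      j ≫ CohB1.ProjSpace.toSpec N A = f ∧
      Nonempty (CohB1.tensorPow L d ≅
        (Scheme.Modules.pullback j).obj (Twist.twistProjSpace N A 1)) := by
  obtain ⟨n₀, h⟩ := Groth.Agent.Lib.T2H6.VAmpleE.eventually_veryAmple_pow f L hL
  obtain ⟨N, i, himm, hcomp, ⟨e⟩⟩ := h (n₀ + 1) (Nat.le_succ _)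
  letI : Algebra Z₀.{u} A :=
    ((Int.castRingHom A).comp (ULift.ringEquiv : Z₀.{u} ≃+* ℤ).toRingHom).toAlgebra
  have hj : 𝟙 (Spec (CommRingCat.of A)) ≫ HProjChart.tS (Spec (CommRingCat.of A)) =
      Spec.map (CommRingCat.ofHom (algebraMap Z₀.{u} A)) := specULiftZIsTerminal.hom_ext _ _
  let ε : CohB1.ProjSpace N A ⟶ pullback (CohB1.ProjSpace.toSpec N Z₀.{u})
      (HProjChart.tS (Spec (CommRingCat.of A))) :=
    PnChart.emb Z₀.{u} A N (HProjChart.tS (Spec (CommRingCat.of A))) (𝟙 _) hj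
  haveI : IsOpenImmersion ε := PnChart.isOpenImmersion_emb Z₀.{u} A N _ (𝟙 _) hj
  have hε : IsIso ε := by
    refine isIso_of_isOpenImmersion_of_opensRange_eq_top ε ?_
    ext1
    have h := PnChart.range_emb Z₀.{u} A N (HProjChart.tS (Spec (CommRingCat.of A))) (𝟙 _) hj
    refine h.trans ?_
    have hr : Set.range (𝟙 (Spec (CommRingCat.of A)) : Spec (CommRingCat.of A) ⟶ _).base = Set.univ :=
      Set.range_eq_univ.2 (fun y => ⟨y, rfl⟩)
    rw [hr]
    rfl
  have hsnd : ε ≫ pullback.snd _ _ = CohB1.ProjSpace.toSpec N A :=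
    (PnChart.emb_snd Z₀.{u} A N (HProjChart.tS (Spec (CommRingCat.of A))) (𝟙 _) hj).trans
      (Category.comp_id _)
  have hfst : ε ≫ pullback.fst _ _ =
      Proj.map (PnChart.phiA Z₀.{u} A N) (PnChart.irr_phiA Z₀.{u} A N) :=
    PnChart.emb_fst Z₀.{u} A N (HProjChart.tS (Spec (CommRingCat.of A))) (𝟙 _) hj
  let p : pullback (CohB1.ProjSpace.toSpec N Z₀.{u})
      (HProjChart.tS (Spec (CommRingCat.of A))) ⟶ Spec (CommRingCat.of A) := pullback.snd _ _
  haveI hp : IsProper p := Groth.Agent.S9705.isProper_toBase N _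
  let i₀ : X ⟶ pullback (CohB1.ProjSpace.toSpec N Z₀.{u})
      (HProjChart.tS (Spec (CommRingCat.of A))) := i
  have hip : i₀ ≫ p = f := hcomp
  haveI : IsImmersion i₀ := himm
  haveI : IsProper (i₀ ≫ p) := by rw [hip]; infer_instance
  haveI : IsProper i₀ := IsProper.of_comp i₀ p
  haveI : IsClosedImmersion i₀ := by
    rw [IsClosedImmersion.iff_isProper_and_mono]; exact ⟨inferInstance, inferInstance⟩
  haveI := hε
  let j : X ⟶ CohB1.ProjSpace N A := i₀ ≫ inv ε
  haveI : IsClosedImmersion j := by dsimp only [j]; infer_instance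
  have hjε : j ≫ ε = i₀ := by
    dsimp only [j]
    rw [Category.assoc, IsIso.inv_hom_id, Category.comp_id]
  refine ⟨n₀ + 1, N, j, Nat.succ_pos _, inferInstance, ?_, ?_⟩
  · rw [← hsnd, ← Category.assoc, hjε]
    exact hip
  · obtain ⟨e2⟩ := Groth.Agent.Lib.T2H5.T2Chart.nonempty_pullback_phiA_twist Z₀.{u} A N 1
    -- `j^* O_A(1) ≅ j^* (ε ≫ fst)^* O_Z(1) ≅ (j ≫ ε ≫ fst)^* O_Z(1) = (i ≫ fst)^* O_Z(1) ≅ i^* fst^* O_Z(1)`
    have hcompose : j ≫ Proj.map (PnChart.phiA Z₀.{u} A N) (PnChart.irr_phiA Z₀.{u} A N) =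
        i₀ ≫ pullback.fst _ _ :=
      (congrArg (fun t => j ≫ t) hfst).symm.trans ((Category.assoc _ _ _).symm.trans
        (congrArg (fun t => t ≫ pullback.fst (CohB1.ProjSpace.toSpec N Z₀.{u})
          (HProjChart.tS (Spec (CommRingCat.of A)))) hjε))
    let e3 : (Scheme.Modules.pullback j).obj (Twist.twistProjSpace N A 1) ≅
        (Scheme.Modules.pullback i₀).obj ((Scheme.Modules.pullback (pullback.fst
          (CohB1.ProjSpace.toSpec N Z₀.{u}) (HProjChart.tS (Spec (CommRingCat.of A))))).obj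
            (Twist.twistProjSpace N Z₀.{u} 1)) :=
      (Scheme.Modules.pullback j).mapIso e2.symm ≪≫
        (Scheme.Modules.pullbackComp j _).app (Twist.twistProjSpace N Z₀.{u} 1) ≪≫
        (Scheme.Modules.pullbackCongr hcompose).app _ ≪≫
        ((Scheme.Modules.pullbackComp i₀ _).app (Twist.twistProjSpace N Z₀.{u} 1)).symm
    exact ⟨e ≪≫ e3.symm⟩

end Groth.Agent.Lib.T2H6.NegVan
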