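import Mathlib
import Groth.Agent.Lib.T2H6NegVanA
import Groth.Agent.Lib.T2H6NegVanC
import Groth.Agent.Lib.T2H6NegTwistE
import Groth.Agent.Lib.T2H6SDualM
import Groth.Agent.Lib.T2H5ClosedTransfer
import Groth.Agent.Lib.T2H6CMConvC
import Groth.Agent.Lib.T2H6FieldBC2
set_option backward.isDefEq.respectTransparency.types false

/-!
# Vanishing of the low cohomology of negative twists from depth (T2H6)

`exists_forall_subsingleton_HH_le`: `X` proper over a field `k`, `L` ample with inverse `M`, `F` coherent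
with `depth F_x > n` at all closed points; then `H^i(X, F ⊗ M^{⊗ m}) = 0` for all `i ≤ n` and `m ≫ 0`.
-/

set_option autoImplicit false
set_option linter.style.haveILetI false
set_option linter.unusedSectionVars false
universe u

open CategoryTheory TopCat TopologicalSpace Opposite AlgebraicGeometry Limits

namespace Groth.Agent.Lib.T2H6.NegVan

open Groth.Agent.Lib.T2H5.Twist Groth.Agent.Lib.T2H6.TensorPows Groth.Agent.Lib.T2H6.SDual

variable {X : Scheme.{u}}

/-- uniqueness of inverses: if `A ⊗ R ≅ O ≅ B ⊗ R` then `A ≅ B` (given an inverse `R'` of `R`). -/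
noncomputable def isoOfInverse {A B R R' : X.Modules}
    (a : CohB1.tensorMod A R ≅ Coh.structureModule X)
    (b : CohB1.tensorMod B R ≅ Coh.structureModule X)
    (c : CohB1.tensorMod R R' ≅ Coh.structureModule X) : A ≅ B :=
  ((trCompIsoId c).app A).symm ≪≫ (tr R').mapIso (a ≪≫ b.symm) ≪≫ (trCompIsoId c).app B

variable (k : Type u) [Field k] [X.Over (Spec (CommRingCat.of k))]
  [IsProper (X ↘ Spec (CommRingCat.of k))]

include k in
/-- `H^i(X, F ⊗ M^{⊗ m}) = 0` for `i ≤ n` and `m ≫ 0`, where `M` is inverse to the ample `L` and `F` is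
coherent of depth `> n` at all closed points. -/
theorem exists_forall_subsingleton_HH_le (L : X.Modules) (hL : CohB1.IsAmple L) (M : X.Modules)
    (hM : ClSub.IsInverseOf L M) (F : X.Modules) (hF : Coh.IsCoh F) (n : ℕ)
    (hdepth : ∀ x : X, IsClosed ({x} : Set X) →
      (n : ℕ∞) < LocCoh.depth (X.presheaf.stalk x) (F.presheaf.stalk x)) :
    ∃ m₀ : ℕ, ∀ m : ℕ, m₀ ≤ m → ∀ i : ℕ, i ≤ n →
      Subsingleton (Coh.HH X (CohB1.tensorMod F (CohB1.tensorPow M m)) i) := by
  obtain ⟨d, N, j, hd, hjc, hjf, ⟨e⟩⟩ :=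
    exists_closedImmersion_twist (X ↘ Spec (CommRingCat.of k)) L hL
  haveI := hjc
  obtain ⟨eLM⟩ := hM
  have hLi : PicF.IsInvertible L := hL.1
  have eML : CohB1.tensorMod M L ≅ Coh.structureModule X := braidIso M L ≪≫ eLM
  have hMi : PicF.IsInvertible M := Groth.Agent.Lib.Helper2.TensorInv.isInvertible_of_tensor_iso M L eML
  have hP : PicF.IsInvertible (CohB1.tensorPow L d) :=
    Groth.Agent.Lib.Helper23.SecTw.isInvertible_tensorPow hLi d
  have hQ : PicF.IsInvertible (CohB1.tensorPow M d) :=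
    Groth.Agent.Lib.Helper23.SecTw.isInvertible_tensorPow hMi d
  have eQP : ∀ q, Nonempty (CohB1.tensorMod (CohB1.tensorPow (CohB1.tensorPow M d) q)
      (CohB1.tensorPow (CohB1.tensorPow L d) q) ≅ Coh.structureModule X) := by
    intro q
    obtain ⟨e1⟩ := Groth.Agent.Lib.Helper23.SecTw.nonempty_tensorPow_tensorMod_iso M L hMi hLi d
    have e2 : CohB1.tensorMod (CohB1.tensorPow M d) (CohB1.tensorPow L d) ≅ Coh.structureModule X :=
      e1 ≪≫ Groth.Agent.Lib.Helper23.AmpleIso.tensorPowIso eML d ≪≫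
        Groth.Agent.Lib.Helper23.TensorUnit.tensorPowUnitIso d
    obtain ⟨e3⟩ := Groth.Agent.Lib.Helper23.SecTw.nonempty_tensorPow_tensorMod_iso _ _ hQ hP q
    exact ⟨e3 ≪≫ Groth.Agent.Lib.Helper23.AmpleIso.tensorPowIso e2 q ≪≫
      Groth.Agent.Lib.Helper23.TensorUnit.tensorPowUnitIso q⟩
  have key : ∀ q : ℕ, Nonempty (CohB1.tensorPow (CohB1.tensorPow M d) q ≅ Lm k N j (-(q : ℤ))) := by
    intro q
    obtain ⟨a⟩ := eQP q
    obtain ⟨b0⟩ := nonempty_tensorPow_tensor_iso k N j q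
    have b : CohB1.tensorMod (Lm k N j (-(q : ℤ))) (CohB1.tensorPow (CohB1.tensorPow L d) q) ≅
        Coh.structureModule X :=
      braidIso _ _ ≪≫ Groth.Agent.Lib.Helper23.AmpleIso.tensorModIso
        (Groth.Agent.Lib.Helper23.AmpleIso.tensorPowIso e q) (Iso.refl _) ≪≫ b0
    have c : CohB1.tensorMod (CohB1.tensorPow (CohB1.tensorPow L d) q)
        (CohB1.tensorPow (CohB1.tensorPow M d) q) ≅ Coh.structureModule X := braidIso _ _ ≪≫ a
    exact ⟨isoOfInverse a b c⟩
  haveI : IsLocallyNoetherian (CohB1.ProjSpace N k) :=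
    Groth.Agent.Lib.T2H6.SDual.isLocallyNoetherian_projSpace' N k
  have hmain : ∀ r : ℕ, ∃ q₀ : ℕ, ∀ q : ℕ, q₀ ≤ q → ∀ i : ℕ, i ≤ n →
      Subsingleton (Coh.HH X (CohB1.tensorMod (CohB1.tensorMod F (CohB1.tensorPow M r))
        (CohB1.tensorPow (CohB1.tensorPow M d) q)) i) := by
    intro r
    have hMr := Groth.Agent.Lib.Helper23.SecTw.isInvertible_tensorPow hMi r
    have hG : Coh.IsCoh (CohB1.tensorMod F (CohB1.tensorPow M r)) :=
      Groth.Agent.Lib.T2H5.AmpleSerre.isCoh_tensor_tensorPow F M hF hMi r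
    have hGd : ∀ x : X, IsClosed ({x} : Set X) → ((n : ℕ∞) + 1) ≤
        LocCoh.depth (X.presheaf.stalk x)
          ((CohB1.tensorMod F (CohB1.tensorPow M r)).presheaf.stalk x) := by
      intro x hx
      obtain ⟨eq⟩ := Groth.Agent.Lib.T2H6.NegTwistD.nonempty_stalk_tensorMod_equiv F _ hMr x
      have h1 : LocCoh.depth (X.presheaf.stalk x)
          ((CohB1.tensorMod F (CohB1.tensorPow M r)).presheaf.stalk x) =
          LocCoh.depth (X.presheaf.stalk x) (F.presheaf.stalk x) :=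
        Groth.Agent.Lib.Helper28.idealDepth_congr eq _
      rw [h1]
      exact Order.add_one_le_of_lt (hdepth x hx)
    have hjG : Coh.IsCoh (pushM j (CohB1.tensorMod F (CohB1.tensorPow M r))) :=
      Groth.Agent.Lib.T2H5.ClosedTransfer.isCoh_pushforward j _ hG
    have hpd := (Groth.Agent.Lib.T2H6.CMConv.lt_depth_iff_pdLT N k _ hjG n).1 (fun x hx =>
      lt_of_lt_of_le (by
        have : (n : ℕ∞) < (n : ℕ∞) + 1 := by
          exact_mod_cast Nat.lt_succ_self n
        exact this) (le_depth_stalk_push j _ hG _ hGd x hx))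
    obtain ⟨m₀, hm₀⟩ := (Groth.Agent.Lib.T2H6.CMConv.vanishing_iff_pdLT N k _ hjG n).2 hpd
    refine ⟨m₀.toNat, fun q hq i hi => ?_⟩
    have hq' : m₀ ≤ (q : ℤ) := by
      have := Int.toNat_le.1 hq
      exact this
    have h1 := hm₀ (q : ℤ) hq' i hi
    have h2 := (Groth.Agent.Lib.T2H5.ClosedTransfer.subsingleton_HH_twist_iff N k j _ hG.1
      (-(q : ℤ)) i).2 h1
    obtain ⟨eq⟩ := key q
    exact (Groth.Agent.Lib.T2H6.FieldBC.subsingleton_HH_iff_of_iso k X
      (Groth.Agent.Lib.Helper23.AmpleIso.tensorModIso (Iso.refl _) eq) i).2 h2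
  choose q₀ hq₀ using hmain
  refine ⟨((Finset.range d).sup q₀) * d, fun m hm i hi => ?_⟩
  have hr : m % d < d := Nat.mod_lt _ hd
  have hj : (Finset.range d).sup q₀ ≤ m / d := (Nat.le_div_iff_mul_le hd).2 hm
  have hjr : q₀ (m % d) ≤ m / d := (Finset.le_sup (Finset.mem_range.2 hr)).trans hj
  have hn' : m % d + d * (m / d) = m := Nat.mod_add_div m d
  obtain ⟨e1⟩ := Groth.Agent.Lib.T2H5.AmpleSerre.nonempty_tensor_tensorPow_add_iso F M (m % d)
    (d * (m / d))
  obtain ⟨e2⟩ := Groth.Agent.Lib.Helper23.SecTw.nonempty_tensorPow_tensorPow_iso M hMi d (m / d)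
    (d * (m / d)) rfl
  rw [hn'] at e1
  have e' : CohB1.tensorMod F (CohB1.tensorPow M m) ≅
      CohB1.tensorMod (CohB1.tensorMod F (CohB1.tensorPow M (m % d)))
        (CohB1.tensorPow (CohB1.tensorPow M d) (m / d)) :=
    e1 ≪≫ Groth.Agent.Lib.Helper23.AmpleIso.tensorModIso (Iso.refl _) e2.symm
  rw [Groth.Agent.Lib.T2H6.FieldBC.subsingleton_HH_iff_of_iso k X e' i]
  exact hq₀ (m % d) (m / d) hjr i hi

end Groth.Agent.Lib.T2H6.NegVan
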