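import Mathlib
import Groth.Agent.Lib.T2H3ZeroScheme
import Groth.Agent.Lib.T2H4AmpleCartier
import Groth.Agent.Lib.Helper18OmLS15
import Groth.Agent.Lib.Helper23Serre
import Groth.Agent.Lib.Helper23TensorMap
import Groth.Agent.Lib.Helper23SecTw6
import Groth.Agent.Lib.Helper23PB
set_option backward.isDefEq.respectTransparency.types false

/-!
# Zero schemes of regular sections of invertible modules (T2H6)

* `support_zeroScheme`: the support of `Z(s)` is the complement of `X_s`.
* `mono_powHom`: the powers of a regular section are regular.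
* `nonempty_tensor_idealMod_zeroScheme_iso`: for a regular section `s` of an invertible `L`, the ideal
  module `J` of `Z(s)` satisfies `J ⊗ L ≅ O_X`.
-/

set_option autoImplicit false
set_option linter.style.haveILetI false
set_option linter.unusedSectionVars false
universe u

open CategoryTheory TopCat TopologicalSpace Opposite AlgebraicGeometry Limits

namespace Groth.Agent.Lib.T2H6.NegVan

open Groth.Agent.Lib.Helper23.SecTw Groth.Agent.Lib.Helper23.GenLocus Groth.Agent.Lib.Helper6
  Groth.Agent.Lib.Helper23.TensorMap Groth.Agent.Lib.T2H4.AmpleCartier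
  Groth.Agent.Lib.T2H3.ZeroScheme Groth.Agent.Lib.Helper23.Extend Groth.Agent.Helper18OmLS
  Groth.Agent.Lib.Helper23.Serre

variable {X : Scheme.{u}} (L : X.Modules) (hL : PicF.IsInvertible L)
  (s : Coh.structureModule X ⟶ L)

/-- the coefficient of a regular section in a frame is a non-zero-divisor. -/
theorem regular_of_mono [Mono s] {W : X.Opens} {e : Γ(L, W)} {c : Γ(X, W)}
    (hc : sv s W = c • e) (r : Γ(X, W)) (h : r * c = 0) : r = 0 := by
  have h1 : s.app W (toS W r) = s.app W (toS W 0) := by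
    rw [app_toS, app_toS, hc, smul_smul, h, zero_smul, zero_smul]
  exact congrArg (ofS W) (injective_app_of_mono s W h1)

theorem regular_pow_of_mono [Mono s] {W : X.Opens} {e : Γ(L, W)} {c : Γ(X, W)}
    (hc : sv s W = c • e) (q : ℕ) (r : Γ(X, W)) (h : r * c ^ q = 0) : r = 0 := by
  induction q generalizing r with
  | zero => rwa [pow_zero, mul_one] at h
  | succ q ih =>
    apply ih
    apply regular_of_mono L s hc
    rw [mul_assoc, ← pow_succ]
    exact h

include hL in
theorem mem_support_zeroScheme_iff {W : X.Opens} {e : Γ(L, W)} (he : IsGen L W e) {c : Γ(X, W)}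
    (hc : sv s W = c • e) (y : X) (hyW : y ∈ W) :
    y ∈ (PicF2.zeroScheme L s).support ↔ y ∉ X.basicOpen c := by
  obtain ⟨V, hV, hyV, hVW⟩ := (Opens.isBasis_iff_nbhd.1 X.isBasis_affineOpens) hyW
  have hcV : sv s V = resf hVW c • res L hVW e := by rw [← res_sv s hVW, hc, res_smul]
  have hid : (PicF2.zeroScheme L s).ideal ⟨V, hV⟩ = Ideal.span {resf hVW c} := by
    rw [zeroScheme_ideal L s hL ⟨V, hV⟩]
    exact zI_eq_span L s (he.mono hVW) hcV
  rw [Scheme.IdealSheafData.mem_support_iff_of_mem (U := ⟨V, hV⟩) hyV, hid, Scheme.mem_zeroLocus_iff]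
  constructor
  · intro h hy
    refine h (resf hVW c) (Ideal.subset_span (Set.mem_singleton _)) ?_
    rw [Scheme.basicOpen_res]
    exact ⟨hyV, hy⟩
  · intro h g hg hyg
    obtain ⟨b, rfl⟩ := Ideal.mem_span_singleton'.mp (SetLike.mem_coe.1 hg)
    rw [Scheme.basicOpen_mul] at hyg
    have h3 := hyg.2
    rw [Scheme.basicOpen_res] at h3
    exact h h3.2

include hL in
/-- the support of `Z(s)` is the complement of `X_s`. -/
theorem support_zeroScheme :
    ((PicF2.zeroScheme L s).support : Set X) = ((CohB1.genLocus L s : X.Opens) : Set X)ᶜ := by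
  ext y
  obtain ⟨W, e, hyW, he⟩ := exists_gen L hL y
  have h1 := mem_support_zeroScheme_iff L hL s he (sv_eq_coef_smul s he) y hyW
  have h2 := genLocus_inf_eq_coef s he
  constructor
  · intro hy hyg
    have : y ∈ CohB1.genLocus L s ⊓ W := ⟨hyg, hyW⟩
    rw [h2] at this
    exact (h1.1 hy) this
  · intro hy
    apply h1.2
    intro hyc
    rw [← h2] at hyc
    exact hy hyc.1

include hL in
theorem isBasis_gen : Opens.IsBasis {W : X.Opens | IsAffineOpen W ∧ ∃ e : Γ(L, W), IsGen L W e} := by
  rw [Opens.isBasis_iff_nbhd]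
  intro U x hx
  obtain ⟨W₀, e₀, hxW₀, he₀⟩ := exists_gen L hL x
  obtain ⟨V, hV, hxV, hVU⟩ := (Opens.isBasis_iff_nbhd.1 X.isBasis_affineOpens)
    (show x ∈ W₀ ⊓ U from ⟨hxW₀, hx⟩)
  exact ⟨V, ⟨hV, res L (hVU.trans inf_le_left) e₀, he₀.mono (hVU.trans inf_le_left)⟩, hxV,
    hVU.trans inf_le_right⟩

include hL in
/-- the powers of a regular section are regular. -/
theorem mono_powHom [Mono s] (q : ℕ) : Mono (SecTwist.powHom s q) := by
  apply mono_of_injective_app_basis _ _ (isBasis_gen L hL)
  rintro W ⟨-, e, he⟩ a b hab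
  have hc := sv_eq_coef_smul s he
  set c := coef he le_rfl (sv s W) with hcdef
  have hq : sv (SecTwist.powHom s q) W = c ^ q • pw L W e q := by
    rw [sv_powHom, hc, pw_smul]
  have ha : (SecTwist.powHom s q).app W (toS W (ofS W a)) =
      (SecTwist.powHom s q).app W (toS W (ofS W b)) := hab
  rw [app_toS, app_toS, hq, smul_smul, smul_smul] at ha
  have hgen := (isGen_pw L W e he q W le_rfl).1
  have h1 : ofS W a * c ^ q = ofS W b * c ^ q := by
    apply hgen
    simp only [res_self]
    exact ha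
  have h2 : (ofS W a - ofS W b) * c ^ q = 0 := by rw [sub_mul, h1, sub_self]
  have h3 := regular_pow_of_mono L s hc q _ h2
  exact congrArg (toS W) (sub_eq_zero.1 h3)

include hL in
/-- for a regular section `s` of an invertible module `L`, the ideal module `J` of `Z(s)` satisfies
`J ⊗ L ≅ O_X`. -/
theorem nonempty_tensor_idealMod_zeroScheme_iso [Mono s] :
    Nonempty (CohB1.tensorMod (ClSub.idealMod (PicF2.zeroScheme L s)) L ≅ Coh.structureModule X) := by
  set I := PicF2.zeroScheme L s with hI
  let χ : CohB1.tensorMod (ClSub.idealMod I) L ⟶ L := mulHom (ClSub.idealModι I) L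
  have hχ : ∀ (W : X.Opens) (j : Γ(ClSub.idealMod I, W)) (e : Γ(L, W)),
      χ.app W (tm (ClSub.idealMod I) L W j e) = ιf I W j • e := fun W j e => mulHom_tm _ _ W j e
  have hB := isBasis_gen L hL
  -- the ideal on a member of the basis
  have hideal : ∀ (W : X.Opens) (hW : IsAffineOpen W) (e : Γ(L, W)) (he : IsGen L W e) (c : Γ(X, W)),
      sv s W = c • e → I.ideal ⟨W, hW⟩ = Ideal.span {c} := by
    intro W hW e he c hc
    rw [hI, zeroScheme_ideal L s hL ⟨W, hW⟩]
    exact zI_eq_span L s he hc
  have hχπ : χ ≫ cokernel.π s = 0 := by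
    refine hom_ext_basis _ 0 _ hB ?_
    rintro W ⟨hW, e, he⟩ t
    obtain ⟨j, rfl⟩ := (bijective_tm_of_isGen (ClSub.idealMod I) L W e he W le_rfl).2 t
    simp only [res_self]
    have hc := sv_eq_coef_smul s he
    set c := coef he le_rfl (sv s W) with hcdef
    have hj : ιf I W j ∈ I.ideal ⟨W, hW⟩ := ιf_mem_ideal I ⟨W, hW⟩ j
    rw [hideal W hW e he c hc, Ideal.mem_span_singleton'] at hj
    obtain ⟨b, hb⟩ := hj
    have h1 : χ.app W (tm (ClSub.idealMod I) L W j e) = s.app W (toS W b) := by
      rw [hχ, app_toS, hc, smul_smul, hb]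
    have h3 : (χ ≫ cokernel.π s).app W (tm (ClSub.idealMod I) L W j e) = 0 := by
      change (cokernel.π s).app W (χ.app W (tm (ClSub.idealMod I) L W j e)) = 0
      rw [h1]
      change (s ≫ cokernel.π s).app W (toS W b) = 0
      rw [cokernel.condition, Scheme.Modules.Hom.zero_app]
      rfl
    rw [h3, Scheme.Modules.Hom.zero_app]
    rfl
  let ν : CohB1.tensorMod (ClSub.idealMod I) L ⟶ Coh.structureModule X := Abelian.monoLift s χ hχπ
  have hν : ν ≫ s = χ := Abelian.monoLift_comp s χ hχπ
  haveI hχmono : Mono χ := by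
    apply mono_of_injective_app_basis _ _ hB
    rintro W ⟨hW, e, he⟩ a b hab
    obtain ⟨j, rfl⟩ := (bijective_tm_of_isGen (ClSub.idealMod I) L W e he W le_rfl).2 a
    obtain ⟨j', rfl⟩ := (bijective_tm_of_isGen (ClSub.idealMod I) L W e he W le_rfl).2 b
    simp only [res_self] at hab ⊢
    rw [hχ, hχ] at hab
    have h1 : ιf I W j = ιf I W j' := by
      apply (he W le_rfl).1
      simp only [res_self]
      exact hab
    rw [ιf_injective I W h1]
  haveI : Mono ν := by
    haveI : Mono (ν ≫ s) := by rw [hν]; exact hχmono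
    exact mono_of_mono ν s
  haveI : Epi ν := by
    apply epi_of_locally_surjective
    intro V t x hx
    obtain ⟨V', ⟨hV', e, he⟩, hxV', hle⟩ := (Opens.isBasis_iff_nbhd.1 hB) hx
    refine ⟨V', hle, hxV', ?_⟩
    have hc := sv_eq_coef_smul s he
    set c := coef he le_rfl (sv s V') with hcdef
    have hcI : c ∈ I.ideal ⟨V', hV'⟩ := by
      rw [hideal V' hV' e he c hc]
      exact Ideal.subset_span (Set.mem_singleton c)
    obtain ⟨j₀, hj₀⟩ := exists_ιf_eq I ⟨V', hV'⟩ c hcI
    set a₀ := tm (ClSub.idealMod I) L V' j₀ e with ha₀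
    set r := ofS V' (ν.app V' a₀) with hr
    have h1 : s.app V' (ν.app V' a₀) = χ.app V' a₀ := by
      rw [← hν]
      rfl
    have h2 : s.app V' (ν.app V' a₀) = (r * c) • e := by
      have : ν.app V' a₀ = toS V' r := rfl
      rw [this, app_toS, hc, smul_smul]
    have h3 : r * c = c := by
      apply (he V' le_rfl).1
      simp only [res_self]
      rw [← h2, h1, ha₀, hχ, hj₀]
    have h4 : r = 1 := by
      have h5 : (r - 1) * c = 0 := by rw [sub_mul, h3, one_mul, sub_self]
      exact sub_eq_zero.1 (regular_of_mono L s hc _ h5)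
    refine ⟨ofS V' (res (Coh.structureModule X) hle t) • a₀, ?_⟩
    rw [Scheme.Modules.Hom.app_smul]
    have h6 : ν.app V' a₀ = toS V' 1 := by
      have : ν.app V' a₀ = toS V' r := rfl
      rw [this, h4]
    rw [h6, smul_toS, mul_one, toS_ofS]
  haveI : IsIso ν := isIso_of_mono_of_epi ν
  exact ⟨asIso ν⟩

end Groth.Agent.Lib.T2H6.NegVan
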