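import Mathlib

/-!
# Algebras over a field which become local after every base field extension (helper9, S7856)
-/

set_option autoImplicit false
set_option linter.style.haveILetI false
set_option linter.unusedSectionVars false
universe u
open TensorProduct Polynomial

namespace Groth.Agent.Lib.T2H9.GammaLocAlg

/-- in an integral algebra without nontrivial idempotents over an algebraically closed field every
element is a scalar plus a nilpotent -/
theorem exists_isNilpotent_sub_of_isIntegral_of_isAlgClosed {K B : Type*} [Field K] [IsAlgClosed K]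
    [CommRing B] [Nontrivial B] (ι : K →+* B) (hint : ι.IsIntegral)
    (hidem : ∀ e : B, IsIdempotentElem e → e = 0 ∨ e = 1) (h : B) :
    ∃ α : K, IsNilpotent (h - ι α) := by
  letI : Algebra K B := ι.toAlgebra
  have hh : IsIntegral K h := hint h
  set p := minpoly K h with hp
  have hp0 : p ≠ 0 := minpoly.ne_zero hh
  have hdeg : p.degree ≠ 0 := by
    have := minpoly.degree_pos hh
    exact ne_of_gt this
  obtain ⟨α, hα⟩ := IsAlgClosed.exists_root p hdeg
  obtain ⟨q, hq, hndvd⟩ := Polynomial.exists_eq_pow_rootMultiplicity_mul_and_not_dvd p hp0 α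
  set m := p.rootMultiplicity α with hm
  have hmpos : 0 < m := (Polynomial.rootMultiplicity_pos hp0).mpr hα
  have hcop : IsCoprime ((X - C α) ^ m) q := by
    apply IsCoprime.pow_left
    exact (Polynomial.irreducible_X_sub_C α).coprime_iff_not_dvd.mpr hndvd
  obtain ⟨a, b, hab⟩ := hcop
  set u : B := aeval h ((X - C α) ^ m) with hu
  set v : B := aeval h q with hv
  have huv : u * v = 0 := by
    rw [hu, hv, ← map_mul, ← hq, hp, minpoly.aeval]
  have hsum : aeval h a * u + aeval h b * v = 1 := by
    rw [hu, hv, ← map_mul, ← map_mul, ← map_add, hab, map_one]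
  have he : IsIdempotentElem (aeval h a * u) := by
    unfold IsIdempotentElem
    have h1 : aeval h a * u = 1 - aeval h b * v := by rw [← hsum]; ring
    calc aeval h a * u * (aeval h a * u) = aeval h a * u * (1 - aeval h b * v) := by rw [← h1]
      _ = aeval h a * u - aeval h a * aeval h b * (u * v) := by ring
      _ = aeval h a * u := by rw [huv, mul_zero, sub_zero]
  rcases hidem _ he with h0 | h1
  · -- `v` is a unit, so `u = 0`
    have hvunit : aeval h b * v = 1 := by rw [← hsum, h0, zero_add]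
    have hu0 : u = 0 := by
      calc u = u * (aeval h b * v) := by rw [hvunit, mul_one]
        _ = aeval h b * (u * v) := by ring
        _ = 0 := by rw [huv, mul_zero]
    refine ⟨α, m, ?_⟩
    have : u = (h - algebraMap K B α) ^ m := by
      rw [hu, map_pow, map_sub, aeval_X, aeval_C]
    change (h - algebraMap K B α) ^ m = 0
    rw [← this, hu0]
  · -- `u` is a unit, so `v = 0`, contradicting minimality
    exfalso
    have hv0 : v = 0 := by
      calc v = (aeval h a * u) * v := by rw [h1, one_mul]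
        _ = aeval h a * (u * v) := by ring
        _ = 0 := by rw [huv, mul_zero]
    have hq0 : q ≠ 0 := by
      rintro rfl
      rw [mul_zero] at hq
      exact hp0 hq
    have hle := minpoly.degree_le_of_ne_zero K h hq0 hv0
    have hle' : p.natDegree ≤ q.natDegree := Polynomial.natDegree_le_natDegree hle
    have hnat : p.natDegree = m + q.natDegree := by
      conv_lhs => rw [hq]
      rw [Polynomial.natDegree_mul (pow_ne_zero _ (Polynomial.X_sub_C_ne_zero α)) hq0,
        Polynomial.natDegree_pow, Polynomial.natDegree_X_sub_C, mul_one]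
    omega

/-- a ring in which a power of every element is a "scalar" plus a nilpotent is local of
dimension zero -/
theorem isLocalRing_of_forall_pow_sub_nilpotent {F A : Type*} [Field F] [CommRing A]
    [Nontrivial A] (ψ : F →+* A) (H : ∀ a : A, ∃ (N : ℕ) (c : F), 0 < N ∧
      IsNilpotent (a ^ N - ψ c)) : IsLocalRing A ∧ ringKrullDim A = 0 := by
  have key : ∀ a : A, IsUnit a ∨ IsNilpotent a := by
    intro a
    obtain ⟨N, c, hN, hnil⟩ := H a
    by_cases hc : c = 0
    · right
      rw [hc, map_zero, sub_zero] at hnil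
      exact (IsNilpotent.pow_iff_pos hN.ne').mp hnil
    · left
      have hu : IsUnit (ψ c) := (IsUnit.mk0 c hc).map ψ
      have h1 : IsUnit (ψ c + (a ^ N - ψ c)) :=
        hnil.isUnit_add_left_of_commute hu (Commute.all _ _)
      rw [add_sub_cancel] at h1
      exact (isUnit_pow_iff hN.ne').mp h1
  have hloc : IsLocalRing A := by
    apply IsLocalRing.of_isUnit_or_isUnit_one_sub_self
    intro a
    rcases key a with h | h
    · exact Or.inl h
    · exact Or.inr h.isUnit_one_sub
  refine ⟨hloc, ?_⟩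
  have hle : Ring.KrullDimLE 0 A := by
    apply Ring.KrullDimLE.mk₀
    intro P hP
    have : P = IsLocalRing.maximalIdeal A := by
      apply le_antisymm (IsLocalRing.le_maximalIdeal hP.ne_top)
      intro x hx
      rcases key x with h | h
      · exact absurd h ((IsLocalRing.mem_maximalIdeal x).mp hx)
      · obtain ⟨n, hn⟩ := h
        exact hP.mem_of_pow_mem n (hn ▸ P.zero_mem)
    rw [this]
    infer_instance
  apply le_antisymm
  · exact Ring.krullDimLE_iff.mp hle
  · exact ringKrullDim_nonneg_of_nontrivial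

section Tensor

variable {R A K' : Type u} [Field R] [CommRing A] [Algebra R A] [Nontrivial A] [Field K']
  [Algebra R K']

lemma includeLeft_injective' :
    Function.Injective (Algebra.TensorProduct.includeLeft : A →ₐ[R] A ⊗[R] K') :=
  Algebra.TensorProduct.includeLeft_injective (S := A) (algebraMap R K').injective

lemma includeRight_injective' :
    Function.Injective (Algebra.TensorProduct.includeRight : K' →ₐ[R] A ⊗[R] K') :=
  Algebra.TensorProduct.includeRight_injective (FaithfulSMul.algebraMap_injective R A)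

instance : Nontrivial (A ⊗[R] K') := (includeLeft_injective' (R := R) (A := A) (K' := K')).nontrivial

lemma expChar_tensor (q : ℕ) [ExpChar R q] : ExpChar (A ⊗[R] K') q :=
  expChar_of_injective_algebraMap (FaithfulSMul.algebraMap_injective R (A ⊗[R] K')) q

lemma one_tmul_algebraMap (c : R) :
    (1 : A) ⊗ₜ[R] (algebraMap R K' c) = (algebraMap R A c) ⊗ₜ[R] (1 : K') := by
  rw [Algebra.algebraMap_eq_smul_one, Algebra.algebraMap_eq_smul_one, TensorProduct.tmul_smul,
    TensorProduct.smul_tmul']

/-- **descent**: if every `a ⊗ 1` is a scalar plus a nilpotent in `A ⊗ K'`, `K'` an algebraic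
closure of `R`, then a `q`-power of every `a` is a scalar of `R` plus a nilpotent. -/
theorem exists_pow_sub_nilpotent_of_tensor [IsAlgClosed K'] [Algebra.IsAlgebraic R K'] (q : ℕ)
    [ExpChar R q]
    (H : ∀ a : A, ∃ α : K', IsNilpotent (a ⊗ₜ[R] (1 : K') - (1 : A) ⊗ₜ[R] α)) (a : A) :
    ∃ (n : ℕ) (c : R), IsNilpotent (a ^ q ^ n - algebraMap R A c) := by
  classical
  haveI : ExpChar (A ⊗[R] K') q := expChar_tensor q
  haveI : IsAlgClosure R K' := ⟨inferInstance, inferInstance⟩
  haveI : Normal R K' := IsAlgClosure.normal R K'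
  obtain ⟨α, hα⟩ := H a
  have halg : IsAlgebraic R α := Algebra.IsAlgebraic.isAlgebraic α
  have hroots : ∀ β : K', aeval β (minpoly R α) = 0 → β = α := by
    intro β hβ
    obtain ⟨σ, hσ⟩ := minpoly.exists_algEquiv_of_root' halg hβ
    have h1 : IsNilpotent (a ⊗ₜ[R] (1 : K') - (1 : A) ⊗ₜ[R] β) := by
      have := hα.map (Algebra.TensorProduct.map (AlgHom.id R A) σ.toAlgHom)
      rw [map_sub, Algebra.TensorProduct.map_tmul, Algebra.TensorProduct.map_tmul] at this
      simpa [hσ] using this
    have h2 : IsNilpotent ((1 : A) ⊗ₜ[R] (β - α)) := by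
      have h3 : (1 : A) ⊗ₜ[R] (β - α) = (a ⊗ₜ[R] (1 : K') - (1 : A) ⊗ₜ[R] α) -
          (a ⊗ₜ[R] (1 : K') - (1 : A) ⊗ₜ[R] β) := by
        rw [TensorProduct.tmul_sub]; ring
      rw [h3]
      exact (Commute.all _ _).isNilpotent_sub hα h1
    have h4 : IsNilpotent (β - α) :=
      (IsNilpotent.map_iff (includeRight_injective' (R := R) (A := A) (K' := K'))).mp h2
    exact sub_eq_zero.mp h4.eq_zero
  have hsep : (minpoly R α).natSepDegree = 1 := by
    rw [natSepDegree_eq_of_isAlgClosed K', Finset.card_eq_one]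
    refine ⟨α, ?_⟩
    rw [Finset.eq_singleton_iff_unique_mem]
    refine ⟨?_, fun β hβ => ?_⟩
    · rw [Multiset.mem_toFinset, mem_aroots]
      exact ⟨minpoly.ne_zero halg.isIntegral, minpoly.aeval R α⟩
    · rw [Multiset.mem_toFinset, mem_aroots] at hβ
      exact hroots β hβ.2
  obtain ⟨n, c, hc⟩ := (minpoly.natSepDegree_eq_one_iff_pow_mem q).mp hsep
  refine ⟨n, c, ?_⟩
  have h5 : IsNilpotent ((a ⊗ₜ[R] (1 : K') - (1 : A) ⊗ₜ[R] α) ^ q ^ n) :=
    hα.pow_of_pos (expChar_pow_pos R q n).ne'
  rw [sub_pow_expChar_pow, Algebra.TensorProduct.tmul_pow, Algebra.TensorProduct.tmul_pow,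
    one_pow, one_pow, ← hc, one_tmul_algebraMap, ← TensorProduct.sub_tmul] at h5
  exact (IsNilpotent.map_iff (includeLeft_injective' (R := R) (A := A) (K' := K'))).mp h5

/-- **ascent**: if a `q`-power of every element of `A` is a scalar of `R` plus a nilpotent, then
the same holds in `A ⊗ K'` with scalars in `K'`, for every field extension `K'` of `R`. -/
theorem exists_pow_sub_nilpotent_tensor (q : ℕ) [ExpChar R q]
    (H : ∀ a : A, ∃ (n : ℕ) (c : R), IsNilpotent (a ^ q ^ n - algebraMap R A c))
    (x : A ⊗[R] K') :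
    ∃ (n : ℕ) (d : K'), IsNilpotent (x ^ q ^ n - (1 : A) ⊗ₜ[R] d) := by
  haveI : ExpChar (A ⊗[R] K') q := expChar_tensor q
  induction x using TensorProduct.induction_on with
  | zero => exact ⟨0, 0, by simp⟩
  | tmul a c =>
    obtain ⟨n, r, hr⟩ := H a
    refine ⟨n, algebraMap R K' r * c ^ q ^ n, ?_⟩
    have h1 : (a ⊗ₜ[R] c) ^ q ^ n - (1 : A) ⊗ₜ[R] (algebraMap R K' r * c ^ q ^ n) =
        (a ^ q ^ n - algebraMap R A r) ⊗ₜ[R] (c ^ q ^ n) := by
      rw [Algebra.TensorProduct.tmul_pow, TensorProduct.sub_tmul]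
      congr 1
      rw [Algebra.algebraMap_eq_smul_one, Algebra.algebraMap_eq_smul_one, smul_mul_assoc, one_mul,
        TensorProduct.tmul_smul, TensorProduct.smul_tmul']
    rw [h1]
    have h2 : (a ^ q ^ n - algebraMap R A r) ⊗ₜ[R] (c ^ q ^ n) =
        ((a ^ q ^ n - algebraMap R A r) ⊗ₜ[R] (1 : K')) * ((1 : A) ⊗ₜ[R] (c ^ q ^ n)) := by
      rw [Algebra.TensorProduct.tmul_mul_tmul, mul_one, one_mul]
    rw [h2]
    exact (Commute.all _ _).isNilpotent_mul_right
      (hr.map (Algebra.TensorProduct.includeLeft : A →ₐ[R] A ⊗[R] K'))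
  | add x y hx hy =>
    obtain ⟨n, d, hd⟩ := hx
    obtain ⟨m, e, he⟩ := hy
    refine ⟨n + m, d ^ q ^ m + e ^ q ^ n, ?_⟩
    have h1 : (x + y) ^ q ^ (n + m) - (1 : A) ⊗ₜ[R] (d ^ q ^ m + e ^ q ^ n) =
        (x ^ q ^ n - (1 : A) ⊗ₜ[R] d) ^ q ^ m + (y ^ q ^ m - (1 : A) ⊗ₜ[R] e) ^ q ^ n := by
      rw [sub_pow_expChar_pow, sub_pow_expChar_pow, add_pow_expChar_pow, TensorProduct.tmul_add,
        Algebra.TensorProduct.tmul_pow, Algebra.TensorProduct.tmul_pow, one_pow, one_pow,
        ← pow_mul, ← pow_mul, ← pow_add, ← pow_add, add_comm m n]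
      ring
    rw [h1]
    exact (Commute.all _ _).isNilpotent_add (hd.pow_of_pos (expChar_pow_pos R q m).ne')
      (he.pow_of_pos (expChar_pow_pos R q n).ne')

/-- under the hypothesis of `exists_pow_sub_nilpotent_tensor`, `A ⊗ K'` is a local ring -/
theorem isLocalRing_tensor (q : ℕ) [ExpChar R q]
    (H : ∀ a : A, ∃ (n : ℕ) (c : R), IsNilpotent (a ^ q ^ n - algebraMap R A c)) :
    IsLocalRing (A ⊗[R] K') := by
  refine (isLocalRing_of_forall_pow_sub_nilpotent
    (Algebra.TensorProduct.includeRight : K' →ₐ[R] A ⊗[R] K').toRingHom ?_).1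
  intro x
  obtain ⟨n, d, hd⟩ := exists_pow_sub_nilpotent_tensor q H x
  exact ⟨q ^ n, d, expChar_pow_pos R q n, hd⟩

end Tensor

end Groth.Agent.Lib.T2H9.GammaLocAlg
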