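import Mathlib
import Groth.Agent.Lib.T2H9GammaBC2
import Groth.Agent.Lib.T2H9GammaLocAlg

/-!
# Geometric connectedness of a proper scheme over a field in terms of its global sections
(helper9, S7856)
-/

set_option autoImplicit false
set_option linter.style.haveILetI false
set_option linter.unusedSectionVars false
universe u
open TensorProduct CategoryTheory CategoryTheory.Limits AlgebraicGeometry

namespace Groth.Agent.Lib.T2H9.GammaLoc

open Groth.Agent.Lib.T2H9.GammaBC Groth.Agent.Lib.T2H9.GammaLocAlg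

/-- on a connected quasi-compact scheme every idempotent global function is trivial -/
theorem eq_zero_or_eq_one_of_isIdempotentElem (Y : Scheme.{u}) [CompactSpace Y] [ConnectedSpace Y]
    (e : Γ(Y, ⊤)) (he : IsIdempotentElem e) : e = 0 ∨ e = 1 := by
  have hnil : ∀ e' : Γ(Y, ⊤), IsIdempotentElem e' → Y.basicOpen e' = ⊥ → e' = 0 := by
    intro e' he' h
    rw [← Scheme.isNilpotent_iff_basicOpen_eq_bot] at h
    obtain ⟨n, hn⟩ := h
    rcases n with _ | n
    · rw [pow_zero] at hn
      rw [← mul_one e', hn, mul_zero]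
    · rwa [he'.pow_succ_eq] at hn
  have h1 : Y.basicOpen e ⊓ Y.basicOpen (1 - e) = ⊥ := by
    rw [← Scheme.basicOpen_mul, mul_sub, mul_one, he.eq, sub_self, Scheme.basicOpen_zero]
  have h2 : ∀ y : Y, y ∈ Y.basicOpen e ∨ y ∈ Y.basicOpen (1 - e) := by
    intro y
    rw [Scheme.mem_basicOpen_top, Scheme.mem_basicOpen_top]
    apply IsLocalRing.isUnit_or_isUnit_of_add_one
    rw [← map_add, add_sub_cancel, map_one]
  have hcompl : ((Y.basicOpen e : Set Y))ᶜ = (Y.basicOpen (1 - e) : Set Y) := by
    ext y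
    constructor
    · intro hy
      exact (h2 y).resolve_left hy
    · intro hy hy'
      have : y ∈ Y.basicOpen e ⊓ Y.basicOpen (1 - e) := ⟨hy', hy⟩
      rw [h1] at this
      exact this
  have hclopen : IsClopen (Y.basicOpen e : Set Y) :=
    ⟨⟨by rw [hcompl]; exact (Y.basicOpen (1 - e)).2⟩, (Y.basicOpen e).2⟩
  rcases isClopen_iff.mp hclopen with h | h
  · left
    apply hnil e he
    ext y
    simp [h]
  · right
    have h3 : Y.basicOpen (1 - e) = ⊥ := by
      apply SetLike.coe_injective
      rw [← hcompl, h, Set.compl_univ]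
      rfl
    have := hnil (1 - e) he.one_sub h3
    exact (sub_eq_zero.mp this).symm

/-- `Spec` of an integral ring map induces an integral map on global sections -/
theorem isIntegral_appTop_SpecMap {R S : CommRingCat.{u}} (φ : R ⟶ S) (h : φ.hom.IsIntegral) :
    (Spec.map φ).appTop.hom.IsIntegral := by
  have h1 : (Spec.map φ).appTop = (Scheme.ΓSpecIso R).hom ≫ φ ≫ (Scheme.ΓSpecIso S).inv := by
    rw [← Scheme.ΓSpecIso_naturality_assoc, Iso.hom_inv_id, Category.comp_id]
  rw [h1]
  change (((Scheme.ΓSpecIso S).inv.hom.comp φ.hom).comp (Scheme.ΓSpecIso R).hom.hom).IsIntegral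
  refine RingHom.IsIntegral.trans _ _ (RingHom.isIntegral_of_surjective _
    (ConcreteCategory.bijective_of_isIso (Scheme.ΓSpecIso R).hom).2) ?_
  exact RingHom.IsIntegral.trans _ _ h (RingHom.isIntegral_of_surjective _
    (ConcreteCategory.bijective_of_isIso (Scheme.ΓSpecIso S).inv).2)

/-- **Geometric connectedness of a proper `k`-scheme** in terms of its ring of global
functions. -/
theorem geometricallyConnected_iff_local (k : Type u) [Field k] {X : Scheme.{u}}
    (f : X ⟶ Spec (CommRingCat.of k)) [IsProper f] :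
    GeometricallyConnected f ↔
      (IsLocalRing Γ(X, ⊤) ∧ ringKrullDim Γ(X, ⊤) = 0 ∧
        ∀ a : Γ(X, ⊤), ∃ (n : ℕ) (c : k),
          IsNilpotent (a ^ (ringExpChar k ^ n) -
            f.appTop.hom ((Scheme.ΓSpecIso (CommRingCat.of k)).inv.hom c))) := by
  haveI : CompactSpace X := QuasiCompact.compactSpace_of_compactSpace f
  haveI : QuasiSeparatedSpace X := quasiSeparatedSpace_of_quasiSeparated f
  have hR : IsField Γ(Spec (CommRingCat.of k), ⊤) := isField_Γ_Spec k
  letI : Field Γ(Spec (CommRingCat.of k), ⊤) := hR.toField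
  letI algA : Algebra Γ(Spec (CommRingCat.of k), ⊤) Γ(X, ⊤) := f.appTop.hom.toAlgebra
  let e₁ : Γ(Spec (CommRingCat.of k), ⊤) ≃+* k :=
    (Scheme.ΓSpecIso (CommRingCat.of k)).commRingCatIsoToRingEquiv
  haveI : ExpChar k (ringExpChar k) := ringExpChar.expChar k
  haveI : ExpChar Γ(Spec (CommRingCat.of k), ⊤) (ringExpChar k) :=
    expChar_of_injective_ringHom (f := e₁.symm.toRingHom) e₁.symm.injective (ringExpChar k)
  constructor
  · intro hgc
    let K := AlgebraicClosure k
    let q : Spec (CommRingCat.of K) ⟶ Spec (CommRingCat.of k) :=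
      Spec.map (CommRingCat.ofHom (algebraMap k K))
    have H : IsPullback (pullback.fst f q) (pullback.snd f q) f q := IsPullback.of_hasPullback f q
    haveI : Flat q := by
      rw [Flat.SpecMap_iff]
      exact (RingHom.flat_algebraMap_iff (R := k) (S := K)).mpr inferInstance
    haveI : CompactSpace ↥(pullback f q) :=
      QuasiCompact.compactSpace_of_compactSpace (pullback.snd f q)
    haveI hconn : ConnectedSpace ↥(pullback f q) :=
      pullback_of_geometrically (GeometricallyConnected.geometrically_connectedSpace) K q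
    haveI : Nonempty ↥(pullback f q) := inferInstance
    haveI : Nonempty X := ⟨(pullback.fst f q) (Classical.arbitrary _)⟩
    haveI : Nonempty ↥(⊤ : X.Opens) := ⟨⟨Classical.arbitrary _, trivial⟩⟩
    haveI : Nonempty ↥(⊤ : (pullback f q).Opens) := ⟨⟨Classical.arbitrary _, trivial⟩⟩
    haveI : Nontrivial Γ(X, ⊤) := inferInstance
    haveI : Nontrivial Γ(pullback f q, ⊤) := inferInstance
    have hK' : IsField Γ(Spec (CommRingCat.of K), ⊤) := isField_Γ_Spec K
    letI : Field Γ(Spec (CommRingCat.of K), ⊤) := hK'.toField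
    haveI : IsAlgClosed Γ(Spec (CommRingCat.of K), ⊤) :=
      IsAlgClosed.of_ringEquiv K _
        (Scheme.ΓSpecIso (CommRingCat.of K)).commRingCatIsoToRingEquiv.symm
    letI algK : Algebra Γ(Spec (CommRingCat.of k), ⊤) Γ(Spec (CommRingCat.of K), ⊤) :=
      q.appTop.hom.toAlgebra
    letI algB : Algebra Γ(Spec (CommRingCat.of k), ⊤) Γ(pullback f q, ⊤) :=
      ((pullback.fst f q).appTop.hom.comp f.appTop.hom).toAlgebra
    let φ : Γ(X, ⊤) →ₐ[Γ(Spec (CommRingCat.of k), ⊤)] Γ(pullback f q, ⊤) :=
      { (pullback.fst f q).appTop.hom with commutes' := fun r => rfl }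
    let ι : Γ(Spec (CommRingCat.of K), ⊤) →ₐ[Γ(Spec (CommRingCat.of k), ⊤)] Γ(pullback f q, ⊤) :=
      { (pullback.snd f q).appTop.hom with
        commutes' := fun r => by
          have h1 : q.appTop ≫ (pullback.snd f q).appTop =
              f.appTop ≫ (pullback.fst f q).appTop := by
            rw [← Scheme.Hom.comp_appTop, ← Scheme.Hom.comp_appTop, H.w]
          exact congrArg (fun t => t.hom r) h1 }
    have hinj : Function.Injective (Algebra.TensorProduct.productMap φ ι) :=
      injective_productMap H φ ι rfl rfl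
    haveI : Algebra.IsAlgebraic Γ(Spec (CommRingCat.of k), ⊤) Γ(Spec (CommRingCat.of K), ⊤) := by
      haveI : Algebra.IsIntegral Γ(Spec (CommRingCat.of k), ⊤) Γ(Spec (CommRingCat.of K), ⊤) :=
        ⟨isIntegral_appTop_SpecMap (CommRingCat.ofHom (algebraMap k K))
          (algebraMap_isIntegral_iff.mpr inferInstance)⟩
      exact Algebra.IsIntegral.isAlgebraic
    have hint1 : (pullback.snd f q).appTop.hom.IsIntegral :=
      isIntegral_appTop_of_universallyClosed (pullback.snd f q)
    have hH : ∀ a : Γ(X, ⊤), ∃ α : Γ(Spec (CommRingCat.of K), ⊤),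
        IsNilpotent (a ⊗ₜ[Γ(Spec (CommRingCat.of k), ⊤)] (1 : Γ(Spec (CommRingCat.of K), ⊤)) -
          (1 : Γ(X, ⊤)) ⊗ₜ[Γ(Spec (CommRingCat.of k), ⊤)] α) := by
      intro a
      obtain ⟨α, hα⟩ := exists_isNilpotent_sub_of_isIntegral_of_isAlgClosed
        (pullback.snd f q).appTop.hom hint1
        (eq_zero_or_eq_one_of_isIdempotentElem (pullback f q)) (φ a)
      refine ⟨α, (IsNilpotent.map_iff hinj).mp ?_⟩
      rw [map_sub, Algebra.TensorProduct.productMap_apply_tmul,
        Algebra.TensorProduct.productMap_apply_tmul, map_one, map_one, mul_one, one_mul]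
      exact hα
    have hdesc := exists_pow_sub_nilpotent_of_tensor (ringExpChar k) hH
    obtain ⟨hloc, hdim⟩ := isLocalRing_of_forall_pow_sub_nilpotent
      (algebraMap Γ(Spec (CommRingCat.of k), ⊤) Γ(X, ⊤)) (fun a => by
        obtain ⟨n, c, hc⟩ := hdesc a
        exact ⟨ringExpChar k ^ n, c, expChar_pow_pos k (ringExpChar k) n, hc⟩)
    refine ⟨hloc, hdim, fun a => ?_⟩
    obtain ⟨n, r, hr⟩ := hdesc a
    refine ⟨n, e₁ r, ?_⟩
    have : (Scheme.ΓSpecIso (CommRingCat.of k)).inv.hom (e₁ r) = r := e₁.symm_apply_apply r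
    rw [this]
    exact hr
  · rintro ⟨hloc, -, hH⟩
    haveI : Nontrivial Γ(X, ⊤) := hloc.toNontrivial
    haveI : Nonempty X := by
      by_contra hne
      rw [not_nonempty_iff] at hne
      have : (⊤ : X.Opens) = ⊥ := by
        ext x
        exact (hne.false x).elim
      haveI : Subsingleton Γ(X, ⊤) := by rw [this]; infer_instance
      exact not_subsingleton Γ(X, ⊤) inferInstance
    have hH' : ∀ a : Γ(X, ⊤), ∃ (n : ℕ) (c : Γ(Spec (CommRingCat.of k), ⊤)),
        IsNilpotent (a ^ ringExpChar k ^ n - algebraMap Γ(Spec (CommRingCat.of k), ⊤) Γ(X, ⊤) c) := by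
      intro a
      obtain ⟨n, c, hc⟩ := hH a
      exact ⟨n, (Scheme.ΓSpecIso (CommRingCat.of k)).inv.hom c, hc⟩
    rw [geometricallyConnected_iff, geometrically_iff_of_commRing_of_isClosedUnderIsomorphisms]
    intro K _ _
    let q : Spec (CommRingCat.of K) ⟶ Spec (CommRingCat.of k) :=
      Spec.map (CommRingCat.ofHom (algebraMap k K))
    change ConnectedSpace ↥(pullback f q)
    have H : IsPullback (pullback.fst f q) (pullback.snd f q) f q := IsPullback.of_hasPullback f q
    haveI : Flat q := by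
      rw [Flat.SpecMap_iff]
      exact (RingHom.flat_algebraMap_iff (R := k) (S := K)).mpr inferInstance
    haveI : Nonempty ↥(pullback f q) := by
      obtain ⟨x⟩ := ‹Nonempty X›
      obtain ⟨z, -, -⟩ := Scheme.Pullback.exists_preimage_pullback (f := f) (g := q) x
        (default : PrimeSpectrum K) (Subsingleton.elim (α := PrimeSpectrum k) _ _)
      exact ⟨z⟩
    haveI : Nonempty ↥(⊤ : (pullback f q).Opens) := ⟨⟨Classical.arbitrary _, trivial⟩⟩
    haveI : Nontrivial Γ(pullback f q, ⊤) := inferInstance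
    have hK' : IsField Γ(Spec (CommRingCat.of K), ⊤) := isField_Γ_Spec K
    letI : Field Γ(Spec (CommRingCat.of K), ⊤) := hK'.toField
    letI algK : Algebra Γ(Spec (CommRingCat.of k), ⊤) Γ(Spec (CommRingCat.of K), ⊤) :=
      q.appTop.hom.toAlgebra
    letI algB : Algebra Γ(Spec (CommRingCat.of k), ⊤) Γ(pullback f q, ⊤) :=
      ((pullback.fst f q).appTop.hom.comp f.appTop.hom).toAlgebra
    let φ : Γ(X, ⊤) →ₐ[Γ(Spec (CommRingCat.of k), ⊤)] Γ(pullback f q, ⊤) :=
      { (pullback.fst f q).appTop.hom with commutes' := fun r => rfl }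
    let ι : Γ(Spec (CommRingCat.of K), ⊤) →ₐ[Γ(Spec (CommRingCat.of k), ⊤)] Γ(pullback f q, ⊤) :=
      { (pullback.snd f q).appTop.hom with
        commutes' := fun r => by
          have h1 : q.appTop ≫ (pullback.snd f q).appTop =
              f.appTop ≫ (pullback.fst f q).appTop := by
            rw [← Scheme.Hom.comp_appTop, ← Scheme.Hom.comp_appTop, H.w]
          exact congrArg (fun t => t.hom r) h1 }
    have hbij : Function.Bijective (Algebra.TensorProduct.productMap φ ι) :=
      bijective_productMap H φ ι rfl rfl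
    haveI : IsLocalRing (Γ(X, ⊤) ⊗[Γ(Spec (CommRingCat.of k), ⊤)] Γ(Spec (CommRingCat.of K), ⊤)) :=
      isLocalRing_tensor (ringExpChar k) hH'
    haveI : IsLocalRing Γ(pullback f q, ⊤) :=
      IsLocalRing.of_surjective' (Algebra.TensorProduct.productMap φ ι).toRingHom hbij.2
    haveI := preconnectedSpace_of_isLocalRing (pullback f q)
    exact ConnectedSpace.mk inferInstance

end Groth.Agent.Lib.T2H9.GammaLoc
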