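import Mathlib
import Groth.Agent.Lib.T2H9GammaLoc
import Groth.Agent.Lib.T2H7HensCouple
import Groth.Agent.Lib.T2H6AmpleCrit
import Groth.Agent.Lib.T2H5T2Les
import Groth.Agent.Lib.Helper27PnSections
set_option backward.isDefEq.respectTransparency.types false

/-!
# Connectedness of closed subschemes from cohomology vanishing of the ideal (T2H6)

* `connectedSpace_of_bijective_appTop`: if `f : Z ⟶ X` induces a bijection on global functions and `X`
  is quasi-compact and connected, then `Z` is connected.
* `bijective_toSubscheme_app_top`: if `H^0(X, I) = 0 = H^1(X, I)` then `Γ(X, O_X) → Γ(Z, O_Z)` is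
  bijective, `Z` the closed subscheme defined by `I`.
* `connectedSpace_subscheme_of_vanishing`: the combination.
-/

set_option autoImplicit false
set_option linter.style.haveILetI false
set_option linter.unusedSectionVars false
universe u

open CategoryTheory TopCat TopologicalSpace Opposite AlgebraicGeometry Limits

namespace Groth.Agent.Lib.T2H6.NegVan

/-- if `f : Z ⟶ X` induces a bijection on global functions and `X` is quasi-compact and connected,
then `Z` is connected. -/
theorem connectedSpace_of_bijective_appTop {X Z : Scheme.{u}} (f : Z ⟶ X) [CompactSpace X]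
    [ConnectedSpace X] (hf : Function.Bijective f.appTop.hom) : ConnectedSpace Z := by
  haveI : Nonempty Z := by
    by_contra hne
    rw [not_nonempty_iff] at hne
    haveI : Subsingleton Γ(Z, ⊤) := by
      have : (⊤ : Z.Opens) = ⊥ := by
        ext z
        exact (hne.false z).elim
      rw [this]
      infer_instance
    have h10 : (1 : Γ(X, ⊤)) = 0 := hf.1 (Subsingleton.elim _ _)
    haveI : Nonempty ↥(⊤ : X.Opens) := ⟨⟨Classical.arbitrary X, trivial⟩⟩
    haveI : Nontrivial Γ(X, ⊤) := inferInstance
    exact one_ne_zero h10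
  haveI : PreconnectedSpace Z := by
    rw [preconnectedSpace_iff_clopen]
    intro U hU
    obtain ⟨e', he', hU'⟩ := Groth.Agent.Lib.T2H7.HensCouple.exists_idem_of_isClopen Z U hU
    obtain ⟨a, rfl⟩ := hf.2 e'
    have ha : IsIdempotentElem a := by
      apply hf.1
      rw [map_mul]
      exact he'.eq
    rcases Groth.Agent.Lib.T2H9.GammaLoc.eq_zero_or_eq_one_of_isIdempotentElem X a ha with h | h
    · left
      rw [← hU', h, map_zero, Scheme.basicOpen_zero]
      rfl
    · right
      rw [← hU', h, map_one, Scheme.basicOpen_of_isUnit _ isUnit_one]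
      rfl
  exact ⟨inferInstance⟩

section Coh

variable (k : Type u) [Field k] {X : Scheme.{u}} [X.Over (Spec (CommRingCat.of k))]

open Groth.Agent.Lib.T2H5.HHLes Groth.Agent.Lib.T2H5.T2Les Groth.Agent.Lib.T2H6.AmpleCrit
  Groth.Agent.Lib.Helper23.GenLocus

include k in
theorem hh0Equiv_HHlin {Q P : X.Modules} (σ : Q ⟶ P) (y : Coh.HH X Q 0) :
    Groth.Agent.Lib.Helper27PnSections.hh0Equiv X P (Canon.HHlin k σ 0 y) =
      σ.app ⊤ (Groth.Agent.Lib.Helper27PnSections.hh0Equiv X Q y) := by
  change Sheaf.H.equiv₀ _ _ (Sheaf.H.map ((SheafOfModules.toSheaf X.ringCatSheaf).map σ) 0 y) = _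
  rw [← Sheaf.H.equiv₀_naturality]
  rfl

include k in
/-- if `H^0(X, I) = 0 = H^1(X, I)` then `Γ(X, O_X) → Γ(X, O_X/I)` is bijective. -/
theorem bijective_toSubscheme_app_top (I : X.IdealSheafData)
    (h0 : Subsingleton (Coh.HH X (ClSub.idealMod I) 0))
    (h1 : Subsingleton (Coh.HH X (ClSub.idealMod I) 1)) :
    Function.Bijective ((ClSub.toSubscheme I).app ⊤) := by
  have hS := idealSC_shortExact I
  have hinj : Function.Injective (Canon.HHlin k (idealSC I).g 0) := by
    rw [← LinearMap.ker_eq_bot, exact₂ (A := k) (idealSC I) hS 0, LinearMap.range_eq_bot]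
    ext x
    have hx : x = 0 := Subsingleton.elim (α := Coh.HH X (ClSub.idealMod I) 0) _ _
    rw [hx, map_zero]
    rfl
  have hsurj : Function.Surjective (Canon.HHlin k (idealSC I).g 0) := by
    rw [← LinearMap.range_eq_top, ← exact₃ (A := k) (idealSC I) hS 0, LinearMap.ker_eq_top]
    ext x
    exact Subsingleton.elim (α := Coh.HH X (ClSub.idealMod I) (0 + 1)) _ _
  have hcomm : ∀ y, Groth.Agent.Lib.Helper27PnSections.hh0Equiv X _
      (Canon.HHlin k (ClSub.toSubscheme I) 0 y) =
      (ClSub.toSubscheme I).app ⊤ (Groth.Agent.Lib.Helper27PnSections.hh0Equiv X _ y) :=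
    fun y => hh0Equiv_HHlin k (ClSub.toSubscheme I) y
  constructor
  · intro a b hab
    obtain ⟨a', rfl⟩ := (Groth.Agent.Lib.Helper27PnSections.hh0Equiv X _).surjective a
    obtain ⟨b', rfl⟩ := (Groth.Agent.Lib.Helper27PnSections.hh0Equiv X _).surjective b
    rw [← hcomm, ← hcomm] at hab
    rw [hinj ((Groth.Agent.Lib.Helper27PnSections.hh0Equiv X _).injective hab)]
  · intro c
    obtain ⟨c', rfl⟩ := (Groth.Agent.Lib.Helper27PnSections.hh0Equiv X _).surjective c
    obtain ⟨y, rfl⟩ := hsurj c'
    exact ⟨_, (hcomm y).symm⟩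

include k in
/-- if `H^0(X, I) = 0 = H^1(X, I)` and `X` is quasi-compact and connected then the closed subscheme
defined by `I` is connected. -/
theorem connectedSpace_subscheme_of_vanishing [CompactSpace X] [ConnectedSpace X]
    (I : X.IdealSheafData)
    (h0 : Subsingleton (Coh.HH X (ClSub.idealMod I) 0))
    (h1 : Subsingleton (Coh.HH X (ClSub.idealMod I) 1)) : ConnectedSpace ↥I.subscheme := by
  apply connectedSpace_of_bijective_appTop I.subschemeι
  have hb := bijective_toSubscheme_app_top k I h0 h1
  constructor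
  · intro a b hab
    have : (ClSub.toSubscheme I).app ⊤ (toS ⊤ a) = (ClSub.toSubscheme I).app ⊤ (toS ⊤ b) := by
      rw [toSubscheme_app, toSubscheme_app]
      exact congrArg (toS _) hab
    exact hb.1 this
  · intro c
    obtain ⟨a, ha⟩ := hb.2 (toS (I.subschemeι ⁻¹ᵁ ⊤) c)
    refine ⟨ofS ⊤ a, ?_⟩
    have h2 := toSubscheme_app I ⊤ (ofS ⊤ a)
    rw [toS_ofS, ha] at h2
    exact (congrArg (ofS _) h2).symm

end Coh

end Groth.Agent.Lib.T2H6.NegVan
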