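import Mathlib
import Groth.Agent.Lib.T2H6NegVanD
import Groth.Agent.Lib.T2H6NegVanE
import Groth.Agent.Lib.T2H6NegVanF
import Groth.Agent.Lib.T2H4AmpleFamRes
import Groth.Agent.Lib.T2H5GenIsoF
import Groth.Agent.Lib.Helper23UnitStalk
set_option backward.isDefEq.respectTransparency.types false

/-!
# Connectedness of ample divisors (T2H6)

`connectedSpace_zeroScheme`: `X` proper and connected over a field with `depth O_{X,x} ≥ 2` at all closed
points, `L` ample, `s` a regular section of `L`; then `Z(s)` is connected.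
-/

set_option autoImplicit false
set_option linter.style.haveILetI false
set_option linter.unusedSectionVars false
universe u

open CategoryTheory TopCat TopologicalSpace Opposite AlgebraicGeometry Limits

namespace Groth.Agent.Lib.T2H6.NegVan

open Groth.Agent.Lib.T2H5.Twist Groth.Agent.Lib.T2H6.TensorPows

/-- closed subschemes with the same support are connected together. -/
theorem connectedSpace_subscheme_of_support_eq {X : Scheme.{u}} (I I' : X.IdealSheafData)
    (h : (I.support : Set X) = (I'.support : Set X)) (hc : ConnectedSpace ↥I.subscheme) :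
    ConnectedSpace ↥I'.subscheme := by
  have h1 : _root_.IsConnected (Set.range I.subschemeι) := isConnected_range I.subschemeι.continuous
  rw [I.range_subschemeι, h, ← I'.range_subschemeι, ← Set.image_univ] at h1
  rw [connectedSpace_iff_univ]
  refine ⟨?_, ?_⟩
  · obtain ⟨y, z, -, -⟩ := h1.1
    exact ⟨z, trivial⟩
  · exact (I'.subschemeι.isEmbedding.isInducing.isPreconnected_image).1 h1.2

variable (k : Type u) [Field k] {X : Scheme.{u}} [X.Over (Spec (CommRingCat.of k))]
  [IsProper (X ↘ Spec (CommRingCat.of k))]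

include k in
/-- `X` proper and connected over a field with `depth O_{X,x} ≥ 2` at all closed points, `L` ample, `s` a
regular section of `L`; then `Z(s)` is connected. -/
theorem connectedSpace_zeroScheme [ConnectedSpace X] (L : X.Modules) (hL : CohB1.IsAmple L)
    (s : Coh.structureModule X ⟶ L) (hs : Mono s)
    (hdepth : ∀ x : X, IsClosed ({x} : Set X) →
      2 ≤ LocCoh.depth (X.presheaf.stalk x) (X.presheaf.stalk x)) :
    ConnectedSpace ↥(PicF2.zeroScheme L s).subscheme := by
  haveI := hs
  have hLi : PicF.IsInvertible L := hL.1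
  haveI : CompactSpace X := hL.2.1
  let M : X.Modules := Groth.Agent.Lib.T2H4.AmpleFamRes.inv L
  have eLM : CohB1.tensorMod L M ≅ Coh.structureModule X :=
    Groth.Agent.Lib.T2H4.AmpleFamRes.tensorInvIso L hLi
  have eML : CohB1.tensorMod M L ≅ Coh.structureModule X := braidIso M L ≪≫ eLM
  have hMi : PicF.IsInvertible M := Groth.Agent.Lib.Helper2.TensorInv.isInvertible_of_tensor_iso M L eML
  have hO : Coh.IsCoh (Coh.structureModule X) := Groth.Agent.Lib.T2H5.GenIsoF.isCoh_structureModule
  obtain ⟨m₀, h⟩ := exists_forall_subsingleton_HH_le k L hL M ⟨eLM⟩ (Coh.structureModule X) hO 1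
    (fun x hx => by
      have h1 : LocCoh.depth (X.presheaf.stalk x) ((Coh.structureModule X).presheaf.stalk x) =
          LocCoh.depth (X.presheaf.stalk x) (X.presheaf.stalk x) :=
        Groth.Agent.Lib.Helper28.idealDepth_congr
          (Groth.Agent.Lib.Helper23.UnitStalk.unitStalkEquiv x).symm _
      rw [h1]
      exact lt_of_lt_of_le (by norm_num) (hdepth x hx))
  have hq : 0 < m₀ + 1 := Nat.succ_pos _
  have hLq := Groth.Agent.Lib.Helper23.SecTw.isInvertible_tensorPow hLi (m₀ + 1)
  haveI := mono_powHom L hLi s (m₀ + 1)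
  obtain ⟨a⟩ := nonempty_tensor_idealMod_zeroScheme_iso (CohB1.tensorPow L (m₀ + 1)) hLq
    (SecTwist.powHom s (m₀ + 1))
  obtain ⟨e1⟩ := Groth.Agent.Lib.Helper23.SecTw.nonempty_tensorPow_tensorMod_iso M L hMi hLi (m₀ + 1)
  have b : CohB1.tensorMod (CohB1.tensorPow M (m₀ + 1)) (CohB1.tensorPow L (m₀ + 1)) ≅
      Coh.structureModule X :=
    e1 ≪≫ Groth.Agent.Lib.Helper23.AmpleIso.tensorPowIso eML (m₀ + 1) ≪≫
      Groth.Agent.Lib.Helper23.TensorUnit.tensorPowUnitIso (m₀ + 1)
  have c : CohB1.tensorMod (CohB1.tensorPow L (m₀ + 1)) (CohB1.tensorPow M (m₀ + 1)) ≅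
      Coh.structureModule X := braidIso _ _ ≪≫ b
  have eJ : ClSub.idealMod (PicF2.zeroScheme (CohB1.tensorPow L (m₀ + 1))
      (SecTwist.powHom s (m₀ + 1))) ≅
      CohB1.tensorMod (Coh.structureModule X) (CohB1.tensorPow M (m₀ + 1)) :=
    isoOfInverse a b c ≪≫ (Groth.Agent.Lib.Helper23.TensorUnit.unitTensorIso _).symm
  have h0 := (Groth.Agent.Lib.T2H6.FieldBC.subsingleton_HH_iff_of_iso k X eJ 0).2
    (h (m₀ + 1) (Nat.le_succ _) 0 (by omega))
  have h1 := (Groth.Agent.Lib.T2H6.FieldBC.subsingleton_HH_iff_of_iso k X eJ 1).2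
    (h (m₀ + 1) (Nat.le_succ _) 1 le_rfl)
  have hconn := connectedSpace_subscheme_of_vanishing k _ h0 h1
  refine connectedSpace_subscheme_of_support_eq _ _ ?_ hconn
  rw [support_zeroScheme _ hLq, support_zeroScheme L hLi,
    Groth.Agent.Lib.Helper23.SecTw.genLocus_powHom hLi s (m₀ + 1) hq]

end Groth.Agent.Lib.T2H6.NegVan
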