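import Groth.Agent.Lib.T2H5T2Main
import Groth.Agent.Lib.T2H5T2Coh
import Groth.Agent.Lib.Helper4NormFinite
import Groth.Agent.Lib.T2H5GenIsoF

/-!
# Finiteness of the relative normalization of a proper morphism (Stein factorization, finite part)
(helper9, S1297) — via helper5's finiteness theorem.
-/

set_option autoImplicit false
set_option linter.style.haveILetI false
set_option linter.unusedSectionVars false
set_option linter.unusedVariables false
universe u
open CategoryTheory AlgebraicGeometry Limits TopologicalSpace Opposite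

namespace Groth.Agent.Lib.T2H9.SteinFinite

open Groth.Agent.Lib.T2H5.T2Coh Groth.Agent.Lib.Helper27PnSections

variable {X S : Scheme.{u}} (f : X ⟶ S)

theorem isProper_g₀ [IsProper f] {U : S.Opens} (hU : IsAffineOpen U) :
    IsProper (g₀ f (U := U)) := by
  have h : (f ∣_ U) ≫ hU.isoSpec.hom = g₀ f (U := U) := by
    apply eq_g₀ f hU
    rw [Category.assoc, IsAffineOpen.fromSpec, Iso.hom_inv_id_assoc, morphismRestrict_ι]
  rw [← h]
  infer_instance

theorem finite_sections_aux (U : S.Opens)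
    (h : letI inst : (↑(f ⁻¹ᵁ U) : Scheme.{u}).Over (Spec (CommRingCat.of Γ(S, U))) := ⟨g₀ f⟩
      Module.Finite Γ(S, U) (Coh.HH (↑(f ⁻¹ᵁ U) : Scheme.{u}) (Coh.structureModule _) 0)) :
    letI := (f.app U).hom.toAlgebra
    Module.Finite Γ(S, U) Γ(X, f ⁻¹ᵁ U) := by
  letI := (f.app U).hom.toAlgebra
  letI inst : (↑(f ⁻¹ᵁ U) : Scheme.{u}).Over (Spec (CommRingCat.of Γ(S, U))) := ⟨g₀ f⟩
  let e0 := hh0Equiv (↑(f ⁻¹ᵁ U) : Scheme.{u}) (Coh.structureModule _)
  let T : Γ((↑(f ⁻¹ᵁ U) : Scheme.{u}), ⊤) ≃+* Γ(X, f ⁻¹ᵁ U) :=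
    (f ⁻¹ᵁ U).topIso.commRingCatIsoToRingEquiv
  let ψ : Coh.HH (↑(f ⁻¹ᵁ U) : Scheme.{u}) (Coh.structureModule _) 0 →ₗ[Γ(S, U)]
      Γ(X, f ⁻¹ᵁ U) :=
    { toFun := fun x => T (e0 x)
      map_add' := fun x y => by
        rw [map_add]
        exact map_add T _ _
      map_smul' := fun b x => by
        have h2 : e0 (b • x) = (Coh.smulAb (Coh.structureModule _)
            (Coh.toGlobal ((↑(f ⁻¹ᵁ U) : Scheme.{u}) ↘ Spec (CommRingCat.of Γ(S, U))) b)).hom.app
              (op ⊤) (e0 x) := hh0Equiv_smul _ _ _ x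
        rw [h2, Coh.smulAb_app, resTop_top]
        have key : ∀ (r m : Γ((↑(f ⁻¹ᵁ U) : Scheme.{u}), ⊤)), T (r * m) = T r * T m := map_mul T
        refine (key (Coh.toGlobal (g₀ f (U := U)) b) (e0 x)).trans ?_
        rw [toGlobal_g₀]
        change T ((f ⁻¹ᵁ U).topIso.inv.hom ((f.app U).hom b)) * T (e0 x) =
          (f.app U).hom b * T (e0 x)
        congr 1
        change ((f ⁻¹ᵁ U).topIso.inv ≫ (f ⁻¹ᵁ U).topIso.hom).hom ((f.app U).hom b) = _
        rw [Iso.inv_hom_id]
        rfl }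
  have hψ : Function.Surjective ψ := fun m => by
    refine ⟨e0.symm (T.symm m), ?_⟩
    change T (e0 (e0.symm (T.symm m))) = m
    rw [e0.apply_symm_apply]
    exact T.apply_symm_apply m
  exact Module.Finite.of_surjective ψ hψ

/-- sections of a proper morphism over an affine open of a locally Noetherian base form a finite
module -/
theorem finite_sections_of_isProper [IsProper f] [IsLocallyNoetherian S] (U : S.Opens)
    (hU : IsAffineOpen U) :
    letI := (f.app U).hom.toAlgebra
    Module.Finite Γ(S, U) Γ(X, f ⁻¹ᵁ U) := by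
  haveI : IsNoetherianRing Γ(S, U) := IsLocallyNoetherian.component_noetherian ⟨U, hU⟩
  apply finite_sections_aux f U
  letI inst : (↑(f ⁻¹ᵁ U) : Scheme.{u}).Over (Spec (CommRingCat.of Γ(S, U))) := ⟨g₀ f⟩
  haveI : IsProper ((↑(f ⁻¹ᵁ U) : Scheme.{u}) ↘ Spec (CommRingCat.of Γ(S, U))) :=
    isProper_g₀ f hU
  exact Groth.Agent.Lib.T2H5.T2Main.finite_HH_of_isProper Γ(S, U) (↑(f ⁻¹ᵁ U) : Scheme.{u})
    (Coh.structureModule _) Groth.Agent.Lib.T2H5.GenIsoF.isCoh_structureModule 0

/-- **Stein factorization, finiteness**: the relative normalization of a proper morphism to a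
locally Noetherian scheme is finite. -/
theorem isFinite_fromNormalization [IsProper f] [IsLocallyNoetherian S] :
    IsFinite f.fromNormalization := by
  apply Groth.Agent.Lib.Helper4.NormFinite.isFinite_fromNormalization_of_finite
  intro U hU
  letI := (f.app U).hom.toAlgebra
  haveI : IsNoetherianRing Γ(S, U) := IsLocallyNoetherian.component_noetherian ⟨U, hU⟩
  haveI := finite_sections_of_isProper f U hU
  haveI : IsNoetherian Γ(S, U) Γ(X, f ⁻¹ᵁ U) := isNoetherian_of_isNoetherianRing_of_finite _ _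
  exact Module.Finite.of_injective (integralClosure Γ(S, U) Γ(X, f ⁻¹ᵁ U)).val.toLinearMap
    Subtype.val_injective

end Groth.Agent.Lib.T2H9.SteinFinite
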