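import Groth.Agent.Lib.T2H9ConnGeom
import Groth.Agent.Lib.T2H9SteinFinite

/-!
# Fibres of the Stein factorisation (helper9)

For `f : X ⟶ Y` proper, `Y` locally Noetherian, `X → Y' = f.normalization → Y`:
`isIso_toNormalization_app` (`O_{Y'}(h⁻¹U) ≅ O_X(f⁻¹U)` for `U` affine, as `Γ(f⁻¹U)` is finite over `Γ(U)`),
`isProper_toNormalization`, `isLocallyNoetherian_normalization`, and
`isConnected_preimage_toNormalization`: the fibres of `X → Y'` are connected (Zariski's connectedness theorem,
`T2H9ConnGeom.connectedSpace_pullback`).
-/

set_option autoImplicit false
set_option linter.style.haveILetI false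
set_option linter.unusedSectionVars false
set_option linter.unusedVariables false
universe u
open CategoryTheory AlgebraicGeometry Limits TopologicalSpace Opposite

namespace Groth.Agent.Lib.T2H9.SteinFib

variable {X Y : Scheme.{u}} (f : X ⟶ Y) [IsProper f] [IsLocallyNoetherian Y]

theorem isIso_toNormalization_app (U : Y.Opens) (hU : IsAffineOpen U) :
    IsIso (f.toNormalization.app (f.fromNormalization ⁻¹ᵁ U)) := by
  letI := (f.app U).hom.toAlgebra
  haveI := Groth.Agent.Lib.T2H9.SteinFinite.finite_sections_of_isProper f U hU
  have htop : integralClosure Γ(Y, U) Γ(X, f ⁻¹ᵁ U) = ⊤ :=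
    integralClosure_eq_top_iff.2 inferInstance
  have h := f.toNormalization_app_preimage ⟨U, hU⟩
  dsimp only at h
  rw [h]
  refine @IsIso.comp_isIso _ _ _ _ _ _ _ inferInstance
    (@IsIso.comp_isIso _ _ _ _ _ _ _ ?_ inferInstance)
  rw [ConcreteCategory.isIso_iff_bijective]
  constructor
  · exact Subtype.val_injective
  · intro b
    exact ⟨⟨b, by rw [htop]; trivial⟩, rfl⟩

theorem isFinite_fromNormalization : IsFinite f.fromNormalization :=
  Groth.Agent.Lib.T2H9.SteinFinite.isFinite_fromNormalization f

theorem isProper_toNormalization : IsProper f.toNormalization := by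
  haveI := isFinite_fromNormalization f
  haveI : IsProper (f.toNormalization ≫ f.fromNormalization) := by
    rw [f.toNormalization_fromNormalization]; infer_instance
  exact IsProper.of_comp f.toNormalization f.fromNormalization

theorem isLocallyNoetherian_normalization : IsLocallyNoetherian f.normalization := by
  haveI := isFinite_fromNormalization f
  exact LocallyOfFiniteType.isLocallyNoetherian f.fromNormalization

/-- the fibres of the first map of the Stein factorisation are connected -/
theorem isConnected_preimage_toNormalization (y' : f.normalization) :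
    _root_.IsConnected (f.toNormalization.base ⁻¹' {y'}) := by
  haveI := isFinite_fromNormalization f
  haveI := isProper_toNormalization f
  haveI := isLocallyNoetherian_normalization f
  obtain ⟨U, hU, hyU, -⟩ := exists_isAffineOpen_mem_and_subset
    (x := f.fromNormalization.base y') (U := ⊤) (by trivial)
  have hV : IsAffineOpen (f.fromNormalization ⁻¹ᵁ U) := hU.preimage f.fromNormalization
  haveI : ConnectedSpace ↥(f.toNormalization.fiber y') :=
    Groth.Agent.Lib.T2H9.ConnGeom.connectedSpace_pullback f.toNormalization
      (f.normalization.residueField y') (f.normalization.fromSpecResidueField y')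
      (f.fromNormalization ⁻¹ᵁ U) hV (fun s => by
        rw [Scheme.fromSpecResidueField_apply]; exact hyU)
      (isIso_toNormalization_app f U hU)
  rw [← f.toNormalization.range_fiberι y']
  exact isConnected_range (f.toNormalization.fiberι y').continuous

end Groth.Agent.Lib.T2H9.SteinFib
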