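import Mathlib
import Groth.Agent.Lib.T2H6NegVanJ
import Groth.Agent.Lib.T2H9SteinFib
import Groth.Agent.Lib.Helper27TwistAmple2
import Groth.Agent.Lib.T2H5GlobGenPn
import Groth.Agent.Lib.Helper4EtNormalSch
set_option backward.isDefEq.respectTransparency.types false

/-!
# Connectedness of hyperplane sections (T2H6)

* `isConnected_compl_preimage_basicOpen_of_finite`: `φ : Y → P^r_k` finite, `Y` irreducible of dimension `≥ 2`;
  then `φ⁻¹(V(ℓ))` is connected for a linear form `ℓ` not vanishing identically on `Y`.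
* `isConnected_compl_preimage_basicOpen_of_proper`: `h : T → P^r_k` proper, `T` integral, the image of dimension
  `≥ 2`; then `h⁻¹(V(ℓ))` is connected (Stein factorisation).
-/

set_option autoImplicit false
set_option linter.style.haveILetI false
set_option linter.unusedSectionVars false
universe u

open CategoryTheory TopCat TopologicalSpace Opposite AlgebraicGeometry Limits

namespace Groth.Agent.Lib.T2H6.NegVan

open Groth.Agent.Lib.Helper23.SecTw Groth.Agent.Lib.Helper23.GenLocus Groth.Agent.Lib.Helper6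
  Groth.Agent.Lib.Helper23.PB Groth.Agent.Lib.Helper27GrTildeSect

section Hyperplane

variable (k : Type u) [Field k] (r : ℕ)

local notation "𝒢" => CohB1.polyGrading r k

/-- the family `ℓ, X_0, …, X_r` of linear forms. -/
noncomputable def linFam (ℓ : MvPolynomial (Fin (r + 1)) k) :
    Option (Fin (r + 1)) → MvPolynomial (Fin (r + 1)) k
  | none => ℓ
  | some i => MvPolynomial.X i

theorem linFam_mem {ℓ : MvPolynomial (Fin (r + 1)) k} (hℓ : ℓ ∈ 𝒢 1) (i : Option (Fin (r + 1))) :
    linFam k r ℓ i ∈ 𝒢 1 := by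
  cases i with
  | none => exact hℓ
  | some i => exact Groth.Agent.Lib.Helper27ProjGamma.hX r k i

theorem linFam_cover (ℓ : MvPolynomial (Fin (r + 1)) k) (y : Proj 𝒢) :
    ∃ i, linFam k r ℓ i ∉ (show ProjectiveSpectrum 𝒢 from y).asHomogeneousIdeal := by
  obtain ⟨i, hi⟩ := Groth.Agent.Lib.T2H5.GlobGenPn.hcovX r k y
  exact ⟨some i, hi⟩

/-- finite case. -/
theorem isConnected_compl_preimage_basicOpen_of_finite (Y : Scheme.{u}) [IrreducibleSpace Y]
    (φ : Y ⟶ CohB1.ProjSpace r k) [IsFinite φ]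
    (hdim : (2 : WithBot ℕ∞) ≤ topologicalKrullDim Y)
    (ℓ : MvPolynomial (Fin (r + 1)) k) (hℓ : ℓ ∈ 𝒢 1)
    (hne : ∃ y : Y, φ y ∈ Proj.basicOpen 𝒢 ℓ) :
    _root_.IsConnected (((φ ⁻¹ᵁ Proj.basicOpen 𝒢 ℓ : Y.Opens) : Set Y)ᶜ) := by
  haveI hP : IsProper (CohB1.ProjSpace.toSpec r k) :=
    Groth.Agent.S9705.isProper_projSpace_toSpec r k
  haveI : CompactSpace (Proj 𝒢) := Groth.Agent.Lib.T2H5.GlobGenPn.compactSpace r k
  have hamp : CohB1.IsAmple (GrTilde.tilde 𝒢 𝒢 ((1 : ℕ) : ℤ)) :=
    isAmple_of_cover 𝒢 1 (linFam k r ℓ) (linFam_mem k r hℓ) (linFam_cover k r ℓ) one_pos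
  let s₀ : Coh.structureModule (Proj 𝒢) ⟶ GrTilde.tilde 𝒢 𝒢 ((1 : ℕ) : ℤ) :=
    secHom (GrTilde.tilde 𝒢 𝒢 ((1 : ℕ) : ℤ)) (gsec 𝒢 1 ⊤ (linFam_mem k r hℓ none))
  have hgl₀ : CohB1.genLocus _ s₀ = Proj.basicOpen 𝒢 ℓ :=
    genLocus_secHom_gsec 𝒢 1 (linFam k r ℓ) (linFam_mem k r hℓ) (linFam_cover k r ℓ) none
  let φ' : Y ⟶ Proj 𝒢 := φ
  haveI : IsFinite φ' := ‹IsFinite φ›
  have hL' : CohB1.IsAmple ((Scheme.Modules.pullback φ').obj (GrTilde.tilde 𝒢 𝒢 ((1 : ℕ) : ℤ))) :=
    isAmple_pullback_of_isAffineHom φ' _ hamp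
  let e : Coh.structureModule Y ≅ (Scheme.Modules.pullback φ').obj (Coh.structureModule (Proj 𝒢)) :=
    (pullbackUnitIso φ').symm
  let s' : Coh.structureModule Y ⟶ (Scheme.Modules.pullback φ').obj _ :=
    e.hom ≫ (Scheme.Modules.pullback φ').map s₀
  have hgl : CohB1.genLocus _ s' = φ' ⁻¹ᵁ CohB1.genLocus _ s₀ := genLocus_pullback φ' _ hamp.1 s₀ e
  rw [hgl₀] at hgl
  have h' : ∃ y : Y, y ∈ CohB1.genLocus _ s' := by
    obtain ⟨y, hy⟩ := hne
    exact ⟨y, by rw [hgl]; exact hy⟩
  have h1 := isConnected_compl_genLocus_of_irreducible k Y (φ ≫ CohB1.ProjSpace.toSpec r k) hdim _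
    hL' s' h'
  rw [hgl] at h1
  exact h1

/-- proper case, via the Stein factorisation. -/
theorem isConnected_compl_preimage_basicOpen_of_proper (T : Scheme.{u}) [IsIntegral T]
    (h : T ⟶ CohB1.ProjSpace r k) [IsProper h]
    (hdim : (2 : WithBot ℕ∞) ≤ topologicalKrullDim ↥(closure (Set.range h.base)))
    (ℓ : MvPolynomial (Fin (r + 1)) k) (hℓ : ℓ ∈ 𝒢 1) :
    _root_.IsConnected ((h.base ⁻¹' (Proj.basicOpen 𝒢 ℓ).carrier)ᶜ) := by
  haveI hP : IsProper (CohB1.ProjSpace.toSpec r k) :=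
    Groth.Agent.S9705.isProper_projSpace_toSpec r k
  haveI : IsLocallyNoetherian (CohB1.ProjSpace r k) :=
    LocallyOfFiniteType.isLocallyNoetherian (CohB1.ProjSpace.toSpec r k)
  let Y : Scheme.{u} := h.normalization
  let π : T ⟶ Y := h.toNormalization
  let φ : Y ⟶ CohB1.ProjSpace r k := h.fromNormalization
  have hπφ : π ≫ φ = h := h.toNormalization_fromNormalization
  haveI : IsFinite φ := Groth.Agent.Lib.T2H9.SteinFib.isFinite_fromNormalization h
  haveI : IsProper π := Groth.Agent.Lib.T2H9.SteinFib.isProper_toNormalization h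
  haveI : IsIntegral Y := inferInstance
  have hπsurj : Function.Surjective π :=
    (surjective_of_isDominant_of_isClosed_range π π.isClosedMap.isClosed_range).surj
  have hfun : ∀ t : T, φ (π t) = h t := fun t => by
    rw [← Scheme.Hom.comp_apply, hπφ]
  have hrange : Set.range φ = Set.range h.base := by
    ext z
    constructor
    · rintro ⟨y, rfl⟩
      obtain ⟨t, rfl⟩ := hπsurj y
      exact ⟨t, (hfun t).symm⟩
    · rintro ⟨t, rfl⟩
      exact ⟨π t, hfun t⟩
  have hclosed : IsClosed (Set.range h.base) := by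
    rw [← hrange]; exact φ.isClosedMap.isClosed_range
  -- dimension of `Y`
  have hdimY : (2 : WithBot ℕ∞) ≤ topologicalKrullDim Y := by
    refine hdim.trans ?_
    haveI : QuasiSober ↥(closure (Set.range h.base)) :=
      isClosed_closure.isClosedEmbedding_subtypeVal.quasiSober
    let q : Y → ↥(closure (Set.range h.base)) := fun y =>
      ⟨φ y, subset_closure (hrange ▸ Set.mem_range_self y)⟩
    have hq : Function.Surjective q := by
      rintro ⟨z, hz⟩
      rw [hclosed.closure_eq, ← hrange] at hz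
      obtain ⟨y, rfl⟩ := hz
      exact ⟨y, rfl⟩
    have hqs : SpecializingMap q := by
      intro y z hyz
      have h1 : φ y ⤳ z.1 := (Topology.IsInducing.subtypeVal.specializes_iff).2 hyz
      obtain ⟨y', hy', hy'z⟩ := φ.isClosedMap.specializingMap h1
      exact ⟨y', hy', Subtype.ext hy'z⟩
    exact Groth.Agent.Lib.Helper7.topologicalKrullDim_le_of_specializingMap q hq hqs
  by_cases hne : ∃ y : Y, φ y ∈ Proj.basicOpen 𝒢 ℓ
  · have h1 := isConnected_compl_preimage_basicOpen_of_finite k r Y φ hdimY ℓ hℓ hne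
    have hcl : IsClosed (((φ ⁻¹ᵁ Proj.basicOpen 𝒢 ℓ : Y.Opens) : Set Y)ᶜ) :=
      (φ ⁻¹ᵁ Proj.basicOpen 𝒢 ℓ).isOpen.isClosed_compl
    have hco : Topology.IsCoinducing π :=
      (π.isClosedMap.isQuotientMap π.continuous hπsurj).isCoinducing
    have h2 := hco.isConnected_preimage_of_isClosed
      (fun y' => Groth.Agent.Lib.T2H9.SteinFib.isConnected_preimage_toNormalization h y') hcl h1
    convert h2 using 1
    ext t
    simp only [Set.mem_compl_iff, Set.mem_preimage]
    rw [← hfun t]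
    rfl
  · have huniv : (h.base ⁻¹' (Proj.basicOpen 𝒢 ℓ).carrier)ᶜ = Set.univ := by
      rw [Set.eq_univ_iff_forall]
      intro t ht
      apply hne
      exact ⟨π t, by rw [hfun t]; exact ht⟩
    rw [huniv]
    exact isConnected_univ

/-- hyperplane sections of connected finite étale covers of a normal proper irreducible scheme mapping to
`P^r_k` with image of dimension `≥ 2` are connected. -/
theorem isConnected_compl_preimage_basicOpen_of_finite_etale (X : Scheme.{u})
    (f : X ⟶ Spec (CommRingCat.of k)) [IsProper f] [IrreducibleSpace X]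
    (hN : Pi1.IsNormalScheme X) (g : X ⟶ CohB1.ProjSpace r k)
    (hg : g ≫ CohB1.ProjSpace.toSpec r k = f)
    (hdim : (2 : WithBot ℕ∞) ≤ topologicalKrullDim ↥(closure (Set.range g.base)))
    (ℓ : MvPolynomial (Fin (r + 1)) k) (hℓ : ℓ ∈ 𝒢 1)
    {T : Scheme.{u}} (p : T ⟶ X) [IsFinite p] [Etale p] [ConnectedSpace T] :
    _root_.IsConnected (((p ≫ g).base ⁻¹' (Proj.basicOpen 𝒢 ℓ).carrier)ᶜ) := by
  haveI hP : IsProper (CohB1.ProjSpace.toSpec r k) :=
    Groth.Agent.S9705.isProper_projSpace_toSpec r k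
  haveI : IsProper (g ≫ CohB1.ProjSpace.toSpec r k) := by rw [hg]; infer_instance
  haveI : IsProper g := IsProper.of_comp g (CohB1.ProjSpace.toSpec r k)
  haveI : ∀ x : X, _root_.IsReduced (X.presheaf.stalk x) := fun x => by
    haveI := (hN x).1
    infer_instance
  haveI : IsReduced X := isReduced_of_isReduced_stalk X
  haveI : IsIntegral X := isIntegral_of_irreducibleSpace_of_isReduced X
  obtain ⟨hT, -⟩ := Groth.Agent.Lib.Helper4.EtNormalSch.isIntegral_and_normal_of_finite_etale hN p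
  haveI := hT
  have hsurj : Function.Surjective p := by
    have hcl : IsClosed (Set.range p) := p.isClosedMap.isClosed_range
    have hop : IsOpen (Set.range p) := p.isOpenMap.isOpen_range
    have : Set.range p = Set.univ := IsClopen.eq_univ ⟨hcl, hop⟩ (Set.range_nonempty _)
    exact Set.range_eq_univ.1 this
  have hrange : Set.range (p ≫ g).base = Set.range g.base := by
    rw [Scheme.Hom.comp_base, TopCat.coe_comp, Set.range_comp]
    have : Set.range p.base = Set.univ := Set.range_eq_univ.2 hsurj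
    rw [this, Set.image_univ]
  exact isConnected_compl_preimage_basicOpen_of_proper k r T (p ≫ g) (by rw [hrange]; exact hdim) ℓ hℓ

end Hyperplane

end Groth.Agent.Lib.T2H6.NegVan
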