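import Mathlib
import Groth.Agent.Lib.T2H6AffComplA
import Groth.Agent.Lib.T2H6AffComplB
import Groth.Agent.Lib.T2H6NegVanK
import Groth.Agent.Lib.Helper4VarDim2
import Groth.Agent.Lib.Helper10RedInd
set_option backward.isDefEq.respectTransparency.types false

/-!
# The complement of an affine open in a proper irreducible surface is connected (T2H6)

`X` proper irreducible of dimension `≥ 2` over a field `k`, `U ⊆ X` a nonempty affine open.  Choose a closed
immersion `U → 𝔸^n = D_+(X_0) ⊆ P^n`, let `T` be the closure of the graph of `U → P^n` in `X × P^n`.  Then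
`T → P^n` is proper with image of dimension `≥ 2`, `T ∖ U` is the preimage of the hyperplane `X_0 = 0`,
hence connected (Stein factorisation + Enriques–Severi–Zariski), and `T ∖ U → X ∖ U` is surjective.
-/

set_option autoImplicit false
set_option linter.style.haveILetI false
universe u

open CategoryTheory AlgebraicGeometry Limits TopologicalSpace

namespace Groth.Agent.Lib.T2H6.AffCompl

open Groth.Agent.Lib.Helper4.VarDim

attribute [local instance] sectionsAlgebra

theorem isConnected_compl_affineOpen (k : Type u) [Field k] {X : Scheme.{u}}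
    (p : X ⟶ Spec (CommRingCat.of k)) [IsProper p] [IrreducibleSpace X]
    (hdim : (2 : WithBot ℕ∞) ≤ topologicalKrullDim X)
    (U : X.Opens) (hUaff : IsAffineOpen U) (hU : (U : Set X).Nonempty) :
    _root_.IsConnected ((U : Set X)ᶜ) := by
  letI : X.Over (Spec (CommRingCat.of k)) := ⟨p⟩
  haveI : LocallyOfFiniteType (X ↘ Spec (CommRingCat.of k)) :=
    inferInstanceAs (LocallyOfFiniteType p)
  haveI hft : Algebra.FiniteType k Γ(X, U) := finiteType_sections k X hUaff
  obtain ⟨n, f, hf⟩ := Algebra.FiniteType.iff_quotient_mvPolynomial''.mp hft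
  let gen : Fin n → Γ(X, U) := fun i => f (MvPolynomial.X i)
  have hgen : Function.Surjective
      (MvPolynomial.aeval gen : MvPolynomial (Fin n) k →ₐ[k] Γ(X, U)) := by
    have : (MvPolynomial.aeval gen : MvPolynomial (Fin n) k →ₐ[k] Γ(X, U)) = f := by
      apply MvPolynomial.algHom_ext; intro i; simp [gen]
    rw [this]; exact hf
  haveI hP : IsProper (CohB1.ProjSpace.toSpec n k) :=
    Groth.Agent.S9705.isProper_projSpace_toSpec n k
  -- the maps
  let c : Spec Γ(X, U) ⟶
      Spec (CommRingCat.of (HomogeneousLocalization.Away (CohB1.polyGrading n k)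
        (MvPolynomial.X 0))) :=
    Spec.map (CommRingCat.ofHom (φ k n gen))
  haveI : IsClosedImmersion c :=
    IsClosedImmersion.spec_of_surjective _ (φ_surjective k n gen hgen)
  let o : Spec (CommRingCat.of (HomogeneousLocalization.Away (CohB1.polyGrading n k)
        (MvPolynomial.X 0))) ⟶ CohB1.ProjSpace n k :=
    Proj.awayι (CohB1.polyGrading n k) (MvPolynomial.X 0) (hX0 k n) one_pos
  haveI : IsOpenImmersion o :=
    inferInstanceAs (IsOpenImmersion (Proj.awayι (CohB1.polyGrading n k) (MvPolynomial.X 0)
      (hX0 k n) one_pos))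
  let j : Spec Γ(X, U) ⟶ X := hUaff.fromSpec
  have comm : j ≫ p = (c ≫ o) ≫ CohB1.ProjSpace.toSpec n k := by
    have h1 : (c ≫ o) ≫ CohB1.ProjSpace.toSpec n k =
        Spec.map (CommRingCat.ofHom (algebraMap k Γ(X, U))) := chartMap_toSpec k n gen
    rw [h1]
    have h2 := IsAffineOpen.SpecMap_appLE_fromSpec p (isAffineOpen_top (Spec (CommRingCat.of k)))
      hUaff le_top
    rw [← h2, IsAffineOpen.fromSpec_top, Scheme.isoSpec_Spec_inv, ← Spec.map_comp]
    rfl
  have hrj : Set.range j = (U : Set X) := hUaff.range_fromSpec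
  have hro : Set.range o = (Proj.basicOpen (CohB1.polyGrading n k) (MvPolynomial.X 0)).carrier := by
    have := Proj.opensRange_awayι (CohB1.polyGrading n k) (MvPolynomial.X 0) (hX0 k n) one_pos
    rw [← this]; rfl
  -- the graph and its closure
  let G := graph p (CohB1.ProjSpace.toSpec n k) j c o comm
  have hC1 := closure_range_graph_inter_fst p (CohB1.ProjSpace.toSpec n k) j c o comm
  have hC2 := closure_range_graph_inter_snd p (CohB1.ProjSpace.toSpec n k) j c o comm
  let C : Closeds ↥(pullback p (CohB1.ProjSpace.toSpec n k)) := ⟨closure (Set.range G), isClosed_closure⟩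
  let I := Scheme.IdealSheafData.vanishingIdeal C
  let T : Scheme.{u} := I.subscheme
  let ι : T ⟶ pullback p (CohB1.ProjSpace.toSpec n k) := I.subschemeι
  have hrι : Set.range ι = closure (Set.range G) := by
    rw [Scheme.IdealSheafData.range_subschemeι, Scheme.IdealSheafData.coe_support_vanishingIdeal]
    rfl
  -- irreducibility
  haveI : IrreducibleSpace ↥(U.toScheme) := by
    have h1 : IsPreirreducible (U : Set X) :=
      (IrreducibleSpace.isIrreducible_univ X).isPreirreducible.open_subset U.isOpen
        (Set.subset_univ _)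
    have h2 : IrreducibleSpace ↥(U : Set X) := Subtype.irreducibleSpace ⟨hU, h1⟩
    exact h2
  haveI : IrreducibleSpace ↥(Spec Γ(X, U)) :=
    (Scheme.homeoOfIso hUaff.isoSpec).surjective.irreducibleSpace
      (Scheme.homeoOfIso hUaff.isoSpec).continuous
  have hCirr : IsIrreducible (closure (Set.range G)) := by
    apply IsIrreducible.closure
    rw [← Set.image_univ]
    exact (IrreducibleSpace.isIrreducible_univ _).image G G.continuous.continuousOn
  haveI : IrreducibleSpace T := by
    haveI : IrreducibleSpace ↥(Set.range ι) := Subtype.irreducibleSpace (hrι ▸ hCirr)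
    let e : T ≃ₜ ↥(Set.range ι) := ι.isEmbedding.toHomeomorph
    exact e.symm.surjective.irreducibleSpace e.symm.continuous
  haveI : IsReduced T := Groth.Agent.Lib.Helper10.RedInd.isReduced_subscheme_vanishingIdeal C
  haveI : IsIntegral T := isIntegral_of_irreducibleSpace_of_isReduced T
  -- the two projections
  let h : T ⟶ CohB1.ProjSpace n k := ι ≫ pullback.snd p (CohB1.ProjSpace.toSpec n k)
  let q : T ⟶ X := ι ≫ pullback.fst p (CohB1.ProjSpace.toSpec n k)
  haveI : IsProper h := inferInstance
  haveI : IsProper q := inferInstance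
  -- every point of the graph comes from `T`
  have hGT : ∀ y : Spec Γ(X, U), ∃ t : T, ι t = G y := fun y => by
    have : G y ∈ Set.range ι := by rw [hrι]; exact subset_closure ⟨y, rfl⟩
    exact this
  have hGfst : ∀ y, pullback.fst p (CohB1.ProjSpace.toSpec n k) (G y) = j y := fun y => by
    rw [← Scheme.Hom.comp_apply, graph_fst]
  have hGsnd : ∀ y, pullback.snd p (CohB1.ProjSpace.toSpec n k) (G y) = (c ≫ o) y := fun y => by
    rw [← Scheme.Hom.comp_apply, graph_snd]
  -- dimension of the image
  have hdim' : (2 : WithBot ℕ∞) ≤ topologicalKrullDim ↥(closure (Set.range h.base)) := by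
    have hmem : ∀ y : Spec Γ(X, U), (c ≫ o) y ∈ closure (Set.range h.base) := fun y => by
      obtain ⟨t, ht⟩ := hGT y
      refine subset_closure ⟨t, ?_⟩
      change (ι ≫ pullback.snd p (CohB1.ProjSpace.toSpec n k)) t = _
      rw [Scheme.Hom.comp_apply, ht, hGsnd]
    let e : Spec Γ(X, U) → ↥(closure (Set.range h.base)) := fun y => ⟨(c ≫ o) y, hmem y⟩
    have he : Topology.IsInducing e := by
      refine Topology.IsInducing.of_comp ((c ≫ o).continuous.subtype_mk hmem)
        continuous_subtype_val ?_
      exact (c ≫ o).isEmbedding.isInducing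
    have h1 := he.topologicalKrullDim_le
    have h2 : topologicalKrullDim ↥(Spec Γ(X, U)) = topologicalKrullDim ↥U :=
      (IsHomeomorph.topologicalKrullDim_eq _
        (Scheme.homeoOfIso hUaff.isoSpec).isHomeomorph).symm
    have h3 : topologicalKrullDim ↥U = topologicalKrullDim X :=
      topologicalKrullDim_opens_eq_of_irreducible k X U hU
    rw [h2, h3] at h1
    exact hdim.trans h1
  have hconn := Groth.Agent.Lib.T2H6.NegVan.isConnected_compl_preimage_basicOpen_of_proper k n T h
    hdim' (MvPolynomial.X 0) (hX0 k n)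
  -- `h⁻¹(D_+(X_0)) = q⁻¹(U)`
  have hpre : h.base ⁻¹' (Proj.basicOpen (CohB1.polyGrading n k) (MvPolynomial.X 0)).carrier =
      q.base ⁻¹' (U : Set X) := by
    ext t
    have ht : ι t ∈ closure (Set.range G) := by rw [← hrι]; exact ⟨t, rfl⟩
    constructor
    · intro h1
      have h2 : ι t ∈ closure (Set.range G) ∩
          (pullback.snd p (CohB1.ProjSpace.toSpec n k)) ⁻¹' (Set.range o) := by
        refine ⟨ht, ?_⟩
        rw [hro]; exact h1
      rw [hC2, ← hC1] at h2
      have h3 := h2.2
      rw [hrj] at h3
      exact h3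
    · intro h1
      have h2 : ι t ∈ closure (Set.range G) ∩
          (pullback.fst p (CohB1.ProjSpace.toSpec n k)) ⁻¹' (Set.range j) := by
        refine ⟨ht, ?_⟩
        rw [hrj]; exact h1
      rw [hC1, ← hC2] at h2
      have h3 := h2.2
      rw [hro] at h3
      exact h3
  -- `q` is surjective
  have hqs : Function.Surjective q := by
    have hcl : IsClosed (Set.range q) := q.isClosedMap.isClosed_range
    have hsub : (U : Set X) ⊆ Set.range q := by
      intro x hx
      rw [← hrj] at hx
      obtain ⟨y, rfl⟩ := hx
      obtain ⟨t, ht⟩ := hGT y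
      refine ⟨t, ?_⟩
      change (ι ≫ pullback.fst p (CohB1.ProjSpace.toSpec n k)) t = _
      rw [Scheme.Hom.comp_apply, ht, hGfst]
    have hd : Dense (U : Set X) := U.isOpen.dense hU
    have : Set.range q = Set.univ := by
      rw [Set.eq_univ_iff_forall]
      intro x
      have : x ∈ closure (U : Set X) := hd x
      exact hcl.closure_subset_iff.mpr hsub this
    exact Set.range_eq_univ.mp this
  rw [hpre] at hconn
  have himg : q.base '' ((q.base ⁻¹' (U : Set X))ᶜ) = (U : Set X)ᶜ := by
    rw [← Set.preimage_compl, Set.image_preimage_eq _ hqs]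
  rw [← himg]
  exact hconn.image _ q.continuous.continuousOn

end Groth.Agent.Lib.T2H6.AffCompl
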