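-- helper6 (team 2): existence of the ambient product of modulus pairs.
import Mathlib
import Groth.Prelude.Def_BlowUp2
import Groth.Prelude.Def_W4c6modpairsegaMP
import Groth.Agent.Lib.T2H6BlowUpGlue

set_option autoImplicit false
set_option backward.isDefEq.respectTransparency false
set_option backward.isDefEq.respectTransparency.types false
open CategoryTheory CategoryTheory.Limits AlgebraicGeometry

universe u

namespace Groth.Agent.Lib.T2H6.AmbProd

open Scheme.IdealSheafData

/-- if `a + b` is principal then `(a ∩ b)(a + b) = ab`. -/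
theorem inf_mul_sup_eq_mul {R : Type*} [CommRing R] (a b : Ideal R) (e : R)
    (h : a ⊔ b = Ideal.span {e}) : (a ⊓ b) * (a ⊔ b) = a * b := by
  apply le_antisymm
  · rw [Ideal.mul_sup]
    refine sup_le ?_ ?_
    · rw [mul_comm]
      exact Ideal.mul_mono le_rfl inf_le_right
    · exact Ideal.mul_mono inf_le_left le_rfl
  · rw [Ideal.mul_le]
    intro x hx y hy
    have hx' : x ∈ Ideal.span {e} := h ▸ (Ideal.mem_sup_left hx)
    have hy' : y ∈ Ideal.span {e} := h ▸ (Ideal.mem_sup_right hy)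
    obtain ⟨x', rfl⟩ := Ideal.mem_span_singleton'.1 hx'
    obtain ⟨y', rfl⟩ := Ideal.mem_span_singleton'.1 hy'
    have h1 : x' * e * (y' * e) = (x' * e * y') * e := by ring
    rw [h1]
    refine Ideal.mul_mem_mul ⟨?_, ?_⟩ ?_
    · exact Ideal.mul_mem_right _ _ hx
    · have h2 : x' * e * y' = x' * (y' * e) := by ring
      rw [h2]
      exact Ideal.mul_mem_left _ _ hy
    · rw [h]; exact Ideal.subset_span (Set.mem_singleton e)

theorem inf_mul_sup_eq_mul_of_isEffCartier {Y : Scheme.{u}} (A B : Y.IdealSheafData)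
    (h : BlowUp.IsEffCartierIdeal (A ⊔ B)) : (A ⊓ B) * (A ⊔ B) = A * B := by
  choose U hyU t _ hLt using h
  refine ext_of_iSup_eq_top U ?_ (fun y => ?_)
  · rw [eq_top_iff]
    intro y _
    exact TopologicalSpace.Opens.mem_iSup.mpr ⟨y, hyU y⟩
  · rw [ideal_mul, ideal_mul]
    change (A.ideal (U y) ⊓ B.ideal (U y)) * (A.ideal (U y) ⊔ B.ideal (U y)) =
      A.ideal (U y) * B.ideal (U y)
    exact inf_mul_sup_eq_mul _ _ (t y) (hLt y)

theorem main {S T X : Scheme.{u}} (J : T.IdealSheafData) (I : X.IdealSheafData)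
    (f : X ⟶ S) (g : T ⟶ S) :
    ∃ (Y : Scheme.{u}) (π : Y ⟶ ModPair.mprod f g I J) (K : Y.IdealSheafData),
      ModPair.IsAmbProd f g I J π K := by
  obtain ⟨Y, π, hπ⟩ := Groth.Agent.Lib.T2H6.BlowUpGlue.exists_isBlowUp (ModPair.mprod f g I J)
    (ModPair.prodCentre f g I J)
  refine ⟨Y, π, (I.comap (ModPair.mprodι f g I J ≫ pullback.fst f g)).comap π ⊓
    (J.comap (ModPair.mprodι f g I J ≫ pullback.snd f g)).comap π, hπ, ?_⟩
  have h1 : (ModPair.prodCentre f g I J).comap π =
      (I.comap (ModPair.mprodι f g I J ≫ pullback.fst f g)).comap π ⊔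
      (J.comap (ModPair.mprodι f g I J ≫ pullback.snd f g)).comap π := by
    rw [ModPair.prodCentre, comap_sup]
  rw [h1]
  apply inf_mul_sup_eq_mul_of_isEffCartier
  rw [← h1]
  exact hπ.1

end Groth.Agent.Lib.T2H6.AmbProd
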