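-- helper6 (team 2): base change of an abstract admissible blow-up of modulus pairs.
import Mathlib
import Groth.Prelude.Def_BlowUp2
import Groth.Prelude.Def_W4c6modpairsegaMP
import Groth.Agent.Lib.T2H6ModulusClosure
import Groth.Agent.Lib.T2H6ModulusLift

set_option autoImplicit false
set_option backward.isDefEq.respectTransparency false
set_option backward.isDefEq.respectTransparency.types false
open CategoryTheory CategoryTheory.Limits AlgebraicGeometry

universe u

namespace Groth.Agent.Lib.T2H6.ModulusAdm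

open Groth.Agent.Lib.T2H6.ModulusClosure Groth.Agent.Lib.T2H6.ModulusLift

/-- The scheme-theoretic closure of an open `U`, restricted to `U`, is `U`. -/
theorem isIso_imageι_restrict {P : Scheme.{u}} (U U' : P.Opens) (h : U' = U) :
    IsIso (U.ι.imageι ∣_ U') := by
  subst h
  let j : U'.toScheme ⟶ U'.ι.image := U'.ι.toImage
  have hj : j ≫ U'.ι.imageι = U'.ι := U'.ι.toImage_imageι
  have hrange : Set.range j ⊆ Set.range (U'.ι.imageι ⁻¹ᵁ U').ι := by
    rintro _ ⟨w, rfl⟩
    rw [Scheme.Opens.range_ι]
    change U'.ι.imageι (j w) ∈ U'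
    rw [← Scheme.Hom.comp_apply, hj]
    exact w.2
  let j' := IsOpenImmersion.lift (U'.ι.imageι ⁻¹ᵁ U').ι j hrange
  have hj' : j' ≫ (U'.ι.imageι ⁻¹ᵁ U').ι = j := IsOpenImmersion.lift_fac _ _ _
  refine ⟨j', ?_, ?_⟩
  · rw [← cancel_mono (U'.ι.imageι ⁻¹ᵁ U').ι, ← cancel_mono U'.ι.imageι]
    simp only [Category.assoc, Category.id_comp]
    rw [reassoc_of% hj', hj, morphismRestrict_ι]
  · rw [← cancel_mono U'.ι, Category.assoc, morphismRestrict_ι, ← Category.assoc, hj', hj,
      Category.id_comp]

/-- Base change of "isomorphism over an open". -/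
theorem isIso_snd_restrict {X T S : Scheme.{u}} (s : X ⟶ S) (g : T ⟶ S) (S₀ : S.Opens)
    (T₀ : T.Opens) (hle : T₀ ≤ g ⁻¹ᵁ S₀) [IsIso (s ∣_ S₀)] :
    IsIso (pullback.snd s g ∣_ T₀) := by
  have sq1 := isPullback_morphismRestrict (pullback.snd s g) T₀
  have sq2 := (IsPullback.of_hasPullback s g).flip
  have big := sq1.paste_vert sq2
  rw [← Scheme.Hom.resLE_comp_ι g hle] at big
  have sq3 := isPullback_morphismRestrict s S₀
  exact (IsPullback.of_bot' big sq3).isIso_fst_of_isIso

theorem isAdmBlowup_mprod {S T X : Scheme.{u}} (IS : S.IdealSheafData)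
    (IT : T.IdealSheafData) (IX : X.IdealSheafData)
    (hT : BlowUp.IsEffCartierIdeal IT) (hX : BlowUp.IsEffCartierIdeal IX)
    (g : T ⟶ S) (hg : ModPair.IsAmbient IT IS g) (s : X ⟶ S) (hs : ModPair.IsAdmBlowup IX IS s) :
    BlowUp.IsEffCartierIdeal (IT.comap (ModPair.mprodι s g IX IT ≫ pullback.snd s g)) ∧
      ModPair.IsAdmBlowup (IT.comap (ModPair.mprodι s g IX IT ≫ pullback.snd s g)) IT
        (ModPair.mprodι s g IX IT ≫ pullback.snd s g) ∧
      ModPair.IsAmbient (IT.comap (ModPair.mprodι s g IX IT ≫ pullback.snd s g)) IX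
        (ModPair.mprodι s g IX IT ≫ pullback.fst s g) := by
  obtain ⟨hmin, hprop, hiso⟩ := hs
  have hmin' : IX = IS.comap s := hmin
  refine ⟨(isEffCartierIdeal_comap_mprodι IX IT hX hT s g).2, ⟨rfl, ?_, ?_⟩, ?_⟩
  · infer_instance
  · rw [morphismRestrict_comp]
    have hle := interior_le_of_le_comap IT IS g hg
    have h1 : IsIso (pullback.snd s g ∣_ ModPair.interior IT) :=
      isIso_snd_restrict s g (ModPair.interior IS) (ModPair.interior IT) hle
    have hEq : pullback.snd s g ⁻¹ᵁ ModPair.interior IT = ModPair.prodInterior s g IX IT := by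
      apply le_antisymm
      · intro z hz
        refine ⟨?_, hz⟩
        change (pullback.fst s g) z ∈ ModPair.interior IX
        rw [hmin', interior_comap]
        change s ((pullback.fst s g) z) ∈ ModPair.interior IS
        rw [← Scheme.Hom.comp_apply, pullback.condition, Scheme.Hom.comp_apply]
        exact hle hz
      · exact inf_le_right
    have h2 : IsIso (ModPair.mprodι s g IX IT ∣_ pullback.snd s g ⁻¹ᵁ ModPair.interior IT) :=
      isIso_imageι_restrict _ _ hEq
    infer_instance
  · change _ ≤ _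
    have h1 : IX.comap (ModPair.mprodι s g IX IT ≫ pullback.fst s g) =
        (IS.comap g).comap (ModPair.mprodι s g IX IT ≫ pullback.snd s g) := by
      rw [hmin', ← Scheme.IdealSheafData.comap_comp, ← Scheme.IdealSheafData.comap_comp,
        Category.assoc, Category.assoc, pullback.condition]
    rw [h1]
    exact Scheme.IdealSheafData.comap_mono _ hg

end Groth.Agent.Lib.T2H6.ModulusAdm
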