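-- helper6 (team 2): the abstract admissible blow-ups of modulus pairs admit a calculus of right
-- fractions.
import Mathlib
import Groth.Prelude.Def_BlowUp2
import Groth.Prelude.Def_W4c6modpairsegaMP
import Groth.Agent.Lib.T2H6ModulusProd
import Groth.Agent.Lib.T2H6ModulusClosure
import Groth.Agent.Lib.T2H6ModulusLift
import Groth.Agent.Lib.T2H6ModulusAdm

set_option autoImplicit false
set_option backward.isDefEq.respectTransparency false
set_option backward.isDefEq.respectTransparency.types false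
open CategoryTheory CategoryTheory.Limits AlgebraicGeometry

universe u

namespace Groth.Agent.Lib.T2H6.ModulusFrac

open nonZeroDivisors Groth.Agent.Lib.T2H6.ModulusClosure Groth.Agent.Lib.T2H6.ModulusLift
open Groth.Agent.Lib.T2H6.ModulusProd Groth.Agent.Lib.T2H6.ModulusAdm

/-- Two morphisms agreeing after a separated morphism and on a schematically dense subscheme are
equal. -/
theorem ext_of_ker_eq_bot_of_isSeparated {W X Y Z : Scheme.{u}} {f g : X ⟶ Y}
    (s : Y ⟶ Z) [IsSeparated s] (h : f ≫ s = g ≫ s)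
    (ι : W ⟶ X) (hker : ι.ker = ⊥) (hU : ι ≫ f = ι ≫ g) : f = g := by
  let X' : Over Z := Over.mk (f ≫ s)
  let Y' : Over Z := Over.mk s
  let U' : Over Z := Over.mk (ι ≫ f ≫ s)
  let f' : X' ⟶ Y' := Over.homMk f
  let g' : X' ⟶ Y' := Over.homMk g
  let ι' : U' ⟶ X' := Over.homMk ι
  have : IsSeparated Y'.hom := ‹_›
  have hlift : ι' ≫ f' = ι' ≫ g' := by
    ext1
    exact hU
  have hk : (equalizer.ι f' g').left.ker = ⊥ := by
    have h1 : ι = (equalizer.lift ι' hlift).left ≫ (equalizer.ι f' g').left := by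
      rw [← Over.comp_left, equalizer.lift_ι]
      rfl
    rw [← le_bot_iff, ← hker, h1]
    exact Scheme.Hom.le_ker_comp _ _
  have : IsIso (equalizer.ι f' g').left :=
    IsClosedImmersion.isIso_of_ker_eq (equalizer.ι f' g').left (𝟙 X) _ (Category.comp_id _)
      (by rw [hk, Scheme.Hom.ker_eq_bot_of_isIso])
  rw [← cancel_epi (equalizer.ι f' g').left]
  exact congr($(equalizer.condition f' g').left)

/-- The interior of a modulus pair is schematically dense. -/
theorem ker_interior_ι {W : Scheme.{u}} (IW : W.IdealSheafData)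
    (hW : BlowUp.IsEffCartierIdeal IW) : (ModPair.interior IW).ι.ker = ⊥ := by
  apply ker_ι_eq_bot_of_dense
  intro z
  obtain ⟨P', hz, w, hw, hIw⟩ := hW z
  refine ⟨P', w, hz, hw, ?_⟩
  rw [← interior_inf IW P' w hIw]
  exact inf_le_left

theorem eq_of_comp_admBlowup {X Y Z : Scheme.{u}} (IX : X.IdealSheafData)
    (IY : Y.IdealSheafData) (IZ : Z.IdealSheafData) (hX : BlowUp.IsEffCartierIdeal IX)
    (f₁ f₂ : X ⟶ Y) (h₁ : IX ≤ IY.comap f₁) (h₂ : IX ≤ IY.comap f₂) (s : Y ⟶ Z)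
    (hs : ModPair.IsAdmBlowup IY IZ s) (h : f₁ ≫ s = f₂ ≫ s) : f₁ = f₂ := by
  obtain ⟨hmin, hprop, hiso⟩ := hs
  have hmin' : IY = IZ.comap s := hmin
  have hYint : ModPair.interior IY = s ⁻¹ᵁ ModPair.interior IZ := by
    rw [hmin', interior_comap]
  apply ext_of_ker_eq_bot_of_isSeparated s h (ModPair.interior IX).ι (ker_interior_ι IX hX)
  have hr : ∀ (f : X ⟶ Y), IX ≤ IY.comap f →
      Set.range ((ModPair.interior IX).ι ≫ f) ⊆ Set.range (s ⁻¹ᵁ ModPair.interior IZ).ι := by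
    intro f hf
    rintro _ ⟨x, rfl⟩
    rw [Scheme.Opens.range_ι, ← hYint]
    exact interior_le_of_le_comap IX IY f hf x.2
  let a₁ := IsOpenImmersion.lift (s ⁻¹ᵁ ModPair.interior IZ).ι
    ((ModPair.interior IX).ι ≫ f₁) (hr f₁ h₁)
  let a₂ := IsOpenImmersion.lift (s ⁻¹ᵁ ModPair.interior IZ).ι
    ((ModPair.interior IX).ι ≫ f₂) (hr f₂ h₂)
  have ha₁ : a₁ ≫ (s ⁻¹ᵁ ModPair.interior IZ).ι = (ModPair.interior IX).ι ≫ f₁ :=
    IsOpenImmersion.lift_fac _ _ _
  have ha₂ : a₂ ≫ (s ⁻¹ᵁ ModPair.interior IZ).ι = (ModPair.interior IX).ι ≫ f₂ :=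
    IsOpenImmersion.lift_fac _ _ _
  have h3 : a₁ ≫ (s ∣_ ModPair.interior IZ) = a₂ ≫ (s ∣_ ModPair.interior IZ) := by
    rw [← cancel_mono (ModPair.interior IZ).ι, Category.assoc, Category.assoc,
      morphismRestrict_ι, ← Category.assoc, ← Category.assoc, ha₁, ha₂, Category.assoc,
      Category.assoc, h]
  have h4 : a₁ = a₂ := (cancel_mono (s ∣_ ModPair.interior IZ)).1 h3
  rw [← ha₁, ← ha₂, h4]

theorem isAdmBlowup_id {X : Scheme.{u}} (IX : X.IdealSheafData) :
    ModPair.IsAdmBlowup IX IX (𝟙 X) := by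
  refine ⟨(Scheme.IdealSheafData.comap_id IX).symm, inferInstance, inferInstance⟩

theorem isAdmBlowup_comp {X Y Z : Scheme.{u}} (IX : X.IdealSheafData)
    (IY : Y.IdealSheafData) (IZ : Z.IdealSheafData) (f : X ⟶ Y) (g : Y ⟶ Z)
    (hf : ModPair.IsAdmBlowup IX IY f) (hg : ModPair.IsAdmBlowup IY IZ g) :
    ModPair.IsAdmBlowup IX IZ (f ≫ g) := by
  obtain ⟨hf1, hf2, hf3⟩ := hf
  obtain ⟨hg1, hg2, hg3⟩ := hg
  have hf1' : IX = IY.comap f := hf1
  have hg1' : IY = IZ.comap g := hg1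
  refine ⟨?_, inferInstance, ?_⟩
  · change IX = IZ.comap (f ≫ g)
    rw [Scheme.IdealSheafData.comap_comp, ← hg1', ← hf1']
  · rw [morphismRestrict_comp]
    have hYint : g ⁻¹ᵁ ModPair.interior IZ = ModPair.interior IY := by
      rw [hg1', interior_comap]
    have h1 : IsIso (f ∣_ g ⁻¹ᵁ ModPair.interior IZ) := by
      rw [hYint]
      exact hf3
    infer_instance

theorem hasRightCalculusOfFractions :
    (ModPair.Pair.admBlowup.{u}).HasRightCalculusOfFractions := by
  have hmul : (ModPair.Pair.admBlowup.{u}).IsMultiplicative :=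
    { id_mem := fun P => isAdmBlowup_id P.mod
      comp_mem := fun f g hf hg => isAdmBlowup_comp _ _ _ f.hom g.hom hf hg }
  exact
    { exists_rightFraction := by
        intro X Y φ
        obtain ⟨h1, h2, h3⟩ := isAdmBlowup_mprod φ.Y'.mod X.mod Y.mod X.isEffCartier
          Y.isEffCartier φ.f.hom φ.f.cond φ.s.hom φ.hs
        let X' : ModPair.Pair.{u} :=
          ⟨ModPair.mprod φ.s.hom φ.f.hom Y.mod X.mod,
            X.mod.comap (ModPair.mprodι φ.s.hom φ.f.hom Y.mod X.mod ≫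
              pullback.snd φ.s.hom φ.f.hom), h1⟩
        let s' : X' ⟶ X :=
          ⟨ModPair.mprodι φ.s.hom φ.f.hom Y.mod X.mod ≫ pullback.snd φ.s.hom φ.f.hom, le_refl _⟩
        let f' : X' ⟶ Y :=
          ⟨ModPair.mprodι φ.s.hom φ.f.hom Y.mod X.mod ≫ pullback.fst φ.s.hom φ.f.hom, h3⟩
        refine ⟨MorphismProperty.RightFraction.mk s' h2 f', ?_⟩
        apply ModPair.Pair.Hom.ext
        change (ModPair.mprodι φ.s.hom φ.f.hom Y.mod X.mod ≫ pullback.snd φ.s.hom φ.f.hom) ≫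
            φ.f.hom =
          (ModPair.mprodι φ.s.hom φ.f.hom Y.mod X.mod ≫ pullback.fst φ.s.hom φ.f.hom) ≫ φ.s.hom
        rw [Category.assoc, Category.assoc, pullback.condition]
      ext := by
        intro X Y Z f₁ f₂ s hs h
        refine ⟨X, 𝟙 X, isAdmBlowup_id X.mod, ?_⟩
        rw [Category.id_comp, Category.id_comp]
        apply ModPair.Pair.Hom.ext
        exact eq_of_comp_admBlowup X.mod Y.mod Z.mod X.isEffCartier f₁.hom f₂.hom f₁.cond
          f₂.cond s.hom hs (congrArg ModPair.Pair.Hom.hom h) }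

end Groth.Agent.Lib.T2H6.ModulusFrac
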