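-- helper6 (team 2): the ambient product of modulus pairs is a fibre product in the localization at
-- the abstract admissible blow-ups.
import Mathlib
import Groth.Prelude.Def_BlowUp2
import Groth.Prelude.Def_W4c6modpairsegaMP
import Groth.Agent.Lib.Helper3IsoFibB
import Groth.Agent.Lib.Helper20BlowUp
import Groth.Agent.Lib.T2H6ModulusProd
import Groth.Agent.Lib.T2H6ModulusClosure
import Groth.Agent.Lib.T2H6ModulusLift
import Groth.Agent.Lib.T2H6ModulusFrac
import Groth.Agent.Lib.T2H6ModulusFun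
import Groth.Agent.Lib.T2H6BlowUpGlue
import Groth.Agent.Lib.T2H6BlowUpMul
import Groth.Agent.Lib.T2H6BlowUpProper
import Groth.Agent.Lib.T2H6AmbProd
import Groth.Agent.Lib.T2H6AmbProdProper

set_option autoImplicit false
set_option backward.isDefEq.respectTransparency false
set_option backward.isDefEq.respectTransparency.types false
open CategoryTheory CategoryTheory.Limits AlgebraicGeometry

universe u

namespace Groth.Agent.Lib.T2H6.AmbProdPullback

open Scheme.IdealSheafData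
open Groth.Agent.Lib.T2H6.ModulusClosure Groth.Agent.Lib.T2H6.ModulusLift
open Groth.Agent.Lib.T2H6.ModulusProd Groth.Agent.Lib.T2H6.ModulusFun

section Geom

/-- the inverse image of an effective Cartier ideal under an ambient morphism is effective
Cartier. -/
theorem isEffCartierIdeal_comap_of_le {W Z : Scheme.{u}} (IW : W.IdealSheafData)
    (hW : BlowUp.IsEffCartierIdeal IW) (L : Z.IdealSheafData) (hL : BlowUp.IsEffCartierIdeal L)
    (h : W ⟶ Z) (hle : IW ≤ L.comap h) : BlowUp.IsEffCartierIdeal (L.comap h) := by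
  have := isEffCartierIdeal_comap_comp L IW hL hW h (𝟙 W) hle (by rw [comap_id]; exact hW)
  rw [Category.id_comp] at this
  exact this

variable {S T X Y : Scheme.{u}} (J : T.IdealSheafData) (I : X.IdealSheafData)
  (hT : BlowUp.IsEffCartierIdeal J) (hX : BlowUp.IsEffCartierIdeal I)
  (f : X ⟶ S) (g : T ⟶ S)
  (π : Y ⟶ ModPair.mprod f g I J) (K : Y.IdealSheafData) (hY : ModPair.IsAmbProd f g I J π K)

include hT hX hY in
/-- uniqueness of ambient lifts to the ambient product. -/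
theorem lift_unique {W : Scheme.{u}} (IW : W.IdealSheafData) (hW : BlowUp.IsEffCartierIdeal IW)
    (c₁ c₂ : W ⟶ Y) (h₁ : IW ≤ K.comap c₁)
    (hfst : c₁ ≫ π ≫ ModPair.mprodι f g I J ≫ pullback.fst f g =
      c₂ ≫ π ≫ ModPair.mprodι f g I J ≫ pullback.fst f g)
    (hsnd : c₁ ≫ π ≫ ModPair.mprodι f g I J ≫ pullback.snd f g =
      c₂ ≫ π ≫ ModPair.mprodι f g I J ≫ pullback.snd f g) : c₁ = c₂ := by
  obtain ⟨hbl, hKE⟩ := hY
  obtain ⟨hK, hKI, hKJ, -⟩ := Groth.Agent.Lib.T2H6.ModulusAmb.isAmbProd_main J I hT hX f g π K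
    ⟨hbl, hKE⟩
  have h0 : (c₁ ≫ π) ≫ ModPair.mprodι f g I J = (c₂ ≫ π) ≫ ModPair.mprodι f g I J := by
    apply pullback.hom_ext
    · simpa only [Category.assoc] using hfst
    · simpa only [Category.assoc] using hsnd
  have h0' : c₁ ≫ π = c₂ ≫ π := (cancel_mono (ModPair.mprodι f g I J)).1 h0
  -- the centre pulls back to an effective Cartier ideal on `W`
  have hKc : BlowUp.IsEffCartierIdeal (K.comap c₁) :=
    isEffCartierIdeal_comap_of_le IW hW K hK c₁ h₁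
  have hIc : BlowUp.IsEffCartierIdeal
      (I.comap (c₁ ≫ π ≫ ModPair.mprodι f g I J ≫ pullback.fst f g)) := by
    apply isEffCartierIdeal_comap_of_le IW hW I hX
    calc IW ≤ K.comap c₁ := h₁
      _ ≤ (I.comap (π ≫ ModPair.mprodι f g I J ≫ pullback.fst f g)).comap c₁ :=
        comap_mono _ hKI
      _ = _ := (comap_comp _ _ _).symm
  have hJc : BlowUp.IsEffCartierIdeal
      (J.comap (c₁ ≫ π ≫ ModPair.mprodι f g I J ≫ pullback.snd f g)) := by
    apply isEffCartierIdeal_comap_of_le IW hW J hT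
    calc IW ≤ K.comap c₁ := h₁
      _ ≤ (J.comap (π ≫ ModPair.mprodι f g I J ≫ pullback.snd f g)).comap c₁ :=
        comap_mono _ hKJ
      _ = _ := (comap_comp _ _ _).symm
  have hprod : K.comap c₁ * (ModPair.prodCentre f g I J).comap (c₁ ≫ π) =
      I.comap (c₁ ≫ π ≫ ModPair.mprodι f g I J ≫ pullback.fst f g) *
        J.comap (c₁ ≫ π ≫ ModPair.mprodι f g I J ≫ pullback.snd f g) := by
    have := congrArg (fun L => L.comap c₁) hKE
    simp only [comap_mul] at this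
    rw [comap_comp, this, ← comap_comp, ← comap_comp, ← comap_comp, ← comap_comp]
    simp only [Category.assoc]
  have hE : BlowUp.IsEffCartierIdeal ((ModPair.prodCentre f g I J).comap (c₁ ≫ π)) := by
    apply Groth.Agent.Lib.T2H6.BlowUpMul.isEffCartierIdeal_of_mul _ (K.comap c₁)
    rw [mul_comm, hprod]
    exact Groth.Agent.Lib.Helper20.BlowUpBasic.isEffCartierIdeal_mul hIc hJc
  obtain ⟨k, -, hk⟩ := hbl.2 W (c₁ ≫ π) hE
  rw [hk c₁ rfl, hk c₂ h0'.symm]

include hT hX hY in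
/-- existence of ambient lifts to the ambient product after an admissible blow-up. -/
theorem lift_exists {W : Scheme.{u}} (IW : W.IdealSheafData) (hW : BlowUp.IsEffCartierIdeal IW)
    (a : W ⟶ T) (b : W ⟶ X) (ha : IW ≤ J.comap a) (hb : IW ≤ I.comap b)
    (hab : b ≫ f = a ≫ g) :
    ∃ (W' : Scheme.{u}) (ρ : W' ⟶ W) (c : W' ⟶ Y),
      BlowUp.IsEffCartierIdeal (IW.comap ρ) ∧ ModPair.IsAdmBlowup (IW.comap ρ) IW ρ ∧
      IW.comap ρ ≤ K.comap c ∧
      c ≫ π ≫ ModPair.mprodι f g I J ≫ pullback.snd f g = ρ ≫ a ∧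
      c ≫ π ≫ ModPair.mprodι f g I J ≫ pullback.fst f g = ρ ≫ b := by
  obtain ⟨hbl, hKE⟩ := hY
  have hA : BlowUp.IsEffCartierIdeal (I.comap b) := isEffCartierIdeal_comap_of_le IW hW I hX b hb
  have hB : BlowUp.IsEffCartierIdeal (J.comap a) := isEffCartierIdeal_comap_of_le IW hW J hT a ha
  have hft : BlowUp.IsFiniteTypeIdeal (I.comap b ⊔ J.comap a) :=
    Groth.Agent.Lib.T2H6.AmbProdProper.isFiniteTypeIdeal_sup _ _
      (Groth.Agent.Lib.T2H6.AmbProdProper.isFiniteTypeIdeal_of_isEffCartier _ hA)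
      (Groth.Agent.Lib.T2H6.AmbProdProper.isFiniteTypeIdeal_of_isEffCartier _ hB)
  obtain ⟨W', ρ, hρ⟩ := Groth.Agent.Lib.T2H6.BlowUpGlue.exists_isBlowUp W (I.comap b ⊔ J.comap a)
  have hW' : BlowUp.IsEffCartierIdeal (IW.comap ρ) :=
    Groth.Agent.Lib.T2H6.BlowUpMul.isEffCartierIdeal_comap_of_isBlowUp ρ _ hρ IW hW
  -- `ρ` is an abstract admissible blow-up
  have hadm : ModPair.IsAdmBlowup (IW.comap ρ) IW ρ := by
    refine ⟨rfl, Groth.Agent.Lib.T2H6.BlowUpProper.isProper_of_isBlowUp ρ _ hft hρ, ?_⟩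
    haveI := Groth.Agent.Lib.Helper20.BlowUpBasic.isIso_morphismRestrict _ ρ hρ
    apply Groth.Agent.Lib.Helper3.IsoFib.isIso_morphismRestrict_of_le ρ
      (V' := Groth.Agent.Lib.Helper20.BlowUpBasic.compl (I.comap b ⊔ J.comap a))
    intro w hw hmem
    apply hw
    have h1 : w ∈ ((I.comap b).support : Set W) := by
      have h2 : ((I.comap b ⊔ J.comap a).support : Set W) ⊆ ((I.comap b).support : Set W) :=
        support_antitone le_sup_left
      exact h2 hmem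
    exact support_antitone hb h1
  -- the morphism to the fibre product
  have hA' : IW.comap ρ ≤ I.comap (ρ ≫ b) := by
    rw [comap_comp]; exact comap_mono _ hb
  have hB' : IW.comap ρ ≤ J.comap (ρ ≫ a) := by
    rw [comap_comp]; exact comap_mono _ ha
  let c₀' : W' ⟶ pullback f g := pullback.lift (ρ ≫ b) (ρ ≫ a)
    (by rw [Category.assoc, Category.assoc, hab])
  have hint : ModPair.interior (IW.comap ρ) ≤ c₀' ⁻¹ᵁ ModPair.prodInterior f g I J := by
    intro w hw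
    constructor
    · have h1 := interior_le_of_le_comap (IW.comap ρ) I (ρ ≫ b) hA' hw
      change (pullback.fst f g) (c₀' w) ∈ ModPair.interior I
      rw [← Scheme.Hom.comp_apply, pullback.lift_fst]
      exact h1
    · have h1 := interior_le_of_le_comap (IW.comap ρ) J (ρ ≫ a) hB' hw
      change (pullback.snd f g) (c₀' w) ∈ ModPair.interior J
      rw [← Scheme.Hom.comp_apply, pullback.lift_snd]
      exact h1
  obtain ⟨c₀, hc₀⟩ := exists_lift_imageι (IW.comap ρ) hW' (ModPair.prodInterior f g I J) c₀' hint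
  have hc₀ : c₀ ≫ ModPair.mprodι f g I J = c₀' := hc₀
  have hc₀fst : c₀ ≫ ModPair.mprodι f g I J ≫ pullback.fst f g = ρ ≫ b := by
    rw [← Category.assoc, hc₀, pullback.lift_fst]
  have hc₀snd : c₀ ≫ ModPair.mprodι f g I J ≫ pullback.snd f g = ρ ≫ a := by
    rw [← Category.assoc, hc₀, pullback.lift_snd]
  have hcen : (ModPair.prodCentre f g I J).comap c₀ = (I.comap b ⊔ J.comap a).comap ρ := by
    unfold ModPair.prodCentre
    rw [comap_sup, comap_sup, ← comap_comp, ← comap_comp, ← comap_comp, ← comap_comp, hc₀fst,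
      hc₀snd]
  have hE : BlowUp.IsEffCartierIdeal ((ModPair.prodCentre f g I J).comap c₀) := by
    rw [hcen]; exact hρ.1
  obtain ⟨c, hc, -⟩ := hbl.2 W' c₀ hE
  have hc : c ≫ π = c₀ := hc
  refine ⟨W', ρ, c, hW', hadm, ?_, ?_, ?_⟩
  · -- the modulus condition
    have h1 := congrArg (fun L => L.comap c) hKE
    simp only [comap_mul] at h1
    rw [← comap_comp, ← comap_comp, ← comap_comp, ← comap_comp, ← comap_comp, hc,
      ← Category.assoc, ← Category.assoc, hc₀, pullback.lift_fst, pullback.lift_snd] at h1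
    -- h1 : K.comap c * prodCentre.comap c₀ = I.comap (ρ ≫ b) * J.comap (ρ ≫ a)
    have hsup : (ModPair.prodCentre f g I J).comap c₀ = I.comap (ρ ≫ b) ⊔ J.comap (ρ ≫ a) := by
      rw [hcen, comap_sup, ← comap_comp, ← comap_comp]
    rw [hsup] at h1 hE
    have h2 := Groth.Agent.Lib.T2H6.AmbProd.inf_mul_sup_eq_mul_of_isEffCartier _ _ hE
    have h3 : K.comap c = I.comap (ρ ≫ b) ⊓ J.comap (ρ ≫ a) :=
      mul_right_cancel_effCartier _ _ _ hE (h1.trans h2.symm)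
    rw [h3]
    exact le_inf hA' hB'
  · rw [← Category.assoc, hc, hc₀snd]
  · rw [← Category.assoc, hc, hc₀fst]

end Geom

section Cat

open MorphismProperty

instance instRCF : (ModPair.Pair.admBlowup.{u}).HasRightCalculusOfFractions :=
  Groth.Agent.Lib.T2H6.ModulusFrac.hasRightCalculusOfFractions

/-- a morphism of the localization is a right fraction. -/
theorem exists_frac {W A : ModPair.Pair.{u}}
    (x : (ModPair.Pair.admBlowup.{u}).Q.obj W ⟶ (ModPair.Pair.admBlowup.{u}).Q.obj A) :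
    ∃ (W₁ : ModPair.Pair.{u}) (σ : W₁ ⟶ W) (_ : ModPair.Pair.admBlowup σ) (a : W₁ ⟶ A),
      (ModPair.Pair.admBlowup.{u}).Q.map σ ≫ x = (ModPair.Pair.admBlowup.{u}).Q.map a := by
  obtain ⟨φ, hφ⟩ := Localization.exists_rightFraction (ModPair.Pair.admBlowup.{u}).Q
    (ModPair.Pair.admBlowup.{u}) x
  refine ⟨φ.X', φ.s, φ.hs, φ.f, ?_⟩
  rw [hφ]
  exact φ.map_s_comp_map _ _

theorem exists_common {W W₁ W₂ : ModPair.Pair.{u}} (σ₁ : W₁ ⟶ W) (σ₂ : W₂ ⟶ W)
    (h₁ : ModPair.Pair.admBlowup σ₁) (h₂ : ModPair.Pair.admBlowup σ₂) :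
    ∃ (W₃ : ModPair.Pair.{u}) (t₁ : W₃ ⟶ W₁) (t₂ : W₃ ⟶ W₂),
      t₁ ≫ σ₁ = t₂ ≫ σ₂ ∧ ModPair.Pair.admBlowup (t₁ ≫ σ₁) := by
  obtain ⟨ψ, hψ⟩ := HasRightCalculusOfFractions.exists_rightFraction
    (W := ModPair.Pair.admBlowup.{u}) (MorphismProperty.LeftFraction.mk σ₁ σ₂ h₂)
  exact ⟨ψ.X', ψ.s, ψ.f, hψ, (ModPair.Pair.admBlowup.{u}).comp_mem _ _ ψ.hs h₁⟩

/-- two morphisms of the localization with the same source are right fractions with a common
denominator. -/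
theorem exists_frac₂ {W A B : ModPair.Pair.{u}}
    (x : (ModPair.Pair.admBlowup.{u}).Q.obj W ⟶ (ModPair.Pair.admBlowup.{u}).Q.obj A)
    (y : (ModPair.Pair.admBlowup.{u}).Q.obj W ⟶ (ModPair.Pair.admBlowup.{u}).Q.obj B) :
    ∃ (W₃ : ModPair.Pair.{u}) (σ : W₃ ⟶ W) (_ : ModPair.Pair.admBlowup σ) (a : W₃ ⟶ A)
      (b : W₃ ⟶ B),
      (ModPair.Pair.admBlowup.{u}).Q.map σ ≫ x = (ModPair.Pair.admBlowup.{u}).Q.map a ∧
      (ModPair.Pair.admBlowup.{u}).Q.map σ ≫ y = (ModPair.Pair.admBlowup.{u}).Q.map b := by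
  obtain ⟨W₁, σ₁, hσ₁, a₁, ha₁⟩ := exists_frac x
  obtain ⟨W₂, σ₂, hσ₂, b₂, hb₂⟩ := exists_frac y
  obtain ⟨W₃, t₁, t₂, ht, hadm⟩ := exists_common σ₁ σ₂ hσ₁ hσ₂
  refine ⟨W₃, t₁ ≫ σ₁, hadm, t₁ ≫ a₁, t₂ ≫ b₂, ?_, ?_⟩
  · rw [Functor.map_comp, Category.assoc, ha₁, ← Functor.map_comp]
  · rw [ht, Functor.map_comp, Category.assoc, hb₂, ← Functor.map_comp]

variable (P T X : ModPair.Pair.{u}) (f : X ⟶ P) (g : T ⟶ P)
  {Y : Scheme.{u}} (π : Y ⟶ ModPair.mprod f.hom g.hom X.mod T.mod) (K : Y.IdealSheafData)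
  (hY : ModPair.IsAmbProd f.hom g.hom X.mod T.mod π K) (hK : BlowUp.IsEffCartierIdeal K)
  (hX : ModPair.IsAmbient K X.mod
    (π ≫ ModPair.mprodι f.hom g.hom X.mod T.mod ≫ pullback.fst f.hom g.hom))
  (hT : ModPair.IsAmbient K T.mod
    (π ≫ ModPair.mprodι f.hom g.hom X.mod T.mod ≫ pullback.snd f.hom g.hom))

/-- the ambient product as a modulus pair. -/
abbrev YK : ModPair.Pair.{u} := ModPair.Pair.mk Y K hK

/-- the projection to `T`. -/
noncomputable abbrev pT : YK K hK ⟶ T :=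
  ModPair.Pair.Hom.mk (P := ModPair.Pair.mk Y K hK) (Q := T)
    (π ≫ ModPair.mprodι f.hom g.hom X.mod T.mod ≫ pullback.snd f.hom g.hom) hT

/-- the projection to `X`. -/
noncomputable abbrev pX : YK K hK ⟶ X :=
  ModPair.Pair.Hom.mk (P := ModPair.Pair.mk Y K hK) (Q := X)
    (π ≫ ModPair.mprodι f.hom g.hom X.mod T.mod ≫ pullback.fst f.hom g.hom) hX

include hY in
theorem cat_lift_exists (W : ModPair.Pair.{u}) (a : W ⟶ T) (b : W ⟶ X) (hab : a ≫ g = b ≫ f) :
    ∃ (W' : ModPair.Pair.{u}) (ρ : W' ⟶ W) (_ : ModPair.Pair.admBlowup ρ) (c : W' ⟶ YK K hK),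
      c ≫ pT P T X f g π K hK hT = ρ ≫ a ∧ c ≫ pX P T X f g π K hK hX = ρ ≫ b := by
  have hab' : b.hom ≫ f.hom = a.hom ≫ g.hom := (congrArg ModPair.Pair.Hom.hom hab).symm
  obtain ⟨W', ρ, c, hW', hadm, hamb, hsnd, hfst⟩ :=
    lift_exists T.mod X.mod T.isEffCartier X.isEffCartier f.hom g.hom π K hY W.mod W.isEffCartier
      a.hom b.hom a.cond b.cond hab'
  refine ⟨⟨W', W.mod.comap ρ, hW'⟩, ⟨ρ, le_refl _⟩, hadm, ⟨c, hamb⟩, ?_, ?_⟩
  · exact ModPair.Pair.Hom.ext hsnd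
  · exact ModPair.Pair.Hom.ext hfst

include hY in
theorem cat_lift_unique (W : ModPair.Pair.{u}) (c₁ c₂ : W ⟶ YK K hK)
    (h₁ : c₁ ≫ pT P T X f g π K hK hT = c₂ ≫ pT P T X f g π K hK hT)
    (h₂ : c₁ ≫ pX P T X f g π K hK hX = c₂ ≫ pX P T X f g π K hK hX) : c₁ = c₂ := by
  apply ModPair.Pair.Hom.ext
  exact lift_unique T.mod X.mod T.isEffCartier X.isEffCartier f.hom g.hom π K hY W.mod
    W.isEffCartier c₁.hom c₂.hom c₁.cond (congrArg ModPair.Pair.Hom.hom h₂)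
    (congrArg ModPair.Pair.Hom.hom h₁)

include hY in
theorem loc_lift_exists (Z : (ModPair.Pair.admBlowup.{u}).Localization)
    (x : Z ⟶ (ModPair.Pair.admBlowup.{u}).Q.obj T) (y : Z ⟶ (ModPair.Pair.admBlowup.{u}).Q.obj X)
    (hxy : x ≫ (ModPair.Pair.admBlowup.{u}).Q.map g = y ≫ (ModPair.Pair.admBlowup.{u}).Q.map f) :
    ∃ m : Z ⟶ (ModPair.Pair.admBlowup.{u}).Q.obj (YK K hK),
      m ≫ (ModPair.Pair.admBlowup.{u}).Q.map (pT P T X f g π K hK hT) = x ∧
      m ≫ (ModPair.Pair.admBlowup.{u}).Q.map (pX P T X f g π K hK hX) = y := by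
  obtain ⟨W, rfl⟩ := (Localization.Construction.objEquiv (ModPair.Pair.admBlowup.{u})).surjective Z
  change (ModPair.Pair.admBlowup.{u}).Q.obj W ⟶ _ at x
  change (ModPair.Pair.admBlowup.{u}).Q.obj W ⟶ _ at y
  obtain ⟨W₃, σ, hσ, a, b, ha, hb⟩ := exists_frac₂ x y
  have h1 : (ModPair.Pair.admBlowup.{u}).Q.map (a ≫ g) =
      (ModPair.Pair.admBlowup.{u}).Q.map (b ≫ f) := by
    rw [Functor.map_comp, Functor.map_comp, ← ha, ← hb, Category.assoc, Category.assoc, hxy]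
  obtain ⟨W₄, τ, hτ, hτab⟩ := (MorphismProperty.map_eq_iff_precomp
    (ModPair.Pair.admBlowup.{u}).Q (ModPair.Pair.admBlowup.{u}) (a ≫ g) (b ≫ f)).1 h1
  obtain ⟨W₅, ρ, hρ, c, hcT, hcX⟩ := cat_lift_exists P T X f g π K hY hK hX hT W₄ (τ ≫ a) (τ ≫ b)
    (by rw [Category.assoc, Category.assoc]; exact hτab)
  have hθ : ModPair.Pair.admBlowup (ρ ≫ τ ≫ σ) :=
    (ModPair.Pair.admBlowup.{u}).comp_mem _ _ hρ ((ModPair.Pair.admBlowup.{u}).comp_mem _ _ hτ hσ)
  haveI : IsIso ((ModPair.Pair.admBlowup.{u}).Q.map (ρ ≫ τ ≫ σ)) :=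
    Localization.inverts (ModPair.Pair.admBlowup.{u}).Q (ModPair.Pair.admBlowup.{u}) _ hθ
  refine ⟨inv ((ModPair.Pair.admBlowup.{u}).Q.map (ρ ≫ τ ≫ σ)) ≫
    (ModPair.Pair.admBlowup.{u}).Q.map c, ?_, ?_⟩
  · rw [Category.assoc, ← Functor.map_comp, hcT, IsIso.inv_comp_eq, Functor.map_comp,
      Functor.map_comp, Functor.map_comp, Functor.map_comp, Category.assoc, Category.assoc, ha]
  · rw [Category.assoc, ← Functor.map_comp, hcX, IsIso.inv_comp_eq, Functor.map_comp,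
      Functor.map_comp, Functor.map_comp, Functor.map_comp, Category.assoc, Category.assoc, hb]

include hY in
theorem loc_lift_unique (Z : (ModPair.Pair.admBlowup.{u}).Localization)
    (m₁ m₂ : Z ⟶ (ModPair.Pair.admBlowup.{u}).Q.obj (YK K hK))
    (h₁ : m₁ ≫ (ModPair.Pair.admBlowup.{u}).Q.map (pT P T X f g π K hK hT) =
      m₂ ≫ (ModPair.Pair.admBlowup.{u}).Q.map (pT P T X f g π K hK hT))
    (h₂ : m₁ ≫ (ModPair.Pair.admBlowup.{u}).Q.map (pX P T X f g π K hK hX) =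
      m₂ ≫ (ModPair.Pair.admBlowup.{u}).Q.map (pX P T X f g π K hK hX)) : m₁ = m₂ := by
  obtain ⟨W, rfl⟩ := (Localization.Construction.objEquiv (ModPair.Pair.admBlowup.{u})).surjective Z
  change (ModPair.Pair.admBlowup.{u}).Q.obj W ⟶ _ at m₁
  change (ModPair.Pair.admBlowup.{u}).Q.obj W ⟶ _ at m₂
  obtain ⟨W₃, σ, hσ, c₁, c₂, hc₁, hc₂⟩ := exists_frac₂ m₁ m₂
  have e₁ : (ModPair.Pair.admBlowup.{u}).Q.map (c₁ ≫ pT P T X f g π K hK hT) =
      (ModPair.Pair.admBlowup.{u}).Q.map (c₂ ≫ pT P T X f g π K hK hT) := by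
    rw [Functor.map_comp, Functor.map_comp, ← hc₁, ← hc₂, Category.assoc, Category.assoc, h₁]
  obtain ⟨W₄, τ, hτ, hτ₁⟩ := (MorphismProperty.map_eq_iff_precomp
    (ModPair.Pair.admBlowup.{u}).Q (ModPair.Pair.admBlowup.{u}) _ _).1 e₁
  have e₂ : (ModPair.Pair.admBlowup.{u}).Q.map ((τ ≫ c₁) ≫ pX P T X f g π K hK hX) =
      (ModPair.Pair.admBlowup.{u}).Q.map ((τ ≫ c₂) ≫ pX P T X f g π K hK hX) := by
    rw [Functor.map_comp, Functor.map_comp, Functor.map_comp, Functor.map_comp, ← hc₁, ← hc₂,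
      Category.assoc, Category.assoc, Category.assoc, Category.assoc, h₂]
  obtain ⟨W₅, τ', hτ', hτ₂⟩ := (MorphismProperty.map_eq_iff_precomp
    (ModPair.Pair.admBlowup.{u}).Q (ModPair.Pair.admBlowup.{u}) _ _).1 e₂
  have hcc : τ' ≫ τ ≫ c₁ = τ' ≫ τ ≫ c₂ := by
    apply cat_lift_unique P T X f g π K hY hK hX hT
    · rw [Category.assoc, Category.assoc, Category.assoc, Category.assoc, hτ₁]
    · rw [Category.assoc, Category.assoc]
      simpa only [Category.assoc] using hτ₂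
  have hθ : ModPair.Pair.admBlowup (τ' ≫ τ ≫ σ) :=
    (ModPair.Pair.admBlowup.{u}).comp_mem _ _ hτ' ((ModPair.Pair.admBlowup.{u}).comp_mem _ _ hτ hσ)
  haveI : IsIso ((ModPair.Pair.admBlowup.{u}).Q.map (τ' ≫ τ ≫ σ)) :=
    Localization.inverts (ModPair.Pair.admBlowup.{u}).Q (ModPair.Pair.admBlowup.{u}) _ hθ
  rw [← cancel_epi ((ModPair.Pair.admBlowup.{u}).Q.map (τ' ≫ τ ≫ σ))]
  have k₁ : (ModPair.Pair.admBlowup.{u}).Q.map (τ' ≫ τ ≫ σ) ≫ m₁ =
      (ModPair.Pair.admBlowup.{u}).Q.map (τ' ≫ τ ≫ c₁) := by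
    rw [Functor.map_comp, Functor.map_comp, Category.assoc, Category.assoc, hc₁,
      ← Functor.map_comp, ← Functor.map_comp]
  have k₂ : (ModPair.Pair.admBlowup.{u}).Q.map (τ' ≫ τ ≫ σ) ≫ m₂ =
      (ModPair.Pair.admBlowup.{u}).Q.map (τ' ≫ τ ≫ c₂) := by
    rw [Functor.map_comp, Functor.map_comp, Category.assoc, Category.assoc, hc₂,
      ← Functor.map_comp, ← Functor.map_comp]
  rw [k₁, k₂, hcc]

include hY in
theorem main :
    IsPullback ((ModPair.Pair.admBlowup.{u}).Q.map (pT P T X f g π K hK hT))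
      ((ModPair.Pair.admBlowup.{u}).Q.map (pX P T X f g π K hK hX))
      ((ModPair.Pair.admBlowup.{u}).Q.map g) ((ModPair.Pair.admBlowup.{u}).Q.map f) := by
  have hsq : pT P T X f g π K hK hT ≫ g = pX P T X f g π K hK hX ≫ f := by
    apply ModPair.Pair.Hom.ext
    change (π ≫ ModPair.mprodι f.hom g.hom X.mod T.mod ≫ pullback.snd f.hom g.hom) ≫ g.hom =
      (π ≫ ModPair.mprodι f.hom g.hom X.mod T.mod ≫ pullback.fst f.hom g.hom) ≫ f.hom
    rw [Category.assoc, Category.assoc, Category.assoc, Category.assoc, pullback.condition]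
  have hw : (ModPair.Pair.admBlowup.{u}).Q.map (pT P T X f g π K hK hT) ≫
      (ModPair.Pair.admBlowup.{u}).Q.map g =
      (ModPair.Pair.admBlowup.{u}).Q.map (pX P T X f g π K hK hX) ≫
      (ModPair.Pair.admBlowup.{u}).Q.map f := by
    rw [← Functor.map_comp, ← Functor.map_comp, hsq]
  have hex := fun (s : PullbackCone ((ModPair.Pair.admBlowup.{u}).Q.map g)
      ((ModPair.Pair.admBlowup.{u}).Q.map f)) =>
    loc_lift_exists P T X f g π K hY hK hX hT s.pt s.fst s.snd s.condition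
  refine ⟨⟨hw⟩, ⟨PullbackCone.IsLimit.mk _ (fun s => (hex s).choose)
    (fun s => (hex s).choose_spec.1) (fun s => (hex s).choose_spec.2) ?_⟩⟩
  intro s m hm₁ hm₂
  exact loc_lift_unique P T X f g π K hY hK hX hT s.pt m _
    (hm₁.trans (hex s).choose_spec.1.symm) (hm₂.trans (hex s).choose_spec.2.symm)

end Cat

end Groth.Agent.Lib.T2H6.AmbProdPullback
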