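import Mathlib
import Groth.Agent.Lib.T2H6AmpCurveG
import Groth.Agent.Lib.Helper4DimFormulaW
import Groth.Agent.S9705
set_option backward.isDefEq.respectTransparency.types false

/-!
# Projective completion of schemes of dimension `≤ 1` over a field (helper6)

Namespace `Groth.Agent.Lib.T2H6.AmpCurve`.
-/

set_option autoImplicit false
set_option linter.style.haveILetI false
set_option linter.unusedVariables false
set_option linter.unusedSectionVars false
universe u
open CategoryTheory CategoryTheory.Limits AlgebraicGeometry TopologicalSpace Opposite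

namespace Groth.Agent.Lib.T2H6.AmpCurve

open Groth.Agent.Lib.T2H6.PicLift

section top

variable {α : Type*} [TopologicalSpace α]

/-- every point of a quasi-sober space is a specialization of a maximal point. -/
theorem exists_genPt_specializes' [QuasiSober α] (y : α) : ∃ η ∈ genPts α, η ⤳ y := by
  obtain ⟨C, hCirr, hyC, hCmax⟩ := exists_preirreducible ({y} : Set α) isPreirreducible_singleton
  have hyC' : y ∈ C := hyC rfl
  have hC' : IsIrreducible C := ⟨⟨y, hyC'⟩, hCirr⟩
  have hCcl : IsClosed C := by
    have h1 := hCmax (closure C) hCirr.closure subset_closure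
    rw [← h1]; exact isClosed_closure
  obtain ⟨ξ, hξ⟩ := QuasiSober.sober hC' hCcl
  have hξC : closure ({ξ} : Set α) = C := hξ.def
  refine ⟨ξ, fun z hz => ?_, ?_⟩
  · have h1 : C ⊆ closure ({z} : Set α) := by
      rw [← hξC]
      exact closure_minimal (Set.singleton_subset_iff.2 (specializes_iff_mem_closure.1 hz)) isClosed_closure
    have h2 := hCmax (closure ({z} : Set α)) isPreirreducible_singleton.closure h1
    rw [specializes_iff_mem_closure, hξC, ← h2]
    exact subset_closure rfl
  · rw [specializes_iff_mem_closure, hξC]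
    exact hyC'

/-- the maximal points of a Noetherian space lie in every dense open subset. -/
theorem genPts_subset_of_dense [NoetherianSpace α] [QuasiSober α] [T0Space α] {O : Set α} (hO : IsOpen O)
    (hd : Dense O) : genPts α ⊆ O := by
  intro η hη
  have hC : IsClosed (⋃ η' ∈ genPts α ∩ O, closure ({η'} : Set α)) :=
    (finite_genPts.subset Set.inter_subset_left).isClosed_biUnion (fun _ _ => isClosed_closure)
  have hOC : O ⊆ ⋃ η' ∈ genPts α ∩ O, closure ({η'} : Set α) := by
    intro z hz
    obtain ⟨ξ, hξ, hξz⟩ := exists_genPt_specializes' z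
    exact Set.mem_iUnion₂.2 ⟨ξ, ⟨hξ, hξz.mem_open hO hz⟩, specializes_iff_mem_closure.1 hξz⟩
  have h : η ∈ closure O := hd η
  obtain ⟨η', hη', hmem⟩ := Set.mem_iUnion₂.1 (closure_minimal hOC hC h)
  have h1 : η' ⤳ η := specializes_iff_mem_closure.2 hmem
  exact eq_of_specializes_genPts hη h1 ▸ hη'.2

end top

/-- the morphism to the scheme theoretic image is scheme theoretically dominant. -/
theorem isSchemeTheoreticallyDominant_toImage {X Y : Scheme.{u}} (f : X ⟶ Y) [QuasiCompact f] :
    IsSchemeTheoreticallyDominant f.toImage := by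
  rw [isSchemeTheoreticallyDominant_iff]
  ext U : 2
  rw [Scheme.Hom.ker_apply, Scheme.IdealSheafData.ideal_bot]
  have hinj : Function.Injective (f.toImage.app U.1) :=
    TopCat.Presheaf.app_injective_of_stalkFunctor_map_injective
      (F := f.image.sheaf) f.toImage.c U.1
      (fun x _ => Scheme.Hom.stalkFunctor_toImage_injective f x)
  exact (RingHom.injective_iff_ker_eq_bot _).1 hinj

section dim

open Groth.Agent.Lib.Helper4.VarDim Groth.Agent.Lib.Helper4.DimFormula

variable (k : Type u) [Field k] {X Y : Scheme.{u}} [X.Over (Spec (CommRingCat.of k))]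
  [Y.Over (Spec (CommRingCat.of k))] [LocallyOfFiniteType (X ↘ Spec (CommRingCat.of k))]
  [LocallyOfFiniteType (Y ↘ Spec (CommRingCat.of k))]

/-- a dense open subscheme of a Noetherian scheme locally of finite type over a field has the same dimension. -/
theorem topologicalKrullDim_le_of_dense_open [IsNoetherian Y] (j : X ⟶ Y) [IsOpenImmersion j]
    (hj : j ≫ (Y ↘ Spec (CommRingCat.of k)) = (X ↘ Spec (CommRingCat.of k)))
    (hd : Dense (Set.range j.base)) : topologicalKrullDim Y ≤ topologicalKrullDim X := by
  rw [topologicalKrullDim_eq_iSup_trdegNat k Y]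
  refine iSup_le fun y => ?_
  obtain ⟨η, hη, hηy⟩ := exists_genPt_specializes' y
  have hηr : η ∈ Set.range j.base := genPts_subset_of_dense j.isOpenEmbedding.isOpen_range hd hη
  obtain ⟨x, rfl⟩ := hηr
  haveI : LocallyOfFiniteType j := locallyOfFiniteType_of_over k j hj
  have h1 : trdegNat k Y y ≤ trdegNat k Y (j.base x) := trdegNat_le_of_specializes k Y _ _ hηy
  have h2 : trdegNat k X x = trdegNat k Y (j.base x) + ptTrdeg j x := trdegNat_eq_add_ptTrdeg k j hj x
  have h3 : trdegNat k Y y ≤ trdegNat k X x := by omega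
  exact le_trans (by exact_mod_cast h3) (trdegNat_le_topologicalKrullDim k X x)

end dim

/-- **projective completion** of a separated scheme of finite type and of dimension `≤ 1` over a field
(Stacks 0A26). -/
theorem exists_projective_completion (k : Type u) [Field k] (X : Scheme.{u}) [X.Over (Spec (CommRingCat.of k))]
    [IsSeparated (X ↘ (Spec (CommRingCat.of k)))] [LocallyOfFiniteType (X ↘ (Spec (CommRingCat.of k)))]
    [QuasiCompact (X ↘ (Spec (CommRingCat.of k)))] (hdim : topologicalKrullDim X ≤ 1) :
    ∃ (d : ℕ) (Y : Scheme.{u}) (c : Y ⟶ CohB1.ProjSpace d k) (j : X ⟶ Y), IsClosedImmersion c ∧ IsOpenImmersion j ∧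
      j ≫ c ≫ CohB1.ProjSpace.toSpec d k = X ↘ (Spec (CommRingCat.of k)) ∧ Dense (Set.range j.base) ∧
      IsSchemeTheoreticallyDominant j ∧ (Set.range j.base)ᶜ.Finite ∧
      (∀ y ∈ (Set.range j.base)ᶜ, IsClosed ({y} : Set Y)) ∧ topologicalKrullDim Y ≤ 1 ∧ IsNoetherian Y := by
  haveI : IsNoetherian X := isNoetherian_of_finiteType (X ↘ Spec (CommRingCat.of k))
  haveI : X.IsSeparated := isSeparated_of_over_affine (X ↘ Spec (CommRingCat.of k))
  obtain ⟨L, hL⟩ := exists_ample_of_dim_le_one X hdim
  obtain ⟨d, i, hi, hik⟩ := exists_immersion_projSpace (X ↘ Spec (CommRingCat.of k)) L hL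
  haveI := hi
  haveI : QuasiCompact i := inferInstance
  have hjc : i.toImage ≫ i.imageι = i := i.toImage_imageι
  haveI hprop : IsProper (CohB1.ProjSpace.toSpec d k) := Groth.Agent.S9705.isProper_projSpace_toSpec d k
  letI : i.image.Over (Spec (CommRingCat.of k)) := ⟨i.imageι ≫ CohB1.ProjSpace.toSpec d k⟩
  haveI : LocallyOfFiniteType (i.image ↘ Spec (CommRingCat.of k)) :=
    inferInstanceAs (LocallyOfFiniteType (i.imageι ≫ CohB1.ProjSpace.toSpec d k))
  haveI : IsNoetherian i.image := isNoetherian_of_finiteType (i.imageι ≫ CohB1.ProjSpace.toSpec d k)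
  have hover : i.toImage ≫ (i.image ↘ Spec (CommRingCat.of k)) = X ↘ Spec (CommRingCat.of k) := by
    change i.toImage ≫ i.imageι ≫ CohB1.ProjSpace.toSpec d k = _
    rw [← Category.assoc, hjc, hik]
  have hdense : Dense (Set.range i.toImage.base) := i.toImage.denseRange
  have hdimY : topologicalKrullDim i.image ≤ 1 :=
    (topologicalKrullDim_le_of_dense_open k i.toImage hover hdense).trans hdim
  have hgen : genPts i.image ⊆ Set.range i.toImage.base :=
    genPts_subset_of_dense i.toImage.isOpenEmbedding.isOpen_range hdense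
  obtain ⟨hfin, hcl⟩ := finite_compl_and_isClosed hdimY i.toImage.isOpenEmbedding.isOpen_range hgen
  exact ⟨d, i.image, i.imageι, i.toImage, inferInstance, inferInstance, hover, hdense,
    isSchemeTheoreticallyDominant_toImage i, hfin,
    fun y hy => hcl {y} (Set.singleton_subset_iff.2 hy), hdimY, inferInstance⟩

end Groth.Agent.Lib.T2H6.AmpCurve
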