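import Mathlib
import Groth.Agent.Lib.T2H6AmpCurveH
import Groth.Agent.Lib.T2H6CurveAmple
import Groth.Agent.Lib.T2H6VAmpleC
import Groth.Agent.Lib.T2H5GlueInvB
import Groth.Agent.Lib.T2H5DimOneAff
import Groth.Agent.S2324
set_option backward.isDefEq.respectTransparency.types false

/-!
# Nonempty proper open subschemes of an integral proper curve are affine (helper6)

Namespace `Groth.Agent.Lib.T2H6.AmpCurve`.
-/

set_option autoImplicit false
set_option linter.style.haveILetI false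
set_option linter.unusedVariables false
set_option linter.unusedSectionVars false
universe u
open CategoryTheory CategoryTheory.Limits AlgebraicGeometry TopologicalSpace Opposite

namespace Groth.Agent.Lib.T2H6.AmpCurve

open Groth.Agent.Lib.T2H6.PicLift Groth.Agent.Lib.Helper6
open Groth.Agent.Lib.T2H6.CurveDeg Groth.Agent.Lib.T2H6.CurveAmple
open Groth.Agent.Lib.Helper23.SecTw Groth.Agent.Lib.Helper23.GenLocus
open Groth.Agent.Lib.T2H6.VAmple Groth.Agent.Lib.T2H6.VAmpleC Groth.Agent.Lib.T2H6.Segre Groth.Agent.Lib.T2H6.SegreB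
open Groth.Agent.Lib.T2H5.DimOneAff

/-- **a nonempty open subscheme `U ≠ Y` of an integral proper curve `Y` over a field is affine**. -/
theorem isAffineOpen_of_ne_top (k : Type u) [Field k] {Y : Scheme.{u}} [Y.Over (Spec (CommRingCat.of k))]
    [IsProper (Y ↘ Spec (CommRingCat.of k))] [IsIntegral Y] (hdim : topologicalKrullDim Y = 1)
    (U : Y.Opens) (hne : (U : Set Y).Nonempty) (hU : ∃ y : Y, y ∉ U) : IsAffineOpen U := by
  classical
  haveI : IsNoetherian Y := isNoetherian_of_finiteType (Y ↘ Spec (CommRingCat.of k))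
  haveI : Y.IsSeparated := isSeparated_of_over_affine (Y ↘ Spec (CommRingCat.of k))
  have hgU : genericPoint Y ∈ U :=
    ((genericPoint_spec Y).mem_open_set_iff U.isOpen).mpr (by simpa [Set.univ_inter] using hne)
  have hgen1 : ∀ η ∈ genPts Y, η = genericPoint Y := fun η hη =>
    (eq_of_specializes_genPts hη (genericPoint_specializes η)).symm
  have hgenU : genPts Y ⊆ U := fun η hη => by rw [hgen1 η hη]; exact hgU
  obtain ⟨hfin, hcl⟩ := finite_compl_and_isClosed hdim.le U.isOpen hgenU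
  -- local equations
  have hex : ∀ x : ↥((U : Set Y)ᶜ), ∃ (T : Y.Opens) (g : Γ(Y, T)), x.1 ∈ T ∧
      (∀ y ∈ T, y ∉ U → y = x.1) ∧ Y.basicOpen g = U ⊓ T := by
    intro x
    obtain ⟨V₀, hV₀, hxV₀⟩ : ∃ V₀ : Y.Opens, IsAffineOpen V₀ ∧ x.1 ∈ V₀ := by
      obtain ⟨_, ⟨W, hW, rfl⟩, hx', -⟩ := Y.isBasis_affineOpens.exists_subset_of_mem_open
        (Set.mem_univ x.1) isOpen_univ
      exact ⟨W, hW, hx'⟩
    have hd : ringKrullDim (Y.presheaf.stalk x.1) ≤ 1 :=
      (Groth.Agent.Lib.Helper4.FibDim.ringKrullDim_stalk_le_topologicalKrullDim Y x.1).trans hdim.le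
    obtain ⟨f, h, hxh, hUh⟩ := exists_inf_basicOpen_eq Y U x.1 x.2 inferInstance hd V₀ hV₀ hxV₀
    have hC : IsClosed ((U : Set Y)ᶜ \ {x.1}) := hcl _ Set.sdiff_subset
    let T : Y.Opens := Y.basicOpen h ⊓ ⟨((U : Set Y)ᶜ \ {x.1})ᶜ, hC.isOpen_compl⟩
    have hTV : T ≤ V₀ := inf_le_left.trans (Y.basicOpen_le h)
    refine ⟨T, resf hTV (f * h), ⟨hxh, fun hh => hh.2 rfl⟩, ?_, ?_⟩
    · intro y hyT hyU
      by_contra hne'
      exact hyT.2 ⟨hyU, hne'⟩
    · rw [Scheme.basicOpen_res, ← hUh]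
      ext z
      constructor
      · rintro ⟨hzT, hzU, -⟩
        exact ⟨hzU, hzT⟩
      · rintro ⟨hzU, hzT⟩
        exact ⟨hzT, hzU, hzT.1⟩
  choose T g hxT hT hg using hex
  let TT : Option ↥((U : Set Y)ᶜ) → Y.Opens := fun i => i.elim U T
  let gg : ∀ i, Γ(Y, TT i) := fun i =>
    Option.rec (motive := fun i => Γ(Y, TT i)) (1 : Γ(Y, U)) (fun x => g x) i
  have hgg : ∀ i, Y.basicOpen (gg i) = U ⊓ TT i := by
    rintro (_ | x)
    · change Y.basicOpen (1 : Γ(Y, U)) = U ⊓ U
      rw [inf_idem, Scheme.basicOpen_one]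
    · exact hg x
  have hTU : ∀ i j, i ≠ j → TT i ⊓ TT j ≤ U := by
    rintro (_ | x) (_ | y) hij
    · exact absurd rfl hij
    · exact inf_le_left
    · exact inf_le_right
    · intro z hz
      by_contra hzU
      have h1 := hT x z hz.1 hzU
      have h2 := hT y z hz.2 hzU
      exact hij (congrArg some (Subtype.ext (h1.symm.trans h2)))
  have hTT : iSup TT = ⊤ := by
    rw [eq_top_iff]
    intro z _
    by_cases hz : z ∈ U
    · exact Opens.mem_iSup.2 ⟨none, hz⟩
    · exact Opens.mem_iSup.2 ⟨some ⟨z, hz⟩, hxT ⟨z, hz⟩⟩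
  obtain ⟨L, s, hL, hs⟩ := Groth.Agent.Lib.T2H5.GlueInv.exists_invertible_section U TT gg hgg hTU hTT
  -- `L` is ample
  obtain ⟨y₀, hy₀⟩ := hU
  obtain ⟨u₀, hu₀⟩ := hne
  have hs0 : s ≠ 0 := by
    rintro rfl
    exact not_mem_genLocus_zero L hL u₀ (hs ▸ hu₀)
  have hdeg : 0 < Curv2.deg k Y L 1 := deg_pos k hdim L hL s hs0 y₀ (hs ▸ hy₀)
  have hamp : CohB1.IsAmple L := isAmple_of_deg_pos k hdim L hL hdeg
  obtain ⟨n, σ, hσZ, -, -⟩ := Groth.Agent.S2324.result Y L hamp ((U : Set Y)ᶜ) hfin ⊤ (fun _ _ => trivial)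
  have hM := isInvertible_tensorPow hL (n + 1)
  let t : Fin (1 + 1) → ProjUP.Γm (CohB1.tensorPow L (n + 1)) :=
    ![sv (SecTwist.powHom s (n + 1)) ⊤, sv σ ⊤]
  have ht0 : secHom _ (t 0) = SecTwist.powHom s (n + 1) := Groth.Agent.Lib.T2H6.VAmpleB.secHom_sv _
  have ht1 : secHom _ (t 1) = σ := Groth.Agent.Lib.T2H6.VAmpleB.secHom_sv _
  have hgen : ProjUP.GeneratedBy _ t := generatedBy_of_cover _ t (fun x => by
    by_cases hx : x ∈ U
    · exact ⟨0, by rw [ht0, genLocus_powHom hL s (n + 1) (Nat.succ_pos n), hs]; exact hx⟩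
    · exact ⟨1, by rw [ht1]; exact hσZ hx⟩)
  obtain ⟨r, hr, hchart, -⟩ := exists_mor_Pn 1 (Y ↘ Spec (CommRingCat.of k)) _ hM t hgen
  obtain ⟨hle, hge, -⟩ := hchart 0
  have hpre : r ⁻¹ᵁ D k 1 0 = U := by
    rw [← hs, ← genLocus_powHom hL s (n + 1) (Nat.succ_pos n), ← ht0]
    exact le_antisymm hge hle
  -- `r` is proper
  haveI hprop : IsProper (CohB1.ProjSpace.toSpec 1 k) := Groth.Agent.S9705.isProper_projSpace_toSpec 1 k
  haveI : IsProper (r ≫ CohB1.ProjSpace.toSpec 1 k) := by rw [hr]; infer_instance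
  haveI : IsProper r := IsProper.of_comp r (CohB1.ProjSpace.toSpec 1 k)
  -- `r` has finite fibres
  haveI : LocallyQuasiFinite r := by
    rw [locallyQuasiFinite_iff_finite_preimage_singleton]
    intro p
    by_cases hp : IsClosed ({p} : Set ↥(CohB1.ProjSpace 1 k))
    · have hcl' : IsClosed (r ⁻¹' {p}) := hp.preimage r.continuous
      have hηp : genericPoint Y ∉ r ⁻¹' {p} := by
        intro hη
        have hall : ∀ y : Y, r y = p := fun y =>
          (genericPoint_specializes y).mem_closed hcl' hη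
        have h1 : r u₀ ∈ D k 1 0 := by
          have : u₀ ∈ r ⁻¹ᵁ D k 1 0 := hpre ▸ hu₀
          exact this
        have h2 : r y₀ ∉ D k 1 0 := fun h => hy₀ (hpre ▸ (show y₀ ∈ r ⁻¹ᵁ D k 1 0 from h))
        rw [hall u₀] at h1
        rw [hall y₀] at h2
        exact h2 h1
      have hgen' : genPts Y ⊆ (r ⁻¹' {p})ᶜ := by
        intro η hη
        rw [hgen1 η hη]
        exact hηp
      have h3 := (finite_compl_and_isClosed hdim.le hcl'.isOpen_compl hgen').1
      rwa [compl_compl] at h3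
    · refine (finite_genPts (α := Y)).subset (fun y hy => ?_)
      by_contra hyg
      have hycl : IsClosed ({y} : Set Y) := isClosed_singleton_of_not_mem_genPts hdim.le hyg
      have h4 := r.isClosedMap _ hycl
      rw [Set.image_singleton, show r y = p from hy] at h4
      exact hp h4
  haveI : IsFinite r := IsFinite.of_isProper_of_locallyQuasiFinite r
  have hDaff : IsAffineOpen (D k 1 0) := Proj.isAffineOpen_basicOpen _ _ (hX k 1 0) Nat.one_pos
  rw [← hpre]
  have haff : IsAffineHom r := inferInstance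
  let r' : Y ⟶ Proj (CohB1.polyGrading 1 k) := r
  haveI : IsAffineHom r' := haff
  exact hDaff.preimage r'

end Groth.Agent.Lib.T2H6.AmpCurve
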