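import Mathlib
import Groth.Agent.Lib.T2H6AmpCurveI
import Groth.Agent.Lib.Helper4IsolFib
import Groth.Agent.S0021
import Groth.Agent.S1627
set_option backward.isDefEq.respectTransparency.types false

/-!
# Affineness from the irreducible components (helper6)

A Noetherian scheme is affine as soon as the reduced induced subschemes on its irreducible components are affine
(Chevalley, `S0021`); application to schemes of dimension `≤ 1` over a field without proper one-dimensional components
(Stacks 0A28).  Namespace `Groth.Agent.Lib.T2H6.AmpCurve`.
-/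

set_option autoImplicit false
set_option linter.style.haveILetI false
set_option linter.unusedVariables false
set_option linter.unusedSectionVars false
universe u
open CategoryTheory CategoryTheory.Limits AlgebraicGeometry TopologicalSpace Opposite

namespace Groth.Agent.Lib.T2H6.AmpCurve

open Scheme.IdealSheafData

variable {X : Scheme.{u}}

theorem range_subschemeι_vanishingIdeal' (W : Closeds X) :
    Set.range (vanishingIdeal W).subschemeι = (W : Set X) := by
  rw [range_subschemeι, coe_support_vanishingIdeal]

/-- closed subschemes of Noetherian schemes are Noetherian. -/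
theorem isNoetherian_subscheme [IsNoetherian X] (I : X.IdealSheafData) : IsNoetherian I.subscheme :=
  { toIsLocallyNoetherian := LocallyOfFiniteType.isLocallyNoetherian I.subschemeι
    toCompactSpace := QuasiCompact.compactSpace_of_compactSpace I.subschemeι }

/-- the reduced subscheme on a union of two closed subsets is affine if the two pieces are. -/
theorem isAffine_subscheme_vanishingIdeal_sup [IsNoetherian X] (W₁ W₂ : Closeds X)
    (h₁ : IsAffine (vanishingIdeal W₁).subscheme) (h₂ : IsAffine (vanishingIdeal W₂).subscheme) :
    IsAffine (vanishingIdeal (W₁ ⊔ W₂)).subscheme := by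
  have hle₁ : vanishingIdeal (W₁ ⊔ W₂) ≤ vanishingIdeal W₁ := vanishingIdeal_antimono le_sup_left
  have hle₂ : vanishingIdeal (W₁ ⊔ W₂) ≤ vanishingIdeal W₂ := vanishingIdeal_antimono le_sup_right
  haveI : IsClosedImmersion (inclusion hle₁ ≫ (vanishingIdeal (W₁ ⊔ W₂)).subschemeι) := by
    rw [inclusion_subschemeι]; infer_instance
  haveI : IsClosedImmersion (inclusion hle₂ ≫ (vanishingIdeal (W₁ ⊔ W₂)).subschemeι) := by
    rw [inclusion_subschemeι]; infer_instance
  haveI : IsClosedImmersion (inclusion hle₁) :=
    IsClosedImmersion.of_comp (inclusion hle₁) (vanishingIdeal (W₁ ⊔ W₂)).subschemeι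
  haveI : IsClosedImmersion (inclusion hle₂) :=
    IsClosedImmersion.of_comp (inclusion hle₂) (vanishingIdeal (W₁ ⊔ W₂)).subschemeι
  haveI := isNoetherian_subscheme (vanishingIdeal (W₁ ⊔ W₂))
  haveI : Surjective (coprod.desc (inclusion hle₁) (inclusion hle₂)) := by
    refine ⟨fun z => ?_⟩
    have hz : (vanishingIdeal (W₁ ⊔ W₂)).subschemeι z ∈ ((W₁ ⊔ W₂ : Closeds X) : Set X) := by
      rw [← range_subschemeι_vanishingIdeal']; exact Set.mem_range_self z
    have hinj := (vanishingIdeal (W₁ ⊔ W₂)).subschemeι.isClosedEmbedding.injective
    rcases hz with hz | hz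
    · rw [← range_subschemeι_vanishingIdeal' W₁] at hz
      obtain ⟨z₁, hz₁⟩ := hz
      refine ⟨(coprod.inl : (vanishingIdeal W₁).subscheme ⟶ _) z₁, hinj ?_⟩
      have e1 : (coprod.desc (inclusion hle₁) (inclusion hle₂))
          ((coprod.inl : (vanishingIdeal W₁).subscheme ⟶ _) z₁) = (inclusion hle₁) z₁ := by
        rw [← Scheme.Hom.comp_apply, coprod.inl_desc]
      rw [e1, ← Scheme.Hom.comp_apply, inclusion_subschemeι]
      exact hz₁
    · rw [← range_subschemeι_vanishingIdeal' W₂] at hz
      obtain ⟨z₂, hz₂⟩ := hz
      refine ⟨(coprod.inr : (vanishingIdeal W₂).subscheme ⟶ _) z₂, hinj ?_⟩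
      have e1 : (coprod.desc (inclusion hle₁) (inclusion hle₂))
          ((coprod.inr : (vanishingIdeal W₂).subscheme ⟶ _) z₂) = (inclusion hle₂) z₂ := by
        rw [← Scheme.Hom.comp_apply, coprod.inr_desc]
      rw [e1, ← Scheme.Hom.comp_apply, inclusion_subschemeι]
      exact hz₂
  exact Groth.Agent.S0021.result (coprod.desc (inclusion hle₁) (inclusion hle₂))

/-- the reduced subscheme on a finite union of closed subsets is affine if the pieces are. -/
theorem isAffine_subscheme_vanishingIdeal_finset_sup [IsNoetherian X] (T : Finset (Closeds X))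
    (h : ∀ W ∈ T, IsAffine (vanishingIdeal W).subscheme) :
    IsAffine (vanishingIdeal (T.sup id)).subscheme := by
  classical
  induction T using Finset.induction_on with
  | empty =>
    rw [Finset.sup_empty]
    haveI : IsEmpty (vanishingIdeal (⊥ : Closeds X)).subscheme := by
      refine ⟨fun z => ?_⟩
      have hz : (vanishingIdeal (⊥ : Closeds X)).subschemeι z ∈ ((⊥ : Closeds X) : Set X) := by
        rw [← range_subschemeι_vanishingIdeal']; exact Set.mem_range_self z
      exact hz
    infer_instance
  | insert W T hW ih =>
    rw [Finset.sup_insert]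
    exact isAffine_subscheme_vanishingIdeal_sup _ _ (h W (Finset.mem_insert_self _ _))
      (ih (fun W' hW' => h W' (Finset.mem_insert_of_mem hW')))

/-- **a Noetherian scheme is affine if the reduced subschemes on its irreducible components are**. -/
theorem isAffine_of_irreducibleComponents [IsNoetherian X]
    (h : ∀ W : Closeds X, (W : Set X) ∈ irreducibleComponents X → IsAffine (vanishingIdeal W).subscheme) :
    IsAffine X := by
  classical
  have hfin : (irreducibleComponents X).Finite := NoetherianSpace.finite_irreducibleComponents
  have hinj : Function.Injective (fun W : Closeds X => (W : Set X)) := fun a b hab => Closeds.ext hab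
  have hfin' : {W : Closeds X | (W : Set X) ∈ irreducibleComponents X}.Finite :=
    hfin.preimage hinj.injOn
  have h1 := isAffine_subscheme_vanishingIdeal_finset_sup hfin'.toFinset
    (fun W hW => h W (hfin'.mem_toFinset.1 hW))
  have htop : hfin'.toFinset.sup id = ⊤ := by
    apply Closeds.ext
    rw [Closeds.coe_top, Set.eq_univ_iff_forall]
    intro x
    have hC := irreducibleComponent_mem_irreducibleComponents x
    let W : Closeds X := ⟨irreducibleComponent x, isClosed_irreducibleComponent⟩
    have hWT : W ∈ hfin'.toFinset := hfin'.mem_toFinset.2 hC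
    have hle : W ≤ hfin'.toFinset.sup id := Finset.le_sup (f := id) hWT
    exact hle mem_irreducibleComponent
  rw [htop] at h1
  haveI := h1
  haveI : Surjective (vanishingIdeal (⊤ : Closeds X)).subschemeι := by
    refine ⟨fun x => ?_⟩
    have : x ∈ Set.range (vanishingIdeal (⊤ : Closeds X)).subschemeι := by
      rw [range_subschemeι_vanishingIdeal']; trivial
    exact this
  exact Groth.Agent.S0021.result (vanishingIdeal (⊤ : Closeds X)).subschemeι

end Groth.Agent.Lib.T2H6.AmpCurve
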