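import Mathlib
import Groth.Agent.Lib.Helper7Dim
import Groth.Agent.Lib.T2H5GenIsoF
import Groth.Agent.Lib.T2H6CurveSatur

/-!
# Pure sheaves on curves are killed by the ideal of their support (helper6)

* `dim_lt_one` : in a quasi-sober T0 space all of whose irreducible components have dimension one, a closed
  subset containing no irreducible component has dimension `< 1`.
* `secSupp`, the support of a section, `closure_secSupp_inter_subset`, `map_eq_zero_of_disjoint_secSupp`.
* `subsingleton_stalk_kernel_η` : the kernel of `J ⟶ j_* j^* J` has no stalks on the open `D`.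
* `eq_zero_of_isPure` : the main statement.
-/

set_option autoImplicit false
set_option linter.style.haveILetI false
set_option linter.unusedSectionVars false
universe u
open CategoryTheory CategoryTheory.Limits AlgebraicGeometry Opposite TopologicalSpace

namespace Groth.Agent.Lib.T2H6.PureSupp

section Top

open Groth.Agent.Lib.Helper7

section Ord
attribute [local instance] specializationOrder

theorem exists_specializes_of_one_le {Y : Type*} [TopologicalSpace Y] [QuasiSober Y] [T0Space Y]
    (h : 1 ≤ topologicalKrullDim Y) : ∃ a b : Y, b ⤳ a ∧ a ≠ b := by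
  rw [topologicalKrullDim_eq_krullDim_points, Order.one_le_krullDim_iff] at h
  obtain ⟨a, b, hab⟩ := h
  rw [specializationOrder_lt_iff] at hab
  exact ⟨a, b, hab⟩

theorem min_or_max_of_le_one {Y : Type*} [TopologicalSpace Y] [QuasiSober Y] [T0Space Y]
    (h : topologicalKrullDim Y ≤ 1) (y : Y) :
    (∀ z, y ⤳ z → z ⤳ y) ∨ (∀ z, z ⤳ y → y ⤳ z) := by
  rw [topologicalKrullDim_eq_krullDim_points, Order.krullDim_le_one_iff] at h
  rcases h y with h | h
  · left; intro z hz; exact h hz
  · right; intro z hz; exact h hz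

end Ord

theorem dim_lt_one {X : Type*} [TopologicalSpace X] [QuasiSober X] [T0Space X]
    (hequi : ∀ Z ∈ irreducibleComponents X, topologicalKrullDim Z = 1) (F : Set X) (hF : IsClosed F)
    (hgen : ∀ Z ∈ irreducibleComponents X, ¬ Z ⊆ F) : topologicalKrullDim F < 1 := by
  by_contra hlt
  rw [not_lt] at hlt
  haveI : QuasiSober F := hF.isClosedEmbedding_subtypeVal.quasiSober
  obtain ⟨a, b, hba, hne⟩ := exists_specializes_of_one_le hlt
  have hba' : (b : X) ⤳ (a : X) := Topology.IsInducing.subtypeVal.specializes_iff.mpr hba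
  have hne' : (a : X) ≠ (b : X) := fun h => hne (Subtype.ext h)
  have hZ : irreducibleComponent (b : X) ∈ irreducibleComponents X :=
    irreducibleComponent_mem_irreducibleComponents _
  have hZc : IsClosed (irreducibleComponent (b : X)) := isClosed_irreducibleComponent
  haveI : QuasiSober (irreducibleComponent (b : X)) := hZc.isClosedEmbedding_subtypeVal.quasiSober
  obtain ⟨ξ, hξ⟩ := QuasiSober.sober (isIrreducible_irreducibleComponent (x := (b : X))) hZc
  have hbZ : (b : X) ∈ irreducibleComponent (b : X) := mem_irreducibleComponent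
  have haZ : (a : X) ∈ irreducibleComponent (b : X) :=
    hZc.closure_subset_iff.2 (Set.singleton_subset_iff.2 hbZ) (specializes_iff_mem_closure.1 hba')
  have hξZ : ξ ∈ irreducibleComponent (b : X) := by rw [← hξ.def]; exact subset_closure rfl
  have hξb : ξ ⤳ (b : X) := by rw [specializes_iff_mem_closure, hξ.def]; exact hbZ
  have h1' : topologicalKrullDim (irreducibleComponent (b : X)) ≤ 1 := (hequi _ hZ).le
  rcases min_or_max_of_le_one h1' ⟨(b : X), hbZ⟩ with hmin | hmax
  · have h3 := hmin ⟨(a : X), haZ⟩ (Topology.IsInducing.subtypeVal.specializes_iff.mp hba')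
    have h4 : (a : X) ⤳ (b : X) := h3.map continuous_subtype_val
    exact hne' (h4.antisymm hba').eq
  · have h3 := hmax ⟨ξ, hξZ⟩ (Topology.IsInducing.subtypeVal.specializes_iff.mp hξb)
    have h4 : (b : X) ⤳ ξ := h3.map continuous_subtype_val
    refine hgen _ hZ ?_
    rw [← hξ.def]
    refine hF.closure_subset_iff.2 (Set.singleton_subset_iff.2 ?_)
    have : ξ ∈ closure ({(b : X)} : Set X) := specializes_iff_mem_closure.1 h4
    exact hF.closure_subset_iff.2 (Set.singleton_subset_iff.2 b.2) this

end Top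

section Sheaf

open Groth.Agent.Lib.T2H5.GenIsoF Groth.Agent.Lib.Helper23.Extend Groth.Agent.Lib.Helper20.StalkExact
open Groth.Agent.Lib.Helper2.QCoh

variable {X : Scheme.{u}} (J : X.Modules)

/-- the support of a section. -/
def secSupp {V : X.Opens} (m : Γ(J, V)) : Set X :=
  {y | ∃ hy : y ∈ V, J.presheaf.germ V y hy m ≠ 0}

theorem isOpen_setOf_germ_eq_zero {V : X.Opens} (m : Γ(J, V)) :
    IsOpen {y : X | ∃ hy : y ∈ V, J.presheaf.germ V y hy m = 0} := by
  rw [isOpen_iff_forall_mem_open]
  rintro y ⟨hy, h0⟩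
  have h0' : J.presheaf.germ V y hy m = J.presheaf.germ V y hy 0 := by rw [h0, map_zero]
  obtain ⟨W, hyW, i₁, i₂, hW⟩ := J.presheaf.germ_eq y hy hy m 0 h0'
  rw [map_zero] at hW
  refine ⟨W, ?_, W.isOpen, hyW⟩
  intro z hz
  refine ⟨i₁.le hz, ?_⟩
  rw [← TopCat.Presheaf.germ_res_apply J.presheaf i₁ z hz m, hW, map_zero]

theorem closure_secSupp_inter_subset {V : X.Opens} (m : Γ(J, V)) :
    closure (secSupp J m) ∩ (V : Set X) ⊆ secSupp J m := by
  rintro y ⟨hyc, hyV⟩
  by_contra hy
  have h0 : J.presheaf.germ V y hyV m = 0 := by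
    by_contra h; exact hy ⟨hyV, h⟩
  have hopen := isOpen_setOf_germ_eq_zero J m
  obtain ⟨z, hz1, hz2⟩ := mem_closure_iff.1 hyc _ hopen ⟨hyV, h0⟩
  obtain ⟨hzV, hz0⟩ := hz1
  obtain ⟨hzV', hzne⟩ := hz2
  exact hzne hz0

theorem map_eq_zero_of_disjoint {V W : X.Opens} (m : Γ(J, V)) (hWV : W ≤ V)
    (hd : Disjoint (W : Set X) (secSupp J m)) : J.presheaf.map (homOfLE hWV).op m = 0 := by
  let F : TopCat.Sheaf Ab X := ⟨J.presheaf, J.isSheaf⟩
  apply TopCat.Presheaf.section_ext F W
  intro x hx
  show J.presheaf.germ W x hx (J.presheaf.map (homOfLE hWV).op m) = J.presheaf.germ W x hx 0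
  rw [TopCat.Presheaf.germ_res_apply, map_zero]
  by_contra h
  exact Set.disjoint_left.1 hd hx ⟨hWV hx, h⟩

theorem subsingleton_stalk_kernel_η (D : X.Opens) (x : X) (hx : x ∈ D) :
    Subsingleton ((kernel (η D J)).presheaf.stalk x) := by
  have hiso := isoOn_η D J
  suffices h : ∀ a : (kernel (η D J)).presheaf.stalk x, a = 0 from ⟨fun a b => by rw [h a, h b]⟩
  intro a
  obtain ⟨V, hxV, t, rfl⟩ := (kernel (η D J)).presheaf.exists_germ_eq a
  have hle : V ⊓ D ≤ V := inf_le_left
  rw [← TopCat.Presheaf.germ_res_apply _ (homOfLE hle) x ⟨hxV, hx⟩ t]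
  have h0 : (kernel (η D J)).presheaf.map (homOfLE hle).op t = 0 := by
    apply Groth.Agent.Lib.Helper20.StalkExact.injective_app_of_mono (kernel.ι (η D J)) (V ⊓ D)
    rw [map_zero]
    haveI := hiso (V ⊓ D) inf_le_right
    have hinj : Function.Injective ((η D J).app (V ⊓ D)) :=
      (ConcreteCategory.bijective_of_isIso ((η D J).app (V ⊓ D))).1
    apply hinj
    rw [map_zero]
    have h1 : (kernel.ι (η D J) ≫ η D J).app (V ⊓ D)
        ((kernel (η D J)).presheaf.map (homOfLE hle).op t) = 0 := by
      rw [kernel.condition]; rfl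
    exact h1
  rw [h0, map_zero]

/-- no irreducible component lies in the closure of the support of a section vanishing at the generic points. -/
theorem not_subset_closure_secSupp [NoetherianSpace X] {V : X.Opens} (m : Γ(J, V))
    (hm : ∀ (y : X) (hy : y ∈ V), closure ({y} : Set X) ∈ irreducibleComponents (X : Type u) →
      J.presheaf.germ V y hy m = 0)
    (Z : Set X) (hZ : Z ∈ irreducibleComponents (X : Type u)) : ¬ Z ⊆ closure (secSupp J m) := by
  intro hsub
  have hZc : IsClosed Z := isClosed_of_mem_irreducibleComponents Z hZ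
  obtain ⟨ξ, hξ⟩ := QuasiSober.sober hZ.1 hZc
  obtain ⟨o, ho, hone, hoZ⟩ := NoetherianSpace.exists_isOpen_nonempty_subset_irreducibleComponent Z hZ
  have hξo : ξ ∈ o := by
    rw [hξ.mem_open_set_iff ho]
    obtain ⟨z, hz⟩ := hone
    exact ⟨z, hoZ hz, hz⟩
  have hξc : ξ ∈ closure (secSupp J m) := hsub (hoZ hξo)
  obtain ⟨t, hto, htT⟩ := mem_closure_iff.1 hξc o ho hξo
  obtain ⟨htV, -⟩ := htT
  have hξt : ξ ⤳ t := by rw [specializes_iff_mem_closure, hξ.def]; exact hoZ hto
  have hξV : ξ ∈ V := hξt.mem_open V.isOpen htV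
  obtain ⟨hξV', hne⟩ := closure_secSupp_inter_subset J m ⟨hξc, hξV⟩
  refine hne (hm ξ hξV' ?_)
  rw [hξ.def]; exact hZ

theorem eq_zero_of_isPure (k : Type u) [Field k] [X.Over (Spec (CommRingCat.of k))]
    [IsProper (X ↘ Spec (CommRingCat.of k))] [IsReduced X]
    (hequi : ∀ Z ∈ irreducibleComponents (X : Type u), topologicalKrullDim Z = 1)
    (hJc : Coh.IsCoh J) (hJp : ShStab.IsPure X J 1)
    (U : X.Opens) (f : Γ(X, U))
    (hf : ∀ x : X, x ∈ U → x ∈ CohB1.support J → x ∉ X.basicOpen f)
    (x : X) (hx : x ∈ U) (t : J.presheaf.stalk x) :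
    (X.presheaf.germ U x hx f) • t = 0 := by
  haveI : IsNoetherian X := Groth.Agent.Lib.T2H6.CurveSatur.isNoetherian_of_proper k
  obtain ⟨V0, hxV0, s0, rfl⟩ := J.presheaf.exists_germ_eq t
  have hVU : V0 ⊓ U ≤ U := inf_le_right
  have hVV0 : V0 ⊓ U ≤ V0 := inf_le_left
  have hxV : x ∈ V0 ⊓ U := ⟨hxV0, hx⟩
  set m : Γ(J, V0 ⊓ U) := X.presheaf.map (homOfLE hVU).op f • J.presheaf.map (homOfLE hVV0).op s0 with hm
  have hgerm : X.presheaf.germ U x hx f • J.presheaf.germ V0 x hxV0 s0 =
      J.presheaf.germ (V0 ⊓ U) x hxV m := by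
    rw [hm, germ_smul, TopCat.Presheaf.germ_res_apply, TopCat.Presheaf.germ_res_apply]
  rw [hgerm]
  -- `m` vanishes at the generic points
  have hmgen : ∀ (y : X) (hy : y ∈ V0 ⊓ U), closure ({y} : Set X) ∈ irreducibleComponents (X : Type u) →
      J.presheaf.germ (V0 ⊓ U) y hy m = 0 := by
    intro y hy hycomp
    by_cases hys : y ∈ CohB1.support J
    · have hfield : IsField (X.presheaf.stalk y) :=
        isField_stalk_of_closure_mem_irreducibleComponents X y hycomp
      have hnu : ¬ IsUnit (X.presheaf.germ U y hy.2 f) := by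
        intro hu
        exact hf y hy.2 hys ((X.mem_basicOpen f y hy.2).2 hu)
      have h0 : X.presheaf.germ U y hy.2 f = 0 := by
        letI := hfield.toField
        by_contra hne
        exact hnu (IsUnit.mk0 _ hne)
      rw [hm, germ_smul, TopCat.Presheaf.germ_res_apply, h0, zero_smul]
    · have hsub : Subsingleton (J.presheaf.stalk y) := by
        by_contra h; exact hys h
      exact Subsingleton.elim _ _
  set T := secSupp J m with hT
  let D : X.Opens := ⟨(closure T)ᶜ, isClosed_closure.isOpen_compl⟩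
  have hgen := not_subset_closure_secSupp J m hmgen
  have hdim : topologicalKrullDim (closure T) < 1 := dim_lt_one hequi (closure T) isClosed_closure hgen
  have hK : IsZero (kernel (η D J)) := by
    by_contra hK
    have h1 := hJp (kernel (η D J)) (kernel.ι (η D J)) inferInstance (isCoh_kernel_η D J hJc) hK
    have hsub : CohB1.support (kernel (η D J)) ⊆ closure T := by
      intro y hy
      by_contra hyc
      exact hy (subsingleton_stalk_kernel_η J D y hyc)
    have h2 : topologicalKrullDim (CohB1.support (kernel (η D J))) ≤ topologicalKrullDim (closure T) :=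
      (Topology.IsEmbedding.inclusion hsub).isInducing.topologicalKrullDim_le
    rw [h1] at h2
    exact absurd (lt_of_le_of_lt h2 hdim) (lt_irrefl _)
  haveI : Mono (η D J) := Preadditive.mono_of_kernel_zero (hK.eq_of_src _ _)
  have hinj := Groth.Agent.Lib.Helper20.StalkExact.injective_app_of_mono (η D J) (V0 ⊓ U)
  have hm0 : m = 0 := by
    apply hinj
    rw [map_zero]
    show ((Scheme.Modules.restrictAdjunction D.ι).unit.app J).app (V0 ⊓ U) m = 0
    rw [Scheme.Modules.restrictAdjunction_unit_app_app]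
    refine map_eq_zero_of_disjoint J m _ ?_
    rw [Set.disjoint_left]
    intro y hy hyT
    have hyD : y ∈ D := by
      have := D.ι.image_preimage_le (V0 ⊓ U)
      have h2 : D.ι ''ᵁ (D.ι ⁻¹ᵁ (V0 ⊓ U)) ≤ D := by
        rw [Scheme.Hom.image_preimage_eq_opensRange_inf, Scheme.Opens.opensRange_ι]
        exact inf_le_left
      exact h2 hy
    exact hyD (subset_closure hyT)
  rw [hm0, map_zero]

end Sheaf

end Groth.Agent.Lib.T2H6.PureSupp
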