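import Mathlib
import Groth.Agent.Lib.Helper20ZClos9
import Groth.Agent.Lib.Helper23AssAffine
import Groth.Agent.Lib.Helper23AssStalk
import Groth.Agent.Lib.Helper23FinType2
import Groth.Agent.Lib.T2H5Devissage
import Groth.Agent.Lib.T2H6PureSupp

/-!
# Embedded associated points of coherent modules, part A (helper6)

General facts on associated points of coherent modules on locally Noetherian schemes, the generic points `Gen F` of
the support, and the open set `D F` obtained by removing the closures of the embedded associated points.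
-/

set_option autoImplicit false
set_option linter.style.haveILetI false
set_option linter.unusedSectionVars false
universe u
open CategoryTheory CategoryTheory.Limits AlgebraicGeometry Opposite TopologicalSpace

namespace Groth.Agent.Lib.T2H6.EmbPt

section Top

theorem exists_maximal_specializes {Z : Type*} [TopologicalSpace Z] [QuasiSober Z] [T0Space Z] (z : Z) :
    ∃ ξ : Z, ξ ⤳ z ∧ ∀ y : Z, y ⤳ ξ → y = ξ := by
  obtain ⟨ξ, hξ⟩ := QuasiSober.sober (isIrreducible_irreducibleComponent (x := z))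
    isClosed_irreducibleComponent
  refine ⟨ξ, ?_, fun y hy => ?_⟩
  · rw [specializes_iff_mem_closure, hξ.def]; exact mem_irreducibleComponent
  · have hmax := irreducibleComponent_mem_irreducibleComponents z
    have h1 : irreducibleComponent z ⊆ closure ({y} : Set Z) := by
      rw [← hξ.def]
      exact closure_minimal (Set.singleton_subset_iff.2 (specializes_iff_mem_closure.1 hy)) isClosed_closure
    have h2 : closure ({y} : Set Z) ⊆ irreducibleComponent z :=
      hmax.2 isIrreducible_singleton.closure h1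
    have h3 : ξ ⤳ y := by
      rw [specializes_iff_mem_closure, hξ.def]; exact h2 (subset_closure rfl)
    exact (h3.antisymm hy).eq.symm

end Top

variable {X : Scheme.{u}}

section Ass

variable [IsLocallyNoetherian X] (F : X.Modules)

theorem mem_support_of_isAssPoint (x : X) (hx : Curv2.IsAssPoint F x) : x ∈ CohB1.support F := by
  haveI := Groth.Agent.Lib.Helper23.AssStalk.nontrivial_stalk_of_isAssPoint F x hx
  exact not_subsingleton _

theorem exists_isAssPoint_specializes [F.IsQuasicoherent] (x : X) (hx : x ∈ CohB1.support F) :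
    ∃ x' : X, Curv2.IsAssPoint F x' ∧ x' ⤳ x := by
  have hnt : Nontrivial (F.presheaf.stalk x) := not_subsingleton_iff_nontrivial.1 hx
  obtain ⟨z, hz, hzx⟩ := Groth.Agent.Lib.Helper23.AssStalk.exists_isWeakAssPoint_specializes F x hnt
  exact ⟨z, (Groth.Agent.Lib.Helper2.Ass.isAssPoint_iff_isWeakAssPoint F z).2 hz, hzx⟩

theorem finite_isAssPoint_inter (hF : Coh.IsCoh F) {W : X.Opens} (hW : IsAffineOpen W) :
    {x : X | x ∈ W ∧ Curv2.IsAssPoint F x}.Finite := by
  haveI := hF.1
  haveI : SheafOfModules.IsFiniteType (R := X.ringCatSheaf) F := hF.2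
  haveI : IsNoetherianRing Γ(X, W) := IsLocallyNoetherian.component_noetherian ⟨W, hW⟩
  haveI : Module.Finite Γ(X, W) Γ(F, W) := Groth.Agent.Lib.Helper23.FinType.finite_of_isFiniteType F hW
  have hfin : (associatedPrimes Γ(X, W) Γ(F, W)).Finite := associatedPrimes.finite _ _
  haveI : Finite (associatedPrimes Γ(X, W) Γ(F, W)) := hfin.to_subtype
  let g : associatedPrimes Γ(X, W) Γ(F, W) → X := fun p => hW.fromSpec ⟨p.1, p.2.isPrime⟩
  refine (Set.finite_range g).subset ?_
  rintro x ⟨hxW, hx⟩
  have h1 := (Groth.Agent.Lib.Helper23.AssAffine.isAssPoint_iff_mem_associatedPrimes hW F x hxW).1 hx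
  refine ⟨⟨_, h1⟩, ?_⟩
  exact hW.fromSpec_primeIdealOf ⟨x, hxW⟩

theorem isAssPoint_of_mono {G : X.Modules} (φ : G ⟶ F) [Mono φ] (x : X) (hx : Curv2.IsAssPoint G x) :
    Curv2.IsAssPoint F x := by
  have hinj : Function.Injective (Groth.Agent.S8890.ψₗ φ x) := by
    intro a b hab
    apply Groth.Agent.Lib.Helper23.StalkLin.stalkLin_injective φ x
    obtain ⟨V, hxV, s, rfl⟩ := G.presheaf.exists_germ_eq a
    obtain ⟨V', hxV', s', rfl⟩ := G.presheaf.exists_germ_eq b
    rw [Groth.Agent.Lib.Helper4.NormDelta.stalkLin_germ, Groth.Agent.Lib.Helper4.NormDelta.stalkLin_germ]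
    have := hab
    rw [Groth.Agent.S8890.ψₗ_apply, Groth.Agent.S8890.ψₗ_apply, Groth.Agent.S8890.ψ_germ,
      Groth.Agent.S8890.ψ_germ] at this
    exact this
  exact associatedPrimes.subset_of_injective hinj hx

end Ass

section Gen

open Groth.Agent.Lib.T2H5.Devissage

variable [IsLocallyNoetherian X] (F : X.Modules)

/-- the generic points of the support. -/
def Gen : Set X := {ξ | ξ ∈ CohB1.support F ∧ ∀ y ∈ CohB1.support F, y ⤳ ξ → y = ξ}

theorem exists_gen_specializes (hF : Coh.IsCoh F) (z : X) (hz : z ∈ CohB1.support F) :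
    ∃ ξ ∈ Gen F, ξ ⤳ z := by
  have hcl := isClosed_support F hF
  haveI : QuasiSober (CohB1.support F) := hcl.isClosedEmbedding_subtypeVal.quasiSober
  obtain ⟨ξ, hξz, hmax⟩ := exists_maximal_specializes (⟨z, hz⟩ : CohB1.support F)
  refine ⟨ξ.1, ⟨ξ.2, fun y hy hyξ => ?_⟩, hξz.map continuous_subtype_val⟩
  have := hmax ⟨y, hy⟩ (Topology.IsInducing.subtypeVal.specializes_iff.mp hyξ)
  exact congrArg Subtype.val this

theorem isAssPoint_of_mem_gen [F.IsQuasicoherent] (ξ : X) (hξ : ξ ∈ Gen F) : Curv2.IsAssPoint F ξ := by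
  obtain ⟨x', hx', hx'ξ⟩ := exists_isAssPoint_specializes F ξ hξ.1
  have := hξ.2 x' (mem_support_of_isAssPoint F x' hx') hx'ξ
  rwa [this] at hx'

/-- the embedded associated points. -/
def Emb : Set X := {x | Curv2.IsAssPoint F x ∧ x ∉ Gen F}

/-- the union of the closures of the embedded points. -/
def embClosure : Set X := ⋃ x : Emb F, closure ({(x : X)} : Set X)

theorem isClosed_iUnion_closure_of_isAssPoint (hF : Coh.IsCoh F) (S : Set X)
    (hS : ∀ x ∈ S, Curv2.IsAssPoint F x) : IsClosed (⋃ x : S, closure ({(x : X)} : Set X)) := by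
  refine LocallyFinite.isClosed_iUnion ?_ (fun _ => isClosed_closure)
  intro y
  obtain ⟨W, hW, hyW⟩ := Groth.Agent.Lib.Helper20.ZClosLib.exists_affine_mem y
  refine ⟨W, W.isOpen.mem_nhds hyW, ?_⟩
  have hfin := finite_isAssPoint_inter F hF hW
  refine (hfin.preimage (Subtype.val_injective.injOn)).subset ?_
  rintro ⟨x, hx⟩ ⟨t, htc, htW⟩
  have : x ⤳ t := specializes_iff_mem_closure.2 htc
  exact ⟨this.mem_open W.isOpen htW, hS x hx⟩

theorem isClosed_embClosure (hF : Coh.IsCoh F) : IsClosed (embClosure F) :=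
  isClosed_iUnion_closure_of_isAssPoint F hF (Emb F) fun _ hx => hx.1

/-- the complement of the closures of the embedded points. -/
def D (hF : Coh.IsCoh F) : X.Opens := ⟨(embClosure F)ᶜ, (isClosed_embClosure F hF).isOpen_compl⟩

theorem gen_subset_D (hF : Coh.IsCoh F) (ξ : X) (hξ : ξ ∈ Gen F) : ξ ∈ D F hF := by
  intro hmem
  obtain ⟨x, hx⟩ := Set.mem_iUnion.1 hmem
  have hxξ : (x : X) ⤳ ξ := specializes_iff_mem_closure.2 hx
  have := hξ.2 x (mem_support_of_isAssPoint F x x.2.1) hxξ
  exact x.2.2 (this ▸ hξ)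

theorem mem_gen_of_isAssPoint_of_mem_D (hF : Coh.IsCoh F) (x : X) (hx : Curv2.IsAssPoint F x)
    (hxD : x ∈ D F hF) : x ∈ Gen F := by
  by_contra hng
  exact hxD (Set.mem_iUnion.2 ⟨⟨x, hx, hng⟩, subset_closure rfl⟩)

theorem support_subset_closure (hF : Coh.IsCoh F) :
    CohB1.support F ⊆ closure ((D F hF : Set X) ∩ CohB1.support F) := by
  intro z hz
  obtain ⟨ξ, hξ, hξz⟩ := exists_gen_specializes F hF z hz
  have h1 : ({ξ} : Set X) ⊆ (D F hF : Set X) ∩ CohB1.support F :=
    Set.singleton_subset_iff.2 ⟨gen_subset_D F hF ξ hξ, hξ.1⟩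
  exact closure_mono h1 (specializes_iff_mem_closure.1 hξz)

end Gen

end Groth.Agent.Lib.T2H6.EmbPt
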