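import Mathlib
import Groth.Agent.Lib.T2H6EmbPtA

/-!
# Embedded associated points of coherent modules, part B (helper6)

The largest coherent submodule with nowhere dense support: it is the kernel of `F ⟶ j_* j^* F` for the open
`D F` of part A.
-/

set_option autoImplicit false
set_option linter.style.haveILetI false
set_option linter.unusedSectionVars false
universe u
open CategoryTheory CategoryTheory.Limits AlgebraicGeometry Opposite TopologicalSpace

namespace Groth.Agent.Lib.T2H6.EmbPt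

open Groth.Agent.Lib.T2H5.GenIsoF Groth.Agent.Lib.Helper23.Extend
open Groth.Agent.Lib.Helper2.QCoh
open Groth.Agent.S8890 (ψ ψ_germ ψ_smul ψₗ)

variable {X : Scheme.{u}}

section Stalk

theorem shortExact_cokernel {K F : X.Modules} (i : K ⟶ F) [Mono i] :
    (ShortComplex.mk i (cokernel.π i) (cokernel.condition i)).ShortExact :=
  ShortComplex.ShortExact.mk' (ShortComplex.exact_cokernel i) inferInstance inferInstance

theorem surjective_ψ_of_epi {F Q : X.Modules} (π : F ⟶ Q) [Epi π] (x : X) :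
    Function.Surjective (ψ π x) :=
  Groth.Agent.Lib.Helper4.NormDelta.stalkLin_surjective π x

theorem bijective_ψ_cokernel_π {K F : X.Modules} (i : K ⟶ F) [Mono i] (x : X)
    (hx : Subsingleton (K.presheaf.stalk x)) : Function.Bijective (ψ (cokernel.π i) x) := by
  refine ⟨?_, surjective_ψ_of_epi _ x⟩
  rw [injective_iff_map_eq_zero]
  intro a ha
  have hex := Groth.Agent.Lib.Helper23.StalkLin.stalkLin_exact _ (shortExact_cokernel i) x
  obtain ⟨b, hb⟩ := (hex a).1 ha
  rw [← hb, Subsingleton.elim b 0, map_zero]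

end Stalk

section TF

variable [IsLocallyNoetherian X]

/-- associated points of a module without sections supported off `D` lie in `D`. -/
theorem mem_of_isAssPoint_of_tf (D : X.Opens) (Q : X.Modules) [Q.IsQuasicoherent] (hQ : TF D Q)
    (x : X) (hx : Curv2.IsAssPoint Q x) : x ∈ D := by
  by_contra hxD
  obtain ⟨W, hW, hxW⟩ := Groth.Agent.Lib.Helper20.ZClosLib.exists_affine_mem x
  haveI : IsNoetherianRing Γ(X, W) := IsLocallyNoetherian.component_noetherian ⟨W, hW⟩
  have h1 := (Groth.Agent.Lib.Helper23.AssAffine.isAssPoint_iff_mem_associatedPrimes hW Q x hxW).1 hx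
  obtain ⟨hp, m, hm⟩ := isAssociatedPrime_iff.1 h1
  have hm0 : m ≠ 0 := by
    rintro rfl
    have : (1 : Γ(X, W)) ∈ (hW.primeIdealOf ⟨x, hxW⟩).asIdeal := by
      rw [hm, Submodule.mem_colon_singleton]; simp
    exact hp.ne_top ((Ideal.eq_top_iff_one _).2 this)
  apply hm0
  haveI : Mono (η D Q) := hQ
  apply Groth.Agent.Lib.Helper20.StalkExact.injective_app_of_mono (η D Q) W
  rw [map_zero]
  show ((Scheme.Modules.restrictAdjunction D.ι).unit.app Q).app W m = 0
  rw [Scheme.Modules.restrictAdjunction_unit_app_app]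
  refine Groth.Agent.Lib.T2H6.PureSupp.map_eq_zero_of_disjoint Q m _ ?_
  rw [Set.disjoint_left]
  rintro y hy ⟨hyW, hne⟩
  apply hne
  have hyD : y ∈ D := by
    have h2 : D.ι ''ᵁ (D.ι ⁻¹ᵁ W) ≤ D := by
      rw [Scheme.Hom.image_preimage_eq_opensRange_inf, Scheme.Opens.opensRange_ι]
      exact inf_le_left
    exact h2 hy
  have hnle : ¬ (hW.primeIdealOf ⟨x, hxW⟩).asIdeal ≤ (hW.primeIdealOf ⟨y, hyW⟩).asIdeal := by
    intro hle
    have h3 := fromSpec_specializes hW (hW.primeIdealOf ⟨x, hxW⟩) y hyW hle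
    rw [hW.fromSpec_primeIdealOf ⟨x, hxW⟩] at h3
    exact hxD (h3.mem_open D.isOpen hyD)
  obtain ⟨r, hrp, hry⟩ := Set.not_subset.mp hnle
  have hrm : r • m = 0 := by
    have : r ∈ (⊥ : Submodule Γ(X, W) Γ(Q, W)).colon {m} := hm ▸ hrp
    rw [Submodule.mem_colon_singleton] at this
    exact this
  have hu : IsUnit (X.presheaf.germ W y hyW r) := by
    rw [← Scheme.mem_basicOpen, Groth.Agent.Lib.Helper2.mem_basicOpen_iff_notMem_primeIdealOf hW y hyW]
    exact hry
  have h0 : X.presheaf.germ W y hyW r • Q.presheaf.germ W y hyW m = 0 := by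
    rw [← germ_smul, hrm, map_zero]
  exact germ_smul_eq_zero_of_isUnit hu h0

end TF

section Main

open Groth.Agent.Lib.T2H5.Devissage Groth.Agent.Lib.T2H5.GenIsoB Groth.Agent.Lib.T2H6.PureSupp

variable [IsLocallyNoetherian X] (F : X.Modules) (hF : Coh.IsCoh F)

/-- the candidate: sections supported off `D F`. -/
noncomputable abbrev KK : Subobject F := kernelSubobject (η (D F hF) F)

theorem isCoh_KK : Coh.IsCoh ((KK F hF : Subobject F) : X.Modules) :=
  isCoh_of_iso (kernelSubobjectIso _).symm (isCoh_kernel_η (D F hF) F hF)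

theorem subsingleton_stalk_KK (x : X) (hx : x ∈ D F hF) :
    Subsingleton (((KK F hF : Subobject F) : X.Modules).presheaf.stalk x) := by
  have h1 := subsingleton_stalk_kernel_η F (D F hF) x hx
  have h2 := support_eq_of_iso (kernelSubobjectIso (η (D F hF) F))
  by_contra h
  have h3 : x ∈ CohB1.support (kernel (η (D F hF) F)) := h2 ▸ h
  exact h3 h1

theorem nowhereDense_KK (U : X.Opens)
    (hU : (U : Set X) ∩ CohB1.support F ⊆ CohB1.support ((KK F hF : Subobject F) : X.Modules)) :
    (U : Set X) ∩ CohB1.support F = ∅ := by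
  rw [Set.eq_empty_iff_forall_notMem]
  rintro z ⟨hzU, hzF⟩
  obtain ⟨ξ, hξ, hξz⟩ := exists_gen_specializes F hF z hzF
  have hξU : ξ ∈ U := hξz.mem_open U.isOpen hzU
  exact hU ⟨hξU, hξ.1⟩ (subsingleton_stalk_KK F hF ξ (gen_subset_D F hF ξ hξ))

/-- a coherent submodule with nowhere dense support has no stalks on `D F`. -/
theorem subsingleton_stalk_of_nowhereDense (K' : X.Modules) (i : K' ⟶ F) [Mono i] (hK' : Coh.IsCoh K')
    (hnd : ∀ U : X.Opens, (U : Set X) ∩ CohB1.support F ⊆ CohB1.support K' →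
      (U : Set X) ∩ CohB1.support F = ∅) (y : X) (hy : y ∈ D F hF) :
    Subsingleton (K'.presheaf.stalk y) := by
  haveI := hF.1
  haveI := hK'.1
  by_contra hne
  obtain ⟨x', hx', hx'y⟩ := exists_isAssPoint_specializes K' y hne
  have hx'D : x' ∈ D F hF := hx'y.mem_open (D F hF).isOpen hy
  have hx'F : Curv2.IsAssPoint F x' := isAssPoint_of_mono F i x' hx'
  have hx'G : x' ∈ Gen F := mem_gen_of_isAssPoint_of_mem_D F hF x' hx'F hx'D
  have hx'K : x' ∈ CohB1.support K' := mem_support_of_isAssPoint K' x' hx'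
  have hclK : IsClosed (CohB1.support K') := isClosed_support K' hK'
  let S : Set X := {x | Curv2.IsAssPoint F x ∧ x ≠ x'}
  have hScl : IsClosed (⋃ x : S, closure ({(x : X)} : Set X)) :=
    isClosed_iUnion_closure_of_isAssPoint F hF S fun _ hx => hx.1
  let U : X.Opens := ⟨(⋃ x : S, closure ({(x : X)} : Set X))ᶜ, hScl.isOpen_compl⟩
  have hx'U : x' ∈ U := by
    intro hmem
    obtain ⟨x, hx⟩ := Set.mem_iUnion.1 hmem
    have hxx' : (x : X) ⤳ x' := specializes_iff_mem_closure.2 hx
    exact x.2.2 (hx'G.2 x (mem_support_of_isAssPoint F x x.2.1) hxx')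
  have hsub : (U : Set X) ∩ CohB1.support F ⊆ CohB1.support K' := by
    rintro z ⟨hzU, hzF⟩
    obtain ⟨x, hx, hxz⟩ := exists_isAssPoint_specializes F z hzF
    have hxx' : x = x' := by
      by_contra hne'
      exact hzU (Set.mem_iUnion.2 ⟨⟨x, hx, hne'⟩, specializes_iff_mem_closure.1 hxz⟩)
    rw [hxx'] at hxz
    exact hxz.mem_closed hclK hx'K
  have := hnd U hsub
  rw [Set.eq_empty_iff_forall_notMem] at this
  exact this x' ⟨hx'U, hx'G.1⟩

theorem isZero_restrict_of_subsingleton_stalk (D' : X.Opens) (K' : X.Modules)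
    (h : ∀ y ∈ D', Subsingleton (K'.presheaf.stalk y)) :
    IsZero ((Scheme.Modules.restrictFunctor D'.ι).obj K') := by
  rw [IsZero.iff_id_eq_zero]
  apply Scheme.Modules.hom_ext
  intro V
  ext m
  have hle : D'.ι ''ᵁ V ≤ D' := by
    have := Scheme.Hom.image_le_opensRange D'.ι V
    rwa [Scheme.Opens.opensRange_ι] at this
  have h0 : (m : Γ(K', D'.ι ''ᵁ V)) = 0 :=
    Groth.Agent.Lib.Helper20.ZClosLib.eq_zero_of_germ_eq_zero K' (A := D'.ι ''ᵁ V) m
      fun y hy => by
        haveI := h y (hle hy)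
        exact Subsingleton.elim _ _
  have h1 : m = 0 := h0
  rw [h1, map_zero, map_zero]

theorem le_KK_of_nowhereDense (K' : Subobject F) (hK' : Coh.IsCoh (K' : X.Modules))
    (hnd : ∀ U : X.Opens, (U : Set X) ∩ CohB1.support F ⊆ CohB1.support (K' : X.Modules) →
      (U : Set X) ∩ CohB1.support F = ∅) : K' ≤ KK F hF := by
  apply le_kernelSubobject
  apply eq_zero_of_restrict_eq_zero (D F hF) (tf_pushforward (D F hF) _)
  apply IsZero.eq_of_src
  exact isZero_restrict_of_subsingleton_stalk (D F hF) _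
    fun y hy => subsingleton_stalk_of_nowhereDense F hF _ K'.arrow hK' hnd y hy

/-- the quotient by the sections supported off `D F`. -/
noncomputable abbrev QQ : X.Modules := cokernel (KK F hF).arrow

theorem isCoh_QQ : Coh.IsCoh (QQ F hF) := isCoh_cokernel _ (isCoh_KK F hF) hF

theorem support_QQ : CohB1.support (QQ F hF) = CohB1.support F := by
  apply Set.Subset.antisymm
  · intro x hx
    by_contra hxF
    have hsub : Subsingleton (F.presheaf.stalk x) := not_not.1 hxF
    apply hx
    refine ⟨fun a b => ?_⟩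
    obtain ⟨a', rfl⟩ := surjective_ψ_of_epi (cokernel.π (KK F hF).arrow) x a
    obtain ⟨b', rfl⟩ := surjective_ψ_of_epi (cokernel.π (KK F hF).arrow) x b
    rw [Subsingleton.elim a' b']
  · intro z hz
    obtain ⟨ξ, hξ, hξz⟩ := exists_gen_specializes F hF z hz
    have hbij := bijective_ψ_cokernel_π (KK F hF).arrow ξ
      (subsingleton_stalk_KK F hF ξ (gen_subset_D F hF ξ hξ))
    have hξQ : ξ ∈ CohB1.support (QQ F hF) := by
      intro hsub
      apply hξ.1
      exact ⟨fun a b => hbij.1 (Subsingleton.elim _ _)⟩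
    exact hξz.mem_closed (isClosed_support _ (isCoh_QQ F hF)) hξQ

theorem tf_QQ : TF (D F hF) (QQ F hF) := by
  have e : QQ F hF ≅ cokernel (kernel.ι (η (D F hF) F)) :=
    cokernelIsoOfEq (kernelSubobject_arrow _).symm ≪≫ cokernelEpiComp _ _
  exact tf_of_mono (D F hF) e.hom (tf_coimage (D F hF) F)

theorem mem_gen_of_isAssPoint_QQ (x : X) (hx : Curv2.IsAssPoint (QQ F hF) x) : x ∈ Gen F := by
  haveI := (isCoh_QQ F hF).1
  have hxD := mem_of_isAssPoint_of_tf (D F hF) (QQ F hF) (tf_QQ F hF) x hx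
  have hbij := bijective_ψ_cokernel_π (KK F hF).arrow x (subsingleton_stalk_KK F hF x hxD)
  have hxF : Curv2.IsAssPoint F x :=
    (Groth.Agent.Lib.Helper20.ZClosLib.isAssPoint_iff_of_bijective _ x hbij).2 hx
  exact mem_gen_of_isAssPoint_of_mem_D F hF x hxF hxD

theorem noEmbedded_QQ (x : X) (hx : Curv2.IsAssPoint (QQ F hF) x) (y : X)
    (hy : Curv2.IsAssPoint (QQ F hF) y) (hyx : y ⤳ x) : y = x :=
  (mem_gen_of_isAssPoint_QQ F hF x hx).2 y (mem_gen_of_isAssPoint_QQ F hF y hy).1 hyx

/-- the dense open on which `F ⟶ QQ` is an isomorphism. -/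
noncomputable def UU : X.Opens :=
  D F hF ⊔ ⟨(CohB1.support F)ᶜ, (isClosed_support F hF).isOpen_compl⟩

theorem mem_UU_iff (x : X) : x ∈ UU F hF ↔ x ∈ D F hF ∨ x ∉ CohB1.support F := Iff.rfl

theorem dense_UU : Dense (UU F hF : Set X) := by
  intro z
  by_cases hz : z ∈ CohB1.support F
  · have h1 := support_subset_closure F hF hz
    refine closure_mono ?_ h1
    rintro y ⟨hyD, -⟩
    exact (mem_UU_iff F hF y).2 (Or.inl hyD)
  · exact subset_closure ((mem_UU_iff F hF z).2 (Or.inr hz))

theorem support_subset_closure_UU :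
    CohB1.support F ⊆ closure ((UU F hF : Set X) ∩ CohB1.support F) := by
  intro z hz
  refine closure_mono ?_ (support_subset_closure F hF hz)
  rintro y ⟨hyD, hyF⟩
  exact ⟨(mem_UU_iff F hF y).2 (Or.inl hyD), hyF⟩

theorem isIso_restrict_π :
    IsIso ((Scheme.Modules.restrictFunctor (UU F hF).ι).map (cokernel.π (KK F hF).arrow)) := by
  rw [isIso_restrict_iff, Scheme.Opens.opensRange_ι]
  intro W' hW'
  rw [ConcreteCategory.isIso_iff_bijective]
  let F' : TopCat.Sheaf AddCommGrpCat.{u} X.carrier := ⟨F.presheaf, F.isSheaf⟩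
  let G' : TopCat.Sheaf AddCommGrpCat.{u} X.carrier := ⟨(QQ F hF).presheaf, (QQ F hF).isSheaf⟩
  let f' : F' ⟶ G' := ⟨Scheme.Modules.Hom.mapPresheaf (cokernel.π (KK F hF).arrow)⟩
  refine TopCat.Presheaf.app_bijective_of_stalkFunctor_map_bijective f' W' (fun x hx => ?_)
  refine bijective_ψ_cokernel_π (KK F hF).arrow x ?_
  rcases (mem_UU_iff F hF x).1 (hW' hx) with h | h
  · exact subsingleton_stalk_KK F hF x h
  · have hsub : Subsingleton (F.presheaf.stalk x) := not_not.1 h
    exact ⟨fun a b => Groth.Agent.Lib.Helper23.StalkLin.stalkLin_injective (KK F hF).arrow x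
      (Subsingleton.elim _ _)⟩

end Main

end Groth.Agent.Lib.T2H6.EmbPt
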