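import Mathlib
import Groth.Agent.Lib.T2H6EmbPtB

/-!
# Embedded associated points of coherent modules, part C (helper6)

Uniqueness of the reduced primary decomposition of a coherent module without embedded associated points.
-/

set_option autoImplicit false
set_option linter.style.haveILetI false
set_option linter.unusedSectionVars false
universe u
open CategoryTheory CategoryTheory.Limits AlgebraicGeometry Opposite TopologicalSpace

namespace Groth.Agent.Lib.T2H6.EmbPt

open Groth.Agent.Lib.T2H5.GenIsoF Groth.Agent.Lib.Helper23.Extend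
open Groth.Agent.Lib.Helper2.QCoh
open Groth.Agent.S8890 (ψ ψ_germ ψ_smul ψₗ)
open Groth.Agent.Lib.T2H5.Devissage Groth.Agent.Lib.T2H5.GenIsoB Groth.Agent.Lib.T2H6.PureSupp

variable {X : Scheme.{u}}

/-- a morphism into a quasi-coherent module vanishes if the source has no stalks at the associated points of the
target. -/
theorem eq_zero_of_subsingleton_stalk_at_ass {A B : X.Modules} [B.IsQuasicoherent] (c : A ⟶ B)
    (h : ∀ y : X, Curv2.IsAssPoint B y → Subsingleton (A.presheaf.stalk y)) : c = 0 := by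
  apply Scheme.Modules.hom_ext
  intro W
  ext s
  have h0 : c.app W s = 0 := by
    by_contra hne
    obtain ⟨y, hyW, hyA, hgy⟩ :=
      Groth.Agent.Lib.Helper2.Ass.exists_isWeakAssPoint_of_ne_zero_open B W (c.app W s) hne
    have hyA' : Curv2.IsAssPoint B y := (Groth.Agent.Lib.Helper2.Ass.isAssPoint_iff_isWeakAssPoint B y).2 hyA
    haveI := h y hyA'
    apply hgy
    rw [← ψ_germ c y hyW s, Subsingleton.elim (A.presheaf.germ W y hyW s) 0, map_zero]
  rw [h0]
  rfl

section Unique

variable [IsLocallyNoetherian X] (M : X.Modules) (hM : Coh.IsCoh M) (hne : AssSch.NoEmbedded M)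
  (G : ↥(AssSch.Ass M) → X.Modules) (q : ∀ x, M ⟶ G x)
  (hG : ∀ x, Coh.IsCoh (G x)) (hA : ∀ x, AssSch.Ass (G x) = {x.1})
  (hm : ∀ (T : X.Modules) (a b : T ⟶ M), (∀ x, a ≫ q x = b ≫ q x) → a = b)

include hM hne hG hA hm in
theorem subsingleton_stalk_kernel_q (x : ↥(AssSch.Ass M)) :
    Subsingleton ((kernel (q x)).presheaf.stalk x.1) := by
  haveI := hM.1
  have hNcoh : Coh.IsCoh (kernel (q x)) := isCoh_kernel (q x) hM (hG x)
  haveI := hNcoh.1
  let D' : X.Opens := ⟨(closure ({x.1} : Set X))ᶜ, isClosed_closure.isOpen_compl⟩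
  have ha : kernel.ι (η D' (kernel (q x))) ≫ kernel.ι (q x) = 0 := by
    apply hm
    intro y
    rw [zero_comp]
    by_cases hyx : y = x
    · subst hyx; rw [Category.assoc, kernel.condition, comp_zero]
    · haveI := (hG y).1
      apply eq_zero_of_subsingleton_stalk_at_ass
      intro z hz
      have hz' : z = y.1 := by
        have : z ∈ AssSch.Ass (G y) := hz
        rw [hA y] at this
        exact this
      rw [hz']
      apply subsingleton_stalk_kernel_η (kernel (q x)) D' y.1
      intro hmem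
      have hspec : x.1 ⤳ y.1 := specializes_iff_mem_closure.2 hmem
      exact hyx (Subtype.ext (hne y.1 y.2 x.1 x.2 hspec))
  have hι : kernel.ι (η D' (kernel (q x))) = 0 := by
    apply (cancel_mono (kernel.ι (q x))).1; rw [ha, zero_comp]
  haveI : Mono (η D' (kernel (q x))) := Preadditive.mono_of_kernel_zero hι
  have hTF : TF D' (kernel (q x)) := ‹_›
  by_contra hns
  obtain ⟨x', hx', hx'x⟩ := exists_isAssPoint_specializes (kernel (q x)) x.1 hns
  have hx'M : Curv2.IsAssPoint M x' := isAssPoint_of_mono M (kernel.ι (q x)) x' hx'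
  have hxx' : x.1 = x' := hne x.1 x.2 x' hx'M hx'x
  have := mem_of_isAssPoint_of_tf D' (kernel (q x)) hTF x' hx'
  rw [← hxx'] at this
  exact this (subset_closure rfl)

include hM hne hG hA hm in
theorem kernel_ι_comp_eq_zero (G' : ↥(AssSch.Ass M) → X.Modules) (q' : ∀ x, M ⟶ G' x)
    (hG' : ∀ x, Coh.IsCoh (G' x)) (hA' : ∀ x, AssSch.Ass (G' x) = {x.1}) (x : ↥(AssSch.Ass M)) :
    kernel.ι (q x) ≫ q' x = 0 := by
  haveI := (hG' x).1
  apply eq_zero_of_subsingleton_stalk_at_ass
  intro z hz
  have hz' : z = x.1 := by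
    have : z ∈ AssSch.Ass (G' x) := hz
    rw [hA' x] at this
    exact this
  rw [hz']
  exact subsingleton_stalk_kernel_q M hM hne G q hG hA hm x

end Unique

theorem exists_iso_of_kernel_comp_eq_zero {M G G' : X.Modules} (q : M ⟶ G) (q' : M ⟶ G') [Epi q] [Epi q']
    (h : kernel.ι q ≫ q' = 0) (h' : kernel.ι q' ≫ q = 0) : ∃ e : G ≅ G', q ≫ e.hom = q' := by
  let d : G ⟶ G' := (Abelian.epiIsCokernelOfKernel _ (kernelIsKernel q)).desc (CokernelCofork.ofπ q' h)
  have hd : q ≫ d = q' :=
    (Abelian.epiIsCokernelOfKernel _ (kernelIsKernel q)).fac (CokernelCofork.ofπ q' h) WalkingParallelPair.one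
  let d' : G' ⟶ G := (Abelian.epiIsCokernelOfKernel _ (kernelIsKernel q')).desc (CokernelCofork.ofπ q h')
  have hd' : q' ≫ d' = q :=
    (Abelian.epiIsCokernelOfKernel _ (kernelIsKernel q')).fac (CokernelCofork.ofπ q h') WalkingParallelPair.one
  refine ⟨⟨d, d', ?_, ?_⟩, hd⟩
  · rw [← cancel_epi q, ← Category.assoc, hd, hd', Category.comp_id]
  · rw [← cancel_epi q', ← Category.assoc, hd', hd, Category.comp_id]

end Groth.Agent.Lib.T2H6.EmbPt
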