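import Mathlib
import Groth.Agent.Lib.T2H6EmbPtC

/-!
# Embedded associated points of coherent modules, part D (helper6)

The filtration of a coherent module by the sections supported on unions of closures of associated points, and the
associated points of its successive quotients.
-/

set_option autoImplicit false
set_option linter.style.haveILetI false
set_option linter.unusedSectionVars false
universe u
open CategoryTheory CategoryTheory.Limits AlgebraicGeometry Opposite TopologicalSpace

namespace Groth.Agent.Lib.T2H6.EmbPt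

open Groth.Agent.Lib.T2H5.GenIsoF Groth.Agent.Lib.Helper23.Extend
open Groth.Agent.Lib.Helper2.QCoh
open Groth.Agent.S8890 (ψ ψ_germ ψ_smul ψₗ)
open Groth.Agent.Lib.T2H5.Devissage Groth.Agent.Lib.T2H5.GenIsoB Groth.Agent.Lib.T2H6.PureSupp

variable {X : Scheme.{u}}

section Abelian

variable {C : Type*} [Category C] [Abelian C]

theorem mono_cokernel_map_ofLE {M : C} (A B : Subobject M) (h : A ≤ B) :
    Mono (cokernel.map (Subobject.ofLE A B h) A.arrow (𝟙 _) B.arrow
      (by rw [Subobject.ofLE_arrow, Category.id_comp])) := by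
  have sq : IsPullback (Subobject.ofLE A B h) (𝟙 _) B.arrow (Subobject.ofLE A B h ≫ B.arrow) :=
    IsPullback.of_vert_isIso_mono ⟨by rw [Category.id_comp]⟩
  have h1 := Abelian.mono_cokernel_map_of_isPullback sq
  have h2 : Subobject.ofLE A B h ≫ B.arrow = A.arrow := Subobject.ofLE_arrow h
  convert h1 using 2 <;> simp [h2]

end Abelian

theorem exists_mono_cokernel_ofLE {C : Type*} [Category C] [Abelian C] {M : C} (A B : Subobject M) (h : A ≤ B) :
    ∃ φ : cokernel (Subobject.ofLE A B h) ⟶ cokernel A.arrow, Mono φ :=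
  ⟨_, mono_cokernel_map_ofLE A B h⟩

theorem map_map'' (L : X.Modules) {U V W : X.Opens} (f : V ⟶ U) (g : W ⟶ V) (k : W ⟶ U)
    (t : Γ(L, U)) :
    L.presheaf.map g.op (L.presheaf.map f.op t) = L.presheaf.map k.op t := by
  rw [← ConcreteCategory.comp_apply, ← Functor.map_comp, ← op_comp]
  rw [Subsingleton.elim (g ≫ f) k]

section Kernels

variable [IsLocallyNoetherian X] (M : X.Modules)

theorem kernelSubobject_η_mono {D₁ D₂ : X.Opens} (hD : D₁ ≤ D₂) :
    kernelSubobject (η D₂ M) ≤ kernelSubobject (η D₁ M) := by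
  apply le_kernelSubobject
  apply Scheme.Modules.hom_ext
  intro W
  ext t
  have h2 : (η D₂ M).app W ((kernelSubobject (η D₂ M)).arrow.app W t) = 0 := by
    have h3 : ((kernelSubobject (η D₂ M)).arrow ≫ η D₂ M).app W t = 0 := by
      rw [kernelSubobject_arrow_comp]; rfl
    exact h3
  have hle : D₁.ι ''ᵁ (D₁.ι ⁻¹ᵁ W) ≤ D₂.ι ''ᵁ (D₂.ι ⁻¹ᵁ W) := by
    rw [Scheme.Hom.image_preimage_eq_opensRange_inf, Scheme.Hom.image_preimage_eq_opensRange_inf,
      Scheme.Opens.opensRange_ι, Scheme.Opens.opensRange_ι]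
    exact inf_le_inf_right W hD
  show (η D₁ M).app W ((kernelSubobject (η D₂ M)).arrow.app W t) = 0
  change ((Scheme.Modules.restrictAdjunction D₂.ι).unit.app M).app W _ = 0 at h2
  change ((Scheme.Modules.restrictAdjunction D₁.ι).unit.app M).app W _ = 0
  rw [Scheme.Modules.restrictAdjunction_unit_app_app] at h2 ⊢
  have h4 : M.presheaf.map (homOfLE hle).op (M.presheaf.map (homOfLE (D₂.ι.image_preimage_le W)).op
      ((kernelSubobject (η D₂ M)).arrow.app W t)) = 0 :=
    (congrArg (M.presheaf.map (homOfLE hle).op) h2).trans (map_zero _)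
  rw [map_map'' M _ _ (homOfLE (D₁.ι.image_preimage_le W))] at h4
  exact h4

theorem tf_cokernel_kernelSubobject (D' : X.Opens) :
    TF D' (cokernel (kernelSubobject (η D' M)).arrow) := by
  have e : cokernel (kernelSubobject (η D' M)).arrow ≅ cokernel (kernel.ι (η D' M)) :=
    cokernelIsoOfEq (kernelSubobject_arrow _).symm ≪≫ cokernelEpiComp _ _
  exact tf_of_mono D' e.hom (tf_coimage D' M)

theorem subsingleton_stalk_kernelSubobject (D' : X.Opens) (x : X) (hx : x ∈ D') :
    Subsingleton (((kernelSubobject (η D' M) : Subobject M) : X.Modules).presheaf.stalk x) := by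
  have h1 := subsingleton_stalk_kernel_η M D' x hx
  have h2 := support_eq_of_iso (kernelSubobjectIso (η D' M))
  by_contra h
  have h3 : x ∈ CohB1.support (kernel (η D' M)) := h2 ▸ h
  exact h3 h1

theorem isCoh_kernelSubobject (hM : Coh.IsCoh M) (D' : X.Opens) :
    Coh.IsCoh ((kernelSubobject (η D' M) : Subobject M) : X.Modules) :=
  isCoh_of_iso (kernelSubobjectIso _).symm (isCoh_kernel_η D' M hM)

theorem isAssPoint_cokernel_ofLE (hM : Coh.IsCoh M) {D₁ D₂ : X.Opens}
    (h : kernelSubobject (η D₂ M) ≤ kernelSubobject (η D₁ M)) (y : X)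
    (hy : Curv2.IsAssPoint (cokernel (Subobject.ofLE _ _ h)) y) :
    Curv2.IsAssPoint M y ∧ y ∈ D₂ ∧ y ∉ D₁ := by
  have hN₁ := isCoh_kernelSubobject M hM D₁
  have hN₂ := isCoh_kernelSubobject M hM D₂
  have hC : Coh.IsCoh (cokernel (Subobject.ofLE _ _ h)) := isCoh_cokernel _ hN₂ hN₁
  haveI := hC.1
  obtain ⟨φ, hφ⟩ := exists_mono_cokernel_ofLE _ _ h
  have hTF : TF D₂ (cokernel (Subobject.ofLE _ _ h)) :=
    tf_of_mono D₂ φ (tf_cokernel_kernelSubobject M D₂)
  have hyD₂ : y ∈ D₂ := mem_of_isAssPoint_of_tf D₂ _ hTF y hy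
  have hbij := bijective_ψ_cokernel_π (Subobject.ofLE _ _ h) y
    (subsingleton_stalk_kernelSubobject M D₂ y hyD₂)
  have hyN₁ : Curv2.IsAssPoint ((kernelSubobject (η D₁ M) : Subobject M) : X.Modules) y :=
    (Groth.Agent.Lib.Helper20.ZClosLib.isAssPoint_iff_of_bijective _ y hbij).2 hy
  refine ⟨isAssPoint_of_mono M (kernelSubobject (η D₁ M)).arrow y hyN₁, hyD₂, fun hyD₁ => ?_⟩
  have := mem_support_of_isAssPoint _ y hyN₁
  exact this (subsingleton_stalk_kernelSubobject M D₁ y hyD₁)

theorem isZero_of_forall_not_isAssPoint (C : X.Modules) [C.IsQuasicoherent]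
    (h : ∀ y : X, ¬ Curv2.IsAssPoint C y) : IsZero C := by
  apply isZero_of_support_eq_empty
  rw [Set.eq_empty_iff_forall_notMem]
  intro z hz
  obtain ⟨x', hx', -⟩ := exists_isAssPoint_specializes C z hz
  exact h x' hx'

theorem kernelSubobject_η_eq_top (D' : X.Opens) (h : ∀ y ∈ D', Subsingleton (M.presheaf.stalk y)) :
    kernelSubobject (η D' M) = ⊤ := by
  have h0 : η D' M = 0 := by
    apply eq_zero_of_restrict_eq_zero D' (tf_pushforward D' _)
    apply IsZero.eq_of_src
    exact isZero_restrict_of_subsingleton_stalk D' M h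
  rw [h0]
  exact kernelSubobject_zero

theorem kernelSubobject_η_eq_bot (D' : X.Opens) (h : ∀ y : X, y ∈ D') :
    kernelSubobject (η D' M) = ⊥ := by
  haveI : Mono (η D' M) := by
    refine mono_of_app_injective _ fun W => ?_
    rw [injective_iff_map_eq_zero]
    intro s hs
    change ((Scheme.Modules.restrictAdjunction D'.ι).unit.app M).app W s = 0 at hs
    rw [Scheme.Modules.restrictAdjunction_unit_app_app] at hs
    refine Groth.Agent.Lib.Helper20.ZClosLib.eq_zero_of_germ_eq_zero M s fun y hy => ?_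
    have hy' : y ∈ D'.ι ''ᵁ (D'.ι ⁻¹ᵁ W) := by
      rw [Scheme.Hom.image_preimage_eq_opensRange_inf, Scheme.Opens.opensRange_ι]
      exact ⟨h y, hy⟩
    rw [← TopCat.Presheaf.germ_res_apply M.presheaf (homOfLE (D'.ι.image_preimage_le W)) y hy' s]
    exact (congrArg (M.presheaf.germ _ y hy') hs).trans (map_zero _)
  show Subobject.mk (kernel.ι (η D' M)) = ⊥
  rw [Subobject.mk_eq_bot_iff_zero]
  exact kernel.ι_of_mono _

end Kernels

end Groth.Agent.Lib.T2H6.EmbPt
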