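import Mathlib
import Groth.Agent.Lib.T2H6EmbPtD

/-!
# Embedded associated points of coherent modules, part E (helper6)

A filtration of a coherent module on a Noetherian scheme whose successive quotients are zero or have a single
associated point.
-/

set_option autoImplicit false
set_option linter.style.haveILetI false
set_option linter.unusedSectionVars false
universe u
open CategoryTheory CategoryTheory.Limits AlgebraicGeometry Opposite TopologicalSpace

namespace Groth.Agent.Lib.T2H6.EmbPt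

open Groth.Agent.Lib.T2H5.GenIsoF Groth.Agent.Lib.Helper23.Extend
open Groth.Agent.Lib.Helper2.QCoh
open Groth.Agent.Lib.T2H5.Devissage Groth.Agent.Lib.T2H5.GenIsoB Groth.Agent.Lib.T2H6.PureSupp

variable {X : Scheme.{u}}

theorem finite_isAssPoint [IsNoetherian X] (M : X.Modules) (hM : Coh.IsCoh M) :
    {x : X | Curv2.IsAssPoint M x}.Finite := by
  have hc : IsCompact (Set.univ : Set X) := isCompact_univ
  obtain ⟨t, ht⟩ := hc.elim_finite_subcover (fun W : X.affineOpens => ((W : X.Opens) : Set X))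
    (fun W => W.1.isOpen) (by
      intro x _
      obtain ⟨W, hW, hx⟩ := Groth.Agent.Lib.Helper20.ZClosLib.exists_affine_mem x
      exact Set.mem_iUnion.2 ⟨⟨W, hW⟩, hx⟩)
  refine (Set.Finite.biUnion t.finite_toSet
    (fun W _ => finite_isAssPoint_inter M hM W.2)).subset ?_
  intro x hx
  obtain ⟨W, hWt, hxW⟩ := Set.mem_iUnion₂.1 (ht (Set.mem_univ x))
  exact Set.mem_iUnion₂.2 ⟨W, hWt, hxW, hx⟩

section Key

open Classical in
/-- a numbering of a finite set of points compatible with specialization. -/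
theorem exists_key {T : Type*} [TopologicalSpace T] [T0Space T] (A : Finset T) :
    ∃ κ : T → ℕ, Set.InjOn κ (A : Set T) ∧
      ∀ x ∈ A, ∀ y ∈ A, x ⤳ y → x ≠ y → κ y < κ x := by
  classical
  let n := A.card
  let r : T → ℕ := fun x => (A.filter (fun y => x ⤳ y)).card
  let e : T → ℕ := fun x => if h : x ∈ A then ((A.equivFin ⟨x, h⟩ : Fin A.card) : ℕ) else 0
  have he_lt : ∀ x ∈ A, e x < n := by
    intro x hx
    simp only [e, hx, dif_pos]
    exact (A.equivFin ⟨x, hx⟩).2
  have he_inj : ∀ x ∈ A, ∀ y ∈ A, e x = e y → x = y := by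
    intro x hx y hy hxy
    simp only [e, hx, hy, dif_pos] at hxy
    have := A.equivFin.injective (Fin.ext hxy)
    exact congrArg Subtype.val this
  refine ⟨fun x => r x * n + e x, ?_, ?_⟩
  · intro x hx y hy hxy
    have hxy' : (r x * n + e x) % n = (r y * n + e y) % n := congrArg (· % n) hxy
    rw [Nat.mul_add_mod_of_lt (he_lt x hx), Nat.mul_add_mod_of_lt (he_lt y hy)] at hxy'
    exact he_inj x hx y hy hxy'
  · intro x hx y hy hxy hne
    have hr : r y < r x := by
      apply Finset.card_lt_card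
      refine ⟨?_, ?_⟩
      · intro z hz
        rw [Finset.mem_filter] at hz ⊢
        exact ⟨hz.1, hxy.trans hz.2⟩
      · intro hsub
        have hx' : x ∈ A.filter (fun z => x ⤳ z) := Finset.mem_filter.2 ⟨hx, specializes_rfl⟩
        have := (Finset.mem_filter.1 (hsub hx')).2
        exact hne (hxy.antisymm this).eq
    have h1 : r y * n + e y < (r y + 1) * n := by
      have := he_lt y hy
      nlinarith
    have h2 : (r y + 1) * n ≤ r x * n := Nat.mul_le_mul_right n hr
    show r y * n + e y < r x * n + e x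
    omega

end Key

section Filtration

variable [IsLocallyNoetherian X] (M : X.Modules) (hM : Coh.IsCoh M) (κ : X → ℕ)

/-- the associated points of key `< k`. -/
def SS (k : ℕ) : Set X := {x | Curv2.IsAssPoint M x ∧ κ x < k}

/-- the complement of the closures of the associated points of key `< k`. -/
def Dk (k : ℕ) : X.Opens :=
  ⟨(⋃ x : SS M κ k, closure ({(x : X)} : Set X))ᶜ,
    (isClosed_iUnion_closure_of_isAssPoint M hM (SS M κ k) fun _ hx => hx.1).isOpen_compl⟩

theorem mem_Dk_iff (k : ℕ) (y : X) :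
    y ∈ Dk M hM κ k ↔ ∀ x, Curv2.IsAssPoint M x → κ x < k → ¬ x ⤳ y := by
  constructor
  · intro hy x hx hxk hxy
    exact hy (Set.mem_iUnion.2 ⟨⟨x, hx, hxk⟩, specializes_iff_mem_closure.1 hxy⟩)
  · intro h hy
    obtain ⟨x, hx⟩ := Set.mem_iUnion.1 hy
    exact h x x.2.1 x.2.2 (specializes_iff_mem_closure.2 hx)

theorem Dk_anti {k k' : ℕ} (h : k ≤ k') : Dk M hM κ k' ≤ Dk M hM κ k := by
  intro y hy
  rw [mem_Dk_iff] at hy ⊢
  exact fun x hx hxk => hy x hx (lt_of_lt_of_le hxk h)

/-- the sections supported on the closures of the associated points of key `< k`. -/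
noncomputable def NN (k : ℕ) : Subobject M := kernelSubobject (η (Dk M hM κ k) M)

theorem NN_mono {k k' : ℕ} (h : k ≤ k') : NN M hM κ k ≤ NN M hM κ k' :=
  kernelSubobject_η_mono M (Dk_anti M hM κ h)

theorem NN_zero : NN M hM κ 0 = ⊥ := by
  apply kernelSubobject_η_eq_bot
  intro y
  rw [mem_Dk_iff]
  intro x _ hx
  exact absurd hx (Nat.not_lt_zero _)

theorem NN_top (K : ℕ) (hK : ∀ x, Curv2.IsAssPoint M x → κ x < K) : NN M hM κ K = ⊤ := by
  haveI := hM.1
  apply kernelSubobject_η_eq_top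
  intro y hy
  by_contra hns
  obtain ⟨x, hx, hxy⟩ := exists_isAssPoint_specializes M y hns
  exact (mem_Dk_iff M hM κ K y).1 hy x hx (hK x hx) hxy

theorem isCoh_NN (k : ℕ) : Coh.IsCoh ((NN M hM κ k : Subobject M) : X.Modules) :=
  isCoh_kernelSubobject M hM _

theorem isAssPoint_cokernel_NN
    (hκ : ∀ x, Curv2.IsAssPoint M x → ∀ y, Curv2.IsAssPoint M y → x ⤳ y → x ≠ y → κ y < κ x)
    (a b : ℕ) (hab : b = a + 1) (h : NN M hM κ a ≤ NN M hM κ b) (y : X)
    (hy : Curv2.IsAssPoint (cokernel (Subobject.ofLE _ _ h)) y) :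
    Curv2.IsAssPoint M y ∧ κ y = a := by
  subst hab
  obtain ⟨hyM, hyD₂, hyD₁⟩ := isAssPoint_cokernel_ofLE M hM h y hy
  refine ⟨hyM, ?_⟩
  rw [mem_Dk_iff] at hyD₂ hyD₁
  push Not at hyD₁
  obtain ⟨x₀, hx₀, hx₀k, hx₀y⟩ := hyD₁
  have hge : a ≤ κ x₀ := by
    by_contra hlt
    exact hyD₂ x₀ hx₀ (not_le.1 hlt) hx₀y
  have hx₀a : κ x₀ = a := by omega
  by_contra hne
  have hxy : x₀ ≠ y := by
    rintro rfl
    exact hne hx₀a
  have hlt := hκ x₀ hx₀ y hyM hx₀y hxy
  rw [hx₀a] at hlt
  exact hyD₂ y hyM hlt specializes_rfl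

end Filtration

theorem exists_filtration [IsNoetherian X] (M : X.Modules) (hM : Coh.IsCoh M) :
    ∃ (n : ℕ) (F : Fin (n + 1) → Subobject M) (hF : Antitone F),
      F 0 = ⊤ ∧ F (Fin.last n) = ⊥ ∧ (∀ j, Coh.IsCoh ((F j : Subobject M) : X.Modules)) ∧
        ∀ i : Fin n,
          IsZero (cokernel (Subobject.ofLE (F i.succ) (F i.castSucc)
              (hF (Fin.castSucc_lt_succ (i := i)).le))) ∨
            ∃ x ∈ AssSch.Ass M,
              AssSch.Ass (cokernel (Subobject.ofLE (F i.succ) (F i.castSucc)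
                (hF (Fin.castSucc_lt_succ (i := i)).le))) = {x} := by
  classical
  have hfin := finite_isAssPoint M hM
  obtain ⟨κ, hinj, hκ⟩ := exists_key hfin.toFinset
  let K := hfin.toFinset.sup κ + 1
  have hK : ∀ x, Curv2.IsAssPoint M x → κ x < K := fun x hx =>
    Nat.lt_succ_of_le (Finset.le_sup (f := κ) (hfin.mem_toFinset.2 hx))
  have hκ' : ∀ x, Curv2.IsAssPoint M x → ∀ y, Curv2.IsAssPoint M y → x ⤳ y → x ≠ y → κ y < κ x :=
    fun x hx y hy => hκ x (hfin.mem_toFinset.2 hx) y (hfin.mem_toFinset.2 hy)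
  have hanti : Antitone (fun j : Fin (K + 1) => NN M hM κ (K - j)) := by
    intro j j' hjj'
    exact NN_mono M hM κ (Nat.sub_le_sub_left (Fin.le_def.1 hjj') K)
  refine ⟨K, fun j => NN M hM κ (K - j), hanti, ?_, ?_, ?_, ?_⟩
  · exact NN_top M hM κ K hK
  · show NN M hM κ (K - K) = ⊥
    rw [Nat.sub_self]
    exact NN_zero M hM κ
  · intro j
    exact isCoh_NN M hM κ _
  · intro i
    have hab : K - (i.castSucc : ℕ) = (K - (i.succ : ℕ)) + 1 := by
      have := i.2
      simp only [Fin.val_castSucc, Fin.val_succ]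
      omega
    have hC : Coh.IsCoh (cokernel (Subobject.ofLE (NN M hM κ (K - (i.succ : ℕ)))
        (NN M hM κ (K - (i.castSucc : ℕ))) (hanti (Fin.castSucc_lt_succ (i := i)).le))) :=
      isCoh_cokernel _ (isCoh_NN M hM κ _) (isCoh_NN M hM κ _)
    have key := isAssPoint_cokernel_NN M hM κ hκ' (K - (i.succ : ℕ)) (K - (i.castSucc : ℕ)) hab
      (hanti (Fin.castSucc_lt_succ (i := i)).le)
    by_cases hex : ∃ y, Curv2.IsAssPoint (cokernel (Subobject.ofLE (NN M hM κ (K - (i.succ : ℕ)))
        (NN M hM κ (K - (i.castSucc : ℕ))) (hanti (Fin.castSucc_lt_succ (i := i)).le))) y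
    · obtain ⟨y₀, hy₀⟩ := hex
      right
      refine ⟨y₀, (key y₀ hy₀).1, ?_⟩
      ext y
      constructor
      · intro hy
        have h1 := key y hy
        have h2 := key y₀ hy₀
        exact hinj (hfin.mem_toFinset.2 h1.1) (hfin.mem_toFinset.2 h2.1) (h1.2.trans h2.2.symm)
      · intro hy
        rw [Set.mem_singleton_iff] at hy
        rw [hy]
        exact hy₀
    · left
      push Not at hex
      haveI := hC.1
      exact isZero_of_forall_not_isAssPoint _ hex

end Groth.Agent.Lib.T2H6.EmbPt
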