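import Mathlib
import Groth.Agent.Lib.T2H6EmbPtE
import Groth.Agent.Lib.T2H5IdealMul
import Groth.Agent.Lib.Helper2FibreCrit2
import Groth.Agent.Lib.T2H5GenIsoC

/-!
# Embedded associated points of coherent modules, part F (helper6)

Existence of a primary decomposition of a coherent module on a locally Noetherian scheme.
-/

set_option autoImplicit false
set_option linter.style.haveILetI false
set_option linter.unusedSectionVars false
universe u
open CategoryTheory CategoryTheory.Limits AlgebraicGeometry Opposite TopologicalSpace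

namespace Groth.Agent.Lib.T2H6.EmbPt

open Groth.Agent.Lib.T2H5.GenIsoF Groth.Agent.Lib.Helper23.Extend
open Groth.Agent.Lib.Helper2.QCoh
open Groth.Agent.S8890 (ψ ψ_germ ψ_smul ψₗ)
open Groth.Agent.Lib.T2H5.Devissage Groth.Agent.Lib.T2H5.GenIsoB Groth.Agent.Lib.T2H6.PureSupp

section ArtinRees

variable {R : Type*} [CommRing R] [IsNoetherianRing R] (I : Ideal R) {N : Type*} [AddCommGroup N]
  [Module R N] [Module.Finite R N]

/-- Artin–Rees: elements killed by `I` and lying in `I ^ n • ⊤` for a large `n` vanish. -/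
theorem exists_forall_eq_zero_of_mem_pow_smul :
    ∃ n₀ : ℕ, ∀ n ≥ n₀, ∀ t : N, (∀ a ∈ I, a • t = 0) → t ∈ (I ^ n • ⊤ : Submodule R N) → t = 0 := by
  let L : Submodule R N :=
    { carrier := {t | ∀ a ∈ I, a • t = 0}
      add_mem' := fun {s t} hs ht a ha => by rw [smul_add, hs a ha, ht a ha, add_zero]
      zero_mem' := fun a _ => smul_zero a
      smul_mem' := fun c t ht a ha => by rw [smul_comm, ht a ha, smul_zero] }
  obtain ⟨k, hk⟩ := Ideal.exists_pow_inf_eq_pow_smul I L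
  refine ⟨k + 1, fun n hn t ht htn => ?_⟩
  have h1 : t ∈ (I ^ n • ⊤ ⊓ L : Submodule R N) := ⟨htn, ht⟩
  rw [hk n (by omega)] at h1
  have h2 : (I ^ (n - k) • (I ^ k • ⊤ ⊓ L) : Submodule R N) ≤ ⊥ := by
    rw [Submodule.smul_le]
    intro a ha y hy
    have hnk : n - k = (n - k - 1) + 1 := by omega
    rw [hnk, pow_succ] at ha
    refine Submodule.mul_induction_on ha ?_ ?_
    · intro b _ c hc
      rw [Submodule.mem_bot, mul_smul, hy.2 c hc, smul_zero]
    · intro b c hb hc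
      rw [Submodule.mem_bot] at hb hc ⊢
      rw [add_smul, hb, hc, add_zero]
  exact (Submodule.mem_bot R).1 (h2 h1)

end ArtinRees

theorem exists_smul_colon_isPrime {A : Type*} [CommRing A] [IsNoetherianRing A] {N : Type*} [AddCommGroup N]
    [Module A N] (x : N) (hx : x ≠ 0) :
    ∃ r : A, ((⊥ : Submodule A N).colon {r • x}).IsPrime := by
  have hx' : (⟨x, Submodule.mem_span_singleton_self x⟩ : Submodule.span A {x}) ≠ 0 := by
    intro h
    exact hx (congrArg Subtype.val h)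
  obtain ⟨P, hP, -⟩ := exists_le_isAssociatedPrime_of_isNoetherianRing A _ hx'
  obtain ⟨hprime, y, hy⟩ := isAssociatedPrime_iff.1 hP
  obtain ⟨r, hr⟩ := Submodule.mem_span_singleton.1 y.2
  refine ⟨r, ?_⟩
  have : (⊥ : Submodule A N).colon {r • x} = P := by
    rw [hy]
    ext a
    rw [Submodule.mem_colon_singleton, Submodule.mem_colon_singleton, Submodule.mem_bot, Submodule.mem_bot, hr]
    constructor
    · intro h
      exact Subtype.ext h
    · intro h
      exact congrArg Subtype.val h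
  rw [this]
  exact hprime

section Germ

variable {X : Scheme.{u}}

theorem germ_mem_pow_smul (M : X.Modules) {V : X.Opens} (hV : IsAffineOpen V) (x : X) (hx : x ∈ V)
    (J : Ideal Γ(X, V)) (hJ : J ≤ (hV.primeIdealOf ⟨x, hx⟩).asIdeal) (n : ℕ) (μ : Γ(M, V))
    (hμ : μ ∈ (J ^ n • ⊤ : Submodule Γ(X, V) Γ(M, V))) :
    M.presheaf.germ V x hx μ ∈
      ((IsLocalRing.maximalIdeal (X.presheaf.stalk x)) ^ n • ⊤ :
        Submodule (X.presheaf.stalk x) (M.presheaf.stalk x)) := by
  have hg : ∀ a ∈ J ^ n, X.presheaf.germ V x hx a ∈ (IsLocalRing.maximalIdeal (X.presheaf.stalk x)) ^ n := by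
    intro a ha
    have h1 : a ∈ (hV.primeIdealOf ⟨x, hx⟩).asIdeal ^ n := Ideal.pow_right_mono hJ n ha
    have h2 : ((hV.primeIdealOf ⟨x, hx⟩).asIdeal).map (X.presheaf.germ V x hx).hom ≤
        IsLocalRing.maximalIdeal (X.presheaf.stalk x) := by
      rw [Ideal.map_le_iff_le_comap]
      intro b hb
      exact (germ_mem_maximalIdeal_iff hV x hx b).2 hb
    have h3 := Ideal.mem_map_of_mem (X.presheaf.germ V x hx).hom h1
    rw [Ideal.map_pow] at h3
    exact Ideal.pow_right_mono h2 n h3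
  refine Submodule.smul_induction_on hμ ?_ ?_
  · intro a ha μ' _
    rw [germ_smul]
    exact Submodule.smul_mem_smul (hg a ha) Submodule.mem_top
  · intro μ₁ μ₂ h1 h2
    rw [map_add]
    exact add_mem h1 h2

end Germ

section Primary

open Groth.Agent.Lib.T2H5.IdealMul

variable {X : Scheme.{u}} [IsLocallyNoetherian X] (M : X.Modules) (hM : Coh.IsCoh M)

/-- the ideal of the closure of `x`. -/
noncomputable abbrev Ix (x : X) : X.IdealSheafData :=
  Scheme.IdealSheafData.vanishingIdeal ⟨closure {x}, isClosed_closure⟩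

theorem ideal_Ix_le (x : X) {V : X.Opens} (hV : IsAffineOpen V) (hx : x ∈ V) :
    (Ix x).ideal ⟨V, hV⟩ ≤ (hV.primeIdealOf ⟨x, hx⟩).asIdeal := by
  intro a ha
  rw [Scheme.IdealSheafData.vanishingIdeal_ideal] at ha
  refine (PrimeSpectrum.mem_vanishingIdeal _ _).1 ha (hV.primeIdealOf ⟨x, hx⟩) ?_
  show hV.fromSpec (hV.primeIdealOf ⟨x, hx⟩) ∈ closure {x}
  rw [hV.fromSpec_primeIdealOf]
  exact subset_closure rfl

theorem ψ_idealMulι_mem [M.IsQuasicoherent] (x : X) (n : ℕ)
    (t : ((Dual3.idealMul ((Ix x) ^ n)).obj M).presheaf.stalk x) :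
    ψ (Dual3.idealMulι ((Ix x) ^ n) M) x t ∈
      ((IsLocalRing.maximalIdeal (X.presheaf.stalk x)) ^ n • ⊤ :
        Submodule (X.presheaf.stalk x) (M.presheaf.stalk x)) := by
  obtain ⟨V₀, hxV₀, τ₀, rfl⟩ := ((Dual3.idealMul ((Ix x) ^ n)).obj M).presheaf.exists_germ_eq t
  obtain ⟨_, ⟨V, hV, rfl⟩, hxV, hVV₀⟩ :=
    X.isBasis_affineOpens.exists_subset_of_mem_open hxV₀ V₀.2
  have hle : V ≤ V₀ := hVV₀
  rw [← TopCat.Presheaf.germ_res_apply _ (homOfLE hle) x hxV τ₀, ψ_germ]
  set τ := ((Dual3.idealMul ((Ix x) ^ n)).obj M).presheaf.map (homOfLE hle).op τ₀ with hτ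
  have h1 := (exists_idealMulι_app_eq_iff ((Ix x) ^ n) M ⟨V, hV⟩
    ((Dual3.idealMulι ((Ix x) ^ n) M).app V τ)).1 ⟨τ, rfl⟩
  rw [Scheme.IdealSheafData.ideal_pow] at h1
  exact germ_mem_pow_smul M hV x hxV _ (ideal_Ix_le x hV hxV) n _ h1

include hM in
theorem exists_nx (x : X) : ∃ n₀ : ℕ, ∀ n ≥ n₀, ∀ t : M.presheaf.stalk x,
    (∀ a ∈ IsLocalRing.maximalIdeal (X.presheaf.stalk x), a • t = 0) →
      t ∈ ((IsLocalRing.maximalIdeal (X.presheaf.stalk x)) ^ n • ⊤ :
        Submodule (X.presheaf.stalk x) (M.presheaf.stalk x)) → t = 0 := by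
  haveI := hM.1
  haveI : SheafOfModules.IsFiniteType (R := X.ringCatSheaf) M := hM.2
  haveI := Groth.Agent.Lib.Helper2.FibreCrit.finite_stalk M x
  exact exists_forall_eq_zero_of_mem_pow_smul _

/-- the Artin–Rees exponent at `x` (at least one). -/
noncomputable def nx (x : X) : ℕ := Classical.choose (exists_nx M hM x) + 1

theorem nx_spec (x : X) (t : M.presheaf.stalk x)
    (ht : ∀ a ∈ IsLocalRing.maximalIdeal (X.presheaf.stalk x), a • t = 0)
    (htn : t ∈ ((IsLocalRing.maximalIdeal (X.presheaf.stalk x)) ^ (nx M hM x) • ⊤ :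
        Submodule (X.presheaf.stalk x) (M.presheaf.stalk x))) : t = 0 :=
  Classical.choose_spec (exists_nx M hM x) (nx M hM x) (Nat.le_succ _) t ht htn

/-- `M / I_x ^ n M`. -/
noncomputable abbrev Mn (x : X) : X.Modules :=
  (Scheme.Modules.pushforward ((Ix x) ^ (nx M hM x)).subschemeι).obj
    ((Scheme.Modules.pullback ((Ix x) ^ (nx M hM x)).subschemeι).obj M)

theorem isCoh_Mn (x : X) : Coh.IsCoh (Mn M hM x) := isCoh_pushPull _ M hM

theorem support_Mn_subset (x : X) : CohB1.support (Mn M hM x) ⊆ closure {x} := by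
  have h1 := Groth.Agent.Lib.T2H5.GenIsoC.support_pushforward_subset
    ((Ix x) ^ (nx M hM x)).subschemeι ((Scheme.Modules.pullback ((Ix x) ^ (nx M hM x)).subschemeι).obj M)
    (by rw [Scheme.IdealSheafData.range_subschemeι]; exact (((Ix x) ^ (nx M hM x)).support).isClosed)
  rw [Scheme.IdealSheafData.range_subschemeι] at h1
  refine h1.trans ?_
  have hn0 : nx M hM x ≠ 0 := by unfold nx; omega
  rw [Scheme.IdealSheafData.support_pow _ _ hn0]
  intro y hy
  have : ((Ix x).support : Set X) = closure {x} := Scheme.IdealSheafData.coe_support_vanishingIdeal _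
  rw [← this]
  exact hy

/-- the primary quotient at `x`. -/
noncomputable abbrev Gx (x : X) : X.Modules := QQ (Mn M hM x) (isCoh_Mn M hM x)

/-- the quotient map. -/
noncomputable abbrev qx (x : X) : M ⟶ Gx M hM x :=
  unit ((Ix x) ^ (nx M hM x)) M ≫ cokernel.π (KK (Mn M hM x) (isCoh_Mn M hM x)).arrow

theorem epi_qx (x : X) : Epi (qx M hM x) := by
  haveI := hM.1
  exact epi_comp _ _

theorem ψ_unit_ne_zero (x : X) (t : M.presheaf.stalk x)
    (ht : ∀ a ∈ IsLocalRing.maximalIdeal (X.presheaf.stalk x), a • t = 0) (ht0 : t ≠ 0) :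
    ψ (unit ((Ix x) ^ (nx M hM x)) M) x t ≠ 0 := by
  haveI := hM.1
  intro h0
  have hex := Groth.Agent.Lib.Helper23.StalkLin.stalkLin_exact _
    (shortExact_idealMul ((Ix x) ^ (nx M hM x)) M) x
  obtain ⟨τ, hτ⟩ := (hex t).1 h0
  apply ht0
  apply nx_spec M hM x t ht
  rw [← hτ]
  exact ψ_idealMulι_mem M x _ τ

theorem mem_support_Mn (x : X) (hx : Curv2.IsAssPoint M x) : x ∈ CohB1.support (Mn M hM x) := by
  obtain ⟨hp, t, ht⟩ := isAssociatedPrime_iff.1 hx
  have hkill : ∀ a ∈ IsLocalRing.maximalIdeal (X.presheaf.stalk x), a • t = 0 := by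
    intro a ha
    have : a ∈ (⊥ : Submodule (X.presheaf.stalk x) (M.presheaf.stalk x)).colon {t} := ht ▸ ha
    rwa [Submodule.mem_colon_singleton, Submodule.mem_bot] at this
  have ht0 : t ≠ 0 := by
    rintro rfl
    have : (1 : X.presheaf.stalk x) ∈ IsLocalRing.maximalIdeal (X.presheaf.stalk x) := by
      rw [ht, Submodule.mem_colon_singleton]; simp
    exact hp.ne_top ((Ideal.eq_top_iff_one _).2 this)
  intro hsub
  exact ψ_unit_ne_zero M hM x t hkill ht0 (Subsingleton.elim _ _)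

theorem gen_Mn (x : X) (hx : Curv2.IsAssPoint M x) : Gen (Mn M hM x) = {x} := by
  ext y
  constructor
  · intro hy
    have hxy : x ⤳ y := specializes_iff_mem_closure.2 (support_Mn_subset M hM x hy.1)
    exact (hy.2 x (mem_support_Mn M hM x hx) hxy).symm
  · intro hy
    rw [Set.mem_singleton_iff] at hy
    rw [hy]
    refine ⟨mem_support_Mn M hM x hx, fun z hz hzx => ?_⟩
    have hxz : x ⤳ z := specializes_iff_mem_closure.2 (support_Mn_subset M hM x hz)
    exact (hzx.antisymm hxz).eq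

theorem ass_Gx (x : X) (hx : Curv2.IsAssPoint M x) : AssSch.Ass (Gx M hM x) = {x} := by
  ext y
  constructor
  · intro hy
    have := mem_gen_of_isAssPoint_QQ (Mn M hM x) (isCoh_Mn M hM x) y hy
    rw [gen_Mn M hM x hx] at this
    exact this
  · intro hy
    rw [Set.mem_singleton_iff] at hy
    rw [hy]
    have h1 : x ∈ CohB1.support (Gx M hM x) := by
      rw [support_QQ]; exact mem_support_Mn M hM x hx
    haveI := (isCoh_QQ (Mn M hM x) (isCoh_Mn M hM x)).1
    obtain ⟨y', hy', -⟩ := exists_isAssPoint_specializes (Gx M hM x) x h1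
    have := mem_gen_of_isAssPoint_QQ (Mn M hM x) (isCoh_Mn M hM x) y' hy'
    rw [gen_Mn M hM x hx, Set.mem_singleton_iff] at this
    rw [this] at hy'
    exact hy'

theorem qx_app_ne_zero {W : X.Opens} (hW : IsAffineOpen W) (x : X) (hxW : x ∈ W) (u : Γ(M, W))
    (hu : (hW.primeIdealOf ⟨x, hxW⟩).asIdeal = (⊥ : Submodule Γ(X, W) Γ(M, W)).colon {u}) :
    (qx M hM x).app W u ≠ 0 := by
  haveI := hM.1
  haveI : IsNoetherianRing Γ(X, W) := IsLocallyNoetherian.component_noetherian ⟨W, hW⟩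
  have hxA : Curv2.IsAssPoint M x := by
    rw [Groth.Agent.Lib.Helper23.AssAffine.isAssPoint_iff_mem_associatedPrimes hW M x hxW]
    exact isAssociatedPrime_iff.2 ⟨(hW.primeIdealOf ⟨x, hxW⟩).isPrime, u, hu⟩
  have hmem : ∀ b : Γ(X, W), b ∈ (hW.primeIdealOf ⟨x, hxW⟩).asIdeal ↔ b • u = 0 := by
    intro b
    rw [hu, Submodule.mem_colon_singleton, Submodule.mem_bot]
  -- the germ of `u` at `x` is a nonzero socle element
  have ht0 : M.presheaf.germ W x hxW u ≠ 0 := by
    intro h0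
    obtain ⟨s, hs, hsu⟩ := exists_smul_eq_zero_of_germ_eq_zero hW M x hxW u h0
    rw [Groth.Agent.Lib.Helper2.mem_basicOpen_iff_notMem_primeIdealOf hW x hxW] at hs
    exact hs ((hmem s).2 hsu)
  have hkill : ∀ a ∈ IsLocalRing.maximalIdeal (X.presheaf.stalk x),
      a • M.presheaf.germ W x hxW u = 0 := by
    intro a ha
    obtain ⟨b, s, hsu, hbs⟩ := Groth.Agent.Lib.Helper2.Ass.exists_germ_mul_eq hW x hxW a
    have hbp : b ∈ (hW.primeIdealOf ⟨x, hxW⟩).asIdeal := by
      rw [← germ_mem_maximalIdeal_iff hW x hxW, ← hbs]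
      exact Ideal.mul_mem_right _ _ ha
    have h1 : X.presheaf.germ W x hxW b • M.presheaf.germ W x hxW u = 0 := by
      rw [← germ_smul, (hmem b).1 hbp, map_zero]
    rw [← hbs, mul_comm, mul_smul] at h1
    exact germ_smul_eq_zero_of_isUnit hsu h1
  intro h0
  have h1 : ψ (qx M hM x) x (M.presheaf.germ W x hxW u) = 0 := by
    rw [ψ_germ, h0, map_zero]
  have h2 : ψ (cokernel.π (KK (Mn M hM x) (isCoh_Mn M hM x)).arrow) x
      (ψ (unit ((Ix x) ^ (nx M hM x)) M) x (M.presheaf.germ W x hxW u)) = 0 := by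
    rw [ψ_germ, ψ_germ]
    have h3 : (cokernel.π (KK (Mn M hM x) (isCoh_Mn M hM x)).arrow).app W
        ((unit ((Ix x) ^ (nx M hM x)) M).app W u) = (qx M hM x).app W u := rfl
    rw [h3, h0, map_zero]
  have hxG : x ∈ Gen (Mn M hM x) := by rw [gen_Mn M hM x hxA]; rfl
  have hbij := bijective_ψ_cokernel_π (KK (Mn M hM x) (isCoh_Mn M hM x)).arrow x
    (subsingleton_stalk_KK (Mn M hM x) (isCoh_Mn M hM x) x (gen_subset_D _ _ x hxG))
  have h4 : ψ (unit ((Ix x) ^ (nx M hM x)) M) x (M.presheaf.germ W x hxW u) = 0 :=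
    hbij.1 (h2.trans (map_zero _).symm)
  exact ψ_unit_ne_zero M hM x _ hkill ht0 h4

include hM in
theorem isAssPoint_of_primeIdealOf_eq_colon {W : X.Opens} (hW : IsAffineOpen W) (x : X) (hxW : x ∈ W)
    (u : Γ(M, W))
    (hu : (hW.primeIdealOf ⟨x, hxW⟩).asIdeal = (⊥ : Submodule Γ(X, W) Γ(M, W)).colon {u}) :
    Curv2.IsAssPoint M x := by
  have hM' := hM
  haveI := hM.1
  haveI : IsNoetherianRing Γ(X, W) := IsLocallyNoetherian.component_noetherian ⟨W, hW⟩
  rw [Groth.Agent.Lib.Helper23.AssAffine.isAssPoint_iff_mem_associatedPrimes hW M x hxW]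
  exact isAssociatedPrime_iff.2 ⟨(hW.primeIdealOf ⟨x, hxW⟩).isPrime, u, hu⟩

theorem eq_zero_of_forall_comp_qx {T : X.Modules} (c : T ⟶ M)
    (h : ∀ x : X, Curv2.IsAssPoint M x → c ≫ qx M hM x = 0) : c = 0 := by
  haveI := hM.1
  apply Scheme.Modules.hom_ext
  intro W₀
  ext s₀
  have h0 : c.app W₀ s₀ = 0 := by
    refine Groth.Agent.Lib.Helper20.ZClosLib.eq_zero_of_germ_eq_zero M _ fun z hz => ?_
    by_contra hne
    obtain ⟨_, ⟨W, hW, rfl⟩, hzW, hWW₀⟩ :=
      X.isBasis_affineOpens.exists_subset_of_mem_open hz W₀.2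
    have hle : W ≤ W₀ := hWW₀
    have hm' : c.app W (T.presheaf.map (homOfLE hle).op s₀) =
        M.presheaf.map (homOfLE hle).op (c.app W₀ s₀) :=
      Groth.Agent.Lib.Helper2.ModExact.app_map c (homOfLE hle) s₀
    have hm0 : c.app W (T.presheaf.map (homOfLE hle).op s₀) ≠ 0 := by
      intro h0
      apply hne
      rw [← TopCat.Presheaf.germ_res_apply M.presheaf (homOfLE hle) z hzW, ← hm', h0, map_zero]
    haveI : IsNoetherianRing Γ(X, W) := IsLocallyNoetherian.component_noetherian ⟨W, hW⟩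
    obtain ⟨r, hr⟩ := exists_smul_colon_isPrime (A := Γ(X, W))
      (c.app W (T.presheaf.map (homOfLE hle).op s₀)) hm0
    let p : PrimeSpectrum Γ(X, W) := ⟨_, hr⟩
    have hxW : hW.fromSpec p ∈ W := fromSpec_mem hW p
    have hu : (hW.primeIdealOf ⟨hW.fromSpec p, hxW⟩).asIdeal =
        (⊥ : Submodule Γ(X, W) Γ(M, W)).colon {r • c.app W (T.presheaf.map (homOfLE hle).op s₀)} := by
      rw [primeIdealOf_fromSpec hW p]
    have hxA := isAssPoint_of_primeIdealOf_eq_colon M hM hW _ hxW _ hu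
    apply qx_app_ne_zero M hM hW _ hxW _ hu
    rw [Scheme.Modules.Hom.app_smul]
    have h2 : (qx M hM (hW.fromSpec p)).app W (c.app W (T.presheaf.map (homOfLE hle).op s₀)) =
        (c ≫ qx M hM (hW.fromSpec p)).app W (T.presheaf.map (homOfLE hle).op s₀) := rfl
    rw [h2, h _ hxA]
    have h3 : ((0 : T ⟶ Gx M hM (hW.fromSpec p))).app W (T.presheaf.map (homOfLE hle).op s₀) = 0 := rfl
    rw [h3]
    exact smul_zero (A := Γ(Gx M hM (hW.fromSpec p), W)) r
  rw [h0]
  rfl

end Primary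

end Groth.Agent.Lib.T2H6.EmbPt
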