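import Mathlib
import Groth.Agent.Lib.T2H6EmbPtF
import Groth.Agent.Lib.T2H8StalkRestrict

/-!
# Associated points and stalk lengths under restriction to an open (helper6)

* `exists_stalk_pullback_equiv`: for an open immersion `j`, a semilinear additive equivalence between the stalks of `M` at
  `j y` and of `j^* M` at `y`.
* `isAssPoint_pullback_iff`, `length_stalk_pullback`.
* `mem_of_mem_gen_of_dense`: a generic point of `Supp F` lies in every open `U` with `U ∩ Supp F` dense in `Supp F`.
-/

set_option autoImplicit false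
set_option linter.style.haveILetI false
set_option linter.unusedSectionVars false
universe u
open CategoryTheory CategoryTheory.Limits AlgebraicGeometry Opposite TopologicalSpace

namespace Groth.Agent.Lib.T2H6.AssRestrict

open Groth.Agent.Lib.T2H6.EmbPt Groth.Agent.Lib.T2H8.StalkRestrict
open Groth.Agent.Lib.Helper1.Sky

section Alg

attribute [local instance] RingHomInvPair.of_ringEquiv RingHomInvPair.of_ringEquiv_symm

variable {R S : Type*} [CommRing R] [CommRing S] (σ : R →+* S) (hσ : Function.Bijective σ)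
  {N N' : Type*} [AddCommGroup N] [Module R N] [AddCommGroup N'] [Module S N']
  (e : N ≃+ N') (he : ∀ (r : R) (n : N), e (r • n) = σ r • e n)

include hσ he in
theorem length_eq_of_semilinear : Module.length R N = Module.length S N' := by
  let σe : R ≃+* S := RingEquiv.ofBijective σ hσ
  let e' : N ≃ₛₗ[(σe : R →+* S)] N' := { e with map_smul' := he }
  apply WithBot.coe_injective
  rw [Module.coe_length, Module.coe_length,
    Order.krullDim_eq_of_orderIso (Submodule.orderIsoMapComap e')]

include hσ he in
theorem isAssociatedPrime_maximalIdeal_iff [IsLocalRing R] [IsLocalRing S] :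
    IsAssociatedPrime (IsLocalRing.maximalIdeal R) N ↔
      IsAssociatedPrime (IsLocalRing.maximalIdeal S) N' := by
  have hmax : ∀ r : R, σ r ∈ IsLocalRing.maximalIdeal S ↔ r ∈ IsLocalRing.maximalIdeal R := by
    intro r
    rw [IsLocalRing.mem_maximalIdeal, IsLocalRing.mem_maximalIdeal, mem_nonunits_iff, mem_nonunits_iff]
    exact not_congr (isUnit_map_iff (RingEquiv.ofBijective σ hσ) r)
  have key : ∀ (r : R) (t : N), (∃ n : ℕ, r ^ n • t = 0) ↔ ∃ n : ℕ, σ r ^ n • e t = 0 := by
    intro r t
    refine exists_congr fun n => ?_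
    rw [← map_pow, ← he]
    exact (map_eq_zero_iff e e.injective).symm
  constructor
  · intro h
    obtain ⟨t, ht⟩ := h.2
    refine ⟨inferInstance, e t, ?_⟩
    ext s
    obtain ⟨r, rfl⟩ := hσ.2 s
    rw [hmax, ht]
    simp only [Ideal.mem_radical_iff, Submodule.mem_colon_singleton, Submodule.mem_bot]
    exact key r t
  · intro h
    obtain ⟨t', ht'⟩ := h.2
    refine ⟨inferInstance, e.symm t', ?_⟩
    ext r
    rw [← hmax, ht']
    simp only [Ideal.mem_radical_iff, Submodule.mem_colon_singleton, Submodule.mem_bot]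
    rw [key r (e.symm t'), e.apply_symm_apply]

end Alg

section Stalk

attribute [local instance] RingHomInvPair.of_ringEquiv RingHomInvPair.of_ringEquiv_symm

variable {X U : Scheme.{u}} (j : U ⟶ X) [IsOpenImmersion j]

/-- the stalk of `j^* M` at `y` is semilinearly isomorphic to the stalk of `M` at `j y`. -/
theorem exists_stalk_pullback_equiv (M : X.Modules) (y : U) :
    ∃ e : M.presheaf.stalk (j y) ≃+ ((Scheme.Modules.pullback j).obj M).presheaf.stalk y,
      ∀ (r : X.presheaf.stalk (j y)) (n : M.presheaf.stalk (j y)),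
        e (r • n) = (j.stalkMap y).hom r • e n := by
  letI := (j.stalkMap y).hom.toAlgebra
  have hb : Function.Bijective (algebraMap (X.presheaf.stalk (j y)) (U.presheaf.stalk y)) :=
    bijective_stalkMap j y
  let N := (stalkFun (j y)).obj M
  let e1 := tensorEquivOfBijective N hb
  let e2 := (Groth.Agent.S2380.bridge (X.presheaf.stalk (j y)) (U.presheaf.stalk y) N).symm
  let e3 := ((stalkPullbackIso j y).app M).symm.toLinearEquiv
  refine ⟨e1.toAddEquiv.trans (e2.toAddEquiv.trans e3.toAddEquiv), fun r n => ?_⟩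
  have h1 : e1 (show N from (r • n : M.presheaf.stalk (j y))) =
      (j.stalkMap y).hom r • e1 (show N from n) := e1.map_smulₛₗ r n
  refine (congrArg (fun z => e3 (e2 z)) h1).trans ?_
  show e3 (e2 ((j.stalkMap y).hom r • e1 n)) = (j.stalkMap y).hom r • e3 (e2 (e1 n))
  rw [e2.map_smul]
  exact e3.map_smul _ _

theorem isAssPoint_pullback_iff (M : X.Modules) (y : U) :
    Curv2.IsAssPoint ((Scheme.Modules.pullback j).obj M) y ↔ Curv2.IsAssPoint M (j y) := by
  obtain ⟨e, he⟩ := exists_stalk_pullback_equiv j M y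
  exact (isAssociatedPrime_maximalIdeal_iff (j.stalkMap y).hom (bijective_stalkMap j y) e he).symm

theorem length_stalk_pullback (M : X.Modules) (y : U) :
    Module.length (U.presheaf.stalk y) (((Scheme.Modules.pullback j).obj M).presheaf.stalk y) =
      Module.length (X.presheaf.stalk (j y)) (M.presheaf.stalk (j y)) := by
  obtain ⟨e, he⟩ := exists_stalk_pullback_equiv j M y
  exact (length_eq_of_semilinear (j.stalkMap y).hom (bijective_stalkMap j y) e he).symm

end Stalk

section Dense

variable {X : Scheme.{u}} [IsLocallyNoetherian X] (F : X.Modules) (hF : Coh.IsCoh F)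

include hF in
/-- a generic point of `Supp F` lies in every open `U` such that `U ∩ Supp F` is dense in `Supp F`. -/
theorem mem_of_mem_gen_of_dense (U : X.Opens)
    (hdense : CohB1.support F ⊆ closure ((U : Set X) ∩ CohB1.support F)) (x : X) (hx : x ∈ Gen F) :
    x ∈ U := by
  haveI := hF.1
  let S : Set X := {g | g ∈ Gen F ∧ g ≠ x}
  have hcl : IsClosed (⋃ g : S, closure ({(g : X)} : Set X)) :=
    isClosed_iUnion_closure_of_isAssPoint F hF S (fun g hg => isAssPoint_of_mem_gen F g hg.1)
  have hxT : x ∉ ⋃ g : S, closure ({(g : X)} : Set X) := by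
    intro hmem
    obtain ⟨g, hg⟩ := Set.mem_iUnion.1 hmem
    have hgx : (g : X) ⤳ x := specializes_iff_mem_closure.2 hg
    exact g.2.2 (hx.2 g g.2.1.1 hgx)
  have hx1 : x ∈ closure ((U : Set X) ∩ CohB1.support F) := hdense hx.1
  obtain ⟨y, hyT, hyU, hyS⟩ := mem_closure_iff.1 hx1 _ hcl.isOpen_compl hxT
  obtain ⟨g, hg, hgy⟩ := exists_gen_specializes F hF y hyS
  by_cases hgx : g = x
  · subst hgx
    exact hgy.mem_open U.isOpen hyU
  · exact absurd (Set.mem_iUnion.2 ⟨⟨g, hg, hgx⟩, specializes_iff_mem_closure.1 hgy⟩) hyT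

include hF in
/-- without embedded points, every associated point is a generic point of the support. -/
theorem mem_gen_of_isAssPoint_of_noEmbedded (hne : AssSch.NoEmbedded F) (x : X) (hx : Curv2.IsAssPoint F x) :
    x ∈ Gen F := by
  haveI := hF.1
  obtain ⟨g, hg, hgx⟩ := exists_gen_specializes F hF x (mem_support_of_isAssPoint F x hx)
  have := hne x hx g (isAssPoint_of_mem_gen F g hg) hgx
  rwa [this]

include hF in
theorem isReducedMod_iff_restrict (U : X.Opens)
    (hdense : CohB1.support F ⊆ closure ((U : Set X) ∩ CohB1.support F)) :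
    AssSch.IsReducedMod F ↔
      AssSch.IsReducedMod ((Scheme.Modules.pullback U.ι).obj F) ∧ AssSch.NoEmbedded F := by
  constructor
  · rintro ⟨hne, hlen⟩
    refine ⟨⟨?_, ?_⟩, hne⟩
    · intro y₁ hy₁ y₂ hy₂ h21
      have h1 := (isAssPoint_pullback_iff U.ι F y₁).1 hy₁
      have h2 := (isAssPoint_pullback_iff U.ι F y₂).1 hy₂
      have h3 : U.ι y₂ ⤳ U.ι y₁ := h21.map U.ι.continuous
      exact U.ι.isOpenEmbedding.injective (hne _ h1 _ h2 h3)
    · intro y hy
      rw [length_stalk_pullback U.ι F y]
      exact hlen _ ((isAssPoint_pullback_iff U.ι F y).1 hy)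
  · rintro ⟨⟨-, hlenU⟩, hne⟩
    refine ⟨hne, fun x hx => ?_⟩
    have hxU : x ∈ U := mem_of_mem_gen_of_dense F hF U hdense x
      (mem_gen_of_isAssPoint_of_noEmbedded F hF hne x hx)
    have h1 := hlenU ⟨x, hxU⟩ ((isAssPoint_pullback_iff U.ι F ⟨x, hxU⟩).2 hx)
    rw [length_stalk_pullback U.ι F ⟨x, hxU⟩] at h1
    exact h1

end Dense

end Groth.Agent.Lib.T2H6.AssRestrict
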