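import Mathlib

/-!
# Associated primes of `F ⊗[A] E` for a flat module `F` over a local homomorphism (helper6)

`A → B` a local homomorphism of Noetherian local rings, `E` an `A`-module, `F` a `B`-module flat over `A`.  Then the
maximal ideal of `B` is associated to `F ⊗[A] E` iff the maximal ideal of `A` is associated to `E` and the maximal
ideal of `B` is associated to `F / m_A F` (stated elementwise as `Q A B F`).
-/

set_option autoImplicit false
set_option linter.style.haveILetI false
set_option linter.unusedSectionVars false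
universe u v w
open TensorProduct

namespace Groth.Agent.Lib.T2H6.FlatAss

section Torsion

variable {A : Type u} [CommRing A] (F : Type v) [AddCommGroup F] [Module A F] [Module.Flat A F]
  {M : Type w} [AddCommGroup M] [Module A M]

/-- An element of `F ⊗ M` killed by a finitely generated ideal `q` comes from `F ⊗ T` with `T ⊆ M` killed by `q`
(`F` flat). -/
theorem exists_submodule_mem_range_lTensor (q : Ideal A) (hq : q.FG) (ξ : F ⊗[A] M)
    (h : ∀ a ∈ q, a • ξ = 0) :
    ∃ T : Submodule A M, (∀ t ∈ T, ∀ a ∈ q, a • t = 0) ∧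
      ξ ∈ LinearMap.range (T.subtype.lTensor F) := by
  classical
  obtain ⟨s, hs⟩ := hq
  let f : M →ₗ[A] (s → M) := LinearMap.pi (fun a => (a : A) • LinearMap.id)
  refine ⟨LinearMap.ker f, ?_, ?_⟩
  · intro t ht a ha
    rw [LinearMap.mem_ker] at ht
    rw [← hs] at ha
    refine Submodule.span_induction (p := fun a _ => a • t = 0) ?_ ?_ ?_ ?_ ha
    · intro x hx
      have := congrFun ht ⟨x, hx⟩
      simpa [f] using this
    · exact zero_smul _ _
    · intro x y _ _ hx hy
      rw [add_smul, hx, hy, add_zero]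
    · intro r x _ hx
      rw [smul_eq_mul, mul_smul, hx, smul_zero]
  · have hex := Module.Flat.lTensor_exact F (LinearMap.exact_subtype_ker_map f)
    have key : ∀ ζ : F ⊗[A] M, ∀ a : s,
        TensorProduct.piRight A A F (fun _ : s => M) (f.lTensor F ζ) a = (a : A) • ζ := by
      intro ζ a
      induction ζ using TensorProduct.induction_on with
      | zero => simp
      | tmul b m =>
        rw [LinearMap.lTensor_tmul, TensorProduct.piRight_apply, TensorProduct.piRightHom_tmul]
        simp [f, TensorProduct.tmul_smul]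
      | add x y hx hy =>
        rw [map_add, map_add, Pi.add_apply, hx, hy, smul_add]
    have h0 : f.lTensor F ξ = 0 := by
      apply (TensorProduct.piRight A A F (fun _ : s => M)).injective
      rw [map_zero]
      funext a
      rw [key, Pi.zero_apply]
      exact h a (hs ▸ Ideal.subset_span a.2)
    exact (hex ξ).mp h0

end Torsion

section BLinear

variable {A : Type u} {B : Type u} [CommRing A] [CommRing B] [Algebra A B]
  {F : Type u} [AddCommGroup F] [Module A F] [Module B F] [IsScalarTower A B F] [SMulCommClass A B F]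
  {M M' : Type u} [AddCommGroup M] [Module A M] [AddCommGroup M'] [Module A M']

/-- `g.lTensor F` commutes with the action of `B` on the left factor. -/
theorem lTensor_smul (g : M →ₗ[A] M') (b : B) (z : F ⊗[A] M) :
    g.lTensor F (b • z) = b • g.lTensor F z := by
  induction z using TensorProduct.induction_on with
  | zero => rw [smul_zero, map_zero, smul_zero]
  | tmul f m => rw [TensorProduct.smul_tmul', LinearMap.lTensor_tmul, LinearMap.lTensor_tmul,
      TensorProduct.smul_tmul']
  | add x y hx hy => rw [smul_add, map_add, hx, hy, map_add, smul_add]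

end BLinear

section Main

open IsLocalRing

variable (A : Type u) (B : Type u) [CommRing A] [CommRing B] [IsLocalRing A] [IsLocalRing B] [Algebra A B]
  [IsLocalHom (algebraMap A B)] [IsNoetherianRing A] [IsNoetherianRing B]
  (E : Type u) [AddCommGroup E] [Module A E]
  (F : Type u) [AddCommGroup F] [Module A F] [Module B F] [IsScalarTower A B F] [SMulCommClass A B F]

/-- the maximal ideal of `B` is associated to `F / m_A F` (elementwise form). -/
def Q : Prop :=
  ∃ η : F, η ∉ (maximalIdeal A • ⊤ : Submodule A F) ∧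
    ∀ b ∈ maximalIdeal B, b • η ∈ (maximalIdeal A • ⊤ : Submodule A F)

variable {A B E F}

theorem tmul_eq_zero_of_mem_smul_top (e : E) (he : ∀ a ∈ maximalIdeal A, a • e = 0) (n : F)
    (hn : n ∈ (maximalIdeal A • ⊤ : Submodule A F)) : n ⊗ₜ[A] e = 0 := by
  refine Submodule.smul_induction_on hn (fun a ha m _ => ?_) (fun x y hx hy => ?_)
  · rw [TensorProduct.smul_tmul, he a ha, TensorProduct.tmul_zero]
  · rw [TensorProduct.add_tmul, hx, hy, add_zero]

theorem tmul_one_eq_zero_iff (n : F) :
    n ⊗ₜ[A] (Ideal.Quotient.mk (maximalIdeal A) 1) = 0 ↔ n ∈ (maximalIdeal A • ⊤ : Submodule A F) := by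
  rw [← (TensorProduct.tensorQuotEquivQuotSMul F (maximalIdeal A)).map_eq_zero_iff,
    TensorProduct.tensorQuotEquivQuotSMul_tmul_mk, one_smul, Submodule.Quotient.mk_eq_zero]

theorem exists_eq_tmul_one (z : F ⊗[A] (A ⧸ maximalIdeal A)) :
    ∃ n : F, z = n ⊗ₜ[A] (Ideal.Quotient.mk (maximalIdeal A) 1) := by
  obtain ⟨n, hn⟩ := Submodule.Quotient.mk_surjective _
    (TensorProduct.tensorQuotEquivQuotSMul F (maximalIdeal A) z)
  refine ⟨n, ?_⟩
  apply (TensorProduct.tensorQuotEquivQuotSMul F (maximalIdeal A)).injective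
  rw [← hn, TensorProduct.tensorQuotEquivQuotSMul_tmul_mk, one_smul]

theorem algebraMap_mem_maximalIdeal (a : A) (ha : a ∈ maximalIdeal A) :
    algebraMap A B a ∈ maximalIdeal B := by
  rw [mem_maximalIdeal, mem_nonunits_iff] at ha ⊢
  intro hu
  exact ha (isUnit_of_map_unit (algebraMap A B) a hu)

theorem isAssociatedPrime_maximalIdeal_iff_exists (N : Type u) [AddCommGroup N] [Module B N] :
    IsAssociatedPrime (maximalIdeal B) N ↔ ∃ ξ : N, ξ ≠ 0 ∧ ∀ b ∈ maximalIdeal B, b • ξ = 0 := by
  rw [isAssociatedPrime_iff]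
  constructor
  · rintro ⟨-, ξ, hξ⟩
    refine ⟨ξ, ?_, fun b hb => ?_⟩
    · intro h0
      have : (1 : B) ∈ maximalIdeal B := by
        rw [hξ, Submodule.mem_colon_singleton, Submodule.mem_bot, h0, smul_zero]
      exact (maximalIdeal.isMaximal B).ne_top ((Ideal.eq_top_iff_one _).2 this)
    · rw [hξ, Submodule.mem_colon_singleton, Submodule.mem_bot] at hb
      exact hb
  · rintro ⟨ξ, hξ0, hξ⟩
    refine ⟨inferInstance, ξ, ?_⟩
    ext b
    rw [Submodule.mem_colon_singleton, Submodule.mem_bot]
    constructor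
    · exact hξ b
    · intro hb
      by_contra hbm
      rw [mem_maximalIdeal, mem_nonunits_iff, not_not] at hbm
      obtain ⟨u, rfl⟩ := hbm
      apply hξ0
      have : (u⁻¹ : Bˣ).1 • ((u : B) • ξ) = ξ := by rw [smul_smul, Units.inv_mul, one_smul]
      rw [← this, hb, smul_zero]

variable [Module.Flat A F]

theorem isAssociatedPrime_tensor_of (hE : IsAssociatedPrime (maximalIdeal A) E) (hQ : Q A B F) :
    IsAssociatedPrime (maximalIdeal B) (F ⊗[A] E) := by
  rw [isAssociatedPrime_maximalIdeal_iff_exists]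
  obtain ⟨e, he0, he⟩ := (isAssociatedPrime_maximalIdeal_iff_exists (B := A) E).1 hE
  obtain ⟨η, hη, hηm⟩ := hQ
  refine ⟨η ⊗ₜ[A] e, ?_, fun b hb => ?_⟩
  · let ι : (A ⧸ maximalIdeal A) →ₗ[A] E :=
      Submodule.liftQ (maximalIdeal A) (LinearMap.toSpanSingleton A E e) (fun a ha => by
        rw [LinearMap.mem_ker, LinearMap.toSpanSingleton_apply]
        exact he a ha)
    have hι : Function.Injective ι := by
      rw [← LinearMap.ker_eq_bot]
      apply Submodule.ker_liftQ_eq_bot
      intro a ha
      rw [LinearMap.mem_ker, LinearMap.toSpanSingleton_apply] at ha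
      by_contra ham
      have ham' : ¬ a ∈ maximalIdeal A := ham
      rw [mem_maximalIdeal, mem_nonunits_iff, not_not] at ham'
      obtain ⟨u, rfl⟩ := ham'
      apply he0
      have : (u⁻¹ : Aˣ).1 • ((u : A) • e) = e := by rw [smul_smul, Units.inv_mul, one_smul]
      rw [← this, ha, smul_zero]
    have hinj := Module.Flat.lTensor_preserves_injective_linearMap (M := F) ι hι
    have h1 : ι.lTensor F (η ⊗ₜ[A] (Ideal.Quotient.mk (maximalIdeal A) 1)) = η ⊗ₜ[A] e := by
      rw [LinearMap.lTensor_tmul]
      congr 1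
      show LinearMap.toSpanSingleton A E e 1 = e
      rw [LinearMap.toSpanSingleton_apply, one_smul]
    intro h0
    rw [← h1] at h0
    have h2 := hinj (h0.trans (map_zero _).symm)
    exact hη ((tmul_one_eq_zero_iff η).1 h2)
  · rw [TensorProduct.smul_tmul']
    exact tmul_eq_zero_of_mem_smul_top e he _ (hηm b hb)

theorem of_isAssociatedPrime_tensor (h : IsAssociatedPrime (maximalIdeal B) (F ⊗[A] E)) :
    IsAssociatedPrime (maximalIdeal A) E ∧ Q A B F := by
  classical
  obtain ⟨ξ, hξ0, hξ⟩ := (isAssociatedPrime_maximalIdeal_iff_exists _).1 h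
  have hkill : ∀ a ∈ maximalIdeal A, a • ξ = 0 := by
    intro a ha
    rw [← algebraMap_smul B a ξ]
    exact hξ _ (algebraMap_mem_maximalIdeal a ha)
  obtain ⟨T, hT, ζ, hζ⟩ := exists_submodule_mem_range_lTensor F (maximalIdeal A)
    (IsNoetherian.noetherian _) ξ hkill
  have hinj := Module.Flat.lTensor_preserves_injective_linearMap (M := F) T.subtype
    (Submodule.injective_subtype T)
  have hζ0 : ζ ≠ 0 := by
    intro h0
    apply hξ0
    rw [← hζ, h0, map_zero]
  have hζm : ∀ b ∈ maximalIdeal B, b • ζ = 0 := by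
    intro b hb
    apply hinj
    rw [lTensor_smul, hζ, hξ b hb, map_zero]
  constructor
  · rw [isAssociatedPrime_maximalIdeal_iff_exists (B := A)]
    by_contra hno
    push Not at hno
    apply hζ0
    have hT0 : ∀ t : T, t = 0 := by
      intro t
      by_contra ht
      have ht' : (t : E) ≠ 0 := fun h => ht (Subtype.ext h)
      obtain ⟨a, ha, hat⟩ := hno t.1 ht'
      exact hat (hT t.1 t.2 a ha)
    have hz : ∀ z : F ⊗[A] T, z = 0 := by
      intro z
      induction z using TensorProduct.induction_on with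
      | zero => rfl
      | tmul f t => rw [hT0 t, TensorProduct.tmul_zero]
      | add x y hx hy => rw [hx, hy, add_zero]
    exact hz ζ
  · -- `T` is a vector space over the residue field
    have htors : Module.IsTorsionBySet A T (maximalIdeal A : Set A) := by
      intro t a
      exact Subtype.ext (hT t.1 t.2 a.1 a.2)
    letI : Field (A ⧸ maximalIdeal A) := Ideal.Quotient.field _
    letI : Module (A ⧸ maximalIdeal A) T := htors.module
    haveI : IsScalarTower A (A ⧸ maximalIdeal A) T := htors.isScalarTower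
    let bs := Module.Free.chooseBasis (A ⧸ maximalIdeal A) T
    let r : T ≃ₗ[A] (Module.Free.ChooseBasisIndex (A ⧸ maximalIdeal A) T →₀ (A ⧸ maximalIdeal A)) :=
      bs.repr.restrictScalars A
    let Φ := (LinearEquiv.lTensor F r).trans
      (TensorProduct.finsuppRight A A F (A ⧸ maximalIdeal A)
        (Module.Free.ChooseBasisIndex (A ⧸ maximalIdeal A) T))
    have hΦ : Φ ζ ≠ 0 := fun h0 => hζ0 (Φ.map_eq_zero_iff.1 h0)
    obtain ⟨i, hi⟩ : ∃ i, Φ ζ i ≠ 0 := by
      by_contra hno
      push Not at hno
      exact hΦ (Finsupp.ext hno)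
    let lam : T →ₗ[A] (A ⧸ maximalIdeal A) := (Finsupp.lapply i).comp r.toLinearMap
    have hlam : Φ ζ i = lam.lTensor F ζ := by
      show TensorProduct.finsuppRight A A F _ _ (LinearEquiv.lTensor F r ζ) i = _
      rw [TensorProduct.finsuppRight_apply]
      show (Finsupp.lapply i).lTensor F (r.toLinearMap.lTensor F ζ) = _
      rw [← LinearMap.comp_apply, ← LinearMap.lTensor_comp]
    rw [hlam] at hi
    obtain ⟨η, hη⟩ := exists_eq_tmul_one (lam.lTensor F ζ)
    refine ⟨η, ?_, fun b hb => ?_⟩
    · intro hmem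
      apply hi
      rw [hη]
      exact (tmul_one_eq_zero_iff η).2 hmem
    · rw [← tmul_one_eq_zero_iff, ← TensorProduct.smul_tmul', ← hη, ← lTensor_smul, hζm b hb, map_zero]

theorem isAssociatedPrime_tensor_iff :
    IsAssociatedPrime (maximalIdeal B) (F ⊗[A] E) ↔ IsAssociatedPrime (maximalIdeal A) E ∧ Q A B F :=
  ⟨of_isAssociatedPrime_tensor, fun h => isAssociatedPrime_tensor_of h.1 h.2⟩

end Main

section QB

open IsLocalRing

variable {A : Type u} {B : Type u} [CommRing A] [CommRing B] [IsLocalRing A] [IsLocalRing B] [Algebra A B]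
  {F : Type u} [AddCommGroup F] [Module A F] [Module B F] [IsScalarTower A B F]

omit [IsLocalRing A] [IsLocalRing B] in
theorem mem_smul_top_iff_map (I : Ideal A) (n : F) :
    n ∈ (I • ⊤ : Submodule A F) ↔ n ∈ (I.map (algebraMap A B) • ⊤ : Submodule B F) := by
  constructor
  · intro hn
    refine Submodule.smul_induction_on hn (fun a ha m _ => ?_) (fun x y hx hy => add_mem hx hy)
    rw [← algebraMap_smul B a m]
    exact Submodule.smul_mem_smul (Ideal.mem_map_of_mem _ ha) Submodule.mem_top
  · intro hn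
    have key : ∀ j ∈ I.map (algebraMap A B), ∀ m : F, j • m ∈ (I • ⊤ : Submodule A F) := by
      intro j hj
      refine Submodule.span_induction (p := fun j _ => ∀ m : F, j • m ∈ (I • ⊤ : Submodule A F))
        ?_ ?_ ?_ ?_ hj
      · rintro _ ⟨a, ha, rfl⟩ m
        rw [algebraMap_smul]
        exact Submodule.smul_mem_smul ha Submodule.mem_top
      · intro m
        rw [zero_smul]
        exact zero_mem _
      · intro x y _ _ hx hy m
        rw [add_smul]
        exact add_mem (hx m) (hy m)
      · intro b x _ hx m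
        rw [smul_eq_mul, mul_comm, mul_smul]
        exact hx (b • m)
    refine Submodule.smul_induction_on hn (fun j hj m _ => key j hj m) (fun x y hx hy => add_mem hx hy)

theorem mem_smul_top_iff (n : F) :
    n ∈ (maximalIdeal A • ⊤ : Submodule A F) ↔
      n ∈ ((maximalIdeal A).map (algebraMap A B) • ⊤ : Submodule B F) :=
  mem_smul_top_iff_map (maximalIdeal A) n

/-- the elementwise condition in terms of the `B`-module structure only. -/
def Q' (J : Ideal B) (F : Type u) [AddCommGroup F] [Module B F] : Prop :=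
  ∃ η : F, η ∉ (J • ⊤ : Submodule B F) ∧ ∀ b ∈ maximalIdeal B, b • η ∈ (J • ⊤ : Submodule B F)

theorem q_iff_q' : Q A B F ↔ Q' ((maximalIdeal A).map (algebraMap A B)) F := by
  unfold Q Q'
  refine exists_congr fun η => ?_
  rw [mem_smul_top_iff (A := A) (B := B)]
  refine and_congr Iff.rfl (forall_congr' fun b => forall_congr' fun _ => ?_)
  rw [mem_smul_top_iff (A := A) (B := B)]

end QB

section GoingDown

variable {A : Type u} {B : Type u} [CommRing A] [CommRing B] [Algebra A B] [IsNoetherianRing B]
  {N : Type u} [AddCommGroup N] [Module A N] [Module B N] [IsScalarTower A B N] [Module.Flat A N]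

/-- for `N` flat over `A` and `a ∉ 𝔭'`, `a • n ∈ 𝔭' N` implies `n ∈ 𝔭' N`. -/
theorem mem_smul_top_of_smul_mem (p' : Ideal A) [p'.IsPrime] (a : A) (ha : a ∉ p') (n : N)
    (h : a • n ∈ (p' • ⊤ : Submodule A N)) : n ∈ (p' • ⊤ : Submodule A N) := by
  let μ : (A ⧸ p') →ₗ[A] (A ⧸ p') := LinearMap.lsmul A (A ⧸ p') a
  have hμ : Function.Injective μ := by
    rw [injective_iff_map_eq_zero]
    intro z hz
    obtain ⟨c, rfl⟩ := Ideal.Quotient.mk_surjective z
    have h1 : Ideal.Quotient.mk p' (a * c) = 0 := by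
      rw [map_mul]
      exact hz
    rw [Ideal.Quotient.eq_zero_iff_mem] at h1 ⊢
    exact (Ideal.IsPrime.mem_or_mem inferInstance h1).resolve_left ha
  have hinj := Module.Flat.lTensor_preserves_injective_linearMap (M := N) μ hμ
  have h1 : μ.lTensor N (n ⊗ₜ[A] (Ideal.Quotient.mk p' 1)) = (a • n) ⊗ₜ[A] (Ideal.Quotient.mk p' 1) := by
    rw [LinearMap.lTensor_tmul, TensorProduct.smul_tmul]
    rfl
  have h2 : (a • n) ⊗ₜ[A] (Ideal.Quotient.mk p' 1) = 0 := by
    rw [← (TensorProduct.tensorQuotEquivQuotSMul N p').map_eq_zero_iff,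
      TensorProduct.tensorQuotEquivQuotSMul_tmul_mk, one_smul, Submodule.Quotient.mk_eq_zero]
    exact h
  have h3 : n ⊗ₜ[A] (Ideal.Quotient.mk p' 1) = 0 := hinj ((h1.trans h2).trans (map_zero _).symm)
  rw [← (TensorProduct.tensorQuotEquivQuotSMul N p').map_eq_zero_iff,
    TensorProduct.tensorQuotEquivQuotSMul_tmul_mk, one_smul, Submodule.Quotient.mk_eq_zero] at h3
  exact h3

/-- going down for flat modules. -/
theorem exists_prime_comap_eq (p' : Ideal A) [p'.IsPrime]
    (hne : ∃ n : N, n ∉ (p'.map (algebraMap A B) • ⊤ : Submodule B N)) :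
    ∃ q : Ideal B, q.IsPrime ∧ q.comap (algebraMap A B) = p' ∧
      ∃ n : N, ∀ s : B, s • n = 0 → s ∈ q := by
  set J : Submodule B N := (p'.map (algebraMap A B) • ⊤ : Submodule B N) with hJ
  obtain ⟨n₀, hn₀⟩ := hne
  haveI : Nontrivial (N ⧸ J) := by
    refine ⟨⟨Submodule.Quotient.mk n₀, 0, ?_⟩⟩
    rw [Ne, Submodule.Quotient.mk_eq_zero]
    exact hn₀
  obtain ⟨q, hq⟩ := associatedPrimes.nonempty B (N ⧸ J)
  obtain ⟨hprime, nb, hnb⟩ := isAssociatedPrime_iff.1 ((AssociatedPrimes.mem_iff).1 hq)
  obtain ⟨n, rfl⟩ := Submodule.Quotient.mk_surjective _ nb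
  have hmem : ∀ s : B, s ∈ q ↔ s • n ∈ J := by
    intro s
    rw [hnb, Submodule.mem_colon_singleton, Submodule.mem_bot, ← Submodule.Quotient.mk_smul,
      Submodule.Quotient.mk_eq_zero]
  have hnJ : n ∉ J := by
    intro h
    have : (1 : B) ∈ q := by rw [hmem, one_smul]; exact h
    exact hprime.ne_top ((Ideal.eq_top_iff_one _).2 this)
  refine ⟨q, hprime, ?_, n, fun s hs => ?_⟩
  · ext a
    rw [Ideal.mem_comap, hmem]
    constructor
    · intro h
      by_contra ha
      apply hnJ
      rw [hJ, ← mem_smul_top_iff_map]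
      apply mem_smul_top_of_smul_mem p' a ha n
      rw [mem_smul_top_iff_map (B := B), ← algebraMap_smul B a n]
      exact h
    · intro ha
      exact Submodule.smul_mem_smul (Ideal.mem_map_of_mem _ ha) Submodule.mem_top
  · rw [hmem, hs]
    exact zero_mem _

end GoingDown

end Groth.Agent.Lib.T2H6.FlatAss
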