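import Mathlib
import Groth.Agent.Lib.T2H6FlatAssA
import Groth.Agent.Lib.T2H6NegTwistD
import Groth.Agent.Lib.T2H8StalkRestrict
import Groth.Agent.Lib.Helper10FibStalk
import Groth.Agent.Lib.Helper20Nakayama
import Groth.Prelude.Def_FDesc

/-!
# Associated points of `f^* E ⊗ F` for `F` flat over the base (helper6)

* `Qx f F x`: the maximal ideal of `O_{X,x}` is associated to `F_x / m_{f x} F_x` (elementwise form).
* `isAssPoint_tensor_pullback_iff`: `x ∈ Ass (f^* E ⊗ F) ↔ f x ∈ Ass E ∧ Qx f F x`.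
* `isAssPoint_fiber_iff`: a point `z` of the fibre over `y` is associated to `F|_{X_y}` iff `Qx f F (ι z)`.
-/

set_option autoImplicit false
set_option linter.style.haveILetI false
set_option linter.unusedSectionVars false
universe u
open CategoryTheory CategoryTheory.Limits AlgebraicGeometry Opposite TopologicalSpace TensorProduct

namespace Groth.Agent.Lib.T2H6.FlatAss

open Groth.Agent.Lib.Helper1.Sky Groth.Agent.Lib.Helper1.StalkTensor
open Groth.Agent.Lib.T2H8.StalkRestrict IsLocalRing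

variable {X Y : Scheme.{u}} (f : X ⟶ Y)

/-- the maximal ideal of `O_{X,x}` is associated to `F_x / m_{f x} F_x`. -/
def Qx (F : X.Modules) (x : X) : Prop :=
  Q' (Ideal.map (f.stalkMap x).hom (maximalIdeal (Y.presheaf.stalk (f x)))) (F.presheaf.stalk x)

section K1

variable [IsLocallyNoetherian X] [IsLocallyNoetherian Y]

theorem isAssPoint_tensor_pullback_iff (E : Y.Modules) (F : X.Modules) (x : X)
    (hflat : FlatMod.IsFlatOverAt f F x) :
    Curv2.IsAssPoint (CohB1.tensorMod ((Scheme.Modules.pullback f).obj E) F) x ↔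
      Curv2.IsAssPoint E (f x) ∧ Qx f F x := by
  letI alg : Algebra (Y.presheaf.stalk (f x)) (X.presheaf.stalk x) := (f.stalkMap x).hom.toAlgebra
  letI mod : Module (Y.presheaf.stalk (f x)) (F.presheaf.stalk x) := FlatMod.moduleStalkOver f F x
  haveI tower : IsScalarTower (Y.presheaf.stalk (f x)) (X.presheaf.stalk x) (F.presheaf.stalk x) :=
    IsScalarTower.of_algebraMap_smul (fun a n => rfl)
  haveI : SMulCommClass (Y.presheaf.stalk (f x)) (X.presheaf.stalk x) (F.presheaf.stalk x) :=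
    IsScalarTower.to_smulCommClass
  haveI : IsLocalHom (algebraMap (Y.presheaf.stalk (f x)) (X.presheaf.stalk x)) :=
    inferInstanceAs (IsLocalHom (f.stalkMap x).hom)
  haveI : Module.Flat (Y.presheaf.stalk (f x)) (F.presheaf.stalk x) := hflat
  let P := (Scheme.Modules.pullback f).obj E
  let e1 : (CohB1.tensorMod P F).presheaf.stalk x ≃ₗ[X.presheaf.stalk x]
      (P.presheaf.stalk x ⊗[X.presheaf.stalk x] F.presheaf.stalk x) :=
    Groth.Agent.Lib.T2H6.NegTwistD.stalkTensorEquiv P F x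
  let N := (stalkFun (f x)).obj E
  let e2 : P.presheaf.stalk x ≃ₗ[X.presheaf.stalk x]
      (X.presheaf.stalk x ⊗[Y.presheaf.stalk (f x)] E.presheaf.stalk (f x)) :=
    ((stalkPullbackIso f x).app E).toLinearEquiv ≪≫ₗ
      Groth.Agent.S2380.bridge (Y.presheaf.stalk (f x)) (X.presheaf.stalk x) N
  let e3 : (P.presheaf.stalk x ⊗[X.presheaf.stalk x] F.presheaf.stalk x) ≃ₗ[X.presheaf.stalk x]
      (F.presheaf.stalk x ⊗[Y.presheaf.stalk (f x)] E.presheaf.stalk (f x)) :=
    TensorProduct.congr e2 (LinearEquiv.refl _ _) ≪≫ₗ TensorProduct.comm _ _ _ ≪≫ₗ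
      TensorProduct.AlgebraTensorModule.cancelBaseChange (Y.presheaf.stalk (f x)) (X.presheaf.stalk x)
        (X.presheaf.stalk x) (F.presheaf.stalk x) (E.presheaf.stalk (f x))
  have h1 : Curv2.IsAssPoint (CohB1.tensorMod P F) x ↔
      IsAssociatedPrime (maximalIdeal (X.presheaf.stalk x))
        (F.presheaf.stalk x ⊗[Y.presheaf.stalk (f x)] E.presheaf.stalk (f x)) :=
    LinearEquiv.isAssociatedPrime_iff (e1 ≪≫ₗ e3)
  rw [h1, isAssociatedPrime_tensor_iff, q_iff_q']
  rfl

end K1

section F1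

variable {B O' : Type u} [CommRing B] [CommRing O'] [IsLocalRing B] [IsLocalRing O'] [Algebra B O']
  [IsLocalHom (algebraMap B O')] [IsNoetherianRing B] [IsNoetherianRing O']
  (F : Type u) [AddCommGroup F] [Module B F]

theorem one_tmul_eq_zero_iff (hs : Function.Surjective (algebraMap B O')) (n : F) :
    (1 : O') ⊗ₜ[B] n = 0 ↔ n ∈ (RingHom.ker (algebraMap B O') • ⊤ : Submodule B F) := by
  constructor
  · exact Groth.Agent.Lib.Helper20.Nakayama.mem_smul_top_of_one_tmul_eq_zero B O' hs F n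
  · intro hn
    refine Submodule.smul_induction_on hn (fun j hj m _ => ?_) (fun x y hx hy => ?_)
    · rw [TensorProduct.tmul_smul, TensorProduct.smul_tmul', Algebra.smul_def, mul_one,
        (RingHom.mem_ker).1 hj, TensorProduct.zero_tmul]
    · rw [TensorProduct.tmul_add, hx, hy, add_zero]

theorem exists_eq_one_tmul (hs : Function.Surjective (algebraMap B O')) (z : O' ⊗[B] F) :
    ∃ n : F, z = (1 : O') ⊗ₜ[B] n := by
  induction z using TensorProduct.induction_on with
  | zero => exact ⟨0, (TensorProduct.tmul_zero _ _).symm⟩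
  | tmul o n =>
    obtain ⟨b, rfl⟩ := hs o
    refine ⟨b • n, ?_⟩
    rw [TensorProduct.tmul_smul, TensorProduct.smul_tmul', Algebra.smul_def, mul_one]
  | add x y hx hy =>
    obtain ⟨n₁, rfl⟩ := hx
    obtain ⟨n₂, rfl⟩ := hy
    exact ⟨n₁ + n₂, (TensorProduct.tmul_add _ _ _).symm⟩

theorem isAssociatedPrime_baseChange_iff (hs : Function.Surjective (algebraMap B O')) :
    IsAssociatedPrime (maximalIdeal O') (O' ⊗[B] F) ↔ Q' (RingHom.ker (algebraMap B O')) F := by
  rw [isAssociatedPrime_maximalIdeal_iff_exists]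
  have hsm : ∀ (b : B) (n : F), (1 : O') ⊗ₜ[B] (b • n) = algebraMap B O' b • ((1 : O') ⊗ₜ[B] n) := by
    intro b n
    rw [TensorProduct.tmul_smul]
    exact (algebraMap_smul O' b _).symm
  constructor
  · rintro ⟨ξ, hξ0, hξ⟩
    obtain ⟨η, rfl⟩ := exists_eq_one_tmul F hs ξ
    refine ⟨η, fun hmem => hξ0 ((one_tmul_eq_zero_iff F hs η).2 hmem), fun b hb => ?_⟩
    rw [← one_tmul_eq_zero_iff F hs, hsm]
    exact hξ _ (algebraMap_mem_maximalIdeal b hb)
  · rintro ⟨η, hη, hηm⟩
    refine ⟨(1 : O') ⊗ₜ[B] η, fun h0 => hη ((one_tmul_eq_zero_iff F hs η).1 h0), fun o ho => ?_⟩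
    obtain ⟨b, rfl⟩ := hs o
    have hb : b ∈ maximalIdeal B := by
      rw [mem_maximalIdeal, mem_nonunits_iff] at ho ⊢
      exact fun hu => ho (hu.map (algebraMap B O'))
    rw [← hsm, one_tmul_eq_zero_iff F hs]
    exact hηm b hb

end F1

section K2

variable [IsLocallyNoetherian X]

theorem isAssPoint_fiber_iff (F : X.Modules) (y : Y) (z : f.fiber y) :
    Curv2.IsAssPoint ((Scheme.Modules.pullback (f.fiberι y)).obj F) z ↔ Qx f F (f.fiberι y z) := by
  letI alg : Algebra (X.presheaf.stalk (f.fiberι y z)) ((f.fiber y).presheaf.stalk z) :=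
    ((f.fiberι y).stalkMap z).hom.toAlgebra
  have hs : Function.Surjective
      (algebraMap (X.presheaf.stalk (f.fiberι y z)) ((f.fiber y).presheaf.stalk z)) :=
    (f.fiberι y).stalkMap_surjective z
  haveI : IsLocalHom (algebraMap (X.presheaf.stalk (f.fiberι y z)) ((f.fiber y).presheaf.stalk z)) :=
    inferInstanceAs (IsLocalHom ((f.fiberι y).stalkMap z).hom)
  haveI : IsNoetherianRing ((f.fiber y).presheaf.stalk z) :=
    isNoetherianRing_of_surjective _ _ (algebraMap (X.presheaf.stalk (f.fiberι y z))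
      ((f.fiber y).presheaf.stalk z)) hs
  let N := (stalkFun (f.fiberι y z)).obj F
  let e : ((Scheme.Modules.pullback (f.fiberι y)).obj F).presheaf.stalk z ≃ₗ[(f.fiber y).presheaf.stalk z]
      ((f.fiber y).presheaf.stalk z ⊗[X.presheaf.stalk (f.fiberι y z)] F.presheaf.stalk (f.fiberι y z)) :=
    ((stalkPullbackIso (f.fiberι y) z).app F).toLinearEquiv ≪≫ₗ
      Groth.Agent.S2380.bridge (X.presheaf.stalk (f.fiberι y z)) ((f.fiber y).presheaf.stalk z) N
  have h1 : Curv2.IsAssPoint ((Scheme.Modules.pullback (f.fiberι y)).obj F) z ↔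
      IsAssociatedPrime (maximalIdeal ((f.fiber y).presheaf.stalk z))
        ((f.fiber y).presheaf.stalk z ⊗[X.presheaf.stalk (f.fiberι y z)] F.presheaf.stalk (f.fiberι y z)) :=
    LinearEquiv.isAssociatedPrime_iff e
  rw [h1, isAssociatedPrime_baseChange_iff _ hs]
  have hker : RingHom.ker (algebraMap (X.presheaf.stalk (f.fiberι y z)) ((f.fiber y).presheaf.stalk z)) =
      Ideal.map (f.stalkMap (f.fiberι y z)).hom
        (maximalIdeal (Y.presheaf.stalk (f (f.fiberι y z)))) :=
    Groth.Agent.Lib.Helper10.FibStalk.ker_eq_map f y z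
  rw [hker]
  rfl

/-- the stalk of the fibre module is nonzero iff `F_x ≠ m_y F_x`. -/
theorem subsingleton_stalk_fiber_iff (F : X.Modules) (y : Y) (z : f.fiber y) :
    Subsingleton (((Scheme.Modules.pullback (f.fiberι y)).obj F).presheaf.stalk z) ↔
      ∀ n : F.presheaf.stalk (f.fiberι y z),
        n ∈ (Ideal.map (f.stalkMap (f.fiberι y z)).hom
          (maximalIdeal (Y.presheaf.stalk (f (f.fiberι y z)))) • ⊤ :
            Submodule (X.presheaf.stalk (f.fiberι y z)) (F.presheaf.stalk (f.fiberι y z))) := by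
  letI alg : Algebra (X.presheaf.stalk (f.fiberι y z)) ((f.fiber y).presheaf.stalk z) :=
    ((f.fiberι y).stalkMap z).hom.toAlgebra
  have hs : Function.Surjective
      (algebraMap (X.presheaf.stalk (f.fiberι y z)) ((f.fiber y).presheaf.stalk z)) :=
    (f.fiberι y).stalkMap_surjective z
  haveI : IsLocalHom (algebraMap (X.presheaf.stalk (f.fiberι y z)) ((f.fiber y).presheaf.stalk z)) :=
    inferInstanceAs (IsLocalHom ((f.fiberι y).stalkMap z).hom)
  haveI : IsNoetherianRing ((f.fiber y).presheaf.stalk z) :=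
    isNoetherianRing_of_surjective _ _ (algebraMap (X.presheaf.stalk (f.fiberι y z))
      ((f.fiber y).presheaf.stalk z)) hs
  let N := (stalkFun (f.fiberι y z)).obj F
  let e : ((Scheme.Modules.pullback (f.fiberι y)).obj F).presheaf.stalk z ≃ₗ[(f.fiber y).presheaf.stalk z]
      ((f.fiber y).presheaf.stalk z ⊗[X.presheaf.stalk (f.fiberι y z)] F.presheaf.stalk (f.fiberι y z)) :=
    ((stalkPullbackIso (f.fiberι y) z).app F).toLinearEquiv ≪≫ₗ
      Groth.Agent.S2380.bridge (X.presheaf.stalk (f.fiberι y z)) ((f.fiber y).presheaf.stalk z) N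
  have hker : RingHom.ker (algebraMap (X.presheaf.stalk (f.fiberι y z)) ((f.fiber y).presheaf.stalk z)) =
      Ideal.map (f.stalkMap (f.fiberι y z)).hom
        (maximalIdeal (Y.presheaf.stalk (f (f.fiberι y z)))) :=
    Groth.Agent.Lib.Helper10.FibStalk.ker_eq_map f y z
  rw [← hker]
  constructor
  · intro h n
    rw [← one_tmul_eq_zero_iff _ hs]
    exact e.symm.injective (Subsingleton.elim _ _)
  · intro h
    refine ⟨fun a b => e.injective ?_⟩
    obtain ⟨n₁, h₁⟩ := exists_eq_one_tmul _ hs (e a)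
    obtain ⟨n₂, h₂⟩ := exists_eq_one_tmul _ hs (e b)
    rw [h₁, h₂, (one_tmul_eq_zero_iff _ hs n₁).2 (h n₁), (one_tmul_eq_zero_iff _ hs n₂).2 (h n₂)]

end K2

end Groth.Agent.Lib.T2H6.FlatAss
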