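import Mathlib
import Groth.Agent.Lib.T2H6FlatAssB
import Groth.Agent.Lib.T2H6EmbPtF
import Groth.Agent.Lib.Helper2PullbackSec
import Groth.Agent.Lib.Helper2FibreCrit2
import Groth.Agent.Lib.Helper23AssStalk
import Groth.Agent.Lib.Helper2Ass

/-!
# Embedded points of `f^* E ⊗ F` for `F` flat over the base (helper6)

Topological part: associated points in the fibres, going down for flat modules, and the criterion for
`f^* E ⊗ F` to have no embedded associated points.
-/

set_option autoImplicit false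
set_option linter.style.haveILetI false
set_option linter.unusedSectionVars false
universe u
open CategoryTheory CategoryTheory.Limits AlgebraicGeometry Opposite TopologicalSpace TensorProduct

namespace Groth.Agent.Lib.T2H6.FlatAss

open IsLocalRing Groth.Agent.Lib.Helper2.QCoh

variable {X Y : Scheme.{u}} (f : X ⟶ Y)

section Spec

/-- a section germ killed by specialization is killed by a function invertible at the generization. -/
theorem exists_smul_eq_zero_of_stalkSpecializes_eq_zero (F : X.Modules) [F.IsQuasicoherent] {x₂ x₁ : X}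
    (h : x₂ ⤳ x₁) (n : F.presheaf.stalk x₁) (hn : F.presheaf.stalkSpecializes h n = 0) :
    ∃ s : X.presheaf.stalk x₁, IsUnit (X.presheaf.stalkSpecializes h s) ∧ s • n = 0 := by
  obtain ⟨W, hx₁W, μ, rfl⟩ := F.presheaf.exists_germ_eq n
  obtain ⟨_, ⟨U, hU, rfl⟩, hx₁U, hUW⟩ := X.isBasis_affineOpens.exists_subset_of_mem_open hx₁W W.2
  have hUW' : U ≤ W := hUW
  have hx₂U : x₂ ∈ U := h.mem_open U.2 hx₁U
  set ν : Γ(F, U) := F.presheaf.map (homOfLE hUW').op μ with hν
  have hg1 : F.presheaf.germ U x₁ hx₁U ν = F.presheaf.germ W x₁ hx₁W μ :=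
    TopCat.Presheaf.germ_res_apply F.presheaf (homOfLE hUW') x₁ hx₁U μ
  have hg2 : F.presheaf.germ U x₂ hx₂U ν = 0 := by
    have h1 : F.presheaf.stalkSpecializes h (F.presheaf.germ U x₁ hx₁U ν) =
        F.presheaf.germ U x₂ hx₂U ν :=
      TopCat.Presheaf.germ_stalkSpecializes_apply F.presheaf hx₁U h ν
    rw [← h1, hg1, hn]
  obtain ⟨g, hx₂g, hg⟩ := exists_smul_eq_zero_of_germ_eq_zero hU F x₂ hx₂U ν hg2
  refine ⟨X.presheaf.germ U x₁ hx₁U g, ?_, ?_⟩
  · have h1 : X.presheaf.stalkSpecializes h (X.presheaf.germ U x₁ hx₁U g) =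
        X.presheaf.germ U x₂ hx₂U g :=
      TopCat.Presheaf.germ_stalkSpecializes_apply X.presheaf hx₁U h g
    rw [h1]
    exact (X.mem_basicOpen g x₂ hx₂U).1 hx₂g
  · rw [← hg1, ← germ_smul, hg, map_zero]

end Spec

section GD

variable [IsLocallyNoetherian X] [IsLocallyNoetherian Y]

/-- going down for a coherent module flat over the base: generizations of `f x₁` lift to generizations of `x₁`
in the support. -/
theorem exists_specializes_mem_support (F : X.Modules) (hF : Coh.IsCoh F) (x₁ : X)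
    (hx₁ : x₁ ∈ CohB1.support F) (hflat : FlatMod.IsFlatOverAt f F x₁) (y' : Y) (hy' : y' ⤳ f x₁) :
    ∃ x₂ : X, x₂ ⤳ x₁ ∧ f x₂ = y' ∧ x₂ ∈ CohB1.support F := by
  haveI := hF.1
  haveI : SheafOfModules.IsFiniteType (R := X.ringCatSheaf) F := hF.2
  haveI hfin := Groth.Agent.Lib.Helper2.FibreCrit.finite_stalk F x₁
  letI alg : Algebra (Y.presheaf.stalk (f x₁)) (X.presheaf.stalk x₁) := (f.stalkMap x₁).hom.toAlgebra
  letI mod : Module (Y.presheaf.stalk (f x₁)) (F.presheaf.stalk x₁) := FlatMod.moduleStalkOver f F x₁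
  haveI tower : IsScalarTower (Y.presheaf.stalk (f x₁)) (X.presheaf.stalk x₁) (F.presheaf.stalk x₁) :=
    IsScalarTower.of_algebraMap_smul (fun a n => rfl)
  haveI : IsLocalHom (algebraMap (Y.presheaf.stalk (f x₁)) (X.presheaf.stalk x₁)) :=
    inferInstanceAs (IsLocalHom (f.stalkMap x₁).hom)
  haveI : Module.Flat (Y.presheaf.stalk (f x₁)) (F.presheaf.stalk x₁) := hflat
  haveI hnt : Nontrivial (F.presheaf.stalk x₁) := not_subsingleton_iff_nontrivial.1 hx₁
  let p' : Ideal (Y.presheaf.stalk (f x₁)) :=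
    (maximalIdeal (Y.presheaf.stalk y')).comap (Y.presheaf.stalkSpecializes hy').hom
  haveI hp' : p'.IsPrime := Ideal.comap_isPrime _ _
  have hJle : p'.map (algebraMap (Y.presheaf.stalk (f x₁)) (X.presheaf.stalk x₁)) ≤
      maximalIdeal (X.presheaf.stalk x₁) := by
    rw [Ideal.map_le_iff_le_comap]
    intro a ha
    exact algebraMap_mem_maximalIdeal a (IsLocalRing.le_maximalIdeal hp'.ne_top ha)
  have hne : ∃ n : F.presheaf.stalk x₁,
      n ∉ (p'.map (algebraMap (Y.presheaf.stalk (f x₁)) (X.presheaf.stalk x₁)) • ⊤ :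
        Submodule (X.presheaf.stalk x₁) (F.presheaf.stalk x₁)) := by
    by_contra hno
    push Not at hno
    have h1 : (⊤ : Submodule (X.presheaf.stalk x₁) (F.presheaf.stalk x₁)) ≤
        p'.map (algebraMap (Y.presheaf.stalk (f x₁)) (X.presheaf.stalk x₁)) • ⊤ := fun n _ => hno n
    have h2 := Submodule.eq_bot_of_le_smul_of_le_jacobson_bot _
      (⊤ : Submodule (X.presheaf.stalk x₁) (F.presheaf.stalk x₁)) Module.Finite.fg_top h1
      (hJle.trans (IsLocalRing.jacobson_eq_maximalIdeal ⊥ bot_ne_top).ge)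
    exact (not_subsingleton (F.presheaf.stalk x₁))
      ((Submodule.subsingleton_iff (X.presheaf.stalk x₁)).mp (subsingleton_of_bot_eq_top h2.symm))
  obtain ⟨q, hqprime, hqcomap, n, hn⟩ := exists_prime_comap_eq p' hne
  let qpt : Spec (X.presheaf.stalk x₁) := ⟨q, hqprime⟩
  have h21 : X.fromSpecStalk x₁ qpt ⤳ x₁ := by
    have : X.fromSpecStalk x₁ qpt ∈ Set.range (X.fromSpecStalk x₁) := ⟨qpt, rfl⟩
    rw [Scheme.range_fromSpecStalk] at this
    exact this
  refine ⟨X.fromSpecStalk x₁ qpt, h21, ?_, ?_⟩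
  · have e1 : f (X.fromSpecStalk x₁ qpt) =
        Y.fromSpecStalk (f x₁) (Spec.map (f.stalkMap x₁) qpt) := by
      rw [← Scheme.Hom.comp_apply, ← Scheme.Hom.comp_apply, Scheme.SpecMap_stalkMap_fromSpecStalk]
    have e2 : Spec.map (f.stalkMap x₁) qpt =
        Spec.map (Y.presheaf.stalkSpecializes hy') (closedPoint (Y.presheaf.stalk y')) :=
      PrimeSpectrum.ext hqcomap
    rw [e1, e2, ← Scheme.Hom.comp_apply, Scheme.SpecMap_stalkSpecializes_fromSpecStalk,
      Scheme.fromSpecStalk_closedPoint]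
  · have hq2 : Spec.map (X.presheaf.stalkSpecializes h21)
        (closedPoint (X.presheaf.stalk (X.fromSpecStalk x₁ qpt))) = qpt := by
      apply (X.fromSpecStalk x₁).isEmbedding.injective
      rw [← Scheme.Hom.comp_apply, Scheme.SpecMap_stalkSpecializes_fromSpecStalk,
        Scheme.fromSpecStalk_closedPoint]
    have hne2 : F.presheaf.stalkSpecializes h21 n ≠ 0 := by
      intro h0
      obtain ⟨s, hsu, hs⟩ := exists_smul_eq_zero_of_stalkSpecializes_eq_zero F h21 n h0
      have hsq : s ∈ q := hn s hs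
      have hsq' : s ∈ (Spec.map (X.presheaf.stalkSpecializes h21)
          (closedPoint (X.presheaf.stalk (X.fromSpecStalk x₁ qpt)))).asIdeal := by
        rw [hq2]; exact hsq
      exact hsq' hsu
    intro hsub
    exact hne2 (Subsingleton.elim _ _)

end GD

section Fibre

variable [IsLocallyNoetherian X]

/-- Nakayama: at a point of the support of a coherent module, `J • F_x ≠ F_x` for `J ≤ m_x`. -/
theorem exists_notMem_smul_top (F : X.Modules) (hF : Coh.IsCoh F) (x : X) (hx : x ∈ CohB1.support F)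
    (J : Ideal (X.presheaf.stalk x)) (hJ : J ≤ maximalIdeal (X.presheaf.stalk x)) :
    ∃ n : F.presheaf.stalk x, n ∉ (J • ⊤ : Submodule (X.presheaf.stalk x) (F.presheaf.stalk x)) := by
  haveI := hF.1
  haveI : SheafOfModules.IsFiniteType (R := X.ringCatSheaf) F := hF.2
  haveI hfin := Groth.Agent.Lib.Helper2.FibreCrit.finite_stalk F x
  haveI hnt : Nontrivial (F.presheaf.stalk x) := not_subsingleton_iff_nontrivial.1 hx
  by_contra hno
  push Not at hno
  have h1 : (⊤ : Submodule (X.presheaf.stalk x) (F.presheaf.stalk x)) ≤ J • ⊤ := fun n _ => hno n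
  have h2 := Submodule.eq_bot_of_le_smul_of_le_jacobson_bot _
    (⊤ : Submodule (X.presheaf.stalk x) (F.presheaf.stalk x)) Module.Finite.fg_top h1
    (hJ.trans (IsLocalRing.jacobson_eq_maximalIdeal ⊥ bot_ne_top).ge)
  exact (not_subsingleton (F.presheaf.stalk x))
    ((Submodule.subsingleton_iff (X.presheaf.stalk x)).mp (subsingleton_of_bot_eq_top h2.symm))

theorem map_stalkMap_le (x : X) :
    Ideal.map (f.stalkMap x).hom (maximalIdeal (Y.presheaf.stalk (f x))) ≤
      maximalIdeal (X.presheaf.stalk x) := by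
  rw [Ideal.map_le_iff_le_comap]
  intro a ha
  rw [Ideal.mem_comap, mem_maximalIdeal, mem_nonunits_iff] at *
  exact fun hu => ha (isUnit_of_map_unit (f.stalkMap x).hom a hu)

/-- a point of the fibre in the support of `F` is a specialization of an associated point of `F|_{X_y}`. -/
theorem exists_isAssPoint_fiber_specializes (F : X.Modules) (hF : Coh.IsCoh F) (y : Y) (z : f.fiber y)
    (hz : f.fiberι y z ∈ CohB1.support F) :
    ∃ z₁ : f.fiber y, z₁ ⤳ z ∧ Curv2.IsAssPoint ((Scheme.Modules.pullback (f.fiberι y)).obj F) z₁ := by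
  haveI := hF.1
  haveI : ((Scheme.Modules.pullback (f.fiberι y)).obj F).IsQuasicoherent :=
    Groth.Agent.Lib.Helper2.PullbackSec.isQuasicoherent_pullback (f.fiberι y) F
  have hnt : Nontrivial (((Scheme.Modules.pullback (f.fiberι y)).obj F).presheaf.stalk z) := by
    rw [← not_subsingleton_iff_nontrivial, subsingleton_stalk_fiber_iff]
    intro hall
    obtain ⟨n, hn⟩ := exists_notMem_smul_top F hF _ hz _ (map_stalkMap_le f (f.fiberι y z))
    exact hn (hall n)
  obtain ⟨z₁, hz₁, hz₁z⟩ := Groth.Agent.Lib.Helper23.AssStalk.exists_isWeakAssPoint_specializes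
    ((Scheme.Modules.pullback (f.fiberι y)).obj F) z hnt
  exact ⟨z₁, hz₁z, (Groth.Agent.Lib.Helper2.Ass.isAssPoint_iff_isWeakAssPoint _ z₁).2 hz₁⟩

/-- points of `X` over `y` are the points of the fibre. -/
theorem exists_fiber_point (y : Y) (x : X) (hx : f x = y) : ∃ z : f.fiber y, f.fiberι y z = x := by
  have : x ∈ Set.range (f.fiberι y) := by
    rw [f.range_fiberι]
    exact hx
  exact this

theorem qx_nontrivial (F : X.Modules) (x : X) (h : Qx f F x) : x ∈ CohB1.support F := by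
  obtain ⟨η, hη, -⟩ := h
  intro hsub
  apply hη
  rw [Subsingleton.elim η 0]
  exact zero_mem _

end Fibre

section Main

variable [IsLocallyNoetherian X] [IsLocallyNoetherian Y]

/-- the associated points of the fibre module map to associated points of the tensor product. -/
theorem isAssPoint_tensor_of_fiber (E : Y.Modules) (F : X.Modules) (hflat : FlatMod.IsFlatOver f F)
    (y : Y) (hy : Curv2.IsAssPoint E y) (z : f.fiber y)
    (hz : Curv2.IsAssPoint ((Scheme.Modules.pullback (f.fiberι y)).obj F) z) :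
    Curv2.IsAssPoint (CohB1.tensorMod ((Scheme.Modules.pullback f).obj E) F) (f.fiberι y z) := by
  rw [isAssPoint_tensor_pullback_iff f E F _ (hflat _)]
  refine ⟨?_, (isAssPoint_fiber_iff f F y z).1 hz⟩
  rw [Groth.Agent.Lib.Helper10.FibStalk.fiberι_apply_eq f y z]
  exact hy

theorem noEmbedded_tensor_iff (E : Y.Modules) (F : X.Modules) (hF : Coh.IsCoh F)
    (hflat : FlatMod.IsFlatOver f F) :
    AssSch.NoEmbedded (CohB1.tensorMod ((Scheme.Modules.pullback f).obj E) F) ↔
      ∀ y ∈ AssSch.Ass E ∩ f.base '' CohB1.support F,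
        (∀ y' ∈ AssSch.Ass E, y' ⤳ y → y' = y) ∧
          AssSch.NoEmbedded ((Scheme.Modules.pullback (f.fiberι y)).obj F) := by
  constructor
  · rintro hne y ⟨hy, x₀, hx₀, hfx₀⟩
    have hfx₀' : f x₀ = y := hfx₀
    constructor
    · intro y' hy'ass hy'y
      obtain ⟨z₀, hz₀⟩ := exists_fiber_point f y x₀ hfx₀'
      obtain ⟨z₁, -, hz₁ass⟩ := exists_isAssPoint_fiber_specializes f F hF y z₀ (by rw [hz₀]; exact hx₀)
      have hx₁T := isAssPoint_tensor_of_fiber f E F hflat y hy z₁ hz₁ass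
      have hfx₁ : f (f.fiberι y z₁) = y := Groth.Agent.Lib.Helper10.FibStalk.fiberι_apply_eq f y z₁
      have hx₁supp : f.fiberι y z₁ ∈ CohB1.support F :=
        qx_nontrivial f F _ ((isAssPoint_fiber_iff f F y z₁).1 hz₁ass)
      obtain ⟨x₂, h21, hfx₂, hx₂supp⟩ := exists_specializes_mem_support f F hF (f.fiberι y z₁) hx₁supp
        (hflat _) y' (by rw [hfx₁]; exact hy'y)
      obtain ⟨z₂, hz₂⟩ := exists_fiber_point f y' x₂ hfx₂
      obtain ⟨z₃, hz₃z₂, hz₃ass⟩ := exists_isAssPoint_fiber_specializes f F hF y' z₂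
        (by rw [hz₂]; exact hx₂supp)
      have hx₃T := isAssPoint_tensor_of_fiber f E F hflat y' hy'ass z₃ hz₃ass
      have hfx₃ : f (f.fiberι y' z₃) = y' := Groth.Agent.Lib.Helper10.FibStalk.fiberι_apply_eq f y' z₃
      have h32 : f.fiberι y' z₃ ⤳ x₂ := by
        rw [← hz₂]
        exact hz₃z₂.map (f.fiberι y').continuous
      have heq := hne _ hx₁T _ hx₃T (h32.trans h21)
      rw [← hfx₃, ← heq, hfx₁]
    · intro z₁ hz₁ z₂ hz₂ h21
      have h1 := isAssPoint_tensor_of_fiber f E F hflat y hy z₁ hz₁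
      have h2 := isAssPoint_tensor_of_fiber f E F hflat y hy z₂ hz₂
      exact (f.fiberι y).isEmbedding.injective (hne _ h1 _ h2 (h21.map (f.fiberι y).continuous))
  · intro h x₁ hx₁ x₂ hx₂ h21
    obtain ⟨hE₁, hQ₁⟩ := (isAssPoint_tensor_pullback_iff f E F x₁ (hflat x₁)).1 hx₁
    obtain ⟨hE₂, hQ₂⟩ := (isAssPoint_tensor_pullback_iff f E F x₂ (hflat x₂)).1 hx₂
    obtain ⟨hmax, hneF⟩ := h (f x₁) ⟨hE₁, x₁, qx_nontrivial f F x₁ hQ₁, rfl⟩
    have hy21 : f x₂ = f x₁ := hmax (f x₂) hE₂ (h21.map f.continuous)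
    obtain ⟨z₁, hz₁⟩ := exists_fiber_point f (f x₁) x₁ rfl
    obtain ⟨z₂, hz₂⟩ := exists_fiber_point f (f x₁) x₂ hy21
    have ha₁ : Curv2.IsAssPoint ((Scheme.Modules.pullback (f.fiberι (f x₁))).obj F) z₁ := by
      rw [isAssPoint_fiber_iff, hz₁]
      exact hQ₁
    have ha₂ : Curv2.IsAssPoint ((Scheme.Modules.pullback (f.fiberι (f x₁))).obj F) z₂ := by
      rw [isAssPoint_fiber_iff, hz₂]
      exact hQ₂
    have hz21 : z₂ ⤳ z₁ := by
      rw [← (f.fiberι (f x₁)).isEmbedding.isInducing.specializes_iff, hz₁, hz₂]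
      exact h21
    have := hneF z₁ ha₁ z₂ ha₂ hz21
    rw [← hz₁, ← hz₂, this]

end Main

end Groth.Agent.Lib.T2H6.FlatAss
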