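import Mathlib
import Groth.Agent.Lib.T2H6FlatAssC
import Groth.Agent.Lib.T2H6AssRestrict

/-!
# Lengths of the stalks of `f^* E ⊗ F` for `F` flat over the base (helper6)

* algebra: for a local homomorphism `A → B` of Noetherian local rings and a `B`-module `F` faithfully flat over `A`,
  `length_B (F ⊗[A] E) = 1 ↔ length_A E = 1 ∧ length_B (F / m_A F) = 1`.
* geometry: the criterion for `f^* E ⊗ F` to be a reduced module.
-/

set_option autoImplicit false
set_option linter.style.haveILetI false
set_option linter.unusedSectionVars false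
universe u
open CategoryTheory CategoryTheory.Limits AlgebraicGeometry Opposite TopologicalSpace TensorProduct

namespace Groth.Agent.Lib.T2H6.FlatAss

open IsLocalRing

section LenAlg

variable {A : Type u} {B : Type u} [CommRing A] [CommRing B] [IsLocalRing A] [IsLocalRing B] [Algebra A B]
  {E : Type u} [AddCommGroup E] [Module A E]
  {F : Type u} [AddCommGroup F] [Module A F] [Module B F] [IsScalarTower A B F] [SMulCommClass A B F]

variable (A B F) in
/-- the `B`-linear map `n ↦ n ⊗ 1 : F → F ⊗[A] A/m_A`. -/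
def rho2 : F →ₗ[B] F ⊗[A] (A ⧸ maximalIdeal A) where
  toFun n := n ⊗ₜ[A] (Ideal.Quotient.mk (maximalIdeal A) 1)
  map_add' x y := TensorProduct.add_tmul _ _ _
  map_smul' b n := (TensorProduct.smul_tmul' b n _).symm

theorem faithfullyFlat_of_notMem [Module.Flat A F] (η : F)
    (hη : η ∉ (maximalIdeal A • ⊤ : Submodule A F)) : Module.FaithfullyFlat A F := by
  rw [Module.FaithfullyFlat.iff_flat_and_proper_ideal]
  refine ⟨inferInstance, fun I hI htop => hη ?_⟩
  have h1 : I ≤ maximalIdeal A := IsLocalRing.le_maximalIdeal hI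
  have h2 : (I • ⊤ : Submodule A F) ≤ maximalIdeal A • ⊤ := Submodule.smul_mono_left h1
  have h3 : η ∈ (I • ⊤ : Submodule A F) := by
    rw [htop]
    exact Submodule.mem_top
  exact h2 h3

omit [IsLocalRing A] [IsLocalRing B] in
theorem length_le_length_tensor [Module.FaithfullyFlat A F] :
    Module.length A E ≤ Module.length B (F ⊗[A] E) := by
  let φ : Submodule A E → Submodule B (F ⊗[A] E) := fun N =>
    LinearMap.range (TensorProduct.AlgebraTensorModule.lTensor B F N.subtype)
  have hmem : ∀ (N : Submodule A E) (z : F ⊗[A] E), z ∈ φ N ↔ ∃ w, N.subtype.lTensor F w = z :=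
    fun N z => Iff.rfl
  have hφ : StrictMono φ := by
    intro N N' hlt
    have hle : N ≤ N' := hlt.le
    have hcomp : N.subtype = N'.subtype ∘ₗ Submodule.inclusion hle := rfl
    refine lt_of_le_of_ne ?_ ?_
    · intro z hz
      rw [hmem] at hz ⊢
      obtain ⟨w, rfl⟩ := hz
      refine ⟨(Submodule.inclusion hle).lTensor F w, ?_⟩
      rw [← LinearMap.comp_apply, ← LinearMap.lTensor_comp, ← hcomp]
    · intro heq
      have hsurj : Function.Surjective ((Submodule.inclusion hle).lTensor F) := by
        intro w'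
        have h1 : N'.subtype.lTensor F w' ∈ φ N := by
          rw [heq, hmem]
          exact ⟨w', rfl⟩
        rw [hmem] at h1
        obtain ⟨w, hw⟩ := h1
        refine ⟨w, ?_⟩
        apply Module.Flat.lTensor_preserves_injective_linearMap (M := F) N'.subtype
          (Submodule.injective_subtype N')
        rw [← LinearMap.comp_apply, ← LinearMap.lTensor_comp, ← hcomp]
        exact hw
      rw [Module.FaithfullyFlat.lTensor_surjective_iff_surjective] at hsurj
      apply hlt.ne
      apply le_antisymm hle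
      intro e he
      obtain ⟨⟨n, hn⟩, h⟩ := hsurj ⟨e, he⟩
      have h2 : n = e := congrArg Subtype.val h
      rw [← h2]
      exact hn
  have h := Order.krullDim_le_of_strictMono φ hφ
  rw [← WithBot.coe_le_coe, Module.coe_length, Module.coe_length]
  exact h

variable [IsLocalHom (algebraMap A B)] [IsNoetherianRing A] [IsNoetherianRing B]

theorem length_tensor_residue :
    Module.length B (F ⊗[A] (A ⧸ maximalIdeal A)) =
      Module.length B (F ⧸ ((maximalIdeal A).map (algebraMap A B) • ⊤ : Submodule B F)) := by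
  have hsurj : Function.Surjective (rho2 A B F) := fun z => by
    obtain ⟨n, rfl⟩ := exists_eq_tmul_one z
    exact ⟨n, rfl⟩
  have hker : LinearMap.ker (rho2 A B F) = (maximalIdeal A).map (algebraMap A B) • ⊤ := by
    ext n
    rw [LinearMap.mem_ker, ← mem_smul_top_iff]
    exact tmul_one_eq_zero_iff n
  exact ((Submodule.quotEquivOfEq _ _ hker).symm ≪≫ₗ
    (rho2 A B F).quotKerEquivOfSurjective hsurj).length_eq.symm

theorem length_tensor_eq_one_iff [Module.Flat A F]
    (hQ : ∃ η : F, η ∉ (maximalIdeal A • ⊤ : Submodule A F)) :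
    Module.length B (F ⊗[A] E) = 1 ↔
      Module.length A E = 1 ∧
        Module.length B (F ⧸ ((maximalIdeal A).map (algebraMap A B) • ⊤ : Submodule B F)) = 1 := by
  have key : Module.length A E = 1 → Module.length B (F ⊗[A] E) =
      Module.length B (F ⧸ ((maximalIdeal A).map (algebraMap A B) • ⊤ : Submodule B F)) := by
    intro h1
    obtain ⟨I, hI, ⟨e⟩⟩ := isSimpleModule_iff_quot_maximal.mp (Module.length_eq_one_iff.1 h1)
    obtain rfl := IsLocalRing.eq_maximalIdeal hI
    exact (TensorProduct.AlgebraTensorModule.congr (LinearEquiv.refl B F) e).length_eq.trans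
      length_tensor_residue
  constructor
  · intro h
    obtain ⟨η, hη⟩ := hQ
    haveI := faithfullyFlat_of_notMem η hη
    have hle : Module.length A E ≤ 1 := h ▸ length_le_length_tensor (A := A) (B := B) (E := E) (F := F)
    have hnt : Nontrivial (F ⊗[A] E) := by
      rw [← Module.length_pos_iff (R := B), h]
      exact zero_lt_one
    have hE : Nontrivial E := by
      by_contra hno
      rw [not_nontrivial_iff_subsingleton] at hno
      exact not_subsingleton (F ⊗[A] E) inferInstance
    have hpos : 0 < Module.length A E := Module.length_pos_iff.2 hE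
    have h1 : Module.length A E = 1 := le_antisymm hle (Order.one_le_iff_pos.2 hpos)
    exact ⟨h1, (key h1).symm.trans h⟩
  · rintro ⟨h1, h2⟩
    exact (key h1).trans h2

end LenAlg

section LenBC

variable {B O' : Type u} [CommRing B] [CommRing O'] [IsLocalRing B] [IsLocalRing O'] [Algebra B O']
  [IsLocalHom (algebraMap B O')] [IsNoetherianRing B] [IsNoetherianRing O']
  (F : Type u) [AddCommGroup F] [Module B F]

theorem length_baseChange_of_surjective (hs : Function.Surjective (algebraMap B O')) (K : Ideal B)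
    (hK : RingHom.ker (algebraMap B O') = K) :
    Module.length O' (O' ⊗[B] F) = Module.length B (F ⧸ (K • ⊤ : Submodule B F)) := by
  subst hK
  rw [← Module.length_eq_of_surjective (S := B) (R := O') (M := O' ⊗[B] F) hs]
  have hsurj : Function.Surjective (TensorProduct.mk B O' F 1) := fun z => by
    obtain ⟨n, rfl⟩ := exists_eq_one_tmul F hs z
    exact ⟨n, rfl⟩
  have hker : LinearMap.ker (TensorProduct.mk B O' F 1) = RingHom.ker (algebraMap B O') • ⊤ := by
    ext n
    rw [LinearMap.mem_ker, TensorProduct.mk_apply]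
    exact one_tmul_eq_zero_iff F hs n
  exact ((Submodule.quotEquivOfEq _ _ hker).symm ≪≫ₗ
    (TensorProduct.mk B O' F 1).quotKerEquivOfSurjective hsurj).length_eq.symm

end LenBC

section Geo

open Groth.Agent.Lib.Helper1.Sky Groth.Agent.Lib.Helper1.StalkTensor
open Groth.Agent.Lib.T2H8.StalkRestrict

variable {X Y : Scheme.{u}} (f : X ⟶ Y)

/-- the length of `F_x / m_{f x} F_x` over `O_{X,x}`. -/
noncomputable def fibLen (F : X.Modules) (x : X) : ℕ∞ :=
  Module.length (X.presheaf.stalk x)
    (F.presheaf.stalk x ⧸ (Ideal.map (f.stalkMap x).hom (maximalIdeal (Y.presheaf.stalk (f x))) • ⊤ :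
      Submodule (X.presheaf.stalk x) (F.presheaf.stalk x)))

/-- the length of the stalk of `E` at `y`. -/
noncomputable def stalkLen (E : Y.Modules) (y : Y) : ℕ∞ :=
  Module.length (Y.presheaf.stalk y) (E.presheaf.stalk y)

theorem length_stalk_tensor_eq_one_iff [IsLocallyNoetherian X] [IsLocallyNoetherian Y]
    (E : Y.Modules) (F : X.Modules) (x : X)
    (hflat : FlatMod.IsFlatOverAt f F x) (hQ : Qx f F x) :
    Module.length (X.presheaf.stalk x)
      ((CohB1.tensorMod ((Scheme.Modules.pullback f).obj E) F).presheaf.stalk x) = 1 ↔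
      stalkLen E (f x) = 1 ∧ fibLen f F x = 1 := by
  letI alg : Algebra (Y.presheaf.stalk (f x)) (X.presheaf.stalk x) := (f.stalkMap x).hom.toAlgebra
  letI mod : Module (Y.presheaf.stalk (f x)) (F.presheaf.stalk x) := FlatMod.moduleStalkOver f F x
  haveI tower : IsScalarTower (Y.presheaf.stalk (f x)) (X.presheaf.stalk x) (F.presheaf.stalk x) :=
    IsScalarTower.of_algebraMap_smul (fun a n => rfl)
  haveI : SMulCommClass (Y.presheaf.stalk (f x)) (X.presheaf.stalk x) (F.presheaf.stalk x) :=
    IsScalarTower.to_smulCommClass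
  haveI : IsLocalHom (algebraMap (Y.presheaf.stalk (f x)) (X.presheaf.stalk x)) :=
    inferInstanceAs (IsLocalHom (f.stalkMap x).hom)
  haveI : Module.Flat (Y.presheaf.stalk (f x)) (F.presheaf.stalk x) := hflat
  let P := (Scheme.Modules.pullback f).obj E
  let e1 : (CohB1.tensorMod P F).presheaf.stalk x ≃ₗ[X.presheaf.stalk x]
      (P.presheaf.stalk x ⊗[X.presheaf.stalk x] F.presheaf.stalk x) :=
    Groth.Agent.Lib.T2H6.NegTwistD.stalkTensorEquiv P F x
  let N := (stalkFun (f x)).obj E
  let e2 : P.presheaf.stalk x ≃ₗ[X.presheaf.stalk x]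
      (X.presheaf.stalk x ⊗[Y.presheaf.stalk (f x)] E.presheaf.stalk (f x)) :=
    ((stalkPullbackIso f x).app E).toLinearEquiv ≪≫ₗ
      Groth.Agent.S2380.bridge (Y.presheaf.stalk (f x)) (X.presheaf.stalk x) N
  let e3 : (P.presheaf.stalk x ⊗[X.presheaf.stalk x] F.presheaf.stalk x) ≃ₗ[X.presheaf.stalk x]
      (F.presheaf.stalk x ⊗[Y.presheaf.stalk (f x)] E.presheaf.stalk (f x)) :=
    TensorProduct.congr e2 (LinearEquiv.refl _ _) ≪≫ₗ TensorProduct.comm _ _ _ ≪≫ₗ
      TensorProduct.AlgebraTensorModule.cancelBaseChange (Y.presheaf.stalk (f x)) (X.presheaf.stalk x)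
        (X.presheaf.stalk x) (F.presheaf.stalk x) (E.presheaf.stalk (f x))
  have h1 : Module.length (X.presheaf.stalk x) ((CohB1.tensorMod P F).presheaf.stalk x) =
      Module.length (X.presheaf.stalk x)
        (F.presheaf.stalk x ⊗[Y.presheaf.stalk (f x)] E.presheaf.stalk (f x)) :=
    (e1 ≪≫ₗ e3).length_eq
  obtain ⟨η, hη, -⟩ := hQ
  have hη' : η ∉ (maximalIdeal (Y.presheaf.stalk (f x)) • ⊤ :
      Submodule (Y.presheaf.stalk (f x)) (F.presheaf.stalk x)) := by
    rw [mem_smul_top_iff (A := Y.presheaf.stalk (f x)) (B := X.presheaf.stalk x)]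
    exact hη
  rw [h1, length_tensor_eq_one_iff ⟨η, hη'⟩]
  rfl

theorem length_stalk_fiber [IsLocallyNoetherian X] (F : X.Modules) (y : Y) (z : f.fiber y) :
    Module.length ((f.fiber y).presheaf.stalk z)
      (((Scheme.Modules.pullback (f.fiberι y)).obj F).presheaf.stalk z) = fibLen f F (f.fiberι y z) := by
  letI alg : Algebra (X.presheaf.stalk (f.fiberι y z)) ((f.fiber y).presheaf.stalk z) :=
    ((f.fiberι y).stalkMap z).hom.toAlgebra
  have hs : Function.Surjective
      (algebraMap (X.presheaf.stalk (f.fiberι y z)) ((f.fiber y).presheaf.stalk z)) :=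
    (f.fiberι y).stalkMap_surjective z
  haveI : IsLocalHom (algebraMap (X.presheaf.stalk (f.fiberι y z)) ((f.fiber y).presheaf.stalk z)) :=
    inferInstanceAs (IsLocalHom ((f.fiberι y).stalkMap z).hom)
  haveI : IsNoetherianRing ((f.fiber y).presheaf.stalk z) :=
    isNoetherianRing_of_surjective _ _ (algebraMap (X.presheaf.stalk (f.fiberι y z))
      ((f.fiber y).presheaf.stalk z)) hs
  let N := (stalkFun (f.fiberι y z)).obj F
  let e : ((Scheme.Modules.pullback (f.fiberι y)).obj F).presheaf.stalk z ≃ₗ[(f.fiber y).presheaf.stalk z]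
      ((f.fiber y).presheaf.stalk z ⊗[X.presheaf.stalk (f.fiberι y z)] F.presheaf.stalk (f.fiberι y z)) :=
    ((stalkPullbackIso (f.fiberι y) z).app F).toLinearEquiv ≪≫ₗ
      Groth.Agent.S2380.bridge (X.presheaf.stalk (f.fiberι y z)) ((f.fiber y).presheaf.stalk z) N
  have hker : RingHom.ker (algebraMap (X.presheaf.stalk (f.fiberι y z)) ((f.fiber y).presheaf.stalk z)) =
      Ideal.map (f.stalkMap (f.fiberι y z)).hom
        (maximalIdeal (Y.presheaf.stalk (f (f.fiberι y z)))) :=
    Groth.Agent.Lib.Helper10.FibStalk.ker_eq_map f y z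
  rw [e.length_eq, length_baseChange_of_surjective _ hs _ hker]
  rfl

theorem isReducedMod_tensor_iff [IsLocallyNoetherian X] [IsLocallyNoetherian Y]
    (E : Y.Modules) (F : X.Modules) (hF : Coh.IsCoh F) (hflat : FlatMod.IsFlatOver f F) :
    AssSch.IsReducedMod (CohB1.tensorMod ((Scheme.Modules.pullback f).obj E) F) ↔
      ∀ y ∈ AssSch.Ass E ∩ f.base '' CohB1.support F,
        (∀ y' ∈ AssSch.Ass E, y' ⤳ y → y' = y) ∧
          Module.length (Y.presheaf.stalk y) (E.presheaf.stalk y) = 1 ∧
          AssSch.IsReducedMod ((Scheme.Modules.pullback (f.fiberι y)).obj F) := by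
  constructor
  · rintro ⟨hne, hlen⟩ y hy
    obtain ⟨hmax, hneF⟩ := (noEmbedded_tensor_iff f E F hF hflat).1 hne y hy
    obtain ⟨hyE, x₀, hx₀, hfx₀⟩ := hy
    have hfx₀' : f x₀ = y := hfx₀
    have hz : ∀ z : f.fiber y, Curv2.IsAssPoint ((Scheme.Modules.pullback (f.fiberι y)).obj F) z →
        stalkLen E y = 1 ∧ fibLen f F (f.fiberι y z) = 1 := by
      intro z hzass
      have hxT := isAssPoint_tensor_of_fiber f E F hflat y hyE z hzass
      have hQ := (isAssPoint_fiber_iff f F y z).1 hzass
      have h1 := (length_stalk_tensor_eq_one_iff f E F _ (hflat _) hQ).1 (hlen _ hxT)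
      rw [Groth.Agent.Lib.Helper10.FibStalk.fiberι_apply_eq f y z] at h1
      exact h1
    refine ⟨hmax, ?_, hneF, fun z hzass => ?_⟩
    · obtain ⟨z₀, hz₀⟩ := exists_fiber_point f y x₀ hfx₀'
      obtain ⟨z₁, -, hz₁ass⟩ := exists_isAssPoint_fiber_specializes f F hF y z₀ (by rw [hz₀]; exact hx₀)
      exact (hz z₁ hz₁ass).1
    · rw [length_stalk_fiber]
      exact (hz z hzass).2
  · intro h
    refine ⟨(noEmbedded_tensor_iff f E F hF hflat).2 (fun y hy => ⟨(h y hy).1, (h y hy).2.2.1⟩), ?_⟩
    intro x hx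
    obtain ⟨hE, hQ⟩ := (isAssPoint_tensor_pullback_iff f E F x (hflat x)).1 hx
    obtain ⟨-, hlenE, -, hlenF⟩ := h (f x) ⟨hE, x, qx_nontrivial f F x hQ, rfl⟩
    obtain ⟨z, hz⟩ := exists_fiber_point f (f x) x rfl
    have ha : Curv2.IsAssPoint ((Scheme.Modules.pullback (f.fiberι (f x))).obj F) z := by
      rw [isAssPoint_fiber_iff, hz]
      exact hQ
    have h2 := hlenF z ha
    rw [length_stalk_fiber, hz] at h2
    exact (length_stalk_tensor_eq_one_iff f E F x (hflat x) hQ).2 ⟨hlenE, h2⟩

end Geo

end Groth.Agent.Lib.T2H6.FlatAss
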