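import Mathlib
import Groth.Agent.Lib.T2H6FlatAssD

/-!
# Supports of `f^* E ⊗ F` for `F` of finite type and flat over the base, without Noetherian hypotheses (helper6)

* `exists_prime_comap_eq'`: going down for flat modules (no Noetherian hypothesis).
* `exists_specializes_mem_support'`: scheme-level going down for a finite type quasi-coherent module flat over the base.
* `mem_support_tensor_iff`, `mem_support_fiber_iff`.
* `maximal_support_tensor_iff`.
-/

set_option autoImplicit false
set_option linter.style.haveILetI false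
set_option linter.unusedSectionVars false
universe u
open CategoryTheory CategoryTheory.Limits AlgebraicGeometry Opposite TopologicalSpace TensorProduct

namespace Groth.Agent.Lib.T2H6.FlatSupp

open IsLocalRing Groth.Agent.Lib.T2H6.FlatAss

section Alg

variable {A : Type u} {B : Type u} [CommRing A] [CommRing B] [Algebra A B]
  {N : Type u} [AddCommGroup N] [Module A N] [Module B N] [IsScalarTower A B N] [Module.Flat A N]

/-- going down for flat modules, without Noetherian hypotheses. -/
theorem exists_prime_comap_eq' (p' : Ideal A) [p'.IsPrime]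
    (hne : ∃ n : N, n ∉ (p'.map (algebraMap A B) • ⊤ : Submodule B N)) :
    ∃ q : Ideal B, q.IsPrime ∧ q.comap (algebraMap A B) = p' ∧
      ∃ n : N, ∀ s : B, s • n = 0 → s ∈ q := by
  set J : Submodule B N := (p'.map (algebraMap A B) • ⊤ : Submodule B N) with hJ
  obtain ⟨n₀, hn₀⟩ := hne
  let I : Ideal B := J.colon {n₀}
  let S : Submonoid B := Submonoid.map (algebraMap A B : A →* B) p'.primeCompl
  have hdisj : Disjoint (I : Set B) S := by
    rw [Set.disjoint_left]
    rintro b hbI ⟨a, ha, rfl⟩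
    apply hn₀
    have h1 : (algebraMap A B a) • n₀ ∈ J := Submodule.mem_colon_singleton.1 hbI
    rw [hJ, ← mem_smul_top_iff_map]
    apply mem_smul_top_of_smul_mem p' a ha n₀
    rw [mem_smul_top_iff_map (B := B), ← algebraMap_smul B a n₀]
    exact h1
  obtain ⟨q, hq, hIq, hqS⟩ := Ideal.exists_le_prime_disjoint I S hdisj
  refine ⟨q, hq, ?_, n₀, fun s hs => hIq ?_⟩
  · ext a
    rw [Ideal.mem_comap]
    constructor
    · intro h
      by_contra ha
      exact (Set.disjoint_left.1 hqS) h ⟨a, ha, rfl⟩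
    · intro ha
      apply hIq
      show algebraMap A B a ∈ J.colon {n₀}
      rw [Submodule.mem_colon_singleton]
      exact Submodule.smul_mem_smul (Ideal.mem_map_of_mem _ ha) Submodule.mem_top
  · show s ∈ J.colon {n₀}
    rw [Submodule.mem_colon_singleton, hs]
    exact zero_mem _

end Alg

section Geo

open Groth.Agent.Lib.Helper1.Sky Groth.Agent.Lib.Helper1.StalkTensor
open Groth.Agent.Lib.T2H8.StalkRestrict

variable {X Y : Scheme.{u}} (f : X ⟶ Y)

/-- Nakayama: at a point of the support of a finite type quasi-coherent module, `J • F_x ≠ F_x` for `J ≤ m_x`. -/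
theorem exists_notMem_smul_top' (F : X.Modules) (hF : Coh.IsCoh F) (x : X) (hx : x ∈ CohB1.support F)
    (J : Ideal (X.presheaf.stalk x)) (hJ : J ≤ maximalIdeal (X.presheaf.stalk x)) :
    ∃ n : F.presheaf.stalk x, n ∉ (J • ⊤ : Submodule (X.presheaf.stalk x) (F.presheaf.stalk x)) := by
  haveI := hF.1
  haveI : SheafOfModules.IsFiniteType (R := X.ringCatSheaf) F := hF.2
  haveI hfin := Groth.Agent.Lib.Helper2.FibreCrit.finite_stalk F x
  haveI hnt : Nontrivial (F.presheaf.stalk x) := not_subsingleton_iff_nontrivial.1 hx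
  by_contra hno
  push Not at hno
  have h1 : (⊤ : Submodule (X.presheaf.stalk x) (F.presheaf.stalk x)) ≤ J • ⊤ := fun n _ => hno n
  have h2 := Submodule.eq_bot_of_le_smul_of_le_jacobson_bot _
    (⊤ : Submodule (X.presheaf.stalk x) (F.presheaf.stalk x)) Module.Finite.fg_top h1
    (hJ.trans (IsLocalRing.jacobson_eq_maximalIdeal ⊥ bot_ne_top).ge)
  exact (not_subsingleton (F.presheaf.stalk x))
    ((Submodule.subsingleton_iff (X.presheaf.stalk x)).mp (subsingleton_of_bot_eq_top h2.symm))

theorem map_stalkMap_le' (x : X) :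
    Ideal.map (f.stalkMap x).hom (maximalIdeal (Y.presheaf.stalk (f x))) ≤
      maximalIdeal (X.presheaf.stalk x) := by
  rw [Ideal.map_le_iff_le_comap]
  intro a ha
  rw [Ideal.mem_comap, mem_maximalIdeal, mem_nonunits_iff] at *
  exact fun hu => ha (isUnit_of_map_unit (f.stalkMap x).hom a hu)

/-- going down for a finite type quasi-coherent module flat over the base: generizations of `f x₁` lift to
generizations of `x₁` in the support (no Noetherian hypotheses). -/
theorem exists_specializes_mem_support' (F : X.Modules) (hF : Coh.IsCoh F) (x₁ : X)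
    (hx₁ : x₁ ∈ CohB1.support F) (hflat : FlatMod.IsFlatOverAt f F x₁) (y' : Y) (hy' : y' ⤳ f x₁) :
    ∃ x₂ : X, x₂ ⤳ x₁ ∧ f x₂ = y' ∧ x₂ ∈ CohB1.support F := by
  haveI := hF.1
  haveI : SheafOfModules.IsFiniteType (R := X.ringCatSheaf) F := hF.2
  letI alg : Algebra (Y.presheaf.stalk (f x₁)) (X.presheaf.stalk x₁) := (f.stalkMap x₁).hom.toAlgebra
  letI mod : Module (Y.presheaf.stalk (f x₁)) (F.presheaf.stalk x₁) := FlatMod.moduleStalkOver f F x₁
  haveI tower : IsScalarTower (Y.presheaf.stalk (f x₁)) (X.presheaf.stalk x₁) (F.presheaf.stalk x₁) :=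
    IsScalarTower.of_algebraMap_smul (fun a n => rfl)
  haveI : IsLocalHom (algebraMap (Y.presheaf.stalk (f x₁)) (X.presheaf.stalk x₁)) :=
    inferInstanceAs (IsLocalHom (f.stalkMap x₁).hom)
  haveI : Module.Flat (Y.presheaf.stalk (f x₁)) (F.presheaf.stalk x₁) := hflat
  let p' : Ideal (Y.presheaf.stalk (f x₁)) :=
    (maximalIdeal (Y.presheaf.stalk y')).comap (Y.presheaf.stalkSpecializes hy').hom
  haveI hp' : p'.IsPrime := Ideal.comap_isPrime _ _
  have hJle : p'.map (algebraMap (Y.presheaf.stalk (f x₁)) (X.presheaf.stalk x₁)) ≤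
      maximalIdeal (X.presheaf.stalk x₁) := by
    rw [Ideal.map_le_iff_le_comap]
    intro a ha
    have ha' : a ∈ maximalIdeal (Y.presheaf.stalk (f x₁)) := IsLocalRing.le_maximalIdeal hp'.ne_top ha
    rw [Ideal.mem_comap, mem_maximalIdeal, mem_nonunits_iff] at *
    exact fun hu => ha' (isUnit_of_map_unit (algebraMap (Y.presheaf.stalk (f x₁)) (X.presheaf.stalk x₁)) a hu)
  have hne : ∃ n : F.presheaf.stalk x₁,
      n ∉ (p'.map (algebraMap (Y.presheaf.stalk (f x₁)) (X.presheaf.stalk x₁)) • ⊤ :
        Submodule (X.presheaf.stalk x₁) (F.presheaf.stalk x₁)) :=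
    exists_notMem_smul_top' F hF x₁ hx₁ _ hJle
  obtain ⟨q, hqprime, hqcomap, n, hn⟩ := exists_prime_comap_eq' p' hne
  let qpt : Spec (X.presheaf.stalk x₁) := ⟨q, hqprime⟩
  have h21 : X.fromSpecStalk x₁ qpt ⤳ x₁ := by
    have : X.fromSpecStalk x₁ qpt ∈ Set.range (X.fromSpecStalk x₁) := ⟨qpt, rfl⟩
    rw [Scheme.range_fromSpecStalk] at this
    exact this
  refine ⟨X.fromSpecStalk x₁ qpt, h21, ?_, ?_⟩
  · have e1 : f (X.fromSpecStalk x₁ qpt) =
        Y.fromSpecStalk (f x₁) (Spec.map (f.stalkMap x₁) qpt) := by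
      rw [← Scheme.Hom.comp_apply, ← Scheme.Hom.comp_apply, Scheme.SpecMap_stalkMap_fromSpecStalk]
    have e2 : Spec.map (f.stalkMap x₁) qpt =
        Spec.map (Y.presheaf.stalkSpecializes hy') (closedPoint (Y.presheaf.stalk y')) :=
      PrimeSpectrum.ext hqcomap
    rw [e1, e2, ← Scheme.Hom.comp_apply, Scheme.SpecMap_stalkSpecializes_fromSpecStalk,
      Scheme.fromSpecStalk_closedPoint]
  · have hq2 : Spec.map (X.presheaf.stalkSpecializes h21)
        (closedPoint (X.presheaf.stalk (X.fromSpecStalk x₁ qpt))) = qpt := by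
      apply (X.fromSpecStalk x₁).isEmbedding.injective
      rw [← Scheme.Hom.comp_apply, Scheme.SpecMap_stalkSpecializes_fromSpecStalk,
        Scheme.fromSpecStalk_closedPoint]
    have hne2 : F.presheaf.stalkSpecializes h21 n ≠ 0 := by
      intro h0
      obtain ⟨s, hsu, hs⟩ := exists_smul_eq_zero_of_stalkSpecializes_eq_zero F h21 n h0
      have hsq : s ∈ q := hn s hs
      have hsq' : s ∈ (Spec.map (X.presheaf.stalkSpecializes h21)
          (closedPoint (X.presheaf.stalk (X.fromSpecStalk x₁ qpt)))).asIdeal := by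
        rw [hq2]; exact hsq
      exact hsq' hsu
    intro hsub
    exact hne2 (Subsingleton.elim _ _)

/-- the support of `f^* E ⊗ F` for `F` of finite type, flat over the base at `x`. -/
theorem mem_support_tensor_iff (E : Y.Modules) (F : X.Modules) (hF : Coh.IsCoh F) (x : X)
    (hflat : FlatMod.IsFlatOverAt f F x) :
    x ∈ CohB1.support (CohB1.tensorMod ((Scheme.Modules.pullback f).obj E) F) ↔
      x ∈ CohB1.support F ∧ f x ∈ CohB1.support E := by
  letI alg : Algebra (Y.presheaf.stalk (f x)) (X.presheaf.stalk x) := (f.stalkMap x).hom.toAlgebra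
  letI mod : Module (Y.presheaf.stalk (f x)) (F.presheaf.stalk x) := FlatMod.moduleStalkOver f F x
  haveI tower : IsScalarTower (Y.presheaf.stalk (f x)) (X.presheaf.stalk x) (F.presheaf.stalk x) :=
    IsScalarTower.of_algebraMap_smul (fun a n => rfl)
  haveI : SMulCommClass (Y.presheaf.stalk (f x)) (X.presheaf.stalk x) (F.presheaf.stalk x) :=
    IsScalarTower.to_smulCommClass
  haveI : IsLocalHom (algebraMap (Y.presheaf.stalk (f x)) (X.presheaf.stalk x)) :=
    inferInstanceAs (IsLocalHom (f.stalkMap x).hom)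
  haveI : Module.Flat (Y.presheaf.stalk (f x)) (F.presheaf.stalk x) := hflat
  let P := (Scheme.Modules.pullback f).obj E
  let e1 : (CohB1.tensorMod P F).presheaf.stalk x ≃ₗ[X.presheaf.stalk x]
      (P.presheaf.stalk x ⊗[X.presheaf.stalk x] F.presheaf.stalk x) :=
    Groth.Agent.Lib.T2H6.NegTwistD.stalkTensorEquiv P F x
  let N := (stalkFun (f x)).obj E
  let e2 : P.presheaf.stalk x ≃ₗ[X.presheaf.stalk x]
      (X.presheaf.stalk x ⊗[Y.presheaf.stalk (f x)] E.presheaf.stalk (f x)) :=
    ((stalkPullbackIso f x).app E).toLinearEquiv ≪≫ₗ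
      Groth.Agent.S2380.bridge (Y.presheaf.stalk (f x)) (X.presheaf.stalk x) N
  let e3 : (P.presheaf.stalk x ⊗[X.presheaf.stalk x] F.presheaf.stalk x) ≃ₗ[X.presheaf.stalk x]
      (F.presheaf.stalk x ⊗[Y.presheaf.stalk (f x)] E.presheaf.stalk (f x)) :=
    TensorProduct.congr e2 (LinearEquiv.refl _ _) ≪≫ₗ TensorProduct.comm _ _ _ ≪≫ₗ
      TensorProduct.AlgebraTensorModule.cancelBaseChange (Y.presheaf.stalk (f x)) (X.presheaf.stalk x)
        (X.presheaf.stalk x) (F.presheaf.stalk x) (E.presheaf.stalk (f x))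
  have h1 : Subsingleton ((CohB1.tensorMod P F).presheaf.stalk x) ↔
      Subsingleton (F.presheaf.stalk x ⊗[Y.presheaf.stalk (f x)] E.presheaf.stalk (f x)) :=
    (e1 ≪≫ₗ e3).toEquiv.subsingleton_congr
  show ¬ Subsingleton ((CohB1.tensorMod P F).presheaf.stalk x) ↔
    ¬ Subsingleton (F.presheaf.stalk x) ∧ ¬ Subsingleton (E.presheaf.stalk (f x))
  rw [h1]
  constructor
  · intro h
    constructor
    · intro hs
      exact h inferInstance
    · intro hs
      exact h inferInstance
  · rintro ⟨hFx, hEy⟩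
    obtain ⟨η, hη⟩ := exists_notMem_smul_top' F hF x hFx _ (map_stalkMap_le' f x)
    have hη' : η ∉ (maximalIdeal (Y.presheaf.stalk (f x)) • ⊤ :
        Submodule (Y.presheaf.stalk (f x)) (F.presheaf.stalk x)) := by
      rw [mem_smul_top_iff (A := Y.presheaf.stalk (f x)) (B := X.presheaf.stalk x)]
      exact hη
    haveI := faithfullyFlat_of_notMem η hη'
    haveI : Nontrivial (E.presheaf.stalk (f x)) := not_subsingleton_iff_nontrivial.1 hEy
    rw [not_subsingleton_iff_nontrivial]
    infer_instance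

/-- the support of the restriction of `F` to a fibre. -/
theorem mem_support_fiber_iff (F : X.Modules) (hF : Coh.IsCoh F) (y : Y) (z : f.fiber y) :
    z ∈ CohB1.support ((Scheme.Modules.pullback (f.fiberι y)).obj F) ↔
      f.fiberι y z ∈ CohB1.support F := by
  letI alg : Algebra (X.presheaf.stalk (f.fiberι y z)) ((f.fiber y).presheaf.stalk z) :=
    ((f.fiberι y).stalkMap z).hom.toAlgebra
  have hs : Function.Surjective
      (algebraMap (X.presheaf.stalk (f.fiberι y z)) ((f.fiber y).presheaf.stalk z)) :=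
    (f.fiberι y).stalkMap_surjective z
  let N := (stalkFun (f.fiberι y z)).obj F
  let e : ((Scheme.Modules.pullback (f.fiberι y)).obj F).presheaf.stalk z ≃ₗ[(f.fiber y).presheaf.stalk z]
      ((f.fiber y).presheaf.stalk z ⊗[X.presheaf.stalk (f.fiberι y z)] F.presheaf.stalk (f.fiberι y z)) :=
    ((stalkPullbackIso (f.fiberι y) z).app F).toLinearEquiv ≪≫ₗ
      Groth.Agent.S2380.bridge (X.presheaf.stalk (f.fiberι y z)) ((f.fiber y).presheaf.stalk z) N
  have hker : RingHom.ker (algebraMap (X.presheaf.stalk (f.fiberι y z)) ((f.fiber y).presheaf.stalk z)) =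
      Ideal.map (f.stalkMap (f.fiberι y z)).hom
        (maximalIdeal (Y.presheaf.stalk (f (f.fiberι y z)))) :=
    Groth.Agent.Lib.Helper10.FibStalk.ker_eq_map f y z
  have h1 : Subsingleton (((Scheme.Modules.pullback (f.fiberι y)).obj F).presheaf.stalk z) ↔
      Subsingleton ((f.fiber y).presheaf.stalk z ⊗[X.presheaf.stalk (f.fiberι y z)]
        F.presheaf.stalk (f.fiberι y z)) := e.toEquiv.subsingleton_congr
  show ¬ Subsingleton (((Scheme.Modules.pullback (f.fiberι y)).obj F).presheaf.stalk z) ↔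
    ¬ Subsingleton (F.presheaf.stalk (f.fiberι y z))
  rw [h1]
  constructor
  · intro h hsub
    exact h inferInstance
  · intro hFx hsub
    obtain ⟨η, hη⟩ := exists_notMem_smul_top' F hF _ hFx _ (map_stalkMap_le' f (f.fiberι y z))
    apply hη
    rw [← hker]
    exact Groth.Agent.Lib.Helper20.Nakayama.mem_smul_top_of_one_tmul_eq_zero _ _ hs _ η
      (Subsingleton.elim _ _)

/-- maximal points of the support of `f^* E ⊗ F`. -/
theorem maximal_support_tensor_iff (F : X.Modules) (hF : Coh.IsCoh F)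
    (hfl : FlatMod.IsFlatOver f F) (E : Y.Modules) (x : X) :
    (x ∈ CohB1.support (CohB1.tensorMod ((Scheme.Modules.pullback f).obj E) F) ∧
        ∀ z ∈ CohB1.support (CohB1.tensorMod ((Scheme.Modules.pullback f).obj E) F), z ⤳ x → z = x) ↔
      ((f x ∈ CohB1.support E ∧ ∀ w ∈ CohB1.support E, w ⤳ f x → w = f x) ∧
        (f.asFiber x ∈ CohB1.support ((Scheme.Modules.pullback (f.fiberι (f x))).obj F) ∧
          ∀ z ∈ CohB1.support ((Scheme.Modules.pullback (f.fiberι (f x))).obj F),
            z ⤳ f.asFiber x → z = f.asFiber x)) := by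
  have hιx : f.fiberι (f x) (f.asFiber x) = x := f.fiberι_asFiber x
  constructor
  · rintro ⟨hxT, hmax⟩
    obtain ⟨hxF, hyE⟩ := (mem_support_tensor_iff f E F hF x (hfl x)).1 hxT
    refine ⟨⟨hyE, fun w hw hwy => ?_⟩, ?_, fun z hz hzx => ?_⟩
    · obtain ⟨x₂, h21, hfx₂, hx₂F⟩ := exists_specializes_mem_support' f F hF x hxF (hfl x) w hwy
      have hx₂T : x₂ ∈ CohB1.support (CohB1.tensorMod ((Scheme.Modules.pullback f).obj E) F) := by
        rw [mem_support_tensor_iff f E F hF x₂ (hfl x₂), hfx₂]
        exact ⟨hx₂F, hw⟩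
      have := hmax x₂ hx₂T h21
      rw [← hfx₂, this]
    · rw [mem_support_fiber_iff f F hF, hιx]
      exact hxF
    · have hzF := (mem_support_fiber_iff f F hF (f x) z).1 hz
      have hfz : f (f.fiberι (f x) z) = f x := Groth.Agent.Lib.Helper10.FibStalk.fiberι_apply_eq f (f x) z
      have hzT : f.fiberι (f x) z ∈
          CohB1.support (CohB1.tensorMod ((Scheme.Modules.pullback f).obj E) F) := by
        rw [mem_support_tensor_iff f E F hF _ (hfl _), hfz]
        exact ⟨hzF, hyE⟩
      have hsp : f.fiberι (f x) z ⤳ x := by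
        have h0 := hzx.map (f.fiberι (f x)).continuous
        rwa [hιx] at h0
      have h3 := hmax _ hzT hsp
      apply (f.fiberι (f x)).isEmbedding.injective
      rw [h3, hιx]
  · rintro ⟨⟨hyE, hmaxE⟩, hzF, hmaxF⟩
    have hxF : x ∈ CohB1.support F := by
      have := (mem_support_fiber_iff f F hF (f x) (f.asFiber x)).1 hzF
      rwa [hιx] at this
    refine ⟨(mem_support_tensor_iff f E F hF x (hfl x)).2 ⟨hxF, hyE⟩, fun z hz hzx => ?_⟩
    obtain ⟨hzF', hzE⟩ := (mem_support_tensor_iff f E F hF z (hfl z)).1 hz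
    have hfz : f z = f x := hmaxE (f z) hzE (hzx.map f.continuous)
    obtain ⟨z', hz'⟩ : ∃ z' : f.fiber (f x), f.fiberι (f x) z' = z := by
      have h0 : z ∈ Set.range (f.fiberι (f x)) := by
        rw [f.range_fiberι]
        exact hfz
      exact h0
    have h1 : z' ∈ CohB1.support ((Scheme.Modules.pullback (f.fiberι (f x))).obj F) := by
      rw [mem_support_fiber_iff f F hF, hz']
      exact hzF'
    have h2 : z' ⤳ f.asFiber x := by
      rw [← (f.fiberι (f x)).isEmbedding.isInducing.specializes_iff, hz', hιx]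
      exact hzx
    have h3 := hmaxF z' h1 h2
    rw [← hz', h3, hιx]

end Geo

end Groth.Agent.Lib.T2H6.FlatSupp
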