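import Mathlib
import Groth.Agent.Lib.T2H6FlatSuppA
import Groth.Agent.Lib.Helper2PullbackSec3
import Groth.Agent.Lib.T2H4FFlatComp

/-!
# Flatness of `M ⊗ q^* G` over a further base (helper6)

* `flat_tensor_of_flat'`: `M` flat over `B`, `G` a `B`-module flat over `A` ⟹ `M ⊗[B] G` flat over `A`.
* `isFlatOverAt_tensor_comp`: for `q : X ⟶ Y`, `h : Y ⟶ Z`, `M` on `X` flat over `Y` at `x` and `G` on `Y` flat over `Z`
  at `q x`, the module `M ⊗ q^* G` is flat over `Z` at `x`.
-/

set_option autoImplicit false
set_option linter.style.haveILetI false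
set_option linter.unusedSectionVars false
universe u
open CategoryTheory CategoryTheory.Limits AlgebraicGeometry Opposite TopologicalSpace TensorProduct

namespace Groth.Agent.Lib.T2H6.FlatTensS

section Alg

variable (A B : Type u) [CommRing A] [CommRing B] [Algebra A B]
  (M : Type u) [AddCommGroup M] [Module B M] [Module A M] [IsScalarTower A B M] [Module.Flat B M]
  (G : Type u) [AddCommGroup G] [Module B G] [Module A G] [IsScalarTower A B G] [Module.Flat A G]

/-- `M ⊗_B G` is flat over `A` when `M` is flat over `B` and `G` is flat over `A`. -/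
theorem flat_tensor_of_flat' : Module.Flat A (M ⊗[B] G) := by
  rw [Module.Flat.iff_lTensor_preserves_injective_linearMap]
  intro N N' _ _ _ _ f hf
  have h1 : Function.Injective (f.lTensor G) :=
    Module.Flat.lTensor_preserves_injective_linearMap f hf
  let g : G ⊗[A] N →ₗ[B] G ⊗[A] N' := AlgebraTensorModule.lTensor B G f
  have hg : Function.Injective g := h1
  have h2 : Function.Injective (g.lTensor M) :=
    Module.Flat.lTensor_preserves_injective_linearMap g hg
  let e := AlgebraTensorModule.assoc A B B M G N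
  let e' := AlgebraTensorModule.assoc A B B M G N'
  have hnat : ∀ t, e' (f.lTensor (M ⊗[B] G) t) = g.lTensor M (e t) := by
    intro t
    induction t using TensorProduct.induction_on with
    | zero => simp
    | tmul x n =>
      induction x using TensorProduct.induction_on with
      | zero => simp
      | tmul s z => rfl
      | add x y hx hy => simp only [add_tmul, map_add, hx, hy]
    | add x y hx hy => simp only [map_add, hx, hy]
  intro a b hab
  apply e.injective
  apply h2
  rw [← hnat, ← hnat, hab]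

end Alg

section Geo

open Groth.Agent.Lib.Helper1.Sky Groth.Agent.Lib.Helper1.StalkTensor
open Groth.Agent.Lib.T2H8.StalkRestrict

variable {X Y Z : Scheme.{u}} (q : X ⟶ Y) (h : Y ⟶ Z)

theorem isFlatOverAt_tensor_comp (M : X.Modules) (G : Y.Modules) (x : X)
    (hM : FlatMod.IsFlatOverAt q M x) (hG : FlatMod.IsFlatOverAt h G (q x)) :
    FlatMod.IsFlatOverAt (q ≫ h) (CohB1.tensorMod M ((Scheme.Modules.pullback q).obj G)) x := by
  letI algBD : Algebra (Y.presheaf.stalk (q x)) (X.presheaf.stalk x) := (q.stalkMap x).hom.toAlgebra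
  letI algAB : Algebra (Z.presheaf.stalk (h (q x))) (Y.presheaf.stalk (q x)) :=
    (h.stalkMap (q x)).hom.toAlgebra
  letI modBM : Module (Y.presheaf.stalk (q x)) (M.presheaf.stalk x) := FlatMod.moduleStalkOver q M x
  letI modAM : Module (Z.presheaf.stalk (h (q x))) (M.presheaf.stalk x) :=
    FlatMod.moduleStalkOver (q ≫ h) M x
  letI modAG : Module (Z.presheaf.stalk (h (q x))) (G.presheaf.stalk (q x)) :=
    FlatMod.moduleStalkOver h G (q x)
  haveI towerBDM : IsScalarTower (Y.presheaf.stalk (q x)) (X.presheaf.stalk x) (M.presheaf.stalk x) :=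
    IsScalarTower.of_algebraMap_smul (fun a n => rfl)
  haveI : SMulCommClass (Y.presheaf.stalk (q x)) (X.presheaf.stalk x) (M.presheaf.stalk x) :=
    IsScalarTower.to_smulCommClass
  haveI towerABM : IsScalarTower (Z.presheaf.stalk (h (q x))) (Y.presheaf.stalk (q x))
      (M.presheaf.stalk x) := Groth.Agent.Lib.T2H4.FFlatComp.isScalarTower_stalk q h M x
  haveI towerABG : IsScalarTower (Z.presheaf.stalk (h (q x))) (Y.presheaf.stalk (q x))
      (G.presheaf.stalk (q x)) := IsScalarTower.of_algebraMap_smul (fun a n => rfl)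
  haveI : Module.Flat (Y.presheaf.stalk (q x)) (M.presheaf.stalk x) := hM
  haveI : Module.Flat (Z.presheaf.stalk (h (q x))) (G.presheaf.stalk (q x)) := hG
  let P := (Scheme.Modules.pullback q).obj G
  let e1 : (CohB1.tensorMod M P).presheaf.stalk x ≃ₗ[X.presheaf.stalk x]
      (M.presheaf.stalk x ⊗[X.presheaf.stalk x] P.presheaf.stalk x) :=
    Groth.Agent.Lib.T2H6.NegTwistD.stalkTensorEquiv M P x
  let N := (stalkFun (q x)).obj G
  let e2 : P.presheaf.stalk x ≃ₗ[X.presheaf.stalk x]
      (X.presheaf.stalk x ⊗[Y.presheaf.stalk (q x)] G.presheaf.stalk (q x)) :=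
    ((stalkPullbackIso q x).app G).toLinearEquiv ≪≫ₗ
      Groth.Agent.S2380.bridge (Y.presheaf.stalk (q x)) (X.presheaf.stalk x) N
  let e3 : (M.presheaf.stalk x ⊗[X.presheaf.stalk x] P.presheaf.stalk x) ≃ₗ[X.presheaf.stalk x]
      (M.presheaf.stalk x ⊗[Y.presheaf.stalk (q x)] G.presheaf.stalk (q x)) :=
    TensorProduct.congr (LinearEquiv.refl _ _) e2 ≪≫ₗ
      TensorProduct.AlgebraTensorModule.cancelBaseChange (Y.presheaf.stalk (q x)) (X.presheaf.stalk x)
        (X.presheaf.stalk x) (M.presheaf.stalk x) (G.presheaf.stalk (q x))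
  let e := e1 ≪≫ₗ e3
  have hflat : Module.Flat (Z.presheaf.stalk (h (q x)))
      (M.presheaf.stalk x ⊗[Y.presheaf.stalk (q x)] G.presheaf.stalk (q x)) :=
    flat_tensor_of_flat' _ _ _ _
  -- the two actions of `O_Z` on the tensor product agree
  have hact : ∀ (a : Z.presheaf.stalk (h (q x)))
      (z : M.presheaf.stalk x ⊗[Y.presheaf.stalk (q x)] G.presheaf.stalk (q x)),
      a • z = ((q ≫ h).stalkMap x).hom a • z := by
    intro a z
    induction z using TensorProduct.induction_on with
    | zero => rw [smul_zero, smul_zero]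
    | tmul m g => rfl
    | add z₁ z₂ h₁ h₂ => rw [smul_add, smul_add, h₁, h₂]
  letI modAT : Module (Z.presheaf.stalk (h (q x))) ((CohB1.tensorMod M P).presheaf.stalk x) :=
    FlatMod.moduleStalkOver (q ≫ h) (CohB1.tensorMod M P) x
  let eA : ((CohB1.tensorMod M P).presheaf.stalk x) ≃ₗ[Z.presheaf.stalk (h (q x))]
      (M.presheaf.stalk x ⊗[Y.presheaf.stalk (q x)] G.presheaf.stalk (q x)) :=
    { e.toAddEquiv with
      map_smul' := fun a t => by
        show e (((q ≫ h).stalkMap x).hom a • t) = a • e t
        rw [e.map_smul, hact] }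
  have hfin : Module.Flat (Z.presheaf.stalk (h (q x))) ((CohB1.tensorMod M P).presheaf.stalk x) :=
    Module.Flat.of_linearEquiv eA
  exact hfin

end Geo

end Groth.Agent.Lib.T2H6.FlatTensS
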