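import Mathlib
import Groth.Agent.Lib.T2H6FlatTensS

/-!
# Base change of fibres and modules on them (helper6)

For a cartesian square `P → X`, `P → Y` over `Z` and `y : Y`, the induced map of fibres `snd⁻¹(y) → f⁻¹(g y)` is a base
change of `Spec κ(y) → Spec κ(g y)`, hence flat and surjective.
-/

set_option autoImplicit false
set_option linter.style.haveILetI false
set_option linter.unusedSectionVars false
universe u
open CategoryTheory CategoryTheory.Limits AlgebraicGeometry Opposite TopologicalSpace TensorProduct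

namespace Groth.Agent.Lib.T2H6.FibBC

section Map

variable {P X Y Z : Scheme.{u}} {fst : P ⟶ X} {snd : P ⟶ Y} {f : X ⟶ Z} {g : Y ⟶ Z}
  (h : IsPullback fst snd f g) (y : Y)

/-- the map of fibres induced by a cartesian square. -/
noncomputable def fibMap : snd.fiber y ⟶ f.fiber (g y) :=
  pullback.map _ _ _ _ fst (Spec.map (g.residueFieldMap y)) g h.w.symm (by simp)

theorem fibMap_fiberι : fibMap h y ≫ f.fiberι (g y) = snd.fiberι y ≫ fst := by
  unfold fibMap Scheme.Hom.fiberι
  exact pullback.lift_fst _ _ _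

theorem isPullback_fibMap :
    IsPullback (fibMap h y) (snd.fiberToSpecResidueField y) (f.fiberToSpecResidueField (g y))
      (Spec.map (g.residueFieldMap y)) :=
  isPullback_fiberToSpecResidueField_of_isPullback h y

theorem flat_SpecMap_residueFieldMap : Flat (Spec.map (g.residueFieldMap y)) := by
  rw [Flat.SpecMap_iff]
  letI := (g.residueFieldMap y).hom.toAlgebra
  show Module.Flat (Z.residueField (g y)) (Y.residueField y)
  infer_instance

theorem surjective_SpecMap_residueFieldMap : Surjective (Spec.map (g.residueFieldMap y)) := by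
  refine ⟨fun z => ?_⟩
  exact ⟨IsLocalRing.closedPoint (Y.residueField y),
    Subsingleton.elim (α := PrimeSpectrum (Z.residueField (g y))) _ _⟩

theorem flat_fibMap : Flat (fibMap h y) :=
  MorphismProperty.of_isPullback (P := @Flat) (isPullback_fibMap h y).flip
    (flat_SpecMap_residueFieldMap y)

theorem surjective_fibMap : Surjective (fibMap h y) :=
  MorphismProperty.of_isPullback (P := @Surjective) (isPullback_fibMap h y).flip
    (surjective_SpecMap_residueFieldMap y)

end Map

section Mod

open Groth.Agent.Lib.Helper1.Sky Groth.Agent.Lib.Helper1.StalkTensor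
open Groth.Agent.Lib.T2H8.StalkRestrict IsLocalRing

/-- the stalk of a pullback along a morphism flat at `t` is nonzero if the stalk at the image is. -/
theorem nontrivial_stalk_pullback_of_flat {T W : Scheme.{u}} (r : T ⟶ W) (H : W.Modules) (t : T)
    (hfl : (r.stalkMap t).hom.Flat) (hnt : Nontrivial (H.presheaf.stalk (r t))) :
    Nontrivial (((Scheme.Modules.pullback r).obj H).presheaf.stalk t) := by
  letI alg : Algebra (W.presheaf.stalk (r t)) (T.presheaf.stalk t) := (r.stalkMap t).hom.toAlgebra
  haveI : IsLocalHom (algebraMap (W.presheaf.stalk (r t)) (T.presheaf.stalk t)) :=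
    inferInstanceAs (IsLocalHom (r.stalkMap t).hom)
  haveI : Module.Flat (W.presheaf.stalk (r t)) (T.presheaf.stalk t) := hfl
  haveI : Module.FaithfullyFlat (W.presheaf.stalk (r t)) (T.presheaf.stalk t) :=
    Module.FaithfullyFlat.of_flat_of_isLocalHom
  let N := (stalkFun (r t)).obj H
  let e : ((Scheme.Modules.pullback r).obj H).presheaf.stalk t ≃ₗ[T.presheaf.stalk t]
      (T.presheaf.stalk t ⊗[W.presheaf.stalk (r t)] H.presheaf.stalk (r t)) :=
    ((stalkPullbackIso r t).app H).toLinearEquiv ≪≫ₗ
      Groth.Agent.S2380.bridge (W.presheaf.stalk (r t)) (T.presheaf.stalk t) N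
  haveI : Nontrivial (T.presheaf.stalk t ⊗[W.presheaf.stalk (r t)] H.presheaf.stalk (r t)) :=
    Module.FaithfullyFlat.lTensor_nontrivial _ _ _
  exact e.toEquiv.nontrivial

variable {X Y : Scheme.{u}} (f : X ⟶ Y)

theorem exists_eq_one_tmul' {B O' : Type u} [CommRing B] [CommRing O'] [Algebra B O']
    (F : Type u) [AddCommGroup F] [Module B F]
    (hs : Function.Surjective (algebraMap B O')) (z : O' ⊗[B] F) :
    ∃ n : F, z = (1 : O') ⊗ₜ[B] n := by
  induction z using TensorProduct.induction_on with
  | zero => exact ⟨0, (TensorProduct.tmul_zero _ _).symm⟩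
  | tmul o n =>
    obtain ⟨b, rfl⟩ := hs o
    refine ⟨b • n, ?_⟩
    rw [TensorProduct.tmul_smul, TensorProduct.smul_tmul', Algebra.smul_def, mul_one]
  | add x y hx hy =>
    obtain ⟨n₁, rfl⟩ := hx
    obtain ⟨n₂, rfl⟩ := hy
    exact ⟨n₁ + n₂, (TensorProduct.tmul_add _ _ _).symm⟩

theorem one_tmul_eq_zero_of_mem' {B O' : Type u} [CommRing B] [CommRing O'] [Algebra B O']
    (F : Type u) [AddCommGroup F] [Module B F] (n : F)
    (hn : n ∈ (RingHom.ker (algebraMap B O') • ⊤ : Submodule B F)) : (1 : O') ⊗ₜ[B] n = 0 := by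
  refine Submodule.smul_induction_on hn (fun j hj m _ => ?_) (fun x y hx hy => ?_)
  · rw [TensorProduct.tmul_smul, TensorProduct.smul_tmul', Algebra.smul_def, mul_one,
      (RingHom.mem_ker).1 hj, TensorProduct.zero_tmul]
  · rw [TensorProduct.tmul_add, hx, hy, add_zero]

/-- the stalk of the fibre module is zero iff `F_x = m_y F_x` (no Noetherian or finiteness hypotheses). -/
theorem subsingleton_stalk_fiber_iff' (F : X.Modules) (y : Y) (z : f.fiber y) :
    Subsingleton (((Scheme.Modules.pullback (f.fiberι y)).obj F).presheaf.stalk z) ↔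
      ∀ n : F.presheaf.stalk (f.fiberι y z),
        n ∈ (Ideal.map (f.stalkMap (f.fiberι y z)).hom
          (maximalIdeal (Y.presheaf.stalk (f (f.fiberι y z)))) • ⊤ :
            Submodule (X.presheaf.stalk (f.fiberι y z)) (F.presheaf.stalk (f.fiberι y z))) := by
  letI alg : Algebra (X.presheaf.stalk (f.fiberι y z)) ((f.fiber y).presheaf.stalk z) :=
    ((f.fiberι y).stalkMap z).hom.toAlgebra
  have hs : Function.Surjective
      (algebraMap (X.presheaf.stalk (f.fiberι y z)) ((f.fiber y).presheaf.stalk z)) :=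
    (f.fiberι y).stalkMap_surjective z
  let N := (stalkFun (f.fiberι y z)).obj F
  let e : ((Scheme.Modules.pullback (f.fiberι y)).obj F).presheaf.stalk z ≃ₗ[(f.fiber y).presheaf.stalk z]
      ((f.fiber y).presheaf.stalk z ⊗[X.presheaf.stalk (f.fiberι y z)] F.presheaf.stalk (f.fiberι y z)) :=
    ((stalkPullbackIso (f.fiberι y) z).app F).toLinearEquiv ≪≫ₗ
      Groth.Agent.S2380.bridge (X.presheaf.stalk (f.fiberι y z)) ((f.fiber y).presheaf.stalk z) N
  have hker : RingHom.ker (algebraMap (X.presheaf.stalk (f.fiberι y z)) ((f.fiber y).presheaf.stalk z)) =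
      Ideal.map (f.stalkMap (f.fiberι y z)).hom
        (maximalIdeal (Y.presheaf.stalk (f (f.fiberι y z)))) :=
    Groth.Agent.Lib.Helper10.FibStalk.ker_eq_map f y z
  rw [← hker]
  constructor
  · intro h n
    exact Groth.Agent.Lib.Helper20.Nakayama.mem_smul_top_of_one_tmul_eq_zero _ _ hs _ n
      (e.symm.injective (Subsingleton.elim _ _))
  · intro h
    refine ⟨fun a b => e.injective ?_⟩
    obtain ⟨n₁, h₁⟩ := exists_eq_one_tmul' _ hs (e a)
    obtain ⟨n₂, h₂⟩ := exists_eq_one_tmul' _ hs (e b)
    rw [h₁, h₂, one_tmul_eq_zero_of_mem' _ n₁ (h n₁), one_tmul_eq_zero_of_mem' _ n₂ (h n₂)]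

/-- `m_y F_x ≠ F_x` in the form used in the statements (`moduleStalkOver`) is the non-vanishing of the stalk of the fibre
module. -/
theorem smul_top_ne_top_iff (F : X.Modules) (y : Y) (z : f.fiber y) :
    (letI := FlatMod.moduleStalkOver f F (f.fiberι y z);
      (maximalIdeal (Y.presheaf.stalk (f (f.fiberι y z))) •
        (⊤ : Submodule (Y.presheaf.stalk (f (f.fiberι y z))) (F.presheaf.stalk (f.fiberι y z))) ≠ ⊤)) ↔
      Nontrivial (((Scheme.Modules.pullback (f.fiberι y)).obj F).presheaf.stalk z) := by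
  letI alg : Algebra (Y.presheaf.stalk (f (f.fiberι y z))) (X.presheaf.stalk (f.fiberι y z)) :=
    (f.stalkMap (f.fiberι y z)).hom.toAlgebra
  letI mod : Module (Y.presheaf.stalk (f (f.fiberι y z))) (F.presheaf.stalk (f.fiberι y z)) :=
    FlatMod.moduleStalkOver f F (f.fiberι y z)
  haveI tower : IsScalarTower (Y.presheaf.stalk (f (f.fiberι y z))) (X.presheaf.stalk (f.fiberι y z))
      (F.presheaf.stalk (f.fiberι y z)) := IsScalarTower.of_algebraMap_smul (fun a n => rfl)
  rw [← not_subsingleton_iff_nontrivial, subsingleton_stalk_fiber_iff', not_iff_not]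
  constructor
  · intro h n
    have h1 : n ∈ (maximalIdeal (Y.presheaf.stalk (f (f.fiberι y z))) • ⊤ :
        Submodule (Y.presheaf.stalk (f (f.fiberι y z))) (F.presheaf.stalk (f.fiberι y z))) := by
      rw [h]
      exact Submodule.mem_top
    exact (Groth.Agent.Lib.T2H6.FlatAss.mem_smul_top_iff_map
      (A := Y.presheaf.stalk (f (f.fiberι y z))) (B := X.presheaf.stalk (f.fiberι y z))
      (maximalIdeal (Y.presheaf.stalk (f (f.fiberι y z)))) n).1 h1
  · intro h
    rw [eq_top_iff]
    intro n _
    exact (Groth.Agent.Lib.T2H6.FlatAss.mem_smul_top_iff_map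
      (A := Y.presheaf.stalk (f (f.fiberι y z))) (B := X.presheaf.stalk (f.fiberι y z))
      (maximalIdeal (Y.presheaf.stalk (f (f.fiberι y z)))) n).2 (h n)

end Mod

section Main

open Groth.Agent.Lib.T2H8.StalkRestrict IsLocalRing

variable {P X Y Z : Scheme.{u}} {fst : P ⟶ X} {snd : P ⟶ Y} {f : X ⟶ Z} {g : Y ⟶ Z}
  (h : IsPullback fst snd f g)

/-- the restriction of `fst^* F` to the fibre of `snd` over `y` is the pullback along `fibMap` of the restriction of `F`
to the fibre of `f` over `g y`. -/
noncomputable def fibPullbackIso (F : X.Modules) (y : Y) :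
    (Scheme.Modules.pullback (snd.fiberι y)).obj ((Scheme.Modules.pullback fst).obj F) ≅
      (Scheme.Modules.pullback (fibMap h y)).obj ((Scheme.Modules.pullback (f.fiberι (g y))).obj F) :=
  (Scheme.Modules.pullbackComp (snd.fiberι y) fst).app F ≪≫
    (Scheme.Modules.pullbackCongr (fibMap_fiberι h y).symm).app F ≪≫
    ((Scheme.Modules.pullbackComp (fibMap h y) (f.fiberι (g y))).app F).symm

include h in
/-- fibrewise non-vanishing is stable under base change. -/
theorem exists_fiber_nonvanishing (F : X.Modules) (y : Y) (x : X) (hx : f x = g y)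
    (hne : letI := FlatMod.moduleStalkOver f F x
      maximalIdeal (Z.presheaf.stalk (f x)) •
        (⊤ : Submodule (Z.presheaf.stalk (f x)) (F.presheaf.stalk x)) ≠ ⊤) :
    ∃ p : P, snd p = y ∧
      letI := FlatMod.moduleStalkOver snd ((Scheme.Modules.pullback fst).obj F) p
      maximalIdeal (Y.presheaf.stalk (snd p)) •
        (⊤ : Submodule (Y.presheaf.stalk (snd p))
          (((Scheme.Modules.pullback fst).obj F).presheaf.stalk p)) ≠ ⊤ := by
  obtain ⟨z, hz⟩ : ∃ z : f.fiber (g y), f.fiberι (g y) z = x := by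
    have h0 : x ∈ Set.range (f.fiberι (g y)) := by
      rw [f.range_fiberι]
      exact hx
    exact h0
  subst hz
  have hH := (smul_top_ne_top_iff f F (g y) z).1 hne
  obtain ⟨t, ht⟩ := (surjective_fibMap h y).surj z
  subst ht
  haveI := flat_fibMap h y
  have hfl := Flat.stalkMap (fibMap h y) t
  have h2 := nontrivial_stalk_pullback_of_flat (fibMap h y)
    ((Scheme.Modules.pullback (f.fiberι (g y))).obj F) t hfl hH
  have h3 : Nontrivial (((Scheme.Modules.pullback (snd.fiberι y)).obj
      ((Scheme.Modules.pullback fst).obj F)).presheaf.stalk t) :=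
    (stalkEquivOfIso (fibPullbackIso h F y) t).toEquiv.nontrivial
  exact ⟨snd.fiberι y t, Groth.Agent.Lib.Helper10.FibStalk.fiberι_apply_eq snd y t,
    (smul_top_ne_top_iff snd _ y t).2 h3⟩

end Main

end Groth.Agent.Lib.T2H6.FibBC
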