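import Mathlib
import Groth.Agent.Lib.T2H6FibBC

/-!
# Descent of flatness and of fibrewise non-vanishing through a faithfully flat tensor factor (helper6)

`A → B` rings, `M` a `B`-module faithfully flat over `B`, `G` a `B`-module.  Then `M ⊗[B] G` is flat over `A` iff `G` is,
and `m (M ⊗[B] G) = M ⊗[B] G` iff `m G = G` for an ideal `m` of `A`.  Scheme versions for `M ⊗ q^* G`.
-/

set_option autoImplicit false
set_option linter.style.haveILetI false
set_option linter.unusedSectionVars false
universe u
open CategoryTheory CategoryTheory.Limits AlgebraicGeometry Opposite TopologicalSpace TensorProduct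

namespace Groth.Agent.Lib.T2H6.FlatTensT

section Alg

variable (A B : Type u) [CommRing A] [CommRing B] [Algebra A B]
  (M : Type u) [AddCommGroup M] [Module B M] [Module A M] [IsScalarTower A B M]
  (G : Type u) [AddCommGroup G] [Module B G] [Module A G] [IsScalarTower A B G]

/-- descent of flatness through a faithfully flat tensor factor. -/
theorem flat_of_flat_tensor [Module.FaithfullyFlat B M] (hT : Module.Flat A (M ⊗[B] G)) :
    Module.Flat A G := by
  rw [Module.Flat.iff_lTensor_preserves_injective_linearMap]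
  intro N N' _ _ _ _ f hf
  have h1 : Function.Injective (f.lTensor (M ⊗[B] G)) :=
    Module.Flat.lTensor_preserves_injective_linearMap f hf
  let g : G ⊗[A] N →ₗ[B] G ⊗[A] N' := AlgebraTensorModule.lTensor B G f
  let e := AlgebraTensorModule.assoc A B B M G N
  let e' := AlgebraTensorModule.assoc A B B M G N'
  have hnat : ∀ t, e' (f.lTensor (M ⊗[B] G) t) = g.lTensor M (e t) := by
    intro t
    induction t using TensorProduct.induction_on with
    | zero => simp
    | tmul x n =>
      induction x using TensorProduct.induction_on with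
      | zero => simp
      | tmul s z => rfl
      | add x y hx hy => simp only [add_tmul, map_add, hx, hy]
    | add x y hx hy => simp only [map_add, hx, hy]
  have h2 : Function.Injective (g.lTensor M) := by
    intro a b hab
    obtain ⟨a', rfl⟩ := e.surjective a
    obtain ⟨b', rfl⟩ := e.surjective b
    rw [← hnat, ← hnat] at hab
    rw [h1 (e'.injective hab)]
  have h3 : Function.Injective g := (Module.FaithfullyFlat.lTensor_injective_iff_injective B M g).1 h2
  exact h3

omit [Module A M] [IsScalarTower A B M] in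
theorem tmul_mem_smul_top (m : Ideal A) (x : M) (g : G) (hg : g ∈ (m • ⊤ : Submodule A G)) :
    x ⊗ₜ[B] g ∈ (m.map (algebraMap A B) • ⊤ : Submodule B (M ⊗[B] G)) := by
  refine Submodule.smul_induction_on hg (fun a ha g' _ => ?_) (fun g₁ g₂ h₁ h₂ => ?_)
  · rw [← algebraMap_smul B a g', TensorProduct.tmul_smul]
    exact Submodule.smul_mem_smul (Ideal.mem_map_of_mem _ ha) Submodule.mem_top
  · rw [TensorProduct.tmul_add]
    exact add_mem h₁ h₂

omit [Module A M] [IsScalarTower A B M] in
/-- `m G = G` implies `m (M ⊗ G) = M ⊗ G`. -/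
theorem smul_top_tensor_eq_top_of (m : Ideal A) (hG : (m • ⊤ : Submodule A G) = ⊤) :
    (m.map (algebraMap A B) • ⊤ : Submodule B (M ⊗[B] G)) = ⊤ := by
  rw [eq_top_iff]
  intro z _
  induction z using TensorProduct.induction_on with
  | zero => exact zero_mem _
  | tmul x g =>
    refine tmul_mem_smul_top A B M G m x g ?_
    rw [hG]
    exact Submodule.mem_top
  | add z₁ z₂ h₁ h₂ => exact add_mem (h₁ Submodule.mem_top) (h₂ Submodule.mem_top)

omit [Module A M] [IsScalarTower A B M] in
/-- `m (M ⊗ G) = M ⊗ G` implies `m G = G` for `M` faithfully flat. -/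
theorem smul_top_eq_top_of_tensor [Module.FaithfullyFlat B M] (m : Ideal A)
    (hT : (m.map (algebraMap A B) • ⊤ : Submodule B (M ⊗[B] G)) = ⊤) :
    (m • ⊤ : Submodule A G) = ⊤ := by
  set J : Submodule B G := (m.map (algebraMap A B) • ⊤ : Submodule B G) with hJ
  have hsub : Subsingleton (M ⊗[B] (G ⧸ J)) := by
    refine ⟨fun a b => ?_⟩
    have kill : ∀ b ∈ m.map (algebraMap A B), ∀ w' : M ⊗[B] G,
        b • (LinearMap.lTensor M J.mkQ) w' = 0 := by
      intro b hb w'
      induction w' using TensorProduct.induction_on with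
      | zero => rw [map_zero, smul_zero]
      | tmul x g =>
        rw [LinearMap.lTensor_tmul, TensorProduct.smul_tmul', TensorProduct.smul_tmul,
          Submodule.mkQ_apply, ← Submodule.Quotient.mk_smul,
          (Submodule.Quotient.mk_eq_zero J).2 (Submodule.smul_mem_smul hb Submodule.mem_top),
          TensorProduct.tmul_zero]
      | add w₁ w₂ h₁ h₂ => rw [map_add, smul_add, h₁, h₂, add_zero]
    have key : ∀ z : M ⊗[B] (G ⧸ J), z = 0 := by
      intro z
      obtain ⟨w, rfl⟩ := LinearMap.lTensor_surjective M (Submodule.mkQ_surjective J) z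
      have hw : w ∈ (m.map (algebraMap A B) • ⊤ : Submodule B (M ⊗[B] G)) := by
        rw [hT]
        exact Submodule.mem_top
      refine Submodule.smul_induction_on hw (fun b hb w' _ => ?_) (fun w₁ w₂ h₁ h₂ => ?_)
      · rw [map_smul]
        exact kill b hb w'
      · rw [map_add, h₁, h₂, add_zero]
    rw [key a, key b]
  haveI := Module.FaithfullyFlat.lTensor_reflects_triviality B M (G ⧸ J)
  rw [eq_top_iff]
  intro g _
  rw [Groth.Agent.Lib.T2H6.FlatAss.mem_smul_top_iff_map (B := B), ← hJ, ← Submodule.Quotient.mk_eq_zero]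
  exact Subsingleton.elim _ _

end Alg

section Geo

open Groth.Agent.Lib.Helper1.Sky Groth.Agent.Lib.Helper1.StalkTensor
open Groth.Agent.Lib.T2H8.StalkRestrict IsLocalRing

variable {X Y Z : Scheme.{u}} (q : X ⟶ Y) (h : Y ⟶ Z)

theorem tensor_comp_aux (M : X.Modules) (G : Y.Modules) (x : X) :
    ((letI := FlatMod.moduleStalkOver (q ≫ h) (CohB1.tensorMod M ((Scheme.Modules.pullback q).obj G)) x;
        (maximalIdeal (Z.presheaf.stalk ((q ≫ h) x)) •
          (⊤ : Submodule (Z.presheaf.stalk ((q ≫ h) x))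
            ((CohB1.tensorMod M ((Scheme.Modules.pullback q).obj G)).presheaf.stalk x)) ≠ ⊤)) →
      (letI := FlatMod.moduleStalkOver h G (q x);
        (maximalIdeal (Z.presheaf.stalk (h (q x))) •
          (⊤ : Submodule (Z.presheaf.stalk (h (q x))) (G.presheaf.stalk (q x))) ≠ ⊤))) ∧
    (FlatMod.IsFlatOverAt q M x →
      (letI := FlatMod.moduleStalkOver q M x;
        (maximalIdeal (Y.presheaf.stalk (q x)) •
          (⊤ : Submodule (Y.presheaf.stalk (q x)) (M.presheaf.stalk x)) ≠ ⊤)) →
      ((letI := FlatMod.moduleStalkOver h G (q x);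
        (maximalIdeal (Z.presheaf.stalk (h (q x))) •
          (⊤ : Submodule (Z.presheaf.stalk (h (q x))) (G.presheaf.stalk (q x))) ≠ ⊤)) →
        (letI := FlatMod.moduleStalkOver (q ≫ h) (CohB1.tensorMod M ((Scheme.Modules.pullback q).obj G)) x;
          (maximalIdeal (Z.presheaf.stalk ((q ≫ h) x)) •
            (⊤ : Submodule (Z.presheaf.stalk ((q ≫ h) x))
              ((CohB1.tensorMod M ((Scheme.Modules.pullback q).obj G)).presheaf.stalk x)) ≠ ⊤))) ∧
      (FlatMod.IsFlatOverAt (q ≫ h) (CohB1.tensorMod M ((Scheme.Modules.pullback q).obj G)) x →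
        FlatMod.IsFlatOverAt h G (q x))) := by
  letI algBD : Algebra (Y.presheaf.stalk (q x)) (X.presheaf.stalk x) := (q.stalkMap x).hom.toAlgebra
  letI algAB : Algebra (Z.presheaf.stalk (h (q x))) (Y.presheaf.stalk (q x)) :=
    (h.stalkMap (q x)).hom.toAlgebra
  letI modBM : Module (Y.presheaf.stalk (q x)) (M.presheaf.stalk x) := FlatMod.moduleStalkOver q M x
  letI modAM : Module (Z.presheaf.stalk (h (q x))) (M.presheaf.stalk x) :=
    FlatMod.moduleStalkOver (q ≫ h) M x
  letI modAG : Module (Z.presheaf.stalk (h (q x))) (G.presheaf.stalk (q x)) :=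
    FlatMod.moduleStalkOver h G (q x)
  haveI towerBDM : IsScalarTower (Y.presheaf.stalk (q x)) (X.presheaf.stalk x) (M.presheaf.stalk x) :=
    IsScalarTower.of_algebraMap_smul (fun a n => rfl)
  haveI : SMulCommClass (Y.presheaf.stalk (q x)) (X.presheaf.stalk x) (M.presheaf.stalk x) :=
    IsScalarTower.to_smulCommClass
  haveI towerABM : IsScalarTower (Z.presheaf.stalk (h (q x))) (Y.presheaf.stalk (q x))
      (M.presheaf.stalk x) := Groth.Agent.Lib.T2H4.FFlatComp.isScalarTower_stalk q h M x
  haveI towerABG : IsScalarTower (Z.presheaf.stalk (h (q x))) (Y.presheaf.stalk (q x))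
      (G.presheaf.stalk (q x)) := IsScalarTower.of_algebraMap_smul (fun a n => rfl)
  let P := (Scheme.Modules.pullback q).obj G
  let e1 : (CohB1.tensorMod M P).presheaf.stalk x ≃ₗ[X.presheaf.stalk x]
      (M.presheaf.stalk x ⊗[X.presheaf.stalk x] P.presheaf.stalk x) :=
    Groth.Agent.Lib.T2H6.NegTwistD.stalkTensorEquiv M P x
  let N := (stalkFun (q x)).obj G
  let e2 : P.presheaf.stalk x ≃ₗ[X.presheaf.stalk x]
      (X.presheaf.stalk x ⊗[Y.presheaf.stalk (q x)] G.presheaf.stalk (q x)) :=
    ((stalkPullbackIso q x).app G).toLinearEquiv ≪≫ₗ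
      Groth.Agent.S2380.bridge (Y.presheaf.stalk (q x)) (X.presheaf.stalk x) N
  let e3 : (M.presheaf.stalk x ⊗[X.presheaf.stalk x] P.presheaf.stalk x) ≃ₗ[X.presheaf.stalk x]
      (M.presheaf.stalk x ⊗[Y.presheaf.stalk (q x)] G.presheaf.stalk (q x)) :=
    TensorProduct.congr (LinearEquiv.refl _ _) e2 ≪≫ₗ
      TensorProduct.AlgebraTensorModule.cancelBaseChange (Y.presheaf.stalk (q x)) (X.presheaf.stalk x)
        (X.presheaf.stalk x) (M.presheaf.stalk x) (G.presheaf.stalk (q x))
  let e := e1 ≪≫ₗ e3
  have hact : ∀ (a : Z.presheaf.stalk (h (q x)))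
      (z : M.presheaf.stalk x ⊗[Y.presheaf.stalk (q x)] G.presheaf.stalk (q x)),
      a • z = ((q ≫ h).stalkMap x).hom a • z := by
    intro a z
    induction z using TensorProduct.induction_on with
    | zero => rw [smul_zero, smul_zero]
    | tmul m g => rfl
    | add z₁ z₂ h₁ h₂ => rw [smul_add, smul_add, h₁, h₂]
  letI modAT : Module (Z.presheaf.stalk (h (q x))) ((CohB1.tensorMod M P).presheaf.stalk x) :=
    FlatMod.moduleStalkOver (q ≫ h) (CohB1.tensorMod M P) x
  let eA : ((CohB1.tensorMod M P).presheaf.stalk x) ≃ₗ[Z.presheaf.stalk (h (q x))]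
      (M.presheaf.stalk x ⊗[Y.presheaf.stalk (q x)] G.presheaf.stalk (q x)) :=
    { e.toAddEquiv with
      map_smul' := fun a t => by
        show e (((q ≫ h).stalkMap x).hom a • t) = a • e t
        rw [e.map_smul, hact] }
  -- transfer of `m • ⊤ = ⊤` along `eA`
  have htr : (maximalIdeal (Z.presheaf.stalk (h (q x))) •
        (⊤ : Submodule (Z.presheaf.stalk (h (q x))) ((CohB1.tensorMod M P).presheaf.stalk x)) = ⊤) ↔
      ((maximalIdeal (Z.presheaf.stalk (h (q x)))).map
        (algebraMap (Z.presheaf.stalk (h (q x))) (Y.presheaf.stalk (q x))) •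
        (⊤ : Submodule (Y.presheaf.stalk (q x))
          (M.presheaf.stalk x ⊗[Y.presheaf.stalk (q x)] G.presheaf.stalk (q x))) = ⊤) := by
    constructor
    · intro h0
      rw [eq_top_iff]
      intro z _
      rw [← Groth.Agent.Lib.T2H6.FlatAss.mem_smul_top_iff_map (A := Z.presheaf.stalk (h (q x)))]
      have h1 : eA.symm z ∈ (maximalIdeal (Z.presheaf.stalk (h (q x))) •
          (⊤ : Submodule (Z.presheaf.stalk (h (q x))) ((CohB1.tensorMod M P).presheaf.stalk x))) := by
        rw [h0]
        exact Submodule.mem_top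
      have h2 := Submodule.mem_map_of_mem (f := eA.toLinearMap) h1
      rw [Submodule.map_smul'', Submodule.map_top, LinearEquiv.range] at h2
      simpa using h2
    · intro h0
      rw [eq_top_iff]
      intro t _
      have h1 : eA t ∈ (maximalIdeal (Z.presheaf.stalk (h (q x))) •
          (⊤ : Submodule (Z.presheaf.stalk (h (q x)))
            (M.presheaf.stalk x ⊗[Y.presheaf.stalk (q x)] G.presheaf.stalk (q x)))) := by
        rw [Groth.Agent.Lib.T2H6.FlatAss.mem_smul_top_iff_map (B := Y.presheaf.stalk (q x)), h0]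
        exact Submodule.mem_top
      have h2 := Submodule.mem_map_of_mem (f := eA.symm.toLinearMap) h1
      rw [Submodule.map_smul'', Submodule.map_top, LinearEquiv.range] at h2
      simpa using h2
  refine ⟨fun hT hG => hT (htr.2 (smul_top_tensor_eq_top_of _ _ _ _ _ hG)), fun hM hMne => ?_⟩
  haveI : Module.Flat (Y.presheaf.stalk (q x)) (M.presheaf.stalk x) := hM
  haveI : Module.FaithfullyFlat (Y.presheaf.stalk (q x)) (M.presheaf.stalk x) :=
    ⟨fun m hm => by rw [IsLocalRing.eq_maximalIdeal hm]; exact hMne⟩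
  refine ⟨fun hG hT => hG (smul_top_eq_top_of_tensor _ _ _ _ _ (htr.1 hT)), fun hT => ?_⟩
  have hT' : Module.Flat (Z.presheaf.stalk (h (q x))) ((CohB1.tensorMod M P).presheaf.stalk x) := hT
  have hQ : Module.Flat (Z.presheaf.stalk (h (q x)))
      (M.presheaf.stalk x ⊗[Y.presheaf.stalk (q x)] G.presheaf.stalk (q x)) :=
    Module.Flat.of_linearEquiv eA.symm
  exact flat_of_flat_tensor _ _ _ _ hQ

end Geo

end Groth.Agent.Lib.T2H6.FlatTensT
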