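import Mathlib
import Groth.Agent.Lib.T2H6FlatTensT
import Groth.Agent.Lib.Helper23UnitStalk

/-!
# Associated points of `F ⊗_S G` on a fibre product (helper6)

* `isAssPoint_of_pullback_flat`: for `r` flat at `t`, `t ∈ Ass (r^* H) → r t ∈ Ass H`.
* `isAssPoint_of_qx_of_base`: `g y ∈ Ass O_S`, `G` flat over `S` at `y`, `m_y ∈ Ass (G_y / m_{g y} G_y)` ⟹ `y ∈ Ass G`.
* `snd_mem_ass`: the second projection maps `Ass (F ⊗_S G)` into `Ass G` when `f (Ass F) ⊆ Ass O_S`, `G` flat over `S`.
-/

set_option autoImplicit false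
set_option linter.style.haveILetI false
set_option linter.unusedSectionVars false
universe u
open CategoryTheory CategoryTheory.Limits AlgebraicGeometry Opposite TopologicalSpace TensorProduct

namespace Groth.Agent.Lib.T2H6.AssFibProd

open Groth.Agent.Lib.Helper1.Sky Groth.Agent.Lib.Helper1.StalkTensor
open Groth.Agent.Lib.T2H8.StalkRestrict IsLocalRing
open Groth.Agent.Lib.T2H6.FlatAss Groth.Agent.Lib.T2H6.FibBC

theorem isAssPoint_of_pullback_flat {T W : Scheme.{u}} (r : T ⟶ W) (H : W.Modules) (t : T)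
    [IsNoetherianRing (T.presheaf.stalk t)] [IsNoetherianRing (W.presheaf.stalk (r t))]
    (hfl : (r.stalkMap t).hom.Flat)
    (hass : Curv2.IsAssPoint ((Scheme.Modules.pullback r).obj H) t) : Curv2.IsAssPoint H (r t) := by
  letI alg : Algebra (W.presheaf.stalk (r t)) (T.presheaf.stalk t) := (r.stalkMap t).hom.toAlgebra
  haveI : IsLocalHom (algebraMap (W.presheaf.stalk (r t)) (T.presheaf.stalk t)) :=
    inferInstanceAs (IsLocalHom (r.stalkMap t).hom)
  haveI : Module.Flat (W.presheaf.stalk (r t)) (T.presheaf.stalk t) := hfl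
  let N := (stalkFun (r t)).obj H
  let e : ((Scheme.Modules.pullback r).obj H).presheaf.stalk t ≃ₗ[T.presheaf.stalk t]
      (T.presheaf.stalk t ⊗[W.presheaf.stalk (r t)] H.presheaf.stalk (r t)) :=
    ((stalkPullbackIso r t).app H).toLinearEquiv ≪≫ₗ
      Groth.Agent.S2380.bridge (W.presheaf.stalk (r t)) (T.presheaf.stalk t) N
  have h1 : IsAssociatedPrime (maximalIdeal (T.presheaf.stalk t))
      (T.presheaf.stalk t ⊗[W.presheaf.stalk (r t)] H.presheaf.stalk (r t)) :=
    (LinearEquiv.isAssociatedPrime_iff e).1 hass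
  exact (of_isAssociatedPrime_tensor h1).1

theorem isAssPoint_of_qx_of_base {Y S : Scheme.{u}} [IsLocallyNoetherian Y] [IsLocallyNoetherian S]
    (g : Y ⟶ S) (G : Y.Modules) (y : Y) (hflat : FlatMod.IsFlatOverAt g G y)
    (hs : IsAssociatedPrime (maximalIdeal (S.presheaf.stalk (g y))) (S.presheaf.stalk (g y)))
    (hQ : Qx g G y) : Curv2.IsAssPoint G y := by
  letI alg : Algebra (S.presheaf.stalk (g y)) (Y.presheaf.stalk y) := (g.stalkMap y).hom.toAlgebra
  letI mod : Module (S.presheaf.stalk (g y)) (G.presheaf.stalk y) := FlatMod.moduleStalkOver g G y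
  haveI tower : IsScalarTower (S.presheaf.stalk (g y)) (Y.presheaf.stalk y) (G.presheaf.stalk y) :=
    IsScalarTower.of_algebraMap_smul (fun a n => rfl)
  haveI : SMulCommClass (S.presheaf.stalk (g y)) (Y.presheaf.stalk y) (G.presheaf.stalk y) :=
    IsScalarTower.to_smulCommClass
  haveI : IsLocalHom (algebraMap (S.presheaf.stalk (g y)) (Y.presheaf.stalk y)) :=
    inferInstanceAs (IsLocalHom (g.stalkMap y).hom)
  haveI : Module.Flat (S.presheaf.stalk (g y)) (G.presheaf.stalk y) := hflat
  have hQ' : Q (S.presheaf.stalk (g y)) (Y.presheaf.stalk y) (G.presheaf.stalk y) := q_iff_q'.2 hQ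
  have h1 : IsAssociatedPrime (maximalIdeal (Y.presheaf.stalk y))
      (G.presheaf.stalk y ⊗[S.presheaf.stalk (g y)] S.presheaf.stalk (g y)) :=
    isAssociatedPrime_tensor_of hs hQ'
  exact (LinearEquiv.isAssociatedPrime_iff
    (TensorProduct.AlgebraTensorModule.rid (S.presheaf.stalk (g y)) (Y.presheaf.stalk y)
      (G.presheaf.stalk y))).1 h1

section Main

variable {X Y S : Scheme.{u}} (f : X ⟶ S) (g : Y ⟶ S)

theorem isNoetherianRing_stalk_fiber {X Y : Scheme.{u}} [IsLocallyNoetherian X] (f : X ⟶ Y) (y : Y)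
    (z : f.fiber y) : IsNoetherianRing ((f.fiber y).presheaf.stalk z) :=
  isNoetherianRing_of_surjective _ _ ((f.fiberι y).stalkMap z).hom ((f.fiberι y).stalkMap_surjective z)

theorem snd_mem_ass [IsLocallyNoetherian X] [IsLocallyNoetherian Y] [IsLocallyNoetherian S]
    [IsLocallyNoetherian (pullback f g)]
    (F : X.Modules) (G : Y.Modules) [G.IsQuasicoherent] (hGfl : FlatMod.IsFlatOver g G)
    (hAss : ∀ x ∈ AssSch.Ass F, f x ∈ AssSch.Ass (Coh.structureModule S))
    (z : ↥(pullback f g))
    (hz : z ∈ AssSch.Ass (CohB1.tensorMod ((Scheme.Modules.pullback (pullback.fst f g)).obj F)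
      ((Scheme.Modules.pullback (pullback.snd f g)).obj G))) :
    pullback.snd f g z ∈ AssSch.Ass G := by
  have hc : IsPullback (pullback.snd f g) (pullback.fst f g) g f := (IsPullback.of_hasPullback f g).flip
  -- step 1: `q^* G` is flat over `X`
  have hflat : FlatMod.IsFlatOverAt (pullback.fst f g) ((Scheme.Modules.pullback (pullback.snd f g)).obj G) z :=
    Groth.Agent.Lib.Helper2.PullbackSec.isFlatOverAt_pullback_of_isPullback hc G z (hGfl _)
  obtain ⟨hxF, hQ⟩ := (isAssPoint_tensor_pullback_iff (pullback.fst f g) F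
    ((Scheme.Modules.pullback (pullback.snd f g)).obj G) z hflat).1 hz
  set x := pullback.fst f g z with hx
  -- step 2: a point of the fibre
  obtain ⟨zt, hzt⟩ := exists_fiber_point (pullback.fst f g) x z rfl
  have h2 : Curv2.IsAssPoint ((Scheme.Modules.pullback ((pullback.fst f g).fiberι x)).obj
      ((Scheme.Modules.pullback (pullback.snd f g)).obj G)) zt := by
    rw [isAssPoint_fiber_iff, hzt]
    exact hQ
  -- step 3: transport along the base change iso of the fibres
  have h3 : Curv2.IsAssPoint ((Scheme.Modules.pullback (fibMap hc x)).obj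
      ((Scheme.Modules.pullback (g.fiberι (f x))).obj G)) zt :=
    (LinearEquiv.isAssociatedPrime_iff (stalkEquivOfIso (fibPullbackIso hc G x) zt)).1 h2
  -- step 4: descend along the flat map of fibres
  haveI := isNoetherianRing_stalk_fiber (pullback.fst f g) x zt
  haveI := isNoetherianRing_stalk_fiber g (f x) (fibMap hc x zt)
  haveI := flat_fibMap hc x
  have h4 := isAssPoint_of_pullback_flat (fibMap hc x) ((Scheme.Modules.pullback (g.fiberι (f x))).obj G) zt
    (Flat.stalkMap (fibMap hc x) zt) h3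
  -- step 5: back to `Y`
  have h5 : Qx g G (g.fiberι (f x) (fibMap hc x zt)) := (isAssPoint_fiber_iff g G (f x) _).1 h4
  have hpt : g.fiberι (f x) (fibMap hc x zt) = pullback.snd f g z := by
    rw [← Scheme.Hom.comp_apply, fibMap_fiberι, Scheme.Hom.comp_apply, hzt]
  rw [hpt] at h5
  -- step 6
  have hgy : g (pullback.snd f g z) = f x := by
    rw [hx, ← Scheme.Hom.comp_apply, ← Scheme.Hom.comp_apply, pullback.condition]
  have hs : IsAssociatedPrime (maximalIdeal (S.presheaf.stalk (g (pullback.snd f g z))))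
      (S.presheaf.stalk (g (pullback.snd f g z))) := by
    rw [hgy]
    exact (Groth.Agent.Lib.Helper23.UnitStalk.isAssPoint_structureModule_iff (f x)).1 (hAss x hxF)
  exact isAssPoint_of_qx_of_base g G _ (hGfl _) hs h5

end Main

end Groth.Agent.Lib.T2H6.AssFibProd
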