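import Mathlib
import Groth.Agent.Lib.T2H6EmbPtF
import Groth.Agent.Lib.Helper20IdealModSec
import Groth.Agent.Lib.Helper23RestrJ
import Groth.Agent.Lib.Helper13PullbackUnit
import Groth.Agent.Lib.Helper20ZClos

/-!
# Associated points and local monomorphisms from `O_Z` (helper6)

`x` is an associated point of a quasi-coherent `F` on a locally Noetherian scheme iff, on a neighbourhood `U` of `x`,
there is a monomorphism `O_Z|_U ⟶ F|_U`, where `Z` is the reduced closed subscheme on `closure {x}`.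
-/

set_option autoImplicit false
set_option linter.style.haveILetI false
set_option linter.unusedSectionVars false
universe u
open CategoryTheory CategoryTheory.Limits AlgebraicGeometry Opposite TopologicalSpace

namespace Groth.Agent.Lib.T2H6.AssMono

open Groth.Agent.Lib.T2H6.EmbPt Groth.Agent.Lib.Helper23.RestrJ
open Groth.Agent.Lib.Helper2.QCoh

variable {X : Scheme.{u}} [IsLocallyNoetherian X]

/-- the ideal of `closure {x}` on an affine open containing `x` is the prime of `x`. -/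
theorem ideal_Ix_eq (x : X) {V : X.Opens} (hV : IsAffineOpen V) (hx : x ∈ V) :
    (Ix x).ideal ⟨V, hV⟩ = (hV.primeIdealOf ⟨x, hx⟩).asIdeal := by
  refine le_antisymm (ideal_Ix_le x hV hx) ?_
  intro a ha
  rw [Scheme.IdealSheafData.vanishingIdeal_ideal]
  refine (PrimeSpectrum.mem_vanishingIdeal _ _).2 fun q hq => ?_
  have hq' : hV.fromSpec q ∈ closure {x} := hq
  have h1 : x ⤳ hV.fromSpec q := specializes_iff_mem_closure.2 hq'
  have h0 : hV.fromSpec (hV.primeIdealOf ⟨x, hx⟩) = x := hV.fromSpec_primeIdealOf ⟨x, hx⟩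
  rw [← h0] at h1
  have h2 : hV.primeIdealOf ⟨x, hx⟩ ⤳ q :=
    (hV.fromSpec.isOpenEmbedding.isInducing.specializes_iff).1 h1
  exact (PrimeSpectrum.le_iff_specializes _ _).2 h2 ha

/-- the section `1` of `O_Z` over `V`. -/
noncomputable def one (I : X.IdealSheafData) (V : X.Opens) : Γ(ClSub.quotMod I, V) :=
  (ClSub.toSubscheme I).app V ((1 : Γ(X, V)) : Γ(Coh.structureModule X, V))

theorem smul_one_eq (I : X.IdealSheafData) (V : X.Opens) (a : Γ(X, V)) :
    a • one I V = (ClSub.toSubscheme I).app V (a : Γ(Coh.structureModule X, V)) := by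
  unfold one
  rw [← Scheme.Modules.Hom.app_smul]
  congr 1
  exact mul_one a

theorem smul_one_eq_zero_iff (I : X.IdealSheafData) (V : X.affineOpens) (a : Γ(X, V.1)) :
    a • one I V.1 = 0 ↔ a ∈ I.ideal V := by
  rw [smul_one_eq, Groth.Agent.Lib.Helper20.IdealModSec.toSubscheme_app, ← I.ker_subschemeι_app V]
  exact Iff.rfl

/-- a local monomorphism `O_Z|_U ⟶ F|_U` exhibits `x` as an associated point. -/
theorem isAssPoint_of_mono_restrict (F : X.Modules) [F.IsQuasicoherent] (x : X) (U : X.Opens) (hxU : x ∈ U)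
    (φ : (ClSub.quotMod (Ix x)).restrict U.ι ⟶ F.restrict U.ι) [Mono φ] : Curv2.IsAssPoint F x := by
  obtain ⟨V', hV', hx'⟩ := Groth.Agent.Lib.Helper20.ZClosLib.exists_affine_mem
    (X := (U : Scheme.{u})) ⟨x, hxU⟩
  have hV : IsAffineOpen (U.ι ''ᵁ V') := hV'.image_of_isOpenImmersion U.ι
  have hxV : x ∈ U.ι ''ᵁ V' := ⟨⟨x, hxU⟩, hx', rfl⟩
  haveI : IsNoetherianRing Γ(X, U.ι ''ᵁ V') := IsLocallyNoetherian.component_noetherian ⟨_, hV⟩
  rw [Groth.Agent.Lib.Helper23.AssAffine.isAssPoint_iff_mem_associatedPrimes hV F x hxV]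
  have hinj : Function.Injective (φ.app V') :=
    Groth.Agent.Lib.Helper20.StalkExact.injective_app_of_mono φ V'
  let t : Γ(F, U.ι ''ᵁ V') := φ.app V' (one (Ix x) (U.ι ''ᵁ V'))
  rw [AssociatedPrimes.mem_iff, isAssociatedPrime_iff]
  refine ⟨inferInstance, t, ?_⟩
  ext a
  rw [Submodule.mem_colon_singleton, Submodule.mem_bot, ← ideal_Ix_eq x hV hxV,
    ← smul_one_eq_zero_iff (Ix x) ⟨_, hV⟩ a]
  obtain ⟨r, rfl⟩ := (upf_bijective U.ι V').2 a
  have h1 : (upf U.ι V' r • t : Γ(F, U.ι ''ᵁ V')) =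
      φ.app V' (upf U.ι V' r • one (Ix x) (U.ι ''ᵁ V') : Γ(ClSub.quotMod (Ix x), U.ι ''ᵁ V')) :=
    (Scheme.Modules.Hom.app_smul φ r (one (Ix x) (U.ι ''ᵁ V'))).symm
  rw [h1]
  constructor
  · intro h
    exact (congrArg (φ.app V') h).trans (map_zero _)
  · intro h
    exact hinj (h.trans (map_zero _).symm)

section Stalk

open Groth.Agent.S8890 (ψ ψ_germ ψ_smul)

/-- for quasi-coherent modules, injectivity on the sections over an affine open gives injectivity on the
stalks at its points. -/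
theorem injective_ψ_of_injective_app {Y : Scheme.{u}} {U : Y.Opens} (hU : IsAffineOpen U) {H G : Y.Modules}
    [H.IsQuasicoherent] [G.IsQuasicoherent] (φ : H ⟶ G) (h : Function.Injective (φ.app U))
    (y : Y) (hy : y ∈ U) : Function.Injective (ψ φ y) := by
  rw [injective_iff_map_eq_zero]
  intro t ht
  obtain ⟨s, m, hys, hsm⟩ := exists_smul_eq_germ hU H y hy t
  have h1 : G.presheaf.germ U y hy (φ.app U m) = 0 := by
    rw [← ψ_germ φ y hy m, ← hsm, ψ_smul, ht, smul_zero]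
  obtain ⟨g, hyg, hg⟩ := exists_smul_eq_zero_of_germ_eq_zero hU G y hy (φ.app U m) h1
  have h2 : g • m = 0 := by
    apply h
    rw [Scheme.Modules.Hom.app_smul, hg, map_zero]
  have h3 : H.presheaf.germ U y hy m = 0 := by
    have h4 : Y.presheaf.germ U y hy g • H.presheaf.germ U y hy m = 0 := by
      rw [← germ_smul, h2, map_zero]
    exact germ_smul_eq_zero_of_isUnit ((Y.mem_basicOpen g y hy).1 hyg) h4
  rw [h3] at hsm
  exact germ_smul_eq_zero_of_isUnit ((Y.mem_basicOpen s y hy).1 hys) hsm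

/-- on an affine scheme, a morphism of quasi-coherent modules which is injective on global sections is a
monomorphism. -/
theorem mono_of_injective_app_top {Y : Scheme.{u}} [IsAffine Y] {H G : Y.Modules}
    [H.IsQuasicoherent] [G.IsQuasicoherent] (φ : H ⟶ G) (h : Function.Injective (φ.app ⊤)) : Mono φ := by
  rw [Groth.Agent.Lib.Helper20.ZClosLib.mono_iff_stalk_injective]
  intro y
  exact injective_ψ_of_injective_app (isAffineOpen_top Y) φ h y trivial

end Stalk

instance isQuasicoherent_quotMod (I : X.IdealSheafData) : (ClSub.quotMod I).IsQuasicoherent := by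
  haveI : (Coh.structureModule I.subscheme).IsQuasicoherent :=
    Groth.Agent.Lib.Helper20.OmegaAff.isQuasicoherent_structureModule
  exact Groth.Agent.Lib.Helper23.QCohLocal.isQuasicoherent_pushforward I.subschemeι _

/-- an associated point `x` of `F` has an affine neighbourhood `U` with a monomorphism `O_Z|_U ⟶ F|_U`. -/
theorem exists_mono_restrict (F : X.Modules) [F.IsQuasicoherent] (x : X) (hx : Curv2.IsAssPoint F x) :
    ∃ U : X.Opens, x ∈ U ∧ ∃ φ : (ClSub.quotMod (Ix x)).restrict U.ι ⟶ F.restrict U.ι, Mono φ := by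
  obtain ⟨V, hV, hxV⟩ := Groth.Agent.Lib.Helper20.ZClosLib.exists_affine_mem x
  refine ⟨V, hxV, ?_⟩
  haveI : IsAffine (V : Scheme.{u}) := hV
  have hW : IsAffineOpen (V.ι ''ᵁ ⊤) := (isAffineOpen_top (V : Scheme.{u})).image_of_isOpenImmersion V.ι
  have hxW : x ∈ V.ι ''ᵁ ⊤ := ⟨⟨x, hxV⟩, trivial, rfl⟩
  haveI : IsNoetherianRing Γ(X, V.ι ''ᵁ ⊤) := IsLocallyNoetherian.component_noetherian ⟨_, hW⟩
  have hass := (Groth.Agent.Lib.Helper23.AssAffine.isAssPoint_iff_mem_associatedPrimes hW F x hxW).1 hx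
  obtain ⟨hp, u, hu⟩ := isAssociatedPrime_iff.1 ((AssociatedPrimes.mem_iff).1 hass)
  haveI : ((ClSub.quotMod (Ix x)).restrict V.ι).IsQuasicoherent :=
    Scheme.Modules.isQuasicoherent_restrictFunctor V.ι _
  haveI : (F.restrict V.ι).IsQuasicoherent := Scheme.Modules.isQuasicoherent_restrictFunctor V.ι _
  -- the maps on sections
  let π : Γ(X, V.ι ''ᵁ ⊤) →+ Γ(ClSub.quotMod (Ix x), V.ι ''ᵁ ⊤) :=
    { toFun := fun a => a • one (Ix x) (V.ι ''ᵁ ⊤)
      map_zero' := zero_smul _ _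
      map_add' := fun a b => add_smul a b _ }
  have hπ : Function.Surjective π := by
    intro b
    obtain ⟨a, ha⟩ := (Ix x).subschemeι_app_surjective ⟨_, hW⟩ b
    refine ⟨a, ?_⟩
    show a • one (Ix x) (V.ι ''ᵁ ⊤) = b
    rw [smul_one_eq, Groth.Agent.Lib.Helper20.IdealModSec.toSubscheme_app]
    exact ha
  let g : Γ(X, V.ι ''ᵁ ⊤) →+ Γ(F, V.ι ''ᵁ ⊤) :=
    { toFun := fun a => a • u
      map_zero' := zero_smul _ _
      map_add' := fun a b => add_smul a b _ }
  have hmem : ∀ a : Γ(X, V.ι ''ᵁ ⊤), a • one (Ix x) (V.ι ''ᵁ ⊤) = 0 ↔ a • u = 0 := by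
    intro a
    rw [smul_one_eq_zero_iff (Ix x) ⟨_, hW⟩ a, ideal_Ix_eq x hW hxW, hu, Submodule.mem_colon_singleton,
      Submodule.mem_bot]
  have hker : π.ker ≤ g.ker := by
    intro a ha
    rw [AddMonoidHom.mem_ker] at ha ⊢
    exact (hmem a).1 ha
  let l : Γ((ClSub.quotMod (Ix x)).restrict V.ι, ⊤) →+ Γ(F.restrict V.ι, ⊤) :=
    AddMonoidHom.liftOfSurjective π hπ ⟨g, hker⟩
  have hlπ : ∀ a : Γ(X, V.ι ''ᵁ ⊤), l (a • one (Ix x) (V.ι ''ᵁ ⊤)) = a • u := fun a =>
    AddMonoidHom.liftOfRightInverse_comp_apply π _ (Function.rightInverse_surjInv hπ) ⟨g, hker⟩ a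
  have hl : ∀ (r : Γ((V : Scheme.{u}), ⊤)) (b : Γ((ClSub.quotMod (Ix x)).restrict V.ι, ⊤)),
      l (r • b) = r • l b := by
    intro r b
    obtain ⟨a, rfl⟩ := hπ b
    show l (upf V.ι ⊤ r • (a • one (Ix x) (V.ι ''ᵁ ⊤))) =
      (upf V.ι ⊤ r • (show Γ(F, V.ι ''ᵁ ⊤) from l (a • one (Ix x) (V.ι ''ᵁ ⊤))) : Γ(F, V.ι ''ᵁ ⊤))
    rw [smul_smul, hlπ, hlπ, smul_smul]
  have hG : ∀ W' : (V : Scheme.{u}).Opens, Function.Bijective ((F.restrict V.ι).presheaf.map
      (homOfLE ((isAffineOpen_top (V : Scheme.{u})).fromSpec.image_preimage_le W')).op) := by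
    intro W'
    refine Groth.Agent.Helper13PullbackUnit.map_bijective_of_eq _ ?_ _
    rw [Scheme.Hom.image_preimage_eq_opensRange_inf, (isAffineOpen_top (V : Scheme.{u})).opensRange_fromSpec,
      top_inf_eq]
  obtain ⟨φ, hφ⟩ := Groth.Agent.Helper13PullbackUnit.exists_hom_of_app (isAffineOpen_top (V : Scheme.{u}))
    ((ClSub.quotMod (Ix x)).restrict V.ι) (F.restrict V.ι) hG l hl
  refine ⟨φ, mono_of_injective_app_top φ ?_⟩
  rw [injective_iff_map_eq_zero]
  intro b hb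
  obtain ⟨a, rfl⟩ := hπ b
  have h1 : l (a • one (Ix x) (V.ι ''ᵁ ⊤)) = 0 := (hφ _).symm.trans hb
  rw [hlπ] at h1
  exact (hmem a).2 h1

end Groth.Agent.Lib.T2H6.AssMono
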