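import Mathlib
import Groth.Agent.Lib.T2H6FinBir
import Groth.Agent.Lib.T2H3NormSrcSchA
import Groth.Agent.Lib.T2H5RpushCoh
import Groth.Agent.Lib.T2H5LocMain
import Groth.Agent.Lib.T2H5Devissage
import Groth.Agent.Lib.T2H5GenIsoF
import Groth.Agent.Lib.Helper13AffBC
import Groth.Agent.Lib.Helper2Push
import Groth.Agent.Lib.T2H6ExtCmpB
set_option backward.isDefEq.respectTransparency.types false

/-!
# T2H6BirNormal (helper6): `O_Y ≅ π_* O_X` for a proper birational morphism onto a normal scheme

Namespace `Groth.Agent.Lib.T2H6.BirNormal`.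

* `surjective_of_integral_of_isIntegrallyClosed` : an injective integral ring map from a normal domain to a domain which
  is surjective after inverting a nonzero element is surjective.
* `bijective_app_of_normal` : `Γ(Y, V) → Γ(X, π⁻¹V)` is bijective for `V` affine, `π : X ⟶ Y` proper, `X` integral,
  `Y` integral normal locally Noetherian, `π` an isomorphism over a nonempty open.
* `isIso_unitToPush_of_normal` : `O_Y ⟶ π_* O_X` is an isomorphism.
-/

set_option autoImplicit false
set_option linter.style.haveILetI false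
universe u
open CategoryTheory CategoryTheory.Limits Opposite TopologicalSpace AlgebraicGeometry

namespace Groth.Agent.Lib.T2H6.BirNormal

/-- an injective integral ring map from a normal domain to a domain which becomes surjective after inverting a
nonzero element is surjective. -/
theorem surjective_of_integral_of_isIntegrallyClosed {A B : Type u} [CommRing A] [CommRing B]
    [IsDomain A] [IsIntegrallyClosed A] [IsDomain B] (φ : A →+* B) (hinj : Function.Injective φ)
    (hint : φ.IsIntegral) (f : A) (hf : f ≠ 0)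
    (h : ∀ b : B, ∃ (n : ℕ) (a : A), φ f ^ n * b = φ a) : Function.Surjective φ := by
  intro b
  obtain ⟨n, a, hna⟩ := h b
  let _ : Algebra A B := φ.toAlgebra
  let K := FractionRing A
  let L := FractionRing B
  have hAL : Function.Injective (algebraMap A L) := by
    rw [IsScalarTower.algebraMap_eq A B L]
    exact (IsFractionRing.injective B L).comp hinj
  let ψ : K →ₐ[A] L := IsFractionRing.liftAlgHom (g := IsScalarTower.toAlgHom A A L) hAL
  have hψinj : Function.Injective ψ := (ψ : K →+* L).injective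
  have hfK : algebraMap A K f ≠ 0 := by
    rw [Ne, map_eq_zero_iff _ (IsFractionRing.injective A K)]
    exact hf
  set t : K := algebraMap A K a / algebraMap A K f ^ n with ht
  have hψt : ψ t = algebraMap B L b := by
    have h1 : ψ t * algebraMap A L f ^ n = algebraMap A L a := by
      rw [ht]
      have : ψ (algebraMap A K a / algebraMap A K f ^ n) * ψ (algebraMap A K f) ^ n =
          ψ (algebraMap A K a) := by
        rw [← map_pow ψ, ← map_mul ψ, div_mul_cancel₀ _ (pow_ne_zero n hfK)]
      rwa [AlgHom.commutes, AlgHom.commutes] at this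
    have h2 : algebraMap B L b * algebraMap A L f ^ n = algebraMap A L a := by
      rw [IsScalarTower.algebraMap_eq A B L, RingHom.comp_apply, RingHom.comp_apply, ← map_pow,
        ← map_mul]
      congr 1
      rw [mul_comm]
      exact hna
    have hfL : algebraMap A L f ^ n ≠ 0 := by
      apply pow_ne_zero
      rw [Ne, map_eq_zero_iff _ hAL]
      exact hf
    exact mul_right_cancel₀ hfL (h1.trans h2.symm)
  have hb : IsIntegral A b := hint b
  have hbint : IsIntegral A (algebraMap B L b) := hb.map (IsScalarTower.toAlgHom A B L)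
  have htint : IsIntegral A t := by
    rw [← isIntegral_algHom_iff ψ hψinj, hψt]
    exact hbint
  obtain ⟨a', ha'⟩ := IsIntegrallyClosed.isIntegral_iff.1 htint
  refine ⟨a', ?_⟩
  apply IsFractionRing.injective B L
  rw [← hψt, ← ha', AlgHom.commutes, IsScalarTower.algebraMap_eq A B L]
  rfl


variable {X Y : Scheme.{u}} (π : X ⟶ Y)

/-- sections of the direct image of the structure sheaf over an affine open are finite over the base, for a proper morphism
to a locally Noetherian scheme. -/
theorem finite_app [IsProper π] [IsLocallyNoetherian Y] (V : Y.Opens) (hV : IsAffineOpen V) :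
    (π.app V).hom.Finite := by
  haveI : EnoughInjectives X.Modules := Groth.Agent.Lib.T2H6.ExtCmp.enoughInjectives_modules X
  haveI : HasInjectiveResolutions X.Modules := inferInstance
  have hcoh : Coh.IsCoh (Coh.structureModule X) := Groth.Agent.Lib.T2H5.GenIsoF.isCoh_structureModule
  have h0 : Coh.IsCoh ((Coh.push π).obj (Coh.structureModule X)) :=
    Groth.Agent.Lib.T2H5.Devissage.isCoh_of_iso
      (Groth.Agent.Lib.T2H5.LocMain.rpushZeroIso π (Coh.structureModule X))
      (Groth.Agent.Lib.T2H5.RpushCoh.isCoh_Rpush π _ hcoh 0)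
  haveI := h0.1
  haveI := h0.2
  have hfin : Module.Finite Γ(Y, V) Γ((Coh.push π).obj (Coh.structureModule X), V) :=
    Groth.Agent.Lib.Helper23.FinType.finite_of_isFiniteType _ hV
  letI : Algebra Γ(Y, V) Γ(X, π ⁻¹ᵁ V) := (π.app V).hom.toAlgebra
  let e : Γ((Coh.push π).obj (Coh.structureModule X), V) ≃ₗ[Γ(Y, V)] Γ(X, π ⁻¹ᵁ V) :=
    { AddEquiv.refl _ with
      map_smul' := fun a t => rfl }
  exact Module.Finite.equiv e

/-- **sections of a proper birational morphism onto a normal scheme**. -/
theorem bijective_app_of_normal [IsIntegral X] [IsIntegral Y] [IsLocallyNoetherian Y] [IsProper π]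
    (hY : Pi1.IsNormalScheme Y) (U : Y.Opens) (hUne : (U : Set Y).Nonempty) [IsIso (π ∣_ U)]
    (V : Y.Opens) (hV : IsAffineOpen V) (hVne : (V : Set Y).Nonempty) :
    Function.Bijective (π.app V) := by
  obtain ⟨x, hxU, hxV⟩ : ∃ x : Y, x ∈ U ∧ x ∈ V :=
    nonempty_preirreducible_inter U.isOpen V.isOpen hUne hVne
  obtain ⟨f, hfle, hxf⟩ := hV.exists_basicOpen_le (V := U ⊓ V) ⟨x, hxU, hxV⟩ hxV
  have hWU : Y.basicOpen f ≤ U := hfle.trans inf_le_left
  have hWV : Y.basicOpen f ≤ V := Y.basicOpen_le f
  haveI : Nonempty (Y.basicOpen f) := ⟨⟨x, hxf⟩⟩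
  have hf0 : f ≠ 0 := by
    rintro rfl
    simp at hxf
  haveI hisoW : IsIso (π.app (Y.basicOpen f)) :=
    Groth.Agent.Lib.T2H6.FinBir.isIso_app_of_isIso_restrict π U _ hWU
  have hbijW : Function.Bijective (π.app (Y.basicOpen f)) :=
    (ConcreteCategory.isIso_iff_bijective _).1 hisoW
  obtain ⟨s, hs⟩ := (π ∣_ U).homeomorph.surjective ⟨x, hxU⟩
  have hsx : π s.1 = x := by
    have hs' : (π ∣_ U) s = ⟨x, hxU⟩ := hs
    have := congrArg Subtype.val hs'
    rwa [morphismRestrict_base_coe] at this
  haveI : Nonempty (π ⁻¹ᵁ Y.basicOpen f) :=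
    ⟨⟨s.1, by rw [Scheme.Hom.mem_preimage, hsx]; exact hxf⟩⟩
  haveI : Nonempty V := ⟨⟨x, hxV⟩⟩
  haveI : Nonempty (π ⁻¹ᵁ V) := ⟨⟨s.1, by rw [Scheme.Hom.mem_preimage, hsx]; exact hxV⟩⟩
  have hirr : IsIrreducible (V : Set Y) :=
    ⟨hVne, (PreirreducibleSpace.isPreirreducible_univ (X := Y)).open_subset V.isOpen (Set.subset_univ _)⟩
  obtain ⟨hAdom, hAic⟩ :=
    Groth.Agent.Lib.T2H3.NormSrc.isDomain_and_isIntegrallyClosed_sections hY V hirr
  haveI : IsDomain Γ(X, π ⁻¹ᵁ V) := inferInstance
  have hresY : Function.Injective (Y.presheaf.map (homOfLE hWV).op) :=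
    map_injective_of_isIntegral Y _
  have hresX : Function.Injective (X.presheaf.map (homOfLE (π.preimage_mono hWV)).op) :=
    map_injective_of_isIntegral X _
  have hnat : ∀ a : Γ(Y, V), X.presheaf.map (homOfLE (π.preimage_mono hWV)).op (π.app V a) =
      π.app (Y.basicOpen f) (Y.presheaf.map (homOfLE hWV).op a) := fun a =>
    (congr($(π.naturality (homOfLE hWV).op) a)).symm
  have hinj : Function.Injective (π.app V) := by
    intro a a' h
    apply hresY
    apply hbijW.1
    rw [← hnat, ← hnat, h]
  have hint : (π.app V).hom.IsIntegral := (finite_app π V hV).to_isIntegral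
  refine ⟨hinj, surjective_of_integral_of_isIntegrallyClosed (π.app V).hom hinj hint f hf0 ?_⟩
  intro b
  obtain ⟨c, hc⟩ := hbijW.2 (X.presheaf.map (homOfLE (π.preimage_mono hWV)).op b)
  haveI := hV.isLocalization_basicOpen f
  obtain ⟨⟨a, ⟨_, n, rfl⟩⟩, hac⟩ := IsLocalization.surj (Submonoid.powers f) c
  refine ⟨n, a, ?_⟩
  apply hresX
  have hac' : c * (Y.presheaf.map (homOfLE hWV).op f) ^ n = Y.presheaf.map (homOfLE hWV).op a := by
    have := hac
    simp only [map_pow] at this
    exact this
  change X.presheaf.map (homOfLE (π.preimage_mono hWV)).op ((π.app V f) ^ n * b) =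
    X.presheaf.map (homOfLE (π.preimage_mono hWV)).op (π.app V a)
  rw [map_mul, map_pow, hnat, hnat, ← hc, ← map_pow, ← map_mul, mul_comm, hac']

/-- **`O_Y ≅ π_* O_X`** for a proper birational morphism from an integral scheme onto a normal integral locally Noetherian
scheme. -/
theorem isIso_unitToPush_of_normal [IsIntegral X] [IsIntegral Y] [IsLocallyNoetherian Y] [IsProper π]
    (hY : Pi1.IsNormalScheme Y) (U : Y.Opens) (hUne : (U : Set Y).Nonempty) [IsIso (π ∣_ U)] :
    IsIso (ClSub.unitToPush π) := by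
  let ι : Type u := {V : Y.Opens // IsAffineOpen V ∧ (V : Set Y).Nonempty}
  refine Groth.Agent.Helper13AffBC.isIso_of_bijective_on_basis _ (fun i : ι => i.1) ?_ ?_
  · rw [Opens.isBasis_iff_nbhd]
    intro O y hyO
    obtain ⟨_, ⟨W, hW, rfl⟩, hyW, hWO⟩ := Y.isBasis_affineOpens.exists_subset_of_mem_open hyO O.2
    exact ⟨W, ⟨⟨W, hW, ⟨y, hyW⟩⟩, rfl⟩, hyW, hWO⟩
  · rintro ⟨V, hV, hVne⟩
    exact bijective_app_of_normal π hY U hUne V hV hVne

end Groth.Agent.Lib.T2H6.BirNormal
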