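-- helper6 (team 2): birational schemes and mutually inverse dominant rational maps.
import Mathlib

set_option autoImplicit false
set_option backward.isDefEq.respectTransparency false
set_option backward.isDefEq.respectTransparency.types false
open CategoryTheory AlgebraicGeometry

universe u

namespace Groth.Agent.Lib.T2H6.Birational

open Scheme

variable {X Y : Scheme.{u}}

/-- If the composition of two partial maps is equivalent to the identity, then on a dense open
the first lifts through the domain of the second, and the second is a retraction of the lift. -/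
theorem exists_lift_of_comp_equiv_id [PreirreducibleSpace X] [Nonempty Y]
    (φ : X.PartialMap Y) [IsDominant φ.hom] (ψ : Y.PartialMap X)
    (h : (φ.comp ψ).equiv (PartialMap.id X)) :
    ∃ (W : X.Opens) (_ : Dense (W : Set X)) (hWU : W ≤ φ.domain)
      (γ : W.toScheme ⟶ ψ.domain.toScheme),
      γ ≫ ψ.domain.ι = X.homOfLE hWU ≫ φ.hom ∧ γ ≫ ψ.hom = W.ι := by
  obtain ⟨W, hW, hWl, hWr, e⟩ := h
  have hWl' : W ≤ φ.domain.ι ''ᵁ φ.hom ⁻¹ᵁ ψ.domain := hWl
  have hWU : W ≤ φ.domain := hWl'.trans (φ.domain.ι_image_le _)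
  refine ⟨W, hW, hWU, X.homOfLE hWl' ≫ (φ.domain.ι.isoImage (φ.hom ⁻¹ᵁ ψ.domain)).inv ≫
    φ.hom ∣_ ψ.domain, ?_, ?_⟩
  · simp only [Category.assoc, morphismRestrict_ι]
    rw [← Category.assoc, ← Category.assoc]
    congr 1
    rw [← cancel_mono φ.domain.ι]
    simp only [Category.assoc, Scheme.Hom.isoImage_inv_ι, Scheme.homOfLE_ι]
  · have hWr' : W ≤ (⊤ : X.Opens) := le_top
    have e1 : ((φ.comp ψ).restrict W hW hWl).hom = X.homOfLE hWl' ≫
        (φ.domain.ι.isoImage (φ.hom ⁻¹ᵁ ψ.domain)).inv ≫ φ.hom ∣_ ψ.domain ≫ ψ.hom := rfl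
    have e2 : ((PartialMap.id X).restrict W hW hWr).hom =
        X.homOfLE hWr' ≫ (X.topIso.hom ≫ 𝟙 X) := rfl
    simp only [Category.assoc]
    rw [← e1, e, e2, Category.comp_id, Scheme.topIso_hom, Scheme.homOfLE_ι]

/-- Two dominant partial maps which are mutually inverse on dense opens give a partial
isomorphism extending (a restriction of) the first. -/
theorem exists_partialIso [IrreducibleSpace X] [IrreducibleSpace Y]
    (φ : X.PartialMap Y) [IsDominant φ.hom] (ψ : Y.PartialMap X) [IsDominant ψ.hom]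
    (W : X.Opens) (hW : Dense (W : Set X)) (hWU : W ≤ φ.domain)
    (γ : W.toScheme ⟶ ψ.domain.toScheme)
    (hγ1 : γ ≫ ψ.domain.ι = X.homOfLE hWU ≫ φ.hom) (hγ2 : γ ≫ ψ.hom = W.ι)
    (W' : Y.Opens) (hW' : Dense (W' : Set Y)) (hW'V : W' ≤ ψ.domain)
    (δ : W'.toScheme ⟶ φ.domain.toScheme)
    (hδ1 : δ ≫ φ.domain.ι = Y.homOfLE hW'V ≫ ψ.hom) (hδ2 : δ ≫ φ.hom = W'.ι) :
    ∃ (P : X.PartialIso Y) (hP : P.source ≤ φ.domain),
      P.iso.hom ≫ P.target.ι = X.homOfLE hP ≫ φ.hom := by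
  let g₁ : W.toScheme ⟶ Y := γ ≫ ψ.domain.ι
  let g₂ : W'.toScheme ⟶ X := δ ≫ φ.domain.ι
  let U₀ : W.toScheme.Opens := g₁ ⁻¹ᵁ W'
  let V₀ : W'.toScheme.Opens := g₂ ⁻¹ᵁ W
  let α' : U₀.toScheme ⟶ W'.toScheme := g₁.resLE W' U₀ le_rfl
  let β' : V₀.toScheme ⟶ W.toScheme := g₂.resLE W V₀ le_rfl
  have hα' : α' ≫ W'.ι = U₀.ι ≫ g₁ := Scheme.Hom.resLE_comp_ι _ _
  have hβ' : β' ≫ W.ι = V₀.ι ≫ g₂ := Scheme.Hom.resLE_comp_ι _ _
  have k1 : α' ≫ Y.homOfLE hW'V = U₀.ι ≫ γ := by
    rw [← cancel_mono ψ.domain.ι]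
    simp only [Category.assoc, Scheme.homOfLE_ι]
    exact hα'
  have k2 : α' ≫ g₂ = U₀.ι ≫ W.ι := by
    change α' ≫ δ ≫ φ.domain.ι = _
    rw [hδ1, ← Category.assoc, k1, Category.assoc, hγ2]
  have k1' : β' ≫ X.homOfLE hWU = V₀.ι ≫ δ := by
    rw [← cancel_mono φ.domain.ι]
    simp only [Category.assoc, Scheme.homOfLE_ι]
    exact hβ'
  have k2' : β' ≫ g₁ = V₀.ι ≫ W'.ι := by
    change β' ≫ γ ≫ ψ.domain.ι = _
    rw [hγ1, ← Category.assoc, k1', Category.assoc, hδ2]
  have rα : Set.range α' ⊆ Set.range V₀.ι := by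
    rintro _ ⟨x, rfl⟩
    rw [Opens.range_ι]
    change g₂ (α' x) ∈ W
    rw [← Scheme.Hom.comp_apply, k2]
    exact (U₀.ι x).2
  have rβ : Set.range β' ⊆ Set.range U₀.ι := by
    rintro _ ⟨x, rfl⟩
    rw [Opens.range_ι]
    change g₁ (β' x) ∈ W'
    rw [← Scheme.Hom.comp_apply, k2']
    exact (V₀.ι x).2
  let α : U₀.toScheme ⟶ V₀.toScheme := IsOpenImmersion.lift V₀.ι α' rα
  let β : V₀.toScheme ⟶ U₀.toScheme := IsOpenImmersion.lift U₀.ι β' rβ
  have hα : α ≫ V₀.ι = α' := IsOpenImmersion.lift_fac _ _ _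
  have hβ : β ≫ U₀.ι = β' := IsOpenImmersion.lift_fac _ _ _
  have hαβ : α ≫ β = 𝟙 _ := by
    rw [← cancel_mono U₀.ι, ← cancel_mono W.ι]
    simp only [Category.assoc, Category.id_comp]
    rw [← Category.assoc β, hβ, hβ', ← Category.assoc, hα, k2]
  have hβα : β ≫ α = 𝟙 _ := by
    rw [← cancel_mono V₀.ι, ← cancel_mono W'.ι]
    simp only [Category.assoc, Category.id_comp]
    rw [← Category.assoc α, hα, hα', ← Category.assoc, hβ, k2']
  let e : U₀.toScheme ≅ V₀.toScheme := ⟨α, β, hαβ, hβα⟩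
  have hd₁ : IsDominant g₁ := by
    have : IsDominant (X.homOfLE hWU) := Opens.isDominant_homOfLE hW hWU
    change IsDominant (γ ≫ ψ.domain.ι)
    rw [hγ1]
    infer_instance
  have hd₂ : IsDominant g₂ := by
    have : IsDominant (Y.homOfLE hW'V) := Opens.isDominant_homOfLE hW' hW'V
    change IsDominant (δ ≫ φ.domain.ι)
    rw [hδ1]
    infer_instance
  have hne₁ : ((W.ι ''ᵁ U₀ : X.Opens) : Set X).Nonempty := by
    obtain ⟨y, hy, x, rfl⟩ := g₁.denseRange.inter_open_nonempty _ W'.2 hW'.nonempty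
    exact ⟨W.ι x, x, hy, rfl⟩
  have hne₂ : ((W'.ι ''ᵁ V₀ : Y.Opens) : Set Y).Nonempty := by
    obtain ⟨y, hy, x, rfl⟩ := g₂.denseRange.inter_open_nonempty _ W.2 hW.nonempty
    exact ⟨W'.ι x, x, hy, rfl⟩
  refine ⟨{ source := W.ι ''ᵁ U₀
            dense_source := (W.ι ''ᵁ U₀).2.dense hne₁
            target := W'.ι ''ᵁ V₀
            dense_target := (W'.ι ''ᵁ V₀).2.dense hne₂
            iso := (W.ι.isoImage U₀).symm ≪≫ e ≪≫ W'.ι.isoImage V₀ },
    (W.ι_image_le U₀).trans hWU, ?_⟩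
  change ((W.ι.isoImage U₀).inv ≫ α ≫ (W'.ι.isoImage V₀).hom) ≫ (W'.ι ''ᵁ V₀).ι = _
  simp only [Category.assoc, Scheme.Hom.isoImage_hom_ι]
  rw [← Category.assoc α, hα, hα']
  change (W.ι.isoImage U₀).inv ≫ U₀.ι ≫ γ ≫ ψ.domain.ι = _
  rw [hγ1, ← Category.assoc, Scheme.Opens.isoImage_ι_inv_ι, ← Category.assoc,
    Scheme.homOfLE_homOfLE]

instance isDominant_toPartialMap_hom (P : X.PartialIso Y) : IsDominant P.toPartialMap.hom := by
  have : IsDominant P.target.ι := Opens.isDominant_ι P.dense_target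
  change IsDominant (P.iso.hom ≫ P.target.ι)
  infer_instance

/-- The partial map of a partial isomorphism composed with that of its inverse is the identity. -/
theorem comp_symm_equiv_id [PreirreducibleSpace X] [Nonempty Y] (P : X.PartialIso Y) :
    (P.toPartialMap.comp P.symm.toPartialMap).equiv (PartialMap.id X) := by
  refine ⟨(P.toPartialMap.comp P.symm.toPartialMap).domain,
    (P.toPartialMap.comp P.symm.toPartialMap).dense_domain, le_rfl, le_top, ?_⟩
  have hr : (P.iso.hom ≫ P.target.ι) ∣_ P.target =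
      ((P.iso.hom ≫ P.target.ι) ⁻¹ᵁ P.target).ι ≫ P.iso.hom := by
    rw [← cancel_mono P.target.ι, morphismRestrict_ι, Category.assoc]
  have hWr' : P.source.ι ''ᵁ (P.iso.hom ≫ P.target.ι) ⁻¹ᵁ P.target ≤ (⊤ : X.Opens) := le_top
  have e1 : ((P.toPartialMap.comp P.symm.toPartialMap).restrict _
      (P.toPartialMap.comp P.symm.toPartialMap).dense_domain le_rfl).hom =
      X.homOfLE (le_refl (P.source.ι ''ᵁ (P.iso.hom ≫ P.target.ι) ⁻¹ᵁ P.target)) ≫
        (P.source.ι.isoImage ((P.iso.hom ≫ P.target.ι) ⁻¹ᵁ P.target)).inv ≫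
          (P.iso.hom ≫ P.target.ι) ∣_ P.target ≫ P.iso.inv ≫ P.source.ι := rfl
  have e2 : ((PartialMap.id X).restrict (P.toPartialMap.comp P.symm.toPartialMap).domain
      (P.toPartialMap.comp P.symm.toPartialMap).dense_domain le_top).hom =
        X.homOfLE hWr' ≫ (X.topIso.hom ≫ 𝟙 X) := rfl
  rw [e1, e2, hr, Category.comp_id, Scheme.topIso_hom, Scheme.homOfLE_ι, Scheme.homOfLE_rfl,
    Category.id_comp, Category.assoc, Iso.hom_inv_id_assoc, Scheme.Hom.isoImage_inv_ι]

/-- Mutually inverse dominant rational maps between integral schemes come from a partial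
isomorphism. -/
theorem exists_partialIso_of_comp_eq_id [IsIntegral X] [IsIntegral Y] (f : X ⤏ Y) (g : Y ⤏ X)
    [f.IsDominant] [g.IsDominant] (h1 : f.comp g = Scheme.RationalMap.id X)
    (h2 : g.comp f = Scheme.RationalMap.id Y) :
    ∃ (P : X.PartialIso Y) (hP : P.source ≤ f.representative.domain),
      P.iso.hom ≫ P.target.ι = X.homOfLE hP ≫ f.representative.hom := by
  have h1' : (f.representative.comp g.representative).equiv (PartialMap.id X) := by
    rw [← PartialMap.toRationalMap_eq_iff, ← RationalMap.comp_def,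
      g.toRationalMap_representative]
    exact h1
  have h2' : (g.representative.comp f.representative).equiv (PartialMap.id Y) := by
    rw [← PartialMap.toRationalMap_eq_iff, ← RationalMap.comp_def,
      f.toRationalMap_representative]
    exact h2
  obtain ⟨W, hW, hWU, γ, hγ1, hγ2⟩ :=
    exists_lift_of_comp_equiv_id f.representative g.representative h1'
  obtain ⟨W', hW', hW'V, δ, hδ1, hδ2⟩ :=
    exists_lift_of_comp_equiv_id g.representative f.representative h2'
  exact exists_partialIso f.representative g.representative W hW hWU γ hγ1 hγ2 W' hW' hW'V δ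
    hδ1 hδ2

theorem birational_iff (X Y : Scheme.{u}) [IsIntegral X] [IsIntegral Y] :
    Scheme.Birational X Y ↔
      ∃ (f : X ⤏ Y) (g : Y ⤏ X) (_ : f.IsDominant) (_ : g.IsDominant),
        f.comp g = Scheme.RationalMap.id X ∧ g.comp f = Scheme.RationalMap.id Y := by
  constructor
  · rintro ⟨P⟩
    refine ⟨P.toRationalMap, P.symm.toRationalMap, inferInstance, inferInstance, ?_, ?_⟩
    · rw [RationalMap.toRationalMap_comp, PartialMap.toRationalMap_eq_iff]
      exact comp_symm_equiv_id P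
    · rw [RationalMap.toRationalMap_comp, PartialMap.toRationalMap_eq_iff]
      exact comp_symm_equiv_id P.symm
  · rintro ⟨f, g, hf, hg, h1, h2⟩
    obtain ⟨P, -, -⟩ := exists_partialIso_of_comp_eq_id f g h1 h2
    exact ⟨P⟩

end Groth.Agent.Lib.T2H6.Birational
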