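-- helper6 (team 2): an isomorphism of function fields over the base gives a birational map.
import Mathlib
import Groth.Prelude.Def_CurvBase
import Groth.Agent.Lib.T2H6Birational

set_option autoImplicit false
set_option backward.isDefEq.respectTransparency false
set_option backward.isDefEq.respectTransparency.types false
open CategoryTheory AlgebraicGeometry

universe u

namespace Groth.Agent.Lib.T2H6.BiratFF

open Scheme

theorem fromSpecStalk_over (k : Type u) [Field k] (X : Scheme.{u})
    [X.Over (Spec (CommRingCat.of k))] (x : X) :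
    X.fromSpecStalk x ≫ (X ↘ Spec (CommRingCat.of k)) =
      Spec.map (CommRingCat.ofHom (Curv2.stalkMap k X x)) := by
  apply ext_to_Spec
  change (Scheme.ΓSpecIso (.of k)).inv ≫ (X.fromSpecStalk x ≫ (X ↘ _)).appTop =
    (Scheme.ΓSpecIso (.of k)).inv ≫ (Spec.map _).appTop
  rw [← Scheme.ΓSpecIso_inv_naturality, Scheme.Hom.comp_appTop, Scheme.fromSpecStalk_appTop]
  have h : CommRingCat.ofHom (Curv2.stalkMap k X x) =
      (Scheme.ΓSpecIso (.of k)).inv ≫ (X ↘ Spec (CommRingCat.of k)).appTop ≫
        X.presheaf.germ ⊤ x trivial := rfl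
  rw [h]
  simp

variable {X Y Z : Scheme.{u}}

theorem genericPoint_mem_domain [IrreducibleSpace X] (p : X.PartialMap Y) :
    genericPoint X ∈ p.domain :=
  (genericPoint_specializes _).mem_open p.domain.2 p.dense_domain.nonempty.choose_spec

theorem fromFunctionField_comp [IrreducibleSpace X] [IrreducibleSpace Y] (p : X.PartialMap Y)
    [IsDominant p.hom] (q : Y.PartialMap Z)
    (θ : Spec X.functionField ⟶ Spec Y.functionField)
    (hθ : p.fromFunctionField = θ ≫ Y.fromSpecStalk (genericPoint Y)) :
    (p.comp q).fromFunctionField = θ ≫ q.fromFunctionField := by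
  have hηp : genericPoint X ∈ p.domain := genericPoint_mem_domain p
  have hηq : genericPoint Y ∈ q.domain := genericPoint_mem_domain q
  have hηc : genericPoint X ∈ (p.comp q).domain := genericPoint_mem_domain (p.comp q)
  have hle : (p.comp q).domain ≤ p.domain := p.domain.ι_image_le _
  have hηc' : genericPoint X ∈ p.domain.ι ''ᵁ p.hom ⁻¹ᵁ q.domain := hηc
  change (p.domain.ι ''ᵁ p.hom ⁻¹ᵁ q.domain).fromSpecStalkOfMem _ hηc' ≫
      (p.domain.ι.isoImage (p.hom ⁻¹ᵁ q.domain)).inv ≫ p.hom ∣_ q.domain ≫ q.hom =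
    θ ≫ q.domain.fromSpecStalkOfMem _ hηq ≫ q.hom
  have key : (p.domain.ι ''ᵁ p.hom ⁻¹ᵁ q.domain).fromSpecStalkOfMem _ hηc' ≫
      (p.domain.ι.isoImage (p.hom ⁻¹ᵁ q.domain)).inv ≫ p.hom ∣_ q.domain =
      θ ≫ q.domain.fromSpecStalkOfMem _ hηq := by
    rw [← cancel_mono q.domain.ι]
    simp only [Category.assoc, morphismRestrict_ι, Opens.fromSpecStalkOfMem_ι]
    rw [← hθ]
    have h1 := p.fromSpecStalkOfMem_restrict (p.comp q).dense_domain hle hηc
    have h2 : (p.restrict (p.comp q).domain (p.comp q).dense_domain hle).fromSpecStalkOfMem hηc =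
        (p.domain.ι ''ᵁ p.hom ⁻¹ᵁ q.domain).fromSpecStalkOfMem _ hηc' ≫
          X.homOfLE (p.domain.ι_image_le (p.hom ⁻¹ᵁ q.domain)) ≫ p.hom := rfl
    rw [h2] at h1
    rw [← Category.assoc (p.domain.ι.isoImage (p.hom ⁻¹ᵁ q.domain)).inv,
      Scheme.Opens.isoImage_ι_inv_ι, h1]
  rw [← Category.assoc, ← Category.assoc, Category.assoc _ _ (p.hom ∣_ q.domain), key,
    Category.assoc]

/-- A partial map spread out from a map `Spec K(X) ⟶ Spec K(Y) ⟶ Y` is dominant. -/
theorem isDominant_of_fromFunctionField [IsIntegral X] [IsIntegral Y] (p : X.PartialMap Y)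
    (θ : Spec X.functionField ⟶ Spec Y.functionField)
    (hθ : p.fromFunctionField = θ ≫ Y.fromSpecStalk (genericPoint Y)) : IsDominant p.hom := by
  refine ⟨?_⟩
  have hηp : genericPoint X ∈ p.domain := genericPoint_mem_domain p
  let c : Spec X.functionField := IsLocalRing.closedPoint X.functionField
  have h1 : p.hom (p.domain.fromSpecStalkOfMem _ hηp c) = genericPoint Y := by
    have h2 : p.fromFunctionField c = (θ ≫ Y.fromSpecStalk (genericPoint Y)) c := by rw [hθ]
    have hs : Subsingleton (PrimeSpectrum Y.functionField) := inferInstance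
    have h3 : θ c = IsLocalRing.closedPoint Y.functionField :=
      Subsingleton.elim (α := PrimeSpectrum Y.functionField) _ _
    have h5 : (Y.fromSpecStalk (genericPoint Y)) (IsLocalRing.closedPoint Y.functionField) =
        genericPoint Y := Scheme.fromSpecStalk_closedPoint
    rw [Scheme.Hom.comp_apply, h3, h5] at h2
    exact h2
  have h4 : closure ({genericPoint Y} : Set Y) ⊆ closure (Set.range p.hom) :=
    closure_mono (Set.singleton_subset_iff.2 ⟨_, h1⟩)
  rw [(genericPoint_spec Y).def] at h4
  exact fun y => h4 (Set.mem_univ y)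

theorem exists_iso_opens (k : Type u) [Field k] (X Y : Scheme.{u})
    [X.Over (Spec (CommRingCat.of k))] [Y.Over (Spec (CommRingCat.of k))]
    [IsIntegral X] [IsIntegral Y]
    [LocallyOfFiniteType (X ↘ (Spec (CommRingCat.of k)))]
    [LocallyOfFiniteType (Y ↘ (Spec (CommRingCat.of k)))]
    (e : X.functionField ≅ Y.functionField)
    (he : e.hom.hom.comp (Curv2.stalkMap k X (genericPoint X)) =
      Curv2.stalkMap k Y (genericPoint Y)) :
    ∃ (U : X.Opens) (V : Y.Opens), (U : Set ↥X).Nonempty ∧
      ∃ φ : (U : Scheme.{u}) ≅ (V : Scheme.{u}),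
        φ.hom ≫ V.ι ≫ (Y ↘ (Spec (CommRingCat.of k))) =
          U.ι ≫ (X ↘ (Spec (CommRingCat.of k))) := by
  let sX := X ↘ (Spec (CommRingCat.of k))
  let sY := Y ↘ (Spec (CommRingCat.of k))
  let θ : Spec X.functionField ⟶ Spec Y.functionField := Spec.map e.inv
  let θ' : Spec Y.functionField ⟶ Spec X.functionField := Spec.map e.hom
  have hθθ' : θ ≫ θ' = 𝟙 _ := by rw [← Spec.map_comp, e.hom_inv_id, Spec.map_id]
  have hθ'θ : θ' ≫ θ = 𝟙 _ := by rw [← Spec.map_comp, e.inv_hom_id, Spec.map_id]
  have hk1 : CommRingCat.ofHom (Curv2.stalkMap k X (genericPoint X)) ≫ e.hom =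
      CommRingCat.ofHom (Curv2.stalkMap k Y (genericPoint Y)) := by
    ext a
    exact congrArg (fun r : k →+* Y.functionField => r a) he
  have hk2 : CommRingCat.ofHom (Curv2.stalkMap k Y (genericPoint Y)) ≫ e.inv =
      CommRingCat.ofHom (Curv2.stalkMap k X (genericPoint X)) := by
    rw [← hk1, Category.assoc, e.hom_inv_id]
    exact Category.comp_id _
  have h₀ : (θ ≫ Y.fromSpecStalk (genericPoint Y)) ≫ sY = X.fromSpecStalk (genericPoint X) ≫ sX := by
    rw [Category.assoc, fromSpecStalk_over, fromSpecStalk_over, ← Spec.map_comp, hk2]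
  have h₀' : (θ' ≫ X.fromSpecStalk (genericPoint X)) ≫ sX =
      Y.fromSpecStalk (genericPoint Y) ≫ sY := by
    rw [Category.assoc, fromSpecStalk_over, fromSpecStalk_over, ← Spec.map_comp, hk1]
  let p : X.PartialMap Y := PartialMap.ofFromSpecStalk sX sY _ h₀
  let q : Y.PartialMap X := PartialMap.ofFromSpecStalk sY sX _ h₀'
  have hp : p.fromFunctionField = θ ≫ Y.fromSpecStalk (genericPoint Y) :=
    PartialMap.fromSpecStalkOfMem_ofFromSpecStalk sX sY _ h₀
  have hq : q.fromFunctionField = θ' ≫ X.fromSpecStalk (genericPoint X) :=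
    PartialMap.fromSpecStalkOfMem_ofFromSpecStalk sY sX _ h₀'
  have hdp : IsDominant p.hom := isDominant_of_fromFunctionField p θ hp
  have hdq : IsDominant q.hom := isDominant_of_fromFunctionField q θ' hq
  have hpo : p.IsOver (Spec (CommRingCat.of k)) :=
    ⟨PartialMap.ofFromSpecStalk_comp sX sY _ h₀⟩
  have h1 : p.toRationalMap.comp q.toRationalMap = Scheme.RationalMap.id X := by
    rw [RationalMap.toRationalMap_comp]
    apply RationalMap.eq_of_fromFunctionField_eq
    rw [RationalMap.fromFunctionField_toRationalMap, RationalMap.fromFunctionField_toRationalMap,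
      fromFunctionField_comp p q θ hp, hq, ← Category.assoc, hθθ', Category.id_comp]
    exact (PartialMap.fromSpecStalkOfMem_toPartialMap (𝟙 X) (genericPoint X)).symm.trans
      (by rfl) |>.symm |>.trans (Category.comp_id _) |>.symm
  have h2 : q.toRationalMap.comp p.toRationalMap = Scheme.RationalMap.id Y := by
    rw [RationalMap.toRationalMap_comp]
    apply RationalMap.eq_of_fromFunctionField_eq
    rw [RationalMap.fromFunctionField_toRationalMap, RationalMap.fromFunctionField_toRationalMap,
      fromFunctionField_comp q p θ' hq, hp, ← Category.assoc, hθ'θ, Category.id_comp]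
    exact (PartialMap.fromSpecStalkOfMem_toPartialMap (𝟙 Y) (genericPoint Y)).symm.trans
      (by rfl) |>.symm |>.trans (Category.comp_id _) |>.symm
  obtain ⟨P, hP, hPeq⟩ := Groth.Agent.Lib.T2H6.Birational.exists_partialIso_of_comp_eq_id
    p.toRationalMap q.toRationalMap h1 h2
  have hro : p.toRationalMap.representative.IsOver (Spec (CommRingCat.of k)) := by
    rw [← PartialMap.isOver_toRationalMap_iff_of_isSeparated,
      RationalMap.toRationalMap_representative]
    infer_instance
  have hro' : p.toRationalMap.representative.hom ≫ sY =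
      p.toRationalMap.representative.domain.ι ≫ sX := hro.comp_over
  refine ⟨P.source, P.target, P.dense_source.nonempty, P.iso, ?_⟩
  rw [← Category.assoc, hPeq, Category.assoc, hro', ← Category.assoc, Scheme.homOfLE_ι]

end Groth.Agent.Lib.T2H6.BiratFF
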