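import Groth.Agent.Lib.T2H6BlowUpSepConstr
import Groth.Agent.Lib.T2H6BlowUpFT

/-!
# Closures after an admissible blow-up and base change (Nagata compactification, blow-up lemma)
-/

set_option autoImplicit false
universe u

open CategoryTheory AlgebraicGeometry TopologicalSpace Topology Limits
open AlgebraicGeometry.Scheme.IdealSheafData

namespace Groth.Agent.Lib.T2H6.BlowUpClosureBC

/-- On a quasi-compact scheme, if `V(P) ⊆ V(A)` with `A` of finite type then a power of `A` lies in `P`. -/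
theorem exists_pow_le_of_support_le {X : Scheme.{u}} [CompactSpace X] (A P : X.IdealSheafData)
    (hA : BlowUp.IsFiniteTypeIdeal A) (h : P.support ≤ A.support) : ∃ n : ℕ, A ^ (n + 1) ≤ P := by
  classical
  have hrad : A ≤ P.radical := by
    rw [← vanishingIdeal_support]
    exact (le_support_iff_le_vanishingIdeal).1 h
  have hloc : ∀ U : X.affineOpens, ∃ k : ℕ, (A.ideal U) ^ k ≤ P.ideal U := fun U =>
    Ideal.exists_pow_le_of_le_radical_of_fg (by simpa using hrad U) (hA U)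
  choose k hk using hloc
  obtain ⟨t, ht⟩ := isCompact_univ.elim_finite_subcover (fun U : X.affineOpens => (U.1 : Set X))
    (fun U => U.1.isOpen) (by
      intro x _
      obtain ⟨_, ⟨W, hW, rfl⟩, hxW, -⟩ :=
        X.isBasis_affineOpens.exists_subset_of_mem_open (Set.mem_univ x) isOpen_univ
      exact Set.mem_iUnion.2 ⟨⟨W, hW⟩, hxW⟩)
  refine ⟨t.sup k, ?_⟩
  apply le_of_iSup_eq_top (fun i : t => i.1)
  · rw [eq_top_iff]
    intro x _
    obtain ⟨U, hU⟩ := Set.mem_iUnion.1 (ht (Set.mem_univ x))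
    obtain ⟨hUt, hxU⟩ := Set.mem_iUnion.1 hU
    exact TopologicalSpace.Opens.mem_iSup.2 ⟨⟨U, hUt⟩, hxU⟩
  · rintro ⟨U, hUt⟩
    rw [ideal_pow]
    refine le_trans ?_ (hk U)
    exact Ideal.pow_le_pow_right ((Finset.le_sup hUt).trans (Nat.le_succ _))

theorem comap_pow {X Y : Scheme.{u}} (f : Y ⟶ X) (I : X.IdealSheafData) (n : ℕ) :
    (I ^ n).comap f = (I.comap f) ^ n := by
  induction n with
  | zero => rw [pow_zero, pow_zero, one_eq_top, one_eq_top, comap_top]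
  | succ n ih => rw [pow_succ, pow_succ, ModulusFun.comap_mul, ih]

theorem isFiniteTypeIdeal_mul {X : Scheme.{u}} {I J : X.IdealSheafData} (hI : BlowUp.IsFiniteTypeIdeal I)
    (hJ : BlowUp.IsFiniteTypeIdeal J) : BlowUp.IsFiniteTypeIdeal (I * J) := by
  intro U
  rw [ideal_mul]
  exact Ideal.FG.mul (hI U) (hJ U)

theorem isFiniteTypeIdeal_pow {X : Scheme.{u}} {I : X.IdealSheafData} (hI : BlowUp.IsFiniteTypeIdeal I)
    (n : ℕ) : BlowUp.IsFiniteTypeIdeal (I ^ n) := by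
  intro U
  rw [ideal_pow]
  exact Ideal.FG.pow (I := I.ideal U) (hI U)

theorem mul_le_left' {X : Scheme.{u}} (I J : X.IdealSheafData) : I * J ≤ I := by
  intro U
  rw [ideal_mul]
  exact Ideal.mul_le_left (I := I.ideal U) (J := J.ideal U)

/-- Nakayama on supports: `A * B ≤ K * A` with `A` of finite type, `z ∈ V(K)`, `z ∉ V(B)`: a neighbourhood of `z`
lies in `V(A)`. -/
theorem exists_nbhd_subset_support {Y : Scheme.{u}} (A K B : Y.IdealSheafData)
    (hA : BlowUp.IsFiniteTypeIdeal A) (hle : A * B ≤ K * A) (z : Y) (hzK : z ∈ K.support)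
    (hzB : z ∉ B.support) : ∃ N : Y.Opens, z ∈ N ∧ ∀ y ∈ N, y ∈ A.support := by
  let W : Y.Opens := ⟨(B.support : Set Y)ᶜ, B.support.isClosed.isOpen_compl⟩
  have hBW : B.comap W.ι = ⊤ := by
    rw [← support_eq_bot_iff]
    ext y
    simp only [Closeds.coe_bot, Set.mem_empty_iff_false, iff_false, SetLike.mem_coe]
    intro hy
    exact y.2 ((BlowUpSeparate.mem_support_comap B W.ι y).1 hy)
  have hle' : A.comap W.ι ≤ K.comap W.ι * A.comap W.ι ⊔ ⊥ := by
    rw [sup_bot_eq, ← ModulusFun.comap_mul]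
    calc A.comap W.ι = A.comap W.ι * B.comap W.ι := by rw [hBW, mul_top]
      _ = (A * B).comap W.ι := (ModulusFun.comap_mul _ _ _).symm
      _ ≤ (K * A).comap W.ι := comap_mono _ hle
  obtain ⟨N, hzN, hN⟩ := BlowUpSeparate.exists_nbhd_support_subset (A.comap W.ι) (K.comap W.ι) ⊥
    (BlowUpFT.isFiniteTypeIdeal_comap W.ι A hA) hle' ⟨z, hzB⟩
    ((BlowUpSeparate.mem_support_comap K W.ι _).2 hzK)
  refine ⟨W.ι ''ᵁ N, ⟨⟨z, hzB⟩, hzN, rfl⟩, ?_⟩
  rintro _ ⟨y, hy, rfl⟩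
  exact (BlowUpSeparate.mem_support_comap A W.ι y).1 (hN y hy (by rw [support_bot]; trivial))

theorem main {X₁ X₂ : Scheme.{u}} [CompactSpace X₁] [QuasiSeparatedSpace X₁] [CompactSpace X₂]
    [QuasiSeparatedSpace X₂] (q : X₂ ⟶ X₁)
    (V₁ : X₁.Opens) (hV₁ : IsCompact (V₁ : Set X₁))
    (U : X₂.Opens) (hU : U ≤ q ⁻¹ᵁ V₁)
    (Z₁ : Set X₁) (hZ₁ : IsClosed Z₁) (hZ₁c : IsCompact Z₁ᶜ)
    (Z₂ : Set X₂) (hZ₂ : IsClosed Z₂) (hZ₂c : IsCompact Z₂ᶜ)
    (hYZ : (fun x => q x) ⁻¹' (Z₁ ∩ (V₁ : Set X₁)) ⊆ Z₂) :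
    ∃ 𝓔 : X₁.IdealSheafData, BlowUp.IsFiniteTypeIdeal 𝓔 ∧ (𝓔.support : Set X₁) ⊆ Z₁ \ (V₁ : Set X₁) ∧
      ∀ (X₁' : Scheme.{u}) (c : X₁' ⟶ X₁), BlowUp.IsBlowUp c 𝓔 →
        (fun z => (pullback.snd q c) z) ⁻¹' closure ((fun x => c x) ⁻¹' (Z₁ ∩ (V₁ : Set X₁))) ∩
            closure ((fun z => (pullback.fst q c) z) ⁻¹' (U : Set X₂)) ⊆
          (fun z => (pullback.fst q c) z) ⁻¹' Z₂ := by
  obtain ⟨I₁, hI₁, hs₁⟩ := FTSupport.exists_ft_support_eq (X := X₁) ⟨Z₁ᶜ, hZ₁.isOpen_compl⟩ hZ₁c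
  obtain ⟨J₁, hJ₁, ht₁⟩ := FTSupport.exists_ft_support_eq (X := X₁) V₁ hV₁
  obtain ⟨I₂, hI₂, hs₂⟩ := FTSupport.exists_ft_support_eq (X := X₂) ⟨Z₂ᶜ, hZ₂.isOpen_compl⟩ hZ₂c
  simp only [Opens.coe_mk, compl_compl] at hs₁ hs₂
  set P := I₁.comap q with hP
  set Jq := J₁.comap q with hJq
  have hA : BlowUp.IsFiniteTypeIdeal (I₂ * Jq) :=
    isFiniteTypeIdeal_mul hI₂ (BlowUpFT.isFiniteTypeIdeal_comap q J₁ hJ₁)
  have hsupp : P.support ≤ (I₂ * Jq).support := by
    intro x hx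
    have hx1 : q x ∈ Z₁ := by
      rw [← hs₁]
      exact (BlowUpSeparate.mem_support_comap I₁ q x).1 hx
    rw [support_mul]
    by_cases hxV : q x ∈ V₁
    · left
      change x ∈ (I₂.support : Set X₂)
      rw [hs₂]
      exact hYZ ⟨hx1, hxV⟩
    · right
      apply (BlowUpSeparate.mem_support_comap J₁ q x).2
      change q x ∈ (J₁.support : Set X₁)
      rw [ht₁]
      exact hxV
  obtain ⟨n, hn⟩ := exists_pow_le_of_support_le _ _ hA hsupp
  refine ⟨I₁ ⊔ J₁ ^ (n + 1), BlowUpSepConstr.isFiniteTypeIdeal_sup hI₁ (isFiniteTypeIdeal_pow hJ₁ _), ?_, ?_⟩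
  · rw [support_sup, support_pow_succ]
    change (I₁.support : Set X₁) ∩ (J₁.support : Set X₁) ⊆ _
    rw [hs₁, ht₁]
    exact fun x hx => hx
  intro X₁' c hc
  set 𝓔 := I₁ ⊔ J₁ ^ (n + 1) with h𝓔
  have hEsupp : ∀ x, x ∈ 𝓔.support → x ∉ V₁ := by
    intro x hx
    rw [h𝓔, support_sup, support_pow_succ] at hx
    have : x ∈ (J₁.support : Set X₁) := hx.2
    rw [ht₁] at this
    exact this
  set L := 𝓔.comap c with hL
  obtain ⟨K, hK⟩ := ColonIdeal.exists_mul_eq (I₁.comap c) L hc.1 (comap_mono c le_sup_left)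
  have hcl : closure ((fun x => c x) ⁻¹' (Z₁ ∩ (V₁ : Set X₁))) ⊆ (K.support : Set X₁') := by
    apply closure_minimal _ K.support.isClosed
    intro x hx
    have hx1 : x ∈ (I₁.comap c).support := by
      apply (BlowUpSeparate.mem_support_comap I₁ c x).2
      change c x ∈ (I₁.support : Set X₁)
      rw [hs₁]
      exact hx.1
    rw [← hK, support_mul] at hx1
    rcases hx1 with h | h
    · exact h
    · exact absurd hx.2 (hEsupp _ ((BlowUpSeparate.mem_support_comap _ c x).1 h))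
  set c₂ := pullback.fst q c with hc₂
  set q' := pullback.snd q c with hq'
  have hcond : c₂ ≫ q = q' ≫ c := pullback.condition
  have hLq : L.comap q' = (𝓔.comap q).comap c₂ := by
    rw [hL, ← comap_comp, ← comap_comp, hcond]
  have hkey : L.comap q' * (I₂ ^ (n + 1)).comap c₂ ≤ K.comap q' * L.comap q' := by
    have h1 : 𝓔.comap q * I₂ ^ (n + 1) ≤ P := by
      rw [h𝓔, comap_sup, inf_mul, comap_pow]
      apply sup_le
      · exact mul_le_left' _ _
      · rw [← hJq, mul_comm, ← mul_pow]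
        exact hn
    calc L.comap q' * (I₂ ^ (n + 1)).comap c₂
        = (𝓔.comap q * I₂ ^ (n + 1)).comap c₂ := by rw [hLq, ModulusFun.comap_mul]
      _ ≤ P.comap c₂ := comap_mono _ h1
      _ = (I₁.comap c).comap q' := by rw [hP, ← comap_comp, ← comap_comp, hcond]
      _ = K.comap q' * L.comap q' := by rw [← hK, ModulusFun.comap_mul]
  rintro z ⟨hz1, hz2⟩
  by_contra hzZ
  have hzB : z ∉ ((I₂ ^ (n + 1)).comap c₂).support := by
    intro h
    have h' := (BlowUpSeparate.mem_support_comap _ c₂ z).1 h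
    rw [support_pow_succ] at h'
    have : c₂ z ∈ (I₂.support : Set X₂) := h'
    rw [hs₂] at this
    exact hzZ this
  have hzK : z ∈ (K.comap q').support :=
    (BlowUpSeparate.mem_support_comap K q' z).2 (hcl hz1)
  obtain ⟨N, hzN, hN⟩ := exists_nbhd_subset_support (L.comap q') (K.comap q') _
    (BlowUpFT.isFiniteTypeIdeal_comap q' L (BlowUpFT.isFiniteTypeIdeal_comap c 𝓔
      (BlowUpSepConstr.isFiniteTypeIdeal_sup hI₁ (isFiniteTypeIdeal_pow hJ₁ _)))) hkey z hzK hzB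
  obtain ⟨y, hyN, hyU⟩ := mem_closure_iff.1 hz2 N N.isOpen hzN
  have h1 : y ∈ (L.comap q').support := hN y hyN
  rw [hLq] at h1
  have h2 : q (c₂ y) ∈ 𝓔.support :=
    (BlowUpSeparate.mem_support_comap 𝓔 q _).1 ((BlowUpSeparate.mem_support_comap _ c₂ y).1 h1)
  exact hEsupp _ h2 (hU hyU)

end Groth.Agent.Lib.T2H6.BlowUpClosureBC
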