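import Groth.Agent.Lib.T2H6BlowUpClosureBC
import Groth.Agent.Lib.T2H6AmbProdProper

/-!
# Closure of an immersed subscheme after blowing up a sum of two ideals
-/

set_option autoImplicit false
universe u

open CategoryTheory AlgebraicGeometry TopologicalSpace Topology Limits
open AlgebraicGeometry.Scheme.IdealSheafData

namespace Groth.Agent.Lib.T2H6.BlowUpClosureImm

/-- If `(I₁ ⊔ I₂) · O_{X'}` is effective Cartier then `I_i · O_{X'} = K_i · (I₁ ⊔ I₂) · O_{X'}` with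
`K₁ ⊔ K₂ = ⊤`. -/
theorem exists_factor {X X' : Scheme.{u}} (b : X' ⟶ X) (I₁ I₂ : X.IdealSheafData)
    (hb : BlowUp.IsEffCartierIdeal ((I₁ ⊔ I₂).comap b)) :
    ∃ K₁ K₂ : X'.IdealSheafData, K₁ * (I₁ ⊔ I₂).comap b = I₁.comap b ∧
      K₂ * (I₁ ⊔ I₂).comap b = I₂.comap b ∧ K₁ ⊔ K₂ = ⊤ := by
  set L := (I₁ ⊔ I₂).comap b with hL
  obtain ⟨K₁, hK₁⟩ := ColonIdeal.exists_mul_eq _ _ hb (comap_mono b (le_sup_left : I₁ ≤ I₁ ⊔ I₂))
  obtain ⟨K₂, hK₂⟩ := ColonIdeal.exists_mul_eq _ _ hb (comap_mono b (le_sup_right : I₂ ≤ I₁ ⊔ I₂))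
  refine ⟨K₁, K₂, hK₁, hK₂, ?_⟩
  have hsum : (K₁ ⊔ K₂) * L = ⊤ * L := by
    rw [inf_mul, hK₁, hK₂, top_mul, hL, comap_sup]
  exact ModulusFun.mul_right_cancel_effCartier _ _ _ hb hsum

theorem main {X Y Z X' : Scheme.{u}} (p : Z ⟶ X) (U V : X.Opens)
    (f : Y ⟶ Z) [QuasiCompact f] (hY : Set.range (fun y => p (f y)) ⊆ (U : Set X))
    (𝓘₁ 𝓘₂ : X.IdealSheafData)
    (h₁ : (V : Set X) \ (U : Set X) ⊆ (𝓘₁.support : Set X))
    (h₁' : Disjoint (𝓘₁.support : Set X) (U : Set X))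
    (h₂ : (𝓘₂.support : Set X) ⊆ (𝓘₁.support : Set X) \ (V : Set X))
    (hincl : 𝓘₂.comap p ≤ (𝓘₁ * 𝓘₁).comap p ⊔ f.ker)
    (q : X' ⟶ X) (hq : BlowUp.IsBlowUp q (𝓘₁ ⊔ 𝓘₂)) :
    Disjoint (closure (Set.range (fun y => (pullback.snd f (pullback.fst p q)) y)))
      ((fun z => (pullback.snd p q) z) ⁻¹'
        closure ((fun x' => q x') ⁻¹' ((V : Set X) \ (U : Set X)))) := by
  obtain ⟨K₁, K₂, hK₁, hK₂, hK⟩ := exists_factor q 𝓘₁ 𝓘₂ hq.1
  set L := (𝓘₁ ⊔ 𝓘₂).comap q with hL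
  have hLft : BlowUp.IsFiniteTypeIdeal L := AmbProdProper.isFiniteTypeIdeal_of_isEffCartier L hq.1
  have hcl : closure ((fun x' => q x') ⁻¹' ((V : Set X) \ (U : Set X))) ⊆ (K₁.support : Set X') := by
    apply closure_minimal _ K₁.support.isClosed
    intro x hx
    have hx1 : x ∈ (𝓘₁.comap q).support := (BlowUpSeparate.mem_support_comap 𝓘₁ q x).2 (h₁ hx)
    rw [← hK₁, support_mul] at hx1
    rcases hx1 with h | h
    · exact h
    · exfalso
      have h3 : q x ∈ (𝓘₁ ⊔ 𝓘₂).support := (BlowUpSeparate.mem_support_comap _ q x).1 h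
      rw [support_sup] at h3
      exact (h₂ h3.2).2 hx.1
  set pr₁ := pullback.fst p q with hpr₁
  set pr₂ := pullback.snd p q with hpr₂
  have hcond : pr₁ ≫ p = pr₂ ≫ q := pullback.condition
  set L' := L.comap pr₂ with hL'
  set K₁' := K₁.comap pr₂ with hK₁'
  set K₂' := K₂.comap pr₂ with hK₂'
  set N := f.ker.comap pr₁ with hN
  have e2 : (𝓘₂.comap p).comap pr₁ = K₂' * L' := by
    rw [← comap_comp, hcond, comap_comp, ← hK₂, ModulusFun.comap_mul]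
  have e1 : ((𝓘₁ * 𝓘₁).comap p).comap pr₁ = (K₁' * L') * (K₁' * L') := by
    rw [← comap_comp, hcond, comap_comp, ModulusFun.comap_mul, ← hK₁, ModulusFun.comap_mul,
      ModulusFun.comap_mul]
  have hincl' : K₂' * L' ≤ (K₁' * L') * (K₁' * L') ⊔ N := by
    have := comap_mono pr₁ hincl
    simp only [comap_sup] at this
    rw [e1, e2] at this
    exact this
  have htop : K₁' ⊔ K₂' = ⊤ := by
    rw [hK₁', hK₂', ← comap_sup, hK, comap_top]
  have hle : L' ≤ K₁' * L' ⊔ N := by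
    calc L' = (K₁' ⊔ K₂') * L' := by rw [htop, top_mul]
      _ = K₁' * L' ⊔ K₂' * L' := inf_mul _ _ _
      _ ≤ K₁' * L' ⊔ ((K₁' * L') * (K₁' * L') ⊔ N) := sup_le_sup_left hincl' _
      _ ≤ K₁' * L' ⊔ N := by
        apply sup_le le_sup_left
        exact sup_le ((BlowUpClosureBC.mul_le_left' _ _).trans le_sup_left) le_sup_right
  rw [Set.disjoint_left]
  intro z hz1 hz2
  have hzK : z ∈ K₁'.support := (BlowUpSeparate.mem_support_comap K₁ pr₂ z).2 (hcl hz2)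
  obtain ⟨𝒩, hz𝒩, h𝒩⟩ := BlowUpSeparate.exists_nbhd_support_subset L' K₁' N
    (BlowUpFT.isFiniteTypeIdeal_comap pr₂ L hLft) hle z hzK
  obtain ⟨w, hw𝒩, y', rfl⟩ := mem_closure_iff.1 hz1 𝒩 𝒩.isOpen hz𝒩
  set w := (pullback.snd f pr₁) y' with hw
  have hfw : pr₁ w = f ((pullback.fst f pr₁) y') := by
    have := congrArg (fun g => g.base y') (pullback.condition (f := f) (g := pr₁))
    simpa using this.symm
  have hwN : w ∈ N.support := by
    apply (BlowUpSeparate.mem_support_comap f.ker pr₁ w).2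
    change pr₁ w ∈ (f.ker.support : Set Z)
    rw [Scheme.Hom.support_ker]
    apply subset_closure
    exact ⟨_, hfw.symm⟩
  have hwL : w ∈ L'.support := h𝒩 w hw𝒩 hwN
  have h3 : q (pr₂ w) ∈ (𝓘₁ ⊔ 𝓘₂).support :=
    (BlowUpSeparate.mem_support_comap _ q _).1 ((BlowUpSeparate.mem_support_comap L pr₂ w).1 hwL)
  have h4 : q (pr₂ w) = p (f ((pullback.fst f pr₁) y')) := by
    have := congrArg (fun g => g.base w) hcond
    simp only [Scheme.Hom.comp_base, TopCat.hom_comp, ContinuousMap.comp_apply] at this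
    rw [← this, hfw]
  rw [support_sup] at h3
  rw [h4] at h3
  exact Set.disjoint_left.1 h₁' h3.1 (hY ⟨_, rfl⟩)

end Groth.Agent.Lib.T2H6.BlowUpClosureImm
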