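import Groth.Agent.Lib.T2H6BlowUpFlatBC
import Groth.Agent.Lib.T2H6BlowUpAffine
import Groth.Prelude.Def_Curv2
import Groth.Prelude.Def_FEt

/-!
# Admissible blow-ups of the completion of a Noetherian local ring descend (S7304)
-/

set_option autoImplicit false
universe u

open CategoryTheory AlgebraicGeometry TopologicalSpace Topology Limits
open AlgebraicGeometry.Scheme.IdealSheafData

namespace Groth.Agent.Lib.T2H6.BlowUpCompletion

open IsLocalRing Groth.Agent.Lib.T2H6.BlowUpAffine

section Algebra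

variable (A : Type u) [CommRing A] [IsLocalRing A] [IsNoetherianRing A]

/-- every element of the completion is congruent to an element of `A` modulo `m^n Â`. -/
theorem exists_sub_mem (n : ℕ) (x : AdicCompletion (maximalIdeal A) A) :
    ∃ a : A, x - algebraMap A _ a ∈
      ((maximalIdeal A) ^ n).map (algebraMap A (AdicCompletion (maximalIdeal A) A)) := by
  obtain ⟨a, ha⟩ := Ideal.Quotient.mk_surjective (AdicCompletion.evalₐ (maximalIdeal A) n x)
  refine ⟨a, ?_⟩
  have h1 : AdicCompletion.evalₐ (maximalIdeal A) n (x - algebraMap A _ a) = 0 := by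
    rw [map_sub, AdicCompletion.algebraMap_apply, AdicCompletion.evalₐ_of, ← ha]
    simp
  have h2 : AdicCompletion.eval (maximalIdeal A) A n (x - algebraMap A _ a) = 0 := by
    rw [← AdicCompletion.factor_evalₐ_eq_eval _ _ (by simp), h1, map_zero]
  have h3 : x - algebraMap A _ a ∈
      ((maximalIdeal A) ^ n • ⊤ : Submodule A (AdicCompletion (maximalIdeal A) A)) := by
    rw [AdicCompletion.pow_smul_top_eq_ker_eval (IsNoetherian.noetherian _)]
    exact h2
  rw [Ideal.smul_top_eq_map] at h3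
  exact h3

theorem descend_ideal (J₀ : Ideal (AdicCompletion (maximalIdeal A) A))
    (hJ₀ : PrimeSpectrum.zeroLocus (J₀ : Set (AdicCompletion (maximalIdeal A) A)) ⊆
      {closedPoint (AdicCompletion (maximalIdeal A) A)}) :
    (J₀.comap (algebraMap A (AdicCompletion (maximalIdeal A) A))).map
        (algebraMap A (AdicCompletion (maximalIdeal A) A)) = J₀ ∧
      PrimeSpectrum.zeroLocus ((J₀.comap (algebraMap A (AdicCompletion (maximalIdeal A) A)) :
        Ideal A) : Set A) ⊆ {closedPoint A} := by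
  set φ := algebraMap A (AdicCompletion (maximalIdeal A) A) with hφ
  have hrad : (maximalIdeal A).map φ ≤ J₀.radical := by
    rw [← AdicCompletion.maximalIdeal_eq_map, Ideal.radical_eq_sInf]
    apply le_sInf
    rintro p ⟨hJp, hp⟩
    have : (⟨p, hp⟩ : PrimeSpectrum _) ∈ PrimeSpectrum.zeroLocus (J₀ : Set _) := hJp
    have h2 := hJ₀ this
    rw [Set.mem_singleton_iff] at h2
    have h3 := congrArg PrimeSpectrum.asIdeal h2
    simp only [closedPoint] at h3
    rw [h3]
  obtain ⟨n, hn⟩ := Ideal.exists_pow_le_of_le_radical_of_fg hrad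
    (Ideal.FG.map (IsNoetherian.noetherian _) φ)
  have hmn : ((maximalIdeal A) ^ n).map φ ≤ J₀ := by
    rw [Ideal.map_pow]; exact hn
  have hmn' : (maximalIdeal A) ^ n ≤ J₀.comap φ := Ideal.map_le_iff_le_comap.1 hmn
  refine ⟨le_antisymm Ideal.map_comap_le ?_, ?_⟩
  · intro x hx
    obtain ⟨a, ha⟩ := exists_sub_mem A n x
    have ha' : φ a ∈ J₀ := by
      have : φ a = x - (x - φ a) := by ring
      rw [this]
      exact J₀.sub_mem hx (hmn ha)
    have : x = φ a + (x - φ a) := by ring
    rw [this]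
    exact Ideal.add_mem _ (Ideal.mem_map_of_mem φ ha') (Ideal.map_mono hmn' ha)
  · intro p hp
    rw [Set.mem_singleton_iff]
    have h1 : (maximalIdeal A) ^ n ≤ p.asIdeal := hmn'.trans hp
    have h2 : maximalIdeal A ≤ p.asIdeal := p.isPrime.le_of_pow_le h1
    apply PrimeSpectrum.ext
    simp only [closedPoint]
    exact ((maximalIdeal.isMaximal A).eq_of_le p.isPrime.ne_top h2).symm

end Algebra


section Scheme

theorem coe_support_idl {R : Type u} [CommRing R] (I : Ideal R) :
    ((idl I).support : Set (Spec (CommRingCat.of R))) = PrimeSpectrum.zeroLocus (I : Set R) := by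
  rw [coe_support_ofIdealTop, Spec_zeroLocus]
  congr 1
  ext x
  simp only [Set.mem_preimage, SetLike.mem_coe]
  constructor
  · intro hx
    have := Ideal.mem_map_of_mem (Scheme.ΓSpecIso (CommRingCat.of R)).hom.hom hx
    rw [Ideal.map_map] at this
    have h1 : (Scheme.ΓSpecIso (CommRingCat.of R)).hom.hom.comp
        (Scheme.ΓSpecIso (CommRingCat.of R)).inv.hom = RingHom.id _ := by
      rw [← CommRingCat.hom_comp, Iso.inv_hom_id]; rfl
    rw [h1, Ideal.map_id] at this
    have h2 : (Scheme.ΓSpecIso (CommRingCat.of R)).hom.hom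
        ((Scheme.ΓSpecIso (CommRingCat.of R)).inv.hom x) = x := by
      rw [← RingHom.comp_apply, h1]; rfl
    rw [h2] at this
    exact this
  · intro hx
    exact Ideal.mem_map_of_mem _ hx

theorem eq_idl {R : Type u} [CommRing R] (J : (Spec (CommRingCat.of R)).IdealSheafData) :
    J = idl ((J.ideal ⟨⊤, isAffineOpen_top _⟩).map (Scheme.ΓSpecIso (CommRingCat.of R)).hom.hom) := by
  apply Scheme.IdealSheafData.ext_of_isAffine
  rw [idl_ideal_top, Ideal.map_map]
  have h1 : (Scheme.ΓSpecIso (CommRingCat.of R)).inv.hom.comp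
      (Scheme.ΓSpecIso (CommRingCat.of R)).hom.hom = RingHom.id _ := by
    rw [← CommRingCat.hom_comp, Iso.hom_inv_id]; rfl
  rw [h1, Ideal.map_id]

theorem comap_idl_SpecMap {R B : Type u} [CommRing R] [CommRing B] (φ : R →+* B) (I : Ideal R) :
    (idl I).comap (Spec.map (CommRingCat.ofHom φ)) = idl (I.map φ) := by
  apply Scheme.IdealSheafData.ext_of_isAffine
  rw [ideal_comap_top, idl_ideal_top, sharp_SpecMap, CommRingCat.hom_comp, ← Ideal.map_map]
  rfl

theorem isFiniteTypeIdeal_idl {R : Type u} [CommRing R] (I : Ideal R) (hI : I.FG) :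
    BlowUp.IsFiniteTypeIdeal (idl I) := by
  intro U
  rw [ofIdealTop_ideal]
  exact Ideal.FG.map (Ideal.FG.map hI _) _

theorem main (A : Type u) [CommRing A] [IsLocalRing A] [IsNoetherianRing A]
    (Y : Scheme.{u}) (c : Y ⟶ Spec (CommRingCat.of (Curv2.cpl A)))
    (J : (Spec (CommRingCat.of (Curv2.cpl A))).IdealSheafData)
    (hJ : BlowUp.IsAdmissibleFor (FEt.puncturedSpec (Curv2.cpl A)) J) (hc : BlowUp.IsBlowUp c J) :
    ∃ (I : (Spec (CommRingCat.of A)).IdealSheafData) (X : Scheme.{u})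
      (b : X ⟶ Spec (CommRingCat.of A)),
      BlowUp.IsAdmissibleFor (FEt.puncturedSpec A) I ∧ BlowUp.IsBlowUp b I ∧
      ∃ e : Y ≅ Curv2.bcCpl A b, e.hom ≫ Curv2.bcCplSnd A b = c := by
  set J₀ : Ideal (Curv2.cpl A) :=
    (J.ideal ⟨⊤, isAffineOpen_top _⟩).map (Scheme.ΓSpecIso (CommRingCat.of (Curv2.cpl A))).hom.hom
    with hJ₀
  have hJeq : J = idl J₀ := eq_idl J
  have hsupp : PrimeSpectrum.zeroLocus (J₀ : Set (Curv2.cpl A)) ⊆ {closedPoint (Curv2.cpl A)} := by
    rw [← coe_support_idl, ← hJeq]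
    intro x hx
    by_contra hne
    exact Set.disjoint_left.1 hJ.2 hx hne
  obtain ⟨h1, h2⟩ := descend_ideal A J₀ hsupp
  set I₀ : Ideal A := J₀.comap (algebraMap A (Curv2.cpl A)) with hI₀
  obtain ⟨X, b, hb⟩ := BlowUpGlue.exists_isBlowUp (Spec (CommRingCat.of A)) (idl I₀)
  refine ⟨idl I₀, X, b, ⟨isFiniteTypeIdeal_idl I₀ (IsNoetherian.noetherian _), ?_⟩, hb, ?_⟩
  · rw [Set.disjoint_left]
    intro x hx hx'
    rw [coe_support_idl] at hx
    exact hx' (h2 hx)
  · haveI : Flat (Spec.map (CommRingCat.ofHom (algebraMap A (Curv2.cpl A)))) := by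
      rw [Flat.SpecMap_iff]
      exact (RingHom.flat_algebraMap_iff).2 inferInstance
    have hbc := BlowUpFlatBC.isBlowUp_snd_of_flat b (idl I₀) hb
      (Spec.map (CommRingCat.ofHom (algebraMap A (Curv2.cpl A))))
    rw [comap_idl_SpecMap, h1, ← hJeq] at hbc
    exact BlowUpFlatBC.exists_iso_of_isBlowUp c _ J hc hbc

end Scheme

end Groth.Agent.Lib.T2H6.BlowUpCompletion
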