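-- helper6 (team 2): finitely many admissible blow-ups are dominated by one admissible blow-up.
import Mathlib
import Groth.Prelude.Def_BlowUp2
import Groth.Agent.Lib.T2H6BlowUpMul
import Groth.Agent.Lib.T2H6BlowUpFT

set_option autoImplicit false
set_option backward.isDefEq.respectTransparency false
set_option backward.isDefEq.respectTransparency.types false
open CategoryTheory CategoryTheory.Limits AlgebraicGeometry

universe u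

namespace Groth.Agent.Lib.T2H6.BlowUpDominate

open Groth.Agent.Lib.T2H6.BlowUpMul Groth.Agent.Lib.T2H6.BlowUpFT
open Groth.Agent.Lib.T2H6.BlowUpGlue Groth.Agent.Lib.T2H6.BlowUpCoprime

theorem main (X : Scheme.{u}) (U : X.Opens) {n : ℕ} (Xi : Fin n → Scheme.{u})
    (b : ∀ i, Xi i ⟶ X) (𝓘 : Fin n → X.IdealSheafData)
    (hb : ∀ i, BlowUp.IsBlowUp (b i) (𝓘 i)) (ha : ∀ i, BlowUp.IsAdmissibleFor U (𝓘 i)) :
    ∃ (𝓙 : X.IdealSheafData) (X' : Scheme.{u}) (c : X' ⟶ X), BlowUp.IsBlowUp c 𝓙 ∧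
      BlowUp.IsAdmissibleFor U 𝓙 ∧
      ∀ i, ∃ (g : X' ⟶ Xi i) (𝓚 : (Xi i).IdealSheafData), g ≫ b i = c ∧ BlowUp.IsBlowUp g 𝓚 ∧
        BlowUp.IsAdmissibleFor ((b i) ⁻¹ᵁ U) 𝓚 := by
  classical
  obtain ⟨X', c, hc⟩ := exists_isBlowUp X (∏ i, 𝓘 i)
  refine ⟨∏ i, 𝓘 i, X', c, hc, isAdmissibleFor_prod _ _ _ (fun i _ => ha i), fun i => ?_⟩
  have h𝓙 : ∏ i, 𝓘 i = 𝓘 i * ∏ j ∈ Finset.univ.erase i, 𝓘 j :=
    (Finset.mul_prod_erase Finset.univ 𝓘 (Finset.mem_univ i)).symm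
  obtain ⟨X'', b'', hb''⟩ := exists_isBlowUp (Xi i)
    ((∏ j ∈ Finset.univ.erase i, 𝓘 j).comap (b i))
  have hcomp : BlowUp.IsBlowUp (b'' ≫ b i) (∏ i, 𝓘 i) := by
    rw [h𝓙]
    exact isBlowUp_comp_of_mul (b i) (𝓘 i) _ (hb i) b'' hb''
  obtain ⟨ι, hι, hιc⟩ := exists_isIso_of_isBlowUp _ c hc (b'' ≫ b i) hcomp
  refine ⟨ι ≫ b'', (∏ j ∈ Finset.univ.erase i, 𝓘 j).comap (b i), ?_,
    isBlowUp_iso_comp ι b'' _ hb'',
    isAdmissibleFor_comap (b i) _ U (isAdmissibleFor_prod _ _ _ (fun j _ => ha j))⟩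
  rw [Category.assoc]
  exact hιc

end Groth.Agent.Lib.T2H6.BlowUpDominate
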