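-- helper6 (team 2): extending an admissible blow-up from a quasi-compact open (Raynaud–Gruson).
import Mathlib
import Groth.Prelude.Def_BlowUp2
import Groth.Agent.Lib.Helper22FTIdeal
import Groth.Agent.Lib.Helper20EffCartier
import Groth.Agent.Lib.T2H6BlowUpGlue
import Groth.Agent.Lib.T2H6BlowUpSeparate

set_option autoImplicit false
set_option backward.isDefEq.respectTransparency false
set_option backward.isDefEq.respectTransparency.types false
open CategoryTheory CategoryTheory.Limits AlgebraicGeometry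

universe u

namespace Groth.Agent.Lib.T2H6.BlowUpExtend

open Scheme.IdealSheafData Groth.Agent.Lib.Helper22.FTIdeal

/-- pushing forward and restricting an ideal sheaf along a quasi-compact open immersion. -/
theorem comap_map_of_isOpenImmersion {X Y : Scheme.{u}} (f : X ⟶ Y) [IsOpenImmersion f]
    [QuasiCompact f] (I : X.IdealSheafData) : (I.map f).comap f = I := by
  apply le_antisymm (comap_map_le I f)
  intro W x hx
  rw [ideal_comap_of_isOpenImmersion, Ideal.mem_comap]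
  have hA : IsAffineOpen (f ⁻¹ᵁ (f ''ᵁ W.1)) := by
    rw [Scheme.Hom.preimage_image_eq]
    exact W.2
  rw [ideal_map I f ⟨f ''ᵁ W.1, W.2.image_of_isOpenImmersion f⟩ hA, Ideal.mem_comap]
  have e := Scheme.Hom.appIso_inv_app_apply f W.1 x
  rw [e]
  have h2 := I.map_ideal' (U := ⟨f ⁻¹ᵁ (f ''ᵁ W.1), hA⟩) (V := W)
    (eqToHom (Scheme.Hom.preimage_image_eq f W.1)).op
  rw [← h2]
  exact Ideal.mem_map_of_mem _ hx

/-- the kernel of a quasi-compact morphism is the unit ideal on affine opens missing the image. -/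
theorem ker_ideal_eq_top {Z X : Scheme.{u}} (g : Z ⟶ X) [QuasiCompact g] (W : X.affineOpens)
    (h : ∀ z : Z, g z ∉ W.1) : g.ker.ideal W = ⊤ := by
  rw [Scheme.Hom.ker_apply, eq_top_iff]
  intro r _
  rw [RingHom.mem_ker]
  have hbot : g ⁻¹ᵁ W.1 = ⊥ := by
    ext z
    simp only [TopologicalSpace.Opens.coe_bot, Set.mem_empty_iff_false, iff_false]
    exact h z
  have : Subsingleton Γ(Z, g ⁻¹ᵁ W.1) := by
    rw [hbot]
    infer_instance
  exact Subsingleton.elim _ _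

theorem main (X : Scheme.{u}) [CompactSpace X] [QuasiSeparatedSpace X] (U V : X.Opens)
    (hU : IsCompact (U : Set X)) (hV : IsCompact (V : Set X))
    (𝓘 : (V : Scheme.{u}).IdealSheafData) (h𝓘 : BlowUp.IsAdmissibleFor (V.ι ⁻¹ᵁ U) 𝓘) :
    ∃ 𝓙 : X.IdealSheafData, BlowUp.IsAdmissibleFor U 𝓙 ∧ 𝓙.comap V.ι = 𝓘 ∧
      ∀ (X' : Scheme.{u}) (c : X' ⟶ X), BlowUp.IsBlowUp c 𝓙 → BlowUp.IsBlowUp (c ∣_ V) 𝓘 := by
  classical
  haveI : CompactSpace V := isCompact_iff_compactSpace.1 hV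
  haveI : QuasiCompact V.ι := quasiCompact_of_compactSpace V.ι
  haveI : QuasiCompact (𝓘.subschemeι ≫ V.ι) := inferInstance
  have hcomap : (𝓘.map V.ι).comap V.ι = 𝓘 := comap_map_of_isOpenImmersion V.ι 𝓘
  have hftU : FTOn (𝓘.map V.ι) U := by
    intro W hW
    have htop : (𝓘.map V.ι).ideal W = ⊤ :=
      ker_ideal_eq_top (𝓘.subschemeι ≫ V.ι) W (fun z hz => by
        have h1 : 𝓘.subschemeι z ∈ (𝓘.support : Set V) := by
          rw [← range_subschemeι]
          exact ⟨z, rfl⟩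
        have h2 : 𝓘.subschemeι z ∈ ((V.ι ⁻¹ᵁ U : V.toScheme.Opens) : Set V) := hW hz
        exact Set.disjoint_left.1 h𝓘.2 h1 h2)
    rw [htop]
    exact ⟨{1}, by simp⟩
  have hftV : FTOn (𝓘.map V.ι) V := by
    intro W hW
    have hWr : W.1 ≤ V.ι.opensRange := by
      rw [Scheme.Opens.opensRange_ι]
      exact hW
    have hW' : IsAffineOpen (V.ι ⁻¹ᵁ W.1) := W.2.preimage_of_isOpenImmersion V.ι hWr
    have hmap := Groth.Agent.Lib.Helper20.EffCartier.ideal_comap_eq_map V.ι (𝓘.map V.ι) hW' W.2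
      (le_refl _)
    rw [hcomap] at hmap
    have hfg : ((𝓘.map V.ι).ideal ⟨W.1, W.2⟩).map
        (V.ι.appLE W.1 (V.ι ⁻¹ᵁ W.1) (le_refl _)).hom |>.FG := by
      rw [← hmap]
      exact h𝓘.1 ⟨_, hW'⟩
    haveI hiso : IsIso (V.ι.appLE W.1 (V.ι ⁻¹ᵁ W.1) (le_refl _)) := by
      rw [Scheme.Hom.appLE]
      haveI := Scheme.Hom.isIso_app V.ι W.1 hWr
      have h2 : IsIso ((V : Scheme.{u}).presheaf.map (homOfLE (le_refl (V.ι ⁻¹ᵁ W.1))).op) := by
        have : homOfLE (le_refl (V.ι ⁻¹ᵁ W.1)) = 𝟙 _ := Subsingleton.elim _ _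
        rw [this, op_id, CategoryTheory.Functor.map_id]
        infer_instance
      infer_instance
    have hback := hfg.map (inv (V.ι.appLE W.1 (V.ι ⁻¹ᵁ W.1) (le_refl _))).hom
    rw [Ideal.map_map, ← CommRingCat.hom_comp, IsIso.hom_inv_id, CommRingCat.hom_id,
      Ideal.map_id] at hback
    exact hback
  have hftUV : FTOn (𝓘.map V.ι) (U ⊔ V) := hftU.sup hftV
  have hUVc : IsCompact ((U ⊔ V : X.Opens) : Set X) := hU.union hV
  obtain ⟨s, hs, hsX⟩ := isCompact_iff_finite_and_eq_biUnion_affineOpens.mp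
    (show IsCompact ((⊤ : X.Opens) : Set X) from isCompact_univ)
  obtain ⟨𝓙, h𝓙le, h𝓙ft, h𝓙eq⟩ := extend_finset hs.toFinset (𝓘.map V.ι) (U ⊔ V) hUVc hftUV
  have htopcov : (U ⊔ V) ⊔ ⨆ W ∈ hs.toFinset, (W : X.Opens) = ⊤ := by
    rw [eq_top_iff]
    intro x _
    have hx : x ∈ (⊤ : X.Opens) := trivial
    rw [hsX] at hx
    obtain ⟨W, hx'⟩ := TopologicalSpace.Opens.mem_iSup.1 hx
    obtain ⟨hWs, hxW⟩ := TopologicalSpace.Opens.mem_iSup.1 hx'
    refine Or.inr ?_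
    exact TopologicalSpace.Opens.mem_iSup.2 ⟨W, TopologicalSpace.Opens.mem_iSup.2
      ⟨hs.mem_toFinset.2 hWs, hxW⟩⟩
  have h𝓙FT : BlowUp.IsFiniteTypeIdeal 𝓙 := by
    rw [htopcov] at h𝓙ft
    exact ft_iff_ftOn_top.2 h𝓙ft
  have h𝓙V : 𝓙.comap V.ι = 𝓘 := by
    rw [← hcomap]
    refine ext_of_iSup_eq_top (fun W : (V : Scheme.{u}).affineOpens => W) ?_ (fun W => ?_)
    · rw [eq_top_iff]
      intro x _
      obtain ⟨_, ⟨W, hW, rfl⟩, hxW, -⟩ :=
        (V : Scheme.{u}).isBasis_affineOpens.exists_subset_of_mem_open (Set.mem_univ x) isOpen_univ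
      exact TopologicalSpace.Opens.mem_iSup.2 ⟨⟨W, hW⟩, hxW⟩
    · rw [ideal_comap_of_isOpenImmersion, ideal_comap_of_isOpenImmersion]
      congr 1
      apply h𝓙eq
      refine le_trans ?_ le_sup_right
      rintro _ ⟨y, -, rfl⟩
      exact y.2
  have h𝓙U : Disjoint (𝓙.support : Set X) (U : Set X) := by
    rw [Set.disjoint_left]
    intro x hx hxU
    obtain ⟨_, ⟨W, hW, rfl⟩, hxW, hWU⟩ :=
      X.isBasis_affineOpens.exists_subset_of_mem_open hxU U.isOpen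
    have hWU' : (⟨W, hW⟩ : X.affineOpens).1 ≤ U := hWU
    have h1 : 𝓙.ideal ⟨W, hW⟩ = ⊤ := by
      rw [h𝓙eq ⟨W, hW⟩ (le_trans hWU' le_sup_left)]
      exact ker_ideal_eq_top (𝓘.subschemeι ≫ V.ι) ⟨W, hW⟩ (fun z hz => by
        have h1 : 𝓘.subschemeι z ∈ (𝓘.support : Set V) := by
          rw [← range_subschemeι]
          exact ⟨z, rfl⟩
        have h2 : 𝓘.subschemeι z ∈ ((V.ι ⁻¹ᵁ U : V.toScheme.Opens) : Set V) := hWU' hz
        exact Set.disjoint_left.1 h𝓘.2 h1 h2)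
    have hx' : x ∈ 𝓙.support := hx
    rw [mem_support_iff_of_mem (U := ⟨W, hW⟩) hxW, Scheme.mem_zeroLocus_iff] at hx'
    refine hx' 1 (by rw [h1]; trivial) ?_
    rw [Scheme.basicOpen_of_isUnit _ isUnit_one]
    exact hxW
  refine ⟨𝓙, ⟨h𝓙FT, h𝓙U⟩, h𝓙V, fun X' c hc => ?_⟩
  have hpb := isPullback_morphismRestrict c V
  have := Groth.Agent.Lib.T2H6.BlowUpGlue.isBlowUp_of_isPullback_of_isOpenImmersion c 𝓙 hc V.ι
    (c ∣_ V) (c ⁻¹ᵁ V).ι hpb
  rw [h𝓙V] at this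
  exact this

end Groth.Agent.Lib.T2H6.BlowUpExtend
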