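-- helper6 (team 2): if `A ⊆ B`, `I B ⊆ I` and `I B` is generated by a nonzerodivisor, then
-- `Spec B ⟶ Spec A` is a blowing up of `Spec A` in `I`.
import Mathlib
import Groth.Prelude.Def_BlowUp2
import Groth.Agent.Lib.T2H6BlowUpLocal
import Groth.Agent.Lib.T2H6BlowUpAffine

set_option autoImplicit false
set_option backward.isDefEq.respectTransparency false
set_option backward.isDefEq.respectTransparency.types false
open CategoryTheory CategoryTheory.Limits AlgebraicGeometry nonZeroDivisors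

universe u

namespace Groth.Agent.Lib.T2H6.BlowUpFree

section Ring

variable {A B : Type*} [CommRing A] [CommRing B] [Algebra A B]
  (hinj : Function.Injective (algebraMap A B)) (I : Ideal A)
  (hIB : (Ideal.map (algebraMap A B) I : Set B) ⊆ algebraMap A B '' (I : Set A))
  (f : B) (hf : f ∈ nonZeroDivisors B) (hgen : Ideal.map (algebraMap A B) I = Ideal.span {f})

include hIB hgen in
theorem exists_alpha (b : B) : ∃ x ∈ I, algebraMap A B x = f * b := by
  have h1 : f * b ∈ Ideal.map (algebraMap A B) I := by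
    rw [hgen]; exact Ideal.mul_mem_right _ _ (Ideal.subset_span (Set.mem_singleton f))
  obtain ⟨x, hx, hxe⟩ := hIB h1
  exact ⟨x, hx, hxe⟩

include hgen in
theorem exists_beta (x : A) (hx : x ∈ I) : ∃ β : B, algebraMap A B x = f * β := by
  have h1 : algebraMap A B x ∈ Ideal.span {f} := by
    rw [← hgen]; exact Ideal.mem_map_of_mem _ hx
  obtain ⟨β, hβ⟩ := Ideal.mem_span_singleton'.1 h1
  exact ⟨β, by rw [← hβ, mul_comm]⟩

variable {C : Type*} [CommRing C] (γ : A →+* C) (c : C) (hc : c ∈ C⁰)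
  (hγ : Ideal.map γ I = Ideal.span {c})

include hγ in
theorem exists_mul_eq (x : A) (hx : x ∈ I) : ∃ u : C, γ x = c * u := by
  have h1 : γ x ∈ Ideal.span {c} := by
    rw [← hγ]; exact Ideal.mem_map_of_mem _ hx
  obtain ⟨u, hu⟩ := Ideal.mem_span_singleton'.1 h1
  exact ⟨u, by rw [← hu, mul_comm]⟩

include hc hγ in
theorem span_T_eq_top : Ideal.span {u : C | ∃ x ∈ I, γ x = c * u} = ⊤ := by
  have key : ∀ y ∈ Ideal.map γ I, ∃ v ∈ Ideal.span {u : C | ∃ x ∈ I, γ x = c * u}, y = c * v := by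
    intro y hy
    refine Submodule.span_induction ?_ ?_ ?_ ?_ hy
    · rintro _ ⟨x, hx, rfl⟩
      obtain ⟨u, hu⟩ := exists_mul_eq I γ c hγ x hx
      exact ⟨u, Ideal.subset_span ⟨x, hx, hu⟩, hu⟩
    · exact ⟨0, Ideal.zero_mem _, by rw [mul_zero]⟩
    · rintro _ _ _ _ ⟨v₁, hv₁, rfl⟩ ⟨v₂, hv₂, rfl⟩
      exact ⟨v₁ + v₂, Ideal.add_mem _ hv₁ hv₂, by rw [mul_add]⟩
    · rintro r _ _ ⟨v, hv, rfl⟩
      exact ⟨r * v, Ideal.mul_mem_left _ _ hv, by rw [smul_eq_mul]; ring⟩
  have hcmem : c ∈ Ideal.map γ I := by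
    rw [hγ]; exact Ideal.subset_span (Set.mem_singleton c)
  obtain ⟨v, hv, hcv⟩ := key c hcmem
  have h1 : v = 1 := by
    have h2 : c * v = c * 1 := by rw [← hcv, mul_one]
    exact (mul_cancel_left_mem_nonZeroDivisors hc).1 h2
  rw [Ideal.eq_top_iff_one, ← h1]
  exact hv

include hinj hIB hf hgen hc hγ in
/-- the image of a generator `a₀` of `I B` generates `I C`. -/
theorem isUnit_of_gen (a₀ : A) (ha₀ : algebraMap A B a₀ = f) (u₀ : C) (hu₀ : γ a₀ = c * u₀) :
    IsUnit u₀ := by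
  have hsq := Ideal.span_pow_eq_top _ (span_T_eq_top I γ c hc hγ) 2
  have hle : Ideal.span ((fun x : C => x ^ 2) '' {u : C | ∃ x ∈ I, γ x = c * u}) ≤
      Ideal.span {u₀} := by
    rw [Ideal.span_le]
    rintro _ ⟨u, ⟨x, hx, hxu⟩, rfl⟩
    obtain ⟨β, hβ⟩ := exists_beta I f hgen x hx
    obtain ⟨z, hz, hze⟩ := exists_alpha I hIB f hgen (β * β)
    obtain ⟨w, hw⟩ := exists_mul_eq I γ c hγ z hz
    have h1 : x * x = a₀ * z := by
      apply hinj
      rw [map_mul, map_mul, hβ, ha₀, hze]; ring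
    have h2 : c * c * (u ^ 2) = c * c * (u₀ * w) := by
      have h3 := congrArg γ h1
      rw [map_mul, map_mul, hxu, hu₀, hw] at h3
      calc c * c * (u ^ 2) = c * u * (c * u) := by ring
        _ = c * u₀ * (c * w) := h3
        _ = c * c * (u₀ * w) := by ring
    have h4 : u ^ 2 = u₀ * w := (mul_cancel_left_mem_nonZeroDivisors (mul_mem hc hc)).1 h2
    change u ^ 2 ∈ Ideal.span {u₀}
    rw [h4]
    exact Ideal.mul_mem_right _ _ (Ideal.subset_span (Set.mem_singleton u₀))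
  rw [hsq, top_le_iff] at hle
  exact Ideal.span_singleton_eq_top.1 hle

include hinj hIB hf hgen hc hγ in
theorem gen_spec (a₀ : A) (ha₀I : a₀ ∈ I) (ha₀ : algebraMap A B a₀ = f) :
    γ a₀ ∈ C⁰ ∧ Ideal.map γ I = Ideal.span {γ a₀} := by
  obtain ⟨u₀, hu₀⟩ := exists_mul_eq I γ c hγ a₀ ha₀I
  have hu := isUnit_of_gen hinj I hIB f hf hgen γ c hc hγ a₀ ha₀ u₀ hu₀
  refine ⟨?_, ?_⟩
  · rw [hu₀]
    exact mul_mem hc hu.mem_nonZeroDivisors
  · rw [hγ, hu₀]
    exact (Ideal.span_singleton_mul_right_unit hu c).symm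

include hinj hIB hf hgen hc hγ in
/-- uniqueness of `A`-algebra maps `B → C`. -/
theorem hom_unique (δ₁ δ₂ : B →+* C) (h₁ : δ₁.comp (algebraMap A B) = γ)
    (h₂ : δ₂.comp (algebraMap A B) = γ) : δ₁ = δ₂ := by
  obtain ⟨a₀, ha₀I, ha₀⟩ := exists_alpha I hIB f hgen 1
  rw [mul_one] at ha₀
  obtain ⟨hn, -⟩ := gen_spec hinj I hIB f hf hgen γ c hc hγ a₀ ha₀I ha₀
  ext b
  obtain ⟨x, hx, hxe⟩ := exists_alpha I hIB f hgen b
  have e₁ : γ a₀ * δ₁ b = γ x := by
    rw [← h₁, RingHom.comp_apply, RingHom.comp_apply, ← map_mul, ha₀, ← hxe]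
  have e₂ : γ a₀ * δ₂ b = γ x := by
    rw [← h₂, RingHom.comp_apply, RingHom.comp_apply, ← map_mul, ha₀, ← hxe]
  exact (mul_cancel_left_mem_nonZeroDivisors hn).1 (e₁.trans e₂.symm)

include hinj hIB hf hgen hc hγ in
/-- existence of an `A`-algebra map `B → C`. -/
theorem exists_hom : ∃ δ : B →+* C, δ.comp (algebraMap A B) = γ := by
  obtain ⟨a₀, ha₀I, ha₀⟩ := exists_alpha I hIB f hgen 1
  rw [mul_one] at ha₀
  obtain ⟨hn, hspan⟩ := gen_spec hinj I hIB f hf hgen γ c hc hγ a₀ ha₀I ha₀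
  -- `α b ∈ I` with `algebraMap (α b) = f * b`
  choose α hαI hα using exists_alpha I hIB f hgen
  have hd : ∀ b : B, ∃ d : C, γ a₀ * d = γ (α b) := by
    intro b
    obtain ⟨d, hd⟩ := exists_mul_eq I γ (γ a₀) hspan (α b) (hαI b)
    exact ⟨d, hd.symm⟩
  choose δ hδ using hd
  have cancel : ∀ {p q : C}, γ a₀ * p = γ a₀ * q → p = q :=
    fun h => (mul_cancel_left_mem_nonZeroDivisors hn).1 h
  have hα1 : α 1 = a₀ := hinj (by rw [hα, mul_one, ha₀])
  have hαmul : ∀ b b', a₀ * α (b * b') = α b * α b' := by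
    intro b b'
    apply hinj
    rw [map_mul, map_mul, hα, hα, hα, ha₀]; ring
  have hαadd : ∀ b b', α (b + b') = α b + α b' := by
    intro b b'
    apply hinj
    rw [map_add, hα, hα, hα]; ring
  have hαalg : ∀ r, α (algebraMap A B r) = a₀ * r := by
    intro r
    apply hinj
    rw [map_mul, hα, ha₀]
  have hδ1 : δ 1 = 1 := cancel (by rw [hδ, hα1, mul_one])
  have hδmul : ∀ b b', δ (b * b') = δ b * δ b' := by
    intro b b'
    apply cancel
    apply cancel
    calc γ a₀ * (γ a₀ * δ (b * b')) = γ (a₀ * α (b * b')) := by rw [hδ, map_mul]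
      _ = γ (α b) * γ (α b') := by rw [hαmul, map_mul]
      _ = γ a₀ * δ b * (γ a₀ * δ b') := by rw [hδ, hδ]
      _ = γ a₀ * (γ a₀ * (δ b * δ b')) := by ring
  have hδadd : ∀ b b', δ (b + b') = δ b + δ b' := by
    intro b b'
    apply cancel
    rw [hδ, hαadd, map_add, mul_add, hδ, hδ]
  have hδ0 : δ 0 = 0 := by
    have := hδadd 0 0
    rw [add_zero] at this
    exact left_eq_add.1 this
  refine ⟨{ toFun := δ, map_one' := hδ1, map_mul' := hδmul, map_zero' := hδ0,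
            map_add' := hδadd }, ?_⟩
  ext r
  change δ (algebraMap A B r) = γ r
  apply cancel
  rw [hδ, hαalg, map_mul]

end Ring

section Scheme

open Scheme.IdealSheafData Groth.Agent.Lib.T2H6.BlowUpAffine

variable (A B : Type u) [CommRing A] [CommRing B] [Algebra A B]
  (hinj : Function.Injective (algebraMap A B)) (I : Ideal A)
  (hIB : (Ideal.map (algebraMap A B) I : Set B) ⊆ algebraMap A B '' (I : Set A))
  (f : B) (hf : f ∈ nonZeroDivisors B) (hgen : Ideal.map (algebraMap A B) I = Ideal.span {f})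

include hinj hIB hf hgen in
theorem main :
    BlowUp.IsBlowUp (Spec.map (CommRingCat.ofHom (algebraMap A B))) (idl I) := by
  apply Groth.Agent.Lib.T2H6.BlowUpLocal.isBlowUp_of_local
  · intro x
    obtain ⟨t, ht, hgen'⟩ := exists_gen_top_SpecMap I (algebraMap A B) f hf hgen
    exact ⟨⟨⊤, isAffineOpen_top _⟩, trivial, t, ht, hgen'⟩
  · intro Y k₁ k₂ hk hE
    apply Scheme.hom_ext_of_forall
    intro y
    obtain ⟨V, hyV, t, ht, hVt⟩ := hE y
    obtain ⟨c, hc, hgen'⟩ := exists_gen_restrict _ V t ht hVt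
    haveI : IsAffine (V.1 : Scheme.{u}) := V.2
    rw [← comap_comp, ideal_comap_top] at hgen'
    refine ⟨V.1, hyV, ?_⟩
    apply sharp_injective
    have e₁ : sharp (V.1.ι ≫ k₁ ≫ Spec.map (CommRingCat.ofHom (algebraMap A B))) =
        CommRingCat.ofHom (algebraMap A B) ≫ sharp (V.1.ι ≫ k₁) := by
      rw [← Category.assoc, sharp_comp_SpecMap]
    have e₂ : sharp (V.1.ι ≫ k₁ ≫ Spec.map (CommRingCat.ofHom (algebraMap A B))) =
        CommRingCat.ofHom (algebraMap A B) ≫ sharp (V.1.ι ≫ k₂) := by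
      rw [hk, ← Category.assoc, sharp_comp_SpecMap]
    apply CommRingCat.hom_ext
    exact hom_unique hinj I hIB f hf hgen
      (sharp (V.1.ι ≫ k₁ ≫ Spec.map (CommRingCat.ofHom (algebraMap A B)))).hom c hc hgen'
      _ _ (by rw [e₁]; rfl) (by rw [e₂]; rfl)
  · intro Y g hg y
    obtain ⟨V, hyV, t, ht, hVt⟩ := hg y
    obtain ⟨c, hc, hgen'⟩ := exists_gen_restrict _ V t ht hVt
    haveI : IsAffine (V.1 : Scheme.{u}) := V.2
    rw [← comap_comp, ideal_comap_top] at hgen'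
    obtain ⟨δ, hδ⟩ := exists_hom hinj I hIB f hf hgen (sharp (V.1.ι ≫ g)).hom c hc hgen'
    refine ⟨V.1, (V.1 : Scheme.{u}).toSpecΓ ≫ Spec.map (CommRingCat.ofHom δ), hyV, ?_⟩
    rw [Category.assoc, ← Spec.map_comp]
    conv_rhs => rw [eq_toSpecΓ_sharp (V.1.ι ≫ g)]
    congr 2
    apply CommRingCat.hom_ext
    exact hδ

end Scheme

end Groth.Agent.Lib.T2H6.BlowUpFree
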