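-- helper6 (team 2): a finite birational morphism of reduced Noetherian schemes which is an
-- isomorphism off an effective Cartier divisor is a blowing up.
import Mathlib
import Groth.Prelude.Def_BlowUp2
import Groth.Agent.Lib.Helper20EffCartier
import Groth.Agent.Lib.T2H6BlowUpFree
import Groth.Agent.Lib.T2H6BlowUpGlue
import Groth.Agent.Lib.T2H6BlowUpMul

set_option autoImplicit false
set_option backward.isDefEq.respectTransparency false
set_option backward.isDefEq.respectTransparency.types false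
open CategoryTheory CategoryTheory.Limits AlgebraicGeometry nonZeroDivisors

universe u

namespace Groth.Agent.Lib.T2H6.BlowUpFiniteBir

section Ring

variable {A B : Type*} [CommRing A] [CommRing B] [Algebra A B] (t : A)

/-- the conductor-type ideal `A ∩ tⁿ B`. -/
def cond (n : ℕ) : Ideal A := Ideal.comap (algebraMap A B) (Ideal.span {algebraMap A B t ^ n})

variable (B) in
theorem injective_of (ht : t ∈ A⁰)
    (h0 : ∀ a : A, algebraMap A B a = 0 → ∃ k : ℕ, t ^ k * a = 0) :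
    Function.Injective (algebraMap A B) := by
  rw [injective_iff_map_eq_zero]
  intro a ha
  obtain ⟨k, hk⟩ := h0 a ha
  exact (mem_nonZeroDivisors_iff.1 (pow_mem ht k)).1 a hk

/-- the conductor condition holds for some exponent. -/
theorem exists_pow_mul_mem_range [Module.Finite A B]
    (h1 : ∀ b : B, ∃ (a : A) (k : ℕ), algebraMap A B a = algebraMap A B t ^ k * b) :
    ∃ n : ℕ, ∀ m, n ≤ m → ∀ b : B, ∃ a : A, algebraMap A B a = algebraMap A B t ^ m * b := by
  obtain ⟨s, hs⟩ := (Module.Finite.fg_top : (⊤ : Submodule A B).FG)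
  choose a k hak using h1
  refine ⟨s.sup k, fun m hm b => ?_⟩
  have hb : b ∈ Submodule.span A (s : Set B) := by rw [hs]; trivial
  refine Submodule.span_induction ?_ ?_ ?_ ?_ hb
  · intro x hx
    have hkx : k x ≤ m := (Finset.le_sup hx).trans hm
    refine ⟨t ^ (m - k x) * a x, ?_⟩
    rw [map_mul, map_pow, hak, ← mul_assoc, ← pow_add, Nat.sub_add_cancel hkx]
  · exact ⟨0, by rw [map_zero, mul_zero]⟩
  · rintro x y _ _ ⟨ax, hax⟩ ⟨ay, hay⟩
    exact ⟨ax + ay, by rw [map_add, hax, hay, mul_add]⟩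
  · rintro r x _ ⟨ax, hax⟩
    exact ⟨r * ax, by rw [map_mul, hax, Algebra.smul_def]; ring⟩

variable (B) in
theorem pow_mem_cond (n : ℕ) : t ^ n ∈ cond (B := B) t n := by
  rw [cond, Ideal.mem_comap, map_pow]
  exact Ideal.subset_span (Set.mem_singleton _)

theorem map_cond (n : ℕ) :
    Ideal.map (algebraMap A B) (cond (B := B) t n) = Ideal.span {algebraMap A B t ^ n} := by
  apply le_antisymm
  · exact Ideal.map_comap_le
  · rw [Ideal.span_le, Set.singleton_subset_iff, ← map_pow]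
    exact Ideal.mem_map_of_mem _ (pow_mem_cond B t n)

theorem map_cond_subset (n : ℕ)
    (hn : ∀ b : B, ∃ a : A, algebraMap A B a = algebraMap A B t ^ n * b) :
    (Ideal.map (algebraMap A B) (cond (B := B) t n) : Set B) ⊆
      algebraMap A B '' (cond (B := B) t n : Set A) := by
  intro x hx
  rw [SetLike.mem_coe, map_cond] at hx
  obtain ⟨b, rfl⟩ := Ideal.mem_span_singleton'.1 hx
  obtain ⟨a, ha⟩ := hn b
  refine ⟨a, ?_, by rw [ha, mul_comm]⟩
  rw [SetLike.mem_coe, cond, Ideal.mem_comap, ha]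
  exact Ideal.mul_mem_right _ _ (Ideal.subset_span (Set.mem_singleton _))

/-- elements of the conductor ideal have their square in `(t)`. -/
theorem sq_mem_span_of_mem_cond (hinj : Function.Injective (algebraMap A B)) (n : ℕ) (hn1 : 1 ≤ n)
    (hn : ∀ b : B, ∃ a : A, algebraMap A B a = algebraMap A B t ^ n * b)
    (x : A) (hx : x ∈ cond (B := B) t n) : x ^ 2 ∈ Ideal.span {t} := by
  rw [cond, Ideal.mem_comap] at hx
  obtain ⟨b, hb⟩ := Ideal.mem_span_singleton'.1 hx
  obtain ⟨a', ha'⟩ := hn (b * b)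
  have h1 : x ^ 2 = t ^ n * a' := by
    apply hinj
    rw [map_mul, map_pow, map_pow, ha', ← hb]; ring
  rw [h1]
  obtain ⟨m, rfl⟩ : ∃ m, n = m + 1 := ⟨n - 1, (Nat.sub_add_cancel hn1).symm⟩
  rw [pow_succ, mul_comm (t ^ m) t, mul_assoc]
  exact Ideal.mul_mem_right _ _ (Ideal.subset_span (Set.mem_singleton _))

end Ring

section Local

open Scheme.IdealSheafData

/-- if `f` is an isomorphism over `W`, the comorphism over any `V ≤ W` is an isomorphism. -/
theorem isIso_app_of_isIso_morphismRestrict {X Y : Scheme.{u}} (f : X ⟶ Y) (W : Y.Opens)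
    [IsIso (f ∣_ W)] (V : Y.Opens) (hVW : V ≤ W) : IsIso (f.app V) := by
  have h1 : IsIso ((f ∣_ W).app (W.ι ⁻¹ᵁ V)) := inferInstance
  rw [morphismRestrict_app] at h1
  have h2 : IsIso (f.app (W.ι ''ᵁ W.ι ⁻¹ᵁ V)) := IsIso.of_isIso_comp_right _
    (X.presheaf.map (eqToHom (image_morphismRestrict_preimage f W (W.ι ⁻¹ᵁ V))).op)
  have h3 : W.ι ''ᵁ W.ι ⁻¹ᵁ V = V := by
    rw [Scheme.Hom.image_preimage_eq_opensRange_inf, Scheme.Opens.opensRange_ι]
    exact inf_eq_right.2 hVW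
  rw [h3] at h2
  exact h2

theorem isIso_appLE_of_isIso_morphismRestrict {X Y : Scheme.{u}} (f : X ⟶ Y) (W : Y.Opens)
    [IsIso (f ∣_ W)] (V : Y.Opens) (hVW : V ≤ W) (V' : X.Opens) (e : V' ≤ f ⁻¹ᵁ V)
    (e' : f ⁻¹ᵁ V ≤ V') : IsIso (f.appLE V V' e) := by
  have h1 := isIso_app_of_isIso_morphismRestrict f W V hVW
  have h2 : IsIso (homOfLE e) := ⟨homOfLE e', Subsingleton.elim _ _, Subsingleton.elim _ _⟩
  rw [Scheme.Hom.appLE]
  infer_instance

end Local

section Local2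

open Scheme.IdealSheafData

variable {X Y : Scheme.{u}} (f : X ⟶ Y) (L : Y.IdealSheafData)
  (U : Y.affineOpens) (t : Γ(Y, U.1)) (hLt : L.ideal U = Ideal.span {t})

include hLt in
theorem basicOpen_le_compl_support : Y.basicOpen t ≤ L.support.compl := by
  intro x hx
  have hxU : x ∈ U.1 := Y.basicOpen_le t hx
  change x ∉ L.support
  rw [mem_support_iff_of_mem hxU, Scheme.mem_zeroLocus_iff]
  intro h
  exact h t (by rw [SetLike.mem_coe, hLt]; exact Ideal.subset_span (Set.mem_singleton t)) hx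

include hLt in
theorem mem_basicOpen_of_notMem_support (x : Y) (hxU : x ∈ U.1) (hx : x ∉ L.support) :
    x ∈ Y.basicOpen t := by
  rw [mem_support_iff_of_mem hxU, Scheme.mem_zeroLocus_iff] at hx
  push Not at hx
  obtain ⟨g, hg, hxg⟩ := hx
  rw [SetLike.mem_coe, hLt] at hg
  obtain ⟨c, rfl⟩ := Ideal.mem_span_singleton'.1 hg
  rw [Scheme.basicOpen_mul] at hxg
  exact hxg.2

include hLt in
theorem app_mem_nonZeroDivisors [IsReduced X]
    (hdense : Dense (f.base ⁻¹' ((L.support : Set Y)ᶜ))) :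
    (f.app U.1).hom t ∈ Γ(X, f ⁻¹ᵁ U.1)⁰ := by
  rw [mem_nonZeroDivisors_iff_right]
  intro b hb
  rw [← basicOpen_eq_bot_iff]
  by_contra hne
  have hne' : ((X.basicOpen b : X.Opens) : Set X).Nonempty := by
    rw [Set.nonempty_iff_ne_empty]
    intro h
    exact hne (TopologicalSpace.Opens.ext h)
  obtain ⟨x, hxb, hxW⟩ := hdense.inter_open_nonempty _ (X.basicOpen b).2 hne'
  have hxU : f x ∈ U.1 := X.basicOpen_le b hxb
  have h1 : f x ∈ Y.basicOpen t := mem_basicOpen_of_notMem_support L U t hLt (f x) hxU hxW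
  have h2 : x ∈ X.basicOpen ((f.app U.1).hom t) := by
    rw [← Scheme.preimage_basicOpen]; exact h1
  have h3 : x ∈ X.basicOpen (b * (f.app U.1).hom t) := by
    rw [Scheme.basicOpen_mul]; exact ⟨hxb, h2⟩
  rw [hb, Scheme.basicOpen_zero] at h3
  exact h3

variable [IsAffineHom f] [IsIso (f ∣_ L.support.compl)]

include hLt in
theorem exists_pow_mul_eq_zero (a : Γ(Y, U.1)) (ha : (f.app U.1).hom a = 0) :
    ∃ k : ℕ, t ^ k * a = 0 := by
  have e : X.basicOpen ((f.app U.1).hom t) ≤ f ⁻¹ᵁ Y.basicOpen t := by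
    rw [Scheme.preimage_basicOpen]
  have e' : f ⁻¹ᵁ Y.basicOpen t ≤ X.basicOpen ((f.app U.1).hom t) := by
    rw [Scheme.preimage_basicOpen]
  have hiso := isIso_appLE_of_isIso_morphismRestrict f L.support.compl (Y.basicOpen t)
    (basicOpen_le_compl_support L U t hLt) _ e e'
  have hcomm : Y.presheaf.map (homOfLE (Y.basicOpen_le t)).op ≫
      f.appLE (Y.basicOpen t) (X.basicOpen ((f.app U.1).hom t)) e =
      f.app U.1 ≫ X.presheaf.map (homOfLE (X.basicOpen_le ((f.app U.1).hom t))).op := by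
    rw [Scheme.Hom.map_appLE]; rfl
  have h1 : (f.appLE (Y.basicOpen t) (X.basicOpen ((f.app U.1).hom t)) e).hom
      ((Y.presheaf.map (homOfLE (Y.basicOpen_le t)).op).hom a) = 0 := by
    have := congrArg (fun χ => χ.hom a) hcomm
    simp only [CommRingCat.hom_comp, RingHom.comp_apply] at this
    rw [this, ha, map_zero]
  have hinj : Function.Injective
      (f.appLE (Y.basicOpen t) (X.basicOpen ((f.app U.1).hom t)) e).hom :=
    ((ConcreteCategory.isIso_iff_bijective _).1 hiso).1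
  have h2 : (Y.presheaf.map (homOfLE (Y.basicOpen_le t)).op).hom a = 0 :=
    hinj (h1.trans (map_zero _).symm)
  have inst := U.2.isLocalization_basicOpen t
  have hρ : (Y.presheaf.map (homOfLE (Y.basicOpen_le t)).op).hom = algebraMap _ _ := rfl
  rw [hρ, IsLocalization.map_eq_zero_iff (Submonoid.powers t)] at h2
  obtain ⟨⟨_, k, rfl⟩, hk⟩ := h2
  exact ⟨k, hk⟩

include hLt in
theorem exists_app_eq_pow_mul (hnzd : (f.app U.1).hom t ∈ Γ(X, f ⁻¹ᵁ U.1)⁰)
    (b : Γ(X, f ⁻¹ᵁ U.1)) :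
    ∃ (a : Γ(Y, U.1)) (k : ℕ), (f.app U.1).hom a = (f.app U.1).hom t ^ k * b := by
  have e : X.basicOpen ((f.app U.1).hom t) ≤ f ⁻¹ᵁ Y.basicOpen t := by
    rw [Scheme.preimage_basicOpen]
  have e' : f ⁻¹ᵁ Y.basicOpen t ≤ X.basicOpen ((f.app U.1).hom t) := by
    rw [Scheme.preimage_basicOpen]
  have hiso := isIso_appLE_of_isIso_morphismRestrict f L.support.compl (Y.basicOpen t)
    (basicOpen_le_compl_support L U t hLt) _ e e'
  have hcomm : Y.presheaf.map (homOfLE (Y.basicOpen_le t)).op ≫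
      f.appLE (Y.basicOpen t) (X.basicOpen ((f.app U.1).hom t)) e =
      f.app U.1 ≫ X.presheaf.map (homOfLE (X.basicOpen_le ((f.app U.1).hom t))).op := by
    rw [Scheme.Hom.map_appLE]; rfl
  have hcomm' : ∀ a : Γ(Y, U.1),
      (f.appLE (Y.basicOpen t) (X.basicOpen ((f.app U.1).hom t)) e).hom
        ((Y.presheaf.map (homOfLE (Y.basicOpen_le t)).op).hom a) =
      (X.presheaf.map (homOfLE (X.basicOpen_le ((f.app U.1).hom t))).op).hom
        ((f.app U.1).hom a) := by
    intro a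
    have := congrArg (fun χ => χ.hom a) hcomm
    simpa only [CommRingCat.hom_comp, RingHom.comp_apply] using this
  have hsurj : Function.Surjective
      (f.appLE (Y.basicOpen t) (X.basicOpen ((f.app U.1).hom t)) e).hom :=
    ((ConcreteCategory.isIso_iff_bijective _).1 hiso).2
  obtain ⟨a', ha'⟩ := hsurj
    ((X.presheaf.map (homOfLE (X.basicOpen_le ((f.app U.1).hom t))).op).hom b)
  have instA := U.2.isLocalization_basicOpen t
  have instB := (U.2.preimage f).isLocalization_basicOpen ((f.app U.1).hom t)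
  have hρA : (Y.presheaf.map (homOfLE (Y.basicOpen_le t)).op).hom = algebraMap _ _ := rfl
  have hρB : (X.presheaf.map (homOfLE (X.basicOpen_le ((f.app U.1).hom t))).op).hom =
      algebraMap _ _ := rfl
  obtain ⟨⟨a, ⟨_, k, rfl⟩⟩, hak⟩ := IsLocalization.surj (Submonoid.powers t) a'
  -- a' * ρA (t^k) = ρA a
  have h1 := congrArg (f.appLE (Y.basicOpen t) (X.basicOpen ((f.app U.1).hom t)) e).hom hak
  rw [map_mul, ha', ← hρA, hcomm', hcomm', ← map_mul] at h1
  -- ρB (b * φ (t^k)) = ρB (φ a)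
  have h2 : (X.presheaf.map (homOfLE (X.basicOpen_le ((f.app U.1).hom t))).op).hom
      (b * (f.app U.1).hom (t ^ k) - (f.app U.1).hom a) = 0 := by
    rw [map_sub, h1, sub_self]
  rw [hρB, IsLocalization.map_eq_zero_iff (Submonoid.powers ((f.app U.1).hom t))] at h2
  obtain ⟨⟨_, l, rfl⟩, hl⟩ := h2
  have h3 : b * (f.app U.1).hom (t ^ k) - (f.app U.1).hom a = 0 :=
    (mem_nonZeroDivisors_iff.1 (pow_mem hnzd l)).1 _ hl
  refine ⟨a, k, ?_⟩
  rw [← map_pow, mul_comm]
  exact (sub_eq_zero.1 h3).symm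

end Local2

section Chart

open Scheme.IdealSheafData Groth.Agent.Lib.T2H6.BlowUpAffine

/-- the restriction of an ideal sheaf to an affine open, seen on `Spec`. -/
theorem comap_fromSpec_eq_idl {Y : Scheme.{u}} (J : Y.IdealSheafData) (U : Y.affineOpens) :
    J.comap U.2.fromSpec = idl (A := Γ(Y, U.1)) (J.ideal U) := by
  rw [Groth.Agent.Lib.T2H6.BlowUpMul.eq_idl Γ(Y, U.1) (J.comap U.2.fromSpec)]
  congr 1
  have e : (⊤ : (Spec Γ(Y, U.1)).Opens) ≤ U.2.fromSpec ⁻¹ᵁ U.1 := by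
    rw [U.2.fromSpec_preimage_self]
  have h2 : U.2.fromSpec.appLE U.1 ⊤ e = (Scheme.ΓSpecIso Γ(Y, U.1)).inv := by
    rw [Scheme.Hom.appLE, U.2.fromSpec_app_self, Category.assoc, ← Functor.map_comp]
    convert Category.comp_id _
    exact CategoryTheory.Functor.map_id _ _
  rw [Groth.Agent.Lib.Helper20.EffCartier.ideal_comap_eq_map U.2.fromSpec J (isAffineOpen_top _)
    U.2 e, h2, Ideal.map_map]
  have h1 : (Scheme.ΓSpecIso Γ(Y, U.1)).hom.hom.comp (Scheme.ΓSpecIso Γ(Y, U.1)).inv.hom =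
      RingHom.id _ := by
    rw [← CommRingCat.hom_comp, Iso.inv_hom_id]; rfl
  erw [h1]
  exact Ideal.map_id _

/-- the square of `Spec`s of an affine morphism over an affine open is cartesian. -/
theorem isPullback_SpecMap_app {X Y : Scheme.{u}} (f : X ⟶ Y) [IsAffineHom f] (U : Y.affineOpens) :
    IsPullback (Spec.map (f.app U.1)) (U.2.preimage f).fromSpec U.2.fromSpec f := by
  haveI : IsAffine (U.1 : Scheme.{u}) := U.2
  haveI : IsAffine ((f ⁻¹ᵁ U.1 : X.Opens) : Scheme.{u}) := U.2.preimage f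
  have hcomm : (U.2.preimage f).isoSpec.inv ≫ (f ∣_ U.1) =
      Spec.map (f.app U.1) ≫ U.2.isoSpec.inv := by
    rw [← cancel_mono U.1.ι, Category.assoc, Category.assoc, morphismRestrict_ι]
    have h1 := IsAffineOpen.SpecMap_appLE_fromSpec f U.2 (U.2.preimage f) le_rfl
    rw [← Scheme.Hom.app_eq_appLE] at h1
    rw [IsAffineOpen.fromSpec, IsAffineOpen.fromSpec] at h1
    exact h1.symm
  have hleft : IsPullback (U.2.preimage f).isoSpec.inv (Spec.map (f.app U.1)) (f ∣_ U.1)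
      U.2.isoSpec.inv := IsPullback.of_horiz_isIso ⟨hcomm⟩
  have hright : IsPullback (f ⁻¹ᵁ U.1).ι (f ∣_ U.1) f U.1.ι :=
    (isPullback_morphismRestrict f U.1).flip
  exact (hleft.paste_horiz hright).flip

end Chart

section Main

open Scheme.IdealSheafData Groth.Agent.Lib.T2H6.BlowUpAffine

variable {X Y : Scheme.{u}} (f : X ⟶ Y) (L : Y.IdealSheafData)

/-- the candidate centre `O_Y ∩ Lᴺ f_* O_X`. -/
noncomputable def centre (N : ℕ) : Y.IdealSheafData := ((L ^ N).comap f).map f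

theorem centre_ideal [IsAffineHom f] (N : ℕ) (U : Y.affineOpens) (t : Γ(Y, U.1))
    (hLt : L.ideal U = Ideal.span {t}) :
    (centre f L N).ideal U =
      Ideal.comap (f.app U.1).hom (Ideal.span {(f.app U.1).hom t ^ N}) := by
  rw [centre, ideal_map_of_isAffineHom,
    Groth.Agent.Lib.Helper20.EffCartier.ideal_comap_eq_map f (L ^ N) (U.2.preimage f) U.2 le_rfl,
    ← Scheme.Hom.app_eq_appLE]
  congr 1
  change Ideal.map (f.app U.1).hom ((L ^ N).ideal U) = _
  rw [ideal_pow]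
  change Ideal.map (f.app U.1).hom ((L.ideal U) ^ N) = _
  rw [hLt, Ideal.span_singleton_pow, Ideal.map_span, Set.image_singleton, map_pow]

theorem isBlowUp_SpecMap_app [IsAffineHom f] (N : ℕ) (U : Y.affineOpens) (t : Γ(Y, U.1))
    (hLt : L.ideal U = Ideal.span {t})
    (hinj : Function.Injective (f.app U.1).hom)
    (hnzd : (f.app U.1).hom t ∈ Γ(X, f ⁻¹ᵁ U.1)⁰)
    (hcond : ∀ b : Γ(X, f ⁻¹ᵁ U.1), ∃ a : Γ(Y, U.1),
      (f.app U.1).hom a = (f.app U.1).hom t ^ N * b) :
    BlowUp.IsBlowUp (Spec.map (f.app U.1)) ((centre f L N).comap U.2.fromSpec) := by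
  rw [comap_fromSpec_eq_idl, centre_ideal f L N U t hLt]
  letI : Algebra Γ(Y, U.1) Γ(X, f ⁻¹ᵁ U.1) := (f.app U.1).hom.toAlgebra
  exact Groth.Agent.Lib.T2H6.BlowUpFree.main Γ(Y, U.1) Γ(X, f ⁻¹ᵁ U.1) hinj
    (cond (B := Γ(X, f ⁻¹ᵁ U.1)) t N) (map_cond_subset t N hcond)
    ((f.app U.1).hom t ^ N) (pow_mem hnzd N) (map_cond t N)

theorem mem_support_centre_iff [IsAffineHom f] (N : ℕ) (hN : 1 ≤ N) (U : Y.affineOpens)
    (t : Γ(Y, U.1)) (hLt : L.ideal U = Ideal.span {t})
    (hinj : Function.Injective (f.app U.1).hom)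
    (hcond : ∀ b : Γ(X, f ⁻¹ᵁ U.1), ∃ a : Γ(Y, U.1),
      (f.app U.1).hom a = (f.app U.1).hom t ^ N * b) (x : Y) (hxU : x ∈ U.1) :
    x ∈ (centre f L N).support ↔ x ∈ L.support := by
  letI : Algebra Γ(Y, U.1) Γ(X, f ⁻¹ᵁ U.1) := (f.app U.1).hom.toAlgebra
  have hc : (centre f L N).ideal U = cond (B := Γ(X, f ⁻¹ᵁ U.1)) t N :=
    centre_ideal f L N U t hLt
  rw [mem_support_iff_of_mem hxU, mem_support_iff_of_mem hxU, Scheme.mem_zeroLocus_iff,
    Scheme.mem_zeroLocus_iff]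
  constructor
  · intro h g hg
    rw [SetLike.mem_coe, hLt] at hg
    obtain ⟨c, rfl⟩ := Ideal.mem_span_singleton'.1 hg
    rw [Scheme.basicOpen_mul]
    intro hx
    have h1 : x ∉ Y.basicOpen (t ^ N) :=
      h (t ^ N) (by rw [SetLike.mem_coe, hc]; exact pow_mem_cond _ t N)
    rw [Scheme.basicOpen_pow (X := Y) t hN] at h1
    exact h1 hx.2
  · intro h g hg
    rw [SetLike.mem_coe, hc] at hg
    have h1 := sq_mem_span_of_mem_cond t hinj N hN hcond g hg
    obtain ⟨c, hc'⟩ := Ideal.mem_span_singleton'.1 h1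
    have h2 : x ∉ Y.basicOpen t :=
      h t (by rw [SetLike.mem_coe, hLt]; exact Ideal.subset_span (Set.mem_singleton t))
    intro hx
    have h3 : x ∈ Y.basicOpen (g ^ 2) := by
      rw [Scheme.basicOpen_pow (X := Y) g (by norm_num)]; exact hx
    rw [← hc', Scheme.basicOpen_mul] at h3
    exact h2 h3.2

theorem main {X Y : Scheme.{u}} [CompactSpace Y] [IsReduced X] (f : X ⟶ Y) [IsFinite f]
    (L : Y.IdealSheafData) (hL : BlowUp.IsEffCartierIdeal L)
    (hiso : IsIso (f ∣_ L.support.compl))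
    (hdense : Dense (f.base ⁻¹' ((L.support : Set Y)ᶜ))) :
    ∃ I : Y.IdealSheafData, I.support = L.support ∧ BlowUp.IsBlowUp f I := by
  choose U hyU t ht hLt using hL
  have hnzd : ∀ y, (f.app (U y).1).hom (t y) ∈ Γ(X, f ⁻¹ᵁ (U y).1)⁰ :=
    fun y => app_mem_nonZeroDivisors f L (U y) (t y) (hLt y) hdense
  have hinj : ∀ y, Function.Injective (f.app (U y).1).hom := fun y => by
    letI : Algebra Γ(Y, (U y).1) Γ(X, f ⁻¹ᵁ (U y).1) := (f.app (U y).1).hom.toAlgebra
    exact injective_of Γ(X, f ⁻¹ᵁ (U y).1) (t y) (ht y)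
      (fun a ha => exists_pow_mul_eq_zero f L (U y) (t y) (hLt y) a ha)
  have hex : ∀ y, ∃ n, ∀ m, n ≤ m → ∀ b : Γ(X, f ⁻¹ᵁ (U y).1), ∃ a : Γ(Y, (U y).1),
      (f.app (U y).1).hom a = (f.app (U y).1).hom (t y) ^ m * b := fun y => by
    letI : Algebra Γ(Y, (U y).1) Γ(X, f ⁻¹ᵁ (U y).1) := (f.app (U y).1).hom.toAlgebra
    haveI : Module.Finite Γ(Y, (U y).1) Γ(X, f ⁻¹ᵁ (U y).1) :=
      IsFinite.finite_app f (U y).1 (U y).2
    exact exists_pow_mul_mem_range (t y)
      (fun b => exists_app_eq_pow_mul f L (U y) (t y) (hLt y) (hnzd y) b)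
  choose n hn using hex
  obtain ⟨s, hs⟩ := isCompact_univ.elim_nhds_subcover (fun y => ((U y).1 : Set Y))
    (fun y _ => (U y).1.2.mem_nhds (hyU y))
  have hcover : ∀ x : Y, ∃ y ∈ s, x ∈ (U y).1 := by
    intro x
    have := hs.2 (Set.mem_univ x)
    simp only [Set.mem_iUnion, exists_prop] at this
    obtain ⟨y, hy, hxy⟩ := this
    exact ⟨y, hy, hxy⟩
  have hN : ∀ y ∈ s, n y ≤ s.sup n + 1 := fun y hy => (Finset.le_sup hy).trans (Nat.le_succ _)
  refine ⟨centre f L (s.sup n + 1), ?_, ?_⟩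
  · ext x
    obtain ⟨y, hys, hxy⟩ := hcover x
    exact mem_support_centre_iff f L _ (Nat.le_add_left 1 _) (U y) (t y) (hLt y) (hinj y)
      (hn y _ (hN y hys)) x hxy
  · apply Groth.Agent.Lib.T2H6.BlowUpGlue.isBlowUp_of_local_base
    intro x
    obtain ⟨y, hys, hxy⟩ := hcover x
    refine ⟨_, _, (U y).2.fromSpec, inferInstance, Spec.map (f.app (U y).1),
      ((U y).2.preimage f).fromSpec, ?_, isPullback_SpecMap_app f (U y),
      isBlowUp_SpecMap_app f L _ (U y) (t y) (hLt y) (hinj y) (hnzd y) (hn y _ (hN y hys))⟩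
    rw [(U y).2.range_fromSpec]; exact hxy

end Main

end Groth.Agent.Lib.T2H6.BlowUpFiniteBir
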