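-- helper6 (team 2): functoriality and localization of Rees algebras (ring-level lemmas for the projectivity of
-- blowing ups).
import Mathlib
import Groth.Prelude.Def_Rees
import Groth.Agent.Lib.T2H6ReesChart

set_option autoImplicit false
open Polynomial

universe u

namespace Groth.Agent.Lib.T2H6.ReesLoc

open Groth.Agent.Lib.T2H6.ReesChart

section Map

variable {A A' : Type u} [CommRing A] [CommRing A'] (φ : A →+* A') (I : Ideal A) (I' : Ideal A')
  (hI : I.map φ ≤ I')

include hI in
theorem map_mem_reesAlgebra (x : A[X]) (hx : x ∈ reesAlgebra I) :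
    Polynomial.map φ x ∈ reesAlgebra I' := by
  intro i
  rw [coeff_map]
  have h1 : φ (x.coeff i) ∈ (I ^ i).map φ := Ideal.mem_map_of_mem φ (hx i)
  rw [Ideal.map_pow] at h1
  exact Ideal.pow_right_mono hI i h1

/-- the homomorphism of Rees algebras induced by a ring homomorphism -/
noncomputable def reesMap : reesAlgebra I →+* reesAlgebra I' where
  toFun x := ⟨Polynomial.map φ x.1, map_mem_reesAlgebra φ I I' hI x.1 x.2⟩
  map_one' := Subtype.ext (Polynomial.map_one φ)
  map_mul' x y := Subtype.ext (Polynomial.map_mul φ)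
  map_zero' := Subtype.ext (Polynomial.map_zero φ)
  map_add' x y := Subtype.ext (Polynomial.map_add φ)

@[simp] theorem coe_reesMap (x : reesAlgebra I) :
    ((reesMap φ I I' hI x : reesAlgebra I') : A'[X]) = Polynomial.map φ (x : A[X]) := rfl

theorem reesMap_mem_deg {n : ℕ} {x : reesAlgebra I} (hx : x ∈ Rees.deg (reesAlgebra I) n) :
    reesMap φ I I' hI x ∈ Rees.deg (reesAlgebra I') n := by
  rw [Rees.mem_deg_iff] at hx ⊢
  intro m hm
  rw [coe_reesMap, coeff_map, hx m hm, map_zero]

theorem reesMap_algebraMap (r : A) :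
    reesMap φ I I' hI (algebraMap A (reesAlgebra I) r) = algebraMap A' (reesAlgebra I') (φ r) := by
  apply Subtype.ext
  change Polynomial.map φ (C r) = C (φ r)
  rw [Polynomial.map_C]

theorem reesMap_mon (n : ℕ) (c : A) (hc : c ∈ I ^ n) (hc' : φ c ∈ I' ^ n) :
    reesMap φ I I' hI (mon I n c hc) = mon I' n (φ c) hc' := by
  apply Subtype.ext
  change Polynomial.map φ (monomial n c) = monomial n (φ c)
  rw [Polynomial.map_monomial]

end Map

section Gen

variable {A : Type u} [CommRing A] (I : Ideal A)

theorem mon_mem_closure (n : ℕ) : ∀ (c : A) (hc : c ∈ I ^ n),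
    mon I n c hc ∈ Subring.closure
      ((Rees.deg (reesAlgebra I) 0 : Set (reesAlgebra I)) ∪
        (Rees.deg (reesAlgebra I) 1 : Set (reesAlgebra I))) := by
  induction n with
  | zero =>
    intro c hc
    exact Subring.subset_closure (Or.inl (mon_mem_deg I 0 c hc))
  | succ k ih =>
    intro c hc
    have hc' : c ∈ I * I ^ k := by rw [← pow_succ']; exact hc
    have key : ∀ c ∈ I * I ^ k, ∃ hc : c ∈ I ^ (k + 1),
        mon I (k + 1) c hc ∈ Subring.closure
          ((Rees.deg (reesAlgebra I) 0 : Set (reesAlgebra I)) ∪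
            (Rees.deg (reesAlgebra I) 1 : Set (reesAlgebra I))) := by
      intro c hc'
      refine Submodule.mul_induction_on hc' ?_ ?_
      · intro a ha d hd
        have hc : a * d ∈ I ^ (k + 1) := by rw [pow_succ']; exact Ideal.mul_mem_mul ha hd
        refine ⟨hc, ?_⟩
        have h1 : mon I (k + 1) (a * d) hc = gen I a ha * mon I k d hd := by
          rw [gen, mon_mul]
          apply Subtype.ext
          change monomial (k + 1) (a * d) = monomial (1 + k) (a * d)
          rw [add_comm]
        rw [h1]
        exact Subring.mul_mem _ (Subring.subset_closure (Or.inr (gen_mem_deg I a ha))) (ih d hd)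
      · rintro x y ⟨hx', hx⟩ ⟨hy', hy⟩
        refine ⟨add_mem hx' hy', ?_⟩
        rw [← mon_add I (k + 1) x y hx' hy']
        exact Subring.add_mem _ hx hy
    exact (key c hc').2

/-- the Rees algebra is generated by its parts of degrees zero and one -/
theorem closure_deg_eq_top :
    Subring.closure ((Rees.deg (reesAlgebra I) 0 : Set (reesAlgebra I)) ∪
      (Rees.deg (reesAlgebra I) 1 : Set (reesAlgebra I))) = ⊤ := by
  classical
  rw [eq_top_iff]
  rintro x -
  rw [← DirectSum.sum_support_decompose (Rees.deg (reesAlgebra I)) x]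
  refine Subring.sum_mem _ fun i _ => ?_
  obtain ⟨c, hc, h⟩ := exists_eq_mon I i _ (SetLike.coe_mem (DirectSum.decompose (Rees.deg (reesAlgebra I)) x i))
  rw [h]
  exact mon_mem_closure I i c hc

/-- the degree-one part of the Rees algebra of a finitely generated ideal is finitely generated -/
theorem exists_finset_deg_one (hI : I.FG) : ∃ T : Finset (reesAlgebra I),
    (↑T : Set (reesAlgebra I)) ⊆ (Rees.deg (reesAlgebra I) 1 : Set (reesAlgebra I)) ∧
      ∀ x ∈ Rees.deg (reesAlgebra I) 1, ∃ c : reesAlgebra I → A,
        x = ∑ t ∈ T, algebraMap A (reesAlgebra I) (c t) * t := by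
  classical
  obtain ⟨T₀, hT₀⟩ := hI
  have hmem : ∀ a : T₀, (a : A) ∈ I := fun a => by
    rw [← hT₀]; exact Submodule.subset_span a.2
  let g : T₀ → reesAlgebra I := fun a => gen I a.1 (hmem a)
  refine ⟨Finset.univ.image g, ?_, ?_⟩
  · intro y hy
    simp only [Finset.coe_image, Finset.coe_univ, Set.image_univ, Set.mem_range] at hy
    obtain ⟨a, rfl⟩ := hy
    exact gen_mem_deg I a.1 (hmem a)
  · intro x hx
    obtain ⟨c, hc, rfl⟩ := exists_eq_mon I 1 x hx
    have hc1 : c ∈ I := by simpa using hc
    have hc2 : c ∈ Submodule.span A (T₀ : Set A) := by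
      change c ∈ Ideal.span (T₀ : Set A)
      rw [hT₀]; exact hc1
    obtain ⟨c₀, hc₀⟩ := Submodule.mem_span_finset'.mp hc2
    -- rewrite as a sum over the image
    let cc : reesAlgebra I → A := fun y => ∑ m ∈ Finset.univ.filter (fun m => g m = y), c₀ m
    refine ⟨cc, ?_⟩
    have h1 : mon I 1 c hc = ∑ a : T₀, algebraMap A (reesAlgebra I) (c₀ a) * g a := by
      apply Subtype.ext
      rw [coe_mon, ← hc₀, AddSubmonoidClass.coe_finset_sum, map_sum]
      refine Finset.sum_congr rfl fun a _ => ?_
      change monomial 1 (c₀ a • (a : A)) = C (c₀ a) * monomial 1 (a : A)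
      rw [C_mul_monomial, smul_eq_mul]
    rw [h1]
    refine (Finset.sum_image' (s := Finset.univ) (g := g)
      (f := fun y => algebraMap A (reesAlgebra I) (cc y) * y)
      (fun m => algebraMap A (reesAlgebra I) (c₀ m) * g m) ?_).symm
    intro i _
    change algebraMap A (reesAlgebra I) (∑ m ∈ Finset.univ.filter (fun m => g m = g i), c₀ m) * g i = _
    rw [map_sum, Finset.sum_mul]
    refine Finset.sum_congr rfl fun j hj => ?_
    rw [(Finset.mem_filter.mp hj).2]

end Gen

section Loc

variable {A A' : Type u} [CommRing A] [CommRing A'] [Algebra A A'] (I : Ideal A) (r : A)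
  [IsLocalization.Away r A']

/-- the Rees algebra commutes with localization away from an element -/
theorem isLocalization_reesMap :
    @IsLocalization.Away (reesAlgebra I) _ (algebraMap A (reesAlgebra I) r)
      (reesAlgebra (I.map (algebraMap A A'))) _
      (reesMap (algebraMap A A') I (I.map (algebraMap A A')) le_rfl).toAlgebra := by
  letI : Algebra (reesAlgebra I) (reesAlgebra (I.map (algebraMap A A'))) :=
    (reesMap (algebraMap A A') I (I.map (algebraMap A A')) le_rfl).toAlgebra
  set ρ := reesMap (algebraMap A A') I (I.map (algebraMap A A')) le_rfl with hρ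
  have hρr : ∀ k : ℕ, ρ (algebraMap A (reesAlgebra I) r ^ k) =
      algebraMap A' (reesAlgebra (I.map (algebraMap A A'))) (algebraMap A A' r ^ k) := by
    intro k
    rw [map_pow, map_pow, hρ, reesMap_algebraMap]
  have hunit : IsUnit (algebraMap A A' r) := IsLocalization.Away.algebraMap_isUnit r
  refine IsLocalization.Away.mk _ ?_ ?_ ?_
  · change IsUnit (ρ (algebraMap A (reesAlgebra I) r))
    rw [hρ, reesMap_algebraMap]
    exact hunit.map _
  · intro s
    have key : ∀ (p : A'[X]) (hp : p ∈ Algebra.adjoin A'
        (Submodule.map (monomial 1 : A' →ₗ[A'] A'[X]) (I.map (algebraMap A A')) : Set A'[X])),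
        ∃ (n : ℕ) (a : reesAlgebra I), p * C (algebraMap A A' r) ^ n =
          Polynomial.map (algebraMap A A') (a : A[X]) := by
      intro p hp
      induction hp using Algebra.adjoin_induction with
      | mem x hx =>
        obtain ⟨c, hc, rfl⟩ := hx
        obtain ⟨⟨⟨y, hy⟩, ⟨_, n, rfl⟩⟩, hyc⟩ :=
          (IsLocalization.mem_map_algebraMap_iff (Submonoid.powers r) A').mp hc
        refine ⟨n, gen I y hy, ?_⟩
        change monomial 1 c * C (algebraMap A A' r) ^ n =
          Polynomial.map (algebraMap A A') (monomial 1 y)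
        rw [Polynomial.map_monomial, ← C_pow, monomial_mul_C, ← map_pow]
        congr 1
      | algebraMap a' =>
        obtain ⟨n, a, ha⟩ := IsLocalization.Away.surj r a'
        refine ⟨n, algebraMap A (reesAlgebra I) a, ?_⟩
        change C a' * C (algebraMap A A' r) ^ n = Polynomial.map (algebraMap A A') (C a)
        rw [Polynomial.map_C, ← C_pow, ← C_mul, ha]
      | add p q _ _ hp hq =>
        obtain ⟨n, a, ha⟩ := hp
        obtain ⟨m, b, hb⟩ := hq
        refine ⟨n + m, a * algebraMap A (reesAlgebra I) r ^ m +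
          b * algebraMap A (reesAlgebra I) r ^ n, ?_⟩
        change _ = Polynomial.map (algebraMap A A') ((a : A[X]) * C r ^ m + (b : A[X]) * C r ^ n)
        rw [Polynomial.map_add, Polynomial.map_mul, Polynomial.map_mul, Polynomial.map_pow,
          Polynomial.map_pow, Polynomial.map_C, ← ha, ← hb]
        ring
      | mul p q _ _ hp hq =>
        obtain ⟨n, a, ha⟩ := hp
        obtain ⟨m, b, hb⟩ := hq
        refine ⟨n + m, a * b, ?_⟩
        change _ = Polynomial.map (algebraMap A A') ((a : A[X]) * (b : A[X]))
        rw [Polynomial.map_mul, ← ha, ← hb]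
        ring
    obtain ⟨n, a, ha⟩ := key s.1 (by rw [adjoin_monomial_eq_reesAlgebra]; exact s.2)
    refine ⟨n, a, ?_⟩
    apply Subtype.ext
    change (s : A'[X]) * ((ρ (algebraMap A (reesAlgebra I) r) ^ n : reesAlgebra _) : A'[X]) = _
    rw [← map_pow, hρr]
    refine Eq.trans ?_ ha
    change (s : A'[X]) * C (algebraMap A A' r ^ n) = _
    rw [C_pow]
  · intro a b hab
    have hab' : Polynomial.map (algebraMap A A') (a : A[X]) =
        Polynomial.map (algebraMap A A') (b : A[X]) := congrArg Subtype.val hab
    letI := Polynomial.algebra (R := A) (A := A')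
    haveI := Polynomial.isLocalization (Submonoid.powers r) A'
    obtain ⟨⟨_, ⟨_, ⟨n, rfl⟩, rfl⟩⟩, hc⟩ :=
      IsLocalization.exists_of_eq (M := (Submonoid.powers r).map (C : A →+* A[X])) (S := A'[X])
        (x := (a : A[X])) (y := (b : A[X])) hab'
    refine ⟨n, ?_⟩
    apply Subtype.ext
    change (C r) ^ n * (a : A[X]) = (C r) ^ n * (b : A[X])
    rw [← C_pow]
    exact hc

/-- variant with an arbitrary name for the extended ideal -/
theorem isLocalization_reesMap' (I' : Ideal A') (h : I.map (algebraMap A A') = I') :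
    @IsLocalization.Away (reesAlgebra I) _ (algebraMap A (reesAlgebra I) r)
      (reesAlgebra I') _ (reesMap (algebraMap A A') I I' h.le).toAlgebra := by
  subst h
  exact isLocalization_reesMap I r

end Loc

/-- variant without algebra instances -/
theorem isLocalization_reesMap'' {A A' : Type u} [CommRing A] [CommRing A'] (φ : A →+* A')
    (I : Ideal A) (r : A) (hloc : @IsLocalization.Away A _ r A' _ φ.toAlgebra)
    (I' : Ideal A') (h : I.map φ = I') :
    @IsLocalization.Away (reesAlgebra I) _ (algebraMap A (reesAlgebra I) r)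
      (reesAlgebra I') _ (reesMap φ I I' h.le).toAlgebra := by
  letI : Algebra A A' := φ.toAlgebra
  haveI : IsLocalization.Away r A' := hloc
  exact isLocalization_reesMap' I r I' h

end Groth.Agent.Lib.T2H6.ReesLoc
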