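-- helper6 (team 2): a blowing up in an ideal of finite type is projective (the Rees algebra as a quasi-coherent
-- graded algebra, with the blow-up as its relative homogeneous spectrum).
import Mathlib
import Groth.Prelude.Def_BlowUp2
import Groth.Prelude.Def_RelProj
import Groth.Agent.Lib.T2H6ReesLoc
import Groth.Agent.Lib.T2H6QCGrOfAffine
import Groth.Agent.Lib.T2H6BlowUpGlue
import Groth.Agent.Lib.T2H6BlowUpAffine
import Groth.Agent.Lib.T2H6BlowUpCoprime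
import Groth.Agent.Lib.T2H6BlowUpFiniteBir

set_option autoImplicit false

namespace Groth.Agent.Lib.T2H6.BlowUpProj

open CategoryTheory CategoryTheory.Limits AlgebraicGeometry Opposite TopologicalSpace Polynomial
open Scheme.AffineZariskiSite Groth.Agent.Helper13QCAlgOfAffine
open Groth.Agent.Lib.T2H6.ReesLoc Groth.Agent.Lib.T2H6.ReesChart
open scoped HomogeneousIdeal

universe u

noncomputable section

variable {X : Scheme.{u}} (𝓘 : X.IdealSheafData)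

/-- an object of the affine site as an affine open -/
abbrev aO (U : X.AffineZariskiSite) : X.affineOpens := ⟨U.1, U.2⟩

/-- the ideal over an object of the affine site -/
abbrev Iat (U : X.AffineZariskiSite) : Ideal Γ(X, U.1) := 𝓘.ideal (aO U)

/-- restriction of functions -/
abbrev resS {U V : X.Opens} (h : V ≤ U) : Γ(X, U) →+* Γ(X, V) := (X.presheaf.map (homOfLE h).op).hom

theorem map_Iat {U V : X.AffineZariskiSite} (h : V.1 ≤ U.1) :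
    (Iat 𝓘 U).map (resS h) = Iat 𝓘 V :=
  𝓘.map_ideal (U := aO V) (V := aO U) h

/-- the transition maps of the Rees algebras -/
def rmap {U V : X.AffineZariskiSite} (h : V.1 ≤ U.1) :
    reesAlgebra (Iat 𝓘 U) →+* reesAlgebra (Iat 𝓘 V) :=
  reesMap (resS h) (Iat 𝓘 U) (Iat 𝓘 V) (map_Iat 𝓘 h).le

theorem coe_rmap {U V : X.AffineZariskiSite} (h : V.1 ≤ U.1) (x : reesAlgebra (Iat 𝓘 U)) :
    ((rmap 𝓘 h x : reesAlgebra (Iat 𝓘 V)) : Γ(X, V.1)[X]) = Polynomial.map (resS h) (x : Γ(X, U.1)[X]) :=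
  rfl

theorem rmap_id (U : X.AffineZariskiSite) (x : reesAlgebra (Iat 𝓘 U)) :
    rmap 𝓘 (le_refl U.1) x = x := by
  apply Subtype.ext
  rw [coe_rmap]
  have : resS (le_refl U.1) = RingHom.id Γ(X, U.1) := by
    refine RingHom.ext fun r => ?_
    change (X.presheaf.map (𝟙 _)).hom r = r
    rw [X.presheaf.map_id]; rfl
  rw [this, Polynomial.map_id]

theorem rmap_comp {U V W : X.AffineZariskiSite} (h : V.1 ≤ U.1) (h' : W.1 ≤ V.1)
    (x : reesAlgebra (Iat 𝓘 U)) :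
    rmap 𝓘 h' (rmap 𝓘 h x) = rmap 𝓘 (h'.trans h) x := by
  apply Subtype.ext
  rw [coe_rmap, coe_rmap, coe_rmap, Polynomial.map_map]
  have e : resS (h'.trans h) = (resS h').comp (resS h) := by
    refine RingHom.ext fun r => ?_
    change (X.presheaf.map _).hom r = (X.presheaf.map _).hom ((X.presheaf.map _).hom r)
    rw [← CommRingCat.comp_apply, ← Functor.map_comp]
    rfl
  rw [e]

/-- the presheaf of Rees algebras on the affine site -/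
abbrev F : X.AffineZariskiSiteᵒᵖ ⥤ CommRingCat.{u} where
  obj U := CommRingCat.of (reesAlgebra (Iat 𝓘 U.unop))
  map {U V} i := CommRingCat.ofHom (rmap 𝓘 (toOpens_mono i.unop.le))
  map_id U := by
    refine CommRingCat.hom_ext (RingHom.ext fun x => ?_)
    exact rmap_id 𝓘 _ x
  map_comp {U V W} i j := by
    refine CommRingCat.hom_ext (RingHom.ext fun x => ?_)
    exact (rmap_comp 𝓘 _ _ x).symm

/-- the structure map on the affine site -/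
def α : (toOpensFunctor X).op ⋙ X.presheaf ⟶ F 𝓘 where
  app U := CommRingCat.ofHom (algebraMap Γ(X, U.unop.1) (reesAlgebra (Iat 𝓘 U.unop)))
  naturality {U V} i := by
    refine CommRingCat.hom_ext (RingHom.ext fun r => ?_)
    exact (reesMap_algebraMap (resS (toOpens_mono i.unop.le)) (Iat 𝓘 U.unop) (Iat 𝓘 V.unop)
      (map_Iat 𝓘 _).le r).symm

theorem α_apply (U : X.AffineZariskiSite) (r : Γ(X, U.1)) :
    ((α 𝓘).app (op U)).hom r = algebraMap Γ(X, U.1) (reesAlgebra (Iat 𝓘 U)) r := rfl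

theorem coequifibered : (α 𝓘).Coequifibered := by
  rw [coequifibered_iff_forall_isLocalizationAway]
  intro U r
  have h1 : @IsLocalization.Away Γ(X, U.1) _ r Γ(X, X.basicOpen r) _
      (resS (X.basicOpen_le r)).toAlgebra := U.2.isLocalization_basicOpen r
  have h2 := isLocalization_reesMap'' (resS (X.basicOpen_le r)) (Iat 𝓘 U) r h1
    (Iat 𝓘 (U.basicOpen r)) (map_Iat 𝓘 (U := U) (V := U.basicOpen r) (X.basicOpen_le r))
  exact h2

/-- the grading of the Rees algebras -/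
abbrev gr (U : X.AffineZariskiSite) : ℕ → Submodule Γ(X, U.1) (reesAlgebra (Iat 𝓘 U)) :=
  Rees.deg (reesAlgebra (Iat 𝓘 U))

theorem hmap {U V : X.AffineZariskiSite} (i : V ⟶ U) {d : ℕ} {x : (F 𝓘).obj (op U)}
    (hx : x ∈ gr 𝓘 U d) : ((F 𝓘).map i.op).hom x ∈ gr 𝓘 V d :=
  reesMap_mem_deg (resS (toOpens_mono i.le)) (Iat 𝓘 U) (Iat 𝓘 V) (map_Iat 𝓘 _).le hx

theorem hstr (U : X.AffineZariskiSite) (r : Γ(X, U.1)) :
    ((α 𝓘).app (op U)).hom r ∈ gr 𝓘 U 0 :=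
  SetLike.algebraMap_mem_graded (gr 𝓘 U) r

/-- the Rees algebra `⊕ 𝓘ⁿ` as a quasi-coherent graded algebra -/
def qcGrAlg : RelProj.QCGrAlg X :=
  Groth.Agent.Lib.T2H6.QCGrOfAffine.qcGrAlg
    (σ := fun U => Submodule Γ(X, U.1) (reesAlgebra (Iat 𝓘 U)))
    (coequifibered 𝓘) (gr 𝓘)
    (fun i _ _ hx => hmap 𝓘 i hx) (hstr 𝓘)

theorem isGenDegOne : (qcGrAlg 𝓘).IsGenDegOne :=
  Groth.Agent.Lib.T2H6.QCGrOfAffine.isGenDegOne _ _ _ _
    (fun U => closure_deg_eq_top (Iat 𝓘 U))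

theorem isFTDeg_one (h𝓘 : BlowUp.IsFiniteTypeIdeal 𝓘) : (qcGrAlg 𝓘).IsFTDeg 1 :=
  Groth.Agent.Lib.T2H6.QCGrOfAffine.isFTDeg _ _ _ _ 1
    (fun U => exists_finset_deg_one (Iat 𝓘 U) (h𝓘 (aO U)))

section Chart

open Scheme.IdealSheafData Groth.Agent.Lib.T2H6.BlowUpAffine

variable {X' : Scheme.{u}} (b : X' ⟶ X) (hb : BlowUp.IsBlowUp b 𝓘)

include hb

/-- the blowing up restricted over an affine open, seen over `Spec` -/
theorem isBlowUp_restrict (U : X.AffineZariskiSite) :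
    BlowUp.IsBlowUp (b ∣_ U.1 ≫ U.2.isoSpec.hom) (idl (Iat 𝓘 U)) := by
  have h1 : BlowUp.IsBlowUp (b ∣_ U.1) (𝓘.comap U.1.ι) :=
    Groth.Agent.Lib.T2H6.BlowUpGlue.isBlowUp_of_isPullback_of_isOpenImmersion b 𝓘 hb U.1.ι
      (b ∣_ U.1) (b ⁻¹ᵁ U.1).ι (isPullback_morphismRestrict b U.1)
  have h2 : 𝓘.comap U.2.fromSpec = idl (Iat 𝓘 U) :=
    Groth.Agent.Lib.T2H6.BlowUpFiniteBir.comap_fromSpec_eq_idl 𝓘 (aO U)
  rw [← h2]
  refine Groth.Agent.Lib.T2H6.BlowUpGlue.isBlowUp_comp_iso (b ∣_ U.1) U.2.isoSpec _ ?_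
  rw [← comap_comp, IsAffineOpen.isoSpec_hom_fromSpec]
  exact h1

omit hb in
/-- the structure morphism `Proj R(𝓘(U)) ⟶ Spec Γ(X, U)` -/
abbrev β (U : X.AffineZariskiSite) : Proj (gr 𝓘 U) ⟶ Spec Γ(X, U.1) :=
  Groth.Agent.Lib.T2H6.BlowUpAffine.b (Iat 𝓘 U)

theorem exists_chart (U : X.AffineZariskiSite) :
    ∃ ι : ((b ⁻¹ᵁ U.1 : X'.Opens) : Scheme.{u}) ⟶ Proj (gr 𝓘 U),
      IsIso ι ∧ ι ≫ β 𝓘 U = b ∣_ U.1 ≫ U.2.isoSpec.hom :=
  Groth.Agent.Lib.T2H6.BlowUpCoprime.exists_isIso_of_isBlowUp (idl (Iat 𝓘 U))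
    (b ∣_ U.1 ≫ U.2.isoSpec.hom) (isBlowUp_restrict 𝓘 b hb U) (β 𝓘 U) (isBlowUp_b (Iat 𝓘 U))

/-- the chart `b⁻¹ U ≅ Proj R(𝓘(U))` -/
def chart (U : X.AffineZariskiSite) : ((b ⁻¹ᵁ U.1 : X'.Opens) : Scheme.{u}) ≅ Proj (gr 𝓘 U) :=
  @asIso _ _ _ _ (exists_chart 𝓘 b hb U).choose (exists_chart 𝓘 b hb U).choose_spec.1

theorem chart_hom_β (U : X.AffineZariskiSite) :
    (chart 𝓘 b hb U).hom ≫ β 𝓘 U = b ∣_ U.1 ≫ U.2.isoSpec.hom :=
  (exists_chart 𝓘 b hb U).choose_spec.2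

omit hb in
theorem toSpecZero_strZ (U : X.AffineZariskiSite) :
    Proj.toSpecZero (gr 𝓘 U) ≫ Spec.map (QCGrOfAffine.strZ (gr 𝓘) (hstr 𝓘) U) = β 𝓘 U := rfl

theorem chart_over (U : X.AffineZariskiSite) :
    (chart 𝓘 b hb U).hom ≫ Proj.toSpecZero (gr 𝓘 U) ≫
      Spec.map (QCGrOfAffine.strZ (gr 𝓘) (hstr 𝓘) U) ≫ U.2.fromSpec = (b ⁻¹ᵁ U.1).ι ≫ b := by
  rw [← Category.assoc (Proj.toSpecZero (gr 𝓘 U)), toSpecZero_strZ, ← Category.assoc,
    chart_hom_β, Category.assoc, IsAffineOpen.isoSpec_hom_fromSpec, morphismRestrict_ι]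

omit hb in
theorem β_natural {U V : X.AffineZariskiSite} (i : V ⟶ U) :
    Proj.map (QCGrOfAffine.Fres (gr 𝓘) (fun i _ _ hx => hmap 𝓘 i hx) i)
      (QCGrOfAffine.hirr (coequifibered 𝓘) (gr 𝓘) (fun i _ _ hx => hmap 𝓘 i hx) (hstr 𝓘) i) ≫
        β 𝓘 U = β 𝓘 V ≫ Spec.map (X.presheaf.map (homOfLE (toOpens_mono i.le)).op) := by
  unfold β Groth.Agent.Lib.T2H6.BlowUpAffine.b
  rw [Groth.Agent.Helper13RelProj.map_toSpecZero_assoc, Category.assoc, ← Spec.map_comp,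
    ← Spec.map_comp]
  congr 2
  refine CommRingCat.hom_ext (RingHom.ext fun r => Subtype.ext ?_)
  exact (reesMap_algebraMap (resS (toOpens_mono i.le)) (Iat 𝓘 U) (Iat 𝓘 V)
      (map_Iat 𝓘 _).le r)

theorem chart_natural {U V : X.AffineZariskiSite} (i : V ⟶ U) :
    X'.homOfLE (b.preimage_mono (toOpens_mono i.le)) ≫ (chart 𝓘 b hb U).hom =
      (chart 𝓘 b hb V).hom ≫
        Proj.map (QCGrOfAffine.Fres (gr 𝓘) (fun i _ _ hx => hmap 𝓘 i hx) i)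
          (QCGrOfAffine.hirr (coequifibered 𝓘) (gr 𝓘) (fun i _ _ hx => hmap 𝓘 i hx) (hstr 𝓘) i) := by
  set k₁ := X'.homOfLE (b.preimage_mono (toOpens_mono i.le)) ≫ (chart 𝓘 b hb U).hom with hk₁
  set k₂ := (chart 𝓘 b hb V).hom ≫
    Proj.map (QCGrOfAffine.Fres (gr 𝓘) (fun i _ _ hx => hmap 𝓘 i hx) i)
      (QCGrOfAffine.hirr (coequifibered 𝓘) (gr 𝓘) (fun i _ _ hx => hmap 𝓘 i hx) (hstr 𝓘) i) with hk₂
  have hB := isBlowUp_b (Iat 𝓘 U)
  haveI : IsOpenImmersion k₁ := by rw [hk₁]; infer_instance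
  have hE : BlowUp.IsEffCartierIdeal ((idl (Iat 𝓘 U)).comap (k₁ ≫ β 𝓘 U)) := by
    rw [comap_comp]
    exact Groth.Agent.Lib.T2H6.BlowUpCoprime.isEffCartierIdeal_comap_of_isOpenImmersion k₁ _ hB.1
  have hres : X'.homOfLE (b.preimage_mono (toOpens_mono i.le)) ≫ b ∣_ U.1 =
      b ∣_ V.1 ≫ X.homOfLE (toOpens_mono i.le) := by
    rw [← cancel_mono U.1.ι]
    simp only [Category.assoc, morphismRestrict_ι, Scheme.homOfLE_ι, Scheme.homOfLE_ι_assoc]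
  have h12 : k₂ ≫ β 𝓘 U = k₁ ≫ β 𝓘 U := by
    rw [hk₁, hk₂, Category.assoc, Category.assoc, β_natural, chart_hom_β, ← Category.assoc,
      chart_hom_β, Category.assoc, IsAffineOpen.isoSpec_hom, IsAffineOpen.isoSpec_hom,
      Scheme.Opens.toSpecΓ_SpecMap_presheaf_map, ← Category.assoc, ← Category.assoc, hres]
  obtain ⟨h, -, hu⟩ := hB.2 _ (k₁ ≫ β 𝓘 U) hE
  rw [hu k₁ rfl, hu k₂ h12]

theorem chart_res (U : X.AffineZariskiSite) (r : Γ(X, U.1)) :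
    X'.homOfLE (b.preimage_mono (X.basicOpen_le r)) ≫ (chart 𝓘 b hb U).hom =
      (chart 𝓘 b hb (U.basicOpen r)).hom ≫
        Proj.map (QCGrOfAffine.Fres (gr 𝓘) (fun i _ _ hx => hmap 𝓘 i hx)
          (homOfLE (U.basicOpen_le r)))
          (QCGrOfAffine.hirr (coequifibered 𝓘) (gr 𝓘) (fun i _ _ hx => hmap 𝓘 i hx) (hstr 𝓘) _) :=
  chart_natural 𝓘 b hb (homOfLE (U.basicOpen_le r))

theorem isRelProj : RelProj.IsRelProj (qcGrAlg 𝓘) b
    (fun U hU => chart 𝓘 b hb (aff U hU) ≪≫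
      QCGrOfAffine.projIso (coequifibered 𝓘) (gr 𝓘) (fun i _ _ hx => hmap 𝓘 i hx) (hstr 𝓘) U hU) :=
  QCGrOfAffine.isRelProj_of_charts (coequifibered 𝓘) (gr 𝓘) (fun i _ _ hx => hmap 𝓘 i hx) (hstr 𝓘) b
    (chart 𝓘 b hb) (chart_over 𝓘 b hb) (chart_res 𝓘 b hb)

/-- a blowing up in an ideal of finite type is projective. -/
theorem isProjective_of_isBlowUp (h𝓘 : BlowUp.IsFiniteTypeIdeal 𝓘) : RelProj.IsProjective b :=
  ⟨qcGrAlg 𝓘, X', b, _, Iso.refl X', isGenDegOne 𝓘, isFTDeg_one 𝓘 h𝓘, isRelProj 𝓘 b hb,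
    Category.id_comp b⟩

end Chart

end

end Groth.Agent.Lib.T2H6.BlowUpProj
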