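import Groth.Agent.Lib.T2H6FTSupport
import Groth.Agent.Lib.T2H6ColonIdeal
import Groth.Agent.Lib.T2H6BlowUpGlue
import Groth.Agent.Lib.T2H6BlowUpSeparate
import Groth.Agent.Lib.T2H6ModulusFun
import Groth.Agent.Lib.Helper2Constr

/-!
# Separating disjoint constructible closed subsets of an open by an admissible blow-up (Stacks 080P)
-/

set_option autoImplicit false
universe u

open CategoryTheory AlgebraicGeometry TopologicalSpace Topology
open AlgebraicGeometry.Scheme.IdealSheafData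

namespace Groth.Agent.Lib.T2H6.BlowUpSepConstr

/-- Stacks 080A, in terms of supports: if the inverse image of `I₁ ⊔ I₂` is effective Cartier on `X'`, then the
closures of the preimages of subsets `A_i ⊆ V(I_i)` missing `V(I₁ ⊔ I₂)` are disjoint. -/
theorem disjoint_closure_preimage {X X' : Scheme.{u}} (b : X' ⟶ X) (I₁ I₂ : X.IdealSheafData)
    (hb : BlowUp.IsEffCartierIdeal ((I₁ ⊔ I₂).comap b)) (A₁ A₂ : Set X)
    (hA₁ : A₁ ⊆ (I₁.support : Set X)) (hA₂ : A₂ ⊆ (I₂.support : Set X))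
    (h₁ : Disjoint A₁ ((I₁ ⊔ I₂).support : Set X)) (h₂ : Disjoint A₂ ((I₁ ⊔ I₂).support : Set X)) :
    Disjoint (closure (b.base ⁻¹' A₁)) (closure (b.base ⁻¹' A₂)) := by
  set L := (I₁ ⊔ I₂).comap b with hL
  have le₁ : I₁.comap b ≤ L := comap_mono b le_sup_left
  have le₂ : I₂.comap b ≤ L := comap_mono b le_sup_right
  obtain ⟨K₁, hK₁⟩ := ColonIdeal.exists_mul_eq _ _ hb le₁
  obtain ⟨K₂, hK₂⟩ := ColonIdeal.exists_mul_eq _ _ hb le₂
  have hsum : (K₁ ⊔ K₂) * L = ⊤ * L := by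
    rw [inf_mul, hK₁, hK₂, top_mul, hL, comap_sup]
  have htop : K₁ ⊔ K₂ = ⊤ := ModulusFun.mul_right_cancel_effCartier _ _ _ hb hsum
  have hsub : ∀ (K : X'.IdealSheafData) (I : X.IdealSheafData) (A : Set X), K * L = I.comap b → A ⊆ (I.support : Set X) →
      Disjoint A ((I₁ ⊔ I₂).support : Set X) → closure (b.base ⁻¹' A) ⊆ (K.support : Set X') := by
    intro K I A hK hA hd
    apply closure_minimal _ K.support.isClosed
    intro x hx
    have hx1 : x ∈ (I.comap b).support := (BlowUpSeparate.mem_support_comap I b x).2 (hA hx)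
    rw [← hK, support_mul] at hx1
    rcases hx1 with h | h
    · exact h
    · exfalso
      have : b x ∈ (I₁ ⊔ I₂).support := (BlowUpSeparate.mem_support_comap _ b x).1 h
      exact Set.disjoint_left.1 hd hx this
  rw [Set.disjoint_left]
  intro x hx1 hx2
  have h1 := hsub K₁ I₁ A₁ hK₁ hA₁ h₁ hx1
  have h2 := hsub K₂ I₂ A₂ hK₂ hA₂ h₂ hx2
  have : x ∈ (K₁ ⊔ K₂).support := by
    rw [support_sup]
    exact ⟨h1, h2⟩
  rw [htop, support_top] at this
  exact this

/-- finite type ideals are stable under sup. -/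
theorem isFiniteTypeIdeal_sup {X : Scheme.{u}} {I J : X.IdealSheafData} (hI : BlowUp.IsFiniteTypeIdeal I)
    (hJ : BlowUp.IsFiniteTypeIdeal J) : BlowUp.IsFiniteTypeIdeal (I ⊔ J) := by
  intro U
  rw [ideal_sup]
  exact Submodule.FG.sup (hI U) (hJ U)

/-- Stacks 080P (2). -/
theorem main {X : Scheme.{u}} [CompactSpace X] [QuasiSeparatedSpace X]
    (U : X.Opens) (hU : IsCompact (U : Set X)) (T₁ T₂ : Set U)
    (h₁ : IsClosed T₁) (h₂ : IsClosed T₂) (c₁ : IsConstructible T₁) (c₂ : IsConstructible T₂)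
    (hd : Disjoint T₁ T₂) :
    ∃ (𝓘 : X.IdealSheafData) (X' : Scheme.{u}) (b : X' ⟶ X), BlowUp.IsBlowUp b 𝓘 ∧
      BlowUp.IsAdmissibleFor U 𝓘 ∧
      Disjoint (closure (b.base ⁻¹' (Subtype.val '' T₁))) (closure (b.base ⁻¹' (Subtype.val '' T₂))) := by
  haveI : CompactSpace U := isCompact_iff_compactSpace.1 hU
  -- the complement of `T` in `U`, as an open of `X`
  have key : ∀ T : Set U, IsClosed T → IsConstructible T →
      ∃ J : X.IdealSheafData, BlowUp.IsFiniteTypeIdeal J ∧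
        (J.support : Set X) = ((U : Set X) \ (Subtype.val '' T))ᶜ := by
    intro T hT cT
    have hTc : IsCompact (Tᶜ : Set U) :=
      (Groth.Agent.Lib.Helper2.Constr.isRetrocompact_of_isConstructible
        (isConstructible_compl.2 cT)).isCompact
    have hopen : IsOpen (Subtype.val '' (Tᶜ : Set U) : Set X) :=
      U.isOpen.isOpenMap_subtype_val _ hT.isOpen_compl
    have hcomp : IsCompact (Subtype.val '' (Tᶜ : Set U) : Set X) := hTc.image continuous_subtype_val
    obtain ⟨J, hJ, hJs⟩ := FTSupport.exists_ft_support_eq (X := X) ⟨_, hopen⟩ hcomp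
    refine ⟨J, hJ, ?_⟩
    rw [hJs]
    congr 1
    ext x
    simp only [Opens.coe_mk, Set.mem_image, Set.mem_compl_iff, Subtype.exists, exists_and_right,
      exists_eq_right, Set.mem_sdiff, SetLike.mem_coe]
    constructor
    · rintro ⟨hx, h⟩
      exact ⟨hx, fun ⟨hx', h'⟩ => h h'⟩
    · rintro ⟨hx, h⟩
      exact ⟨hx, fun h' => h ⟨hx, h'⟩⟩
  obtain ⟨I₁, hI₁, hs₁⟩ := key T₁ h₁ c₁
  obtain ⟨I₂, hI₂, hs₂⟩ := key T₂ h₂ c₂
  obtain ⟨X', b, hb⟩ := BlowUpGlue.exists_isBlowUp X (I₁ ⊔ I₂)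
  have hsupp : ((I₁ ⊔ I₂).support : Set X) = (U : Set X)ᶜ := by
    rw [support_sup]
    change (I₁.support : Set X) ∩ (I₂.support : Set X) = _
    rw [hs₁, hs₂]
    ext x
    simp only [Set.mem_inter_iff, Set.mem_compl_iff, Set.mem_sdiff, SetLike.mem_coe, Set.mem_image,
      Subtype.exists, exists_and_right, exists_eq_right, not_and, not_not]
    constructor
    · rintro ⟨a1, a2⟩ hx
      obtain ⟨_, t1⟩ := a1 hx
      obtain ⟨_, t2⟩ := a2 hx
      exact Set.disjoint_left.1 hd t1 t2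
    · intro hx
      exact ⟨fun h => absurd h hx, fun h => absurd h hx⟩
  refine ⟨I₁ ⊔ I₂, X', b, hb, ⟨isFiniteTypeIdeal_sup hI₁ hI₂, ?_⟩, ?_⟩
  · rw [hsupp]
    exact disjoint_compl_left
  · apply disjoint_closure_preimage b I₁ I₂ hb.1
    · rw [hs₁]
      rintro _ ⟨t, ht, rfl⟩
      simp only [Set.mem_compl_iff, Set.mem_sdiff, SetLike.mem_coe, not_and, not_not]
      intro _
      exact ⟨t, ht, rfl⟩
    · rw [hs₂]
      rintro _ ⟨t, ht, rfl⟩
      simp only [Set.mem_compl_iff, Set.mem_sdiff, SetLike.mem_coe, not_and, not_not]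
      intro _
      exact ⟨t, ht, rfl⟩
    · rw [hsupp, Set.disjoint_left]
      rintro _ ⟨t, _, rfl⟩ h
      exact h t.2
    · rw [hsupp, Set.disjoint_left]
      rintro _ ⟨t, _, rfl⟩ h
      exact h t.2

end Groth.Agent.Lib.T2H6.BlowUpSepConstr
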