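import Groth.Agent.Lib.T2H6BlowUpClosureImm

/-!
# Separating closures in a fibre product of compactifications by admissible blow-ups of the factors
-/

set_option autoImplicit false
universe u

open CategoryTheory AlgebraicGeometry TopologicalSpace Topology Limits
open AlgebraicGeometry.Scheme.IdealSheafData

namespace Groth.Agent.Lib.T2H6.BlowUpWideSep

/-- The complement of the support of a finite type ideal on a quasi-compact scheme is quasi-compact. -/
theorem isCompact_compl_support {X : Scheme.{u}} [CompactSpace X] (I : X.IdealSheafData)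
    (hI : BlowUp.IsFiniteTypeIdeal I) : IsCompact ((I.support : Set X)ᶜ) := by
  classical
  obtain ⟨t, ht⟩ := isCompact_univ.elim_finite_subcover (fun U : X.affineOpens => (U.1 : Set X))
    (fun U => U.1.isOpen) (by
      intro x _
      obtain ⟨_, ⟨W, hW, rfl⟩, hxW, -⟩ :=
        X.isBasis_affineOpens.exists_subset_of_mem_open (Set.mem_univ x) isOpen_univ
      exact Set.mem_iUnion.2 ⟨⟨W, hW⟩, hxW⟩)
  choose s hs using fun U : X.affineOpens => hI U
  have key : (I.support : Set X)ᶜ = ⋃ U ∈ t, ⋃ f ∈ s U, (X.basicOpen f : Set X) := by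
    ext x
    simp only [Set.mem_compl_iff, SetLike.mem_coe, Set.mem_iUnion, exists_prop]
    constructor
    · intro hx
      obtain ⟨U, hU⟩ := Set.mem_iUnion.1 (ht (Set.mem_univ x))
      obtain ⟨hUt, hxU⟩ := Set.mem_iUnion.1 hU
      refine ⟨U, hUt, ?_⟩
      by_contra hcon
      push Not at hcon
      apply hx
      rw [mem_support_iff_of_mem (U := U) hxU, Scheme.mem_zeroLocus_iff]
      intro c hc
      rw [← hs U] at hc
      intro hxc
      have : x ∈ X.zeroLocus (U := U.1) ((s U : Set Γ(X, U.1))) := by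
        rw [Scheme.mem_zeroLocus_iff]
        intro f hf hxf
        exact hcon f hf hxf
      rw [← Scheme.zeroLocus_span, Scheme.mem_zeroLocus_iff] at this
      exact this c hc hxc
    · rintro ⟨U, _, f, hf, hxf⟩ hx
      refine FTSupport.not_mem_support_of_mem_basicOpen I U f ?_ x hxf hx
      rw [← hs U]
      exact Ideal.subset_span hf
  rw [key]
  refine t.finite_toSet.isCompact_biUnion fun U _ => ?_
  refine (s U).finite_toSet.isCompact_biUnion fun f _ => ?_
  exact (U.2.basicOpen f).isCompact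

theorem isEffCartier_top {X : Scheme.{u}} : BlowUp.IsEffCartierIdeal (⊤ : X.IdealSheafData) := by
  intro x
  obtain ⟨_, ⟨W, hW, rfl⟩, hxW, -⟩ :=
    X.isBasis_affineOpens.exists_subset_of_mem_open (Set.mem_univ x) isOpen_univ
  refine ⟨⟨W, hW⟩, hxW, 1, one_mem _, ?_⟩
  rw [Ideal.span_singleton_one]
  rfl

theorem isEffCartier_comap_of_disjoint {X Y : Scheme.{u}} (f : Y ⟶ X) (I : X.IdealSheafData)
    (h : ∀ y, f y ∉ I.support) : BlowUp.IsEffCartierIdeal (I.comap f) := by
  have : I.comap f = ⊤ := by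
    rw [← support_eq_bot_iff]
    ext y
    simp only [Closeds.coe_bot, Set.mem_empty_iff_false, iff_false, SetLike.mem_coe]
    intro hy
    exact h y ((BlowUpSeparate.mem_support_comap I f y).1 hy)
  rw [this]
  exact isEffCartier_top


/-- a weak (existence-only) wide pullback whose base map is quasi-compact. -/
theorem exists_weak_widePullback {S : Scheme.{u}} : ∀ (m : ℕ) (Xb : Fin m → Scheme.{u})
    (gb : ∀ i, Xb i ⟶ S) (_ : ∀ i, QuasiCompact (gb i)),
    ∃ (P : Scheme.{u}) (base : P ⟶ S) (proj : ∀ i, P ⟶ Xb i), QuasiCompact base ∧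
      (∀ i, proj i ≫ gb i = base) ∧
      ∀ (T : Scheme.{u}) (b : T ⟶ S) (t : ∀ i, T ⟶ Xb i), (∀ i, t i ≫ gb i = b) →
        ∃ l : T ⟶ P, l ≫ base = b ∧ ∀ i, l ≫ proj i = t i := by
  intro m
  induction m with
  | zero =>
    intro Xb gb _
    exact ⟨S, 𝟙 S, fun i => i.elim0, inferInstance, fun i => i.elim0,
      fun T b _ _ => ⟨b, Category.comp_id _, fun i => i.elim0⟩⟩
  | succ m ih =>
    intro Xb gb hgb
    obtain ⟨P, base, proj, hqc, hproj, hlift⟩ := ih (fun i => Xb i.succ) (fun i => gb i.succ)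
      (fun i => hgb i.succ)
    haveI := hqc
    haveI := hgb 0
    refine ⟨pullback (gb 0) base, pullback.fst _ _ ≫ gb 0,
      Fin.cases (pullback.fst _ _) (fun i => pullback.snd _ _ ≫ proj i), inferInstance, ?_, ?_⟩
    · intro i
      refine Fin.cases ?_ (fun i => ?_) i
      · rfl
      · simp only [Fin.cases_succ, Category.assoc, hproj, pullback.condition]
    · intro T b t ht
      obtain ⟨l, hlb, hl⟩ := hlift T b (fun i => t i.succ) (fun i => ht i.succ)
      refine ⟨pullback.lift (t 0) l (by rw [ht 0, hlb]), ?_, ?_⟩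
      · rw [pullback.lift_fst_assoc, ht 0]
      · intro i
        refine Fin.cases ?_ (fun i => ?_) i
        · exact pullback.lift_fst _ _ _
        · change pullback.lift (t 0) l _ ≫ pullback.snd _ _ ≫ proj i = _
          rw [pullback.lift_snd_assoc, hl]

theorem compactSpace_widePullback {S : Scheme.{u}} [CompactSpace S] {m : ℕ} (Xb : Fin m → Scheme.{u})
    (gb : ∀ i, Xb i ⟶ S) [∀ i, QuasiCompact (gb i)] : CompactSpace ↥(widePullback S Xb gb) := by
  obtain ⟨P, base, proj, hqc, hproj, hlift⟩ := exists_weak_widePullback m Xb gb inferInstance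
  haveI := hqc
  haveI : CompactSpace P := QuasiCompact.compactSpace_of_compactSpace base
  let r : P ⟶ widePullback S Xb gb := WidePullback.lift base proj hproj
  obtain ⟨s, hsb, hs⟩ := hlift (widePullback S Xb gb) (WidePullback.base gb) (WidePullback.π gb)
    (fun i => WidePullback.π_arrow gb i)
  have hsr : s ≫ r = 𝟙 _ := by
    apply WidePullback.hom_ext
    · intro i
      rw [Category.assoc, WidePullback.lift_π, hs, Category.id_comp]
    · rw [Category.assoc, WidePullback.lift_base, hsb, Category.id_comp]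
  have hsurj : Function.Surjective r := by
    intro z
    refine ⟨s z, ?_⟩
    have := congrArg (fun g => g.base z) hsr
    simpa using this
  exact ⟨by
    have := isCompact_univ.image r.continuous
    rwa [Set.image_univ, hsurj.range_eq] at this⟩


/-- If a point of the closure of `U` in the product of the compactifications has one coordinate in the open
part `X_k`, then all its coordinates lie in the open parts (the `X_i` are proper over `X`). -/
theorem mem_range_of_mem_closure {S X U : Scheme.{u}} {m : ℕ}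
    (gX : X ⟶ S) (Xi Xb : Fin m → Scheme.{u}) (gb : ∀ i, Xb i ⟶ S) [∀ i, IsProper (gb i)]
    (o : ∀ i, Xi i ⟶ Xb i) [∀ i, IsOpenImmersion (o i)]
    (q : ∀ i, Xi i ⟶ X) [∀ i, IsProper (q i)] (hq : ∀ i, q i ≫ gX = o i ≫ gb i)
    (jU : U ⟶ X) (v : ∀ i, U ⟶ Xi i) (hv : ∀ i, v i ≫ q i = jU)
    (w : ∀ i, (v i ≫ o i) ≫ gb i = jU ≫ gX)
    (z : ↥(widePullback S Xb gb))
    (hz : z ∈ closure (Set.range (fun x => (WidePullback.lift (jU ≫ gX) (fun i => v i ≫ o i) w) x)))
    (k : Fin m) (hk : (WidePullback.π gb k) z ∈ Set.range (o k)) (i : Fin m) :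
    (WidePullback.π gb i) z ∈ Set.range (o i) := by
  set ℓ := WidePullback.lift (jU ≫ gX) (fun i => v i ≫ o i) w with hℓ
  let Pk : (widePullback S Xb gb).Opens := (WidePullback.π gb k) ⁻¹ᵁ (o k).opensRange
  have hPk : Set.range (Pk.ι ≫ WidePullback.π gb k) ⊆ Set.range (o k) := by
    rintro _ ⟨y, rfl⟩
    exact y.2
  let lk : (Pk : Scheme.{u}) ⟶ Xi k := IsOpenImmersion.lift (o k) (Pk.ι ≫ WidePullback.π gb k) hPk
  have hlk : lk ≫ o k = Pk.ι ≫ WidePullback.π gb k := IsOpenImmersion.lift_fac _ _ _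
  let γ : Xi i ⟶ pullback gX (gb i) := pullback.lift (q i) (o i) (hq i)
  haveI : IsProper (γ ≫ pullback.fst gX (gb i)) := by
    rw [pullback.lift_fst]; infer_instance
  haveI : IsProper γ := IsProper.of_comp γ (pullback.fst gX (gb i))
  let φ : (Pk : Scheme.{u}) ⟶ pullback gX (gb i) :=
    pullback.lift (lk ≫ q k) (Pk.ι ≫ WidePullback.π gb i) (by
      rw [Category.assoc, hq k, reassoc_of% hlk, Category.assoc,
        WidePullback.π_arrow, WidePullback.π_arrow])
  have hℓPk : Set.range ℓ ⊆ Set.range Pk.ι := by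
    rintro _ ⟨x, rfl⟩
    rw [Scheme.Opens.range_ι]
    change (WidePullback.π gb k) (ℓ x) ∈ Set.range (o k)
    refine ⟨v k x, ?_⟩
    have := congrArg (fun g => g.base x) (WidePullback.lift_π gb (jU ≫ gX) (fun i => v i ≫ o i) w k)
    simpa [hℓ] using this.symm
  let ℓk : U ⟶ (Pk : Scheme.{u}) := IsOpenImmersion.lift Pk.ι ℓ hℓPk
  have hℓk : ℓk ≫ Pk.ι = ℓ := IsOpenImmersion.lift_fac _ _ _
  have hℓlk : ℓk ≫ lk = v k := by
    rw [← cancel_mono (o k), Category.assoc, hlk, reassoc_of% hℓk, hℓ, WidePullback.lift_π]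
  have hcomp : ℓk ≫ φ = v i ≫ γ := by
    apply pullback.hom_ext
    · rw [Category.assoc, pullback.lift_fst, Category.assoc, pullback.lift_fst, reassoc_of% hℓlk,
        hv, hv]
    · rw [Category.assoc, pullback.lift_snd, Category.assoc, pullback.lift_snd, reassoc_of% hℓk, hℓ,
        WidePullback.lift_π]
  have hzPk : z ∈ Pk := hk
  have hz' : (⟨z, hzPk⟩ : Pk) ∈ closure (Set.range ℓk) := by
    have hemb : Topology.IsEmbedding Pk.ι := Pk.ι.isOpenEmbedding.isEmbedding
    rw [hemb.closure_eq_preimage_closure_image]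
    change Pk.ι ⟨z, hzPk⟩ ∈ closure (Pk.ι '' Set.range ℓk)
    have h1 : Pk.ι '' Set.range ℓk = Set.range ℓ := by
      rw [← Set.range_comp, ← hℓk]
      rfl
    rw [h1]
    exact hz
  have h2 : φ ⟨z, hzPk⟩ ∈ Set.range γ := by
    have hcl : IsClosed (Set.range γ) := γ.isClosedMap.isClosed_range
    have h3 := image_closure_subset_closure_image φ.continuous (Set.mem_image_of_mem _ hz')
    refine hcl.closure_subset_iff.2 ?_ h3
    rintro _ ⟨_, ⟨x, rfl⟩, rfl⟩
    refine ⟨v i x, ?_⟩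
    have := congrArg (fun g => g.base x) hcomp
    simpa using this.symm
  obtain ⟨x, hx⟩ := h2
  refine ⟨x, ?_⟩
  have h4 := congrArg (fun y => (pullback.snd gX (gb i)) y) hx
  simp only at h4
  rw [← Scheme.Hom.comp_apply, pullback.lift_snd, ← Scheme.Hom.comp_apply, pullback.lift_snd] at h4
  rw [h4]
  rfl


theorem isFiniteTypeIdeal_iSup {X : Scheme.{u}} {ι : Type*} [Finite ι] (I : ι → X.IdealSheafData)
    (h : ∀ i, BlowUp.IsFiniteTypeIdeal (I i)) : BlowUp.IsFiniteTypeIdeal (⨆ i, I i) := by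
  intro U
  rw [ideal_iSup, iSup_apply]
  exact Submodule.fg_iSup _ (fun i => h i U)

theorem comap_iSup {X Y : Scheme.{u}} (f : Y ⟶ X) {ι : Type*} (I : ι → X.IdealSheafData) :
    (⨆ i, I i).comap f = ⨆ i, (I i).comap f :=
  (map_gc f).l_iSup

/-- The local Nakayama computation on the product. -/
theorem key {P : Scheme.{u}} {ι : Type*} [Finite ι] (L K I J : ι → P.IdealSheafData)
    (G : P.IdealSheafData) (hL : ∀ i, BlowUp.IsFiniteTypeIdeal (L i))
    (h1 : ∀ i, I i = K i * L i) (h2 : ∀ i, L i = I i ⊔ J i) (h3 : ∀ k, J k ≤ (⨆ i, I i) ⊔ G)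
    (z : P) (hz : ∀ i, z ∈ (K i).support) :
    ∃ N : P.Opens, z ∈ N ∧ ∀ y ∈ N, y ∈ G.support → ∀ i, y ∈ (L i).support := by
  have hIle : ∀ i, I i ≤ (⨆ i, K i) * (⨆ i, L i) := by
    intro i
    rw [h1 i]
    exact mul_le_mul' (le_iSup K i) (le_iSup L i)
  have hle : (⨆ i, L i) ≤ (⨆ i, K i) * (⨆ i, L i) ⊔ G := by
    apply iSup_le
    intro k
    rw [h2 k]
    apply sup_le
    · exact (hIle k).trans le_sup_left
    · refine (h3 k).trans (sup_le ?_ le_sup_right)
      exact (iSup_le hIle).trans le_sup_left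
  have hzK : z ∈ (⨆ i, K i).support := by
    rw [support_iSup]
    exact Closeds.mem_iInf.2 hz
  obtain ⟨N, hzN, hN⟩ := BlowUpSeparate.exists_nbhd_support_subset (⨆ i, L i) (⨆ i, K i) G
    (isFiniteTypeIdeal_iSup L hL) hle z hzK
  refine ⟨N, hzN, fun y hy hyG i => ?_⟩
  have := hN y hy hyG
  rw [support_iSup] at this
  exact Closeds.mem_iInf.1 this i


theorem pow_le_pow_right_sheaf {X : Scheme.{u}} (A : X.IdealSheafData) {a b : ℕ} (h : a ≤ b) :
    A ^ b ≤ A ^ a := by
  intro U
  rw [ideal_pow, ideal_pow]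
  exact Ideal.pow_le_pow_right h

set_option maxHeartbeats 1600000 in
theorem main
    {S X U : Scheme.{u}} [CompactSpace S] [QuasiSeparatedSpace S] {m : ℕ}
    (gX : X ⟶ S)
    (Xi Xb : Fin m → Scheme.{u}) (gb : ∀ i, Xb i ⟶ S) [∀ i, IsProper (gb i)]
    (o : ∀ i, Xi i ⟶ Xb i) [∀ i, IsOpenImmersion (o i)] [∀ i, QuasiCompact (o i)]
    (q : ∀ i, Xi i ⟶ X) [∀ i, IsProper (q i)] (hq : ∀ i, q i ≫ gX = o i ≫ gb i)
    (jU : U ⟶ X) (v : ∀ i, U ⟶ Xi i)
    (hv : ∀ i, v i ≫ q i = jU) (w : ∀ i, (v i ≫ o i) ≫ gb i = jU ≫ gX)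
    (Y : ∀ i, (Xi i).IdealSheafData) (hY : ∀ i, BlowUp.IsFiniteTypeIdeal (Y i))
    (hempty : ∀ z ∈ closure (Set.range (fun x =>
        (WidePullback.lift (jU ≫ gX) (fun i => v i ≫ o i) w) x)),
      ∃ i, (WidePullback.π gb i) z ∉ (fun x => o i x) '' ((Y i).support : Set (Xi i))) :
    ∃ (𝓔 : ∀ i, (Xb i).IdealSheafData) (Xb' : Fin m → Scheme.{u}) (c : ∀ i, Xb' i ⟶ Xb i)
      (v' : ∀ i, U ⟶ Xb' i) (w' : ∀ i, v' i ≫ c i ≫ gb i = jU ≫ gX),
      (∀ i, BlowUp.IsBlowUp (c i) (𝓔 i) ∧ BlowUp.IsAdmissibleFor (o i).opensRange (𝓔 i) ∧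
        v' i ≫ c i = v i ≫ o i) ∧
      ∀ z ∈ closure (Set.range (fun x => (WidePullback.lift (jU ≫ gX) (fun i => v' i) w') x)),
        ∃ i, (WidePullback.π (fun i => c i ≫ gb i) i) z ∉
          closure ((fun y => c i y) ⁻¹' ((fun x => o i x) '' ((Y i).support : Set (Xi i)))) := by
  classical
  haveI hXbc : ∀ i, CompactSpace (Xb i) := fun i => QuasiCompact.compactSpace_of_compactSpace (gb i)
  haveI hXbq : ∀ i, QuasiSeparatedSpace (Xb i) := fun i => quasiSeparatedSpace_of_quasiSeparated (gb i)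
  haveI hXic : ∀ i, CompactSpace (Xi i) := fun i => QuasiCompact.compactSpace_of_compactSpace (o i)
  -- the ideals `J i` of the boundaries
  have hJ : ∀ i, ∃ J : (Xb i).IdealSheafData, BlowUp.IsFiniteTypeIdeal J ∧
      (J.support : Set (Xb i)) = (Set.range (o i))ᶜ := fun i => by
    obtain ⟨J, h1, h2⟩ := FTSupport.exists_ft_support_eq (o i).opensRange (by
      rw [Scheme.Hom.coe_opensRange]; exact isCompact_range (o i).continuous)
    exact ⟨J, h1, by rw [h2, Scheme.Hom.coe_opensRange]⟩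
  choose J hJft hJs using hJ
  -- the ideals `I i` extending `Y i`
  have hI : ∀ i, ∃ I : (Xb i).IdealSheafData, BlowUp.IsFiniteTypeIdeal I ∧
      (I.support : Set (Xb i)) = ((o i) '' ((Y i).support : Set (Xi i))ᶜ)ᶜ := fun i => by
    have hopen : IsOpen ((o i) '' ((Y i).support : Set (Xi i))ᶜ) :=
      (o i).isOpenEmbedding.isOpenMap _ (Y i).support.isClosed.isOpen_compl
    have hcomp : IsCompact ((o i) '' ((Y i).support : Set (Xi i))ᶜ) :=
      (isCompact_compl_support (Y i) (hY i)).image (o i).continuous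
    exact FTSupport.exists_ft_support_eq ⟨_, hopen⟩ hcomp
  choose I hIft hIs using hI
  have hIo : ∀ i (x : Xi i), o i x ∈ (I i).support ↔ x ∈ (Y i).support := by
    intro i x
    change o i x ∈ ((I i).support : Set (Xb i)) ↔ _
    rw [hIs, Set.mem_compl_iff, (o i).isOpenEmbedding.injective.mem_set_image, Set.mem_compl_iff,
      not_not]
    rfl
  have hJo : ∀ i (y : Xb i), y ∈ (J i).support ↔ y ∉ Set.range (o i) := by
    intro i y
    change y ∈ ((J i).support : Set (Xb i)) ↔ _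
    rw [hJs]
    rfl
  -- the product and the closure of `U`
  let ℓ := WidePullback.lift (jU ≫ gX) (fun i => v i ≫ o i) w
  let Z : Closeds ↥(widePullback S Xb gb) := ⟨closure (Set.range ℓ), isClosed_closure⟩
  let G₀ := vanishingIdeal Z
  have hG₀ : ∀ z, z ∈ G₀.support ↔ z ∈ closure (Set.range ℓ) := by
    intro z
    change z ∈ ((vanishingIdeal Z).support : Set _) ↔ _
    rw [coe_support_vanishingIdeal]
    rfl
  haveI : CompactSpace ↥(widePullback S Xb gb) := compactSpace_widePullback Xb gb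
  have hpow : ∀ k, ∃ n : ℕ, ((J k).comap (WidePullback.π gb k)) ^ (n + 1) ≤
      (⨆ i, (I i).comap (WidePullback.π gb i)) ⊔ G₀ := by
    intro k
    apply BlowUpClosureBC.exists_pow_le_of_support_le _ _
      (BlowUpFT.isFiniteTypeIdeal_comap _ _ (hJft k))
    intro z hz
    rw [support_sup, support_iSup] at hz
    obtain ⟨hz1, hz2⟩ := hz
    have hzZ : z ∈ closure (Set.range ℓ) := (hG₀ z).1 hz2
    apply (BlowUpSeparate.mem_support_comap (J k) (WidePullback.π gb k) z).2
    rw [hJo]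
    intro hk
    obtain ⟨i, hi⟩ := hempty z hzZ
    apply hi
    obtain ⟨x, hx⟩ := mem_range_of_mem_closure gX Xi Xb gb o q hq jU v hv w z hzZ k hk i
    refine ⟨x, ?_, hx⟩
    change x ∈ (Y i).support
    rw [← hIo, hx]
    exact (BlowUpSeparate.mem_support_comap (I i) (WidePullback.π gb i) z).1
      (Closeds.mem_iInf.1 hz1 i)
  choose n hn using hpow
  let N := Finset.univ.sup n
  have hpowN : ∀ k, ((J k).comap (WidePullback.π gb k)) ^ (N + 1) ≤
      (⨆ i, (I i).comap (WidePullback.π gb i)) ⊔ G₀ := fun k =>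
    (pow_le_pow_right_sheaf _ (Nat.succ_le_succ (Finset.le_sup (Finset.mem_univ k)))).trans (hn k)
  -- the centres
  let 𝓔 : ∀ i, (Xb i).IdealSheafData := fun i => I i ⊔ (J i) ^ (N + 1)
  have hEft : ∀ i, BlowUp.IsFiniteTypeIdeal (𝓔 i) := fun i =>
    BlowUpSepConstr.isFiniteTypeIdeal_sup (hIft i) (BlowUpClosureBC.isFiniteTypeIdeal_pow (hJft i) _)
  have hEs : ∀ i (y : Xb i), y ∈ (𝓔 i).support → y ∉ Set.range (o i) := by
    intro i y hy
    have hy' : y ∈ (I i ⊔ (J i) ^ (N + 1)).support := hy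
    rw [support_sup, support_pow_succ] at hy'
    exact (hJo i y).1 hy'.2
  choose Xb' c hc using fun i => BlowUpGlue.exists_isBlowUp (Xb i) (𝓔 i)
  have hlift : ∀ i, ∃ h : U ⟶ Xb' i, h ≫ c i = v i ≫ o i := fun i =>
    ((hc i).2 U (v i ≫ o i) (isEffCartier_comap_of_disjoint _ _
      (fun u h => hEs i _ h ⟨v i u, rfl⟩))).exists
  choose v' hv' using hlift
  have w' : ∀ i, v' i ≫ c i ≫ gb i = jU ≫ gX := fun i => by
    rw [← Category.assoc, hv', w]
  refine ⟨𝓔, Xb', c, v', w', fun i => ⟨hc i, ⟨hEft i, ?_⟩, hv' i⟩, ?_⟩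
  · rw [Set.disjoint_left]
    intro y hy hy'
    rw [Scheme.Hom.coe_opensRange] at hy'
    exact hEs i y hy hy'
  -- the main point
  let ℓ' := WidePullback.lift (jU ≫ gX) (fun i => v' i) w'
  let Φ : widePullback S Xb' (fun i => c i ≫ gb i) ⟶ widePullback S Xb gb :=
    WidePullback.lift (WidePullback.base _) (fun i => WidePullback.π _ i ≫ c i)
      (fun i => by rw [Category.assoc, WidePullback.π_arrow])
  have hΦπ : ∀ i, Φ ≫ WidePullback.π gb i = WidePullback.π (fun i => c i ≫ gb i) i ≫ c i :=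
    fun i => WidePullback.lift_π _ _ _ _ _
  have hℓΦ : ℓ' ≫ Φ = ℓ := by
    apply WidePullback.hom_ext
    · intro i
      rw [Category.assoc, hΦπ, WidePullback.lift_π_assoc, WidePullback.lift_π, hv']
    · rw [Category.assoc, WidePullback.lift_base, WidePullback.lift_base, WidePullback.lift_base]
  have hK : ∀ i, ∃ K : (Xb' i).IdealSheafData, K * (𝓔 i).comap (c i) = (I i).comap (c i) :=
    fun i => ColonIdeal.exists_mul_eq _ _ (hc i).1 (comap_mono (c i) le_sup_left)
  choose K hK using hK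
  have hclK : ∀ i, closure ((fun y => c i y) ⁻¹' ((fun x => o i x) '' ((Y i).support : Set (Xi i)))) ⊆
      ((K i).support : Set (Xb' i)) := by
    intro i
    apply closure_minimal _ (K i).support.isClosed
    rintro x ⟨y, hy, hxy⟩
    have hx1 : x ∈ ((I i).comap (c i)).support := by
      apply (BlowUpSeparate.mem_support_comap (I i) (c i) x).2
      have hxy' : o i y = c i x := hxy
      rw [← hxy']
      exact (hIo i y).2 hy
    rw [← hK i, support_mul] at hx1
    rcases hx1 with h | h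
    · exact h
    · exfalso
      exact hEs i _ ((BlowUpSeparate.mem_support_comap _ (c i) x).1 h) ⟨y, hxy⟩
  intro z hz
  by_contra hcon
  push Not at hcon
  obtain ⟨𝒩, hz𝒩, h𝒩⟩ := key
    (fun i => (𝓔 i).comap (WidePullback.π (fun i => c i ≫ gb i) i ≫ c i))
    (fun i => (K i).comap (WidePullback.π (fun i => c i ≫ gb i) i))
    (fun i => (I i).comap (WidePullback.π (fun i => c i ≫ gb i) i ≫ c i))
    (fun i => ((J i) ^ (N + 1)).comap (WidePullback.π (fun i => c i ≫ gb i) i ≫ c i))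
    (G₀.comap Φ)
    (fun i => BlowUpFT.isFiniteTypeIdeal_comap _ _ (hEft i))
    (fun i => by
      rw [comap_comp, ← hK i, ModulusFun.comap_mul, ← comap_comp])
    (fun i => by
      rw [← comap_sup])
    (fun k => by
      rw [← hΦπ k, comap_comp, BlowUpClosureBC.comap_pow]
      refine (comap_mono Φ (hpowN k)).trans ?_
      change ((⨆ i, (I i).comap (WidePullback.π gb i)) ⊔ G₀).comap Φ ≤ _
      rw [comap_sup, comap_iSup]
      apply sup_le_sup_right
      apply iSup_mono
      intro i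
      rw [← comap_comp, hΦπ i])
    z (fun i => (BlowUpSeparate.mem_support_comap (K i) _ z).2 (hclK i (hcon i)))
  obtain ⟨y, hy𝒩, u, rfl⟩ := mem_closure_iff.1 hz 𝒩 𝒩.isOpen hz𝒩
  have hΦu : Φ (ℓ' u) = ℓ u := by
    have := congrArg (fun g => g.base u) hℓΦ
    simpa using this
  have hyG : ℓ' u ∈ (G₀.comap Φ).support := by
    apply (BlowUpSeparate.mem_support_comap G₀ Φ _).2
    rw [hΦu, hG₀]
    exact subset_closure ⟨u, rfl⟩
  obtain ⟨i₀, -⟩ := hempty (ℓ u) (subset_closure ⟨u, rfl⟩)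
  have h1 := h𝒩 _ hy𝒩 hyG i₀
  have h2 := (BlowUpSeparate.mem_support_comap (𝓔 i₀) _ _).1 h1
  have h3 : (WidePullback.π (fun i => c i ≫ gb i) i₀ ≫ c i₀) (ℓ' u) = o i₀ (v i₀ u) := by
    have := congrArg (fun g => g.base u)
      ((WidePullback.lift_π_assoc (fun i => c i ≫ gb i) (jU ≫ gX) (fun i => v' i) w' i₀ (c i₀)).trans (hv' i₀))
    simpa using this
  rw [h3] at h2
  exact hEs i₀ _ h2 ⟨_, rfl⟩

end Groth.Agent.Lib.T2H6.BlowUpWideSep
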