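import Mathlib
import Groth.Prelude.Def_FSch3

/-!
# Quotients of the completed localization `A_{f}` by powers of the ideal of definition
-/

set_option autoImplicit false
universe u

namespace Groth.Agent.Lib.T2H6.CAway

open AdicCompletion

theorem ker_evalₐ_eq_map {R : Type u} [CommRing R] (I : Ideal R) (fg : I.FG) (n : ℕ) :
    RingHom.ker (evalₐ I n).toRingHom = (I ^ n).map (algebraMap R (AdicCompletion I R)) := by
  ext x
  trans x ∈ (AdicCompletion.eval I R n).ker
  · have eq : (I ^ n • ⊤ : Ideal R) = I ^ n := by simp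
    have hinj : Function.Injective (Ideal.Quotient.factor (le_of_eq eq.symm)) := by
      rw [RingHom.injective_iff_ker_eq_bot, Ideal.Quotient.factor_ker]
      exact Ideal.map_mk_eq_bot_of_le (le_of_eq eq)
    rw [RingHom.mem_ker, LinearMap.mem_ker, ← factor_evalₐ_eq_eval I x (le_of_eq eq.symm)]
    exact (map_eq_zero_iff _ hinj).symm
  · rw [← pow_smul_top_eq_ker_eval fg, Ideal.smul_top_eq_map]
    rfl


variable (A : Type u) [CommRing A] [IsNoetherianRing A] (J : Ideal A) (f : A) (n : ℕ)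

/-- the localization `A_f` -/
abbrev Rf : Type u := Localization.Away f

/-- the extension of `J` to `A_f` -/
abbrev If : Ideal (Rf A f) := J.map (algebraMap A (Rf A f))

theorem algebraMap_cAway_eq :
    algebraMap A (FSch.cAway A J f) =
      (algebraMap (Rf A f) (FSch.cAway A J f)).comp (algebraMap A (Rf A f)) := by
  ext a
  rfl

theorem map_cAway_pow :
    (J.map (algebraMap A (FSch.cAway A J f))) ^ (n + 1) =
      RingHom.ker (evalₐ (If A J f) (n + 1)).toRingHom := by
  have fg : (If A J f).FG := Ideal.FG.map (IsNoetherian.noetherian J) _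
  rw [ker_evalₐ_eq_map (If A J f) fg, algebraMap_cAway_eq, ← Ideal.map_map, Ideal.map_pow]

/-- `A_{f} ⧸ (J A_{f})^(n+1) ≃ A_f ⧸ (J A_f)^(n+1)` -/
noncomputable def e12 :
    (FSch.cAway A J f ⧸ (J.map (algebraMap A (FSch.cAway A J f))) ^ (n + 1)) ≃+*
      (Rf A f ⧸ (If A J f) ^ (n + 1)) :=
  (Ideal.quotEquivOfEq (map_cAway_pow A J f n)).trans
    (RingHom.quotientKerEquivOfSurjective (f := (evalₐ (If A J f) (n + 1)).toRingHom)
      (surjective_evalₐ (If A J f) (n + 1)))

theorem e12_mk (r : Rf A f) :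
    e12 A J f n (Ideal.Quotient.mk _ (AdicCompletion.of (If A J f) (Rf A f) r)) =
      Ideal.Quotient.mk _ r := by
  have h1 : e12 A J f n (Ideal.Quotient.mk _ (AdicCompletion.of (If A J f) (Rf A f) r)) =
      (RingHom.quotientKerEquivOfSurjective (f := (evalₐ (If A J f) (n + 1)).toRingHom)
        (surjective_evalₐ (If A J f) (n + 1)))
        (Ideal.Quotient.mk _ (AdicCompletion.of (If A J f) (Rf A f) r)) := rfl
  rw [h1, RingHom.quotientKerEquivOfSurjective_apply_mk]
  exact evalₐ_of _ _ _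

/-- `A_f ⧸ (J A_f)^(n+1) ≃ A_f ⧸ J^(n+1) A_f` -/
noncomputable def e3 :
    (Rf A f ⧸ (If A J f) ^ (n + 1)) ≃+* (Rf A f ⧸ (J ^ (n + 1)).map (algebraMap A (Rf A f))) :=
  Ideal.quotEquivOfEq (Ideal.map_pow _ _ _).symm

instance isLocalizationAway_quot :
    IsLocalization.Away (Ideal.Quotient.mk (J ^ (n + 1)) f)
      (Rf A f ⧸ (J ^ (n + 1)).map (algebraMap A (Rf A f))) := by
  have h : Algebra.algebraMapSubmonoid (A ⧸ J ^ (n + 1)) (Submonoid.powers f) =
      Submonoid.powers (Ideal.Quotient.mk (J ^ (n + 1)) f) := by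
    rw [Algebra.algebraMapSubmonoid, Submonoid.map_powers]
    rfl
  have inst : IsLocalization (Algebra.algebraMapSubmonoid (A ⧸ J ^ (n + 1)) (Submonoid.powers f))
      (Rf A f ⧸ (J ^ (n + 1)).map (algebraMap A (Rf A f))) := inferInstance
  rw [h] at inst
  exact inst

/-- `(A ⧸ J^(n+1))_f ≃ A_f ⧸ J^(n+1) A_f` -/
noncomputable def e4 :
    Localization.Away (Ideal.Quotient.mk (J ^ (n + 1)) f) ≃ₐ[A ⧸ J ^ (n + 1)]
      (Rf A f ⧸ (J ^ (n + 1)).map (algebraMap A (Rf A f))) :=
  IsLocalization.algEquiv (Submonoid.powers (Ideal.Quotient.mk (J ^ (n + 1)) f)) _ _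

theorem main :
    ∃ e : Localization.Away (Ideal.Quotient.mk (J ^ (n + 1)) f) ≃+*
        FSch.cAway A J f ⧸ (J.map (algebraMap A (FSch.cAway A J f))) ^ (n + 1),
      ∀ a : A, e (algebraMap (A ⧸ J ^ (n + 1)) _ (Ideal.Quotient.mk (J ^ (n + 1)) a)) =
        Ideal.Quotient.mk _ (algebraMap A (FSch.cAway A J f) a) := by
  refine ⟨(e4 A J f n).toRingEquiv.trans ((e3 A J f n).symm.trans (e12 A J f n).symm), fun a => ?_⟩
  rw [RingEquiv.trans_apply, RingEquiv.trans_apply, RingEquiv.symm_apply_eq]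
  have h4 : (e4 A J f n).toRingEquiv
      (algebraMap (A ⧸ J ^ (n + 1)) _ (Ideal.Quotient.mk (J ^ (n + 1)) a)) =
      algebraMap (A ⧸ J ^ (n + 1)) _ (Ideal.Quotient.mk (J ^ (n + 1)) a) :=
    (e4 A J f n).commutes _
  rw [h4]
  have h5 : algebraMap A (FSch.cAway A J f) a =
      AdicCompletion.of (If A J f) (Rf A f) (algebraMap A (Rf A f) a) := rfl
  rw [h5, e12_mk, RingEquiv.symm_apply_eq]
  rfl

end Groth.Agent.Lib.T2H6.CAway
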