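import Mathlib
import Groth.Agent.Lib.Helper28Unmixed

/-!
# Homogeneous systems of parameters in weighted polynomial rings are regular (helper7, team 2)

* `mem_of_mul_mem`: a weighted homogeneous ideal `I` of `MvPolynomial σ R` (positive weights) is
  saturated with respect to polynomials with invertible constant coefficient.
* `isWeaklyRegular_of_pow_mem`: over a field, `k` weighted homogeneous polynomials of positive degree
  in `k` variables such that a power of every variable lies in the ideal they generate form a
  regular sequence.  (Localize at the irrelevant ideal, use that the localization is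
  Cohen–Macaulay, and come back using the saturation statement.)
-/

set_option autoImplicit false
universe u v

namespace Groth.Agent.Lib.T2H7.GradedCM

open MvPolynomial

attribute [local instance] MvPolynomial.weightedGradedAlgebra

section Sat

variable {R : Type u} [CommRing R] {σ : Type v} (w : σ → ℕ)

/-- All monomials of `p` have weight at least `n`. -/
def MinW (p : MvPolynomial σ R) (n : ℕ) : Prop := ∀ d ∈ p.support, n ≤ Finsupp.weight w d

theorem minW_mul {p q : MvPolynomial σ R} {a b : ℕ} (hp : MinW w p a) (hq : MinW w q b) :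
    MinW w (p * q) (a + b) := by
  classical
  intro d hd
  have := MvPolynomial.support_mul p q hd
  obtain ⟨d1, h1, d2, h2, rfl⟩ := Finset.mem_add.mp this
  rw [map_add]
  exact add_le_add (hp d1 h1) (hq d2 h2)

theorem minW_zero' (p : MvPolynomial σ R) : MinW w p 0 := fun _ _ => Nat.zero_le _

theorem minW_one_of_constantCoeff (hw : ∀ i, w i ≠ 0) {r : MvPolynomial σ R}
    (hr : constantCoeff r = 0) : MinW w r 1 := by
  intro d hd
  have hd0 : d ≠ 0 := by
    rintro rfl
    rw [mem_support_iff] at hd
    exact hd hr
  obtain ⟨i, hi⟩ : ∃ i, d i ≠ 0 := by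
    by_contra h
    apply hd0
    ext i
    by_contra hi
    exact h ⟨i, hi⟩
  have h1 := Finsupp.le_weight_of_ne_zero' w hi
  have := hw i
  omega

theorem minW_pow {r : MvPolynomial σ R} (hr : MinW w r 1) (n : ℕ) : MinW w (r ^ n) n := by
  induction n with
  | zero => exact minW_zero' w _
  | succ n ih =>
    rw [pow_succ]
    exact minW_mul w ih hr

theorem comp_eq_zero_of_minW {p : MvPolynomial σ R} {n u : ℕ} (hp : MinW w p n) (hu : u < n) :
    weightedHomogeneousComponent w u p = 0 := by
  apply weightedHomogeneousComponent_eq_zero'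
  intro d hd h
  have := hp d hd
  omega

/-- Homogeneous ideals are saturated with respect to polynomials with invertible constant term. -/
theorem mem_of_mul_mem (hw : ∀ i, w i ≠ 0) {I : Ideal (MvPolynomial σ R)}
    (hI : I.IsHomogeneous (weightedHomogeneousSubmodule R w)) {s x : MvPolynomial σ R}
    (hs : IsUnit (constantCoeff s)) (h : s * x ∈ I) : x ∈ I := by
  classical
  obtain ⟨c, hc⟩ := hs
  set r : MvPolynomial σ R := 1 - C (↑c⁻¹ : R) * s with hr
  have hr0 : constantCoeff r = 0 := by
    rw [hr, map_sub, map_one, map_mul, constantCoeff_C, ← hc, Units.inv_mul, sub_self]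
  have h1 : x - r * x ∈ I := by
    have : x - r * x = C (↑c⁻¹ : R) * (s * x) := by rw [hr]; ring
    rw [this]
    exact I.mul_mem_left _ h
  have h2 : ∀ n : ℕ, x - r ^ n * x ∈ I := by
    intro n
    induction n with
    | zero => simp
    | succ n ih =>
      have : x - r ^ (n + 1) * x = (x - r * x) + r * (x - r ^ n * x) := by ring
      rw [this]
      exact I.add_mem h1 (I.mul_mem_left _ ih)
  rw [mem_iff_weightedHomogeneousComponent_mem R w hI]
  intro u
  have h3 := (mem_iff_weightedHomogeneousComponent_mem R w hI _).mp (h2 (u + 1)) u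
  rw [map_sub, comp_eq_zero_of_minW w
    (minW_mul w (minW_pow w (minW_one_of_constantCoeff w hw hr0) (u + 1)) (minW_zero' w x))
    (by omega), sub_zero] at h3
  exact h3

/-- A polynomial with vanishing constant coefficient lies in any ideal containing the variables. -/
theorem mem_of_constantCoeff_eq_zero {P : Ideal (MvPolynomial σ R)} (hP : ∀ i, (X i : MvPolynomial σ R) ∈ P)
    {p : MvPolynomial σ R} (hp : constantCoeff p = 0) : p ∈ P := by
  classical
  rw [← MvPolynomial.support_sum_monomial_coeff p]
  refine P.sum_mem (fun d hd => ?_)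
  have hd0 : d ≠ 0 := by
    rintro rfl
    rw [mem_support_iff] at hd
    exact hd hp
  obtain ⟨i, hi⟩ : ∃ i, d i ≠ 0 := by
    by_contra h
    apply hd0
    ext i
    by_contra hi
    exact h ⟨i, hi⟩
  have hdvd : (X i : MvPolynomial σ R) ∣ monomial d (coeff d p) := X_dvd_monomial.mpr (Or.inr hi)
  obtain ⟨q, hq⟩ := hdvd
  rw [hq]
  exact P.mul_mem_right _ (hP i)

end Sat

section Quot

/-- `IsSMulRegular` on the quotient from regularity modulo `I`. -/
theorem isSMulRegular_of_regmod {S : Type*} [CommRing S] (I : Ideal S) (r : S)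
    (h : ∀ a, r * a ∈ I → a ∈ I) : IsSMulRegular (S ⧸ (I • ⊤ : Submodule S S)) r := by
  have hI : (I • ⊤ : Submodule S S) = I := by rw [smul_eq_mul, Ideal.mul_top]
  intro a b hab
  obtain ⟨a, rfl⟩ := Submodule.Quotient.mk_surjective _ a
  obtain ⟨b, rfl⟩ := Submodule.Quotient.mk_surjective _ b
  simp only at hab
  rw [← Submodule.Quotient.mk_smul, ← Submodule.Quotient.mk_smul, Submodule.Quotient.eq, hI,
    ← smul_sub, smul_eq_mul] at hab
  rw [Submodule.Quotient.eq, hI]
  exact h _ hab

/-- Regularity modulo `I` from `IsSMulRegular` on the quotient. -/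
theorem regmod_of_isSMulRegular {S : Type*} [CommRing S] (I : Ideal S) (r : S)
    (h : IsSMulRegular (S ⧸ (I • ⊤ : Submodule S S)) r) : ∀ a, r * a ∈ I → a ∈ I := by
  intro a ha
  have hI : (I • ⊤ : Submodule S S) = I := by rw [smul_eq_mul, Ideal.mul_top]
  have h0 : r • (Submodule.Quotient.mk a : S ⧸ (I • ⊤ : Submodule S S)) =
      r • (Submodule.Quotient.mk 0 : S ⧸ (I • ⊤ : Submodule S S)) := by
    rw [← Submodule.Quotient.mk_smul, ← Submodule.Quotient.mk_smul, smul_zero,
      Submodule.Quotient.mk_zero, Submodule.Quotient.mk_eq_zero, hI, smul_eq_mul]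
    exact ha
  have h1 := h h0
  rw [Submodule.Quotient.mk_zero, Submodule.Quotient.mk_eq_zero, hI] at h1
  exact h1

end Quot

section Reg

variable {F : Type u} [Field F] {k : ℕ} (w : Fin k → ℕ)

/-- Over a field, `k` weighted homogeneous polynomials of positive degree in `k` variables, such
that a power of every variable lies in the ideal they generate, form a regular sequence. -/
theorem isWeaklyRegular_of_pow_mem (hw : ∀ i, w i ≠ 0) (g : Fin k → MvPolynomial (Fin k) F)
    (ε : Fin k → ℕ) (hε : ∀ i, ε i ≠ 0)
    (hg : ∀ i, g i ∈ weightedHomogeneousSubmodule F w (ε i))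
    (hnil : ∀ i, ∃ N : ℕ, (X i : MvPolynomial (Fin k) F) ^ N ∈ Ideal.span (Set.range g)) :
    RingTheory.Sequence.IsWeaklyRegular (MvPolynomial (Fin k) F) (List.ofFn g) := by
  classical
  -- the irrelevant maximal ideal
  set m : Ideal (MvPolynomial (Fin k) F) :=
    RingHom.ker (constantCoeff : MvPolynomial (Fin k) F →+* F) with hm
  have hmax : m.IsMaximal := RingHom.ker_isMaximal_of_surjective _
    (fun a => ⟨C a, constantCoeff_C _ a⟩)
  have hprime : m.IsPrime := hmax.isPrime
  have hS : LocCoh.IsCohenMacaulayRing (MvPolynomial (Fin k) F) := by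
    have := Groth.Agent.Lib.Helper28.isCohenMacaulayRing_of_field F
    exact Groth.Agent.Lib.Helper28.isCohenMacaulayRing_mvPolynomial_fin k
  have hA : LocCoh.IsCohenMacaulayLocalRing (Localization.AtPrime m) :=
    hS.isCohenMacaulayLocalRing_localization m
  have hgm : ∀ i, g i ∈ m := by
    intro i
    rw [hm, RingHom.mem_ker]
    have h1 := (mem_weightedHomogeneousSubmodule F w (ε i) (g i)).mp (hg i)
    apply h1.coeff_eq_zero
    rw [map_zero]
    exact (hε i).symm
  set gs := List.ofFn g with hgs
  set ys := gs.map (algebraMap (MvPolynomial (Fin k) F) (Localization.AtPrime m)) with hys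
  have hmem : ∀ y ∈ ys, y ∈ IsLocalRing.maximalIdeal (Localization.AtPrime m) := by
    intro y hy
    obtain ⟨a, ha, rfl⟩ := List.mem_map.mp hy
    obtain ⟨i, rfl⟩ := (List.mem_ofFn' g a).mp ha
    rw [← Localization.AtPrime.map_eq_maximalIdeal]
    exact Ideal.mem_map_of_mem _ (hgm i)
  have hspan : Ideal.ofList gs = Ideal.span (Set.range g) := by
    unfold Ideal.ofList
    congr 1
    ext a
    simp [hgs, List.mem_ofFn]
  have hht : (ys.length : ℕ∞) ≤ (Ideal.ofList ys).height := by
    rw [hys, List.length_map, hgs, List.length_ofFn, ← hgs, ← Ideal.map_ofList, hspan,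
      Ideal.height_eq_inf_minimalPrimes]
    refine le_iInf₂ (fun Q hQ => ?_)
    have hQp : Q.IsPrime := hQ.1.1
    rw [← IsLocalization.height_under m.primeCompl]
    apply Groth.Agent.Lib.Helper28.natCast_le_height_of_forall_X_mem
    intro i
    obtain ⟨N, hN⟩ := hnil i
    have hq : (Q.under (MvPolynomial (Fin k) F)).IsPrime := Ideal.comap_isPrime _ _
    apply hq.mem_of_pow_mem N
    rw [Ideal.under_def, Ideal.mem_comap]
    apply hQ.1.2
    exact Ideal.mem_map_of_mem _ hN
  obtain ⟨hreg, -, -⟩ :=
    Groth.Agent.Lib.Helper28.isWeaklyRegular_of_length_le_height ys hmem hht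
  -- transfer back
  have hhom : ∀ i : ℕ, (Ideal.ofList (gs.take i)).IsHomogeneous
      (weightedHomogeneousSubmodule F w) := by
    intro i
    unfold Ideal.ofList
    refine Ideal.homogeneous_span _ _ ?_
    intro x hx
    have hx' : x ∈ gs := List.mem_of_mem_take hx
    obtain ⟨j, rfl⟩ := (List.mem_ofFn' g x).mp hx'
    exact ⟨ε j, hg j⟩
  refine (RingTheory.Sequence.isWeaklyRegular_iff _ _).mpr (fun i hi => ?_)
  apply isSMulRegular_of_regmod
  intro a ha
  have hi' : i < ys.length := by rw [hys, List.length_map]; exact hi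
  have hyi : ys[i] = algebraMap (MvPolynomial (Fin k) F) (Localization.AtPrime m) gs[i] := by
    simp [hys]
  have htake : Ideal.ofList (ys.take i) =
      Ideal.map (algebraMap (MvPolynomial (Fin k) F) (Localization.AtPrime m))
        (Ideal.ofList (gs.take i)) := by
    rw [hys, ← List.map_take, ← Ideal.map_ofList]
  have h1 := regmod_of_isSMulRegular _ _ (hreg.regular_mod_prev i hi')
    (algebraMap _ _ a) (by
      rw [hyi, htake, ← map_mul]
      exact Ideal.mem_map_of_mem _ ha)
  rw [htake, IsLocalization.mem_map_algebraMap_iff m.primeCompl] at h1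
  obtain ⟨⟨⟨b, hb⟩, ⟨s, hs⟩⟩, h2⟩ := h1
  simp only at h2
  rw [← map_mul] at h2
  have hinj : Function.Injective
      (algebraMap (MvPolynomial (Fin k) F) (Localization.AtPrime m)) :=
    IsLocalization.injective _ (Ideal.primeCompl_le_nonZeroDivisors m)
  have h3 : a * s = b := hinj h2
  apply mem_of_mul_mem w hw (hhom i) (s := s)
  · have : constantCoeff s ≠ 0 := fun h0 => hs ((RingHom.mem_ker (f := constantCoeff)).mpr h0)
    exact isUnit_iff_ne_zero.mpr this
  · rw [mul_comm, h3]
    exact hb

end Reg

end Groth.Agent.Lib.T2H7.GradedCM
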