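import Mathlib
import Groth.Prelude.Def_CohB1
import Groth.Agent.Lib.Helper27ProjHypConn
import Groth.Agent.Lib.Helper28FGDim
import Groth.Agent.Lib.Helper28PolyCM
import Groth.Agent.Lib.T2H7GradedCM

/-!
# Complete intersections in projective space: heights of homogeneous primes (helper6)

Namespace `Groth.Agent.Lib.T2H6.CIAlg`.  `S = k[T_0, …, T_n]` graded by degree.

* `isMaximal_irrelevant`, `height_irrelevant`: the irrelevant ideal is maximal of height `n + 1`.
* `height_le_add_one_of_mem_minimalPrimes`: a minimal prime over `q + (f)` has height at most `ht q + 1`.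
* `exists_ltSeries`: from a point `q` of `Proj S` there is a chain of points of length `m` whenever `ht q + m ≤ n`.
* `IsCI G`: every subfamily of the family of forms `G` cuts out a locus of the expected codimension.
* `isCI_of_forall_length_le`: `IsCI` from the bound `n - r` on the chains of points of `V_+(G)`.
-/

set_option autoImplicit false
set_option linter.style.haveILetI false
universe u

open AlgebraicGeometry Order MvPolynomial

namespace Groth.Agent.Lib.T2H6.CIAlg

open Groth.Agent.Lib.Helper28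

variable (k : Type u) [Field k] (n : ℕ)

local notation "𝒮" => MvPolynomial (Fin (n + 1)) k
local notation "𝒜" => CohB1.polyGrading n k

theorem irrelevant_eq_ker :
    (HomogeneousIdeal.irrelevant 𝒜).toIdeal =
      RingHom.ker (constantCoeff : 𝒮 →+* k) := by
  ext a
  change GradedRing.proj 𝒜 0 a = 0 ↔ _
  rw [GradedRing.proj_apply, Groth.Agent.Lib.Helper27ProjCodimOne.decompose_eq,
    homogeneousComponent_zero, RingHom.mem_ker, constantCoeff_eq]
  constructor
  · intro h
    exact C_injective _ _ (h.trans (map_zero _).symm)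
  · intro h
    rw [h, map_zero]

instance isMaximal_irrelevant : (HomogeneousIdeal.irrelevant 𝒜).toIdeal.IsMaximal := by
  rw [irrelevant_eq_ker]
  exact RingHom.ker_isMaximal_of_surjective _ (fun c => ⟨C c, constantCoeff_C _ c⟩)

theorem height_irrelevant : (HomogeneousIdeal.irrelevant 𝒜).toIdeal.height = ((n + 1 : ℕ) : ℕ∞) :=
  height_eq_of_isMaximal_mvPolynomial_fin k (n + 1) _ (isMaximal_irrelevant k n)

theorem X_mem_irrelevant (i : Fin (n + 1)) :
    (X i : 𝒮) ∈ (HomogeneousIdeal.irrelevant 𝒜).toIdeal :=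
  Groth.Agent.Lib.Helper27ProjHypConn.X_mem_irrelevant k n i

/-- a proper homogeneous ideal lies in the irrelevant ideal. -/
theorem le_irrelevant_of_isHomogeneous (p : Ideal 𝒮) (hp : p ≠ ⊤) (hh : p.IsHomogeneous 𝒜) :
    p ≤ (HomogeneousIdeal.irrelevant 𝒜).toIdeal := by
  intro a ha
  rw [irrelevant_eq_ker, RingHom.mem_ker]
  by_contra hne
  apply hp
  have h0 : (DirectSum.decompose 𝒜 a 0 : 𝒮) ∈ p := hh 0 ha
  rw [Groth.Agent.Lib.Helper27ProjCodimOne.decompose_eq, homogeneousComponent_zero,
    ← constantCoeff_eq] at h0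
  exact Ideal.eq_top_of_isUnit_mem _ h0 ((isUnit_iff_ne_zero.mpr hne).map C)

/-- an ideal containing all the variables contains the irrelevant ideal. -/
theorem irrelevant_le_of_forall_X_mem (p : Ideal 𝒮) (h : ∀ i, (X i : 𝒮) ∈ p) :
    (HomogeneousIdeal.irrelevant 𝒜).toIdeal ≤ p := by
  intro a ha
  rw [irrelevant_eq_ker, RingHom.mem_ker] at ha
  exact Groth.Agent.Lib.T2H7.GradedCM.mem_of_constantCoeff_eq_zero h ha

theorem exists_X_notMem (x : ProjectiveSpectrum 𝒜) :
    ∃ i, (X i : 𝒮) ∉ x.asHomogeneousIdeal.toIdeal := by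
  by_contra hcon
  push Not at hcon
  exact x.not_irrelevant_le (irrelevant_le_of_forall_X_mem k n _ hcon)

instance isCM : LocCoh.IsCohenMacaulayRing 𝒮 := by
  haveI := isCohenMacaulayRing_of_field k
  exact isCohenMacaulayRing_mvPolynomial_fin (n + 1)

/-- in `S`, a minimal prime over `q + (f)` has height at most `ht q + 1`. -/
theorem height_le_add_one_of_mem_minimalPrimes (q q' : Ideal 𝒮) [hq : q.IsPrime] (f : 𝒮)
    (hq' : q' ∈ (q ⊔ Ideal.span {f}).minimalPrimes) : q'.height ≤ q.height + 1 := by
  haveI hq'p : q'.IsPrime := hq'.1.1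
  have hle : q ≤ q' := le_trans le_sup_left hq'.1.2
  haveI hQ : (q'.map (Ideal.Quotient.mk q)).IsPrime := Ideal.isPrime_map_quotientMk_of_isPrime hle
  have hcm : (q'.map (Ideal.Quotient.mk q)).comap (Ideal.Quotient.mk q) = q' := by
    rw [Ideal.comap_map_of_surjective _ Ideal.Quotient.mk_surjective, ← RingHom.ker_eq_comap_bot,
      Ideal.mk_ker]
    exact sup_eq_left.mpr hle
  have h1 := height_comap_eq_height_add_height_map q (q'.map (Ideal.Quotient.mk q))
  have hdisj : Disjoint (((q'.map (Ideal.Quotient.mk q)).comap (Ideal.Quotient.mk q)).primeCompl : Set 𝒮)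
      (q : Set 𝒮) := by
    rw [Set.disjoint_left]
    intro x hx hxq
    apply hx
    rw [hcm]
    exact hle hxq
  rw [IsLocalization.height_map_of_disjoint _ q hdisj, hcm] at h1
  rw [h1, add_comm]
  exact add_le_add le_rfl (Ideal.map_height_le_one_of_mem_minimalPrimes hq')


/-- a homogeneous prime of height at most `n` is a point of projective space. -/
noncomputable def mkPt (p : Ideal 𝒮) (hprime : p.IsPrime) (hhom : p.IsHomogeneous 𝒜)
    (hht : p.height ≤ (n : ℕ∞)) : ProjectiveSpectrum 𝒜 where
  asHomogeneousIdeal := ⟨p, hhom⟩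
  isPrime := hprime
  not_irrelevant_le := by
    intro hle
    have h1 : (HomogeneousIdeal.irrelevant 𝒜).toIdeal ≤ p := hle
    have h2 := (Ideal.height_mono h1).trans hht
    rw [height_irrelevant] at h2
    have h3 : n + 1 ≤ n := by exact_mod_cast h2
    omega

/-- from a point `q` of `Proj S` there is a chain of points of length `m` as soon as `ht q + m ≤ n`. -/
theorem exists_ltSeries (m : ℕ) : ∀ q : ProjectiveSpectrum 𝒜,
    q.asHomogeneousIdeal.toIdeal.height + (m : ℕ∞) ≤ (n : ℕ∞) →
    ∃ p : LTSeries (ProjectiveSpectrum 𝒜), p.length = m ∧ p.head = q := by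
  induction m with
  | zero =>
    intro q _
    exact ⟨RelSeries.singleton _ q, rfl, rfl⟩
  | succ m ih =>
    intro q hq
    haveI := q.isPrime
    obtain ⟨i, hi⟩ := exists_X_notMem k n q
    have hne : q.asHomogeneousIdeal.toIdeal ⊔ Ideal.span {(X i : 𝒮)} ≠ ⊤ := by
      intro htop
      have hle : q.asHomogeneousIdeal.toIdeal ⊔ Ideal.span {(X i : 𝒮)} ≤
          (HomogeneousIdeal.irrelevant 𝒜).toIdeal :=
        sup_le (Groth.Agent.Lib.Helper27ProjHypConn.le_irrelevant k n q)
          ((Ideal.span_singleton_le_iff_mem _).mpr (X_mem_irrelevant k n i))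
      rw [htop] at hle
      exact (isMaximal_irrelevant k n).ne_top (top_le_iff.mp hle)
    obtain ⟨q', hq'⟩ := Ideal.nonempty_minimalPrimes hne
    have hhomJ : (q.asHomogeneousIdeal.toIdeal ⊔ Ideal.span {(X i : 𝒮)}).IsHomogeneous 𝒜 := by
      refine Ideal.IsHomogeneous.sup q.asHomogeneousIdeal.isHomogeneous ?_
      exact Ideal.homogeneous_span 𝒜 _ (by
        rintro _ ⟨rfl⟩
        exact ⟨1, (MvPolynomial.mem_homogeneousSubmodule _ _).mpr (MvPolynomial.isHomogeneous_X k i)⟩)
    have hhom' : q'.IsHomogeneous 𝒜 :=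
      Groth.Agent.Lib.Helper27ProjHypConn.isHomogeneous_of_mem_minimalPrimes 𝒜 hhomJ hq'
    have hht := height_le_add_one_of_mem_minimalPrimes k n q.asHomogeneousIdeal.toIdeal q' (X i) hq'
    have hht' : q'.height + (m : ℕ∞) ≤ (n : ℕ∞) := by
      refine le_trans ?_ hq
      calc q'.height + (m : ℕ∞) ≤ (q.asHomogeneousIdeal.toIdeal.height + 1) + (m : ℕ∞) := by gcongr
        _ = q.asHomogeneousIdeal.toIdeal.height + ((m + 1 : ℕ) : ℕ∞) := by
          push_cast
          rw [add_assoc, add_comm (1 : ℕ∞)]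
    have hhtn : q'.height ≤ (n : ℕ∞) := le_trans le_self_add hht'
    let Q : ProjectiveSpectrum 𝒜 := mkPt k n q' hq'.1.1 hhom' hhtn
    obtain ⟨p, hpl, hph⟩ := ih Q hht'
    have hlt : q < Q := by
      refine lt_of_le_of_ne ?_ ?_
      · change q.asHomogeneousIdeal.toIdeal ≤ q'
        exact le_trans le_sup_left hq'.1.2
      · intro heq
        apply hi
        rw [heq]
        exact hq'.1.2 (Ideal.mem_sup_right (Ideal.subset_span (Set.mem_singleton _)))
    refine ⟨p.cons q (by rw [hph]; exact hlt), ?_, ?_⟩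
    · rw [RelSeries.cons_length, hpl]
    · exact RelSeries.head_cons _ _ _

/-- the family of forms `G` is a complete intersection: every prime containing the members of a subfamily has
height at least the size of the subfamily. -/
def IsCI {r : ℕ} (G : Fin r → 𝒮) : Prop :=
  ∀ (s : Finset (Fin r)) (p : Ideal 𝒮), p.IsPrime → (∀ l ∈ s, G l ∈ p) → (s.card : ℕ∞) ≤ p.height

end Groth.Agent.Lib.T2H6.CIAlg
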