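import Mathlib
import Groth.Agent.Lib.T2H6CIAlgA

/-!
# Complete intersections in projective space: `IsCI` from the dimension (helper6)

* `isCI_of_forall_length_le`: if the chains of points of `V_+(G_1, …, G_r) ⊆ P^n` have length at most `n - r`, then
  the family `G` is a complete intersection in the sense of `IsCI`.
-/

set_option autoImplicit false
set_option linter.style.haveILetI false
universe u

open AlgebraicGeometry Order MvPolynomial

namespace Groth.Agent.Lib.T2H6.CIAlg

open Groth.Agent.Lib.Helper28

variable (k : Type u) [Field k] (n : ℕ)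

local notation "𝒮" => MvPolynomial (Fin (n + 1)) k
local notation "𝒜" => CohB1.polyGrading n k

/-- reduction to homogeneous primes. -/
theorem isCI_of_homogeneous {r : ℕ} (G : Fin r → 𝒮) (hG : ∀ l, SetLike.IsHomogeneousElem 𝒜 (G l))
    (h : ∀ (s : Finset (Fin r)) (p : Ideal 𝒮), p.IsPrime → p.IsHomogeneous 𝒜 → (∀ l ∈ s, G l ∈ p) →
      (s.card : ℕ∞) ≤ p.height) : IsCI k n G := by
  intro s p hp hs
  have hcore : ((p.homogeneousCore 𝒜).toIdeal).IsPrime := Ideal.IsPrime.homogeneousCore hp
  have h1 := h s _ hcore (p.homogeneousCore 𝒜).isHomogeneous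
    (fun l hl => Ideal.mem_homogeneousCore_of_homogeneous_of_mem (hG l) (hs l hl))
  exact h1.trans (Ideal.height_mono (Ideal.toIdeal_homogeneousCore_le 𝒜 p))

theorem isCI_of_forall_length_le {r : ℕ} (hr : r ≤ n) (a : Fin r → ℕ) (ha : ∀ l, 1 ≤ a l)
    (G : Fin r → 𝒮) (hG : ∀ l, G l ∈ 𝒜 (a l))
    (hdim : ∀ p : LTSeries (ProjectiveSpectrum 𝒜),
      (∀ l, G l ∈ p.head.asHomogeneousIdeal.toIdeal) → p.length ≤ n - r) : IsCI k n G := by
  apply isCI_of_homogeneous k n G (fun l => ⟨a l, hG l⟩)
  have key : ∀ (t : ℕ) (s : Finset (Fin r)), sᶜ.card = t → ∀ (p : Ideal 𝒮), p.IsPrime →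
      p.IsHomogeneous 𝒜 → (∀ l ∈ s, G l ∈ p) → (s.card : ℕ∞) ≤ p.height := by
    intro t
    induction t with
    | zero =>
      intro s hs p hp hhom hmem
      have hsu : s = Finset.univ := by
        rw [Finset.card_eq_zero, Finset.compl_eq_empty_iff] at hs
        exact hs
      subst hsu
      rw [Finset.card_univ, Fintype.card_fin]
      by_contra hcon
      rw [not_le] at hcon
      have h1 : p.height + 1 ≤ (r : ℕ∞) := Order.add_one_le_of_lt hcon
      have h2 : p.height + ((n - r + 1 : ℕ) : ℕ∞) ≤ (n : ℕ∞) := by
        calc p.height + ((n - r + 1 : ℕ) : ℕ∞) = (p.height + 1) + ((n - r : ℕ) : ℕ∞) := by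
              push_cast
              rw [add_assoc, add_comm (1 : ℕ∞)]
          _ ≤ (r : ℕ∞) + ((n - r : ℕ) : ℕ∞) := by gcongr
          _ = (n : ℕ∞) := by
              have : r + (n - r) = n := by omega
              exact_mod_cast this
      have hhtn : p.height ≤ (n : ℕ∞) := le_trans le_self_add h2
      obtain ⟨c, hcl, hch⟩ := exists_ltSeries k n (n - r + 1) (mkPt k n p hp hhom hhtn) h2
      have h3 := hdim c (by
        intro l
        rw [hch]
        exact hmem l (Finset.mem_univ l))
      omega
    | succ t ih =>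
      intro s hs p hp hhom hmem
      have hne : sᶜ.Nonempty := by
        rw [← Finset.card_pos, hs]
        exact Nat.succ_pos t
      obtain ⟨l, hl⟩ := hne
      rw [Finset.mem_compl] at hl
      have hcard : (insert l s)ᶜ.card = t := by
        rw [Finset.compl_insert, Finset.card_erase_of_mem (Finset.mem_compl.mpr hl), hs]
        rfl
      have hcard' : ((insert l s).card : ℕ∞) = (s.card : ℕ∞) + 1 := by
        rw [Finset.card_insert_of_notMem hl]
        push_cast
        rfl
      by_cases hGl : G l ∈ p
      · have h1 := ih (insert l s) hcard p hp hhom (by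
          intro l' hl'
          rcases Finset.mem_insert.mp hl' with rfl | h
          · exact hGl
          · exact hmem l' h)
        rw [hcard'] at h1
        exact le_trans le_self_add h1
      · have hGirr : G l ∈ (HomogeneousIdeal.irrelevant 𝒜).toIdeal :=
          HomogeneousIdeal.mem_irrelevant_of_mem _ (i := a l) (ha l) (hG l)
        have hne : p ⊔ Ideal.span {G l} ≠ ⊤ := by
          intro htop
          have hle : p ⊔ Ideal.span {G l} ≤ (HomogeneousIdeal.irrelevant 𝒜).toIdeal :=
            sup_le (le_irrelevant_of_isHomogeneous k n p hp.ne_top hhom)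
              ((Ideal.span_singleton_le_iff_mem _).mpr hGirr)
          rw [htop] at hle
          exact (isMaximal_irrelevant k n).ne_top (top_le_iff.mp hle)
        obtain ⟨q', hq'⟩ := Ideal.nonempty_minimalPrimes hne
        have hhomJ : (p ⊔ Ideal.span {G l}).IsHomogeneous 𝒜 := by
          refine Ideal.IsHomogeneous.sup hhom ?_
          exact Ideal.homogeneous_span 𝒜 _ (by
            rintro _ ⟨rfl⟩
            exact ⟨a l, hG l⟩)
        have hhom' : q'.IsHomogeneous 𝒜 :=
          Groth.Agent.Lib.Helper27ProjHypConn.isHomogeneous_of_mem_minimalPrimes 𝒜 hhomJ hq'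
        haveI := hp
        have hht := height_le_add_one_of_mem_minimalPrimes k n p q' (G l) hq'
        have h1 := ih (insert l s) hcard q' hq'.1.1 hhom' (by
          intro l' hl'
          rcases Finset.mem_insert.mp hl' with rfl | h
          · exact hq'.1.2 (Ideal.mem_sup_right (Ideal.subset_span (Set.mem_singleton _)))
          · exact hq'.1.2 (Ideal.mem_sup_left (hmem l' h)))
        rw [hcard'] at h1
        have h2 := h1.trans hht
        exact (ENat.add_le_add_iff_right ENat.one_ne_top).mp h2
  intro s p hp hhom hmem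
  exact key _ s rfl p hp hhom hmem

end Groth.Agent.Lib.T2H6.CIAlg
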