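import Mathlib
import Groth.Agent.Lib.T2H6CIAlgB
import Groth.Agent.Lib.Helper27PnChart

/-!
# Complete intersections in projective space: regularity on the standard charts (helper6)

`B_i = k[T_j, j ≠ i]`, `D_i : S → B_i` the dehomogenisation `T_i ↦ 1`.

* `mem_of_mul_mem_ofList`: in a Cohen–Macaulay ring, if `(xs, y)` generates an ideal of height at least its length
  then `y` is a non-zero-divisor modulo `(xs)`.
* `card_le_height_dehom`: `IsCI G` passes to the dehomogenisations.
* `mem_span_of_dehom_mul_mem`: for a complete intersection `G_0, …, G_r`, the dehomogenisation of `G_r` is a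
  non-zero-divisor modulo the dehomogenisations of `G_0, …, G_{r-1}`.
-/

set_option autoImplicit false
set_option linter.style.haveILetI false
universe u

open AlgebraicGeometry Order MvPolynomial

namespace Groth.Agent.Lib.T2H6.CIAlg

open Groth.Agent.Lib.Helper28 RingTheory.Sequence

section Generic

variable {A : Type u} [CommRing A] [hA : LocCoh.IsCohenMacaulayRing A]

/-- in a Cohen–Macaulay ring, if `(xs, y)` generates an ideal of height at least its length then `y` is a
non-zero-divisor modulo `(xs)`. -/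
theorem mem_of_mul_mem_ofList (xs : List A) (y : A)
    (hht : ((xs ++ [y]).length : ℕ∞) ≤ (Ideal.ofList (xs ++ [y])).height)
    (a : A) (ha : y * a ∈ Ideal.ofList xs) : a ∈ Ideal.ofList xs := by
  apply Ideal.mem_of_localization_maximal
  intro P hP
  haveI := hP.isPrime
  by_cases hle : Ideal.ofList (xs ++ [y]) ≤ P
  · have hreg := isRegular_map_localization_of_length_le_height (xs ++ [y]) hht P hle
    have h1 := hreg.toIsWeaklyRegular
    rw [List.map_append, isWeaklyRegular_append_iff] at h1
    have h2 := (isWeaklyRegular_singleton_iff _ _).mp h1.2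
    have h3 := Groth.Agent.Lib.T2H7.GradedCM.regmod_of_isSMulRegular _ _ h2
      (algebraMap A (Localization.AtPrime P) a)
    rw [Ideal.map_ofList]
    apply h3
    rw [← map_mul, ← Ideal.map_ofList]
    exact Ideal.mem_map_of_mem _ ha
  · have hex : ∃ z ∈ xs ++ [y], z ∉ P := by
      by_contra hcon
      push Not at hcon
      apply hle
      unfold Ideal.ofList
      rw [Ideal.span_le]
      intro z hz
      exact hcon z hz
    obtain ⟨z, hz, hzP⟩ := hex
    have hu : IsUnit (algebraMap A (Localization.AtPrime P) z) :=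
      IsLocalization.map_units (Localization.AtPrime P) (⟨z, hzP⟩ : P.primeCompl)
    rcases List.mem_append.mp hz with hz | hz
    · have : Ideal.map (algebraMap A (Localization.AtPrime P)) (Ideal.ofList xs) = ⊤ :=
        Ideal.eq_top_of_isUnit_mem _
          (Ideal.mem_map_of_mem _ (Ideal.subset_span hz)) hu
      rw [this]
      trivial
    · rw [List.mem_singleton] at hz
      subst hz
      obtain ⟨u, hu'⟩ := hu
      have h4 : algebraMap A (Localization.AtPrime P) a =
          (↑u⁻¹ : Localization.AtPrime P) * algebraMap A (Localization.AtPrime P) (z * a) := by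
        rw [map_mul, ← hu', ← mul_assoc, Units.inv_mul, one_mul]
      rw [h4]
      exact Ideal.mul_mem_left _ _ (Ideal.mem_map_of_mem _ ha)

end Generic

variable (k : Type u) [Field k] (n : ℕ)

local notation "𝒮" => MvPolynomial (Fin (n + 1)) k
local notation "𝒜" => CohB1.polyGrading n k

variable (i : Fin (n + 1))

local notation "ℬ" => MvPolynomial {j : Fin (n + 1) // j ≠ i} k
local notation "𝒟" => Groth.Agent.Lib.Helper27PnChart.dehom n k i

/-- the chart ring is a polynomial ring in `n` variables. -/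
noncomputable def chartEquiv : MvPolynomial (Fin n) k ≃+* ℬ :=
  (MvPolynomial.renameEquiv k (finSuccAboveEquiv i)).toRingEquiv

instance isCM_chart : LocCoh.IsCohenMacaulayRing ℬ := by
  haveI := isCohenMacaulayRing_of_field k
  haveI := isCohenMacaulayRing_mvPolynomial_fin (R := k) n
  exact isCohenMacaulayRing_of_ringEquiv (chartEquiv k n i)

theorem height_of_isMaximal_chart (m : Ideal ℬ) (hm : m.IsMaximal) : m.height = (n : ℕ∞) := by
  have h := height_eq_of_isMaximal_mvPolynomial_fin k n (m.comap (chartEquiv k n i))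
    (Ideal.comap_isMaximal_of_equiv _)
  rwa [RingEquiv.height_comap] at h

theorem dehom_rename (b : ℬ) : 𝒟 (rename Subtype.val b) = b := by
  have key : (𝒟).comp (rename Subtype.val : ℬ →ₐ[k] 𝒮).toRingHom = RingHom.id ℬ := by
    apply MvPolynomial.ringHom_ext
    · intro c
      simp [Groth.Agent.Lib.Helper27PnChart.dehom_C]
    · intro j
      simp [Groth.Agent.Lib.Helper27PnChart.dehom_X_ne n k i j.1 j.2]
  exact congrArg (fun φ : ℬ →+* ℬ => φ b) key

theorem dehom_surjective : Function.Surjective 𝒟 := fun b => ⟨_, dehom_rename k n i b⟩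

theorem dehom_X_sub_one : 𝒟 (X i - 1) = 0 := by
  rw [map_sub, Groth.Agent.Lib.Helper27PnChart.dehom_X_self, map_one, sub_self]


/-- `IsCI G` passes to the dehomogenisations. -/
theorem card_le_height_dehom {r : ℕ} (G : Fin r → 𝒮) (hG : ∀ l, SetLike.IsHomogeneousElem 𝒜 (G l))
    (hCI : IsCI k n G) (s : Finset (Fin r)) (p' : Ideal ℬ) [hp' : p'.IsPrime]
    (h : ∀ l ∈ s, 𝒟 (G l) ∈ p') : (s.card : ℕ∞) ≤ p'.height := by
  let ψ : 𝒮 →+* ℬ ⧸ p' := (Ideal.Quotient.mk p').comp 𝒟
  have hψ : Function.Surjective ψ := Ideal.Quotient.mk_surjective.comp (dehom_surjective k n i)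
  haveI hP : (RingHom.ker ψ).IsPrime := RingHom.ker_isPrime ψ
  have hmem : ∀ x, x ∈ RingHom.ker ψ ↔ 𝒟 x ∈ p' := fun x => by
    rw [RingHom.mem_ker]
    exact Ideal.Quotient.eq_zero_iff_mem
  let e : (𝒮 ⧸ RingHom.ker ψ) ≃+* ℬ ⧸ p' := RingHom.quotientKerEquivOfSurjective hψ
  have hdim := ringKrullDim_eq_of_ringEquiv e
  have h1 := height_add_ringKrullDim_quotient_eq_of_forall_isMaximal_height_eq (n + 1)
    (height_eq_of_isMaximal_mvPolynomial_fin k (n + 1)) (RingHom.ker ψ)
  have h2 := height_add_ringKrullDim_quotient_eq_of_forall_isMaximal_height_eq n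
    (height_of_isMaximal_chart k n i) p'
  rw [hdim] at h1
  have hcoreprime : ((RingHom.ker ψ).homogeneousCore 𝒜).toIdeal.IsPrime :=
    Ideal.IsPrime.homogeneousCore hP
  have h3 := hCI s _ hcoreprime
    (fun l hl => Ideal.mem_homogeneousCore_of_homogeneous_of_mem (hG l) ((hmem _).mpr (h l hl)))
  have hlt : ((RingHom.ker ψ).homogeneousCore 𝒜).toIdeal < RingHom.ker ψ := by
    refine lt_of_le_of_ne (Ideal.toIdeal_homogeneousCore_le 𝒜 _) ?_
    intro heq
    have hx : (X i - 1 : 𝒮) ∈ ((RingHom.ker ψ).homogeneousCore 𝒜).toIdeal := by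
      rw [heq, hmem, dehom_X_sub_one]
      exact p'.zero_mem
    have h0 := ((RingHom.ker ψ).homogeneousCore 𝒜).isHomogeneous 0 hx
    rw [Groth.Agent.Lib.Helper27ProjCodimOne.decompose_eq, homogeneousComponent_zero] at h0
    have hc : coeff 0 (X i - 1 : 𝒮) = -1 := by
      rw [coeff_sub, coeff_zero_X, coeff_zero_one, zero_sub]
    rw [hc] at h0
    exact hcoreprime.ne_top (Ideal.eq_top_of_isUnit_mem _ h0 ((isUnit_one.neg).map C))
  have h4 := Ideal.height_add_one_le_of_lt_of_isPrime hlt
  -- `ht 𝔓 = ht p' + 1`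
  have hnb : ringKrullDim (ℬ ⧸ p') ≠ ⊥ := by
    have : 0 ≤ ringKrullDim (ℬ ⧸ p') := ringKrullDim_nonneg_of_nontrivial
    intro hb
    rw [hb] at this
    simp at this
  obtain ⟨y, hy⟩ := WithBot.ne_bot_iff_exists.mp hnb
  rw [← hy] at h1 h2
  have h1' : (RingHom.ker ψ).height + y = ((n + 1 : ℕ) : ℕ∞) := by
    have : (((RingHom.ker ψ).height + y : ℕ∞) : WithBot ℕ∞) = (((n + 1 : ℕ) : ℕ∞) : WithBot ℕ∞) := by
      rw [WithBot.coe_add]
      exact h1
    exact WithBot.coe_injective this
  have h2' : p'.height + y = ((n : ℕ) : ℕ∞) := by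
    have : ((p'.height + y : ℕ∞) : WithBot ℕ∞) = (((n : ℕ) : ℕ∞) : WithBot ℕ∞) := by
      rw [WithBot.coe_add]
      exact h2
    exact WithBot.coe_injective this
  have hyfin : y ≠ ⊤ := by
    intro htop
    rw [htop, add_top] at h2'
    exact ENat.top_ne_natCast n h2'
  have h5 : (RingHom.ker ψ).height = p'.height + 1 := by
    have h6 : (RingHom.ker ψ).height + y = (p'.height + 1) + y := by
      rw [h1', add_assoc, add_comm 1 y, ← add_assoc, h2']
      push_cast
      rfl
    exact (ENat.add_left_injective_of_ne_top hyfin) h6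
  rw [h5] at h4
  have h7 := (add_le_add h3 le_rfl).trans h4
  exact (ENat.add_le_add_iff_right ENat.one_ne_top).mp h7

/-- for a complete intersection `G_0, …, G_r`, the dehomogenisation of `G_r` is a non-zero-divisor modulo the
dehomogenisations of `G_0, …, G_{r-1}`. -/
theorem mem_span_of_dehom_mul_mem {r : ℕ} (G : Fin (r + 1) → 𝒮)
    (hG : ∀ l, SetLike.IsHomogeneousElem 𝒜 (G l)) (hCI : IsCI k n G) (b : ℬ)
    (hb : 𝒟 (G (Fin.last r)) * b ∈ Ideal.span (Set.range fun j : Fin r => 𝒟 (G j.castSucc))) :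
    b ∈ Ideal.span (Set.range fun j : Fin r => 𝒟 (G j.castSucc)) := by
  set xs : List ℬ := List.ofFn (fun j : Fin r => 𝒟 (G j.castSucc)) with hxs
  have hof : Ideal.ofList xs = Ideal.span (Set.range fun j : Fin r => 𝒟 (G j.castSucc)) := by
    unfold Ideal.ofList
    congr 1
    ext x
    simp [hxs, List.mem_ofFn]
  rw [← hof] at hb ⊢
  refine mem_of_mul_mem_ofList xs _ ?_ b hb
  rw [List.length_append, List.length_singleton, hxs, List.length_ofFn,
    Ideal.height_eq_inf_minimalPrimes]
  refine le_iInf₂ fun q hq => ?_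
  haveI : q.IsPrime := hq.1.1
  have hle : Ideal.ofList (List.ofFn (fun j : Fin r => 𝒟 (G j.castSucc)) ++ [𝒟 (G (Fin.last r))]) ≤ q :=
    hq.1.2
  have h1 := card_le_height_dehom k n i G hG hCI Finset.univ q (by
    intro l _
    apply hle
    apply Ideal.subset_span
    refine Fin.lastCases ?_ (fun j => ?_) l
    · exact List.mem_append_right _ (List.mem_singleton.mpr rfl)
    · exact List.mem_append_left _ ((List.mem_ofFn' _ _).mpr ⟨j, rfl⟩))
  rwa [Finset.card_univ, Fintype.card_fin] at h1

/-- sub-families of complete intersections are complete intersections. -/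
theorem IsCI.comp {r r' : ℕ} {G : Fin r → 𝒮} (hCI : IsCI k n G) (f : Fin r' → Fin r)
    (hf : Function.Injective f) : IsCI k n (G ∘ f) := by
  intro s p hp hs
  have h := hCI (s.map ⟨f, hf⟩) p hp (by
    intro l hl
    obtain ⟨l', hl', rfl⟩ := Finset.mem_map.mp hl
    exact hs l' hl')
  rwa [Finset.card_map] at h

end Groth.Agent.Lib.T2H6.CIAlg
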