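import Mathlib
import Groth.Agent.Lib.T2H6NegVanF
set_option backward.isDefEq.respectTransparency.types false

/-!
# `H^1(X, I) = 0` and `Γ(X, O_X)` a field imply that `V(I)` is connected (T2H6)
-/

set_option autoImplicit false
set_option linter.style.haveILetI false
set_option linter.unusedSectionVars false
universe u

open CategoryTheory TopCat TopologicalSpace Opposite AlgebraicGeometry Limits

namespace Groth.Agent.Lib.T2H6.ConnH1

open Groth.Agent.Lib.T2H6.NegVan

/-- if `f : Z ⟶ X` is surjective on global functions, `Γ(X, O_X)` is a field and `Z` is nonempty, then `Z` is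
connected. -/
theorem connectedSpace_of_surjective_appTop {X Z : Scheme.{u}} (f : Z ⟶ X) [Nonempty Z]
    (hX : IsField Γ(X, ⊤)) (hf : Function.Surjective f.appTop.hom) : ConnectedSpace Z := by
  haveI : PreconnectedSpace Z := by
    rw [preconnectedSpace_iff_clopen]
    intro U hU
    obtain ⟨e', he', hU'⟩ := Groth.Agent.Lib.T2H7.HensCouple.exists_idem_of_isClopen Z U hU
    obtain ⟨a, rfl⟩ := hf e'
    by_cases ha : a = 0
    · left
      rw [← hU', ha, map_zero, Scheme.basicOpen_zero]
      rfl
    · right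
      letI := hX.toField
      have hau : IsUnit a := isUnit_iff_ne_zero.mpr ha
      have hu : IsUnit (f.appTop.hom a) := hau.map _
      rw [← hU', Scheme.basicOpen_of_isUnit _ hu]
      rfl
  exact ⟨inferInstance⟩

section Coh

variable (k : Type u) [Field k] {X : Scheme.{u}} [X.Over (Spec (CommRingCat.of k))]

open Groth.Agent.Lib.T2H5.HHLes Groth.Agent.Lib.T2H5.T2Les Groth.Agent.Lib.T2H6.AmpleCrit
  Groth.Agent.Lib.Helper23.GenLocus

include k in
/-- if `H^1(X, I) = 0` then `Γ(X, O_X) → Γ(X, O_X/I)` is surjective. -/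
theorem surjective_toSubscheme_app_top (I : X.IdealSheafData)
    (h1 : Subsingleton (Coh.HH X (ClSub.idealMod I) 1)) :
    Function.Surjective ((ClSub.toSubscheme I).app ⊤) := by
  have hS := idealSC_shortExact I
  have hsurj : Function.Surjective (Canon.HHlin k (idealSC I).g 0) := by
    rw [← LinearMap.range_eq_top, ← exact₃ (A := k) (idealSC I) hS 0, LinearMap.ker_eq_top]
    ext x
    exact Subsingleton.elim (α := Coh.HH X (ClSub.idealMod I) (0 + 1)) _ _
  have hcomm : ∀ y, Groth.Agent.Lib.Helper27PnSections.hh0Equiv X _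
      (Canon.HHlin k (ClSub.toSubscheme I) 0 y) =
      (ClSub.toSubscheme I).app ⊤ (Groth.Agent.Lib.Helper27PnSections.hh0Equiv X _ y) :=
    fun y => hh0Equiv_HHlin k (ClSub.toSubscheme I) y
  intro c
  obtain ⟨c', rfl⟩ := (Groth.Agent.Lib.Helper27PnSections.hh0Equiv X _).surjective c
  obtain ⟨y, rfl⟩ := hsurj c'
  exact ⟨_, (hcomm y).symm⟩

include k in
/-- if `H^1(X, I) = 0`, `Γ(X, O_X)` is a field and `V(I)` is nonempty, then `V(I)` is connected. -/
theorem connectedSpace_subscheme_of_h1 (hX : IsField Γ(X, ⊤)) (I : X.IdealSheafData)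
    [Nonempty ↥I.subscheme]
    (h1 : Subsingleton (Coh.HH X (ClSub.idealMod I) 1)) : ConnectedSpace ↥I.subscheme := by
  apply connectedSpace_of_surjective_appTop I.subschemeι hX
  have hb := surjective_toSubscheme_app_top k I h1
  intro c
  obtain ⟨a, ha⟩ := hb (toS (I.subschemeι ⁻¹ᵁ ⊤) c)
  refine ⟨ofS ⊤ a, ?_⟩
  have h2 := toSubscheme_app I ⊤ (ofS ⊤ a)
  rw [toS_ofS, ha] at h2
  exact (congrArg (ofS _) h2).symm

end Coh

end Groth.Agent.Lib.T2H6.ConnH1
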