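import Mathlib
import Groth.Prelude.Def_LefPen
import Groth.Agent.Lib.T2H3ZeroScheme
import Groth.Agent.Lib.Helper27TwistAmple
import Groth.Agent.Lib.Helper27GrTildeBridge2
import Groth.Agent.Lib.T2H5Twist
import Groth.Agent.Lib.T2H6PnIntegral
import Groth.Agent.Lib.T2H6InvMono
import Groth.Agent.Lib.T2H6NegVanE

/-!
# The ideal sheaf of a hypersurface of `P^r_k` is the zero scheme of a section of `O(d)` (helper6)

* `formHom G : O ⟶ O(d)` : the section of `O(d)` defined by a form `G` of degree `d`.
* `sv_formHom_chart` : on `D_+(T_i)` this section is `(G / T_i^d) • T_i^d`.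
* `hypIdeal_eq_zeroScheme` : `LefPen.hypIdeal G = PicF2.zeroScheme O(d) (formHom G)`.
* `nonempty_idealMod_hypIdeal_iso` : for `G ≠ 0`, the ideal module of `V_+(G)` is `O(-d)`.
-/

set_option autoImplicit false
set_option linter.style.haveILetI false
set_option linter.unusedSectionVars false
universe u

open CategoryTheory CategoryTheory.Limits AlgebraicGeometry TopologicalSpace Opposite
  HomogeneousLocalization

namespace Groth.Agent.Lib.T2H6.HypBridge

open Groth.Agent.Lib.Helper23.SecTw Groth.Agent.Lib.Helper6 Groth.Agent.Lib.Helper23.GenLocus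
  Groth.Agent.Lib.Helper27GrTildeSect Groth.Agent.Lib.T2H3.ZeroScheme

variable {r : ℕ} {k : Type u} [Field k]

/-- the global section of `O(d)` defined by a form of degree `d`. -/
noncomputable def formSec {d : ℕ} (G : LefPen.Form r k d) :
    Γ(Twist.twistProjSpace r k (d : ℤ), ⊤) :=
  gsec (CohB1.polyGrading r k) d ⊤ G.2

/-- the section `O ⟶ O(d)` defined by a form of degree `d`. -/
noncomputable def formHom {d : ℕ} (G : LefPen.Form r k d) :
    Coh.structureModule (CohB1.ProjSpace r k) ⟶ Twist.twistProjSpace r k (d : ℤ) :=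
  secHom (Twist.twistProjSpace r k (d : ℤ)) (formSec G)

theorem X_pow_mem (i : Fin (r + 1)) (d : ℕ) :
    (MvPolynomial.X i ^ d : MvPolynomial (Fin (r + 1)) k) ∈ CohB1.polyGrading r k d := by
  have := pow_mem_one (𝒜 := CohB1.polyGrading r k) (LefPen.X_mem r k i) d
  exact this

theorem X_pow_not_mem (i : Fin (r + 1)) (d : ℕ) (y : (LefPen.chart r k i : (CohB1.ProjSpace r k).Opens)) :
    (MvPolynomial.X i ^ d : MvPolynomial (Fin (r + 1)) k) ∉
      (show ProjectiveSpectrum (CohB1.polyGrading r k) from y.1).asHomogeneousIdeal := by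
  intro h
  have h1 := (ProjectiveSpectrum.mem_basicOpen (CohB1.polyGrading r k) (MvPolynomial.X i) y.1).mp y.2
  exact h1 ((show ProjectiveSpectrum (CohB1.polyGrading r k) from y.1).isPrime.mem_of_pow_mem d h)

/-- the frame `T_i^d` of `O(d)` on the chart `D_+(T_i)`. -/
noncomputable def chartFrame (i : Fin (r + 1)) (d : ℕ) :
    Γ(Twist.twistProjSpace r k (d : ℤ), LefPen.chart r k i) :=
  gsec (CohB1.polyGrading r k) d (LefPen.chart r k i) (X_pow_mem i d)

theorem isGen_chartFrame (i : Fin (r + 1)) (d : ℕ) :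
    IsGen (Twist.twistProjSpace r k (d : ℤ)) (LefPen.chart r k i) (chartFrame (k := k) i d) :=
  isGen_fracSec (CohB1.polyGrading r k) (d : ℤ) (LefPen.chart r k i) (i := d) (j := 0)
    (X_pow_mem i d) (SetLike.GradedOne.one_mem) (by simp)
    (fun y => one_not_mem (CohB1.polyGrading r k) y.1) (fun y => X_pow_not_mem i d y)

theorem sv_formHom {d : ℕ} (G : LefPen.Form r k d) (W : (CohB1.ProjSpace r k).Opens) :
    sv (formHom G) W = gsec (CohB1.polyGrading r k) d W G.2 := by
  unfold formHom
  rw [sv_secHom]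
  rfl

/-- on the chart `D_+(T_i)` the section defined by `G` is `(G / T_i^d) • T_i^d`. -/
theorem sv_formHom_chart {d : ℕ} (G : LefPen.Form r k d) (i : Fin (r + 1)) :
    sv (formHom G) (LefPen.chart r k i) = LefPen.dehom G i • chartFrame (k := k) i d := by
  rw [sv_formHom]
  unfold chartFrame gsec
  refine (fracSec_eq_smul_iff (𝒜 := CohB1.polyGrading r k) (d : ℤ) (LefPen.chart r k i) G.2
    SetLike.GradedOne.one_mem (by simp) (fun y => one_not_mem (CohB1.polyGrading r k) y.1)
    (X_pow_mem i d) SetLike.GradedOne.one_mem (by simp)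
    (fun y => one_not_mem (CohB1.polyGrading r k) y.1) (LefPen.dehom G i)).mpr ?_
  intro y hy
  unfold LefPen.dehom
  rw [funVal_awayToSection_val (LefPen.X_mem r k i) d G.1 _ y hy]
  rw [Localization.mk_mul]
  rw [Localization.mk_eq_mk_iff, Localization.r_iff_exists]
  refine ⟨1, ?_⟩
  simp only [OneMemClass.coe_one, one_mul, Submonoid.coe_mul, mul_one]
  ring

end Groth.Agent.Lib.T2H6.HypBridge
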