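import Mathlib
import Groth.Agent.Lib.T2H6HypBridgeA
import Groth.Agent.Lib.T2H5PnVanish

/-!
# The ideal sheaf of a hypersurface of `P^r_k`, continued (helper6)

* `ideal_zeroScheme_of_le_chart` : on an affine open inside `D_+(T_i)` the zero scheme of the
  section defined by `G` has ideal `(G / T_i^d)`.
* `hypIdeal_eq_zeroScheme` : `LefPen.hypIdeal G = PicF2.zeroScheme O(d) (formHom G)`.
* `nonempty_idealMod_hypIdeal_iso` : for `G ≠ 0`, the ideal module of `V_+(G)` is `O(-d)`.
-/

set_option autoImplicit false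
set_option linter.style.haveILetI false
set_option linter.unusedSectionVars false
universe u

open CategoryTheory CategoryTheory.Limits AlgebraicGeometry TopologicalSpace Opposite
  HomogeneousLocalization

namespace Groth.Agent.Lib.T2H6.HypBridge

open Groth.Agent.Lib.Helper23.SecTw Groth.Agent.Lib.Helper6 Groth.Agent.Lib.Helper23.GenLocus
  Groth.Agent.Lib.Helper27GrTildeSect Groth.Agent.Lib.T2H3.ZeroScheme

variable {r : ℕ} {k : Type u} [Field k]

theorem resf_self' {X : Scheme.{u}} {U : X.Opens} (a : Γ(X, U)) : resf (le_refl U) a = a := by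
  change (X.presheaf.map (𝟙 (op U))) a = a
  rw [X.presheaf.map_id]
  rfl

theorem isAffineOpen_chart (i : Fin (r + 1)) : IsAffineOpen (LefPen.chart r k i) :=
  Proj.isAffineOpen_basicOpen (CohB1.polyGrading r k) _ (LefPen.X_mem r k i) one_pos

theorem isAffineOpen_inf {U V : (CohB1.ProjSpace r k).Opens} (hU : IsAffineOpen U)
    (hV : IsAffineOpen V) : IsAffineOpen (U ⊓ V) := by
  haveI : IsAffineHom (pullback.diagonal (terminal.from (CohB1.ProjSpace r k))) := by
    unfold CohB1.ProjSpace; infer_instance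
  exact hU.inf hV

theorem iSup_chart : ⨆ i, LefPen.chart r k i = ⊤ := by
  have h := Proj.iSup_basicOpen_eq_top (CohB1.polyGrading r k)
    (fun j : Fin (r + 1) => (MvPolynomial.X j : MvPolynomial (Fin (r + 1)) k))
    (Groth.Agent.S0022.irrelevant_le r k)
  exact h

/-- on an open inside `D_+(T_i)` the section defined by `G` is `(G / T_i^d) • T_i^d`. -/
theorem sv_formHom_of_le_chart {d : ℕ} (G : LefPen.Form r k d) (i : Fin (r + 1))
    {W : (CohB1.ProjSpace r k).Opens} (hW : W ≤ LefPen.chart r k i) :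
    sv (formHom G) W = resf hW (LefPen.dehom G i) •
      res (Twist.twistProjSpace r k (d : ℤ)) hW (chartFrame (k := k) i d) := by
  rw [← res_sv (formHom G) hW, sv_formHom_chart, res_smul]

/-- the ideal of the zero scheme on an affine open inside a chart. -/
theorem ideal_zeroScheme_of_le_chart {d : ℕ} (G : LefPen.Form r k d) (i : Fin (r + 1))
    (W : (CohB1.ProjSpace r k).affineOpens) (hW : W.1 ≤ LefPen.chart r k i) :
    (PicF2.zeroScheme (Twist.twistProjSpace r k (d : ℤ)) (formHom G)).ideal W =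
      Ideal.span {resf hW (LefPen.dehom G i)} := by
  rw [zeroScheme_ideal _ _ (Groth.Agent.Lib.T2H5.Twist.isInvertible_twist r k (d : ℤ)) W]
  exact zI_eq_span _ _ ((isGen_chartFrame i d).mono hW) (sv_formHom_of_le_chart G i hW)

theorem zeroScheme_le_hypIdeal {d : ℕ} (G : LefPen.Form r k d) :
    PicF2.zeroScheme (Twist.twistProjSpace r k (d : ℤ)) (formHom G) ≤ LefPen.hypIdeal G := by
  unfold LefPen.hypIdeal
  rw [Scheme.IdealSheafData.le_ofIdeals_iff]
  intro U a ha
  unfold LefPen.hypFamily
  rw [Ideal.mem_iInf]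
  intro i
  rw [Ideal.mem_comap]
  have hUi : IsAffineOpen (U.1 ⊓ LefPen.chart r k i) := isAffineOpen_inf U.2 (isAffineOpen_chart i)
  have h1 := (PicF2.zeroScheme (Twist.twistProjSpace r k (d : ℤ)) (formHom G)).ideal_le_comap_ideal
    (U := ⟨U.1 ⊓ LefPen.chart r k i, hUi⟩) (V := U)
    (show (⟨U.1 ⊓ LefPen.chart r k i, hUi⟩ : (CohB1.ProjSpace r k).affineOpens) ≤ U from
      (inf_le_left : U.1 ⊓ LefPen.chart r k i ≤ U.1)) ha
  rw [Ideal.mem_comap, ideal_zeroScheme_of_le_chart G i ⟨_, hUi⟩ inf_le_right] at h1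
  exact h1

theorem ideal_hypIdeal_chart_le {d : ℕ} (G : LefPen.Form r k d) (i : Fin (r + 1)) :
    (LefPen.hypIdeal G).ideal ⟨LefPen.chart r k i, isAffineOpen_chart i⟩ ≤
      Ideal.span {LefPen.dehom G i} := by
  intro a ha
  have h1 := Scheme.IdealSheafData.ideal_ofIdeals_le (LefPen.hypFamily G)
    ⟨LefPen.chart r k i, isAffineOpen_chart i⟩ ha
  unfold LefPen.hypFamily at h1
  rw [Ideal.mem_iInf] at h1
  have h2 := h1 i
  rw [Ideal.mem_comap, Ideal.mem_span_singleton'] at h2
  obtain ⟨b, hb⟩ := h2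
  -- restriction from the chart to itself is injective
  have hle : LefPen.chart r k i ≤ LefPen.chart r k i ⊓ LefPen.chart r k i := le_inf le_rfl le_rfl
  have h3 := congrArg (resf hle) hb
  rw [resf_mul] at h3
  rw [Ideal.mem_span_singleton']
  refine ⟨resf hle b, ?_⟩
  have e1 : resf hle (((CohB1.ProjSpace r k).presheaf.map (homOfLE (inf_le_right :
      LefPen.chart r k i ⊓ LefPen.chart r k i ≤ LefPen.chart r k i)).op).hom (LefPen.dehom G i)) =
      LefPen.dehom G i := by
    have := resf_resf (X := CohB1.ProjSpace r k) (inf_le_right :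
      LefPen.chart r k i ⊓ LefPen.chart r k i ≤ LefPen.chart r k i) hle (LefPen.dehom G i)
    rw [resf_self'] at this
    exact this
  have e2 : resf hle (((CohB1.ProjSpace r k).presheaf.map (homOfLE (inf_le_left :
      LefPen.chart r k i ⊓ LefPen.chart r k i ≤ LefPen.chart r k i)).op).hom a) = a := by
    have := resf_resf (X := CohB1.ProjSpace r k) (inf_le_left :
      LefPen.chart r k i ⊓ LefPen.chart r k i ≤ LefPen.chart r k i) hle a
    rw [resf_self'] at this
    exact this
  rw [← e2, ← h3, e1]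

/-- **the ideal sheaf of the hypersurface `V_+(G)` is the zero scheme of the section `G` of
`O(d)`**. -/
theorem hypIdeal_eq_zeroScheme {d : ℕ} (G : LefPen.Form r k d) :
    LefPen.hypIdeal G = PicF2.zeroScheme (Twist.twistProjSpace r k (d : ℤ)) (formHom G) := by
  refine Scheme.IdealSheafData.ext_of_iSup_eq_top
    (fun i : Fin (r + 1) => (⟨LefPen.chart r k i, isAffineOpen_chart i⟩ :
      (CohB1.ProjSpace r k).affineOpens)) iSup_chart (fun i => ?_)
  apply le_antisymm
  · refine (ideal_hypIdeal_chart_le G i).trans ?_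
    rw [ideal_zeroScheme_of_le_chart G i ⟨_, isAffineOpen_chart i⟩ le_rfl, resf_self']
  · exact zeroScheme_le_hypIdeal G _

end Groth.Agent.Lib.T2H6.HypBridge
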