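import Mathlib
import Groth.Agent.Lib.T2H6HypBridgeB
import Groth.Agent.Lib.T2H9GenusOne

/-!
# The ideal module of a hypersurface of degree `d` in `P^r_k` is `O(-d)` (helper6)

* `formHom_ne_zero`, `mono_formHom` : a nonzero form defines a regular section of `O(d)`.
* `nonempty_idealMod_hypIdeal_iso` : for `G ≠ 0`, `ClSub.idealMod (LefPen.hypIdeal G) ≅ O(-d)`.
-/

set_option autoImplicit false
set_option linter.style.haveILetI false
set_option linter.unusedSectionVars false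
universe u

open CategoryTheory CategoryTheory.Limits AlgebraicGeometry TopologicalSpace Opposite
  HomogeneousLocalization

namespace Groth.Agent.Lib.T2H6.HypBridge

open Groth.Agent.Lib.Helper23.SecTw Groth.Agent.Lib.Helper6 Groth.Agent.Lib.Helper23.GenLocus
  Groth.Agent.Lib.Helper27GrTildeSect Groth.Agent.Lib.T2H3.ZeroScheme

variable {r : ℕ} {k : Type u} [Field k]

section Gen

variable {R A : Type u} [CommRing R] [CommRing A] [Algebra R A] (𝒜 : ℕ → Submodule R A)
  [GradedAlgebra 𝒜]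

theorem eq_zero_of_gsec_eq_zero [IsDomain A] (n : ℕ) (W : (Proj 𝒜).Opens) {b : A} (hb : b ∈ 𝒜 n)
    (y : ProjectiveSpectrum 𝒜) (hy : y ∈ W) (h : gsec 𝒜 n W hb = 0) : b = 0 := by
  have h2 := congrArg (fun s => (secVal 𝒜 𝒜 (n : ℤ) W s y hy : Twist.Loc 𝒜 y)) h
  unfold gsec at h2
  rw [secVal_fracSec, secVal_zero] at h2
  rw [Localization.mk_eq_mk'_apply, IsLocalization.mk'_eq_zero_iff] at h2
  obtain ⟨m, hm⟩ := h2
  have hm0 : (m : A) ≠ 0 := by
    intro h0
    exact m.2 (by rw [h0]; exact Ideal.zero_mem _)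
  rcases mul_eq_zero.mp hm with h3 | h3
  · exact absurd h3 hm0
  · exact h3

end Gen

theorem formHom_ne_zero {d : ℕ} (G : LefPen.Form r k d) (hG : G ≠ 0) : formHom G ≠ 0 := by
  intro h
  have h1 : sv (formHom G) ⊤ = 0 := by
    rw [h]
    rfl
  rw [sv_formHom] at h1
  haveI : IsIntegral (CohB1.ProjSpace r k) := inferInstance
  obtain ⟨y⟩ := (inferInstance : Nonempty (CohB1.ProjSpace r k))
  have : G.1 = 0 := eq_zero_of_gsec_eq_zero (CohB1.polyGrading r k) d ⊤ G.2 y trivial h1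
  exact hG (Subtype.ext this)

theorem mono_formHom {d : ℕ} (G : LefPen.Form r k d) (hG : G ≠ 0) : Mono (formHom G) :=
  Groth.Agent.Lib.T2H6.InvMono.mono_of_ne_zero
    (Groth.Agent.Lib.Helper23.TensorUnit.isInvertible_structureModule _)
    (Groth.Agent.Lib.T2H5.Twist.isInvertible_twist r k (d : ℤ)) (formHom G) (formHom_ne_zero G hG)

/-- **the ideal module of a hypersurface of degree `d` is `O(-d)`**. -/
theorem nonempty_idealMod_hypIdeal_iso {d : ℕ} (G : LefPen.Form r k d) (hG : G ≠ 0) :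
    Nonempty (ClSub.idealMod (LefPen.hypIdeal G) ≅ Twist.twistProjSpace r k (-(d : ℤ))) := by
  haveI := mono_formHom G hG
  rw [hypIdeal_eq_zeroScheme]
  have hL := Groth.Agent.Lib.T2H5.Twist.isInvertible_twist r k (d : ℤ)
  obtain ⟨e1⟩ := Groth.Agent.Lib.T2H6.NegVan.nonempty_tensor_idealMod_zeroScheme_iso
    (Twist.twistProjSpace r k (d : ℤ)) hL (formHom G)
  obtain ⟨e2⟩ := Groth.Agent.Lib.T2H5.Twist.nonempty_twist_tensor_iso r k (-(d : ℤ)) (d : ℤ) 0
    (by omega)
  obtain ⟨e3⟩ := Groth.Agent.Lib.T2H5.Twist.nonempty_twist_zero_iso r k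
  exact Groth.Agent.Lib.T2H9.GenusOne.nonempty_iso_of_tensor_iso hL (e1 ≪≫ e3.symm ≪≫ e2.symm)

end Groth.Agent.Lib.T2H6.HypBridge
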