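import Mathlib
import Groth.Agent.Lib.T2H5Twist
import Groth.Agent.Lib.T2H5HHSub
import Groth.Agent.Lib.T2H5Dim0b
import Groth.Agent.Lib.T2H5Devissage
import Groth.Agent.Lib.T2H5GenIsoB
import Groth.Agent.Lib.T2H5QProjRes
import Groth.Agent.Lib.T2H5Chevalley
import Groth.Agent.Lib.T2H6GVSupp
import Groth.Agent.Lib.Helper23TensorQCoh
import Groth.Agent.Lib.Helper23SecTw3
import Groth.Agent.S0022

/-!
# Regularity of the cokernel and image of a termwise regular complex on `P^n` (helper6)

Namespace `Groth.Agent.Lib.T2H6.RegCx`.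
-/

set_option autoImplicit false
set_option linter.style.haveILetI false
set_option linter.unusedSectionVars false
set_option linter.unusedVariables false
universe u
open CategoryTheory CategoryTheory.Limits AlgebraicGeometry TopologicalSpace

namespace Groth.Agent.Lib.T2H6.RegCx

open Groth.Agent.Lib.T2H5.Twist Groth.Agent.Lib.T2H5.HHSub Groth.Agent.Lib.T2H5.Chevalley
  Groth.Agent.Lib.T2H5.GenIsoB

variable (k : Type u) [Field k] (n : ℕ)

/-- a coherent module on `P^n` with support of dimension `≤ 1` has no cohomology in degrees `≥ 2`, after any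
twist. -/
theorem subsingleton_HH_tw_of_support (H : (CohB1.ProjSpace n k).Modules) (hH : Coh.IsCoh H)
    (hs : topologicalKrullDim (CohB1.support H) ≤ 1) (d : ℤ) (p : ℕ) (hp : 2 ≤ p) :
    Subsingleton (Coh.HH (CohB1.ProjSpace n k) ((tw n k d).obj H) p) := by
  haveI hP : IsNoetherian (CohB1.ProjSpace n k) :=
    Groth.Agent.Lib.T2H5.QProjRes.isNoetherian_projSpace k n
  haveI : NoetherianSpace (CohB1.ProjSpace n k) := inferInstance
  have hcl : IsClosed (CohB1.support H) := Groth.Agent.Lib.T2H5.Devissage.isClosed_support H hH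
  let U : (CohB1.ProjSpace n k).Opens := ⟨(CohB1.support H)ᶜ, hcl.isOpen_compl⟩
  refine Groth.Agent.Lib.T2H6.GVSupp.subsingleton_HH_of_stalk (CohB1.ProjSpace n k) _ U ?_ p ?_
  · intro x hx
    by_contra hne
    have h1 : x ∈ CohB1.support ((tw n k d).obj H) := hne
    exact hx (Groth.Agent.Lib.T2H5.Dim0.support_tensorMod_subset H _ h1)
  · have hU : ((U : Set (CohB1.ProjSpace n k))ᶜ : Set (CohB1.ProjSpace n k)) = CohB1.support H :=
      compl_compl _
    rw [hU]
    refine lt_of_le_of_lt hs ?_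
    have : (1 : WithBot ℕ∞) < ((p : ℕ) : WithBot ℕ∞) := by exact_mod_cast hp
    exact this

/-- an `m`-regular quasi-coherent module satisfies the vanishing in every degree `i ≥ 1`. -/
theorem subsingleton_HH_of_isMRegular (F : (CohB1.ProjSpace n k).Modules) [F.IsQuasicoherent] (m : ℤ)
    (h : Curv2.IsMRegular k n F m) (i : ℕ) (hi : 1 ≤ i) (e : ℤ) (he : e = m - i) :
    Subsingleton (Coh.HH (CohB1.ProjSpace n k) ((tw n k e).obj F) i) := by
  subst he
  by_cases hin : i ≤ n
  · exact h i hi hin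
  · haveI : (Twist.twistProjSpace n k (m - i)).IsQuasicoherent :=
      Groth.Agent.Lib.Helper23.SecTw.isQuasicoherent_of_isInvertible _
        (Groth.Agent.Lib.T2H5.Twist.isInvertible_twist n k (m - i))
    haveI : ((tw n k (m - i)).obj F).IsQuasicoherent :=
      Groth.Agent.Lib.Helper23.TensorQCoh.isQuasicoherent_tensorMod F _
    exact Groth.Agent.S0022.result n k _ i (by omega)


section Cx

variable {k n}
variable (E : ChainComplex ((CohB1.ProjSpace n k).Modules) ℕ)

theorem imageι_comp_d (s : ℕ) :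
    Abelian.image.ι (E.d (s + 1 + 1) (s + 1)) ≫ E.d (s + 1) s = 0 := by
  rw [← cancel_epi (Abelian.factorThruImage (E.d (s + 1 + 1) (s + 1)))]
  rw [← Category.assoc, Abelian.image.fac, HomologicalComplex.d_comp_d, comp_zero]

/-- the inclusion `im(d_{s+2}) ⟶ ker(d_{s+1})` -/
noncomputable def ell (s : ℕ) : Abelian.image (E.d (s + 1 + 1) (s + 1)) ⟶ kernel (E.d (s + 1) s) :=
  kernel.lift _ (Abelian.image.ι (E.d (s + 1 + 1) (s + 1))) (imageι_comp_d E s)

theorem ell_ι (s : ℕ) : ell E s ≫ kernel.ι (E.d (s + 1) s) = Abelian.image.ι (E.d (s + 1 + 1) (s + 1)) :=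
  kernel.lift_ι _ _ _

instance (s : ℕ) : Mono (ell E s) := mono_of_mono_fac (ell_ι E s)

theorem factor_ell (s : ℕ) :
    Abelian.factorThruImage (E.d (s + 1 + 1) (s + 1)) ≫ ell E s =
      kernel.lift (E.d (s + 1) s) (E.d (s + 1 + 1) (s + 1)) (E.d_comp_d _ _ _) := by
  rw [← cancel_mono (kernel.ι (E.d (s + 1) s)), Category.assoc, ell_ι, Abelian.image.fac, kernel.lift_ι]

/-- the cokernel of `ell` is the homology -/
noncomputable def cokernelEllIso (s : ℕ) : cokernel (ell E s) ≅ E.homology (s + 1) :=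
  (cokernelEpiComp (Abelian.factorThruImage (E.d (s + 1 + 1) (s + 1))) (ell E s)).symm ≪≫
    cokernelIsoOfEq (factor_ell E s) ≪≫
    ((E.sc' (s + 1 + 1) (s + 1) s).homologyIsoCokernelLift).symm ≪≫
    (ShortComplex.homologyMapIso (E.isoSc' (s + 1 + 1) (s + 1) s (by simp) (by simp))).symm

/-- `0 → im(d_{s+2}) → ker(d_{s+1}) → H_{s+1} → 0` -/
noncomputable def scA (s : ℕ) : ShortComplex (CohB1.ProjSpace n k).Modules :=
  ShortComplex.mk (ell E s) (cokernel.π (ell E s)) (cokernel.condition _)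

theorem scA_shortExact (s : ℕ) : (scA E s).ShortExact :=
  haveI : Mono (scA E s).f := inferInstanceAs (Mono (ell E s))
  haveI : Epi (scA E s).g := inferInstanceAs (Epi (cokernel.π (ell E s)))
  ShortComplex.ShortExact.mk (ShortComplex.exact_cokernel (ell E s))

theorem isZero_tw {Z : (CohB1.ProjSpace n k).Modules} (hZ : IsZero Z) (e : ℤ) :
    IsZero ((tw n k e).obj Z) := by
  haveI : (tw n k e).IsLeftAdjoint := inferInstanceAs ((twEquiv n k e).functor.IsLeftAdjoint)
  exact Functor.map_isZero (tw n k e) hZ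

variable (t : ℕ) (hbdd : ∀ s : ℕ, t < s → IsZero (E.X s)) (hcoh : ∀ s : ℕ, Coh.IsCoh (E.X s)) (d : ℤ)
  (hreg : ∀ s : ℕ, Curv2.IsMRegular k n (E.X s) (d + s))
  (hsupp : ∀ i : ℕ, 0 < i → topologicalKrullDim (CohB1.support (E.homology i)) ≤ 1)

include hbdd hcoh hreg hsupp in
theorem isMRegular_image_aux : ∀ (r s : ℕ), t ≤ s + r →
    Curv2.IsMRegular k n (Abelian.image (E.d (s + 1) s)) (d + s + 1) := by
  haveI hP : IsNoetherian (CohB1.ProjSpace n k) :=
    Groth.Agent.Lib.T2H5.QProjRes.isNoetherian_projSpace k n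
  haveI : IsLocallyNoetherian (CohB1.ProjSpace n k) := hP.toIsLocallyNoetherian
  have hcohIm : ∀ s : ℕ, Coh.IsCoh (Abelian.image (E.d (s + 1) s)) := fun s =>
    isCoh_kernel (cokernel.π (E.d (s + 1) s)) (hcoh s) (isCoh_cokernel (E.d (s + 1) s) (hcoh (s + 1)) (hcoh s))
  intro r
  induction r with
  | zero =>
    intro s hs i hi hin
    have hZ : IsZero (E.X (s + 1)) := hbdd (s + 1) (by omega)
    have hZ' : IsZero (Abelian.image (E.d (s + 1) s)) :=
      IsZero.of_epi (Abelian.factorThruImage (E.d (s + 1) s)) hZ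
    exact subsingleton_HH_of_isZero (isZero_tw hZ' _) i
  | succ r ih =>
    intro s hs i hi hin
    have IH := ih (s + 1) (by omega)
    set e : ℤ := d + s + 1 - i with he
    haveI := (hcoh (s + 1)).1
    haveI := (hcohIm (s + 1)).1
    have h1 : Subsingleton (Coh.HH (CohB1.ProjSpace n k) ((tw n k e).obj (E.X (s + 1))) i) :=
      subsingleton_HH_of_isMRegular k n (E.X (s + 1)) (d + (s + 1 : ℕ)) (hreg (s + 1)) i hi e
        (by rw [he]; push_cast; ring)
    have h2 : Subsingleton (Coh.HH (CohB1.ProjSpace n k)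
        ((tw n k e).obj (Abelian.image (E.d (s + 1 + 1) (s + 1)))) (i + 1)) :=
      subsingleton_HH_of_isMRegular k n _ (d + (s + 1 : ℕ) + 1) IH (i + 1) (by omega) e
        (by rw [he]; push_cast; ring)
    have hcohK : Coh.IsCoh (kernel (E.d (s + 1) s)) := isCoh_kernel _ (hcoh (s + 1)) (hcoh s)
    have hcohH : Coh.IsCoh (E.homology (s + 1)) :=
      Groth.Agent.Lib.T2H5.Devissage.isCoh_of_iso (cokernelEllIso E s)
        (isCoh_cokernel (ell E s) (hcohIm (s + 1)) hcohK)
    have h3 : Subsingleton (Coh.HH (CohB1.ProjSpace n k)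
        ((tw n k e).obj (cokernel (ell E s))) (i + 1)) :=
      subsingleton_HH_of_iso ((tw n k e).mapIso (cokernelEllIso E s).symm) (i + 1)
        (subsingleton_HH_tw_of_support k n (E.homology (s + 1)) hcohH (hsupp (s + 1) (by omega)) e (i + 1)
          (by omega))
    have h4 : Subsingleton (Coh.HH (CohB1.ProjSpace n k)
        ((tw n k e).obj (kernel (E.d (s + 1) s))) (i + 1)) :=
      subsingleton_X₂ ((scA E s).map (tw n k e)) (shortExact_map_tw n k e _ (scA_shortExact E s)) (i + 1) h2 h3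
    have h5 : Subsingleton (Coh.HH (CohB1.ProjSpace n k)
        ((tw n k e).obj (Abelian.coimage (E.d (s + 1) s))) i) :=
      subsingleton_X₃ ((kerSC (E.d (s + 1) s)).map (tw n k e))
        (shortExact_map_tw n k e _ (kerSC_shortExact (E.d (s + 1) s))) i h1 h4
    exact subsingleton_HH_of_iso ((tw n k e).mapIso (Abelian.coimageIsoImage (E.d (s + 1) s))) i h5

include hbdd hcoh hreg hsupp in
theorem isMRegular_image (s : ℕ) :
    Curv2.IsMRegular k n (Abelian.image (E.d (s + 1) s)) (d + s + 1) :=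
  isMRegular_image_aux E t hbdd hcoh d hreg hsupp t s (by omega)

include hbdd hcoh hreg hsupp in
theorem isMRegular_cokernel : Curv2.IsMRegular k n (cokernel (E.d 1 0)) d := by
  haveI hP : IsNoetherian (CohB1.ProjSpace n k) :=
    Groth.Agent.Lib.T2H5.QProjRes.isNoetherian_projSpace k n
  haveI : IsLocallyNoetherian (CohB1.ProjSpace n k) := hP.toIsLocallyNoetherian
  intro i hi hin
  have hIm := isMRegular_image E t hbdd hcoh d hreg hsupp 0
  have hcohIm : Coh.IsCoh (Abelian.image (E.d (0 + 1) 0)) :=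
    isCoh_kernel (cokernel.π (E.d (0 + 1) 0)) (hcoh 0) (isCoh_cokernel (E.d (0 + 1) 0) (hcoh (0 + 1)) (hcoh 0))
  haveI := (hcoh 0).1
  haveI := hcohIm.1
  have h1 : Subsingleton (Coh.HH (CohB1.ProjSpace n k) ((tw n k (d - i)).obj (E.X 0)) i) :=
    subsingleton_HH_of_isMRegular k n (E.X 0) (d + (0 : ℕ)) (hreg 0) i hi (d - i) (by push_cast; ring)
  have h2 : Subsingleton (Coh.HH (CohB1.ProjSpace n k)
      ((tw n k (d - i)).obj (Abelian.image (E.d (0 + 1) 0))) (i + 1)) :=
    subsingleton_HH_of_isMRegular k n _ (d + (0 : ℕ) + 1) hIm (i + 1) (by omega) (d - i)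
      (by push_cast; ring)
  exact subsingleton_X₃ ((cokerSC (E.d (0 + 1) 0)).map (tw n k (d - i)))
    (shortExact_map_tw n k (d - i) _ (cokerSC_shortExact (E.d (0 + 1) 0))) i h1 h2

end Cx

end Groth.Agent.Lib.T2H6.RegCx
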