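import Groth.Agent.Lib.T2H9ProjPt2
import Groth.Agent.Lib.Helper10IntDim
import Groth.Agent.Lib.Helper27ProjDim
import Groth.Agent.Lib.Helper27ProjSpaceZero

/-!
# T2H9ProjPt3 (helper9): a scheme finite over `P^n_k` (`k` infinite) of dimension `d` is finite and surjective over `P^d_k`
-/

set_option autoImplicit false
set_option linter.unusedSectionVars false
set_option linter.unusedVariables false
set_option linter.style.haveILetI false
universe u

open CategoryTheory CategoryTheory.Limits AlgebraicGeometry TopologicalSpace Opposite MvPolynomial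

namespace Groth.Agent.Lib.T2H9.ProjPt

variable (k : Type u) [Field k]

theorem dim_projSpace (n : ℕ) : topologicalKrullDim (CohB1.ProjSpace n k) = (n : WithBot ℕ∞) :=
  Groth.Agent.Lib.Helper27ProjDim.main k n

theorem subsingleton_projSpace_zero : Subsingleton (CohB1.ProjSpace 0 k) := by
  haveI : IsIso (CohB1.ProjSpace.toSpec 0 k) := Groth.Agent.Lib.Helper27ProjSpaceSurj.isIso_toSpec k
  have hinj : Function.Injective (CohB1.ProjSpace.toSpec 0 k) :=
    (Scheme.homeoOfIso (asIso (CohB1.ProjSpace.toSpec 0 k))).injective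
  haveI : Subsingleton (Spec (CommRingCat.of k)) :=
    inferInstanceAs (Subsingleton (PrimeSpectrum k))
  exact hinj.subsingleton

/-- **projective Noether normalisation by linear projections** -/
theorem exists_finite_surjective [Infinite k] : ∀ (n : ℕ) {X : Scheme.{u}}
    (ι : X ⟶ CohB1.ProjSpace n k) [IsFinite ι] (d : ℕ)
    (hd : topologicalKrullDim X = (d : WithBot ℕ∞)),
    ∃ ρ : X ⟶ CohB1.ProjSpace d k,
      ρ ≫ CohB1.ProjSpace.toSpec d k = ι ≫ CohB1.ProjSpace.toSpec n k ∧ IsFinite ρ ∧
      Function.Surjective ρ ∧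
      Nonempty ((Scheme.Modules.pullback ρ).obj (Twist.twistProjSpace d k 1) ≅
        (Scheme.Modules.pullback ι).obj (Twist.twistProjSpace n k 1)) := by
  intro n
  induction n with
  | zero =>
    intro X ι _ d hd
    have hne : Nonempty X := by
      by_contra hcon
      rw [not_nonempty_iff] at hcon
      have h0 : topologicalKrullDim X = ⊥ := by
        unfold topologicalKrullDim
        haveI : IsEmpty (TopologicalSpace.IrreducibleCloseds X) :=
          ⟨fun Z => isEmptyElim Z.2.nonempty.some⟩
        exact Order.krullDim_eq_bot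
      rw [h0] at hd
      exact WithBot.bot_ne_coe hd
    have hsurj : Function.Surjective ι := by
      intro y
      obtain ⟨x⟩ := hne
      haveI := subsingleton_projSpace_zero k
      exact ⟨x, Subsingleton.elim _ _⟩
    have h1 := (Groth.Agent.Lib.Helper10.IntDim.main9683 ι).2 ⟨hsurj⟩
    rw [hd, dim_projSpace] at h1
    have h2 : d = 0 := by exact_mod_cast h1
    subst h2
    exact ⟨ι, rfl, inferInstance, hsurj, ⟨Iso.refl _⟩⟩
  | succ n ih =>
    intro X ι _ d hd
    by_cases hsurj : Function.Surjective ι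
    · have h1 := (Groth.Agent.Lib.Helper10.IntDim.main9683 ι).2 ⟨hsurj⟩
      rw [hd, dim_projSpace] at h1
      have h2 : d = n + 1 := by exact_mod_cast h1
      subst h2
      exact ⟨ι, rfl, inferInstance, hsurj, ⟨Iso.refl _⟩⟩
    · have hZ : IsClosed (Set.range ι) := ι.isClosedMap.isClosed_range
      have hne : Set.range ι ≠ Set.univ := fun h => hsurj (Set.range_eq_univ.1 h)
      obtain ⟨a, -, ha⟩ := exists_point (k := k) (n := n) (Set.range ι) hZ hne
      have hmiss : ∀ x : X, ∃ i, lform k n a i ∉
          (show ProjectiveSpectrum (CohB1.polyGrading (n + 1) k) from ι x).asHomogeneousIdeal := by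
        intro x
        by_contra hcon
        push Not at hcon
        exact ha (ι x) hcon ⟨x, rfl⟩
      obtain ⟨ρ₁, hρ₁, hfin, ⟨e₁⟩⟩ := step k n ι a hmiss
      obtain ⟨ρ, hρ, hρfin, hρs, ⟨e⟩⟩ := ih ρ₁ d hd
      exact ⟨ρ, hρ.trans hρ₁, hρfin, hρs, ⟨e ≪≫ e₁⟩⟩

end Groth.Agent.Lib.T2H9.ProjPt
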