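import Mathlib
import Groth.Agent.Lib.T2H6RegCx
import Groth.Agent.Lib.T2H6AmpleCrit
import Groth.Agent.Lib.T2H6ParShC
import Groth.Agent.Lib.T2H6Snapper
import Groth.Agent.Lib.T2H9ProjPt3
import Groth.Agent.Lib.T2H6PnIntegral
import Groth.Agent.Lib.T1H3ClSubSeq
import Groth.Agent.Lib.Helper20IdealModSec
import Groth.Agent.Lib.T2H5EulerPn
import Groth.Agent.Lib.T2H6ExtDualC
import Groth.Agent.Lib.T2H6FieldBC2

/-!
# Cohomology of `O_X(n)` for `X ⊆ P^N` with ideal module `O(-k)` (helper6)

Namespace `Groth.Agent.Lib.T2H6.HypCoh`.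

* `subsingleton_HH_tw_of_support_lt` : Grothendieck vanishing above the dimension of the support.
* `finrank_H0_twist`, `finrank_Htop_twist` : the dimensions of `H^0(P^N, O(m))`, `H^N(P^N, O(m))`.
* `ideal_ne_bot_of_iso`, `dim_support_quotMod_lt` : if the ideal module of `I` is invertible the
  support of `O/I` has dimension `< N`.
-/

set_option autoImplicit false
set_option linter.style.haveILetI false
set_option linter.unusedSectionVars false
set_option linter.unusedVariables false
universe u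
open CategoryTheory CategoryTheory.Limits AlgebraicGeometry TopologicalSpace

namespace Groth.Agent.Lib.T2H6.HypCoh

open Groth.Agent.Lib.T2H5.Twist Groth.Agent.Lib.T2H5.HHSub Groth.Agent.Lib.T2H5.Chevalley
  Groth.Agent.Lib.T2H5.GenIsoB Groth.Agent.Lib.Helper23.SecTw Groth.Agent.Lib.Helper6

variable (k : Type u) [Field k] (n : ℕ)

/-- a coherent module on `P^n` has no cohomology above the dimension of its support, after any
twist. -/
theorem subsingleton_HH_tw_of_support_lt (H : (CohB1.ProjSpace n k).Modules) (hH : Coh.IsCoh H)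
    (p : ℕ) (hs : topologicalKrullDim (CohB1.support H) < (p : WithBot ℕ∞)) (d : ℤ) :
    Subsingleton (Coh.HH (CohB1.ProjSpace n k) ((tw n k d).obj H) p) := by
  haveI hP : IsNoetherian (CohB1.ProjSpace n k) :=
    Groth.Agent.Lib.T2H5.QProjRes.isNoetherian_projSpace k n
  haveI : NoetherianSpace (CohB1.ProjSpace n k) := inferInstance
  have hcl : IsClosed (CohB1.support H) := Groth.Agent.Lib.T2H5.Devissage.isClosed_support H hH
  let U : (CohB1.ProjSpace n k).Opens := ⟨(CohB1.support H)ᶜ, hcl.isOpen_compl⟩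
  refine Groth.Agent.Lib.T2H6.GVSupp.subsingleton_HH_of_stalk (CohB1.ProjSpace n k) _ U ?_ p ?_
  · intro x hx
    by_contra hne
    have h1 : x ∈ CohB1.support ((tw n k d).obj H) := hne
    exact hx (Groth.Agent.Lib.T2H5.Dim0.support_tensorMod_subset H _ h1)
  · have hU : ((U : Set (CohB1.ProjSpace n k))ᶜ : Set (CohB1.ProjSpace n k)) = CohB1.support H :=
      compl_compl _
    rw [hU]
    exact hs

/-- `h⁰(P^n, O(m)) = C(m + n, n)`. -/
theorem finrank_H0_twist (hn : 1 ≤ n) (m : ℤ) :
    Module.finrank k (Coh.HH (CohB1.ProjSpace n k) (Twist.twistProjSpace n k m) 0) =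
      Nat.choose (m + n).toNat n := by
  by_cases hm : 0 ≤ m
  · obtain ⟨j, rfl⟩ := Int.eq_ofNat_of_zero_le hm
    obtain ⟨e⟩ := Groth.Agent.Lib.Helper27PnSections.nonempty_linearEquiv n k j
    rw [e.finrank_eq, Groth.Agent.Lib.T2H5.EulerPn.finrank_homogeneousSubmodule]
    congr 1
  · have := Groth.Agent.Lib.T2H5.PnVanish.subsingleton_HH_twist n k m 0 (fun h => hm h.2)
      (fun h => by omega)
    rw [Module.finrank_zero_of_subsingleton, Nat.choose_eq_zero_of_lt]
    omega

/-- `hⁿ(P^n, O(m)) = C(-m - 1, n)`. -/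
theorem finrank_Htop_twist (hn : 1 ≤ n) (m : ℤ) :
    Module.finrank k (Coh.HH (CohB1.ProjSpace n k) (Twist.twistProjSpace n k m) n) =
      Nat.choose (-m - 1).toNat n := by
  by_cases hm : m ≤ -((n : ℤ) + 1)
  · obtain ⟨j, hj⟩ := Int.eq_ofNat_of_zero_le (show 0 ≤ -m - n - 1 by omega)
    have hm' : m = -((n : ℤ) + 1 + j) := by omega
    subst hm'
    obtain ⟨e⟩ := Groth.Agent.Lib.T2H5.EulerPn.nonempty_linearEquiv_top_homogeneous k n j
    rw [e.finrank_eq, Groth.Agent.Lib.T2H5.EulerPn.finrank_homogeneousSubmodule]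
    congr 1
    omega
  · have := Groth.Agent.Lib.T2H5.PnVanish.subsingleton_HH_twist n k m n (fun h => by omega)
      (fun h => hm h.2)
    rw [Module.finrank_zero_of_subsingleton, Nat.choose_eq_zero_of_lt]
    omega

section Ideal

variable {k n}
variable (I : (CohB1.ProjSpace n k).IdealSheafData)

/-- if the ideal module of `I` is invertible then `I ≠ ⊥`. -/
theorem ideal_ne_bot_of_iso (L : (CohB1.ProjSpace n k).Modules) (hL : PicF.IsInvertible L)
    (e : ClSub.idealMod I ≅ L) : I ≠ ⊥ := by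
  intro hI
  haveI : IsIntegral (CohB1.ProjSpace n k) := inferInstance
  obtain ⟨y⟩ := (inferInstance : Nonempty (CohB1.ProjSpace n k))
  obtain ⟨W, g, hyW, hg⟩ := exists_gen L hL y
  obtain ⟨_, ⟨V, hV, rfl⟩, hyV, hVW⟩ :=
    (CohB1.ProjSpace n k).isBasis_affineOpens.exists_subset_of_mem_open hyW W.isOpen
  have hgV := hg.mono hVW
  haveI : Nonempty V := ⟨⟨y, hyV⟩⟩
  haveI : Nontrivial Γ(CohB1.ProjSpace n k, V) := inferInstance
  -- the generator is nonzero
  have hne : res L hVW g ≠ 0 := by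
    intro h0
    have h1 := (hgV V le_rfl).1 (a₁ := (1 : Γ(CohB1.ProjSpace n k, V))) (a₂ := 0)
      (by simp only [h0, res_zero, smul_zero])
    exact one_ne_zero h1
  set j : Γ(ClSub.idealMod I, V) := e.inv.app V (res L hVW g) with hj
  have hjne : j ≠ 0 := by
    intro h0
    apply hne
    have h2 : e.hom.app V j = res L hVW g := by
      rw [hj]
      have : (e.inv ≫ e.hom).app V (res L hVW g) = res L hVW g := by
        rw [e.inv_hom_id]; rfl
      exact this
    rw [← h2, h0, map_zero]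
  have hιne : (ClSub.idealModι I).app V j ≠ 0 := by
    intro h0
    apply hjne
    apply Groth.Agent.Lib.Helper20.IdealModSec.ι_injective I V
    rw [h0, map_zero]
  have hmem := (Groth.Agent.Lib.T1H3.ClSubSeq.toSubscheme_app_eq_zero_iff I hV
    ((ClSub.idealModι I).app V j)).mp (Groth.Agent.Lib.Helper20.IdealModSec.ι_toSubscheme I V j)
  have hbot : I.ideal ⟨V, hV⟩ = ⊥ := by rw [hI]; rfl
  rw [hbot] at hmem
  exact hιne hmem

end Ideal

end Groth.Agent.Lib.T2H6.HypCoh
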