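import Mathlib
import Groth.Agent.Lib.T2H6HypCohA
import Groth.Agent.Lib.Helper23TensorUnit

/-!
# Cohomology of `O_X(n)` for `X ⊆ P^N` with ideal module `O(-k)`, continued (helper6)

* `dim_support_quotMod_lt` : if the ideal module of `I` is invertible the support of `O/I` has
  dimension `< N`.
* `twSC I m` : the sequence `0 → I(m) → O(m) → (O/I)(m) → 0`, with `isoX₁`, `isoX₂`.
-/

set_option autoImplicit false
set_option linter.style.haveILetI false
set_option linter.unusedSectionVars false
set_option linter.unusedVariables false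
universe u
open CategoryTheory CategoryTheory.Limits AlgebraicGeometry TopologicalSpace

namespace Groth.Agent.Lib.T2H6.HypCoh

open Groth.Agent.Lib.T2H5.Twist Groth.Agent.Lib.T2H5.HHSub Groth.Agent.Lib.T2H5.Chevalley
  Groth.Agent.Lib.T2H5.GenIsoB Groth.Agent.Lib.Helper23.SecTw Groth.Agent.Lib.Helper6
  Groth.Agent.Lib.T2H6.AmpleCrit

variable {k : Type u} [Field k] {n : ℕ}
variable (I : (CohB1.ProjSpace n k).IdealSheafData)

theorem dim_support_quotMod_lt (L : (CohB1.ProjSpace n k).Modules) (hL : PicF.IsInvertible L)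
    (e : ClSub.idealMod I ≅ L) :
    topologicalKrullDim (CohB1.support (ClSub.quotMod I)) < (n : WithBot ℕ∞) := by
  haveI : IsIntegral (CohB1.ProjSpace n k) := inferInstance
  have hne : I ≠ ⊥ := ideal_ne_bot_of_iso I L hL e
  have hsupp : (I.support : Set (CohB1.ProjSpace n k)) ≠ Set.univ := by
    intro h
    apply hne
    rw [← Scheme.IdealSheafData.support_eq_top_iff]
    exact SetLike.coe_injective h
  have h1 := Groth.Agent.Lib.T2H6.Snapper.topologicalKrullDim_add_one_le
    (I.support : Set (CohB1.ProjSpace n k)) Set.univ I.support.isClosed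
    (IrreducibleSpace.isIrreducible_univ _) (Set.subset_univ _) hsupp
  have h2 : topologicalKrullDim (Set.univ : Set (CohB1.ProjSpace n k)) = (n : WithBot ℕ∞) := by
    rw [← Groth.Agent.Lib.T2H9.ProjPt.dim_projSpace k n]
    exact (IsHomeomorph.topologicalKrullDim_eq _
      (Homeomorph.Set.univ (CohB1.ProjSpace n k)).isHomeomorph)
  rw [h2] at h1
  have h3 : topologicalKrullDim (CohB1.support (ClSub.quotMod I)) ≤
      topologicalKrullDim (I.support : Set (CohB1.ProjSpace n k)) :=
    (Topology.IsEmbedding.inclusion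
      (Groth.Agent.Lib.T2H6.ParShC.support_quotMod_subset I)).isInducing.topologicalKrullDim_le
  have h4 : topologicalKrullDim (CohB1.support (ClSub.quotMod I)) + 1 ≤ (n : WithBot ℕ∞) :=
    le_trans (add_le_add_left h3 1) h1
  -- from `a + 1 ≤ n` to `a < n`
  rcases h : topologicalKrullDim (CohB1.support (ClSub.quotMod I)) with _ | a
  · exact WithBot.bot_lt_coe _
  · rw [h] at h4
    have h5 : ((a + 1 : ℕ∞) : WithBot ℕ∞) ≤ ((n : ℕ∞) : WithBot ℕ∞) := h4
    rw [WithBot.coe_le_coe] at h5
    have h6 : a < (n : ℕ∞) := by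
      have hfin : a ≠ ⊤ := by
        intro ht
        rw [ht] at h5
        simp at h5
      exact lt_of_lt_of_le (ENat.lt_add_one_iff hfin |>.mpr le_rfl) h5
    exact WithBot.coe_lt_coe.mpr h6

variable (k n) in
/-- the twisted ideal sequence `0 → I(m) → O(m) → (O/I)(m) → 0`. -/
noncomputable def twSC (m : ℤ) : ShortComplex (CohB1.ProjSpace n k).Modules :=
  (idealSC I).map (tw n k m)

theorem twSC_shortExact (m : ℤ) : (twSC k n I m).ShortExact :=
  shortExact_map_tw n k m (idealSC I) (idealSC_shortExact I)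

theorem twSC_X₃ (m : ℤ) : (twSC k n I m).X₃ =
    CohB1.tensorMod (ClSub.quotMod I) (Twist.twistProjSpace n k m) := rfl

/-- `O ⊗ O(m) ≅ O(m)`. -/
noncomputable def isoX₂ (m : ℤ) : (twSC k n I m).X₂ ≅ Twist.twistProjSpace n k m :=
  Groth.Agent.Lib.Helper23.TensorUnit.unitTensorIso _

/-- `I ⊗ O(m) ≅ O(m - c)` if `I ≅ O(-c)`. -/
noncomputable def isoX₁ (c : ℤ) (e : ClSub.idealMod I ≅ Twist.twistProjSpace n k (-c)) (m : ℤ) :
    (twSC k n I m).X₁ ≅ Twist.twistProjSpace n k (m - c) :=
  (tw n k m).mapIso e ≪≫ (nonempty_twist_tensor_iso n k (-c) m (m - c) (by omega)).some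

end Groth.Agent.Lib.T2H6.HypCoh
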