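import Mathlib
import Groth.Agent.Lib.T2H6HypCohB
import Groth.Agent.Lib.T2H5PnFinite
import Groth.Agent.Lib.T2H6TensorDeg
import Groth.Agent.Lib.T2H5Devissage

/-!
# Cohomology of `O_X(n)` for `X ⊆ P^N` with ideal module `O(-c)`: the computations (helper6)

With `S = twSC k n I m : 0 → I(m) → O(m) → (O/I)(m) → 0` and `I ≅ O(-c)`:

* `subsingleton_HH_quot_of_ge`, `subsingleton_HH_quot_mid` : vanishing of `H^p((O/I)(m))` for
  `p ≥ n` and for `0 < p < n - 1`.
* `finrank_HH_quot_zero`, `finrank_HH_quot_top` : for `n ≥ 2` the dimensions of `H^0` and `H^{n-1}`.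
* `finrank_HH_quot_P1` : the case `n = 1`.
-/

set_option autoImplicit false
set_option linter.style.haveILetI false
set_option linter.unusedSectionVars false
set_option linter.unusedVariables false
universe u
open CategoryTheory CategoryTheory.Limits AlgebraicGeometry TopologicalSpace

namespace Groth.Agent.Lib.T2H6.HypCoh

open Groth.Agent.Lib.T2H5.Twist Groth.Agent.Lib.T2H5.HHSub Groth.Agent.Lib.T2H5.Chevalley
  Groth.Agent.Lib.T2H5.GenIsoB Groth.Agent.Lib.Helper23.SecTw Groth.Agent.Lib.Helper6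
  Groth.Agent.Lib.T2H6.AmpleCrit Groth.Agent.Lib.T2H6.ExtDual Groth.Agent.Lib.T2H5.HHLes

variable {k : Type u} [Field k] {n : ℕ}
variable (I : (CohB1.ProjSpace n k).IdealSheafData) (c : ℤ)
  (e : ClSub.idealMod I ≅ Twist.twistProjSpace n k (-c)) (m : ℤ)

include e in
theorem subsingleton_HH_X₁ (p : ℕ) (h₀ : ¬ (p = 0 ∧ 0 ≤ m - c))
    (hn : ¬ (p = n ∧ m - c ≤ -((n : ℤ) + 1))) :
    Subsingleton (Coh.HH (CohB1.ProjSpace n k) (twSC k n I m).X₁ p) :=
  subsingleton_HH_of_iso (isoX₁ I c e m).symm p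
    (Groth.Agent.Lib.T2H5.PnVanish.subsingleton_HH_twist n k (m - c) p h₀ hn)

theorem subsingleton_HH_X₂ (p : ℕ) (h₀ : ¬ (p = 0 ∧ 0 ≤ m))
    (hn : ¬ (p = n ∧ m ≤ -((n : ℤ) + 1))) :
    Subsingleton (Coh.HH (CohB1.ProjSpace n k) (twSC k n I m).X₂ p) :=
  subsingleton_HH_of_iso (isoX₂ I m).symm p
    (Groth.Agent.Lib.T2H5.PnVanish.subsingleton_HH_twist n k m p h₀ hn)

theorem isCoh_X₃ : Coh.IsCoh (twSC k n I m).X₃ :=
  Groth.Agent.Lib.T2H6.TensorDeg.isCoh_tensor _ _ (Groth.Agent.Lib.T2H6.ParShC.isCoh_quotMod I)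
    (Groth.Agent.Lib.T2H5.PnFinite.isCoh_twist n k m)

theorem finite_HH_X₃ (p : ℕ) :
    Module.Finite k (Coh.HH (CohB1.ProjSpace n k) (twSC k n I m).X₃ p) :=
  Groth.Agent.Lib.T2H5.PnFinite.finite_HH n k _ (isCoh_X₃ I m) p

include e in
theorem finite_HH_X₁ (p : ℕ) :
    Module.Finite k (Coh.HH (CohB1.ProjSpace n k) (twSC k n I m).X₁ p) :=
  Groth.Agent.Lib.T2H5.PnFinite.finite_HH n k _
    (Groth.Agent.Lib.T2H5.Devissage.isCoh_of_iso (isoX₁ I c e m).symm
      (Groth.Agent.Lib.T2H5.PnFinite.isCoh_twist n k (m - c))) p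

theorem finite_HH_X₂ (p : ℕ) :
    Module.Finite k (Coh.HH (CohB1.ProjSpace n k) (twSC k n I m).X₂ p) :=
  Groth.Agent.Lib.T2H5.PnFinite.finite_HH n k _
    (Groth.Agent.Lib.T2H5.Devissage.isCoh_of_iso (isoX₂ I m).symm
      (Groth.Agent.Lib.T2H5.PnFinite.isCoh_twist n k m)) p

include e in
/-- `H^p((O/I)(m)) = 0` for `p ≥ n`. -/
theorem subsingleton_HH_quot_of_ge (p : ℕ) (hp : n ≤ p) :
    Subsingleton (Coh.HH (CohB1.ProjSpace n k) (twSC k n I m).X₃ p) := by
  refine subsingleton_HH_tw_of_support_lt k n (ClSub.quotMod I)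
    (Groth.Agent.Lib.T2H6.ParShC.isCoh_quotMod I) p ?_ m
  refine lt_of_lt_of_le (dim_support_quotMod_lt I _ (isInvertible_twist n k (-c)) e) ?_
  exact_mod_cast hp

include e in
/-- `H^p((O/I)(m)) = 0` for `0 < p < n - 1`. -/
theorem subsingleton_HH_quot_mid (p : ℕ) (hp : 0 < p) (hpn : p + 1 < n) :
    Subsingleton (Coh.HH (CohB1.ProjSpace n k) (twSC k n I m).X₃ p) :=
  subsingleton_X₃ _ (twSC_shortExact I m) p
    (subsingleton_HH_X₂ I m p (fun h => by omega) (fun h => by omega))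
    (subsingleton_HH_X₁ I c e m (p + 1) (fun h => by omega) (fun h => by omega))

include e in
/-- `h⁰((O/I)(m)) = h⁰(O(m)) - h⁰(O(m - c))` for `n ≥ 2`. -/
theorem finrank_HH_quot_zero (hn : 2 ≤ n) :
    Module.finrank k (Coh.HH (CohB1.ProjSpace n k) (twSC k n I m).X₃ 0) =
      Nat.choose (m + n).toNat n - Nat.choose (m - c + n).toNat n := by
  have h := finrank_HH_three k (twSC k n I m) (twSC_shortExact I m)
    (subsingleton_HH_X₁ I c e m 1 (fun h => by omega) (fun h => by omega)) (finite_HH_X₂ I m 0)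
  rw [Groth.Agent.Lib.T2H6.FieldBC.finrank_HH_eq_of_iso k _ (isoX₂ I m) 0,
    Groth.Agent.Lib.T2H6.FieldBC.finrank_HH_eq_of_iso k _ (isoX₁ I c e m) 0,
    finrank_H0_twist k n (by omega), finrank_H0_twist k n (by omega)] at h
  omega

include e in
/-- `h^{n-1}((O/I)(m)) = hⁿ(O(m - c)) - hⁿ(O(m))` for `n ≥ 2`. -/
theorem finrank_HH_quot_top (j : ℕ) (hj : 1 ≤ j) (hn : n = j + 1) :
    Module.finrank k (Coh.HH (CohB1.ProjSpace n k) (twSC k n I m).X₃ j) =
      Nat.choose (-(m - c) - 1).toNat n - Nat.choose (-m - 1).toNat n := by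
  haveI := finite_HH_X₁ I c e m (j + 1)
  haveI := finite_HH_X₂ I m (j + 1)
  have h := finrank_HH_four k (twSC k n I m) (twSC_shortExact I m) j
    (subsingleton_HH_X₂ I m j (fun h => by omega) (fun h => by omega))
    (subsingleton_HH_X₁ I c e m (j + 1 + 1) (fun h => by omega) (fun h => by omega))
    inferInstance inferInstance
  haveI := subsingleton_HH_quot_of_ge I c e m (j + 1) (by omega)
  rw [Module.finrank_zero_of_subsingleton (M := Coh.HH (CohB1.ProjSpace n k) (twSC k n I m).X₃ (j + 1)),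
    Groth.Agent.Lib.T2H6.FieldBC.finrank_HH_eq_of_iso k _ (isoX₂ I m) (j + 1),
    Groth.Agent.Lib.T2H6.FieldBC.finrank_HH_eq_of_iso k _ (isoX₁ I c e m) (j + 1)] at h
  rw [← hn] at h
  rw [finrank_Htop_twist k n (by omega), finrank_Htop_twist k n (by omega)] at h
  omega

end Groth.Agent.Lib.T2H6.HypCoh
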