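import Mathlib
import Groth.Agent.Lib.T2H6HypCohC

/-!
# Cohomology of `O_X(n)` for `X ⊆ P^1` with ideal module `O(-c)` (helper6)

* `finrank_HH_six` : dimension count in the six term exact sequence
  `0 → H⁰(X₁) → H⁰(X₂) → H⁰(X₃) → H¹(X₁) → H¹(X₂) → H¹(X₃) = 0`.
* `finrank_HH_quot_P1`.
-/

set_option autoImplicit false
set_option linter.style.haveILetI false
set_option linter.unusedSectionVars false
set_option linter.unusedVariables false
universe u
open CategoryTheory CategoryTheory.Limits AlgebraicGeometry TopologicalSpace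

namespace Groth.Agent.Lib.T2H6.HypCoh

open Groth.Agent.Lib.T2H5.Twist Groth.Agent.Lib.T2H5.HHSub Groth.Agent.Lib.T2H5.Chevalley
  Groth.Agent.Lib.T2H5.GenIsoB Groth.Agent.Lib.Helper23.SecTw Groth.Agent.Lib.Helper6
  Groth.Agent.Lib.T2H6.AmpleCrit Groth.Agent.Lib.T2H6.ExtDual Groth.Agent.Lib.T2H5.HHLes

section Six

variable (k : Type u) [Field k] {X : Scheme.{u}} [X.Over (Spec (CommRingCat.of k))]

theorem finrank_HH_six (S : ShortComplex X.Modules) (hS : S.ShortExact)
    (h3 : Subsingleton (Coh.HH X S.X₃ 1))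
    [Module.Finite k (Coh.HH X S.X₂ 0)] [Module.Finite k (Coh.HH X S.X₃ 0)]
    [Module.Finite k (Coh.HH X S.X₁ 1)] :
    Module.finrank k (Coh.HH X S.X₃ 0) + Module.finrank k (Coh.HH X S.X₁ 0) +
        Module.finrank k (Coh.HH X S.X₂ 1) =
      Module.finrank k (Coh.HH X S.X₂ 0) + Module.finrank k (Coh.HH X S.X₁ 1) := by
  have hδ := LinearMap.finrank_range_add_finrank_ker (δLin (A := k) S hS 0)
  have hb := LinearMap.finrank_range_add_finrank_ker (Canon.HHlin k S.g 0)
  have hc := LinearMap.finrank_range_add_finrank_ker (Canon.HHlin k S.f 1)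
  rw [exact₃ (A := k) S hS 0] at hδ
  rw [exact₂ k S hS 0, LinearMap.finrank_range_of_inj (HHlin_f_injective_zero k S hS)] at hb
  rw [show LinearMap.ker (Canon.HHlin k S.f 1) = LinearMap.range (δLin (A := k) S hS 0) from
    exact₁ k S hS 0] at hc
  have hsurj : LinearMap.range (Canon.HHlin k S.f 1) = ⊤ := by
    rw [← exact₂ k S hS 1, LinearMap.ker_eq_top]
    exact Subsingleton.elim _ _
  rw [hsurj, finrank_top] at hc
  linarith

end Six

variable {k : Type u} [Field k]
variable (I : (CohB1.ProjSpace 1 k).IdealSheafData) (c : ℤ)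
  (e : ClSub.idealMod I ≅ Twist.twistProjSpace 1 k (-c)) (m : ℤ)

include e in
/-- on `P^1`: `h⁰((O/I)(m)) = (h⁰(O(m)) - h⁰(O(m-c))) + (h¹(O(m-c)) - h¹(O(m)))`. -/
theorem finrank_HH_quot_P1 :
    Module.finrank k (Coh.HH (CohB1.ProjSpace 1 k) (twSC k 1 I m).X₃ 0) =
      (Nat.choose (m + 1).toNat 1 - Nat.choose (m - c + 1).toNat 1) +
      (Nat.choose (-(m - c) - 1).toNat 1 - Nat.choose (-m - 1).toNat 1) := by
  haveI := finite_HH_X₂ I m 0
  haveI := finite_HH_X₃ I m 0
  haveI := finite_HH_X₁ I c e m 1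
  have h := finrank_HH_six k (twSC k 1 I m) (twSC_shortExact I m)
    (subsingleton_HH_quot_of_ge I c e m 1 le_rfl)
  -- injectivity and surjectivity give the inequalities needed for the natural subtraction
  have hinj := LinearMap.finrank_le_finrank_of_injective (HHlin_f_injective_zero k (twSC k 1 I m)
    (twSC_shortExact I m))
  have hsurj : Function.Surjective (Canon.HHlin k (twSC k 1 I m).f 1) := by
    rw [← LinearMap.range_eq_top, ← exact₂ k (twSC k 1 I m) (twSC_shortExact I m) 1,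
      LinearMap.ker_eq_top]
    haveI := subsingleton_HH_quot_of_ge I c e m 1 le_rfl
    exact Subsingleton.elim _ _
  have hsur := LinearMap.finrank_le_finrank_of_surjective hsurj  -- placeholder name
  rw [Groth.Agent.Lib.T2H6.FieldBC.finrank_HH_eq_of_iso k _ (isoX₂ I m) 0,
    Groth.Agent.Lib.T2H6.FieldBC.finrank_HH_eq_of_iso k _ (isoX₁ I c e m) 0,
    Groth.Agent.Lib.T2H6.FieldBC.finrank_HH_eq_of_iso k _ (isoX₂ I m) 1,
    Groth.Agent.Lib.T2H6.FieldBC.finrank_HH_eq_of_iso k _ (isoX₁ I c e m) 1,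
    finrank_H0_twist k 1 le_rfl, finrank_H0_twist k 1 le_rfl,
    finrank_Htop_twist k 1 le_rfl, finrank_Htop_twist k 1 le_rfl] at h
  rw [Groth.Agent.Lib.T2H6.FieldBC.finrank_HH_eq_of_iso k _ (isoX₂ I m) 0,
    Groth.Agent.Lib.T2H6.FieldBC.finrank_HH_eq_of_iso k _ (isoX₁ I c e m) 0,
    finrank_H0_twist k 1 le_rfl, finrank_H0_twist k 1 le_rfl] at hinj
  rw [Groth.Agent.Lib.T2H6.FieldBC.finrank_HH_eq_of_iso k _ (isoX₂ I m) 1,
    Groth.Agent.Lib.T2H6.FieldBC.finrank_HH_eq_of_iso k _ (isoX₁ I c e m) 1,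
    finrank_Htop_twist k 1 le_rfl, finrank_Htop_twist k 1 le_rfl] at hsur
  push_cast at h hinj hsur ⊢
  omega

end Groth.Agent.Lib.T2H6.HypCoh
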