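import Mathlib
import Groth.Agent.Lib.T2H6HypBridgeC
import Groth.Agent.Lib.T2H6HypCohD
import Groth.Agent.Lib.T2H6TensorDegGen
import Groth.Agent.Lib.T2H6ConnH1
import Groth.Agent.Lib.Helper18UT12
import Groth.Agent.Lib.Helper27ProjGamma2
import Groth.Agent.S0028

/-!
# Hypersurfaces of `P^r_k`: the zero form, transfer of cohomology (helper6)

* `hypIdeal_zero` : `LefPen.hypIdeal 0 = ⊥`.
* `subsingleton_HH_subscheme_iff` : `H^p(V(I), O) = 0 ↔ H^p(P, O/I) = 0`.
* `subsingleton_HH_quotMod_bot`, `structure sheaf cohomology of a hypersurface`.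
-/

set_option autoImplicit false
set_option linter.style.haveILetI false
set_option linter.unusedSectionVars false
universe u

open CategoryTheory CategoryTheory.Limits AlgebraicGeometry TopologicalSpace Opposite
  HomogeneousLocalization

namespace Groth.Agent.Lib.T2H6.HypBridge

open Groth.Agent.Lib.Helper23.SecTw Groth.Agent.Lib.Helper6 Groth.Agent.Lib.Helper23.GenLocus
  Groth.Agent.Lib.Helper27GrTildeSect Groth.Agent.Lib.T2H3.ZeroScheme

variable {r : ℕ} {k : Type u} [Field k]

theorem dehom_zero (d : ℕ) (i : Fin (r + 1)) : LefPen.dehom (0 : LefPen.Form r k d) i = 0 := by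
  unfold LefPen.dehom
  have h : HomogeneousLocalization.Away.mk (CohB1.polyGrading r k) (LefPen.X_mem r k i) d
      ((0 : LefPen.Form r k d) : MvPolynomial (Fin (r + 1)) k)
      (by rw [smul_eq_mul, mul_one]; exact (0 : LefPen.Form r k d).2) = 0 := by
    apply HomogeneousLocalization.val_injective
    rw [HomogeneousLocalization.Away.val_mk, HomogeneousLocalization.val_zero]
    simp only [ZeroMemClass.coe_zero]
    exact Localization.mk_zero _
  rw [h]
  exact map_zero _

theorem hypIdeal_zero (d : ℕ) : LefPen.hypIdeal (0 : LefPen.Form r k d) = ⊥ := by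
  rw [hypIdeal_eq_zeroScheme]
  refine Scheme.IdealSheafData.ext_of_iSup_eq_top
    (fun i : Fin (r + 1) => (⟨LefPen.chart r k i, isAffineOpen_chart i⟩ :
      (CohB1.ProjSpace r k).affineOpens)) iSup_chart (fun i => ?_)
  rw [ideal_zeroScheme_of_le_chart _ i ⟨_, isAffineOpen_chart i⟩ le_rfl, resf_self', dehom_zero]
  simp

end Groth.Agent.Lib.T2H6.HypBridge

namespace Groth.Agent.Lib.T2H6.HypBridge

open Groth.Agent.Lib.Helper23.SecTw Groth.Agent.Lib.Helper6 Groth.Agent.Lib.T2H6.AmpleCrit
  Groth.Agent.Lib.Helper23.GenLocus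

section General

variable (k : Type u) [Field k] {P : Scheme.{u}} [P.Over (Spec (CommRingCat.of k))]
  (I : P.IdealSheafData)

include k in
/-- if `H^1(P, I) = 0` then `Γ(P, O) → Γ(V(I), O)` is surjective. -/
theorem surjective_subschemeι_appTop (h1 : Subsingleton (Coh.HH P (ClSub.idealMod I) 1)) :
    Function.Surjective I.subschemeι.appTop.hom := by
  have hb := Groth.Agent.Lib.T2H6.ConnH1.surjective_toSubscheme_app_top k I h1
  intro c
  obtain ⟨a, ha⟩ := hb (toS (I.subschemeι ⁻¹ᵁ ⊤) c)
  refine ⟨ofS ⊤ a, ?_⟩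
  have h2 := toSubscheme_app I ⊤ (ofS ⊤ a)
  rw [toS_ofS, ha] at h2
  exact (congrArg (ofS _) h2).symm

/-- the cohomology of the structure sheaf of `V(I)` is the cohomology of `O/I`. -/
theorem nonempty_HH_quotMod_linearEquiv (p : ℕ) :
    letI : I.subscheme.Over (Spec (CommRingCat.of k)) :=
      ⟨I.subschemeι ≫ (P ↘ Spec (CommRingCat.of k))⟩
    Nonempty (Coh.HH P (ClSub.quotMod I) p ≃ₗ[k]
      Coh.HH I.subscheme (Coh.structureModule I.subscheme) p) := by
  letI : I.subscheme.Over (Spec (CommRingCat.of k)) :=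
    ⟨I.subschemeι ≫ (P ↘ Spec (CommRingCat.of k))⟩
  haveI : (Coh.structureModule I.subscheme).IsQuasicoherent :=
    Groth.Agent.Lib.Helper23.Serre.isQuasicoherent_structureModule' _
  exact Groth.Agent.Lib.T2H5.T2Lin.nonempty_linearEquiv I.subschemeι k rfl
    (Coh.structureModule I.subscheme)
    (fun q => Groth.Agent.S0028.result I.subschemeι (Coh.structureModule I.subscheme) (q + 1)
      (Nat.succ_pos q)) p

include k in
/-- if `H^0(V(I), O) ≠ 0` then `V(I)` is nonempty. -/
theorem nonempty_subscheme_of_not_subsingleton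
    (h : ¬ Subsingleton (Coh.HH P (ClSub.quotMod I) 0)) : Nonempty ↥I.subscheme := by
  by_contra hne
  rw [not_nonempty_iff] at hne
  apply h
  obtain ⟨e⟩ := nonempty_HH_quotMod_linearEquiv k I 0
  haveI : Subsingleton ↑((Coh.toAb (Coh.structureModule I.subscheme)).obj.obj (Opposite.op ⊤)) :=
    (inferInstance : Subsingleton Γ(I.subscheme, ⊤))
  have hsub : Subsingleton (Coh.HH I.subscheme (Coh.structureModule I.subscheme) 0) :=
    (Groth.Agent.Lib.Helper27PnSections.hh0Equiv I.subscheme
      (Coh.structureModule I.subscheme)).injective.subsingleton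
  exact e.injective.subsingleton

end General

end Groth.Agent.Lib.T2H6.HypBridge
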