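import Mathlib
import Groth.Agent.Lib.T2H6HypBridgeD
import Groth.Agent.Lib.T2H6CIAlgC
import Groth.Agent.Lib.Helper7Dim
import Groth.Agent.Lib.Helper27ProjDim

/-!
# Complete intersections in projective space: from the dimension to `IsCI` (helper6)

* `mem_support_hypIdeal_iff`: a point of `P^n` lies on `V_+(G)` iff `G` lies in its homogeneous prime.
* `mem_support_ciIdeal_iff`
* `length_le_of_dim`: the chains of points of `V_+(G_1, …, G_r)` are bounded by the dimension of the subscheme.
* `isCI_of_dim`: `dim V_+(G_1, …, G_r) = n - r` implies `IsCI G`.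
-/

set_option autoImplicit false
set_option linter.style.haveILetI false
set_option linter.unusedSectionVars false
universe u

open CategoryTheory CategoryTheory.Limits AlgebraicGeometry TopologicalSpace Opposite
  HomogeneousLocalization

namespace Groth.Agent.Lib.T2H6.CIDim

open Groth.Agent.Lib.Helper23.SecTw Groth.Agent.Lib.Helper6 Groth.Agent.Lib.Helper23.GenLocus
  Groth.Agent.Lib.Helper27GrTildeSect Groth.Agent.Lib.T2H3.ZeroScheme
  Groth.Agent.Lib.T2H6.HypBridge Groth.Agent.Lib.T2H6.CIAlg

variable {n : ℕ} {k : Type u} [Field k]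

/-- the homogeneous prime of a point of projective space. -/
def toPS (y : ↥(CohB1.ProjSpace n k)) : ProjectiveSpectrum (CohB1.polyGrading n k) := y

/-- the point of projective space of a homogeneous prime. -/
def ofPS (y : ProjectiveSpectrum (CohB1.polyGrading n k)) : ↥(CohB1.ProjSpace n k) := y

theorem mem_chart_iff (i : Fin (n + 1)) (y : ↥(CohB1.ProjSpace n k)) :
    y ∈ LefPen.chart n k i ↔
      (MvPolynomial.X i : MvPolynomial (Fin (n + 1)) k) ∉ (toPS y).asHomogeneousIdeal :=
  ProjectiveSpectrum.mem_basicOpen (CohB1.polyGrading n k) _ (toPS y)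

theorem exists_mem_chart (y : ↥(CohB1.ProjSpace n k)) : ∃ i, y ∈ LefPen.chart n k i := by
  have h : y ∈ (⨆ i, LefPen.chart n k i : (CohB1.ProjSpace n k).Opens) := by
    rw [iSup_chart]
    trivial
  exact Opens.mem_iSup.mp h

theorem mem_basicOpen_dehom_iff {d : ℕ} (G : LefPen.Form n k d) (i : Fin (n + 1))
    (y : ↥(CohB1.ProjSpace n k)) :
    y ∈ (CohB1.ProjSpace n k).basicOpen (LefPen.dehom G i) ↔
      (G : MvPolynomial (Fin (n + 1)) k) * MvPolynomial.X i ∉ (toPS y).asHomogeneousIdeal :=
  mem_basicOpen_awayToSection_iff (𝒜 := CohB1.polyGrading n k) (LefPen.X_mem n k i) d G.1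
    (by rw [smul_eq_mul, mul_one]; exact G.2) (toPS y)

/-- a point of `P^n` lies on `V_+(G)` iff `G` lies in its homogeneous prime. -/
theorem mem_support_hypIdeal_iff {d : ℕ} (G : LefPen.Form n k d) (y : ↥(CohB1.ProjSpace n k)) :
    y ∈ (LefPen.hypIdeal G).support ↔
      (G : MvPolynomial (Fin (n + 1)) k) ∈ (toPS y).asHomogeneousIdeal := by
  obtain ⟨i, hi⟩ := exists_mem_chart y
  rw [hypIdeal_eq_zeroScheme,
    Groth.Agent.Lib.T2H6.NegVan.mem_support_zeroScheme_iff (Twist.twistProjSpace n k (d : ℤ))
      (Groth.Agent.Lib.T2H5.Twist.isInvertible_twist n k (d : ℤ)) (formHom G)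
      (isGen_chartFrame i d) (sv_formHom_chart G i) y hi,
    mem_basicOpen_dehom_iff, not_not]
  have hX := (mem_chart_iff i y).mp hi
  constructor
  · intro h
    exact ((toPS y).isPrime.mem_or_mem h).resolve_right hX
  · intro h
    exact Ideal.mul_mem_right _ _ h

theorem mem_support_ciIdeal_iff {r : ℕ} {a : Fin r → ℕ} (G : ∀ j, LefPen.Form n k (a j))
    (y : ↥(CohB1.ProjSpace n k)) :
    y ∈ (LefPen.ciIdeal G).support ↔
      ∀ j, (G j : MvPolynomial (Fin (n + 1)) k) ∈ (toPS y).asHomogeneousIdeal := by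
  unfold LefPen.ciIdeal
  rw [Scheme.IdealSheafData.support_iSup]
  simp only [Closeds.mem_iInf, mem_support_hypIdeal_iff]


theorem nat_le_of_cast_le (a b : ℕ) (h : (a : WithBot ℕ∞) ≤ (b : WithBot ℕ∞)) : a ≤ b :=
  Nat.cast_le.mp h

section Chains

attribute [local instance] specializationOrder

/-- the chains of points of `V_+(G_1, …, G_r)` are bounded by the dimension of the subscheme. -/
theorem length_le_of_dim {r : ℕ} {a : Fin r → ℕ} (G : ∀ j, LefPen.Form n k (a j)) (d : ℕ)
    (hdim : topologicalKrullDim ↥(LefPen.ciIdeal G).subscheme ≤ ((d : ℕ) : WithBot ℕ∞))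
    (p : LTSeries (ProjectiveSpectrum (CohB1.polyGrading n k)))
    (hp : ∀ j, (G j : MvPolynomial (Fin (n + 1)) k) ∈ p.head.asHomogeneousIdeal.toIdeal) :
    p.length ≤ d := by
  have hex : ∀ m : Fin (p.length + 1), ∃ z : ↥(LefPen.ciIdeal G).subscheme,
      (LefPen.ciIdeal G).subschemeι z = ofPS (p m) := by
    intro m
    have hm : ofPS (p m) ∈ (LefPen.ciIdeal G).support := by
      rw [mem_support_ciIdeal_iff]
      intro j
      exact (LTSeries.head_le p m) (hp j)
    have hr := Scheme.IdealSheafData.range_subschemeι (LefPen.ciIdeal G)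
    have : ofPS (p m) ∈ Set.range (LefPen.ciIdeal G).subschemeι := by
      rw [hr]
      exact hm
    exact this
  choose z hz using hex
  have hind : Topology.IsInducing (LefPen.ciIdeal G).subschemeι :=
    (LefPen.ciIdeal G).subschemeι.isClosedEmbedding.isInducing
  have hspec : ∀ m m' : Fin (p.length + 1), p m ≤ p m' → z m ⤳ z m' := by
    intro m m' hle
    rw [← hind.specializes_iff, hz, hz]
    exact (Groth.Agent.Lib.Helper27ProjDim.specializes_iff_le (CohB1.polyGrading n k) (p m) (p m')).mpr hle
  let q : LTSeries (↥(LefPen.ciIdeal G).subscheme)ᵒᵈ :=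
    { length := p.length
      toFun := fun m => OrderDual.toDual (z m)
      step := by
        intro m
        change z m.succ < z m.castSucc
        rw [Groth.Agent.Lib.Helper7.specializationOrder_lt_iff]
        refine ⟨hspec _ _ (p.step m).le, ?_⟩
        intro heq
        have h1 : p m.succ = p m.castSucc := by
          have h2 := congrArg (fun w => toPS ((LefPen.ciIdeal G).subschemeι w)) heq
          simp only [hz] at h2
          exact h2
        exact (p.step m).ne h1.symm }
  have h1 := Order.LTSeries.length_le_krullDim q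
  rw [Order.krullDim_orderDual, ← Groth.Agent.Lib.Helper7.topologicalKrullDim_eq_krullDim_points] at h1
  exact nat_le_of_cast_le _ _ (h1.trans hdim)

end Chains

/-- `dim V_+(G_1, …, G_r) ≤ n - r` implies that `G` is a complete intersection in the sense of `IsCI`. -/
theorem isCI_of_dim {r : ℕ} (hr : r ≤ n) {a : Fin r → ℕ} (ha : ∀ j, 1 ≤ a j)
    (G : ∀ j, LefPen.Form n k (a j))
    (hdim : topologicalKrullDim ↥(LefPen.ciIdeal G).subscheme ≤ ((n - r : ℕ) : WithBot ℕ∞)) :
    IsCI k n (fun j => (G j : MvPolynomial (Fin (n + 1)) k)) :=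
  isCI_of_forall_length_le k n hr a ha _ (fun j => (G j).2)
    (fun p hp => length_le_of_dim G (n - r) hdim p hp)

end Groth.Agent.Lib.T2H6.CIDim
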