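import Mathlib
import Groth.Agent.Lib.T2H6CIDimA

/-!
# Complete intersections in projective space: regularity on affine opens of the charts (helper6)

* `mem_map_of_mul_mem_map_of_flat`: non-zero-divisors modulo an ideal are preserved by flat base change.
* `chartHom i : k[T_j, j ≠ i] →+* Γ(P^n, D_+(T_i))`, bijective, sending dehomogenisations to `LefPen.dehom`.
* `mem_span_of_dehom_mul_mem_chart`, `mem_span_of_resf_dehom_mul_mem`: for a complete intersection
  `G_0, …, G_r`, the function `G_r / T_i^d` is a non-zero-divisor modulo the `G_j / T_i^{d_j}`, `j < r`, on every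
  affine open of `D_+(T_i)`.
-/

set_option autoImplicit false
set_option linter.style.haveILetI false
set_option linter.unusedSectionVars false
universe u

open CategoryTheory CategoryTheory.Limits AlgebraicGeometry TopologicalSpace Opposite
  HomogeneousLocalization TensorProduct

namespace Groth.Agent.Lib.T2H6.CIDim

open Groth.Agent.Lib.Helper23.SecTw Groth.Agent.Lib.Helper6 Groth.Agent.Lib.Helper23.GenLocus
  Groth.Agent.Lib.Helper27GrTildeSect Groth.Agent.Lib.T2H3.ZeroScheme
  Groth.Agent.Lib.T2H6.HypBridge Groth.Agent.Lib.T2H6.CIAlg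

section Flat

/-- non-zero-divisors modulo an ideal are preserved by flat base change. -/
theorem mem_map_of_mul_mem_map_of_flat {A A' : Type u} [CommRing A] [CommRing A'] [Algebra A A']
    [Module.Flat A A'] (I : Ideal A) (y : A) (h : ∀ a, y * a ∈ I → a ∈ I) (a' : A')
    (ha' : algebraMap A A' y * a' ∈ I.map (algebraMap A A')) : a' ∈ I.map (algebraMap A A') := by
  let f : (A ⧸ I) →ₗ[A] (A ⧸ I) := LinearMap.lsmul A (A ⧸ I) y
  have hf : Function.Injective f := by
    rw [injective_iff_map_eq_zero]
    intro x hx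
    obtain ⟨a, rfl⟩ := Ideal.Quotient.mk_surjective x
    have h1 : (Ideal.Quotient.mk I) (y * a) = 0 := by
      rw [map_mul]
      exact hx
    exact Ideal.Quotient.eq_zero_iff_mem.mpr (h a (Ideal.Quotient.eq_zero_iff_mem.mp h1))
  have hinj := Module.Flat.lTensor_preserves_injective_linearMap (M := A') f hf
  have hmem : ∀ z : A', z ∈ I.map (algebraMap A A') ↔
      (Submodule.Quotient.mk z : A' ⧸ (I • ⊤ : Submodule A A')) = 0 := by
    intro z
    rw [Submodule.Quotient.mk_eq_zero, Ideal.smul_top_eq_map]
    rfl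
  rw [hmem] at ha' ⊢
  apply (TensorProduct.tensorQuotEquivQuotSMul A' I).symm.injective
  rw [map_zero, TensorProduct.tensorQuotEquivQuotSMul_symm_mk]
  apply hinj
  rw [map_zero, LinearMap.lTensor_tmul]
  have h1 : f 1 = y • (1 : A ⧸ I) := rfl
  rw [h1, TensorProduct.tmul_smul, TensorProduct.smul_tmul']
  have h2 : (Submodule.Quotient.mk (y • a') : A' ⧸ (I • ⊤ : Submodule A A')) = 0 := by
    have h0 : y • a' = algebraMap A A' y * a' := Algebra.smul_def y a'
    rw [h0]
    exact ha'
  have h3 := congrArg (TensorProduct.tensorQuotEquivQuotSMul A' I).symm h2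
  rw [TensorProduct.tensorQuotEquivQuotSMul_symm_mk, map_zero] at h3
  exact h3

end Flat


variable {n : ℕ} {k : Type u} [Field k]

section Chart

open Groth.Agent.Lib.Helper27PnChart

variable (i : Fin (n + 1))

theorem chart_dehom {d : ℕ} (G : LefPen.Form n k d) :
    chart n k i (dehom n k i (G : MvPolynomial (Fin (n + 1)) k)) =
      HomogeneousLocalization.Away.mk (CohB1.polyGrading n k) (LefPen.X_mem n k i) d G.1
        (by rw [smul_eq_mul, mul_one]; exact G.2) := by
  apply (Function.LeftInverse.injective (g := chart n k i) (f := back n k i) ?_)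
  · rw [back_chart]
    unfold back
    rw [RingHom.comp_apply, HomogeneousLocalization.algebraMap_apply, Away.val_mk, locTo_mk]
  · intro z
    obtain ⟨p, rfl⟩ := chart_surjective n k i z
    rw [back_chart]

/-- the chart isomorphism `k[T_j, j ≠ i] ≃ Γ(P^n, D_+(T_i))`. -/
noncomputable def chartHom :
    MvPolynomial {j : Fin (n + 1) // j ≠ i} k →+* Γ(CohB1.ProjSpace n k, LefPen.chart n k i) :=
  (Proj.awayToSection (CohB1.polyGrading n k) (MvPolynomial.X i)).hom.comp (chart n k i)

theorem chartHom_bijective : Function.Bijective (chartHom (k := k) i) := by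
  have hiso : IsIso (Proj.awayToSection (CohB1.polyGrading n k) (MvPolynomial.X i)) := by
    have := (Proj.basicOpenIsoAway (CohB1.polyGrading n k) (MvPolynomial.X i)
      (LefPen.X_mem n k i) one_pos).isIso_hom
    rwa [Proj.basicOpenIsoAway_hom] at this
  have hbij : Function.Bijective
      (Proj.awayToSection (CohB1.polyGrading n k) (MvPolynomial.X i)).hom :=
    ConcreteCategory.bijective_of_isIso _
  exact hbij.comp (chart_bijective n k i)

theorem chartHom_dehom {d : ℕ} (G : LefPen.Form n k d) :
    chartHom i (dehom n k i (G : MvPolynomial (Fin (n + 1)) k)) = LefPen.dehom G i :=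
  congrArg (Proj.awayToSection (CohB1.polyGrading n k) (MvPolynomial.X i)).hom (chart_dehom i G)

end Chart


theorem flat_resf {X : Scheme.{u}} {U V : X.Opens} (hU : IsAffineOpen U) (hV : IsAffineOpen V)
    (h : V ≤ U) : (X.presheaf.map (homOfLE h).op).hom.Flat := by
  have h1 := Scheme.Hom.flat_appLE (𝟙 X) hU hV (show V ≤ (𝟙 X) ⁻¹ᵁ U from h)
  have e : Scheme.Hom.appLE (𝟙 X) U V h = X.presheaf.map (homOfLE h).op := by
    simp only [Scheme.Hom.appLE, Scheme.Hom.id_app]
    exact Category.id_comp _
  rwa [e] at h1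

section Reg

open Groth.Agent.Lib.Helper27PnChart

variable {r : ℕ} {a : Fin (r + 1) → ℕ} (G : ∀ j, LefPen.Form n k (a j))
  (hCI : IsCI k n (fun j => (G j : MvPolynomial (Fin (n + 1)) k)))

include hCI in
/-- for a complete intersection `G_0, …, G_r`, the function `G_r / T_i^d` is a non-zero-divisor modulo the
`G_j / T_i^{d_j}`, `j < r`, on `D_+(T_i)`. -/
theorem mem_span_of_dehom_mul_mem_chart (i : Fin (n + 1))
    (b : Γ(CohB1.ProjSpace n k, LefPen.chart n k i))
    (hb : LefPen.dehom (G (Fin.last r)) i * b ∈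
      Ideal.span (Set.range fun j : Fin r => LefPen.dehom (G j.castSucc) i)) :
    b ∈ Ideal.span (Set.range fun j : Fin r => LefPen.dehom (G j.castSucc) i) := by
  let e := RingEquiv.ofBijective (chartHom (k := k) i) (chartHom_bijective i)
  have hspan : Ideal.span (Set.range fun j : Fin r => LefPen.dehom (G j.castSucc) i) =
      Ideal.map e (Ideal.span (Set.range fun j : Fin r =>
        dehom n k i (G j.castSucc : MvPolynomial (Fin (n + 1)) k))) := by
    rw [Ideal.map_span, ← Set.range_comp]
    congr 2
    funext j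
    exact (chartHom_dehom i (G j.castSucc)).symm
  rw [hspan] at hb ⊢
  obtain ⟨b', rfl⟩ := e.surjective b
  have h1 : LefPen.dehom (G (Fin.last r)) i =
      e (dehom n k i (G (Fin.last r) : MvPolynomial (Fin (n + 1)) k)) :=
    (chartHom_dehom i _).symm
  rw [h1, ← map_mul, Ideal.mem_map_of_equiv] at hb
  obtain ⟨x, hx, hxe⟩ := hb
  rw [e.injective hxe] at hx
  exact Ideal.mem_map_of_mem _
    (mem_span_of_dehom_mul_mem k n i (fun j => (G j : MvPolynomial (Fin (n + 1)) k))
      (fun j => ⟨a j, (G j).2⟩) hCI b' hx)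

include hCI in
/-- the same on an affine open of `D_+(T_i)`. -/
theorem mem_span_of_resf_dehom_mul_mem (i : Fin (n + 1)) {W : (CohB1.ProjSpace n k).Opens}
    (hWa : IsAffineOpen W) (hW : W ≤ LefPen.chart n k i) (b : Γ(CohB1.ProjSpace n k, W))
    (hb : resf hW (LefPen.dehom (G (Fin.last r)) i) * b ∈
      Ideal.span (Set.range fun j : Fin r => resf hW (LefPen.dehom (G j.castSucc) i))) :
    b ∈ Ideal.span (Set.range fun j : Fin r => resf hW (LefPen.dehom (G j.castSucc) i)) := by
  let φ : Γ(CohB1.ProjSpace n k, LefPen.chart n k i) →+* Γ(CohB1.ProjSpace n k, W) :=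
    ((CohB1.ProjSpace n k).presheaf.map (homOfLE hW).op).hom
  have hflat : φ.Flat := flat_resf (isAffineOpen_chart i) hWa hW
  letI : Algebra Γ(CohB1.ProjSpace n k, LefPen.chart n k i) Γ(CohB1.ProjSpace n k, W) := φ.toAlgebra
  haveI : Module.Flat Γ(CohB1.ProjSpace n k, LefPen.chart n k i) Γ(CohB1.ProjSpace n k, W) := hflat
  have hspan : Ideal.span (Set.range fun j : Fin r => resf hW (LefPen.dehom (G j.castSucc) i)) =
      Ideal.map (algebraMap Γ(CohB1.ProjSpace n k, LefPen.chart n k i) Γ(CohB1.ProjSpace n k, W))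
        (Ideal.span (Set.range fun j : Fin r => LefPen.dehom (G j.castSucc) i)) := by
    rw [Ideal.map_span, ← Set.range_comp]
    rfl
  rw [hspan] at hb ⊢
  exact mem_map_of_mul_mem_map_of_flat _ (LefPen.dehom (G (Fin.last r)) i)
    (fun c hc => mem_span_of_dehom_mul_mem_chart G hCI i c hc) b hb

end Reg

end Groth.Agent.Lib.T2H6.CIDim
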