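import Mathlib
import Groth.Agent.Lib.T2H6CIDimA
import Groth.Agent.Lib.Helper27ProjHypConn

/-!
# Complete intersections in projective space are equidimensional (helper6)

* `le_dim_of_chain` : a chain of points of `P^n` starting at a point of a closed subset `Z` of `V_+(G_1, …, G_r)`
  bounds the dimension of `Z` from below.
* `topologicalKrullDim_irreducibleComponent` : every irreducible component of a complete intersection of dimension
  `n - r` has dimension `n - r`.
-/

set_option autoImplicit false
set_option linter.style.haveILetI false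
set_option linter.unusedSectionVars false
universe u

open CategoryTheory CategoryTheory.Limits AlgebraicGeometry TopologicalSpace Opposite
  HomogeneousLocalization

namespace Groth.Agent.Lib.T2H6.CIEqui

open Groth.Agent.Lib.T2H6.HypBridge Groth.Agent.Lib.T2H6.CIAlg Groth.Agent.Lib.T2H6.CIDim

variable {n : ℕ} {k : Type u} [Field k]

/-- a chain of strict specializations bounds the Krull dimension from below. -/
theorem le_dim_of_specializes {T : Type*} [TopologicalSpace T] [T0Space T] (l : ℕ)
    (w : Fin (l + 1) → T) (h1 : ∀ m : Fin l, w m.castSucc ⤳ w m.succ)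
    (h2 : ∀ m : Fin l, w m.castSucc ≠ w m.succ) : (l : WithBot ℕ∞) ≤ topologicalKrullDim T := by
  let c : Fin (l + 1) → IrreducibleCloseds T := fun m =>
    { carrier := closure {w m}
      isIrreducible' := isIrreducible_singleton.closure
      isClosed' := isClosed_closure }
  let q : LTSeries (IrreducibleCloseds T)ᵒᵈ :=
    { length := l
      toFun := fun m => OrderDual.toDual (c m)
      step := by
        intro m
        change c m.succ < c m.castSucc
        rw [lt_iff_le_and_ne]
        constructor
        · change closure {w m.succ} ⊆ closure {w m.castSucc}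
          exact closure_minimal (Set.singleton_subset_iff.mpr (h1 m).mem_closure) isClosed_closure
        · intro heq
          have h3 : closure {w m.succ} = closure {w m.castSucc} :=
            congrArg (fun Z : IrreducibleCloseds T => (Z : Set T)) heq
          have h4 : w m.castSucc ∈ closure {w m.succ} := by
            rw [h3]
            exact subset_closure (Set.mem_singleton _)
          have h5 : w m.succ ⤳ w m.castSucc := specializes_iff_mem_closure.mpr h4
          exact h2 m ((h1 m).antisymm h5).eq }
  have h := Order.LTSeries.length_le_krullDim q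
  rw [Order.krullDim_orderDual] at h
  exact h

/-- a chain of points of `P^n` starting at a point of a closed subset `Z` of `V_+(G_1, …, G_r)` bounds the dimension
of `Z` from below. -/
theorem le_dim_of_chain {r : ℕ} {a : Fin r → ℕ} (G : ∀ j, LefPen.Form n k (a j))
    (Z : Set ↥(LefPen.ciIdeal G).subscheme) (hZ : IsClosed Z)
    (p : LTSeries (ProjectiveSpectrum (CohB1.polyGrading n k)))
    (ξ : ↥(LefPen.ciIdeal G).subscheme) (hξZ : ξ ∈ Z)
    (hξ : (LefPen.ciIdeal G).subschemeι ξ = ofPS p.head) :
    (p.length : WithBot ℕ∞) ≤ topologicalKrullDim ↥Z := by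
  have hξsupp : ofPS p.head ∈ (LefPen.ciIdeal G).support := by
    rw [← hξ, ← SetLike.mem_coe, ← Scheme.IdealSheafData.range_subschemeι]
    exact ⟨ξ, rfl⟩
  have hp : ∀ j, (G j : MvPolynomial (Fin (n + 1)) k) ∈ p.head.asHomogeneousIdeal.toIdeal :=
    (mem_support_ciIdeal_iff G _).mp hξsupp
  have hex : ∀ m : Fin (p.length + 1), ∃ z : ↥(LefPen.ciIdeal G).subscheme,
      (LefPen.ciIdeal G).subschemeι z = ofPS (p m) := by
    intro m
    have hm : ofPS (p m) ∈ (LefPen.ciIdeal G).support := by
      rw [mem_support_ciIdeal_iff]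
      intro j
      exact (LTSeries.head_le p m) (hp j)
    have hr := Scheme.IdealSheafData.range_subschemeι (LefPen.ciIdeal G)
    have : ofPS (p m) ∈ Set.range (LefPen.ciIdeal G).subschemeι := by
      rw [hr]
      exact hm
    exact this
  choose z hz using hex
  have hind : Topology.IsInducing (LefPen.ciIdeal G).subschemeι :=
    (LefPen.ciIdeal G).subschemeι.isClosedEmbedding.isInducing
  have hspec : ∀ m m' : Fin (p.length + 1), p m ≤ p m' → z m ⤳ z m' := by
    intro m m' hle
    rw [← hind.specializes_iff, hz, hz]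
    exact (Groth.Agent.Lib.Helper27ProjDim.specializes_iff_le (CohB1.polyGrading n k) (p m)
      (p m')).mpr hle
  have hξz : ∀ m, ξ ⤳ z m := by
    intro m
    rw [← hind.specializes_iff, hz, hξ]
    exact (Groth.Agent.Lib.Helper27ProjDim.specializes_iff_le (CohB1.polyGrading n k) p.head
      (p m)).mpr (LTSeries.head_le p m)
  have hzZ : ∀ m, z m ∈ Z := fun m => (hξz m).mem_closed hZ hξZ
  refine le_dim_of_specializes p.length (fun m => (⟨z m, hzZ m⟩ : ↥Z)) ?_ ?_
  · intro m
    rw [← Topology.IsInducing.subtypeVal.specializes_iff]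
    exact hspec _ _ (p.step m).le
  · intro m heq
    have heq' : z m.castSucc = z m.succ := congrArg Subtype.val heq
    have h1 : p m.castSucc = p m.succ := by
      have h2 := congrArg (fun w => toPS ((LefPen.ciIdeal G).subschemeι w)) heq'
      simp only [hz] at h2
      exact h2
    exact (p.step m).ne h1

/-- **every irreducible component of a complete intersection of dimension `n - r` in `P^n_k` has dimension
`n - r`.** -/
theorem topologicalKrullDim_irreducibleComponent {r : ℕ} (hr : r ≤ n) {a : Fin r → ℕ}
    (G : ∀ j, LefPen.Form n k (a j))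
    (hdim : topologicalKrullDim ↥(LefPen.ciIdeal G).subscheme = ((n - r : ℕ) : WithBot ℕ∞))
    (Z : Set ↥(LefPen.ciIdeal G).subscheme)
    (hZ : Z ∈ irreducibleComponents ↥(LefPen.ciIdeal G).subscheme) :
    topologicalKrullDim ↥Z = ((n - r : ℕ) : WithBot ℕ∞) := by
  have hZc : IsClosed Z := isClosed_of_mem_irreducibleComponents Z hZ
  have hZi : IsIrreducible Z := hZ.1
  obtain ⟨ξ, hξ⟩ := QuasiSober.sober hZi hZc
  have hind : Topology.IsInducing (LefPen.ciIdeal G).subschemeι :=
    (LefPen.ciIdeal G).subschemeι.isClosedEmbedding.isInducing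
  -- the homogeneous prime of the generic point
  have hξsupp : (LefPen.ciIdeal G).subschemeι ξ ∈ (LefPen.ciIdeal G).support := by
    rw [← SetLike.mem_coe, ← Scheme.IdealSheafData.range_subschemeι]
    exact ⟨ξ, rfl⟩
  have hq := (mem_support_ciIdeal_iff G _).mp hξsupp
  set q := toPS ((LefPen.ciIdeal G).subschemeι ξ) with hqdef
  classical
  obtain ⟨S, hSdef⟩ : ∃ S : Finset (MvPolynomial (Fin (n + 1)) k),
      S = Finset.univ.image (fun j : Fin r => (G j : MvPolynomial (Fin (n + 1)) k)) := ⟨_, rfl⟩
  have hSmem : ∀ x, x ∈ (S : Set (MvPolynomial (Fin (n + 1)) k)) ↔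
      ∃ j : Fin r, (G j : MvPolynomial (Fin (n + 1)) k) = x := by
    intro x
    rw [Finset.mem_coe, hSdef, Finset.mem_image]
    simp
  have hJq : Ideal.span (S : Set (MvPolynomial (Fin (n + 1)) k)) ≤ q.asHomogeneousIdeal.toIdeal := by
    rw [Ideal.span_le]
    intro x hx
    obtain ⟨j, rfl⟩ := (hSmem x).mp hx
    exact hq j
  haveI := q.isPrime
  obtain ⟨q', hq'min, hq'le⟩ := Ideal.exists_minimalPrimes_le hJq
  have hhomJ : (Ideal.span (S : Set (MvPolynomial (Fin (n + 1)) k))).IsHomogeneous
      (CohB1.polyGrading n k) := by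
    refine Ideal.homogeneous_span (CohB1.polyGrading n k) _ ?_
    intro x hx
    obtain ⟨j, rfl⟩ := (hSmem x).mp hx
    exact ⟨a j, (G j).2⟩
  have hhom' : q'.IsHomogeneous (CohB1.polyGrading n k) :=
    Groth.Agent.Lib.Helper27ProjHypConn.isHomogeneous_of_mem_minimalPrimes _ hhomJ hq'min
  have hht : q'.height ≤ (r : ℕ∞) := by
    refine (Ideal.height_le_card_of_mem_minimalPrimes_span_finset hq'min).trans ?_
    have h1 : S.card ≤ r := by
      rw [hSdef]
      refine Finset.card_image_le.trans ?_
      rw [Finset.card_univ, Fintype.card_fin]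
    exact_mod_cast h1
  have hht' : q'.height ≤ (n : ℕ∞) := hht.trans (by exact_mod_cast hr)
  have hsum : q'.height + ((n - r : ℕ) : ℕ∞) ≤ (n : ℕ∞) := by
    calc q'.height + ((n - r : ℕ) : ℕ∞) ≤ (r : ℕ∞) + ((n - r : ℕ) : ℕ∞) := by gcongr
      _ = (n : ℕ∞) := by
          have : r + (n - r) = n := by omega
          exact_mod_cast this
  obtain ⟨c, hcl, hch⟩ := exists_ltSeries k n (n - r) (mkPt k n q' hq'min.1.1 hhom' hht') hsum
  -- the generic point `ξ'` of `V(q')`
  have hP'supp : ofPS (mkPt k n q' hq'min.1.1 hhom' hht') ∈ (LefPen.ciIdeal G).support := by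
    rw [mem_support_ciIdeal_iff]
    intro j
    exact hq'min.1.2 (Ideal.subset_span ((hSmem _).mpr ⟨j, rfl⟩))
  obtain ⟨ξ', hξ'⟩ : ∃ ξ' : ↥(LefPen.ciIdeal G).subscheme,
      (LefPen.ciIdeal G).subschemeι ξ' = ofPS (mkPt k n q' hq'min.1.1 hhom' hht') := by
    have hr' := Scheme.IdealSheafData.range_subschemeι (LefPen.ciIdeal G)
    have : ofPS (mkPt k n q' hq'min.1.1 hhom' hht') ∈
        Set.range (LefPen.ciIdeal G).subschemeι := by
      rw [hr']
      exact hP'supp
    exact this
  have hspec : ξ' ⤳ ξ := by
    rw [← hind.specializes_iff, hξ']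
    exact (Groth.Agent.Lib.Helper27ProjDim.specializes_iff_le (CohB1.polyGrading n k)
      (mkPt k n q' hq'min.1.1 hhom' hht') q).mpr hq'le
  have hξ'Z : ξ' ∈ Z := by
    have h1 : Z ≤ closure {ξ'} := by
      rw [← hξ.def]
      exact closure_minimal (Set.singleton_subset_iff.mpr hspec.mem_closure) isClosed_closure
    exact hZ.2 isIrreducible_singleton.closure h1 (subset_closure (Set.mem_singleton ξ'))
  have hlow := le_dim_of_chain G Z hZc c ξ' hξ'Z (by rw [hch]; exact hξ')
  rw [hcl] at hlow
  have hup : topologicalKrullDim ↥Z ≤ ((n - r : ℕ) : WithBot ℕ∞) := by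
    rw [← hdim]
    exact Topology.IsInducing.subtypeVal.topologicalKrullDim_le
  exact le_antisymm hup hlow

end Groth.Agent.Lib.T2H6.CIEqui
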