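import Mathlib
import Groth.Prelude.Def_Lef
import Groth.Agent.Lib.Helper23SecTw3

/-!
# T2H6LefConnA: sections of `O_U/I`, `Lef.quotMap` on global sections, idempotents via germs (helper6)

Namespace `Groth.Agent.Lib.T2H6.LefConn`.

* `quotMap_app`: `Lef.quotMap h` on global sections is `(inclusion h).app ⊤`.
* `qsec I y`, `qhom I s`: morphisms `O_U ⟶ O_U/I` versus global functions on `V(I)`.
* `idem_eq_of_basicOpen_eq`, `idem_eq_zero_or_one`: idempotent global functions on a scheme are determined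
  by their non-vanishing locus (no quasi-compactness).
-/

set_option autoImplicit false
universe u
open CategoryTheory CategoryTheory.Limits AlgebraicGeometry TopologicalSpace Opposite

namespace Groth.Agent.Lib.T2H6.LefConn

open Groth.Agent.Lib.Helper23.SecTw Groth.Agent.Lib.Helper23.GenLocus

variable {U : Scheme.{u}}

theorem comp3_app {M N P Q : U.Modules} (a : M ⟶ N) (b : N ⟶ P) (c : P ⟶ Q) (x : Γ(M, ⊤)) :
    (a ≫ b ≫ c).app ⊤ x = c.app ⊤ (b.app ⊤ (a.app ⊤ x)) := rfl

theorem quotMap_eq {I J : U.IdealSheafData} (h : I ≤ J) (s : Γ(I.subscheme, ⊤)) :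
    (Lef.quotMap h).app ⊤ (toS (Y := I.subscheme) ⊤ s) =
    ((Scheme.Modules.pushforwardCongr (Scheme.IdealSheafData.inclusion_subschemeι h)).hom.app _).app ⊤
      (((Scheme.Modules.pushforwardComp (Scheme.IdealSheafData.inclusion h) I.subschemeι).hom.app _).app ⊤
        (((Scheme.Modules.pushforward I.subschemeι).map
      (ClSub.unitToPush (Scheme.IdealSheafData.inclusion h))).app ⊤ (toS (Y := I.subscheme) ⊤ s))) :=
  comp3_app _ _ _ _

theorem quotMap_app_A {I J : U.IdealSheafData} (h : I ≤ J) (s : Γ(I.subscheme, ⊤)) :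
    ((Scheme.Modules.pushforward I.subschemeι).map
      (ClSub.unitToPush (Scheme.IdealSheafData.inclusion h))).app ⊤ (toS (Y := I.subscheme) ⊤ s) =
      toS (Y := J.subscheme) ⊤ ((Scheme.IdealSheafData.inclusion h).app ⊤ s) := rfl

theorem quotMap_app_B {I J : U.IdealSheafData} (h : I ≤ J) (s : Γ(J.subscheme, ⊤)) :
    ((Scheme.Modules.pushforwardComp (Scheme.IdealSheafData.inclusion h) I.subschemeι).hom.app
      (Coh.structureModule J.subscheme)).app ⊤ (toS (Y := J.subscheme) ⊤ s) =
      toS (Y := J.subscheme) ⊤ s := rfl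

theorem quotMap_app_C {I J : U.IdealSheafData} (h : I ≤ J) (s : Γ(J.subscheme, ⊤)) :
    ((Scheme.Modules.pushforwardCongr (Scheme.IdealSheafData.inclusion_subschemeι h)).hom.app
      (Coh.structureModule J.subscheme)).app ⊤ (toS (Y := J.subscheme) ⊤ s) =
      toS (Y := J.subscheme) ⊤ s := by
  rw [Scheme.Modules.pushforwardCongr_hom_app_app]
  change (ConcreteCategory.hom ((Coh.structureModule J.subscheme).presheaf.map
    (eqToHom (rfl : (⊤ : J.subscheme.Opens) = ⊤)).op)) (toS ⊤ s) = toS ⊤ s
  rw [eqToHom_refl, op_id, CategoryTheory.Functor.map_id]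
  rfl

/-- `Lef.quotMap h : O_U/I ⟶ O_U/J` on global sections is the restriction of functions along
`V(J) ⟶ V(I)`. -/
theorem quotMap_app {I J : U.IdealSheafData} (h : I ≤ J) (s : Γ(I.subscheme, ⊤)) :
    (Lef.quotMap h).app ⊤ (toS (Y := I.subscheme) ⊤ s) =
      toS (Y := J.subscheme) ⊤ ((Scheme.IdealSheafData.inclusion h).app ⊤ s) :=
  (quotMap_eq h s).trans
    ((congrArg (fun z => ((Scheme.Modules.pushforwardCongr
        (Scheme.IdealSheafData.inclusion_subschemeι h)).hom.app
          (Coh.structureModule J.subscheme)).app ⊤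
        (((Scheme.Modules.pushforwardComp (Scheme.IdealSheafData.inclusion h) I.subschemeι).hom.app
          (Coh.structureModule J.subscheme)).app ⊤ z)) (quotMap_app_A h s)).trans
      ((congrArg (fun z => ((Scheme.Modules.pushforwardCongr
        (Scheme.IdealSheafData.inclusion_subschemeι h)).hom.app
          (Coh.structureModule J.subscheme)).app ⊤ z) (quotMap_app_B h _)).trans
        (quotMap_app_C h _)))

theorem sv_comp {M N : U.Modules} (φ : Coh.structureModule U ⟶ M) (ψ : M ⟶ N) (W : U.Opens) :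
    sv (φ ≫ ψ) W = ψ.app W (sv φ W) := rfl

theorem toSubscheme_app (I : U.IdealSheafData) (W : U.Opens) (r : Γ(U, W)) :
    (ClSub.toSubscheme I).app W (toS W r) =
      toS (Y := I.subscheme) (I.subschemeι ⁻¹ᵁ W) (I.subschemeι.app W r) := rfl

/-- a morphism out of the structure module is determined by the image of `1`. -/
theorem secHom_sv {M : U.Modules} (y : Coh.structureModule U ⟶ M) : secHom M (sv y ⊤) = y := by
  apply M.unitHomEquiv.injective
  unfold secHom
  rw [Equiv.apply_symm_apply]
  apply PresheafOfModules.sections_ext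
  intro W
  exact res_sv y le_top

theorem hom_ext_sv {M : U.Modules} (y y' : Coh.structureModule U ⟶ M) (h : sv y ⊤ = sv y' ⊤) :
    y = y' := by
  rw [← secHom_sv y, ← secHom_sv y', h]

theorem sv_secHom_top (M : U.Modules) (σ : Γ(M, ⊤)) : sv (secHom M σ) ⊤ = σ := by
  rw [sv_secHom]
  change M.presheaf.map (𝟙 _) σ = σ
  rw [CategoryTheory.Functor.map_id]
  rfl

/-- the global function on `V(I)` attached to `y : O_U ⟶ O_U/I`. -/
noncomputable def qsec (I : U.IdealSheafData) (y : Coh.structureModule U ⟶ ClSub.quotMod I) :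
    Γ(I.subscheme, ⊤) := ofS (Y := I.subscheme) ⊤ (sv y ⊤)

/-- the morphism `O_U ⟶ O_U/I` attached to a global function on `V(I)`. -/
noncomputable def qhom (I : U.IdealSheafData) (s : Γ(I.subscheme, ⊤)) :
    Coh.structureModule U ⟶ ClSub.quotMod I :=
  secHom (ClSub.quotMod I) (toS (Y := I.subscheme) ⊤ s)

theorem qsec_qhom (I : U.IdealSheafData) (s : Γ(I.subscheme, ⊤)) : qsec I (qhom I s) = s := by
  unfold qsec qhom
  rw [sv_secHom_top]
  rfl

theorem qsec_injective (I : U.IdealSheafData) : Function.Injective (qsec I) := by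
  intro y y' h
  apply hom_ext_sv
  exact h

/-- the global function attached to an endomorphism of `O_U`. -/
noncomputable def osec (φ : Coh.structureModule U ⟶ Coh.structureModule U) : Γ(U, ⊤) :=
  ofS ⊤ (sv φ ⊤)

/-- the endomorphism of `O_U` attached to a global function. -/
noncomputable def ohom (e : Γ(U, ⊤)) : Coh.structureModule U ⟶ Coh.structureModule U :=
  secHom (Coh.structureModule U) (toS ⊤ e)

theorem osec_ohom (e : Γ(U, ⊤)) : osec (ohom e) = e := by
  unfold osec ohom
  rw [sv_secHom_top]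
  rfl

theorem ohom_osec (φ : Coh.structureModule U ⟶ Coh.structureModule U) : ohom (osec φ) = φ := by
  unfold osec ohom
  exact secHom_sv φ

theorem qsec_comp_toSubscheme (I : U.IdealSheafData)
    (φ : Coh.structureModule U ⟶ Coh.structureModule U) :
    qsec I (φ ≫ ClSub.toSubscheme I) = I.subschemeι.appTop (osec φ) := by
  unfold qsec osec
  rw [sv_comp]
  have h := toSubscheme_app I ⊤ (ofS ⊤ (sv φ ⊤))
  rw [toS_ofS] at h
  rw [h]
  rfl

theorem qsec_comp_quotMap {I J : U.IdealSheafData} (h : I ≤ J)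
    (y : Coh.structureModule U ⟶ ClSub.quotMod I) :
    qsec J (y ≫ Lef.quotMap h) = (Scheme.IdealSheafData.inclusion h).appTop (qsec I y) := by
  unfold qsec
  rw [sv_comp]
  have h1 := quotMap_app h (ofS (Y := I.subscheme) ⊤ (sv y ⊤))
  rw [toS_ofS] at h1
  rw [h1]
  rfl

/-! ### idempotents -/

section idem

variable (Z : Scheme.{u})

theorem germ_idem_eq_one (e : Γ(Z, ⊤)) (he : IsIdempotentElem e) (x : Z)
    (hx : x ∈ Z.basicOpen e) : Z.presheaf.germ ⊤ x trivial e = 1 := by
  rw [Scheme.mem_basicOpen_top] at hx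
  have h1 : Z.presheaf.germ ⊤ x trivial e * Z.presheaf.germ ⊤ x trivial e =
      Z.presheaf.germ ⊤ x trivial e := by
    rw [← map_mul, he.eq]
  have h2 := hx.mul_left_cancel (a := Z.presheaf.germ ⊤ x trivial e) (b := Z.presheaf.germ ⊤ x trivial e) (c := 1)
  apply h2
  rw [h1, mul_one]

theorem germ_idem_eq_zero (e : Γ(Z, ⊤)) (he : IsIdempotentElem e) (x : Z)
    (hx : x ∉ Z.basicOpen e) : Z.presheaf.germ ⊤ x trivial e = 0 := by
  rw [Scheme.mem_basicOpen_top] at hx
  have h1 : Z.presheaf.germ ⊤ x trivial e * (1 - Z.presheaf.germ ⊤ x trivial e) = 0 := by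
    rw [mul_sub, mul_one, ← map_mul, he.eq, sub_self]
  have h2 : IsUnit (1 - Z.presheaf.germ ⊤ x trivial e) := by
    rcases IsLocalRing.isUnit_or_isUnit_one_sub_self (Z.presheaf.germ ⊤ x trivial e) with h | h
    · exact absurd h hx
    · exact h
  exact (h2.mul_left_eq_zero).1 h1

/-- idempotent global functions with the same non-vanishing locus are equal. -/
theorem idem_eq_of_basicOpen_eq (e e' : Γ(Z, ⊤)) (he : IsIdempotentElem e)
    (he' : IsIdempotentElem e') (h : Z.basicOpen e = Z.basicOpen e') : e = e' := by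
  apply TopCat.Presheaf.section_ext Z.sheaf ⊤
  intro x hx
  by_cases hxe : x ∈ Z.basicOpen e
  · have h1 := germ_idem_eq_one Z e he x hxe
    have h2 := germ_idem_eq_one Z e' he' x (h ▸ hxe)
    exact h1.trans h2.symm
  · have h1 := germ_idem_eq_zero Z e he x hxe
    have h2 := germ_idem_eq_zero Z e' he' x (h ▸ hxe)
    exact h1.trans h2.symm

theorem idem_eq_zero_of_basicOpen_eq_bot (e : Γ(Z, ⊤)) (he : IsIdempotentElem e)
    (h : Z.basicOpen e = ⊥) : e = 0 :=
  idem_eq_of_basicOpen_eq Z e 0 he (IsIdempotentElem.zero) (h.trans (Scheme.basicOpen_zero Z ⊤).symm)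

theorem idem_eq_one_of_basicOpen_eq_top (e : Γ(Z, ⊤)) (he : IsIdempotentElem e)
    (h : Z.basicOpen e = ⊤) : e = 1 :=
  idem_eq_of_basicOpen_eq Z e 1 he (IsIdempotentElem.one)
    (h.trans (Scheme.basicOpen_of_isUnit Z isUnit_one).symm)

theorem isClosed_basicOpen_idem (e : Γ(Z, ⊤)) (he : IsIdempotentElem e) :
    IsClosed (Z.basicOpen e : Set Z) := by
  have h1 : (Z.basicOpen e : Set Z) = (Z.basicOpen (1 - e) : Set Z)ᶜ := by
    ext x
    simp only [SetLike.mem_coe, Set.mem_compl_iff]
    constructor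
    · intro hx hx'
      have h2 : x ∈ Z.basicOpen (e * (1 - e)) := by
        rw [Scheme.basicOpen_mul]
        exact ⟨hx, hx'⟩
      rw [mul_sub, mul_one, he.eq, sub_self, Scheme.basicOpen_zero] at h2
      exact h2
    · intro hx
      by_contra hxe
      apply hx
      rw [Scheme.mem_basicOpen_top, map_sub, map_one, germ_idem_eq_zero Z e he x hxe, sub_zero]
      exact isUnit_one
  rw [h1]
  exact (Z.basicOpen (1 - e)).isOpen.isClosed_compl

/-- on a preconnected scheme every idempotent global function is `0` or `1`. -/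
theorem idem_eq_zero_or_one [PreconnectedSpace Z] (e : Γ(Z, ⊤)) (he : IsIdempotentElem e) :
    e = 0 ∨ e = 1 := by
  have hcl : IsClopen (Z.basicOpen e : Set Z) :=
    ⟨isClosed_basicOpen_idem Z e he, (Z.basicOpen e).isOpen⟩
  rcases isClopen_iff.1 hcl with h | h
  · left
    apply idem_eq_zero_of_basicOpen_eq_bot Z e he
    ext x
    simp [h]
  · right
    apply idem_eq_one_of_basicOpen_eq_top Z e he
    ext x
    simp [h]

end idem

end Groth.Agent.Lib.T2H6.LefConn
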