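import Mathlib
import Groth.Agent.Lib.T2H5GlobGenQ
import Groth.Agent.Lib.T2H6LefConnA
import Groth.Agent.Lib.T1H3ClSubSeq
import Groth.Agent.Lib.T2H6NegVanE
import Groth.Agent.Lib.Helper13ModBasis
import Groth.Agent.Lib.Helper18OmLS15
import Groth.Agent.Lib.Helper2RelTildeExact
import Groth.Agent.Lib.Helper23Serre
import Groth.Agent.Lib.T2H3ZeroScheme
set_option backward.isDefEq.respectTransparency.types false

/-!
# The Koszul step sequence `0 → O/I ⊗ O → O/I ⊗ L → O/(I + Z(s)) ⊗ L → 0` (helper6)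

For an invertible module `L` with a section `s`, an ideal sheaf `I` and `I' = I ⊔ Z(s)`:

* `koszulSC I L s`: the complex `O/I ⊗ O ⟶ O/I ⊗ L ⟶ O/I' ⊗ L` (multiplication by `s`, then the quotient map).
* `koszulSC_exact`, `epi_koszulSC_g`: it is right exact.
* `mono_koszulSC_f`: it is left exact as soon as, on a basis of affine opens trivialising `L`, the coefficient of
  `s` is a non-zero-divisor modulo `I`.
-/

set_option autoImplicit false
set_option linter.style.haveILetI false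
set_option linter.unusedSectionVars false
universe u

open CategoryTheory CategoryTheory.Limits AlgebraicGeometry TopologicalSpace Opposite MonoidalCategory

namespace Groth.Agent.Lib.T2H6.CISeq

open Groth.Agent.Lib.Helper23.SecTw Groth.Agent.Lib.Helper23.GenLocus Groth.Agent.Lib.Helper6
  Groth.Agent.Lib.T2H5.EtaTop Groth.Agent.Lib.Helper1.StalkTensor Groth.Agent.Lib.T2H6.LefConn
  Groth.Agent.Lib.T2H3.ZeroScheme

variable {X : Scheme.{u}}

/-- naturality of the sectionwise tensor `m ⊗ l` in the first variable. -/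
theorem tensorBi_map_app_tm {M M' : X.Modules} (φ : M ⟶ M') (F : X.Modules) (A : X.Opens)
    (m : Γ(M, A)) (l : Γ(F, A)) :
    ((DCoh.tensorBi.map φ).app F).app A (tm M F A m l) = tm M' F A (φ.app A m) l := by
  have h := etaX_naturality_apply (toPMMap φ ▷ toPM F) A (m ⊗ₜ l)
  exact h

theorem toSubscheme_comp_quotMap {I J : X.IdealSheafData} (h : I ≤ J) :
    ClSub.toSubscheme I ≫ Lef.quotMap h = ClSub.toSubscheme J := by
  apply hom_ext_sv
  rw [LefConn.sv_comp]
  have h1 : sv (ClSub.toSubscheme I) ⊤ = toS (Y := I.subscheme) ⊤ 1 := by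
    have := toSubscheme_app I ⊤ 1
    rw [map_one] at this
    exact this
  have h2 : sv (ClSub.toSubscheme J) ⊤ = toS (Y := J.subscheme) ⊤ 1 := by
    have := toSubscheme_app J ⊤ 1
    rw [map_one] at this
    exact this
  rw [h1, h2, quotMap_app, map_one]
  rfl


section Local

variable (L : X.Modules) (s : Coh.structureModule X ⟶ L) (I : X.IdealSheafData)

/-- multiplication by `s` on `O/I`. -/
noncomputable def mulS : CohB1.tensorMod (ClSub.quotMod I) (Coh.structureModule X) ⟶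
    CohB1.tensorMod (ClSub.quotMod I) L :=
  (DCoh.tensorBi.obj (ClSub.quotMod I)).map s

/-- the quotient map `O/I ⊗ L ⟶ O/(I ⊔ Z(s)) ⊗ L`. -/
noncomputable def quotS : CohB1.tensorMod (ClSub.quotMod I) L ⟶
    CohB1.tensorMod (ClSub.quotMod (I ⊔ PicF2.zeroScheme L s)) L :=
  (DCoh.tensorBi.map (Lef.quotMap (le_sup_left : I ≤ I ⊔ PicF2.zeroScheme L s))).app L

variable {L s}
variable {W : X.Opens} (hW : IsAffineOpen W) {e : Γ(L, W)} (he : IsGen L W e) {c : Γ(X, W)}
  (hc : sv s W = c • e)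

/-- the class of a function in `O/I`. -/
noncomputable def cls (b : Γ(X, W)) : Γ(ClSub.quotMod I, W) := (ClSub.toSubscheme I).app W (toS W b)

include hW in
theorem cls_surjective (q : Γ(ClSub.quotMod I, W)) : ∃ b, cls I b = q :=
  Groth.Agent.Lib.T1H3.ClSubSeq.toSubscheme_app_surjective I hW q

theorem cls_eq_zero_iff (b : Γ(X, W)) : cls I b = 0 ↔ b ∈ I.ideal ⟨W, hW⟩ :=
  Groth.Agent.Lib.T1H3.ClSubSeq.toSubscheme_app_eq_zero_iff I hW b

theorem smul_cls (r b : Γ(X, W)) : r • cls I b = cls I (r * b) := by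
  unfold cls
  rw [← smul_toS, Scheme.Modules.Hom.app_smul]

theorem cls_sub (b b' : Γ(X, W)) : cls I (b - b') = cls I b - cls I b' := by
  unfold cls
  have : toS W (b - b') = toS W b - toS W b' := rfl
  rw [this, map_sub]

theorem quotMap_cls {J : X.IdealSheafData} (h : I ≤ J) (b : Γ(X, W)) :
    (Lef.quotMap h).app W (cls I b) = cls J b := by
  unfold cls
  have h1 := congrArg (fun φ => Scheme.Modules.Hom.app φ W (toS W b)) (toSubscheme_comp_quotMap h)
  exact h1

include hW in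
theorem exists_tm_one (x : Γ(CohB1.tensorMod (ClSub.quotMod I) (Coh.structureModule X), W)) :
    ∃ b : Γ(X, W), x = tm (ClSub.quotMod I) (Coh.structureModule X) W (cls I b) (toS W 1) := by
  obtain ⟨q, hq⟩ := (bijective_tm_of_isGen (ClSub.quotMod I) (Coh.structureModule X) W (toS W 1)
    (isGen_one W) W le_rfl).2 x
  obtain ⟨b, rfl⟩ := cls_surjective I hW q
  refine ⟨b, ?_⟩
  rw [← hq]
  simp only [Groth.Agent.Lib.Helper23.SecTw.res_self]

include hW he in
theorem exists_tm_gen (J : X.IdealSheafData) (x : Γ(CohB1.tensorMod (ClSub.quotMod J) L, W)) :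
    ∃ b : Γ(X, W), x = tm (ClSub.quotMod J) L W (cls J b) e := by
  obtain ⟨q, hq⟩ := (bijective_tm_of_isGen (ClSub.quotMod J) L W e he W le_rfl).2 x
  obtain ⟨b, rfl⟩ := cls_surjective J hW q
  refine ⟨b, ?_⟩
  rw [← hq]
  simp only [Groth.Agent.Lib.Helper23.SecTw.res_self]

include he in
theorem tm_gen_eq_zero_iff (J : X.IdealSheafData) (b : Γ(X, W)) :
    tm (ClSub.quotMod J) L W (cls J b) e = 0 ↔ b ∈ J.ideal ⟨W, hW⟩ := by
  rw [← cls_eq_zero_iff J hW]
  have hinj := (bijective_tm_of_isGen (ClSub.quotMod J) L W e he W le_rfl).1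
  simp only [Groth.Agent.Lib.Helper23.SecTw.res_self] at hinj
  constructor
  · intro h
    apply hinj
    simp only
    rw [h, tm_zero_left]
  · intro h
    rw [h, tm_zero_left]

include hc in
theorem mulS_app_tm (b : Γ(X, W)) :
    (mulS L s I).app W (tm (ClSub.quotMod I) (Coh.structureModule X) W (cls I b) (toS W 1)) =
      tm (ClSub.quotMod I) L W (cls I (c * b)) e := by
  have h1 := Groth.Agent.Lib.T2H5.GlobGenQ.tensorBi_map_tm (ClSub.quotMod I) s W (cls I b) (toS W 1)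
  rw [app_toS, one_smul, hc, tm_smul_right, ← tm_smul_left, smul_cls] at h1
  exact h1

theorem quotS_app_tm (b : Γ(X, W)) (e' : Γ(L, W)) :
    (quotS L s I).app W (tm (ClSub.quotMod I) L W (cls I b) e') =
      tm (ClSub.quotMod (I ⊔ PicF2.zeroScheme L s)) L W (cls (I ⊔ PicF2.zeroScheme L s) b) e' := by
  have h1 := tensorBi_map_app_tm (Lef.quotMap (le_sup_left : I ≤ I ⊔ PicF2.zeroScheme L s)) L W
    (cls I b) e'
  rw [quotMap_cls] at h1
  exact h1

end Local


section Global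

open Groth.Agent.Helper18OmLS

variable (L : X.Modules) (hL : PicF.IsInvertible L) (s : Coh.structureModule X ⟶ L)
  (I : X.IdealSheafData)

include hL in
theorem ideal_sup_zeroScheme {W : X.Opens} (hW : IsAffineOpen W) {e : Γ(L, W)} (he : IsGen L W e)
    {c : Γ(X, W)} (hc : sv s W = c • e) :
    (I ⊔ PicF2.zeroScheme L s).ideal ⟨W, hW⟩ = I.ideal ⟨W, hW⟩ ⊔ Ideal.span {c} := by
  have hid : (PicF2.zeroScheme L s).ideal ⟨W, hW⟩ = Ideal.span {c} := by
    rw [zeroScheme_ideal L s hL ⟨W, hW⟩]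
    exact zI_eq_span L s he hc
  rw [← hid]
  rfl

include hL in
theorem mulS_comp_quotS : mulS L s I ≫ quotS L s I = 0 := by
  refine hom_ext_basis _ _ _ (Groth.Agent.Lib.T2H6.NegVan.isBasis_gen L hL) ?_
  rintro W ⟨hW, e, he⟩ x
  obtain ⟨b, rfl⟩ := exists_tm_one I hW x
  have hc := sv_eq_coef_smul s he
  change (quotS L s I).app W ((mulS L s I).app W _) = 0
  rw [mulS_app_tm I hc, quotS_app_tm, tm_gen_eq_zero_iff hW he, ideal_sup_zeroScheme L hL s I hW he hc]
  exact Ideal.mem_sup_right (Ideal.mul_mem_right _ _ (Ideal.subset_span (Set.mem_singleton _)))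

/-- the Koszul step complex `O/I ⊗ O ⟶ O/I ⊗ L ⟶ O/(I ⊔ Z(s)) ⊗ L`. -/
noncomputable def koszulSC : ShortComplex X.Modules :=
  ShortComplex.mk (mulS L s I) (quotS L s I) (mulS_comp_quotS L hL s I)

include hL in
theorem epi_quotS : Epi (quotS L s I) := by
  apply Groth.Agent.Lib.Helper23.Serre.epi_of_locally_surjective
  intro V t x hx
  obtain ⟨W, ⟨hW, e, he⟩, hxW, hWV⟩ :=
    (Opens.isBasis_iff_nbhd.1 (Groth.Agent.Lib.T2H6.NegVan.isBasis_gen L hL)) hx
  obtain ⟨b, hb⟩ := exists_tm_gen hW he (I ⊔ PicF2.zeroScheme L s)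
    (res _ hWV t)
  refine ⟨W, hWV, hxW, tm (ClSub.quotMod I) L W (cls I b) e, ?_⟩
  rw [quotS_app_tm]
  exact hb.symm

include hL in
theorem koszulSC_exact : (koszulSC L hL s I).Exact := by
  apply Groth.Agent.Lib.Helper2.RelTildeExact.exact_of_locally_exact
  intro V t ht x hx
  obtain ⟨W, ⟨hW, e, he⟩, hxW, hWV⟩ :=
    (Opens.isBasis_iff_nbhd.1 (Groth.Agent.Lib.T2H6.NegVan.isBasis_gen L hL)) hx
  have hc := sv_eq_coef_smul s he
  obtain ⟨b, hb⟩ := exists_tm_gen hW he I (res _ hWV t)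
  have h0 : (quotS L s I).app W (res _ hWV t) = 0 := by
    have h1 := Groth.Agent.Lib.Helper23.Extend.app_map (quotS L s I) (homOfLE hWV) t
    change (quotS L s I).app V t = 0 at ht
    rw [ht, map_zero] at h1
    exact h1
  rw [hb, quotS_app_tm, tm_gen_eq_zero_iff hW he, ideal_sup_zeroScheme L hL s I hW he hc,
    Submodule.mem_sup] at h0
  obtain ⟨b₁, hb₁, y, hy, hsum⟩ := h0
  obtain ⟨b₂, rfl⟩ := Ideal.mem_span_singleton'.mp hy
  refine ⟨W, hWV, hxW, tm (ClSub.quotMod I) (Coh.structureModule X) W (cls I b₂) (toS W 1), ?_⟩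
  have h3 := mulS_app_tm I hc b₂
  have h2 : cls I b = cls I (coef he le_rfl (sv s W) * b₂) := by
    rw [← sub_eq_zero, ← cls_sub, cls_eq_zero_iff I hW, ← hsum, mul_comm b₂]
    simpa using hb₁
  rw [← h2, ← hb] at h3
  exact h3

theorem mono_mulS (ℬ : Set X.Opens) (hℬ : Opens.IsBasis ℬ)
    (hreg : ∀ W ∈ ℬ, ∃ (hW : IsAffineOpen W) (e : Γ(L, W)) (c : Γ(X, W)), IsGen L W e ∧
      sv s W = c • e ∧ ∀ b : Γ(X, W), c * b ∈ I.ideal ⟨W, hW⟩ → b ∈ I.ideal ⟨W, hW⟩) :
    Mono (mulS L s I) := by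
  apply mono_of_injective_app_basis _ ℬ hℬ
  intro W hWB
  obtain ⟨hW, e, c, he, hc, hreg⟩ := hreg W hWB
  refine (injective_iff_map_eq_zero _).mpr ?_
  intro x hx
  obtain ⟨b, rfl⟩ := exists_tm_one I hW x
  rw [mulS_app_tm I hc, tm_gen_eq_zero_iff hW he] at hx
  rw [(cls_eq_zero_iff I hW b).mpr (hreg b hx), tm_zero_left]

include hL in
/-- the Koszul step sequence is short exact as soon as, on a basis of affine opens trivialising `L`, the coefficient
of `s` is a non-zero-divisor modulo `I`. -/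
theorem koszulSC_shortExact (ℬ : Set X.Opens) (hℬ : Opens.IsBasis ℬ)
    (hreg : ∀ W ∈ ℬ, ∃ (hW : IsAffineOpen W) (e : Γ(L, W)) (c : Γ(X, W)), IsGen L W e ∧
      sv s W = c • e ∧ ∀ b : Γ(X, W), c * b ∈ I.ideal ⟨W, hW⟩ → b ∈ I.ideal ⟨W, hW⟩) :
    (koszulSC L hL s I).ShortExact :=
  { exact := koszulSC_exact L hL s I
    mono_f := mono_mulS L s I ℬ hℬ hreg
    epi_g := epi_quotS L hL s I }

end Global

end Groth.Agent.Lib.T2H6.CISeq
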