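import Mathlib
import Groth.Agent.Lib.T2H6CISeqA
import Groth.Agent.Lib.T2H6CIDimB
import Groth.Agent.Lib.T2H6HypBridgeD

/-!
# The Koszul step sequence for complete intersections in `P^n_k` (helper6)

For forms `G_0, …, G_r` of `P = P^n_k` that form a complete intersection (`CIAlg.IsCI`), with
`I = ciIdeal (G_0, …, G_{r-1})`, the sequence
`0 → O/I ⊗ O → O/I ⊗ O(a_r) → O/(I ⊔ Z(G_r)) ⊗ O(a_r) → 0` is short exact, and `I ⊔ Z(G_r) = ciIdeal G`.
-/

set_option autoImplicit false
set_option linter.style.haveILetI false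
set_option linter.unusedSectionVars false
universe u

open CategoryTheory CategoryTheory.Limits AlgebraicGeometry TopologicalSpace Opposite

namespace Groth.Agent.Lib.T2H6.CISeq

open Groth.Agent.Lib.Helper23.SecTw Groth.Agent.Lib.Helper23.GenLocus Groth.Agent.Lib.Helper6
  Groth.Agent.Lib.T2H6.HypBridge Groth.Agent.Lib.T2H6.CIAlg Groth.Agent.Lib.T2H6.CIDim

variable {k : Type u} [Field k] {n : ℕ}

theorem ciIdeal_succ {r : ℕ} {a : Fin (r + 1) → ℕ} (G : ∀ j, LefPen.Form n k (a j)) :
    LefPen.ciIdeal G = LefPen.ciIdeal (fun j : Fin r => G j.castSucc) ⊔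
      LefPen.hypIdeal (G (Fin.last r)) := by
  unfold LefPen.ciIdeal
  apply le_antisymm
  · refine iSup_le fun j => ?_
    induction j using Fin.lastCases with
    | last => exact le_sup_right
    | cast j => exact le_trans (le_iSup (fun j : Fin r => LefPen.hypIdeal (G j.castSucc)) j) le_sup_left
  · refine sup_le (iSup_le fun j => le_iSup (fun j => LefPen.hypIdeal (G j)) j.castSucc)
      (le_iSup (fun j => LefPen.hypIdeal (G j)) (Fin.last r))

theorem ciIdeal_succ' {r : ℕ} {a : Fin (r + 1) → ℕ} (G : ∀ j, LefPen.Form n k (a j)) :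
    LefPen.ciIdeal (fun j : Fin r => G j.castSucc) ⊔
      PicF2.zeroScheme (Twist.twistProjSpace n k (a (Fin.last r) : ℤ)) (formHom (G (Fin.last r))) =
      LefPen.ciIdeal G := by
  rw [ciIdeal_succ G, hypIdeal_eq_zeroScheme]

/-- the ideal of a complete intersection on an affine open inside a chart. -/
theorem ideal_ciIdeal_of_le_chart {r : ℕ} {a : Fin r → ℕ} (G : ∀ j, LefPen.Form n k (a j))
    (i : Fin (n + 1)) (W : (CohB1.ProjSpace n k).affineOpens) (hW : W.1 ≤ LefPen.chart n k i) :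
    (LefPen.ciIdeal G).ideal W =
      Ideal.span (Set.range fun j : Fin r => resf hW (LefPen.dehom (G j) i)) := by
  unfold LefPen.ciIdeal
  rw [Scheme.IdealSheafData.ideal_iSup, iSup_apply]
  have h : ∀ j, (LefPen.hypIdeal (G j)).ideal W = Ideal.span {resf hW (LefPen.dehom (G j) i)} := by
    intro j
    rw [hypIdeal_eq_zeroScheme, ideal_zeroScheme_of_le_chart (G j) i W hW]
  simp_rw [h]
  rw [← Ideal.span_iUnion]
  congr 1
  ext x
  simp [eq_comm]

/-- affine opens contained in a standard chart. -/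
def chartBasis (n : ℕ) (k : Type u) [Field k] : Set (CohB1.ProjSpace n k).Opens :=
  {W | IsAffineOpen W ∧ ∃ i, W ≤ LefPen.chart n k i}

theorem isBasis_chartBasis : Opens.IsBasis (chartBasis n k) := by
  rw [Opens.isBasis_iff_nbhd]
  intro U x hx
  have hx' : x ∈ (⊤ : (CohB1.ProjSpace n k).Opens) := trivial
  rw [← iSup_chart, Opens.mem_iSup] at hx'
  obtain ⟨i, hi⟩ := hx'
  obtain ⟨W, hWa, hxW, hWU⟩ := (Opens.isBasis_iff_nbhd.1 (CohB1.ProjSpace n k).isBasis_affineOpens)
    (show x ∈ U ⊓ LefPen.chart n k i from ⟨hx, hi⟩)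
  exact ⟨W, ⟨hWa, i, hWU.trans inf_le_right⟩, hxW, hWU.trans inf_le_left⟩

/-- **the Koszul step sequence of a complete intersection in `P^n_k` is short exact.** -/
theorem koszulSC_shortExact_ci {r : ℕ} {a : Fin (r + 1) → ℕ} (G : ∀ j, LefPen.Form n k (a j))
    (hCI : IsCI k n (fun j => (G j : MvPolynomial (Fin (n + 1)) k))) :
    (koszulSC (Twist.twistProjSpace n k (a (Fin.last r) : ℤ))
      (Groth.Agent.Lib.T2H5.Twist.isInvertible_twist n k _) (formHom (G (Fin.last r)))
      (LefPen.ciIdeal (fun j : Fin r => G j.castSucc))).ShortExact := by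
  refine koszulSC_shortExact _ _ _ _ (chartBasis n k) isBasis_chartBasis ?_
  rintro W ⟨hWa, i, hW⟩
  refine ⟨hWa, res _ hW (chartFrame (k := k) i (a (Fin.last r))),
    resf hW (LefPen.dehom (G (Fin.last r)) i), (isGen_chartFrame i _).mono hW,
    sv_formHom_of_le_chart (G (Fin.last r)) i hW, ?_⟩
  intro b hb
  rw [ideal_ciIdeal_of_le_chart (fun j : Fin r => G j.castSucc) i ⟨W, hWa⟩ hW] at hb ⊢
  exact mem_span_of_resf_dehom_mul_mem G hCI i hWa hW b hb

end Groth.Agent.Lib.T2H6.CISeq
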