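import Mathlib
import Groth.Agent.Lib.T2H6CISeqB
import Groth.Agent.Lib.T2H6HypCohC
import Groth.Agent.Lib.T2H6ParShC

/-!
# Cohomology of twists of a complete intersection in `P^n_k` (helper6)

* `isIso_toSubscheme_bot` : `O ⟶ O/⊥` is an isomorphism.
* `VanMid I d` : `H^p(P, O/I ⊗ O(i)) = 0` for all `i` and `0 < p < d`.
* `vanMid_ci` : for a complete intersection of `r` forms, `VanMid (ciIdeal G) (n - r)`.
-/

set_option autoImplicit false
set_option linter.style.haveILetI false
set_option linter.unusedSectionVars false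
universe u

open CategoryTheory CategoryTheory.Limits AlgebraicGeometry TopologicalSpace Opposite

namespace Groth.Agent.Lib.T2H6.CISeq

open Groth.Agent.Lib.Helper23.SecTw Groth.Agent.Lib.Helper23.GenLocus Groth.Agent.Lib.Helper6
  Groth.Agent.Lib.T2H6.HypBridge Groth.Agent.Lib.T2H6.CIAlg Groth.Agent.Lib.T2H6.CIDim
  Groth.Agent.Lib.T2H5.Twist Groth.Agent.Lib.T2H5.HHSub Groth.Agent.Lib.T2H5.Chevalley

section General

variable {X : Scheme.{u}}

theorem mono_toSubscheme_bot : Mono (ClSub.toSubscheme (⊥ : X.IdealSheafData)) := by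
  refine Groth.Agent.Helper18OmLS.mono_of_injective_app_basis _ {W | IsAffineOpen W}
    X.isBasis_affineOpens ?_
  intro W hW
  rw [injective_iff_map_eq_zero]
  intro a ha
  have h := (Groth.Agent.Lib.T1H3.ClSubSeq.toSubscheme_app_eq_zero_iff (⊥ : X.IdealSheafData) hW
    (ofS W a)).mp ha
  rw [Scheme.IdealSheafData.ideal_bot] at h
  exact h

instance isIso_toSubscheme_bot : IsIso (ClSub.toSubscheme (⊥ : X.IdealSheafData)) := by
  haveI := mono_toSubscheme_bot (X := X)
  haveI : Epi (ClSub.toSubscheme (⊥ : X.IdealSheafData)) :=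
    Groth.Agent.Lib.T2H6.ParShC.epi_toSubscheme _
  exact isIso_of_mono_of_epi _

end General

variable {k : Type u} [Field k] {n : ℕ}

/-- `H^p(P, O/I ⊗ O(i)) = 0` for all `i` and all `0 < p < d`. -/
def VanMid (I : (CohB1.ProjSpace n k).IdealSheafData) (d : ℕ) : Prop :=
  ∀ (i : ℤ) (p : ℕ), 0 < p → p < d →
    Subsingleton (Coh.HH (CohB1.ProjSpace n k)
      (CohB1.tensorMod (ClSub.quotMod I) (Twist.twistProjSpace n k i)) p)

theorem vanMid_bot : VanMid (⊥ : (CohB1.ProjSpace n k).IdealSheafData) n := by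
  intro i p hp hpn
  have e1 : Coh.structureModule (CohB1.ProjSpace n k) ≅
      ClSub.quotMod (⊥ : (CohB1.ProjSpace n k).IdealSheafData) :=
    asIso (ClSub.toSubscheme (⊥ : (CohB1.ProjSpace n k).IdealSheafData))
  have e3 : CohB1.tensorMod (Coh.structureModule (CohB1.ProjSpace n k)) (Twist.twistProjSpace n k i) ≅
      CohB1.tensorMod (ClSub.quotMod (⊥ : (CohB1.ProjSpace n k).IdealSheafData))
        (Twist.twistProjSpace n k i) := (tw n k i).mapIso e1
  have e4 : CohB1.tensorMod (Coh.structureModule (CohB1.ProjSpace n k)) (Twist.twistProjSpace n k i) ≅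
      Twist.twistProjSpace n k i := Groth.Agent.Lib.Helper23.TensorUnit.unitTensorIso _
  have h0 := Groth.Agent.Lib.T2H5.PnVanish.subsingleton_HH_twist n k i p (fun h => by omega)
      (fun h => by omega)
  exact subsingleton_HH_of_iso e3 p (subsingleton_HH_of_iso e4.symm p h0)

/-- abstract step: from a short exact `0 → Q ⊗ O → Q ⊗ O(A) → Q' ⊗ O(A) → 0` and vanishing for `Q`
deduce vanishing for `Q'`. -/
theorem subsingleton_HH_step (Q Q' : (CohB1.ProjSpace n k).Modules) (A : ℤ)
    (S : ShortComplex (CohB1.ProjSpace n k).Modules) (hS : S.ShortExact)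
    (h₁ : S.X₁ = CohB1.tensorMod Q (Coh.structureModule _))
    (h₂ : S.X₂ = CohB1.tensorMod Q (Twist.twistProjSpace n k A))
    (h₃ : S.X₃ = CohB1.tensorMod Q' (Twist.twistProjSpace n k A)) (i : ℤ) (p : ℕ)
    (hv₂ : Subsingleton (Coh.HH (CohB1.ProjSpace n k)
      (CohB1.tensorMod Q (Twist.twistProjSpace n k i)) p))
    (hv₁ : Subsingleton (Coh.HH (CohB1.ProjSpace n k)
      (CohB1.tensorMod Q (Twist.twistProjSpace n k (i - A))) (p + 1))) :
    Subsingleton (Coh.HH (CohB1.ProjSpace n k)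
      (CohB1.tensorMod Q' (Twist.twistProjSpace n k i)) p) := by
  have hS' := shortExact_map_tw n k (i - A) _ hS
  have e₁ : (S.map (tw n k (i - A))).X₁ ≅
      CohB1.tensorMod Q (Twist.twistProjSpace n k (i - A)) :=
    (tw n k (i - A)).mapIso (eqToIso h₁ ≪≫ trUnitIso.app Q)
  have e₂ : (S.map (tw n k (i - A))).X₂ ≅ CohB1.tensorMod Q (Twist.twistProjSpace n k i) :=
    (tw n k (i - A)).mapIso (eqToIso h₂) ≪≫ (twAdd n k A (i - A) i (by ring)).app Q
  have e₃ : (S.map (tw n k (i - A))).X₃ ≅ CohB1.tensorMod Q' (Twist.twistProjSpace n k i) :=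
    (tw n k (i - A)).mapIso (eqToIso h₃) ≪≫ (twAdd n k A (i - A) i (by ring)).app Q'
  refine subsingleton_HH_of_iso e₃ p (subsingleton_X₃ _ hS' p ?_ ?_)
  · exact subsingleton_HH_of_iso e₂.symm p hv₂
  · exact subsingleton_HH_of_iso e₁.symm (p + 1) hv₁

theorem vanMid_succ {r : ℕ} {a : Fin (r + 1) → ℕ} (G : ∀ j, LefPen.Form n k (a j))
    (hCI : IsCI k n (fun j => (G j : MvPolynomial (Fin (n + 1)) k))) (d : ℕ)
    (h : VanMid (LefPen.ciIdeal (fun j : Fin r => G j.castSucc)) (d + 1)) :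
    VanMid (LefPen.ciIdeal G) d := by
  intro i p hp hpd
  have hS := koszulSC_shortExact_ci G hCI
  have key := subsingleton_HH_step (ClSub.quotMod (LefPen.ciIdeal (fun j : Fin r => G j.castSucc)))
    (ClSub.quotMod (LefPen.ciIdeal (fun j : Fin r => G j.castSucc) ⊔
      PicF2.zeroScheme (Twist.twistProjSpace n k (a (Fin.last r) : ℤ)) (formHom (G (Fin.last r)))))
    (a (Fin.last r) : ℤ) _ hS rfl rfl rfl i p (h i p hp (by omega))
    (h (i - (a (Fin.last r) : ℤ)) (p + 1) (by omega) (by omega))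
  rw [ciIdeal_succ' G] at key
  exact key

/-- **`H^p(P, O_X(i)) = 0` for `0 < p < n - r`, `X` a complete intersection of `r` forms.** -/
theorem vanMid_ci : ∀ (r : ℕ) (a : Fin r → ℕ) (G : ∀ j, LefPen.Form n k (a j)),
    IsCI k n (fun j => (G j : MvPolynomial (Fin (n + 1)) k)) → VanMid (LefPen.ciIdeal G) (n - r) := by
  intro r
  induction r with
  | zero =>
    intro a G _
    have h0 : LefPen.ciIdeal G = ⊥ := by
      unfold LefPen.ciIdeal
      exact iSup_of_empty _
    rw [h0]
    exact vanMid_bot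
  | succ r ih =>
    intro a G hCI
    refine vanMid_succ G hCI _ ?_
    have h1 := ih (fun j => a j.castSucc) (fun j => G j.castSucc)
      (IsCI.comp k n hCI Fin.castSucc (Fin.castSucc_injective r))
    intro i p hp hpd
    exact h1 i p hp (by omega)

end Groth.Agent.Lib.T2H6.CISeq
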