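import Mathlib
import Groth.Agent.Lib.T2H6CISeqC
import Groth.Agent.Lib.T2H6CIDimA
import Groth.Agent.Lib.T2H6TensorDegGen
import Groth.Agent.Lib.T2H5T2Lin
import Groth.Agent.Lib.Helper18PBUnit2
import Groth.Agent.S0028

/-!
# Transfer of cohomology from `P` to a closed subscheme, for pulled-back locally free modules (helper6)

* `nonempty_pushforward_pullback_iso` : `ι_* ι^* E ≅ O/I ⊗ E` for `E` finite locally free.
* `subsingleton_HH_pullback_subscheme` : `H^p(P, O/I ⊗ E) = 0 → H^p(V(I), ι^*E) = 0`.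
* `subsingleton_HH_ci` : `H^p(X, ι^*O(i)) = 0` for a complete intersection `X` of dimension `n - r` in `P^n_k` and
  `0 < p < n - r`.
-/

set_option autoImplicit false
set_option linter.style.haveILetI false
set_option linter.unusedSectionVars false
universe u

open CategoryTheory CategoryTheory.Limits AlgebraicGeometry TopologicalSpace Opposite

namespace Groth.Agent.Lib.T2H6.CISeq

open Groth.Agent.Lib.T2H6.CIAlg Groth.Agent.Lib.T2H6.CIDim Groth.Agent.Lib.T2H5.Chevalley

section General

variable {P : Scheme.{u}} (I : P.IdealSheafData)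

/-- `ι_* ι^* E ≅ O/I ⊗ E` for `E` finite locally free. -/
theorem nonempty_pushforward_pullback_iso (E : P.Modules) (hE : FlatMod.IsFinLocFree E) :
    Nonempty ((Scheme.Modules.pushforward I.subschemeι).obj
      ((Scheme.Modules.pullback I.subschemeι).obj E) ≅ CohB1.tensorMod (ClSub.quotMod I) E) := by
  obtain ⟨ε⟩ := Groth.Agent.Lib.T2H6.TensorDegGen.nonempty_push_tensor_pullback_iso I.subschemeι E hE
    (Coh.structureModule I.subscheme)
  exact ⟨(Scheme.Modules.pushforward I.subschemeι).mapIso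
    (Groth.Agent.Lib.Helper23.TensorUnit.unitTensorIso _).symm ≪≫ ε⟩

variable (k : Type u) [Field k] [P.Over (Spec (CommRingCat.of k))]

include k in
/-- `H^p(P, O/I ⊗ E) = 0` implies `H^p(V(I), ι^*E) = 0` for `E` finite locally free. -/
theorem subsingleton_HH_pullback_subscheme (E : P.Modules) [E.IsQuasicoherent]
    (hE : FlatMod.IsFinLocFree E) (p : ℕ)
    (h : Subsingleton (Coh.HH P (CohB1.tensorMod (ClSub.quotMod I) E) p)) :
    Subsingleton (Coh.HH I.subscheme ((Scheme.Modules.pullback I.subschemeι).obj E) p) := by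
  letI : I.subscheme.Over (Spec (CommRingCat.of k)) :=
    ⟨I.subschemeι ≫ (P ↘ Spec (CommRingCat.of k))⟩
  haveI : ((Scheme.Modules.pullback I.subschemeι).obj E).IsQuasicoherent := inferInstance
  obtain ⟨e⟩ := Groth.Agent.Lib.T2H5.T2Lin.nonempty_linearEquiv I.subschemeι k rfl
    ((Scheme.Modules.pullback I.subschemeι).obj E)
    (fun q => Groth.Agent.S0028.result I.subschemeι _ (q + 1) (Nat.succ_pos q)) p
  obtain ⟨ε⟩ := nonempty_pushforward_pullback_iso I E hE
  have h1 : Subsingleton (Coh.HH P ((Scheme.Modules.pushforward I.subschemeι).obj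
      ((Scheme.Modules.pullback I.subschemeι).obj E)) p) := subsingleton_HH_of_iso ε.symm p h
  exact e.symm.injective.subsingleton

end General

variable {k : Type u} [Field k] {n : ℕ}

/-- **`H^p(X, ι^*O(i)) = 0` for `0 < p < n - r`, `X` a complete intersection of dimension `n - r`.** -/
theorem subsingleton_HH_ci {r : ℕ} (hr : r ≤ n) {a : Fin r → ℕ} (ha : ∀ j, 1 ≤ a j)
    (G : ∀ j, LefPen.Form n k (a j))
    (hdim : topologicalKrullDim ↥(LefPen.ciIdeal G).subscheme ≤ ((n - r : ℕ) : WithBot ℕ∞))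
    (i : ℤ) (p : ℕ) (hp : 0 < p) (hpn : p < n - r) :
    Subsingleton (Coh.HH (LefPen.ciIdeal G).subscheme
      ((Scheme.Modules.pullback (LefPen.ciIdeal G).subschemeι).obj (Twist.twistProjSpace n k i)) p) := by
  haveI : (Twist.twistProjSpace n k i).IsQuasicoherent :=
    (Groth.Agent.Lib.T2H5.PnFinite.isCoh_twist n k i).1
  exact subsingleton_HH_pullback_subscheme (LefPen.ciIdeal G) k (Twist.twistProjSpace n k i)
    (Groth.Agent.Helper18PBUnit.isFinLocFree_of_isInvertible
      (Groth.Agent.Lib.T2H5.Twist.isInvertible_twist n k i)) p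
    (vanMid_ci r a G (isCI_of_dim hr ha G hdim) i p hp hpn)

end Groth.Agent.Lib.T2H6.CISeq
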