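import Mathlib
import Groth.Agent.Lib.T2H6CISeqD
import Groth.Agent.Lib.T2H5GrSerre
set_option backward.isDefEq.respectTransparency.types false

/-!
# Global sections of twists of a complete intersection in `P^n_k` (helper6)

* `piE I E : E ⟶ O/I ⊗ E` : the quotient map.
* `SurjPi I` : `Γ(P, O(i)) → Γ(P, O/I ⊗ O(i))` is surjective for all `i`.
* `surjPi_ci` : for a complete intersection of `r` forms with `n - r ≥ 1`, `SurjPi (ciIdeal G)`.
-/

set_option autoImplicit false
set_option linter.style.haveILetI false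
set_option linter.unusedSectionVars false
universe u

open CategoryTheory CategoryTheory.Limits AlgebraicGeometry TopologicalSpace Opposite

namespace Groth.Agent.Lib.T2H6.CISeq

open Groth.Agent.Lib.Helper23.SecTw Groth.Agent.Lib.Helper23.GenLocus Groth.Agent.Lib.Helper6
  Groth.Agent.Lib.T2H6.HypBridge Groth.Agent.Lib.T2H6.CIAlg Groth.Agent.Lib.T2H6.CIDim
  Groth.Agent.Lib.T2H5.Twist Groth.Agent.Lib.T2H5.HHSub Groth.Agent.Lib.T2H5.Chevalley
  Groth.Agent.Lib.T1H3.ClSubSeq

section General

variable {X : Scheme.{u}}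

/-- `O ⊗ E ≅ E`. -/
noncomputable def lamIso (E : X.Modules) : (tr E).obj (Coh.structureModule X) ≅ E :=
  Groth.Agent.Lib.Helper23.TensorUnit.unitTensorIso E

/-- the quotient map `E ⟶ O/I ⊗ E`. -/
noncomputable def piE (I : X.IdealSheafData) (E : X.Modules) :
    E ⟶ (tr E).obj (ClSub.quotMod I) :=
  (lamIso E).inv ≫ (tr E).map (ClSub.toSubscheme I)

theorem piE_comp_quotMap {I J : X.IdealSheafData} (h : I ≤ J) (E : X.Modules) :
    piE I E ≫ (tr E).map (Lef.quotMap h) = piE J E := by
  have h1 : (tr E).map (ClSub.toSubscheme I) ≫ (tr E).map (Lef.quotMap h) =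
      (tr E).map (ClSub.toSubscheme J) := by
    rw [← toSubscheme_comp_quotMap h]
    exact ((tr E).map_comp _ _).symm
  unfold piE
  rw [Category.assoc, h1]

instance isIso_piE_bot (E : X.Modules) : IsIso (piE (⊥ : X.IdealSheafData) E) := by
  haveI : IsIso ((tr E).map (ClSub.toSubscheme (⊥ : X.IdealSheafData))) := Functor.map_isIso _ _
  unfold piE
  infer_instance

theorem surjective_app_of_isIso {A B : X.Modules} (φ : A ⟶ B) [IsIso φ] (U : X.Opens) :
    Function.Surjective (φ.app U) := by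
  intro b
  refine ⟨(inv φ).app U b, ?_⟩
  rw [← comp_app_apply, IsIso.inv_hom_id]
  rfl

theorem surjective_comp_app {A B C : X.Modules} (φ : A ⟶ B) (ψ : B ⟶ C) (U : X.Opens)
    (h1 : Function.Surjective (φ.app U)) (h2 : Function.Surjective (ψ.app U)) :
    Function.Surjective ((φ ≫ ψ).app U) := by
  intro c
  obtain ⟨b, rfl⟩ := h2 c
  obtain ⟨a, rfl⟩ := h1 b
  exact ⟨a, comp_app_apply φ ψ U a⟩

end General

variable {k : Type u} [Field k] {n : ℕ}

/-- `Γ(P, O(i)) → Γ(P, O/I ⊗ O(i))` is surjective for all `i`. -/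
def SurjPi (I : (CohB1.ProjSpace n k).IdealSheafData) : Prop :=
  ∀ i : ℤ, Function.Surjective ((piE I (Twist.twistProjSpace n k i)).app ⊤)

theorem surjPi_bot : SurjPi (⊥ : (CohB1.ProjSpace n k).IdealSheafData) :=
  fun _ => surjective_app_of_isIso _ ⊤

/-- abstract step for sections. -/
theorem surjective_step {Q Q' : (CohB1.ProjSpace n k).Modules} (q : Q ⟶ Q') (A : ℤ)
    (f : CohB1.tensorMod Q (Coh.structureModule (CohB1.ProjSpace n k)) ⟶
      CohB1.tensorMod Q (Twist.twistProjSpace n k A))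
    (w : f ≫ (tw n k A).map q = 0)
    (hS : (ShortComplex.mk f ((tw n k A).map q) w).ShortExact) (i : ℤ)
    (hv₁ : Subsingleton (Coh.HH (CohB1.ProjSpace n k)
      (CohB1.tensorMod Q (Twist.twistProjSpace n k (i - A))) 1)) :
    Function.Surjective (((tw n k i).map q).app ⊤) := by
  have hS' := shortExact_map_tw n k (i - A) _ hS
  have e₁ : ((ShortComplex.mk f ((tw n k A).map q) w).map (tw n k (i - A))).X₁ ≅
      CohB1.tensorMod Q (Twist.twistProjSpace n k (i - A)) :=
    (tw n k (i - A)).mapIso (trUnitIso.app Q)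
  have h1 : Subsingleton (Coh.HH (CohB1.ProjSpace n k)
      ((ShortComplex.mk f ((tw n k A).map q) w).map (tw n k (i - A))).X₁ 1) :=
    subsingleton_HH_of_iso e₁.symm 1 hv₁
  have hsurj := Groth.Agent.Lib.T2H5.GrSerre.surjective_app_top_of_subsingleton k _ hS' h1
  have hnat := (twAdd n k A (i - A) i (by ring)).hom.naturality q
  have heq : (tw n k i).map q = (twAdd n k A (i - A) i (by ring)).inv.app Q ≫
      (tw n k (i - A)).map ((tw n k A).map q) ≫ (twAdd n k A (i - A) i (by ring)).hom.app Q' := by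
    have h2 : (tw n k (i - A)).map ((tw n k A).map q) ≫
        (twAdd n k A (i - A) i (by ring)).hom.app Q' =
        (twAdd n k A (i - A) i (by ring)).hom.app Q ≫ (tw n k i).map q := hnat
    rw [h2, ← Category.assoc]
    have h3 : (twAdd n k A (i - A) i (by ring)).inv.app Q ≫
        (twAdd n k A (i - A) i (by ring)).hom.app Q = 𝟙 _ :=
      (twAdd n k A (i - A) i (by ring)).inv_hom_id_app Q
    rw [h3, Category.id_comp]
  rw [heq]
  refine surjective_comp_app _ _ ⊤ (surjective_app_of_isIso _ ⊤)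
    (surjective_comp_app _ _ ⊤ hsurj (surjective_app_of_isIso _ ⊤))

theorem surjPi_succ {r : ℕ} {a : Fin (r + 1) → ℕ} (G : ∀ j, LefPen.Form n k (a j))
    (hCI : IsCI k n (fun j => (G j : MvPolynomial (Fin (n + 1)) k)))
    (hv : VanMid (LefPen.ciIdeal (fun j : Fin r => G j.castSucc)) 2)
    (h : SurjPi (LefPen.ciIdeal (fun j : Fin r => G j.castSucc))) :
    SurjPi (LefPen.ciIdeal G) := by
  intro i
  have hS := koszulSC_shortExact_ci G hCI
  have key := surjective_step (Lef.quotMap (le_sup_left :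
      LefPen.ciIdeal (fun j : Fin r => G j.castSucc) ≤
        LefPen.ciIdeal (fun j : Fin r => G j.castSucc) ⊔
        PicF2.zeroScheme (Twist.twistProjSpace n k (a (Fin.last r) : ℤ)) (formHom (G (Fin.last r)))))
    (a (Fin.last r) : ℤ) _ _ hS i (hv (i - (a (Fin.last r) : ℤ)) 1 one_pos (by omega))
  have h2 := surjective_comp_app _ _ ⊤ (h i) key
  rw [piE_comp_quotMap] at h2
  rw [ciIdeal_succ' G] at h2
  exact h2

/-- **`Γ(P, O(i)) → Γ(P, O_X(i))` is surjective for a complete intersection `X` of `r ≤ n - 1` forms.** -/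
theorem surjPi_ci : ∀ (r : ℕ) (a : Fin r → ℕ) (G : ∀ j, LefPen.Form n k (a j)),
    IsCI k n (fun j => (G j : MvPolynomial (Fin (n + 1)) k)) → 1 ≤ n - r →
      SurjPi (LefPen.ciIdeal G) := by
  intro r
  induction r with
  | zero =>
    intro a G _ _
    have h0 : LefPen.ciIdeal G = ⊥ := by
      unfold LefPen.ciIdeal
      exact iSup_of_empty _
    rw [h0]
    exact surjPi_bot
  | succ r ih =>
    intro a G hCI h1
    have hCI' := IsCI.comp k n hCI Fin.castSucc (Fin.castSucc_injective r)
    refine surjPi_succ G hCI ?_ (ih (fun j => a j.castSucc) (fun j => G j.castSucc) hCI' (by omega))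
    have h2 := vanMid_ci r (fun j => a j.castSucc) (fun j => G j.castSucc) hCI'
    intro i p hp hp2
    exact h2 i p hp (by omega)

end Groth.Agent.Lib.T2H6.CISeq
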