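import Mathlib
import Groth.Agent.Lib.T2H6CISeqE
import Groth.Agent.Lib.T2H9GammaBC2
import Groth.Agent.Lib.Helper27ProjGamma2
import Groth.Agent.Lib.T2H5GlobGenPn
set_option backward.isDefEq.respectTransparency.types false

/-!
# Complete intersections of positive dimension in `P^n_k` are geometrically connected (helper6)
-/

set_option autoImplicit false
set_option linter.style.haveILetI false
set_option linter.unusedSectionVars false
universe u

open CategoryTheory CategoryTheory.Limits AlgebraicGeometry TopologicalSpace Opposite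

namespace Groth.Agent.Lib.T2H6.CISeq

open Groth.Agent.Lib.Helper23.SecTw Groth.Agent.Lib.Helper23.GenLocus Groth.Agent.Lib.Helper6
  Groth.Agent.Lib.T2H6.HypBridge Groth.Agent.Lib.T2H6.CIAlg Groth.Agent.Lib.T2H6.CIDim
  Groth.Agent.Lib.T2H5.Twist Groth.Agent.Lib.T2H5.HHSub Groth.Agent.Lib.T2H5.Chevalley
  Groth.Agent.Lib.T1H3.ClSubSeq Groth.Agent.Lib.T2H6.AmpleCrit

variable {k : Type u} [Field k] {n : ℕ}

theorem surjective_app_of_comm {X : Scheme.{u}} {A B C D : X.Modules} (f : A ⟶ B) (g : C ⟶ D)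
    (α : A ⟶ C) (β : B ⟶ D) [IsIso α] [IsIso β] (w : f ≫ β = α ≫ g) (U : X.Opens)
    (hf : Function.Surjective (f.app U)) : Function.Surjective (g.app U) := by
  have heq : g = inv α ≫ f ≫ β := ((IsIso.inv_comp_eq α).mpr w).symm
  rw [heq]
  exact surjective_comp_app _ _ U (surjective_app_of_isIso _ U)
    (surjective_comp_app _ _ U hf (surjective_app_of_isIso _ U))

/-- from `SurjPi` to surjectivity of `Γ(P, O) → Γ(P, O/I)`. -/
theorem surjective_toSubscheme_app_top_of_surjPi (I : (CohB1.ProjSpace n k).IdealSheafData)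
    (h : SurjPi I) : Function.Surjective ((ClSub.toSubscheme I).app ⊤) := by
  have h0 := h 0
  have hnat := (twZero n k).hom.naturality (ClSub.toSubscheme I)
  have h1 : (lamIso (Twist.twistProjSpace n k 0)).hom ≫ piE I (Twist.twistProjSpace n k 0) =
      (tw n k 0).map (ClSub.toSubscheme I) := by
    unfold piE
    rw [Iso.hom_inv_id_assoc]
  have h2 : Function.Surjective (((tw n k 0).map (ClSub.toSubscheme I)).app ⊤) := by
    rw [← h1]
    exact surjective_comp_app _ _ ⊤ (surjective_app_of_isIso _ ⊤) h0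
  exact surjective_app_of_comm ((tw n k 0).map (ClSub.toSubscheme I)) (ClSub.toSubscheme I)
    ((twZero n k).hom.app _) ((twZero n k).hom.app _) hnat ⊤ h2

theorem surjective_subschemeι_appTop_of_surjPi (I : (CohB1.ProjSpace n k).IdealSheafData)
    (h : SurjPi I) : Function.Surjective I.subschemeι.appTop.hom := by
  have hb := surjective_toSubscheme_app_top_of_surjPi I h
  intro c
  obtain ⟨a, ha⟩ := hb (toS (I.subschemeι ⁻¹ᵁ ⊤) c)
  refine ⟨ofS ⊤ a, ?_⟩
  have h2 := toSubscheme_app I ⊤ (ofS ⊤ a)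
  rw [toS_ofS, ha] at h2
  exact (congrArg (ofS _) h2).symm

theorem nonempty_of_dim_eq {T : Type*} [TopologicalSpace T] (d : ℕ)
    (h : topologicalKrullDim T = ((d : ℕ) : WithBot ℕ∞)) : Nonempty T := by
  by_contra hne
  rw [not_nonempty_iff] at hne
  haveI : IsEmpty (IrreducibleCloseds T) :=
    ⟨fun Z => hne.elim Z.isIrreducible'.nonempty.some⟩
  have h0 : topologicalKrullDim T = ⊥ := Order.krullDim_eq_bot
  rw [h0] at h
  exact WithBot.bot_ne_coe h

/-- **a complete intersection of dimension `n - r ≥ 1` in `P^n_k` is geometrically connected.** -/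
theorem geometricallyConnected_ci {r : ℕ} (hr : r ≤ n) {a : Fin r → ℕ} (ha : ∀ j, 1 ≤ a j)
    (G : ∀ j, LefPen.Form n k (a j))
    (hdim : topologicalKrullDim ↥(LefPen.ciIdeal G).subscheme = ((n - r : ℕ) : WithBot ℕ∞))
    (h1 : 1 ≤ n - r) :
    GeometricallyConnected ((LefPen.ciIdeal G).subschemeι ≫ CohB1.ProjSpace.toSpec n k) := by
  have hCI := isCI_of_dim hr ha G hdim.le
  have hs := surjective_subschemeι_appTop_of_surjPi _ (surjPi_ci r a G hCI h1)
  haveI : Nonempty ↥(LefPen.ciIdeal G).subscheme := nonempty_of_dim_eq _ hdim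
  haveI : CompactSpace (CohB1.ProjSpace n k) := Groth.Agent.Lib.T2H5.GlobGenPn.compactSpace n k
  haveI : CompactSpace ↥(LefPen.ciIdeal G).subscheme :=
    QuasiCompact.compactSpace_of_compactSpace (LefPen.ciIdeal G).subschemeι
  haveI : QuasiSeparatedSpace (CohB1.ProjSpace n k) := by
    unfold CohB1.ProjSpace; infer_instance
  haveI : QuasiSeparatedSpace ↥(LefPen.ciIdeal G).subscheme :=
    quasiSeparatedSpace_of_quasiSeparated (LefPen.ciIdeal G).subschemeι
  refine Groth.Agent.Lib.T2H9.GammaBC.geometricallyConnected_of_appTop_surjective k _ _ ?_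
  rw [Scheme.Hom.comp_appTop]
  haveI := Groth.Agent.Lib.Helper27ProjGamma.isIso_toSpec_appTop n k
  intro c
  obtain ⟨b, rfl⟩ := hs c
  obtain ⟨a', rfl⟩ := (ConcreteCategory.bijective_of_isIso (CohB1.ProjSpace.toSpec n k).appTop).2 b
  exact ⟨a', rfl⟩

end Groth.Agent.Lib.T2H6.CISeq
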