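import Mathlib
import Groth.Agent.Lib.T2H6CISeqF
import Groth.Agent.Lib.Helper23PB
set_option backward.isDefEq.respectTransparency.types false

/-!
# The unit `E ⟶ ι_* ι^* E` of a closed subscheme versus the quotient map `E ⟶ O/I ⊗ E` (helper6)

* `unitTensorIso_hom_tm` : section formula for `O ⊗ E ≅ E`, `r ⊗ x ↦ r • x`.
* `piE_app` : `piE I E` on sections is `x ↦ [1] ⊗ x`.
* `surjective_app_top_of_same_kernel` : abstract comparison of two quotients.
* `surjective_unit_app_top` : `Γ(η_E)` is surjective as soon as `Γ(piE I E)` is, `E` invertible.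
-/

set_option autoImplicit false
set_option linter.style.haveILetI false
set_option linter.unusedSectionVars false
universe u

open CategoryTheory CategoryTheory.Limits AlgebraicGeometry TopologicalSpace Opposite MonoidalCategory
open scoped TensorProduct

namespace Groth.Agent.Lib.T2H6.CISeq

open Groth.Agent.Lib.Helper23.SecTw Groth.Agent.Lib.Helper23.GenLocus Groth.Agent.Lib.Helper6
  Groth.Agent.Lib.T2H5.Twist Groth.Agent.Lib.T1H3.ClSubSeq Groth.Agent.Lib.T2H6.AmpleCrit

variable {X : Scheme.{u}}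

/-- Section formula for the left unitor at the presheaf level. -/
theorem lam_hom_tmul (F : X.Modules) (U : X.Opens) (t : F.val.obj (op U))
    (r : X.ringCatSheaf.obj.obj (op U)) :
    ((Groth.Agent.Lib.Helper23.TensorUnit.lam F).hom.app (op U)).hom
        (((r : (Coh.structureModule X).val.obj (op U)) ⊗ₜ t :
          ↥((CohB1.tensorPre (Coh.structureModule X) F).obj (op U)))) = r • t := by
  change ((λ_ (CohB1.toPMod F)).hom.app (op U)).hom _ = _
  simp [PresheafOfModules.leftUnitor_hom_app]
  rfl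

/-- Section formula for `unitTensorIso`: `r ⊗ t ↦ r • t`. -/
theorem unitTensorIso_hom_tmul (F : X.Modules) (U : X.Opens) (t : F.val.obj (op U))
    (r : X.ringCatSheaf.obj.obj (op U)) :
    ((Groth.Agent.Lib.Helper23.TensorUnit.unitTensorIso F).hom.val.app (op U)).hom
        (SecTwist.tmul (Coh.structureModule X) F U (r : (Coh.structureModule X).val.obj (op U)) t) =
      r • t := by
  let adj := PresheafOfModules.sheafificationAdjunction.{u, u, u, u}
    (J := Opens.grothendieckTopology X) (𝟙 X.ringCatSheaf.obj)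
  let P : X.PresheafOfModules := CohB1.tensorPre (Coh.structureModule X) F
  let x : ↥((CohB1.tensorPre (Coh.structureModule X) F).obj (op U)) :=
    (r : (Coh.structureModule X).val.obj (op U)) ⊗ₜ t
  let l : P ≅ F.val := Groth.Agent.Lib.Helper23.TensorUnit.lam F
  have natU : ((adj.unit.app F.val).app (op U)).hom ((l.hom.app (op U)).hom x) =
      ((((CohB1.sheafifyMod X).map l.hom).val.app (op U)).hom
        (((adj.unit.app P).app (op U)).hom x)) :=
    congrArg (fun φ => (PresheafOfModules.Hom.app φ (op U)).hom x) (adj.unit.naturality l.hom)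
  have hl : (l.hom.app (op U)).hom x = r • t := lam_hom_tmul F U t r
  rw [hl] at natU
  have triU : (((adj.counit.app F).val.app (op U)).hom
      (((adj.unit.app F.val).app (op U)).hom (r • t))) = r • t :=
    congrArg (fun φ => (PresheafOfModules.Hom.app φ (op U)).hom (r • t)) (adj.right_triangle_components F)
  change ((((CohB1.sheafifyMod X).map l.hom ≫ adj.counit.app F).val.app (op U)).hom
      (((adj.unit.app P).app (op U)).hom x)) = r • t
  rw [← triU, natU]
  rfl

theorem lamIso_hom_app_tm (E : X.Modules) (U : X.Opens) (r : Γ(X, U)) (x : Γ(E, U)) :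
    (lamIso E).hom.app U (tm (Coh.structureModule X) E U (toS U r) x) = r • x :=
  unitTensorIso_hom_tmul E U x r

theorem lamIso_inv_app (E : X.Modules) (U : X.Opens) (x : Γ(E, U)) :
    (lamIso E).inv.app U x = tm (Coh.structureModule X) E U (toS U 1) x := by
  have h1 := lamIso_hom_app_tm E U 1 x
  rw [one_smul] at h1
  have h2 : (lamIso E).inv.app U ((lamIso E).hom.app U
      (tm (Coh.structureModule X) E U (toS U 1) x)) = tm (Coh.structureModule X) E U (toS U 1) x := by
    rw [← comp_app_apply, Iso.hom_inv_id]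
    rfl
  rw [h1] at h2
  exact h2

/-- `piE I E` on sections: `x ↦ [1] ⊗ x`. -/
theorem piE_app (I : X.IdealSheafData) (E : X.Modules) (U : X.Opens) (x : Γ(E, U)) :
    (piE I E).app U x = tm (ClSub.quotMod I) E U (cls I 1) x := by
  unfold piE
  rw [comp_app_apply, lamIso_inv_app]
  exact tensorBi_map_app_tm (ClSub.toSubscheme I) E U (toS U 1) x

/-- two quotients of `E` with the same kernels on a basis have simultaneously surjective global sections
maps. -/
theorem surjective_app_top_of_same_kernel {E A B : X.Modules} (p : E ⟶ A) (q : E ⟶ B)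
    (ℬ : Set X.Opens) (hℬ : Opens.IsBasis ℬ)
    (hp : ∀ W ∈ ℬ, Function.Surjective (p.app W))
    (hk : ∀ W ∈ ℬ, ∀ x : Γ(E, W), p.app W x = 0 ↔ q.app W x = 0)
    (hq : Function.Surjective (q.app ⊤)) : Function.Surjective (p.app ⊤) := by
  haveI : Epi p := Groth.Agent.Lib.Helper23.Serre.epi_of_locally_surjective p (fun V t x hx => by
    obtain ⟨W, hW, hxW, hWV⟩ := (Opens.isBasis_iff_nbhd.1 hℬ) hx
    obtain ⟨s, hs⟩ := hp W hW (A.presheaf.map (homOfLE hWV).op t)
    exact ⟨W, hWV, hxW, s, hs⟩)
  have h0 : kernel.ι p ≫ q = 0 := by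
    refine Groth.Agent.Helper18OmLS.hom_ext_basis _ _ ℬ hℬ ?_
    intro W hW x
    rw [comp_app_apply]
    have h1 : p.app W ((kernel.ι p).app W x) = 0 := by
      rw [← comp_app_apply, kernel.condition]
      rfl
    exact ((hk W hW _).mp h1).trans rfl
  have hθ : p ≫ Abelian.epiDesc p q h0 = q := Abelian.comp_epiDesc p q h0
  haveI : Mono (Abelian.epiDesc p q h0) :=
    Groth.Agent.Helper18OmLS.mono_of_injective_app_basis _ ℬ hℬ (fun W hW => by
      rw [injective_iff_map_eq_zero]
      intro y hy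
      obtain ⟨x, rfl⟩ := hp W hW y
      have h2 : q.app W x = 0 := by
        rw [← hθ, comp_app_apply]
        exact hy
      exact (hk W hW x).mpr h2)
  intro σ
  obtain ⟨s, hs⟩ := hq ((Abelian.epiDesc p q h0).app ⊤ σ)
  refine ⟨s, Groth.Agent.Lib.Helper23.Extend.injective_app_of_mono (Abelian.epiDesc p q h0) ⊤ ?_⟩
  rw [← comp_app_apply, hθ]
  exact hs

section Local

open Groth.Agent.Helper13PullbackUnit Groth.Agent.Lib.Helper23.PB

variable (I : X.IdealSheafData) (E : X.Modules) {W : X.Opens} (hW : IsAffineOpen W) {e : Γ(E, W)}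
  (he : IsGen E W e)

/-- the unit `E ⟶ ι_* ι^* E`. -/
noncomputable abbrev etaE : E ⟶ (Scheme.Modules.pushforward I.subschemeι).obj
    ((Scheme.Modules.pullback I.subschemeι).obj E) :=
  (Scheme.Modules.pullbackPushforwardAdjunction I.subschemeι).unit.app E

include he in
theorem exists_smul_gen (x : Γ(E, W)) : ∃ a : Γ(X, W), x = a • e := by
  obtain ⟨a, ha⟩ := (he W le_rfl).2 x
  refine ⟨a, ?_⟩
  simp only [Groth.Agent.Lib.Helper23.SecTw.res_self] at ha
  exact ha.symm

include hW he in
theorem piE_app_smul_gen_eq_zero_iff (a : Γ(X, W)) :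
    (piE I E).app W (a • e) = 0 ↔ a ∈ I.ideal ⟨W, hW⟩ := by
  rw [piE_app, tm_smul_right, ← tm_smul_left, smul_cls, mul_one]
  exact tm_gen_eq_zero_iff hW he I a

theorem etaE_app_eq_unitSec (x : Γ(E, W)) :
    (etaE I E).app W x = unitSec I.subschemeι E le_rfl x := by
  rw [unitSec_apply]
  exact (Groth.Agent.Lib.Helper23.SecTw.res_self ((Scheme.Modules.pullback I.subschemeι).obj E)
    (U := I.subschemeι ⁻¹ᵁ W) _).symm

theorem etaE_app_smul (a : Γ(X, W)) (x : Γ(E, W)) :
    (etaE I E).app W (a • x) = (I.subschemeι.app W a : Γ(I.subscheme, I.subschemeι ⁻¹ᵁ W)) •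
      (unitSec I.subschemeι E le_rfl x : Γ((Scheme.Modules.pullback I.subschemeι).obj E,
        I.subschemeι ⁻¹ᵁ W)) := by
  rw [etaE_app_eq_unitSec, unitSec_smul, Scheme.Hom.appLE_eq_app]

variable [E.IsQuasicoherent]

include hW he in
theorem etaE_app_smul_gen_eq_zero_iff (a : Γ(X, W)) :
    (etaE I E).app W (a • e) = 0 ↔ a ∈ I.ideal ⟨W, hW⟩ := by
  rw [etaE_app_smul]
  have hgen := isGen_unitSec I.subschemeι E hW e he
  have hinj := (hgen _ le_rfl).1
  simp only [Groth.Agent.Lib.Helper23.SecTw.res_self] at hinj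
  rw [← I.ker_subschemeι_app ⟨W, hW⟩, RingHom.mem_ker]
  constructor
  · intro h
    apply hinj
    simp only [zero_smul]
    exact h
  · intro h
    have h' : (I.subschemeι.app W a : Γ(I.subscheme, I.subschemeι ⁻¹ᵁ W)) = 0 := h
    rw [h']
    exact zero_smul Γ(I.subscheme, I.subschemeι ⁻¹ᵁ W)
      (unitSec I.subschemeι E le_rfl e : Γ((Scheme.Modules.pullback I.subschemeι).obj E,
        I.subschemeι ⁻¹ᵁ W))

include hW he in
theorem etaE_app_surjective : Function.Surjective ((etaE I E).app W) := by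
  intro y
  have hgen := isGen_unitSec I.subschemeι E hW e he
  obtain ⟨c, hc⟩ := (hgen _ le_rfl).2 y
  simp only [Groth.Agent.Lib.Helper23.SecTw.res_self] at hc
  obtain ⟨a, ha⟩ := I.subschemeι_app_surjective ⟨W, hW⟩ c
  refine ⟨a • e, ?_⟩
  rw [etaE_app_smul]
  have ha' : (I.subschemeι.app W a : Γ(I.subscheme, I.subschemeι ⁻¹ᵁ W)) = c := ha
  rw [ha']
  exact hc

end Local

/-- **`Γ(η_E)` is surjective as soon as `Γ(E) → Γ(O/I ⊗ E)` is, for `E` invertible.** -/
theorem surjective_unit_app_top (I : X.IdealSheafData) (E : X.Modules) (hE : PicF.IsInvertible E)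
    (h : Function.Surjective ((piE I E).app ⊤)) :
    Function.Surjective ((etaE I E).app ⊤) := by
  haveI : E.IsQuasicoherent := Groth.Agent.Lib.Helper23.SecTw.isQuasicoherent_of_isInvertible E hE
  refine surjective_app_top_of_same_kernel (etaE I E) (piE I E)
    {W | IsAffineOpen W ∧ ∃ e : Γ(E, W), IsGen E W e}
    (Groth.Agent.Lib.T2H6.NegVan.isBasis_gen E hE) ?_ ?_ h
  · rintro W ⟨hW, e, he⟩
    exact etaE_app_surjective I E hW he
  · rintro W ⟨hW, e, he⟩ x
    obtain ⟨a, rfl⟩ := exists_smul_gen E he x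
    rw [etaE_app_smul_gen_eq_zero_iff I E hW he, piE_app_smul_gen_eq_zero_iff I E hW he]

end Groth.Agent.Lib.T2H6.CISeq
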