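import Mathlib
import Groth.Agent.Lib.T2H6CISeqG
import Groth.Agent.Lib.T2H9GenusOne
set_option backward.isDefEq.respectTransparency.types false

/-!
# The zero scheme of a pulled back section (helper6)

For an affine morphism `f : Y ⟶ X`, an invertible module `L` on `X` and a section `s : O_X ⟶ L`:

* `pbSec f L s : O_Y ⟶ f^* L` : the pulled back section.
* `ideal_zeroScheme_pbSec` : on `f⁻¹ W` (`W` affine with a generator `e` of `L`, `s = c • e`) the zero scheme of the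
  pulled back section is generated by `f^♯ c`.
* `comap_zeroScheme` : `(Z(s)).comap f = Z(f^* s)`.
-/

set_option autoImplicit false
set_option linter.style.haveILetI false
set_option linter.unusedSectionVars false
universe u

open CategoryTheory CategoryTheory.Limits AlgebraicGeometry TopologicalSpace Opposite

namespace Groth.Agent.Lib.T2H6.CIPull

open Groth.Agent.Lib.Helper23.SecTw Groth.Agent.Lib.Helper23.GenLocus Groth.Agent.Lib.Helper6
  Groth.Agent.Lib.Helper23.PB Groth.Agent.Helper13PullbackUnit Groth.Agent.Lib.T2H3.ZeroScheme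
  Groth.Agent.Lib.Helper23.Extend

variable {X Y : Scheme.{u}} (f : Y ⟶ X) (L : X.Modules) (hL : PicF.IsInvertible L)
  (s : Coh.structureModule X ⟶ L)

/-- the pulled back section `O_Y ⟶ f^* L`. -/
noncomputable def pbSec : Coh.structureModule Y ⟶ (Scheme.Modules.pullback f).obj L :=
  (pullbackUnitIso f).inv ≫ (Scheme.Modules.pullback f).map s

include hL in
/-- the pulled back section in a pulled back frame. -/
theorem exists_unit_sv_pbSec {W : X.Opens} (hW : IsAffineOpen W) {ε : Γ(L, W)} (hε : IsGen L W ε)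
    {c : Γ(X, W)} (hcs : sv s W = c • ε) :
    ∃ α : Γ(Y, f ⁻¹ᵁ W), IsUnit α ∧
      sv (pbSec f L s) (f ⁻¹ᵁ W) = (α * f.app W c) • unitSec f L le_rfl ε := by
  haveI : L.IsQuasicoherent := isQuasicoherent_of_isInvertible L hL
  haveI : (Coh.structureModule X).IsQuasicoherent :=
    Groth.Agent.Lib.Helper23.Serre.isQuasicoherent_structureModule' X
  set e : Coh.structureModule Y ≅ (Scheme.Modules.pullback f).obj (Coh.structureModule X) :=
    (pullbackUnitIso f).symm with he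
  have hσ := isGen_unitSec f L hW ε hε
  have hω := isGen_unitSec f (Coh.structureModule X) hW (toS W 1) (isGen_one W)
  have hγ : IsGen ((Scheme.Modules.pullback f).obj (Coh.structureModule X)) (f ⁻¹ᵁ W)
      (e.hom.app (f ⁻¹ᵁ W) (toS (f ⁻¹ᵁ W) 1)) := isGen_of_iso e (isGen_one (f ⁻¹ᵁ W))
  obtain ⟨α, hα⟩ : ∃ α : Γ(Y, f ⁻¹ᵁ W),
      α = coef hω le_rfl (e.hom.app (f ⁻¹ᵁ W) (toS (f ⁻¹ᵁ W) 1)) := ⟨_, rfl⟩
  have hαu : IsUnit α := hα ▸ isUnit_coef_of_isGen hω hγ
  have hαs : α • unitSec f (Coh.structureModule X) le_rfl (toS W 1) =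
      e.hom.app (f ⁻¹ᵁ W) (toS (f ⁻¹ᵁ W) 1) := by
    have := coef_spec hω le_rfl (e.hom.app (f ⁻¹ᵁ W) (toS (f ⁻¹ᵁ W) 1))
    rw [res_self] at this
    rw [hα]
    exact this
  refine ⟨α, hαu, ?_⟩
  change sv (e.hom ≫ (Scheme.Modules.pullback f).map s) (f ⁻¹ᵁ W) = _
  rw [sv_comp]
  change ((Scheme.Modules.pullback f).map s).app (f ⁻¹ᵁ W)
    (e.hom.app (f ⁻¹ᵁ W) (toS (f ⁻¹ᵁ W) 1)) = _
  rw [← hαs, Scheme.Modules.Hom.app_smul, map_unitSec, mul_smul]
  congr 1
  have h1 : s.app W (toS W 1) = c • ε := hcs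
  rw [h1, unitSec_smul, Scheme.Hom.appLE_eq_app]

include hL in
/-- the ideal of the zero scheme of the pulled back section on `f⁻¹ W`. -/
theorem ideal_zeroScheme_pbSec {W : X.Opens} (hW : IsAffineOpen W) (hW' : IsAffineOpen (f ⁻¹ᵁ W))
    {ε : Γ(L, W)} (hε : IsGen L W ε) {c : Γ(X, W)} (hcs : sv s W = c • ε) :
    (PicF2.zeroScheme ((Scheme.Modules.pullback f).obj L) (pbSec f L s)).ideal ⟨f ⁻¹ᵁ W, hW'⟩ =
      Ideal.span {(f.app W c : Γ(Y, f ⁻¹ᵁ W))} := by
  haveI : L.IsQuasicoherent := isQuasicoherent_of_isInvertible L hL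
  obtain ⟨α, hαu, hsv⟩ := exists_unit_sv_pbSec f L hL s hW hε hcs
  rw [zeroScheme_ideal _ _ (isInvertible_pullback f L hL) ⟨f ⁻¹ᵁ W, hW'⟩]
  rw [zI_eq_span _ _ (isGen_unitSec f L hW ε hε) hsv]
  exact Ideal.span_singleton_mul_left_unit hαu _

include hL in
theorem iSup_aFr : ⨆ p : AFr L, p.1.1 = (⊤ : X.Opens) := by
  rw [eq_top_iff]
  intro y _
  obtain ⟨W, e, hyW, hW, he⟩ := exists_affine_gen L hL y
  exact Opens.mem_iSup.mpr ⟨⟨⟨W, e⟩, hW, he⟩, hyW⟩

include hL in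
/-- **the zero scheme of the pulled back section is the pullback of the zero scheme** (affine morphisms). -/
theorem comap_zeroScheme [IsAffineHom f] :
    (PicF2.zeroScheme L s).comap f =
      PicF2.zeroScheme ((Scheme.Modules.pullback f).obj L) (pbSec f L s) := by
  have hcov := iSup_aFr L hL
  have hcov' : ⨆ p : AFr L, ((⟨f ⁻¹ᵁ p.1.1, p.2.1.preimage f⟩ : Y.affineOpens) : Y.Opens) = ⊤ := by
    rw [eq_top_iff]
    intro y _
    have hy : f y ∈ (⊤ : X.Opens) := trivial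
    rw [← hcov, Opens.mem_iSup] at hy
    obtain ⟨p, hp⟩ := hy
    exact Opens.mem_iSup.mpr ⟨p, hp⟩
  have hloc : ∀ p : AFr L, ∃ c : Γ(X, p.1.1), sv s p.1.1 = c • p.1.2 ∧
      (PicF2.zeroScheme L s).ideal ⟨p.1.1, p.2.1⟩ = Ideal.span {c} ∧
      (PicF2.zeroScheme ((Scheme.Modules.pullback f).obj L) (pbSec f L s)).ideal
        ⟨f ⁻¹ᵁ p.1.1, p.2.1.preimage f⟩ = Ideal.span {(f.app p.1.1 c : Γ(Y, f ⁻¹ᵁ p.1.1))} := by
    intro p
    have hc := sv_eq_coef_smul s p.2.2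
    refine ⟨_, hc, ?_, ideal_zeroScheme_pbSec f L hL s p.2.1 (p.2.1.preimage f) p.2.2 hc⟩
    rw [zeroScheme_ideal L s hL ⟨p.1.1, p.2.1⟩]
    exact zI_eq_span L s p.2.2 hc
  apply le_antisymm
  · rw [← Scheme.IdealSheafData.le_map_iff_comap_le]
    refine Scheme.IdealSheafData.le_of_iSup_eq_top
      (fun p : AFr L => (⟨p.1.1, p.2.1⟩ : X.affineOpens)) hcov (fun p => ?_)
    obtain ⟨c, -, h1, h2⟩ := hloc p
    rw [Scheme.IdealSheafData.ideal_map_of_isAffineHom, h1, h2, Ideal.span_le]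
    intro x hx
    rw [Set.mem_singleton_iff] at hx
    rw [hx]
    exact Ideal.subset_span (Set.mem_singleton _)
  · refine Scheme.IdealSheafData.le_of_iSup_eq_top
      (fun p : AFr L => (⟨f ⁻¹ᵁ p.1.1, p.2.1.preimage f⟩ : Y.affineOpens)) hcov' (fun p => ?_)
    obtain ⟨c, -, h1, h2⟩ := hloc p
    rw [h2, Ideal.span_le]
    intro x hx
    rw [Set.mem_singleton_iff] at hx
    rw [hx]
    have h3 := Scheme.IdealSheafData.le_map_comap (PicF2.zeroScheme L s) f ⟨p.1.1, p.2.1⟩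
    rw [Scheme.IdealSheafData.ideal_map_of_isAffineHom, h1, Ideal.span_le] at h3
    exact h3 (Set.mem_singleton c)

section Closed

variable (I : X.IdealSheafData)

/-- preimages of a basis under the closed immersion of a subscheme form a basis. -/
theorem isBasis_preimage (ℬ : Set X.Opens) (hℬ : Opens.IsBasis ℬ) :
    Opens.IsBasis {U : I.subscheme.Opens | ∃ W ∈ ℬ, U = I.subschemeι ⁻¹ᵁ W} := by
  rw [Opens.isBasis_iff_nbhd]
  intro U y hy
  obtain ⟨V, hVo, hVU⟩ := I.subschemeι.isClosedEmbedding.isInducing.isOpen_iff.mp U.isOpen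
  have hyV : I.subschemeι y ∈ (⟨V, hVo⟩ : X.Opens) := by
    have : y ∈ I.subschemeι ⁻¹' V := by rw [hVU]; exact hy
    exact this
  obtain ⟨W, hW, hyW, hWV⟩ := (Opens.isBasis_iff_nbhd.1 hℬ) hyV
  refine ⟨I.subschemeι ⁻¹ᵁ W, ⟨W, hW, rfl⟩, hyW, ?_⟩
  intro z hz
  have : z ∈ I.subschemeι ⁻¹' V := hWV hz
  rw [hVU] at this
  exact this

include hL in
/-- the pulled back section on a closed subscheme is a monomorphism as soon as, locally, the coefficient of `s` is
a non-zero-divisor modulo the ideal. -/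
theorem mono_pbSec (ℬ : Set X.Opens) (hℬ : Opens.IsBasis ℬ)
    (hreg : ∀ W ∈ ℬ, ∃ (hW : IsAffineOpen W) (e : Γ(L, W)) (c : Γ(X, W)), IsGen L W e ∧
      sv s W = c • e ∧ ∀ b : Γ(X, W), c * b ∈ I.ideal ⟨W, hW⟩ → b ∈ I.ideal ⟨W, hW⟩) :
    Mono (pbSec I.subschemeι L s) := by
  haveI : L.IsQuasicoherent := isQuasicoherent_of_isInvertible L hL
  refine Groth.Agent.Helper18OmLS.mono_of_injective_app_basis _ _ (isBasis_preimage I ℬ hℬ) ?_
  rintro U ⟨W, hW, rfl⟩
  obtain ⟨hWa, e, c, he, hc, hreg'⟩ := hreg W hW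
  obtain ⟨α, hαu, hsv⟩ := exists_unit_sv_pbSec I.subschemeι L hL s hWa he hc
  have hgen := isGen_unitSec I.subschemeι L hWa e he
  have hinj := (hgen _ le_rfl).1
  simp only [res_self] at hinj
  rw [injective_iff_map_eq_zero]
  intro x hx
  obtain ⟨b, rfl⟩ : ∃ b : Γ(I.subscheme, I.subschemeι ⁻¹ᵁ W), toS _ b = x := ⟨ofS _ x, rfl⟩
  rw [app_toS, hsv, ← mul_smul] at hx
  have h1 : b * (α * (I.subschemeι.app W c : Γ(I.subscheme, I.subschemeι ⁻¹ᵁ W))) = 0 := by
    apply hinj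
    simp only [zero_smul]
    exact hx
  have h2 : b * (I.subschemeι.app W c : Γ(I.subscheme, I.subschemeι ⁻¹ᵁ W)) = 0 := by
    have h3 : α * (b * (I.subschemeι.app W c : Γ(I.subscheme, I.subschemeι ⁻¹ᵁ W))) = 0 := by
      rw [← h1]; ring
    exact (hαu.mul_right_eq_zero).mp h3
  obtain ⟨b', hb'⟩ := I.subschemeι_app_surjective ⟨W, hWa⟩ b
  have hb'' : (I.subschemeι.app W b' : Γ(I.subscheme, I.subschemeι ⁻¹ᵁ W)) = b := hb'
  have h4 : c * b' ∈ I.ideal ⟨W, hWa⟩ := by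
    rw [← I.ker_subschemeι_app ⟨W, hWa⟩, RingHom.mem_ker, map_mul, mul_comm]
    rw [← hb''] at h2
    exact h2
  have h5 := hreg' b' h4
  rw [← I.ker_subschemeι_app ⟨W, hWa⟩, RingHom.mem_ker] at h5
  have h6 : b = 0 := by rw [← hb'']; exact h5
  rw [h6]
  rfl

include hL in
/-- the ideal module of the inverse image of `Z(s)` in the closed subscheme `V(I)` is inverse to `ι^* L`, provided
`s` is locally a non-zero-divisor modulo `I`. -/
theorem nonempty_tensor_idealMod_comap_iso (ℬ : Set X.Opens) (hℬ : Opens.IsBasis ℬ)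
    (hreg : ∀ W ∈ ℬ, ∃ (hW : IsAffineOpen W) (e : Γ(L, W)) (c : Γ(X, W)), IsGen L W e ∧
      sv s W = c • e ∧ ∀ b : Γ(X, W), c * b ∈ I.ideal ⟨W, hW⟩ → b ∈ I.ideal ⟨W, hW⟩) :
    Nonempty (CohB1.tensorMod (ClSub.idealMod ((PicF2.zeroScheme L s).comap I.subschemeι))
      ((Scheme.Modules.pullback I.subschemeι).obj L) ≅ Coh.structureModule I.subscheme) := by
  haveI := mono_pbSec L hL s I ℬ hℬ hreg
  rw [comap_zeroScheme I.subschemeι L hL s]
  exact Groth.Agent.Lib.T2H6.NegVan.nonempty_tensor_idealMod_zeroScheme_iso _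
    (isInvertible_pullback I.subschemeι L hL) (pbSec I.subschemeι L s)

include hL in
/-- if moreover `M ⊗ L ≅ O_X` for an invertible `M`, the ideal module is `ι^* M`. -/
theorem nonempty_idealMod_comap_iso (ℬ : Set X.Opens) (hℬ : Opens.IsBasis ℬ)
    (hreg : ∀ W ∈ ℬ, ∃ (hW : IsAffineOpen W) (e : Γ(L, W)) (c : Γ(X, W)), IsGen L W e ∧
      sv s W = c • e ∧ ∀ b : Γ(X, W), c * b ∈ I.ideal ⟨W, hW⟩ → b ∈ I.ideal ⟨W, hW⟩)
    (M : X.Modules) (hM : PicF.IsInvertible M)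
    (eM : CohB1.tensorMod M L ≅ Coh.structureModule X) :
    Nonempty (ClSub.idealMod ((PicF2.zeroScheme L s).comap I.subschemeι) ≅
      (Scheme.Modules.pullback I.subschemeι).obj M) := by
  obtain ⟨e1⟩ := nonempty_tensor_idealMod_comap_iso L hL s I ℬ hℬ hreg
  obtain ⟨e2⟩ := nonempty_pullback_tensorMod_iso I.subschemeι M L hM hL
  have e3 : CohB1.tensorMod ((Scheme.Modules.pullback I.subschemeι).obj M)
      ((Scheme.Modules.pullback I.subschemeι).obj L) ≅ Coh.structureModule I.subscheme :=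
    e2.symm ≪≫ (Scheme.Modules.pullback I.subschemeι).mapIso eM ≪≫ pullbackUnitIso I.subschemeι
  exact Groth.Agent.Lib.T2H9.GenusOne.nonempty_iso_of_tensor_iso
    (isInvertible_pullback I.subschemeι L hL) (e1 ≪≫ e3.symm)

end Closed

end Groth.Agent.Lib.T2H6.CIPull
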