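import Mathlib
import Groth.Agent.Lib.T2H6CIPullA
set_option backward.isDefEq.respectTransparency.types false

/-!
# The ideal of a complete intersection inside the previous one (helper6)

`X = V(G_0, …, G_r) ⊆ Y = V(G_0, …, G_{r-1}) ⊆ P^n_k` complete intersections: the ideal module of `X` in `Y` is
`ι_Y^* O(-a_r)`.
-/

set_option autoImplicit false
set_option linter.style.haveILetI false
set_option linter.unusedSectionVars false
universe u

open CategoryTheory CategoryTheory.Limits AlgebraicGeometry TopologicalSpace Opposite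

namespace Groth.Agent.Lib.T2H6.CIPull

open Groth.Agent.Lib.Helper23.SecTw Groth.Agent.Lib.Helper23.GenLocus Groth.Agent.Lib.Helper6
  Groth.Agent.Lib.T2H6.HypBridge Groth.Agent.Lib.T2H6.CIAlg Groth.Agent.Lib.T2H6.CIDim
  Groth.Agent.Lib.T2H6.CISeq Groth.Agent.Lib.T2H5.Twist

variable {k : Type u} [Field k] {n : ℕ}

/-- the regularity hypothesis for the last form of a complete intersection, on affine opens inside charts. -/
theorem hreg_ci {r : ℕ} {a : Fin (r + 1) → ℕ} (G : ∀ j, LefPen.Form n k (a j))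
    (hCI : IsCI k n (fun j => (G j : MvPolynomial (Fin (n + 1)) k))) :
    ∀ W ∈ chartBasis n k, ∃ (hW : IsAffineOpen W)
      (e : Γ(Twist.twistProjSpace n k (a (Fin.last r) : ℤ), W)) (c : Γ(CohB1.ProjSpace n k, W)),
      IsGen (Twist.twistProjSpace n k (a (Fin.last r) : ℤ)) W e ∧
      sv (formHom (G (Fin.last r))) W = c • e ∧
      ∀ b : Γ(CohB1.ProjSpace n k, W),
        c * b ∈ (LefPen.ciIdeal (fun j : Fin r => G j.castSucc)).ideal ⟨W, hW⟩ →
        b ∈ (LefPen.ciIdeal (fun j : Fin r => G j.castSucc)).ideal ⟨W, hW⟩ := by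
  rintro W ⟨hWa, i, hW⟩
  refine ⟨hWa, res _ hW (chartFrame (k := k) i (a (Fin.last r))),
    resf hW (LefPen.dehom (G (Fin.last r)) i), (isGen_chartFrame i _).mono hW,
    sv_formHom_of_le_chart (G (Fin.last r)) i hW, ?_⟩
  intro b hb
  rw [ideal_ciIdeal_of_le_chart (fun j : Fin r => G j.castSucc) i ⟨W, hWa⟩ hW] at hb ⊢
  exact mem_span_of_resf_dehom_mul_mem G hCI i hWa hW b hb

/-- **the ideal of `V(G_0, …, G_r)` inside `Y = V(G_0, …, G_{r-1})` is `ι_Y^* O(-a_r)`.** -/
theorem nonempty_idealMod_comap_ci {r : ℕ} {a : Fin (r + 1) → ℕ} (G : ∀ j, LefPen.Form n k (a j))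
    (hCI : IsCI k n (fun j => (G j : MvPolynomial (Fin (n + 1)) k))) :
    Nonempty (ClSub.idealMod ((LefPen.hypIdeal (G (Fin.last r))).comap
        (LefPen.ciIdeal (fun j : Fin r => G j.castSucc)).subschemeι) ≅
      (Scheme.Modules.pullback (LefPen.ciIdeal (fun j : Fin r => G j.castSucc)).subschemeι).obj
        (Twist.twistProjSpace n k (-(a (Fin.last r) : ℤ)))) := by
  rw [hypIdeal_eq_zeroScheme]
  obtain ⟨e2⟩ := nonempty_twist_tensor_iso n k (-(a (Fin.last r) : ℤ)) (a (Fin.last r) : ℤ) 0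
    (by omega)
  obtain ⟨e3⟩ := nonempty_twist_zero_iso n k
  exact nonempty_idealMod_comap_iso (Twist.twistProjSpace n k (a (Fin.last r) : ℤ))
    (isInvertible_twist n k _) (formHom (G (Fin.last r)))
    (LefPen.ciIdeal (fun j : Fin r => G j.castSucc)) (chartBasis n k) isBasis_chartBasis
    (hreg_ci G hCI) (Twist.twistProjSpace n k (-(a (Fin.last r) : ℤ))) (isInvertible_twist n k _)
    (e2 ≪≫ e3)

end Groth.Agent.Lib.T2H6.CIPull
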