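import Mathlib
import Groth.Agent.Lib.T2H6CMConvC
import Groth.Agent.Lib.Helper5CM

/-!
# The converse Cohen–Macaulay criterion for closed subschemes of `P^N_k` (T2H6)

* `isCM_of_hasProjectiveDimensionLT`: a quotient `C` of a regular local ring `A` of dimension `N`
  with `dim C ≤ n` and `pd_A C ≤ N - n` is Cohen–Macaulay of dimension `n`.
* `cm_of_pdLT_pushO`: if the stalks of `ι_* O_X` at closed points have projective dimension
  `≤ N - dim X` then the local rings of `X` at closed points are Cohen–Macaulay of dimension `dim X`.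
* `cm_of_vanishing`: **Hartshorne III.7.6, (b) ⟹ (a)**: if `H^j(X, O_X(-m)) = 0` for `j < dim X` and
  `m ≫ 0` then `X` is Cohen–Macaulay and equidimensional.
-/

set_option autoImplicit false
set_option linter.style.haveILetI false
universe u

open CategoryTheory CategoryTheory.Limits Abelian AlgebraicGeometry

namespace Groth.Agent.Lib.T2H6.CMConv

open Groth.Agent.Lib.T2H6.CM Groth.Agent.Lib.T2H6.LocGlob Groth.Agent.Lib.T2H6.SDual

section Alg

variable (A : Type u) [CommRing A] [IsRegularLocalRing A]

/-- a quotient `C` of a regular local ring `A` of dimension `N` with `dim C ≤ n` and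
`pd_A C ≤ N - n` is Cohen–Macaulay of dimension `n`. -/
theorem isCM_of_hasProjectiveDimensionLT (N n : ℕ) (hnN : n ≤ N)
    (hA : ringKrullDim A = (N : WithBot ℕ∞))
    (C : Type u) [CommRing C] [IsLocalRing C]
    (hC : ringKrullDim C ≤ (n : WithBot ℕ∞))
    (f : A →+* C) (hf : Function.Surjective f)
    (W : Type u) [AddCommGroup W] [Module A W] (σ : W →+ C) (hσ : Function.Bijective σ)
    (hσs : ∀ (a : A) (w : W), σ (a • w) = f a * σ w)
    (hpd : HasProjectiveDimensionLT (ModuleCat.of A W) (N - n + 1)) :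
    LocCoh.IsCohenMacaulayLocalRing C ∧ ringKrullDim C = (n : WithBot ℕ∞) := by
  haveI : IsNoetherianRing A := inferInstance
  haveI : IsLocalRing A := inferInstance
  haveI : IsNoetherianRing C := isNoetherianRing_of_surjective A C f hf
  letI : Algebra A C := f.toAlgebra
  haveI : IsLocalHom (algebraMap A C) := IsLocalHom.of_surjective f hf
  haveI : Module.Finite A C := Module.Finite.of_surjective (Algebra.linearMap A C) hf
  let σL : W →ₗ[A] C :=
    { toFun := σ
      map_add' := σ.map_add
      map_smul' := fun a w => by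
        rw [RingHom.id_apply, hσs a w]
        rfl }
  let eL : W ≃ₗ[A] C := LinearEquiv.ofBijective σL hσ
  have hpdC : HasProjectiveDimensionLT (ModuleCat.of A C) (N - n + 1) :=
    hasProjectiveDimensionLT_of_iso eL.toModuleIso _
  have hne : ¬ IsZero (ModuleCat.of A C) := by
    intro hz
    have : Subsingleton C := ModuleCat.subsingleton_of_isZero hz
    exact not_subsingleton C this
  obtain ⟨e', he'⟩ : ∃ e' : ℕ, projectiveDimension (ModuleCat.of A C) = (e' : WithBot ℕ∞) := by
    have h1 : projectiveDimension (ModuleCat.of A C) ≠ ⊥ := by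
      rw [Ne, projectiveDimension_eq_bot_iff]
      exact hne
    have h2 : projectiveDimension (ModuleCat.of A C) < ((N - n + 1 : ℕ) : WithBot ℕ∞) :=
      projectiveDimension_lt_iff.2 hpdC
    generalize projectiveDimension (ModuleCat.of A C) = D at h1 h2
    induction D with
    | bot => exact absurd rfl h1
    | coe D =>
      induction D with
      | top => exact absurd h2 (by simp)
      | coe D => exact ⟨D, rfl⟩
  have he'le : e' ≤ N - n := by
    have h2 : projectiveDimension (ModuleCat.of A C) < ((N - n + 1 : ℕ) : WithBot ℕ∞) :=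
      projectiveDimension_lt_iff.2 hpdC
    rw [he'] at h2
    have h3 : e' < N - n + 1 := by exact_mod_cast h2
    omega
  have hAB : LocCoh.depth A A = (e' : ℕ∞) + LocCoh.depth A C :=
    Groth.Agent.S0604.result A C e' he'
  have hdA : LocCoh.depth A A = (N : ℕ∞) := by
    have h := Groth.Agent.Lib.Helper6.SmDim.ringKrullDim_eq_depth_of_isRegularLocalRing A
    rw [hA] at h
    exact_mod_cast h.symm
  rw [hdA] at hAB
  have hdCC : LocCoh.depth A C = LocCoh.depth C C :=
    Groth.Agent.Lib.Helper28.depth_eq_depth_of_isLocalHom_of_finite (A := A) (B := C) (M := C)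
  rw [hdCC] at hAB
  obtain ⟨δ, hδ⟩ : ∃ δ : ℕ, LocCoh.depth C C = (δ : ℕ∞) := by
    generalize LocCoh.depth C C = D at hAB
    induction D with
    | top => simp at hAB
    | coe δ => exact ⟨δ, rfl⟩
  rw [hδ] at hAB
  have hnat : N = e' + δ := by exact_mod_cast hAB
  have hle : ((LocCoh.depth C C : ℕ∞) : WithBot ℕ∞) ≤ Module.supportDim C C :=
    Groth.Agent.Lib.Helper5.depth_le_supportDim
  rw [Module.supportDim_self_eq_ringKrullDim, hδ] at hle
  have hδn : δ ≤ n := by
    have := hle.trans hC
    exact_mod_cast this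
  have hδeq : δ = n := by omega
  have hdim : ringKrullDim C = (n : WithBot ℕ∞) := by
    apply le_antisymm hC
    rw [← hδeq]
    exact hle
  refine ⟨⟨?_⟩, hdim⟩
  rw [Module.supportDim_self_eq_ringKrullDim, hdim, hδ, hδeq]
  rfl

end Alg

section Push

open Groth.Agent.Lib.Helper4.NormDelta Groth.Agent.Lib.T2H4.ClosedImmLen
  Groth.Agent.Lib.Helper23.UnitStalk

variable (N : ℕ) (k : Type u) [Field k] {X : Scheme.{u}}
  (ι : X ⟶ CohB1.ProjSpace N k) [IsClosedImmersion ι]

include ι in
/-- the dimension of a closed subscheme of `P^N_k` is at most `N`. -/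
theorem dim_le_of_closed (n : ℕ) (hn : topologicalKrullDim ↥X = n) : n ≤ N := by
  have h1 : topologicalKrullDim ↥X ≤ topologicalKrullDim ↥(CohB1.ProjSpace N k) :=
    ι.isClosedEmbedding.isInducing.topologicalKrullDim_le
  have h2 : topologicalKrullDim ↥(CohB1.ProjSpace N k) = (N : WithBot ℕ∞) :=
    Groth.Agent.Lib.Helper27ProjDim.main k N
  rw [h2, hn] at h1
  exact_mod_cast h1

/-- if the stalks of `ι_* O_X` at closed points have projective dimension `≤ N - dim X` then the
local rings of `X` at closed points are Cohen–Macaulay of dimension `dim X`. -/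
theorem cm_of_pdLT_pushO (n : ℕ) (hn : topologicalKrullDim ↥X = n)
    (hpd : PdLT ((Scheme.Modules.pushforward ι).obj (Coh.structureModule X)) (N - n + 1)) :
    ∀ x : X, IsClosed ({x} : Set ↥X) →
      LocCoh.IsCohenMacaulayLocalRing (X.presheaf.stalk x) ∧
        ringKrullDim (X.presheaf.stalk x) = n := by
  intro y hy
  have hnN : n ≤ N := dim_le_of_closed N k ι n hn
  have hx : IsClosed ({ι y} : Set ↥(CohB1.ProjSpace N k)) := by
    have := ι.isClosedEmbedding.isClosedMap _ hy
    rwa [Set.image_singleton] at this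
  haveI := isRegularLocalRing_stalk_projSpace N k (ι y)
  have hA := ringKrullDim_stalk_projSpace_of_isClosed N k (ι y) hx
  have hC : ringKrullDim (X.presheaf.stalk y) ≤ (n : WithBot ℕ∞) := by
    have := ringKrullDim_stalk_le X y
    rwa [hn] at this
  let σ : (pushO ι).presheaf.stalk (ι y) →+ X.presheaf.stalk y :=
    (unitStalkEquiv y).symm.toLinearMap.toAddMonoidHom.comp (cmp ι y).hom
  have hσ : Function.Bijective σ :=
    (unitStalkEquiv y).symm.bijective.comp (cmp_bijective ι y)
  have hσs : ∀ (a : (CohB1.ProjSpace N k).presheaf.stalk (ι y))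
      (w : (pushO ι).presheaf.stalk (ι y)), σ (a • w) = (ι.stalkMap y).hom a * σ w := by
    intro a w
    change (unitStalkEquiv y).symm ((cmp ι y).hom (a • w)) =
      (ι.stalkMap y).hom a * (unitStalkEquiv y).symm ((cmp ι y).hom w)
    rw [cmp_smul, map_smul, smul_eq_mul]
  exact isCM_of_hasProjectiveDimensionLT
    ((CohB1.ProjSpace N k).presheaf.stalk (ι y)) N n hnN hA (X.presheaf.stalk y) hC
    (ι.stalkMap y).hom (ι.stalkMap_surjective y) _ σ hσ hσs (hpd (ι y) hx)

open Groth.Agent.Lib.Helper21.ExtShDelta in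
attribute [local instance] Groth.Agent.Lib.Helper21.ExtShDelta.hasSheafHom in
/-- **Hartshorne III.7.6, (b) ⟹ (a)**: if `H^j(X, O_X(-m)) = 0` for `j < dim X` and `m ≫ 0` then the
local rings of `X` at closed points are Cohen–Macaulay of dimension `dim X`. -/
theorem cm_of_vanishing (n : ℕ) (hn : topologicalKrullDim ↥X = n)
    (hv : ∀ j : ℕ, j < n → ∃ m₀ : ℤ, ∀ m : ℤ, m₀ ≤ m → Subsingleton (Coh.HH X
      ((Scheme.Modules.pullback ι).obj (Twist.twistProjSpace N k (-m))) j)) :
    ∀ x : X, IsClosed ({x} : Set ↥X) →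
      LocCoh.IsCohenMacaulayLocalRing (X.presheaf.stalk x) ∧
        ringKrullDim (X.presheaf.stalk x) = n := by
  haveI := Groth.Agent.Lib.Helper21.ModTensor3.isGrothendieckAbelian (CohB1.ProjSpace N k).sheaf
  haveI : HasInjectiveResolutions (ModSite.Mod (CohB1.ProjSpace N k).sheaf) := inferInstance
  have hnN : n ≤ N := dim_le_of_closed N k ι n hn
  have hO : Coh.IsCoh (Coh.structureModule X) := Groth.Agent.Lib.T2H5.GenIsoF.isCoh_structureModule
  have hB : Coh.IsCoh ((Scheme.Modules.pushforward ι).obj (Coh.structureModule X)) :=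
    Groth.Agent.Lib.T2H5.ClosedTransfer.isCoh_pushforward ι _ hO
  apply cm_of_pdLT_pushO N k ι n hn
  refine pdLT_of_isZero_EE N k _ hB (N - n) (fun t ht => ?_)
  by_cases htN : t ≤ N
  · have := (closed_vanishing_iff_isZero_EE N k ι (N - t) (Nat.sub_le _ _)).1
      (hv (N - t) (by omega))
    rwa [Nat.sub_sub_self htN] at this
  · exact isZero_extSh_of_pdLT N k _ N _ hB (pdLT_projSpace N k _) t (by omega)

end Push

end Groth.Agent.Lib.T2H6.CMConv
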