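import Mathlib
import Groth.Agent.Lib.T2H6CMConvD
import Groth.Agent.Lib.T2H6DualSubC

/-!
# Vanishing of the cohomology of negative twists on Cohen–Macaulay closed subschemes of `P^N_k` (T2H6)

* `exists_subsingleton_ext_Lm_neg`: `Ext^q(F(-d), ω) = 0` for `F` finite locally free, `q ≥ 1`, `d ≫ 0`.
* `existsUnique_of_bijective_dualityMap`: the "exists unique" form of a dualizing pair.
* `vanishing_of_cm`: **Hartshorne III.7.6, (a) ⟹ (b)**.
-/

set_option autoImplicit false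
set_option linter.style.haveILetI false
universe u

open CategoryTheory CategoryTheory.Limits Abelian AlgebraicGeometry

namespace Groth.Agent.Lib.T2H6.CMConv

open Groth.Agent.Lib.T2H6.CM Groth.Agent.Lib.T2H6.LocGlob Groth.Agent.Lib.T2H6.SDual
  Groth.Agent.Lib.T2H6.ExtDual

variable (k : Type u) [Field k] (N n : ℕ) (X : Scheme.{u}) [X.Over (Spec (CommRingCat.of k))]
  (ι : X ⟶ CohB1.ProjSpace N k) [IsClosedImmersion ι]
  (hι : ι ≫ CohB1.ProjSpace.toSpec N k = X ↘ Spec (CommRingCat.of k))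

include hι in
/-- `Ext^q(F(-d), ω) = 0` for `F` finite locally free, `q ≥ 1`, `d ≫ 0`. -/
theorem exists_subsingleton_ext_Lm_neg [HasInjectiveResolutions (ModSite.Mod X.sheaf)]
    [HasExt.{u} X.Modules] (F ω : X.Modules) (hF : FlatMod.IsFinLocFree F) (hFc : Coh.IsCoh F)
    (hω : Coh.IsCoh ω) :
    ∃ d₀ : ℤ, ∀ d : ℤ, d₀ ≤ d → ∀ q : ℕ, 1 ≤ q →
      Subsingleton (Ext (CohB1.tensorMod F (Lm k N ι (-d))) ω q) := by
  obtain ⟨d₀, hd₀⟩ := exists_vanishing_ext_locFree k N ι hι F ω hF hFc hω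
  refine ⟨d₀, fun d hd q hq => ?_⟩
  obtain ⟨e⟩ := nonempty_Lm_inv_iso k N ι (-d) d (by omega)
  obtain ⟨e'⟩ := nonempty_Lm_inv_iso k N ι d (-d) (by omega)
  rw [subsingleton_ext_tensor_iff F ω (Lm k N ι d) (Lm k N ι (-d)) e e' q]
  exact hd₀ d hd q hq

omit [IsClosedImmersion ι] in
/-- the "exists unique" form of a dualizing pair. -/
theorem existsUnique_of_bijective_dualityMap (r : ℕ) (ω : X.Modules) (t : Coh.HH X ω r →ₗ[k] k)
    (G : X.Modules) (h : Function.Bijective (Canon.dualityMap k X r ω t G))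
    (ψ : Coh.HH X G r →ₗ[k] k) :
    ∃! φ : G ⟶ ω, ∀ x : Coh.HH X G r,
      ψ x = t (Sheaf.H.map ((SheafOfModules.toSheaf X.ringCatSheaf).map φ) r x) := by
  obtain ⟨φ, hφ⟩ := h.2 ψ
  refine ⟨φ, fun x => ?_, fun φ' hφ' => ?_⟩
  · rw [← hφ]
    rfl
  · apply h.1
    rw [hφ]
    ext x
    exact (hφ' x).symm

include hι in
/-- **Hartshorne III.7.6, (a) ⟹ (b)**: on a Cohen–Macaulay equidimensional closed subscheme of
`P^N_k` of dimension `n`, `H^j(X, F(-q)) = 0` for `F` finite locally free, `j < n` and `q ≫ 0`. -/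
theorem vanishing_of_cm (hn : topologicalKrullDim ↥X = n)
    (hCM : ∀ x : X, IsClosed ({x} : Set ↥X) →
      LocCoh.IsCohenMacaulayLocalRing (X.presheaf.stalk x) ∧ ringKrullDim (X.presheaf.stalk x) = n)
    (F : X.Modules) (hF : FlatMod.IsFinLocFree F) :
    ∃ q₀ : ℕ, ∀ q : ℕ, q₀ ≤ q → ∀ j : ℕ, j < n →
      Subsingleton (Coh.HH X (CohB1.tensorMod F
        ((Scheme.Modules.pullback ι).obj (Twist.twistProjSpace N k (-(q : ℤ))))) j) := by
  haveI := Groth.Agent.Lib.Helper21.ModTensor3.isGrothendieckAbelian X.sheaf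
  haveI : HasExt.{u} X.Modules := (inferInstance : HasExt.{u} (ModSite.Mod X.sheaf))
  haveI : HasInjectiveResolutions (ModSite.Mod X.sheaf) := inferInstance
  haveI : IsLocallyNoetherian X := isLocallyNoetherian_of_closed k N ι hι
  have hFc : Coh.IsCoh F := Groth.Agent.Lib.T2H4.HZshLF.isCoh_of_isFinLocFree F hF
  obtain ⟨ω, t, hω, hωq, hdualR⟩ := Groth.Agent.Lib.T2H6.DualSub.exists_isCoh_isRDualOver k N n X ι hι (le_of_eq hn)
  have hdual : ∀ G : X.Modules, Coh.IsCoh G → ∀ ψ : Coh.HH X G n →ₗ[k] k,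
      ∃! φ : G ⟶ ω, ∀ x : Coh.HH X G n,
        ψ x = t (Sheaf.H.map ((SheafOfModules.toSheaf X.ringCatSheaf).map φ) n x) :=
    fun G hG ψ => existsUnique_of_bijective_dualityMap k X n ω t G (hdualR G hG.1) ψ
  obtain ⟨d₀, hd₀⟩ := exists_subsingleton_ext_Lm_neg k N X ι hι F ω hF hFc hω
  refine ⟨d₀.toNat, fun q hq j hj => ?_⟩
  have hqd : d₀ ≤ (q : ℤ) := by
    have := Int.self_le_toNat d₀
    omega
  have hcoh : Coh.IsCoh (CohB1.tensorMod F (Lm k N ι (-(q : ℤ)))) :=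
    isCoh_tensorMod' _ _ hFc
      (Groth.Agent.Lib.T2H6.CurveDeg.isCoh_of_isInvertible _ (isInvertible_Lm k N ι _))
  obtain ⟨eq⟩ := cm_duality_linearEquiv k N n X ι hι hn hCM ω hω t hdual _ hcoh (n - j)
    (Nat.sub_le _ _)
  haveI := hd₀ (q : ℤ) hqd (n - j) (by omega)
  have h1 : Subsingleton (Module.Dual k (Coh.HH X (CohB1.tensorMod F (Lm k N ι (-(q : ℤ))))
      (n - (n - j)))) := eq.symm.injective.subsingleton
  rw [subsingleton_dual_iff, Nat.sub_sub_self hj.le] at h1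
  exact h1

end Groth.Agent.Lib.T2H6.CMConv
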