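-- helper6 (team 2): the diagonal of a functor is tested on the base changes of the functor to
-- slices: a point of `𝒳 ×_𝒴 𝒳` over `T` factors through the double fibre product of the base change.
import Mathlib
import Groth.Agent.Lib.Helper15DiagBC
import Groth.Agent.Lib.Helper17FpPaste
import Groth.Agent.Lib.Helper17AlgStRep

set_option autoImplicit false
set_option backward.isDefEq.respectTransparency false
set_option backward.isDefEq.respectTransparency.types false
open CategoryTheory CategoryTheory.Functor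

universe v₁ u₁ v₂ u₂ v₃ u₃ v₄ u₄ v u

namespace Groth.Agent.Lib.T2H6.DiagSect

open Groth.Agent.Lib.Helper17 Groth.Agent.Lib.Helper15.DiagBC

section General

variable {C : Type u} [Category.{v} C]
  {𝒯 : BasedCategory.{v₁, u₁} C} {𝒳 : BasedCategory.{v₂, u₂} C} {𝒴 : BasedCategory.{v₃, u₃} C}
  (f : 𝒳 ⥤ᵇ 𝒴) (w : 𝒯 ⥤ᵇ FibCat.fp f f)

/-- first component of a point of the double fibre product -/
abbrev x₁ : 𝒯 ⥤ᵇ 𝒳 := BasedFunctor.comp w (FibCat.fpFst f f)

/-- second component -/
abbrev x₂ : 𝒯 ⥤ᵇ 𝒳 := BasedFunctor.comp w (FibCat.fpSnd f f)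

/-- the image in the base -/
abbrev yy : 𝒯 ⥤ᵇ 𝒴 := BasedFunctor.comp (x₁ f w) f

/-- the 2-isomorphism carried by the point -/
def ββ : BasedFunctor.comp (x₁ f w) f ≅ BasedFunctor.comp (x₂ f w) f :=
  whiskerLeftIso w (FibCat.fpIso f f)

/-- first section of the base change -/
def σ₁ : 𝒯 ⥤ᵇ FibCat.fp (yy f w) f :=
  FibCat.fpLift (F := yy f w) (G := f) (BasedFunctor.id 𝒯) (x₁ f w) (Iso.refl _)

/-- second section of the base change -/
def σ₂ : 𝒯 ⥤ᵇ FibCat.fp (yy f w) f :=
  FibCat.fpLift (F := yy f w) (G := f) (BasedFunctor.id 𝒯) (x₂ f w) (ββ f w)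

/-- the point of the double fibre product of the base change -/
def sect : 𝒯 ⥤ᵇ FibCat.fp (FibCat.fpFst (yy f w) f) (FibCat.fpFst (yy f w) f) :=
  FibCat.fpLift (F := FibCat.fpFst (yy f w) f) (G := FibCat.fpFst (yy f w) f) (σ₁ f w) (σ₂ f w)
    (Iso.refl _)

/-- the point is recovered from the point of the base change -/
def sectIso : BasedFunctor.comp (sect f w) (GG f (yy f w)) ≅ w :=
  fpIsoMk f f (H := BasedFunctor.comp (sect f w) (GG f (yy f w))) (K := w)
    (Iso.refl _) (Iso.refl _) (fun a => by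
      change f.map (𝟙 _) ≫ (w.obj a).obj.iso.hom =
        (𝟙 _ ≫ (yy f w).map (𝟙 _) ≫ (w.obj a).obj.iso.hom) ≫ f.map (𝟙 _)
      rw [f.toFunctor.map_id, (yy f w).toFunctor.map_id, f.toFunctor.map_id]
      simp)

end General

section Rep

open AlgebraicGeometry

universe w

variable {S : Scheme.{w}} {𝒳 𝒴 : AlgSt.Cat S}

/-- If the diagonal of every base change of `f` to a slice is representable by algebraic spaces
with property `P`, so is the diagonal of `f` (for any property `P`). -/
theorem repByAlgSpWith_diag_of_forall_fpFst (P : MorphismProperty (AlgSp.Sp S)) (f : 𝒳 ⥤ᵇ 𝒴)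
    (h : ∀ (T : Over S) (y : FibCat.overCat T ⥤ᵇ 𝒴),
      AlgSt.RepByAlgSpWith P (FibCat.diag (FibCat.fpFst y f))) :
    AlgSt.RepByAlgSpWith P (FibCat.diag f) := by
  intro T w
  have h1 : AlgSt.RepByAlgSpWith P (FibCat.diag (FibCat.fpFst (yy f w) f)) := h T (yy f w)
  have h2 : AlgSt.RepByAlgSpWith P (FibCat.fpFst (GG f (yy f w)) (FibCat.diag f)) :=
    (repByAlgSpWith_of_square P (FibCat.fpFst (GG f (yy f w)) (FibCat.diag f))
      (FibCat.diag (f' f (yy f w))) (EE f (yy f w)) (BasedFunctor.id _) (isEquivOver_EE f (yy f w))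
      (isEquivOver_id _) (Iso.refl _)).mpr h1
  have h3 := h2 T (sect f w)
  -- paste
  have h4 := repWith_transfer
    (FibCat.fpFst (sect f w) (FibCat.fpFst (GG f (yy f w)) (FibCat.diag f)))
    (FibCat.fpFst (BasedFunctor.comp (sect f w) (GG f (yy f w))) (FibCat.diag f))
    (pasteL (FibCat.diag f) (GG f (yy f w)) (sect f w))
    (isEquivOver_pasteL (FibCat.diag f) (GG f (yy f w)) (sect f w)) (Iso.refl _) P h3
  -- replace the point by an isomorphic one
  have iD := IsEquivOver.isEquivalence (BasedFunctor.id (FibCat.fp f f)) (isEquivOver_id _)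
  have hM := isEquivOver_fpMap w (FibCat.diag f)
    (BasedFunctor.comp (sect f w) (GG f (yy f w))) (FibCat.diag f)
    (BasedFunctor.id _) (BasedFunctor.id _) (BasedFunctor.id _) (sectIso f w) (Iso.refl _)
    (isEquivOver_id _) (isEquivOver_id _)
  exact repWith_transfer
    (FibCat.fpFst (BasedFunctor.comp (sect f w) (GG f (yy f w))) (FibCat.diag f))
    (FibCat.fpFst w (FibCat.diag f)) _ hM (Iso.refl _) P h4

/-- The diagonal of `f` is representable by algebraic spaces with `P` iff the diagonal of every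
base change of `f` to a slice is. -/
theorem repByAlgSpWith_diag_iff_forall_fpFst (P : MorphismProperty (AlgSp.Sp S)) (f : 𝒳 ⥤ᵇ 𝒴) :
    AlgSt.RepByAlgSpWith P (FibCat.diag f) ↔
      ∀ (T : Over S) (y : FibCat.overCat T ⥤ᵇ 𝒴),
        AlgSt.RepByAlgSpWith P (FibCat.diag (FibCat.fpFst y f)) :=
  ⟨fun h _ y => repByAlgSpWith_diag_fpFst P f y h, repByAlgSpWith_diag_of_forall_fpFst P f⟩

end Rep

end Groth.Agent.Lib.T2H6.DiagSect
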