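-- helper6 (team 2): the 2-fibre product of the categories of presheaves over the category of a
-- presheaf is the category of the fibre product of presheaves.
import Mathlib
import Groth.Agent.Lib.Helper15PshFib
import Groth.Agent.Lib.Helper17StkFp

set_option autoImplicit false
set_option backward.isDefEq.respectTransparency false
set_option backward.isDefEq.respectTransparency.types false
open CategoryTheory CategoryTheory.Functor CategoryTheory.Limits Opposite

universe w v u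

namespace Groth.Agent.Lib.T2H6.PshPB

open Groth.Agent.Lib.Helper17 Groth.Agent.Lib.Helper15PshFib

section

variable {C : Type u} [Category.{v} C] {P Q R W : Cᵒᵖ ⥤ Type w}
  (a : P ⟶ Q) (b : R ⟶ Q) (π₁ : W ⟶ P) (π₂ : W ⟶ R)

theorem app_isPullback (sq : IsPullback π₁ π₂ a b) (T : Cᵒᵖ) :
    IsPullback (π₁.app T) (π₂.app T) (a.app T) (b.app T) :=
  sq.map ((evaluation _ _).obj T)

theorem app_comm (sq : IsPullback π₁ π₂ a b) (T : Cᵒᵖ) (s : W.obj T) :
    a.app T (π₁.app T s) = b.app T (π₂.app T s) := by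
  have h := congrArg (fun t => t.app T) sq.w
  exact ConcreteCategory.congr_hom h s

theorem app_inj (sq : IsPullback π₁ π₂ a b) (T : Cᵒᵖ) (s s' : W.obj T)
    (h₁ : π₁.app T s = π₁.app T s') (h₂ : π₂.app T s = π₂.app T s') : s = s' :=
  Limits.Types.ext_of_isPullback (app_isPullback a b π₁ π₂ sq T) h₁ h₂

theorem app_surj (sq : IsPullback π₁ π₂ a b) (T : Cᵒᵖ) (p : P.obj T) (r : R.obj T)
    (h : a.app T p = b.app T r) : ∃ s : W.obj T, π₁.app T s = p ∧ π₂.app T s = r :=
  Limits.Types.exists_of_isPullback (app_isPullback a b π₁ π₂ sq T) p r h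

/-- The 2-isomorphism of the square of categories attached to a commutative square of
presheaves. -/
def sqIso (w : π₁ ≫ a = π₂ ≫ b) :
    BasedFunctor.comp (Stk.ofPshMap π₁) (Stk.ofPshMap a) ≅
      BasedFunctor.comp (Stk.ofPshMap π₂) (Stk.ofPshMap b) :=
  pshIsoOfSecEq (fun c => by
    rw [pshSec_comp_ofPshMap, pshSec_comp_ofPshMap, pshSec_ofPshMap, pshSec_ofPshMap]
    have h := congrArg (fun t => t.app (op c.base)) w
    exact ConcreteCategory.congr_hom h c.sec)

/-- The comparison functor from the category of the fibre product of presheaves to the 2-fibre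
product of categories. -/
def cmp (w : π₁ ≫ a = π₂ ≫ b) :
    Stk.ofPsh W ⥤ᵇ FibCat.fp (Stk.ofPshMap a) (Stk.ofPshMap b) :=
  FibCat.fpLift (F := Stk.ofPshMap a) (G := Stk.ofPshMap b) (Stk.ofPshMap π₁) (Stk.ofPshMap π₂)
    (sqIso a b π₁ π₂ w)

/-- the two sections of an object of the 2-fibre product agree in `Q` -/
theorem sec_agree (η : (FibCat.fp (Stk.ofPshMap a) (Stk.ofPshMap b)).obj) :
    a.app _ (pshSec (FibCat.fpFst (Stk.ofPshMap a) (Stk.ofPshMap b)) η) =
      b.app _ (pshSec (FibCat.fpSnd (Stk.ofPshMap a) (Stk.ofPshMap b)) η) := by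
  have h := pshSec_eq_of_hom (FibCat.fpIso (Stk.ofPshMap a) (Stk.ofPshMap b)).hom η
  rw [pshSec_comp_ofPshMap, pshSec_comp_ofPshMap] at h
  exact h

/-- the section of the fibre product of presheaves attached to an object of the 2-fibre product -/
noncomputable def invSec (sq : IsPullback π₁ π₂ a b)
    (η : (FibCat.fp (Stk.ofPshMap a) (Stk.ofPshMap b)).obj) :
    W.obj (op ((FibCat.fp (Stk.ofPshMap a) (Stk.ofPshMap b)).p.obj η)) :=
  Classical.choose (app_surj a b π₁ π₂ sq _ _ _ (sec_agree a b η))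

theorem invSec_fst (sq : IsPullback π₁ π₂ a b)
    (η : (FibCat.fp (Stk.ofPshMap a) (Stk.ofPshMap b)).obj) :
    π₁.app _ (invSec a b π₁ π₂ sq η) =
      pshSec (FibCat.fpFst (Stk.ofPshMap a) (Stk.ofPshMap b)) η :=
  (Classical.choose_spec (app_surj a b π₁ π₂ sq _ _ _ (sec_agree a b η))).1

theorem invSec_snd (sq : IsPullback π₁ π₂ a b)
    (η : (FibCat.fp (Stk.ofPshMap a) (Stk.ofPshMap b)).obj) :
    π₂.app _ (invSec a b π₁ π₂ sq η) =
      pshSec (FibCat.fpSnd (Stk.ofPshMap a) (Stk.ofPshMap b)) η :=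
  (Classical.choose_spec (app_surj a b π₁ π₂ sq _ _ _ (sec_agree a b η))).2

theorem invSec_compat (sq : IsPullback π₁ π₂ a b)
    {η η' : (FibCat.fp (Stk.ofPshMap a) (Stk.ofPshMap b)).obj} (f : η ⟶ η') :
    W.map ((FibCat.fp (Stk.ofPshMap a) (Stk.ofPshMap b)).p.map f).op (invSec a b π₁ π₂ sq η') =
      invSec a b π₁ π₂ sq η := by
  apply app_inj a b π₁ π₂ sq
  · rw [invSec_fst]
    have h := NatTrans.naturality_apply π₁
      ((FibCat.fp (Stk.ofPshMap a) (Stk.ofPshMap b)).p.map f).op (invSec a b π₁ π₂ sq η')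
    rw [h, invSec_fst]
    exact pshSec_map (FibCat.fpFst (Stk.ofPshMap a) (Stk.ofPshMap b)) f
  · rw [invSec_snd]
    have h := NatTrans.naturality_apply π₂
      ((FibCat.fp (Stk.ofPshMap a) (Stk.ofPshMap b)).p.map f).op (invSec a b π₁ π₂ sq η')
    rw [h, invSec_snd]
    exact pshSec_map (FibCat.fpSnd (Stk.ofPshMap a) (Stk.ofPshMap b)) f

/-- the inverse of the comparison functor -/
noncomputable def inv (sq : IsPullback π₁ π₂ a b) :
    FibCat.fp (Stk.ofPshMap a) (Stk.ofPshMap b) ⥤ᵇ Stk.ofPsh W :=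
  pshOfFam (invSec a b π₁ π₂ sq) (fun f => invSec_compat a b π₁ π₂ sq f)

/-- the inverse followed by the first projection of presheaves is the first projection -/
noncomputable def invFstIso (sq : IsPullback π₁ π₂ a b) :
    BasedFunctor.comp (inv a b π₁ π₂ sq) (Stk.ofPshMap π₁) ≅
      FibCat.fpFst (Stk.ofPshMap a) (Stk.ofPshMap b) :=
  pshIsoOfSecEq (fun η => by
    rw [pshSec_comp_ofPshMap]
    unfold inv
    rw [pshSec_ofFam]
    exact invSec_fst a b π₁ π₂ sq η)

/-- the inverse followed by the second projection of presheaves is the second projection -/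
noncomputable def invSndIso (sq : IsPullback π₁ π₂ a b) :
    BasedFunctor.comp (inv a b π₁ π₂ sq) (Stk.ofPshMap π₂) ≅
      FibCat.fpSnd (Stk.ofPshMap a) (Stk.ofPshMap b) :=
  pshIsoOfSecEq (fun η => by
    rw [pshSec_comp_ofPshMap]
    unfold inv
    rw [pshSec_ofFam]
    exact invSec_snd a b π₁ π₂ sq η)

/-- `cmp ≫ inv ≅ id` -/
noncomputable def cmpInvIso (sq : IsPullback π₁ π₂ a b) :
    BasedFunctor.comp (cmp a b π₁ π₂ sq.w) (inv a b π₁ π₂ sq) ≅ BasedFunctor.id (Stk.ofPsh W) :=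
  pshIsoOfSecEq (fun c => by
    apply app_inj a b π₁ π₂ sq
    · rw [← pshSec_comp_ofPshMap, ← pshSec_comp_ofPshMap]
      exact pshSec_eq_of_hom (whiskerLeftIso (cmp a b π₁ π₂ sq.w) (invFstIso a b π₁ π₂ sq) :
        BasedFunctor.comp (BasedFunctor.comp (cmp a b π₁ π₂ sq.w) (inv a b π₁ π₂ sq))
          (Stk.ofPshMap π₁) ≅ BasedFunctor.comp (BasedFunctor.id (Stk.ofPsh W))
            (Stk.ofPshMap π₁)).hom c
    · rw [← pshSec_comp_ofPshMap, ← pshSec_comp_ofPshMap]
      exact pshSec_eq_of_hom (whiskerLeftIso (cmp a b π₁ π₂ sq.w) (invSndIso a b π₁ π₂ sq) :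
        BasedFunctor.comp (BasedFunctor.comp (cmp a b π₁ π₂ sq.w) (inv a b π₁ π₂ sq))
          (Stk.ofPshMap π₂) ≅ BasedFunctor.comp (BasedFunctor.id (Stk.ofPsh W))
            (Stk.ofPshMap π₂)).hom c)

theorem elt_hom_eq {X Y : Stk.EltObj Q} (m m' : X ⟶ Y) (h h' : X.base = Y.base)
    (hm : m.hom = eqToHom h) (hm' : m'.hom = eqToHom h') : m = m' := by
  apply Stk.EltObj.hom_ext
  rw [hm, hm']

/-- `inv ≫ cmp ≅ id` -/
noncomputable def invCmpIso (sq : IsPullback π₁ π₂ a b) :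
    BasedFunctor.comp (inv a b π₁ π₂ sq) (cmp a b π₁ π₂ sq.w) ≅
      BasedFunctor.id (FibCat.fp (Stk.ofPshMap a) (Stk.ofPshMap b)) :=
  fpIsoMk (Stk.ofPshMap a) (Stk.ofPshMap b)
    (H := BasedFunctor.comp (inv a b π₁ π₂ sq) (cmp a b π₁ π₂ sq.w))
    (K := BasedFunctor.id (FibCat.fp (Stk.ofPshMap a) (Stk.ofPshMap b)))
    (invFstIso a b π₁ π₂ sq) (invSndIso a b π₁ π₂ sq) (fun η => by
      have h1 := pshAppHom (invFstIso a b π₁ π₂ sq).hom η
      have h2 := pshAppHom (invSndIso a b π₁ π₂ sq).hom η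
      have h3 := pshAppHom (FibCat.fpIso (Stk.ofPshMap a) (Stk.ofPshMap b)).hom η
      have h4 := pshAppHom (sqIso a b π₁ π₂ sq.w).hom ((inv a b π₁ π₂ sq).obj η)
      refine elt_hom_eq _ _ ?_ ?_ ?_ ?_
      · exact (pshBase (BasedFunctor.comp (BasedFunctor.comp (inv a b π₁ π₂ sq)
          (Stk.ofPshMap π₁)) (Stk.ofPshMap a)) η).trans
          (pshBase (BasedFunctor.comp (FibCat.fpSnd (Stk.ofPshMap a) (Stk.ofPshMap b))
            (Stk.ofPshMap b)) η).symm
      · exact (pshBase (BasedFunctor.comp (BasedFunctor.comp (inv a b π₁ π₂ sq)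
          (Stk.ofPshMap π₁)) (Stk.ofPshMap a)) η).trans
          (pshBase (BasedFunctor.comp (FibCat.fpSnd (Stk.ofPshMap a) (Stk.ofPshMap b))
            (Stk.ofPshMap b)) η).symm
      · rw [Stk.EltObj.comp_hom]
        change ((invFstIso a b π₁ π₂ sq).hom.toNatTrans.app η).hom ≫
          ((FibCat.fpIso (Stk.ofPshMap a) (Stk.ofPshMap b)).hom.toNatTrans.app η).hom = _
        rw [h1, h3, eqToHom_trans]
      · rw [Stk.EltObj.comp_hom]
        change ((sqIso a b π₁ π₂ sq.w).hom.toNatTrans.app ((inv a b π₁ π₂ sq).obj η)).hom ≫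
          ((invSndIso a b π₁ π₂ sq).hom.toNatTrans.app η).hom = _
        rw [h4, h2, eqToHom_trans])

theorem isEquivOver_cmp (sq : IsPullback π₁ π₂ a b) :
    FibCat.IsEquivOver (cmp a b π₁ π₂ sq.w) :=
  ⟨inv a b π₁ π₂ sq, ⟨cmpInvIso a b π₁ π₂ sq⟩, ⟨invCmpIso a b π₁ π₂ sq⟩⟩

end

section Diag

variable {C : Type u} [Category.{v} C] {P Q W : Cᵒᵖ ⥤ Type w}
  (a : P ⟶ Q) (π₁ : W ⟶ P) (π₂ : W ⟶ P) (δ : P ⟶ W)

theorem pshSec_id (c : (Stk.ofPsh P).obj) : pshSec (BasedFunctor.id (Stk.ofPsh P)) c = c.sec := by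
  unfold pshSec
  exact psh_map_id_op P _

/-- The comparison functor carries the functor of the diagonal of presheaves to the diagonal
functor. -/
def diagCmpIso (w : π₁ ≫ a = π₂ ≫ a) (h₁ : δ ≫ π₁ = 𝟙 P) (h₂ : δ ≫ π₂ = 𝟙 P) :
    BasedFunctor.comp (Stk.ofPshMap δ) (cmp a a π₁ π₂ w) ≅ FibCat.diag (Stk.ofPshMap a) :=
  fpIsoMk (Stk.ofPshMap a) (Stk.ofPshMap a)
    (H := BasedFunctor.comp (Stk.ofPshMap δ) (cmp a a π₁ π₂ w))
    (K := FibCat.diag (Stk.ofPshMap a))
    (pshIsoOfSecEq (fun c => by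
      change pshSec (BasedFunctor.comp (Stk.ofPshMap δ) (Stk.ofPshMap π₁)) c =
        pshSec (BasedFunctor.id (Stk.ofPsh P)) c
      rw [pshSec_comp_ofPshMap, pshSec_ofPshMap, pshSec_id]
      have h := congrArg (fun t => t.app (op c.base)) h₁
      exact ConcreteCategory.congr_hom h c.sec))
    (pshIsoOfSecEq (fun c => by
      change pshSec (BasedFunctor.comp (Stk.ofPshMap δ) (Stk.ofPshMap π₂)) c =
        pshSec (BasedFunctor.id (Stk.ofPsh P)) c
      rw [pshSec_comp_ofPshMap, pshSec_ofPshMap, pshSec_id]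
      have h := congrArg (fun t => t.app (op c.base)) h₂
      exact ConcreteCategory.congr_hom h c.sec))
    (fun c => by
      refine elt_hom_eq _ _ rfl rfl ?_ ?_
      · rw [Stk.EltObj.comp_hom]
        change (_ : Stk.EltObj.Hom _ _).hom ≫ 𝟙 _ = _
        rw [Category.comp_id]
        exact pshAppHom _ c
      · rw [Stk.EltObj.comp_hom]
        have h4 := pshAppHom (sqIso a a π₁ π₂ w).hom ((Stk.ofPshMap δ).obj c)
        change ((sqIso a a π₁ π₂ w).hom.toNatTrans.app ((Stk.ofPshMap δ).obj c)).hom ≫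
          (_ : Stk.EltObj.Hom _ _).hom = _
        rw [h4]
        erw [pshAppHom _ c]
        rw [eqToHom_trans])

end Diag

end Groth.Agent.Lib.T2H6.PshPB
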