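-- helper6 (team 2): the diagonal of a functor from the category of an algebraic space to a slice
-- is the functor of the diagonal of the corresponding map of sheaves.
import Mathlib
import Groth.Agent.Lib.T2H6PshPB
import Groth.Agent.Lib.T2H6DiagSect
import Groth.Agent.Lib.Helper15SpMapRep
import Groth.Agent.Lib.Helper15DiagOfComp
import Groth.Agent.Lib.Helper15Descent
import Groth.Agent.Lib.Helper15QsComp
import Groth.Agent.Lib.Helper15ImmQc
import Groth.Agent.S9912
import Groth.Agent.S9900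
import Groth.Agent.S9922
import Groth.Agent.S10521
import Groth.Agent.Lib.Helper15LocQSpace2

set_option autoImplicit false
set_option backward.isDefEq.respectTransparency false
set_option backward.isDefEq.respectTransparency.types false
open CategoryTheory CategoryTheory.Functor CategoryTheory.Limits Opposite AlgebraicGeometry

universe u

namespace Groth.Agent.Lib.T2H6.DiagSp

open Groth.Agent.Lib.Helper17 Groth.Agent.Lib.Helper15PshFib Groth.Agent.Lib.Helper15RepComp
  Groth.Agent.Lib.Helper15RepPsh Groth.Agent.Lib.Helper15DiagBase Groth.Agent.Lib.Helper15DiagRepSp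
  Groth.Agent.Lib.Helper15Descent Groth.Agent.Lib.Helper15DiagLft Groth.Agent.Lib.Helper15SpMapRep
  Groth.Agent.Lib.Helper15DiagOfComp Groth.Agent.Lib.T2H6.PshPB Groth.Agent.Lib.T2H6.DiagSect

section A

theorem aux_conj {E : Type*} [Category E] {A B : E} (i : A ≅ B) (k : B ⟶ B) (l : A ⟶ A)
    (hk : k = 𝟙 B) (hl : l = 𝟙 A) : k ≫ 𝟙 B = (i.inv ≫ l ≫ i.hom) ≫ k := by
  subst hk hl
  simp

variable {S : Scheme.{u}} {𝒜 ℬ ℬ' : AlgSt.Cat S}

/-- The diagonal of a functor does not change when the functor is followed by a fully faithful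
functor (up to a 2-isomorphism). -/
theorem repByAlgSpWith_diag_postcomp (D : MorphismProperty (AlgSp.Sp S)) (h : 𝒜 ⥤ᵇ ℬ')
    (c : ℬ' ⥤ᵇ ℬ) [c.toFunctor.Full] [c.toFunctor.Faithful] (q : 𝒜 ⥤ᵇ ℬ)
    (ε : BasedFunctor.comp h c ≅ q) :
    AlgSt.RepByAlgSpWith D (FibCat.diag q) ↔ AlgSt.RepByAlgSpWith D (FibCat.diag h) := by
  let ε' : BasedFunctor.comp h c ≅ BasedFunctor.comp (BasedFunctor.id 𝒜) q := ε
  let M : FibCat.fp h h ⥤ᵇ FibCat.fp q q :=
    fpMap q q h h (BasedFunctor.id 𝒜) (BasedFunctor.id 𝒜) c ε' ε'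
  have hM : FibCat.IsEquivOver M :=
    isEquivOver_fpMap q q h h (BasedFunctor.id 𝒜) (BasedFunctor.id 𝒜) c ε' ε'
      (isEquivOver_id _) (isEquivOver_id _)
  refine repByAlgSpWith_of_square D (FibCat.diag q) (FibCat.diag h) (BasedFunctor.id 𝒜) M
    (isEquivOver_id _) hM ?_
  exact fpIsoMk q q (H := BasedFunctor.comp (FibCat.diag h) M)
    (K := BasedFunctor.comp (BasedFunctor.id 𝒜) (FibCat.diag q)) (Iso.refl _) (Iso.refl _)
    (fun x => by
      change q.map (𝟙 _) ≫ 𝟙 _ =
        ((bApp ε' x).inv ≫ c.map (𝟙 _) ≫ (bApp ε' x).hom) ≫ q.map (𝟙 _)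
      exact aux_conj (bApp ε' x) _ _ (q.toFunctor.map_id _) (c.toFunctor.map_id _))

end A

section B

variable {S : Scheme.{u}}

/-- A functor from the category of a sheaf to a slice is the functor of its map of sheaves followed
by the identification of the category of `h_T` with the slice. -/
def ofSpMapToOverCatIso {F : AlgSp.Sp S} {T : Over S} (q : AlgSt.ofSp F ⥤ᵇ FibCat.overCat T) :
    BasedFunctor.comp (AlgSt.ofSpMap (AlgSt.spMapOfOver q)) (AlgSt.toOverCat T) ≅ q :=
  isoOfOverCat (fun c => by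
    obtain ⟨T', s⟩ := c
    rw [ovSec_eq_spMapOfOver, ovSec_eq_spMapOfOver, spMapOfOver_ofSpMap_toOverCat])

/-- the fibre product of an algebraic space with itself over a scheme, as an algebraic space -/
noncomputable def selfProd (F : AlgSp.Space S) {T : Over S} (φ : F.obj ⟶ (AlgSp.yon S).obj T) :
    AlgSp.Space S :=
  ⟨pullback φ φ, Groth.Agent.S9874.isAlgSpace_of_isPullback (AlgSp.IsAlgSpace.yon_obj T).diag
    F.property F.property (IsPullback.of_hasPullback φ φ)⟩

/-- the diagonal as a morphism of algebraic spaces -/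
noncomputable def selfDiag (F : AlgSp.Space S) {T : Over S} (φ : F.obj ⟶ (AlgSp.yon S).obj T) :
    F ⟶ selfProd F φ :=
  ObjectProperty.homMk (pullback.diagonal φ)

/-- The diagonal of a functor from the category of an algebraic space to a slice is representable
by algebraic spaces with `D` iff the functor of the diagonal of its map of sheaves is. -/
theorem repByAlgSpWith_diag_iff_ofSpMap_diagonal (D : MorphismProperty (AlgSp.Sp S))
    (F : AlgSp.Space S) (T : Over S) (q : AlgSt.ofSp F.obj ⥤ᵇ FibCat.overCat T) :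
    AlgSt.RepByAlgSpWith D (FibCat.diag q) ↔
      AlgSt.RepByAlgSpWith D (AlgSt.ofSpMap (selfDiag F (AlgSt.spMapOfOver q)).hom) := by
  have iT := IsEquivOver.isEquivalence (AlgSt.toOverCat T) (isEquivOver_toOverCat T)
  rw [repByAlgSpWith_diag_postcomp D (AlgSt.ofSpMap (AlgSt.spMapOfOver q)) (AlgSt.toOverCat T) q
    (ofSpMapToOverCatIso q)]
  have sq : IsPullback (pullback.fst (AlgSt.spMapOfOver q) (AlgSt.spMapOfOver q))
      (pullback.snd (AlgSt.spMapOfOver q) (AlgSt.spMapOfOver q)) (AlgSt.spMapOfOver q)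
      (AlgSt.spMapOfOver q) := IsPullback.of_hasPullback _ _
  have sq' := sq.map (sheafToPresheaf (AlgSp.J S) (Type (u + 1)))
  refine repByAlgSpWith_of_square D (FibCat.diag (AlgSt.ofSpMap (AlgSt.spMapOfOver q)))
    (AlgSt.ofSpMap (selfDiag F (AlgSt.spMapOfOver q)).hom) (BasedFunctor.id _)
    (cmp (AlgSt.spMapOfOver q).hom (AlgSt.spMapOfOver q).hom
      (pullback.fst (AlgSt.spMapOfOver q) (AlgSt.spMapOfOver q)).hom
      (pullback.snd (AlgSt.spMapOfOver q) (AlgSt.spMapOfOver q)).hom sq'.w)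
    (isEquivOver_id _) (isEquivOver_cmp _ _ _ _ sq') ?_
  refine diagCmpIso (AlgSt.spMapOfOver q).hom
      (pullback.fst (AlgSt.spMapOfOver q) (AlgSt.spMapOfOver q)).hom
      (pullback.snd (AlgSt.spMapOfOver q) (AlgSt.spMapOfOver q)).hom
      (pullback.diagonal (AlgSt.spMapOfOver q)).hom sq'.w ?_ ?_
  · have := congrArg (fun t => t.hom) (pullback.diagonal_fst (AlgSt.spMapOfOver q))
    exact this
  · have := congrArg (fun t => t.hom) (pullback.diagonal_snd (AlgSt.spMapOfOver q))
    exact this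

/-- If the diagonal of the map of sheaves attached to a functor from the category of an algebraic
space to a slice has `D` (stable under base change), then the diagonal of the functor is
representable by algebraic spaces with `D`. -/
theorem repByAlgSpWith_diag_of_diagonal (D : MorphismProperty (AlgSp.Sp S))
    (hPb : ∀ ⦃X₁ Y₁ X₂ Y₂ : AlgSp.Sp S⦄, AlgSp.IsAlgSpace X₁ → AlgSp.IsAlgSpace Y₁ →
      AlgSp.IsAlgSpace X₂ → AlgSp.IsAlgSpace Y₂ → ∀ (a : X₁ ⟶ Y₁) (b : Y₂ ⟶ Y₁) (a' : X₂ ⟶ Y₂)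
      (b' : X₂ ⟶ X₁), IsPullback b' a' a b → D a → D a')
    (F : AlgSp.Space S) (T : Over S) (q : AlgSt.ofSp F.obj ⥤ᵇ FibCat.overCat T)
    (hD : D (pullback.diagonal (AlgSt.spMapOfOver q))) :
    AlgSt.RepByAlgSpWith D (FibCat.diag q) :=
  (repByAlgSpWith_diag_iff_ofSpMap_diagonal D F T q).2
    (repByAlgSpWith_ofSpMap D hPb F (selfProd F (AlgSt.spMapOfOver q))
      (selfDiag F (AlgSt.spMapOfOver q)) hD)

/-- Conversely, for `D` stable under base change and fppf local on the base. -/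
theorem diagonal_of_repByAlgSpWith_diag (D : MorphismProperty (AlgSp.Sp S)) (hPb : BCStable D)
    (hloc : AlgSp.IsLocalOnBase AlgSp.IsFppfCover D)
    (F : AlgSp.Space S) (T : Over S) (q : AlgSt.ofSp F.obj ⥤ᵇ FibCat.overCat T)
    (h : AlgSt.RepByAlgSpWith D (FibCat.diag q)) :
    D (pullback.diagonal (AlgSt.spMapOfOver q)) :=
  Groth.Agent.Lib.Helper15LocQSpace2.prop_of_repByAlgSpWith_ofSpMap D hPb hloc F
    (selfProd F (AlgSt.spMapOfOver q)) (selfDiag F (AlgSt.spMapOfOver q))
    ((repByAlgSpWith_diag_iff_ofSpMap_diagonal D F T q).1 h)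

end B

section C

variable {S : Scheme.{u}} {𝒜 ℬ : AlgSt.Cat S}

/-- If every base change of `h` to a scheme has `D`, and `D` of a map from an algebraic space to a
scheme implies `D'` of its diagonal, then the diagonal of `h` is representable by algebraic spaces
with `D'`. -/
theorem repByAlgSpWith_diag_of_forall_diagonal (D D' : MorphismProperty (AlgSp.Sp S))
    (hPb : BCStable D') (h : 𝒜 ⥤ᵇ ℬ) (hh : AlgSt.RepByAlgSpWith D h)
    (hD : ∀ (F : AlgSp.Space S) (T : Over S) (φ : F.obj ⟶ (AlgSp.yon S).obj T), D φ →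
      D' (pullback.diagonal φ)) :
    AlgSt.RepByAlgSpWith D' (FibCat.diag h) := by
  apply repByAlgSpWith_diag_of_forall_fpFst
  intro T y
  obtain ⟨F, e, he, hφ⟩ := hh T y
  rw [repByAlgSpWith_diag_equiv_source D' e he (FibCat.fpFst y h)]
  exact repByAlgSpWith_diag_of_diagonal D' hPb F T (BasedFunctor.comp e (FibCat.fpFst y h))
    (hD F T _ hφ)

/-- Conversely: if the diagonal of `h` has `D'` (stable under base change, fppf local on the base),
the diagonal of every base change of `h` to a scheme has `D'`. -/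
theorem diagonal_of_repByAlgSpWith_diag_st (D' : MorphismProperty (AlgSp.Sp S))
    (hPb : BCStable D') (hloc : AlgSp.IsLocalOnBase AlgSp.IsFppfCover D') (h : 𝒜 ⥤ᵇ ℬ)
    (hd : AlgSt.RepByAlgSpWith D' (FibCat.diag h)) (T : Over S) (y : FibCat.overCat T ⥤ᵇ ℬ)
    (F : AlgSp.Space S) (e : AlgSt.ofSp F.obj ⥤ᵇ FibCat.fp y h) (he : FibCat.IsEquivOver e) :
    D' (pullback.diagonal (AlgSt.spMapOfOver (BasedFunctor.comp e (FibCat.fpFst y h)))) := by
  have h1 := Groth.Agent.Lib.Helper15.DiagBC.repByAlgSpWith_diag_fpFst D' h y hd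
  rw [repByAlgSpWith_diag_equiv_source D' e he (FibCat.fpFst y h)] at h1
  exact diagonal_of_repByAlgSpWith_diag D' hPb hloc F T _ h1

theorem isAlgSpace_pullback_self (F : AlgSp.Space S) (T : Over S)
    (φ : F.obj ⟶ (AlgSp.yon S).obj T) : AlgSp.IsAlgSpace (pullback φ φ) :=
  Groth.Agent.S9874.isAlgSpace_of_isPullback (AlgSp.IsAlgSpace.yon_obj T).diag F.property
    F.property (IsPullback.of_hasPullback φ φ)

theorem bcStable_isProperMor : BCStable (AlgSp.IsProperMor (S := S)) :=
  fun _ _ _ _ hX₁ hY₁ _ hY₂ _ _ _ _ sq ha =>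
    Groth.Agent.Lib.Helper12.Proper.isProperMor_baseChange hX₁ hY₁ hY₂ sq ha

/-- If every base change of `h` to a scheme is separated, the diagonal of `h` is proper. -/
theorem repByAlgSpWith_isProperMor_diag (h : 𝒜 ⥤ᵇ ℬ)
    (hh : AlgSt.RepByAlgSpWith AlgSp.IsSeparatedMor h) :
    AlgSt.RepByAlgSpWith AlgSp.IsProperMor (FibCat.diag h) :=
  repByAlgSpWith_diag_of_forall_diagonal AlgSp.IsSeparatedMor AlgSp.IsProperMor
    bcStable_isProperMor h hh (fun F T φ hφ =>
      Groth.Agent.Lib.Helper12.Proper.isProperMor_of_isClosedImmersion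
        (isAlgSpace_pullback_self F T φ) _ hφ)

end C

section D

variable {S : Scheme.{u}} {𝒜 ℬ : AlgSt.Cat S}

theorem compCond_qcqs :
    CompCond (AlgSp.IsQuasiCompactMor (S := S) ⊓ AlgSp.IsQuasiSeparatedMor) :=
  Groth.Agent.S12780.Aux.compCond_of_local _
    (fun _ _ _ _ hY hZ a b ha hb =>
      ⟨Groth.Agent.Lib.Helper15QsComp.isQuasiCompactMor_comp hZ hY a b ha.1 hb.1,
        Groth.Agent.Lib.Helper15QsComp.isQuasiSeparatedMor_comp a b ha.2 hb.2⟩)
    (Groth.Agent.Lib.Helper15DiagDescent.isLocalOnBase_inf _ _ _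
      (Groth.Agent.Lib.Helper15DiagDescent.isLocalOnBase_fppf_of_fpqc _
        (Groth.Agent.S10519.result S))
      (Groth.Agent.Lib.Helper15DiagDescent.isLocalOnBase_fppf_of_fpqc _
        (Groth.Agent.S10520.result S)))

theorem bcStable_qcqs :
    BCStable (AlgSp.IsQuasiCompactMor (S := S) ⊓ AlgSp.IsQuasiSeparatedMor) :=
  fun _ _ _ _ _ _ _ _ _ _ _ _ sq ha =>
    ⟨Groth.Agent.Lib.Helper15ImmQc.isQuasiCompactMor_of_isPullback sq ha.1,
      (AlgSp.RepWith @QuasiCompact).diagonal.of_isPullback sq ha.2⟩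

/-- The diagonal of a map from an algebraic space to a scheme which is representable and
quasi-compact is quasi-compact and quasi-separated. -/
theorem qcqs_diagonal (F : AlgSp.Space S) (T : Over S) (φ : F.obj ⟶ (AlgSp.yon S).obj T)
    (hφ : AlgSp.IsQuasiSeparatedMor φ) :
    (AlgSp.IsQuasiCompactMor (S := S) ⊓ AlgSp.IsQuasiSeparatedMor) (pullback.diagonal φ) := by
  constructor
  · let W : AlgSp.Space S := ⟨pullback φ φ, isAlgSpace_pullback_self F T φ⟩
    let Δ : F ⟶ W := ObjectProperty.homMk (pullback.diagonal φ)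
    exact (Groth.Agent.S9912.result Δ ((AlgSp.repWith_iff _ _).1 hφ).1).1 hφ
  · have : IsIso (pullback.diagonal (pullback.diagonal φ)) :=
      (pullback.isIso_diagonal_iff _).2 inferInstance
    exact MorphismProperty.of_isIso (AlgSp.RepWith @QuasiCompact)
      (pullback.diagonal (pullback.diagonal φ))

/-- If every base change of `h` to a scheme is quasi-separated, the diagonal of `h` is
quasi-compact and quasi-separated. -/
theorem repByAlgSpWith_qcqs_diag (h : 𝒜 ⥤ᵇ ℬ)
    (hh : AlgSt.RepByAlgSpWith AlgSp.IsQuasiSeparatedMor h) :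
    AlgSt.RepByAlgSpWith (AlgSp.IsQuasiCompactMor ⊓ AlgSp.IsQuasiSeparatedMor) (FibCat.diag h) :=
  repByAlgSpWith_diag_of_forall_diagonal AlgSp.IsQuasiSeparatedMor _ bcStable_qcqs h hh
    (fun F T φ hφ => qcqs_diagonal F T φ hφ)

theorem isLocalOnBase_fppf_qcqs : AlgSp.IsLocalOnBase AlgSp.IsFppfCover
    (AlgSp.IsQuasiCompactMor (S := S) ⊓ AlgSp.IsQuasiSeparatedMor) :=
  Groth.Agent.Lib.Helper15DiagDescent.isLocalOnBase_inf _ _ _
    (Groth.Agent.Lib.Helper15DiagDescent.isLocalOnBase_fppf_of_fpqc _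
      (Groth.Agent.S10519.result S))
    (Groth.Agent.Lib.Helper15DiagDescent.isLocalOnBase_fppf_of_fpqc _
      (Groth.Agent.S10520.result S))

/-- the diagonal of a map from an algebraic space to a scheme is representable -/
theorem representable_diagonal (F : AlgSp.Space S) (T : Over S)
    (φ : F.obj ⟶ (AlgSp.yon S).obj T) : AlgSp.Representable (pullback.diagonal φ) := by
  let Y : AlgSp.Space S := ⟨(AlgSp.yon S).obj T, AlgSp.IsAlgSpace.yon_obj T⟩
  let f : F ⟶ Y := ObjectProperty.homMk φ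
  exact (Groth.Agent.S9900.result f).1

/-- A quasi-compact diagonal (in the sense of algebraic spaces) is representable and
quasi-compact. -/
theorem isQuasiSeparatedMor_of_isQuasiCompactMor_diagonal (F : AlgSp.Space S) (T : Over S)
    (φ : F.obj ⟶ (AlgSp.yon S).obj T) (h : AlgSp.IsQuasiCompactMor (pullback.diagonal φ)) :
    AlgSp.IsQuasiSeparatedMor φ :=
  (Groth.Agent.S9912.result (selfDiag F φ) (representable_diagonal F T φ)).2 h

/-- For `h` representable by algebraic spaces whose diagonal is quasi-compact, every base change of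
`h` to a scheme is quasi-separated. -/
theorem repByAlgSpWith_isQuasiSeparatedMor_of_diag (h : 𝒜 ⥤ᵇ ℬ) (hh : AlgSt.RepByAlgSp1 h)
    (hd : AlgSt.RepByAlgSpWith AlgSp.IsQuasiCompactMor (FibCat.diag h)) :
    AlgSt.RepByAlgSpWith AlgSp.IsQuasiSeparatedMor h := by
  intro U y
  obtain ⟨F, e, he⟩ := hh U y
  refine ⟨F, e, he, ?_⟩
  apply isQuasiSeparatedMor_of_isQuasiCompactMor_diagonal F U
  exact diagonal_of_repByAlgSpWith_diag_st AlgSp.IsQuasiCompactMor
    (fun _ _ _ _ _ _ _ _ _ _ _ _ sq ha =>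
      Groth.Agent.Lib.Helper15ImmQc.isQuasiCompactMor_of_isPullback sq ha)
    (Groth.Agent.Lib.Helper15DiagDescent.isLocalOnBase_fppf_of_fpqc _
      (Groth.Agent.S10519.result S)) h hd U y F e he

end D

section E

variable {S : Scheme.{u}} {𝒜 ℬ : AlgSt.Cat S}

/-- Two properties of a functor representable by algebraic spaces hold for a common representing
space, when one of them is stable under base change. -/
theorem repByAlgSpWith_inf (P Q : MorphismProperty (AlgSp.Sp S)) (hQb : BCStable Q) (g : 𝒜 ⥤ᵇ ℬ)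
    (hP : AlgSt.RepByAlgSpWith P g) (hQ : AlgSt.RepByAlgSpWith Q g) :
    AlgSt.RepByAlgSpWith (P ⊓ Q) g := by
  intro U y
  obtain ⟨F₁, e₁, he₁, h₁⟩ := hP U y
  obtain ⟨F₂, e₂, he₂, h₂⟩ := hQ U y
  obtain ⟨i, hi⟩ := exists_iso_of_two_reps g y F₂.obj e₂ he₂ F₁.obj e₁ he₁
  refine ⟨F₁, e₁, he₁, h₁, ?_⟩
  rw [← hi]
  exact precomp_iso_of_bcStable Q hQb F₁.property F₂.property (AlgSp.IsAlgSpace.yon_obj U) i _ h₂

end E

section F

variable {S : Scheme.{u}} {𝒜 ℬ : AlgSt.Cat S}

/-- A universally closed diagonal of a map from an algebraic space to a scheme is a closed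
immersion. -/
theorem isSeparatedMor_of_isUnivClosedMor_diagonal (F : AlgSp.Space S) (T : Over S)
    (φ : F.obj ⟶ (AlgSp.yon S).obj T) (h : AlgSp.IsUnivClosedMor (pullback.diagonal φ)) :
    AlgSp.IsSeparatedMor φ := by
  let Y : AlgSp.Space S := ⟨(AlgSp.yon S).obj T, AlgSp.IsAlgSpace.yon_obj T⟩
  let f : F ⟶ Y := ObjectProperty.homMk φ
  obtain ⟨hrep, hlft, hmono, -, -⟩ := Groth.Agent.S9900.result f
  have huc : AlgSp.RepWith @UniversallyClosed (pullback.diagonal φ) :=
    (Groth.Agent.S9922.result (selfDiag F φ) (representable_diagonal F T φ)).2 h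
  refine (AlgSp.repWith_iff _ _).2 ⟨hrep, fun U V g fst snd sq => ?_⟩
  have h1 : UniversallyClosed snd.left := ((AlgSp.repWith_iff _ _).1 huc).2 g fst snd sq
  have h2 : LocallyOfFiniteType snd.left := ((AlgSp.repWith_iff _ _).1 hlft).2 g fst snd sq
  have h3 : Mono snd.left := ((AlgSp.repWith_iff _ _).1 hmono).2 g fst snd sq
  have h4 : IsProper snd.left := { }
  exact (IsClosedImmersion.iff_isProper_and_mono snd.left).2 ⟨h4, h3⟩

/-- For `h` representable by algebraic spaces whose diagonal is universally closed, every base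
change of `h` to a scheme is separated. -/
theorem repByAlgSpWith_isSeparatedMor_of_diag (h : 𝒜 ⥤ᵇ ℬ) (hh : AlgSt.RepByAlgSp1 h)
    (hd : AlgSt.RepByAlgSpWith AlgSp.IsUnivClosedMor (FibCat.diag h)) :
    AlgSt.RepByAlgSpWith AlgSp.IsSeparatedMor h := by
  intro U y
  obtain ⟨F, e, he⟩ := hh U y
  refine ⟨F, e, he, ?_⟩
  apply isSeparatedMor_of_isUnivClosedMor_diagonal F U
  exact diagonal_of_repByAlgSpWith_diag_st AlgSp.IsUnivClosedMor
    (fun _ _ _ _ _ _ _ _ _ _ _ _ sq ha =>
      Groth.Agent.Lib.Helper12.Proper.isUnivClosedMor_baseChange sq ha)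
    (Groth.Agent.Lib.Helper15DiagDescent.isLocalOnBase_fppf_of_fpqc _
      (Groth.Agent.S10521.result S)) h hd U y F e he

/-- If every base change of `h` to a scheme is separated, the diagonal of `h` is a closed
immersion. -/
theorem isClosedImm_diag (h : 𝒜 ⥤ᵇ ℬ) (hh : AlgSt.RepByAlgSpWith AlgSp.IsSeparatedMor h) :
    AlgSt.IsClosedImm (FibCat.diag h) :=
  repByAlgSpWith_diag_of_forall_diagonal AlgSp.IsSeparatedMor (AlgSp.RepWith @IsClosedImmersion)
    (fun _ _ _ _ _ _ _ _ _ _ _ _ sq ha =>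
      MorphismProperty.of_isPullback (P := AlgSp.RepWith @IsClosedImmersion) sq ha) h hh
    (fun _ _ _ hφ => hφ)

/-- A closed immersion is proper. -/
theorem repByAlgSpWith_isProperMor_of_isClosedImm (k : 𝒜 ⥤ᵇ ℬ) (hk : AlgSt.IsClosedImm k) :
    AlgSt.RepByAlgSpWith AlgSp.IsProperMor k := by
  intro U y
  obtain ⟨F, e, he, hP⟩ := hk U y
  exact ⟨F, e, he, Groth.Agent.Lib.Helper12.Proper.isProperMor_of_isClosedImmersion
    (AlgSp.IsAlgSpace.yon_obj U) _ hP⟩

end F

end Groth.Agent.Lib.T2H6.DiagSp
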