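-- helper6 (team 2): functors to a slice which are representable by algebraic spaces with a
-- property: the total category is a space, and the test on base changes to slices.
import Mathlib
import Groth.Agent.Lib.Helper17AlgStRep
import Groth.Agent.Lib.Helper17StkLoc3
import Groth.Agent.Lib.Helper17FpPaste

set_option autoImplicit false
set_option backward.isDefEq.respectTransparency false
set_option backward.isDefEq.respectTransparency.types false
open CategoryTheory CategoryTheory.Functor AlgebraicGeometry

universe u

namespace Groth.Agent.Lib.T2H6.Slice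

open Groth.Agent.Lib.Helper17

variable {S : Scheme.{u}} {𝒬 𝒳 𝒴 : AlgSt.Cat S}

/-- A functor to a slice which is representable by algebraic spaces with `P`: its source is an
algebraic space and the induced morphism to the slice has `P`. -/
theorem exists_rep_of_slice (P : MorphismProperty (AlgSp.Sp S)) {U : Over S}
    (q : 𝒬 ⥤ᵇ FibCat.overCat U) (h : AlgSt.RepByAlgSpWith P q) :
    ∃ (F : AlgSp.Space S) (e : AlgSt.ofSp F.obj ⥤ᵇ 𝒬),
      FibCat.IsEquivOver e ∧ P (AlgSt.spMapOfOver (BasedFunctor.comp e q)) := by
  have h1 := h U (BasedFunctor.id _)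
  exact repWith_transfer (FibCat.fpFst (BasedFunctor.id (FibCat.overCat U)) q) q
    (FibCat.fpSnd (BasedFunctor.id (FibCat.overCat U)) q)
    (isEquivOver_fpSnd (BasedFunctor.id (FibCat.overCat U)) q (isEquivOver_id _))
    (FibCat.fpIso (BasedFunctor.id (FibCat.overCat U)) q).symm P h1

/-- The test on base changes to slices (any `P`). -/
theorem repByAlgSpWith_of_forall_fpFst (P : MorphismProperty (AlgSp.Sp S)) (f : 𝒳 ⥤ᵇ 𝒴)
    (h : ∀ (U : Over S) (y : FibCat.overCat U ⥤ᵇ 𝒴), AlgSt.RepByAlgSpWith P (FibCat.fpFst y f)) :
    AlgSt.RepByAlgSpWith P f :=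
  fun U y => exists_rep_of_slice P (FibCat.fpFst y f) (h U y)

end Groth.Agent.Lib.T2H6.Slice
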