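-- helper6 (team 2): cancellation for functors representable by algebraic spaces with a property
-- that can be cancelled among algebraic spaces; the diagonal of the first functor of a composite.
import Mathlib
import Groth.Agent.Lib.T2H6Slice
import Groth.Agent.Lib.T2H6DiagSp
import Groth.Agent.Lib.Helper15DiagLft
import Groth.Agent.Lib.Helper15DiagBase
import Groth.Agent.Lib.Helper17FpPaste
import Groth.Agent.Lib.Helper15LocQEngine

set_option autoImplicit false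
set_option backward.isDefEq.respectTransparency false
set_option backward.isDefEq.respectTransparency.types false
open CategoryTheory CategoryTheory.Functor CategoryTheory.Limits Opposite AlgebraicGeometry

universe u

namespace Groth.Agent.Lib.T2H6.CancelP

open Groth.Agent.Lib.Helper17 Groth.Agent.Lib.Helper15PshFib Groth.Agent.Lib.Helper15RepComp
  Groth.Agent.Lib.Helper15RepPsh Groth.Agent.Lib.Helper15DiagBase Groth.Agent.Lib.Helper15DiagRepSp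
  Groth.Agent.Lib.Helper15Descent Groth.Agent.Lib.Helper15DiagLft Groth.Agent.Lib.Helper15SpMapRep
  Groth.Agent.Lib.Helper15LocQEngine Groth.Agent.Lib.T2H6.Slice

variable {S : Scheme.{u}} {𝒜 ℬ 𝒞 : AlgSt.Cat S}

/-- Cancellation over a slice, for a property that can be cancelled when the second map has it. -/
theorem repByAlgSpWith_of_comp_to_slice' (Q : MorphismProperty (AlgSp.Sp S)) (hQb : BCStable Q)
    (hcancel : ∀ ⦃X Y Z : AlgSp.Sp S⦄, AlgSp.IsAlgSpace X → AlgSp.IsAlgSpace Y →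
      AlgSp.IsAlgSpace Z → ∀ (a : X ⟶ Y) (b : Y ⟶ Z), Q b → Q (a ≫ b) → Q a)
    (h𝒜 : AlgSt.RepByAlgSp 𝒜) (hℬ : AlgSt.RepByAlgSp ℬ) (r : 𝒜 ⥤ᵇ ℬ) {T : Over S}
    (p : ℬ ⥤ᵇ FibCat.overCat T) (hp : AlgSt.RepByAlgSpWith Q p)
    (h : AlgSt.RepByAlgSpWith Q (BasedFunctor.comp r p)) :
    AlgSt.RepByAlgSpWith Q r := by
  obtain ⟨A, eA, heA⟩ := h𝒜
  obtain ⟨B, eB, heB⟩ := hℬ
  obtain ⟨eB', heB', -, ⟨β⟩⟩ := IsEquivOver.exists_inverse_isEquivOver' eB heB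
  let r' : AlgSt.ofSp A.obj ⥤ᵇ AlgSt.ofSp B.obj :=
    BasedFunctor.comp eA (BasedFunctor.comp r eB')
  let a₀ : A.obj ⟶ B.obj := ObjectProperty.homMk (pshMapOf r')
  let a : A ⟶ B := ObjectProperty.homMk a₀
  let σ : BasedFunctor.comp (AlgSt.ofSpMap a₀) eB ≅ BasedFunctor.comp eA r :=
    (whiskerRightIso (ofPshMapIso r') eB : _ ≅
      BasedFunctor.comp (BasedFunctor.comp eA r) (BasedFunctor.comp eB' eB)) ≪≫
    whiskerLeftIso (BasedFunctor.comp eA r) β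
  have h1 : Q (a₀ ≫ AlgSt.spMapOfOver (BasedFunctor.comp eB p)) := by
    rw [← spMapOfOver_ofSpMap_comp]
    have h2 := spMapOfOver_eq_of_iso
      (BasedFunctor.comp (AlgSt.ofSpMap a₀) (BasedFunctor.comp eB p))
      (BasedFunctor.comp eA (BasedFunctor.comp r p)) (whiskerRightIso σ p)
    rw [h2]
    exact prop_spMapOfOver_of_repByAlgSpWith Q hQb _ h A eA heA
  have hb : Q (AlgSt.spMapOfOver (BasedFunctor.comp eB p)) :=
    prop_spMapOfOver_of_repByAlgSpWith Q hQb p hp B eB heB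
  have h3 : Q a₀ := hcancel A.property B.property (AlgSp.IsAlgSpace.yon_obj T) a₀ _ hb h1
  have h4 : AlgSt.RepByAlgSpWith Q (AlgSt.ofSpMap a.hom) := repByAlgSpWith_ofSpMap Q hQb A B a h3
  exact (repByAlgSpWith_of_square Q r (AlgSt.ofSpMap a₀) eA eB heA heB σ).2 h4

/-- Cancellation: if `b` and `a ≫ b` are representable by algebraic spaces with `Q`, so is `a`. -/
theorem repByAlgSpWith_cancel (Q : MorphismProperty (AlgSp.Sp S)) (hQb : BCStable Q)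
    (hcancel : ∀ ⦃X Y Z : AlgSp.Sp S⦄, AlgSp.IsAlgSpace X → AlgSp.IsAlgSpace Y →
      AlgSp.IsAlgSpace Z → ∀ (a : X ⟶ Y) (b : Y ⟶ Z), Q b → Q (a ≫ b) → Q a)
    (a : 𝒜 ⥤ᵇ ℬ) (b : ℬ ⥤ᵇ 𝒞) (hb : AlgSt.RepByAlgSpWith Q b)
    (hab : AlgSt.RepByAlgSpWith Q (BasedFunctor.comp a b)) : AlgSt.RepByAlgSpWith Q a := by
  apply repByAlgSpWith_of_forall_fpFst
  intro U y
  let z : FibCat.overCat U ⥤ᵇ 𝒞 := BasedFunctor.comp y b
  let π : FibCat.fp z b ⥤ᵇ ℬ := FibCat.fpSnd z b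
  let p : FibCat.fp z b ⥤ᵇ FibCat.overCat U := FibCat.fpFst z b
  let r₀ : FibCat.fp π a ⥤ᵇ FibCat.fp z b := FibCat.fpFst π a
  obtain ⟨Fb, eb, heb, -⟩ := hb U z
  have hℬz : AlgSt.RepByAlgSp (FibCat.fp z b) := ⟨Fb, eb, heb⟩
  obtain ⟨Fab, eab, heab, -⟩ := hab U z
  have hR := isEquivOver_pasteR z a b
  obtain ⟨R', hR', -, -⟩ := IsEquivOver.exists_inverse_isEquivOver' (pasteR z a b) hR
  have h𝒜z : AlgSt.RepByAlgSp (FibCat.fp π a) :=
    ⟨Fab, BasedFunctor.comp eab R', IsEquivOver.comp _ _ heab hR'⟩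
  have hp : AlgSt.RepByAlgSpWith Q p := repByAlgSpWith_fpFst Q b z hb
  have hrp : AlgSt.RepByAlgSpWith Q (BasedFunctor.comp r₀ p) := by
    have h1 : AlgSt.RepByAlgSpWith Q (FibCat.fpFst z (BasedFunctor.comp a b)) :=
      repByAlgSpWith_fpFst Q (BasedFunctor.comp a b) z hab
    exact (repByAlgSpWith_of_square Q (FibCat.fpFst z (BasedFunctor.comp a b))
      (BasedFunctor.comp r₀ p) (pasteR z a b) (BasedFunctor.id _) hR (isEquivOver_id _)
      (Iso.refl _)).1 h1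
  have hr₀ : AlgSt.RepByAlgSpWith Q r₀ :=
    repByAlgSpWith_of_comp_to_slice' Q hQb hcancel h𝒜z hℬz r₀ p hp hrp
  let σ : FibCat.overCat U ⥤ᵇ FibCat.fp z b :=
    FibCat.fpLift (BasedFunctor.id _) y (Iso.refl _)
  have h2 : AlgSt.RepByAlgSpWith Q (FibCat.fpFst σ r₀) := repByAlgSpWith_fpFst Q r₀ σ hr₀
  have h3 : AlgSt.RepByAlgSpWith Q (FibCat.fpFst (BasedFunctor.comp σ π) a) :=
    (repByAlgSpWith_of_square Q (FibCat.fpFst (BasedFunctor.comp σ π) a) (FibCat.fpFst σ r₀)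
      (pasteL a π σ) (BasedFunctor.id _) (isEquivOver_pasteL a π σ) (isEquivOver_id _)
      (Iso.refl _)).2 h2
  exact h3

end Groth.Agent.Lib.T2H6.CancelP

namespace Groth.Agent.Lib.T2H6.CancelP

open Groth.Agent.Lib.Helper17 Groth.Agent.Lib.Helper15DiagBase Groth.Agent.Lib.Helper15DiagLft
  Groth.Agent.Lib.Helper15LocQEngine

variable {S : Scheme.{u}} {𝒳 𝒴 𝒵 : AlgSt.Cat S}

/-- the diagonal of `f ≫ g` is the diagonal of `f` followed by the comparison functor -/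
def diagToRelIso (f : 𝒳 ⥤ᵇ 𝒴) (g : 𝒴 ⥤ᵇ 𝒵) :
    BasedFunctor.comp (FibCat.diag f) (toRel f f g) ≅ FibCat.diag (BasedFunctor.comp f g) :=
  fpIsoMk (BasedFunctor.comp f g) (BasedFunctor.comp f g)
    (H := BasedFunctor.comp (FibCat.diag f) (toRel f f g))
    (K := FibCat.diag (BasedFunctor.comp f g)) (Iso.refl _) (Iso.refl _)
    (fun x => by
      change g.map (f.map (𝟙 _)) ≫ 𝟙 _ = g.map (𝟙 _) ≫ g.map (f.map (𝟙 _))
      rw [f.toFunctor.map_id, g.toFunctor.map_id])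

theorem repByAlgSpWith_diag_of_diag_comp (Q : MorphismProperty (AlgSp.Sp S)) (hQb : BCStable Q)
    (hcancel : ∀ ⦃X Y Z : AlgSp.Sp S⦄, AlgSp.IsAlgSpace X → AlgSp.IsAlgSpace Y →
      AlgSp.IsAlgSpace Z → ∀ (a : X ⟶ Y) (b : Y ⟶ Z), Q b → Q (a ≫ b) → Q a)
    (f : 𝒳 ⥤ᵇ 𝒴) (g : 𝒴 ⥤ᵇ 𝒵) (hg : AlgSt.RepByAlgSpWith Q (FibCat.diag g))
    (hgf : AlgSt.RepByAlgSpWith Q (FibCat.diag (BasedFunctor.comp f g))) :
    AlgSt.RepByAlgSpWith Q (FibCat.diag f) := by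
  have hb : AlgSt.RepByAlgSpWith Q (toRel f f g) := repByAlgSpWith_toRel Q f f g hg
  have hab : AlgSt.RepByAlgSpWith Q (BasedFunctor.comp (FibCat.diag f) (toRel f f g)) :=
    repByAlgSpWith_of_iso Q (diagToRelIso f g).symm hgf
  exact repByAlgSpWith_cancel Q hQb hcancel (FibCat.diag f) (toRel f f g) hb hab

end Groth.Agent.Lib.T2H6.CancelP
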