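-- helper6 (team 2): algebras of small dimension over a large field are Jacobson with algebraic
-- residue fields.
import Mathlib

set_option autoImplicit false
open Cardinal

universe u

namespace Groth.Agent.Lib.T2H6.CardJacobson

/-- A field extension whose dimension is smaller than the cardinality of the base field is
algebraic. -/
theorem isAlgebraic_of_rank_lt (K : Type u) [Field K] (L : Type u) [Field L] [Algebra K L]
    (h : Module.rank K L < #K) : Algebra.IsAlgebraic K L := by
  by_contra hna
  rw [← Algebra.transcendental_iff_not_isAlgebraic] at hna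
  have h1 := Algebra.Transcendental.rank_eq_cardinalMk K L
  have h2 : #K ≤ #L := Cardinal.mk_le_of_injective (algebraMap K L).injective
  rw [h1] at h
  exact absurd (h.trans_le h2) (lt_irrefl _)

/-- The residue field at a maximal ideal of an algebra of small dimension is algebraic. -/
theorem isAlgebraic_quotient_of_rank_lt (K : Type u) [Field K] (B : Type u) [CommRing B]
    [Algebra K B] (h : Module.rank K B < #K) (m : Ideal B) [hm : m.IsMaximal] :
    letI : Field (B ⧸ m) := Ideal.Quotient.field m
    Algebra.IsAlgebraic K (B ⧸ m) := by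
  letI : Field (B ⧸ m) := Ideal.Quotient.field m
  exact isAlgebraic_of_rank_lt K (B ⧸ m) ((rank_quotient_le (m.restrictScalars K)).trans_lt h)

/-- Over an uncountable field `K`, a domain of dimension `< #K` has a maximal ideal avoiding any
given nonzero element. -/
theorem exists_maximal_not_mem (K : Type u) [Field K] (hK : ℵ₀ < #K) (D : Type u)
    [CommRing D] [IsDomain D] [Algebra K D] (hD : Module.rank K D < #K) (f : D) (hf : f ≠ 0) :
    ∃ m : Ideal D, m.IsMaximal ∧ f ∉ m := by
  let F := FractionRing D
  let b := Module.Free.chooseBasis K D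
  let T : Set F := Set.range (fun i => algebraMap D F (b i)) ∪ {(algebraMap D F f)⁻¹}
  have hT : #T < #K := by
    refine (Cardinal.mk_union_le _ _).trans_lt ?_
    refine Cardinal.add_lt_of_lt hK.le ?_ ?_
    · refine Cardinal.mk_range_le.trans_lt ?_
      rw [← Module.Free.rank_eq_card_chooseBasisIndex]
      exact hD
    · rw [Cardinal.mk_singleton]
      exact Cardinal.one_lt_aleph0.trans hK
  let B : Subalgebra K F := Algebra.adjoin K T
  have hDB : ∀ d : D, algebraMap D F d ∈ B := by
    intro d
    have h1 : d ∈ Submodule.span K (Set.range b) := by rw [b.span_eq]; trivial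
    have h2 : (IsScalarTower.toAlgHom K D F).toLinearMap d ∈
        (Submodule.span K (Set.range b)).map (IsScalarTower.toAlgHom K D F).toLinearMap :=
      ⟨d, h1, rfl⟩
    rw [Submodule.map_span] at h2
    have h3 : Submodule.span K ((IsScalarTower.toAlgHom K D F).toLinearMap '' Set.range b) ≤
        Subalgebra.toSubmodule B := by
      refine Submodule.span_le.2 ?_
      rintro _ ⟨_, ⟨i, rfl⟩, rfl⟩
      exact Algebra.subset_adjoin (Or.inl ⟨i, rfl⟩)
    exact h3 h2
  have hinvB : (algebraMap D F f)⁻¹ ∈ B := Algebra.subset_adjoin (Or.inr rfl)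
  obtain ⟨M, hM⟩ := Ideal.exists_maximal B
  let L := B ⧸ M
  letI : Field L := Ideal.Quotient.field M
  have hrankB : Module.rank K B < #K :=
    (Algebra.rank_adjoin_le T).trans_lt (max_lt hT hK)
  have hrankL : Module.rank K L < #K :=
    (rank_quotient_le (M.restrictScalars K)).trans_lt hrankB
  have halg : Algebra.IsAlgebraic K L := isAlgebraic_of_rank_lt K L hrankL
  let φ : D →ₐ[K] L := (Ideal.Quotient.mkₐ K M).comp
    ((IsScalarTower.toAlgHom K D F).codRestrict B hDB)
  have hφ : φ f ≠ 0 := by
    intro h0
    have h1 : (Ideal.Quotient.mk M) (⟨algebraMap D F f, hDB f⟩ : B) = 0 := h0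
    have h2 : (⟨algebraMap D F f, hDB f⟩ : B) * ⟨_, hinvB⟩ = 1 := by
      apply Subtype.ext
      change algebraMap D F f * (algebraMap D F f)⁻¹ = 1
      exact mul_inv_cancel₀ (by simpa using hf)
    have h3 := congrArg (Ideal.Quotient.mk M) h2
    rw [map_mul, h1, zero_mul, map_one] at h3
    exact zero_ne_one h3
  refine ⟨RingHom.ker φ.toRingHom, ?_, fun hn => hφ hn⟩
  have hprime : (RingHom.ker φ.toRingHom).IsPrime := RingHom.ker_isPrime _
  have : IsDomain (D ⧸ RingHom.ker φ.toRingHom) := Ideal.Quotient.isDomain _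
  have halgQ : Algebra.IsAlgebraic K (D ⧸ RingHom.ker φ.toRingHom) := by
    let ψ : (D ⧸ RingHom.ker φ.toRingHom) →ₐ[K] L := Ideal.Quotient.liftₐ _ φ (fun a ha => ha)
    have hψ : Function.Injective ψ := by
      rw [injective_iff_map_eq_zero]
      intro a ha
      obtain ⟨d, rfl⟩ := Ideal.Quotient.mk_surjective a
      exact Ideal.Quotient.eq_zero_iff_mem.2 ha
    exact Algebra.IsAlgebraic.of_injective ψ hψ
  have hfield : IsField (D ⧸ RingHom.ker φ.toRingHom) :=
    isField_of_isIntegral_of_isField' (R := K) (Field.toIsField K)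
  exact Ideal.Quotient.maximal_of_isField _ hfield

/-- Over an uncountable field `K`, an algebra of dimension `< #K` is a Jacobson ring. -/
theorem isJacobsonRing_of_rank_lt (K : Type u) [Field K] (hK : ℵ₀ < #K) (B : Type u)
    [CommRing B] [Algebra K B] (hB : Module.rank K B < #K) : IsJacobsonRing B := by
  rw [isJacobsonRing_iff_prime_eq]
  intro P hP
  refine le_antisymm ?_ Ideal.le_jacobson
  intro x hx
  by_contra hxP
  have : IsDomain (B ⧸ P) := Ideal.Quotient.isDomain P
  have hrank : Module.rank K (B ⧸ P) < #K :=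
    (rank_quotient_le (P.restrictScalars K)).trans_lt hB
  obtain ⟨m₀, hm₀, hm₀f⟩ := exists_maximal_not_mem K hK (B ⧸ P) hrank (Ideal.Quotient.mk P x)
    (fun h0 => hxP (Ideal.Quotient.eq_zero_iff_mem.1 h0))
  have hmax : (m₀.comap (Ideal.Quotient.mk P)).IsMaximal :=
    Ideal.comap_isMaximal_of_surjective _ Ideal.Quotient.mk_surjective
  have hle : P ≤ m₀.comap (Ideal.Quotient.mk P) := by
    intro y hy
    change Ideal.Quotient.mk P y ∈ m₀
    rw [Ideal.Quotient.eq_zero_iff_mem.2 hy]
    exact m₀.zero_mem
  rw [Ideal.jacobson, Ideal.mem_sInf] at hx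
  exact hm₀f (hx ⟨hle, hmax⟩)

end Groth.Agent.Lib.T2H6.CardJacobson
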