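-- helper6 (team 2): base change of a scheme over a field to a large extension field is Jacobson
-- with algebraic residue fields at closed points.
import Mathlib
import Groth.Prelude.Def_CurvBase
import Groth.Agent.Lib.T2H6CardJacobson
import Groth.Agent.Lib.T2H6BiratFF

set_option autoImplicit false
set_option backward.isDefEq.respectTransparency false
set_option backward.isDefEq.respectTransparency.types false
open CategoryTheory CategoryTheory.Limits AlgebraicGeometry Cardinal TensorProduct

universe u

namespace Groth.Agent.Lib.T2H6.CardJacSch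

open Groth.Agent.Lib.T2H6.CardJacobson

section Alg

variable (k : Type u) [Field k] (A : Type u) [CommRing A] [Algebra k A] (K : Type u) [Field K]
  [Algebra k K]

attribute [local instance] Algebra.TensorProduct.rightAlgebra

theorem rank_tensor_le : Module.rank K (A ⊗[k] K) ≤ #A := by
  let S : Set (A ⊗[k] K) := Set.range (fun a : A => a ⊗ₜ[k] (1 : K))
  have hS : Submodule.span K S = ⊤ := by
    rw [eq_top_iff]
    rintro x -
    induction x using TensorProduct.induction_on with
    | zero => exact Submodule.zero_mem _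
    | tmul a c =>
      have h1 : a ⊗ₜ[k] c = c • (a ⊗ₜ[k] (1 : K)) := by
        rw [Algebra.smul_def]
        change _ = ((1 : A) ⊗ₜ[k] c) * _
        rw [Algebra.TensorProduct.tmul_mul_tmul, one_mul, mul_one]
      rw [h1]
      exact Submodule.smul_mem _ _ (Submodule.subset_span ⟨a, rfl⟩)
    | add x y hx hy => exact Submodule.add_mem _ hx hy
  rw [← rank_top, ← hS]
  exact (rank_span_le S).trans Cardinal.mk_range_le

end Alg

section Sch

variable (k : Type u) [Field k] (X : Scheme.{u}) [X.Over (Spec (CommRingCat.of k))]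

/-- The ring map from the base field to the sections over an open. -/
noncomputable def ρ (U : X.Opens) : k →+* Γ(X, U) :=
  ((X ↘ Spec (CommRingCat.of k)).appLE ⊤ U le_top).hom.comp
    (Scheme.ΓSpecIso (CommRingCat.of k)).inv.hom

/-- The algebra structure on sections over an open. -/
noncomputable abbrev algΓ (U : X.Opens) : Algebra k Γ(X, U) := (ρ k X U).toAlgebra

theorem fromSpec_over {U : X.Opens} (hU : IsAffineOpen U) :
    hU.fromSpec ≫ (X ↘ Spec (CommRingCat.of k)) = Spec.map (CommRingCat.ofHom (ρ k X U)) := by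
  have h1 := IsAffineOpen.SpecMap_appLE_fromSpec (X ↘ Spec (CommRingCat.of k))
    (isAffineOpen_top (Spec (CommRingCat.of k))) hU le_top
  rw [← h1, IsAffineOpen.fromSpec_top, Scheme.isoSpec_Spec_inv, ← Spec.map_comp]
  rfl

end Sch

section Chart

variable (k : Type u) [Field k] (X : Scheme.{u}) [X.Over (Spec (CommRingCat.of k))]
  (K : Type u) [Field K] [Algebra k K] {U : X.Opens} (hU : IsAffineOpen U)

attribute [local instance] algΓ

/-- The affine chart `Spec (Γ(X, U) ⊗ K) ⟶ X_K` of the base change. -/
noncomputable def chart : Spec (CommRingCat.of (Γ(X, U) ⊗[k] K)) ⟶ Curv2.bc k X K :=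
  (pullbackSpecIso k Γ(X, U) K).inv ≫
    pullback.map _ _ _ _ hU.fromSpec (𝟙 _) (𝟙 _)
      (by rw [Category.comp_id]; exact (fromSpec_over k X hU).symm)
      (by rw [Category.comp_id, Category.id_comp])

instance : IsOpenImmersion (chart k X K hU) := by
  unfold chart
  infer_instance

theorem range_chart : Set.range (chart k X K hU) = (Curv2.bcFst k X K) ⁻¹' (U : Set X) := by
  unfold chart
  have hs : Set.range (pullbackSpecIso k Γ(X, U) K).inv = Set.univ :=
    Set.range_eq_univ.2 (pullbackSpecIso k Γ(X, U) K).inv.homeomorph.surjective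
  have h2 : Set.range hU.fromSpec = (U : Set X) := hU.range_fromSpec
  rw [Scheme.Hom.comp_base, TopCat.coe_comp, Set.range_comp, hs, Set.image_univ,
    Scheme.Pullback.range_map]
  ext z
  constructor
  · rintro ⟨h, -⟩
    exact h2 ▸ h
  · intro h
    exact ⟨h2.symm ▸ h, ⟨(Curv2.bcSnd k X K) z, rfl⟩⟩

theorem chart_snd : chart k X K hU ≫ Curv2.bcSnd k X K =
    Spec.map (CommRingCat.ofHom (Algebra.TensorProduct.includeRight (R := k) (A := Γ(X, U))
      (B := K)).toRingHom) := by
  unfold chart
  rw [Category.assoc]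
  erw [pullback.lift_snd]
  rw [Category.comp_id]
  exact pullbackSpecIso_inv_snd k Γ(X, U) K

end Chart

section Main

theorem isAlgebraic_of_surjective (K B L : Type u) [Field K] [CommRing B] [Algebra K B] [Field L]
    [Algebra K L] (φ : B →+* L) (hφ : Function.Surjective φ)
    (hc : ∀ c : K, φ (algebraMap K B c) = algebraMap K L c) (h : Module.rank K B < #K) :
    Algebra.IsAlgebraic K L := by
  let φ' : B →ₐ[K] L := { φ with commutes' := hc }
  exact isAlgebraic_of_rank_lt K L
    ((LinearMap.rank_le_of_surjective φ'.toLinearMap hφ).trans_lt h)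

theorem fromSpecResidueField_over (K : Type u) [Field K] (Y : Scheme.{u})
    [Y.Over (Spec (CommRingCat.of K))] (y : Y) :
    Y.fromSpecResidueField y ≫ (Y ↘ Spec (CommRingCat.of K)) =
      Spec.map (CommRingCat.ofHom (Curv2.resMap K Y y)) := by
  rw [Scheme.fromSpecResidueField, Category.assoc,
    Groth.Agent.Lib.T2H6.BiratFF.fromSpecStalk_over, ← Spec.map_comp]
  rfl

variable (k : Type u) [Field k] (X : Scheme.{u}) [X.Over (Spec (CommRingCat.of k))]

attribute [local instance] algΓ Algebra.TensorProduct.rightAlgebra Curv2.resAlgebra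

theorem exists_cardinal : ∃ κ : Cardinal.{u}, ∀ (K : Type u) [Field K] [Algebra k K],
    κ ≤ Cardinal.mk K →
      JacobsonSpace ↥(Curv2.bc k X K) ∧
        ∀ x : ↥(Curv2.bc k X K), IsClosed ({x} : Set ↥(Curv2.bc k X K)) →
          letI : (Curv2.bc k X K).Over (Spec (CommRingCat.of K)) := ⟨Curv2.bcSnd k X K⟩
          Algebra.IsAlgebraic K ((Curv2.bc k X K).residueField x) := by
  refine ⟨Order.succ (max ℵ₀ (⨆ U : X.affineOpens, #Γ(X, U.1))), fun K _ _ hκ => ?_⟩
  have hlt : max ℵ₀ (⨆ U : X.affineOpens, #Γ(X, U.1)) < #K := Order.succ_le_iff.1 hκ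
  have hK : ℵ₀ < #K := (le_max_left _ _).trans_lt hlt
  have hA : ∀ U : X.affineOpens, #Γ(X, U.1) < #K := fun U =>
    (le_ciSup Cardinal.bddAbove_of_small U).trans_lt ((le_max_right _ _).trans_lt hlt)
  have hrank : ∀ U : X.affineOpens, Module.rank K (Γ(X, U.1) ⊗[k] K) < #K := fun U =>
    (rank_tensor_le k Γ(X, U.1) K).trans_lt (hA U)
  have hmem : ∀ x : ↥(Curv2.bc k X K), ∃ U : X.affineOpens,
      x ∈ Set.range (chart k X K U.2) := by
    intro x
    obtain ⟨U, hU, hxU, -⟩ := exists_isAffineOpen_mem_and_subset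
      (x := Curv2.bcFst k X K x) (U := ⊤) trivial
    refine ⟨⟨U, hU⟩, ?_⟩
    rw [range_chart]
    exact hxU
  constructor
  · let V : X.affineOpens → (Curv2.bc k X K).Opens := fun U => (chart k X K U.2).opensRange
    have hcov : TopologicalSpace.IsOpenCover V := by
      rw [TopologicalSpace.IsOpenCover, eq_top_iff]
      intro x _
      obtain ⟨U, hU⟩ := hmem x
      exact TopologicalSpace.Opens.mem_iSup.2 ⟨U, hU⟩
    rw [hcov.jacobsonSpace_iff]
    intro U
    have hJ : IsJacobsonRing (Γ(X, U.1) ⊗[k] K) := isJacobsonRing_of_rank_lt K hK _ (hrank U)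
    have : JacobsonSpace (PrimeSpectrum (Γ(X, U.1) ⊗[k] K)) :=
      PrimeSpectrum.isJacobsonRing_iff_jacobsonSpace.1 hJ
    let e := (chart k X K U.2).isOpenEmbedding.isEmbedding.toHomeomorph
    exact JacobsonSpace.of_isOpenEmbedding (Y := PrimeSpectrum (Γ(X, U.1) ⊗[k] K))
      (f := e.symm) e.symm.isOpenEmbedding
  · intro x hx
    let _ : (Curv2.bc k X K).Over (Spec (CommRingCat.of K)) := ⟨Curv2.bcSnd k X K⟩
    obtain ⟨U, hxr⟩ := hmem x
    let t := (Curv2.bc k X K).fromSpecResidueField x
    have hcl : IsClosedImmersion t := isClosed_singleton_iff_isClosedImmersion.1 hx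
    have hr : Set.range t ⊆ Set.range (chart k X K U.2) := by
      rw [Scheme.range_fromSpecResidueField]
      exact Set.singleton_subset_iff.2 hxr
    let t' := IsOpenImmersion.lift (chart k X K U.2) t hr
    have ht' : t' ≫ chart k X K U.2 = t := IsOpenImmersion.lift_fac _ _ _
    have hcl' : IsClosedImmersion t' := by
      have : IsClosedImmersion (t' ≫ chart k X K U.2) := by rw [ht']; exact hcl
      exact IsClosedImmersion.of_comp t' (chart k X K U.2)
    let φ : CommRingCat.of (Γ(X, U.1) ⊗[k] K) ⟶ (Curv2.bc k X K).residueField x := Spec.preimage t'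
    have hφ : Spec.map φ = t' := Spec.map_preimage t'
    have hsurj : Function.Surjective φ := by
      have h := (IsClosedImmersion.isAffine_surjective_of_isAffine t').2
      rw [← hφ] at h
      have nat := Scheme.ΓSpecIso_naturality φ
      have h2 : φ = (Scheme.ΓSpecIso _).inv ≫ (Spec.map φ).appTop ≫ (Scheme.ΓSpecIso _).hom := by
        rw [nat, Iso.inv_hom_id_assoc]
      rw [h2]
      exact ((ConcreteCategory.bijective_of_isIso (Scheme.ΓSpecIso _).hom).2.comp h).comp
        (ConcreteCategory.bijective_of_isIso (Scheme.ΓSpecIso _).inv).2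
    have hcomp : CommRingCat.ofHom (Curv2.resMap K (Curv2.bc k X K) x) =
        CommRingCat.ofHom (Algebra.TensorProduct.includeRight (R := k) (A := Γ(X, U.1))
          (B := K)).toRingHom ≫ φ := by
      apply Spec.map_injective
      rw [Spec.map_comp, hφ, ← chart_snd k X K U.2, ← Category.assoc, ht']
      exact (fromSpecResidueField_over K (Curv2.bc k X K) x).symm
    refine isAlgebraic_of_surjective K (Γ(X, U.1) ⊗[k] K) _ φ.hom hsurj ?_ (hrank U)
    intro c
    exact (congrArg (fun r => r.hom c) hcomp).symm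

end Main

end Groth.Agent.Lib.T2H6.CardJacSch
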