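import Groth.Agent.Lib.T2H6ChowGen

/-!
# helper6 (team 2): Chow's lemma — the closure construction
-/

set_option autoImplicit false
set_option linter.unusedSectionVars false
universe u

open CategoryTheory CategoryTheory.Limits AlgebraicGeometry TopologicalSpace Opposite

namespace Groth.Agent.Lib.T2H6.ChowCore

open Groth.Agent.Lib.T2H6.ChowGen

/-- Claim A: two morphisms to a separated scheme agree on the preimage of an open, being equal on a
scheme-theoretically dense part. -/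
theorem claimA {X' X Q S U' : Scheme.{u}} (π : X' ⟶ X) (f : X ⟶ S) (Uo : X.Opens) (ψq : X' ⟶ Q)
    (q : Q ⟶ S) [IsSeparated q] (jq : (Uo : Scheme.{u}) ⟶ Q) (t : U' ⟶ X')
    [IsSchemeTheoreticallyDominant t] [QuasiCompact t]
    (hover : ψq ≫ q = π ≫ f) (hjq : jq ≫ q = Uo.ι ≫ f)
    (u : U' ⟶ (Uo : Scheme.{u})) (hu : u ≫ Uo.ι = t ≫ π) (hagree : t ≫ ψq = u ≫ jq) :
    (π ⁻¹ᵁ Uo).ι ≫ ψq = (π ∣_ Uo) ≫ jq := by
  haveI := isSchemeTheoreticallyDominant_morphismRestrict t (π ⁻¹ᵁ Uo)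
  refine ext_of_isSchemeTheoreticallyDominant q ?_ (t ∣_ π ⁻¹ᵁ Uo) ?_
  · rw [Category.assoc, hover, Category.assoc, hjq, morphismRestrict_ι_assoc]
  · have h1 : (t ∣_ π ⁻¹ᵁ Uo) ≫ (π ∣_ Uo) = (t ⁻¹ᵁ π ⁻¹ᵁ Uo).ι ≫ u := by
      rw [← cancel_mono Uo.ι, Category.assoc, morphismRestrict_ι, morphismRestrict_ι_assoc,
        Category.assoc, hu]
    rw [morphismRestrict_ι_assoc, hagree, ← Category.assoc, ← h1, Category.assoc]

/-- Claim B: the restriction of the projection of the scheme-theoretic image over an open `W` of `P` is a closed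
immersion, if the restriction of `h` factors through a scheme `Z` closed in `W`. -/
theorem claimB {U' Y P Z : Scheme.{u}} (h : U' ⟶ Y) [QuasiCompact h] (sY : Y ⟶ P) [IsSeparated sY]
    (W : P.Opens) (zW : Z ⟶ (W : Scheme.{u})) [IsClosedImmersion zW] (zY : Z ⟶ Y)
    (hz : zY ≫ sY = zW ≫ W.ι)
    (g : ((h ⁻¹ᵁ (sY ⁻¹ᵁ W) : U'.Opens) : Scheme.{u}) ⟶ Z)
    (hg : g ≫ zY = (h ⁻¹ᵁ (sY ⁻¹ᵁ W)).ι ≫ h) :
    IsClosedImmersion ((h.imageι ≫ sY) ∣_ W) := by
  have hrange : Set.range zY ⊆ Set.range (sY ⁻¹ᵁ W).ι := by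
    rintro _ ⟨y, rfl⟩
    rw [Scheme.Opens.range_ι]
    change sY (zY y) ∈ W
    rw [← Scheme.Hom.comp_apply, hz, Scheme.Hom.comp_apply]
    exact (zW y).2
  let z : Z ⟶ ((sY ⁻¹ᵁ W : Y.Opens) : Scheme.{u}) := IsOpenImmersion.lift (sY ⁻¹ᵁ W).ι zY hrange
  have hzι : z ≫ (sY ⁻¹ᵁ W).ι = zY := IsOpenImmersion.lift_fac _ _ _
  have hzW : z ≫ (sY ∣_ W) = zW := by
    rw [← cancel_mono W.ι, Category.assoc, morphismRestrict_ι, ← Category.assoc, hzι, hz]
  haveI : IsClosedImmersion (z ≫ (sY ∣_ W)) := by rw [hzW]; infer_instance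
  haveI : IsClosedImmersion z := IsClosedImmersion.of_comp z (sY ∣_ W)
  have hgz : g ≫ z = h ∣_ (sY ⁻¹ᵁ W) := by
    rw [← cancel_mono (sY ⁻¹ᵁ W).ι, Category.assoc, hzι, hg, morphismRestrict_ι]
  obtain ⟨g', hg'⟩ := exists_lift_image_restrict h (sY ⁻¹ᵁ W) z g hgz
  haveI : IsClosedImmersion (g' ≫ z) := by rw [hg']; infer_instance
  haveI : IsClosedImmersion g' := IsClosedImmersion.of_comp g' z
  have e := morphismRestrict_comp h.imageι sY W
  have e2 : (h.imageι ∣_ sY ⁻¹ᵁ W) ≫ (sY ∣_ W) = g' ≫ zW := by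
    rw [← hg', Category.assoc, hzW]
  rw [e, e2]
  exact MorphismProperty.comp_mem @IsClosedImmersion g' zW inferInstance inferInstance

theorem isIso_ι_morphismRestrict {X : Scheme.{u}} (U : X.Opens) : IsIso (U.ι ∣_ U) :=
  IsKernelPair.isIso_of_mono (f := U.ι) (isPullback_morphismRestrict U.ι U)

/-- **The closure construction of Chow's lemma.** -/
theorem core {X S P : Scheme.{u}} (f : X ⟶ S) [IsSeparated f] (p : P ⟶ S) [IsProper p]
    {κ : Type*} (Uo : κ → X.Opens) (hcov : ∀ x : X, ∃ i, x ∈ Uo i)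
    (U : X.Opens) (hU : ∀ i, U ≤ Uo i) [QuasiCompact U.ι] (hUd : Dense (U : Set X))
    (Q : κ → Scheme.{u}) (q : ∀ i, Q i ⟶ S) [∀ i, IsSeparated (q i)]
    (pr : ∀ i, P ⟶ Q i) (hpr : ∀ i, pr i ≫ q i = p)
    (V : ∀ i, (Q i).Opens) (c : ∀ i, ((Uo i : X.Opens) : Scheme.{u}) ⟶ ((V i : (Q i).Opens) : Scheme.{u}))
    [∀ i, IsClosedImmersion (c i)]
    (hj : ∀ i, (c i ≫ (V i).ι) ≫ q i = (Uo i).ι ≫ f)
    (jU : (U : Scheme.{u}) ⟶ P) (hjUp : jU ≫ p = U.ι ≫ f)
    (hjU : ∀ i, jU ≫ pr i = X.homOfLE (hU i) ≫ c i ≫ (V i).ι) :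
    ∃ (X' : Scheme.{u}) (π : X' ⟶ X) (ψ : X' ⟶ P), IsImmersion ψ ∧ ψ ≫ p = π ≫ f ∧ IsProper π ∧
      Surjective π ∧ IsIso (π ∣_ U) := by
  let h : (U : Scheme.{u}) ⟶ pullback f p := pullback.lift U.ι jU hjUp.symm
  have hfst : h ≫ pullback.fst f p = U.ι := pullback.lift_fst _ _ _
  have hsnd : h ≫ pullback.snd f p = jU := pullback.lift_snd _ _ _
  haveI : IsProper (pullback.fst f p) := MorphismProperty.pullback_fst _ _ inferInstance
  haveI : IsSeparated (pullback.snd f p) := MorphismProperty.pullback_snd _ _ inferInstance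
  haveI : QuasiCompact (h ≫ pullback.fst f p) := by rw [hfst]; infer_instance
  haveI : QuasiCompact h := QuasiCompact.of_comp h (pullback.fst f p)
  have hti : h.toImage ≫ h.imageι = h := h.toImage_imageι
  haveI : IsSchemeTheoreticallyDominant h.toImage := isSchemeTheoreticallyDominant_toImage h
  have htπ : h.toImage ≫ (h.imageι ≫ pullback.fst f p) = U.ι := by
    rw [← Category.assoc, hti, hfst]
  have htψ : h.toImage ≫ (h.imageι ≫ pullback.snd f p) = jU := by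
    rw [← Category.assoc, hti, hsnd]
  refine ⟨h.image, h.imageι ≫ pullback.fst f p, h.imageι ≫ pullback.snd f p, ?_, ?_, inferInstance,
    ?_, ?_⟩
  · -- immersion
    refine isImmersion_of_closedImmersion_cover _ (fun i => (pr i) ⁻¹ᵁ (V i)) ?_ ?_
    · intro x'
      obtain ⟨i, hi⟩ := hcov ((h.imageι ≫ pullback.fst f p) x')
      refine ⟨i, ?_⟩
      have hA := claimA (h.imageι ≫ pullback.fst f p) f (Uo i)
        ((h.imageι ≫ pullback.snd f p) ≫ pr i) (q i) (c i ≫ (V i).ι) h.toImage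
        (by rw [Category.assoc, Category.assoc, hpr i, Category.assoc, pullback.condition])
        (hj i) (X.homOfLE (hU i)) (by rw [Scheme.homOfLE_ι, htπ])
        (by rw [← Category.assoc, htψ, hjU i])
      -- evaluate at the point
      let y : ((h.imageι ≫ pullback.fst f p) ⁻¹ᵁ Uo i : h.image.Opens) := ⟨x', hi⟩
      have h1 := congrArg (fun φ => (φ : _ ⟶ Q i) y) hA
      simp only [Scheme.Hom.comp_apply] at h1
      change pr i ((h.imageι ≫ pullback.snd f p) x') ∈ V i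
      have h2 : (pr i) ((pullback.snd f p) (h.imageι x')) =
          (V i).ι ((c i) (((h.imageι ≫ pullback.fst f p) ∣_ Uo i) y)) := h1
      rw [Scheme.Hom.comp_apply, h2]
      exact ((c i) (((h.imageι ≫ pullback.fst f p) ∣_ Uo i) y)).2
    · intro i
      -- the closed subscheme `Z` of `W i`
      let W : P.Opens := (pr i) ⁻¹ᵁ (V i)
      let zW := pullback.snd (c i) (pr i ∣_ V i)
      have hcond : (pullback.fst (c i) (pr i ∣_ V i) ≫ (Uo i).ι) ≫ f = (zW ≫ W.ι) ≫ p := by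
        rw [Category.assoc, ← hj i, ← Category.assoc, ← Category.assoc, pullback.condition,
          Category.assoc, Category.assoc, morphismRestrict_ι_assoc, hpr i]
        rfl
      let zY : pullback (c i) (pr i ∣_ V i) ⟶ pullback f p :=
        pullback.lift (pullback.fst (c i) (pr i ∣_ V i) ≫ (Uo i).ι) (zW ≫ W.ι) hcond
      have hz : zY ≫ pullback.snd f p = zW ≫ W.ι := pullback.lift_snd _ _ _
      have hzf : zY ≫ pullback.fst f p = pullback.fst (c i) (pr i ∣_ V i) ≫ (Uo i).ι :=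
        pullback.lift_fst _ _ _
      -- the factorization of `h` over `W`
      let T : (U : Scheme.{u}).Opens := h ⁻¹ᵁ ((pullback.snd f p) ⁻¹ᵁ W)
      let g₁ : (T : Scheme.{u}) ⟶ (Uo i : Scheme.{u}) := T.ι ≫ X.homOfLE (hU i)
      let g₂ : (T : Scheme.{u}) ⟶ (W : Scheme.{u}) :=
        (h ∣_ ((pullback.snd f p) ⁻¹ᵁ W)) ≫ ((pullback.snd f p) ∣_ W)
      have hg₂ : g₂ ≫ W.ι = T.ι ≫ jU := by
        change ((h ∣_ ((pullback.snd f p) ⁻¹ᵁ W)) ≫ ((pullback.snd f p) ∣_ W)) ≫ W.ι = _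
        rw [Category.assoc, morphismRestrict_ι, morphismRestrict_ι_assoc, hsnd]
      have hgc : g₁ ≫ c i = g₂ ≫ (pr i ∣_ V i) := by
        rw [← cancel_mono (V i).ι]
        calc (g₁ ≫ c i) ≫ (V i).ι = T.ι ≫ (X.homOfLE (hU i) ≫ c i ≫ (V i).ι) := by
              simp only [g₁, Category.assoc]
          _ = T.ι ≫ jU ≫ pr i := by rw [hjU i]
          _ = (g₂ ≫ W.ι) ≫ pr i := by rw [hg₂, Category.assoc]
          _ = (g₂ ≫ (pr i ∣_ V i)) ≫ (V i).ι := by
              have e : (pr i ∣_ V i) ≫ (V i).ι = W.ι ≫ pr i := morphismRestrict_ι _ _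
              calc (g₂ ≫ W.ι) ≫ pr i = g₂ ≫ (W.ι ≫ pr i) := Category.assoc _ _ _
                _ = g₂ ≫ ((pr i ∣_ V i) ≫ (V i).ι) := by rw [e]
                _ = (g₂ ≫ (pr i ∣_ V i)) ≫ (V i).ι := (Category.assoc _ _ _).symm
      let g : (T : Scheme.{u}) ⟶ pullback (c i) (pr i ∣_ V i) := pullback.lift g₁ g₂ hgc
      have hg : g ≫ zY = T.ι ≫ h := by
        apply pullback.hom_ext
        · calc (g ≫ zY) ≫ pullback.fst f p = g ≫ (zY ≫ pullback.fst f p) := Category.assoc _ _ _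
            _ = (g ≫ pullback.fst (c i) (pr i ∣_ V i)) ≫ (Uo i).ι := by rw [hzf, Category.assoc]
            _ = g₁ ≫ (Uo i).ι := by rw [pullback.lift_fst]
            _ = T.ι ≫ U.ι := by simp only [g₁, Category.assoc, Scheme.homOfLE_ι]
            _ = (T.ι ≫ h) ≫ pullback.fst f p := by rw [Category.assoc, hfst]
        · calc (g ≫ zY) ≫ pullback.snd f p = g ≫ (zY ≫ pullback.snd f p) := Category.assoc _ _ _
            _ = (g ≫ zW) ≫ W.ι := by rw [hz, Category.assoc]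
            _ = g₂ ≫ W.ι := by rw [pullback.lift_snd]
            _ = (T.ι ≫ h) ≫ pullback.snd f p := by rw [hg₂, Category.assoc, hsnd]
      exact claimB h (pullback.snd f p) W zW zY hz g hg
  · rw [Category.assoc, Category.assoc, pullback.condition]
  · -- surjective
    constructor
    have hcl : IsClosed (Set.range (h.imageι ≫ pullback.fst f p)) :=
      (Scheme.Hom.isClosedMap (h.imageι ≫ pullback.fst f p)).isClosed_range
    have hsub : (U : Set X) ⊆ Set.range (h.imageι ≫ pullback.fst f p) := by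
      intro x hx
      refine ⟨h.toImage ⟨x, hx⟩, ?_⟩
      rw [← Scheme.Hom.comp_apply, htπ]
      rfl
    intro x
    have : closure (U : Set X) ⊆ Set.range (h.imageι ≫ pullback.fst f p) :=
      hcl.closure_subset_iff.2 hsub
    exact this (hUd x)
  · -- isomorphism over `U`
    have key : ∀ (g : (U : Scheme.{u}) ⟶ X), g = U.ι → IsIso (g ∣_ U) := by
      rintro g rfl; exact isIso_ι_morphismRestrict U
    -- `h` restricted over `fst⁻¹ U` is a closed immersion
    have h1 := key (h ≫ pullback.fst f p) hfst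
    have e1 := morphismRestrict_comp h (pullback.fst f p) U
    rw [e1] at h1
    haveI h1' : IsIso ((h ∣_ (pullback.fst f p) ⁻¹ᵁ U) ≫ ((pullback.fst f p) ∣_ U)) := h1
    haveI : IsClosedImmersion (h ∣_ (pullback.fst f p) ⁻¹ᵁ U) :=
      IsClosedImmersion.of_comp _ ((pullback.fst f p) ∣_ U)
    -- so is `toImage` restricted
    have key2 : ∀ (h' : (U : Scheme.{u}) ⟶ pullback f p), h' = h →
        IsClosedImmersion (h' ∣_ (pullback.fst f p) ⁻¹ᵁ U) := by
      rintro h' rfl; infer_instance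
    have h2 := key2 (h.toImage ≫ h.imageι) hti
    have e2 := morphismRestrict_comp h.toImage h.imageι ((pullback.fst f p) ⁻¹ᵁ U)
    rw [e2] at h2
    haveI h2' : IsClosedImmersion ((h.toImage ∣_ h.imageι ⁻¹ᵁ ((pullback.fst f p) ⁻¹ᵁ U)) ≫
        (h.imageι ∣_ (pullback.fst f p) ⁻¹ᵁ U)) := h2
    haveI : IsClosedImmersion (h.toImage ∣_ h.imageι ⁻¹ᵁ ((pullback.fst f p) ⁻¹ᵁ U)) :=
      IsClosedImmersion.of_comp _ (h.imageι ∣_ (pullback.fst f p) ⁻¹ᵁ U)
    haveI := isSchemeTheoreticallyDominant_morphismRestrict h.toImage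
      (h.imageι ⁻¹ᵁ ((pullback.fst f p) ⁻¹ᵁ U))
    haveI h3 : IsIso (h.toImage ∣_ h.imageι ⁻¹ᵁ ((pullback.fst f p) ⁻¹ᵁ U)) :=
      IsClosedImmersion.isIso_iff_ker_eq_bot.2 (IsSchemeTheoreticallyDominant.ker_eq_bot _)
    -- conclude
    have h4 := key (h.toImage ≫ (h.imageι ≫ pullback.fst f p)) htπ
    have e4 := morphismRestrict_comp h.toImage (h.imageι ≫ pullback.fst f p) U
    rw [e4] at h4
    haveI h4' : IsIso ((h.toImage ∣_ (h.imageι ≫ pullback.fst f p) ⁻¹ᵁ U) ≫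
        ((h.imageι ≫ pullback.fst f p) ∣_ U)) := h4
    haveI h3' : IsIso (h.toImage ∣_ (h.imageι ≫ pullback.fst f p) ⁻¹ᵁ U) := h3
    exact IsIso.of_isIso_comp_left (h.toImage ∣_ (h.imageι ≫ pullback.fst f p) ⁻¹ᵁ U) _

end Groth.Agent.Lib.T2H6.ChowCore
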