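-- helper6 (team 2): cancelling a fully faithful functor from a composite that is representable by
-- algebraic spaces with a property; the comparison functor of fibre products along such a functor.
import Mathlib
import Groth.Agent.Lib.T2H6Slice
import Groth.Agent.Lib.Helper17FibEquiv
import Groth.Agent.Lib.Helper17FibFp
import Groth.Agent.Lib.Helper15LocQEngine

set_option autoImplicit false
set_option backward.isDefEq.respectTransparency false
set_option backward.isDefEq.respectTransparency.types false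
open CategoryTheory CategoryTheory.Functor CategoryTheory.Limits Opposite AlgebraicGeometry

universe u

namespace Groth.Agent.Lib.T2H6.FpFF

open Groth.Agent.Lib.Helper17 Groth.Agent.Lib.Helper15LocQEngine Groth.Agent.Lib.T2H6.Slice

variable {S : Scheme.{u}} {𝒜 ℬ 𝒞 𝒵 : AlgSt.Cat S}

/-- postcomposing both legs of a fibre product with a functor -/
def fpPost (z : 𝒵 ⥤ᵇ ℬ) (g : 𝒜 ⥤ᵇ ℬ) (c : ℬ ⥤ᵇ 𝒞) :
    FibCat.fp z g ⥤ᵇ FibCat.fp (BasedFunctor.comp z c) (BasedFunctor.comp g c) :=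
  FibCat.fpLift (FibCat.fpFst z g) (FibCat.fpSnd z g)
    (whiskerRightIso (FibCat.fpIso z g) c :
      BasedFunctor.comp (FibCat.fpFst z g) (BasedFunctor.comp z c) ≅
        BasedFunctor.comp (FibCat.fpSnd z g) (BasedFunctor.comp g c))

theorem fpPost_faithful (z : 𝒵 ⥤ᵇ ℬ) (g : 𝒜 ⥤ᵇ ℬ) (c : ℬ ⥤ᵇ 𝒞) :
    (fpPost z g c).toFunctor.Faithful := by
  refine ⟨fun {a b} m m' h => ?_⟩
  apply ObjectProperty.hom_ext
  apply Limits.CategoricalPullback.hom_ext
  · exact congrArg (fun t => t.hom.fst) h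
  · exact congrArg (fun t => t.hom.snd) h

theorem fpPost_full (z : 𝒵 ⥤ᵇ ℬ) (g : 𝒜 ⥤ᵇ ℬ) (c : ℬ ⥤ᵇ 𝒞) [c.toFunctor.Faithful] :
    (fpPost z g c).toFunctor.Full := by
  refine ⟨fun {a b} n => ?_⟩
  have hw : c.map (z.map n.hom.fst ≫ b.obj.iso.hom) = c.map (a.obj.iso.hom ≫ g.map n.hom.snd) := by
    have e := n.hom.w
    rw [c.toFunctor.map_comp, c.toFunctor.map_comp]
    exact e
  have hw' : z.map n.hom.fst ≫ b.obj.iso.hom = a.obj.iso.hom ≫ g.map n.hom.snd :=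
    c.toFunctor.map_injective hw
  refine ⟨ObjectProperty.homMk { fst := n.hom.fst, snd := n.hom.snd, w := hw' }, ?_⟩
  apply ObjectProperty.hom_ext
  apply Limits.CategoricalPullback.hom_ext
  · rfl
  · rfl

theorem fpPost_essSurjOver (z : 𝒵 ⥤ᵇ ℬ) (g : 𝒜 ⥤ᵇ ℬ) (c : ℬ ⥤ᵇ 𝒞) [c.toFunctor.Faithful]
    [c.toFunctor.Full] : EssSurjOver (fpPost z g c) := by
  intro w
  let ψ : z.obj w.obj.fst ≅ g.obj w.obj.snd := c.toFunctor.preimageIso w.obj.iso
  have hψ : ℬ.p.IsHomLift (𝟙 (𝒵.p.obj w.obj.fst)) ψ.hom := by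
    rw [← BasedFunctor.isHomLift_iff c]
    have : c.map ψ.hom = w.obj.iso.hom := c.toFunctor.map_preimage _
    rw [this]
    exact w.property
  let ξ : (FibCat.fp z g).obj := ⟨{ fst := w.obj.fst, snd := w.obj.snd, iso := ψ }, hψ⟩
  have hw : (BasedFunctor.comp z c).map (𝟙 w.obj.fst) ≫ w.obj.iso.hom =
      ((fpPost z g c).obj ξ).obj.iso.hom ≫ (BasedFunctor.comp g c).map (𝟙 w.obj.snd) := by
    change c.map (z.map (𝟙 _)) ≫ w.obj.iso.hom = c.map ψ.hom ≫ c.map (g.map (𝟙 _))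
    rw [z.toFunctor.map_id, g.toFunctor.map_id, c.toFunctor.map_id, c.toFunctor.map_id,
      Category.id_comp, Category.comp_id]
    exact (c.toFunctor.map_preimage _).symm
  refine ⟨ξ, ObjectProperty.isoMk _ (Limits.CategoricalPullback.mkIso
    (x := ((fpPost z g c).obj ξ).obj) (y := w.obj) (Iso.refl _) (Iso.refl _) hw), ?_⟩
  rw [fp_isHomLift_iff]
  change 𝒵.p.IsHomLift (𝟙 (𝒵.p.obj w.obj.fst)) (𝟙 w.obj.fst)
  infer_instance

theorem isEquivOver_fpPost (z : 𝒵 ⥤ᵇ ℬ) (g : 𝒜 ⥤ᵇ ℬ) (c : ℬ ⥤ᵇ 𝒞) [c.toFunctor.Faithful]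
    [c.toFunctor.Full] : FibCat.IsEquivOver (fpPost z g c) := by
  have := fpPost_faithful z g c
  have := fpPost_full z g c
  exact isEquivOver_of_fullyFaithful_of_essSurjOver _ (fpPost_essSurjOver z g c)

/-- a fully faithful functor can be cancelled from a composite representable by algebraic spaces
with a property -/
theorem repByAlgSpWith_of_comp_ff (P : MorphismProperty (AlgSp.Sp S)) (g : 𝒜 ⥤ᵇ ℬ) (c : ℬ ⥤ᵇ 𝒞)
    [c.toFunctor.Faithful] [c.toFunctor.Full]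
    (h : AlgSt.RepByAlgSpWith P (BasedFunctor.comp g c)) : AlgSt.RepByAlgSpWith P g := by
  apply repByAlgSpWith_of_forall_fpFst
  intro U y
  have h1 : AlgSt.RepByAlgSpWith P
      (FibCat.fpFst (BasedFunctor.comp y c) (BasedFunctor.comp g c)) :=
    repByAlgSpWith_fpFst P (BasedFunctor.comp g c) (BasedFunctor.comp y c) h
  exact (repByAlgSpWith_of_square P
    (FibCat.fpFst (BasedFunctor.comp y c) (BasedFunctor.comp g c)) (FibCat.fpFst y g)
    (fpPost y g c)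
    (BasedFunctor.id _) (isEquivOver_fpPost y g c) (isEquivOver_id _) (Iso.refl _)).1 h1


section Pre

variable {𝒴 𝒱 : AlgSt.Cat S}

/-- precomposing the first leg of a fibre product with a functor -/
def fpPre (c : ℬ ⥤ᵇ 𝒞) (f : 𝒞 ⥤ᵇ 𝒴) (y : 𝒱 ⥤ᵇ 𝒴) :
    FibCat.fp (BasedFunctor.comp c f) y ⥤ᵇ FibCat.fp f y :=
  FibCat.fpLift (BasedFunctor.comp (FibCat.fpFst (BasedFunctor.comp c f) y) c)
    (FibCat.fpSnd (BasedFunctor.comp c f) y)
    (FibCat.fpIso (BasedFunctor.comp c f) y :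
      BasedFunctor.comp (BasedFunctor.comp (FibCat.fpFst (BasedFunctor.comp c f) y) c) f ≅
        BasedFunctor.comp (FibCat.fpSnd (BasedFunctor.comp c f) y) y)

instance fpPre_faithful (c : ℬ ⥤ᵇ 𝒞) (f : 𝒞 ⥤ᵇ 𝒴) (y : 𝒱 ⥤ᵇ 𝒴) [c.toFunctor.Faithful] :
    (fpPre c f y).toFunctor.Faithful := by
  refine ⟨fun {a b} m m' h => ?_⟩
  apply ObjectProperty.hom_ext
  apply Limits.CategoricalPullback.hom_ext
  · have h1 : c.map m.hom.fst = c.map m'.hom.fst := congrArg (fun t => t.hom.fst) h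
    exact c.toFunctor.map_injective h1
  · exact congrArg (fun t => t.hom.snd) h

instance fpPre_full (c : ℬ ⥤ᵇ 𝒞) (f : 𝒞 ⥤ᵇ 𝒴) (y : 𝒱 ⥤ᵇ 𝒴) [c.toFunctor.Faithful]
    [c.toFunctor.Full] : (fpPre c f y).toFunctor.Full := by
  refine ⟨fun {a b} n => ?_⟩
  obtain ⟨n₁, hn₁⟩ : ∃ t : a.obj.fst ⟶ b.obj.fst, c.map t = n.hom.fst :=
    ⟨c.toFunctor.preimage n.hom.fst, c.toFunctor.map_preimage _⟩
  have hw : (BasedFunctor.comp c f).map n₁ ≫ b.obj.iso.hom = a.obj.iso.hom ≫ y.map n.hom.snd := by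
    have e := n.hom.w
    change f.map (c.map n₁) ≫ b.obj.iso.hom = a.obj.iso.hom ≫ y.map n.hom.snd
    rw [hn₁]
    exact e
  refine ⟨ObjectProperty.homMk { fst := n₁, snd := n.hom.snd, w := hw }, ?_⟩
  apply ObjectProperty.hom_ext
  apply Limits.CategoricalPullback.hom_ext
  · exact hn₁
  · rfl

end Pre

end Groth.Agent.Lib.T2H6.FpFF
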