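-- helper6 (team 2): the open substack attached to an open set of points of an algebraic stack.
import Mathlib
import Groth.Agent.Lib.Helper15PtsTop
import Groth.Agent.Lib.Helper17StkPts2
import Groth.Agent.Lib.Helper17StkPts3
import Groth.Agent.Lib.Helper17StkSub
import Groth.Agent.Lib.Helper15Atlas
import Groth.Agent.Lib.Helper15OpenSub
import Groth.Agent.Lib.Helper15DiagBase
import Groth.Agent.Lib.Helper15LocQEngine
import Groth.Agent.Lib.T2H6RepDiag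

set_option autoImplicit false
set_option backward.isDefEq.respectTransparency false
set_option backward.isDefEq.respectTransparency.types false
open CategoryTheory CategoryTheory.Functor CategoryTheory.Limits Opposite AlgebraicGeometry

universe u

namespace Groth.Agent.Lib.T2H6.OpenSub

open Groth.Agent.Lib.Helper17 Groth.Agent.Lib.Helper15PtsTop Groth.Agent.Lib.Helper15PtsComp
  Groth.Agent.Lib.Helper15DiagBase Groth.Agent.Lib.Helper15LocQEngine Groth.Agent.Lib.Helper15Atlas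

variable {S : Scheme.{u}} {𝒳 : AlgSt.Cat S}

/-- the objects all of whose field points lie in `T` -/
def QT (T : Set (AlgSt.Points 𝒳)) : 𝒳.obj → Prop :=
  fun a => ∀ p : AlgSt.FPt 𝒳, Nonempty (p.obj ⟶ a) → AlgSt.Points.mk p ∈ T

theorem QT_of_hom (T : Set (AlgSt.Points 𝒳)) {a b : 𝒳.obj} (m : b ⟶ a) (ha : QT T a) : QT T b :=
  fun p ⟨k⟩ => ha p ⟨k ≫ m⟩

theorem QT_mono {T T' : Set (AlgSt.Points 𝒳)} (h : T ⊆ T') {a : 𝒳.obj} (ha : QT T a) : QT T' a :=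
  fun p hp => h (ha p hp)

instance QT_closed (T : Set (AlgSt.Points 𝒳)) :
    ObjectProperty.IsClosedUnderIsomorphisms (QT T) :=
  ⟨fun e h => QT_of_hom T e.inv h⟩

/-- the points of the substack cut out by `T` are `T` -/
theorem range_subIncl_QT (T : Set (AlgSt.Points 𝒳)) :
    Set.range (AlgSt.Points.map (AlgSt.subIncl 𝒳 (QT T))) = T := by
  apply Set.Subset.antisymm
  · rintro _ ⟨x, rfl⟩
    obtain ⟨q, rfl⟩ := AlgSt.Points.mk_surjective x
    rw [AlgSt.Points.map_mk]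
    exact q.obj.property (q.map (AlgSt.subIncl 𝒳 (QT T))) ⟨𝟙 _⟩
  · intro t ht
    obtain ⟨p, rfl⟩ := AlgSt.Points.mk_surjective t
    have hp : QT T p.obj := by
      intro p' ⟨m⟩
      have : AlgSt.Points.mk p' = AlgSt.Points.mk p :=
        AlgSt.Points.sound ⟨p', 𝟙 _, m, trivial⟩
      rw [this]
      exact ht
    let q : AlgSt.FPt (AlgSt.fullSub 𝒳 (QT T)) :=
      { K := p.K, str := p.str, obj := ⟨p.obj, hp⟩, lies := p.lies }
    exact ⟨AlgSt.Points.mk q, rfl⟩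

/-- if a chart lands in `T`, all its values lie in the substack -/
theorem QT_obj_of_forall (h𝒳 : FibCat.IsFibGrpd 𝒳.p) (T : Set (AlgSt.Points 𝒳)) {U : Over S}
    (y : FibCat.overCat U ⥤ᵇ 𝒳) (h : ∀ u : ↥U.left, AlgSt.Points.ofChart y u ∈ T)
    (z : (FibCat.overCat U).obj) : QT T (y.obj z) := by
  intro p ⟨m⟩
  have hU : FibCat.IsFibGrpd (FibCat.overCat U).p := (isFibSet_overForget U).1
  obtain ⟨z', π, e, he, hz'⟩ := exists_lift_over_map hU h𝒳 y (r := p.obj) (z := z) m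
  let q : AlgSt.FPt (FibCat.overCat U) :=
    { K := p.K, str := p.str, obj := z', lies := hz'.trans p.lies }
  obtain ⟨u, hu⟩ := (ptOver_bijective U).2 (AlgSt.Points.mk q)
  have h1 : AlgSt.Points.mk p = AlgSt.Points.map y (AlgSt.Points.mk q) := by
    rw [AlgSt.Points.map_mk]
    exact AlgSt.Points.sound ⟨q.map y, e.hom, 𝟙 _, trivial⟩
  rw [h1, ← hu, ← ofChart_eq_map_ptOver]
  exact h u

/-- objects of the substack have all their points in `T` -/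
theorem ofChart_mem_of_QT (T : Set (AlgSt.Points 𝒳)) {U : Over S}
    (y : FibCat.overCat U ⥤ᵇ 𝒳) (c : (FibCat.overCat U).obj) (hc : QT T (y.obj c))
    (v : ↥c.left.left) : AlgSt.Points.ofChart y (c.hom.left v) ∈ T := by
  rw [← ofChart_overMap c.hom y v]
  refine hc _ ⟨y.map ?_⟩
  exact Over.homMk (Over.homMk (c.left.left.fromSpecResidueField v) rfl) rfl

theorem QT_obj_of_forall' (h𝒳 : FibCat.IsFibGrpd 𝒳.p) (T : Set (AlgSt.Points 𝒳)) {U : Over S}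
    (y : FibCat.overCat U ⥤ᵇ 𝒳) (c : (FibCat.overCat U).obj)
    (h : ∀ v : ↥c.left.left, AlgSt.Points.ofChart y (c.hom.left v) ∈ T) : QT T (y.obj c) := by
  have h1 := QT_obj_of_forall h𝒳 T (BasedFunctor.comp (AlgSt.overMap c.hom) y)
    (fun v => by rw [ofChart_overMap]; exact h v) (Over.mk (𝟙 c.left))
  refine QT_of_hom T (y.map ?_) h1
  exact Over.homMk (𝟙 _) (by
    change 𝟙 _ ≫ (𝟙 c.left ≫ c.hom) = c.hom
    simp)

section Chart

variable (h𝒳 : AlgSt.IsAlgStack Scheme.fppfPrecoverage 𝒳) (T : Set (AlgSt.Points 𝒳))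
  (hT : IsOpen T) {U : Over S} (y : FibCat.overCat U ⥤ᵇ 𝒳)

/-- the open subscheme of a chart lying over `T` -/
def chartOpen : U.left.Opens :=
  ⟨AlgSt.Points.ofChart y ⁻¹' T, (continuous_ofChart h𝒳 y).isOpen_preimage T hT⟩

/-- the open subscheme as a scheme over `S` -/
def chartSub : Over S := Over.mk ((chartOpen h𝒳 T hT y).ι ≫ U.hom)

/-- its inclusion -/
def chartIncl : chartSub h𝒳 T hT y ⟶ U := Over.homMk (chartOpen h𝒳 T hT y).ι rfl

theorem chartIncl_mem (u : ↥(chartSub h𝒳 T hT y).left) :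
    AlgSt.Points.ofChart y ((chartIncl h𝒳 T hT y).left u) ∈ T := u.2

theorem QT_chart (c : (FibCat.overCat (chartSub h𝒳 T hT y)).obj) :
    QT T ((BasedFunctor.comp (AlgSt.overMap (chartIncl h𝒳 T hT y)) y).obj c) :=
  QT_obj_of_forall h𝒳.isStack.1 T _ (fun u => by
    rw [ofChart_overMap]
    exact chartIncl_mem h𝒳 T hT y u) c

/-- the chart of the substack -/
def chartLift : FibCat.overCat (chartSub h𝒳 T hT y) ⥤ᵇ AlgSt.fullSub 𝒳 (QT T) where
  toFunctor := ObjectProperty.lift (QT T)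
    (BasedFunctor.comp (AlgSt.overMap (chartIncl h𝒳 T hT y)) y).toFunctor (QT_chart h𝒳 T hT y)
  w := (BasedFunctor.comp (AlgSt.overMap (chartIncl h𝒳 T hT y)) y).w

/-- the comparison functor from the open subscheme to the fibre product -/
def chartE : FibCat.overCat (chartSub h𝒳 T hT y) ⥤ᵇ FibCat.fp y (AlgSt.subIncl 𝒳 (QT T)) :=
  FibCat.fpLift (AlgSt.overMap (chartIncl h𝒳 T hT y)) (chartLift h𝒳 T hT y) (Iso.refl _)

theorem chartE_faithful : (chartE h𝒳 T hT y).toFunctor.Faithful := by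
  refine ⟨fun {c c'} m m' h => ?_⟩
  have h1 : (AlgSt.overMap (chartIncl h𝒳 T hT y)).map m =
      (AlgSt.overMap (chartIncl h𝒳 T hT y)).map m' := congrArg (fun t => t.hom.fst) h
  have h2 : m.left = m'.left := congrArg (fun t => t.left) h1
  exact Over.OverMorphism.ext h2

theorem chartE_full : (chartE h𝒳 T hT y).toFunctor.Full := by
  refine ⟨fun {c c'} n => ?_⟩
  obtain ⟨n₁, hn₁⟩ : ∃ t : (AlgSt.overMap (chartIncl h𝒳 T hT y)).obj c ⟶
      (AlgSt.overMap (chartIncl h𝒳 T hT y)).obj c', t = n.hom.fst := ⟨_, rfl⟩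
  have hw : n₁.left ≫ (c'.hom ≫ chartIncl h𝒳 T hT y) = c.hom ≫ chartIncl h𝒳 T hT y := Over.w n₁
  have : Mono (chartIncl h𝒳 T hT y) := by
    have : Mono (chartIncl h𝒳 T hT y).left := inferInstanceAs (Mono (chartOpen h𝒳 T hT y).ι)
    exact (Over.forget S).mono_of_mono_map this
  have hw' : n₁.left ≫ c'.hom = c.hom := by
    rw [← cancel_mono (chartIncl h𝒳 T hT y), Category.assoc, hw]
  refine ⟨Over.homMk n₁.left hw', ?_⟩
  apply ObjectProperty.hom_ext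
  apply Limits.CategoricalPullback.hom_ext
  · change (AlgSt.overMap (chartIncl h𝒳 T hT y)).map (Over.homMk n₁.left hw') = n.hom.fst
    rw [← hn₁]
    exact Over.OverMorphism.ext rfl
  · have e := n.hom.w
    apply ObjectProperty.hom_ext
    change y.map ((AlgSt.overMap (chartIncl h𝒳 T hT y)).map (Over.homMk n₁.left hw')) = n.hom.snd.hom
    have e' : y.map n.hom.fst ≫ 𝟙 _ = 𝟙 _ ≫ n.hom.snd.hom := e
    rw [Category.comp_id, Category.id_comp] at e'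
    rw [← e', ← hn₁]
    have h3 : (AlgSt.overMap (chartIncl h𝒳 T hT y)).map (Over.homMk n₁.left hw') = n₁ :=
      Over.OverMorphism.ext rfl
    rw [h3]

theorem chartE_essSurjOver : EssSurjOver (chartE h𝒳 T hT y) := by
  intro w
  let c : Over U := w.obj.fst
  let a : (AlgSt.fullSub 𝒳 (QT T)).obj := w.obj.snd
  let γ : y.obj c ≅ a.obj := w.obj.iso
  have hQ : QT T (y.obj c) := QT_of_hom T γ.hom a.property
  have hrange : Set.range c.hom.left.base ⊆ Set.range (chartOpen h𝒳 T hT y).ι.base := by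
    rintro _ ⟨v, rfl⟩
    rw [Scheme.Opens.range_ι]
    exact ofChart_mem_of_QT T y c hQ v
  let k : c.left.left ⟶ ↑(chartOpen h𝒳 T hT y) :=
    IsOpenImmersion.lift (chartOpen h𝒳 T hT y).ι c.hom.left hrange
  have hk : k ≫ (chartOpen h𝒳 T hT y).ι = c.hom.left := IsOpenImmersion.lift_fac _ _ _
  let k' : c.left ⟶ chartSub h𝒳 T hT y := Over.homMk k (by
    change k ≫ (chartOpen h𝒳 T hT y).ι ≫ U.hom = c.left.hom
    rw [← Category.assoc, hk]
    exact Over.w c.hom)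
  have hk' : k' ≫ chartIncl h𝒳 T hT y = c.hom := Over.OverMorphism.ext hk
  let c'' : Over (chartSub h𝒳 T hT y) := Over.mk k'
  let e₁ : (AlgSt.overMap (chartIncl h𝒳 T hT y)).obj c'' ≅ c :=
    Over.isoMk (Iso.refl _) (by
      change 𝟙 _ ≫ c.hom = k' ≫ chartIncl h𝒳 T hT y
      rw [Category.id_comp, hk'])
  let e₂₀ : y.obj ((AlgSt.overMap (chartIncl h𝒳 T hT y)).obj c'') ≅ a.obj :=
    y.toFunctor.mapIso e₁ ≪≫ γ
  let e₂ : (chartLift h𝒳 T hT y).obj c'' ≅ a := ObjectProperty.isoMk _ e₂₀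
  have hw : y.map e₁.hom ≫ w.obj.iso.hom =
      ((chartE h𝒳 T hT y).obj c'').obj.iso.hom ≫ (AlgSt.subIncl 𝒳 (QT T)).map e₂.hom := by
    change y.map e₁.hom ≫ γ.hom = 𝟙 _ ≫ (y.map e₁.hom ≫ γ.hom)
    rw [Category.id_comp]
  refine ⟨c'', ObjectProperty.isoMk _ (Limits.CategoricalPullback.mkIso
    (x := ((chartE h𝒳 T hT y).obj c'').obj) (y := w.obj) e₁ e₂ hw), ?_⟩
  rw [fp_isHomLift_iff]
  change (FibCat.overCat U).p.IsHomLift (𝟙 c.left) e₁.hom
  apply IsHomLift.of_fac _ _ _ rfl rfl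
  exact ((Category.id_comp _).trans (Category.comp_id _)).symm

theorem isEquivOver_chartE : FibCat.IsEquivOver (chartE h𝒳 T hT y) := by
  have := chartE_faithful h𝒳 T hT y
  have := chartE_full h𝒳 T hT y
  exact isEquivOver_of_fullyFaithful_of_essSurjOver _ (chartE_essSurjOver h𝒳 T hT y)

end Chart

open Groth.Agent.Lib.Helper15DiagRepSp Groth.Agent.Lib.Helper15EquivRep in
theorem isOpenImm_subIncl_QT (h𝒳 : AlgSt.IsAlgStack Scheme.fppfPrecoverage 𝒳)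
    (T : Set (AlgSt.Points 𝒳)) (hT : IsOpen T) : AlgSt.IsOpenImm (AlgSt.subIncl 𝒳 (QT T)) := by
  intro U y
  refine ⟨⟨(AlgSp.yon S).obj (chartSub h𝒳 T hT y), AlgSp.IsAlgSpace.yon_obj _⟩,
    BasedFunctor.comp (AlgSt.toOverCat (chartSub h𝒳 T hT y)) (chartE h𝒳 T hT y),
    IsEquivOver.comp _ _ (isEquivOver_toOverCat _) (isEquivOver_chartE h𝒳 T hT y), ?_⟩
  have h1 : AlgSt.spMapOfOver (BasedFunctor.comp (BasedFunctor.comp
      (AlgSt.toOverCat (chartSub h𝒳 T hT y)) (chartE h𝒳 T hT y))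
      (FibCat.fpFst y (AlgSt.subIncl 𝒳 (QT T)))) =
      AlgSt.spMapOfOver (AlgSt.toOverCat (chartSub h𝒳 T hT y)) ≫
        (AlgSp.yon S).map (chartIncl h𝒳 T hT y) :=
    spMapOfOver_comp_overMap (AlgSt.toOverCat (chartSub h𝒳 T hT y)) (chartIncl h𝒳 T hT y)
  rw [h1, spMapOfOver_toOverCat, Category.id_comp]
  exact (AlgSp.repWith_yon_map_iff _ _).2
    (inferInstanceAs (IsOpenImmersion (chartOpen h𝒳 T hT y).ι))

theorem isOpenSubstack_QT (h𝒳 : AlgSt.IsAlgStack Scheme.fppfPrecoverage 𝒳)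
    (T : Set (AlgSt.Points 𝒳)) (hT : IsOpen T) :
    AlgSt.IsOpenSubstack 𝒳 (QT T) Scheme.fppfPrecoverage := by
  have hO := isOpenImm_subIncl_QT h𝒳 T hT
  refine ⟨QT_closed T, ?_, hO⟩
  have hfib : FibCat.IsFibGrpd (AlgSt.fullSub 𝒳 (QT T)).p :=
    isFibGrpd_subCat (QT T) h𝒳.isStack.1 (fun y x φ hx =>
      ⟨y, Iso.refl _, QT_of_hom T φ hx, by simp only [Iso.refl_hom]; infer_instance⟩)
  exact isAlgStack_of_repByAlgSp1 hfib h𝒳 (AlgSt.subIncl 𝒳 (QT T))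
    (fun U y => by
      obtain ⟨F, e, he, -⟩ := hO U y
      exact ⟨F, e, he⟩)

/-- an open substack is closed under sources of morphisms -/
theorem prop_of_hom_of_isOpenSubstack (h𝒳 : AlgSt.IsAlgStack Scheme.fppfPrecoverage 𝒳)
    (Q : 𝒳.obj → Prop) (hQ : AlgSt.IsOpenSubstack 𝒳 Q Scheme.fppfPrecoverage) {a b : 𝒳.obj}
    (m : b ⟶ a) (ha : Q a) : Q b := by
  have hfib : FibCat.IsFibGrpd (AlgSt.fullSub 𝒳 Q).p := hQ.2.1.isStack.1
  obtain ⟨b', ψ, hψ⟩ := hfib.exists_lift (x := (⟨a, ha⟩ : (AlgSt.fullSub 𝒳 Q).obj)) (𝒳.p.map m)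
  have h1 : 𝒳.p.IsHomLift (𝒳.p.map m) ψ.hom :=
    (isHomLift_comp_iff (ObjectProperty.ι Q) 𝒳.p (𝒳.p.map m) ψ).1 hψ
  obtain ⟨e, -, -⟩ := IsFibGrpd.exists_iso_of_lifts h𝒳.isStack.1 (𝒳.p.map m) ψ.hom m
  have := hQ.1
  exact ObjectProperty.prop_of_iso Q e b'.property

theorem mem_range_of_prop (Q : 𝒳.obj → Prop) (p : AlgSt.FPt 𝒳) (hp : Q p.obj) :
    AlgSt.Points.mk p ∈ Set.range (AlgSt.Points.map (AlgSt.subIncl 𝒳 Q)) := by
  let q : AlgSt.FPt (AlgSt.fullSub 𝒳 Q) :=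
    { K := p.K, str := p.str, obj := ⟨p.obj, hp⟩, lies := p.lies }
  exact ⟨AlgSt.Points.mk q, rfl⟩

/-- objects of an open substack have all their field points in its set of points -/
theorem QT_range_of_prop (h𝒳 : AlgSt.IsAlgStack Scheme.fppfPrecoverage 𝒳)
    (Q : 𝒳.obj → Prop) (hQ : AlgSt.IsOpenSubstack 𝒳 Q Scheme.fppfPrecoverage) {a : 𝒳.obj}
    (ha : Q a) : QT (Set.range (AlgSt.Points.map (AlgSt.subIncl 𝒳 Q))) a :=
  fun p ⟨m⟩ => mem_range_of_prop Q p (prop_of_hom_of_isOpenSubstack h𝒳 Q hQ m ha)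

theorem isOpen_range_subIncl (h𝒳 : AlgSt.IsAlgStack Scheme.fppfPrecoverage 𝒳)
    (Q : 𝒳.obj → Prop) (hQ : AlgSt.IsOpenSubstack 𝒳 Q Scheme.fppfPrecoverage) :
    IsOpen (Set.range (AlgSt.Points.map (AlgSt.subIncl 𝒳 Q))) :=
  Groth.Agent.Lib.Helper15OpenSub.isOpen_range_of_isOpenImm hQ.2.1 h𝒳 _ hQ.2.2

/-- the union of a family of open substacks -/
theorem exists_isOpenSubstack_union (h𝒳 : AlgSt.IsAlgStack Scheme.fppfPrecoverage 𝒳)
    {ι : Type*} (Q : ι → 𝒳.obj → Prop)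
    (hQ : ∀ i, AlgSt.IsOpenSubstack 𝒳 (Q i) Scheme.fppfPrecoverage) :
    ∃ Q' : 𝒳.obj → Prop, AlgSt.IsOpenSubstack 𝒳 Q' Scheme.fppfPrecoverage ∧
      (∀ i y, Q i y → Q' y) ∧
      Set.range (AlgSt.Points.map (AlgSt.subIncl 𝒳 Q')) =
        ⋃ i, Set.range (AlgSt.Points.map (AlgSt.subIncl 𝒳 (Q i))) := by
  have hT : IsOpen (⋃ i, Set.range (AlgSt.Points.map (AlgSt.subIncl 𝒳 (Q i)))) :=
    isOpen_iUnion (fun i => isOpen_range_subIncl h𝒳 (Q i) (hQ i))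
  refine ⟨QT _, isOpenSubstack_QT h𝒳 _ hT, ?_, range_subIncl_QT _⟩
  intro i y hy
  exact QT_mono (Set.subset_iUnion _ i) (QT_range_of_prop h𝒳 (Q i) (hQ i) hy)

theorem bcStable_repWith_isOpenImmersion :
    Groth.Agent.Lib.Helper15DiagLft.BCStable (AlgSp.RepWith (S := S) @IsOpenImmersion) :=
  fun _ _ _ _ _ _ _ _ _ _ _ _ sq ha => MorphismProperty.of_isPullback sq ha

open Groth.Agent.Lib.Helper15DiagRepSp Groth.Agent.Lib.Helper15EquivRep
  Groth.Agent.Lib.T2H6.RepDiag Groth.Agent.Lib.Helper15UnivComp in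
/-- an object all of whose field points lie in an open substack belongs to it -/
theorem prop_of_QT_range (h𝒳 : AlgSt.IsAlgStack Scheme.fppfPrecoverage 𝒳)
    (Q : 𝒳.obj → Prop) (hQ : AlgSt.IsOpenSubstack 𝒳 Q Scheme.fppfPrecoverage) {a : 𝒳.obj}
    (hR : QT (Set.range (AlgSt.Points.map (AlgSt.subIncl 𝒳 Q))) a) : Q a := by
  have := IsFibGrpd.isFibered h𝒳.isStack.1
  obtain ⟨U, hx⟩ : ∃ U : Over S, 𝒳.p.obj a = U := ⟨_, rfl⟩
  let ya : FibCat.overCat U ⥤ᵇ 𝒳 := yonedaFunctor hx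
  obtain ⟨ι₀, hι₀⟩ := yonedaFunctor_iso hx
  have hfibQ : FibCat.IsFibGrpd (AlgSt.fullSub 𝒳 Q).p := hQ.2.1.isStack.1
  obtain ⟨F, e, he, hφ⟩ := hQ.2.2 U ya
  obtain ⟨V, ⟨iV⟩⟩ := exists_iso_yon_of_representable _ hφ.1
  have h1 : FibCat.IsEquivOver (AlgSt.ofSpMap iV.hom) :=
    isEquivOver_ofPshMap_of_inv iV.hom.hom iV.inv.hom (congrArg (·.hom) iV.hom_inv_id)
      (congrArg (·.hom) iV.inv_hom_id)
  obtain ⟨I, hI, -, -⟩ := IsEquivOver.exists_inverse_isEquivOver' (AlgSt.toOverCat V)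
    (isEquivOver_toOverCat V)
  let G : FibCat.overCat V ⥤ᵇ FibCat.fp ya (AlgSt.subIncl 𝒳 Q) :=
    BasedFunctor.comp I (BasedFunctor.comp (AlgSt.ofSpMap iV.hom) e)
  have hG : FibCat.IsEquivOver G := IsEquivOver.comp _ _ hI (IsEquivOver.comp _ _ h1 he)
  obtain ⟨j, ⟨lam⟩⟩ := exists_iso_overMap
    (BasedFunctor.comp G (FibCat.fpFst ya (AlgSt.subIncl 𝒳 Q)))
  -- `j` is an open immersion
  have hO1 : AlgSt.IsOpenImm (FibCat.fpFst ya (AlgSt.subIncl 𝒳 Q)) :=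
    repByAlgSpWith_fpFst _ (AlgSt.subIncl 𝒳 Q) ya hQ.2.2
  have hO2 : AlgSt.IsOpenImm (BasedFunctor.comp G (FibCat.fpFst ya (AlgSt.subIncl 𝒳 Q))) :=
    (repByAlgSpWith_of_square _ (FibCat.fpFst ya (AlgSt.subIncl 𝒳 Q))
      (BasedFunctor.comp G (FibCat.fpFst ya (AlgSt.subIncl 𝒳 Q))) G (BasedFunctor.id _) hG
      (isEquivOver_id _) (Iso.refl _)).1 hO1
  have hO3 : AlgSt.IsOpenImm (AlgSt.overMap j) := repByAlgSpWith_of_iso _ lam hO2
  have hO4 := Groth.Agent.Lib.Helper15DiagLft.prop_spMapOfOver_of_repByAlgSpWith _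
    bcStable_repWith_isOpenImmersion (AlgSt.overMap j) hO3
    ⟨(AlgSp.yon S).obj V, AlgSp.IsAlgSpace.yon_obj V⟩ (AlgSt.toOverCat V) (isEquivOver_toOverCat V)
  rw [spMapOfOver_comp_overMap, spMapOfOver_toOverCat, Category.id_comp] at hO4
  have hj : IsOpenImmersion j.left := (AlgSp.repWith_yon_map_iff _ _).1 hO4
  -- `j` is surjective
  have hU : FibCat.IsFibGrpd (FibCat.overCat U).p := (isFibSet_overForget U).1
  have hsurj : Function.Surjective j.left.base := by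
    intro u
    have hu : AlgSt.Points.ofChart ya u ∈
        Set.range (AlgSt.Points.map (AlgSt.subIncl 𝒳 Q)) := by
      refine hR _ ⟨ya.map ?_ ≫ ι₀.hom⟩
      exact Over.homMk (Over.homMk (U.left.fromSpecResidueField u) rfl)
        (Category.comp_id _)
    obtain ⟨x, hx'⟩ := hu
    obtain ⟨ω, hω, -⟩ := points_fp_surjective hfibQ h𝒳.isStack.1 hU (AlgSt.subIncl 𝒳 Q) ya
      (ptOver U u) x (by rw [hx', ofChart_eq_map_ptOver])
    obtain ⟨ν, rfl⟩ := points_map_surjective_of_isEquivOver G hG ω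
    obtain ⟨v, rfl⟩ := (ptOver_bijective V).2 ν
    refine ⟨v, (ptOver_bijective U).1 ?_⟩
    rw [← ptOver_map, ← hω, ← points_map_comp]
    exact (points_map_congr _ _ ((BasedNatTrans.forgetful _ _).mapIso lam) _).symm
  have : Surjective j.left := ⟨hsurj⟩
  have hiso : IsIso j.left := (isIso_iff_isOpenImmersion_and_surjective _).2 ⟨hj, this⟩
  have hiso'' : IsIso ((Over.forget S).map j) := hiso
  have hiso' : IsIso j := isIso_of_reflects_iso j (Over.forget S)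
  let c₀ : Over V := Over.mk (inv j)
  let w := G.obj c₀
  let i₁ : w.obj.fst ≅ Over.mk (𝟙 U) :=
    (bApp lam c₀ : _ ≅ (AlgSt.overMap j).obj c₀) ≪≫ Over.isoMk (Iso.refl _) (by
      change 𝟙 _ ≫ 𝟙 U = inv j ≫ j
      simp)
  have hw : Q w.obj.snd.obj := w.obj.snd.property
  have := hQ.1
  exact ObjectProperty.prop_of_iso Q
    (w.obj.iso.symm ≪≫ ya.toFunctor.mapIso i₁ ≪≫ ι₀) hw

theorem eq_QT_range (h𝒳 : AlgSt.IsAlgStack Scheme.fppfPrecoverage 𝒳)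
    (Q : 𝒳.obj → Prop) (hQ : AlgSt.IsOpenSubstack 𝒳 Q Scheme.fppfPrecoverage) :
    Q = QT (Set.range (AlgSt.Points.map (AlgSt.subIncl 𝒳 Q))) :=
  funext fun _ => propext ⟨QT_range_of_prop h𝒳 Q hQ, prop_of_QT_range h𝒳 Q hQ⟩

theorem le_iff_range_subset (h𝒳 : AlgSt.IsAlgStack Scheme.fppfPrecoverage 𝒳)
    (Q Q' : 𝒳.obj → Prop) (hQ : AlgSt.IsOpenSubstack 𝒳 Q Scheme.fppfPrecoverage)
    (hQ' : AlgSt.IsOpenSubstack 𝒳 Q' Scheme.fppfPrecoverage) :
    (∀ y, Q y → Q' y) ↔ Set.range (AlgSt.Points.map (AlgSt.subIncl 𝒳 Q)) ⊆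
      Set.range (AlgSt.Points.map (AlgSt.subIncl 𝒳 Q')) := by
  constructor
  · rintro h _ ⟨x, rfl⟩
    obtain ⟨q, rfl⟩ := AlgSt.Points.mk_surjective x
    exact mem_range_of_prop Q' (q.map (AlgSt.subIncl 𝒳 Q)) (h _ q.obj.property)
  · intro h y hy
    exact prop_of_QT_range h𝒳 Q' hQ' (QT_mono h (QT_range_of_prop h𝒳 Q hQ hy))

theorem isOpenSubstack_bijOn (h𝒳 : AlgSt.IsAlgStack Scheme.fppfPrecoverage 𝒳) :
    Set.BijOn (fun Q : 𝒳.obj → Prop => Set.range (AlgSt.Points.map (AlgSt.subIncl 𝒳 Q)))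
        {Q | AlgSt.IsOpenSubstack 𝒳 Q Scheme.fppfPrecoverage} {T | IsOpen T} ∧
      ∀ (Q Q' : 𝒳.obj → Prop), AlgSt.IsOpenSubstack 𝒳 Q Scheme.fppfPrecoverage →
        AlgSt.IsOpenSubstack 𝒳 Q' Scheme.fppfPrecoverage →
        ((∀ y, Q y → Q' y) ↔ Set.range (AlgSt.Points.map (AlgSt.subIncl 𝒳 Q)) ⊆
          Set.range (AlgSt.Points.map (AlgSt.subIncl 𝒳 Q'))) := by
  refine ⟨⟨?_, ?_, ?_⟩, fun Q Q' hQ hQ' => le_iff_range_subset h𝒳 Q Q' hQ hQ'⟩
  · intro Q hQ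
    exact isOpen_range_subIncl h𝒳 Q hQ
  · intro Q hQ Q' hQ' h
    have h' : Set.range (AlgSt.Points.map (AlgSt.subIncl 𝒳 Q)) =
        Set.range (AlgSt.Points.map (AlgSt.subIncl 𝒳 Q')) := h
    rw [eq_QT_range h𝒳 Q hQ, eq_QT_range h𝒳 Q' hQ', h']
  · intro T hT
    exact ⟨QT T, isOpenSubstack_QT h𝒳 T hT, range_subIncl_QT T⟩

end Groth.Agent.Lib.T2H6.OpenSub
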