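-- helper6 (team 2): restricting a good chart square to the open substack cut out by an open set
-- of points; the largest open substack on which a functor of algebraic stacks is smooth.
import Mathlib
import Groth.Agent.Lib.T2H6OpenSub
import Groth.Agent.Lib.T2H6FpFF
import Groth.Agent.Lib.Helper15PtsQc
import Groth.Agent.Lib.Helper15GoodComp
import Groth.Agent.Lib.Helper15LocQProps
import Groth.Agent.Lib.Helper12SmoothST
import Groth.Agent.Lib.Helper12LocPGen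

set_option autoImplicit false
set_option backward.isDefEq.respectTransparency false
set_option backward.isDefEq.respectTransparency.types false
open CategoryTheory CategoryTheory.Functor CategoryTheory.Limits Opposite AlgebraicGeometry

universe u

namespace Groth.Agent.Lib.T2H6.SmLocus

open Groth.Agent.Lib.Helper17 Groth.Agent.Lib.Helper15PtsTop Groth.Agent.Lib.Helper15PtsComp
  Groth.Agent.Lib.Helper15DiagBase Groth.Agent.Lib.Helper15LocQEngine Groth.Agent.Lib.Helper15Atlas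
  Groth.Agent.Lib.T2H6.OpenSub Groth.Agent.Lib.T2H6.FpFF Groth.Agent.Lib.Helper15PtsQc
  Groth.Agent.Lib.Helper15GoodComp Groth.Agent.Lib.Helper15LocQProps

/-- a morphism which is smooth on each member of a family of opens is smooth on an open they
cover -/
theorem smooth_ι_comp_of_cover {X Y : Scheme.{u}} (g : X ⟶ Y) (W : X.Opens) {ι : Type*}
    (Wi : ι → X.Opens) (hcov : ∀ w ∈ W, ∃ i, w ∈ Wi i)
    (hsm : ∀ i, Smooth ((Wi i).ι ≫ g)) : Smooth (W.ι ≫ g) := by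
  have hsup : (⨆ i, W.ι ⁻¹ᵁ Wi i) = ⊤ := by
    rw [eq_top_iff]
    rintro w -
    obtain ⟨i, hi⟩ := hcov (W.ι w) (by
      have : W.ι w ∈ Set.range W.ι := ⟨w, rfl⟩
      rwa [Scheme.Opens.range_ι] at this)
    exact TopologicalSpace.Opens.mem_iSup.2 ⟨i, hi⟩
  refine IsZariskiLocalAtSource.of_iSup_eq_top (P := @Smooth) (fun i => W.ι ⁻¹ᵁ Wi i) hsup ?_
  intro i
  have hrange : Set.range ((W.ι ⁻¹ᵁ Wi i).ι ≫ W.ι) ⊆ Set.range (Wi i).ι := by
    rintro _ ⟨v, rfl⟩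
    rw [Scheme.Opens.range_ι]
    have hv : (W.ι ⁻¹ᵁ Wi i).ι v ∈ W.ι ⁻¹ᵁ Wi i := by
      have : (W.ι ⁻¹ᵁ Wi i).ι v ∈ Set.range (W.ι ⁻¹ᵁ Wi i).ι := ⟨v, rfl⟩
      rwa [Scheme.Opens.range_ι] at this
    exact hv
  let m := IsOpenImmersion.lift (Wi i).ι ((W.ι ⁻¹ᵁ Wi i).ι ≫ W.ι) hrange
  have hm : m ≫ (Wi i).ι = (W.ι ⁻¹ᵁ Wi i).ι ≫ W.ι := IsOpenImmersion.lift_fac _ _ _
  have : IsOpenImmersion (m ≫ (Wi i).ι) := by rw [hm]; infer_instance
  have : IsOpenImmersion m := IsOpenImmersion.of_comp m (Wi i).ι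
  have := hsm i
  have h2 : Smooth (m ≫ (Wi i).ι ≫ g) := inferInstance
  have e : (W.ι ⁻¹ᵁ Wi i).ι ≫ W.ι ≫ g = m ≫ (Wi i).ι ≫ g := by
    rw [← Category.assoc, ← hm, Category.assoc]
  rw [e]
  exact h2

variable {S : Scheme.{u}} {𝒳 𝒴 : AlgSt.Cat S}

section Restrict

variable (h𝒳 : AlgSt.IsAlgStack Scheme.fppfPrecoverage 𝒳) (T : Set (AlgSt.Points 𝒳))
  (hT : IsOpen T) {U V : Over S} (x : FibCat.overCat U ⥤ᵇ 𝒳)

/-- the restricted chart inherits properties of the chart -/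
theorem repByAlgSpWith_chartLift (P : MorphismProperty (AlgSp.Sp S))
    (hx : AlgSt.RepByAlgSpWith P x) : AlgSt.RepByAlgSpWith P (chartLift h𝒳 T hT x) := by
  have h1 : AlgSt.RepByAlgSpWith P (FibCat.fpSnd x (AlgSt.subIncl 𝒳 (QT T))) :=
    repByAlgSpWith_fpSnd P x (AlgSt.subIncl 𝒳 (QT T)) hx
  exact (repByAlgSpWith_of_square P (FibCat.fpSnd x (AlgSt.subIncl 𝒳 (QT T)))
    (chartLift h𝒳 T hT x) (chartE h𝒳 T hT x) (BasedFunctor.id _) (isEquivOver_chartE h𝒳 T hT x)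
    (isEquivOver_id _) (Iso.refl _)).1 h1

variable (f : 𝒳 ⥤ᵇ 𝒴) (y : FibCat.overCat V ⥤ᵇ 𝒴) (h : U ⟶ V)
  (α : BasedFunctor.comp x f ≅ BasedFunctor.comp (AlgSt.overMap h) y)

/-- the 2-isomorphism of the restricted square -/
noncomputable def restrictIso :
    BasedFunctor.comp (chartLift h𝒳 T hT x) (BasedFunctor.comp (AlgSt.subIncl 𝒳 (QT T)) f) ≅
      BasedFunctor.comp (AlgSt.overMap (chartIncl h𝒳 T hT x ≫ h)) y :=
  (whiskerLeftIso (AlgSt.overMap (chartIncl h𝒳 T hT x)) α :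
    BasedFunctor.comp (chartLift h𝒳 T hT x) (BasedFunctor.comp (AlgSt.subIncl 𝒳 (QT T)) f) ≅
      BasedFunctor.comp (BasedFunctor.comp (AlgSt.overMap (chartIncl h𝒳 T hT x))
        (AlgSt.overMap h)) y) ≪≫
    whiskerRightIso (overMapCompIso (chartIncl h𝒳 T hT x) h) y

/-- the restricted square is good when the square is -/
theorem good_restrict
    (hℓ : AlgSt.RepByAlgSpWith (AlgSp.LocP @Smooth) (FibCat.fpLift x (AlgSt.overMap h) α)) :
    AlgSt.RepByAlgSpWith (AlgSp.LocP @Smooth)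
      (FibCat.fpLift (chartLift h𝒳 T hT x) (AlgSt.overMap (chartIncl h𝒳 T hT x ≫ h))
        (restrictIso h𝒳 T hT x f y h α)) := by
  have hj : Etale (chartIncl h𝒳 T hT x).left :=
    inferInstanceAs (Etale (chartOpen h𝒳 T hT x).ι)
  have h1 := smooth_overMap_comp (chartIncl h𝒳 T hT x) hj _ hℓ
  have i1 : (AlgSt.subIncl 𝒳 (QT T)).toFunctor.Faithful :=
    inferInstanceAs (ObjectProperty.ι (QT T)).Faithful
  have i2 : (AlgSt.subIncl 𝒳 (QT T)).toFunctor.Full :=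
    inferInstanceAs (ObjectProperty.ι (QT T)).Full
  have i3 := fpPre_faithful (AlgSt.subIncl 𝒳 (QT T)) f y
  have i4 := fpPre_full (AlgSt.subIncl 𝒳 (QT T)) f y
  apply repByAlgSpWith_of_comp_ff _ _ (fpPre (AlgSt.subIncl 𝒳 (QT T)) f y)
  refine repByAlgSpWith_of_iso _ ?_ h1
  exact fpIsoMk f y
    (H := BasedFunctor.comp (AlgSt.overMap (chartIncl h𝒳 T hT x))
      (FibCat.fpLift x (AlgSt.overMap h) α))
    (K := BasedFunctor.comp (FibCat.fpLift (chartLift h𝒳 T hT x)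
      (AlgSt.overMap (chartIncl h𝒳 T hT x ≫ h)) (restrictIso h𝒳 T hT x f y h α))
      (fpPre (AlgSt.subIncl 𝒳 (QT T)) f y))
    (Iso.refl _) (overMapCompIso (chartIncl h𝒳 T hT x) h)
    (fun a => by
      change f.map (𝟙 _) ≫ _ = _
      rw [f.toFunctor.map_id, Category.id_comp]
      rfl)

end Restrict


section Main

variable (h𝒳 : AlgSt.IsAlgStack Scheme.fppfPrecoverage 𝒳)
  (h𝒴 : AlgSt.IsAlgStack Scheme.fppfPrecoverage 𝒴) (f : 𝒳 ⥤ᵇ 𝒴)

include h𝒳 h𝒴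

/-- on the open substack cut out by an open set of points, the functor is smooth exactly when
the chart morphism of a good square is smooth on the corresponding open of the chart -/
theorem locQ_smooth_restrict_iff {U V : Over S} (x : FibCat.overCat U ⥤ᵇ 𝒳)
    (y : FibCat.overCat V ⥤ᵇ 𝒴) (h : U ⟶ V)
    (α : BasedFunctor.comp x f ≅ BasedFunctor.comp (AlgSt.overMap h) y)
    (hx₁ : AlgSt.RepByAlgSpWith (AlgSp.LocP @Smooth) x)
    (hx₂ : AlgSt.RepByAlgSpWith AlgSp.IsSurjectiveMor x)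
    (hy₁ : AlgSt.RepByAlgSpWith (AlgSp.LocP @Smooth) y)
    (hℓ : AlgSt.RepByAlgSpWith (AlgSp.LocP @Smooth) (FibCat.fpLift x (AlgSt.overMap h) α))
    (T : Set (AlgSt.Points 𝒳)) (hT : IsOpen T) :
    AlgSt.LocQ (AlgSp.LocP @Smooth) (BasedFunctor.comp (AlgSt.subIncl 𝒳 (QT T)) f) ↔
      Smooth ((chartOpen h𝒳 T hT x).ι ≫ h.left) := by
  have hQ := (isOpenSubstack_QT h𝒳 T hT).2.1
  constructor
  · intro hL
    have h1 := (locQ_iff_forall_good _ isSmoothLocalST_smooth hQ h𝒴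
      (BasedFunctor.comp (AlgSt.subIncl 𝒳 (QT T)) f)).1 hL _ _ (chartLift h𝒳 T hT x) y
      (chartIncl h𝒳 T hT x ≫ h) (restrictIso h𝒳 T hT x f y h α)
      (repByAlgSpWith_chartLift h𝒳 T hT x _ hx₁) hy₁ (good_restrict h𝒳 T hT x f y h α hℓ)
    exact AlgSp.locP_yon_map h1
  · intro hs
    refine ⟨_, _, chartLift h𝒳 T hT x, y, chartIncl h𝒳 T hT x ≫ h,
      restrictIso h𝒳 T hT x f y h α, repByAlgSpWith_chartLift h𝒳 T hT x _ hx₁,
      repByAlgSpWith_chartLift h𝒳 T hT x _ hx₂, hy₁, ?_⟩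
    exact Groth.Agent.Lib.Helper12.LocPGen.locP_yon_map_of @Smooth
      (fun g hg => by have := hg; infer_instance)
      (fun u k hk hh => Groth.Agent.Lib.Helper12.SmoothST.smooth_hcancel u k hk hh) _ hs

/-- the largest open substack on which a functor of algebraic stacks is smooth -/
theorem exists_largest_smooth :
    ∃ Q : 𝒳.obj → Prop, AlgSt.IsOpenSubstack 𝒳 Q Scheme.fppfPrecoverage ∧
      AlgSt.LocQ (AlgSp.LocP @Smooth) (BasedFunctor.comp (AlgSt.subIncl 𝒳 Q) f) ∧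
      ∀ Q' : 𝒳.obj → Prop, AlgSt.IsOpenSubstack 𝒳 Q' Scheme.fppfPrecoverage →
        AlgSt.LocQ (AlgSp.LocP @Smooth) (BasedFunctor.comp (AlgSt.subIncl 𝒳 Q') f) →
          ∀ a, Q' a → Q a := by
  obtain ⟨U, V, x, y, h, α, hx₁, hx₂, hy₁, -, hℓ⟩ := exists_good_square h𝒳 h𝒴 f
  have key := locQ_smooth_restrict_iff h𝒳 h𝒴 f x y h α hx₁ hx₂ hy₁ hℓ
  let 𝒯 : Set (Set (AlgSt.Points 𝒳)) := {T' | IsOpen T' ∧
    AlgSt.LocQ (AlgSp.LocP @Smooth) (BasedFunctor.comp (AlgSt.subIncl 𝒳 (QT T')) f)}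
  have hT : IsOpen (⋃₀ 𝒯) := isOpen_sUnion (fun t ht => ht.1)
  refine ⟨QT (⋃₀ 𝒯), isOpenSubstack_QT h𝒳 _ hT, (key _ hT).2 ?_, ?_⟩
  · refine smooth_ι_comp_of_cover h.left (chartOpen h𝒳 (⋃₀ 𝒯) hT x) (ι := 𝒯)
      (fun t => chartOpen h𝒳 t.1 t.2.1 x) ?_ ?_
    · intro w hw
      obtain ⟨t, ht, hwt⟩ := hw
      exact ⟨⟨t, ht⟩, hwt⟩
    · intro t
      exact (key t.1 t.2.1).1 t.2.2
  · intro Q' hQ' hL a ha
    have e := eq_QT_range h𝒳 Q' hQ'
    have hmem : Set.range (AlgSt.Points.map (AlgSt.subIncl 𝒳 Q')) ∈ 𝒯 :=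
      ⟨isOpen_range_subIncl h𝒳 Q' hQ', by rw [← e]; exact hL⟩
    exact QT_mono (Set.subset_sUnion_of_mem hmem) (QT_range_of_prop h𝒳 Q' hQ' ha)

end Main

end Groth.Agent.Lib.T2H6.SmLocus
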