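-- helper6 (team 2): points of open substacks under functors; the open substack swept out by a
-- smooth chart; the smooth locus and precomposition with a smooth functor.
import Mathlib
import Groth.Agent.Lib.T2H6SmLocus

set_option autoImplicit false
set_option backward.isDefEq.respectTransparency false
set_option backward.isDefEq.respectTransparency.types false
open CategoryTheory CategoryTheory.Functor CategoryTheory.Limits Opposite AlgebraicGeometry

universe u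

namespace Groth.Agent.Lib.T2H6.SmPre

open Groth.Agent.Lib.Helper17 Groth.Agent.Lib.Helper15PshFib Groth.Agent.Lib.Helper15RepComp
  Groth.Agent.Lib.Helper15RepPsh Groth.Agent.Lib.Helper15DiagBase Groth.Agent.Lib.Helper15DiagRepSp
  Groth.Agent.Lib.Helper15Descent Groth.Agent.Lib.Helper15DiagLft
  Groth.Agent.Lib.Helper15DiagDescent Groth.Agent.Lib.Helper15SpMapRep
  Groth.Agent.Lib.Helper15SrcCancel Groth.Agent.Lib.Helper15ChartSp Groth.Agent.Lib.Helper15Atlas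
  Groth.Agent.Lib.Helper15LocEss Groth.Agent.Lib.Helper15UnivComp Groth.Agent.Lib.Helper15SmLoc
  Groth.Agent.Lib.Helper15PtsComp Groth.Agent.Lib.Helper15PtsTop Groth.Agent.Lib.Helper15PtsQc
  Groth.Agent.Lib.Helper15LocQEngine Groth.Agent.Lib.Helper15GoodComp
  Groth.Agent.Lib.Helper15LocQProps Groth.Agent.Lib.T2H6.OpenSub Groth.Agent.Lib.T2H6.SmLocus

variable {S : Scheme.{u}} {𝒳 𝒳' 𝒴 : AlgSt.Cat S}

/-- the objects whose image has all its points in `T` are those with points in the preimage -/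
theorem QT_map_iff (h𝒳' : FibCat.IsFibGrpd 𝒳'.p) (h𝒳 : FibCat.IsFibGrpd 𝒳.p) (g : 𝒳' ⥤ᵇ 𝒳)
    (T : Set (AlgSt.Points 𝒳)) (a : 𝒳'.obj) :
    QT T (g.obj a) ↔ QT (AlgSt.Points.map g ⁻¹' T) a := by
  constructor
  · intro h p' ⟨m⟩
    change AlgSt.Points.map g (AlgSt.Points.mk p') ∈ T
    rw [AlgSt.Points.map_mk]
    exact h (p'.map g) ⟨g.map m⟩
  · intro h p ⟨m⟩
    obtain ⟨z', π, e, he, hz'⟩ := exists_lift_over_map h𝒳' h𝒳 g (r := p.obj) (z := a) m
    let q : AlgSt.FPt 𝒳' :=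
      { K := p.K, str := p.str, obj := z', lies := hz'.trans p.lies }
    have h1 : AlgSt.Points.mk p = AlgSt.Points.map g (AlgSt.Points.mk q) := by
      rw [AlgSt.Points.map_mk]
      exact AlgSt.Points.sound ⟨q.map g, e.hom, 𝟙 _, trivial⟩
    rw [h1]
    exact h q ⟨π⟩

/-- the points of the substack cut out by a set of points inject into the points of the stack -/
theorem injective_points_map_subIncl (h𝒳 : FibCat.IsFibGrpd 𝒳.p) (T : Set (AlgSt.Points 𝒳)) :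
    Function.Injective (AlgSt.Points.map (AlgSt.subIncl 𝒳 (QT T))) := by
  intro a b hab
  obtain ⟨p, rfl⟩ := AlgSt.Points.mk_surjective a
  obtain ⟨q, rfl⟩ := AlgSt.Points.mk_surjective b
  rw [AlgSt.Points.map_mk, AlgSt.Points.map_mk] at hab
  obtain ⟨r, m₁, m₂, -⟩ := fpt_rel_of_mk_eq h𝒳 hab
  have hr : QT T r.obj := QT_of_hom T m₁ p.obj.property
  let r' : AlgSt.FPt (AlgSt.fullSub 𝒳 (QT T)) :=
    { K := r.K, str := r.str, obj := ⟨r.obj, hr⟩, lies := r.lies }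
  exact AlgSt.Points.sound ⟨r', ObjectProperty.homMk m₁, ObjectProperty.homMk m₂, trivial⟩

section Chart

variable (h𝒳 : AlgSt.IsAlgStack Scheme.fppfPrecoverage 𝒳) (T : Set (AlgSt.Points 𝒳))
  (hT : IsOpen T) {U : Over S} (x : FibCat.overCat U ⥤ᵇ 𝒳)

/-- the restricted chart is surjective on points when the chart reaches all of `T` -/
theorem surjective_points_map_chartLift (hsub : T ⊆ Set.range (AlgSt.Points.ofChart x)) :
    Function.Surjective (AlgSt.Points.map (chartLift h𝒳 T hT x)) := by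
  intro q
  have hq : AlgSt.Points.map (AlgSt.subIncl 𝒳 (QT T)) q ∈ T := by
    have : AlgSt.Points.map (AlgSt.subIncl 𝒳 (QT T)) q ∈
        Set.range (AlgSt.Points.map (AlgSt.subIncl 𝒳 (QT T))) := ⟨q, rfl⟩
    rwa [range_subIncl_QT] at this
  obtain ⟨u, hu⟩ := hsub hq
  have hu' : u ∈ chartOpen h𝒳 T hT x := by
    change AlgSt.Points.ofChart x u ∈ T
    rw [hu]
    exact hq
  refine ⟨ptOver (chartSub h𝒳 T hT x) ⟨u, hu'⟩, ?_⟩
  apply injective_points_map_subIncl h𝒳.isStack.1 T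
  rw [← points_map_comp, ← hu]
  have h1 : AlgSt.Points.map (BasedFunctor.comp (chartLift h𝒳 T hT x) (AlgSt.subIncl 𝒳 (QT T)))
      (ptOver (chartSub h𝒳 T hT x) ⟨u, hu'⟩) =
      AlgSt.Points.ofChart (BasedFunctor.comp (AlgSt.overMap (chartIncl h𝒳 T hT x)) x)
        (⟨u, hu'⟩ : ↥(chartSub h𝒳 T hT x).left) :=
    (ofChart_eq_map_ptOver _ _).symm
  rw [h1, ofChart_overMap]
  rfl

theorem repByAlgSpWith_surj_chartLift (hx : AlgSt.RepByAlgSpWith (AlgSp.LocP @Smooth) x)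
    (hsub : T ⊆ Set.range (AlgSt.Points.ofChart x)) :
    AlgSt.RepByAlgSpWith AlgSp.IsSurjectiveMor (chartLift h𝒳 T hT x) :=
  (isSurjective_iff_repByAlgSpWith (isAlgStack_overCat _) (isOpenSubstack_QT h𝒳 T hT).2.1 _
    (repByAlgSp1_of_repByAlgSpWith _ _ (repByAlgSpWith_chartLift h𝒳 T hT x _ hx))).1
    (surjective_points_map_chartLift h𝒳 T hT x hsub)

end Chart


/-- a smooth morphism of schemes over the base gives a smooth space map -/
theorem locP_smooth_yon_map {U V : Over S} (g : U ⟶ V) (hg : Smooth g.left) :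
    AlgSp.LocP @Smooth ((AlgSp.yon S).map g) :=
  Groth.Agent.Lib.Helper12.LocPGen.locP_yon_map_of @Smooth
    (fun g hg => by have := hg; infer_instance)
    (fun u k hk hh => Groth.Agent.Lib.Helper12.SmoothST.smooth_hcancel u k hk hh) g hg

/-- Precomposing a smooth chart with a smooth morphism of schemes gives a smooth chart. -/
theorem smooth_overMap_comp' {W V : Over S} (g : W ⟶ V) (hg : Smooth g.left)
    (y : FibCat.overCat V ⥤ᵇ 𝒳) (hy : AlgSt.RepByAlgSpWith (AlgSp.LocP @Smooth) y) :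
    AlgSt.RepByAlgSpWith (AlgSp.LocP @Smooth) (BasedFunctor.comp (AlgSt.overMap g) y) := by
  have hgs := locP_smooth_yon_map g hg
  have hW : FibCat.IsFibGrpd (FibCat.overCat W).p := (isFibSet_overForget W).1
  have hVf : FibCat.IsFibGrpd (FibCat.overCat V).p := (isFibSet_overForget V).1
  have hV' : FibCat.IsFibGrpd (AlgSt.ofSch V).p :=
    (isFibSetoid_ofPsh ((AlgSp.yon S).obj V).obj).1
  have hc := chart_precomp_equiv hV' hVf (AlgSt.toOverCat V) (isEquivOver_toOverCat V) y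
  let WW : AlgSp.Space S := ⟨(AlgSp.yon S).obj W, AlgSp.IsAlgSpace.yon_obj W⟩
  let VV : AlgSp.Space S := ⟨(AlgSp.yon S).obj V, AlgSp.IsAlgSpace.yon_obj V⟩
  let gg : WW ⟶ VV := ObjectProperty.homMk ((AlgSp.yon S).map g)
  have h0 : AlgSt.RepByAlgSpWith (AlgSp.LocP @Smooth) (AlgSt.ofSpMap ((AlgSp.yon S).map g)) :=
    repByAlgSpWith_ofSpMap _ bcStable_smooth WW VV gg hgs
  have h0' : AlgSt.RepByAlgSpWith (AlgSp.LocP @Smooth)
      (BasedFunctor.comp (AlgSt.ofOverCat W) (AlgSt.ofSpMap ((AlgSp.yon S).map g))) :=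
    (repByAlgSpWith_of_square _ (AlgSt.ofSpMap ((AlgSp.yon S).map g))
      (BasedFunctor.comp (AlgSt.ofOverCat W) (AlgSt.ofSpMap ((AlgSp.yon S).map g)))
      (AlgSt.ofOverCat W) (BasedFunctor.id _) (isEquivOver_ofOverCat W) (isEquivOver_id _)
      (Iso.refl _)).1 h0
  have h1 : AlgSt.RepByAlgSpWith (AlgSp.LocP @Smooth)
      (BasedFunctor.comp (BasedFunctor.comp (AlgSt.ofOverCat W)
        (AlgSt.ofSpMap ((AlgSp.yon S).map g))) (BasedFunctor.comp (AlgSt.toOverCat V) y)) :=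
    repByAlgSpWith_comp_of_compCond hW hV' _ compCond_smooth _ _ h0' (hc.1 hy)
  obtain ⟨lam⟩ := nonempty_iso_overMap g
  refine (repByAlgSpWith_of_square _ _ (BasedFunctor.comp (AlgSt.overMap g) y)
    (BasedFunctor.id _) (BasedFunctor.id _) (isEquivOver_id _) (isEquivOver_id _) ?_).1 h1
  exact (whiskerRightIso lam y).symm

section Sweep

variable (h𝒳 : AlgSt.IsAlgStack Scheme.fppfPrecoverage 𝒳)

include h𝒳

theorem isOpen_range_ofChart {W : Over S} (x : FibCat.overCat W ⥤ᵇ 𝒳)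
    (hx : AlgSt.RepByAlgSpWith (AlgSp.LocP @Smooth) x) :
    IsOpen (Set.range (AlgSt.Points.ofChart x)) :=
  (isOpenMap_ofChart h𝒳 x (flat_of_smooth hx) (lfp_of_smooth hx)).isOpen_range

/-- a functor is smooth on the open substack swept out by a smooth chart on which it is given by
a smooth morphism of schemes -/
theorem locQ_smooth_of_chart (f : 𝒳 ⥤ᵇ 𝒴) {W V : Over S} (x : FibCat.overCat W ⥤ᵇ 𝒳)
    (hx : AlgSt.RepByAlgSpWith (AlgSp.LocP @Smooth) x) (y : FibCat.overCat V ⥤ᵇ 𝒴)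
    (hy : AlgSt.RepByAlgSpWith (AlgSp.LocP @Smooth) y) (h : W ⟶ V)
    (α : BasedFunctor.comp x f ≅ BasedFunctor.comp (AlgSt.overMap h) y) (hs : Smooth h.left) :
    AlgSt.LocQ (AlgSp.LocP @Smooth)
      (BasedFunctor.comp (AlgSt.subIncl 𝒳 (QT (Set.range (AlgSt.Points.ofChart x)))) f) := by
  have hT := isOpen_range_ofChart h𝒳 x hx
  refine ⟨_, _, chartLift h𝒳 _ hT x, y, chartIncl h𝒳 _ hT x ≫ h,
    restrictIso h𝒳 _ hT x f y h α, repByAlgSpWith_chartLift h𝒳 _ hT x _ hx,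
    repByAlgSpWith_surj_chartLift h𝒳 _ hT x hx (le_refl _), hy, ?_⟩
  apply locP_smooth_yon_map
  have := hs
  exact inferInstanceAs (Smooth ((chartOpen h𝒳 _ hT x).ι ≫ h.left))

end Sweep


section Main

/-- formation of the largest open substack on which a functor is smooth commutes with
precomposition by a smooth functor -/
theorem smooth_locus_precomp (h𝒳' : AlgSt.IsAlgStack Scheme.fppfPrecoverage 𝒳')
    (h𝒳 : AlgSt.IsAlgStack Scheme.fppfPrecoverage 𝒳)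
    (h𝒴 : AlgSt.IsAlgStack Scheme.fppfPrecoverage 𝒴)
    (g : 𝒳' ⥤ᵇ 𝒳) (hg : AlgSt.LocQ (AlgSp.LocP @Smooth) g) (f : 𝒳 ⥤ᵇ 𝒴)
    (Q : 𝒳.obj → Prop) (hQ₁ : AlgSt.IsOpenSubstack 𝒳 Q Scheme.fppfPrecoverage)
    (hQ₂ : AlgSt.LocQ (AlgSp.LocP @Smooth) (BasedFunctor.comp (AlgSt.subIncl 𝒳 Q) f))
    (hQ₃ : ∀ Q' : 𝒳.obj → Prop, AlgSt.IsOpenSubstack 𝒳 Q' Scheme.fppfPrecoverage →
      AlgSt.LocQ (AlgSp.LocP @Smooth) (BasedFunctor.comp (AlgSt.subIncl 𝒳 Q') f) →
        ∀ a, Q' a → Q a) :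
    AlgSt.IsOpenSubstack 𝒳' (fun a ↦ Q (g.obj a)) Scheme.fppfPrecoverage ∧
      AlgSt.LocQ (AlgSp.LocP @Smooth)
        (BasedFunctor.comp (AlgSt.subIncl 𝒳' (fun a ↦ Q (g.obj a))) (BasedFunctor.comp g f)) ∧
      ∀ Q' : 𝒳'.obj → Prop, AlgSt.IsOpenSubstack 𝒳' Q' Scheme.fppfPrecoverage →
        AlgSt.LocQ (AlgSp.LocP @Smooth)
          (BasedFunctor.comp (AlgSt.subIncl 𝒳' Q') (BasedFunctor.comp g f)) →
        ∀ a, Q' a → Q (g.obj a) := by
  obtain ⟨U₁, U₂, U₃, x₁, x₂, x₃, k, h, α, β, hx₁s, hx₁j, hx₂s, hx₂j, hx₃s, -, hα, -, hβ, -, hγ⟩ :=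
    exists_good_squares h𝒳' h𝒳 h𝒴 g f
  have hk : Smooth k.left := AlgSp.locP_yon_map
    ((locQ_iff_forall_good _ isSmoothLocalST_smooth h𝒳' h𝒳 g).1 hg U₁ U₂ x₁ x₂ k α hx₁s hx₂s hα)
  have pkey : ∀ t, AlgSt.Points.map g (AlgSt.Points.ofChart x₁ t) =
      AlgSt.Points.ofChart x₂ (k.left t) := by
    intro t
    rw [← ofChart_comp, ofChart_congr α, ofChart_overMap]
  have keyf := locQ_smooth_restrict_iff h𝒳 h𝒴 f x₂ x₃ h β hx₂s hx₂j hx₃s hβ
  have keygf := locQ_smooth_restrict_iff h𝒳' h𝒴 (BasedFunctor.comp g f) x₁ x₃ (k ≫ h)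
    (compSqIso g f x₁ x₂ x₃ k h α β) hx₁s hx₁j hx₃s hγ
  -- the points of the largest substack
  have hT : IsOpen (Set.range (AlgSt.Points.map (AlgSt.subIncl 𝒳 Q))) :=
    isOpen_range_subIncl h𝒳 Q hQ₁
  have hT' := hT.preimage (continuous_points_map h𝒳 g)
  have hpred : (fun a ↦ Q (g.obj a)) =
      QT (AlgSt.Points.map g ⁻¹' Set.range (AlgSt.Points.map (AlgSt.subIncl 𝒳 Q))) := by
    funext a
    apply propext
    rw [← QT_map_iff h𝒳'.isStack.1 h𝒳.isStack.1 g]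
    exact ⟨QT_range_of_prop h𝒳 Q hQ₁, prop_of_QT_range h𝒳 Q hQ₁⟩
  have hW : Smooth ((chartOpen h𝒳 _ hT x₂).ι ≫ h.left) :=
    (keyf _ hT).1 (by rw [← eq_QT_range h𝒳 Q hQ₁]; exact hQ₂)
  refine ⟨?_, ?_, ?_⟩
  · rw [hpred]
    exact isOpenSubstack_QT h𝒳' _ hT'
  · rw [hpred]
    refine (keygf _ hT').2 ?_
    have hrange : Set.range ((chartOpen h𝒳' _ hT' x₁).ι ≫ k.left) ⊆
        Set.range (chartOpen h𝒳 _ hT x₂).ι := by
      rintro _ ⟨v, rfl⟩
      rw [Scheme.Opens.range_ι]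
      change AlgSt.Points.ofChart x₂ (k.left ((chartOpen h𝒳' _ hT' x₁).ι v)) ∈
        Set.range (AlgSt.Points.map (AlgSt.subIncl 𝒳 Q))
      rw [← pkey]
      exact v.2
    let m := IsOpenImmersion.lift (chartOpen h𝒳 _ hT x₂).ι
      ((chartOpen h𝒳' _ hT' x₁).ι ≫ k.left) hrange
    have hm : m ≫ (chartOpen h𝒳 _ hT x₂).ι = (chartOpen h𝒳' _ hT' x₁).ι ≫ k.left :=
      IsOpenImmersion.lift_fac _ _ _
    have hms : Smooth m := by
      apply Groth.Agent.Lib.Helper12.SmoothST.smooth_hcancel m (chartOpen h𝒳 _ hT x₂).ι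
        inferInstance
      rw [hm]
      infer_instance
    have h2 : Smooth (m ≫ (chartOpen h𝒳 _ hT x₂).ι ≫ h.left) := inferInstance
    have e : (chartOpen h𝒳' _ hT' x₁).ι ≫ (k ≫ h).left =
        m ≫ (chartOpen h𝒳 _ hT x₂).ι ≫ h.left := by
      change (chartOpen h𝒳' _ hT' x₁).ι ≫ k.left ≫ h.left = _
      rw [← Category.assoc, ← hm, Category.assoc]
    rw [e]
    exact h2
  · intro Q' hQ' hL a ha
    have hTq : IsOpen (Set.range (AlgSt.Points.map (AlgSt.subIncl 𝒳' Q'))) :=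
      isOpen_range_subIncl h𝒳' Q' hQ'
    have hs : Smooth ((chartOpen h𝒳' _ hTq x₁).ι ≫ (k ≫ h).left) :=
      (keygf _ hTq).1 (by rw [← eq_QT_range h𝒳' Q' hQ']; exact hL)
    -- the chart of `𝒳` swept out by the restricted chart of `𝒳'`
    let j := chartIncl h𝒳' _ hTq x₁
    have hjk : Smooth (j ≫ k).left :=
      inferInstanceAs (Smooth ((chartOpen h𝒳' _ hTq x₁).ι ≫ k.left))
    have hx : AlgSt.RepByAlgSpWith (AlgSp.LocP @Smooth)
        (BasedFunctor.comp (AlgSt.overMap (j ≫ k)) x₂) := smooth_overMap_comp' (j ≫ k) hjk x₂ hx₂s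
    let α₂ : BasedFunctor.comp (BasedFunctor.comp (AlgSt.overMap (j ≫ k)) x₂) f ≅
        BasedFunctor.comp (AlgSt.overMap ((j ≫ k) ≫ h)) x₃ :=
      (whiskerLeftIso (AlgSt.overMap (j ≫ k)) β :
        BasedFunctor.comp (BasedFunctor.comp (AlgSt.overMap (j ≫ k)) x₂) f ≅
          BasedFunctor.comp (BasedFunctor.comp (AlgSt.overMap (j ≫ k)) (AlgSt.overMap h)) x₃) ≪≫
        whiskerRightIso (overMapCompIso (j ≫ k) h) x₃
    have hs' : Smooth ((j ≫ k) ≫ h).left := by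
      change Smooth (((chartOpen h𝒳' _ hTq x₁).ι ≫ k.left) ≫ h.left)
      rw [Category.assoc]
      exact hs
    have hL₂ := locQ_smooth_of_chart h𝒳 f _ hx x₃ hx₃s ((j ≫ k) ≫ h) α₂ hs'
    have hle := hQ₃ _ (isOpenSubstack_QT h𝒳 _ (isOpen_range_ofChart h𝒳 _ hx)) hL₂
    apply hle
    rw [QT_map_iff h𝒳'.isStack.1 h𝒳.isStack.1 g]
    refine QT_mono ?_ (QT_range_of_prop h𝒳' Q' hQ' ha)
    intro t ht
    obtain ⟨u, rfl⟩ := surjective_ofChart h𝒳' x₁ hx₁j t
    rw [Set.mem_preimage, pkey]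
    refine ⟨(⟨u, ht⟩ : ↥(chartOpen h𝒳' _ hTq x₁)), ?_⟩
    rw [ofChart_overMap]
    rfl

end Main

end Groth.Agent.Lib.T2H6.SmPre
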