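-- helper6 (team 2): charts of a substack whose inclusion is representable by schemes; a closed
-- substack of a reduced algebraic stack with all the points is the whole stack.
import Mathlib
import Groth.Agent.Lib.T2H6SmPre
import Groth.Agent.Lib.Helper15Descent

set_option autoImplicit false
set_option backward.isDefEq.respectTransparency false
set_option backward.isDefEq.respectTransparency.types false
open CategoryTheory CategoryTheory.Functor CategoryTheory.Limits Opposite AlgebraicGeometry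

universe u

namespace Groth.Agent.Lib.T2H6.ClosedSub

open Groth.Agent.Lib.Helper17 Groth.Agent.Lib.Helper15PtsTop Groth.Agent.Lib.Helper15PtsComp
  Groth.Agent.Lib.Helper15DiagBase Groth.Agent.Lib.Helper15LocQEngine Groth.Agent.Lib.Helper15Atlas
  Groth.Agent.Lib.Helper15DiagRepSp Groth.Agent.Lib.Helper15EquivRep
  Groth.Agent.Lib.T2H6.RepDiag Groth.Agent.Lib.Helper15UnivComp Groth.Agent.Lib.T2H6.OpenSub
  Groth.Agent.Lib.T2H6.SmPre Groth.Agent.Lib.Helper15SmLoc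

/-- a flat, surjective, quasi-compact monomorphism of schemes is an isomorphism -/
theorem isIso_of_mono_flat_surjective_qc {X Y : Scheme.{u}} (f : X ⟶ Y) [Mono f] [Flat f]
    [Surjective f] [QuasiCompact f] : IsIso f := by
  have h : MorphismProperty.isomorphisms Scheme.{u} f :=
    MorphismProperty.of_pullback_fst_of_descendsAlong
      (P := MorphismProperty.isomorphisms Scheme.{u})
      (Q := @Surjective ⊓ @Flat ⊓ @QuasiCompact) (f := f) (g := f) ⟨⟨‹_›, ‹_›⟩, ‹_›⟩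
      (inferInstanceAs (IsIso (pullback.fst f f)))
  exact h

variable {S : Scheme.{u}} {𝒳 𝒵 : AlgSt.Cat S}

theorem bcStable_repWith (R : MorphismProperty Scheme.{u}) [R.IsStableUnderBaseChange] :
    Groth.Agent.Lib.Helper15DiagLft.BCStable (AlgSp.RepWith (S := S) R) :=
  fun _ _ _ _ _ _ _ _ _ _ _ _ sq ha => MorphismProperty.of_isPullback sq ha

/-- the base change of a functor representable by schemes with a property to a scheme chart is
given by a morphism of schemes with the property -/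
theorem exists_scheme_chart_fp (R : MorphismProperty Scheme.{u}) [R.IsStableUnderBaseChange]
    (i : 𝒵 ⥤ᵇ 𝒳) (hi : AlgSt.RepByAlgSpWith (AlgSp.RepWith R) i) {U : Over S}
    (ya : FibCat.overCat U ⥤ᵇ 𝒳) :
    ∃ (V : Over S) (G : FibCat.overCat V ⥤ᵇ FibCat.fp ya i) (_ : FibCat.IsEquivOver G)
      (j : V ⟶ U), Nonempty (BasedFunctor.comp G (FibCat.fpFst ya i) ≅ AlgSt.overMap j) ∧
        R j.left := by
  obtain ⟨F, e, he, hφ⟩ := hi U ya
  obtain ⟨V, ⟨iV⟩⟩ := exists_iso_yon_of_representable _ hφ.1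
  have h1 : FibCat.IsEquivOver (AlgSt.ofSpMap iV.hom) :=
    isEquivOver_ofPshMap_of_inv iV.hom.hom iV.inv.hom (congrArg (·.hom) iV.hom_inv_id)
      (congrArg (·.hom) iV.inv_hom_id)
  obtain ⟨I, hI, -, -⟩ := IsEquivOver.exists_inverse_isEquivOver' (AlgSt.toOverCat V)
    (isEquivOver_toOverCat V)
  let G : FibCat.overCat V ⥤ᵇ FibCat.fp ya i :=
    BasedFunctor.comp I (BasedFunctor.comp (AlgSt.ofSpMap iV.hom) e)
  have hG : FibCat.IsEquivOver G := IsEquivOver.comp _ _ hI (IsEquivOver.comp _ _ h1 he)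
  obtain ⟨j, ⟨lam⟩⟩ := exists_iso_overMap (BasedFunctor.comp G (FibCat.fpFst ya i))
  have hO1 : AlgSt.RepByAlgSpWith (AlgSp.RepWith R) (FibCat.fpFst ya i) :=
    repByAlgSpWith_fpFst _ i ya hi
  have hO2 : AlgSt.RepByAlgSpWith (AlgSp.RepWith R)
      (BasedFunctor.comp G (FibCat.fpFst ya i)) :=
    (repByAlgSpWith_of_square _ (FibCat.fpFst ya i)
      (BasedFunctor.comp G (FibCat.fpFst ya i)) G (BasedFunctor.id _) hG
      (isEquivOver_id _) (Iso.refl _)).1 hO1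
  have hO3 : AlgSt.RepByAlgSpWith (AlgSp.RepWith R) (AlgSt.overMap j) :=
    repByAlgSpWith_of_iso _ lam hO2
  have hO4 := Groth.Agent.Lib.Helper15DiagLft.prop_spMapOfOver_of_repByAlgSpWith _
    (bcStable_repWith R) (AlgSt.overMap j) hO3
    ⟨(AlgSp.yon S).obj V, AlgSp.IsAlgSpace.yon_obj V⟩ (AlgSt.toOverCat V) (isEquivOver_toOverCat V)
  rw [spMapOfOver_comp_overMap, spMapOfOver_toOverCat, Category.id_comp] at hO4
  exact ⟨V, G, hG, j, ⟨lam⟩, (AlgSp.repWith_yon_map_iff _ _).1 hO4⟩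

/-- a property of the inclusion passes to the morphism of schemes of a chart -/
theorem prop_left_of_chart (P : MorphismProperty (AlgSp.Sp S))
    (hPb : Groth.Agent.Lib.Helper15DiagLft.BCStable P)
    (i : 𝒵 ⥤ᵇ 𝒳) (hi : AlgSt.RepByAlgSpWith P i) {U V : Over S}
    (ya : FibCat.overCat U ⥤ᵇ 𝒳) (G : FibCat.overCat V ⥤ᵇ FibCat.fp ya i)
    (hG : FibCat.IsEquivOver G) (j : V ⟶ U)
    (lam : BasedFunctor.comp G (FibCat.fpFst ya i) ≅ AlgSt.overMap j) :
    P ((AlgSp.yon S).map j) := by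
  have hO1 : AlgSt.RepByAlgSpWith P (FibCat.fpFst ya i) := repByAlgSpWith_fpFst _ i ya hi
  have hO2 : AlgSt.RepByAlgSpWith P (BasedFunctor.comp G (FibCat.fpFst ya i)) :=
    (repByAlgSpWith_of_square _ (FibCat.fpFst ya i)
      (BasedFunctor.comp G (FibCat.fpFst ya i)) G (BasedFunctor.id _) hG
      (isEquivOver_id _) (Iso.refl _)).1 hO1
  have hO3 : AlgSt.RepByAlgSpWith P (AlgSt.overMap j) := repByAlgSpWith_of_iso _ lam hO2
  have hO4 := Groth.Agent.Lib.Helper15DiagLft.prop_spMapOfOver_of_repByAlgSpWith _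
    hPb (AlgSt.overMap j) hO3
    ⟨(AlgSp.yon S).obj V, AlgSp.IsAlgSpace.yon_obj V⟩ (AlgSt.toOverCat V) (isEquivOver_toOverCat V)
  rw [spMapOfOver_comp_overMap, spMapOfOver_toOverCat, Category.id_comp] at hO4
  exact hO4

/-- the morphism of schemes of a chart of a substack is surjective when the points of the chart
lie in the substack -/
theorem surjective_left_of_chart (h𝒳 : FibCat.IsFibGrpd 𝒳.p) (Q : 𝒳.obj → Prop)
    (hfibQ : FibCat.IsFibGrpd (AlgSt.fullSub 𝒳 Q).p) {U V : Over S}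
    (ya : FibCat.overCat U ⥤ᵇ 𝒳) (G : FibCat.overCat V ⥤ᵇ FibCat.fp ya (AlgSt.subIncl 𝒳 Q))
    (hG : FibCat.IsEquivOver G) (j : V ⟶ U)
    (lam : BasedFunctor.comp G (FibCat.fpFst ya (AlgSt.subIncl 𝒳 Q)) ≅ AlgSt.overMap j)
    (hall : ∀ u : ↥U.left, AlgSt.Points.ofChart ya u ∈
      Set.range (AlgSt.Points.map (AlgSt.subIncl 𝒳 Q))) :
    Function.Surjective j.left.base := by
  have hU : FibCat.IsFibGrpd (FibCat.overCat U).p := (isFibSet_overForget U).1
  intro u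
  obtain ⟨x, hx'⟩ := hall u
  obtain ⟨ω, hω, -⟩ := points_fp_surjective hfibQ h𝒳 hU (AlgSt.subIncl 𝒳 Q) ya
    (ptOver U u) x (by rw [hx', ofChart_eq_map_ptOver])
  obtain ⟨ν, rfl⟩ := points_map_surjective_of_isEquivOver G hG ω
  obtain ⟨v, rfl⟩ := (ptOver_bijective V).2 ν
  refine ⟨v, (ptOver_bijective U).1 ?_⟩
  rw [← ptOver_map, ← hω, ← points_map_comp]
  exact (points_map_congr _ _ ((BasedNatTrans.forgetful _ _).mapIso lam) _).symm

/-- an object whose chart is an isomorphism onto the base lies in the substack -/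
theorem prop_of_isIso_chart (Q : 𝒳.obj → Prop) [ObjectProperty.IsClosedUnderIsomorphisms Q]
    {a : 𝒳.obj} {U V : Over S} (ya : FibCat.overCat U ⥤ᵇ 𝒳)
    (ι₀ : ya.obj (Over.mk (𝟙 U)) ≅ a)
    (G : FibCat.overCat V ⥤ᵇ FibCat.fp ya (AlgSt.subIncl 𝒳 Q)) (j : V ⟶ U)
    (lam : BasedFunctor.comp G (FibCat.fpFst ya (AlgSt.subIncl 𝒳 Q)) ≅ AlgSt.overMap j)
    (hiso : IsIso j.left) : Q a := by
  have hiso'' : IsIso ((Over.forget S).map j) := hiso
  have hiso' : IsIso j := isIso_of_reflects_iso j (Over.forget S)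
  let c₀ : Over V := Over.mk (inv j)
  let w := G.obj c₀
  let i₁ : w.obj.fst ≅ Over.mk (𝟙 U) :=
    (bApp lam c₀ : _ ≅ (AlgSt.overMap j).obj c₀) ≪≫ Over.isoMk (Iso.refl _) (by
      change 𝟙 _ ≫ 𝟙 U = inv j ≫ j
      simp)
  have hw : Q w.obj.snd.obj := w.obj.snd.property
  exact ObjectProperty.prop_of_iso Q
    (w.obj.iso.symm ≪≫ ya.toFunctor.mapIso i₁ ≪≫ ι₀) hw


/-- a closed substack of a reduced algebraic stack with all the points is the whole stack -/
theorem prop_of_isClosedSubstack_of_reduced (h𝒳 : AlgSt.IsAlgStack Scheme.fppfPrecoverage 𝒳)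
    (hred : AlgSt.SmoothLocally (fun X => IsReduced X) 𝒳)
    (Q : 𝒳.obj → Prop) (hQ : AlgSt.IsClosedSubstack 𝒳 Q Scheme.fppfPrecoverage)
    (hpts : Set.range (AlgSt.Points.map (AlgSt.subIncl 𝒳 Q)) = Set.univ) (y : 𝒳.obj) : Q y := by
  have := hQ.1
  have hfibQ : FibCat.IsFibGrpd (AlgSt.fullSub 𝒳 Q).p := hQ.2.1.isStack.1
  have hfib := h𝒳.isStack.1
  -- the inclusion is smooth
  obtain ⟨X₀, x₀, hx₀s, hx₀j⟩ := h𝒳.atlas
  have hredX₀ : IsReduced X₀.left := hred X₀ x₀ hx₀s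
  obtain ⟨V₀, G₀, hG₀, j₀, ⟨lam₀⟩, hj₀⟩ :=
    exists_scheme_chart_fp @IsClosedImmersion (AlgSt.subIncl 𝒳 Q) hQ.2.2 x₀
  have hsurj₀ : Function.Surjective j₀.left.base :=
    surjective_left_of_chart hfib Q hfibQ x₀ G₀ hG₀ j₀ lam₀ (fun u => by rw [hpts]; trivial)
  have : IsClosedImmersion j₀.left := hj₀
  have : Surjective j₀.left := ⟨hsurj₀⟩
  have hiso₀ : IsIso j₀.left := isIso_of_isClosedImmersion_of_surjective j₀.left
  have hsm₀ : AlgSt.RepByAlgSpWith (AlgSp.LocP @Smooth) (AlgSt.overMap j₀) :=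
    smooth_overMap_comp' j₀ inferInstance (BasedFunctor.id _)
      (repByAlgSpWith_of_isEquivOver _ (fun U => locP_smooth_id _) _ (isEquivOver_id _))
  have hsm₁ : AlgSt.RepByAlgSpWith (AlgSp.LocP @Smooth)
      (BasedFunctor.comp G₀ (FibCat.fpFst x₀ (AlgSt.subIncl 𝒳 Q))) :=
    repByAlgSpWith_of_iso _ lam₀.symm hsm₀
  have hsm₂ : AlgSt.RepByAlgSpWith (AlgSp.LocP @Smooth)
      (FibCat.fpFst x₀ (AlgSt.subIncl 𝒳 Q)) :=
    (repByAlgSpWith_of_square _ (FibCat.fpFst x₀ (AlgSt.subIncl 𝒳 Q))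
      (BasedFunctor.comp G₀ (FibCat.fpFst x₀ (AlgSt.subIncl 𝒳 Q))) G₀ (BasedFunctor.id _) hG₀
      (isEquivOver_id _) (Iso.refl _)).2 hsm₁
  have hrep : AlgSt.RepByAlgSp1 (AlgSt.subIncl 𝒳 Q) :=
    Groth.Agent.Lib.Helper15SrcCancel.repByAlgSp1_of_repByAlgSpWith _ _ hQ.2.2
  have hsm : AlgSt.RepByAlgSpWith (AlgSp.LocP @Smooth) (AlgSt.subIncl 𝒳 Q) :=
    Groth.Agent.Lib.Helper15Descent.repByAlgSpWith_of_fpFst_of_cover _ isLocalOnBase_fppf_smooth
      (AlgSt.subIncl 𝒳 Q) hrep x₀ (flat_of_smooth hx₀s) (lfp_of_smooth hx₀s) hx₀j hsm₂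
  -- the chart of `y`
  have := IsFibGrpd.isFibered hfib
  obtain ⟨U, hx⟩ : ∃ U : Over S, 𝒳.p.obj y = U := ⟨_, rfl⟩
  obtain ⟨ι₀, -⟩ := yonedaFunctor_iso hx
  obtain ⟨V, G, hG, j, ⟨lam⟩, hj⟩ :=
    exists_scheme_chart_fp @IsClosedImmersion (AlgSt.subIncl 𝒳 Q) hQ.2.2 (yonedaFunctor hx)
  have hsurj := surjective_left_of_chart hfib Q hfibQ (yonedaFunctor hx) G hG j lam
    (fun u => by rw [hpts]; trivial)
  have hjs : Smooth j.left := AlgSp.locP_yon_map
    (prop_left_of_chart _ bcStable_smooth (AlgSt.subIncl 𝒳 Q) hsm (yonedaFunctor hx) G hG j lam)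
  have : IsClosedImmersion j.left := hj
  have : Surjective j.left := ⟨hsurj⟩
  have hiso : IsIso j.left := isIso_of_mono_flat_surjective_qc j.left
  exact prop_of_isIso_chart Q (yonedaFunctor hx) ι₀ G j lam hiso

end Groth.Agent.Lib.T2H6.ClosedSub
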