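-- helper6 (team 2): a closed immersion into a reduced algebraic stack which is surjective on
-- points is essentially surjective; factoring through a closed substack is read on points.
import Mathlib
import Groth.Agent.Lib.T2H6ClosedSub

set_option autoImplicit false
set_option backward.isDefEq.respectTransparency false
set_option backward.isDefEq.respectTransparency.types false
open CategoryTheory CategoryTheory.Functor CategoryTheory.Limits Opposite AlgebraicGeometry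

universe u

namespace Groth.Agent.Lib.T2H6.ClosedImm

open Groth.Agent.Lib.Helper17 Groth.Agent.Lib.Helper15PtsTop Groth.Agent.Lib.Helper15PtsComp
  Groth.Agent.Lib.Helper15DiagBase Groth.Agent.Lib.Helper15LocQEngine Groth.Agent.Lib.Helper15Atlas
  Groth.Agent.Lib.Helper15DiagRepSp Groth.Agent.Lib.Helper15EquivRep
  Groth.Agent.Lib.T2H6.RepDiag Groth.Agent.Lib.Helper15UnivComp Groth.Agent.Lib.T2H6.OpenSub
  Groth.Agent.Lib.T2H6.SmPre Groth.Agent.Lib.Helper15SmLoc Groth.Agent.Lib.T2H6.ClosedSub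

variable {S : Scheme.{u}} {𝒳 𝒵 : AlgSt.Cat S}

/-- the morphism of schemes of a chart of a functor is surjective when the points of the chart
lie in the image of the functor -/
theorem surjective_left_of_chart' (h𝒳 : FibCat.IsFibGrpd 𝒳.p) (h𝒵 : FibCat.IsFibGrpd 𝒵.p)
    (i : 𝒵 ⥤ᵇ 𝒳) {U V : Over S}
    (ya : FibCat.overCat U ⥤ᵇ 𝒳) (G : FibCat.overCat V ⥤ᵇ FibCat.fp ya i)
    (hG : FibCat.IsEquivOver G) (j : V ⟶ U)
    (lam : BasedFunctor.comp G (FibCat.fpFst ya i) ≅ AlgSt.overMap j)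
    (hall : ∀ u : ↥U.left, AlgSt.Points.ofChart ya u ∈ Set.range (AlgSt.Points.map i)) :
    Function.Surjective j.left.base := by
  have hU : FibCat.IsFibGrpd (FibCat.overCat U).p := (isFibSet_overForget U).1
  intro u
  obtain ⟨x, hx'⟩ := hall u
  obtain ⟨ω, hω, -⟩ := points_fp_surjective h𝒵 h𝒳 hU i ya
    (ptOver U u) x (by rw [hx', ofChart_eq_map_ptOver])
  obtain ⟨ν, rfl⟩ := points_map_surjective_of_isEquivOver G hG ω
  obtain ⟨v, rfl⟩ := (ptOver_bijective V).2 ν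
  refine ⟨v, (ptOver_bijective U).1 ?_⟩
  rw [← ptOver_map, ← hω, ← points_map_comp]
  exact (points_map_congr _ _ ((BasedNatTrans.forgetful _ _).mapIso lam) _).symm

/-- an object whose chart is an isomorphism onto the base is in the essential image -/
theorem exists_preimage_of_isIso_chart (i : 𝒵 ⥤ᵇ 𝒳)
    {a : 𝒳.obj} {U V : Over S} (ya : FibCat.overCat U ⥤ᵇ 𝒳)
    (ι₀ : ya.obj (Over.mk (𝟙 U)) ≅ a)
    (G : FibCat.overCat V ⥤ᵇ FibCat.fp ya i) (j : V ⟶ U)
    (lam : BasedFunctor.comp G (FibCat.fpFst ya i) ≅ AlgSt.overMap j)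
    (hiso : IsIso j.left) : ∃ z : 𝒵.obj, Nonempty (i.obj z ≅ a) := by
  have hiso'' : IsIso ((Over.forget S).map j) := hiso
  have hiso' : IsIso j := isIso_of_reflects_iso j (Over.forget S)
  let c₀ : Over V := Over.mk (inv j)
  let w := G.obj c₀
  let i₁ : w.obj.fst ≅ Over.mk (𝟙 U) :=
    (bApp lam c₀ : _ ≅ (AlgSt.overMap j).obj c₀) ≪≫ Over.isoMk (Iso.refl _) (by
      change 𝟙 _ ≫ 𝟙 U = inv j ≫ j
      simp)
  exact ⟨w.obj.snd, ⟨w.obj.iso.symm ≪≫ ya.toFunctor.mapIso i₁ ≪≫ ι₀⟩⟩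

/-- a closed immersion into a reduced algebraic stack which is surjective on points is
essentially surjective -/
theorem exists_preimage_of_isClosedImm_of_reduced
    (h𝒳 : AlgSt.IsAlgStack Scheme.fppfPrecoverage 𝒳)
    (hred : AlgSt.SmoothLocally (fun X => IsReduced X) 𝒳) (h𝒵 : FibCat.IsFibGrpd 𝒵.p)
    (i : 𝒵 ⥤ᵇ 𝒳) (hi : AlgSt.IsClosedImm i)
    (hpts : Function.Surjective (AlgSt.Points.map i)) (y : 𝒳.obj) :
    ∃ z : 𝒵.obj, Nonempty (i.obj z ≅ y) := by
  have hfib := h𝒳.isStack.1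
  -- the functor is smooth
  obtain ⟨X₀, x₀, hx₀s, hx₀j⟩ := h𝒳.atlas
  have hredX₀ : IsReduced X₀.left := hred X₀ x₀ hx₀s
  obtain ⟨V₀, G₀, hG₀, j₀, ⟨lam₀⟩, hj₀⟩ := exists_scheme_chart_fp @IsClosedImmersion i hi x₀
  have hsurj₀ : Function.Surjective j₀.left.base :=
    surjective_left_of_chart' hfib h𝒵 i x₀ G₀ hG₀ j₀ lam₀ (fun u => hpts _)
  have : IsClosedImmersion j₀.left := hj₀
  have : Surjective j₀.left := ⟨hsurj₀⟩
  have hiso₀ : IsIso j₀.left := isIso_of_isClosedImmersion_of_surjective j₀.left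
  have hsm₀ : AlgSt.RepByAlgSpWith (AlgSp.LocP @Smooth) (AlgSt.overMap j₀) :=
    smooth_overMap_comp' j₀ inferInstance (BasedFunctor.id _)
      (repByAlgSpWith_of_isEquivOver _ (fun U => locP_smooth_id _) _ (isEquivOver_id _))
  have hsm₁ : AlgSt.RepByAlgSpWith (AlgSp.LocP @Smooth)
      (BasedFunctor.comp G₀ (FibCat.fpFst x₀ i)) :=
    repByAlgSpWith_of_iso _ lam₀.symm hsm₀
  have hsm₂ : AlgSt.RepByAlgSpWith (AlgSp.LocP @Smooth) (FibCat.fpFst x₀ i) :=
    (repByAlgSpWith_of_square _ (FibCat.fpFst x₀ i)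
      (BasedFunctor.comp G₀ (FibCat.fpFst x₀ i)) G₀ (BasedFunctor.id _) hG₀
      (isEquivOver_id _) (Iso.refl _)).2 hsm₁
  have hrep : AlgSt.RepByAlgSp1 i :=
    Groth.Agent.Lib.Helper15SrcCancel.repByAlgSp1_of_repByAlgSpWith _ _ hi
  have hsm : AlgSt.RepByAlgSpWith (AlgSp.LocP @Smooth) i :=
    Groth.Agent.Lib.Helper15Descent.repByAlgSpWith_of_fpFst_of_cover _ isLocalOnBase_fppf_smooth
      i hrep x₀ (flat_of_smooth hx₀s) (lfp_of_smooth hx₀s) hx₀j hsm₂
  -- the chart of `y`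
  have := IsFibGrpd.isFibered hfib
  obtain ⟨U, hx⟩ : ∃ U : Over S, 𝒳.p.obj y = U := ⟨_, rfl⟩
  obtain ⟨ι₀, -⟩ := yonedaFunctor_iso hx
  obtain ⟨V, G, hG, j, ⟨lam⟩, hj⟩ :=
    exists_scheme_chart_fp @IsClosedImmersion i hi (yonedaFunctor hx)
  have hsurj := surjective_left_of_chart' hfib h𝒵 i (yonedaFunctor hx) G hG j lam
    (fun u => hpts _)
  have hjs : Smooth j.left := AlgSp.locP_yon_map
    (prop_left_of_chart _ bcStable_smooth i hsm (yonedaFunctor hx) G hG j lam)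
  have : IsClosedImmersion j.left := hj
  have : Surjective j.left := ⟨hsurj⟩
  have hiso : IsIso j.left := isIso_of_mono_flat_surjective_qc j.left
  exact exists_preimage_of_isIso_chart i (yonedaFunctor hx) ι₀ G j lam hiso

variable {𝒴 : AlgSt.Cat S}

/-- a functor from a reduced algebraic stack factors through a closed substack if and only if
it does so on points -/
theorem forall_prop_iff_range_subset (h𝒳 : AlgSt.IsAlgStack Scheme.fppfPrecoverage 𝒳)
    (h𝒴 : AlgSt.IsAlgStack Scheme.fppfPrecoverage 𝒴)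
    (hred : AlgSt.SmoothLocally (fun X => IsReduced X) 𝒴)
    (Q : 𝒳.obj → Prop) (hQ : AlgSt.IsClosedSubstack 𝒳 Q Scheme.fppfPrecoverage) (f : 𝒴 ⥤ᵇ 𝒳) :
    (∀ y : 𝒴.obj, Q (f.obj y)) ↔ Set.range (AlgSt.Points.map f) ⊆
      Set.range (AlgSt.Points.map (AlgSt.subIncl 𝒳 Q)) := by
  have := hQ.1
  have hfibQ : FibCat.IsFibGrpd (AlgSt.fullSub 𝒳 Q).p := hQ.2.1.isStack.1
  constructor
  · rintro h _ ⟨x, rfl⟩
    obtain ⟨p, rfl⟩ := AlgSt.Points.mk_surjective x
    rw [AlgSt.Points.map_mk]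
    exact mem_range_of_prop Q (p.map f) (h _)
  · intro h y
    have hfp : FibCat.IsFibGrpd (FibCat.fp f (AlgSt.subIncl 𝒳 Q)).p :=
      isFibGrpd_fp f (AlgSt.subIncl 𝒳 Q) h𝒴.isStack.1 hfibQ h𝒳.isStack.1
    have hci : AlgSt.IsClosedImm (FibCat.fpFst f (AlgSt.subIncl 𝒳 Q)) :=
      repByAlgSpWith_fpFst _ (AlgSt.subIncl 𝒳 Q) f hQ.2.2
    have hs : Function.Surjective (AlgSt.Points.map (FibCat.fpFst f (AlgSt.subIncl 𝒳 Q))) := by
      intro p
      obtain ⟨q, hq⟩ := h ⟨p, rfl⟩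
      obtain ⟨w, hw, -⟩ := points_fp_surjective hfibQ h𝒳.isStack.1 h𝒴.isStack.1
        (AlgSt.subIncl 𝒳 Q) f p q hq.symm
      exact ⟨w, hw⟩
    obtain ⟨z, ⟨e⟩⟩ := exists_preimage_of_isClosedImm_of_reduced h𝒴 hred hfp
      (FibCat.fpFst f (AlgSt.subIncl 𝒳 Q)) hci hs y
    have h1 : Q (f.obj z.obj.fst) :=
      ObjectProperty.prop_of_iso Q z.obj.iso.symm z.obj.snd.property
    exact ObjectProperty.prop_of_iso Q (f.toFunctor.mapIso e) h1

end Groth.Agent.Lib.T2H6.ClosedImm
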