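import Mathlib

/-!
# A criterion for closed immersions over an algebraically closed field (T2 helper6)

* `surjective_of_forall_maximal`: a finite ring map `B → A` is surjective as soon as
  `B/m → A/mA` is surjective for every maximal ideal `m` of `B`.
* `surjective_of_fibre_conditions`: a finite map of finitely generated algebras over an
  algebraically closed field which is injective on maximal ideals and surjective on cotangent
  spaces is surjective.
* `isClosedImmersion_of_injOn_closedPoints`: the geometric form (Hartshorne II.7.3 style).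
-/

set_option autoImplicit false
set_option linter.unusedSectionVars false
set_option linter.style.haveILetI false
universe u

open CategoryTheory CategoryTheory.Limits AlgebraicGeometry

namespace Groth.Agent.Lib.T2H6.ClosedImmCrit

section Alg

theorem surjective_of_forall_maximal {B A : Type u} [CommRing B] [CommRing A] [Algebra B A]
    [Module.Finite B A]
    (h : ∀ m : Ideal B, m.IsMaximal → ∀ a : A, ∃ b : B,
      a - algebraMap B A b ∈ m.map (algebraMap B A)) :
    Function.Surjective (algebraMap B A) := by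
  classical
  let N : Submodule B A := LinearMap.range (Algebra.linearMap B A)
  let J : Ideal B := (⊤ : Submodule B (A ⧸ N)).annihilator
  have hJ : J = ⊤ := by
    by_contra hne
    obtain ⟨m, hm, hJm⟩ := Ideal.exists_le_maximal J hne
    have hQ : (⊤ : Submodule B (A ⧸ N)) ≤ m • (⊤ : Submodule B (A ⧸ N)) := by
      rintro q -
      obtain ⟨a, rfl⟩ := N.mkQ_surjective q
      obtain ⟨b, hb⟩ := h m hm a
      have h1 : N.mkQ a = N.mkQ (a - algebraMap B A b) := by
        rw [map_sub, sub_eq_self.2]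
        rw [Submodule.mkQ_apply, Submodule.Quotient.mk_eq_zero]
        exact ⟨b, rfl⟩
      rw [h1]
      have h2 : a - algebraMap B A b ∈ m • (⊤ : Submodule B A) := by
        rw [Ideal.smul_top_eq_map]
        exact hb
      have h3 : N.mkQ (a - algebraMap B A b) ∈ (m • (⊤ : Submodule B A)).map N.mkQ :=
        Submodule.mem_map_of_mem h2
      rw [Submodule.map_smul'', Submodule.map_top, Submodule.range_mkQ] at h3
      exact h3
    obtain ⟨r, hr1, hr2⟩ := Submodule.exists_sub_one_mem_and_smul_eq_zero_of_fg_of_le_smul m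
      (⊤ : Submodule B (A ⧸ N)) (Module.Finite.fg_top) hQ
    have hrJ : r ∈ J := by
      rw [Submodule.mem_annihilator]
      intro q _
      exact hr2 q trivial
    have hrm : r ∈ m := hJm hrJ
    have : (1 : B) ∈ m := by
      have := m.sub_mem hrm hr1
      simpa using this
    exact hm.ne_top ((Ideal.eq_top_iff_one m).2 this)
  intro a
  have h1 : (1 : B) ∈ J := by rw [hJ]; trivial
  rw [Submodule.mem_annihilator] at h1
  have h2 := h1 (N.mkQ a) trivial
  rw [one_smul, Submodule.mkQ_apply, Submodule.Quotient.mk_eq_zero] at h2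
  obtain ⟨b, hb⟩ := h2
  exact ⟨b, hb⟩

theorem surjective_of_fibre_conditions {k B A : Type u} [Field k] [IsAlgClosed k] [CommRing B]
    [CommRing A] [Algebra k B] [Algebra.FiniteType k B] [Algebra B A] [Module.Finite B A]
    [Algebra k A] [IsScalarTower k B A]
    (huniq : ∀ P P' : Ideal A, P.IsMaximal → P'.IsMaximal →
        P.comap (algebraMap B A) = P'.comap (algebraMap B A) → P = P')
    (hcot : ∀ P : Ideal A, P.IsMaximal → ∀ p ∈ P, ∃ s, s ∉ P ∧
        s * p ∈ (P.comap (algebraMap B A)).map (algebraMap B A) ⊔ P ^ 2) :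
    Function.Surjective (algebraMap B A) := by
  classical
  haveI : IsNoetherianRing B := Algebra.FiniteType.isNoetherianRing k B
  haveI : IsNoetherianRing A := IsNoetherianRing.of_finite B A
  apply surjective_of_forall_maximal
  intro m hm a
  set I : Ideal A := m.map (algebraMap B A) with hIdef
  by_cases hI : I = ⊤
  · exact ⟨0, by rw [hI]; trivial⟩
  obtain ⟨P, hP, hIP⟩ := Ideal.exists_le_maximal I hI
  have hcomap : ∀ P' : Ideal A, P'.IsMaximal → I ≤ P' → P'.comap (algebraMap B A) = m := by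
    intro P' hP' hle
    have h1 : m ≤ P'.comap (algebraMap B A) :=
      Ideal.le_comap_map.trans (Ideal.comap_mono hle)
    have h2 : P'.comap (algebraMap B A) ≠ ⊤ := Ideal.comap_ne_top _ hP'.ne_top
    exact (hm.eq_of_le h2 h1).symm
  have hPm := hcomap P hP hIP
  have huniq' : ∀ P' : Ideal A, P'.IsMaximal → I ≤ P' → P' = P := by
    intro P' hP' hle
    exact huniq P' P hP' hP ((hcomap P' hP' hle).trans hPm.symm)
  have hjac : P ≤ Ideal.jacobson I := by
    rw [Ideal.jacobson]
    refine le_sInf ?_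
    rintro J ⟨hIJ, hJ⟩
    rw [huniq' J hJ hIJ]
  have hunit : ∀ s : A, s ∉ P → ∃ t : A, s * t - 1 ∈ I := by
    intro s hs
    have htop : I ⊔ Ideal.span {s} = ⊤ := by
      by_contra hne
      obtain ⟨J, hJ, hle⟩ := Ideal.exists_le_maximal _ hne
      have hJP := huniq' J hJ (le_sup_left.trans hle)
      apply hs
      rw [← hJP]
      exact hle (Ideal.mem_sup_right (Ideal.mem_span_singleton_self s))
    have h1 : (1 : A) ∈ I ⊔ Ideal.span {s} := by rw [htop]; trivial
    obtain ⟨i, hi, y, hy, hiy⟩ := Submodule.mem_sup.1 h1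
    obtain ⟨t, rfl⟩ := Ideal.mem_span_singleton'.1 hy
    refine ⟨t, ?_⟩
    have : s * t - 1 = -i := by
      rw [← hiy]; ring
    rw [this]
    exact I.neg_mem hi
  have hPle : P ≤ I ⊔ P • P := by
    intro p hp
    obtain ⟨s, hs, hsp⟩ := hcot P hP p hp
    rw [hPm, ← hIdef] at hsp
    obtain ⟨t, ht⟩ := hunit s hs
    have hsp' : s * p ∈ I ⊔ P • P := by
      rw [smul_eq_mul, ← pow_two]
      exact hsp
    have : p = t * (s * p) - (s * t - 1) * p := by ring
    rw [this]
    refine Ideal.sub_mem _ (Ideal.mul_mem_left _ _ hsp') ?_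
    exact Ideal.mem_sup_left (Ideal.mul_mem_right _ _ ht)
  have hPI : P ≤ I := by
    have h := Submodule.sup_eq_sup_smul_of_le_smul_of_le_jacobson (I := P) (J := I) (N := I)
      (N' := P) (IsNoetherian.noetherian P) hjac hPle
    have h3 : I • P ≤ I := by
      change I * P ≤ I
      exact Ideal.mul_le_left
    have h2 : I ⊔ I • P = I := sup_eq_left.2 h3
    rw [h2] at h
    exact sup_eq_left.1 h
  -- the residue field at `P` is `k`
  letI : Field (A ⧸ P) := Ideal.Quotient.field P
  haveI : Algebra.FiniteType k A := Algebra.FiniteType.trans (S := B) inferInstance inferInstance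
  haveI : Algebra.FiniteType k (A ⧸ P) :=
    Algebra.FiniteType.of_surjective (Ideal.Quotient.mkₐ k P) Ideal.Quotient.mk_surjective
  haveI : Module.Finite k (A ⧸ P) := finite_of_finite_type_of_isJacobsonRing k (A ⧸ P)
  haveI : Algebra.IsIntegral k (A ⧸ P) := Algebra.IsIntegral.of_finite k (A ⧸ P)
  obtain ⟨c, hc⟩ := (IsAlgClosed.algebraMap_bijective_of_isIntegral (k := k) (K := A ⧸ P)).2
    (Ideal.Quotient.mk P a)
  refine ⟨algebraMap k B c, hPI ?_⟩
  rw [← IsScalarTower.algebraMap_apply k B A, ← Ideal.Quotient.eq, ← hc]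
  rfl

end Alg

section Sch

variable (k : Type u) [Field k] [IsAlgClosed k] {X Y : Scheme.{u}} (f : X ⟶ Y)
  (q : Y ⟶ Spec (CommRingCat.of k)) [LocallyOfFiniteType q] [LocallyOfFiniteType (f ≫ q)]
  [IsProper f]
  (hinj : Set.InjOn f.base {x : X | IsClosed ({x} : Set X)})

include q hinj in
theorem eq_of_map_eq_closedPoint (x₀ : X) (hx₀ : IsClosed ({x₀} : Set X)) (x' : X)
    (h : f x' = f x₀) : x' = x₀ := by
  haveI : JacobsonSpace X := LocallyOfFiniteType.jacobsonSpace (f ≫ q)
  have hy : IsClosed ({f x₀} : Set Y) := by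
    have := f.isClosedMap _ hx₀
    rwa [Set.image_singleton] at this
  have hfib : IsClosed (f.base ⁻¹' {f x₀}) := hy.preimage f.continuous
  have hZ : closure ({x'} : Set X) ⊆ f.base ⁻¹' {f x₀} :=
    closure_minimal (by simpa using h) hfib
  have h1 := JacobsonSpace.closure_inter_closedPoints_eq_closure
    (isClosed_closure (s := ({x'} : Set X))).isLocallyClosed
  have h2 : closure ({x'} : Set X) ∩ closedPoints X ⊆ {x₀} := by
    rintro z ⟨hz1, hz2⟩
    have hz3 : f z = f x₀ := hZ hz1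
    exact hinj hz2 hx₀ hz3
  have h3 : closure ({x'} : Set X) ⊆ {x₀} := by
    rw [closure_closure] at h1
    rw [← h1]
    exact closure_minimal h2 hx₀
  exact h3 (subset_closure rfl)

include q hinj in
theorem locallyQuasiFinite : LocallyQuasiFinite f := by
  haveI : JacobsonSpace X := LocallyOfFiniteType.jacobsonSpace (f ≫ q)
  rw [← Scheme.Hom.quasiFiniteLocus_eq_top_iff]
  by_contra hne
  have hZne : ((f.quasiFiniteLocus : Set X)ᶜ).Nonempty := by
    rw [Set.nonempty_compl]
    intro h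
    apply hne
    ext x
    simp [h]
  obtain ⟨x₀, hx₀Z, hx₀⟩ := nonempty_inter_closedPoints hZne
    f.quasiFiniteLocus.isOpen.isClosed_compl.isLocallyClosed
  apply hx₀Z
  change f.QuasiFiniteAt x₀
  rw [Scheme.Hom.quasiFiniteAt_iff_isOpen_singleton_asFiber]
  haveI : Subsingleton (f.base ⁻¹' {f x₀}) := by
    constructor
    rintro ⟨a, ha⟩ ⟨b, hb⟩
    have ha' := eq_of_map_eq_closedPoint k f q hinj x₀ hx₀ a ha
    have hb' := eq_of_map_eq_closedPoint k f q hinj x₀ hx₀ b hb
    exact Subtype.ext (ha'.trans hb'.symm)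
  haveI : Subsingleton (f.fiber (f x₀)) := (f.fiberHomeo (f x₀)).injective.subsingleton
  exact isOpen_discrete _

/-- a maximal ideal of the ring of an affine open gives a closed point (Jacobson case) -/
theorem isClosed_fromSpec_of_isMaximal {X : Scheme.{u}} [JacobsonSpace X] {U : X.Opens}
    (hU : IsAffineOpen U) (P : Ideal Γ(X, U)) (hP : P.IsMaximal) :
    IsClosed ({hU.fromSpec ⟨P, hP.isPrime⟩} : Set X) := by
  apply isClosed_singleton_of_isLocallyClosed_singleton
  have h1 : IsClosed ({(⟨P, hP.isPrime⟩ : PrimeSpectrum Γ(X, U))} : Set (PrimeSpectrum Γ(X, U))) :=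
    (PrimeSpectrum.isClosed_singleton_iff_isMaximal _).2 hP
  have h2 := h1.isLocallyClosed.image hU.fromSpec.isOpenEmbedding.isInducing
    hU.fromSpec.isOpenEmbedding.isOpen_range.isLocallyClosed
  rwa [Set.image_singleton] at h2

theorem fromSpec_mem {X : Scheme.{u}} {U : X.Opens} (hU : IsAffineOpen U)
    (P : PrimeSpectrum Γ(X, U)) : hU.fromSpec P ∈ U := by
  have : hU.fromSpec P ∈ Set.range hU.fromSpec := Set.mem_range_self P
  rwa [hU.range_fromSpec] at this

theorem primeIdealOf_fromSpec' {X : Scheme.{u}} {U : X.Opens} (hU : IsAffineOpen U)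
    (P : PrimeSpectrum Γ(X, U)) : hU.primeIdealOf ⟨hU.fromSpec P, fromSpec_mem hU P⟩ = P := by
  apply hU.fromSpec.isOpenEmbedding.injective
  exact hU.fromSpec_primeIdealOf ⟨hU.fromSpec P, fromSpec_mem hU P⟩

include q hinj in
theorem isClosedImmersion_of_injOn_closedPoints
    (hT : ∀ x : X, IsClosed ({x} : Set X) →
      Ideal.map (f.stalkMap x).hom (IsLocalRing.maximalIdeal (Y.presheaf.stalk (f.base x))) ⊔
        IsLocalRing.maximalIdeal (X.presheaf.stalk x) ^ 2 =
          IsLocalRing.maximalIdeal (X.presheaf.stalk x)) :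
    IsClosedImmersion f := by
  haveI : JacobsonSpace X := LocallyOfFiniteType.jacobsonSpace (f ≫ q)
  haveI : JacobsonSpace Y := LocallyOfFiniteType.jacobsonSpace q
  haveI : LocallyQuasiFinite f := locallyQuasiFinite k f q hinj
  haveI : IsFinite f := IsFinite.of_isProper_of_locallyQuasiFinite f
  rw [isClosedImmersion_iff_isAffineHom]
  refine ⟨inferInstance, fun V hV => ?_⟩
  have hU : IsAffineOpen (f ⁻¹ᵁ V) := hV.preimage f
  let ψ : k →+* Γ(Y, V) :=
    (q.appLE ⊤ V le_top).hom.comp (Scheme.ΓSpecIso (CommRingCat.of k)).inv.hom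
  have hψ : ψ.FiniteType := by
    refine RingHom.FiniteType.comp (q.finiteType_appLE (isAffineOpen_top _) hV le_top) ?_
    exact RingHom.FiniteType.of_surjective _
      (ConcreteCategory.bijective_of_isIso (Scheme.ΓSpecIso (CommRingCat.of k)).inv).2
  let φ : Γ(Y, V) →+* Γ(X, f ⁻¹ᵁ V) := (f.app V).hom
  have hφ : φ.Finite := f.finite_app V hV
  letI := ψ.toAlgebra
  letI := φ.toAlgebra
  letI := (φ.comp ψ).toAlgebra
  haveI : IsScalarTower k Γ(Y, V) Γ(X, f ⁻¹ᵁ V) := IsScalarTower.of_algebraMap_eq' rfl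
  haveI : Algebra.FiniteType k Γ(Y, V) := hψ
  haveI : Module.Finite Γ(Y, V) Γ(X, f ⁻¹ᵁ V) := hφ
  change Function.Surjective (algebraMap Γ(Y, V) Γ(X, f ⁻¹ᵁ V))
  apply surjective_of_fibre_conditions (k := k)
  · -- injectivity on maximal ideals
    intro P P' hP hP' hcomap
    set x := hU.fromSpec ⟨P, hP.isPrime⟩ with hxdef
    set x' := hU.fromSpec ⟨P', hP'.isPrime⟩ with hx'def
    have hx : IsClosed ({x} : Set X) := isClosed_fromSpec_of_isMaximal hU P hP
    have hx' : IsClosed ({x'} : Set X) := isClosed_fromSpec_of_isMaximal hU P' hP'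
    have hxU : x ∈ f ⁻¹ᵁ V := fromSpec_mem hU _
    have hx'U : x' ∈ f ⁻¹ᵁ V := fromSpec_mem hU _
    have h1 := IsAffineOpen.comap_primeIdealOf_appLE (f := f) (x := x) V hV (f ⁻¹ᵁ V) hU le_rfl hxU
    have h2 := IsAffineOpen.comap_primeIdealOf_appLE (f := f) (x := x') V hV (f ⁻¹ᵁ V) hU le_rfl hx'U
    rw [primeIdealOf_fromSpec' hU, ← Scheme.Hom.app_eq_appLE] at h1 h2
    have h3 : hV.primeIdealOf ⟨f x, hxU⟩ = hV.primeIdealOf ⟨f x', hx'U⟩ := by
      rw [← h1, ← h2]
      ext1
      exact hcomap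
    have h4 : f x = f x' := by
      have e1 := hV.fromSpec_primeIdealOf ⟨f x, hxU⟩
      have e2 := hV.fromSpec_primeIdealOf ⟨f x', hx'U⟩
      rw [h3] at e1
      exact e1.symm.trans e2
    have h5 : x = x' := hinj hx hx' h4
    have h6 := hU.fromSpec.isOpenEmbedding.injective h5
    exact congrArg PrimeSpectrum.asIdeal h6
  · -- cotangent condition
    intro P hP p hp
    haveI := hP.isPrime
    set x := hU.fromSpec ⟨P, hP.isPrime⟩ with hxdef
    have hx : IsClosed ({x} : Set X) := isClosed_fromSpec_of_isMaximal hU P hP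
    have hxU : x ∈ f ⁻¹ᵁ V := fromSpec_mem hU _
    have hloc := hU.isLocalization_stalk ⟨x, hxU⟩
    rw [primeIdealOf_fromSpec' hU] at hloc
    have hlocY := hV.isLocalization_stalk ⟨f x, hxU⟩
    have h1 := IsAffineOpen.comap_primeIdealOf_appLE (f := f) (x := x) V hV (f ⁻¹ᵁ V) hU le_rfl hxU
    rw [primeIdealOf_fromSpec' hU, ← Scheme.Hom.app_eq_appLE] at h1
    set m : Ideal Γ(Y, V) := P.comap (algebraMap Γ(Y, V) Γ(X, f ⁻¹ᵁ V)) with hm
    have hmY : (hV.primeIdealOf ⟨f x, hxU⟩).asIdeal = m := by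
      rw [← h1]
      rfl
    have hmaxX : IsLocalRing.maximalIdeal (X.presheaf.stalk x) =
        P.map (X.presheaf.germ (f ⁻¹ᵁ V) x hxU).hom :=
      (@IsLocalization.AtPrime.map_eq_maximalIdeal _ _ P _ (X.presheaf.stalk x) _
        (X.presheaf.algebra_section_stalk ⟨x, hxU⟩) hloc).symm
    have hmaxY : IsLocalRing.maximalIdeal (Y.presheaf.stalk (f x)) =
        m.map (Y.presheaf.germ V (f x) hxU).hom := by
      rw [← hmY]
      exact (@IsLocalization.AtPrime.map_eq_maximalIdeal _ _ _ _ (Y.presheaf.stalk (f x)) _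
        (Y.presheaf.algebra_section_stalk ⟨f x, hxU⟩) hlocY).symm
    have hT' := hT x hx
    rw [hmaxX] at hT'
    change Ideal.map (f.stalkMap x).hom (IsLocalRing.maximalIdeal (Y.presheaf.stalk (f x))) ⊔ _ = _
      at hT'
    rw [hmaxY, Ideal.map_map] at hT'
    have hcomp : (f.stalkMap x).hom.comp (Y.presheaf.germ V (f x) hxU).hom =
        (X.presheaf.germ (f ⁻¹ᵁ V) x hxU).hom.comp (f.app V).hom := by
      rw [← CommRingCat.hom_comp, ← CommRingCat.hom_comp, Scheme.Hom.germ_stalkMap]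
    rw [hcomp, ← Ideal.map_map, ← Ideal.map_pow, ← Ideal.map_sup] at hT'
    have hp' : (X.presheaf.germ (f ⁻¹ᵁ V) x hxU).hom p ∈
        Ideal.map (X.presheaf.germ (f ⁻¹ᵁ V) x hxU).hom
          (m.map (f.app V).hom ⊔ P ^ 2) := by
      rw [hT']
      exact Ideal.mem_map_of_mem _ hp
    letI : Algebra Γ(X, f ⁻¹ᵁ V) (X.presheaf.stalk x) :=
      X.presheaf.algebra_section_stalk ⟨x, hxU⟩
    haveI : IsLocalization.AtPrime (X.presheaf.stalk x) P := hloc
    have hp'' : algebraMap Γ(X, f ⁻¹ᵁ V) (X.presheaf.stalk x) p ∈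
        Ideal.map (algebraMap Γ(X, f ⁻¹ᵁ V) (X.presheaf.stalk x))
          (m.map (f.app V).hom ⊔ P ^ 2) := hp'
    obtain ⟨⟨a, s⟩, has⟩ := (IsLocalization.mem_map_algebraMap_iff P.primeCompl
      (X.presheaf.stalk x)).1 hp''
    have has' : algebraMap Γ(X, f ⁻¹ᵁ V) (X.presheaf.stalk x) (p * (s : Γ(X, f ⁻¹ᵁ V))) =
        algebraMap Γ(X, f ⁻¹ᵁ V) (X.presheaf.stalk x) (a : Γ(X, f ⁻¹ᵁ V)) := by
      rw [map_mul]; exact has
    obtain ⟨c, hc⟩ := (IsLocalization.eq_iff_exists P.primeCompl (X.presheaf.stalk x)).1 has'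
    refine ⟨(c : Γ(X, f ⁻¹ᵁ V)) * (s : Γ(X, f ⁻¹ᵁ V)), ?_, ?_⟩
    · exact (c * s).2
    · have : (c : Γ(X, f ⁻¹ᵁ V)) * (s : Γ(X, f ⁻¹ᵁ V)) * p = c * (p * s) := by ring
      rw [this, hc]
      exact Ideal.mul_mem_left _ _ a.2

end Sch

end Groth.Agent.Lib.T2H6.ClosedImmCrit
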