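import Groth.Prelude.Def_StGerb2

set_option autoImplicit false
set_option backward.isDefEq.respectTransparency false
set_option backward.isDefEq.respectTransparency.types false

universe v₄ u₄ v₃ u₃ v₂ u₂ v u

open CategoryTheory Opposite

namespace Groth.Agent.Lib.T2H6.GerbDescent

variable {C : Type u} [Category.{v} C] (J : GrothendieckTopology C)

section Basic

variable {𝒳 : BasedCategory.{v₂, u₂} C} [FibCat.IsFibGrpd 𝒳.p]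

theorem isStronglyCartesian_of_isHomLift {a b : 𝒳.obj} (φ : a ⟶ b) {V U : C} (h : V ⟶ U)
    (hφ : 𝒳.p.IsHomLift h φ) : 𝒳.p.IsStronglyCartesian h φ := by
  cases hφ
  exact FibCat.IsFibGrpd.isStronglyCartesian φ

/-- Two morphisms over the same arrow with the same target differ by a morphism over the
identity. -/
theorem exists_factor {a b c : 𝒳.obj} (φ : b ⟶ c) (ψ : a ⟶ c) {V U : C} (h : V ⟶ U)
    (hφ : 𝒳.p.IsHomLift h φ) (hψ : 𝒳.p.IsHomLift h ψ) :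
    ∃ χ : a ⟶ b, 𝒳.p.IsHomLift (𝟙 V) χ ∧ χ ≫ φ = ψ := by
  have hc := isStronglyCartesian_of_isHomLift φ h hφ
  exact ⟨Functor.IsCartesian.map 𝒳.p h φ ψ, inferInstance, Functor.IsCartesian.fac 𝒳.p h φ ψ⟩

theorem isIso_of_id {a b : 𝒳.obj} (φ : a ⟶ b) {V : C} (hφ : 𝒳.p.IsHomLift (𝟙 V) φ) : IsIso φ := by
  have hc := isStronglyCartesian_of_isHomLift φ (𝟙 V) hφ
  exact Functor.IsStronglyCartesian.isIso_of_base_isIso 𝒳.p (𝟙 V) φ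

theorem exists_lift_at (x : 𝒳.obj) {U V : C} (hU : 𝒳.p.obj x = U) (h : V ⟶ U) :
    ∃ (x' : 𝒳.obj) (ξ : x' ⟶ x), 𝒳.p.IsHomLift h ξ := by
  subst hU
  exact FibCat.IsFibGrpd.exists_lift h

end Basic

variable {𝒳 : BasedCategory.{v₂, u₂} C} {𝒴 : BasedCategory.{v₃, u₃} C}
  {𝒴' : BasedCategory.{v₄, u₄} C}

theorem locSurjObj_at {F : 𝒳 ⥤ᵇ 𝒴} (h : Gerb.LocSurjObj J F) (y : 𝒴.obj) {V : C}
    (hV : 𝒴.p.obj y = V) :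
    ∃ R ∈ J V, ∀ ⦃W : C⦄ (k : W ⟶ V), R k →
      ∃ (x : 𝒳.obj) (g : F.obj x ⟶ y), 𝒴.p.IsHomLift k g := by
  subst hV
  exact h y

theorem locSurjHom_at {F : 𝒳 ⥤ᵇ 𝒴} (h : Gerb.LocSurjHom J F) (x x' : 𝒳.obj)
    (b : F.obj x ⟶ F.obj x') {V : C} (hV : 𝒳.p.obj x = V) (hb : 𝒴.p.IsHomLift (𝟙 V) b) :
    ∃ R ∈ J V, ∀ ⦃W : C⦄ (k : W ⟶ V), R k →
      ∃ (x₀ : 𝒳.obj) (φ : x₀ ⟶ x) (ψ : x₀ ⟶ x'),
        𝒳.p.IsHomLift k φ ∧ 𝒳.p.IsHomLift k ψ ∧ F.map φ ≫ b = F.map ψ := by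
  subst hV
  exact h x x' b hb

variable [FibCat.IsFibGrpd 𝒳.p]

/-- The sieve of arrows over which `y` comes from `𝒳`. -/
def objSieve (f : 𝒳 ⥤ᵇ 𝒴) (y : 𝒴.obj) : Sieve (𝒴.p.obj y) where
  arrows V t := ∃ (x : 𝒳.obj) (φ : f.obj x ⟶ y), 𝒴.p.IsHomLift t φ
  downward_closed := by
    rintro V W t ⟨x, φ, hφ⟩ s
    have hx : 𝒳.p.obj x = V :=
      (f.w_obj x).symm.trans (@IsHomLift.domain_eq _ _ _ _ 𝒴.p _ _ _ _ t φ hφ)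
    obtain ⟨x', ξ, hξ⟩ := exists_lift_at x hx s
    have h1 : 𝒴.p.IsHomLift s (f.map ξ) :=
      @BasedFunctor.preserves_isHomLift _ _ _ _ f _ _ _ _ s ξ hξ
    exact ⟨x', f.map ξ ≫ φ, inferInstance⟩

theorem locSurjObj_iff (f : 𝒳 ⥤ᵇ 𝒴) :
    Gerb.LocSurjObj J f ↔ ∀ y : 𝒴.obj, objSieve f y ∈ J (𝒴.p.obj y) := by
  constructor
  · intro h y
    obtain ⟨R, hR, hRf⟩ := h y
    exact J.superset_covering (fun V t ht => hRf t ht) hR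
  · intro h y
    exact ⟨objSieve f y, h y, fun V t ht => ht⟩

/-- The sieve of arrows over which `b` lifts. -/
def homSieve (f : 𝒳 ⥤ᵇ 𝒴) (x x' : 𝒳.obj) (b : f.obj x ⟶ f.obj x') : Sieve (𝒳.p.obj x) where
  arrows V t := ∃ (x₀ : 𝒳.obj) (φ : x₀ ⟶ x) (ψ : x₀ ⟶ x'),
    𝒳.p.IsHomLift t φ ∧ 𝒳.p.IsHomLift t ψ ∧ f.map φ ≫ b = f.map ψ
  downward_closed := by
    rintro V W t ⟨x₀, φ, ψ, hφ, hψ, hb⟩ s
    have hx : 𝒳.p.obj x₀ = V := @IsHomLift.domain_eq _ _ _ _ 𝒳.p _ _ _ _ t φ hφ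
    obtain ⟨x₁, ξ, hξ⟩ := exists_lift_at x₀ hx s
    refine ⟨x₁, ξ ≫ φ, ξ ≫ ψ, inferInstance, inferInstance, ?_⟩
    rw [Functor.map_comp, Category.assoc, hb, ← Functor.map_comp]

theorem locSurjHom_iff (f : 𝒳 ⥤ᵇ 𝒴) :
    Gerb.LocSurjHom J f ↔ ∀ (x x' : 𝒳.obj) (b : f.obj x ⟶ f.obj x'),
      𝒴.p.IsHomLift (𝟙 (𝒳.p.obj x)) b → homSieve f x x' b ∈ J (𝒳.p.obj x) := by
  constructor
  · intro h x x' b hb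
    obtain ⟨R, hR, hRf⟩ := h x x' b hb
    exact J.superset_covering (fun V t ht => hRf t ht) hR
  · intro h x x' b hb
    exact ⟨homSieve f x x' b, h x x' b hb, fun V t ht => ht⟩

variable [FibCat.IsFibGrpd 𝒴.p] [FibCat.IsFibGrpd 𝒴'.p]

theorem locSurjObj_of_fp (f : 𝒳 ⥤ᵇ 𝒴) (g : 𝒴' ⥤ᵇ 𝒴) (hg : Gerb.LocSurjObj J g)
    (h : Gerb.LocSurjObj J (FibCat.fpFst g f)) : Gerb.LocSurjObj J f := by
  rw [locSurjObj_iff]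
  intro y
  obtain ⟨R, hR, hRf⟩ := hg y
  refine J.transitive hR _ ?_
  intro V t ht
  obtain ⟨y', β, hβ⟩ := hRf t ht
  have hy' : 𝒴'.p.obj y' = V :=
    (g.w_obj y').symm.trans (@IsHomLift.domain_eq _ _ _ _ 𝒴.p _ _ _ _ t β hβ)
  obtain ⟨R', hR', hR'f⟩ := locSurjObj_at J h y' hy'
  refine J.superset_covering ?_ hR'
  intro W k hk
  obtain ⟨z, γ, hγ⟩ := hR'f k hk
  change ∃ (x : 𝒳.obj) (φ : f.obj x ⟶ y), 𝒴.p.IsHomLift (k ≫ t) φ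
  have h1 : 𝒴.p.IsHomLift (𝟙 (𝒴'.p.obj z.obj.fst)) z.obj.iso.hom := z.property
  have h2 : 𝒴.p.IsHomLift (𝟙 (𝒴'.p.obj z.obj.fst)) z.obj.iso.inv := inferInstance
  have h3 : 𝒴.p.IsHomLift k (g.map γ) :=
    @BasedFunctor.preserves_isHomLift _ _ _ _ g _ _ _ _ k γ hγ
  have h4 : 𝒴.p.IsHomLift (k ≫ t) (g.map γ ≫ β) := inferInstance
  exact ⟨z.obj.snd, z.obj.iso.inv ≫ g.map γ ≫ β,
    IsHomLift.comp_lift_id_left' 𝒴.p (𝒴'.p.obj z.obj.fst) z.obj.iso.inv (k ≫ t) (g.map γ ≫ β)⟩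

omit [FibCat.IsFibGrpd 𝒳.p] [FibCat.IsFibGrpd 𝒴.p] [FibCat.IsFibGrpd 𝒴'.p] in
theorem isHomLift_snd_of (f : 𝒳 ⥤ᵇ 𝒴) (g : 𝒴' ⥤ᵇ 𝒴) {z₀ z : (FibCat.fp g f).obj} (Φ : z₀ ⟶ z)
    {W V : C} (k : W ⟶ V) (hΦ : (FibCat.fp g f).p.IsHomLift k Φ) :
    𝒳.p.IsHomLift k Φ.hom.snd := by
  cases hΦ
  exact FibCat.fp_isHomLift_snd g f Φ

theorem locSurjHom_of_fp (f : 𝒳 ⥤ᵇ 𝒴) (g : 𝒴' ⥤ᵇ 𝒴) (hg : Gerb.LocSurjObj J g)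
    (h : Gerb.LocSurjHom J (FibCat.fpFst g f)) : Gerb.LocSurjHom J f := by
  rw [locSurjHom_iff]
  intro x x' b hb
  have hU : 𝒴.p.obj (f.obj x) = 𝒳.p.obj x := f.w_obj x
  have hx' : 𝒳.p.obj x' = 𝒳.p.obj x :=
    (f.w_obj x').symm.trans (@IsHomLift.codomain_eq _ _ _ _ 𝒴.p _ _ _ _ _ b hb)
  obtain ⟨R, hR, hRf⟩ := locSurjObj_at J hg (f.obj x) hU
  refine J.transitive hR _ ?_
  intro V t ht
  obtain ⟨y', β, hβ⟩ := hRf t ht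
  have hy' : 𝒴'.p.obj y' = V :=
    (g.w_obj y').symm.trans (@IsHomLift.domain_eq _ _ _ _ 𝒴.p _ _ _ _ t β hβ)
  obtain ⟨x₁, ξ, hξ⟩ := exists_lift_at x rfl t
  obtain ⟨x₁', ξ', hξ'⟩ := exists_lift_at x' hx' t
  have hfξ : 𝒴.p.IsHomLift t (f.map ξ) :=
    @BasedFunctor.preserves_isHomLift _ _ _ _ f _ _ _ _ t ξ hξ
  have hfξ' : 𝒴.p.IsHomLift t (f.map ξ') :=
    @BasedFunctor.preserves_isHomLift _ _ _ _ f _ _ _ _ t ξ' hξ'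
  obtain ⟨γ, hγ, hγfac⟩ := exists_factor (f.map ξ) β t hfξ hβ
  have hβb : 𝒴.p.IsHomLift t (β ≫ b) := IsHomLift.comp_lift_id_right' 𝒴.p t β (𝒳.p.obj x) b
  obtain ⟨γ', hγ', hγ'fac⟩ := exists_factor (f.map ξ') (β ≫ b) t hfξ' hβb
  have iγ : IsIso γ := isIso_of_id γ hγ
  have iγ' : IsIso γ' := isIso_of_id γ' hγ'
  have hγ0 : 𝒴.p.IsHomLift (𝟙 (𝒴'.p.obj y')) γ := by rw [hy']; exact hγ
  have hγ0' : 𝒴.p.IsHomLift (𝟙 (𝒴'.p.obj y')) γ' := by rw [hy']; exact hγ'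
  let z : (FibCat.fp g f).obj := ⟨⟨y', x₁, asIso γ⟩, hγ0⟩
  let z' : (FibCat.fp g f).obj := ⟨⟨y', x₁', asIso γ'⟩, hγ0'⟩
  have hz : (FibCat.fp g f).p.obj z = V := hy'
  have hid : 𝒴'.p.IsHomLift (𝟙 V)
      (𝟙 y' : (FibCat.fpFst g f).obj z ⟶ (FibCat.fpFst g f).obj z') := IsHomLift.id hy'
  obtain ⟨R', hR', hR'f⟩ := locSurjHom_at J h z z' (𝟙 y') hz hid
  refine J.superset_covering ?_ hR'
  intro W k hk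
  obtain ⟨z₀, Φ, Ψ, hΦ, hΨ, hΦΨ⟩ := hR'f k hk
  change ∃ (x₀ : 𝒳.obj) (φ : x₀ ⟶ x) (ψ : x₀ ⟶ x'),
    𝒳.p.IsHomLift (k ≫ t) φ ∧ 𝒳.p.IsHomLift (k ≫ t) ψ ∧ f.map φ ≫ b = f.map ψ
  have e1 : Φ.hom.fst = Ψ.hom.fst := by
    have : Φ.hom.fst ≫ 𝟙 y' = Ψ.hom.fst := hΦΨ
    rw [← this, Category.comp_id]
  have hΦ2 : 𝒳.p.IsHomLift k Φ.hom.snd := isHomLift_snd_of f g Φ k hΦ
  have hΨ2 : 𝒳.p.IsHomLift k Ψ.hom.snd := isHomLift_snd_of f g Ψ k hΨ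
  refine ⟨z₀.obj.snd, Φ.hom.snd ≫ ξ, Ψ.hom.snd ≫ ξ', inferInstance, inferInstance, ?_⟩
  have w1 : g.map Φ.hom.fst ≫ γ = z₀.obj.iso.hom ≫ f.map Φ.hom.snd := Φ.hom.w
  have w2 : g.map Ψ.hom.fst ≫ γ' = z₀.obj.iso.hom ≫ f.map Ψ.hom.snd := Ψ.hom.w
  rw [← cancel_epi z₀.obj.iso.hom]
  simp only [Functor.map_comp, Category.assoc]
  rw [← reassoc_of% w1, ← reassoc_of% w2, reassoc_of% hγfac, hγ'fac, e1]

end Groth.Agent.Lib.T2H6.GerbDescent
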