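import Groth.Prelude.Def_StGerb2

set_option autoImplicit false
set_option backward.isDefEq.respectTransparency false
set_option backward.isDefEq.respectTransparency.types false

universe v₂ u₂ v u

open CategoryTheory Opposite

namespace Groth.Agent.Lib.T2H6.GerbIso

variable {C : Type u} [Category.{v} C] {𝒳 : BasedCategory.{v₂, u₂} C}
  {P : Cᵒᵖ ⥤ Type u₂} (π : 𝒳 ⥤ᵇ Stk.ofPsh P)

theorem map_map_eq {A B B' : C} (s : P.obj (op B')) (a : A ⟶ B) (b : B ⟶ B') (c : A ⟶ B')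
    (h : a ≫ b = c) : P.map a.op (P.map b.op s) = P.map c.op s := by
  subst h
  rw [op_comp, Functor.map_comp_apply]

/-- The section of `P` over `U` attached to an object `x` of `𝒳` lying over `U`. -/
def secAt (x : 𝒳.obj) {U : C} (h : 𝒳.p.obj x = U) : P.obj (op U) :=
  P.map (eqToHom (h.symm.trans (π.w_obj x).symm)).op (π.obj x).sec

theorem secAt_hom {x y : 𝒳.obj} (φ : y ⟶ x) {U V : C} (f : V ⟶ U) (hφ : 𝒳.p.IsHomLift f φ) :
    secAt π y (@IsHomLift.domain_eq _ _ _ _ 𝒳.p _ _ _ _ f φ hφ) =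
      P.map f.op (secAt π x (@IsHomLift.codomain_eq _ _ _ _ 𝒳.p _ _ _ _ f φ hφ)) := by
  cases hφ
  unfold secAt
  have hms : P.map (π.map φ).hom.op (π.obj x).sec = (π.obj y).sec := (π.map φ).map_sec
  have key : (eqToHom (π.w_obj y).symm ≫ (π.map φ).hom : 𝒳.p.obj y ⟶ (π.obj x).base) =
      𝒳.p.map φ ≫ eqToHom (π.w_obj x).symm := by
    have := Functor.congr_hom π.w.symm φ
    rw [this]
    simp
  rw [← hms]
  exact (map_map_eq (P := P) _ _ _ _ rfl).trans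
    ((congrArg (fun t => P.map (Quiver.Hom.op t) (π.obj x).sec) key).trans
      (map_map_eq (P := P) _ _ _ _ rfl).symm)

theorem secAt_congr (x : 𝒳.obj) {U : C} (h h' : 𝒳.p.obj x = U) : secAt π x h = secAt π x h' := rfl

variable [FibCat.IsFibGrpd 𝒳.p]

theorem secAt_rel {U : C} (a b : 𝒳.p.Fiber U) (h : Gerb.IsoRel 𝒳 U a b) :
    secAt π a.1 a.2 = secAt π b.1 b.2 := by
  obtain ⟨φ⟩ := h
  have := secAt_hom π φ.1 (𝟙 U) φ.2
  rw [op_id, P.map_id] at this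
  exact this

theorem secAt_pullFib {U V : C} (f : V ⟶ U) (a : 𝒳.p.Fiber U) :
    secAt π (Gerb.pullFib 𝒳 f a).1 (Gerb.pullFib 𝒳 f a).2 = P.map f.op (secAt π a.1 a.2) := by
  obtain ⟨x, rfl⟩ := a
  have := secAt_hom π (Gerb.pullHom 𝒳 x (f ≫ eqToHom rfl)) _ (Gerb.pullHom_isHomLift 𝒳 x _)
  refine this.trans ?_
  rw [eqToHom_refl, Category.comp_id]

/-- The map from the presheaf of isomorphism classes to `P`. -/
noncomputable def cmap : Gerb.isoClPsh 𝒳 ⟶ P where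
  app U := ↾(Quot.lift (fun a : 𝒳.p.Fiber U.unop => secAt π a.1 a.2) (fun a b h => secAt_rel π a b h))
  naturality U V f := by
    ext a
    obtain ⟨a⟩ := a
    exact secAt_pullFib π f.unop a

theorem cmap_mk {U : C} (a : 𝒳.p.Fiber U) :
    (cmap π).app (op U) (Quot.mk _ a) = secAt π a.1 a.2 := rfl

theorem mk_eq_pullFib {U V : C} (f : V ⟶ U) (a : 𝒳.p.Fiber U) (x₀ : 𝒳.obj) (φ : x₀ ⟶ a.1)
    (hφ : 𝒳.p.IsHomLift (f ≫ eqToHom a.2.symm) φ) (h₀ : 𝒳.p.obj x₀ = V) :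
    Quot.mk (Gerb.IsoRel 𝒳 V) ⟨x₀, h₀⟩ = Quot.mk _ (Gerb.pullFib 𝒳 f a) := by
  obtain ⟨χ, hχ, -⟩ := Gerb.exists_hom_pull 𝒳 a.1 (f ≫ eqToHom a.2.symm) φ hφ
  exact Quot.sound ⟨⟨χ, hχ⟩⟩

variable (J : GrothendieckTopology C)

theorem isLocallySurjective_cmap (h : Gerb.LocSurjObj J π) :
    Presheaf.IsLocallySurjective J (cmap π) where
  imageSieve_mem {U} s := by
    obtain ⟨R, hR, hRf⟩ := h (⟨U, s⟩ : Stk.EltObj P)
    refine J.superset_covering ?_ hR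
    intro V f hf
    obtain ⟨x, g, hg⟩ := hRf f hf
    have hx : 𝒳.p.obj x = V :=
      (π.w_obj x).symm.trans (@IsHomLift.domain_eq _ _ _ _ (Stk.ofPsh P).p _ _ _ _ f g hg)
    refine ⟨Quot.mk _ ⟨x, hx⟩, ?_⟩
    rw [cmap_mk]
    have hms : P.map g.hom.op s = (π.obj x).sec := g.map_sec
    have hfac : g.hom = eqToHom ((π.w_obj x).trans hx) ≫ f := by
      have := @IsHomLift.fac' _ _ _ _ (Stk.ofPsh P).p _ _ _ _ f g hg
      simpa using this
    unfold secAt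
    rw [← hms]
    refine map_map_eq (P := P) _ _ _ _ ?_
    rw [hfac]
    simp

theorem exists_sieve_eq (h : Gerb.LocSurjHom J π) {U : C} (a b : 𝒳.p.Fiber U)
    (hsec : secAt π a.1 a.2 = secAt π b.1 b.2) :
    ∃ R ∈ J U, ∀ ⦃V : C⦄ (f : V ⟶ U), R f →
      Quot.mk (Gerb.IsoRel 𝒳 V) (Gerb.pullFib 𝒳 f a) = Quot.mk _ (Gerb.pullFib 𝒳 f b) := by
  obtain ⟨xa, rfl⟩ := a
  obtain ⟨xb, hb⟩ := b
  have hsec : secAt π xa rfl = secAt π xb hb := hsec
  have e : (π.obj xa).base = (π.obj xb).base :=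
    (π.w_obj xa).trans (hb.symm.trans (π.w_obj xb).symm)
  have hms : P.map (eqToHom e).op (π.obj xb).sec = (π.obj xa).sec := by
    have h1 := congrArg (P.map (eqToHom (π.w_obj xa)).op) hsec
    have h2 : P.map (eqToHom (π.w_obj xa)).op (secAt π xa rfl) = (π.obj xa).sec := by
      unfold secAt
      refine (map_map_eq (P := P) _ _ _ (𝟙 _) (by simp)).trans ?_
      simp
    have h3 : P.map (eqToHom (π.w_obj xa)).op (secAt π xb hb) =
        P.map (eqToHom e).op (π.obj xb).sec := by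
      unfold secAt
      exact map_map_eq (P := P) _ _ _ _ (by simp)
    rw [← h2, ← h3]
    exact h1.symm
  let b' : π.obj xa ⟶ π.obj xb := ⟨eqToHom e, hms⟩
  have hb' : (Stk.ofPsh P).p.IsHomLift (𝟙 (𝒳.p.obj xa)) b' :=
    IsHomLift.of_fac' (Stk.ofPsh P).p _ _ (π.w_obj xa) ((π.w_obj xb).trans hb) (by simp [b'])
  obtain ⟨R, hR, hRf⟩ := h xa xb b' hb'
  refine ⟨R, hR, ?_⟩
  intro V f hf
  obtain ⟨x₀, φ, ψ, hφ, hψ, -⟩ := hRf f hf
  have h₀ : 𝒳.p.obj x₀ = V := @IsHomLift.domain_eq _ _ _ _ 𝒳.p _ _ _ _ f φ hφ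
  rw [← mk_eq_pullFib f ⟨xa, rfl⟩ x₀ φ (by simpa using hφ) h₀,
    ← mk_eq_pullFib f ⟨xb, hb⟩ x₀ ψ ?_ h₀]
  refine IsHomLift.of_fac' 𝒳.p _ _ h₀ rfl ?_
  have := @IsHomLift.fac' _ _ _ _ 𝒳.p _ _ _ _ f ψ hψ
  rw [this]
  simp

theorem isLocallyInjective_cmap (h : Gerb.LocSurjHom J π) :
    Presheaf.IsLocallyInjective J (cmap π) where
  equalizerSieve_mem {X} x y hxy := by
    obtain ⟨a⟩ := x
    obtain ⟨b⟩ := y
    obtain ⟨R, hR, hRf⟩ := exists_sieve_eq π J h a b hxy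
    refine J.superset_covering ?_ hR
    intro V f hf
    exact hRf f hf

end Groth.Agent.Lib.T2H6.GerbIso
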