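import Mathlib
import Groth.Prelude.Def_StCoarse
import Groth.Prelude.Def_StGerb
import Groth.Agent.Lib.T2H6GerbIso
import Groth.Agent.Lib.T2H6GerbDescent
import Groth.Agent.Lib.Helper17FpMap
import Groth.Agent.Lib.Helper12QuotSh

set_option autoImplicit false
set_option backward.isDefEq.respectTransparency false
set_option backward.isDefEq.respectTransparency.types false
open CategoryTheory CategoryTheory.Functor CategoryTheory.Limits Opposite AlgebraicGeometry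

universe u

namespace Groth.Agent.Lib.T2H6.CoarseGerb

open Groth.Agent.Lib.Helper17

variable {S : Scheme.{u}}

/-- A covering sieve of the spectrum of an algebraically closed field for the fppf topology is
the maximal sieve. -/
theorem id_mem_of_mem_J_algClosed (Ω : Type u) [Field Ω] [IsAlgClosed Ω]
    (t : Spec (CommRingCat.of Ω) ⟶ S) (R : Sieve (Over.mk t))
    (hR : R ∈ QuotSh.J Scheme.fppfPrecoverage S (Over.mk t)) : R (𝟙 (Over.mk t)) := by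
  rw [GrothendieckTopology.mem_over_iff,
    Precoverage.mem_toGrothendieck_iff_of_isStableUnderComposition] at hR
  obtain ⟨R', hR', hle⟩ := hR
  have h1 := hR'.1
  rw [Scheme.jointlySurjectivePrecoverage,
    Presieve.mem_comap_jointlySurjectivePrecoverage_iff] at h1
  obtain ⟨Y, g, hg, y, hy⟩ := h1 (IsLocalRing.closedPoint Ω)
  have hg1 : LocallyOfFinitePresentation g := (hR'.2 hg).2
  change Y ⟶ Spec (CommRingCat.of Ω) at g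
  have hg2 : LocallyOfFiniteType g := inferInstance
  have hJ : JacobsonSpace Y := LocallyOfFiniteType.jacobsonSpace g
  obtain ⟨y0, -, hy0⟩ := @nonempty_inter_closedPoints Y _ hJ Set.univ ⟨y, trivial⟩
    isOpen_univ.isLocallyClosed
  have hs : pointOfClosedPoint g y0 hy0 ≫ g = 𝟙 _ := pointOfClosedPoint_comp g y0 hy0
  have h4 := hle _ _ hg
  have h5 := Sieve.downward_closed _ h4 (pointOfClosedPoint g y0 hy0)
  rw [hs, Sieve.overEquiv_iff] at h5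
  have h6 := R.downward_closed h5
    (Over.homMk (𝟙 _) (by simp) : Over.mk t ⟶ Over.mk (𝟙 _ ≫ (Over.mk t).hom))
  convert h6 using 1
  apply Over.OverMorphism.ext
  simp

section Sec

variable {M : AlgSp.Sp S}

theorem sec_eq_of_hom_id {p q : Stk.EltObj M.obj} (m : p ⟶ q) {T : Over S}
    (hm : (Stk.ofPsh M.obj).p.IsHomLift (𝟙 T) m) (hp : T = p.base) (hq : T = q.base) :
    M.obj.map (eqToHom hp).op p.sec = M.obj.map (eqToHom hq).op q.sec := by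
  have fac : m.hom = eqToHom hp.symm ≫ 𝟙 T ≫ eqToHom hq :=
    @IsHomLift.fac' _ _ _ _ (Stk.ofPsh M.obj).p _ _ _ _ (𝟙 T) m hm
  have hms : M.obj.map m.hom.op q.sec = p.sec := m.map_sec
  rw [← hms]
  refine Groth.Agent.Lib.T2H6.GerbIso.map_map_eq (P := M.obj) _ _ _ _ ?_
  rw [fac]
  simp

variable {𝒳 𝒴 : AlgSt.Cat S}

theorem fibSec_of_hom (π : 𝒳 ⥤ᵇ AlgSt.ofSp M) {T : Over S} {x y : 𝒳.p.Fiber T} (φ : x ⟶ y) :
    AlgSt.fibSec π x = AlgSt.fibSec π y := by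
  have hm : (AlgSt.ofSp M).p.IsHomLift (𝟙 T) (π.map φ.1) :=
    @BasedFunctor.preserves_isHomLift _ _ _ _ π _ _ _ _ (𝟙 T) φ.1 φ.2
  exact sec_eq_of_hom_id (π.map φ.1) hm _ _

theorem fibSec_congr {π π' : 𝒳 ⥤ᵇ AlgSt.ofSp M} (e : π ≅ π') {T : Over S} (x : 𝒳.p.Fiber T) :
    AlgSt.fibSec π x = AlgSt.fibSec π' x := by
  obtain ⟨x, rfl⟩ := x
  exact sec_eq_of_hom_id (bApp e x).hom (bApp_isHomLift e x) _ _

/-- The image of an object of a fibre. -/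
def fibMap (F : 𝒳 ⥤ᵇ 𝒴) {T : Over S} (x : 𝒳.p.Fiber T) : 𝒴.p.Fiber T :=
  ⟨F.obj x.1, (F.w_obj x.1).trans x.2⟩

theorem fibSec_comp (F : 𝒳 ⥤ᵇ 𝒴) (π : 𝒴 ⥤ᵇ AlgSt.ofSp M) {T : Over S} (x : 𝒳.p.Fiber T) :
    AlgSt.fibSec (BasedFunctor.comp F π) x = AlgSt.fibSec π (fibMap F x) := rfl

/-- The image of a morphism of a fibre. -/
def fibMapHom (F : 𝒳 ⥤ᵇ 𝒴) {T : Over S} {x y : 𝒳.p.Fiber T} (φ : x ⟶ y) :
    fibMap F x ⟶ fibMap F y :=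
  ⟨F.map φ.1, @BasedFunctor.preserves_isHomLift _ _ _ _ F _ _ _ _ (𝟙 T) φ.1 φ.2⟩

/-- The image of an isomorphism of a fibre. -/
def fibMapIso (F : 𝒳 ⥤ᵇ 𝒴) {T : Over S} {x y : 𝒳.p.Fiber T} (a : x ≅ y) :
    fibMap F x ≅ fibMap F y where
  hom := fibMapHom F a.hom
  inv := fibMapHom F a.inv
  hom_inv_id := by
    apply Functor.Fiber.hom_ext
    change F.map a.hom.1 ≫ F.map a.inv.1 = 𝟙 _
    rw [← F.toFunctor.map_comp]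
    have := congrArg Subtype.val a.hom_inv_id
    change a.hom.1 ≫ a.inv.1 = 𝟙 x.1 at this
    rw [this, F.toFunctor.map_id]
  inv_hom_id := by
    apply Functor.Fiber.hom_ext
    change F.map a.inv.1 ≫ F.map a.hom.1 = 𝟙 _
    rw [← F.toFunctor.map_comp]
    have := congrArg Subtype.val a.inv_hom_id
    change a.inv.1 ≫ a.hom.1 = 𝟙 y.1 at this
    rw [this, F.toFunctor.map_id]

/-- A morphism of a fibre of a category fibred in groupoids is an isomorphism. -/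
noncomputable def fibIsoOfHom [FibCat.IsFibGrpd 𝒳.p] {T : Over S} {x y : 𝒳.p.Fiber T}
    (φ : x ⟶ y) : x ≅ y := by
  haveI hφ : 𝒳.p.IsHomLift (𝟙 T) φ.1 := φ.2
  haveI : IsIso φ.1 := Groth.Agent.Lib.T2H6.GerbDescent.isIso_of_id φ.1 hφ
  exact
    { hom := φ
      inv := ⟨inv φ.1, inferInstance⟩
      hom_inv_id := by
        apply Functor.Fiber.hom_ext
        exact IsIso.hom_inv_id φ.1
      inv_hom_id := by
        apply Functor.Fiber.hom_ext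
        exact IsIso.inv_hom_id φ.1 }

end Sec

section Main

variable {𝒳 𝒴 : AlgSt.Cat S} (F : 𝒳 ⥤ᵇ 𝒴)

theorem exists_lift_geomPt [FibCat.IsFibGrpd 𝒴.p]
    (hF : Gerb.LocSurjObj (QuotSh.J Scheme.fppfPrecoverage S) F)
    (Ω : Type u) [Field Ω] [IsAlgClosed Ω] (t : Spec (CommRingCat.of Ω) ⟶ S)
    (y : 𝒴.p.Fiber (Over.mk t)) :
    ∃ x : 𝒳.p.Fiber (Over.mk t), Nonempty (fibMap F x ≅ y) := by
  obtain ⟨y0, hy⟩ := y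
  obtain ⟨R, hR, hRf⟩ := Groth.Agent.Lib.T2H6.GerbDescent.locSurjObj_at _ hF y0 hy
  obtain ⟨x, g, hg⟩ := hRf (𝟙 _) (id_mem_of_mem_J_algClosed Ω t R hR)
  have hx : 𝒳.p.obj x = Over.mk t :=
    (F.w_obj x).symm.trans (@IsHomLift.domain_eq _ _ _ _ 𝒴.p _ _ _ _ _ g hg)
  exact ⟨⟨x, hx⟩, ⟨fibIsoOfHom (⟨g, hg⟩ : fibMap F ⟨x, hx⟩ ⟶ ⟨y0, hy⟩)⟩⟩

theorem iso_of_fibMap_iso [FibCat.IsFibGrpd 𝒳.p]
    (hF : Gerb.LocSurjHom (QuotSh.J Scheme.fppfPrecoverage S) F)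
    (Ω : Type u) [Field Ω] [IsAlgClosed Ω] (t : Spec (CommRingCat.of Ω) ⟶ S)
    (x x' : 𝒳.p.Fiber (Over.mk t)) (e : fibMap F x ≅ fibMap F x') : Nonempty (x ≅ x') := by
  obtain ⟨R, hR, hRf⟩ := Groth.Agent.Lib.T2H6.GerbDescent.locSurjHom_at _ hF x.1 x'.1 e.hom.1 x.2
    e.hom.2
  obtain ⟨x₀, φ, ψ, hφ, hψ, -⟩ := hRf (𝟙 _) (id_mem_of_mem_J_algClosed Ω t R hR)
  have h₀ : 𝒳.p.obj x₀ = Over.mk t := @IsHomLift.domain_eq _ _ _ _ 𝒳.p _ _ _ _ _ φ hφ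
  let z : 𝒳.p.Fiber (Over.mk t) := ⟨x₀, h₀⟩
  let a : z ⟶ x := ⟨φ, hφ⟩
  let b : z ⟶ x' := ⟨ψ, hψ⟩
  exact ⟨(fibIsoOfHom a).symm ≪≫ fibIsoOfHom b⟩

variable {M : AlgSp.Sp S}

theorem geomPtBij_congr {π π' : 𝒳 ⥤ᵇ AlgSt.ofSp M} (e : π ≅ π') (h : AlgSt.GeomPtBij π) :
    AlgSt.GeomPtBij π' := by
  intro Ω _ _ t
  obtain ⟨h1, h2⟩ := h Ω t
  refine ⟨fun m => ?_, fun x y hxy => ?_⟩
  · obtain ⟨x, hx⟩ := h1 m
    exact ⟨x, (fibSec_congr e x).symm.trans hx⟩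
  · exact h2 x y ((fibSec_congr e x).trans (hxy.trans (fibSec_congr e y).symm))

theorem geomPtBij_comp [FibCat.IsFibGrpd 𝒳.p] [FibCat.IsFibGrpd 𝒴.p]
    (hF : Gerb.IsGerbeOver (QuotSh.J Scheme.fppfPrecoverage S) F)
    (π : 𝒴 ⥤ᵇ AlgSt.ofSp M) (h : AlgSt.GeomPtBij π) :
    AlgSt.GeomPtBij (BasedFunctor.comp F π) := by
  intro Ω _ _ t
  obtain ⟨h1, h2⟩ := h Ω t
  refine ⟨fun m => ?_, fun x y hxy => ?_⟩
  · obtain ⟨y, hy⟩ := h1 m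
    obtain ⟨x, ⟨e⟩⟩ := exists_lift_geomPt F hF.1 Ω t y
    exact ⟨x, (fibSec_comp F π x).trans ((fibSec_of_hom π e.hom).trans hy)⟩
  · rw [fibSec_comp, fibSec_comp] at hxy
    obtain ⟨e⟩ := h2 _ _ hxy
    exact iso_of_fibMap_iso F hF.2 Ω t x y e

theorem geomPtBij_of_comp [FibCat.IsFibGrpd 𝒴.p]
    (hF : Gerb.LocSurjObj (QuotSh.J Scheme.fppfPrecoverage S) F)
    (ψ : 𝒴 ⥤ᵇ AlgSt.ofSp M) (h : AlgSt.GeomPtBij (BasedFunctor.comp F ψ)) :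
    AlgSt.GeomPtBij ψ := by
  intro Ω _ _ t
  obtain ⟨h1, h2⟩ := h Ω t
  refine ⟨fun m => ?_, fun y y' hyy' => ?_⟩
  · obtain ⟨x, hx⟩ := h1 m
    exact ⟨fibMap F x, hx⟩
  · obtain ⟨x, ⟨e⟩⟩ := exists_lift_geomPt F hF Ω t y
    obtain ⟨x', ⟨e'⟩⟩ := exists_lift_geomPt F hF Ω t y'
    have hx : AlgSt.fibSec (BasedFunctor.comp F ψ) x = AlgSt.fibSec (BasedFunctor.comp F ψ) x' := by
      rw [fibSec_comp, fibSec_comp, fibSec_of_hom ψ e.hom, fibSec_of_hom ψ e'.hom]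
      exact hyy'
    obtain ⟨a⟩ := h2 x x' hx
    exact ⟨e.symm ≪≫ fibMapIso F a ≪≫ e'⟩

/-- The factorisation hypothesis. -/
def Univ (F : 𝒳 ⥤ᵇ 𝒴) : Prop :=
  ∀ (N : AlgSp.Sp S), AlgSp.IsAlgSpace N → ∀ φ : 𝒳 ⥤ᵇ AlgSt.ofSp N,
    ∃ ψ : 𝒴 ⥤ᵇ AlgSt.ofSp N, Nonempty (BasedFunctor.comp F ψ ≅ φ) ∧
      ∀ ψ' : 𝒴 ⥤ᵇ AlgSt.ofSp N, Nonempty (BasedFunctor.comp F ψ' ≅ φ) → Nonempty (ψ' ≅ ψ)

variable {F}

theorem Univ.cancel (hu : Univ F) {N : AlgSp.Sp S} (hN : AlgSp.IsAlgSpace N)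
    (ψ₁ ψ₂ : 𝒴 ⥤ᵇ AlgSt.ofSp N) (e : BasedFunctor.comp F ψ₁ ≅ BasedFunctor.comp F ψ₂) :
    Nonempty (ψ₁ ≅ ψ₂) := by
  obtain ⟨ψ, -, hψ⟩ := hu N hN (BasedFunctor.comp F ψ₂)
  obtain ⟨e1⟩ := hψ ψ₁ ⟨e⟩
  obtain ⟨e2⟩ := hψ ψ₂ ⟨Iso.refl _⟩
  exact ⟨e1 ≪≫ e2.symm⟩

theorem isCatModuliIn_congr {π π' : 𝒳 ⥤ᵇ AlgSt.ofSp M} (e : π ≅ π')
    (h : AlgSt.IsCatModuliIn (AlgSp.IsAlgSpace (S := S)) π) :
    AlgSt.IsCatModuliIn (AlgSp.IsAlgSpace (S := S)) π' := by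
  refine ⟨h.1, fun N hN φ => ?_⟩
  obtain ⟨g, ⟨eg⟩, guniq⟩ := h.2 N hN φ
  refine ⟨g, ⟨whiskerRightIso e.symm (AlgSt.ofSpMap g) ≪≫ eg⟩, fun g' hg' => ?_⟩
  obtain ⟨eg'⟩ := hg'
  exact guniq g' ⟨whiskerRightIso e (AlgSt.ofSpMap g') ≪≫ eg'⟩

theorem isCatModuliIn_comp (hu : Univ F) (π : 𝒴 ⥤ᵇ AlgSt.ofSp M)
    (h : AlgSt.IsCatModuliIn (AlgSp.IsAlgSpace (S := S)) π) :
    AlgSt.IsCatModuliIn (AlgSp.IsAlgSpace (S := S)) (BasedFunctor.comp F π) := by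
  refine ⟨h.1, fun N hN φ => ?_⟩
  obtain ⟨ψ, ⟨e⟩, -⟩ := hu N hN φ
  obtain ⟨g, ⟨eg⟩, guniq⟩ := h.2 N hN ψ
  refine ⟨g, ⟨?_⟩, fun g' hg' => ?_⟩
  · exact (whiskerLeftIso F eg : BasedFunctor.comp F (BasedFunctor.comp π (AlgSt.ofSpMap g)) ≅
      BasedFunctor.comp F ψ) ≪≫ e
  · obtain ⟨eg'⟩ := hg'
    have e1 : BasedFunctor.comp F (BasedFunctor.comp π (AlgSt.ofSpMap g')) ≅
        BasedFunctor.comp F ψ := eg' ≪≫ e.symm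
    exact guniq g' (hu.cancel hN _ _ e1)

theorem isCatModuliIn_of_comp (hu : Univ F) (ψ : 𝒴 ⥤ᵇ AlgSt.ofSp M)
    (h : AlgSt.IsCatModuliIn (AlgSp.IsAlgSpace (S := S)) (BasedFunctor.comp F ψ)) :
    AlgSt.IsCatModuliIn (AlgSp.IsAlgSpace (S := S)) ψ := by
  refine ⟨h.1, fun N hN φ => ?_⟩
  obtain ⟨g, ⟨eg⟩, guniq⟩ := h.2 N hN (BasedFunctor.comp F φ)
  refine ⟨g, ?_, fun g' hg' => ?_⟩
  · have e1 : BasedFunctor.comp F (BasedFunctor.comp ψ (AlgSt.ofSpMap g)) ≅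
        BasedFunctor.comp F φ := eg
    exact hu.cancel hN _ _ e1
  · obtain ⟨eg'⟩ := hg'
    exact guniq g' ⟨(whiskerLeftIso F eg' :
      BasedFunctor.comp F (BasedFunctor.comp ψ (AlgSt.ofSpMap g')) ≅ BasedFunctor.comp F φ)⟩

theorem isCoarseModuli_comp [FibCat.IsFibGrpd 𝒳.p] [FibCat.IsFibGrpd 𝒴.p]
    (hF : Gerb.IsGerbeOver (QuotSh.J Scheme.fppfPrecoverage S) F) (hu : Univ F)
    (π : 𝒴 ⥤ᵇ AlgSt.ofSp M) (h : AlgSt.IsCoarseModuli π) :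
    AlgSt.IsCoarseModuli (BasedFunctor.comp F π) :=
  ⟨isCatModuliIn_comp hu π h.1, geomPtBij_comp F hF π h.2⟩

theorem isCoarseModuli_of_comp [FibCat.IsFibGrpd 𝒴.p]
    (hF : Gerb.LocSurjObj (QuotSh.J Scheme.fppfPrecoverage S) F) (hu : Univ F)
    (ψ : 𝒴 ⥤ᵇ AlgSt.ofSp M) (h : AlgSt.IsCoarseModuli (BasedFunctor.comp F ψ)) :
    AlgSt.IsCoarseModuli ψ :=
  ⟨isCatModuliIn_of_comp hu ψ h.1, geomPtBij_of_comp F hF ψ h.2⟩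

theorem isCoarseModuli_congr {π π' : 𝒳 ⥤ᵇ AlgSt.ofSp M} (e : π ≅ π')
    (h : AlgSt.IsCoarseModuli π) : AlgSt.IsCoarseModuli π' :=
  ⟨isCatModuliIn_congr e h.1, geomPtBij_congr e h.2⟩

end Main

end Groth.Agent.Lib.T2H6.CoarseGerb
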