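import Mathlib
import Groth.Prelude.Def_FSch3
import Groth.Agent.Lib.Helper19ComplFlatMap

/-!
# Residue fields of `A_{S}` and `A{S⁻¹}` (helper6)
-/

set_option autoImplicit false
universe u

namespace Groth.Agent.Lib.T2H6.StalkRes

open AdicCompletion

section General

variable {B : Type u} [CommRing B] (K : Ideal B)

theorem exists_sub_mem_maximalIdeal [IsLocalRing (AdicCompletion K B)] (hK : K ≠ ⊤)
    (c : AdicCompletion K B) :
    ∃ b : B, c - of K B b ∈ IsLocalRing.maximalIdeal (AdicCompletion K B) := by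
  obtain ⟨b, hb⟩ := Ideal.Quotient.mk_surjective (evalₐ K 1 c)
  refine ⟨b, ?_⟩
  have hker : RingHom.ker (evalₐ K 1).toRingHom ≠ ⊤ := by
    intro htop
    have h1 : (1 : AdicCompletion K B) ∈ RingHom.ker (evalₐ K 1).toRingHom := by
      rw [htop]; exact Submodule.mem_top
    rw [RingHom.mem_ker, map_one] at h1
    have h2 : (Ideal.Quotient.mk (K ^ 1)) (1 : B) = 0 := by rw [map_one]; exact h1
    rw [Ideal.Quotient.eq_zero_iff_mem, pow_one] at h2
    exact hK ((Ideal.eq_top_iff_one K).mpr h2)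
  apply IsLocalRing.le_maximalIdeal hker
  rw [RingHom.mem_ker]
  change evalₐ K 1 (c - of K B b) = 0
  rw [map_sub, evalₐ_of, hb, sub_self]

theorem complMap_of {S T : Type u} [CommRing S] [CommRing T] (I : Ideal S) (L : Ideal T)
    (g : S →+* T) (h : I.map g ≤ L) (s : S) :
    FSch.complMap I L g h (of I S s) = of L T (g s) := by
  apply AdicCompletion.ext_evalₐ
  intro n
  rw [Groth.Agent.Lib.Helper19.evalₐ_complMap, evalₐ_of, evalₐ_of,
    Ideal.quotientMap_mk]

end General

section Main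

variable (A : Type u) [CommRing A] (J : Ideal A) (𝔭 : Ideal A) [𝔭.IsPrime]

theorem map_ne_top (hJ : J ≤ 𝔭) :
    J.map (algebraMap A (Localization.AtPrime 𝔭)) ≠ ⊤ := by
  intro htop
  have h1 : J.map (algebraMap A (Localization.AtPrime 𝔭)) ≤
      IsLocalRing.maximalIdeal (Localization.AtPrime 𝔭) := by
    rw [Ideal.map_le_iff_le_comap]
    have h2 : Ideal.comap (algebraMap A (Localization.AtPrime 𝔭))
        (IsLocalRing.maximalIdeal (Localization.AtPrime 𝔭)) = 𝔭 :=
      IsLocalization.AtPrime.under_maximalIdeal (Localization.AtPrime 𝔭) 𝔭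
    rw [h2]
    exact hJ
  rw [htop] at h1
  exact (IsLocalRing.maximalIdeal.isMaximal _).ne_top (top_le_iff.mp h1)

theorem of_mem_stalkSubring (b : Localization.AtPrime 𝔭) :
    of (J.map (algebraMap A (Localization.AtPrime 𝔭))) (Localization.AtPrime 𝔭) b ∈
      FSch.stalkSubring A J 𝔭 := by
  obtain ⟨a, s, rfl⟩ := IsLocalization.exists_mk'_eq 𝔭.primeCompl b
  have hs : (s : A) ∉ 𝔭 := s.2
  let b' : Localization.Away (s : A) :=
    IsLocalization.mk' (Localization.Away (s : A)) a
      (⟨(s : A), Submonoid.mem_powers _⟩ : Submonoid.powers (s : A))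
  have hb' : FSch.awayToAtPrime A 𝔭 (s : A) hs b' =
      IsLocalization.mk' (Localization.AtPrime 𝔭) a s := by
    rw [IsLocalization.eq_mk'_iff_mul_eq]
    have h1 : algebraMap A (Localization.AtPrime 𝔭) (s : A) =
        FSch.awayToAtPrime A 𝔭 (s : A) hs (algebraMap A (Localization.Away (s : A)) (s : A)) := by
      unfold FSch.awayToAtPrime
      rw [IsLocalization.Away.lift_eq]
    have h2 : algebraMap A (Localization.AtPrime 𝔭) a =
        FSch.awayToAtPrime A 𝔭 (s : A) hs (algebraMap A (Localization.Away (s : A)) a) := by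
      unfold FSch.awayToAtPrime
      rw [IsLocalization.Away.lift_eq]
    rw [h1, h2, ← map_mul]
    congr 1
    exact IsLocalization.mk'_spec _ a _
  have hmem : of (J.map (algebraMap A (Localization.AtPrime 𝔭))) (Localization.AtPrime 𝔭)
      (IsLocalization.mk' (Localization.AtPrime 𝔭) a s) ∈
      (FSch.cAwayToAtPrime A J 𝔭 (s : A) hs).range := by
    refine ⟨of _ _ b', ?_⟩
    unfold FSch.cAwayToAtPrime
    rw [complMap_of, hb']
  exact (le_iSup (fun f : {f : A // f ∉ 𝔭} => (FSch.cAwayToAtPrime A J 𝔭 f.1 f.2).range)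
    ⟨(s : A), hs⟩) hmem

theorem main (hJ : J ≤ 𝔭) [IsLocalRing (FSch.stalkSubring A J 𝔭)] [IsLocalRing (FSch.cAtPrime A J 𝔭)]
    [IsLocalHom (FSch.stalkSubring A J 𝔭).subtype]
    [IsLocalHom (algebraMap (Localization.AtPrime 𝔭) (FSch.cAtPrime A J 𝔭))] :
    Function.Bijective (IsLocalRing.ResidueField.map (FSch.stalkSubring A J 𝔭).subtype) ∧
      Function.Bijective
        (IsLocalRing.ResidueField.map (algebraMap (Localization.AtPrime 𝔭) (FSch.cAtPrime A J 𝔭))) := by
  have key : ∀ c : FSch.cAtPrime A J 𝔭, ∃ b : Localization.AtPrime 𝔭,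
      IsLocalRing.residue (FSch.cAtPrime A J 𝔭) c =
        IsLocalRing.residue (FSch.cAtPrime A J 𝔭)
          (of (J.map (algebraMap A (Localization.AtPrime 𝔭))) (Localization.AtPrime 𝔭) b) := by
    intro c
    obtain ⟨b, hb⟩ := exists_sub_mem_maximalIdeal
      (J.map (algebraMap A (Localization.AtPrime 𝔭))) (map_ne_top A J 𝔭 hJ) c
    refine ⟨b, ?_⟩
    rw [← sub_eq_zero, ← map_sub]
    exact (IsLocalRing.residue_eq_zero_iff _).mpr hb
  refine ⟨⟨RingHom.injective _, ?_⟩, ⟨RingHom.injective _, ?_⟩⟩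
  · intro y
    obtain ⟨c, rfl⟩ := IsLocalRing.residue_surjective y
    obtain ⟨b, hb⟩ := key c
    refine ⟨IsLocalRing.residue _ ⟨_, of_mem_stalkSubring A J 𝔭 b⟩, ?_⟩
    rw [IsLocalRing.ResidueField.map_residue, hb]
    rfl
  · intro y
    obtain ⟨c, rfl⟩ := IsLocalRing.residue_surjective y
    obtain ⟨b, hb⟩ := key c
    refine ⟨IsLocalRing.residue _ b, ?_⟩
    rw [IsLocalRing.ResidueField.map_residue, hb]
    rfl

end Main

end Groth.Agent.Lib.T2H6.StalkRes
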