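import Mathlib
import Groth.Prelude.Def_FSch3
import Groth.Agent.Lib.Helper19ComplFlatMap
import Groth.Agent.Lib.Helper19Restricted
import Groth.Agent.Lib.Helper7ComplKaehler
import Groth.Agent.Lib.T2H6StalkRes

/-!
# Completions along cofinal ideals, and finiteness of completed local maps (helper6)
-/

set_option autoImplicit false
universe u

namespace Groth.Agent.Lib.T2H6.ComplCofinal

open Groth.Agent.Lib.Helper19

section Cofinal

variable {S : Type u} [CommRing S]

theorem pow_mul_le_of_pow_le (I K : Ideal S) (k : ℕ) (hk : K ^ k ≤ I) (j : ℕ) :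
    K ^ ((k + 1) * j) ≤ I ^ j := by
  rw [pow_mul]
  exact Ideal.pow_right_mono ((Ideal.pow_le_pow_right (Nat.le_succ k)).trans hk) j

theorem le_succ_mul (k j : ℕ) : j ≤ (k + 1) * j := by
  nlinarith

/-- If `I ≤ K` and `K ^ k ≤ I` then the canonical map between the completions is bijective. -/
theorem complMap_id_bijective (I K : Ideal S) (h : I.map (RingHom.id S) ≤ K) (k : ℕ)
    (hk : K ^ k ≤ I) : Function.Bijective (FSch.complMap I K (RingHom.id S) h) := by
  constructor
  · rw [injective_iff_map_eq_zero]
    intro x hx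
    apply AdicCompletion.ext_evalₐ
    intro j
    rw [_root_.map_zero]
    have h1 := evalₐ_complMap I K (RingHom.id S) h ((k + 1) * j) x
    rw [hx, _root_.map_zero] at h1
    obtain ⟨y, hy⟩ := Ideal.Quotient.mk_surjective (AdicCompletion.evalₐ I ((k + 1) * j) x)
    rw [← hy, Ideal.quotientMap_mk, RingHom.id_apply] at h1
    have hyK : y ∈ K ^ ((k + 1) * j) := Ideal.Quotient.eq_zero_iff_mem.mp h1.symm
    have hyI : y ∈ I ^ j := pow_mul_le_of_pow_le I K k hk j hyK
    rw [← factorPow_evalₐ I (le_succ_mul k j) x, ← hy]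
    simp only [Ideal.Quotient.factorPow, Ideal.Quotient.factor_mk]
    exact Ideal.Quotient.eq_zero_iff_mem.mpr hyI
  · -- the inverse map
    let f : ∀ j : ℕ, AdicCompletion K S →+* S ⧸ I ^ j := fun j =>
      (Ideal.Quotient.factor (pow_mul_le_of_pow_le I K k hk j)).comp
        (AdicCompletion.evalₐ K ((k + 1) * j) : AdicCompletion K S →+* S ⧸ K ^ ((k + 1) * j))
    have hf : ∀ {m n : ℕ} (hle : m ≤ n), (Ideal.Quotient.factorPow I hle).comp (f n) = f m := by
      intro m n hle
      ext z
      simp only [f, RingHom.comp_apply, RingHom.coe_coe]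
      have hle' : (k + 1) * m ≤ (k + 1) * n := Nat.mul_le_mul_left _ hle
      rw [← factorPow_evalₐ K hle' z]
      obtain ⟨y, hy⟩ := Ideal.Quotient.mk_surjective (AdicCompletion.evalₐ K ((k + 1) * n) z)
      rw [← hy]
      simp [Ideal.Quotient.factorPow]
    intro z
    refine ⟨AdicCompletion.liftRingHom I f hf z, ?_⟩
    apply AdicCompletion.ext_evalₐ
    intro j
    rw [evalₐ_complMap, AdicCompletion.evalₐ_liftRingHom]
    simp only [f, RingHom.comp_apply, RingHom.coe_coe]
    rw [← factorPow_evalₐ K (le_succ_mul k j) z]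
    obtain ⟨y, hy⟩ := Ideal.Quotient.mk_surjective (AdicCompletion.evalₐ K ((k + 1) * j) z)
    rw [← hy]
    simp [Ideal.Quotient.factorPow]

end Cofinal

section Local

open IsLocalRing TensorProduct

variable (R S : Type u) [CommRing R] [CommRing S] [IsLocalRing R] [IsLocalRing S] [Algebra R S]

/-- If the fibre over the closed point is finite over the residue field then `S ⧸ 𝔪S` is a finite
`R`-module. -/
theorem finite_quotient_of_fibre
    (hfib : Module.Finite (maximalIdeal R).ResidueField ((maximalIdeal R).Fiber S)) :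
    Module.Finite R (S ⧸ (maximalIdeal R).map (algebraMap R S)) := by
  set m := maximalIdeal R with hm
  haveI : Module.Finite R (m.Fiber S) := Module.Finite.trans m.ResidueField _
  let e₁ : (R ⧸ m) ≃ₗ[R] m.ResidueField :=
    LinearEquiv.ofBijective (IsScalarTower.toAlgHom R (R ⧸ m) m.ResidueField).toLinearMap
      (Ideal.bijective_algebraMap_quotient_residueField m)
  let e₂ : m.Fiber S ≃ₗ[R] (R ⧸ m) ⊗[R] S := TensorProduct.congr e₁.symm (LinearEquiv.refl R S)
  let e₃ : (R ⧸ m) ⊗[R] S ≃ₗ[R] S ⧸ (m • ⊤ : Submodule R S) :=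
    TensorProduct.quotTensorEquivQuotSMul S m
  let q : (S ⧸ (m • ⊤ : Submodule R S)) →ₗ[R] S ⧸ m.map (algebraMap R S) :=
    Submodule.liftQ _ ((Ideal.Quotient.mkₐ R (m.map (algebraMap R S))).toLinearMap) (by
      intro x hx
      rw [Ideal.smul_top_eq_map] at hx
      rw [LinearMap.mem_ker]
      exact Ideal.Quotient.eq_zero_iff_mem.mpr hx)
  refine Module.Finite.of_surjective (q ∘ₗ e₃.toLinearMap ∘ₗ e₂.toLinearMap) ?_
  intro y
  obtain ⟨s, rfl⟩ := Ideal.Quotient.mk_surjective y
  refine ⟨e₂.symm (e₃.symm (Submodule.Quotient.mk s)), ?_⟩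
  simp [q]

/-- Under the finite fibre hypothesis some power of the maximal ideal of `S` lies in `𝔪S`. -/
theorem exists_pow_le
    (hfin : Module.Finite R (S ⧸ (maximalIdeal R).map (algebraMap R S))) :
    ∃ k, (maximalIdeal S) ^ k ≤ (maximalIdeal R).map (algebraMap R S) := by
  haveI : Module.Finite (R ⧸ maximalIdeal R) (S ⧸ (maximalIdeal R).map (algebraMap R S)) :=
    Module.Finite.of_restrictScalars_finite R _ _
  haveI : IsArtinianRing (R ⧸ maximalIdeal R) := inferInstanceAs (IsArtinianRing (ResidueField R))
  haveI : IsArtinianRing (S ⧸ (maximalIdeal R).map (algebraMap R S)) :=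
    IsArtinianRing.of_finite (R ⧸ maximalIdeal R) _
  exact exists_maximalIdeal_pow_le_of_isArtinianRing_quotient _

/-- The completed map of a local homomorphism with finite closed fibre is finite. -/
theorem complMap_finite
    (hm : (maximalIdeal R).FG) (hn : (maximalIdeal S).FG)
    (hfin : Module.Finite R (S ⧸ (maximalIdeal R).map (algebraMap R S)))
    (h : (maximalIdeal R).map (algebraMap R S) ≤ maximalIdeal S) :
    (FSch.complMap (maximalIdeal R) (maximalIdeal S) (algebraMap R S) h).Finite := by
  set m := maximalIdeal R with hmdef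
  set n := maximalIdeal S with hndef
  set φ := FSch.complMap m n (algebraMap R S) h with hφ
  letI : Algebra (AdicCompletion m R) (AdicCompletion n S) := φ.toAlgebra
  change Module.Finite (AdicCompletion m R) (AdicCompletion n S)
  set I' : Ideal (AdicCompletion m R) := m.map (algebraMap R (AdicCompletion m R)) with hI'
  haveI : IsAdicComplete I' (AdicCompletion m R) := AdicCompletion.isAdicComplete_self m hm
  have hφof : ∀ r : R, φ (algebraMap R (AdicCompletion m R) r) =
      algebraMap S (AdicCompletion n S) (algebraMap R S r) := by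
    intro r
    rw [AdicCompletion.algebraMap_apply, AdicCompletion.algebraMap_apply, Algebra.algebraMap_self,
      RingHom.id_apply, Algebra.algebraMap_self, RingHom.id_apply]
    exact Groth.Agent.Lib.T2H6.StalkRes.complMap_of m n (algebraMap R S) h r
  -- Hausdorff
  haveI : IsHausdorff I' (AdicCompletion n S) := by
    refine ⟨fun x hx => ?_⟩
    apply AdicCompletion.ext_evalₐ
    intro j
    rw [_root_.map_zero]
    have hxj := hx j
    rw [SModEq.zero] at hxj
    refine Submodule.smul_induction_on hxj ?_ ?_
    · intro a ha y _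
      rw [Algebra.smul_def, map_mul]
      have : AdicCompletion.evalₐ n j (algebraMap (AdicCompletion m R) (AdicCompletion n S) a)
          = 0 := by
        change AdicCompletion.evalₐ n j (φ a) = 0
        rw [hφ, evalₐ_complMap, evalₐ_eq_zero_of_mem_map_pow m j a ha, _root_.map_zero]
      rw [this, zero_mul]
    · intro x y hx hy
      rw [map_add, hx, hy, add_zero]
  obtain ⟨k, hk⟩ := exists_pow_le R S hfin
  obtain ⟨r, t, ht⟩ := Module.Finite.exists_fin (R := R)
    (M := S ⧸ m.map (algebraMap R S))
  choose s hs using fun i => Ideal.Quotient.mk_surjective (t i)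
  refine Groth.Agent.Lib.Helper7.ComplKaehler.finite_of_isHausdorff_of_finite_quotient I'
    (fun i => algebraMap S (AdicCompletion n S) (s i)) (fun y => ?_)
  obtain ⟨s₀, hs₀⟩ := exists_sub_of_mem_map_pow n hn k y
  have hmem : Ideal.Quotient.mk (m.map (algebraMap R S)) s₀ ∈ Submodule.span R (Set.range t) := by
    rw [ht]; trivial
  obtain ⟨c, hc⟩ := (Submodule.mem_span_range_iff_exists_fun R).mp hmem
  refine ⟨fun i => algebraMap R (AdicCompletion m R) (c i), ?_⟩
  rw [Ideal.smul_top_eq_map]
  change _ ∈ I'.map (algebraMap (AdicCompletion m R) (AdicCompletion n S))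
  have hmap : I'.map (algebraMap (AdicCompletion m R) (AdicCompletion n S)) =
      (m.map (algebraMap R S)).map (algebraMap S (AdicCompletion n S)) := by
    rw [hI', Ideal.map_map, Ideal.map_map]
    congr 1
  rw [hmap]
  have h1 : y - algebraMap S (AdicCompletion n S) s₀ ∈
      (m.map (algebraMap R S)).map (algebraMap S (AdicCompletion n S)) := by
    rw [← Ideal.map_pow] at hs₀
    exact Ideal.map_mono hk hs₀
  have h2 : s₀ - ∑ i, algebraMap R S (c i) * s i ∈ m.map (algebraMap R S) := by
    rw [← Ideal.Quotient.eq_zero_iff_mem, map_sub, map_sum, ← hc, sub_eq_zero]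
    refine Finset.sum_congr rfl fun i _ => ?_
    rw [map_mul, hs, Algebra.smul_def]
    rfl
  have h3 := Ideal.mem_map_of_mem (algebraMap S (AdicCompletion n S)) h2
  have : y - ∑ i, algebraMap R (AdicCompletion m R) (c i) • algebraMap S (AdicCompletion n S) (s i)
      = (y - algebraMap S (AdicCompletion n S) s₀) +
        algebraMap S (AdicCompletion n S) (s₀ - ∑ i, algebraMap R S (c i) * s i) := by
    rw [map_sub, map_sum]
    have : ∀ i, algebraMap R (AdicCompletion m R) (c i) • algebraMap S (AdicCompletion n S) (s i)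
        = algebraMap S (AdicCompletion n S) (algebraMap R S (c i) * s i) := by
      intro i
      rw [Algebra.smul_def, map_mul]
      congr 1
    simp only [this]
    abel
  rw [this]
  exact Ideal.add_mem _ h1 h3

end Local

end Groth.Agent.Lib.T2H6.ComplCofinal
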