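import Mathlib
import Groth.Agent.Lib.T2H6ConnH1
set_option backward.isDefEq.respectTransparency.types false

/-!
# Connected reduced proper `D ⊆ X` over an algebraically closed field: `H^1(O_X) = 0 ⇒ H^1(I_D) = 0` (T2H6)
-/

set_option autoImplicit false
set_option linter.style.haveILetI false
set_option linter.unusedSectionVars false
universe u

open CategoryTheory TopCat TopologicalSpace Opposite AlgebraicGeometry Limits Polynomial

namespace Groth.Agent.Lib.T2H6.ConnH1

/-- an integral reduced nontrivial algebra without nontrivial idempotents over an algebraically closed field is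
the field itself. -/
theorem surjective_algebraMap_of_reduced_of_idem (k R : Type*) [Field k] [IsAlgClosed k] [CommRing R]
    [Algebra k R] [Algebra.IsIntegral k R] [_root_.IsReduced R] [Nontrivial R]
    (hid : ∀ e : R, IsIdempotentElem e → e = 0 ∨ e = 1) : Function.Surjective (algebraMap k R) := by
  intro r
  have hr : IsIntegral k r := Algebra.IsIntegral.isIntegral r
  have hp0 : minpoly k r ≠ 0 := minpoly.ne_zero hr
  have hdeg : (minpoly k r).degree ≠ 0 := (minpoly.degree_pos hr).ne'
  obtain ⟨c, hc⟩ := IsAlgClosed.exists_root (minpoly k r) hdeg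
  obtain ⟨q, hpq, hq⟩ := Polynomial.exists_eq_pow_rootMultiplicity_mul_and_not_dvd (minpoly k r) hp0 c
  set m := (minpoly k r).rootMultiplicity c with hm_def
  have hm : 0 < m := (Polynomial.rootMultiplicity_pos hp0).mpr hc
  have hcop : IsCoprime ((X - C c) ^ m) q :=
    ((Polynomial.irreducible_X_sub_C c).coprime_iff_not_dvd.mpr hq).pow_left
  obtain ⟨a, b, hab⟩ := hcop
  have hpr : aeval r (minpoly k r) = 0 := minpoly.aeval k r
  have hsum : aeval r (a * (X - C c) ^ m) + aeval r (b * q) = 1 := by
    rw [← map_add, hab, map_one]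
  have hprod : aeval r (b * q) * aeval r (a * (X - C c) ^ m) = 0 := by
    rw [← map_mul]
    have : b * q * (a * (X - C c) ^ m) = a * b * minpoly k r := by rw [hpq]; ring
    rw [this, map_mul, hpr, mul_zero]
  have he : IsIdempotentElem (aeval r (b * q)) := by
    change aeval r (b * q) * aeval r (b * q) = aeval r (b * q)
    linear_combination (aeval r (b * q)) * hsum - hprod
  rcases hid _ he with h0 | h1
  · exfalso
    have hq0 : aeval r q = 0 := by
      have h2 : aeval r q = aeval r q * (aeval r (a * (X - C c) ^ m) + aeval r (b * q)) := by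
        rw [hsum, mul_one]
      rw [h2, h0, add_zero, ← map_mul]
      have : q * (a * (X - C c) ^ m) = a * minpoly k r := by rw [hpq]; ring
      rw [this, map_mul, hpr, mul_zero]
    have hmon : ((X - C c) ^ m * q).Monic := hpq ▸ minpoly.monic hr
    have hqmonic : q.Monic := ((monic_X_sub_C c).pow m).of_mul_monic_left hmon
    have h3 := minpoly.min k r hqmonic hq0
    have h4 : (minpoly k r).natDegree = m + q.natDegree := by
      conv_lhs => rw [hpq]
      rw [Polynomial.natDegree_mul (pow_ne_zero _ (X_sub_C_ne_zero c)) hqmonic.ne_zero,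
        natDegree_pow, natDegree_X_sub_C, mul_one]
    have h5 := Polynomial.natDegree_le_natDegree h3
    omega
  · have h2 : (r - algebraMap k R c) ^ m = 0 := by
      have h3 : (r - algebraMap k R c) ^ m = aeval r ((X - C c) ^ m) := by simp
      rw [h3]
      have h4 : aeval r ((X - C c) ^ m) = aeval r ((X - C c) ^ m) * aeval r (b * q) := by
        rw [h1, mul_one]
      rw [h4, ← map_mul]
      have : (X - C c) ^ m * (b * q) = b * minpoly k r := by rw [hpq]; ring
      rw [this, map_mul, hpr, mul_zero]
    have h5 : r - algebraMap k R c = 0 := IsReduced.eq_zero _ ⟨m, h2⟩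
    exact ⟨c, (sub_eq_zero.mp h5).symm⟩

section Coh

variable (k : Type u) [Field k] {X : Scheme.{u}} [X.Over (Spec (CommRingCat.of k))]

open Groth.Agent.Lib.T2H5.HHLes Groth.Agent.Lib.T2H5.T2Les Groth.Agent.Lib.T2H6.AmpleCrit
  Groth.Agent.Lib.Helper23.GenLocus

include k in
/-- if `Γ(X, O_X) → Γ(X, O_X/I)` is surjective and `H^1(X, O_X) = 0` then `H^1(X, I) = 0`. -/
theorem subsingleton_HH_one_of_surjective (I : X.IdealSheafData)
    (hs : Function.Surjective ((ClSub.toSubscheme I).app ⊤))
    (hO : Subsingleton (Coh.HH X (Coh.structureModule X) 1)) :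
    Subsingleton (Coh.HH X (ClSub.idealMod I) 1) := by
  have hS := idealSC_shortExact I
  have hcomm : ∀ y, Groth.Agent.Lib.Helper27PnSections.hh0Equiv X _
      (Canon.HHlin k (ClSub.toSubscheme I) 0 y) =
      (ClSub.toSubscheme I).app ⊤ (Groth.Agent.Lib.Helper27PnSections.hh0Equiv X _ y) :=
    fun y => Groth.Agent.Lib.T2H6.NegVan.hh0Equiv_HHlin k (ClSub.toSubscheme I) y
  have hsurj : Function.Surjective (Canon.HHlin k (idealSC I).g 0) := by
    intro c
    obtain ⟨a, ha⟩ := hs (Groth.Agent.Lib.Helper27PnSections.hh0Equiv X _ c)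
    obtain ⟨a', rfl⟩ := (Groth.Agent.Lib.Helper27PnSections.hh0Equiv X _).surjective a
    refine ⟨a', ?_⟩
    apply (Groth.Agent.Lib.Helper27PnSections.hh0Equiv X _).injective
    exact (hcomm a').trans ha
  have hzero : ∀ x : Coh.HH X (idealSC I).X₁ (0 + 1), x = 0 := by
    intro x
    have h1 : x ∈ LinearMap.ker (Canon.HHlin k (idealSC I).f (0 + 1)) := by
      rw [LinearMap.mem_ker]
      exact Subsingleton.elim (α := Coh.HH X (Coh.structureModule X) 1) _ _
    rw [exact₁ (A := k) (idealSC I) hS 0] at h1
    obtain ⟨y, rfl⟩ := h1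
    obtain ⟨z, rfl⟩ := hsurj y
    have h2 : Canon.HHlin k (idealSC I).g 0 z ∈ LinearMap.ker (δLin (A := k) (idealSC I) hS 0) := by
      rw [exact₃ (A := k) (idealSC I) hS 0]
      exact ⟨z, rfl⟩
    exact h2
  exact ⟨fun a b => (hzero a).trans (hzero b).symm⟩

/-- for a connected reduced closed subscheme `D` of a proper scheme over an algebraically closed field,
`H^1(X, O_X) = 0` implies `H^1(X, I_D) = 0`. -/
theorem subsingleton_HH_one_of_connected_reduced [IsAlgClosed k]
    [IsProper (X ↘ Spec (CommRingCat.of k))] (I : X.IdealSheafData)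
    [ConnectedSpace ↥I.subscheme] [IsReduced I.subscheme]
    (hO : Subsingleton (Coh.HH X (Coh.structureModule X) 1)) :
    Subsingleton (Coh.HH X (ClSub.idealMod I) 1) := by
  apply subsingleton_HH_one_of_surjective k I _ hO
  let p := X ↘ Spec (CommRingCat.of k)
  let ι := I.subschemeι
  haveI : CompactSpace X := QuasiCompact.compactSpace_of_compactSpace p
  haveI : CompactSpace ↥I.subscheme := QuasiCompact.compactSpace_of_compactSpace ι
  -- the structure map `k → Γ(D, ⊤)` is surjective
  let F := (Scheme.ΓSpecIso (CommRingCat.of k)).inv ≫ (ι ≫ p).appTop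
  have hint : F.hom.IsIntegral := by
    apply RingHom.isIntegral_respectsIso.2
      (e := (Scheme.ΓSpecIso (CommRingCat.of k)).symm.commRingCatIsoToRingEquiv)
    exact isIntegral_appTop_of_universallyClosed (ι ≫ p)
  have hFs : Function.Surjective F.hom := by
    algebraize [F.hom]
    haveI : Nonempty ↥(⊤ : I.subscheme.Opens) := ⟨⟨Classical.arbitrary _, trivial⟩⟩
    haveI : Nontrivial Γ(I.subscheme, ⊤) := inferInstance
    haveI : _root_.IsReduced Γ(I.subscheme, ⊤) := inferInstance
    exact surjective_algebraMap_of_reduced_of_idem k Γ(I.subscheme, ⊤)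
      (Groth.Agent.Lib.T2H9.GammaLoc.eq_zero_or_eq_one_of_isIdempotentElem I.subscheme)
  -- hence `Γ(X, ⊤) → Γ(D, ⊤)` is surjective
  have hιs : Function.Surjective ι.appTop.hom := by
    intro c
    obtain ⟨r, hr⟩ := hFs c
    refine ⟨p.appTop.hom ((Scheme.ΓSpecIso (CommRingCat.of k)).inv.hom r), ?_⟩
    rw [← hr]
    change _ = ((ι ≫ p).appTop).hom ((Scheme.ΓSpecIso (CommRingCat.of k)).inv.hom r)
    rw [Scheme.Hom.comp_appTop]
    rfl
  intro c
  obtain ⟨a, ha⟩ := hιs (ofS (I.subschemeι ⁻¹ᵁ ⊤) c)
  refine ⟨toS ⊤ a, ?_⟩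
  rw [toSubscheme_app]
  exact congrArg (toS _) ha

end Coh

end Groth.Agent.Lib.T2H6.ConnH1
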