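import Mathlib

set_option autoImplicit false
universe u
open CategoryTheory CategoryTheory.Limits AlgebraicGeometry TopologicalSpace Opposite

namespace Groth.Agent.Lib.T2H6.CoprodImm

/-- the coproduct of two closed immersions with disjoint images is a closed immersion. -/
theorem isClosedImmersion_coprod_desc {X₁ X₂ Y : Scheme.{u}} (g₁ : X₁ ⟶ Y) (g₂ : X₂ ⟶ Y)
    [IsClosedImmersion g₁] [IsClosedImmersion g₂]
    (hdisj : ∀ (x₁ : X₁) (x₂ : X₂), g₁ x₁ ≠ g₂ x₂) : IsClosedImmersion (coprod.desc g₁ g₂) := by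
  have hso : SurjectiveOnStalks (coprod.desc g₁ g₂) := by
    rw [IsZariskiLocalAtSource.iff_of_openCover (P := @SurjectiveOnStalks) (coprodOpenCover.{u, u} X₁ X₂)]
    rintro (i | i)
    · change SurjectiveOnStalks (coprod.inl ≫ coprod.desc g₁ g₂)
      rw [coprod.inl_desc]; infer_instance
    · change SurjectiveOnStalks (coprod.inr ≫ coprod.desc g₁ g₂)
      rw [coprod.inr_desc]; infer_instance
  refine @IsClosedImmersion.mk _ _ _ hso ?_
  have h1 : ⇑(coprod.desc g₁ g₂) ∘ ⇑(coprodMk X₁ X₂) = Sum.elim g₁ g₂ := by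
    funext z
    rcases z with x | x
    · change (coprod.desc g₁ g₂) (coprodMk X₁ X₂ (.inl x)) = g₁ x
      rw [coprodMk_inl, ← Scheme.Hom.comp_apply, coprod.inl_desc]
    · change (coprod.desc g₁ g₂) (coprodMk X₁ X₂ (.inr x)) = g₂ x
      rw [coprodMk_inr, ← Scheme.Hom.comp_apply, coprod.inr_desc]
  have h2 : Topology.IsClosedEmbedding (Sum.elim g₁ g₂) := by
    refine Topology.IsClosedEmbedding.sumElim g₁.isClosedEmbedding g₂.isClosedEmbedding ?_
    rintro (a | a) (b | b) hab
    · exact congrArg _ (g₁.isClosedEmbedding.injective hab)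
    · exact absurd hab (hdisj a b)
    · exact absurd hab.symm (hdisj b a)
    · exact congrArg _ (g₂.isClosedEmbedding.injective hab)
  have h3 : ⇑(coprod.desc g₁ g₂) = Sum.elim g₁ g₂ ∘ (coprodMk X₁ X₂).symm := by
    rw [← h1]
    funext z
    simp
  rw [h3]
  exact h2.comp (coprodMk X₁ X₂).symm.isClosedEmbedding

end Groth.Agent.Lib.T2H6.CoprodImm
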