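import Mathlib
import Groth.Agent.Lib.T2H9ShHom2
import Groth.Agent.Lib.T2H6LocGlobA
set_option backward.isDefEq.respectTransparency.types false

set_option autoImplicit false
universe u
open CategoryTheory CategoryTheory.Limits Opposite MonoidalCategory

namespace Groth.Agent.Lib.T2H6.ExtSec

open Groth.Agent.Lib.Helper21 Groth.Agent.Lib.Helper21.ModTensor2 Groth.Agent.Lib.Helper21.ModTensor3
  Groth.Agent.Lib.Helper21.ModTensor5 Groth.Agent.Lib.Helper21.ModTensor6
  Groth.Agent.Lib.Helper21.ModTensor7 Groth.Agent.Lib.T2H6.LocGlob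

attribute [local instance] Groth.Agent.Lib.Helper21.ExtShDelta.hasSheafHom

variable {C : Type u} [SmallCategory C] {J : GrothendieckTopology C} (O : Sheaf J CommRingCat.{u})

section presheaf

variable {O}
variable (P Q : PM O)

/-- pure tensors as sections of the presheaf tensor product. -/
def ptm (X : Cᵒᵖ) (p : P.obj X) (q : Q.obj X) : (P ⊗ Q : PM O).obj X :=
  p ⊗ₜ[(O.obj ⋙ forget₂ CommRingCat RingCat).obj X] q

theorem ptm_add_left (X : Cᵒᵖ) (p p' : P.obj X) (q : Q.obj X) :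
    ptm P Q X (p + p') q = ptm P Q X p q + ptm P Q X p' q := TensorProduct.add_tmul _ _ _

theorem ptm_add_right (X : Cᵒᵖ) (p : P.obj X) (q q' : Q.obj X) :
    ptm P Q X p (q + q') = ptm P Q X p q + ptm P Q X p q' := TensorProduct.tmul_add _ _ _

theorem smul_ptm (X : Cᵒᵖ) (r : (O.obj ⋙ forget₂ CommRingCat RingCat).obj X) (p : P.obj X) (q : Q.obj X) :
    (r • ptm P Q X p q : (P ⊗ Q : PM O).obj X) = ptm P Q X (r • p) q := TensorProduct.smul_tmul' _ _ _

theorem ptm_smul (X : Cᵒᵖ) (r : (O.obj ⋙ forget₂ CommRingCat RingCat).obj X) (p : P.obj X) (q : Q.obj X) :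
    ptm P Q X (r • p) q = ptm P Q X p (r • q) := TensorProduct.smul_tmul _ _ _

theorem whiskerRight_ptm {P P' : PM O} (g : P ⟶ P') (Q : PM O) (X : Cᵒᵖ) (p : P.obj X) (q : Q.obj X) :
    (g ▷ Q).app X (ptm P Q X p q) = ptm P' Q X (g.app X p) q := rfl

theorem leftUnitor_ptm (Q : PM O) (X : Cᵒᵖ) (r : (O.obj ⋙ forget₂ CommRingCat RingCat).obj X) (q : Q.obj X) :
    (λ_ Q).hom.app X (ptm (𝟙_ (PM O)) Q X r q) = r • q := rfl

end presheaf

/-- the section-level tensor `H(V) × L(V) → (H ⊗ L)(V)`. -/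
noncomputable def tmS (H L : ModSite.Mod O) (X : Cᵒᵖ) (s : ((fgt O).obj H).obj X) (t : ((fgt O).obj L).obj X) :
    ((fgt O).obj ((tR O L).obj H)).obj X :=
  (eta O ((fgt O).obj H ⊗ (fgt O).obj L : PM O)).app X (ptm ((fgt O).obj H) ((fgt O).obj L) X s t)

theorem tmS_add_left (H L : ModSite.Mod O) (X : Cᵒᵖ) (s s' : ((fgt O).obj H).obj X) (t : ((fgt O).obj L).obj X) :
    tmS O H L X (s + s') t = tmS O H L X s t + tmS O H L X s' t :=
  (congrArg _ (ptm_add_left _ _ X s s' t)).trans (map_add _ _ _)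

theorem tmS_add_right (H L : ModSite.Mod O) (X : Cᵒᵖ) (s : ((fgt O).obj H).obj X) (t t' : ((fgt O).obj L).obj X) :
    tmS O H L X s (t + t') = tmS O H L X s t + tmS O H L X s t' :=
  (congrArg _ (ptm_add_right _ _ X s t t')).trans (map_add _ _ _)

theorem tmS_smul_left (H L : ModSite.Mod O) (X : Cᵒᵖ) (a : (O.obj ⋙ forget₂ CommRingCat RingCat).obj X)
    (s : ((fgt O).obj H).obj X) (t : ((fgt O).obj L).obj X) :
    tmS O H L X (a • s) t = a • tmS O H L X s t :=
  (congrArg _ (smul_ptm _ _ X a s t).symm).trans (map_smul _ _ _)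

theorem tmS_smul_right (H L : ModSite.Mod O) (X : Cᵒᵖ) (a : (O.obj ⋙ forget₂ CommRingCat RingCat).obj X)
    (s : ((fgt O).obj H).obj X) (t : ((fgt O).obj L).obj X) :
    tmS O H L X s (a • t) = a • tmS O H L X s t :=
  (congrArg _ (ptm_smul _ _ X a s t).symm).trans (tmS_smul_left O H L X a s t)

/-- `tmS` is natural in the first variable. -/
theorem tR_map_tmS (L : ModSite.Mod O) {H H' : ModSite.Mod O} (g : H ⟶ H') (X : Cᵒᵖ)
    (s : ((fgt O).obj H).obj X) (t : ((fgt O).obj L).obj X) :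
    ((fgt O).map ((tR O L).map g)).app X (tmS O H L X s t) = tmS O H' L X (((fgt O).map g).app X s) t := by
  unfold tmS
  have h := eta_nat O ((fgt O).map g ▷ (fgt O).obj L : ((fgt O).obj H ⊗ (fgt O).obj L : PM O) ⟶ _)
  have h2 := congrArg (fun k => (k.app X) (ptm ((fgt O).obj H) ((fgt O).obj L) X s t)) h
  exact h2.symm

theorem eta_comp_fgt_map {P : PM O} {M : ModSite.Mod O} (f : P ⟶ (fgt O).obj M) :
    eta O P ≫ (fgt O).map ((shf O).map f ≫ (adj O).counit.app M) = f := by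
  have h1 : ((adj O).homEquiv P M).symm f = (shf O).map f ≫ (adj O).counit.app M :=
    (adj O).homEquiv_counit _ _ _
  have h2 : (adj O).homEquiv P M (((adj O).homEquiv P M).symm f) =
      eta O P ≫ (fgt O).map (((adj O).homEquiv P M).symm f) := (adj O).homEquiv_unit _ _ _
  rw [Equiv.apply_symm_apply, h1] at h2
  exact h2.symm

/-- the left unitor on sections: `r ⊗ t ↦ r • t`. -/
theorem lu_hom_tmS (M : ModSite.Mod O) (X : Cᵒᵖ) (r : (O.obj ⋙ forget₂ CommRingCat RingCat).obj X)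
    (t : ((fgt O).obj M).obj X) :
    ((fgt O).map (lu O M).hom).app X (tmS O (ModSite.unit O) M X r t) = r • t := by
  have h1 : eta O ((fgt O).obj (ModSite.unit O) ⊗ (fgt O).obj M : PM O) ≫ (fgt O).map (lu O M).hom =
      (λ_ ((fgt O).obj M : PM O)).hom :=
    eta_comp_fgt_map O (λ_ ((fgt O).obj M : PM O)).hom
  have h4 := congrArg (fun k => (k.app X) (ptm ((fgt O).obj (ModSite.unit O)) ((fgt O).obj M) X r t)) h1
  exact h4

end Groth.Agent.Lib.T2H6.ExtSec
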