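import Mathlib
import Groth.Agent.Lib.T2H6ExtSecA
import Groth.Agent.Lib.T2H9ShHom1
set_option backward.isDefEq.respectTransparency.types false

set_option autoImplicit false
universe u
open CategoryTheory CategoryTheory.Limits Opposite MonoidalCategory

namespace Groth.Agent.Lib.T2H6.ExtSec

open Groth.Agent.Lib.Helper21 Groth.Agent.Lib.Helper21.ModTensor2 Groth.Agent.Lib.Helper21.ModTensor3
  Groth.Agent.Lib.Helper21.ModTensor5 Groth.Agent.Lib.Helper21.ModTensor6
  Groth.Agent.Lib.Helper21.ModTensor7 Groth.Agent.Lib.T2H6.LocGlob Groth.Agent.Lib.T2H9.ShHom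

attribute [local instance] Groth.Agent.Lib.Helper21.ExtShDelta.hasSheafHom

variable {C : Type u} [SmallCategory C] {J : GrothendieckTopology C} (O : Sheaf J CommRingCat.{u})
section homSec

/-- the inverse of the left unitor on sections: `t ↦ 1 ⊗ t`. -/
theorem lu_inv_app (M : ModSite.Mod O) (X : Cᵒᵖ) (t : ((fgt O).obj M).obj X) :
    ((fgt O).map (lu O M).inv).app X t = tmS O (ModSite.unit O) M X (1 : (O.obj ⋙ forget₂ CommRingCat RingCat).obj X) t := by
  have h1 := lu_hom_tmS O M X (1 : (O.obj ⋙ forget₂ CommRingCat RingCat).obj X) t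
  rw [one_smul] at h1
  have h2 := congrArg (fun y => ((fgt O).map (lu O M).inv).app X y) h1
  refine h2.symm.trans ?_
  have h3 : (fgt O).map (lu O M).hom ≫ (fgt O).map (lu O M).inv = 𝟙 _ := by
    rw [← Functor.map_comp, Iso.hom_inv_id, CategoryTheory.Functor.map_id]
  exact congrArg (fun k => (k.app X) (tmS O (ModSite.unit O) M X (1 : (O.obj ⋙ forget₂ CommRingCat RingCat).obj X) t)) h3

variable {T : C} (hT : IsTerminal T)

/-- the evaluation pairing `Γ(T, ℋom(L, Y)) × Γ(T, L) → Γ(T, Y)`. -/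
noncomputable def evS (L Y : ModSite.Mod O) (X : Cᵒᵖ)
    (s : ((fgt O).obj ((ModSite.sheafHom L).obj Y)).obj X) (t : ((fgt O).obj L).obj X) :
    ((fgt O).obj Y).obj X :=
  ((fgt O).map ((ModSite.sheafHomAdj L).counit.app Y)).app X (tmS O ((ModSite.sheafHom L).obj Y) L X s t)

/-- the morphism attached to a global section of `ℋom(L, Y)` evaluates sections by the pairing. -/
theorem homSec_app (L Y : ModSite.Mod O) (s : ((ModSite.sheafHom L).obj Y).val.obj (op T))
    (t : ((fgt O).obj L).obj (op T)) :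
    ((fgt O).map (homSecAddEquiv O hT L Y s)).app (op T) t = evS O L Y (op T) s t := by
  set ŝ : ModSite.unit O ⟶ (ModSite.sheafHom L).obj Y :=
    (UnitHom.unitHomAddEquiv (R := ModSite.ringSh O) hT ((ModSite.sheafHom L).obj Y)).symm s with hŝ
  have h0 : homSecAddEquiv O hT L Y s =
      (lu O L).inv ≫ (tR O L).map ŝ ≫ (ModSite.sheafHomAdj L).counit.app Y := by
    unfold homSecAddEquiv
    simp only [AddEquiv.trans_apply, AddEquiv.coe_mk, Equiv.coe_fn_mk]
    rw [Adjunction.homAddEquiv_symm_apply, Adjunction.homEquiv_counit]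
    rfl
  rw [h0, Functor.map_comp, Functor.map_comp]
  change ((fgt O).map ((ModSite.sheafHomAdj L).counit.app Y)).app (op T)
    (((fgt O).map ((tR O L).map ŝ)).app (op T) (((fgt O).map (lu O L).inv).app (op T) t)) = _
  rw [lu_inv_app, tR_map_tmS]
  have h1 : ((fgt O).map ŝ).app (op T) (1 : (O.obj ⋙ forget₂ CommRingCat RingCat).obj (op T)) = s :=
    (UnitHom.unitHomAddEquiv (R := ModSite.ringSh O) hT ((ModSite.sheafHom L).obj Y)).apply_symm_apply s
  rw [h1]
  rfl


theorem homSecAddEquiv_symm_apply (L Y : ModSite.Mod O) (φ : L ⟶ Y) :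
    (homSecAddEquiv O hT L Y).symm φ =
      (UnitHom.unitHomAddEquiv (R := ModSite.ringSh O) hT ((ModSite.sheafHom L).obj Y)) (theta L Y φ) := rfl

/-- `homSecAddEquiv` is natural in the first variable. -/
theorem homSecAddEquiv_naturality_left {L' L : ModSite.Mod O} (u : L' ⟶ L) (Y : ModSite.Mod O)
    (s : ((ModSite.sheafHom L).obj Y).val.obj (op T)) :
    homSecAddEquiv O hT L' Y (((ExtSupp.sheafHomMap u).app Y).val.app (op T) s) =
      u ≫ homSecAddEquiv O hT L Y s := by
  apply (homSecAddEquiv O hT L' Y).symm.injective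
  rw [AddEquiv.symm_apply_apply, homSecAddEquiv_symm_apply, theta_nat]
  have h1 : s = (UnitHom.unitHomAddEquiv (R := ModSite.ringSh O) hT ((ModSite.sheafHom L).obj Y))
      (theta L Y (homSecAddEquiv O hT L Y s)) := by
    rw [← homSecAddEquiv_symm_apply, AddEquiv.symm_apply_apply]
  conv_lhs => rw [h1]
  rfl


end homSec

section nu

variable (T : C)

/-- global sections, as a functor to modules over the ring of global sections. -/
noncomputable def Γ₀ : ModSite.Mod O ⥤ ModuleCat.{u} (O.obj.obj (op T)) :=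
  SheafOfModules.evaluation (ModSite.ringSh O) (op T)

instance : PreservesFiniteLimits (Γ₀ O T) :=
  inferInstanceAs (PreservesFiniteLimits (SheafOfModules.evaluation (ModSite.ringSh O) (op T)))

instance : (Γ₀ O T).Additive :=
  haveI := preservesBinaryBiproducts_of_preservesBinaryProducts (Γ₀ O T)
  Functor.additive_of_preservesBinaryBiproducts _

theorem Γ₀_map_apply {M N : ModSite.Mod O} (f : M ⟶ N) (x : (Γ₀ O T).obj M) :
    ((Γ₀ O T).map f).hom x = ((fgt O).map f).app (op T) x := rfl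


variable {T} (hT : IsTerminal T)

theorem evS_smul (L Y : ModSite.Mod O) (X : Cᵒᵖ) (a : (O.obj ⋙ forget₂ CommRingCat RingCat).obj X)
    (s : ((fgt O).obj ((ModSite.sheafHom L).obj Y)).obj X) (t : ((fgt O).obj L).obj X) :
    evS O L Y X (a • s) t = a • evS O L Y X s t := by
  unfold evS
  rw [tmS_smul_left]
  exact map_smul _ _ _

/-- the comparison `Γ(T, ℋom(L, Y)) → Hom_A(Γ(T, L), Γ(T, Y))`, `A`-linear. -/
noncomputable def nu (L Y : ModSite.Mod O) :
    (Γ₀ O T).obj ((ModSite.sheafHom L).obj Y) →ₗ[O.obj.obj (op T)]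
      ((Γ₀ O T).obj L ⟶ (Γ₀ O T).obj Y) where
  toFun s := (Γ₀ O T).map (homSecAddEquiv O hT L Y s)
  map_add' s s' :=
    (congrArg (fun φ => (Γ₀ O T).map φ) ((homSecAddEquiv O hT L Y).map_add s s')).trans
      ((Γ₀ O T).map_add)
  map_smul' a s := by
    apply ModuleCat.hom_ext
    apply LinearMap.ext
    intro t
    rw [RingHom.id_apply, ModuleCat.hom_smul, LinearMap.smul_apply, Γ₀_map_apply, Γ₀_map_apply,
      homSec_app, homSec_app]
    exact evS_smul O L Y (op T) a s t

theorem nu_apply (L Y : ModSite.Mod O) (s : (Γ₀ O T).obj ((ModSite.sheafHom L).obj Y)) :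
    nu O hT L Y s = (Γ₀ O T).map (homSecAddEquiv O hT L Y s) := rfl

/-- `nu` is natural in the first variable. -/
theorem nu_naturality_left {L' L : ModSite.Mod O} (u : L' ⟶ L) (Y : ModSite.Mod O)
    (s : (Γ₀ O T).obj ((ModSite.sheafHom L).obj Y)) :
    nu O hT L' Y (((Γ₀ O T).map ((ExtSupp.sheafHomMap u).app Y)).hom s) =
      (Γ₀ O T).map u ≫ nu O hT L Y s := by
  rw [nu_apply, nu_apply, ← Functor.map_comp]
  congr 1
  exact homSecAddEquiv_naturality_left O hT u Y s

/-- `nu` is natural in the second variable. -/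
theorem nu_naturality_right (L : ModSite.Mod O) {Y Y' : ModSite.Mod O} (g : Y ⟶ Y')
    (s : (Γ₀ O T).obj ((ModSite.sheafHom L).obj Y)) :
    nu O hT L Y' (((Γ₀ O T).map ((ModSite.sheafHom L).map g)).hom s) =
      nu O hT L Y s ≫ (Γ₀ O T).map g := by
  rw [nu_apply, nu_apply, ← Functor.map_comp]
  congr 1
  exact homSecAddEquiv_naturality O hT L g s


end nu

end Groth.Agent.Lib.T2H6.ExtSec
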