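import Mathlib
import Groth.Agent.Lib.T2H6ExtSecB
set_option backward.isDefEq.respectTransparency.types false

set_option autoImplicit false
universe u
open CategoryTheory CategoryTheory.Limits Opposite MonoidalCategory

namespace Groth.Agent.Lib.T2H6.ExtSec

open Groth.Agent.Lib.Helper21 Groth.Agent.Lib.Helper21.ModTensor2 Groth.Agent.Lib.Helper21.ModTensor3
  Groth.Agent.Lib.Helper21.ModTensor5 Groth.Agent.Lib.Helper21.ModTensor6
  Groth.Agent.Lib.Helper21.ModTensor7 Groth.Agent.Lib.T2H6.LocGlob Groth.Agent.Lib.T2H9.ShHom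

attribute [local instance] Groth.Agent.Lib.Helper21.ExtShDelta.hasSheafHom

variable {C : Type u} [SmallCategory C] {J : GrothendieckTopology C} (O : Sheaf J CommRingCat.{u})
variable {T : C} (hT : IsTerminal T) (b : ℕ)

/-- the standard generators of the global sections of a finite free module. -/
noncomputable def eb (j : Fin b) : (Γ₀ O T).obj (Lb O b) :=
  ((Γ₀ O T).map (Sigma.ι (fun _ : Fin b => ModSite.unit O) j)).hom
    (show (Γ₀ O T).obj (ModSite.unit O) from (1 : O.obj.obj (op T)))

theorem coord_eq (F : ModSite.Mod O) (f : Lb O b ⟶ F) (j : Fin b) :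
    coord O hT b F f j = ((Γ₀ O T).map f).hom (eb O b j) := rfl

theorem Γ₀_unit_eq_smul_one (c : (Γ₀ O T).obj (ModSite.unit O)) :
    c = (show O.obj.obj (op T) from c) •
      (show (Γ₀ O T).obj (ModSite.unit O) from (1 : O.obj.obj (op T))) := by
  change (show O.obj.obj (op T) from c) = (show O.obj.obj (op T) from c) * 1
  rw [mul_one]

/-- every global section of `O^b` is a combination of the standard generators. -/
theorem exists_eq_sum_eb (y : (Γ₀ O T).obj (Lb O b)) :
    ∃ a : Fin b → O.obj.obj (op T), y = ∑ j, a j • eb O b j := by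
  have h1 : y = ∑ j, ((Γ₀ O T).map (Sigma.ι (fun _ : Fin b => ModSite.unit O) j)).hom
      (((Γ₀ O T).map (Sigma.π (fun _ : Fin b => ModSite.unit O) j)).hom y) := by
    have h0 := congrArg (fun k => ((Γ₀ O T).map k).hom y) (sum_π_ι O b)
    simp only [CategoryTheory.Functor.map_id, ModuleCat.hom_id, LinearMap.id_coe, id_eq] at h0
    rw [Functor.map_sum, ModuleCat.hom_sum, LinearMap.sum_apply] at h0
    refine h0.symm.trans (Finset.sum_congr rfl (fun j _ => ?_))
    rw [Functor.map_comp, ModuleCat.hom_comp, LinearMap.comp_apply]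
  refine ⟨fun j => (show O.obj.obj (op T) from
    ((Γ₀ O T).map (Sigma.π (fun _ : Fin b => ModSite.unit O) j)).hom y), ?_⟩
  refine h1.trans (Finset.sum_congr rfl (fun j _ => ?_))
  have h2 := Γ₀_unit_eq_smul_one O (((Γ₀ O T).map (Sigma.π (fun _ : Fin b => ModSite.unit O) j)).hom y)
  conv_lhs => rw [h2]
  exact map_smul _ _ _

/-- morphisms out of the global sections of `O^b` are determined by the standard generators. -/
theorem hom_ext_eb {N : ModuleCat.{u} (O.obj.obj (op T))} (ψ ψ' : (Γ₀ O T).obj (Lb O b) ⟶ N)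
    (h : ∀ j, ψ.hom (eb O b j) = ψ'.hom (eb O b j)) : ψ = ψ' := by
  apply ModuleCat.hom_ext
  apply LinearMap.ext
  intro y
  obtain ⟨a, rfl⟩ := exists_eq_sum_eb O b y
  rw [map_sum, map_sum]
  refine Finset.sum_congr rfl (fun j _ => ?_)
  rw [map_smul, map_smul, h j]

include hT in
/-- `φ ↦ Γ(T, φ)` is bijective on morphisms out of a finite free module. -/
theorem Γ₀_map_bijective_Lb (Y : ModSite.Mod O) :
    Function.Bijective (fun φ : Lb O b ⟶ Y => (Γ₀ O T).map φ) := by
  constructor
  · intro φ φ' h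
    apply coord_injective O hT b Y
    funext j
    rw [coord_eq, coord_eq]
    exact congrArg (fun k => k.hom (eb O b j)) h
  · intro ψ
    obtain ⟨φ, hφ⟩ := coord_surjective O hT b Y (fun j => ψ.hom (eb O b j))
    refine ⟨φ, hom_ext_eb O b _ _ (fun j => ?_)⟩
    have := congrFun hφ j
    rw [coord_eq] at this
    exact this

/-- `nu` is bijective for a finite free module. -/
theorem nu_bijective_Lb (Y : ModSite.Mod O) : Function.Bijective (nu O hT (Lb O b) Y) := by
  have h : ⇑(nu O hT (Lb O b) Y) = (fun φ : Lb O b ⟶ Y => (Γ₀ O T).map φ) ∘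
      (homSecAddEquiv O hT (Lb O b) Y) := rfl
  rw [h]
  exact (Γ₀_map_bijective_Lb O hT b Y).comp (homSecAddEquiv O hT (Lb O b) Y).bijective


/-- `Γ(T, π_i)` of a combination of the standard generators is the `i`-th coefficient. -/
theorem Γ₀_map_π_sum (a : Fin b → O.obj.obj (op T)) (i : Fin b) :
    ((Γ₀ O T).map (Sigma.π (fun _ : Fin b => ModSite.unit O) i)).hom (∑ j, a j • eb O b j) =
      (show (Γ₀ O T).obj (ModSite.unit O) from a i) := by
  classical
  rw [map_sum, Finset.sum_eq_single i]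
  · rw [map_smul]
    have h1 : ((Γ₀ O T).map (Sigma.π (fun _ : Fin b => ModSite.unit O) i)).hom (eb O b i) =
        (show (Γ₀ O T).obj (ModSite.unit O) from (1 : O.obj.obj (op T))) := by
      unfold eb
      rw [← LinearMap.comp_apply, ← ModuleCat.hom_comp, ← Functor.map_comp, Sigma.ι_π_eq_id,
        CategoryTheory.Functor.map_id]
      rfl
    rw [h1]
    exact (Γ₀_unit_eq_smul_one O (show (Γ₀ O T).obj (ModSite.unit O) from a i)).symm
  · intro j _ hj
    rw [map_smul]
    have h1 : ((Γ₀ O T).map (Sigma.π (fun _ : Fin b => ModSite.unit O) i)).hom (eb O b j) = 0 := by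
      unfold eb
      rw [← LinearMap.comp_apply, ← ModuleCat.hom_comp, ← Functor.map_comp,
        Sigma.ι_π_of_ne _ hj, Functor.map_zero]
      rfl
    rw [h1, smul_zero]
  · intro hi
    exact absurd (Finset.mem_univ i) hi

/-- the global sections of `O^b` are a free module of rank `b`. -/
theorem nonempty_linearEquiv_Γ₀_Lb :
    Nonempty ((Fin b → O.obj.obj (op T)) ≃ₗ[O.obj.obj (op T)] (Γ₀ O T).obj (Lb O b)) := by
  let f : (Fin b → O.obj.obj (op T)) →ₗ[O.obj.obj (op T)] (Γ₀ O T).obj (Lb O b) :=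
    Fintype.linearCombination (O.obj.obj (op T)) (eb O b)
  have hf : ∀ a, f a = ∑ j, a j • eb O b j := fun a => Fintype.linearCombination_apply _ _ a
  refine ⟨LinearEquiv.ofBijective f ⟨?_, ?_⟩⟩
  · intro a a' h
    funext i
    have h1 := congrArg (fun y => ((Γ₀ O T).map (Sigma.π (fun _ : Fin b => ModSite.unit O) i)).hom y) h
    simp only [hf] at h1
    rw [Γ₀_map_π_sum, Γ₀_map_π_sum] at h1
    exact h1
  · intro y
    obtain ⟨a, ha⟩ := exists_eq_sum_eb O b y
    exact ⟨a, (hf a).trans ha.symm⟩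

theorem projective_Γ₀_Lb : Projective ((Γ₀ O T).obj (Lb O b)) := by
  obtain ⟨e⟩ := nonempty_linearEquiv_Γ₀_Lb O (T := T) b
  have h1 : Module.Projective (O.obj.obj (op T)) ((Γ₀ O T).obj (Lb O b)) :=
    Module.Projective.of_equiv e
  exact (IsProjective.iff_projective (R := O.obj.obj (op T)) (P := (Γ₀ O T).obj (Lb O b))).1 h1

end Groth.Agent.Lib.T2H6.ExtSec
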