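import Mathlib
import Groth.Agent.Lib.Helper21CoDelta

/-!
# T2H6ExtSecD (helper6): `Ext` as a contravariant δ-functor; comparison of two δ-functors through
acyclic resolutions; preservation of homology by left exact functors

Namespace `Groth.Agent.Lib.T2H6.ExtSec`.

* `extDelta R N : CoDelta 𝒞 (ModuleCat R)` : `Ext^p(-, N)` with values in `R`-modules.
* `compare_succ`, `compare_zero` : `T (Δ.E i F) ≅ Δ'.E i F'` from resolutions, given a comparison of the `E⁰`-complexes.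
* `nonempty_homology_map_iso`, `exact_map_of_exact`.
-/

set_option autoImplicit false
set_option linter.style.haveILetI false
universe w v u t
open CategoryTheory CategoryTheory.Limits CategoryTheory.Abelian

namespace Groth.Agent.Lib.T2H6.ExtSec

open Groth.Agent.Lib.Helper21.CoDeltaLib

section ExtDelta

variable (R : Type t) [CommRing R] {𝒞 : Type u} [Category.{v} 𝒞] [Abelian 𝒞] [Linear R 𝒞]
  [HasExt.{w} 𝒞] (N : 𝒞)

/-- `Ext^p(-, N)` as a contravariant δ-functor with values in `R`-modules. -/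
noncomputable def extDelta : CoDelta 𝒞 (ModuleCat.{w} R) where
  E p M := ModuleCat.of R (Ext M N p)
  map p {_ _} u := ModuleCat.ofHom (Ext.precompOfLinear (Ext.mk₀ u) R N (zero_add p))
  map_comp p {_ _ _} u v := by
    apply ModuleCat.hom_ext
    apply LinearMap.ext
    intro x
    change (Ext.mk₀ (u ≫ v)).comp x (zero_add p) =
      (Ext.mk₀ u).comp ((Ext.mk₀ v).comp x (zero_add p)) (zero_add p)
    rw [← Ext.mk₀_comp_mk₀, Ext.comp_assoc_of_second_deg_zero]
  mono_zero S hS := by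
    haveI := hS.epi_g
    rw [ModuleCat.mono_iff_injective]
    exact Ext.precomp_mk₀_injective_of_epi N S.g
  exact₂ S hS p := by
    refine ⟨?_, ?_⟩
    · apply ModuleCat.hom_ext
      apply LinearMap.ext
      intro x
      change (Ext.mk₀ S.f).comp ((Ext.mk₀ S.g).comp x (zero_add p)) (zero_add p) = 0
      rw [← Ext.comp_assoc_of_second_deg_zero, Ext.mk₀_comp_mk₀, S.zero, Ext.mk₀_zero, Ext.zero_comp]
    · rw [ShortComplex.moduleCat_exact_iff]
      intro x hx
      exact Ext.contravariant_sequence_exact₂ hS N x hx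
  δ S hS p := ModuleCat.ofHom (Ext.precompOfLinear hS.extClass R N (Nat.add_comm 1 p))
  exact₃ S hS p := by
    refine ⟨?_, ?_⟩
    · apply ModuleCat.hom_ext
      apply LinearMap.ext
      intro x
      change hS.extClass.comp ((Ext.mk₀ S.f).comp x (zero_add p)) (Nat.add_comm 1 p) = 0
      rw [ShortComplex.ShortExact.extClass_comp_assoc]
    · rw [ShortComplex.moduleCat_exact_iff]
      intro x hx
      exact Ext.contravariant_sequence_exact₁ hS N x (Nat.add_comm 1 p) hx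
  exact₁ S hS p := by
    refine ⟨?_, ?_⟩
    · apply ModuleCat.hom_ext
      apply LinearMap.ext
      intro x
      change (Ext.mk₀ S.g).comp (hS.extClass.comp x (Nat.add_comm 1 p)) (zero_add (p + 1)) = 0
      rw [ShortComplex.ShortExact.comp_extClass_assoc]
    · rw [ShortComplex.moduleCat_exact_iff]
      intro x hx
      exact Ext.contravariant_sequence_exact₃ hS N x hx (Nat.add_comm 1 p)

end ExtDelta

section Compare

universe v₁ u₁ v₂ u₂ v₃ u₃ v₄ u₄

variable {𝒜 : Type u₁} [Category.{v₁} 𝒜] [Abelian 𝒜] {𝒟 : Type u₂} [Category.{v₂} 𝒟] [Abelian 𝒟]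
variable {𝒜' : Type u₃} [Category.{v₃} 𝒜'] [Abelian 𝒜'] {𝒟' : Type u₄} [Category.{v₄} 𝒟'] [Abelian 𝒟']

/-- consecutive maps of `E⁰` of a resolution compose to zero. -/
theorem map_d_d' (Δ : CoDelta 𝒜 𝒟) : ∀ (i : ℕ) {F : 𝒜} (R : Resn F),
    Δ.map 0 (R.d i) ≫ Δ.map 0 (R.d (i + 1)) = 0 := by
  intro i
  induction i with
  | zero => intro F R; exact Δ.map_d0_d1 R
  | succ i ih => intro F R; exact ih R.shift

/-- the short complex `E⁰(X i) ⟶ E⁰(X (i+1)) ⟶ E⁰(X (i+2))`. -/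
noncomputable abbrev scE (Δ : CoDelta 𝒜 𝒟) {F : 𝒜} (R : Resn F) (i : ℕ) : ShortComplex 𝒟 :=
  ShortComplex.mk _ _ (map_d_d' Δ i R)

variable (Δ : CoDelta 𝒜 𝒟) {F : 𝒜} (R : Resn F)
  (hacyc : ∀ (j p : ℕ), 1 ≤ p → IsZero (Δ.E p (R.X j)))
  (Δ' : CoDelta 𝒜' 𝒟') {F' : 𝒜'} (R' : Resn F')
  (hacyc' : ∀ (j p : ℕ), 1 ≤ p → IsZero (Δ'.E p (R'.X j)))
  (T : 𝒟 ⥤ 𝒟') [T.PreservesZeroMorphisms]
  (θ : ∀ j : ℕ, T.obj (Δ.E 0 (R.X j)) ≅ Δ'.E 0 (R'.X j))
  (hθ : ∀ j : ℕ, T.map (Δ.map 0 (R.d j)) ≫ (θ (j + 1)).hom = (θ j).hom ≫ Δ'.map 0 (R'.d j))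

include hacyc hacyc' hθ in
theorem compare_succ (i : ℕ)
    (hT : Nonempty (((scE Δ R i).map T).homology ≅ T.obj (scE Δ R i).homology)) :
    Nonempty (T.obj (Δ.E (i + 1) F) ≅ Δ'.E (i + 1) F') := by
  obtain ⟨e₁⟩ := Δ.homology_succ i R hacyc (map_d_d' Δ i R)
  obtain ⟨e₂⟩ := Δ'.homology_succ i R' hacyc' (map_d_d' Δ' i R')
  obtain ⟨e₃⟩ := hT
  let e₄ : (scE Δ R i).map T ≅ scE Δ' R' i :=
    ShortComplex.isoMk (θ i) (θ (i + 1)) (θ (i + 2)) (hθ i).symm (hθ (i + 1)).symm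
  exact ⟨T.mapIso e₁.symm ≪≫ e₃.symm ≪≫ ShortComplex.homologyMapIso e₄ ≪≫ e₂⟩

include hθ in
theorem compare_zero [PreservesLimit (parallelPair (Δ.map 0 (R.d 0)) 0) T] :
    Nonempty (T.obj (Δ.E 0 F) ≅ Δ'.E 0 F') := by
  have h1 : IsLimit ((KernelFork.ofι (Δ.map 0 R.π) (Δ.map_π_d0 R)).map T) :=
    KernelFork.mapIsLimit _ (Δ.isKernel R) T
  have h2 : IsLimit (KernelFork.ofι (Δ'.map 0 R'.π) (Δ'.map_π_d0 R')) := Δ'.isKernel R'
  let a : T.obj (Δ.E 0 F) ≅ kernel (T.map (Δ.map 0 (R.d 0))) :=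
    IsLimit.conePointUniqueUpToIso h1 (limit.isLimit _)
  let b : Δ'.E 0 F' ≅ kernel (Δ'.map 0 (R'.d 0)) :=
    IsLimit.conePointUniqueUpToIso h2 (limit.isLimit _)
  let c : kernel (T.map (Δ.map 0 (R.d 0))) ≅ kernel (Δ'.map 0 (R'.d 0)) :=
    kernel.mapIso _ _ (θ 0) (θ 1) (hθ 0)
  exact ⟨a ≪≫ c ≪≫ b.symm⟩

end Compare

section PresHom

universe v₂ u₂ v₄ u₄

variable {𝒟 : Type u₂} [Category.{v₂} 𝒟] [Abelian 𝒟] {𝒟' : Type u₄} [Category.{v₄} 𝒟'] [Abelian 𝒟']
  (T : 𝒟 ⥤ 𝒟') [T.Additive] [PreservesFiniteLimits T]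
  (Q : 𝒟 → Prop)
  (hQker : ∀ {A B : 𝒟} (f : A ⟶ B), Q A → Q B → Q (kernel f))
  (hQcok : ∀ {A B : 𝒟} (f : A ⟶ B), Q A → Q B → Q (cokernel f))
  (hepi : ∀ {A B : 𝒟} (p : A ⟶ B), Epi p → Q A → Q B → Epi (T.map p))

include hQker hQcok hepi in
/-- a left exact functor preserving the epimorphisms between the objects of a class `Q` stable under
kernels and cokernels preserves the homology of short complexes in `Q`. -/
theorem nonempty_homology_map_iso (S : ShortComplex 𝒟) (h₁ : Q S.X₁) (h₂ : Q S.X₂) (h₃ : Q S.X₃) :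
    Nonempty ((S.map T).homology ≅ T.obj S.homology) := by
  let h : S.LeftHomologyData := ShortComplex.LeftHomologyData.ofHasKernelOfHasCokernel S
  let f' : S.X₁ ⟶ kernel S.g := kernel.lift S.g S.f S.zero
  have hK : Q (kernel S.g) := hQker S.g h₂ h₃
  have hH : Q (cokernel f') := hQcok f' h₁ hK
  let π : kernel S.g ⟶ cokernel f' := cokernel.π f'
  -- the image
  have hI : Q (kernel π) := hQker π hK hH
  let f'' : S.X₁ ⟶ kernel π := kernel.lift π f' (cokernel.condition f')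
  haveI : Epi f'' := inferInstanceAs (Epi (Abelian.factorThruImage f'))
  haveI : Epi (T.map f'') := hepi f'' inferInstance h₁ hI
  haveI : Epi (T.map π) := hepi π inferInstance hK hH
  -- exactness of `T X₁ ⟶ T K ⟶ T H`
  have w1 : T.map (kernel.ι π) ≫ T.map π = 0 := by
    rw [← T.map_comp, kernel.condition, T.map_zero]
  have hex1 : (ShortComplex.mk (T.map (kernel.ι π)) (T.map π) w1).Exact :=
    ShortComplex.exact_of_f_is_kernel _
      (KernelFork.mapIsLimit (KernelFork.ofι (kernel.ι π) (kernel.condition π)) (kernelIsKernel π) T)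
  have w2 : T.map f' ≫ T.map π = 0 := by
    rw [← T.map_comp, cokernel.condition, T.map_zero]
  have hex2 : (ShortComplex.mk (T.map f') (T.map π) w2).Exact := by
    let φ : ShortComplex.mk (T.map f') (T.map π) w2 ⟶ ShortComplex.mk (T.map (kernel.ι π)) (T.map π) w1 :=
      { τ₁ := T.map f''
        τ₂ := 𝟙 _
        τ₃ := 𝟙 _
        comm₁₂ := by
          dsimp only
          rw [Category.comp_id, ← T.map_comp, kernel.lift_ι]
        comm₂₃ := by simp }
    haveI : Epi φ.τ₁ := inferInstanceAs (Epi (T.map f''))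
    haveI : IsIso φ.τ₂ := inferInstanceAs (IsIso (𝟙 _))
    haveI : Mono φ.τ₃ := inferInstanceAs (Mono (𝟙 _))
    exact (ShortComplex.exact_iff_of_epi_of_isIso_of_mono φ).2 hex1
  haveI : Epi (ShortComplex.mk (T.map f') (T.map π) w2).g := inferInstanceAs (Epi (T.map π))
  have hcok : IsColimit (CokernelCofork.ofπ (T.map π) w2) := hex2.gIsCokernel
  -- the left homology data of `S.map T`
  have hi' : IsLimit (KernelFork.ofι (T.map (kernel.ι S.g))
      (show T.map (kernel.ι S.g) ≫ (S.map T).g = 0 by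
        change T.map (kernel.ι S.g) ≫ T.map S.g = 0
        rw [← T.map_comp, kernel.condition, T.map_zero])) :=
    KernelFork.mapIsLimit (KernelFork.ofι (kernel.ι S.g) (kernel.condition S.g)) (kernelIsKernel S.g) T
  have hlift : hi'.lift (KernelFork.ofι (S.map T).f (S.map T).zero) = T.map f' := by
    apply Fork.IsLimit.hom_ext hi'
    rw [Fork.IsLimit.lift_ι]
    change T.map S.f = T.map f' ≫ T.map (kernel.ι S.g)
    rw [← T.map_comp, kernel.lift_ι]
  have wπ' : hi'.lift (KernelFork.ofι (S.map T).f (S.map T).zero) ≫ T.map π = 0 := by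
    rw [hlift]; exact w2
  let h' : (S.map T).LeftHomologyData :=
    { K := T.obj (kernel S.g)
      H := T.obj (cokernel f')
      i := T.map (kernel.ι S.g)
      π := T.map π
      wi := by
        change T.map (kernel.ι S.g) ≫ T.map S.g = 0
        rw [← T.map_comp, kernel.condition, T.map_zero]
      hi := hi'
      wπ := wπ'
      hπ := Groth.Agent.Lib.Helper21.CoDeltaLib.CoDelta.isColimit_of_eq hlift.symm w2 wπ' hcok }
  exact ⟨h'.homologyIso ≪≫ T.mapIso h.homologyIso.symm⟩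


include hQker hQcok hepi in
theorem exact_map_of_exact (S : ShortComplex 𝒟) (h₁ : Q S.X₁) (h₂ : Q S.X₂) (h₃ : Q S.X₃)
    (hS : S.Exact) : (S.map T).Exact := by
  obtain ⟨e⟩ := nonempty_homology_map_iso T Q hQker hQcok hepi S h₁ h₂ h₃
  rw [ShortComplex.exact_iff_isZero_homology] at hS ⊢
  exact IsZero.of_iso (T.map_isZero hS) e

end PresHom

end Groth.Agent.Lib.T2H6.ExtSec
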