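import Mathlib
import Groth.Agent.Lib.T2H6ExtSecD

/-!
# T2H6ExtSecE (helper6): construction of resolutions; `Ext^0 = Hom`; acyclicity of projectives

Namespace `Groth.Agent.Lib.T2H6.ExtSec`.

* `exists_resn` : a `Resn` by objects of type `A` from "every `P`-object is a quotient of an `A`-object with kernel in `P`".
* `isZero_extDelta_succ_of_projective`, `extDeltaZeroIso`, `extDeltaZeroIso_naturality`.
-/

set_option autoImplicit false
set_option linter.style.haveILetI false
set_option linter.unusedVariables false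
universe w v u t
open CategoryTheory CategoryTheory.Limits CategoryTheory.Abelian

namespace Groth.Agent.Lib.T2H6.ExtSec

open Groth.Agent.Lib.Helper21.CoDeltaLib

section BuildResn

variable {𝒜 : Type u} [Category.{v} 𝒜] [Abelian 𝒜] (P A : 𝒜 → Prop)
  (hres : ∀ M, P M → ∃ (L : 𝒜) (g : L ⟶ M), Epi g ∧ A L ∧ P (kernel g))

/-- a stage of the construction: an object with property `P`. -/
structure Stage where
  M : 𝒜
  hM : P M

variable {P A}

noncomputable def Stage.L (s : Stage P) : 𝒜 := (hres s.M s.hM).choose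
noncomputable def Stage.g (s : Stage P) : s.L hres ⟶ s.M := (hres s.M s.hM).choose_spec.choose
theorem Stage.epi_g (s : Stage P) : Epi (s.g hres) := (hres s.M s.hM).choose_spec.choose_spec.1
theorem Stage.hA (s : Stage P) : A (s.L hres) := (hres s.M s.hM).choose_spec.choose_spec.2.1
theorem Stage.hK (s : Stage P) : P (kernel (s.g hres)) := (hres s.M s.hM).choose_spec.choose_spec.2.2

noncomputable def Stage.next (s : Stage P) : Stage P := ⟨kernel (s.g hres), s.hK hres⟩

noncomputable def stage (F : 𝒜) (hF : P F) : ℕ → Stage P :=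
  fun n => Nat.rec ⟨F, hF⟩ (fun _ s => s.next hres) n

/-- `d n : L (n+1) ⟶ L n`. -/
noncomputable def dStage (F : 𝒜) (hF : P F) (n : ℕ) :
    (stage hres F hF (n + 1)).L hres ⟶ (stage hres F hF n).L hres :=
  (show (stage hres F hF (n + 1)).L hres ⟶ kernel ((stage hres F hF n).g hres) from
    (stage hres F hF (n + 1)).g hres) ≫ kernel.ι ((stage hres F hF n).g hres)

theorem exact_of_epi_kernel {X Y Z : 𝒜} (g : Y ⟶ Z) (e : X ⟶ kernel g) [Epi e]
    (w : (e ≫ kernel.ι g) ≫ g = 0) : (ShortComplex.mk (e ≫ kernel.ι g) g w).Exact := by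
  rw [ShortComplex.exact_iff_epi_kernel_lift]
  have h : kernel.lift g (e ≫ kernel.ι g) w = e := by
    rw [← cancel_mono (kernel.ι g), kernel.lift_ι]
  change Epi (kernel.lift g (e ≫ kernel.ι g) w)
  rw [h]; infer_instance

include hres in
/-- a resolution by objects of type `A`, built from `hres`. -/
theorem exists_resn (F : 𝒜) (hF : P F) : ∃ R : Resn F, ∀ j, A (R.X j) := by
  let st := stage hres F hF
  let e : ∀ n, (st (n + 1)).L hres ⟶ kernel ((st n).g hres) := fun n => (st (n + 1)).g hres
  haveI he : ∀ n, Epi (e n) := fun n => (st (n + 1)).epi_g hres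
  have hd : ∀ n, dStage hres F hF n = e n ≫ kernel.ι ((st n).g hres) := fun n => rfl
  have hw₀ : dStage hres F hF 0 ≫ (st 0).g hres = 0 := by
    rw [hd, Category.assoc, kernel.condition, comp_zero]
  have hw : ∀ j, dStage hres F hF (j + 1) ≫ dStage hres F hF j = 0 := by
    intro j
    rw [hd (j + 1), hd j, Category.assoc]
    have : kernel.ι ((st (j + 1)).g hres) ≫ e j = 0 := kernel.condition _
    rw [reassoc_of% this, zero_comp, comp_zero]
  refine ⟨{ X := fun n => (st n).L hres
            d := dStage hres F hF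
            π := (st 0).g hres
            epi := (st 0).epi_g hres
            w₀ := hw₀
            ex₀ := ?_
            w := hw
            ex := ?_ }, fun j => (st j).hA hres⟩
  · exact exact_of_epi_kernel ((st 0).g hres) (e 0) _
  · intro j
    -- kernel of `d j` is the kernel of `g (j+1)`
    have hex := exact_of_epi_kernel ((st (j + 1)).g hres) (e (j + 1))
      (by rw [Category.assoc, kernel.condition, comp_zero])
    let φ : ShortComplex.mk _ _ (show (e (j + 1) ≫ kernel.ι ((st (j + 1)).g hres)) ≫ (st (j + 1)).g hres = 0 by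
        rw [Category.assoc, kernel.condition, comp_zero]) ⟶ ShortComplex.mk _ _ (hw j) :=
      { τ₁ := 𝟙 _
        τ₂ := 𝟙 _
        τ₃ := kernel.ι ((st j).g hres)
        comm₁₂ := by
          dsimp only
          rw [Category.id_comp, Category.comp_id]
          rfl
        comm₂₃ := by
          dsimp only
          rw [Category.id_comp]
          rfl }
    haveI : Epi φ.τ₁ := inferInstanceAs (Epi (𝟙 _))
    haveI : IsIso φ.τ₂ := inferInstanceAs (IsIso (𝟙 _))
    haveI : Mono φ.τ₃ := inferInstanceAs (Mono (kernel.ι _))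
    exact (ShortComplex.exact_iff_of_epi_of_isIso_of_mono φ).1 hex

end BuildResn

section ExtDelta2

variable (R : Type t) [CommRing R] {𝒞 : Type u} [Category.{v} 𝒞] [Abelian 𝒞] [Linear R 𝒞]
  [HasExt.{w} 𝒞] (N : 𝒞)

theorem isZero_extDelta_succ_of_projective (P : 𝒞) [Projective P] (p : ℕ) :
    IsZero ((extDelta R N).E (p + 1) P) := by
  haveI : Subsingleton (Ext P N (p + 1)) := ⟨fun a b => by
    rw [Ext.eq_zero_of_projective a, Ext.eq_zero_of_projective b]⟩
  exact ModuleCat.isZero_of_subsingleton (ModuleCat.of R (Ext P N (p + 1)))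

end ExtDelta2

section ExtDelta3

variable (R : Type t) [CommRing R] {𝒞 : Type u} [Category.{w} 𝒞] [Abelian 𝒞] [Linear R 𝒞]
  [HasExt.{w} 𝒞] (N : 𝒞)

/-- `Ext^0(M, N) ≅ Hom(M, N)` as `R`-modules. -/
noncomputable def extDeltaZeroIso (M : 𝒞) : (extDelta R N).E 0 M ≅ ModuleCat.of R (M ⟶ N) :=
  (Ext.linearEquiv₀ (R := R) (X := M) (Y := N)).toModuleIso

theorem extDeltaZeroIso_hom_apply (M : 𝒞) (x : Ext M N 0) :
    (extDeltaZeroIso R N M).hom.hom x = Ext.addEquiv₀ x := rfl

/-- precomposition, as a linear map on `Hom` modules. -/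
noncomputable def precompLin {M' M : 𝒞} (u : M' ⟶ M) : (M ⟶ N) →ₗ[R] (M' ⟶ N) where
  toFun f := u ≫ f
  map_add' f g := Preadditive.comp_add _ _ _ _ _ _
  map_smul' r f := Linear.comp_smul _ _ _ u r f

theorem extDeltaZeroIso_naturality {M' M : 𝒞} (u : M' ⟶ M) :
    (extDelta R N).map 0 u ≫ (extDeltaZeroIso R N M').hom =
      (extDeltaZeroIso R N M).hom ≫ ModuleCat.ofHom (precompLin R N u) := by
  apply ModuleCat.hom_ext
  apply LinearMap.ext
  intro x
  obtain ⟨f, rfl⟩ := Ext.addEquiv₀.symm.surjective x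
  change Ext.addEquiv₀ ((Ext.mk₀ u).comp (Ext.addEquiv₀.symm f) (zero_add 0)) =
    u ≫ Ext.addEquiv₀ (Ext.addEquiv₀.symm f)
  rw [AddEquiv.apply_symm_apply]
  have h1 : Ext.addEquiv₀.symm f = Ext.mk₀ f := rfl
  rw [h1, Ext.mk₀_comp_mk₀]
  exact Ext.addEquiv₀.apply_symm_apply (u ≫ f)

end ExtDelta3

end Groth.Agent.Lib.T2H6.ExtSec
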