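import Mathlib
import Groth.Agent.Lib.T2H6ExtSecC
import Groth.Agent.Lib.T2H6ExtSecE
import Groth.Agent.Lib.T2H4ExtShCoh
import Groth.Agent.Lib.T2H5SerreRelGen
import Groth.Agent.Lib.Helper21RelExt
set_option backward.isDefEq.respectTransparency.types false

/-!
# T2H6ExtSecF (helper6): sections over an affine open via the localised site; images of resolutions

Namespace `Groth.Agent.Lib.T2H6.ExtSec`.

* `mapResn` : image of a `Resn` under a functor preserving its exactness.
* `ΓU U` : `Γ(T₀, -)` on `Mod(O_X|_U)` (localised site); `epi_ΓU_map` (epis of quasi-coherent modules over an affine open are surjective on sections).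
* `QCoh U` : coherence through `Φ U`; stable under kernels, cokernels; contains finite free modules.
-/

set_option autoImplicit false
set_option linter.style.haveILetI false
universe u
open CategoryTheory CategoryTheory.Limits Opposite AlgebraicGeometry TopologicalSpace

namespace Groth.Agent.Lib.T2H6.ExtSec

open Groth.Agent.Lib.T2H9.ShHom Groth.Agent.Lib.T2H4.ExtShCoh Groth.Agent.Lib.Helper21.CoDeltaLib
  Groth.Agent.Lib.Helper21.ExtShDelta Groth.Agent.Lib.T2H5.Devissage
  Groth.Agent.Lib.T2H5.GenIsoA Groth.Agent.Lib.T2H5.GenIsoB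

attribute [local instance] Groth.Agent.Lib.Helper21.ExtShDelta.hasSheafHom

section MapResn

universe v₁ u₁ v₂ u₂
variable {𝒟 : Type u₁} [Category.{v₁} 𝒟] [Abelian 𝒟] {𝒟' : Type u₂} [Category.{v₂} 𝒟'] [Abelian 𝒟']

/-- the image of a resolution under a functor preserving its exactness. -/
noncomputable def mapResn (T : 𝒟 ⥤ 𝒟') [T.PreservesZeroMorphisms] {F : 𝒟} (R : Resn F)
    (hepi : Epi (T.map R.π)) (hex₀ : ((ShortComplex.mk _ _ R.w₀).map T).Exact)
    (hex : ∀ j, ((ShortComplex.mk _ _ (R.w j)).map T).Exact) : Resn (T.obj F) where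
  X j := T.obj (R.X j)
  d j := T.map (R.d j)
  π := T.map R.π
  epi := hepi
  w₀ := by rw [← T.map_comp, R.w₀, T.map_zero]
  ex₀ := hex₀
  w j := by rw [← T.map_comp, R.w j, T.map_zero]
  ex := hex

end MapResn

variable {X : Scheme.{u}} (U : X.Opens)

/-- the image of the terminal open of `U` in `Over U`. -/
noncomputable abbrev W₀ : Over U := (Opens.overEquivalence U).inverse.obj ⊤

/-- `T₀ ≅ W₀` in `Over U`. -/
noncomputable def e₀ : T₀ U ≅ W₀ U :=
  (hT₀ U).uniqueUpToIso (IsTerminal.isTerminalObj (Opens.overEquivalence U).inverse ⊤ isTerminalTop)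

theorem app_top_eq {Y Z : ModSite.Mod (X.sheaf.over U)} (p : Y ⟶ Z) (y : Y.val.obj (op (W₀ U))) :
    Scheme.Modules.Hom.app ((Φ U).map p) ⊤ y = p.val.app (op (W₀ U)) y := rfl

/-- `Γ(T₀, -)` on modules over the localised site of an affine open. -/
noncomputable abbrev ΓU : ModSite.Mod (X.sheaf.over U) ⥤ ModuleCat.{u} ((X.sheaf.over U).obj.obj (op (T₀ U))) :=
  Γ₀ (X.sheaf.over U) (T₀ U)

theorem map_inv_map_hom (Z : ModSite.Mod (X.sheaf.over U)) (z : Z.val.obj (op (T₀ U))) :
    Z.val.map (e₀ U).hom.op (Z.val.map (e₀ U).inv.op z) = z := by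
  rw [← PresheafOfModules.map_comp_apply, ← op_comp, Iso.hom_inv_id, op_id]
  exact Groth.Agent.Lib.Helper21.UnitHom.map_id_apply' _ _ _

/-- an epimorphism between quasi-coherent modules over an affine open is surjective on sections. -/
theorem epi_ΓU_map (hU : IsAffineOpen U) {Y Z : ModSite.Mod (X.sheaf.over U)} (p : Y ⟶ Z) [Epi p]
    (hY : ((Φ U).obj Y).IsQuasicoherent) (hZ : ((Φ U).obj Z).IsQuasicoherent) :
    Epi ((ΓU U).map p) := by
  haveI : IsAffine (↑U : Scheme.{u}) := hU
  haveI : Epi ((Φ U).map p) := inferInstance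
  have hs := Groth.Agent.Lib.T2H5.SerreRelGen.surjective_app_of_epi_of_isAffineOpen ((Φ U).map p)
    (isAffineOpen_top (↑U : Scheme.{u}))
  rw [ModuleCat.epi_iff_surjective]
  intro z
  obtain ⟨y', hy'⟩ := hs (show Z.val.obj (op (W₀ U)) from Z.val.map (e₀ U).inv.op z)
  refine ⟨Y.val.map (e₀ U).hom.op y', ?_⟩
  have h1 : p.val.app (op (T₀ U)) (Y.val.map (e₀ U).hom.op y') =
      Z.val.map (e₀ U).hom.op (p.val.app (op (W₀ U)) y') :=
    PresheafOfModules.naturality_apply p.val (e₀ U).hom.op y'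
  refine h1.trans ?_
  have h2 : p.val.app (op (W₀ U)) y' = Z.val.map (e₀ U).inv.op z := hy'
  rw [h2]
  exact map_inv_map_hom U Z z

/-- coherent modules on the localised site. -/
def QCoh (Y : ModSite.Mod (X.sheaf.over U)) : Prop := Coh.IsCoh ((Φ U).obj Y)

theorem QCoh_kernel [IsLocallyNoetherian X] {A B : ModSite.Mod (X.sheaf.over U)} (f : A ⟶ B) (hA : QCoh U A) (hB : QCoh U B) :
    QCoh U (kernel f) :=
  isCoh_of_iso (PreservesKernel.iso (Φ U) f).symm (isCoh_kernel _ hA hB)

theorem QCoh_cokernel {A B : ModSite.Mod (X.sheaf.over U)} (f : A ⟶ B) (hA : QCoh U A) (hB : QCoh U B) :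
    QCoh U (cokernel f) :=
  isCoh_of_iso (PreservesCokernel.iso (Φ U) f).symm (isCoh_cokernel _ hA hB)

theorem QCoh_epi (hU : IsAffineOpen U) {A B : ModSite.Mod (X.sheaf.over U)} (p : A ⟶ B) (hp : Epi p)
    (hA : QCoh U A) (hB : QCoh U B) : Epi ((ΓU U).map p) :=
  epi_ΓU_map U hU p hA.1 hB.1

theorem QCoh_free (b : ℕ) : QCoh U (Lb (X.sheaf.over U) b) := isCoh_Φ_free U b

end Groth.Agent.Lib.T2H6.ExtSec
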