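import Mathlib
import Groth.Agent.Lib.T2H6ExtSecF
set_option backward.isDefEq.respectTransparency.types false

set_option autoImplicit false
set_option linter.style.haveILetI false
universe u
open CategoryTheory CategoryTheory.Limits Opposite AlgebraicGeometry TopologicalSpace

namespace Groth.Agent.Lib.T2H6.ExtSec

open Groth.Agent.Lib.T2H9.ShHom Groth.Agent.Lib.T2H4.ExtShCoh Groth.Agent.Lib.Helper21.CoDeltaLib
  Groth.Agent.Lib.Helper21.ExtShDelta Groth.Agent.Lib.T2H5.Devissage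
  Groth.Agent.Lib.T2H5.GenIsoA Groth.Agent.Lib.T2H5.GenIsoB

attribute [local instance] Groth.Agent.Lib.Helper21.ExtShDelta.hasSheafHom

theorem rightDerivedZeroIsoSelf_hom_nat {C D : Type*} [Category C] [Category D] [Abelian C] [Abelian D]
    [HasInjectiveResolutions C] {F F' : C ⥤ D} [F.Additive] [F'.Additive]
    [PreservesFiniteLimits F] [PreservesFiniteLimits F'] (θ : F ⟶ F') (A : C) :
    (NatTrans.rightDerived θ 0).app A ≫ (Functor.rightDerivedZeroIsoSelf F').hom.app A =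
      (Functor.rightDerivedZeroIsoSelf F).hom.app A ≫ θ.app A := by
  have h := Groth.Agent.Lib.Helper21.RelExt.toRightDerivedZero_nat θ A
  have h1 : θ.app A = F.toRightDerivedZero.app A ≫ (NatTrans.rightDerived θ 0).app A ≫
      (Functor.rightDerivedZeroIsoSelf F').hom.app A := by
    rw [← Category.assoc, ← h, Category.assoc, Functor.rightDerivedZeroIsoSelf_inv_hom_id_app,
      Category.comp_id]
  rw [h1, Functor.rightDerivedZeroIsoSelf_hom_inv_id_app_assoc]

section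

variable {C : Type u} [SmallCategory C] {J : GrothendieckTopology C} (O : Sheaf J CommRingCat.{u})
variable {T : C} (hT : IsTerminal T)

/-- the `nu` square in the first variable, as a commutative square of modules. -/
theorem nu_square {L' L : ModSite.Mod O} (u : L' ⟶ L) (Y : ModSite.Mod O) :
    (Γ₀ O T).map ((ExtSupp.sheafHomMap u).app Y) ≫ ModuleCat.ofHom (R := O.obj.obj (op T)) (nu O hT L' Y) =
      ModuleCat.ofHom (R := O.obj.obj (op T)) (nu O hT L Y) ≫
        ModuleCat.ofHom (R := O.obj.obj (op T)) (precompLin (O.obj.obj (op T)) ((Γ₀ O T).obj Y) ((Γ₀ O T).map u)) := by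
  apply ModuleCat.hom_ext
  apply LinearMap.ext
  intro s
  exact nu_naturality_left O hT u Y s

end


variable {X : Scheme.{u}} [IsLocallyNoetherian X] (U : X.Opens) (hU : IsAffineOpen U)
  [HasInjectiveResolutions (ModSite.Mod (X.sheaf.over U))]

include hU in
theorem nonempty_ΓU_extSh_iso (F' G' : ModSite.Mod (X.sheaf.over U)) (hF' : QCoh U F')
    (hG' : QCoh U G') (i : ℕ) :
    Nonempty ((ΓU U).obj (((ModSite.sheafHom F').rightDerived i).obj G') ≅
      ModuleCat.of ((X.sheaf.over U).obj.obj (op (T₀ U)))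
        (Abelian.Ext.{u} ((ΓU U).obj F') ((ΓU U).obj G') i)) := by
  have hres : ∀ M, QCoh U M → ∃ (L : ModSite.Mod (X.sheaf.over U)) (g : L ⟶ M), Epi g ∧
      (∃ b, L = Lb (X.sheaf.over U) b) ∧ QCoh U (kernel g) := by
    intro M hM
    obtain ⟨b, g, hg, hK⟩ := exists_resolution U hU M hM
    exact ⟨_, g, hg, ⟨b, rfl⟩, hK⟩
  obtain ⟨R, hR⟩ := exists_resn hres F' hF'
  have hQX : ∀ j, QCoh U (R.X j) := by
    intro j
    obtain ⟨b, hb⟩ := hR j
    rw [hb]
    exact QCoh_free U b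
  have hexmap : ∀ S : ShortComplex (ModSite.Mod (X.sheaf.over U)), QCoh U S.X₁ → QCoh U S.X₂ →
      QCoh U S.X₃ → S.Exact → (S.map (ΓU U)).Exact :=
    fun S h₁ h₂ h₃ hS => exact_map_of_exact (ΓU U) (QCoh U) (QCoh_kernel U) (QCoh_cokernel U)
      (QCoh_epi U hU) S h₁ h₂ h₃ hS
  let R' : Resn ((ΓU U).obj F') := mapResn (ΓU U) R
    (QCoh_epi U hU R.π R.epi (hQX 0) hF')
    (hexmap _ (hQX 1) (hQX 0) hF' R.ex₀)
    (fun j => hexmap _ (hQX (j + 2)) (hQX (j + 1)) (hQX j) (R.ex j))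
  let Δ := extShDelta G'
  let Δ' := extDelta ((X.sheaf.over U).obj.obj (op (T₀ U))) ((ΓU U).obj G')
  have hacyc : ∀ j p : ℕ, 1 ≤ p → IsZero (Δ.E p (R.X j)) := by
    intro j p hp
    obtain ⟨b, hb⟩ := hR j
    obtain ⟨q, rfl⟩ := Nat.exists_eq_add_of_le' hp
    exact isZero_extSh_free G' (R.X j) (eqToIso hb) q
  have hacyc' : ∀ j p : ℕ, 1 ≤ p → IsZero (Δ'.E p (R'.X j)) := by
    intro j p hp
    obtain ⟨b, hb⟩ := hR j
    obtain ⟨q, rfl⟩ := Nat.exists_eq_add_of_le' hp
    haveI : Projective (R'.X j) := by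
      change Projective ((ΓU U).obj (R.X j))
      rw [hb]
      exact projective_Γ₀_Lb (X.sheaf.over U) b
    exact isZero_extDelta_succ_of_projective _ ((ΓU U).obj G') (R'.X j) q
  have hbij : ∀ j, Function.Bijective (nu (X.sheaf.over U) (hT₀ U) (R.X j) G') := by
    intro j
    obtain ⟨b, hb⟩ := hR j
    rw [hb]
    exact nu_bijective_Lb (X.sheaf.over U) (hT₀ U) b G'
  haveI : ∀ j, PreservesFiniteLimits (ModSite.sheafHom (R.X j)) :=
    fun j => sheafHom_preservesFiniteLimits (X.sheaf.over U) (R.X j)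
  let θ : ∀ j, (ΓU U).obj (Δ.E 0 (R.X j)) ≅ Δ'.E 0 (R'.X j) := fun j =>
    (ΓU U).mapIso ((Functor.rightDerivedZeroIsoSelf (ModSite.sheafHom (R.X j))).app G') ≪≫
      (LinearEquiv.ofBijective (nu (X.sheaf.over U) (hT₀ U) (R.X j) G') (hbij j)).toModuleIso ≪≫
      (extDeltaZeroIso ((X.sheaf.over U).obj.obj (op (T₀ U))) ((ΓU U).obj G')
        ((ΓU U).obj (R.X j))).symm
  have hθ : ∀ j, (ΓU U).map (Δ.map 0 (R.d j)) ≫ (θ (j + 1)).hom =
      (θ j).hom ≫ Δ'.map 0 (R'.d j) := by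
    intro j
    have ha := rightDerivedZeroIsoSelf_hom_nat (ExtSupp.sheafHomMap (R.d j)) G'
    have hb := nu_square (X.sheaf.over U) (hT₀ U) (R.d j) G'
    have hc := extDeltaZeroIso_naturality ((X.sheaf.over U).obj.obj (op (T₀ U))) ((ΓU U).obj G')
      ((ΓU U).map (R.d j))
    have hc' : (extDeltaZeroIso ((X.sheaf.over U).obj.obj (op (T₀ U))) ((ΓU U).obj G')
          ((ΓU U).obj (R.X j))).inv ≫
        (extDelta ((X.sheaf.over U).obj.obj (op (T₀ U))) ((ΓU U).obj G')).map 0 ((ΓU U).map (R.d j)) =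
        ModuleCat.ofHom (R := (X.sheaf.over U).obj.obj (op (T₀ U)))
          (precompLin ((X.sheaf.over U).obj.obj (op (T₀ U))) ((ΓU U).obj G') ((ΓU U).map (R.d j))) ≫
        (extDeltaZeroIso ((X.sheaf.over U).obj.obj (op (T₀ U))) ((ΓU U).obj G')
          ((ΓU U).obj (R.X (j + 1)))).inv := by
      rw [Iso.inv_comp_eq, ← Category.assoc, Iso.eq_comp_inv]
      exact hc
    change (ΓU U).map ((NatTrans.rightDerived (ExtSupp.sheafHomMap (R.d j)) 0).app G') ≫
      ((ΓU U).map ((Functor.rightDerivedZeroIsoSelf (ModSite.sheafHom (R.X (j + 1)))).hom.app G') ≫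
        ModuleCat.ofHom (R := (X.sheaf.over U).obj.obj (op (T₀ U)))
          (nu (X.sheaf.over U) (hT₀ U) (R.X (j + 1)) G') ≫
        (extDeltaZeroIso ((X.sheaf.over U).obj.obj (op (T₀ U))) ((ΓU U).obj G')
          ((ΓU U).obj (R.X (j + 1)))).inv) =
      ((ΓU U).map ((Functor.rightDerivedZeroIsoSelf (ModSite.sheafHom (R.X j))).hom.app G') ≫
        ModuleCat.ofHom (R := (X.sheaf.over U).obj.obj (op (T₀ U)))
          (nu (X.sheaf.over U) (hT₀ U) (R.X j) G') ≫
        (extDeltaZeroIso ((X.sheaf.over U).obj.obj (op (T₀ U))) ((ΓU U).obj G')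
          ((ΓU U).obj (R.X j))).inv) ≫
      (extDelta ((X.sheaf.over U).obj.obj (op (T₀ U))) ((ΓU U).obj G')).map 0 ((ΓU U).map (R.d j))
    rw [← Category.assoc, ← Functor.map_comp, ha, Functor.map_comp, Category.assoc, Category.assoc,
      Category.assoc, hc']
    congr 1
    have hb' := hb =≫ (extDeltaZeroIso ((X.sheaf.over U).obj.obj (op (T₀ U))) ((ΓU U).obj G')
          ((ΓU U).obj (R.X (j + 1)))).inv
    rw [Category.assoc, Category.assoc] at hb'
    exact hb'
  have hT : ∀ i, Nonempty (((scE Δ R i).map (ΓU U)).homology ≅ (ΓU U).obj (scE Δ R i).homology) := by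
    intro i
    have hE : ∀ j, QCoh U (Δ.E 0 (R.X j)) := fun j => isCoh_Φ_extSh U hU G' hG' 0 (R.X j) (hQX j)
    exact nonempty_homology_map_iso (ΓU U) (QCoh U) (QCoh_kernel U) (QCoh_cokernel U)
      (QCoh_epi U hU) (scE Δ R i) (hE i) (hE (i + 1)) (hE (i + 2))
  cases i with
  | zero => exact compare_zero Δ R Δ' R' (ΓU U) θ hθ
  | succ i => exact compare_succ Δ R hacyc Δ' R' hacyc' (ΓU U) θ hθ i (hT i)

end Groth.Agent.Lib.T2H6.ExtSec
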