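import Mathlib
import Groth.Agent.Lib.T2H6ExtSecG
import Groth.Agent.S12887
import Groth.Agent.S0485
set_option backward.isDefEq.respectTransparency.types false

/-!
# T2H6ExtSecH (helper6): sections of the local Ext sheaves over an affine open

Namespace `Groth.Agent.Lib.T2H6.ExtSec`.

* `extCongrLeft/Right`, `extCongr` : invariance of `Ext` of modules under isomorphisms.
* `secRestrEquiv U H : H(U) ≃ₗ Γ(T₀, H|_U)`.
* `nonempty_sections_extSh_equiv` : `Γ(U, ℰxt^i(F, G)) ≃ₗ Ext^i_{Γ(U,O)}(F(U), G(U))` for `F`, `G` coherent on a locally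
  Noetherian scheme, `U` affine open.
-/

set_option autoImplicit false
set_option linter.style.haveILetI false
universe u
open CategoryTheory CategoryTheory.Limits Opposite AlgebraicGeometry TopologicalSpace CategoryTheory.Abelian

namespace Groth.Agent.Lib.T2H6.ExtSec

open Groth.Agent.Lib.T2H9.ShHom Groth.Agent.Lib.T2H4.ExtShCoh Groth.Agent.Lib.Helper21.CoDeltaLib
  Groth.Agent.Lib.Helper21.ExtShDelta Groth.Agent.Lib.T2H5.Devissage
  Groth.Agent.Lib.T2H5.GenIsoA Groth.Agent.Lib.T2H5.GenIsoB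

attribute [local instance] Groth.Agent.Lib.Helper21.ExtShDelta.hasSheafHom

section congr

variable {B : Type u} [CommRing B]

/-- `Ext` is invariant under isomorphisms in the first variable. -/
noncomputable def extCongrLeft {M M' : ModuleCat.{u} B} (a : M ≅ M') (N : ModuleCat.{u} B) (i : ℕ) :
    Ext.{u} M N i ≃ₗ[B] Ext.{u} M' N i :=
  LinearEquiv.ofLinearMap ((Ext.mk₀ a.inv).precompOfLinear B N (zero_add i))
    ((Ext.mk₀ a.hom).precompOfLinear B N (zero_add i))
    (by
      ext z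
      change (Ext.mk₀ a.inv).comp ((Ext.mk₀ a.hom).comp z (zero_add i)) (zero_add i) = z
      rw [Ext.mk₀_comp_mk₀_assoc, a.inv_hom_id, Ext.mk₀_id_comp])
    (by
      ext z
      change (Ext.mk₀ a.hom).comp ((Ext.mk₀ a.inv).comp z (zero_add i)) (zero_add i) = z
      rw [Ext.mk₀_comp_mk₀_assoc, a.hom_inv_id, Ext.mk₀_id_comp])

/-- `Ext` is invariant under isomorphisms in the second variable. -/
noncomputable def extCongrRight (M : ModuleCat.{u} B) {N N' : ModuleCat.{u} B} (b : N ≅ N') (i : ℕ) :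
    Ext.{u} M N i ≃ₗ[B] Ext.{u} M N' i :=
  LinearEquiv.ofLinearMap ((Ext.mk₀ b.hom).postcompOfLinear B M (add_zero i))
    ((Ext.mk₀ b.inv).postcompOfLinear B M (add_zero i))
    (by
      ext z
      change (z.comp (Ext.mk₀ b.inv) (add_zero i)).comp (Ext.mk₀ b.hom) (add_zero i) = z
      rw [Ext.comp_assoc_of_third_deg_zero, Ext.mk₀_comp_mk₀, b.inv_hom_id, Ext.comp_mk₀_id])
    (by
      ext z
      change (z.comp (Ext.mk₀ b.hom) (add_zero i)).comp (Ext.mk₀ b.inv) (add_zero i) = z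
      rw [Ext.comp_assoc_of_third_deg_zero, Ext.mk₀_comp_mk₀, b.hom_inv_id, Ext.comp_mk₀_id])

/-- `Ext` is invariant under isomorphisms in both variables. -/
noncomputable def extCongr {M M' N N' : ModuleCat.{u} B} (a : M ≅ M') (b : N ≅ N') (i : ℕ) :
    Ext.{u} M N i ≃ₗ[B] Ext.{u} M' N' i :=
  extCongrLeft a N i ≪≫ₗ extCongrRight M' b i

end congr

variable {X : Scheme.{u}} (U : X.Opens)

/-- sections over `U` are the global sections of the restriction to the localised site. -/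
noncomputable def secRestrEquiv (H : ModSite.Mod X.sheaf) :
    H.val.obj (op U) ≃ₗ[Γ(X, U)] ((ModSite.restr X.sheaf U).obj H).val.obj (op (T₀ U)) where
  toFun x := x
  invFun x := x
  map_add' _ _ := rfl
  map_smul' _ _ := rfl
  left_inv _ := rfl
  right_inv _ := rfl

include U in
theorem QCoh_restr (F : X.Modules) (hF : Coh.IsCoh F) : QCoh U ((ModSite.restr X.sheaf U).obj F) := by
  haveI := hF.1
  haveI := hF.2
  have eF : (Φ U).obj ((ModSite.restr X.sheaf U).obj F) ≅ F.restrict U.ι :=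
    (Scheme.Modules.overFunctorEquiv U).app _
  have hF' : Coh.IsCoh (F.restrict U.ι) :=
    ⟨Scheme.Modules.isQuasicoherent_restrictFunctor U.ι F,
      Groth.Agent.Lib.Helper23.FinType.isFiniteType_restrict U.ι F⟩
  exact isCoh_of_iso eF.symm hF'

variable [IsLocallyNoetherian X]

/-- **Sections of the local Ext sheaves over an affine open** of a locally Noetherian scheme:
`Γ(U, ℰxt^i(F, G)) ≃ Ext^i_{Γ(U, O)}(F(U), G(U))` for `F`, `G` coherent. -/
theorem nonempty_sections_extSh_equiv (hU : IsAffineOpen U) (F G : X.Modules) (hF : Coh.IsCoh F)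
    (hG : Coh.IsCoh G) [ModSite.HasSheafHom (O := X.sheaf) F]
    [HasInjectiveResolutions (ModSite.Mod X.sheaf)] (i : ℕ) :
    Nonempty (((ModSite.extSh (O := X.sheaf) F i).obj G).val.obj (op U)
      ≃ₗ[Γ(X, U)] Abelian.Ext.{u} (ModuleCat.of Γ(X, U) (F.val.obj (op U)))
        (ModuleCat.of Γ(X, U) (G.val.obj (op U))) i) := by
  haveI : EnoughInjectives (ModSite.Mod (X.sheaf.over U)) :=
    Groth.Agent.S0485.result ((Opens.grothendieckTopology X).over U) _
  obtain ⟨φ⟩ := Groth.Agent.S12887.result X.sheaf U F i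
  obtain ⟨ψ⟩ := nonempty_ΓU_extSh_iso U hU _ _ (QCoh_restr U F hF) (QCoh_restr U G hG) i
  let e₁ := secRestrEquiv U ((ModSite.extSh (O := X.sheaf) F i).obj G)
  let e₂ := ((ΓU U).mapIso (φ.app G)).toLinearEquiv
  let e₃ := ψ.toLinearEquiv
  let a : (ΓU U).obj ((ModSite.restr X.sheaf U).obj F) ≅ ModuleCat.of Γ(X, U) (F.val.obj (op U)) :=
    (secRestrEquiv U F).symm.toModuleIso
  let b : (ΓU U).obj ((ModSite.restr X.sheaf U).obj G) ≅ ModuleCat.of Γ(X, U) (G.val.obj (op U)) :=
    (secRestrEquiv U G).symm.toModuleIso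
  exact ⟨e₁ ≪≫ₗ e₂ ≪≫ₗ e₃ ≪≫ₗ extCongr a b i⟩

end Groth.Agent.Lib.T2H6.ExtSec
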