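import Mathlib

set_option autoImplicit false
open CategoryTheory AlgebraicGeometry Cardinal

universe u

namespace Groth.Agent.Lib.T2H6.Uncountable

/-- A field extension of an uncountable field which has countable dimension is algebraic. -/
theorem isAlgebraic_of_rank_le_aleph0 (k : Type u) [Field k] [Uncountable k] (L : Type u) [Field L]
    [Algebra k L] (h : Module.rank k L ≤ ℵ₀) : Algebra.IsAlgebraic k L := by
  by_contra hna
  rw [← Algebra.transcendental_iff_not_isAlgebraic] at hna
  have h1 := Algebra.Transcendental.rank_eq_cardinalMk k L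
  have h2 : #k ≤ #L := Cardinal.mk_le_of_injective (algebraMap k L).injective
  have h3 : ℵ₀ < #k := Cardinal.aleph0_lt_mk_iff.2 inferInstance
  rw [h1] at h
  exact absurd (h3.trans_le h2) (not_lt.2 h)

/-- Over an uncountable field, a finitely generated domain has a maximal ideal avoiding
countably many given nonzero elements. -/
theorem exists_maximal_avoiding_domain (k : Type u) [Field k] [Uncountable k] (D : Type u)
    [CommRing D] [IsDomain D] [Algebra k D] [Algebra.FiniteType k D] (f : ℕ → D)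
    (hf : ∀ n, f n ≠ 0) : ∃ m : Ideal D, m.IsMaximal ∧ ∀ n, f n ∉ m := by
  let K := FractionRing D
  obtain ⟨G, hG⟩ := (Algebra.FiniteType.out : (⊤ : Subalgebra k D).FG)
  let T : Set K := (algebraMap D K '' (G : Set D)) ∪ Set.range (fun n => (algebraMap D K (f n))⁻¹)
  have hT : T.Countable :=
    (G.finite_toSet.image _).countable.union (Set.countable_range _)
  let B : Subalgebra k K := Algebra.adjoin k T
  have hDB : ∀ d : D, algebraMap D K d ∈ B := by
    intro d
    have h1 : d ∈ Algebra.adjoin k (G : Set D) := by rw [hG]; trivial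
    have h2 : (IsScalarTower.toAlgHom k D K) d ∈
        (Algebra.adjoin k (G : Set D)).map (IsScalarTower.toAlgHom k D K) :=
      ⟨d, h1, rfl⟩
    rw [AlgHom.map_adjoin] at h2
    exact Algebra.adjoin_mono Set.subset_union_left h2
  have hinvB : ∀ n, (algebraMap D K (f n))⁻¹ ∈ B := fun n =>
    Algebra.subset_adjoin (Or.inr ⟨n, rfl⟩)
  obtain ⟨M, hM⟩ := Ideal.exists_maximal B
  let L := B ⧸ M
  let _ : Field L := Ideal.Quotient.field M
  have hrankB : Module.rank k B ≤ ℵ₀ := by
    refine (Algebra.rank_adjoin_le T).trans ?_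
    exact max_le (Cardinal.mk_le_aleph0_iff.2 hT.to_subtype) le_rfl
  have hrankL : Module.rank k L ≤ ℵ₀ :=
    (rank_quotient_le (M.restrictScalars k)).trans hrankB
  have halg : Algebra.IsAlgebraic k L := isAlgebraic_of_rank_le_aleph0 k L hrankL
  let φ : D →ₐ[k] L := (Ideal.Quotient.mkₐ k M).comp
    ((IsScalarTower.toAlgHom k D K).codRestrict B hDB)
  have hφ : ∀ n, φ (f n) ≠ 0 := by
    intro n h0
    have h1 : (Ideal.Quotient.mk M) (⟨algebraMap D K (f n), hDB (f n)⟩ : B) = 0 := h0
    have h2 : (⟨algebraMap D K (f n), hDB (f n)⟩ : B) * ⟨_, hinvB n⟩ = 1 := by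
      apply Subtype.ext
      change algebraMap D K (f n) * (algebraMap D K (f n))⁻¹ = 1
      exact mul_inv_cancel₀ (by simpa using hf n)
    have h3 := congrArg (Ideal.Quotient.mk M) h2
    rw [map_mul, h1, zero_mul, map_one] at h3
    exact zero_ne_one h3
  refine ⟨RingHom.ker φ.toRingHom, ?_, fun n hn => hφ n hn⟩
  have hprime : (RingHom.ker φ.toRingHom).IsPrime := RingHom.ker_isPrime _
  have : IsDomain (D ⧸ RingHom.ker φ.toRingHom) := Ideal.Quotient.isDomain _
  have halgQ : Algebra.IsAlgebraic k (D ⧸ RingHom.ker φ.toRingHom) := by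
    let ψ : (D ⧸ RingHom.ker φ.toRingHom) →ₐ[k] L := Ideal.Quotient.liftₐ _ φ (fun a ha => ha)
    have hψ : Function.Injective ψ := by
      rw [injective_iff_map_eq_zero]
      intro a ha
      obtain ⟨d, rfl⟩ := Ideal.Quotient.mk_surjective a
      exact Ideal.Quotient.eq_zero_iff_mem.2 ha
    exact Algebra.IsAlgebraic.of_injective ψ hψ
  have hfield : IsField (D ⧸ RingHom.ker φ.toRingHom) :=
    isField_of_isIntegral_of_isField' (R := k) (Field.toIsField k)
  exact Ideal.Quotient.maximal_of_isField _ hfield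

/-- Over an uncountable field, in a finitely generated algebra every prime ideal is contained in
a maximal ideal avoiding countably many given ideals not contained in the prime. -/
theorem exists_maximal_avoiding (k : Type u) [Field k] [Uncountable k] (A : Type u)
    [CommRing A] (φ : k →+* A) (hφ : φ.FiniteType) (p : Ideal A) [hp : p.IsPrime]
    (I : ℕ → Ideal A) (hI : ∀ n, ¬ I n ≤ p) :
    ∃ m : Ideal A, m.IsMaximal ∧ p ≤ m ∧ ∀ n, ¬ I n ≤ m := by
  let _ := φ.toAlgebra
  have hft : Algebra.FiniteType k A := hφ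
  have hex : ∀ n, ∃ a, a ∈ I n ∧ a ∉ p := fun n => by
    by_contra h
    push Not at h
    exact hI n h
  choose a haI hap using hex
  have : IsDomain (A ⧸ p) := Ideal.Quotient.isDomain p
  obtain ⟨m₀, hm₀, hm₀f⟩ := exists_maximal_avoiding_domain k (A ⧸ p)
    (fun n => Ideal.Quotient.mk p (a n))
    (fun n h0 => hap n (Ideal.Quotient.eq_zero_iff_mem.1 h0))
  refine ⟨m₀.comap (Ideal.Quotient.mk p),
    Ideal.comap_isMaximal_of_surjective _ Ideal.Quotient.mk_surjective, ?_, fun n hn => ?_⟩
  · intro x hx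
    change Ideal.Quotient.mk p x ∈ m₀
    rw [Ideal.Quotient.eq_zero_iff_mem.2 hx]
    exact m₀.zero_mem
  · exact hm₀f n (hn (haI n))


/-- Over an uncountable field, a point of a scheme locally of finite type lying in none of
countably many closed subsets specializes, inside any given affine open neighbourhood, to a closed
point lying in none of them. -/
theorem exists_closedPoint_specializing (k : Type u) [Field k] [Uncountable k] {X : Scheme.{u}}
    (sX : X ⟶ Spec (CommRingCat.of k)) [LocallyOfFiniteType sX]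
    (Z : ℕ → TopologicalSpace.Closeds X) (ξ : X)
    (hξ : ∀ n, ξ ∉ Z n) (U : X.Opens) (hU : IsAffineOpen U) (hξU : ξ ∈ U) :
    ∃ x : X, ξ ⤳ x ∧ x ∈ U ∧ IsClosed ({x} : Set X) ∧ ∀ n, x ∉ Z n := by
  have hJ : JacobsonSpace X := LocallyOfFiniteType.jacobsonSpace sX
  have htop : IsAffineOpen (⊤ : (Spec (CommRingCat.of k)).Opens) := isAffineOpen_top _
  have hft := Scheme.Hom.finiteType_appLE sX htop hU le_top
  let φ : k →+* Γ(X, U) :=
    (sX.appLE ⊤ U le_top).hom.comp (Scheme.ΓSpecIso (CommRingCat.of k)).inv.hom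
  have hφ : φ.FiniteType := by
    refine RingHom.FiniteType.comp hft (RingHom.FiniteType.of_surjective _ ?_)
    exact (ConcreteCategory.bijective_of_isIso (Scheme.ΓSpecIso (CommRingCat.of k)).inv).2
  let p := hU.primeIdealOf ⟨ξ, hξU⟩
  have hp : hU.fromSpec p = ξ := hU.fromSpec_primeIdealOf ⟨ξ, hξU⟩
  let I : ℕ → Ideal Γ(X, U) := fun n =>
    PrimeSpectrum.vanishingIdeal (hU.fromSpec ⁻¹' (Z n : Set X))
  have hcl : ∀ n, IsClosed (hU.fromSpec ⁻¹' (Z n : Set X)) := fun n =>
    (Z n).isClosed.preimage hU.fromSpec.continuous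
  have hzl : ∀ n, PrimeSpectrum.zeroLocus (I n : Set Γ(X, U)) = hU.fromSpec ⁻¹' (Z n : Set X) :=
    fun n => by
      rw [PrimeSpectrum.zeroLocus_vanishingIdeal_eq_closure]
      exact (hcl n).closure_eq
  have hI : ∀ n, ¬ I n ≤ p.asIdeal := by
    intro n hle
    have h1 : p ∈ PrimeSpectrum.zeroLocus (I n : Set Γ(X, U)) := hle
    rw [hzl n] at h1
    have h2 : hU.fromSpec p ∈ (Z n : Set X) := h1
    rw [hp] at h2
    exact hξ n h2
  obtain ⟨m, hm, hpm, hIm⟩ := exists_maximal_avoiding k Γ(X, U) φ hφ p.asIdeal I hI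
  let q : PrimeSpectrum Γ(X, U) := ⟨m, hm.isPrime⟩
  have hpq : p ⤳ q := (PrimeSpectrum.le_iff_specializes p q).1 hpm
  refine ⟨hU.fromSpec q, ?_, ?_, ?_, fun n hn => ?_⟩
  · rw [← hp]
    exact hpq.map hU.fromSpec.continuous
  · have : hU.fromSpec q ∈ Set.range hU.fromSpec := ⟨q, rfl⟩
    rw [hU.range_fromSpec] at this
    exact this
  · apply isClosed_singleton_of_isLocallyClosed_singleton
    have hq : IsClosed ({q} : Set (PrimeSpectrum Γ(X, U))) :=
      (PrimeSpectrum.isClosed_singleton_iff_isMaximal q).2 hm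
    have := hq.isLocallyClosed.image hU.fromSpec.isOpenEmbedding.isInducing
      hU.fromSpec.isOpenEmbedding.isOpen_range.isLocallyClosed
    rwa [Set.image_singleton] at this
  · have h1 : q ∈ hU.fromSpec ⁻¹' (Z n : Set X) := hn
    rw [← hzl n] at h1
    exact hIm n h1

/-- The generic point of an irreducible scheme lies in no proper closed subset. -/
theorem genericPoint_notMem {X : Scheme.{u}} [IrreducibleSpace X]
    (Z : TopologicalSpace.Closeds X) (hZ : (Z : Set X) ≠ Set.univ) : genericPoint X ∉ Z := by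
  intro h
  apply hZ
  have h1 : closure ({genericPoint X} : Set X) ⊆ (Z : Set X) :=
    (Z.isClosed.closure_subset_iff).2 (Set.singleton_subset_iff.2 h)
  rw [(genericPoint_spec X).def] at h1
  exact Set.eq_univ_of_univ_subset h1

/-- Closed points outside countably many proper closed subsets, inside any nonempty open. -/
theorem exists_closedPoint_mem_open (k : Type u) [Field k] [Uncountable k] {X : Scheme.{u}}
    (sX : X ⟶ Spec (CommRingCat.of k)) [LocallyOfFiniteType sX] [IrreducibleSpace X]
    (Z : ℕ → TopologicalSpace.Closeds X) (hZ : ∀ n, (Z n : Set X) ≠ Set.univ)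
    (W : X.Opens) (hW : (W : Set X).Nonempty) :
    ∃ x : X, x ∈ W ∧ IsClosed ({x} : Set X) ∧ ∀ n, x ∉ Z n := by
  have hξW : genericPoint X ∈ W :=
    ((genericPoint_spec X).mem_open_set_iff W.2).2 (by simpa using hW)
  obtain ⟨U, hU, hξU, hUW⟩ := exists_isAffineOpen_mem_and_subset hξW
  obtain ⟨x, -, hxU, hxc, hxZ⟩ := exists_closedPoint_specializing k sX Z (genericPoint X)
    (fun n => genericPoint_notMem (Z n) (hZ n)) U hU hξU
  exact ⟨x, hUW hxU, hxc, hxZ⟩

end Groth.Agent.Lib.T2H6.Uncountable
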