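import Mathlib
import Groth.Agent.Lib.T2H6Uncountable

set_option autoImplicit false
set_option backward.isDefEq.respectTransparency false
set_option backward.isDefEq.respectTransparency.types false
open CategoryTheory AlgebraicGeometry TopologicalSpace

universe u

namespace Groth.Agent.Lib.T2H6.CountDecomp

open Groth.Agent.Lib.T2H6.Uncountable

variable {X : Scheme.{u}}

/-- The maximal points of a set under generalization. -/
def maxPts (A : Set X) : Set X := {ξ | ξ ∈ A ∧ ∀ ξ' ∈ A, ξ' ⤳ ξ → ξ ⤳ ξ'}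

/-- In a locally Noetherian scheme every point of a set is a specialization of a maximal point
of the set. -/
theorem exists_maxPt [IsLocallyNoetherian X] (A : Set X) (x : X) (hx : x ∈ A) :
    ∃ ξ ∈ maxPts A, ξ ⤳ x := by
  obtain ⟨U, hU, hxU, -⟩ := exists_isAffineOpen_mem_and_subset (X := X) (x := x) (U := ⊤) trivial
  have hN : IsNoetherianRing Γ(X, U) := IsLocallyNoetherian.component_noetherian ⟨U, hU⟩
  let px := hU.primeIdealOf ⟨x, hxU⟩
  have hpx : hU.fromSpec px = x := hU.fromSpec_primeIdealOf ⟨x, hxU⟩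
  let P : Set (PrimeSpectrum Γ(X, U)) := {p | hU.fromSpec p ∈ A ∧ p ≤ px}
  have hne : P.Nonempty := ⟨px, (by rw [hpx]; exact hx : hU.fromSpec px ∈ A), le_rfl⟩
  obtain ⟨m, hmP, hmin⟩ := (InvImage.wf (fun p : PrimeSpectrum Γ(X, U) => p.asIdeal.height)
    wellFounded_lt).has_min P hne
  have hind : Topology.IsInducing hU.fromSpec := hU.fromSpec.isOpenEmbedding.isInducing
  refine ⟨hU.fromSpec m, ⟨hmP.1, ?_⟩, ?_⟩
  · intro ξ' hξ'A hsp
    have hmU : hU.fromSpec m ∈ (U : Set X) := by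
      rw [← hU.range_fromSpec]; exact ⟨m, rfl⟩
    have hξ'U : ξ' ∈ U := hsp.mem_open U.2 hmU
    let p' := hU.primeIdealOf ⟨ξ', hξ'U⟩
    have hp' : hU.fromSpec p' = ξ' := hU.fromSpec_primeIdealOf ⟨ξ', hξ'U⟩
    have h1 : p' ⤳ m := by
      refine hind.specializes_iff.1 ?_
      rw [hp']; exact hsp
    have h2 : p' ≤ m := (PrimeSpectrum.le_iff_specializes p' m).2 h1
    have h3 : p' ∈ P := ⟨(by rw [hp']; exact hξ'A : hU.fromSpec p' ∈ A), h2.trans hmP.2⟩
    have h4 := hmin p' h3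
    have h5 : p' = m := by
      by_contra hne'
      have hlt : p'.asIdeal < m.asIdeal := lt_of_le_of_ne h2 (fun h => hne' (PrimeSpectrum.ext h))
      exact h4 (Ideal.height_strict_mono_of_isPrime hlt)
    rw [← hp', h5]
  · rw [← hpx]
    exact ((PrimeSpectrum.le_iff_specializes m px).1 hmP.2).map hU.fromSpec.continuous

/-- The closures of the maximal points of a countable union of closed subsets of a Noetherian
scheme form a countable family. -/
theorem exists_countable_closures [NoetherianSpace X] (Z : ℕ → Closeds X) :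
    ∃ C : Set (Set X), C.Countable ∧
      ∀ ξ ∈ maxPts {x : X | ∃ n, x ∈ Z n}, closure ({ξ} : Set X) ∈ C := by
  choose S hSf hSc hSi hSU using fun n =>
    NoetherianSpace.exists_finite_set_isClosed_irreducible (Z n).isClosed
  refine ⟨⋃ n, S n, Set.countable_iUnion fun n => (hSf n).countable, ?_⟩
  rintro ξ ⟨⟨n, hξn⟩, hmax⟩
  have h1 : ξ ∈ ⋃₀ S n := by rw [← hSU n]; exact hξn
  obtain ⟨T, hTS, hξT⟩ := h1
  have hirr := hSi n T hTS
  have hcl := hSc n T hTS
  obtain ⟨ζ, hgen⟩ : ∃ ζ : X, closure ({ζ} : Set X) = T :=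
    ⟨hirr.genericPoint, hirr.closure_genericPoint hcl⟩
  have hζT : ζ ∈ T := by rw [← hgen]; exact subset_closure rfl
  have hζA : ζ ∈ {x : X | ∃ n, x ∈ Z n} :=
    ⟨n, by change ζ ∈ (Z n : Set X); rw [hSU n]; exact ⟨T, hTS, hζT⟩⟩
  have hsp : ζ ⤳ ξ := specializes_iff_mem_closure.2 (by rw [hgen]; exact hξT)
  have hsp' := hmax _ hζA hsp
  have : closure ({ξ} : Set X) = T := by
    rw [← hgen]
    exact subset_antisymm (specializes_iff_closure_subset.1 hsp)
      (specializes_iff_closure_subset.1 hsp')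
  rw [this]
  exact Set.mem_iUnion.2 ⟨n, hTS⟩

/-- A point all of whose closed specializations lie in a countable union of closed subsets lies
in one of them. -/
theorem mem_of_closedPoints_mem (k : Type u) [Field k] [Uncountable k]
    (sX : X ⟶ Spec (CommRingCat.of k)) [LocallyOfFiniteType sX] (𝒢 : Set (Closeds X))
    (h𝒢 : 𝒢.Countable) (ζ : X)
    (h : ∀ x : X, IsClosed ({x} : Set X) → ζ ⤳ x → ∃ T ∈ 𝒢, x ∈ T) : ∃ T ∈ 𝒢, ζ ∈ T := by
  by_contra hcon
  push Not at hcon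
  obtain ⟨f, hf⟩ := Set.countable_iff_exists_subset_range.1 h𝒢
  classical
  let Z' : ℕ → Closeds X := fun n => if f n ∈ 𝒢 then f n else ⊥
  have hζ : ∀ n, ζ ∉ Z' n := by
    intro n
    by_cases hn : f n ∈ 𝒢
    · simp only [Z', if_pos hn]; exact hcon _ hn
    · simp only [Z', if_neg hn]; exact fun h => h
  obtain ⟨U, hU, hζU, -⟩ := exists_isAffineOpen_mem_and_subset (X := X) (x := ζ) (U := ⊤) trivial
  obtain ⟨x, hsp, -, hxc, hxZ⟩ := exists_closedPoint_specializing k sX Z' ζ hζ U hU hζU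
  obtain ⟨T, hT, hxT⟩ := h x hxc hsp
  obtain ⟨n, rfl⟩ := hf hT
  apply hxZ n
  simp only [Z', if_pos hT]
  exact hxT

theorem existsUnique_decomp (k : Type u) [Field k] [Uncountable k]
    (sX : X ⟶ Spec (CommRingCat.of k)) [LocallyOfFiniteType sX] [QuasiCompact sX]
    (Z : ℕ → Closeds X) :
    ∃! S : Set (Closeds X), S.Countable ∧ (∀ T ∈ S, IsIrreducible (T : Set X)) ∧
      IsAntichain (· ≤ ·) S ∧
      {x : X | IsClosed ({x} : Set X) ∧ ∃ T ∈ S, x ∈ T} =
        {x : X | IsClosed ({x} : Set X) ∧ ∃ n, x ∈ Z n} := by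
  have hLN : IsLocallyNoetherian X := LocallyOfFiniteType.isLocallyNoetherian sX
  have hC : CompactSpace X := QuasiCompact.compactSpace_of_compactSpace sX
  have hN : IsNoetherian X := { }
  have hNS : NoetherianSpace X := inferInstance
  let A : Set X := {x : X | ∃ n, x ∈ Z n}
  let S₀ : Set (Closeds X) := (fun ξ => Closeds.closure ({ξ} : Set X)) '' maxPts A
  have hS₀c : S₀.Countable := by
    obtain ⟨C, hC, hCm⟩ := exists_countable_closures Z
    have h1 : ((↑) ⁻¹' C : Set (Closeds X)).Countable :=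
      hC.preimage_of_injOn (fun a _ b _ hab => SetLike.coe_injective hab)
    refine h1.mono ?_
    rintro _ ⟨ξ, hξ, rfl⟩
    exact hCm ξ hξ
  have hS₀i : ∀ T ∈ S₀, IsIrreducible (T : Set X) := by
    rintro _ ⟨ξ, -, rfl⟩
    exact isIrreducible_singleton.closure
  have hS₀a : IsAntichain (· ≤ ·) S₀ := by
    rintro _ ⟨ξ, hξ, rfl⟩ _ ⟨ξ', hξ', rfl⟩ hne hle
    apply hne
    have h1 : closure ({ξ} : Set X) ⊆ closure {ξ'} := hle
    have h2 : ξ' ⤳ ξ := specializes_iff_closure_subset.2 h1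
    have h3 := hξ.2 ξ' hξ'.1 h2
    exact SetLike.coe_injective (subset_antisymm h1 (specializes_iff_closure_subset.1 h3))
  have hS₀e : {x : X | IsClosed ({x} : Set X) ∧ ∃ T ∈ S₀, x ∈ T} =
      {x : X | IsClosed ({x} : Set X) ∧ ∃ n, x ∈ Z n} := by
    ext x
    constructor
    · rintro ⟨hx, _, ⟨ξ, hξ, rfl⟩, hxT⟩
      obtain ⟨n, hn⟩ := hξ.1
      refine ⟨hx, n, ?_⟩
      have : closure ({ξ} : Set X) ⊆ (Z n : Set X) :=
        (Z n).isClosed.closure_subset_iff.2 (Set.singleton_subset_iff.2 hn)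
      exact this hxT
    · rintro ⟨hx, n, hn⟩
      obtain ⟨ξ, hξ, hsp⟩ := exists_maxPt A x ⟨n, hn⟩
      exact ⟨hx, _, ⟨ξ, hξ, rfl⟩, specializes_iff_mem_closure.1 hsp⟩
  refine ⟨S₀, ⟨hS₀c, hS₀i, hS₀a, hS₀e⟩, ?_⟩
  rintro S' ⟨hc, hirr, hanti, heq⟩
  -- every member of `S'` lies in a member of `S₀`
  have h1 : ∀ T' ∈ S', ∃ T ∈ S₀, T' ≤ T := by
    intro T' hT'
    obtain ⟨ζ, hgen⟩ : ∃ ζ : X, closure ({ζ} : Set X) = T' :=
      ⟨(hirr T' hT').genericPoint, (hirr T' hT').closure_genericPoint T'.isClosed⟩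
    obtain ⟨_, ⟨n, rfl⟩, hζn⟩ := mem_of_closedPoints_mem k sX (Set.range Z)
      (Set.countable_range Z) ζ (by
        intro x hxc hsp
        have hxT' : x ∈ T' := by
          change x ∈ (T' : Set X)
          rw [← hgen]; exact specializes_iff_mem_closure.1 hsp
        have : x ∈ {x : X | IsClosed ({x} : Set X) ∧ ∃ n, x ∈ Z n} := by
          rw [← heq]; exact ⟨hxc, T', hT', hxT'⟩
        obtain ⟨-, n, hn⟩ := this
        exact ⟨Z n, ⟨n, rfl⟩, hn⟩)
    obtain ⟨ξ, hξ, hsp⟩ := exists_maxPt A _ ⟨n, hζn⟩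
    refine ⟨_, ⟨ξ, hξ, rfl⟩, ?_⟩
    change (T' : Set X) ⊆ closure {ξ}
    rw [← hgen]
    exact specializes_iff_closure_subset.1 hsp
  have h2 : ∀ T ∈ S₀, ∃ T' ∈ S', T ≤ T' := by
    rintro _ ⟨ξ, hξ, rfl⟩
    obtain ⟨n, hn⟩ := hξ.1
    obtain ⟨T', hT', hξT'⟩ := mem_of_closedPoints_mem k sX S' hc ξ (by
      intro x hxc hsp
      have hxn : x ∈ Z n := by
        have : closure ({ξ} : Set X) ⊆ (Z n : Set X) :=
          (Z n).isClosed.closure_subset_iff.2 (Set.singleton_subset_iff.2 hn)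
        exact this (specializes_iff_mem_closure.1 hsp)
      have : x ∈ {x : X | IsClosed ({x} : Set X) ∧ ∃ T ∈ S', x ∈ T} := by
        rw [heq]; exact ⟨hxc, n, hxn⟩
      exact this.2)
    refine ⟨T', hT', ?_⟩
    change closure ({ξ} : Set X) ⊆ (T' : Set X)
    exact T'.isClosed.closure_subset_iff.2 (Set.singleton_subset_iff.2 hξT')
  ext T
  constructor
  · intro hT
    obtain ⟨T₁, hT₁, hle₁⟩ := h1 T hT
    obtain ⟨T₂, hT₂, hle₂⟩ := h2 T₁ hT₁
    have e1 : T = T₂ := hanti.eq hT hT₂ (hle₁.trans hle₂)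
    have e2 : T = T₁ := le_antisymm hle₁ (e1 ▸ hle₂)
    rw [e2]; exact hT₁
  · intro hT
    obtain ⟨T₁, hT₁, hle₁⟩ := h2 T hT
    obtain ⟨T₂, hT₂, hle₂⟩ := h1 T₁ hT₁
    have e1 : T = T₂ := hS₀a.eq hT hT₂ (hle₁.trans hle₂)
    have e2 : T = T₁ := le_antisymm hle₁ (e1 ▸ hle₂)
    rw [e2]; exact hT₁

end Groth.Agent.Lib.T2H6.CountDecomp
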