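import Mathlib
import Groth.Prelude.Def_Curv2
import Groth.Agent.Lib.T2H6CurveSS2

/-!
# The maximal destabilising subbundle (first Harder–Narasimhan step) (helper6)
-/

set_option autoImplicit false
universe u

open AlgebraicGeometry CategoryTheory Limits

namespace Groth.Agent.Lib.T2H6.CurveHN

variable {X : Scheme.{u}} [IsIntegral X]
variable (k : Type u) [Field k] [X.Over (Spec (CommRingCat.of k))]
  [IsProper (X ↘ Spec (CommRingCat.of k))]

/-- Degrees of locally free submodules of a bundle are bounded above. -/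
theorem deg_le_bound (hdim : topologicalKrullDim X = 1) (r : ℕ) (E : X.Modules)
    (hE : FlatMod.IsFinLocFreeOfRank r E) (F : X.Modules) (r' : ℕ) (i : F ⟶ E) [Mono i]
    (hF : FlatMod.IsFinLocFreeOfRank r' F) :
    Curv2.deg k X F r' ≤ (Module.finrank k (Coh.HH X E 0) : ℤ) +
      (r : ℤ) * |Curv2.euler k X (Coh.structureModule X)| := by
  have hEc := Groth.Agent.Lib.T2H6.RankAdd.isCoh_of_isFinLocFreeOfRank E r hE
  haveI : F.IsQuasicoherent := (Groth.Agent.Lib.T2H6.RankAdd.isCoh_of_isFinLocFreeOfRank F r' hF).1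
  have h := Groth.Agent.Lib.T2H6.CurveSub.euler_le_h0_of_mono k hdim hEc i
  have hrr : r' ≤ r := Groth.Agent.Lib.T2H6.CurveSub.rank_le_of_mono i r' r hF hE
  have hrr' : (r' : ℤ) ≤ (r : ℤ) := by exact_mod_cast hrr
  have h0 : (0 : ℤ) ≤ (r' : ℤ) := Int.natCast_nonneg _
  have habs := neg_abs_le (Curv2.euler k X (Coh.structureModule X))
  have habs0 := abs_nonneg (Curv2.euler k X (Coh.structureModule X))
  unfold Curv2.deg
  nlinarith

/-- Existence of a subbundle of maximal slope and, among those, of maximal rank. -/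
theorem exists_max_slope (hdim : topologicalKrullDim X = 1) (r : ℕ) (hr : 0 < r) (E : X.Modules)
    (hE : FlatMod.IsFinLocFreeOfRank r E) :
    ∃ (E₁ : X.Modules) (r₁ : ℕ) (i₁ : E₁ ⟶ E), Mono i₁ ∧ 0 < r₁ ∧
      FlatMod.IsFinLocFreeOfRank r₁ E₁ ∧
      (∀ (G : X.Modules) (r' : ℕ) (j : G ⟶ E), Mono j → 0 < r' → FlatMod.IsFinLocFreeOfRank r' G →
        Curv2.deg k X G r' * (r₁ : ℤ) ≤ Curv2.deg k X E₁ r₁ * (r' : ℤ)) ∧
      (∀ (G : X.Modules) (r' : ℕ) (j : G ⟶ E), Mono j → 0 < r' → FlatMod.IsFinLocFreeOfRank r' G →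
        Curv2.deg k X G r' * (r₁ : ℤ) = Curv2.deg k X E₁ r₁ * (r' : ℤ) → r' ≤ r₁) := by
  classical
  set N : ℤ := (Module.finrank k (Coh.HH X E 0) : ℤ) +
    (r : ℤ) * |Curv2.euler k X (Coh.structureModule X)| with hN
  -- the weight of a subbundle
  let c : ℕ → ℤ := fun r' => ((r.factorial / r' : ℕ) : ℤ)
  have hc : ∀ r', 0 < r' → r' ≤ r → c r' * (r' : ℤ) = (r.factorial : ℤ) := by
    intro r' h1 h2
    have : r.factorial / r' * r' = r.factorial := Nat.div_mul_cancel (Nat.dvd_factorial h1 h2)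
    change ((r.factorial / r' : ℕ) : ℤ) * (r' : ℤ) = _
    exact_mod_cast this
  have hc0 : ∀ r', 0 ≤ c r' := fun r' => Int.natCast_nonneg _
  have hcle : ∀ r', c r' ≤ (r.factorial : ℤ) := by
    intro r'
    change ((r.factorial / r' : ℕ) : ℤ) ≤ _
    exact_mod_cast Nat.div_le_self _ _
  let P : ℤ → Prop := fun z => ∃ (G : X.Modules) (r' : ℕ) (j : G ⟶ E), Mono j ∧ 0 < r' ∧
    FlatMod.IsFinLocFreeOfRank r' G ∧ z = Curv2.deg k X G r' * c r' * ((r : ℤ) + 1) + (r' : ℤ)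
  have hfac : (0 : ℤ) < (r.factorial : ℤ) := by exact_mod_cast r.factorial_pos
  have hbdd : ∃ b, ∀ z, P z → z ≤ b := by
    refine ⟨max N 0 * (r.factorial : ℤ) * ((r : ℤ) + 1) + (r : ℤ), ?_⟩
    rintro z ⟨G, r', j, hj, hr', hG, rfl⟩
    haveI := hj
    have h1 := deg_le_bound k hdim r E hE G r' j hG
    have hrr : r' ≤ r := Groth.Agent.Lib.T2H6.CurveSub.rank_le_of_mono j r' r hG hE
    have hrr' : (r' : ℤ) ≤ (r : ℤ) := by exact_mod_cast hrr
    have h2 : Curv2.deg k X G r' * c r' ≤ max N 0 * (r.factorial : ℤ) := by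
      have hN0 : (0 : ℤ) ≤ max N 0 := le_max_right _ _
      have hdN : Curv2.deg k X G r' ≤ max N 0 := h1.trans (le_max_left _ _)
      calc Curv2.deg k X G r' * c r' ≤ max N 0 * c r' :=
            mul_le_mul_of_nonneg_right hdN (hc0 r')
        _ ≤ max N 0 * (r.factorial : ℤ) := mul_le_mul_of_nonneg_left (hcle r') hN0
    have hr1 : (0 : ℤ) ≤ (r : ℤ) + 1 := by positivity
    have := mul_le_mul_of_nonneg_right h2 hr1
    linarith
  have hinh : ∃ z, P z := ⟨_, E, r, 𝟙 E, inferInstance, hr, hE, rfl⟩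
  obtain ⟨ub, ⟨E₁, r₁, i₁, hi₁, hr₁, hE₁, rfl⟩, hub⟩ := Int.exists_greatest_of_bdd hbdd hinh
  haveI := hi₁
  have hr₁r : r₁ ≤ r := Groth.Agent.Lib.T2H6.CurveSub.rank_le_of_mono i₁ r₁ r hE₁ hE
  have hr₁0 : (0 : ℤ) < (r₁ : ℤ) := by exact_mod_cast hr₁
  have hr₁r' : (r₁ : ℤ) ≤ (r : ℤ) := by exact_mod_cast hr₁r
  -- key comparison
  have key : ∀ (G : X.Modules) (r' : ℕ) (j : G ⟶ E), Mono j → 0 < r' →
      FlatMod.IsFinLocFreeOfRank r' G →
      Curv2.deg k X G r' * c r' ≤ Curv2.deg k X E₁ r₁ * c r₁ ∧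
        (Curv2.deg k X G r' * c r' = Curv2.deg k X E₁ r₁ * c r₁ → r' ≤ r₁) := by
    intro G r' j hj hr' hG
    haveI := hj
    have hrr : r' ≤ r := Groth.Agent.Lib.T2H6.CurveSub.rank_le_of_mono j r' r hG hE
    have hrr' : (r' : ℤ) ≤ (r : ℤ) := by exact_mod_cast hrr
    have hr'0 : (0 : ℤ) < (r' : ℤ) := by exact_mod_cast hr'
    have h := hub _ ⟨G, r', j, hj, hr', hG, rfl⟩
    constructor
    · by_contra hcon
      rw [not_le] at hcon
      have : Curv2.deg k X E₁ r₁ * c r₁ + 1 ≤ Curv2.deg k X G r' * c r' := hcon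
      nlinarith
    · intro heq
      rw [heq] at h
      have : (r' : ℤ) ≤ (r₁ : ℤ) := by linarith
      exact_mod_cast this
  refine ⟨E₁, r₁, i₁, hi₁, hr₁, hE₁, ?_, ?_⟩
  · intro G r' j hj hr' hG
    haveI := hj
    have hrr : r' ≤ r := Groth.Agent.Lib.T2H6.CurveSub.rank_le_of_mono j r' r hG hE
    have hr'0 : (0 : ℤ) < (r' : ℤ) := by exact_mod_cast hr'
    have h1 := (key G r' j hj hr' hG).1
    have e1 := hc r' hr' hrr
    have e2 := hc r₁ hr₁ hr₁r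
    -- multiply by r' * r₁
    have h2 : Curv2.deg k X G r' * (r₁ : ℤ) * (r.factorial : ℤ) ≤
        Curv2.deg k X E₁ r₁ * (r' : ℤ) * (r.factorial : ℤ) := by
      have := mul_le_mul_of_nonneg_right h1 (mul_nonneg hr'0.le hr₁0.le)
      calc Curv2.deg k X G r' * (r₁ : ℤ) * (r.factorial : ℤ)
          = Curv2.deg k X G r' * (r₁ : ℤ) * (c r' * (r' : ℤ)) := by rw [e1]
        _ = Curv2.deg k X G r' * c r' * ((r' : ℤ) * (r₁ : ℤ)) := by ring
        _ ≤ Curv2.deg k X E₁ r₁ * c r₁ * ((r' : ℤ) * (r₁ : ℤ)) := this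
        _ = Curv2.deg k X E₁ r₁ * (r' : ℤ) * (c r₁ * (r₁ : ℤ)) := by ring
        _ = Curv2.deg k X E₁ r₁ * (r' : ℤ) * (r.factorial : ℤ) := by rw [e2]
    exact le_of_mul_le_mul_right h2 hfac
  · intro G r' j hj hr' hG heq
    haveI := hj
    have hrr : r' ≤ r := Groth.Agent.Lib.T2H6.CurveSub.rank_le_of_mono j r' r hG hE
    have hr'0 : (0 : ℤ) < (r' : ℤ) := by exact_mod_cast hr'
    have e1 := hc r' hr' hrr
    have e2 := hc r₁ hr₁ hr₁r
    refine (key G r' j hj hr' hG).2 ?_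
    have h3 : Curv2.deg k X G r' * c r' * ((r' : ℤ) * (r₁ : ℤ)) =
        Curv2.deg k X E₁ r₁ * c r₁ * ((r' : ℤ) * (r₁ : ℤ)) := by
      calc Curv2.deg k X G r' * c r' * ((r' : ℤ) * (r₁ : ℤ))
          = Curv2.deg k X G r' * (r₁ : ℤ) * (c r' * (r' : ℤ)) := by ring
        _ = Curv2.deg k X G r' * (r₁ : ℤ) * (r.factorial : ℤ) := by rw [e1]
        _ = Curv2.deg k X E₁ r₁ * (r' : ℤ) * (r.factorial : ℤ) := by rw [heq]
        _ = Curv2.deg k X E₁ r₁ * (r' : ℤ) * (c r₁ * (r₁ : ℤ)) := by rw [e2]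
        _ = Curv2.deg k X E₁ r₁ * c r₁ * ((r' : ℤ) * (r₁ : ℤ)) := by ring
    exact mul_right_cancel₀ (mul_pos hr'0 hr₁0).ne' h3

end Groth.Agent.Lib.T2H6.CurveHN
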