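import Mathlib
import Groth.Prelude.Def_Curv2
import Groth.Agent.Lib.T2H6CurveSatur
import Groth.Agent.Lib.T2H6CurveHN

/-!
# The maximal destabilising subbundle (helper6)
-/

set_option autoImplicit false
universe u

open AlgebraicGeometry CategoryTheory Limits

namespace Groth.Agent.Lib.T2H6.CurveHN2

open Groth.Agent.Lib.T2H6.CurveVB Groth.Agent.Lib.T2H6.CurveSS Groth.Agent.Lib.T2H6.CurveSS2
  Groth.Agent.Lib.T2H6.CurveSatur

variable {X : Scheme.{u}} [IsIntegral X] (k : Type u) [Field k] [X.Over (Spec (CommRingCat.of k))]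
  [IsProper (X ↘ Spec (CommRingCat.of k))]

/-- A subbundle of maximal slope is saturated: its cokernel is locally free. -/
theorem coker_locFree_of_max_slope (hdim : topologicalKrullDim X = 1)
    (hreg : ∀ x : X, IsRegularLocalRing (X.presheaf.stalk x)) (r : ℕ) (E : X.Modules)
    (hE : FlatMod.IsFinLocFreeOfRank r E) {E₁ : X.Modules} (r₁ : ℕ) (hr₁ : 0 < r₁) (i₁ : E₁ ⟶ E)
    [Mono i₁] (hE₁ : FlatMod.IsFinLocFreeOfRank r₁ E₁)
    (ha : ∀ (G : X.Modules) (r' : ℕ) (j : G ⟶ E), Mono j → 0 < r' →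
      FlatMod.IsFinLocFreeOfRank r' G →
      Curv2.deg k X G r' * (r₁ : ℤ) ≤ Curv2.deg k X E₁ r₁ * (r' : ℤ)) :
    r₁ ≤ r ∧ FlatMod.IsFinLocFreeOfRank (r - r₁) (cokernel i₁) := by
  obtain ⟨E₁', i', j, hi', hfac, hle, hE₁', hC', hd, hiso⟩ :=
    exists_saturation k hdim hreg i₁ r₁ r hE₁ hE
  haveI := hi'
  have hr0 : (0 : ℤ) < (r₁ : ℤ) := by exact_mod_cast hr₁
  have h1 := ha E₁' r₁ i' hi' hr₁ hE₁'
  have h2 : Curv2.deg k X E₁' r₁ ≤ Curv2.deg k X E₁ r₁ := le_of_mul_le_mul_right h1 hr0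
  haveI := hiso (le_antisymm hd h2)
  let e3 : cokernel i₁ ≅ cokernel (j ≫ i') := cokernelIsoOfEq hfac.symm
  let e4 := cokernelEpiComp j i'
  exact ⟨hle, Groth.Agent.Lib.Helper26.ModRank.isFinLocFreeOfRank_of_iso (e3 ≪≫ e4).symm hC'⟩

/-- Existence of the maximal destabilising subbundle. -/
theorem exists_destabilising (hdim : topologicalKrullDim X = 1)
    (hreg : ∀ x : X, IsRegularLocalRing (X.presheaf.stalk x)) (r : ℕ) (hr : 0 < r) (E : X.Modules)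
    (hE : FlatMod.IsFinLocFreeOfRank r E) :
    ∃ (E₁ : X.Modules) (r₁ : ℕ) (i₁ : E₁ ⟶ E), Mono i₁ ∧ 0 < r₁ ∧
      FlatMod.IsFinLocFreeOfRank r₁ E₁ ∧
      (∀ (F : X.Modules) (r' : ℕ) (j : F ⟶ E), Mono j → 0 < r' → FlatMod.IsFinLocFreeOfRank r' F →
        Curv2.deg k X F r' * (r₁ : ℤ) ≤ Curv2.deg k X E₁ r₁ * (r' : ℤ)) ∧
      (∀ (Q : X.Modules) (s : ℕ) (j : Q ⟶ cokernel i₁), Mono j → 0 < s →
        FlatMod.IsFinLocFreeOfRank s Q →
        Curv2.deg k X Q s * (r₁ : ℤ) < Curv2.deg k X E₁ r₁ * (s : ℤ)) := by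
  obtain ⟨E₁, r₁, i₁, hi₁, hr₁, hE₁, ha, hc⟩ :=
    Groth.Agent.Lib.T2H6.CurveHN.exists_max_slope k hdim r hr E hE
  haveI := hi₁
  refine ⟨E₁, r₁, i₁, hi₁, hr₁, hE₁, ha, ?_⟩
  intro Q s j hj hs hQ
  haveI := hj
  obtain ⟨hle, hC⟩ := coker_locFree_of_max_slope k hdim hreg r E hE r₁ hr₁ i₁ hE₁ ha
  obtain ⟨P, ι, hι, hP, hdP⟩ := preimage_data k hdim hreg
    (ShortComplex.mk i₁ (cokernel.π i₁) (cokernel.condition i₁))
    (Groth.Agent.Lib.T2H6.CurveSub.sc_shortExact i₁) r₁ r (r - r₁) hE₁ hE hC j s hQ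
  change Curv2.deg k X P (r₁ + s) = Curv2.deg k X E₁ r₁ + Curv2.deg k X Q s at hdP
  have h1 := ha P (r₁ + s) ι hι (by omega) hP
  rw [hdP] at h1
  push_cast at h1
  have h2 : Curv2.deg k X Q s * (r₁ : ℤ) ≤ Curv2.deg k X E₁ r₁ * (s : ℤ) := by linarith
  rcases h2.lt_or_eq with h3 | h3
  · exact h3
  · exfalso
    have h4 : Curv2.deg k X P (r₁ + s) * (r₁ : ℤ) = Curv2.deg k X E₁ r₁ * ((r₁ + s : ℕ) : ℤ) := by
      rw [hdP]
      push_cast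
      linarith
    have := hc P (r₁ + s) ι hι (by omega) hP h4
    omega

/-- Uniqueness of the maximal destabilising subbundle. -/
theorem destabilising_unique (hdim : topologicalKrullDim X = 1)
    (hreg : ∀ x : X, IsRegularLocalRing (X.presheaf.stalk x)) (r : ℕ) (E : X.Modules)
    (hE : FlatMod.IsFinLocFreeOfRank r E)
    (E₁ E₁' : X.Modules) (r₁ r₁' : ℕ) (i₁ : E₁ ⟶ E) (i₁' : E₁' ⟶ E)
    (hi₁ : Mono i₁) (hr₁ : 0 < r₁) (hE₁ : FlatMod.IsFinLocFreeOfRank r₁ E₁)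
    (ha : ∀ (F : X.Modules) (r' : ℕ) (j : F ⟶ E), Mono j → 0 < r' →
      FlatMod.IsFinLocFreeOfRank r' F →
      Curv2.deg k X F r' * (r₁ : ℤ) ≤ Curv2.deg k X E₁ r₁ * (r' : ℤ))
    (hb : ∀ (Q : X.Modules) (s : ℕ) (j : Q ⟶ cokernel i₁), Mono j → 0 < s →
      FlatMod.IsFinLocFreeOfRank s Q →
      Curv2.deg k X Q s * (r₁ : ℤ) < Curv2.deg k X E₁ r₁ * (s : ℤ))
    (hi₁' : Mono i₁') (hr₁' : 0 < r₁') (hE₁' : FlatMod.IsFinLocFreeOfRank r₁' E₁')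
    (ha' : ∀ (F : X.Modules) (r' : ℕ) (j : F ⟶ E), Mono j → 0 < r' →
      FlatMod.IsFinLocFreeOfRank r' F →
      Curv2.deg k X F r' * (r₁' : ℤ) ≤ Curv2.deg k X E₁' r₁' * (r' : ℤ))
    (hb' : ∀ (Q : X.Modules) (s : ℕ) (j : Q ⟶ cokernel i₁'), Mono j → 0 < s →
      FlatMod.IsFinLocFreeOfRank s Q →
      Curv2.deg k X Q s * (r₁' : ℤ) < Curv2.deg k X E₁' r₁' * (s : ℤ)) :
    ∃ e : E₁ ≅ E₁', e.hom ≫ i₁' = i₁ := by
  haveI := hi₁
  haveI := hi₁'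
  -- one inclusion
  have key : ∀ (A B : X.Modules) (a b : ℕ) (iA : A ⟶ E) (iB : B ⟶ E) [Mono iA] [Mono iB]
      (_ : 0 < a) (_ : 0 < b) (hA : FlatMod.IsFinLocFreeOfRank a A)
      (hB : FlatMod.IsFinLocFreeOfRank b B)
      (_ : ∀ (F : X.Modules) (r' : ℕ) (j : F ⟶ E), Mono j → 0 < r' →
        FlatMod.IsFinLocFreeOfRank r' F →
        Curv2.deg k X F r' * (a : ℤ) ≤ Curv2.deg k X A a * (r' : ℤ))
      (_ : ∀ (Q : X.Modules) (s : ℕ) (j : Q ⟶ cokernel iA), Mono j → 0 < s →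
        FlatMod.IsFinLocFreeOfRank s Q →
        Curv2.deg k X Q s * (a : ℤ) < Curv2.deg k X A a * (s : ℤ))
      (_ : Curv2.deg k X B b * (a : ℤ) = Curv2.deg k X A a * (b : ℤ)),
      ∃ c : B ⟶ A, c ≫ iA = iB := by
    intro A B a b iA iB _ _ ha0 hb0 hA hB haA hbA hslope
    obtain ⟨hle, hC⟩ := coker_locFree_of_max_slope k hdim hreg r E hE a ha0 iA hA haA
    obtain ⟨rK, rI, hK, hI, hrk, -, hdeg⟩ :=
      ker_im_data k hdim hreg (iB ≫ cokernel.π iA) b (r - a) hB hC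
    have hzero : iB ≫ cokernel.π iA = 0 := by
      rcases Nat.eq_zero_or_pos rI with h0 | h0
      · subst h0
        exact eq_zero_of_isZero_image _ (isZero_of_rank_zero _ hI)
      · exfalso
        have h1 := hbA _ rI (Abelian.image.ι (iB ≫ cokernel.π iA)) inferInstance h0 hI
        have h2 : Curv2.deg k X (kernel (iB ≫ cokernel.π iA)) rK * (a : ℤ) ≤
            Curv2.deg k X A a * (rK : ℤ) := by
          rcases Nat.eq_zero_or_pos rK with hz | hz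
          · subst hz
            rw [deg_eq_zero_of_rank_zero k _ hK]
            simp
          · exact haA _ rK (kernel.ι (iB ≫ cokernel.π iA) ≫ iB) (mono_comp _ _) hz hK
        have hrk' : (b : ℤ) = (rK : ℤ) + (rI : ℤ) := by exact_mod_cast hrk
        rw [hdeg, hrk'] at hslope
        linarith
    exact ⟨(Abelian.monoIsKernelOfCokernel _ (cokernelIsCokernel iA)).lift
        (KernelFork.ofι iB hzero),
      (Abelian.monoIsKernelOfCokernel _ (cokernelIsCokernel iA)).fac (KernelFork.ofι iB hzero)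
        WalkingParallelPair.zero⟩
  have h1 := ha E₁' r₁' i₁' hi₁' hr₁' hE₁'
  have h2 := ha' E₁ r₁ i₁ hi₁ hr₁ hE₁
  have hslope : Curv2.deg k X E₁' r₁' * (r₁ : ℤ) = Curv2.deg k X E₁ r₁ * (r₁' : ℤ) :=
    le_antisymm h1 h2
  obtain ⟨c, hc⟩ := key E₁ E₁' r₁ r₁' i₁ i₁' hr₁ hr₁' hE₁ hE₁' ha hb hslope
  obtain ⟨d, hd⟩ := key E₁' E₁ r₁' r₁ i₁' i₁ hr₁' hr₁ hE₁' hE₁ ha' hb' hslope.symm
  refine ⟨⟨d, c, ?_, ?_⟩, hd⟩
  · rw [← cancel_mono i₁, Category.assoc, hc, hd, Category.id_comp]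
  · rw [← cancel_mono i₁', Category.assoc, hd, hc, Category.id_comp]

end Groth.Agent.Lib.T2H6.CurveHN2
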