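import Mathlib
import Groth.Prelude.Def_Curv2
import Groth.Agent.Lib.T2H6CurveSatur
import Groth.Agent.Lib.T2H6CurveQuot

/-!
# Semistable bundles of a fixed slope form an abelian category (helper6)
-/

set_option autoImplicit false
universe u

open AlgebraicGeometry CategoryTheory Limits

namespace Groth.Agent.Lib.T2H6.CurveSSAb

open Groth.Agent.Lib.T2H6.CurveVB Groth.Agent.Lib.T2H6.CurveSS Groth.Agent.Lib.T2H6.CurveSS2
  Groth.Agent.Lib.T2H6.CurveSatur

variable {X : Scheme.{u}} [IsIntegral X] (k : Type u) [Field k] [X.Over (Spec (CommRingCat.of k))]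
  [IsProper (X ↘ Spec (CommRingCat.of k))]

/-- The short exact sequence `0 → im f → F → coker f → 0`. -/
noncomputable abbrev imCokerSC {E F : X.Modules} (f : E ⟶ F) : ShortComplex X.Modules :=
  ShortComplex.mk (Abelian.image.ι f) (cokernel.π f) (kernel.condition (cokernel.π f))

omit [IsIntegral X] in
theorem imCokerSC_shortExact {E F : X.Modules} (f : E ⟶ F) : (imCokerSC f).ShortExact :=
  haveI : Mono (imCokerSC f).f := inferInstanceAs (Mono (kernel.ι (cokernel.π f)))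
  haveI : Epi (imCokerSC f).g := inferInstanceAs (Epi (cokernel.π f))
  ShortComplex.ShortExact.mk (ShortComplex.exact_kernel (cokernel.π f))

theorem ss_ker_coker (hdim : topologicalKrullDim X = 1)
    (hreg : ∀ x : X, IsRegularLocalRing (X.presheaf.stalk x))
    (r s : ℕ) (hr : 0 < r) (hs : 0 < s) (E F : X.Modules)
    (hE : FlatMod.IsFinLocFreeOfRank r E) (hF : FlatMod.IsFinLocFreeOfRank s F)
    (hEss : ∀ (G : X.Modules) (r' : ℕ) (i : G ⟶ E), Mono i → 0 < r' →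
      FlatMod.IsFinLocFreeOfRank r' G → Curv2.deg k X G r' * (r : ℤ) ≤ Curv2.deg k X E r * (r' : ℤ))
    (hFss : ∀ (G : X.Modules) (r' : ℕ) (i : G ⟶ F), Mono i → 0 < r' →
      FlatMod.IsFinLocFreeOfRank r' G → Curv2.deg k X G r' * (s : ℤ) ≤ Curv2.deg k X F s * (r' : ℤ))
    (hμ : Curv2.deg k X E r * (s : ℤ) = Curv2.deg k X F s * (r : ℤ)) (f : E ⟶ F) :
    (∃ r₀ : ℕ, FlatMod.IsFinLocFreeOfRank r₀ (kernel f) ∧
        Curv2.deg k X (kernel f) r₀ * (r : ℤ) = Curv2.deg k X E r * (r₀ : ℤ) ∧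
        ∀ (G : X.Modules) (n : ℕ) (j : G ⟶ kernel f), Mono j → 0 < n →
          FlatMod.IsFinLocFreeOfRank n G →
          Curv2.deg k X G n * (r₀ : ℤ) ≤ Curv2.deg k X (kernel f) r₀ * (n : ℤ)) ∧
      (∃ s₀ : ℕ, FlatMod.IsFinLocFreeOfRank s₀ (cokernel f) ∧
        Curv2.deg k X (cokernel f) s₀ * (s : ℤ) = Curv2.deg k X F s * (s₀ : ℤ) ∧
        ∀ (G : X.Modules) (n : ℕ) (j : G ⟶ cokernel f), Mono j → 0 < n →
          FlatMod.IsFinLocFreeOfRank n G →
          Curv2.deg k X G n * (s₀ : ℤ) ≤ Curv2.deg k X (cokernel f) s₀ * (n : ℤ)) := by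
  obtain ⟨rK, rI, hK, hI, hrk, hIs, hdeg⟩ := ker_im_data k hdim hreg f r s hE hF
  have hr0 : (0 : ℤ) < (r : ℤ) := by exact_mod_cast hr
  have hs0 : (0 : ℤ) < (s : ℤ) := by exact_mod_cast hs
  have hrk' : (r : ℤ) = (rK : ℤ) + (rI : ℤ) := by exact_mod_cast hrk
  -- abbreviations
  obtain ⟨dE, hdE⟩ : ∃ d, d = Curv2.deg k X E r := ⟨_, rfl⟩
  obtain ⟨dF, hdF⟩ : ∃ d, d = Curv2.deg k X F s := ⟨_, rfl⟩
  obtain ⟨dK, hdK⟩ : ∃ d, d = Curv2.deg k X (kernel f) rK := ⟨_, rfl⟩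
  obtain ⟨dI, hdI⟩ : ∃ d, d = Curv2.deg k X (Abelian.image f) rI := ⟨_, rfl⟩
  rw [← hdE, ← hdF] at hμ
  rw [← hdE, ← hdK, ← hdI] at hdeg
  -- slopes of kernel and image
  have hKle : dK * (r : ℤ) ≤ dE * (rK : ℤ) := by
    rcases Nat.eq_zero_or_pos rK with h0 | h0
    · subst h0
      have : dK = 0 := by rw [hdK]; exact deg_eq_zero_of_rank_zero k _ hK
      rw [this]
      simp
    · rw [hdK, hdE]
      exact hEss _ rK (kernel.ι f) inferInstance h0 hK
  have hIle' : dI * (s : ℤ) ≤ dF * (rI : ℤ) := by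
    rcases Nat.eq_zero_or_pos rI with h0 | h0
    · subst h0
      have : dI = 0 := by rw [hdI]; exact deg_eq_zero_of_rank_zero k _ hI
      rw [this]
      simp
    · rw [hdI, hdF]
      exact hFss _ rI (Abelian.image.ι f) inferInstance h0 hI
  have hIle : dI * (r : ℤ) ≤ dE * (rI : ℤ) := by
    have h1 : dI * (s : ℤ) * (r : ℤ) ≤ dF * (rI : ℤ) * (r : ℤ) :=
      mul_le_mul_of_nonneg_right hIle' hr0.le
    have h2 : dF * (rI : ℤ) * (r : ℤ) = dE * (rI : ℤ) * (s : ℤ) := by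
      calc dF * (rI : ℤ) * (r : ℤ) = (dF * (r : ℤ)) * (rI : ℤ) := by ring
        _ = (dE * (s : ℤ)) * (rI : ℤ) := by rw [hμ]
        _ = dE * (rI : ℤ) * (s : ℤ) := by ring
    have h3 : (dI * (r : ℤ)) * (s : ℤ) ≤ (dE * (rI : ℤ)) * (s : ℤ) := by
      calc (dI * (r : ℤ)) * (s : ℤ) = dI * (s : ℤ) * (r : ℤ) := by ring
        _ ≤ dF * (rI : ℤ) * (r : ℤ) := h1
        _ = (dE * (rI : ℤ)) * (s : ℤ) := h2
    exact le_of_mul_le_mul_right h3 hs0
  have hsum : dK * (r : ℤ) + dI * (r : ℤ) = dE * (rK : ℤ) + dE * (rI : ℤ) := by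
    rw [hdeg, hrk']
    ring
  have hKeq : dK * (r : ℤ) = dE * (rK : ℤ) := by linarith
  have hIeq : dI * (r : ℤ) = dE * (rI : ℤ) := by linarith
  have hIeq' : dI * (s : ℤ) = dF * (rI : ℤ) := by
    have h1 : (dI * (s : ℤ)) * (r : ℤ) = (dF * (rI : ℤ)) * (r : ℤ) := by
      calc (dI * (s : ℤ)) * (r : ℤ) = (dI * (r : ℤ)) * (s : ℤ) := by ring
        _ = (dE * (rI : ℤ)) * (s : ℤ) := by rw [hIeq]
        _ = (dE * (s : ℤ)) * (rI : ℤ) := by ring
        _ = (dF * (r : ℤ)) * (rI : ℤ) := by rw [hμ]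
        _ = (dF * (rI : ℤ)) * (r : ℤ) := by ring
    exact mul_right_cancel₀ hr0.ne' h1
  refine ⟨⟨rK, hK, ?_, ?_⟩, ?_⟩
  · rw [← hdK, ← hdE]
    exact hKeq
  · intro G n j hj hn hG
    haveI := hj
    have h1 := hEss G n (j ≫ kernel.ι f) (mono_comp _ _) hn hG
    rw [← hdE] at h1
    rw [← hdK]
    have h2 : (Curv2.deg k X G n * (rK : ℤ)) * (r : ℤ) ≤ (dK * (n : ℤ)) * (r : ℤ) := by
      calc (Curv2.deg k X G n * (rK : ℤ)) * (r : ℤ) = (Curv2.deg k X G n * (r : ℤ)) * (rK : ℤ) := by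
            ring
        _ ≤ (dE * (n : ℤ)) * (rK : ℤ) := mul_le_mul_of_nonneg_right h1 (Int.natCast_nonneg _)
        _ = (dE * (rK : ℤ)) * (n : ℤ) := by ring
        _ = (dK * (r : ℤ)) * (n : ℤ) := by rw [hKeq]
        _ = (dK * (n : ℤ)) * (r : ℤ) := by ring
    exact le_of_mul_le_mul_right h2 hr0
  · -- the cokernel
    obtain ⟨I', i', j, hi', hfac, hle, hI', hC', hd, hiso⟩ :=
      exists_saturation k hdim hreg (Abelian.image.ι f) rI s hI hF
    haveI := hi'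
    obtain ⟨dI', hdI'⟩ : ∃ d, d = Curv2.deg k X I' rI := ⟨_, rfl⟩
    rw [← hdI, ← hdI'] at hd hiso
    have hI'le : dI' * (s : ℤ) ≤ dF * (rI : ℤ) := by
      rcases Nat.eq_zero_or_pos rI with h0 | h0
      · subst h0
        have : dI' = 0 := by rw [hdI']; exact deg_eq_zero_of_rank_zero k _ hI'
        rw [this]
        simp
      · rw [hdI', hdF]
        exact hFss _ rI i' hi' h0 hI'
    have hdeq : dI = dI' := by
      have h1 : dI' * (s : ℤ) ≤ dI * (s : ℤ) := by rw [hIeq']; exact hI'le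
      exact le_antisymm hd (le_of_mul_le_mul_right h1 hs0)
    haveI := hiso hdeq
    -- cokernel f ≅ cokernel i'
    let e1 : cokernel f ≅ cokernel (Abelian.factorThruImage f ≫ Abelian.image.ι f) :=
      cokernelIsoOfEq (Abelian.image.fac f).symm
    let e2 := cokernelEpiComp (Abelian.factorThruImage f) (Abelian.image.ι f)
    let e3 : cokernel (Abelian.image.ι f) ≅ cokernel (j ≫ i') := cokernelIsoOfEq hfac.symm
    let e4 := cokernelEpiComp j i'
    have hC : FlatMod.IsFinLocFreeOfRank (s - rI) (cokernel f) :=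
      Groth.Agent.Lib.Helper26.ModRank.isFinLocFreeOfRank_of_iso (e1 ≪≫ e2 ≪≫ e3 ≪≫ e4).symm hC'
    have hdC := Groth.Agent.Lib.T2H6.RankAdd.deg_additive k (imCokerSC f) (imCokerSC_shortExact f)
      rI s (s - rI) hI hF hC
    change Curv2.deg k X F s = Curv2.deg k X (Abelian.image f) rI +
      Curv2.deg k X (cokernel f) (s - rI) at hdC
    obtain ⟨dC, hdC'⟩ : ∃ d, d = Curv2.deg k X (cokernel f) (s - rI) := ⟨_, rfl⟩
    rw [← hdF, ← hdI, ← hdC'] at hdC
    have hcast : ((s - rI : ℕ) : ℤ) = (s : ℤ) - (rI : ℤ) := Nat.cast_sub hle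
    have hCeq : dC * (s : ℤ) = dF * ((s : ℤ) - (rI : ℤ)) := by
      have : dC = dF - dI := by linarith
      rw [this]
      have : (dF - dI) * (s : ℤ) = dF * (s : ℤ) - dI * (s : ℤ) := by ring
      rw [this, hIeq']
      ring
    refine ⟨s - rI, hC, ?_, ?_⟩
    · rw [← hdC', ← hdF, hcast]
      exact hCeq
    · intro G n g hg hn hG
      haveI := hg
      obtain ⟨P, ι, hι, hP, hdP⟩ := preimage_data k hdim hreg (imCokerSC f) (imCokerSC_shortExact f)
        rI s (s - rI) hI hF hC g n hG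
      change Curv2.deg k X P (rI + n) = Curv2.deg k X (Abelian.image f) rI + Curv2.deg k X G n at hdP
      have h1 := hFss P (rI + n) ι hι (by omega) hP
      rw [hdP, ← hdI, ← hdF] at h1
      push_cast at h1
      rw [← hdC', hcast]
      have h2 : Curv2.deg k X G n * (s : ℤ) ≤ dF * (n : ℤ) := by
        have : (dI + Curv2.deg k X G n) * (s : ℤ) = dI * (s : ℤ) + Curv2.deg k X G n * (s : ℤ) := by
          ring
        rw [this, hIeq'] at h1
        linarith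
      have hnn : (0 : ℤ) ≤ (s : ℤ) - (rI : ℤ) := by
        have : (rI : ℤ) ≤ (s : ℤ) := by exact_mod_cast hle
        linarith
      have h3 : (Curv2.deg k X G n * ((s : ℤ) - (rI : ℤ))) * (s : ℤ) ≤ (dC * (n : ℤ)) * (s : ℤ) := by
        calc (Curv2.deg k X G n * ((s : ℤ) - (rI : ℤ))) * (s : ℤ)
            = (Curv2.deg k X G n * (s : ℤ)) * ((s : ℤ) - (rI : ℤ)) := by ring
          _ ≤ (dF * (n : ℤ)) * ((s : ℤ) - (rI : ℤ)) := mul_le_mul_of_nonneg_right h2 hnn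
          _ = (dF * ((s : ℤ) - (rI : ℤ))) * (n : ℤ) := by ring
          _ = (dC * (s : ℤ)) * (n : ℤ) := by rw [hCeq]
          _ = (dC * (n : ℤ)) * (s : ℤ) := by ring
      exact le_of_mul_le_mul_right h3 hs0

end Groth.Agent.Lib.T2H6.CurveSSAb
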