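-- helper6 (team 2): the diagonal of a product functor `f ×_𝒵 g` of categories over `(Sch/S)`.
import Mathlib
import Groth.Agent.Lib.T2H6DiagSp
import Groth.Agent.Lib.Helper15DiagComp
import Groth.Agent.Lib.Helper15DiagBC
import Groth.Agent.Lib.Helper15DiagOfComp
import Groth.Agent.Lib.Helper17FpPaste

set_option autoImplicit false
set_option backward.isDefEq.respectTransparency false
set_option backward.isDefEq.respectTransparency.types false
open CategoryTheory CategoryTheory.Functor CategoryTheory.Limits Opposite AlgebraicGeometry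

universe u

namespace Groth.Agent.Lib.T2H6.DiagProd

open Groth.Agent.Lib.Helper17 Groth.Agent.Lib.Helper15DiagBase Groth.Agent.Lib.Helper15DiagLft
  Groth.Agent.Lib.Helper15DiagOfComp Groth.Agent.Lib.Helper15DiagComp
  Groth.Agent.Lib.Helper15.DiagBC Groth.Agent.Lib.T2H6.DiagSp Groth.Agent.Lib.Helper15FpSwap

variable {S : Scheme.{u}}

section Congr

variable {𝒜 ℬ : AlgSt.Cat S}

/-- the diagonal only depends on the functor up to 2-isomorphism -/
theorem repByAlgSpWith_diag_congr (D : MorphismProperty (AlgSp.Sp S)) {h q : 𝒜 ⥤ᵇ ℬ} (ε : h ≅ q) :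
    AlgSt.RepByAlgSpWith D (FibCat.diag q) ↔ AlgSt.RepByAlgSpWith D (FibCat.diag h) := by
  have : (BasedFunctor.id ℬ).toFunctor.Full := inferInstanceAs (𝟭 ℬ.obj).Full
  have : (BasedFunctor.id ℬ).toFunctor.Faithful := inferInstanceAs (𝟭 ℬ.obj).Faithful
  exact repByAlgSpWith_diag_postcomp D h (BasedFunctor.id ℬ) q ε

end Congr

variable {𝒳 𝒳' 𝒴 𝒴' 𝒵 : AlgSt.Cat S} (p' : 𝒳' ⥤ᵇ 𝒵) (q' : 𝒴' ⥤ᵇ 𝒵) (f : 𝒳 ⥤ᵇ 𝒳') (g : 𝒴 ⥤ᵇ 𝒴')

/-- `f × id` -/
def prodA : FibCat.fp (BasedFunctor.comp f p') (BasedFunctor.comp g q') ⥤ᵇ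
    FibCat.fp p' (BasedFunctor.comp g q') :=
  FibCat.fpLift
    (BasedFunctor.comp (FibCat.fpFst (BasedFunctor.comp f p') (BasedFunctor.comp g q')) f)
    (FibCat.fpSnd (BasedFunctor.comp f p') (BasedFunctor.comp g q'))
    (FibCat.fpIso (BasedFunctor.comp f p') (BasedFunctor.comp g q'))

/-- `id × g` -/
def prodB : FibCat.fp p' (BasedFunctor.comp g q') ⥤ᵇ FibCat.fp p' q' :=
  FibCat.fpLift (FibCat.fpFst p' (BasedFunctor.comp g q'))
    (BasedFunctor.comp (FibCat.fpSnd p' (BasedFunctor.comp g q')) g)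
    (FibCat.fpIso p' (BasedFunctor.comp g q'))

/-- `f × id` is the base change of `f` -/
def prodAIso :
    BasedFunctor.comp (pasteL (BasedFunctor.comp g q') p' f) (prodA p' q' f g) ≅
      FibCat.fpSnd f (FibCat.fpFst p' (BasedFunctor.comp g q')) :=
  fpIsoMk p' (BasedFunctor.comp g q')
    (H := BasedFunctor.comp (pasteL (BasedFunctor.comp g q') p' f) (prodA p' q' f g))
    (K := FibCat.fpSnd f (FibCat.fpFst p' (BasedFunctor.comp g q')))
    (FibCat.fpIso f (FibCat.fpFst p' (BasedFunctor.comp g q'))) (Iso.refl _)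
    (fun s => by
      change p'.map s.obj.iso.hom ≫ s.obj.snd.obj.iso.hom =
        (p'.map s.obj.iso.hom ≫ s.obj.snd.obj.iso.hom) ≫ (BasedFunctor.comp g q').map (𝟙 _)
      rw [(BasedFunctor.comp g q').toFunctor.map_id, Category.comp_id])

/-- `id × g` is the base change of `g` -/
def prodBIso :
    BasedFunctor.comp (pasteR p' g q') (prodB p' q' g) ≅
      FibCat.fpFst (FibCat.fpSnd p' q') g :=
  fpIsoMk p' q'
    (H := BasedFunctor.comp (pasteR p' g q') (prodB p' q' g))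
    (K := FibCat.fpFst (FibCat.fpSnd p' q') g)
    (Iso.refl _) (FibCat.fpIso (FibCat.fpSnd p' q') g).symm
    (fun s => by
      change p'.map (𝟙 _) ≫ s.obj.fst.obj.iso.hom =
        (s.obj.fst.obj.iso.hom ≫ q'.map s.obj.iso.hom) ≫ q'.map s.obj.iso.inv
      rw [p'.toFunctor.map_id, Category.id_comp, Category.assoc, ← q'.toFunctor.map_comp,
        Iso.hom_inv_id, q'.toFunctor.map_id, Category.comp_id])

theorem repByAlgSpWith_diag_prodA (P : MorphismProperty (AlgSp.Sp S))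
    (hf : AlgSt.RepByAlgSpWith P (FibCat.diag f)) :
    AlgSt.RepByAlgSpWith P (FibCat.diag (prodA p' q' f g)) := by
  let k := FibCat.fpFst p' (BasedFunctor.comp g q')
  have h1 : AlgSt.RepByAlgSpWith P (FibCat.diag (FibCat.fpFst k f)) :=
    repByAlgSpWith_diag_fpFst P f k hf
  have h2 := (repByAlgSpWith_diag_equiv_source P (fpSwap f k) (isEquivOver_fpSwap f k)
    (FibCat.fpFst k f)).1 h1
  have h3 : AlgSt.RepByAlgSpWith P (FibCat.diag (FibCat.fpSnd f k)) := h2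
  have h4 := (repByAlgSpWith_diag_congr P (prodAIso p' q' f g)).1 h3
  exact (repByAlgSpWith_diag_equiv_source P (pasteL (BasedFunctor.comp g q') p' f)
    (isEquivOver_pasteL _ _ _) (prodA p' q' f g)).2 h4

theorem repByAlgSpWith_diag_prodB (P : MorphismProperty (AlgSp.Sp S))
    (hg : AlgSt.RepByAlgSpWith P (FibCat.diag g)) :
    AlgSt.RepByAlgSpWith P (FibCat.diag (prodB p' q' g)) := by
  have h1 : AlgSt.RepByAlgSpWith P (FibCat.diag (FibCat.fpFst (FibCat.fpSnd p' q') g)) :=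
    repByAlgSpWith_diag_fpFst P g (FibCat.fpSnd p' q') hg
  have h4 := (repByAlgSpWith_diag_congr P (prodBIso p' q' g)).1 h1
  exact (repByAlgSpWith_diag_equiv_source P (pasteR p' g q')
    (isEquivOver_pasteR _ _ _) (prodB p' q' g)).2 h4

theorem repByAlgSpWith_diag_prod (h𝒳 : FibCat.IsFibGrpd 𝒳.p) (h𝒳' : FibCat.IsFibGrpd 𝒳'.p)
    (h𝒴 : FibCat.IsFibGrpd 𝒴.p) (h𝒵 : FibCat.IsFibGrpd 𝒵.p)
    (P : MorphismProperty (AlgSp.Sp S))
    (hPc : ∀ ⦃X Y Z : AlgSp.Sp S⦄, AlgSp.IsAlgSpace X → AlgSp.IsAlgSpace Y → AlgSp.IsAlgSpace Z →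
      ∀ (a : X ⟶ Y) (b : Y ⟶ Z), P a → P b → P (a ≫ b))
    (hP : AlgSp.IsLocalOnBase AlgSp.IsEtCover P)
    (e : BasedFunctor.comp (BasedFunctor.comp (FibCat.fpFst (BasedFunctor.comp f p')
        (BasedFunctor.comp g q')) f) p' ≅
      BasedFunctor.comp (BasedFunctor.comp (FibCat.fpSnd (BasedFunctor.comp f p')
        (BasedFunctor.comp g q')) g) q')
    (he : ∀ x, e.hom.toNatTrans.app x = x.obj.iso.hom)
    (hf : AlgSt.RepByAlgSpWith P (FibCat.diag f)) (hg : AlgSt.RepByAlgSpWith P (FibCat.diag g)) :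
    AlgSt.RepByAlgSpWith P (FibCat.diag
      (FibCat.fpLift (BasedFunctor.comp (FibCat.fpFst (BasedFunctor.comp f p')
          (BasedFunctor.comp g q')) f)
        (BasedFunctor.comp (FibCat.fpSnd (BasedFunctor.comp f p') (BasedFunctor.comp g q')) g)
        e)) := by
  have hA := repByAlgSpWith_diag_prodA p' q' f g P hf
  have hB := repByAlgSpWith_diag_prodB p' q' g P hg
  have h1 : FibCat.IsFibGrpd (FibCat.fp (BasedFunctor.comp f p') (BasedFunctor.comp g q')).p :=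
    isFibGrpd_fp _ _ h𝒳 h𝒴 h𝒵
  have h2 : FibCat.IsFibGrpd (FibCat.fp p' (BasedFunctor.comp g q')).p :=
    isFibGrpd_fp _ _ h𝒳' h𝒴 h𝒵
  have hAB := repByAlgSpWith_diag_comp h1 h2 P hPc hP (prodA p' q' f g) (prodB p' q' g) hA hB
  refine (repByAlgSpWith_diag_congr P (?_ : BasedFunctor.comp (prodA p' q' f g) (prodB p' q' g) ≅
    _)).2 hAB
  exact fpIsoMk p' q' (Iso.refl _) (Iso.refl _) (fun x => by
    change p'.map (𝟙 _) ≫ e.hom.toNatTrans.app x = x.obj.iso.hom ≫ q'.map (𝟙 _)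
    rw [p'.toFunctor.map_id, q'.toFunctor.map_id, he x]
    exact (Category.id_comp _).trans (Category.comp_id _).symm)

end Groth.Agent.Lib.T2H6.DiagProd
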