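-- helper6 (team 2): surjectivity of the diagonal on points and lifting of 2-arrows at
-- algebraically closed points.
import Mathlib
import Groth.Agent.Lib.Helper11HomSm
import Groth.Agent.Lib.Helper15DiagLft
import Groth.Agent.Lib.Helper15PtsComp
import Groth.Agent.Lib.Helper17FibYoneda
import Groth.Agent.Lib.Helper17StkPts2
import Groth.Agent.Lib.Helper17StkPts3
import Groth.Prelude.Def_AlgSt4

set_option autoImplicit false
set_option backward.isDefEq.respectTransparency false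
set_option backward.isDefEq.respectTransparency.types false
set_option linter.unusedSimpArgs false
set_option linter.unusedSectionVars false
open CategoryTheory CategoryTheory.Limits AlgebraicGeometry Opposite

universe u

namespace Groth.Agent.Lib.T2H6.DiagSurj

open Groth.Agent.Lib.Helper17

section NS

variable {S : Scheme.{u}}

/-- a nonempty algebraic space locally of finite type over an algebraically closed field has a
rational point -/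
theorem exists_section_of_lft (F : AlgSp.Sp S) (hF : AlgSp.IsAlgSpace F) (k : Type u) [Field k]
    [IsAlgClosed k] (s : Spec (CommRingCat.of k) ⟶ S) (g : F ⟶ (AlgSp.yon S).obj (Over.mk s))
    (hg : AlgSp.LocP @LocallyOfFiniteType g)
    (T' : Over S) (hT' : Nonempty T'.left) (ξ : (AlgSp.yon S).obj T' ⟶ F) :
    ∃ σ : (AlgSp.yon S).obj (Over.mk s) ⟶ F, σ ≫ g = 𝟙 _ := by
  obtain ⟨U, p, hp, hps⟩ := hF.atlas
  obtain ⟨h, hh⟩ := (AlgSp.yon S).map_surjective (p ≫ g)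
  have hlft : LocallyOfFiniteType h.left :=
    hg p (𝟙 _) h hp (AlgSp.repWith_id _ _) (by rw [hh, Category.comp_id])
  obtain ⟨U', snd, fst, sq⟩ := hps.1 ξ
  have hsurj : Surjective snd.left := hps.2 _ _ snd sq
  obtain ⟨fst', rfl⟩ := (AlgSp.yon S).map_surjective fst
  obtain ⟨t'⟩ := hT'
  obtain ⟨u', -⟩ := hsurj.surj t'
  have hsub : Subsingleton ↥(Over.mk s).left :=
    inferInstanceAs (Subsingleton (PrimeSpectrum k))
  have hsurj2 : Surjective h.left :=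
    ⟨fun x => ⟨fst'.left u', Subsingleton.elim _ _⟩⟩
  obtain ⟨σ₀, hσ₀⟩ := Groth.Agent.Lib.Helper11HomSm.exists_lift_point h.left
    (𝟙 (Spec (CommRingCat.of k)))
  let σ : Over.mk s ⟶ U := Over.homMk σ₀ (by
    change σ₀ ≫ U.hom = s
    rw [← Over.w h, reassoc_of% hσ₀]
    rfl)
  have hσ : σ ≫ h = 𝟙 _ := by
    apply Over.OverMorphism.ext
    exact hσ₀
  refine ⟨(AlgSp.yon S).map σ ≫ p, ?_⟩
  rw [Category.assoc, ← hh, ← Functor.map_comp, hσ, CategoryTheory.Functor.map_id]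

end NS

section Back

variable {S : Scheme.{u}} {𝒳 𝒴 : AlgSt.Cat S}

/-- the lifting property at algebraically closed points makes the diagonal surjective on points -/
theorem isSurjective_diag_of_lift (h𝒳 : FibCat.IsFibGrpd 𝒳.p) (h𝒴 : FibCat.IsFibGrpd 𝒴.p)
    (f : 𝒳 ⥤ᵇ 𝒴)
    (H : ∀ (k : Type u) [Field k] [IsAlgClosed k] (s : Spec (CommRingCat.of k) ⟶ S)
      (a₁ a₂ : 𝒳.obj) (_ : 𝒳.p.obj a₁ = Over.mk s) (_ : 𝒳.p.obj a₂ = Over.mk s)
      (β : f.obj a₁ ⟶ f.obj a₂), 𝒴.p.IsHomLift (𝟙 (Over.mk s)) β →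
        ∃ α : a₁ ⟶ a₂, 𝒳.p.IsHomLift (𝟙 (Over.mk s)) α ∧ f.map α = β) :
    AlgSt.IsSurjective (FibCat.diag f) := by
  intro η
  obtain ⟨p, rfl⟩ := AlgSt.Points.mk_surjective η
  have hfp : FibCat.IsFibGrpd (FibCat.fp f f).p := isFibGrpd_fp f f h𝒳 h𝒳 h𝒴
  have := IsFibGrpd.isFibered hfp
  let k := AlgebraicClosure p.K
  let j : Spec (CommRingCat.of k) ⟶ Spec (CommRingCat.of p.K) :=
    Spec.map (CommRingCat.ofHom (algebraMap p.K k))
  let jj : Over.mk (j ≫ p.str) ⟶ Over.mk p.str := Over.homMk j rfl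
  let w' : (FibCat.fp f f).obj := Functor.IsPreFibered.pullbackObj p.lies jj
  let m : w' ⟶ p.obj := Functor.IsPreFibered.pullbackMap p.lies jj
  have hm : (FibCat.fp f f).p.IsHomLift jj m := inferInstance
  have h₁' : 𝒳.p.obj w'.obj.fst = Over.mk (j ≫ p.str) :=
    IsHomLift.domain_eq (FibCat.fp f f).p jj m
  have h₂' : 𝒳.p.obj w'.obj.snd = Over.mk (j ≫ p.str) :=
    ((FibCat.fpSnd f f).w_obj w').trans h₁'
  have hβ' : 𝒴.p.IsHomLift (𝟙 (Over.mk (j ≫ p.str))) w'.obj.iso.hom := by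
    have := w'.property
    rw [← h₁']
    exact this
  obtain ⟨α, hα, hfα⟩ := H k (j ≫ p.str) w'.obj.fst w'.obj.snd h₁' h₂' w'.obj.iso.hom hβ'
  let r : AlgSt.FPt 𝒳 := { K := k, str := j ≫ p.str, obj := w'.obj.fst, lies := h₁' }
  let n : (FibCat.diag f).obj w'.obj.fst ⟶ w' := ObjectProperty.homMk
    { fst := 𝟙 _
      snd := α
      w := by
        change f.map (𝟙 _) ≫ w'.obj.iso.hom = 𝟙 _ ≫ f.map α
        rw [hfα]
        simp }
  refine ⟨AlgSt.Points.mk r, ?_⟩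
  rw [AlgSt.Points.map_mk]
  exact AlgSt.Points.sound ⟨r.map (FibCat.diag f), 𝟙 _, n ≫ m, trivial⟩

end Back

section Forward

variable {S : Scheme.{u}} {𝒳 𝒴 : AlgSt.Cat S}

open Groth.Agent.Lib.Helper15DiagLft

theorem exists_lift_of_isSurjective_diag (h𝒳 : AlgSt.IsAlgStack Scheme.fppfPrecoverage 𝒳)
    (h𝒴 : AlgSt.IsAlgStack Scheme.fppfPrecoverage 𝒴) (f : 𝒳 ⥤ᵇ 𝒴)
    (hΔ : AlgSt.IsSurjective (FibCat.diag f))
    (k : Type u) [Field k] [IsAlgClosed k] (s : Spec (CommRingCat.of k) ⟶ S)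
    (a₁ a₂ : 𝒳.obj) (h₁ : 𝒳.p.obj a₁ = Over.mk s) (h₂ : 𝒳.p.obj a₂ = Over.mk s)
    (β : f.obj a₁ ⟶ f.obj a₂) (hβ : 𝒴.p.IsHomLift (𝟙 (Over.mk s)) β) :
    ∃ α : a₁ ⟶ a₂, 𝒳.p.IsHomLift (𝟙 (Over.mk s)) α ∧ f.map α = β := by
  have hfib𝒳 := h𝒳.isStack.1
  have hfib𝒴 := h𝒴.isStack.1
  have hfp : FibCat.IsFibGrpd (FibCat.fp f f).p := isFibGrpd_fp f f hfib𝒳 hfib𝒳 hfib𝒴
  have := IsFibGrpd.isFibered hfp
  obtain ⟨T, hT⟩ : ∃ T : Over S, T = Over.mk s := ⟨_, rfl⟩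
  have hβiso : IsIso β := IsFibGrpd.isIso_of_isHomLift_id hfib𝒴 (Over.mk s) β
  let w : (FibCat.fp f f).obj := ⟨⟨a₁, a₂, asIso β⟩, by
    change 𝒴.p.IsHomLift (𝟙 (𝒳.p.obj a₁)) β
    rw [h₁]
    exact hβ⟩
  have hw : (FibCat.fp f f).p.obj w = T := h₁.trans hT.symm
  let y : FibCat.overCat T ⥤ᵇ FibCat.fp f f := yonedaFunctor hw
  obtain ⟨ey, -⟩ := yonedaFunctor_iso hw
  obtain ⟨F, e, he, hlft⟩ := repByAlgSpWith_lft_diag h𝒳 h𝒴 f T y
  -- the fibre product is nonempty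
  let z₀ : AlgSt.FPt (FibCat.overCat T) :=
    { K := k, str := s, obj := Over.mk (𝟙 T), lies := hT }
  obtain ⟨x, hx⟩ := hΔ (AlgSt.Points.map y (AlgSt.Points.mk z₀))
  obtain ⟨wpt, -, -⟩ := points_fp_surjective hfib𝒳 hfp (isFibSet_overForget T).1
    (FibCat.diag f) y (AlgSt.Points.mk z₀) x hx.symm
  obtain ⟨v, -⟩ := Groth.Agent.Lib.Helper15UnivComp.points_map_surjective_of_isEquivOver e he wpt
  obtain ⟨q, -⟩ := AlgSt.Points.mk_surjective v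
  have hne : Nonempty ↥q.obj.base.left := fpt_nonempty q
  let ξ : (AlgSp.yon S).obj q.obj.base ⟶ F.obj :=
    ObjectProperty.homMk (uliftYonedaEquiv.symm q.obj.sec)
  subst hT
  obtain ⟨σ, hσ⟩ := exists_section_of_lft F.obj F.property k s _ hlft q.obj.base hne ξ
  -- the rational point
  let a₀ : (AlgSt.ofSp F.obj).obj := ⟨Over.mk s, σ.hom.app (op (Over.mk s)) ⟨𝟙 _⟩⟩
  obtain ⟨ξ₀, hξ₀⟩ : ∃ ξ₀ : (FibCat.fp y (FibCat.diag f)).obj, ξ₀ = e.obj a₀ := ⟨_, rfl⟩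
  have hsec : AlgSt.secHom (BasedFunctor.comp e (FibCat.fpFst y (FibCat.diag f))) a₀ = 𝟙 _ := by
    have h3 := congrArg (fun t => t.hom.app (op (Over.mk s)) ⟨𝟙 _⟩) hσ
    have h4 : (⟨AlgSt.secHom (BasedFunctor.comp e (FibCat.fpFst y (FibCat.diag f))) a₀⟩ :
        ULift (Over.mk s ⟶ Over.mk s)) = ⟨𝟙 _⟩ := h3
    exact congrArg ULift.down h4
  have hc : IsIso ξ₀.obj.fst.hom := by
    unfold AlgSt.secHom at hsec
    rw [hξ₀]
    have h5 : ((BasedFunctor.comp e (FibCat.fpFst y (FibCat.diag f))).obj a₀).hom =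
        eqToHom ((BasedFunctor.comp e (FibCat.fpFst y (FibCat.diag f))).w_obj a₀) := by
      rw [← cancel_epi (eqToHom ((BasedFunctor.comp e
        (FibCat.fpFst y (FibCat.diag f))).w_obj a₀).symm), hsec, eqToHom_trans, eqToHom_refl]
      rfl
    change IsIso ((BasedFunctor.comp e (FibCat.fpFst y (FibCat.diag f))).obj a₀).hom
    rw [h5]
    infer_instance
  let ic : ξ₀.obj.fst ≅ Over.mk (𝟙 (Over.mk s)) :=
    Over.isoMk (asIso ξ₀.obj.fst.hom) (by simp)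
  let ι : w ≅ (FibCat.diag f).obj ξ₀.obj.snd :=
    ey.symm ≪≫ y.toFunctor.mapIso ic.symm ≪≫ ξ₀.obj.iso
  obtain ⟨ι₁, hι₁⟩ : ∃ ι₁ : a₁ ≅ ξ₀.obj.snd, ι₁ = (FibCat.fpFst f f).toFunctor.mapIso ι := ⟨_, rfl⟩
  obtain ⟨ι₂, hι₂⟩ : ∃ ι₂ : a₂ ≅ ξ₀.obj.snd, ι₂ = (FibCat.fpSnd f f).toFunctor.mapIso ι := ⟨_, rfl⟩
  have hwι : f.map ι₁.hom ≫ 𝟙 _ = β ≫ f.map ι₂.hom := by
    rw [hι₁, hι₂]
    exact ι.hom.hom.w
  rw [Category.comp_id] at hwι
  have hlift₂ : 𝒳.p.IsHomLift (𝒳.p.map ι₁.hom) ι₂.hom := by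
    rw [hι₁, hι₂]
    exact FibCat.fp_isHomLift_snd f f ι.hom
  have hb := IsHomLift.fac' 𝒳.p (𝒳.p.map ι₁.hom) ι₂.hom
  refine ⟨ι₁.hom ≫ ι₂.inv, ?_, ?_⟩
  · apply IsHomLift.of_fac 𝒳.p _ _ h₁ h₂
    have hb' : 𝒳.p.map ι₁.hom = eqToHom (h₁.trans h₂.symm) ≫ 𝒳.p.map ι₂.hom := by
      rw [hb]
      simp
    have h7 : 𝒳.p.map ι₂.hom ≫ 𝒳.p.map ι₂.inv = 𝟙 _ := by
      rw [← Functor.map_comp, Iso.hom_inv_id, CategoryTheory.Functor.map_id]
    rw [Functor.map_comp, hb']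
    simp only [Category.assoc]
    rw [reassoc_of% h7]
    simp
  · rw [Functor.map_comp, hwι, Category.assoc, ← Functor.map_comp, Iso.hom_inv_id,
      CategoryTheory.Functor.map_id, Category.comp_id]

end Forward

end Groth.Agent.Lib.T2H6.DiagSurj
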