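import Mathlib
import Groth.Prelude.Def_StabCat
import Groth.Agent.Lib.T2H6LatHN

/-!
# The last Harder–Narasimhan factor as the minimal destabilising quotient (lattice version)

For a Harder–Narasimhan chain `s` of a `LatHN.Data`, with last step `[a, ⊤]`, every saturated `y ≥ s.head`
such that `[y, ⊤]` has the multiplicity and the reduced polynomial of `[a, ⊤]` is equal to `a`
(`eq_last_of_quot`).
-/

open Polynomial StabCat

namespace Groth.Agent.Lib.T2H6.LatHNQuot

open Groth.Agent.Lib.T2H6.HilbPolyA Groth.Agent.Lib.T2H6.HilbPolyD Groth.Agent.Lib.T2H6.LatHN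

section poly

variable {d : ℕ}

/-- the reduced polynomial of `t` is at least that of `P`, strictly if the multiplicity of `t` is positive. -/
def QGE (d : ℕ) (P t : ℚ[X]) : Prop := RedLE d P t ∧ (0 < alpha d t → RedLT d P t)

theorem qge_zero (P : ℚ[X]) : QGE d P 0 := by
  refine ⟨⟨0, fun m _ => ?_⟩, fun h => ?_⟩
  · have : alpha d (0 : ℚ[X]) = 0 := by simp [alpha]
    rw [this]
    simp
  · have : alpha d (0 : ℚ[X]) = 0 := by simp [alpha]
    rw [this] at h
    exact absurd h (lt_irrefl _)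

theorem redLE_add {P t₁ t₂ : ℚ[X]} (h₁ : RedLE d P t₁) (h₂ : RedLE d P t₂) : RedLE d P (t₁ + t₂) := by
  obtain ⟨N₁, hN₁⟩ := h₁
  obtain ⟨N₂, hN₂⟩ := h₂
  refine ⟨max N₁ N₂, fun m hm => ?_⟩
  have e₁ := hN₁ m (le_trans (le_max_left _ _) hm)
  have e₂ := hN₂ m (le_trans (le_max_right _ _) hm)
  simp only [eval_smul, smul_eq_mul, eval_add, alpha_add] at e₁ e₂ ⊢
  linarith

theorem redLT_add_left {P t₁ t₂ : ℚ[X]} (h₁ : RedLT d P t₁) (h₂ : RedLE d P t₂) :
    RedLT d P (t₁ + t₂) := by
  obtain ⟨N₁, hN₁⟩ := h₁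
  obtain ⟨N₂, hN₂⟩ := h₂
  refine ⟨max N₁ N₂, fun m hm => ?_⟩
  have e₁ := hN₁ m (le_trans (le_max_left _ _) hm)
  have e₂ := hN₂ m (le_trans (le_max_right _ _) hm)
  simp only [eval_smul, smul_eq_mul, eval_add, alpha_add] at e₁ e₂ ⊢
  linarith

theorem qge_add {P t₁ t₂ : ℚ[X]} (h₁ : QGE d P t₁) (h₂ : QGE d P t₂) (a₁ : 0 ≤ alpha d t₁)
    (a₂ : 0 ≤ alpha d t₂) : QGE d P (t₁ + t₂) := by
  refine ⟨redLE_add h₁.1 h₂.1, fun h => ?_⟩
  rw [alpha_add] at h
  by_cases h1 : 0 < alpha d t₁
  · exact redLT_add_left (h₁.2 h1) h₂.1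
  · have h2 : 0 < alpha d t₂ := by
      have : alpha d t₁ = 0 := le_antisymm (not_lt.1 h1) a₁
      rw [this, zero_add] at h
      exact h
    rw [add_comm]
    exact redLT_add_left (h₂.2 h2) h₁.1

end poly

variable {Λ : Type*} [Lattice Λ] {d : ℕ} {A : Data Λ d}

/-- quotient intervals of a semistable interval of bigger slope. -/
theorem qge_of_quot {a z b : Λ} (hss : SSInt A a b) (hab : a < b) (haz : a ≤ z) (hzb : z ≤ b)
    {Pm : ℚ[X]} (hPm : 0 < alpha d Pm) (hlt : RedLT d Pm (A.D a b)) : QGE d Pm (A.D z b) := by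
  have hpos : 0 < alpha d (A.D a b) := (hss b hab le_rfl).1
  have hnn : 0 ≤ alpha d (A.D z b) := alpha_D_nonneg A hzb
  have hq : RedLE d (A.D a b) (A.D z b) := by
    rcases haz.eq_or_lt with rfl | haz'
    · exact redLE_refl d _
    · exact seesaw_le (D_add A a z b) (hss z haz' hzb).2
  exact ⟨redLE_trans hPm.le hpos hnn (redLE_of_redLT hlt) hq,
    fun h => redLT_of_redLT_of_redLE hPm.le hpos h hlt hq⟩

/-- quotient intervals `[z, s j]` of a Harder–Narasimhan chain all of whose slopes are bigger than that of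
`Pm`. -/
theorem qge_chain {s : LTSeries Λ} (hs : IsHN A s) {Pm : ℚ[X]} (hPm : 0 < alpha d Pm) (J : ℕ)
    (hlt : ∀ i : Fin s.length, i.val < J → RedLT d Pm (A.D (s i.castSucc) (s i.succ))) :
    ∀ (j : ℕ) (_ : j ≤ J) (hj' : j < s.length + 1) (z : Λ), s.head ≤ z → z ≤ s ⟨j, hj'⟩ →
      QGE d Pm (A.D z (s ⟨j, hj'⟩)) := by
  intro j
  induction j with
  | zero =>
    intro _ hj' z hz0 hz
    have : z = s ⟨0, hj'⟩ := le_antisymm hz hz0
    rw [← this, D_self]
    exact qge_zero _
  | succ j ih =>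
    intro hj hj' z hz0 hz
    have hjlen : j < s.length := by omega
    let i : Fin s.length := ⟨j, hjlen⟩
    have hb : s ⟨j + 1, hj'⟩ = s i.succ := rfl
    have ha : s ⟨j, by omega⟩ = s i.castSucc := rfl
    rw [hb] at hz ⊢
    have h0a : s.head ≤ s i.castSucc := s.strictMono.monotone (Fin.zero_le _)
    have hab : s i.castSucc < s i.succ := s.step i
    have hw1 : s i.castSucc ≤ z ⊔ s i.castSucc := le_sup_right
    have hw2 : z ⊔ s i.castSucc ≤ s i.succ := sup_le hz hab.le
    have e1 : A.D z (s i.succ) = A.D z (z ⊔ s i.castSucc) + A.D (z ⊔ s i.castSucc) (s i.succ) :=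
      D_add A _ _ _
    have e2 : A.D (z ⊓ s i.castSucc) (s i.castSucc) = A.D z (z ⊔ s i.castSucc) := D_mod A z _
    have q1 : QGE d Pm (A.D (z ⊓ s i.castSucc) (s i.castSucc)) :=
      ih (by omega) (by omega) (z ⊓ s i.castSucc) (le_inf hz0 h0a) inf_le_right
    have q2 : QGE d Pm (A.D (z ⊔ s i.castSucc) (s i.succ)) :=
      qge_of_quot (hs.1 i) hab hw1 hw2 hPm (hlt i (by change j < J; omega))
    rw [e1, ← e2]
    exact qge_add q1 q2 (alpha_D_nonneg A inf_le_right) (alpha_D_nonneg A hw2)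

/-- **the last step of a Harder–Narasimhan chain is the minimal destabilising quotient.** -/
theorem eq_last_of_quot {s : LTSeries Λ} (hs : IsHN A s) (hs1 : s.last = A.top) (hlen : 0 < s.length)
    (y : Λ) (hy0 : s.head ≤ y) (hysat : A.Sat y)
    (hα : alpha d (A.D y A.top) = alpha d (A.D (s ⟨s.length - 1, by omega⟩) A.top))
    (hred : RedEq d (A.D (s ⟨s.length - 1, by omega⟩) A.top) (A.D y A.top)) :
    y = s ⟨s.length - 1, by omega⟩ := by
  let i0 : Fin s.length := ⟨s.length - 1, by omega⟩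
  have ha : s ⟨s.length - 1, by omega⟩ = s i0.castSucc := rfl
  have htop : s i0.succ = A.top := by
    rw [← hs1]
    change s _ = s (Fin.last _)
    congr 1
    ext
    simp only [Fin.val_succ, Fin.val_last, i0]
    omega
  rw [ha] at hα hred ⊢
  set a := s i0.castSucc with hadef
  have hss : SSInt A a A.top := by
    have := hs.1 i0
    rw [htop] at this
    exact this
  have hab : a < A.top := by
    have := s.step i0
    rw [htop] at this
    exact this
  set Pm := A.D a A.top with hPmdef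
  have hPm : 0 < alpha d Pm := (hss _ hab le_rfl).1
  have hlt : ∀ i : Fin s.length, i.val < s.length - 1 → RedLT d Pm (A.D (s i.castSucc) (s i.succ)) := by
    intro i hi
    have := rlt_of_isHN hs (s.length - 1 - i.val - 1) i i0 (by simp only [i0]; omega)
    rw [htop] at this
    exact this
  have h0a : s.head ≤ a := s.strictMono.monotone (Fin.zero_le _)
  -- the interval `[y, y ⊔ a]`
  have q1 : QGE d Pm (A.D (y ⊓ a) a) :=
    qge_chain hs hPm (s.length - 1) hlt (s.length - 1) le_rfl (by omega) (y ⊓ a) (le_inf hy0 h0a)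
      inf_le_right
  have e2 : A.D (y ⊓ a) a = A.D y (y ⊔ a) := D_mod A y a
  rw [e2] at q1
  have q2 : RedLE d Pm (A.D (y ⊔ a) A.top) := by
    rcases (le_sup_right : a ≤ y ⊔ a).eq_or_lt with h | h
    · rw [← h]
      exact redLE_refl d _
    · exact seesaw_le (D_add A a (y ⊔ a) A.top) (hss _ h (A.le_top _)).2
  have e1 : A.D y A.top = A.D y (y ⊔ a) + A.D (y ⊔ a) A.top := D_add A _ _ _
  have hα0 : alpha d (A.D y (y ⊔ a)) = 0 := by
    by_contra hne
    have hpos : 0 < alpha d (A.D y (y ⊔ a)) :=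
      lt_of_le_of_ne (alpha_D_nonneg A le_sup_left) (Ne.symm hne)
    have hlt' : RedLT d Pm (A.D y A.top) := by
      rw [e1]
      exact redLT_add_left (q1.2 hpos) q2
    obtain ⟨N, hN⟩ := hlt'
    have := hN N le_rfl
    unfold RedEq at hred
    rw [hred] at this
    exact lt_irrefl _ this
  have hay : a ≤ y := by
    have : y ⊔ a = y := by
      by_contra hne
      have hlt' : y < y ⊔ a := lt_of_le_of_ne le_sup_left (Ne.symm hne)
      have := hysat _ hlt'
      rw [alpha_D] at hα0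
      linarith
    rw [← this]
    exact le_sup_right
  rcases hay.eq_or_lt with h | h
  · exact h.symm
  · exfalso
    have hpos := (hss y h (A.le_top y)).1
    have e3 : A.D a A.top = A.D a y + A.D y A.top := D_add A _ _ _
    have : alpha d (A.D a A.top) = alpha d (A.D a y) + alpha d (A.D y A.top) := by
      rw [e3, alpha_add]
    rw [hα] at this
    linarith

end Groth.Agent.Lib.T2H6.LatHNQuot
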