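import Mathlib
import Groth.Prelude
import Groth.Agent.Lib.T2H6HilbPolyP

/-!
# The slope Harder–Narasimhan filtration of a pure sheaf

The abstract Harder–Narasimhan theory of `T2H6LatHN`, applied to the lattice of coherent subobjects of a pure
sheaf with the Hilbert polynomials truncated to their two top coefficients (`Data.trunc`, `muData`).

* `redLE_topPart_one_iff`, `redLT_topPart_one_iff` : comparison of `1`-truncations is comparison of `hatSlope`.
* `pure_mu_of_ssInt`, `ssInt_of_pure_mu` : semistable intervals of `muData` are the intervals with pure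
  slope-semistable quotient.
* `existsUnique_muHN` : the slope Harder–Narasimhan filtration (S18833).
-/

set_option autoImplicit false
universe u

open CategoryTheory TopCat TopologicalSpace Opposite AlgebraicGeometry Limits Polynomial StabCat ZeroObject

namespace Groth.Agent.Lib.T2H6.MuHN

open Groth.Agent.Lib.T2H6.HilbPolyA Groth.Agent.Lib.T2H6.HilbPolyB Groth.Agent.Lib.T2H6.HilbPolyC
  Groth.Agent.Lib.T2H6.HilbPolyD Groth.Agent.Lib.T2H6.HilbPolyE Groth.Agent.Lib.T2H6.HilbPolyK
  Groth.Agent.Lib.T2H6.HilbPolyL Groth.Agent.Lib.T2H6.HilbPolyM Groth.Agent.Lib.T2H6.HilbPolyN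
  Groth.Agent.Lib.T2H6.HilbPolyO Groth.Agent.Lib.T2H6.HilbPolyP Groth.Agent.Lib.T2H5.FiltCat
  Groth.Agent.Lib.T2H6.FiltExt Groth.Agent.Lib.T2H6.JHLattice Groth.Agent.Lib.T2H6.LatHN

section poly

theorem topPart_add (ℓ d : ℕ) (P Q : ℚ[X]) : topPart ℓ d (P + Q) = topPart ℓ d P + topPart ℓ d Q := by
  ext i
  rw [coeff_add, coeff_topPart, coeff_topPart, coeff_topPart, coeff_add]
  split_ifs <;> simp

theorem eval_topPart_one {d : ℕ} (hd : 1 ≤ d) (P : ℚ[X]) (m : ℚ) :
    (topPart 1 d P).eval m = P.coeff d * m ^ d + P.coeff (d - 1) * m ^ (d - 1) := by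
  obtain ⟨e, rfl⟩ : ∃ e, d = e + 1 := ⟨d - 1, by omega⟩
  unfold topPart
  rw [Nat.add_sub_cancel, Finset.sum_Icc_succ_top (by omega), Finset.Icc_self, Finset.sum_singleton,
    eval_add, eval_monomial, eval_monomial]
  ring

theorem eval_cross {d : ℕ} (hd : 1 ≤ d) (P Q : ℚ[X]) (m : ℚ) :
    (alpha d (topPart 1 d P) • topPart 1 d Q).eval m - (alpha d (topPart 1 d Q) • topPart 1 d P).eval m =
      (alpha d P * Q.coeff (d - 1) - alpha d Q * P.coeff (d - 1)) * m ^ (d - 1) := by
  rw [alpha_topPart, alpha_topPart, eval_smul, eval_smul, eval_topPart_one hd, eval_topPart_one hd]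
  unfold alpha
  simp only [smul_eq_mul]
  ring

theorem hatSlope_le_iff {d : ℕ} {P Q : ℚ[X]} (haP : 0 < alpha d P) (haQ : 0 < alpha d Q) :
    hatSlope d P ≤ hatSlope d Q ↔ 0 ≤ alpha d P * Q.coeff (d - 1) - alpha d Q * P.coeff (d - 1) := by
  have hf : (0 : ℚ) < ((d - 1).factorial : ℚ) := by exact_mod_cast (d - 1).factorial_pos
  unfold hatSlope
  rw [div_le_div_iff₀ haP haQ]
  have h2 : alpha (d - 1) P = ((d - 1).factorial : ℚ) * P.coeff (d - 1) := rfl
  have h3 : alpha (d - 1) Q = ((d - 1).factorial : ℚ) * Q.coeff (d - 1) := rfl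
  rw [h2, h3]
  have e : ((d - 1).factorial : ℚ) * Q.coeff (d - 1) * alpha d P -
      ((d - 1).factorial : ℚ) * P.coeff (d - 1) * alpha d Q =
      ((d - 1).factorial : ℚ) * (alpha d P * Q.coeff (d - 1) - alpha d Q * P.coeff (d - 1)) := by ring
  rw [← sub_nonneg, e, mul_nonneg_iff_of_pos_left hf]

theorem hatSlope_lt_iff {d : ℕ} {P Q : ℚ[X]} (haP : 0 < alpha d P) (haQ : 0 < alpha d Q) :
    hatSlope d P < hatSlope d Q ↔ 0 < alpha d P * Q.coeff (d - 1) - alpha d Q * P.coeff (d - 1) := by
  have hf : (0 : ℚ) < ((d - 1).factorial : ℚ) := by exact_mod_cast (d - 1).factorial_pos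
  unfold hatSlope
  rw [div_lt_div_iff₀ haP haQ]
  have h2 : alpha (d - 1) P = ((d - 1).factorial : ℚ) * P.coeff (d - 1) := rfl
  have h3 : alpha (d - 1) Q = ((d - 1).factorial : ℚ) * Q.coeff (d - 1) := rfl
  rw [h2, h3]
  have e : ((d - 1).factorial : ℚ) * Q.coeff (d - 1) * alpha d P -
      ((d - 1).factorial : ℚ) * P.coeff (d - 1) * alpha d Q =
      ((d - 1).factorial : ℚ) * (alpha d P * Q.coeff (d - 1) - alpha d Q * P.coeff (d - 1)) := by ring
  rw [← sub_pos, e, mul_pos_iff_of_pos_left hf]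

/-- comparison of `1`-truncations is comparison of `hatSlope`. -/
theorem redLE_topPart_one_iff {d : ℕ} (hd : 1 ≤ d) {P Q : ℚ[X]} (haP : 0 < alpha d P)
    (haQ : 0 < alpha d Q) :
    RedLE d (topPart 1 d P) (topPart 1 d Q) ↔ hatSlope d P ≤ hatSlope d Q := by
  rw [hatSlope_le_iff haP haQ]
  constructor
  · rintro ⟨N, hN⟩
    have h1 := hN (N + 1) (Nat.le_succ N)
    have h2 := eval_cross hd P Q ((N + 1 : ℕ) : ℚ)
    have hpos : (0 : ℚ) < ((N + 1 : ℕ) : ℚ) ^ (d - 1) := by positivity
    by_contra hneg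
    push Not at hneg
    have := mul_neg_of_neg_of_pos hneg hpos
    linarith
  · intro h
    refine ⟨0, fun m _ => ?_⟩
    have h2 := eval_cross hd P Q (m : ℚ)
    have h3 : (0 : ℚ) ≤ (m : ℚ) ^ (d - 1) := by positivity
    have := mul_nonneg h h3
    linarith

theorem redLT_topPart_one_iff {d : ℕ} (hd : 1 ≤ d) {P Q : ℚ[X]} (haP : 0 < alpha d P)
    (haQ : 0 < alpha d Q) :
    RedLT d (topPart 1 d P) (topPart 1 d Q) ↔ hatSlope d P < hatSlope d Q := by
  rw [hatSlope_lt_iff haP haQ]
  constructor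
  · rintro ⟨N, hN⟩
    have h1 := hN (N + 1) (Nat.le_succ N)
    have h2 := eval_cross hd P Q ((N + 1 : ℕ) : ℚ)
    have hpos : (0 : ℚ) < ((N + 1 : ℕ) : ℚ) ^ (d - 1) := by positivity
    by_contra hneg
    push Not at hneg
    have := mul_nonpos_of_nonpos_of_nonneg hneg hpos.le
    linarith
  · intro h
    refine ⟨1, fun m hm => ?_⟩
    have h2 := eval_cross hd P Q (m : ℚ)
    have hm' : (0 : ℚ) < (m : ℚ) := by exact_mod_cast hm
    have h3 : (0 : ℚ) < (m : ℚ) ^ (d - 1) := by positivity
    have := mul_pos h h3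
    linarith

end poly

section trunc

variable {Λ : Type*} [Lattice Λ] {d : ℕ}

/-- truncating the polynomials of a Harder–Narasimhan datum. -/
noncomputable def _root_.Groth.Agent.Lib.T2H6.LatHN.Data.trunc (A : Data Λ d) (ℓ : ℕ)
    (hdeg : ∀ x y, x ≤ y → ∀ i, d < i → (A.P y - A.P x).coeff i = 0) : Data Λ d where
  P := fun x => topPart ℓ d (A.P x)
  top := A.top
  le_top := A.le_top
  mod := fun x y => by rw [← topPart_add, ← topPart_add, A.mod]
  le := fun x y h => by
    obtain ⟨N, hN⟩ := A.le x y h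
    obtain ⟨N', hN'⟩ := eventually_nonneg_topPart ℓ d (A.P y - A.P x) (hdeg x y h)
      ⟨N, fun m hm => by rw [eval_sub]; linarith [hN m hm]⟩
    refine ⟨N', fun m hm => ?_⟩
    have := hN' m hm
    rw [topPart_sub, eval_sub] at this
    linarith
  int := fun x => by rw [alpha_topPart]; exact A.int x
  mono := fun x y h => by rw [alpha_topPart, alpha_topPart]; exact A.mono x y h
  acc := A.acc

theorem trunc_D (A : Data Λ d) (ℓ : ℕ)
    (hdeg : ∀ x y, x ≤ y → ∀ i, d < i → (A.P y - A.P x).coeff i = 0) (x y : Λ) :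
    (A.trunc ℓ hdeg).D x y = topPart ℓ d (A.D x y) :=
  (topPart_sub ℓ d _ _).symm

theorem trunc_top (A : Data Λ d) (ℓ : ℕ)
    (hdeg : ∀ x y, x ≤ y → ∀ i, d < i → (A.P y - A.P x).coeff i = 0) :
    (A.trunc ℓ hdeg).top = A.top := rfl

theorem trunc_sat (A : Data Λ d) (ℓ : ℕ)
    (hdeg : ∀ x y, x ≤ y → ∀ i, d < i → (A.P y - A.P x).coeff i = 0) {a : Λ} (ha : A.Sat a) :
    (A.trunc ℓ hdeg).Sat a := by
  intro y hy
  change alpha d (topPart ℓ d (A.P a)) < alpha d (topPart ℓ d (A.P y))
  rw [alpha_topPart, alpha_topPart]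
  exact ha y hy

end trunc


variable {X : Scheme.{u}} (k : Type u) [Field k] [X.Over (Spec (CommRingCat.of k))]
  [IsProper (X ↘ Spec (CommRingCat.of k))] (L : X.Modules) (hL : CohB1.IsAmple L) {d : ℕ} {E : X.Modules}

section translate

variable [IsLocallyNoetherian X] (hE : Coh.IsCoh E)
  (hdim : topologicalKrullDim (CohB1.support E) ≤ (d : WithBot ℕ∞))

include hL in
theorem hdeg (x y : cohSub E hE) (h : x ≤ y) (i : ℕ) (hi : d < i) :
    ((cohData k L hL hE hdim).P y - (cohData k L hL hE hdim).P x).coeff i = 0 := by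
  have hle : x.1 ≤ y.1 := h
  have cQ := Groth.Agent.Lib.T2H5.GenIsoB.isCoh_cokernel (Subobject.ofLE x.1 y.1 hle) x.2 y.2
  have := D_eq_hilb_cokernel k L hL hE hdim x y hle
  change ((cohData k L hL hE hdim).D x y).coeff i = 0
  rw [this]
  exact coeff_eq_zero_of_dim_le k L hL _ cQ _ (isHilbPoly_hilb k L hL.1 _ cQ) d (dim_le_quot hdim hle) i hi

/-- the lattice of coherent subobjects with the `1`-truncated Hilbert polynomials. -/
noncomputable def muData : Data (cohSub E hE) d :=
  (cohData k L hL hE hdim).trunc 1 (hdeg k L hL hE hdim)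

include hL in
theorem muData_D (a b : cohSub E hE) (h : a.1 ≤ b.1) :
    (muData k L hL hE hdim).D a b = topPart 1 d (hilb k L (cokernel (Subobject.ofLE a.1 b.1 h))) := by
  unfold muData
  rw [trunc_D, D_eq_hilb_cokernel k L hL hE hdim a b h]

include hL in
theorem key_of_ssInt (a b : cohSub E hE) (hab : a < b) (hss : SSInt (muData k L hL hE hdim) a b)
    (G : X.Modules) (σ : G ⟶ cokernel (Subobject.ofLE a.1 b.1 hab.le)) [Mono σ] (cG : Coh.IsCoh G)
    (G0 : ¬ IsZero G) :
    0 < alpha d (hilb k L G) ∧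
      RedLE d (topPart 1 d (hilb k L G))
        (topPart 1 d (hilb k L (cokernel (Subobject.ofLE a.1 b.1 hab.le)))) := by
  have hle : a.1 ≤ b.1 := hab.le
  obtain ⟨cS, hS⟩ := hilb_preSub k L hL hle σ a.2 b.2 cG
  let y : cohSub E hE := ⟨preSub hle σ, cS⟩
  have hay : a ≤ y := le_preSub hle σ
  have hyb : y ≤ b := preSub_le hle σ
  have hDay : (cohData k L hL hE hdim).D a y = hilb k L G := by
    change hilb k L (preSub hle σ : X.Modules) - hilb k L (a.1 : X.Modules) = _
    rw [hS]; ring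
  have hlt : a < y := by
    refine lt_of_le_of_ne hay (fun heq => ?_)
    have h0 : (cohData k L hL hE hdim).D a y = 0 := by rw [← heq]; exact D_self _ a
    rw [hDay] at h0
    obtain ⟨N, hN⟩ := eventually_pos_of_not_isZero k L hL G cG G0 _ (isHilbPoly_hilb k L hL.1 G cG)
    have := hN N le_rfl
    rw [h0, eval_zero] at this
    exact lt_irrefl _ this
  have := hss y hlt hyb
  unfold muData at this
  rw [trunc_D, trunc_D, alpha_topPart, hDay, D_eq_hilb_cokernel k L hL hE hdim a b hle] at this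
  exact this

theorem dim_empty : topologicalKrullDim (∅ : Set X) = ⊥ := by
  unfold topologicalKrullDim
  rw [Order.krullDim_eq_bot_iff]
  refine ⟨fun T => ?_⟩
  obtain ⟨⟨x, hx⟩⟩ := T.2.1.nonempty
  exact hx.elim

include hL in
/-- semistable intervals for the truncated datum have pure, slope-semistable quotients. -/
theorem pure_mu_of_ssInt (hd : 1 ≤ d) (a b : cohSub E hE) (hab : a < b)
    (hss : SSInt (muData k L hL hE hdim) a b) :
    ShStab.IsPure X (cokernel (Subobject.ofLE a.1 b.1 hab.le)) d ∧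
      ShStab.IsMuSemistable k X L (cokernel (Subobject.ofLE a.1 b.1 hab.le)) d := by
  have hle : a.1 ≤ b.1 := hab.le
  have cQ := Groth.Agent.Lib.T2H5.GenIsoB.isCoh_cokernel (Subobject.ofLE a.1 b.1 hle) a.2 b.2
  have Q0 : ¬ IsZero (cokernel (Subobject.ofLE a.1 b.1 hle)) := by
    intro hz
    haveI : Epi (Subobject.ofLE a.1 b.1 hle) := Preadditive.epi_of_isZero_cokernel _ hz
    haveI : IsIso (Subobject.ofLE a.1 b.1 hle) := isIso_of_mono_of_epi _
    have : b.1 ≤ a.1 := Subobject.le_of_comm (inv (Subobject.ofLE a.1 b.1 hle)) (by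
      rw [IsIso.inv_comp_eq, Subobject.ofLE_arrow])
    exact (not_le_of_gt hab) this
  have hpure : ShStab.IsPure X (cokernel (Subobject.ofLE a.1 b.1 hle)) d := by
    intro G σ hσ cG G0
    haveI := hσ
    have hle' : topologicalKrullDim (CohB1.support G) ≤ (d : WithBot ℕ∞) :=
      (dim_support_le_of_mono σ).trans (dim_le_quot hdim hle)
    rcases hle'.lt_or_eq with hlt | heq
    · exfalso
      have := alpha_eq_zero k L hL.1 G cG _ (isHilbPoly_hilb k L hL.1 G cG) d hlt
      linarith [(key_of_ssInt k L hL hE hdim a b hab hss G σ cG G0).1]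
    · exact heq
  refine ⟨hpure, cQ, Q0, dim_support_of_pure hpure cQ Q0, ?_, ?_⟩
  · intro F ι hι hF
    by_cases hz : IsZero F
    · rw [support_eq_empty_of_isZero hz, dim_empty]
      simp
    · rw [hpure F ι hι hF hz]
      intro h
      have h' : ((d + 1 : ℕ) : WithBot ℕ∞) = ((d : ℕ) : WithBot ℕ∞) := by exact_mod_cast h
      have : d + 1 = d := by exact_mod_cast h'
      omega
  · intro F ι hι hF pF pE hpF hpE h1 h2
    haveI := hι
    have e1 := eq_hilb k L hL.1 F hF pF hpF
    have e2 := eq_hilb k L hL.1 _ cQ pE hpE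
    subst e1
    subst e2
    have hF0 : ¬ IsZero F := by
      intro hz
      have : hilb k L F = 0 := isHilbPoly_unique k L F _ 0 hpF (isHilbPoly_zero_of_isZero k L F hz)
      rw [this] at h1
      unfold alpha at h1
      simp at h1
    exact (redLE_topPart_one_iff hd h1 (h1.trans h2)).1
      (key_of_ssInt k L hL hE hdim a b hab hss F ι hF hF0).2

include hL in
/-- intervals with pure, slope-semistable quotient are semistable for the truncated datum. -/
theorem ssInt_of_pure_mu (hd : 1 ≤ d) (a b : cohSub E hE) (hab : a < b)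
    (hpure : ShStab.IsPure X (cokernel (Subobject.ofLE a.1 b.1 hab.le)) d)
    (hQ : ShStab.IsMuSemistable k X L (cokernel (Subobject.ofLE a.1 b.1 hab.le)) d) :
    SSInt (muData k L hL hE hdim) a b := by
  obtain ⟨cQ, Q0, -, -, ssQ⟩ := hQ
  intro y hay hyb
  have hay' : a.1 ≤ y.1 := hay.le
  have hyb' : y.1 ≤ b.1 := hyb
  let φ : (y.1 : X.Modules) ⟶ cokernel (Subobject.ofLE a.1 b.1 hab.le) :=
    Subobject.ofLE y.1 b.1 hyb' ≫ cokernel.π (Subobject.ofLE a.1 b.1 hab.le)
  have hφ : φ ≠ 0 := fun h => not_le_of_gt hay (le_of_toQuot_eq_zero hab.le hyb' h)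
  have cI := Groth.Agent.Lib.T2H6.CurveVB.isCoh_image φ y.2 cQ
  have I0 := not_isZero_image φ hφ
  have cK := Groth.Agent.Lib.T2H5.GenIsoB.isCoh_kernel φ y.2 cQ
  have hpI := isHilbPoly_hilb k L hL.1 _ cI
  have hpQ := isHilbPoly_hilb k L hL.1 _ cQ
  have hadd := hilb_add_kerIm k L hL y.2 cQ φ _ _ _ (isHilbPoly_hilb k L hL.1 _ cK)
    (isHilbPoly_hilb k L hL.1 _ y.2) hpI
  have hK : hilb k L (kernel φ) = hilb k L (a.1 : X.Modules) :=
    hilb_of_iso k L (kernelIso hay' hyb') hL.1 cK
  have hDay : (cohData k L hL hE hdim).D a y = hilb k L (Abelian.image φ) := by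
    change hilb k L (y.1 : X.Modules) - hilb k L (a.1 : X.Modules) = _
    rw [hadd, hK]; ring
  unfold muData
  rw [trunc_D, trunc_D, alpha_topPart, hDay, D_eq_hilb_cokernel k L hL hE hdim a b hab.le]
  have hposI := alpha_pos_of_sub k L hL hpure (Abelian.image.ι φ) cI I0 _ hpI
  have hposQ := alpha_pos_of_sub k L hL hpure (𝟙 _) cQ Q0 _ hpQ
  refine ⟨hposI, (redLE_topPart_one_iff hd hposI hposQ).2 ?_⟩
  rcases lt_or_ge (alpha d (hilb k L (Abelian.image φ)))
    (alpha d (hilb k L (cokernel (Subobject.ofLE a.1 b.1 hab.le)))) with hlt | hge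
  · exact ssQ _ (Abelian.image.ι φ) inferInstance cI _ _ hpI hpQ hposI hlt
  · have cC := Groth.Agent.Lib.T2H5.GenIsoB.isCoh_cokernel (Abelian.image.ι φ) cI cQ
    have hpC := isHilbPoly_hilb k L hL.1 _ cC
    have haddC := hilb_add_cokernel k L hL cI cQ (Abelian.image.ι φ) _ _ _ hpI hpQ hpC
    have hdimC : topologicalKrullDim (CohB1.support (cokernel (Abelian.image.ι φ))) ≤ (d : WithBot ℕ∞) := by
      refine le_trans ?_ (dim_support_of_pure hpure cQ Q0).le
      exact (Topology.IsEmbedding.inclusion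
        (Groth.Agent.Lib.T2H5.GenIsoB.support_subset_of_epi
          (cokernel.π (Abelian.image.ι φ)))).isInducing.topologicalKrullDim_le
    have hαC : alpha d (hilb k L (cokernel (Abelian.image.ι φ))) = 0 := by
      have h1 := alpha_nonneg k L hL _ cC _ hpC d hdimC
      rw [haddC, alpha_add] at hge
      linarith
    have hcoefC : 0 ≤ (hilb k L (cokernel (Abelian.image.ι φ))).coeff (d - 1) := by
      refine coeff_nonneg_of_eventually_nonneg _ (d - 1) (fun i hi => ?_)
        (eventually_nonneg k L hL _ cC _ hpC)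
      rcases (show d ≤ i by omega).lt_or_eq with h | h
      · exact coeff_eq_zero_of_dim_le k L hL _ cC _ hpC d hdimC i h
      · subst h
        unfold alpha at hαC
        have hf : ((d.factorial : ℕ) : ℚ) ≠ 0 := by exact_mod_cast d.factorial_ne_zero
        exact (mul_eq_zero.1 hαC).resolve_left hf
    rw [hatSlope_le_iff hposI hposQ]
    have e1 : alpha d (hilb k L (cokernel (Subobject.ofLE a.1 b.1 hab.le))) =
        alpha d (hilb k L (Abelian.image φ)) := by
      rw [haddC, alpha_add, hαC, add_zero]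
    have e2 : (hilb k L (cokernel (Subobject.ofLE a.1 b.1 hab.le))).coeff (d - 1) =
        (hilb k L (Abelian.image φ)).coeff (d - 1) +
          (hilb k L (cokernel (Abelian.image.ι φ))).coeff (d - 1) := by
      rw [haddC, coeff_add]
    rw [e1, e2]
    have := mul_nonneg hposI.le hcoefC
    linarith

end translate


section main

include hL in
/-- **The slope Harder–Narasimhan filtration** of a pure sheaf (S18833). -/
theorem existsUnique_muHN (hd : 1 ≤ d) (E : X.Modules) (hE : Coh.IsCoh E) (h0 : ¬ IsZero E)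
    (hp : ShStab.IsPure X E d) :
    ∃! s : LTSeries (Subobject E), s.head = ⊥ ∧ s.last = ⊤ ∧
      (∀ i : Fin s.length, ShStab.IsPure X (StabCat.factor s i) d ∧
        ShStab.IsMuSemistable k X L (StabCat.factor s i) d) ∧
      ∀ (i j : Fin s.length), i.val + 1 = j.val →
        ∀ (p q : ℚ[X]), ShStab.IsHilbPoly k X L (StabCat.factor s i) p →
          ShStab.IsHilbPoly k X L (StabCat.factor s j) q → hatSlope d q < hatSlope d p := by
  haveI := isLocallyNoetherian (X := X) k
  have hdim := (dim_support_of_pure hp hE h0).le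
  have hsat : (muData k L hL hE hdim).Sat ⟨⊥, isCoh_bot⟩ :=
    trunc_sat _ 1 (hdeg k L hL hE hdim) (sat_bot k L hL hE h0 hp)
  obtain ⟨s, hs0, hs1, hsHN⟩ := exists_hn (A := muData k L hL hE hdim) _ hsat
  refine ⟨s.map Subtype.val (strictMono_val hE), ⟨?_, ?_, ?_, ?_⟩, ?_⟩
  · rw [LTSeries.head_map, hs0]
  · rw [LTSeries.last_map, hs1]
    rfl
  · intro i
    exact pure_mu_of_ssInt k L hL hE hdim hd (s i.castSucc) (s i.succ) (s.step i) (hsHN.1 i)
  · intro i j hij p q hp' hq'
    have h := hsHN.2 i j hij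
    have posi := alpha_pos_of_isHN hsHN i
    have posj := alpha_pos_of_isHN hsHN j
    rw [muData_D k L hL hE hdim _ _ (s.step i).le, alpha_topPart] at posi
    rw [muData_D k L hL hE hdim _ _ (s.step j).le, alpha_topPart] at posj
    rw [muData_D k L hL hE hdim _ _ (s.step i).le, muData_D k L hL hE hdim _ _ (s.step j).le] at h
    have cQi := Groth.Agent.Lib.T2H5.GenIsoB.isCoh_cokernel
      (Subobject.ofLE (s i.castSucc).1 (s i.succ).1 (s.step i).le) (s i.castSucc).2 (s i.succ).2
    have cQj := Groth.Agent.Lib.T2H5.GenIsoB.isCoh_cokernel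
      (Subobject.ofLE (s j.castSucc).1 (s j.succ).1 (s.step j).le) (s j.castSucc).2 (s j.succ).2
    rw [eq_hilb k L hL.1 _ cQi p hp', eq_hilb k L hL.1 _ cQj q hq']
    exact (redLT_topPart_one_iff hd posj posi).1 h
  · rintro t ⟨ht0, ht1, htss, htlt⟩
    have hcoh : ∀ i : Fin (t.length + 1), Coh.IsCoh (t i : X.Modules) := by
      intro i
      induction i using Fin.induction with
      | zero =>
        have : t 0 = ⊥ := ht0
        rw [this]
        exact isCoh_bot
      | succ j ih =>
        exact Groth.Agent.Lib.T2H5.GenIsoA.isCoh_of_shortExact _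
          (shortExact_cokernel (Subobject.ofLE (t j.castSucc) (t j.succ) (le_of_lt (t.step j)))) ih
          (htss j).2.1
    let t' : LTSeries (cohSub E hE) :=
      LTSeries.mk t.length (fun i => ⟨t i, hcoh i⟩) (fun i j h => t.strictMono h)
    have hmap : t'.map Subtype.val (strictMono_val hE) = t := RelSeries.ext rfl (funext fun i => rfl)
    have ht'0 : t'.head = ⟨⊥, isCoh_bot⟩ := Subtype.ext ht0
    have ht'1 : t'.last = (muData k L hL hE hdim).top := Subtype.ext ht1
    have hss' : ∀ i : Fin t'.length, SSInt (muData k L hL hE hdim) (t' i.castSucc) (t' i.succ) := fun i =>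
      ssInt_of_pure_mu k L hL hE hdim hd (t' i.castSucc) (t' i.succ) (t'.step i) (htss i).1 (htss i).2
    have htHN : IsHN (muData k L hL hE hdim) t' := by
      refine ⟨hss', ?_⟩
      intro i j hij
      have posi := (hss' i _ (t'.step i) le_rfl).1
      have posj := (hss' j _ (t'.step j) le_rfl).1
      rw [muData_D k L hL hE hdim _ _ (t'.step i).le, alpha_topPart] at posi
      rw [muData_D k L hL hE hdim _ _ (t'.step j).le, alpha_topPart] at posj
      rw [muData_D k L hL hE hdim _ _ (t'.step i).le, muData_D k L hL hE hdim _ _ (t'.step j).le]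
      exact (redLT_topPart_one_iff hd posj posi).2
        (htlt i j hij _ _ (isHilbPoly_hilb k L hL.1 _ (htss i).2.1) (isHilbPoly_hilb k L hL.1 _ (htss j).2.1))
    have : t' = s := hn_unique htHN hsHN (ht'0.trans hs0.symm) ht'1 hs1
    rw [← hmap, this]

end main

end Groth.Agent.Lib.T2H6.MuHN
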