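import Mathlib
import Groth.Prelude
import Groth.Agent.Lib.T2H6MuHN
import Groth.Agent.Lib.T2H6LatHNQuot

/-!
# The last factor of an `ℓ`-Harder–Narasimhan filtration is the minimal destabilising quotient

* `cokIso` : an epimorphism is the cokernel of (the subobject of) its kernel.
* `ellData` : the lattice of coherent subobjects with the `ℓ`-truncated Hilbert polynomials.
* `ssInt_of_isEllSemistable`.
* `exists_iso_lastFactor` (S18973).
-/

set_option autoImplicit false
universe u

open CategoryTheory TopCat TopologicalSpace Opposite AlgebraicGeometry Limits Polynomial StabCat ZeroObject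

namespace Groth.Agent.Lib.T2H6.EllHNQuot

open Groth.Agent.Lib.T2H6.HilbPolyA Groth.Agent.Lib.T2H6.HilbPolyB Groth.Agent.Lib.T2H6.HilbPolyC
  Groth.Agent.Lib.T2H6.HilbPolyD Groth.Agent.Lib.T2H6.HilbPolyE Groth.Agent.Lib.T2H6.HilbPolyK
  Groth.Agent.Lib.T2H6.HilbPolyL Groth.Agent.Lib.T2H6.HilbPolyM Groth.Agent.Lib.T2H6.HilbPolyN
  Groth.Agent.Lib.T2H6.HilbPolyO Groth.Agent.Lib.T2H6.HilbPolyP Groth.Agent.Lib.T2H5.FiltCat
  Groth.Agent.Lib.T2H6.FiltExt Groth.Agent.Lib.T2H6.JHLattice Groth.Agent.Lib.T2H6.LatHN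
  Groth.Agent.Lib.T2H6.MuHN Groth.Agent.Lib.T2H6.LatHNQuot

variable {X : Scheme.{u}}

section cok

variable {E G : X.Modules} (q : E ⟶ G) [Epi q]

theorem mk_kernel_arrow_comp : (Subobject.mk (kernel.ι q)).arrow ≫ q = 0 := by
  rw [← Subobject.underlyingIso_hom_comp_eq_mk, Category.assoc, kernel.condition, Limits.comp_zero]

/-- an epimorphism is the cokernel of the subobject defined by its kernel. -/
noncomputable def cokIso : cokernel (Subobject.mk (kernel.ι q)).arrow ≅ G where
  hom := cokernel.desc _ q (mk_kernel_arrow_comp q)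
  inv := Abelian.epiDesc q (cokernel.π _) (by
    have : kernel.ι q ≫ cokernel.π (Subobject.mk (kernel.ι q)).arrow =
        (Subobject.underlyingIso (kernel.ι q)).inv ≫ (Subobject.mk (kernel.ι q)).arrow ≫
          cokernel.π (Subobject.mk (kernel.ι q)).arrow := by
      rw [← Category.assoc, Subobject.underlyingIso_arrow]
    rw [this, cokernel.condition, Limits.comp_zero])
  hom_inv_id := by
    rw [← cancel_epi (cokernel.π _), cokernel.π_desc_assoc, Abelian.comp_epiDesc, Category.comp_id]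
  inv_hom_id := by
    rw [← cancel_epi q, Abelian.comp_epiDesc_assoc, cokernel.π_desc, Category.comp_id]

theorem π_cokIso : cokernel.π _ ≫ (cokIso q).hom = q := cokernel.π_desc _ _ _

theorem exists_iso_of_eq (a : Subobject E) (h : a = Subobject.mk (kernel.ι q)) :
    ∃ φ : cokernel a.arrow ≅ G, cokernel.π a.arrow ≫ φ.hom = q := by
  subst h
  exact ⟨cokIso q, π_cokIso q⟩

/-- `⊤ / y ≅ E / y`. -/
noncomputable def topQuotIso (y : Subobject E) :
    cokernel (Subobject.ofLE y ⊤ le_top) ≅ cokernel y.arrow :=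
  cokernel.mapIso _ _ (Iso.refl _) (asIso (⊤ : Subobject E).arrow) (by simp)

end cok

variable (k : Type u) [Field k] [X.Over (Spec (CommRingCat.of k))]
  [IsProper (X ↘ Spec (CommRingCat.of k))] (L : X.Modules) (hL : CohB1.IsAmple L) {d : ℕ} {E : X.Modules}

section translate

variable [IsLocallyNoetherian X] (hE : Coh.IsCoh E)
  (hdim : topologicalKrullDim (CohB1.support E) ≤ (d : WithBot ℕ∞)) (ℓ : ℕ)

/-- the lattice of coherent subobjects with the `ℓ`-truncated Hilbert polynomials. -/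
noncomputable def ellData : Data (cohSub E hE) d :=
  (cohData k L hL hE hdim).trunc ℓ (hdeg k L hL hE hdim)

include hL in
theorem ellData_D (a b : cohSub E hE) (h : a.1 ≤ b.1) :
    (ellData k L hL hE hdim ℓ).D a b = topPart ℓ d (hilb k L (cokernel (Subobject.ofLE a.1 b.1 h))) := by
  unfold ellData
  rw [trunc_D, D_eq_hilb_cokernel k L hL hE hdim a b h]

include hL in
/-- intervals with `ℓ`-semistable quotient are semistable for the `ℓ`-truncated datum. -/
theorem ssInt_of_isEllSemistable (a b : cohSub E hE) (hab : a < b)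
    (hQ : ShStab.IsEllSemistable k X L (cokernel (Subobject.ofLE a.1 b.1 hab.le)) d ℓ) :
    SSInt (ellData k L hL hE hdim ℓ) a b := by
  obtain ⟨cQ, Q0, hpure, ssQ⟩ := hQ
  intro y hay hyb
  have hay' : a.1 ≤ y.1 := hay.le
  have hyb' : y.1 ≤ b.1 := hyb
  let φ : (y.1 : X.Modules) ⟶ cokernel (Subobject.ofLE a.1 b.1 hab.le) :=
    Subobject.ofLE y.1 b.1 hyb' ≫ cokernel.π (Subobject.ofLE a.1 b.1 hab.le)
  have hφ : φ ≠ 0 := fun h => not_le_of_gt hay (le_of_toQuot_eq_zero hab.le hyb' h)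
  have cI := Groth.Agent.Lib.T2H6.CurveVB.isCoh_image φ y.2 cQ
  have I0 := not_isZero_image φ hφ
  have cK := Groth.Agent.Lib.T2H5.GenIsoB.isCoh_kernel φ y.2 cQ
  have hpI := isHilbPoly_hilb k L hL.1 _ cI
  have hpQ := isHilbPoly_hilb k L hL.1 _ cQ
  have hadd := hilb_add_kerIm k L hL y.2 cQ φ _ _ _ (isHilbPoly_hilb k L hL.1 _ cK)
    (isHilbPoly_hilb k L hL.1 _ y.2) hpI
  have hK : hilb k L (kernel φ) = hilb k L (a.1 : X.Modules) :=
    hilb_of_iso k L (kernelIso hay' hyb') hL.1 cK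
  have hDay : (cohData k L hL hE hdim).D a y = hilb k L (Abelian.image φ) := by
    change hilb k L (y.1 : X.Modules) - hilb k L (a.1 : X.Modules) = _
    rw [hadd, hK]; ring
  unfold ellData
  rw [trunc_D, trunc_D, alpha_topPart, hDay, D_eq_hilb_cokernel k L hL hE hdim a b hab.le]
  have hposI := alpha_pos_of_sub k L hL hpure (Abelian.image.ι φ) cI I0 _ hpI
  refine ⟨hposI, ?_⟩
  rcases lt_or_ge (alpha d (hilb k L (Abelian.image φ)))
    (alpha d (hilb k L (cokernel (Subobject.ofLE a.1 b.1 hab.le)))) with hlt | hge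
  · exact ssQ _ (Abelian.image.ι φ) inferInstance cI _ _ hpI hpQ hposI hlt
  · have cC := Groth.Agent.Lib.T2H5.GenIsoB.isCoh_cokernel (Abelian.image.ι φ) cI cQ
    have hpC := isHilbPoly_hilb k L hL.1 _ cC
    have haddC := hilb_add_cokernel k L hL cI cQ (Abelian.image.ι φ) _ _ _ hpI hpQ hpC
    have hdimC : topologicalKrullDim (CohB1.support (cokernel (Abelian.image.ι φ))) ≤ (d : WithBot ℕ∞) := by
      refine le_trans ?_ (dim_support_of_pure hpure cQ Q0).le
      exact (Topology.IsEmbedding.inclusion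
        (Groth.Agent.Lib.T2H5.GenIsoB.support_subset_of_epi
          (cokernel.π (Abelian.image.ι φ)))).isInducing.topologicalKrullDim_le
    have hαC : alpha d (hilb k L (cokernel (Abelian.image.ι φ))) = 0 := by
      have h1 := alpha_nonneg k L hL _ cC _ hpC d hdimC
      rw [haddC, alpha_add] at hge
      linarith
    obtain ⟨N, hN⟩ := eventually_nonneg_topPart ℓ d (hilb k L (cokernel (Abelian.image.ι φ)))
      (fun i hi => coeff_eq_zero_of_dim_le k L hL _ cC _ hpC d hdimC i hi)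
      (eventually_nonneg k L hL _ cC _ hpC)
    have e1 : alpha d (hilb k L (cokernel (Subobject.ofLE a.1 b.1 hab.le))) =
        alpha d (hilb k L (Abelian.image φ)) := by
      rw [haddC, alpha_add, hαC, add_zero]
    have e2 : topPart ℓ d (hilb k L (cokernel (Subobject.ofLE a.1 b.1 hab.le))) =
        topPart ℓ d (hilb k L (Abelian.image φ)) +
          topPart ℓ d (hilb k L (cokernel (Abelian.image.ι φ))) := by
      rw [haddC, topPart_add]
    refine ⟨N, fun m hm => ?_⟩
    rw [alpha_topPart, alpha_topPart, e1, e2]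
    simp only [eval_smul, eval_add, smul_eq_mul]
    have := mul_nonneg hposI.le (hN m hm)
    linarith

variable {G : X.Modules} (q : E ⟶ G) [Epi q]

include hL in
/-- the kernel of a quotient map onto a pure sheaf is saturated. -/
theorem sat_kernel (hG : Coh.IsCoh G) (hGp : ShStab.IsPure X G d) :
    (ellData k L hL hE hdim ℓ).Sat
      ⟨Subobject.mk (kernel.ι q), isCoh_mk (kernel.ι q) (Groth.Agent.Lib.T2H5.GenIsoB.isCoh_kernel q hE hG)⟩ := by
  intro z hz
  set y : cohSub E hE :=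
    ⟨Subobject.mk (kernel.ι q), isCoh_mk (kernel.ι q) (Groth.Agent.Lib.T2H5.GenIsoB.isCoh_kernel q hE hG)⟩
    with hy
  change alpha d (topPart ℓ d (hilb k L (y.1 : X.Modules))) <
    alpha d (topPart ℓ d (hilb k L (z.1 : X.Modules)))
  rw [alpha_topPart, alpha_topPart]
  have hyz : y.1 ≤ z.1 := hz.le
  have cT : Coh.IsCoh ((⊤ : Subobject E) : X.Modules) := isCoh_top hE
  have cQ := Groth.Agent.Lib.T2H5.GenIsoB.isCoh_cokernel (Subobject.ofLE y.1 ⊤ le_top) y.2 cT
  have pure' : ShStab.IsPure X (cokernel (Subobject.ofLE y.1 ⊤ le_top)) d :=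
    isPure_of_iso ((topQuotIso y.1) ≪≫ cokIso q).symm hGp
  let φ : (z.1 : X.Modules) ⟶ cokernel (Subobject.ofLE y.1 ⊤ le_top) :=
    Subobject.ofLE z.1 ⊤ le_top ≫ cokernel.π (Subobject.ofLE y.1 ⊤ le_top)
  have hφ : φ ≠ 0 := fun h => not_le_of_gt hz (le_of_toQuot_eq_zero le_top le_top h)
  have cI := Groth.Agent.Lib.T2H6.CurveVB.isCoh_image φ z.2 cQ
  have I0 := not_isZero_image φ hφ
  have cK := Groth.Agent.Lib.T2H5.GenIsoB.isCoh_kernel φ z.2 cQ
  have hpI := isHilbPoly_hilb k L hL.1 _ cI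
  have hadd := hilb_add_kerIm k L hL z.2 cQ φ _ _ _ (isHilbPoly_hilb k L hL.1 _ cK)
    (isHilbPoly_hilb k L hL.1 _ z.2) hpI
  have hK : hilb k L (kernel φ) = hilb k L (y.1 : X.Modules) :=
    hilb_of_iso k L (kernelIso hyz le_top) hL.1 cK
  have hposI := alpha_pos_of_sub k L hL pure' (Abelian.image.ι φ) cI I0 _ hpI
  rw [hadd, hK, alpha_add]
  linarith

end translate

section main

include hL in
/-- **the last factor of an `ℓ`-Harder–Narasimhan filtration is the minimal destabilising quotient**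
(S18973). -/
theorem exists_iso_lastFactor (ℓ : ℕ) (E : X.Modules) (hE : Coh.IsCoh E) (h0 : ¬ IsZero E)
    (hp : ShStab.IsPure X E d) (s : LTSeries (Subobject E))
    (hs : StabCat.IsHNWith (fun G => ShStab.IsEllSemistable k X L G d ℓ)
      (fun G P => ∃ Q : ℚ[X], ShStab.IsHilbPoly k X L G Q ∧ P = topPart ℓ d Q) d E s)
    (G : X.Modules) (q : E ⟶ G) [Epi q] (hG : Coh.IsCoh G) (hGp : ShStab.IsPure X G d)
    (pF pG : ℚ[X]) (hpF : ShStab.IsHilbPoly k X L (cokernel s.eraseLast.last.arrow) pF)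
    (hpG : ShStab.IsHilbPoly k X L G pG) (hα : alpha d pF = alpha d pG)
    (hred : RedEq d (topPart ℓ d pF) (topPart ℓ d pG)) :
    ∃ φ : cokernel s.eraseLast.last.arrow ≅ G, cokernel.π s.eraseLast.last.arrow ≫ φ.hom = q := by
  haveI := isLocallyNoetherian (X := X) k
  have hdim := (dim_support_of_pure hp hE h0).le
  obtain ⟨ht0, ht1, htss, htlt⟩ := hs
  have hcoh : ∀ i : Fin (s.length + 1), Coh.IsCoh (s i : X.Modules) := by
    intro i
    induction i using Fin.induction with
    | zero =>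
      have : s 0 = ⊥ := ht0
      rw [this]
      exact isCoh_bot
    | succ j ih =>
      exact Groth.Agent.Lib.T2H5.GenIsoA.isCoh_of_shortExact _
        (shortExact_cokernel (Subobject.ofLE (s j.castSucc) (s j.succ) (le_of_lt (s.step j)))) ih
        (htss j).1
  let s' : LTSeries (cohSub E hE) :=
    LTSeries.mk s.length (fun i => ⟨s i, hcoh i⟩) (fun i j h => s.strictMono h)
  set A := ellData k L hL hE hdim ℓ with hA
  have hss' : ∀ i : Fin s'.length, SSInt A (s' i.castSucc) (s' i.succ) := fun i =>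
    ssInt_of_isEllSemistable k L hL hE hdim ℓ (s' i.castSucc) (s' i.succ) (s'.step i) (htss i)
  have hHN : IsHN A s' := by
    refine ⟨hss', fun i j hij => ?_⟩
    rw [hA, ellData_D k L hL hE hdim ℓ _ _ (s'.step i).le, ellData_D k L hL hE hdim ℓ _ _ (s'.step j).le]
    exact htlt i j hij _ _ ⟨_, isHilbPoly_hilb k L hL.1 _ (htss i).1, rfl⟩
      ⟨_, isHilbPoly_hilb k L hL.1 _ (htss j).1, rfl⟩
  have hs'1 : s'.last = A.top := Subtype.ext ht1
  have hlen : 0 < s'.length := by
    by_contra h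
    have h' : s.length = 0 := by
      have : s'.length = s.length := rfl
      omega
    have e : s.head = s.last := by
      unfold RelSeries.head RelSeries.last
      congr 1
      ext
      simp [h']
    rw [ht0, ht1] at e
    haveI := Subobject.nontrivial_of_not_isZero h0
    exact bot_ne_top e
  let y : cohSub E hE :=
    ⟨Subobject.mk (kernel.ι q), isCoh_mk (kernel.ι q) (Groth.Agent.Lib.T2H5.GenIsoB.isCoh_kernel q hE hG)⟩
  have hy0 : s'.head ≤ y := by
    have : s'.head = ⟨⊥, isCoh_bot⟩ := Subtype.ext ht0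
    rw [this]
    exact (bot_le : (⊥ : Subobject E) ≤ _)
  have hysat : A.Sat y := sat_kernel k L hL hE hdim ℓ q hG hGp
  have cT : Coh.IsCoh ((⊤ : Subobject E) : X.Modules) := isCoh_top hE
  have hDy : A.D y A.top = topPart ℓ d pG := by
    rw [hA, ellData_D k L hL hE hdim ℓ y _ (le_top : y.1 ≤ ⊤)]
    congr 1
    have cQ := Groth.Agent.Lib.T2H5.GenIsoB.isCoh_cokernel (Subobject.ofLE y.1 ⊤ le_top) y.2 cT
    change hilb k L (cokernel (Subobject.ofLE y.1 ⊤ le_top)) = pG
    rw [hilb_of_iso k L ((topQuotIso y.1) ≪≫ cokIso q) hL.1 cQ]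
    exact (eq_hilb k L hL.1 G hG pG hpG).symm
  have hDa : A.D (s' ⟨s'.length - 1, by omega⟩) A.top = topPart ℓ d pF := by
    rw [hA, ellData_D k L hL hE hdim ℓ _ _ (le_top : (s' ⟨s'.length - 1, by omega⟩).1 ≤ ⊤)]
    congr 1
    have cQ := Groth.Agent.Lib.T2H5.GenIsoB.isCoh_cokernel
      (Subobject.ofLE (s' ⟨s'.length - 1, by omega⟩).1 ⊤ le_top) (s' ⟨s'.length - 1, by omega⟩).2 cT
    change hilb k L (cokernel (Subobject.ofLE (s' ⟨s'.length - 1, by omega⟩).1 ⊤ le_top)) = pF
    rw [hilb_of_iso k L (topQuotIso (s' ⟨s'.length - 1, by omega⟩).1) hL.1 cQ]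
    exact (eq_hilb k L hL.1 _ (Groth.Agent.Lib.T2H5.Devissage.isCoh_of_iso
      (topQuotIso (s' ⟨s'.length - 1, by omega⟩).1) cQ) pF hpF).symm
  have key := eq_last_of_quot hHN hs'1 hlen y hy0 hysat
    (by rw [hDy, hDa, alpha_topPart, alpha_topPart, hα]) (by rw [hDy, hDa]; exact hred)
  have h2 : s.eraseLast.last = Subobject.mk (kernel.ι q) := (congrArg Subtype.val key).symm
  exact exists_iso_of_eq q _ h2

end main

end Groth.Agent.Lib.T2H6.EllHNQuot
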