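import Mathlib
import Groth.Prelude
import Groth.Agent.Lib.T2H6HilbPolyF
import Groth.Agent.Lib.Helper23PB
import Groth.Agent.Lib.T2H5HilbPoly
set_option backward.isDefEq.respectTransparency.types false

/-!
# Twists of sheaves on a scheme over projective space (`Pic13.twistOn`) and Hilbert polynomials

For `ι : X ⟶ P^N_k` with `X` proper over `k`: `ι^* O(m)` is invertible, `ι^*O(a) ⊗ ι^*O(b) ≅ ι^*O(a+b)`,
`(ι^*O(1))^{⊗ m} ≅ ι^*O(m)`, and the Hilbert polynomial with respect to `ι^*O(1)` computes the Euler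
characteristics of all integral twists `Pic13.twistOn k ι F m`.  Also a generic Schur lemma
`endo_eq_smul_of_forall_isIso`.
-/

set_option autoImplicit false
set_option linter.style.haveILetI false
set_option linter.unusedSectionVars false
universe u

open CategoryTheory TopCat TopologicalSpace Opposite AlgebraicGeometry Limits Polynomial StabCat

namespace Groth.Agent.Lib.T2H6.TwistOn

open Groth.Agent.Lib.T2H6.HilbPolyA Groth.Agent.Lib.T2H6.HilbPolyB Groth.Agent.Lib.T2H6.HilbPolyC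
  Groth.Agent.Lib.T2H6.HilbPolyD Groth.Agent.Lib.T2H6.HilbPolyE Groth.Agent.Lib.T2H6.HilbPolyF
  Groth.Agent.Lib.T2H5.Twist Groth.Agent.Lib.T2H6.CurveSerre

variable {X : Scheme.{u}} (k : Type u) [Field k] {N : ℕ} (ι : X ⟶ CohB1.ProjSpace N k)

/-- `ι^* O(m)`. -/
noncomputable abbrev Lm (m : ℤ) : X.Modules :=
  (Scheme.Modules.pullback ι).obj (Twist.twistProjSpace N k m)

theorem isInvertible_Lm (m : ℤ) : PicF.IsInvertible (Lm k ι m) :=
  Groth.Agent.Lib.Helper23.PB.isInvertible_pullback ι _ (isInvertible_twist N k m)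

theorem nonempty_Lm_tensor_iso (a b c : ℤ) (h : a + b = c) :
    Nonempty (CohB1.tensorMod (Lm k ι a) (Lm k ι b) ≅ Lm k ι c) := by
  obtain ⟨e⟩ := nonempty_twist_tensor_iso N k a b c h
  obtain ⟨e'⟩ := Groth.Agent.Lib.Helper23.PB.nonempty_pullback_tensorMod_iso ι _ _
    (isInvertible_twist N k a) (isInvertible_twist N k b)
  exact ⟨e'.symm ≪≫ (Scheme.Modules.pullback ι).mapIso e⟩

theorem nonempty_tensorPow_Lm_iso (m : ℕ) :
    Nonempty (CohB1.tensorPow (Lm k ι 1) m ≅ Lm k ι (m : ℤ)) := by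
  obtain ⟨e⟩ := Groth.Agent.Lib.T2H5.AmplePn.nonempty_tensorPow_twist_iso N k 1 m
  obtain ⟨e'⟩ := Groth.Agent.Lib.Helper23.PB.nonempty_pullback_tensorPow_iso ι _
    (isInvertible_twist N k 1) m
  rw [mul_one] at e
  exact ⟨e'.symm ≪≫ (Scheme.Modules.pullback ι).mapIso e⟩

theorem nonempty_twist_iso (F : X.Modules) (m : ℕ) :
    Nonempty (ShStab.twist X (Lm k ι 1) F m ≅ Pic13.twistOn k ι F (m : ℤ)) := by
  obtain ⟨e⟩ := nonempty_tensorPow_Lm_iso k ι m
  exact ⟨(trCongr e).app F⟩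

theorem nonempty_twistOn_twistOn_iso (F : X.Modules) (a b c : ℤ) (h : a + b = c) :
    Nonempty (Pic13.twistOn k ι (Pic13.twistOn k ι F a) b ≅ Pic13.twistOn k ι F c) := by
  obtain ⟨e⟩ := nonempty_Lm_tensor_iso k ι a b c h
  exact ⟨(trComp (Lm k ι a) (Lm k ι b)).app F ≪≫ (trCongr e).app F⟩

theorem isCoh_twistOn (F : X.Modules) (hF : Coh.IsCoh F) (m : ℤ) : Coh.IsCoh (Pic13.twistOn k ι F m) :=
  Groth.Agent.Lib.T2H6.TensorDeg.isCoh_tensor _ _ hF
    (Groth.Agent.Lib.T2H6.CurveDeg.isCoh_of_isInvertible _ (isInvertible_Lm k ι m))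

variable [X.Over (Spec (CommRingCat.of k))] [IsProper (X ↘ Spec (CommRingCat.of k))]

theorem euler_twistOn_nat (F : X.Modules) (hF : Coh.IsCoh F) (m : ℕ) :
    (Curv2.euler k X (Pic13.twistOn k ι F (m : ℤ)) : ℚ) = (hilb k (Lm k ι 1) F).eval (m : ℚ) := by
  obtain ⟨e⟩ := nonempty_twist_iso k ι F m
  rw [← isHilbPoly_hilb k _ (isInvertible_Lm k ι 1) F hF m]
  exact congrArg _ (Groth.Agent.Lib.T2H6.FieldBC.euler_eq_of_iso k _ e).symm

/-- the Hilbert polynomial computes the Euler characteristics of all integral twists. -/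
theorem euler_twistOn_int (F : X.Modules) (hF : Coh.IsCoh F) (m : ℤ) :
    (Curv2.euler k X (Pic13.twistOn k ι F m) : ℚ) = (hilb k (Lm k ι 1) F).eval (m : ℚ) := by
  obtain ⟨m₀, hm₀⟩ : ∃ m₀ : ℕ, 0 ≤ m + m₀ := ⟨m.natAbs, by omega⟩
  set F' := Pic13.twistOn k ι F (-(m₀ : ℤ)) with hF'
  have cF' : Coh.IsCoh F' := isCoh_twistOn k ι F hF _
  have heul : ∀ j : ℕ, (Curv2.euler k X (Pic13.twistOn k ι F ((j : ℤ) - m₀)) : ℚ) =
      (hilb k (Lm k ι 1) F').eval (j : ℚ) := by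
    intro j
    rw [← euler_twistOn_nat k ι F' cF' j]
    obtain ⟨e⟩ := nonempty_twistOn_twistOn_iso k ι F (-(m₀ : ℤ)) j (j - m₀) (by ring)
    exact congrArg _ (Groth.Agent.Lib.T2H6.FieldBC.euler_eq_of_iso k _ e).symm
  have hpoly : hilb k (Lm k ι 1) F = (hilb k (Lm k ι 1) F').comp (Polynomial.X + C (m₀ : ℚ)) := by
    apply eq_of_eval_nat
    intro i
    rw [← euler_twistOn_nat k ι F hF i, eval_comp, eval_add, eval_X, eval_C]
    have := heul (i + m₀)
    rw [show ((i + m₀ : ℕ) : ℤ) - (m₀ : ℤ) = (i : ℤ) by push_cast; ring] at this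
    rw [this]
    push_cast
    rfl
  obtain ⟨j, hj⟩ : ∃ j : ℕ, (j : ℤ) = m + m₀ := ⟨(m + m₀).toNat, Int.toNat_of_nonneg hm₀⟩
  have := heul j
  rw [show (j : ℤ) - (m₀ : ℤ) = m by rw [hj]; ring] at this
  rw [this, hpoly, eval_comp, eval_add, eval_X, eval_C]
  congr 1
  have : ((j : ℤ) : ℚ) = ((m + m₀ : ℤ) : ℚ) := by rw [hj]
  push_cast at this
  exact this

theorem isHilbPoly_of_forall_int (F : X.Modules) (φ : ℚ[X])
    (h : ∀ m : ℤ, (Curv2.euler k X (Pic13.twistOn k ι F m) : ℚ) = φ.eval (m : ℚ)) :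
    ShStab.IsHilbPoly k X (Lm k ι 1) F φ := by
  intro m
  obtain ⟨e⟩ := nonempty_twist_iso k ι F m
  have := h (m : ℤ)
  push_cast at this
  rw [← this]
  exact congrArg _ (Groth.Agent.Lib.T2H6.FieldBC.euler_eq_of_iso k _ e)

theorem isAmple_Lm_one [IsClosedImmersion ι] : CohB1.IsAmple (Lm k ι 1) := by
  have h1 : CohB1.IsAmple (Twist.twistProjSpace N k 1) := by
    have := Groth.Agent.Lib.T2H5.AmplePn.isAmple_twist_of_pos N k 1 Nat.one_pos
    simpa using this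
  exact Groth.Agent.Lib.Helper23.PB.isAmple_pullback_of_isAffineHom ι _ h1

variable (L : X.Modules) (hL : CohB1.IsAmple L)

include hL in
/-- Schur's lemma: if every nonzero endomorphism of a nonzero coherent sheaf is an isomorphism and `k` is
algebraically closed, the endomorphisms are scalars. -/
theorem endo_eq_smul_of_forall_isIso [IsAlgClosed k] {E : X.Modules} (hE : Coh.IsCoh E) (h0 : ¬ IsZero E)
    (H : ∀ ψ : E ⟶ E, ψ ≠ 0 → IsIso ψ) (φ : E ⟶ E) : ∃ c : k, φ = c • 𝟙 E := by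
  obtain ⟨m, σ₀, hσ₀⟩ := exists_twist_section k L hL E hE h0
  have hMinv := Groth.Agent.Lib.Helper23.SecTw.isInvertible_tensorPow hL.1 m
  have cM := Groth.Agent.Lib.T2H6.CurveDeg.isCoh_of_isInvertible _ hMinv
  have cEM : Coh.IsCoh ((tr (CohB1.tensorPow L m)).obj E) :=
    Groth.Agent.Lib.T2H6.TensorDeg.isCoh_tensor _ _ hE cM
  haveI : Module.Finite k (Coh.HH X ((tr (CohB1.tensorPow L m)).obj E) 0) :=
    Groth.Agent.Lib.T2H6.EulerField.finite_HH k X _ cEM 0
  haveI : Module.Finite k (Coh.structureModule X ⟶ (tr (CohB1.tensorPow L m)).obj E) :=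
    Module.Finite.equiv (LinearEquiv.ofBijective (evLin k _) (bijective_evLin k _)).symm
  haveI : Nontrivial (Coh.structureModule X ⟶ (tr (CohB1.tensorPow L m)).obj E) := ⟨⟨σ₀, 0, hσ₀⟩⟩
  obtain ⟨c, hc⟩ := Module.End.exists_eigenvalue (postComp k ((tr (CohB1.tensorPow L m)).map φ))
  obtain ⟨σ, hσ⟩ := hc.exists_hasEigenvector
  refine ⟨c, ?_⟩
  by_contra hne
  have hψ : φ - c • 𝟙 E ≠ 0 := fun h => hne (sub_eq_zero.1 h)
  haveI : IsIso (φ - c • 𝟙 E) := H _ hψ
  have h1 : σ ≫ (tr (CohB1.tensorPow L m)).map (φ - c • 𝟙 E) = 0 := by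
    rw [Functor.map_sub, tr_map_smul', CategoryTheory.Functor.map_id, Preadditive.comp_sub, Linear.comp_smul,
      Category.comp_id]
    have := hσ.apply_eq_smul
    change σ ≫ (tr (CohB1.tensorPow L m)).map φ = c • σ at this
    rw [this, sub_self]
  have h2 : σ = 0 := by
    rw [← cancel_mono ((tr (CohB1.tensorPow L m)).map (φ - c • 𝟙 E)), h1, Limits.zero_comp]
  exact hσ.2 h2

end Groth.Agent.Lib.T2H6.TwistOn
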