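import Mathlib
import Groth.Prelude
import Groth.Agent.Lib.T2H6TwistOn
set_option backward.isDefEq.respectTransparency.types false

/-!
# `ℓ`-stable sheaves are simple (S15002)
-/

set_option autoImplicit false
set_option linter.style.haveILetI false
set_option linter.unusedSectionVars false
universe u

open CategoryTheory TopCat TopologicalSpace Opposite AlgebraicGeometry Limits Polynomial StabCat

namespace Groth.Agent.Lib.T2H6.EllSimple

open Groth.Agent.Lib.T2H6.HilbPolyA Groth.Agent.Lib.T2H6.HilbPolyB Groth.Agent.Lib.T2H6.HilbPolyC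
  Groth.Agent.Lib.T2H6.HilbPolyD Groth.Agent.Lib.T2H6.HilbPolyE Groth.Agent.Lib.T2H6.HilbPolyF
  Groth.Agent.Lib.T2H5.Twist Groth.Agent.Lib.T2H6.CurveSerre Groth.Agent.Lib.T2H6.TwistOn

theorem not_lex_lt_average {ℓ : ℕ} (v₁ v₂ w : Fin ℓ → ℚ) (a₁ a₂ : ℚ) (h₁ : 0 < a₁) (h₂ : 0 < a₂)
    (hw : ∀ j, (a₁ + a₂) * w j = a₁ * v₁ j + a₂ * v₂ j)
    (hlt₁ : toLex v₁ < toLex w) (hlt₂ : toLex v₂ < toLex w) : False := by
  obtain ⟨i₁, h1a, h1b⟩ := hlt₁
  obtain ⟨i₂, h2a, h2b⟩ := hlt₂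
  have h1a' : ∀ j < i₁, v₁ j = w j := h1a
  have h1b' : v₁ i₁ < w i₁ := h1b
  have h2a' : ∀ j < i₂, v₂ j = w j := h2a
  have h2b' : v₂ i₂ < w i₂ := h2b
  rcases le_total i₁ i₂ with h | h
  · have e2 : v₂ i₁ ≤ w i₁ := by
      rcases h.lt_or_eq with h' | h'
      · exact (h2a' i₁ h').le
      · rw [h']; exact h2b'.le
    have := hw i₁
    have e3 := mul_lt_mul_of_pos_left h1b' h₁
    have e4 := mul_le_mul_of_nonneg_left e2 h₂.le
    linarith
  · have e1 : v₁ i₂ ≤ w i₂ := by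
      rcases h.lt_or_eq with h' | h'
      · exact (h1a' i₂ h').le
      · rw [h']; exact h1b'.le
    have := hw i₂
    have e3 := mul_lt_mul_of_pos_left h2b' h₂
    have e4 := mul_le_mul_of_nonneg_left e1 h₁.le
    linarith

variable {X : Scheme.{u}} (k : Type u) [Field k] [IsAlgClosed k] {N : ℕ} (ι : X ⟶ CohB1.ProjSpace N k)
  [IsClosedImmersion ι] [X.Over (Spec (CommRingCat.of k))] [IsProper (X ↘ Spec (CommRingCat.of k))]

theorem endo_eq_smul_of_ellStable (d ℓ : ℕ) (E : X.Modules) (hE : Coh.IsCoh E) (P : ℚ[X]) (hP0 : P ≠ 0)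
    (hP : ∀ m : ℤ, (Curv2.euler k X (Pic13.twistOn k ι E m) : ℚ) = P.eval (m : ℚ))
    (hpure : ∀ (F : X.Modules) (j : F ⟶ E), Mono j → Coh.IsCoh F → ¬ IsZero F →
      topologicalKrullDim (CohB1.support F) = (d : WithBot ℕ∞))
    (hst : ∀ (F : X.Modules) (j : F ⟶ E), Mono j → Coh.IsCoh F → ∀ Q : ℚ[X],
      (∀ m : ℤ, (Curv2.euler k X (Pic13.twistOn k ι F m) : ℚ) = Q.eval (m : ℚ)) →
        0 < Q.coeff d → Q.coeff d < P.coeff d →
          toLex (fun j : Fin ℓ => ((Q).coeff (d - 1 - (j : ℕ)) * (Nat.factorial (d - 1 - (j : ℕ)) : ℚ)) /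
            ((Q).coeff d * (Nat.factorial d : ℚ))) <
          toLex (fun j : Fin ℓ => ((P).coeff (d - 1 - (j : ℕ)) * (Nat.factorial (d - 1 - (j : ℕ)) : ℚ)) /
            ((P).coeff d * (Nat.factorial d : ℚ))))
    (φ : E ⟶ E) : ∃ c : k, φ = c • 𝟙 E := by
  have hL := isAmple_Lm_one k ι
  have hpE : ShStab.IsHilbPoly k X (Lm k ι 1) E P := isHilbPoly_of_forall_int k ι E P hP
  have h0 : ¬ IsZero E := fun hz =>
    hP0 (isHilbPoly_unique k _ E P 0 hpE (isHilbPoly_zero_of_isZero k _ E hz))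
  refine endo_eq_smul_of_forall_isIso k _ hL hE h0 ?_ φ
  intro ψ hψ
  haveI := isLocallyNoetherian (X := X) k
  have cK := Groth.Agent.Lib.T2H5.GenIsoB.isCoh_kernel ψ hE hE
  have cI := Groth.Agent.Lib.T2H6.CurveVB.isCoh_image ψ hE hE
  have I0 := not_isZero_image ψ hψ
  by_cases hK : IsZero (kernel ψ)
  · haveI : Mono ψ := Preadditive.mono_of_isZero_kernel ψ hK
    exact isIso_of_mono_of_isHilbPoly_eq k _ hL hE hE P hpE hpE ψ
  · exfalso
    have hpK := isHilbPoly_hilb k _ hL.1 _ cK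
    have hpI := isHilbPoly_hilb k _ hL.1 _ cI
    have hadd := hilb_add_kerIm k _ hL hE hE ψ _ P _ hpK hpE hpI
    have aK : 0 < alpha d (hilb k (Lm k ι 1) (kernel ψ)) :=
      alpha_pos k _ hL _ cK _ hpK d (hpure _ (kernel.ι ψ) inferInstance cK hK)
    have aI : 0 < alpha d (hilb k (Lm k ι 1) (Abelian.image ψ)) :=
      alpha_pos k _ hL _ cI _ hpI d (hpure _ (Abelian.image.ι ψ) inferInstance cI I0)
    have hfac : (0 : ℚ) < (d.factorial : ℚ) := by exact_mod_cast d.factorial_pos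
    have cKpos : 0 < (hilb k (Lm k ι 1) (kernel ψ)).coeff d := by
      unfold alpha at aK
      exact (mul_pos_iff_of_pos_left hfac).1 aK
    have cIpos : 0 < (hilb k (Lm k ι 1) (Abelian.image ψ)).coeff d := by
      unfold alpha at aI
      exact (mul_pos_iff_of_pos_left hfac).1 aI
    have hcoeff : ∀ e, P.coeff e = (hilb k (Lm k ι 1) (kernel ψ)).coeff e +
        (hilb k (Lm k ι 1) (Abelian.image ψ)).coeff e := fun e => by rw [hadd, coeff_add]
    have h1 := hst _ (kernel.ι ψ) inferInstance cK _ (euler_twistOn_int k ι _ cK) cKpos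
      (by rw [hcoeff d]; linarith)
    have h2 := hst _ (Abelian.image.ι ψ) inferInstance cI _ (euler_twistOn_int k ι _ cI) cIpos
      (by rw [hcoeff d]; linarith)
    refine not_lex_lt_average _ _ _ ((hilb k (Lm k ι 1) (kernel ψ)).coeff d * (d.factorial : ℚ))
      ((hilb k (Lm k ι 1) (Abelian.image ψ)).coeff d * (d.factorial : ℚ)) (mul_pos cKpos hfac)
      (mul_pos cIpos hfac) ?_ h1 h2
    intro j
    have hPd : P.coeff d * (d.factorial : ℚ) ≠ 0 := by
      rw [hcoeff d]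
      exact (mul_pos (add_pos cKpos cIpos) hfac).ne'
    have hKd := (mul_pos cKpos hfac).ne'
    have hId := (mul_pos cIpos hfac).ne'
    rw [mul_div_assoc', mul_div_assoc', mul_div_assoc']
    rw [mul_div_cancel_left₀ _ hKd, mul_div_cancel_left₀ _ hId]
    rw [← add_mul, ← hcoeff d, mul_div_cancel_left₀ _ hPd, hcoeff (d - 1 - (j : ℕ))]
    ring

end Groth.Agent.Lib.T2H6.EllSimple
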