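-- helper6 (team 2): the relative inertia as a base change of the diagonal; the neutral section as
-- the second diagonal.
import Mathlib
import Groth.Agent.Lib.Helper17FibInertia3
import Groth.Agent.Lib.Helper17StkFp
import Groth.Agent.Lib.Helper17AlgStEquiv
import Groth.Agent.Lib.Helper17AlgStRep

set_option autoImplicit false
set_option backward.isDefEq.respectTransparency false
set_option backward.isDefEq.respectTransparency.types false
open CategoryTheory CategoryTheory.Functor

universe v₁ u₁ v₂ u₂ v₃ u₃ u

namespace Groth.Agent.Lib.T2H6.Inertia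

open Groth.Agent.Lib.Helper17

section General

variable {C : Type u₁} [Category.{v₁} C] {𝒳 : BasedCategory.{v₂, u₂} C}
  {𝒴 : BasedCategory.{v₃, u₃} C} (F : 𝒳 ⥤ᵇ 𝒴)

/-- The neutral section followed by the identification of the inertia with the 2-fibre product of
the diagonals is the second diagonal. -/
def neutralDiagIso :
    BasedFunctor.comp (FibCat.inertiaNeutral F) (inertiaToFpDiag F) ≅
      FibCat.diag (FibCat.diag F) :=
  fpIsoMk (FibCat.diag F) (FibCat.diag F)
    (H := BasedFunctor.comp (FibCat.inertiaNeutral F) (inertiaToFpDiag F))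
    (K := FibCat.diag (FibCat.diag F)) (Iso.refl _) (Iso.refl _) (fun a => by
      apply ObjectProperty.hom_ext
      apply Limits.CategoricalPullback.hom_ext
      · change (𝟙 a) ≫ 𝟙 a = 𝟙 a ≫ 𝟙 a
        rfl
      · change (𝟙 a) ≫ 𝟙 a = 𝟙 a ≫ 𝟙 a
        rfl)

end General

section Rep

open AlgebraicGeometry

variable {S : Scheme.{u}} {𝒳 𝒴 : AlgSt.Cat S} (f : 𝒳 ⥤ᵇ 𝒴)

/-- The inertia is the base change of the diagonal along itself. -/
theorem repByAlgSpWith_inertiaToBase_iff (D : MorphismProperty (AlgSp.Sp S)) :
    AlgSt.RepByAlgSpWith D (FibCat.inertiaToBase f) ↔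
      AlgSt.RepByAlgSpWith D (FibCat.fpFst (FibCat.diag f) (FibCat.diag f)) :=
  (repByAlgSpWith_of_square D (FibCat.fpFst (FibCat.diag f) (FibCat.diag f))
    (FibCat.inertiaToBase f) (inertiaToFpDiag f) (BasedFunctor.id _)
    (isEquivOver_inertiaToFpDiag f) (isEquivOver_id _) (Iso.refl _)).symm

/-- The neutral section of the inertia is the second diagonal. -/
theorem repByAlgSpWith_inertiaNeutral_iff (D : MorphismProperty (AlgSp.Sp S)) :
    AlgSt.RepByAlgSpWith D (FibCat.inertiaNeutral f) ↔
      AlgSt.RepByAlgSpWith D (FibCat.diag (FibCat.diag f)) :=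
  (repByAlgSpWith_of_square D (FibCat.diag (FibCat.diag f)) (FibCat.inertiaNeutral f)
    (BasedFunctor.id _) (inertiaToFpDiag f) (isEquivOver_id _) (isEquivOver_inertiaToFpDiag f)
    (neutralDiagIso f)).symm

/-- The neutral section is a section of the structure functor of the inertia. -/
def neutralSectionIso :
    BasedFunctor.comp (FibCat.inertiaNeutral f) (FibCat.inertiaToBase f) ≅ BasedFunctor.id 𝒳 :=
  Iso.refl _

end Rep

end Groth.Agent.Lib.T2H6.Inertia
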