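import Groth.Prelude.Def_LiftSq
import Groth.Prelude.Def_FibCat2
import Groth.Agent.Lib.Helper26LiftSq

/-!
# Unique lifting is stable under base change along the first projection of a 2-fibre product (T2 helper6)
-/

set_option autoImplicit false

namespace Groth.Agent.Lib.T2H6.LiftBC

open CategoryTheory LiftSq FibCat
open Groth.Agent.Lib.Helper26.LiftSqComp

universe v₇ u₇ v₆ u₆ v₅ u₅ v₄ u₄ v₃ u₃ v₂ u₂ v u

set_option allowUnsafeReducibility true in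
attribute [local reducible] BasedFunctor.comp

variable {C : Type u} [Category.{v} C]

section Mk

variable {𝒳 : BasedCategory.{v₂, u₂} C} {𝒴 : BasedCategory.{v₃, u₃} C} {𝒮 : BasedCategory.{v₄, u₄} C}
  {𝒲 : BasedCategory.{v₅, u₅} C} {F : 𝒳 ⥤ᵇ 𝒮} {G : 𝒴 ⥤ᵇ 𝒮}

/-- Left whiskering of a 2-isomorphism. -/
def whiskerLeftIso {𝒜 : BasedCategory.{v₆, u₆} C} (H : 𝒜 ⥤ᵇ 𝒲) {K L : 𝒲 ⥤ᵇ 𝒳} (α : K ≅ L) :
    BasedFunctor.comp H K ≅ BasedFunctor.comp H L where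
  hom := BasedCategory.whiskerLeft H α.hom
  inv := BasedCategory.whiskerLeft H α.inv
  hom_inv_id := by rw [← whiskerLeft_comp', α.hom_inv_id, whiskerLeft_id']
  inv_hom_id := by rw [← whiskerLeft_comp', α.inv_hom_id, whiskerLeft_id']

theorem fp_hom_ext {x x' : (fp F G).obj} {m m' : x ⟶ x'} (h1 : m.hom.fst = m'.hom.fst)
    (h2 : m.hom.snd = m'.hom.snd) : m = m' := by
  apply ObjectProperty.hom_ext
  apply Limits.CategoricalPullback.hom_ext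
  · exact h1
  · exact h2

theorem based_ext {H K : 𝒲 ⥤ᵇ 𝒳} {α β : H ⟶ K}
    (h : ∀ w, α.toNatTrans.app w = β.toNatTrans.app w) : α = β := by
  apply BasedNatTrans.homCategory.ext
  ext w
  exact h w

/-- A 2-morphism between functors into a 2-fibre product, from its two components. -/
def fpNatTransMk {G₁ G₂ : 𝒲 ⥤ᵇ fp F G}
    (θ₁ : BasedFunctor.comp G₁ (fpFst F G) ⟶ BasedFunctor.comp G₂ (fpFst F G))
    (θ₂ : BasedFunctor.comp G₁ (fpSnd F G) ⟶ BasedFunctor.comp G₂ (fpSnd F G))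
    (hc : ∀ w, F.map (θ₁.toNatTrans.app w) ≫ (G₂.obj w).obj.iso.hom =
      (G₁.obj w).obj.iso.hom ≫ G.map (θ₂.toNatTrans.app w)) : G₁ ⟶ G₂ where
  toNatTrans :=
    { app := fun w => ObjectProperty.homMk ⟨θ₁.toNatTrans.app w, θ₂.toNatTrans.app w, hc w⟩
      naturality := fun w w' g => by
        apply fp_hom_ext
        · exact θ₁.toNatTrans.naturality g
        · exact θ₂.toNatTrans.naturality g }
  isHomLift' := fun w => by
    have h := θ₁.isHomLift' w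
    have h1 := IsHomLift.fac 𝒳.p (𝟙 (𝒲.p.obj w)) (θ₁.toNatTrans.app w)
    have h2 := IsHomLift.domain_eq 𝒳.p (𝟙 (𝒲.p.obj w)) (θ₁.toNatTrans.app w)
    have h3 := IsHomLift.codomain_eq 𝒳.p (𝟙 (𝒲.p.obj w)) (θ₁.toNatTrans.app w)
    exact IsHomLift.of_fac (fp F G).p _ _ h2 h3 h1

theorem fpNatTransMk_fst {G₁ G₂ : 𝒲 ⥤ᵇ fp F G}
    (θ₁ : BasedFunctor.comp G₁ (fpFst F G) ⟶ BasedFunctor.comp G₂ (fpFst F G))
    (θ₂ : BasedFunctor.comp G₁ (fpSnd F G) ⟶ BasedFunctor.comp G₂ (fpSnd F G))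
    (hc : ∀ w, F.map (θ₁.toNatTrans.app w) ≫ (G₂.obj w).obj.iso.hom =
      (G₁.obj w).obj.iso.hom ≫ G.map (θ₂.toNatTrans.app w)) (w : 𝒲.obj) :
    ((fpNatTransMk θ₁ θ₂ hc).toNatTrans.app w).hom.fst = θ₁.toNatTrans.app w := rfl

theorem fpNatTransMk_snd {G₁ G₂ : 𝒲 ⥤ᵇ fp F G}
    (θ₁ : BasedFunctor.comp G₁ (fpFst F G) ⟶ BasedFunctor.comp G₂ (fpFst F G))
    (θ₂ : BasedFunctor.comp G₁ (fpSnd F G) ⟶ BasedFunctor.comp G₂ (fpSnd F G))
    (hc : ∀ w, F.map (θ₁.toNatTrans.app w) ≫ (G₂.obj w).obj.iso.hom =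
      (G₁.obj w).obj.iso.hom ≫ G.map (θ₂.toNatTrans.app w)) (w : 𝒲.obj) :
    ((fpNatTransMk θ₁ θ₂ hc).toNatTrans.app w).hom.snd = θ₂.toNatTrans.app w := rfl

theorem iso_hom_inv_app {H K : 𝒲 ⥤ᵇ 𝒳} (α : H ≅ K) (w : 𝒲.obj) :
    α.hom.toNatTrans.app w ≫ α.inv.toNatTrans.app w = 𝟙 _ :=
  congrArg (fun β => β.toNatTrans.app w) α.hom_inv_id

theorem iso_inv_hom_app {H K : 𝒲 ⥤ᵇ 𝒳} (α : H ≅ K) (w : 𝒲.obj) :
    α.inv.toNatTrans.app w ≫ α.hom.toNatTrans.app w = 𝟙 _ :=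
  congrArg (fun β => β.toNatTrans.app w) α.inv_hom_id

theorem aux_inv {D : Type*} [Category D] {X₁ X₂ Y₁ Y₂ : D} (a : X₁ ≅ X₂) (b : Y₁ ≅ Y₂)
    (i₁ : X₁ ⟶ Y₁) (i₂ : X₂ ⟶ Y₂) (h : a.hom ≫ i₂ = i₁ ≫ b.hom) : a.inv ≫ i₁ = i₂ ≫ b.inv := by
  rw [Iso.inv_comp_eq, ← Category.assoc, Iso.eq_comp_inv]
  exact h.symm

/-- A 2-isomorphism between functors into a 2-fibre product, from its two components. -/
def fpNatIsoMk {G₁ G₂ : 𝒲 ⥤ᵇ fp F G}
    (θ₁ : BasedFunctor.comp G₁ (fpFst F G) ≅ BasedFunctor.comp G₂ (fpFst F G))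
    (θ₂ : BasedFunctor.comp G₁ (fpSnd F G) ≅ BasedFunctor.comp G₂ (fpSnd F G))
    (hc : ∀ w, F.map (θ₁.hom.toNatTrans.app w) ≫ (G₂.obj w).obj.iso.hom =
      (G₁.obj w).obj.iso.hom ≫ G.map (θ₂.hom.toNatTrans.app w)) : G₁ ≅ G₂ where
  hom := fpNatTransMk θ₁.hom θ₂.hom hc
  inv := fpNatTransMk θ₁.inv θ₂.inv (fun w =>
    aux_inv (F.toFunctor.mapIso ⟨θ₁.hom.toNatTrans.app w, θ₁.inv.toNatTrans.app w,
        iso_hom_inv_app θ₁ w, iso_inv_hom_app θ₁ w⟩)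
      (G.toFunctor.mapIso ⟨θ₂.hom.toNatTrans.app w, θ₂.inv.toNatTrans.app w,
        iso_hom_inv_app θ₂ w, iso_inv_hom_app θ₂ w⟩) _ _ (hc w))
  hom_inv_id := by
    apply based_ext
    intro w
    apply fp_hom_ext
    · exact iso_hom_inv_app θ₁ w
    · exact iso_hom_inv_app θ₂ w
  inv_hom_id := by
    apply based_ext
    intro w
    apply fp_hom_ext
    · exact iso_inv_hom_app θ₁ w
    · exact iso_inv_hom_app θ₂ w

end Mk

section Aux

variable {D : Type*} {E : Type*} [Category D] [Category E]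

theorem aux_w (Y : D ⥤ E) {P Q U : D} {R T : E} (p : P ⟶ Q) (q : Q ⟶ U) (pq : P ⟶ U)
    (h1 : p ≫ q = pq) (i : Y.obj Q ⟶ R) (s : R ⟶ T) (i' : Y.obj U ⟶ T)
    (h2 : Y.map q ≫ i' = i ≫ s) : (Y.map p ≫ i) ≫ s = Y.map pq ≫ i' := by
  subst h1
  rw [Category.assoc, ← h2, Functor.map_comp, Category.assoc]

theorem aux_hc (Y : D ⥤ E) {P Q U : D} {R T : E} (p : P ⟶ Q) (pinv : Q ⟶ P)
    (hi : pinv ≫ p = 𝟙 Q) (p₂ : P ⟶ U) (i₁ : Y.obj Q ⟶ R) (s : R ⟶ T) (i₂ : Y.obj U ⟶ T)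
    (h : (Y.map p ≫ i₁) ≫ s = Y.map p₂ ≫ i₂) : Y.map (pinv ≫ p₂) ≫ i₂ = i₁ ≫ s := by
  rw [Functor.map_comp, Category.assoc, ← h, ← Category.assoc, ← Category.assoc,
    ← Functor.map_comp, hi, Functor.map_id, Category.id_comp]

theorem aux_top {P Q U V : D} (p₁ : P ⟶ Q) (p₁inv : Q ⟶ P) (hi : p₁inv ≫ p₁ = 𝟙 Q)
    (p₂ : P ⟶ U) (t₁ : Q ⟶ V) (t₂ : U ⟶ V) (s : P ⟶ V) (h1 : p₁ ≫ t₁ = s) (h2 : p₂ ≫ t₂ = s) :
    (p₁inv ≫ p₂) ≫ t₂ = t₁ := by
  rw [Category.assoc, h2, ← h1, ← Category.assoc, hi, Category.id_comp]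

theorem aux_bot {P Q U : D} (p₁ : P ⟶ Q) (p₁inv : Q ⟶ P) (hi : p₁ ≫ p₁inv = 𝟙 P)
    (p₂ : P ⟶ U) : p₁ ≫ (p₁inv ≫ p₂) = p₂ := by
  rw [← Category.assoc, hi, Category.id_comp]

theorem aux_uniq {P Q U : D} (p₁ : P ⟶ Q) (p₁inv : Q ⟶ P) (hi : p₁inv ≫ p₁ = 𝟙 Q)
    (t : Q ⟶ U) (p₂ : P ⟶ U) (h1 : p₁ ≫ t = p₂) : t = p₁inv ≫ p₂ := by
  rw [← h1, ← Category.assoc, hi, Category.id_comp]

end Aux

section Main

variable {𝒜 : BasedCategory.{v₂, u₂} C} {ℬ : BasedCategory.{v₃, u₃} C}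
  {𝒳 : BasedCategory.{v₄, u₄} C} {𝒴 : BasedCategory.{v₅, u₅} C} {𝒴' : BasedCategory.{v₆, u₆} C}

variable (j : 𝒜 ⥤ᵇ ℬ) (f : 𝒳 ⥤ᵇ 𝒴) (y : 𝒴' ⥤ᵇ 𝒴)

/-- The 2-isomorphism of the square against `f` obtained from a square against `fpFst y f`. -/
def isoF (sq : Sq j (fpFst y f)) :
    BasedFunctor.comp j (BasedFunctor.comp sq.bot y) ≅
      BasedFunctor.comp (BasedFunctor.comp sq.top (fpSnd y f)) f :=
  (whiskerRightIso sq.iso y : _ ≅ BasedFunctor.comp sq.top (BasedFunctor.comp (fpFst y f) y)) ≪≫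
    whiskerLeftIso sq.top (fpIso y f)

theorem isoF_hom_app (sq : Sq j (fpFst y f)) (a : 𝒜.obj) :
    (isoF j f y sq).hom.toNatTrans.app a =
      y.map (sq.iso.hom.toNatTrans.app a) ≫ (sq.top.obj a).obj.iso.hom := rfl

/-- The square against `f` obtained from a square against `fpFst y f`. -/
def sqF (sq : Sq j (fpFst y f)) : Sq j f :=
  ⟨BasedFunctor.comp sq.top (fpSnd y f), BasedFunctor.comp sq.bot y, isoF j f y sq⟩

variable {j f y}

theorem lift_w_app {sq : Sq j f} (d : sq.Lift) (a : 𝒜.obj) :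
    d.isoBot.hom.toNatTrans.app (j.obj a) ≫ f.map (d.isoTop.hom.toNatTrans.app a) =
      sq.iso.hom.toNatTrans.app a :=
  congrArg (fun α => α.toNatTrans.app a) d.w

/-- The identity 2-isomorphism `a ≅ fpLift a b e ⋙ fpFst`. -/
def fpLiftFstIso {𝒲 : BasedCategory.{v₇, u₇} C} (a : 𝒲 ⥤ᵇ 𝒴') (b : 𝒲 ⥤ᵇ 𝒳)
    (e : BasedFunctor.comp a y ≅ BasedFunctor.comp b f) :
    a ≅ BasedFunctor.comp (fpLift a b e) (fpFst y f) :=
  BasedNatIso.mkNatIso (NatIso.ofComponents (fun _ => Iso.refl _)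
    (fun _ => (Category.comp_id _).trans (Category.id_comp _).symm))
    (fun w => IsHomLift.id (a.w_obj w))

/-- The identity 2-isomorphism `fpLift a b e ⋙ fpSnd ≅ b`. -/
def fpLiftSndIso {𝒲 : BasedCategory.{v₇, u₇} C} (a : 𝒲 ⥤ᵇ 𝒴') (b : 𝒲 ⥤ᵇ 𝒳)
    (e : BasedFunctor.comp a y ≅ BasedFunctor.comp b f) :
    BasedFunctor.comp (fpLift a b e) (fpSnd y f) ≅ b :=
  BasedNatIso.mkNatIso (NatIso.ofComponents (fun _ => Iso.refl _)
    (fun _ => (Category.comp_id _).trans (Category.id_comp _).symm))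
    (fun w => IsHomLift.id (b.w_obj w))

/-- The dotted arrow of `sq` built from a dotted arrow of the associated square against `f`. -/
def liftOf {sq : Sq j (fpFst y f)} (d' : (sqF j f y sq).Lift) : sq.Lift where
  fn := fpLift sq.bot d'.fn d'.isoBot
  isoTop := fpNatIsoMk
    ((whiskerLeftIso j (fpLiftFstIso sq.bot d'.fn d'.isoBot).symm : _ ≅ BasedFunctor.comp j sq.bot) ≪≫
      sq.iso)
    ((whiskerLeftIso j (fpLiftSndIso sq.bot d'.fn d'.isoBot) : _ ≅ BasedFunctor.comp j d'.fn) ≪≫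
      d'.isoTop)
    (fun a => by
      have h := lift_w_app d' a
      change d'.isoBot.hom.toNatTrans.app (j.obj a) ≫ f.map (d'.isoTop.hom.toNatTrans.app a) =
        y.map (sq.iso.hom.toNatTrans.app a) ≫ (sq.top.obj a).obj.iso.hom at h
      change y.map (𝟙 _ ≫ sq.iso.hom.toNatTrans.app a) ≫ (sq.top.obj a).obj.iso.hom =
        d'.isoBot.hom.toNatTrans.app (j.obj a) ≫ f.map (𝟙 _ ≫ d'.isoTop.hom.toNatTrans.app a)
      rw [Category.id_comp, Category.id_comp]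
      exact h.symm)
  isoBot := fpLiftFstIso sq.bot d'.fn d'.isoBot
  w := by
    apply based_ext
    intro a
    change 𝟙 _ ≫ (𝟙 _ ≫ sq.iso.hom.toNatTrans.app a) = sq.iso.hom.toNatTrans.app a
    rw [Category.id_comp, Category.id_comp]

theorem exists_lift_fpFst (hf : Lifts j f) : Lifts j (fpFst y f) := by
  intro sq
  obtain ⟨d'⟩ := hf (sqF j f y sq)
  exact ⟨liftOf d'⟩

/-- The lower triangle of the dotted arrow against `f` induced by a dotted arrow against `fpFst y f`. -/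
def isoBotF {sq : Sq j (fpFst y f)} (d : sq.Lift) :
    BasedFunctor.comp sq.bot y ≅ BasedFunctor.comp (BasedFunctor.comp d.fn (fpSnd y f)) f :=
  (whiskerRightIso d.isoBot y : _ ≅ BasedFunctor.comp d.fn (BasedFunctor.comp (fpFst y f) y)) ≪≫
    whiskerLeftIso d.fn (fpIso y f)

theorem isoBotF_hom_app {sq : Sq j (fpFst y f)} (d : sq.Lift) (b : ℬ.obj) :
    (isoBotF d).hom.toNatTrans.app b =
      y.map (d.isoBot.hom.toNatTrans.app b) ≫ (d.fn.obj b).obj.iso.hom := rfl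

/-- The dotted arrow against `f` induced by a dotted arrow against `fpFst y f`. -/
def liftF {sq : Sq j (fpFst y f)} (d : sq.Lift) : (sqF j f y sq).Lift where
  fn := BasedFunctor.comp d.fn (fpSnd y f)
  isoTop := whiskerRightIso d.isoTop (fpSnd y f)
  isoBot := isoBotF d
  w := by
    apply based_ext
    intro a
    have h1 := lift_w_app d a
    have h2 : y.map (d.isoTop.hom.toNatTrans.app a).hom.fst ≫ (sq.top.obj a).obj.iso.hom =
      (d.fn.obj (j.obj a)).obj.iso.hom ≫ f.map (d.isoTop.hom.toNatTrans.app a).hom.snd :=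
      (d.isoTop.hom.toNatTrans.app a).hom.w
    exact aux_w y.toFunctor (d.isoBot.hom.toNatTrans.app (j.obj a))
      (d.isoTop.hom.toNatTrans.app a).hom.fst (sq.iso.hom.toNatTrans.app a) h1
      (d.fn.obj (j.obj a)).obj.iso.hom (f.map (d.isoTop.hom.toNatTrans.app a).hom.snd)
      (sq.top.obj a).obj.iso.hom h2

theorem liftF_hom_w_bot_app {sq : Sq j (fpFst y f)} {d₁ d₂ : sq.Lift} (θ' : liftF d₁ ⟶ liftF d₂)
    (b : ℬ.obj) :
    (y.map (d₁.isoBot.hom.toNatTrans.app b) ≫ (d₁.fn.obj b).obj.iso.hom) ≫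
      f.map (θ'.hom.toNatTrans.app b) =
      y.map (d₂.isoBot.hom.toNatTrans.app b) ≫ (d₂.fn.obj b).obj.iso.hom :=
  congrArg (fun α => α.toNatTrans.app b) θ'.w_bot

theorem liftF_hom_w_top_app {sq : Sq j (fpFst y f)} {d₁ d₂ : sq.Lift} (θ' : liftF d₁ ⟶ liftF d₂)
    (a : 𝒜.obj) :
    θ'.hom.toNatTrans.app (j.obj a) ≫ (d₂.isoTop.hom.toNatTrans.app a).hom.snd =
      (d₁.isoTop.hom.toNatTrans.app a).hom.snd :=
  congrArg (fun α => α.toNatTrans.app a) θ'.w_top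

theorem hom_w_bot_app {sq : Sq j (fpFst y f)} {d₁ d₂ : sq.Lift} (θ : d₁ ⟶ d₂) (b : ℬ.obj) :
    d₁.isoBot.hom.toNatTrans.app b ≫ (θ.hom.toNatTrans.app b).hom.fst =
      d₂.isoBot.hom.toNatTrans.app b :=
  congrArg (fun α => α.toNatTrans.app b) θ.w_bot

theorem hom_w_top_app {sq : Sq j (fpFst y f)} {d₁ d₂ : sq.Lift} (θ : d₁ ⟶ d₂) (a : 𝒜.obj) :
    θ.hom.toNatTrans.app (j.obj a) ≫ d₂.isoTop.hom.toNatTrans.app a =
      d₁.isoTop.hom.toNatTrans.app a :=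
  congrArg (fun α => α.toNatTrans.app a) θ.w_top

/-- A morphism of dotted arrows against `fpFst y f` induces one of the associated dotted arrows against `f`. -/
def homF {sq : Sq j (fpFst y f)} {d₁ d₂ : sq.Lift} (θ : d₁ ⟶ d₂) : liftF d₁ ⟶ liftF d₂ where
  hom := BasedCategory.whiskerRight θ.hom (fpSnd y f)
  w_top := by
    apply based_ext
    intro a
    have h := hom_w_top_app θ a
    exact congrArg (fun m => m.hom.snd) h
  w_bot := by
    apply based_ext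
    intro b
    have h1 := hom_w_bot_app θ b
    have h2 : y.map (θ.hom.toNatTrans.app b).hom.fst ≫ (d₂.fn.obj b).obj.iso.hom =
      (d₁.fn.obj b).obj.iso.hom ≫ f.map (θ.hom.toNatTrans.app b).hom.snd :=
      (θ.hom.toNatTrans.app b).hom.w
    exact aux_w y.toFunctor (d₁.isoBot.hom.toNatTrans.app b)
      (θ.hom.toNatTrans.app b).hom.fst (d₂.isoBot.hom.toNatTrans.app b) h1
      (d₁.fn.obj b).obj.iso.hom (f.map (θ.hom.toNatTrans.app b).hom.snd)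
      (d₂.fn.obj b).obj.iso.hom h2

/-- A morphism of the associated dotted arrows against `f` induces one of dotted arrows against `fpFst y f`. -/
def homOf {sq : Sq j (fpFst y f)} {d₁ d₂ : sq.Lift} (θ' : liftF d₁ ⟶ liftF d₂) : d₁ ⟶ d₂ where
  hom := fpNatTransMk (d₁.isoBot.inv ≫ d₂.isoBot.hom) θ'.hom (fun b =>
    aux_hc y.toFunctor (d₁.isoBot.hom.toNatTrans.app b) (d₁.isoBot.inv.toNatTrans.app b)
      (iso_inv_hom_app d₁.isoBot b) (d₂.isoBot.hom.toNatTrans.app b)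
      (d₁.fn.obj b).obj.iso.hom (f.map (θ'.hom.toNatTrans.app b)) (d₂.fn.obj b).obj.iso.hom
      (liftF_hom_w_bot_app θ' b))
  w_top := by
    apply based_ext
    intro a
    apply fp_hom_ext
    · exact aux_top (d₁.isoBot.hom.toNatTrans.app (j.obj a)) (d₁.isoBot.inv.toNatTrans.app (j.obj a))
        (iso_inv_hom_app d₁.isoBot (j.obj a)) (d₂.isoBot.hom.toNatTrans.app (j.obj a))
        (d₁.isoTop.hom.toNatTrans.app a).hom.fst (d₂.isoTop.hom.toNatTrans.app a).hom.fst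
        (sq.iso.hom.toNatTrans.app a) (lift_w_app d₁ a) (lift_w_app d₂ a)
    · exact liftF_hom_w_top_app θ' a
  w_bot := by
    apply based_ext
    intro b
    exact aux_bot (d₁.isoBot.hom.toNatTrans.app b) (d₁.isoBot.inv.toNatTrans.app b)
      (iso_hom_inv_app d₁.isoBot b) (d₂.isoBot.hom.toNatTrans.app b)

theorem uniq_lift_fpFst (hf : LiftsUnique j f) : LiftsUnique j (fpFst y f) := by
  intro sq d₁ d₂
  obtain ⟨u⟩ := hf (sqF j f y sq) (liftF d₁) (liftF d₂)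
  refine ⟨⟨⟨homOf u.default⟩, ?_⟩⟩
  intro θ
  have h : homF θ = u.default := u.uniq _
  apply Sq.Lift.hom_ext
  apply based_ext
  intro b
  apply fp_hom_ext
  · exact aux_uniq (d₁.isoBot.hom.toNatTrans.app b) (d₁.isoBot.inv.toNatTrans.app b)
      (iso_inv_hom_app d₁.isoBot b) (θ.hom.toNatTrans.app b).hom.fst
      (d₂.isoBot.hom.toNatTrans.app b) (hom_w_bot_app θ b)
  · have h2 : (homF θ).hom.toNatTrans.app b = u.default.hom.toNatTrans.app b := by rw [h]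
    exact h2

theorem liftsUniquely_fpFst (hf : LiftsUniquely j f) : LiftsUniquely j (fpFst y f) := by
  intro sq
  exact ⟨exists_lift_fpFst (fun s => (hf s).1) sq, uniq_lift_fpFst (fun s => (hf s).2) sq⟩

end Main

end Groth.Agent.Lib.T2H6.LiftBC
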