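-- helper6 (team 2): a 2-endomorphism of a functor between Deligne–Mumford stacks which is trivial
-- on a dense open substack representable by algebraic spaces is trivial.
import Mathlib
import Groth.Agent.Lib.T2H6ClosedImm
import Groth.Agent.Lib.T2H6DiagSp
import Groth.Agent.Lib.T2H6LiftBC
import Groth.Agent.Lib.Helper15ChartSp
import Groth.Agent.S10262
import Groth.Agent.S10265
import Groth.Agent.Lib.T2H6Inertia
import Groth.Agent.Lib.T2H6IsoNat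
import Groth.Agent.Lib.Helper17FibInertia
import Groth.Agent.Lib.Helper17Stk

set_option autoImplicit false
set_option backward.isDefEq.respectTransparency false
set_option backward.isDefEq.respectTransparency.types false
open CategoryTheory CategoryTheory.Functor CategoryTheory.Limits Opposite AlgebraicGeometry

universe u

namespace Groth.Agent.Lib.T2H6.EndTrans

open Groth.Agent.Lib.Helper17 Groth.Agent.Lib.Helper15PtsTop Groth.Agent.Lib.Helper15PtsComp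
  Groth.Agent.Lib.Helper15DiagBase Groth.Agent.Lib.Helper15LocQEngine Groth.Agent.Lib.Helper15Atlas
  Groth.Agent.Lib.Helper15DiagRepSp Groth.Agent.Lib.Helper15EquivRep
  Groth.Agent.Lib.T2H6.RepDiag Groth.Agent.Lib.Helper15UnivComp Groth.Agent.Lib.T2H6.OpenSub
  Groth.Agent.Lib.T2H6.SmPre Groth.Agent.Lib.Helper15SmLoc Groth.Agent.Lib.T2H6.ClosedSub
  Groth.Agent.Lib.T2H6.ClosedImm

variable {S : Scheme.{u}} {𝒳 𝒵 : AlgSt.Cat S}

/-- the points of a chart which lie in the image of a functor are the image of the morphism of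
schemes of the chart of the functor -/
theorem mem_range_left_iff_of_chart (h𝒳 : FibCat.IsFibGrpd 𝒳.p) (h𝒵 : FibCat.IsFibGrpd 𝒵.p)
    (i : 𝒵 ⥤ᵇ 𝒳) {U V : Over S}
    (ya : FibCat.overCat U ⥤ᵇ 𝒳) (G : FibCat.overCat V ⥤ᵇ FibCat.fp ya i)
    (hG : FibCat.IsEquivOver G) (j : V ⟶ U)
    (lam : BasedFunctor.comp G (FibCat.fpFst ya i) ≅ AlgSt.overMap j) (u : ↥U.left) :
    u ∈ Set.range j.left.base ↔
      AlgSt.Points.ofChart ya u ∈ Set.range (AlgSt.Points.map i) := by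
  have hU : FibCat.IsFibGrpd (FibCat.overCat U).p := (isFibSet_overForget U).1
  constructor
  · rintro ⟨v, rfl⟩
    refine ⟨AlgSt.Points.map (FibCat.fpSnd ya i) (AlgSt.Points.map G (ptOver V v)), ?_⟩
    rw [ofChart_eq_map_ptOver, ← ptOver_map,
      ← points_map_congr _ _ ((BasedNatTrans.forgetful _ _).mapIso lam), points_map_comp,
      ← points_map_comp (FibCat.fpSnd ya i) i, ← points_map_comp (FibCat.fpFst ya i) ya]
    exact (points_map_congr _ _ ((BasedNatTrans.forgetful _ _).mapIso (FibCat.fpIso ya i)) _).symm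
  · rintro ⟨x, hx'⟩
    obtain ⟨ω, hω, -⟩ := points_fp_surjective h𝒵 h𝒳 hU i ya
      (ptOver U u) x (by rw [hx', ofChart_eq_map_ptOver])
    obtain ⟨ν, rfl⟩ := points_map_surjective_of_isEquivOver G hG ω
    obtain ⟨v, rfl⟩ := (ptOver_bijective V).2 ν
    refine ⟨v, (ptOver_bijective U).1 ?_⟩
    rw [← ptOver_map, ← hω, ← points_map_comp]
    exact (points_map_congr _ _ ((BasedNatTrans.forgetful _ _).mapIso lam) _).symm

/-- the image of a closed immersion is closed -/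
theorem isClosed_range_of_isClosedImm (h𝒳 : FibCat.IsFibGrpd 𝒳.p) (h𝒵 : FibCat.IsFibGrpd 𝒵.p)
    (i : 𝒵 ⥤ᵇ 𝒳) (hi : AlgSt.IsClosedImm i) :
    IsClosed (Set.range (AlgSt.Points.map i)) := by
  rw [← isOpen_compl_iff, AlgSt.Points.isOpen_iff]
  intro U x _
  obtain ⟨V, G, hG, j, ⟨lam⟩, hj⟩ := exists_scheme_chart_fp @IsClosedImmersion i hi x
  have : IsClosedImmersion j.left := hj
  have h : AlgSt.Points.ofChart x ⁻¹' (Set.range (AlgSt.Points.map i))ᶜ =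
      (Set.range j.left.base)ᶜ := by
    ext u
    simp only [Set.mem_preimage, Set.mem_compl_iff]
    rw [mem_range_left_iff_of_chart h𝒳 h𝒵 i x G hG j lam u]
  rw [h]
  exact j.left.isClosedEmbedding.isClosed_range.isOpen_compl

/-- an open immersion which is surjective on points is essentially surjective -/
theorem exists_preimage_of_isOpenImm_of_surjective (h𝒳 : FibCat.IsFibGrpd 𝒳.p)
    (h𝒵 : FibCat.IsFibGrpd 𝒵.p) (i : 𝒵 ⥤ᵇ 𝒳) (hi : AlgSt.IsOpenImm i)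
    (hpts : Function.Surjective (AlgSt.Points.map i)) (y : 𝒳.obj) :
    ∃ z : 𝒵.obj, Nonempty (i.obj z ≅ y) := by
  have := IsFibGrpd.isFibered h𝒳
  obtain ⟨U, hx⟩ : ∃ U : Over S, 𝒳.p.obj y = U := ⟨_, rfl⟩
  obtain ⟨ι₀, -⟩ := yonedaFunctor_iso hx
  obtain ⟨V, G, hG, j, ⟨lam⟩, hj⟩ :=
    exists_scheme_chart_fp @IsOpenImmersion i hi (yonedaFunctor hx)
  have hsurj := surjective_left_of_chart' h𝒳 h𝒵 i (yonedaFunctor hx) G hG j lam
    (fun u => hpts _)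
  have : IsOpenImmersion j.left := hj
  have : Surjective j.left := ⟨hsurj⟩
  have hiso : IsIso j.left := by
    have : Epi j.left.base := by
      rw [TopCat.epi_iff_surjective]
      exact hsurj
    exact IsOpenImmersion.isIso j.left
  exact exists_preimage_of_isIso_chart i (yonedaFunctor hx) ι₀ G j lam hiso


section Main

variable {𝒴 𝒰 𝒱 : AlgSt.Cat S}

theorem map_eq_id_of_isHomLift_id {𝒜 : AlgSt.Cat S} {a : 𝒜.obj} (R : Over S) (φ : a ⟶ a)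
    [h : 𝒜.p.IsHomLift (𝟙 R) φ] : 𝒜.p.map φ = 𝟙 _ := by
  have h1 := IsHomLift.fac' 𝒜.p (𝟙 R) φ
  rw [h1]
  simp

theorem isHomLift_id_of_map_eq_id {𝒜 : AlgSt.Cat S} {a : 𝒜.obj} (φ : a ⟶ a)
    (h : 𝒜.p.map φ = 𝟙 _) : 𝒜.p.IsHomLift (𝟙 (𝒜.p.obj a)) φ := by
  rw [← h]
  infer_instance

theorem app_map_eq_id (F : 𝒳 ⥤ᵇ 𝒴) (α : F ⟶ F) (ξ : 𝒳.obj) :
    𝒴.p.map (α.toNatTrans.app ξ) = 𝟙 _ := by
  have := α.isHomLift' ξ
  exact map_eq_id_of_isHomLift_id (𝒳.p.obj ξ) _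

theorem isIso_app (h𝒴 : FibCat.IsFibGrpd 𝒴.p) (F : 𝒳 ⥤ᵇ 𝒴) (α : F ⟶ F) (ξ : 𝒳.obj) :
    IsIso (α.toNatTrans.app ξ) := by
  have := α.isHomLift' ξ
  exact IsFibGrpd.isIso_of_isHomLift_id h𝒴 (𝒳.p.obj ξ) _

/-- a 2-endomorphism as a functor to the inertia -/
noncomputable def toInertia (h𝒴 : FibCat.IsFibGrpd 𝒴.p) (F : 𝒳 ⥤ᵇ 𝒴) (α : F ⟶ F) :
    𝒳 ⥤ᵇ FibCat.inertia (FibCat.toSelf 𝒴) where
  toFunctor :=
    { obj := fun ξ => ⟨F.obj ξ, @asIso _ _ _ _ (α.toNatTrans.app ξ) (isIso_app h𝒴 F α ξ),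
        app_map_eq_id F α ξ⟩
      map := fun {ξ ξ'} f => ⟨F.map f, (α.toNatTrans.naturality f).symm⟩
      map_id := fun ξ => by
        apply FibCat.InertiaObj.hom_ext
        exact F.toFunctor.map_id ξ
      map_comp := fun f g => by
        apply FibCat.InertiaObj.hom_ext
        exact F.toFunctor.map_comp f g }
  w := F.w

/-- on the locus where the 2-endomorphism is neutral, it is the identity -/
theorem app_eq_id_of_preimage (h𝒴 : FibCat.IsFibGrpd 𝒴.p) (F : 𝒳 ⥤ᵇ 𝒴) (α : F ⟶ F)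
    (w : (FibCat.fp (toInertia h𝒴 F α) (FibCat.inertiaNeutral (FibCat.toSelf 𝒴))).obj)
    (ξ : 𝒳.obj) (k : w.obj.fst ≅ ξ) : α.toNatTrans.app ξ = 𝟙 _ := by
  have h1 : α.toNatTrans.app w.obj.fst ≫ w.obj.iso.hom.hom = w.obj.iso.hom.hom ≫ 𝟙 _ :=
    w.obj.iso.hom.comm
  have hiso : IsIso w.obj.iso.hom.hom :=
    ⟨w.obj.iso.inv.hom, congrArg FibCat.InertiaObj.Hom.hom w.obj.iso.hom_inv_id,
      congrArg FibCat.InertiaObj.Hom.hom w.obj.iso.inv_hom_id⟩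
  have h2 : α.toNatTrans.app w.obj.fst = 𝟙 _ := by
    rw [Category.comp_id] at h1
    rw [← cancel_mono w.obj.iso.hom.hom, h1, Category.id_comp]
  have h3 := α.toNatTrans.naturality k.hom
  rw [h2, Category.id_comp] at h3
  have : IsIso (F.toFunctor.map k.hom) := inferInstance
  rw [← cancel_epi (F.toFunctor.map k.hom), h3, Category.comp_id]


/-- a 2-endomorphism is trivial over a substack mapping to a fully faithful substack fibred in
setoids -/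
theorem app_eq_id_of_open (hset : FibCat.IsFibSetoid 𝒱.p)
    (j : 𝒱 ⥤ᵇ 𝒴) [j.toFunctor.Full] [j.toFunctor.Faithful]
    (F : 𝒳 ⥤ᵇ 𝒴) (i : 𝒰 ⥤ᵇ 𝒳) (G : 𝒰 ⥤ᵇ 𝒱)
    (e : BasedFunctor.comp G j ≅ BasedFunctor.comp i F) (α : F ⟶ F) (u : 𝒰.obj) :
    α.toNatTrans.app (i.obj u) = 𝟙 _ := by
  let eu : j.obj (G.obj u) ≅ F.obj (i.obj u) := bApp e u
  let β : j.obj (G.obj u) ⟶ j.obj (G.obj u) := eu.hom ≫ α.toNatTrans.app (i.obj u) ≫ eu.inv
  have hβ : 𝒴.p.map β = 𝟙 _ := by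
    change 𝒴.p.map (eu.hom ≫ α.toNatTrans.app (i.obj u) ≫ eu.inv) = 𝟙 _
    rw [Functor.map_comp, Functor.map_comp, app_map_eq_id F α (i.obj u), Category.id_comp,
      ← Functor.map_comp, eu.hom_inv_id, CategoryTheory.Functor.map_id]
  let γ : G.obj u ⟶ G.obj u := j.toFunctor.preimage β
  have hγ : j.map γ = β := j.toFunctor.map_preimage β
  have h1 : 𝒴.p.IsHomLift (𝟙 (𝒴.p.obj (j.obj (G.obj u)))) (j.map γ) := by
    rw [hγ]
    exact isHomLift_id_of_map_eq_id β hβ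
  have h2 : 𝒱.p.IsHomLift (𝟙 (𝒴.p.obj (j.obj (G.obj u)))) γ :=
    (BasedFunctor.isHomLift_iff j _ γ).1 h1
  have h3 : 𝒱.p.IsHomLift (𝟙 (𝒴.p.obj (j.obj (G.obj u)))) (𝟙 (G.obj u)) :=
    IsHomLift.id (j.w_obj (G.obj u)).symm
  have h4 : γ = 𝟙 _ := IsFibSetoid.hom_ext hset (𝟙 (𝒴.p.obj (j.obj (G.obj u)))) γ (𝟙 _)
  have h5 : β = 𝟙 _ := by rw [← hγ, h4]; exact j.toFunctor.map_id _
  have h6 : α.toNatTrans.app (i.obj u) = eu.inv ≫ β ≫ eu.hom := by
    change _ = eu.inv ≫ (eu.hom ≫ α.toNatTrans.app (i.obj u) ≫ eu.inv) ≫ eu.hom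
    simp
  rw [h6, h5, Category.id_comp, eu.inv_hom_id]


theorem repByAlgSpWith_of_isEtaleMor (Q : MorphismProperty (AlgSp.Sp S))
    (hQ : ∀ {X Y : AlgSp.Space S} (f : X ⟶ Y), AlgSp.IsEtaleMor f.hom → Q f.hom)
    {𝒜 ℬ : AlgSt.Cat S} (x : 𝒜 ⥤ᵇ ℬ) (hx : AlgSt.RepByAlgSpWith AlgSp.IsEtaleMor x) :
    AlgSt.RepByAlgSpWith Q x := by
  intro U y
  obtain ⟨F, e, he, hP⟩ := hx U y
  let Y : AlgSp.Space S := ⟨(AlgSp.yon S).obj U, AlgSp.IsAlgSpace.yon_obj U⟩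
  let g : F ⟶ Y := ObjectProperty.homMk
    (AlgSt.spMapOfOver (BasedFunctor.comp e (FibCat.fpFst y x)))
  exact ⟨F, e, he, hQ g hP⟩

/-- a Deligne–Mumford stack is DM over the base -/
theorem isDMOver_of_isDM (h𝒴 : AlgSt.IsDM Scheme.fppfPrecoverage 𝒴) : AlgSt.IsDMOver 𝒴 := by
  obtain ⟨halg, U, x, hxe, hxs⟩ := h𝒴
  have hflat : AlgSt.RepByAlgSpWith (AlgSp.LocP @Flat) x :=
    repByAlgSpWith_of_isEtaleMor _ (fun f hf => (Groth.Agent.S10265.result f hf).2.2.1) x hxe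
  have hlfp : AlgSt.RepByAlgSpWith (AlgSp.LocP @LocallyOfFinitePresentation) x :=
    repByAlgSpWith_of_isEtaleMor _ (fun f hf => (Groth.Agent.S10265.result f hf).2.2.2.1) x hxe
  have hunr : AlgSt.RepByAlgSpWith (AlgSp.LocP (@LocallyOfFiniteType ⊓ @FormallyUnramified)) x :=
    repByAlgSpWith_of_isEtaleMor _ (fun f hf => (Groth.Agent.S10265.result f hf).2.2.2.2.2) x hxe
  have hu : ∀ (T : Over S) (y : FibCat.overCat T ⥤ᵇ 𝒴),
      Groth.Agent.Lib.Helper15DiagLft.LocLift x T y := fun T y =>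
    Groth.Agent.Lib.Helper15ChartSp.locLift_of_hasSchemeCovers x
      (Groth.Agent.Lib.Helper15DiagDescent.hasSchemeCovers_of_cover x hflat hlfp hxs) y
  exact Groth.Agent.Lib.Helper15ChartSp.repByAlgSpWith_diag_of_chart' _
    Groth.Agent.Lib.Helper15ChartSp.bcStable_unramified
    (Groth.Agent.Lib.Helper15DiagDescent.isLocalOnBase_fppf_of_fpqc _ (Groth.Agent.S10543.result S))
    (fun f g h => Groth.Agent.S10263.result f g h) halg.diag
    (repByAlgSp1_diag_toSelf_iff.2 (fun U x V y => repByAlgSp_fp_selfOver V U y x))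
    x hu hunr (FibCat.toSelf 𝒴)

/-- the neutral section of the inertia of a Deligne–Mumford stack is an open immersion -/
theorem isOpenImm_inertiaNeutral (h𝒴 : AlgSt.IsDM Scheme.fppfPrecoverage 𝒴) :
    AlgSt.IsOpenImm (FibCat.inertiaNeutral (FibCat.toSelf 𝒴)) := by
  have hbc : Groth.Agent.Lib.Helper15DiagLft.BCStable (AlgSp.RepWith (S := S) @IsOpenImmersion) :=
    fun _ _ _ _ _ _ _ _ _ _ _ _ sq ha =>
      MorphismProperty.of_isPullback (P := AlgSp.RepWith @IsOpenImmersion) sq ha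
  have h1 : AlgSt.RepByAlgSpWith (AlgSp.RepWith @IsOpenImmersion)
      (FibCat.diag (FibCat.diag (FibCat.toSelf 𝒴))) :=
    Groth.Agent.Lib.T2H6.DiagSp.repByAlgSpWith_diag_of_forall_diagonal _
      (AlgSp.RepWith @IsOpenImmersion) hbc (FibCat.diag (FibCat.toSelf 𝒴)) (isDMOver_of_isDM h𝒴)
      (fun F T φ hφ => by
        let Y : AlgSp.Space S := ⟨(AlgSp.yon S).obj T, AlgSp.IsAlgSpace.yon_obj T⟩
        let g : F ⟶ Y := ObjectProperty.homMk φ
        exact (Groth.Agent.S10262.result g).1 hφ)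
  exact (Groth.Agent.Lib.T2H6.Inertia.repByAlgSpWith_inertiaNeutral_iff _ _).2 h1

/-- the neutral section of the inertia of a stack with separated diagonal is a closed immersion -/
theorem isClosedImm_inertiaNeutral
    (hΔ : AlgSt.RepByAlgSpWith AlgSp.IsSeparatedMor (FibCat.diag (FibCat.toSelf 𝒴))) :
    AlgSt.IsClosedImm (FibCat.inertiaNeutral (FibCat.toSelf 𝒴)) :=
  (Groth.Agent.Lib.T2H6.Inertia.repByAlgSpWith_inertiaNeutral_iff _ _).2
    (Groth.Agent.Lib.T2H6.DiagSp.isClosedImm_diag _ hΔ)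


/-- an object of the locus where the 2-endomorphism is neutral, from an object where the
2-endomorphism is the identity -/
noncomputable def locusObj (h𝒴 : FibCat.IsFibGrpd 𝒴.p) (F : 𝒳 ⥤ᵇ 𝒴) (α : F ⟶ F) (ξ : 𝒳.obj)
    (hα : α.toNatTrans.app ξ = 𝟙 _) :
    (FibCat.fp (toInertia h𝒴 F α) (FibCat.inertiaNeutral (FibCat.toSelf 𝒴))).obj :=
  ⟨{ fst := ξ
     snd := F.obj ξ
     iso :=
      { hom := ⟨𝟙 (F.obj ξ), by
          change α.toNatTrans.app ξ ≫ 𝟙 _ = 𝟙 _ ≫ 𝟙 _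
          rw [hα]⟩
        inv := ⟨𝟙 (F.obj ξ), by
          change 𝟙 _ ≫ 𝟙 _ = 𝟙 _ ≫ α.toNatTrans.app ξ
          rw [hα]⟩
        hom_inv_id := by
          apply FibCat.InertiaObj.hom_ext
          exact Category.id_comp _
        inv_hom_id := by
          apply FibCat.InertiaObj.hom_ext
          exact Category.id_comp _ } }, by
    change (FibCat.inertia (FibCat.toSelf 𝒴)).p.IsHomLift (𝟙 (𝒳.p.obj ξ)) _
    refine IsHomLift.of_fac' (FibCat.inertia (FibCat.toSelf 𝒴)).p _ _ (F.w_obj ξ) (F.w_obj ξ) ?_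
    change 𝒴.p.map (𝟙 (F.obj ξ)) = _
    simp
    rfl⟩

theorem locusObj_fst (h𝒴 : FibCat.IsFibGrpd 𝒴.p) (F : 𝒳 ⥤ᵇ 𝒴) (α : F ⟶ F) (ξ : 𝒳.obj)
    (hα : α.toNatTrans.app ξ = 𝟙 _) :
    (FibCat.fpFst (toInertia h𝒴 F α) (FibCat.inertiaNeutral (FibCat.toSelf 𝒴))).obj
      (locusObj h𝒴 F α ξ hα) = ξ := rfl

/-- a 2-endomorphism of a functor between Deligne–Mumford stacks, the target with separated
diagonal, which is trivial on a dense open substack, is trivial -/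
theorem endTrans_eq_id (h𝒳 : AlgSt.IsDM Scheme.fppfPrecoverage 𝒳)
    (h𝒴 : AlgSt.IsDM Scheme.fppfPrecoverage 𝒴)
    (hΔ : AlgSt.RepByAlgSpWith AlgSp.IsSeparatedMor (FibCat.diag (FibCat.toSelf 𝒴)))
    (F : 𝒳 ⥤ᵇ 𝒴) (i : 𝒰 ⥤ᵇ 𝒳)
    (hdense : Dense (Set.range (AlgSt.Points.map i)))
    (j : 𝒱 ⥤ᵇ 𝒴) (hj : AlgSt.IsOpenImm j) (h𝒱 : AlgSt.RepByAlgSp 𝒱)
    (G : 𝒰 ⥤ᵇ 𝒱) (e : BasedFunctor.comp G j ≅ BasedFunctor.comp i F)
    (α : F ⟶ F) : α = 𝟙 F := by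
  have hfib𝒳 : FibCat.IsFibGrpd 𝒳.p := h𝒳.1.isStack.1
  have hfib𝒴 : FibCat.IsFibGrpd 𝒴.p := h𝒴.1.isStack.1
  obtain ⟨V₀, E, hE⟩ := h𝒱
  have hset : FibCat.IsFibSetoid 𝒱.p :=
    (IsEquivOver.isFibSetoid_iff E hE).1 (isFibSetoid_ofPsh _)
  have hff := Groth.Agent.Lib.Helper17.MonoFF.full_faithful_of_isMono hset.1 hfib𝒴 j
    (Groth.Agent.Lib.T2H6.IsoNatLib.isMono_of_isOpenImm j hj)
  have := hff.1
  have := hff.2
  have hI : FibCat.IsFibGrpd (FibCat.inertia (FibCat.toSelf 𝒴)).p := isFibGrpd_inertia hfib𝒴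
  have hfp : FibCat.IsFibGrpd
      (FibCat.fp (toInertia hfib𝒴 F α) (FibCat.inertiaNeutral (FibCat.toSelf 𝒴))).p :=
    isFibGrpd_fp _ _ hfib𝒳 hfib𝒴 hI
  have hιo : AlgSt.IsOpenImm
      (FibCat.fpFst (toInertia hfib𝒴 F α) (FibCat.inertiaNeutral (FibCat.toSelf 𝒴))) :=
    repByAlgSpWith_fpFst _ _ _ (isOpenImm_inertiaNeutral h𝒴)
  have hιc : AlgSt.IsClosedImm
      (FibCat.fpFst (toInertia hfib𝒴 F α) (FibCat.inertiaNeutral (FibCat.toSelf 𝒴))) :=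
    repByAlgSpWith_fpFst _ _ _ (isClosedImm_inertiaNeutral hΔ)
  have hcl := isClosed_range_of_isClosedImm hfib𝒳 hfp _ hιc
  have hsub : Set.range (AlgSt.Points.map i) ⊆ Set.range (AlgSt.Points.map
      (FibCat.fpFst (toInertia hfib𝒴 F α) (FibCat.inertiaNeutral (FibCat.toSelf 𝒴)))) := by
    rintro _ ⟨x, rfl⟩
    obtain ⟨p, rfl⟩ := AlgSt.Points.mk_surjective x
    have hα := app_eq_id_of_open hset j F i G e α p.obj
    refine ⟨AlgSt.Points.mk
      { K := p.K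
        str := p.str
        obj := locusObj hfib𝒴 F α (i.obj p.obj) hα
        lies := (i.w_obj p.obj).trans p.lies }, ?_⟩
    rfl
  have hsurj : Function.Surjective (AlgSt.Points.map
      (FibCat.fpFst (toInertia hfib𝒴 F α) (FibCat.inertiaNeutral (FibCat.toSelf 𝒴)))) := by
    intro x
    exact (hcl.closure_subset_iff.2 hsub) (hdense x)
  apply Groth.Agent.Lib.T2H6.LiftBC.based_ext
  intro ξ
  obtain ⟨w, ⟨k⟩⟩ := exists_preimage_of_isOpenImm_of_surjective hfib𝒳 hfp _ hιo hsurj ξ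
  exact app_eq_id_of_preimage hfib𝒴 F α w ξ k

end Main

end Groth.Agent.Lib.T2H6.EndTrans
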