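-- helper6 (team 2): atlases of 2-fibre products, independently of the topology; etale variant.
import Mathlib
import Groth.Agent.Lib.Helper15Atlas
import Groth.Agent.Lib.Helper15DiagOfComp
import Groth.Agent.S10544

set_option autoImplicit false
set_option backward.isDefEq.respectTransparency false
set_option backward.isDefEq.respectTransparency.types false
open CategoryTheory CategoryTheory.Functor CategoryTheory.Limits Opposite AlgebraicGeometry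

universe u

namespace Groth.Agent.Lib.T2H6.EtAtlas

open Groth.Agent.Lib.Helper17 Groth.Agent.Lib.Helper15PshFib Groth.Agent.Lib.Helper15RepComp
  Groth.Agent.Lib.Helper15RepPsh Groth.Agent.Lib.Helper15DiagBase Groth.Agent.Lib.Helper15DiagRepSp
  Groth.Agent.Lib.Helper15Descent Groth.Agent.Lib.Helper15DiagLft
  Groth.Agent.Lib.Helper15DiagDescent Groth.Agent.Lib.Helper15SpMapRep
  Groth.Agent.Lib.Helper15SrcCancel Groth.Agent.Lib.Helper15ChartSp Groth.Agent.Lib.Helper15Atlas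

variable {S : Scheme.{u}} {𝒜 ℬ 𝒲 𝒳 𝒴 𝒵 : AlgSt.Cat S}

theorem hasAtlas_of_isEquivOver (Q : MorphismProperty (AlgSp.Sp S)) (E : 𝒜 ⥤ᵇ ℬ)
    (hE : FibCat.IsEquivOver E) (h : AlgSt.HasAtlas Q 𝒜) : AlgSt.HasAtlas Q ℬ := by
  obtain ⟨U, x, hx₁, hx₂⟩ := h
  refine ⟨U, BasedFunctor.comp x E, ?_, ?_⟩
  · exact (repByAlgSpWith_of_square _ (BasedFunctor.comp x E) x (BasedFunctor.id _) E
      (isEquivOver_id _) hE (Iso.refl _)).2 hx₁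
  · exact (repByAlgSpWith_of_square _ (BasedFunctor.comp x E) x (BasedFunctor.id _) E
      (isEquivOver_id _) hE (Iso.refl _)).2 hx₂

theorem hasAtlas_of_isEquivOver' (Q : MorphismProperty (AlgSp.Sp S)) (E : 𝒜 ⥤ᵇ ℬ)
    (hE : FibCat.IsEquivOver E) (h : AlgSt.HasAtlas Q ℬ) : AlgSt.HasAtlas Q 𝒜 := by
  obtain ⟨I, hI, -, -⟩ := IsEquivOver.exists_inverse_isEquivOver' E hE
  exact hasAtlas_of_isEquivOver Q I hI h

theorem hasAtlas_of_cover' (Q : MorphismProperty (AlgSp.Sp S)) (hQ : CompCond Q)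
    (h𝒜 : FibCat.IsFibGrpd 𝒜.p)
    (a : 𝒜 ⥤ᵇ 𝒲) (ha₁ : AlgSt.RepByAlgSpWith Q a)
    (ha₂ : AlgSt.RepByAlgSpWith AlgSp.IsSurjectiveMor a)
    (hA : AlgSt.HasAtlas Q 𝒜) : AlgSt.HasAtlas Q 𝒲 := by
  obtain ⟨U, x, hx₁, hx₂⟩ := hA
  have hU : FibCat.IsFibGrpd (FibCat.overCat U).p := (isFibSet_overForget U).1
  exact ⟨U, BasedFunctor.comp x a,
    repByAlgSpWith_comp_of_compCond hU h𝒜 _ hQ x a hx₁ ha₁,
    repByAlgSpWith_comp_of_compCond hU h𝒜 _ compCond_isSurjectiveMor x a hx₂ ha₂⟩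

theorem hasAtlas_of_repByAlgSp1 (Q : MorphismProperty (AlgSp.Sp S)) (hQ : CompCond Q)
    (hQat : ∀ (X : AlgSp.Space S) (T : Over S) (s : X.obj ⟶ (AlgSp.yon S).obj T),
      AlgSp.RepWith @Etale s → AlgSp.RepWith @Surjective s → Q s)
    (h𝒳 : FibCat.IsFibGrpd 𝒳.p) (h𝒴 : FibCat.IsFibGrpd 𝒴.p) (hat : AlgSt.HasAtlas Q 𝒴)
    (j : 𝒳 ⥤ᵇ 𝒴) (hj : AlgSt.RepByAlgSp1 j) : AlgSt.HasAtlas Q 𝒳 := by
  obtain ⟨V, y, hy₁, hy₂⟩ := hat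
  have hV : FibCat.IsFibGrpd (FibCat.overCat V).p := (isFibSet_overForget V).1
  have hA : AlgSt.RepByAlgSp (FibCat.fp y j) := hj V y
  have hAt : AlgSt.HasAtlas Q (FibCat.fp y j) := hasAtlas_of_repByAlgSp Q hQat hA
  exact hasAtlas_of_cover' Q hQ (isFibGrpd_fp y j hV h𝒳 h𝒴) (FibCat.fpSnd y j)
    (repByAlgSpWith_fpSnd _ y j hy₁) (repByAlgSpWith_fpSnd _ y j hy₂) hAt

/-- Atlases of 2-fibre products. -/
theorem hasAtlas_fp (Q : MorphismProperty (AlgSp.Sp S)) (hQ : CompCond Q)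
    (hQat : ∀ (X : AlgSp.Space S) (T : Over S) (s : X.obj ⟶ (AlgSp.yon S).obj T),
      AlgSp.RepWith @Etale s → AlgSp.RepWith @Surjective s → Q s)
    (h𝒳 : FibCat.IsFibGrpd 𝒳.p) (h𝒴 : FibCat.IsFibGrpd 𝒴.p) (h𝒵 : FibCat.IsFibGrpd 𝒵.p)
    (hΔ : AlgSt.RepByAlgSp1 (FibCat.diag (FibCat.toSelf 𝒵)))
    (hatX : AlgSt.HasAtlas Q 𝒳) (hatY : AlgSt.HasAtlas Q 𝒴) (f : 𝒳 ⥤ᵇ 𝒵) (g : 𝒴 ⥤ᵇ 𝒵) :
    AlgSt.HasAtlas Q (FibCat.fp f g) := by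
  obtain ⟨U, x, hx₁, hx₂⟩ := hatX
  have hU : FibCat.IsFibGrpd (FibCat.overCat U).p := (isFibSet_overForget U).1
  let pr : FibCat.fp f g ⥤ᵇ 𝒳 := FibCat.fpFst f g
  have ha₁ := repByAlgSpWith_fpSnd Q x pr hx₁
  have ha₂ := repByAlgSpWith_fpSnd AlgSp.IsSurjectiveMor x pr hx₂
  have hxf : AlgSt.RepByAlgSp1 (BasedFunctor.comp x f) :=
    repByAlgSp1_of_repByAlgSp1_diag hΔ U (BasedFunctor.comp x f)
  have hsnd : AlgSt.RepByAlgSp1 (FibCat.fpSnd (BasedFunctor.comp x f) g) :=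
    Groth.Agent.Lib.Helper17.RepStack.repByAlgSp1_fpSnd (BasedFunctor.comp x f) g hxf
  have hB : AlgSt.HasAtlas Q (FibCat.fp (BasedFunctor.comp x f) g) :=
    hasAtlas_of_repByAlgSp1 Q hQ hQat (isFibGrpd_fp _ g hU h𝒴 h𝒵) h𝒴 hatY _ hsnd
  have hA : AlgSt.HasAtlas Q (FibCat.fp x pr) :=
    hasAtlas_of_isEquivOver' Q (pasteL g f x) (isEquivOver_pasteL g f x) hB
  exact hasAtlas_of_cover' Q hQ (isFibGrpd_fp x pr hU (isFibGrpd_fp f g h𝒳 h𝒴 h𝒵) h𝒳)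
    (FibCat.fpSnd x pr) ha₁ ha₂ hA

end Groth.Agent.Lib.T2H6.EtAtlas
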