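import Mathlib
import Groth.Agent.Lib.Helper20TraceEt
import Groth.Agent.Lib.Helper18Trace1

/-!
# Finite étale covers of curves, part A: algebra (T2H6)

* `free_localization`, `finite_localization`: a finite free algebra stays finite free after localizing.
* `repr_localization`: the element representing a linear form through the trace form localizes.
* `traceForm_bijective_of_etale`: the trace form of a finite free étale algebra is perfect.
* `bijective_of_basis_fin_one`: a ring map making the target free of rank one is bijective.
-/

set_option autoImplicit false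
set_option linter.style.haveILetI false
universe u

namespace Groth.Agent.Lib.T2H6.EtCov

section alg

variable {R R' S S' : Type u} [CommRing R] [CommRing R'] [CommRing S] [CommRing S']
  (φ : R →+* S) (φ' : R' →+* S') (ρ : R →+* R') (σ : S →+* S')

theorem free_localization (hcomm : σ.comp φ = φ'.comp ρ) (r : R)
    (h1 : letI := ρ.toAlgebra; IsLocalization.Away r R')
    (h2 : letI := σ.toAlgebra; IsLocalization.Away (φ r) S')
    (hfree : letI := φ.toAlgebra; Module.Free R S) :
    letI := φ'.toAlgebra; Module.Free R' S' := by
  letI i1 : Algebra R S := φ.toAlgebra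
  letI i2 : Algebra R' S' := φ'.toAlgebra
  letI i3 : Algebra R R' := ρ.toAlgebra
  letI i4 : Algebra S S' := σ.toAlgebra
  letI i5 : Algebra R S' := (σ.comp φ).toAlgebra
  haveI : IsScalarTower R R' S' := IsScalarTower.of_algebraMap_eq (fun x => by
    change σ (φ x) = φ' (ρ x)
    exact congr($hcomm x))
  haveI : IsScalarTower R S S' := IsScalarTower.of_algebraMap_eq (fun x => rfl)
  haveI : IsLocalization (Submonoid.powers r) R' := h1
  haveI : IsLocalization (Algebra.algebraMapSubmonoid S (Submonoid.powers r)) S' := by
    have : Algebra.algebraMapSubmonoid S (Submonoid.powers r) = Submonoid.powers (φ r) :=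
      Submonoid.map_powers _ _
    rw [this]
    exact h2
  haveI := hfree
  exact Module.Free.of_basis
    ((Module.Free.chooseBasis R S).localizationLocalization R' (Submonoid.powers r) S')

theorem finite_localization (hcomm : σ.comp φ = φ'.comp ρ) (r : R)
    (h1 : letI := ρ.toAlgebra; IsLocalization.Away r R')
    (h2 : letI := σ.toAlgebra; IsLocalization.Away (φ r) S')
    (hfin : letI := φ.toAlgebra; Module.Finite R S) :
    letI := φ'.toAlgebra; Module.Finite R' S' := by
  letI i1 : Algebra R S := φ.toAlgebra
  letI i2 : Algebra R' S' := φ'.toAlgebra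
  letI i3 : Algebra R R' := ρ.toAlgebra
  letI i4 : Algebra S S' := σ.toAlgebra
  letI i5 : Algebra R S' := (σ.comp φ).toAlgebra
  haveI : IsScalarTower R R' S' := IsScalarTower.of_algebraMap_eq (fun x => by
    change σ (φ x) = φ' (ρ x)
    exact congr($hcomm x))
  haveI : IsScalarTower R S S' := IsScalarTower.of_algebraMap_eq (fun x => rfl)
  haveI : IsLocalization (Submonoid.powers r) R' := h1
  haveI : IsLocalization (Algebra.algebraMapSubmonoid S (Submonoid.powers r)) S' := by
    have : Algebra.algebraMapSubmonoid S (Submonoid.powers r) = Submonoid.powers (φ r) :=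
      Submonoid.map_powers _ _
    rw [this]
    exact h2
  haveI := hfin
  exact Module.Finite.of_isLocalization R S (Submonoid.powers r)

/-- the element representing a linear form through the trace form localizes. -/
theorem repr_localization (hcomm : σ.comp φ = φ'.comp ρ) (r : R)
    (h1 : letI := ρ.toAlgebra; IsLocalization.Away r R')
    (h2 : letI := σ.toAlgebra; IsLocalization.Away (φ r) S')
    (hfree : letI := φ.toAlgebra; Module.Free R S) (hfin : letI := φ.toAlgebra; Module.Finite R S)
    (ψ : S →+ R) (ψ' : S' →+ R')
    (hψ' : ∀ (c : R') (b : S'), ψ' (φ' c * b) = c * ψ' b)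
    (hres : ∀ a, ψ' (σ a) = ρ (ψ a))
    (s : S) (hs : letI := φ.toAlgebra; ∀ a, ψ a = Algebra.trace R S (s * a)) (b : S') :
    letI := φ'.toAlgebra; ψ' b = Algebra.trace R' S' (σ s * b) := by
  letI i1 : Algebra R S := φ.toAlgebra
  letI i2 : Algebra R' S' := φ'.toAlgebra
  letI i3 : Algebra R R' := ρ.toAlgebra
  letI i4 : Algebra S S' := σ.toAlgebra
  have htr : ∀ a : S, Algebra.trace R' S' (σ a) = ρ (Algebra.trace R S a) :=
    fun a => Groth.Agent.Helper18Trace.trace_localization' φ φ' ρ σ hcomm r h1 h2 hfree hfin a
  haveI : IsLocalization.Away (φ r) S' := h2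
  haveI : IsLocalization.Away r R' := h1
  obtain ⟨⟨a, ⟨_, m, rfl⟩⟩, ha⟩ := IsLocalization.surj (Submonoid.powers (φ r)) b
  change b * σ ((φ r) ^ m) = σ a at ha
  have hu : IsUnit (ρ r) := IsLocalization.Away.algebraMap_isUnit (S := R') r
  have hc : σ ((φ r) ^ m) = φ' ((ρ r) ^ m) := by
    rw [← map_pow φ r m, map_pow ρ r m |>.symm]
    exact congr($hcomm (r ^ m))
  have e1 : (ρ r) ^ m * ψ' b = (ρ r) ^ m * Algebra.trace R' S' (σ s * b) := by
    rw [← hψ', ← hc, mul_comm, ha, hres, hs, ← htr, map_mul, ← ha, hc]
    rw [show σ s * (b * φ' (ρ r ^ m)) = (ρ r ^ m) • (σ s * b) by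
      rw [Algebra.smul_def]; change _ = φ' _ * _; ring]
    rw [map_smul, smul_eq_mul]
  exact (hu.pow m).mul_left_cancel e1

end alg

section etale

variable {A B : Type u} [CommRing A] [CommRing B] [Algebra A B]

/-- the trace form of a finite free étale algebra is perfect. -/
theorem traceForm_bijective_of_etale [Module.Free A B] [Module.Finite A B] [Algebra.Etale A B] :
    Function.Bijective (Algebra.traceForm A B) := by
  classical
  let b := Module.Free.chooseBasis A B
  exact (Groth.Agent.Lib.Helper20.TraceEt.traceForm_bijective_iff_isUnit_discr b).2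
    ((Groth.Agent.Lib.Helper20.TraceEt.etale_iff_isUnit_discr b).1 inferInstance)

/-- unique representation of a linear form through the trace form. -/
theorem existsUnique_trace_repr [Module.Free A B] [Module.Finite A B] [Algebra.Etale A B]
    (ψ : B →+ A) (hψ : ∀ (c : A) (b : B), ψ (algebraMap A B c * b) = c * ψ b) :
    ∃! s : B, ∀ a, ψ a = Algebra.trace A B (s * a) := by
  have hb := traceForm_bijective_of_etale (A := A) (B := B)
  let ψl : B →ₗ[A] A :=
    { toFun := ψ
      map_add' := ψ.map_add
      map_smul' := fun c b => by
        rw [Algebra.smul_def]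
        exact hψ c b }
  obtain ⟨s, hs⟩ := hb.2 ψl
  refine ⟨s, fun a => ?_, fun t ht => ?_⟩
  · have := congrArg (fun l : B →ₗ[A] A => l a) hs
    exact this.symm
  · apply hb.1
    rw [hs]
    apply LinearMap.ext
    intro a
    exact (ht a).symm

/-- a ring map making the target free of rank one is bijective. -/
theorem bijective_of_basis_fin_one (b : Module.Basis (Fin 1) A B) :
    Function.Bijective (algebraMap A B) :=
  bijective_algebraMap_of_linearEquiv
    ((b.repr.trans (Finsupp.uniqueLinearEquiv A A (0 : Fin 1))).symm)

end etale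

end Groth.Agent.Lib.T2H6.EtCov
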