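import Mathlib
import Groth.Agent.Lib.T2H6EtCovA
import Groth.Agent.Lib.Helper18Trace3

/-!
# Finite étale covers, part B: linear forms on a finite étale algebra are traces (T2H6)

For a quasi-coherent algebra `A` on `Y`, finite locally free as a module and étale over every affine
open, every `O_Y`-linear form `φ : A ⟶ O_Y` is `a ↦ Tr(s a)` for a global section `s` of `A`.
-/

set_option autoImplicit false
set_option linter.style.haveILetI false
set_option linter.unusedSectionVars false
set_option linter.unusedVariables false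
universe u
open CategoryTheory CategoryTheory.Limits AlgebraicGeometry TopologicalSpace Opposite

namespace Groth.Agent.Lib.T2H6.EtCov

open Groth.Agent.Helper18Trace

variable {Y : Scheme.{u}} (A : RelSpec.QCAlg Y)

/-- `A` is étale over every affine open. -/
def IsEtaleAlg : Prop :=
  ∀ W : Y.Opens, IsAffineOpen W →
    letI := alg A W
    Algebra.Etale Γ(Y, W) (A.presheaf.obj (op W))

theorem isGood_basicOpen {W : Y.Opens} (hW : IsGood A W) (r : Γ(Y, W)) :
    IsGood A (Y.basicOpen r) :=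
  ⟨hW.1.basicOpen r,
    free_localization (A.str.app (op W)).hom (A.str.app (op (Y.basicOpen r))).hom
      (Y.presheaf.map (homOfLE (Y.basicOpen_le r)).op).hom
      (A.presheaf.map (homOfLE (Y.basicOpen_le r)).op).hom (str_res A _) r
      (hW.1.isLocalization_basicOpen r) (A.isQC W hW.1 r) hW.2.1,
    finite_localization (A.str.app (op W)).hom (A.str.app (op (Y.basicOpen r))).hom
      (Y.presheaf.map (homOfLE (Y.basicOpen_le r)).op).hom
      (A.presheaf.map (homOfLE (Y.basicOpen_le r)).op).hom (str_res A _) r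
      (hW.1.isLocalization_basicOpen r) (A.isQC W hW.1 r) hW.2.2⟩

/-- the sheaf of rings underlying `A`. -/
noncomputable def shf : TopCat.Sheaf CommRingCat.{u} Y.carrier := ⟨A.presheaf, A.isSheaf⟩

/-- sections of `A` agreeing on all small good opens agree. -/
theorem eq_of_good' (hA : FlatMod.IsFinLocFree A.toModule) {U : Y.Opens}
    (s t : A.presheaf.obj (op U))
    (h : ∀ (W : Y.Opens) (_ : IsGood A W) (hWU : W ≤ U),
      (A.presheaf.map (homOfLE hWU).op).hom s = (A.presheaf.map (homOfLE hWU).op).hom t) :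
    s = t := by
  have hb : ∀ {U : Opens ↥Y} {x : ↥Y}, x ∈ U → ∃ U' ∈ Set.range (goodB A), x ∈ U' ∧ U' ≤ U :=
    Opens.isBasis_iff_nbhd.1 (isBasis_good A hA)
  have key : ∀ x : U, ∃ (W : Y.Opens) (_ : IsGood A W) (_ : W ≤ U), x.1 ∈ W := by
    intro x
    obtain ⟨W, ⟨W', rfl⟩, hxW, hWU⟩ := hb x.2
    exact ⟨W'.1, W'.2, hWU, hxW⟩
  choose W hW hWU hxW using key
  refine TopCat.Sheaf.eq_of_locally_eq' (shf A) W U (fun x => homOfLE (hWU x)) ?_ _ _
    (fun x => h _ (hW x) (hWU x))
  intro x hx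
  exact Opens.mem_iSup.2 ⟨⟨x, hx⟩, hxW _⟩

theorem res_res {U V W : Y.Opens} (h1 : V ≤ U) (h2 : W ≤ V) (a : A.presheaf.obj (op U)) :
    (A.presheaf.map (homOfLE h2).op).hom ((A.presheaf.map (homOfLE h1).op).hom a) =
      (A.presheaf.map (homOfLE (h2.trans h1)).op).hom a := by
  rw [← CommRingCat.comp_apply, ← Functor.map_comp]
  rfl

section form

variable (φ : A.toModule ⟶ Coh.structureModule Y)

/-- the component of a linear form, as an additive map on the ring of sections. -/
noncomputable def phiHom (W : Y.Opens) : A.presheaf.obj (op W) →+ Γ(Y, W) :=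
  AddMonoidHom.mk' (fun a => (φ.val.app (op W)).hom a) (fun a b => map_add _ a b)

theorem phiHom_apply (W : Y.Opens) (a : A.presheaf.obj (op W)) :
    phiHom A φ W a = (φ.val.app (op W)).hom a := rfl

theorem phiHom_smul (W : Y.Opens) (r : Γ(Y, W)) (a : A.presheaf.obj (op W)) :
    phiHom A φ W ((A.str.app (op W)).hom r * a) = r * phiHom A φ W a :=
  (φ.val.app (op W)).hom.map_smul r a

theorem phiHom_res {U V : Y.Opens} (h : V ≤ U) (a : A.presheaf.obj (op U)) :
    (Y.presheaf.map (homOfLE h).op).hom (phiHom A φ U a) =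
      phiHom A φ V ((A.presheaf.map (homOfLE h).op).hom a) :=
  hom_res A φ h a

/-- `s` represents `φ` over `W` through the trace form. -/
def IsRepr (W : Y.Opens) (s : A.presheaf.obj (op W)) : Prop :=
  ∀ a : A.presheaf.obj (op W), phiHom A φ W a = traceHom A W (s * a)

theorem existsUnique_isRepr (hEt : IsEtaleAlg A) {W : Y.Opens} (hW : IsGood A W) :
    ∃! s : A.presheaf.obj (op W), IsRepr A φ W s := by
  letI := alg A W
  haveI := hW.2.1
  haveI := hW.2.2
  haveI := hEt W hW.1
  exact existsUnique_trace_repr (phiHom A φ W) (fun c b => phiHom_smul A φ W c b)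

theorem isRepr_basicOpen {W : Y.Opens} (hW : IsGood A W) (r : Γ(Y, W))
    {s : A.presheaf.obj (op W)} (hs : IsRepr A φ W s) :
    IsRepr A φ (Y.basicOpen r) ((A.presheaf.map (homOfLE (Y.basicOpen_le r)).op).hom s) := by
  intro b
  exact repr_localization (A.str.app (op W)).hom (A.str.app (op (Y.basicOpen r))).hom
    (Y.presheaf.map (homOfLE (Y.basicOpen_le r)).op).hom
    (A.presheaf.map (homOfLE (Y.basicOpen_le r)).op).hom (str_res A _) r
    (hW.1.isLocalization_basicOpen r) (A.isQC W hW.1 r) hW.2.1 hW.2.2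
    (phiHom A φ W) (phiHom A φ (Y.basicOpen r)) (fun c b => phiHom_smul A φ _ c b)
    (fun a => (phiHom_res A φ _ a).symm) s hs b

theorem isRepr_basicOpen' {W : Y.Opens} (hW : IsGood A W) (r : Γ(Y, W)) (V : Y.Opens)
    (hV : V = Y.basicOpen r) (hVW : V ≤ W)
    {s : A.presheaf.obj (op W)} (hs : IsRepr A φ W s) :
    IsRepr A φ V ((A.presheaf.map (homOfLE hVW).op).hom s) := by
  subst hV
  exact isRepr_basicOpen A φ hW r hs

theorem isRepr_res_eq (hEt : IsEtaleAlg A) {W W' : Y.Opens} (hW : IsGood A W)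
    (hW' : IsGood A W') (h : W' ≤ W) {s : A.presheaf.obj (op W)} {s' : A.presheaf.obj (op W')}
    (hs : IsRepr A φ W s) (hs' : IsRepr A φ W' s') :
    (A.presheaf.map (homOfLE h).op).hom s = s' := by
  have key : ∀ x : W', ∃ (V : Y.Opens) (hVW' : V ≤ W'), x.1 ∈ V ∧
      (A.presheaf.map (homOfLE hVW').op).hom ((A.presheaf.map (homOfLE h).op).hom s) =
        (A.presheaf.map (homOfLE hVW').op).hom s' := by
    intro x
    obtain ⟨r, hrW', hxr⟩ := hW.1.exists_basicOpen_le (V := W') x (h x.2)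
    have hV' : Y.basicOpen r = Y.basicOpen ((Y.presheaf.map (homOfLE h).op).hom r) := by
      rw [Scheme.basicOpen_res]
      exact (inf_eq_right.2 hrW').symm
    refine ⟨Y.basicOpen r, hrW', hxr, ?_⟩
    have e1 := isRepr_basicOpen' A φ hW' _ (Y.basicOpen r) hV' hrW' hs'
    have e2 := isRepr_basicOpen' A φ hW r (Y.basicOpen r) rfl (hrW'.trans h) hs
    rw [res_res]
    exact (existsUnique_isRepr A φ hEt (isGood_basicOpen A hW r)).unique e2 e1
  choose V hVW' hxV hV using key
  refine TopCat.Sheaf.eq_of_locally_eq' (shf A) V W' (fun x => homOfLE (hVW' x)) ?_ _ _ hV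
  intro x hx
  exact Opens.mem_iSup.2 ⟨⟨x, hx⟩, hxV _⟩

/-- **every linear form on a finite étale algebra is represented by a global section through the
trace form.** -/
theorem exists_global_repr (hA : FlatMod.IsFinLocFree A.toModule) (hEt : IsEtaleAlg A) :
    ∃ s : A.presheaf.obj (op ⊤), ∀ (W : Y.Opens) (_ : IsGood A W),
      IsRepr A φ W ((A.presheaf.map (homOfLE (le_top : W ≤ ⊤)).op).hom s) := by
  have hex : ∀ W : Good A, ∃ s : A.presheaf.obj (op W.1), IsRepr A φ W.1 s :=
    fun W => (existsUnique_isRepr A φ hEt W.2).exists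
  choose sf hsf using hex
  have hcompat : TopCat.Presheaf.IsCompatible (shf A).1 (goodB A) sf := by
    intro W W'
    apply eq_of_good' A hA
    intro V hV hVU
    have h1 : V ≤ W.1 := hVU.trans inf_le_left
    have h2 : V ≤ W'.1 := hVU.trans inf_le_right
    have e1 := isRepr_res_eq A φ hEt W.2 hV h1 (hsf W) (hsf ⟨V, hV⟩)
    have e2 := isRepr_res_eq A φ hEt W'.2 hV h2 (hsf W') (hsf ⟨V, hV⟩)
    have e3 := res_res A (inf_le_left : W.1 ⊓ W'.1 ≤ W.1) hVU (sf W)
    have e4 := res_res A (inf_le_right : W.1 ⊓ W'.1 ≤ W'.1) hVU (sf W')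
    exact e3.trans (e1.trans (e4.trans e2).symm)
  have hcover : (⊤ : Y.Opens) ≤ iSup (goodB A) := by
    intro x _
    obtain ⟨W, ⟨W', rfl⟩, hxW, -⟩ :=
      Opens.isBasis_iff_nbhd.1 (isBasis_good A hA) (Opens.mem_top x)
    exact Opens.mem_iSup.2 ⟨W', hxW⟩
  obtain ⟨s, hs, -⟩ := TopCat.Sheaf.existsUnique_gluing' (shf A) (goodB A) ⊤
    (fun W => homOfLE le_top) hcover sf hcompat
  refine ⟨s, fun W hW => ?_⟩
  have := hs ⟨W, hW⟩
  have h2 : (A.presheaf.map (homOfLE (le_top : W ≤ ⊤)).op).hom s = sf ⟨W, hW⟩ := this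
  rw [h2]
  exact hsf ⟨W, hW⟩

/-- if the representing section is a function `t` on `Y`, then `φ = t • τ`. -/
theorem eq_smul_trace (hA : FlatMod.IsFinLocFree A.toModule)
    {τ : A.toModule ⟶ Coh.structureModule Y} (hτ : FinCov.IsTrace A τ)
    (t : Γ(Y, ⊤))
    (hrepr : ∀ (W : Y.Opens) (_ : IsGood A W),
      IsRepr A φ W ((A.presheaf.map (homOfLE (le_top : W ≤ ⊤)).op).hom
        ((A.str.app (op ⊤)).hom t)))
    (U : Y.Opens) (a : A.presheaf.obj (op U)) :
    phiHom A φ U a = (Y.presheaf.map (homOfLE (le_top : U ≤ ⊤)).op).hom t * phiHom A τ U a := by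
  apply eq_of_good A hA
  intro W hW hWU
  rw [map_mul, phiHom_res, phiHom_res, hrepr W hW, str_res_apply, traceHom_smul,
    phiHom_apply A τ, isTrace_good A hτ hW]
  congr 1
  rw [← CommRingCat.comp_apply, ← Functor.map_comp]
  rfl

end form

end Groth.Agent.Lib.T2H6.EtCov
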