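import Mathlib
import Groth.Agent.Lib.T2H6EtCovB
import Groth.Agent.Lib.T2H9CurvH0
import Groth.Agent.Lib.Helper18FinFlat1
import Groth.Agent.Lib.Helper26ModLocFree

/-!
# Finite étale covers, part C: `Hom(f_* O_X, O_Y)` is at most one-dimensional (T2H6)

For `f : X ⟶ Y` finite étale over a field `k` with `h⁰(X, O_X) = 1`, every `O_Y`-linear form on
`f_* O_X` is a constant multiple of the trace.
-/

set_option autoImplicit false
set_option linter.style.haveILetI false
set_option linter.unusedSectionVars false
set_option linter.unusedVariables false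
universe u
open CategoryTheory CategoryTheory.Limits AlgebraicGeometry TopologicalSpace Opposite

namespace Groth.Agent.Lib.T2H6.EtCov

open Groth.Agent.Helper18Trace

variable {X Y : Scheme.{u}} (f : X ⟶ Y) [IsFinite f]

/-- the comparison map between the two spellings of `f_* O_X`. -/
noncomputable def toPush :
    (RelSpec.QCAlg.directImage f).toModule ⟶
      (Scheme.Modules.pushforward f).obj (Coh.structureModule X) :=
  ⟨PresheafOfModules.homMk
    { app := fun U => AddCommGrpCat.ofHom (AddMonoidHom.id _)
      naturality := fun U V i => rfl }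
    (fun U r m => rfl)⟩

/-- the comparison map between the two spellings of `f_* O_X`, backwards. -/
noncomputable def ofPush :
    (Scheme.Modules.pushforward f).obj (Coh.structureModule X) ⟶
      (RelSpec.QCAlg.directImage f).toModule :=
  ⟨PresheafOfModules.homMk
    { app := fun U => AddCommGrpCat.ofHom (AddMonoidHom.id _)
      naturality := fun U V i => rfl }
    (fun U r m => rfl)⟩

/-- the two spellings of `f_* O_X` are isomorphic. -/
noncomputable def pushIso :
    (RelSpec.QCAlg.directImage f).toModule ≅
      (Scheme.Modules.pushforward f).obj (Coh.structureModule X) where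
  hom := toPush f
  inv := ofPush f
  hom_inv_id := rfl
  inv_hom_id := rfl

theorem isEtaleAlg_directImage [Etale f] : IsEtaleAlg (RelSpec.QCAlg.directImage f) := by
  intro W hW
  have h := f.etale_appLE hW (hW.preimage f) le_rfl
  rw [← Scheme.Hom.app_eq_appLE] at h
  exact h

theorem isFinLocFree_directImage [Etale f] :
    FlatMod.IsFinLocFree (RelSpec.QCAlg.directImage f).toModule :=
  Groth.Agent.Lib.Helper26.ModLocFree.isFinLocFree_of_iso (pushIso f).symm
    (Groth.Agent.Helper18FinFlat.pushforward_isFinLocFree f
      ⟨inferInstance, inferInstance, inferInstance⟩)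

section field

variable (k : Type u) [Field k] [X.Over (Spec (CommRingCat.of k))]
  [Y.Over (Spec (CommRingCat.of k))]

/-- **linear forms on `f_* O_X` are constant multiples of the trace.** -/
theorem finrank_hom_directImage_le_one [Etale f]
    (hf : f ≫ (Y ↘ Spec (CommRingCat.of k)) = X ↘ Spec (CommRingCat.of k))
    (h0X : Module.finrank k (Coh.HH X (Coh.structureModule X) 0) = 1) :
    Module.finrank k ((RelSpec.QCAlg.directImage f).toModule ⟶ Coh.structureModule Y) ≤ 1 := by
  have hA := isFinLocFree_directImage f
  have hEt := isEtaleAlg_directImage f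
  obtain ⟨τ, hτ, -⟩ := main_S19694 (RelSpec.QCAlg.directImage f) hA
  refine finrank_le_one τ (fun φ => ?_)
  obtain ⟨s, hs⟩ := exists_global_repr (RelSpec.QCAlg.directImage f) φ hA hEt
  obtain ⟨c, hc⟩ := (Groth.Agent.Lib.T2H9.CurvH0.toGlobal_surjective_of_finrank_eq_one k X h0X).2 s
  refine ⟨c, ?_⟩
  have hst : s = ((RelSpec.QCAlg.directImage f).str.app (op ⊤)).hom
      (Coh.toGlobal (Y ↘ Spec (CommRingCat.of k)) c) := by
    rw [← hc, ← hf]
    rfl
  refine Scheme.Modules.hom_ext _ _ fun U => ?_
  ext a
  rw [KLin.smul_app_apply]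
  exact (eq_smul_trace (RelSpec.QCAlg.directImage f) φ hA hτ
    (Coh.toGlobal (Y ↘ Spec (CommRingCat.of k)) c) (fun W hW => hst ▸ hs W hW) U a).symm

theorem finrank_hom_pushforward_le_one [Etale f]
    (hf : f ≫ (Y ↘ Spec (CommRingCat.of k)) = X ↘ Spec (CommRingCat.of k))
    (h0X : Module.finrank k (Coh.HH X (Coh.structureModule X) 0) = 1) :
    Module.finrank k ((Scheme.Modules.pushforward f).obj (Coh.structureModule X) ⟶
      Coh.structureModule Y) ≤ 1 := by
  have e : ((Scheme.Modules.pushforward f).obj (Coh.structureModule X) ⟶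
      Coh.structureModule Y) ≃ₗ[k]
      ((RelSpec.QCAlg.directImage f).toModule ⟶ Coh.structureModule Y) :=
    Linear.homCongr k (pushIso f).symm (Iso.refl _)
  rw [e.finrank_eq]
  exact finrank_hom_directImage_le_one f k hf h0X

end field

end Groth.Agent.Lib.T2H6.EtCov
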