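import Mathlib
import Groth.Agent.Lib.T2H6EtCovC
import Groth.Agent.Lib.T2H9CurveOmega
import Groth.Agent.Lib.T2H6TensorDegGen
import Groth.Agent.Lib.T2H6CurveVB
import Groth.Agent.Lib.T2H6CurveVanish
import Groth.Agent.Lib.T2H6EulerField
import Groth.Agent.Lib.Helper18Norm2
import Groth.Agent.Lib.Helper23TensorUnit
import Groth.Agent.Lib.Helper23QAffSec

/-!
# Finite étale covers, part D: a genus zero curve is simply connected (T2H6)

`isIso_of_finite_etale`: a finite étale `k`-morphism `f : X ⟶ Y` onto a regular integral proper curve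
`Y` with `h⁰(O_Y) = 1`, `h¹(O_Y) = 0`, from a `k`-scheme `X` with `h⁰(O_X) = 1`, is an isomorphism.
-/

set_option autoImplicit false
set_option linter.style.haveILetI false
set_option linter.unusedSectionVars false
set_option linter.unusedVariables false
universe u
open CategoryTheory CategoryTheory.Limits AlgebraicGeometry TopologicalSpace Opposite

namespace Groth.Agent.Lib.T2H6.EtCov

open Groth.Agent.Helper18Trace

section iso

variable {X Y : Scheme.{u}} (f : X ⟶ Y)

/-- an affine morphism inducing bijections on functions over an affine open cover is an iso. -/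
theorem isIso_of_cover_bijective [IsAffineHom f] {ι : Type*} (W : ι → Y.Opens)
    (hW : ∀ i, IsAffineOpen (W i)) (hcov : iSup W = ⊤)
    (h : ∀ i, Function.Bijective (f.app (W i)).hom) : IsIso f := by
  rw [← MorphismProperty.isomorphisms.iff,
    HasAffineProperty.iff_of_iSup_eq_top (P := MorphismProperty.isomorphisms Scheme)
      (fun i : ι => (⟨W i, hW i⟩ : Y.affineOpens)) hcov]
  intro i
  refine ⟨((hW i).preimage f : IsAffineOpen (f ⁻¹ᵁ (W i))), ?_⟩
  rw [morphismRestrict_appTop]
  have hiso : IsIso (f.app ((W i).ι ''ᵁ ⊤)) :=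
    (ConcreteCategory.isIso_iff_bijective (f.app ((W i).ι ''ᵁ ⊤))).2
      (by rw [Scheme.Opens.ι_image_top]; exact h i)
  refine @IsIso.comp_isIso _ _ _ _ _ _ _ hiso ?_
  apply (config := { allowSynthFailures := true }) Functor.map_isIso

end iso

section numerics

variable (k : Type u) [Field k] {Y : Scheme.{u}} [Y.Over (Spec (CommRingCat.of k))]
  [IsProper (Y ↘ Spec (CommRingCat.of k))] [IsIntegral Y]

open Groth.Agent.Lib.T2H5.Twist Groth.Agent.Lib.T2H9.CurveOmega Groth.Agent.Lib.T2H6.CurveSS2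

/-- on a genus zero curve a bundle `E` of rank `n` with `h⁰(E) ≤ 1` and `dim Hom(E, O) ≤ 1` has
`n ≤ 1`. -/
theorem rank_le_one (hdim : topologicalKrullDim Y = 1)
    (hreg : ∀ y : Y, IsRegularLocalRing (Y.presheaf.stalk y))
    (h0 : Module.finrank k (Coh.HH Y (Coh.structureModule Y) 0) = 1)
    (hg : Curv2.genus k Y = 0)
    (E : Y.Modules) (n : ℕ) (hE : FlatMod.IsFinLocFreeOfRank n E)
    (hh0 : Module.finrank k (Coh.HH Y E 0) ≤ 1)
    (hhom : Module.finrank k (E ⟶ Coh.structureModule Y) ≤ 1) : n ≤ 1 := by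
  haveI : IsNoetherian Y := Groth.Agent.Lib.T2H6.CurveSatur.isNoetherian_of_proper k
  obtain ⟨ω, tr', hd, hωc, hinv, hdω, -, -⟩ := exists_omega k hdim hreg h0 (X := Y)
  rw [hg] at hdω
  have hEc : Coh.IsCoh E := Groth.Agent.Lib.T2H6.RankAdd.isCoh_of_isFinLocFreeOfRank E n hE
  have hω1 : FlatMod.IsFinLocFreeOfRank 1 ω :=
    Groth.Agent.Lib.Helper23.SecTw.isFinLocFreeOfRank_one_of_isInvertible _ hinv
  have hT := Groth.Agent.Lib.T2H6.TensorDeg.tensor_euler k hdim ω 1 hω1 E hEc
  rw [grank_of_isFinLocFreeOfRank E n hE, hdω] at hT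
  have hTc : Coh.IsCoh (CohB1.tensorMod E ω) :=
    Groth.Agent.Lib.T2H6.TensorDeg.isCoh_tensor E ω hEc hωc
  haveI := hEc.1
  haveI := hTc.1
  have e1 := Groth.Agent.Lib.T2H6.EulerField.euler_eq_sum k Y E 1
    (fun i hi => Groth.Agent.Lib.T2H6.CurveVanish.subsingleton_HH_of_two_le k hdim _ i (by omega))
  have e2 := Groth.Agent.Lib.T2H6.EulerField.euler_eq_sum k Y (CohB1.tensorMod E ω) 1
    (fun i hi => Groth.Agent.Lib.T2H6.CurveVanish.subsingleton_HH_of_two_le k hdim _ i (by omega))
  rw [e1, e2] at hT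
  have h1 : Module.finrank k (Coh.HH Y (CohB1.tensorMod E ω) 1) ≤ 1 := by
    rw [← finrank_hom_omega hd _ hTc]
    have h2 : Module.finrank k (CohB1.tensorMod E ω ⟶ ω) =
        Module.finrank k ((tr ω).obj E ⟶ (tr ω).obj (Coh.structureModule Y)) :=
      finrank_hom_congr k (Iso.refl _)
        (Groth.Agent.Lib.Helper23.TensorUnit.unitTensorIso ω).symm
    rw [h2, finrank_hom_tr k ω hinv]
    exact hhom
  simp only [Finset.sum_range_succ, Finset.sum_range_zero] at hT
  norm_num at hT
  omega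

end numerics

section main

variable (k : Type u) [Field k] {X Y : Scheme.{u}} [X.Over (Spec (CommRingCat.of k))]
  [Y.Over (Spec (CommRingCat.of k))]
  [IsProper (Y ↘ Spec (CommRingCat.of k))] [IsIntegral Y]

/-- **A regular proper curve of genus zero has no nontrivial connected finite étale covers.** -/
theorem isIso_of_finite_etale (hdim : topologicalKrullDim Y = 1)
    (hreg : ∀ y : Y, IsRegularLocalRing (Y.presheaf.stalk y))
    (h0 : Module.finrank k (Coh.HH Y (Coh.structureModule Y) 0) = 1)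
    (hg : Curv2.genus k Y = 0)
    (f : X ⟶ Y) [IsFinite f] [Etale f]
    (hf : f ≫ (Y ↘ Spec (CommRingCat.of k)) = X ↘ Spec (CommRingCat.of k))
    (h0X : Module.finrank k (Coh.HH X (Coh.structureModule X) 0) = 1) : IsIso f := by
  haveI : (Coh.structureModule X).IsQuasicoherent :=
    (Groth.Agent.Lib.T2H5.GenIsoF.isCoh_structureModule (Z := X)).1
  haveI : ((Scheme.Modules.pushforward f).obj (Coh.structureModule X)).IsQuasicoherent :=
    Groth.Agent.Lib.Helper23.QCohLocal.isQuasicoherent_pushforward f _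
  have hE0 : FlatMod.IsFinLocFree ((Scheme.Modules.pushforward f).obj (Coh.structureModule X)) :=
    Groth.Agent.Helper18FinFlat.pushforward_isFinLocFree f
      ⟨inferInstance, inferInstance, inferInstance⟩
  obtain ⟨n, hEn⟩ : ∃ n : ℕ, FlatMod.IsFinLocFreeOfRank n
      ((Scheme.Modules.pushforward f).obj (Coh.structureModule X)) :=
    ⟨_, Groth.Agent.Lib.T2H6.CurveVB.exists_rank _ hE0⟩
  have hh0 : Module.finrank k
      (Coh.HH Y ((Scheme.Modules.pushforward f).obj (Coh.structureModule X)) 0) ≤ 1 := by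
    rw [Groth.Agent.Lib.T2H6.TensorDegGen.finrank_HH_pushforward f k hf _ 0, h0X]
  have hn1 : n ≤ 1 := rank_le_one k hdim hreg h0 hg _ n hEn hh0
    (finrank_hom_pushforward_le_one f k hf h0X)
  -- the rank is not zero
  obtain ⟨hnt, -⟩ := Groth.Agent.Lib.T2H9.CurvH0.toGlobal_surjective_of_finrank_eq_one k X h0X
  haveI : Nonempty X := by
    by_contra hne
    rw [not_nonempty_iff] at hne
    have : (⊤ : X.Opens) = ⊥ := by
      ext x
      exact (hne.false x).elim
    haveI : Subsingleton Γ(X, ⊤) := by rw [this]; infer_instance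
    exact not_subsingleton (Coh.Γtop X) (inferInstanceAs (Subsingleton Γ(X, ⊤)))
  have hn0 : n ≠ 0 := by
    intro hn0
    obtain ⟨x⟩ := ‹Nonempty X›
    obtain ⟨W, hW, hyW, -, ⟨b⟩⟩ :=
      Groth.Agent.Helper18Norm.exists_good_directImage f n hEn (f x) ⊤ trivial
    letI := alg (RelSpec.QCAlg.directImage f) W
    haveI : Nonempty ↥(f ⁻¹ᵁ W) := ⟨⟨x, hyW⟩⟩
    haveI : Nontrivial Γ(X, f ⁻¹ᵁ W) := inferInstance
    rw [hn0] at b
    haveI : Subsingleton ((RelSpec.QCAlg.directImage f).presheaf.obj (op W)) :=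
      b.repr.toEquiv.subsingleton
    exact not_subsingleton Γ(X, f ⁻¹ᵁ W)
      (inferInstanceAs (Subsingleton ((RelSpec.QCAlg.directImage f).presheaf.obj (op W))))
  have hn' : n = 1 := by omega
  have key : ∀ y : Y, ∃ W : Y.Opens, IsAffineOpen W ∧ y ∈ W ∧
      Function.Bijective (f.app W).hom := by
    intro y
    obtain ⟨W, hW, hyW, -, ⟨b⟩⟩ :=
      Groth.Agent.Helper18Norm.exists_good_directImage f n hEn y ⊤ trivial
    letI := alg (RelSpec.QCAlg.directImage f) W
    rw [hn'] at b
    exact ⟨W, hW, hyW, bijective_of_basis_fin_one b⟩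
  choose W hW hyW hbij using key
  refine isIso_of_cover_bijective f W hW ?_ hbij
  rw [eq_top_iff]
  intro y _
  exact Opens.mem_iSup.2 ⟨y, hyW y⟩

end main

end Groth.Agent.Lib.T2H6.EtCov
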