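import Mathlib
import Groth.Agent.Lib.T2H6IntNumComp
import Groth.Agent.Lib.T2H5PushExactB
set_option backward.isDefEq.respectTransparency.types false

/-!
# The Euler characteristic of the twists modulo lower order terms (helper6)

`χ(F ⊗ L^n) - ∑_ξ length(F_ξ) χ(O_{Z_ξ} ⊗ L^n)` has vanishing differences of order `d = dim Supp F`.
-/

set_option autoImplicit false
set_option linter.style.haveILetI false
set_option linter.unusedSectionVars false
universe u

open AlgebraicGeometry CategoryTheory Limits TopologicalSpace Opposite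

namespace Groth.Agent.Lib.T2H6.EulerComp

open Groth.Agent.Lib.T2H6.IntNum Groth.Agent.Lib.T2H6.CompSumGen Groth.Agent.Lib.T2H5.GenIsoA
  Groth.Agent.Lib.T2H6.PolyLt Groth.Agent.Lib.T2H5.Twist Groth.Agent.Lib.T2H6.TensorDeg
  Groth.Agent.Lib.T2H6.TensorPows

section numerics

/-- the subgroup of the functions with vanishing differences of order `d`. -/
def polyLtSubgroup (σ : Type*) [DecidableEq σ] (d : ℕ) : AddSubgroup ((σ → ℕ) → ℤ) where
  carrier := {f | PolyLt d f}
  zero_mem' := PolyLt.zero d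
  add_mem' := fun hf hg => hf.add hg
  neg_mem' := fun hf => hf.neg

theorem mem_polyLtSubgroup {σ : Type*} [DecidableEq σ] (d : ℕ) (f : (σ → ℕ) → ℤ) :
    f ∈ polyLtSubgroup σ d ↔ PolyLt d f := Iff.rfl

/-- a function with vanishing differences of order `d` is a polynomial all of whose monomials have degree `< d`. -/
theorem exists_mvPolynomial_lt (r d : ℕ) (f : (Fin r → ℕ) → ℚ) (hf : PolyLt d f) :
    ∃ P : MvPolynomial (Fin r) ℚ, (∀ m ∈ P.support, (m.sum fun _ e => e) < d) ∧
      ∀ n : Fin r → ℕ, f n = MvPolynomial.eval (fun i => (n i : ℚ)) P := by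
  cases d with
  | zero =>
    rw [polyLt_zero_iff] at hf
    refine ⟨0, fun m hm => ?_, fun n => ?_⟩
    · rw [MvPolynomial.support_zero] at hm
      exact absurd hm (Finset.notMem_empty m)
    · rw [hf, map_zero]
      rfl
  | succ e =>
    obtain ⟨P, hP1, hP2⟩ := exists_mvPolynomial r e f hf
    exact ⟨P, fun m hm => Nat.lt_succ_of_le ((MvPolynomial.le_totalDegree hm).trans hP1), hP2⟩

end numerics

section push

variable {X Z : Scheme.{u}}

/-- the projection formula for the iterated twists. -/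
theorem nonempty_push_tensorPows_iso (i : Z ⟶ X) (G : Z.Modules) : ∀ (r : ℕ) (L : Fin r → X.Modules)
    (_ : ∀ j, PicF.IsInvertible (L j)) (n : Fin r → ℕ),
    Nonempty ((Scheme.Modules.pushforward i).obj
        (Curv2.tensorPows G r (fun j => (Scheme.Modules.pullback i).obj (L j)) n) ≅
      Curv2.tensorPows ((Scheme.Modules.pushforward i).obj G) r L n) := by
  intro r
  induction r with
  | zero => intro L _ n; exact ⟨Iso.refl _⟩
  | succ r ih =>
    intro L hL n
    obtain ⟨e1⟩ := ih (fun j => L j.castSucc) (fun j => hL j.castSucc) (fun j => n j.castSucc)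
    obtain ⟨e2⟩ := Groth.Agent.Lib.T2H5.PushExact.nonempty_push_tensor_tensorPow_iso i (L (Fin.last r))
      (hL (Fin.last r))
      (Curv2.tensorPows G r (fun j => (Scheme.Modules.pullback i).obj (L j.castSucc)) (fun j => n j.castSucc))
      (n (Fin.last r))
    exact ⟨e2 ≪≫ Groth.Agent.Lib.Helper23.AmpleIso.tensorModIso e1 (Iso.refl _)⟩

end push

section Main

variable {X : Scheme.{u}} (k : Type u) [Field k] [X.Over (Spec (CommRingCat.of k))]
  [IsProper (X ↘ Spec (CommRingCat.of k))]

/-- the Euler characteristic of the twists of `O_Z`, computed on `Z`. -/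
theorem euler_tensorPows_quotMod (J : X.IdealSheafData) (r : ℕ) (L : Fin r → X.Modules)
    (hL : ∀ j, PicF.IsInvertible (L j)) (n : Fin r → ℕ) :
    Curv2.euler k X (Curv2.tensorPows (ClSub.quotMod J) r L n) =
      @Curv2.euler k _ J.subscheme ⟨J.subschemeι ≫ (X ↘ (Spec (CommRingCat.of k)))⟩
        (Curv2.tensorPows (Coh.structureModule J.subscheme) r
          (fun i => (Scheme.Modules.pullback J.subschemeι).obj (L i)) n) := by
  letI : J.subscheme.Over (Spec (CommRingCat.of k)) := ⟨J.subschemeι ≫ (X ↘ (Spec (CommRingCat.of k)))⟩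
  haveI : IsProper (J.subscheme ↘ Spec (CommRingCat.of k)) :=
    inferInstanceAs (IsProper (J.subschemeι ≫ (X ↘ (Spec (CommRingCat.of k)))))
  have hOc : Coh.IsCoh (Coh.structureModule J.subscheme) := Groth.Agent.Lib.T2H5.GenIsoF.isCoh_structureModule
  have hT : Coh.IsCoh (Curv2.tensorPows (Coh.structureModule J.subscheme) r
      (fun i => (Scheme.Modules.pullback J.subschemeι).obj (L i)) n) :=
    isCoh_tensorPows _ hOc r _ (fun j => Groth.Agent.Lib.Helper23.PB.isInvertible_pullback _ (L j) (hL j)) n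
  haveI := hT.1
  obtain ⟨e⟩ := nonempty_push_tensorPows_iso J.subschemeι (Coh.structureModule J.subscheme) r L hL n
  rw [← Groth.Agent.Lib.T2H6.TensorDegGen.euler_pushforward J.subschemeι k rfl _]
  exact (Groth.Agent.Lib.T2H6.HiggsCurve.euler_eq_of_iso k e
    (Groth.Agent.Lib.T2H5.ClosedTransfer.isCoh_pushforward J.subschemeι _ hT)).symm

theorem isAddFnG_mk_chiFun (r : ℕ) (L : Fin r → X.Modules) (hL : ∀ i, PicF.IsInvertible (L i)) (d : ℕ) :
    IsAddFnG (fun F : X.Modules =>
      (QuotientAddGroup.mk' (polyLtSubgroup (Fin r) d)) (chiFun k r L F)) := by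
  have hn : ∀ n : Fin r → ℕ, Groth.Agent.Lib.T2H6.AddFn.IsAddFn
      (fun F => Curv2.euler k X (Curv2.tensorPows F r L n)) :=
    fun n => isAddFn_tensorPows r (isAddFn_euler (X := X) k) L hL n
  refine ⟨fun {M N} e hM => ?_, fun M hM => ?_, fun S hS c1 c2 c3 => ?_⟩
  · have : chiFun k r L M = chiFun k r L N := funext fun n => (hn n).iso e hM
    simp only [this]
  · have : chiFun k r L M = 0 := funext fun n => (hn n).zero M hM
    simp only [this, map_zero]
  · have : chiFun k r L S.X₂ = chiFun k r L S.X₁ + chiFun k r L S.X₃ :=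
      funext fun n => (hn n).add S hS c1 c2 c3
    simp only [this, map_add]

/-- **the Euler characteristic of the twists, modulo lower order terms, is the sum over the top-dimensional components
of the support.** -/
theorem polyLt_chiFun_sub_finsum (r : ℕ) (L : Fin r → X.Modules) (hL : ∀ i, PicF.IsInvertible (L i))
    (F : X.Modules) (hF : Coh.IsCoh F) (d : ℕ) (hd : topologicalKrullDim (CohB1.support F) ≤ d) :
    {ξ : X | DimPt d ξ ∧ ξ ∈ CohB1.support F}.Finite ∧
    PolyLt d (chiFun k r L F -
      ∑ᶠ ξ : X, term d (fun ξ => chiFun k r L (ClSub.quotMod (clI ξ))) F ξ) := by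
  haveI : IsNoetherian X := Groth.Agent.Lib.T2H6.CurveSatur.isNoetherian_of_proper k
  set π := QuotientAddGroup.mk' (polyLtSubgroup (Fin r) d) with hπ
  have hvan : ∀ N : X.Modules, Coh.IsCoh N → topologicalKrullDim (CohB1.support N) < d →
      π (chiFun k r L N) = 0 := by
    intro N hN hNd
    rw [hπ, QuotientAddGroup.mk'_apply, QuotientAddGroup.eq_zero_iff, mem_polyLtSubgroup]
    exact polyLt_chiFun k r L hL N hN d hNd
  obtain ⟨_, hfin, heq⟩ := good (isAddFnG_mk_chiFun k r L hL d) d hvan F hF hd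
  refine ⟨hfin, ?_⟩
  have hsupp : (Function.support (term d (fun ξ => chiFun k r L (ClSub.quotMod (clI ξ))) F)).Finite :=
    hfin.subset (support_term_subset d _ F)
  have h1 : csum d (fun ξ => π (chiFun k r L (ClSub.quotMod (clI ξ)))) F =
      π (∑ᶠ ξ : X, term d (fun ξ => chiFun k r L (ClSub.quotMod (clI ξ))) F ξ) := by
    rw [map_finsum π hsupp]
    unfold csum
    refine finsum_congr fun ξ => ?_
    by_cases hξ : DimPt d ξ
    · rw [term_pos _ F hξ, term_pos _ F hξ, map_nsmul]
    · rw [term_neg _ F hξ, term_neg _ F hξ, map_zero]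
  rw [h1] at heq
  have heq' : π (chiFun k r L F) =
      π (∑ᶠ ξ : X, term d (fun ξ => chiFun k r L (ClSub.quotMod (clI ξ))) F ξ) := heq
  rw [← mem_polyLtSubgroup, ← QuotientAddGroup.eq_zero_iff]
  have h2 : π (chiFun k r L F - ∑ᶠ ξ : X, term d (fun ξ => chiFun k r L (ClSub.quotMod (clI ξ))) F ξ) = 0 := by
    rw [map_sub, heq', sub_self]
  exact h2

open Classical in
/-- the form used in the milestone. -/
theorem exists_poly_sub_finsum (r : ℕ) (L : Fin r → X.Modules) (hL : ∀ i, PicF.IsInvertible (L i))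
    (F : X.Modules) (hF : Coh.IsCoh F) (d : ℕ) (hd : topologicalKrullDim (CohB1.support F) ≤ d) :
    ∃ P : MvPolynomial (Fin r) ℚ, (∀ m ∈ P.support, (m.sum fun _ e => e) < d) ∧
      ∀ n : Fin r → ℕ,
        (Curv2.euler k X (Curv2.tensorPows F r L n) : ℚ) -
          ∑ᶠ ξ : X, (if DimPt d ξ then
            ((lenAt ξ F).toNat : ℚ) *
              (@Curv2.euler k _ (clI ξ).subscheme ⟨(clI ξ).subschemeι ≫ (X ↘ (Spec (CommRingCat.of k)))⟩
                (Curv2.tensorPows (Coh.structureModule (clI ξ).subscheme) r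
                  (fun i => (Scheme.Modules.pullback (clI ξ).subschemeι).obj (L i)) n) : ℚ)
            else 0)
          = MvPolynomial.eval (fun i => (n i : ℚ)) P := by
  obtain ⟨hfin, hpoly⟩ := polyLt_chiFun_sub_finsum k r L hL F hF d hd
  have hsupp : (Function.support (term d (fun ξ => chiFun k r L (ClSub.quotMod (clI ξ))) F)).Finite :=
    hfin.subset (support_term_subset d _ F)
  obtain ⟨P, hP1, hP2⟩ := exists_mvPolynomial_lt r d _ (hpoly.map (Int.castAddHom ℚ))
  refine ⟨P, hP1, fun n => ?_⟩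
  rw [← hP2 n]
  simp only [Int.coe_castAddHom, Pi.sub_apply, Int.cast_sub]
  congr 1
  rw [finsum_apply hsupp]
  have hsupp' : (Function.support fun ξ : X =>
      term d (fun ξ => chiFun k r L (ClSub.quotMod (clI ξ))) F ξ n).Finite := by
    refine hsupp.subset fun ξ hξ h0 => hξ ?_
    change term d (fun ξ => chiFun k r L (ClSub.quotMod (clI ξ))) F ξ n = 0
    rw [h0]
    rfl
  have h1 := map_finsum (Int.castAddHom ℚ) hsupp'
  simp only [Int.coe_castAddHom] at h1
  rw [h1]
  refine finsum_congr fun ξ => ?_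
  by_cases hξ : DimPt d ξ
  · rw [term_pos _ F hξ, if_pos hξ, ← euler_tensorPows_quotMod k (clI ξ) r L hL n]
    simp only [Pi.smul_apply, nsmul_eq_mul, Int.cast_mul, Int.cast_natCast]
    rfl
  · rw [term_neg _ F hξ, if_neg hξ]
    rfl

end Main

end Groth.Agent.Lib.T2H6.EulerComp
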