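import Mathlib
import Groth.Prelude.Def_LocCohZ
import Groth.Prelude.Def_ExtSupp
import Groth.Agent.Lib.Helper21DerPost

set_option backward.isDefEq.respectTransparency.types false

/-!
# Quasi-coherence of `ℰxt^i_Z(F, G)` (helper6), part A

The sections-with-support functor of the ringed site `(Opens X, O_X)` agrees with the scheme-level `DCoh.gammaZ U.ι`, hence
`ModSite.HZsh X.sheaf U q ≅ LocCohZ.HZshM U.ι q`.
-/

set_option autoImplicit false
set_option linter.style.haveILetI false
universe u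
open CategoryTheory CategoryTheory.Limits AlgebraicGeometry Opposite

namespace Groth.Agent.Lib.T2H6.ExtZQCoh

section general

variable {C D D' : Type*} [Category C] [Category D] [Category D'] [Abelian C]
  [HasZeroMorphisms D] [HasZeroMorphisms D']

/-- `t ≫ η = 0` iff `L t = 0`, for the unit `η` of an adjunction `L ⊣ R` -/
theorem comp_unit_eq_zero_iff {L : C ⥤ D} {R : D ⥤ C} (adj : L ⊣ R)
    (hR : ∀ A B : D, R.map (0 : A ⟶ B) = 0)
    {T F : C} (t : T ⟶ F) : t ≫ adj.unit.app F = 0 ↔ L.map t = 0 := by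
  have h : t ≫ adj.unit.app F = adj.homEquiv T (L.obj F) (L.map t) := by
    rw [Adjunction.homEquiv_unit]
    exact (adj.unit.naturality t)
  rw [h]
  constructor
  · intro h0
    apply (adj.homEquiv T (L.obj F)).injective
    rw [h0, Adjunction.homEquiv_unit, hR, comp_zero]
  · intro h0
    rw [h0, Adjunction.homEquiv_unit, hR, comp_zero]

variable {L : C ⥤ D} {R : D ⥤ C} (adj : L ⊣ R) (hR : ∀ A B : D, R.map (0 : A ⟶ B) = 0)
  {L' : C ⥤ D'} {R' : D' ⥤ C} (adj' : L' ⊣ R') (hR' : ∀ A B : D', R'.map (0 : A ⟶ B) = 0)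
  (Φ : D ⥤ D') (hΦ : ∀ A B : D, Φ.map (0 : A ⟶ B) = 0) [Φ.Faithful] (θ : L ⋙ Φ ≅ L')

include θ hΦ in
omit [Abelian C] in
theorem map_eq_zero_iff {T F : C} (t : T ⟶ F) : L.map t = 0 ↔ L'.map t = 0 := by
  have hn : L'.map t = θ.inv.app T ≫ Φ.map (L.map t) ≫ θ.hom.app F := by
    have := θ.hom.naturality t
    rw [Functor.comp_map] at this
    rw [this, Iso.inv_hom_id_app_assoc]
  constructor
  · intro h
    rw [hn, h, hΦ, zero_comp, comp_zero]
  · intro h
    apply Φ.map_injective
    rw [hΦ]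
    have h2 : Φ.map (L.map t) = θ.hom.app T ≫ L'.map t ≫ θ.inv.app F := by
      rw [hn]
      simp
    rw [h2, h, zero_comp, comp_zero]

/-- the kernels of the units of two adjunctions whose left adjoints differ by a faithful functor agree -/
noncomputable def kernelUnitIso (F : C) : kernel (adj.unit.app F) ≅ kernel (adj'.unit.app F) where
  hom := kernel.lift _ (kernel.ι _)
    ((comp_unit_eq_zero_iff adj' hR' _).2 ((map_eq_zero_iff Φ hΦ θ _).1
      ((comp_unit_eq_zero_iff adj hR _).1 (kernel.condition _))))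
  inv := kernel.lift _ (kernel.ι _)
    ((comp_unit_eq_zero_iff adj hR _).2 ((map_eq_zero_iff Φ hΦ θ _).2
      ((comp_unit_eq_zero_iff adj' hR' _).1 (kernel.condition _))))
  hom_inv_id := by
    rw [← cancel_mono (kernel.ι _)]
    simp
  inv_hom_id := by
    rw [← cancel_mono (kernel.ι _)]
    simp

@[reassoc (attr := simp)]
theorem kernelUnitIso_hom_ι (F : C) :
    (kernelUnitIso adj hR adj' hR' Φ hΦ θ F).hom ≫ kernel.ι _ = kernel.ι _ :=
  kernel.lift_ι _ _ _

/-- the functor `F ↦ ker(F ⟶ R L F)` -/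
noncomputable def kerUnit {D₀ : Type*} [Category D₀] {L₀ : C ⥤ D₀} {R₀ : D₀ ⥤ C} (adj₀ : L₀ ⊣ R₀) : C ⥤ C where
  obj F := kernel (adj₀.unit.app F)
  map {F G} φ := kernel.map _ _ φ ((L₀ ⋙ R₀).map φ) (adj₀.unit.naturality φ).symm
  map_id F := by
    apply equalizer.hom_ext
    simp
  map_comp φ ψ := by
    apply equalizer.hom_ext
    simp

/-- `kerUnit adj ≅ kerUnit adj'` -/
noncomputable def kerUnitIso : kerUnit adj ≅ kerUnit adj' :=
  NatIso.ofComponents (fun F => kernelUnitIso adj hR adj' hR' Φ hΦ θ F)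
    (by
      intro F G φ
      apply (cancel_mono (kernel.ι (adj'.unit.app G))).1
      simp [kerUnit])

end general

section scheme

variable {X : Scheme.{u}} (U : X.Opens)

theorem pushOver_map_zero (A B : ModSite.Mod (X.sheaf.over U)) :
    (ModSite.pushOver X.sheaf U).map (0 : A ⟶ B) = 0 := by
  haveI : (ModSite.pushOver X.sheaf U).IsRightAdjoint :=
    (ModSite.restrPushOverAdj X.sheaf U).isRightAdjoint
  exact Functor.map_zero _ _ _

theorem pushforward_map_zero (A B : (↑U : Scheme.{u}).Modules) :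
    (Scheme.Modules.pushforward U.ι).map (0 : A ⟶ B) = 0 := by
  haveI : (Scheme.Modules.pushforward U.ι).IsRightAdjoint :=
    (Scheme.Modules.pullbackPushforwardAdjunction U.ι).isRightAdjoint
  exact Functor.map_zero _ _ _

theorem overEquiv_map_zero (A B : ModSite.Mod (X.sheaf.over U)) :
    (Scheme.Modules.overEquiv U).functor.map (0 : A ⟶ B) = 0 :=
  Functor.map_zero _ _ _

/-- `Γ_Z` of the ringed site `(Opens X, O_X)` is the scheme-level `Γ_Z` -/
noncomputable def sectOnGammaZIso : ModSite.sectOn X.sheaf U ≅ DCoh.gammaZ U.ι :=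
  kerUnitIso (ModSite.restrPushOverAdj X.sheaf U) (pushOver_map_zero U)
    (Scheme.Modules.restrictAdjunction U.ι) (pushforward_map_zero U)
    (Scheme.Modules.overEquiv U).functor (overEquiv_map_zero U)
    (Scheme.Modules.overFunctorEquiv U)

end scheme

end Groth.Agent.Lib.T2H6.ExtZQCoh
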