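import Mathlib
import Groth.Agent.Lib.T2H6ExtZQCohA
import Groth.Agent.Lib.T2H4ExtShCoh
import Groth.Agent.Lib.T2H4LocCohQC
import Groth.Agent.Lib.Helper23QCohSum
import Groth.Agent.Lib.Helper23QCohExt

set_option backward.isDefEq.respectTransparency.types false

/-!
# Quasi-coherence of `ℰxt^i_Z(F, G)` (helper6), part B

* `isQuasicoherent_extSh`: `ℰxt^i(F, G)` is quasi-coherent for `F` coherent, `G` quasi-coherent, `X` locally Noetherian
  (helper4's proof of coherence, with the target property changed);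
* `isQuasicoherent_HZsh`: the local cohomology sheaves `ℋ^q_Z` (ringed-site version) of a quasi-coherent module.
-/

set_option autoImplicit false
set_option linter.style.haveILetI false
set_option linter.unusedSectionVars false
universe u
open CategoryTheory CategoryTheory.Limits AlgebraicGeometry TopologicalSpace Opposite

namespace Groth.Agent.Lib.T2H6.ExtZQCoh

open Groth.Agent.Lib.Helper21.CoDeltaLib Groth.Agent.Lib.T2H4.ExtShCoh
  Groth.Agent.Lib.Helper21.ExtShDelta Groth.Agent.Lib.Helper21.SheafHomFree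
  Groth.Agent.Lib.T2H5.Devissage Groth.Agent.Lib.T2H5.GenIsoA Groth.Agent.Lib.T2H5.GenIsoB
  Groth.Agent.Lib.Helper23.QCohLocal

attribute [local instance] Groth.Agent.Lib.Helper21.ExtShDelta.hasSheafHom
attribute [local instance] Abelian.hasFiniteBiproducts

theorem qc_iso {Y : Scheme.{u}} {M N : Y.Modules} (e : M ≅ N) (h : M.IsQuasicoherent) :
    N.IsQuasicoherent :=
  (SheafOfModules.isQuasicoherent Y.ringCatSheaf).prop_of_iso e h

section affine

variable {X : Scheme.{u}} (U : X.Opens) [HasInjectiveResolutions (ModSite.Mod (X.sheaf.over U))]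

theorem isQuasicoherent_Φ_extSh [IsLocallyNoetherian X] (hU : IsAffineOpen U)
    (N : ModSite.Mod (X.sheaf.over U)) (hN : ((Φ U).obj N).IsQuasicoherent) (p : ℕ)
    (M : ModSite.Mod (X.sheaf.over U)) (hM : Coh.IsCoh ((Φ U).obj M)) :
    ((Φ U).obj (((ModSite.sheafHom M).rightDerived p).obj N)).IsQuasicoherent := by
  refine coDelta_induction (extShDelta N) (fun M => Coh.IsCoh ((Φ U).obj M))
    (fun D => ((Φ U).obj D).IsQuasicoherent) ?_ ?_ ?_ ?_ p M hM
  · intro A B e hA
    exact qc_iso ((Φ U).mapIso e) hA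
  · intro A B f hA hB
    haveI := hA
    haveI := hB
    exact qc_iso (PreservesKernel.iso (Φ U) f).symm (isQuasicoherent_kernel _)
  · intro A B f hA hB
    haveI := hA
    haveI := hB
    exact qc_iso (PreservesCokernel.iso (Φ U) f).symm (isQuasicoherent_cokernel _)
  · intro M hM
    obtain ⟨b, g, hg, hK⟩ := exists_resolution U hU M hM
    refine ⟨kernel g, _, kernel.ι g, g, kernel.condition g, ?_, hK, isCoh_Φ_free U b, ?_, ?_⟩
    · haveI : Mono (ShortComplex.mk (kernel.ι g) g (kernel.condition g)).f :=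
        inferInstanceAs (Mono (kernel.ι g))
      haveI : Epi (ShortComplex.mk (kernel.ι g) g (kernel.condition g)).g := hg
      exact ShortComplex.ShortExact.mk (ShortComplex.exact_kernel g)
    · haveI := sheafHom_preservesFiniteLimits (X.sheaf.over U)
        (∐ fun _ : Fin b => ModSite.unit (X.sheaf.over U))
      have e1 : ((ModSite.sheafHom (∐ fun _ : Fin b => ModSite.unit (X.sheaf.over U))).rightDerived 0).obj N ≅
          (ModSite.sheafHom (∐ fun _ : Fin b => ModSite.unit (X.sheaf.over U))).obj N :=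
        (Functor.rightDerivedZeroIsoSelf _).app N
      have eL : (∐ fun _ : Fin b => ModSite.unit (X.sheaf.over U)) ≅
          (SheafOfModules.free (ULift.{u} (Fin b)) : ModSite.Mod (X.sheaf.over U)) :=
        (Sigma.reindex (Equiv.ulift : ULift.{u} (Fin b) ≃ Fin b)
          (fun _ : Fin b => ModSite.unit (X.sheaf.over U))).symm
      have e2 := (sheafHomCongr (X.sheaf.over U) eL).app N ≪≫
        (sheafHomFreeIso (X.sheaf.over U) (ULift.{u} (Fin b))).app N
      have e3 : (BiF (𝒜 := ModSite.Mod (X.sheaf.over U)) (ULift.{u} (Fin b))).obj N ≅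
          ∐ (fun _ : ULift.{u} (Fin b) => N) := biproduct.isoCoproduct _
      have e3' : (∐ (fun _ : ULift.{u} (Fin b) => N)) ≅ ∐ (fun _ : Fin b => N) :=
        Sigma.reindex (Equiv.ulift : ULift.{u} (Fin b) ≃ Fin b) (fun _ : Fin b => N)
      have e4 : (Φ U).obj (∐ (fun _ : Fin b => N)) ≅ ∐ (fun _ : Fin b => (Φ U).obj N) :=
        PreservesCoproduct.iso (Φ U) _
      have e5 : (∐ (fun _ : Fin b => (Φ U).obj N)) ≅ ⨁ (fun _ : Fin b => (Φ U).obj N) :=
        (biproduct.isoCoproduct _).symm
      exact qc_iso (((Φ U).mapIso (e1 ≪≫ e2 ≪≫ e3 ≪≫ e3')) ≪≫ e4 ≪≫ e5).symm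
        (isQuasicoherent_biproduct (fun _ : Fin b => (Φ U).obj N) fun _ => hN)
    · intro q
      exact isZero_extSh_free N _ (Iso.refl _) q

end affine

section global

variable {X : Scheme.{u}}

/-- **Quasi-coherence of the local Ext sheaves** `ℰxt^i(F, G)`, `F` coherent, `G` quasi-coherent. -/
theorem isQuasicoherent_extSh [IsLocallyNoetherian X] (F G : X.Modules) (hF : Coh.IsCoh F)
    (hG : G.IsQuasicoherent)
    [ModSite.HasSheafHom (O := X.sheaf) F] [HasInjectiveResolutions (ModSite.Mod X.sheaf)] (i : ℕ) :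
    ((ModSite.extSh (O := X.sheaf) F i).obj G).IsQuasicoherent := by
  haveI := hF.1
  haveI := hF.2
  haveI := hG
  have key : ∀ U : X.affineOpens,
      ((Scheme.Modules.restrictFunctor U.1.ι).obj
        ((ModSite.extSh (O := X.sheaf) F i).obj G)).IsQuasicoherent := by
    intro U
    haveI : EnoughInjectives (ModSite.Mod (X.sheaf.over U.1)) :=
      Groth.Agent.S0485.result ((Opens.grothendieckTopology X).over U.1) _
    obtain ⟨φ⟩ := Groth.Agent.S12887.result X.sheaf U.1 F i
    have e1 : (Φ U.1).obj ((ModSite.restr X.sheaf U.1).obj ((ModSite.extSh (O := X.sheaf) F i).obj G)) ≅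
        (Scheme.Modules.restrictFunctor U.1.ι).obj ((ModSite.extSh (O := X.sheaf) F i).obj G) :=
      (Scheme.Modules.overFunctorEquiv U.1).app _
    have eF : (Φ U.1).obj ((ModSite.restr X.sheaf U.1).obj F) ≅ F.restrict U.1.ι :=
      (Scheme.Modules.overFunctorEquiv U.1).app _
    have eG : (Φ U.1).obj ((ModSite.restr X.sheaf U.1).obj G) ≅ G.restrict U.1.ι :=
      (Scheme.Modules.overFunctorEquiv U.1).app _
    have hF' : Coh.IsCoh (F.restrict U.1.ι) :=
      ⟨Scheme.Modules.isQuasicoherent_restrictFunctor U.1.ι F,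
        Groth.Agent.Lib.Helper23.FinType.isFiniteType_restrict U.1.ι F⟩
    have hG' : (G.restrict U.1.ι).IsQuasicoherent :=
      Scheme.Modules.isQuasicoherent_restrictFunctor U.1.ι G
    have h1 := isQuasicoherent_Φ_extSh U.1 U.2 _ (qc_iso eG.symm hG') i _ (isCoh_of_iso eF.symm hF')
    exact qc_iso (((Φ U.1).mapIso (φ.app G)).symm ≪≫ e1) h1
  have hcov : IsOpenCover (fun U : X.affineOpens => (U : X.Opens)) := iSup_affineOpens_eq_top X
  exact Groth.Agent.Lib.Helper23.FinType.isQuasicoherent_of_open_cover _ _ hcov (fun U => key U)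

/-- the local cohomology sheaves `ℋ^q_Z` (ringed-site version) of a quasi-coherent module on a locally Noetherian
scheme are quasi-coherent -/
theorem isQuasicoherent_HZsh [IsLocallyNoetherian X] (U : X.Opens)
    [HasInjectiveResolutions (ModSite.Mod X.sheaf)] (M : X.Modules) (hM : M.IsQuasicoherent) (q : ℕ) :
    ((ModSite.HZsh X.sheaf U q).obj M).IsQuasicoherent := by
  haveI : HasInjectiveResolutions X.Modules := ‹HasInjectiveResolutions (ModSite.Mod X.sheaf)›
  haveI := hM
  have h := Groth.Agent.Lib.T2H4.LocCohQC.isQuasicoherent_HZshM U.ι M q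
  let e := @Groth.Agent.Lib.Helper21.DerPost.natIsoRightDerived (ModSite.Mod X.sheaf) _ _
    (ModSite.Mod X.sheaf) _ _ _ (ModSite.sectOn X.sheaf U) (DCoh.gammaZ U.ι)
    (ModSite.sectOn_additive X.sheaf U) (inferInstanceAs (DCoh.gammaZ U.ι).Additive)
    (sectOnGammaZIso U) q
  exact qc_iso (e.app M).symm h

end global

end Groth.Agent.Lib.T2H6.ExtZQCoh
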