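import Mathlib
import Groth.Agent.Lib.T2H6ExtSecH
import Groth.Agent.Lib.T2H6ExtZQCohB
set_option backward.isDefEq.respectTransparency.types false

/-!
# T2H6ExtSecI (helper6): sections of the local Ext sheaves over an affine open, quasi-coherent second variable

Namespace `Groth.Agent.Lib.T2H6.ExtSec`.

* `QC U Y` : quasi-coherence through `Φ U`; stable under kernels and cokernels.
* `nonempty_ΓU_extSh_iso'` : `Γ(ℰxt^i(F', G')) ≅ Ext^i(Γ F', Γ G')` on the localised site of an affine open, `F'` coherent, `G'` quasi-coherent.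
* `nonempty_sections_extSh_equiv'` : `Γ(U, ℰxt^i(F, G)) ≃ₗ Ext^i_{Γ(U,O)}(F(U), G(U))` for `F` coherent, `G` quasi-coherent on a
  locally Noetherian scheme, `U` affine open.
-/

set_option autoImplicit false
set_option linter.style.haveILetI false
universe u
open CategoryTheory CategoryTheory.Limits Opposite AlgebraicGeometry TopologicalSpace CategoryTheory.Abelian

namespace Groth.Agent.Lib.T2H6.ExtSec

open Groth.Agent.Lib.T2H9.ShHom Groth.Agent.Lib.T2H4.ExtShCoh Groth.Agent.Lib.Helper21.CoDeltaLib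
  Groth.Agent.Lib.Helper21.ExtShDelta Groth.Agent.Lib.T2H5.Devissage
  Groth.Agent.Lib.T2H5.GenIsoA Groth.Agent.Lib.T2H5.GenIsoB Groth.Agent.Lib.Helper23.QCohLocal

attribute [local instance] Groth.Agent.Lib.Helper21.ExtShDelta.hasSheafHom

section QC

variable {X : Scheme.{u}} (U : X.Opens)

/-- quasi-coherent modules on the localised site. -/
def QC (Y : ModSite.Mod (X.sheaf.over U)) : Prop := ((Φ U).obj Y).IsQuasicoherent

theorem QC_of_QCoh {Y : ModSite.Mod (X.sheaf.over U)} (h : QCoh U Y) : QC U Y := h.1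

theorem QC_kernel {A B : ModSite.Mod (X.sheaf.over U)} (f : A ⟶ B) (hA : QC U A) (hB : QC U B) :
    QC U (kernel f) := by
  haveI : ((Φ U).obj A).IsQuasicoherent := hA
  haveI : ((Φ U).obj B).IsQuasicoherent := hB
  exact Groth.Agent.Lib.T2H6.ExtZQCoh.qc_iso (PreservesKernel.iso (Φ U) f).symm (isQuasicoherent_kernel _)

theorem QC_cokernel {A B : ModSite.Mod (X.sheaf.over U)} (f : A ⟶ B) (hA : QC U A) (hB : QC U B) :
    QC U (cokernel f) := by
  haveI : ((Φ U).obj A).IsQuasicoherent := hA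
  haveI : ((Φ U).obj B).IsQuasicoherent := hB
  exact Groth.Agent.Lib.T2H6.ExtZQCoh.qc_iso (PreservesCokernel.iso (Φ U) f).symm (isQuasicoherent_cokernel _)

theorem QC_epi (hU : IsAffineOpen U) {A B : ModSite.Mod (X.sheaf.over U)} (p : A ⟶ B) (hp : Epi p)
    (hA : QC U A) (hB : QC U B) : Epi ((ΓU U).map p) :=
  epi_ΓU_map U hU p hA hB

theorem QC_restr (G : X.Modules) (hG : G.IsQuasicoherent) : QC U ((ModSite.restr X.sheaf U).obj G) := by
  haveI := hG
  have eG : (Φ U).obj ((ModSite.restr X.sheaf U).obj G) ≅ G.restrict U.ι :=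
    (Scheme.Modules.overFunctorEquiv U).app _
  exact Groth.Agent.Lib.T2H6.ExtZQCoh.qc_iso eG.symm (Scheme.Modules.isQuasicoherent_restrictFunctor U.ι G)

end QC

variable {X : Scheme.{u}} [IsLocallyNoetherian X] (U : X.Opens) (hU : IsAffineOpen U)
  [HasInjectiveResolutions (ModSite.Mod (X.sheaf.over U))]

include hU in
theorem nonempty_ΓU_extSh_iso' (F' G' : ModSite.Mod (X.sheaf.over U)) (hF' : QCoh U F')
    (hG' : QC U G') (i : ℕ) :
    Nonempty ((ΓU U).obj (((ModSite.sheafHom F').rightDerived i).obj G') ≅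
      ModuleCat.of ((X.sheaf.over U).obj.obj (op (T₀ U)))
        (Abelian.Ext.{u} ((ΓU U).obj F') ((ΓU U).obj G') i)) := by
  have hres : ∀ M, QCoh U M → ∃ (L : ModSite.Mod (X.sheaf.over U)) (g : L ⟶ M), Epi g ∧
      (∃ b, L = Lb (X.sheaf.over U) b) ∧ QCoh U (kernel g) := by
    intro M hM
    obtain ⟨b, g, hg, hK⟩ := exists_resolution U hU M hM
    exact ⟨_, g, hg, ⟨b, rfl⟩, hK⟩
  obtain ⟨R, hR⟩ := exists_resn hres F' hF'
  have hQX : ∀ j, QCoh U (R.X j) := by
    intro j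
    obtain ⟨b, hb⟩ := hR j
    rw [hb]
    exact QCoh_free U b
  have hexmap : ∀ S : ShortComplex (ModSite.Mod (X.sheaf.over U)), QCoh U S.X₁ → QCoh U S.X₂ →
      QCoh U S.X₃ → S.Exact → (S.map (ΓU U)).Exact :=
    fun S h₁ h₂ h₃ hS => exact_map_of_exact (ΓU U) (QCoh U) (QCoh_kernel U) (QCoh_cokernel U)
      (QCoh_epi U hU) S h₁ h₂ h₃ hS
  let R' : Resn ((ΓU U).obj F') := mapResn (ΓU U) R
    (QCoh_epi U hU R.π R.epi (hQX 0) hF')
    (hexmap _ (hQX 1) (hQX 0) hF' R.ex₀)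
    (fun j => hexmap _ (hQX (j + 2)) (hQX (j + 1)) (hQX j) (R.ex j))
  let Δ := extShDelta G'
  let Δ' := extDelta ((X.sheaf.over U).obj.obj (op (T₀ U))) ((ΓU U).obj G')
  have hacyc : ∀ j p : ℕ, 1 ≤ p → IsZero (Δ.E p (R.X j)) := by
    intro j p hp
    obtain ⟨b, hb⟩ := hR j
    obtain ⟨q, rfl⟩ := Nat.exists_eq_add_of_le' hp
    exact isZero_extSh_free G' (R.X j) (eqToIso hb) q
  have hacyc' : ∀ j p : ℕ, 1 ≤ p → IsZero (Δ'.E p (R'.X j)) := by
    intro j p hp
    obtain ⟨b, hb⟩ := hR j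
    obtain ⟨q, rfl⟩ := Nat.exists_eq_add_of_le' hp
    haveI : Projective (R'.X j) := by
      change Projective ((ΓU U).obj (R.X j))
      rw [hb]
      exact projective_Γ₀_Lb (X.sheaf.over U) b
    exact isZero_extDelta_succ_of_projective _ ((ΓU U).obj G') (R'.X j) q
  have hbij : ∀ j, Function.Bijective (nu (X.sheaf.over U) (hT₀ U) (R.X j) G') := by
    intro j
    obtain ⟨b, hb⟩ := hR j
    rw [hb]
    exact nu_bijective_Lb (X.sheaf.over U) (hT₀ U) b G'
  haveI : ∀ j, PreservesFiniteLimits (ModSite.sheafHom (R.X j)) :=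
    fun j => sheafHom_preservesFiniteLimits (X.sheaf.over U) (R.X j)
  let θ : ∀ j, (ΓU U).obj (Δ.E 0 (R.X j)) ≅ Δ'.E 0 (R'.X j) := fun j =>
    (ΓU U).mapIso ((Functor.rightDerivedZeroIsoSelf (ModSite.sheafHom (R.X j))).app G') ≪≫
      (LinearEquiv.ofBijective (nu (X.sheaf.over U) (hT₀ U) (R.X j) G') (hbij j)).toModuleIso ≪≫
      (extDeltaZeroIso ((X.sheaf.over U).obj.obj (op (T₀ U))) ((ΓU U).obj G')
        ((ΓU U).obj (R.X j))).symm
  have hθ : ∀ j, (ΓU U).map (Δ.map 0 (R.d j)) ≫ (θ (j + 1)).hom =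
      (θ j).hom ≫ Δ'.map 0 (R'.d j) := by
    intro j
    have ha := rightDerivedZeroIsoSelf_hom_nat (ExtSupp.sheafHomMap (R.d j)) G'
    have hb := nu_square (X.sheaf.over U) (hT₀ U) (R.d j) G'
    have hc := extDeltaZeroIso_naturality ((X.sheaf.over U).obj.obj (op (T₀ U))) ((ΓU U).obj G')
      ((ΓU U).map (R.d j))
    have hc' : (extDeltaZeroIso ((X.sheaf.over U).obj.obj (op (T₀ U))) ((ΓU U).obj G')
          ((ΓU U).obj (R.X j))).inv ≫
        (extDelta ((X.sheaf.over U).obj.obj (op (T₀ U))) ((ΓU U).obj G')).map 0 ((ΓU U).map (R.d j)) =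
        ModuleCat.ofHom (R := (X.sheaf.over U).obj.obj (op (T₀ U)))
          (precompLin ((X.sheaf.over U).obj.obj (op (T₀ U))) ((ΓU U).obj G') ((ΓU U).map (R.d j))) ≫
        (extDeltaZeroIso ((X.sheaf.over U).obj.obj (op (T₀ U))) ((ΓU U).obj G')
          ((ΓU U).obj (R.X (j + 1)))).inv := by
      rw [Iso.inv_comp_eq, ← Category.assoc, Iso.eq_comp_inv]
      exact hc
    change (ΓU U).map ((NatTrans.rightDerived (ExtSupp.sheafHomMap (R.d j)) 0).app G') ≫
      ((ΓU U).map ((Functor.rightDerivedZeroIsoSelf (ModSite.sheafHom (R.X (j + 1)))).hom.app G') ≫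
        ModuleCat.ofHom (R := (X.sheaf.over U).obj.obj (op (T₀ U)))
          (nu (X.sheaf.over U) (hT₀ U) (R.X (j + 1)) G') ≫
        (extDeltaZeroIso ((X.sheaf.over U).obj.obj (op (T₀ U))) ((ΓU U).obj G')
          ((ΓU U).obj (R.X (j + 1)))).inv) =
      ((ΓU U).map ((Functor.rightDerivedZeroIsoSelf (ModSite.sheafHom (R.X j))).hom.app G') ≫
        ModuleCat.ofHom (R := (X.sheaf.over U).obj.obj (op (T₀ U)))
          (nu (X.sheaf.over U) (hT₀ U) (R.X j) G') ≫
        (extDeltaZeroIso ((X.sheaf.over U).obj.obj (op (T₀ U))) ((ΓU U).obj G')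
          ((ΓU U).obj (R.X j))).inv) ≫
      (extDelta ((X.sheaf.over U).obj.obj (op (T₀ U))) ((ΓU U).obj G')).map 0 ((ΓU U).map (R.d j))
    rw [← Category.assoc, ← Functor.map_comp, ha, Functor.map_comp, Category.assoc, Category.assoc,
      Category.assoc, hc']
    congr 1
    have hb' := hb =≫ (extDeltaZeroIso ((X.sheaf.over U).obj.obj (op (T₀ U))) ((ΓU U).obj G')
          ((ΓU U).obj (R.X (j + 1)))).inv
    rw [Category.assoc, Category.assoc] at hb'
    exact hb'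
  have hT : ∀ i, Nonempty (((scE Δ R i).map (ΓU U)).homology ≅ (ΓU U).obj (scE Δ R i).homology) := by
    intro i
    have hE : ∀ j, QC U (Δ.E 0 (R.X j)) := fun j =>
      Groth.Agent.Lib.T2H6.ExtZQCoh.isQuasicoherent_Φ_extSh U hU G' hG' 0 (R.X j) (hQX j)
    exact nonempty_homology_map_iso (ΓU U) (QC U) (QC_kernel U) (QC_cokernel U)
      (QC_epi U hU) (scE Δ R i) (hE i) (hE (i + 1)) (hE (i + 2))
  cases i with
  | zero => exact compare_zero Δ R Δ' R' (ΓU U) θ hθ
  | succ i => exact compare_succ Δ R hacyc Δ' R' hacyc' (ΓU U) θ hθ i (hT i)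


omit [HasInjectiveResolutions (ModSite.Mod (X.sheaf.over U))] in
/-- **Sections of the local Ext sheaves over an affine open** of a locally Noetherian scheme:
`Γ(U, ℰxt^i(F, G)) ≃ Ext^i_{Γ(U, O)}(F(U), G(U))` for `F` coherent and `G` quasi-coherent. -/
theorem nonempty_sections_extSh_equiv' (hU : IsAffineOpen U) (F G : X.Modules) (hF : Coh.IsCoh F)
    (hG : G.IsQuasicoherent) [ModSite.HasSheafHom (O := X.sheaf) F]
    [HasInjectiveResolutions (ModSite.Mod X.sheaf)] (i : ℕ) :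
    Nonempty (((ModSite.extSh (O := X.sheaf) F i).obj G).val.obj (op U)
      ≃ₗ[Γ(X, U)] Abelian.Ext.{u} (ModuleCat.of Γ(X, U) (F.val.obj (op U)))
        (ModuleCat.of Γ(X, U) (G.val.obj (op U))) i) := by
  haveI : EnoughInjectives (ModSite.Mod (X.sheaf.over U)) :=
    Groth.Agent.S0485.result ((Opens.grothendieckTopology X).over U) _
  obtain ⟨φ⟩ := Groth.Agent.S12887.result X.sheaf U F i
  obtain ⟨ψ⟩ := nonempty_ΓU_extSh_iso' U hU _ _ (QCoh_restr U F hF) (QC_restr U G hG) i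
  let e₁ := secRestrEquiv U ((ModSite.extSh (O := X.sheaf) F i).obj G)
  let e₂ := ((ΓU U).mapIso (φ.app G)).toLinearEquiv
  let e₃ := ψ.toLinearEquiv
  let a : (ΓU U).obj ((ModSite.restr X.sheaf U).obj F) ≅ ModuleCat.of Γ(X, U) (F.val.obj (op U)) :=
    (secRestrEquiv U F).symm.toModuleIso
  let b : (ΓU U).obj ((ModSite.restr X.sheaf U).obj G) ≅ ModuleCat.of Γ(X, U) (G.val.obj (op U)) :=
    (secRestrEquiv U G).symm.toModuleIso
  exact ⟨e₁ ≪≫ₗ e₂ ≪≫ₗ e₃ ≪≫ₗ extCongr a b i⟩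

end Groth.Agent.Lib.T2H6.ExtSec
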