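import Mathlib
import Groth.Agent.Lib.T2H6ExtSecI
import Groth.Agent.Lib.Helper23FinType2
set_option backward.isDefEq.respectTransparency.types false

/-!
# T2H6ExtChangeRing (helper6): `ℰxt^i(M~, N~) ≅ Ext^i_A(M, N)~` on `Spec A`, `A` Noetherian, `M` finite

Namespace `Groth.Agent.Lib.T2H6.ExtChangeRing`.

* `Res e` : restriction of scalars along a ring isomorphism `e : A ≃+* B`; `bijective_mapExt`, `mapExt_smul` :
  the induced map on `Ext` is a bijection, semilinear along `e`; `extResIso`.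
* `resΓIso K : Res (Γ(Spec R, ⊤)-module K(⊤)) ≅ moduleSpecΓFunctor K`.
* `nonempty_extSh_tilde_iso` : the main statement.
-/

set_option autoImplicit false
set_option linter.style.haveILetI false
universe u
open CategoryTheory CategoryTheory.Limits Opposite AlgebraicGeometry TopologicalSpace CategoryTheory.Abelian

namespace Groth.Agent.Lib.T2H6.ExtChangeRing

section alg

variable {A B : Type u} [CommRing A] [CommRing B] (e : A ≃+* B)

/-- restriction of scalars along a ring isomorphism. -/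
noncomputable abbrev Res : ModuleCat.{u} B ⥤ ModuleCat.{u} A := ModuleCat.restrictScalars e.toRingHom

theorem Res_map_smul (Q : ModuleCat.{u} B) (a : A) :
    (Res e).map (e a • 𝟙 Q) = a • 𝟙 ((Res e).obj Q) := by
  ext x
  rfl

theorem bijective_mapExt (P Q : ModuleCat.{u} B) (i : ℕ) :
    Function.Bijective ((Res e).mapExtAddHom P Q i :
      Ext.{u} P Q i →+ Ext.{u} ((Res e).obj P) ((Res e).obj Q) i) :=
  Functor.mapExt_bijective_of_preservesProjectiveObjects (Res e) P Q i

theorem mapExt_smul (P Q : ModuleCat.{u} B) (i : ℕ) (a : A) (x : Ext.{u} P Q i) :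
    ((Res e).mapExtAddHom P Q i :
        Ext.{u} P Q i →+ Ext.{u} ((Res e).obj P) ((Res e).obj Q) i) (e a • x)
      = a • ((Res e).mapExtAddHom P Q i :
        Ext.{u} P Q i →+ Ext.{u} ((Res e).obj P) ((Res e).obj Q) i) x := by
  rw [Ext.smul_eq_comp_mk₀, Ext.smul_eq_comp_mk₀]
  simp only [Functor.mapExtAddHom_apply]
  rw [Ext.mapExactFunctor_comp, Ext.mapExactFunctor_mk₀, Res_map_smul]

/-- **Change of rings for `Ext` along a ring isomorphism**. -/
noncomputable def extResIso (P Q : ModuleCat.{u} B) (i : ℕ) :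
    (Res e).obj (ModuleCat.of B (Ext.{u} P Q i)) ≅
      ModuleCat.of A (Ext.{u} ((Res e).obj P) ((Res e).obj Q) i) :=
  LinearEquiv.toModuleIso
    (X₁ := (Res e).obj (ModuleCat.of B (Ext.{u} P Q i)))
    (X₂ := ModuleCat.of A (Ext.{u} ((Res e).obj P) ((Res e).obj Q) i))
    ({ AddEquiv.ofBijective ((Res e).mapExtAddHom P Q i :
        Ext.{u} P Q i →+ Ext.{u} ((Res e).obj P) ((Res e).obj Q) i) (bijective_mapExt e P Q i) with
      map_smul' := fun a x => mapExt_smul e P Q i a x } :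
      ((Res e).obj (ModuleCat.of B (Ext.{u} P Q i)) : Type u) ≃ₗ[A]
        Ext.{u} ((Res e).obj P) ((Res e).obj Q) i)

end alg

section spec

variable (R : CommRingCat.{u})

/-- the ring isomorphism `R ≃ Γ(Spec R, ⊤)`. -/
noncomputable def eΓ : R ≃+* Γ(Spec R, ⊤) := (Scheme.ΓSpecIso R).symm.commRingCatIsoToRingEquiv

theorem eΓ_apply (r : R) : eΓ R r = (Scheme.ΓSpecIso R).inv r := rfl

/-- global sections as a `Γ(Spec R, ⊤)`-module, restricted to `R`, are `moduleSpecΓFunctor`. -/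
noncomputable def resΓIso (K : (Spec R).Modules) :
    (Res (eΓ R)).obj (ModuleCat.of Γ(Spec R, ⊤) (K.val.obj (op ⊤))) ≅ moduleSpecΓFunctor.obj K :=
  LinearEquiv.toModuleIso
    (X₁ := (Res (eΓ R)).obj (ModuleCat.of Γ(Spec R, ⊤) (K.val.obj (op ⊤))))
    (X₂ := moduleSpecΓFunctor.obj K)
    ({ AddEquiv.refl (K.val.obj (op ⊤)) with
      map_smul' := fun r x => by
        have h : (⊤ : (Spec R).Opens).leTop.op = 𝟙 _ := rfl
        have h2 := Scheme.Modules.smul_Spec_def (M := K) (U := ⊤) r x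
        rw [h, (Spec R).presheaf.map_id] at h2
        exact h2.symm } :
      ((Res (eΓ R)).obj (ModuleCat.of Γ(Spec R, ⊤) (K.val.obj (op ⊤))) : Type u) ≃ₗ[R]
        (moduleSpecΓFunctor.obj K : Type u))

attribute [local instance] Groth.Agent.Lib.Helper21.ExtShDelta.hasSheafHom in
/-- **`ℰxt^i(M~, N~) ≅ Ext^i_R(M, N)~`** on `Spec R`, `R` Noetherian, `M` finite. -/
theorem nonempty_extSh_tilde_iso [IsNoetherianRing R] (M N : ModuleCat.{u} R) [Module.Finite R M]
    [ModSite.HasSheafHom (O := (Spec R).sheaf) (tilde M)]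
    [HasInjectiveResolutions (ModSite.Mod (Spec R).sheaf)] (i : ℕ) :
    Nonempty (((ModSite.extSh (O := (Spec R).sheaf) (tilde M) i).obj (tilde N)) ≅
      tilde (ModuleCat.of R (Ext.{u} M N i))) := by
  have hF : Coh.IsCoh (tilde M) :=
    ⟨inferInstance, (Groth.Agent.Lib.Helper23.FinType.isFiniteType_tilde_iff R M).2 inferInstance⟩
  have hG : (tilde N).IsQuasicoherent := inferInstance
  have hE := Groth.Agent.Lib.T2H6.ExtZQCoh.isQuasicoherent_extSh (tilde M) (tilde N) hF hG i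
  obtain ⟨φ⟩ := Groth.Agent.Lib.T2H6.ExtSec.nonempty_sections_extSh_equiv' (⊤ : (Spec R).Opens)
    (isAffineOpen_top _) (tilde M) (tilde N) hF hG i
  set E : (Spec R).Modules := (ModSite.extSh (O := (Spec R).sheaf) (tilde M) i).obj (tilde N) with hEdef
  haveI : E.IsQuasicoherent := hE
  let e₁ : E ≅ tilde (moduleSpecΓFunctor.obj E) := (asIso (Scheme.Modules.fromTildeΓ E)).symm
  let a : (Res (eΓ R)).obj (ModuleCat.of Γ(Spec R, ⊤) ((tilde M).val.obj (op ⊤))) ≅ M :=
    resΓIso R (tilde M) ≪≫ (tilde.isoTop M).symm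
  let b : (Res (eΓ R)).obj (ModuleCat.of Γ(Spec R, ⊤) ((tilde N).val.obj (op ⊤))) ≅ N :=
    resΓIso R (tilde N) ≪≫ (tilde.isoTop N).symm
  let c : moduleSpecΓFunctor.obj E ≅ ModuleCat.of R (Ext.{u} M N i) :=
    (resΓIso R E).symm ≪≫ (Res (eΓ R)).mapIso φ.toModuleIso ≪≫ extResIso (eΓ R) _ _ i ≪≫
      (Groth.Agent.Lib.T2H6.ExtSec.extCongr a b i).toModuleIso
  exact ⟨e₁ ≪≫ (tilde.functor R).mapIso c⟩

end spec

end Groth.Agent.Lib.T2H6.ExtChangeRing
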