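import Mathlib
import Groth.Agent.Lib.T2H6ExtCodimC
import Groth.Agent.Lib.LeadAbutZero
import Groth.Agent.Lib.T2H6LocGlobE
import Groth.Agent.Lib.Helper23TensorUnit
import Groth.Agent.Lib.T2H5PushUnit
import Groth.Agent.Lib.T2H5Chevalley
import Groth.Agent.S11919
set_option backward.isDefEq.respectTransparency.types false

set_option autoImplicit false
set_option linter.style.haveILetI false
universe v u
open CategoryTheory CategoryTheory.Limits CategoryTheory.Abelian AlgebraicGeometry Opposite IsLocalRing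

namespace Groth.Agent.Lib.T2H6.ExtCodim

section SS

variable {C : Type u} [Category.{v} C] [Abelian C]

open Groth.Agent.LeadAbutZero in
/-- if all `E_2`-terms on the `l`-th antidiagonal vanish, so does the abutment `H l` (finite filtration). -/
theorem isZero_abutment_of_isZero_E2 (E : E₂CohomologicalSpectralSequence C) (H : ℤ → C)
    (a : SpSeq.Abutment E H) (l : ℤ) (hfin : a.IsFinite l)
    (hz : ∀ i : ℤ, IsZero ((E.page 2 le_rfl).X (i, l - i))) : IsZero (H l) := by
  have hstep : ∀ i : ℤ, a.fil l (i + 1) = a.fil l i := fun i =>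
    eq_of_isZero_grPiece _ (a.anti l) i (isZero_gr a l i (hz i))
  have htop : a.fil l 0 = ⊤ := eq_top_of_const (a.fil l) (a.anti l) 0 (fun i _ => hstep i) hfin.1
  have hbot : a.fil l (0 + 1) = ⊥ :=
    eq_bot_of_const (a.fil l) (a.anti l) 0 (fun i _ => hstep i) hfin.2
  have htb : (⊤ : Subobject (H l)) = ⊥ := by rw [← htop, ← hbot, hstep 0]
  rw [IsZero.iff_id_eq_zero]
  have h0 : (⊤ : Subobject (H l)).arrow = 0 := arrow_eq_zero_of_eq_bot _ htb
  rw [← cancel_epi (⊤ : Subobject (H l)).arrow, Category.comp_id, comp_zero]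
  exact h0

end SS

section LG

variable {X : Scheme.{u}}

/-- **local-to-global vanishing**: if `ℰxt^b(F, G) = 0` for all `b < p` then `Ext^i(F, G) = 0` for
`i < p` (from the local-to-global spectral sequence S11919). -/
theorem subsingleton_ext_of_isZero_extSh (F G : X.Modules)
    [ModSite.HasSheafHom (O := X.sheaf) F] [HasInjectiveResolutions (ModSite.Mod X.sheaf)]
    [HasExt.{u} X.Modules] (p : ℕ)
    (h : ∀ b : ℕ, b < p → IsZero ((ModSite.extSh (O := X.sheaf) F b).obj G)) (i : ℕ) (hi : i < p) :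
    Subsingleton (Abelian.Ext F G i) := by
  obtain ⟨E, a, hfin, -, hE2⟩ := Groth.Agent.S11919.result X F G
  have hz : ∀ j : ℤ, IsZero ((E.page 2 le_rfl).X (j, (i : ℤ) - j)) := by
    intro j
    obtain ⟨ε⟩ := hE2 j ((i : ℤ) - j)
    refine IsZero.of_iso ?_ ε
    split_ifs with hc
    · obtain ⟨hj0, hj1⟩ := hc
      have hb : ((i : ℤ) - j).toNat < p := by omega
      haveI := Groth.Agent.Lib.T2H5.Chevalley.subsingleton_HH_of_isZero (h _ hb) j.toNat
      exact AddCommGrpCat.isZero_of_subsingleton _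
    · exact isZero_zero _
  have hH := isZero_abutment_of_isZero_E2 E _ a (i : ℤ) (hfin _) hz
  simp only [Int.natCast_nonneg, if_true, Int.toNat_natCast] at hH
  exact AddCommGrpCat.subsingleton_of_isZero hH

end LG

section LF

variable {X : Scheme.{u}}

open Groth.Agent.Lib.T2H6.LocGlob

attribute [local instance] Groth.Agent.Lib.Helper21.ExtShDelta.hasSheafHom in
/-- if `Ext^b_{O_x}(F_x, O_x) = 0` for all `x` then `ℰxt^b(F, L) = 0` for `L` finite locally free. -/
theorem isZero_extSh_locFree_of_pointwise [IsLocallyNoetherian X]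
    [HasInjectiveResolutions (ModSite.Mod X.sheaf)] (F L : X.Modules) (hF : Coh.IsCoh F)
    (hL : FlatMod.IsFinLocFree L) (b : ℕ)
    (h : ∀ x : X, Subsingleton (Ext.{u} (ModuleCat.of (X.presheaf.stalk x) (F.presheaf.stalk x))
        (ModuleCat.of (X.presheaf.stalk x) (X.presheaf.stalk x)) b)) :
    IsZero ((ModSite.extSh (O := X.sheaf) F b).obj L) := by
  have hO : FlatMod.IsFinLocFree (Coh.structureModule X) :=
    Groth.Agent.Lib.T2H5.PushUnit.isFinLocFree_structureModule X
  have hz : IsZero ((ModSite.extSh (O := X.sheaf) F b).obj (Coh.structureModule X)) :=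
    (Groth.Agent.Lib.T2H6.ExtLoc.isZero_extSh_iff F (Coh.structureModule X) hF
      (Groth.Agent.Lib.Helper23.TensorUnit.isInvertible_structureModule X)
      (Groth.Agent.Lib.T2H4.HZshLF.isCoh_of_isFinLocFree _ hO) b).2 h
  exact isZero_EE_locFree_of_invertible b F (Coh.structureModule X) (Coh.structureModule X) L
    (Groth.Agent.Lib.Helper23.TensorUnit.unitTensorIso (Coh.structureModule X)) hO hL hz

/-- arithmetic in `WithBot ℕ∞`. -/
theorem le_sub_of_add_le (D : WithBot ℕ∞) (hD : 0 ≤ D) (p n : ℕ) (h : D + p ≤ n) :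
    p ≤ n ∧ D ≤ ((n - p : ℕ) : WithBot ℕ∞) := by
  induction D with
  | bot => exact absurd hD (by simp)
  | coe e =>
    induction e with
    | top =>
      exfalso
      have h' : ((⊤ : ℕ∞) : WithBot ℕ∞) + (p : WithBot ℕ∞) ≤ (n : WithBot ℕ∞) := h
      have h2 : (((⊤ : ℕ∞) + (p : ℕ∞) : ℕ∞) : WithBot ℕ∞) ≤ ((n : ℕ∞) : WithBot ℕ∞) := by
        exact_mod_cast h'
      rw [WithBot.coe_le_coe, top_add, top_le_iff] at h2
      exact ENat.natCast_ne_top n h2
    | coe m =>
      have h' : ((m + p : ℕ) : WithBot ℕ∞) ≤ (n : WithBot ℕ∞) := by exact_mod_cast h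
      have h2 : m + p ≤ n := by exact_mod_cast h'
      refine ⟨by omega, ?_⟩
      have : m ≤ n - p := by omega
      show ((m : ℕ∞) : WithBot ℕ∞) ≤ (((n - p : ℕ) : ℕ∞) : WithBot ℕ∞)
      exact WithBot.coe_le_coe.2 (Nat.cast_le.2 this)

end LF

end Groth.Agent.Lib.T2H6.ExtCodim
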