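import Mathlib
import Groth.Agent.Lib.Helper28DepthLoc
import Groth.Agent.Lib.Helper8Rees
set_option backward.isDefEq.respectTransparency.types false

/-!
# T2H6ExtDepthA (helper6): Rees' theorem in terms of `idealDepth` of the annihilator

Namespace `Groth.Agent.Lib.T2H6.ExtDepth`.

* `subsingleton_ext_of_lt_idealDepth` : `Ext^i(M, N) = 0` for `i < n ≤ depth_{ann M} N`.
* `le_idealDepth_of_subsingleton_ext` : conversely `n ≤ depth_{ann M} N` if `Ext^i(M, N) = 0` for all `i < n`.
-/

set_option autoImplicit false
set_option linter.style.haveILetI false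
set_option linter.unusedSectionVars false
universe u
open CategoryTheory CategoryTheory.Abelian RingTheory.Sequence

namespace Groth.Agent.Lib.T2H6.ExtDepth

open Groth.Agent.Lib.Helper28

section Alg

variable {A : Type u} [CommRing A] [IsNoetherianRing A] (M N : Type u) [AddCommGroup M] [Module A M]
  [Module.Finite A M] [AddCommGroup N] [Module A N] [Module.Finite A N]

/-- Rees: `Ext^i(M, N) = 0` for `i < depth_{ann M} N`. -/
theorem subsingleton_ext_of_lt_idealDepth (n : ℕ)
    (h : (n : ℕ∞) ≤ LocCoh.idealDepth (Module.annihilator A M) N) (i : ℕ) (hi : i < n) :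
    Subsingleton (Ext.{u} (ModuleCat.of A M) (ModuleCat.of A N) i) := by
  by_cases htop : (Module.annihilator A M) • (⊤ : Submodule A N) = ⊤
  · obtain ⟨r, hr1, hr0⟩ := Submodule.exists_sub_one_mem_and_smul_eq_zero_of_fg_of_le_smul
      (Module.annihilator A M) (⊤ : Submodule A N) Module.Finite.fg_top htop.ge
    have key : ∀ z : Ext.{u} (ModuleCat.of A M) (ModuleCat.of A N) i, z = 0 := by
      intro z
      have h1 : r • z = 0 := ext_smul_eq_zero_of_mem_annihilator_right
        (Module.mem_annihilator.mpr fun m => hr0 m trivial) z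
      have h2 : (r - 1) • z = 0 := ext_smul_eq_zero_of_mem_annihilator_left hr1 z
      have : z = r • z - (r - 1) • z := by rw [sub_smul, one_smul]; abel
      rw [this, h1, h2, sub_zero]
    exact ⟨fun x y => by rw [key x, key y]⟩
  · obtain ⟨rs, hlen, hmem, hreg⟩ := (natCast_le_idealDepth_iff htop n).1 h
    have := (Groth.Agent.Lib.Helper8.Rees.rees (ModuleCat.of A M) rs (ModuleCat.of A N) hmem
      hreg.toIsWeaklyRegular).1 i (by rw [hlen]; exact hi)
    exact this

/-- converse of Rees: if `Ext^i(M, N) = 0` for all `i < n` then `n ≤ depth_{ann M} N`. -/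
theorem le_idealDepth_of_subsingleton_ext (n : ℕ)
    (h : ∀ i < n, Subsingleton (Ext.{u} (ModuleCat.of A M) (ModuleCat.of A N) i)) :
    (n : ℕ∞) ≤ LocCoh.idealDepth (Module.annihilator A M) N := by
  by_cases htop : (Module.annihilator A M) • (⊤ : Submodule A N) = ⊤
  · rw [idealDepth_eq_top_of_smul_top_eq_top _ _ htop]
    exact le_top
  · rw [natCast_le_idealDepth_iff htop n]
    exact ModuleCat.exists_isRegular_of_exists_subsingleton_ext (Module.annihilator A M) n
      (ModuleCat.of A N) (lt_top_iff_ne_top.mpr htop) (ModuleCat.of A M)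
      (Module.support_eq_zeroLocus (R := A) (M := M)) h

end Alg

end Groth.Agent.Lib.T2H6.ExtDepth
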