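import Mathlib
import Groth.Agent.Lib.T2H6ExtDepthA
import Groth.Agent.Lib.T2H6ExtLocC
import Groth.Agent.Lib.T2H4DepthOpen
import Groth.Agent.Lib.T2H5FinSurj
import Groth.Agent.Lib.Helper11RedCl
set_option backward.isDefEq.respectTransparency.types false

/-!
# T2H6ExtDepthB (helper6): depth along the support vs vanishing of the local Ext sheaves

Namespace `Groth.Agent.Lib.T2H6.ExtDepth`. `X` locally Noetherian, `F`, `G` coherent.

* `mem_support_iff_annihilator_le` : support of `G` on an affine open via the annihilator of the sections.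
* `exists_coh_support_eq` : a coherent module with prescribed closed support.
* `isZero_extSh_of_depth_ge` : `depth F_x ≥ n` on `Supp G` implies `ℰxt^i(G, F) = 0` for `i < n`.
* `depth_ge_of_isZero_extSh` : the converse.
-/

set_option autoImplicit false
set_option linter.style.haveILetI false
set_option linter.unusedSectionVars false
universe u
open CategoryTheory CategoryTheory.Limits CategoryTheory.Abelian AlgebraicGeometry Opposite

namespace Groth.Agent.Lib.T2H6.ExtDepth

open Groth.Agent.Lib.T2H6.ExtSec Groth.Agent.Lib.T2H6.ExtLoc Groth.Agent.Lib.Helper4.NormDelta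
  Groth.Agent.Lib.Helper2.Push Groth.Agent.Lib.Helper28

variable {X : Scheme.{u}}

/-- a point of an affine open lies in the support of a quasi-coherent module of finite type iff its prime contains
the annihilator of the sections. -/
theorem mem_support_iff_annihilator_le {W : X.Opens} (hW : IsAffineOpen W) (G : X.Modules)
    [G.IsQuasicoherent] [Module.Finite Γ(X, W) Γ(G, W)] (x : X) (hx : x ∈ W) :
    x ∈ CohB1.support G ↔ Module.annihilator Γ(X, W) Γ(G, W) ≤ (hW.primeIdealOf ⟨x, hx⟩).asIdeal := by
  letI := sectionStalkModule G W x hx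
  haveI := isLocalizedModule_germLin hW (IsLocOn.of_isQuasicoherent hW G) x hx
  change ¬ Subsingleton (G.presheaf.stalk x) ↔ _
  rw [IsLocalizedModule.subsingleton_iff (hW.primeIdealOf ⟨x, hx⟩).asIdeal.primeCompl (germLin G W x hx),
    ← Module.mem_support_iff_of_finite, ← not_iff_not, not_not, Module.notMem_support_iff']
  rfl

/-- a coherent module with a prescribed closed support. -/
theorem exists_coh_support_eq (Z : TopologicalSpace.Closeds X) :
    ∃ G : X.Modules, Coh.IsCoh G ∧ CohB1.support G = (Z : Set X) := by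
  let ι := (Scheme.IdealSheafData.vanishingIdeal Z).subschemeι
  have hr : Set.range ι = (Z : Set X) := Groth.Agent.Lib.Helper11RedCl.range_subschemeι_vanishingIdeal Z
  refine ⟨(Scheme.Modules.pushforward ι).obj (Coh.structureModule _),
    Groth.Agent.Lib.T2H5.GenIsoD.isCoh_pushforward ι _
      Groth.Agent.Lib.T2H5.GenIsoF.isCoh_structureModule, ?_⟩
  apply Set.Subset.antisymm
  · rw [← hr]
    exact Groth.Agent.Lib.T2H5.GenIsoC.support_pushforward_subset ι _ (by rw [hr]; exact Z.2)
  · intro x hx
    rw [← hr] at hx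
    obtain ⟨z, rfl⟩ := hx
    exact Groth.Agent.Lib.T2H5.FinSurj.mem_support_pushforward_structureModule ι z

section Main

variable [IsLocallyNoetherian X] (F G : X.Modules) (hF : Coh.IsCoh F) (hG : Coh.IsCoh G)
  [ModSite.HasSheafHom (O := X.sheaf) G] [HasInjectiveResolutions (ModSite.Mod X.sheaf)] (n : ℕ)

include hF hG in
/-- if `depth F_x ≥ n` at every point of the support of `G` then `ℰxt^i(G, F) = 0` for `i < n`. -/
theorem isZero_extSh_of_depth_ge
    (h : ∀ x ∈ CohB1.support G, (n : ℕ∞) ≤ LocCoh.depth (X.presheaf.stalk x) (F.presheaf.stalk x))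
    (i : ℕ) (hi : i < n) : IsZero (EEs G i F) := by
  haveI := hF.1
  haveI := hF.2
  haveI := hG.1
  haveI := hG.2
  refine Groth.Agent.Lib.Helper20.OmegaUnr.isZero_of_basis (EEs G i F) X.affineOpens
    X.isBasis_affineOpens (fun W hW => ?_)
  haveI : IsNoetherianRing Γ(X, W) := IsLocallyNoetherian.component_noetherian ⟨W, hW⟩
  haveI : Module.Finite Γ(X, W) Γ(F, W) :=
    Groth.Agent.Lib.Helper23.FinType.finite_of_isFiniteType F hW
  haveI : Module.Finite Γ(X, W) Γ(G, W) :=
    Groth.Agent.Lib.Helper23.FinType.finite_of_isFiniteType G hW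
  obtain ⟨ψ⟩ := nonempty_sections_extSh_equiv W hW G F hG hF i
  have hd : (n : ℕ∞) ≤ LocCoh.idealDepth (Module.annihilator Γ(X, W) Γ(G, W)) Γ(F, W) := by
    rw [idealDepth_eq_iInf_depth_localization]
    refine le_iInf₂ (fun p hp => ?_)
    have hx := fromSpec_mem hW p
    have hpp := primeIdealOf_fromSpec hW p
    have hsupp : hW.fromSpec p ∈ CohB1.support G := by
      rw [mem_support_iff_annihilator_le hW G _ hx, hpp]
      exact hp
    have h1 := h _ hsupp
    rw [Groth.Agent.Lib.T2H4.DepthOpen.depth_stalk_eq hW F _ hx, hpp] at h1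
    exact h1
  have := subsingleton_ext_of_lt_idealDepth Γ(G, W) Γ(F, W) n hd i hi
  exact ψ.toEquiv.subsingleton_congr.2 this

include hF hG in
/-- if `ℰxt^i(G, F) = 0` for all `i < n` then `depth F_x ≥ n` at every point of the support of `G`. -/
theorem depth_ge_of_isZero_extSh (h : ∀ i : ℕ, i < n → IsZero (EEs G i F)) (x : X)
    (hx : x ∈ CohB1.support G) :
    (n : ℕ∞) ≤ LocCoh.depth (X.presheaf.stalk x) (F.presheaf.stalk x) := by
  haveI := hF.1
  haveI := hF.2
  haveI := hG.1
  haveI := hG.2
  obtain ⟨W, hW, hxW, -⟩ := TopologicalSpace.Opens.isBasis_iff_nbhd.mp X.isBasis_affineOpens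
    (show x ∈ (⊤ : X.Opens) from trivial)
  haveI : IsNoetherianRing Γ(X, W) := IsLocallyNoetherian.component_noetherian ⟨W, hW⟩
  haveI : Module.Finite Γ(X, W) Γ(F, W) :=
    Groth.Agent.Lib.Helper23.FinType.finite_of_isFiniteType F hW
  haveI : Module.Finite Γ(X, W) Γ(G, W) :=
    Groth.Agent.Lib.Helper23.FinType.finite_of_isFiniteType G hW
  have hext : ∀ i < n, Subsingleton (Ext.{u} (ModuleCat.of Γ(X, W) Γ(G, W))
      (ModuleCat.of Γ(X, W) Γ(F, W)) i) := by
    intro i hi
    obtain ⟨ψ⟩ := nonempty_sections_extSh_equiv W hW G F hG hF i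
    exact ψ.toEquiv.subsingleton_congr.1
      (Groth.Agent.Lib.Helper20.OmegaUnr.subsingleton_sections_of_isZero (h i hi) W)
  have hd := le_idealDepth_of_subsingleton_ext Γ(G, W) Γ(F, W) n hext
  have hann := (mem_support_iff_annihilator_le hW G x hxW).1 hx
  rw [Groth.Agent.Lib.T2H4.DepthOpen.depth_stalk_eq hW F x hxW]
  exact hd.trans (idealDepth_le_depth_localization _ _ hann)

end Main

end Groth.Agent.Lib.T2H6.ExtDepth
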