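import Mathlib
import Groth.Agent.Lib.T2H6ExtZQCohB
import Groth.Agent.Lib.Helper21GSS
import Groth.Agent.Lib.T2H5SSSerre
import Groth.Agent.Lib.Helper21GammaZ2
import Groth.Agent.Lib.T2H2AffRedF
import Groth.Agent.S6150

set_option backward.isDefEq.respectTransparency.types false

/-!
# Quasi-coherence of `ℰxt^i_Z(F, G)` (helper6), part C

The spectral sequence `ℋ^p_Z(ℰxt^q(F, G)) ⇒ ℰxt^{p+q}_Z(F, G)` and the weak Serre class of quasi-coherent modules.
-/

set_option autoImplicit false
set_option linter.style.haveILetI false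
set_option linter.unusedSectionVars false
universe u
open CategoryTheory CategoryTheory.Limits AlgebraicGeometry TopologicalSpace Opposite

namespace Groth.Agent.Lib.T2H6.ExtZQCoh

open Groth.Agent.Lib.Helper23.QCohLocal

variable {X : Scheme.{u}}

/-- quasi-coherent modules form a weak Serre class -/
theorem isWeakSerreClass_isQuasicoherent :
    Groth.Agent.Lib.T2H5.SSSerre.IsWeakSerreClass (C := X.Modules) (fun M => M.IsQuasicoherent) where
  iso e h := qc_iso e h
  kernel φ h1 h2 := by
    haveI := h1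
    haveI := h2
    exact isQuasicoherent_kernel φ
  cokernel φ h1 h2 := by
    haveI := h1
    haveI := h2
    exact isQuasicoherent_cokernel φ
  ext S hS h1 h3 := isQuasicoherent_of_shortExact S hS h1 h3
  zero M hM := Groth.Agent.Lib.T2H2.AffRed.isQuasicoherent_of_isZero hM

/-- **S12879**: `ℰxt^i_Z(F, G)` is quasi-coherent for `F` coherent and `G` quasi-coherent on a locally Noetherian
scheme. -/
theorem isQuasicoherent_extZSh [IsLocallyNoetherian X] (U : X.Opens)
    (F G : X.Modules) (hF : Coh.IsCoh F) (hG : G.IsQuasicoherent)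
    [ModSite.HasSheafHom (O := X.sheaf) F] [HasInjectiveResolutions (ModSite.Mod X.sheaf)] (i : ℕ) :
    ((ModSite.extZSh (O := X.sheaf) U F i).obj G).IsQuasicoherent := by
  classical
  let T : ModSite.Mod X.sheaf ⥤ ModSite.Mod X.sheaf := ModSite.sheafHom (O := X.sheaf) F
  let S : ModSite.Mod X.sheaf ⥤ ModSite.Mod X.sheaf := ModSite.sectOn X.sheaf U
  haveI : PreservesFiniteLimits S := by
    have h1 : PreservesFiniteLimits (DCoh.gammaZ U.ι) :=
      Groth.Agent.Lib.T2H4.LocCohQC.preservesFiniteLimits_gammaZ U.ι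
    exact @preservesFiniteLimits_of_natIso _ _ _ _ _ _ (sectOnGammaZIso U).symm h1
  have hT : ∀ Q : ModSite.Mod X.sheaf, Injective Q → ∀ q : ℕ, 0 < q →
      IsZero ((S.rightDerived q).obj (T.obj Q)) := by
    intro Q hQ q hq
    exact Groth.Agent.Lib.Helper21.GammaZ.isZero_HZsh_of_isTotallyAcyclic X.sheaf U _
      (Groth.Agent.S6150.result X.sheaf F Q) q hq
  obtain ⟨Z0, hZ0⟩ := HasZeroObject.zero (C := ModSite.Mod X.sheaf)
  let H : ℤ → ModSite.Mod X.sheaf := fun n =>
    if 0 ≤ n then ((T ⋙ S).rightDerived n.toNat).obj G else Z0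
  let E2 : ℤ → ℤ → ModSite.Mod X.sheaf := fun p q =>
    if 0 ≤ p ∧ 0 ≤ q then (S.rightDerived p.toNat).obj ((T.rightDerived q.toNat).obj G) else Z0
  obtain ⟨E, a, hfin, -, hpq⟩ := Groth.Agent.Lib.Helper21.GSS.gss_general T S hT G H
    (fun n => by
      simp only [H]
      rw [if_pos (Int.natCast_nonneg n), Int.toNat_natCast]
      exact ⟨Iso.refl _⟩)
    (fun n hn => by
      simp only [H]
      rw [if_neg (by omega)]
      exact hZ0)
    E2
    (fun p q => by
      simp only [E2]
      rw [if_pos ⟨Int.natCast_nonneg p, Int.natCast_nonneg q⟩, Int.toNat_natCast, Int.toNat_natCast]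
      exact ⟨Iso.refl _⟩)
    (fun p q h => by
      simp only [E2]
      rw [if_neg h]
      exact hZ0)
  have hSerre := isWeakSerreClass_isQuasicoherent (X := X)
  have hres : (H (i : ℤ)).IsQuasicoherent := by
    refine Groth.Agent.Lib.T2H5.SSSerre.abutment_le hSerre E H a (i : ℤ) ?_ ?_ (i : ℤ) le_rfl (hfin _)
    · rintro ⟨p, q⟩ hq
      obtain ⟨e'⟩ := hpq p q
      refine IsZero.of_iso ?_ e'
      simp only [E2]
      rw [if_neg (by simp only at hq; omega)]
      exact hZ0
    · rintro ⟨p, q⟩ hp hq -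
      obtain ⟨e'⟩ := hpq p q
      refine qc_iso e'.symm ?_
      simp only [E2]
      simp only at hp hq
      rw [if_pos ⟨hp, hq⟩]
      exact isQuasicoherent_HZsh U _ (isQuasicoherent_extSh F G hF hG q.toNat) p.toNat
  simp only [H] at hres
  rw [if_pos (Int.natCast_nonneg i), Int.toNat_natCast] at hres
  exact hres

end Groth.Agent.Lib.T2H6.ExtZQCoh
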