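import Mathlib
import Groth.Prelude.Def_FEt
import Groth.Agent.S0238

/-!
# Finite etale covers and thickenings: extension of morphisms and of covers
(consequences of the topological invariance of the finite etale site, `S0238`)
-/

set_option autoImplicit false
open CategoryTheory CategoryTheory.Limits AlgebraicGeometry
universe u

namespace Groth.Agent.Lib.T2H6.FEtThick

variable {S S₀ : Scheme.{u}} (i : S₀ ⟶ S) [IsClosedImmersion i] [Surjective i]

theorem restrict_map_left {A B : FEt.Cat S} (a : A ⟶ B) :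
    ((FEt.restrict i).map a).left ≫ pullback.fst B.hom i = pullback.fst A.hom i ≫ a.left := by
  change pullback.lift _ _ _ ≫ pullback.fst B.hom i = _
  exact pullback.lift_fst _ _ _

theorem restrict_map_left_snd {A B : FEt.Cat S} (a : A ⟶ B) :
    ((FEt.restrict i).map a).left ≫ pullback.snd B.hom i = pullback.snd A.hom i := by
  change pullback.lift _ _ _ ≫ pullback.snd B.hom i = _
  exact pullback.lift_snd _ _ _

/-- uniqueness of extensions -/
theorem hom_ext_of_fst {A B : FEt.Cat S} (a b : A ⟶ B)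
    (h : pullback.fst A.hom i ≫ a.left = pullback.fst A.hom i ≫ b.left) : a = b := by
  haveI := Groth.Agent.S0238.result i
  apply (FEt.restrict i).map_injective
  apply MorphismProperty.Over.Hom.ext
  apply pullback.hom_ext
  · exact (restrict_map_left i a).trans (h.trans (restrict_map_left i b).symm)
  · exact (restrict_map_left_snd i a).trans (restrict_map_left_snd i b).symm

/-- existence of extensions -/
theorem exists_hom_of_fst {A B : FEt.Cat S} (c : pullback A.hom i ⟶ B.left)
    (hc : c ≫ B.hom = pullback.fst A.hom i ≫ A.hom) :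
    ∃ φ : A ⟶ B, pullback.fst A.hom i ≫ φ.left = c := by
  haveI := Groth.Agent.S0238.result i
  let ψ : (FEt.restrict i).obj A ⟶ (FEt.restrict i).obj B :=
    MorphismProperty.Over.homMk (pullback.lift c (pullback.snd A.hom i)
      (hc.trans pullback.condition)) (by
        change pullback.lift _ _ _ ≫ pullback.snd B.hom i = pullback.snd A.hom i
        exact pullback.lift_snd _ _ _)
  obtain ⟨φ, hφ⟩ := (FEt.restrict i).map_surjective ψ
  refine ⟨φ, ?_⟩
  rw [← restrict_map_left, hφ]
  change pullback.lift _ _ _ ≫ pullback.fst B.hom i = c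
  exact pullback.lift_fst _ _ _

/-- uniqueness of extensions, for an arbitrary cartesian square -/
theorem hom_ext_of_isPullback {A B : FEt.Cat S} {A₀ : Scheme.{u}} {j : A₀ ⟶ A.left} {g₀ : A₀ ⟶ S₀}
    (sq : IsPullback j g₀ A.hom i) (a b : A ⟶ B) (h : j ≫ a.left = j ≫ b.left) : a = b := by
  apply hom_ext_of_fst i
  have e : pullback.fst A.hom i = sq.isoPullback.inv ≫ j := by
    rw [Iso.eq_inv_comp]; exact sq.isoPullback_hom_fst
  rw [e, Category.assoc, Category.assoc, h]

/-- existence of extensions, for an arbitrary cartesian square -/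
theorem exists_hom_of_isPullback {A B : FEt.Cat S} {A₀ : Scheme.{u}} {j : A₀ ⟶ A.left}
    {g₀ : A₀ ⟶ S₀} (sq : IsPullback j g₀ A.hom i) (c : A₀ ⟶ B.left) (hc : c ≫ B.hom = j ≫ A.hom) :
    ∃ φ : A ⟶ B, j ≫ φ.left = c := by
  obtain ⟨φ, hφ⟩ := exists_hom_of_fst i (A := A) (B := B) (sq.isoPullback.inv ≫ c) (by
    rw [Category.assoc, hc, ← Category.assoc]
    congr 1
    rw [Iso.inv_comp_eq]; exact sq.isoPullback_hom_fst.symm)
  refine ⟨φ, ?_⟩
  have e : j = sq.isoPullback.hom ≫ pullback.fst A.hom i := sq.isoPullback_hom_fst.symm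
  rw [e, Category.assoc, hφ, Iso.hom_inv_id_assoc]

/-- every finite etale cover of `S₀` extends over the thickening -/
theorem exists_extension (Y : FEt.Cat S₀) :
    ∃ (Y' : FEt.Cat S) (j : Y.left ⟶ Y'.left), IsPullback j Y.hom Y'.hom i := by
  haveI := Groth.Agent.S0238.result i
  obtain ⟨Y', ⟨e⟩⟩ := Functor.EssSurj.mem_essImage (F := FEt.restrict i) Y
  obtain ⟨k, hk⟩ : ∃ k : Y.left ⟶ pullback Y'.hom i, k = e.inv.left := ⟨_, rfl⟩
  obtain ⟨k', hk'⟩ : ∃ k' : pullback Y'.hom i ⟶ Y.left, k' = e.hom.left := ⟨_, rfl⟩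
  have h1 : k ≫ k' = 𝟙 _ := by
    rw [hk, hk']
    change e.inv.left ≫ e.hom.left = 𝟙 _
    rw [← MorphismProperty.Comma.comp_left, e.inv_hom_id]; rfl
  have h2 : k' ≫ k = 𝟙 _ := by
    rw [hk, hk']
    change e.hom.left ≫ e.inv.left = 𝟙 _
    rw [← MorphismProperty.Comma.comp_left, e.hom_inv_id]; rfl
  let ι : Y.left ≅ pullback Y'.hom i := ⟨k, k', h1, h2⟩
  have w : k ≫ pullback.snd Y'.hom i = Y.hom := by
    rw [hk]; exact Over.w e.inv.hom
  refine ⟨Y', k ≫ pullback.fst Y'.hom i, ?_⟩
  refine IsPullback.of_iso_pullback ⟨?_⟩ ι rfl w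
  rw [Category.assoc, pullback.condition, ← Category.assoc, w]

end Groth.Agent.Lib.T2H6.FEtThick
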