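-- helper6 (team 2): cartesian squares of systems of thickenings are detected levelwise; the completion of a fibre
-- product along the preimage of a closed subset (EGA I 10.9.7-style)
import Mathlib
import Groth.Agent.Lib.T2H6FSysBasic

set_option autoImplicit false
universe u
open CategoryTheory CategoryTheory.Limits AlgebraicGeometry TopologicalSpace Opposite

namespace Groth.Agent.Lib.T2H6.FSysCart

open Scheme.IdealSheafData Groth.Agent.Lib.T2H6.FSysBasic

noncomputable section

section Levelwise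

variable {P 𝔛 𝔜 𝔖 : FSch.Sys.{u}} (p : P ⟶ 𝔛) (q : P ⟶ 𝔜) (f : 𝔛 ⟶ 𝔖) (g : 𝔜 ⟶ 𝔖)

/-- a square of systems which is cartesian at every level is cartesian -/
theorem isPullback_of_levelwise
    (hl : ∀ n, IsPullback ((p : FSch.Hom P 𝔛).app n) ((q : FSch.Hom P 𝔜).app n)
      ((f : FSch.Hom 𝔛 𝔖).app n) ((g : FSch.Hom 𝔜 𝔖).app n)) : IsPullback p q f g := by
  have w : p ≫ f = q ≫ g := FSch.Hom.ext (funext fun n => (hl n).w)
  refine ⟨⟨w⟩, ⟨PullbackCone.IsLimit.mk w (fun s => ?_) (fun s => ?_) (fun s => ?_)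
    (fun s m hm1 hm2 => ?_)⟩⟩
  · have hs : ∀ n, (s.fst : FSch.Hom _ _).app n ≫ (f : FSch.Hom 𝔛 𝔖).app n =
        (s.snd : FSch.Hom _ _).app n ≫ (g : FSch.Hom 𝔜 𝔖).app n := fun n =>
      congrArg (fun t : FSch.Hom _ _ => t.app n) s.condition
    refine ⟨fun n => (hl n).lift _ _ (hs n), fun n => ?_⟩
    apply (hl (n + 1)).hom_ext
    · rw [Category.assoc, Category.assoc, (hl (n + 1)).lift_fst, ← (p : FSch.Hom P 𝔛).comm n,
        ← Category.assoc, (hl n).lift_fst, (s.fst : FSch.Hom _ _).comm n]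
    · rw [Category.assoc, Category.assoc, (hl (n + 1)).lift_snd, ← (q : FSch.Hom P 𝔜).comm n,
        ← Category.assoc, (hl n).lift_snd, (s.snd : FSch.Hom _ _).comm n]
  · exact FSch.Hom.ext (funext fun n => (hl n).lift_fst _ _ _)
  · exact FSch.Hom.ext (funext fun n => (hl n).lift_snd _ _ _)
  · refine FSch.Hom.ext (funext fun n => ?_)
    apply (hl n).hom_ext
    · rw [(hl n).lift_fst]
      exact congrArg (fun t : FSch.Hom _ _ => t.app n) hm1
    · rw [(hl n).lift_snd]
      exact congrArg (fun t : FSch.Hom _ _ => t.app n) hm2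

end Levelwise

section Closed

variable {X Y S : Scheme.{u}} (g : X ⟶ S) (h : Y ⟶ S)

/-- closed subschemes `Z_P ⊆ X ×_S Y`, `Z_X ⊆ X`, `Z_Y ⊆ Y`, `Z_S ⊆ S` with `Z_P = fst⁻¹ Z_X` and `Z_Y = h⁻¹ Z_S`
form a cartesian square -/
theorem isPullback_subschemeMap (IP : (pullback g h).IdealSheafData) (IX : X.IdealSheafData)
    (IY : Y.IdealSheafData) (IS : S.IdealSheafData)
    (hP : IX.comap (pullback.fst g h) = IP) (hY : IS.comap h = IY)
    (hfst : IX ≤ IP.map (pullback.fst g h)) (hsnd : IY ≤ IP.map (pullback.snd g h))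
    (hg : IS ≤ IX.map g) (hh : IS ≤ IY.map h) :
    IsPullback (subschemeMap IP IX (pullback.fst g h) hfst) (subschemeMap IP IY (pullback.snd g h) hsnd)
      (subschemeMap IX IS g hg) (subschemeMap IY IS h hh) := by
  have hA : IsPullback IP.subschemeι (subschemeMap IP IX (pullback.fst g h) hfst)
      (pullback.fst g h) IX.subschemeι := by
    refine isPullback_of_isClosedImmersion _ _ _ _ (subschemeMap_subschemeι _ _ _ _).symm ?_
    rw [ker_subschemeι, ker_subschemeι, hP]
  have hB : IsPullback IY.subschemeι (subschemeMap IY IS h hh) h IS.subschemeι := by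
    refine isPullback_of_isClosedImmersion _ _ _ _ (subschemeMap_subschemeι _ _ _ _).symm ?_
    rw [ker_subschemeι, ker_subschemeι, hY]
  have houter := hA.paste_horiz (IsPullback.of_hasPullback g h).flip
  rw [← subschemeMap_subschemeι IP IY (pullback.snd g h) hsnd,
    ← subschemeMap_subschemeι IX IS g hg] at houter
  refine (IsPullback.of_right houter ?_ hB).flip
  rw [← cancel_mono IS.subschemeι]
  simp only [Category.assoc, subschemeMap_subschemeι]
  rw [← Category.assoc, ← Category.assoc, subschemeMap_subschemeι, subschemeMap_subschemeι,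
    Category.assoc, Category.assoc, pullback.condition]

end Closed

section Completion

variable {X Y S : Scheme.{u}} (g : X ⟶ S) (h : Y ⟶ S)
  (𝓡 : X.IdealSheafData) (𝓙 : S.IdealSheafData)
  (hg : FSch.PowCompat g 𝓡 𝓙) (hh : FSch.PowCompat h (𝓙.comap h) 𝓙)
  (hp : FSch.PowCompat (pullback.fst g h) (𝓡.comap (pullback.fst g h)) 𝓡)
  (hq : FSch.PowCompat (pullback.snd g h) (𝓡.comap (pullback.fst g h)) (𝓙.comap h))

theorem isPullback_completionMap :
    IsPullback (FSch.completionMap (pullback.fst g h) (𝓡.comap (pullback.fst g h)) 𝓡 hp)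
      (FSch.completionMap (pullback.snd g h) (𝓡.comap (pullback.fst g h)) (𝓙.comap h) hq)
      (FSch.completionMap g 𝓡 𝓙 hg) (FSch.completionMap h (𝓙.comap h) 𝓙 hh) := by
  refine isPullback_of_levelwise _ _ _ _ fun n => ?_
  exact isPullback_subschemeMap g h _ _ _ _ (comap_pow _ _ _) (comap_pow _ _ _)
    (le_map_iff_comap_le.mpr (hp n)) (le_map_iff_comap_le.mpr (hq n))
    (le_map_iff_comap_le.mpr (hg n)) (le_map_iff_comap_le.mpr (hh n))

end Completion

end

end Groth.Agent.Lib.T2H6.FSysCart
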