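import Mathlib
import Groth.Prelude.Def_FSch4
import Groth.Agent.Lib.T2H6FEtThick

/-!
# Etale covers of a formal system are the finite etale covers of its smallest level
-/

set_option autoImplicit false
open CategoryTheory CategoryTheory.Limits AlgebraicGeometry
universe u

namespace Groth.Agent.Lib.T2H6.FSysEtCov

variable {𝔛 : FSch.Sys.{u}}

/-- level `n` of an etale cover, as a finite etale cover of `X n` -/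
noncomputable def lvl {R : FSch.Sys.{u}} (r : R ⟶ 𝔛) (hr : FSch.IsEtaleCover r) (n : ℕ) :
    FEt.Cat (𝔛.X n) :=
  MorphismProperty.Over.mk ⊤ ((r : FSch.Hom R 𝔛).app n) ⟨(hr.2 n).1, (hr.2 n).2⟩

section Hom

variable (h𝔛 : 𝔛.IsFormal) {R R' : FSch.Sys.{u}} (r : R ⟶ 𝔛) (r' : R' ⟶ 𝔛)
  (hr : FSch.IsEtaleCover r) (hr' : FSch.IsEtaleCover r')

include h𝔛 hr hr'

/-- the inductive step: extend a morphism over `X n` to a morphism over `X (n+1)` -/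
theorem exists_step (n : ℕ) (φ : R.X n ⟶ R'.X n)
    (hφ : φ ≫ (r' : FSch.Hom R' 𝔛).app n = (r : FSch.Hom R 𝔛).app n) :
    ∃ φ' : R.X (n + 1) ⟶ R'.X (n + 1),
      φ' ≫ (r' : FSch.Hom R' 𝔛).app (n + 1) = (r : FSch.Hom R 𝔛).app (n + 1) ∧
        R.ι n ≫ φ' = φ ≫ R'.ι n := by
  haveI := (h𝔛 n).1
  haveI : Surjective (𝔛.ι n) := ⟨(h𝔛 n).2⟩
  have sq : IsPullback (R.ι n) ((r : FSch.Hom R 𝔛).app n) (lvl r hr (n + 1)).hom (𝔛.ι n) := hr.1 n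
  have hc : (φ ≫ R'.ι n) ≫ (lvl r' hr' (n + 1)).hom = R.ι n ≫ (lvl r hr (n + 1)).hom := by
    change (φ ≫ R'.ι n) ≫ (r' : FSch.Hom R' 𝔛).app (n + 1) = R.ι n ≫ (r : FSch.Hom R 𝔛).app (n + 1)
    rw [Category.assoc, ← (r' : FSch.Hom R' 𝔛).comm n, ← Category.assoc, hφ,
      (r : FSch.Hom R 𝔛).comm n]
  obtain ⟨ψ, hψ⟩ := Groth.Agent.Lib.T2H6.FEtThick.exists_hom_of_isPullback (𝔛.ι n)
    (A := lvl r hr (n + 1)) (B := lvl r' hr' (n + 1)) sq (φ ≫ R'.ι n) hc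
  exact ⟨ψ.left, Over.w ψ.hom, hψ⟩

/-- compatible families of morphisms over the levels -/
noncomputable def seq (φ₀ : R.X 0 ⟶ R'.X 0)
    (h₀ : φ₀ ≫ (r' : FSch.Hom R' 𝔛).app 0 = (r : FSch.Hom R 𝔛).app 0) :
    ∀ n, {φ : R.X n ⟶ R'.X n // φ ≫ (r' : FSch.Hom R' 𝔛).app n = (r : FSch.Hom R 𝔛).app n}
  | 0 => ⟨φ₀, h₀⟩
  | n + 1 =>
    ⟨(exists_step h𝔛 r r' hr hr' n (seq φ₀ h₀ n).1 (seq φ₀ h₀ n).2).choose,
      (exists_step h𝔛 r r' hr hr' n (seq φ₀ h₀ n).1 (seq φ₀ h₀ n).2).choose_spec.1⟩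

theorem seq_comm (φ₀ : R.X 0 ⟶ R'.X 0)
    (h₀ : φ₀ ≫ (r' : FSch.Hom R' 𝔛).app 0 = (r : FSch.Hom R 𝔛).app 0) (n : ℕ) :
    R.ι n ≫ (seq h𝔛 r r' hr hr' φ₀ h₀ (n + 1)).1 = (seq h𝔛 r r' hr hr' φ₀ h₀ n).1 ≫ R'.ι n :=
  (exists_step h𝔛 r r' hr hr' n (seq h𝔛 r r' hr hr' φ₀ h₀ n).1
    (seq h𝔛 r r' hr hr' φ₀ h₀ n).2).choose_spec.2

/-- fullness -/
theorem exists_hom (φ₀ : R.X 0 ⟶ R'.X 0)
    (h₀ : φ₀ ≫ (r' : FSch.Hom R' 𝔛).app 0 = (r : FSch.Hom R 𝔛).app 0) :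
    ∃ Φ : R ⟶ R', Φ ≫ r' = r ∧ (Φ : FSch.Hom R R').app 0 = φ₀ := by
  refine ⟨⟨fun n => (seq h𝔛 r r' hr hr' φ₀ h₀ n).1, fun n =>
    (seq_comm h𝔛 r r' hr hr' φ₀ h₀ n).symm⟩, ?_, rfl⟩
  apply FSch.Hom.ext
  funext n
  exact (seq h𝔛 r r' hr hr' φ₀ h₀ n).2

/-- faithfulness -/
theorem hom_ext (Φ Ψ : R ⟶ R') (hΦ : Φ ≫ r' = r) (hΨ : Ψ ≫ r' = r)
    (h0 : (Φ : FSch.Hom R R').app 0 = (Ψ : FSch.Hom R R').app 0) : Φ = Ψ := by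
  apply FSch.Hom.ext
  funext n
  induction n with
  | zero => exact h0
  | succ n ih =>
    haveI := (h𝔛 n).1
    haveI : Surjective (𝔛.ι n) := ⟨(h𝔛 n).2⟩
    have sq : IsPullback (R.ι n) ((r : FSch.Hom R 𝔛).app n) (lvl r hr (n + 1)).hom (𝔛.ι n) := hr.1 n
    have wΦ : (Φ : FSch.Hom R R').app (n + 1) ≫ (lvl r' hr' (n + 1)).hom = (lvl r hr (n + 1)).hom := by
      change (Φ ≫ r' : FSch.Hom R 𝔛).app (n + 1) = _
      rw [hΦ]; rfl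
    have wΨ : (Ψ : FSch.Hom R R').app (n + 1) ≫ (lvl r' hr' (n + 1)).hom = (lvl r hr (n + 1)).hom := by
      change (Ψ ≫ r' : FSch.Hom R 𝔛).app (n + 1) = _
      rw [hΨ]; rfl
    let a : lvl r hr (n + 1) ⟶ lvl r' hr' (n + 1) :=
      MorphismProperty.Over.homMk ((Φ : FSch.Hom R R').app (n + 1)) wΦ
    let b : lvl r hr (n + 1) ⟶ lvl r' hr' (n + 1) :=
      MorphismProperty.Over.homMk ((Ψ : FSch.Hom R R').app (n + 1)) wΨ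
    have hab : a = b := by
      apply Groth.Agent.Lib.T2H6.FEtThick.hom_ext_of_isPullback (𝔛.ι n) sq
      change R.ι n ≫ (Φ : FSch.Hom R R').app (n + 1) = R.ι n ≫ (Ψ : FSch.Hom R R').app (n + 1)
      rw [← (Φ : FSch.Hom R R').comm n, ← (Ψ : FSch.Hom R R').comm n, ih]
    exact congrArg (fun t => t.left) hab

end Hom

section EssSurj

variable (h𝔛 : 𝔛.IsFormal) (Y₀ : FEt.Cat (𝔛.X 0))

include h𝔛 in
theorem exists_ext (n : ℕ) (Y : FEt.Cat (𝔛.X n)) :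
    ∃ (Y' : FEt.Cat (𝔛.X (n + 1))) (j : Y.left ⟶ Y'.left), IsPullback j Y.hom Y'.hom (𝔛.ι n) := by
  haveI := (h𝔛 n).1
  haveI : Surjective (𝔛.ι n) := ⟨(h𝔛 n).2⟩
  exact Groth.Agent.Lib.T2H6.FEtThick.exists_extension (𝔛.ι n) Y

/-- the levels of the extended cover -/
noncomputable def YY : ∀ n, FEt.Cat (𝔛.X n)
  | 0 => Y₀
  | n + 1 => (exists_ext h𝔛 n (YY n)).choose

/-- the transition maps of the extended cover -/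
noncomputable def jj (n : ℕ) : (YY h𝔛 Y₀ n).left ⟶ (YY h𝔛 Y₀ (n + 1)).left :=
  (exists_ext h𝔛 n (YY h𝔛 Y₀ n)).choose_spec.choose

theorem jj_isPullback (n : ℕ) :
    IsPullback (jj h𝔛 Y₀ n) (YY h𝔛 Y₀ n).hom (YY h𝔛 Y₀ (n + 1)).hom (𝔛.ι n) :=
  (exists_ext h𝔛 n (YY h𝔛 Y₀ n)).choose_spec.choose_spec

/-- the extended system -/
noncomputable def RR : FSch.Sys.{u} where
  X n := (YY h𝔛 Y₀ n).left
  ι n := jj h𝔛 Y₀ n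

/-- its structure morphism -/
noncomputable def rr : RR h𝔛 Y₀ ⟶ 𝔛 :=
  ⟨fun n => (YY h𝔛 Y₀ n).hom, fun n => (jj_isPullback h𝔛 Y₀ n).w.symm⟩

theorem rr_isEtaleCover : FSch.IsEtaleCover (rr h𝔛 Y₀) :=
  ⟨fun n => jj_isPullback h𝔛 Y₀ n, fun n => ⟨(YY h𝔛 Y₀ n).prop.1, (YY h𝔛 Y₀ n).prop.2⟩⟩

end EssSurj

theorem level_zero_isEquivalence (h𝔛 : 𝔛.IsFormal) : (FSch.EtCov.level 𝔛 0).IsEquivalence := by
  haveI : (FSch.EtCov.level 𝔛 0).Faithful := by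
    refine ⟨fun {ℜ ℜ'} φ ψ h => ?_⟩
    have h0 : (φ.hom.left : FSch.Hom _ _).app 0 = (ψ.hom.left : FSch.Hom _ _).app 0 :=
      congrArg (fun t => t.left) h
    have := hom_ext h𝔛 ℜ.obj.hom ℜ'.obj.hom ℜ.property ℜ'.property φ.hom.left ψ.hom.left
      (Over.w φ.hom) (Over.w ψ.hom) h0
    apply ObjectProperty.hom_ext
    exact Over.OverMorphism.ext this
  haveI : (FSch.EtCov.level 𝔛 0).Full := by
    refine ⟨fun {ℜ ℜ'} ψ => ?_⟩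
    obtain ⟨Φ, hΦ, hΦ0⟩ := exists_hom h𝔛 ℜ.obj.hom ℜ'.obj.hom ℜ.property ℜ'.property ψ.left
      (Over.w ψ.hom)
    refine ⟨ObjectProperty.homMk (Over.homMk Φ hΦ), ?_⟩
    apply MorphismProperty.Over.Hom.ext
    exact hΦ0
  haveI : (FSch.EtCov.level 𝔛 0).EssSurj := by
    refine ⟨fun Y₀ => ⟨⟨Over.mk (rr h𝔛 Y₀), rr_isEtaleCover h𝔛 Y₀⟩, ⟨?_⟩⟩⟩
    exact MorphismProperty.Over.isoMk (Iso.refl _) (by
      change 𝟙 _ ≫ Y₀.hom = Y₀.hom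
      exact Category.id_comp _)
  exact { }

end Groth.Agent.Lib.T2H6.FSysEtCov
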