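import Groth.Prelude.Def_FSch4

/-!
# The graph of a morphism of formal systems is a closed immersion (levelwise model)
-/

set_option autoImplicit false
open CategoryTheory CategoryTheory.Limits AlgebraicGeometry
universe u

namespace Groth.Agent.Lib.T2H6.FSysGraph

variable {𝔛 𝔜 𝔖 : FSch.Sys.{u}}

theorem sys_hom_ext (p : 𝔛 ⟶ 𝔖) (q : 𝔜 ⟶ 𝔖) (n : ℕ) {T : Scheme.{u}}
    (a b : T ⟶ (FSch.pullbackSys p q).X n)
    (h1 : a ≫ (FSch.pullbackFst p q : FSch.Hom _ _).app n = b ≫ (FSch.pullbackFst p q : FSch.Hom _ _).app n)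
    (h2 : a ≫ (FSch.pullbackSnd p q : FSch.Hom _ _).app n = b ≫ (FSch.pullbackSnd p q : FSch.Hom _ _).app n) :
    a = b :=
  pullback.hom_ext h1 h2

theorem graph_fst_app (p : 𝔛 ⟶ 𝔖) (q : 𝔜 ⟶ 𝔖) (f : 𝔛 ⟶ 𝔜) (w : f ≫ q = p) (n : ℕ) :
    (FSch.graph f p q w : FSch.Hom _ _).app n ≫ (FSch.pullbackFst p q : FSch.Hom _ _).app n = 𝟙 _ :=
  pullback.lift_fst _ _ _

theorem graph_snd_app (p : 𝔛 ⟶ 𝔖) (q : 𝔜 ⟶ 𝔖) (f : 𝔛 ⟶ 𝔜) (w : f ≫ q = p) (n : ℕ) :
    (FSch.graph f p q w : FSch.Hom _ _).app n ≫ (FSch.pullbackSnd p q : FSch.Hom _ _).app n =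
      (f : FSch.Hom _ _).app n :=
  pullback.lift_snd _ _ _

/-- The graph morphism is adic as soon as the transition maps of the target are monomorphisms. -/
theorem isAdicHom_graph (p : 𝔛 ⟶ 𝔖) (q : 𝔜 ⟶ 𝔖) (f : 𝔛 ⟶ 𝔜) (w : f ≫ q = p)
    (hmono : ∀ n, Mono (𝔜.ι n)) : FSch.IsAdicHom (FSch.graph f p q w) := by
  intro n
  have hm := hmono n
  have hcomm := (FSch.graph f p q w : FSch.Hom _ _).comm n
  have hfst := (FSch.pullbackFst p q : FSch.Hom _ _).comm n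
  have hsnd := (FSch.pullbackSnd p q : FSch.Hom _ _).comm n
  have h2 := graph_fst_app p q f w (n + 1)
  have h3 := graph_snd_app p q f w (n + 1)
  have h2' := graph_fst_app p q f w n
  have h3' := graph_snd_app p q f w n
  have key : ∀ s : PullbackCone ((FSch.graph f p q w : FSch.Hom _ _).app (n + 1))
      ((FSch.pullbackSys p q).ι n),
      (s.snd ≫ (FSch.pullbackFst p q : FSch.Hom _ _).app n) ≫ 𝔛.ι n = s.fst := by
    intro s
    have h1 := s.condition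
    calc (s.snd ≫ (FSch.pullbackFst p q : FSch.Hom _ _).app n) ≫ 𝔛.ι n
        = s.snd ≫ ((FSch.pullbackSys p q).ι n ≫ (FSch.pullbackFst p q : FSch.Hom _ _).app (n + 1)) := by
          rw [← hfst, Category.assoc]
      _ = (s.fst ≫ (FSch.graph f p q w : FSch.Hom _ _).app (n + 1)) ≫
            (FSch.pullbackFst p q : FSch.Hom _ _).app (n + 1) := by
          rw [h1, Category.assoc]
      _ = s.fst := by rw [Category.assoc, h2, Category.comp_id]
  refine ⟨⟨hcomm.symm⟩, ⟨PullbackCone.IsLimit.mk _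
    (fun s => s.snd ≫ (FSch.pullbackFst p q : FSch.Hom _ _).app n) key ?_ ?_⟩⟩
  · intro s
    have h1 := s.condition
    have e1 := key s
    apply sys_hom_ext p q n
    · rw [Category.assoc, h2', Category.comp_id]
    · rw [Category.assoc, h3', ← cancel_mono (𝔜.ι n)]
      calc ((s.snd ≫ (FSch.pullbackFst p q : FSch.Hom _ _).app n) ≫ (f : FSch.Hom _ _).app n) ≫ 𝔜.ι n
          = ((s.snd ≫ (FSch.pullbackFst p q : FSch.Hom _ _).app n) ≫ 𝔛.ι n) ≫
              (f : FSch.Hom _ _).app (n + 1) := by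
            simp only [Category.assoc, (f : FSch.Hom _ _).comm n]
        _ = s.fst ≫ (f : FSch.Hom _ _).app (n + 1) := by rw [e1]
        _ = (s.fst ≫ (FSch.graph f p q w : FSch.Hom _ _).app (n + 1)) ≫
              (FSch.pullbackSnd p q : FSch.Hom _ _).app (n + 1) := by
            rw [Category.assoc, h3]
        _ = s.snd ≫ ((FSch.pullbackSys p q).ι n ≫ (FSch.pullbackSnd p q : FSch.Hom _ _).app (n + 1)) := by
            rw [h1, Category.assoc]
        _ = (s.snd ≫ (FSch.pullbackSnd p q : FSch.Hom _ _).app n) ≫ 𝔜.ι n := by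
            rw [← hsnd, Category.assoc]
  · intro s m hm1 hm2
    rw [← hm2, Category.assoc, h2', Category.comp_id]

/-- Level `0` of the graph is a closed immersion when `q` is separated at level `0`. -/
theorem isClosedImmersion_graph_zero (p : 𝔛 ⟶ 𝔖) (q : 𝔜 ⟶ 𝔖) (f : 𝔛 ⟶ 𝔜) (w : f ≫ q = p)
    (hq : IsSeparated ((q : FSch.Hom 𝔜 𝔖).app 0)) :
    IsClosedImmersion ((FSch.graph f p q w : FSch.Hom _ _).app 0) := by
  subst w
  exact inferInstanceAs (IsClosedImmersion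
    (pullback.lift (𝟙 _) ((f : FSch.Hom 𝔛 𝔜).app 0)
      (Category.id_comp ((f : FSch.Hom 𝔛 𝔜).app 0 ≫ (q : FSch.Hom 𝔜 𝔖).app 0))))

theorem isClosedImmHom_graph (p : 𝔛 ⟶ 𝔖) (q : 𝔜 ⟶ 𝔖) (f : 𝔛 ⟶ 𝔜) (w : f ≫ q = p)
    (h𝔜 : 𝔜.IsFormal) (hq : IsSeparated ((q : FSch.Hom 𝔜 𝔖).app 0)) :
    FSch.IsClosedImmHom (FSch.graph f p q w) := by
  refine ⟨isAdicHom_graph p q f w (fun n => ?_), isClosedImmersion_graph_zero p q f w hq⟩
  haveI := (h𝔜 n).1
  infer_instance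

end Groth.Agent.Lib.T2H6.FSysGraph
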