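import Groth.Prelude.Def_FSch5
import Groth.Agent.Lib.T2H6FSysAdic

/-!
# The formal system induced on an open subset
-/

set_option autoImplicit false
open CategoryTheory CategoryTheory.Limits AlgebraicGeometry
universe u

namespace Groth.Agent.Lib.T2H6.FSysOpen

theorem isPullback_resLE {X Y : Scheme.{u}} (f : X ⟶ Y) (V : Y.Opens) (W : X.Opens)
    (e : W = f ⁻¹ᵁ V) : IsPullback (f.resLE V W e.le) W.ι V.ι f := by
  subst e
  rw [Scheme.Hom.resLE_eq_morphismRestrict]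
  exact isPullback_morphismRestrict f V

variable (𝔛 : FSch.Sys.{u}) (h : 𝔛.IsFormal) (U : (𝔛.X 0).Opens)

theorem isAdicHom_restrictOpenι : FSch.IsAdicHom (𝔛.restrictOpenι h U) := fun n =>
  isPullback_resLE (𝔛.ι n) (𝔛.lvU h (n + 1) U) (𝔛.lvU h n U) (𝔛.lvU_succ h n U).symm

theorem isFormal_restrictOpen : (𝔛.restrictOpen h U).IsFormal :=
  Groth.Agent.Lib.T2H6.FSysAdic.isFormal_of_isAdicHom (𝔛.restrictOpenι h U)
    (isAdicHom_restrictOpenι 𝔛 h U) h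

theorem isLocNoethFormal_restrictOpen (h𝔛 : 𝔛.IsLocNoethFormal) :
    (𝔛.restrictOpen h U).IsLocNoethFormal := by
  haveI hn : IsLocallyNoetherian (𝔛.X 0) := h𝔛.2.2 0
  haveI : IsLocallyNoetherian ((𝔛.restrictOpen h U).X 0) :=
    inferInstanceAs (IsLocallyNoetherian ((𝔛.lvU h 0 U : (𝔛.X 0).Opens) : Scheme.{u}))
  exact Groth.Agent.Lib.T2H6.FSysAdic.isLocNoethFormal_of_isAdicHom (𝔛.restrictOpenι h U)
    (isAdicHom_restrictOpenι 𝔛 h U) h𝔛

theorem compactSpace_restrictOpen (h𝔛 : 𝔛.IsLocNoethFormal) [CompactSpace (𝔛.X 0)] :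
    CompactSpace ((𝔛.restrictOpen h U).X 0) := by
  haveI hn : IsLocallyNoetherian (𝔛.X 0) := h𝔛.2.2 0
  haveI : IsNoetherian (𝔛.X 0) := {}
  change CompactSpace ((𝔛.lvU h 0 U : (𝔛.X 0).Opens) : Scheme.{u})
  exact isCompact_iff_compactSpace.mp
    (TopologicalSpace.NoetherianSpace.isCompact (𝔛.lvU h 0 U : Set (𝔛.X 0)))

end Groth.Agent.Lib.T2H6.FSysOpen
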