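import Mathlib

/-!
# Projections of a sequential limit with surjective transition maps are surjective
-/

set_option autoImplicit false
open CategoryTheory CategoryTheory.Limits Opposite
universe u v

namespace Groth.Agent.Lib.T2H6.SeqLimSurj

section Types

variable {F : ℕᵒᵖ ⥤ Type u} {c : Cone F}
  (hF : ∀ n, Function.Surjective (F.map (homOfLE (Nat.le_succ n)).op))

/-- successive preimages of an element of `F i` -/
noncomputable def pre (i : ℕ) (a : F.obj ⟨i⟩) : (k : ℕ) → F.obj ⟨i + k⟩
  | 0 => a
  | k + 1 => (hF (i + k) (pre i a k)).choose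

theorem pre_succ (i : ℕ) (a : F.obj ⟨i⟩) (k : ℕ) :
    F.map (homOfLE (Nat.le_succ (i + k))).op (pre hF i a (k + 1)) = pre hF i a k :=
  (hF (i + k) (pre hF i a k)).choose_spec

theorem pre_le (i : ℕ) (a : F.obj ⟨i⟩) (k l : ℕ) (h : k ≤ l) :
    F.map (homOfLE (Nat.add_le_add_left h i)).op (pre hF i a l) = pre hF i a k := by
  induction h with
  | refl =>
    have : (homOfLE (Nat.add_le_add_left (le_refl k) i)).op = 𝟙 (op (i + k)) := Subsingleton.elim _ _
    rw [this, Functor.map_id_apply]
  | @step p h ih =>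
    have e : (homOfLE (Nat.add_le_add_left (Nat.le.step h) i)).op =
        (homOfLE (Nat.le_succ (i + p))).op ≫ (homOfLE (Nat.add_le_add_left h i)).op :=
      Subsingleton.elim _ _
    rw [e, Functor.map_comp_apply, pre_succ, ih]

include hF in
theorem surjective_π_app (hc : IsLimit c) (i : ℕ) : Function.Surjective (c.π.app ⟨i⟩) := by
  intro a
  let s : ∀ j : ℕᵒᵖ, F.obj j := fun j =>
    F.map (homOfLE (Nat.le_add_left j.unop i)).op (pre hF i a j.unop)
  have hs : s ∈ F.sections := by
    intro j j' f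
    have hle : j'.unop ≤ j.unop := leOfHom f.unop
    change F.map f (F.map (homOfLE (Nat.le_add_left j.unop i)).op (pre hF i a j.unop)) =
      F.map (homOfLE (Nat.le_add_left j'.unop i)).op (pre hF i a j'.unop)
    rw [← pre_le hF i a j'.unop j.unop hle, ← Functor.map_comp_apply, ← Functor.map_comp_apply]
    have e : (homOfLE (Nat.le_add_left j.unop i)).op ≫ f =
        (homOfLE (Nat.add_le_add_left hle i)).op ≫ (homOfLE (Nat.le_add_left j'.unop i)).op :=
      Subsingleton.elim _ _
    rw [e]
  refine ⟨(Types.isLimitEquivSections hc).symm ⟨s, hs⟩, ?_⟩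
  rw [Types.isLimitEquivSections_symm_apply]
  change F.map (homOfLE (Nat.le_add_left i i)).op (pre hF i a i) = a
  have h0 := pre_le hF i a 0 i (Nat.zero_le i)
  have e : (homOfLE (Nat.le_add_left i i)).op =
      (homOfLE (Nat.add_le_add_left (Nat.zero_le i) i)).op := Subsingleton.elim _ _
  rw [e, h0]
  rfl

end Types

/-- Concrete version. -/
theorem concrete_surjective_π_app {C : Type u} [Category.{v} C] {FC : C → C → Type*}
    {CC : C → Type v} [∀ X Y, FunLike (FC X Y) (CC X) (CC Y)] [ConcreteCategory.{v} C FC]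
    [PreservesLimitsOfShape ℕᵒᵖ (forget C)] {F : ℕᵒᵖ ⥤ C} {c : Cone F}
    (hc : IsLimit c) (hF : ∀ n, Function.Surjective (F.map (homOfLE (Nat.le_succ n)).op)) (i : ℕ) :
    Function.Surjective (c.π.app ⟨i⟩) :=
  surjective_π_app (F := F ⋙ forget C) hF (isLimitOfPreserves (forget C) hc) i

end Groth.Agent.Lib.T2H6.SeqLimSurj
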