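import Mathlib
import Groth.Prelude.Def_FSch5
import Groth.Agent.Lib.T2H6FSysOpen
import Groth.Agent.Lib.T2H6FSysAffine
import Groth.Agent.Lib.T2H6SeqLimSurj

/-!
# The structure sheaf of a formal system surjects onto the structure sheaves of the levels over affines
-/

set_option autoImplicit false
open CategoryTheory CategoryTheory.Limits AlgebraicGeometry Opposite
universe u

namespace Groth.Agent.Lib.T2H6.FSysOsh

variable (𝔛 : FSch.Sys.{u}) (h : 𝔛.IsFormal)

theorem gInv_zero : 𝔛.gInv h 0 = 𝟙 _ := by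
  have := 𝔛.gInv_toX_base h 0
  have h0 : (𝔛.toX 0).base = 𝟙 _ := rfl
  rwa [h0, Category.comp_id] at this

theorem lvU_zero (U : (𝔛.X 0).Opens) : 𝔛.lvU h 0 U = U := by
  change (TopologicalSpace.Opens.map (𝔛.gInv h 0)).obj U = U
  rw [gInv_zero]
  rfl

theorem isAffineOpen_lvU (n : ℕ) (U : (𝔛.X 0).Opens) (hU : IsAffineOpen U) :
    IsAffineOpen (𝔛.lvU h n U) := by
  have hF' := Groth.Agent.Lib.T2H6.FSysOpen.isFormal_restrictOpen 𝔛 h U
  haveI : IsAffine ((𝔛.restrictOpen h U).X 0) := by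
    change IsAffineOpen (𝔛.lvU h 0 U)
    rw [lvU_zero]
    exact hU
  exact Groth.Agent.Lib.T2H6.FSysAffine.isAffine_level (𝔛.restrictOpen h U) hF' n

theorem appLE_surjective {X Y : Scheme.{u}} (f : X ⟶ Y) [IsClosedImmersion f] (V : Y.Opens)
    (hV : IsAffineOpen V) (W : X.Opens) (e : W = f ⁻¹ᵁ V) :
    Function.Surjective (f.appLE V W e.le) := by
  subst e
  rw [← Scheme.Hom.app_eq_appLE]
  exact f.app_surjective V hV

theorem levelMap_app_surjective (n : ℕ) (U : (𝔛.X 0).Opens) (hU : IsAffineOpen U) :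
    Function.Surjective ((𝔛.levelMap h n).hom.app (op U)) := by
  haveI := (h n).1
  rw [FSch.Sys.levelMap_app]
  exact appLE_surjective (𝔛.ι n) _ (isAffineOpen_lvU 𝔛 h (n + 1) U hU) _ (𝔛.lvU_succ h n U).symm

theorem OshProj_app_surjective (i : ℕ) (U : (𝔛.X 0).Opens) (hU : IsAffineOpen U) :
    Function.Surjective ((𝔛.OshProj h i).hom.app (op U)) := by
  let G : Sheaf (Opens.grothendieckTopology (𝔛.X 0)) CommRingCat.{u} ⥤ CommRingCat.{u} :=
    sheafToPresheaf _ _ ⋙ (evaluation _ _).obj (op U)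
  have hc : IsLimit (G.mapCone (limit.cone (𝔛.levelRing h))) :=
    isLimitOfPreserves G (limit.isLimit _)
  have hF : ∀ n, Function.Surjective
      ((𝔛.levelRing h ⋙ G).map (homOfLE (Nat.le_succ n)).op) := by
    intro n
    have e : (𝔛.levelRing h).map (homOfLE (Nat.le_succ n)).op = 𝔛.levelMap h n :=
      𝔛.levelRing_map_succ h n
    change Function.Surjective (((𝔛.levelRing h).map (homOfLE (Nat.le_succ n)).op).hom.app (op U))
    rw [e]
    exact levelMap_app_surjective 𝔛 h n U hU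
  exact Groth.Agent.Lib.T2H6.SeqLimSurj.concrete_surjective_π_app hc hF i

end Groth.Agent.Lib.T2H6.FSysOsh
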