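import Mathlib
import Groth.Prelude.Def_FSch5
import Groth.Agent.S2762
import Groth.Agent.S2305
import Groth.Agent.Lib.T2H6FSysAdic

/-!
# Smoothness of an adic, levelwise flat morphism of formal systems is detected at level `0`
-/

set_option autoImplicit false
open CategoryTheory CategoryTheory.Limits AlgebraicGeometry
universe u

namespace Groth.Agent.Lib.T2H6.FSysSmooth

/-- A morphism from a reduced scheme lifts through a surjective closed immersion. -/
theorem exists_lift_of_isReduced {T Y Y₀ : Scheme.{u}} (j : T ⟶ Y) (i : Y₀ ⟶ Y)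
    [IsClosedImmersion i] [Surjective i] [IsReduced T] : ∃ l : T ⟶ Y₀, l ≫ i = j := by
  haveI : IsIso (pullback.fst j i) := isIso_of_isClosedImmersion_of_surjective _
  refine ⟨inv (pullback.fst j i) ≫ pullback.snd j i, ?_⟩
  rw [Category.assoc, ← pullback.condition, IsIso.inv_hom_id_assoc]

/-- Key step: smoothness passes up a thickening of the base for a flat morphism. -/
theorem smooth_of_isPullback {X X₀ Y Y₀ : Scheme.{u}} [IsLocallyNoetherian Y]
    (f : X ⟶ Y) (f₀ : X₀ ⟶ Y₀) (iX : X₀ ⟶ X) (i : Y₀ ⟶ Y) [IsClosedImmersion i] [Surjective i]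
    (sq : IsPullback iX f₀ f i) [Flat f] [Smooth f₀] : Smooth f := by
  -- `f` is locally of finite type, hence of finite presentation
  haveI hlft0 : LocallyOfFiniteType (pullback.snd f i) := by
    have e : pullback.snd f i = sq.isoPullback.inv ≫ f₀ := by
      rw [Iso.eq_inv_comp]; exact sq.isoPullback_hom_snd
    rw [e]
    infer_instance
  haveI hlft : LocallyOfFiniteType f := Groth.Agent.S2305.result f i
  haveI hlfp : LocallyOfFinitePresentation f :=
    LocallyOfFinitePresentation.iff_locallyOfFiniteType.mpr hlft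
  have w : f ≫ 𝟙 Y = f := Category.comp_id f
  rw [Groth.Agent.S2762.result (𝟙 Y) f f w]
  intro s
  -- the fibre of the identity is reduced
  haveI : IsReduced ((𝟙 Y : Y ⟶ Y).fiber s) := by
    haveI hiso : IsIso (pullback.snd (𝟙 Y) (Y.fromSpecResidueField s)) := inferInstance
    haveI hopen : IsOpenImmersion (pullback.snd (𝟙 Y) (Y.fromSpecResidueField s)) :=
      IsOpenImmersion.of_isIso _
    exact @isReduced_of_isOpenImmersion _ _ (pullback.snd (𝟙 Y) (Y.fromSpecResidueField s)) hopen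
      inferInstance
  obtain ⟨l, hl⟩ := exists_lift_of_isReduced ((𝟙 Y : Y ⟶ Y).fiberι s) i
  -- the pullback of `f` along `fiberι s = l ≫ i`
  have hB : IsPullback (pullback.fst f ((𝟙 Y : Y ⟶ Y).fiberι s))
      (pullback.snd f ((𝟙 Y : Y ⟶ Y).fiberι s)) f (l ≫ i) := by
    rw [hl]; exact IsPullback.of_hasPullback _ _
  let u : pullback f ((𝟙 Y : Y ⟶ Y).fiberι s) ⟶ X₀ :=
    sq.lift (pullback.fst f ((𝟙 Y : Y ⟶ Y).fiberι s))
      (pullback.snd f ((𝟙 Y : Y ⟶ Y).fiberι s) ≫ l)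
      (by rw [Category.assoc, hl]; exact pullback.condition)
  have hu1 : u ≫ iX = pullback.fst f ((𝟙 Y : Y ⟶ Y).fiberι s) := sq.lift_fst _ _ _
  have hu2 : u ≫ f₀ = pullback.snd f ((𝟙 Y : Y ⟶ Y).fiberι s) ≫ l := sq.lift_snd _ _ _
  have hC : IsPullback u (pullback.snd f ((𝟙 Y : Y ⟶ Y).fiberι s)) f₀ l := by
    refine IsPullback.of_right ?_ hu2 sq
    rw [hu1]; exact hB
  exact MorphismProperty.of_isPullback (P := @Smooth) hC inferInstance

variable {𝔛 𝔜 : FSch.Sys.{u}}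

theorem smooth_levels (h𝔜 : 𝔜.IsLocNoethFormal) (f : 𝔛 ⟶ 𝔜) (hf : FSch.IsAdicHom f)
    (hflat : ∀ n : ℕ, Flat ((f : FSch.Hom 𝔛 𝔜).app n))
    (h0 : Smooth ((f : FSch.Hom 𝔛 𝔜).app 0)) (n : ℕ) : Smooth ((f : FSch.Hom 𝔛 𝔜).app n) := by
  haveI := h𝔜.2.2 n
  haveI := FSch.Sys.toX_isClosedImmersion 𝔜 h𝔜.1 n
  haveI : Surjective (𝔜.toX n) := ⟨FSch.Sys.toX_surjective 𝔜 h𝔜.1 n⟩
  haveI := hflat n
  haveI := h0
  exact smooth_of_isPullback ((f : FSch.Hom 𝔛 𝔜).app n) ((f : FSch.Hom 𝔛 𝔜).app 0)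
    (𝔛.toX n) (𝔜.toX n) (Groth.Agent.Lib.T2H6.FSysAdic.isPullback_toX f hf n)

end Groth.Agent.Lib.T2H6.FSysSmooth
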