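-- helper6 (team 2): closed sub-systems of a locally Noetherian adic formal system cut out by a coherent ideal
import Mathlib
import Groth.Agent.Lib.T2H6FSysAdic

set_option autoImplicit false
universe u
open CategoryTheory CategoryTheory.Limits AlgebraicGeometry TopologicalSpace Opposite

namespace Groth.Agent.Lib.T2H6.FSysSub

open Scheme.IdealSheafData Groth.Agent.Lib.T2H6.FSysBasic Groth.Agent.Lib.T2H6.FSysAdic

noncomputable section

variable (𝔛 : FSch.Sys.{u}) (𝒜 : ∀ n, (𝔛.X n).IdealSheafData)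
  (h : ∀ n, (𝒜 (n + 1)).comap (𝔛.ι n) = 𝒜 n)

theorem isAdicHom_subSysι :
    FSch.IsAdicHom (FSch.subSysι 𝔛 𝒜 (fun n ↦ (h n).le)) := by
  intro n
  refine (isPullback_of_isClosedImmersion (𝒜 n).subschemeι (𝒜 (n + 1)).subschemeι
    ((FSch.subSys 𝔛 𝒜 (fun n ↦ (h n).le)).ι n) (𝔛.ι n) ?_ ?_).flip
  · exact (subschemeMap_subschemeι (𝒜 n) (𝒜 (n + 1)) (𝔛.ι n)
      (Scheme.IdealSheafData.le_map_iff_comap_le.mpr (h n).le)).symm
  · rw [ker_subschemeι, ker_subschemeι, h n]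

theorem isLocNoethFormal_subSys (h𝔛 : 𝔛.IsLocNoethFormal) :
    (FSch.subSys 𝔛 𝒜 (fun n ↦ (h n).le)).IsLocNoethFormal ∧
      FSch.IsAdicHom (FSch.subSysι 𝔛 𝒜 (fun n ↦ (h n).le)) := by
  have hadic := isAdicHom_subSysι 𝔛 𝒜 h
  refine ⟨?_, hadic⟩
  haveI : IsLocallyNoetherian (𝔛.X 0) := h𝔛.2.2 0
  haveI : IsLocallyNoetherian (𝒜 0).subscheme :=
    LocallyOfFiniteType.isLocallyNoetherian (𝒜 0).subschemeι
  haveI : IsLocallyNoetherian ((FSch.subSys 𝔛 𝒜 (fun n ↦ (h n).le)).X 0) :=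
    inferInstanceAs (IsLocallyNoetherian (𝒜 0).subscheme)
  exact isLocNoethFormal_of_isAdicHom (FSch.subSysι 𝔛 𝒜 (fun n ↦ (h n).le)) hadic h𝔛

end

end Groth.Agent.Lib.T2H6.FSysSub
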