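import Mathlib

/-!
# Fibres of morphisms from locally Noetherian schemes are locally Noetherian (helper6)

* `isNoetherianRing_fiber`: `κ(p) ⊗[R] S` is Noetherian for `S` Noetherian.
* `isLocallyNoetherian_fiber`: for `f : X ⟶ Y` with `X` locally Noetherian, every fibre `f.fiber y` is locally Noetherian
  (no finiteness hypothesis on `f`).
-/

set_option autoImplicit false
set_option linter.style.haveILetI false
set_option linter.unusedSectionVars false
universe u
open CategoryTheory CategoryTheory.Limits AlgebraicGeometry Opposite TopologicalSpace TensorProduct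

namespace Groth.Agent.Lib.T2H6.FibreLN

section Ring

attribute [local instance] Algebra.TensorProduct.rightAlgebra in
theorem isNoetherianRing_fiber (R S : Type u) [CommRing R] [CommRing S] [Algebra R S] [IsNoetherianRing S]
    (p : Ideal R) [p.IsPrime] : IsNoetherianRing (p.Fiber S) :=
  isNoetherianRing_of_ringEquiv _ (Ideal.Fiber.algEquivQuotient p (S := S)).symm.toRingEquiv

end Ring

section Affine

theorem isLocallyNoetherian_fiber_SpecMap (R S : Type u) [CommRing R] [CommRing S] [Algebra R S]
    [IsNoetherianRing S] (p : PrimeSpectrum R) :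
    IsLocallyNoetherian ((Spec.map (CommRingCat.ofHom (algebraMap R S))).fiber p) := by
  have e : (Spec.map (CommRingCat.ofHom (algebraMap R S))).fiber p ≅ Spec (CommRingCat.of (p.asIdeal.Fiber S)) :=
    Arrow.leftFunc.mapIso (Spec.fiberToSpecResidueFieldIso R S p)
  haveI := isNoetherianRing_fiber R S p.asIdeal
  haveI : IsLocallyNoetherian (Spec (CommRingCat.of (p.asIdeal.Fiber S))) := inferInstance
  exact isLocallyNoetherian_of_isOpenImmersion e.hom

theorem isLocallyNoetherian_fiber_Spec {R S : CommRingCat.{u}} [IsNoetherianRing S] (h : Spec S ⟶ Spec R)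
    (p : Spec R) : IsLocallyNoetherian (h.fiber p) := by
  letI := (Spec.preimage h).hom.toAlgebra
  have := isLocallyNoetherian_fiber_SpecMap R S p
  have e : Spec.map (CommRingCat.ofHom (algebraMap R S)) = h := Spec.map_preimage h
  rw [e] at this
  exact this

end Affine

section General

variable {X Y : Scheme.{u}}

/-- a chart of the fibre around a given point. -/
theorem exists_chart [IsLocallyNoetherian X] (f : X ⟶ Y) {R : CommRingCat.{u}} (jV : Spec R ⟶ Y)
    [IsOpenImmersion jV] (p : Spec R) (t : ↥(pullback f (Y.fromSpecResidueField (jV p)))) :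
    ∃ (T : Scheme.{u}) (j : T ⟶ pullback f (Y.fromSpecResidueField (jV p))), IsAffine T ∧
      IsLocallyNoetherian T ∧ IsOpenImmersion j ∧ t ∈ Set.range j := by
  -- the point of `X` and its lift to `X_V`
  have hx : pullback.fst f (Y.fromSpecResidueField (jV p)) t ∈ Set.range (pullback.fst f jV) := by
    rw [Scheme.Pullback.range_fst]
    have h1 : pullback.fst f (Y.fromSpecResidueField (jV p)) t ∈
        f ⁻¹' Set.range (Y.fromSpecResidueField (jV p)) := by
      rw [← Scheme.Pullback.range_fst]
      exact ⟨t, rfl⟩
    rw [Scheme.range_fromSpecResidueField] at h1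
    exact ⟨p, h1.symm⟩
  obtain ⟨xV, hxV⟩ := hx
  haveI : IsLocallyNoetherian (pullback f jV) := isLocallyNoetherian_of_isOpenImmersion (pullback.fst f jV)
  -- an affine chart of `X_V` around `xV`
  obtain ⟨u, hu⟩ := (pullback f jV).affineOpenCover.covers xV
  haveI : IsOpenImmersion ((pullback f jV).affineOpenCover.f ((pullback f jV).affineOpenCover.idx xV)) :=
    inferInstance
  haveI : IsLocallyNoetherian (Spec ((pullback f jV).affineOpenCover.X ((pullback f jV).affineOpenCover.idx xV))) :=
    isLocallyNoetherian_of_isOpenImmersion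
      ((pullback f jV).affineOpenCover.f ((pullback f jV).affineOpenCover.idx xV))
  haveI : IsNoetherianRing ((pullback f jV).affineOpenCover.X ((pullback f jV).affineOpenCover.idx xV)) :=
    isLocallyNoetherian_Spec.1 inferInstance
  have e₁ : (((pullback f jV).affineOpenCover.f ((pullback f jV).affineOpenCover.idx xV)) ≫
      pullback.snd f jV) ≫ jV =
      (((pullback f jV).affineOpenCover.f ((pullback f jV).affineOpenCover.idx xV)) ≫ pullback.fst f jV) ≫ f := by
    rw [Category.assoc, Category.assoc, pullback.condition]
  have e₂ : (Spec R).fromSpecResidueField p ≫ jV =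
      Spec.map (jV.residueFieldMap p) ≫ Y.fromSpecResidueField (jV p) :=
    (Scheme.Hom.SpecMap_residueFieldMap_fromSpecResidueField jV p).symm
  haveI : IsAffine (pullback (((pullback f jV).affineOpenCover.f ((pullback f jV).affineOpenCover.idx xV)) ≫
      pullback.snd f jV) ((Spec R).fromSpecResidueField p)) := inferInstance
  refine ⟨pullback (((pullback f jV).affineOpenCover.f ((pullback f jV).affineOpenCover.idx xV)) ≫
      pullback.snd f jV) ((Spec R).fromSpecResidueField p),
    pullback.map _ ((Spec R).fromSpecResidueField p) f (Y.fromSpecResidueField (jV p))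
    (((pullback f jV).affineOpenCover.f ((pullback f jV).affineOpenCover.idx xV)) ≫ pullback.fst f jV)
    (Spec.map (jV.residueFieldMap p)) jV e₁ e₂, inferInstance,
    isLocallyNoetherian_fiber_Spec _ p, inferInstance, ?_⟩
  rw [Scheme.Pullback.range_map]
  refine ⟨⟨u, ?_⟩, ⟨inv (Spec.map (jV.residueFieldMap p)) (pullback.snd f (Y.fromSpecResidueField (jV p)) t), ?_⟩⟩
  · rw [Scheme.Hom.comp_apply, hu, hxV]
  · rw [← Scheme.Hom.comp_apply, IsIso.inv_hom_id]
    rfl

/-- the fibres of a morphism from a locally Noetherian scheme are locally Noetherian. -/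
theorem isLocallyNoetherian_fiber [IsLocallyNoetherian X] (f : X ⟶ Y) (y : Y) :
    IsLocallyNoetherian (f.fiber y) := by
  obtain ⟨p, hp⟩ := Y.affineOpenCover.covers y
  generalize Y.affineOpenCover.idx y = i at p hp
  subst hp
  have key := exists_chart f (Y.affineOpenCover.f i) p
  choose T j hTa hTn hj ht using key
  refine isLocallyNoetherian_of_affine_cover (X := f.fiber ((Y.affineOpenCover.f i) p))
    (S := fun t => ⟨(j t).opensRange, @isAffineOpen_opensRange _ _ (hTa t) (j t) (hj t)⟩) ?_ ?_
  · rw [eq_top_iff]
    intro t _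
    exact TopologicalSpace.Opens.mem_iSup.2 ⟨t, ht t⟩
  · intro t
    haveI := hj t
    haveI := hTn t
    haveI := hTa t
    haveI : IsNoetherianRing Γ(T t, ⊤) := IsLocallyNoetherian.component_noetherian ⟨⊤, isAffineOpen_top (T t)⟩
    exact isNoetherianRing_of_ringEquiv Γ(T t, ⊤) (IsOpenImmersion.ΓIsoTop (j t)).commRingCatIsoToRingEquiv

end General

end Groth.Agent.Lib.T2H6.FibreLN
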