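-- helper6 (team 2): on compatible chart squares of composable functors, the first chart map is
-- surjective when the first functor is; flatness of the second functor from the composite.
import Mathlib
import Groth.Agent.Lib.T2H6FlatCancel
import Groth.Agent.Lib.Helper15GoodComp
import Groth.Agent.Lib.Helper15PtsTop
import Groth.Agent.Lib.Helper15PtsComp
import Groth.Agent.Lib.Helper15LocEss
import Groth.Agent.Lib.Helper15FpSwap
import Groth.Agent.Lib.Helper17StkPts3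
import Groth.Agent.S12825

set_option autoImplicit false
set_option backward.isDefEq.respectTransparency false
set_option backward.isDefEq.respectTransparency.types false
open CategoryTheory CategoryTheory.Functor CategoryTheory.Limits AlgebraicGeometry

universe u

namespace Groth.Agent.Lib.T2H6.FlatComp

open Groth.Agent.Lib.Helper17 Groth.Agent.Lib.Helper15Atlas Groth.Agent.Lib.Helper15PtsTop
  Groth.Agent.Lib.Helper15PtsComp Groth.Agent.Lib.Helper15GoodComp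
  Groth.Agent.Lib.Helper15LocQEngine Groth.Agent.Lib.Helper15LocQProps
  Groth.Agent.Lib.Helper15SrcCancel Groth.Agent.Lib.Helper15FpSwap

variable {S : Scheme.{u}} {𝒳 𝒴 𝒵 : AlgSt.Cat S}

/-- the second projection of a fibre product with a functor surjective on points is surjective on
points -/
theorem isSurjective_fpSnd (h𝒳 : AlgSt.IsAlgStack Scheme.fppfPrecoverage 𝒳)
    (h𝒴 : AlgSt.IsAlgStack Scheme.fppfPrecoverage 𝒴)
    (h𝒵 : AlgSt.IsAlgStack Scheme.fppfPrecoverage 𝒵) (f : 𝒳 ⥤ᵇ 𝒴) (g : 𝒵 ⥤ᵇ 𝒴)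
    (hf : AlgSt.IsSurjective f) : AlgSt.IsSurjective (FibCat.fpSnd f g) := by
  intro v
  obtain ⟨w', hw'⟩ := Groth.Agent.S12825.result h𝒳 h𝒴 h𝒵 f g hf v
  refine ⟨AlgSt.Points.map (fpSwap g f) w', ?_⟩
  rw [← points_map_comp]
  exact hw'

/-- On a chart square whose comparison functor to the fibre product is surjective, the chart map is
surjective as soon as the functor is surjective on points. -/
theorem surjective_left_of_square (h𝒳 : AlgSt.IsAlgStack Scheme.fppfPrecoverage 𝒳)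
    (h𝒴 : AlgSt.IsAlgStack Scheme.fppfPrecoverage 𝒴) (f : 𝒳 ⥤ᵇ 𝒴) (hf : AlgSt.IsSurjective f)
    {U V : Over S} (x : FibCat.overCat U ⥤ᵇ 𝒳) (y : FibCat.overCat V ⥤ᵇ 𝒴) (h : U ⟶ V)
    (α : BasedFunctor.comp x f ≅ BasedFunctor.comp (AlgSt.overMap h) y)
    (hℓ : AlgSt.RepByAlgSpWith AlgSp.IsSurjectiveMor (FibCat.fpLift x (AlgSt.overMap h) α)) :
    Function.Surjective h.left := by
  have hfp : AlgSt.IsAlgStack Scheme.fppfPrecoverage (FibCat.fp f y) :=
    isAlgStack_fp_of_isPrestack (IsStack.isPrestack _ h𝒴.isStack) h𝒴.diag h𝒳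
      (isAlgStack_overCat V) f y
  have hℓs : AlgSt.IsSurjective (FibCat.fpLift x (AlgSt.overMap h) α) :=
    (isSurjective_iff_repByAlgSpWith (isAlgStack_overCat U) hfp _
      (repByAlgSp1_of_repByAlgSpWith _ _ hℓ)).2 hℓ
  have hsnd := isSurjective_fpSnd h𝒳 h𝒴 (isAlgStack_overCat V) f y hf
  intro v
  obtain ⟨w, hw⟩ := hsnd (ptOver V v)
  obtain ⟨u, rfl⟩ := hℓs w
  obtain ⟨t, rfl⟩ := (ptOver_bijective U).2 u
  refine ⟨t, ?_⟩
  apply (ptOver_bijective V).1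
  rw [← hw, ← points_map_comp]
  exact (ptOver_map h t).symm

/-- If `f` is flat and surjective and `f ≫ g` is flat then `g` is flat. -/
theorem locQ_flat_of_comp (h𝒳 : AlgSt.IsAlgStack Scheme.fppfPrecoverage 𝒳)
    (h𝒴 : AlgSt.IsAlgStack Scheme.fppfPrecoverage 𝒴)
    (h𝒵 : AlgSt.IsAlgStack Scheme.fppfPrecoverage 𝒵) (f : 𝒳 ⥤ᵇ 𝒴) (g : 𝒴 ⥤ᵇ 𝒵)
    (hf₁ : AlgSt.LocQ (AlgSp.LocP @Flat) f) (hf₂ : AlgSt.IsSurjective f)
    (hfg : AlgSt.LocQ (AlgSp.LocP @Flat) (BasedFunctor.comp f g)) :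
    AlgSt.LocQ (AlgSp.LocP @Flat) g := by
  obtain ⟨U, V, W, x, y, z, h, k, α, β, hx₁, hx₂, hy₁, hy₂, hz₁, hz₂, hα₁, hα₂, hβ₁, hβ₂, hγ⟩ :=
    exists_good_squares h𝒳 h𝒴 h𝒵 f g
  have hP : AlgSp.LocP @Flat ((AlgSp.yon S).map (h ≫ k)) :=
    (locQ_iff_forall_good _ isSmoothLocalST_flat h𝒳 h𝒵 (BasedFunctor.comp f g)).1 hfg U W x z
      (h ≫ k) _ hx₁ hz₁ hγ
  have hPh : AlgSp.LocP @Flat ((AlgSp.yon S).map h) :=
    (locQ_iff_forall_good _ isSmoothLocalST_flat h𝒳 h𝒴 f).1 hf₁ U V x y h α hx₁ hy₁ hα₁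
  have h1 : Flat (h.left ≫ k.left) := AlgSp.locP_yon_map hP
  have h2 : Flat h.left := AlgSp.locP_yon_map hPh
  have h3 : Surjective h.left := ⟨surjective_left_of_square h𝒳 h𝒴 f hf₂ x y h α hα₂⟩
  have h4 : Flat k.left := Groth.Agent.Lib.T2H6.FlatCancel.flat_of_flat_comp_of_surjective h.left k.left
  exact ⟨V, W, y, z, k, β, hy₁, hy₂, hz₁, Groth.Agent.Lib.Helper15LocEss.locP_yon_map_of_flat k h4⟩

end Groth.Agent.Lib.T2H6.FlatComp
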