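-- helper6 (team 2): chart independence for properties smooth local on source-and-target and stable
-- under base change, for an arbitrary (not necessarily smooth) second target chart; base change.
import Mathlib
import Groth.Agent.Lib.Helper15LocQ
import Groth.Agent.Lib.Helper15LocQEngine
import Groth.Agent.Lib.Helper15LocQComp
import Groth.Agent.Lib.Helper15BaseChange2
import Groth.Agent.S10565
import Groth.Agent.S10542

set_option autoImplicit false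
set_option backward.isDefEq.respectTransparency false
set_option backward.isDefEq.respectTransparency.types false
open CategoryTheory CategoryTheory.Functor CategoryTheory.Limits Opposite AlgebraicGeometry

universe u

namespace Groth.Agent.Lib.T2H6.LocQBC

open Groth.Agent.Lib.Helper17 Groth.Agent.Lib.Helper15PshFib Groth.Agent.Lib.Helper15RepComp
  Groth.Agent.Lib.Helper15RepPsh Groth.Agent.Lib.Helper15DiagBase Groth.Agent.Lib.Helper15DiagRepSp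
  Groth.Agent.Lib.Helper15Descent Groth.Agent.Lib.Helper15DiagLft
  Groth.Agent.Lib.Helper15DiagDescent Groth.Agent.Lib.Helper15SpMapRep
  Groth.Agent.Lib.Helper15SrcCancel Groth.Agent.Lib.Helper15ChartSp Groth.Agent.Lib.Helper15Atlas
  Groth.Agent.Lib.Helper15LocEss Groth.Agent.Lib.Helper15UnivComp Groth.Agent.Lib.Helper15SmLoc
  Groth.Agent.Lib.Helper15PtsComp Groth.Agent.Lib.Helper15PtsTop Groth.Agent.Lib.Helper15PtsQc
  Groth.Agent.Lib.Helper15FpSwap Groth.Agent.Lib.Helper15QcLocal Groth.Agent.Lib.Helper15ClosedQc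
  Groth.Agent.Lib.Helper15UnivPts Groth.Agent.Lib.Helper15BaseChange
  Groth.Agent.Lib.Helper15BaseChange2
  Groth.Agent.Lib.Helper15MonoSep Groth.Agent.Lib.Helper15QcRep Groth.Agent.Lib.Helper15LocQ
  Groth.Agent.Lib.Helper15LocQEngine Groth.Agent.Lib.Helper15LocQComp

section Engine

variable {S : Scheme.{u}} {𝒳 𝒴 : AlgSt.Cat S}

theorem prop_of_good_square_bc (P : MorphismProperty (AlgSp.Sp S)) (hP : AlgSp.IsSmoothLocalST P)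
    (hPb : BCStable P)
    (h𝒳 : AlgSt.IsAlgStack Scheme.fppfPrecoverage 𝒳)
    (h𝒴 : AlgSt.IsAlgStack Scheme.fppfPrecoverage 𝒴) (f : 𝒳 ⥤ᵇ 𝒴)
    {U₁ V₁ : Over S} (x₁ : FibCat.overCat U₁ ⥤ᵇ 𝒳) (y₁ : FibCat.overCat V₁ ⥤ᵇ 𝒴) (h₁ : U₁ ⟶ V₁)
    (α₁ : BasedFunctor.comp x₁ f ≅ BasedFunctor.comp (AlgSt.overMap h₁) y₁)
    (hx₁ : AlgSt.RepByAlgSpWith (AlgSp.LocP @Smooth) x₁)
    (hx₁s : AlgSt.RepByAlgSpWith AlgSp.IsSurjectiveMor x₁)
    (hy₁ : AlgSt.RepByAlgSpWith (AlgSp.LocP @Smooth) y₁) (hP₁ : P ((AlgSp.yon S).map h₁))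
    {U₂ V₂ : Over S} (x₂ : FibCat.overCat U₂ ⥤ᵇ 𝒳) (y₂ : FibCat.overCat V₂ ⥤ᵇ 𝒴) (h₂ : U₂ ⟶ V₂)
    (α₂ : BasedFunctor.comp x₂ f ≅ BasedFunctor.comp (AlgSt.overMap h₂) y₂)
    (hℓ₂ : AlgSt.RepByAlgSpWith (AlgSp.LocP @Smooth) (FibCat.fpLift x₂ (AlgSt.overMap h₂) α₂)) :
    P ((AlgSp.yon S).map h₂) := by
  have hfib𝒳 := h𝒳.isStack.1
  have hfib𝒴 := h𝒴.isStack.1
  have hU₁ : FibCat.IsFibGrpd (FibCat.overCat U₁).p := (isFibSet_overForget U₁).1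
  have hU₂ : FibCat.IsFibGrpd (FibCat.overCat U₂).p := (isFibSet_overForget U₂).1
  have hV₂ : FibCat.IsFibGrpd (FibCat.overCat V₂).p := (isFibSet_overForget V₂).1
  -- the space `B = V₁ ×_𝒴 V₂`
  obtain ⟨B, e_B, he_B⟩ := repByAlgSp1_of_repByAlgSp1_diag h𝒴.diag V₂ y₂ V₁ y₁
  have hb₂ : AlgSp.LocP @Smooth
      (AlgSt.spMapOfOver (BasedFunctor.comp e_B (FibCat.fpSnd y₁ y₂))) :=
    prop_spMapOfOver_of_repByAlgSpWith _ bcStable_smooth (FibCat.fpSnd y₁ y₂)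
      (repByAlgSpWith_fpSnd _ y₁ y₂ hy₁) B e_B he_B
  -- the space `T = U₁ ×_𝒴 V₂`
  obtain ⟨T, e_T, he_T⟩ := repByAlgSp1_of_repByAlgSp1_diag h𝒴.diag V₂ y₂ U₁ (BasedFunctor.comp x₁ f)
  obtain ⟨q, sq, ⟨iq⟩⟩ := exists_isPullback_baseChange' y₂ y₁ B.obj e_B he_B h₁
    (BasedFunctor.comp x₁ f) α₁ T.obj e_T he_T
  let p_T : T.obj ⟶ (AlgSp.yon S).obj V₂ :=
    AlgSt.spMapOfOver (BasedFunctor.comp e_T (FibCat.fpSnd (BasedFunctor.comp x₁ f) y₂))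
  have hqb : q ≫ AlgSt.spMapOfOver (BasedFunctor.comp e_B (FibCat.fpSnd y₁ y₂)) = p_T := by
    rw [← spMapOfOver_ofSpMap_comp]
    exact spMapOfOver_eq_of_iso _ _ iq
  have hPq : P q :=
    hPb (AlgSp.IsAlgSpace.yon_obj U₁) (AlgSp.IsAlgSpace.yon_obj V₁) T.property B.property
      ((AlgSp.yon S).map h₁) _ q _ sq.flip hP₁
  have hPpT : P p_T := by
    rw [← hqb]
    let V₂' : AlgSp.Space S := ⟨(AlgSp.yon S).obj V₂, AlgSp.IsAlgSpace.yon_obj V₂⟩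
    let qq : T ⟶ B := ObjectProperty.homMk q
    let bb : B ⟶ V₂' := ObjectProperty.homMk
      (AlgSt.spMapOfOver (BasedFunctor.comp e_B (FibCat.fpSnd y₁ y₂)))
    exact (Groth.Agent.S10565.result hP).2.2 qq bb hPq hb₂
  -- the chart `τ : T ⟶ 𝒳 ×_𝒴 V₂`
  have hT : FibCat.IsFibGrpd (AlgSt.ofSp T.obj).p := (isFibSetoid_ofPsh T.obj.obj).1
  have hfpT : FibCat.IsFibGrpd (FibCat.fp (BasedFunctor.comp x₁ f) y₂).p :=
    isFibGrpd_fp (BasedFunctor.comp x₁ f) y₂ hU₁ hV₂ hfib𝒴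
  have hZ : FibCat.IsFibGrpd (FibCat.fp f y₂).p := isFibGrpd_fp f y₂ hfib𝒳 hV₂ hfib𝒴
  let τ : AlgSt.ofSp T.obj ⥤ᵇ FibCat.fp f y₂ := BasedFunctor.comp e_T (fpMapLeft x₁ f y₂)
  have hτ₁ : AlgSt.RepByAlgSpWith (AlgSp.LocP @Smooth) τ :=
    (chart_precomp_equiv hT hfpT e_T he_T (fpMapLeft x₁ f y₂)).1
      (repByAlgSpWith_fpMapLeft _ x₁ f y₂ hx₁)
  have hτ₂ : AlgSt.RepByAlgSpWith AlgSp.IsSurjectiveMor τ :=
    (chart_precomp_equiv hT hfpT e_T he_T (fpMapLeft x₁ f y₂)).2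
      (repByAlgSpWith_fpMapLeft _ x₁ f y₂ hx₁s)
  -- the space `G = T ×_Z U₂`
  let ℓ₂ := FibCat.fpLift x₂ (AlgSt.overMap h₂) α₂
  obtain ⟨G, a_G, e_G, he_G, ⟨ι_G⟩, ha_G⟩ :=
    exists_space_map_of_repByAlgSpWith hU₂ hZ (AlgSp.LocP @Smooth) isLocalOnBase_fppf_smooth ℓ₂ hℓ₂
      T τ
  let g₂ : G.obj ⟶ (AlgSp.yon S).obj U₂ :=
    AlgSt.spMapOfOver (BasedFunctor.comp e_G (FibCat.fpSnd τ ℓ₂))
  have hg₂ : AlgSp.LocP @Smooth g₂ :=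
    prop_spMapOfOver_of_repByAlgSpWith _ bcStable_smooth (FibCat.fpSnd τ ℓ₂)
      (repByAlgSpWith_fpSnd _ τ ℓ₂ hτ₁) G e_G he_G
  have hg₂s : AlgSp.IsSurjectiveMor g₂ :=
    prop_spMapOfOver_of_repByAlgSpWith _ bcStable_isSurjectiveMor (FibCat.fpSnd τ ℓ₂)
      (repByAlgSpWith_fpSnd _ τ ℓ₂ hτ₂) G e_G he_G
  -- commutativity
  have comm : g₂ ≫ (AlgSp.yon S).map h₂ = a_G.hom ≫ p_T := by
    rw [← spMapOfOver_comp_overMap, ← spMapOfOver_ofSpMap_comp]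
    apply spMapOfOver_eq_of_iso
    exact (whiskerLeftIso e_G (whiskerRightIso (FibCat.fpIso τ ℓ₂).symm (FibCat.fpSnd f y₂)) :
      BasedFunctor.comp (BasedFunctor.comp e_G (FibCat.fpSnd τ ℓ₂)) (AlgSt.overMap h₂) ≅
        BasedFunctor.comp (BasedFunctor.comp e_G (FibCat.fpFst τ ℓ₂))
          (BasedFunctor.comp e_T (FibCat.fpSnd (BasedFunctor.comp x₁ f) y₂))) ≪≫
      whiskerRightIso ι_G (BasedFunctor.comp e_T (FibCat.fpSnd (BasedFunctor.comp x₁ f) y₂))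
  -- locality
  refine (hP.locality (AlgSp.IsAlgSpace.yon_obj U₂) (AlgSp.IsAlgSpace.yon_obj V₂)
    ((AlgSp.yon S).map h₂)).2 (fun p => ?_)
  obtain ⟨v, hv⟩ := hg₂s p
  exact ⟨G.obj, (AlgSp.yon S).obj V₂, g₂, 𝟙 _, a_G.hom ≫ p_T, v, G.property,
    AlgSp.IsAlgSpace.yon_obj V₂, hg₂, locP_smooth_id V₂, by rw [comm, Category.comp_id], hv,
    hP.precomp G.property T.property (AlgSp.IsAlgSpace.yon_obj V₂) a_G.hom p_T ha_G hPpT⟩

end Engine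

section BaseChange

variable {S : Scheme.{u}} {𝒳 𝒴 𝒴' : AlgSt.Cat S}

/-- A property smooth local on source-and-target and stable under base change, read on one chart
square, passes to base changes. -/
theorem locQ_fpFst (P : MorphismProperty (AlgSp.Sp S)) (hP : AlgSp.IsSmoothLocalST P)
    (hPb : BCStable P) (h𝒳 : AlgSt.IsAlgStack Scheme.fppfPrecoverage 𝒳)
    (h𝒴 : AlgSt.IsAlgStack Scheme.fppfPrecoverage 𝒴)
    (h𝒴' : AlgSt.IsAlgStack Scheme.fppfPrecoverage 𝒴') (f : 𝒳 ⥤ᵇ 𝒴) (g : 𝒴' ⥤ᵇ 𝒴)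
    (hf : AlgSt.LocQ P f) : AlgSt.LocQ P (FibCat.fpFst g f) := by
  obtain ⟨U₁, V₁, x₁, y₁, h₁, α₁, hx₁, hx₁s, hy₁, hP₁⟩ := hf
  obtain ⟨V', y', hy'₁, hy'₂⟩ := h𝒴'.atlas
  obtain ⟨U', x'', h', α'', hℓ₁, hℓ₂, -, -⟩ :=
    exists_good_square_over h𝒳 h𝒴 f (BasedFunctor.comp y' g)
  have hPh' : P ((AlgSp.yon S).map h') :=
    prop_of_good_square_bc P hP hPb h𝒳 h𝒴 f x₁ y₁ h₁ α₁ hx₁ hx₁s hy₁ hP₁ x''
      (BasedFunctor.comp y' g) h' α'' hℓ₁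
  have hU' : FibCat.IsFibGrpd (FibCat.overCat U').p := (isFibSet_overForget U').1
  have hV' : FibCat.IsFibGrpd (FibCat.overCat V').p := (isFibSet_overForget V').1
  have hfp1 : FibCat.IsFibGrpd (FibCat.fp f (BasedFunctor.comp y' g)).p :=
    isFibGrpd_fp _ _ h𝒳.isStack.1 hV' h𝒴.isStack.1
  have hfp2 : FibCat.IsFibGrpd (FibCat.fp (BasedFunctor.comp y' g) f).p :=
    isFibGrpd_fp _ _ hV' h𝒳.isStack.1 h𝒴.isStack.1
  have hc := chart_precomp_equiv hfp1 hfp2 (fpSwap f (BasedFunctor.comp y' g))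
    (isEquivOver_fpSwap _ _) (fpMapLeft y' g f)
  let ℓ : FibCat.overCat U' ⥤ᵇ FibCat.fp f (BasedFunctor.comp y' g) :=
    FibCat.fpLift x'' (AlgSt.overMap h') α''
  let x' : FibCat.overCat U' ⥤ᵇ FibCat.fp g f :=
    BasedFunctor.comp ℓ (BasedFunctor.comp (fpSwap f (BasedFunctor.comp y' g)) (fpMapLeft y' g f))
  have hx'₁ : AlgSt.RepByAlgSpWith (AlgSp.LocP @Smooth) x' :=
    repByAlgSpWith_comp_of_compCond hU' hfp1 _ compCond_smooth ℓ _ hℓ₁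
      (hc.1 (repByAlgSpWith_fpMapLeft _ y' g f hy'₁))
  have hx'₂ : AlgSt.RepByAlgSpWith AlgSp.IsSurjectiveMor x' :=
    repByAlgSpWith_comp_of_compCond hU' hfp1 _ compCond_isSurjectiveMor ℓ _ hℓ₂
      (hc.2 (repByAlgSpWith_fpMapLeft _ y' g f hy'₂))
  exact ⟨U', V', x', y', h', Iso.refl _, hx'₁, hx'₂, hy'₁, hPh'⟩

end BaseChange

end Groth.Agent.Lib.T2H6.LocQBC
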