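-- helper6 (team 2): invariance of the chart-square property under isomorphisms and equivalences;
-- flatness descends along flat surjective base change.
import Mathlib
import Groth.Agent.Lib.T2H6LocQBC
import Groth.Agent.Lib.T2H6FlatComp

set_option autoImplicit false
set_option backward.isDefEq.respectTransparency false
set_option backward.isDefEq.respectTransparency.types false
open CategoryTheory CategoryTheory.Functor CategoryTheory.Limits Opposite AlgebraicGeometry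

universe u

namespace Groth.Agent.Lib.T2H6.LocQDescent

open Groth.Agent.Lib.Helper17 Groth.Agent.Lib.Helper15Atlas Groth.Agent.Lib.Helper15PtsTop
  Groth.Agent.Lib.Helper15LocQProps Groth.Agent.Lib.Helper15FpSwap
  Groth.Agent.Lib.Helper15LocQComp Groth.Agent.Lib.Helper15DiagLft

variable {S : Scheme.{u}} {𝒳 𝒳' 𝒴 𝒵 : AlgSt.Cat S}

theorem locQ_of_iso (P : MorphismProperty (AlgSp.Sp S)) {f f' : 𝒳 ⥤ᵇ 𝒴} (e : f ≅ f')
    (hf : AlgSt.LocQ P f) : AlgSt.LocQ P f' := by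
  obtain ⟨U, V, x, y, h, α, hx₁, hx₂, hy₁, hP⟩ := hf
  exact ⟨U, V, x, y, h, (whiskerLeftIso x e.symm : BasedFunctor.comp x f' ≅ BasedFunctor.comp x f) ≪≫ α,
    hx₁, hx₂, hy₁, hP⟩

theorem locQ_precomp_equiv (P : MorphismProperty (AlgSp.Sp S)) (E : 𝒳' ⥤ᵇ 𝒳)
    (hE : FibCat.IsEquivOver E) (f : 𝒳 ⥤ᵇ 𝒴) (hf : AlgSt.LocQ P f) :
    AlgSt.LocQ P (BasedFunctor.comp E f) := by
  obtain ⟨U, V, x, y, h, α, hx₁, hx₂, hy₁, hP⟩ := hf
  obtain ⟨E', hE', -, ⟨β⟩⟩ := IsEquivOver.exists_inverse_isEquivOver' E hE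
  refine ⟨U, V, BasedFunctor.comp x E', y, h, ?_, ?_, ?_, hy₁, hP⟩
  · exact (whiskerLeftIso x (whiskerRightIso β f) :
      BasedFunctor.comp (BasedFunctor.comp x E') (BasedFunctor.comp E f) ≅ BasedFunctor.comp x f) ≪≫ α
  · exact (repByAlgSpWith_of_square _ (BasedFunctor.comp x E') x (BasedFunctor.id _) E'
      (isEquivOver_id _) hE' (Iso.refl _)).2 hx₁
  · exact (repByAlgSpWith_of_square _ (BasedFunctor.comp x E') x (BasedFunctor.id _) E'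
      (isEquivOver_id _) hE' (Iso.refl _)).2 hx₂

/-- base change along the second projection -/
theorem locQ_fpSnd (P : MorphismProperty (AlgSp.Sp S)) (hP : AlgSp.IsSmoothLocalST P)
    (hPb : BCStable P) (h𝒳 : AlgSt.IsAlgStack Scheme.fppfPrecoverage 𝒳)
    (h𝒴 : AlgSt.IsAlgStack Scheme.fppfPrecoverage 𝒴)
    (h𝒵 : AlgSt.IsAlgStack Scheme.fppfPrecoverage 𝒵) (z : 𝒵 ⥤ᵇ 𝒴) (f : 𝒳 ⥤ᵇ 𝒴)
    (hz : AlgSt.LocQ P z) : AlgSt.LocQ P (FibCat.fpSnd z f) :=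
  locQ_precomp_equiv P (fpSwap z f) (isEquivOver_fpSwap z f) (FibCat.fpFst f z)
    (Groth.Agent.Lib.T2H6.LocQBC.locQ_fpFst P hP hPb h𝒵 h𝒴 h𝒳 z f hz)

/-- Flatness descends along a flat surjective base change. -/
theorem locQ_flat_of_fpFst (h𝒳 : AlgSt.IsAlgStack Scheme.fppfPrecoverage 𝒳)
    (h𝒴 : AlgSt.IsAlgStack Scheme.fppfPrecoverage 𝒴)
    (h𝒵 : AlgSt.IsAlgStack Scheme.fppfPrecoverage 𝒵) (f : 𝒳 ⥤ᵇ 𝒴) (z : 𝒵 ⥤ᵇ 𝒴)
    (hz₁ : AlgSt.LocQ (AlgSp.LocP @Flat) z) (hz₂ : AlgSt.IsSurjective z)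
    (h : AlgSt.LocQ (AlgSp.LocP @Flat) (FibCat.fpFst z f)) : AlgSt.LocQ (AlgSp.LocP @Flat) f := by
  have hW : AlgSt.IsAlgStack Scheme.fppfPrecoverage (FibCat.fp z f) :=
    isAlgStack_fp_of_isPrestack (IsStack.isPrestack _ h𝒴.isStack) h𝒴.diag h𝒵 h𝒳 z f
  have h1 : AlgSt.LocQ (AlgSp.LocP @Flat) (FibCat.fpSnd z f) :=
    locQ_fpSnd _ isSmoothLocalST_flat bcStable_flat h𝒳 h𝒴 h𝒵 z f hz₁
  have h2 : AlgSt.IsSurjective (FibCat.fpSnd z f) :=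
    Groth.Agent.Lib.T2H6.FlatComp.isSurjective_fpSnd h𝒵 h𝒴 h𝒳 z f hz₂
  have h3 : AlgSt.LocQ (AlgSp.LocP @Flat) (BasedFunctor.comp (FibCat.fpFst z f) z) :=
    locQ_comp _ isSmoothLocalST_flat (fun _ _ _ _ hY hZ a b ha hb => locP_flat_comp hY hZ a b ha hb)
      hW h𝒵 h𝒴 _ _ h hz₁
  have h4 : AlgSt.LocQ (AlgSp.LocP @Flat) (BasedFunctor.comp (FibCat.fpSnd z f) f) :=
    locQ_of_iso _ (FibCat.fpIso z f) h3
  exact Groth.Agent.Lib.T2H6.FlatComp.locQ_flat_of_comp hW h𝒳 h𝒴 (FibCat.fpSnd z f) f h1 h2 h4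

end Groth.Agent.Lib.T2H6.LocQDescent
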