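-- helper6 (team 2): a stack with a flat surjective field point: every field point is flat and
-- surjective.
import Mathlib
import Groth.Agent.Lib.T2H6FlatComp
import Groth.Agent.Lib.T2H6LocQDescent
import Groth.Agent.Lib.Helper15LocQRep
import Groth.Agent.Lib.Helper15LocQComp
import Groth.Agent.Lib.Helper15LocEss
import Groth.Agent.Lib.T2H6ClosedImm
import Groth.Agent.S10530

set_option autoImplicit false
set_option backward.isDefEq.respectTransparency false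
set_option backward.isDefEq.respectTransparency.types false
open CategoryTheory CategoryTheory.Functor CategoryTheory.Limits Opposite AlgebraicGeometry

universe u

namespace Groth.Agent.Lib.T2H6.FieldPt

open Groth.Agent.Lib.Helper17 Groth.Agent.Lib.Helper15PtsTop Groth.Agent.Lib.Helper15PtsComp
  Groth.Agent.Lib.Helper15DiagBase Groth.Agent.Lib.Helper15LocQEngine Groth.Agent.Lib.Helper15Atlas
  Groth.Agent.Lib.Helper15DiagRepSp Groth.Agent.Lib.Helper15EquivRep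
  Groth.Agent.Lib.Helper15UnivComp Groth.Agent.Lib.Helper15SmLoc
  Groth.Agent.Lib.Helper15LocQProps Groth.Agent.Lib.Helper15SrcCancel
  Groth.Agent.Lib.Helper15LocQRep Groth.Agent.Lib.Helper15LocEss

theorem flat_to_field (k : Type u) [Field k] (X : Scheme.{u})
    (f : X ⟶ Spec (CommRingCat.of k)) : Flat f := by
  have : Subsingleton ↥(Spec (CommRingCat.of k)) :=
    inferInstanceAs (Subsingleton (PrimeSpectrum k))
  infer_instance

variable {S : Scheme.{u}} {𝒵 : AlgSt.Cat S}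

theorem result_aux (h𝒵 : AlgSt.IsAlgStack Scheme.fppfPrecoverage 𝒵)
    (k : Type u) [Field k] (a : Spec (CommRingCat.of k) ⟶ S)
    (z : FibCat.overCat (Over.mk a) ⥤ᵇ 𝒵)
    (hzs : AlgSt.RepByAlgSpWith AlgSp.IsSurjectiveMor z)
    (hzf : AlgSt.RepByAlgSpWith (AlgSp.LocP @Flat) z)
    (k' : Type u) [Field k'] (a' : Spec (CommRingCat.of k') ⟶ S)
    (z' : FibCat.overCat (Over.mk a') ⥤ᵇ 𝒵) :
    AlgSt.RepByAlgSpWith AlgSp.IsSurjectiveMor z' ∧
      AlgSt.RepByAlgSpWith (AlgSp.LocP @Flat) z' := by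
  have hK := isAlgStack_overCat (Over.mk a)
  have hK' := isAlgStack_overCat (Over.mk a')
  have h𝒫 : AlgSt.IsAlgStack Scheme.fppfPrecoverage (FibCat.fp z z') :=
    isAlgStack_fp_of_isPrestack (IsStack.isPrestack _ h𝒵.isStack) h𝒵.diag hK hK' z z'
  have hz'rep : AlgSt.RepByAlgSp1 z' := repByAlgSp1_of_repByAlgSp1_diag h𝒵.diag _ z'
  have hzrep : AlgSt.RepByAlgSp1 z := repByAlgSp1_of_repByAlgSp1_diag h𝒵.diag _ z
  -- surjectivity
  have hzS : AlgSt.IsSurjective z := (isSurjective_iff_repByAlgSpWith hK h𝒵 z hzrep).2 hzs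
  have hsub : Subsingleton ↥(Over.mk a).left :=
    inferInstanceAs (Subsingleton (PrimeSpectrum k))
  have hne : Nonempty ↥(Over.mk a').left := inferInstanceAs (Nonempty (PrimeSpectrum k'))
  have hz'S : AlgSt.IsSurjective z' := by
    intro p
    obtain ⟨q, rfl⟩ := hzS p
    obtain ⟨t'⟩ := hne
    obtain ⟨q', hq'⟩ := hzS (AlgSt.Points.map z' (ptOver _ t'))
    obtain ⟨t, rfl⟩ := (ptOver_bijective _).2 q
    obtain ⟨t₁, rfl⟩ := (ptOver_bijective _).2 q'
    refine ⟨ptOver _ t', ?_⟩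
    rw [← hq', Subsingleton.elim t t₁]
  -- flatness
  have hzL : AlgSt.LocQ (AlgSp.LocP @Flat) z :=
    locQ_of_repByAlgSpWith _ isSmoothLocalST_flat hK h𝒵 z hzf
  have hpr₁ : AlgSt.LocQ (AlgSp.LocP @Flat) (FibCat.fpFst z z') := by
    obtain ⟨U, x, hx₁, hx₂⟩ := h𝒫.atlas
    obtain ⟨h, ⟨lam⟩⟩ := exists_iso_overMap (BasedFunctor.comp x (FibCat.fpFst z z'))
    have hfl : Flat h.left := flat_to_field k _ h.left
    refine ⟨U, Over.mk a, x, BasedFunctor.id _, h, lam, hx₁, hx₂, ?_, locP_yon_map_of_flat h hfl⟩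
    exact repByAlgSpWith_of_isEquivOver _ (fun U => locP_smooth_id _) _ (isEquivOver_id _)
  have hpr₂f : AlgSt.RepByAlgSpWith (AlgSp.LocP @Flat) (FibCat.fpSnd z z') :=
    repByAlgSpWith_fpSnd _ z z' hzf
  have hpr₂s : AlgSt.RepByAlgSpWith AlgSp.IsSurjectiveMor (FibCat.fpSnd z z') :=
    repByAlgSpWith_fpSnd _ z z' hzs
  have hpr₂L : AlgSt.LocQ (AlgSp.LocP @Flat) (FibCat.fpSnd z z') :=
    locQ_of_repByAlgSpWith _ isSmoothLocalST_flat h𝒫 hK' _ hpr₂f
  have hpr₂S : AlgSt.IsSurjective (FibCat.fpSnd z z') :=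
    (isSurjective_iff_repByAlgSpWith h𝒫 hK' _ (repByAlgSp1_of_repByAlgSpWith _ _ hpr₂s)).2 hpr₂s
  have hcomp : AlgSt.LocQ (AlgSp.LocP @Flat) (BasedFunctor.comp (FibCat.fpFst z z') z) :=
    Groth.Agent.Lib.Helper15LocQComp.locQ_comp _ isSmoothLocalST_flat
      (fun _ _ _ _ hY hZ a b ha hb => locP_flat_comp hY hZ a b ha hb) h𝒫 hK h𝒵 _ _ hpr₁ hzL
  have hcomp' : AlgSt.LocQ (AlgSp.LocP @Flat) (BasedFunctor.comp (FibCat.fpSnd z z') z') :=
    Groth.Agent.Lib.T2H6.LocQDescent.locQ_of_iso _ (FibCat.fpIso z z') hcomp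
  have hz'L : AlgSt.LocQ (AlgSp.LocP @Flat) z' :=
    Groth.Agent.Lib.T2H6.FlatComp.locQ_flat_of_comp h𝒫 hK' h𝒵 (FibCat.fpSnd z z') z' hpr₂L hpr₂S
      hcomp'
  exact ⟨(isSurjective_iff_repByAlgSpWith hK' h𝒵 z' hz'rep).1 hz'S,
    Groth.Agent.Lib.Helper15LocQRep.repByAlgSpWith_of_locQ _ isSmoothLocalST_flat bcStable_flat
      (Groth.Agent.Lib.Helper15DiagDescent.isLocalOnBase_fppf_of_fpqc _
        (Groth.Agent.S10530.result S)) hK' h𝒵 z' hz'rep hz'L⟩

end Groth.Agent.Lib.T2H6.FieldPt
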