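import Mathlib
import Groth.Agent.Lib.T2H6AssFibProd

/-!
# No embedded points over a flat integral algebra over a domain (helper6)

* `comap_eq_bot_of_isAssociatedPrime`: `A` a domain, `R` flat over `A`, `P` a prime of `R` with `m ∈ Ass (R_P)`; then
  `P ∩ A = 0`.
* `noEmbedded_Spec_of_flat_integral`: if moreover `R` is integral over `A`, `Spec R` has no embedded points.
-/

set_option autoImplicit false
set_option linter.style.haveILetI false
set_option linter.unusedSectionVars false
universe u
open CategoryTheory CategoryTheory.Limits AlgebraicGeometry Opposite TopologicalSpace TensorProduct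

namespace Groth.Agent.Lib.T2H6.FieldTens

open IsLocalRing

section Alg

variable (A R Rp : Type u) [CommRing A] [IsDomain A] [CommRing R] [Algebra A R] [Module.Flat A R]
  (P : Ideal R) [P.IsPrime] [CommRing Rp] [Algebra R Rp] [IsLocalization.AtPrime Rp P] [IsLocalRing Rp]

theorem comap_eq_bot_of_isAssociatedPrime (h : IsAssociatedPrime (maximalIdeal Rp) Rp) :
    P.comap (algebraMap A R) = ⊥ := by
  letI : Algebra A Rp := ((algebraMap R Rp).comp (algebraMap A R)).toAlgebra
  haveI : IsScalarTower A R Rp := IsScalarTower.of_algebraMap_eq (fun a => rfl)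
  haveI : Module.Flat R Rp := IsLocalization.flat Rp P.primeCompl
  haveI : Module.Flat A Rp := Module.Flat.trans A R Rp
  rw [eq_bot_iff]
  intro a ha
  rw [Ideal.mem_bot]
  by_contra ha0
  have hreg : IsSMulRegular Rp (algebraMap A Rp a) :=
    IsSMulRegular.of_flat (IsSMulRegular.of_ne_zero ha0 : IsSMulRegular A a)
  have hmem : algebraMap A Rp a ∈ maximalIdeal Rp := by
    show algebraMap R Rp (algebraMap A R a) ∈ maximalIdeal Rp
    exact (IsLocalization.AtPrime.to_map_mem_maximal_iff Rp P _).2 (Ideal.mem_comap.1 ha)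
  obtain ⟨ξ, hξ⟩ := h.2
  rw [hξ] at hmem
  obtain ⟨n, hn⟩ := hmem
  rw [Submodule.mem_colon_singleton, Submodule.mem_bot] at hn
  have hξ0 : ξ = 0 := by
    have hreg' : IsSMulRegular Rp ((algebraMap A Rp a) ^ n) := hreg.pow n
    apply hreg'
    show (algebraMap A Rp a) ^ n • ξ = (algebraMap A Rp a) ^ n • 0
    rw [hn, smul_zero]
  have htop : (maximalIdeal Rp) = ⊤ := by
    rw [hξ, hξ0, Ideal.radical_eq_top, Ideal.eq_top_iff_one, Submodule.mem_colon_singleton, smul_zero]
    exact Submodule.zero_mem _
  exact (maximalIdeal.isMaximal Rp).ne_top htop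

end Alg

section Spec

variable (A R : Type u) [CommRing A] [IsDomain A] [CommRing R] [Algebra A R] [Module.Flat A R]

theorem comap_asIdeal_eq_bot (z : Spec (CommRingCat.of R))
    (hz : z ∈ AssSch.Ass (Coh.structureModule (Spec (CommRingCat.of R)))) :
    (PrimeSpectrum.asIdeal (R := R) z).comap (algebraMap A R) = ⊥ := by
  have h1 := (Groth.Agent.Lib.Helper23.UnitStalk.isAssPoint_structureModule_iff z).1 hz
  letI : Algebra R ((Spec (CommRingCat.of R)).presheaf.stalk z) := StructureSheaf.stalkAlgebra R z
  haveI : IsLocalization.AtPrime ((Spec (CommRingCat.of R)).presheaf.stalk z)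
      (PrimeSpectrum.asIdeal (R := R) z) := StructureSheaf.IsLocalization.to_stalk R z
  exact comap_eq_bot_of_isAssociatedPrime A R _ (PrimeSpectrum.asIdeal (R := R) z) h1

theorem noEmbedded_Spec_of_flat_integral [Algebra.IsIntegral A R] :
    AssSch.NoEmbedded (Coh.structureModule (Spec (CommRingCat.of R))) := by
  intro x hx y hy hyx
  have hle : PrimeSpectrum.asIdeal (R := R) y ≤ PrimeSpectrum.asIdeal (R := R) x :=
    (PrimeSpectrum.asIdeal_le_asIdeal (R := R) y x).2 ((PrimeSpectrum.le_iff_specializes (R := R) y x).2 hyx)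
  by_contra hne
  have hlt : PrimeSpectrum.asIdeal (R := R) y < PrimeSpectrum.asIdeal (R := R) x :=
    lt_of_le_of_ne hle (fun h => hne (PrimeSpectrum.ext (R := R) h.symm))
  have h2 := Ideal.IsIntegral.comap_lt_comap (R := A) hlt
  rw [comap_asIdeal_eq_bot A R x hx, comap_asIdeal_eq_bot A R y hy] at h2
  exact lt_irrefl _ h2

end Spec

end Groth.Agent.Lib.T2H6.FieldTens
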