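import Mathlib
import Groth.Agent.Lib.T2H6FieldTensA

/-!
# Tensor products of fields: no embedded primes (helper6)

* `isDomain_tensor_ratFunc`: `F ⊗[k] K` is a domain for `F` a purely transcendental extension of `k`.
* `noEmbedded_Spec_tensor_fields`: `Spec (K ⊗[k] L)` has no embedded points (stalkwise sense), for arbitrary field
  extensions `K`, `L` of `k`.
-/

set_option autoImplicit false
set_option linter.style.haveILetI false
set_option linter.unusedSectionVars false
universe u
open CategoryTheory CategoryTheory.Limits AlgebraicGeometry Opposite TopologicalSpace TensorProduct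

namespace Groth.Agent.Lib.T2H6.FieldTens

section Dom

variable (k K F : Type u) [Field k] [Field K] [Field F] [Algebra k K] [Algebra k F]

theorem isDomain_tensor_ratFunc (ι : Type u) (e0 : FractionRing (MvPolynomial ι k) ≃ₐ[k] F) :
    IsDomain (F ⊗[k] K) := by
  haveI hS : IsDomain (MvPolynomial ι k ⊗[k] K) :=
    ((Algebra.TensorProduct.comm k (MvPolynomial ι k) K).toRingEquiv.trans
      (MvPolynomial.algebraTensorAlgEquiv k K).toRingEquiv).toMulEquiv.isDomain
  letI : Algebra (MvPolynomial ι k ⊗[k] K)
      (FractionRing (MvPolynomial ι k) ⊗[MvPolynomial ι k] (MvPolynomial ι k ⊗[k] K)) :=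
    Algebra.TensorProduct.rightAlgebra
  haveI hloc : IsLocalization
      (Algebra.algebraMapSubmonoid (MvPolynomial ι k ⊗[k] K) (nonZeroDivisors (MvPolynomial ι k)))
      (FractionRing (MvPolynomial ι k) ⊗[MvPolynomial ι k] (MvPolynomial ι k ⊗[k] K)) :=
    IsLocalization.tensorRight (FractionRing (MvPolynomial ι k)) (nonZeroDivisors (MvPolynomial ι k))
  have hle : Algebra.algebraMapSubmonoid (MvPolynomial ι k ⊗[k] K) (nonZeroDivisors (MvPolynomial ι k)) ≤
      nonZeroDivisors (MvPolynomial ι k ⊗[k] K) := by
    rintro _ ⟨p, hp, rfl⟩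
    apply mem_nonZeroDivisors_of_ne_zero
    have hinj : Function.Injective (algebraMap (MvPolynomial ι k) (MvPolynomial ι k ⊗[k] K)) :=
      Algebra.TensorProduct.includeLeft_injective (S := MvPolynomial ι k)
        (FaithfulSMul.algebraMap_injective k K)
    intro h0
    exact (nonZeroDivisors.ne_zero hp) (hinj (h0.trans (map_zero _).symm))
  haveI hW : IsDomain
      (FractionRing (MvPolynomial ι k) ⊗[MvPolynomial ι k] (MvPolynomial ι k ⊗[k] K)) :=
    IsLocalization.isDomain_of_le_nonZeroDivisors
      (FractionRing (MvPolynomial ι k) ⊗[MvPolynomial ι k] (MvPolynomial ι k ⊗[k] K)) hle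
  haveI hQ : IsDomain (FractionRing (MvPolynomial ι k) ⊗[k] K) :=
    (Algebra.TensorProduct.cancelBaseChange k (MvPolynomial ι k)
      (FractionRing (MvPolynomial ι k)) (FractionRing (MvPolynomial ι k)) K).toRingEquiv.symm.toMulEquiv.isDomain
  exact (Algebra.TensorProduct.congr e0 (AlgEquiv.refl : K ≃ₐ[k] K)).toRingEquiv.symm.toMulEquiv.isDomain

end Dom

section Iso

open Groth.Agent.Lib.Helper23.UnitStalk

theorem isAssPoint_structureModule_iff_of_iso {V V' : Scheme.{u}} (e : V ≅ V') (v : V) :
    Curv2.IsAssPoint (Coh.structureModule V) v ↔ Curv2.IsAssPoint (Coh.structureModule V') (e.hom v) := by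
  rw [isAssPoint_structureModule_iff, isAssPoint_structureModule_iff]
  have hbij : Function.Bijective (e.hom.stalkMap v).hom := ConcreteCategory.bijective_of_isIso _
  exact (Groth.Agent.Lib.T2H6.AssRestrict.isAssociatedPrime_maximalIdeal_iff (e.hom.stalkMap v).hom hbij
    (RingEquiv.ofBijective _ hbij).toAddEquiv
    (fun r n => map_mul (e.hom.stalkMap v).hom r n)).symm

theorem noEmbedded_structureModule_of_iso {V V' : Scheme.{u}} (e : V ≅ V')
    (h : AssSch.NoEmbedded (Coh.structureModule V')) : AssSch.NoEmbedded (Coh.structureModule V) := by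
  intro x hx y hy hyx
  have h1 := h (e.hom x) ((isAssPoint_structureModule_iff_of_iso e x).1 hx) (e.hom y)
    ((isAssPoint_structureModule_iff_of_iso e y).1 hy) (hyx.map e.hom.continuous)
  exact e.hom.isOpenEmbedding.injective h1

end Iso

section Fields

variable (k K L : Type u) [Field k] [Field K] [Field L] [Algebra k K] [Algebra k L]

theorem noEmbedded_Spec_tensor_fields_aux (F : Type u) [Field F] [Algebra k F] [Algebra F L]
    [IsScalarTower k F L] [Algebra.IsAlgebraic F L]
    (ι : Type u) (e0 : FractionRing (MvPolynomial ι k) ≃ₐ[k] F) :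
    AssSch.NoEmbedded (Coh.structureModule (Spec (CommRingCat.of (K ⊗[k] L)))) := by
  haveI : Algebra.IsIntegral F L := Algebra.IsAlgebraic.isIntegral
  haveI hdom : IsDomain (F ⊗[k] K) := isDomain_tensor_ratFunc k K F ι e0
  have h1 : AssSch.NoEmbedded (Coh.structureModule (Spec (CommRingCat.of ((F ⊗[k] K) ⊗[F] L)))) :=
    noEmbedded_Spec_of_flat_integral (F ⊗[k] K) ((F ⊗[k] K) ⊗[F] L)
  let φ : ((F ⊗[k] K) ⊗[F] L) ≃+* (K ⊗[k] L) :=
    (Algebra.TensorProduct.comm F (F ⊗[k] K) L).toRingEquiv.trans
      ((Algebra.TensorProduct.cancelBaseChange k F L L K).toRingEquiv.trans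
        (Algebra.TensorProduct.comm k L K).toRingEquiv)
  exact noEmbedded_structureModule_of_iso
    (Scheme.Spec.mapIso (φ.toCommRingCatIso).op) h1

theorem noEmbedded_Spec_tensor_fields :
    AssSch.NoEmbedded (Coh.structureModule (Spec (CommRingCat.of (K ⊗[k] L)))) := by
  obtain ⟨s, hs⟩ := exists_isTranscendenceBasis k L
  haveI : Algebra.IsAlgebraic (IntermediateField.adjoin k (Set.range (Subtype.val : s → L))) L :=
    hs.isAlgebraic_field
  exact noEmbedded_Spec_tensor_fields_aux k K L
    (↥(IntermediateField.adjoin k (Set.range (Subtype.val : s → L)))) s hs.1.aevalEquivField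

end Fields

section PB

variable (k K L : Type u) [Field k] [Field K] [Field L] [Algebra k K] [Algebra k L]

/-- a scheme which is a fibre product of spectra of fields has no embedded points. -/
theorem noEmbedded_of_isPullback_Spec_fields {V : Scheme.{u}}
    (a : V ⟶ Spec (CommRingCat.of K)) (b : V ⟶ Spec (CommRingCat.of L))
    (h : IsPullback a b (Spec.map (CommRingCat.ofHom (algebraMap k K)))
      (Spec.map (CommRingCat.ofHom (algebraMap k L)))) :
    AssSch.NoEmbedded (Coh.structureModule V) :=
  noEmbedded_structureModule_of_iso (h.isoPullback ≪≫ pullbackSpecIso k K L)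
    (noEmbedded_Spec_tensor_fields k K L)

end PB

end Groth.Agent.Lib.T2H6.FieldTens
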