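import Mathlib
import Groth.Agent.Lib.T2H6FieldTensB

/-!
# Associated points of `F ⊗_S G` on a fibre product: no embedded points (helper6)

* `isAssPoint_structureModule_fiber_of_pullback_flat`: for `r` flat, a point of a fibre of `r` which is associated to
  `r^* H` is an associated point of (the structure sheaf of) the fibre.
* `noEmbedded_fiber_fibMap`: the fibres of the map `fibMap` between fibres of a cartesian square have no embedded points
  (they are spectra of tensor products of fields).
* `eq_of_specializes_of_fst_eq_of_snd_eq`: two associated points of `F ⊗_S G` with the same projections, one specializing to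
  the other, coincide.
-/

set_option autoImplicit false
set_option linter.style.haveILetI false
set_option linter.unusedSectionVars false
universe u
open CategoryTheory CategoryTheory.Limits AlgebraicGeometry Opposite TopologicalSpace TensorProduct

namespace Groth.Agent.Lib.T2H6.FieldTens

open Groth.Agent.Lib.Helper1.Sky Groth.Agent.Lib.Helper1.StalkTensor
open Groth.Agent.Lib.T2H8.StalkRestrict IsLocalRing
open Groth.Agent.Lib.T2H6.FlatAss Groth.Agent.Lib.T2H6.FibBC Groth.Agent.Lib.T2H6.AssFibProd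

section Ring

theorem q'_of_isAssociatedPrime_tensor {A B : Type u} [CommRing A] [CommRing B] [IsLocalRing A] [IsLocalRing B]
    [Algebra A B] [IsLocalHom (algebraMap A B)] [IsNoetherianRing A] [IsNoetherianRing B] [Module.Flat A B]
    (E : Type u) [AddCommGroup E] [Module A E]
    (h : IsAssociatedPrime (maximalIdeal B) (B ⊗[A] E)) :
    Q' ((maximalIdeal A).map (algebraMap A B)) B :=
  (q_iff_q' (A := A) (B := B) (F := B)).1 (of_isAssociatedPrime_tensor h).2

theorem isAssociatedPrime_self_of_q' {B O' : Type u} [CommRing B] [CommRing O'] [IsLocalRing B] [IsLocalRing O']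
    [Algebra B O'] [IsLocalHom (algebraMap B O')] [IsNoetherianRing B] [IsNoetherianRing O']
    (hs : Function.Surjective (algebraMap B O')) (h : Q' (RingHom.ker (algebraMap B O')) B) :
    IsAssociatedPrime (maximalIdeal O') O' :=
  (LinearEquiv.isAssociatedPrime_iff (TensorProduct.AlgebraTensorModule.rid B O' O')).1
    ((isAssociatedPrime_baseChange_iff B hs).2 h)

end Ring

theorem isAssPoint_structureModule_fiber_of_pullback_flat {T W : Scheme.{u}} (r : T ⟶ W) (H : W.Modules)
    (y₀ : W) (v : r.fiber y₀)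
    [IsNoetherianRing (T.presheaf.stalk (r.fiberι y₀ v))]
    [IsNoetherianRing (W.presheaf.stalk (r (r.fiberι y₀ v)))]
    (hfl : (r.stalkMap (r.fiberι y₀ v)).hom.Flat)
    (hass : Curv2.IsAssPoint ((Scheme.Modules.pullback r).obj H) (r.fiberι y₀ v)) :
    Curv2.IsAssPoint (Coh.structureModule (r.fiber y₀)) v := by
  letI alg : Algebra (W.presheaf.stalk (r (r.fiberι y₀ v))) (T.presheaf.stalk (r.fiberι y₀ v)) :=
    (r.stalkMap (r.fiberι y₀ v)).hom.toAlgebra
  haveI : IsLocalHom (algebraMap (W.presheaf.stalk (r (r.fiberι y₀ v))) (T.presheaf.stalk (r.fiberι y₀ v))) :=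
    inferInstanceAs (IsLocalHom (r.stalkMap (r.fiberι y₀ v)).hom)
  haveI : Module.Flat (W.presheaf.stalk (r (r.fiberι y₀ v))) (T.presheaf.stalk (r.fiberι y₀ v)) := hfl
  let N := (stalkFun (r (r.fiberι y₀ v))).obj H
  let e : ((Scheme.Modules.pullback r).obj H).presheaf.stalk (r.fiberι y₀ v) ≃ₗ[T.presheaf.stalk (r.fiberι y₀ v)]
      (T.presheaf.stalk (r.fiberι y₀ v) ⊗[W.presheaf.stalk (r (r.fiberι y₀ v))]
        H.presheaf.stalk (r (r.fiberι y₀ v))) :=
    ((stalkPullbackIso r (r.fiberι y₀ v)).app H).toLinearEquiv ≪≫ₗ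
      Groth.Agent.S2380.bridge (W.presheaf.stalk (r (r.fiberι y₀ v))) (T.presheaf.stalk (r.fiberι y₀ v)) N
  have h1 : IsAssociatedPrime (maximalIdeal (T.presheaf.stalk (r.fiberι y₀ v)))
      (T.presheaf.stalk (r.fiberι y₀ v) ⊗[W.presheaf.stalk (r (r.fiberι y₀ v))]
        H.presheaf.stalk (r (r.fiberι y₀ v))) :=
    (LinearEquiv.isAssociatedPrime_iff e).1 hass
  have h2 := q'_of_isAssociatedPrime_tensor _ h1
  rw [Groth.Agent.Lib.Helper23.UnitStalk.isAssPoint_structureModule_iff]
  letI alg2 : Algebra (T.presheaf.stalk (r.fiberι y₀ v)) ((r.fiber y₀).presheaf.stalk v) :=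
    ((r.fiberι y₀).stalkMap v).hom.toAlgebra
  have hs : Function.Surjective
      (algebraMap (T.presheaf.stalk (r.fiberι y₀ v)) ((r.fiber y₀).presheaf.stalk v)) :=
    (r.fiberι y₀).stalkMap_surjective v
  haveI : IsLocalHom (algebraMap (T.presheaf.stalk (r.fiberι y₀ v)) ((r.fiber y₀).presheaf.stalk v)) :=
    inferInstanceAs (IsLocalHom ((r.fiberι y₀).stalkMap v).hom)
  haveI : IsNoetherianRing ((r.fiber y₀).presheaf.stalk v) :=
    isNoetherianRing_of_surjective _ _ (algebraMap (T.presheaf.stalk (r.fiberι y₀ v))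
      ((r.fiber y₀).presheaf.stalk v)) hs
  have hker : RingHom.ker (algebraMap (T.presheaf.stalk (r.fiberι y₀ v)) ((r.fiber y₀).presheaf.stalk v)) =
      Ideal.map (r.stalkMap (r.fiberι y₀ v)).hom
        (maximalIdeal (W.presheaf.stalk (r (r.fiberι y₀ v)))) :=
    Groth.Agent.Lib.Helper10.FibStalk.ker_eq_map r y₀ v
  refine isAssociatedPrime_self_of_q' hs ?_
  rw [hker]
  exact h2

section PB

/-- variant of `noEmbedded_of_isPullback_Spec_fields` with morphisms of `CommRingCat`. -/
theorem noEmbedded_of_isPullback_Spec_fields' {V : Scheme.{u}} {k K L : Type u} [Field k] [Field K] [Field L]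
    (φ : CommRingCat.of k ⟶ CommRingCat.of K) (ψ : CommRingCat.of k ⟶ CommRingCat.of L)
    (a : V ⟶ Spec (CommRingCat.of K)) (b : V ⟶ Spec (CommRingCat.of L))
    (h : IsPullback a b (Spec.map φ) (Spec.map ψ)) : AssSch.NoEmbedded (Coh.structureModule V) := by
  letI := φ.hom.toAlgebra
  letI := ψ.hom.toAlgebra
  exact noEmbedded_of_isPullback_Spec_fields k K L a b h

end PB

section Main

theorem exists_fiber_point' {X Y : Scheme.{u}} (f : X ⟶ Y) (y : Y) (x : X) (hx : f x = y) :
    ∃ z : f.fiber y, f.fiberι y z = x := by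
  have : x ∈ Set.range (f.fiberι y) := by
    rw [f.range_fiberι]
    exact hx
  exact this

variable {X Y S : Scheme.{u}} (f : X ⟶ S) (g : Y ⟶ S)

/-- the flipped cartesian square of a fibre product. -/
theorem hcFlip : IsPullback (pullback.snd f g) (pullback.fst f g) g f := (IsPullback.of_hasPullback f g).flip

/-- the fibres of `fibMap` have no embedded points. -/
theorem noEmbedded_fiber_fibMap (x : X) (y₀ : g.fiber (f x)) :
    AssSch.NoEmbedded (Coh.structureModule ((fibMap (hcFlip f g) x).fiber y₀)) := by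
  have h1 := (IsPullback.of_hasPullback (fibMap (hcFlip f g) x)
    ((g.fiber (f x)).fromSpecResidueField y₀)).flip.paste_vert (isPullback_fibMap (hcFlip f g) x)
  rw [← Spec.map_preimage ((g.fiber (f x)).fromSpecResidueField y₀ ≫ g.fiberToSpecResidueField (f x))] at h1
  exact noEmbedded_of_isPullback_Spec_fields' (k := ↑(S.residueField (f x)))
    (K := ↑((g.fiber (f x)).residueField y₀)) (L := ↑(X.residueField x)) _ _ _ _ h1

variable [IsLocallyNoetherian X] [IsLocallyNoetherian Y] [IsLocallyNoetherian (pullback f g)]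
  (F : X.Modules) (G : Y.Modules) [G.IsQuasicoherent] (hGfl : FlatMod.IsFlatOver g G)

include hGfl

/-- steps A, B, C: an associated point of `F ⊗_S G`, seen in the fibre of the first projection, is associated to the
pull-back of the restriction of `G` to the fibre of `g`. -/
theorem isAssPoint_fibMap_of_mem_ass (x : X) (t : (pullback.fst f g).fiber x)
    (hz : (pullback.fst f g).fiberι x t ∈ AssSch.Ass (CohB1.tensorMod
      ((Scheme.Modules.pullback (pullback.fst f g)).obj F)
      ((Scheme.Modules.pullback (pullback.snd f g)).obj G))) :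
    Curv2.IsAssPoint ((Scheme.Modules.pullback (fibMap (hcFlip f g) x)).obj
      ((Scheme.Modules.pullback (g.fiberι (f x))).obj G)) t := by
  have hflat : FlatMod.IsFlatOverAt (pullback.fst f g) ((Scheme.Modules.pullback (pullback.snd f g)).obj G)
      ((pullback.fst f g).fiberι x t) :=
    Groth.Agent.Lib.Helper2.PullbackSec.isFlatOverAt_pullback_of_isPullback (hcFlip f g) G _ (hGfl _)
  obtain ⟨-, hQ⟩ := (isAssPoint_tensor_pullback_iff (pullback.fst f g) F
    ((Scheme.Modules.pullback (pullback.snd f g)).obj G) _ hflat).1 hz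
  have h2 : Curv2.IsAssPoint ((Scheme.Modules.pullback ((pullback.fst f g).fiberι x)).obj
      ((Scheme.Modules.pullback (pullback.snd f g)).obj G)) t :=
    (isAssPoint_fiber_iff (pullback.fst f g) _ x t).2 hQ
  exact (LinearEquiv.isAssociatedPrime_iff (stalkEquivOfIso (fibPullbackIso (hcFlip f g) G x) t)).1 h2

omit hGfl in
/-- step D. -/
theorem isAssPoint_fiber_of_fibMap (x : X) (t : (pullback.fst f g).fiber x)
    (ha : Curv2.IsAssPoint ((Scheme.Modules.pullback (fibMap (hcFlip f g) x)).obj
      ((Scheme.Modules.pullback (g.fiberι (f x))).obj G)) t) :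
    Curv2.IsAssPoint ((Scheme.Modules.pullback (g.fiberι (f x))).obj G) (fibMap (hcFlip f g) x t) := by
  haveI := isNoetherianRing_stalk_fiber (pullback.fst f g) x t
  haveI := isNoetherianRing_stalk_fiber g (f x) (fibMap (hcFlip f g) x t)
  haveI := flat_fibMap (hcFlip f g) x
  exact isAssPoint_of_pullback_flat (fibMap (hcFlip f g) x) _ t (Flat.stalkMap (fibMap (hcFlip f g) x) t) ha

omit hGfl in
/-- step E. -/
theorem isAssPoint_structureModule_fiber_fibMap (x : X) (y₀ : g.fiber (f x))
    (v : (fibMap (hcFlip f g) x).fiber y₀)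
    (ha : Curv2.IsAssPoint ((Scheme.Modules.pullback (fibMap (hcFlip f g) x)).obj
      ((Scheme.Modules.pullback (g.fiberι (f x))).obj G)) ((fibMap (hcFlip f g) x).fiberι y₀ v)) :
    Curv2.IsAssPoint (Coh.structureModule ((fibMap (hcFlip f g) x).fiber y₀)) v := by
  haveI := isNoetherianRing_stalk_fiber (pullback.fst f g) x ((fibMap (hcFlip f g) x).fiberι y₀ v)
  haveI := isNoetherianRing_stalk_fiber g (f x) (fibMap (hcFlip f g) x ((fibMap (hcFlip f g) x).fiberι y₀ v))
  haveI := flat_fibMap (hcFlip f g) x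
  exact isAssPoint_structureModule_fiber_of_pullback_flat (fibMap (hcFlip f g) x) _ y₀ v
    (Flat.stalkMap (fibMap (hcFlip f g) x) _) ha

omit hGfl in
theorem fiberι_fibMap_apply (x : X) (t : (pullback.fst f g).fiber x) :
    g.fiberι (f x) (fibMap (hcFlip f g) x t) = pullback.snd f g ((pullback.fst f g).fiberι x t) := by
  rw [← Scheme.Hom.comp_apply, fibMap_fiberι, Scheme.Hom.comp_apply]

/-- two associated points of `F ⊗_S G` lying in the same fibre of `fst`, with the same image in the fibre of `g`, one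
specializing to the other, are equal. -/
theorem eq_of_specializes_of_fibMap_eq (x : X) (t₁ t₂ : (pullback.fst f g).fiber x)
    (hz₁ : (pullback.fst f g).fiberι x t₁ ∈ AssSch.Ass (CohB1.tensorMod
      ((Scheme.Modules.pullback (pullback.fst f g)).obj F)
      ((Scheme.Modules.pullback (pullback.snd f g)).obj G)))
    (hz₂ : (pullback.fst f g).fiberι x t₂ ∈ AssSch.Ass (CohB1.tensorMod
      ((Scheme.Modules.pullback (pullback.fst f g)).obj F)
      ((Scheme.Modules.pullback (pullback.snd f g)).obj G)))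
    (h12 : t₁ ⤳ t₂) (hy : fibMap (hcFlip f g) x t₂ = fibMap (hcFlip f g) x t₁) : t₂ = t₁ := by
  have ha₁ := isAssPoint_fibMap_of_mem_ass f g F G hGfl x t₁ hz₁
  have ha₂ := isAssPoint_fibMap_of_mem_ass f g F G hGfl x t₂ hz₂
  obtain ⟨v₂, hv₂⟩ := exists_fiber_point' (fibMap (hcFlip f g) x) (fibMap (hcFlip f g) x t₂) t₂ rfl
  obtain ⟨v₁, hv₁⟩ := exists_fiber_point' (fibMap (hcFlip f g) x) (fibMap (hcFlip f g) x t₂) t₁ hy.symm
  have hv12 : v₁ ⤳ v₂ := by
    rw [← ((fibMap (hcFlip f g) x).fiberι (fibMap (hcFlip f g) x t₂)).isEmbedding.isInducing.specializes_iff,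
      hv₁, hv₂]
    exact h12
  have hb₂ := isAssPoint_structureModule_fiber_fibMap f g G x _ v₂ (by rw [hv₂]; exact ha₂)
  have hb₁ := isAssPoint_structureModule_fiber_fibMap f g G x _ v₁ (by rw [hv₁]; exact ha₁)
  have := noEmbedded_fiber_fibMap f g x (fibMap (hcFlip f g) x t₂) v₂ hb₂ v₁ hb₁ hv12
  rw [← hv₂, ← hv₁, this]

/-- two associated points of `F ⊗_S G` with the same projections, one specializing to the other, are equal. -/
theorem eq_of_specializes_of_fst_eq_of_snd_eq (z₁ z₂ : ↥(pullback f g))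
    (hz₁ : z₁ ∈ AssSch.Ass (CohB1.tensorMod
      ((Scheme.Modules.pullback (pullback.fst f g)).obj F)
      ((Scheme.Modules.pullback (pullback.snd f g)).obj G)))
    (hz₂ : z₂ ∈ AssSch.Ass (CohB1.tensorMod
      ((Scheme.Modules.pullback (pullback.fst f g)).obj F)
      ((Scheme.Modules.pullback (pullback.snd f g)).obj G)))
    (h12 : z₁ ⤳ z₂) (hp : pullback.fst f g z₂ = pullback.fst f g z₁)
    (hq : pullback.snd f g z₂ = pullback.snd f g z₁) : z₂ = z₁ := by
  obtain ⟨t₂, ht₂⟩ := exists_fiber_point (pullback.fst f g) (pullback.fst f g z₂) z₂ rfl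
  obtain ⟨t₁, ht₁⟩ := exists_fiber_point (pullback.fst f g) (pullback.fst f g z₂) z₁ hp.symm
  have ht12 : t₁ ⤳ t₂ := by
    rw [← ((pullback.fst f g).fiberι (pullback.fst f g z₂)).isEmbedding.isInducing.specializes_iff, ht₁, ht₂]
    exact h12
  have hy : fibMap (hcFlip f g) (pullback.fst f g z₂) t₂ = fibMap (hcFlip f g) (pullback.fst f g z₂) t₁ := by
    apply (g.fiberι (f (pullback.fst f g z₂))).isEmbedding.injective
    rw [fiberι_fibMap_apply, fiberι_fibMap_apply, ht₁, ht₂, hq]
  have := eq_of_specializes_of_fibMap_eq f g F G hGfl _ t₁ t₂ (by rw [ht₁]; exact hz₁) (by rw [ht₂]; exact hz₂)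
    ht12 hy
  rw [← ht₂, ← ht₁, this]

end Main

end Groth.Agent.Lib.T2H6.FieldTens
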