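import Mathlib
import Groth.Agent.Lib.T2H6FieldTensD

/-!
# Associated points of `F ⊗_S G` on a fibre product: description via `T(x, y)` (helper6)
-/

set_option autoImplicit false
set_option linter.style.haveILetI false
set_option linter.unusedSectionVars false
universe u
open CategoryTheory CategoryTheory.Limits AlgebraicGeometry Opposite TopologicalSpace TensorProduct

namespace Groth.Agent.Lib.T2H6.FieldTens

open Groth.Agent.Lib.Helper1.Sky Groth.Agent.Lib.Helper1.StalkTensor
open Groth.Agent.Lib.T2H8.StalkRestrict IsLocalRing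
open Groth.Agent.Lib.T2H6.FlatAss Groth.Agent.Lib.T2H6.FibBC Groth.Agent.Lib.T2H6.AssFibProd

section Gen

theorem map_maximalIdeal_comp_of_surjective {A B C : Type u} [CommRing A] [CommRing B] [CommRing C]
    [IsLocalRing A] [IsLocalRing B] (φ : A →+* B) (ψ : B →+* C) (χ : A →+* C) (h : χ = ψ.comp φ)
    (hφ : Function.Surjective φ) : Ideal.map χ (maximalIdeal A) = Ideal.map ψ (maximalIdeal B) := by
  subst h
  rw [← Ideal.map_map, map_maximalIdeal_of_surjective _ hφ]

theorem map_stalkMap_maximalIdeal_comp {T U Z : Scheme.{u}} (a : T ⟶ U) (b : U ⟶ Z) (t : T)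
    (hb : Function.Surjective (b.stalkMap (a t)).hom) :
    Ideal.map ((a ≫ b).stalkMap t).hom (maximalIdeal (Z.presheaf.stalk ((a ≫ b) t))) =
      Ideal.map (a.stalkMap t).hom (maximalIdeal (U.presheaf.stalk (a t))) := by
  have h : ((a ≫ b).stalkMap t).hom = (a.stalkMap t).hom.comp (b.stalkMap (a t)).hom :=
    congrArg CommRingCat.Hom.hom (Scheme.Hom.stalkMap_comp a b t)
  exact map_maximalIdeal_comp_of_surjective (b.stalkMap (a t)).hom (a.stalkMap t).hom
    ((a ≫ b).stalkMap t).hom h hb

/-- for `r` flat at `t` (Noetherian stalks): `t ∈ Ass (r^* H)` iff `r t ∈ Ass H` and the maximal ideal of `O_t` is associated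
to `O_t / m_{r t} O_t`. -/
theorem isAssPoint_pullback_flat_iff {T W : Scheme.{u}} (r : T ⟶ W) (H : W.Modules) (t : T)
    [IsNoetherianRing (T.presheaf.stalk t)] [IsNoetherianRing (W.presheaf.stalk (r t))]
    (hfl : (r.stalkMap t).hom.Flat) :
    Curv2.IsAssPoint ((Scheme.Modules.pullback r).obj H) t ↔
      Curv2.IsAssPoint H (r t) ∧
        Q' (Ideal.map (r.stalkMap t).hom (maximalIdeal (W.presheaf.stalk (r t)))) (T.presheaf.stalk t) := by
  letI alg : Algebra (W.presheaf.stalk (r t)) (T.presheaf.stalk t) := (r.stalkMap t).hom.toAlgebra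
  haveI : IsLocalHom (algebraMap (W.presheaf.stalk (r t)) (T.presheaf.stalk t)) :=
    inferInstanceAs (IsLocalHom (r.stalkMap t).hom)
  haveI : Module.Flat (W.presheaf.stalk (r t)) (T.presheaf.stalk t) := hfl
  let N := (stalkFun (r t)).obj H
  let e : ((Scheme.Modules.pullback r).obj H).presheaf.stalk t ≃ₗ[T.presheaf.stalk t]
      (T.presheaf.stalk t ⊗[W.presheaf.stalk (r t)] H.presheaf.stalk (r t)) :=
    ((stalkPullbackIso r t).app H).toLinearEquiv ≪≫ₗ
      Groth.Agent.S2380.bridge (W.presheaf.stalk (r t)) (T.presheaf.stalk t) N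
  have h1 : Curv2.IsAssPoint ((Scheme.Modules.pullback r).obj H) t ↔
      IsAssociatedPrime (maximalIdeal (T.presheaf.stalk t))
        (T.presheaf.stalk t ⊗[W.presheaf.stalk (r t)] H.presheaf.stalk (r t)) :=
    LinearEquiv.isAssociatedPrime_iff e
  rw [h1, isAssociatedPrime_tensor_iff, q_iff_q']
  rfl

/-- a point of a fibre of `r` is an associated point of the fibre iff the maximal ideal of `O_t` is associated to
`O_t / m_{r t} O_t`. -/
theorem isAssPoint_structureModule_fiber_iff {T W : Scheme.{u}} (r : T ⟶ W) (y₀ : W) (v : r.fiber y₀)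
    [IsNoetherianRing (T.presheaf.stalk (r.fiberι y₀ v))] :
    Curv2.IsAssPoint (Coh.structureModule (r.fiber y₀)) v ↔
      Q' (Ideal.map (r.stalkMap (r.fiberι y₀ v)).hom (maximalIdeal (W.presheaf.stalk (r (r.fiberι y₀ v)))))
        (T.presheaf.stalk (r.fiberι y₀ v)) := by
  rw [Groth.Agent.Lib.Helper23.UnitStalk.isAssPoint_structureModule_iff]
  letI alg2 : Algebra (T.presheaf.stalk (r.fiberι y₀ v)) ((r.fiber y₀).presheaf.stalk v) :=
    ((r.fiberι y₀).stalkMap v).hom.toAlgebra
  have hs : Function.Surjective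
      (algebraMap (T.presheaf.stalk (r.fiberι y₀ v)) ((r.fiber y₀).presheaf.stalk v)) :=
    (r.fiberι y₀).stalkMap_surjective v
  haveI : IsLocalHom (algebraMap (T.presheaf.stalk (r.fiberι y₀ v)) ((r.fiber y₀).presheaf.stalk v)) :=
    inferInstanceAs (IsLocalHom ((r.fiberι y₀).stalkMap v).hom)
  haveI : IsNoetherianRing ((r.fiber y₀).presheaf.stalk v) :=
    isNoetherianRing_of_surjective _ _ (algebraMap (T.presheaf.stalk (r.fiberι y₀ v))
      ((r.fiber y₀).presheaf.stalk v)) hs
  have hker : RingHom.ker (algebraMap (T.presheaf.stalk (r.fiberι y₀ v)) ((r.fiber y₀).presheaf.stalk v)) =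
      Ideal.map (r.stalkMap (r.fiberι y₀ v)).hom
        (maximalIdeal (W.presheaf.stalk (r (r.fiberι y₀ v)))) :=
    Groth.Agent.Lib.Helper10.FibStalk.ker_eq_map r y₀ v
  rw [← hker, ← isAssociatedPrime_baseChange_iff _ hs]
  exact (LinearEquiv.isAssociatedPrime_iff (TensorProduct.AlgebraTensorModule.rid
    (T.presheaf.stalk (r.fiberι y₀ v)) ((r.fiber y₀).presheaf.stalk v) ((r.fiber y₀).presheaf.stalk v))).symm

end Gen

section Txy

variable {X Y S : Scheme.{u}} (f : X ⟶ S) (g : Y ⟶ S)

/-- `T(x, y) = Spec κ(x) ×_S Spec κ(y)`. -/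
noncomputable abbrev Txy (x : X) (y : Y) : Scheme.{u} :=
  pullback (X.fromSpecResidueField x ≫ f) (Y.fromSpecResidueField y ≫ g)

/-- the canonical map `T(x, y) ⟶ X ×_S Y`. -/
noncomputable abbrev Tm (x : X) (y : Y) : Txy f g x y ⟶ pullback f g :=
  pullback.map (X.fromSpecResidueField x ≫ f) (Y.fromSpecResidueField y ≫ g) f g (X.fromSpecResidueField x)
    (Y.fromSpecResidueField y) (𝟙 S) (Category.comp_id _) (Category.comp_id _)

/-- the lift of `T(x, y) ⟶ X ×_S Y` to the fibre of the first projection over `x`. -/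
noncomputable def lW (x : X) (y : Y) : Txy f g x y ⟶ (pullback.fst f g).fiber x :=
  pullback.lift (Tm f g x y) (pullback.fst _ _) (pullback.lift_fst _ _ _)

theorem lW_fiberι (x : X) (y : Y) : lW f g x y ≫ (pullback.fst f g).fiberι x = Tm f g x y :=
  pullback.lift_fst _ _ _

theorem lW_fiberToSpec (x : X) (y : Y) :
    lW f g x y ≫ (pullback.fst f g).fiberToSpecResidueField x = pullback.fst _ _ :=
  pullback.lift_snd _ _ _

theorem isPullback_lW (x : X) (y : Y) :
    IsPullback (lW f g x y) (pullback.snd (X.fromSpecResidueField x ≫ f) (Y.fromSpecResidueField y ≫ g))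
      ((pullback.fst f g).fiberι x ≫ pullback.snd f g) (Y.fromSpecResidueField y) := by
  have t : IsPullback ((pullback.fst f g).fiberToSpecResidueField x)
      ((pullback.fst f g).fiberι x ≫ pullback.snd f g) (X.fromSpecResidueField x ≫ f) g :=
    ((IsPullback.of_hasPullback (pullback.fst f g) (X.fromSpecResidueField x)).paste_horiz (hcFlip f g)).flip
  have s : IsPullback (lW f g x y ≫ (pullback.fst f g).fiberToSpecResidueField x)
      (pullback.snd (X.fromSpecResidueField x ≫ f) (Y.fromSpecResidueField y ≫ g))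
      (X.fromSpecResidueField x ≫ f) (Y.fromSpecResidueField y ≫ g) := by
    rw [lW_fiberToSpec]
    exact IsPullback.of_hasPullback _ _
  refine IsPullback.of_right s ?_ t
  rw [← Category.assoc, lW_fiberι]
  exact pullback.lift_snd _ _ _

/-- the same square with the map `W_x ⟶ Y` written through the fibre of `g`. -/
theorem isPullback_lW' (x : X) (y : Y) :
    IsPullback (lW f g x y) (pullback.snd (X.fromSpecResidueField x ≫ f) (Y.fromSpecResidueField y ≫ g))
      (fibMap (hcFlip f g) x ≫ g.fiberι (f x)) (Y.fromSpecResidueField y) := by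
  rw [fibMap_fiberι]
  exact isPullback_lW f g x y

/-- `T(x, y)` is the fibre over `y` of `W_x ⟶ Y`. -/
noncomputable def txyIso (x : X) (y : Y) :
    Txy f g x y ≅ (fibMap (hcFlip f g) x ≫ g.fiberι (f x)).fiber y :=
  (isPullback_lW' f g x y).isoPullback

@[reassoc]
theorem txyIso_hom_fiberι (x : X) (y : Y) :
    (txyIso f g x y).hom ≫ (fibMap (hcFlip f g) x ≫ g.fiberι (f x)).fiberι y = lW f g x y :=
  (isPullback_lW' f g x y).isoPullback_hom_fst

theorem tm_apply (x : X) (y : Y) (w : Txy f g x y) :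
    Tm f g x y w = (pullback.fst f g).fiberι x
      ((fibMap (hcFlip f g) x ≫ g.fiberι (f x)).fiberι y ((txyIso f g x y).hom w)) := by
  rw [← Scheme.Hom.comp_apply, ← Scheme.Hom.comp_apply, txyIso_hom_fiberι_assoc, lW_fiberι]

end Txy

section MainE

variable {X Y S : Scheme.{u}} (f : X ⟶ S) (g : Y ⟶ S)
  [IsLocallyNoetherian X] [IsLocallyNoetherian Y] [IsLocallyNoetherian (pullback f g)]
  (F : X.Modules) (G : Y.Modules) [G.IsQuasicoherent] (hGfl : FlatMod.IsFlatOver g G)

include hGfl

theorem mem_ass_fiberι_iff (x : X) (t : (pullback.fst f g).fiber x) :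
    (pullback.fst f g).fiberι x t ∈ AssSch.Ass (CohB1.tensorMod
      ((Scheme.Modules.pullback (pullback.fst f g)).obj F)
      ((Scheme.Modules.pullback (pullback.snd f g)).obj G)) ↔
    x ∈ AssSch.Ass F ∧ Curv2.IsAssPoint ((Scheme.Modules.pullback (fibMap (hcFlip f g) x)).obj
      ((Scheme.Modules.pullback (g.fiberι (f x))).obj G)) t := by
  have hflat : FlatMod.IsFlatOverAt (pullback.fst f g) ((Scheme.Modules.pullback (pullback.snd f g)).obj G)
      ((pullback.fst f g).fiberι x t) :=
    Groth.Agent.Lib.Helper2.PullbackSec.isFlatOverAt_pullback_of_isPullback (hcFlip f g) G _ (hGfl _)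
  have hpx : pullback.fst f g ((pullback.fst f g).fiberι x t) = x :=
    Groth.Agent.Lib.Helper10.FibStalk.fiberι_apply_eq (pullback.fst f g) x t
  show Curv2.IsAssPoint _ _ ↔ Curv2.IsAssPoint F x ∧ _
  rw [isAssPoint_tensor_pullback_iff (pullback.fst f g) F _ _ hflat, hpx]
  refine and_congr Iff.rfl ?_
  rw [← isAssPoint_fiber_iff (pullback.fst f g) _ x t]
  exact LinearEquiv.isAssociatedPrime_iff (stalkEquivOfIso (fibPullbackIso (hcFlip f g) G x) t)

theorem mem_ass_iff_of_fiber (x : X) (y : Y) (v : (fibMap (hcFlip f g) x ≫ g.fiberι (f x)).fiber y) :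
    (pullback.fst f g).fiberι x ((fibMap (hcFlip f g) x ≫ g.fiberι (f x)).fiberι y v) ∈
      AssSch.Ass (CohB1.tensorMod ((Scheme.Modules.pullback (pullback.fst f g)).obj F)
        ((Scheme.Modules.pullback (pullback.snd f g)).obj G)) ↔
    x ∈ AssSch.Ass F ∧
      Curv2.IsAssPoint ((Scheme.Modules.pullback (g.fiberι (f x))).obj G)
        (fibMap (hcFlip f g) x ((fibMap (hcFlip f g) x ≫ g.fiberι (f x)).fiberι y v)) ∧
      Curv2.IsAssPoint (Coh.structureModule ((fibMap (hcFlip f g) x ≫ g.fiberι (f x)).fiber y)) v := by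
  haveI := isNoetherianRing_stalk_fiber (pullback.fst f g) x
    ((fibMap (hcFlip f g) x ≫ g.fiberι (f x)).fiberι y v)
  haveI := isNoetherianRing_stalk_fiber g (f x)
    (fibMap (hcFlip f g) x ((fibMap (hcFlip f g) x ≫ g.fiberι (f x)).fiberι y v))
  haveI := flat_fibMap (hcFlip f g) x
  rw [mem_ass_fiberι_iff f g F G hGfl x _,
    isAssPoint_pullback_flat_iff (fibMap (hcFlip f g) x) _ _ (Flat.stalkMap (fibMap (hcFlip f g) x) _),
    isAssPoint_structureModule_fiber_iff (fibMap (hcFlip f g) x ≫ g.fiberι (f x)) y v,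
    map_stalkMap_maximalIdeal_comp (fibMap (hcFlip f g) x) (g.fiberι (f x)) _
      ((g.fiberι (f x)).stalkMap_surjective _)]

theorem mem_ass_iff_exists (z : ↥(pullback f g)) :
    z ∈ AssSch.Ass (CohB1.tensorMod ((Scheme.Modules.pullback (pullback.fst f g)).obj F)
        ((Scheme.Modules.pullback (pullback.snd f g)).obj G)) ↔
      ∃ x ∈ AssSch.Ass F, ∃ y' ∈ AssSch.Ass ((Scheme.Modules.pullback (g.fiberι (f x))).obj G),
        ∃ w ∈ AssSch.Ass (Coh.structureModule (Txy f g x (g.fiberι (f x) y'))),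
          Tm f g x (g.fiberι (f x) y') w = z := by
  constructor
  · intro hz
    obtain ⟨t, ht⟩ := exists_fiber_point' (pullback.fst f g) (pullback.fst f g z) z rfl
    obtain ⟨v, hv⟩ := exists_fiber_point' (fibMap (hcFlip f g) (pullback.fst f g z) ≫
      g.fiberι (f (pullback.fst f g z)))
      (g.fiberι (f (pullback.fst f g z)) (fibMap (hcFlip f g) (pullback.fst f g z) t)) t rfl
    have hz' : (pullback.fst f g).fiberι (pullback.fst f g z)
        ((fibMap (hcFlip f g) (pullback.fst f g z) ≫ g.fiberι (f (pullback.fst f g z))).fiberι _ v) ∈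
        AssSch.Ass (CohB1.tensorMod ((Scheme.Modules.pullback (pullback.fst f g)).obj F)
          ((Scheme.Modules.pullback (pullback.snd f g)).obj G)) := by
      rw [hv, ht]
      exact hz
    obtain ⟨hx, hy', hvass⟩ := (mem_ass_iff_of_fiber f g F G hGfl _ _ v).1 hz'
    rw [hv] at hy'
    have hev : (txyIso f g (pullback.fst f g z) _).hom ((txyIso f g (pullback.fst f g z) _).inv v) = v :=
      Scheme.inv_hom_apply _ v
    refine ⟨pullback.fst f g z, hx, _, hy', (txyIso f g (pullback.fst f g z) _).inv v, ?_, ?_⟩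
    · refine (isAssPoint_structureModule_iff_of_iso (txyIso f g (pullback.fst f g z) _) _).2 ?_
      rw [hev]
      exact hvass
    · rw [tm_apply, hev, hv, ht]
  · rintro ⟨x, hx, y', hy', w, hw, rfl⟩
    rw [tm_apply]
    refine (mem_ass_iff_of_fiber f g F G hGfl x _ _).2 ⟨hx, ?_,
      (isAssPoint_structureModule_iff_of_iso (txyIso f g x _) w).1 hw⟩
    have h1 : g.fiberι (f x) (fibMap (hcFlip f g) x
        ((fibMap (hcFlip f g) x ≫ g.fiberι (f x)).fiberι (g.fiberι (f x) y')
          ((txyIso f g x (g.fiberι (f x) y')).hom w))) = g.fiberι (f x) y' :=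
      Groth.Agent.Lib.Helper10.FibStalk.fiberι_apply_eq (fibMap (hcFlip f g) x ≫ g.fiberι (f x))
        (g.fiberι (f x) y') _
    rw [(g.fiberι (f x)).isEmbedding.injective h1]
    exact hy'

end MainE

section QxOf

theorem qx_of_isAssPoint {Y S : Scheme.{u}} [IsLocallyNoetherian Y] [IsLocallyNoetherian S]
    (g : Y ⟶ S) (G : Y.Modules) (y : Y) (hflat : FlatMod.IsFlatOverAt g G y)
    (h : Curv2.IsAssPoint G y) : Qx g G y := by
  letI alg : Algebra (S.presheaf.stalk (g y)) (Y.presheaf.stalk y) := (g.stalkMap y).hom.toAlgebra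
  letI mod : Module (S.presheaf.stalk (g y)) (G.presheaf.stalk y) := FlatMod.moduleStalkOver g G y
  haveI tower : IsScalarTower (S.presheaf.stalk (g y)) (Y.presheaf.stalk y) (G.presheaf.stalk y) :=
    IsScalarTower.of_algebraMap_smul (fun a n => rfl)
  haveI : SMulCommClass (S.presheaf.stalk (g y)) (Y.presheaf.stalk y) (G.presheaf.stalk y) :=
    IsScalarTower.to_smulCommClass
  haveI : IsLocalHom (algebraMap (S.presheaf.stalk (g y)) (Y.presheaf.stalk y)) :=
    inferInstanceAs (IsLocalHom (g.stalkMap y).hom)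
  haveI : Module.Flat (S.presheaf.stalk (g y)) (G.presheaf.stalk y) := hflat
  have h1 : IsAssociatedPrime (maximalIdeal (Y.presheaf.stalk y))
      (G.presheaf.stalk y ⊗[S.presheaf.stalk (g y)] S.presheaf.stalk (g y)) :=
    (LinearEquiv.isAssociatedPrime_iff
      (TensorProduct.AlgebraTensorModule.rid (S.presheaf.stalk (g y)) (Y.presheaf.stalk y)
        (G.presheaf.stalk y))).2 h
  exact q_iff_q'.1 (of_isAssociatedPrime_tensor h1).2

end QxOf

end Groth.Agent.Lib.T2H6.FieldTens
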