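import Mathlib
import Groth.Agent.Lib.T2H6FinBir
import Groth.Agent.Lib.T2H6CurveLinSer2
import Groth.Agent.Lib.T2H5HHLes
set_option backward.isDefEq.respectTransparency.types false

/-!
# A proper birational morphism onto a reduced proper curve with the same genus is an isomorphism (helper6)
-/

set_option autoImplicit false
set_option linter.style.haveILetI false
set_option linter.unusedSectionVars false
universe u

open AlgebraicGeometry CategoryTheory Limits TopologicalSpace Opposite Abelian

namespace Groth.Agent.Lib.T2H6.FinBirIso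

open Groth.Agent.Lib.T2H6.HHLin Groth.Agent.Lib.T2H5.HHLes Groth.Agent.Lib.Helper23.QCohLocal
  Groth.Agent.Lib.T2H6.FinBir

section LES

variable (A : Type u) [CommRing A] {X : Scheme.{u}} [X.Over (Spec (CommRingCat.of A))]

theorem HHlin_f_δLin (S : ShortComplex X.Modules) (hS : S.ShortExact) (i : ℕ) (x : Coh.HH X S.X₃ i) :
    Canon.HHlin A S.f (i + 1) (δLin (A := A) S hS i x) = 0 := by
  have h := ShortComplex.ShortExact.extClass_comp (shortExact_toAbF S hS)
  have h2 := Ext.comp_assoc_of_third_deg_zero x (shortExact_toAbF S hS).extClass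
    (Ext.mk₀ ((toAbF X).map S.f)) rfl
  exact h2.trans ((congrArg (fun z => x.comp z rfl) h).trans (Ext.comp_zero _ _ _ _ _))

/-- `H^i(S.X₂) → H^i(S.X₃)` is surjective when `H^{i+1}(S.X₁) → H^{i+1}(S.X₂)` is injective. -/
theorem surjective_g_of_injective_f (S : ShortComplex X.Modules) (hS : S.ShortExact) (i : ℕ)
    (h : Function.Injective (Canon.HHlin A S.f (i + 1))) :
    Function.Surjective (Canon.HHlin A S.g i) := by
  intro x
  have hx : x ∈ LinearMap.ker (δLin (A := A) S hS i) := by
    rw [LinearMap.mem_ker]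
    apply h
    rw [HHlin_f_δLin, map_zero]
  rw [exact₃] at hx
  exact hx

end LES

section Mono

open Groth.Agent.Lib.Helper4.NormDelta

variable {X X' : Scheme.{u}} (f : X' ⟶ X)

/-- on a reduced scheme, a section vanishing on a dense open vanishes. -/
theorem eq_zero_of_res_eq_zero [IsReduced X] (U : X.Opens) (hU : Dense (U : Set X)) (W : X.Opens)
    (s : Γ(X, W)) (hs : X.presheaf.map (homOfLE (inf_le_left : W ⊓ U ≤ W)).op s = 0) : s = 0 := by
  apply eq_zero_of_basicOpen_eq_bot
  have h1 : X.basicOpen (X.presheaf.map (homOfLE (inf_le_left : W ⊓ U ≤ W)).op s) = ⊥ := by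
    rw [hs, Scheme.basicOpen_zero]
  rw [Scheme.basicOpen_res] at h1
  by_contra hne
  have hne' : ((X.basicOpen s : X.Opens) : Set X).Nonempty := by
    rw [Set.nonempty_iff_ne_empty]
    intro h0
    apply hne
    ext x
    simp only [SetLike.mem_coe] at h0 ⊢
    constructor
    · intro hx
      have : x ∈ ((X.basicOpen s : X.Opens) : Set X) := hx
      rw [h0] at this
      exact absurd this (Set.notMem_empty x)
    · intro hx
      exact absurd hx (by simp)
  obtain ⟨x, hxs, hxU⟩ := hU.inter_open_nonempty _ (X.basicOpen s).2 hne'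
  have hxW : x ∈ W := X.basicOpen_le s hxs
  have : x ∈ (W ⊓ U) ⊓ X.basicOpen s := ⟨⟨hxW, hxU⟩, hxs⟩
  rw [h1] at this
  exact this

/-- `O_X ⟶ f_* O_{X'}` is a monomorphism for `X` reduced and `f` an isomorphism over a dense open. -/
theorem mono_unitToPush [IsReduced X] (U : X.Opens) (hU : Dense (U : Set X)) [IsIso (f ∣_ U)] :
    Mono (ClSub.unitToPush f) := by
  refine Groth.Agent.Lib.T2H5.GenIsoF.mono_of_app_injective _ (fun W => ?_)
  rw [injective_iff_map_eq_zero]
  intro s hs
  have hs' : (f.app W).hom s = 0 := hs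
  refine eq_zero_of_res_eq_zero U hU W s ?_
  haveI := isIso_app_of_isIso_restrict f U (W ⊓ U) inf_le_right
  have hinj : Function.Injective (f.app (W ⊓ U)).hom :=
    (ConcreteCategory.bijective_of_isIso (f.app (W ⊓ U))).1
  apply hinj
  rw [map_zero]
  have hnat := f.naturality (homOfLE (inf_le_left : W ⊓ U ≤ W)).op
  have h2 := congrArg (fun φ => φ.hom s) hnat
  simp only [CommRingCat.hom_comp, RingHom.comp_apply] at h2
  rw [h2, hs', map_zero]

end Mono

section Zero

open Groth.Agent.Lib.Helper6

variable {X : Scheme.{u}}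

/-- a coherent module supported at closed points of a Noetherian scheme without global sections is zero. -/
theorem isZero_of_subsingleton_HH_zero [IsNoetherian X] (Q : X.Modules) (hQ : Coh.IsCoh Q)
    (hpts : ∀ x ∈ CohB1.support Q, IsClosed ({x} : Set X))
    (h0 : Subsingleton (Coh.HH X Q 0)) : IsZero Q := by
  classical
  have hcl : IsClosed (CohB1.support Q) := Groth.Agent.Lib.T2H5.Devissage.isClosed_support Q hQ
  have hfin : (CohB1.support Q).Finite :=
    Groth.Agent.S0047.finite_of_noetherian_quasiSober _ hcl hpts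
  have hclT : ∀ T : Set X, T ⊆ CohB1.support Q → IsClosed T := by
    intro T hT
    have hTfin : T.Finite := hfin.subset hT
    have : T = ⋃ x ∈ T, ({x} : Set X) := by simp
    rw [this]
    exact hTfin.isClosed_biUnion (fun x hx => hpts x (hT hx))
  refine Groth.Agent.Lib.T2H5.Devissage.isZero_of_support_eq_empty Q ?_
  rw [Set.eq_empty_iff_forall_notMem]
  intro x hx
  apply hx
  refine ⟨fun a b => ?_⟩
  have key : ∀ t : Q.presheaf.stalk x, t = 0 := by
    intro t
    let t' : ∀ y : CohB1.support Q, Q.presheaf.stalk y.1 :=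
      fun y => if h : x = y.1 then h ▸ t else 0
    choose A hA m hm using fun y : CohB1.support Q => Q.presheaf.exists_germ_eq (t' y)
    obtain ⟨c, hc⟩ := Groth.Agent.Lib.T2H6.CurveLinSer2.exists_glue Q hclT A hA m
    have hc0 : c = 0 := by
      have hsub : Subsingleton ((Coh.toAb Q).obj.obj (op (⊤ : Opens X))) :=
        (Groth.Agent.Lib.Helper27PnSections.hh0Equiv X Q).symm.subsingleton
      exact @Subsingleton.elim _ hsub _ _
    obtain ⟨B, hB, hxB, hres⟩ := hc ⟨x, hx⟩
    have h1 : t' ⟨x, hx⟩ = t := dif_pos rfl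
    rw [← h1, ← hm ⟨x, hx⟩]
    have h2 : Q.presheaf.germ (A ⟨x, hx⟩) x (hA ⟨x, hx⟩) (m ⟨x, hx⟩) =
        Q.presheaf.germ B x hxB (res Q hB (m ⟨x, hx⟩)) :=
      (TopCat.Presheaf.germ_res_apply Q.presheaf (homOfLE hB) x hxB _).symm
    rw [h2, ← hres, hc0]
    simp [res]
  rw [key a, key b]

end Zero

section Main

open Groth.Agent.Lib.T2H5.GenIsoB Groth.Agent.Lib.Helper23.Extend

variable {X X' : Scheme.{u}} (f : X' ⟶ X)

/-- surjectivity on global functions gives surjectivity on `H⁰` of `O_X ⟶ f_* O_{X'}`. -/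
theorem surjective_HHlin_unitToPush (A : Type u) [CommRing A] [X.Over (Spec (CommRingCat.of A))]
    (h0 : Function.Surjective (f.app ⊤).hom) :
    Function.Surjective (Canon.HHlin A (ClSub.unitToPush f) 0) := by
  intro y
  obtain ⟨a, ha⟩ := h0 (Groth.Agent.Lib.Helper27PnSections.hh0Equiv X _ y)
  refine ⟨(Groth.Agent.Lib.Helper27PnSections.hh0Equiv X (Coh.structureModule X)).symm a, ?_⟩
  apply (Groth.Agent.Lib.Helper27PnSections.hh0Equiv X _).injective
  rw [← ha]
  change Sheaf.H.equiv₀ _ _ (Sheaf.H.map ((SheafOfModules.toSheaf X.ringCatSheaf).map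
    (ClSub.unitToPush f)) 0 ((Sheaf.H.equiv₀ _ _).symm a)) = _
  rw [Sheaf.H.equiv₀_symm_naturality, AddEquiv.apply_symm_apply]
  rfl

/-- a morphism whose unit `O_X ⟶ f_* O_{X'}` is an isomorphism and which is affine is an isomorphism. -/
theorem isIso_of_isIso_unitToPush [IsAffineHom f] (h : IsIso (ClSub.unitToPush f)) : IsIso f := by
  rw [← MorphismProperty.isomorphisms.iff,
    HasAffineProperty.iff_of_iSup_eq_top (P := MorphismProperty.isomorphisms Scheme)
      (fun V : X.affineOpens => V) (iSup_affineOpens_eq_top X)]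
  intro V
  refine ⟨(V.2.preimage f : IsAffineOpen (f ⁻¹ᵁ V.1)), ?_⟩
  rw [morphismRestrict_appTop]
  have hiso : IsIso (f.app (V.1.ι ''ᵁ ⊤)) := by
    have hbij : Function.Bijective (Scheme.Modules.Hom.app (ClSub.unitToPush f) (V.1.ι ''ᵁ ⊤)) := by
      haveI : IsIso (Scheme.Modules.Hom.app (ClSub.unitToPush f) (V.1.ι ''ᵁ ⊤)) :=
        (Scheme.Modules.Hom.isIso_iff_isIso_app (φ := ClSub.unitToPush f)).1 h _
      exact ConcreteCategory.bijective_of_isIso _
    exact (ConcreteCategory.isIso_iff_bijective (f.app (V.1.ι ''ᵁ ⊤))).2 hbij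
  refine @IsIso.comp_isIso _ _ _ _ _ _ _ hiso ?_
  apply (config := { allowSynthFailures := true }) Functor.map_isIso

end Main

section Final

open Groth.Agent.Lib.T2H5.GenIsoB Groth.Agent.Lib.Helper23.Extend

variable {X X' : Scheme.{u}} (f : X' ⟶ X) (k : Type u) [Field k]
  [X.Over (Spec (CommRingCat.of k))] [X'.Over (Spec (CommRingCat.of k))]
  [IsProper (X ↘ Spec (CommRingCat.of k))]

/-- **a proper birational morphism onto a reduced proper scheme of dimension `≤ 1`, surjective on global functions and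
preserving the genus, is an isomorphism.** -/
theorem isIso_of_birational_genus_eq [IsReduced X] (hdim : topologicalKrullDim X ≤ 1) [IsProper f]
    (hf : f ≫ (X ↘ (Spec (CommRingCat.of k))) = X' ↘ (Spec (CommRingCat.of k)))
    (U : X.Opens) (hU : Dense (U : Set X)) (hU' : Dense ((f ⁻¹ᵁ U : X'.Opens) : Set X'))
    (hfU : IsIso (f ∣_ U)) (h0 : Function.Surjective (f.app ⊤).hom)
    (h1 : Curv2.genus k X' = Curv2.genus k X) : IsIso f := by
  haveI : IsNoetherian X := Groth.Agent.Lib.T2H6.CurveSatur.isNoetherian_of_proper k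
  haveI : IsFinite f := isFinite_of_birational f hdim U hU' hfU
  have hOc : Coh.IsCoh (Coh.structureModule X) :=
    Groth.Agent.Lib.T2H5.GenIsoF.isCoh_structureModule
  have hOc' : Coh.IsCoh (Coh.structureModule X') :=
    Groth.Agent.Lib.T2H5.GenIsoF.isCoh_structureModule
  haveI := hOc'.1
  have hB := Groth.Agent.Lib.T2H5.ClosedTransfer.isCoh_pushforward f _ hOc'
  set φ := ClSub.unitToPush f with hφ
  have hC : Coh.IsCoh (cokernel φ) := isCoh_cokernel _ hOc hB
  have hiso := isoOn_unitToPush f U
  haveI hmono : Mono φ := mono_unitToPush f U hU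
  have hpts : ∀ x ∈ CohB1.support (cokernel φ), IsClosed ({x} : Set X) := fun x hx =>
    isClosed_singleton_of_notMem_dense hdim U hU x
      (fun hxU => notMem_support_cokernel_of_isoOn _ U hiso x hxU hx)
  have hC1 : Subsingleton (Coh.HH X (cokernel φ) 1) :=
    Groth.Agent.S0047.result X _ hC hpts 1 Nat.one_pos
  -- the short exact sequence
  let S : ShortComplex X.Modules := ShortComplex.mk φ (cokernel.π φ) (cokernel.condition φ)
  have hS : S.ShortExact :=
    { exact := S.exact_of_g_is_cokernel (cokernelIsCokernel _)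
      mono_f := hmono
      epi_g := inferInstanceAs (Epi (cokernel.π φ)) }
  haveI := Groth.Agent.Lib.T2H6.EulerField.finite_HH k X _ hOc 1
  haveI := Groth.Agent.Lib.T2H6.EulerField.finite_HH k X _ hB 1
  -- `H¹(φ)` is surjective, hence injective
  have s1 : Function.Surjective (Canon.HHlin k φ 1) := by
    have hE := Groth.Agent.Lib.T2H6.HHLin.exact₂ k S hS 1
    change LinearMap.ker (Canon.HHlin k (cokernel.π φ) 1) = LinearMap.range (Canon.HHlin k φ 1) at hE
    rw [← LinearMap.range_eq_top, ← hE, LinearMap.ker_eq_top]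
    ext x
    exact @Subsingleton.elim _ hC1 _ _
  have hrank : Module.finrank k (Coh.HH X (Coh.structureModule X) 1) =
      Module.finrank k (Coh.HH X ((Scheme.Modules.pushforward f).obj (Coh.structureModule X')) 1) := by
    rw [Groth.Agent.Lib.T2H6.TensorDegGen.finrank_HH_pushforward f k hf _ 1]
    exact h1.symm
  have i1 : Function.Injective (Canon.HHlin k φ 1) :=
    (LinearMap.injective_iff_surjective_of_finrank_eq_finrank hrank).2 s1
  have s0 : Function.Surjective (Canon.HHlin k (cokernel.π φ) 0) :=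
    surjective_g_of_injective_f k S hS 0 i1
  have t0 : Function.Surjective (Canon.HHlin k φ 0) := surjective_HHlin_unitToPush f k h0
  have hH0 : Subsingleton (Coh.HH X (cokernel φ) 0) := by
    refine ⟨fun a b => ?_⟩
    have key : ∀ z : Coh.HH X (cokernel φ) 0, z = 0 := by
      intro z
      obtain ⟨y, rfl⟩ := s0 z
      obtain ⟨x, rfl⟩ := t0 y
      rw [← Groth.Agent.Lib.T2H6.HHLin.HHlin_comp_apply, cokernel.condition,
        Groth.Agent.Lib.T2H6.HHLin.HHlin_zero]
      rfl
    rw [key a, key b]
  have hQ0 : IsZero (cokernel φ) := isZero_of_subsingleton_HH_zero _ hC hpts hH0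
  haveI : Epi φ := Preadditive.epi_of_isZero_cokernel φ hQ0
  have hφiso : IsIso φ := isIso_of_mono_of_epi φ
  exact isIso_of_isIso_unitToPush f hφiso

end Final

end Groth.Agent.Lib.T2H6.FinBirIso
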