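import Mathlib
import Groth.Agent.Lib.T2H6FinBir
import Groth.Agent.Lib.Helper4NormDelta
import Groth.Agent.Lib.Helper2Push
import Groth.Agent.Lib.Helper20CDiv2
set_option backward.isDefEq.respectTransparency.types false

/-!
# Degree of a pullback along a finite morphism of integral proper curves (helper6)

* `grank_eq_finrank_sections`: the generic rank of a quasi-coherent module is the rank of its sections over a nonempty
  affine open.
* `residueDegree_eq_finrank_sections`: the degree of the function field extension of a dominant affine morphism of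
  integral schemes is the rank of the sections over the preimage of a nonempty affine open.
* `deg_pullback_eq_residueDegree_mul_deg`.
-/

set_option autoImplicit false
set_option linter.style.haveILetI false
set_option linter.unusedSectionVars false
universe u

open AlgebraicGeometry CategoryTheory Limits TopologicalSpace Opposite

namespace Groth.Agent.Lib.T2H6.FinDeg

open Groth.Agent.Lib.T2H6.CurveSS2 Groth.Agent.Lib.Helper4.NormDelta Groth.Agent.Lib.Helper2.Push

section Rank

variable {Y : Scheme.{u}} [IsIntegral Y]

/-- the generic rank of a quasi-coherent module is the rank of its sections over a nonempty affine open. -/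
theorem grank_eq_finrank_sections (F : Y.Modules) [F.IsQuasicoherent] (V : Y.Opens)
    (hV : IsAffineOpen V) [Nonempty V] :
    grank F = Module.finrank Γ(Y, V) Γ(F, V) := by
  have hηV : genericPoint Y ∈ V :=
    ((genericPoint_spec Y).mem_open_set_iff V.isOpen).mpr (by simpa using ‹Nonempty V›)
  have hG : IsLocOn F V := IsLocOn.of_isQuasicoherent hV F
  letI modAG := sectionStalkModule F V (genericPoint Y) hηV
  haveI : IsScalarTower Γ(Y, V) (Y.presheaf.stalk (genericPoint Y))
      (F.presheaf.stalk (genericPoint Y)) :=
    IsScalarTower.of_algebraMap_smul (fun r m => rfl)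
  haveI loc1 := isLocalizedModule_germLin hV hG (genericPoint Y) hηV
  haveI : IsFractionRing Γ(Y, V) (Y.presheaf.stalk (genericPoint Y)) :=
    functionField_isFractionRing_of_isAffineOpen Y V hV
  haveI : IsDomain Γ(Y, V) := inferInstance
  unfold grank
  rw [IsFractionRing.finrank_right_eq Γ(Y, V) (Y.presheaf.stalk (genericPoint Y))
    (F.presheaf.stalk (genericPoint Y))]
  refine IsLocalizedModule.finrank_eq (hV.primeIdealOf ⟨_, hηV⟩).asIdeal.primeCompl
    (germLin F V _ hηV) ?_
  intro a ha
  exact mem_nonZeroDivisors_of_ne_zero (fun h => ha (h ▸ zero_mem _))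

end Rank

section ResDeg

/-- the local ring at the generic point is the fraction field of the sections over an affine open. -/
theorem isFractionRing_stalk {Y : Scheme.{u}} [IsIntegral Y] (V : Y.Opens) (hV : IsAffineOpen V) (y : Y)
    (hy : y = genericPoint Y) (hyV : y ∈ V) :
    letI : Algebra Γ(Y, V) (Y.presheaf.stalk y) := (Y.presheaf.germ V y hyV).hom.toAlgebra
    IsFractionRing Γ(Y, V) (Y.presheaf.stalk y) := by
  subst hy
  haveI : Nonempty V := ⟨⟨_, hyV⟩⟩
  exact functionField_isFractionRing_of_isAffineOpen Y V hV

theorem isField_stalk {Y : Scheme.{u}} [IsIntegral Y] (y : Y) (hy : y = genericPoint Y) :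
    IsField (Y.presheaf.stalk y) := by
  subst hy
  exact Field.toIsField Y.functionField

/-- the residue map of a local ring which is a field is bijective. -/
theorem residue_bijective_of_isField (R : Type*) [CommRing R] [IsLocalRing R] (h : IsField R) :
    Function.Bijective (IsLocalRing.residue R) := by
  refine ⟨?_, IsLocalRing.residue_surjective⟩
  rw [injective_iff_map_eq_zero]
  intro a ha
  rw [IsLocalRing.residue_eq_zero_iff, IsLocalRing.isField_iff_maximalIdeal_eq.1 h] at ha
  exact ha

variable {X Y : Scheme.{u}} [IsIntegral X] [IsIntegral Y] (f : X ⟶ Y)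

/-- the degree of the function field extension of a dominant morphism of integral schemes is the rank of the sections
over the preimage of a nonempty affine open, when this preimage is affine. -/
theorem residueDegree_eq_finrank_sections (hξ : f.base (genericPoint X) = genericPoint Y)
    (V : Y.Opens) (hV : IsAffineOpen V) (hyV : f.base (genericPoint X) ∈ V)
    (hU : IsAffineOpen (f ⁻¹ᵁ V)) :
    letI : Algebra Γ(Y, V) Γ(X, f ⁻¹ᵁ V) := (f.app V).hom.toAlgebra
    f.residueDegree (genericPoint X) = Module.finrank Γ(Y, V) Γ(X, f ⁻¹ᵁ V) := by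
  have hξU : genericPoint X ∈ f ⁻¹ᵁ V := hyV
  haveI : Nonempty ↥(f ⁻¹ᵁ V) := ⟨⟨_, hξU⟩⟩
  letI algAK : Algebra Γ(Y, V) (Y.presheaf.stalk (f.base (genericPoint X))) :=
    (Y.presheaf.germ V _ hyV).hom.toAlgebra
  letI algKL : Algebra (Y.presheaf.stalk (f.base (genericPoint X)))
      (X.presheaf.stalk (genericPoint X)) := (f.stalkMap (genericPoint X)).hom.toAlgebra
  letI algAB : Algebra Γ(Y, V) Γ(X, f ⁻¹ᵁ V) := (f.app V).hom.toAlgebra
  letI algBL : Algebra Γ(X, f ⁻¹ᵁ V) (X.presheaf.stalk (genericPoint X)) :=
    (X.presheaf.germ (f ⁻¹ᵁ V) _ hξU).hom.toAlgebra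
  letI algAL : Algebra Γ(Y, V) (X.presheaf.stalk (genericPoint X)) :=
    ((algebraMap Γ(X, f ⁻¹ᵁ V) (X.presheaf.stalk (genericPoint X))).comp
      (algebraMap Γ(Y, V) Γ(X, f ⁻¹ᵁ V))).toAlgebra
  haveI : IsScalarTower Γ(Y, V) Γ(X, f ⁻¹ᵁ V) (X.presheaf.stalk (genericPoint X)) :=
    IsScalarTower.of_algebraMap_eq (fun _ => rfl)
  haveI : IsScalarTower Γ(Y, V) (Y.presheaf.stalk (f.base (genericPoint X)))
      (X.presheaf.stalk (genericPoint X)) :=
    IsScalarTower.of_algebraMap_eq (fun a =>
      (Scheme.Hom.germ_stalkMap_apply f V (genericPoint X) hyV a).symm)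
  haveI : IsFractionRing Γ(Y, V) (Y.presheaf.stalk (f.base (genericPoint X))) :=
    isFractionRing_stalk V hV _ hξ hyV
  haveI : IsFractionRing Γ(X, f ⁻¹ᵁ V) (X.presheaf.stalk (genericPoint X)) :=
    isFractionRing_stalk (f ⁻¹ᵁ V) hU _ rfl hξU
  have h1 := IsFractionRing.finrank_eq Γ(Y, V) (Y.presheaf.stalk (f.base (genericPoint X)))
    Γ(X, f ⁻¹ᵁ V) (X.presheaf.stalk (genericPoint X))
  rw [← h1]
  -- residue fields
  have hK : IsField (Y.presheaf.stalk (f.base (genericPoint X))) := isField_stalk _ hξ
  have hL : IsField (X.presheaf.stalk (genericPoint X)) := isField_stalk _ rfl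
  let i : Y.presheaf.stalk (f.base (genericPoint X)) ≃+* Y.residueField (f.base (genericPoint X)) :=
    RingEquiv.ofBijective (IsLocalRing.residue _) (residue_bijective_of_isField _ hK)
  let j : X.presheaf.stalk (genericPoint X) ≃+* X.residueField (genericPoint X) :=
    RingEquiv.ofBijective (IsLocalRing.residue _) (residue_bijective_of_isField _ hL)
  letI algRes : Algebra (Y.residueField (f.base (genericPoint X))) (X.residueField (genericPoint X)) :=
    (f.residueFieldMap (genericPoint X)).hom.toAlgebra
  have h2 := Algebra.finrank_eq_of_equiv_equiv i j (by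
    ext a
    have := congrArg (fun φ => φ.hom a) (Scheme.residue_residueFieldMap f (genericPoint X))
    exact this)
  exact h2.symm

end ResDeg

section PushO

variable {X Y : Scheme.{u}} [IsIntegral X] [IsIntegral Y] (f : X ⟶ Y)

/-- the generic rank of `f_* O_X` is the degree of the function field extension. -/
theorem grank_pushO [IsAffineHom f] (hξ : f.base (genericPoint X) = genericPoint Y) :
    grank (pushO f) = f.residueDegree (genericPoint X) := by
  obtain ⟨_, ⟨V, hV, rfl⟩, hηV, -⟩ := Y.isBasis_affineOpens.exists_subset_of_mem_open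
    (Set.mem_univ (genericPoint Y)) isOpen_univ
  have hV' : IsAffineOpen V := hV
  haveI : Nonempty V := ⟨⟨_, hηV⟩⟩
  have hyV : f.base (genericPoint X) ∈ V := by rw [hξ]; exact hηV
  have hU : IsAffineOpen (f ⁻¹ᵁ V) := hV'.preimage f
  haveI : (Coh.structureModule X).IsQuasicoherent :=
    (Groth.Agent.Lib.T2H5.GenIsoF.isCoh_structureModule (Z := X)).1
  haveI : (pushO f).IsQuasicoherent :=
    Groth.Agent.Lib.Helper23.QCohLocal.isQuasicoherent_pushforward f _
  rw [grank_eq_finrank_sections (pushO f) V hV', residueDegree_eq_finrank_sections f hξ V hV' hyV hU]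
  letI algAB : Algebra Γ(Y, V) Γ(X, f ⁻¹ᵁ V) := (f.app V).hom.toAlgebra
  let e : Γ(pushO f, V) ≃ₗ[Γ(Y, V)] Γ(X, f ⁻¹ᵁ V) :=
    { toFun := fun b => ofPush f V b
      invFun := fun z => toPush f V z
      map_add' := fun a b => rfl
      map_smul' := fun a b => by
        rw [pushO_smul]
        rfl
      left_inv := fun b => rfl
      right_inv := fun z => rfl }
  exact e.finrank_eq

end PushO

section Finite

variable {X Y : Scheme.{u}} [IsIntegral X] [IsIntegral Y] (f : X ⟶ Y)

/-- the generic point of an integral scheme of dimension one is not closed. -/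
theorem not_isClosed_genericPoint (hY : topologicalKrullDim Y = 1) :
    ¬ IsClosed ({genericPoint Y} : Set Y) := by
  intro hcl
  have h1 : closure ({genericPoint Y} : Set Y) = Set.univ := genericPoint_spec Y
  rw [hcl.closure_eq] at h1
  haveI : Subsingleton Y := ⟨fun a b => by
    have ha : a ∈ ({genericPoint Y} : Set Y) := h1 ▸ Set.mem_univ a
    have hb : b ∈ ({genericPoint Y} : Set Y) := h1 ▸ Set.mem_univ b
    rw [Set.mem_singleton_iff] at ha hb
    rw [ha, hb]⟩
  have h2 := topologicalKrullDim_zero_of_discreteTopology Y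
  rw [hY] at h2
  exact absurd h2 (by decide)

/-- a dominant proper morphism of integral Noetherian schemes of dimension one has finite fibres. -/
theorem finite_fibre [IsNoetherian X] [IsLocallyNoetherian Y] [IsProper f]
    (hX : topologicalKrullDim X = 1) (hY : topologicalKrullDim Y = 1)
    (hξ : f.base (genericPoint X) = genericPoint Y) (y : Y) : (f.base ⁻¹' {y}).Finite := by
  have hclosedMap : IsClosedMap f.base := f.isClosedMap
  by_cases hy : y = genericPoint Y
  · subst hy
    refine (Set.finite_singleton (genericPoint X)).subset ?_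
    intro x hx
    rw [Set.mem_singleton_iff]
    by_contra hne
    have hxcl : IsClosed ({x} : Set X) :=
      Groth.Agent.Lib.Helper20.CDivLib.isClosed_singleton_of_ne_genericPoint hX.le x hne
    have h1 : IsClosed (f.base '' {x}) := hclosedMap _ hxcl
    rw [Set.image_singleton] at h1
    have hx' : f.base x = genericPoint Y := hx
    rw [hx'] at h1
    exact not_isClosed_genericPoint hY h1
  · have hycl : IsClosed ({y} : Set Y) :=
      Groth.Agent.Lib.Helper20.CDivLib.isClosed_singleton_of_ne_genericPoint hY.le y hy
    have hScl : IsClosed (f.base ⁻¹' {y}) := hycl.preimage f.continuous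
    refine Groth.Agent.S0047.finite_of_noetherian_quasiSober _ hScl ?_
    intro x hx
    refine Groth.Agent.Lib.Helper20.CDivLib.isClosed_singleton_of_ne_genericPoint hX.le x ?_
    rintro rfl
    exact hy (hx.symm.trans hξ)

/-- a dominant proper morphism of integral Noetherian schemes of dimension one is finite. -/
theorem isFinite_of_dominant [IsNoetherian X] [IsLocallyNoetherian Y] [IsProper f]
    (hX : topologicalKrullDim X = 1) (hY : topologicalKrullDim Y = 1)
    (hξ : f.base (genericPoint X) = genericPoint Y) : IsFinite f := by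
  haveI : LocallyQuasiFinite f :=
    LocallyQuasiFinite.of_finite_preimage_singleton f (fun y => finite_fibre f hX hY hξ y)
  exact IsFinite.of_isProper_of_locallyQuasiFinite f

end Finite

section Main

open Groth.Agent.Lib.T2H6.TensorDeg

variable {X Y : Scheme.{u}} [IsIntegral X] [IsIntegral Y] (f : X ⟶ Y)
  (k : Type u) [Field k] [X.Over (Spec (CommRingCat.of k))] [Y.Over (Spec (CommRingCat.of k))]
  [IsProper (X ↘ Spec (CommRingCat.of k))] [IsProper (Y ↘ Spec (CommRingCat.of k))]

/-- **the degree of a pullback along a dominant morphism of integral proper curves**. -/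
theorem deg_pullback_eq_residueDegree_mul_deg
    (hX : topologicalKrullDim X = 1) (hY : topologicalKrullDim Y = 1)
    (hf : f ≫ (Y ↘ (Spec (CommRingCat.of k))) = X ↘ (Spec (CommRingCat.of k)))
    (hξ : f.base (genericPoint X) = genericPoint Y)
    (n : ℕ) (E : Y.Modules) (hE : FlatMod.IsFinLocFreeOfRank n E) :
    Curv2.deg k X ((Scheme.Modules.pullback f).obj E) n =
      (f.residueDegree (genericPoint X) : ℤ) * Curv2.deg k Y E n := by
  haveI : IsNoetherian X := Groth.Agent.Lib.T2H6.CurveSatur.isNoetherian_of_proper k
  haveI : IsNoetherian Y := Groth.Agent.Lib.T2H6.CurveSatur.isNoetherian_of_proper k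
  haveI : IsProper (f ≫ (Y ↘ (Spec (CommRingCat.of k)))) := by rw [hf]; infer_instance
  haveI : IsProper f := IsProper.of_comp f (Y ↘ (Spec (CommRingCat.of k)))
  haveI : IsFinite f := isFinite_of_dominant f hX hY hξ
  have hOc' : Coh.IsCoh (Coh.structureModule X) :=
    Groth.Agent.Lib.T2H5.GenIsoF.isCoh_structureModule
  have hB := Groth.Agent.Lib.T2H5.ClosedTransfer.isCoh_pushforward f _ hOc'
  rw [Groth.Agent.Lib.T2H6.FinBir.deg_pullback_eq_psi f k hf n E hE]
  have h3 := tensor_euler k hY E n hE _ hB
  unfold TensorDeg.psi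
  rw [h3]
  have h4 : grank ((Scheme.Modules.pushforward f).obj (Coh.structureModule X)) =
      f.residueDegree (genericPoint X) := grank_pushO f hξ
  rw [h4]
  ring

end Main

end Groth.Agent.Lib.T2H6.FinDeg
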