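import Mathlib
import Groth.Prelude.Def_Canon
import Groth.Agent.Lib.T2H5T2Lin
import Groth.Agent.Lib.T2H6HHLin

/-!
# T2H6FinDual: dualizing pairs along finite (affine) morphisms (helper6)

For `π : X ⟶ Z` over `Spec A`: the Leray edge map `H^p(Z, π_* G) → H^p(X, G)` as an `A`-linear map `edgeLin`,
natural in `G` (`edgeLin_nat`), bijective for `π` affine and `G` quasi-coherent (`edgeEquiv`); and the transfer of
an `r`-dualizing pair along an affine morphism: `exists_isRDualOver_of_represents`.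
-/

set_option autoImplicit false
set_option linter.style.haveILetI false
set_option linter.unusedSectionVars false
universe u
open CategoryTheory CategoryTheory.Limits Opposite TopologicalSpace Abelian AlgebraicGeometry

namespace Groth.Agent.Lib.T2H6.FinDual

open Groth.Agent.Lib.T2H5.PushEdge Groth.Agent.Lib.T2H5.T2Lin

variable {A : Type u} [CommRing A] {X Z : Scheme.{u}} [X.Over (Spec (CommRingCat.of A))]
  [Z.Over (Spec (CommRingCat.of A))] (π : X ⟶ Z)
  (hπ : π ≫ (Z ↘ Spec (CommRingCat.of A)) = X ↘ Spec (CommRingCat.of A))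

/-- the Leray edge map as a linear map -/
noncomputable def edgeLin (G : X.Modules) (p : ℕ) :
    Coh.HH Z ((Scheme.Modules.pushforward π).obj G) p →ₗ[A] Coh.HH X G p where
  toFun := CohPull.pushEdge π G p
  map_add' := map_add (CohPull.pushEdge π G p)
  map_smul' := fun c x => pushEdge_smul π A hπ G p c x

theorem edgeLin_apply (G : X.Modules) (p : ℕ)
    (x : Coh.HH Z ((Scheme.Modules.pushforward π).obj G) p) :
    edgeLin π hπ G p x = CohPull.pushEdge π G p x := rfl

/-- naturality of the edge map -/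
theorem edgeLin_nat {F G : X.Modules} (φ : F ⟶ G) (p : ℕ)
    (x : Coh.HH Z ((Scheme.Modules.pushforward π).obj F) p) :
    edgeLin π hπ G p (Canon.HHlin A ((Scheme.Modules.pushforward π).map φ) p x) =
      Canon.HHlin A φ p (edgeLin π hπ F p x) := by
  rw [edgeLin_apply, edgeLin_apply, pushEdge_eq, pushEdge_eq]
  exact edgeAb_nat π.base ((SheafOfModules.toSheaf X.ringCatSheaf).map φ) p x

/-- the edge map as a linear equivalence for an affine morphism and a quasi-coherent module -/
noncomputable def edgeEquiv [IsAffineHom π] (G : X.Modules) [G.IsQuasicoherent] (p : ℕ) :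
    Coh.HH Z ((Scheme.Modules.pushforward π).obj G) p ≃ₗ[A] Coh.HH X G p :=
  LinearEquiv.ofBijective (edgeLin π hπ G p) (pushEdge_bijective_of_isAffineHom π G p)

theorem edgeEquiv_apply [IsAffineHom π] (G : X.Modules) [G.IsQuasicoherent] (p : ℕ)
    (x : Coh.HH Z ((Scheme.Modules.pushforward π).obj G) p) :
    edgeEquiv π hπ G p x = edgeLin π hπ G p x := rfl

include hπ in
/-- **Transfer of a dualizing pair along an affine morphism**: if `(ω_Z, tr_Z)` is an `r`-dualizing pair on `Z`,
`π : X ⟶ Z` is affine and `ω_X` represents `F ↦ Hom(π_* F, ω_Z)` through `τ : π_* ω_X ⟶ ω_Z`, then `ω_X` carries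
a trace making it an `r`-dualizing pair on `X`. -/
theorem exists_isRDualOver_of_represents [IsAffineHom π] (r : ℕ)
    (ωZ : Z.Modules) (trZ : Coh.HH Z ωZ r →ₗ[A] A) (hZ : Canon.IsRDualOver A Z r ωZ trZ)
    (ωX : X.Modules) (hωX : Coh.IsQCoh ωX) (τ : (Scheme.Modules.pushforward π).obj ωX ⟶ ωZ)
    (huniv : ∀ F : X.Modules, Coh.IsQCoh F →
      Function.Bijective (fun φ : F ⟶ ωX => (Scheme.Modules.pushforward π).map φ ≫ τ)) :
    ∃ trX : Coh.HH X ωX r →ₗ[A] A, Canon.IsRDualOver A X r ωX trX := by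
  haveI : ωX.IsQuasicoherent := hωX
  refine ⟨(trZ ∘ₗ Canon.HHlin A τ r) ∘ₗ (edgeEquiv π hπ ωX r).symm.toLinearMap, hωX, fun F hF => ?_⟩
  haveI : F.IsQuasicoherent := hF
  have hpF : Coh.IsQCoh ((Scheme.Modules.pushforward π).obj F) :=
    Groth.Agent.Lib.Helper23.QCohLocal.isQuasicoherent_pushforward π F
  have key : ∀ φ : F ⟶ ωX, Canon.dualityMap A X r ωX
      ((trZ ∘ₗ Canon.HHlin A τ r) ∘ₗ (edgeEquiv π hπ ωX r).symm.toLinearMap) F φ =
      (Canon.dualityMap A Z r ωZ trZ ((Scheme.Modules.pushforward π).obj F)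
        ((Scheme.Modules.pushforward π).map φ ≫ τ)) ∘ₗ (edgeEquiv π hπ F r).symm.toLinearMap := by
    intro φ
    apply LinearMap.ext
    intro x
    obtain ⟨y, rfl⟩ := (edgeEquiv π hπ F r).surjective x
    unfold Canon.dualityMap
    simp only [LinearMap.comp_apply, LinearEquiv.coe_coe, LinearEquiv.symm_apply_apply]
    rw [edgeEquiv_apply, ← edgeLin_nat, ← edgeEquiv_apply, LinearEquiv.symm_apply_apply,
      Groth.Agent.Lib.T2H6.HHLin.HHlin_comp_apply]
  have hb1 := huniv F hF
  have hb2 := hZ.2 _ hpF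
  have hb3 : Function.Bijective (fun ψ : Coh.HH Z ((Scheme.Modules.pushforward π).obj F) r →ₗ[A] A =>
      ψ ∘ₗ (edgeEquiv π hπ F r).symm.toLinearMap) := by
    constructor
    · intro ψ ψ' h
      apply LinearMap.ext
      intro y
      have := LinearMap.congr_fun h (edgeEquiv π hπ F r y)
      simpa using this
    · intro ψ
      refine ⟨ψ ∘ₗ (edgeEquiv π hπ F r).toLinearMap, ?_⟩
      apply LinearMap.ext
      intro y
      simp
  have : Canon.dualityMap A X r ωX
      ((trZ ∘ₗ Canon.HHlin A τ r) ∘ₗ (edgeEquiv π hπ ωX r).symm.toLinearMap) F =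
      (fun ψ : Coh.HH Z ((Scheme.Modules.pushforward π).obj F) r →ₗ[A] A =>
        ψ ∘ₗ (edgeEquiv π hπ F r).symm.toLinearMap) ∘
      (Canon.dualityMap A Z r ωZ trZ ((Scheme.Modules.pushforward π).obj F)) ∘
      (fun φ : F ⟶ ωX => (Scheme.Modules.pushforward π).map φ ≫ τ) := by
    funext φ
    exact key φ
  rw [this]
  exact hb3.comp (hb2.comp hb1)

end Groth.Agent.Lib.T2H6.FinDual
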