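import Mathlib

set_option autoImplicit false
open MvPolynomial

namespace Groth.Agent.Lib.T2H6.FinFreeDesc

variable {A : Type*} [CommRing A] {n : ℕ} (a : Fin n → Fin n → Fin n → A) (u : Fin n → A)

/-- the ideal of relations of the algebra with structure constants `a` and unit `u`. -/
noncomputable def relIdeal : Ideal (MvPolynomial (Fin n) A) :=
  Ideal.span (Set.range (fun p : Fin n × Fin n => X p.1 * X p.2 - ∑ l, C (a p.1 p.2 l) * X l) ∪
    {∑ l, C (u l) * X l - 1})

/-- `a`, `u` are the structure constants of a commutative associative unital algebra structure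
on `A^n`. -/
structure IsStructure : Prop where
  comm : ∀ i j l, a i j l = a j i l
  assoc : ∀ i j q p, ∑ m, a j q m * a i m p = ∑ l, a i j l * a l q p
  unit : ∀ q p, ∑ l, u l * a l q p = if p = q then 1 else 0

/-- the matrix of multiplication by the `i`-th basis vector. -/
def Mmat (i : Fin n) : Matrix (Fin n) (Fin n) A := Matrix.of fun p q => a i q p

variable {a u}

theorem Mmat_mul (h : IsStructure a u) (i j : Fin n) :
    Mmat a i * Mmat a j = ∑ l, a i j l • Mmat a l := by
  ext p q
  rw [Matrix.mul_apply, Matrix.sum_apply]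
  simp only [Mmat, Matrix.of_apply, Matrix.smul_apply, smul_eq_mul]
  rw [← h.assoc i j q p]
  exact Finset.sum_congr rfl fun m _ => mul_comm _ _

theorem Mmat_comm (h : IsStructure a u) (i j : Fin n) :
    Mmat a i * Mmat a j = Mmat a j * Mmat a i := by
  rw [Mmat_mul h, Mmat_mul h]
  exact Finset.sum_congr rfl fun l _ => by rw [h.comm i j l]

theorem Mmat_unit (h : IsStructure a u) : ∑ l, u l • Mmat a l = 1 := by
  ext p q
  rw [Matrix.sum_apply]
  simp only [Mmat, Matrix.of_apply, Matrix.smul_apply, smul_eq_mul, Matrix.one_apply]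
  exact h.unit q p

open scoped IsMulCommutative in
theorem eq_zero_of_C_mem_relIdeal (h : IsStructure a u) (hn : 0 < n) (c : A)
    (hc : C c ∈ relIdeal a u) : c = 0 := by
  have hcomm : ∀ x ∈ Set.range (Mmat a), ∀ y ∈ Set.range (Mmat a), x * y = y * x := by
    rintro _ ⟨i, rfl⟩ _ ⟨j, rfl⟩
    exact Mmat_comm h i j
  haveI := Algebra.isMulCommutative_adjoin A hcomm
  let φ : MvPolynomial (Fin n) A →ₐ[A] Algebra.adjoin A (Set.range (Mmat a)) :=
    MvPolynomial.aeval fun i => ⟨Mmat a i, Algebra.subset_adjoin ⟨i, rfl⟩⟩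
  have hker : relIdeal a u ≤ RingHom.ker φ.toRingHom := by
    unfold relIdeal
    rw [Ideal.span_le]
    rintro x (⟨⟨i, j⟩, rfl⟩ | rfl)
    · show φ _ = 0
      apply Subtype.ext
      simp only [φ, map_sub, map_mul, map_sum, aeval_X, aeval_C]
      simp only [Subalgebra.coe_sub, Subalgebra.coe_mul, AddSubmonoidClass.coe_finsetSum,
        ZeroMemClass.coe_zero, Algebra.algebraMap_eq_smul_one,
        smul_mul_assoc, one_mul, Subalgebra.coe_smul]
      rw [Mmat_mul h, sub_self]
    · show φ _ = 0
      apply Subtype.ext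
      simp only [φ, map_sub, map_mul, map_sum, aeval_X, aeval_C, map_one]
      simp only [Subalgebra.coe_sub, AddSubmonoidClass.coe_finsetSum,
        ZeroMemClass.coe_zero, Algebra.algebraMap_eq_smul_one,
        smul_mul_assoc, one_mul, OneMemClass.coe_one, Subalgebra.coe_smul]
      rw [Mmat_unit h, sub_self]
  have h1 : φ (C c) = 0 := hker hc
  have h2 : (algebraMap A (Matrix (Fin n) (Fin n) A) c) = 0 := by
    have := congrArg Subtype.val h1
    simpa [φ] using this
  have h3 := congrFun (congrFun h2 ⟨0, hn⟩) ⟨0, hn⟩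
  simpa [Matrix.algebraMap_matrix_apply] using h3

end Groth.Agent.Lib.T2H6.FinFreeDesc
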