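import Mathlib
import Groth.Agent.Lib.T2H6FinFreeDescA

set_option autoImplicit false
open MvPolynomial

namespace Groth.Agent.Lib.T2H6.FinFreeDesc

section Basis

variable {B E : Type*} [CommRing B] [CommRing E] [Algebra B E] {n : ℕ} (e : Module.Basis (Fin n) B E)

/-- structure constants of an algebra with a basis. -/
noncomputable def sc (i j l : Fin n) : B := e.repr (e i * e j) l

/-- coordinates of the unit. -/
noncomputable def un (l : Fin n) : B := e.repr 1 l

theorem mul_basis (i j : Fin n) : e i * e j = ∑ l, sc e i j l • e l :=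
  (e.sum_repr (e i * e j)).symm

theorem one_basis : (1 : E) = ∑ l, un e l • e l := (e.sum_repr 1).symm

theorem repr_mul_basis (c : E) (i p : Fin n) :
    e.repr (c * e i) p = ∑ m, e.repr c m * sc e m i p := by
  conv_lhs => rw [← e.sum_repr c]
  rw [Finset.sum_mul, map_sum, Finsupp.coe_finset_sum, Finset.sum_apply]
  refine Finset.sum_congr rfl fun m _ => ?_
  rw [smul_mul_assoc, map_smul, Finsupp.smul_apply, smul_eq_mul]
  rfl

theorem isStructure_comm_aux (i j l : Fin n) : sc e i j l = sc e j i l := by
  unfold sc; rw [mul_comm]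

theorem isStructure_basis : IsStructure (sc e) (un e) where
  comm i j l := by unfold sc; rw [mul_comm]
  assoc i j q p := by
    have h1 : e.repr (e i * (e j * e q)) p = ∑ m, sc e j q m * sc e i m p := by
      rw [mul_comm, repr_mul_basis]
      refine Finset.sum_congr rfl fun m _ => ?_
      rw [(isStructure_comm_aux e m i p)]
      rfl
    have h2 : e.repr (e i * e j * e q) p = ∑ l, sc e i j l * sc e l q p := by
      rw [repr_mul_basis]
      rfl
    rw [← h1, ← h2, mul_assoc]
  unit q p := by
    have h1 : e.repr (1 * e q) p = ∑ l, un e l * sc e l q p := by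
      rw [repr_mul_basis]
      rfl
    rw [← h1, one_mul, e.repr_self, Finsupp.single_apply]
    simp only [eq_comm]

theorem relIdeal_le_ker : relIdeal (sc e) (un e) ≤ RingHom.ker (aeval (R := B) e).toRingHom := by
  unfold relIdeal
  rw [Ideal.span_le]
  rintro x (⟨⟨i, j⟩, rfl⟩ | rfl)
  · show aeval (R := B) e _ = 0
    simp only [map_sub, map_mul, map_sum, aeval_X, aeval_C]
    rw [mul_basis e i j, sub_eq_zero]
    refine Finset.sum_congr rfl fun l _ => ?_
    rw [Algebra.smul_def]
  · show aeval (R := B) e _ = 0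
    simp only [map_sub, map_mul, map_sum, aeval_X, aeval_C, map_one]
    rw [sub_eq_zero]
    conv_rhs => rw [one_basis e]
    refine Finset.sum_congr rfl fun l _ => ?_
    rw [Algebra.smul_def]

theorem exists_linear_form (F : MvPolynomial (Fin n) B) :
    ∃ v : Fin n → B, F - ∑ l, C (v l) * X l ∈ relIdeal (sc e) (un e) := by
  induction F using MvPolynomial.induction_on with
  | C c =>
    refine ⟨fun l => c * un e l, ?_⟩
    have h1 : (∑ l, C (un e l) * X l - 1 : MvPolynomial (Fin n) B) ∈ relIdeal (sc e) (un e) :=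
      Ideal.subset_span (Or.inr rfl)
    have h2 : (C c - ∑ l, C (c * un e l) * X l : MvPolynomial (Fin n) B) =
        - (C c * (∑ l, C (un e l) * X l - 1)) := by
      rw [mul_sub, mul_one, Finset.mul_sum, neg_sub]
      congr 1
      refine Finset.sum_congr rfl fun l _ => ?_
      rw [C_mul, mul_assoc]
    rw [h2]
    exact (relIdeal (sc e) (un e)).neg_mem (Ideal.mul_mem_left _ _ h1)
  | add F G hF hG =>
    obtain ⟨v, hv⟩ := hF
    obtain ⟨w, hw⟩ := hG
    refine ⟨fun l => v l + w l, ?_⟩
    have : F + G - ∑ l, C (v l + w l) * X l =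
        (F - ∑ l, C (v l) * X l) + (G - ∑ l, C (w l) * X l) := by
      simp only [C_add, add_mul, Finset.sum_add_distrib]
      ring
    rw [this]
    exact (relIdeal (sc e) (un e)).add_mem hv hw
  | mul_X F i hF =>
    obtain ⟨v, hv⟩ := hF
    refine ⟨fun p => ∑ l, v l * sc e l i p, ?_⟩
    have h1 : ∀ l : Fin n, (X l * X i - ∑ p, C (sc e l i p) * X p : MvPolynomial (Fin n) B) ∈
        relIdeal (sc e) (un e) := fun l => Ideal.subset_span (Or.inl ⟨(l, i), rfl⟩)
    have h2 : F * X i - ∑ p, C (∑ l, v l * sc e l i p) * X p =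
        (F - ∑ l, C (v l) * X l) * X i +
          ∑ l, C (v l) * (X l * X i - ∑ p, C (sc e l i p) * X p) := by
      have h3 : ∑ p, C (∑ l, v l * sc e l i p) * X p =
          ∑ l, C (v l) * ∑ p, C (sc e l i p) * (X p : MvPolynomial (Fin n) B) := by
        simp only [map_sum, Finset.sum_mul, Finset.mul_sum, C_mul]
        rw [Finset.sum_comm]
        refine Finset.sum_congr rfl fun l _ => Finset.sum_congr rfl fun p _ => ?_
        ring
      rw [h3]
      simp only [mul_sub, Finset.sum_sub_distrib, sub_mul, Finset.sum_mul]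
      have h4 : ∀ l : Fin n, (C (v l) * X l * X i : MvPolynomial (Fin n) B) =
          C (v l) * (X l * X i) := fun l => mul_assoc _ _ _
      simp only [h4]
      ring
    rw [h2]
    refine (relIdeal (sc e) (un e)).add_mem (Ideal.mul_mem_right _ _ hv) ?_
    exact Ideal.sum_mem _ fun l _ => Ideal.mul_mem_left _ _ (h1 l)

theorem ker_aeval_basis : RingHom.ker (aeval (R := B) e).toRingHom = relIdeal (sc e) (un e) := by
  refine le_antisymm ?_ (relIdeal_le_ker e)
  intro F hF
  obtain ⟨v, hv⟩ := exists_linear_form e F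
  have h1 : aeval (R := B) e (F - ∑ l, C (v l) * X l) = 0 := relIdeal_le_ker e hv
  have h0 : aeval (R := B) e F = 0 := hF
  rw [map_sub, h0, zero_sub, neg_eq_zero] at h1
  simp only [map_mul, map_sum, aeval_X, aeval_C] at h1
  have h2 : ∑ l, v l • e l = 0 := by
    rw [← h1]
    refine Finset.sum_congr rfl fun l _ => ?_
    rw [Algebra.smul_def]
  have h3 : ∀ l, v l = 0 := by
    have := Fintype.linearIndependent_iff.mp e.linearIndependent v h2
    exact this
  have h4 : F = F - ∑ l, C (v l) * X l := by
    simp [h3]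
  rw [h4]
  exact hv

end Basis

end Groth.Agent.Lib.T2H6.FinFreeDesc
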