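import Mathlib
import Groth.Agent.Lib.T2H6FinFreeDescB

set_option autoImplicit false
open MvPolynomial

namespace Groth.Agent.Lib.T2H6.FinFreeDesc

section FT

variable {R B E : Type*} [CommRing R] [CommRing B] [CommRing E] [Algebra R B] [Algebra B E]
  [Algebra R E] [IsScalarTower R B E] {n : ℕ} (e : Module.Basis (Fin n) B E)

theorem repr_mul (c c' : E) (l : Fin n) :
    e.repr (c * c') l = ∑ i, e.repr c' i * ∑ m, e.repr c m * sc e m i l := by
  conv_lhs => rw [← e.sum_repr c']
  rw [Finset.mul_sum, map_sum, Finsupp.coe_finset_sum, Finset.sum_apply]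
  refine Finset.sum_congr rfl fun i _ => ?_
  rw [mul_smul_comm, map_smul, Finsupp.smul_apply, smul_eq_mul, repr_mul_basis]

theorem finiteType_of_basis (e : Module.Basis (Fin n) B E) (hn : 0 < n) [Algebra.FiniteType R E] :
    Algebra.FiniteType R B := by
  classical
  obtain ⟨s, hs⟩ := (Algebra.FiniteType.out : (⊤ : Subalgebra R E).FG)
  let G : Finset B :=
    (Finset.univ.image fun t : Fin n × Fin n × Fin n => sc e t.1 t.2.1 t.2.2) ∪
      (Finset.univ.image (un e)) ∪ ((s ×ˢ Finset.univ).image fun t => e.repr t.1 t.2)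
  have hsc : ∀ i j l, sc e i j l ∈ Algebra.adjoin R (G : Set B) := fun i j l =>
    Algebra.subset_adjoin (by
      simp only [G, Finset.coe_union, Finset.coe_image, Set.mem_union, Set.mem_image]
      exact Or.inl (Or.inl ⟨(i, j, l), Finset.mem_coe.mpr (Finset.mem_univ _), rfl⟩))
  have hun : ∀ l, un e l ∈ Algebra.adjoin R (G : Set B) := fun l =>
    Algebra.subset_adjoin (by
      simp only [G, Finset.coe_union, Finset.coe_image, Set.mem_union, Set.mem_image]
      exact Or.inl (Or.inr ⟨l, Finset.mem_coe.mpr (Finset.mem_univ _), rfl⟩))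
  have hrs : ∀ c ∈ s, ∀ l, e.repr c l ∈ Algebra.adjoin R (G : Set B) := fun c hc l =>
    Algebra.subset_adjoin (by
      simp only [G, Finset.coe_union, Finset.coe_image, Set.mem_union, Set.mem_image]
      exact Or.inr ⟨(c, l), Finset.mem_coe.mpr (Finset.mem_product.mpr ⟨hc, Finset.mem_univ _⟩),
        rfl⟩)
  let D : Subalgebra R E :=
    { carrier := {c | ∀ l, e.repr c l ∈ Algebra.adjoin R (G : Set B)}
      mul_mem' := by
        intro c c' hc hc' l
        rw [repr_mul]
        exact Subalgebra.sum_mem _ fun i _ => Subalgebra.mul_mem _ (hc' i)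
          (Subalgebra.sum_mem _ fun m _ => Subalgebra.mul_mem _ (hc m) (hsc m i l))
      add_mem' := by
        intro c c' hc hc' l
        rw [map_add, Finsupp.add_apply]
        exact Subalgebra.add_mem _ (hc l) (hc' l)
      algebraMap_mem' := by
        intro r l
        have : algebraMap R E r = (algebraMap R B r) • (1 : E) := by
          rw [Algebra.smul_def, mul_one, ← IsScalarTower.algebraMap_apply]
        rw [this, map_smul, Finsupp.smul_apply, smul_eq_mul]
        exact Subalgebra.mul_mem _ (Subalgebra.algebraMap_mem _ r) (hun l) }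
  have hD : D = ⊤ := by
    rw [eq_top_iff, ← hs]
    exact Algebra.adjoin_le fun c hc => hrs c hc
  have hall : ∀ b : B, b ∈ Algebra.adjoin R (G : Set B) := by
    intro b
    have h1 : b • (1 : E) ∈ D := by rw [hD]; exact Algebra.mem_top
    have h2 : ∀ l, b * un e l ∈ Algebra.adjoin R (G : Set B) := by
      intro l
      have := h1 l
      rwa [map_smul, Finsupp.smul_apply, smul_eq_mul] at this
    have h3 := (isStructure_basis e).unit ⟨0, hn⟩ ⟨0, hn⟩
    rw [if_pos rfl] at h3
    have h4 : b = ∑ l, (b * un e l) * sc e l ⟨0, hn⟩ ⟨0, hn⟩ := by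
      calc b = b * 1 := (mul_one b).symm
        _ = b * ∑ l, un e l * sc e l ⟨0, hn⟩ ⟨0, hn⟩ := by rw [h3]
        _ = ∑ l, (b * un e l) * sc e l ⟨0, hn⟩ ⟨0, hn⟩ := by
          rw [Finset.mul_sum]
          exact Finset.sum_congr rfl fun l _ => by ring
    rw [h4]
    exact Subalgebra.sum_mem _ fun l _ => Subalgebra.mul_mem _ (h2 l) (hsc l _ _)
  exact ⟨⟨G, eq_top_iff.mpr fun b _ => hall b⟩⟩

end FT

end Groth.Agent.Lib.T2H6.FinFreeDesc

namespace Groth.Agent.Lib.T2H6.FinFreeDesc

section FP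

theorem relIdeal_map {A A' : Type*} [CommRing A] [CommRing A'] (f : A →+* A') {n : ℕ}
    (a : Fin n → Fin n → Fin n → A) (u : Fin n → A) :
    (relIdeal a u).map (MvPolynomial.map f) =
      relIdeal (fun i j l => f (a i j l)) (fun l => f (u l)) := by
  unfold relIdeal
  rw [Ideal.map_span, Set.image_union, Set.image_singleton, ← Set.range_comp]
  congr 2
  · congr 1
    funext p
    simp only [Function.comp_apply, map_sub, map_mul, map_X, map_sum, map_C]
  · simp only [map_sub, map_mul, map_X, map_sum, map_C, map_one]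

theorem exists_fg_le_of_le_sup {P Q : Type*} [CommRing P] [CommRing Q] (f : P →+* Q) (J : Ideal Q)
    (I : Ideal P) (K : Ideal Q) (hK : K.FG) (hle : K ≤ J ⊔ I.map f) :
    ∃ I₀ : Ideal P, I₀ ≤ I ∧ I₀.FG ∧ K ≤ J ⊔ I₀.map f := by
  classical
  revert hle
  refine Submodule.fg_induction
    (motive := fun (K : Ideal Q) _ =>
      K ≤ J ⊔ I.map f → ∃ I₀ : Ideal P, I₀ ≤ I ∧ I₀.FG ∧ K ≤ J ⊔ I₀.map f) ?_ ?_ K hK
  · intro x hx
    have hx' : x ∈ J ⊔ I.map f := hx (Submodule.mem_span_singleton_self x)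
    obtain ⟨j, hj, y, hy, rfl⟩ := Submodule.mem_sup.mp hx'
    obtain ⟨T, hT, hyT⟩ := Submodule.mem_span_finite_of_mem_span hy
    obtain ⟨T₀, hT₀, rfl⟩ := Finset.subset_set_image_iff.mp hT
    refine ⟨Ideal.span T₀, Ideal.span_le.mpr hT₀, ⟨T₀, rfl⟩, ?_⟩
    rw [Submodule.span_singleton_le_iff_mem]
    refine Submodule.add_mem_sup hj ?_
    rw [Ideal.map_span]
    rw [Finset.coe_image] at hyT
    exact hyT
  · intro K₁ K₂ _ _ h₁ h₂ hle
    obtain ⟨I₁, hI₁, hI₁fg, hK₁⟩ := h₁ (le_sup_left.trans hle)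
    obtain ⟨I₂, hI₂, hI₂fg, hK₂⟩ := h₂ (le_sup_right.trans hle)
    refine ⟨I₁ ⊔ I₂, sup_le hI₁ hI₂, Submodule.FG.sup hI₁fg hI₂fg, sup_le ?_ ?_⟩
    · exact hK₁.trans (sup_le_sup_left (Ideal.map_mono le_sup_left) J)
    · exact hK₂.trans (sup_le_sup_left (Ideal.map_mono le_sup_right) J)

universe u

theorem finitePresentation_of_basis {R B E : Type u} [CommRing R] [CommRing B] [CommRing E]
    [Algebra R B] [Algebra B E] [Algebra R E] [IsScalarTower R B E] {n : ℕ}
    (e : Module.Basis (Fin n) B E) (hn : 0 < n) [Algebra.FinitePresentation R E] :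
    Algebra.FinitePresentation R B := by
  classical
  haveI : Algebra.FiniteType R B := finiteType_of_basis e hn
  obtain ⟨N, π, hπ⟩ := Algebra.FiniteType.iff_quotient_mvPolynomial''.mp
    (inferInstance : Algebra.FiniteType R B)
  refine Algebra.FinitePresentation.of_surjective hπ ?_
  choose a' ha' using fun i j l => hπ (sc e i j l)
  choose u' hu' using fun l => hπ (un e l)
  let μ : MvPolynomial (Fin n) (MvPolynomial (Fin N) R) →ₐ[R] MvPolynomial (Fin n) B :=
    MvPolynomial.mapAlgHom π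
  have hμr : Function.Surjective (MvPolynomial.map (σ := Fin n) π.toRingHom) :=
    MvPolynomial.map_surjective π.toRingHom hπ
  have hμ : Function.Surjective μ := hμr
  let ev : MvPolynomial (Fin n) B →ₐ[R] E := (aeval (R := B) e).restrictScalars R
  have hev : Function.Surjective ev := by
    intro c
    refine ⟨∑ l, C (e.repr c l) * X l, ?_⟩
    show aeval (R := B) e _ = c
    simp only [map_sum, map_mul, aeval_C, aeval_X]
    conv_rhs => rw [← e.sum_repr c]
    exact Finset.sum_congr rfl fun l _ => (Algebra.smul_def _ _).symm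
  have hΘ : Function.Surjective (ev.comp μ) := hev.comp hμ
  have hK := Algebra.FinitePresentation.ker_fG_of_surjective (ev.comp μ) hΘ
  have hmapJ : (relIdeal a' u').map (MvPolynomial.map π.toRingHom) = relIdeal (sc e) (un e) := by
    rw [relIdeal_map]
    congr 1
    · funext i j l
      exact ha' i j l
    · funext l
      exact hu' l
  have hKeq : RingHom.ker (ev.comp μ).toRingHom =
      relIdeal a' u' ⊔ (RingHom.ker π.toRingHom).map C := by
    have h1 : RingHom.ker (ev.comp μ).toRingHom =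
        (RingHom.ker (aeval (R := B) e).toRingHom).comap (MvPolynomial.map π.toRingHom) := by
      ext x
      rfl
    rw [h1, ker_aeval_basis, ← hmapJ, Ideal.comap_map_of_surjective _ hμr,
      ← RingHom.ker_eq_comap_bot, MvPolynomial.ker_map]
  obtain ⟨I₀, hI₀le, hI₀fg, hI₀⟩ := exists_fg_le_of_le_sup C (relIdeal a' u')
    (RingHom.ker π.toRingHom) _ hK hKeq.le
  -- defects
  let dc : Fin n × Fin n × Fin n → MvPolynomial (Fin N) R :=
    fun t => a' t.1 t.2.1 t.2.2 - a' t.2.1 t.1 t.2.2
  let da : Fin n × Fin n × Fin n × Fin n → MvPolynomial (Fin N) R :=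
    fun t => ∑ m, a' t.2.1 t.2.2.1 m * a' t.1 m t.2.2.2 - ∑ l, a' t.1 t.2.1 l * a' l t.2.2.1 t.2.2.2
  let du : Fin n × Fin n → MvPolynomial (Fin N) R :=
    fun t => ∑ l, u' l * a' l t.1 t.2 - if t.2 = t.1 then 1 else 0
  have hS := isStructure_basis e
  have hdc : Ideal.span (Set.range dc) ≤ RingHom.ker π.toRingHom := by
    rw [Ideal.span_le]
    rintro _ ⟨t, rfl⟩
    show π _ = 0
    simp only [dc, map_sub, ha']
    rw [hS.comm, sub_self]
  have hda : Ideal.span (Set.range da) ≤ RingHom.ker π.toRingHom := by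
    rw [Ideal.span_le]
    rintro _ ⟨t, rfl⟩
    show π _ = 0
    simp only [da, map_sub, map_sum, map_mul, ha']
    rw [hS.assoc, sub_self]
  have hdu : Ideal.span (Set.range du) ≤ RingHom.ker π.toRingHom := by
    rw [Ideal.span_le]
    rintro _ ⟨t, rfl⟩
    show π _ = 0
    simp only [du, map_sub, map_sum, map_mul, ha', hu']
    rw [hS.unit]
    split_ifs <;> simp
  obtain ⟨I₁, hI₁⟩ : ∃ I₁, I₁ = I₀ ⊔ Ideal.span (Set.range dc) ⊔ Ideal.span (Set.range da) ⊔
      Ideal.span (Set.range du) := ⟨_, rfl⟩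
  have hI₁fg : I₁.FG := by
    rw [hI₁]
    exact Submodule.FG.sup (Submodule.FG.sup (Submodule.FG.sup hI₀fg
      (Submodule.fg_span (Set.finite_range dc)))
      (Submodule.fg_span (Set.finite_range da))) (Submodule.fg_span (Set.finite_range du))
  have hI₁le : I₁ ≤ RingHom.ker π.toRingHom := by
    rw [hI₁]
    exact sup_le (sup_le (sup_le hI₀le hdc) hda) hdu
  have hI₀I₁ : I₀ ≤ I₁ := by
    rw [hI₁]
    exact le_sup_of_le_left (le_sup_of_le_left le_sup_left)
  have hmem : ∀ x, x ∈ Set.range dc ∨ x ∈ Set.range da ∨ x ∈ Set.range du →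
      Ideal.Quotient.mk I₁ x = 0 := by
    intro x hx
    rw [Ideal.Quotient.eq_zero_iff_mem, hI₁]
    rcases hx with hx | hx | hx
    · exact Ideal.mem_sup_left (Ideal.mem_sup_left (Ideal.mem_sup_right (Ideal.subset_span hx)))
    · exact Ideal.mem_sup_left (Ideal.mem_sup_right (Ideal.subset_span hx))
    · exact Ideal.mem_sup_right (Ideal.subset_span hx)
  have hstruct : IsStructure (fun i j l => Ideal.Quotient.mk I₁ (a' i j l))
      (fun l => Ideal.Quotient.mk I₁ (u' l)) := by
    refine ⟨fun i j l => ?_, fun i j q p => ?_, fun q p => ?_⟩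
    · have := hmem (dc (i, j, l)) (Or.inl ⟨_, rfl⟩)
      simp only [dc, map_sub] at this
      exact sub_eq_zero.mp this
    · have := hmem (da (i, j, q, p)) (Or.inr (Or.inl ⟨_, rfl⟩))
      simp only [da, map_sub, map_sum, map_mul] at this
      exact sub_eq_zero.mp this
    · have := hmem (du (q, p)) (Or.inr (Or.inr ⟨_, rfl⟩))
      simp only [du, map_sub, map_sum, map_mul] at this
      rw [sub_eq_zero.mp this]
      split_ifs <;> simp
  have hII₁ : RingHom.ker π.toRingHom ≤ I₁ := by
    intro t ht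
    have h0 : (C t : MvPolynomial (Fin n) (MvPolynomial (Fin N) R)) ∈
        RingHom.ker (ev.comp μ).toRingHom := by
      rw [hKeq]
      exact Ideal.mem_sup_right (Ideal.mem_map_of_mem _ ht)
    have h1 : (C t : MvPolynomial (Fin n) (MvPolynomial (Fin N) R)) ∈
        relIdeal a' u' ⊔ I₁.map C :=
      (sup_le_sup_left (Ideal.map_mono hI₀I₁) (relIdeal a' u') : relIdeal a' u' ⊔ I₀.map C ≤
        relIdeal a' u' ⊔ I₁.map C) (hI₀ h0)
    have h2 := Ideal.mem_map_of_mem (MvPolynomial.map (σ := Fin n) (Ideal.Quotient.mk I₁)) h1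
    have h3 : (I₁.map (C : MvPolynomial (Fin N) R →+* MvPolynomial (Fin n) _)).map
        (MvPolynomial.map (σ := Fin n) (Ideal.Quotient.mk I₁)) = ⊥ := by
      rw [Ideal.map_map, eq_bot_iff, Ideal.map_le_iff_le_comap]
      intro x hx
      rw [Ideal.mem_comap, RingHom.comp_apply, MvPolynomial.map_C,
        Ideal.Quotient.eq_zero_iff_mem.mpr hx, map_zero]
      exact Ideal.zero_mem _
    rw [Ideal.map_sup, h3, sup_bot_eq, relIdeal_map, MvPolynomial.map_C] at h2
    exact Ideal.Quotient.eq_zero_iff_mem.mp (eq_zero_of_C_mem_relIdeal hstruct hn _ h2)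
  rw [le_antisymm hII₁ hI₁le]
  exact hI₁fg

end FP

end Groth.Agent.Lib.T2H6.FinFreeDesc
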