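import Mathlib
import Groth.Agent.Lib.T2H6FinFreeDescC

set_option autoImplicit false
open TensorProduct

namespace Groth.Agent.Lib.T2H6.FinFreeDesc

universe u

theorem finitePresentation_of_subsingleton {R B : Type u} [CommRing R] [CommRing B] [Algebra R B]
    [Subsingleton B] : Algebra.FinitePresentation R B := by
  refine Algebra.FinitePresentation.of_surjective (f := Algebra.ofId R B)
    (fun b => ⟨0, Subsingleton.elim _ _⟩) ?_
  have : RingHom.ker (Algebra.ofId R B).toRingHom = ⊤ := by
    rw [eq_top_iff]
    intro x _
    exact Subsingleton.elim _ _
  rw [this]
  exact ⟨{1}, by simp⟩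

variable {R B E : Type u} [CommRing R] [CommRing B] [CommRing E] [Algebra R B] [Algebra B E]
  [Algebra R E] [IsScalarTower R B E]

theorem finitePresentation_of_free [Module.Finite B E] [Module.Free B E]
    (hinj : Function.Injective (algebraMap B E)) [Algebra.FinitePresentation R E] :
    Algebra.FinitePresentation R B := by
  rcases subsingleton_or_nontrivial B with hB | hB
  · exact finitePresentation_of_subsingleton
  · haveI : Nontrivial E := hinj.nontrivial
    have hn : 0 < Module.finrank B E := (Module.finrank_pos_iff_of_free (R := B) (M := E)).mpr inferInstance
    exact finitePresentation_of_basis (Module.finBasis B E) hn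

theorem finitePresentation_of_finite_projective [Module.Finite B E] [Module.Projective B E]
    (hinj : Function.Injective (algebraMap B E)) [Algebra.FinitePresentation R E] :
    Algebra.FinitePresentation R B := by
  rw [← RingHom.finitePresentation_algebraMap]
  let s : Set B := {r | Module.Free (Localization.Away r) (LocalizedModule (Submonoid.powers r) E)}
  have hs : Ideal.span s = ⊤ := by
    by_contra hne
    obtain ⟨p, hp, hle⟩ := Ideal.exists_le_maximal _ hne
    haveI := hp.isPrime
    haveI : Module.FinitePresentation B E := Module.finitePresentation_of_projective B E
    haveI : Module.Free (Localization.AtPrime p) (LocalizedModule p.primeCompl E) :=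
      Module.free_of_flat_of_isLocalRing
    obtain ⟨r, hr, hr', _⟩ := Module.FinitePresentation.exists_free_localizedModule_powers
      p.primeCompl (LocalizedModule.mkLinearMap p.primeCompl E) (Localization.AtPrime p)
    exact hr (hle (Ideal.subset_span hr'))
  refine RingHom.finitePresentation_ofLocalizationSpanTarget _ s hs ?_
  rintro ⟨r, hr⟩
  have hcomp : (algebraMap B (Localization.Away r)).comp (algebraMap R B) =
      algebraMap R (Localization.Away r) := (IsScalarTower.algebraMap_eq R B _).symm
  rw [hcomp, RingHom.finitePresentation_algebraMap]
  haveI : Module.Free (Localization.Away r) (LocalizedModule (Submonoid.powers r) E) := hr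
  haveI : Module.Free (Localization.Away r) (Localization.Away r ⊗[B] E) :=
    Module.Free.of_equiv (LocalizedModule.equivTensorProduct (Submonoid.powers r) E)
  have hinj' : Function.Injective (algebraMap (Localization.Away r) (Localization.Away r ⊗[B] E)) :=
    Algebra.TensorProduct.includeLeft_injective (S := Localization.Away r) hinj
  haveI : Algebra.FinitePresentation R (Localization.Away r ⊗[B] E) := by
    haveI : Algebra.FinitePresentation B (Localization.Away r) :=
      IsLocalization.Away.finitePresentation r
    haveI : Algebra.FinitePresentation R (E ⊗[B] Localization.Away r) :=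
      Algebra.FinitePresentation.trans R E _
    exact Algebra.FinitePresentation.equiv
      ((Algebra.TensorProduct.comm B E (Localization.Away r)).restrictScalars R)
  exact finitePresentation_of_free (B := Localization.Away r) (E := Localization.Away r ⊗[B] E) hinj'

end Groth.Agent.Lib.T2H6.FinFreeDesc
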