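import Mathlib
import Groth.Agent.Lib.T2H6FinFreeDescD
import Groth.Agent.Lib.T2H6LfpCancel
set_option backward.isDefEq.respectTransparency.types false

set_option autoImplicit false
set_option linter.style.haveILetI false
universe u
open CategoryTheory CategoryTheory.Limits AlgebraicGeometry TopologicalSpace

namespace Groth.Agent.Lib.T2H6.FinFreeDesc

/-- affine case. -/
theorem locallyOfFinitePresentation_of_affine {W V U : Scheme.{u}} [IsAffine W] [IsAffine V]
    [IsAffine U] (g₂ : W ⟶ V) (g₁ : V ⟶ U) [IsFinite g₂] [Flat g₂] [LocallyOfFinitePresentation g₂]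
    [Surjective g₂] [LocallyOfFinitePresentation (g₂ ≫ g₁)] : LocallyOfFinitePresentation g₁ := by
  rw [HasRingHomProperty.iff_of_isAffine (P := @LocallyOfFinitePresentation)]
  have h1 : g₂.appTop.hom.FinitePresentation :=
    (HasRingHomProperty.iff_of_isAffine (P := @LocallyOfFinitePresentation)).mp inferInstance
  have h2 : g₂.appTop.hom.Flat := Scheme.Hom.flat_appTop g₂
  have h3 : g₂.appTop.hom.Finite :=
    ((HasAffineProperty.iff_of_isAffine (P := @IsFinite)).mp (inferInstance : IsFinite g₂)).2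
  have h4 : g₂.appTop.hom.FaithfullyFlat :=
    (Flat.flat_and_surjective_iff_faithfullyFlat_of_isAffine g₂).mp ⟨inferInstance, inferInstance⟩
  have h5 : (g₂.appTop.hom.comp g₁.appTop.hom).FinitePresentation := by
    have := (HasRingHomProperty.iff_of_isAffine (P := @LocallyOfFinitePresentation)).mp
      (inferInstance : LocallyOfFinitePresentation (g₂ ≫ g₁))
    rwa [Scheme.Hom.comp_appTop, CommRingCat.hom_comp] at this
  have h6 : Function.Injective g₂.appTop.hom := h4.injective
  generalize g₁.appTop.hom = φ₁ at *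
  generalize g₂.appTop.hom = φ₂ at *
  algebraize [φ₁, φ₂, φ₂.comp φ₁]
  haveI : Module.FinitePresentation Γ(V, ⊤) Γ(W, ⊤) :=
    Module.FinitePresentation.of_finite_of_finitePresentation _ _
  haveI : Module.Projective Γ(V, ⊤) Γ(W, ⊤) := Module.Flat.projective_of_finitePresentation
  exact finitePresentation_of_finite_projective (R := Γ(U, ⊤)) (B := Γ(V, ⊤)) (E := Γ(W, ⊤)) h6

/-- **local finite presentation descends along finite locally free surjective morphisms on the
source.** -/
theorem locallyOfFinitePresentation_of_finite_flat_cover_source {T H S : Scheme.{u}} (m : T ⟶ H)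
    (h : H ⟶ S) [IsFinite m] [Flat m] [LocallyOfFinitePresentation m] [Surjective m]
    [LocallyOfFinitePresentation (m ≫ h)] : LocallyOfFinitePresentation h := by
  have key : ∀ z : H, ∃ V : H.Opens, z ∈ V ∧ LocallyOfFinitePresentation (V.ι ≫ h) := by
    intro z
    obtain ⟨U, hU, hzU⟩ : ∃ U : S.Opens, IsAffineOpen U ∧ h z ∈ U := by
      obtain ⟨_, ⟨U, hU, rfl⟩, hzU, -⟩ :=
        S.isBasis_affineOpens.exists_subset_of_mem_open (Set.mem_univ (h z)) isOpen_univ
      exact ⟨U, hU, hzU⟩
    obtain ⟨V, hV, hzV, hVU⟩ : ∃ V : H.Opens, IsAffineOpen V ∧ z ∈ V ∧ V ≤ h ⁻¹ᵁ U := by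
      obtain ⟨_, ⟨V, hV, rfl⟩, hzV, hVU⟩ :=
        H.isBasis_affineOpens.exists_subset_of_mem_open (show z ∈ (h ⁻¹ᵁ U : Set H) from hzU)
          (h ⁻¹ᵁ U).isOpen
      exact ⟨V, hV, hzV, hVU⟩
    refine ⟨V, hzV, ?_⟩
    have hW : IsAffineOpen (m ⁻¹ᵁ V) := hV.preimage m
    haveI : IsAffine U.toScheme := hU
    haveI : IsAffine V.toScheme := hV
    haveI : IsAffine (m ⁻¹ᵁ V).toScheme := hW
    have e1 : h.resLE U V hVU ≫ U.ι = V.ι ≫ h := Scheme.Hom.resLE_comp_ι _ _
    have e2 : (m ∣_ V) ≫ V.ι = (m ⁻¹ᵁ V).ι ≫ m := morphismRestrict_ι m V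
    haveI : LocallyOfFinitePresentation ((m ∣_ V) ≫ h.resLE U V hVU) := by
      refine Groth.Agent.Lib.T2H6.LfpCancel.locallyOfFinitePresentation_of_comp _ U.ι ?_
        inferInstance
      rw [Category.assoc, e1, reassoc_of% e2]
      infer_instance
    haveI : Surjective (m ∣_ V) :=
      IsZariskiLocalAtTarget.restrict (P := @Surjective) inferInstance V
    haveI : LocallyOfFinitePresentation (h.resLE U V hVU) :=
      locallyOfFinitePresentation_of_affine (m ∣_ V) (h.resLE U V hVU)
    rw [← e1]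
    infer_instance
  choose V hzV hV using key
  refine IsZariskiLocalAtSource.of_iSup_eq_top (P := @LocallyOfFinitePresentation) V ?_ hV
  rw [eq_top_iff]
  intro z _
  exact TopologicalSpace.Opens.mem_iSup.mpr ⟨z, hzV z⟩

end Groth.Agent.Lib.T2H6.FinFreeDesc
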