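import Mathlib
import Groth.Agent.Lib.T2H6FinFreeDescE
import Groth.Agent.Lib.Helper12SmoothSrc
set_option backward.isDefEq.respectTransparency.types false

set_option autoImplicit false
set_option linter.style.haveILetI false
universe u
open CategoryTheory CategoryTheory.Limits AlgebraicGeometry TopologicalSpace

namespace Groth.Agent.Lib.T2H6.FinFreeDesc

/-- **smoothness descends along finite locally free surjective morphisms on the source.** -/
theorem smooth_of_finite_flat_cover_source {T H S : Scheme.{u}} (m : T ⟶ H) (h : H ⟶ S)
    [IsFinite m] [Flat m] [LocallyOfFinitePresentation m] [Surjective m] [Smooth (m ≫ h)] :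
    Smooth h := by
  haveI : LocallyOfFinitePresentation h := locallyOfFinitePresentation_of_finite_flat_cover_source m h
  haveI : Flat h := Groth.Agent.Lib.Helper12.flat_of_comp_of_flat_of_surjective m h
  refine Smooth.of_smooth_fiberToSpecResidueField h (fun y => ?_)
  let t := S.fromSpecResidueField y
  let eK : pullback (m ≫ h) t ⟶ pullback h t :=
    pullback.lift (pullback.fst (m ≫ h) t ≫ m) (pullback.snd (m ≫ h) t)
      (by simp [pullback.condition])
  have sq : IsPullback eK (pullback.fst (m ≫ h) t) (pullback.fst h t) m :=
    Groth.Agent.Lib.Helper12.SmoothSrc.isPullback_lift m h t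
  haveI : Flat eK := MorphismProperty.of_isPullback (P := @Flat) sq.flip inferInstance
  haveI : Surjective eK := MorphismProperty.of_isPullback (P := @Surjective) sq.flip inferInstance
  have he : eK ≫ pullback.snd h t = pullback.snd (m ≫ h) t := pullback.lift_snd _ _ _
  haveI : Smooth (eK ≫ pullback.snd h t) := by rw [he]; infer_instance
  exact Groth.Agent.Lib.Helper12.SmoothSrc.smooth_of_flat_surjective_of_field (S.residueField y) eK
    (pullback.snd h t)

end Groth.Agent.Lib.T2H6.FinFreeDesc
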