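import Mathlib
import Groth.Prelude.Def_RelProj
import Groth.Agent.Lib.T2H6PnChart
import Groth.Agent.Lib.T2H6QCGrOfAffine
import Groth.Agent.Lib.Helper27ProjSpaceZero

set_option autoImplicit false

/-!
# Finite morphisms are projective (EGA II 6.1.11)

For an affine morphism `f : X ⟶ S` the graded algebra `(f_* O_X)[t]` (with `t` in degree one) has relative homogeneous
spectrum `X` itself; when `f` is finite its degree-one part `(f_* O_X) t` is of finite type.
-/

namespace Groth.Agent.Lib.T2H6.FinProj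

open CategoryTheory CategoryTheory.Limits AlgebraicGeometry Opposite TopologicalSpace MvPolynomial
open Scheme.AffineZariskiSite Groth.Agent.Helper13QCAlgOfAffine
open scoped HomogeneousIdeal

universe u

noncomputable section

section Ring

attribute [local instance] MvPolynomial.algebraMvPolynomial

theorem isLocalization_away_map {A B : Type*} [CommRing A] [CommRing B] (φ : A →+* B) (a : A)
    (σ : Type*) (h : @IsLocalization.Away A _ a B _ φ.toAlgebra) :
    @IsLocalization.Away (MvPolynomial σ A) _ (C a) (MvPolynomial σ B) _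
      (MvPolynomial.map φ).toAlgebra := by
  letI : Algebra A B := φ.toAlgebra
  haveI : IsLocalization (Submonoid.powers a) B := h
  have h1 := MvPolynomial.isLocalization (σ := σ) (Submonoid.powers a) B
  rw [Submonoid.map_powers] at h1
  exact h1

theorem closure_poly (R : Type*) [CommRing R] (n : ℕ) :
    Subring.closure
      ((MvPolynomial.homogeneousSubmodule (Fin (n + 1)) R 0 : Set (MvPolynomial (Fin (n + 1)) R)) ∪
        (MvPolynomial.homogeneousSubmodule (Fin (n + 1)) R 1 : Set (MvPolynomial (Fin (n + 1)) R))) =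
      ⊤ := by
  rw [eq_top_iff]
  rintro a -
  induction a using MvPolynomial.induction_on with
  | C r =>
    exact Subring.subset_closure (Or.inl (MvPolynomial.isHomogeneous_C _ r))
  | add p q hp hq => exact Subring.add_mem _ hp hq
  | mul_X p m hp =>
    exact Subring.mul_mem _ hp
      (Subring.subset_closure (Or.inr (MvPolynomial.isHomogeneous_X _ m)))

theorem eq_C_mul_X_of_isHomogeneous_one {R : Type*} [CommRing R]
    {a : MvPolynomial (Fin (0 + 1)) R} (ha : a.IsHomogeneous 1) :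
    a = C (a.coeff (Finsupp.single 0 1)) * MvPolynomial.X 0 := by
  classical
  ext d
  rw [coeff_C_mul, coeff_X']
  by_cases hd : Finsupp.single 0 1 = d
  · subst hd; simp
  · rw [if_neg hd, mul_zero]
    by_contra hne
    have h1 := ha.degree_eq_sum_deg_support (Finsupp.mem_support_iff.mpr hne)
    have h2 : (d.sum fun _ n => n) = 1 := h1.symm
    obtain ⟨m, hm⟩ := (Finsupp.sum_eq_one_iff d).mp h2
    have hm0 : m = 0 := Fin.ext (by omega)
    subst hm0
    exact hd hm.symm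

/-- rewriting a finite sum over an index type as a sum over the image -/
theorem exists_coeff_image {M R ι : Type*} [CommRing M] [CommRing R] [Fintype ι] [DecidableEq M]
    (α : R →+* M) (g : ι → M) (c₀ : ι → R) :
    ∃ c : M → R, ∑ i, α (c₀ i) * g i = ∑ y ∈ Finset.univ.image g, α (c y) * y := by
  classical
  refine ⟨fun y => ∑ m ∈ Finset.univ.filter (fun m => g m = y), c₀ m, ?_⟩
  refine (Finset.sum_image' (s := Finset.univ) (g := g)
      (f := fun y => α (∑ m ∈ Finset.univ.filter (fun m => g m = y), c₀ m) * y)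
      (fun m => α (c₀ m) * g m) ?_).symm
  intro i _
  rw [map_sum, Finset.sum_mul]
  refine Finset.sum_congr rfl fun j hj => ?_
  rw [(Finset.mem_filter.mp hj).2]

end Ring

variable {X S : Scheme.{u}} (f : X ⟶ S)

/-- restriction of functions on `X` between preimages -/
abbrev resX {U V : S.Opens} (h : V ≤ U) : Γ(X, f ⁻¹ᵁ U) →+* Γ(X, f ⁻¹ᵁ V) :=
  (X.presheaf.map (homOfLE (f.preimage_mono h)).op).hom

/-- the polynomial ring in one variable over the functions on `f⁻¹ U` -/
abbrev P (U : S.Opens) : Type u := MvPolynomial (Fin (0 + 1)) Γ(X, f ⁻¹ᵁ U)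

/-- the transition maps -/
def pmap {U V : S.Opens} (h : V ≤ U) : P f U →+* P f V := MvPolynomial.map (resX f h)

theorem pmap_id (U : S.Opens) (x : P f U) : pmap f (le_refl U) x = x := by
  have : resX f (le_refl U) = RingHom.id Γ(X, f ⁻¹ᵁ U) := by
    refine RingHom.ext fun r => ?_
    change (X.presheaf.map (𝟙 _)).hom r = r
    rw [X.presheaf.map_id]; rfl
  rw [pmap, this, MvPolynomial.map_id]

theorem pmap_comp {U V W : S.Opens} (h : V ≤ U) (h' : W ≤ V) (x : P f U) :
    pmap f h' (pmap f h x) = pmap f (h'.trans h) x := by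
  rw [pmap, pmap, pmap, MvPolynomial.map_map]
  have e : resX f (h'.trans h) = (resX f h').comp (resX f h) := by
    refine RingHom.ext fun r => ?_
    change (X.presheaf.map _).hom r = (X.presheaf.map _).hom ((X.presheaf.map _).hom r)
    rw [← CommRingCat.comp_apply, ← Functor.map_comp]
    rfl
  rw [e]

/-- the presheaf of rings `U ↦ Γ(X, f⁻¹ U)[t]` on the affine site -/
abbrev F : S.AffineZariskiSiteᵒᵖ ⥤ CommRingCat.{u} where
  obj U := CommRingCat.of (P f U.unop.1)
  map {U V} i := CommRingCat.ofHom (pmap f (toOpens_mono i.unop.le))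
  map_id U := by
    refine CommRingCat.hom_ext (RingHom.ext fun x => ?_)
    exact pmap_id f _ x
  map_comp {U V W} i j := by
    refine CommRingCat.hom_ext (RingHom.ext fun x => ?_)
    exact (pmap_comp f _ _ x).symm

/-- the structure map on the affine site -/
def α : (toOpensFunctor S).op ⋙ S.presheaf ⟶ F f where
  app U := CommRingCat.ofHom ((C : Γ(X, f ⁻¹ᵁ U.unop.1) →+* P f U.unop.1).comp (f.app U.unop.1).hom)
  naturality {U V} i := by
    refine CommRingCat.hom_ext (RingHom.ext fun r => ?_)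
    change C ((f.app V.unop.1).hom ((S.presheaf.map (homOfLE (toOpens_mono i.unop.le)).op).hom r)) =
      pmap f _ (C ((f.app U.unop.1).hom r))
    rw [pmap, MvPolynomial.map_C]
    congr 1
    have h := f.naturality (homOfLE (toOpens_mono i.unop.le)).op
    exact congr($(h).hom r)

theorem α_apply (U : S.AffineZariskiSite) (r : Γ(S, U.1)) :
    ((α f).app (op U)).hom r = C ((f.app U.1).hom r) := rfl

variable [IsAffineHom f]

theorem coequifibered : (α f).Coequifibered := by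
  rw [coequifibered_iff_forall_isLocalizationAway]
  intro U r
  have hU' : IsAffineOpen (f ⁻¹ᵁ U.1) := U.2.preimage f
  have h1 := hU'.isLocalization_of_eq_basicOpen ((f.app U.1).hom r)
    (homOfLE (f.preimage_mono (S.basicOpen_le r))) (Scheme.preimage_basicOpen f r)
  exact isLocalization_away_map (resX f (S.basicOpen_le r)) ((f.app U.1).hom r) (Fin (0 + 1)) h1

/-- the grading by degree -/
abbrev gr (U : S.AffineZariskiSite) : ℕ → Submodule Γ(X, f ⁻¹ᵁ U.1) (P f U.1) :=
  CohB1.polyGrading 0 Γ(X, f ⁻¹ᵁ U.1)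

theorem hmap {U V : S.AffineZariskiSite} (i : V ⟶ U) {d : ℕ} {x : (F f).obj (op U)}
    (hx : x ∈ gr f U d) : ((F f).map i.op).hom x ∈ gr f V d :=
  MvPolynomial.IsHomogeneous.map hx _

theorem hstr (U : S.AffineZariskiSite) (r : Γ(S, U.1)) :
    ((α f).app (op U)).hom r ∈ gr f U 0 :=
  MvPolynomial.isHomogeneous_C _ _

/-- the quasi-coherent graded algebra `(f_* O_X)[t]` -/
def qcGrAlg : RelProj.QCGrAlg S :=
  Groth.Agent.Lib.T2H6.QCGrOfAffine.qcGrAlg
    (σ := fun U => Submodule Γ(X, f ⁻¹ᵁ U.1) (P f U.1))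
    (coequifibered f) (gr f)
    (fun i _ _ hx => hmap f i hx) (hstr f)

theorem isGenDegOne : (qcGrAlg f).IsGenDegOne :=
  Groth.Agent.Lib.T2H6.QCGrOfAffine.isGenDegOne _ _ _ _
    (fun U => closure_poly Γ(X, f ⁻¹ᵁ U.1) 0)

theorem ft_gr [IsFinite f] (U : S.AffineZariskiSite) : ∃ T : Finset (P f U.1),
    (↑T : Set (P f U.1)) ⊆ (gr f U 1 : Set (P f U.1)) ∧
      ∀ x ∈ gr f U 1, ∃ c : P f U.1 → Γ(S, U.1),
        x = ∑ y ∈ T, ((α f).app (op U)).hom (c y) * y := by
  classical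
  have hfin : (f.app U.1).hom.Finite := IsFinite.finite_app f U.1 U.2
  letI : Algebra Γ(S, U.1) Γ(X, f ⁻¹ᵁ U.1) := (f.app U.1).hom.toAlgebra
  have hfin' : Module.Finite Γ(S, U.1) Γ(X, f ⁻¹ᵁ U.1) := hfin
  obtain ⟨T₀, hT₀⟩ := hfin'.fg_top
  let g : T₀ → P f U.1 := fun a => C (a : Γ(X, f ⁻¹ᵁ U.1)) * MvPolynomial.X 0
  refine ⟨Finset.univ.image g, ?_, ?_⟩
  · intro y hy
    simp only [Finset.coe_image, Finset.coe_univ, Set.image_univ, Set.mem_range] at hy
    obtain ⟨a, rfl⟩ := hy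
    have h1 : (C (a : Γ(X, f ⁻¹ᵁ U.1)) * MvPolynomial.X 0 : P f U.1).IsHomogeneous (0 + 1) :=
      (MvPolynomial.isHomogeneous_C _ _).mul (MvPolynomial.isHomogeneous_X _ _)
    exact h1
  · intro x hx
    have hx' : x.IsHomogeneous 1 := hx
    have h1 := eq_C_mul_X_of_isHomogeneous_one hx'
    set a := x.coeff (Finsupp.single 0 1) with ha
    have ha' : a ∈ Submodule.span Γ(S, U.1) (T₀ : Set Γ(X, f ⁻¹ᵁ U.1)) := by
      rw [hT₀]; trivial
    obtain ⟨c₀, hc₀⟩ := (Submodule.mem_span_finset'.mp ha')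
    obtain ⟨c, hc⟩ := exists_coeff_image ((α f).app (op U)).hom g c₀
    refine ⟨c, ?_⟩
    rw [← hc, h1, ← hc₀, map_sum, Finset.sum_mul]
    refine Finset.sum_congr rfl fun i _ => ?_
    rw [α_apply, Algebra.smul_def, map_mul, mul_assoc]
    rfl

theorem isFTDeg_one [IsFinite f] : (qcGrAlg f).IsFTDeg 1 :=
  Groth.Agent.Lib.T2H6.QCGrOfAffine.isFTDeg _ _ _ _ 1 (ft_gr f)


/-- the structure morphism `Proj A[t] ⟶ Spec A` -/
def tS (R : Type u) [CommRing R] : Proj (CohB1.polyGrading 0 R) ⟶ Spec (CommRingCat.of R) :=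
  Proj.toSpecZero (CohB1.polyGrading 0 R) ≫
    Spec.map (CommRingCat.ofHom (algebraMap R (CohB1.polyGrading 0 R 0)))

instance isIso_tS (R : Type u) [CommRing R] : IsIso (tS R) :=
  Groth.Agent.Lib.Helper27ProjSpaceSurj.isIso_toSpec R

theorem tS_natural (R₀ A : Type u) [CommRing R₀] [CommRing A] [Algebra R₀ A] :
    Proj.map (PnChart.phiA R₀ A 0) (PnChart.irr_phiA R₀ A 0) ≫ tS R₀ =
      tS A ≫ Spec.map (CommRingCat.ofHom (algebraMap R₀ A)) :=
  (PnChart.isPullback_phiA R₀ A 0).w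

/-- the chart `f⁻¹ U ≅ Spec Γ(X, f⁻¹ U) ≅ Proj Γ(X, f⁻¹ U)[t]` -/
def chart (U : S.AffineZariskiSite) : ((f ⁻¹ᵁ U.1 : X.Opens) : Scheme.{u}) ≅ Proj (gr f U) :=
  (U.2.preimage f).isoSpec ≪≫ (asIso (tS Γ(X, f ⁻¹ᵁ U.1))).symm

theorem chart_hom_tS (U : S.AffineZariskiSite) :
    (chart f U).hom ≫ tS Γ(X, f ⁻¹ᵁ U.1) = (f ⁻¹ᵁ U.1).toSpecΓ := by
  simp only [chart, Iso.trans_hom, Iso.symm_hom, asIso_inv, Category.assoc, IsIso.inv_hom_id,
    Category.comp_id]
  rfl

theorem strZ_eq (U : S.AffineZariskiSite) :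
    QCGrOfAffine.strZ (gr f) (hstr f) U =
      f.app U.1 ≫ CommRingCat.ofHom (algebraMap Γ(X, f ⁻¹ᵁ U.1) (gr f U 0)) := rfl

theorem chart_over (U : S.AffineZariskiSite) :
    (chart f U).hom ≫ Proj.toSpecZero (gr f U) ≫ Spec.map (QCGrOfAffine.strZ (gr f) (hstr f) U) ≫
      U.2.fromSpec = (f ⁻¹ᵁ U.1).ι ≫ f := by
  rw [strZ_eq, Spec.map_comp]
  have h1 := chart_hom_tS f U
  have h2 : (chart f U).hom ≫ Proj.toSpecZero (gr f U) ≫
      (Spec.map (CommRingCat.ofHom (algebraMap Γ(X, f ⁻¹ᵁ U.1) (gr f U 0))) ≫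
        Spec.map (f.app U.1)) ≫ U.2.fromSpec =
      ((chart f U).hom ≫ tS Γ(X, f ⁻¹ᵁ U.1)) ≫ Spec.map (f.app U.1) ≫ U.2.fromSpec := by
    simp only [tS, Category.assoc]
  rw [h2, h1, Scheme.Opens.toSpecΓ_naturality_assoc,
    ← IsAffineOpen.isoSpec_hom U.2, IsAffineOpen.isoSpec_hom_fromSpec, morphismRestrict_ι]

theorem chart_natural {U V : S.AffineZariskiSite} (i : V ⟶ U) :
    X.homOfLE (f.preimage_mono (toOpens_mono i.le)) ≫ (chart f U).hom =
      (chart f V).hom ≫
        Proj.map (QCGrOfAffine.Fres (gr f) (fun i _ _ hx => hmap f i hx) i)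
          (QCGrOfAffine.hirr (coequifibered f) (gr f) (fun i _ _ hx => hmap f i hx) (hstr f) i) := by
  letI : Algebra Γ(X, f ⁻¹ᵁ U.1) Γ(X, f ⁻¹ᵁ V.1) := (resX f (toOpens_mono i.le)).toAlgebra
  have h1 : Proj.map (QCGrOfAffine.Fres (gr f) (fun i _ _ hx => hmap f i hx) i)
      (QCGrOfAffine.hirr (coequifibered f) (gr f) (fun i _ _ hx => hmap f i hx) (hstr f) i) =
      Proj.map (PnChart.phiA Γ(X, f ⁻¹ᵁ U.1) Γ(X, f ⁻¹ᵁ V.1) 0) (PnChart.irr_phiA _ _ 0) :=
    PnChart.projMap_congr rfl _ _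
  have h2 : (chart f V).hom ≫
      Proj.map (PnChart.phiA Γ(X, f ⁻¹ᵁ U.1) Γ(X, f ⁻¹ᵁ V.1) 0) (PnChart.irr_phiA _ _ 0) ≫
        tS Γ(X, f ⁻¹ᵁ U.1) =
      X.homOfLE (f.preimage_mono (toOpens_mono i.le)) ≫ (f ⁻¹ᵁ U.1).toSpecΓ := by
    rw [tS_natural, ← Category.assoc, chart_hom_tS]
    exact Scheme.Opens.toSpecΓ_SpecMap_presheaf_map _ _ (f.preimage_mono (toOpens_mono i.le))
  rw [← cancel_mono (tS Γ(X, f ⁻¹ᵁ U.1)), Category.assoc, chart_hom_tS, h1, Category.assoc]
  exact h2.symm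

theorem chart_res (U : S.AffineZariskiSite) (r : Γ(S, U.1)) :
    X.homOfLE (f.preimage_mono (S.basicOpen_le r)) ≫ (chart f U).hom =
      (chart f (U.basicOpen r)).hom ≫
        Proj.map (QCGrOfAffine.Fres (gr f) (fun i _ _ hx => hmap f i hx)
          (homOfLE (U.basicOpen_le r)))
          (QCGrOfAffine.hirr (coequifibered f) (gr f) (fun i _ _ hx => hmap f i hx) (hstr f) _) :=
  chart_natural f (homOfLE (U.basicOpen_le r))

theorem isRelProj : RelProj.IsRelProj (qcGrAlg f) f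
    (fun U hU => chart f (aff U hU) ≪≫
      QCGrOfAffine.projIso (coequifibered f) (gr f) (fun i _ _ hx => hmap f i hx) (hstr f) U hU) :=
  QCGrOfAffine.isRelProj_of_charts (coequifibered f) (gr f) (fun i _ _ hx => hmap f i hx) (hstr f) f
    (chart f) (chart_over f) (chart_res f)

omit [IsAffineHom f] in
/-- **EGA II 6.1.11**: a finite morphism is projective. -/
theorem isProjective_of_isFinite [IsFinite f] : RelProj.IsProjective f :=
  ⟨qcGrAlg f, X, f, _, Iso.refl X, isGenDegOne f, isFTDeg_one f, isRelProj f, Category.id_comp f⟩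


end

end Groth.Agent.Lib.T2H6.FinProj
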