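import Mathlib
import Groth.Prelude.Def_Pic
import Groth.Agent.Lib.Helper10FinTriv

set_option autoImplicit false
universe u
open CategoryTheory CategoryTheory.Limits AlgebraicGeometry TopologicalSpace Opposite
open Groth.Agent.Lib.Helper20.RegMero Groth.Agent.Lib.Helper20.WeakAss

namespace Groth.Agent.Lib.T2H6.FinSetTriv

/-- a finite set of points of an affine open lying in an open set lies in a basic open inside. -/
theorem exists_basicOpen_le {X : Scheme.{u}} {U₀ : X.Opens} (hU₀ : IsAffineOpen U₀)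
    (G : X.Opens) (T : Finset X) (hT₀ : ∀ x ∈ T, x ∈ U₀) (hTG : ∀ x ∈ T, x ∈ G) :
    ∃ f : Γ(X, U₀), X.basicOpen f ≤ G ∧ ∀ x ∈ T, x ∈ X.basicOpen f := by
  classical
  let W : (Spec Γ(X, U₀)).Opens := hU₀.fromSpec ⁻¹ᵁ G
  let J : Ideal Γ(X, U₀) := PrimeSpectrum.vanishingIdeal (W.1ᶜ : Set (PrimeSpectrum Γ(X, U₀)))
  have hJ : PrimeSpectrum.zeroLocus (J : Set Γ(X, U₀)) = (W.1ᶜ : Set (PrimeSpectrum Γ(X, U₀))) := by
    rw [PrimeSpectrum.zeroLocus_vanishingIdeal_eq_closure]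
    exact (W.2.isClosed_compl).closure_eq
  let p : X → Ideal Γ(X, U₀) := fun x =>
    if hx : x ∈ U₀ then (hU₀.primeIdealOf ⟨x, hx⟩).asIdeal else ⊤
  have hp : ∀ x ∈ T, (p x).IsPrime := by
    intro x hx
    simp only [p, dif_pos (hT₀ x hx)]
    exact (hU₀.primeIdealOf ⟨x, hT₀ x hx⟩).2
  rcases T.eq_empty_or_nonempty with hTe | ⟨x₀, hx₀⟩
  · refine ⟨0, ?_, ?_⟩
    · rw [Scheme.basicOpen_zero]; exact bot_le
    · intro x hx; rw [hTe] at hx; exact absurd hx (Finset.notMem_empty x)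
  have hnot : ¬ ((J : Set Γ(X, U₀)) ⊆ ⋃ x ∈ (T : Set X), (p x : Set Γ(X, U₀))) := by
    rw [Ideal.subset_union_prime (s := T) (f := p) (a := x₀) (b := x₀)
      (fun x hx _ _ => hp x hx)]
    rintro ⟨x, hx, hJx⟩
    have h1 : hU₀.primeIdealOf ⟨x, hT₀ x hx⟩ ∈ PrimeSpectrum.zeroLocus (J : Set Γ(X, U₀)) := by
      rw [PrimeSpectrum.mem_zeroLocus]
      have hJx' : J ≤ (hU₀.primeIdealOf ⟨x, hT₀ x hx⟩).asIdeal := by
        simpa only [p, dif_pos (hT₀ x hx)] using hJx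
      exact hJx'
    rw [hJ] at h1
    apply h1
    show hU₀.fromSpec (hU₀.primeIdealOf ⟨x, hT₀ x hx⟩) ∈ G
    rw [hU₀.fromSpec_primeIdealOf]
    exact hTG x hx
  rw [Set.not_subset] at hnot
  obtain ⟨f, hfJ, hf⟩ := hnot
  refine ⟨f, ?_, ?_⟩
  · rw [← hU₀.fromSpec_image_basicOpen]
    rintro _ ⟨q, hq, rfl⟩
    by_contra hqG
    have h1 : q ∈ PrimeSpectrum.zeroLocus (J : Set Γ(X, U₀)) := by
      rw [hJ]; exact hqG
    exact hq (h1 hfJ)
  · intro x hx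
    rw [← hU₀.fromSpec_image_basicOpen]
    refine ⟨hU₀.primeIdealOf ⟨x, hT₀ x hx⟩, ?_, hU₀.fromSpec_primeIdealOf _⟩
    intro hfx
    apply hf
    simp only [Set.mem_iUnion]
    refine ⟨x, Finset.mem_coe.2 hx, ?_⟩
    show f ∈ ((p x : Ideal Γ(X, U₀)) : Set Γ(X, U₀))
    simp only [p, dif_pos (hT₀ x hx)]
    exact hfx

/-- an invertible module is trivial on an affine neighbourhood of a finite subset of an affine
open. -/
theorem exists_affine_trivial (X : Scheme.{u}) (L : X.Modules) (hL : PicF.IsInvertible L)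
    (T : Finset X) (hU : ∃ U : X.Opens, IsAffineOpen U ∧ ∀ x ∈ T, x ∈ U) :
    ∃ U : X.Opens, IsAffineOpen U ∧ (∀ x ∈ T, x ∈ U) ∧
      Nonempty (L.restrict U.ι ≅ Coh.structureModule (↑U : Scheme.{u})) := by
  obtain ⟨U₀, hU₀, hT₀⟩ := hU
  let S : Set ↥U₀ := {z | z.1 ∈ T}
  have hS : S.Finite := by
    refine Set.Finite.of_injOn (f := fun z : ↥U₀ => z.1) (t := (T : Set X)) ?_ ?_ T.finite_toSet
    · intro z hz; exact hz
    · intro z _ z' _ hzz'; exact Subtype.ext hzz'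
  obtain ⟨m, hm⟩ := exists_section_isGen L hL hU₀ S hS
  have hG : IsOpen {x : X | ∃ hx : x ∈ U₀, IsGen L x (L.presheaf.germ U₀ x hx m)} :=
    Groth.Agent.Lib.Helper10.FinTriv.isOpen_setOf_isGen L hL m
  obtain ⟨f, hfG, hfT⟩ := exists_basicOpen_le hU₀ ⟨_, hG⟩ T hT₀
    (fun x hx => ⟨hT₀ x hx, hm ⟨x, hT₀ x hx⟩ hx⟩)
  refine ⟨X.basicOpen f, hU₀.basicOpen f, hfT, ?_⟩
  have hle : X.basicOpen f ≤ U₀ := X.basicOpen_le f
  refine Groth.Agent.Lib.Helper20.Triv.nonempty_iso_of_bijective L _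
    (L.presheaf.map (homOfLE hle).op m) ?_
  apply Groth.Agent.Lib.Helper10.FinTriv.bijective_of_isGen
  intro x hx
  rw [TopCat.Presheaf.germ_res_apply]
  exact (hfG hx).2

end Groth.Agent.Lib.T2H6.FinSetTriv
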