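import Mathlib
import Groth.Prelude.Def_FlatMod2
import Groth.Agent.Lib.Helper18FittSh5
import Groth.Agent.Lib.Helper18Fitt20
import Groth.Agent.Lib.Helper20FormalPull

/-!
# The locally closed subscheme over which a finite type quasi-coherent module becomes locally free of
rank `r` (helper6), via Fitting ideal sheaves
-/

set_option autoImplicit false
universe u

namespace Groth.Agent.Lib.T2H6.FittStratum

open AlgebraicGeometry CategoryTheory Groth.Agent.Helper18FittSh Groth.Agent.Helper18Fitt

variable {X : Scheme.{u}} (F : X.Modules) [F.IsQuasicoherent]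

theorem sheafIdeal_mono (hft : CohB1.IsFT F) {k k' : ℕ} (h : k ≤ k') :
    Fitt.sheafIdeal F k ≤ Fitt.sheafIdeal F k' := by
  have hfin := finite_sections F hft
  intro W
  haveI := hfin W
  rw [sheafIdeal_ideal F k hfin W, sheafIdeal_ideal F k' hfin W]
  exact fitt_mono h

theorem isFinLocFreeOfRank_pullback_iff (hft : CohB1.IsFT F) (r : ℕ) {T : Scheme.{u}} (f : T ⟶ X) :
    FlatMod.IsFinLocFreeOfRank r ((Scheme.Modules.pullback f).obj F) ↔
      (∀ k, k < r → (Fitt.sheafIdeal F k).comap f = ⊥) ∧ (Fitt.sheafIdeal F r).comap f = ⊤ := by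
  haveI hft' : SheafOfModules.IsFiniteType (R := X.ringCatSheaf) F := hft
  have hGft : CohB1.IsFT ((Scheme.Modules.pullback f).obj F) :=
    Groth.Agent.Lib.Helper20.FormalPull.isFiniteType_pullback f F
  have hfit : ∀ k, (Fitt.sheafIdeal F k).comap f =
      Fitt.sheafIdeal ((Scheme.Modules.pullback f).obj F) k := fun k =>
    main_S8872 f F inferInstance hft k
  constructor
  · intro h
    have h' := fitt_of_isFinLocFreeOfRank _ hGft r h
    exact ⟨fun k hk => (hfit k).trans (h'.1 k hk), (hfit r).trans (h'.2 r le_rfl)⟩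
  · rintro ⟨h1, h2⟩
    exact isFinLocFreeOfRank_of_fitt _ hGft r (fun k hk => (hfit k).symm.trans (h1 k hk))
      ((hfit r).symm.trans h2)

/-- the ideal sheaf cutting out the closed condition -/
noncomputable def K (r : ℕ) : X.IdealSheafData :=
  if r = 0 then ⊥ else Fitt.sheafIdeal F (r - 1)

theorem comap_K_eq_bot_iff (hft : CohB1.IsFT F) (r : ℕ) {T : Scheme.{u}} (f : T ⟶ X) :
    (K F r).comap f = ⊥ ↔ ∀ k, k < r → (Fitt.sheafIdeal F k).comap f = ⊥ := by
  rcases Nat.eq_zero_or_pos r with hr | hr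
  · subst hr
    simp [K]
  · have hK : K F r = Fitt.sheafIdeal F (r - 1) := by
      unfold K
      rw [if_neg (Nat.pos_iff_ne_zero.mp hr)]
    rw [hK]
    constructor
    · intro h k hk
      rw [← le_bot_iff, ← h]
      exact Scheme.IdealSheafData.comap_mono f (sheafIdeal_mono F hft (Nat.le_sub_one_of_lt hk))
    · intro h
      exact h (r - 1) (Nat.sub_lt hr Nat.one_pos)

/-- the open complement of `V(Fitt_r)` -/
noncomputable abbrev U (r : ℕ) : X.Opens :=
  ⟨((Fitt.sheafIdeal F r).support : Set X)ᶜ, (Fitt.sheafIdeal F r).support.isClosed.isOpen_compl⟩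

noncomputable abbrev W (r : ℕ) : (K F r).subscheme.Opens := (K F r).subschemeι ⁻¹ᵁ (U F r)

noncomputable abbrev Z (r : ℕ) : Scheme.{u} := (W F r).toScheme

noncomputable abbrev i (r : ℕ) : Z F r ⟶ X := (W F r).ι ≫ (K F r).subschemeι

instance (r : ℕ) : IsImmersion (i F r) := by
  infer_instance

theorem comap_subschemeι_self (J : X.IdealSheafData) : J.comap J.subschemeι = ⊥ := by
  rw [← le_bot_iff, ← Scheme.IdealSheafData.le_map_iff_comap_le, Scheme.IdealSheafData.map_bot,
    Scheme.IdealSheafData.ker_subschemeι]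

theorem comap_eq_top_iff (J : X.IdealSheafData) {T : Scheme.{u}} (f : T ⟶ X) :
    J.comap f = ⊤ ↔ ∀ t : T, f t ∉ J.support := by
  rw [← Scheme.IdealSheafData.support_eq_bot_iff, Scheme.IdealSheafData.support_comap]
  constructor
  · intro h t ht
    have h1 : t ∈ (J.support.preimage f.continuous : TopologicalSpace.Closeds T) := ht
    rw [h] at h1
    exact h1
  · intro h
    ext t
    constructor
    · intro ht
      exact (h t ht).elim
    · intro ht
      exact ht.elim

theorem factors_iff (r : ℕ) {T : Scheme.{u}} (f : T ⟶ X) :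
    (∃ g : T ⟶ Z F r, g ≫ i F r = f) ↔
      ((K F r).comap f = ⊥ ∧ (Fitt.sheafIdeal F r).comap f = ⊤) := by
  constructor
  · rintro ⟨g, rfl⟩
    constructor
    · have h1 : g ≫ i F r = (g ≫ (W F r).ι) ≫ (K F r).subschemeι := by
        unfold i
        rw [Category.assoc]
      rw [h1, Scheme.IdealSheafData.comap_comp, comap_subschemeι_self,
        Scheme.IdealSheafData.comap_bot]
    · rw [comap_eq_top_iff]
      intro t
      have h2 : ((W F r).ι (g t)) ∈ W F r := by
        have h4 := Set.mem_range_self (f := (W F r).ι) (g t)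
        rwa [Scheme.Opens.range_ι] at h4
      have h3 : (K F r).subschemeι ((W F r).ι (g t)) ∈ U F r := h2
      exact h3
  · rintro ⟨h1, h2⟩
    have hle : (K F r).subschemeι.ker ≤ f.ker := by
      rw [Scheme.IdealSheafData.ker_subschemeι, ← Scheme.IdealSheafData.map_bot,
        Scheme.IdealSheafData.le_map_iff_comap_le, h1]
    have hfac := IsClosedImmersion.lift_fac (K F r).subschemeι f hle
    rw [comap_eq_top_iff] at h2
    have hrange : Set.range (IsClosedImmersion.lift (K F r).subschemeι f hle) ⊆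
        Set.range (W F r).ι := by
      rintro _ ⟨t, rfl⟩
      rw [Scheme.Opens.range_ι]
      change (K F r).subschemeι ((IsClosedImmersion.lift (K F r).subschemeι f hle) t) ∈ U F r
      have h3 := congrArg (fun φ : T ⟶ X => φ t) hfac
      simp only [Scheme.Hom.comp_apply] at h3
      rw [h3]
      exact h2 t
    refine ⟨IsOpenImmersion.lift (W F r).ι _ hrange, ?_⟩
    rw [← Category.assoc, IsOpenImmersion.lift_fac, hfac]

theorem factors_iff_isFinLocFreeOfRank (hft : CohB1.IsFT F) (r : ℕ) {T : Scheme.{u}} (f : T ⟶ X) :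
    (∃ g : T ⟶ Z F r, g ≫ i F r = f) ↔
      FlatMod.IsFinLocFreeOfRank r ((Scheme.Modules.pullback f).obj F) := by
  rw [factors_iff, comap_K_eq_bot_iff F hft, isFinLocFreeOfRank_pullback_iff F hft]

theorem isIso_ι_of_eq_top {Y : Scheme.{u}} (V : Y.Opens) (hV : V = ⊤) : IsIso V.ι := by
  subst hV
  exact (Scheme.topIso Y).isIso_hom

theorem isClosedImmersion_i (hft : CohB1.IsFT F) (r : ℕ)
    (h : ∀ s : X, ∃ V : X.Opens, s ∈ V ∧ ∃ p : FlatMod.freeMod (↑V) r ⟶ F.restrict V.ι, Epi p) :
    IsClosedImmersion (i F r) := by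
  have hU : U F r = ⊤ := by
    rw [eq_top_iff]
    intro s _
    obtain ⟨V, hsV, p, hp⟩ := h s
    exact notMem_support_of_epi F hft s r V hsV p
  have hW : W F r = ⊤ := by
    change (K F r).subschemeι ⁻¹ᵁ (U F r) = ⊤
    rw [hU]
    rfl
  haveI := isIso_ι_of_eq_top (W F r) hW
  infer_instance

end Groth.Agent.Lib.T2H6.FittStratum
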