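-- helper6 (team 2): a flat, locally finitely presented, surjective functor of algebraic stacks,
-- precomposed with a smooth atlas of its source, is a representable cover by a scheme; descent of
-- properties of representable functors and of quasi-compactness along such functors.
import Mathlib
import Groth.Agent.Lib.T2H6LocQDescent
import Groth.Agent.Lib.Helper15LocQRep
import Groth.Agent.Lib.Helper15Descent
import Groth.Agent.Lib.Helper15QcLocal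
import Groth.Agent.S12982
import Groth.Agent.S10530
import Groth.Agent.S10527

set_option autoImplicit false
set_option backward.isDefEq.respectTransparency false
set_option backward.isDefEq.respectTransparency.types false
open CategoryTheory CategoryTheory.Functor CategoryTheory.Limits Opposite AlgebraicGeometry

universe u

namespace Groth.Agent.Lib.T2H6.FppfChart

open Groth.Agent.Lib.Helper17 Groth.Agent.Lib.Helper15Atlas Groth.Agent.Lib.Helper15PtsTop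
  Groth.Agent.Lib.Helper15PtsComp Groth.Agent.Lib.Helper15LocQProps
  Groth.Agent.Lib.Helper15LocQComp Groth.Agent.Lib.Helper15LocQRep Groth.Agent.Lib.Helper15DiagLft
  Groth.Agent.Lib.Helper15DiagRepSp Groth.Agent.Lib.Helper15DiagDescent
  Groth.Agent.Lib.Helper15SrcCancel

variable {S : Scheme.{u}} {𝒳 𝒴 𝒵 : AlgSt.Cat S}

/-- The composite of a smooth surjective scheme chart of `𝒵` with a flat, locally finitely
presented, surjective functor `z : 𝒵 ⟶ 𝒴` is representable by algebraic spaces, flat, locally of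
finite presentation and surjective. -/
theorem chart_comp_fppf (h𝒴 : AlgSt.IsAlgStack Scheme.fppfPrecoverage 𝒴)
    (h𝒵 : AlgSt.IsAlgStack Scheme.fppfPrecoverage 𝒵) (z : 𝒵 ⥤ᵇ 𝒴)
    (hz₁ : AlgSt.LocQ (AlgSp.LocP @Flat) z)
    (hz₂ : AlgSt.LocQ (AlgSp.LocP @LocallyOfFinitePresentation) z) (hz₃ : AlgSt.IsSurjective z)
    {W₀ : Over S} (w₀ : FibCat.overCat W₀ ⥤ᵇ 𝒵)
    (hw₁ : AlgSt.RepByAlgSpWith (AlgSp.LocP @Smooth) w₀)
    (hw₂ : AlgSt.RepByAlgSpWith AlgSp.IsSurjectiveMor w₀) :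
    AlgSt.RepByAlgSpWith (AlgSp.LocP @Flat) (BasedFunctor.comp w₀ z) ∧
      AlgSt.RepByAlgSpWith (AlgSp.LocP @LocallyOfFinitePresentation) (BasedFunctor.comp w₀ z) ∧
      AlgSt.RepByAlgSpWith AlgSp.IsSurjectiveMor (BasedFunctor.comp w₀ z) := by
  have hW₀ := isAlgStack_overCat W₀
  have hrep : AlgSt.RepByAlgSp1 (BasedFunctor.comp w₀ z) :=
    repByAlgSp1_of_repByAlgSp1_diag h𝒴.diag W₀ _
  have hfl : AlgSt.LocQ (AlgSp.LocP @Flat) (BasedFunctor.comp w₀ z) :=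
    locQ_comp _ isSmoothLocalST_flat (fun _ _ _ _ hY hZ a b ha hb => locP_flat_comp hY hZ a b ha hb)
      hW₀ h𝒵 h𝒴 w₀ z (locQ_of_repByAlgSpWith _ isSmoothLocalST_flat hW₀ h𝒵 w₀ (flat_of_smooth hw₁))
      hz₁
  have hfp : AlgSt.LocQ (AlgSp.LocP @LocallyOfFinitePresentation) (BasedFunctor.comp w₀ z) :=
    locQ_comp _ isSmoothLocalST_lfp (fun _ _ _ _ hY hZ a b ha hb => locP_lfp_comp hY hZ a b ha hb)
      hW₀ h𝒵 h𝒴 w₀ z (locQ_of_repByAlgSpWith _ isSmoothLocalST_lfp hW₀ h𝒵 w₀ (lfp_of_smooth hw₁))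
      hz₂
  have hws : AlgSt.IsSurjective w₀ :=
    (isSurjective_iff_repByAlgSpWith hW₀ h𝒵 w₀ (repByAlgSp1_of_repByAlgSpWith _ _ hw₂)).2 hw₂
  have hsurj : AlgSt.IsSurjective (BasedFunctor.comp w₀ z) := by
    intro p
    obtain ⟨q, rfl⟩ := hz₃ p
    obtain ⟨r, rfl⟩ := hws q
    exact ⟨r, points_map_comp _ _ _⟩
  exact ⟨repByAlgSpWith_of_locQ _ isSmoothLocalST_flat bcStable_flat
      (isLocalOnBase_fppf_of_fpqc _ (Groth.Agent.S10530.result S)) hW₀ h𝒴 _ hrep hfl,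
    repByAlgSpWith_of_locQ _ isSmoothLocalST_lfp bcStable_lfp
      (isLocalOnBase_fppf_of_fpqc _ (Groth.Agent.S10527.result S)) hW₀ h𝒴 _ hrep hfp,
    (isSurjective_iff_repByAlgSpWith hW₀ h𝒴 _ hrep).1 hsurj⟩

/-- base change to a chart of the source of `z` -/
theorem repByAlgSpWith_fpFst_chart (P : MorphismProperty (AlgSp.Sp S)) (f : 𝒳 ⥤ᵇ 𝒴) (z : 𝒵 ⥤ᵇ 𝒴)
    {𝒲 : AlgSt.Cat S} (w₀ : 𝒲 ⥤ᵇ 𝒵) (h : AlgSt.RepByAlgSpWith P (FibCat.fpFst z f)) :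
    AlgSt.RepByAlgSpWith P (FibCat.fpFst (BasedFunctor.comp w₀ z) f) :=
  (repByAlgSpWith_of_square P (FibCat.fpFst (BasedFunctor.comp w₀ z) f)
    (FibCat.fpFst w₀ (FibCat.fpFst z f)) (pasteL f z w₀) (BasedFunctor.id _)
    (isEquivOver_pasteL f z w₀) (isEquivOver_id _) (Iso.refl _)).2
    (repByAlgSpWith_fpFst P (FibCat.fpFst z f) w₀ h)

/-- Descent of a property of representable functors which is fppf local on the base along a flat,
locally finitely presented, surjective functor of algebraic stacks. -/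
theorem repByAlgSpWith_of_fpFst (P : MorphismProperty (AlgSp.Sp S))
    (hP : AlgSp.IsLocalOnBase AlgSp.IsFppfCover P)
    (h𝒴 : AlgSt.IsAlgStack Scheme.fppfPrecoverage 𝒴)
    (h𝒵 : AlgSt.IsAlgStack Scheme.fppfPrecoverage 𝒵) (f : 𝒳 ⥤ᵇ 𝒴) (hf : AlgSt.RepByAlgSp1 f)
    (z : 𝒵 ⥤ᵇ 𝒴) (hz₁ : AlgSt.LocQ (AlgSp.LocP @Flat) z)
    (hz₂ : AlgSt.LocQ (AlgSp.LocP @LocallyOfFinitePresentation) z) (hz₃ : AlgSt.IsSurjective z)
    (h : AlgSt.RepByAlgSpWith P (FibCat.fpFst z f)) : AlgSt.RepByAlgSpWith P f := by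
  obtain ⟨W₀, w₀, hw₁, hw₂⟩ := h𝒵.atlas
  obtain ⟨h1, h2, h3⟩ := chart_comp_fppf h𝒴 h𝒵 z hz₁ hz₂ hz₃ w₀ hw₁ hw₂
  exact Groth.Agent.Lib.Helper15Descent.repByAlgSpWith_of_fpFst_of_cover P hP f hf
    (BasedFunctor.comp w₀ z) h1 h2 h3 (repByAlgSpWith_fpFst_chart P f z w₀ h)

/-- quasi-compactness of a functor is invariant under equivalences of the source -/
theorem isQuasiCompactMor_of_equiv_source {𝒜 𝒜' ℬ : AlgSt.Cat S} (E : 𝒜 ⥤ᵇ 𝒜')
    (hE : FibCat.IsEquivOver E) (k : 𝒜 ⥤ᵇ ℬ) (k' : 𝒜' ⥤ᵇ ℬ) (e : BasedFunctor.comp E k' ≅ k)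
    (hk : AlgSt.IsQuasiCompactMor Scheme.fppfPrecoverage k) :
    AlgSt.IsQuasiCompactMor Scheme.fppfPrecoverage k' := by
  intro 𝒵 h𝒵 hqc g
  have iB := IsEquivOver.isEquivalence (BasedFunctor.id ℬ) (isEquivOver_id _)
  have hM := isEquivOver_fpMap g k' g k (BasedFunctor.id 𝒵) E (BasedFunctor.id ℬ) (Iso.refl _)
    (e.symm : BasedFunctor.comp k (BasedFunctor.id ℬ) ≅ BasedFunctor.comp E k')
    (isEquivOver_id _) hE
  exact isQuasiCompact_of_isEquivOver _ hM (hk 𝒵 h𝒵 hqc g)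

/-- Quasi-compactness descends along a flat, locally finitely presented, surjective base change. -/
theorem isQuasiCompactMor_of_fpFst (h𝒳 : AlgSt.IsAlgStack Scheme.fppfPrecoverage 𝒳)
    (h𝒴 : AlgSt.IsAlgStack Scheme.fppfPrecoverage 𝒴)
    (h𝒵 : AlgSt.IsAlgStack Scheme.fppfPrecoverage 𝒵) (f : 𝒳 ⥤ᵇ 𝒴)
    (z : 𝒵 ⥤ᵇ 𝒴) (hz₁ : AlgSt.LocQ (AlgSp.LocP @Flat) z)
    (hz₂ : AlgSt.LocQ (AlgSp.LocP @LocallyOfFinitePresentation) z) (hz₃ : AlgSt.IsSurjective z)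
    (h : AlgSt.IsQuasiCompactMor Scheme.fppfPrecoverage (FibCat.fpFst z f)) :
    AlgSt.IsQuasiCompactMor Scheme.fppfPrecoverage f := by
  obtain ⟨W₀, w₀, hw₁, hw₂⟩ := h𝒵.atlas
  obtain ⟨h1, h2, h3⟩ := chart_comp_fppf h𝒴 h𝒵 z hz₁ hz₂ hz₃ w₀ hw₁ hw₂
  let W : AlgSp.Space S := ⟨(AlgSp.yon S).obj W₀, AlgSp.IsAlgSpace.yon_obj W₀⟩
  let t : AlgSt.ofSp W.obj ⥤ᵇ 𝒵 := BasedFunctor.comp (AlgSt.toOverCat W₀) w₀
  let w : AlgSt.ofSp W.obj ⥤ᵇ 𝒴 := BasedFunctor.comp t z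
  have tr : ∀ (Q : MorphismProperty (AlgSp.Sp S)),
      AlgSt.RepByAlgSpWith Q (BasedFunctor.comp w₀ z) → AlgSt.RepByAlgSpWith Q w := fun Q hQ =>
    (repByAlgSpWith_of_square Q (BasedFunctor.comp w₀ z) w (AlgSt.toOverCat W₀)
      (BasedFunctor.id _) (isEquivOver_toOverCat W₀) (isEquivOver_id _) (Iso.refl _)).1 hQ
  have hW : AlgSt.IsAlgStack Scheme.fppfPrecoverage (AlgSt.ofSp W.obj) := isAlgStack_ofSp W
  have hfp : AlgSt.IsAlgStack Scheme.fppfPrecoverage (FibCat.fp z f) :=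
    isAlgStack_fp_of_isPrestack (IsStack.isPrestack _ h𝒴.isStack) h𝒴.diag h𝒵 h𝒳 z f
  have hq1 : AlgSt.IsQuasiCompactMor Scheme.fppfPrecoverage (FibCat.fpFst t (FibCat.fpFst z f)) :=
    Groth.Agent.S12982.result S (FibCat.fp z f) 𝒵 (AlgSt.ofSp W.obj) hfp h𝒵 hW (FibCat.fpFst z f) t h
  have hq2 : AlgSt.IsQuasiCompactMor Scheme.fppfPrecoverage (FibCat.fpFst w f) :=
    isQuasiCompactMor_of_equiv_source (pasteL f z t) (isEquivOver_pasteL f z t) _ _ (Iso.refl _) hq1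
  exact Groth.Agent.Lib.Helper15QcLocal.isQuasiCompactMor_of_fpFst_cover h𝒳 h𝒴 f W w (tr _ h1)
    (tr _ h2) (tr _ h3) hq2

end Groth.Agent.Lib.T2H6.FppfChart
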