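-- helper6 (team 2): objects lift, locally for the fppf topology, along a jointly surjective family
-- of flat locally finitely presented functors of algebraic stacks.
import Mathlib
import Groth.Agent.Lib.T2H6FppfChart
import Groth.Agent.Lib.T2H6LocQBC
import Groth.Agent.Lib.T2H6FlatComp

set_option autoImplicit false
set_option backward.isDefEq.respectTransparency false
set_option backward.isDefEq.respectTransparency.types false
open CategoryTheory CategoryTheory.Functor CategoryTheory.Limits Opposite AlgebraicGeometry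

universe u

namespace Groth.Agent.Lib.T2H6.FppfLift

open Groth.Agent.Lib.Helper17 Groth.Agent.Lib.Helper15PshFib Groth.Agent.Lib.Helper15RepComp
  Groth.Agent.Lib.Helper15RepPsh Groth.Agent.Lib.Helper15DiagBase Groth.Agent.Lib.Helper15DiagRepSp
  Groth.Agent.Lib.Helper15Descent Groth.Agent.Lib.Helper15DiagLft
  Groth.Agent.Lib.Helper15DiagDescent Groth.Agent.Lib.Helper15SpMapRep
  Groth.Agent.Lib.Helper15SrcCancel Groth.Agent.Lib.Helper15ChartSp Groth.Agent.Lib.Helper15Atlas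
  Groth.Agent.Lib.Helper15LocEss Groth.Agent.Lib.Helper15UnivComp Groth.Agent.Lib.Helper15SmLoc
  Groth.Agent.Lib.Helper15PtsComp Groth.Agent.Lib.Helper15PtsTop Groth.Agent.Lib.Helper15PtsQc
  Groth.Agent.Lib.Helper15FpSwap Groth.Agent.Lib.Helper15QcLocal Groth.Agent.Lib.Helper15ClosedQc
  Groth.Agent.Lib.Helper15UnivPts Groth.Agent.Lib.Helper15BaseChange
  Groth.Agent.Lib.Helper15BaseChange2
  Groth.Agent.Lib.Helper15MonoSep Groth.Agent.Lib.Helper15QcRep Groth.Agent.Lib.Helper15LocQ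
  Groth.Agent.Lib.Helper15LocQEngine Groth.Agent.Lib.Helper15LocQComp
  Groth.Agent.Lib.Helper15LocQProps Groth.Agent.Lib.Helper15LocQRep

variable {S : Scheme.{u}} {𝒳 𝒴 : AlgSt.Cat S}

/-- A chart of the source of a functor to a slice whose composite is the functor of a morphism of
schemes: the property of the functor is inherited by the morphism. -/
theorem prop_of_chart_to_slice (P : MorphismProperty (AlgSp.Sp S)) (hP : AlgSp.IsSmoothLocalST P)
    (h𝒳 : AlgSt.IsAlgStack Scheme.fppfPrecoverage 𝒳) {U W : Over S}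
    (p : 𝒳 ⥤ᵇ FibCat.overCat U) (hp : AlgSt.LocQ P p) (ℓ : FibCat.overCat W ⥤ᵇ 𝒳)
    (hℓ : AlgSt.RepByAlgSpWith (AlgSp.LocP @Smooth) ℓ) (g : W ⟶ U)
    (lam : BasedFunctor.comp ℓ p ≅ AlgSt.overMap g) : P ((AlgSp.yon S).map g) := by
  have hid : AlgSt.RepByAlgSpWith (AlgSp.LocP @Smooth) (BasedFunctor.id (FibCat.overCat U)) :=
    Groth.Agent.Lib.Helper15EquivRep.repByAlgSpWith_of_isEquivOver _ locP_smooth_id _
      (isEquivOver_id _)
  let α : BasedFunctor.comp ℓ p ≅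
      BasedFunctor.comp (AlgSt.overMap g) (BasedFunctor.id (FibCat.overCat U)) := lam
  have hE : FibCat.IsEquivOver (FibCat.fpFst p (BasedFunctor.id (FibCat.overCat U))) :=
    isEquivOver_fpFst p _ (isEquivOver_id _)
  have hgood : AlgSt.RepByAlgSpWith (AlgSp.LocP @Smooth)
      (FibCat.fpLift ℓ (AlgSt.overMap g) α) :=
    (repByAlgSpWith_of_square _ ℓ (FibCat.fpLift ℓ (AlgSt.overMap g) α) (BasedFunctor.id _)
      (FibCat.fpFst p (BasedFunctor.id (FibCat.overCat U))) (isEquivOver_id _) hE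
      (Iso.refl _)).1 hℓ
  exact (locQ_iff_forall_good P hP h𝒳 (isAlgStack_overCat U) p).1 hp W U ℓ
    (BasedFunctor.id _) g α hℓ hid hgood

/-- Objects lift fppf locally along a jointly surjective family of flat, locally finitely
presented functors. -/
theorem exists_fppf_lift (h𝒳 : AlgSt.IsAlgStack Scheme.fppfPrecoverage 𝒳)
    (J : Type u) (𝒳' : J → AlgSt.Cat S)
    (h𝒳' : ∀ j, AlgSt.IsAlgStack Scheme.fppfPrecoverage (𝒳' j))
    (f : ∀ j, 𝒳' j ⥤ᵇ 𝒳)
    (hf₁ : ∀ j, AlgSt.LocQ (AlgSp.LocP @Flat) (f j))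
    (hf₂ : ∀ j, AlgSt.LocQ (AlgSp.LocP @LocallyOfFinitePresentation) (f j))
    (hf₃ : ∀ p : AlgSt.Points 𝒳, ∃ j, p ∈ Set.range (AlgSt.Points.map (f j)))
    (U : Over S) (x : FibCat.overCat U ⥤ᵇ 𝒳) :
    ∃ (ι : Type u) (V : ι → Over S) (g : ∀ i, V i ⟶ U) (c : ι → J),
      (Presieve.ofArrows (fun i ↦ (V i).left) fun i ↦ (g i).left) ∈
        Scheme.fppfPrecoverage U.left ∧
      ∀ i, ∃ x' : FibCat.overCat (V i) ⥤ᵇ 𝒳' (c i),
        Nonempty (BasedFunctor.comp x' (f (c i)) ≅ BasedFunctor.comp (AlgSt.overMap (g i)) x) := by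
  have hpre := IsStack.isPrestack _ h𝒳.isStack
  have hU := isAlgStack_overCat U
  have h𝒲 : ∀ j, AlgSt.IsAlgStack Scheme.fppfPrecoverage (FibCat.fp x (f j)) := fun j =>
    isAlgStack_fp_of_isPrestack hpre h𝒳.diag hU (h𝒳' j) x (f j)
  choose W ℓ hℓ₁ hℓ₂ using fun j => (h𝒲 j).atlas
  have hex : ∀ j, ∃ g : W j ⟶ U,
      Nonempty (BasedFunctor.comp (ℓ j) (FibCat.fpFst x (f j)) ≅ AlgSt.overMap g) := fun j =>
    exists_iso_overMap (BasedFunctor.comp (ℓ j) (FibCat.fpFst x (f j)))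
  choose g hg using hex
  have lam : ∀ j, BasedFunctor.comp (ℓ j) (FibCat.fpFst x (f j)) ≅ AlgSt.overMap (g j) :=
    fun j => (hg j).some
  refine ⟨J, W, g, id, ?_, fun j => ⟨BasedFunctor.comp (ℓ j) (FibCat.fpSnd x (f j)), ⟨?_⟩⟩⟩
  · change _ ∈ Scheme.precoverage (@Flat ⊓ @LocallyOfFinitePresentation) U.left
    rw [Scheme.ofArrows_mem_precoverage_iff]
    constructor
    · intro u
      obtain ⟨j, p', hp'⟩ := hf₃ (AlgSt.Points.map x (ptOver U u))
      obtain ⟨w, hw₁, -⟩ := points_fp_surjective (h𝒳' j).isStack.1 h𝒳.isStack.1 hU.isStack.1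
        (f j) x (ptOver U u) p' hp'.symm
      have hℓs : AlgSt.IsSurjective (ℓ j) :=
        (isSurjective_iff_repByAlgSpWith (isAlgStack_overCat (W j)) (h𝒲 j) _
          (repByAlgSp1_of_repByAlgSpWith _ _ (hℓ₂ j))).2 (hℓ₂ j)
      obtain ⟨t, rfl⟩ := hℓs w
      obtain ⟨t₀, rfl⟩ := (ptOver_bijective (W j)).2 t
      refine ⟨j, t₀, ?_⟩
      apply (ptOver_bijective U).1
      rw [← hw₁, ← points_map_comp, ← ptOver_map]
      exact (points_map_congr _ _ ((BasedNatTrans.forgetful _ _).mapIso (lam j)) _).symm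
    · intro j
      have h1 : AlgSt.LocQ (AlgSp.LocP @Flat) (FibCat.fpFst x (f j)) :=
        Groth.Agent.Lib.T2H6.LocQBC.locQ_fpFst _ isSmoothLocalST_flat bcStable_flat (h𝒳' j) h𝒳 hU
          (f j) x (hf₁ j)
      have h2 : AlgSt.LocQ (AlgSp.LocP @LocallyOfFinitePresentation) (FibCat.fpFst x (f j)) :=
        Groth.Agent.Lib.T2H6.LocQBC.locQ_fpFst _ isSmoothLocalST_lfp bcStable_lfp (h𝒳' j) h𝒳 hU
          (f j) x (hf₂ j)
      exact ⟨AlgSp.locP_yon_map (prop_of_chart_to_slice _ isSmoothLocalST_flat (h𝒲 j) _ h1 (ℓ j)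
          (hℓ₁ j) (g j) (lam j)),
        AlgSp.locP_yon_map (prop_of_chart_to_slice _ isSmoothLocalST_lfp (h𝒲 j) _ h2 (ℓ j)
          (hℓ₁ j) (g j) (lam j))⟩
  · exact (whiskerLeftIso (ℓ j) (FibCat.fpIso x (f j))).symm ≪≫ whiskerRightIso (lam j) x

end Groth.Agent.Lib.T2H6.FppfLift
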