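-- helper6 (team 2): properties that descend along flat, locally finitely presented, surjective
-- maps of the source, for functors of algebraic stacks read on chart squares.
import Mathlib
import Groth.Agent.Lib.T2H6FlatComp
import Groth.Agent.S5938
import Groth.Agent.S0114

set_option autoImplicit false
set_option backward.isDefEq.respectTransparency false
set_option backward.isDefEq.respectTransparency.types false
open CategoryTheory CategoryTheory.Functor CategoryTheory.Limits Opposite AlgebraicGeometry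

universe u

namespace Groth.Agent.Lib.T2H6.FppfSrc

open Groth.Agent.Lib.Helper17 Groth.Agent.Lib.Helper15LocQEngine Groth.Agent.Lib.Helper15LocQComp
  Groth.Agent.Lib.Helper15GoodComp Groth.Agent.Lib.Helper15LocQProps Groth.Agent.Lib.T2H6.FlatComp

variable {S : Scheme.{u}} {𝒳 𝒴 𝒵 : AlgSt.Cat S}

/-- A property of morphisms of schemes that descends along flat, locally finitely presented,
surjective maps of the source does so for functors of algebraic stacks. -/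
theorem locQ_of_comp_fppf (P : MorphismProperty Scheme.{u})
    (hP : AlgSp.IsSmoothLocalST (S := S) (AlgSp.LocP P))
    (hyon : ∀ {U V : Over S} (g : U ⟶ V), P g.left → AlgSp.LocP P ((AlgSp.yon S).map g))
    (hdesc : ∀ {X Y Z : Scheme.{u}} (a : X ⟶ Y) (b : Y ⟶ Z), Function.Surjective a → Flat a →
      LocallyOfFinitePresentation a → P (a ≫ b) → P b)
    (h𝒳 : AlgSt.IsAlgStack Scheme.fppfPrecoverage 𝒳)
    (h𝒴 : AlgSt.IsAlgStack Scheme.fppfPrecoverage 𝒴)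
    (h𝒵 : AlgSt.IsAlgStack Scheme.fppfPrecoverage 𝒵) (f : 𝒳 ⥤ᵇ 𝒴) (g : 𝒴 ⥤ᵇ 𝒵)
    (hf₁ : AlgSt.LocQ (AlgSp.LocP @Flat) f)
    (hf₂ : AlgSt.LocQ (AlgSp.LocP @LocallyOfFinitePresentation) f)
    (hf₃ : AlgSt.IsSurjective f)
    (hfg : AlgSt.LocQ (AlgSp.LocP P) (BasedFunctor.comp f g)) :
    AlgSt.LocQ (AlgSp.LocP P) g := by
  obtain ⟨U, V, W, x, y, z, h, k, α, β, hx₁, hx₂, hy₁, hy₂, hz₁, hz₂, hα₁, hα₂, hβ₁, hβ₂, hγ⟩ :=
    exists_good_squares h𝒳 h𝒴 h𝒵 f g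
  have hPhk : AlgSp.LocP P ((AlgSp.yon S).map (h ≫ k)) :=
    (locQ_iff_forall_good _ hP h𝒳 h𝒵 (BasedFunctor.comp f g)).1 hfg U W x z
      (h ≫ k) _ hx₁ hz₁ hγ
  have h1 : P (h.left ≫ k.left) := AlgSp.locP_yon_map hPhk
  have h2 : Flat h.left := AlgSp.locP_yon_map
    ((locQ_iff_forall_good _ isSmoothLocalST_flat h𝒳 h𝒴 f).1 hf₁ U V x y h α hx₁ hy₁ hα₁)
  have h3 : LocallyOfFinitePresentation h.left := AlgSp.locP_yon_map
    ((locQ_iff_forall_good _ isSmoothLocalST_lfp h𝒳 h𝒴 f).1 hf₂ U V x y h α hx₁ hy₁ hα₁)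
  have h4 : Function.Surjective h.left := surjective_left_of_square h𝒳 h𝒴 f hf₃ x y h α hα₂
  exact ⟨V, W, y, z, k, β, hy₁, hy₂, hz₁, hyon k (hdesc h.left k.left h4 h2 h3 h1)⟩

theorem locQ_lfp_of_comp_fppf
    (h𝒳 : AlgSt.IsAlgStack Scheme.fppfPrecoverage 𝒳)
    (h𝒴 : AlgSt.IsAlgStack Scheme.fppfPrecoverage 𝒴)
    (h𝒵 : AlgSt.IsAlgStack Scheme.fppfPrecoverage 𝒵) (f : 𝒳 ⥤ᵇ 𝒴) (g : 𝒴 ⥤ᵇ 𝒵)
    (hf₁ : AlgSt.LocQ (AlgSp.LocP @Flat) f)
    (hf₂ : AlgSt.LocQ (AlgSp.LocP @LocallyOfFinitePresentation) f)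
    (hf₃ : AlgSt.IsSurjective f)
    (hfg : AlgSt.LocQ (AlgSp.LocP @LocallyOfFinitePresentation) (BasedFunctor.comp f g)) :
    AlgSt.LocQ (AlgSp.LocP @LocallyOfFinitePresentation) g :=
  locQ_of_comp_fppf @LocallyOfFinitePresentation isSmoothLocalST_lfp
    (fun g hg => Groth.Agent.Lib.Helper15LocEss.locP_yon_map_of_lfp g hg)
    (fun a b ha₁ ha₂ ha₃ hab => by
      have : Surjective a := ⟨ha₁⟩
      have := ha₂
      have := ha₃
      have := hab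
      exact Groth.Agent.S0114.result a b)
    h𝒳 h𝒴 h𝒵 f g hf₁ hf₂ hf₃ hfg

theorem locQ_lft_of_comp_fppf
    (h𝒳 : AlgSt.IsAlgStack Scheme.fppfPrecoverage 𝒳)
    (h𝒴 : AlgSt.IsAlgStack Scheme.fppfPrecoverage 𝒴)
    (h𝒵 : AlgSt.IsAlgStack Scheme.fppfPrecoverage 𝒵) (f : 𝒳 ⥤ᵇ 𝒴) (g : 𝒴 ⥤ᵇ 𝒵)
    (hf₁ : AlgSt.LocQ (AlgSp.LocP @Flat) f)
    (hf₂ : AlgSt.LocQ (AlgSp.LocP @LocallyOfFinitePresentation) f)
    (hf₃ : AlgSt.IsSurjective f)
    (hfg : AlgSt.LocQ (AlgSp.LocP @LocallyOfFiniteType) (BasedFunctor.comp f g)) :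
    AlgSt.LocQ (AlgSp.LocP @LocallyOfFiniteType) g :=
  locQ_of_comp_fppf @LocallyOfFiniteType isSmoothLocalST_lft
    (fun g hg => Groth.Agent.Lib.Helper15LocQ.locP_yon_map_of_lft g hg)
    (fun a b ha₁ ha₂ ha₃ hab => by
      have : Surjective a := ⟨ha₁⟩
      have := ha₂
      have := ha₃
      have := hab
      exact Groth.Agent.S5938.result a b)
    h𝒳 h𝒴 h𝒵 f g hf₁ hf₂ hf₃ hfg

end Groth.Agent.Lib.T2H6.FppfSrc
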