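import Mathlib
import Groth.Agent.Lib.T2H6FieldTensE
import Groth.Agent.Lib.Helper10FibCI3
import Groth.Agent.Lib.Helper6Reduced

/-!
# Lengths of local rings along flat base change (helper6)

* `length_self_of_flat`: for a flat local homomorphism `A → B`: `ℓ(B) = ℓ(A) · ℓ_B(B / m_A B)`.
* `length_stalk_eq_mul_length_stalk_fiber`: scheme version, with the local ring of the fibre.
* `isField_stalk_of_forall_specializes`: the local ring of a reduced scheme at a maximal point is a field.
-/

set_option autoImplicit false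
set_option linter.style.haveILetI false
set_option linter.unusedSectionVars false
universe u
open CategoryTheory CategoryTheory.Limits AlgebraicGeometry Opposite TopologicalSpace TensorProduct

namespace Groth.Agent.Lib.T2H6.LenBC

open IsLocalRing Groth.Agent.Lib.T2H6.FibBC Groth.Agent.Lib.T2H6.FieldTens

section Ring

theorem length_self_of_flat (A B : Type u) [CommRing A] [CommRing B] [IsLocalRing A] [IsLocalRing B]
    [Algebra A B] [IsLocalHom (algebraMap A B)] [Module.Flat A B] :
    Module.length B B =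
      Module.length A A * Module.length B (B ⧸ (maximalIdeal A).map (algebraMap A B)) := by
  rw [← IsLocalRing.length_baseChange A B A]
  exact (TensorProduct.AlgebraTensorModule.rid A B B).symm.length_eq

theorem length_self_of_surjective (B O' : Type u) [CommRing B] [CommRing O'] [Algebra B O']
    (hs : Function.Surjective (algebraMap B O')) :
    Module.length O' O' = Module.length B (B ⧸ RingHom.ker (algebraMap B O')) := by
  rw [← Module.length_eq_of_surjective (S := B) (R := O') (M := O') hs]
  exact ((Algebra.linearMap B O').quotKerEquivOfSurjective hs).symm.length_eq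

theorem length_self_eq_one_of_isField (R : Type u) [CommRing R] (h : IsField R) : Module.length R R = 1 := by
  letI := h.toField
  exact Module.length_eq_one R R

end Ring

section Geo

theorem length_stalk_eq_mul_length_stalk_fiber {T W : Scheme.{u}} (r : T ⟶ W) (y₀ : W) (v : r.fiber y₀)
    (hfl : (r.stalkMap (r.fiberι y₀ v)).hom.Flat) :
    Module.length (T.presheaf.stalk (r.fiberι y₀ v)) (T.presheaf.stalk (r.fiberι y₀ v)) =
      Module.length (W.presheaf.stalk (r (r.fiberι y₀ v))) (W.presheaf.stalk (r (r.fiberι y₀ v))) *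
        Module.length ((r.fiber y₀).presheaf.stalk v) ((r.fiber y₀).presheaf.stalk v) := by
  letI alg : Algebra (W.presheaf.stalk (r (r.fiberι y₀ v))) (T.presheaf.stalk (r.fiberι y₀ v)) :=
    (r.stalkMap (r.fiberι y₀ v)).hom.toAlgebra
  haveI : IsLocalHom (algebraMap (W.presheaf.stalk (r (r.fiberι y₀ v))) (T.presheaf.stalk (r.fiberι y₀ v))) :=
    inferInstanceAs (IsLocalHom (r.stalkMap (r.fiberι y₀ v)).hom)
  haveI : Module.Flat (W.presheaf.stalk (r (r.fiberι y₀ v))) (T.presheaf.stalk (r.fiberι y₀ v)) := hfl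
  letI alg2 : Algebra (T.presheaf.stalk (r.fiberι y₀ v)) ((r.fiber y₀).presheaf.stalk v) :=
    ((r.fiberι y₀).stalkMap v).hom.toAlgebra
  have hs : Function.Surjective
      (algebraMap (T.presheaf.stalk (r.fiberι y₀ v)) ((r.fiber y₀).presheaf.stalk v)) :=
    (r.fiberι y₀).stalkMap_surjective v
  have hker : RingHom.ker (algebraMap (T.presheaf.stalk (r.fiberι y₀ v)) ((r.fiber y₀).presheaf.stalk v)) =
      Ideal.map (algebraMap (W.presheaf.stalk (r (r.fiberι y₀ v))) (T.presheaf.stalk (r.fiberι y₀ v)))
        (maximalIdeal (W.presheaf.stalk (r (r.fiberι y₀ v)))) :=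
    Groth.Agent.Lib.Helper10.FibStalk.ker_eq_map r y₀ v
  rw [length_self_of_flat (W.presheaf.stalk (r (r.fiberι y₀ v))) (T.presheaf.stalk (r.fiberι y₀ v)),
    length_self_of_surjective _ _ hs, hker]

theorem isField_stalk_of_forall_specializes {V : Scheme.{u}} [IsReduced V] (v : V)
    (h : ∀ z : V, z ⤳ v → z = v) : IsField (V.presheaf.stalk v) := by
  rw [← PrimeSpectrum.subsingleton_iff_isField_of_isReduced]
  refine ⟨fun p q => ?_⟩
  apply (V.fromSpecStalk v).isEmbedding.injective
  have hp : V.fromSpecStalk v p ∈ {y | y ⤳ v} := by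
    rw [← Scheme.range_fromSpecStalk]
    exact ⟨p, rfl⟩
  have hq : V.fromSpecStalk v q ∈ {y | y ⤳ v} := by
    rw [← Scheme.range_fromSpecStalk]
    exact ⟨q, rfl⟩
  rw [h _ hp, h _ hq]

theorem length_stalk_fiber_eq_one {T W : Scheme.{u}} (r : T ⟶ W) (y₀ : W) [IsReduced (r.fiber y₀)]
    (v : r.fiber y₀) (h : ∀ z : T, z ⤳ r.fiberι y₀ v → z = r.fiberι y₀ v) :
    Module.length ((r.fiber y₀).presheaf.stalk v) ((r.fiber y₀).presheaf.stalk v) = 1 := by
  apply length_self_eq_one_of_isField
  apply isField_stalk_of_forall_specializes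
  intro z hz
  exact (r.fiberι y₀).isEmbedding.injective (h _ (hz.map (r.fiberι y₀).continuous))

end Geo

section BC

variable {k' k'' : Type u} [Field k'] [Field k''] [Algebra k' k''] {X' : Scheme.{u}}
  (σ : X' ⟶ Spec (CommRingCat.of k'))

theorem length_stalk_bc_eq_of_geometricallyReduced
    [GeometricallyReduced (Spec.map (CommRingCat.ofHom (algebraMap k' k'')))]
    (x'' : ↥(FBase.bc σ k'')) (hx'' : ∀ z : ↥(FBase.bc σ k''), z ⤳ x'' → z = x'') :
    Module.length ((FBase.bc σ k'').presheaf.stalk x'') ((FBase.bc σ k'').presheaf.stalk x'') =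
      Module.length (X'.presheaf.stalk (FBase.bcπ σ k'' x'')) (X'.presheaf.stalk (FBase.bcπ σ k'' x'')) := by
  obtain ⟨v, hv⟩ := exists_fiber_point' (FBase.bcπ σ k'') (FBase.bcπ σ k'' x'') x'' rfl
  haveI : Flat (FBase.bcπ σ k'') := flat_fst_field σ
  haveI : GeometricallyReduced (FBase.bcπ σ k'') :=
    inferInstanceAs (GeometricallyReduced (pullback.fst σ (Spec.map (CommRingCat.ofHom (algebraMap k' k'')))))
  have h1 := length_stalk_eq_mul_length_stalk_fiber (FBase.bcπ σ k'') _ v (Flat.stalkMap _ _)
  have h2 := length_stalk_fiber_eq_one (FBase.bcπ σ k'') _ v (by rw [hv]; exact hx'')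
  rw [h2, mul_one, hv] at h1
  exact h1

end BC

end Groth.Agent.Lib.T2H6.LenBC
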