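import Mathlib
import Groth.Agent.Lib.T2H6LenBC

/-!
# Lengths of local rings along base change, II (helper6)

* `exists_length_fiber_common`: for a cartesian square with `g` surjective on stalks and `f` flat, the local rings of `P` and
  `X` at corresponding points have lengths `ℓ(O_{Y}) · ℓ` and `ℓ(O_{Z}) · ℓ` for a common `ℓ ≠ 0`.
* `length_stalk_bc_eq_mul`: the formula `ℓ(O_{X″,x″}) = ℓ(O_{X′,x′}) · ℓ(O_{Z″,z″})` with `Z″ = (X′)_red ⊗ k″`.
-/

set_option autoImplicit false
set_option linter.style.haveILetI false
set_option linter.unusedSectionVars false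
universe u
open CategoryTheory CategoryTheory.Limits AlgebraicGeometry Opposite TopologicalSpace TensorProduct

namespace Groth.Agent.Lib.T2H6.LenBC

open IsLocalRing Groth.Agent.Lib.T2H6.FibBC Groth.Agent.Lib.T2H6.FieldTens

section Ring

theorem length_self_of_bijective {R S : Type u} [CommRing R] [CommRing S] (φ : R →+* S)
    (hφ : Function.Bijective φ) : Module.length R R = Module.length S S := by
  letI := φ.toAlgebra
  rw [← Module.length_eq_of_surjective (S := R) (R := S) (M := S) hφ.2]
  exact (LinearEquiv.ofBijective (Algebra.linearMap R S) hφ).length_eq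

/-- a reduced local quotient of a local ring of finite length has length one. -/
theorem length_self_eq_one_of_surjective_of_isReduced {A A₁ : Type u} [CommRing A] [CommRing A₁]
    [IsLocalRing A₁] [IsReduced A₁] (φ : A →+* A₁) (hφ : Function.Surjective φ)
    (hA : Module.length A A ≠ ⊤) : Module.length A₁ A₁ = 1 := by
  rw [Module.length_ne_top_iff, isFiniteLength_iff_isNoetherian_isArtinian] at hA
  haveI : IsArtinianRing A := hA.2
  haveI : IsArtinianRing A₁ := hφ.isArtinianRing
  exact length_self_eq_one_of_isField A₁ (IsArtinianRing.isField_of_isReduced_of_isLocalRing A₁)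

end Ring

section Sq

variable {P X Y Z : Scheme.{u}} {fst : P ⟶ X} {snd : P ⟶ Y} {f : X ⟶ Z} {g : Y ⟶ Z}

theorem exists_length_fiber_common (h : IsPullback fst snd f g) [Flat f] [SurjectiveOnStalks g] (w : P) :
    ∃ ℓ : ℕ∞, ℓ ≠ 0 ∧
      Module.length (P.presheaf.stalk w) (P.presheaf.stalk w) =
        Module.length (Y.presheaf.stalk (snd w)) (Y.presheaf.stalk (snd w)) * ℓ ∧
      Module.length (X.presheaf.stalk (fst w)) (X.presheaf.stalk (fst w)) =
        Module.length (Z.presheaf.stalk (f (fst w))) (Z.presheaf.stalk (f (fst w))) * ℓ := by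
  obtain ⟨v, hv⟩ := exists_fiber_point' snd (snd w) w rfl
  haveI : Flat snd := MorphismProperty.of_isPullback (P := @Flat) h ‹_›
  haveI := Groth.Agent.Lib.Helper10.FibCI.isIso_residueFieldMap_of_surjectiveOnStalks g (snd w)
  haveI : IsIso (Spec.map (g.residueFieldMap (snd w))) := inferInstance
  haveI : IsIso (fibMap h (snd w)) :=
    MorphismProperty.of_isPullback (P := MorphismProperty.isomorphisms Scheme.{u})
      (isPullback_fibMap h (snd w)).flip ‹_›
  have h1 := length_stalk_eq_mul_length_stalk_fiber snd (snd w) v (Flat.stalkMap snd _)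
  have h2 := length_stalk_eq_mul_length_stalk_fiber f (g (snd w)) (fibMap h (snd w) v) (Flat.stalkMap f _)
  have hpt : f.fiberι (g (snd w)) (fibMap h (snd w) v) = fst w := by
    rw [← Scheme.Hom.comp_apply, fibMap_fiberι, Scheme.Hom.comp_apply, hv]
  have h3 : Module.length ((f.fiber (g (snd w))).presheaf.stalk (fibMap h (snd w) v))
      ((f.fiber (g (snd w))).presheaf.stalk (fibMap h (snd w) v)) =
      Module.length ((snd.fiber (snd w)).presheaf.stalk v) ((snd.fiber (snd w)).presheaf.stalk v) :=
    length_self_of_bijective ((fibMap h (snd w)).stalkMap v).hom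
      (ConcreteCategory.bijective_of_isIso ((fibMap h (snd w)).stalkMap v))
  rw [hv] at h1
  rw [hpt, h3] at h2
  exact ⟨_, (Module.length_pos (R := (snd.fiber (snd w)).presheaf.stalk v)
    (M := (snd.fiber (snd w)).presheaf.stalk v)).ne', h1, h2⟩

end Sq

section BC

variable {k' k'' : Type u} [Field k'] [Field k''] [Algebra k' k''] {X' : Scheme.{u}}
  (σ : X' ⟶ Spec (CommRingCat.of k'))

/-- the canonical closed immersion `(X′)_red ⊗ k″ → X′ ⊗ k″`. -/
noncomputable abbrev redMap :
    pullback (X'.nilradical.subschemeι ≫ σ) (Spec.map (CommRingCat.ofHom (algebraMap k' k''))) ⟶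
      pullback σ (Spec.map (CommRingCat.ofHom (algebraMap k' k''))) :=
  pullback.map (X'.nilradical.subschemeι ≫ σ)
    (Spec.map (CommRingCat.ofHom (algebraMap k' k''))) σ
    (Spec.map (CommRingCat.ofHom (algebraMap k' k''))) X'.nilradical.subschemeι (𝟙 _) (𝟙 _)
    (Category.comp_id _) ((Category.comp_id _).trans (Category.id_comp _).symm)

theorem isPullback_redMap :
    IsPullback (redMap (k'' := k'') σ)
      (pullback.fst (X'.nilradical.subschemeι ≫ σ) (Spec.map (CommRingCat.ofHom (algebraMap k' k''))))
      (pullback.fst σ (Spec.map (CommRingCat.ofHom (algebraMap k' k'')))) X'.nilradical.subschemeι := by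
  have t : IsPullback (pullback.snd σ (Spec.map (CommRingCat.ofHom (algebraMap k' k''))))
      (pullback.fst σ (Spec.map (CommRingCat.ofHom (algebraMap k' k''))))
      (Spec.map (CommRingCat.ofHom (algebraMap k' k''))) σ := (IsPullback.of_hasPullback _ _).flip
  have e : redMap (k'' := k'') σ ≫ pullback.snd σ (Spec.map (CommRingCat.ofHom (algebraMap k' k''))) =
      pullback.snd (X'.nilradical.subschemeι ≫ σ) (Spec.map (CommRingCat.ofHom (algebraMap k' k''))) := by
    exact (pullback.lift_snd _ _ _).trans (Category.comp_id _)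
  have s : IsPullback (redMap (k'' := k'') σ ≫ pullback.snd σ (Spec.map (CommRingCat.ofHom (algebraMap k' k''))))
      (pullback.fst (X'.nilradical.subschemeι ≫ σ) (Spec.map (CommRingCat.ofHom (algebraMap k' k''))))
      (Spec.map (CommRingCat.ofHom (algebraMap k' k''))) (X'.nilradical.subschemeι ≫ σ) := by
    rw [e]
    exact (IsPullback.of_hasPullback _ _).flip
  exact IsPullback.of_right s (pullback.lift_fst _ _ _) t

theorem length_stalk_bc_eq_mul (z'' : ↥(FBase.bc (X'.nilradical.subschemeι ≫ σ) k'')) :
    Module.length ((FBase.bc σ k'').presheaf.stalk (redMap σ z''))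
        ((FBase.bc σ k'').presheaf.stalk (redMap σ z'')) =
      Module.length (X'.presheaf.stalk (FBase.bcπ σ k'' (redMap σ z'')))
          (X'.presheaf.stalk (FBase.bcπ σ k'' (redMap σ z''))) *
        Module.length ((FBase.bc (X'.nilradical.subschemeι ≫ σ) k'').presheaf.stalk z'')
          ((FBase.bc (X'.nilradical.subschemeι ≫ σ) k'').presheaf.stalk z'') := by
  haveI : Flat (pullback.fst σ (Spec.map (CommRingCat.ofHom (algebraMap k' k'')))) := flat_fst_field σ
  obtain ⟨ℓ, hℓ, h1, h2⟩ := exists_length_fiber_common (isPullback_redMap (k'' := k'') σ) z''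
  have h2' : Module.length ((FBase.bc σ k'').presheaf.stalk (redMap σ z''))
        ((FBase.bc σ k'').presheaf.stalk (redMap σ z'')) =
      Module.length (X'.presheaf.stalk (FBase.bcπ σ k'' (redMap σ z'')))
          (X'.presheaf.stalk (FBase.bcπ σ k'' (redMap σ z''))) * ℓ := h2
  have h1' : Module.length ((FBase.bc (X'.nilradical.subschemeι ≫ σ) k'').presheaf.stalk z'')
          ((FBase.bc (X'.nilradical.subschemeι ≫ σ) k'').presheaf.stalk z'') =
      Module.length (X'.nilradical.subscheme.presheaf.stalk
        (pullback.fst (X'.nilradical.subschemeι ≫ σ) (Spec.map (CommRingCat.ofHom (algebraMap k' k''))) z''))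
        (X'.nilradical.subscheme.presheaf.stalk
        (pullback.fst (X'.nilradical.subschemeι ≫ σ) (Spec.map (CommRingCat.ofHom (algebraMap k' k''))) z'')) *
        ℓ := h1
  rw [h2', h1']
  by_cases ha : Module.length (X'.presheaf.stalk (FBase.bcπ σ k'' (redMap σ z'')))
      (X'.presheaf.stalk (FBase.bcπ σ k'' (redMap σ z''))) = ⊤
  · rw [ha, ENat.top_mul hℓ, ENat.top_mul]
    exact mul_ne_zero (Module.length_pos (R := X'.nilradical.subscheme.presheaf.stalk _)
      (M := X'.nilradical.subscheme.presheaf.stalk _)).ne' hℓ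
  · have hpt : FBase.bcπ σ k'' (redMap σ z'') = X'.nilradical.subschemeι
        (pullback.fst (X'.nilradical.subschemeι ≫ σ) (Spec.map (CommRingCat.ofHom (algebraMap k' k''))) z'') := by
      show (pullback.fst σ (Spec.map (CommRingCat.ofHom (algebraMap k' k'')))) (redMap σ z'') = _
      rw [← Scheme.Hom.comp_apply, ← Scheme.Hom.comp_apply, (isPullback_redMap (k'' := k'') σ).w]
    rw [hpt] at ha
    rw [length_self_eq_one_of_surjective_of_isReduced
      (X'.nilradical.subschemeι.stalkMap _).hom (X'.nilradical.subschemeι.stalkMap_surjective _) ha, one_mul]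

end BC

end Groth.Agent.Lib.T2H6.LenBC
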