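import Mathlib
import Groth.Agent.Lib.T2H6LenBC2
import Groth.Agent.Lib.Helper14GeomRed

/-!
# Reduced modules and base field extension (helper6)

For a `k`-scheme `X`, a coherent module `F` on `X` and a cartesian square `X' = X ×_k Spec K`:
`F ⊗_k K` is a reduced module iff `F` is and the residue fields `κ(x)`, `x ∈ Ass F`, stay reduced after `⊗_k K`.
-/

set_option autoImplicit false
set_option linter.style.haveILetI false
set_option linter.unusedSectionVars false
universe u
open CategoryTheory CategoryTheory.Limits AlgebraicGeometry Opposite TopologicalSpace TensorProduct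

namespace Groth.Agent.Lib.T2H6.GeomRedMod

open IsLocalRing Groth.Agent.Lib.T2H6.FibBC Groth.Agent.Lib.T2H6.FieldTens Groth.Agent.Lib.T2H6.LenBC
open Groth.Agent.Lib.T2H8.StalkRestrict Groth.Agent.Lib.T2H6.FlatAss

section Iso

variable {X : Scheme.{u}}

theorem isReducedMod_iff_of_iso {M N : X.Modules} (e : M ≅ N) :
    AssSch.IsReducedMod M ↔ AssSch.IsReducedMod N := by
  unfold AssSch.IsReducedMod
  rw [noEmbedded_iff_of_iso e, ass_eq_of_iso e]
  refine and_congr Iff.rfl (forall_congr' fun x => forall_congr' fun _ => ?_)
  rw [(stalkEquivOfIso e x).length_eq]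

end Iso

section Ring

theorem isField_of_isReduced_of_isAssociatedPrime (R : Type u) [CommRing R] [IsLocalRing R] [IsNoetherianRing R]
    [IsReduced R] (h : IsAssociatedPrime (maximalIdeal R) R) : IsField R := by
  rw [isAssociatedPrime_maximalIdeal_iff_exists] at h
  obtain ⟨a, ha0, ha⟩ := h
  have hau : IsUnit a := by
    by_contra hna
    have ham : a ∈ maximalIdeal R := (mem_maximalIdeal a).2 (mem_nonunits_iff.2 hna)
    have h2 : a * a = 0 := ha a ham
    exact ha0 (IsReduced.eq_zero a ⟨2, by rw [pow_two]; exact h2⟩)
  rw [IsLocalRing.isField_iff_maximalIdeal_eq]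
  rw [eq_bot_iff]
  intro b hb
  have h2 : b * a = 0 := ha b hb
  exact (Submodule.mem_bot R).2 (hau.mul_left_eq_zero.1 h2)

theorem isReduced_of_length_eq_one (R : Type u) [CommRing R] (h : Module.length R R = 1) : IsReduced R := by
  rw [Module.length_eq_one_iff, isSimpleModule_self_iff_isUnit] at h
  obtain ⟨hnt, hu⟩ := h
  refine ⟨fun x ⟨n, hn⟩ => ?_⟩
  by_contra hx
  have := (hu x hx).pow n
  rw [hn] at this
  exact not_isUnit_zero this

end Ring

section Sch

variable {V : Scheme.{u}}

/-- a reduced scheme with Noetherian local rings and no embedded points has a reduced structure sheaf (as a module). -/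
theorem isReducedMod_structureModule_of_isReduced [IsReduced V]
    (hN : ∀ v : V, IsNoetherianRing (V.presheaf.stalk v))
    (hne : AssSch.NoEmbedded (Coh.structureModule V)) : AssSch.IsReducedMod (Coh.structureModule V) := by
  refine ⟨hne, fun v hv => ?_⟩
  rw [← (Groth.Agent.Lib.Helper23.UnitStalk.unitStalkEquiv v).length_eq]
  apply length_self_eq_one_of_isField
  haveI := hN v
  exact isField_of_isReduced_of_isAssociatedPrime _
    ((Groth.Agent.Lib.Helper23.UnitStalk.isAssPoint_structureModule_iff v).1 hv)

/-- on a `T1` scheme with Noetherian local rings, a reduced structure sheaf (as a module) means the scheme is reduced. -/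
theorem isReduced_of_isReducedMod_structureModule [T1Space V]
    (hN : ∀ v : V, IsNoetherianRing (V.presheaf.stalk v))
    (h : AssSch.IsReducedMod (Coh.structureModule V)) : IsReduced V := by
  haveI : ∀ v : V, _root_.IsReduced (V.presheaf.stalk v) := fun v => by
    haveI := hN v
    have hass : IsAssociatedPrime (maximalIdeal (V.presheaf.stalk v)) (V.presheaf.stalk v) := by
      obtain ⟨p, hp⟩ := associatedPrimes.nonempty (V.presheaf.stalk v) (V.presheaf.stalk v)
      have hp' : IsAssociatedPrime p (V.presheaf.stalk v) := hp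
      haveI := hp'.isPrime
      have hpt : (⟨p, hp'.isPrime⟩ : PrimeSpectrum (V.presheaf.stalk v)) = closedPoint _ := by
        apply (V.fromSpecStalk v).isEmbedding.injective
        have h1 : V.fromSpecStalk v ⟨p, hp'.isPrime⟩ ∈ {y | y ⤳ v} := by
          rw [← Scheme.range_fromSpecStalk]
          exact ⟨_, rfl⟩
        rw [Scheme.fromSpecStalk_closedPoint]
        exact (Specializes.eq h1)
      have : p = maximalIdeal (V.presheaf.stalk v) := congrArg PrimeSpectrum.asIdeal hpt
      rw [← this]
      exact hp'
    have hlen := h.2 v ((Groth.Agent.Lib.Helper23.UnitStalk.isAssPoint_structureModule_iff v).2 hass)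
    rw [← (Groth.Agent.Lib.Helper23.UnitStalk.unitStalkEquiv v).length_eq] at hlen
    exact isReduced_of_length_eq_one _ hlen
  exact isReduced_of_isReduced_stalk V

end Sch

section Sq

variable {k : Type u} [Field k] {X : Scheme.{u}} (f : X ⟶ Spec (CommRingCat.of k))

/-- the structure map `k → κ(x)` of the residue field of a `k`-scheme. -/
noncomputable def resHom (x : X) : CommRingCat.of k ⟶ X.residueField x :=
  Spec.preimage (X.fromSpecResidueField x ≫ f)

theorem Spec_map_resHom (x : X) : Spec.map (resHom f x) = X.fromSpecResidueField x ≫ f :=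
  Spec.map_preimage _

/-- the `k`-algebra structure on the residue field of a `k`-scheme. -/
@[reducible] noncomputable def resAlg (x : X) : Algebra k (X.residueField x) := (resHom f x).hom.toAlgebra

variable {K : Type u} [Field K] [Algebra k K] {X' : Scheme.{u}} {π : X' ⟶ X} {b : X' ⟶ Spec (CommRingCat.of K)}
  (hsq : IsPullback π b f (Spec.map (CommRingCat.ofHom (algebraMap k K))))

include hsq

theorem flat_of_sq : Flat π :=
  MorphismProperty.of_isPullback (P := @Flat) hsq.flip flat_SpecMap_field

theorem surjective_of_sq : Surjective π :=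
  MorphismProperty.of_isPullback (P := @Surjective) hsq.flip surjective_SpecMap_field

theorem isPullback_fiber_sq (x : X) :
    IsPullback (π.fiberToSpecResidueField x) (π.fiberι x ≫ b) (Spec.map (resHom f x))
      (Spec.map (CommRingCat.ofHom (algebraMap k K))) := by
  rw [Spec_map_resHom]
  exact ((IsPullback.of_hasPullback π (X.fromSpecResidueField x)).paste_horiz hsq.flip).flip

theorem noEmbedded_fiber_sq (x : X) : AssSch.NoEmbedded (Coh.structureModule (π.fiber x)) :=
  noEmbedded_of_isPullback_Spec_fields' (k := k) (K := ↑(X.residueField x)) (L := K) _ _ _ _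
    (isPullback_fiber_sq f hsq x)

/-- the fibre of `X' → X` over `x` is `Spec (κ(x) ⊗_k K)`. -/
theorem exists_fiberIso (x : X) :
    letI := resAlg f x
    Nonempty (π.fiber x ≅ Spec (CommRingCat.of (↑(X.residueField x) ⊗[k] K))) := by
  letI := resAlg f x
  exact ⟨(isPullback_fiber_sq f hsq x).isoPullback ≪≫ pullbackSpecIso k ↑(X.residueField x) K⟩

theorem isReduced_fiber_iff (x : X) :
    letI := resAlg f x
    IsReduced (π.fiber x) ↔ _root_.IsReduced (↑(X.residueField x) ⊗[k] K) := by
  letI := resAlg f x
  obtain ⟨e⟩ := exists_fiberIso f hsq x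
  rw [← affine_isReduced_iff (CommRingCat.of (↑(X.residueField x) ⊗[k] K))]
  constructor
  · intro h
    exact isReduced_of_isOpenImmersion e.inv
  · intro h
    exact isReduced_of_isOpenImmersion e.hom

theorem t1Space_fiber_of_finite [FiniteDimensional k K] (x : X) : T1Space (π.fiber x) := by
  letI := resAlg f x
  obtain ⟨e⟩ := exists_fiberIso f hsq x
  haveI : IsArtinianRing (↑(X.residueField x) ⊗[k] K) := IsArtinianRing.of_finite (X.residueField x) _
  haveI : DiscreteTopology (PrimeSpectrum (↑(X.residueField x) ⊗[k] K)) := inferInstance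
  haveI : T1Space ↥(Spec (CommRingCat.of (↑(X.residueField x) ⊗[k] K))) :=
    inferInstanceAs (T1Space (PrimeSpectrum (↑(X.residueField x) ⊗[k] K)))
  exact e.hom.isOpenEmbedding.isEmbedding.t1Space

end Sq

section Main

variable {k : Type u} [Field k] {X : Scheme.{u}} (f : X ⟶ Spec (CommRingCat.of k)) [IsLocallyNoetherian X]

theorem sqBc (K : Type u) [Field K] [Algebra k K] :
    IsPullback (FBase.bcπ f K) (FBase.bcStr f K) f (Spec.map (CommRingCat.ofHom (algebraMap k K))) :=
  IsPullback.of_hasPullback f _

theorem locallyOfFiniteType_SpecMap_of_finite (K : Type u) [Field K] [Algebra k K] [FiniteDimensional k K] :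
    LocallyOfFiniteType (Spec.map (CommRingCat.ofHom (algebraMap k K))) := by
  rw [HasRingHomProperty.Spec_iff (P := @LocallyOfFiniteType), CommRingCat.hom_ofHom,
    RingHom.finiteType_algebraMap]
  infer_instance

theorem isLocallyNoetherian_bc_of_finite (K : Type u) [Field K] [Algebra k K] [FiniteDimensional k K] :
    IsLocallyNoetherian (FBase.bc f K) := by
  haveI := locallyOfFiniteType_SpecMap_of_finite (k := k) K
  haveI : LocallyOfFiniteType (FBase.bcπ f K) :=
    MorphismProperty.pullback_fst (P := @LocallyOfFiniteType) _ _ inferInstance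
  exact LocallyOfFiniteType.isLocallyNoetherian (FBase.bcπ f K)

variable {K : Type u} [Field K] [Algebra k K] {X' : Scheme.{u}} {π : X' ⟶ X} {b : X' ⟶ Spec (CommRingCat.of K)}
  (hsq : IsPullback π b f (Spec.map (CommRingCat.ofHom (algebraMap k K)))) [IsLocallyNoetherian X']

include hsq

theorem isReducedMod_pullback_iff (F : X.Modules) :
    AssSch.IsReducedMod ((Scheme.Modules.pullback π).obj F) ↔
      ∀ x ∈ AssSch.Ass F, (∀ x' ∈ AssSch.Ass F, x' ⤳ x → x' = x) ∧
        Module.length (X.presheaf.stalk x) (F.presheaf.stalk x) = 1 ∧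
        AssSch.IsReducedMod (Coh.structureModule (π.fiber x)) := by
  haveI := flat_of_sq f hsq
  have hcoh : Coh.IsCoh (Coh.structureModule X') := Groth.Agent.Lib.T2H5.GenIsoF.isCoh_structureModule
  have hfl : FlatMod.IsFlatOver π (Coh.structureModule X') :=
    Groth.Agent.Lib.T2H9.InvFlat.isFlatOver_of_isInvertible _ _
      (Groth.Agent.Lib.Helper23.TensorUnit.isInvertible_structureModule _)
  rw [← isReducedMod_iff_of_iso
    (Groth.Agent.Lib.Helper23.TensorUnit.tensorUnitIso ((Scheme.Modules.pullback π).obj F)),
    isReducedMod_tensor_iff π F _ hcoh hfl]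
  constructor
  · intro h x hx
    obtain ⟨z, hz⟩ := (surjective_of_sq f hsq).surj x
    have hz' : z ∈ CohB1.support (Coh.structureModule X') := fun hsub => not_subsingleton _ hsub
    obtain ⟨h1, h2, h3⟩ := h x ⟨hx, z, hz', hz⟩
    exact ⟨h1, h2, (isReducedMod_iff_of_iso (Groth.Agent.Lib.Helper23.PB.pullbackUnitIso (π.fiberι x))).1 h3⟩
  · rintro h x ⟨hx, -⟩
    obtain ⟨h1, h2, h3⟩ := h x hx
    exact ⟨h1, h2, (isReducedMod_iff_of_iso (Groth.Agent.Lib.Helper23.PB.pullbackUnitIso (π.fiberι x))).2 h3⟩

/-- a module which stays reduced after all finite purely inseparable extensions stays reduced after any field extension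
(for which the base change is locally Noetherian). -/
theorem isReducedMod_pullback_of_forall_finite_purelyInseparable (F : X.Modules)
    (H : ∀ (k' : Type u) [Field k'] [Algebra k k'] [FiniteDimensional k k'] [IsPurelyInseparable k k'],
        AssSch.IsReducedMod ((Scheme.Modules.pullback (FBase.bcπ f k')).obj F)) :
    AssSch.IsReducedMod ((Scheme.Modules.pullback π).obj F) := by
  rw [isReducedMod_pullback_iff f hsq]
  intro x hx
  haveI := isLocallyNoetherian_bc_of_finite f k
  have hk := (isReducedMod_pullback_iff f (sqBc f k) F).1 (H k) x hx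
  refine ⟨hk.1, hk.2.1, ?_⟩
  letI := resAlg f x
  haveI : Algebra.IsGeometricallyReduced k (X.residueField x) := by
    apply Groth.Agent.Lib.Helper14.GeomRed.isGeometricallyReduced_of_forall_finite_purelyInseparable
    intro k' _ _ _ _
    haveI := isLocallyNoetherian_bc_of_finite f k'
    have h1 := ((isReducedMod_pullback_iff f (sqBc f k') F).1 (H k') x hx).2.2
    haveI := t1Space_fiber_of_finite f (sqBc f k') x
    have h2 : IsReduced ((FBase.bcπ f k').fiber x) :=
      isReduced_of_isReducedMod_structureModule
        (fun v => Groth.Agent.Lib.T2H6.AssFibProd.isNoetherianRing_stalk_fiber _ x v) h1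
    have h3 := (isReduced_fiber_iff f (sqBc f k') x).1 h2
    exact isReduced_of_injective (Algebra.TensorProduct.comm k k' (X.residueField x))
      (Algebra.TensorProduct.comm k k' (X.residueField x)).injective
  have h4 : _root_.IsReduced (K ⊗[k] ↑(X.residueField x)) :=
    Groth.Agent.Lib.Helper14.GeomRed.isReduced_tensor_of_isGeometricallyReduced K
  have h5 : _root_.IsReduced (↑(X.residueField x) ⊗[k] K) :=
    isReduced_of_injective (Algebra.TensorProduct.comm k (X.residueField x) K)
      (Algebra.TensorProduct.comm k (X.residueField x) K).injective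
  haveI : IsReduced (π.fiber x) := (isReduced_fiber_iff f hsq x).2 h5
  exact isReducedMod_structureModule_of_isReduced
    (fun v => Groth.Agent.Lib.T2H6.AssFibProd.isNoetherianRing_stalk_fiber π x v) (noEmbedded_fiber_sq f hsq x)

end Main

end Groth.Agent.Lib.T2H6.GeomRedMod
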