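import Mathlib
import Groth.Agent.Lib.T2H6GeomRedMod
import Groth.Agent.Lib.T2H6FibreLN
import Groth.Agent.Lib.T2H9Bridge2
import Groth.Agent.Lib.T2H5GenIsoD

/-!
# Tensor products over a field of a geometrically reduced module and a reduced module (helper6)
-/

set_option autoImplicit false
set_option linter.style.haveILetI false
set_option linter.unusedSectionVars false
universe u
open CategoryTheory CategoryTheory.Limits AlgebraicGeometry Opposite TopologicalSpace TensorProduct

namespace Groth.Agent.Lib.T2H6.GeomRedMod

open IsLocalRing Groth.Agent.Lib.T2H6.FibBC Groth.Agent.Lib.T2H6.FieldTens Groth.Agent.Lib.T2H6.LenBC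
open Groth.Agent.Lib.T2H8.StalkRestrict Groth.Agent.Lib.T2H6.FlatAss

section Flat

theorem flat_of_isField (A M : Type u) [CommRing A] [AddCommGroup M] [Module A M] (h : IsField A) :
    Module.Flat A M := by
  letI := h.toField
  exact inferInstance

variable {k : Type u} [Field k] {X : Scheme.{u}} (f : X ⟶ Spec (CommRingCat.of k))

/-- every module on a scheme over a field is flat over the field. -/
theorem isFlatOver_of_field (F : X.Modules) : FlatMod.IsFlatOver f F := by
  intro x
  unfold FlatMod.IsFlatOverAt
  letI := FlatMod.moduleStalkOver f F x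
  exact flat_of_isField _ _ (isField_stalk_of_forall_specializes (V := Spec (CommRingCat.of k)) (f x)
    (fun z _ => Subsingleton.elim (α := PrimeSpectrum k) z (f x)))

end Flat

section Main

variable {k : Type u} [Field k] {X Y : Scheme.{u}} [IsLocallyNoetherian X] [IsLocallyNoetherian Y]
  (f : X ⟶ Spec (CommRingCat.of k)) (g : Y ⟶ Spec (CommRingCat.of k)) [IsLocallyNoetherian (pullback f g)]

theorem isPullback_fiber_snd (y : Y) :
    letI := resAlg g y
    IsPullback ((pullback.snd f g).fiberι y ≫ pullback.fst f g) ((pullback.snd f g).fiberToSpecResidueField y) f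
      (Spec.map (CommRingCat.ofHom (algebraMap k (Y.residueField y)))) := by
  letI := resAlg g y
  have h1 := (IsPullback.of_hasPullback (pullback.snd f g) (Y.fromSpecResidueField y)).paste_horiz
    (IsPullback.of_hasPullback f g)
  rw [← Spec_map_resHom] at h1
  exact h1

theorem isReducedMod_tensor_of_geomReduced (F : X.Modules) (hF : Coh.IsCoh F) (G : Y.Modules)
    (hFgr : ∀ (k' : Type u) [Field k'] [Algebra k k'] [FiniteDimensional k k'] [IsPurelyInseparable k k'],
      AssSch.IsReducedMod ((Scheme.Modules.pullback (FBase.bcπ f k')).obj F))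
    (hGr : AssSch.IsReducedMod G) :
    AssSch.IsReducedMod (CohB1.tensorMod ((Scheme.Modules.pullback (pullback.fst f g)).obj F)
      ((Scheme.Modules.pullback (pullback.snd f g)).obj G)) := by
  haveI := hF.1
  rw [isReducedMod_iff_of_iso (Groth.Agent.Lib.T2H9.Bridge.tensorModComm _ _)]
  have hcoh : Coh.IsCoh ((Scheme.Modules.pullback (pullback.fst f g)).obj F) :=
    Groth.Agent.Lib.T2H5.GenIsoD.isCoh_pullback _ F hF
  have hflat : FlatMod.IsFlatOver (pullback.snd f g) ((Scheme.Modules.pullback (pullback.fst f g)).obj F) :=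
    fun z => Groth.Agent.Lib.Helper2.PullbackSec.isFlatOverAt_pullback_of_isPullback
      (IsPullback.of_hasPullback f g) F z (isFlatOver_of_field f F _)
  rw [isReducedMod_tensor_iff (pullback.snd f g) G _ hcoh hflat]
  rintro y ⟨hy, -⟩
  refine ⟨fun y' hy' hsp => (hGr.1 y hy y' hy' hsp).symm, hGr.2 y hy, ?_⟩
  letI := resAlg g y
  haveI : IsLocallyNoetherian ((pullback.snd f g).fiber y) :=
    Groth.Agent.Lib.T2H6.FibreLN.isLocallyNoetherian_fiber _ y
  have e : (Scheme.Modules.pullback ((pullback.snd f g).fiberι y)).obj
      ((Scheme.Modules.pullback (pullback.fst f g)).obj F) ≅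
      (Scheme.Modules.pullback ((pullback.snd f g).fiberι y ≫ pullback.fst f g)).obj F :=
    (Scheme.Modules.pullbackComp ((pullback.snd f g).fiberι y) (pullback.fst f g)).app F
  exact (isReducedMod_iff_of_iso e).2
    (isReducedMod_pullback_of_forall_finite_purelyInseparable (K := ↑(Y.residueField y)) f
      (isPullback_fiber_snd f g y) F hFgr)

end Main

end Groth.Agent.Lib.T2H6.GeomRedMod
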