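import Mathlib
import Groth.Agent.Lib.T2H6GeomRedMod2

/-!
# Integral modules and base field extension (helper6)

A module is *integral* if it has exactly one associated point and its stalk there has length one.
`F ⊗_k k'` integral for all finite `k'` iff `F ⊗_k K` integral for all `K`.
-/

set_option autoImplicit false
set_option linter.style.haveILetI false
set_option linter.unusedSectionVars false
universe u
open CategoryTheory CategoryTheory.Limits AlgebraicGeometry Opposite TopologicalSpace TensorProduct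

namespace Groth.Agent.Lib.T2H6.GeomRedMod

open IsLocalRing Groth.Agent.Lib.T2H6.FibBC Groth.Agent.Lib.T2H6.FieldTens Groth.Agent.Lib.T2H6.LenBC
open Groth.Agent.Lib.T2H8.StalkRestrict Groth.Agent.Lib.T2H6.FlatAss

section Sch

variable {V : Scheme.{u}}

/-- on a `T1` scheme with Noetherian local rings every point is associated. -/
theorem isAssPoint_structureModule_of_t1 [T1Space V] (hN : ∀ v : V, IsNoetherianRing (V.presheaf.stalk v))
    (v : V) : Curv2.IsAssPoint (Coh.structureModule V) v := by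
  rw [Groth.Agent.Lib.Helper23.UnitStalk.isAssPoint_structureModule_iff]
  haveI := hN v
  obtain ⟨p, hp⟩ := associatedPrimes.nonempty (V.presheaf.stalk v) (V.presheaf.stalk v)
  have hp' : IsAssociatedPrime p (V.presheaf.stalk v) := hp
  haveI := hp'.isPrime
  have hpt : (⟨p, hp'.isPrime⟩ : PrimeSpectrum (V.presheaf.stalk v)) = closedPoint _ := by
    apply (V.fromSpecStalk v).isEmbedding.injective
    have h1 : V.fromSpecStalk v ⟨p, hp'.isPrime⟩ ∈ {y | y ⤳ v} := by
      rw [← Scheme.range_fromSpecStalk]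
      exact ⟨_, rfl⟩
    rw [Scheme.fromSpecStalk_closedPoint]
    exact (Specializes.eq h1)
  have : p = maximalIdeal (V.presheaf.stalk v) := congrArg PrimeSpectrum.asIdeal hpt
  rw [← this]
  exact hp'

/-- on an integral scheme with Noetherian local rings the only associated point is the generic point. -/
theorem isAssPoint_structureModule_iff_of_isIntegral [IsIntegral V]
    (hN : ∀ v : V, IsNoetherianRing (V.presheaf.stalk v)) (v : V) :
    Curv2.IsAssPoint (Coh.structureModule V) v ↔ v = genericPoint V := by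
  rw [Groth.Agent.Lib.Helper23.UnitStalk.isAssPoint_structureModule_iff]
  haveI := hN v
  rw [isAssociatedPrime_maximalIdeal_iff_exists]
  constructor
  · rintro ⟨ξ, hξ0, hξ⟩
    have hm : maximalIdeal (V.presheaf.stalk v) = ⊥ := by
      rw [eq_bot_iff]
      intro b hb
      have h2 : b * ξ = 0 := hξ b hb
      exact (Submodule.mem_bot _).2 ((mul_eq_zero.1 h2).resolve_right hξ0)
    have hfield : IsField (V.presheaf.stalk v) := IsLocalRing.isField_iff_maximalIdeal_eq.2 hm
    have hgen : genericPoint V ⤳ v := (genericPoint_spec V).specializes (by simp)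
    have hg : genericPoint V ∈ Set.range (V.fromSpecStalk v) := by
      rw [Scheme.range_fromSpecStalk]
      exact hgen
    obtain ⟨q, hq⟩ := hg
    haveI : Subsingleton (PrimeSpectrum (V.presheaf.stalk v)) :=
      (PrimeSpectrum.subsingleton_iff_isField_of_isReduced (R := V.presheaf.stalk v)).2 hfield
    rw [← hq, Subsingleton.elim (α := PrimeSpectrum (V.presheaf.stalk v)) q (closedPoint _),
      Scheme.fromSpecStalk_closedPoint]
  · rintro rfl
    have hm : maximalIdeal (V.presheaf.stalk (genericPoint V)) = ⊥ :=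
      IsLocalRing.isField_iff_maximalIdeal_eq.1 (Field.toIsField V.functionField)
    refine ⟨1, one_ne_zero, fun b hb => ?_⟩
    rw [hm] at hb
    rw [(Submodule.mem_bot _).1 hb, zero_smul]

theorem length_stalk_genericPoint [IsIntegral V] :
    Module.length (V.presheaf.stalk (genericPoint V)) (V.presheaf.stalk (genericPoint V)) = 1 :=
  length_self_eq_one_of_isField _ (Field.toIsField V.functionField)

end Sch

section Sq

variable {k : Type u} [Field k] {X : Scheme.{u}} (f : X ⟶ Spec (CommRingCat.of k)) [IsLocallyNoetherian X]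
variable {K : Type u} [Field K] [Algebra k K] {X' : Scheme.{u}} {π : X' ⟶ X} {b : X' ⟶ Spec (CommRingCat.of K)}
  (hsq : IsPullback π b f (Spec.map (CommRingCat.ofHom (algebraMap k K)))) [IsLocallyNoetherian X']

include hsq

theorem isFlatOver_structureModule_of_sq : FlatMod.IsFlatOver π (Coh.structureModule X') := by
  haveI := flat_of_sq f hsq
  exact Groth.Agent.Lib.T2H9.InvFlat.isFlatOver_of_isInvertible _ _
    (Groth.Agent.Lib.Helper23.TensorUnit.isInvertible_structureModule _)

theorem isAssPoint_pullback_iff (F : X.Modules) (x' : X') :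
    Curv2.IsAssPoint ((Scheme.Modules.pullback π).obj F) x' ↔
      Curv2.IsAssPoint F (π x') ∧ Qx π (Coh.structureModule X') x' := by
  rw [← isAssPoint_iff_of_iso
    (Groth.Agent.Lib.Helper23.TensorUnit.tensorUnitIso ((Scheme.Modules.pullback π).obj F))]
  exact isAssPoint_tensor_pullback_iff π F _ x' (isFlatOver_structureModule_of_sq f hsq x')

theorem isAssPoint_pullback_fiberι_iff (F : X.Modules) (x : X) (v : π.fiber x) :
    Curv2.IsAssPoint ((Scheme.Modules.pullback π).obj F) (π.fiberι x v) ↔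
      Curv2.IsAssPoint F x ∧ Curv2.IsAssPoint (Coh.structureModule (π.fiber x)) v := by
  rw [isAssPoint_pullback_iff f hsq, Groth.Agent.Lib.Helper10.FibStalk.fiberι_apply_eq π x v,
    ← isAssPoint_fiber_iff π _ x v,
    isAssPoint_iff_of_iso (Groth.Agent.Lib.Helper23.PB.pullbackUnitIso (π.fiberι x))]

theorem length_stalk_pullback_eq_one_iff (F : X.Modules) (x : X) (v : π.fiber x)
    (hv : Curv2.IsAssPoint (Coh.structureModule (π.fiber x)) v) :
    Module.length (X'.presheaf.stalk (π.fiberι x v))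
        (((Scheme.Modules.pullback π).obj F).presheaf.stalk (π.fiberι x v)) = 1 ↔
      Module.length (X.presheaf.stalk (π (π.fiberι x v))) (F.presheaf.stalk (π (π.fiberι x v))) = 1 ∧
        Module.length ((π.fiber x).presheaf.stalk v) ((π.fiber x).presheaf.stalk v) = 1 := by
  have hQ : Qx π (Coh.structureModule X') (π.fiberι x v) :=
    (isAssPoint_fiber_iff π _ x v).1
      ((isAssPoint_iff_of_iso (Groth.Agent.Lib.Helper23.PB.pullbackUnitIso (π.fiberι x)) v).2 hv)
  rw [← (stalkEquivOfIso (Groth.Agent.Lib.Helper23.TensorUnit.tensorUnitIso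
      ((Scheme.Modules.pullback π).obj F)) (π.fiberι x v)).length_eq,
    length_stalk_tensor_eq_one_iff π F _ _ (isFlatOver_structureModule_of_sq f hsq _) hQ,
    ← length_stalk_fiber π _ x v,
    (stalkEquivOfIso (Groth.Agent.Lib.Helper23.PB.pullbackUnitIso (π.fiberι x)) v).length_eq,
    ← (Groth.Agent.Lib.Helper23.UnitStalk.unitStalkEquiv v).length_eq]
  rfl

end Sq

section MainInt

/-- a module is integral: exactly one associated point, with a stalk of length one. -/
def IsIntegralMod {X : Scheme.{u}} (M : X.Modules) : Prop :=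
  ∃ x' : X, AssSch.Ass M = {x'} ∧ Module.length (X.presheaf.stalk x') (M.presheaf.stalk x') = 1

variable {k : Type u} [Field k] {X : Scheme.{u}} (f : X ⟶ Spec (CommRingCat.of k)) [IsLocallyNoetherian X]

/-- consequences of integrality of `F ⊗_k k'` for a finite extension `k'`. -/
theorem isDomain_tensor_of_isIntegralMod (F : X.Modules) (k' : Type u) [Field k'] [Algebra k k']
    [FiniteDimensional k k'] (x₀ : X) (hx₀ : Curv2.IsAssPoint F x₀)
    (H : IsIntegralMod ((Scheme.Modules.pullback (FBase.bcπ f k')).obj F)) :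
    letI := resAlg f x₀
    IsDomain (k' ⊗[k] ↑(X.residueField x₀)) := by
  letI := resAlg f x₀
  haveI := isLocallyNoetherian_bc_of_finite f k'
  obtain ⟨x', hA, hL⟩ := H
  haveI := t1Space_fiber_of_finite f (sqBc f k') x₀
  have hN : ∀ v : (FBase.bcπ f k').fiber x₀, IsNoetherianRing (((FBase.bcπ f k').fiber x₀).presheaf.stalk v) :=
    fun v => Groth.Agent.Lib.T2H6.AssFibProd.isNoetherianRing_stalk_fiber _ x₀ v
  have hall : ∀ v : (FBase.bcπ f k').fiber x₀, (FBase.bcπ f k').fiberι x₀ v = x' := by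
    intro v
    have h1 : (FBase.bcπ f k').fiberι x₀ v ∈ AssSch.Ass ((Scheme.Modules.pullback (FBase.bcπ f k')).obj F) :=
      (isAssPoint_pullback_fiberι_iff f (sqBc f k') F x₀ v).2 ⟨hx₀, isAssPoint_structureModule_of_t1 hN v⟩
    rw [hA] at h1
    exact h1
  haveI : Subsingleton ↥((FBase.bcπ f k').fiber x₀) :=
    ⟨fun v w => ((FBase.bcπ f k').fiberι x₀).isEmbedding.injective ((hall v).trans (hall w).symm)⟩
  obtain ⟨z, hz⟩ := (surjective_of_sq f (sqBc f k')).surj x₀
  obtain ⟨v₀, hv₀⟩ := exists_fiber_point' (FBase.bcπ f k') x₀ z hz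
  haveI : Nonempty ↥((FBase.bcπ f k').fiber x₀) := ⟨v₀⟩
  haveI : IrreducibleSpace ↥((FBase.bcπ f k').fiber x₀) := ⟨‹_›⟩
  haveI : ∀ v : (FBase.bcπ f k').fiber x₀, _root_.IsReduced (((FBase.bcπ f k').fiber x₀).presheaf.stalk v) := by
    intro v
    have h2 := (length_stalk_pullback_eq_one_iff f (sqBc f k') F x₀ v (isAssPoint_structureModule_of_t1 hN v)).1
      (by rw [hall v]; exact hL)
    exact isReduced_of_length_eq_one _ h2.2
  haveI : IsReduced ((FBase.bcπ f k').fiber x₀) := isReduced_of_isReduced_stalk _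
  haveI : IsIntegral ((FBase.bcπ f k').fiber x₀) := isIntegral_of_irreducibleSpace_of_isReduced _
  obtain ⟨e⟩ := exists_fiberIso f (sqBc f k') x₀
  haveI : IsIntegral (Spec (CommRingCat.of (↑(X.residueField x₀) ⊗[k] k'))) := IsIntegral.of_isIso e.hom
  haveI : IsDomain (↑(X.residueField x₀) ⊗[k] k') :=
    (affine_isIntegral_iff (CommRingCat.of (↑(X.residueField x₀) ⊗[k] k'))).1 inferInstance
  exact (Algebra.TensorProduct.comm k k' (X.residueField x₀)).toMulEquiv.isDomain

variable {K : Type u} [Field K] [Algebra k K] {X' : Scheme.{u}} {π : X' ⟶ X} {b : X' ⟶ Spec (CommRingCat.of K)}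
  (hsq : IsPullback π b f (Spec.map (CommRingCat.ofHom (algebraMap k K)))) [IsLocallyNoetherian X']

include hsq

theorem isIntegralMod_pullback_of_forall_finite (F : X.Modules)
    (H : ∀ (k' : Type u) [Field k'] [Algebra k k'] [FiniteDimensional k k'],
      IsIntegralMod ((Scheme.Modules.pullback (FBase.bcπ f k')).obj F)) :
    IsIntegralMod ((Scheme.Modules.pullback π).obj F) := by
  -- step 1: the case `k' = k`
  haveI := isLocallyNoetherian_bc_of_finite f k
  obtain ⟨x'₀, hA, hL⟩ := H k
  obtain ⟨v₀, hv₀⟩ := exists_fiber_point' (FBase.bcπ f k) (FBase.bcπ f k x'₀) x'₀ rfl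
  have h0 : (FBase.bcπ f k).fiberι (FBase.bcπ f k x'₀) v₀ ∈
      AssSch.Ass ((Scheme.Modules.pullback (FBase.bcπ f k)).obj F) := by
    rw [hv₀, hA]
    exact Set.mem_singleton _
  obtain ⟨hx₀, hv₀ass⟩ := (isAssPoint_pullback_fiberι_iff f (sqBc f k) F _ v₀).1 h0
  have hAssF : ∀ x, Curv2.IsAssPoint F x → x = FBase.bcπ f k x'₀ := by
    intro x hx
    obtain ⟨z, hz⟩ := (surjective_of_sq f (sqBc f k)).surj x
    obtain ⟨v, hv⟩ := exists_fiber_point' (FBase.bcπ f k) x z hz
    haveI := t1Space_fiber_of_finite f (sqBc f k) x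
    have hN : ∀ v : (FBase.bcπ f k).fiber x, IsNoetherianRing (((FBase.bcπ f k).fiber x).presheaf.stalk v) :=
      fun v => Groth.Agent.Lib.T2H6.AssFibProd.isNoetherianRing_stalk_fiber _ x v
    have h1 : (FBase.bcπ f k).fiberι x v ∈ AssSch.Ass ((Scheme.Modules.pullback (FBase.bcπ f k)).obj F) :=
      (isAssPoint_pullback_fiberι_iff f (sqBc f k) F x v).2 ⟨hx, isAssPoint_structureModule_of_t1 hN v⟩
    rw [hA] at h1
    have h2 : (FBase.bcπ f k).fiberι x v = x'₀ := h1
    rw [← h2, Groth.Agent.Lib.Helper10.FibStalk.fiberι_apply_eq]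
  have hLF : Module.length (X.presheaf.stalk (FBase.bcπ f k x'₀)) (F.presheaf.stalk (FBase.bcπ f k x'₀)) = 1 := by
    have h2 := (length_stalk_pullback_eq_one_iff f (sqBc f k) F _ v₀ hv₀ass).1 (by rw [hv₀]; exact hL)
    have h3 := h2.1
    rw [hv₀] at h3
    exact h3
  -- step 2, 3: the residue field is geometrically integral
  letI := resAlg f (FBase.bcπ f k x'₀)
  have hdomK : IsDomain (K ⊗[k] ↑(X.residueField (FBase.bcπ f k x'₀))) :=
    Groth.Agent.Lib.Helper14.GeomIrr.isDomain_of_algClosure
      (Groth.Agent.Lib.Helper14.GeomIrr.isDomain_algClosure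
        (fun k' _ _ _ => isDomain_tensor_of_isIntegralMod f F k' _ hx₀ (H k'))) K
  haveI : IsDomain (↑(X.residueField (FBase.bcπ f k x'₀)) ⊗[k] K) :=
    (Algebra.TensorProduct.comm k (X.residueField (FBase.bcπ f k x'₀)) K).toMulEquiv.isDomain
  obtain ⟨e⟩ := exists_fiberIso f hsq (FBase.bcπ f k x'₀)
  haveI : IsIntegral (π.fiber (FBase.bcπ f k x'₀)) := IsIntegral.of_isIso e.inv
  have hN : ∀ v : π.fiber (FBase.bcπ f k x'₀), IsNoetherianRing ((π.fiber (FBase.bcπ f k x'₀)).presheaf.stalk v) :=
    fun v => Groth.Agent.Lib.T2H6.AssFibProd.isNoetherianRing_stalk_fiber _ _ v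
  -- step 4
  have hη : Curv2.IsAssPoint (Coh.structureModule (π.fiber (FBase.bcπ f k x'₀)))
      (genericPoint ↥(π.fiber (FBase.bcπ f k x'₀))) :=
    (isAssPoint_structureModule_iff_of_isIntegral hN _).2 rfl
  refine ⟨π.fiberι (FBase.bcπ f k x'₀) (genericPoint ↥(π.fiber (FBase.bcπ f k x'₀))), ?_, ?_⟩
  · ext z
    rw [Set.mem_singleton_iff]
    constructor
    · intro hz
      obtain ⟨hz1, -⟩ := (isAssPoint_pullback_iff f hsq F z).1 hz
      obtain ⟨v, rfl⟩ := exists_fiber_point' π (FBase.bcπ f k x'₀) z (hAssF _ hz1)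
      have hv := ((isAssPoint_pullback_fiberι_iff f hsq F _ v).1 hz).2
      rw [(isAssPoint_structureModule_iff_of_isIntegral hN v).1 hv]
    · rintro rfl
      exact (isAssPoint_pullback_fiberι_iff f hsq F _ _).2 ⟨hx₀, hη⟩
  · refine (length_stalk_pullback_eq_one_iff f hsq F _ _ hη).2 ⟨?_, length_stalk_genericPoint⟩
    rw [Groth.Agent.Lib.Helper10.FibStalk.fiberι_apply_eq]
    exact hLF

end MainInt

end Groth.Agent.Lib.T2H6.GeomRedMod
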