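import Mathlib
import Groth.Prelude.Def_StGerb
import Groth.Agent.Lib.T2H6GerbDescent
import Groth.Agent.Lib.Helper17FibYoneda
import Groth.Agent.Lib.Helper17StkPts
import Groth.Agent.Lib.Helper15PtsTop
import Groth.Agent.Lib.Helper12QuotSh

set_option autoImplicit false
set_option backward.isDefEq.respectTransparency false
set_option backward.isDefEq.respectTransparency.types false
open CategoryTheory CategoryTheory.Functor CategoryTheory.Limits Opposite AlgebraicGeometry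

universe u

namespace Groth.Agent.Lib.T2H6.GerbHomeo

open Groth.Agent.Lib.Helper17 Groth.Agent.Lib.Helper15PtsTop Groth.Agent.Lib.T2H6.GerbDescent

variable {S : Scheme.{u}}

/-- A covering sieve of the spectrum of a field contains the spectrum of a field. -/
theorem exists_field_refinement (K : Type u) [Field K] (str : Spec (CommRingCat.of K) ⟶ S)
    (R : Sieve (Over.mk str)) (hR : R ∈ QuotSh.J Scheme.fppfPrecoverage S (Over.mk str)) :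
    ∃ (L : Type u) (_ : Field L) (h : Spec (CommRingCat.of L) ⟶ Spec (CommRingCat.of K)),
      R (Over.homMk h rfl : Over.mk (h ≫ str) ⟶ Over.mk str) := by
  rw [GrothendieckTopology.mem_over_iff,
    Precoverage.mem_toGrothendieck_iff_of_isStableUnderComposition] at hR
  obtain ⟨R', hR', hle⟩ := hR
  have h1 := hR'.1
  rw [Scheme.jointlySurjectivePrecoverage,
    Presieve.mem_comap_jointlySurjectivePrecoverage_iff] at h1
  obtain ⟨Y, g, hg, y, -⟩ := h1 (IsLocalRing.closedPoint K)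
  have h4 := hle _ _ hg
  have h5 := Sieve.downward_closed _ h4 (Y.fromSpecResidueField y)
  rw [Sieve.overEquiv_iff] at h5
  exact ⟨↥(Y.residueField y), inferInstance, Y.fromSpecResidueField y ≫ g, h5⟩

variable {𝒳 𝒴 : AlgSt.Cat S} (f : 𝒳 ⥤ᵇ 𝒴)

theorem surjective_of_locSurjObj
    (hF : Gerb.LocSurjObj (QuotSh.J Scheme.fppfPrecoverage S) f) :
    Function.Surjective (AlgSt.Points.map f) := by
  intro P
  obtain ⟨p, rfl⟩ := AlgSt.Points.mk_surjective P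
  obtain ⟨R, hR, hRf⟩ := locSurjObj_at _ hF p.obj p.lies
  obtain ⟨L, _, h, hh⟩ := exists_field_refinement p.K p.str R hR
  obtain ⟨x, γ, hγ⟩ := hRf _ hh
  have hx : 𝒳.p.obj x = Over.mk (h ≫ p.str) :=
    (f.w_obj x).symm.trans (@IsHomLift.domain_eq _ _ _ _ 𝒴.p _ _ _ _ _ γ hγ)
  refine ⟨AlgSt.Points.mk { K := L, str := h ≫ p.str, obj := x, lies := hx }, ?_⟩
  rw [AlgSt.Points.map_mk]
  apply AlgSt.Points.sound
  exact ⟨_, 𝟙 _, γ, trivial⟩

theorem injective_of_locSurjHom [FibCat.IsFibGrpd 𝒳.p] [h𝒴 : FibCat.IsFibGrpd 𝒴.p]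
    (hF : Gerb.LocSurjHom (QuotSh.J Scheme.fppfPrecoverage S) f) :
    Function.Injective (AlgSt.Points.map f) := by
  intro P Q hPQ
  obtain ⟨p, rfl⟩ := AlgSt.Points.mk_surjective P
  obtain ⟨q, rfl⟩ := AlgSt.Points.mk_surjective Q
  rw [AlgSt.Points.map_mk, AlgSt.Points.map_mk] at hPQ
  obtain ⟨r, a, b, -⟩ := fpt_rel_of_mk_eq h𝒴 hPQ
  change r.obj ⟶ f.obj p.obj at a
  change r.obj ⟶ f.obj q.obj at b
  obtain ⟨p', ξ, hξ⟩ := FibCat.IsFibGrpd.exists_lift (p := 𝒳.p) (x := p.obj)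
    (𝒴.p.map a ≫ eqToHom (f.w_obj p.obj))
  obtain ⟨q', ζ, hζ⟩ := FibCat.IsFibGrpd.exists_lift (p := 𝒳.p) (x := q.obj)
    (𝒴.p.map b ≫ eqToHom (f.w_obj q.obj))
  have ha : 𝒴.p.IsHomLift (𝒴.p.map a ≫ eqToHom (f.w_obj p.obj)) a := inferInstance
  have hb : 𝒴.p.IsHomLift (𝒴.p.map b ≫ eqToHom (f.w_obj q.obj)) b := inferInstance
  have hfξ : 𝒴.p.IsHomLift (𝒴.p.map a ≫ eqToHom (f.w_obj p.obj)) (f.map ξ) :=
    @BasedFunctor.preserves_isHomLift _ _ _ _ f _ _ _ _ _ ξ hξ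
  have hfζ : 𝒴.p.IsHomLift (𝒴.p.map b ≫ eqToHom (f.w_obj q.obj)) (f.map ζ) :=
    @BasedFunctor.preserves_isHomLift _ _ _ _ f _ _ _ _ _ ζ hζ
  obtain ⟨χ, hχ, -⟩ := exists_factor (f.map ξ) a _ hfξ ha
  obtain ⟨χ', hχ', -⟩ := exists_factor (f.map ζ) b _ hfζ hb
  have iχ : IsIso χ := isIso_of_id χ hχ
  have hp' : 𝒳.p.obj p' = 𝒴.p.obj r.obj := @IsHomLift.domain_eq _ _ _ _ 𝒳.p _ _ _ _ _ ξ hξ
  have hb₀ : 𝒴.p.IsHomLift (𝟙 (𝒴.p.obj r.obj)) (inv χ ≫ χ') := inferInstance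
  have hb₁ : 𝒴.p.IsHomLift (𝟙 (Over.mk r.str)) (inv χ ≫ χ') := by
    rw [← r.lies]; exact hb₀
  obtain ⟨R, hR, hRf⟩ := locSurjHom_at _ hF p' q' (inv χ ≫ χ') (hp'.trans r.lies) hb₁
  obtain ⟨L, _, h, hh⟩ := exists_field_refinement r.K r.str R hR
  obtain ⟨x₀, φ, ψ, hφ, hψ, -⟩ := hRf _ hh
  apply AlgSt.Points.sound
  exact ⟨{ K := L, str := h ≫ r.str, obj := x₀,
           lies := @IsHomLift.domain_eq _ _ _ _ 𝒳.p _ _ _ _ _ φ hφ }, φ ≫ ξ, ψ ≫ ζ, trivial⟩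

theorem ofChart_eq_of_hom {U : Over S} {x x' : FibCat.overCat U ⥤ᵇ 𝒳} (α : x ⟶ x') :
    AlgSt.Points.ofChart x = AlgSt.Points.ofChart x' := by
  funext t
  apply AlgSt.Points.sound
  exact ⟨_, 𝟙 _, α.toNatTrans.app _, trivial⟩

theorem isOpenMap_of_gerbe (h𝒳 : AlgSt.IsAlgStack Scheme.fppfPrecoverage 𝒳)
    (h𝒴 : AlgSt.IsAlgStack Scheme.fppfPrecoverage 𝒴)
    (hF : Gerb.IsGerbeOver (QuotSh.J Scheme.fppfPrecoverage S) f) :
    IsOpenMap (AlgSt.Points.map f) := by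
  have hX : FibCat.IsFibGrpd 𝒳.p := h𝒳.isStack.1
  have hY : FibCat.IsFibGrpd 𝒴.p := h𝒴.isStack.1
  have hXf : 𝒳.p.IsFibered := IsFibGrpd.isFibered hX
  have hinj := injective_of_locSurjHom f hF.2
  intro W hW U y hy
  rw [isOpen_iff_forall_mem_open]
  intro u hu
  have hy₀ : 𝒴.p.obj (y.obj (Over.mk (𝟙 U))) = U := y.w_obj _
  obtain ⟨R, hR, hRf⟩ := locSurjObj_at _ hF.1 (y.obj (Over.mk (𝟙 U))) hy₀
  rw [GrothendieckTopology.mem_over_iff,
    Precoverage.mem_toGrothendieck_iff_of_isStableUnderComposition] at hR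
  obtain ⟨R', hR', hle⟩ := hR
  have h1 := hR'.1
  rw [Scheme.jointlySurjectivePrecoverage,
    Presieve.mem_comap_jointlySurjectivePrecoverage_iff] at h1
  obtain ⟨Y, g, hg, t, ht⟩ := h1 u
  have hg1 : Flat g := (hR'.2 hg).1
  have hg2 : LocallyOfFinitePresentation g := (hR'.2 hg).2
  have hgR := hle _ _ hg
  rw [Sieve.overEquiv_iff] at hgR
  obtain ⟨x, γ, hγ⟩ := hRf _ hgR
  have hx : 𝒳.p.obj x = Over.mk (g ≫ U.hom) :=
    (f.w_obj x).symm.trans (@IsHomLift.domain_eq _ _ _ _ 𝒴.p _ _ _ _ _ γ hγ)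
  let v : Over.mk (g ≫ U.hom) ⟶ U := Over.homMk g rfl
  have key : ∀ t' : ↥Y, AlgSt.Points.ofChart y (g t') =
      AlgSt.Points.map f (AlgSt.Points.ofChart (yonedaFunctor hx) t') := by
    intro t'
    have hH := termCart_of_isFibGrpd (Over.mk (g ≫ U.hom)) hY
      (BasedFunctor.comp (AlgSt.overMap v) y)
    have hc : 𝒴.p.IsHomLift (𝟙 _ ≫ v)
        (y.map (overTerm U ((AlgSt.overMap v).obj (Over.mk (𝟙 (Over.mk (g ≫ U.hom))))))) := by
      have h0 := overTerm_isHomLift U ((AlgSt.overMap v).obj (Over.mk (𝟙 (Over.mk (g ≫ U.hom)))))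
      exact @BasedFunctor.preserves_isHomLift _ _ _ _ y _ _ _ _ _ _ h0
    have hd0 : 𝒳.p.IsHomLift (𝟙 (Over.mk (g ≫ U.hom)))
        (yonedaCart hx (Over.mk (𝟙 (Over.mk (g ≫ U.hom))))) :=
      (yonedaCart_isStronglyCartesian hx (Over.mk (𝟙 (Over.mk (g ≫ U.hom))))).toIsHomLift
    have hd1 : 𝒴.p.IsHomLift (𝟙 (Over.mk (g ≫ U.hom)))
        (f.map (yonedaCart hx (Over.mk (𝟙 (Over.mk (g ≫ U.hom)))))) :=
      @BasedFunctor.preserves_isHomLift _ _ _ _ f _ _ _ _ _ _ hd0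
    have hd : 𝒴.p.IsHomLift (𝟙 _ ≫ v)
        (f.map (yonedaCart hx (Over.mk (𝟙 (Over.mk (g ≫ U.hom))))) ≫ γ) := inferInstance
    obtain ⟨m, hm, -⟩ := exists_factor _ _ _ hc hd
    obtain ⟨α, -⟩ := yoneda_full (Over.mk (g ≫ U.hom))
      (G := BasedFunctor.comp (yonedaFunctor hx) f) (H := BasedFunctor.comp (AlgSt.overMap v) y)
      hH m (hm := hm)
    rw [← ofChart_comp, ofChart_eq_of_hom α]
    exact (ofChart_overMap v y t').symm
  refine ⟨g '' (AlgSt.Points.ofChart (yonedaFunctor hx) ⁻¹' W), ?_,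
    g.isOpenMap _ ((continuous_ofChart h𝒳 (yonedaFunctor hx)).isOpen_preimage W hW), ⟨t, ?_, (ht : g t = u)⟩⟩
  · rintro _ ⟨t', ht', rfl⟩
    exact ⟨AlgSt.Points.ofChart (yonedaFunctor hx) t', ht', (key t').symm⟩
  · obtain ⟨w, hw, hwu⟩ := hu
    have ht' : g t = u := ht
    rw [← ht', key t] at hwu
    rw [Set.mem_preimage, ← hinj hwu]
    exact hw

theorem isHomeomorph_of_gerbe (h𝒳 : AlgSt.IsAlgStack Scheme.fppfPrecoverage 𝒳)
    (h𝒴 : AlgSt.IsAlgStack Scheme.fppfPrecoverage 𝒴)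
    (hF : Gerb.IsGerbeOver (QuotSh.J Scheme.fppfPrecoverage S) f) :
    IsHomeomorph (AlgSt.Points.map f) := by
  have hX : FibCat.IsFibGrpd 𝒳.p := h𝒳.isStack.1
  have hY : FibCat.IsFibGrpd 𝒴.p := h𝒴.isStack.1
  exact ⟨continuous_points_map h𝒴 f, isOpenMap_of_gerbe f h𝒳 h𝒴 hF,
    injective_of_locSurjHom f hF.2, surjective_of_locSurjObj f hF.1⟩

end Groth.Agent.Lib.T2H6.GerbHomeo
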