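-- helper6 (team 2): the product of two functors representable by algebraic spaces with a property.
import Mathlib
import Groth.Agent.Lib.T2H6Slice
import Groth.Agent.Lib.Helper17FpProd
import Groth.Agent.Lib.Helper17FibOver
import Groth.Agent.Lib.Helper15RepComp

set_option autoImplicit false
set_option backward.isDefEq.respectTransparency false
set_option backward.isDefEq.respectTransparency.types false
open CategoryTheory CategoryTheory.Functor AlgebraicGeometry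

universe u

namespace Groth.Agent.Lib.T2H6.ProdMap

open Groth.Agent.Lib.Helper17 Groth.Agent.Lib.Helper15RepComp

variable {S : Scheme.{u}} {𝒳₁ 𝒳₂ 𝒴₁ 𝒴₂ : AlgSt.Cat S}

theorem repByAlgSpWith_prodF
    (h𝒳₁ : FibCat.IsFibGrpd 𝒳₁.p) (h𝒳₂ : FibCat.IsFibGrpd 𝒳₂.p) (h𝒴₁ : FibCat.IsFibGrpd 𝒴₁.p)
    (h𝒴₂ : FibCat.IsFibGrpd 𝒴₂.p)
    (P : MorphismProperty (AlgSp.Sp S)) (hP : CompCond P)
    (f₁ : 𝒳₁ ⥤ᵇ 𝒴₁) (f₂ : 𝒳₂ ⥤ᵇ 𝒴₂) (hf₁ : AlgSt.RepByAlgSpWith P f₁)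
    (hf₂ : AlgSt.RepByAlgSpWith P f₂)
    (e : BasedFunctor.comp (BasedFunctor.comp (FibCat.fpFst (FibCat.toSelf 𝒳₁) (FibCat.toSelf 𝒳₂)) f₁)
        (FibCat.toSelf 𝒴₁) ≅
      BasedFunctor.comp (BasedFunctor.comp (FibCat.fpSnd (FibCat.toSelf 𝒳₁) (FibCat.toSelf 𝒳₂)) f₂)
        (FibCat.toSelf 𝒴₂)) :
    AlgSt.RepByAlgSpWith P (prodF f₁ f₂ e) := by
  intro U t
  have hU : FibCat.IsFibGrpd (FibCat.overCat U).p := (isFibSet_overForget U).1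
  have hA₁ : FibCat.IsFibGrpd (FibCat.fp (prodT₁ t) f₁).p := isFibGrpd_fp _ _ hU h𝒳₁ h𝒴₁
  have h1 : AlgSt.RepByAlgSpWith P (FibCat.fpFst (prodT₁ t) f₁) :=
    repByAlgSpWith_fpFst P f₁ (prodT₁ t) hf₁
  have h2 : AlgSt.RepByAlgSpWith P
      (FibCat.fpFst (BasedFunctor.comp (FibCat.fpFst (prodT₁ t) f₁) (prodT₂ t)) f₂) :=
    repByAlgSpWith_fpFst P f₂ _ hf₂
  have h3 := repByAlgSpWith_comp_of_compCond
    (isFibGrpd_fp (BasedFunctor.comp (FibCat.fpFst (prodT₁ t) f₁) (prodT₂ t)) f₂ hA₁ h𝒳₂ h𝒴₂) hA₁ P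
    hP _ _ h2 h1
  have h4 := Groth.Agent.Lib.T2H6.Slice.exists_rep_of_slice P _ h3
  exact repWith_transfer' (FibCat.fpFst t (prodF f₁ f₂ e)) (BasedFunctor.comp
      (FibCat.fpFst (BasedFunctor.comp (FibCat.fpFst (prodT₁ t) f₁) (prodT₂ t)) f₂)
      (FibCat.fpFst (prodT₁ t) f₁)) (prodCmp f₁ f₂ e t)
    (isEquivOver_prodCmp f₁ f₂ e t) (Iso.refl _) P h4

end Groth.Agent.Lib.T2H6.ProdMap
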