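-- helper6 (team 2): the base as an algebraic stack over itself; quasi-compactness of products over
-- a quasi-separated base.
import Mathlib
import Groth.Agent.Lib.T2H6ProdMap
import Groth.Agent.Lib.Helper15Atlas
import Groth.Agent.Lib.Helper15SmLoc
import Groth.Agent.Lib.Helper15QsComp
import Groth.Agent.Lib.Helper17SelfOver

set_option autoImplicit false
set_option backward.isDefEq.respectTransparency false
set_option backward.isDefEq.respectTransparency.types false
open CategoryTheory CategoryTheory.Functor CategoryTheory.Limits AlgebraicGeometry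

universe u

namespace Groth.Agent.Lib.T2H6.QcProd

open Groth.Agent.Lib.Helper17 Groth.Agent.Lib.Helper15RepComp Groth.Agent.Lib.Helper15Atlas
  Groth.Agent.Lib.Helper15DiagRepSp Groth.Agent.Lib.Helper15SmLoc

variable {S : Scheme.{u}}

section SelfOver

instance : (FibCat.toSelf (FibCat.overCat (Over.mk (𝟙 S)))).toFunctor.Faithful :=
  inferInstanceAs (Over.forget (Over.mk (𝟙 S))).Faithful

instance : (FibCat.toSelf (FibCat.overCat (Over.mk (𝟙 S)))).toFunctor.Full :=
  inferInstanceAs (Over.equivalenceOfIsTerminal (Over.mkIdTerminal (X := S))).functor.Full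

theorem isEquivOver_toSelf_terminal :
    FibCat.IsEquivOver (FibCat.toSelf (FibCat.overCat (Over.mk (𝟙 S)))) := by
  apply isEquivOver_of_fullyFaithful_of_essSurjOver
  intro η
  exact ⟨Over.mk (Over.homMk η.hom : η ⟶ Over.mk (𝟙 S)), Iso.refl _, IsHomLift.id rfl⟩

theorem repByAlgSp_selfOver : AlgSt.RepByAlgSp (FibCat.selfOver (Over S)) :=
  repByAlgSp_of_isEquivOver _ isEquivOver_toSelf_terminal (repByAlgSp_overCat (Over.mk (𝟙 S)))

theorem isAlgStack_selfOver :
    AlgSt.IsAlgStack Scheme.fppfPrecoverage (FibCat.selfOver (Over S)) :=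
  (isDM_of_repByAlgSp repByAlgSp_selfOver).1

theorem eq_toSelf {𝒵 : AlgSt.Cat S} (g : 𝒵 ⥤ᵇ FibCat.selfOver (Over S)) : g = FibCat.toSelf 𝒵 := by
  have key : ∀ (A B : 𝒵 ⥤ᵇ FibCat.selfOver (Over S)), A.toFunctor = B.toFunctor → A = B := by
    rintro ⟨A, _⟩ ⟨B, _⟩ h
    cases h
    rfl
  exact key _ _ g.w

end SelfOver

section Prod

variable {𝒳 𝒵 : AlgSt.Cat S}

theorem compactSpace_prod_left [QuasiSeparatedSpace S] (U V : Over S) [CompactSpace U.left]
    [CompactSpace V.left] : CompactSpace ↥(U ⨯ V).left := by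
  have : CompactSpace ↥(pullback U.hom V.hom) := inferInstance
  exact (Scheme.homeoOfIso (Over.prodLeftIsoPullback U V)).symm.compactSpace

/-- Over a quasi-separated base the product of two quasi-compact categories fibred in groupoids
is quasi-compact. -/
theorem isQuasiCompact_prod [QuasiSeparatedSpace S] (h𝒵 : FibCat.IsFibGrpd 𝒵.p)
    (h𝒳 : FibCat.IsFibGrpd 𝒳.p) (hZ : AlgSt.IsQuasiCompact 𝒵) (hX : AlgSt.IsQuasiCompact 𝒳) :
    AlgSt.IsQuasiCompact (FibCat.fp (FibCat.toSelf 𝒵) (FibCat.toSelf 𝒳)) := by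
  obtain ⟨U, u, hU, hu₁, hu₂⟩ := hZ
  obtain ⟨V, v, hV, hv₁, hv₂⟩ := hX
  have hUf : FibCat.IsFibGrpd (FibCat.overCat U).p := (isFibSet_overForget U).1
  have hVf : FibCat.IsFibGrpd (FibCat.overCat V).p := (isFibSet_overForget V).1
  have hWf : FibCat.IsFibGrpd (FibCat.overCat (U ⨯ V)).p := (isFibSet_overForget (U ⨯ V)).1
  let e : BasedFunctor.comp (BasedFunctor.comp (FibCat.fpFst (FibCat.toSelf (FibCat.overCat U))
      (FibCat.toSelf (FibCat.overCat V))) u) (FibCat.toSelf 𝒵) ≅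
    BasedFunctor.comp (BasedFunctor.comp (FibCat.fpSnd (FibCat.toSelf (FibCat.overCat U))
      (FibCat.toSelf (FibCat.overCat V))) v) (FibCat.toSelf 𝒳) := selfOverIso _ _
  have h₁ : AlgSt.RepByAlgSpWith (AlgSp.LocP @Smooth) (prodF u v e) :=
    Groth.Agent.Lib.T2H6.ProdMap.repByAlgSpWith_prodF hUf hVf h𝒵 h𝒳 _ compCond_smooth u v hu₁ hv₁ e
  have h₂ : AlgSt.RepByAlgSpWith AlgSp.IsSurjectiveMor (prodF u v e) :=
    Groth.Agent.Lib.T2H6.ProdMap.repByAlgSpWith_prodF hUf hVf h𝒵 h𝒳 _ compCond_isSurjectiveMor u v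
      hu₂ hv₂ e
  have hPf : FibCat.IsFibGrpd (FibCat.fp (FibCat.toSelf (FibCat.overCat U))
      (FibCat.toSelf (FibCat.overCat V))).p :=
    isFibGrpd_fp _ _ hUf hVf (isFibGrpd_selfOver _)
  have hc := chart_precomp_equiv hWf hPf (toProdSlice U V) (isEquivOver_toProdSlice U V)
    (prodF u v e)
  have : CompactSpace ↥(U ⨯ V).left := compactSpace_prod_left U V
  exact isQuasiCompact_of_compact_chart _ this (hc.1 h₁) (hc.2 h₂)

/-- Over a quasi-separated base the structure functor of a quasi-compact algebraic stack is a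
quasi-compact morphism. -/
theorem isQuasiCompactMor_toSelf [QuasiSeparatedSpace S]
    (h𝒳 : AlgSt.IsAlgStack Scheme.fppfPrecoverage 𝒳) (hX : AlgSt.IsQuasiCompact 𝒳) :
    AlgSt.IsQuasiCompactMor Scheme.fppfPrecoverage (FibCat.toSelf 𝒳) := by
  intro 𝒵 h𝒵 hZ g
  rw [eq_toSelf g]
  exact isQuasiCompact_prod h𝒵.isStack.1 h𝒳.isStack.1 hZ hX

end Prod

end Groth.Agent.Lib.T2H6.QcProd
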