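-- helper6 (team 2): a gerbe is quasi-compact; quasi-compactness of the diagonal descends along
-- a gerbe.
import Mathlib
import Groth.Prelude.Def_StGerb
import Groth.Agent.Lib.T2H6GerbHomeo
import Groth.Agent.Lib.T2H6QcProd
import Groth.Agent.Lib.Helper15PtsQc
import Groth.Agent.Lib.Helper17FpProd
import Groth.Agent.Lib.Helper17AlgStEquiv2
import Groth.Agent.S16864

set_option autoImplicit false
set_option backward.isDefEq.respectTransparency false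
set_option backward.isDefEq.respectTransparency.types false
open CategoryTheory CategoryTheory.Functor CategoryTheory.Limits Opposite AlgebraicGeometry

universe u

namespace Groth.Agent.Lib.T2H6.GerbDiagQc

open Groth.Agent.Lib.Helper17 Groth.Agent.Lib.Helper15Atlas Groth.Agent.Lib.Helper15UnivComp
  Groth.Agent.Lib.Helper15PtsQc Groth.Agent.Lib.T2H6.QcProd

variable {S : Scheme.{u}}

/-- A gerbe is a quasi-compact morphism. -/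
theorem isQuasiCompactMor_of_gerbe {𝒳 𝒴 : AlgSt.Cat S}
    (h𝒳 : AlgSt.IsAlgStack Scheme.fppfPrecoverage 𝒳)
    (h𝒴 : AlgSt.IsAlgStack Scheme.fppfPrecoverage 𝒴) (f : 𝒳 ⥤ᵇ 𝒴)
    (hf : Gerb.IsGerbeOver (QuotSh.J Scheme.fppfPrecoverage S) f) :
    AlgSt.IsQuasiCompactMor Scheme.fppfPrecoverage f := by
  intro 𝒵 h𝒵 hqc g
  have hgerbe := Groth.Agent.S16864.result S 𝒳 𝒴 𝒵 h𝒳 h𝒴 h𝒵 f g hf
  have hfp : AlgSt.IsAlgStack Scheme.fppfPrecoverage (FibCat.fp g f) :=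
    isAlgStack_fp_of_isPrestack (IsStack.isPrestack _ h𝒴.isStack) h𝒴.diag h𝒵 h𝒳 g f
  have hh := Groth.Agent.Lib.T2H6.GerbHomeo.isHomeomorph_of_gerbe (FibCat.fpFst g f) hfp h𝒵 hgerbe
  have hc : CompactSpace (AlgSt.Points 𝒵) := (isQuasiCompact_iff_compactSpace h𝒵).1 hqc
  rw [isQuasiCompact_iff_compactSpace hfp]
  exact (IsHomeomorph.homeomorph _ hh).symm.compactSpace

/-- The product over the base of two algebraic stacks is an algebraic stack. -/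
theorem isAlgStack_prod {𝒳₁ 𝒳₂ : AlgSt.Cat S}
    (h𝒳₁ : AlgSt.IsAlgStack Scheme.fppfPrecoverage 𝒳₁)
    (h𝒳₂ : AlgSt.IsAlgStack Scheme.fppfPrecoverage 𝒳₂) :
    AlgSt.IsAlgStack Scheme.fppfPrecoverage (FibCat.fp (FibCat.toSelf 𝒳₁) (FibCat.toSelf 𝒳₂)) :=
  isAlgStack_fp_of_isPrestack (IsStack.isPrestack _ isAlgStack_selfOver.isStack)
    isAlgStack_selfOver.diag h𝒳₁ h𝒳₂ _ _

/-- The product of two quasi-compact morphisms is quasi-compact. -/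
theorem isQuasiCompactMor_prodF {𝒳₁ 𝒳₂ 𝒴₁ 𝒴₂ : AlgSt.Cat S}
    (h𝒳₁ : AlgSt.IsAlgStack Scheme.fppfPrecoverage 𝒳₁)
    (h𝒴₁ : AlgSt.IsAlgStack Scheme.fppfPrecoverage 𝒴₁)
    (f₁ : 𝒳₁ ⥤ᵇ 𝒴₁) (f₂ : 𝒳₂ ⥤ᵇ 𝒴₂)
    (hf₁ : AlgSt.IsQuasiCompactMor Scheme.fppfPrecoverage f₁)
    (hf₂ : AlgSt.IsQuasiCompactMor Scheme.fppfPrecoverage f₂)
    (e : BasedFunctor.comp (BasedFunctor.comp (FibCat.fpFst (FibCat.toSelf 𝒳₁) (FibCat.toSelf 𝒳₂)) f₁)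
        (FibCat.toSelf 𝒴₁) ≅
      BasedFunctor.comp (BasedFunctor.comp (FibCat.fpSnd (FibCat.toSelf 𝒳₁) (FibCat.toSelf 𝒳₂)) f₂)
        (FibCat.toSelf 𝒴₂)) :
    AlgSt.IsQuasiCompactMor Scheme.fppfPrecoverage (prodF f₁ f₂ e) := by
  intro 𝒵 h𝒵 hqc t
  have hA₁ : AlgSt.IsAlgStack Scheme.fppfPrecoverage (FibCat.fp (prodT₁ t) f₁) :=
    isAlgStack_fp_of_isPrestack (IsStack.isPrestack _ h𝒴₁.isStack) h𝒴₁.diag h𝒵 h𝒳₁ _ _
  have h1 : AlgSt.IsQuasiCompact (FibCat.fp (prodT₁ t) f₁) := hf₁ 𝒵 h𝒵 hqc (prodT₁ t)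
  have h2 := hf₂ _ hA₁ h1 (BasedFunctor.comp (FibCat.fpFst (prodT₁ t) f₁) (prodT₂ t))
  exact isQuasiCompact_of_isEquivOver' (prodCmp f₁ f₂ e t) (isEquivOver_prodCmp f₁ f₂ e t) h2

/-- The diagonal commutes with a 1-morphism `f` and `f × f`. -/
def diagTriangle {𝒳 𝒴 : AlgSt.Cat S} (f : 𝒳 ⥤ᵇ 𝒴)
    (e : BasedFunctor.comp (BasedFunctor.comp (FibCat.fpFst (FibCat.toSelf 𝒳) (FibCat.toSelf 𝒳)) f)
        (FibCat.toSelf 𝒴) ≅
      BasedFunctor.comp (BasedFunctor.comp (FibCat.fpSnd (FibCat.toSelf 𝒳) (FibCat.toSelf 𝒳)) f)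
        (FibCat.toSelf 𝒴)) :
    BasedFunctor.comp f (FibCat.diag (FibCat.toSelf 𝒴)) ≅
      BasedFunctor.comp (FibCat.diag (FibCat.toSelf 𝒳)) (prodF f f e) :=
  fpIsoMk (FibCat.toSelf 𝒴) (FibCat.toSelf 𝒴)
    (H := BasedFunctor.comp f (FibCat.diag (FibCat.toSelf 𝒴)))
    (K := BasedFunctor.comp (FibCat.diag (FibCat.toSelf 𝒳)) (prodF f f e))
    (Iso.refl _) (Iso.refl _) (fun x => by
      have e1 : 𝒴.p.obj (f.obj x) = 𝒳.p.obj x := f.w_obj x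
      apply selfOver_hom_ext (R := 𝒳.p.obj x)
      · refine isHomLift_id_comp _ _ _ _ ?_ ?_
        · have : 𝒴.p.IsHomLift (𝟙 (𝒳.p.obj x)) (𝟙 (f.obj x)) := IsHomLift.id e1
          exact BasedFunctor.preserves_isHomLift (FibCat.toSelf 𝒴) _ (𝟙 (f.obj x))
        · exact fp_iso_isHomLift (FibCat.toSelf 𝒴) (FibCat.toSelf 𝒴) _ e1
      · refine isHomLift_id_comp _ _ _ _ ?_ ?_
        · exact fp_iso_isHomLift (FibCat.toSelf 𝒴) (FibCat.toSelf 𝒴) _ e1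
        · have : 𝒴.p.IsHomLift (𝟙 (𝒳.p.obj x)) (𝟙 (f.obj x)) := IsHomLift.id e1
          exact BasedFunctor.preserves_isHomLift (FibCat.toSelf 𝒴) _ (𝟙 (f.obj x)))

/-- If `f : 𝒳 ⟶ 𝒴` is a gerbe and the diagonal of `𝒳` is quasi-compact then so is that of `𝒴`. -/
theorem isQuasiCompactMor_diag_of_gerbe {𝒳 𝒴 : AlgSt.Cat S}
    (h𝒳 : AlgSt.IsAlgStack Scheme.fppfPrecoverage 𝒳)
    (h𝒴 : AlgSt.IsAlgStack Scheme.fppfPrecoverage 𝒴) (f : 𝒳 ⥤ᵇ 𝒴)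
    (hf : Gerb.IsGerbeOver (QuotSh.J Scheme.fppfPrecoverage S) f)
    (hΔ : AlgSt.IsQuasiCompactMor Scheme.fppfPrecoverage (FibCat.diag (FibCat.toSelf 𝒳))) :
    AlgSt.IsQuasiCompactMor Scheme.fppfPrecoverage (FibCat.diag (FibCat.toSelf 𝒴)) := by
  have hP𝒳 := isAlgStack_prod h𝒳 h𝒳
  have hP𝒴 := isAlgStack_prod h𝒴 h𝒴
  have hfqc := isQuasiCompactMor_of_gerbe h𝒳 h𝒴 f hf
  have hpq := isQuasiCompactMor_prodF h𝒳 h𝒴 f f hfqc hfqc (selfOverIso _ _)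
  have hcomp := isQuasiCompactMor_comp hP𝒳 hP𝒴 (FibCat.diag (FibCat.toSelf 𝒳))
    (prodF f f (selfOverIso _ _)) hΔ hpq
  exact isQuasiCompactMor_of_isSurjective_of_triangle h𝒳 h𝒴 hP𝒴 f _
    (FibCat.diag (FibCat.toSelf 𝒴)) (diagTriangle f (selfOverIso _ _))
    (Groth.Agent.Lib.T2H6.GerbHomeo.surjective_of_locSurjObj f hf.1) hcomp

end Groth.Agent.Lib.T2H6.GerbDiagQc
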