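import Mathlib
import Groth.Agent.Lib.T2H6FppfLift
import Groth.Agent.Lib.Helper17FibYoneda
import Groth.Agent.Lib.T2H6GerbDescent

set_option autoImplicit false
set_option backward.isDefEq.respectTransparency false
set_option backward.isDefEq.respectTransparency.types false
open CategoryTheory CategoryTheory.Functor CategoryTheory.Limits Opposite AlgebraicGeometry

universe u

namespace Groth.Agent.Lib.T2H6.GerbFppf

open Groth.Agent.Lib.Helper17

variable {S : Scheme.{u}} {𝒴 𝒴' : AlgSt.Cat S}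

/-- The sieve generated by a family whose underlying family of schemes is an fppf covering
is covering. -/
theorem generate_ofArrows_mem_J {U : Over S} {ι : Type u} (V : ι → Over S) (v : ∀ i, V i ⟶ U)
    (hv : (Presieve.ofArrows (fun i ↦ (V i).left) fun i ↦ (v i).left) ∈
      Scheme.fppfPrecoverage U.left) :
    Sieve.generate (Presieve.ofArrows V v) ∈ QuotSh.J Scheme.fppfPrecoverage S U := by
  rw [GrothendieckTopology.mem_over_iff]
  refine GrothendieckTopology.superset_covering _ ?_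
    (Precoverage.generate_mem_toGrothendieck hv)
  rintro W a ⟨W', a', b, ⟨i⟩, rfl⟩
  rw [Sieve.overEquiv_iff]
  refine ⟨V i, Over.homMk a' (by simp), v i, ⟨i⟩, ?_⟩
  apply Over.OverMorphism.ext
  simp

/-- Objects lift fppf locally along a surjective, flat, locally finitely presented functor. -/
theorem locSurjObj_of_fppf (h𝒴 : AlgSt.IsAlgStack Scheme.fppfPrecoverage 𝒴)
    (h𝒴' : AlgSt.IsAlgStack Scheme.fppfPrecoverage 𝒴') (g : 𝒴' ⥤ᵇ 𝒴)
    (hg₁ : AlgSt.IsSurjective g) (hg₂ : AlgSt.LocQ (AlgSp.LocP @Flat) g)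
    (hg₃ : AlgSt.LocQ (AlgSp.LocP @LocallyOfFinitePresentation) g) :
    Gerb.LocSurjObj (QuotSh.J Scheme.fppfPrecoverage S) g := by
  intro y
  have hfg : FibCat.IsFibGrpd 𝒴.p := h𝒴.isStack.1
  have : 𝒴.p.IsFibered := IsFibGrpd.isFibered hfg
  have hx : 𝒴.p.obj y = 𝒴.p.obj y := rfl
  obtain ⟨ι, V, v, c, hcov, hlift⟩ :=
    Groth.Agent.Lib.T2H6.FppfLift.exists_fppf_lift h𝒴 PUnit.{u+1} (fun _ => 𝒴') (fun _ => h𝒴')
      (fun _ => g) (fun _ => hg₂) (fun _ => hg₃) (fun p => ⟨PUnit.unit, hg₁ p⟩) (𝒴.p.obj y)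
      (yonedaFunctor hx)
  refine ⟨Sieve.generate (Presieve.ofArrows V v), generate_ofArrows_mem_J V v hcov, ?_⟩
  rintro W t ⟨W', a, b, ⟨i⟩, rfl⟩
  obtain ⟨x', ⟨lam⟩⟩ := hlift i
  have h1 : 𝒴.p.IsHomLift (𝟙 W) (lam.hom.toNatTrans.app (Over.mk a)) :=
    BasedNatTrans.isHomLift lam.hom (a := Over.mk a) rfl
  have h2 : 𝒴.p.IsHomLift (a ≫ v i) (yonedaCart hx ((AlgSt.overMap (v i)).obj (Over.mk a))) :=
    (yonedaCart_isStronglyCartesian hx ((AlgSt.overMap (v i)).obj (Over.mk a))).toIsHomLift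
  exact ⟨x'.obj (Over.mk a),
    lam.hom.toNatTrans.app (Over.mk a) ≫ yonedaCart hx ((AlgSt.overMap (v i)).obj (Over.mk a)),
    IsHomLift.comp_lift_id_left' 𝒴.p W _ (a ≫ v i) _⟩

end Groth.Agent.Lib.T2H6.GerbFppf
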