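import Mathlib
import Groth.Prelude.Def_Curv2
import Groth.Agent.Lib.T2H6HiggsCurve
import Groth.Agent.Lib.T2H6CurveExt
import Groth.Agent.Lib.LeadRelSm

/-!
# Nilpotent twisted endomorphisms of rank two bundles; differentials of a smooth curve (helper6)
-/

set_option autoImplicit false
universe u

open AlgebraicGeometry CategoryTheory Limits

namespace Groth.Agent.Lib.T2H6.HiggsCurve2

open Groth.Agent.Lib.T2H6.CurveVB Groth.Agent.Lib.T2H6.CurveSS Groth.Agent.Lib.T2H6.CurveSS2
  Groth.Agent.Lib.T2H6.CurveSatur Groth.Agent.Lib.T2H5.Twist Groth.Agent.Lib.T2H6.Higgs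
  Groth.Agent.Lib.T2H6.HiggsCurve

variable {X : Scheme.{u}} [IsIntegral X] (k : Type u) [Field k] [X.Over (Spec (CommRingCat.of k))]
  [IsProper (X ↘ Spec (CommRingCat.of k))]

/-- the sheaf of differentials of a smooth integral curve over a field is invertible. -/
theorem isInvertible_of_iso_omega [Smooth (X ↘ Spec (CommRingCat.of k))]
    (hdim : topologicalKrullDim X = 1) (K : X.Modules)
    (eK : K ≅ Omega.sheaf (X ↘ Spec (CommRingCat.of k))) : PicF.IsInvertible K := by
  apply Groth.Agent.Lib.T2H6.CurveExt.isInvertible_of_rank_one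
  refine Groth.Agent.Lib.Helper26.ModRank.isFinLocFreeOfRank_of_iso eK.symm ?_
  intro x
  have hm : topologicalKrullDim X = ((1 : ℕ) : WithBot ℕ∞) := by
    rw [hdim]
    rfl
  obtain ⟨U, hxU, hiso, -⟩ := Groth.Agent.Lib.LeadRelSm.exists_free_of_smooth k
    (X ↘ Spec (CommRingCat.of k)) 1 hm (Omega.sheaf (X ↘ Spec (CommRingCat.of k)))
    (OmegaSh.dOmega (X ↘ Spec (CommRingCat.of k)))
    (Groth.Agent.Helper18OmLS.isUniversal_dOmega (X ↘ Spec (CommRingCat.of k))) x
  exact ⟨U, hxU, hiso⟩

/-- `Q ⊗ L` is a bundle of some rank. -/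
theorem exists_rank_tr (L : X.Modules) (hL : PicF.IsInvertible L) (Q : X.Modules) (m : ℕ)
    (hQ : FlatMod.IsFinLocFreeOfRank m Q) :
    ∃ m' : ℕ, FlatMod.IsFinLocFreeOfRank m' ((tr L).obj Q) := by
  haveI := (torsionFree_tr L hL Q m hQ).1
  have hTC : FlatMod.IsFinLocFree ((tr L).obj Q) := isFinLocFree_tr L hL _ (fun x => by
    obtain ⟨U, hx, e⟩ := hQ x
    exact ⟨U, _, hx, e⟩)
  exact ⟨_, exists_rank _ hTC⟩

include k in
/-- a nonzero map from a rank one bundle to a bundle on a regular curve is mono. -/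
theorem mono_of_ne_zero (hdim : topologicalKrullDim X = 1)
    (hreg : ∀ x : X, IsRegularLocalRing (X.presheaf.stalk x)) (L E : X.Modules) (r : ℕ)
    (hL : FlatMod.IsFinLocFreeOfRank 1 L) (hE : FlatMod.IsFinLocFreeOfRank r E) (s : L ⟶ E)
    (hs : s ≠ 0) : Mono s := by
  obtain ⟨rK, rI, hK, hI, hrk, -, -⟩ := ker_im_data k hdim hreg s 1 r hL hE
  have hrI0 : 0 < rI := by
    rcases Nat.eq_zero_or_pos rI with h0 | h0
    · exfalso
      subst h0
      exact hs (eq_zero_of_isZero_image s (isZero_of_rank_zero _ hI))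
    · exact h0
  have : rK = 0 := by omega
  subst this
  exact Preadditive.mono_of_isZero_kernel s (isZero_of_rank_zero _ hK)

include k in
/-- **Nilpotent twisted endomorphisms of a rank two bundle**: they exist iff there is a line subbundle `L`
with a nonzero map `E / L ⟶ L ⊗ K`. -/
theorem exists_nilpotent_iff (hdim : topologicalKrullDim X = 1)
    (hreg : ∀ x : X, IsRegularLocalRing (X.presheaf.stalk x)) (K : X.Modules)
    (hK : PicF.IsInvertible K) (E : X.Modules) (hE : FlatMod.IsFinLocFreeOfRank 2 E) :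
    (¬ ∀ α : E ⟶ (tr K).obj E, α ≫ (tr K).map α = 0 → α = 0) ↔
      ∃ (L : X.Modules) (j : L ⟶ E), PicF.IsInvertible L ∧ Mono j ∧ PicF.IsInvertible (cokernel j) ∧
        ∃ β : cokernel j ⟶ (tr K).obj L, β ≠ 0 := by
  haveI := preservesFiniteLimits_tr hK
  haveI := preservesFiniteColimits_tr K
  constructor
  · intro h
    push Not at h
    obtain ⟨α, hα, hα0⟩ := h
    obtain ⟨m', hTE⟩ := exists_rank_tr K hK E 2 hE
    obtain ⟨rK, rI, hKer, hI, hrk, -, -⟩ := ker_im_data k hdim hreg α 2 m' hE hTE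
    have hrI0 : 0 < rI := by
      rcases Nat.eq_zero_or_pos rI with h0 | h0
      · exfalso
        subst h0
        exact hα0 (eq_zero_of_isZero_image α (isZero_of_rank_zero _ hI))
      · exact h0
    have hrK0 : 0 < rK := by
      rcases Nat.eq_zero_or_pos rK with h0 | h0
      · exfalso
        subst h0
        haveI : Mono α := Preadditive.mono_of_isZero_kernel α (isZero_of_rank_zero _ hKer)
        haveI : Mono ((tr K).map α) := inferInstance
        apply hα0
        rw [← cancel_mono ((tr K).map α), hα, zero_comp]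
      · exact h0
    have h1 : rK = 1 := by omega
    have h2 : rI = 1 := by omega
    subst h1
    subst h2
    obtain ⟨β, hβ⟩ := exists_nilpotent_factor (tr K) α hα
    refine ⟨kernel α, kernel.ι α, Groth.Agent.Lib.T2H6.CurveExt.isInvertible_of_rank_one _ hKer,
      inferInstance, ?_, β, ?_⟩
    · apply Groth.Agent.Lib.T2H6.CurveExt.isInvertible_of_rank_one
      exact Groth.Agent.Lib.Helper26.ModRank.isFinLocFreeOfRank_of_iso
        (Abelian.coimageIsoImage α).symm hI
    · intro h0
      apply hα0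
      rw [← hβ, h0, zero_comp, comp_zero]
  · rintro ⟨L, j, hL, hj, hQ, β, hβ⟩ h
    haveI := hj
    have h0 := h _ (sq_zero_of_factor (tr K) j β)
    apply hβ
    haveI : Mono ((tr K).map j) := inferInstance
    rw [← cancel_epi (cokernel.π j), ← cancel_mono ((tr K).map j), Category.assoc, h0, comp_zero,
      zero_comp]

include k in
/-- no nilpotents: the pairing `Hom(L, E) × Hom(E, L ⊗ K) → Hom(L, L ⊗ K)` has no zero divisors. -/
theorem comp_ne_zero (hdim : topologicalKrullDim X = 1)
    (hreg : ∀ x : X, IsRegularLocalRing (X.presheaf.stalk x)) (K : X.Modules)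
    (hK : PicF.IsInvertible K) (E : X.Modules) (r : ℕ) (hE : FlatMod.IsFinLocFreeOfRank r E)
    (hvs : ∀ α : E ⟶ (tr K).obj E, α ≫ (tr K).map α = 0 → α = 0)
    (L : X.Modules) (hL : PicF.IsInvertible L) (s : L ⟶ E) (hs : s ≠ 0) (t : E ⟶ (tr K).obj L)
    (ht : t ≠ 0) : s ≫ t ≠ 0 := by
  haveI := preservesFiniteLimits_tr hK
  haveI := preservesFiniteColimits_tr K
  intro h
  haveI : Mono s := mono_of_ne_zero k hdim hreg L E r
    (Groth.Agent.Lib.Helper23.SecTw.isFinLocFreeOfRank_one_of_isInvertible _ hL) hE s hs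
  have h0 := hvs _ (sq_zero_of_comp_eq_zero (tr K) s t h)
  apply ht
  haveI : Mono ((tr K).map s) := inferInstance
  rw [← cancel_mono ((tr K).map s), h0, zero_comp]

end Groth.Agent.Lib.T2H6.HiggsCurve2
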