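import Mathlib
import Groth.Prelude.Def_Curv2
import Groth.Agent.Lib.T2H6HiggsCurve

/-!
# Opposite filtrations of semistable twisted pairs of the same slope (helper6)
-/

set_option autoImplicit false
universe u

open AlgebraicGeometry CategoryTheory Limits

namespace Groth.Agent.Lib.T2H6.HiggsCurve3

open Groth.Agent.Lib.T2H5.Twist

variable {X : Scheme.{u}} [IsIntegral X] (k : Type u) [Field k] [X.Over (Spec (CommRingCat.of k))]
  [IsProper (X ↘ Spec (CommRingCat.of k))]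

theorem opposite_filtrations (hdim : topologicalKrullDim X = 1)
    (hreg : ∀ x : X, IsRegularLocalRing (X.presheaf.stalk x))
    (L : X.Modules) (hL : PicF.IsInvertible L) (r : ℕ) (hr : 0 < r) (d : ℤ)
    (E : X.Modules) (hE : FlatMod.IsFinLocFreeOfRank r E) (φE : E ⟶ (tr L).obj E)
    (hEd : Curv2.deg k X E r = d)
    (hEss : (∀ (G : X.Modules) (s : ℕ) (j : G ⟶ E) (χ : G ⟶ (tr L).obj G), Mono j → 0 < s →
        FlatMod.IsFinLocFreeOfRank s G →
        χ ≫ (tr L).map j = j ≫ φE →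
        Curv2.deg k X G s * (r : ℤ) ≤ Curv2.deg k X E r * (s : ℤ)))
    (F : X.Modules) (hF : FlatMod.IsFinLocFreeOfRank r F) (φF : F ⟶ (tr L).obj F)
    (hFd : Curv2.deg k X F r = d)
    (hFss : (∀ (G : X.Modules) (s : ℕ) (j : G ⟶ F) (χ : G ⟶ (tr L).obj G), Mono j → 0 < s →
        FlatMod.IsFinLocFreeOfRank s G →
        χ ≫ (tr L).map j = j ≫ φF →
        Curv2.deg k X G s * (r : ℤ) ≤ Curv2.deg k X F r * (s : ℤ)))
    (n : ℕ)
    (Es : ℕ → X.Modules) (rE : ℕ → ℕ) (hEs : ∀ i, FlatMod.IsFinLocFreeOfRank (rE i) (Es i))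
    (ιE : ∀ i, Es i ⟶ E) (hιE : ∀ i, Mono (ιE i))
    (ψE : ∀ i, Es i ⟶ (tr L).obj (Es i))
    (hψE : ∀ i, ψE i ≫ (tr L).map (ιE i) = ιE i ≫ φE)
    (a : ∀ i, Es i ⟶ Es (i + 1)) (ha : ∀ i, a i ≫ ιE (i + 1) = ιE i)
    (hE0 : IsZero (Es 0)) (hEn : IsIso (ιE n))
    (Fs : ℕ → X.Modules) (rF : ℕ → ℕ) (hFs : ∀ i, FlatMod.IsFinLocFreeOfRank (rF i) (Fs i))
    (ιF : ∀ i, Fs i ⟶ F) (hιF : ∀ i, Mono (ιF i))
    (ψF : ∀ i, Fs i ⟶ (tr L).obj (Fs i))
    (hψF : ∀ i, ψF i ≫ (tr L).map (ιF i) = ιF i ≫ φF)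
    (b : ∀ i, Fs (i + 1) ⟶ Fs i) (hb : ∀ i, b i ≫ ιF i = ιF (i + 1))
    (hF0 : IsIso (ιF 0)) (hFn : IsZero (Fs n))
    (hrk : ∀ i, i ≤ n → rE i + rF i = r)
    (hopp : ∀ i, i < n → Nonempty (cokernel (a i) ≅ cokernel (b i))) :
    (∀ i, i ≤ n → 0 < rE i →
      Curv2.deg k X (Es i) (rE i) * (r : ℤ) = d * (rE i : ℤ) ∧
      (∀ (G : X.Modules) (s : ℕ) (j : G ⟶ (Es i)) (χ : G ⟶ (tr L).obj G), Mono j → 0 < s →
        FlatMod.IsFinLocFreeOfRank s G →
        χ ≫ (tr L).map j = j ≫ ψE i →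
        Curv2.deg k X G s * (rE i : ℤ) ≤ Curv2.deg k X (Es i) (rE i) * (s : ℤ))) ∧
    (∀ i, i ≤ n → 0 < rF i →
      Curv2.deg k X (Fs i) (rF i) * (r : ℤ) = d * (rF i : ℤ) ∧
      (∀ (G : X.Modules) (s : ℕ) (j : G ⟶ (Fs i)) (χ : G ⟶ (tr L).obj G), Mono j → 0 < s →
        FlatMod.IsFinLocFreeOfRank s G →
        χ ≫ (tr L).map j = j ≫ ψF i →
        Curv2.deg k X G s * (rF i : ℤ) ≤ Curv2.deg k X (Fs i) (rF i) * (s : ℤ))) ∧
    (∀ i, i < n → rE i < rE (i + 1) →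
      FlatMod.IsFinLocFreeOfRank (rE (i + 1) - rE i) (cokernel (a i)) ∧
      Curv2.deg k X (cokernel (a i)) (rE (i + 1) - rE i) * (r : ℤ) = d * ((rE (i + 1) - rE i : ℕ) : ℤ) ∧
      ∀ (φ' : cokernel (a i) ⟶ (tr L).obj (cokernel (a i))),
        cokernel.π (a i) ≫ φ' = ψE (i + 1) ≫ (tr L).map (cokernel.π (a i)) →
        (∀ (G : X.Modules) (s : ℕ) (j : G ⟶ cokernel (a i)) (χ : G ⟶ (tr L).obj G), Mono j → 0 < s →
        FlatMod.IsFinLocFreeOfRank s G →
        χ ≫ (tr L).map j = j ≫ φ' →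
        Curv2.deg k X G s * ((rE (i + 1) - rE i : ℕ) : ℤ) ≤ Curv2.deg k X (cokernel (a i)) (rE (i + 1) - rE i) * (s : ℤ))) := by
  haveI := Groth.Agent.Lib.T2H5.Twist.preservesFiniteLimits_tr hL
  haveI := Groth.Agent.Lib.T2H5.Twist.preservesFiniteColimits_tr L
  haveI : IsLocallyNoetherian X :=
    LocallyOfFiniteType.isLocallyNoetherian (X ↘ Spec (CommRingCat.of k))
  obtain ⟨T, hT⟩ : ∃ T : X.Modules ⥤ X.Modules, T = Groth.Agent.Lib.T2H5.Twist.tr L := ⟨_, rfl⟩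
  have hr0 : (0 : ℤ) < (r : ℤ) := by exact_mod_cast hr
  have hψE' := hψE
  have hψF' := hψF
  have ha_mono : ∀ i, Mono (a i) := fun i => by
    haveI := hιE i
    haveI : Mono (a i ≫ ιE (i + 1)) := by rw [ha]; infer_instance
    exact mono_of_mono (a i) (ιE (i + 1))
  have hb_mono : ∀ i, Mono (b i) := fun i => by
    haveI := hιF (i + 1)
    haveI : Mono (b i ≫ ιF i) := by rw [hb]; infer_instance
    exact mono_of_mono (b i) (ιF i)
  have cE : ∀ i, Coh.IsCoh (Es i) := fun i =>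
    Groth.Agent.Lib.T2H6.RankAdd.isCoh_of_isFinLocFreeOfRank _ _ (hEs i)
  have cF : ∀ i, Coh.IsCoh (Fs i) := fun i =>
    Groth.Agent.Lib.T2H6.RankAdd.isCoh_of_isFinLocFreeOfRank _ _ (hFs i)
  -- Euler characteristics along the two chains
  have heuler : ∀ i, i ≤ n →
      Curv2.euler k X (Es i) + Curv2.euler k X (Fs i) = Curv2.euler k X F := by
    intro i
    induction i with
    | zero =>
      intro _
      rw [Groth.Agent.Lib.T2H6.CurveSS2.euler_eq_zero_of_isZero k _ hE0, zero_add]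
      haveI := hF0
      exact Groth.Agent.Lib.T2H6.HiggsCurve.euler_eq_of_iso k (asIso (ιF 0)) (cF 0)
    | succ i ih =>
      intro hi
      have h0 := ih (by omega)
      haveI := ha_mono i
      haveI := hb_mono i
      have cQa := Groth.Agent.Lib.T2H5.GenIsoB.isCoh_cokernel (a i) (cE i) (cE (i + 1))
      have cQb := Groth.Agent.Lib.T2H5.GenIsoB.isCoh_cokernel (b i) (cF (i + 1)) (cF i)
      have e1 := Groth.Agent.Lib.T2H6.EulerField.euler_additive k X _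
        (Groth.Agent.Lib.T2H6.CurveSub.sc_shortExact (a i)) (cE i) (cE (i + 1)) cQa
      have e2 := Groth.Agent.Lib.T2H6.EulerField.euler_additive k X _
        (Groth.Agent.Lib.T2H6.CurveSub.sc_shortExact (b i)) (cF (i + 1)) (cF i) cQb
      obtain ⟨e⟩ := hopp i (by omega)
      have e3 := Groth.Agent.Lib.T2H6.HiggsCurve.euler_eq_of_iso k e cQa
      change Curv2.euler k X (Es (i + 1)) = Curv2.euler k X (Es i) + Curv2.euler k X (cokernel (a i)) at e1
      change Curv2.euler k X (Fs i) = Curv2.euler k X (Fs (i + 1)) + Curv2.euler k X (cokernel (b i)) at e2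
      linarith
  have hsum : ∀ i, i ≤ n →
      Curv2.deg k X (Es i) (rE i) + Curv2.deg k X (Fs i) (rF i) = d := by
    intro i hi
    have h1 := heuler i hi
    have h2 : ((rE i : ℤ) + (rF i : ℤ)) = (r : ℤ) := by exact_mod_cast hrk i hi
    have h3 : ((rE i : ℤ) + (rF i : ℤ)) * Curv2.euler k X (Coh.structureModule X) =
        (r : ℤ) * Curv2.euler k X (Coh.structureModule X) := by rw [h2]
    unfold Curv2.deg at hFd ⊢
    linarith
  have hEle : ∀ i, Curv2.deg k X (Es i) (rE i) * (r : ℤ) ≤ d * (rE i : ℤ) := by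
    intro i
    rcases Nat.eq_zero_or_pos (rE i) with h0 | h0
    · have h' : FlatMod.IsFinLocFreeOfRank 0 (Es i) := h0 ▸ hEs i
      rw [h0, Groth.Agent.Lib.T2H6.CurveSS2.deg_eq_zero_of_rank_zero k _ h']
      simp
    · have := hEss (Es i) (rE i) (ιE i) (ψE i) (hιE i) h0 (hEs i) (hψE i)
      rwa [hEd] at this
  have hFle : ∀ i, Curv2.deg k X (Fs i) (rF i) * (r : ℤ) ≤ d * (rF i : ℤ) := by
    intro i
    rcases Nat.eq_zero_or_pos (rF i) with h0 | h0
    · have h' : FlatMod.IsFinLocFreeOfRank 0 (Fs i) := h0 ▸ hFs i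
      rw [h0, Groth.Agent.Lib.T2H6.CurveSS2.deg_eq_zero_of_rank_zero k _ h']
      simp
    · have := hFss (Fs i) (rF i) (ιF i) (ψF i) (hιF i) h0 (hFs i) (hψF i)
      rwa [hFd] at this
  have hboth : ∀ i, i ≤ n → Curv2.deg k X (Es i) (rE i) * (r : ℤ) = d * (rE i : ℤ) ∧
      Curv2.deg k X (Fs i) (rF i) * (r : ℤ) = d * (rF i : ℤ) := by
    intro i hi
    have h1 := hEle i
    have h2 := hFle i
    have h3 := hsum i hi
    have h4 : ((rE i : ℤ) + (rF i : ℤ)) = (r : ℤ) := by exact_mod_cast hrk i hi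
    have h5 : (Curv2.deg k X (Es i) (rE i) + Curv2.deg k X (Fs i) (rF i)) * (r : ℤ) = d * (r : ℤ) := by
      rw [h3]
    have h6 : d * ((rE i : ℤ) + (rF i : ℤ)) = d * (r : ℤ) := by rw [h4]
    rw [add_mul] at h5
    rw [mul_add] at h6
    constructor <;> linarith
  -- semistability of the pieces
  have hEssi : ∀ i, i ≤ n → ∀ (G : X.Modules) (s : ℕ) (j : G ⟶ Es i)
      (χ : G ⟶ (Groth.Agent.Lib.T2H5.Twist.tr L).obj G), Mono j → 0 < s →
      FlatMod.IsFinLocFreeOfRank s G →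
      χ ≫ (Groth.Agent.Lib.T2H5.Twist.tr L).map j = j ≫ ψE i →
      Curv2.deg k X G s * (rE i : ℤ) ≤ Curv2.deg k X (Es i) (rE i) * (s : ℤ) := by
    intro i hi G s j χ hj hs hG hχ
    haveI := hj
    haveI := hιE i
    have h1 := hEss G s (j ≫ ιE i) χ (mono_comp _ _) hs hG (by
      change χ ≫ (Groth.Agent.Lib.T2H5.Twist.tr L).map (j ≫ ιE i) = _
      rw [Functor.map_comp, ← Category.assoc, hχ]
      simp only [Category.assoc]
      rw [hψE' i])
    rw [hEd] at h1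
    have h2 := (hboth i hi).1
    have h3 : Curv2.deg k X G s * (rE i : ℤ) * (r : ℤ) ≤
        Curv2.deg k X (Es i) (rE i) * (s : ℤ) * (r : ℤ) := by
      have h4 := mul_le_mul_of_nonneg_right h1 (Int.natCast_nonneg (rE i))
      have h5 : Curv2.deg k X (Es i) (rE i) * (s : ℤ) * (r : ℤ) = d * (rE i : ℤ) * (s : ℤ) := by
        rw [← h2]; ring
      rw [h5]
      linarith
    exact le_of_mul_le_mul_right h3 hr0
  have hFssi : ∀ i, i ≤ n → ∀ (G : X.Modules) (s : ℕ) (j : G ⟶ Fs i)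
      (χ : G ⟶ (Groth.Agent.Lib.T2H5.Twist.tr L).obj G), Mono j → 0 < s →
      FlatMod.IsFinLocFreeOfRank s G →
      χ ≫ (Groth.Agent.Lib.T2H5.Twist.tr L).map j = j ≫ ψF i →
      Curv2.deg k X G s * (rF i : ℤ) ≤ Curv2.deg k X (Fs i) (rF i) * (s : ℤ) := by
    intro i hi G s j χ hj hs hG hχ
    haveI := hj
    haveI := hιF i
    have h1 := hFss G s (j ≫ ιF i) χ (mono_comp _ _) hs hG (by
      change χ ≫ (Groth.Agent.Lib.T2H5.Twist.tr L).map (j ≫ ιF i) = _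
      rw [Functor.map_comp, ← Category.assoc, hχ]
      simp only [Category.assoc]
      rw [hψF' i])
    rw [hFd] at h1
    have h2 := (hboth i hi).2
    have h3 : Curv2.deg k X G s * (rF i : ℤ) * (r : ℤ) ≤
        Curv2.deg k X (Fs i) (rF i) * (s : ℤ) * (r : ℤ) := by
      have h4 := mul_le_mul_of_nonneg_right h1 (Int.natCast_nonneg (rF i))
      have h5 : Curv2.deg k X (Fs i) (rF i) * (s : ℤ) * (r : ℤ) = d * (rF i : ℤ) * (s : ℤ) := by
        rw [← h2]; ring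
      rw [h5]
      linarith
    exact le_of_mul_le_mul_right h3 hr0
  refine ⟨fun i hi _ => ⟨(hboth i hi).1, hEssi i hi⟩, fun i hi _ => ⟨(hboth i hi).2, hFssi i hi⟩, ?_⟩
  intro i hi hlt
  have hposi1 : 0 < rE (i + 1) := by omega
  haveI := ha_mono i
  have hinv : ψE i ≫ (Groth.Agent.Lib.T2H5.Twist.tr L).map (a i) = a i ≫ ψE (i + 1) := by
    haveI := hιE (i + 1)
    haveI : Mono ((Groth.Agent.Lib.T2H5.Twist.tr L).map (ιE (i + 1))) := inferInstance
    rw [← cancel_mono ((Groth.Agent.Lib.T2H5.Twist.tr L).map (ιE (i + 1))), Category.assoc,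
      ← Functor.map_comp, ha, hψE' i, Category.assoc, hψE' (i + 1), ← Category.assoc, ha]
  have hs1 := (hboth i (by omega)).1
  have hs2 := (hboth (i + 1) (by omega)).1
  have hslope : Curv2.deg k X (Es i) (rE i) * (rE (i + 1) : ℤ) =
      Curv2.deg k X (Es (i + 1)) (rE (i + 1)) * (rE i : ℤ) := by
    apply mul_right_cancel₀ (ne_of_gt hr0)
    calc Curv2.deg k X (Es i) (rE i) * (rE (i + 1) : ℤ) * (r : ℤ)
        = (Curv2.deg k X (Es i) (rE i) * (r : ℤ)) * (rE (i + 1) : ℤ) := by ring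
      _ = (Curv2.deg k X (Es (i + 1)) (rE (i + 1)) * (r : ℤ)) * (rE i : ℤ) := by
          rw [hs1, hs2]; ring
      _ = Curv2.deg k X (Es (i + 1)) (rE (i + 1)) * (rE i : ℤ) * (r : ℤ) := by ring
  have hQ : rE i ≤ rE (i + 1) ∧
      FlatMod.IsFinLocFreeOfRank (rE (i + 1) - rE i) (cokernel (a i)) := by
    rcases Nat.eq_zero_or_pos (rE i) with h0 | h0
    · have hz : IsZero (Es i) :=
        Groth.Agent.Lib.T2H6.CurveVB.isZero_of_rank_zero _ (h0 ▸ hEs i)
      have ha0 : a i = 0 := hz.eq_of_src _ _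
      refine ⟨by omega, ?_⟩
      rw [h0, Nat.sub_zero]
      exact Groth.Agent.Lib.Helper26.ModRank.isFinLocFreeOfRank_of_iso
        (cokernelIsoOfEq ha0 ≪≫ cokernelZeroIsoTarget).symm (hEs (i + 1))
    · exact Groth.Agent.Lib.T2H6.HiggsCurve.higgs_quotient_locFree k hdim hreg L hL (rE (i + 1))
        hposi1 (Es (i + 1)) (hEs (i + 1)) (ψE (i + 1)) (hEssi (i + 1) (by omega)) (Es i) (rE i) h0
        (hEs i) (a i) (ψE i) hinv hslope
  obtain ⟨hle, hQ'⟩ := hQ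
  refine ⟨hQ', ?_, ?_⟩
  · have hadd := Groth.Agent.Lib.T2H6.RankAdd.deg_additive k _
      (Groth.Agent.Lib.T2H6.CurveSub.sc_shortExact (a i)) (rE i) (rE (i + 1)) (rE (i + 1) - rE i)
      (hEs i) (hEs (i + 1)) hQ'
    change Curv2.deg k X (Es (i + 1)) (rE (i + 1)) = Curv2.deg k X (Es i) (rE i) +
      Curv2.deg k X (cokernel (a i)) (rE (i + 1) - rE i) at hadd
    rw [Nat.cast_sub hle]
    have : Curv2.deg k X (cokernel (a i)) (rE (i + 1) - rE i) =
        Curv2.deg k X (Es (i + 1)) (rE (i + 1)) - Curv2.deg k X (Es i) (rE i) := by linarith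
    rw [this, sub_mul, hs1, hs2]
    ring
  · exact Groth.Agent.Lib.T2H6.HiggsCurve.higgs_quotient_ss k hdim hreg L hL (rE (i + 1))
      hposi1 (Es (i + 1)) (hEs (i + 1)) (ψE (i + 1)) (hEssi (i + 1) (by omega)) (Es i) (rE i)
      (hEs i) (a i) hslope hle hQ'


end Groth.Agent.Lib.T2H6.HiggsCurve3
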