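import Mathlib
import Groth.Prelude.Def_BlowUp2
import Groth.Agent.Lib.T2H6SmCurveSch
import Groth.Agent.Lib.T2H3RelCartierB
set_option backward.isDefEq.respectTransparency.types false

/-!
# Relative effective Cartier divisors on relative smooth curves (helper6)

Namespace `Groth.Agent.Lib.T2H6.SmCurve`.

* `tmul_one_mem_nonZeroDivisors` : `b` regular on `B`, `B/(b)` flat over `A` ⟹ `b ⊗ 1` regular on `B ⊗_A κ`.
* `isEffCartier_comap_fiberι` : a relative effective Cartier divisor restricts to an effective Cartier divisor on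
  every fibre.
* `isDiscrete_preimage_singleton_iff` : the fibre of `V(I) → S` over `s` is discrete iff the support of the
  restriction of `I` to the fibre `X_s` is discrete.
* `locallyCurve_fiber` : fibres of a morphism smooth of relative dimension one are locally curves.
-/

set_option autoImplicit false
set_option linter.style.haveILetI false
set_option linter.unusedSectionVars false
universe u
open CategoryTheory CategoryTheory.Limits AlgebraicGeometry TopologicalSpace TensorProduct

namespace Groth.Agent.Lib.T2H6.SmCurve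

section Alg

/-- `b` regular on `B` with `B/(b)` flat over `A`: then `b ⊗ 1` is regular on `B ⊗_A κ`. -/
theorem tmul_one_mem_nonZeroDivisors {A B : Type u} [CommRing A] [CommRing B] [Algebra A B]
    (κ : Type u) [CommRing κ] [Algebra A κ] (b : B) (hb : b ∈ nonZeroDivisors B)
    (𝔟 : Ideal B) (h𝔟 : 𝔟 = Ideal.span {b}) [Module.Flat A (B ⧸ 𝔟)] :
    (b ⊗ₜ[A] (1 : κ)) ∈ nonZeroDivisors (B ⊗[A] κ) := by
  subst h𝔟
  let g : B →ₗ[A] B := LinearMap.mulLeft A b
  let f : B →ₗ[A] B ⧸ Ideal.span {b} := (Ideal.Quotient.mkₐ A (Ideal.span {b})).toLinearMap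
  have hg : Function.Injective g := by
    intro x y hxy
    have h1 : b * x = b * y := hxy
    have h2 : (x - y) * b = 0 := by rw [sub_mul, mul_comm x, mul_comm y, h1, sub_self]
    exact sub_eq_zero.mp ((mem_nonZeroDivisors_iff_right.mp hb) _ h2)
  have hf : Function.Surjective f := Ideal.Quotient.mk_surjective
  have H : Function.Exact g f := by
    intro y
    constructor
    · intro hy
      have h1 : y ∈ Ideal.span {b} := Ideal.Quotient.eq_zero_iff_mem.mp hy
      obtain ⟨x, hx⟩ := Ideal.mem_span_singleton'.mp h1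
      exact ⟨x, by show b * x = y; rw [mul_comm, hx]⟩
    · rintro ⟨x, rfl⟩
      exact Ideal.Quotient.eq_zero_iff_mem.mpr
        (Ideal.mul_mem_right _ _ (Ideal.mem_span_singleton_self b))
  have h1 := LinearMap.lTensor_injective_of_exact_of_flat f hf g hg H κ
  have h2 : Function.Injective (g.rTensor κ) := (g.lTensor_inj_iff_rTensor_inj κ).mp h1
  rw [mem_nonZeroDivisors_iff_right]
  intro z hz
  apply h2
  rw [map_zero]
  have h3 : ∀ z : B ⊗[A] κ, g.rTensor κ z = z * (b ⊗ₜ[A] (1 : κ)) := by
    intro z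
    induction z using TensorProduct.induction_on with
    | zero => rw [map_zero, zero_mul]
    | tmul x c =>
      rw [LinearMap.rTensor_tmul, Algebra.TensorProduct.tmul_mul_tmul, mul_one, mul_comm x b]
      rfl
    | add a a' ha ha' => rw [map_add, ha, ha', add_mul]
  rw [h3, hz]

/-- isomorphisms of rings preserve nonzerodivisors. -/
theorem nzd_of_isIso {A B : CommRingCat.{u}} (e : A ⟶ B) [IsIso e] (f : A)
    (hf : f ∈ nonZeroDivisors A) : e.hom f ∈ nonZeroDivisors B := by
  rw [mem_nonZeroDivisors_iff_right]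
  intro z hz
  have h1 : (inv e).hom z * f = 0 := by
    have h2 : (inv e).hom (z * e.hom f) = (inv e).hom z * f := by
      rw [map_mul]
      congr 1
      show (e ≫ inv e).hom f = f
      rw [IsIso.hom_inv_id]
      rfl
    rw [← h2, hz, map_zero]
  have h3 := (mem_nonZeroDivisors_iff_right.mp hf) _ h1
  have h4 : e.hom ((inv e).hom z) = z := by
    show (inv e ≫ e).hom z = z
    rw [IsIso.inv_hom_id]
    rfl
  rw [← h4, h3, map_zero]

end Alg

section Sch

open Groth.Agent.Lib.Helper20.EffCartier Groth.Agent.Lib.Helper3.FibEtSch Groth.Agent.Lib.T2H3.FibSchDense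

/-- the effective Cartier condition at a point can be checked on the source of an open immersion. -/
theorem exists_of_isEffCartier_comap_openImmersion {V Z : Scheme.{u}} (I : Z.IdealSheafData)
    (j : V ⟶ Z) [IsOpenImmersion j] (h : BlowUp.IsEffCartierIdeal (I.comap j)) (z : Z)
    (hz : z ∈ Set.range j) :
    ∃ U : Z.affineOpens, z ∈ U.1 ∧ ∃ f : Γ(Z, U.1), f ∈ nonZeroDivisors Γ(Z, U.1) ∧
      I.ideal U = Ideal.span {f} := by
  obtain ⟨v, rfl⟩ := hz
  obtain ⟨U', hvU', f', hf', hIf'⟩ := h v
  have hU : IsAffineOpen (j ''ᵁ U'.1) := U'.2.image_of_isOpenImmersion j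
  refine ⟨⟨j ''ᵁ U'.1, hU⟩, ⟨v, hvU', rfl⟩, (j.appIso U'.1).inv.hom f', ?_, ?_⟩
  · exact nzd_of_isIso (j.appIso U'.1).inv f' hf'
  · have h1 := Scheme.IdealSheafData.ideal_comap_of_isOpenImmersion I j U'
    rw [hIf'] at h1
    have h2 := comap_iso_hom_eq_map_inv (j.appIso U'.1) (I.ideal ⟨j ''ᵁ U'.1, hU⟩)
    rw [← h1] at h2
    have h3 := congrArg (Ideal.map (j.appIso U'.1).inv.hom) h2
    rw [Ideal.map_map, ← CommRingCat.hom_comp, Iso.hom_inv_id, Ideal.map_span,
      Set.image_singleton] at h3
    rw [h3]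
    exact (Ideal.map_id _).symm

/-- if `𝓘(U) = (b)` and the image of `b` in `R'` is a nonzerodivisor, the inverse image of `𝓘` along
`Spec R' ⟶ U ⊆ X` is effective Cartier. -/
theorem isEffCartier_comap_chart {X : Scheme.{u}} (𝓘 : X.IdealSheafData) {U : X.Opens}
    (hU : IsAffineOpen U) (b : Γ(X, U)) (hb : 𝓘.ideal ⟨U, hU⟩ = Ideal.span {b})
    {R' : CommRingCat.{u}} (ι : Γ(X, U) ⟶ R') (hιb : ι.hom b ∈ nonZeroDivisors R') :
    BlowUp.IsEffCartierIdeal (𝓘.comap (Spec.map ι ≫ hU.fromSpec)) := by
  intro y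
  have hle : (⊤ : (Spec R').Opens) ≤ (Spec.map ι ≫ hU.fromSpec) ⁻¹ᵁ U := by
    intro y _
    show (Spec.map ι ≫ hU.fromSpec) y ∈ U
    rw [Scheme.Hom.comp_apply]
    have h0 : hU.fromSpec ((Spec.map ι) y) ∈ Set.range hU.fromSpec := Set.mem_range_self _
    rw [hU.range_fromSpec] at h0
    exact h0
  have htop := ideal_comap_eq_map (Spec.map ι ≫ hU.fromSpec) 𝓘 (isAffineOpen_top (Spec R')) hU hle
  rw [hb, Ideal.map_span, Set.image_singleton,
    Groth.Agent.Lib.T2H3.RelCartier.appLE_SpecMap_fromSpec hU ι hle] at htop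
  refine ⟨⟨⊤, isAffineOpen_top (Spec R')⟩, trivial, (ι ≫ (Scheme.ΓSpecIso R').inv).hom b, ?_, htop⟩
  rw [CommRingCat.hom_comp, RingHom.comp_apply]
  exact nzd_of_isIso (Scheme.ΓSpecIso R').inv _ hιb

/-- **a relative effective Cartier divisor restricts to an effective Cartier divisor on every fibre.** -/
theorem isEffCartier_comap_fiberι {X S : Scheme.{u}} (f : X ⟶ S) (I : X.IdealSheafData)
    (hI : BlowUp.IsEffCartierIdeal I) [Flat (I.subschemeι ≫ f)] (s : S) :
    BlowUp.IsEffCartierIdeal (I.comap (f.fiberι s)) := by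
  intro x
  have hfx : f (f.fiberι s x) = s := by
    have h0 : f.fiberι s x ∈ Set.range (f.fiberι s) := ⟨x, rfl⟩
    rw [Scheme.Hom.range_fiberι] at h0
    exact h0
  obtain ⟨_, ⟨W, hW, rfl⟩, hsW, -⟩ := S.isBasis_affineOpens.exists_subset_of_mem_open
    (Set.mem_univ s) isOpen_univ
  have hx'W : f.fiberι s x ∈ f ⁻¹ᵁ W := by
    show f (f.fiberι s x) ∈ W
    rw [hfx]
    exact hsW
  obtain ⟨U, hU, hxU, hUW, b, hb, hIb⟩ := exists_le_of_isEffCartierIdeal hI _ (f ⁻¹ᵁ W) hx'W
  letI := (f.appLE W U hUW).hom.toAlgebra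
  haveI : Module.Flat Γ(S, W) (Γ(X, U) ⧸ I.ideal ⟨U, hU⟩) :=
    Groth.Agent.Lib.Helper20.RelCartier.flat_quotient_of_flat f I hW hU hUW
  obtain ⟨P, hP⟩ : ∃ P : Spec Γ(S, W), hW.fromSpec P = s :=
    ⟨hW.primeIdealOf ⟨s, hsW⟩, hW.fromSpec_primeIdealOf ⟨s, hsW⟩⟩
  obtain ⟨θ, hθiso, hθ⟩ := exists_residueField_iso hW P s hP
  haveI := hθiso
  obtain ⟨j, hjo, hj1, hj2⟩ := exists_fibre_chart_range f hW hU hUW P s θ hθ
  haveI : IsOpenImmersion j := hjo
  have hxj : x ∈ Set.range j := by
    rw [hj2]
    exact hxU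
  have hJ0 : BlowUp.IsEffCartierIdeal ((I.comap (f.fiberι s)).comap j) := by
    rw [← Scheme.IdealSheafData.comap_comp, hj1]
    refine isEffCartier_comap_chart I hU b hIb _ ?_
    exact tmul_one_mem_nonZeroDivisors P.asIdeal.ResidueField b hb (I.ideal ⟨U, hU⟩) hIb
  exact exists_of_isEffCartier_comap_openImmersion _ j hJ0 x hxj

end Sch

section Top

/-- discreteness of a preimage under an embedding. -/
theorem isDiscrete_preimage_iff {A B : Type*} [TopologicalSpace A] [TopologicalSpace B] {f : A → B}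
    (hf : Topology.IsEmbedding f) (s : Set B) :
    _root_.IsDiscrete (f ⁻¹' s) ↔ _root_.IsDiscrete (s ∩ Set.range f) := by
  constructor
  · intro h
    have h1 := h.image hf.isInducing
    rwa [Set.image_preimage_eq_inter_range] at h1
  · intro h
    have h1 := h.preimage hf.continuous.continuousOn hf.injective
    have h2 : f ⁻¹' (s ∩ Set.range f) = f ⁻¹' s := by
      ext a
      simp
    rwa [h2] at h1

/-- the fibre of `V(I) ⟶ S` over `s` is discrete iff the support of the restriction of `I` to the fibre `X_s` is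
discrete. -/
theorem isDiscrete_preimage_singleton_iff {X S : Scheme.{u}} (f : X ⟶ S) (I : X.IdealSheafData) (s : S) :
    _root_.IsDiscrete ((I.subschemeι ≫ f) ⁻¹' {s}) ↔
      _root_.IsDiscrete ((I.comap (f.fiberι s)).support : Set (f.fiber s)) := by
  have h1 : ((I.subschemeι ≫ f : I.subscheme ⟶ S) : I.subscheme → S) ⁻¹' {s} =
      I.subschemeι ⁻¹' (Set.range (f.fiberι s)) := by
    rw [Scheme.Hom.range_fiberι]
    ext z
    simp only [Set.mem_preimage, Set.mem_singleton_iff, Scheme.Hom.comp_apply]
  have h2 : ((I.comap (f.fiberι s)).support : Set (f.fiber s)) =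
      f.fiberι s ⁻¹' (Set.range I.subschemeι) := by
    rw [Scheme.IdealSheafData.support_comap, I.range_subschemeι]
    rfl
  rw [h1, h2, isDiscrete_preimage_iff I.subschemeι.isClosedEmbedding.isEmbedding,
    isDiscrete_preimage_iff (f.fiberι s).isEmbedding, Set.inter_comm]

end Top

section Fib

/-- fibres of a morphism smooth of relative dimension one are locally curves. -/
theorem locallyCurve_fiber {X S : Scheme.{u}} (f : X ⟶ S) [SmoothOfRelativeDimension 1 f] (s : S) :
    LocallyCurve (f.fiber s) := by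
  haveI : SmoothOfRelativeDimension 1 (f.fiberToSpecResidueField s) := by
    haveI := smoothOfRelativeDimension_isStableUnderBaseChange (n := 1)
    exact MorphismProperty.pullback_snd (P := @SmoothOfRelativeDimension 1) _ _ inferInstance
  exact locallyCurve_of_smooth (S.residueField s) (f.fiberToSpecResidueField s)

end Fib

section Main

/-- a locally principal closed subscheme is locally of finite presentation over the ambient scheme. -/
theorem locallyOfFinitePresentation_subschemeι_of_isEffCartier {X : Scheme.{u}} (I : X.IdealSheafData)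
    (hI : BlowUp.IsEffCartierIdeal I) : LocallyOfFinitePresentation I.subschemeι := by
  rw [HasRingHomProperty.iff_exists_appLE (P := @LocallyOfFinitePresentation)
    (RingHom.finitePresentation_stableUnderComposition.stableUnderCompositionWithLocalizationAway
      RingHom.finitePresentation_holdsForLocalizationAway).left]
  intro z
  obtain ⟨U, hzU, b, -, hIb⟩ := hI (I.subschemeι z)
  have hT : IsAffineOpen (I.subschemeι ⁻¹ᵁ U.1) := U.2.preimage I.subschemeι
  refine ⟨U, ⟨_, hT⟩, hzU, le_rfl, ?_⟩
  rw [Scheme.Hom.appLE_eq_app]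
  refine RingHom.FinitePresentation.of_surjective _ (I.subschemeι_app_surjective U) ?_
  rw [I.ker_subschemeι_app U, hIb]
  exact ⟨{b}, by simp⟩

/-- **relative effective Cartier divisors on a relative smooth curve**: `I` is the ideal of an effective Cartier
divisor flat over the base iff `V(I)` is locally quasi-finite, flat and locally of finite presentation over the
base. -/
theorem isEffCartier_and_flat_iff {X S : Scheme.{u}} (f : X ⟶ S) [SmoothOfRelativeDimension 1 f]
    (I : X.IdealSheafData) :
    (BlowUp.IsEffCartierIdeal I ∧ Flat (I.subschemeι ≫ f)) ↔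
      (LocallyQuasiFinite (I.subschemeι ≫ f) ∧ Flat (I.subschemeι ≫ f) ∧
        LocallyOfFinitePresentation (I.subschemeι ≫ f)) := by
  haveI : Smooth f := SmoothOfRelativeDimension.smooth 1 f
  constructor
  · rintro ⟨hI, hfl⟩
    haveI := hfl
    haveI := locallyOfFinitePresentation_subschemeι_of_isEffCartier I hI
    haveI : LocallyOfFinitePresentation (I.subschemeι ≫ f) := inferInstance
    refine ⟨?_, hfl, inferInstance⟩
    rw [locallyQuasiFinite_iff_isDiscrete_preimage_singleton]
    intro s
    rw [isDiscrete_preimage_singleton_iff]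
    exact isDiscrete_support_of_isEffCartier (locallyCurve_fiber f s) _
      (isEffCartier_comap_fiberι f I hI s)
  · rintro ⟨hqf, hfl, hfp⟩
    haveI := hfl
    haveI := hfp
    refine ⟨?_, hfl⟩
    apply Groth.Agent.Lib.T2H3.RelCartierB.isEffCartier_of_fibres f I
    intro s
    apply isEffCartierIdeal_of_isDiscrete_support (locallyCurve_fiber f s)
    rw [← isDiscrete_preimage_singleton_iff]
    exact (I.subschemeι ≫ f).isDiscrete_preimage_singleton s

end Main

end Groth.Agent.Lib.T2H6.SmCurve
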