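import Mathlib
import Groth.Prelude.Def_BlowUp2
import Groth.Agent.Lib.T2H6SmCurveDeg
import Groth.Agent.Lib.T2H6SmCurveRel
set_option backward.isDefEq.respectTransparency.types false

/-!
# Additivity of the degree of relative effective Cartier divisors on a relative smooth curve (helper6)

Namespace `Groth.Agent.Lib.T2H6.SmCurve`.

* `comap_mul` : inverse image of ideal sheaves commutes with products.
* `finrank_fiber_subscheme` : the degree of `V(I) ⟶ S` at `y` is the degree over `κ(y)` of the closed subscheme of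
  the fibre `X_y` cut out by the inverse image of `I`.
* `finrank_mul_eq_add_rel` : `deg_y (D₁ + D₂) = deg_y D₁ + deg_y D₂` for relative effective Cartier divisors finite
  and flat over the base of a relative smooth curve.
-/

set_option autoImplicit false
set_option linter.style.haveILetI false
set_option linter.unusedSectionVars false
universe u
open CategoryTheory CategoryTheory.Limits AlgebraicGeometry TopologicalSpace

namespace Groth.Agent.Lib.T2H6.SmCurve

open Groth.Agent.Lib.Helper20.EffCartier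

/-- inverse image of ideal sheaves commutes with products. -/
theorem comap_mul {Y X : Scheme.{u}} (h : Y ⟶ X) (I₁ I₂ : X.IdealSheafData) :
    (I₁ * I₂).comap h = I₁.comap h * I₂.comap h := by
  refine Scheme.IdealSheafData.ext_of_iSup_eq_top
    (ι := {p : Y.affineOpens × X.affineOpens // p.1.1 ≤ h ⁻¹ᵁ p.2.1}) (fun p => p.1.1) ?_ ?_
  · rw [eq_top_iff]
    intro y _
    obtain ⟨V, hV, hyV, -⟩ := TopologicalSpace.Opens.isBasis_iff_nbhd.mp X.isBasis_affineOpens
      (TopologicalSpace.Opens.mem_top (h y))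
    obtain ⟨U, hU, hyU, hUV⟩ := TopologicalSpace.Opens.isBasis_iff_nbhd.mp Y.isBasis_affineOpens
      (show y ∈ h ⁻¹ᵁ V from hyV)
    exact TopologicalSpace.Opens.mem_iSup.mpr ⟨⟨(⟨U, hU⟩, ⟨V, hV⟩), hUV⟩, hyU⟩
  · rintro ⟨⟨U, V⟩, hUV⟩
    have e12 := ideal_comap_eq_map h (I₁ * I₂) U.2 V.2 hUV
    have e1 := ideal_comap_eq_map h I₁ U.2 V.2 hUV
    have e2 := ideal_comap_eq_map h I₂ U.2 V.2 hUV
    show ((I₁ * I₂).comap h).ideal U = (I₁.comap h * I₂.comap h).ideal U
    rw [Scheme.IdealSheafData.ideal_mul, Pi.mul_apply]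
    show ((I₁ * I₂).comap h).ideal ⟨U.1, U.2⟩ =
      (I₁.comap h).ideal ⟨U.1, U.2⟩ * (I₂.comap h).ideal ⟨U.1, U.2⟩
    rw [e12, e1, e2, Scheme.IdealSheafData.ideal_mul, Pi.mul_apply, Ideal.map_mul]

section Fib

variable {X S : Scheme.{u}} (f : X ⟶ S) (I : X.IdealSheafData)

/-- the degree of `V(I) ⟶ S` at `y` is computed on the fibre. -/
theorem finrank_fiber_subscheme [IsFinite (I.subschemeι ≫ f)] [Flat (I.subschemeι ≫ f)] (y : S) :
    IsFinite ((I.comap (f.fiberι y)).subschemeι ≫ f.fiberToSpecResidueField y) ∧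
    Flat ((I.comap (f.fiberι y)).subschemeι ≫ f.fiberToSpecResidueField y) ∧
    ∀ pt, ((I.comap (f.fiberι y)).subschemeι ≫ f.fiberToSpecResidueField y).finrank pt =
      (I.subschemeι ≫ f).finrank y := by
  have hbot : IsPullback (f.fiberι y) (f.fiberToSpecResidueField y) f (S.fromSpecResidueField y) :=
    IsPullback.of_hasPullback f (S.fromSpecResidueField y)
  have htop : IsPullback (pullback.snd (f.fiberι y) I.subschemeι)
      (pullback.fst (f.fiberι y) I.subschemeι) I.subschemeι (f.fiberι y) :=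
    (IsPullback.of_hasPullback (f.fiberι y) I.subschemeι).flip
  have hbig := htop.paste_vert hbot
  have hfin : IsFinite (pullback.fst (f.fiberι y) I.subschemeι ≫ f.fiberToSpecResidueField y) :=
    MorphismProperty.of_isPullback (P := @IsFinite) hbig inferInstance
  have hflat : Flat (pullback.fst (f.fiberι y) I.subschemeι ≫ f.fiberToSpecResidueField y) :=
    MorphismProperty.of_isPullback (P := @Flat) hbig inferInstance
  have hfac : (I.comap (f.fiberι y)).subschemeι ≫ f.fiberToSpecResidueField y =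
      (I.comapIso (f.fiberι y)).hom ≫
        (pullback.fst (f.fiberι y) I.subschemeι ≫ f.fiberToSpecResidueField y) := by
    rw [← Category.assoc, Scheme.IdealSheafData.comapIso_hom_fst]
  refine ⟨?_, ?_, ?_⟩
  · rw [hfac]
    infer_instance
  · rw [hfac]
    infer_instance
  · intro pt
    rw [hfac, Scheme.Hom.finrank_comp_left_of_isIso,
      Scheme.Hom.finrank_of_isPullback _ _ _ _ hbig pt, Scheme.fromSpecResidueField_apply]

end Fib

section PDA

variable {X S : Scheme.{u}} (f : X ⟶ S) [SmoothOfRelativeDimension 1 f]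

/-- **additivity of the degree** of relative effective Cartier divisors which are finite over the base of a
relative smooth curve. -/
theorem finrank_mul_eq_add_rel (I₁ I₂ : X.IdealSheafData) (h₁ : BlowUp.IsEffCartierIdeal I₁)
    (h₂ : BlowUp.IsEffCartierIdeal I₂)
    [IsFinite (I₁.subschemeι ≫ f)] [Flat (I₁.subschemeι ≫ f)]
    [IsFinite (I₂.subschemeι ≫ f)] [Flat (I₂.subschemeι ≫ f)]
    [IsFinite ((I₁ * I₂).subschemeι ≫ f)] [Flat ((I₁ * I₂).subschemeι ≫ f)] (y : S) :
    ((I₁ * I₂).subschemeι ≫ f).finrank y =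
      (I₁.subschemeι ≫ f).finrank y + (I₂.subschemeι ≫ f).finrank y := by
  letI : (f.fiber y).Over (Spec (CommRingCat.of (S.residueField y))) :=
    ⟨f.fiberToSpecResidueField y⟩
  obtain ⟨a1, b1, c1⟩ := finrank_fiber_subscheme f I₁ y
  obtain ⟨a2, b2, c2⟩ := finrank_fiber_subscheme f I₂ y
  obtain ⟨a3, b3, c3⟩ := finrank_fiber_subscheme f (I₁ * I₂) y
  rw [comap_mul] at a3 b3 c3
  have hJ₁ := isEffCartier_comap_fiberι f I₁ h₁ y
  have hJ₂ := isEffCartier_comap_fiberι f I₂ h₂ y
  haveI : IsFinite ((I₁.comap (f.fiberι y)).subschemeι ≫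
      ((f.fiber y) ↘ Spec (CommRingCat.of (S.residueField y)))) := a1
  haveI : Flat ((I₁.comap (f.fiberι y)).subschemeι ≫
      ((f.fiber y) ↘ Spec (CommRingCat.of (S.residueField y)))) := b1
  haveI : IsFinite ((I₂.comap (f.fiberι y)).subschemeι ≫
      ((f.fiber y) ↘ Spec (CommRingCat.of (S.residueField y)))) := a2
  haveI : Flat ((I₂.comap (f.fiberι y)).subschemeι ≫
      ((f.fiber y) ↘ Spec (CommRingCat.of (S.residueField y)))) := b2
  haveI : IsFinite ((I₁.comap (f.fiberι y) * I₂.comap (f.fiberι y)).subschemeι ≫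
      ((f.fiber y) ↘ Spec (CommRingCat.of (S.residueField y)))) := a3
  haveI : Flat ((I₁.comap (f.fiberι y) * I₂.comap (f.fiberι y)).subschemeι ≫
      ((f.fiber y) ↘ Spec (CommRingCat.of (S.residueField y)))) := b3
  have key := finrank_mul_eq_add (S.residueField y) (f.fiber y) (locallyCurve_fiber f y)
    (I₁.comap (f.fiberι y)) (I₂.comap (f.fiberι y)) hJ₁ hJ₂
    (IsLocalRing.closedPoint (S.residueField y))
  rw [← c1 (IsLocalRing.closedPoint (S.residueField y)),
    ← c2 (IsLocalRing.closedPoint (S.residueField y)),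
    ← c3 (IsLocalRing.closedPoint (S.residueField y))]
  exact key

end PDA

end Groth.Agent.Lib.T2H6.SmCurve
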