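import Mathlib
import Groth.Prelude.Def_BlowUp2
import Groth.Agent.Lib.T2H6SmCurveDegRel
import Groth.Agent.Lib.T2H6Chevalley
import Groth.Agent.Lib.T2H6ColonIdeal
import Groth.Agent.S1702
import Groth.Agent.S1710
set_option backward.isDefEq.respectTransparency.types false

/-!
# Sums and differences of relative effective Cartier divisors on a relative smooth curve (helper6)

Namespace `Groth.Agent.Lib.T2H6.SmCurve`.
-/

set_option autoImplicit false
set_option linter.style.haveILetI false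
set_option linter.unusedSectionVars false
universe u
open CategoryTheory CategoryTheory.Limits AlgebraicGeometry TopologicalSpace

namespace Groth.Agent.Lib.T2H6.SmCurve

section Gen

variable {X : Scheme.{u}}

theorem mul_le_left' (I J : X.IdealSheafData) : I * J ≤ I := by
  intro U
  rw [Scheme.IdealSheafData.ideal_mul]
  show I.ideal U * J.ideal U ≤ I.ideal U
  exact Ideal.mul_le_left (I := I.ideal U) (J := J.ideal U)

theorem mul_le_right' (I J : X.IdealSheafData) : I * J ≤ J := by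
  intro U
  rw [Scheme.IdealSheafData.ideal_mul]
  show I.ideal U * J.ideal U ≤ J.ideal U
  exact Ideal.mul_le_right (I := I.ideal U) (J := J.ideal U)

theorem isClosedImmersion_inclusion {I J : X.IdealSheafData} (h : I ≤ J) :
    IsClosedImmersion (Scheme.IdealSheafData.inclusion h) := by
  haveI : IsClosedImmersion (Scheme.IdealSheafData.inclusion h ≫ I.subschemeι) := by
    rw [Scheme.IdealSheafData.inclusion_subschemeι]
    infer_instance
  exact IsClosedImmersion.of_comp_isClosedImmersion (Scheme.IdealSheafData.inclusion h) I.subschemeι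

/-- if `K * L = M` with `L`, `M` effective Cartier then `K` is effective Cartier. -/
theorem isEffCartier_of_mul_eq (K L M : X.IdealSheafData) (hL : BlowUp.IsEffCartierIdeal L)
    (hM : BlowUp.IsEffCartierIdeal M) (h : K * L = M) : BlowUp.IsEffCartierIdeal K := by
  intro x
  obtain ⟨U, hU, hxU, -, l, m, hl, hm, hLl, hMm⟩ :=
    Groth.Agent.Lib.Helper20.RelCartier.exists_common hL hM x ⊤ trivial
  have hmul : K.ideal ⟨U, hU⟩ * L.ideal ⟨U, hU⟩ = M.ideal ⟨U, hU⟩ := by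
    rw [← h, Scheme.IdealSheafData.ideal_mul]
    rfl
  rw [hLl, hMm] at hmul
  have h1 : m ∈ K.ideal ⟨U, hU⟩ * Ideal.span {l} := by
    rw [hmul]
    exact Ideal.mem_span_singleton_self m
  obtain ⟨k₀, hk₀, hk₀m⟩ := Ideal.mem_mul_span_singleton.mp h1
  have hk₀nzd : k₀ ∈ nonZeroDivisors Γ(X, U) := by
    rw [mem_nonZeroDivisors_iff_right]
    intro z hz
    apply (mem_nonZeroDivisors_iff_right.mp hm) z
    rw [← hk₀m, ← mul_assoc, hz, zero_mul]
  refine ⟨⟨U, hU⟩, hxU, k₀, hk₀nzd, le_antisymm ?_ ?_⟩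
  · intro k hk
    have h2 : k * l ∈ Ideal.span {m} := by
      rw [← hmul]
      exact Ideal.mul_mem_mul hk (Ideal.mem_span_singleton_self l)
    obtain ⟨c, hc⟩ := Ideal.mem_span_singleton'.mp h2
    have h3 : (k - c * k₀) * l = 0 := by
      rw [sub_mul, mul_assoc, hk₀m, hc, sub_self]
    have h4 : k - c * k₀ = 0 := (mem_nonZeroDivisors_iff_right.mp hl) _ h3
    rw [Ideal.mem_span_singleton']
    exact ⟨c, (sub_eq_zero.mp h4).symm⟩
  · rw [Ideal.span_singleton_le_iff_mem]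
    exact hk₀

end Gen

section Rel

variable {X S : Scheme.{u}} (f : X ⟶ S)

/-- `V(I₁ I₂) ⟶ S` is proper when `V(I₁)` and `V(I₂)` are finite over `S` and it is locally of finite type. -/
theorem isProper_subschemeι_mul_comp (I₁ I₂ : X.IdealSheafData) [IsFinite (I₁.subschemeι ≫ f)]
    [IsFinite (I₂.subschemeι ≫ f)] [LocallyOfFiniteType ((I₁ * I₂).subschemeι ≫ f)] :
    IsProper ((I₁ * I₂).subschemeι ≫ f) := by
  have le₁ : I₁ * I₂ ≤ I₁ := mul_le_left' I₁ I₂
  have le₂ : I₁ * I₂ ≤ I₂ := mul_le_right' I₁ I₂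
  let u₁ := Scheme.IdealSheafData.inclusion le₁
  let u₂ := Scheme.IdealSheafData.inclusion le₂
  haveI : IsClosedImmersion u₁ := isClosedImmersion_inclusion le₁
  haveI : IsClosedImmersion u₂ := isClosedImmersion_inclusion le₂
  let π : I₁.subscheme ⨿ I₂.subscheme ⟶ (I₁ * I₂).subscheme := coprod.desc u₁ u₂
  haveI : Surjective π := by
    refine ⟨fun z => ?_⟩
    have hz : (I₁ * I₂).subschemeι z ∈ (I₁ * I₂).support := by
      have : (I₁ * I₂).subschemeι z ∈ Set.range (I₁ * I₂).subschemeι := ⟨z, rfl⟩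
      rw [(I₁ * I₂).range_subschemeι] at this
      exact this
    rw [Scheme.IdealSheafData.support_mul] at hz
    rcases hz with hz | hz
    · rw [← I₁.range_subschemeι] at hz
      obtain ⟨z₁, hz₁⟩ := hz
      refine ⟨(coprod.inl : I₁.subscheme ⟶ I₁.subscheme ⨿ I₂.subscheme) z₁, ?_⟩
      rw [← Scheme.Hom.comp_apply, coprod.inl_desc]
      apply (I₁ * I₂).subschemeι.isClosedEmbedding.injective
      rw [← Scheme.Hom.comp_apply, Scheme.IdealSheafData.inclusion_subschemeι]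
      exact hz₁
    · rw [← I₂.range_subschemeι] at hz
      obtain ⟨z₂, hz₂⟩ := hz
      refine ⟨(coprod.inr : I₂.subscheme ⟶ I₁.subscheme ⨿ I₂.subscheme) z₂, ?_⟩
      rw [← Scheme.Hom.comp_apply, coprod.inr_desc]
      apply (I₁ * I₂).subschemeι.isClosedEmbedding.injective
      rw [← Scheme.Hom.comp_apply, Scheme.IdealSheafData.inclusion_subschemeι]
      exact hz₂
  have hπg : π ≫ ((I₁ * I₂).subschemeι ≫ f) = coprod.desc (I₁.subschemeι ≫ f) (I₂.subschemeι ≫ f) := by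
    apply coprod.hom_ext
    · rw [coprod.inl_desc, ← Category.assoc, coprod.inl_desc, ← Category.assoc,
        Scheme.IdealSheafData.inclusion_subschemeι]
    · rw [coprod.inr_desc, ← Category.assoc, coprod.inr_desc, ← Category.assoc,
        Scheme.IdealSheafData.inclusion_subschemeι]
  haveI : IsFinite (π ≫ ((I₁ * I₂).subschemeι ≫ f)) := by
    rw [hπg]
    infer_instance
  haveI : IsFinite π := inferInstance
  haveI : IsSeparated ((I₁ * I₂).subschemeι ≫ f) :=
    Groth.Agent.Lib.T2H6.Chevalley.isSeparated_of_comp_surjective π _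
  haveI : UniversallyClosed ((I₁ * I₂).subschemeι ≫ f) :=
    UniversallyClosed.of_comp_surjective π _
  exact { }

end Rel

section Main

variable {X S : Scheme.{u}} (f : X ⟶ S) [SmoothOfRelativeDimension 1 f]

/-- **sum of relative effective Cartier divisors of degrees `d₁`, `d₂` on a relative smooth curve.** -/
theorem isFinLocFreeOfDeg_mul (I₁ I₂ : X.IdealSheafData) (d₁ d₂ : ℕ)
    (h₁ : Mor2.IsFinLocFreeOfDeg d₁ (I₁.subschemeι ≫ f))
    (h₂ : Mor2.IsFinLocFreeOfDeg d₂ (I₂.subschemeι ≫ f)) :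
    Mor2.IsFinLocFreeOfDeg (d₁ + d₂) ((I₁ * I₂).subschemeι ≫ f) := by
  obtain ⟨⟨hfin₁, hfl₁, hfp₁⟩, hd₁⟩ := h₁
  obtain ⟨⟨hfin₂, hfl₂, hfp₂⟩, hd₂⟩ := h₂
  haveI := hfin₁
  haveI := hfin₂
  haveI := hfl₁
  haveI := hfl₂
  haveI : Smooth f := SmoothOfRelativeDimension.smooth 1 f
  have hE₁ := ((isEffCartier_and_flat_iff f I₁).mpr ⟨inferInstance, hfl₁, hfp₁⟩).1
  have hE₂ := ((isEffCartier_and_flat_iff f I₂).mpr ⟨inferInstance, hfl₂, hfp₂⟩).1
  obtain ⟨hE, hfl⟩ := Groth.Agent.S1702.result f I₁ I₂ ⟨hE₁, hfl₁⟩ ⟨hE₂, hfl₂⟩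
  obtain ⟨hqf, -, hfp⟩ := (isEffCartier_and_flat_iff f (I₁ * I₂)).mp ⟨hE, hfl⟩
  haveI := hfl
  haveI := hfp
  haveI := hqf
  haveI : LocallyOfFiniteType ((I₁ * I₂).subschemeι ≫ f) := inferInstance
  haveI := isProper_subschemeι_mul_comp f I₁ I₂
  haveI : IsFinite ((I₁ * I₂).subschemeι ≫ f) := IsFinite.of_isProper_of_locallyQuasiFinite _
  refine ⟨⟨inferInstance, hfl, hfp⟩, fun y => ?_⟩
  rw [finrank_mul_eq_add_rel f I₁ I₂ hE₁ hE₂ y, hd₁ y, hd₂ y]

/-- **difference of relative effective Cartier divisors on a relative smooth curve.** -/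
theorem exists_isFinLocFreeOfDeg_of_le (I₁ I₂ : X.IdealSheafData) (hle : I₂ ≤ I₁) (d₁ d₂ : ℕ)
    (h₁ : Mor2.IsFinLocFreeOfDeg d₁ (I₁.subschemeι ≫ f))
    (h₂ : Mor2.IsFinLocFreeOfDeg d₂ (I₂.subschemeι ≫ f)) :
    ∃ I : X.IdealSheafData, Mor2.IsFinLocFreeOfDeg (d₂ - d₁) (I.subschemeι ≫ f) ∧ I₂ = I₁ * I := by
  obtain ⟨⟨hfin₁, hfl₁, hfp₁⟩, hd₁⟩ := h₁
  obtain ⟨⟨hfin₂, hfl₂, hfp₂⟩, hd₂⟩ := h₂
  haveI := hfin₁
  haveI := hfin₂
  haveI := hfl₁
  haveI := hfl₂
  haveI : Smooth f := SmoothOfRelativeDimension.smooth 1 f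
  have hE₁ := ((isEffCartier_and_flat_iff f I₁).mpr ⟨inferInstance, hfl₁, hfp₁⟩).1
  have hE₂ := ((isEffCartier_and_flat_iff f I₂).mpr ⟨inferInstance, hfl₂, hfp₂⟩).1
  obtain ⟨I, hI⟩ := Groth.Agent.Lib.T2H6.ColonIdeal.exists_mul_eq I₂ I₁ hE₁ hle
  have hsum : I₁ * I = I₂ := by rw [mul_comm]; exact hI
  have hE : BlowUp.IsEffCartierIdeal I := isEffCartier_of_mul_eq I I₁ I₂ hE₁ hE₂ hI
  have hfl : Flat (I.subschemeι ≫ f) :=
    Groth.Agent.S1710.result f I₁ I₂ I ⟨hE₁, hfl₁⟩ ⟨hE₂, hfl₂⟩ hE hsum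
  haveI := hfl
  haveI := locallyOfFinitePresentation_subschemeι_of_isEffCartier I hE
  have hfp : LocallyOfFinitePresentation (I.subschemeι ≫ f) := inferInstance
  have hle' : I₂ ≤ I := by
    rw [← hI]
    exact mul_le_left' I I₁
  haveI : IsClosedImmersion (Scheme.IdealSheafData.inclusion hle') := isClosedImmersion_inclusion hle'
  haveI hfin : IsFinite (I.subschemeι ≫ f) := by
    rw [← Scheme.IdealSheafData.inclusion_subschemeι hle', Category.assoc]
    infer_instance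
  refine ⟨I, ⟨⟨hfin, hfl, hfp⟩, fun y => ?_⟩, hsum.symm⟩
  subst hsum
  have key := finrank_mul_eq_add_rel f I₁ I hE₁ hE y
  rw [hd₁ y, hd₂ y] at key
  omega

end Main

end Groth.Agent.Lib.T2H6.SmCurve
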