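import Mathlib
import Groth.Prelude.Def_BlowUp2
import Groth.Agent.Lib.T2H6SmCurveSum
set_option backward.isDefEq.respectTransparency.types false

/-!
# Cancellation for relative effective Cartier divisors on a relative smooth curve (helper6)

Namespace `Groth.Agent.Lib.T2H6.SmCurve`.
-/

set_option autoImplicit false
set_option linter.style.haveILetI false
set_option linter.unusedSectionVars false
universe u
open CategoryTheory CategoryTheory.Limits AlgebraicGeometry TopologicalSpace

namespace Groth.Agent.Lib.T2H6.SmCurve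

section Gen

variable {X : Scheme.{u}}

/-- cancellation of an effective Cartier ideal sheaf. -/
theorem mul_left_cancel_of_isEffCartier (L K K' : X.IdealSheafData) (hL : BlowUp.IsEffCartierIdeal L)
    (h : L * K = L * K') : K = K' := by
  choose U hxU l hl hLl using hL
  refine Scheme.IdealSheafData.ext_of_iSup_eq_top U ?_ ?_
  · rw [eq_top_iff]
    intro x _
    exact TopologicalSpace.Opens.mem_iSup.mpr ⟨x, hxU x⟩
  · intro x
    have h1 : L.ideal (U x) * K.ideal (U x) = L.ideal (U x) * K'.ideal (U x) := by
      have := congrArg (fun I : X.IdealSheafData => I.ideal (U x)) h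
      simp only [Scheme.IdealSheafData.ideal_mul] at this
      exact this
    rw [hLl x] at h1
    have key : ∀ (A B : Ideal Γ(X, (U x).1)), Ideal.span {l x} * A = Ideal.span {l x} * B → A ≤ B := by
      intro A B hAB a ha
      have h2 : l x * a ∈ Ideal.span {l x} * B := by
        rw [← hAB]
        exact Ideal.mul_mem_mul (Ideal.mem_span_singleton_self _) ha
      obtain ⟨b, hb, hba⟩ := Ideal.mem_span_singleton_mul.mp h2
      have h3 : b = a := by
        have h4 : (b - a) * l x = 0 := by
          rw [sub_mul, mul_comm b, mul_comm a, hba, sub_self]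
        have := (mem_nonZeroDivisors_iff_right.mp (hl x)) _ h4
        exact sub_eq_zero.mp this
      rw [← h3]
      exact hb
    exact le_antisymm (key _ _ h1) (key _ _ h1.symm)

end Gen

section Main

variable {X S : Scheme.{u}} (f : X ⟶ S) [SmoothOfRelativeDimension 1 f]

/-- a finite locally free relative divisor on a relative smooth curve is effective Cartier. -/
theorem isEffCartier_of_isFinLocFreeOfDeg (I : X.IdealSheafData) (d : ℕ)
    (h : Mor2.IsFinLocFreeOfDeg d (I.subschemeι ≫ f)) : BlowUp.IsEffCartierIdeal I := by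
  obtain ⟨⟨hfin, hfl, hfp⟩, -⟩ := h
  haveI := hfin
  haveI := hfl
  exact ((isEffCartier_and_flat_iff f I).mpr ⟨inferInstance, hfl, hfp⟩).1

/-- a relative divisor of degree `0` is empty. -/
theorem eq_top_of_isFinLocFreeOfDeg_zero (K : X.IdealSheafData)
    (h : Mor2.IsFinLocFreeOfDeg 0 (K.subschemeι ≫ f)) : K = ⊤ := by
  obtain ⟨⟨hfin, hfl, hfp⟩, hd⟩ := h
  haveI := hfin
  haveI := hfl
  haveI := hfp
  rw [← Scheme.IdealSheafData.support_eq_bot_iff]
  by_contra hne
  have hne' : (K.support : Set X).Nonempty := by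
    rw [Set.nonempty_iff_ne_empty]
    intro hemp
    apply hne
    ext1
    exact hemp
  obtain ⟨x, hx⟩ := hne'
  have hx' : x ∈ Set.range K.subschemeι := by
    rw [K.range_subschemeι]
    exact hx
  obtain ⟨z, rfl⟩ := hx'
  have := Scheme.Hom.one_le_finrank_map (K.subschemeι ≫ f) z
  rw [hd] at this
  omega

/-- two comparable relative divisors of the same degree are equal. -/
theorem eq_of_le_of_isFinLocFreeOfDeg (I₁ I₂ : X.IdealSheafData) (hle : I₂ ≤ I₁) (d : ℕ)
    (h₁ : Mor2.IsFinLocFreeOfDeg d (I₁.subschemeι ≫ f))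
    (h₂ : Mor2.IsFinLocFreeOfDeg d (I₂.subschemeι ≫ f)) : I₂ = I₁ := by
  obtain ⟨K, hK, hK2⟩ := exists_isFinLocFreeOfDeg_of_le f I₁ I₂ hle d d h₁ h₂
  rw [Nat.sub_self] at hK
  rw [hK2, eq_top_of_isFinLocFreeOfDeg_zero f K hK]
  exact mul_one I₁

end Main

end Groth.Agent.Lib.T2H6.SmCurve
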