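import Mathlib
import Groth.Prelude.Def_BlowUp2
import Groth.Agent.Lib.T2H6SmCurveFlag
set_option backward.isDefEq.respectTransparency.types false

/-!
# Sections of a separated relative smooth curve as relative divisors of degree one (helper6)

Namespace `Groth.Agent.Lib.T2H6.SmCurve`.
-/

set_option autoImplicit false
set_option linter.style.haveILetI false
set_option linter.unusedSectionVars false
universe u
open CategoryTheory CategoryTheory.Limits AlgebraicGeometry TopologicalSpace

namespace Groth.Agent.Lib.T2H6.SmCurve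

section Gen

/-- the kernel of the base change of a closed immersion is the pullback of the kernel. -/
theorem ker_of_isPullback {ZX ZY X Y : Scheme.{u}} (iX : ZX ⟶ X) (iY : ZY ⟶ Y) (Zf : ZX ⟶ ZY)
    (f : X ⟶ Y) [IsClosedImmersion iY] (h : IsPullback iX Zf f iY) :
    iX.ker = iY.ker.comap f := by
  rw [← h.isoPullback_hom_fst, Scheme.Hom.ker_comp_of_isIso,
    Scheme.IdealSheafData.ker_fst_of_isClosedImmersion]

theorem comap_le_ker_iff {W X Y : Scheme.{u}} (I : Y.IdealSheafData) (p : X ⟶ Y) (h : W ⟶ X) :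
    I.comap p ≤ h.ker ↔ I ≤ (h ≫ p).ker := by
  rw [← Scheme.IdealSheafData.le_map_iff_comap_le, Scheme.IdealSheafData.map_ker]

theorem comap_prod {X Y : Scheme.{u}} (p : X ⟶ Y) {ι : Type*} (s : Finset ι)
    (J : ι → Y.IdealSheafData) :
    (∏ i ∈ s, J i).comap p = ∏ i ∈ s, (J i).comap p := by
  classical
  induction s using Finset.induction_on with
  | empty =>
    rw [Finset.prod_empty, Finset.prod_empty, Scheme.IdealSheafData.one_eq_top,
      Scheme.IdealSheafData.one_eq_top, Scheme.IdealSheafData.comap_top]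
  | insert a s ha ih =>
    rw [Finset.prod_insert ha, Finset.prod_insert ha, comap_mul, ih]

variable {Y B : Scheme.{u}} (g : Y ⟶ B)

theorem isClosedImmersion_of_section [IsSeparated g] (σ : B ⟶ Y) (hσ : σ ≫ g = 𝟙 B) :
    IsClosedImmersion σ := by
  haveI : IsClosedImmersion (σ ≫ g) := by
    rw [hσ]
    infer_instance
  exact IsClosedImmersion.of_comp σ g

/-- the graph of a section of a separated morphism is a relative divisor of degree one. -/
theorem isFinLocFreeOfDeg_one_ker_section [IsSeparated g] (σ : B ⟶ Y) (hσ : σ ≫ g = 𝟙 B) :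
    Mor2.IsFinLocFreeOfDeg 1 (σ.ker.subschemeι ≫ g) := by
  haveI := isClosedImmersion_of_section g σ hσ
  haveI : IsIso σ.toImage := inferInstance
  have hfac : σ.ker.subschemeι ≫ g = inv σ.toImage := by
    rw [← cancel_epi σ.toImage, IsIso.hom_inv_id, ← Category.assoc, Scheme.Hom.toImage_imageι, hσ]
  haveI : IsIso (σ.ker.subschemeι ≫ g) := by
    rw [hfac]
    infer_instance
  refine ⟨⟨inferInstance, inferInstance, inferInstance⟩, fun y => ?_⟩
  rw [Scheme.Hom.finrank_eq_one_of_isIso]
  rfl

variable {Y' B' : Scheme.{u}} {g} {p : Y' ⟶ Y} {g' : Y' ⟶ B'} {b : B' ⟶ B}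

/-- the base change of a section is the pullback of the section. -/
theorem isPullback_section (h : IsPullback p g' g b) (σ : B ⟶ Y) (hσ : σ ≫ g = 𝟙 B)
    (σ' : B' ⟶ Y') (hσ' : σ' ≫ g' = 𝟙 B') (hp : σ' ≫ p = b ≫ σ) : IsPullback σ' b p σ := by
  refine IsPullback.of_right ?_ hp h.flip
  rw [hσ, hσ']
  exact IsPullback.of_horiz_isIso ⟨by simp⟩

theorem ker_section_comap [IsSeparated g] (h : IsPullback p g' g b) (σ : B ⟶ Y) (hσ : σ ≫ g = 𝟙 B)
    (σ' : B' ⟶ Y') (hσ' : σ' ≫ g' = 𝟙 B') (hp : σ' ≫ p = b ≫ σ) :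
    σ'.ker = σ.ker.comap p := by
  haveI := isClosedImmersion_of_section g σ hσ
  exact ker_of_isPullback σ' σ b p (isPullback_section h σ hσ σ' hσ' hp)

/-- base change of a finite locally free relative divisor of degree `d`. -/
theorem isFinLocFreeOfDeg_comap (h : IsPullback p g' g b) (I : Y.IdealSheafData) (d : ℕ)
    (hI : Mor2.IsFinLocFreeOfDeg d (I.subschemeι ≫ g)) :
    Mor2.IsFinLocFreeOfDeg d ((I.comap p).subschemeι ≫ g') := by
  obtain ⟨⟨h1, h2, h3⟩, hd⟩ := hI
  have hpb : IsPullback (pullback.snd p I.subschemeι) (pullback.fst p I.subschemeι ≫ g')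
      (I.subschemeι ≫ g) b :=
    (IsPullback.of_hasPullback p I.subschemeι).flip.paste_vert h
  haveI : IsFinite (pullback.fst p I.subschemeι ≫ g') := MorphismProperty.of_isPullback hpb h1
  haveI : Flat (pullback.fst p I.subschemeι ≫ g') := MorphismProperty.of_isPullback hpb h2
  haveI : LocallyOfFinitePresentation (pullback.fst p I.subschemeι ≫ g') :=
    MorphismProperty.of_isPullback hpb h3
  have e1 : (I.comap p).subschemeι ≫ g' = (I.comapIso p).hom ≫ (pullback.fst p I.subschemeι ≫ g') := by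
    rw [← Category.assoc, Scheme.IdealSheafData.comapIso_hom_fst]
  rw [e1]
  refine ⟨⟨inferInstance, inferInstance, inferInstance⟩, fun y => ?_⟩
  rw [Scheme.Hom.finrank_comp_left_of_isIso, Scheme.Hom.finrank_of_isPullback _ _ _ _ hpb y]
  exact hd _

end Gen

end Groth.Agent.Lib.T2H6.SmCurve
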