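import Mathlib
import Groth.Agent.Lib.Helper20EffCartier

set_option autoImplicit false
set_option linter.unusedSectionVars false
set_option linter.unusedVariables false
set_option linter.style.haveILetI false
universe u
open CategoryTheory CategoryTheory.Limits

namespace Groth.Agent.Lib.T2H7.WeilClosed

section Algebra

/-- The "coordinate ideal" of an ideal `J` of an `A`-algebra `B`: generated by the `φ b` for
`φ : B →ₗ[A] A` and `b ∈ J`. -/
def coordIdeal (A : Type u) {B : Type u} [CommRing A] [CommRing B] [Algebra A B] (J : Ideal B) :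
    Ideal A :=
  Ideal.span {a | ∃ (φ : B →ₗ[A] A) (b : B), b ∈ J ∧ φ b = a}

variable {A B : Type u} [CommRing A] [CommRing B] [Algebra A B]

theorem mem_coordIdeal (J : Ideal B) (φ : B →ₗ[A] A) {b : B} (hb : b ∈ J) :
    φ b ∈ coordIdeal A J :=
  Ideal.subset_span ⟨φ, b, hb, rfl⟩

theorem le_map_coordIdeal [Module.Projective A B] (J : Ideal B) :
    J ≤ (coordIdeal A J).map (algebraMap A B) := by
  intro b hb
  obtain ⟨s, hs⟩ := Module.projective_def'.mp ‹Module.Projective A B›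
  have e : b = Finsupp.linearCombination A id (s b) := by
    have := LinearMap.congr_fun hs b
    simpa using this.symm
  rw [e, Finsupp.linearCombination_apply, Finsupp.sum]
  refine Ideal.sum_mem _ fun x _ => ?_
  rw [id, Algebra.smul_def]
  exact Ideal.mul_mem_right _ _
    (Ideal.mem_map_of_mem _ (mem_coordIdeal J (Finsupp.lapply x ∘ₗ s) hb))

theorem coordIdeal_bot : coordIdeal A (⊥ : Ideal B) = ⊥ := by
  rw [eq_bot_iff]
  refine Ideal.span_le.mpr ?_
  rintro a ⟨φ, b, hb, rfl⟩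
  rw [Ideal.mem_bot] at hb
  simp [hb]

theorem coordIdeal_eq_bot_iff [Module.Projective A B] (J : Ideal B) :
    coordIdeal A J = ⊥ ↔ J = ⊥ := by
  constructor
  · intro h
    have := le_map_coordIdeal (A := A) J
    rw [h, Ideal.map_bot] at this
    exact eq_bot_iff.mpr this
  · rintro rfl
    exact coordIdeal_bot

/-- a linear functional maps `I·B` into `I` -/
theorem map_mem_of_mem_map (I : Ideal A) (φ : B →ₗ[A] A) {x : B}
    (hx : x ∈ I.map (algebraMap A B)) : φ x ∈ I := by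
  have key : ∀ x ∈ Ideal.span ((algebraMap A B) '' (I : Set A)), ∀ φ : B →ₗ[A] A, φ x ∈ I := by
    intro x hx'
    refine Submodule.span_induction (p := fun x _ => ∀ φ : B →ₗ[A] A, φ x ∈ I) ?_ ?_ ?_ ?_ hx'
    · rintro y ⟨a, ha, rfl⟩ φ
      have : algebraMap A B a = a • (1 : B) := by rw [Algebra.smul_def, mul_one]
      rw [this, map_smul, smul_eq_mul]
      exact Ideal.mul_mem_right _ _ ha
    · intro φ; simp
    · intro y z _ _ hy hz φ
      rw [map_add]; exact Ideal.add_mem _ (hy φ) (hz φ)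
    · intro c y _ hy φ
      have := hy (φ ∘ₗ LinearMap.mulLeft A c)
      simpa using this
  exact key x hx φ

variable {A' B' : Type u} [CommRing A'] [CommRing B'] [Algebra A A'] [Algebra A' B'] [Algebra B B']
  [Algebra A B'] [IsScalarTower A A' B'] [IsScalarTower A B B']

/-- formation of the coordinate ideal commutes with base change (for `B` projective over `A`). -/
theorem coordIdeal_map [Module.Projective A B] [Algebra.IsPushout A A' B B'] (J : Ideal B) :
    (coordIdeal A J).map (algebraMap A A') = coordIdeal A' (J.map (algebraMap B B')) := by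
  have hbc : IsBaseChange A' (IsScalarTower.toAlgHom A B B').toLinearMap :=
    Algebra.IsPushout.out
  apply le_antisymm
  · rw [Ideal.map_le_iff_le_comap]
    refine Ideal.span_le.mpr ?_
    rintro a ⟨φ, b, hb, rfl⟩
    have h1 := hbc.lift_eq ((Algebra.linearMap A A') ∘ₗ φ) b
    have h2 : algebraMap A A' (φ b) = hbc.lift ((Algebra.linearMap A A') ∘ₗ φ)
        (algebraMap B B' b) := by
      rw [← IsScalarTower.coe_toAlgHom' A B B', ← AlgHom.toLinearMap_apply, h1]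
      rfl
    show algebraMap A A' (φ b) ∈ coordIdeal A' (J.map (algebraMap B B'))
    rw [h2]
    exact mem_coordIdeal _ _ (Ideal.mem_map_of_mem _ hb)
  · refine Ideal.span_le.mpr ?_
    rintro a ⟨φ', b', hb', rfl⟩
    refine map_mem_of_mem_map _ φ' ?_
    have h1 := Ideal.map_mono (f := algebraMap B B') (le_map_coordIdeal (A := A) J)
    rw [Ideal.map_map, ← IsScalarTower.algebraMap_eq, IsScalarTower.algebraMap_eq A A' B',
      ← Ideal.map_map] at h1
    exact h1 hb'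

end Algebra

section Cat

/-- coordinate ideal for a morphism of commutative rings -/
def coordIdeal' {A B : CommRingCat.{u}} (f : A ⟶ B) (J : Ideal B) : Ideal A :=
  letI := f.hom.toAlgebra
  coordIdeal A J

theorem coordIdeal'_bot {A B : CommRingCat.{u}} (f : A ⟶ B) : coordIdeal' f ⊥ = ⊥ := by
  letI := f.hom.toAlgebra
  exact coordIdeal_bot

theorem le_map_coordIdeal' {A B : CommRingCat.{u}} (f : A ⟶ B)
    (hproj : letI := f.hom.toAlgebra; Module.Projective A B) (J : Ideal B) :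
    J ≤ (coordIdeal' f J).map f.hom := by
  letI := f.hom.toAlgebra
  exact le_map_coordIdeal J

theorem coordIdeal'_map {A B A' B' : CommRingCat.{u}} {f : A ⟶ B} {g : A ⟶ A'} {f' : B ⟶ B'}
    {g' : A' ⟶ B'} (H : IsPushout f g f' g')
    (hproj : letI := f.hom.toAlgebra; Module.Projective A B) (J : Ideal B) :
    (coordIdeal' f J).map g.hom = coordIdeal' g' (J.map f'.hom) := by
  letI := f.hom.toAlgebra
  letI := g.hom.toAlgebra
  letI := f'.hom.toAlgebra
  letI := g'.hom.toAlgebra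
  letI : Algebra A B' := (f ≫ f').hom.toAlgebra
  haveI : IsScalarTower A B B' := .of_algebraMap_eq' rfl
  haveI : IsScalarTower A A' B' := .of_algebraMap_eq' (congrArg CommRingCat.Hom.hom H.w)
  haveI : Algebra.IsPushout A A' B B' := CommRingCat.isPushout_iff_isPushout.mp H.flip
  exact coordIdeal_map J

end Cat

section Sch
open AlgebraicGeometry

variable {P T : Scheme.{u}} (p : P ⟶ T) [IsAffineHom p]

/-- sections of `P` over preimages of affine opens of `T` are projective modules -/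
def SectionsProjective : Prop :=
  ∀ U : T.affineOpens, letI := (p.app U.1).hom.toAlgebra
    Module.Projective Γ(T, U.1) Γ(P, p ⁻¹ᵁ U.1)

/-- the ideal of the Weil restriction on an affine open -/
def weilIdealFun (𝓙 : P.IdealSheafData) (U : T.affineOpens) : Ideal Γ(T, U.1) :=
  coordIdeal' (p.app U.1) (𝓙.ideal ⟨p ⁻¹ᵁ U.1, U.2.preimage p⟩)

variable {p}

theorem weilIdealFun_map {T' P' : Scheme.{u}} {g : T' ⟶ T} {fst : P' ⟶ P} {snd : P' ⟶ T'}
    [IsAffineHom snd] (H : IsPullback fst snd p g) (hp : SectionsProjective p)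
    (𝓙 : P.IdealSheafData) (U : T.affineOpens) (U' : T'.affineOpens)
    (hUU' : U'.1 ≤ g ⁻¹ᵁ U.1) :
    (weilIdealFun p 𝓙 U).map (g.appLE U.1 U'.1 hUU').hom =
      weilIdealFun snd (𝓙.comap fst) U' := by
  have hle : snd ⁻¹ᵁ U'.1 ≤ fst ⁻¹ᵁ (p ⁻¹ᵁ U.1) := by
    rw [← Scheme.Hom.comp_preimage, H.w, Scheme.Hom.comp_preimage]
    exact Scheme.Hom.preimage_mono snd hUU'
  have hUY : snd ⁻¹ᵁ U'.1 = fst ⁻¹ᵁ (p ⁻¹ᵁ U.1) ⊓ snd ⁻¹ᵁ U'.1 := (inf_eq_right.mpr hle).symm
  have hpush := (isIso_pushoutSection_iff H hUU' (le_refl _) hUY).mp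
    (isIso_pushoutSection_of_isAffineOpen H hUU' (le_refl _) hUY U.2 U'.2 (U.2.preimage p))
  have e1 : p.appLE U.1 (p ⁻¹ᵁ U.1) (le_refl _) = p.app U.1 := Scheme.Hom.appLE_eq_app p
  have e2 : snd.appLE U'.1 (snd ⁻¹ᵁ U'.1) (le_refl _) = snd.app U'.1 := Scheme.Hom.appLE_eq_app snd
  have key := coordIdeal'_map hpush (by rw [e1]; exact hp U) (𝓙.ideal ⟨p ⁻¹ᵁ U.1, U.2.preimage p⟩)
  rw [weilIdealFun, weilIdealFun,
    Groth.Agent.Lib.Helper20.EffCartier.ideal_comap_eq_map fst 𝓙 (U'.2.preimage snd)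
      (U.2.preimage p) hle]
  rw [e1, e2] at key
  exact key


/-- the ideal sheaf of the Weil restriction -/
def weilIdeal (hp : SectionsProjective p) (𝓙 : P.IdealSheafData) : T.IdealSheafData where
  ideal := weilIdealFun p 𝓙
  map_ideal_basicOpen U f := by
    have H : IsPullback (𝟙 P) p p (𝟙 T) := IsPullback.id_horiz p
    have h := weilIdealFun_map H hp 𝓙 U (T.affineBasicOpen f) (T.basicOpen_le f)
    rw [Scheme.IdealSheafData.comap_id] at h
    rw [← h]
    congr 2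

theorem appLE_comm {T' P' : Scheme.{u}} {g : T' ⟶ T} {fst : P' ⟶ P} {snd : P' ⟶ T'}
    (H : IsPullback fst snd p g) (U : T.Opens) (U' : T'.Opens) (hUU' : U' ≤ g ⁻¹ᵁ U)
    (hle : snd ⁻¹ᵁ U' ≤ fst ⁻¹ᵁ (p ⁻¹ᵁ U)) :
    p.app U ≫ fst.appLE (p ⁻¹ᵁ U) (snd ⁻¹ᵁ U') hle = g.appLE U U' hUU' ≫ snd.app U' := by
  have e1 : p.appLE U (p ⁻¹ᵁ U) (le_refl _) = p.app U := Scheme.Hom.appLE_eq_app p
  have e2 : snd.appLE U' (snd ⁻¹ᵁ U') (le_refl _) = snd.app U' := Scheme.Hom.appLE_eq_app snd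
  rw [← e1, ← e2, Scheme.Hom.appLE_comp_appLE, Scheme.Hom.appLE_comp_appLE]
  simp only [H.w]

theorem comap_weilIdeal_eq_bot_iff (hp : SectionsProjective p) (𝓙 : P.IdealSheafData)
    {T' P' : Scheme.{u}} {g : T' ⟶ T} {fst : P' ⟶ P} {snd : P' ⟶ T'} [IsAffineHom snd]
    (H : IsPullback fst snd p g) :
    (weilIdeal hp 𝓙).comap g = ⊥ ↔ 𝓙.comap fst = ⊥ := by
  let ι := {q : T.affineOpens × T'.affineOpens // q.2.1 ≤ g ⁻¹ᵁ q.1.1}
  have hcov : ⨆ q : ι, (q.1.2 : T'.Opens) = ⊤ := by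
    rw [eq_top_iff]
    intro x _
    obtain ⟨_, ⟨U, hU, rfl⟩, hxU, -⟩ := T.isBasis_affineOpens.exists_subset_of_mem_open
      (Set.mem_univ (g x)) isOpen_univ
    obtain ⟨_, ⟨U', hU', rfl⟩, hxU', hU'U⟩ := T'.isBasis_affineOpens.exists_subset_of_mem_open
      (show x ∈ ((g ⁻¹ᵁ U : T'.Opens) : Set T') from hxU) (g ⁻¹ᵁ U).2
    exact TopologicalSpace.Opens.mem_iSup.mpr ⟨⟨(⟨U, hU⟩, ⟨U', hU'⟩), hU'U⟩, hxU'⟩
  have hcovP : ⨆ q : ι, (snd ⁻¹ᵁ (q.1.2 : T'.Opens)) = ⊤ := by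
    rw [← Scheme.Hom.preimage_iSup, hcov, Scheme.Hom.preimage_top]
  have hlePQ : ∀ q : ι, snd ⁻¹ᵁ q.1.2.1 ≤ fst ⁻¹ᵁ (p ⁻¹ᵁ q.1.1.1) := by
    intro q
    rw [← Scheme.Hom.comp_preimage, H.w, Scheme.Hom.comp_preimage]
    exact Scheme.Hom.preimage_mono snd q.2
  have hideal : ∀ q : ι, ((weilIdeal hp 𝓙).comap g).ideal q.1.2 =
      weilIdealFun snd (𝓙.comap fst) q.1.2 := by
    intro q
    rw [Groth.Agent.Lib.Helper20.EffCartier.ideal_comap_eq_map g _ q.1.2.2 q.1.1.2 q.2]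
    exact weilIdealFun_map H hp 𝓙 q.1.1 q.1.2 q.2
  constructor
  · intro h
    refine eq_bot_iff.mpr (Scheme.IdealSheafData.le_of_iSup_eq_top
      (fun q : ι => ⟨snd ⁻¹ᵁ q.1.2.1, q.1.2.2.preimage snd⟩) hcovP fun q => ?_)
    change (𝓙.comap fst).ideal ⟨snd ⁻¹ᵁ q.1.2.1, q.1.2.2.preimage snd⟩ ≤ ⊥
    rw [Groth.Agent.Lib.Helper20.EffCartier.ideal_comap_eq_map fst 𝓙 (q.1.2.2.preimage snd)
      (q.1.1.2.preimage p) (hlePQ q)]
    have h1 := le_map_coordIdeal' (p.app q.1.1.1) (hp q.1.1)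
      (𝓙.ideal ⟨p ⁻¹ᵁ q.1.1.1, q.1.1.2.preimage p⟩)
    have h2 := Ideal.map_mono (f := (fst.appLE _ _ (hlePQ q)).hom) h1
    rw [Ideal.map_map, ← CommRingCat.hom_comp, appLE_comm H _ _ q.2, CommRingCat.hom_comp,
      ← Ideal.map_map] at h2
    have h3 : (weilIdealFun p 𝓙 q.1.1).map (g.appLE _ _ q.2).hom = ⊥ := by
      have h4 := Groth.Agent.Lib.Helper20.EffCartier.ideal_comap_eq_map g (weilIdeal hp 𝓙) q.1.2.2
        q.1.1.2 q.2
      rw [h] at h4
      exact h4.symm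
    rw [show coordIdeal' (p.app q.1.1.1) (𝓙.ideal ⟨p ⁻¹ᵁ q.1.1.1, q.1.1.2.preimage p⟩) =
      weilIdealFun p 𝓙 q.1.1 from rfl, h3, Ideal.map_bot] at h2
    exact h2
  · intro h
    refine Scheme.IdealSheafData.ext_of_iSup_eq_top (fun q : ι => q.1.2) hcov fun q => ?_
    rw [hideal q, weilIdealFun, h]
    exact coordIdeal'_bot _


theorem sectionsProjective_of_isFinite (p : P ⟶ T) [IsFinite p] [Flat p]
    [LocallyOfFinitePresentation p] : SectionsProjective p := by
  intro U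
  letI := (p.app U.1).hom.toAlgebra
  have e1 : p.appLE U.1 (p ⁻¹ᵁ U.1) (le_refl _) = p.app U.1 := Scheme.Hom.appLE_eq_app p
  have hfin : (p.app U.1).hom.Finite := p.finite_app U.1 U.2
  have hflat : (p.app U.1).hom.Flat := by
    rw [← e1]; exact p.flat_appLE U.2 (U.2.preimage p) _
  have hfp : (p.app U.1).hom.FinitePresentation := by
    rw [← e1]; exact p.finitePresentation_appLE U.2 (U.2.preimage p) _
  haveI : Module.Finite Γ(T, U.1) Γ(P, p ⁻¹ᵁ U.1) := hfin
  haveI : Module.Flat Γ(T, U.1) Γ(P, p ⁻¹ᵁ U.1) := hflat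
  haveI : Algebra.FinitePresentation Γ(T, U.1) Γ(P, p ⁻¹ᵁ U.1) := hfp
  haveI : Module.FinitePresentation Γ(T, U.1) Γ(P, p ⁻¹ᵁ U.1) :=
    Module.FinitePresentation.of_finite_of_finitePresentation _ _
  exact Module.Flat.projective_of_finitePresentation

/-- a morphism factors through a closed immersion iff the pulled back ideal sheaf vanishes -/
theorem exists_lift_iff_comap_eq_bot {X Y Z : Scheme.{u}} (i : Z ⟶ Y) [IsClosedImmersion i]
    (h : X ⟶ Y) : (∃ l : X ⟶ Z, l ≫ i = h) ↔ i.ker.comap h = ⊥ := by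
  rw [eq_bot_iff, ← Scheme.IdealSheafData.le_map_iff_comap_le, Scheme.IdealSheafData.map_bot]
  constructor
  · rintro ⟨l, rfl⟩
    exact l.le_ker_comp i
  · intro hle
    exact ⟨IsClosedImmersion.lift i h hle, IsClosedImmersion.lift_fac _ _ _⟩

/-- **Weil restriction of a closed subscheme along a finite locally free morphism is a closed
subscheme** (ideal sheaf form). -/
theorem exists_weilIdeal {P T : Scheme.{u}} (p : P ⟶ T) [IsFinite p] [Flat p]
    [LocallyOfFinitePresentation p] (𝓙 : P.IdealSheafData) :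
    ∃ 𝓩 : T.IdealSheafData, ∀ {T' P' : Scheme.{u}} (g : T' ⟶ T) (fst : P' ⟶ P) (snd : P' ⟶ T'),
      IsPullback fst snd p g → (𝓩.comap g = ⊥ ↔ 𝓙.comap fst = ⊥) := by
  refine ⟨weilIdeal (sectionsProjective_of_isFinite p) 𝓙, fun g fst snd H => ?_⟩
  haveI : IsAffineHom snd := MorphismProperty.of_isPullback H inferInstance
  exact comap_weilIdeal_eq_bot_iff _ 𝓙 H

/-- **Weil restriction of a closed subscheme along a finite locally free morphism is a closed
subscheme** (morphism form). -/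
theorem exists_weilRestriction {P T E : Scheme.{u}} (p : P ⟶ T) [IsFinite p] [Flat p]
    [LocallyOfFinitePresentation p] (ε : E ⟶ P) [IsClosedImmersion ε] :
    ∃ (Z : Scheme.{u}) (j : Z ⟶ T), IsClosedImmersion j ∧
      ∀ {T' P' : Scheme.{u}} (g : T' ⟶ T) (fst : P' ⟶ P) (snd : P' ⟶ T'),
        IsPullback fst snd p g → ((∃ t : T' ⟶ Z, t ≫ j = g) ↔ ∃ l : P' ⟶ E, l ≫ ε = fst) := by
  obtain ⟨𝓩, h𝓩⟩ := exists_weilIdeal p ε.ker
  refine ⟨𝓩.subscheme, 𝓩.subschemeι, inferInstance, fun g fst snd H => ?_⟩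
  rw [exists_lift_iff_comap_eq_bot, exists_lift_iff_comap_eq_bot,
    Scheme.IdealSheafData.ker_subschemeι]
  exact h𝓩 g fst snd H

end Sch

end Groth.Agent.Lib.T2H7.WeilClosed
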