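import Mathlib
import Groth.Prelude.Def_HilbD
import Groth.Agent.Lib.T2H7WeilClosed

/-!
# Basics on the Hilbert functor of points `HilbD` (helper7)

* `XTmap_comp`, `isPullback_XTmap`;
* `pull_eq_comap`, `pull_comp`, `isFinLocFreeOfDeg_pull`;
* `exists_le_locus`: for closed subschemes `D, D'` of `X` with `D'` finite locally free over `S`,
  the locus where `D' ⊆ D` is a closed subscheme of `S`.
-/

set_option autoImplicit false
set_option linter.unusedSectionVars false
set_option linter.unusedVariables false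
set_option linter.style.haveILetI false
universe u
open CategoryTheory CategoryTheory.Limits AlgebraicGeometry

namespace Groth.Agent.Lib.T2H7.HilbBasics

open Groth.Agent.Lib.T2H7.WeilClosed

variable {X S : Scheme.{u}} (f : X ⟶ S)

set_option backward.isDefEq.respectTransparency false in
theorem XTmap_comp {T T' T'' : Over S} (g : T'' ⟶ T') (h : T' ⟶ T) :
    PicF.XTmap f (g ≫ h) = PicF.XTmap f g ≫ PicF.XTmap f h := by
  unfold PicF.XTmap
  ext <;> simp [pullback.map]

set_option backward.isDefEq.respectTransparency false in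
theorem XTmap_fst {T T' : Over S} (g : T' ⟶ T) :
    PicF.XTmap f g ≫ pullback.fst f T.hom = pullback.fst f T'.hom := by
  unfold PicF.XTmap
  simp [pullback.map]

set_option backward.isDefEq.respectTransparency false in
theorem XTmap_snd {T T' : Over S} (g : T' ⟶ T) :
    PicF.XTmap f g ≫ PicF.XTproj f T = PicF.XTproj f T' ≫ g.left := by
  unfold PicF.XTmap
  simp [pullback.map]

theorem isPullback_XTmap {T T' : Over S} (g : T' ⟶ T) :
    IsPullback (PicF.XTmap f g) (PicF.XTproj f T') (PicF.XTproj f T) g.left := by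
  have hbig : IsPullback (PicF.XTmap f g ≫ pullback.fst f T.hom) (PicF.XTproj f T') f
      (g.left ≫ T.hom) := by
    rw [XTmap_fst, Over.w g]
    exact IsPullback.of_hasPullback f T'.hom
  exact IsPullback.of_right hbig (XTmap_snd f g) (IsPullback.of_hasPullback f T.hom)

theorem pull_eq_comap {T T' : Over S} (g : T' ⟶ T) (I : (PicF.XT f T).IdealSheafData) :
    HilbD.pull f g I = I.comap (PicF.XTmap f g) := by
  unfold HilbD.pull
  have h1 := Scheme.IdealSheafData.ker_fst_of_isClosedImmersion I.subschemeι (PicF.XTmap f g)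
  rw [Scheme.IdealSheafData.ker_subschemeι] at h1
  rw [← h1, ← pullbackSymmetry_hom_comp_fst, Scheme.Hom.ker_comp_of_isIso]

theorem pull_comp {T T' T'' : Over S} (g : T'' ⟶ T') (h : T' ⟶ T)
    (I : (PicF.XT f T).IdealSheafData) :
    HilbD.pull f (g ≫ h) I = HilbD.pull f g (HilbD.pull f h I) := by
  rw [pull_eq_comap, pull_eq_comap, pull_eq_comap, XTmap_comp,
    Scheme.IdealSheafData.comap_comp]

theorem isFinLocFreeOfDeg_pull {T T' : Over S} (g : T' ⟶ T) (d : ℕ)
    (I : (PicF.XT f T).IdealSheafData)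
    (hI : Mor2.IsFinLocFreeOfDeg d (I.subschemeι ≫ PicF.XTproj f T)) :
    Mor2.IsFinLocFreeOfDeg d ((HilbD.pull f g I).subschemeι ≫ PicF.XTproj f T') := by
  obtain ⟨⟨h1, h2, h3⟩, hd⟩ := hI
  -- the pulled back subscheme is the fibre product
  unfold HilbD.pull
  have e1 : (pullback.snd I.subschemeι (PicF.XTmap f g)).ker.subschemeι =
      inv (pullback.snd I.subschemeι (PicF.XTmap f g)).toImage ≫
        pullback.snd I.subschemeι (PicF.XTmap f g) := by
    rw [IsIso.eq_inv_comp]
    exact Scheme.Hom.toImage_imageι _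
  have hpb : IsPullback (pullback.fst I.subschemeι (PicF.XTmap f g))
      (pullback.snd I.subschemeι (PicF.XTmap f g) ≫ PicF.XTproj f T')
      (I.subschemeι ≫ PicF.XTproj f T) g.left :=
    (IsPullback.of_hasPullback I.subschemeι (PicF.XTmap f g)).paste_vert (isPullback_XTmap f g)
  haveI : IsFinite (pullback.snd I.subschemeι (PicF.XTmap f g) ≫ PicF.XTproj f T') :=
    MorphismProperty.of_isPullback hpb h1
  haveI : Flat (pullback.snd I.subschemeι (PicF.XTmap f g) ≫ PicF.XTproj f T') :=
    MorphismProperty.of_isPullback hpb h2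
  haveI : LocallyOfFinitePresentation
      (pullback.snd I.subschemeι (PicF.XTmap f g) ≫ PicF.XTproj f T') :=
    MorphismProperty.of_isPullback hpb h3
  rw [e1, Category.assoc]
  refine ⟨⟨inferInstance, inferInstance, inferInstance⟩, fun y => ?_⟩
  rw [Scheme.Hom.finrank_comp_left_of_isIso,
    Scheme.Hom.finrank_of_isPullback _ _ _ _ hpb y]
  exact hd _

/-- For closed subschemes `D = V(𝓘)`, `D' = V(𝓘')` of `X` with `D'` finite locally free over `S`,
the locus of `S` over which `D' ⊆ D` is a closed subscheme. -/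
theorem exists_le_locus (𝓘 𝓘' : X.IdealSheafData)
    [IsFinite (𝓘'.subschemeι ≫ f)] [Flat (𝓘'.subschemeι ≫ f)]
    [LocallyOfFinitePresentation (𝓘'.subschemeι ≫ f)] :
    ∃ 𝓩 : S.IdealSheafData, ∀ {T' X' : Scheme.{u}} (g : T' ⟶ S) (φ : X' ⟶ X) (ψ : X' ⟶ T'),
      IsPullback φ ψ f g → (𝓩.comap g = ⊥ ↔ 𝓘.comap φ ≤ 𝓘'.comap φ) := by
  obtain ⟨𝓩, h𝓩⟩ := exists_weilIdeal (𝓘'.subschemeι ≫ f) (𝓘.comap 𝓘'.subschemeι)
  refine ⟨𝓩, fun g φ ψ H2 => ?_⟩
  have H1 : IsPullback (pullback.fst φ 𝓘'.subschemeι) (pullback.snd φ 𝓘'.subschemeι) φ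
      𝓘'.subschemeι := IsPullback.of_hasPullback _ _
  have H : IsPullback (pullback.snd φ 𝓘'.subschemeι) (pullback.fst φ 𝓘'.subschemeι ≫ ψ)
      (𝓘'.subschemeι ≫ f) g := H1.flip.paste_vert H2
  rw [h𝓩 g _ _ H, ← Scheme.IdealSheafData.comap_comp, ← pullback.condition,
    Scheme.IdealSheafData.comap_comp, eq_bot_iff, ← Scheme.IdealSheafData.le_map_iff_comap_le,
    Scheme.IdealSheafData.map_bot, Scheme.IdealSheafData.ker_fst_of_isClosedImmersion,
    Scheme.IdealSheafData.ker_subschemeι]

end Groth.Agent.Lib.T2H7.HilbBasics
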