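import Mathlib
import Groth.Prelude.Def_HilbD
import Groth.Agent.Lib.T2H7HilbBasics
import Groth.Agent.Lib.T2H6SmCurveSec
set_option backward.isDefEq.respectTransparency.types false

/-!
# Hilbert functor of points of a relative smooth curve: graphs of sections and sums (helper6)

Namespace `Groth.Agent.Lib.T2H6.HilbCurve`.
-/

set_option autoImplicit false
set_option linter.style.haveILetI false
set_option linter.unusedSectionVars false
universe u
open CategoryTheory CategoryTheory.Limits AlgebraicGeometry TopologicalSpace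

namespace Groth.Agent.Lib.T2H6.HilbCurve

open Groth.Agent.Lib.T2H6.SmCurve Groth.Agent.Lib.T2H7.HilbBasics

variable {X S : Scheme.{u}} (f : X ⟶ S)

/-- the section `(x, id) : T ⟶ X_T` whose kernel is `HilbD.secGraph`. -/
noncomputable def sec (T : Over S) (x : T.left ⟶ X) (hx : x ≫ f = T.hom) : T.left ⟶ PicF.XT f T :=
  pullback.lift x (𝟙 T.left) (by simpa using hx)

theorem secGraph_eq (T : Over S) (x : T.left ⟶ X) (hx : x ≫ f = T.hom) :
    HilbD.secGraph f T x hx = (sec f T x hx).ker := rfl

@[reassoc (attr := simp)]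
theorem sec_fst (T : Over S) (x : T.left ⟶ X) (hx : x ≫ f = T.hom) :
    sec f T x hx ≫ pullback.fst f T.hom = x := pullback.lift_fst _ _ _

@[reassoc (attr := simp)]
theorem sec_proj (T : Over S) (x : T.left ⟶ X) (hx : x ≫ f = T.hom) :
    sec f T x hx ≫ PicF.XTproj f T = 𝟙 T.left := pullback.lift_snd _ _ _

theorem sec_XTmap {T T' : Over S} (g : T' ⟶ T) (x : T.left ⟶ X) (hx : x ≫ f = T.hom)
    (hx' : (g.left ≫ x) ≫ f = T'.hom) :
    sec f T' (g.left ≫ x) hx' ≫ PicF.XTmap f g = g.left ≫ sec f T x hx := by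
  apply pullback.hom_ext
  · rw [Category.assoc, XTmap_fst, sec_fst, Category.assoc, sec_fst]
  · have h1 := XTmap_snd f g
    have h2 := sec_proj f T' (g.left ≫ x) hx'
    have h3 := sec_proj f T x hx
    unfold PicF.XTproj at h1 h2 h3
    rw [Category.assoc, h1, reassoc_of% h2, Category.assoc, h3, Category.comp_id]

theorem pull_mul {T T' : Over S} (g : T' ⟶ T) (I J : (PicF.XT f T).IdealSheafData) :
    HilbD.pull f g (I * J) = HilbD.pull f g I * HilbD.pull f g J := by
  rw [pull_eq_comap, pull_eq_comap, pull_eq_comap, comap_mul]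

theorem pull_secGraph [IsSeparated f] {T T' : Over S} (g : T' ⟶ T) (x : T.left ⟶ X)
    (hx : x ≫ f = T.hom) (hx' : (g.left ≫ x) ≫ f = T'.hom) :
    HilbD.pull f g (HilbD.secGraph f T x hx) = HilbD.secGraph f T' (g.left ≫ x) hx' := by
  rw [pull_eq_comap, secGraph_eq, secGraph_eq]
  exact (ker_section_comap (isPullback_XTmap f g) (sec f T x hx) (sec_proj f T x hx)
    (sec f T' (g.left ≫ x) hx') (sec_proj f T' _ hx') (sec_XTmap f g x hx hx')).symm

theorem isFinLocFreeOfDeg_secGraph [IsSeparated f] (T : Over S) (x : T.left ⟶ X)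
    (hx : x ≫ f = T.hom) :
    Mor2.IsFinLocFreeOfDeg 1 ((HilbD.secGraph f T x hx).subschemeι ≫ PicF.XTproj f T) :=
  isFinLocFreeOfDeg_one_ker_section (PicF.XTproj f T) (sec f T x hx) (sec_proj f T x hx)

instance smooth_XTproj [SmoothOfRelativeDimension 1 f] (T : Over S) :
    SmoothOfRelativeDimension 1 (PicF.XTproj f T) := by
  haveI := smoothOfRelativeDimension_isStableUnderBaseChange 1
  exact MorphismProperty.pullback_snd (P := @SmoothOfRelativeDimension 1) _ _ inferInstance

theorem isEffCartier_secGraph [SmoothOfRelativeDimension 1 f] [IsSeparated f] (T : Over S)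
    (x : T.left ⟶ X) (hx : x ≫ f = T.hom) :
    BlowUp.IsEffCartierIdeal (HilbD.secGraph f T x hx) :=
  isEffCartier_of_isFinLocFreeOfDeg (PicF.XTproj f T) _ 1 (isFinLocFreeOfDeg_secGraph f T x hx)

end Groth.Agent.Lib.T2H6.HilbCurve
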