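import Mathlib

/-!
# `map`/`comap` of ideal sheaves along closed immersions (helper7)

* `comap_map_of_isClosedImmersion`: `(I.map j).comap j = I`;
* `map_comap_of_le`: `(J.comap j).map j = J` when `j.ker ≤ J`;
* `ker_eq_comap_ker_of_isPullback`, `map_comap_of_isPullback`: base change;
* `map_subschemeι`: the subscheme of `I.map j` is the subscheme of `I`.
-/

set_option autoImplicit false
set_option linter.unusedSectionVars false
set_option linter.unusedVariables false
set_option linter.style.haveILetI false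
universe u
open CategoryTheory CategoryTheory.Limits AlgebraicGeometry

namespace Groth.Agent.Lib.T2H7.IdealMapComap

variable {X Y X' Y' : Scheme.{u}}

theorem isPullback_of_mono {C : Type*} [Category C] {W X Y : C} (a : W ⟶ X) (j : X ⟶ Y) [Mono j] :
    IsPullback a (𝟙 W) j (a ≫ j) := by
  have h1 : IsPullback a (𝟙 W) (𝟙 X) a := IsPullback.of_vert_isIso ⟨by simp⟩
  have h2 : IsPullback (𝟙 X) (𝟙 X) j j := IsKernelPair.id_of_mono j
  simpa using h1.paste_horiz h2

theorem comap_map_of_isClosedImmersion (j : X ⟶ Y) [IsClosedImmersion j] (I : X.IdealSheafData) :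
    (I.map j).comap j = I := by
  have h := Scheme.IdealSheafData.ker_fst_of_isClosedImmersion (I.subschemeι ≫ j) j
  have hpb : IsPullback I.subschemeι (𝟙 _) j (I.subschemeι ≫ j) := isPullback_of_mono _ _
  have e : I.subschemeι = hpb.isoPullback.hom ≫ pullback.fst j (I.subschemeι ≫ j) := by simp
  have h2 : (I.subschemeι ≫ j).ker = I.map j := rfl
  rw [← h2, ← h, ← Scheme.Hom.ker_comp_of_isIso hpb.isoPullback.hom, ← e,
    Scheme.IdealSheafData.ker_subschemeι]

theorem map_injective_of_isClosedImmersion (j : X ⟶ Y) [IsClosedImmersion j]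
    {I I' : X.IdealSheafData} (h : I.map j = I'.map j) : I = I' := by
  rw [← comap_map_of_isClosedImmersion j I, h, comap_map_of_isClosedImmersion]

theorem ker_le_map (j : X ⟶ Y) (I : X.IdealSheafData) : j.ker ≤ I.map j := by
  rw [← Scheme.IdealSheafData.map_bot]
  exact Scheme.IdealSheafData.map_mono j bot_le

theorem map_comap_of_le (j : X ⟶ Y) [IsClosedImmersion j] (J : Y.IdealSheafData)
    (h : j.ker ≤ J) : (J.comap j).map j = J := by
  have h' : j.ker ≤ J.subschemeι.ker := by rwa [Scheme.IdealSheafData.ker_subschemeι]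
  have hfac := IsClosedImmersion.lift_fac j J.subschemeι h'
  have hJ : J = (IsClosedImmersion.lift j J.subschemeι h').ker.map j := by
    rw [Scheme.IdealSheafData.map_ker, hfac, Scheme.IdealSheafData.ker_subschemeι]
  conv_lhs => rw [hJ, comap_map_of_isClosedImmersion]
  exact hJ.symm

theorem ker_eq_comap_ker_of_isPullback {φX : X' ⟶ X} {j' : X' ⟶ Y'} {j : X ⟶ Y} {φY : Y' ⟶ Y}
    [IsClosedImmersion j] (hpb : IsPullback φX j' j φY) : j'.ker = j.ker.comap φY := by
  rw [← Scheme.IdealSheafData.ker_fst_of_isClosedImmersion]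
  have e : j' = hpb.flip.isoPullback.hom ≫ pullback.fst φY j := by simp
  conv_lhs => rw [e]
  rw [Scheme.Hom.ker_comp_of_isIso]

theorem map_comap_of_isPullback {φX : X' ⟶ X} {j' : X' ⟶ Y'} {j : X ⟶ Y} {φY : Y' ⟶ Y}
    [IsClosedImmersion j] (hpb : IsPullback φX j' j φY) (I : X.IdealSheafData) :
    (I.comap φX).map j' = (I.map j).comap φY := by
  haveI : IsClosedImmersion j' := MorphismProperty.of_isPullback hpb inferInstance
  have hle : j'.ker ≤ (I.map j).comap φY := by
    rw [ker_eq_comap_ker_of_isPullback hpb]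
    exact Scheme.IdealSheafData.comap_mono φY (ker_le_map j I)
  rw [← map_comap_of_le j' _ hle, ← Scheme.IdealSheafData.comap_comp, ← hpb.w,
    Scheme.IdealSheafData.comap_comp, comap_map_of_isClosedImmersion]

theorem exists_iso_map_subscheme (j : X ⟶ Y) [IsClosedImmersion j] (I : X.IdealSheafData) :
    ∃ e : (I.map j).subscheme ≅ I.subscheme, (I.map j).subschemeι = e.hom ≫ I.subschemeι ≫ j := by
  unfold Scheme.IdealSheafData.map
  refine ⟨(asIso (I.subschemeι ≫ j).toImage).symm, ?_⟩
  simp only [Iso.symm_hom, asIso_inv]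
  rw [IsIso.eq_inv_comp]
  exact Scheme.Hom.toImage_imageι _

end Groth.Agent.Lib.T2H7.IdealMapComap
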