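import Mathlib
import Groth.Prelude.Def_HilbD
import Groth.Agent.Lib.T2H7HilbBasics
import Groth.Agent.Lib.T2H7IdealMapComap

/-!
# `HilbD.push` along a closed immersion (helper7)
-/

set_option autoImplicit false
set_option linter.unusedSectionVars false
set_option linter.unusedVariables false
set_option linter.style.haveILetI false
universe u
open CategoryTheory CategoryTheory.Limits AlgebraicGeometry

namespace Groth.Agent.Lib.T2H7.HilbPush

open Groth.Agent.Lib.T2H7.HilbBasics Groth.Agent.Lib.T2H7.IdealMapComap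

variable {X Y S : Scheme.{u}} (i : X ⟶ Y) (g : Y ⟶ S)

/-- The base change `X_T ⟶ Y_T` of `i`. -/
noncomputable abbrev jT (T : Over S) : PicF.XT (i ≫ g) T ⟶ PicF.XT g T :=
  pullback.map (i ≫ g) T.hom g T.hom i (𝟙 _) (𝟙 S) (Category.comp_id _) (by simp)

theorem push_eq_map (T : Over S) (I : (PicF.XT (i ≫ g) T).IdealSheafData) :
    HilbD.push i g T I = I.map (jT i g T) := rfl

set_option backward.isDefEq.respectTransparency false in
theorem jT_proj (T : Over S) : jT i g T ≫ PicF.XTproj g T = PicF.XTproj (i ≫ g) T := by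
  simp [jT, PicF.XTproj]

set_option backward.isDefEq.respectTransparency false in
theorem jT_fst (T : Over S) :
    jT i g T ≫ pullback.fst g T.hom = pullback.fst (i ≫ g) T.hom ≫ i := by
  simp [jT]

theorem isPullback_jT (T : Over S) :
    IsPullback (jT i g T) (pullback.fst (i ≫ g) T.hom) (pullback.fst g T.hom) i := by
  have hR : IsPullback (pullback.snd g T.hom) (pullback.fst g T.hom) T.hom g :=
    (IsPullback.of_hasPullback g T.hom).flip
  refine IsPullback.of_right ?_ (jT_fst i g T) hR
  have := jT_proj i g T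
  dsimp only [PicF.XTproj] at this
  rw [this]
  exact (IsPullback.of_hasPullback (i ≫ g) T.hom).flip

instance [IsClosedImmersion i] (T : Over S) : IsClosedImmersion (jT i g T) :=
  MorphismProperty.of_isPullback (isPullback_jT i g T).flip inferInstance

set_option backward.isDefEq.respectTransparency false in
theorem jT_XTmap {T T' : Over S} (s : T' ⟶ T) :
    PicF.XTmap (i ≫ g) s ≫ jT i g T = jT i g T' ≫ PicF.XTmap g s := by
  unfold PicF.XTmap
  apply pullback.hom_ext <;> simp [jT, pullback.map]

theorem isPullback_jT_XTmap {T T' : Over S} (s : T' ⟶ T) :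
    IsPullback (PicF.XTmap (i ≫ g) s) (jT i g T') (jT i g T) (PicF.XTmap g s) := by
  have hR := (isPullback_jT i g T).flip
  -- `hR : IsPullback (fst) (jT) i (fst)`
  refine IsPullback.of_right ?_ (jT_XTmap i g s) hR
  rw [XTmap_fst, XTmap_fst]
  exact (isPullback_jT i g T').flip

variable [IsClosedImmersion i]

theorem push_pull {T T' : Over S} (s : T' ⟶ T) (I : (PicF.XT (i ≫ g) T).IdealSheafData) :
    HilbD.push i g T' (HilbD.pull (i ≫ g) s I) = HilbD.pull g s (HilbD.push i g T I) := by
  rw [push_eq_map, push_eq_map, pull_eq_comap, pull_eq_comap]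
  exact map_comap_of_isPullback (isPullback_jT_XTmap i g s) I

theorem comap_push (T : Over S) (I : (PicF.XT (i ≫ g) T).IdealSheafData) :
    (HilbD.push i g T I).comap (jT i g T) = I := by
  rw [push_eq_map, comap_map_of_isClosedImmersion]

theorem push_injective (T : Over S) {I I' : (PicF.XT (i ≫ g) T).IdealSheafData}
    (h : HilbD.push i g T I = HilbD.push i g T I') : I = I' :=
  map_injective_of_isClosedImmersion (jT i g T) h

theorem ker_le_push (T : Over S) (I : (PicF.XT (i ≫ g) T).IdealSheafData) :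
    (jT i g T).ker ≤ HilbD.push i g T I := ker_le_map _ _

theorem push_comap_of_le (T : Over S) (J : (PicF.XT g T).IdealSheafData)
    (h : (jT i g T).ker ≤ J) : HilbD.push i g T (J.comap (jT i g T)) = J := by
  rw [push_eq_map, map_comap_of_le _ _ h]

theorem ker_jT_comap {T T' : Over S} (s : T' ⟶ T) :
    (jT i g T).ker.comap (PicF.XTmap g s) = (jT i g T').ker :=
  (ker_eq_comap_ker_of_isPullback (isPullback_jT_XTmap i g s)).symm

theorem isFinLocFreeOfDeg_comp_iso {A B C : Scheme.{u}} (e : A ⟶ B) [IsIso e] (φ : B ⟶ C) (d : ℕ) :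
    Mor2.IsFinLocFreeOfDeg d (e ≫ φ) ↔ Mor2.IsFinLocFreeOfDeg d φ := by
  unfold Mor2.IsFinLocFreeOfDeg Mor2.IsFinLocFree
  constructor
  · rintro ⟨⟨h1, h2, h3⟩, hd⟩
    have h1' : IsFinite φ := (MorphismProperty.cancel_left_of_respectsIso @IsFinite e φ).mp h1
    have h2' : Flat φ := (MorphismProperty.cancel_left_of_respectsIso @Flat e φ).mp h2
    have h3' : LocallyOfFinitePresentation φ :=
      (MorphismProperty.cancel_left_of_respectsIso @LocallyOfFinitePresentation e φ).mp h3
    refine ⟨⟨h1', h2', h3'⟩, fun y => ?_⟩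
    rw [← hd y, Scheme.Hom.finrank_comp_left_of_isIso]
  · rintro ⟨⟨h1, h2, h3⟩, hd⟩
    refine ⟨⟨inferInstance, inferInstance, inferInstance⟩, fun y => ?_⟩
    rw [← hd y, Scheme.Hom.finrank_comp_left_of_isIso]

theorem isFinLocFreeOfDeg_push_iff (T : Over S) (I : (PicF.XT (i ≫ g) T).IdealSheafData) (d : ℕ) :
    Mor2.IsFinLocFreeOfDeg d ((HilbD.push i g T I).subschemeι ≫ PicF.XTproj g T) ↔
      Mor2.IsFinLocFreeOfDeg d (I.subschemeι ≫ PicF.XTproj (i ≫ g) T) := by
  rw [push_eq_map]
  obtain ⟨e, he⟩ := exists_iso_map_subscheme (jT i g T) I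
  rw [he, Category.assoc, Category.assoc, jT_proj, isFinLocFreeOfDeg_comp_iso]

end Groth.Agent.Lib.T2H7.HilbPush
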