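import Mathlib
import Groth.Prelude.Def_HilbD
import Groth.Agent.Lib.T2H6HilbCurve
import Groth.Agent.Lib.T2H7HilbPush
set_option backward.isDefEq.respectTransparency.types false

/-!
# `Hilb^d ×_S X ≅` universal family of `Hilb^{d+1}` for a relative smooth curve (helper6)

Namespace `Groth.Agent.Lib.T2H6.HilbCurve`.
-/

set_option autoImplicit false
set_option linter.style.haveILetI false
set_option linter.unusedSectionVars false
universe u
open CategoryTheory CategoryTheory.Limits AlgebraicGeometry TopologicalSpace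

namespace Groth.Agent.Lib.T2H6.HilbCurve

open Groth.Agent.Lib.T2H6.SmCurve Groth.Agent.Lib.T2H7.HilbBasics

variable {X S : Scheme.{u}} (f : X ⟶ S) [SmoothOfRelativeDimension 1 f] [IsSeparated f]

/-- the map `Hilb^d ×_S X ⟶ Hilb^{d+1}`, `(D, x) ↦ D + x`, factors as an isomorphism onto the universal
family of `Hilb^{d+1}` followed by the projection. -/
theorem exists_iso_universal (d : ℕ) (H : Over S) (Z : HilbD.Obj f d H)
    (hZ : HilbD.IsUniversal f d H Z)
    (H' : Over S) (Z' : HilbD.Obj f (d + 1) H') (hZ' : HilbD.IsUniversal f (d + 1) H' Z')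
    (m : Over.mk (pullback.fst H.hom f ≫ H.hom) ⟶ H')
    (hm : HilbD.pull f m Z'.1 =
      HilbD.pull f (Over.homMk (pullback.fst H.hom f) rfl :
          Over.mk (pullback.fst H.hom f ≫ H.hom) ⟶ H) Z.1 *
        HilbD.secGraph f (Over.mk (pullback.fst H.hom f ≫ H.hom)) (pullback.snd H.hom f)
          pullback.condition.symm) :
    ∃ φ : pullback H.hom f ⟶ Z'.1.subscheme, IsIso φ ∧
      φ ≫ Z'.1.subschemeι ≫ PicF.XTproj f H' = m.left := by
  -- notation
  obtain ⟨T, hT⟩ : ∃ T : Over S, T = Over.mk (pullback.fst H.hom f ≫ H.hom) := ⟨_, rfl⟩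
  obtain ⟨pT, hpT⟩ : ∃ pT : Over.mk (pullback.fst H.hom f ≫ H.hom) ⟶ H,
      pT = Over.homMk (pullback.fst H.hom f) rfl := ⟨_, rfl⟩
  obtain ⟨x, hxdef⟩ : ∃ x : (Over.mk (pullback.fst H.hom f ≫ H.hom)).left ⟶ X,
      x = pullback.snd H.hom f := ⟨_, rfl⟩
  have hx : x ≫ f = (Over.mk (pullback.fst H.hom f ≫ H.hom)).hom := by
    rw [hxdef]; exact pullback.condition.symm
  have hpTleft : pT.left = pullback.fst H.hom f := by rw [hpT]; rfl
  rw [← hpT] at hm
  have hm' : HilbD.pull f m Z'.1 = HilbD.pull f pT Z.1 *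
      HilbD.secGraph f (Over.mk (pullback.fst H.hom f ≫ H.hom)) x hx := by
    subst hxdef
    exact hm
  clear hm
  -- the universal family as an `S`-scheme
  obtain ⟨W, hW⟩ : ∃ W : Over S, W = Over.mk (Z'.1.subschemeι ≫ PicF.XTproj f H' ≫ H'.hom) :=
    ⟨_, rfl⟩
  obtain ⟨q, hq⟩ : ∃ q : Over.mk (Z'.1.subschemeι ≫ PicF.XTproj f H' ≫ H'.hom) ⟶ H',
      q.left = Z'.1.subschemeι ≫ PicF.XTproj f H' :=
    ⟨Over.homMk (Z'.1.subschemeι ≫ PicF.XTproj f H') (by simp), rfl⟩
  obtain ⟨y, hydef⟩ : ∃ y : (Over.mk (Z'.1.subschemeι ≫ PicF.XTproj f H' ≫ H'.hom)).left ⟶ X,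
      y = Z'.1.subschemeι ≫ pullback.fst f H'.hom := ⟨_, rfl⟩
  have hy : y ≫ f = (Over.mk (Z'.1.subschemeι ≫ PicF.XTproj f H' ≫ H'.hom)).hom := by
    rw [hydef]
    simp only [Category.assoc, Over.mk_hom]
    rw [pullback.condition]
  subst hW
  -- the tautological point lies on the pulled back universal divisor
  have hsecy : sec f _ y hy ≫ PicF.XTmap f q = Z'.1.subschemeι := by
    apply pullback.hom_ext
    · rw [Category.assoc, XTmap_fst, sec_fst, hydef]
    · have h1 := XTmap_snd f q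
      have h2 := sec_proj f _ y hy
      unfold PicF.XTproj at h1 h2
      rw [Category.assoc, h1, reassoc_of% h2, hq]
  have hle : HilbD.pull f q Z'.1 ≤ HilbD.secGraph f _ y hy := by
    rw [pull_eq_comap, secGraph_eq, comap_le_ker_iff, hsecy, Scheme.IdealSheafData.ker_subschemeι]
  have hD' := isFinLocFreeOfDeg_pull f q (d + 1) Z'.1 Z'.2
  obtain ⟨D'', hD'', hD''2⟩ := exists_isFinLocFreeOfDeg_of_le (PicF.XTproj f _)
    (HilbD.secGraph f _ y hy) (HilbD.pull f q Z'.1) hle 1 (d + 1)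
    (isFinLocFreeOfDeg_secGraph f _ y hy) hD'
  rw [Nat.add_sub_cancel] at hD''
  obtain ⟨ψ₀, hψ₀, -⟩ := hZ _ ⟨D'', hD''⟩
  simp only at hψ₀
  -- the inverse map
  obtain ⟨ψO, hψO⟩ : ∃ ψO : Over.mk (Z'.1.subschemeι ≫ PicF.XTproj f H' ≫ H'.hom) ⟶
      Over.mk (pullback.fst H.hom f ≫ H.hom),
      ψO.left = pullback.lift ψ₀.left y (by rw [Over.w ψ₀, hy]) :=
    ⟨Over.homMk (pullback.lift ψ₀.left y (by rw [Over.w ψ₀, hy])) (by
      simp only [Over.mk_hom, Over.mk_left]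
      rw [pullback.lift_fst_assoc, Over.w ψ₀]
      rfl), rfl⟩
  have hψpT : ψO ≫ pT = ψ₀ := by
    apply Over.OverMorphism.ext
    rw [Over.comp_left, hψO, hpTleft, pullback.lift_fst]
  have hψx : ψO.left ≫ x = y := by
    rw [hψO, hxdef, pullback.lift_snd]
  have hψm : ψO ≫ m = q := by
    apply (hZ' _ ⟨HilbD.pull f q Z'.1, hD'⟩).unique
    · show HilbD.pull f (ψO ≫ m) Z'.1 = HilbD.pull f q Z'.1
      rw [pull_comp, hm', pull_mul, ← pull_comp, hψpT, hψ₀,
        pull_secGraph f ψO x hx (by rw [hψx]; exact hy), hD''2, mul_comm]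
      congr 1
      simp only [hψx]
    · rfl
  -- the forward map
  have hle2 : Z'.1.subschemeι.ker ≤ (sec f _ x hx ≫ PicF.XTmap f m).ker := by
    rw [Scheme.IdealSheafData.ker_subschemeι, ← comap_le_ker_iff, ← pull_eq_comap, hm',
      ← secGraph_eq]
    exact mul_le_right' _ _
  obtain ⟨φ, hφ⟩ : ∃ φ : pullback H.hom f ⟶ Z'.1.subscheme,
      φ ≫ Z'.1.subschemeι = sec f _ x hx ≫ PicF.XTmap f m :=
    ⟨IsClosedImmersion.lift Z'.1.subschemeι (sec f _ x hx ≫ PicF.XTmap f m) hle2,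
      IsClosedImmersion.lift_fac _ _ _⟩
  have hφproj : φ ≫ Z'.1.subschemeι ≫ PicF.XTproj f H' = m.left := by
    have h1 := XTmap_snd f m
    have h2 := sec_proj f _ x hx
    unfold PicF.XTproj at h1 h2 ⊢
    rw [reassoc_of% hφ, h1, reassoc_of% h2]
  have hφy : φ ≫ y = x := by
    rw [hydef, reassoc_of% hφ, XTmap_fst, sec_fst]
  obtain ⟨φO, hφO⟩ : ∃ φO : Over.mk (pullback.fst H.hom f ≫ H.hom) ⟶
      Over.mk (Z'.1.subschemeι ≫ PicF.XTproj f H' ≫ H'.hom), φO.left = φ :=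
    ⟨Over.homMk φ (by
      simp only [Over.mk_hom, Over.mk_left]
      rw [reassoc_of% hφproj, Over.w m]
      rfl), rfl⟩
  have hφq : φO ≫ q = m := by
    apply Over.OverMorphism.ext
    rw [Over.comp_left, hφO, hq, hφproj]
  -- `φ ≫ ψ = 𝟙`
  have hφψ₀ : φO ≫ ψ₀ = pT := by
    apply (hZ _ ⟨HilbD.pull f pT Z.1, isFinLocFreeOfDeg_pull f pT d Z.1 Z.2⟩).unique
    · show HilbD.pull f (φO ≫ ψ₀) Z.1 = HilbD.pull f pT Z.1
      rw [pull_comp, hψ₀]
      have h1 : HilbD.pull f φO (HilbD.pull f q Z'.1) =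
          HilbD.secGraph f _ x hx * HilbD.pull f pT Z.1 := by
        rw [← pull_comp, hφq, hm', mul_comm]
      rw [hD''2, pull_mul, pull_secGraph f φO y hy (by rw [hφO, hφy]; exact hx)] at h1
      have h2 : HilbD.secGraph f (Over.mk (pullback.fst H.hom f ≫ H.hom)) (φO.left ≫ y)
          (by rw [hφO, hφy]; exact hx) = HilbD.secGraph f _ x hx := by
        congr 1
        rw [hφO, hφy]
      rw [h2] at h1
      exact mul_left_cancel_of_isEffCartier _ _ _ (isEffCartier_secGraph f _ x hx) h1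
    · rfl
  have hφψ : φ ≫ ψO.left = 𝟙 _ := by
    apply pullback.hom_ext
    · rw [hψO, Category.assoc, pullback.lift_fst, Category.id_comp, ← hφO, ← Over.comp_left,
        hφψ₀, hpTleft]
    · rw [Category.assoc, Category.id_comp]
      rw [hxdef] at hψx hφy
      rw [hψx, hφy]
  have hψφ : ψO.left ≫ φ = 𝟙 _ := by
    rw [← cancel_mono Z'.1.subschemeι, Category.assoc, hφ, Category.id_comp]
    apply pullback.hom_ext
    · rw [Category.assoc, Category.assoc, XTmap_fst, sec_fst, hψx, hydef]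
    · have h1 := XTmap_snd f m
      have h2 := sec_proj f _ x hx
      unfold PicF.XTproj at h1 h2
      rw [Category.assoc, Category.assoc, h1, reassoc_of% h2, ← Over.comp_left, hψm, hq]
  exact ⟨φ, ⟨ψO.left, hφψ, hψφ⟩, hφproj⟩

end Groth.Agent.Lib.T2H6.HilbCurve
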