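import Mathlib

/-!
# Binomial bases for numerical polynomials (helper6)

Namespace `Groth.Agent.Lib.T2H6.HilbCoeff`.

* `hockey` : `∑_{i ≤ j} C(m + i - 1, i) = C(m + j, j)`.
* `coeff_unique` : the functions `m ↦ C(m + i - 1, i)` are linearly independent on `{m ≥ m₀}`.
* `top_coeffs` : if `∑_j a_j C(m + j, j) = ∑_i C(m + i - 1, i) Δ_i` for all `m` then `Δ_{s+1} = a_{s+1}` and
  `Δ_s = a_s + a_{s+1}`.
-/

set_option autoImplicit false

namespace Groth.Agent.Lib.T2H6.HilbCoeff

open Finset

theorem hockey (m j : ℕ) : ∑ i ∈ range (j + 1), (m + i - 1).choose i = (m + j).choose j := by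
  induction j with
  | zero => simp
  | succ j ih =>
    rw [Finset.sum_range_succ, ih]
    have e1 : m + (j + 1) - 1 = m + j := by omega
    have e2 : m + (j + 1) = (m + j) + 1 := by omega
    rw [e1, e2, Nat.choose_succ_succ]

theorem coeff_unique : ∀ (r : ℕ) (c : ℕ → ℤ) (m₀ : ℕ),
    (∀ m, m₀ ≤ m → ∑ i ∈ range (r + 1), c i * ((m + i - 1).choose i : ℤ) = 0) → ∀ i, i ≤ r → c i = 0 := by
  intro r
  induction r with
  | zero =>
    intro c m₀ h i hi
    obtain rfl : i = 0 := by omega
    have := h m₀ le_rfl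
    simpa using this
  | succ r ih =>
    intro c m₀ h
    have hstep : ∀ m, m₀ + 1 ≤ m →
        ∑ j ∈ range (r + 1), c (j + 1) * ((m + j - 1).choose j : ℤ) = 0 := by
      intro m hm
      obtain ⟨m', rfl⟩ : ∃ m', m = m' + 1 := ⟨m - 1, by omega⟩
      have h1 := h (m' + 1) (by omega)
      have h2 := h m' (by omega)
      rw [Finset.sum_range_succ'] at h1 h2
      have h3 : ∑ j ∈ range (r + 1), c (j + 1) * ((m' + 1 + (j + 1) - 1).choose (j + 1) : ℤ) -
          ∑ j ∈ range (r + 1), c (j + 1) * ((m' + (j + 1) - 1).choose (j + 1) : ℤ) = 0 := by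
        have e1 : ((m' + 1 + 0 - 1).choose 0 : ℤ) = 1 := by simp
        have e2 : ((m' + 0 - 1).choose 0 : ℤ) = 1 := by simp
        rw [e1] at h1
        rw [e2] at h2
        linarith
      rw [← Finset.sum_sub_distrib] at h3
      rw [← h3]
      refine Finset.sum_congr rfl fun j _ => ?_
      have e3 : m' + 1 + (j + 1) - 1 = (m' + j) + 1 := by omega
      have e4 : m' + (j + 1) - 1 = m' + j := by omega
      have e5 : m' + 1 + j - 1 = m' + j := by omega
      rw [e3, e4, e5, Nat.choose_succ_succ]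
      push_cast
      ring
    have hrest := ih (fun j => c (j + 1)) (m₀ + 1) hstep
    intro i hi
    rcases Nat.eq_zero_or_pos i with rfl | hpos
    · have h0 := h m₀ le_rfl
      rw [Finset.sum_range_succ'] at h0
      have hz : ∑ j ∈ range (r + 1), c (j + 1) * ((m₀ + (j + 1) - 1).choose (j + 1) : ℤ) = 0 := by
        refine Finset.sum_eq_zero fun j hj => ?_
        rw [hrest j (by rw [Finset.mem_range] at hj; omega), zero_mul]
      rw [hz] at h0
      simpa using h0
    · obtain ⟨j, rfl⟩ : ∃ j, i = j + 1 := ⟨i - 1, by omega⟩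
      exact hrest j (by omega)

/-- comparing the two binomial bases. -/
theorem top_coeffs (s : ℕ) (a : Fin (s + 2) → ℤ) (Δ : ℕ → ℤ)
    (h : ∀ m : ℕ, ∑ j : Fin (s + 2), a j * ((m + j).choose j : ℤ) =
      ∑ i ∈ range (s + 2), ((m + i - 1).choose i : ℤ) * Δ i) :
    Δ (s + 1) = a (Fin.last (s + 1)) ∧ Δ s = a (Fin.castSucc (Fin.last s)) + a (Fin.last (s + 1)) := by
  classical
  set a' : ℕ → ℤ := fun j => if hj : j < s + 2 then a ⟨j, hj⟩ else 0 with ha'
  have ha'j : ∀ j : Fin (s + 2), a' j = a j := by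
    intro j
    simp [ha', j.2]
  have hsum : ∀ m : ℕ, ∑ j : Fin (s + 2), a j * ((m + j).choose j : ℤ) =
      ∑ i ∈ range (s + 2), (∑ j ∈ Ico i (s + 2), a' j) * ((m + i - 1).choose i : ℤ) := by
    intro m
    have h1 : ∑ j : Fin (s + 2), a j * ((m + j).choose j : ℤ) =
        ∑ j ∈ range (s + 2), a' j * ((m + j).choose j : ℤ) := by
      rw [Finset.sum_range]
      refine Finset.sum_congr rfl fun j _ => ?_
      rw [ha'j]
    rw [h1]
    have h2 : ∀ j ∈ range (s + 2), a' j * ((m + j).choose j : ℤ) =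
        ∑ i ∈ range (j + 1), a' j * ((m + i - 1).choose i : ℤ) := by
      intro j _
      rw [← Finset.mul_sum, ← hockey m j]
      push_cast
      rfl
    rw [Finset.sum_congr rfl h2,
      Finset.sum_comm' (s' := fun i => Ico i (s + 2)) (t' := range (s + 2))
        (by intro j i; simp only [Finset.mem_range, Finset.mem_Ico]; omega)]
    refine Finset.sum_congr rfl fun i _ => ?_
    rw [Finset.sum_mul]
  have hz := coeff_unique (s + 1) (fun i => Δ i - ∑ j ∈ Ico i (s + 2), a' j) 0 (by
    intro m _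
    have := h m
    rw [hsum m] at this
    have h3 : ∑ i ∈ range (s + 1 + 1), (Δ i - ∑ j ∈ Ico i (s + 2), a' j) * ((m + i - 1).choose i : ℤ) =
        ∑ i ∈ range (s + 2), ((m + i - 1).choose i : ℤ) * Δ i -
          ∑ i ∈ range (s + 2), (∑ j ∈ Ico i (s + 2), a' j) * ((m + i - 1).choose i : ℤ) := by
      rw [← Finset.sum_sub_distrib]
      refine Finset.sum_congr rfl fun i _ => ?_
      ring
    rw [h3, ← this, sub_self])
  constructor
  · have := hz (s + 1) le_rfl
    have e : Ico (s + 1) (s + 2) = {s + 1} := by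
      ext x; simp only [Finset.mem_Ico, Finset.mem_singleton]; omega
    rw [e, Finset.sum_singleton] at this
    have h5 : a' (s + 1) = a (Fin.last (s + 1)) := ha'j (Fin.last (s + 1))
    rw [h5] at this
    linarith
  · have := hz s (by omega)
    have e : Ico s (s + 2) = {s, s + 1} := by
      ext x; simp only [Finset.mem_Ico, Finset.mem_insert, Finset.mem_singleton]; omega
    rw [e, Finset.sum_pair (by omega)] at this
    have h5 : a' (s + 1) = a (Fin.last (s + 1)) := ha'j (Fin.last (s + 1))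
    have h6 : a' s = a (Fin.castSucc (Fin.last s)) := ha'j (Fin.castSucc (Fin.last s))
    rw [h5, h6] at this
    linarith

end Groth.Agent.Lib.T2H6.HilbCoeff
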