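import Mathlib
import Groth.Prelude.Def_HilbD
import Groth.Agent.Lib.T2H7HilbBasics
import Groth.Agent.Lib.T2H7HilbPush
import Groth.Agent.Lib.Helper12Descent
import Groth.Agent.Lib.Helper12Torsor
import Groth.Agent.S11731

/-!
# The Hilbert functor `Hilb^d_{X/S}` satisfies the sheaf condition for a single fpqc cover (helper6)

* `isFinLocFreeOfDeg_of_isPullback`: fpqc descent of "finite locally free of degree `d`".
* `main`: gluing along a single fpqc cover.
-/

set_option autoImplicit false
universe u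
open CategoryTheory CategoryTheory.Limits AlgebraicGeometry

namespace Groth.Agent.Lib.T2H6.HilbFpqc

open Groth.Agent.Lib.T2H7.HilbBasics

/-- fpqc descent of `IsFinLocFreeOfDeg d`. -/
theorem isFinLocFreeOfDeg_of_isPullback {X Y X' Y' : Scheme.{u}} {p : X' ⟶ X} {g' : X' ⟶ Y'}
    {g : X ⟶ Y} {b : Y' ⟶ Y} (h : IsPullback p g' g b) [Flat b] [Surjective b] [QuasiCompact b]
    (d : ℕ) (hg' : Mor2.IsFinLocFreeOfDeg d g') : Mor2.IsFinLocFreeOfDeg d g := by
  obtain ⟨⟨h1, h2, h3⟩, hd⟩ := hg'
  have hQ : (@Surjective ⊓ @Flat ⊓ @QuasiCompact : MorphismProperty Scheme.{u}) b :=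
    ⟨⟨‹_›, ‹_›⟩, ‹_›⟩
  haveI := Groth.Agent.Lib.Helper12.descendsAlong_isFinite.{u}
  haveI := Groth.Agent.Lib.Helper12.descendsAlong_flat.{u}
  have k1 : IsFinite g :=
    MorphismProperty.of_isPullback_of_descendsAlong (P := @IsFinite) h.flip hQ h1
  have k2 : Flat g :=
    MorphismProperty.of_isPullback_of_descendsAlong (P := @Flat) h.flip hQ h2
  have k3 : LocallyOfFinitePresentation g :=
    MorphismProperty.of_isPullback_of_descendsAlong (P := @LocallyOfFinitePresentation) h.flip hQ h3
  refine ⟨⟨k1, k2, k3⟩, fun y => ?_⟩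
  obtain ⟨y', rfl⟩ := b.surjective y
  rw [← Scheme.Hom.finrank_of_isPullback _ _ _ _ h y']
  exact hd y'

/-- fpqc descent of `IsFinLocFreeOfDeg d` for closed subschemes. -/
theorem isFinLocFreeOfDeg_of_comap {X Y X' Y' : Scheme.{u}} {p : X' ⟶ X} {g' : X' ⟶ Y'}
    {g : X ⟶ Y} {b : Y' ⟶ Y} (h : IsPullback p g' g b) [Flat b] [Surjective b] [QuasiCompact b]
    (I : X.IdealSheafData) (d : ℕ)
    (hI : Mor2.IsFinLocFreeOfDeg d ((I.comap p).subschemeι ≫ g')) :
    Mor2.IsFinLocFreeOfDeg d (I.subschemeι ≫ g) := by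
  have hpb : IsPullback (pullback.snd p I.subschemeι) (pullback.fst p I.subschemeι ≫ g')
      (I.subschemeι ≫ g) b :=
    (IsPullback.of_hasPullback p I.subschemeι).flip.paste_vert h
  have e1 : (I.comap p).subschemeι ≫ g' =
      (I.comapIso p).hom ≫ (pullback.fst p I.subschemeι ≫ g') := by
    rw [← Category.assoc, Scheme.IdealSheafData.comapIso_hom_fst]
  rw [e1, Groth.Agent.Lib.T2H7.HilbPush.isFinLocFreeOfDeg_comp_iso] at hI
  exact isFinLocFreeOfDeg_of_isPullback hpb d hI

variable {X S : Scheme.{u}} (f : X ⟶ S)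

set_option backward.isDefEq.respectTransparency false in
theorem main (d : ℕ) (T : Over S) {T' : Scheme.{u}} (g : T' ⟶ T.left)
    [QuasiCompact g] [Flat g] [Surjective g] (Z' : HilbD.Obj f d (HilbD.coverOver T g))
    (hZ' : HilbD.pull f (HilbD.overlapFst T g) Z'.1 = HilbD.pull f (HilbD.overlapSnd T g) Z'.1) :
    ∃! I : (PicF.XT f T).IdealSheafData,
      Mor2.IsFinLocFreeOfDeg d (I.subschemeι ≫ PicF.XTproj f T) ∧
      HilbD.pull f (HilbD.coverHom T g) I = Z'.1 := by
  have hpb : IsPullback (PicF.XTmap f (HilbD.coverHom T g))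
      (PicF.XTproj f (HilbD.coverOver T g)) (PicF.XTproj f T) g :=
    isPullback_XTmap f (HilbD.coverHom T g)
  haveI : Flat (PicF.XTmap f (HilbD.coverHom T g)) :=
    MorphismProperty.of_isPullback (P := @Flat) hpb.flip ‹Flat g›
  haveI : Surjective (PicF.XTmap f (HilbD.coverHom T g)) :=
    MorphismProperty.of_isPullback (P := @Surjective) hpb.flip ‹Surjective g›
  haveI : QuasiCompact (PicF.XTmap f (HilbD.coverHom T g)) :=
    MorphismProperty.of_isPullback (P := @QuasiCompact) hpb.flip ‹QuasiCompact g›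
  set g' := PicF.XTmap f (HilbD.coverHom T g) with hg'
  have hsnd : g' ≫ PicF.XTproj f T = PicF.XTproj f (HilbD.coverOver T g) ≫ g := hpb.w
  have hfst : g' ≫ pullback.fst f T.hom = pullback.fst f (HilbD.coverOver T g).hom :=
    XTmap_fst f (HilbD.coverHom T g)
  -- the comparison map to `X ×_S (T' ×_T T')`
  let m : pullback g' g' ⟶ pullback g g :=
    pullback.lift (pullback.fst g' g' ≫ PicF.XTproj f (HilbD.coverOver T g))
      (pullback.snd g' g' ≫ PicF.XTproj f (HilbD.coverOver T g))
      (by rw [Category.assoc, Category.assoc, ← hsnd, pullback.condition_assoc])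
  let e : pullback g' g' ⟶ PicF.XT f (HilbD.overlapOver T g) :=
    pullback.lift (pullback.fst g' g' ≫ pullback.fst f (HilbD.coverOver T g).hom) m
      (by
        simp only [m, Category.assoc, Over.mk_hom, pullback.lift_fst_assoc]
        rw [pullback.condition]
        rfl)
  have he1 : e ≫ PicF.XTmap f (HilbD.overlapFst T g) = pullback.fst g' g' := by
    apply pullback.hom_ext
    · rw [Category.assoc, XTmap_fst]
      exact pullback.lift_fst _ _ _
    · rw [Category.assoc]
      erw [XTmap_snd]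
      rw [← Category.assoc]
      erw [pullback.lift_snd]
      exact pullback.lift_fst _ _ _
  have he2 : e ≫ PicF.XTmap f (HilbD.overlapSnd T g) = pullback.snd g' g' := by
    apply pullback.hom_ext
    · rw [Category.assoc, XTmap_fst]
      erw [pullback.lift_fst]
      rw [← hfst, pullback.condition_assoc]
    · rw [Category.assoc]
      erw [XTmap_snd]
      rw [← Category.assoc]
      erw [pullback.lift_snd]
      exact pullback.lift_snd _ _ _
  have hover : (Z'.1).comap (pullback.fst g' g') = (Z'.1).comap (pullback.snd g' g') := by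
    rw [← he1, ← he2, Scheme.IdealSheafData.comap_comp, Scheme.IdealSheafData.comap_comp,
      ← pull_eq_comap, ← pull_eq_comap, hZ']
  have hcov : Presieve.ofArrows (fun _ : PUnit.{u + 1} => PicF.XT f (HilbD.coverOver T g))
      (fun _ => g') ∈ Scheme.fpqcPrecoverage (PicF.XT f T) := by
    rw [Presieve.ofArrows_pUnit]
    exact Scheme.Hom.singleton_mem_fpqcPrecoverage g'
  obtain ⟨J, hJ, hJu⟩ := Groth.Agent.S11731.result (fun _ : PUnit.{u + 1} => g') hcov
    (fun _ => Z'.1) (fun _ _ => hover)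
  have hJ' : J.comap g' = Z'.1 := hJ PUnit.unit
  refine ⟨J, ⟨?_, ?_⟩, ?_⟩
  · apply isFinLocFreeOfDeg_of_comap hpb J d
    rw [hJ']
    exact Z'.2
  · rw [pull_eq_comap]
    exact hJ'
  · rintro K ⟨-, hK⟩
    apply hJu
    intro _
    rw [pull_eq_comap] at hK
    exact hK

end Groth.Agent.Lib.T2H6.HilbFpqc
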