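-- helper6 (team 2): an immersion `W ⟶ X` into a separated `S`-scheme induces a monomorphism of Hilbert
-- functors.
import Mathlib
import Groth.Prelude.Def_FGA

set_option autoImplicit false
set_option backward.isDefEq.respectTransparency false
set_option backward.isDefEq.respectTransparency.types false
open CategoryTheory CategoryTheory.Limits AlgebraicGeometry

universe u

namespace Groth.Agent.Lib.T2H6.HilbImm

/-- If `m` is a monomorphism and `i ≫ m` is a closed immersion with `i` a closed immersion, then the
ideal of `i` is the inverse image along `m` of the ideal of `i ≫ m`. -/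
theorem ker_comap_of_mono {V P Q : Scheme.{u}} (i : V ⟶ P) (m : P ⟶ Q) [Mono m]
    [IsClosedImmersion (i ≫ m)] : (i ≫ m).ker.comap m = i.ker := by
  rw [← Scheme.IdealSheafData.ker_fst_of_isClosedImmersion]
  have hc : pullback.fst m (i ≫ m) = pullback.snd m (i ≫ m) ≫ i := by
    rw [← cancel_mono m, Category.assoc, pullback.condition]
  have hw : i ≫ m = 𝟙 V ≫ i ≫ m := (Category.id_comp _).symm
  have he : IsIso (pullback.lift i (𝟙 V) hw) := by
    refine ⟨pullback.snd _ _, by simp, ?_⟩
    apply pullback.hom_ext
    · rw [Category.assoc, pullback.lift_fst, Category.id_comp, hc]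
    · rw [Category.assoc, pullback.lift_snd, Category.id_comp, Category.comp_id]
  rw [← Scheme.Hom.ker_comp_of_isIso (pullback.lift i (𝟙 V) hw), pullback.lift_fst]

theorem main {W X S : Scheme.{u}} (f : X ⟶ S) [IsSeparated f] (ι : W ⟶ X) [IsImmersion ι]
    (T : Over S) :
    (∀ V : FGA.HilbSet (ι ≫ f) T,
      IsClosedImmersion (V.1.subschemeι ≫ pullback.map (ι ≫ f) T.hom f T.hom ι (𝟙 T.left) (𝟙 S)
          (Category.comp_id _) ((Category.comp_id _).trans (Category.id_comp _).symm))) ∧
    Function.Injective (fun V : FGA.HilbSet (ι ≫ f) T =>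
      (V.1.subschemeι ≫ pullback.map (ι ≫ f) T.hom f T.hom ι (𝟙 T.left) (𝟙 S)
          (Category.comp_id _) ((Category.comp_id _).trans (Category.id_comp _).symm)).ker) := by
  set m := pullback.map (ι ≫ f) T.hom f T.hom ι (𝟙 T.left) (𝟙 S)
      (Category.comp_id _) ((Category.comp_id _).trans (Category.id_comp _).symm) with hm
  have hmimm : IsImmersion m :=
    MorphismProperty.pullbackMap (P := @IsImmersion) (f := ι ≫ f) (g := T.hom) (f' := f)
      (g' := T.hom) (i₁ := ι) (i₂ := 𝟙 T.left) inferInstance inferInstance rfl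
      (Category.id_comp _).symm
  have hmsnd : m ≫ pullback.snd f T.hom = pullback.snd (ι ≫ f) T.hom := by
    rw [hm, pullback.lift_snd, Category.comp_id]
  have key : ∀ V : FGA.HilbSet (ι ≫ f) T, IsClosedImmersion (V.1.subschemeι ≫ m) := by
    intro V
    have hp : IsProper ((V.1.subschemeι ≫ m) ≫ pullback.snd f T.hom) := by
      rw [Category.assoc, hmsnd]
      exact V.2.1
    have hp' : IsProper (V.1.subschemeι ≫ m) :=
      IsProper.of_comp (V.1.subschemeι ≫ m) (pullback.snd f T.hom)
    exact IsClosedImmersion.of_isPreimmersion _ (V.1.subschemeι ≫ m).isClosedMap.isClosed_range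
  refine ⟨key, ?_⟩
  intro V V' h
  have h' : (V.1.subschemeι ≫ m).ker = (V'.1.subschemeι ≫ m).ker := h
  have := key V
  have := key V'
  have h1 := ker_comap_of_mono V.1.subschemeι m
  have h2 := ker_comap_of_mono V'.1.subschemeι m
  rw [Scheme.IdealSheafData.ker_subschemeι] at h1 h2
  apply Subtype.ext
  rw [← h1, ← h2, h']

end Groth.Agent.Lib.T2H6.HilbImm
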