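import Mathlib
import Groth.Prelude
import Groth.Agent.Lib.T2H6HilbPolyE
set_option backward.isDefEq.respectTransparency.types false

/-!
# Slope semistability: morphisms (helper6)

Namespace `Groth.Agent.Lib.T2H6.HilbPolyG`.  `X` proper over a field `k`, `L` ample.

* `hatSlope_mediant` : see-saw for `hatSlope`.
* `hatSlope_le_of_sub` : `G` pure and slope-semistable, `I ⊂ G` nonzero coherent ⇒ `μ(I) ≤ μ(G)`.
* `hatSlope_le_image` : `F` pure and slope-semistable, `φ : F ⟶ G` nonzero into a pure sheaf ⇒ `μ(F) ≤ μ(im φ)`.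
* `hom_eq_zero_of_hatSlope_lt` (S18965).
-/

set_option autoImplicit false
set_option linter.style.haveILetI false
set_option linter.unusedSectionVars false
universe u

open CategoryTheory TopCat TopologicalSpace Opposite AlgebraicGeometry Limits Polynomial StabCat

namespace Groth.Agent.Lib.T2H6.HilbPolyG

open Groth.Agent.Lib.T2H6.HilbPolyA Groth.Agent.Lib.T2H6.HilbPolyB Groth.Agent.Lib.T2H6.HilbPolyC
  Groth.Agent.Lib.T2H6.HilbPolyD Groth.Agent.Lib.T2H6.HilbPolyE Groth.Agent.Lib.T2H6.HHLin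

theorem hatSlope_mediant {n : ℕ} {PK PI PF : ℚ[X]} (h : PF = PK + PI) (aK : 0 < alpha n PK)
    (aI : 0 < alpha n PI) (hle : hatSlope n PK ≤ hatSlope n PF) : hatSlope n PF ≤ hatSlope n PI := by
  unfold hatSlope at hle ⊢
  have aF : 0 < alpha n PF := by rw [h, alpha_add]; linarith
  rw [div_le_div_iff₀ aK aF] at hle
  rw [div_le_div_iff₀ aF aI]
  rw [h, alpha_add, alpha_add] at hle ⊢
  nlinarith

theorem le_pred_of_lt {x : WithBot ℕ∞} {n : ℕ} (hn : 1 ≤ n) (h : x < (n : WithBot ℕ∞)) :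
    x ≤ ((n - 1 : ℕ) : WithBot ℕ∞) := by
  induction x with
  | bot => exact bot_le
  | coe y =>
    induction y with
    | top =>
      exfalso
      have : ((⊤ : ℕ∞) : WithBot ℕ∞) < ((n : ℕ∞) : WithBot ℕ∞) := h
      rw [WithBot.coe_lt_coe] at this
      exact absurd this (by simp)
    | coe m =>
      have : ((m : ℕ∞) : WithBot ℕ∞) < ((n : ℕ∞) : WithBot ℕ∞) := h
      rw [WithBot.coe_lt_coe, Nat.cast_lt] at this
      have h2 : m ≤ n - 1 := by omega
      have h3 : ((m : ℕ∞) : WithBot ℕ∞) ≤ (((n - 1 : ℕ) : ℕ∞) : WithBot ℕ∞) :=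
        WithBot.coe_le_coe.2 (Nat.cast_le.2 h2)
      exact h3

variable {X : Scheme.{u}} (k : Type u) [Field k] [X.Over (Spec (CommRingCat.of k))]
  [IsProper (X ↘ Spec (CommRingCat.of k))] (L : X.Modules) (hL : CohB1.IsAmple L)

include hL in
/-- `G` pure of dimension `n` and slope-semistable; a nonzero coherent submodule has smaller `hatSlope`. -/
theorem hatSlope_le_of_sub {n : ℕ} (hn : 1 ≤ n) {G : X.Modules} (hGp : ShStab.IsPure X G n)
    (hG : ShStab.IsMuSemistable k X L G n) (I : X.Modules) (ι : I ⟶ G) [Mono ι] (hI : Coh.IsCoh I)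
    (hI0 : ¬ IsZero I) (pI pG : ℚ[X]) (hpI : ShStab.IsHilbPoly k X L I pI)
    (hpG : ShStab.IsHilbPoly k X L G pG) : hatSlope n pI ≤ hatSlope n pG := by
  obtain ⟨cG, G0, hdimG, -, hmu⟩ := hG
  have aI : 0 < alpha n pI := alpha_pos_of_sub k L hL hGp ι hI hI0 pI hpI
  rcases (alpha_le_of_mono k L hL cG G0 hGp I ι hI pI pG hpI hpG).lt_or_eq with hlt | heq
  · exact hmu I ι inferInstance hI pI pG hpI hpG aI hlt
  · have cC := Groth.Agent.Lib.T2H5.GenIsoB.isCoh_cokernel ι hI cG
    have hpC := isHilbPoly_hilb k L hL.1 _ cC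
    have hadd := hilb_add_cokernel k L hL hI cG ι pI pG _ hpI hpG hpC
    have haC : alpha n (hilb k L (cokernel ι)) = 0 := by
      have := congrArg (alpha n) hadd
      rw [alpha_add, ← heq] at this
      linarith
    have hdimC : topologicalKrullDim (CohB1.support (cokernel ι)) ≤ (n : WithBot ℕ∞) := by
      refine le_trans ?_ hdimG.le
      exact (Topology.IsEmbedding.inclusion
        (Groth.Agent.Lib.T2H5.GenIsoB.support_subset_of_epi (cokernel.π ι))).isInducing.topologicalKrullDim_le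
    have hlt : topologicalKrullDim (CohB1.support (cokernel ι)) < (n : WithBot ℕ∞) := by
      refine lt_of_le_of_ne hdimC fun he => ?_
      have := alpha_pos k L hL _ cC _ hpC n he
      rw [haC] at this
      exact lt_irrefl _ this
    have hnn := alpha_nonneg k L hL _ cC _ hpC (n - 1) (le_pred_of_lt hn hlt)
    unfold hatSlope
    rw [← heq, div_le_div_iff_of_pos_right aI, hadd, alpha_add]
    linarith

include hL in
/-- `F` pure and slope-semistable, `φ : F ⟶ G` nonzero, `G` pure: `μ(F) ≤ μ(im φ)`. -/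
theorem hatSlope_le_image {n : ℕ} {F G : X.Modules} (hFp : ShStab.IsPure X F n)
    (hF : ShStab.IsMuSemistable k X L F n) (hG : Coh.IsCoh G) (hGp : ShStab.IsPure X G n)
    (φ : F ⟶ G) (hφ : φ ≠ 0) (pF pI : ℚ[X]) (hpF : ShStab.IsHilbPoly k X L F pF)
    (hpI : ShStab.IsHilbPoly k X L (Abelian.image φ) pI) : hatSlope n pF ≤ hatSlope n pI := by
  obtain ⟨cF, F0, hdimF, -, hmu⟩ := hF
  haveI := isLocallyNoetherian (X := X) k
  have cK := Groth.Agent.Lib.T2H5.GenIsoB.isCoh_kernel φ cF hG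
  have cI := Groth.Agent.Lib.T2H6.CurveVB.isCoh_image φ cF hG
  have hpK := isHilbPoly_hilb k L hL.1 (kernel φ) cK
  have hadd := hilb_add_kerIm k L hL cF hG φ _ pF pI hpK hpF hpI
  have aI : 0 < alpha n pI :=
    alpha_pos_of_sub k L hL hGp (Abelian.image.ι φ) cI (not_isZero_image φ hφ) pI hpI
  by_cases hK : IsZero (kernel φ)
  · have h0 : hilb k L (kernel φ) = 0 :=
      isHilbPoly_unique k L _ _ _ hpK (isHilbPoly_zero_of_isZero k L _ hK)
    rw [h0, zero_add] at hadd
    rw [hadd]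
  · have aK : 0 < alpha n (hilb k L (kernel φ)) :=
      alpha_pos_of_sub k L hL hFp (kernel.ι φ) cK hK _ hpK
    refine hatSlope_mediant hadd aK aI (hmu _ (kernel.ι φ) inferInstance cK _ pF hpK hpF aK ?_)
    rw [hadd, alpha_add]
    linarith

include hL in
/-- S18965. -/
theorem hom_eq_zero_of_hatSlope_lt {n : ℕ} (hn : 1 ≤ n) {F G : X.Modules} (hFp : ShStab.IsPure X F n)
    (hGp : ShStab.IsPure X G n) (hF : ShStab.IsMuSemistable k X L F n)
    (hG : ShStab.IsMuSemistable k X L G n) (pF pG : ℚ[X]) (hpF : ShStab.IsHilbPoly k X L F pF)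
    (hpG : ShStab.IsHilbPoly k X L G pG) (hlt : hatSlope n pG < hatSlope n pF) (φ : F ⟶ G) : φ = 0 := by
  by_contra hφ
  haveI := isLocallyNoetherian (X := X) k
  have cI := Groth.Agent.Lib.T2H6.CurveVB.isCoh_image φ hF.1 hG.1
  have hpI := isHilbPoly_hilb k L hL.1 _ cI
  have h1 := hatSlope_le_image k L hL hFp hF hG.1 hGp φ hφ pF _ hpF hpI
  have h2 := hatSlope_le_of_sub k L hL hn hGp hG _ (Abelian.image.ι φ) cI (not_isZero_image φ hφ) _ pG
    hpI hpG
  exact lt_irrefl _ (lt_of_lt_of_le hlt (h1.trans h2))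

end Groth.Agent.Lib.T2H6.HilbPolyG
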