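import Mathlib
import Groth.Prelude
import Groth.Agent.Lib.T2H6HilbPolyG
import Groth.Agent.Lib.T2H5GenIsoA
set_option backward.isDefEq.respectTransparency.types false

/-!
# Extensions of slope-semistable sheaves of the same slope (helper6)

Namespace `Groth.Agent.Lib.T2H6.HilbPolyH`.  `isMuSemistable_of_shortExact` (S18967).
-/

set_option autoImplicit false
set_option linter.style.haveILetI false
set_option linter.unusedSectionVars false
universe u

open CategoryTheory TopCat TopologicalSpace Opposite AlgebraicGeometry Limits Polynomial StabCat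

namespace Groth.Agent.Lib.T2H6.HilbPolyH

open Groth.Agent.Lib.T2H6.HilbPolyA Groth.Agent.Lib.T2H6.HilbPolyB Groth.Agent.Lib.T2H6.HilbPolyC
  Groth.Agent.Lib.T2H6.HilbPolyD Groth.Agent.Lib.T2H6.HilbPolyE Groth.Agent.Lib.T2H6.HilbPolyG
  Groth.Agent.Lib.T2H6.HHLin

theorem hatSlope_add_eq {n : ℕ} {PF PG PH : ℚ[X]} (h : PH = PF + PG) (aF : 0 < alpha n PF)
    (aG : 0 < alpha n PG) (hμ : hatSlope n PF = hatSlope n PG) : hatSlope n PH = hatSlope n PF := by
  unfold hatSlope at hμ ⊢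
  have aH : 0 < alpha n PH := by rw [h, alpha_add]; linarith
  rw [div_eq_div_iff aF.ne' aG.ne'] at hμ
  rw [div_eq_div_iff aH.ne' aF.ne', h, alpha_add, alpha_add]
  linarith

theorem add_one_ne_of_le {x : WithBot ℕ∞} {n : ℕ} (h : (n : WithBot ℕ∞) ≤ x) : x + 1 ≠ (n : WithBot ℕ∞) := by
  induction x with
  | bot => simp at h
  | coe y =>
    induction y with
    | top =>
      intro h2
      have : ((⊤ : ℕ∞) : WithBot ℕ∞) + 1 = ((⊤ : ℕ∞) : WithBot ℕ∞) := rfl
      rw [this] at h2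
      have h3 : ((⊤ : ℕ∞) : WithBot ℕ∞) = ((n : ℕ∞) : WithBot ℕ∞) := h2
      rw [WithBot.coe_inj] at h3
      exact absurd h3 (by simp)
    | coe m =>
      intro h2
      have h1 : ((n : ℕ∞) : WithBot ℕ∞) ≤ ((m : ℕ∞) : WithBot ℕ∞) := h
      rw [WithBot.coe_le_coe, Nat.cast_le] at h1
      have h3 : (((m + 1 : ℕ) : ℕ∞) : WithBot ℕ∞) = ((n : ℕ∞) : WithBot ℕ∞) := by
        refine Eq.trans ?_ h2
        rfl
      rw [WithBot.coe_inj, Nat.cast_inj] at h3
      omega

variable {X : Scheme.{u}} (k : Type u) [Field k] [X.Over (Spec (CommRingCat.of k))]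
  [IsProper (X ↘ Spec (CommRingCat.of k))] (L : X.Modules) (hL : CohB1.IsAmple L)

include hL in
/-- `α_{n-1}(S) ≤ μ(F) · α_n(S)` for every coherent submodule `S` of a pure slope-semistable `F`. -/
theorem alphaPred_le {n : ℕ} (hn : 1 ≤ n) {F : X.Modules} (hFp : ShStab.IsPure X F n)
    (hF : ShStab.IsMuSemistable k X L F n) (S : X.Modules) (ι : S ⟶ F) [Mono ι] (hS : Coh.IsCoh S)
    (pS pF : ℚ[X]) (hpS : ShStab.IsHilbPoly k X L S pS) (hpF : ShStab.IsHilbPoly k X L F pF) :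
    alpha (n - 1) pS ≤ hatSlope n pF * alpha n pS := by
  by_cases hS0 : IsZero S
  · have : pS = 0 := isHilbPoly_unique k L S pS 0 hpS (isHilbPoly_zero_of_isZero k L S hS0)
    rw [this]
    unfold alpha
    simp
  · have aS : 0 < alpha n pS := alpha_pos_of_sub k L hL hFp ι hS hS0 pS hpS
    have := hatSlope_le_of_sub k L hL hn hFp hF S ι hS hS0 pS pF hpS hpF
    unfold hatSlope at this ⊢
    rwa [div_le_iff₀ aS] at this

section ext

variable {n : ℕ} (T : ShortComplex X.Modules) (hT : T.ShortExact)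

include hT in
/-- the part of a submodule of the middle term lying in the sub: `S ∩ F ↪ F`. -/
theorem exists_kernel_lift (S : X.Modules) (ι : S ⟶ T.X₂) [Mono ι] :
    ∃ j : kernel (ι ≫ T.g) ⟶ T.X₁, Mono j := by
  haveI := hT.mono_f
  have hk : (kernel.ι (ι ≫ T.g) ≫ ι) ≫ T.g = 0 := by rw [Category.assoc, kernel.condition]
  refine ⟨hT.exact.lift _ hk, ?_⟩
  have h2 : hT.exact.lift _ hk ≫ T.f = kernel.ι (ι ≫ T.g) ≫ ι := hT.exact.lift_f _ hk
  haveI : Mono (hT.exact.lift _ hk ≫ T.f) := by rw [h2]; infer_instance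
  exact mono_of_mono _ T.f

include hL hT in
/-- the key bound: `α_{n-1}(S) ≤ μ · α_n(S)` for coherent `S ⊂ H`. -/
theorem alphaPred_le_ext (hn : 1 ≤ n) (hFt : ShStab.IsPure X T.X₁ n) (hGt : ShStab.IsPure X T.X₃ n)
    (hF : ShStab.IsMuSemistable k X L T.X₁ n) (hG : ShStab.IsMuSemistable k X L T.X₃ n)
    (pF pG : ℚ[X]) (hpF : ShStab.IsHilbPoly k X L T.X₁ pF) (hpG : ShStab.IsHilbPoly k X L T.X₃ pG)
    (hμ : hatSlope n pF = hatSlope n pG)
    (S : X.Modules) (ι : S ⟶ T.X₂) [Mono ι] (hS : Coh.IsCoh S) (pS : ℚ[X])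
    (hpS : ShStab.IsHilbPoly k X L S pS) :
    alpha (n - 1) pS ≤ hatSlope n pF * alpha n pS ∧
      ((∀ (A : X.Modules) (a : A ⟶ T.X₁), Mono a → Coh.IsCoh A → ¬ IsZero A →
          ¬ topologicalKrullDim (CohB1.support A) ≤ topologicalKrullDim (CohB1.support S)) →
        (∀ (A : X.Modules) (a : A ⟶ T.X₃), Mono a → Coh.IsCoh A → ¬ IsZero A →
          ¬ topologicalKrullDim (CohB1.support A) ≤ topologicalKrullDim (CohB1.support S)) →
        IsZero S) := by
  haveI := isLocallyNoetherian (X := X) k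
  obtain ⟨j, hj⟩ := exists_kernel_lift T hT S ι
  have cK := Groth.Agent.Lib.T2H5.GenIsoB.isCoh_kernel (ι ≫ T.g) hS hG.1
  have cI := Groth.Agent.Lib.T2H6.CurveVB.isCoh_image (ι ≫ T.g) hS hG.1
  have hpK := isHilbPoly_hilb k L hL.1 _ cK
  have hpI := isHilbPoly_hilb k L hL.1 _ cI
  have hadd := hilb_add_kerIm k L hL hS hG.1 (ι ≫ T.g) _ pS _ hpK hpS hpI
  have b1 := alphaPred_le k L hL hn hFt hF _ j cK _ pF hpK hpF
  have b2 := alphaPred_le k L hL hn hGt hG _ (Abelian.image.ι (ι ≫ T.g)) cI _ pG hpI hpG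
  constructor
  · rw [hadd, alpha_add, alpha_add, mul_add]
    rw [← hμ] at b2
    linarith
  · intro h1 h2
    have z1 : IsZero (kernel (ι ≫ T.g)) := by
      by_contra hne
      exact h1 _ j hj cK hne (dim_support_le_of_mono (kernel.ι (ι ≫ T.g)))
    have z2 : IsZero (Abelian.image (ι ≫ T.g)) := by
      by_contra hne
      refine h2 _ (Abelian.image.ι (ι ≫ T.g)) inferInstance cI hne ?_
      exact (Topology.IsEmbedding.inclusion
        (Groth.Agent.Lib.T2H5.GenIsoB.support_subset_of_epi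
          (Abelian.factorThruImage (ι ≫ T.g)))).isInducing.topologicalKrullDim_le
    have e1 : hilb k L (kernel (ι ≫ T.g)) = 0 :=
      isHilbPoly_unique k L _ _ _ hpK (isHilbPoly_zero_of_isZero k L _ z1)
    have e2 : hilb k L (Abelian.image (ι ≫ T.g)) = 0 :=
      isHilbPoly_unique k L _ _ _ hpI (isHilbPoly_zero_of_isZero k L _ z2)
    rw [e1, e2, add_zero] at hadd
    rw [hadd] at hpS
    exact isZero_of_isHilbPoly_zero k L hL S hS hpS

include hL hT in
/-- S18967. -/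
theorem isMuSemistable_of_shortExact (hn : 1 ≤ n) (hX : topologicalKrullDim X = (n : WithBot ℕ∞))
    (hFt : ShStab.IsPure X T.X₁ n) (hGt : ShStab.IsPure X T.X₃ n)
    (hF : ShStab.IsMuSemistable k X L T.X₁ n) (hG : ShStab.IsMuSemistable k X L T.X₃ n)
    (pF pG : ℚ[X]) (hpF : ShStab.IsHilbPoly k X L T.X₁ pF) (hpG : ShStab.IsHilbPoly k X L T.X₃ pG)
    (hμ : hatSlope n pF = hatSlope n pG) :
    ShStab.IsMuSemistable k X L T.X₂ n ∧
      ∀ pH : ℚ[X], ShStab.IsHilbPoly k X L T.X₂ pH → hatSlope n pH = hatSlope n pF := by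
  haveI := isLocallyNoetherian (X := X) k
  haveI := hT.mono_f
  haveI := hT.epi_g
  have cH : Coh.IsCoh T.X₂ := Groth.Agent.Lib.T2H5.GenIsoA.isCoh_of_shortExact T hT hF.1 hG.1
  have aF : 0 < alpha n pF := alpha_pos k L hL _ hF.1 pF hpF n hF.2.2.1
  have aG : 0 < alpha n pG := alpha_pos k L hL _ hG.1 pG hpG n hG.2.2.1
  have hslope : ∀ pH : ℚ[X], ShStab.IsHilbPoly k X L T.X₂ pH → hatSlope n pH = hatSlope n pF := by
    intro pH hpH
    exact hatSlope_add_eq (isHilbPoly_add k L hL.1 T hT hF.1 cH hG.1 pF pH pG hpF hpH hpG) aF aG hμ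
  refine ⟨⟨cH, ?_, ?_, ?_, ?_⟩, hslope⟩
  · intro hz
    exact hF.2.1 (IsZero.of_mono T.f hz)
  · apply le_antisymm
    · rw [← hX]
      exact topologicalKrullDim_subspace_le X _
    · rw [← hF.2.2.1]
      exact dim_support_le_of_mono T.f
  · intro S ι hι hS hdim
    haveI := hι
    have hpS := isHilbPoly_hilb k L hL.1 S hS
    have key := (alphaPred_le_ext k L hL T hT hn hFt hGt hF hG pF pG hpF hpG hμ S ι hS _ hpS).2
    have hz : IsZero S := by
      refine key (fun A a ha cA hA hle => ?_) (fun A a ha cA hA hle => ?_)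
      · rw [hFt A a ha cA hA] at hle
        exact add_one_ne_of_le hle hdim
      · rw [hGt A a ha cA hA] at hle
        exact add_one_ne_of_le hle hdim
    rw [support_eq_empty_of_isZero hz] at hdim
    have : topologicalKrullDim (∅ : Set X) = ⊥ := by
      unfold topologicalKrullDim
      rw [Order.krullDim_eq_bot_iff]
      refine ⟨fun T => ?_⟩
      obtain ⟨⟨x, hx⟩⟩ := T.2.1.nonempty
      exact hx.elim
    rw [this] at hdim
    simp at hdim
  · intro S ι hι hS pS pH hpS hpH h1 h2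
    haveI := hι
    have key := (alphaPred_le_ext k L hL T hT hn hFt hGt hF hG pF pG hpF hpG hμ S ι hS pS hpS).1
    rw [hslope pH hpH]
    unfold hatSlope at key ⊢
    rwa [div_le_iff₀ h1]

end ext

end Groth.Agent.Lib.T2H6.HilbPolyH
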