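import Mathlib
import Groth.Prelude.Def_HilbD
import Groth.Agent.Lib.T2H7HilbBasics

/-!
# The absolute Hilbert functor of points (helper6)

For `f : X ⟶ S` and `d : ℕ` we define the functor `hilbFun f d : Schemeᵒᵖ ⥤ Type u` sending a
scheme `T` to the set of pairs `(t : T ⟶ S, Z ⊆ X ×_S T)` with `Z` a closed subscheme finite
locally free of degree `d` over `T`, and show that a representing object gives
`HilbD.Representable f d`.
-/

set_option autoImplicit false
universe u
open CategoryTheory CategoryTheory.Limits AlgebraicGeometry Opposite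

namespace Groth.Agent.Lib.T2H6.HilbRep

open Groth.Agent.Lib.T2H7.HilbBasics

variable {X S : Scheme.{u}} (f : X ⟶ S) (d : ℕ)

theorem XTmap_id (T : Over S) : PicF.XTmap f (𝟙 T) = 𝟙 _ := by
  unfold PicF.XTmap
  apply pullback.hom_ext <;> simp

theorem pull_id (T : Over S) (I : (PicF.XT f T).IdealSheafData) : HilbD.pull f (𝟙 T) I = I := by
  rw [pull_eq_comap, XTmap_id, Scheme.IdealSheafData.comap_id]

/-- points of the absolute Hilbert functor. -/
structure Pt (T : Scheme.{u}) : Type u where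
  /-- the structure morphism. -/
  t : T ⟶ S
  /-- the ideal sheaf of the closed subscheme. -/
  I : (PicF.XT f (Over.mk t)).IdealSheafData
  /-- finite locally free of degree `d`. -/
  h : Mor2.IsFinLocFreeOfDeg d (I.subschemeι ≫ PicF.XTproj f (Over.mk t))

variable {f d}

/-- the `Over S`-morphism underlying a morphism of schemes and an equation. -/
abbrev ovHom {T T' : Scheme.{u}} (g : T' ⟶ T) {t : T ⟶ S} {t' : T' ⟶ S} (h : g ≫ t = t') :
    Over.mk t' ⟶ Over.mk t := Over.homMk g h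

/-- pullback of points. -/
noncomputable def Pt.pull {T T' : Scheme.{u}} (p : Pt f d T) (g : T' ⟶ T) : Pt f d T' where
  t := g ≫ p.t
  I := HilbD.pull f (ovHom g rfl) p.I
  h := isFinLocFreeOfDeg_pull f (ovHom g rfl) d p.I p.h

theorem Pt.eq_iff {T : Scheme.{u}} (p q : Pt f d T) :
    p = q ↔ ∃ ht : p.t = q.t, HilbD.pull f (ovHom (𝟙 T) (by rw [Category.id_comp, ht])) q.I = p.I := by
  constructor
  · rintro rfl
    exact ⟨rfl, pull_id f _ _⟩
  · rintro ⟨ht, hI⟩
    obtain ⟨t, I, h⟩ := p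
    obtain ⟨t', I', h'⟩ := q
    dsimp only at ht
    subst ht
    have h1 : (ovHom (𝟙 T) (by rw [Category.id_comp]) : Over.mk t ⟶ Over.mk t) = 𝟙 _ := by
      ext; rfl
    dsimp only at hI
    rw [h1, pull_id] at hI
    subst hI
    rfl

theorem Pt.ext' {T : Scheme.{u}} (p q : Pt f d T) (ht : p.t = q.t)
    (hI : HilbD.pull f (ovHom (𝟙 T) (by rw [Category.id_comp, ht])) q.I = p.I) : p = q :=
  (Pt.eq_iff p q).2 ⟨ht, hI⟩

theorem pull_ovHom_congr {T T' : Scheme.{u}} {g g' : T' ⟶ T} (hg : g = g') {t : T ⟶ S}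
    {t' : T' ⟶ S} (h : g ≫ t = t') (h' : g' ≫ t = t') (I : (PicF.XT f (Over.mk t)).IdealSheafData) :
    HilbD.pull f (ovHom g h) I = HilbD.pull f (ovHom g' h') I := by
  subst hg
  rfl

theorem pull_ovHom_comp {T T' T'' : Scheme.{u}} (g : T' ⟶ T) (g' : T'' ⟶ T') {t : T ⟶ S}
    {t' : T' ⟶ S} {t'' : T'' ⟶ S} (h : g ≫ t = t') (h' : g' ≫ t' = t'')
    (I : (PicF.XT f (Over.mk t)).IdealSheafData) :
    HilbD.pull f (ovHom g' h') (HilbD.pull f (ovHom g h) I) =
      HilbD.pull f (ovHom (g' ≫ g) (by rw [Category.assoc, h, h'])) I := by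
  rw [← pull_comp]
  rfl

theorem Pt.pull_id {T : Scheme.{u}} (p : Pt f d T) : p.pull (𝟙 T) = p := by
  refine Pt.ext' _ _ (Category.id_comp _) ?_
  rfl

theorem Pt.pull_pull {T T' T'' : Scheme.{u}} (p : Pt f d T) (g : T' ⟶ T) (g' : T'' ⟶ T') :
    (p.pull g).pull g' = p.pull (g' ≫ g) := by
  refine Pt.ext' _ _ (Category.assoc _ _ _).symm ?_
  have e1 := pull_ovHom_comp (f := f) (t := p.t) (t' := (g' ≫ g) ≫ p.t) (t'' := g' ≫ g ≫ p.t)
    (g' ≫ g) (𝟙 T'') rfl (by simp) p.I
  have e2 := pull_ovHom_comp (f := f) (t := p.t) (t' := g ≫ p.t) (t'' := g' ≫ g ≫ p.t)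
    g g' rfl rfl p.I
  exact e1.trans ((pull_ovHom_congr (by simp) _ _ _).trans e2.symm)

theorem Pt.pull_congr {T T' : Scheme.{u}} (p : Pt f d T) {g g' : T' ⟶ T} (h : g = g') :
    p.pull g = p.pull g' := by rw [h]

variable (f d)

/-- the absolute Hilbert functor of points. -/
noncomputable def hilbFun : Scheme.{u}ᵒᵖ ⥤ Type u where
  obj T := Pt f d T.unop
  map g := ↾fun p => p.pull g.unop
  map_id T := by
    ext p
    exact Pt.pull_id p
  map_comp g g' := by
    ext p
    exact (Pt.pull_pull p g.unop g'.unop).symm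

variable {f d}

@[simp]
theorem hilbFun_map_apply {T T' : Scheme.{u}} (g : T' ⟶ T) (p : Pt f d T) :
    (hilbFun f d).map g.op p = p.pull g := rfl

/-- the point attached to an element of `HilbD.Obj`. -/
def Pt.ofObj (T : Over S) (Z : HilbD.Obj f d T) : Pt f d T.left where
  t := T.hom
  I := Z.1
  h := Z.2

theorem Pt.ofObj_pull {T T' : Over S} (g : T' ⟶ T) (Z : HilbD.Obj f d T) (Z' : HilbD.Obj f d T')
    (h : HilbD.pull f g Z.1 = Z'.1) : (Pt.ofObj T Z).pull g.left = Pt.ofObj T' Z' := by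
  refine Pt.ext' _ _ (Over.w g) ?_
  change HilbD.pull f _ Z'.1 = HilbD.pull f _ Z.1
  rw [← h]
  have h1 := pull_ovHom_comp (f := f) (t := T.hom) (t' := T'.hom) (t'' := g.left ≫ T.hom)
    g.left (𝟙 T'.left) (Over.w g) (by rw [Category.id_comp, Over.w g]) Z.1
  exact h1.trans (pull_ovHom_congr (by simp) _ _ _)

/-- a representing object of the absolute Hilbert functor gives `HilbD.Representable`. -/
theorem representable_of_representableBy {H : Scheme.{u}}
    (r : (hilbFun f d).RepresentableBy H) : HilbD.Representable f d := by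
  set ξ : Pt f d H := r.homEquiv (𝟙 H) with hξ
  have hr : ∀ {T : Scheme.{u}} (g : T ⟶ H), r.homEquiv g = ξ.pull g := by
    intro T g
    have := r.homEquiv_comp g (𝟙 H)
    rw [Category.comp_id] at this
    rw [this]
    rfl
  refine ⟨Over.mk ξ.t, ⟨ξ.I, ξ.h⟩, ?_⟩
  intro T Z'
  set p : Pt f d T.left := Pt.ofObj T Z' with hp
  set g₀ : T.left ⟶ H := r.homEquiv.symm p with hg₀
  have h1 : ξ.pull g₀ = p := by rw [← hr, hg₀, Equiv.apply_symm_apply]
  obtain ⟨ht, hI⟩ := (Pt.eq_iff _ _).1 h1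
  have ht' : g₀ ≫ ξ.t = T.hom := ht
  refine ⟨Over.homMk g₀ ht', ?_, ?_⟩
  · change HilbD.pull f _ ξ.I = Z'.1
    have hI' : HilbD.pull f (ovHom (𝟙 T.left) (by rw [Category.id_comp, ht'])) Z'.1 =
        HilbD.pull f (ovHom g₀ rfl) ξ.I := hI
    have h2 := congrArg (HilbD.pull f (ovHom (t := g₀ ≫ ξ.t) (t' := T.hom) (𝟙 T.left)
      (by rw [Category.id_comp, ht']))) hI'
    rw [pull_ovHom_comp, pull_ovHom_comp] at h2
    have h3 : HilbD.pull f (ovHom (t := T.hom) (t' := T.hom) (𝟙 T.left ≫ 𝟙 T.left)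
        (by simp)) Z'.1 = Z'.1 := by
      have : (ovHom (t := T.hom) (t' := T.hom) (𝟙 T.left ≫ 𝟙 T.left) (by simp)) = 𝟙 T := by
        ext; simp
      rw [this]
      exact pull_id f T Z'.1
    rw [h3] at h2
    rw [h2]
    exact pull_ovHom_congr (by simp) _ _ _
  · intro g hg
    have h4 : ξ.pull g.left = p := by
      have := Pt.ofObj_pull (f := f) (d := d) (T := Over.mk ξ.t) (T' := T) g ⟨ξ.I, ξ.h⟩ Z' hg
      exact this
    have h5 : g.left = g₀ := by
      rw [hg₀, ← h4, ← hr, Equiv.symm_apply_apply]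
    ext
    exact h5

end Groth.Agent.Lib.T2H6.HilbRep
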