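import Mathlib
import Groth.Prelude.Def_HilbD
import Groth.Agent.Lib.T2H7HilbBasics
import Groth.Agent.Lib.T2H7HilbPush
import Groth.Agent.Lib.T2H6HilbRepA
import Groth.Agent.S11731

/-!
# Zariski gluing for the Hilbert functor of points (helper6)

* `isFinLocFreeOfDeg_of_openCover`: `IsFinLocFreeOfDeg d` is Zariski local on the target.
* `glue`: the family version of `HilbD.sheaf_fpqc_single_cover` for Zariski open covers.
-/

set_option autoImplicit false
universe u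
open CategoryTheory CategoryTheory.Limits AlgebraicGeometry Opposite

namespace Groth.Agent.Lib.T2H6.HilbRep

open Groth.Agent.Lib.T2H7.HilbBasics

/-- `IsFinLocFreeOfDeg d` is Zariski local on the target. -/
theorem isFinLocFreeOfDeg_of_openCover {X Y : Scheme.{u}} (φ : X ⟶ Y) (𝓤 : Y.OpenCover) (d : ℕ)
    (h : ∀ j, ∃ (X' : Scheme.{u}) (p : X' ⟶ X) (φ' : X' ⟶ 𝓤.X j),
      IsPullback p φ' φ (𝓤.f j) ∧ Mor2.IsFinLocFreeOfDeg d φ') :
    Mor2.IsFinLocFreeOfDeg d φ := by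
  have key : ∀ (P : MorphismProperty Scheme.{u}) [IsZariskiLocalAtTarget P],
      (∀ j, ∀ (X' : Scheme.{u}) (p : X' ⟶ X) (φ' : X' ⟶ 𝓤.X j),
        IsPullback p φ' φ (𝓤.f j) → Mor2.IsFinLocFreeOfDeg d φ' → P φ') → P φ := by
    intro P _ hP
    apply IsZariskiLocalAtTarget.of_openCover 𝓤
    intro j
    obtain ⟨X', p, φ', hpb, hφ'⟩ := h j
    have h1 : φ' = hpb.isoPullback.hom ≫ pullback.snd φ (𝓤.f j) := by simp
    have h2 : P φ' := hP j X' p φ' hpb hφ'
    rw [h1, P.cancel_left_of_respectsIso] at h2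
    exact h2
  have k1 : IsFinite φ := key @IsFinite (fun j X' p φ' _ h => h.1.1)
  have k2 : Flat φ := key @Flat (fun j X' p φ' _ h => h.1.2.1)
  have k3 : LocallyOfFinitePresentation φ :=
    key @LocallyOfFinitePresentation (fun j X' p φ' _ h => h.1.2.2)
  refine ⟨⟨k1, k2, k3⟩, fun y => ?_⟩
  obtain ⟨y', hy'⟩ := 𝓤.covers y
  obtain ⟨X', p, φ', hpb, hφ'⟩ := h (𝓤.idx y)
  rw [← hy', ← Scheme.Hom.finrank_of_isPullback _ _ _ _ hpb y']
  exact hφ'.2 y'

variable {X S : Scheme.{u}} (f : X ⟶ S) (d : ℕ)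

section glue

variable (T : Over S) (𝓤 : Scheme.OpenCover.{u} T.left)

/-- the overlap `T_i ×_T T_j` as an `S`-scheme. -/
noncomputable abbrev ovl (i j : 𝓤.I₀) : Over S :=
  Over.mk (pullback.fst (𝓤.f i) (𝓤.f j) ≫ 𝓤.f i ≫ T.hom)

/-- first projection of the overlap. -/
noncomputable def ovlFst (i j : 𝓤.I₀) : ovl T 𝓤 i j ⟶ HilbD.coverOver T (𝓤.f i) :=
  Over.homMk (pullback.fst (𝓤.f i) (𝓤.f j)) rfl

/-- second projection of the overlap. -/
noncomputable def ovlSnd (i j : 𝓤.I₀) : ovl T 𝓤 i j ⟶ HilbD.coverOver T (𝓤.f j) :=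
  Over.homMk (pullback.snd (𝓤.f i) (𝓤.f j)) (by simp [pullback.condition_assoc])

set_option backward.isDefEq.respectTransparency false in
theorem glue (Z : ∀ j, HilbD.Obj f d (HilbD.coverOver T (𝓤.f j)))
    (hZ : ∀ i j, HilbD.pull f (ovlFst T 𝓤 i j) (Z i).1 = HilbD.pull f (ovlSnd T 𝓤 i j) (Z j).1) :
    ∃! I : (PicF.XT f T).IdealSheafData,
      Mor2.IsFinLocFreeOfDeg d (I.subschemeι ≫ PicF.XTproj f T) ∧
      ∀ j, HilbD.pull f (HilbD.coverHom T (𝓤.f j)) I = (Z j).1 := by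
  have hpb : ∀ j, IsPullback (PicF.XTmap f (HilbD.coverHom T (𝓤.f j)))
      (PicF.XTproj f (HilbD.coverOver T (𝓤.f j))) (PicF.XTproj f T) (𝓤.f j) :=
    fun j => isPullback_XTmap f (HilbD.coverHom T (𝓤.f j))
  let g' : ∀ j, PicF.XT f (HilbD.coverOver T (𝓤.f j)) ⟶ PicF.XT f T :=
    fun j => PicF.XTmap f (HilbD.coverHom T (𝓤.f j))
  have hsnd : ∀ j, g' j ≫ PicF.XTproj f T = PicF.XTproj f (HilbD.coverOver T (𝓤.f j)) ≫ 𝓤.f j :=
    fun j => (hpb j).w
  have hfst : ∀ j, g' j ≫ pullback.fst f T.hom = pullback.fst f (HilbD.coverOver T (𝓤.f j)).hom :=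
    fun j => XTmap_fst f (HilbD.coverHom T (𝓤.f j))
  haveI : ∀ j, IsOpenImmersion (g' j) := fun j =>
    MorphismProperty.of_isPullback (P := @IsOpenImmersion) (hpb j).flip (inferInstance)
  -- the covering
  have hcov : Presieve.ofArrows (fun j => PicF.XT f (HilbD.coverOver T (𝓤.f j))) g' ∈
      Scheme.fpqcPrecoverage (PicF.XT f T) := by
    apply Scheme.zariskiPrecoverage_le_fpqcPrecoverage
    refine (Scheme.ofArrows_mem_precoverage_iff
      (fun {A B : Scheme.{u}} (m : A ⟶ B) => IsOpenImmersion m)).2 ⟨fun x => ?_, fun j => inferInstance⟩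
    obtain ⟨y, hy⟩ := 𝓤.covers ((PicF.XTproj f T) x)
    obtain ⟨a, ha1, ha2⟩ := Scheme.Pullback.exists_preimage_pullback x y hy.symm
    refine ⟨𝓤.idx _, (hpb _).isoPullback.inv a, ?_⟩
    rw [← Scheme.Hom.comp_apply]
    erw [(hpb _).isoPullback_inv_fst]
    exact ha1
  -- the comparison maps
  let m : ∀ i j, pullback (g' i) (g' j) ⟶ pullback (𝓤.f i) (𝓤.f j) := fun i j =>
    pullback.lift (pullback.fst (g' i) (g' j) ≫ PicF.XTproj f (HilbD.coverOver T (𝓤.f i)))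
      (pullback.snd (g' i) (g' j) ≫ PicF.XTproj f (HilbD.coverOver T (𝓤.f j)))
      (by rw [Category.assoc, Category.assoc, ← hsnd, ← hsnd, pullback.condition_assoc])
  let e : ∀ i j, pullback (g' i) (g' j) ⟶ PicF.XT f (ovl T 𝓤 i j) := fun i j =>
    pullback.lift (pullback.fst (g' i) (g' j) ≫ pullback.fst f (HilbD.coverOver T (𝓤.f i)).hom)
      (m i j)
      (by
        simp only [m, Category.assoc, Over.mk_hom, pullback.lift_fst_assoc]
        rw [pullback.condition]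
        rfl)
  have he1 : ∀ i j, e i j ≫ PicF.XTmap f (ovlFst T 𝓤 i j) = pullback.fst (g' i) (g' j) := by
    intro i j
    apply pullback.hom_ext
    · rw [Category.assoc, XTmap_fst]
      exact pullback.lift_fst _ _ _
    · rw [Category.assoc]
      erw [XTmap_snd]
      rw [← Category.assoc]
      erw [pullback.lift_snd]
      exact pullback.lift_fst _ _ _
  have he2 : ∀ i j, e i j ≫ PicF.XTmap f (ovlSnd T 𝓤 i j) = pullback.snd (g' i) (g' j) := by
    intro i j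
    apply pullback.hom_ext
    · rw [Category.assoc, XTmap_fst]
      erw [pullback.lift_fst]
      rw [← hfst i, ← hfst j, pullback.condition_assoc]
    · rw [Category.assoc]
      erw [XTmap_snd]
      rw [← Category.assoc]
      erw [pullback.lift_snd]
      exact pullback.lift_snd _ _ _
  have hover : ∀ i j, ((Z i).1).comap (pullback.fst (g' i) (g' j)) =
      ((Z j).1).comap (pullback.snd (g' i) (g' j)) := by
    intro i j
    rw [← he1, ← he2, Scheme.IdealSheafData.comap_comp, Scheme.IdealSheafData.comap_comp,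
      ← pull_eq_comap, ← pull_eq_comap, hZ]
  obtain ⟨J, hJ, hJu⟩ := Groth.Agent.S11731.result g' hcov (fun j => (Z j).1) hover
  refine ⟨J, ⟨?_, ?_⟩, ?_⟩
  · apply isFinLocFreeOfDeg_of_openCover _ 𝓤 d
    intro j
    have hpb2 : IsPullback (pullback.snd (g' j) J.subschemeι)
        (pullback.fst (g' j) J.subschemeι ≫ PicF.XTproj f (HilbD.coverOver T (𝓤.f j)))
        (J.subschemeι ≫ PicF.XTproj f T) (𝓤.f j) :=
      (IsPullback.of_hasPullback (g' j) J.subschemeι).flip.paste_vert (hpb j)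
    refine ⟨_, _, _, hpb2, ?_⟩
    have e1 : (J.comap (g' j)).subschemeι ≫ PicF.XTproj f (HilbD.coverOver T (𝓤.f j)) =
        (J.comapIso (g' j)).hom ≫ (pullback.fst (g' j) J.subschemeι ≫
          PicF.XTproj f (HilbD.coverOver T (𝓤.f j))) := by
      rw [← Category.assoc, Scheme.IdealSheafData.comapIso_hom_fst]
    have h2 := (Z j).2
    rw [← hJ j, e1, Groth.Agent.Lib.T2H7.HilbPush.isFinLocFreeOfDeg_comp_iso] at h2
    exact h2
  · intro j
    rw [pull_eq_comap]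
    exact hJ j
  · rintro K ⟨-, hK⟩
    apply hJu
    intro j
    have := hK j
    rw [pull_eq_comap] at this
    exact this

end glue

variable {f d}

/-- gluing of points of the Hilbert functor along an open cover. -/
theorem existsUnique_pt_of_openCover (T : Scheme.{u}) (𝓤 : Scheme.OpenCover.{u} T)
    (p : ∀ j, Pt f d (𝓤.X j))
    (hp : ∀ i j, (p i).pull (pullback.fst (𝓤.f i) (𝓤.f j)) =
      (p j).pull (pullback.snd (𝓤.f i) (𝓤.f j))) :
    ∃! q : Pt f d T, ∀ j, q.pull (𝓤.f j) = p j := by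
  let t : T ⟶ S := 𝓤.glueMorphisms (fun j => (p j).t) (fun i j => congrArg Pt.t (hp i j))
  have ht : ∀ j, 𝓤.f j ≫ t = (p j).t := fun j => 𝓤.ι_glueMorphisms _ _ j
  let T' : Over S := Over.mk t
  let Z : ∀ j, HilbD.Obj f d (HilbD.coverOver T' (𝓤.f j)) := fun j =>
    ⟨HilbD.pull f (ovHom (t := (p j).t) (t' := 𝓤.f j ≫ t) (𝟙 _) (by rw [Category.id_comp, ht]))
      (p j).I, isFinLocFreeOfDeg_pull f _ d (p j).I (p j).h⟩
  have hZ : ∀ i j, HilbD.pull f (ovlFst T' 𝓤 i j) (Z i).1 =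
      HilbD.pull f (ovlSnd T' 𝓤 i j) (Z j).1 := by
    intro i j
    obtain ⟨ht', hI⟩ := (Pt.eq_iff _ _).1 (hp i j)
    have hI' : HilbD.pull f (ovHom (t := pullback.snd (𝓤.f i) (𝓤.f j) ≫ (p j).t)
          (t' := pullback.fst (𝓤.f i) (𝓤.f j) ≫ (p i).t) (𝟙 _) (by rw [Category.id_comp]; exact ht'.symm))
        (HilbD.pull f (ovHom (t := (p j).t) (pullback.snd (𝓤.f i) (𝓤.f j)) rfl) (p j).I) =
        HilbD.pull f (ovHom (t := (p i).t) (pullback.fst (𝓤.f i) (𝓤.f j)) rfl) (p i).I := hI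
    have h2 := congrArg (HilbD.pull f (ovHom (t := pullback.fst (𝓤.f i) (𝓤.f j) ≫ (p i).t)
      (t' := pullback.fst (𝓤.f i) (𝓤.f j) ≫ 𝓤.f i ≫ t) (𝟙 _)
      (by rw [Category.id_comp, ht]))) hI'
    rw [pull_ovHom_comp, pull_ovHom_comp, pull_ovHom_comp] at h2
    have e1 := pull_ovHom_comp (f := f) (t := (p i).t) (t' := 𝓤.f i ≫ t)
      (t'' := pullback.fst (𝓤.f i) (𝓤.f j) ≫ 𝓤.f i ≫ t) (𝟙 _) (pullback.fst (𝓤.f i) (𝓤.f j))
      (by rw [Category.id_comp, ht]) rfl (p i).I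
    have e2 := pull_ovHom_comp (f := f) (t := (p j).t) (t' := 𝓤.f j ≫ t)
      (t'' := pullback.fst (𝓤.f i) (𝓤.f j) ≫ 𝓤.f i ≫ t) (𝟙 _) (pullback.snd (𝓤.f i) (𝓤.f j))
      (by rw [Category.id_comp, ht]) (by simp [pullback.condition_assoc]) (p j).I
    refine e1.trans (Eq.trans ?_ e2.symm)
    refine Eq.trans ?_ (h2.symm.trans ?_)
    · exact pull_ovHom_congr (by simp) _ _ _
    · exact pull_ovHom_congr (by simp) _ _ _
  obtain ⟨I, ⟨hI1, hI2⟩, hIu⟩ := glue f d T' 𝓤 Z hZ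
  refine ⟨⟨t, I, hI1⟩, ?_, ?_⟩
  · intro j
    refine Pt.ext' _ _ (ht j) ?_
    exact (hI2 j).symm
  · rintro ⟨t', I', h'⟩ hq
    have ht0 : t' = t := by
      apply 𝓤.hom_ext
      intro j
      rw [ht j]
      exact congrArg Pt.t (hq j)
    subst ht0
    have : I' = I := by
      apply hIu
      refine ⟨h', fun j => ?_⟩
      obtain ⟨ht', hI⟩ := (Pt.eq_iff _ _).1 (hq j)
      exact hI.symm
    subst this
    rfl

/-- points of the Hilbert functor are determined Zariski locally. -/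
theorem Pt.ext_of_openCover {T : Scheme.{u}} (𝓤 : Scheme.OpenCover.{u} T) (q q' : Pt f d T)
    (h : ∀ j, q.pull (𝓤.f j) = q'.pull (𝓤.f j)) : q = q' := by
  have hp : ∀ i j, (q.pull (𝓤.f i)).pull (pullback.fst (𝓤.f i) (𝓤.f j)) =
      (q.pull (𝓤.f j)).pull (pullback.snd (𝓤.f i) (𝓤.f j)) := by
    intro i j
    rw [Pt.pull_pull, Pt.pull_pull]
    exact Pt.pull_congr q pullback.condition
  exact (existsUnique_pt_of_openCover T 𝓤 (fun j => q.pull (𝓤.f j)) hp).unique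
    (fun _ => rfl) (fun j => (h j).symm)

variable (f d)

/-- the Hilbert functor of points is a Zariski sheaf. -/
theorem isSheaf_hilbFun : Presieve.IsSheaf Scheme.zariskiTopology (hilbFun f d) := by
  rw [Precoverage.isSheaf_toGrothendieck_iff_of_isStableUnderBaseChange]
  rintro Y R hR x hx
  obtain ⟨(𝓤 : Scheme.OpenCover Y), rfl⟩ := Scheme.exists_cover_of_mem_pretopology hR
  let 𝓥 : Scheme.OpenCover.{u} Y := 𝓤.ulift
  obtain ⟨q, hq, hqu⟩ := existsUnique_pt_of_openCover (f := f) (d := d) Y 𝓥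
    (fun y => x (𝓤.f (𝓤.idx y)) (.mk _))
    (fun i j => hx (pullback.fst (𝓥.f i) (𝓥.f j)) (pullback.snd (𝓥.f i) (𝓥.f j)) (.mk _) (.mk _)
      pullback.condition)
  refine ⟨q, ?_, ?_⟩
  · rintro Z e ⟨j⟩
    change q.pull (𝓤.f j) = x (𝓤.f j) (.mk j)
    apply Pt.ext_of_openCover (𝓥.pullback₁ (𝓤.f j))
    intro y
    change (q.pull (𝓤.f j)).pull (pullback.fst (𝓤.f j) (𝓥.f y)) =
      (x (𝓤.f j) (.mk j)).pull (pullback.fst (𝓤.f j) (𝓥.f y))
    rw [Pt.pull_pull, Pt.pull_congr q (pullback.condition (f := 𝓤.f j) (g := 𝓥.f y)),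
      ← Pt.pull_pull, hq y]
    exact (hx (pullback.fst (𝓤.f j) (𝓥.f y)) (pullback.snd (𝓤.f j) (𝓥.f y)) (.mk j) (.mk _)
      pullback.condition).symm
  · intro q' h
    apply hqu
    intro y
    exact h (𝓥.f y) (.mk _)

end Groth.Agent.Lib.T2H6.HilbRep
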