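import Mathlib
import Groth.Prelude.Def_HilbD
import Groth.Agent.Lib.T2H6HilbRepA
import Groth.Agent.Lib.T2H6HilbRepB

/-!
# Representability of the Hilbert functor of points from charts (helper6)

`representable_of_charts`: an elementary criterion, via Mathlib's
`Scheme.LocalRepresentability.isRepresentable`.
-/

set_option autoImplicit false
universe u
open CategoryTheory CategoryTheory.Limits AlgebraicGeometry Opposite

namespace Groth.Agent.Lib.T2H6.HilbRep

variable {X S : Scheme.{u}} {f : X ⟶ S} {d : ℕ}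

/-- an open subfunctor chart gives a relatively representable open immersion of presheaves. -/
theorem presheaf_isOpenImmersion {H : Scheme.{u}} (ξ : Pt f d H)
    (hmono : ∀ (V : Scheme.{u}) (e e' : V ⟶ H), ξ.pull e = ξ.pull e' → e = e')
    (hopen : ∀ (T : Scheme.{u}) (z : Pt f d T), ∃ (U : T.Opens) (c : U.toScheme ⟶ H),
      ξ.pull c = z.pull U.ι ∧
      ∀ (V : Scheme.{u}) (a : V ⟶ T) (e : V ⟶ H), ξ.pull e = z.pull a → Set.range a ⊆ U) :
    IsOpenImmersion.presheaf (yonedaEquiv.symm ξ : yoneda.obj H ⟶ hilbFun f d) := by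
  apply MorphismProperty.relative.of_exists
  intro T g
  obtain ⟨U, c, hc, hU⟩ := hopen T (yonedaEquiv g)
  refine ⟨U.toScheme, yoneda.map c, U.ι, ?_, inferInstance⟩
  have hg : ∀ (W : Scheme.{u}) (a : W ⟶ T), g.app (op W) a = (yonedaEquiv g).pull a := by
    intro W a
    rw [← map_yonedaEquiv]
    rfl
  have hη : ∀ (W : Scheme.{u}) (e : W ⟶ H),
      (yonedaEquiv.symm ξ : yoneda.obj H ⟶ hilbFun f d).app (op W) e = ξ.pull e := by
    intro W e
    rw [← map_yonedaEquiv, Equiv.apply_symm_apply]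
    rfl
  apply IsPullback.of_forall_isPullback_app
  intro V
  obtain ⟨V⟩ := V
  rw [Types.isPullback_iff]
  refine ⟨?_, ?_, ?_⟩
  · ext (a : V ⟶ U.toScheme)
    change (yonedaEquiv.symm ξ : yoneda.obj H ⟶ hilbFun f d).app (op V) (a ≫ c) =
      g.app (op V) (a ≫ U.ι)
    rw [hη, hg, ← Pt.pull_pull, ← Pt.pull_pull, hc]
  · rintro (a : V ⟶ U.toScheme) (a' : V ⟶ U.toScheme) ⟨h1, h2⟩
    have h2' : a ≫ U.ι = a' ≫ U.ι := h2
    exact (cancel_mono U.ι).1 h2'
  · rintro (e : V ⟶ H) (a : V ⟶ T) h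
    have h' : ξ.pull e = (yonedaEquiv g).pull a := by
      have h0 : (yonedaEquiv.symm ξ : yoneda.obj H ⟶ hilbFun f d).app (op V) e =
          g.app (op V) a := h
      rw [hη, hg] at h0
      exact h0
    have hr : Set.range a ⊆ U := hU _ a e h'
    have hr' : Set.range a ⊆ Set.range U.ι := by
      rw [Scheme.Opens.range_ι]
      exact hr
    refine ⟨IsOpenImmersion.lift U.ι a hr', ?_, ?_⟩
    · change IsOpenImmersion.lift U.ι a hr' ≫ c = e
      apply hmono
      rw [← Pt.pull_pull, hc, Pt.pull_pull, IsOpenImmersion.lift_fac, h']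
    · change IsOpenImmersion.lift U.ι a hr' ≫ U.ι = a
      exact IsOpenImmersion.lift_fac _ _ _

/-- **Representability from charts.** -/
theorem representable_of_charts {ι : Type u} (H : ι → Scheme.{u}) (ξ : ∀ i, Pt f d (H i))
    (hmono : ∀ i (V : Scheme.{u}) (e e' : V ⟶ H i), (ξ i).pull e = (ξ i).pull e' → e = e')
    (hopen : ∀ i (T : Scheme.{u}) (z : Pt f d T), ∃ (U : T.Opens) (c : U.toScheme ⟶ H i),
      (ξ i).pull c = z.pull U.ι ∧
      ∀ (V : Scheme.{u}) (a : V ⟶ T) (e : V ⟶ H i), (ξ i).pull e = z.pull a → Set.range a ⊆ U)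
    (hcov : ∀ (T : Scheme.{u}) (z : Pt f d T) (x : T),
      ∃ (i : ι) (U : T.Opens) (c : U.toScheme ⟶ H i), x ∈ U ∧ (ξ i).pull c = z.pull U.ι) :
    HilbD.Representable f d := by
  let F : Sheaf Scheme.zariskiTopology.{u} (Type u) :=
    ⟨hilbFun f d, (isSheaf_iff_isSheaf_of_type _ _).2 (isSheaf_hilbFun f d)⟩
  let fi : ∀ i, yoneda.obj (H i) ⟶ F.1 := fun i => yonedaEquiv.symm (ξ i)
  have hf : ∀ i, IsOpenImmersion.presheaf (fi i) := fun i =>
    presheaf_isOpenImmersion (ξ i) (hmono i) (hopen i)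
  have hη : ∀ i (W : Scheme.{u}) (e : W ⟶ H i), (fi i).app (op W) e = (ξ i).pull e := by
    intro i W e
    change (yonedaEquiv.symm (ξ i) : yoneda.obj (H i) ⟶ hilbFun f d).app (op W) e = _
    rw [← map_yonedaEquiv, Equiv.apply_symm_apply]
    rfl
  haveI : Presheaf.IsLocallySurjective Scheme.zariskiTopology (Sigma.desc fi) := by
    constructor
    intro T (z : Pt f d T)
    choose i U c hxU hc using hcov T z
    let 𝒰 : T.OpenCover := {
      I₀ := T, X x := (U x), f x := (U x).ι,
      mem₀ := by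
        rw [Scheme.presieve₀_mem_precoverage_iff]
        refine ⟨fun x ↦ ⟨x, by simpa using hxU x⟩, inferInstance⟩ }
    rw [Scheme.mem_grothendieckTopology_iff]
    refine ⟨𝒰, ?_⟩
    rintro W g ⟨x⟩
    refine ⟨(Sigma.ι (fun i => yoneda.obj (H i)) (i x)).app (op (U x).toScheme) (c x), ?_⟩
    have h1 : (Sigma.ι (fun i => yoneda.obj (H i)) (i x)).app (op (U x).toScheme) ≫
        (Sigma.desc fi).app (op (U x).toScheme) = (fi (i x)).app (op (U x).toScheme) := by
      rw [← NatTrans.comp_app, Sigma.ι_desc]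
    have h2 := congrArg (fun m => m (c x)) (congrArg (fun m => (ConcreteCategory.hom m : _ → _)) h1)
    refine Eq.trans h2 ?_
    change (fi (i x)).app (op (U x).toScheme) (c x) = z.pull (U x).ι
    rw [hη, hc]
  have hrep : F.1.IsRepresentable := Scheme.LocalRepresentability.isRepresentable hf
  exact representable_of_representableBy hrep.has_representation.choose_spec.some

end Groth.Agent.Lib.T2H6.HilbRep
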