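import Mathlib
import Groth.Prelude.Def_HilbD
import Groth.Agent.Lib.T2H6HilbRepA
import Groth.Agent.Lib.T2H6HilbRepB

/-!
# Reduction to affine test schemes (helper6)
-/

set_option autoImplicit false
universe u
open CategoryTheory CategoryTheory.Limits AlgebraicGeometry Opposite

namespace Groth.Agent.Lib.T2H6.HilbRep

variable {X S : Scheme.{u}} {f : X ⟶ S} {d : ℕ}

/-- injectivity of `e ↦ ξ.pull e` may be tested on affine schemes. -/
theorem mono_of_affine {H : Scheme.{u}} (ξ : Pt f d H)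
    (h : ∀ (V : Scheme.{u}) [IsAffine V] (e e' : V ⟶ H), ξ.pull e = ξ.pull e' → e = e')
    (V : Scheme.{u}) (e e' : V ⟶ H) (he : ξ.pull e = ξ.pull e') : e = e' := by
  apply V.affineCover.hom_ext
  intro j
  apply h
  rw [← Pt.pull_pull, ← Pt.pull_pull, he]

/-- existence of a classifying morphism on an open may be tested on affine opens. -/
theorem exists_hom_of_affine {H : Scheme.{u}} (ξ : Pt f d H)
    (hmono : ∀ (V : Scheme.{u}) (e e' : V ⟶ H), ξ.pull e = ξ.pull e' → e = e')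
    {T : Scheme.{u}} (z : Pt f d T) (U : T.Opens)
    (h : ∀ (W : Scheme.{u}) [IsAffine W] (j : W ⟶ T) [IsOpenImmersion j], Set.range j ⊆ U →
      ∃ c : W ⟶ H, ξ.pull c = z.pull j) :
    ∃ c : U.toScheme ⟶ H, ξ.pull c = z.pull U.ι := by
  let 𝓦 := U.toScheme.affineCover
  have hr : ∀ j, Set.range (𝓦.f j ≫ U.ι) ⊆ U := by
    intro j
    rintro _ ⟨y, rfl⟩
    rw [Scheme.Hom.comp_apply]
    exact (𝓦.f j y).2
  choose c' hc' using fun j => h (𝓦.X j) (𝓦.f j ≫ U.ι) (hr j)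
  have hcompat : ∀ i j, pullback.fst (𝓦.f i) (𝓦.f j) ≫ c' i = pullback.snd (𝓦.f i) (𝓦.f j) ≫ c' j := by
    intro i j
    apply hmono
    rw [← Pt.pull_pull, ← Pt.pull_pull, hc', hc', Pt.pull_pull, Pt.pull_pull]
    apply Pt.pull_congr
    rw [← Category.assoc, ← Category.assoc, pullback.condition]
  refine ⟨𝓦.glueMorphisms c' hcompat, ?_⟩
  apply Pt.ext_of_openCover 𝓦
  intro j
  rw [Pt.pull_pull, Pt.pull_pull, 𝓦.ι_glueMorphisms, hc']

end Groth.Agent.Lib.T2H6.HilbRep
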