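import Mathlib

/-!
# The chart algebra for the Hilbert scheme of points of an affine scheme (helper6)

For an `A`-algebra `B` and `b : Fin d → B`, the `A`-algebra `Rb A b` is universal for
`A`-linear maps `φ : B → R^d` with `φ (b j) = e_j` whose kernel (after base change) is an ideal:
`φ (x * y) = ∑ j, φ_j y • φ (x * b j)`.  Over `Rb A b` lives the universal quotient
`Nb A b = (Rb ⊗ B) ⧸ Ib`, free with basis the images of the `b j`.
-/

set_option autoImplicit false
universe u
open TensorProduct MvPolynomial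

namespace Groth.Agent.Lib.T2H6.HilbRep.Chart

variable (A : Type u) {B : Type u} [CommRing A] [CommRing B] [Algebra A B] {d : ℕ}
  (b : Fin d → B)

/-- the defining relations of the chart algebra. -/
inductive Rel : MvPolynomial (B × Fin d) A → Prop
  | add (x y : B) (i : Fin d) : Rel (X (x + y, i) - X (x, i) - X (y, i))
  | smul (a : A) (x : B) (i : Fin d) : Rel (X (a • x, i) - C a * X (x, i))
  | basis (j i : Fin d) : Rel (X (b j, i) - if i = j then 1 else 0)
  | ideal (x y : B) (i : Fin d) : Rel (X (x * y, i) - ∑ j, X (y, j) * X (x * b j, i))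

/-- the ideal of relations. -/
noncomputable def relIdeal : Ideal (MvPolynomial (B × Fin d) A) := Ideal.span {p | Rel A b p}

/-- the chart algebra. -/
def Rb : Type u := MvPolynomial (B × Fin d) A ⧸ relIdeal A b

noncomputable instance : CommRing (Rb A b) :=
  inferInstanceAs (CommRing (MvPolynomial (B × Fin d) A ⧸ relIdeal A b))

noncomputable instance : Algebra A (Rb A b) :=
  inferInstanceAs (Algebra A (MvPolynomial (B × Fin d) A ⧸ relIdeal A b))

/-- the quotient map. -/
noncomputable def mkRb : MvPolynomial (B × Fin d) A →+* Rb A b :=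
  Ideal.Quotient.mk (relIdeal A b)

theorem mkRb_eq_zero_iff {p : MvPolynomial (B × Fin d) A} :
    mkRb A b p = 0 ↔ p ∈ relIdeal A b := Ideal.Quotient.eq_zero_iff_mem

theorem algebraMap_Rb (a : A) : algebraMap A (Rb A b) a = mkRb A b (C a) := rfl

/-- the universal coordinate functions. -/
noncomputable def phiU (x : B) (i : Fin d) : Rb A b := mkRb A b (X (x, i))

theorem phiU_add (x y : B) (i : Fin d) : phiU A b (x + y) i = phiU A b x i + phiU A b y i := by
  have h : (X (x + y, i) - X (x, i) - X (y, i) : MvPolynomial (B × Fin d) A) ∈ relIdeal A b :=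
    Ideal.subset_span (Rel.add x y i)
  have h2 := (mkRb_eq_zero_iff A b).2 h
  rw [map_sub, map_sub, sub_sub, sub_eq_zero] at h2
  exact h2

theorem phiU_smul (a : A) (x : B) (i : Fin d) :
    phiU A b (a • x) i = algebraMap A (Rb A b) a * phiU A b x i := by
  have h : (X (a • x, i) - C a * X (x, i) : MvPolynomial (B × Fin d) A) ∈ relIdeal A b :=
    Ideal.subset_span (Rel.smul a x i)
  have h2 := (mkRb_eq_zero_iff A b).2 h
  rw [map_sub, map_mul, sub_eq_zero] at h2
  exact h2

theorem phiU_basis (j i : Fin d) : phiU A b (b j) i = if i = j then 1 else 0 := by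
  have h : (X (b j, i) - (if i = j then 1 else 0) : MvPolynomial (B × Fin d) A) ∈ relIdeal A b :=
    Ideal.subset_span (Rel.basis j i)
  have h2 := (mkRb_eq_zero_iff A b).2 h
  rw [map_sub, sub_eq_zero] at h2
  rw [phiU, h2]
  split_ifs <;> simp

theorem phiU_mul (x y : B) (i : Fin d) :
    phiU A b (x * y) i = ∑ j, phiU A b y j * phiU A b (x * b j) i := by
  have h : (X (x * y, i) - ∑ j, X (y, j) * X (x * b j, i) : MvPolynomial (B × Fin d) A) ∈
      relIdeal A b := Ideal.subset_span (Rel.ideal x y i)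
  have h2 := (mkRb_eq_zero_iff A b).2 h
  rw [map_sub, sub_eq_zero, map_sum] at h2
  rw [phiU, h2]
  simp only [map_mul]
  rfl

variable {A b}

/-- the universal property: existence. -/
theorem exists_lift {R : Type u} [CommRing R] (τ : A →+* R) (φ : B → Fin d → R)
    (hadd : ∀ x y i, φ (x + y) i = φ x i + φ y i)
    (hsmul : ∀ a x i, φ (a • x) i = τ a * φ x i)
    (hbasis : ∀ j i, φ (b j) i = if i = j then 1 else 0)
    (hideal : ∀ x y i, φ (x * y) i = ∑ j, φ y j * φ (x * b j) i) :
    ∃ ρ : Rb A b →+* R, ρ.comp (algebraMap A (Rb A b)) = τ ∧ ∀ x i, ρ (phiU A b x i) = φ x i := by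
  let ev : MvPolynomial (B × Fin d) A →+* R := eval₂Hom τ (fun p => φ p.1 p.2)
  have hev : ∀ a ∈ relIdeal A b, ev a = 0 := by
    intro a ha
    refine Submodule.span_induction (p := fun a _ => ev a = 0) ?_ ?_ ?_ ?_ ha
    · rintro _ (⟨x, y, i⟩ | ⟨a, x, i⟩ | ⟨j, i⟩ | ⟨x, y, i⟩)
      · simp only [ev, map_sub, eval₂Hom_X', hadd]
        ring
      · simp only [ev, map_sub, map_mul, eval₂Hom_X', eval₂Hom_C, hsmul, sub_self]
      · simp only [ev, map_sub, eval₂Hom_X', hbasis]
        split_ifs <;> simp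
      · simp only [ev, map_sub, map_sum, map_mul, eval₂Hom_X']
        rw [hideal x y i, sub_self]
    · simp
    · intro x y _ _ hx hy
      rw [map_add, hx, hy, add_zero]
    · intro r x _ hx
      rw [smul_eq_mul, map_mul, hx, mul_zero]
  refine ⟨Ideal.Quotient.lift (relIdeal A b) ev hev, ?_, ?_⟩
  · ext a
    simp only [RingHom.comp_apply]
    rw [algebraMap_Rb]
    change Ideal.Quotient.lift (relIdeal A b) ev hev (Ideal.Quotient.mk _ (C a)) = _
    rw [Ideal.Quotient.lift_mk]
    simp [ev]
  · intro x i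
    change Ideal.Quotient.lift (relIdeal A b) ev hev (Ideal.Quotient.mk _ (X (x, i))) = _
    rw [Ideal.Quotient.lift_mk]
    simp [ev]

/-- the universal property: uniqueness. -/
theorem lift_unique {R : Type u} [CommRing R] (ρ ρ' : Rb A b →+* R)
    (h1 : ρ.comp (algebraMap A (Rb A b)) = ρ'.comp (algebraMap A (Rb A b)))
    (h2 : ∀ x i, ρ (phiU A b x i) = ρ' (phiU A b x i)) : ρ = ρ' := by
  apply Ideal.Quotient.ringHom_ext (I := relIdeal A b)
  apply MvPolynomial.ringHom_ext
  · intro a
    exact congrArg (fun m => m a) (congrArg (fun m : A →+* R => (m : A → R)) h1)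
  · rintro ⟨x, i⟩
    exact h2 x i

variable (A b)

/-- the ambient ring `Rb ⊗ B`. -/
abbrev Pb : Type u := Rb A b ⊗[A] B

/-- the generators of the universal ideal. -/
noncomputable def genI (x : B) : Pb A b := 1 ⊗ₜ x - ∑ i, phiU A b x i ⊗ₜ[A] b i

/-- the universal ideal. -/
noncomputable def Ib : Ideal (Pb A b) := Ideal.span (Set.range (genI A b))

/-- the universal quotient. -/
abbrev Nb : Type u := Pb A b ⧸ Ib A b

/-- the structure map `Rb → Nb`. -/
noncomputable def rhoU : Rb A b →+* Nb A b :=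
  (Ideal.Quotient.mk (Ib A b)).comp (algebraMap (Rb A b) (Pb A b))

/-- the map `B → Nb`. -/
noncomputable def betaU : B →+* Nb A b :=
  (Ideal.Quotient.mk (Ib A b)).comp
    (Algebra.TensorProduct.includeRight : B →ₐ[A] Pb A b).toRingHom

theorem rhoU_apply (r : Rb A b) : rhoU A b r = Ideal.Quotient.mk (Ib A b) (r ⊗ₜ 1) := rfl

theorem betaU_apply (x : B) : betaU A b x = Ideal.Quotient.mk (Ib A b) (1 ⊗ₜ x) := rfl

theorem rhoU_comp_algebraMap :
    (rhoU A b).comp (algebraMap A (Rb A b)) = (betaU A b).comp (algebraMap A B) := by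
  ext a
  simp only [RingHom.comp_apply, rhoU_apply, betaU_apply]
  congr 1
  rw [Algebra.algebraMap_eq_smul_one, Algebra.algebraMap_eq_smul_one, TensorProduct.smul_tmul]

theorem mk_tmul (r : Rb A b) (x : B) :
    Ideal.Quotient.mk (Ib A b) (r ⊗ₜ x) = rhoU A b r * betaU A b x := by
  rw [rhoU_apply, betaU_apply, ← map_mul, Algebra.TensorProduct.tmul_mul_tmul, mul_one, one_mul]

theorem betaU_eq (x : B) :
    betaU A b x = ∑ i, rhoU A b (phiU A b x i) * betaU A b (b i) := by
  have h : genI A b x ∈ Ib A b := Ideal.subset_span ⟨x, rfl⟩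
  have h2 := (Ideal.Quotient.eq_zero_iff_mem).2 h
  rw [genI, map_sub, sub_eq_zero, map_sum] at h2
  rw [betaU_apply, h2]
  exact Finset.sum_congr rfl (fun i _ => mk_tmul A b _ _)

/-- the universal coordinate functions as a linear map. -/
noncomputable def phiUlin : B →ₗ[A] (Fin d → Rb A b) where
  toFun x := fun i => phiU A b x i
  map_add' x y := by
    funext i
    exact phiU_add A b x y i
  map_smul' a x := by
    funext i
    simp only [RingHom.id_apply, Pi.smul_apply]
    rw [phiU_smul, Algebra.smul_def]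

/-- the coordinate map on the ambient ring. -/
noncomputable def PhiU : Pb A b →ₗ[Rb A b] (Fin d → Rb A b) :=
  LinearMap.liftBaseChange (Rb A b) (phiUlin A b)

theorem PhiU_tmul (r : Rb A b) (x : B) (k : Fin d) :
    PhiU A b (r ⊗ₜ x) k = r * phiU A b x k := by
  rw [PhiU, LinearMap.liftBaseChange_tmul]
  rfl

theorem PhiU_mul_genI (q : Pb A b) (x : B) : PhiU A b (q * genI A b x) = 0 := by
  induction q using TensorProduct.induction_on with
  | zero => simp
  | tmul r y =>
    funext k
    rw [genI, mul_sub, Finset.mul_sum, map_sub, map_sum]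
    simp only [Algebra.TensorProduct.tmul_mul_tmul, mul_one, Pi.sub_apply, Finset.sum_apply,
      PhiU_tmul, Pi.zero_apply]
    rw [phiU_mul A b y x k, Finset.mul_sum, sub_eq_zero]
    exact Finset.sum_congr rfl (fun j _ => by ring)
  | add q₁ q₂ h₁ h₂ => rw [add_mul, map_add, h₁, h₂, add_zero]

theorem PhiU_eq_zero_of_mem {p : Pb A b} (hp : p ∈ Ib A b) : PhiU A b p = 0 := by
  have key : ∀ q : Pb A b, PhiU A b (q * p) = 0 := by
    refine Submodule.span_induction (p := fun p _ => ∀ q : Pb A b, PhiU A b (q * p) = 0)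
      ?_ ?_ ?_ ?_ hp
    · rintro _ ⟨x, rfl⟩ q
      exact PhiU_mul_genI A b q x
    · intro q
      simp
    · intro x y _ _ hx hy q
      rw [mul_add, map_add, hx, hy, add_zero]
    · intro r x _ hx q
      rw [smul_eq_mul, ← mul_assoc]
      exact hx _
  have := key 1
  rwa [one_mul] at this

theorem PhiU_sum (c : Fin d → Rb A b) : PhiU A b (∑ i, c i ⊗ₜ[A] b i) = c := by
  funext k
  rw [map_sum, Finset.sum_apply]
  simp only [PhiU_tmul, phiU_basis]
  simp

/-- the images of the `b j` form a basis of the universal quotient. -/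
theorem bijective_univ :
    Function.Bijective (fun c : Fin d → Rb A b => ∑ i, rhoU A b (c i) * betaU A b (b i)) := by
  have hL : ∀ c : Fin d → Rb A b, (∑ i, rhoU A b (c i) * betaU A b (b i)) =
      Ideal.Quotient.mk (Ib A b) (∑ i, c i ⊗ₜ[A] b i) := by
    intro c
    rw [map_sum]
    exact Finset.sum_congr rfl (fun i _ => (mk_tmul A b _ _).symm)
  constructor
  · intro c c' h
    simp only [hL] at h
    rw [Ideal.Quotient.eq] at h
    have h2 := PhiU_eq_zero_of_mem A b h
    rw [map_sub, PhiU_sum, PhiU_sum, sub_eq_zero] at h2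
    exact h2
  · intro y
    obtain ⟨p, rfl⟩ := Ideal.Quotient.mk_surjective y
    induction p using TensorProduct.induction_on with
    | zero => exact ⟨0, by simp⟩
    | tmul r x =>
      refine ⟨fun i => r * phiU A b x i, ?_⟩
      simp only
      rw [mk_tmul, betaU_eq, Finset.mul_sum]
      exact Finset.sum_congr rfl (fun i _ => by rw [map_mul, mul_assoc])
    | add p₁ p₂ h₁ h₂ =>
      obtain ⟨c₁, hc₁⟩ := h₁
      obtain ⟨c₂, hc₂⟩ := h₂
      refine ⟨c₁ + c₂, ?_⟩
      simp only at hc₁ hc₂ ⊢
      rw [map_add, ← hc₁, ← hc₂, ← Finset.sum_add_distrib]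
      exact Finset.sum_congr rfl (fun i _ => by rw [Pi.add_apply, map_add, add_mul])

theorem closure_range_univ :
    Subring.closure (Set.range (rhoU A b) ∪ Set.range (betaU A b)) = ⊤ := by
  rw [eq_top_iff]
  intro y _
  obtain ⟨c, rfl⟩ := (bijective_univ A b).2 y
  apply Subring.sum_mem
  intro i _
  exact Subring.mul_mem _ (Subring.subset_closure (Or.inl ⟨_, rfl⟩))
    (Subring.subset_closure (Or.inr ⟨_, rfl⟩))

end Groth.Agent.Lib.T2H6.HilbRep.Chart
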