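import Mathlib

/-!
# Pointwise spanning conditions for finite modules (helper6)

For a module `N` over `R` and a family `n : Fin d → N`, `SpanAtM R n p` says that `n` spans `N`
near the prime `p` (i.e. `p` is not in the support of `N ⧸ span n`).
-/

set_option autoImplicit false
universe u
open TensorProduct

namespace Groth.Agent.Lib.T2H6.HilbRep.Alg

section Mod

variable (R : Type*) [CommRing R] {N : Type*} [AddCommGroup N] [Module R N] {d : ℕ}
  (n : Fin d → N)

/-- `n` spans `N` near `p`. -/
def SpanAtM (p : PrimeSpectrum R) : Prop :=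
  p ∉ Module.support R (N ⧸ Submodule.span R (Set.range n))

theorem isOpen_setOf_spanAtM [Module.Finite R N] : IsOpen {p | SpanAtM R n p} := by
  have h : IsClosed (Module.support R (N ⧸ Submodule.span R (Set.range n))) :=
    Module.isClosed_support
  exact h.isOpen_compl

theorem span_eq_top_of_forall_spanAtM (h : ∀ p, SpanAtM R n p) :
    Submodule.span R (Set.range n) = ⊤ := by
  have h1 : Module.support R (N ⧸ Submodule.span R (Set.range n)) = ∅ := by
    ext p
    simp only [Set.mem_empty_iff_false, iff_false]
    exact h p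
  rw [Module.support_eq_empty_iff] at h1
  exact Submodule.Quotient.subsingleton_iff.1 h1

theorem spanAtM_of_span_eq_top (h : Submodule.span R (Set.range n) = ⊤) (p : PrimeSpectrum R) :
    SpanAtM R n p := by
  unfold SpanAtM
  have h1 : Subsingleton (N ⧸ Submodule.span R (Set.range n)) :=
    Submodule.Quotient.subsingleton_iff.2 h
  rw [Module.support_eq_empty_iff.2 h1]
  exact Set.notMem_empty p

theorem bijective_of_forall_spanAtM [Module.Finite R N] [Module.Flat R N]
    (hrank : ∀ p : PrimeSpectrum R, Module.rankAtStalk N p = d) (h : ∀ p, SpanAtM R n p) :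
    Function.Bijective (Fintype.linearCombination R n) := by
  have hs : Function.Surjective (Fintype.linearCombination R n) := by
    rw [← LinearMap.range_eq_top, Fintype.range_linearCombination]
    exact span_eq_top_of_forall_spanAtM R n h
  apply Module.bijective_of_surjective_of_rankAtStalk_eq hs
  intro m hm
  haveI : Nontrivial R := nontrivial_of_ne (0 : R) 1 (fun h0 => hm.ne_top (by
    rw [Ideal.eq_top_iff_one, ← h0]
    exact zero_mem _))
  rw [hrank, Module.rankAtStalk_eq_finrank_of_free]
  simp

/-- Characterisation of `SpanAtM` after base change to a field. -/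
theorem spanAtM_iff_of_isBaseChange [Module.Finite R N] {K : Type*} [Field K] [Algebra R K]
    {V : Type*} [AddCommGroup V] [Module K V] [Module R V] [IsScalarTower R K V]
    (l : N →ₗ[R] V) (hl : IsBaseChange K l) (p : PrimeSpectrum R)
    (hp : RingHom.ker (algebraMap R K) = p.asIdeal) :
    SpanAtM R n p ↔ Submodule.span K (Set.range (l ∘ n)) = ⊤ := by
  set M₀ := Submodule.span R (Set.range n) with hM₀
  constructor
  · intro h
    unfold SpanAtM at h
    rw [Module.support_eq_zeroLocus, PrimeSpectrum.mem_zeroLocus, Set.not_subset] at h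
    obtain ⟨a, ha, hap⟩ := h
    have ha' : ∀ y : N, a • y ∈ M₀ := by
      intro y
      have := (Module.mem_annihilator.1 ha) (Submodule.Quotient.mk y)
      rw [← Submodule.Quotient.mk_smul, Submodule.Quotient.mk_eq_zero] at this
      exact this
    have hak : algebraMap R K a ≠ 0 := by
      intro h0
      apply hap
      rw [SetLike.mem_coe, ← hp]
      exact h0
    have hM : ∀ y ∈ M₀, l y ∈ Submodule.span K (Set.range (l ∘ n)) := by
      intro y hy
      induction hy using Submodule.span_induction with
      | mem x hx =>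
        obtain ⟨i, rfl⟩ := hx
        exact Submodule.subset_span ⟨i, rfl⟩
      | zero => simp
      | add x y _ _ hx hy => rw [map_add]; exact Submodule.add_mem _ hx hy
      | smul r x _ hx =>
        rw [map_smul, ← algebraMap_smul K r (l x)]
        exact Submodule.smul_mem _ _ hx
    rw [eq_top_iff]
    suffices hall : ∀ v : V, v ∈ Submodule.span K (Set.range (l ∘ n)) from fun v _ => hall v
    intro v
    induction v using hl.inductionOn with
    | zero => simp
    | tmul y =>
      have h1 : l y = (algebraMap R K a)⁻¹ • l (a • y) := by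
        rw [map_smul, ← algebraMap_smul K a (l y), smul_smul, inv_mul_cancel₀ hak, one_smul]
      rw [h1]
      exact Submodule.smul_mem _ _ (hM _ (ha' y))
    | smul s v hv => exact Submodule.smul_mem _ _ hv
    | add v₁ v₂ h₁ h₂ => exact Submodule.add_mem _ h₁ h₂
  · intro h
    unfold SpanAtM
    intro hmem
    rw [Module.mem_support_iff_nontrivial_residueField_tensorProduct] at hmem
    -- `K` is an algebra over the residue field
    have hu : p.asIdeal.primeCompl ≤ (IsUnit.submonoid K).comap (algebraMap R K) := by
      intro r hr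
      change IsUnit (algebraMap R K r)
      rw [isUnit_iff_ne_zero]
      intro h0
      apply hr
      rw [SetLike.mem_coe, ← hp]
      exact h0
    let ι : p.asIdeal.ResidueField →+* K :=
      Ideal.ResidueField.lift p.asIdeal (algebraMap R K) (le_of_eq hp.symm) hu
    let _ : Algebra p.asIdeal.ResidueField K := ι.toAlgebra
    have : IsScalarTower R p.asIdeal.ResidueField K := IsScalarTower.of_algebraMap_eq (fun r => by
      change _ = ι _
      rw [Ideal.ResidueField.lift_algebraMap])
    have : Nontrivial (K ⊗[p.asIdeal.ResidueField]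
        (p.asIdeal.ResidueField ⊗[R] (N ⧸ M₀))) := inferInstance
    have e := AlgebraTensorModule.cancelBaseChange R p.asIdeal.ResidueField K K (N ⧸ M₀)
    have : Nontrivial (K ⊗[R] (N ⧸ M₀)) := e.symm.toEquiv.nontrivial
    -- but `K ⊗ Q = 0`
    let Φ : V →ₗ[K] K ⊗[R] (N ⧸ M₀) := hl.lift ((TensorProduct.mk R K (N ⧸ M₀) 1) ∘ₗ M₀.mkQ)
    have hΦ : ∀ y, Φ (l y) = 1 ⊗ₜ Submodule.Quotient.mk y := fun y => hl.lift_eq _ y
    have hΦ0 : Φ = 0 := by
      apply LinearMap.ext_on_range (v := l ∘ n) h
      intro i
      rw [Function.comp_apply, hΦ, LinearMap.zero_apply]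
      have : (Submodule.Quotient.mk (n i) : N ⧸ M₀) = 0 := by
        rw [Submodule.Quotient.mk_eq_zero]
        exact Submodule.subset_span ⟨i, rfl⟩
      rw [this, tmul_zero]
    have hsub : Subsingleton (K ⊗[R] (N ⧸ M₀)) := by
      refine ⟨fun x y => ?_⟩
      have h0 : ∀ z : K ⊗[R] (N ⧸ M₀), z = 0 := by
        intro z
        induction z using TensorProduct.induction_on with
        | zero => rfl
        | tmul k q =>
          obtain ⟨y, rfl⟩ := Submodule.Quotient.mk_surjective _ q
          have : k ⊗ₜ[R] (Submodule.Quotient.mk y : N ⧸ M₀) = k • Φ (l y) := by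
            rw [hΦ, TensorProduct.smul_tmul', smul_eq_mul, mul_one]
          rw [this, hΦ0, LinearMap.zero_apply, smul_zero]
        | add a b ha hb => rw [ha, hb, add_zero]
      rw [h0 x, h0 y]
    exact not_subsingleton _ hsub

/-- `SpanAtM` and base change of rings. -/
theorem spanAtM_comp_iff {R' : Type*} [CommRing R'] [Algebra R R'] {N' : Type*} [AddCommGroup N']
    [Module R N'] [Module R' N'] [IsScalarTower R R' N'] [Module.Finite R N]
    [Module.Finite R' N'] (ν : N →ₗ[R] N') (hν : IsBaseChange R' ν) (q : PrimeSpectrum R') :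
    SpanAtM R' (ν ∘ n) q ↔ SpanAtM R n (PrimeSpectrum.comap (algebraMap R R') q) := by
  let K := q.asIdeal.ResidueField
  let l' : N' →ₗ[R'] K ⊗[R'] N' := TensorProduct.mk R' K N' 1
  have hl' : IsBaseChange K l' := TensorProduct.isBaseChange R' N' K
  let l : N →ₗ[R] K ⊗[R'] N' := (l'.restrictScalars R).comp ν
  have hl : IsBaseChange K l := hν.comp hl'
  have hk' : RingHom.ker (algebraMap R' K) = q.asIdeal := Ideal.ker_algebraMap_residueField _
  have hk : RingHom.ker (algebraMap R K) =
      (PrimeSpectrum.comap (algebraMap R R') q).asIdeal := by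
    rw [IsScalarTower.algebraMap_eq R R' K, ← RingHom.comap_ker, hk']
    rfl
  rw [spanAtM_iff_of_isBaseChange R' (ν ∘ n) l' hl' q hk',
    spanAtM_iff_of_isBaseChange R n l hl _ hk]
  rfl

/-- a spanning family at a prime can be extracted from any generating set. -/
theorem exists_spanAtM [Module.Finite R N] [Module.Flat R N]
    (hrank : ∀ p : PrimeSpectrum R, Module.rankAtStalk N p = d) (G : Set N)
    (hG : Submodule.span R G = ⊤) (p : PrimeSpectrum R) :
    ∃ n : Fin d → N, (∀ i, n i ∈ G) ∧ SpanAtM R n p := by
  let K := p.asIdeal.ResidueField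
  let l : N →ₗ[R] K ⊗[R] N := TensorProduct.mk R K N 1
  have hl : IsBaseChange K l := TensorProduct.isBaseChange R N K
  have h1 : Submodule.span K (l '' G) = ⊤ := by
    rw [eq_top_iff]
    suffices hall : ∀ v : K ⊗[R] N, v ∈ Submodule.span K (l '' G) from fun v _ => hall v
    intro v
    induction v using hl.inductionOn with
    | zero => simp
    | tmul y =>
      have hy : y ∈ Submodule.span R G := hG ▸ Submodule.mem_top
      induction hy using Submodule.span_induction with
      | mem x hx => exact Submodule.subset_span ⟨x, hx, rfl⟩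
      | zero => simp
      | add x y _ _ hx hy => rw [map_add]; exact Submodule.add_mem _ hx hy
      | smul r x _ hx =>
        rw [map_smul, ← algebraMap_smul K r (l x)]
        exact Submodule.smul_mem _ _ hx
    | smul s v hv => exact Submodule.smul_mem _ _ hv
    | add v₁ v₂ h₁ h₂ => exact Submodule.add_mem _ h₁ h₂
  haveI : Module.Finite K (Submodule.span K (l '' G)) := by
    rw [h1]
    infer_instance
  obtain ⟨f, hf1, hf2, -⟩ := Submodule.exists_fun_fin_finrank_span_eq K (l '' G)
  have hcard : Module.finrank K (Submodule.span K (l '' G)) = d := by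
    rw [h1, finrank_top, ← hrank p, Module.rankAtStalk_eq]
  have hf1' : ∀ i : Fin d, ∃ g ∈ G, l g = f (Fin.cast hcard.symm i) := fun i => hf1 _
  choose g hgG hg using hf1'
  refine ⟨g, hgG, ?_⟩
  rw [spanAtM_iff_of_isBaseChange R g l hl p (Ideal.ker_algebraMap_residueField _)]
  have hr : Set.range (l ∘ g) = Set.range f := by
    ext v
    constructor
    · rintro ⟨i, rfl⟩
      exact ⟨_, (hg i).symm⟩
    · rintro ⟨j, rfl⟩
      refine ⟨Fin.cast hcard j, ?_⟩
      rw [Function.comp_apply, hg]
      rfl
  rw [hr, hf2, h1]

end Mod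

end Groth.Agent.Lib.T2H6.HilbRep.Alg
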