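import Mathlib
import Groth.Agent.Lib.T2H6HilbRepF

/-!
# Bases and pointwise spanning for ring homomorphisms (helper6)

Wrappers of `T2H6HilbRepF` for ring homomorphisms `ρ : R →+* N` (no `Algebra` instances).
-/

set_option autoImplicit false
universe u
open TensorProduct CategoryTheory

namespace Groth.Agent.Lib.T2H6.HilbRep.Alg

section Hom

variable {R N : Type u} [CommRing R] [CommRing N] (ρ : R →+* N) {d : ℕ} (n : Fin d → N)

/-- `n` is a basis of `N` over `R` (via `ρ`). -/
def IsBasisHom : Prop := Function.Bijective (fun c : Fin d → R => ∑ i, ρ (c i) * n i)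

/-- `n` spans `N` over `R` near the prime `p`. -/
def SpanAt (p : PrimeSpectrum R) : Prop :=
  letI := ρ.toAlgebra
  SpanAtM R n p

theorem linearCombination_eq :
    letI := ρ.toAlgebra
    ∀ c : Fin d → R, Fintype.linearCombination R n c = ∑ i, ρ (c i) * n i := by
  letI := ρ.toAlgebra
  intro c
  rw [Fintype.linearCombination_apply]
  exact Finset.sum_congr rfl (fun i _ => Algebra.smul_def _ _)

theorem isOpen_setOf_spanAt (hfin : ρ.Finite) : IsOpen {p | SpanAt ρ n p} := by
  letI := ρ.toAlgebra
  haveI : Module.Finite R N := hfin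
  exact isOpen_setOf_spanAtM R n

theorem spanAt_of_isBasisHom (h : IsBasisHom ρ n) (p : PrimeSpectrum R) : SpanAt ρ n p := by
  letI := ρ.toAlgebra
  apply spanAtM_of_span_eq_top R n
  rw [← Fintype.range_linearCombination, LinearMap.range_eq_top]
  intro y
  obtain ⟨c, hc⟩ := h.2 y
  exact ⟨c, (linearCombination_eq ρ n c).trans hc⟩

theorem isBasisHom_of_forall_spanAt (hfin : ρ.Finite) (hflat : ρ.Flat)
    (hrank : ∀ p, ρ.finrank p = d) (h : ∀ p, SpanAt ρ n p) : IsBasisHom ρ n := by
  letI := ρ.toAlgebra
  haveI : Module.Finite R N := hfin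
  haveI : Module.Flat R N := hflat
  have hb := bijective_of_forall_spanAtM R n hrank h
  have : (fun c : Fin d → R => ∑ i, ρ (c i) * n i) = Fintype.linearCombination R n := by
    funext c
    exact (linearCombination_eq ρ n c).symm
  unfold IsBasisHom
  rw [this]
  exact hb

theorem exists_spanAt (hfin : ρ.Finite) (hflat : ρ.Flat) (hrank : ∀ p, ρ.finrank p = d)
    (G : Set N) (hG : letI := ρ.toAlgebra; Submodule.span R G = ⊤) (p : PrimeSpectrum R) :
    ∃ n : Fin d → N, (∀ i, n i ∈ G) ∧ SpanAt ρ n p := by
  letI := ρ.toAlgebra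
  haveI : Module.Finite R N := hfin
  haveI : Module.Flat R N := hflat
  exact exists_spanAtM R hrank G hG p

variable {ρ n}

/-- coordinates with respect to a basis. -/
noncomputable def coord (h : IsBasisHom ρ n) (y : N) : Fin d → R :=
  (Equiv.ofBijective _ h).symm y

theorem coord_spec (h : IsBasisHom ρ n) (y : N) : ∑ i, ρ (coord h y i) * n i = y :=
  (Equiv.ofBijective _ h).apply_symm_apply y

theorem coord_unique (h : IsBasisHom ρ n) (y : N) (c : Fin d → R)
    (hc : ∑ i, ρ (c i) * n i = y) : coord h y = c := by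
  apply h.1
  simp only
  rw [coord_spec, hc]

theorem coord_add (h : IsBasisHom ρ n) (y y' : N) :
    coord h (y + y') = coord h y + coord h y' := by
  apply coord_unique
  simp only [Pi.add_apply, map_add, add_mul, Finset.sum_add_distrib, coord_spec]

theorem coord_mul (h : IsBasisHom ρ n) (r : R) (y : N) :
    coord h (ρ r * y) = fun i => r * coord h y i := by
  apply coord_unique
  simp only [map_mul, mul_assoc]
  rw [← Finset.mul_sum, coord_spec]

theorem coord_basis (h : IsBasisHom ρ n) (j : Fin d) :
    coord h (n j) = fun i => if i = j then 1 else 0 := by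
  apply coord_unique
  simp

end Hom

section Pushout

variable {R N R' N' : CommRingCat.{u}} {ρ : R ⟶ N} {g : R ⟶ R'} {ν : N ⟶ N'} {ρ' : R' ⟶ N'}

/-- `SpanAt` is compatible with pushouts. -/
theorem spanAt_iff_of_isPushout (h : IsPushout ρ g ν ρ') (hfin : ρ.hom.Finite)
    (hfin' : ρ'.hom.Finite) {d : ℕ} (n : Fin d → N) (q : PrimeSpectrum R') :
    SpanAt ρ'.hom (ν.hom ∘ n) q ↔ SpanAt ρ.hom n (PrimeSpectrum.comap g.hom q) := by
  algebraize [ρ.hom, g.hom, ν.hom, ρ'.hom, ν.hom.comp ρ.hom]
  have : IsScalarTower R R' N' := .of_algebraMap_eq' <| congr($(h.1.1).hom)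
  have hpo : Algebra.IsPushout R N R' N' := CommRingCat.isPushout_iff_isPushout.mp h
  have hpo' : Algebra.IsPushout R R' N N' := hpo.symm
  have hbc : IsBaseChange R' (IsScalarTower.toAlgHom R N N').toLinearMap := hpo'.out
  exact spanAtM_comp_iff R n (IsScalarTower.toAlgHom R N N').toLinearMap hbc q

/-- in a pushout square, the pushout is spanned over one factor by the image of the other. -/
theorem span_range_eq_top_of_isPushout {A B P : CommRingCat.{u}} {φ : A ⟶ B} {τ : A ⟶ R}
    {β : B ⟶ P} {ρP : R ⟶ P} (h : IsPushout φ τ β ρP) :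
    letI := ρP.hom.toAlgebra
    Submodule.span R (Set.range β.hom) = ⊤ := by
  algebraize [φ.hom, τ.hom, β.hom, ρP.hom, β.hom.comp φ.hom]
  have : IsScalarTower A R P := .of_algebraMap_eq' <| congr($(h.1.1).hom)
  have hpo : Algebra.IsPushout A B R P := CommRingCat.isPushout_iff_isPushout.mp h
  have hpo' : Algebra.IsPushout A R B P := hpo.symm
  have hbc : IsBaseChange R (IsScalarTower.toAlgHom A B P).toLinearMap := hpo'.out
  rw [eq_top_iff]
  suffices hall : ∀ y : P, y ∈ Submodule.span R (Set.range β.hom) from fun y _ => hall y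
  intro y
  induction y using hbc.inductionOn with
  | zero => simp
  | tmul x => exact Submodule.subset_span ⟨x, rfl⟩
  | smul s v hv => exact Submodule.smul_mem _ _ hv
  | add v₁ v₂ h₁ h₂ => exact Submodule.add_mem _ h₁ h₂

end Pushout

section Ker

variable {R B P N N' : Type u} [CommRing R] [CommRing B] [CommRing P] [CommRing N] [CommRing N']
  (ρP : R →+* P) (β : B →+* P) (σ : P →+* N) (σ' : P →+* N') {d : ℕ} (b : Fin d → B)

/-- a quotient free on the images of `b` is determined by its coordinate functions. -/
theorem ker_eq_of_coord_eq (hspan : letI := ρP.toAlgebra; Submodule.span R (Set.range β) = ⊤)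
    (h : IsBasisHom (σ.comp ρP) (fun i => σ (β (b i))))
    (h' : IsBasisHom (σ'.comp ρP) (fun i => σ' (β (b i))))
    (hc : ∀ x, coord h (σ (β x)) = coord h' (σ' (β x))) : RingHom.ker σ = RingHom.ker σ' := by
  letI := ρP.toAlgebra
  have key : ∀ y : P, coord h (σ y) = coord h' (σ' y) := by
    intro y
    have hy : y ∈ Submodule.span R (Set.range β) := hspan ▸ Submodule.mem_top
    induction hy using Submodule.span_induction with
    | mem y hy =>
      obtain ⟨x, rfl⟩ := hy
      exact hc x
    | zero =>
      rw [map_zero, map_zero]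
      have e1 : coord h 0 = 0 := coord_unique h 0 0 (by simp)
      have e2 : coord h' 0 = 0 := coord_unique h' 0 0 (by simp)
      rw [e1, e2]
    | add y y' _ _ hy hy' =>
      rw [map_add, map_add, coord_add, coord_add, hy, hy']
    | smul r y _ hy =>
      have e : r • y = ρP r * y := Algebra.smul_def r y
      rw [e, map_mul, map_mul]
      have e1 := coord_mul h r (σ y)
      have e2 := coord_mul h' r (σ' y)
      rw [RingHom.comp_apply] at e1 e2
      rw [e1, e2, hy]
  ext y
  rw [RingHom.mem_ker, RingHom.mem_ker]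
  constructor
  · intro hy
    have := key y
    rw [hy] at this
    have e1 : coord h 0 = 0 := coord_unique h 0 0 (by simp)
    rw [e1] at this
    have h2 := coord_spec h' (σ' y)
    rw [← this] at h2
    simpa using h2.symm
  · intro hy
    have := key y
    rw [hy] at this
    have e1 : coord h' 0 = 0 := coord_unique h' 0 0 (by simp)
    rw [e1] at this
    have h2 := coord_spec h (σ y)
    rw [this] at h2
    simpa using h2.symm

end Ker

end Groth.Agent.Lib.T2H6.HilbRep.Alg
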