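import Mathlib
import Groth.Prelude.Def_HilbD
import Groth.Agent.Lib.T2H7HilbBasics
import Groth.Agent.Lib.T2H7HilbPush
import Groth.Agent.Lib.T2H6HilbRepA

/-!
# Points of the Hilbert functor over affine schemes (helper6)

The closed subscheme `w.Z` attached to a point `w`, its maps `w.π : w.Z ⟶ W`, `w.j : w.Z ⟶ X`,
the base change square for `Pt.pull`, a constructor from closed immersions, and the algebraic
properties of `w.π.appTop` when `W` is affine.
-/

set_option autoImplicit false
universe u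
open CategoryTheory CategoryTheory.Limits AlgebraicGeometry Opposite

namespace Groth.Agent.Lib.T2H6.HilbRep

open Groth.Agent.Lib.T2H7.HilbBasics

variable {X S : Scheme.{u}} {f : X ⟶ S} {d : ℕ}

/-- the base change square for `HilbD.pull`. -/
theorem exists_isPullback_pull_ideal {T T' : Over S} (g : T' ⟶ T)
    (I : (PicF.XT f T).IdealSheafData) :
    ∃ q : (HilbD.pull f g I).subscheme ⟶ I.subscheme,
      IsPullback q ((HilbD.pull f g I).subschemeι ≫ PicF.XTproj f T')
        (I.subschemeι ≫ PicF.XTproj f T) g.left ∧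
      q ≫ I.subschemeι = (HilbD.pull f g I).subschemeι ≫ PicF.XTmap f g := by
  rw [pull_eq_comap]
  set p := PicF.XTmap f g with hp
  have hpb0 : IsPullback (pullback.snd p I.subschemeι)
      (pullback.fst p I.subschemeι ≫ PicF.XTproj f T') (I.subschemeι ≫ PicF.XTproj f T) g.left :=
    (IsPullback.of_hasPullback p I.subschemeι).flip.paste_vert (isPullback_XTmap f g)
  refine ⟨(I.comapIso p).hom ≫ pullback.snd p I.subschemeι, ?_, ?_⟩
  · refine IsPullback.of_iso hpb0 (I.comapIso p).symm (Iso.refl _) (Iso.refl _) (Iso.refl _)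
      ?_ ?_ ?_ ?_
    · rw [Iso.refl_hom, Category.comp_id, Iso.symm_hom, Iso.inv_hom_id_assoc]
    · simp only [Iso.refl_hom, Category.comp_id, Iso.symm_hom]
      rw [← Category.assoc, Scheme.IdealSheafData.comapIso_inv_subschemeι]
    · simp
    · simp
  · rw [Category.assoc, ← pullback.condition, ← Category.assoc,
      Scheme.IdealSheafData.comapIso_hom_fst]

section Geom

variable {W : Scheme.{u}} (w : Pt f d W)

/-- the closed subscheme attached to a point. -/
noncomputable abbrev Pt.Z : Scheme.{u} := w.I.subscheme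

/-- the structure morphism `Z ⟶ W`. -/
noncomputable abbrev Pt.π : w.Z ⟶ W := w.I.subschemeι ≫ pullback.snd f w.t

/-- the morphism `Z ⟶ X`. -/
noncomputable abbrev Pt.j : w.Z ⟶ X := w.I.subschemeι ≫ pullback.fst f w.t

theorem Pt.j_comp : w.j ≫ f = w.π ≫ w.t := by
  simp only [Category.assoc, pullback.condition]

theorem Pt.isFinLocFreeOfDeg_π : Mor2.IsFinLocFreeOfDeg d w.π := w.h

theorem Pt.exists_isPullback_pull {W' : Scheme.{u}} (g : W' ⟶ W) :
    ∃ q : (w.pull g).Z ⟶ w.Z, IsPullback q (w.pull g).π w.π g ∧ q ≫ w.j = (w.pull g).j := by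
  obtain ⟨q, hq1, hq2⟩ := exists_isPullback_pull_ideal (f := f)
    (ovHom (t := w.t) (t' := g ≫ w.t) g rfl) w.I
  refine ⟨q, hq1, ?_⟩
  change q ≫ w.I.subschemeι ≫ pullback.fst f w.t = _
  rw [← Category.assoc, hq2, Category.assoc]
  erw [XTmap_fst]
  rfl

end Geom

/-- a constructor for points from closed immersions. -/
theorem exists_pt_of_closedImmersion {W Z : Scheme.{u}} (t : W ⟶ S) (j : Z ⟶ X) (π : Z ⟶ W)
    (hc : j ≫ f = π ≫ t) [IsClosedImmersion (pullback.lift j π hc)]
    (hπ : Mor2.IsFinLocFreeOfDeg d π) :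
    ∃ (w : Pt f d W) (e : Z ≅ w.Z), w.t = t ∧ e.hom ≫ w.π = π ∧ e.hom ≫ w.j = j := by
  set i := pullback.lift j π hc with hi
  have h1 : i.toImage ≫ i.ker.subschemeι = i := Scheme.Hom.toImage_imageι i
  have hfl : Mor2.IsFinLocFreeOfDeg d (i.ker.subschemeι ≫ pullback.snd f t) := by
    rw [← Groth.Agent.Lib.T2H7.HilbPush.isFinLocFreeOfDeg_comp_iso i.toImage, ← Category.assoc, h1,
      hi, pullback.lift_snd]
    exact hπ
  refine ⟨⟨t, i.ker, hfl⟩, asIso i.toImage, rfl, ?_, ?_⟩
  · change i.toImage ≫ i.ker.subschemeι ≫ pullback.snd f t = π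
    rw [← Category.assoc, h1, hi, pullback.lift_snd]
  · change i.toImage ≫ i.ker.subschemeι ≫ pullback.fst f t = j
    rw [← Category.assoc, h1, hi, pullback.lift_fst]

section Affine

variable {W : Scheme.{u}} (w : Pt f d W)

theorem Pt.isAffine_Z [IsAffine W] : IsAffine w.Z := by
  haveI : IsFinite w.π := w.h.1.1
  exact isAffine_of_isAffineHom w.π

theorem Pt.finite_appTop [IsAffine W] : w.π.appTop.hom.Finite := by
  haveI : IsFinite w.π := w.h.1.1
  exact w.π.finite_appTop

theorem Pt.flat_appTop [IsAffine W] : w.π.appTop.hom.Flat := by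
  haveI := w.isAffine_Z
  haveI : Flat w.π := w.h.1.2.1
  exact w.π.flat_appTop

theorem Pt.finrank_appTop [IsAffine W] (p : PrimeSpectrum Γ(W, ⊤)) :
    w.π.appTop.hom.finrank p = d := by
  haveI := w.isAffine_Z
  haveI : IsFinite w.π := w.h.1.1
  haveI : Flat w.π := w.h.1.2.1
  have hfin := w.finite_appTop
  have hflat := w.flat_appTop
  haveI : IsFinite (Spec.map w.π.appTop) := (IsFinite.SpecMap_iff _).2 hfin
  haveI : Flat (Spec.map w.π.appTop) := Flat.SpecMap_iff.2 hflat
  have hpb : IsPullback w.Z.isoSpec.hom w.π (Spec.map w.π.appTop) W.isoSpec.hom :=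
    IsPullback.of_horiz_isIso ⟨Scheme.isoSpec_hom_naturality w.π⟩
  obtain ⟨y, rfl⟩ : ∃ y : W, W.isoSpec.hom y = p :=
    (ConcreteCategory.bijective_of_isIso W.isoSpec.hom.base).2 p
  have h1 := Scheme.Hom.finrank_of_isPullback _ _ _ _ hpb y
  rw [Scheme.Hom.finrank_SpecMap_eq_finrank hfin hflat] at h1
  rw [← h1]
  exact w.h.2 y

/-- a point over an affine scheme is determined by the kernel of `Γ(X_W) → Γ(Z)`. -/
theorem Pt.I_eq [IsAffine X] [IsAffine S] [IsAffine W] :
    w.I = Scheme.IdealSheafData.ofIdealTop (RingHom.ker w.I.subschemeι.appTop.hom) := by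
  haveI : IsAffine (PicF.XT f (Over.mk w.t)) := inferInstanceAs (IsAffine (pullback f w.t))
  conv_lhs => rw [← Scheme.IdealSheafData.ker_subschemeι w.I]
  exact Scheme.ker_of_isAffine _

/-- the base change square on global sections. -/
theorem Pt.isPushout_appTop_pull [IsAffine W] {W' : Scheme.{u}} [IsAffine W'] (g : W' ⟶ W) :
    ∃ ν : Γ(w.Z, ⊤) ⟶ Γ((w.pull g).Z, ⊤),
      IsPushout w.π.appTop g.appTop ν (w.pull g).π.appTop ∧
      w.j.appTop ≫ ν = (w.pull g).j.appTop := by
  obtain ⟨q, hq1, hq2⟩ := w.exists_isPullback_pull g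
  haveI := w.isAffine_Z
  refine ⟨q.appTop, isPushout_appTop_of_isPullback hq1, ?_⟩
  rw [← Scheme.Hom.comp_appTop, hq2]

/-- the defining pushout square of `Γ(X_W)`. -/
theorem Pt.isPushout_appTop_XT [IsAffine X] [IsAffine S] [IsAffine W] :
    IsPushout f.appTop w.t.appTop (pullback.fst f w.t).appTop (pullback.snd f w.t).appTop :=
  isPushout_appTop_of_isPullback (IsPullback.of_hasPullback f w.t)

end Affine

end Groth.Agent.Lib.T2H6.HilbRep
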