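import Mathlib
import Groth.Prelude.Def_HilbD
import Groth.Agent.Lib.T2H6HilbRepA
import Groth.Agent.Lib.T2H6HilbRepB
import Groth.Agent.Lib.T2H6HilbRepF2
import Groth.Agent.Lib.T2H6HilbRepG

/-!
# The basis locus of a family of sections (helper6)

For `b : Fin d → Γ(X, ⊤)` and a point `z` of the Hilbert functor over `T`, the set of points of `T`
near which the images of the `b i` form a basis of the structure sheaf of the closed subscheme.
-/

set_option autoImplicit false
universe u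
open CategoryTheory CategoryTheory.Limits AlgebraicGeometry Opposite

namespace Groth.Agent.Lib.T2H6.HilbRep

variable {X S : Scheme.{u}} {f : X ⟶ S} {d : ℕ} (b : Fin d → Γ(X, ⊤))

/-- the images of the sections `b i` on the closed subscheme. -/
noncomputable def Pt.nb {W : Scheme.{u}} (w : Pt f d W) (i : Fin d) : Γ(w.Z, ⊤) :=
  w.j.appTop.hom (b i)

/-- the images of the `b i` form a basis of `Γ(Z)` over `Γ(W)`. -/
def HasBasis {W : Scheme.{u}} (w : Pt f d W) : Prop :=
  Alg.IsBasisHom w.π.appTop.hom (w.nb b)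

/-- the images of the `b i` span near `y`. -/
def SpanAtPt {W : Scheme.{u}} [IsAffine W] (w : Pt f d W) (y : W) : Prop :=
  Alg.SpanAt w.π.appTop.hom (w.nb b) (W.isoSpec.hom y)

theorem spanAtPt_pull_iff {W W' : Scheme.{u}} [IsAffine W] [IsAffine W'] (w : Pt f d W)
    (g : W' ⟶ W) (y' : W') : SpanAtPt b (w.pull g) y' ↔ SpanAtPt b w (g y') := by
  obtain ⟨ν, hpo, hν⟩ := w.isPushout_appTop_pull g
  have h1 := Alg.spanAt_iff_of_isPushout hpo w.finite_appTop (w.pull g).finite_appTop (w.nb b)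
    (W'.isoSpec.hom y')
  have h2 : ν.hom ∘ w.nb b = (w.pull g).nb b := by
    funext i
    change ν.hom (w.j.appTop.hom (b i)) = (w.pull g).j.appTop.hom (b i)
    rw [← hν]
    rfl
  have h3 : PrimeSpectrum.comap g.appTop.hom (W'.isoSpec.hom y') = W.isoSpec.hom (g y') := by
    have := Scheme.isoSpec_hom_naturality g
    have h4 := congrArg (fun m => m y') this
    simp only [Scheme.Hom.comp_apply] at h4
    exact h4
  rw [h2, h3] at h1
  exact h1

/-- independence of the affine chart. -/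
theorem spanAtPt_pull_iff_of_eq {T W₁ W₂ : Scheme.{u}} [IsAffine W₁] [IsAffine W₂] (z : Pt f d T)
    (j₁ : W₁ ⟶ T) (j₂ : W₂ ⟶ T) (y₁ : W₁) (y₂ : W₂) (h : j₁ y₁ = j₂ y₂) :
    SpanAtPt b (z.pull j₁) y₁ ↔ SpanAtPt b (z.pull j₂) y₂ := by
  obtain ⟨p, hp1, hp2⟩ := Scheme.Pullback.exists_preimage_pullback (f := j₁) (g := j₂) y₁ y₂ h
  obtain ⟨R, a, _, p', rfl⟩ := (pullback j₁ j₂).exists_Spec_apply_eq p
  have e : (z.pull j₁).pull (a ≫ pullback.fst j₁ j₂) =
      (z.pull j₂).pull (a ≫ pullback.snd j₁ j₂) := by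
    rw [Pt.pull_pull, Pt.pull_pull]
    apply Pt.pull_congr
    rw [Category.assoc, Category.assoc, pullback.condition]
  have h1 := spanAtPt_pull_iff b (z.pull j₁) (a ≫ pullback.fst j₁ j₂) p'
  have h2 := spanAtPt_pull_iff b (z.pull j₂) (a ≫ pullback.snd j₁ j₂) p'
  rw [Scheme.Hom.comp_apply, hp1] at h1
  rw [Scheme.Hom.comp_apply, hp2] at h2
  rw [← h1, ← h2, e]

/-- the locus where the images of the `b i` form a basis. -/
def basisLocus {T : Scheme.{u}} (z : Pt f d T) : Set T :=
  {x | ∃ (W : Scheme.{u}) (_ : IsAffine W) (j : W ⟶ T) (y : W),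
    j y = x ∧ SpanAtPt b (z.pull j) y}

theorem mem_basisLocus_iff {T W : Scheme.{u}} [IsAffine W] (z : Pt f d T) (j : W ⟶ T) (y : W) :
    j y ∈ basisLocus b z ↔ SpanAtPt b (z.pull j) y := by
  constructor
  · rintro ⟨W', hW', j', y', he, h⟩
    exact (spanAtPt_pull_iff_of_eq b z j' j y' y he).1 h
  · intro h
    exact ⟨W, ‹_›, j, y, rfl, h⟩

theorem isOpen_basisLocus {T : Scheme.{u}} (z : Pt f d T) : IsOpen (basisLocus b z) := by
  rw [isOpen_iff_forall_mem_open]
  intro x hx
  obtain ⟨R, j, _, y, rfl⟩ := T.exists_Spec_apply_eq x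
  rw [mem_basisLocus_iff] at hx
  let V : Set (Spec R) := {y' | SpanAtPt b (z.pull j) y'}
  have hV : IsOpen V := by
    have h0 := Alg.isOpen_setOf_spanAt (z.pull j).π.appTop.hom ((z.pull j).nb b)
      (z.pull j).finite_appTop
    exact h0.preimage (Spec R).isoSpec.hom.continuous
  refine ⟨j '' V, ?_, j.isOpenEmbedding.isOpenMap _ hV, ⟨y, hx, rfl⟩⟩
  rintro _ ⟨y', hy', rfl⟩
  exact (mem_basisLocus_iff b z j y').2 hy'

theorem mem_basisLocus_pull_iff {T T' : Scheme.{u}} (z : Pt f d T) (a : T' ⟶ T) (v : T') :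
    v ∈ basisLocus b (z.pull a) ↔ a v ∈ basisLocus b z := by
  obtain ⟨R, j, _, y, rfl⟩ := T'.exists_Spec_apply_eq v
  rw [mem_basisLocus_iff, Pt.pull_pull, ← Scheme.Hom.comp_apply, mem_basisLocus_iff]

theorem mem_basisLocus_iff_self {W : Scheme.{u}} [IsAffine W] (w : Pt f d W) (y : W) :
    y ∈ basisLocus b w ↔ SpanAtPt b w y := by
  have h := mem_basisLocus_iff b w (𝟙 W) y
  rw [Pt.pull_id] at h
  exact h

theorem hasBasis_of_forall_mem {W : Scheme.{u}} [IsAffine W] (w : Pt f d W)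
    (h : ∀ y, y ∈ basisLocus b w) : HasBasis b w := by
  refine Alg.isBasisHom_of_forall_spanAt _ _ w.finite_appTop w.flat_appTop w.finrank_appTop ?_
  intro p
  obtain ⟨y, rfl⟩ : ∃ y : W, W.isoSpec.hom y = p :=
    (ConcreteCategory.bijective_of_isIso W.isoSpec.hom.base).2 p
  exact (mem_basisLocus_iff_self b w y).1 (h y)

theorem mem_basisLocus_of_hasBasis {W : Scheme.{u}} [IsAffine W] (w : Pt f d W)
    (h : HasBasis b w) (y : W) : y ∈ basisLocus b w :=
  (mem_basisLocus_iff_self b w y).2 (Alg.spanAt_of_isBasisHom _ _ h _)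

theorem hasBasis_pull_of_range_subset {T W : Scheme.{u}} [IsAffine W] (z : Pt f d T) (j : W ⟶ T)
    (h : Set.range j ⊆ basisLocus b z) : HasBasis b (z.pull j) := by
  apply hasBasis_of_forall_mem
  intro y
  rw [mem_basisLocus_pull_iff]
  exact h ⟨y, rfl⟩

theorem hasBasis_pull {W W' : Scheme.{u}} [IsAffine W] [IsAffine W'] (w : Pt f d W)
    (h : HasBasis b w) (g : W' ⟶ W) : HasBasis b (w.pull g) := by
  apply hasBasis_pull_of_range_subset
  rintro _ ⟨y, rfl⟩
  exact mem_basisLocus_of_hasBasis b w h _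

/-- spanning sets are preserved by surjective ring homomorphisms. -/
theorem Alg.span_range_comp_eq_top {R B P N : Type u} [CommRing R] [CommRing B] [CommRing P]
    [CommRing N] (ρP : R →+* P) (β : B →+* P) (σ : P →+* N) (hσ : Function.Surjective σ)
    (hspan : letI := ρP.toAlgebra; Submodule.span R (Set.range β) = ⊤) :
    letI := (σ.comp ρP).toAlgebra
    Submodule.span R (Set.range (σ.comp β)) = ⊤ := by
  letI := ρP.toAlgebra
  letI := (σ.comp ρP).toAlgebra
  let σl : P →ₗ[R] N :=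
    { toFun := σ
      map_add' := map_add σ
      map_smul' := by
        intro r x
        rw [Algebra.smul_def, map_mul, RingHom.id_apply, Algebra.smul_def]
        rfl }
  have h1 : Set.range (σ.comp β) = σl '' Set.range β := by
    ext y
    constructor
    · rintro ⟨x, rfl⟩
      exact ⟨β x, ⟨x, rfl⟩, rfl⟩
    · rintro ⟨_, ⟨x, rfl⟩, rfl⟩
      exact ⟨x, rfl⟩
  rw [h1, ← Submodule.map_span, hspan, Submodule.map_top, LinearMap.range_eq_top]
  exact hσ

/-- the basis loci cover. -/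
theorem exists_mem_basisLocus [IsAffine X] [IsAffine S] {T : Scheme.{u}} (z : Pt f d T) (x : T) :
    ∃ b : Fin d → Γ(X, ⊤), x ∈ basisLocus b z := by
  obtain ⟨R, j, _, y, rfl⟩ := T.exists_Spec_apply_eq x
  set w := z.pull j with hw
  haveI : IsAffine (PicF.XT f (Over.mk w.t)) := inferInstanceAs (IsAffine (pullback f w.t))
  have hσ : Function.Surjective w.I.subschemeι.appTop.hom :=
    (IsClosedImmersion.isAffine_surjective_of_isAffine w.I.subschemeι).2
  have hspan := Alg.span_range_eq_top_of_isPushout w.isPushout_appTop_XT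
  have hspan2 := Alg.span_range_comp_eq_top (pullback.snd f w.t).appTop.hom
    (pullback.fst f w.t).appTop.hom w.I.subschemeι.appTop.hom hσ hspan
  have hπ : w.π.appTop.hom =
      w.I.subschemeι.appTop.hom.comp (pullback.snd f w.t).appTop.hom := rfl
  have hj : w.j.appTop.hom =
      w.I.subschemeι.appTop.hom.comp (pullback.fst f w.t).appTop.hom := rfl
  rw [← hπ, ← hj] at hspan2
  obtain ⟨n, hn, hs⟩ := Alg.exists_spanAt w.π.appTop.hom w.finite_appTop w.flat_appTop
    w.finrank_appTop (Set.range w.j.appTop.hom) hspan2 ((Spec R).isoSpec.hom y)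
  choose b hb using hn
  refine ⟨b, (mem_basisLocus_iff b z j y).2 ?_⟩
  have : w.nb b = n := funext hb
  change Alg.SpanAt w.π.appTop.hom (w.nb b) _
  rw [this]
  exact hs

end Groth.Agent.Lib.T2H6.HilbRep
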