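import Mathlib
import Groth.Agent.Lib.T2H6HilbRepE
import Groth.Agent.Lib.T2H6HilbRepF2

/-!
# The chart algebra in `CommRingCat` (helper6)

Wrappers of `T2H6HilbRepE` for a morphism `φ : A ⟶ B` of `CommRingCat` (no `Algebra` instances).
-/

set_option autoImplicit false
universe u
open CategoryTheory

namespace Groth.Agent.Lib.T2H6.HilbRep.ChartC

variable {A B : CommRingCat.{u}} (φ : A ⟶ B) {d : ℕ} (b : Fin d → B)

/-- the chart algebra. -/
noncomputable def Rb : CommRingCat.{u} :=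
  letI := φ.hom.toAlgebra
  CommRingCat.of (Chart.Rb A b)

/-- the universal quotient. -/
noncomputable def Nb : CommRingCat.{u} :=
  letI := φ.hom.toAlgebra
  CommRingCat.of (Chart.Nb A b)

/-- the structure map of the chart algebra. -/
noncomputable def τU : A ⟶ Rb φ b :=
  letI := φ.hom.toAlgebra
  CommRingCat.ofHom (algebraMap A (Chart.Rb A b))

/-- the structure map of the universal quotient. -/
noncomputable def ρU : Rb φ b ⟶ Nb φ b :=
  letI := φ.hom.toAlgebra
  CommRingCat.ofHom (Chart.rhoU A b)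

/-- the map from `B` to the universal quotient. -/
noncomputable def βU : B ⟶ Nb φ b :=
  letI := φ.hom.toAlgebra
  CommRingCat.ofHom (Chart.betaU A b)

/-- the universal coordinate functions. -/
noncomputable def φU (x : B) (i : Fin d) : Rb φ b :=
  letI := φ.hom.toAlgebra
  Chart.phiU A b x i

theorem comm : φ ≫ βU φ b = τU φ b ≫ ρU φ b := by
  letI := φ.hom.toAlgebra
  ext a
  exact (congrArg (fun m : A →+* Chart.Nb A b => m a) (Chart.rhoU_comp_algebraMap A b)).symm

theorem isBasisHom : Alg.IsBasisHom (ρU φ b).hom (fun i => (βU φ b).hom (b i)) := by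
  letI := φ.hom.toAlgebra
  exact Chart.bijective_univ A b

theorem coord_eq (x : B) : Alg.coord (isBasisHom φ b) ((βU φ b).hom x) = φU φ b x := by
  letI := φ.hom.toAlgebra
  apply Alg.coord_unique
  exact (Chart.betaU_eq A b x).symm

theorem closure_eq_top :
    Subring.closure (Set.range (ρU φ b).hom ∪ Set.range (βU φ b).hom) = ⊤ := by
  letI := φ.hom.toAlgebra
  exact Chart.closure_range_univ A b

theorem exists_lift {R : CommRingCat.{u}} (τ : A ⟶ R) (ψ : B → Fin d → R)
    (hadd : ∀ x y i, ψ (x + y) i = ψ x i + ψ y i)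
    (hsmul : ∀ a x i, ψ (φ.hom a * x) i = τ.hom a * ψ x i)
    (hbasis : ∀ j i, ψ (b j) i = if i = j then 1 else 0)
    (hideal : ∀ x y i, ψ (x * y) i = ∑ j, ψ y j * ψ (x * b j) i) :
    ∃ ρ : Rb φ b ⟶ R, τU φ b ≫ ρ = τ ∧ ∀ x i, ρ.hom (φU φ b x i) = ψ x i := by
  letI := φ.hom.toAlgebra
  obtain ⟨ρ, h1, h2⟩ := Chart.exists_lift (A := A) (b := b) τ.hom ψ hadd
    (fun a x i => by rw [Algebra.smul_def]; exact hsmul a x i) hbasis hideal
  refine ⟨CommRingCat.ofHom ρ, ?_, h2⟩
  ext a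
  exact congrArg (fun m : A →+* R => m a) h1

theorem lift_unique {R : CommRingCat.{u}} (ρ ρ' : Rb φ b ⟶ R) (h1 : τU φ b ≫ ρ = τU φ b ≫ ρ')
    (h2 : ∀ x i, ρ.hom (φU φ b x i) = ρ'.hom (φU φ b x i)) : ρ = ρ' := by
  letI := φ.hom.toAlgebra
  ext1
  apply Chart.lift_unique (A := A) (b := b) ρ.hom ρ'.hom
  · ext a
    exact congrArg (fun m : A ⟶ R => m.hom a) h1
  · exact h2

end Groth.Agent.Lib.T2H6.HilbRep.ChartC
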