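import Mathlib

set_option autoImplicit false
open Polynomial

namespace Groth.Agent.Lib.T2H6.SplitCover

universe u

theorem injective_of_adjoinRoot {A : Type u} [CommRing A] (P : A[X]) (hP : P.Monic)
    (hd : 0 < P.natDegree) : Function.Injective (algebraMap A (AdjoinRoot P)) := by
  rw [injective_iff_map_eq_zero]
  intro a ha
  let pb := AdjoinRoot.powerBasis' hP
  have hdim : pb.dim = P.natDegree := AdjoinRoot.powerBasis'_dim hP
  have h0 : pb.basis ⟨0, by rw [hdim]; exact hd⟩ = 1 := by
    rw [pb.basis_eq_pow]
    simp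
  have h1 : a • pb.basis ⟨0, by rw [hdim]; exact hd⟩ = 0 := by
    rw [h0, Algebra.smul_def, mul_one]
    exact ha
  have h2 := congrArg (fun x => pb.basis.repr x ⟨0, by rw [hdim]; exact hd⟩) h1
  simp only [map_smul, Module.Basis.repr_self, Finsupp.smul_apply, Finsupp.single_eq_same,
    smul_eq_mul, mul_one, map_zero, Finsupp.zero_apply] at h2
  exact h2

/-- a monic polynomial splits into linear factors over some finite free faithful extension. -/
theorem exists_splitting (d : ℕ) : ∀ {A : Type u} [CommRing A] (P : A[X]), P.Monic →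
    P.natDegree = d →
    ∃ (A' : Type u) (_ : CommRing A') (_ : Algebra A A'), Module.Free A A' ∧ Module.Finite A A' ∧
      Function.Injective (algebraMap A A') ∧
      ∃ t : Fin d → A', P.map (algebraMap A A') = ∏ j, (X - C (t j)) := by
  induction d with
  | zero =>
    intro A _ P hP hd
    refine ⟨A, inferInstance, inferInstance, inferInstance, inferInstance, fun _ _ h => h,
      Fin.elim0, ?_⟩
    rw [(Polynomial.Monic.natDegree_eq_zero hP).mp hd]
    simp
  | succ d ih =>
    intro A _ P hP hd
    rcases subsingleton_or_nontrivial A with hA | hA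
    · exact ⟨A, inferInstance, inferInstance, inferInstance, inferInstance, fun _ _ h => h,
        fun _ => 0, Subsingleton.elim _ _⟩
    let A₁ := AdjoinRoot P
    let r : A₁ := AdjoinRoot.root P
    have hroot : (P.map (AdjoinRoot.of P)).IsRoot r := AdjoinRoot.isRoot_root P
    have hPm : (P.map (AdjoinRoot.of P)).Monic := hP.map _
    obtain ⟨P₁, hP₁⟩ : ∃ P₁, P.map (AdjoinRoot.of P) = (X - C r) * P₁ :=
      ⟨_, (mul_divByMonic_eq_iff_isRoot.mpr hroot).symm⟩
    haveI : Nontrivial A₁ := (injective_of_adjoinRoot P hP (by omega)).nontrivial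
    have hP₁m : P₁.Monic := by
      have h1 : ((X - C r) * P₁).Monic := hP₁ ▸ hPm
      exact (monic_X_sub_C r).of_mul_monic_left h1
    have hP₁d : P₁.natDegree = d := by
      have h1 : (P.map (AdjoinRoot.of P)).natDegree = d + 1 := by
        rw [hP.natDegree_map]; exact hd
      rw [hP₁, (monic_X_sub_C r).natDegree_mul hP₁m, natDegree_X_sub_C] at h1
      omega
    obtain ⟨A', hA'r, hA'a, hfree, hfin, hinj, t', ht'⟩ := ih P₁ hP₁m hP₁d
    letI := hA'r
    letI := hA'a
    letI : Algebra A A' := ((algebraMap A₁ A').comp (algebraMap A A₁)).toAlgebra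
    haveI : IsScalarTower A A₁ A' := IsScalarTower.of_algebraMap_eq (fun _ => rfl)
    haveI : Module.Free A A₁ := hP.free_adjoinRoot
    haveI : Module.Finite A A₁ := hP.finite_adjoinRoot
    haveI := hfree
    haveI := hfin
    refine ⟨A', hA'r, inferInstance, ?_, Module.Finite.trans A₁ A', ?_, ?_⟩
    · exact Module.Free.of_basis
        ((Module.Free.chooseBasis A A₁).smulTower (Module.Free.chooseBasis A₁ A'))
    · have : (algebraMap A A' : A → A') = (algebraMap A₁ A') ∘ (algebraMap A A₁) := rfl
      rw [this]
      exact hinj.comp (injective_of_adjoinRoot P hP (by omega))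
    · refine ⟨Fin.cons (algebraMap A₁ A' r) t', ?_⟩
      have h1 : P.map (algebraMap A A') = (P.map (AdjoinRoot.of P)).map (algebraMap A₁ A') := by
        rw [Polynomial.map_map]
        rfl
      rw [h1, hP₁, Polynomial.map_mul, ht', Fin.prod_univ_succ]
      simp

/-- finitely many monic polynomials of the same degree split simultaneously. -/
theorem exists_splitting_family (m : ℕ) (n : ℕ) : ∀ {A : Type u} [CommRing A] (P : Fin n → A[X]),
    (∀ i, (P i).Monic) → (∀ i, (P i).natDegree = m) →
    ∃ (A' : Type u) (_ : CommRing A') (_ : Algebra A A'), Module.Free A A' ∧ Module.Finite A A' ∧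
      Function.Injective (algebraMap A A') ∧
      ∃ t : Fin n → Fin m → A', ∀ i, (P i).map (algebraMap A A') = ∏ j, (X - C (t i j)) := by
  induction n with
  | zero =>
    intro A _ P _ _
    exact ⟨A, inferInstance, inferInstance, inferInstance, inferInstance, fun _ _ h => h,
      Fin.elim0, fun i => Fin.elim0 i⟩
  | succ n ih =>
    intro A _ P hP hd
    rcases subsingleton_or_nontrivial A with hA | hA
    · exact ⟨A, inferInstance, inferInstance, inferInstance, inferInstance, fun _ _ h => h,
        fun _ _ => 0, fun _ => Subsingleton.elim _ _⟩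
    obtain ⟨A₁, hA₁r, hA₁a, hfree₁, hfin₁, hinj₁, t₀, ht₀⟩ := exists_splitting m (P 0) (hP 0) (hd 0)
    letI := hA₁r
    letI := hA₁a
    haveI : Nontrivial A₁ := hinj₁.nontrivial
    obtain ⟨A', hA'r, hA'a, hfree, hfin, hinj, t', ht'⟩ :=
      ih (fun i => (P i.succ).map (algebraMap A A₁)) (fun i => (hP i.succ).map _)
        (fun i => by rw [(hP i.succ).natDegree_map]; exact hd i.succ)
    letI := hA'r
    letI := hA'a
    letI : Algebra A A' := ((algebraMap A₁ A').comp (algebraMap A A₁)).toAlgebra
    haveI : IsScalarTower A A₁ A' := IsScalarTower.of_algebraMap_eq (fun _ => rfl)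
    haveI := hfree₁
    haveI := hfin₁
    haveI := hfree
    haveI := hfin
    refine ⟨A', hA'r, inferInstance, ?_, Module.Finite.trans A₁ A', ?_, ?_⟩
    · exact Module.Free.of_basis
        ((Module.Free.chooseBasis A A₁).smulTower (Module.Free.chooseBasis A₁ A'))
    · have : (algebraMap A A' : A → A') = (algebraMap A₁ A') ∘ (algebraMap A A₁) := rfl
      rw [this]
      exact hinj.comp hinj₁
    · refine ⟨Fin.cons (fun j => algebraMap A₁ A' (t₀ j)) t', fun i => ?_⟩
      have h1 : ∀ Q : A[X], Q.map (algebraMap A A') =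
          (Q.map (algebraMap A A₁)).map (algebraMap A₁ A') := by
        intro Q
        rw [Polynomial.map_map]
        rfl
      refine Fin.cases ?_ (fun i => ?_) i
      · rw [h1, ht₀, Polynomial.map_prod]
        simp
      · rw [h1, Fin.cons_succ]
        exact ht' i

end Groth.Agent.Lib.T2H6.SplitCover
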