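import Mathlib
import Groth.Agent.Lib.T2H6SplitCoverA
import Groth.Agent.Lib.LeadASb

set_option autoImplicit false
open Polynomial TensorProduct

namespace Groth.Agent.Lib.T2H6.SplitCover

universe u

open Groth.Agent.Lib.LeadAS

section MvAux

variable {R : Type u} [CommRing R] {n : ℕ}

theorem sub_C_aeval_mem (v : Fin n → R) (F : MvPolynomial (Fin n) R) :
    F - MvPolynomial.C (MvPolynomial.aeval v F) ∈
      Ideal.span (Set.range fun i => (MvPolynomial.X i - MvPolynomial.C (v i) :
        MvPolynomial (Fin n) R)) := by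
  induction F using MvPolynomial.induction_on with
  | C c => simp
  | add F G hF hG =>
    have : F + G - MvPolynomial.C (MvPolynomial.aeval v (F + G)) =
        (F - MvPolynomial.C (MvPolynomial.aeval v F)) +
          (G - MvPolynomial.C (MvPolynomial.aeval v G)) := by
      rw [map_add, map_add]; ring
    rw [this]
    exact Ideal.add_mem _ hF hG
  | mul_X F i hF =>
    have : F * MvPolynomial.X i - MvPolynomial.C (MvPolynomial.aeval v (F * MvPolynomial.X i)) =
        (F - MvPolynomial.C (MvPolynomial.aeval v F)) * MvPolynomial.X i +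
          MvPolynomial.C (MvPolynomial.aeval v F) *
            (MvPolynomial.X i - MvPolynomial.C (v i)) := by
      rw [map_mul, MvPolynomial.aeval_X, map_mul]; ring
    rw [this]
    exact Ideal.add_mem _ (Ideal.mul_mem_right _ _ hF)
      (Ideal.mul_mem_left _ _ (Ideal.subset_span ⟨i, rfl⟩))

theorem liftQ_mk' {B : Type u} [CommRing B] [Algebra R B] (f : Fin n → R[X]) (v : Fin n → B)
    (hv : ∀ i, Polynomial.aeval (v i) (f i) = 0) (x : MvPolynomial (Fin n) R) :
    liftQ f v hv (Ideal.Quotient.mk (I f) x) = MvPolynomial.aeval v x :=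
  AlgHom.congr_fun (Ideal.Quotient.liftₐ_comp (I f) (MvPolynomial.aeval v) (liftQ_aux f v hv)) x

end MvAux

/-- **finite algebras are quotients of finite free algebras which, after a finite free faithful
base change, are covered by sections.** -/
theorem exists_split_cover (A B : Type u) [CommRing A] [CommRing B] [Algebra A B]
    [Module.Finite A B] :
    ∃ (A' : Type u) (_ : CommRing A') (_ : Algebra A A') (C' : Type u) (_ : CommRing C')
      (_ : Algebra A' C'), Module.Free A A' ∧ Module.Finite A A' ∧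
      Function.Injective (algebraMap A A') ∧ Module.Free A' C' ∧ Module.Finite A' C' ∧
      ∃ (π : C' →ₐ[A'] A' ⊗[A] B), Function.Surjective π ∧
      ∃ (N : ℕ) (ev : Fin N → (C' →ₐ[A'] A')),
        ∀ 𝔮 : Ideal C', 𝔮.IsPrime → ∃ j, RingHom.ker (ev j).toRingHom ≤ 𝔮 := by
  classical
  rcases subsingleton_or_nontrivial A with hsub | hnt
  · -- trivial case
    haveI : Subsingleton (A ⊗[A] B) := by
      refine ⟨fun x y => ?_⟩
      have : ∀ z : A ⊗[A] B, z = 0 := fun z => by
        induction z using TensorProduct.induction_on with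
        | zero => rfl
        | tmul a b => rw [Subsingleton.elim a 0, TensorProduct.zero_tmul]
        | add x y hx hy => rw [hx, hy, add_zero]
      rw [this x, this y]
    refine ⟨A, inferInstance, Algebra.id A, A, inferInstance, Algebra.id A, inferInstance,
      inferInstance, fun _ _ h => h, inferInstance,
      inferInstance, Algebra.ofId A _, fun x => ⟨0, Subsingleton.elim _ _⟩, 0, Fin.elim0,
      fun 𝔮 h𝔮 => ?_⟩
    exact absurd (Subsingleton.elim (1 : A) 0 ▸ 𝔮.zero_mem : (1 : A) ∈ 𝔮)
      (𝔮.ne_top_iff_one.mp h𝔮.ne_top)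
  obtain ⟨n, s, hs⟩ := Module.Finite.exists_fin (R := A) (M := B)
  have hint : ∀ i, IsIntegral A (s i) := fun i => Algebra.IsIntegral.isIntegral (s i)
  choose p hpm hp0 using hint
  obtain ⟨m, hm⟩ : ∃ m : ℕ, m = (Finset.univ.sup fun i => (p i).natDegree) + 1 := ⟨_, rfl⟩
  have hle : ∀ i, (p i).natDegree ≤ m := fun i => by
    rw [hm]
    exact (Finset.le_sup (f := fun i => (p i).natDegree) (Finset.mem_univ i)).trans
      (Nat.le_succ _)
  have hm0 : 0 < m := by rw [hm]; exact Nat.succ_pos _
  let P : Fin n → A[X] := fun i => p i * X ^ (m - (p i).natDegree)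
  have hPm : ∀ i, (P i).Monic := fun i => (hpm i).mul (monic_X_pow _)
  have hPd : ∀ i, (P i).natDegree = m := fun i => by
    show (p i * X ^ (m - (p i).natDegree)).natDegree = m
    rw [(hpm i).natDegree_mul (monic_X_pow _), natDegree_X_pow]
    have := hle i
    omega
  have hP0 : ∀ i, Polynomial.aeval (s i) (P i) = 0 := fun i => by
    show Polynomial.aeval (s i) (p i * X ^ (m - (p i).natDegree)) = 0
    rw [map_mul]
    have : Polynomial.aeval (s i) (p i) = 0 := hp0 i
    rw [this, zero_mul]
  obtain ⟨A', hA'r, hA'a, hfree, hfin, hinj, t, ht⟩ := exists_splitting_family m n P hPm hPd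
  letI := hA'r
  letI := hA'a
  haveI : Nontrivial A' := hinj.nontrivial
  let f' : Fin n → A'[X] := fun i => (P i).map (algebraMap A A')
  have hf'm : ∀ i, (f' i).Monic := fun i => (hPm i).map _
  have hf'd : ∀ i, (f' i).natDegree = m := fun i => by
    show ((P i).map (algebraMap A A')).natDegree = m
    rw [(hPm i).natDegree_map]
    exact hPd i
  haveI : Module.Free A' (Q f') := free_Q f' hf'm hf'd hm0
  haveI : Module.Finite A' (Q f') := finite_Q f' hf'm hf'd hm0
  -- the surjection
  have hπ0 : ∀ i, Polynomial.aeval ((1 : A') ⊗ₜ[A] s i) (f' i) = 0 := fun i => by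
    show Polynomial.aeval ((1 : A') ⊗ₜ[A] s i) ((P i).map (algebraMap A A')) = 0
    rw [Polynomial.aeval_map_algebraMap]
    have h1 : (1 : A') ⊗ₜ[A] s i = (Algebra.TensorProduct.includeRight : B →ₐ[A] A' ⊗[A] B) (s i) :=
      rfl
    rw [h1, Polynomial.aeval_algHom_apply, hP0 i, map_zero]
  let π : Q f' →ₐ[A'] A' ⊗[A] B := liftQ f' (fun i => (1 : A') ⊗ₜ[A] s i) hπ0
  have hπs : Function.Surjective π := by
    intro x
    induction x using TensorProduct.induction_on with
    | zero => exact ⟨0, map_zero _⟩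
    | tmul a b =>
      have hb : b ∈ Submodule.span A (Set.range s) := by rw [hs]; trivial
      obtain ⟨c, rfl⟩ := (Submodule.mem_span_range_iff_exists_fun A).mp hb
      refine ⟨∑ i, (c i • a) • u f' i, ?_⟩
      rw [map_sum, TensorProduct.tmul_sum]
      refine Finset.sum_congr rfl fun i _ => ?_
      rw [map_smul, liftQ_u, TensorProduct.smul_tmul', smul_eq_mul, mul_one,
        TensorProduct.tmul_smul, TensorProduct.smul_tmul']
    | add x y hx hy =>
      obtain ⟨x', rfl⟩ := hx
      obtain ⟨y', rfl⟩ := hy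
      exact ⟨x' + y', map_add _ _ _⟩
  -- the sections
  have hev0 : ∀ (j : Fin n → Fin m) (i : Fin n), Polynomial.aeval (t i (j i)) (f' i) = 0 := by
    intro j i
    show Polynomial.aeval (t i (j i)) ((P i).map (algebraMap A A')) = 0
    rw [ht i, Polynomial.coe_aeval_eq_eval, Polynomial.eval_prod]
    exact Finset.prod_eq_zero (Finset.mem_univ (j i)) (by simp)
  let ev : (Fin n → Fin m) → (Q f' →ₐ[A'] A') := fun j => liftQ f' (fun i => t i (j i)) (hev0 j)
  have hcover : ∀ 𝔮 : Ideal (Q f'), 𝔮.IsPrime → ∃ j, RingHom.ker (ev j).toRingHom ≤ 𝔮 := by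
    intro 𝔮 h𝔮
    have h1 : ∀ i, ∃ k, u f' i - algebraMap A' (Q f') (t i k) ∈ 𝔮 := by
      intro i
      have h2 := aeval_u f' i
      have h3 : Polynomial.aeval (u f' i) (f' i) = ∏ k, (u f' i - algebraMap A' (Q f') (t i k)) := by
        show Polynomial.aeval (u f' i) ((P i).map (algebraMap A A')) = _
        rw [ht i, map_prod]
        refine Finset.prod_congr rfl fun k _ => ?_
        rw [map_sub, Polynomial.aeval_X, Polynomial.aeval_C]
      rw [h3] at h2
      have h4 : ∏ k, (u f' i - algebraMap A' (Q f') (t i k)) ∈ 𝔮 := by rw [h2]; exact 𝔮.zero_mem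
      obtain ⟨k, -, hk⟩ := (h𝔮.prod_mem_iff).mp h4
      exact ⟨k, hk⟩
    choose j hj using h1
    refine ⟨j, fun x hx => ?_⟩
    obtain ⟨F, rfl⟩ := Ideal.Quotient.mk_surjective x
    have h5 : MvPolynomial.aeval (fun i => t i (j i)) F = 0 := by
      have : ev j (Ideal.Quotient.mk (I f') F) = 0 := hx
      rwa [liftQ_mk'] at this
    have h6 := sub_C_aeval_mem (fun i => t i (j i)) F
    rw [h5, map_zero, sub_zero] at h6
    have h7 := Ideal.mem_map_of_mem (Ideal.Quotient.mk (I f')) h6
    rw [Ideal.map_span, ← Set.range_comp] at h7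
    refine (Ideal.span_le.mpr ?_) h7
    rintro _ ⟨i, rfl⟩
    exact hj i
  refine ⟨A', hA'r, hA'a, Q f', inferInstance, inferInstance, hfree, hfin, hinj, inferInstance,
    inferInstance, π, hπs, Fintype.card (Fin n → Fin m),
    fun k => ev ((Fintype.equivFin (Fin n → Fin m)).symm k), fun 𝔮 h𝔮 => ?_⟩
  obtain ⟨j, hj⟩ := hcover 𝔮 h𝔮
  refine ⟨Fintype.equivFin _ j, ?_⟩
  show RingHom.ker (ev ((Fintype.equivFin _).symm (Fintype.equivFin _ j))).toRingHom ≤ 𝔮
  rw [Equiv.symm_apply_apply]
  exact hj

end Groth.Agent.Lib.T2H6.SplitCover
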