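import Mathlib
import Groth.Prelude.Def_Mor2
import Groth.Agent.Lib.T2H6SplitCoverB
set_option backward.isDefEq.respectTransparency.types false

set_option autoImplicit false
set_option linter.style.haveILetI false
universe u
open CategoryTheory CategoryTheory.Limits AlgebraicGeometry TensorProduct

namespace Groth.Agent.Lib.T2H6.SplitCover

theorem isFinLocFree_SpecMap_algebraMap (R S : Type u) [CommRing R] [CommRing S] [Algebra R S]
    [Module.Free R S] [Module.Finite R S] :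
    Mor2.IsFinLocFree (Spec.map (CommRingCat.ofHom (algebraMap R S))) := by
  refine ⟨?_, ?_, ?_⟩
  · rw [IsFinite.SpecMap_iff]
    exact RingHom.finite_algebraMap.mpr inferInstance
  · rw [Flat.SpecMap_iff]
    exact RingHom.flat_algebraMap_iff.mpr inferInstance
  · rw [HasRingHomProperty.Spec_iff (P := @LocallyOfFinitePresentation)]
    haveI : Module.FinitePresentation R S := Module.finitePresentation_of_projective R S
    haveI : Algebra.FinitePresentation R S := Algebra.FinitePresentation.of_finitePresentation R S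
    exact RingHom.finitePresentation_algebraMap.mpr inferInstance

theorem main {X Y : Scheme.{u}} [IsAffine X] (f : Y ⟶ X) [IsFinite f] :
    ∃ (X' : Scheme.{u}) (b : X' ⟶ X) (Z' : Scheme.{u}) (c : Z' ⟶ X') (i : pullback f b ⟶ Z'),
      Mor2.IsFinLocFree b ∧ Surjective b ∧ Mor2.IsFinLocFree c ∧ IsClosedImmersion i ∧
      i ≫ c = pullback.snd f b ∧
      ∃ (m : ℕ) (Zj : Fin m → Scheme.{u}) (ιj : ∀ j, Zj j ⟶ Z'),
        (∀ j, IsClosedImmersion (ιj j)) ∧ (∀ j, IsIso (ιj j ≫ c)) ∧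
        (⋃ j, Set.range (ιj j).base) = Set.univ := by
  haveI : IsAffine Y := isAffine_of_isAffineHom f
  have hfinφ : f.appTop.hom.Finite :=
    ((HasAffineProperty.iff_of_isAffine (P := @IsFinite)).mp (inferInstance : IsFinite f)).2
  obtain ⟨φ, hφ⟩ : ∃ φ : Γ(X, ⊤) →+* Γ(Y, ⊤), φ = f.appTop.hom := ⟨_, rfl⟩
  rw [← hφ] at hfinφ
  algebraize [φ]
  obtain ⟨A', hA'r, hA'a, C', hC'r, hC'a, hfree, hfin, hinj, hfreeC, hfinC, π, hπ, N, ev, hcov⟩ :=
    exists_split_cover Γ(X, ⊤) Γ(Y, ⊤)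
  letI := hA'r
  letI := hA'a
  letI := hC'r
  letI := hC'a
  haveI := hfree
  haveI := hfin
  haveI := hfreeC
  haveI := hfinC
  -- the maps
  let f' : Spec Γ(Y, ⊤) ⟶ Spec Γ(X, ⊤) := Spec.map (CommRingCat.ofHom (algebraMap Γ(X, ⊤) Γ(Y, ⊤)))
  let b' : Spec (.of A') ⟶ Spec Γ(X, ⊤) := Spec.map (CommRingCat.ofHom (algebraMap Γ(X, ⊤) A'))
  have hf' : f' = Spec.map f.appTop := by
    show Spec.map (CommRingCat.ofHom (algebraMap Γ(X, ⊤) Γ(Y, ⊤))) = _
    rw [RingHom.algebraMap_toAlgebra, hφ]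
    rfl
  have hnat : f ≫ X.isoSpec.hom = Y.isoSpec.hom ≫ f' := by
    rw [hf', Scheme.isoSpec_hom_naturality]
  let e : pullback f (b' ≫ X.isoSpec.inv) ⟶ pullback f' b' :=
    pullback.map f (b' ≫ X.isoSpec.inv) f' b' Y.isoSpec.hom (𝟙 _) X.isoSpec.hom hnat (by simp)
  haveI : IsIso e := by
    show IsIso (pullback.map _ _ _ _ _ _ _ _ _)
    infer_instance
  have he : e ≫ pullback.snd f' b' = pullback.snd f (b' ≫ X.isoSpec.inv) := by
    show pullback.map _ _ _ _ _ _ _ _ _ ≫ _ = _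
    rw [pullback.lift_snd, Category.comp_id]
  let ρ : C' →+* Γ(Y, ⊤) ⊗[Γ(X, ⊤)] A' :=
    ((Algebra.TensorProduct.comm Γ(X, ⊤) A' Γ(Y, ⊤)).toAlgHom.toRingHom).comp π.toRingHom
  have hρ : Function.Surjective ρ :=
    (Algebra.TensorProduct.comm Γ(X, ⊤) A' Γ(Y, ⊤)).surjective.comp hπ
  have hρalg : ρ.comp (algebraMap A' C') =
      ((Algebra.TensorProduct.includeRight : A' →ₐ[Γ(X, ⊤)] Γ(Y, ⊤) ⊗[Γ(X, ⊤)] A') :
        A' →+* Γ(Y, ⊤) ⊗[Γ(X, ⊤)] A') := by
    ext a
    show (Algebra.TensorProduct.comm Γ(X, ⊤) A' Γ(Y, ⊤)) (π (algebraMap A' C' a)) = _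
    rw [π.commutes, Algebra.TensorProduct.algebraMap_apply, Algebra.algebraMap_self_apply,
      Algebra.TensorProduct.comm_tmul]
    rfl
  let c : Spec (.of C') ⟶ Spec (.of A') := Spec.map (CommRingCat.ofHom (algebraMap A' C'))
  let i : pullback f (b' ≫ X.isoSpec.inv) ⟶ Spec (.of C') :=
    e ≫ (pullbackSpecIso Γ(X, ⊤) Γ(Y, ⊤) A').hom ≫ Spec.map (CommRingCat.ofHom ρ)
  have hb' : Mor2.IsFinLocFree b' := isFinLocFree_SpecMap_algebraMap Γ(X, ⊤) A'
  refine ⟨Spec (.of A'), b' ≫ X.isoSpec.inv, Spec (.of C'), c, i, ?_, ?_,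
    isFinLocFree_SpecMap_algebraMap A' C', ?_, ?_, ?_⟩
  · obtain ⟨h1, h2, h3⟩ := hb'
    haveI := h1
    haveI := h2
    haveI := h3
    exact ⟨inferInstance, inferInstance, inferInstance⟩
  · haveI : Surjective b' := by
      rw [surjective_iff]
      exact RingHom.IsIntegral.comap_surjective (f := algebraMap Γ(X, ⊤) A')
        (algebraMap_isIntegral_iff.mpr inferInstance) hinj
    infer_instance
  · haveI : IsClosedImmersion (Spec.map (CommRingCat.ofHom ρ)) :=
      IsClosedImmersion.spec_of_surjective _ hρ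
    show IsClosedImmersion (e ≫ (pullbackSpecIso Γ(X, ⊤) Γ(Y, ⊤) A').hom ≫ Spec.map (CommRingCat.ofHom ρ))
    infer_instance
  · show (e ≫ (pullbackSpecIso Γ(X, ⊤) Γ(Y, ⊤) A').hom ≫ Spec.map (CommRingCat.ofHom ρ)) ≫
      Spec.map (CommRingCat.ofHom (algebraMap A' C')) = _
    rw [Category.assoc, Category.assoc, ← Spec.map_comp, ← CommRingCat.ofHom_comp, hρalg,
      pullbackSpecIso_hom_snd, he]
  · refine ⟨N, fun _ => Spec (.of A'), fun j => Spec.map (CommRingCat.ofHom (ev j).toRingHom),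
      fun j => ?_, fun j => ?_, ?_⟩
    · refine IsClosedImmersion.spec_of_surjective _ (fun a => ⟨algebraMap A' C' a, ?_⟩)
      exact (ev j).commutes a
    · have : Spec.map (CommRingCat.ofHom (ev j).toRingHom) ≫ c = 𝟙 _ := by
        show Spec.map (CommRingCat.ofHom (ev j).toRingHom) ≫
          Spec.map (CommRingCat.ofHom (algebraMap A' C')) = 𝟙 _
        rw [← Spec.map_comp, ← CommRingCat.ofHom_comp]
        have : (ev j).toRingHom.comp (algebraMap A' C') = RingHom.id A' := by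
          ext a
          exact (ev j).commutes a
        rw [this]
        exact Spec.map_id _
      rw [this]
      infer_instance
    · rw [Set.eq_univ_iff_forall]
      intro z
      obtain ⟨j, hj⟩ := hcov z.asIdeal z.isPrime
      refine Set.mem_iUnion.mpr ⟨j, ?_⟩
      have hsurj : Function.Surjective (ev j).toRingHom := fun a => ⟨algebraMap A' C' a,
        (ev j).commutes a⟩
      have := range_comap_of_surjective _ (ev j).toRingHom hsurj
      show z ∈ Set.range (PrimeSpectrum.comap (ev j).toRingHom)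
      rw [this]
      exact hj

end Groth.Agent.Lib.T2H6.SplitCover
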