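import Mathlib
import Groth.Prelude.Def_HilbD
import Groth.Agent.Lib.T2H6SplitCoverC
import Groth.Agent.Lib.T2H6HilbRepH1
import Groth.Agent.Lib.T2H6HilbRepH2

/-!
# The universal point over the chart algebra (helper6)
-/

set_option autoImplicit false
universe u
open CategoryTheory CategoryTheory.Limits AlgebraicGeometry Opposite

namespace Groth.Agent.Lib.T2H6.HilbRep

section Transfer

variable {R N R' N' : Type u} [CommRing R] [CommRing N] [CommRing R'] [CommRing N'] {d : ℕ}
  (ρ : R →+* N) (n : Fin d → N) (ρ' : R' →+* N') (n' : Fin d → N') (eR : R →+* R') (eN : N →+* N')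

theorem Alg.map_sum_eq (hcomm : eN.comp ρ = ρ'.comp eR) (hn : ∀ i, eN (n i) = n' i)
    (c : Fin d → R) : eN (∑ i, ρ (c i) * n i) = ∑ i, ρ' (eR (c i)) * n' i := by
  rw [map_sum]
  refine Finset.sum_congr rfl (fun i _ => ?_)
  rw [map_mul, hn]
  congr 1
  exact congrArg (fun m : R →+* N' => m (c i)) hcomm

/-- transfer of bases along isomorphisms. -/
theorem Alg.isBasisHom_of_comm (hR : Function.Bijective eR) (hN : Function.Bijective eN)
    (hcomm : eN.comp ρ = ρ'.comp eR) (hn : ∀ i, eN (n i) = n' i) (h : Alg.IsBasisHom ρ n) :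
    Alg.IsBasisHom ρ' n' := by
  unfold Alg.IsBasisHom at h ⊢
  have hE : Function.Bijective (fun c : Fin d → R => fun i => eR (c i)) := by
    constructor
    · intro c c' hcc
      funext i
      exact hR.1 (congrFun hcc i)
    · intro c'
      choose c hc using fun i => hR.2 (c' i)
      exact ⟨c, funext hc⟩
  rw [← Function.Bijective.of_comp_iff _ hE]
  have : (fun c : Fin d → R' => ∑ i, ρ' (c i) * n' i) ∘ (fun c : Fin d → R => fun i => eR (c i)) =
      eN ∘ (fun c : Fin d → R => ∑ i, ρ (c i) * n i) := by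
    funext c
    exact (Alg.map_sum_eq ρ n ρ' n' eR eN hcomm hn c).symm
  rw [this]
  exact hN.comp h

/-- transfer of coordinates. -/
theorem Alg.coord_of_comm (hcomm : eN.comp ρ = ρ'.comp eR) (hn : ∀ i, eN (n i) = n' i)
    (h : Alg.IsBasisHom ρ n) (h' : Alg.IsBasisHom ρ' n') (y : N) :
    Alg.coord h' (eN y) = fun i => eR (Alg.coord h y i) := by
  apply Alg.coord_unique
  rw [← Alg.map_sum_eq ρ n ρ' n' eR eN hcomm hn, Alg.coord_spec]

theorem Alg.coord_congr {ρ₁ ρ₂ : R →+* N} {n₁ n₂ : Fin d → N} (hρ : ρ₁ = ρ₂) (hn : n₁ = n₂)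
    (h₁ : Alg.IsBasisHom ρ₁ n₁) (h₂ : Alg.IsBasisHom ρ₂ n₂) (y : N) :
    Alg.coord h₁ y = Alg.coord h₂ y := by
  subst hρ hn
  rfl

/-- coordinates of a linear combination. -/
theorem Alg.coord_sum {ρ : R →+* N} {n : Fin d → N} (h : Alg.IsBasisHom ρ n) {m : ℕ}
    (r : Fin m → R) (y : Fin m → N) :
    Alg.coord h (∑ k, ρ (r k) * y k) = fun i => ∑ k, r k * Alg.coord h (y k) i := by
  apply Alg.coord_unique
  simp only [map_sum, map_mul, Finset.sum_mul]
  rw [Finset.sum_comm]
  refine Finset.sum_congr rfl (fun k _ => ?_)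
  conv_rhs => rw [← Alg.coord_spec h (y k), Finset.mul_sum]
  exact Finset.sum_congr rfl (fun i _ => by ring)

end Transfer

section General

/-- morphisms to an affine scheme with prescribed map on global sections. -/
theorem exists_hom_appTop_eq {W S : Scheme.{u}} [IsAffine S] (g : Γ(S, ⊤) ⟶ Γ(W, ⊤)) :
    ∃ c : W ⟶ S, c.appTop = g := by
  refine ⟨W.toSpecΓ ≫ Spec.map g ≫ S.isoSpec.inv, ?_⟩
  have h1 : (W.toSpecΓ ≫ Spec.map g ≫ S.isoSpec.inv) ≫ S.toSpecΓ = W.toSpecΓ ≫ Spec.map g := by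
    rw [Category.assoc, Category.assoc, Scheme.isoSpec_inv_toSpecΓ, Category.comp_id]
  have h2 : S.toSpecΓ.appTop ≫ (W.toSpecΓ ≫ Spec.map g ≫ S.isoSpec.inv).appTop =
      (Spec.map g).appTop ≫ W.toSpecΓ.appTop := by
    rw [← Scheme.Hom.comp_appTop, ← Scheme.Hom.comp_appTop, h1]
  rw [Scheme.toSpecΓ_appTop, Scheme.toSpecΓ_appTop, Scheme.ΓSpecIso_naturality] at h2
  exact (cancel_epi _).1 h2

variable {X S : Scheme.{u}} [IsAffine X] [IsAffine S] (f : X ⟶ S)

/-- a criterion for `Z ⟶ X ×_S W` to be a closed immersion. -/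
theorem isClosedImmersion_lift {W Z : Scheme.{u}} [IsAffine W] [IsAffine Z] (t : W ⟶ S) (j : Z ⟶ X)
    (π : Z ⟶ W) (hc : j ≫ f = π ≫ t)
    (h : ∀ y : Γ(Z, ⊤), y ∈ Subring.closure (Set.range j.appTop.hom ∪ Set.range π.appTop.hom)) :
    IsClosedImmersion (pullback.lift j π hc) := by
  apply IsClosedImmersion.of_surjective_of_isAffine
  intro y
  have hle : Subring.closure (Set.range j.appTop.hom ∪ Set.range π.appTop.hom) ≤
      (pullback.lift j π hc).appTop.hom.range := by
    rw [Subring.closure_le]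
    rintro _ (⟨x, rfl⟩ | ⟨x, rfl⟩)
    · refine ⟨(pullback.fst f t).appTop.hom x, ?_⟩
      have : (pullback.fst f t).appTop ≫ (pullback.lift j π hc).appTop = j.appTop := by
        rw [← Scheme.Hom.comp_appTop, pullback.lift_fst]
      exact congrArg (fun m => m.hom x) this
    · refine ⟨(pullback.snd f t).appTop.hom x, ?_⟩
      have : (pullback.snd f t).appTop ≫ (pullback.lift j π hc).appTop = π.appTop := by
        rw [← Scheme.Hom.comp_appTop, pullback.lift_snd]
      exact congrArg (fun m => m.hom x) this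
  obtain ⟨x, hx⟩ := hle (h y)
  exact ⟨x, hx⟩

end General

/-- `Spec` of a ring map with a basis of `d` elements is finite locally free of degree `d`. -/
theorem isFinLocFreeOfDeg_SpecMap {R N : CommRingCat.{u}} (ρ : R ⟶ N) {d : ℕ} (n : Fin d → N)
    (h : Alg.IsBasisHom ρ.hom n) : Mor2.IsFinLocFreeOfDeg d (Spec.map ρ) := by
  letI := ρ.hom.toAlgebra
  have hb : Function.Bijective (Fintype.linearCombination R n) := by
    have : (fun c : Fin d → R => ∑ i, ρ.hom (c i) * n i) = Fintype.linearCombination R n := by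
      funext c
      exact (Alg.linearCombination_eq ρ.hom n c).symm
    rw [← this]
    exact h
  let e : (Fin d → R) ≃ₗ[R] N := LinearEquiv.ofBijective _ hb
  let bs : Module.Basis (Fin d) R N := Module.Basis.ofEquivFun e.symm
  haveI : Module.Free R N := Module.Free.of_basis bs
  haveI : Module.Finite R N := Module.Finite.of_basis bs
  have hρ : ρ = CommRingCat.ofHom (algebraMap R N) := rfl
  rw [hρ]
  refine ⟨Groth.Agent.Lib.T2H6.SplitCover.isFinLocFree_SpecMap_algebraMap R N, ?_⟩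
  intro y
  haveI : Nontrivial R := PrimeSpectrum.nontrivial y
  rw [Scheme.Hom.finrank_SpecMap_algebraMap R N y, Module.rankAtStalk_eq_finrank_of_free,
    Module.finrank_eq_card_basis bs]
  simp only [Fintype.card_fin]
  rfl

section Univ

variable {X S : Scheme.{u}} [IsAffine X] [IsAffine S] (f : X ⟶ S) {d : ℕ} (b : Fin d → Γ(X, ⊤))

/-- the chart scheme. -/
noncomputable abbrev Hb : Scheme.{u} := Spec (ChartC.Rb f.appTop b)

/-- the universal point over the chart scheme. -/
theorem exists_univ : ∃ (ξ : Pt f d (Hb f b)) (hξ : HasBasis b ξ),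
    ChartC.τU f.appTop b ≫ (Scheme.ΓSpecIso (ChartC.Rb f.appTop b)).inv = ξ.t.appTop ∧
    ∀ x i, (Scheme.ΓSpecIso (ChartC.Rb f.appTop b)).inv.hom (ChartC.φU f.appTop b x i) =
      Alg.coord hξ (ξ.j.appTop.hom x) i := by
  set Rb := ChartC.Rb f.appTop b with hRb
  set Nb := ChartC.Nb f.appTop b with hNb
  set eR := (Scheme.ΓSpecIso Rb).inv with heR
  set eN := (Scheme.ΓSpecIso Nb).inv with heN
  obtain ⟨t, ht⟩ := exists_hom_appTop_eq (W := Spec Rb) (S := S) (ChartC.τU f.appTop b ≫ eR)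
  obtain ⟨j, hj⟩ := exists_hom_appTop_eq (W := Spec Nb) (S := X) (ChartC.βU f.appTop b ≫ eN)
  set π : Spec Nb ⟶ Spec Rb := Spec.map (ChartC.ρU f.appTop b) with hπdef
  have hπ : eR ≫ π.appTop = ChartC.ρU f.appTop b ≫ eN :=
    (Scheme.ΓSpecIso_inv_naturality _).symm
  have hc : j ≫ f = π ≫ t := by
    apply ext_of_isAffine
    rw [Scheme.Hom.comp_appTop, Scheme.Hom.comp_appTop, hj, ht, Category.assoc, hπ,
      ← Category.assoc, ← Category.assoc, ChartC.comm]
  have hπ' : ∀ r : Rb, π.appTop.hom (eR.hom r) = eN.hom ((ChartC.ρU f.appTop b).hom r) :=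
    fun r => congrArg (fun m => m.hom r) hπ
  have hj' : ∀ x : Γ(X, ⊤), j.appTop.hom x = eN.hom ((ChartC.βU f.appTop b).hom x) :=
    fun x => congrArg (fun m => m.hom x) hj
  haveI : IsClosedImmersion (pullback.lift j π hc) := by
    apply isClosedImmersion_lift
    intro y
    have hy : y = eN.hom ((Scheme.ΓSpecIso Nb).hom.hom y) := by
      have := (Scheme.ΓSpecIso Nb).hom_inv_id
      exact (congrArg (fun m => m.hom y) this).symm
    rw [hy]
    have hn : (Scheme.ΓSpecIso Nb).hom.hom y ∈ Subring.closure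
        (Set.range (ChartC.ρU f.appTop b).hom ∪ Set.range (ChartC.βU f.appTop b).hom) := by
      rw [ChartC.closure_eq_top]
      exact Subring.mem_top _
    have hle : Subring.closure
        (Set.range (ChartC.ρU f.appTop b).hom ∪ Set.range (ChartC.βU f.appTop b).hom) ≤
        (Subring.closure (Set.range j.appTop.hom ∪ Set.range π.appTop.hom)).comap eN.hom := by
      rw [Subring.closure_le]
      rintro _ (⟨r, rfl⟩ | ⟨x, rfl⟩)
      · apply Subring.subset_closure
        exact Or.inr ⟨eR.hom r, hπ' r⟩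
      · apply Subring.subset_closure
        exact Or.inl ⟨x, hj' x⟩
    exact hle hn
  have hfl : Mor2.IsFinLocFreeOfDeg d π :=
    isFinLocFreeOfDeg_SpecMap _ _ (ChartC.isBasisHom f.appTop b)
  obtain ⟨w, e, hwt, hwπ, hwj⟩ := exists_pt_of_closedImmersion (f := f) t j π hc hfl
  have hwπ2 : w.π.appTop = π.appTop ≫ e.inv.appTop := by
    rw [← Scheme.Hom.comp_appTop, ← hwπ, Iso.inv_hom_id_assoc]
  have hwj2 : w.j.appTop = j.appTop ≫ e.inv.appTop := by
    rw [← Scheme.Hom.comp_appTop, ← hwj, Iso.inv_hom_id_assoc]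
  haveI : IsIso eN := by rw [heN]; infer_instance
  haveI : IsIso eR := by rw [heR]; infer_instance
  haveI : IsIso e.inv.appTop :=
    ⟨e.hom.appTop, by rw [← Scheme.Hom.comp_appTop, e.hom_inv_id]; rfl,
      by rw [← Scheme.Hom.comp_appTop, e.inv_hom_id]; rfl⟩
  have hbij : Function.Bijective (eN ≫ e.inv.appTop).hom :=
    ConcreteCategory.bijective_of_isIso (eN ≫ e.inv.appTop)
  have hbijR : Function.Bijective eR.hom := ConcreteCategory.bijective_of_isIso eR
  have hcomm : (eN ≫ e.inv.appTop).hom.comp (ChartC.ρU f.appTop b).hom =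
      w.π.appTop.hom.comp eR.hom := by
    ext r
    simp only [RingHom.comp_apply, CommRingCat.hom_comp]
    rw [hwπ2]
    simp only [CommRingCat.hom_comp, RingHom.comp_apply]
    rw [hπ']
  have hn : ∀ x, (eN ≫ e.inv.appTop).hom ((ChartC.βU f.appTop b).hom x) = w.j.appTop.hom x := by
    intro x
    rw [hwj2]
    simp only [CommRingCat.hom_comp, RingHom.comp_apply]
    rw [hj']
  have hξ : HasBasis b w :=
    Alg.isBasisHom_of_comm _ _ _ _ eR.hom (eN ≫ e.inv.appTop).hom hbijR hbij hcomm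
      (fun i => hn (b i)) (ChartC.isBasisHom f.appTop b)
  refine ⟨w, hξ, ?_, ?_⟩
  · rw [hwt, ht]
  · intro x i
    have h1 := Alg.coord_of_comm _ _ _ _ eR.hom (eN ≫ e.inv.appTop).hom hcomm
      (fun i => hn (b i)) (ChartC.isBasisHom f.appTop b) hξ ((ChartC.βU f.appTop b).hom x)
    rw [hn, ChartC.coord_eq] at h1
    exact (congrFun h1 i).symm

end Univ

end Groth.Agent.Lib.T2H6.HilbRep
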