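import Mathlib
import Groth.Prelude.Def_HilbD
import Groth.Agent.Lib.T2H6HilbRepC
import Groth.Agent.Lib.T2H6HilbRepD
import Groth.Agent.Lib.T2H6HilbRepH3

/-!
# Representability of the Hilbert functor of points of an affine morphism of affine schemes
(helper6)
-/

set_option autoImplicit false
universe u
open CategoryTheory CategoryTheory.Limits AlgebraicGeometry Opposite

namespace Groth.Agent.Lib.T2H6.HilbRep

variable {X S : Scheme.{u}} {f : X ⟶ S} {d : ℕ} (b : Fin d → Γ(X, ⊤))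

/-- coordinates are compatible with base change. -/
theorem coord_pull {W W' : Scheme.{u}} [IsAffine W] [IsAffine W'] (w : Pt f d W) (g : W' ⟶ W)
    (hw : HasBasis b w) (hw' : HasBasis b (w.pull g)) (x : Γ(X, ⊤)) :
    Alg.coord hw' ((w.pull g).j.appTop.hom x) =
      fun i => g.appTop.hom (Alg.coord hw (w.j.appTop.hom x) i) := by
  obtain ⟨ν, hpo, hν⟩ := w.isPushout_appTop_pull g
  have hcomm : ν.hom.comp w.π.appTop.hom = (w.pull g).π.appTop.hom.comp g.appTop.hom := by
    have := hpo.w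
    ext r
    exact congrArg (fun m => m.hom r) this
  have hn : ∀ x, ν.hom (w.j.appTop.hom x) = (w.pull g).j.appTop.hom x := by
    intro x
    exact congrArg (fun m => m.hom x) hν
  have h1 := Alg.coord_of_comm w.π.appTop.hom (w.nb b) (w.pull g).π.appTop.hom ((w.pull g).nb b)
    g.appTop.hom ν.hom hcomm (fun i => hn (b i)) hw hw' (w.j.appTop.hom x)
  rw [hn] at h1
  exact h1

theorem coord_eq_of_eq {W : Scheme.{u}} (w w' : Pt f d W) (h : w = w') (hw : HasBasis b w)
    (hw' : HasBasis b w') (x : Γ(X, ⊤)) :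
    Alg.coord hw (w.j.appTop.hom x) = Alg.coord hw' (w'.j.appTop.hom x) := by
  subst h
  rfl

/-- a point with basis `b` is determined by its coordinate functions. -/
theorem Pt.eq_of_coord_eq [IsAffine X] [IsAffine S] {W : Scheme.{u}} [IsAffine W]
    (w w' : Pt f d W) (ht : w.t = w'.t) (hw : HasBasis b w) (hw' : HasBasis b w')
    (hc : ∀ x, Alg.coord hw (w.j.appTop.hom x) = Alg.coord hw' (w'.j.appTop.hom x)) : w = w' := by
  obtain ⟨t, I, h⟩ := w
  obtain ⟨t', I', h'⟩ := w'
  dsimp only at ht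
  subst ht
  have e1 := Pt.I_eq (⟨t, I, h⟩ : Pt f d W)
  have e2 := Pt.I_eq (⟨t, I', h'⟩ : Pt f d W)
  dsimp only at e1 e2
  have hspan := Alg.span_range_eq_top_of_isPushout
    (Pt.isPushout_appTop_XT (⟨t, I, h⟩ : Pt f d W))
  dsimp only at hspan
  have hk : RingHom.ker I.subschemeι.appTop.hom = RingHom.ker I'.subschemeι.appTop.hom :=
    Alg.ker_eq_of_coord_eq (pullback.snd f t).appTop.hom (pullback.fst f t).appTop.hom
      I.subschemeι.appTop.hom I'.subschemeι.appTop.hom b hspan hw hw' hc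
  have hI : I = I' := by rw [e1, e2, hk]
  subst hI
  rfl

theorem Pt.pull_t {T T' : Scheme.{u}} (p : Pt f d T) (g : T' ⟶ T) : (p.pull g).t = g ≫ p.t := rfl

section Univ

variable [IsAffine X] [IsAffine S] (f) (ξ : Pt f d (Hb f b)) (hξ : HasBasis b ξ)
  (h1 : ChartC.τU f.appTop b ≫ (Scheme.ΓSpecIso (ChartC.Rb f.appTop b)).inv = ξ.t.appTop)
  (h2 : ∀ x i, (Scheme.ΓSpecIso (ChartC.Rb f.appTop b)).inv.hom (ChartC.φU f.appTop b x i) =
      Alg.coord hξ (ξ.j.appTop.hom x) i)

include h1 h2 in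
/-- morphisms from affine schemes to the chart are determined by the pulled back point. -/
theorem mono_univ (V : Scheme.{u}) [IsAffine V] (e e' : V ⟶ Hb f b)
    (he : ξ.pull e = ξ.pull e') : e = e' := by
  have key : (Scheme.ΓSpecIso (ChartC.Rb f.appTop b)).inv ≫ e.appTop =
      (Scheme.ΓSpecIso (ChartC.Rb f.appTop b)).inv ≫ e'.appTop := by
    refine ChartC.lift_unique f.appTop b _ _ ?_ ?_
    · have e1 : ChartC.τU f.appTop b ≫ (Scheme.ΓSpecIso (ChartC.Rb f.appTop b)).inv ≫ e.appTop =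
          (e ≫ ξ.t).appTop := by
        rw [← Category.assoc, h1, ← Scheme.Hom.comp_appTop]
      have e2 : ChartC.τU f.appTop b ≫ (Scheme.ΓSpecIso (ChartC.Rb f.appTop b)).inv ≫ e'.appTop =
          (e' ≫ ξ.t).appTop := by
        rw [← Category.assoc, h1, ← Scheme.Hom.comp_appTop]
      rw [e1, e2, ← Pt.pull_t, ← Pt.pull_t, he]
    · intro x i
      have hp := hasBasis_pull b ξ hξ e
      have hp' := hasBasis_pull b ξ hξ e'
      have c1 := congrFun (coord_pull b ξ e hξ hp x) i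
      have c2 := congrFun (coord_pull b ξ e' hξ hp' x) i
      have c3 := congrFun (coord_eq_of_eq b _ _ he hp hp' x) i
      rw [CommRingCat.hom_comp, CommRingCat.hom_comp, RingHom.comp_apply, RingHom.comp_apply,
        h2, ← c1, ← c2, c3]
  apply ext_of_isAffine
  exact (cancel_epi (Scheme.ΓSpecIso (ChartC.Rb f.appTop b)).inv).1 key

include h1 h2 in
/-- points with basis `b` over affine schemes are classified by the chart. -/
theorem exists_hom_univ {W : Scheme.{u}} [IsAffine W] (w : Pt f d W) (hw : HasBasis b w) :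
    ∃ c : W ⟶ Hb f b, ξ.pull c = w := by
  set ψ : Γ(X, ⊤) → Fin d → Γ(W, ⊤) := fun x i => Alg.coord hw (w.j.appTop.hom x) i with hψ
  have hjf : ∀ a, w.j.appTop.hom (f.appTop.hom a) = w.π.appTop.hom (w.t.appTop.hom a) := by
    intro a
    have := congrArg Scheme.Hom.appTop w.j_comp
    rw [Scheme.Hom.comp_appTop, Scheme.Hom.comp_appTop] at this
    exact congrArg (fun m => m.hom a) this
  have hnb : ∀ k, w.nb b k = w.j.appTop.hom (b k) := fun k => rfl
  have hadd : ∀ x y i, ψ (x + y) i = ψ x i + ψ y i := by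
    intro x y i
    simp only [hψ]
    rw [map_add, Alg.coord_add]
    rfl
  have hsmul : ∀ a x i, ψ (f.appTop.hom a * x) i = w.t.appTop.hom a * ψ x i := by
    intro a x i
    simp only [hψ]
    rw [map_mul, hjf, Alg.coord_mul]
  have hbasis : ∀ j i, ψ (b j) i = if i = j then 1 else 0 := by
    intro j i
    simp only [hψ]
    rw [← hnb]
    exact congrFun (Alg.coord_basis hw j) i
  have hideal : ∀ x y i, ψ (x * y) i = ∑ j, ψ y j * ψ (x * b j) i := by
    intro x y i
    simp only [hψ]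
    have e1 : w.j.appTop.hom (x * y) = ∑ k, w.π.appTop.hom (Alg.coord hw (w.j.appTop.hom y) k) *
        w.j.appTop.hom (x * b k) := by
      rw [map_mul]
      conv_lhs => rw [← Alg.coord_spec hw (w.j.appTop.hom y), Finset.mul_sum]
      refine Finset.sum_congr rfl (fun k _ => ?_)
      rw [map_mul, hnb]
      ring
    rw [e1, Alg.coord_sum hw]
  obtain ⟨ρ, hρ1, hρ2⟩ := ChartC.exists_lift f.appTop b w.t.appTop ψ hadd hsmul hbasis hideal
  obtain ⟨c, hc⟩ := exists_hom_appTop_eq (W := W) (S := Hb f b)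
    ((Scheme.ΓSpecIso (ChartC.Rb f.appTop b)).hom ≫ ρ)
  have hp := hasBasis_pull b ξ hξ c
  have ht : (ξ.pull c).t = w.t := by
    rw [Pt.pull_t]
    apply ext_of_isAffine
    rw [Scheme.Hom.comp_appTop, ← h1, hc, Category.assoc, Iso.inv_hom_id_assoc, hρ1]
  refine ⟨c, Pt.eq_of_coord_eq b _ _ ht hp hw ?_⟩
  intro x
  rw [coord_pull b ξ c hξ hp x]
  funext i
  have h3 : (Scheme.ΓSpecIso (ChartC.Rb f.appTop b)).hom.hom
      ((Scheme.ΓSpecIso (ChartC.Rb f.appTop b)).inv.hom (ChartC.φU f.appTop b x i)) =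
      ChartC.φU f.appTop b x i :=
    congrArg (fun m => m.hom (ChartC.φU f.appTop b x i))
      (Scheme.ΓSpecIso (ChartC.Rb f.appTop b)).inv_hom_id
  rw [← h2, hc, CommRingCat.hom_comp, RingHom.comp_apply, h3, hρ2]

end Univ

/-- the chart for the basis `b`. -/
theorem exists_chart [IsAffine X] [IsAffine S] (f : X ⟶ S) (b : Fin d → Γ(X, ⊤)) :
    ∃ ξ : Pt f d (Hb f b), HasBasis b ξ ∧
      (∀ (V : Scheme.{u}) [IsAffine V] (e e' : V ⟶ Hb f b), ξ.pull e = ξ.pull e' → e = e') ∧
      (∀ (W : Scheme.{u}) [IsAffine W] (w : Pt f d W), HasBasis b w → ∃ c : W ⟶ Hb f b,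
        ξ.pull c = w) := by
  obtain ⟨ξ, hξ, h1, h2⟩ := exists_univ f b
  exact ⟨ξ, hξ, fun V _ e e' he => mono_univ f b ξ hξ h1 h2 V e e' he,
    fun W _ w hw => exists_hom_univ f b ξ hξ h1 h2 w hw⟩

/-- the basis locus as an open subset. -/
def basisOpen {T : Scheme.{u}} (z : Pt f d T) : T.Opens :=
  ⟨basisLocus b z, isOpen_basisLocus b z⟩

/-- **Representability of `Hilb^d` for a morphism of affine schemes.** -/
theorem representable_affine [IsAffine X] [IsAffine S] (f : X ⟶ S) (d : ℕ) :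
    HilbD.Representable f d := by
  choose ξ hξ hm hcl using fun b : Fin d → Γ(X, ⊤) => exists_chart f b
  have hmono : ∀ (b : Fin d → Γ(X, ⊤)) (V : Scheme.{u}) (e e' : V ⟶ Hb f b),
      (ξ b).pull e = (ξ b).pull e' → e = e' := fun b =>
    mono_of_affine (ξ b) (fun V _ e e' he => hm b V e e' he)
  have hopen : ∀ (b : Fin d → Γ(X, ⊤)) (T : Scheme.{u}) (z : Pt f d T),
      ∃ c : (basisOpen b z).toScheme ⟶ Hb f b,
        (ξ b).pull c = z.pull (basisOpen b z).ι := by
    intro b T z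
    refine exists_hom_of_affine (ξ b) (hmono b) z (basisOpen b z) ?_
    intro W _ j _ hr
    exact hcl b W (z.pull j) (hasBasis_pull_of_range_subset b z j hr)
  refine representable_of_charts (fun b => Hb f b) ξ hmono ?_ ?_
  · intro b T z
    obtain ⟨c, hc⟩ := hopen b T z
    refine ⟨basisOpen b z, c, hc, ?_⟩
    intro V a e he
    rintro _ ⟨v, rfl⟩
    change a v ∈ basisLocus b z
    rw [← mem_basisLocus_pull_iff, ← he, mem_basisLocus_pull_iff]
    exact mem_basisLocus_of_hasBasis b (ξ b) (hξ b) _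
  · intro T z x
    obtain ⟨b, hb⟩ := exists_mem_basisLocus z x
    obtain ⟨c, hc⟩ := hopen b T z
    exact ⟨b, basisOpen b z, c, hb, hc⟩

end Groth.Agent.Lib.T2H6.HilbRep
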