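import Mathlib
import Groth.Prelude.Def_HilbD
import Groth.Agent.Lib.T2H6HilbRepC
import Groth.Agent.Lib.T2H6HilbRepH4

/-!
# Universal points of the Hilbert functor of points (helper6)

Variants of `representable_of_charts` and `representable_affine` giving representability of the
absolute Hilbert functor `hilbFun f d`, and the universal point of a representing object.
-/

set_option autoImplicit false
universe u
open CategoryTheory CategoryTheory.Limits AlgebraicGeometry Opposite

namespace Groth.Agent.Lib.T2H6.HilbRep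

variable {X S : Scheme.{u}} {f : X ⟶ S} {d : ℕ}

/-- **Representability of `hilbFun` from charts.** -/
theorem isRepresentable_of_charts {ι : Type u} (H : ι → Scheme.{u}) (ξ : ∀ i, Pt f d (H i))
    (hmono : ∀ i (V : Scheme.{u}) (e e' : V ⟶ H i), (ξ i).pull e = (ξ i).pull e' → e = e')
    (hopen : ∀ i (T : Scheme.{u}) (z : Pt f d T), ∃ (U : T.Opens) (c : U.toScheme ⟶ H i),
      (ξ i).pull c = z.pull U.ι ∧
      ∀ (V : Scheme.{u}) (a : V ⟶ T) (e : V ⟶ H i), (ξ i).pull e = z.pull a → Set.range a ⊆ U)
    (hcov : ∀ (T : Scheme.{u}) (z : Pt f d T) (x : T),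
      ∃ (i : ι) (U : T.Opens) (c : U.toScheme ⟶ H i), x ∈ U ∧ (ξ i).pull c = z.pull U.ι) :
    (hilbFun f d).IsRepresentable := by
  let F : Sheaf Scheme.zariskiTopology.{u} (Type u) :=
    ⟨hilbFun f d, (isSheaf_iff_isSheaf_of_type _ _).2 (isSheaf_hilbFun f d)⟩
  let fi : ∀ i, yoneda.obj (H i) ⟶ F.1 := fun i => yonedaEquiv.symm (ξ i)
  have hf : ∀ i, IsOpenImmersion.presheaf (fi i) := fun i =>
    presheaf_isOpenImmersion (ξ i) (hmono i) (hopen i)
  have hη : ∀ i (W : Scheme.{u}) (e : W ⟶ H i), (fi i).app (op W) e = (ξ i).pull e := by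
    intro i W e
    change (yonedaEquiv.symm (ξ i) : yoneda.obj (H i) ⟶ hilbFun f d).app (op W) e = _
    rw [← map_yonedaEquiv, Equiv.apply_symm_apply]
    rfl
  haveI : Presheaf.IsLocallySurjective Scheme.zariskiTopology (Sigma.desc fi) := by
    constructor
    intro T (z : Pt f d T)
    choose i U c hxU hc using hcov T z
    let 𝒰 : T.OpenCover := {
      I₀ := T, X x := (U x), f x := (U x).ι,
      mem₀ := by
        rw [Scheme.presieve₀_mem_precoverage_iff]
        refine ⟨fun x ↦ ⟨x, by simpa using hxU x⟩, inferInstance⟩ }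
    rw [Scheme.mem_grothendieckTopology_iff]
    refine ⟨𝒰, ?_⟩
    rintro W g ⟨x⟩
    refine ⟨(Sigma.ι (fun i => yoneda.obj (H i)) (i x)).app (op (U x).toScheme) (c x), ?_⟩
    have h1 : (Sigma.ι (fun i => yoneda.obj (H i)) (i x)).app (op (U x).toScheme) ≫
        (Sigma.desc fi).app (op (U x).toScheme) = (fi (i x)).app (op (U x).toScheme) := by
      rw [← NatTrans.comp_app, Sigma.ι_desc]
    have h2 := congrArg (fun m => m (c x)) (congrArg (fun m => (ConcreteCategory.hom m : _ → _)) h1)
    refine Eq.trans h2 ?_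
    change (fi (i x)).app (op (U x).toScheme) (c x) = z.pull (U x).ι
    rw [hη, hc]
  exact Scheme.LocalRepresentability.isRepresentable hf

/-- **Representability of `hilbFun` for a morphism of affine schemes.** -/
theorem isRepresentable_affine [IsAffine X] [IsAffine S] (f : X ⟶ S) (d : ℕ) :
    (hilbFun f d).IsRepresentable := by
  choose ξ hξ hm hcl using fun b : Fin d → Γ(X, ⊤) => exists_chart f b
  have hmono : ∀ (b : Fin d → Γ(X, ⊤)) (V : Scheme.{u}) (e e' : V ⟶ Hb f b),
      (ξ b).pull e = (ξ b).pull e' → e = e' := fun b =>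
    mono_of_affine (ξ b) (fun V _ e e' he => hm b V e e' he)
  have hopen : ∀ (b : Fin d → Γ(X, ⊤)) (T : Scheme.{u}) (z : Pt f d T),
      ∃ c : (basisOpen b z).toScheme ⟶ Hb f b,
        (ξ b).pull c = z.pull (basisOpen b z).ι := by
    intro b T z
    refine exists_hom_of_affine (ξ b) (hmono b) z (basisOpen b z) ?_
    intro W _ j _ hr
    exact hcl b W (z.pull j) (hasBasis_pull_of_range_subset b z j hr)
  refine isRepresentable_of_charts (fun b => Hb f b) ξ hmono ?_ ?_
  · intro b T z
    obtain ⟨c, hc⟩ := hopen b T z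
    refine ⟨basisOpen b z, c, hc, ?_⟩
    intro V a e he
    rintro _ ⟨v, rfl⟩
    change a v ∈ basisLocus b z
    rw [← mem_basisLocus_pull_iff, ← he, mem_basisLocus_pull_iff]
    exact mem_basisLocus_of_hasBasis b (ξ b) (hξ b) _
  · intro T z x
    obtain ⟨b, hb⟩ := exists_mem_basisLocus z x
    obtain ⟨c, hc⟩ := hopen b T z
    exact ⟨b, basisOpen b z, c, hb, hc⟩

/-- the universal point of a representing object. -/
theorem exists_univ_pt (h : (hilbFun f d).IsRepresentable) :
    ∃ (H : Scheme.{u}) (η : Pt f d H), ∀ (W : Scheme.{u}) (w : Pt f d W),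
      ∃! c : W ⟶ H, η.pull c = w := by
  obtain ⟨H, ⟨r⟩⟩ := h.has_representation
  set ξ : Pt f d H := r.homEquiv (𝟙 H) with hξ
  have hr : ∀ {T : Scheme.{u}} (g : T ⟶ H), r.homEquiv g = ξ.pull g := by
    intro T g
    have := r.homEquiv_comp g (𝟙 H)
    rw [Category.comp_id] at this
    rw [this]
    rfl
  refine ⟨H, ξ, fun W w => ⟨r.homEquiv.symm w, ?_, ?_⟩⟩
  · change ξ.pull (r.homEquiv.symm w) = w
    rw [← hr, Equiv.apply_symm_apply]
  · intro c hc
    change ξ.pull c = w at hc
    rw [← hc, ← hr, Equiv.symm_apply_apply]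

/-- a universal point gives `HilbD.Representable`. -/
theorem representable_of_isRepresentable (h : (hilbFun f d).IsRepresentable) :
    HilbD.Representable f d :=
  representable_of_representableBy h.has_representation.choose_spec.some

end Groth.Agent.Lib.T2H6.HilbRep
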