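import Mathlib
import Groth.Prelude.Def_HilbD
import Groth.Agent.Lib.T2H6HilbRepG

/-!
# Comparing Hilbert functors of points along open immersions (helper6)

For a commutative square `iU ≫ f = fU ≫ iV` with `iU : U ⟶ X`, `iV : V ⟶ S` open immersions and
`f` separated, the relation `Corr` between points of `Hilb^d_{U/V}` and `Hilb^d_{X/S}`.
-/

set_option autoImplicit false
universe u
open CategoryTheory CategoryTheory.Limits AlgebraicGeometry Opposite

namespace Groth.Agent.Lib.T2H6.HilbRep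

variable {X S : Scheme.{u}} {f : X ⟶ S} {d : ℕ}

theorem Pt.pull_t' {T T' : Scheme.{u}} (p : Pt f d T) (g : T' ⟶ T) : (p.pull g).t = g ≫ p.t := rfl

/-- a point is determined by its closed subscheme up to isomorphism. -/
theorem Pt.eq_of_iso {W : Scheme.{u}} (w w' : Pt f d W) (ht : w.t = w'.t) (e : w.Z ≅ w'.Z)
    (hπ : e.hom ≫ w'.π = w.π) (hj : e.hom ≫ w'.j = w.j) : w = w' := by
  obtain ⟨t, I, h⟩ := w
  obtain ⟨t', I', h'⟩ := w'
  dsimp only at ht
  subst ht
  have h1 : I.subschemeι = e.hom ≫ I'.subschemeι := by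
    refine pullback.hom_ext (f := f) (g := t) ?_ ?_
    · rw [Category.assoc]
      exact hj.symm
    · rw [Category.assoc]
      exact hπ.symm
  have hI : I = I' := by
    rw [← Scheme.IdealSheafData.ker_subschemeι I, h1, Scheme.Hom.ker_comp_of_isIso,
      Scheme.IdealSheafData.ker_subschemeι]
  subst hI
  rfl

section Corr

variable {U V : Scheme.{u}} {fU : U ⟶ V} (iU : U ⟶ X) (iV : V ⟶ S)

/-- correspondence between points of `Hilb^d_{U/V}` and points of `Hilb^d_{X/S}`. -/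
def Corr {W : Scheme.{u}} (w : Pt fU d W) (z : Pt f d W) : Prop :=
  z.t = w.t ≫ iV ∧ ∃ e : w.Z ≅ z.Z, e.hom ≫ z.π = w.π ∧ e.hom ≫ z.j = w.j ≫ iU

variable {iU iV}

theorem Corr.range_t {W : Scheme.{u}} {w : Pt fU d W} {z : Pt f d W} (h : Corr iU iV w z) :
    Set.range z.t ⊆ Set.range iV := by
  rw [h.1]
  rintro _ ⟨y, rfl⟩
  exact ⟨w.t y, (Scheme.Hom.comp_apply _ _ _).symm⟩

theorem Corr.range_j {W : Scheme.{u}} {w : Pt fU d W} {z : Pt f d W} (h : Corr iU iV w z) :
    Set.range z.j ⊆ Set.range iU := by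
  obtain ⟨-, e, -, he⟩ := h
  have : z.j = e.inv ≫ w.j ≫ iU := by rw [← he, Iso.inv_hom_id_assoc]
  rw [this]
  rintro _ ⟨y, rfl⟩
  exact ⟨w.j (e.inv y), by simp only [Scheme.Hom.comp_apply]⟩

theorem Corr.inj [Mono iU] [Mono iV] {W : Scheme.{u}} {w w' : Pt fU d W} {z : Pt f d W}
    (h : Corr iU iV w z) (h' : Corr iU iV w' z) : w = w' := by
  obtain ⟨ht, e, he1, he2⟩ := h
  obtain ⟨ht', e', he1', he2'⟩ := h'
  refine Pt.eq_of_iso w w' ?_ (e ≪≫ e'.symm) ?_ ?_
  · rw [← cancel_mono iV, ← ht, ← ht']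
  · rw [Iso.trans_hom, Iso.symm_hom, Category.assoc, ← he1', Iso.inv_hom_id_assoc, he1]
  · rw [← cancel_mono iU, Iso.trans_hom, Iso.symm_hom, Category.assoc, Category.assoc, ← he2',
      Iso.inv_hom_id_assoc, he2]

theorem Corr.unique {W : Scheme.{u}} {w : Pt fU d W} {z z' : Pt f d W}
    (h : Corr iU iV w z) (h' : Corr iU iV w z') : z = z' := by
  obtain ⟨ht, e, he1, he2⟩ := h
  obtain ⟨ht', e', he1', he2'⟩ := h'
  refine Pt.eq_of_iso z z' ?_ (e.symm ≪≫ e') ?_ ?_
  · rw [ht, ht']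
  · rw [Iso.trans_hom, Iso.symm_hom, Category.assoc, he1', ← he1, Iso.inv_hom_id_assoc]
  · rw [Iso.trans_hom, Iso.symm_hom, Category.assoc, he2', ← he2, Iso.inv_hom_id_assoc]

theorem Corr.pull {W W' : Scheme.{u}} {w : Pt fU d W} {z : Pt f d W} (h : Corr iU iV w z)
    (g : W' ⟶ W) : Corr iU iV (w.pull g) (z.pull g) := by
  obtain ⟨ht, e, he1, he2⟩ := h
  refine ⟨?_, ?_⟩
  · rw [Pt.pull_t', Pt.pull_t', ht, Category.assoc]
  · obtain ⟨qw, hqw1, hqw2⟩ := w.exists_isPullback_pull g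
    obtain ⟨qz, hqz1, hqz2⟩ := z.exists_isPullback_pull g
    have hpb : IsPullback (qw ≫ e.hom) (w.pull g).π z.π g :=
      hqw1.of_iso (Iso.refl _) e (Iso.refl _) (Iso.refl _) (by simp) (by simp)
        (by simp [he1]) (by simp)
    refine ⟨hpb.isoIsPullback _ _ hqz1, ?_, ?_⟩
    · exact IsPullback.isoIsPullback_hom_snd _ _ hpb hqz1
    · have h3 := IsPullback.isoIsPullback_hom_fst _ _ hpb hqz1
      rw [← hqz2, ← Category.assoc, h3, Category.assoc, he2, ← Category.assoc, hqw2]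

/-- a morphism to a fibre product whose components are a finite morphism and a morphism which
becomes the structure map of a closed subscheme after composing with a monomorphism is a closed
immersion. -/
theorem isClosedImmersion_lift_of_finite {Y B W Z Z' : Scheme.{u}} (p : Y ⟶ B) [IsSeparated p]
    (t : W ⟶ B) (j : Z ⟶ Y) (π : Z ⟶ W) (hc : j ≫ p = π ≫ t) [IsFinite π]
    (ι : Z ⟶ Z') [Mono ι] (a : Z' ⟶ Y) (b : Z' ⟶ W)
    (hmono : ∀ {T : Scheme.{u}} (u v : T ⟶ Z), u ≫ j = v ≫ j → u ≫ π = v ≫ π → u = v) :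
    IsClosedImmersion (pullback.lift j π hc) := by
  rw [IsClosedImmersion.iff_isFinite_and_mono]
  constructor
  · haveI : IsFinite (pullback.lift j π hc ≫ pullback.snd p t) := by
      rw [pullback.lift_snd]
      infer_instance
    exact IsFinite.of_comp (pullback.lift j π hc) (pullback.snd p t)
  · constructor
    intro T u v huv
    apply hmono
    · have := congrArg (fun m => m ≫ pullback.fst p t) huv
      simpa only [Category.assoc, pullback.lift_fst] using this
    · have := congrArg (fun m => m ≫ pullback.snd p t) huv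
      simpa only [Category.assoc, pullback.lift_snd] using this

theorem Pt.hom_ext_Z {W T : Scheme.{u}} (w : Pt f d W) (u v : T ⟶ w.Z) (h1 : u ≫ w.j = v ≫ w.j)
    (h2 : u ≫ w.π = v ≫ w.π) : u = v := by
  rw [← cancel_mono w.I.subschemeι]
  refine pullback.hom_ext (f := f) (g := w.t) ?_ ?_
  · simpa only [Category.assoc] using h1
  · simpa only [Category.assoc] using h2

/-- every point of `Hilb^d_{U/V}` gives a point of `Hilb^d_{X/S}`. -/
theorem exists_corr [Mono iU] [IsSeparated f] (comm : iU ≫ f = fU ≫ iV) {W : Scheme.{u}}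
    (w : Pt fU d W) : ∃ z : Pt f d W, Corr iU iV w z := by
  have hc : (w.j ≫ iU) ≫ f = w.π ≫ (w.t ≫ iV) := by
    rw [Category.assoc, comm, ← Category.assoc, w.j_comp, Category.assoc]
  haveI : IsFinite w.π := w.h.1.1
  haveI : IsClosedImmersion (pullback.lift (w.j ≫ iU) w.π hc) := by
    refine isClosedImmersion_lift_of_finite f (w.t ≫ iV) (w.j ≫ iU) w.π hc (𝟙 _) (w.j ≫ iU) w.π ?_
    intro T u v h1 h2
    apply w.hom_ext_Z u v _ h2
    rw [← cancel_mono iU]
    simpa only [Category.assoc] using h1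
  obtain ⟨z, e, h1, h2, h3⟩ := exists_pt_of_closedImmersion (f := f) (w.t ≫ iV) (w.j ≫ iU) w.π hc
    w.h
  exact ⟨z, h1, e, h2, h3⟩

/-- a point of `Hilb^d_{X/S}` lying in `U` over `V` comes from a point of `Hilb^d_{U/V}`. -/
theorem exists_corr_of_range [IsOpenImmersion iU] [IsOpenImmersion iV] [IsSeparated f]
    (comm : iU ≫ f = fU ≫ iV) {W : Scheme.{u}} (z : Pt f d W)
    (ht : Set.range z.t ⊆ Set.range iV) (hj : Set.range z.j ⊆ Set.range iU) :
    ∃ w : Pt fU d W, Corr iU iV w z := by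
  set t₀ := IsOpenImmersion.lift iV z.t ht with ht₀
  set j₀ := IsOpenImmersion.lift iU z.j hj with hj₀
  have ht₁ : t₀ ≫ iV = z.t := IsOpenImmersion.lift_fac _ _ _
  have hj₁ : j₀ ≫ iU = z.j := IsOpenImmersion.lift_fac _ _ _
  have hc : j₀ ≫ fU = z.π ≫ t₀ := by
    have h0 : (j₀ ≫ fU) ≫ iV = (z.π ≫ t₀) ≫ iV :=
      calc (j₀ ≫ fU) ≫ iV = j₀ ≫ (iU ≫ f) := by rw [Category.assoc, comm]
        _ = z.j ≫ f := by rw [← Category.assoc, hj₁]
        _ = z.π ≫ z.t := z.j_comp
        _ = (z.π ≫ t₀) ≫ iV := by rw [Category.assoc z.π t₀ iV, ht₁]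
    exact (cancel_mono iV).1 h0
  haveI : IsFinite z.π := z.h.1.1
  haveI : IsSeparated fU := by
    haveI : IsSeparated (fU ≫ iV) := by
      rw [← comm]
      infer_instance
    exact IsSeparated.of_comp fU iV
  haveI : IsClosedImmersion (pullback.lift j₀ z.π hc) := by
    refine isClosedImmersion_lift_of_finite fU t₀ j₀ z.π hc (𝟙 _) j₀ z.π ?_
    intro T u v h1 h2
    apply z.hom_ext_Z u v _ h2
    rw [← hj₁, ← Category.assoc, h1, Category.assoc]
  obtain ⟨w, e, h1, h2, h3⟩ := exists_pt_of_closedImmersion (f := fU) t₀ j₀ z.π hc z.h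
  refine ⟨w, ?_, e.symm, ?_, ?_⟩
  · rw [h1, ht₁]
  · rw [Iso.symm_hom, ← h2, Iso.inv_hom_id_assoc]
  · rw [Iso.symm_hom, ← hj₁, ← h3, Category.assoc, Iso.inv_hom_id_assoc]

end Corr

end Groth.Agent.Lib.T2H6.HilbRep
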