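import Mathlib
import Groth.Prelude.Def_HilbD
import Groth.Agent.Lib.T2H6HilbRepG

/-!
# Counting points in the fibres of a finite locally free morphism (helper6)

A finite locally free morphism of degree `d` has at most `d` points in each fibre.
-/

set_option autoImplicit false
universe u
open CategoryTheory CategoryTheory.Limits AlgebraicGeometry Opposite

namespace Groth.Agent.Lib.T2H6.HilbRep.Cnt

theorem card_primeSpectrum_le_finrank (K A : Type*) [Field K] [CommRing A] [Algebra K A]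
    [Module.Finite K A] :
    Finite (PrimeSpectrum A) ∧ Nat.card (PrimeSpectrum A) ≤ Module.finrank K A := by
  haveI : IsArtinianRing A := IsArtinianRing.of_finite K A
  haveI : Finite (PrimeSpectrum A) := inferInstance
  refine ⟨inferInstance, ?_⟩
  classical
  haveI := Fintype.ofFinite (PrimeSpectrum A)
  have hmax : ∀ q : PrimeSpectrum A, q.asIdeal.IsMaximal := fun q =>
    IsArtinianRing.isMaximal_of_isPrime q.asIdeal
  have hex : ∀ q : PrimeSpectrum A, ∃ e : A, e ∉ q.asIdeal ∧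
      ∀ q' : PrimeSpectrum A, q' ≠ q → e ∈ q'.asIdeal := by
    intro q
    by_contra hcon
    push Not at hcon
    have hJ : (Finset.univ.erase q).inf (fun q' : PrimeSpectrum A => q'.asIdeal) ≤ q.asIdeal := by
      intro e he
      by_contra heq
      obtain ⟨q', hq', heq'⟩ := hcon e heq
      apply heq'
      have := Finset.inf_le (f := fun q' : PrimeSpectrum A => q'.asIdeal)
        (Finset.mem_erase.2 ⟨hq', Finset.mem_univ q'⟩)
      exact this he
    rw [Ideal.IsPrime.inf_le' q.isPrime] at hJ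
    obtain ⟨q', hq', hle⟩ := hJ
    have : q'.asIdeal = q.asIdeal := (hmax q').eq_of_le q.isPrime.ne_top hle
    exact (Finset.mem_erase.1 hq').1 (PrimeSpectrum.ext this)
  choose e he1 he2 using hex
  have hli : LinearIndependent K e := by
    rw [linearIndependent_iff']
    intro s g hg q hq
    by_contra hne
    apply he1 q
    have h1 : g q • e q ∈ q.asIdeal := by
      have h2 : g q • e q = - ∑ q' ∈ s.erase q, g q' • e q' := by
        rw [eq_neg_iff_add_eq_zero, Finset.add_sum_erase s (fun q' => g q' • e q') hq]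
        exact hg
      rw [h2]
      rw [neg_mem_iff]
      apply Ideal.sum_mem
      intro q' hq'
      rw [Algebra.smul_def]
      exact Ideal.mul_mem_left _ _ (he2 q' q (Ne.symm (Finset.mem_erase.1 hq').1))
    have h3 : e q = (g q)⁻¹ • (g q • e q) := by rw [smul_smul, inv_mul_cancel₀ hne, one_smul]
    rw [h3, Algebra.smul_def]
    exact Ideal.mul_mem_left _ _ h1
  have := hli.fintype_card_le_finrank
  rwa [Nat.card_eq_fintype_card]

theorem ncard_fiber_le {R N : Type u} [CommRing R] [CommRing N] [Algebra R N] [Module.Finite R N]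
    [Module.Flat R N] (p : PrimeSpectrum R) :
    (PrimeSpectrum.comap (algebraMap R N) ⁻¹' {p}).Finite ∧
      (PrimeSpectrum.comap (algebraMap R N) ⁻¹' {p}).ncard ≤ Module.rankAtStalk N p := by
  obtain ⟨hfin, hcard⟩ := card_primeSpectrum_le_finrank p.asIdeal.ResidueField (p.asIdeal.Fiber N)
  have e := PrimeSpectrum.preimageEquivFiber R N p
  haveI : Finite (PrimeSpectrum.comap (algebraMap R N) ⁻¹' {p}) := Finite.of_equiv _ e.symm
  refine ⟨Set.toFinite _, ?_⟩
  rw [Module.rankAtStalk_eq, ← Nat.card_coe_set_eq, Nat.card_congr e]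
  exact hcard

theorem exists_preimage_of_isPullback {P X Y Z : Scheme.{u}} {fst : P ⟶ X} {snd : P ⟶ Y}
    {f : X ⟶ Z} {g : Y ⟶ Z} (h : IsPullback fst snd f g) (x : X) (y : Y) (hxy : f x = g y) :
    ∃ p : P, fst p = x ∧ snd p = y := by
  obtain ⟨p₀, h1, h2⟩ := Scheme.Pullback.exists_preimage_pullback (f := f) (g := g) x y hxy
  refine ⟨h.isoPullback.inv p₀, ?_, ?_⟩
  · rw [← Scheme.Hom.comp_apply, h.isoPullback_inv_fst, h1]
  · rw [← Scheme.Hom.comp_apply, h.isoPullback_inv_snd, h2]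

/-- the affine case. -/
theorem ncard_fiber_le_of_isAffine {Z W : Scheme.{u}} [IsAffine Z] [IsAffine W] (π : Z ⟶ W)
    (hfin : π.appTop.hom.Finite) (hflat : π.appTop.hom.Flat) (y : W) :
    (π ⁻¹' {y}).Finite ∧ (π ⁻¹' {y}).ncard ≤ π.appTop.hom.finrank (W.isoSpec.hom y) := by
  letI := π.appTop.hom.toAlgebra
  haveI : Module.Finite Γ(W, ⊤) Γ(Z, ⊤) := hfin
  haveI : Module.Flat Γ(W, ⊤) Γ(Z, ⊤) := hflat
  obtain ⟨h1, h2⟩ := ncard_fiber_le (R := Γ(W, ⊤)) (N := Γ(Z, ⊤)) (W.isoSpec.hom y)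
  have hmaps : Set.MapsTo (fun a : Z => (Z.isoSpec.hom a : PrimeSpectrum Γ(Z, ⊤))) (π ⁻¹' {y})
      (PrimeSpectrum.comap (algebraMap Γ(W, ⊤) Γ(Z, ⊤)) ⁻¹' {W.isoSpec.hom y}) := by
    intro a ha
    have ha' : π a = y := ha
    have hn := Scheme.isoSpec_hom_naturality π
    have h4 := congrArg (fun m => m a) hn
    simp only [Scheme.Hom.comp_apply] at h4
    rw [ha'] at h4
    exact h4
  have hinj : Set.InjOn (fun a : Z => (Z.isoSpec.hom a : PrimeSpectrum Γ(Z, ⊤))) (π ⁻¹' {y}) := by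
    intro a _ a' _ haa
    exact (ConcreteCategory.bijective_of_isIso Z.isoSpec.hom.base).1 haa
  refine ⟨Set.Finite.of_injOn hmaps hinj h1, ?_⟩
  exact (Set.ncard_le_ncard_of_injOn _ hmaps hinj h1).trans h2

variable {X S : Scheme.{u}} {f : X ⟶ S} {d : ℕ}

/-- a point of `Hilb^d` has at most `d` points in each fibre. -/
theorem ncard_fiber_le_pt {T : Scheme.{u}} (z : Pt f d T) (x : T) :
    (z.π ⁻¹' {x}).Finite ∧ (z.π ⁻¹' {x}).ncard ≤ d := by
  obtain ⟨R, j, _, y, rfl⟩ := T.exists_Spec_apply_eq x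
  obtain ⟨q, hq1, hq2⟩ := z.exists_isPullback_pull j
  haveI := (z.pull j).isAffine_Z
  obtain ⟨h1, h2⟩ := ncard_fiber_le_of_isAffine (z.pull j).π (z.pull j).finite_appTop
    (z.pull j).flat_appTop y
  rw [(z.pull j).finrank_appTop] at h2
  have hsub : z.π ⁻¹' {j y} ⊆ q '' ((z.pull j).π ⁻¹' {y}) := by
    intro a ha
    obtain ⟨a', ha1, ha2⟩ := exists_preimage_of_isPullback hq1 a y ha
    exact ⟨a', ha2, ha1⟩
  refine ⟨(h1.image _).subset hsub, ?_⟩
  exact (Set.ncard_le_ncard hsub (h1.image _)).trans ((Set.ncard_image_le h1).trans h2)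

end Groth.Agent.Lib.T2H6.HilbRep.Cnt
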