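import Mathlib
import Groth.Prelude.Def_HilbD
import Groth.Agent.Lib.T2H6HilbRepI
import Groth.Agent.Lib.T2H6HilbRepJ
import Groth.Agent.Lib.T2H6HilbRepK
import Groth.Agent.Lib.T2H6HilbRepL

/-!
# Representability of the Hilbert functor of points: the general case (helper6)

If `f : X ⟶ S` is separated and any `d` points of a fibre lie in a common affine open, then
`Hilb^d_{X/S}` is representable: glue the Hilbert schemes of `U ⟶ V` for affine opens `U ⊆ X`,
`V ⊆ S` with `f U ⊆ V`.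
-/

set_option autoImplicit false
universe u
open CategoryTheory CategoryTheory.Limits AlgebraicGeometry Opposite

namespace Groth.Agent.Lib.T2H6.HilbRep

variable {X S : Scheme.{u}} {f : X ⟶ S} {d : ℕ}

/-- the locus of `T` over which the point `z` lies in `U` over `V`. -/
def inLocus (U : X.Opens) (V : S.Opens) {T : Scheme.{u}} (z : Pt f d T) : Set T :=
  {x | z.t x ∈ V ∧ ∀ a : z.Z, z.π a = x → z.j a ∈ U}

theorem isOpen_inLocus (U : X.Opens) (V : S.Opens) {T : Scheme.{u}} (z : Pt f d T) :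
    IsOpen (inLocus U V z) := by
  have h1 : inLocus U V z = (z.t ⁻¹' (V : Set S)) ∩ (z.π '' (z.j ⁻¹' (U : Set X))ᶜ)ᶜ := by
    ext x
    simp only [inLocus, Set.mem_setOf_eq, Set.mem_inter_iff, Set.mem_preimage, Set.mem_compl_iff,
      Set.mem_image, not_exists, not_and]
    constructor
    · rintro ⟨h1, h2⟩
      exact ⟨h1, fun a ha hax => ha (h2 a hax)⟩
    · rintro ⟨h1, h2⟩
      exact ⟨h1, fun a hax => by_contra (fun hn => h2 a hn hax)⟩
  rw [h1]
  haveI : IsFinite z.π := z.h.1.1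
  apply IsOpen.inter (V.2.preimage z.t.continuous)
  rw [isOpen_compl_iff]
  apply z.π.isClosedMap
  rw [isClosed_compl_iff]
  exact U.2.preimage z.j.continuous

/-- the locus as an open subset. -/
def inOpen (U : X.Opens) (V : S.Opens) {T : Scheme.{u}} (z : Pt f d T) : T.Opens :=
  ⟨inLocus U V z, isOpen_inLocus U V z⟩

theorem range_pull_of_range_subset (U : X.Opens) (V : S.Opens) {T T' : Scheme.{u}} (z : Pt f d T)
    (a : T' ⟶ T) (ha : Set.range a ⊆ inLocus U V z) :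
    Set.range (z.pull a).t ⊆ Set.range V.ι ∧ Set.range (z.pull a).j ⊆ Set.range U.ι := by
  rw [Scheme.Opens.range_ι, Scheme.Opens.range_ι]
  constructor
  · rintro _ ⟨v, rfl⟩
    rw [Pt.pull_t', Scheme.Hom.comp_apply]
    exact (ha ⟨v, rfl⟩).1
  · rintro _ ⟨y', rfl⟩
    obtain ⟨q, hq1, hq2⟩ := z.exists_isPullback_pull a
    rw [← hq2, Scheme.Hom.comp_apply]
    refine (ha ⟨(z.pull a).π y', rfl⟩).2 (q y') ?_
    rw [← Scheme.Hom.comp_apply, hq1.w, Scheme.Hom.comp_apply]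

theorem range_subset_of_range_pull (U : X.Opens) (V : S.Opens) {T T' : Scheme.{u}} (z : Pt f d T)
    (a : T' ⟶ T) (h1 : Set.range (z.pull a).t ⊆ Set.range V.ι)
    (h2 : Set.range (z.pull a).j ⊆ Set.range U.ι) : Set.range a ⊆ inLocus U V z := by
  rw [Scheme.Opens.range_ι] at h1 h2
  rintro _ ⟨v, rfl⟩
  constructor
  · have := h1 ⟨v, rfl⟩
    rwa [Pt.pull_t', Scheme.Hom.comp_apply] at this
  · intro y hy
    obtain ⟨q, hq1, hq2⟩ := z.exists_isPullback_pull a
    obtain ⟨y', hy1, hy2⟩ := Cnt.exists_preimage_of_isPullback hq1 y v hy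
    have := h2 ⟨y', rfl⟩
    rwa [← hq2, Scheme.Hom.comp_apply, hy1] at this

/-- charts: pairs of affine opens `U ⊆ X`, `V ⊆ S` with `f U ⊆ V`. -/
structure AffChart (f : X ⟶ S) : Type u where
  /-- the affine open of `X`. -/
  U : X.Opens
  /-- the affine open of `S`. -/
  V : S.Opens
  hU : IsAffineOpen U
  hV : IsAffineOpen V
  hle : U ≤ f ⁻¹ᵁ V

/-- the chart of `Hilb^d_{X/S}` given by `Hilb^d_{U/V}`. -/
theorem exists_chart_pt [IsSeparated f] (c : AffChart f) (d : ℕ) :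
    ∃ (H : Scheme.{u}) (ξ : Pt f d H),
      (∀ (V' : Scheme.{u}) (e e' : V' ⟶ H), ξ.pull e = ξ.pull e' → e = e') ∧
      (∀ (T : Scheme.{u}) (z : Pt f d T), ∃ c₀ : (inOpen c.U c.V z).toScheme ⟶ H,
        ξ.pull c₀ = z.pull (inOpen c.U c.V z).ι) ∧
      (∀ (T : Scheme.{u}) (z : Pt f d T) (V' : Scheme.{u}) (a : V' ⟶ T) (e : V' ⟶ H),
        ξ.pull e = z.pull a → Set.range a ⊆ inLocus c.U c.V z) := by
  haveI : IsAffine c.U.toScheme := c.hU
  haveI : IsAffine c.V.toScheme := c.hV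
  set fU := f.resLE c.V c.U c.hle with hfU
  have comm : c.U.ι ≫ f = fU ≫ c.V.ι := (f.resLE_comp_ι c.hle).symm
  obtain ⟨H, η, hη⟩ := exists_univ_pt (isRepresentable_affine fU d)
  obtain ⟨ξ, hcorr⟩ := exists_corr (iU := c.U.ι) (iV := c.V.ι) comm η
  refine ⟨H, ξ, ?_, ?_, ?_⟩
  · intro V' e e' he
    have h1 := hcorr.pull e
    have h2 := hcorr.pull e'
    rw [he] at h1
    have h3 : η.pull e = η.pull e' := Corr.inj h1 h2
    exact (hη V' (η.pull e')).unique h3 rfl
  · intro T z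
    have hr : Set.range (inOpen c.U c.V z).ι ⊆ inLocus c.U c.V z := by
      rw [Scheme.Opens.range_ι]
      exact subset_rfl
    obtain ⟨h1, h2⟩ := range_pull_of_range_subset c.U c.V z _ hr
    obtain ⟨w, hw⟩ := exists_corr_of_range (iU := c.U.ι) (iV := c.V.ι) comm
      (z.pull (inOpen c.U c.V z).ι) h1 h2
    obtain ⟨c₀, hc₀, -⟩ := hη _ w
    refine ⟨c₀, ?_⟩
    have h3 := hcorr.pull c₀
    rw [hc₀] at h3
    exact Corr.unique h3 hw
  · intro T z V' a e he
    have h3 := hcorr.pull e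
    rw [he] at h3
    exact range_subset_of_range_pull c.U c.V z a h3.range_t h3.range_j

/-- the charts cover. -/
theorem exists_chart_mem
    (h : ∀ (s : S) (x : Fin d → X), (∀ i, f (x i) = s) →
      ∃ U : X.Opens, IsAffineOpen U ∧ ∀ i, x i ∈ U)
    {T : Scheme.{u}} (z : Pt f d T) (x : T) : ∃ c : AffChart f, x ∈ inLocus c.U c.V z := by
  obtain ⟨hFfin, hFcard⟩ := Cnt.ncard_fiber_le_pt z x
  set G : Set X := z.j '' (z.π ⁻¹' {x}) with hGdef
  have hGfin : G.Finite := hFfin.image _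
  have hGs : ∀ g ∈ G, f g = z.t x := by
    rintro _ ⟨y, hy, rfl⟩
    have hy' : z.π y = x := hy
    rw [← Scheme.Hom.comp_apply, z.j_comp, Scheme.Hom.comp_apply, hy']
  obtain ⟨V₀, hV₀, hsV₀, -⟩ := exists_isAffineOpen_mem_and_subset (X := S) (x := z.t x)
    (U := ⊤) trivial
  obtain ⟨U₀, hU₀, hGU₀⟩ : ∃ U₀ : X.Opens, IsAffineOpen U₀ ∧ G ⊆ U₀ := by
    rcases G.eq_empty_or_nonempty with hG | hG
    · refine ⟨⊥, isAffineOpen_bot X, ?_⟩
      rw [hG]
      exact Set.empty_subset _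
    · haveI : Nonempty G := hG.to_subtype
      haveI := hGfin.fintype
      have hcard : Fintype.card G ≤ Fintype.card (Fin d) := by
        rw [Fintype.card_fin, ← Nat.card_eq_fintype_card, Nat.card_coe_set_eq]
        exact (Set.ncard_image_le hFfin).trans hFcard
      obtain ⟨ι⟩ := Function.Embedding.nonempty_of_card_le hcard
      have hsurj := Function.invFun_surjective ι.injective
      obtain ⟨U₀, hU₀, hx⟩ := h (z.t x) (fun i => (Function.invFun ι i : G).1)
        (fun i => hGs _ (Function.invFun ι i).2)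
      refine ⟨U₀, hU₀, ?_⟩
      intro g hg
      obtain ⟨i, hi⟩ := hsurj ⟨g, hg⟩
      have := hx i
      rw [hi] at this
      exact this
  obtain ⟨g₀, hg1, hg2⟩ := Avoid.exists_basicOpen_subset hU₀ (f ⁻¹ᵁ V₀) G hGfin hGU₀
    (fun g hg => by
      change f g ∈ V₀
      rw [hGs g hg]
      exact hsV₀)
  refine ⟨⟨X.basicOpen g₀, V₀, hU₀.basicOpen g₀, hV₀, hg2⟩, ?_⟩
  exact ⟨hsV₀, fun a ha => hg1 ⟨a, ha, rfl⟩⟩

/-- **Representability of `Hilb^d_{X/S}` when points of fibres lie in affine opens.** -/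
theorem representable_of_fibre_points [IsSeparated f] (d : ℕ)
    (h : ∀ (s : S) (x : Fin d → X), (∀ i, f (x i) = s) →
      ∃ U : X.Opens, IsAffineOpen U ∧ ∀ i, x i ∈ U) : HilbD.Representable f d := by
  choose H ξ hm ho hr using fun c : AffChart f => exists_chart_pt c d
  refine representable_of_charts H ξ hm ?_ ?_
  · intro c T z
    obtain ⟨c₀, hc₀⟩ := ho c T z
    exact ⟨inOpen c.U c.V z, c₀, hc₀, hr c T z⟩
  · intro T z x
    obtain ⟨c, hxc⟩ := exists_chart_mem h z x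
    obtain ⟨c₀, hc₀⟩ := ho c T z
    exact ⟨c, inOpen c.U c.V z, c₀, hxc, hc₀⟩

end Groth.Agent.Lib.T2H6.HilbRep
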