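import Mathlib
import Groth.Prelude.Def_HilbD
import Groth.Agent.Lib.T2H6HilbAddPoint
import Groth.Agent.Lib.T2H6FinFreeDescF
set_option backward.isDefEq.respectTransparency.types false

/-!
# Smoothness of the Hilbert scheme of points of a relative smooth curve (helper6)

Namespace `Groth.Agent.Lib.T2H6.HilbCurve`.
-/

set_option autoImplicit false
set_option linter.style.haveILetI false
set_option linter.unusedSectionVars false
universe u
open CategoryTheory CategoryTheory.Limits AlgebraicGeometry TopologicalSpace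

namespace Groth.Agent.Lib.T2H6.HilbCurve

open Groth.Agent.Lib.T2H6.SmCurve Groth.Agent.Lib.T2H7.HilbBasics

theorem finrank_eq_zero_of_isEmpty {X S : Scheme.{u}} (f : X ⟶ S) [IsEmpty X] [Flat f] [IsFinite f]
    (s : S) : f.finrank s = 0 := by
  by_contra hne
  have h1 : 1 ≤ f.finrank s := Nat.one_le_iff_ne_zero.mpr hne
  have h2 : 1 ≤ (pullback.snd f (S.fromSpecResidueField s)).finrank := by
    intro t
    rw [Scheme.Hom.finrank_pullback_snd]
    have : S.fromSpecResidueField s t = s := by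
      have := Scheme.range_fromSpecResidueField s
      have h3 : S.fromSpecResidueField s t ∈ Set.range (S.fromSpecResidueField s) := ⟨t, rfl⟩
      rw [this] at h3
      exact h3
    rw [this]
    exact h1
  have h3 : Surjective (pullback.snd f (S.fromSpecResidueField s)) :=
    (Scheme.Hom.one_le_finrank_iff_surjective _).mp h2
  obtain ⟨z, -⟩ := h3.surj (IsLocalRing.closedPoint (S.residueField s))
  exact IsEmpty.false (pullback.fst f (S.fromSpecResidueField s) z)

theorem isFinLocFreeOfDeg_zero_top {Y B : Scheme.{u}} (g : Y ⟶ B) :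
    Mor2.IsFinLocFreeOfDeg 0 ((⊤ : Y.IdealSheafData).subschemeι ≫ g) := by
  haveI : IsOpenImmersion ((⊤ : Y.IdealSheafData).subschemeι ≫ g) := inferInstance
  haveI : IsClosedImmersion ((⊤ : Y.IdealSheafData).subschemeι ≫ g) := inferInstance
  exact ⟨⟨inferInstance, inferInstance, inferInstance⟩, fun y => finrank_eq_zero_of_isEmpty _ y⟩

variable {X S : Scheme.{u}} (f : X ⟶ S) [SmoothOfRelativeDimension 1 f] [IsSeparated f]

theorem isIso_of_isUniversal_zero (H : Over S) (Z : HilbD.Obj f 0 H)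
    (hZ : HilbD.IsUniversal f 0 H Z) : IsIso H.hom := by
  have htop : ∀ (T : Over S) (I : (PicF.XT f T).IdealSheafData),
      Mor2.IsFinLocFreeOfDeg 0 (I.subschemeι ≫ PicF.XTproj f T) → I = ⊤ := fun T I hI =>
    eq_top_of_isFinLocFreeOfDeg_zero (PicF.XTproj f T) I hI
  obtain ⟨s, -, -⟩ := hZ (Over.mk (𝟙 S)) ⟨⊤, isFinLocFreeOfDeg_zero_top _⟩
  have hs : s.left ≫ H.hom = 𝟙 S := Over.w s
  have h1 : (Over.homMk H.hom : H ⟶ Over.mk (𝟙 S)) ≫ s = 𝟙 H := by
    apply (hZ H ⟨⊤, isFinLocFreeOfDeg_zero_top _⟩).unique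
    · exact htop _ _ (isFinLocFreeOfDeg_pull f _ 0 Z.1 Z.2)
    · exact htop _ _ (isFinLocFreeOfDeg_pull f _ 0 Z.1 Z.2)
  have h2 : H.hom ≫ s.left = 𝟙 H.left := by
    have := congrArg (fun g : H ⟶ H => g.left) h1
    simpa using this
  exact ⟨s.left, h2, hs⟩

/-- **the Hilbert scheme of points of a separated relative smooth curve is smooth.** -/
theorem smooth_of_isUniversal (hrep : ∀ e : ℕ, HilbD.Representable f e) (d : ℕ) :
    ∀ (H : Over S) (Z : HilbD.Obj f d H) (_ : HilbD.IsUniversal f d H Z), Smooth H.hom := by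
  induction d with
  | zero =>
    intro H Z hZ
    haveI := isIso_of_isUniversal_zero f H Z hZ
    infer_instance
  | succ d ih =>
    intro H' Z' hZ'
    obtain ⟨H, Z, hZ⟩ := hrep d
    haveI : Smooth H.hom := ih H Z hZ
    have hdeg : Mor2.IsFinLocFreeOfDeg (d + 1)
        ((HilbD.pull f (Over.homMk (pullback.fst H.hom f) rfl :
            Over.mk (pullback.fst H.hom f ≫ H.hom) ⟶ H) Z.1 *
          HilbD.secGraph f (Over.mk (pullback.fst H.hom f ≫ H.hom)) (pullback.snd H.hom f)
            pullback.condition.symm).subschemeι ≫ PicF.XTproj f _) :=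
      isFinLocFreeOfDeg_mul (PicF.XTproj f _) _ _ d 1 (isFinLocFreeOfDeg_pull f _ d Z.1 Z.2)
        (isFinLocFreeOfDeg_secGraph f _ _ _)
    obtain ⟨m, hm, -⟩ := hZ' (Over.mk (pullback.fst H.hom f ≫ H.hom)) ⟨_, hdeg⟩
    simp only at hm
    obtain ⟨φ, hφiso, hφ⟩ := exists_iso_universal f d H Z hZ H' Z' hZ' m hm
    haveI := hφiso
    have hmdeg : Mor2.IsFinLocFreeOfDeg (d + 1) m.left := by
      rw [← hφ, Groth.Agent.Lib.T2H7.HilbPush.isFinLocFreeOfDeg_comp_iso]
      exact Z'.2
    obtain ⟨⟨hfin, hfl, hfp⟩, hrank⟩ := hmdeg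
    haveI := hfin
    haveI := hfl
    haveI := hfp
    haveI : Surjective m.left := by
      rw [← Scheme.Hom.one_le_finrank_iff_surjective]
      intro y
      rw [hrank y]
      exact Nat.le_add_left 1 d
    haveI : Smooth (m.left ≫ H'.hom) := by
      rw [Over.w m]
      show Smooth (pullback.fst H.hom f ≫ H.hom)
      haveI : Smooth f := SmoothOfRelativeDimension.smooth 1 f
      haveI : Smooth (pullback.fst H.hom f) :=
        MorphismProperty.pullback_fst (P := @Smooth) _ _ inferInstance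
      infer_instance
    exact Groth.Agent.Lib.T2H6.FinFreeDesc.smooth_of_finite_flat_cover_source m.left H'.hom

end Groth.Agent.Lib.T2H6.HilbCurve
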