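import Mathlib
import Groth.Agent.Lib.T2H6HopfB
import Groth.Agent.Lib.T2H6GenericZero
import Groth.Agent.Lib.T2H6CurveSerre
import Groth.Agent.Lib.T2H6TensorPows
import Groth.Agent.Lib.Helper1StalkTensorB
import Groth.Agent.Lib.Helper1Sky9
set_option backward.isDefEq.respectTransparency.types false

/-!
# The Hopf inequality for sections of vector bundles on an integral proper scheme (helper6)

Namespace `Groth.Agent.Lib.T2H6.HopfD`.

* `isTorsionFree_of_isFinLocFree`, `mono_of_ne_zero` (a nonzero section of a vector bundle on an integral scheme is a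
  monomorphism `O ⟶ E`).
* `h0_add_le_tensor` : `h⁰(E₁) + h⁰(E₂) ≤ h⁰(E₁ ⊗ E₂) + 1` for vector bundles with sections.
-/

set_option autoImplicit false
set_option linter.style.haveILetI false
set_option linter.unusedSectionVars false
universe u
open CategoryTheory CategoryTheory.Limits Opposite TopologicalSpace AlgebraicGeometry

namespace Groth.Agent.Lib.T2H6.HopfD

open Groth.Agent.Lib.T2H5.Twist Groth.Agent.Lib.T2H6.CurveSerre
  Groth.Agent.Lib.Helper4.NormDelta Groth.Agent.Lib.Helper23.StalkLin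
  Groth.Agent.Lib.Helper2.RankLoc Groth.Agent.Lib.Helper2.LocFree

section Integral

variable {X : Scheme.{u}} [IsIntegral X]

theorem isTorsionFree_of_isFinLocFree (E : X.Modules) (hE : FlatMod.IsFinLocFree E) :
    TorSh.IsTorsionFree E := by
  intro x
  haveI hfp : SheafOfModules.IsFinitePresentation (R := X.ringCatSheaf) E :=
    isFP_of_isFinLocFree E hE
  haveI : E.IsQuasicoherent := inferInstance
  obtain ⟨U, n, hxU, ⟨e⟩⟩ := hE x
  obtain ⟨hfree, -⟩ := fibreRank_eq_of_restrict_iso_freeMod U.ι E e ⟨x, hxU⟩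
  haveI : Module.Free (X.presheaf.stalk x) (E.presheaf.stalk x) := hfree
  infer_instance

/-- a nonzero section of a vector bundle on an integral scheme is a monomorphism. -/
theorem mono_of_ne_zero (E : X.Modules) (hE : FlatMod.IsFinLocFree E)
    (t : Coh.structureModule X ⟶ E) (ht : t ≠ 0) : Mono t := by
  have hO1 : FlatMod.IsFinLocFreeOfRank 1 (Coh.structureModule X) :=
    Groth.Agent.Lib.Helper23.SecTw.isFinLocFreeOfRank_one_of_isInvertible _
      (Groth.Agent.Lib.Helper23.TensorUnit.isInvertible_structureModule X)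
  have hOc := Groth.Agent.Lib.T2H6.RankAdd.isCoh_of_isFinLocFreeOfRank _ 1 hO1
  haveI hfp : SheafOfModules.IsFinitePresentation (R := X.ringCatSheaf) E :=
    isFP_of_isFinLocFree E hE
  haveI : E.IsQuasicoherent := inferInstance
  haveI := hOc.1
  have hEtf := isTorsionFree_of_isFinLocFree E hE
  have hOtf := Groth.Agent.Lib.T2H6.GenericZero.isTorsionFree_of_isFinLocFreeOfRank _ 1 hO1
  obtain ⟨hOf, hOfin, hOr⟩ :=
    Groth.Agent.Lib.T2H6.RankAdd.free_finite_stalk (Coh.structureModule X) 1 hO1 (genericPoint X)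
  letI : Field (X.presheaf.stalk (genericPoint X)) :=
    inferInstanceAs (Field X.functionField)
  have hη : stalkLin t (genericPoint X) ≠ 0 := fun h0 =>
    ht (Groth.Agent.Lib.T2H6.GenericZero.eq_zero_of_stalkLin_generic_eq_zero hEtf t h0)
  obtain ⟨v₀, hv₀⟩ : ∃ v₀, stalkLin t (genericPoint X) v₀ ≠ 0 := by
    by_contra hcon
    push Not at hcon
    exact hη (LinearMap.ext hcon)
  have hv₀' : v₀ ≠ 0 := fun h => hv₀ (by rw [h, map_zero])
  have hinj : Function.Injective (stalkLin t (genericPoint X)) := by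
    rw [injective_iff_map_eq_zero]
    intro v hv
    obtain ⟨a, ha⟩ := exists_smul_eq_of_finrank_eq_one hOr hv₀' v
    rw [← ha, map_smul] at hv
    rcases smul_eq_zero.mp hv with h | h
    · rw [← ha, h, zero_smul]
    · exact absurd h hv₀
  apply Preadditive.mono_of_cancel_zero
  intro A f hf
  apply Groth.Agent.Lib.T2H6.GenericZero.eq_zero_of_stalkLin_generic_eq_zero hOtf f
  ext v
  apply hinj
  rw [LinearMap.zero_apply, map_zero, ← Groth.Agent.Lib.T2H5.Dev2.stalkLin_comp, hf]
  have h0 : stalkLin (0 : A ⟶ E) (genericPoint X) = 0 := by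
    ext g
    obtain ⟨U, hxU, m, rfl⟩ := A.presheaf.exists_germ_eq g
    rw [stalkLin_germ]
    simp
  rw [h0]
  rfl

end Integral

section Proper

variable (k : Type u) [Field k] {X : Scheme.{u}} [X.Over (Spec (CommRingCat.of k))]

theorem isCoh_of_isFinLocFree (E : X.Modules) (hE : FlatMod.IsFinLocFree E) : Coh.IsCoh E := by
  haveI hfp : SheafOfModules.IsFinitePresentation (R := X.ringCatSheaf) E :=
    isFP_of_isFinLocFree E hE
  exact ⟨inferInstance, inferInstance⟩

/-- `f ⊗ N`, typed through `CohB1.tensorMod`. -/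
noncomputable def trMap (N : X.Modules) {A B : X.Modules} (f : A ⟶ B) :
    CohB1.tensorMod A N ⟶ CohB1.tensorMod B N := (tr N).map f

omit [X.Over (Spec (CommRingCat.of k))] in
theorem trMap_add (N : X.Modules) {A B : X.Modules} (f g : A ⟶ B) :
    trMap N (f + g) = trMap N f + trMap N g := by
  haveI := additive_tr (X := X) N
  exact Functor.map_add _

theorem trMap_smul (N : X.Modules) {A B : X.Modules} (c : k) (f : A ⟶ B) :
    trMap N (c • f) = c • trMap N f := tr_map_smul' k N c f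

/-- the pairing `(s, t) ↦ s ⊗ t` on sections, as a map `O ⊗ O ⟶ E₂ ⊗ E₁`. -/
noncomputable def pair (E₁ E₂ : X.Modules) :
    (Coh.structureModule X ⟶ E₁) →ₗ[k] (Coh.structureModule X ⟶ E₂) →ₗ[k]
      (CohB1.tensorMod (Coh.structureModule X) (Coh.structureModule X) ⟶ CohB1.tensorMod E₂ E₁) :=
  LinearMap.mk₂ k (fun s t => trMap (Coh.structureModule X) s ≫
      (Groth.Agent.Lib.T2H6.TensorPows.braidIso E₁ (Coh.structureModule X)).hom ≫ trMap E₁ t)
    (fun s s' t => by
      rw [trMap_add, Preadditive.add_comp])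
    (fun c s t => by
      rw [trMap_smul, Linear.smul_comp])
    (fun s t t' => by
      rw [trMap_add, Preadditive.comp_add, Preadditive.comp_add])
    (fun c s t => by
      rw [trMap_smul, Linear.comp_smul, Linear.comp_smul])

theorem pair_apply (E₁ E₂ : X.Modules) (s : Coh.structureModule X ⟶ E₁)
    (t : Coh.structureModule X ⟶ E₂) :
    pair k E₁ E₂ s t = trMap (Coh.structureModule X) s ≫
      (Groth.Agent.Lib.T2H6.TensorPows.braidIso E₁ (Coh.structureModule X)).hom ≫ trMap E₁ t :=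
  rfl

variable [IsIntegral X]

omit [X.Over (Spec (CommRingCat.of k))] in
theorem tr_map_eq_zero_iff (E : X.Modules) (s : Coh.structureModule X ⟶ E) :
    trMap (Coh.structureModule X) s = 0 ↔ s = 0 := by
  constructor
  · intro h2
    change (tr (Coh.structureModule X)).map s = 0 at h2
    have h3 := (trUnitIso (X := X)).hom.naturality s
    rw [h2, zero_comp] at h3
    have h4 : (trUnitIso (X := X)).hom.app (Coh.structureModule X) ≫ s = 0 := h3.symm
    rwa [← cancel_epi ((trUnitIso (X := X)).hom.app (Coh.structureModule X)), comp_zero]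
  · rintro rfl
    haveI := additive_tr (X := X) (Coh.structureModule X)
    exact Functor.map_zero (tr (Coh.structureModule X)) _ _

theorem pair_eq_zero (E₁ E₂ : X.Modules) (h₁ : FlatMod.IsFinLocFree E₁)
    (h₂ : FlatMod.IsFinLocFree E₂) (s : Coh.structureModule X ⟶ E₁)
    (t : Coh.structureModule X ⟶ E₂) (h : pair k E₁ E₂ s t = 0) : s = 0 ∨ t = 0 := by
  by_contra hcon
  push Not at hcon
  obtain ⟨hs, ht⟩ := hcon
  haveI : Mono t := mono_of_ne_zero E₂ h₂ t ht
  haveI : Mono (trMap E₁ t) :=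
    Groth.Agent.Lib.Helper1.StalkTensor.mono_tensor_of_isFlat t E₁
      (Groth.Agent.Lib.Helper1.Sky.isFlat_of_isFinLocFree' E₁ h₁)
  rw [pair_apply, ← Category.assoc] at h
  have h1 : trMap (Coh.structureModule X) s ≫
      (Groth.Agent.Lib.T2H6.TensorPows.braidIso E₁ (Coh.structureModule X)).hom = 0 := by
    rw [← cancel_mono (trMap E₁ t), h, zero_comp]
  have h2 : trMap (Coh.structureModule X) s = 0 := by
    rw [← cancel_mono (Groth.Agent.Lib.T2H6.TensorPows.braidIso E₁ (Coh.structureModule X)).hom,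
      h1, zero_comp]
  exact hs ((tr_map_eq_zero_iff E₁ s).1 h2)

variable [IsAlgClosed k] [IsProper (X ↘ Spec (CommRingCat.of k))]

/-- **Hopf inequality for vector bundles**: `h⁰(E₁) + h⁰(E₂) ≤ h⁰(E₁ ⊗ E₂) + 1`. -/
theorem h0_add_le_tensor (E₁ E₂ : X.Modules) (h₁ : FlatMod.IsFinLocFree E₁)
    (h₂ : FlatMod.IsFinLocFree E₂) (n₁ : Nontrivial (Coh.HH X E₁ 0))
    (n₂ : Nontrivial (Coh.HH X E₂ 0)) :
    Module.finrank k (Coh.HH X E₁ 0) + Module.finrank k (Coh.HH X E₂ 0) ≤
      Module.finrank k (Coh.HH X (CohB1.tensorMod E₁ E₂) 0) + 1 := by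
  have hc₁ : Coh.IsCoh E₁ := isCoh_of_isFinLocFree E₁ h₁
  have hc₂ : Coh.IsCoh E₂ := isCoh_of_isFinLocFree E₂ h₂
  have hc₂₁ : Coh.IsCoh (CohB1.tensorMod E₂ E₁) :=
    Groth.Agent.Lib.T2H6.TensorDeg.isCoh_tensor E₂ E₁ hc₂ hc₁
  haveI : Module.Finite k (Coh.HH X E₁ 0) := Groth.Agent.Lib.T2H6.EulerField.finite_HH k X _ hc₁ 0
  haveI : Module.Finite k (Coh.HH X E₂ 0) := Groth.Agent.Lib.T2H6.EulerField.finite_HH k X _ hc₂ 0
  haveI : Module.Finite k (Coh.HH X (CohB1.tensorMod E₂ E₁) 0) :=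
    Groth.Agent.Lib.T2H6.EulerField.finite_HH k X _ hc₂₁ 0
  let eA : (Coh.structureModule X ⟶ E₁) ≃ₗ[k] Coh.HH X E₁ 0 :=
    LinearEquiv.ofBijective (evLin k E₁) (bijective_evLin k E₁)
  let eB : (Coh.structureModule X ⟶ E₂) ≃ₗ[k] Coh.HH X E₂ 0 :=
    LinearEquiv.ofBijective (evLin k E₂) (bijective_evLin k E₂)
  let eC₀ : (Coh.structureModule X ⟶ CohB1.tensorMod E₂ E₁) ≃ₗ[k]
      Coh.HH X (CohB1.tensorMod E₂ E₁) 0 :=
    LinearEquiv.ofBijective (evLin k _) (bijective_evLin k _)
  let eC : (CohB1.tensorMod (Coh.structureModule X) (Coh.structureModule X) ⟶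
      CohB1.tensorMod E₂ E₁) ≃ₗ[k] (Coh.structureModule X ⟶ CohB1.tensorMod E₂ E₁) :=
    Linear.homCongr k (Groth.Agent.Lib.Helper23.TensorUnit.unitTensorIso (Coh.structureModule X))
      (Iso.refl _)
  haveI : Module.Finite k (Coh.structureModule X ⟶ E₁) := Module.Finite.equiv eA.symm
  haveI : Module.Finite k (Coh.structureModule X ⟶ E₂) := Module.Finite.equiv eB.symm
  haveI : Module.Finite k (Coh.structureModule X ⟶ CohB1.tensorMod E₂ E₁) :=
    Module.Finite.equiv eC₀.symm
  haveI : Module.Finite k (CohB1.tensorMod (Coh.structureModule X) (Coh.structureModule X) ⟶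
      CohB1.tensorMod E₂ E₁) := Module.Finite.equiv eC.symm
  haveI : Nontrivial (Coh.structureModule X ⟶ E₁) := eA.toEquiv.nontrivial
  haveI : Nontrivial (Coh.structureModule X ⟶ E₂) := eB.toEquiv.nontrivial
  have key := Groth.Agent.Lib.T2H6.HopfB.hopf (pair k E₁ E₂) (pair_eq_zero k E₁ E₂ h₁ h₂)
  rw [eA.finrank_eq, eB.finrank_eq, eC.finrank_eq, eC₀.finrank_eq] at key
  have e3 := (Groth.Agent.Lib.T2H6.HHLin.HHequiv k
    (Groth.Agent.Lib.T2H6.TensorPows.braidIso E₁ E₂) 0).finrank_eq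
  rw [e3]
  exact key

end Proper

end Groth.Agent.Lib.T2H6.HopfD
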