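import Groth.Agent.Lib.T2H6HorrocksB
import Groth.Agent.Lib.T2H6NegTwistE
import Groth.Agent.Lib.T2H3ConormalInter
import Groth.Agent.Lib.Helper27ProjDim

/-!
# Horrocks' criterion for vector bundles on `P^n_k`, all `n` (T2H6)

* `maximalIdeal_eq_bot_of_isAssPoint`: an associated point of a finite locally free module on an
  integral scheme has a field as local ring;
* `eq_of_isClosed_of_maximalIdeal_eq_bot`: an integral scheme with a closed point whose local ring is a
  field is a singleton;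
* `exists_forall_subsingleton_H0`: `H⁰(E(j)) = 0` for `j ≪ 0`, `E` a vector bundle on `P^n_k`, `n ≥ 1`.
-/

set_option autoImplicit false
universe u

open CategoryTheory CategoryTheory.Limits AlgebraicGeometry TopologicalSpace Opposite

namespace Groth.Agent.Lib.T2H6.Horrocks

section General

variable {X : Scheme.{u}} [IsIntegral X]

/-- an associated point of a finite locally free module on an integral scheme has a field as local
ring. -/
theorem maximalIdeal_eq_bot_of_isAssPoint (E : X.Modules) (r : ℕ)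
    (hE : FlatMod.IsFinLocFreeOfRank r E) (x : X) (hx : Curv2.IsAssPoint E x) :
    IsLocalRing.maximalIdeal (X.presheaf.stalk x) = ⊥ := by
  obtain ⟨hfree, -, -⟩ := Groth.Agent.Lib.T2H6.RankAdd.free_finite_stalk E r hE x
  obtain ⟨hprime, m, hm⟩ := hx
  by_cases hm0 : m = 0
  · exfalso
    apply hprime.ne_top
    rw [hm, hm0]
    rw [Ideal.radical_eq_top]
    rw [Ideal.eq_top_iff_one, Submodule.mem_colon_singleton]
    simp
  · rw [hm]
    have hcol : Submodule.colon (⊥ : Submodule (X.presheaf.stalk x) (E.presheaf.stalk x)) {m} = ⊥ := by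
      rw [eq_bot_iff]
      intro a ha
      rw [Submodule.mem_colon_singleton, Submodule.mem_bot] at ha
      rcases smul_eq_zero.mp ha with h | h
      · exact h
      · exact absurd h hm0
    rw [hcol]
    exact Ideal.radical_bot_of_isReduced

/-- an integral scheme with a closed point whose local ring is a field is a singleton. -/
theorem eq_of_isClosed_of_maximalIdeal_eq_bot (x : X) (hcl : IsClosed ({x} : Set X))
    (h : IsLocalRing.maximalIdeal (X.presheaf.stalk x) = ⊥) (y : X) : y = x := by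
  have hξ : genericPoint X ⤳ x := genericPoint_specializes x
  have hmem : genericPoint X ∈ Set.range (X.fromSpecStalk x) := by
    rw [Scheme.range_fromSpecStalk]
    exact hξ
  obtain ⟨p, hp⟩ := hmem
  have hpc : p = IsLocalRing.closedPoint (X.presheaf.stalk x) := by
    apply PrimeSpectrum.ext
    have h1 : p.asIdeal ≤ IsLocalRing.maximalIdeal (X.presheaf.stalk x) :=
      IsLocalRing.le_maximalIdeal p.2.ne_top
    rw [h] at h1
    change p.asIdeal = IsLocalRing.maximalIdeal (X.presheaf.stalk x)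
    rw [h]
    exact le_antisymm h1 bot_le
  have hξx : genericPoint X = x := by
    rw [← hp, hpc]
    exact Scheme.fromSpecStalk_closedPoint
  have hy : genericPoint X ⤳ y := genericPoint_specializes y
  rw [hξx] at hy
  have := hy.mem_closed hcl (Set.mem_singleton x)
  exact this

end General

section Pn

open Groth.Agent.Lib.T2H6.GSplit Groth.Agent.Lib.T2H6.SDual Groth.Agent.Lib.T2H5.Twist
  Groth.Agent.Lib.T2H6.HNPn

variable (n : ℕ) (k : Type u) [Field k]

/-- `P^n_k`, `n ≥ 1`, is not a singleton. -/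
theorem not_forall_eq (hn : 1 ≤ n) (x : CohB1.ProjSpace n k) :
    ¬ ∀ y : CohB1.ProjSpace n k, y = x := by
  intro h
  have hsub : Subsingleton (CohB1.ProjSpace n k) := ⟨fun a b => by rw [h a, h b]⟩
  have hsub' : Subsingleton (IrreducibleCloseds (CohB1.ProjSpace n k)) := by
    refine ⟨fun a b => ?_⟩
    apply IrreducibleCloseds.ext
    obtain ⟨u, hu⟩ := a.isIrreducible.nonempty
    obtain ⟨v, hv⟩ := b.isIrreducible.nonempty
    ext z
    constructor
    · intro _
      rw [Subsingleton.elim z v]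
      exact hv
    · intro _
      rw [Subsingleton.elim z u]
      exact hu
  have h1 : topologicalKrullDim (CohB1.ProjSpace n k) ≤ 0 :=
    Order.krullDim_nonpos_of_subsingleton
  have h3 : topologicalKrullDim (CohB1.ProjSpace n k) = ((n : ℕ) : WithBot ℕ∞) :=
    Groth.Agent.Lib.Helper27ProjDim.main k n
  rw [h3] at h1
  have h4 : (n : WithBot ℕ∞) ≤ ((0 : ℕ) : WithBot ℕ∞) := h1
  have h5 : n ≤ 0 := by exact_mod_cast h4
  omega

/-- `H⁰(E(j)) = 0` for `j ≪ 0`, `E` a vector bundle on `P^n_k`, `n ≥ 1`. -/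
theorem exists_forall_subsingleton_H0 (hn : 1 ≤ n) (r : ℕ) (E : (CohB1.ProjSpace n k).Modules)
    (hE : FlatMod.IsFinLocFreeOfRank r E) :
    ∃ n₀ : ℤ, ∀ j : ℤ, j ≤ n₀ → Subsingleton (Coh.HH (CohB1.ProjSpace n k)
      (CohB1.tensorMod E (Twist.twistProjSpace n k j)) 0) := by
  have hEc : Coh.IsCoh E := Groth.Agent.Lib.T2H6.RankAdd.isCoh_of_isFinLocFreeOfRank E r hE
  have hM : ClSub.IsInverseOf (Twist.twistProjSpace n k 1) (Twist.twistProjSpace n k (-1)) := by
    obtain ⟨e₀⟩ := nonempty_twist_tensor_iso n k 1 (-1) 0 (by ring)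
    obtain ⟨e₁⟩ := nonempty_twist_zero_iso n k
    exact ⟨e₀ ≪≫ e₁⟩
  obtain ⟨N₀, hN₀⟩ := Groth.Agent.Lib.T2H6.NegTwistE.exists_forall_subsingleton_HH_zero k
    (Twist.twistProjSpace n k 1) (isAmple_one n k) (Twist.twistProjSpace n k (-1)) hM E hEc
    (fun x hcl hass => not_forall_eq n k hn x
      (eq_of_isClosed_of_maximalIdeal_eq_bot x hcl
        (maximalIdeal_eq_bot_of_isAssPoint E r hE x hass)))
  refine ⟨-(N₀ : ℤ), fun j hj => ?_⟩
  obtain ⟨N, hN⟩ : ∃ N : ℕ, (N : ℤ) = -j := ⟨(-j).toNat, by omega⟩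
  have h1 := hN₀ N (by omega)
  obtain ⟨ε⟩ := Groth.Agent.Lib.T2H5.AmplePn.nonempty_tensorPow_twist_iso n k (-1) N
  have hj' : (N : ℤ) * (-1) = j := by omega
  rw [hj'] at ε
  exact Groth.Agent.Lib.T2H5.Chevalley.subsingleton_HH_of_iso
    ((DCoh.tensorBi.obj E).mapIso ε) 0 h1

end Pn

section Endo0

open MvPolynomial Groth.Agent.Lib.T2H6.GSplit Groth.Agent.Lib.T2H6.SDual
  Groth.Agent.Lib.Helper27GrTildeSect Groth.Agent.Lib.T2H5.Twist Groth.Agent.Lib.T2H5.PnTop
  Groth.Agent.Lib.T2H5.FPExtend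

variable {n : ℕ} {k : Type u} [Field k]

local notation "𝒫" => CohB1.polyGrading n k

theorem isIso_of_eq_mulForm {d : ℤ} (hde : d + ((0 : ℕ) : ℤ) = d)
    (u : GrTilde.tilde 𝒫 𝒫 d ⟶ GrTilde.tilde 𝒫 𝒫 d) (hu : u ≠ 0)
    (f : MvPolynomial (Fin (n + 1)) k) (hf : f ∈ CohB1.polyGrading n k 0)
    (hfu : u = mulForm 𝒫 𝒫 hf hde) : IsIso u := by
  have hf' : f ∈ homogeneousSubmodule (Fin (n + 1)) k 0 := hf
  rw [homogeneousSubmodule_zero, Submodule.mem_one] at hf'
  obtain ⟨c, hc⟩ := hf'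
  rw [MvPolynomial.algebraMap_eq] at hc
  subst hc
  have hc0 : c ≠ 0 := by
    rintro rfl
    apply hu
    rw [hfu]
    apply Scheme.Modules.hom_ext
    intro A
    ext s
    rw [mulForm_app]
    apply sec_ext
    intro y hy
    rw [secVal_mulFormSec, map_zero, Localization.mk_zero, zero_smul]
    rfl
  have h1 : (C c : MvPolynomial (Fin (n + 1)) k) * C c⁻¹ = 1 := by
    rw [← C_mul, mul_inv_cancel₀ hc0, C_1]
  have h2 : (C c⁻¹ : MvPolynomial (Fin (n + 1)) k) * C c = 1 := by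
    rw [mul_comm, h1]
  refine ⟨⟨mulForm 𝒫 𝒫 (C_mem_zero c⁻¹) hde, ?_, ?_⟩⟩
  · rw [hfu]
    exact mulForm_comp_mulForm hf (C_mem_zero c⁻¹) hde h1
  · rw [hfu]
    exact mulForm_comp_mulForm (C_mem_zero c⁻¹) hf hde h2

/-- nonzero endomorphisms of `O(d)` on `P^n_k` are isomorphisms (all `n`). -/
theorem isIso_endo_of_ne_zero_all (d : ℤ) (u : OO n k d ⟶ OO n k d) (hu : u ≠ 0) : IsIso u := by
  rcases Nat.eq_zero_or_pos n with rfl | hn
  · have hde : d + ((0 : ℕ) : ℤ) = d := by simp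
    obtain ⟨f, hf, hfu⟩ := exists_eq_mulForm0 (R := k) hde
      (show GrTilde.tilde (CohB1.polyGrading 0 k) (CohB1.polyGrading 0 k) d ⟶
        GrTilde.tilde (CohB1.polyGrading 0 k) (CohB1.polyGrading 0 k) d from u)
    exact isIso_of_eq_mulForm hde _ hu f hf hfu
  · exact isIso_endo_of_ne_zero hn d u hu

end Endo0

section Split

open Groth.Agent.Lib.T2H6.GSplit Groth.Agent.Lib.T2H6.SDual Groth.Agent.Lib.T2H5.Twist
  Groth.Agent.Lib.T2H6.HNPn Groth.Agent.Lib.T2H5.PnTop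

variable (n : ℕ) (k : Type u) [Field k]

/-- **Splitting off a twisting sheaf**, all `n`. If the coherent module `F` on `P^n_k` is
`m`-regular and `H^n(F(m-1-n)) ≠ 0`, then `O(-m)` is a direct summand of `F`. -/
theorem exists_biprod_iso_of_regular_all (F : (CohB1.ProjSpace n k).Modules)
    (hF : Coh.IsCoh F) (m : ℤ) (hreg : Curv2.IsMRegular k n F m)
    (hH : Nontrivial (Coh.HH (CohB1.ProjSpace n k)
      (CohB1.tensorMod F (Twist.twistProjSpace n k (m - 1 - n))) n)) :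
    ∃ K : (CohB1.ProjSpace n k).Modules, Nonempty (F ≅ K ⊞ Twist.twistProjSpace n k (-m)) := by
  set G := CohB1.tensorMod F (Twist.twistProjSpace n k (m - 1 - n)) with hG
  have hGc : Coh.IsCoh G := Groth.Agent.Lib.T2H5.Mumford.isCoh_tw n k F hF _
  -- a nonzero morphism to the dualizing sheaf
  obtain ⟨x, hx⟩ := exists_ne (0 : Coh.HH (CohB1.ProjSpace n k) G n)
  obtain ⟨ψ, hψ⟩ : ∃ ψ : Coh.HH (CohB1.ProjSpace n k) G n →ₗ[k] k, ψ x ≠ 0 := by
    by_contra hcon
    push Not at hcon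
    exact hx ((Module.forall_dual_apply_eq_zero_iff k x).mp hcon)
  obtain ⟨φ, hφ, -⟩ := existsUnique_hom_of_isCoh n k G hGc ψ
  have hφ0 : φ ≠ 0 := by
    rintro rfl
    apply hψ
    rw [hφ x]
    have h0 := LinearMap.congr_fun (HHlin_zero k G (OO n k (dω n)) n) x
    have h1 : Sheaf.H.map ((SheafOfModules.toSheaf (CohB1.ProjSpace n k).ringCatSheaf).map
        (0 : G ⟶ OO n k (dω n))) n x = 0 := h0
    rw [h1, map_zero]
  -- the presentation
  obtain ⟨b, π, hπ, -⟩ :=
    Groth.Agent.Lib.T2H5.RegRes.exists_epi_twists_kernel_regular n k F hF m hreg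
  -- transport of `φ`
  have ha : (m - 1 - n) + ((n : ℤ) + 1 - m) = 0 := by ring
  let e₁ : F ≅ (tw n k ((n : ℤ) + 1 - m)).obj G :=
    ((twCancel n k (m - 1 - n) ((n : ℤ) + 1 - m) ha).app F).symm
  obtain ⟨e₂⟩ := nonempty_twist_tensor_iso n k (dω n) ((n : ℤ) + 1 - m) (-m)
    (by unfold dω; ring)
  let φ' : G ⟶ Twist.twistProjSpace n k (dω n) := φ ≫ eqToHom (twist_eq n k (dω n)).symm
  have hφ'0 : φ' ≠ 0 := by
    intro h
    apply hφ0
    have h2 : φ' ≫ eqToHom (twist_eq n k (dω n)) = 0 := by rw [h, zero_comp]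
    simpa [φ'] using h2
  let φF : F ⟶ Twist.twistProjSpace n k (-m) :=
    e₁.hom ≫ (tw n k ((n : ℤ) + 1 - m)).map φ' ≫ e₂.hom
  have hφF0 : φF ≠ 0 := by
    intro h
    apply hφ'0
    apply tw_map_injective n k ((n : ℤ) + 1 - m)
    have h4 : e₁.hom ≫ ((tw n k ((n : ℤ) + 1 - m)).map φ' ≫ e₂.hom) = e₁.hom ≫ 0 := by
      rw [comp_zero]
      exact h
    have h5 := (cancel_epi e₁.hom).mp h4
    have h6 : (tw n k ((n : ℤ) + 1 - m)).map φ' ≫ e₂.hom = 0 ≫ e₂.hom := by
      rw [zero_comp]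
      exact h5
    have h7 := (cancel_mono e₂.hom).mp h6
    rw [h7, Functor.map_zero]
    rfl
  have hπφ : π ≫ φF ≠ 0 := by
    intro h
    apply hφF0
    have := hπ
    rw [← cancel_epi π, h, comp_zero]
  obtain ⟨i, hi⟩ : ∃ i : Fin b, Sigma.ι (fun _ : Fin b => Twist.twistProjSpace n k (-m)) i ≫
      π ≫ φF ≠ 0 := by
    by_contra hcon
    push Not at hcon
    apply hπφ
    apply Sigma.hom_ext
    intro i
    rw [hcon i, comp_zero]
  have key : ∀ (T : (CohB1.ProjSpace n k).Modules), T = OO n k (-m) →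
      ∀ u : T ⟶ T, u ≠ 0 → IsIso u := by
    intro T hT
    subst hT
    exact isIso_endo_of_ne_zero_all (-m)
  have := key _ (twist_eq n k (-m)) _ hi
  let σ : Twist.twistProjSpace n k (-m) ⟶ F :=
    inv (Sigma.ι (fun _ : Fin b => Twist.twistProjSpace n k (-m)) i ≫ π ≫ φF) ≫
      Sigma.ι (fun _ : Fin b => Twist.twistProjSpace n k (-m)) i ≫ π
  have hσ : σ ≫ φF = 𝟙 _ := by
    simp only [σ, Category.assoc]
    exact IsIso.inv_hom_id _
  have : IsSplitEpi φF := IsSplitEpi.mk' ⟨σ, hσ⟩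
  exact ⟨kernel φF, ⟨biprod.uniqueUpToIso _ _
    (isBilimitBinaryBiconeOfIsSplitEpiOfKernel (kernelIsKernel φF))⟩⟩

/-- splitting off `O(-m)`, `m ≤ m₁`, lowers `h⁰(F(m₁))`. -/
theorem finrank_H0_add_one_le_of_biprod (F K : (CohB1.ProjSpace n k).Modules) (hF : Coh.IsCoh F)
    (m m₁ : ℤ) (hmm₁ : m ≤ m₁) (e : F ≅ K ⊞ Twist.twistProjSpace n k (-m)) :
    Coh.IsCoh K ∧
    Module.finrank k (Coh.HH (CohB1.ProjSpace n k)
        (CohB1.tensorMod K (Twist.twistProjSpace n k m₁)) 0) + 1 ≤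
      Module.finrank k (Coh.HH (CohB1.ProjSpace n k)
        (CohB1.tensorMod F (Twist.twistProjSpace n k m₁)) 0) := by
  have hln : IsLocallyNoetherian (CohB1.ProjSpace n k) := isLocallyNoetherian_projSpace' n k
  have hKc : Coh.IsCoh K := Groth.Agent.Lib.T2H5.Devissage.isCoh_of_iso
    (Groth.Agent.Lib.T2H6.CurveIndec.summandIsoKernel e).symm
    (Groth.Agent.Lib.T2H5.GenIsoB.isCoh_kernel _ hF hF)
  refine ⟨hKc, ?_⟩
  let ι : K ⟶ F := biprod.inl ≫ e.inv
  let ρ : F ⟶ K := e.hom ≫ biprod.fst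
  have hιρ : ι ≫ ρ = 𝟙 K := by simp [ι, ρ]
  let σ : Twist.twistProjSpace n k (-m) ⟶ F := biprod.inr ≫ e.inv
  let τ : F ⟶ Twist.twistProjSpace n k (-m) := e.hom ≫ biprod.snd
  have hστ : σ ≫ τ = 𝟙 _ := by simp [σ, τ]
  have hιτ : ι ≫ τ = 0 := by simp [ι, τ]
  have hfin : Module.Finite k (Coh.HH (CohB1.ProjSpace n k) ((tw n k m₁).obj F) 0) :=
    Groth.Agent.Lib.T2H5.T2Main.finite_HH_of_isProper k _ _
      (Groth.Agent.Lib.T2H5.Mumford.isCoh_tw n k F hF m₁) 0
  have h1 : (Canon.HHlin k ((tw n k m₁).map ρ) 0).comp (Canon.HHlin k ((tw n k m₁).map ι) 0) =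
      LinearMap.id := by
    rw [← HHlin_comp, ← CategoryTheory.Functor.map_comp, hιρ, CategoryTheory.Functor.map_id,
      HHlin_id]
  have h2 : (Canon.HHlin k ((tw n k m₁).map τ) 0).comp (Canon.HHlin k ((tw n k m₁).map σ) 0) =
      LinearMap.id := by
    rw [← HHlin_comp, ← CategoryTheory.Functor.map_comp, hστ, CategoryTheory.Functor.map_id,
      HHlin_id]
  have h3 : (Canon.HHlin k ((tw n k m₁).map τ) 0).comp (Canon.HHlin k ((tw n k m₁).map ι) 0) =
      0 := by
    rw [← HHlin_comp, ← CategoryTheory.Functor.map_comp, hιτ, Functor.map_zero, HHlin_zero]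
  have hinj : Function.Injective (Canon.HHlin k ((tw n k m₁).map ι) 0) :=
    Function.LeftInverse.injective (g := Canon.HHlin k ((tw n k m₁).map ρ) 0)
      (fun x => LinearMap.congr_fun h1 x)
  have hsurj : Function.Surjective (Canon.HHlin k ((tw n k m₁).map τ) 0) :=
    Function.RightInverse.surjective (g := Canon.HHlin k ((tw n k m₁).map σ) 0)
      (fun x => LinearMap.congr_fun h2 x)
  have key := finrank_add_le_of_comp_eq_zero _ _ hinj hsurj h3
  obtain ⟨c, hc⟩ : ∃ c : ℕ, (c : ℤ) = -m + m₁ := ⟨(-m + m₁).toNat, by omega⟩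
  obtain ⟨ε⟩ := nonempty_twist_tensor_iso n k (-m) m₁ (c : ℤ) hc.symm
  have h4 := (Groth.Agent.Lib.T2H5.HilbPoly.hhEquiv (A := k) ε 0).finrank_eq
  have h5 := finrank_H0_twist_pos n k c
  have h6 : 0 < Module.finrank k (Coh.HH (CohB1.ProjSpace n k)
      ((tw n k m₁).obj (Twist.twistProjSpace n k (-m))) 0) := by
    rw [tw_obj, h4]
    exact h5
  have h7 : Module.finrank k (Coh.HH (CohB1.ProjSpace n k) ((tw n k m₁).obj K) 0) +
      Module.finrank k (Coh.HH (CohB1.ProjSpace n k)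
        ((tw n k m₁).obj (Twist.twistProjSpace n k (-m))) 0) ≤
      Module.finrank k (Coh.HH (CohB1.ProjSpace n k) ((tw n k m₁).obj F) 0) := key
  have h8 : 1 ≤ Module.finrank k (Coh.HH (CohB1.ProjSpace n k)
        ((tw n k m₁).obj (Twist.twistProjSpace n k (-m))) 0) := h6
  exact le_trans (Nat.add_le_add_left h8 _) h7

/-- every coherent module on `P^0_k` is a finite direct sum of twisting sheaves. -/
theorem exists_iso_sigma_zero (m₁ : ℤ) :
    ∀ (N : ℕ) (F : (CohB1.ProjSpace 0 k).Modules), Coh.IsCoh F →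
    Module.finrank k (Coh.HH (CohB1.ProjSpace 0 k)
      (CohB1.tensorMod F (Twist.twistProjSpace 0 k m₁)) 0) ≤ N →
    ∃ (r : ℕ) (a : Fin r → ℤ),
      Nonempty (F ≅ ∐ fun j : Fin r => Twist.twistProjSpace 0 k (a j)) := by
  have hregall : ∀ (F : (CohB1.ProjSpace 0 k).Modules) (m : ℤ), Curv2.IsMRegular k 0 F m := by
    intro F m i hi1 hi0
    omega
  have step : ∀ (F : (CohB1.ProjSpace 0 k).Modules), Coh.IsCoh F → ¬ IsZero F →
      ∃ K : (CohB1.ProjSpace 0 k).Modules, Nonempty (F ≅ K ⊞ Twist.twistProjSpace 0 k (-m₁)) := by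
    intro F hF hz
    have hH : Nontrivial (Coh.HH (CohB1.ProjSpace 0 k)
        (CohB1.tensorMod F (Twist.twistProjSpace 0 k (m₁ - 1 - (0 : ℕ)))) 0) := by
      rw [← not_subsingleton_iff_nontrivial]
      intro hs
      apply hz
      have hs' : Subsingleton (Coh.HH (CohB1.ProjSpace 0 k)
          (CohB1.tensorMod F (Twist.twistProjSpace 0 k (m₁ - 1))) 0) := by
        have : m₁ - 1 - ((0 : ℕ) : ℤ) = m₁ - 1 := by simp
        rwa [this] at hs
      exact isZero_of_regular_of_H0 0 k F hF (m₁ - 1) (hregall F _) hs'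
    exact exists_biprod_iso_of_regular_all 0 k F hF m₁ (hregall F _) hH
  intro N
  induction N with
  | zero =>
    intro F hF hN
    by_cases hz : IsZero F
    · exact ⟨0, fun i => i.elim0, ⟨hz.iso (isZero_sigma_fin_zero _)⟩⟩
    · obtain ⟨K, ⟨e⟩⟩ := step F hF hz
      obtain ⟨-, hlt⟩ := finrank_H0_add_one_le_of_biprod 0 k F K hF m₁ m₁ le_rfl e
      omega
  | succ N ih =>
    intro F hF hN
    by_cases hz : IsZero F
    · exact ⟨0, fun i => i.elim0, ⟨hz.iso (isZero_sigma_fin_zero _)⟩⟩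
    · obtain ⟨K, ⟨e⟩⟩ := step F hF hz
      obtain ⟨hKc, hlt⟩ := finrank_H0_add_one_le_of_biprod 0 k F K hF m₁ m₁ le_rfl e
      obtain ⟨r, a, ⟨e'⟩⟩ := ih K hKc (by omega)
      let d : Fin (r + 1) → ℤ := Fin.cons (-m₁) a
      obtain ⟨e₃⟩ := nonempty_sigma_succ_iso r
        (fun i : Fin (r + 1) => Twist.twistProjSpace 0 k (d i))
      have e₄ : K ≅ ∐ fun i : Fin r => Twist.twistProjSpace 0 k (d i.succ) := e'
      exact ⟨r + 1, d, ⟨e ≪≫ biprod.braiding _ _ ≪≫ biprod.isoCoprod _ _ ≪≫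
        coprod.mapIso (Iso.refl _) e₄ ≪≫ e₃.symm⟩⟩

/-- the rank of a direct sum of `r'` twisting sheaves is `r'`. -/
theorem rank_eq_of_iso_sigma (r r' : ℕ) (a : Fin r' → ℤ) (E : (CohB1.ProjSpace n k).Modules)
    (hE : FlatMod.IsFinLocFreeOfRank r E)
    (e : E ≅ ∐ fun j : Fin r' => Twist.twistProjSpace n k (a j)) : r' = r := by
  have h1 : FlatMod.IsFinLocFreeOfRank (∑ _l : Fin r', 1)
      (∐ fun j : Fin r' => Twist.twistProjSpace n k (a j)) :=
    Groth.Agent.Lib.T2H3.ConormalInter.isFinLocFreeOfRank_sigma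
      (fun j : Fin r' => Twist.twistProjSpace n k (a j)) (fun _ => 1)
      (fun l => Groth.Agent.Lib.Helper23.SecTw.isFinLocFreeOfRank_one_of_isInvertible _
        (isInvertible_twist n k (a l)))
  have h2 : FlatMod.IsFinLocFreeOfRank (∑ _l : Fin r', 1) E :=
    Groth.Agent.Lib.Helper26.ModRank.isFinLocFreeOfRank_of_iso e.symm h1
  have hne : Nonempty (CohB1.ProjSpace n k) := inferInstance
  have h3 : (∑ _l : Fin r', 1) = r :=
    le_antisymm (Groth.Agent.Lib.T2H6.CurveSub.rank_le_of_mono (𝟙 E) _ r h2 hE)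
      (Groth.Agent.Lib.T2H6.CurveSub.rank_le_of_mono (𝟙 E) r _ hE h2)
  simpa using h3

/-- **Horrocks' splitting criterion** for vector bundles on `P^n_k`, all `n`. -/
theorem horrocks_all (r : ℕ) (E : (CohB1.ProjSpace n k).Modules)
    (hE : FlatMod.IsFinLocFreeOfRank r E) :
    (∃ a : Fin r → ℤ, Nonempty (E ≅ ∐ fun j : Fin r => Twist.twistProjSpace n k (a j))) ↔
      ∀ (i : ℕ) (d : ℤ), 0 < i → i < n →
        Subsingleton (Coh.HH (CohB1.ProjSpace n k)
          (CohB1.tensorMod E (Twist.twistProjSpace n k d)) i) := by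
  have hEc : Coh.IsCoh E := Groth.Agent.Lib.T2H6.RankAdd.isCoh_of_isFinLocFreeOfRank E r hE
  constructor
  · rintro ⟨a, ⟨e⟩⟩ i d hi hin
    have hn : 1 ≤ n := by omega
    exact (vanishing_of_iso_sigma n k hn r a E e).2 d i hi hin
  · intro hvan
    have hex : ∃ (r' : ℕ) (a : Fin r' → ℤ),
        Nonempty (E ≅ ∐ fun j : Fin r' => Twist.twistProjSpace n k (a j)) := by
      rcases Nat.eq_zero_or_pos n with rfl | hn
      · exact exists_iso_sigma_zero k 0 _ E hEc le_rfl
      · obtain ⟨d₀, hd₀⟩ := Groth.Agent.Lib.T2H5.SerrePn.serre_vanishing n k E hEc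
        have hreg : Curv2.IsMRegular k n E (d₀ + n) := by
          intro i hi hin
          have hle : (i : ℤ) ≤ n := by exact_mod_cast hin
          exact hd₀ (d₀ + n - i) (by omega) i hi
        obtain ⟨n₀, hn₀⟩ := exists_forall_subsingleton_H0 n k hn r E hE
        exact exists_iso_sigma_of_vanishing n k hn (d₀ + n) n₀ _ E hEc hreg hn₀
          (fun j i hi hin => hvan i j hi hin) le_rfl
    obtain ⟨r', a, ⟨e⟩⟩ := hex
    have hr := rank_eq_of_iso_sigma n k r r' a E hE e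
    subst hr
    exact ⟨a, ⟨e⟩⟩

end Split

end Groth.Agent.Lib.T2H6.Horrocks
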