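import Mathlib

/-!
# Weak Hurwitz inequality, part A: generic nondegeneracy of the trace form (T2H6)

For a finite free extension of domains `R ⊆ B` whose extension of fraction fields is separable, the only
`b : B` with `Tr(b a) = 0` for all `a` is `b = 0`.
-/

set_option autoImplicit false
set_option linter.style.haveILetI false
universe u

namespace Groth.Agent.Lib.T2H6.Hurw

open scoped nonZeroDivisors

/-- the trace form of a finite free generically separable extension of domains has no radical. -/
theorem eq_zero_of_trace_mul_eq_zero {R B K L : Type*} [CommRing R] [IsDomain R] [CommRing B]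
    [IsDomain B] [Algebra R B] [Module.Free R B] [Module.Finite R B] [FaithfulSMul R B]
    [Field K] [Field L] [Algebra R K] [IsFractionRing R K] [Algebra B L] [IsFractionRing B L]
    [Algebra K L] [Algebra R L] [IsScalarTower R K L] [IsScalarTower R B L]
    [Algebra.IsSeparable K L] (b : B) (h : ∀ a : B, Algebra.trace R B (b * a) = 0) : b = 0 := by
  haveI : Algebra.IsAlgebraic R B := Algebra.IsIntegral.isAlgebraic
  haveI : IsLocalization (Algebra.algebraMapSubmonoid B R⁰) L := inferInstance
  haveI : FiniteDimensional K L := Module.Finite.of_isLocalization R B R⁰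
  have hnd := traceForm_nondegenerate K L
  have hz : algebraMap B L b = 0 := by
    apply hnd.1
    intro x
    obtain ⟨⟨a, s⟩, hx⟩ := IsLocalization.surj (Algebra.algebraMapSubmonoid B R⁰) x
    obtain ⟨r, hr, hrs⟩ := s.2
    have hr0 : algebraMap R K r ≠ 0 := by
      intro h0
      exact (nonZeroDivisors.ne_zero hr) ((IsFractionRing.injective R K) (by rw [h0, map_zero]))
    have hx' : x * algebraMap B L (algebraMap R B r) = algebraMap B L a := by
      rw [hrs]; exact hx
    have hx2 : algebraMap R K r • x = algebraMap B L a := by
      rw [Algebra.smul_def, ← IsScalarTower.algebraMap_apply R K L, IsScalarTower.algebraMap_apply R B L,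
        mul_comm]
      exact hx'
    rw [Algebra.traceForm_apply]
    have h1 : algebraMap R K r • (algebraMap B L b * x) = algebraMap B L (b * a) := by
      rw [map_mul, ← hx2]
      exact (mul_smul_comm (algebraMap R K r) (algebraMap B L b) x).symm
    have h2 : Algebra.trace K L (algebraMap R K r • (algebraMap B L b * x)) = 0 := by
      rw [h1, Algebra.trace_localization R R⁰ (Rₘ := K) (Sₘ := L), h, map_zero]
    rw [map_smul, smul_eq_mul] at h2
    exact (mul_eq_zero.1 h2).resolve_left hr0
  exact (IsFractionRing.injective B L) (by rw [hz, map_zero])

end Groth.Agent.Lib.T2H6.Hurw
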