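import Mathlib
import Groth.Agent.Lib.T2H6EtCovB
import Groth.Agent.Lib.Helper18Tens1
import Groth.Agent.Lib.T2H9CurveOmega

/-!
# Weak Hurwitz inequality, part B: the trace pairing of a finite locally free algebra (T2H6)

For a quasi-coherent algebra `A` on `Y`, finite locally free as a module, the trace pairing
`A ⊗ A ⟶ O_Y`, and the induced injection `Hom(N, A) ↪ Hom(N ⊗ A, O_Y)` when the trace form is
nondegenerate on good opens.
-/

set_option autoImplicit false
set_option linter.style.haveILetI false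
set_option linter.unusedSectionVars false
set_option linter.unusedVariables false
universe u
open CategoryTheory CategoryTheory.Limits AlgebraicGeometry TopologicalSpace Opposite TensorProduct
  MonoidalCategory

namespace Groth.Agent.Lib.T2H6.Hurw

open Groth.Agent.Helper18Trace Groth.Agent.Lib.T2H5.Twist Groth.Agent.Lib.T2H6.EtCov

section general

variable {Y : Scheme.{u}}

/-- `(g ⊗ P)(m ⊗ p) = g(m) ⊗ p` on sections. -/
theorem tr_map_tmul {M N : Y.Modules} (P : Y.Modules) (g : M ⟶ N) (U : Y.Opens)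
    (m : M.val.obj (op U)) (p : P.val.obj (op U)) :
    (((tr P).map g).val.app (op U)).hom (SecTwist.tmul M P U m p) =
      SecTwist.tmul N P U ((g.val.app (op U)).hom m) p := by
  let adj := PresheafOfModules.sheafificationAdjunction.{u, u, u, u}
    (J := Opens.grothendieckTopology Y) (𝟙 Y.ringCatSheaf.obj)
  let g' : CohB1.toPMod M ⟶ CohB1.toPMod N := g.val
  let φ' : CohB1.tensorPre M P ⟶ CohB1.tensorPre N P := g' ▷ CohB1.toPMod P
  let φ : (CohB1.tensorPre M P : Y.PresheafOfModules) ⟶ CohB1.tensorPre N P := φ'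
  let x : ↥((CohB1.tensorPre M P).obj (op U)) := m ⊗ₜ p
  have natU : ((adj.unit.app (CohB1.tensorPre N P)).app (op U)).hom ((φ.app (op U)).hom x) =
      ((((CohB1.sheafifyMod Y).map φ).val.app (op U)).hom
        (((adj.unit.app (CohB1.tensorPre M P)).app (op U)).hom x)) :=
    congrArg (fun ψ => (PresheafOfModules.Hom.app ψ (op U)).hom x) (adj.unit.naturality φ)
  exact natU.symm

end general

section pairing

variable {Y : Scheme.{u}} (A : RelSpec.QCAlg Y) (hA : FlatMod.IsFinLocFree A.toModule)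

/-- restriction of sections of `A`, `homOfLE` form. -/
theorem map_eq_res {U V : Y.Opens} (i : op U ⟶ op V) (a : A.presheaf.obj (op U)) :
    (A.presheaf.map i).hom a = (A.presheaf.map (homOfLE (leOfHom i.unop)).op).hom a := rfl

/-- the bilinear family `(a, b) ↦ Tr(a b)`. -/
noncomputable def pairFun (Z : (Opens Y)ᵒᵖ) (a b : A.toModule.val.obj Z) :
    (Coh.structureModule Y).val.obj Z :=
  traceSec A hA Z.unop (@HMul.hMul (A.presheaf.obj Z) (A.presheaf.obj Z) _ _ a b)

theorem pairFun_add_left (Z : (Opens Y)ᵒᵖ) (m₁ m₂ n : A.toModule.val.obj Z) :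
    pairFun A hA Z (m₁ + m₂) n = pairFun A hA Z m₁ n + pairFun A hA Z m₂ n := by
  change traceSec A hA Z.unop (@HMul.hMul (A.presheaf.obj Z) (A.presheaf.obj Z) _ _
    (@HAdd.hAdd (A.presheaf.obj Z) (A.presheaf.obj Z) _ _ m₁ m₂) n) = _
  rw [add_mul, map_add]
  rfl

theorem pairFun_add_right (Z : (Opens Y)ᵒᵖ) (m n₁ n₂ : A.toModule.val.obj Z) :
    pairFun A hA Z m (n₁ + n₂) = pairFun A hA Z m n₁ + pairFun A hA Z m n₂ := by
  change traceSec A hA Z.unop (@HMul.hMul (A.presheaf.obj Z) (A.presheaf.obj Z) _ _ m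
    (@HAdd.hAdd (A.presheaf.obj Z) (A.presheaf.obj Z) _ _ n₁ n₂)) = _
  rw [mul_add, map_add]
  rfl

theorem pairFun_smul_left (Z : (Opens Y)ᵒᵖ) (a : Y.ringCatSheaf.obj.obj Z)
    (m n : A.toModule.val.obj Z) :
    pairFun A hA Z (a • m) n = a • pairFun A hA Z m n := by
  change traceSec A hA Z.unop (@HMul.hMul (A.presheaf.obj Z) (A.presheaf.obj Z) _ _
    (@HMul.hMul (A.presheaf.obj Z) (A.presheaf.obj Z) _ _ ((A.str.app Z).hom a) m) n) =
    @HMul.hMul Γ(Y, Z.unop) Γ(Y, Z.unop) _ _ a (traceSec A hA Z.unop _)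
  rw [mul_assoc]
  exact traceSec_smul A hA Z.unop a _

theorem pairFun_smul_right (Z : (Opens Y)ᵒᵖ) (a : Y.ringCatSheaf.obj.obj Z)
    (m n : A.toModule.val.obj Z) :
    pairFun A hA Z m (a • n) = a • pairFun A hA Z m n := by
  change traceSec A hA Z.unop (@HMul.hMul (A.presheaf.obj Z) (A.presheaf.obj Z) _ _ m
    (@HMul.hMul (A.presheaf.obj Z) (A.presheaf.obj Z) _ _ ((A.str.app Z).hom a) n)) =
    @HMul.hMul Γ(Y, Z.unop) Γ(Y, Z.unop) _ _ a (traceSec A hA Z.unop _)
  rw [mul_left_comm]
  exact traceSec_smul A hA Z.unop a _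

theorem pairFun_nat {Z W : (Opens Y)ᵒᵖ} (f : Z ⟶ W) (m n : A.toModule.val.obj Z) :
    (Coh.structureModule Y).val.map f (pairFun A hA Z m n) =
      pairFun A hA W (A.toModule.val.map f m) (A.toModule.val.map f n) := by
  change (Y.presheaf.map f).hom (traceSec A hA Z.unop
      (@HMul.hMul (A.presheaf.obj Z) (A.presheaf.obj Z) _ _ m n)) =
    traceSec A hA W.unop (@HMul.hMul (A.presheaf.obj W) (A.presheaf.obj W) _ _
      ((A.presheaf.map f).hom m) ((A.presheaf.map f).hom n))
  rw [← map_mul]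
  exact traceSec_res A hA (leOfHom f.unop) _

/-- the trace pairing `A ⊗ A ⟶ O_Y`, `a ⊗ b ↦ Tr(a b)`. -/
noncomputable def pairing : CohB1.tensorMod A.toModule A.toModule ⟶ Coh.structureModule Y :=
  Groth.Agent.Helper18Tens.ofBilinSch A.toModule A.toModule (Coh.structureModule Y)
    (pairFun A hA) (pairFun_add_left A hA) (pairFun_smul_left A hA) (pairFun_add_right A hA)
    (pairFun_smul_right A hA) (pairFun_nat A hA)

theorem pairing_tmul (U : Y.Opens) (a b : A.presheaf.obj (op U)) :
    ((pairing A hA).val.app (op U)).hom (SecTwist.tmul A.toModule A.toModule U a b) =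
      traceSec A hA U (a * b) :=
  Groth.Agent.Helper18Tens.ofBilinSch_tmul A.toModule A.toModule (Coh.structureModule Y)
    (pairFun A hA) (pairFun_add_left A hA) (pairFun_smul_left A hA) (pairFun_add_right A hA)
    (pairFun_smul_right A hA) (pairFun_nat A hA) U a b

/-- the trace form has no radical on good opens. -/
def IsNondeg : Prop :=
  ∀ (W : Y.Opens), IsGood A W → ∀ b : A.presheaf.obj (op W),
    (∀ a : A.presheaf.obj (op W), traceHom A W (b * a) = 0) → b = 0

variable {A}

/-- **the trace pairing induces an injection `Hom(N, A) ↪ Hom(N ⊗ A, O_Y)`.** -/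
theorem eq_zero_of_map_comp_pairing (hnd : IsNondeg A) {N : Y.Modules} (s : N ⟶ A.toModule)
    (h : (tr A.toModule).map s ≫ pairing A hA = 0) : s = 0 := by
  refine Scheme.Modules.hom_ext _ _ fun U => ?_
  ext l
  change (show A.presheaf.obj (op U) from (s.val.app (op U)).hom l) = 0
  apply eq_of_good' A hA
  intro W hW hWU
  rw [map_zero]
  apply hnd W hW
  intro a
  have hnat : (A.presheaf.map (homOfLE hWU).op).hom
      (show A.presheaf.obj (op U) from (s.val.app (op U)).hom l) =
      (s.val.app (op W)).hom (N.val.map (homOfLE hWU).op l) :=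
    (PresheafOfModules.naturality_apply s.val (homOfLE hWU).op l).symm
  rw [hnat, ← traceSec_good A hA hW, ← pairing_tmul A hA W]
  have h1 := tr_map_tmul A.toModule s W (N.val.map (homOfLE hWU).op l) a
  rw [← h1]
  have h2 : (((tr A.toModule).map s ≫ pairing A hA).val.app (op W)).hom
      (SecTwist.tmul N A.toModule W (N.val.map (homOfLE hWU).op l) a) = 0 := by
    rw [h]; rfl
  exact h2

end pairing

section field

variable (k : Type u) [Field k] {Y : Scheme.{u}} [Y.Over (Spec (CommRingCat.of k))]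
  {A : RelSpec.QCAlg Y} (hA : FlatMod.IsFinLocFree A.toModule)

open Groth.Agent.Lib.T2H9.CurveOmega

/-- the injection `Hom(N, A) ↪ Hom(N ⊗ A, O_Y)` as a `k`-linear map. -/
noncomputable def psiLin (N : Y.Modules) :
    (N ⟶ A.toModule) →ₗ[k] (CohB1.tensorMod N A.toModule ⟶ Coh.structureModule Y) :=
  (Linear.rightComp k _ (pairing A hA)) ∘ₗ ((tr A.toModule).mapLinearMap k)

theorem psiLin_injective (hnd : IsNondeg A) (N : Y.Modules) :
    Function.Injective (psiLin k hA N) := by
  rw [← LinearMap.ker_eq_bot, LinearMap.ker_eq_bot']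
  intro s hs
  exact eq_zero_of_map_comp_pairing hA hnd s hs

include hA in
theorem finrank_hom_le (hnd : IsNondeg A) (N : Y.Modules)
    [Module.Finite k (CohB1.tensorMod N A.toModule ⟶ Coh.structureModule Y)] :
    Module.finrank k (N ⟶ A.toModule) ≤
      Module.finrank k (CohB1.tensorMod N A.toModule ⟶ Coh.structureModule Y) :=
  LinearMap.finrank_le_finrank_of_injective (psiLin_injective k hA hnd N)

end field

end Groth.Agent.Lib.T2H6.Hurw
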