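import Mathlib
import Groth.Agent.Lib.T2H9CurveOmega

/-!
# Weak Hurwitz inequality, part C: the dualizing module of a regular proper curve, without `h⁰(O) = 1` (T2H6)

Generalises `T2H9CurveOmega`: on a regular integral proper curve over a field (no assumption on `H⁰(O)`), the
dualizing module is invertible of degree `-2 χ(O)`.
-/

set_option autoImplicit false
set_option linter.style.haveILetI false
set_option linter.unusedSectionVars false
set_option linter.unusedVariables false
universe u

open CategoryTheory CategoryTheory.Limits AlgebraicGeometry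

namespace Groth.Agent.Lib.T2H6.Hurw

open Groth.Agent.Lib.T2H5.Twist Groth.Agent.Lib.T2H9.TensorInv Groth.Agent.Lib.T2H6.CurveSerre
  Groth.Agent.Lib.T2H6.HHLin Groth.Agent.Lib.T2H9.VBSimple Groth.Agent.Lib.T2H9.CurveDual
  Groth.Agent.Lib.T2H6.CurveSS2 Groth.Agent.Lib.T2H6.ParShA Groth.Agent.Lib.T2H9.CurveOmega

section curve

variable {k : Type u} [Field k] {X : Scheme.{u}} [X.Over (Spec (CommRingCat.of k))]
  [IsProper (X ↘ Spec (CommRingCat.of k))] [IsIntegral X]
  {ω : X.Modules} {tr' : Coh.HH X ω 1 →ₗ[k] k} (hd : Canon.IsRDualOver k X 1 ω tr')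
  (hdim : topologicalKrullDim X = 1) (hω : Coh.IsCoh ω)

include hd hdim hω in
/-- `h⁰(ω ⊗ N) = deg N - χ(O)` for `N` invertible of positive degree. -/
theorem finrank_h0_omega_tensor' (N : X.Modules) (hN : PicF.IsInvertible N)
    (hn : 0 < Curv2.deg k X N 1) :
    (Module.finrank k (Coh.HH X (CohB1.tensorMod ω N) 0) : ℤ) =
      Curv2.deg k X N 1 - Curv2.euler k X (Coh.structureModule X) := by
  have hiN := isInvertible_inv N hN
  have hc := Groth.Agent.Lib.T2H6.CurveDeg.isCoh_of_isInvertible _ hiN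
  haveI := hc.1
  rw [← finrank_hom_inv k N hN ω, finrank_hom_omega hd (inv N) hc]
  have hdeg : Curv2.deg k X (inv N) 1 = - Curv2.deg k X N 1 :=
    Groth.Agent.Lib.T2H6.PtTwistD.deg_inv k hdim N hN
  haveI := subsingleton_h0_of_deg_neg hdim (inv N) hiN (by rw [hdeg]; linarith)
  have e1 := Groth.Agent.Lib.T2H6.CurveRR.euler_eq_sub k hdim (inv N)
  rw [Module.finrank_zero_of_subsingleton] at e1
  unfold Curv2.deg at hdeg
  push_cast at e1 hdeg
  unfold Curv2.deg
  push_cast
  linarith

include hd hdim hω in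
/-- the key inequality `ρ · deg N + χ(ω) ≤ deg N - χ(O)`. -/
theorem grank_mul_deg_le' (N : X.Modules) (hN : PicF.IsInvertible N)
    (hn : 0 < Curv2.deg k X N 1) :
    (grank ω : ℤ) * Curv2.deg k X N 1 + Curv2.euler k X ω ≤
      Curv2.deg k X N 1 - Curv2.euler k X (Coh.structureModule X) := by
  have hN1 := Groth.Agent.Lib.Helper23.SecTw.isFinLocFreeOfRank_one_of_isInvertible _ hN
  have hχ := Groth.Agent.Lib.T2H6.TensorDeg.tensor_euler k hdim N 1 hN1 ω hω
  have hc := Groth.Agent.Lib.T2H6.TensorDeg.isCoh_tensor ω N hω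
    (Groth.Agent.Lib.T2H6.CurveDeg.isCoh_of_isInvertible _ hN)
  haveI := hc.1
  have e1 := Groth.Agent.Lib.T2H6.CurveRR.euler_eq_sub k hdim (CohB1.tensorMod ω N)
  have h := finrank_h0_omega_tensor' hd hdim hω N hN hn
  have hnn : (0 : ℤ) ≤ Module.finrank k (Coh.HH X (CohB1.tensorMod ω N) 1) := Int.natCast_nonneg _
  push_cast at hχ
  linarith

include hd hdim hω in
/-- **the dualizing module of a regular proper curve has rank one** (no hypothesis on `H⁰(O)`). -/
theorem grank_omega' (hreg : ∀ x : X, IsRegularLocalRing (X.presheaf.stalk x)) : grank ω = 1 := by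
  obtain ⟨N₀, hN₀, hd₀⟩ := exists_invertible_deg_pos k hdim hreg (X := X)
  have hle : grank ω ≤ 1 := by
    by_contra hgt
    rw [not_le] at hgt
    set C := - Curv2.euler k X (Coh.structureModule X) - Curv2.euler k X ω with hC
    set m := C.toNat + 1 with hm
    have hNm := Groth.Agent.Lib.Helper23.SecTw.isInvertible_tensorPow hN₀ m
    have hdm : Curv2.deg k X (CohB1.tensorPow N₀ m) 1 = m * Curv2.deg k X N₀ 1 :=
      deg_tensorPow k hdim N₀ hN₀ m
    have hmpos : (0 : ℤ) < m := by rw [hm]; positivity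
    have hpos : 0 < Curv2.deg k X (CohB1.tensorPow N₀ m) 1 := by
      rw [hdm]; positivity
    have key := grank_mul_deg_le' hd hdim hω _ hNm hpos
    have h2 : (2 : ℤ) ≤ (grank ω : ℤ) := by exact_mod_cast hgt
    have h3 : (2 : ℤ) * Curv2.deg k X (CohB1.tensorPow N₀ m) 1 ≤
        (grank ω : ℤ) * Curv2.deg k X (CohB1.tensorPow N₀ m) 1 :=
      mul_le_mul_of_nonneg_right h2 hpos.le
    have h4 : Curv2.deg k X (CohB1.tensorPow N₀ m) 1 ≤ C := by rw [hC]; linarith
    have h5 : (m : ℤ) ≤ Curv2.deg k X (CohB1.tensorPow N₀ m) 1 := by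
      rw [hdm]
      have : (1 : ℤ) ≤ Curv2.deg k X N₀ 1 := hd₀
      nlinarith
    have h6 : C < (m : ℤ) := by
      rw [hm]
      push_cast
      have := Int.self_le_toNat C
      linarith
    linarith
  have hne : grank ω ≠ 0 := by
    intro hz
    have hlf := isFinLocFreeOfRank_omega hd hdim hreg hω
    rw [hz] at hlf
    have hzero := Groth.Agent.Lib.T2H6.CurveVB.isZero_of_rank_zero ω hlf
    have hval : ∀ m : ℕ, 0 < m → (m : ℤ) * Curv2.deg k X N₀ 1 =
        Curv2.euler k X (Coh.structureModule X) := by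
      intro m hm
      have hNm := Groth.Agent.Lib.Helper23.SecTw.isInvertible_tensorPow hN₀ m
      have hdm : Curv2.deg k X (CohB1.tensorPow N₀ m) 1 = m * Curv2.deg k X N₀ 1 :=
        deg_tensorPow k hdim N₀ hN₀ m
      have hmpos : (0 : ℤ) < m := by exact_mod_cast hm
      have hpos : 0 < Curv2.deg k X (CohB1.tensorPow N₀ m) 1 := by
        rw [hdm]; positivity
      have h1 := finrank_h0_omega_tensor' hd hdim hω _ hNm hpos
      rw [← finrank_hom_inv k _ hNm ω] at h1
      haveI : Subsingleton (inv (CohB1.tensorPow N₀ m) ⟶ ω) := ⟨fun a b => hzero.eq_of_tgt a b⟩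
      rw [Module.finrank_zero_of_subsingleton] at h1
      push_cast at h1
      rw [hdm] at h1
      linarith
    have h1 := hval 1 one_pos
    have h2 := hval 2 (by norm_num)
    push_cast at h1 h2
    linarith
  omega

include hd hdim hω in
/-- **the dualizing module of a regular proper curve is invertible** (no hypothesis on `H⁰(O)`). -/
theorem isInvertible_omega' (hreg : ∀ x : X, IsRegularLocalRing (X.presheaf.stalk x)) :
    PicF.IsInvertible ω := by
  have hlf := isFinLocFreeOfRank_omega hd hdim hreg hω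
  rw [grank_omega' hd hdim hω hreg] at hlf
  exact Groth.Agent.Lib.T2H6.CurveExt.isInvertible_of_rank_one ω hlf

include hd hdim hω in
/-- `deg ω = -2 χ(O)`. -/
theorem deg_omega' (hinv : PicF.IsInvertible ω) :
    Curv2.deg k X ω 1 = -2 * Curv2.euler k X (Coh.structureModule X) := by
  haveI := hω.1
  have hO := Groth.Agent.Lib.T2H5.GenIsoF.isCoh_structureModule (Z := X)
  haveI : (Coh.structureModule X).IsQuasicoherent := hO.1
  have e1 := Groth.Agent.Lib.T2H6.CurveRR.euler_eq_sub k hdim ω
  have eO := Groth.Agent.Lib.T2H6.CurveRR.euler_eq_sub k hdim (Coh.structureModule X)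
  have hg : (Curv2.genus k X : ℤ) = Module.finrank k (Coh.HH X (Coh.structureModule X) 1) := rfl
  rw [finrank_h0_omega hd, finrank_h1_omega hd hω hinv] at e1
  unfold Curv2.deg
  push_cast at e1 eO ⊢
  linarith

end curve

section exist

variable (k : Type u) [Field k] {X : Scheme.{u}} [X.Over (Spec (CommRingCat.of k))]
  [IsProper (X ↘ Spec (CommRingCat.of k))] [IsIntegral X]

/-- **Existence of an invertible dualizing module of degree `-2 χ(O)`** on a regular integral proper curve. -/
theorem exists_omega' (hdim : topologicalKrullDim X = 1)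
    (hreg : ∀ x : X, IsRegularLocalRing (X.presheaf.stalk x)) :
    ∃ (ω : X.Modules) (tr' : Coh.HH X ω 1 →ₗ[k] k), Canon.IsRDualOver k X 1 ω tr' ∧ Coh.IsCoh ω ∧
      PicF.IsInvertible ω ∧ Curv2.deg k X ω 1 = -2 * Curv2.euler k X (Coh.structureModule X) := by
  obtain ⟨ω, tr', hω, hd⟩ := exists_dualizing k (X := X) hdim.le
  have hinv := isInvertible_omega' hd hdim hω hreg
  exact ⟨ω, tr', hd, hω, hinv, deg_omega' hd hdim hω hinv⟩

end exist

end Groth.Agent.Lib.T2H6.Hurw
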