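import Mathlib
import Groth.Agent.Lib.T2H6HurwA
import Groth.Agent.Lib.T2H6HurwB
import Groth.Agent.Lib.T2H6EtCovC
import Groth.Agent.Lib.T2H6CurveVB
import Groth.Agent.Lib.T2H3FibFlatCons

/-!
# Weak Hurwitz inequality, part D: finite dominant morphisms onto regular curves (T2H6)

For `f : X ⟶ Y` finite, `X`, `Y` integral, `f` dominant, `Y` regular of dimension `≤ 1`: `f` is flat,
`f_* O_X` is finite locally free, and if `K(X)/K(Y)` is separable the trace form of `f_* O_X` is
nondegenerate on good opens.
-/

set_option autoImplicit false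
set_option linter.style.haveILetI false
set_option linter.unusedSectionVars false
set_option linter.unusedVariables false
universe u
open CategoryTheory CategoryTheory.Limits AlgebraicGeometry TopologicalSpace Opposite

namespace Groth.Agent.Lib.T2H6.Hurw

open Groth.Agent.Helper18Trace Groth.Agent.Lib.T2H6.EtCov

section dominant

variable {X Y : Scheme.{u}} [IsIntegral X] [IsIntegral Y] (f : X ⟶ Y)
  (e : f (genericPoint X) = genericPoint Y)

/-- the induced map of function fields. -/
noncomputable def ffMap : Y.functionField ⟶ X.functionField :=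
  Y.presheaf.stalkSpecializes (specializes_of_eq e) ≫ f.stalkMap (genericPoint X)

theorem ffMap_square (x : X) :
    Y.presheaf.stalkSpecializes ((genericPoint_spec Y).specializes trivial : genericPoint Y ⤳ f x) ≫
        ffMap f e =
      f.stalkMap x ≫ X.presheaf.stalkSpecializes
        ((genericPoint_spec X).specializes trivial : genericPoint X ⤳ x) := by
  unfold ffMap
  rw [← Category.assoc, TopCat.Presheaf.stalkSpecializes_comp]
  exact Scheme.Hom.stalkSpecializes_stalkMap f (genericPoint X) x
    ((genericPoint_spec X).specializes trivial)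

theorem ffMap_injective : Function.Injective (ffMap f e).hom :=
  RingHom.injective (ffMap f e).hom

theorem ffMap_algebraMap (x : X) (s : Y.presheaf.stalk (f x)) :
    (ffMap f e).hom (algebraMap (Y.presheaf.stalk (f x)) Y.functionField s) =
      algebraMap (X.presheaf.stalk x) X.functionField ((f.stalkMap x).hom s) :=
  congr($(ffMap_square f e x) s)

include e in
/-- the stalk maps of a dominant morphism of integral schemes are injective. -/
theorem stalkMap_injective (x : X) : Function.Injective (f.stalkMap x).hom := by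
  rw [injective_iff_map_eq_zero]
  intro s hs
  have h1 := ffMap_algebraMap f e x s
  rw [hs, map_zero] at h1
  have h2 : algebraMap (Y.presheaf.stalk (f x)) Y.functionField s = 0 :=
    ffMap_injective f e (by rw [h1, map_zero])
  exact (IsFractionRing.injective (Y.presheaf.stalk (f x)) Y.functionField) (by rw [h2, map_zero])

theorem ffMap_germ (W : Y.Opens) [Nonempty W] [h : Nonempty (f ⁻¹ᵁ W)] (r : Γ(Y, W)) :
    (ffMap f e).hom (Y.germToFunctionField W r) = X.germToFunctionField (f ⁻¹ᵁ W) (f.app W r) := by
  have hxW : genericPoint X ∈ f ⁻¹ᵁ W :=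
    ((genericPoint_spec X).mem_open_set_iff (f ⁻¹ᵁ W).isOpen).mpr
      (by obtain ⟨⟨x, hx⟩⟩ := h; exact ⟨x, trivial, hx⟩)
  have h1 : Y.germToFunctionField W ≫ Y.presheaf.stalkSpecializes (specializes_of_eq e) =
      Y.presheaf.germ W (f (genericPoint X)) hxW :=
    Y.presheaf.germ_stalkSpecializes _ _
  have h2 := Scheme.Hom.germ_stalkMap f W (genericPoint X) hxW
  have h3 : Y.germToFunctionField W ≫ ffMap f e =
      f.app W ≫ X.germToFunctionField (f ⁻¹ᵁ W) := by
    unfold ffMap
    rw [← Category.assoc, h1, h2]
  exact congr($h3 r)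

include e in
/-- **a finite (or any) dominant morphism from an integral scheme to a regular integral scheme of dimension
`≤ 1` is flat.** -/
theorem flat_of_regular [IsLocallyNoetherian Y] (hdim : topologicalKrullDim Y ≤ 1)
    (hreg : ∀ y : Y, IsRegularLocalRing (Y.presheaf.stalk y)) : Flat f := by
  rw [Flat.iff_flat_stalkMap]
  intro x
  haveI := Groth.Agent.Lib.T2H6.CurveVB.isPrincipalIdealRing_stalk hdim hreg (f x)
  letI := (f.stalkMap x).hom.toAlgebra
  change Module.Flat (Y.presheaf.stalk (f x)) (X.presheaf.stalk x)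
  rw [Module.Flat.flat_iff_torsion_eq_bot_of_isBezout, Submodule.eq_bot_iff]
  intro s hs
  rw [Submodule.mem_torsion_iff] at hs
  obtain ⟨a, ha⟩ := hs
  have h1 : (f.stalkMap x).hom a.1 * s = 0 := ha
  rcases mul_eq_zero.1 h1 with h | h
  · exfalso
    have : a.1 = 0 := stalkMap_injective f e x (by rw [h, map_zero])
    exact nonZeroDivisors.ne_zero a.2 this
  · exact h

theorem isFinLocFree_directImage' [IsFinite f] [Flat f] [LocallyOfFinitePresentation f] :
    FlatMod.IsFinLocFree (RelSpec.QCAlg.directImage f).toModule :=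
  Groth.Agent.Lib.Helper26.ModLocFree.isFinLocFree_of_iso (pushIso f).symm
    (Groth.Agent.Helper18FinFlat.pushforward_isFinLocFree f
      ⟨inferInstance, inferInstance, inferInstance⟩)

/-- **generic separability makes the trace form of `f_* O_X` nondegenerate on good opens.** -/
theorem isNondeg_directImage [IsFinite f]
    (hsep : letI := (ffMap f e).hom.toAlgebra
      Algebra.IsSeparable Y.functionField X.functionField) :
    IsNondeg (RelSpec.QCAlg.directImage f) := by
  intro W hW b hb
  by_cases hne : Nonempty W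
  · haveI := hne
    have hgW : genericPoint Y ∈ W :=
      ((genericPoint_spec Y).mem_open_set_iff W.isOpen).mpr
        (by obtain ⟨⟨y, hy⟩⟩ := hne; exact ⟨y, trivial, hy⟩)
    haveI hne' : Nonempty (f ⁻¹ᵁ W) := ⟨⟨genericPoint X, by
      change f (genericPoint X) ∈ W
      rw [e]; exact hgW⟩⟩
    letI : Algebra Γ(Y, W) Γ(X, f ⁻¹ᵁ W) := (f.app W).hom.toAlgebra
    haveI : Module.Free Γ(Y, W) Γ(X, f ⁻¹ᵁ W) := hW.2.1
    haveI : Module.Finite Γ(Y, W) Γ(X, f ⁻¹ᵁ W) := hW.2.2
    letI : Algebra Y.functionField X.functionField := (ffMap f e).hom.toAlgebra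
    haveI : IsFractionRing Γ(Y, W) Y.functionField :=
      functionField_isFractionRing_of_isAffineOpen Y W hW.1
    haveI : IsFractionRing Γ(X, f ⁻¹ᵁ W) X.functionField :=
      functionField_isFractionRing_of_isAffineOpen X (f ⁻¹ᵁ W) (hW.1.preimage f)
    letI : Algebra Γ(Y, W) X.functionField :=
      ((algebraMap Y.functionField X.functionField).comp
        (algebraMap Γ(Y, W) Y.functionField)).toAlgebra
    haveI : IsScalarTower Γ(Y, W) Y.functionField X.functionField :=
      IsScalarTower.of_algebraMap_eq (fun _ => rfl)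
    haveI : IsScalarTower Γ(Y, W) Γ(X, f ⁻¹ᵁ W) X.functionField :=
      IsScalarTower.of_algebraMap_eq (fun r => ffMap_germ f e W r)
    haveI : FaithfulSMul Γ(Y, W) Γ(X, f ⁻¹ᵁ W) := by
      rw [faithfulSMul_iff_algebraMap_injective]
      intro r r' hrr
      apply Y.germToFunctionField_injective W
      apply ffMap_injective f e
      rw [ffMap_germ f e W r, ffMap_germ f e W r']
      exact congrArg _ hrr
    haveI : IsDomain Γ(Y, W) := inferInstance
    haveI : IsDomain Γ(X, f ⁻¹ᵁ W) := inferInstance
    exact eq_zero_of_trace_mul_eq_zero (R := Γ(Y, W)) (B := Γ(X, f ⁻¹ᵁ W))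
      (K := Y.functionField) (L := X.functionField) b hb
  · have hW0 : W = ⊥ := by
      ext y
      simp only [Opens.coe_bot, Set.mem_empty_iff_false, iff_false]
      intro hy
      exact hne ⟨⟨y, hy⟩⟩
    haveI : Subsingleton Γ(X, f ⁻¹ᵁ W) := by
      rw [hW0]
      change Subsingleton Γ(X, ⊥)
      infer_instance
    exact Subsingleton.elim (α := Γ(X, f ⁻¹ᵁ W)) _ _

end dominant

end Groth.Agent.Lib.T2H6.Hurw
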