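import Mathlib
import Groth.Agent.Lib.T2H6HurwC
import Groth.Agent.Lib.T2H6HurwD
import Groth.Agent.Lib.T2H6EtCovD
import Groth.Agent.Lib.T2H6FieldBC

/-!
# Weak Hurwitz inequality, part E: `χ(O_X) ≤ n · χ(O_Y)` (T2H6)

For a finite, generically separable `k`-morphism `f : X ⟶ Y` of integral schemes onto a regular proper
curve `Y`, `f_* O_X` is locally free of some rank `n ≥ 1` and `χ(O_X) ≤ n · χ(O_Y)`.
-/

set_option autoImplicit false
set_option linter.style.haveILetI false
set_option linter.unusedSectionVars false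
set_option linter.unusedVariables false
universe u
open CategoryTheory CategoryTheory.Limits AlgebraicGeometry TopologicalSpace Opposite

namespace Groth.Agent.Lib.T2H6.Hurw

open Groth.Agent.Helper18Trace Groth.Agent.Lib.T2H6.EtCov Groth.Agent.Lib.T2H5.Twist
  Groth.Agent.Lib.T2H9.CurveOmega Groth.Agent.Lib.T2H6.CurveSS2 Groth.Agent.Lib.T2H9.TensorInv
  Groth.Agent.Lib.T2H9.CurveDual Groth.Agent.Lib.T2H9.VBSimple Groth.Agent.Lib.T2H6.CurveSerre

section dual

variable {k : Type u} [Field k] {Y : Scheme.{u}} [Y.Over (Spec (CommRingCat.of k))]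
  [IsProper (Y ↘ Spec (CommRingCat.of k))] [IsIntegral Y]
  {ω : Y.Modules} {tr' : Coh.HH Y ω 1 →ₗ[k] k} (hd : Canon.IsRDualOver k Y 1 ω tr')
  (hωc : Coh.IsCoh ω) (hinv : PicF.IsInvertible ω)

include hd hωc hinv in
/-- `Hom(F, O) ≃ H¹(F ⊗ ω)^*` for `F` coherent. -/
theorem nonempty_hom_structure_equiv (F : Y.Modules) (hF : Coh.IsCoh F) :
    Nonempty ((F ⟶ Coh.structureModule Y) ≃ₗ[k] (Coh.HH Y (CohB1.tensorMod F ω) 1 →ₗ[k] k)) := by
  haveI := isEquivalence_tr ω hinv
  have hb : Function.Bijective ((tr ω).mapLinearMap k (X := F) (Y := Coh.structureModule Y)) :=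
    ⟨(tr ω).map_injective, (tr ω).map_surjective⟩
  have hTc : Coh.IsCoh (CohB1.tensorMod F ω) :=
    Groth.Agent.Lib.T2H6.TensorDeg.isCoh_tensor F ω hF hωc
  let e1 : (F ⟶ Coh.structureModule Y) ≃ₗ[k]
      ((tr ω).obj F ⟶ (tr ω).obj (Coh.structureModule Y)) := LinearEquiv.ofBijective _ hb
  let e2 : ((tr ω).obj F ⟶ (tr ω).obj (Coh.structureModule Y)) ≃ₗ[k] (CohB1.tensorMod F ω ⟶ ω) :=
    Linear.homCongr k (Iso.refl _) (Groth.Agent.Lib.Helper23.TensorUnit.unitTensorIso ω)
  let e3 : (CohB1.tensorMod F ω ⟶ ω) ≃ₗ[k] (Coh.HH Y (CohB1.tensorMod F ω) 1 →ₗ[k] k) :=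
    LinearEquiv.ofBijective (dualityLin ω tr' (CohB1.tensorMod F ω)) (hd.2 _ hTc.1)
  exact ⟨e1.trans (e2.trans e3)⟩

include hd hωc hinv in
theorem finite_hom_structure (F : Y.Modules) (hF : Coh.IsCoh F) :
    Module.Finite k (F ⟶ Coh.structureModule Y) := by
  obtain ⟨e⟩ := nonempty_hom_structure_equiv hd hωc hinv F hF
  have hTc : Coh.IsCoh (CohB1.tensorMod F ω) :=
    Groth.Agent.Lib.T2H6.TensorDeg.isCoh_tensor F ω hF hωc
  haveI : Module.Finite k (Coh.HH Y (CohB1.tensorMod F ω) 1) :=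
    Groth.Agent.Lib.T2H6.EulerField.finite_HH k Y _ hTc 1
  exact Module.Finite.equiv e.symm

include hd hωc hinv in
theorem finrank_hom_structure_eq (F : Y.Modules) (hF : Coh.IsCoh F) :
    Module.finrank k (F ⟶ Coh.structureModule Y) =
      Module.finrank k (Coh.HH Y (CohB1.tensorMod F ω) 1) := by
  obtain ⟨e⟩ := nonempty_hom_structure_equiv hd hωc hinv F hF
  have hTc : Coh.IsCoh (CohB1.tensorMod F ω) :=
    Groth.Agent.Lib.T2H6.TensorDeg.isCoh_tensor F ω hF hωc
  haveI : Module.Finite k (Coh.HH Y (CohB1.tensorMod F ω) 1) :=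
    Groth.Agent.Lib.T2H6.EulerField.finite_HH k Y _ hTc 1
  rw [e.finrank_eq]
  exact Subspace.dual_finrank_eq

end dual

section numerics

variable (k : Type u) [Field k] {Y : Scheme.{u}} [Y.Over (Spec (CommRingCat.of k))]
  [IsProper (Y ↘ Spec (CommRingCat.of k))] [IsIntegral Y]

/-- **the abstract weak Hurwitz inequality**: a finite locally free algebra `A` of rank `n` with generically
nondegenerate trace form on a regular proper curve has `χ(A) ≤ n · χ(O)`. -/
theorem euler_le_of_isNondeg (hdim : topologicalKrullDim Y = 1)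
    (hreg : ∀ y : Y, IsRegularLocalRing (Y.presheaf.stalk y))
    (A : RelSpec.QCAlg Y) (n : ℕ) (hAn : FlatMod.IsFinLocFreeOfRank n A.toModule)
    (hnd : IsNondeg A) :
    Curv2.euler k Y A.toModule ≤ n * Curv2.euler k Y (Coh.structureModule Y) := by
  haveI : IsNoetherian Y := Groth.Agent.Lib.T2H6.CurveSatur.isNoetherian_of_proper k
  have hA : FlatMod.IsFinLocFree A.toModule := fun x => by
    obtain ⟨U, hx, h⟩ := hAn x
    exact ⟨U, n, hx, h⟩
  obtain ⟨ω, tr', hd, hωc, hinv, hdω⟩ := exists_omega' k hdim hreg (X := Y)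
  have hEc : Coh.IsCoh A.toModule :=
    Groth.Agent.Lib.T2H6.RankAdd.isCoh_of_isFinLocFreeOfRank _ n hAn
  have hω1 : FlatMod.IsFinLocFreeOfRank 1 ω :=
    Groth.Agent.Lib.Helper23.SecTw.isFinLocFreeOfRank_one_of_isInvertible _ hinv
  have hT := Groth.Agent.Lib.T2H6.TensorDeg.tensor_euler k hdim ω 1 hω1 A.toModule hEc
  rw [grank_of_isFinLocFreeOfRank _ n hAn, hdω] at hT
  have hTc : Coh.IsCoh (CohB1.tensorMod A.toModule ω) :=
    Groth.Agent.Lib.T2H6.TensorDeg.isCoh_tensor _ ω hEc hωc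
  have hOc : Coh.IsCoh (Coh.structureModule Y) :=
    Groth.Agent.Lib.T2H5.GenIsoF.isCoh_structureModule
  have hiωc : Coh.IsCoh (inv ω) :=
    Groth.Agent.Lib.T2H6.CurveDeg.isCoh_of_isInvertible _ (isInvertible_inv ω hinv)
  haveI := hEc.1
  haveI := hTc.1
  have e1 := Groth.Agent.Lib.T2H6.CurveRR.euler_eq_sub k hdim A.toModule
  have e2 := Groth.Agent.Lib.T2H6.CurveRR.euler_eq_sub k hdim (CohB1.tensorMod A.toModule ω)
  -- (i) h⁰(A) ≤ h¹(A ⊗ ω)
  have hi : Module.finrank k (Coh.HH Y A.toModule 0) ≤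
      Module.finrank k (Coh.HH Y (CohB1.tensorMod A.toModule ω) 1) := by
    have c1 : Coh.IsCoh (CohB1.tensorMod (Coh.structureModule Y) A.toModule) :=
      Groth.Agent.Lib.T2H6.TensorDeg.isCoh_tensor _ _ hOc hEc
    haveI := finite_hom_structure hd hωc hinv _ c1
    have h1 := finrank_hom_le k hA hnd (Coh.structureModule Y)
    rw [finrank_hom_eq k A.toModule, finrank_hom_structure_eq hd hωc hinv _ c1] at h1
    have iso : CohB1.tensorMod (CohB1.tensorMod (Coh.structureModule Y) A.toModule) ω ≅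
        CohB1.tensorMod A.toModule ω :=
      (tr ω).mapIso (Groth.Agent.Lib.Helper23.TensorUnit.unitTensorIso A.toModule)
    rwa [Groth.Agent.Lib.T2H6.FieldBC.finrank_HH_eq_of_iso k Y iso 1] at h1
  -- (ii) h⁰(A ⊗ ω) ≤ h¹(A)
  have hii : Module.finrank k (Coh.HH Y (CohB1.tensorMod A.toModule ω) 0) ≤
      Module.finrank k (Coh.HH Y A.toModule 1) := by
    have c1 : Coh.IsCoh (CohB1.tensorMod (inv ω) A.toModule) :=
      Groth.Agent.Lib.T2H6.TensorDeg.isCoh_tensor _ _ hiωc hEc
    haveI := finite_hom_structure hd hωc hinv _ c1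
    have h1 := finrank_hom_le k hA hnd (inv ω)
    rw [finrank_hom_inv k ω hinv A.toModule, finrank_hom_structure_eq hd hωc hinv _ c1] at h1
    have iso : CohB1.tensorMod (CohB1.tensorMod (inv ω) A.toModule) ω ≅ A.toModule :=
      (tr ω).mapIso (((Groth.Agent.Lib.Helper21.ModTensor5.brd Y.sheaf).app (inv ω)).app A.toModule) ≪≫
        (trCompIsoId (invTensorIso ω hinv)).app A.toModule
    rwa [Groth.Agent.Lib.T2H6.FieldBC.finrank_HH_eq_of_iso k Y iso 1] at h1
  push_cast at hT
  have h3 : (Module.finrank k (Coh.HH Y A.toModule 0) : ℤ) ≤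
      Module.finrank k (Coh.HH Y (CohB1.tensorMod A.toModule ω) 1) := by exact_mod_cast hi
  have h4 : (Module.finrank k (Coh.HH Y (CohB1.tensorMod A.toModule ω) 0) : ℤ) ≤
      Module.finrank k (Coh.HH Y A.toModule 1) := by exact_mod_cast hii
  nlinarith

end numerics

section rank

variable {X Y : Scheme.{u}} (f : X ⟶ Y) [IsAffineHom f]

/-- the rank of `f_* O_X` is positive when `X` is nonempty. -/
theorem rank_pos [Nonempty X] (n : ℕ)
    (hEn : FlatMod.IsFinLocFreeOfRank n
      ((Scheme.Modules.pushforward f).obj (Coh.structureModule X))) : 0 < n := by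
  rw [Nat.pos_iff_ne_zero]
  intro hn0
  obtain ⟨x⟩ := ‹Nonempty X›
  obtain ⟨W, hW, hyW, -, ⟨b⟩⟩ :=
    Groth.Agent.Helper18Norm.exists_good_directImage f n hEn (f x) ⊤ trivial
  letI := alg (RelSpec.QCAlg.directImage f) W
  haveI : Nonempty ↥(f ⁻¹ᵁ W) := ⟨⟨x, hyW⟩⟩
  haveI : Nontrivial Γ(X, f ⁻¹ᵁ W) := inferInstance
  rw [hn0] at b
  haveI : Subsingleton ((RelSpec.QCAlg.directImage f).presheaf.obj (op W)) :=
    b.repr.toEquiv.subsingleton
  exact not_subsingleton Γ(X, f ⁻¹ᵁ W)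
    (inferInstanceAs (Subsingleton ((RelSpec.QCAlg.directImage f).presheaf.obj (op W))))

/-- an affine morphism with `f_* O_X` locally free of rank one is an isomorphism. -/
theorem isIso_of_rank_one
    (hEn : FlatMod.IsFinLocFreeOfRank 1
      ((Scheme.Modules.pushforward f).obj (Coh.structureModule X))) : IsIso f := by
  have key : ∀ y : Y, ∃ W : Y.Opens, IsAffineOpen W ∧ y ∈ W ∧
      Function.Bijective (f.app W).hom := by
    intro y
    obtain ⟨W, hW, hyW, -, ⟨b⟩⟩ :=
      Groth.Agent.Helper18Norm.exists_good_directImage f 1 hEn y ⊤ trivial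
    letI := alg (RelSpec.QCAlg.directImage f) W
    exact ⟨W, hW, hyW, bijective_of_basis_fin_one b⟩
  choose W hW hyW hbij using key
  refine isIso_of_cover_bijective f W hW ?_ hbij
  rw [eq_top_iff]
  intro y _
  exact Opens.mem_iSup.2 ⟨y, hyW y⟩

end rank

section main

variable (k : Type u) [Field k] {X Y : Scheme.{u}} [X.Over (Spec (CommRingCat.of k))]
  [Y.Over (Spec (CommRingCat.of k))]
  [IsProper (Y ↘ Spec (CommRingCat.of k))] [IsIntegral X] [IsIntegral Y]

/-- **Weak Hurwitz inequality.** For a finite `k`-morphism `f : X ⟶ Y` of integral schemes onto a regular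
proper curve, dominant with `K(X)/K(Y)` separable, `f_* O_X` is locally free of some rank `n ≥ 1` and
`χ(O_X) ≤ n · χ(O_Y)`. -/
theorem euler_le_of_finite_separable (hdim : topologicalKrullDim Y = 1)
    (hreg : ∀ y : Y, IsRegularLocalRing (Y.presheaf.stalk y))
    (f : X ⟶ Y) [IsFinite f]
    (hf : f ≫ (Y ↘ Spec (CommRingCat.of k)) = X ↘ Spec (CommRingCat.of k))
    (e : f (genericPoint X) = genericPoint Y)
    (hsep : letI := (ffMap f e).hom.toAlgebra
      Algebra.IsSeparable Y.functionField X.functionField) :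
    ∃ n : ℕ, 0 < n ∧ FlatMod.IsFinLocFreeOfRank n
        ((Scheme.Modules.pushforward f).obj (Coh.structureModule X)) ∧
      Curv2.euler k X (Coh.structureModule X) ≤
        n * Curv2.euler k Y (Coh.structureModule Y) := by
  haveI : IsNoetherian Y := Groth.Agent.Lib.T2H6.CurveSatur.isNoetherian_of_proper k
  haveI : Flat f := flat_of_regular f e hdim.le hreg
  haveI : LocallyOfFinitePresentation f :=
    Groth.Agent.Lib.T2H3.FibFlatCons.lfp_of_lft_of_isLocallyNoetherian f
  haveI : (Coh.structureModule X).IsQuasicoherent :=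
    (Groth.Agent.Lib.T2H5.GenIsoF.isCoh_structureModule (Z := X)).1
  haveI : ((Scheme.Modules.pushforward f).obj (Coh.structureModule X)).IsQuasicoherent :=
    Groth.Agent.Lib.Helper23.QCohLocal.isQuasicoherent_pushforward f _
  have hE0 : FlatMod.IsFinLocFree ((Scheme.Modules.pushforward f).obj (Coh.structureModule X)) :=
    Groth.Agent.Helper18FinFlat.pushforward_isFinLocFree f
      ⟨inferInstance, inferInstance, inferInstance⟩
  obtain ⟨n, hEn⟩ : ∃ n : ℕ, FlatMod.IsFinLocFreeOfRank n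
      ((Scheme.Modules.pushforward f).obj (Coh.structureModule X)) :=
    ⟨_, Groth.Agent.Lib.T2H6.CurveVB.exists_rank _ hE0⟩
  have hAn : FlatMod.IsFinLocFreeOfRank n (RelSpec.QCAlg.directImage f).toModule :=
    Groth.Agent.Lib.Helper26.ModRank.isFinLocFreeOfRank_of_iso (pushIso f).symm hEn
  have hmain := euler_le_of_isNondeg k hdim hreg (RelSpec.QCAlg.directImage f) n hAn
    (isNondeg_directImage f e hsep)
  have hAc : Coh.IsCoh (RelSpec.QCAlg.directImage f).toModule :=
    Groth.Agent.Lib.T2H6.RankAdd.isCoh_of_isFinLocFreeOfRank _ n hAn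
  rw [Groth.Agent.Lib.T2H6.HiggsCurve.euler_eq_of_iso k (pushIso f) hAc,
    Groth.Agent.Lib.T2H6.TensorDegGen.euler_pushforward f k hf _] at hmain
  haveI : Nonempty X := inferInstance
  exact ⟨n, rank_pos f n hEn, hEn, hmain⟩

end main

end Groth.Agent.Lib.T2H6.Hurw
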