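import Mathlib
import Groth.Prelude.Def_KLin
import Groth.Agent.Lib.T2H6HypSecA
import Groth.Agent.Lib.Helper27TwistAmple2
import Groth.Agent.Lib.Helper27PnSections
import Groth.Agent.Lib.T2H5Twist
import Groth.Agent.Lib.T2H5AmplePn
import Groth.Agent.Lib.T2H6VAmpleB
import Groth.Agent.S9705
set_option backward.isDefEq.respectTransparency.types false

/-!
# `h⁰(F(-1)) ≤ h⁰(F) - 1` on projective space (helper6)

Namespace `Groth.Agent.Lib.T2H6.HypSecB`.  Instantiation of `HypSecA` for `O(1)` on `P^N_k`.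
-/

set_option autoImplicit false
set_option linter.style.haveILetI false
set_option linter.unusedSectionVars false
universe u

open CategoryTheory TopCat TopologicalSpace Opposite AlgebraicGeometry Limits

namespace Groth.Agent.Lib.T2H6.HypSecB

open Groth.Agent.Lib.Helper27GrTildeSect Groth.Agent.Lib.Helper27ProjGamma Groth.Agent.Lib.Helper23.SecTw
  Groth.Agent.Lib.Helper6 Groth.Agent.Lib.T2H6.HypSecA

variable (N : ℕ) (k : Type u) [Field k]

local notation "𝒫" => CohB1.polyGrading N k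

/-- the nonvanishing locus of the section of `O(1)` attached to a linear form `b` is `D₊(b)`. -/
theorem genLocus_secHom_gsec_eq {b : MvPolynomial (Fin (N + 1)) k} (hb : b ∈ CohB1.polyGrading N k 1) :
    CohB1.genLocus (GrTilde.tilde 𝒫 𝒫 ((1 : ℕ) : ℤ))
      (secHom (GrTilde.tilde 𝒫 𝒫 ((1 : ℕ) : ℤ)) (gsec 𝒫 1 ⊤ hb)) = Proj.basicOpen 𝒫 b := by
  let G : Option (Fin (N + 1)) → MvPolynomial (Fin (N + 1)) k := fun o =>
    match o with
    | none => b
    | some i => MvPolynomial.X i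
  have hG : ∀ o, G o ∈ CohB1.polyGrading N k 1 := by
    intro o
    cases o with
    | none => exact hb
    | some i => exact hX N k i
  have hcov : ∀ y : Proj 𝒫, ∃ o, G o ∉ (show ProjectiveSpectrum 𝒫 from y).asHomogeneousIdeal := by
    intro y
    obtain ⟨i, hi⟩ := Groth.Agent.Lib.Helper27PnSections.exists_X_not_mem N k y
    exact ⟨some i, hi⟩
  exact genLocus_secHom_gsec 𝒫 1 G hG hcov none

/-- every section of `O(1)` on projective space has an affine nonvanishing locus. -/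
theorem isAffineOpen_genLocus
    (v : Coh.structureModule (Proj 𝒫) ⟶ GrTilde.tilde 𝒫 𝒫 ((1 : ℕ) : ℤ)) :
    IsAffineOpen (CohB1.genLocus (GrTilde.tilde 𝒫 𝒫 ((1 : ℕ) : ℤ)) v) := by
  obtain ⟨b, hb, hσ⟩ := Groth.Agent.Lib.Helper27PnSections.exists_global_poly N k 1 (sv v ⊤)
  have hv : v = secHom (GrTilde.tilde 𝒫 𝒫 ((1 : ℕ) : ℤ)) (gsec 𝒫 1 ⊤ hb) := by
    rw [← hσ, Groth.Agent.Lib.T2H6.VAmpleB.secHom_sv]
  rw [hv, genLocus_secHom_gsec_eq N k hb]
  exact Proj.isAffineOpen_basicOpen 𝒫 b hb Nat.one_pos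

/-- `O(1)` on projective space is generated by its sections. -/
theorem exists_mem_genLocus (x : Proj 𝒫) :
    ∃ v : Coh.structureModule (Proj 𝒫) ⟶ GrTilde.tilde 𝒫 𝒫 ((1 : ℕ) : ℤ),
      x ∈ CohB1.genLocus (GrTilde.tilde 𝒫 𝒫 ((1 : ℕ) : ℤ)) v := by
  obtain ⟨i, hi⟩ := Groth.Agent.Lib.Helper27PnSections.exists_X_not_mem N k x
  refine ⟨secHom _ (gsec 𝒫 1 ⊤ (hX N k i)), ?_⟩
  rw [genLocus_secHom_gsec_eq N k (hX N k i)]
  exact (ProjectiveSpectrum.mem_basicOpen 𝒫 _ x).mpr hi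

variable [IsAlgClosed k]

/-- **S5638.** -/
theorem finrank_twist_neg_one_add_one_le (F : (CohB1.ProjSpace N k).Modules) (hF : Coh.IsCoh F)
    (hass : ∀ x : ↥(CohB1.ProjSpace N k), Curv2.IsAssPoint F x → ¬ IsClosed ({x} : Set ↥(CohB1.ProjSpace N k)))
    (h0 : 1 ≤ Module.finrank k (Coh.HH (CohB1.ProjSpace N k) F 0)) :
    Module.finrank k (Coh.HH (CohB1.ProjSpace N k) (CohB1.tensorMod F (Twist.twistProjSpace N k (-1))) 0) + 1 ≤
      Module.finrank k (Coh.HH (CohB1.ProjSpace N k) F 0) := by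
  haveI : IsProper (CohB1.ProjSpace N k ↘ Spec (CommRingCat.of k)) :=
    Groth.Agent.S9705.isProper_projSpace_toSpec N k
  have hL := Groth.Agent.Lib.T2H5.Twist.isInvertible_twist N k (1 : ℤ)
  obtain ⟨e4⟩ := Groth.Agent.Lib.T2H5.Twist.nonempty_twist_tensor_iso N k (1 : ℤ) (-1 : ℤ) 0 (by ring)
  obtain ⟨e5⟩ := Groth.Agent.Lib.T2H5.Twist.nonempty_twist_zero_iso N k
  exact finrank_twist_inv_add_one_le k (Twist.twistProjSpace N k 1) (Twist.twistProjSpace N k (-1)) hL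
    (e4 ≪≫ e5) (exists_mem_genLocus N k) (isAffineOpen_genLocus N k) F hF hass h0

/-- **S5639.** -/
theorem subsingleton_HH_zero_twist_neg (F : (CohB1.ProjSpace N k).Modules) (hF : Coh.IsCoh F)
    (hass : ∀ x : ↥(CohB1.ProjSpace N k), Curv2.IsAssPoint F x → ¬ IsClosed ({x} : Set ↥(CohB1.ProjSpace N k)))
    (n : ℕ) (hn : Module.finrank k (Coh.HH (CohB1.ProjSpace N k) F 0) ≤ n) :
    Subsingleton (Coh.HH (CohB1.ProjSpace N k)
      (CohB1.tensorMod F (Twist.twistProjSpace N k (-(n : ℤ)))) 0) := by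
  haveI : IsProper (CohB1.ProjSpace N k ↘ Spec (CommRingCat.of k)) :=
    Groth.Agent.S9705.isProper_projSpace_toSpec N k
  have hL := Groth.Agent.Lib.T2H5.Twist.isInvertible_twist N k (1 : ℤ)
  have hL' := Groth.Agent.Lib.T2H5.Twist.isInvertible_twist N k (-1 : ℤ)
  obtain ⟨e4⟩ := Groth.Agent.Lib.T2H5.Twist.nonempty_twist_tensor_iso N k (1 : ℤ) (-1 : ℤ) 0 (by ring)
  obtain ⟨e5⟩ := Groth.Agent.Lib.T2H5.Twist.nonempty_twist_zero_iso N k
  obtain ⟨e6⟩ := Groth.Agent.Lib.T2H5.AmplePn.nonempty_tensorPow_twist_iso N k (-1 : ℤ) n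
  have hmul : (n : ℤ) * (-1 : ℤ) = -(n : ℤ) := by ring
  rw [hmul] at e6
  have h1 := subsingleton_HH_zero_twist_inv k (Twist.twistProjSpace N k 1) (Twist.twistProjSpace N k (-1)) hL
    (e4 ≪≫ e5) (exists_mem_genLocus N k) (isAffineOpen_genLocus N k) F hF hass n
  have hiso : Module.finrank k (Coh.HH (CohB1.ProjSpace N k)
      (CohB1.tensorMod F (CohB1.tensorPow (Twist.twistProjSpace N k (-1)) n)) 0) =
      Module.finrank k (Coh.HH (CohB1.ProjSpace N k)
        (CohB1.tensorMod F (Twist.twistProjSpace N k (-(n : ℤ)))) 0) :=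
    Groth.Agent.Lib.T2H6.FieldBC.finrank_HH_eq_of_iso k _
      (Groth.Agent.Lib.Helper23.AmpleIso.tensorModIso (Iso.refl F) e6) 0
  rw [hiso] at h1
  have cT := Groth.Agent.Lib.T2H6.CurveDeg.isCoh_of_isInvertible _
    (Groth.Agent.Lib.T2H5.Twist.isInvertible_twist N k (-(n : ℤ)))
  have cG : Coh.IsCoh (CohB1.tensorMod F (Twist.twistProjSpace N k (-(n : ℤ)))) :=
    Groth.Agent.Lib.T2H6.TensorDeg.isCoh_tensor _ _ hF cT
  haveI : Module.Finite k (Coh.HH (CohB1.ProjSpace N k)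
      (CohB1.tensorMod F (Twist.twistProjSpace N k (-(n : ℤ)))) 0) :=
    Groth.Agent.Lib.T2H6.EulerField.finite_HH k _ _ cG 0
  have hz : Module.finrank k (Coh.HH (CohB1.ProjSpace N k)
      (CohB1.tensorMod F (Twist.twistProjSpace N k (-(n : ℤ)))) 0) = 0 := by
    rcases h1 with h | h
    · omega
    · exact h
  exact Module.finrank_zero_iff.1 hz

end Groth.Agent.Lib.T2H6.HypSecB
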