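import Mathlib
import Groth.Agent.Lib.T2H6HopfC
import Groth.Agent.Lib.T2H6PtTwistE
import Groth.Agent.Lib.T2H2UFDCartierSch2
import Groth.Agent.Lib.Helper18Cart1
import Groth.Agent.Lib.Helper20CDiv2
set_option backward.isDefEq.respectTransparency.types false

/-!
# Ideals of finite colength on a smooth proper curve are invertible (helper6)

Namespace `Groth.Agent.Lib.T2H6.IdealCurve`.

* `isIso_toSubscheme_of_genericPoint_mem` : if the generic point lies in the support of `I` then `O ≅ O/I`.
* `isEffCartierIdeal_of_smooth` : an ideal of a smooth integral curve whose support misses the generic point is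
  effective Cartier.
* `h0_tensor_ideal` : `h⁰(L ⊗ I) + c = h⁰(L)` for `deg L ≥ 2g - 1 + c`, `c = h⁰(O/I) ≠ 1`.
-/

set_option autoImplicit false
set_option linter.style.haveILetI false
set_option linter.unusedSectionVars false
universe u
open CategoryTheory CategoryTheory.Limits Opposite TopologicalSpace AlgebraicGeometry

namespace Groth.Agent.Lib.T2H6.IdealCurve

open Groth.Agent.Lib.T2H5.Twist Groth.Agent.Lib.T2H6.PtTwistA Groth.Agent.Lib.T2H6.PtTwistB
  Groth.Agent.Lib.T2H6.PtTwistC Groth.Agent.Lib.T2H6.PtTwistD Groth.Agent.Lib.T2H6.PtTwistE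
  Groth.Agent.Lib.T2H6.AmpleCrit Groth.Agent.Lib.T2H6.ParShC Groth.Agent.Lib.Helper23.SecTw
  Groth.Agent.Lib.Helper23.GenLocus

section A

variable {X : Scheme.{u}} [IsIntegral X]

/-- if the generic point lies in the support of `I`, then `O ⟶ O/I` is an isomorphism. -/
theorem isIso_toSubscheme_of_genericPoint_mem (I : X.IdealSheafData)
    (h : genericPoint X ∈ I.support) : IsIso (ClSub.toSubscheme I) := by
  have htop : I.support = ⊤ := by
    apply TopologicalSpace.Closeds.ext
    rw [TopologicalSpace.Closeds.coe_top, ← Set.univ_subset_iff]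
    exact ((genericPoint_spec X).mem_closed_set_iff I.support.isClosed).1 h
  have hbot : I = ⊥ := Scheme.IdealSheafData.support_eq_top_iff.1 htop
  subst hbot
  haveI : Mono (ClSub.toSubscheme (⊥ : X.IdealSheafData)) := by
    apply Groth.Agent.S5084.mono_of_injective_app
    intro V
    rw [injective_iff_map_eq_zero]
    intro a ha
    obtain ⟨a, rfl⟩ : ∃ a' : Γ(X, V), toS V a' = a := ⟨a, rfl⟩
    rw [toSubscheme_app] at ha
    have h2 : (Scheme.IdealSheafData.subschemeι (⊥ : X.IdealSheafData)).app V a = 0 := ha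
    have h3 := (ConcreteCategory.bijective_of_isIso
      ((Scheme.IdealSheafData.subschemeι (⊥ : X.IdealSheafData)).app V)).1
    have h4 : a = 0 := h3 (by rw [h2, map_zero])
    rw [h4]
    rfl
  exact isIso_of_mono_of_epi _

end A

section B

variable {X : Scheme.{u}} (k : Type u) [Field k] [IsAlgClosed k] [X.Over (Spec (CommRingCat.of k))]
  [IsIntegral X] [IsProper (X ↘ Spec (CommRingCat.of k))] [Smooth (X ↘ Spec (CommRingCat.of k))]

attribute [local instance] Curv2.resAlgebra

include k in
/-- closed points of a smooth curve over an algebraically closed field have DVR local rings. -/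
theorem isDVR_stalk (hdim : topologicalKrullDim X = 1) (p : X) (hp : IsClosed ({p} : Set X)) :
    IsDiscreteValuationRing (X.presheaf.stalk p) := by
  haveI : LocallyOfFiniteType (X ↘ Spec (CommRingCat.of k)) := inferInstance
  haveI : LocallyOfFinitePresentation (X ↘ Spec (CommRingCat.of k)) := inferInstance
  haveI := Groth.Agent.Lib.T2H6.CurveDeg.isLocallyNoetherian (X := X) k
  haveI : Algebra.IsSeparable k (X.residueField p) := by
    haveI : Module.Finite k (X.residueField p) :=
      Groth.Agent.Lib.T2H6.ResFinite.finite_residueField k X p hp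
    haveI : Algebra.IsAlgebraic k (X.residueField p) := Algebra.IsAlgebraic.of_finite k _
    infer_instance
  have hps : p ∈ (X ↘ Spec (CommRingCat.of k)).smoothLocus := by
    rw [Scheme.Hom.smoothLocus_eq_top]
    trivial
  exact (Groth.Agent.Lib.T2H9.DVRSmooth.main k X hdim p hp).2 hps

include k in
/-- an ideal on a smooth curve whose support misses the generic point is effective Cartier. -/
theorem isEffCartierIdeal_of_smooth (hdim : topologicalKrullDim X = 1) (I : X.IdealSheafData)
    (hη : genericPoint X ∉ I.support) : BlowUp.IsEffCartierIdeal I := by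
  haveI := Groth.Agent.Lib.T2H6.CurveDeg.isLocallyNoetherian (X := X) k
  have hcl : ∀ x : X, x ∈ I.support → IsClosed ({x} : Set X) := fun x hx =>
    Groth.Agent.Lib.Helper20.CDivLib.isClosed_singleton_of_ne_genericPoint hdim.le x
      (by rintro rfl; exact hη hx)
  have hmem : ∀ z : I.subscheme, I.subschemeι z ∈ I.support := fun z => by
    have : I.subschemeι z ∈ Set.range I.subschemeι := ⟨z, rfl⟩
    rw [I.range_subschemeι] at this
    exact this
  have hT1 : ∀ z z' : I.subscheme, z' ⤳ z → z' = z := by
    intro z z' hzz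
    have h1 : I.subschemeι z' ⤳ I.subschemeι z := hzz.map I.subschemeι.continuous
    have h2 := hcl _ (hmem z')
    have h3 : I.subschemeι z ∈ closure ({I.subschemeι z'} : Set X) := h1.mem_closure
    rw [h2.closure_eq, Set.mem_singleton_iff] at h3
    exact (I.subschemeι.isClosedEmbedding.injective h3).symm
  apply Groth.Agent.Lib.T2H2.UFDCartierSch.isEffCartierIdeal_of_noEmbedded
  · intro z _ z' hzz
    exact hT1 z z' hzz
  · intro z _
    exact Groth.Agent.Lib.T2H9.DVRSmooth.ringKrullDim_stalk_eq_one_of_isClosed X hdim _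
      (hcl _ (hmem z))
  · intro x hx
    haveI := isDVR_stalk k hdim x (hcl x hx)
    exact ⟨inferInstance, inferInstance⟩

/-- **`h⁰(L ⊗ I) + c = h⁰(L)`** for an ideal of colength `c ≠ 1` and `deg L ≥ 2g - 1 + c`. -/
theorem h0_tensor_ideal (hdim : topologicalKrullDim X = 1) (L : X.Modules) (hL : PicF.IsInvertible L)
    (I : X.IdealSheafData) (c : ℕ) (hc : c ≠ 1)
    (hI : Module.finrank k (Coh.HH X (ClSub.quotMod I) 0) = c)
    (hdeg : 2 * (Curv2.genus k X : ℤ) - 1 + c ≤ Curv2.deg k X L 1) :
    Module.finrank k (Coh.HH X (CohB1.tensorMod L (ClSub.idealMod I)) 0) + c =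
      Module.finrank k (Coh.HH X L 0) := by
  haveI : IsNoetherian X := Groth.Agent.Lib.T2H6.CurveSatur.isNoetherian_of_proper k
  have hη : genericPoint X ∉ I.support := by
    intro h
    haveI := isIso_toSubscheme_of_genericPoint_mem I h
    have e := Groth.Agent.Lib.T2H6.FieldBC.finrank_HH_eq_of_iso k X (asIso (ClSub.toSubscheme I)) 0
    rw [Groth.Agent.Lib.T2H6.PosI.finrank_HH_zero_structureModule k X] at e
    exact hc (by rw [← hI, ← e])
  have hcart := isEffCartierIdeal_of_smooth k hdim I hη
  have hIinv : PicF.IsInvertible (ClSub.idealMod I) :=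
    Groth.Agent.Helper18Cart.isInvertible_of_isEffCartier I hcart
  -- the degree of `I`
  have hOc : Coh.IsCoh (Coh.structureModule X) := Groth.Agent.Lib.T2H5.GenIsoF.isCoh_structureModule
  have hQc : Coh.IsCoh (ClSub.quotMod I) := isCoh_quotMod I
  have hIc : Coh.IsCoh (ClSub.idealMod I) :=
    Groth.Agent.Lib.T2H6.CurveDeg.isCoh_of_isInvertible _ hIinv
  have hadd := Groth.Agent.Lib.T2H6.EulerField.euler_additive k X (idealSC I)
    (idealSC_shortExact I) hIc hOc hQc
  have hQpts : ∀ x ∈ CohB1.support (ClSub.quotMod I), IsClosed ({x} : Set X) := by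
    intro x hx
    exact Groth.Agent.Lib.Helper20.CDivLib.isClosed_singleton_of_ne_genericPoint hdim.le x
      (by rintro rfl; exact hη (support_quotMod_subset I hx))
  have hq : Curv2.euler k X (ClSub.quotMod I) = c := by
    rw [Groth.Agent.Lib.T2H6.PosD.euler_eq_finrank_of_closedPoints k _ hQc hQpts, hI]
  change Curv2.euler k X (Coh.structureModule X) =
    Curv2.euler k X (ClSub.idealMod I) + Curv2.euler k X (ClSub.quotMod I) at hadd
  have hdI : Curv2.deg k X (ClSub.idealMod I) 1 = -c := by
    unfold Curv2.deg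
    push_cast
    linarith
  have hLI : PicF.IsInvertible (CohB1.tensorMod L (ClSub.idealMod I)) :=
    isInvertible_tensorMod hL hIinv
  have hdLI : Curv2.deg k X (CohB1.tensorMod L (ClSub.idealMod I)) 1 = Curv2.deg k X L 1 - c := by
    rw [deg_tensor1 k hdim L _ hL hIinv, hdI]; ring
  have hc0 : (0 : ℤ) ≤ (c : ℤ) := Int.natCast_nonneg c
  have hv1 := h1_vanish k hdim L hL (by linarith)
  have hv2 := h1_vanish k hdim _ hLI (by rw [hdLI]; linarith)
  have r1 := Groth.Agent.Lib.T2H6.HopfC.rr k hdim L hL
  have r2 := Groth.Agent.Lib.T2H6.HopfC.rr k hdim _ hLI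
  rw [Module.finrank_zero_of_subsingleton (M := Coh.HH X L 1)] at r1
  rw [Module.finrank_zero_of_subsingleton
    (M := Coh.HH X (CohB1.tensorMod L (ClSub.idealMod I)) 1), hdLI] at r2
  push_cast at r1 r2
  have : (Module.finrank k (Coh.HH X (CohB1.tensorMod L (ClSub.idealMod I)) 0) : ℤ) + c =
      (Module.finrank k (Coh.HH X L 0) : ℤ) := by linarith
  exact_mod_cast this

end B

end Groth.Agent.Lib.T2H6.IdealCurve
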