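-- helper6 (team 2): isomorphism classes of objects of fibre products along full and faithful functors.
import Mathlib
import Groth.Prelude.Def_AlgSt3
import Groth.Prelude.Def_W4c2isonaturalstkIso
import Groth.Agent.Lib.Helper17MonoFF
import Groth.Agent.Lib.Helper17FibFp
import Groth.Agent.Lib.Helper12LargestOpen

set_option autoImplicit false
set_option backward.isDefEq.respectTransparency false
set_option backward.isDefEq.respectTransparency.types false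
set_option linter.unusedSimpArgs false
set_option linter.unusedSectionVars false
open CategoryTheory CategoryTheory.Limits AlgebraicGeometry Opposite

universe u

namespace Groth.Agent.Lib.T2H6.IsoNatLib

open Groth.Agent.Lib.Helper17 Groth.Agent.Lib.Helper17.MonoFF

variable {S : Scheme.{u}}

theorem fiber_iso_of_iso {𝒳 : AlgSt.Cat S} {T : Over S} (x y : 𝒳.p.Fiber T) (e : x.1 ≅ y.1)
    (h : 𝒳.p.IsHomLift (𝟙 T) e.hom) : Nonempty (x ≅ y) := by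
  have h' : 𝒳.p.IsHomLift (𝟙 T) e.inv := IsHomLift.lift_id_inv 𝒳.p T e
  exact ⟨⟨⟨e.hom, h⟩, ⟨e.inv, h'⟩, Subtype.ext e.hom_inv_id, Subtype.ext e.inv_hom_id⟩⟩

theorem isMono_of_isOpenImm {𝒳 𝒴 : AlgSt.Cat S} (i : 𝒳 ⥤ᵇ 𝒴) (hi : AlgSt.IsOpenImm i) :
    AlgSt.IsMono i := by
  intro U y
  obtain ⟨F, e, he, hQ⟩ := hi U y
  exact ⟨F, e, he, Groth.Agent.Lib.Helper12.LargestOpen.mono_of_open _ hQ⟩

theorem cls_fp_eq_of_ff {𝒳 𝒴 𝒴' : AlgSt.Cat S} (h𝒳 : FibCat.IsFibGrpd 𝒳.p)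
    (h𝒴 : FibCat.IsFibGrpd 𝒴.p) (h𝒴' : FibCat.IsFibGrpd 𝒴'.p)
    (f : 𝒳 ⥤ᵇ 𝒴) (i : 𝒴' ⥤ᵇ 𝒴) [i.toFunctor.Full] [i.toFunctor.Faithful]
    (T : Over S) (z₁ z₂ : (FibCat.fp f i).p.Fiber T)
    (h₁ : IsoNat.mapCls (FibCat.fpFst f i) T (IsoNat.cls z₁) =
      IsoNat.mapCls (FibCat.fpFst f i) T (IsoNat.cls z₂)) :
    IsoNat.cls z₁ = IsoNat.cls z₂ := by
  have h₁' : Nonempty ((IsoNat.fibFun (FibCat.fpFst f i) T).obj z₁ ≅
      (IsoNat.fibFun (FibCat.fpFst f i) T).obj z₂) := Quotient.exact h₁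
  obtain ⟨a⟩ := h₁'
  let α : z₁.1.obj.fst ⟶ z₂.1.obj.fst := a.hom.1
  have hα : 𝒳.p.IsHomLift (𝟙 T) α := a.hom.2
  let β : z₁.1.obj.snd ⟶ z₂.1.obj.snd :=
    i.toFunctor.preimage (z₁.1.obj.iso.inv ≫ f.map α ≫ z₂.1.obj.iso.hom)
  have hβ : i.map β = z₁.1.obj.iso.inv ≫ f.map α ≫ z₂.1.obj.iso.hom :=
    i.toFunctor.map_preimage _
  let m : z₁.1 ⟶ z₂.1 := ObjectProperty.homMk
    { fst := α
      snd := β
      w := by
        change f.map α ≫ z₂.1.obj.iso.hom = z₁.1.obj.iso.hom ≫ i.map β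
        rw [hβ, Iso.hom_inv_id_assoc] }
  have hm : (FibCat.fp f i).p.IsHomLift (𝟙 T) m := by
    rw [fp_isHomLift_iff]
    exact hα
  have hfp := isFibGrpd_fp f i h𝒳 h𝒴' h𝒴
  have : IsIso m := IsFibGrpd.isIso_of_isHomLift_id hfp T m
  exact Quotient.sound (fiber_iso_of_iso z₁ z₂ (asIso m) hm)

end Groth.Agent.Lib.T2H6.IsoNatLib
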