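-- helper6 (team 2): the essential image of a fully faithful functor as a substack.
import Mathlib
import Groth.Agent.Lib.T2H6IsoNat
import Groth.Agent.Lib.Helper17AlgStEquiv
import Groth.Agent.Lib.Helper17FibEquiv
import Groth.Agent.S9928

set_option autoImplicit false
set_option backward.isDefEq.respectTransparency false
set_option backward.isDefEq.respectTransparency.types false
open CategoryTheory CategoryTheory.Functor CategoryTheory.Limits Opposite AlgebraicGeometry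

universe u

namespace Groth.Agent.Lib.T2H6.ImmImage

open Groth.Agent.Lib.Helper17

variable {S : Scheme.{u}} {𝒵 𝒳 : AlgSt.Cat S}

/-- the essential image of a functor -/
def essImg (i : 𝒵 ⥤ᵇ 𝒳) : 𝒳.obj → Prop := fun x => ∃ z : 𝒵.obj, Nonempty (i.obj z ≅ x)

theorem essImg_closed (i : 𝒵 ⥤ᵇ 𝒳) : ObjectProperty.IsClosedUnderIsomorphisms (essImg i) :=
  ⟨fun e ⟨z, ⟨k⟩⟩ => ⟨z, ⟨k ≪≫ e⟩⟩⟩

/-- the functor to the essential image -/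
def toEssImg (i : 𝒵 ⥤ᵇ 𝒳) : 𝒵 ⥤ᵇ AlgSt.fullSub 𝒳 (essImg i) where
  toFunctor := ObjectProperty.lift (essImg i) i.toFunctor (fun z => ⟨z, ⟨Iso.refl _⟩⟩)
  w := i.w

/-- the functor to the essential image followed by the inclusion is the functor -/
def toEssImgCompIso (i : 𝒵 ⥤ᵇ 𝒳) :
    BasedFunctor.comp i (BasedFunctor.id 𝒳) ≅
      BasedFunctor.comp (toEssImg i) (AlgSt.subIncl 𝒳 (essImg i)) :=
  Iso.refl _

instance (i : 𝒵 ⥤ᵇ 𝒳) [i.toFunctor.Full] : (toEssImg i).toFunctor.Full :=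
  inferInstanceAs (ObjectProperty.lift (essImg i) i.toFunctor _).Full

instance (i : 𝒵 ⥤ᵇ 𝒳) [i.toFunctor.Faithful] : (toEssImg i).toFunctor.Faithful :=
  inferInstanceAs (ObjectProperty.lift (essImg i) i.toFunctor _).Faithful

theorem toEssImg_essSurjOver (h𝒵 : FibCat.IsFibGrpd 𝒵.p) (h𝒳 : FibCat.IsFibGrpd 𝒳.p)
    (i : 𝒵 ⥤ᵇ 𝒳) : EssSurjOver (toEssImg i) := by
  intro η
  obtain ⟨z, ⟨k⟩⟩ := η.property
  have hz : 𝒳.p.obj (i.obj z) = 𝒵.p.obj z := i.w_obj z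
  obtain ⟨z', φ, hφ⟩ := h𝒵.exists_lift (x := z) (𝒳.p.map k.inv ≫ eqToHom hz)
  have h1 : 𝒳.p.IsHomLift (𝒳.p.map k.inv ≫ eqToHom hz) (i.map φ) := inferInstance
  have h2 : 𝒳.p.IsHomLift (𝒳.p.map k.inv) (i.map φ) :=
    (IsHomLift.lift_comp_eqToHom_iff 𝒳.p _ _ hz).1 h1
  have h3 : 𝒳.p.IsHomLift (𝒳.p.map k.inv ≫ 𝒳.p.map k.hom) (i.map φ ≫ k.hom) := inferInstance
  have h4 : 𝒳.p.map k.inv ≫ 𝒳.p.map k.hom = 𝟙 _ := by
    rw [← Functor.map_comp, k.inv_hom_id, CategoryTheory.Functor.map_id]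
  rw [h4] at h3
  have hiso : IsIso (i.map φ ≫ k.hom) :=
    IsFibGrpd.isIso_of_isHomLift_id h𝒳 (𝒳.p.obj η.obj) _
  let e₀ : i.obj z' ≅ η.obj := asIso (i.map φ ≫ k.hom)
  refine ⟨z', (ObjectProperty.isoMk _ e₀ : (toEssImg i).obj z' ≅ η), ?_⟩
  exact (BasedFunctor.isHomLift_iff (AlgSt.subIncl 𝒳 (essImg i)) _ _).1 h3

theorem isEquivOver_toEssImg (h𝒵 : FibCat.IsFibGrpd 𝒵.p) (h𝒳 : FibCat.IsFibGrpd 𝒳.p)
    (i : 𝒵 ⥤ᵇ 𝒳) [i.toFunctor.Full] [i.toFunctor.Faithful] : FibCat.IsEquivOver (toEssImg i) :=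
  isEquivOver_of_fullyFaithful_of_essSurjOver _ (toEssImg_essSurjOver h𝒵 h𝒳 i)

theorem repByAlgSpWith_subIncl_essImg (h𝒵 : FibCat.IsFibGrpd 𝒵.p) (h𝒳 : FibCat.IsFibGrpd 𝒳.p)
    (i : 𝒵 ⥤ᵇ 𝒳) [i.toFunctor.Full] [i.toFunctor.Faithful] (P : MorphismProperty (AlgSp.Sp S))
    (hi : AlgSt.RepByAlgSpWith P i) : AlgSt.RepByAlgSpWith P (AlgSt.subIncl 𝒳 (essImg i)) :=
  (repByAlgSpWith_of_square P (AlgSt.subIncl 𝒳 (essImg i)) i (toEssImg i) (BasedFunctor.id 𝒳)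
    (isEquivOver_toEssImg h𝒵 h𝒳 i) (isEquivOver_id _) (toEssImgCompIso i)).2 hi


theorem isMono_of_isImm (i : 𝒵 ⥤ᵇ 𝒳) (hi : AlgSt.IsImm i) : AlgSt.IsMono i := by
  intro U y
  obtain ⟨F, e, he, hQ⟩ := hi U y
  refine ⟨F, e, he, ?_⟩
  exact Groth.Agent.S9928.mono_of_repWith @IsImmersion
    (fun X Y g hg => by have : IsImmersion g := hg; infer_instance) _ hQ

/-- the essential image of a functor which factors through a strictly full subcategory by an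
equivalence is the subcategory -/
theorem eq_essImg_of_equiv (i : 𝒵 ⥤ᵇ 𝒳) (Q' : 𝒳.obj → Prop)
    (hQ' : ObjectProperty.IsClosedUnderIsomorphisms Q')
    (i' : 𝒵 ⥤ᵇ AlgSt.fullSub 𝒳 Q') (hi' : FibCat.IsEquivOver i')
    (e : BasedFunctor.comp i' (AlgSt.subIncl 𝒳 Q') ≅ i) : Q' = essImg i := by
  funext x
  apply propext
  constructor
  · intro hx
    obtain ⟨z, k, -⟩ := IsEquivOver.essSurjOver i' hi' ⟨x, hx⟩
    refine ⟨z, ⟨(bApp e z).symm ≪≫ (AlgSt.subIncl 𝒳 Q').toFunctor.mapIso k⟩⟩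
  · rintro ⟨z, ⟨k⟩⟩
    exact hQ'.of_iso ((bApp e z) ≪≫ k) (i'.obj z).property

/-- the essential image of an immersion is a locally closed substack -/
theorem essImg_of_isImm (h𝒵 : AlgSt.IsAlgStack Scheme.fppfPrecoverage 𝒵)
    (h𝒳 : AlgSt.IsAlgStack Scheme.fppfPrecoverage 𝒳) (i : 𝒵 ⥤ᵇ 𝒳) (hi : AlgSt.IsImm i) :
    (AlgSt.IsLocClosedSubstack 𝒳 (essImg i) Scheme.fppfPrecoverage ∧
      (∃ i' : 𝒵 ⥤ᵇ AlgSt.fullSub 𝒳 (essImg i), FibCat.IsEquivOver i' ∧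
        Nonempty (BasedFunctor.comp i' (AlgSt.subIncl 𝒳 (essImg i)) ≅ i)) ∧
      (AlgSt.IsClosedImm i → AlgSt.IsClosedSubstack 𝒳 (essImg i) Scheme.fppfPrecoverage) ∧
      (AlgSt.IsOpenImm i → AlgSt.IsOpenSubstack 𝒳 (essImg i) Scheme.fppfPrecoverage)) := by
  have hf𝒵 := h𝒵.isStack.1
  have hf𝒳 := h𝒳.isStack.1
  have hff := Groth.Agent.Lib.Helper17.MonoFF.full_faithful_of_isMono hf𝒵 hf𝒳 i
    (isMono_of_isImm i hi)
  have := hff.1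
  have := hff.2
  have hE := isEquivOver_toEssImg hf𝒵 hf𝒳 i
  have halg : AlgSt.IsAlgStack Scheme.fppfPrecoverage (AlgSt.fullSub 𝒳 (essImg i)) :=
    isAlgStack_of_isEquivOver _ (toEssImg i) hE h𝒵
  refine ⟨⟨essImg_closed i, halg, repByAlgSpWith_subIncl_essImg hf𝒵 hf𝒳 i _ hi⟩,
    ⟨toEssImg i, hE, ⟨(toEssImgCompIso i).symm⟩⟩, ?_, ?_⟩
  · intro hc
    exact ⟨essImg_closed i, halg, repByAlgSpWith_subIncl_essImg hf𝒵 hf𝒳 i _ hc⟩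
  · intro ho
    exact ⟨essImg_closed i, halg, repByAlgSpWith_subIncl_essImg hf𝒵 hf𝒳 i _ ho⟩

end Groth.Agent.Lib.T2H6.ImmImage
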