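-- helper6 (team 2): the map on spaces of points induced by an isomorphism of presheaves of
-- isomorphism classes.
import Mathlib
import Groth.Prelude.Def_AlgSt4
import Groth.Prelude.Def_W4c2isonaturalstkIso
import Groth.Agent.Lib.Helper17StkPts
import Groth.Agent.Lib.Helper17StkLoc
import Groth.Agent.Lib.Helper17FibYoneda
import Groth.Agent.Lib.Helper15PtsTop
import Groth.Agent.Lib.Helper15PtsQc

set_option autoImplicit false
set_option backward.isDefEq.respectTransparency false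
set_option backward.isDefEq.respectTransparency.types false
set_option linter.unusedSimpArgs false
set_option linter.unusedSectionVars false
open CategoryTheory CategoryTheory.Limits AlgebraicGeometry Opposite

universe u

namespace Groth.Agent.Lib.T2H6.IsoNatPts

open Groth.Agent.Lib.Helper17

variable {S : Scheme.{u}} {𝒳 𝒴 : AlgSt.Cat S}

/-- the field point of an object of a fibre over the spectrum of a field -/
def fptOfFib {𝒵 : AlgSt.Cat S} {K : Type u} [Field K] (str : Spec (CommRingCat.of K) ⟶ S)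
    (x : 𝒵.p.Fiber (Over.mk str)) : AlgSt.FPt 𝒵 :=
  { K := K, str := str, obj := x.1, lies := x.2 }

/-- the fibre object of a field point -/
def fibOfFpt {𝒵 : AlgSt.Cat S} (p : AlgSt.FPt 𝒵) : 𝒵.p.Fiber (Over.mk p.str) := ⟨p.obj, p.lies⟩

theorem mk_eq_of_cls_eq {𝒵 : AlgSt.Cat S} {K : Type u} [Field K]
    (str : Spec (CommRingCat.of K) ⟶ S) (z z' : 𝒵.p.Fiber (Over.mk str))
    (h : IsoNat.cls z = IsoNat.cls z') :
    AlgSt.Points.mk (fptOfFib str z) = AlgSt.Points.mk (fptOfFib str z') := by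
  obtain ⟨ε⟩ : Nonempty (z ≅ z') := Quotient.exact h
  exact AlgSt.Points.sound ⟨fptOfFib str z, 𝟙 _, ε.hom.1, trivial⟩

variable (φ : IsoNat.FIso 𝒳 𝒴)

/-- a representative of the image of a field point -/
noncomputable def fptMap (p : AlgSt.FPt 𝒳) : AlgSt.FPt 𝒴 :=
  fptOfFib p.str (Quotient.out (φ.toEquiv (Over.mk p.str) (IsoNat.cls (fibOfFpt p))))

theorem cls_fptMap (p : AlgSt.FPt 𝒳) :
    IsoNat.cls (fibOfFpt (fptMap φ p)) = φ.toEquiv (Over.mk p.str) (IsoNat.cls (fibOfFpt p)) :=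
  Quotient.out_eq _

theorem mk_fptMap_of_hom {r p : AlgSt.FPt 𝒳} (a : r.obj ⟶ p.obj) :
    AlgSt.Points.mk (fptMap φ r) = AlgSt.Points.mk (fptMap φ p) := by
  let g : Over.mk r.str ⟶ Over.mk p.str := eqToHom r.lies.symm ≫ 𝒳.p.map a ≫ eqToHom p.lies
  have hg : 𝒳.p.IsHomLift g a := by
    apply IsHomLift.of_fac' 𝒳.p _ _ r.lies p.lies
    simp [g]
  obtain ⟨z', z, c, hc, hz', hz⟩ := φ.natural g (fibOfFpt r) (fibOfFpt p) a hg
  obtain ⟨δ⟩ : Nonempty (fibOfFpt (fptMap φ r) ≅ z') :=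
    Quotient.exact ((cls_fptMap φ r).trans hz')
  obtain ⟨ε⟩ : Nonempty (z ≅ fibOfFpt (fptMap φ p)) :=
    Quotient.exact (hz.symm.trans (cls_fptMap φ p).symm)
  exact AlgSt.Points.sound ⟨fptMap φ r, 𝟙 _, δ.hom.1 ≫ c ≫ ε.hom.1, trivial⟩

/-- the induced map on points -/
noncomputable def ptsMap : AlgSt.Points 𝒳 → AlgSt.Points 𝒴 :=
  Quot.lift (fun p => AlgSt.Points.mk (fptMap φ p)) (fun p q h => by
    obtain ⟨r, a, b, -⟩ := h
    exact (mk_fptMap_of_hom φ a).symm.trans (mk_fptMap_of_hom φ b))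

theorem ptsMap_mk (p : AlgSt.FPt 𝒳) :
    ptsMap φ (AlgSt.Points.mk p) = AlgSt.Points.mk (fptMap φ p) := rfl

theorem ptsMap_surjective : Function.Surjective (ptsMap φ) := by
  intro Q
  obtain ⟨q, rfl⟩ := AlgSt.Points.mk_surjective Q
  let x : 𝒳.p.Fiber (Over.mk q.str) :=
    Quotient.out ((φ.toEquiv (Over.mk q.str)).symm (IsoNat.cls (fibOfFpt q)))
  have hx : φ.toEquiv (Over.mk q.str) (IsoNat.cls x) = IsoNat.cls (fibOfFpt q) := by
    have : IsoNat.cls x = (φ.toEquiv (Over.mk q.str)).symm (IsoNat.cls (fibOfFpt q)) :=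
      Quotient.out_eq _
    rw [this]
    exact Equiv.apply_symm_apply _ _
  refine ⟨AlgSt.Points.mk (fptOfFib q.str x), ?_⟩
  rw [ptsMap_mk]
  exact mk_eq_of_cls_eq q.str (fibOfFpt (fptMap φ (fptOfFib q.str x))) (fibOfFpt q)
    ((cls_fptMap φ (fptOfFib q.str x)).trans hx)

/-- compatibility with charts whose classes correspond -/
theorem ptsMap_ofChart (h𝒴 : FibCat.IsFibGrpd 𝒴.p) {U : Over S} (x : FibCat.overCat U ⥤ᵇ 𝒳)
    (y : FibCat.overCat U ⥤ᵇ 𝒴) (hxy : φ.toEquiv U (IsoNat.objCls x) = IsoNat.objCls y)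
    (u : ↥U.left) :
    ptsMap φ (AlgSt.Points.ofChart x u) = AlgSt.Points.ofChart y u := by
  let gu : Over.mk (U.left.fromSpecResidueField u ≫ U.hom) ⟶ U :=
    Over.homMk (U.left.fromSpecResidueField u) rfl
  let k : (Over.mk gu : Over U) ⟶ Over.mk (𝟙 U) := Over.homMk gu (by simp)
  have hk0 : (FibCat.overCat U).p.IsHomLift gu k := IsHomLift.map (Over.forget U) k
  have hkx : 𝒳.p.IsHomLift gu (x.map k) := BasedFunctor.preserves_isHomLift x gu k
  have hky : 𝒴.p.IsHomLift gu (y.map k) := BasedFunctor.preserves_isHomLift y gu k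
  let pu : AlgSt.FPt 𝒳 :=
    { K := ↥(U.left.residueField u)
      str := U.left.fromSpecResidueField u ≫ U.hom
      obj := x.obj (Over.mk gu)
      lies := x.w_obj _ }
  let qu : AlgSt.FPt 𝒴 :=
    { K := ↥(U.left.residueField u)
      str := U.left.fromSpecResidueField u ≫ U.hom
      obj := y.obj (Over.mk gu)
      lies := y.w_obj _ }
  change ptsMap φ (AlgSt.Points.mk pu) = AlgSt.Points.mk qu
  rw [ptsMap_mk]
  let ξ : 𝒳.p.Fiber U := ⟨x.obj (Over.mk (𝟙 U)), x.w_obj _⟩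
  let η : 𝒴.p.Fiber U := ⟨y.obj (Over.mk (𝟙 U)), y.w_obj _⟩
  obtain ⟨z', z, c, hc, hz', hz⟩ := φ.natural gu (fibOfFpt pu) ξ (x.map k) hkx
  have hzη : IsoNat.cls z = IsoNat.cls η := hz.symm.trans hxy
  obtain ⟨ε⟩ : Nonempty (z ≅ η) := Quotient.exact hzη
  obtain ⟨δ⟩ : Nonempty (fibOfFpt (fptMap φ pu) ≅ z') :=
    Quotient.exact ((cls_fptMap φ pu).trans hz')
  have hε : 𝒴.p.IsHomLift (𝟙 U) ε.hom.1 := ε.hom.2
  have hcε : 𝒴.p.IsHomLift gu (c ≫ ε.hom.1) := by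
    have : 𝒴.p.IsHomLift (gu ≫ 𝟙 U) (c ≫ ε.hom.1) := inferInstance
    rwa [Category.comp_id] at this
  obtain ⟨e, -, -⟩ := IsFibGrpd.exists_iso_of_lifts h𝒴 gu (c ≫ ε.hom.1) (y.map k)
  exact AlgSt.Points.sound ⟨fptMap φ pu, 𝟙 _, δ.hom.1 ≫ e.hom, trivial⟩

open Groth.Agent.Lib.Helper15PtsTop in
theorem continuous_ptsMap (h𝒴 : AlgSt.IsAlgStack Scheme.fppfPrecoverage 𝒴) :
    Continuous (ptsMap φ) := by
  have hfib := h𝒴.isStack.1
  have := IsFibGrpd.isFibered hfib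
  rw [continuous_def]
  intro W hW U x _
  let ξ : 𝒳.p.Fiber U := ⟨x.obj (Over.mk (𝟙 U)), x.w_obj _⟩
  let η : 𝒴.p.Fiber U := Quotient.out (φ.toEquiv U (IsoNat.cls ξ))
  have hη : IsoNat.cls η = φ.toEquiv U (IsoNat.cls ξ) := Quotient.out_eq _
  let y : FibCat.overCat U ⥤ᵇ 𝒴 := yonedaFunctor η.2
  obtain ⟨e₀, he₀⟩ := yonedaFunctor_iso η.2
  have hy : φ.toEquiv U (IsoNat.objCls x) = IsoNat.objCls y := by
    change φ.toEquiv U (IsoNat.cls ξ) = _
    rw [← hη]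
    have he₀' : 𝒴.p.IsHomLift (𝟙 U) e₀.inv := IsHomLift.lift_id_inv 𝒴.p U e₀
    exact Quotient.sound ⟨⟨⟨e₀.inv, he₀'⟩, ⟨e₀.hom, he₀⟩, Subtype.ext e₀.inv_hom_id,
      Subtype.ext e₀.hom_inv_id⟩⟩
  have h1 : AlgSt.Points.ofChart x ⁻¹' (ptsMap φ ⁻¹' W) = AlgSt.Points.ofChart y ⁻¹' W := by
    ext u
    simp only [Set.mem_preimage]
    rw [ptsMap_ofChart φ hfib x y hy u]
  rw [h1]
  exact (continuous_ofChart h𝒴 y).isOpen_preimage W hW

include φ in
open Groth.Agent.Lib.Helper15PtsQc in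
theorem isQuasiCompact_of_fIso (h𝒳 : AlgSt.IsAlgStack Scheme.fppfPrecoverage 𝒳)
    (h𝒴 : AlgSt.IsAlgStack Scheme.fppfPrecoverage 𝒴) (hqc : AlgSt.IsQuasiCompact 𝒳) :
    AlgSt.IsQuasiCompact 𝒴 := by
  rw [isQuasiCompact_iff_compactSpace h𝒴]
  have hc : CompactSpace (AlgSt.Points 𝒳) := (isQuasiCompact_iff_compactSpace h𝒳).1 hqc
  refine ⟨?_⟩
  rw [← Set.image_univ_of_surjective (ptsMap_surjective φ)]
  exact isCompact_univ.image (continuous_ptsMap φ h𝒴)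

end Groth.Agent.Lib.T2H6.IsoNatPts
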