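-- helper6 (team 2): the inverse of an isomorphism of presheaves of isomorphism classes, and the
-- induced bijection on points.
import Mathlib
import Groth.Agent.Lib.T2H6IsoNatPts

set_option autoImplicit false
set_option backward.isDefEq.respectTransparency false
set_option backward.isDefEq.respectTransparency.types false
set_option linter.unusedSimpArgs false
set_option linter.unusedSectionVars false
open CategoryTheory CategoryTheory.Limits AlgebraicGeometry Opposite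

universe u

namespace Groth.Agent.Lib.T2H6.IsoNatPts

open Groth.Agent.Lib.Helper17

variable {S : Scheme.{u}} {𝒳 𝒴 𝒳' 𝒴' : AlgSt.Cat S}

theorem cls_eq_of_iso {𝒵 : AlgSt.Cat S} {T : Over S} (x y : 𝒵.p.Fiber T) (e : x.1 ≅ y.1)
    (h : 𝒵.p.IsHomLift (𝟙 T) e.hom) : IsoNat.cls x = IsoNat.cls y := by
  have h' : 𝒵.p.IsHomLift (𝟙 T) e.inv := IsHomLift.lift_id_inv 𝒵.p T e
  exact Quotient.sound
    ⟨⟨⟨e.hom, h⟩, ⟨e.inv, h'⟩, Subtype.ext e.hom_inv_id, Subtype.ext e.inv_hom_id⟩⟩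

/-- the inverse isomorphism of presheaves of isomorphism classes -/
def fIsoSymm (h𝒳 : FibCat.IsFibGrpd 𝒳.p) (h𝒴 : FibCat.IsFibGrpd 𝒴.p) (φ : IsoNat.FIso 𝒳 𝒴) :
    IsoNat.FIso 𝒴 𝒳 where
  toEquiv T := (φ.toEquiv T).symm
  natural := by
    intro T' T g y' y b hb
    obtain ⟨x, hx⟩ := Quotient.exists_rep ((φ.toEquiv T).symm (IsoNat.cls y))
    have hx' : φ.toEquiv T (IsoNat.cls x) = IsoNat.cls y := by
      change φ.toEquiv T (Quotient.mk _ x) = _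
      rw [hx]
      exact Equiv.apply_symm_apply _ _
    obtain ⟨x'₀, a, ha⟩ := h𝒳.exists_lift (x := x.1) (g ≫ eqToHom x.2.symm)
    have ha' : 𝒳.p.IsHomLift g a := by
      apply IsHomLift.of_fac' 𝒳.p _ _
        (IsHomLift.domain_eq 𝒳.p (g ≫ eqToHom x.2.symm) a) x.2
      have := IsHomLift.fac' 𝒳.p (g ≫ eqToHom x.2.symm) a
      rw [this]
      simp
    let x' : 𝒳.p.Fiber T' := ⟨x'₀, IsHomLift.domain_eq 𝒳.p g a⟩
    obtain ⟨y₂', y₂, b₂, hb₂, h1, h2⟩ := φ.natural g x' x a ha'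
    have h3 : IsoNat.cls y₂ = IsoNat.cls y := h2.symm.trans hx'
    obtain ⟨ε⟩ : Nonempty (y₂ ≅ y) := Quotient.exact h3
    have hε : 𝒴.p.IsHomLift (𝟙 T) ε.hom.1 := ε.hom.2
    have hbε : 𝒴.p.IsHomLift g (b₂ ≫ ε.hom.1) := by
      have : 𝒴.p.IsHomLift (g ≫ 𝟙 T) (b₂ ≫ ε.hom.1) := inferInstance
      rwa [Category.comp_id] at this
    obtain ⟨e, he, -⟩ := IsFibGrpd.exists_iso_of_lifts h𝒴 g (b₂ ≫ ε.hom.1) b
    have h4 : IsoNat.cls y₂' = IsoNat.cls y' := cls_eq_of_iso y₂' y' e he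
    refine ⟨x', x, a, ha', ?_, ?_⟩
    · rw [Equiv.symm_apply_eq, h1, h4]
    · rw [Equiv.symm_apply_eq, hx']

variable (h𝒳 : FibCat.IsFibGrpd 𝒳.p) (h𝒴 : FibCat.IsFibGrpd 𝒴.p) (φ : IsoNat.FIso 𝒳 𝒴)

theorem ptsMap_symm_ptsMap (P : AlgSt.Points 𝒳) :
    ptsMap (fIsoSymm h𝒳 h𝒴 φ) (ptsMap φ P) = P := by
  obtain ⟨p, rfl⟩ := AlgSt.Points.mk_surjective P
  rw [ptsMap_mk, ptsMap_mk]
  refine mk_eq_of_cls_eq p.str (fibOfFpt (fptMap (fIsoSymm h𝒳 h𝒴 φ) (fptMap φ p))) (fibOfFpt p) ?_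
  rw [cls_fptMap]
  change (φ.toEquiv (Over.mk p.str)).symm (IsoNat.cls (fibOfFpt (fptMap φ p))) = _
  rw [cls_fptMap, Equiv.symm_apply_apply]

theorem ptsMap_ptsMap_symm (Q : AlgSt.Points 𝒴) :
    ptsMap φ (ptsMap (fIsoSymm h𝒳 h𝒴 φ) Q) = Q := by
  obtain ⟨q, rfl⟩ := AlgSt.Points.mk_surjective Q
  rw [ptsMap_mk, ptsMap_mk]
  refine mk_eq_of_cls_eq q.str (fibOfFpt (fptMap φ (fptMap (fIsoSymm h𝒳 h𝒴 φ) q))) (fibOfFpt q) ?_
  rw [cls_fptMap, cls_fptMap]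
  change φ.toEquiv (Over.mk q.str) ((φ.toEquiv (Over.mk q.str)).symm _) = _
  rw [Equiv.apply_symm_apply]

theorem ptsMap_comm {f : 𝒳 ⥤ᵇ 𝒴} {f' : 𝒳' ⥤ᵇ 𝒴'} (ψ : IsoNat.FIsoSq f f')
    (P : AlgSt.Points 𝒳) :
    ptsMap ψ.tgt (AlgSt.Points.map f P) = AlgSt.Points.map f' (ptsMap ψ.src P) := by
  obtain ⟨p, rfl⟩ := AlgSt.Points.mk_surjective P
  rw [AlgSt.Points.map_mk, ptsMap_mk, ptsMap_mk, AlgSt.Points.map_mk]
  refine mk_eq_of_cls_eq p.str (fibOfFpt (fptMap ψ.tgt (p.map f)))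
    (fibOfFpt ((fptMap ψ.src p).map f')) ?_
  rw [cls_fptMap]
  have h1 : IsoNat.cls (fibOfFpt (p.map f)) = IsoNat.mapCls f (Over.mk p.str)
      (IsoNat.cls (fibOfFpt p)) := rfl
  have h2 : IsoNat.cls (fibOfFpt ((fptMap ψ.src p).map f')) =
      IsoNat.mapCls f' (Over.mk p.str) (IsoNat.cls (fibOfFpt (fptMap ψ.src p))) := rfl
  rw [h2, cls_fptMap]
  exact (congrArg _ h1).trans (ψ.comm _ _)

end Groth.Agent.Lib.T2H6.IsoNatPts
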