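-- helper6 (team 2): open subfunctors of the presheaf of isomorphism classes give open substacks.
import Mathlib
import Groth.Prelude.Def_AlgSt3
import Groth.Prelude.Def_W4c2isonaturalstkIso
import Groth.Agent.Lib.T2H6OpenSub
import Groth.Agent.Lib.Helper17StkPts

set_option autoImplicit false
set_option backward.isDefEq.respectTransparency false
set_option backward.isDefEq.respectTransparency.types false
set_option linter.unusedSimpArgs false
set_option linter.unusedSectionVars false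
open CategoryTheory CategoryTheory.Limits AlgebraicGeometry Opposite

universe u

namespace Groth.Agent.Lib.T2H6.IsoNatOpen

open Groth.Agent.Lib.Helper17 Groth.Agent.Lib.T2H6.OpenSub

variable {S : Scheme.{u}}

theorem factors_iff {X Y : Scheme.{u}} (V : Y.Opens) (h : X ⟶ Y) :
    (∃ g' : X ⟶ ↑V, g' ≫ V.ι = h) ↔ Set.range h.base ⊆ (V : Set Y) := by
  constructor
  · rintro ⟨g', rfl⟩ _ ⟨x, rfl⟩
    have : (g' ≫ V.ι).base x = V.ι.base (g'.base x) := rfl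
    rw [this]
    exact (g'.base x).2
  · intro hr
    refine ⟨IsOpenImmersion.lift V.ι h ?_, IsOpenImmersion.lift_fac _ _ _⟩
    rw [Scheme.Opens.range_ι]
    exact hr

variable {𝒴 : AlgSt.Cat S} (W : ∀ T : Over S, Set (IsoNat.IsoCl 𝒴 T))

/-- the field points whose class lies in `W` -/
def fW (p : AlgSt.FPt 𝒴) : Prop :=
  IsoNat.cls (⟨p.obj, p.lies⟩ : 𝒴.p.Fiber (Over.mk p.str)) ∈ W (Over.mk p.str)

/-- the set of points of the subfunctor -/
def TW : Set (AlgSt.Points 𝒴) := {P | ∃ p : AlgSt.FPt 𝒴, AlgSt.Points.mk p = P ∧ fW W p}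

/-- the object predicate of the subfunctor -/
def QW : 𝒴.obj → Prop :=
  fun η => IsoNat.cls (⟨η, rfl⟩ : 𝒴.p.Fiber (𝒴.p.obj η)) ∈ W (𝒴.p.obj η)

section

variable (h𝒴 : FibCat.IsFibGrpd 𝒴.p)
  (hWpull : ∀ (T' T : Over S) (g : T' ⟶ T) (x' : 𝒴.p.Fiber T') (x : 𝒴.p.Fiber T) (a : x'.1 ⟶ x.1),
      𝒴.p.IsHomLift g a → IsoNat.cls x ∈ W T → IsoNat.cls x' ∈ W T')

include h𝒴 hWpull in
theorem mem_TW_iff {T₀ : Over S} (x : 𝒴.p.Fiber T₀) (V : T₀.left.Opens)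
    (hV : ∀ (T' : Over S) (g : T' ⟶ T₀) (x' : 𝒴.p.Fiber T') (a : x'.1 ⟶ x.1), 𝒴.p.IsHomLift g a →
        (IsoNat.cls x' ∈ W T' ↔ ∃ g' : T'.left ⟶ ↑V, g' ≫ V.ι = g.left))
    (p : AlgSt.FPt 𝒴) (g : Over.mk p.str ⟶ T₀) (m : p.obj ⟶ x.1) (hm : 𝒴.p.IsHomLift g m) :
    AlgSt.Points.mk p ∈ TW W ↔ Set.range g.left.base ⊆ (V : Set T₀.left) := by
  constructor
  · rintro ⟨p', hp', hW'⟩
    obtain ⟨r, a, b, -⟩ := fpt_rel_of_mk_eq h𝒴 hp'
    -- the class of `r` lies in `W`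
    let ga : Over.mk r.str ⟶ Over.mk p'.str := eqToHom r.lies.symm ≫ 𝒴.p.map a ≫ eqToHom p'.lies
    have hga : 𝒴.p.IsHomLift ga a := by
      apply IsHomLift.of_fac' 𝒴.p _ _ r.lies p'.lies
      simp [ga]
    have hr : fW W r := hWpull _ _ ga ⟨r.obj, r.lies⟩ ⟨p'.obj, p'.lies⟩ a hga hW'
    let gb : Over.mk r.str ⟶ Over.mk p.str := eqToHom r.lies.symm ≫ 𝒴.p.map b ≫ eqToHom p.lies
    have hgb : 𝒴.p.IsHomLift gb b := by
      apply IsHomLift.of_fac' 𝒴.p _ _ r.lies p.lies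
      simp [gb]
    have hbm : 𝒴.p.IsHomLift (gb ≫ g) (b ≫ m) := inferInstance
    have h1 := (hV _ (gb ≫ g) ⟨r.obj, r.lies⟩ (b ≫ m) hbm).1 hr
    rw [factors_iff] at h1
    rintro _ ⟨s, rfl⟩
    have hne : Nonempty (PrimeSpectrum r.K) := inferInstance
    obtain ⟨s'⟩ := hne
    have hs : gb.left.base s' = s := Subsingleton.elim (α := PrimeSpectrum p.K) _ _
    rw [← hs]
    exact h1 ⟨s', rfl⟩
  · intro hr
    rw [← factors_iff] at hr
    exact ⟨p, rfl, (hV _ g ⟨p.obj, p.lies⟩ m hm).2 hr⟩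

end

section Main

variable (h𝒴 : AlgSt.IsAlgStack Scheme.fppfPrecoverage 𝒴)
  (hWpull : ∀ (T' T : Over S) (g : T' ⟶ T) (x' : 𝒴.p.Fiber T') (x : 𝒴.p.Fiber T) (a : x'.1 ⟶ x.1),
      𝒴.p.IsHomLift g a → IsoNat.cls x ∈ W T → IsoNat.cls x' ∈ W T')
  (hWopen : ∀ (T : Over S) (x : 𝒴.p.Fiber T), ∃ V : T.left.Opens,
      ∀ (T' : Over S) (g : T' ⟶ T) (x' : 𝒴.p.Fiber T') (a : x'.1 ⟶ x.1), 𝒴.p.IsHomLift g a →
        (IsoNat.cls x' ∈ W T' ↔ ∃ g' : T'.left ⟶ ↑V, g' ≫ V.ι = g.left))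

include h𝒴 hWpull hWopen in
theorem isOpen_TW : IsOpen (TW W) := by
  intro U y _
  obtain ⟨V, hV⟩ := hWopen U ⟨y.obj (Over.mk (𝟙 U)), y.w_obj _⟩
  have h1 : AlgSt.Points.ofChart y ⁻¹' TW W = (V : Set U.left) := by
    ext u
    let gu : Over.mk (U.left.fromSpecResidueField u ≫ U.hom) ⟶ U :=
      Over.homMk (U.left.fromSpecResidueField u) rfl
    let k : (Over.mk gu : Over U) ⟶ Over.mk (𝟙 U) := Over.homMk gu (by simp)
    have hk0 : (FibCat.overCat U).p.IsHomLift gu k := IsHomLift.map (Over.forget U) k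
    have hk : 𝒴.p.IsHomLift gu (y.map k) := BasedFunctor.preserves_isHomLift y gu k
    rw [Set.mem_preimage]
    have h2 := mem_TW_iff W h𝒴.isStack.1 hWpull ⟨y.obj (Over.mk (𝟙 U)), y.w_obj _⟩ V hV
      { K := ↥(U.left.residueField u)
        str := U.left.fromSpecResidueField u ≫ U.hom
        obj := y.obj (Over.mk gu)
        lies := y.w_obj _ } gu (y.map k) hk
    refine h2.trans ?_
    change Set.range (U.left.fromSpecResidueField u).base ⊆ _ ↔ _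
    rw [Scheme.range_fromSpecResidueField]
    simp
  rw [h1]
  exact V.2

include h𝒴 hWpull hWopen in
theorem QW_iff_QT (a : 𝒴.obj) : QW W a ↔ QT (TW W) a := by
  constructor
  · intro ha p ⟨m⟩
    let g : Over.mk p.str ⟶ 𝒴.p.obj a := eqToHom p.lies.symm ≫ 𝒴.p.map m
    have hg : 𝒴.p.IsHomLift g m := by
      apply IsHomLift.of_fac' 𝒴.p _ _ p.lies rfl
      simp [g]
    exact ⟨p, rfl, hWpull _ _ g ⟨p.obj, p.lies⟩ ⟨a, rfl⟩ m hg ha⟩
  · intro ha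
    obtain ⟨V, hV⟩ := hWopen (𝒴.p.obj a) ⟨a, rfl⟩
    have hfib := h𝒴.isStack.1
    have hall : ∀ v : ↥(𝒴.p.obj a).left, v ∈ V := by
      intro v
      let gv : Over.mk ((𝒴.p.obj a).left.fromSpecResidueField v ≫ (𝒴.p.obj a).hom) ⟶ 𝒴.p.obj a :=
        Over.homMk ((𝒴.p.obj a).left.fromSpecResidueField v) rfl
      obtain ⟨b, φ, hφ⟩ := hfib.exists_lift (x := a) gv
      let p : AlgSt.FPt 𝒴 :=
        { K := ↥((𝒴.p.obj a).left.residueField v)
          str := (𝒴.p.obj a).left.fromSpecResidueField v ≫ (𝒴.p.obj a).hom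
          obj := b
          lies := IsHomLift.domain_eq 𝒴.p gv φ }
      have h2 := (mem_TW_iff W hfib hWpull ⟨a, rfl⟩ V hV p gv φ hφ).1 (ha p ⟨φ⟩)
      apply h2
      change v ∈ Set.range ((𝒴.p.obj a).left.fromSpecResidueField v).base
      rw [Scheme.range_fromSpecResidueField]
      rfl
    have h3 : ∃ g' : (𝒴.p.obj a).left ⟶ ↑V, g' ≫ V.ι = (𝟙 (𝒴.p.obj a) : _ ⟶ _).left := by
      rw [factors_iff]
      rintro _ ⟨v, rfl⟩
      exact hall _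
    have h4 : 𝒴.p.IsHomLift (𝟙 (𝒴.p.obj a)) (𝟙 a) := inferInstance
    exact (hV (𝒴.p.obj a) (𝟙 _) ⟨a, rfl⟩ (𝟙 a) h4).2 h3

include h𝒴 hWpull hWopen in
theorem isOpenSubstack_QW : AlgSt.IsOpenSubstack 𝒴 (QW W) Scheme.fppfPrecoverage := by
  have h1 : QW W = QT (TW W) := funext fun a => propext (QW_iff_QT W h𝒴 hWpull hWopen a)
  rw [h1]
  exact isOpenSubstack_QT h𝒴 _ (isOpen_TW W h𝒴 hWpull hWopen)

end Main

end Groth.Agent.Lib.T2H6.IsoNatOpen
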