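-- helper6 (team 2): quasi-compactness of a functor tested on quasi-compact open substacks.
import Mathlib
import Groth.Prelude.Def_AlgSt4
import Groth.Agent.Lib.T2H6OpenSub
import Groth.Agent.Lib.T2H6SmPre
import Groth.Agent.Lib.Helper15OpenSub
import Groth.Agent.Lib.Helper15ImmQc
import Groth.Agent.Lib.Helper17FpPaste
import Groth.Agent.Lib.Helper17AlgStEquiv2
import Groth.Agent.Lib.T2H6IsoNat
import Groth.Agent.S12987

set_option autoImplicit false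
set_option backward.isDefEq.respectTransparency false
set_option backward.isDefEq.respectTransparency.types false
set_option linter.unusedSimpArgs false
set_option linter.unusedSectionVars false
open CategoryTheory CategoryTheory.Limits AlgebraicGeometry Opposite

universe u

namespace Groth.Agent.Lib.T2H6.IsoNatQc

open Groth.Agent.Lib.Helper17 Groth.Agent.Lib.T2H6.OpenSub Groth.Agent.Lib.Helper15PtsTop
  Groth.Agent.Lib.Helper15PtsQc Groth.Agent.Lib.Helper15QcLocal Groth.Agent.Lib.Helper15Atlas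
  Groth.Agent.Lib.T2H6.SmPre

variable {S : Scheme.{u}} {𝒳 𝒴 : AlgSt.Cat S}

theorem isQuasiSeparatedOver_of_diag
    (h : AlgSt.RepByAlgSpWith (AlgSp.IsSeparatedMor ⊓ AlgSp.IsQuasiCompactMor)
      (FibCat.diag (FibCat.toSelf 𝒴))) : AlgSt.IsQuasiSeparatedOver 𝒴 :=
  repByAlgSpWith_mono (fun _ _ f hf => ⟨hf.2, Groth.Agent.Lib.Helper15OpenSub.repWith_mono
    (fun _ _ g hg => by have : IsClosedImmersion g := hg; infer_instance) hf.1⟩) h

/-- a compact set of points lies in a quasi-compact open set of points -/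
theorem exists_isOpen_isCompact_superset (h𝒴 : AlgSt.IsAlgStack Scheme.fppfPrecoverage 𝒴)
    (K : Set (AlgSt.Points 𝒴)) (hK : IsCompact K) :
    ∃ T : Set (AlgSt.Points 𝒴), IsOpen T ∧ IsCompact T ∧ K ⊆ T := by
  choose V hVo hVc hxV _ using fun x : AlgSt.Points 𝒴 =>
    exists_isOpen_isCompact_nhd h𝒴 x Set.univ isOpen_univ (Set.mem_univ x)
  obtain ⟨t, -, hKt⟩ := hK.elim_nhds_subcover V (fun x _ => (hVo x).mem_nhds (hxV x))
  refine ⟨⋃ x ∈ t, V x, isOpen_biUnion (fun x _ => hVo x),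
    t.isCompact_biUnion (fun x _ => hVc x), hKt⟩

/-- the open substack on a quasi-compact open set of points is quasi-compact -/
theorem isQuasiCompact_fullSub_QT (h𝒴 : AlgSt.IsAlgStack Scheme.fppfPrecoverage 𝒴)
    (T : Set (AlgSt.Points 𝒴)) (hTo : IsOpen T) (hTc : IsCompact T) :
    AlgSt.IsQuasiCompact (AlgSt.fullSub 𝒴 (QT T)) := by
  have hQ := isOpenSubstack_QT h𝒴 T hTo
  rw [isQuasiCompact_iff_compactSpace hQ.2.1]
  have hfl := Groth.Agent.Lib.Helper15OpenSub.flat_lfp_of_isOpenImm _ hQ.2.2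
  have hopen : IsOpenMap (AlgSt.Points.map (AlgSt.subIncl 𝒴 (QT T))) :=
    isOpenMap_points_map_of_flat_lfp hQ.2.1 h𝒴 _ hfl.1 hfl.2
  have hcont : Continuous (AlgSt.Points.map (AlgSt.subIncl 𝒴 (QT T))) :=
    continuous_points_map h𝒴 _
  have hinj := injective_points_map_subIncl h𝒴.isStack.1 T
  have hemb : Topology.IsOpenEmbedding (AlgSt.Points.map (AlgSt.subIncl 𝒴 (QT T))) :=
    Topology.IsOpenEmbedding.of_continuous_injective_isOpenMap hcont hinj hopen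
  refine ⟨?_⟩
  rw [hemb.isInducing.isCompact_iff, Set.image_univ, range_subIncl_QT]
  exact hTc

theorem isQuasiCompactMor_of_forall_open [QuasiSeparatedSpace S]
    (h𝒳 : AlgSt.IsAlgStack Scheme.fppfPrecoverage 𝒳)
    (h𝒴 : AlgSt.IsAlgStack Scheme.fppfPrecoverage 𝒴)
    (h𝒴d : AlgSt.RepByAlgSpWith (AlgSp.IsSeparatedMor ⊓ AlgSp.IsQuasiCompactMor)
      (FibCat.diag (FibCat.toSelf 𝒴)))
    (f : 𝒳 ⥤ᵇ 𝒴)
    (H : ∀ (𝒴' : AlgSt.Cat S), AlgSt.IsAlgStack Scheme.fppfPrecoverage 𝒴' →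
      AlgSt.IsQuasiCompact 𝒴' → ∀ (j : 𝒴' ⥤ᵇ 𝒴), AlgSt.IsOpenImm j →
        AlgSt.IsQuasiCompact (FibCat.fp j f)) :
    AlgSt.IsQuasiCompactMor Scheme.fppfPrecoverage f := by
  intro 𝒵 h𝒵 hqc g
  have hc : CompactSpace (AlgSt.Points 𝒵) := (isQuasiCompact_iff_compactSpace h𝒵).1 hqc
  have hK : IsCompact (Set.range (AlgSt.Points.map g)) :=
    isCompact_range (continuous_points_map h𝒴 g)
  obtain ⟨T, hTo, hTc, hKT⟩ := exists_isOpen_isCompact_superset h𝒴 _ hK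
  have hQ := isOpenSubstack_QT h𝒴 T hTo
  have hqc' := isQuasiCompact_fullSub_QT h𝒴 T hTo hTc
  have h1 := H (AlgSt.fullSub 𝒴 (QT T)) hQ.2.1 hqc' (AlgSt.subIncl 𝒴 (QT T)) hQ.2.2
  have hg : ∀ z, QT T (g.obj z) := fun z =>
    (QT_map_iff h𝒵.isStack.1 h𝒴.isStack.1 g T z).2 (fun p _ => hKT ⟨AlgSt.Points.mk p, rfl⟩)
  let g' : 𝒵 ⥤ᵇ AlgSt.fullSub 𝒴 (QT T) :=
    { toFunctor := ObjectProperty.lift (QT T) g.toFunctor hg
      w := g.w }
  have hgj : BasedFunctor.comp g' (AlgSt.subIncl 𝒴 (QT T)) = g := rfl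
  have hpre𝒴 := IsStack.isPrestack _ h𝒴.isStack
  have hfp : AlgSt.IsAlgStack Scheme.fppfPrecoverage
      (FibCat.fp (AlgSt.subIncl 𝒴 (QT T)) f) :=
    isAlgStack_fp_of_isPrestack hpre𝒴 h𝒴.diag hQ.2.1 h𝒳 _ f
  have hmono := Groth.Agent.Lib.T2H6.IsoNatLib.isMono_of_isOpenImm _ hQ.2.2
  have hqs : AlgSt.IsQuasiSeparatedOver (AlgSt.fullSub 𝒴 (QT T)) :=
    Groth.Agent.Lib.Helper15ImmQc.isQuasiSeparatedOver_of_isMono hQ.2.1.isStack.1 h𝒴.isStack.1
      _ hmono (isQuasiSeparatedOver_of_diag h𝒴d)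
  have hf' : AlgSt.IsQuasiCompactMor Scheme.fppfPrecoverage
      (FibCat.fpFst (AlgSt.subIncl 𝒴 (QT T)) f) :=
    Groth.Agent.S12987.result S _ _ hfp hQ.2.1 _ h1 hqs
  have h2 := hf' 𝒵 h𝒵 hqc g'
  have h3 := isQuasiCompact_of_isEquivOver (pasteL f (AlgSt.subIncl 𝒴 (QT T)) g')
    (isEquivOver_pasteL f (AlgSt.subIncl 𝒴 (QT T)) g') h2
  rw [hgj] at h3
  exact h3

end Groth.Agent.Lib.T2H6.IsoNatQc
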