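-- helper6 (team 2): universally injective iff the diagonal is surjective on points.
import Mathlib
import Groth.Agent.Lib.Helper15DiagBC
import Groth.Agent.Lib.Helper17StkPts2
import Groth.Agent.Lib.Helper17StkPts3
import Groth.Agent.Lib.Helper15UnivComp
import Groth.Agent.Lib.Helper17FibFp

set_option autoImplicit false
set_option backward.isDefEq.respectTransparency false
set_option backward.isDefEq.respectTransparency.types false
open CategoryTheory CategoryTheory.Functor CategoryTheory.Limits Opposite AlgebraicGeometry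

universe u

namespace Groth.Agent.Lib.T2H6.UnivInj

open Groth.Agent.Lib.Helper17 Groth.Agent.Lib.Helper15.DiagBC Groth.Agent.Lib.Helper15UnivComp

variable {S : Scheme.{u}} {𝒳 𝒴 𝒵 : AlgSt.Cat S}

/-- a functor with a diagonal surjective on points is injective on points -/
theorem injective_of_surjective_diag (h𝒳 : FibCat.IsFibGrpd 𝒳.p) (h𝒴 : FibCat.IsFibGrpd 𝒴.p)
    (f : 𝒳 ⥤ᵇ 𝒴) (hΔ : AlgSt.IsSurjective (FibCat.diag f)) :
    Function.Injective (AlgSt.Points.map f) := by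
  intro z₁ z₂ h
  obtain ⟨u, hu₁, hu₂⟩ := points_fp_surjective h𝒳 h𝒴 h𝒳 f f z₁ z₂ h
  obtain ⟨v, rfl⟩ := hΔ u
  rw [← hu₁, ← hu₂, ← points_map_comp, ← points_map_comp]
  exact points_map_congr _ _ (Iso.refl _) v

/-- the diagonal of a base change is surjective on points when the diagonal is -/
theorem surjective_diag_fpFst (h𝒳 : FibCat.IsFibGrpd 𝒳.p) (h𝒴 : FibCat.IsFibGrpd 𝒴.p)
    (h𝒵 : FibCat.IsFibGrpd 𝒵.p) (f : 𝒳 ⥤ᵇ 𝒴) (g : 𝒵 ⥤ᵇ 𝒴)
    (hΔ : AlgSt.IsSurjective (FibCat.diag f)) :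
    AlgSt.IsSurjective (FibCat.diag (FibCat.fpFst g f)) := by
  intro u
  have hW : FibCat.IsFibGrpd (FibCat.fp g f).p := isFibGrpd_fp g f h𝒵 h𝒳 h𝒴
  have hT : FibCat.IsFibGrpd (FibCat.fp (FibCat.fpFst g f) (FibCat.fpFst g f)).p :=
    isFibGrpd_fp _ _ hW hW h𝒵
  have hXX : FibCat.IsFibGrpd (FibCat.fp f f).p := isFibGrpd_fp f f h𝒳 h𝒳 h𝒴
  obtain ⟨x, hx⟩ := hΔ (AlgSt.Points.map (GG f g) u)
  obtain ⟨w, hw, -⟩ := points_fp_surjective h𝒳 hXX hT (FibCat.diag f) (GG f g) u x hx.symm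
  obtain ⟨v, rfl⟩ := points_map_surjective_of_isEquivOver (EE f g) (isEquivOver_EE f g) w
  refine ⟨v, ?_⟩
  rw [← hw, ← points_map_comp]
  exact points_map_congr _ _ (Iso.refl _) v

theorem isUnivInjective_iff_isSurjective_diag
    (h𝒳 : AlgSt.IsAlgStack Scheme.fppfPrecoverage 𝒳) (h𝒴 : AlgSt.IsAlgStack Scheme.fppfPrecoverage 𝒴)
    (f : 𝒳 ⥤ᵇ 𝒴) :
    AlgSt.IsUnivInjective Scheme.fppfPrecoverage f ↔ AlgSt.IsSurjective (FibCat.diag f) := by
  constructor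
  · intro h u
    have hinj := h 𝒳 h𝒳 f
    refine ⟨AlgSt.Points.map (FibCat.fpFst f f) u, hinj ?_⟩
    rw [← points_map_comp]
    have := points_map_congr (BasedFunctor.comp (FibCat.diag f) (FibCat.fpFst f f))
      (BasedFunctor.id 𝒳) (Iso.refl _) (AlgSt.Points.map (FibCat.fpFst f f) u)
    rw [this, points_map_id]
  · intro hΔ 𝒵 h𝒵 g
    have hW : FibCat.IsFibGrpd (FibCat.fp g f).p :=
      isFibGrpd_fp g f h𝒵.isStack.1 h𝒳.isStack.1 h𝒴.isStack.1
    exact injective_of_surjective_diag hW h𝒵.isStack.1 (FibCat.fpFst g f)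
      (surjective_diag_fpFst h𝒳.isStack.1 h𝒴.isStack.1 h𝒵.isStack.1 f g hΔ)

end Groth.Agent.Lib.T2H6.UnivInj
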