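-- helper6 (team 2): a functor of algebraic stacks is quasi-compact iff preimages of quasi-compact
-- open sets of points are compact.
import Mathlib
import Groth.Agent.Lib.T2H6IsoNatQc
import Groth.Agent.Lib.T2H6UnivInj
import Groth.Agent.Lib.Helper17FibDiag
import Groth.Agent.Lib.Helper17StkPts2
import Groth.Agent.Lib.Helper17StkPts3

set_option autoImplicit false
set_option backward.isDefEq.respectTransparency false
set_option backward.isDefEq.respectTransparency.types false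
set_option linter.unusedSimpArgs false
set_option linter.unusedSectionVars false
open CategoryTheory CategoryTheory.Limits AlgebraicGeometry Opposite

universe u

namespace Groth.Agent.Lib.T2H6.IsoNatQc

open Groth.Agent.Lib.Helper17 Groth.Agent.Lib.T2H6.OpenSub Groth.Agent.Lib.Helper15PtsTop
  Groth.Agent.Lib.Helper15PtsQc Groth.Agent.Lib.Helper15QcLocal Groth.Agent.Lib.Helper15Atlas
  Groth.Agent.Lib.T2H6.SmPre Groth.Agent.Lib.Helper15UnivComp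

variable {S : Scheme.{u}} {𝒳 𝒴 : AlgSt.Cat S}

theorem isQuasiCompactMor_of_forall_QT [QuasiSeparatedSpace S]
    (h𝒳 : AlgSt.IsAlgStack Scheme.fppfPrecoverage 𝒳)
    (h𝒴 : AlgSt.IsAlgStack Scheme.fppfPrecoverage 𝒴)
    (h𝒴d : AlgSt.RepByAlgSpWith (AlgSp.IsSeparatedMor ⊓ AlgSp.IsQuasiCompactMor)
      (FibCat.diag (FibCat.toSelf 𝒴)))
    (f : 𝒳 ⥤ᵇ 𝒴)
    (H : ∀ T : Set (AlgSt.Points 𝒴), IsOpen T → IsCompact T →
        AlgSt.IsQuasiCompact (FibCat.fp (AlgSt.subIncl 𝒴 (QT T)) f)) :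
    AlgSt.IsQuasiCompactMor Scheme.fppfPrecoverage f := by
  intro 𝒵 h𝒵 hqc g
  have hc : CompactSpace (AlgSt.Points 𝒵) := (isQuasiCompact_iff_compactSpace h𝒵).1 hqc
  have hK : IsCompact (Set.range (AlgSt.Points.map g)) :=
    isCompact_range (continuous_points_map h𝒴 g)
  obtain ⟨T, hTo, hTc, hKT⟩ := exists_isOpen_isCompact_superset h𝒴 _ hK
  have hQ := isOpenSubstack_QT h𝒴 T hTo
  have h1 := H T hTo hTc
  have hg : ∀ z, QT T (g.obj z) := fun z =>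
    (QT_map_iff h𝒵.isStack.1 h𝒴.isStack.1 g T z).2 (fun p _ => hKT ⟨AlgSt.Points.mk p, rfl⟩)
  let g' : 𝒵 ⥤ᵇ AlgSt.fullSub 𝒴 (QT T) :=
    { toFunctor := ObjectProperty.lift (QT T) g.toFunctor hg
      w := g.w }
  have hgj : BasedFunctor.comp g' (AlgSt.subIncl 𝒴 (QT T)) = g := rfl
  have hpre𝒴 := IsStack.isPrestack _ h𝒴.isStack
  have hfp : AlgSt.IsAlgStack Scheme.fppfPrecoverage
      (FibCat.fp (AlgSt.subIncl 𝒴 (QT T)) f) :=
    isAlgStack_fp_of_isPrestack hpre𝒴 h𝒴.diag hQ.2.1 h𝒳 _ f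
  have hmono := Groth.Agent.Lib.T2H6.IsoNatLib.isMono_of_isOpenImm _ hQ.2.2
  have hqs : AlgSt.IsQuasiSeparatedOver (AlgSt.fullSub 𝒴 (QT T)) :=
    Groth.Agent.Lib.Helper15ImmQc.isQuasiSeparatedOver_of_isMono hQ.2.1.isStack.1 h𝒴.isStack.1
      _ hmono (isQuasiSeparatedOver_of_diag h𝒴d)
  have hf' : AlgSt.IsQuasiCompactMor Scheme.fppfPrecoverage
      (FibCat.fpFst (AlgSt.subIncl 𝒴 (QT T)) f) :=
    Groth.Agent.S12987.result S _ _ hfp hQ.2.1 _ h1 hqs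
  have h2 := hf' 𝒵 h𝒵 hqc g'
  have h3 := Groth.Agent.Lib.Helper17.isQuasiCompact_of_isEquivOver (pasteL f (AlgSt.subIncl 𝒴 (QT T)) g')
    (isEquivOver_pasteL f (AlgSt.subIncl 𝒴 (QT T)) g') h2
  rw [hgj] at h3
  exact h3

section Emb

variable (h𝒳 : AlgSt.IsAlgStack Scheme.fppfPrecoverage 𝒳)
  (h𝒴 : AlgSt.IsAlgStack Scheme.fppfPrecoverage 𝒴) (f : 𝒳 ⥤ᵇ 𝒴)
  (T : Set (AlgSt.Points 𝒴)) (hTo : IsOpen T)

include h𝒳 h𝒴 hTo in
theorem isAlgStack_fp_QT :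
    AlgSt.IsAlgStack Scheme.fppfPrecoverage (FibCat.fp (AlgSt.subIncl 𝒴 (QT T)) f) :=
  isAlgStack_fp_of_isPrestack (IsStack.isPrestack _ h𝒴.isStack) h𝒴.diag
    (isOpenSubstack_QT h𝒴 T hTo).2.1 h𝒳 _ f

include h𝒳 h𝒴 in
theorem range_fpSnd_QT :
    Set.range (AlgSt.Points.map (FibCat.fpSnd (AlgSt.subIncl 𝒴 (QT T)) f)) =
      AlgSt.Points.map f ⁻¹' T := by
  have hQfib : FibCat.IsFibGrpd (AlgSt.fullSub 𝒴 (QT T)).p :=
    isFibGrpd_subCat (QT T) h𝒴.isStack.1 (fun y x φ hx =>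
      ⟨y, Iso.refl _, QT_of_hom T φ hx, by simp only [Iso.refl_hom]; infer_instance⟩)
  apply Set.Subset.antisymm
  · rintro _ ⟨w, rfl⟩
    change AlgSt.Points.map f (AlgSt.Points.map (FibCat.fpSnd (AlgSt.subIncl 𝒴 (QT T)) f) w) ∈ T
    rw [← points_map_comp, ← points_map_congr _ _
      ((BasedNatTrans.forgetful _ _).mapIso (FibCat.fpIso (AlgSt.subIncl 𝒴 (QT T)) f)),
      points_map_comp]
    have h1 : AlgSt.Points.map (AlgSt.subIncl 𝒴 (QT T))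
        (AlgSt.Points.map (FibCat.fpFst (AlgSt.subIncl 𝒴 (QT T)) f) w) ∈
        Set.range (AlgSt.Points.map (AlgSt.subIncl 𝒴 (QT T))) := ⟨_, rfl⟩
    rwa [range_subIncl_QT] at h1
  · intro x hx
    have hx' : AlgSt.Points.map f x ∈ Set.range (AlgSt.Points.map (AlgSt.subIncl 𝒴 (QT T))) := by
      rw [range_subIncl_QT]; exact hx
    obtain ⟨z, hz⟩ := hx'
    obtain ⟨w, -, hw⟩ := points_fp_surjective h𝒳.isStack.1 h𝒴.isStack.1 hQfib f
      (AlgSt.subIncl 𝒴 (QT T)) z x hz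
    exact ⟨w, hw⟩

include h𝒳 h𝒴 hTo in
theorem isOpenEmbedding_fpSnd_QT :
    Topology.IsOpenEmbedding (AlgSt.Points.map (FibCat.fpSnd (AlgSt.subIncl 𝒴 (QT T)) f)) := by
  have hQ := isOpenSubstack_QT h𝒴 T hTo
  have hfp := isAlgStack_fp_QT h𝒳 h𝒴 f T hTo
  have hO : AlgSt.IsOpenImm (FibCat.fpSnd (AlgSt.subIncl 𝒴 (QT T)) f) :=
    repByAlgSpWith_fpSnd _ _ f hQ.2.2
  have hfl := Groth.Agent.Lib.Helper15OpenSub.flat_lfp_of_isOpenImm _ hO
  have hopen := isOpenMap_points_map_of_flat_lfp hfp h𝒳 _ hfl.1 hfl.2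
  have hcont := continuous_points_map (𝒳 := FibCat.fp (AlgSt.subIncl 𝒴 (QT T)) f) h𝒳
    (FibCat.fpSnd (AlgSt.subIncl 𝒴 (QT T)) f)
  have hmono := Groth.Agent.Lib.T2H6.IsoNatLib.isMono_of_isOpenImm _ hO
  obtain ⟨_, _⟩ := Groth.Agent.Lib.Helper17.MonoFF.full_faithful_of_isMono hfp.isStack.1
    h𝒳.isStack.1 _ hmono
  have hΔ := isEquivOver_diag_of_fullyFaithful (FibCat.fpSnd (AlgSt.subIncl 𝒴 (QT T)) f)
  have hinj := Groth.Agent.Lib.T2H6.UnivInj.injective_of_surjective_diag hfp.isStack.1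
    h𝒳.isStack.1 _ (points_map_surjective_of_isEquivOver _ hΔ)
  exact Topology.IsOpenEmbedding.of_continuous_injective_isOpenMap hcont hinj hopen

end Emb

theorem isQuasiCompactMor_iff_preimage [QuasiSeparatedSpace S]
    (h𝒳 : AlgSt.IsAlgStack Scheme.fppfPrecoverage 𝒳)
    (h𝒴 : AlgSt.IsAlgStack Scheme.fppfPrecoverage 𝒴)
    (h𝒴d : AlgSt.RepByAlgSpWith (AlgSp.IsSeparatedMor ⊓ AlgSp.IsQuasiCompactMor)
      (FibCat.diag (FibCat.toSelf 𝒴)))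
    (f : 𝒳 ⥤ᵇ 𝒴) :
    AlgSt.IsQuasiCompactMor Scheme.fppfPrecoverage f ↔
      ∀ T : Set (AlgSt.Points 𝒴), IsOpen T → IsCompact T →
        IsCompact (AlgSt.Points.map f ⁻¹' T) := by
  constructor
  · intro hf T hTo hTc
    have hQ := isOpenSubstack_QT h𝒴 T hTo
    have h1 := hf _ hQ.2.1 (isQuasiCompact_fullSub_QT h𝒴 T hTo hTc) (AlgSt.subIncl 𝒴 (QT T))
    have hfp := isAlgStack_fp_QT h𝒳 h𝒴 f T hTo
    have hc : CompactSpace (AlgSt.Points (FibCat.fp (AlgSt.subIncl 𝒴 (QT T)) f)) :=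
      (isQuasiCompact_iff_compactSpace hfp).1 h1
    rw [← range_fpSnd_QT h𝒳 h𝒴 f T]
    exact isCompact_range (continuous_points_map h𝒳 _)
  · intro H
    apply isQuasiCompactMor_of_forall_QT h𝒳 h𝒴 h𝒴d f
    intro T hTo hTc
    have hfp := isAlgStack_fp_QT h𝒳 h𝒴 f T hTo
    rw [isQuasiCompact_iff_compactSpace hfp]
    have hemb := isOpenEmbedding_fpSnd_QT h𝒳 h𝒴 f T hTo
    refine ⟨?_⟩
    rw [hemb.isInducing.isCompact_iff, Set.image_univ, range_fpSnd_QT h𝒳 h𝒴 f T]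
    exact H T hTo hTc

end Groth.Agent.Lib.T2H6.IsoNatQc
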