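-- helper6 (team 2): quasi-compactness of a functor only depends on the map of presheaves of
-- isomorphism classes.
import Mathlib
import Groth.Agent.Lib.T2H6IsoNatQc2
import Groth.Agent.Lib.T2H6IsoNatHomeo

set_option autoImplicit false
set_option backward.isDefEq.respectTransparency false
set_option backward.isDefEq.respectTransparency.types false
set_option linter.unusedSimpArgs false
set_option linter.unusedSectionVars false
open CategoryTheory CategoryTheory.Limits AlgebraicGeometry Opposite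

universe u

namespace Groth.Agent.Lib.T2H6.IsoNatQc

open Groth.Agent.Lib.T2H6.IsoNatPts

variable {S : Scheme.{u}} {𝒳 𝒴 𝒳' 𝒴' : AlgSt.Cat S}

theorem isQuasiCompactMor_of_fIsoSq [QuasiSeparatedSpace S]
    (h𝒳 : AlgSt.IsAlgStack Scheme.fppfPrecoverage 𝒳)
    (h𝒴 : AlgSt.IsAlgStack Scheme.fppfPrecoverage 𝒴)
    (h𝒴d : AlgSt.RepByAlgSpWith (AlgSp.IsSeparatedMor ⊓ AlgSp.IsQuasiCompactMor)
      (FibCat.diag (FibCat.toSelf 𝒴)))
    (h𝒳' : AlgSt.IsAlgStack Scheme.fppfPrecoverage 𝒳')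
    (h𝒴' : AlgSt.IsAlgStack Scheme.fppfPrecoverage 𝒴')
    (h𝒴'd : AlgSt.RepByAlgSpWith (AlgSp.IsSeparatedMor ⊓ AlgSp.IsQuasiCompactMor)
      (FibCat.diag (FibCat.toSelf 𝒴')))
    (f : 𝒳 ⥤ᵇ 𝒴) (f' : 𝒳' ⥤ᵇ 𝒴') (φ : IsoNat.FIsoSq f f')
    (hf : AlgSt.IsQuasiCompactMor Scheme.fppfPrecoverage f) :
    AlgSt.IsQuasiCompactMor Scheme.fppfPrecoverage f' := by
  rw [isQuasiCompactMor_iff_preimage h𝒳' h𝒴' h𝒴'd f']
  rw [isQuasiCompactMor_iff_preimage h𝒳 h𝒴 h𝒴d f] at hf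
  intro T' hT'o hT'c
  have hfibX := h𝒳.isStack.1
  have hfibY := h𝒴.isStack.1
  -- the corresponding set of points of `𝒴`
  have hTo : IsOpen (ptsMap φ.tgt ⁻¹' T') :=
    (continuous_ptsMap φ.tgt h𝒴').isOpen_preimage T' hT'o
  have hTeq : ptsMap φ.tgt ⁻¹' T' = ptsMap (fIsoSymm hfibY h𝒴'.isStack.1 φ.tgt) '' T' := by
    ext y
    constructor
    · intro hy
      exact ⟨ptsMap φ.tgt y, hy, ptsMap_symm_ptsMap hfibY h𝒴'.isStack.1 φ.tgt y⟩
    · rintro ⟨y', hy', rfl⟩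
      change ptsMap φ.tgt _ ∈ T'
      rw [ptsMap_ptsMap_symm]
      exact hy'
  have hTc : IsCompact (ptsMap φ.tgt ⁻¹' T') := by
    rw [hTeq]
    exact hT'c.image (continuous_ptsMap (fIsoSymm hfibY h𝒴'.isStack.1 φ.tgt) h𝒴)
  have h1 := hf _ hTo hTc
  have h2 : AlgSt.Points.map f' ⁻¹' T' =
      ptsMap φ.src '' (AlgSt.Points.map f ⁻¹' (ptsMap φ.tgt ⁻¹' T')) := by
    ext x'
    constructor
    · intro hx'
      refine ⟨ptsMap (fIsoSymm hfibX h𝒳'.isStack.1 φ.src) x', ?_,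
        ptsMap_ptsMap_symm hfibX h𝒳'.isStack.1 φ.src x'⟩
      change ptsMap φ.tgt (AlgSt.Points.map f _) ∈ T'
      rw [ptsMap_comm φ, ptsMap_ptsMap_symm]
      exact hx'
    · rintro ⟨x, hx, rfl⟩
      change AlgSt.Points.map f' (ptsMap φ.src x) ∈ T'
      rw [← ptsMap_comm φ]
      exact hx
  rw [h2]
  exact h1.image (continuous_ptsMap φ.src h𝒳')

end Groth.Agent.Lib.T2H6.IsoNatQc
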