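-- helper6 (team 2): surjectivity on points only depends on the map of presheaves of isomorphism classes.
import Mathlib
import Groth.Prelude.Def_AlgSt4
import Groth.Prelude.Def_W4c2isonaturalstkIso
import Groth.Agent.Lib.Helper17StkPts
import Groth.Agent.Lib.Helper17StkLoc

set_option autoImplicit false
set_option backward.isDefEq.respectTransparency false
set_option backward.isDefEq.respectTransparency.types false
set_option linter.unusedSimpArgs false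
set_option linter.unusedSectionVars false
open CategoryTheory CategoryTheory.Limits AlgebraicGeometry Opposite

universe u

namespace Groth.Agent.Lib.T2H6.IsoNatSurj

open Groth.Agent.Lib.Helper17

variable {S : Scheme.{u}} {𝒳 𝒴 𝒳' 𝒴' : AlgSt.Cat S}

theorem isSurjective_of_fIsoSq (h𝒳 : FibCat.IsFibGrpd 𝒳.p) (h𝒴 : FibCat.IsFibGrpd 𝒴.p)
    (f : 𝒳 ⥤ᵇ 𝒴) (f' : 𝒳' ⥤ᵇ 𝒴') (φ : IsoNat.FIsoSq f f') (hf : AlgSt.IsSurjective f) :
    AlgSt.IsSurjective f' := by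
  intro P'
  obtain ⟨q', rfl⟩ := AlgSt.Points.mk_surjective P'
  let T : Over S := Over.mk q'.str
  let y'F : 𝒴'.p.Fiber T := ⟨q'.obj, q'.lies⟩
  obtain ⟨y, hy⟩ := Quotient.exists_rep ((φ.tgt.toEquiv T).symm (IsoNat.cls y'F))
  have hy' : φ.tgt.toEquiv T (IsoNat.cls y) = IsoNat.cls y'F := by
    change φ.tgt.toEquiv T (Quotient.mk _ y) = _
    rw [hy]
    exact Equiv.apply_symm_apply _ _
  let q : AlgSt.FPt 𝒴 := { K := q'.K, str := q'.str, obj := y.1, lies := y.2 }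
  obtain ⟨P, hP⟩ := hf (AlgSt.Points.mk q)
  obtain ⟨p₀, rfl⟩ := AlgSt.Points.mk_surjective P
  rw [AlgSt.Points.map_mk] at hP
  obtain ⟨r, a, b, -⟩ := fpt_rel_of_mk_eq h𝒴 hP
  let TL : Over S := Over.mk r.str
  -- pull back `p₀` to the field of `r`
  let ga : TL ⟶ Over.mk p₀.str := eqToHom r.lies.symm ≫ 𝒴.p.map a ≫ eqToHom (p₀.map f).lies
  have hga : 𝒴.p.IsHomLift ga a := by
    apply IsHomLift.of_fac' 𝒴.p _ _ r.lies (p₀.map f).lies
    simp [ga]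
  obtain ⟨x, ξ, hξ⟩ := h𝒳.exists_lift (x := p₀.obj) (ga ≫ eqToHom p₀.lies.symm)
  have hξ' : 𝒳.p.IsHomLift ga ξ := by
    apply IsHomLift.of_fac' 𝒳.p _ _
      (IsHomLift.domain_eq 𝒳.p (ga ≫ eqToHom p₀.lies.symm) ξ) p₀.lies
    have := IsHomLift.fac' 𝒳.p (ga ≫ eqToHom p₀.lies.symm) ξ
    rw [this]
    simp
  have hfξ : 𝒴.p.IsHomLift ga (f.map ξ) := BasedFunctor.preserves_isHomLift f ga ξ
  obtain ⟨e, he, -⟩ := IsFibGrpd.exists_iso_of_lifts h𝒴 ga (f.map ξ) a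
  have hxl : 𝒳.p.obj x = TL := IsHomLift.domain_eq 𝒳.p ga ξ
  let xF : 𝒳.p.Fiber TL := ⟨x, hxl⟩
  let rF : 𝒴.p.Fiber TL := ⟨r.obj, r.lies⟩
  have h1 : IsoNat.mapCls f TL (IsoNat.cls xF) = IsoNat.cls rF := by
    have he' : 𝒴.p.IsHomLift (𝟙 TL) e.inv := IsHomLift.lift_id_inv 𝒴.p TL e
    exact Quotient.sound ⟨⟨⟨e.hom, he⟩, ⟨e.inv, he'⟩, Subtype.ext e.hom_inv_id,
      Subtype.ext e.inv_hom_id⟩⟩
  -- naturality of the target isomorphism along `b`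
  let gb : TL ⟶ T := eqToHom r.lies.symm ≫ 𝒴.p.map b ≫ eqToHom q.lies
  have hgb : 𝒴.p.IsHomLift gb b := by
    apply IsHomLift.of_fac' 𝒴.p _ _ r.lies q.lies
    simp [gb]
  obtain ⟨z', z, c, hc, hz', hz⟩ := φ.tgt.natural gb rF y b hgb
  have hzy : IsoNat.cls z = IsoNat.cls y'F := hz.symm.trans hy'
  obtain ⟨ε⟩ : Nonempty (z ≅ y'F) := Quotient.exact hzy
  obtain ⟨x'F, hx'F⟩ := Quotient.exists_rep (φ.src.toEquiv TL (IsoNat.cls xF))
  have h2 : IsoNat.mapCls f' TL (IsoNat.cls x'F) = IsoNat.cls z' := by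
    change IsoNat.mapCls f' TL (Quotient.mk _ x'F) = _
    rw [hx'F, ← φ.comm, h1, hz']
  obtain ⟨δ⟩ : Nonempty ((IsoNat.fibFun f' TL).obj x'F ≅ z') := Quotient.exact h2
  let p' : AlgSt.FPt 𝒳' := { K := r.K, str := r.str, obj := x'F.1, lies := x'F.2 }
  refine ⟨AlgSt.Points.mk p', ?_⟩
  rw [AlgSt.Points.map_mk]
  exact AlgSt.Points.sound ⟨p'.map f', 𝟙 _, δ.hom.1 ≫ c ≫ ε.hom.1, trivial⟩

end Groth.Agent.Lib.T2H6.IsoNatSurj
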