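import Mathlib
import Groth.Prelude.Def_StabCat
import Groth.Agent.Lib.T2H6FiltExt
import Groth.Agent.Lib.T2H6JHLattice

/-!
# Jordan–Hölder chains of a subobject and of the quotient

For a monomorphism `ι : G ⟶ E` in an abelian category, chains of subobjects of `G` and of `cokernel ι` with
simple factors concatenate (push forward along `ι`, pull back along `cokernel.π ι`) to such a chain of `E`;
by the Jordan–Hölder theorem their graded objects are retracts of the graded object of any such chain of `E`.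

* `pbFactorIso` : pulling back a pair of subobjects along an epimorphism does not change the quotient.
* `strictMono_pullback`, `pullback_bot_eq`.
* `exists_retract` : the graded objects of the two chains are retracts.
-/

universe v u

open CategoryTheory CategoryTheory.Limits StabCat

namespace Groth.Agent.Lib.T2H6.JHConcat

open Groth.Agent.Lib.T2H6.FiltExt Groth.Agent.Lib.T2H6.JHLattice

variable {C : Type u} [Category.{v} C] [Abelian C]

theorem isIso_ofLE_of_eq {E : C} {x y : Subobject E} (h : x = y) (hle : x ≤ y) :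
    IsIso (Subobject.ofLE x y hle) := by
  subst h
  rw [Subobject.ofLE_refl]
  infer_instance

section pullback

variable {E Q : C} (π : E ⟶ Q) [Epi π]

instance epi_pullbackπ (c : Subobject Q) : Epi (Subobject.pullbackπ π c) :=
  Abelian.epi_fst_of_isLimit c.arrow π (Subobject.isPullback π c).isLimit

variable {π} in
theorem pullbackπ_ofLE {c c' : Subobject Q} (h : c ≤ c')
    (h' : (Subobject.pullback π).obj c ≤ (Subobject.pullback π).obj c') :
    Subobject.ofLE _ _ h' ≫ Subobject.pullbackπ π c' = Subobject.pullbackπ π c ≫ Subobject.ofLE c c' h := by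
  rw [← cancel_mono c'.arrow, Category.assoc, Category.assoc, Subobject.ofLE_arrow,
    (Subobject.isPullback π c').w, Subobject.ofLE_arrow_assoc, (Subobject.isPullback π c).w]

/-- the map `π⁻¹ c' ⟶ c' ⟶ c' / c`. -/
noncomputable def toQuot {c c' : Subobject Q} (h : c ≤ c') :
    (((Subobject.pullback π).obj c' : Subobject E) : C) ⟶ cokernel (Subobject.ofLE c c' h) :=
  Subobject.pullbackπ π c' ≫ cokernel.π (Subobject.ofLE c c' h)

instance {c c' : Subobject Q} (h : c ≤ c') : Epi (toQuot π h) := by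
  unfold toQuot
  infer_instance

theorem ofLE_toQuot {c c' : Subobject Q} (h : c ≤ c')
    (h' : (Subobject.pullback π).obj c ≤ (Subobject.pullback π).obj c') :
    Subobject.ofLE _ _ h' ≫ toQuot π h = 0 := by
  unfold toQuot
  rw [← Category.assoc, pullbackπ_ofLE h h', Category.assoc, cokernel.condition, comp_zero]

theorem lift_aux {c c' : Subobject Q} (h : c ≤ c') {T : C}
    (t : T ⟶ (((Subobject.pullback π).obj c' : Subobject E) : C)) (ht : t ≫ toQuot π h = 0) :
    Abelian.monoLift (Subobject.ofLE c c' h) (t ≫ Subobject.pullbackπ π c')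
        (by rw [Category.assoc]; exact ht) ≫ c.arrow =
      (t ≫ ((Subobject.pullback π).obj c').arrow) ≫ π := by
  have e : Abelian.monoLift (Subobject.ofLE c c' h) (t ≫ Subobject.pullbackπ π c')
      (by rw [Category.assoc]; exact ht) ≫ Subobject.ofLE c c' h = t ≫ Subobject.pullbackπ π c' :=
    Abelian.monoLift_comp _ _ _
  calc _ = Abelian.monoLift (Subobject.ofLE c c' h) (t ≫ Subobject.pullbackπ π c')
        (by rw [Category.assoc]; exact ht) ≫ Subobject.ofLE c c' h ≫ c'.arrow := by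
          rw [Subobject.ofLE_arrow]
    _ = (t ≫ Subobject.pullbackπ π c') ≫ c'.arrow := by rw [← Category.assoc, e]
    _ = (t ≫ ((Subobject.pullback π).obj c').arrow) ≫ π := by
          rw [Category.assoc, Category.assoc, (Subobject.isPullback π c').w]

/-- `π⁻¹ c` is the kernel of `π⁻¹ c' ⟶ c' / c`. -/
noncomputable def isLimitToQuot {c c' : Subobject Q} (h : c ≤ c')
    (h' : (Subobject.pullback π).obj c ≤ (Subobject.pullback π).obj c') :
    IsLimit (KernelFork.ofι (Subobject.ofLE _ _ h') (ofLE_toQuot π h h')) := by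
  refine KernelFork.IsLimit.ofι _ _
    (fun {T} t ht => (Subobject.isPullback π c).lift
      (Abelian.monoLift (Subobject.ofLE c c' h) (t ≫ Subobject.pullbackπ π c')
        (by rw [Category.assoc]; exact ht))
      (t ≫ ((Subobject.pullback π).obj c').arrow) (lift_aux π h t ht))
    (fun {T} t ht => ?_) (fun {T} t ht m hm => ?_)
  · rw [← cancel_mono ((Subobject.pullback π).obj c').arrow, Category.assoc, Subobject.ofLE_arrow]
    exact IsPullback.lift_snd _ _ _ _
  · rw [← cancel_mono (Subobject.ofLE _ _ h'), hm,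
      ← cancel_mono ((Subobject.pullback π).obj c').arrow, Category.assoc, Subobject.ofLE_arrow]
    exact (IsPullback.lift_snd _ _ _ _).symm

/-- pulling back a pair of subobjects along an epimorphism does not change the quotient. -/
noncomputable def pbFactorIso {c c' : Subobject Q} (h : c ≤ c')
    (h' : (Subobject.pullback π).obj c ≤ (Subobject.pullback π).obj c') :
    cokernel (Subobject.ofLE _ _ h') ≅ cokernel (Subobject.ofLE c c' h) :=
  IsColimit.coconePointUniqueUpToIso (colimit.isColimit _)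
    (Abelian.epiIsCokernelOfKernel _ (isLimitToQuot π h h'))

theorem pullback_le_iff {c c' : Subobject Q} (h : c ≤ c')
    (h' : (Subobject.pullback π).obj c' ≤ (Subobject.pullback π).obj c) : c' ≤ c := by
  have hle : (Subobject.pullback π).obj c ≤ (Subobject.pullback π).obj c' :=
    (Subobject.pullback π).monotone h
  have heq : (Subobject.pullback π).obj c = (Subobject.pullback π).obj c' := le_antisymm hle h'
  haveI : IsIso (Subobject.ofLE _ _ hle) := isIso_ofLE_of_eq heq hle
  have hz : IsZero (cokernel (Subobject.ofLE _ _ hle)) := isZero_cokernel_of_epi _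
  have hz' : IsZero (cokernel (Subobject.ofLE c c' h)) := hz.of_iso (pbFactorIso π h hle).symm
  haveI : Epi (Subobject.ofLE c c' h) := Preadditive.epi_of_isZero_cokernel _ hz'
  haveI : IsIso (Subobject.ofLE c c' h) := isIso_of_mono_of_epi _
  exact Subobject.le_of_comm (inv (Subobject.ofLE c c' h)) (by
    rw [IsIso.inv_comp_eq, Subobject.ofLE_arrow])

theorem strictMono_pullback : StrictMono (Subobject.pullback π).obj := by
  intro c c' h
  refine lt_of_le_of_ne ((Subobject.pullback π).monotone h.le) (fun heq => ?_)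
  exact not_le_of_gt h (pullback_le_iff π h.le heq.ge)

end pullback

section bot

variable {G E : C} (ι : G ⟶ E) [Mono ι]

theorem pullback_bot_eq : (Subobject.pullback (cokernel.π ι)).obj ⊥ = Subobject.mk ι := by
  apply le_antisymm
  · have h0 : ((Subobject.pullback (cokernel.π ι)).obj ⊥).arrow ≫ cokernel.π ι = 0 := by
      rw [← (Subobject.isPullback (cokernel.π ι) ⊥).w, Subobject.bot_arrow, comp_zero]
    exact Subobject.le_mk_of_comm (Abelian.monoLift ι _ h0) (Abelian.monoLift_comp _ _ _)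
  · refine Subobject.mk_le_of_comm
      ((Subobject.isPullback (cokernel.π ι) ⊥).lift 0 ι (by rw [zero_comp, cokernel.condition])) ?_
    exact IsPullback.lift_snd _ _ _ _

end bot


section concat

variable {G E : C} (ι : G ⟶ E) [Mono ι]
  (sG : LTSeries (Subobject G)) (sQ : LTSeries (Subobject (cokernel ι)))

/-- the image in `E` of a chain of subobjects of `G`. -/
noncomputable def chainG : LTSeries (Subobject E) := sG.map (Subobject.map ι).obj (strictMono_map ι)

/-- the preimage in `E` of a chain of subobjects of `E / G`. -/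
noncomputable def chainQ : LTSeries (Subobject E) :=
  sQ.map (Subobject.pullback (cokernel.π ι)).obj (strictMono_pullback (cokernel.π ι))

theorem connect (hG1 : sG.last = ⊤) (hQ0 : sQ.head = ⊥) : (chainG ι sG).last = (chainQ ι sQ).head := by
  unfold chainG chainQ
  rw [LTSeries.last_map, LTSeries.head_map, hG1, hQ0, Subobject.map_top, pullback_bot_eq]

/-- the concatenated chain. -/
noncomputable def concat (hG1 : sG.last = ⊤) (hQ0 : sQ.head = ⊥) : LTSeries (Subobject E) :=
  (chainG ι sG).smash (chainQ ι sQ) (connect ι sG sQ hG1 hQ0)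

variable (hG1 : sG.last = ⊤) (hQ0 : sQ.head = ⊥)

theorem concat_head (hG0 : sG.head = ⊥) : (concat ι sG sQ hG1 hQ0).head = ⊥ := by
  unfold concat
  rw [RelSeries.head_smash]
  unfold chainG
  rw [LTSeries.head_map, hG0, Subobject.map_bot]

theorem concat_last (hQ1 : sQ.last = ⊤) : (concat ι sG sQ hG1 hQ0).last = ⊤ := by
  unfold concat
  rw [RelSeries.last_smash]
  unfold chainQ
  rw [LTSeries.last_map, hQ1, Subobject.pullback_top]

/-- the index of a left factor. -/
noncomputable def idxL (i : Fin sG.length) : Fin (concat ι sG sQ hG1 hQ0).length := Fin.castAdd sQ.length i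

/-- the index of a right factor. -/
noncomputable def idxR (i : Fin sQ.length) : Fin (concat ι sG sQ hG1 hQ0).length := Fin.natAdd sG.length i

/-- the left factors of the concatenated chain. -/
noncomputable def factorLeft (i : Fin sG.length) :
    factor (concat ι sG sQ hG1 hQ0) (idxL ι sG sQ hG1 hQ0 i) ≅ factor sG i :=
  (factorIsoOfEq (concat ι sG sQ hG1 hQ0) (idxL ι sG sQ hG1 hQ0 i)
    (A := (Subobject.map ι).obj (sG i.castSucc)) (B := (Subobject.map ι).obj (sG i.succ))
    (RelSeries.smash_castAdd (connect ι sG sQ hG1 hQ0) i)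
    (RelSeries.smash_succ_castAdd (connect ι sG sQ hG1 hQ0) i)
    (strictMono_map ι (sG.step i)).le).trans
  (cokernelMapIso ι _ _ (le_of_lt (sG.step i)) _)

/-- the right factors of the concatenated chain. -/
noncomputable def factorRight (i : Fin sQ.length) :
    factor (concat ι sG sQ hG1 hQ0) (idxR ι sG sQ hG1 hQ0 i) ≅ factor sQ i :=
  (factorIsoOfEq (concat ι sG sQ hG1 hQ0) (idxR ι sG sQ hG1 hQ0 i)
    (A := (Subobject.pullback (cokernel.π ι)).obj (sQ i.castSucc))
    (B := (Subobject.pullback (cokernel.π ι)).obj (sQ i.succ))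
    (RelSeries.smash_natAdd (connect ι sG sQ hG1 hQ0) i)
    (RelSeries.smash_succ_natAdd (connect ι sG sQ hG1 hQ0) i)
    (strictMono_pullback (cokernel.π ι) (sQ.step i)).le).trans
  (pbFactorIso (cokernel.π ι) (le_of_lt (sQ.step i)) _)


/-- inclusion of the left graded object. -/
noncomputable def grInL : grObj sG ⟶ grObj (concat ι sG sQ hG1 hQ0) :=
  Sigma.desc fun i => (factorLeft ι sG sQ hG1 hQ0 i).inv ≫
    Sigma.ι (fun j => factor (concat ι sG sQ hG1 hQ0) j) (idxL ι sG sQ hG1 hQ0 i)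

/-- projection onto the left graded object. -/
noncomputable def grPrL : grObj (concat ι sG sQ hG1 hQ0) ⟶ grObj sG :=
  Sigma.desc fun j => Fin.addCases (m := sG.length) (n := sQ.length)
    (motive := fun j => factor (concat ι sG sQ hG1 hQ0) j ⟶ grObj sG)
    (fun i => (factorLeft ι sG sQ hG1 hQ0 i).hom ≫ Sigma.ι (fun i => factor sG i) i) (fun _ => 0) j

theorem grInL_grPrL : grInL ι sG sQ hG1 hQ0 ≫ grPrL ι sG sQ hG1 hQ0 = 𝟙 _ := by
  apply Sigma.hom_ext
  intro i
  have h1 : Sigma.ι (fun i => factor sG i) i ≫ grInL ι sG sQ hG1 hQ0 =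
      (factorLeft ι sG sQ hG1 hQ0 i).inv ≫
        Sigma.ι (fun j => factor (concat ι sG sQ hG1 hQ0) j) (idxL ι sG sQ hG1 hQ0 i) :=
    Sigma.ι_desc _ _
  have h2 : Sigma.ι (fun j => factor (concat ι sG sQ hG1 hQ0) j) (idxL ι sG sQ hG1 hQ0 i) ≫
      grPrL ι sG sQ hG1 hQ0 = (factorLeft ι sG sQ hG1 hQ0 i).hom ≫ Sigma.ι (fun i => factor sG i) i :=
    (Sigma.ι_desc _ _).trans (Fin.addCases_left _)
  calc Sigma.ι (fun i => factor sG i) i ≫ grInL ι sG sQ hG1 hQ0 ≫ grPrL ι sG sQ hG1 hQ0
      = (Sigma.ι (fun i => factor sG i) i ≫ grInL ι sG sQ hG1 hQ0) ≫ grPrL ι sG sQ hG1 hQ0 :=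
        (Category.assoc _ _ _).symm
    _ = ((factorLeft ι sG sQ hG1 hQ0 i).inv ≫
          Sigma.ι (fun j => factor (concat ι sG sQ hG1 hQ0) j) (idxL ι sG sQ hG1 hQ0 i)) ≫
            grPrL ι sG sQ hG1 hQ0 := congrArg (· ≫ grPrL ι sG sQ hG1 hQ0) h1
    _ = (factorLeft ι sG sQ hG1 hQ0 i).inv ≫
          (Sigma.ι (fun j => factor (concat ι sG sQ hG1 hQ0) j) (idxL ι sG sQ hG1 hQ0 i) ≫
            grPrL ι sG sQ hG1 hQ0) := Category.assoc _ _ _
    _ = (factorLeft ι sG sQ hG1 hQ0 i).inv ≫
          (factorLeft ι sG sQ hG1 hQ0 i).hom ≫ Sigma.ι (fun i => factor sG i) i :=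
        congrArg ((factorLeft ι sG sQ hG1 hQ0 i).inv ≫ ·) h2
    _ = Sigma.ι (fun i => factor sG i) i := Iso.inv_hom_id_assoc _ _
    _ = Sigma.ι (fun i => factor sG i) i ≫ 𝟙 _ := (Category.comp_id _).symm

/-- inclusion of the right graded object. -/
noncomputable def grInR : grObj sQ ⟶ grObj (concat ι sG sQ hG1 hQ0) :=
  Sigma.desc fun i => (factorRight ι sG sQ hG1 hQ0 i).inv ≫
    Sigma.ι (fun j => factor (concat ι sG sQ hG1 hQ0) j) (idxR ι sG sQ hG1 hQ0 i)

/-- projection onto the right graded object. -/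
noncomputable def grPrR : grObj (concat ι sG sQ hG1 hQ0) ⟶ grObj sQ :=
  Sigma.desc fun j => Fin.addCases (m := sG.length) (n := sQ.length)
    (motive := fun j => factor (concat ι sG sQ hG1 hQ0) j ⟶ grObj sQ)
    (fun _ => 0) (fun i => (factorRight ι sG sQ hG1 hQ0 i).hom ≫ Sigma.ι (fun i => factor sQ i) i) j

theorem grInR_grPrR : grInR ι sG sQ hG1 hQ0 ≫ grPrR ι sG sQ hG1 hQ0 = 𝟙 _ := by
  apply Sigma.hom_ext
  intro i
  have h1 : Sigma.ι (fun i => factor sQ i) i ≫ grInR ι sG sQ hG1 hQ0 =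
      (factorRight ι sG sQ hG1 hQ0 i).inv ≫
        Sigma.ι (fun j => factor (concat ι sG sQ hG1 hQ0) j) (idxR ι sG sQ hG1 hQ0 i) :=
    Sigma.ι_desc _ _
  have h2 : Sigma.ι (fun j => factor (concat ι sG sQ hG1 hQ0) j) (idxR ι sG sQ hG1 hQ0 i) ≫
      grPrR ι sG sQ hG1 hQ0 = (factorRight ι sG sQ hG1 hQ0 i).hom ≫ Sigma.ι (fun i => factor sQ i) i :=
    (Sigma.ι_desc _ _).trans (Fin.addCases_right _)
  calc Sigma.ι (fun i => factor sQ i) i ≫ grInR ι sG sQ hG1 hQ0 ≫ grPrR ι sG sQ hG1 hQ0
      = (Sigma.ι (fun i => factor sQ i) i ≫ grInR ι sG sQ hG1 hQ0) ≫ grPrR ι sG sQ hG1 hQ0 :=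
        (Category.assoc _ _ _).symm
    _ = ((factorRight ι sG sQ hG1 hQ0 i).inv ≫
          Sigma.ι (fun j => factor (concat ι sG sQ hG1 hQ0) j) (idxR ι sG sQ hG1 hQ0 i)) ≫
            grPrR ι sG sQ hG1 hQ0 := congrArg (· ≫ grPrR ι sG sQ hG1 hQ0) h1
    _ = (factorRight ι sG sQ hG1 hQ0 i).inv ≫
          (Sigma.ι (fun j => factor (concat ι sG sQ hG1 hQ0) j) (idxR ι sG sQ hG1 hQ0 i) ≫
            grPrR ι sG sQ hG1 hQ0) := Category.assoc _ _ _
    _ = (factorRight ι sG sQ hG1 hQ0 i).inv ≫
          (factorRight ι sG sQ hG1 hQ0 i).hom ≫ Sigma.ι (fun i => factor sQ i) i :=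
        congrArg ((factorRight ι sG sQ hG1 hQ0 i).inv ≫ ·) h2
    _ = Sigma.ι (fun i => factor sQ i) i := Iso.inv_hom_id_assoc _ _
    _ = Sigma.ι (fun i => factor sQ i) i ≫ 𝟙 _ := (Category.comp_id _).symm

include hG1 hQ0 in
/-- **the graded objects of Jordan–Hölder chains of a subobject and of the quotient are retracts** of the
graded object of a Jordan–Hölder chain of the object. -/
theorem exists_retract {Good : Subobject E → Prop} {Fac : C → Prop} (H : Hyp E Good Fac)
    (sE : LTSeries (Subobject E)) (hE0 : sE.head = ⊥) (hE1 : sE.last = ⊤) (hEF : ∀ i, Fac (factor sE i))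
    (hG0 : sG.head = ⊥) (hGF : ∀ i, Fac (factor sG i)) (hQ1 : sQ.last = ⊤)
    (hQF : ∀ i, Fac (factor sQ i)) :
    (∃ (a : grObj sG ⟶ grObj sE) (b : grObj sE ⟶ grObj sG), a ≫ b = 𝟙 _) ∧
      ∃ (a : grObj sQ ⟶ grObj sE) (b : grObj sE ⟶ grObj sQ), a ≫ b = 𝟙 _ := by
  have hF : ∀ j, Fac (factor (concat ι sG sQ hG1 hQ0) j) := by
    intro j
    refine Fin.addCases (m := sG.length) (n := sQ.length)
      (motive := fun j => Fac (factor (concat ι sG sQ hG1 hQ0) j)) (fun i => ?_) (fun i => ?_) j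
    · exact H.iso (factorLeft ι sG sQ hG1 hQ0 i).symm (hGF i)
    · exact H.iso (factorRight ι sG sQ hG1 hQ0 i).symm (hQF i)
  obtain ⟨-, ⟨e⟩⟩ := jh_unique H (concat ι sG sQ hG1 hQ0) sE (concat_head ι sG sQ hG1 hQ0 hG0)
    (concat_last ι sG sQ hG1 hQ0 hQ1) hF hE0 hE1 hEF
  refine ⟨⟨grInL ι sG sQ hG1 hQ0 ≫ e.hom, e.inv ≫ grPrL ι sG sQ hG1 hQ0, ?_⟩,
    ⟨grInR ι sG sQ hG1 hQ0 ≫ e.hom, e.inv ≫ grPrR ι sG sQ hG1 hQ0, ?_⟩⟩
  · rw [Category.assoc, Iso.hom_inv_id_assoc, grInL_grPrL]
  · rw [Category.assoc, Iso.hom_inv_id_assoc, grInR_grPrR]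

end concat

end Groth.Agent.Lib.T2H6.JHConcat
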