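import Mathlib
import Groth.Prelude
import Groth.Agent.Lib.T2H6HilbPolyN
import Groth.Agent.Lib.T2H6JHConcat
import Groth.Agent.Lib.T2H8FreeLoc
import Groth.Agent.Lib.Helper20LocFree

/-!
# Jordan–Hölder filtrations of a submodule and of the quotient of a semistable sheaf

* `lfAt_of_retract` : a retract of a module which is free near `x` is free near `x`.
* `jh_sub_quot` : for `G ⊆ E` with the reduced Hilbert polynomial of the semistable sheaf `E`, both `G` and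
  `E / G` have Jordan–Hölder filtrations whose graded objects are retracts of the graded object of any
  Jordan–Hölder filtration of `E`.
* `jh_sub_quot_locFree` (S15271).
-/

set_option autoImplicit false
universe u

open CategoryTheory TopCat TopologicalSpace Opposite AlgebraicGeometry Limits Polynomial StabCat ZeroObject

namespace Groth.Agent.Lib.T2H6.JHLocFree

open Groth.Agent.Lib.T2H6.HilbPolyA Groth.Agent.Lib.T2H6.HilbPolyB Groth.Agent.Lib.T2H6.HilbPolyC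
  Groth.Agent.Lib.T2H6.HilbPolyD Groth.Agent.Lib.T2H6.HilbPolyE Groth.Agent.Lib.T2H6.HilbPolyK
  Groth.Agent.Lib.T2H6.HilbPolyL Groth.Agent.Lib.T2H6.HilbPolyM Groth.Agent.Lib.T2H6.HilbPolyN
  Groth.Agent.Lib.T2H5.FiltCat Groth.Agent.Lib.T2H6.FiltExt Groth.Agent.Lib.T2H6.JHLattice
  Groth.Agent.Lib.T2H6.JHConcat Groth.Agent.Lib.T2H8.FreeLoc

variable {X : Scheme.{u}}

/-- a retract of a module which is free of finite rank near `x` is free of finite rank near `x`. -/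
theorem lfAt_of_retract {M M' : X.Modules} (s : M' ⟶ M) (r : M ⟶ M') (h : s ≫ r = 𝟙 M') {x : X}
    (hM : LFAt M x) : LFAt M' x := by
  obtain ⟨U, j, hj, x', n, hx, ⟨e⟩⟩ := hM
  haveI := hj
  have hret : ((Scheme.Modules.restrictFunctor j).map s ≫ e.hom) ≫
      (e.inv ≫ (Scheme.Modules.restrictFunctor j).map r) = 𝟙 _ := by
    rw [Category.assoc, Iso.hom_inv_id_assoc, ← Functor.map_comp, h, CategoryTheory.Functor.map_id]
  have hfl : FlatMod.IsFinLocFree (M'.restrict j) :=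
    Groth.Agent.Lib.Helper20.LocFree.isFinLocFree_of_retract _ _ hret
  have := LFAt.of_restrict j x' (lfAt_of_isFinLocFree hfl x')
  rw [hx] at this
  exact this

theorem exists_opens_of_lfAt {M : X.Modules} {x : X} (h : LFAt M x) :
    ∃ U : X.Opens, x ∈ U ∧ FlatMod.IsFinLocFree (M.restrict U.ι) := by
  obtain ⟨W, n, hxW, hW⟩ := h.exists_opens
  obtain ⟨e⟩ := hW W le_rfl
  exact ⟨W, hxW, Groth.Agent.Lib.Helper2.LocFree.isFinLocFree_of_iso_freeMod _ e⟩

theorem lfAt_of_exists_opens {M : X.Modules} {x : X}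
    (h : ∃ U : X.Opens, x ∈ U ∧ FlatMod.IsFinLocFree (M.restrict U.ι)) : LFAt M x := by
  obtain ⟨U, hxU, hfl⟩ := h
  exact LFAt.of_restrict U.ι ⟨x, hxU⟩ (lfAt_of_isFinLocFree hfl ⟨x, hxU⟩)

variable (k : Type u) [Field k] [X.Over (Spec (CommRingCat.of k))]
  [IsProper (X ↘ Spec (CommRingCat.of k))] (L : X.Modules) (hL : CohB1.IsAmple L)

include hL in
/-- Jordan–Hölder filtrations of a submodule with the same reduced Hilbert polynomial and of the quotient;
their graded objects are retracts of the graded object of the given Jordan–Hölder filtration. -/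
theorem jh_sub_quot (d : ℕ) (E : X.Modules) (hE : ShStab.IsSemistable k X L E d)
    (sE : LTSeries (Subobject E)) (hsE : ShStab.IsJHFiltration k X L E d sE)
    (G : X.Modules) (ι : G ⟶ E) [Mono ι] (hG : Coh.IsCoh G)
    (pG pE : ℚ[X]) (hpG : ShStab.IsHilbPoly k X L G pG) (hpE : ShStab.IsHilbPoly k X L E pE)
    (hred : RedEq d pG pE) :
    (∃ sG : LTSeries (Subobject G), ShStab.IsJHFiltration k X L G d sG ∧
        ∃ (a : grObj sG ⟶ grObj sE) (b : grObj sE ⟶ grObj sG), a ≫ b = 𝟙 _) ∧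
      ∃ sQ : LTSeries (Subobject (cokernel ι)), ShStab.IsJHFiltration k X L (cokernel ι) d sQ ∧
        ∃ (a : grObj sQ ⟶ grObj sE) (b : grObj sE ⟶ grObj sQ), a ≫ b = 𝟙 _ := by
  haveI := isLocallyNoetherian (X := X) k
  have cE := hE.1
  have e1 := eq_hilb k L hL.1 E cE pE hpE
  have e2 := eq_hilb k L hL.1 G hG pG hpG
  subst e1
  subst e2
  have aE : 0 < alpha d (hilb k L E) := alpha_pos_of_isSemistable k L hL hE _ hpE
  have cQ := Groth.Agent.Lib.T2H5.GenIsoB.isCoh_cokernel ι hG cE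
  have hpQ := isHilbPoly_hilb k L hL.1 _ cQ
  have H := hyp k L hL d E hE
  obtain ⟨hE0, hE1, hEF⟩ := hsE
  -- the chain of `G`
  have hserG : ∃ sG : LTSeries (Subobject G), sG.head = ⊥ ∧ sG.last = ⊤ ∧
      ∀ i, Fac k L d (hilb k L E) (factor sG i) := by
    by_cases hG0 : IsZero G
    · exact exists_of_isZero hG0 _
    · have ssG := sub_isSemistable_of_redEq k L hL hE ι hG hG0 _ _ hpG hpE hred
      have aG := alpha_pos_of_isSemistable k L hL ssG _ hpG
      obtain ⟨s, h0, h1, hs⟩ := exists_isJHFiltration k L hL d G ssG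
      exact ⟨s, h0, h1, fun i => ⟨(hs i).1, fun p hp =>
        redEq_trans' aG.ne' ((hs i).2 p _ hp hpG) hred.symm⟩⟩
  -- the chain of the quotient
  have hredQ : RedEq d (hilb k L (cokernel ι)) (hilb k L E) := by
    by_cases hQ0 : IsZero (cokernel ι)
    · rw [← eq_hilb k L hL.1 _ cQ 0 (isHilbPoly_zero_of_isZero k L _ hQ0)]
      exact redEq_zero_left d _
    · exact (quot_isSemistable_of_redEq k L hL hE ι hG _ _ hpG hpE hred hQ0).2 _ hpQ
  have hserQ : ∃ sQ : LTSeries (Subobject (cokernel ι)), sQ.head = ⊥ ∧ sQ.last = ⊤ ∧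
      ∀ i, Fac k L d (hilb k L E) (factor sQ i) := by
    by_cases hQ0 : IsZero (cokernel ι)
    · exact exists_of_isZero hQ0 _
    · obtain ⟨ssQ, -⟩ := quot_isSemistable_of_redEq k L hL hE ι hG _ _ hpG hpE hred hQ0
      have aQ := alpha_pos_of_isSemistable k L hL ssQ _ hpQ
      obtain ⟨s, h0, h1, hs⟩ := exists_isJHFiltration k L hL d _ ssQ
      exact ⟨s, h0, h1, fun i => ⟨(hs i).1, fun p hp =>
        redEq_trans' aQ.ne' ((hs i).2 p _ hp hpQ) hredQ.symm⟩⟩
  obtain ⟨sG, hG0, hG1, hGF⟩ := hserG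
  obtain ⟨sQ, hQ0, hQ1, hQF⟩ := hserQ
  obtain ⟨rG, rQ⟩ := exists_retract ι sG sQ hG1 hQ0 H sE hE0 hE1
    (fun i => ⟨(hEF i).1, fun p hp => (hEF i).2 p _ hp hpE⟩) hG0 hGF hQ1 hQF
  refine ⟨⟨sG, ⟨hG0, hG1, fun i => ⟨(hGF i).1, fun p q hp hq => ?_⟩⟩, rG⟩,
    ⟨sQ, ⟨hQ0, hQ1, fun i => ⟨(hQF i).1, fun p q hp hq => ?_⟩⟩, rQ⟩⟩
  · rw [eq_hilb k L hL.1 G hG q hq]
    exact redEq_trans' aE.ne' ((hGF i).2 p hp) hred
  · rw [eq_hilb k L hL.1 _ cQ q hq]
    exact redEq_trans' aE.ne' ((hQF i).2 p hp) hredQ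

include hL in
/-- S15271. -/
theorem jh_sub_quot_locFree (d : ℕ) (E : X.Modules) (hE : ShStab.IsSemistable k X L E d)
    (sE : LTSeries (Subobject E)) (hsE : ShStab.IsJHFiltration k X L E d sE) (T : Set X)
    (hgrE : ∀ x ∈ T, ∃ U : X.Opens, x ∈ U ∧ FlatMod.IsFinLocFree ((grObj sE).restrict U.ι))
    (G : X.Modules) (ι : G ⟶ E) [Mono ι] (hG : Coh.IsCoh G)
    (pG pE : ℚ[X]) (hpG : ShStab.IsHilbPoly k X L G pG) (hpE : ShStab.IsHilbPoly k X L E pE)
    (hred : RedEq d pG pE) :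
    (∃ sG : LTSeries (Subobject G), ShStab.IsJHFiltration k X L G d sG ∧
        ∀ x ∈ T, ∃ U : X.Opens, x ∈ U ∧ FlatMod.IsFinLocFree ((grObj sG).restrict U.ι)) ∧
      ∃ sQ : LTSeries (Subobject (cokernel ι)), ShStab.IsJHFiltration k X L (cokernel ι) d sQ ∧
        ∀ x ∈ T, ∃ U : X.Opens, x ∈ U ∧ FlatMod.IsFinLocFree ((grObj sQ).restrict U.ι) := by
  obtain ⟨⟨sG, hsG, a, b, hab⟩, ⟨sQ, hsQ, a', b', hab'⟩⟩ :=
    jh_sub_quot k L hL d E hE sE hsE G ι hG pG pE hpG hpE hred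
  exact ⟨⟨sG, hsG, fun x hx => exists_opens_of_lfAt
      (lfAt_of_retract a b hab (lfAt_of_exists_opens (hgrE x hx)))⟩,
    ⟨sQ, hsQ, fun x hx => exists_opens_of_lfAt
      (lfAt_of_retract a' b' hab' (lfAt_of_exists_opens (hgrE x hx)))⟩⟩

end Groth.Agent.Lib.T2H6.JHLocFree
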