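import Mathlib
import Groth.Prelude
import Groth.Agent.Lib.T2H6JHLocFree
import Groth.Agent.Lib.T2H6CurveExt2
import Groth.Agent.Lib.T2H6Snapper
import Groth.Agent.S0934
import Groth.Agent.Lib.T2H5ProjFLF5
import Groth.Agent.Lib.T2H6CompSumGen

/-!
# Morphisms of semistable sheaves vanishing at a point where the graded objects are locally free

* `lfAt_of_shortExact` : an extension of coherent modules free near `x` is free near `x`.
* `lfAt_of_grObj` : a module with a chain of coherent subobjects whose graded object is free near `x` is free near `x`.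
* `exists_retraction` : a monomorphism whose cokernel is free near `x` splits near `x`.
* `eq_zero_of_pullback_eq_zero` (S15267).
-/

set_option autoImplicit false
universe u

open CategoryTheory TopCat TopologicalSpace Opposite AlgebraicGeometry Limits Polynomial StabCat ZeroObject

namespace Groth.Agent.Lib.T2H6.JHPoint

open Groth.Agent.Lib.T2H6.HilbPolyA Groth.Agent.Lib.T2H6.HilbPolyB Groth.Agent.Lib.T2H6.HilbPolyC
  Groth.Agent.Lib.T2H6.HilbPolyD Groth.Agent.Lib.T2H6.HilbPolyE Groth.Agent.Lib.T2H6.HilbPolyK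
  Groth.Agent.Lib.T2H6.HilbPolyL Groth.Agent.Lib.T2H6.HilbPolyM Groth.Agent.Lib.T2H6.HilbPolyN
  Groth.Agent.Lib.T2H5.FiltCat Groth.Agent.Lib.T2H6.FiltExt Groth.Agent.Lib.T2H6.JHLattice
  Groth.Agent.Lib.T2H6.JHConcat Groth.Agent.Lib.T2H8.FreeLoc Groth.Agent.Lib.T2H6.JHLocFree
  Groth.Agent.Lib.Helper4.NormDelta Groth.Agent.Lib.Helper23.StalkLin

variable {X : Scheme.{u}}

section local_freeness

/-- an extension of coherent modules which are free near `x` is free near `x`. -/
theorem lfAt_of_shortExact [IsLocallyNoetherian X] (S : ShortComplex X.Modules) (hS : S.ShortExact)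
    (h₁ : Coh.IsCoh S.X₁) (h₃ : Coh.IsCoh S.X₃) {x : X} (l₁ : LFAt S.X₁ x) (l₃ : LFAt S.X₃ x) :
    LFAt S.X₂ x := by
  have hc₂ := Groth.Agent.Lib.T2H5.GenIsoA.isCoh_of_shortExact S hS h₁ h₃
  haveI : S.X₂.IsQuasicoherent := hc₂.1
  haveI : SheafOfModules.IsFiniteType (R := X.ringCatSheaf) S.X₂ := hc₂.2
  haveI : SheafOfModules.IsFinitePresentation (R := X.ringCatSheaf) S.X₂ :=
    Groth.Agent.Lib.Helper23.FinType.isFinitePresentation_of_isFiniteType S.X₂
  haveI := hS.mono_f
  haveI := hS.epi_g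
  haveI := l₁.free_finite_stalk.1
  haveI := l₃.free_finite_stalk.1
  exact lfAt_of_free_stalk S.X₂ x
    (Groth.Agent.Lib.T2H6.CurveExt2.free_of_exact (stalkLin S.f x) (stalkLin S.g x)
      (stalkLin_injective S.f x) (stalkLin_surjective S.g x) (stalkLin_exact S hS x))

theorem lfAt_factor_of_grObj {M : X.Modules} (s : LTSeries (Subobject M)) {x : X}
    (h : LFAt (grObj s) x) (i : Fin s.length) : LFAt (factor s i) x := by
  classical
  exact lfAt_of_retract (Sigma.ι (fun j => factor s j) i) (Sigma.π (fun j => factor s j) i)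
    (Sigma.ι_π_eq_id _ i) h

/-- a module with a chain of subobjects from `⊥` to `⊤` with coherent factors whose graded object is free near
`x` is free near `x`. -/
theorem lfAt_of_grObj [IsLocallyNoetherian X] {M : X.Modules} (s : LTSeries (Subobject M))
    (hs0 : s.head = ⊥) (hs1 : s.last = ⊤) (hc : ∀ i, Coh.IsCoh (factor s i)) {x : X}
    (h : LFAt (grObj s) x) : LFAt M x := by
  have key : ∀ i : Fin (s.length + 1), Coh.IsCoh (s i : X.Modules) ∧ LFAt (s i : X.Modules) x := by
    intro i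
    induction i using Fin.induction with
    | zero =>
      have : s 0 = ⊥ := hs0
      rw [this]
      exact ⟨isCoh_of_isZero ((isZero_zero _).of_iso Subobject.botCoeIsoZero),
        lfAt_of_isZero ((isZero_zero _).of_iso Subobject.botCoeIsoZero) x⟩
    | succ j ih =>
      have hS := shortExact_cokernel (Subobject.ofLE (s j.castSucc) (s j.succ) (le_of_lt (s.step j)))
      exact ⟨Groth.Agent.Lib.T2H5.GenIsoA.isCoh_of_shortExact _ hS ih.1 (hc j),
        lfAt_of_shortExact _ hS ih.1 (hc j) ih.2 (lfAt_factor_of_grObj s h j)⟩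
  have hl := (key (Fin.last _)).2
  have : s (Fin.last _) = ⊤ := hs1
  rw [this] at hl
  exact hl.of_iso (asIso (⊤ : Subobject M).arrow)

end local_freeness


section splitting

/-- a monomorphism whose cokernel is free of finite rank near `x` has a retraction near `x`. -/
theorem exists_retraction {I F : X.Modules} (g : I ⟶ F) [Mono g] {x : X} (hC : LFAt (cokernel g) x) :
    ∃ (V : Scheme.{u}) (j : V ⟶ X) (_ : IsOpenImmersion j) (x' : V), j x' = x ∧
      ∃ r : (Scheme.Modules.restrictFunctor j).obj F ⟶ (Scheme.Modules.restrictFunctor j).obj I,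
        (Scheme.Modules.restrictFunctor j).map g ≫ r = 𝟙 _ := by
  obtain ⟨U, hxU, hfl⟩ := exists_opens_of_lfAt hC
  let R := Scheme.Modules.restrictFunctor U.ι
  haveI : Epi (R.map (cokernel.π g)) := inferInstance
  obtain ⟨V, ψ, hxV, hψ⟩ := Groth.Agent.S0934.result (R.map (cokernel.π g)) (𝟙 _) hfl ⟨x, hxU⟩
  let R' := Scheme.Modules.restrictFunctor V.ι
  let S : ShortComplex X.Modules := ShortComplex.mk g (cokernel.π g) (cokernel.condition g)
  have hS : S.ShortExact := shortExact_cokernel g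
  have hS' : (S.map (R ⋙ R')).ShortExact := hS.map_of_exact (R ⋙ R')
  have hψ' : ψ ≫ (S.map (R ⋙ R')).g = 𝟙 _ := by
    rw [CategoryTheory.Functor.map_id] at hψ
    exact hψ
  haveI := hS'.mono_f
  let sp := ShortComplex.Splitting.ofExactOfSection (S.map (R ⋙ R')) hS'.exact ψ hψ' hS'.mono_f
  have hfr : (R ⋙ R').map g ≫ sp.r = 𝟙 _ := sp.f_r
  let ε : Scheme.Modules.restrictFunctor (V.ι ≫ U.ι) ≅ R ⋙ R' :=
    Scheme.Modules.restrictFunctorComp V.ι U.ι
  refine ⟨V, V.ι ≫ U.ι, inferInstance, ⟨⟨x, hxU⟩, hxV⟩, rfl, ε.hom.app F ≫ sp.r ≫ ε.inv.app I, ?_⟩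
  rw [← Category.assoc, ε.hom.naturality g, Category.assoc, ← Category.assoc ((R ⋙ R').map g), hfr]
  exact (congrArg (ε.hom.app I ≫ ·) (Category.id_comp (ε.inv.app I))).trans (Iso.hom_inv_id_app ε I)

end splitting


section stalks

open Groth.Agent.Lib.T2H8.StalkRestrict Groth.Agent.Lib.Helper1.Sky TensorProduct

attribute [local instance] RingHomInvPair.of_ringEquiv RingHomInvPair.of_ringEquiv_symm

theorem subsingleton_of_extendScalars {R S : Type u} [CommRing R] [CommRing S] (σ : R →+* S)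
    (N : ModuleCat.{u} R) (h : Function.Bijective σ)
    (hs : Subsingleton ((ModuleCat.extendScalars σ).obj N)) : Subsingleton N := by
  letI := σ.toAlgebra
  have hb : Function.Bijective (algebraMap R S) := h
  haveI : Subsingleton ((ModuleCat.extendScalars (algebraMap R S)).obj N) := hs
  haveI : Subsingleton (S ⊗[R] N) := (Groth.Agent.S2380.bridge R S N).symm.toEquiv.subsingleton
  exact (tensorEquivOfBijective N hb).toAddEquiv.toEquiv.subsingleton

/-- if the restriction of `M` to an open neighbourhood of a point vanishes, so does the stalk at the point. -/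
theorem subsingleton_stalk_of_isZero_restrict {U : Scheme.{u}} (j : U ⟶ X) [IsOpenImmersion j]
    (M : X.Modules) (y : U) (h : IsZero (M.restrict j)) : Subsingleton (M.presheaf.stalk (j y)) := by
  have hz : IsZero ((stalkFun y).obj (M.restrict j)) := (stalkFun y).map_isZero h
  have hz2 : IsZero ((ModuleCat.extendScalars.{u, u, u} (j.stalkMap y).hom).obj ((stalkFun (j y)).obj M)) :=
    IsZero.of_iso hz (stalkRestrictIso j M y).symm
  exact subsingleton_of_extendScalars (j.stalkMap y).hom ((stalkFun (j y)).obj M)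
    (bijective_stalkMap j y) (ModuleCat.subsingleton_of_isZero hz2)

theorem eq_zero_of_isZero_freeMod {T : Scheme.{u}} (t : T) (n : ℕ) (h : IsZero (FlatMod.freeMod T n)) :
    n = 0 := by
  have hr : FlatMod.IsFinLocFreeOfRank n (FlatMod.freeMod T n) := fun y =>
    ⟨⊤, trivial, ⟨Groth.Agent.Lib.Helper20.LocFree.restrictFreeMod (⊤ : T.Opens).ι n⟩⟩
  obtain ⟨-, -, h3⟩ := Groth.Agent.Lib.T2H6.RankAdd.free_finite_stalk _ n hr t
  haveI : Subsingleton ((FlatMod.freeMod T n).presheaf.stalk t) := subsingleton_stalk_of_isZero h t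
  rw [← h3]
  exact Module.finrank_zero_of_subsingleton

end stalks

theorem map_eq_zero_of_iso {C D : Type*} [Category C] [Category D] [HasZeroMorphisms D] {Φ Φ' : C ⥤ D}
    (N : Φ ≅ Φ') {A B : C} (f : A ⟶ B) (h : Φ.map f = 0) : Φ'.map f = 0 := by
  have : Φ'.map f = N.inv.app A ≫ Φ.map f ≫ N.hom.app B := by
    rw [N.hom.naturality, Iso.inv_hom_id_app_assoc]
  rw [this, h, Limits.zero_comp, Limits.comp_zero]


section main

variable (k : Type u) [Field k] [X.Over (Spec (CommRingCat.of k))]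
  [IsProper (X ↘ Spec (CommRingCat.of k))] (L : X.Modules) (hL : CohB1.IsAmple L)

include hL in
/-- the image of a nonzero morphism of semistable sheaves with the same reduced Hilbert polynomial has this
reduced Hilbert polynomial. -/
theorem redEq_image {d : ℕ} {E F : X.Modules} (hE : ShStab.IsSemistable k X L E d)
    (hF : ShStab.IsSemistable k X L F d) (pE pF : ℚ[X]) (hpE : ShStab.IsHilbPoly k X L E pE)
    (hpF : ShStab.IsHilbPoly k X L F pF) (hred : RedEq d pE pF) (f : E ⟶ F) (hf : f ≠ 0) :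
    RedEq d (hilb k L (Abelian.image f)) pF := by
  haveI := isLocallyNoetherian (X := X) k
  have cI := Groth.Agent.Lib.T2H6.CurveVB.isCoh_image f hE.1 hF.1
  have hpI := isHilbPoly_hilb k L hL.1 _ cI
  have aE := alpha_pos_of_isSemistable k L hL hE pE hpE
  have aF := alpha_pos_of_isSemistable k L hL hF pF hpF
  have aI : 0 < alpha d (hilb k L (Abelian.image f)) :=
    alpha_pos_of_sub k L hL hF.2.2.1 (Abelian.image.ι f) cI (not_isZero_image f hf) _ hpI
  have h1 := redLE_image k L hL hE.1 hF.1 hE.2.2.2 f hf pE _ hpE hpI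
  have h2 := image_redLE k L hL hE.1 hF.1 hF.2.2.2 f hf _ pF hpI hpF
  have h3 : RedLE d pF pE := redLE_of_redEq' hred
  exact redEq_of_redLE_of_redLE h2 (redLE_trans aF.le aE aI.le h3 h1)

include hL in
/-- **S15267**: a morphism of semistable sheaves with the same reduced Hilbert polynomial, the target having a
Jordan–Hölder filtration with graded object free near a point, is zero as soon as its pull-back to the point
is zero. -/
theorem eq_zero_of_pullback_eq_zero [IrreducibleSpace X] (d : ℕ)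
    (hX : topologicalKrullDim X = (d : WithBot ℕ∞))
    (E F : X.Modules) (hE : ShStab.IsSemistable k X L E d) (hF : ShStab.IsSemistable k X L F d)
    (pE pF : ℚ[X]) (hpE : ShStab.IsHilbPoly k X L E pE) (hpF : ShStab.IsHilbPoly k X L F pF)
    (hred : RedEq d pE pF) {T : Scheme.{u}} (ξ : T ⟶ X) (t₀ : T) (hT : ∀ t : T, t = t₀)
    (sF : LTSeries (Subobject F)) (hsF : ShStab.IsJHFiltration k X L F d sF)
    (hgrF : LFAt (grObj sF) (ξ t₀))
    (f : E ⟶ F) (hf : (Scheme.Modules.pullback ξ).map f = 0) : f = 0 := by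
  by_contra hne
  haveI := isLocallyNoetherian (X := X) k
  have cI := Groth.Agent.Lib.T2H6.CurveVB.isCoh_image f hE.1 hF.1
  have I0 := not_isZero_image f hne
  have hpI := isHilbPoly_hilb k L hL.1 _ cI
  have hredI := redEq_image k L hL hE hF pE pF hpE hpF hred f hne
  obtain ⟨⟨sI, hsI, a, b, hab⟩, ⟨sC, hsC, a', b', hab'⟩⟩ :=
    jh_sub_quot k L hL d F hF sF hsF (Abelian.image f) (Abelian.image.ι f) cI _ pF hpI hpF hredI
  have lI : LFAt (Abelian.image f) (ξ t₀) :=
    lfAt_of_grObj sI hsI.1 hsI.2.1 (fun i => (hsI.2.2 i).1.1) (lfAt_of_retract a b hab hgrF)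
  have lC : LFAt (cokernel (Abelian.image.ι f)) (ξ t₀) :=
    lfAt_of_grObj sC hsC.1 hsC.2.1 (fun i => (hsC.2.2 i).1.1) (lfAt_of_retract a' b' hab' hgrF)
  -- a local retraction of the image
  obtain ⟨V₁, j₁, hj₁, x₁, hx₁, r, hr⟩ := exists_retraction (Abelian.image.ι f) lC
  haveI := hj₁
  have lI₁ : LFAt ((Abelian.image f).restrict j₁) x₁ := LFAt.restrict j₁ x₁ (by rw [hx₁]; exact lI)
  obtain ⟨V₂, j₂, hj₂, x₂, n, hx₂, ⟨φ⟩⟩ := lI₁
  haveI := hj₂
  have hJx : (j₂ ≫ j₁) x₂ = ξ t₀ := by rw [Scheme.Hom.comp_apply, hx₂, hx₁]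
  have hrange : Set.range ξ ⊆ Set.range (j₂ ≫ j₁) := by
    rintro _ ⟨t, rfl⟩
    rw [hT t]
    exact ⟨x₂, hJx⟩
  have hfac : IsOpenImmersion.lift (j₂ ≫ j₁) ξ hrange ≫ (j₂ ≫ j₁) = ξ :=
    IsOpenImmersion.lift_fac (j₂ ≫ j₁) ξ hrange
  set ξ₂ := IsOpenImmersion.lift (j₂ ≫ j₁) ξ hrange with hξ₂
  let R₁ := Scheme.Modules.restrictFunctor j₁
  let R₂ := Scheme.Modules.restrictFunctor j₂
  let P := Scheme.Modules.pullback ξ₂
  let N : Scheme.Modules.pullback ξ ≅ (R₁ ⋙ R₂) ⋙ P :=
    Scheme.Modules.pullbackCongr hfac.symm ≪≫ (Scheme.Modules.pullbackComp ξ₂ (j₂ ≫ j₁)).symm ≪≫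
      Functor.isoWhiskerRight ((Scheme.Modules.restrictFunctorIsoPullback (j₂ ≫ j₁)).symm ≪≫
        Scheme.Modules.restrictFunctorComp j₂ j₁) P
  have h0 : (R₂ ⋙ P).map (R₁.map f) = 0 := map_eq_zero_of_iso N f hf
  have hfac' : Abelian.factorThruImage f ≫ Abelian.image.ι f = f := Abelian.image.fac f
  have h1 : (R₂ ⋙ P).map (R₁.map (Abelian.factorThruImage f)) = 0 := by
    have e1 : R₁.map (Abelian.factorThruImage f) = R₁.map f ≫ r := by
      have h := congrArg (fun g => R₁.map g ≫ r) hfac'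
      simp only [Functor.map_comp, Category.assoc] at h
      rw [← h]
      erw [hr]
      rw [Category.comp_id]
    rw [e1, Functor.map_comp, h0, Limits.zero_comp]
  haveI : Epi (R₁.map (Abelian.factorThruImage f)) := inferInstance
  haveI : Epi (R₂.map (R₁.map (Abelian.factorThruImage f))) := inferInstance
  haveI : Epi ((R₂ ⋙ P).map (R₁.map (Abelian.factorThruImage f))) := by
    change Epi (P.map (R₂.map (R₁.map (Abelian.factorThruImage f))))
    infer_instance
  have hz : IsZero ((R₂ ⋙ P).obj (R₁.obj (Abelian.image f))) := IsZero.of_epi_eq_zero _ h1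
  have hz2 : IsZero (FlatMod.freeMod T n) :=
    hz.of_iso ((Groth.Agent.Lib.T2H5.ProjFLF.pullbackFreeMod ξ₂ n).symm ≪≫ (P.mapIso φ).symm)
  have hn : n = 0 := eq_zero_of_isZero_freeMod t₀ n hz2
  subst hn
  have hzI : IsZero ((Abelian.image f).restrict (j₂ ≫ j₁)) :=
    IsZero.of_iso (Groth.Agent.Lib.T2H8.PerfLocal.isZero_freeMod_zero.of_iso φ)
      ((Scheme.Modules.restrictFunctorComp j₂ j₁).app (Abelian.image f))
  have hs := subsingleton_stalk_of_isZero_restrict (j₂ ≫ j₁) (Abelian.image f) x₂ hzI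
  rw [hJx] at hs
  -- the support of the image is everything
  have hcl := Groth.Agent.Lib.T2H5.Devissage.isClosed_support _ cI
  have hdimI : topologicalKrullDim (CohB1.support (Abelian.image f)) = (d : WithBot ℕ∞) :=
    hF.2.2.1 _ (Abelian.image.ι f) inferInstance cI I0
  have hsupp : CohB1.support (Abelian.image f) = Set.univ := by
    by_contra hne'
    have h1 := Groth.Agent.Lib.T2H6.Snapper.topologicalKrullDim_add_one_le
      (CohB1.support (Abelian.image f)) Set.univ hcl (IrreducibleSpace.isIrreducible_univ X)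
      (Set.subset_univ _) hne'
    have h2 : topologicalKrullDim (Set.univ : Set X) ≤ topologicalKrullDim X :=
      topologicalKrullDim_subspace_le X Set.univ
    rw [hdimI] at h1
    rw [hX] at h2
    exact lt_irrefl _ (Groth.Agent.Lib.T2H6.CompSumGen.lt_of_add_one_le (h1.trans h2))
  have hmem : ξ t₀ ∈ CohB1.support (Abelian.image f) := hsupp ▸ Set.mem_univ _
  exact hmem hs

end main

end Groth.Agent.Lib.T2H6.JHPoint
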