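import Mathlib
import Groth.Prelude
import Groth.Agent.Lib.T2H6JHPoint
import Groth.Agent.Lib.T2H3FreeBCSch
import Groth.Agent.S9705

/-!
# Local freeness of a flat family along a section, from the fibres

* `lfAt_of_lfAt_pullback` : for a cartesian square and a coherent module `F` on `X`, flat over `S`, if the pull-back
  of `F` to `X ×_S S'` is free near `x'` then `F` is free near the image of `x'`.
* `lfAt_of_fibre_grObj` : if the fibre `F_t` has a chain of subobjects from `⊥` to `⊤` with coherent factors whose graded
  object is free near `x'`, then `F` is free near the image of `x'`.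
-/

set_option autoImplicit false
universe u

open CategoryTheory TopCat TopologicalSpace Opposite AlgebraicGeometry Limits Polynomial StabCat ZeroObject

namespace Groth.Agent.Lib.T2H6.JHFlatFam

open Groth.Agent.Lib.T2H8.FreeLoc Groth.Agent.Lib.T2H6.JHLocFree Groth.Agent.Lib.T2H6.JHPoint

variable {X S S' : Scheme.{u}}

/-- descent of local freeness near a point along a base change, for modules flat over the base. -/
theorem lfAt_of_lfAt_pullback [IsLocallyNoetherian X] (f : X ⟶ S) (t : S' ⟶ S) (F : X.Modules)
    (hF : Coh.IsCoh F) (hfl : FlatMod.IsFlatOver f F) (x' : (pullback f t : Scheme.{u}))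
    (h : LFAt ((Scheme.Modules.pullback (pullback.fst f t)).obj F) x') :
    LFAt F ((pullback.fst f t) x') := by
  haveI : F.IsQuasicoherent := hF.1
  haveI : SheafOfModules.IsFiniteType (R := X.ringCatSheaf) F := hF.2
  haveI : SheafOfModules.IsFinitePresentation (R := X.ringCatSheaf) F :=
    Groth.Agent.Lib.Helper23.FinType.isFinitePresentation_of_isFiniteType F
  exact lfAt_of_free_stalk F _
    (Groth.Agent.Lib.T2H3.FreeBC.free_stalk_of_free_stalk_pullback (IsPullback.of_hasPullback f t) F x'
      (hfl _) h.free_finite_stalk.1)

/-- if the fibre of a flat coherent module has a filtration with coherent factors whose graded object is free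
near a point, the module is free near the image of this point. -/
theorem lfAt_of_fibre_grObj [IsLocallyNoetherian X] (f : X ⟶ S) (t : S' ⟶ S)
    [IsLocallyNoetherian (pullback f t : Scheme.{u})] (F : X.Modules)
    (hF : Coh.IsCoh F) (hfl : FlatMod.IsFlatOver f F)
    (s : LTSeries (Subobject ((Scheme.Modules.pullback (pullback.fst f t)).obj F)))
    (hs0 : s.head = ⊥) (hs1 : s.last = ⊤) (hc : ∀ i, Coh.IsCoh (factor s i))
    (x' : (pullback f t : Scheme.{u})) (h : LFAt (grObj s) x') :
    LFAt F ((pullback.fst f t) x') :=
  lfAt_of_lfAt_pullback f t F hF hfl x' (lfAt_of_grObj s hs0 hs1 hc h)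

end Groth.Agent.Lib.T2H6.JHFlatFam
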