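import Mathlib
import Groth.Agent.Lib.Helper9DeltaDerived

/-!
# T2H6KExtDelta (helper6): `Ext^p(O, -)` as an effaceable δ-functor with values in modules over the base ring

For an `R`-linear abelian category `𝒜` and an object `O`:

* `extK R O p : 𝒜 ⥤ ModuleCat R`, `F ↦ Ext^p(O, F)`;
* `extKEffDelta`: the connecting maps (composition with the extension class), making it an effaceable
  δ-functor in the sense of `Helper9DeltaDerived`;
* `nonempty_extK_iso_rightDerived`: `extK R O p ≅ R^p (extK R O 0)`.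
-/

set_option autoImplicit false
set_option linter.style.haveILetI false
universe w t v u
open CategoryTheory CategoryTheory.Limits CategoryTheory.Abelian

namespace Groth.Agent.Lib.T2H6.KExt

variable (R : Type t) [CommRing R] {𝒜 : Type u} [Category.{v} 𝒜] [Abelian 𝒜] [Linear R 𝒜]
  [HasExt.{w} 𝒜] (O : 𝒜)

/-- `F ↦ Ext^p(O, F)` with values in `R`-modules. -/
noncomputable def extK (p : ℕ) : 𝒜 ⥤ ModuleCat.{w} R where
  obj F := ModuleCat.of R (Ext.{w} O F p)
  map g := ModuleCat.ofHom ((Ext.mk₀ g).postcompOfLinear R O (add_zero p))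
  map_id F := by
    apply ModuleCat.hom_ext
    apply LinearMap.ext
    intro x
    change x.comp (Ext.mk₀ (𝟙 F)) (add_zero p) = x
    exact Ext.comp_mk₀_id x
  map_comp f g := by
    apply ModuleCat.hom_ext
    apply LinearMap.ext
    intro x
    change x.comp (Ext.mk₀ (f ≫ g)) (add_zero p) =
      (x.comp (Ext.mk₀ f) (add_zero p)).comp (Ext.mk₀ g) (add_zero p)
    rw [Ext.comp_assoc_of_third_deg_zero, Ext.mk₀_comp_mk₀]

theorem extK_map_apply (p : ℕ) {F G : 𝒜} (g : F ⟶ G) (x : Ext.{w} O F p) :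
    ((extK R O p).map g).hom x = x.comp (Ext.mk₀ g) (add_zero p) := rfl

instance extK_additive (p : ℕ) : (extK R O p).Additive where
  map_add {F G f g} := by
    apply ModuleCat.hom_ext
    apply LinearMap.ext
    intro x
    change x.comp (Ext.mk₀ (f + g)) (add_zero p) =
      x.comp (Ext.mk₀ f) (add_zero p) + x.comp (Ext.mk₀ g) (add_zero p)
    rw [Ext.mk₀_add, Ext.comp_add]

/-- the connecting map. -/
noncomputable def δK (S : ShortComplex 𝒜) (hS : S.ShortExact) (n : ℕ) :
    (extK R O n).obj S.X₃ ⟶ (extK R O (n + 1)).obj S.X₁ :=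
  ModuleCat.ofHom (hS.extClass.postcompOfLinear R O rfl)

theorem δK_apply (S : ShortComplex 𝒜) (hS : S.ShortExact) (n : ℕ) (x : Ext.{w} O S.X₃ n) :
    (δK R O S hS n).hom x = x.comp hS.extClass rfl := rfl

/-- `Ext^•(O, -)` is an effaceable δ-functor. -/
noncomputable def extKEffDelta : Groth.Agent.Lib.Helper9.DeltaDerived.EffDelta (fun p => extK R O p) where
  δ S hS n := δK R O S hS n
  δ_nat {S S'} hS hS' φ n := by
    apply ModuleCat.hom_ext
    apply LinearMap.ext
    intro x
    change (x.comp (Ext.mk₀ φ.τ₃) (add_zero n)).comp hS'.extClass rfl =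
      (x.comp hS.extClass rfl).comp (Ext.mk₀ φ.τ₁) (add_zero (n + 1))
    rw [Ext.comp_assoc x (Ext.mk₀ φ.τ₃) hS'.extClass (add_zero n) (zero_add 1) (by omega),
      ← ShortComplex.ShortExact.extClass_naturality hS hS' φ,
      Ext.comp_assoc x hS.extClass (Ext.mk₀ φ.τ₁) rfl (add_zero 1) (by omega)]
  comp_δ S hS n := by
    apply ModuleCat.hom_ext
    apply LinearMap.ext
    intro x
    change (x.comp (Ext.mk₀ S.g) (add_zero n)).comp hS.extClass rfl = 0
    rw [Ext.comp_assoc x (Ext.mk₀ S.g) hS.extClass (add_zero n) (zero_add 1) (by omega),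
      hS.comp_extClass, Ext.comp_zero]
  exact₃ S hS n := by
    rw [ShortComplex.moduleCat_exact_iff]
    intro x₃ hx₃
    obtain ⟨x₂, hx₂⟩ := Ext.covariant_sequence_exact₃ O hS x₃ rfl hx₃
    exact ⟨x₂, hx₂⟩
  δ_comp S hS n := by
    apply ModuleCat.hom_ext
    apply LinearMap.ext
    intro x
    change (x.comp hS.extClass rfl).comp (Ext.mk₀ S.f) (add_zero (n + 1)) = 0
    rw [Ext.comp_assoc x hS.extClass (Ext.mk₀ S.f) rfl (add_zero 1) (by omega),
      hS.extClass_comp, Ext.comp_zero]
  exact₁ S hS n := by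
    rw [ShortComplex.moduleCat_exact_iff]
    intro x₁ hx₁
    obtain ⟨x₃, hx₃⟩ := Ext.covariant_sequence_exact₁ O hS x₁ hx₁ rfl
    exact ⟨x₃, hx₃⟩
  isZero J _ n := by
    haveI : Subsingleton ((extK R O (n + 1)).obj J) := ⟨fun a b =>
      (Ext.eq_zero_of_injective (show Ext.{w} O J (n + 1) from a)).trans
        (Ext.eq_zero_of_injective (show Ext.{w} O J (n + 1) from b)).symm⟩
    exact ModuleCat.isZero_of_subsingleton _

/-- `Hom(O, -) = Ext^0(O, -)` is left exact. -/
instance preservesFiniteLimits_extK_zero : PreservesFiniteLimits (extK R O 0) := by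
  apply ((extK R O 0).preservesFiniteLimits_tfae.out 0 3).1
  intro S hS
  haveI := hS.mono_f
  constructor
  · rw [ShortComplex.moduleCat_exact_iff]
    intro x₂ hx₂
    obtain ⟨x₁, hx₁⟩ := Ext.covariant_sequence_exact₂ O hS x₂ hx₂
    exact ⟨x₁, hx₁⟩
  · rw [ModuleCat.mono_iff_injective]
    exact Ext.postcomp_mk₀_injective_of_mono O S.f

variable [HasInjectiveResolutions 𝒜]

theorem nonempty_extK_iso_rightDerived (p : ℕ) :
    Nonempty (extK R O p ≅ (extK R O 0).rightDerived p) :=
  Groth.Agent.Lib.Helper9.DeltaDerived.iso_rightDerived (extKEffDelta R O) p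

end Groth.Agent.Lib.T2H6.KExt
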