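import Mathlib
import Groth.Prelude.Def_KLin
import Groth.Agent.Lib.Helper21UnitHom
import Groth.Agent.Lib.T2H6KExtDelta

/-!
# T2H6KGamma (helper6): `Hom(O_X, f_* G) ≅ Hom(O_Y, G)`, linearly over the base ring and naturally in `G`

For a morphism `f : Y ⟶ X` of schemes over `Spec A`:

* `unitPush f : O_X ⟶ f_* O_Y`;
* `pushHomLin f G : (O_Y ⟶ G) →ₗ[A] (O_X ⟶ f_* G)`, bijective;
* `ext0PushNatIso f : extK A O_Y 0 ≅ f_* ⋙ extK A O_X 0`.
-/

set_option autoImplicit false
set_option linter.style.haveILetI false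
universe u
open CategoryTheory CategoryTheory.Limits CategoryTheory.Abelian AlgebraicGeometry Opposite TopologicalSpace

namespace Groth.Agent.Lib.T2H6.KGamma

open Groth.Agent.Lib.T2H6.KExt Groth.Agent.Lib.Helper21.UnitHom

variable {X Y : Scheme.{u}} (f : Y ⟶ X)

/-- evaluation at `1` over the whole scheme. -/
noncomputable def ev (Z : Scheme.{u}) (M : Z.Modules) :
    (Coh.structureModule Z ⟶ M) ≃+ M.val.obj (op (⊤ : Z.Opens)) :=
  unitHomAddEquiv (R := Z.ringCatSheaf) (T := (⊤ : Z.Opens)) isTerminalTop M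

theorem ev_apply (Z : Scheme.{u}) (M : Z.Modules) (g : Coh.structureModule Z ⟶ M) :
    ev Z M g = g.val.app (op (⊤ : Z.Opens)) (1 : Z.ringCatSheaf.obj.obj (op ⊤)) := rfl

/-- the canonical map `O_X ⟶ f_* O_Y`. -/
noncomputable def unitPush :
    Coh.structureModule X ⟶ (Scheme.Modules.pushforward f).obj (Coh.structureModule Y) :=
  (ev X _).symm (show ((Scheme.Modules.pushforward f).obj (Coh.structureModule Y)).val.obj (op (⊤ : X.Opens)) from
    (1 : Y.ringCatSheaf.obj.obj (op (⊤ : Y.Opens))))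

theorem ev_unitPush :
    ev X _ (unitPush f) = (show ((Scheme.Modules.pushforward f).obj (Coh.structureModule Y)).val.obj
      (op (⊤ : X.Opens)) from (1 : Y.ringCatSheaf.obj.obj (op (⊤ : Y.Opens)))) :=
  (ev X _).apply_symm_apply _

theorem ev_unitPush_comp (G : Y.Modules) (g : Coh.structureModule Y ⟶ G) :
    ev X _ (unitPush f ≫ (Scheme.Modules.pushforward f).map g) =
      (show ((Scheme.Modules.pushforward f).obj G).val.obj (op (⊤ : X.Opens)) from ev Y G g) := by
  have h := ev_unitPush f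
  rw [ev_apply] at h ⊢
  change ((Scheme.Modules.pushforward f).map g).val.app (op (⊤ : X.Opens))
    ((unitPush f).val.app (op (⊤ : X.Opens)) (1 : X.ringCatSheaf.obj.obj (op ⊤))) = _
  rw [h]
  rfl

theorem bijective_unitPush_comp (G : Y.Modules) :
    Function.Bijective (fun g : Coh.structureModule Y ⟶ G =>
      unitPush f ≫ (Scheme.Modules.pushforward f).map g) := by
  have h : (fun g : Coh.structureModule Y ⟶ G => unitPush f ≫ (Scheme.Modules.pushforward f).map g) =
      (ev X ((Scheme.Modules.pushforward f).obj G)).symm ∘ (ev Y G) := by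
    funext g
    apply (ev X ((Scheme.Modules.pushforward f).obj G)).injective
    rw [ev_unitPush_comp]
    exact ((ev X ((Scheme.Modules.pushforward f).obj G)).apply_symm_apply _).symm
  rw [h]
  exact (ev X _).symm.bijective.comp (ev Y G).bijective

variable (A : Type u) [CommRing A] [X.Over (Spec (CommRingCat.of A))] [Y.Over (Spec (CommRingCat.of A))]
  [f.IsOver (Spec (CommRingCat.of A))]

/-- `Hom(O_Y, G) → Hom(O_X, f_* G)`, linearly. -/
noncomputable def pushHomLin (G : Y.Modules) :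
    (Coh.structureModule Y ⟶ G) ≃ₗ[A] (Coh.structureModule X ⟶ (Scheme.Modules.pushforward f).obj G) :=
  LinearEquiv.ofBijective
    { toFun := fun g => unitPush f ≫ (Scheme.Modules.pushforward f).map g
      map_add' := fun g g' => by
        rw [Functor.map_add, Preadditive.comp_add]
      map_smul' := fun c g => by
        rw [Functor.map_smul, Linear.comp_smul]
        rfl } (bijective_unitPush_comp f G)

theorem pushHomLin_apply (G : Y.Modules) (g : Coh.structureModule Y ⟶ G) :
    pushHomLin f A G g = unitPush f ≫ (Scheme.Modules.pushforward f).map g := rfl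

variable [HasExt.{u} X.Modules] [HasExt.{u} Y.Modules]

/-- `Ext^0(O_Y, G) ≃ Ext^0(O_X, f_* G)`. -/
noncomputable def ext0PushEquiv (G : Y.Modules) :
    Ext.{u} (Coh.structureModule Y) G 0 ≃ₗ[A]
      Ext.{u} (Coh.structureModule X) ((Scheme.Modules.pushforward f).obj G) 0 :=
  (Ext.linearEquiv₀ (R := A)) ≪≫ₗ pushHomLin f A G ≪≫ₗ (Ext.linearEquiv₀ (R := A)).symm

theorem ext0PushEquiv_mk₀ (G : Y.Modules) (g : Coh.structureModule Y ⟶ G) :
    ext0PushEquiv f A G (Ext.mk₀ g) = Ext.mk₀ (unitPush f ≫ (Scheme.Modules.pushforward f).map g) := by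
  change (Ext.linearEquiv₀ (R := A)).symm (pushHomLin f A G (Ext.linearEquiv₀ (R := A) (Ext.mk₀ g))) = _
  have : Ext.linearEquiv₀ (R := A) (Ext.mk₀ g) = g := Ext.homEquiv₀.apply_symm_apply g
  rw [this]
  rfl

/-- the natural isomorphism `Ext^0(O_Y, -) ≅ Ext^0(O_X, f_* -)`. -/
noncomputable def ext0PushNatIso :
    extK A (Coh.structureModule Y) 0 ≅
      Scheme.Modules.pushforward f ⋙ extK A (Coh.structureModule X) 0 :=
  NatIso.ofComponents (fun G => (ext0PushEquiv f A G).toModuleIso) (by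
    intro G G' h
    apply ModuleCat.hom_ext
    apply LinearMap.ext
    intro x
    obtain ⟨g, rfl⟩ : ∃ g, Ext.mk₀ g = x := ⟨Ext.homEquiv₀ x, Ext.homEquiv₀.symm_apply_apply x⟩
    change ext0PushEquiv f A G' ((Ext.mk₀ g).comp (Ext.mk₀ h) (add_zero 0)) =
      (ext0PushEquiv f A G (Ext.mk₀ g)).comp (Ext.mk₀ ((Scheme.Modules.pushforward f).map h)) (add_zero 0)
    rw [Ext.mk₀_comp_mk₀, ext0PushEquiv_mk₀, ext0PushEquiv_mk₀, Ext.mk₀_comp_mk₀, Functor.map_comp,
      Category.assoc])

end Groth.Agent.Lib.T2H6.KGamma
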