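import Mathlib
import Groth.Agent.Lib.T2H6LefConnA
import Groth.Agent.Lib.T2H7HensCouple
import Groth.Agent.Lib.T2H5PushUnit

/-!
# T2H6LefConnB: connectedness of `V(𝓘)` versus connectedness of its open neighbourhoods under `Lef` (helper6)

Namespace `Groth.Agent.Lib.T2H6.LefConn`.

* `eq_empty_of_isClopen_of_disjoint`: if `Hom(O_U, O_U) → lim Hom(O_U, O_U/J^{n+1})` is injective, an open and
  closed subset of `U` missing `V(J)` is empty.
* `eq_empty_or_eq_empty_of_cover`: if moreover the map is bijective and `U` is preconnected, `V(J)` is not the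
  disjoint union of two nonempty closed subsets.
* `main`: **S2946**.
-/

set_option autoImplicit false
set_option linter.style.haveILetI false
universe u
open CategoryTheory CategoryTheory.Limits AlgebraicGeometry TopologicalSpace Opposite

namespace Groth.Agent.Lib.T2H6.LefConn

open Groth.Agent.Lib.Helper23.SecTw Groth.Agent.Lib.Helper23.GenLocus

variable {U : Scheme.{u}} (J : U.IdealSheafData)

theorem subschemeι_mem_support (n : ℕ) (z : (J ^ (n + 1)).subscheme) :
    (J ^ (n + 1)).subschemeι z ∈ (J.support : Set U) := by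
  have h1 : (J ^ (n + 1)).subschemeι z ∈ ((J ^ (n + 1)).support : Set U) := by
    rw [← Scheme.IdealSheafData.range_subschemeι]
    exact ⟨z, rfl⟩
  rwa [Scheme.IdealSheafData.support_pow_succ] at h1

theorem exists_subschemeι_eq (n : ℕ) (x : U) (hx : x ∈ (J.support : Set U)) :
    ∃ z : (J ^ (n + 1)).subscheme, (J ^ (n + 1)).subschemeι z = x := by
  have h1 : x ∈ ((J ^ (n + 1)).support : Set U) := by
    rwa [Scheme.IdealSheafData.support_pow_succ]
  rw [← Scheme.IdealSheafData.range_subschemeι] at h1
  exact h1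

theorem isIdempotentElem_app {Z Z' : Scheme.{u}} (f : Z ⟶ Z') (e : Γ(Z', ⊤))
    (he : IsIdempotentElem e) : IsIdempotentElem (f.appTop e) := by
  unfold IsIdempotentElem
  rw [← map_mul, he.eq]

theorem coe_basicOpen_app {Z Z' : Scheme.{u}} (f : Z ⟶ Z') (e : Γ(Z', ⊤)) :
    (Z.basicOpen (f.appTop e) : Set Z) = f ⁻¹' (Z'.basicOpen e : Set Z') := by
  rw [← Scheme.preimage_basicOpen_top f e]
  rfl

theorem preimage_inclusion {I I' : U.IdealSheafData} (h : I ≤ I') (A : Set U) :
    (Scheme.IdealSheafData.inclusion h) ⁻¹' (I.subschemeι ⁻¹' A) = I'.subschemeι ⁻¹' A := by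
  ext z
  simp only [Set.mem_preimage]
  rw [← Scheme.Hom.comp_apply, Scheme.IdealSheafData.inclusion_subschemeι]

/-- **Key lemma (injectivity part).** -/
theorem eq_empty_of_isClopen_of_disjoint
    (hinj : ∀ φ ψ : Coh.structureModule U ⟶ Coh.structureModule U,
      (∀ n : ℕ, φ ≫ ClSub.toSubscheme (J ^ (n + 1)) = ψ ≫ ClSub.toSubscheme (J ^ (n + 1))) → φ = ψ)
    (W : Set U) (hW : IsClopen W) (hdisj : W ∩ (J.support : Set U) = ∅) : W = ∅ := by
  obtain ⟨e, he, heW⟩ := Groth.Agent.Lib.T2H7.HensCouple.exists_idem_of_isClopen U W hW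
  have h1 : ohom e = ohom (0 : Γ(U, ⊤)) := by
    apply hinj
    intro n
    apply qsec_injective
    rw [qsec_comp_toSubscheme, qsec_comp_toSubscheme, osec_ohom, osec_ohom, map_zero]
    apply idem_eq_zero_of_basicOpen_eq_bot _ _ (isIdempotentElem_app _ e he)
    apply SetLike.coe_injective
    rw [coe_basicOpen_app, heW]
    ext z
    simp only [Set.mem_preimage, Opens.coe_bot, Set.mem_empty_iff_false, iff_false]
    intro hz
    exact (Set.eq_empty_iff_forall_notMem.1 hdisj _) ⟨hz, subschemeι_mem_support J n z⟩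
  have h2 : e = 0 := by
    rw [← osec_ohom e, h1, osec_ohom]
  rw [← heW, h2, Scheme.basicOpen_zero]
  rfl

/-- **Key lemma (bijectivity part).** -/
theorem eq_empty_or_eq_empty_of_cover [PreconnectedSpace U]
    (H : Lef.HomToFormalBijective J (Coh.structureModule U))
    (A B : Set U) (hA : IsClosed A) (hB : IsClosed B) (hAB : A ∩ B = ∅)
    (hcov : A ∪ B = (J.support : Set U)) : A = ∅ ∨ B = ∅ := by
  -- the clopen subsets of the thickenings
  have hcl : ∀ n : ℕ, IsClopen ((J ^ (n + 1)).subschemeι ⁻¹' A) := by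
    intro n
    refine ⟨hA.preimage (J ^ (n + 1)).subschemeι.continuous, ?_⟩
    have h1 : (J ^ (n + 1)).subschemeι ⁻¹' A = ((J ^ (n + 1)).subschemeι ⁻¹' B)ᶜ := by
      ext z
      simp only [Set.mem_preimage, Set.mem_compl_iff]
      constructor
      · intro hzA hzB
        exact (Set.eq_empty_iff_forall_notMem.1 hAB _) ⟨hzA, hzB⟩
      · intro hzB
        have := subschemeι_mem_support J n z
        rw [← hcov] at this
        rcases this with h | h
        · exact h
        · exact absurd h hzB
    rw [h1]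
    exact (hB.preimage (J ^ (n + 1)).subschemeι.continuous).isOpen_compl
  have hex : ∀ n : ℕ, ∃ e : Γ((J ^ (n + 1)).subscheme, ⊤), IsIdempotentElem e ∧
      (((J ^ (n + 1)).subscheme.basicOpen e : (J ^ (n + 1)).subscheme.Opens) :
        Set (J ^ (n + 1)).subscheme) = (J ^ (n + 1)).subschemeι ⁻¹' A :=
    fun n => Groth.Agent.Lib.T2H7.HensCouple.exists_idem_of_isClopen _ _ (hcl n)
  choose e he heA using hex
  -- compatibility
  have hcompat : Lef.IsFormalHom J (Coh.structureModule U) (fun n => qhom (J ^ (n + 1)) (e n)) := by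
    intro n
    apply qsec_injective
    rw [qsec_comp_quotMap, qsec_qhom, qsec_qhom]
    apply idem_eq_of_basicOpen_eq _ _ _ (isIdempotentElem_app _ _ (he (n + 1))) (he n)
    apply SetLike.coe_injective
    rw [coe_basicOpen_app, heA n]
    have h2 := heA (n + 1)
    rw [h2]
    exact preimage_inclusion (Lef.pow_succ_le J n) A
  obtain ⟨φ, hφ⟩ := H.2 _ hcompat
  have hφe : ∀ n, (J ^ (n + 1)).subschemeι.appTop (osec φ) = e n := by
    intro n
    rw [← qsec_comp_toSubscheme, hφ n, qsec_qhom]
  -- `osec φ` is idempotent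
  have hidem : IsIdempotentElem (osec φ) := by
    have h1 : ohom (osec φ * osec φ) = ohom (osec φ) := by
      apply H.1
      intro n
      apply qsec_injective
      rw [qsec_comp_toSubscheme, qsec_comp_toSubscheme, osec_ohom, osec_ohom, map_mul, hφe n,
        (he n).eq]
    have h2 := congrArg osec h1
    rwa [osec_ohom, osec_ohom] at h2
  rcases idem_eq_zero_or_one U (osec φ) hidem with h0 | h1
  · left
    have h2 : e 0 = 0 := by rw [← hφe 0, h0, map_zero]
    have h3 := heA 0
    rw [h2, Scheme.basicOpen_zero] at h3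
    ext x
    simp only [Set.mem_empty_iff_false, iff_false]
    intro hx
    obtain ⟨z, hz⟩ := exists_subschemeι_eq J 0 x (by rw [← hcov]; exact Or.inl hx)
    have h4 : z ∈ (J ^ (0 + 1)).subschemeι ⁻¹' A := by
      rw [Set.mem_preimage, hz]
      exact hx
    rw [← h3] at h4
    exact h4
  · right
    have h2 : e 0 = 1 := by rw [← hφe 0, h1, map_one]
    have h3 := heA 0
    rw [h2, Scheme.basicOpen_of_isUnit _ isUnit_one] at h3
    ext x
    simp only [Set.mem_empty_iff_false, iff_false]
    intro hx
    obtain ⟨z, hz⟩ := exists_subschemeι_eq J 0 x (by rw [← hcov]; exact Or.inr hx)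
    have h4 : z ∈ (J ^ (0 + 1)).subschemeι ⁻¹' A := by
      rw [← h3]
      trivial
    rw [Set.mem_preimage, hz] at h4
    exact (Set.eq_empty_iff_forall_notMem.1 hAB _) ⟨h4, hx⟩

/-- **S2946.** -/
theorem main (X : Scheme.{u}) (𝓘 : X.IdealSheafData) (h : Lef.LefCond X 𝓘) (U : X.Opens)
    (hU : (𝓘.support : Set X) ⊆ (U : Set X)) :
    ConnectedSpace (𝓘.support : Set X) ↔ ConnectedSpace U := by
  have H := h U hU (Coh.structureModule (U : Scheme.{u}))
    (Groth.Agent.Lib.T2H5.PushUnit.isFinLocFree_structureModule _)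
  have hsupp : ((𝓘.comap U.ι).support : Set (U : Scheme.{u})) = U.ι ⁻¹' (𝓘.support : Set X) := by
    rw [Scheme.IdealSheafData.support_comap]
    rfl
  constructor
  · intro hY
    have hYpre : _root_.IsPreconnected (𝓘.support : Set X) := isPreconnected_iff_preconnectedSpace.2 hY.toPreconnectedSpace
    have hYne : (𝓘.support : Set X).Nonempty := Set.nonempty_coe_sort.1 hY.toNonempty
    have hYU : _root_.IsPreconnected (U.ι ⁻¹' (𝓘.support : Set X)) := by
      apply hYpre.preimage_of_isOpenMap U.ι.isOpenEmbedding.injective U.ι.isOpenEmbedding.isOpenMap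
      intro x hx
      rw [Scheme.Opens.range_ι]
      exact hU hx
    haveI : Nonempty (U : Scheme.{u}) := by
      obtain ⟨x, hx⟩ := hYne
      exact ⟨⟨x, hU hx⟩⟩
    haveI : PreconnectedSpace (U : Scheme.{u}) := by
      rw [preconnectedSpace_iff_clopen]
      have key : ∀ W : Set (U : Scheme.{u}), IsClopen W →
          W ∩ (U.ι ⁻¹' (𝓘.support : Set X)) = ∅ → W = ∅ := by
        intro W hW hdisj
        exact eq_empty_of_isClopen_of_disjoint (𝓘.comap U.ι) H.1 W hW (by rw [hsupp]; exact hdisj)
      intro W hW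
      by_cases hne : (U.ι ⁻¹' (𝓘.support : Set X) ∩ W).Nonempty
      · right
        have hsub := hYU.subset_isClopen hW hne
        have h1 : Wᶜ = ∅ := by
          apply key Wᶜ hW.compl
          ext x
          simp only [Set.mem_inter_iff, Set.mem_compl_iff, Set.mem_empty_iff_false, iff_false,
            not_and]
          intro hxW hx
          exact hxW (hsub hx)
        rwa [Set.compl_empty_iff] at h1
      · left
        apply key W hW
        rw [Set.inter_comm]
        exact Set.not_nonempty_iff_eq_empty.1 hne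
    exact { toNonempty := inferInstance }
  · intro hUc
    haveI : PreconnectedSpace (U : Scheme.{u}) := hUc.toPreconnectedSpace
    have hne : (𝓘.support : Set X).Nonempty := by
      by_contra hemp
      rw [Set.not_nonempty_iff_eq_empty] at hemp
      have h1 : (Set.univ : Set (U : Scheme.{u})) = ∅ := by
        apply eq_empty_of_isClopen_of_disjoint (𝓘.comap U.ι) H.1 _ isClopen_univ
        rw [hsupp, hemp]
        simp
      obtain ⟨x⟩ := hUc.toNonempty
      have : x ∈ (Set.univ : Set (U : Scheme.{u})) := trivial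
      rw [h1] at this
      exact this
    have hpre : _root_.IsPreconnected (𝓘.support : Set X) := by
      rw [isPreconnected_iff_subset_of_disjoint_closed]
      intro u v hu hv huv hdisj
      have hA : IsClosed (U.ι ⁻¹' ((𝓘.support : Set X) ∩ u)) :=
        (𝓘.support.isClosed.inter hu).preimage U.ι.continuous
      have hB : IsClosed (U.ι ⁻¹' ((𝓘.support : Set X) ∩ v)) :=
        (𝓘.support.isClosed.inter hv).preimage U.ι.continuous
      have hAB : U.ι ⁻¹' ((𝓘.support : Set X) ∩ u) ∩ U.ι ⁻¹' ((𝓘.support : Set X) ∩ v) = ∅ := by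
        rw [Set.eq_empty_iff_forall_notMem]
        rintro x ⟨⟨hx1, hx2⟩, ⟨-, hx3⟩⟩
        exact (Set.eq_empty_iff_forall_notMem.1 hdisj _) ⟨hx1, hx2, hx3⟩
      have hcov : U.ι ⁻¹' ((𝓘.support : Set X) ∩ u) ∪ U.ι ⁻¹' ((𝓘.support : Set X) ∩ v) =
          ((𝓘.comap U.ι).support : Set (U : Scheme.{u})) := by
        rw [hsupp]
        ext x
        simp only [Set.mem_union, Set.mem_preimage, Set.mem_inter_iff]
        constructor
        · rintro (⟨hx, -⟩ | ⟨hx, -⟩) <;> exact hx
        · intro hx
          rcases huv hx with h1 | h1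
          · exact Or.inl ⟨hx, h1⟩
          · exact Or.inr ⟨hx, h1⟩
      rcases eq_empty_or_eq_empty_of_cover (𝓘.comap U.ι) H _ _ hA hB hAB hcov with h1 | h1
      · right
        intro x hx
        rcases huv hx with h2 | h2
        · exfalso
          have : (⟨x, hU hx⟩ : (U : Scheme.{u})) ∈ U.ι ⁻¹' ((𝓘.support : Set X) ∩ u) := ⟨hx, h2⟩
          rw [h1] at this
          exact this
        · exact h2
      · left
        intro x hx
        rcases huv hx with h2 | h2
        · exact h2
        · exfalso
          have : (⟨x, hU hx⟩ : (U : Scheme.{u})) ∈ U.ι ⁻¹' ((𝓘.support : Set X) ∩ v) := ⟨hx, h2⟩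
          rw [h1] at this
          exact this
    haveI : Nonempty (𝓘.support : Set X) := Set.nonempty_coe_sort.2 hne
    haveI : PreconnectedSpace (𝓘.support : Set X) := isPreconnected_iff_preconnectedSpace.1 hpre
    exact { toNonempty := inferInstance }

end Groth.Agent.Lib.T2H6.LefConn
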