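import Mathlib
import Groth.Agent.Lib.T2H5RpushClosed
import Groth.Agent.Lib.Helper23PushBound
import Groth.Agent.Lib.Helper23AffOpen4

/-!
# T2H6RpushBound (helper6): a uniform vanishing bound for higher direct images

* `exists_bound_Rpush`: for `f : Y ⟶ X` with `Y` quasi-compact with affine diagonal and `U ∩ f⁻¹V` affine for
  affine opens `U ⊆ Y`, `V ⊆ X`, there is `t` with `R^q f_* G = 0` for all `q > t` and all quasi-coherent `G`;
* `exists_bound_Rpush_of_separated`: the same for schemes separated over an affine base;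
* `subsingleton_HH_pushforward_injective`: `H^q(X, f_* Q) = 0` for `q ≥ 1` and `Q` injective.
-/

set_option autoImplicit false
set_option linter.style.haveILetI false
set_option linter.unusedSectionVars false
universe u
open CategoryTheory CategoryTheory.Limits Opposite TopologicalSpace AlgebraicGeometry Abelian

namespace Groth.Agent.Lib.T2H6.RpushBound

open Groth.Agent.Lib.Helper23.AffVanish Groth.Agent.Lib.Helper23.ModAbBridge Groth.Agent.Lib.Helper21
  Groth.Agent.Lib.Helper23.PushBound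

variable {Y X : Scheme.{u}} (f : Y ⟶ X)

/-- a finite affine cover, as a list. -/
theorem exists_affine_list [CompactSpace Y] :
    ∃ l : List Y.Opens, (∀ V ∈ l, IsAffineOpen V) ∧ supList l = ⊤ := by
  have hcov : ∀ y : Y, ∃ V : Y.Opens, IsAffineOpen V ∧ y ∈ V := by
    intro y
    obtain ⟨_, ⟨V, hV, rfl⟩, hyV, -⟩ :=
      (Y.isBasis_affineOpens).exists_subset_of_mem_open (Set.mem_univ y) isOpen_univ
    exact ⟨V, hV, hyV⟩
  choose V hV hyV using hcov
  obtain ⟨s, hs⟩ := isCompact_univ.elim_finite_subcover (fun y : Y => ((V y : Y.Opens) : Set Y))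
    (fun y => (V y).2) (fun y _ => Set.mem_iUnion.2 ⟨y, hyV y⟩)
  refine ⟨s.toList.map V, ?_, ?_⟩
  · intro W hW
    obtain ⟨y, _, rfl⟩ := List.mem_map.1 hW
    exact hV y
  · apply le_antisymm le_top
    intro y _
    obtain ⟨x, hx⟩ := Set.mem_iUnion.1 (hs (Set.mem_univ y))
    obtain ⟨hxs, hyx⟩ := Set.mem_iUnion.1 hx
    exact le_supList_of_mem (List.mem_map.2 ⟨x, Finset.mem_toList.2 hxs, rfl⟩) hyx

theorem exists_bound_Rpush [CompactSpace Y]
    (hd : ∀ V W : Y.Opens, IsAffineOpen V → IsAffineOpen W → IsAffineOpen (V ⊓ W))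
    (hf : ∀ (U : Y.Opens) (V : X.Opens), IsAffineOpen U → IsAffineOpen V → IsAffineOpen (f ⁻¹ᵁ V ⊓ U))
    [HasInjectiveResolutions Y.Modules] :
    ∃ t : ℕ, ∀ (G : Y.Modules), G.IsQuasicoherent → ∀ q : ℕ, t ≤ q →
      IsZero ((Coh.Rpush f (q + 1)).obj G) := by
  obtain ⟨l, hl, hltop⟩ := exists_affine_list (Y := Y)
  refine ⟨l.length, fun G hG q hq => ?_⟩
  haveI := hG
  apply Groth.Agent.Lib.T2H5.RpushClosed.isZero_of_isZero_toAb
  obtain ⟨e⟩ := nonempty_toAb_Rpush_iso f G (q + 1)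
  refine IsZero.of_iso ?_ e
  refine isZero_Rpush_of_basis_bound f.base (X.affineOpens) X.isBasis_affineOpens _ l.length ?_ q hq
  intro V hV i hi
  have h1 : (f ⁻¹ᵁ V : Y.Opens) = supList (l.map (f ⁻¹ᵁ V ⊓ ·)) := by
    rw [← inf_supList, hltop, inf_top_eq]
  change Subsingleton (HE (ab' G) (i + 1) (f ⁻¹ᵁ V))
  rw [h1]
  refine subsingleton_HE_of_list hd G _ ?_ (i + 1) (by simp; omega)
  intro W hW
  obtain ⟨U, hU, rfl⟩ := List.mem_map.1 hW
  exact hf U V (hl U hU) hV

/-- the uniform bound for schemes separated over an affine base. -/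
theorem exists_bound_Rpush_of_separated {S : Scheme.{u}} [IsAffine S] (gY : Y ⟶ S) (gX : X ⟶ S)
    [IsSeparated gY] [IsSeparated gX] [CompactSpace Y]
    [HasInjectiveResolutions Y.Modules] :
    ∃ t : ℕ, ∀ (G : Y.Modules), G.IsQuasicoherent → ∀ q : ℕ, t ≤ q →
      IsZero ((Coh.Rpush f (q + 1)).obj G) := by
  have hd : ∀ V W : Y.Opens, IsAffineOpen V → IsAffineOpen W → IsAffineOpen (V ⊓ W) := by
    intro V W hV hW
    haveI : IsAffineHom (pullback.diagonal gY) := inferInstance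
    exact (isAffineHom_diagonal_iff (f := gY)).1 inferInstance ⊤ (isAffineOpen_top S) V le_top W le_top hV hW
  refine exists_bound_Rpush f hd ?_
  intro U V hU hV
  haveI : IsAffine (↑U : Scheme.{u}) := hU
  haveI : IsAffineHom ((U.ι ≫ f) ≫ gX) := inferInstance
  haveI : IsAffineHom (U.ι ≫ f) := IsAffineHom.of_comp (U.ι ≫ f) gX
  have h1 : IsAffineOpen ((U.ι ≫ f) ⁻¹ᵁ V) := hV.preimage (U.ι ≫ f)
  have h2 : IsAffineOpen (U.ι ''ᵁ ((U.ι ≫ f) ⁻¹ᵁ V)) := h1.image_of_isOpenImmersion U.ι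
  have h3 : U.ι ''ᵁ ((U.ι ≫ f) ⁻¹ᵁ V) = f ⁻¹ᵁ V ⊓ U := by
    rw [Scheme.Hom.comp_preimage, Scheme.Hom.image_preimage_eq_opensRange_inf, Scheme.Opens.opensRange_ι,
      inf_comm]
  rw [← h3]
  exact h2

/-- `H^q(X, f_* Q) = 0` for `q ≥ 1` and `Q` injective. -/
theorem subsingleton_HH_pushforward_injective (Q : Y.Modules) [Injective Q] (q : ℕ) :
    Subsingleton (Coh.HH X ((Scheme.Modules.pushforward f).obj Q) (q + 1)) := by
  haveI := Groth.Agent.Lib.T2H5.RpushClosed.subsingleton_HE_pushforward_injective f Q (⊤ : X.Opens) q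
  exact (HETopEquivH X.carrier (ab' ((Scheme.Modules.pushforward f).obj Q)) (q + 1)).symm.subsingleton

end Groth.Agent.Lib.T2H6.RpushBound
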