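import Mathlib
import Groth.Prelude.Def_SpSeq
import Groth.Agent.Lib.LeadEulerSS
import Groth.Agent.Lib.Helper10SpSeq
import Groth.Agent.Lib.T2H5SSSerre

/-!
# T2H6SSEulerA (helper6): the Euler characteristic of the abutment of a spectral sequence of modules

* `length_shortExact`: additivity of the length on short exact sequences of `ModuleCat A`;
* `length_eq_sum_grPiece`: the length of a finitely filtered module is the sum of the lengths of its graded pieces;
* `length_page_of_stationaryAt`: the length at a stationary position no longer changes;
* `euler_abutment`: for an `E₂`-spectral sequence of modules of finite length, concentrated in a finite set `s` of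
  positions, with an abutment with finite filtrations, the alternating sum of the lengths of the abutment is
  the alternating sum of the lengths of the `E₂`-terms.
-/

set_option autoImplicit false
set_option linter.style.haveILetI false
universe u
open CategoryTheory CategoryTheory.Limits

namespace Groth.Agent.Lib.T2H6.SSEuler

open Groth.Agent.LeadEulerSS

variable {A : Type u} [Ring A]

theorem length_shortExact (S : ShortComplex (ModuleCat.{u} A)) (hS : S.ShortExact) :
    Module.length A S.X₂ = Module.length A S.X₁ + Module.length A S.X₃ :=
  Module.length_eq_add_of_exact S.f.hom S.g.hom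
    ((ModuleCat.mono_iff_injective _).1 hS.mono_f) ((ModuleCat.epi_iff_surjective _).1 hS.epi_g)
    ((ShortComplex.ShortExact.moduleCat_exact_iff_function_exact S).1 hS.exact)

theorem length_eq_zero_of_isZero {M : ModuleCat.{u} A} (h : IsZero M) : Module.length A M = 0 := by
  haveI := ModuleCat.subsingleton_of_isZero h
  exact Module.length_eq_zero

theorem length_eq_of_iso {M N : ModuleCat.{u} A} (e : M ≅ N) : Module.length A M = Module.length A N :=
  e.toLinearEquiv.length_eq

theorem length_step {X : ModuleCat.{u} A} (F : ℤ → Subobject X) (hF : Antitone F) (q : ℤ) :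
    Module.length A ((F q : Subobject X) : ModuleCat.{u} A) =
      Module.length A (SpSeq.grPiece F hF q : ModuleCat.{u} A) +
        Module.length A ((F (q + 1) : Subobject X) : ModuleCat.{u} A) := by
  have hle : F (q + 1) ≤ F q := hF (Int.le_add_one le_rfl)
  have hses := (ShortComplex.ShortExact.mk (S := ShortComplex.mk
    ((F (q + 1)).ofLE (F q) hle) (cokernel.π ((F (q + 1)).ofLE (F q) hle)) (cokernel.condition _))
    (ShortComplex.exact_of_g_is_cokernel _ (cokernelIsCokernel _)))
  have h1 := length_shortExact _ hses
  rw [add_comm]
  exact h1

/-- the length of a finitely filtered module is the sum of the lengths of the graded pieces. -/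
theorem length_eq_sum_grPiece {X : ModuleCat.{u} A} (F : ℤ → Subobject X) (hF : Antitone F)
    (a b : ℤ) (ha : F a = ⊤) (hb : F b = ⊥) :
    Module.length A X = ∑ p ∈ Finset.Ico a b, Module.length A (SpSeq.grPiece F hF p : ModuleCat.{u} A) := by
  have key : ∀ (k : ℕ) (q : ℤ), q + k = b → Module.length A ((F q : Subobject X) : ModuleCat.{u} A) =
      ∑ p ∈ Finset.Ico q b, Module.length A (SpSeq.grPiece F hF p : ModuleCat.{u} A) := by
    intro k
    induction k with
    | zero =>
      intro q hq
      have h0 : q = b := by simpa using hq
      rw [h0, hb, Finset.Ico_self, Finset.sum_empty]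
      exact length_eq_zero_of_isZero (IsZero.of_iso (isZero_zero _) Subobject.botCoeIsoZero)
    | succ k ih =>
      intro q hq
      have hq' : q + 1 + (k : ℤ) = b := by push_cast at hq; omega
      have hlt : q < b := by push_cast at hq; omega
      have hins : Finset.Ico q b = insert q (Finset.Ico (q + 1) b) := by
        ext x
        simp only [Finset.mem_Ico, Finset.mem_insert]
        omega
      rw [hins, Finset.sum_insert (by simp), ← ih (q + 1) hq']
      exact length_step F hF q
  by_cases hab : a ≤ b
  · have hk := key (b - a).toNat a (by
      have : ((b - a).toNat : ℤ) = b - a := Int.toNat_of_nonneg (by omega)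
      omega)
    rw [ha] at hk
    rw [← hk]
    haveI : IsIso (⊤ : Subobject X).arrow := inferInstance
    exact (length_eq_of_iso (asIso (⊤ : Subobject X).arrow)).symm
  · have hba : b ≤ a := by omega
    have htop : (⊤ : Subobject X) = ⊥ := by
      apply le_antisymm _ bot_le
      rw [← ha, ← hb]
      exact hF hba
    rw [Finset.Ico_eq_empty (by omega), Finset.sum_empty]
    haveI : IsIso (⊤ : Subobject X).arrow := inferInstance
    rw [← length_eq_of_iso (asIso (⊤ : Subobject X).arrow), htop]
    exact length_eq_zero_of_isZero (IsZero.of_iso (isZero_zero _) Subobject.botCoeIsoZero)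

theorem rlen_zero {M N : ModuleCat.{u} A} : rlen (0 : M ⟶ N) = 0 := by
  unfold rlen
  have : LinearMap.range (0 : M ⟶ N).hom = ⊥ := by
    rw [ModuleCat.hom_zero, LinearMap.range_zero]
  rw [this]
  exact Module.length_eq_zero

/-- the length at a stationary position no longer changes. -/
theorem length_page_of_stationaryAt (E : E₂CohomologicalSpectralSequence (ModuleCat.{u} A))
    (pq : ℤ × ℤ) (r : ℤ) (h : SpSeq.StationaryAt E pq r) (r' : ℤ) (hr' : r ≤ r') :
    Module.length A ((E.page r' (h.1.trans hr')).X pq) = Module.length A ((E.page r h.1).X pq) := by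
  refine Int.le_induction
    (motive := fun r' hr' => Module.length A ((E.page r' (h.1.trans hr')).X pq) =
      Module.length A ((E.page r h.1).X pq)) rfl (fun k hk ih => ?_) r' hr'
  have h2k : (2 : ℤ) ≤ k := h.1.trans hk
  obtain ⟨hd1, hd2⟩ := h.2 k h2k hk
  have h1 : Module.length A ((E.page (k + 1) (h2k.trans (by omega))).X pq) =
      Module.length A ((E.page k h2k).homology pq) :=
    (length_eq_of_iso (E.iso k (k + 1) pq rfl h2k)).symm
  have h3 := length_X (E.page k h2k) (pq - (k, 1 - k)) pq (pq + (k, 1 - k))
    (Groth.Agent.Lib.T2H5.SSSerre.prev_up' k pq) (Groth.Agent.Lib.T2H5.SSSerre.next_up' k pq)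
  rw [hd1, hd2, rlen_zero, rlen_zero, zero_add, add_zero] at h3
  rw [h1, ← h3]
  exact ih

end Groth.Agent.Lib.T2H6.SSEuler
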