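import Mathlib
import Groth.Agent.Lib.T2H6SSEulerA

/-!
# T2H6SSEulerB (helper6): the Euler characteristic of the abutment of a spectral sequence of modules

`euler_abutment`: for an `E₂`-spectral sequence of modules of finite length, concentrated in a finite set `s` of
positions, with an abutment with finite filtrations, the alternating sum of the lengths of the abutment is
the alternating sum of the lengths of the `E₂`-terms.
-/

set_option autoImplicit false
set_option linter.style.haveILetI false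
universe u
open CategoryTheory CategoryTheory.Limits

namespace Groth.Agent.Lib.T2H6.SSEuler

open Groth.Agent.LeadEulerSS

variable {A : Type u} [Ring A]

theorem length_grPiece_transport {H : ℤ → ModuleCat.{u} A} (fil : ∀ n : ℤ, ℤ → Subobject (H n))
    (anti : ∀ n, Antitone (fil n)) (m n : ℤ) (h : m = n) (p : ℤ) :
    Module.length A (SpSeq.grPiece (fil m) (anti m) p : ModuleCat.{u} A) =
      Module.length A (SpSeq.grPiece (fil n) (anti n) p : ModuleCat.{u} A) := by
  subst h
  rfl

theorem length_grPiece_eq_zero_of_eq {X : ModuleCat.{u} A} (F : ℤ → Subobject X) (hF : Antitone F) (p : ℤ)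
    (h : F (p + 1) = F p) : Module.length A (SpSeq.grPiece F hF p : ModuleCat.{u} A) = 0 :=
  length_eq_zero_of_isZero (Groth.Agent.Lib.Helper10.SpSeqLib.isZero_subquot_of_eq _ _ _ h)

variable (E : E₂CohomologicalSpectralSequence (ModuleCat.{u} A)) (H : ℤ → ModuleCat.{u} A)
  (a : SpSeq.Abutment E H) (hfin : ∀ n, a.IsFinite n) (s : Finset (ℤ × ℤ))
  (hs : ∀ pq : ℤ × ℤ, pq ∉ s → IsZero ((E.page 2).X pq))
  (hfl : ∀ pq : ℤ × ℤ, IsFiniteLength A ((E.page 2).X pq))

/-- a page after which all the positions of `s` are stationary. -/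
noncomputable def bigR : ℤ := (insert (2 : ℤ) (s.image a.rk)).max' (Finset.insert_nonempty _ _)

theorem two_le_bigR : 2 ≤ bigR E H a s :=
  Finset.le_max' _ _ (Finset.mem_insert_self _ _)

theorem rk_le_bigR (pq : ℤ × ℤ) (h : pq ∈ s) : a.rk pq ≤ bigR E H a s :=
  Finset.le_max' _ _ (Finset.mem_insert_of_mem (Finset.mem_image_of_mem _ h))

/-- the length of the limit term. -/
noncomputable def Linf (pq : ℤ × ℤ) : ℕ∞ :=
  Module.length A ((E.page (bigR E H a s) (two_le_bigR E H a s)).X pq)

include hs hfl in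
theorem Linf_eq_zero (pq : ℤ × ℤ) (h : pq ∉ s) : Linf E H a s pq = 0 :=
  (pageProp E s hs hfl _ (two_le_bigR E H a s)).1 pq h

include hs hfl in
theorem Linf_ne_top (pq : ℤ × ℤ) : Linf E H a s pq ≠ ⊤ :=
  (pageProp E s hs hfl _ (two_le_bigR E H a s)).2.1 pq

include hs hfl in
theorem sum_Linf :
    ∑ pq ∈ s, eps pq * ((Linf E H a s pq).toNat : ℤ) =
      ∑ pq ∈ s, eps pq * ((Module.length A ((E.page 2).X pq)).toNat : ℤ) :=
  (pageProp E s hs hfl _ (two_le_bigR E H a s)).2.2

include hs hfl in
/-- the graded pieces of the abutment have the lengths of the limit terms. -/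
theorem length_gr (pq : ℤ × ℤ) :
    Module.length A (SpSeq.grPiece (a.fil (pq.1 + pq.2)) (a.anti (pq.1 + pq.2)) pq.1 : ModuleCat.{u} A) =
      Linf E H a s pq := by
  rw [← length_eq_of_iso (a.β pq)]
  by_cases h : pq ∈ s
  · exact (length_page_of_stationaryAt E pq (a.rk pq) (a.stat pq) _ (rk_le_bigR E H a s pq h)).symm
  · rw [Linf_eq_zero E H a s hs hfl pq h]
    exact (pageProp E s hs hfl _ (a.stat pq).1).1 pq h

include hs hfl in
theorem length_gr' (n p : ℤ) :
    Module.length A (SpSeq.grPiece (a.fil n) (a.anti n) p : ModuleCat.{u} A) =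
      Linf E H a s (p, n - p) := by
  rw [← length_gr E H a s hs hfl (p, n - p)]
  exact length_grPiece_transport a.fil a.anti n (p + (n - p)) (by ring) p

include hfin hs hfl in
/-- the length of the abutment in degree `n`. -/
theorem length_H (n : ℤ) :
    Module.length A (H n) = ∑ pq ∈ s.filter (fun pq => pq.1 + pq.2 = n), Linf E H a s pq := by
  obtain ⟨⟨a₀, ha₀⟩, ⟨b₀, hb₀⟩⟩ := hfin n
  change a.fil n a₀ = ⊤ at ha₀
  change a.fil n b₀ = ⊥ at hb₀
  have h1 := length_eq_sum_grPiece (a.fil n) (a.anti n) a₀ b₀ ha₀ hb₀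
  -- vanishing outside the interval
  have hout : ∀ p : ℤ, p ∉ Finset.Ico a₀ b₀ →
      Module.length A (SpSeq.grPiece (a.fil n) (a.anti n) p : ModuleCat.{u} A) = 0 := by
    intro p hp
    apply length_grPiece_eq_zero_of_eq
    rw [Finset.mem_Ico, not_and_or, not_le, not_lt] at hp
    rcases hp with hp | hp
    · have e1 : a.fil n p = ⊤ := top_le_iff.1 (by rw [← ha₀]; exact a.anti n hp.le)
      have e2 : a.fil n (p + 1) = ⊤ := top_le_iff.1 (by rw [← ha₀]; exact a.anti n (by omega))
      rw [e1, e2]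
    · have e1 : a.fil n p = ⊥ := le_bot_iff.1 (by rw [← hb₀]; exact a.anti n hp)
      have e2 : a.fil n (p + 1) = ⊥ := le_bot_iff.1 (by rw [← hb₀]; exact a.anti n (by omega))
      rw [e1, e2]
  set T : Finset ℤ := (s.filter (fun pq => pq.1 + pq.2 = n)).image Prod.fst with hT
  have hT0 : ∀ p : ℤ, p ∉ T →
      Module.length A (SpSeq.grPiece (a.fil n) (a.anti n) p : ModuleCat.{u} A) = 0 := by
    intro p hp
    rw [length_gr' E H a s hs hfl n p]
    apply Linf_eq_zero E H a s hs hfl
    intro hmem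
    apply hp
    rw [hT, Finset.mem_image]
    exact ⟨(p, n - p), Finset.mem_filter.2 ⟨hmem, by simp⟩, rfl⟩
  have h2 : ∑ p ∈ Finset.Ico a₀ b₀, Module.length A (SpSeq.grPiece (a.fil n) (a.anti n) p : ModuleCat.{u} A) =
      ∑ p ∈ Finset.Ico a₀ b₀ ∪ T,
        Module.length A (SpSeq.grPiece (a.fil n) (a.anti n) p : ModuleCat.{u} A) :=
    Finset.sum_subset Finset.subset_union_left (fun p _ hp => hout p hp)
  have h3 : ∑ p ∈ T, Module.length A (SpSeq.grPiece (a.fil n) (a.anti n) p : ModuleCat.{u} A) =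
      ∑ p ∈ Finset.Ico a₀ b₀ ∪ T,
        Module.length A (SpSeq.grPiece (a.fil n) (a.anti n) p : ModuleCat.{u} A) :=
    Finset.sum_subset Finset.subset_union_right (fun p _ hp => hT0 p hp)
  rw [h1, h2, ← h3, hT, Finset.sum_image]
  · refine Finset.sum_congr rfl (fun pq hpq => ?_)
    rw [length_gr' E H a s hs hfl n pq.1]
    have : pq.1 + pq.2 = n := (Finset.mem_filter.1 hpq).2
    congr 1
    ext
    · rfl
    · simp only; omega
  · intro x hx y hy hxy
    have hx' : x.1 + x.2 = n := (Finset.mem_filter.1 hx).2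
    have hy' : y.1 + y.2 = n := (Finset.mem_filter.1 hy).2
    ext
    · exact hxy
    · omega

include hfin hs hfl in
theorem length_H_ne_top (n : ℤ) : Module.length A (H n) ≠ ⊤ := by
  rw [length_H E H a hfin s hs hfl n]
  exact ENat.sum_ne_top.2 (fun pq _ => Linf_ne_top E H a s hs hfl pq)

include hfin hs hfl in
/-- **The Euler characteristic of the abutment** is that of the `E₂`-page. -/
theorem euler_abutment (N : Finset ℤ) (hN : ∀ pq ∈ s, pq.1 + pq.2 ∈ N) :
    (∀ n, n ∉ N → Module.length A (H n) = 0) ∧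
    ∑ n ∈ N, ((n.negOnePow : ℤˣ) : ℤ) * ((Module.length A (H n)).toNat : ℤ) =
      ∑ pq ∈ s, eps pq * ((Module.length A ((E.page 2).X pq)).toNat : ℤ) := by
  constructor
  · intro n hn
    rw [length_H E H a hfin s hs hfl n, Finset.filter_eq_empty_iff.2, Finset.sum_empty]
    intro pq hpq h
    exact hn (h ▸ hN pq hpq)
  · rw [← sum_Linf E H a s hs hfl]
    have hnat : ∀ n, ((Module.length A (H n)).toNat : ℤ) =
        ∑ pq ∈ s.filter (fun pq => pq.1 + pq.2 = n), ((Linf E H a s pq).toNat : ℤ) := by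
      intro n
      rw [length_H E H a hfin s hs hfl n]
      have hc : ∑ pq ∈ s.filter (fun pq => pq.1 + pq.2 = n), Linf E H a s pq =
          ((∑ pq ∈ s.filter (fun pq => pq.1 + pq.2 = n), (Linf E H a s pq).toNat : ℕ) : ℕ∞) := by
        rw [Nat.cast_sum]
        refine Finset.sum_congr rfl (fun pq _ => ?_)
        exact (ENat.natCast_toNat (Linf_ne_top E H a s hs hfl pq)).symm
      rw [hc, ENat.toNat_natCast, Nat.cast_sum]
    rw [← Finset.sum_fiberwise_of_maps_to (g := fun pq : ℤ × ℤ => pq.1 + pq.2) (t := N) hN]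
    refine Finset.sum_congr rfl (fun n _ => ?_)
    rw [hnat n, Finset.mul_sum]
    refine Finset.sum_congr rfl (fun pq hpq => ?_)
    have h : pq.1 + pq.2 = n := (Finset.mem_filter.1 hpq).2
    unfold eps
    rw [h]

end Groth.Agent.Lib.T2H6.SSEuler
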