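import Mathlib
import Groth.Prelude.Def_Curv2
import Groth.Agent.Lib.T2H6SSEulerB
import Groth.Agent.Lib.T2H6KGamma
import Groth.Agent.Lib.T2H6RpushBound
import Groth.Agent.Lib.T2H6ExtCmpB
import Groth.Agent.Lib.T2H6EulerField
import Groth.Agent.Lib.T2H5RpushCoh
import Groth.Agent.Lib.Helper21GSS
import Groth.Agent.Lib.Helper21DerPost
set_option backward.isDefEq.respectTransparency.types false

/-!
# T2H6LerayEuler (helper6): the Euler characteristic and higher direct images

`euler_eq_sum_euler_Rpush`: for a morphism `f : Y ⟶ X` of proper schemes over a field `k` and a coherent module `G` on `Y`,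
`χ(Y, G) = ∑_q (-1)^q χ(X, R^q f_* G)`.
-/

set_option autoImplicit false
set_option linter.style.haveILetI false
set_option linter.unusedSectionVars false
universe u
open CategoryTheory CategoryTheory.Limits Opposite TopologicalSpace AlgebraicGeometry Abelian

namespace Groth.Agent.Lib.T2H6.LerayEuler

open Groth.Agent.Lib.T2H6.KExt Groth.Agent.Lib.T2H6.KGamma Groth.Agent.Lib.T2H6.SSEuler
  Groth.Agent.LeadEulerSS

variable (k : Type u) [Field k]

section Basic

variable (X : Scheme.{u}) [X.Over (Spec (CommRingCat.of k))] [HasExt.{u} X.Modules]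

/-- the finite rank of `Ext^p(O_X, M)` is that of `H^p(X, M)`. -/
theorem finrank_extK (M : X.Modules) (p : ℕ) :
    Module.finrank k ((extK k (Coh.structureModule X) p).obj M) = Module.finrank k (Coh.HH X M p) :=
  (Groth.Agent.Lib.T2H6.ExtCmp.extToHHLin k M p).finrank_eq

theorem subsingleton_extK (M : X.Modules) (p : ℕ) (h : Subsingleton (Coh.HH X M p)) :
    Subsingleton ((extK k (Coh.structureModule X) p).obj M) :=
  (Groth.Agent.Lib.T2H6.ExtCmp.extToHHLin k M p).toEquiv.subsingleton

theorem finite_extK (M : X.Modules) (p : ℕ) (h : Module.Finite k (Coh.HH X M p)) :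
    Module.Finite k ((extK k (Coh.structureModule X) p).obj M) :=
  Module.Finite.equiv (Groth.Agent.Lib.T2H6.ExtCmp.extToHHLin k M p).symm

include k in
theorem subsingleton_HH_of_isZero (M : X.Modules) (hM : IsZero M) (p : ℕ) :
    Subsingleton (Coh.HH X M p) := by
  have h0 : IsZero ((extK k (Coh.structureModule X) p).obj M) :=
    Functor.map_isZero (extK k (Coh.structureModule X) p) hM
  haveI : Subsingleton (Abelian.Ext.{u} (Coh.structureModule X) M p) :=
    ModuleCat.subsingleton_of_isZero h0
  exact (Groth.Agent.Lib.T2H6.ExtCmp.extToHHLin k M p).symm.toEquiv.subsingleton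

theorem euler_eq_zero_of_isZero (M : X.Modules) (hM : IsZero M) : Curv2.euler k X M = 0 := by
  unfold Curv2.euler
  apply finsum_eq_zero_of_forall_eq_zero
  intro i
  haveI := subsingleton_HH_of_isZero k X M hM i
  rw [Module.finrank_zero_of_subsingleton]
  simp

end Basic

theorem length_toNat_eq_finrank (M : ModuleCat.{u} k) [Module.Finite k M] :
    ((Module.length k M).toNat : ℤ) = (Module.finrank k M : ℤ) := by
  rw [Module.length_eq_finrank]
  simp

theorem isFiniteLength_of_finite (M : ModuleCat.{u} k) [Module.Finite k M] : IsFiniteLength k M := by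
  rw [← Module.length_ne_top_iff, Module.length_eq_finrank]
  exact ENat.natCast_ne_top _


section Main

variable (X Y : Scheme.{u}) [X.Over (Spec (CommRingCat.of k))] [Y.Over (Spec (CommRingCat.of k))]
  [IsProper (X ↘ Spec (CommRingCat.of k))] [IsProper (Y ↘ Spec (CommRingCat.of k))]
  (f : Y ⟶ X) (hf : f ≫ (X ↘ Spec (CommRingCat.of k)) = Y ↘ Spec (CommRingCat.of k))
  [HasInjectiveResolutions Y.Modules] (G : Y.Modules) (hG : Coh.IsCoh G)

/-- the zero module. -/
noncomputable abbrev Z0 : ModuleCat.{u} k := ModuleCat.of k PUnit.{u + 1}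

theorem isZero_Z0 : IsZero (Z0 k) := ModuleCat.isZero_of_subsingleton _

/-- the abutment. -/
noncomputable def Hab [HasExt.{u} Y.Modules] : ℤ → ModuleCat.{u} k
  | Int.ofNat m => (extK k (Coh.structureModule Y) m).obj G
  | Int.negSucc _ => Z0 k

/-- the second page. -/
noncomputable def E2ab [HasExt.{u} X.Modules] : ℤ → ℤ → ModuleCat.{u} k
  | Int.ofNat a, Int.ofNat b => (extK k (Coh.structureModule X) a).obj ((Coh.Rpush f b).obj G)
  | Int.ofNat _, Int.negSucc _ => Z0 k
  | Int.negSucc _, _ => Z0 k

include hf hG in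
theorem euler_eq_sum_euler_Rpush :
    Curv2.euler k Y G = ∑ᶠ i : ℕ, (-1 : ℤ) ^ i * Curv2.euler k X ((Coh.Rpush f i).obj G) := by
  classical
  haveI : f.IsOver (Spec (CommRingCat.of k)) := ⟨hf⟩
  haveI : EnoughInjectives X.Modules := Groth.Agent.Lib.T2H6.ExtCmp.enoughInjectives_modules X
  haveI : EnoughInjectives Y.Modules := Groth.Agent.Lib.T2H6.ExtCmp.enoughInjectives_modules Y
  haveI : HasInjectiveResolutions X.Modules := inferInstance
  haveI : HasExt.{u} X.Modules := hasExt_of_enoughInjectives _
  haveI : HasExt.{u} Y.Modules := hasExt_of_enoughInjectives _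
  haveI : IsLocallyNoetherian X := LocallyOfFiniteType.isLocallyNoetherian (X ↘ Spec (CommRingCat.of k))
  haveI : IsProper (f ≫ (X ↘ Spec (CommRingCat.of k))) := by rw [hf]; infer_instance
  haveI : IsProper f := IsProper.of_comp f (X ↘ Spec (CommRingCat.of k))
  haveI : CompactSpace Y := QuasiCompact.compactSpace_of_compactSpace (Y ↘ Spec (CommRingCat.of k))
  haveI : G.IsQuasicoherent := hG.1
  -- bounds
  obtain ⟨dX, hdX⟩ := Groth.Agent.Lib.T2H6.EulerField.exists_bound k X
  obtain ⟨dY, hdY⟩ := Groth.Agent.Lib.T2H6.EulerField.exists_bound k Y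
  obtain ⟨t, ht⟩ := Groth.Agent.Lib.T2H6.RpushBound.exists_bound_Rpush_of_separated f
    (Y ↘ Spec (CommRingCat.of k)) (X ↘ Spec (CommRingCat.of k))
  have hR : ∀ q, Coh.IsCoh ((Coh.Rpush f q).obj G) := fun q =>
    Groth.Agent.Lib.T2H5.RpushCoh.isCoh_Rpush f G hG q
  have hRz : ∀ q, t + 1 ≤ q → IsZero ((Coh.Rpush f q).obj G) := by
    intro q hq
    obtain ⟨q', rfl⟩ : ∃ q', q = q' + 1 := ⟨q - 1, by omega⟩
    exact ht G hG.1 q' (by omega)
  -- the functors
  haveI hTadd : (Scheme.Modules.pushforward f).Additive :=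
    (Scheme.Modules.pullbackPushforwardAdjunction f).right_adjoint_additive
  have hT : ∀ Q : Y.Modules, Injective Q → ∀ q : ℕ, 0 < q →
      IsZero (((extK k (Coh.structureModule X) 0).rightDerived q).obj
        ((Scheme.Modules.pushforward f).obj Q)) := by
    intro Q hQ q hq
    obtain ⟨q', rfl⟩ : ∃ q', q = q' + 1 := ⟨q - 1, by omega⟩
    obtain ⟨e⟩ := nonempty_extK_iso_rightDerived k (Coh.structureModule X) (q' + 1)
    refine IsZero.of_iso ?_ (e.app _).symm
    haveI := subsingleton_extK k X ((Scheme.Modules.pushforward f).obj Q) (q' + 1)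
      (Groth.Agent.Lib.T2H6.RpushBound.subsingleton_HH_pushforward_injective f Q q')
    exact ModuleCat.isZero_of_subsingleton _
  have hH : ∀ n : ℕ, Nonempty (((Scheme.Modules.pushforward f ⋙
      extK k (Coh.structureModule X) 0).rightDerived n).obj G ≅ Hab k Y G n) := by
    intro n
    obtain ⟨e⟩ := nonempty_extK_iso_rightDerived k (Coh.structureModule Y) n
    exact ⟨(Groth.Agent.Lib.Helper21.DerPost.natIsoRightDerived (ext0PushNatIso f k).symm n).app G ≪≫
      (e.app G).symm⟩
  have hH' : ∀ n : ℤ, n < 0 → IsZero (Hab k Y G n) := by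
    intro n hn
    cases n with
    | ofNat m => exact absurd hn (by simp)
    | negSucc m => exact isZero_Z0 k
  have hE2 : ∀ p q : ℕ, Nonempty (((extK k (Coh.structureModule X) 0).rightDerived p).obj
      (((Scheme.Modules.pushforward f).rightDerived q).obj G) ≅ E2ab k X Y f G p q) := by
    intro p q
    obtain ⟨e⟩ := nonempty_extK_iso_rightDerived k (Coh.structureModule X) p
    exact ⟨(e.app _).symm⟩
  have hE2' : ∀ p q : ℤ, ¬ (0 ≤ p ∧ 0 ≤ q) → IsZero (E2ab k X Y f G p q) := by
    intro p q hpq
    cases p with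
    | ofNat a =>
      cases q with
      | ofNat b => exact absurd ⟨by simp, by simp⟩ hpq
      | negSucc b => exact isZero_Z0 k
    | negSucc a => exact isZero_Z0 k
  obtain ⟨E, a, hfin, -, hpq⟩ := Groth.Agent.Lib.Helper21.GSS.gss_general
    (Scheme.Modules.pushforward f) (extK k (Coh.structureModule X) 0) hT G (Hab k Y G) hH hH'
    (E2ab k X Y f G) hE2 hE2'
  -- the finite set of positions
  let ι : ℕ × ℕ → ℤ × ℤ := fun x => ((x.1 : ℤ), (x.2 : ℤ))
  have hι : Function.Injective ι := by
    intro x y h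
    have h1 : (x.1 : ℤ) = y.1 := congrArg Prod.fst h
    have h2 : (x.2 : ℤ) = y.2 := congrArg Prod.snd h
    ext
    · exact_mod_cast h1
    · exact_mod_cast h2
  let s : Finset (ℤ × ℤ) := (Finset.range (dX + 1) ×ˢ Finset.range (t + 1)).image ι
  let N : Finset ℤ := (Finset.range (dX + t + 1)).image (Nat.cast : ℕ → ℤ)
  have hs : ∀ pq : ℤ × ℤ, pq ∉ s → IsZero ((E.page 2).X pq) := by
    rintro ⟨p, q⟩ hnot
    obtain ⟨e⟩ := hpq p q
    refine IsZero.of_iso ?_ e
    cases p with
    | negSucc a => exact isZero_Z0 k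
    | ofNat a =>
      cases q with
      | negSucc b => exact isZero_Z0 k
      | ofNat b =>
        change IsZero ((extK k (Coh.structureModule X) a).obj ((Coh.Rpush f b).obj G))
        by_cases hb : b < t + 1
        · have ha : dX + 1 ≤ a := by
            by_contra hlt
            apply hnot
            exact Finset.mem_image.2 ⟨(a, b), Finset.mem_product.2
              ⟨Finset.mem_range.2 (by omega), Finset.mem_range.2 hb⟩, rfl⟩
          haveI := subsingleton_extK k X ((Coh.Rpush f b).obj G) a (hdX _ (hR b).1 a (by omega))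
          exact ModuleCat.isZero_of_subsingleton _
        · exact Functor.map_isZero _ (hRz b (by omega))
  have hfinE : ∀ pq : ℤ × ℤ, Module.Finite k ((E.page 2).X pq) := by
    rintro ⟨p, q⟩
    obtain ⟨e⟩ := hpq p q
    have h0 : Module.Finite k (E2ab k X Y f G p q) := by
      cases p with
      | negSucc a => exact (inferInstance : Module.Finite k PUnit.{u + 1})
      | ofNat a =>
        cases q with
        | negSucc b => exact (inferInstance : Module.Finite k PUnit.{u + 1})
        | ofNat b =>
          exact finite_extK k X ((Coh.Rpush f b).obj G) a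
            (Groth.Agent.Lib.T2H6.EulerField.finite_HH k X _ (hR b) a)
    exact Module.Finite.equiv e.toLinearEquiv.symm
  have hfl : ∀ pq : ℤ × ℤ, IsFiniteLength k ((E.page 2).X pq) := fun pq => by
    haveI := hfinE pq
    exact isFiniteLength_of_finite k _
  have hN : ∀ pq ∈ s, pq.1 + pq.2 ∈ N := by
    intro pq hpq'
    obtain ⟨x, hx, rfl⟩ := Finset.mem_image.1 hpq'
    obtain ⟨h1, h2⟩ := Finset.mem_product.1 hx
    rw [Finset.mem_range] at h1 h2
    exact Finset.mem_image.2 ⟨x.1 + x.2, Finset.mem_range.2 (by omega), by push_cast; rfl⟩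
  obtain ⟨hvan, hsum⟩ := euler_abutment E (Hab k Y G) a hfin s hs hfl N hN
  -- the left-hand side
  have hHfin : ∀ m : ℕ, Module.Finite k (Coh.HH Y G m) := fun m =>
    Groth.Agent.Lib.T2H6.EulerField.finite_HH k Y G hG m
  have hL : Curv2.euler k Y G = ∑ n ∈ N, ((n.negOnePow : ℤˣ) : ℤ) *
      ((Module.length k (Hab k Y G n)).toNat : ℤ) := by
    rw [Groth.Agent.Lib.T2H6.EulerField.euler_eq_sum k Y G (dX + t + dY)
      (fun i hi => hdY G hG.1 i (by omega))]
    rw [Finset.sum_image (fun x _ y _ h => by exact_mod_cast h)]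
    have hz : ∀ m : ℕ, dX + t + 1 ≤ m → Module.finrank k (Coh.HH Y G m) = 0 := by
      intro m hm
      have h0 := hvan (m : ℤ) (by
        intro hmem
        obtain ⟨m', hm', hmm⟩ := Finset.mem_image.1 hmem
        rw [Finset.mem_range] at hm'
        have : m' = m := by exact_mod_cast hmm
        omega)
      haveI : Module.Finite k (Hab k Y G (m : ℤ)) :=
        finite_extK k Y G m (hHfin m)
      have h1 := length_toNat_eq_finrank k (Hab k Y G (m : ℤ))
      rw [h0] at h1
      have h2 : Module.finrank k (Hab k Y G (m : ℤ)) = 0 := by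
        have : ((0 : ℕ∞).toNat : ℤ) = 0 := by simp
        rw [this] at h1
        exact_mod_cast h1.symm
      rw [← finrank_extK k Y G m]
      exact h2
    have hsub : Finset.range (dX + t + 1) ⊆ Finset.range (dX + t + dY + 1) := by
      intro x hx
      rw [Finset.mem_range] at hx ⊢
      omega
    rw [← Finset.sum_subset hsub (fun m _ hm => by
      rw [Finset.mem_range, not_lt] at hm
      rw [hz m hm]
      simp)]
    refine Finset.sum_congr rfl (fun m _ => ?_)
    haveI : Module.Finite k (Hab k Y G (m : ℤ)) := finite_extK k Y G m (hHfin m)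
    rw [length_toNat_eq_finrank k (Hab k Y G (m : ℤ)), Int.coe_negOnePow_natCast]
    congr 2
    exact (finrank_extK k Y G m).symm
  -- the right-hand side
  have hRHS : ∑ pq ∈ s, eps pq * ((Module.length k ((E.page 2).X pq)).toNat : ℤ) =
      ∑ b ∈ Finset.range (t + 1), (-1 : ℤ) ^ b * Curv2.euler k X ((Coh.Rpush f b).obj G) := by
    rw [Finset.sum_image (fun x _ y _ h => hι h), Finset.sum_product_right]
    refine Finset.sum_congr rfl (fun b _ => ?_)
    rw [Groth.Agent.Lib.T2H6.EulerField.euler_eq_sum k X _ dX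
      (fun i hi => hdX _ (hR b).1 i (by omega)), Finset.mul_sum]
    refine Finset.sum_congr rfl (fun a' _ => ?_)
    obtain ⟨e⟩ := hpq (a' : ℤ) (b : ℤ)
    haveI := hfinE ((a' : ℤ), (b : ℤ))
    rw [length_toNat_eq_finrank k ((E.page 2 le_rfl).X ((a' : ℤ), (b : ℤ)))]
    have h1 : Module.finrank k ((E.page 2 le_rfl).X ((a' : ℤ), (b : ℤ))) =
        Module.finrank k (Coh.HH X ((Coh.Rpush f b).obj G) a') := by
      rw [← finrank_extK k X ((Coh.Rpush f b).obj G) a']
      exact e.toLinearEquiv.finrank_eq
    rw [h1]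
    have h2 : eps ((a' : ℤ), (b : ℤ)) = (-1 : ℤ) ^ b * (-1 : ℤ) ^ a' := by
      unfold eps
      change ((((a' : ℤ) + (b : ℤ)).negOnePow : ℤˣ) : ℤ) = _
      rw [← Nat.cast_add, Int.coe_negOnePow_natCast, pow_add, mul_comm]
    rw [h2, mul_assoc]
  rw [hL, hsum, hRHS]
  symm
  apply finsum_eq_sum_of_support_subset
  intro i hi
  rw [Function.mem_support] at hi
  rw [Finset.coe_range, Set.mem_Iio]
  by_contra hlt
  apply hi
  rw [euler_eq_zero_of_isZero k X _ (hRz i (by omega)), mul_zero]

end Main

end Groth.Agent.Lib.T2H6.LerayEuler
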