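import Mathlib
import Groth.Agent.Lib.T2H6SegreB

set_option autoImplicit false
universe u
open CategoryTheory CategoryTheory.Limits AlgebraicGeometry TopologicalSpace Opposite

namespace Groth.Agent.Lib.T2H6.ProjSurj

open Groth.Agent.Lib.T2H6.Segre Groth.Agent.Lib.T2H6.SegreB
open Groth.Agent.Helper13ProjUP Groth.Agent.Helper13Dehom Groth.Agent.Helper13AffMor

theorem id_appLE_self {X : Scheme.{u}} (O : X.Opens) (h : O ≤ (𝟙 X : X ⟶ X) ⁻¹ᵁ O) (b : Γ(X, O)) :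
    ((𝟙 X : X ⟶ X).appLE O O h).hom b = b := by
  have : (𝟙 X : X ⟶ X).appLE O O h = 𝟙 _ := by
    rw [Scheme.Hom.appLE, Scheme.Hom.id_app]
    erw [Category.id_comp]
    exact X.presheaf.map_id _
  rw [this]; rfl

variable {R A B : Type u} [CommRing R] [CommRing A] [CommRing B] [Algebra R A] [Algebra R B]
  (𝒜 : ℕ → Submodule R A) (ℬ : ℕ → Submodule R B) [GradedAlgebra 𝒜] [GradedAlgebra ℬ]

/-- `Proj` of a surjective graded algebra map is a closed immersion (chart formulation). -/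
theorem exists_closedImmersion_of_surjective (φ : A →ₐ[R] B)
    (hφ : ∀ (d : ℕ) (a : A), a ∈ 𝒜 d → φ a ∈ ℬ d) (hsurj : Function.Surjective φ)
    {T : Type*} (f : T → A) (hf : ∀ t, f t ∈ 𝒜 1)
    (hcovA : ∀ y : Proj 𝒜, ∃ t, y ∈ Proj.basicOpen 𝒜 (f t))
    (hcovB : ∀ x : Proj ℬ, ∃ t, x ∈ Proj.basicOpen ℬ (φ (f t))) :
    ∃ r : Proj ℬ ⟶ Proj 𝒜, IsClosedImmersion r ∧ r ≫ toBase 𝒜 = toBase ℬ ∧
      ∀ t, r ⁻¹ᵁ Proj.basicOpen 𝒜 (f t) = Proj.basicOpen ℬ (φ (f t)) := by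
  have hφf : ∀ t, φ (f t) ∈ ℬ 1 := fun t => hφ 1 _ (hf t)
  let V : T → (Proj ℬ).Opens := fun t => Proj.basicOpen ℬ (φ (f t))
  let ψ : ∀ t, A →+* Γ(Proj ℬ, V t) := fun t => (dehom (hφf t)).comp φ.toRingHom
  obtain ⟨r, hr⟩ := exists_mor_of_charts 𝒜 f hf V hcovB ψ
    (fun t => dehom_self (hφf t))
    (fun k k' d a ha => dehom_overlap (hφf k) (hφf k') (hφ d a ha) inf_le_left inf_le_right)
  choose hle hrψ using hr
  -- preimages of the charts
  have hpre : ∀ t, r ⁻¹ᵁ Proj.basicOpen 𝒜 (f t) = Proj.basicOpen ℬ (φ (f t)) := by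
    intro t
    apply le_antisymm
    · intro x hx
      obtain ⟨s, hxs⟩ := hcovB x
      have h1 := basicOpen_appLE r (hle s) (dehom (hf s) (f t))
      rw [basicOpen_dehom (hf t) (hf s)] at h1
      have h2 : (r.appLE (Proj.basicOpen 𝒜 (f s)) (V s) (hle s)).hom (dehom (hf s) (f t)) =
          dehom (hφf s) (φ (f t)) := hrψ s (f t)
      have h3 : (Proj ℬ).basicOpen (dehom (hφf s) (φ (f t))) =
          Proj.basicOpen ℬ (φ (f t)) ⊓ Proj.basicOpen ℬ (φ (f s)) := basicOpen_dehom (hφf t) (hφf s)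
      have hx1 : x ∈ V s ⊓ r ⁻¹ᵁ (Proj.basicOpen 𝒜 (f t) ⊓ Proj.basicOpen 𝒜 (f s)) :=
        ⟨hxs, hx, hle s hxs⟩
      rw [← h1] at hx1
      have hx2 : x ∈ (Proj ℬ).basicOpen (dehom (hφf s) (φ (f t))) := by
        rw [← h2]; exact hx1
      rw [h3] at hx2
      exact hx2.1
    · exact hle t
  refine ⟨r, ?_, ?_, hpre⟩
  · refine isClosedImmersion_of_cover r (fun t => Proj.basicOpen 𝒜 (f t)) hcovA
      (fun t => isAffineOpen_basicOpen (hf t)) ?_ ?_
    · intro t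
      rw [hpre t]
      exact isAffineOpen_basicOpen (hφf t)
    · intro t
      have key : ∀ (O : (Proj ℬ).Opens) (h : O = r ⁻¹ᵁ Proj.basicOpen 𝒜 (f t)),
          Function.Surjective (pb r (Proj.basicOpen 𝒜 (f t)) O h.le) →
          Function.Surjective (r.app (Proj.basicOpen 𝒜 (f t))).hom := by
        rintro O rfl hs
        rw [Scheme.Hom.app_eq_appLE]
        exact hs
      refine key (V t) (hpre t).symm ?_
      intro s
      obtain ⟨d, b, hb, rfl⟩ := exists_dehom_eq (hφf t) s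
      obtain ⟨a, rfl⟩ := hsurj b
      exact ⟨dehom (hf t) a, hrψ t a⟩
  · refine hom_ext_opens V hcovB _ _ (fun t => ?_)
    rw [ι_comp_toBase (hf t) r (hle t)]
    have h1 := ι_comp_toBase (hφf t) (𝟙 (Proj ℬ)) (le_refl (V t))
    rw [Category.id_comp] at h1
    rw [h1]
    congr 2
    ext c
    change (r.appLE _ (V t) (hle t)).hom (dehom (hf t) (algebraMap R A c)) =
      ((𝟙 (Proj ℬ) : Proj ℬ ⟶ Proj ℬ).appLE (V t) (V t) _).hom (dehom (hφf t) (algebraMap R B c))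
    rw [hrψ t]
    change dehom (hφf t) (φ (algebraMap R A c)) = _
    rw [AlgHom.commutes]
    exact (id_appLE_self (V t) _ _).symm

end Groth.Agent.Lib.T2H6.ProjSurj
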