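import Mathlib
import Groth.Agent.Lib.T2H6ProjSurj
import Groth.Agent.Lib.T2H6CoprodImm

set_option autoImplicit false
universe u
open CategoryTheory CategoryTheory.Limits AlgebraicGeometry TopologicalSpace Opposite

namespace Groth.Agent.Lib.T2H6.LinEmb

open Groth.Agent.Lib.T2H6.Segre Groth.Agent.Lib.T2H6.SegreB Groth.Agent.Lib.T2H6.ProjSurj
open MvPolynomial

variable (R : Type u) [CommRing R] {n N : ℕ} (σ : Fin (N + 1) → Option (Fin (n + 1)))

/-- the coordinate substitution `z_t ↦ x_{σ t}` (or `0`). -/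
noncomputable def subst : MvPolynomial (Fin (N + 1)) R →ₐ[R] MvPolynomial (Fin (n + 1)) R :=
  aeval (fun t => (σ t).elim 0 X)

theorem subst_X (t : Fin (N + 1)) : subst R σ (X t) = (σ t).elim 0 X := by
  unfold subst; rw [aeval_X]

theorem subst_X_some {t : Fin (N + 1)} {i : Fin (n + 1)} (h : σ t = some i) :
    subst R σ (X t) = X i := by
  rw [subst_X, h]; rfl

theorem subst_X_none {t : Fin (N + 1)} (h : σ t = none) : subst R σ (X t) = 0 := by
  rw [subst_X, h]; rfl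

theorem subst_mem (d : ℕ) (a : MvPolynomial (Fin (N + 1)) R) (ha : a ∈ CohB1.polyGrading N R d) :
    subst R σ a ∈ CohB1.polyGrading n R d := by
  rw [MvPolynomial.mem_homogeneousSubmodule] at ha ⊢
  have := ha.aeval (S := R) (n := 1) (fun t => ((σ t).elim 0 X : MvPolynomial (Fin (n + 1)) R)) (by
    intro t
    cases σ t with
    | none => exact isHomogeneous_zero _ _ _
    | some i => exact isHomogeneous_X _ _)
  rw [one_mul] at this
  exact this

theorem subst_surjective (hσ : ∀ i, ∃ t, σ t = some i) : Function.Surjective (subst R σ) := by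
  rw [← AlgHom.range_eq_top, eq_top_iff, ← MvPolynomial.adjoin_range_X]
  apply Algebra.adjoin_le
  rintro _ ⟨i, rfl⟩
  obtain ⟨t, ht⟩ := hσ i
  exact ⟨X t, subst_X_some R σ ht⟩

/-- the linear embedding attached to `σ`. -/
theorem exists_linEmb (hσ : ∀ i, ∃ t, σ t = some i) :
    ∃ r : CohB1.ProjSpace n R ⟶ CohB1.ProjSpace N R, IsClosedImmersion r ∧
      r ≫ CohB1.ProjSpace.toSpec N R = CohB1.ProjSpace.toSpec n R ∧
      ∀ t, σ t = none → r ⁻¹ᵁ D R N t = ⊥ := by
  obtain ⟨r, h1, h2, h3⟩ := exists_closedImmersion_of_surjective (CohB1.polyGrading N R)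
    (CohB1.polyGrading n R) (subst R σ) (subst_mem R σ) (subst_surjective R σ hσ)
    (fun t : Fin (N + 1) => (X t : MvPolynomial (Fin (N + 1)) R)) (fun t => hX R N t)
    (D_cover R N) (by
      intro x
      obtain ⟨i, hi⟩ := D_cover R n x
      obtain ⟨t, ht⟩ := hσ i
      refine ⟨t, ?_⟩
      rw [subst_X_some R σ ht]
      exact hi)
  refine ⟨r, h1, h2, fun t ht => ?_⟩
  have := h3 t
  rw [subst_X_none R σ ht, Proj.basicOpen_zero] at this
  exact this

section Coprod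

variable (k : Type u) [Field k] (n m : ℕ)

/-- first block of coordinates. -/
def σ₁ : Fin (n + m + 1 + 1) → Option (Fin (n + 1)) :=
  fun t => if h : t.val < n + 1 then some ⟨t.val, h⟩ else none

/-- second block of coordinates. -/
def σ₂ : Fin (n + m + 1 + 1) → Option (Fin (m + 1)) :=
  fun t => if h : n + 1 ≤ t.val then some ⟨t.val - (n + 1), by omega⟩ else none

theorem σ₁_surj (i : Fin (n + 1)) : ∃ t, σ₁ n m t = some i := by
  refine ⟨⟨i.val, by omega⟩, ?_⟩
  unfold σ₁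
  rw [dif_pos (by exact i.2)]

theorem σ₂_surj (j : Fin (m + 1)) : ∃ t, σ₂ n m t = some j := by
  refine ⟨⟨j.val + (n + 1), by omega⟩, ?_⟩
  unfold σ₂
  rw [dif_pos (by simp)]
  congr 1
  ext
  simp

theorem σ_none (t : Fin (n + m + 1 + 1)) : σ₁ n m t = none ∨ σ₂ n m t = none := by
  unfold σ₁ σ₂
  by_cases h : t.val < n + 1
  · right
    rw [dif_neg (by omega)]
  · left
    rw [dif_neg h]

theorem coprod_embed
    (X₁ X₂ : Scheme.{u}) [X₁.Over (Spec (CommRingCat.of k))] [X₂.Over (Spec (CommRingCat.of k))]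
    (i₁ : X₁ ⟶ CohB1.ProjSpace n k) [IsClosedImmersion i₁]
    (h₁ : i₁ ≫ CohB1.ProjSpace.toSpec n k = X₁ ↘ (Spec (CommRingCat.of k)))
    (i₂ : X₂ ⟶ CohB1.ProjSpace m k) [IsClosedImmersion i₂]
    (h₂ : i₂ ≫ CohB1.ProjSpace.toSpec m k = X₂ ↘ (Spec (CommRingCat.of k))) :
    ∃ j : X₁ ⨿ X₂ ⟶ CohB1.ProjSpace (n + m + 1) k, IsClosedImmersion j ∧
      j ≫ CohB1.ProjSpace.toSpec (n + m + 1) k =
        coprod.desc (X₁ ↘ (Spec (CommRingCat.of k))) (X₂ ↘ (Spec (CommRingCat.of k))) := by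
  obtain ⟨a, ha, hab, ha0⟩ := exists_linEmb k (σ₁ n m) (σ₁_surj n m)
  obtain ⟨b, hb, hbb, hb0⟩ := exists_linEmb k (σ₂ n m) (σ₂_surj n m)
  haveI := ha
  haveI := hb
  haveI : IsClosedImmersion (i₁ ≫ a) := inferInstance
  haveI : IsClosedImmersion (i₂ ≫ b) := inferInstance
  refine ⟨coprod.desc (i₁ ≫ a) (i₂ ≫ b), ?_, ?_⟩
  · refine Groth.Agent.Lib.T2H6.CoprodImm.isClosedImmersion_coprod_desc _ _ ?_
    intro x₁ x₂ heq
    obtain ⟨t, ht⟩ := D_cover k (n + m + 1) ((i₁ ≫ a) x₁)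
    rcases σ_none n m t with h | h
    · have h1 : i₁ x₁ ∈ a ⁻¹ᵁ D k (n + m + 1) t := by
        change a (i₁ x₁) ∈ D k (n + m + 1) t
        rw [← Scheme.Hom.comp_apply]; exact ht
      rw [ha0 t h] at h1
      exact h1
    · have h1 : i₂ x₂ ∈ b ⁻¹ᵁ D k (n + m + 1) t := by
        change b (i₂ x₂) ∈ D k (n + m + 1) t
        rw [← Scheme.Hom.comp_apply, ← heq]; exact ht
      rw [hb0 t h] at h1
      exact h1
  · apply coprod.hom_ext
    · rw [coprod.inl_desc_assoc, coprod.inl_desc, Category.assoc, hab, h₁]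
    · rw [coprod.inr_desc_assoc, coprod.inr_desc, Category.assoc, hbb, h₂]

end Coprod

end Groth.Agent.Lib.T2H6.LinEmb
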