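import Mathlib
import Groth.Agent.Lib.T2H6ProperInter

set_option autoImplicit false
universe u
open CategoryTheory CategoryTheory.Limits AlgebraicGeometry TopologicalSpace Opposite

namespace Groth.Agent.Lib.T2H6.LocIntegral

open Groth.Agent.Lib.T2H6.ProperInter

/-- stalks of the target of a flat morphism are domains if those of the source are. -/
theorem isDomain_stalk_of_flat {X Y : Scheme.{u}} (f : X ⟶ Y) [Flat f] (x : X)
    (hx : IsDomain (X.presheaf.stalk x)) : IsDomain (Y.presheaf.stalk (f x)) := by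
  have hflat := Flat.stalkMap f x
  algebraize [(f.stalkMap x).hom]
  haveI : IsLocalHom (algebraMap (Y.presheaf.stalk (f x)) (X.presheaf.stalk x)) :=
    inferInstanceAs (IsLocalHom (f.stalkMap x).hom)
  haveI : Module.FaithfullyFlat (Y.presheaf.stalk (f x)) (X.presheaf.stalk x) :=
    Module.FaithfullyFlat.of_flat_of_isLocalHom
  have hinj : Function.Injective (algebraMap (Y.presheaf.stalk (f x)) (X.presheaf.stalk x)) :=
    FaithfulSMul.algebraMap_injective _ _
  exact hinj.isDomain _

section Unique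

variable {Y : Scheme.{u}}

/-- in a scheme whose stalk at `y` is a domain, all generizations of `y` have a common generization. -/
theorem exists_common_generization (y : Y) (hy : IsDomain (Y.presheaf.stalk y)) :
    ∃ ξ : Y, ∀ η : Y, η ⤳ y → ξ ⤳ η := by
  obtain ⟨_, ⟨V, hV : IsAffineOpen V, rfl⟩, hyV, -⟩ :=
    Y.isBasis_affineOpens.exists_subset_of_mem_open (Set.mem_univ y) isOpen_univ
  letI : Algebra Γ(Y, V) (Y.presheaf.stalk y) :=
    TopCat.Presheaf.algebra_section_stalk Y.presheaf ⟨y, hyV⟩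
  haveI := hV.isLocalization_stalk ⟨y, hyV⟩
  let q : Ideal Γ(Y, V) := RingHom.ker (algebraMap Γ(Y, V) (Y.presheaf.stalk y))
  haveI hq : q.IsPrime := RingHom.ker_isPrime _
  refine ⟨hV.fromSpec ⟨q, hq⟩, fun η hη => ?_⟩
  have hηV : η ∈ V := hη.mem_open V.2 hyV
  rw [specializes_iff hV _ _ (fromSpec_mem' hV _) hηV, primeIdealOf_fromSpec'']
  intro a ha
  change a ∈ RingHom.ker (algebraMap Γ(Y, V) (Y.presheaf.stalk y)) at ha
  rw [RingHom.mem_ker, IsLocalization.map_eq_zero_iff (hV.primeIdealOf ⟨y, hyV⟩).asIdeal.primeCompl] at ha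
  obtain ⟨s, hs⟩ := ha
  have hle := (specializes_iff hV η y hηV hyV).1 hη
  have hsη : (s : Γ(Y, V)) ∉ (hV.primeIdealOf ⟨η, hηV⟩).asIdeal := fun h => s.2 (hle h)
  have : (s : Γ(Y, V)) * a ∈ (hV.primeIdealOf ⟨η, hηV⟩).asIdeal := by rw [hs]; exact zero_mem _
  exact ((hV.primeIdealOf ⟨η, hηV⟩).isPrime.mem_or_mem this).resolve_left hsη

/-- a point with domain stalk lies on exactly one irreducible component. -/
theorem irreducibleComponent_unique (y : Y) (hy : IsDomain (Y.presheaf.stalk y))
    (C : Set Y) (hC : C ∈ irreducibleComponents Y) (hyC : y ∈ C) : C = irreducibleComponent y := by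
  obtain ⟨ξ, hξ⟩ := exists_common_generization y hy
  have key : ∀ D : Set Y, D ∈ irreducibleComponents Y → y ∈ D → D = closure {ξ} := by
    intro D hD hyD
    have hDc : IsClosed D := isClosed_of_mem_irreducibleComponents D hD
    have hη := hD.1.isGenericPoint_genericPoint hDc
    set η := hD.1.genericPoint
    have h1 : ξ ⤳ η := hξ η (hη.specializes hyD)
    have h2 : D ⊆ closure {ξ} := by
      rw [← hη.def]
      exact closure_minimal (Set.singleton_subset_iff.2 h1.mem_closure) isClosed_closure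
    exact le_antisymm h2 (hD.2 isIrreducible_singleton.closure h2)
  rw [key C hC hyC, key _ (irreducibleComponent_mem_irreducibleComponents y) mem_irreducibleComponent]

end Unique

/-- a scheme with Noetherian underlying space and domain stalks is locally integral. -/
theorem exists_integral_nhd (Y : Scheme.{u}) [NoetherianSpace Y]
    (hY : ∀ y : Y, IsDomain (Y.presheaf.stalk y)) (y : Y) :
    ∃ W : Y.Opens, y ∈ W ∧ IsIntegral (W : Scheme.{u}) := by
  set C₀ := irreducibleComponent y with hC₀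
  have hfin : (irreducibleComponents Y \ {C₀}).Finite :=
    (NoetherianSpace.finite_irreducibleComponents (α := Y)).subset Set.sdiff_subset
  set T : Set Y := ⋃ C ∈ (irreducibleComponents Y \ {C₀}), C with hT
  have hTc : IsClosed T :=
    hfin.isClosed_biUnion (fun C hC => isClosed_of_mem_irreducibleComponents C hC.1)
  let W : Y.Opens := ⟨Tᶜ, hTc.isOpen_compl⟩
  have hyW : y ∈ W := by
    change y ∉ T
    intro hyT
    obtain ⟨C, hC, hyC⟩ := Set.mem_iUnion₂.1 hyT
    exact hC.2 (irreducibleComponent_unique y (hY y) C hC.1 hyC)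
  have hWC : (W : Set Y) ⊆ C₀ := by
    intro x hx
    by_contra hxC
    apply hx
    refine Set.mem_iUnion₂.2 ⟨irreducibleComponent x,
      ⟨irreducibleComponent_mem_irreducibleComponents x, ?_⟩, mem_irreducibleComponent⟩
    intro h
    rw [Set.mem_singleton_iff] at h
    exact hxC (h ▸ mem_irreducibleComponent)
  have hirr : IsIrreducible (W : Set Y) :=
    ⟨⟨y, hyW⟩, isIrreducible_irreducibleComponent.isPreirreducible.open_subset W.2 hWC⟩
  refine ⟨W, hyW, ?_⟩
  haveI : IrreducibleSpace (W : Scheme.{u}) := isIrreducible_iff_irreducibleSpace.1 hirr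
  haveI : ∀ w : (W : Scheme.{u}), _root_.IsReduced ((W : Scheme.{u}).presheaf.stalk w) := by
    intro w
    haveI := hY w.1
    have e := (W.stalkIso w).commRingCatIsoToRingEquiv
    haveI : IsDomain ((W : Scheme.{u}).presheaf.stalk w) := e.injective.isDomain e.toRingHom
    infer_instance
  haveI : IsReduced (W : Scheme.{u}) := isReduced_of_isReduced_stalk _
  exact isIntegral_of_irreducibleSpace_of_isReduced _

theorem main {X Y : Scheme.{u}} (f : X ⟶ Y) [Flat f] [Surjective f]
    (hX : ∀ x : X, IsDomain ↑(X.presheaf.stalk x))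
    (hY : ∀ y : Y, ∃ U : Y.Opens, y ∈ U ∧ TopologicalSpace.NoetherianSpace ↥U) (y : Y) :
    ∃ U : Y.Opens, y ∈ U ∧ IsIntegral (U : Scheme.{u}) := by
  obtain ⟨U, hyU, hU⟩ := hY y
  have hdom : ∀ z : Y, IsDomain (Y.presheaf.stalk z) := by
    intro z
    obtain ⟨x, rfl⟩ := f.surjective z
    exact isDomain_stalk_of_flat f x (hX x)
  haveI : NoetherianSpace (U : Scheme.{u}) := hU
  have hdomU : ∀ z : (U : Scheme.{u}), IsDomain ((U : Scheme.{u}).presheaf.stalk z) := by
    intro z
    haveI := hdom z.1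
    exact (U.stalkIso z).commRingCatIsoToRingEquiv.injective.isDomain
      (U.stalkIso z).commRingCatIsoToRingEquiv.toRingHom
  obtain ⟨W, hyW, hW⟩ := exists_integral_nhd (U : Scheme.{u}) hdomU ⟨y, hyU⟩
  refine ⟨U.ι ''ᵁ W, ⟨⟨y, hyU⟩, hyW, rfl⟩, ?_⟩
  haveI := hW
  haveI : Nonempty ((U.ι ''ᵁ W : Y.Opens) : Scheme.{u}) := ⟨⟨y, ⟨⟨y, hyU⟩, hyW, rfl⟩⟩⟩
  exact isIntegral_of_isOpenImmersion (U.ι.isoImage W).inv

end Groth.Agent.Lib.T2H6.LocIntegral
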