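import Groth.Agent.Lib.T2H6ProjQProj
import Groth.Agent.Lib.T2H6VAmpleG
import Groth.Agent.Lib.T2H6HProjChart

/-!
# helper6 (team 2): locally projective morphisms
-/

set_option autoImplicit false
set_option linter.unusedSectionVars false
universe u

open CategoryTheory CategoryTheory.Limits AlgebraicGeometry TopologicalSpace Opposite

namespace Groth.Agent.Lib.T2H6.LocProj

/-- `IsHProjective` is invariant under isomorphisms of arrows. -/
theorem isHProjective_of_arrow_iso {A B A' B' : Scheme.{u}} (g : A ⟶ B) (g' : A' ⟶ B')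
    (α : A' ≅ A) (β : B' ≅ B) (h : g' ≫ β.hom = α.hom ≫ g) (hg : RelProj.IsHProjective g) :
    RelProj.IsHProjective g' := by
  obtain ⟨n, i, hi, hig⟩ := hg
  let γ : CohB1.ProjSpaceOver n B' ⟶ CohB1.ProjSpaceOver n B :=
    pullback.map _ _ _ _ (𝟙 _) β.hom (𝟙 _) (by simp) (specULiftZIsTerminal.hom_ext _ _)
  haveI : IsIso γ := by
    have h0 : IsIso (pullback.map (CohB1.ProjSpace.toSpec n (ULift.{u} ℤ)) (specULiftZIsTerminal.from B')
        (CohB1.ProjSpace.toSpec n (ULift.{u} ℤ)) (specULiftZIsTerminal.from B) (𝟙 _) β.hom (𝟙 _)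
        (by simp) (specULiftZIsTerminal.hom_ext _ _)) := inferInstance
    exact h0
  have hγ : γ ≫ CohB1.ProjSpaceOver.toBase n B = CohB1.ProjSpaceOver.toBase n B' ≫ β.hom :=
    pullback.lift_snd _ _ _
  refine ⟨n, α.hom ≫ i ≫ inv γ, inferInstance, ?_⟩
  have h1 : inv γ ≫ CohB1.ProjSpaceOver.toBase n B' = CohB1.ProjSpaceOver.toBase n B ≫ β.inv := by
    rw [IsIso.inv_comp_eq, ← Category.assoc, hγ, Category.assoc, Iso.hom_inv_id, Category.comp_id]
  rw [Category.assoc, Category.assoc, h1, ← Category.assoc i, hig, ← Category.assoc, ← h,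
    Category.assoc, Iso.hom_inv_id, Category.comp_id]

/-- a projective morphism is H-projective over every affine open of the base. -/
theorem isHProjective_restrict_of_isProjective {X S : Scheme.{u}} (f : X ⟶ S) (hf : RelProj.IsProjective f)
    (V : S.Opens) (hV : IsAffineOpen V) : RelProj.IsHProjective (f ∣_ V) := by
  haveI hprop : IsProper f := Groth.Agent.Lib.T2H6.ProjProper.isProper_of_isProjective f hf
  obtain ⟨hlft, hqc, L, hL⟩ := Groth.Agent.Lib.T2H6.ProjQProj.isQuasiProjective_of_isProjective f hf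
  have hample : CohB1.IsAmple (L.restrict (f ⁻¹ᵁ V).ι) := hL.2 ⟨V, hV⟩
  obtain ⟨n, i, hi, hif⟩ := Groth.Agent.Lib.T2H6.VAmpleG.exists_immersion_of_isAmple (f ∣_ V) _ hample
  have hif' : i ≫ CohB1.ProjSpaceOver.toBase n (V : Scheme.{u}) = f ∣_ V := hif
  haveI hsep : IsProper (CohB1.ProjSpaceOver.toBase n (V : Scheme.{u})) :=
    Groth.Agent.S9705.isProper_toBase n _
  haveI : IsProper (i ≫ CohB1.ProjSpaceOver.toBase n (V : Scheme.{u})) := by rw [hif']; infer_instance
  haveI : IsProper i := IsProper.of_comp i (CohB1.ProjSpaceOver.toBase n (V : Scheme.{u}))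
  exact ⟨n, i, (IsClosedImmersion.iff_isProper_and_mono _).mpr ⟨inferInstance, inferInstance⟩, hif'⟩

/-- **locally projective ⟺ locally H-projective.** -/
theorem isLocallyProjective_iff {X S : Scheme.{u}} (f : X ⟶ S) :
    RelProj.IsLocallyProjective f ↔ ∀ s : S, ∃ U : S.Opens, s ∈ U ∧ RelProj.IsHProjective (f ∣_ U) := by
  constructor
  · intro hf s
    obtain ⟨U, hsU, hU⟩ := hf s
    -- an affine open of `U` containing `s`
    obtain ⟨V, hV, hsV, -⟩ := exists_isAffineOpen_mem_and_subset (X := (U : Scheme.{u})) (x := ⟨s, hsU⟩)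
      (U := ⊤) trivial
    refine ⟨U.ι ''ᵁ V, ⟨⟨s, hsU⟩, hsV, rfl⟩, ?_⟩
    have h1 := isHProjective_restrict_of_isProjective (f ∣_ U) hU V hV
    let e := morphismRestrictRestrict f U V
    refine isHProjective_of_arrow_iso (f ∣_ U ∣_ V) (f ∣_ U.ι ''ᵁ V) (Arrow.leftFunc.mapIso e.symm)
      (Arrow.rightFunc.mapIso e.symm) ?_ h1
    exact (e.inv.w).symm
  · intro hf s
    obtain ⟨U, hsU, n, i, hi, hiU⟩ := hf s
    refine ⟨U, hsU, ?_⟩
    rw [← hiU]
    exact Groth.Agent.Lib.T2H6.HProjChart.isProjective i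

end Groth.Agent.Lib.T2H6.LocProj
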