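-- helper6 (team 2): descent of properties smooth local on source-and-target and fppf local on the
-- base along flat, locally finitely presented, surjective base change.
import Mathlib
import Groth.Agent.Lib.T2H6FppfChart

set_option autoImplicit false
set_option backward.isDefEq.respectTransparency false
set_option backward.isDefEq.respectTransparency.types false
open CategoryTheory CategoryTheory.Functor CategoryTheory.Limits Opposite AlgebraicGeometry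

universe u

namespace Groth.Agent.Lib.T2H6.LocQFppf

open Groth.Agent.Lib.Helper17 Groth.Agent.Lib.Helper15PshFib Groth.Agent.Lib.Helper15RepComp
  Groth.Agent.Lib.Helper15RepPsh Groth.Agent.Lib.Helper15DiagBase Groth.Agent.Lib.Helper15DiagRepSp
  Groth.Agent.Lib.Helper15Descent Groth.Agent.Lib.Helper15DiagLft
  Groth.Agent.Lib.Helper15DiagDescent Groth.Agent.Lib.Helper15SpMapRep
  Groth.Agent.Lib.Helper15SrcCancel Groth.Agent.Lib.Helper15ChartSp Groth.Agent.Lib.Helper15Atlas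
  Groth.Agent.Lib.Helper15LocEss Groth.Agent.Lib.Helper15UnivComp Groth.Agent.Lib.Helper15SmLoc
  Groth.Agent.Lib.Helper15PtsComp Groth.Agent.Lib.Helper15PtsTop Groth.Agent.Lib.Helper15PtsQc
  Groth.Agent.Lib.Helper15FpSwap Groth.Agent.Lib.Helper15QcLocal Groth.Agent.Lib.Helper15ClosedQc
  Groth.Agent.Lib.Helper15UnivPts Groth.Agent.Lib.Helper15BaseChange
  Groth.Agent.Lib.Helper15BaseChange2
  Groth.Agent.Lib.Helper15MonoSep Groth.Agent.Lib.Helper15QcRep Groth.Agent.Lib.Helper15LocQ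
  Groth.Agent.Lib.Helper15LocQEngine Groth.Agent.Lib.Helper15LocQComp

section Retract

variable {S : Scheme.{u}} {𝒳 𝒴 𝒵 𝒯 : AlgSt.Cat S} (f : 𝒳 ⥤ᵇ 𝒴) (z : 𝒵 ⥤ᵇ 𝒴) (t : 𝒯 ⥤ᵇ 𝒵)

/-- the comparison `(𝒵 ×_𝒴 𝒳) ×_𝒵 𝒯 ⟶ 𝒯 ×_𝒴 𝒳` -/
noncomputable def toD : FibCat.fp (FibCat.fpFst z f) t ⥤ᵇ FibCat.fp (BasedFunctor.comp t z) f :=
  BasedFunctor.comp (fpSwap (FibCat.fpFst z f) t) (pasteL f z t)

theorem isEquivOver_toD : FibCat.IsEquivOver (toD f z t) :=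
  IsEquivOver.comp _ _ (isEquivOver_fpSwap _ _) (isEquivOver_pasteL f z t)

/-- a functor in the other direction -/
noncomputable def fromD : FibCat.fp (BasedFunctor.comp t z) f ⥤ᵇ FibCat.fp (FibCat.fpFst z f) t :=
  FibCat.fpLift (F := FibCat.fpFst z f) (G := t) (fpMapLeft t z f)
    (FibCat.fpFst (BasedFunctor.comp t z) f) (Iso.refl _)

noncomputable def fromDToDIso :
    BasedFunctor.comp (fromD f z t) (toD f z t) ≅ BasedFunctor.id _ :=
  fpIsoMk (BasedFunctor.comp t z) f (H := BasedFunctor.comp (fromD f z t) (toD f z t))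
    (K := BasedFunctor.id _) (Iso.refl _) (Iso.refl _) (fun a => by
      change (BasedFunctor.comp t z).map (𝟙 _) ≫ a.obj.iso.hom =
        (z.map (𝟙 _) ≫ (𝟙 _ ≫ (BasedFunctor.id 𝒴).map a.obj.iso.hom ≫ 𝟙 _)) ≫ f.map (𝟙 _)
      rw [(BasedFunctor.comp t z).toFunctor.map_id, z.toFunctor.map_id, f.toFunctor.map_id]
      change _ = (𝟙 _ ≫ (𝟙 _ ≫ a.obj.iso.hom ≫ 𝟙 _)) ≫ 𝟙 _
      simp)

end Retract

section MapRight

variable {S : Scheme.{u}} {𝒞 ℬ 𝒬 𝒰 : AlgSt.Cat S} (c : 𝒞 ⥤ᵇ ℬ) (q : 𝒬 ⥤ᵇ ℬ) (ℓ : 𝒰 ⥤ᵇ 𝒬)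

/-- The functor `𝒞 ×_ℬ 𝒰 ⟶ 𝒞 ×_ℬ 𝒬` induced by `ℓ : 𝒰 ⟶ 𝒬`. -/
noncomputable def fpMapRight :
    FibCat.fp c (BasedFunctor.comp ℓ q) ⥤ᵇ FibCat.fp c q :=
  fpMap c q c (BasedFunctor.comp ℓ q) (BasedFunctor.id 𝒞) ℓ (BasedFunctor.id ℬ)
    (Iso.refl _) (Iso.refl _)

noncomputable def fpMapRightSqIso :
    BasedFunctor.comp (fpMapLeft ℓ q c) (fpSwap q c) ≅
      BasedFunctor.comp (fpSwap (BasedFunctor.comp ℓ q) c) (fpMapRight c q ℓ) :=
  fpIsoMk c q (H := BasedFunctor.comp (fpMapLeft ℓ q c) (fpSwap q c))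
    (K := BasedFunctor.comp (fpSwap (BasedFunctor.comp ℓ q) c) (fpMapRight c q ℓ))
    (Iso.refl _) (Iso.refl _) (fun a => by
      have hX : ((fpMapLeft ℓ q c).obj a).obj.iso = a.obj.iso := by
        apply Iso.ext
        change 𝟙 _ ≫ (BasedFunctor.id ℬ).map a.obj.iso.hom ≫ 𝟙 _ = _
        rw [Category.id_comp, Category.comp_id]
        rfl
      have hK : (((fpSwap (BasedFunctor.comp ℓ q) c).comp (fpMapRight c q ℓ)).obj a).obj.iso.hom =
          a.obj.iso.inv := by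
        change 𝟙 _ ≫ (BasedFunctor.id ℬ).map a.obj.iso.inv ≫ 𝟙 _ = _
        rw [Category.id_comp, Category.comp_id]
        rfl
      have hH : (((fpMapLeft ℓ q c).comp (fpSwap q c)).obj a).obj.iso.hom =
          ((fpMapLeft ℓ q c).obj a).obj.iso.inv := rfl
      rw [hK, hH, hX]
      change c.map (𝟙 _) ≫ _ = _ ≫ q.map (𝟙 _)
      rw [c.toFunctor.map_id, q.toFunctor.map_id, Category.id_comp, Category.comp_id])

theorem repByAlgSpWith_fpMapRight (Q : MorphismProperty (AlgSp.Sp S))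
    (hℓ : AlgSt.RepByAlgSpWith Q ℓ) : AlgSt.RepByAlgSpWith Q (fpMapRight c q ℓ) :=
  (repByAlgSpWith_of_square Q (fpMapRight c q ℓ) (fpMapLeft ℓ q c)
    (fpSwap (BasedFunctor.comp ℓ q) c) (fpSwap q c) (isEquivOver_fpSwap _ _)
    (isEquivOver_fpSwap _ _) (fpMapRightSqIso c q ℓ)).2 (repByAlgSpWith_fpMapLeft Q ℓ q c hℓ)

end MapRight

section Schemes

variable {S : Scheme.{u}}

theorem spMapOfOver_toOverCat (U : Over S) :
    AlgSt.spMapOfOver (AlgSt.toOverCat U) = 𝟙 ((AlgSp.yon S).obj U) := by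
  apply ObjectProperty.hom_ext
  apply NatTrans.ext
  funext T
  ext x
  change (⟨AlgSt.secHom (AlgSt.toOverCat U) ⟨T.unop, x⟩⟩ : ULift _) = _
  apply ULift.ext
  simp [AlgSt.secHom, AlgSt.toOverCat]

/-- Descent along one flat, locally finitely presented, surjective morphism of schemes for a
functor between slices, read on a representing space of the base change. -/
theorem prop_yon_of_baseChange (P : MorphismProperty (AlgSp.Sp S))
    (hP₂ : AlgSp.IsLocalOnBase AlgSp.IsFppfCover P) {U V V' : Over S}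
    (f₀ : FibCat.overCat U ⥤ᵇ FibCat.overCat V) (h : U ⟶ V) (lam : f₀ ≅ AlgSt.overMap h)
    (k : V' ⟶ V) (hk₁ : Flat k.left) (hk₂ : LocallyOfFinitePresentation k.left)
    (hk₃ : Function.Surjective k.left) (X' : AlgSp.Space S)
    (e' : AlgSt.ofSp X'.obj ⥤ᵇ FibCat.fp (AlgSt.overMap k) f₀) (he' : FibCat.IsEquivOver e')
    (hπ : P (AlgSt.spMapOfOver (BasedFunctor.comp e' (FibCat.fpFst (AlgSt.overMap k) f₀)))) :
    P ((AlgSp.yon S).map h) := by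
  have hsnd : FibCat.IsEquivOver (FibCat.fpSnd (BasedFunctor.id (FibCat.overCat V)) f₀) :=
    isEquivOver_fpSnd (BasedFunctor.id (FibCat.overCat V)) f₀ (isEquivOver_id _)
  obtain ⟨E', hE', -, ⟨η⟩⟩ := IsEquivOver.exists_inverse_isEquivOver' _ hsnd
  let UU : AlgSp.Space S := ⟨(AlgSp.yon S).obj U, AlgSp.IsAlgSpace.yon_obj U⟩
  let e : AlgSt.ofSp UU.obj ⥤ᵇ FibCat.fp (BasedFunctor.id (FibCat.overCat V)) f₀ :=
    BasedFunctor.comp (AlgSt.toOverCat U) E'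
  have he : FibCat.IsEquivOver e := IsEquivOver.comp _ _ (isEquivOver_toOverCat U) hE'
  have key := prop_of_baseChange_family P hP₂ f₀ (BasedFunctor.id (FibCat.overCat V)) UU e he
    (fun _ : PUnit.{u + 1} => V') (fun _ => k)
    (isFppfCover_of_schemes _ _ (fun _ => hk₁) (fun _ => hk₂) (fun x => ⟨PUnit.unit, hk₃ x⟩))
    (fun _ => AlgSt.overMap k) (fun _ => Iso.refl _) (fun _ => X') (fun _ => e') (fun _ => he')
    (fun _ => hπ)
  let i : BasedFunctor.comp e (FibCat.fpFst (BasedFunctor.id (FibCat.overCat V)) f₀) ≅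
      BasedFunctor.comp (AlgSt.toOverCat U) (AlgSt.overMap h) :=
    (whiskerLeftIso e (FibCat.fpIso (BasedFunctor.id (FibCat.overCat V)) f₀) :
      BasedFunctor.comp e (FibCat.fpFst (BasedFunctor.id (FibCat.overCat V)) f₀) ≅
        BasedFunctor.comp (AlgSt.toOverCat U) (BasedFunctor.comp
          (BasedFunctor.comp E' (FibCat.fpSnd (BasedFunctor.id (FibCat.overCat V)) f₀)) f₀)) ≪≫
    whiskerLeftIso (AlgSt.toOverCat U) (whiskerRightIso η f₀ ≪≫ lam)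
  rw [spMapOfOver_eq_of_iso _ _ i, spMapOfOver_comp_overMap, spMapOfOver_toOverCat,
    Category.id_comp] at key
  exact key

end Schemes

section Main

variable {S : Scheme.{u}} {𝒳 𝒴 𝒵 : AlgSt.Cat S}

open Groth.Agent.Lib.Helper15LocQProps Groth.Agent.Lib.Helper15LocQSpace
  Groth.Agent.Lib.Helper15LocQRep Groth.Agent.Lib.T2H6.FlatComp

theorem locQ_of_fpFst_fppf (P : MorphismProperty (AlgSp.Sp S)) (hP : AlgSp.IsSmoothLocalST P)
    (hP₂ : AlgSp.IsLocalOnBase AlgSp.IsFppfCover P)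
    (h𝒳 : AlgSt.IsAlgStack Scheme.fppfPrecoverage 𝒳)
    (h𝒴 : AlgSt.IsAlgStack Scheme.fppfPrecoverage 𝒴)
    (h𝒵 : AlgSt.IsAlgStack Scheme.fppfPrecoverage 𝒵) (f : 𝒳 ⥤ᵇ 𝒴) (z : 𝒵 ⥤ᵇ 𝒴)
    (hz₁ : AlgSt.LocQ (AlgSp.LocP @Flat) z)
    (hz₂ : AlgSt.LocQ (AlgSp.LocP @LocallyOfFinitePresentation) z)
    (hz₃ : AlgSt.IsSurjective z)
    (hL : AlgSt.LocQ P (FibCat.fpFst z f)) : AlgSt.LocQ P f := by
  have hpre𝒴 := IsStack.isPrestack _ h𝒴.isStack
  obtain ⟨V, y, hy₁, hy₂⟩ := h𝒴.atlas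
  have hV : FibCat.IsFibGrpd (FibCat.overCat V).p := (isFibSet_overForget V).1
  have h𝒬 : AlgSt.IsAlgStack Scheme.fppfPrecoverage (FibCat.fp y f) :=
    isAlgStack_fp_of_isPrestack hpre𝒴 h𝒴.diag (isAlgStack_overCat V) h𝒳 y f
  obtain ⟨U, ℓ, hℓ₁, hℓ₂⟩ := h𝒬.atlas
  have hU : FibCat.IsFibGrpd (FibCat.overCat U).p := (isFibSet_overForget U).1
  obtain ⟨h, ⟨lam⟩⟩ := exists_iso_overMap (BasedFunctor.comp ℓ (FibCat.fpFst y f))
  let x : FibCat.overCat U ⥤ᵇ 𝒳 := BasedFunctor.comp ℓ (FibCat.fpSnd y f)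
  have hx₁ : AlgSt.RepByAlgSpWith (AlgSp.LocP @Smooth) x :=
    repByAlgSpWith_comp_of_compCond hU h𝒬.isStack.1 _ compCond_smooth ℓ (FibCat.fpSnd y f) hℓ₁
      (repByAlgSpWith_fpSnd _ y f hy₁)
  have hx₂ : AlgSt.RepByAlgSpWith AlgSp.IsSurjectiveMor x :=
    repByAlgSpWith_comp_of_compCond hU h𝒬.isStack.1 _ compCond_isSurjectiveMor ℓ
      (FibCat.fpSnd y f) hℓ₂ (repByAlgSpWith_fpSnd _ y f hy₂)
  let α : BasedFunctor.comp x f ≅ BasedFunctor.comp (AlgSt.overMap h) y :=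
    (whiskerLeftIso ℓ (FibCat.fpIso y f)).symm ≪≫ whiskerRightIso lam y
  refine ⟨U, V, x, y, h, α, hx₁, hx₂, hy₁, ?_⟩
  -- the chart square of `z`
  obtain ⟨V', y', k, β, hm₁, hm₂, hy'₁, hy'₂⟩ := exists_good_square_over h𝒵 h𝒴 z y
  have hy's := hy'₁ hy₁
  have hk₁ : Flat k.left := AlgSp.locP_yon_map
    ((locQ_iff_forall_good _ isSmoothLocalST_flat h𝒵 h𝒴 z).1 hz₁ V' V y' y k β hy's hy₁ hm₁)
  have hk₂ : LocallyOfFinitePresentation k.left := AlgSp.locP_yon_map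
    ((locQ_iff_forall_good _ isSmoothLocalST_lfp h𝒵 h𝒴 z).1 hz₂ V' V y' y k β hy's hy₁ hm₁)
  have hk₃ : Function.Surjective k.left := surjective_left_of_square h𝒵 h𝒴 z hz₃ y' y k β hm₂
  -- the base change `X' = V' ×_V U`
  obtain ⟨X', e', he'⟩ := repByAlgSp1_of_repByAlgSp1_diag (isAlgStack_overCat V).diag U
    (BasedFunctor.comp ℓ (FibCat.fpFst y f)) V' (AlgSt.overMap k)
  refine prop_yon_of_baseChange P hP₂ (BasedFunctor.comp ℓ (FibCat.fpFst y f)) h lam k hk₁ hk₂ hk₃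
    X' e' he' ?_
  -- an etale chart of `X'`
  obtain ⟨X'', s, hse, hss⟩ := X'.property.atlas
  obtain ⟨h'', hh''⟩ := (AlgSp.yon S).map_surjective (s ≫ AlgSt.spMapOfOver
    (BasedFunctor.comp e' (FibCat.fpFst (AlgSt.overMap k) (BasedFunctor.comp ℓ (FibCat.fpFst y f)))))
  suffices hPh : P ((AlgSp.yon S).map h'') by
    rw [hh''] at hPh
    let XX : AlgSp.Space S := ⟨(AlgSp.yon S).obj X'', AlgSp.IsAlgSpace.yon_obj X''⟩
    have hcov : AlgSp.IsSmCover (fun _ : PUnit.{u + 1} => (AlgSp.yon S).obj X'') (fun _ => s) :=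
      ⟨fun _ => locP_smooth_of_repWith_etale (X := XX) (Y := X') s hse, fun p => by
        obtain ⟨q, hq⟩ := isSurjectiveMor_atlas X' s hse hss p
        exact ⟨PUnit.unit, q, hq⟩⟩
    exact ((Groth.Agent.S10565.result hP).1 (fun _ : PUnit.{u + 1} => (AlgSp.yon S).obj X'')
      (fun _ => s) X'.property (fun _ => AlgSp.IsAlgSpace.yon_obj X'') hcov _
      (AlgSp.IsAlgSpace.yon_obj V')).2 (fun _ => hPh)
  have hW : AlgSt.IsAlgStack Scheme.fppfPrecoverage (FibCat.fp z f) :=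
    isAlgStack_fp_of_isPrestack hpre𝒴 h𝒴.diag h𝒵 h𝒳 z f
  have hX'' : FibCat.IsFibGrpd (FibCat.overCat X'').p := (isFibSet_overForget X'').1
  have hV' : FibCat.IsFibGrpd (FibCat.overCat V').p := (isFibSet_overForget V').1
  have hX' : FibCat.IsFibGrpd (AlgSt.ofSp X'.obj).p := (isFibSetoid_ofPsh X'.obj.obj).1
  have h𝒟 : FibCat.IsFibGrpd (FibCat.fp (FibCat.fpFst z f) y').p :=
    isFibGrpd_fp (FibCat.fpFst z f) y' hW.isStack.1 hV' h𝒵.isStack.1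
  let A : FibCat.overCat X'' ⥤ᵇ AlgSt.ofSp X'.obj :=
    BasedFunctor.comp (AlgSt.ofOverCat X'') (AlgSt.ofSpMap s)
  have hA : AlgSt.RepByAlgSpWith (AlgSp.LocP @Smooth) A :=
    repByAlgSpWith_etale_chart _ (fun X T t ht => locP_smooth_of_repWith_etale (X := X)
      (Y := ⟨(AlgSp.yon S).obj T, AlgSp.IsAlgSpace.yon_obj T⟩) t ht) X' s hse
  -- the comparison functor to `(𝒵 ×_𝒴 𝒳) ×_𝒵 V'`
  let Λ₁ := fpMapRight (AlgSt.overMap k) (FibCat.fpFst y f) ℓ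
  have hΛ₁ : AlgSt.RepByAlgSpWith (AlgSp.LocP @Smooth) Λ₁ :=
    repByAlgSpWith_fpMapRight (AlgSt.overMap k) (FibCat.fpFst y f) ℓ _ hℓ₁
  let Λ₂ := pasteL f y (AlgSt.overMap k)
  have hΛ₂ : FibCat.IsEquivOver Λ₂ := isEquivOver_pasteL f y (AlgSt.overMap k)
  have i1 : (BasedFunctor.id 𝒴).toFunctor.Full := inferInstanceAs (𝟭 _).Full
  have i2 : (BasedFunctor.id 𝒴).toFunctor.Faithful := inferInstanceAs (𝟭 _).Faithful
  let Λ₃ : FibCat.fp (BasedFunctor.comp (AlgSt.overMap k) y) f ⥤ᵇ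
      FibCat.fp (BasedFunctor.comp y' z) f :=
    fpMap (BasedFunctor.comp y' z) f (BasedFunctor.comp (AlgSt.overMap k) y) f
      (BasedFunctor.id _) (BasedFunctor.id _) (BasedFunctor.id 𝒴) β.symm (Iso.refl _)
  have hΛ₃ : FibCat.IsEquivOver Λ₃ :=
    isEquivOver_fpMap (BasedFunctor.comp y' z) f (BasedFunctor.comp (AlgSt.overMap k) y) f
      (BasedFunctor.id _) (BasedFunctor.id _) (BasedFunctor.id 𝒴) β.symm (Iso.refl _)
      (isEquivOver_id _) (isEquivOver_id _)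
  let Λ₄ := fromD f z y'
  let Λ₁₂ := BasedFunctor.comp Λ₁ Λ₂
  have hΛ₁₂ : AlgSt.RepByAlgSpWith (AlgSp.LocP @Smooth) Λ₁₂ :=
    (repByAlgSpWith_of_square _ Λ₁₂ Λ₁ (BasedFunctor.id _) Λ₂ (isEquivOver_id _) hΛ₂
      (Iso.refl _)).2 hΛ₁
  let Λ₁₃ := BasedFunctor.comp Λ₁₂ Λ₃
  have hΛ₁₃ : AlgSt.RepByAlgSpWith (AlgSp.LocP @Smooth) Λ₁₃ :=
    (repByAlgSpWith_of_square _ Λ₁₃ Λ₁₂ (BasedFunctor.id _) Λ₃ (isEquivOver_id _) hΛ₃
      (Iso.refl _)).2 hΛ₁₂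
  let Λ := BasedFunctor.comp Λ₁₃ Λ₄
  have hΛ : AlgSt.RepByAlgSpWith (AlgSp.LocP @Smooth) Λ :=
    (repByAlgSpWith_of_square _ Λ₁₃ Λ (BasedFunctor.id _) (toD f z y') (isEquivOver_id _)
      (isEquivOver_toD f z y') (whiskerLeftIso Λ₁₃ (fromDToDIso f z y'))).1 hΛ₁₃
  have he'Λ : AlgSt.RepByAlgSpWith (AlgSp.LocP @Smooth) (BasedFunctor.comp e' Λ) :=
    (repByAlgSpWith_of_square _ Λ (BasedFunctor.comp e' Λ) e' (BasedFunctor.id _) he'
      (isEquivOver_id _) (Iso.refl _)).1 hΛ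
  let Λ'' : FibCat.overCat X'' ⥤ᵇ FibCat.fp (FibCat.fpFst z f) y' :=
    BasedFunctor.comp A (BasedFunctor.comp e' Λ)
  have hΛ'' : AlgSt.RepByAlgSpWith (AlgSp.LocP @Smooth) Λ'' :=
    repByAlgSpWith_comp_of_compCond hX'' hX' _ compCond_smooth A _ hA he'Λ
  let xW : FibCat.overCat X'' ⥤ᵇ FibCat.fp z f :=
    BasedFunctor.comp Λ'' (FibCat.fpFst (FibCat.fpFst z f) y')
  have hxW : AlgSt.RepByAlgSpWith (AlgSp.LocP @Smooth) xW :=
    repByAlgSpWith_comp_of_compCond hX'' h𝒟 _ compCond_smooth Λ'' _ hΛ''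
      (repByAlgSpWith_fpFst _ y' (FibCat.fpFst z f) hy's)
  let Ψ : AlgSt.ofSp X'.obj ⥤ᵇ FibCat.overCat V' :=
    BasedFunctor.comp e' (BasedFunctor.comp Λ (FibCat.fpSnd (FibCat.fpFst z f) y'))
  have hΨ : AlgSt.spMapOfOver Ψ = AlgSt.spMapOfOver (BasedFunctor.comp e'
      (FibCat.fpFst (AlgSt.overMap k) (BasedFunctor.comp ℓ (FibCat.fpFst y f)))) :=
    spMapOfOver_eq_of_iso _ _ (Iso.refl _)
  have hh2 : (AlgSp.yon S).map h'' = s ≫ AlgSt.spMapOfOver Ψ := by rw [hΨ]; exact hh''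
  let lam'' : BasedFunctor.comp Λ'' (FibCat.fpSnd (FibCat.fpFst z f) y') ≅ AlgSt.overMap h'' :=
    isoOverMapOfChart Ψ s h'' hh2
  let αW : BasedFunctor.comp xW (FibCat.fpFst z f) ≅ BasedFunctor.comp (AlgSt.overMap h'') y' :=
    (whiskerLeftIso Λ'' (FibCat.fpIso (FibCat.fpFst z f) y') : BasedFunctor.comp xW (FibCat.fpFst z f) ≅
      BasedFunctor.comp (BasedFunctor.comp Λ'' (FibCat.fpSnd (FibCat.fpFst z f) y')) y') ≪≫
    whiskerRightIso lam'' y'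
  have i : Λ'' ≅ FibCat.fpLift xW (AlgSt.overMap h'') αW :=
    fpIsoMk (FibCat.fpFst z f) y' (H := Λ'') (K := FibCat.fpLift xW (AlgSt.overMap h'') αW)
      (Iso.refl _) lam''
      (fun a => by
        change (FibCat.fpFst z f).map (𝟙 _) ≫ ((Λ''.obj a).obj.iso.hom ≫
          y'.map (lam''.hom.toNatTrans.app a)) = _
        rw [(FibCat.fpFst z f).toFunctor.map_id, Category.id_comp])
  exact (locQ_iff_forall_good P hP hW h𝒵 (FibCat.fpFst z f)).1 hL X'' V' xW y' h'' αW hxW hy's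
    (repByAlgSpWith_of_iso _ i hΛ'')

end Main

end Groth.Agent.Lib.T2H6.LocQFppf
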