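-- helper6 (team 2): algebraicity of the source of a functor all of whose base changes to schemes
-- are algebraic (diagonal and atlases), independently of the topology.
import Mathlib
import Groth.Agent.Lib.T2H6EtAtlas
import Groth.Agent.Lib.T2H6DiagSect
import Groth.Agent.Lib.Helper15DiagComp2
import Groth.Agent.Lib.Helper15QsComp

set_option autoImplicit false
set_option backward.isDefEq.respectTransparency false
set_option backward.isDefEq.respectTransparency.types false
open CategoryTheory CategoryTheory.Functor CategoryTheory.Limits AlgebraicGeometry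

universe u

namespace Groth.Agent.Lib.T2H6.LocalAlg

open Groth.Agent.Lib.Helper17 Groth.Agent.Lib.Helper15RepComp Groth.Agent.Lib.Helper15Atlas
  Groth.Agent.Lib.Helper15DiagRepSp Groth.Agent.Lib.Helper15DiagOfComp
  Groth.Agent.Lib.Helper15QsComp

variable {S : Scheme.{u}} {𝒳 𝒴 : AlgSt.Cat S}

theorem compCond_top : CompCond (⊤ : MorphismProperty (AlgSp.Sp S)) :=
  fun _ _ _ _ _ _ _ _ _ => trivial

/-- The diagonal of a slice over the base, and the diagonal of that diagonal, are representable by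
algebraic spaces. -/
theorem repByAlgSp1_diag_diag_overCat (T : Over S) :
    AlgSt.RepByAlgSp1 (FibCat.diag (FibCat.diag (FibCat.toSelf (FibCat.overCat T)))) := by
  have hT : AlgSt.IsAlgStack Scheme.fppfPrecoverage (FibCat.overCat T) :=
    (isDM_of_repByAlgSp (repByAlgSp_overCat T)).1
  have hTf : FibCat.IsFibGrpd (FibCat.overCat T).p := (isFibSet_overForget T).1
  exact repByAlgSp1_diag_of_diag _ hT.diag
    (repByAlgSp1_diag_toSelf_fp hTf hTf (isFibGrpd_selfOver _) hT.diag hT.diag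
      repByAlgSp1_diag_selfOver _ _)

/-- If the target has a diagonal representable by algebraic spaces and so do all base changes of
the source to schemes, the source has a diagonal representable by algebraic spaces. -/
theorem repByAlgSp1_diag_toSelf_of_forall_fp (h𝒳 : FibCat.IsFibGrpd 𝒳.p)
    (h𝒴 : FibCat.IsFibGrpd 𝒴.p) (hY : AlgSt.RepByAlgSp1 (FibCat.diag (FibCat.toSelf 𝒴)))
    (f : 𝒳 ⥤ᵇ 𝒴)
    (hf : ∀ (U : Over S) (g : FibCat.overCat U ⥤ᵇ 𝒴),
      AlgSt.RepByAlgSp1 (FibCat.diag (FibCat.toSelf (FibCat.fp g f)))) :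
    AlgSt.RepByAlgSp1 (FibCat.diag (FibCat.toSelf 𝒳)) := by
  have hΔf : AlgSt.RepByAlgSpWith (⊤ : MorphismProperty (AlgSp.Sp S)) (FibCat.diag f) := by
    apply Groth.Agent.Lib.T2H6.DiagSect.repByAlgSpWith_diag_of_forall_fpFst
    intro T y
    have hTf : FibCat.IsFibGrpd (FibCat.overCat T).p := (isFibSet_overForget T).1
    have h1 : AlgSt.RepByAlgSpWith (⊤ : MorphismProperty (AlgSp.Sp S))
        (FibCat.diag (BasedFunctor.comp (FibCat.fpFst y f) (FibCat.toSelf (FibCat.overCat T)))) := by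
      rw [comp_toSelf]
      exact (repByAlgSpWith_top_iff _).2 (hf T y)
    exact repByAlgSpWith_diag_of_comp (isFibGrpd_fp y f hTf h𝒳 h𝒴) hTf (isFibGrpd_selfOver _) ⊤
      compCond_top (FibCat.fpFst y f) (FibCat.toSelf (FibCat.overCat T))
      ((repByAlgSpWith_top_iff _).2 (repByAlgSp1_diag_diag_overCat T)) h1
  have hΔ := Groth.Agent.Lib.Helper15DiagComp.repByAlgSpWith_diag_comp_of_compCond h𝒳 h𝒴 ⊤
    compCond_top f (FibCat.toSelf 𝒴) hΔf ((repByAlgSpWith_top_iff _).2 hY)
  rw [comp_toSelf] at hΔ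
  exact (repByAlgSpWith_top_iff _).1 hΔ

/-- An atlas of the source from an atlas of the target and atlases of the base changes. -/
theorem hasAtlas_of_forall_fp (Q : MorphismProperty (AlgSp.Sp S)) (hQ : CompCond Q)
    (h𝒳 : FibCat.IsFibGrpd 𝒳.p) (h𝒴 : FibCat.IsFibGrpd 𝒴.p) (hY : AlgSt.HasAtlas Q 𝒴)
    (f : 𝒳 ⥤ᵇ 𝒴)
    (hf : ∀ (U : Over S) (g : FibCat.overCat U ⥤ᵇ 𝒴), AlgSt.HasAtlas Q (FibCat.fp g f)) :
    AlgSt.HasAtlas Q 𝒳 := by
  obtain ⟨V, y, hy₁, hy₂⟩ := hY
  have hVf : FibCat.IsFibGrpd (FibCat.overCat V).p := (isFibSet_overForget V).1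
  exact Groth.Agent.Lib.T2H6.EtAtlas.hasAtlas_of_cover' Q hQ (isFibGrpd_fp y f hVf h𝒳 h𝒴)
    (FibCat.fpSnd y f) (repByAlgSpWith_fpSnd _ y f hy₁) (repByAlgSpWith_fpSnd _ y f hy₂) (hf V y)

theorem compCond_isEtaleMor : CompCond (AlgSp.IsEtaleMor (S := S)) :=
  Groth.Agent.S12780.Aux.compCond_of_local _
    (fun _ _ _ _ _ _ a b ha hb U φ hφ => by
      have := hb (φ ≫ a) (ha φ hφ)
      simpa using this)
    (Groth.Agent.Lib.Helper15DiagDescent.isLocalOnBase_fppf_of_fpqc _ (Groth.Agent.S10544.result S))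

end Groth.Agent.Lib.T2H6.LocalAlg
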