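-- helper6 (team 2): the localization of modulus pairs at the abstract admissible blow-ups has finite
-- limits.
import Mathlib
import Groth.Prelude.Def_BlowUp2
import Groth.Prelude.Def_W4c6modpairsegaMP
import Groth.Agent.Lib.Helper20BlowUp
import Groth.Agent.Lib.T2H6ModulusAmb
import Groth.Agent.Lib.T2H6AmbProd
import Groth.Agent.Lib.T2H6AmbProdPullback

set_option autoImplicit false
set_option backward.isDefEq.respectTransparency false
set_option backward.isDefEq.respectTransparency.types false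
open CategoryTheory CategoryTheory.Limits AlgebraicGeometry

universe u

namespace Groth.Agent.Lib.T2H6.ModPairFinLim

open Scheme.IdealSheafData Groth.Agent.Lib.T2H6.AmbProdPullback

/-- the terminal modulus pair. -/
noncomputable def topPair : ModPair.Pair.{u} :=
  ⟨⊤_ Scheme.{u}, ⊤, Groth.Agent.Lib.Helper20.BlowUpBasic.isEffCartierIdeal_top⟩

/-- the morphism to the terminal modulus pair. -/
noncomputable def toTop (W : ModPair.Pair.{u}) : W ⟶ topPair.{u} :=
  ⟨terminal.from W.total, by
    change W.mod ≤ (⊤ : (⊤_ Scheme.{u}).IdealSheafData).comap _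
    rw [comap_top]
    exact le_top⟩

theorem toTop_unique (W : ModPair.Pair.{u}) (a : W ⟶ topPair.{u}) : a = toTop W :=
  ModPair.Pair.Hom.ext (terminal.hom_ext _ _)

theorem hasTerminal : HasTerminal (ModPair.Pair.admBlowup.{u}).Localization := by
  have h : ∀ Z : (ModPair.Pair.admBlowup.{u}).Localization,
      ∃ m : Z ⟶ (ModPair.Pair.admBlowup.{u}).Q.obj topPair.{u}, ∀ m' : Z ⟶ _, m' = m := by
    intro Z
    obtain ⟨W, rfl⟩ :=
      (Localization.Construction.objEquiv (ModPair.Pair.admBlowup.{u})).surjective Z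
    refine ⟨(ModPair.Pair.admBlowup.{u}).Q.map (toTop W), fun m' => ?_⟩
    change (ModPair.Pair.admBlowup.{u}).Q.obj W ⟶ _ at m'
    obtain ⟨W₁, σ, hσ, a, ha⟩ := exists_frac m'
    haveI : IsIso ((ModPair.Pair.admBlowup.{u}).Q.map σ) :=
      Localization.inverts (ModPair.Pair.admBlowup.{u}).Q (ModPair.Pair.admBlowup.{u}) _ hσ
    rw [← cancel_epi ((ModPair.Pair.admBlowup.{u}).Q.map σ), ha, ← Functor.map_comp,
      toTop_unique _ a, toTop_unique _ (σ ≫ toTop W)]
  choose m hm using h
  exact (IsTerminal.ofUniqueHom (fun Z => m Z) (fun Z m' => hm Z m')).hasTerminal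

theorem hasPullback_map {P T X : ModPair.Pair.{u}} (g : T ⟶ P) (f : X ⟶ P) :
    HasPullback ((ModPair.Pair.admBlowup.{u}).Q.map g) ((ModPair.Pair.admBlowup.{u}).Q.map f) := by
  obtain ⟨Y, π, K, hY⟩ := Groth.Agent.Lib.T2H6.AmbProd.main T.mod X.mod f.hom g.hom
  obtain ⟨hK, hX, hT, -⟩ := Groth.Agent.Lib.T2H6.ModulusAmb.isAmbProd_main T.mod X.mod
    T.isEffCartier X.isEffCartier f.hom g.hom π K hY
  exact (main P T X f g π K hY hK hX hT).hasPullback

theorem hasPullbacks : HasPullbacks (ModPair.Pair.admBlowup.{u}).Localization := by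
  refine @hasPullbacks_of_hasLimit_cospan _ _ (fun {A B C} x y => ?_)
  obtain ⟨T, rfl⟩ := (Localization.Construction.objEquiv (ModPair.Pair.admBlowup.{u})).surjective A
  obtain ⟨X, rfl⟩ := (Localization.Construction.objEquiv (ModPair.Pair.admBlowup.{u})).surjective B
  obtain ⟨P, rfl⟩ := (Localization.Construction.objEquiv (ModPair.Pair.admBlowup.{u})).surjective C
  change (ModPair.Pair.admBlowup.{u}).Q.obj T ⟶ (ModPair.Pair.admBlowup.{u}).Q.obj P at x
  change (ModPair.Pair.admBlowup.{u}).Q.obj X ⟶ (ModPair.Pair.admBlowup.{u}).Q.obj P at y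
  obtain ⟨T', σ, hσ, g, hg⟩ := exists_frac x
  obtain ⟨X', τ, hτ, f, hf⟩ := exists_frac y
  haveI : IsIso ((ModPair.Pair.admBlowup.{u}).Q.map σ) :=
    Localization.inverts (ModPair.Pair.admBlowup.{u}).Q (ModPair.Pair.admBlowup.{u}) _ hσ
  haveI : IsIso ((ModPair.Pair.admBlowup.{u}).Q.map τ) :=
    Localization.inverts (ModPair.Pair.admBlowup.{u}).Q (ModPair.Pair.admBlowup.{u}) _ hτ
  haveI := hasPullback_map g f
  have e : cospan ((ModPair.Pair.admBlowup.{u}).Q.map g) ((ModPair.Pair.admBlowup.{u}).Q.map f) ≅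
      cospan x y :=
    cospanExt (f := (ModPair.Pair.admBlowup.{u}).Q.map g)
      (g := (ModPair.Pair.admBlowup.{u}).Q.map f) (f' := x) (g' := y)
      (asIso ((ModPair.Pair.admBlowup.{u}).Q.map σ))
      (asIso ((ModPair.Pair.admBlowup.{u}).Q.map τ)) (Iso.refl _)
      (by rw [asIso_hom, Iso.refl_hom, Category.comp_id]; exact hg)
      (by rw [asIso_hom, Iso.refl_hom, Category.comp_id]; exact hf)
  exact hasLimit_of_iso e

theorem hasFiniteLimits : HasFiniteLimits (ModPair.Pair.admBlowup.{u}).Localization := by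
  haveI := hasTerminal.{u}
  haveI := hasPullbacks.{u}
  exact hasFiniteLimits_of_hasTerminal_and_pullbacks

end Groth.Agent.Lib.T2H6.ModPairFinLim
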