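-- helper6 (team 2): an abstract admissible blow-up which is a limit of finitely presented ones is
-- finitely presented.
import Mathlib
import Groth.Prelude.Def_BlowUp2
import Groth.Prelude.Def_W4c6modpairsegaMP
import Groth.Agent.S2076
import Groth.Agent.Lib.T2H6ModulusClosure
import Groth.Agent.Lib.T2H6BlowUpFiniteBir

set_option autoImplicit false
set_option backward.isDefEq.respectTransparency false
set_option backward.isDefEq.respectTransparency.types false
open CategoryTheory CategoryTheory.Limits AlgebraicGeometry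

universe u

namespace Groth.Agent.Lib.T2H6.ModPairLimFP

open Scheme.IdealSheafData nonZeroDivisors

/-- a quasi-compact morphism which is an isomorphism over the interior of a modulus pair is
scheme-theoretically dominant. -/
theorem ker_eq_bot_of_isIso_restrict_interior {X X' : Scheme.{u}} (f : X ⟶ X') [QuasiCompact f]
    (J : X'.IdealSheafData) (hJ : BlowUp.IsEffCartierIdeal J)
    [hiso : IsIso (f ∣_ ModPair.interior J)] : f.ker = ⊥ := by
  choose W hxW t ht hJt using hJ
  refine ext_of_iSup_eq_top W ?_ (fun x => ?_)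
  · rw [eq_top_iff]
    intro y _
    exact TopologicalSpace.Opens.mem_iSup.2 ⟨y, hxW y⟩
  · rw [Scheme.Hom.ker_apply, ideal_bot, Pi.bot_apply, eq_bot_iff]
    intro r hr
    rw [RingHom.mem_ker] at hr
    rw [Ideal.mem_bot]
    have hD : X'.basicOpen (t x) ≤ ModPair.interior J := by
      rw [← Groth.Agent.Lib.T2H6.ModulusClosure.interior_inf J (W x) (t x) (hJt x)]
      exact inf_le_left
    haveI := Groth.Agent.Lib.T2H6.BlowUpFiniteBir.isIso_app_of_isIso_morphismRestrict f
      (ModPair.interior J) (X'.basicOpen (t x)) hD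
    have hinj : Function.Injective (f.app (X'.basicOpen (t x))).hom := by
      have := (ConcreteCategory.bijective_of_isIso (f.app (X'.basicOpen (t x)))).1
      exact this
    have hres : (X'.presheaf.map (homOfLE (X'.basicOpen_le (t x))).op).hom r = 0 := by
      apply hinj
      rw [map_zero]
      have hnat := f.naturality (homOfLE (X'.basicOpen_le (t x))).op
      have h2 := congrArg (fun k => k.hom r) hnat
      simp only [CommRingCat.hom_comp, RingHom.comp_apply] at h2
      rw [h2, hr, map_zero]
    haveI := (W x).2.isLocalization_basicOpen (t x)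
    have h3 : algebraMap Γ(X', (W x).1) Γ(X', X'.basicOpen (t x)) r = 0 := hres
    rw [IsLocalization.map_eq_zero_iff (Submonoid.powers (t x))] at h3
    obtain ⟨⟨_, n, rfl⟩, hm⟩ := h3
    have hm' : t x ^ n * r = 0 := hm
    exact (pow_mem (ht x) n).1 r hm'

theorem main {Y : Scheme.{u}} (IY : Y.IdealSheafData)
    {I : Type u} [SmallCategory I] [IsCofiltered I] (D : I ⥤ Over Y) (c : Cone D) (hc : IsLimit c)
    [∀ (i j : I) (t : i ⟶ j), IsAffineHom (D.map t).left]
    [∀ i, CompactSpace (D.obj i).left]
    (hI : ∀ i, BlowUp.IsEffCartierIdeal (IY.comap (D.obj i).hom))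
    (hadm : ∀ i, ModPair.IsAdmBlowup (IY.comap (D.obj i).hom) IY (D.obj i).hom)
    [∀ i, LocallyOfFinitePresentation (D.obj i).hom]
    (hXadm : ModPair.IsAdmBlowup (IY.comap c.pt.hom) IY c.pt.hom) :
    LocallyOfFinitePresentation c.pt.hom := by
  haveI : IsProper c.pt.hom := hXadm.2.1
  haveI : LocallyOfFiniteType (𝟙 c.pt.left ≫ c.pt.hom) := by
    rw [Category.id_comp]
    infer_instance
  obtain ⟨i, hi⟩ := Groth.Agent.S2076.result Y D c hc (𝟙 c.pt.left)
  rw [Category.id_comp] at hi
  have hw : (c.π.app i).left ≫ (D.obj i).hom = c.pt.hom := Over.w (c.π.app i)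
  haveI : IsIso ((D.obj i).hom ∣_ ModPair.interior IY) := (hadm i).2.2
  haveI : IsIso (c.pt.hom ∣_ ModPair.interior IY) := hXadm.2.2
  have hiso : IsIso ((c.π.app i).left ∣_ ModPair.interior (IY.comap (D.obj i).hom)) := by
    rw [Groth.Agent.Lib.T2H6.ModulusClosure.interior_comap]
    have h1 : IsIso (((c.π.app i).left ≫ (D.obj i).hom) ∣_ ModPair.interior IY) := by
      rw [hw]
      infer_instance
    rw [morphismRestrict_comp] at h1
    exact IsIso.of_isIso_comp_right _ ((D.obj i).hom ∣_ ModPair.interior IY)
  have hker := ker_eq_bot_of_isIso_restrict_interior (c.π.app i).left _ (hI i)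
  haveI : IsIso (c.π.app i).left :=
    IsClosedImmersion.isIso_of_ker_eq (c.π.app i).left (𝟙 _) (c.π.app i).left (Category.comp_id _)
      (by rw [hker, Scheme.Hom.ker_eq_bot_of_isIso])
  rw [← hw]
  infer_instance

end Groth.Agent.Lib.T2H6.ModPairLimFP
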