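-- helper6 (team 2): two effective Cartier divisors D_I ≤ D_J agreeing on all "generic-interior"
-- valuation rings are equal.
import Mathlib
import Groth.Prelude.Def_BlowUp2
import Groth.Prelude.Def_W4c6modpairsegaMP
import Groth.Agent.Lib.Helper20EffCartier
import Groth.Agent.Lib.T2H6ModulusVal

set_option autoImplicit false
set_option backward.isDefEq.respectTransparency false
set_option backward.isDefEq.respectTransparency.types false
open CategoryTheory CategoryTheory.Limits AlgebraicGeometry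

universe u

namespace Groth.Agent.Lib.T2H6.ModulusEq

open nonZeroDivisors

/-- A nonzerodivisor `f` and a nonunit `a` of a ring: there is a valuation ring `V` and a map
`φ : A → V` with `φ f ≠ 0` and `φ a` a nonunit. -/
theorem exists_valuationRing_map₂ (A : Type u) [CommRing A] (f a : A) (hf : f ∈ A⁰)
    (hau : ¬ IsUnit a) :
    ∃ (R : Type u) (_ : CommRing R) (_ : IsDomain R) (_ : ValuationRing R) (θ : A →+* R),
      θ f ≠ 0 ∧ ¬ IsUnit (θ a) := by
  obtain ⟨P, hP, haP⟩ := exists_max_ideal_of_mem_nonunits (show a ∈ nonunits A from hau)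
  have hPp : P.IsPrime := hP.isPrime
  let L := Localization.AtPrime P
  have hfL : algebraMap A L f ∈ L⁰ :=
    IsLocalization.map_nonZeroDivisors_le P.primeCompl L (Submonoid.mem_map_of_mem _ hf)
  obtain ⟨q, hq, -⟩ := Ideal.exists_minimalPrimes_le
    (I := (⊥ : Ideal L)) (J := IsLocalRing.maximalIdeal L) bot_le
  have hqp : q.IsPrime := hq.1.1
  have hfq : algebraMap A L f ∉ q := fun h =>
    Set.disjoint_left.1 (Ideal.disjoint_nonZeroDivisors_of_mem_minimalPrimes hq) h hfL
  let D := L ⧸ q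
  have : IsDomain D := Ideal.Quotient.isDomain q
  have hqne : q ≠ ⊤ := hqp.ne_top
  have : Nontrivial D := Ideal.Quotient.nontrivial_iff.2 hqne
  have : IsLocalRing D := IsLocalRing.of_surjective' (Ideal.Quotient.mk q)
    Ideal.Quotient.mk_surjective
  let K := FractionRing D
  obtain ⟨V, hV, hloc⟩ := IsLocalRing.exists_factor_valuationRing (algebraMap D K)
  let θ : A →+* V := ((algebraMap D K).codRestrict V.toSubring hV).comp
    ((Ideal.Quotient.mk q).comp (algebraMap A L))
  refine ⟨V, inferInstance, inferInstance, inferInstance, θ, ?_, ?_⟩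
  · intro h0
    have h1 : algebraMap D K (Ideal.Quotient.mk q (algebraMap A L f)) = 0 :=
      congrArg Subtype.val h0
    rw [map_eq_zero_iff _ (IsFractionRing.injective D K), Ideal.Quotient.eq_zero_iff_mem] at h1
    exact hfq h1
  · intro hu
    have h1 : IsUnit (Ideal.Quotient.mk q (algebraMap A L a)) := hloc.map_nonunit _ hu
    have hloc2 : IsLocalHom (Ideal.Quotient.mk q) :=
      .of_surjective _ Ideal.Quotient.mk_surjective
    have h2 : IsUnit (algebraMap A L a) := hloc2.map_nonunit _ h1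
    have h3 : algebraMap A L a ∈ IsLocalRing.maximalIdeal L := by
      rw [← Localization.AtPrime.map_eq_maximalIdeal]
      exact Ideal.mem_map_of_mem _ haP
    exact (IsLocalRing.mem_maximalIdeal _).1 h3 h2

/-- A prime ideal maximal among the ideals disjoint from a submonoid not containing `0`. -/
theorem exists_prime_maximally_disjoint {α : Type*} [CommRing α] (S : Submonoid α)
    (hS : (0 : α) ∉ S) :
    ∃ p : Ideal α, p.IsPrime ∧ Disjoint (p : Set α) S ∧
      ∀ J : Ideal α, p < J → ¬ Disjoint (J : Set α) S := by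
  have disjoint : Disjoint ((⊥ : Ideal α) : Set α) S := by
    rw [Set.disjoint_left]
    intro x hx hxS
    have : x = 0 := hx
    exact hS (this ▸ hxS)
  have ⟨p, _, hp⟩ := zorn_le_nonempty₀ {p : Ideal α | Disjoint (p : Set α) S}
    (fun c hc hc' x hx ↦ ?_) ⊥ disjoint
  · exact ⟨p, Ideal.isPrime_of_maximally_disjoint _ _ hp.1 (fun _ ↦ hp.not_prop_of_gt), hp.1,
      fun _ ↦ hp.not_prop_of_gt⟩
  cases isEmpty_or_nonempty c
  · exact ⟨⊥, disjoint, fun J hJ ↦ isEmptyElim (⟨J, hJ⟩ : c)⟩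
  refine ⟨sSup c, Set.disjoint_left.mpr fun x hx ↦ ?_, fun _ ↦ le_sSup⟩
  have ⟨p, hp⟩ := (Submodule.mem_iSup_of_directed _ hc'.directed).mp (sSup_eq_iSup' c ▸ hx)
  exact Set.disjoint_left.mp (hc p.2) hp

/-- A nonzerodivisor `f` and a nonunit `a`: there is a valuation ring `R` and `θ : A → R` with
`θ f ≠ 0`, `θ a` a nonunit, and `θ f` in every nonzero prime of `R`. -/
theorem exists_valuationRing_map₃ (A : Type u) [CommRing A] (f a : A) (hf : f ∈ A⁰)
    (hau : ¬ IsUnit a) :
    ∃ (R : Type u) (_ : CommRing R) (_ : IsDomain R) (_ : ValuationRing R) (θ : A →+* R),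
      θ f ≠ 0 ∧ ¬ IsUnit (θ a) ∧ ∀ 𝔮 : Ideal R, 𝔮.IsPrime → 𝔮 ≠ ⊥ → θ f ∈ 𝔮 := by
  obtain ⟨V, _, _, _, φ, hφf, hφa⟩ := exists_valuationRing_map₂ A f a hf hau
  have h0 : (0 : V) ∉ Submonoid.powers (φ f) := by
    rintro ⟨n, hn⟩
    exact hφf (eq_zero_of_pow_eq_zero hn)
  obtain ⟨𝔭, h𝔭, hdis, hmax⟩ := exists_prime_maximally_disjoint (Submonoid.powers (φ f)) h0
  have : IsDomain (V ⧸ 𝔭) := Ideal.Quotient.isDomain 𝔭
  have : ValuationRing (V ⧸ 𝔭) :=
    Function.Surjective.valuationRing (Ideal.Quotient.mk 𝔭) Ideal.Quotient.mk_surjective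
  refine ⟨V ⧸ 𝔭, inferInstance, inferInstance, inferInstance, (Ideal.Quotient.mk 𝔭).comp φ,
    ?_, ?_, ?_⟩
  · intro h
    rw [RingHom.comp_apply, Ideal.Quotient.eq_zero_iff_mem] at h
    exact Set.disjoint_left.1 hdis h (Submonoid.mem_powers _)
  · intro hu
    have hloc2 : IsLocalHom (Ideal.Quotient.mk 𝔭) :=
      .of_surjective _ Ideal.Quotient.mk_surjective
    exact hφa (hloc2.map_nonunit _ hu)
  · intro 𝔮 h𝔮 hne
    have hle : 𝔭 ≤ 𝔮.comap (Ideal.Quotient.mk 𝔭) := by
      intro x hx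
      rw [Ideal.mem_comap, Ideal.Quotient.eq_zero_iff_mem.2 hx]
      exact 𝔮.zero_mem
    have hne' : 𝔭 ≠ 𝔮.comap (Ideal.Quotient.mk 𝔭) := by
      intro heq
      apply hne
      rw [← Ideal.map_comap_of_surjective _ Ideal.Quotient.mk_surjective 𝔮, ← heq,
        Ideal.map_quotient_self]
    have hnd := hmax _ (lt_of_le_of_ne hle hne')
    rw [Set.not_disjoint_iff] at hnd
    obtain ⟨x, hx, n, rfl⟩ := hnd
    have h1 : (φ f) ^ n ∈ 𝔮.comap (Ideal.Quotient.mk 𝔭) := hx
    have h2 := (Ideal.IsPrime.comap (Ideal.Quotient.mk 𝔭) (K := 𝔮)).mem_of_pow_mem n h1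
    exact h2

/-- Local computation: for an affine open `U` and `θ : Γ(X, U) → R`, the pullback of `I` along
`Spec R → U → X` has ideal on `⊤` generated by `θ f` if `I(U) = (f)`. -/
theorem ideal_comap_spec {X : Scheme.{u}} (I : X.IdealSheafData) (U : X.affineOpens)
    (R : Type u) [CommRing R] (θ : Γ(X, U.1) →+* R) (f : Γ(X, U.1))
    (hIf : I.ideal U = Ideal.span {f}) :
    (I.comap (Spec.map (CommRingCat.ofHom θ) ≫ U.2.fromSpec)).ideal ⟨⊤, isAffineOpen_top _⟩ =
      Ideal.span {(Scheme.ΓSpecIso (CommRingCat.of R)).symm.commRingCatIsoToRingEquiv (θ f)} := by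
  set p : Spec (CommRingCat.of R) ⟶ X := Spec.map (CommRingCat.ofHom θ) ≫ U.2.fromSpec with hp
  have hle : (⊤ : (Spec (CommRingCat.of R)).Opens) ≤ p ⁻¹ᵁ U.1 := by
    intro y _
    change p y ∈ (U.1 : Set X)
    rw [← U.2.range_fromSpec, Scheme.Hom.comp_apply]
    exact ⟨_, rfl⟩
  have happ : p.appLE U.1 ⊤ hle =
      CommRingCat.ofHom θ ≫ (Scheme.ΓSpecIso (CommRingCat.of R)).inv := by
    apply Spec.map_injective
    have h1 := IsAffineOpen.SpecMap_appLE_fromSpec p U.2 (isAffineOpen_top _) hle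
    rw [IsAffineOpen.fromSpec_top, Scheme.isoSpec_Spec_inv] at h1
    rw [← cancel_mono U.2.fromSpec, h1, Spec.map_comp, Category.assoc]
  have hid := Groth.Agent.Lib.Helper20.EffCartier.ideal_comap_eq_map p I (isAffineOpen_top _)
    U.2 hle
  have hgθ : (p.appLE U.1 ⊤ hle).hom f =
      (Scheme.ΓSpecIso (CommRingCat.of R)).symm.commRingCatIsoToRingEquiv (θ f) := by
    rw [happ]
    rfl
  rw [hid]
  change (I.ideal U).map _ = _
  rw [hIf, Ideal.map_span, Set.image_singleton, hgθ]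

/-- Membership in the support of an ideal sheaf on `Spec R` whose ideal on `⊤` is principal. -/
theorem mem_support_spec_iff (R : Type u) [CommRing R]
    (K : (Spec (CommRingCat.of R)).IdealSheafData) (r : R)
    (hK : K.ideal ⟨⊤, isAffineOpen_top _⟩ =
      Ideal.span {(Scheme.ΓSpecIso (CommRingCat.of R)).symm.commRingCatIsoToRingEquiv r})
    (x : Spec (CommRingCat.of R)) :
    x ∈ (K.support : Set (Spec (CommRingCat.of R))) ↔ r ∈ x.asIdeal := by
  have h1 := K.coe_support_inter ⟨⊤, isAffineOpen_top _⟩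
  rw [hK] at h1
  have h2 : x ∈ (K.support : Set (Spec (CommRingCat.of R))) ↔
      x ∈ (K.support : Set (Spec (CommRingCat.of R))) ∩
        ((⊤ : (Spec (CommRingCat.of R)).Opens) : Set (Spec (CommRingCat.of R))) :=
    ⟨fun h => ⟨h, trivial⟩, fun h => h.1⟩
  rw [h2]
  erw [h1]
  rw [Set.mem_inter_iff, Scheme.mem_zeroLocus_iff]
  constructor
  · rintro ⟨h3, -⟩
    have h4 := h3 _ (Ideal.subset_span (Set.mem_singleton _))
    rw [basicOpen_eq_of_affine'] at h4
    by_contra hr
    apply h4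
    change _ ∉ x.asIdeal
    convert hr
    exact (Scheme.ΓSpecIso (CommRingCat.of R)).commRingCatIsoToRingEquiv.apply_symm_apply r
  · intro hr
    refine ⟨?_, trivial⟩
    intro s hs
    obtain ⟨c, rfl⟩ := Ideal.mem_span_singleton'.1 hs
    rw [basicOpen_eq_of_affine']
    intro hx
    apply hx
    rw [map_mul]
    apply Ideal.mul_mem_left
    convert hr
    exact (Scheme.ΓSpecIso (CommRingCat.of R)).commRingCatIsoToRingEquiv.apply_symm_apply r

/-- The key local statement. -/
theorem ideal_le_of_valuationRings {X : Scheme.{u}} (I J : X.IdealSheafData)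
    (h : ∀ (R : Type u) [CommRing R] [IsDomain R] [ValuationRing R]
      (p : Spec (CommRingCat.of R) ⟶ X), BlowUp.IsEffCartierIdeal (I.comap p) →
        (∀ x : Spec (CommRingCat.of R),
          x ∈ (ModPair.interior (I.comap p) : Set (Spec (CommRingCat.of R))) ↔ x.asIdeal = ⊥) →
        I.comap p = J.comap p)
    (U : X.affineOpens) (f g : Γ(X, U.1)) (hf : f ∈ Γ(X, U.1)⁰)
    (hIf : I.ideal U = Ideal.span {f}) (hJg : J.ideal U = Ideal.span {g})
    (hle : J.ideal U ≤ I.ideal U) : I.ideal U ≤ J.ideal U := by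
  have hgf : g ∈ Ideal.span {f} := by
    rw [← hIf]
    apply hle
    rw [hJg]
    exact Ideal.subset_span (Set.mem_singleton _)
  obtain ⟨a, ha⟩ := Ideal.mem_span_singleton'.1 hgf
  suffices hu : IsUnit a by
    rw [hIf, hJg, Ideal.span_singleton_le_iff_mem, Ideal.mem_span_singleton']
    obtain ⟨b, hb⟩ := hu.exists_left_inv
    exact ⟨b, by rw [← ha, ← mul_assoc, hb, one_mul]⟩
  by_contra hau
  obtain ⟨R, _, _, _, θ, hθ0, hθu, hθq⟩ := exists_valuationRing_map₃ Γ(X, U.1) f a hf hau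
  let p : Spec (CommRingCat.of R) ⟶ X := Spec.map (CommRingCat.ofHom θ) ≫ U.2.fromSpec
  let e : R ≃+* Γ(Spec (CommRingCat.of R), ⊤) :=
    (Scheme.ΓSpecIso (CommRingCat.of R)).symm.commRingCatIsoToRingEquiv
  have hI' : (I.comap p).ideal ⟨⊤, isAffineOpen_top _⟩ = Ideal.span {e (θ f)} :=
    ideal_comap_spec I U R θ f hIf
  have hJ' : (J.comap p).ideal ⟨⊤, isAffineOpen_top _⟩ = Ideal.span {e (θ g)} :=
    ideal_comap_spec J U R θ g hJg
  have hcart : BlowUp.IsEffCartierIdeal (I.comap p) := fun y =>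
    ⟨⟨⊤, isAffineOpen_top _⟩, trivial, e (θ f),
      ModulusVal.ringEquiv_mem_nonZeroDivisors e (mem_nonZeroDivisors_of_ne_zero hθ0), hI'⟩
  have hint : ∀ x : Spec (CommRingCat.of R),
      x ∈ (ModPair.interior (I.comap p) : Set (Spec (CommRingCat.of R))) ↔ x.asIdeal = ⊥ := by
    intro x
    have h1 := mem_support_spec_iff R (I.comap p) (θ f) hI' x
    change x ∉ ((I.comap p).support : Set (Spec (CommRingCat.of R))) ↔ _
    rw [h1]
    constructor
    · intro hx
      by_contra hne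
      exact hx (hθq x.asIdeal x.isPrime hne)
    · intro hx hmem
      rw [hx] at hmem
      exact hθ0 hmem
  have heq := h R p hcart hint
  rw [heq, hJ'] at hI'
  have h3 : e (θ f) ∈ Ideal.span {e (θ g)} := by
    rw [hI']
    exact Ideal.subset_span (Set.mem_singleton _)
  obtain ⟨c, hc⟩ := Ideal.mem_span_singleton'.1 h3
  have h4 : e.symm c * θ g = θ f := by
    apply e.injective
    rw [map_mul, e.apply_symm_apply, hc]
  rw [← ha, map_mul, ← mul_assoc] at h4
  have h5 : e.symm c * θ a = 1 := by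
    apply mul_right_cancel₀ hθ0
    rw [h4, one_mul]
  exact hθu (IsUnit.of_mul_eq_one _ (by rw [mul_comm]; exact h5))

theorem eq_of_valuationRings {X : Scheme.{u}} (I J : X.IdealSheafData)
    (hI : BlowUp.IsEffCartierIdeal I) (hJ : BlowUp.IsEffCartierIdeal J) (hJI : J ≤ I)
    (h : ∀ (R : Type u) [CommRing R] [IsDomain R] [ValuationRing R]
      (p : Spec (CommRingCat.of R) ⟶ X), BlowUp.IsEffCartierIdeal (I.comap p) →
        (∀ x : Spec (CommRingCat.of R),
          x ∈ (ModPair.interior (I.comap p) : Set (Spec (CommRingCat.of R))) ↔ x.asIdeal = ⊥) →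
        I.comap p = J.comap p) :
    I = J := by
  refine le_antisymm ?_ hJI
  have hcov : ∀ x : X, ∃ U : X.affineOpens, x ∈ U.1 ∧ I.ideal U ≤ J.ideal U := by
    intro x
    obtain ⟨U', hxU', g', -, hJg'⟩ := hJ x
    obtain ⟨U, hU, hxU, hUU', f, hf, hIf⟩ :=
      Groth.Agent.Lib.Helper20.EffCartier.exists_le_of_isEffCartierIdeal hI x U'.1 hxU'
    refine ⟨⟨U, hU⟩, hxU, ?_⟩
    have hJg : J.ideal ⟨U, hU⟩ =
        Ideal.span {(X.presheaf.map (homOfLE hUU').op).hom g'} := by
      have := J.map_ideal (U := ⟨U, hU⟩) (V := U') hUU'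
      rw [← this, hJg', Ideal.map_span, Set.image_singleton]
      rfl
    exact ideal_le_of_valuationRings I J h ⟨U, hU⟩ f _ hf hIf hJg (hJI _)
  choose W hxW hW using hcov
  refine Scheme.IdealSheafData.le_of_iSup_eq_top W ?_ hW
  rw [eq_top_iff]
  intro x _
  exact TopologicalSpace.Opens.mem_iSup.2 ⟨x, hxW x⟩

end Groth.Agent.Lib.T2H6.ModulusEq
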