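-- helper6 (team 2): minimality of the first factor of a minimal composite of ambient morphisms and the
-- quasi-compact open locus where the second is minimal.
import Mathlib
import Groth.Prelude.Def_BlowUp2
import Groth.Prelude.Def_W4c6modpairsegaMP
import Groth.Agent.Lib.Helper20EffCartier

set_option autoImplicit false
set_option backward.isDefEq.respectTransparency false
set_option backward.isDefEq.respectTransparency.types false
open CategoryTheory CategoryTheory.Limits AlgebraicGeometry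

universe u

namespace Groth.Agent.Lib.T2H6.ModulusMin

open nonZeroDivisors

theorem isMinimal_of_comp {X Y Z : Scheme.{u}} (I : X.IdealSheafData) (J : Y.IdealSheafData)
    (K : Z.IdealSheafData) (f : X ⟶ Y) (g : Y ⟶ Z) (hf : I ≤ J.comap f) (hg : J ≤ K.comap g)
    (hfg : I = K.comap (f ≫ g)) : I = J.comap f := by
  apply le_antisymm hf
  rw [hfg, Scheme.IdealSheafData.comap_comp]
  exact Scheme.IdealSheafData.comap_mono f hg

/-- The open locus where two ideal sheaves agree (union of the affine opens on which they agree). -/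
def eqLocus {Y : Scheme.{u}} (J K' : Y.IdealSheafData) : Y.Opens :=
  ⨆ W : {W : Y.affineOpens // J.ideal W = K'.ideal W}, W.1.1

theorem le_eqLocus {Y : Scheme.{u}} (J K' : Y.IdealSheafData) (W : Y.affineOpens)
    (h : J.ideal W = K'.ideal W) : W.1 ≤ eqLocus J K' :=
  le_iSup (fun W : {W : Y.affineOpens // J.ideal W = K'.ideal W} => W.1.1) ⟨W, h⟩

theorem comap_eqLocus_ι {Y : Scheme.{u}} (J K' : Y.IdealSheafData) :
    J.comap (eqLocus J K').ι = K'.comap (eqLocus J K').ι := by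
  set U := eqLocus J K' with hU
  have haff : ∀ W : {W : Y.affineOpens // J.ideal W = K'.ideal W},
      IsAffineOpen (U.ι ⁻¹ᵁ W.1.1) := fun W =>
    W.1.2.preimage_of_isOpenImmersion U.ι (by
      rw [Scheme.Opens.opensRange_ι]
      exact le_eqLocus J K' W.1 W.2)
  refine Scheme.IdealSheafData.ext_of_iSup_eq_top
    (fun W : {W : Y.affineOpens // J.ideal W = K'.ideal W} => ⟨U.ι ⁻¹ᵁ W.1.1, haff W⟩) ?_ ?_
  · rw [eq_top_iff]
    rintro ⟨y, hy⟩ -
    obtain ⟨W, hyW⟩ := TopologicalSpace.Opens.mem_iSup.1 hy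
    exact TopologicalSpace.Opens.mem_iSup.2 ⟨W, hyW⟩
  · intro W
    rw [Groth.Agent.Lib.Helper20.EffCartier.ideal_comap_eq_map U.ι J (haff W) W.1.2 le_rfl,
      Groth.Agent.Lib.Helper20.EffCartier.ideal_comap_eq_map U.ι K' (haff W) W.1.2 le_rfl]
    change (J.ideal W.1).map _ = (K'.ideal W.1).map _
    rw [W.2]

/-- On an affine open where `J = (j)` with `j` a nonzerodivisor, `K' = (k)` and `j = a k`, the
agreement locus is the basic open of `a`. -/
theorem eqLocus_inf {Y : Scheme.{u}} (J K' : Y.IdealSheafData) (W : Y.affineOpens)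
    (j k a : Γ(Y, W.1)) (hj : j ∈ Γ(Y, W.1)⁰) (hJ : J.ideal W = Ideal.span {j})
    (hK : K'.ideal W = Ideal.span {k}) (hjk : a * k = j) :
    eqLocus J K' ⊓ W.1 = Y.basicOpen a := by
  apply le_antisymm
  · rintro y ⟨hyU, hyW⟩
    obtain ⟨W₀, hyW₀⟩ := TopologicalSpace.Opens.mem_iSup.1 hyU
    obtain ⟨r, hrW₀, hyr⟩ := W.2.exists_basicOpen_le ⟨y, hyW₀⟩ hyW
    let B : Y.affineOpens := ⟨Y.basicOpen r, W.2.basicOpen r⟩
    have hBW : B.1 ≤ W.1 := Y.basicOpen_le r
    have hBW₀ : B.1 ≤ W₀.1.1 := hrW₀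
    have h1 : J.ideal B = K'.ideal B := by
      rw [← J.map_ideal hBW₀, ← K'.map_ideal hBW₀, W₀.2]
    let ρ := (Y.presheaf.map (homOfLE hBW).op).hom
    have hJB : J.ideal B = Ideal.span {ρ j} := by
      rw [← J.map_ideal hBW, hJ, Ideal.map_span, Set.image_singleton]
      rfl
    have hKB : K'.ideal B = Ideal.span {ρ k} := by
      rw [← K'.map_ideal hBW, hK, Ideal.map_span, Set.image_singleton]
      rfl
    have hρj : ρ j ∈ Γ(Y, B.1)⁰ := by
      have inst := W.2.isLocalization_basicOpen r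
      have h1 : ρ = algebraMap _ _ := rfl
      rw [h1]
      exact IsLocalization.map_nonZeroDivisors_le (.powers r) _ (Submonoid.mem_map_of_mem _ hj)
    have h2 : ρ k ∈ Ideal.span {ρ j} := by
      rw [← hJB, h1, hKB]
      exact Ideal.subset_span (Set.mem_singleton _)
    obtain ⟨c, hc⟩ := Ideal.mem_span_singleton'.1 h2
    have h3 : (ρ a * c) * ρ j = 1 * ρ j := by
      rw [one_mul, mul_assoc, hc, ← map_mul, hjk]
    have h4 : ρ a * c = 1 := by
      have := (mem_nonZeroDivisors_iff_right.1 hρj) (ρ a * c - 1) (by rw [sub_mul, h3, sub_self])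
      exact sub_eq_zero.1 this
    have h5 : IsUnit (ρ a) := IsUnit.of_mul_eq_one _ h4
    have h6 : Y.basicOpen (ρ a) = B.1 := Scheme.basicOpen_of_isUnit _ h5
    have h7 : Y.basicOpen (ρ a) = B.1 ⊓ Y.basicOpen a := Y.basicOpen_res a (homOfLE hBW).op
    have h8 : B.1 ≤ Y.basicOpen a := by
      rw [← h6, h7]
      exact inf_le_right
    exact h8 hyr
  · apply le_inf _ (Y.basicOpen_le a)
    let B : Y.affineOpens := ⟨Y.basicOpen a, W.2.basicOpen a⟩
    have hBW : B.1 ≤ W.1 := Y.basicOpen_le a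
    apply le_eqLocus J K' B
    let ρ := (Y.presheaf.map (homOfLE hBW).op).hom
    have hJB : J.ideal B = Ideal.span {ρ j} := by
      rw [← J.map_ideal hBW, hJ, Ideal.map_span, Set.image_singleton]
      rfl
    have hKB : K'.ideal B = Ideal.span {ρ k} := by
      rw [← K'.map_ideal hBW, hK, Ideal.map_span, Set.image_singleton]
      rfl
    have hu : IsUnit (ρ a) := by
      have inst := W.2.isLocalization_basicOpen a
      have h1 : ρ = algebraMap _ _ := rfl
      rw [h1]
      exact IsLocalization.map_units (M := Submonoid.powers a) _ ⟨a, Submonoid.mem_powers a⟩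
    rw [hJB, hKB, ← hjk, map_mul]
    exact Ideal.span_singleton_mul_left_unit hu _

/-- Local generators: around every point of `Y` there is an affine open on which `J = (j)` with
`j` a nonzerodivisor and `K.comap g = (k)`. -/
theorem exists_local_gens {Y Z : Scheme.{u}} (J : Y.IdealSheafData) (K : Z.IdealSheafData)
    (hJ : BlowUp.IsEffCartierIdeal J) (hK : BlowUp.IsEffCartierIdeal K) (g : Y ⟶ Z) (y : Y) :
    ∃ (W : Y.affineOpens) (j k : Γ(Y, W.1)), y ∈ W.1 ∧ j ∈ Γ(Y, W.1)⁰ ∧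
      J.ideal W = Ideal.span {j} ∧ (K.comap g).ideal W = Ideal.span {k} := by
  obtain ⟨Z₂, hgy, k, -, hKk⟩ := hK (g y)
  obtain ⟨W, hW, hyW, hWle, j, hj, hJj⟩ :=
    Groth.Agent.Lib.Helper20.EffCartier.exists_le_of_isEffCartierIdeal hJ y (g ⁻¹ᵁ Z₂.1) hgy
  refine ⟨⟨W, hW⟩, j, (g.appLE Z₂.1 W hWle).hom k, hyW, hj, hJj, ?_⟩
  rw [Groth.Agent.Lib.Helper20.EffCartier.ideal_comap_eq_map g K hW Z₂.2 hWle]
  change (K.ideal Z₂).map _ = _
  rw [hKk, Ideal.map_span, Set.image_singleton]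

theorem quasiCompact_eqLocus_ι {Y Z : Scheme.{u}} (J : Y.IdealSheafData) (K : Z.IdealSheafData)
    (hJ : BlowUp.IsEffCartierIdeal J) (hK : BlowUp.IsEffCartierIdeal K) (g : Y ⟶ Z)
    (hg : J ≤ K.comap g) : QuasiCompact (eqLocus J (K.comap g)).ι := by
  choose W j k hyW hj hJ' hK' using fun y => exists_local_gens J K hJ hK g y
  have hcov : ⨆ y, (W y).1 = ⊤ := by
    rw [eq_top_iff]
    intro y _
    exact TopologicalSpace.Opens.mem_iSup.2 ⟨y, hyW y⟩
  rw [HasAffineProperty.iff_of_iSup_eq_top (P := @QuasiCompact) W hcov]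
  intro y
  obtain ⟨a, ha⟩ : ∃ a, a * k y = j y := by
    have : j y ∈ Ideal.span {k y} := by
      rw [← hK' y]
      apply hg
      rw [hJ' y]
      exact Ideal.subset_span (Set.mem_singleton _)
    exact Ideal.mem_span_singleton'.1 this
  have h1 := eqLocus_inf J (K.comap g) (W y) (j y) (k y) a (hj y) (hJ' y) (hK' y) ha
  change CompactSpace ↥((eqLocus J (K.comap g)).ι ⁻¹ᵁ (W y).1)
  refine isCompact_iff_compactSpace.1 ?_
  rw [(eqLocus J (K.comap g)).ι.isOpenEmbedding.isInducing.isCompact_iff]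
  have h2 : (eqLocus J (K.comap g)).ι '' ((eqLocus J (K.comap g)).ι ⁻¹ᵁ (W y).1 : Set _) =
      (Y.basicOpen a : Set Y) := by
    rw [← h1]
    change (eqLocus J (K.comap g)).ι '' ((eqLocus J (K.comap g)).ι ⁻¹' ((W y).1 : Set Y)) = _
    rw [Set.image_preimage_eq_inter_range, Scheme.Opens.range_ι, Set.inter_comm]
    rfl
  rw [h2]
  exact ((W y).2.basicOpen a).isCompact

theorem range_subset_eqLocus {X Y Z : Scheme.{u}} (I : X.IdealSheafData) (J : Y.IdealSheafData)
    (K : Z.IdealSheafData) (hI : BlowUp.IsEffCartierIdeal I) (hJ : BlowUp.IsEffCartierIdeal J)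
    (hK : BlowUp.IsEffCartierIdeal K) (f : X ⟶ Y) (g : Y ⟶ Z) (hf : I ≤ J.comap f)
    (hg : J ≤ K.comap g) (hfg : I = K.comap (f ≫ g)) :
    Set.range f.base ⊆ (eqLocus J (K.comap g) : Set Y) := by
  rintro _ ⟨x, rfl⟩
  have hmin := isMinimal_of_comp I J K f g hf hg hfg
  obtain ⟨W, j, k, hyW, hj, hJ', hK'⟩ := exists_local_gens J K hJ hK g (f x)
  obtain ⟨a, ha⟩ : ∃ a, a * k = j := by
    have : j ∈ Ideal.span {k} := by
      rw [← hK']
      apply hg
      rw [hJ']
      exact Ideal.subset_span (Set.mem_singleton _)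
    exact Ideal.mem_span_singleton'.1 this
  have h1 := eqLocus_inf J (K.comap g) W j k a hj hJ' hK' ha
  obtain ⟨X', hX', hxX', hX'le, i, hi, hIi⟩ :=
    Groth.Agent.Lib.Helper20.EffCartier.exists_le_of_isEffCartierIdeal hI x (f ⁻¹ᵁ W.1) hyW
  let φ := (f.appLE W.1 X' hX'le).hom
  have hIj : I.ideal ⟨X', hX'⟩ = Ideal.span {φ j} := by
    rw [hmin, Groth.Agent.Lib.Helper20.EffCartier.ideal_comap_eq_map f J hX' W.2 hX'le]
    change (J.ideal W).map _ = _
    rw [hJ', Ideal.map_span, Set.image_singleton]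
  have hIk : I.ideal ⟨X', hX'⟩ = Ideal.span {φ k} := by
    rw [hfg, Scheme.IdealSheafData.comap_comp,
      Groth.Agent.Lib.Helper20.EffCartier.ideal_comap_eq_map f (K.comap g) hX' W.2 hX'le]
    change ((K.comap g).ideal W).map _ = _
    rw [hK', Ideal.map_span, Set.image_singleton]
  -- `φ k` is a nonzerodivisor
  have hφk : φ k ∈ Γ(X, X')⁰ := by
    have h2 : i ∈ Ideal.span {φ k} := by
      rw [← hIk, hIi]
      exact Ideal.subset_span (Set.mem_singleton _)
    obtain ⟨d, hd⟩ := Ideal.mem_span_singleton'.1 h2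
    rw [mem_nonZeroDivisors_iff_right]
    intro b hb
    apply (mem_nonZeroDivisors_iff_right.1 hi) b
    rw [← hd, mul_comm d, ← mul_assoc, hb, zero_mul]
  have h3 : φ k ∈ Ideal.span {φ j} := by
    rw [← hIj, hIk]
    exact Ideal.subset_span (Set.mem_singleton _)
  obtain ⟨c, hc⟩ := Ideal.mem_span_singleton'.1 h3
  have h4 : c * φ a = 1 := by
    have h5 : (c * φ a - 1) * φ k = 0 := by
      rw [sub_mul, one_mul, mul_assoc, ← map_mul, ha, hc, sub_self]
    exact sub_eq_zero.1 ((mem_nonZeroDivisors_iff_right.1 hφk) _ h5)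
  have hu : IsUnit (φ a) := IsUnit.of_mul_eq_one _ (by rw [mul_comm]; exact h4)
  have h6 : X.basicOpen (φ a) = X' := Scheme.basicOpen_of_isUnit _ hu
  have h7 : X.basicOpen (φ a) = X' ⊓ f ⁻¹ᵁ (Y.basicOpen a) := by
    have : φ a = (X.presheaf.map (homOfLE hX'le).op).hom ((f.app W.1).hom a) := rfl
    rw [this, Scheme.basicOpen_res, Scheme.Hom.preimage_basicOpen]
  have h8 : x ∈ f ⁻¹ᵁ (Y.basicOpen a) := by
    have : x ∈ X' ⊓ f ⁻¹ᵁ (Y.basicOpen a) := by
      rw [← h7, h6]
      exact hxX'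
    exact this.2
  have h9 : f x ∈ eqLocus J (K.comap g) ⊓ W.1 := by
    rw [h1]
    exact h8
  exact h9.1

theorem main {X Y Z : Scheme.{u}} (I : X.IdealSheafData) (J : Y.IdealSheafData)
    (K : Z.IdealSheafData) (hI : BlowUp.IsEffCartierIdeal I) (hJ : BlowUp.IsEffCartierIdeal J)
    (hK : BlowUp.IsEffCartierIdeal K) (f : X ⟶ Y) (g : Y ⟶ Z)
    (hf : ModPair.IsAmbient I J f) (hg : ModPair.IsAmbient J K g)
    (hfg : ModPair.IsMinimal I K (f ≫ g)) :
    ModPair.IsMinimal I J f ∧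
      ∃ U : Y.Opens, QuasiCompact U.ι ∧ Set.range f.base ⊆ (U : Set Y) ∧
        ModPair.IsMinimal (J.comap U.ι) K (U.ι ≫ g) := by
  refine ⟨isMinimal_of_comp I J K f g hf hg hfg, eqLocus J (K.comap g),
    quasiCompact_eqLocus_ι J K hJ hK g hg, range_subset_eqLocus I J K hI hJ hK f g hf hg hfg, ?_⟩
  change J.comap _ = K.comap _
  rw [Scheme.IdealSheafData.comap_comp]
  exact comap_eqLocus_ι J (K.comap g)

end Groth.Agent.Lib.T2H6.ModulusMin
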