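-- helper6 (team 2): a monomorphism into an algebraic stack with an fppf field point is empty or an
-- equivalence.
import Mathlib
import Groth.Agent.Lib.T2H6ClosedImm
import Groth.Agent.Lib.T2H6DiagSp
import Groth.Agent.Lib.T2H6ImmImage
import Groth.Agent.Lib.Helper15Descent
import Groth.Agent.Lib.Helper15SpMapRep
import Groth.Agent.S9929
import Groth.Agent.S10532

set_option autoImplicit false
set_option backward.isDefEq.respectTransparency false
set_option backward.isDefEq.respectTransparency.types false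
open CategoryTheory CategoryTheory.Functor CategoryTheory.Limits Opposite AlgebraicGeometry

universe u

namespace Groth.Agent.Lib.T2H6.MonoField

open Groth.Agent.Lib.Helper17 Groth.Agent.Lib.Helper15PtsTop Groth.Agent.Lib.Helper15PtsComp
  Groth.Agent.Lib.Helper15DiagBase Groth.Agent.Lib.Helper15LocQEngine Groth.Agent.Lib.Helper15Atlas
  Groth.Agent.Lib.Helper15DiagRepSp Groth.Agent.Lib.Helper15EquivRep
  Groth.Agent.Lib.Helper15UnivComp Groth.Agent.Lib.T2H6.ClosedSub Groth.Agent.Lib.T2H6.ClosedImm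
  Groth.Agent.Lib.Helper15SrcCancel

variable {S : Scheme.{u}}

/-- an isomorphism of sheaves is representable by isomorphisms of schemes -/
theorem repWith_isomorphisms_of_isIso {F G : AlgSp.Sp S} (f : F ⟶ G) [IsIso f] :
    AlgSp.RepWith (MorphismProperty.isomorphisms Scheme.{u}) f := by
  rw [AlgSp.repWith_iff]
  refine ⟨?_, ?_⟩
  · intro U g
    exact ⟨U, 𝟙 U, g ≫ inv f, by
      rw [CategoryTheory.Functor.map_id]
      exact IsPullback.of_vert_isIso ⟨by simp⟩⟩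
  · intro U V g fst snd sq
    have h1 : IsIso ((AlgSp.yon S).map snd) := sq.isIso_snd_of_isIso
    have h2 : IsIso snd := isIso_of_fully_faithful (AlgSp.yon S) snd
    exact (inferInstance : IsIso ((Over.forget S).map snd))

variable {𝒵' 𝒵 : AlgSt.Cat S}

/-- essential surjectivity implies essential surjectivity over the base for categories fibred in
groupoids -/
theorem essSurjOver_of_forall_exists_iso (h𝒵' : FibCat.IsFibGrpd 𝒵'.p) (h𝒵 : FibCat.IsFibGrpd 𝒵.p)
    (f : 𝒵' ⥤ᵇ 𝒵) (h : ∀ η : 𝒵.obj, ∃ ξ : 𝒵'.obj, Nonempty (f.obj ξ ≅ η)) : EssSurjOver f := by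
  intro η
  obtain ⟨z, ⟨k⟩⟩ := h η
  have hz : 𝒵.p.obj (f.obj z) = 𝒵'.p.obj z := f.w_obj z
  obtain ⟨z', φ, hφ⟩ := h𝒵'.exists_lift (x := z) (𝒵.p.map k.inv ≫ eqToHom hz)
  have h1 : 𝒵.p.IsHomLift (𝒵.p.map k.inv ≫ eqToHom hz) (f.map φ) := inferInstance
  have h2 : 𝒵.p.IsHomLift (𝒵.p.map k.inv) (f.map φ) :=
    (IsHomLift.lift_comp_eqToHom_iff 𝒵.p _ _ hz).1 h1
  have h3 : 𝒵.p.IsHomLift (𝒵.p.map k.inv ≫ 𝒵.p.map k.hom) (f.map φ ≫ k.hom) := inferInstance
  have h4 : 𝒵.p.map k.inv ≫ 𝒵.p.map k.hom = 𝟙 _ := by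
    rw [← Functor.map_comp, k.inv_hom_id, CategoryTheory.Functor.map_id]
  rw [h4] at h3
  have hiso : IsIso (f.map φ ≫ k.hom) :=
    IsFibGrpd.isIso_of_isHomLift_id h𝒵 (𝒵.p.obj η) _
  exact ⟨z', asIso (f.map φ ≫ k.hom), h3⟩

/-- a fully faithful functor representable by isomorphisms is an equivalence -/
theorem isEquivOver_of_repByAlgSpWith_isomorphisms (h𝒵' : FibCat.IsFibGrpd 𝒵'.p)
    (h𝒵 : FibCat.IsFibGrpd 𝒵.p) (f : 𝒵' ⥤ᵇ 𝒵) [f.toFunctor.Full] [f.toFunctor.Faithful]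
    (hf : AlgSt.RepByAlgSpWith (MorphismProperty.isomorphisms (AlgSp.Sp S)) f) :
    FibCat.IsEquivOver f := by
  have hf' : AlgSt.RepByAlgSpWith (AlgSp.RepWith (MorphismProperty.isomorphisms Scheme.{u})) f :=
    repByAlgSpWith_mono (fun _ _ g hg => by
      have : IsIso g := hg
      exact repWith_isomorphisms_of_isIso g) hf
  apply isEquivOver_of_fullyFaithful_of_essSurjOver
  apply essSurjOver_of_forall_exists_iso h𝒵' h𝒵
  intro η
  have := IsFibGrpd.isFibered h𝒵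
  obtain ⟨U, hx⟩ : ∃ U : Over S, 𝒵.p.obj η = U := ⟨_, rfl⟩
  obtain ⟨ι₀, -⟩ := yonedaFunctor_iso hx
  obtain ⟨V, G, hG, j, ⟨lam⟩, hj⟩ :=
    exists_scheme_chart_fp (MorphismProperty.isomorphisms Scheme.{u}) f hf' (yonedaFunctor hx)
  have hiso : IsIso j.left := hj
  exact exists_preimage_of_isIso_chart f (yonedaFunctor hx) ι₀ G j lam hiso


theorem bcStable_isomorphisms :
    Groth.Agent.Lib.Helper15DiagLft.BCStable (MorphismProperty.isomorphisms (AlgSp.Sp S)) :=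
  fun _ _ _ _ _ _ _ _ _ _ _ _ sq ha =>
    MorphismProperty.of_isPullback (P := MorphismProperty.isomorphisms (AlgSp.Sp S)) sq ha

/-- a monomorphism into an algebraic stack with an fppf field point is empty or an equivalence -/
theorem isEmpty_or_isEquivOver (h𝒵' : AlgSt.IsAlgStack Scheme.fppfPrecoverage 𝒵')
    (h𝒵 : AlgSt.IsAlgStack Scheme.fppfPrecoverage 𝒵) (f : 𝒵' ⥤ᵇ 𝒵) (hf : AlgSt.IsMono f)
    (k : Type u) [Field k] (a : Spec (CommRingCat.of k) ⟶ S)
    (z : FibCat.overCat (Over.mk a) ⥤ᵇ 𝒵)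
    (hzp : AlgSt.RepByAlgSpWith (AlgSp.LocP @LocallyOfFinitePresentation) z)
    (hzs : AlgSt.RepByAlgSpWith AlgSp.IsSurjectiveMor z)
    (hzf : AlgSt.RepByAlgSpWith (AlgSp.LocP @Flat) z) :
    IsEmpty (AlgSt.Points 𝒵') ∨ FibCat.IsEquivOver f := by
  by_cases hne : Nonempty (AlgSt.Points 𝒵')
  swap
  · exact Or.inl (not_nonempty_iff.1 hne)
  right
  obtain ⟨p'⟩ := hne
  have hf𝒵' := h𝒵'.isStack.1
  have hf𝒵 := h𝒵.isStack.1
  have hK := isAlgStack_overCat (Over.mk a)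
  have hKf : FibCat.IsFibGrpd (FibCat.overCat (Over.mk a)).p := hK.isStack.1
  have hff := Groth.Agent.Lib.Helper17.MonoFF.full_faithful_of_isMono hf𝒵' hf𝒵 f hf
  have := hff.1
  have := hff.2
  have hrep : AlgSt.RepByAlgSp1 f := repByAlgSp1_of_repByAlgSpWith _ _ hf
  have hzrep : AlgSt.RepByAlgSp1 z := repByAlgSp1_of_repByAlgSpWith _ _ hzf
  have hzS : AlgSt.IsSurjective z := (isSurjective_iff_repByAlgSpWith hK h𝒵 z hzrep).2 hzs
  -- the base change to the field point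
  obtain ⟨G, e, he, hmono⟩ := hf (Over.mk a) z
  -- it is nonempty
  obtain ⟨q, hq⟩ := hzS (AlgSt.Points.map f p')
  obtain ⟨ω, -, -⟩ := points_fp_surjective hf𝒵' hf𝒵 hKf f z q p' hq
  obtain ⟨ν, rfl⟩ := points_map_surjective_of_isEquivOver e he ω
  obtain ⟨g₀, rfl⟩ := (toSt_bijective G.obj).2 ν
  -- hence an isomorphism
  let φ : G ⟶ (AlgSp.ofScheme S).obj (Over.mk a) :=
    ObjectProperty.homMk (AlgSt.spMapOfOver (BasedFunctor.comp e (FibCat.fpFst z f)))
  have : Mono φ.hom := hmono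
  have hφ : IsIso φ :=
    (Groth.Agent.S9929.result a G φ).resolve_left (fun h => h.false g₀)
  have hφ' : IsIso φ.hom := (inferInstance : IsIso ((ObjectProperty.ι _).map φ))
  have h1 : AlgSt.RepByAlgSpWith (MorphismProperty.isomorphisms (AlgSp.Sp S))
      (AlgSt.ofSpMap φ.hom) :=
    Groth.Agent.Lib.Helper15SpMapRep.repByAlgSpWith_ofSpMap _ bcStable_isomorphisms G
      ((AlgSp.ofScheme S).obj (Over.mk a)) φ hφ'
  have h2 : AlgSt.RepByAlgSpWith (MorphismProperty.isomorphisms (AlgSp.Sp S))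
      (FibCat.fpFst z f) :=
    (repByAlgSpWith_of_square _ (FibCat.fpFst z f) (AlgSt.ofSpMap φ.hom) e
      (AlgSt.toOverCat (Over.mk a)) he (isEquivOver_toOverCat _)
      (Groth.Agent.Lib.T2H6.DiagSp.ofSpMapToOverCatIso
        (BasedFunctor.comp e (FibCat.fpFst z f)))).2 h1
  have h3 : AlgSt.RepByAlgSpWith (MorphismProperty.isomorphisms (AlgSp.Sp S)) f :=
    Groth.Agent.Lib.Helper15Descent.repByAlgSpWith_of_fpFst_of_cover _
      (Groth.Agent.Lib.Helper15DiagDescent.isLocalOnBase_fppf_of_fpqc _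
        (Groth.Agent.S10532.result S)) f hrep z hzf hzp hzs h2
  exact isEquivOver_of_repByAlgSpWith_isomorphisms hf𝒵' hf𝒵 f h3

end Groth.Agent.Lib.T2H6.MonoField
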