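-- helper6 (team 2): `Mor_S(X, U)` is an open subfunctor of `Mor_S(X, Y)` for `X` proper over `S` and
-- `U ⊆ Y` open.
import Mathlib
import Groth.Prelude.Def_Flatn

set_option autoImplicit false
set_option backward.isDefEq.respectTransparency false
set_option backward.isDefEq.respectTransparency.types false
open CategoryTheory CategoryTheory.Limits AlgebraicGeometry

universe u

namespace Groth.Agent.Lib.T2H6.MorOpen

variable {X Y U S : Scheme.{u}}

/-- `T ×_S X` as a scheme over `S` (through `X`). -/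
noncomputable abbrev PT (gX : X ⟶ S) (T : Over S) : Over S :=
  (Over.map gX).obj ((Over.pullback gX).obj T)

/-- the base change `T' ×_S X ⟶ T ×_S X` of `φ : T' ⟶ T`. -/
noncomputable abbrev PTmap (gX : X ⟶ S) {T T' : Over S} (φ : T' ⟶ T) : PT gX T' ⟶ PT gX T :=
  (Over.map gX).map ((Over.pullback gX).map φ)

/-- the morphism classified by `φ`. -/
noncomputable def cls (gX : X ⟶ S) (gY : Y ⟶ S) (M : Over S)
    (e : (Flatn.morS gX gY).RepresentableBy M) {T : Over S} (φ : T ⟶ M) :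
    PT gX T ⟶ Over.mk gY :=
  e.homEquiv φ

theorem cls_comp (gX : X ⟶ S) (gY : Y ⟶ S) (M : Over S)
    (e : (Flatn.morS gX gY).RepresentableBy M) {T T' : Over S} (f : T' ⟶ T) (φ : T ⟶ M) :
    cls gX gY M e (f ≫ φ) = PTmap gX f ≫ cls gX gY M e φ :=
  e.homEquiv_comp f φ

theorem cls_eq (gX : X ⟶ S) (gY : Y ⟶ S) (M : Over S)
    (e : (Flatn.morS gX gY).RepresentableBy M) {T : Over S} (φ : T ⟶ M) :
    cls gX gY M e φ = PTmap gX φ ≫ cls gX gY M e (𝟙 M) := by
  rw [← cls_comp, Category.comp_id]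

/-- the classifying morphism of `ψ`. -/
noncomputable def uncls (gX : X ⟶ S) (gY : Y ⟶ S) (M : Over S)
    (e : (Flatn.morS gX gY).RepresentableBy M) {T : Over S} (ψ : PT gX T ⟶ Over.mk gY) :
    T ⟶ M :=
  e.homEquiv.symm ψ

theorem cls_uncls (gX : X ⟶ S) (gY : Y ⟶ S) (M : Over S)
    (e : (Flatn.morS gX gY).RepresentableBy M) {T : Over S} (ψ : PT gX T ⟶ Over.mk gY) :
    cls gX gY M e (uncls gX gY M e ψ) = ψ :=
  e.homEquiv.apply_symm_apply _

theorem uncls_cls (gX : X ⟶ S) (gY : Y ⟶ S) (M : Over S)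
    (e : (Flatn.morS gX gY).RepresentableBy M) {T : Over S} (φ : T ⟶ M) :
    uncls gX gY M e (cls gX gY M e φ) = φ :=
  e.homEquiv.symm_apply_apply _

theorem range_PTmap_left (gX : X ⟶ S) {T M : Over S} (φ : T ⟶ M) :
    Set.range (PTmap gX φ).left = (pullback.fst M.hom gX) ⁻¹' Set.range φ.left := by
  have hq : (PTmap gX φ).left = pullback.map T.hom gX M.hom gX φ.left (𝟙 X) (𝟙 S)
      (by simp) (by simp) := by
    apply pullback.hom_ext <;> simp [PTmap]
  have h := Scheme.Pullback.range_map T.hom gX M.hom gX φ.left (𝟙 X) (𝟙 S) (by simp) (by simp)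
  rw [hq]
  refine h.trans ?_
  simp

theorem PTmap_left_fst (gX : X ⟶ S) {T M : Over S} (φ : T ⟶ M) :
    (PTmap gX φ).left ≫ pullback.fst M.hom gX = pullback.fst T.hom gX ≫ φ.left := by
  simp [PTmap]

/-- the open locus of `M ×_S X` where the universal morphism lands in `U`. -/
noncomputable def goodOpen (gX : X ⟶ S) (gY : Y ⟶ S) (j : U ⟶ Y) [IsOpenImmersion j]
    (M : Over S) (e : (Flatn.morS gX gY).RepresentableBy M) : (pullback M.hom gX).Opens :=
  (cls gX gY M e (𝟙 M)).left ⁻¹ᵁ j.opensRange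

/-- the open locus of `M` over which the universal morphism lands in `U`. -/
noncomputable def openLocus (gX : X ⟶ S) [IsProper gX] (gY : Y ⟶ S) (j : U ⟶ Y) [IsOpenImmersion j]
    (M : Over S) (e : (Flatn.morS gX gY).RepresentableBy M) : M.left.Opens :=
  ⟨((pullback.fst M.hom gX) '' (SetLike.coe (goodOpen gX gY j M e))ᶜ)ᶜ,
    ((pullback.fst M.hom gX).isClosedMap _
      (goodOpen gX gY j M e).isOpen.isClosed_compl).isOpen_compl⟩

theorem mem_openLocus_iff (gX : X ⟶ S) [IsProper gX] (gY : Y ⟶ S) (j : U ⟶ Y) [IsOpenImmersion j]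
    (M : Over S) (e : (Flatn.morS gX gY).RepresentableBy M) (m : M.left) :
    m ∈ openLocus gX gY j M e ↔
      ¬ ∃ z : ↥(pullback M.hom gX), z ∉ goodOpen gX gY j M e ∧ pullback.fst M.hom gX z = m :=
  Iff.rfl

theorem key (gX : X ⟶ S) [IsProper gX] (gY : Y ⟶ S) (j : U ⟶ Y) [IsOpenImmersion j]
    (M : Over S) (e : (Flatn.morS gX gY).RepresentableBy M) {T : Over S} (φ : T ⟶ M) :
    Set.range φ.left ⊆ (openLocus gX gY j M e : Set M.left) ↔
      Set.range (cls gX gY M e φ).left ⊆ Set.range j := by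
  have hcls : (cls gX gY M e φ).left = (PTmap gX φ).left ≫ (cls gX gY M e (𝟙 M)).left := by
    rw [cls_eq]; rfl
  constructor
  · rintro h _ ⟨t, rfl⟩
    rw [hcls, Scheme.Hom.comp_apply]
    by_contra hn
    have h1 : (PTmap gX φ).left t ∉ goodOpen gX gY j M e := hn
    have h2 : φ.left (pullback.fst T.hom gX t) ∈ openLocus gX gY j M e := h ⟨_, rfl⟩
    rw [mem_openLocus_iff] at h2
    apply h2
    refine ⟨_, h1, ?_⟩
    have h3 : ((PTmap gX φ).left ≫ pullback.fst M.hom gX) t =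
        (pullback.fst T.hom gX ≫ φ.left) t := by rw [PTmap_left_fst]; rfl
    exact h3
  · rintro h _ ⟨t₀, rfl⟩
    change φ.left t₀ ∈ openLocus gX gY j M e
    rw [mem_openLocus_iff]
    rintro ⟨z, hz, hzt⟩
    have h1 : z ∈ Set.range (PTmap gX φ).left := by
      rw [range_PTmap_left]
      exact ⟨t₀, hzt.symm⟩
    obtain ⟨t, rfl⟩ := h1
    apply hz
    have h2 := h ⟨t, rfl⟩
    rw [hcls, Scheme.Hom.comp_apply] at h2
    exact h2

section Rep

variable (gX : X ⟶ S) [IsProper gX] (gY : Y ⟶ S) (j : U ⟶ Y) [IsOpenImmersion j]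
  (M : Over S) (e : (Flatn.morS gX gY).RepresentableBy M)

/-- the inclusion of the open locus, as a morphism over `S`. -/
noncomputable abbrev incl : Over.mk ((openLocus gX gY j M e).ι ≫ M.hom) ⟶ M :=
  Over.homMk (openLocus gX gY j M e).ι rfl

/-- post-composition with `j`, over `S`. -/
noncomputable abbrev postJ : Over.mk (j ≫ gY) ⟶ Over.mk gY := Over.homMk j rfl

theorem ext_postJ {A : Over S} (a b : A ⟶ Over.mk (j ≫ gY))
    (h : a ≫ postJ gY j = b ≫ postJ gY j) : a = b := by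
  apply Over.OverMorphism.ext
  have h1 : a.left ≫ j = b.left ≫ j := congrArg (fun k => k.left) h
  exact (cancel_mono j).1 h1

theorem ext_incl {A : Over S} (a b : A ⟶ Over.mk ((openLocus gX gY j M e).ι ≫ M.hom))
    (h : a ≫ incl gX gY j M e = b ≫ incl gX gY j M e) : a = b := by
  apply Over.OverMorphism.ext
  have h1 : a.left ≫ (openLocus gX gY j M e).ι = b.left ≫ (openLocus gX gY j M e).ι :=
    congrArg (fun k => k.left) h
  exact (cancel_mono (openLocus gX gY j M e).ι).1 h1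

theorem range_fwd {T : Over S} (φ : T ⟶ Over.mk ((openLocus gX gY j M e).ι ≫ M.hom)) :
    Set.range (cls gX gY M e (φ ≫ incl gX gY j M e)).left ⊆ Set.range j := by
  apply (key gX gY j M e _).1
  rintro _ ⟨t, rfl⟩
  exact (φ.left t).2

noncomputable def fwd {T : Over S} (φ : T ⟶ Over.mk ((openLocus gX gY j M e).ι ≫ M.hom)) :
    PT gX T ⟶ Over.mk (j ≫ gY) :=
  Over.homMk (IsOpenImmersion.lift j (cls gX gY M e (φ ≫ incl gX gY j M e)).left
      (range_fwd gX gY j M e φ))
    (by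
      change IsOpenImmersion.lift j _ _ ≫ j ≫ gY = _
      rw [IsOpenImmersion.lift_fac_assoc]
      exact Over.w (cls gX gY M e _))

theorem fwd_postJ {T : Over S} (φ : T ⟶ Over.mk ((openLocus gX gY j M e).ι ≫ M.hom)) :
    fwd gX gY j M e φ ≫ postJ gY j = cls gX gY M e (φ ≫ incl gX gY j M e) := by
  apply Over.OverMorphism.ext
  change IsOpenImmersion.lift j _ _ ≫ j = _
  rw [IsOpenImmersion.lift_fac]

theorem range_bwd {T : Over S} (b : PT gX T ⟶ Over.mk (j ≫ gY)) :
    Set.range (uncls gX gY M e (b ≫ postJ gY j)).left ⊆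
      (openLocus gX gY j M e : Set M.left) := by
  apply (key gX gY j M e _).2
  rw [cls_uncls]
  rintro _ ⟨t, rfl⟩
  exact ⟨b.left t, rfl⟩

noncomputable def bwd {T : Over S} (b : PT gX T ⟶ Over.mk (j ≫ gY)) :
    T ⟶ Over.mk ((openLocus gX gY j M e).ι ≫ M.hom) :=
  Over.homMk (IsOpenImmersion.lift (openLocus gX gY j M e).ι
      (uncls gX gY M e (b ≫ postJ gY j)).left
      (fun x hx => ⟨⟨x, range_bwd gX gY j M e b hx⟩, rfl⟩))
    (by
      change IsOpenImmersion.lift (openLocus gX gY j M e).ι _ _ ≫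
        (openLocus gX gY j M e).ι ≫ M.hom = _
      rw [IsOpenImmersion.lift_fac_assoc]
      exact Over.w (uncls gX gY M e (b ≫ postJ gY j)))

theorem bwd_incl {T : Over S} (b : PT gX T ⟶ Over.mk (j ≫ gY)) :
    bwd gX gY j M e b ≫ incl gX gY j M e = uncls gX gY M e (b ≫ postJ gY j) := by
  apply Over.OverMorphism.ext
  change IsOpenImmersion.lift (openLocus gX gY j M e).ι _ _ ≫ (openLocus gX gY j M e).ι = _
  rw [IsOpenImmersion.lift_fac]

/-- the open locus represents `Mor_S(X, U)`. -/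
noncomputable def rep : (Flatn.morS gX (j ≫ gY)).RepresentableBy
    (Over.mk ((openLocus gX gY j M e).ι ≫ M.hom)) where
  homEquiv {T} :=
    { toFun := fun φ => fwd gX gY j M e φ
      invFun := fun b => bwd gX gY j M e b
      left_inv := fun φ => by
        apply ext_incl gX gY j M e
        rw [bwd_incl, fwd_postJ, uncls_cls]
      right_inv := fun b => by
        apply ext_postJ gY j
        rw [fwd_postJ, bwd_incl, cls_uncls] }
  homEquiv_comp := fun {T T'} f φ => by
    apply ext_postJ gY j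
    change fwd gX gY j M e (f ≫ φ) ≫ postJ gY j = (PTmap gX f ≫ fwd gX gY j M e φ) ≫ postJ gY j
    calc fwd gX gY j M e (f ≫ φ) ≫ postJ gY j
        = cls gX gY M e ((f ≫ φ) ≫ incl gX gY j M e) := fwd_postJ gX gY j M e _
      _ = cls gX gY M e (f ≫ (φ ≫ incl gX gY j M e)) := by rw [Category.assoc]
      _ = PTmap gX f ≫ cls gX gY M e (φ ≫ incl gX gY j M e) := cls_comp gX gY M e _ _
      _ = PTmap gX f ≫ (fwd gX gY j M e φ ≫ postJ gY j) := by rw [fwd_postJ]
      _ = (PTmap gX f ≫ fwd gX gY j M e φ) ≫ postJ gY j := (Category.assoc _ _ _).symm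

theorem main : ∃ (M₀ : M.left.Opens)
      (e₀ : (Flatn.morS gX (j ≫ gY)).RepresentableBy (Over.mk (M₀.ι ≫ M.hom))),
      ∀ (T : Over S) (φ : T ⟶ Over.mk (M₀.ι ≫ M.hom)),
        (e.homEquiv (φ ≫ Over.homMk M₀.ι rfl) :
            (Over.map gX).obj ((Over.pullback gX).obj T) ⟶ Over.mk gY) =
          (e₀.homEquiv φ : (Over.map gX).obj ((Over.pullback gX).obj T) ⟶ Over.mk (j ≫ gY)) ≫
            (Over.homMk j rfl : Over.mk (j ≫ gY) ⟶ Over.mk gY) :=
  ⟨openLocus gX gY j M e, rep gX gY j M e, fun _ φ => (fwd_postJ gX gY j M e φ).symm⟩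

end Rep

end Groth.Agent.Lib.T2H6.MorOpen
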