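import Mathlib
import Groth.Agent.Lib.T2H6TensorDegGen
set_option backward.isDefEq.respectTransparency.types false

/-!
# Nef invertible modules on a proper scheme of dimension one have nonnegative degree (helper6)

Dévissage: `Ψ_L(F) = χ(F ⊗ L) - χ(F)` is additive, vanishes on point-supported modules and on modules supported
on an integral curve `C` equals `rank · Ψ_L(O_C)`.
-/

set_option autoImplicit false
set_option linter.style.haveILetI false
set_option linter.unusedSectionVars false
universe u

open AlgebraicGeometry CategoryTheory Limits TopologicalSpace Opposite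

namespace Groth.Agent.Lib.T2H6.NefDeg

open Groth.Agent.Lib.T2H5.Twist Groth.Agent.Lib.T2H6.TensorDeg Groth.Agent.Lib.T2H6.AddFn
  Groth.Agent.Lib.Helper1.PT Groth.Agent.Lib.Helper21.ModTensor5 Groth.Agent.Lib.T2H5.ProjFLF
  Groth.Agent.Lib.T2H6.TensorDegGen Groth.Agent.Lib.T2H6.CurveSS2

variable {X : Scheme.{u}} (k : Type u) [Field k] [X.Over (Spec (CommRingCat.of k))]
  [IsProper (X ↘ Spec (CommRingCat.of k))]

/-- `Ψ_L ≥ 0` on coherent modules when `L` is nef. -/
theorem psi_nonneg_of_nef (hdim : topologicalKrullDim X ≤ 1) (L : X.Modules) (hL : PicF.IsInvertible L)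
    (hnef : ∀ C : X.IdealSheafData, IsIntegral C.subscheme →
      topologicalKrullDim (C.support : Set X) = 1 →
        0 ≤ Curv2.euler k X (CohB1.tensorMod (ClSub.quotMod C) L) - Curv2.euler k X (ClSub.quotMod C))
    (F : X.Modules) (hF : Coh.IsCoh F) : 0 ≤ TensorDeg.psi k L 1 F := by
  haveI : IsNoetherian X := Groth.Agent.Lib.T2H6.CurveSatur.isNoetherian_of_proper k
  have hV : FlatMod.IsFinLocFreeOfRank 1 L :=
    Groth.Agent.Lib.Helper23.SecTw.isFinLocFreeOfRank_one_of_isInvertible L hL
  have hΦ : IsAddFn (TensorDeg.psi k L 1) := isAddFn_psi k L 1 hV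
  have hp : VanishesOnPoints (TensorDeg.psi k L 1) := vanishesOnPoints_psi k L 1 hV
  refine Groth.Agent.Lib.T2H5.Devissage.core
    (fun M => Coh.IsCoh M → 0 ≤ TensorDeg.psi k L 1 M)
    ?_ ?_ ?_ Set.univ ?_ F hF (Set.subset_univ _) hF
  · rintro M N ⟨e⟩ hM hN
    have hMc : Coh.IsCoh M := Groth.Agent.Lib.T2H5.Devissage.isCoh_of_iso e.symm hN
    rw [← hΦ.iso e hMc]
    exact hM hMc
  · intro M hM _
    rw [hΦ.zero M hM]
  · intro S hS c1 c2 c3 hP1 hP3 _
    rw [hΦ.add S hS c1 c2 c3]
    exact add_nonneg (hP1 c1) (hP3 c3)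
  · intro Z hZ hirr _ _ M hM hk _
    by_cases hZd : 1 ≤ topologicalKrullDim Z
    · have hd1 : topologicalKrullDim Z = 1 :=
        le_antisymm ((topologicalKrullDim_subspace_le X Z).trans hdim) hZd
      set J := Scheme.IdealSheafData.vanishingIdeal ⟨Z, hZ⟩ with hJ
      letI : J.subscheme.Over (Spec (CommRingCat.of k)) :=
        ⟨J.subschemeι ≫ (X ↘ (Spec (CommRingCat.of k)))⟩
      haveI : IsProper (J.subscheme ↘ Spec (CommRingCat.of k)) :=
        inferInstanceAs (IsProper (J.subschemeι ≫ (X ↘ (Spec (CommRingCat.of k)))))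
      haveI : IsIntegral J.subscheme :=
        Groth.Agent.Lib.T2H5.GenIsoE.isIntegral_subscheme_vanishingIdeal Z hZ hirr
      haveI : IsNoetherian J.subscheme := Groth.Agent.Lib.T2H6.CurveSatur.isNoetherian_of_proper k
      have hsuppJ : topologicalKrullDim (J.support : Set X) = 1 := by
        rw [Scheme.IdealSheafData.coe_support_vanishingIdeal]
        exact hd1
      have hdimC : topologicalKrullDim J.subscheme = 1 := by
        rw [Groth.Agent.Lib.T2H6.AmpleComp.topologicalKrullDim_subscheme]
        exact hsuppJ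
      obtain ⟨G, hG, ⟨e⟩⟩ := Groth.Agent.S0786.result J.subschemeι M hM (by
        rw [Scheme.IdealSheafData.ker_subschemeι]
        exact hk)
      have hpG : Coh.IsCoh ((Scheme.Modules.pushforward J.subschemeι).obj G) :=
        Groth.Agent.Lib.T2H5.ClosedTransfer.isCoh_pushforward J.subschemeι G hG
      have hOc : Coh.IsCoh (Coh.structureModule J.subscheme) :=
        Groth.Agent.Lib.T2H5.GenIsoF.isCoh_structureModule
      have hO1 : FlatMod.IsFinLocFreeOfRank 1 (Coh.structureModule J.subscheme) :=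
        Groth.Agent.Lib.Helper23.SecTw.isFinLocFreeOfRank_one_of_isInvertible _
          (Groth.Agent.Lib.Helper23.TensorUnit.isInvertible_structureModule _)
      have h0 := hnef J inferInstance hsuppJ
      have h1 := psi_pushforward k J.subschemeι rfl hdimC L 1 hV _ hOc
      rw [grank_of_isFinLocFreeOfRank _ 1 hO1] at h1
      have h2 : 0 ≤ Curv2.deg k J.subscheme ((Scheme.Modules.pullback J.subschemeι).obj L) 1 := by
        have : TensorDeg.psi k L 1 (ClSub.quotMod J) =
            Curv2.euler k X (CohB1.tensorMod (ClSub.quotMod J) L) - Curv2.euler k X (ClSub.quotMod J) := by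
          unfold TensorDeg.psi
          push_cast
          ring
        rw [← this] at h0
        change 0 ≤ TensorDeg.psi k L 1 ((Scheme.Modules.pushforward J.subschemeι).obj
          (Coh.structureModule J.subscheme)) at h0
        rw [h1] at h0
        simpa using h0
      rw [← hΦ.iso e hpG, psi_pushforward k J.subschemeι rfl hdimC L 1 hV G hG]
      exact mul_nonneg (Int.natCast_nonneg _) h2
    · have hZ0 := Groth.Agent.Lib.T2H6.AmpleComp.le_zero_of_not_one_le _ hZd
      have hpts : ∀ x ∈ Z, IsClosed ({x} : Set X) := fun x hx =>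
        Groth.Agent.Lib.T2H6.AddFnB.isClosed_singleton_of_dim_le_zero Z hZ hZ0 x hx
      have hsupp := Groth.Agent.Lib.T2H6.AmpleComp.support_subset_of_killed _ M hM hk
      rw [Scheme.IdealSheafData.coe_support_vanishingIdeal] at hsupp
      have hpts' : ∀ x ∈ CohB1.support M, IsClosed ({x} : Set X) := fun x hx => hpts x (hsupp hx)
      rw [Groth.Agent.Lib.T2H6.AddFnB.IsAddFn.eq_zero_of_closedPoints hΦ hp M hM hpts']

/-- **A nef invertible module on a proper scheme of dimension `≤ 1` has nonnegative degree.** -/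
theorem deg_nonneg_of_nef (hdim : topologicalKrullDim X ≤ 1) (L : X.Modules) (hL : PicF.IsInvertible L)
    (hnef : ∀ C : X.IdealSheafData, IsIntegral C.subscheme →
      topologicalKrullDim (C.support : Set X) = 1 →
        0 ≤ Curv2.euler k X (CohB1.tensorMod (ClSub.quotMod C) L) - Curv2.euler k X (ClSub.quotMod C)) :
    0 ≤ Curv2.deg k X L 1 := by
  have hV : FlatMod.IsFinLocFreeOfRank 1 L :=
    Groth.Agent.Lib.Helper23.SecTw.isFinLocFreeOfRank_one_of_isInvertible L hL
  have hVc := Groth.Agent.Lib.T2H6.RankAdd.isCoh_of_isFinLocFreeOfRank L 1 hV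
  have hOc : Coh.IsCoh (Coh.structureModule X) :=
    Groth.Agent.Lib.T2H5.GenIsoF.isCoh_structureModule
  have key := psi_nonneg_of_nef k hdim L hL hnef _ hOc
  obtain ⟨ε'⟩ := Groth.Agent.Lib.T2H6.TensorFree.nonempty_unitTensorIso' L
  have h3 : Curv2.euler k X (CohB1.tensorMod (Coh.structureModule X) L) = Curv2.euler k X L :=
    Groth.Agent.Lib.T2H6.HiggsCurve.euler_eq_of_iso k ε' (isCoh_tensor _ L hOc hVc)
  unfold TensorDeg.psi at key
  rw [h3] at key
  unfold Curv2.deg
  push_cast at key ⊢
  linarith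

end Groth.Agent.Lib.T2H6.NefDeg
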