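import Mathlib
import Groth.Prelude.Def_Curv2
import Groth.Agent.Lib.T2H6CurveVB
import Groth.Agent.Lib.T2H6CurveSS
import Groth.Agent.Lib.T2H6CurveExt
import Groth.Agent.Lib.Helper1Sky9

/-!
# Nefness (curve test form) in short exact sequences (helper6)
-/

set_option autoImplicit false
universe u

open AlgebraicGeometry CategoryTheory Limits

namespace Groth.Agent.Lib.T2H6.NefSES

variable {C : Scheme.{u}}

theorem isCoh_of_isFinLocFree (E : C.Modules) (hE : FlatMod.IsFinLocFree E) : Coh.IsCoh E := by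
  haveI hfp : SheafOfModules.IsFinitePresentation (R := C.ringCatSheaf) E :=
    Groth.Agent.Lib.Helper2.LocFree.isFP_of_isFinLocFree E hE
  exact ⟨inferInstance, inferInstance⟩

variable [IsIntegral C] (k : Type u) [Field k] [C.Over (Spec (CommRingCat.of k))]
  [IsProper (C ↘ Spec (CommRingCat.of k))]

/-- On a regular proper integral curve: if `A → B → D → 0` is exact, every invertible quotient of
`A` and of `D` has nonnegative degree, then so does every invertible quotient of `B`. -/
theorem deg_nonneg_of_quotient (hdim : topologicalKrullDim C = 1)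
    (hreg : ∀ x : C, IsRegularLocalRing (C.presheaf.stalk x))
    (T : ShortComplex C.Modules) (hT : T.Exact) (hg : Epi T.g) (hA : Coh.IsCoh T.X₁)
    (M : C.Modules) (hM : PicF.IsInvertible M) (q : T.X₂ ⟶ M) (hq : Epi q)
    (h₁ : ∀ (I : C.Modules), PicF.IsInvertible I → ∀ π : T.X₁ ⟶ I, Epi π →
      0 ≤ Curv2.deg k C I 1)
    (h₃ : ∀ r : T.X₃ ⟶ M, Epi r → 0 ≤ Curv2.deg k C M 1) : 0 ≤ Curv2.deg k C M 1 := by
  haveI : IsLocallyNoetherian C := Groth.Agent.Lib.T2H6.CurveDeg.isLocallyNoetherian k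
  haveI := hg
  haveI := hq
  have hM1 := Groth.Agent.Lib.Helper23.SecTw.isFinLocFreeOfRank_one_of_isInvertible M hM
  have hMc := Groth.Agent.Lib.T2H6.RankAdd.isCoh_of_isFinLocFreeOfRank M 1 hM1
  by_cases h0 : T.f ≫ q = 0
  · have hfac : T.g ≫ hT.desc q h0 = q := hT.g_desc q h0
    exact h₃ (hT.desc q h0) (epi_of_epi_fac hfac)
  · have hIc : Coh.IsCoh (Abelian.image (T.f ≫ q)) :=
      Groth.Agent.Lib.T2H6.CurveVB.isCoh_image _ hA hMc
    haveI := hIc.1
    obtain ⟨r', hr', hI⟩ := Groth.Agent.Lib.T2H6.CurveVB.isFinLocFreeOfRank_of_mono hdim.le hreg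
      (Abelian.image.ι (T.f ≫ q)) 1 hM1
    have hr1 : r' = 1 := by
      rcases Nat.eq_zero_or_pos r' with hz | hz
      · subst hz
        exact absurd (Groth.Agent.Lib.T2H6.CurveSS.eq_zero_of_isZero_image _
          (Groth.Agent.Lib.T2H6.CurveVB.isZero_of_rank_zero _ hI)) h0
      · omega
    subst hr1
    have hIinv := Groth.Agent.Lib.T2H6.CurveExt.isInvertible_of_rank_one _ hI
    have hd1 := h₁ _ hIinv (Abelian.factorThruImage (T.f ≫ q)) inferInstance
    have hι : Abelian.image.ι (T.f ≫ q) ≠ 0 := by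
      intro hz
      apply h0
      rw [← Abelian.image.fac (T.f ≫ q), hz, comp_zero]
    have hd2 := Groth.Agent.Lib.T2H6.CurveDeg.deg_le k hdim hIinv hM _ hι
    omega

end Groth.Agent.Lib.T2H6.NefSES
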