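import Mathlib
import Groth.Agent.Lib.T2H6NegVanG
import Groth.Agent.Lib.T2H5T2Les
set_option backward.isDefEq.respectTransparency.types false

/-!
# Effective Cartier divisors as zero schemes, and cohomology of the thickenings of an ample divisor (T2H6)

* `secOfInv I L φ`: the canonical section of `L = O(D)` from `φ : I ⊗ L ≅ O`; it is regular and `Z(s) = D`.
* `zeroScheme_powHom`: `Z(s^q) = Z(s)^q` (as ideal sheaves).
* `exists_forall_subsingleton_HH_idealMod_pow`: `H^i(X, 𝓘^m) = 0` for `i ≤ n`, `m ≫ 0` (ample `D`, depth `> n`).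
* `exists_forall_bijective_injective_toSubscheme_pow`: `H^i(O_X) → H^i(O_X/𝓘^{m+1})`.
-/

set_option autoImplicit false
set_option linter.style.haveILetI false
set_option linter.unusedSectionVars false
universe u

open CategoryTheory TopCat TopologicalSpace Opposite AlgebraicGeometry Limits

namespace Groth.Agent.Lib.T2H6.NegVan

open Groth.Agent.Lib.Helper23.SecTw Groth.Agent.Lib.Helper23.GenLocus Groth.Agent.Lib.Helper6
  Groth.Agent.Lib.Helper23.TensorMap Groth.Agent.Lib.T2H4.AmpleCartier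
  Groth.Agent.Lib.T2H3.ZeroScheme Groth.Agent.Lib.Helper23.Extend Groth.Agent.Helper18OmLS
  Groth.Agent.Lib.Helper23.Serre Groth.Agent.Lib.T2H6.TensorPows

section SecOfInv

variable {X : Scheme.{u}} (I : X.IdealSheafData) (L : X.Modules)
  (φ : CohB1.tensorMod (ClSub.idealMod I) L ≅ Coh.structureModule X)

/-- the canonical section of `L = O(D)`, for `φ : I ⊗ L ≅ O_X`. -/
noncomputable def secOfInv : Coh.structureModule X ⟶ L :=
  φ.inv ≫ mulHom (ClSub.idealModι I) L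

theorem exists_unit_sv_secOfInv (W : X.Opens) (a : Γ(ClSub.idealMod I, W))
    (ha : IsGen (ClSub.idealMod I) W a) (e : Γ(L, W)) (he : IsGen L W e) :
    ∃ v : (Γ(X, W))ˣ, sv (secOfInv I L φ) W = ((v : Γ(X, W)) * ιf I W a) • e := by
  have ht : IsGen _ W (tm (ClSub.idealMod I) L W a e) := isGen_tm _ _ _ a e ha he
  have hφt : IsGen (Coh.structureModule X) W (φ.hom.app W (tm (ClSub.idealMod I) L W a e)) :=
    isGen_of_iso' φ ht
  obtain ⟨u, hu⟩ : ∃ u : Γ(X, W), u = ofS W (φ.hom.app W (tm (ClSub.idealMod I) L W a e)) := ⟨_, rfl⟩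
  have hu1 : φ.hom.app W (tm (ClSub.idealMod I) L W a e) = u • toS W 1 := by
    rw [smul_toS, mul_one, hu, toS_ofS]
  have hunit : IsUnit u := by
    rw [hu1] at hφt
    exact (Groth.Agent.Lib.Helper23.GenNear.isGen_smul_iff (isGen_one W) u).1 hφt
  obtain ⟨v, hv⟩ := hunit
  have h2 : φ.inv.app W (toS W 1) = (↑v⁻¹ : Γ(X, W)) • tm (ClSub.idealMod I) L W a e := by
    have h3 : φ.inv.app W (φ.hom.app W (tm (ClSub.idealMod I) L W a e)) =
        tm (ClSub.idealMod I) L W a e := by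
      have := congrArg (fun ψ => Scheme.Modules.Hom.app ψ W (tm (ClSub.idealMod I) L W a e)) φ.hom_inv_id
      exact this
    rw [hu1, Scheme.Modules.Hom.app_smul] at h3
    rw [← h3, ← mul_smul, ← hv, Units.inv_mul, one_smul]
  refine ⟨v⁻¹, ?_⟩
  have h5 : sv (secOfInv I L φ) W =
      (mulHom (ClSub.idealModι I) L).app W (φ.inv.app W (toS W 1)) := by
    have h6 := app_toS (secOfInv I L φ) W 1
    rw [one_smul] at h6
    rw [← h6]
    rfl
  rw [h5, h2, Scheme.Modules.Hom.app_smul, mulHom_tm, mul_smul]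
  rfl

theorem ιf_regular (W : X.Opens) (a : Γ(ClSub.idealMod I, W)) (ha : IsGen (ClSub.idealMod I) W a)
    (r : Γ(X, W)) (h : r * ιf I W a = 0) : r = 0 := by
  have h1 : ιf I W (r • a) = ιf I W 0 := by rw [ιf_smul, h, ιf_zero]
  have h2 : r • a = 0 := ιf_injective I W h1
  apply (ha W le_rfl).1
  simp only [res_self]
  rw [h2, zero_smul]

variable (hI : PicF.IsInvertible (ClSub.idealMod I)) (hL : PicF.IsInvertible L)

include hI hL in
theorem isBasis_gen₂ : Opens.IsBasis {W : X.Opens | IsAffineOpen W ∧ (∃ e : Γ(L, W), IsGen L W e) ∧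
    ∃ a : Γ(ClSub.idealMod I, W), IsGen (ClSub.idealMod I) W a} := by
  rw [Opens.isBasis_iff_nbhd]
  intro U x hx
  obtain ⟨W₀, e₀, hxW₀, he₀⟩ := exists_gen L hL x
  obtain ⟨W₁, a₁, hxW₁, ha₁⟩ := exists_gen (ClSub.idealMod I) hI x
  obtain ⟨V, hV, hxV, hVU⟩ := (Opens.isBasis_iff_nbhd.1 X.isBasis_affineOpens)
    (show x ∈ W₀ ⊓ W₁ ⊓ U from ⟨⟨hxW₀, hxW₁⟩, hx⟩)
  exact ⟨V, ⟨hV, ⟨res L (hVU.trans (inf_le_left.trans inf_le_left)) e₀,
      he₀.mono (hVU.trans (inf_le_left.trans inf_le_left))⟩,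
    ⟨res _ (hVU.trans (inf_le_left.trans inf_le_right)) a₁,
      ha₁.mono (hVU.trans (inf_le_left.trans inf_le_right))⟩⟩, hxV, hVU.trans inf_le_right⟩

include hI hL in
theorem mono_secOfInv : Mono (secOfInv I L φ) := by
  apply mono_of_injective_app_basis _ _ (isBasis_gen₂ I L hI hL)
  rintro W ⟨-, ⟨e, he⟩, ⟨a, ha⟩⟩ x y hxy
  obtain ⟨v, hv⟩ := exists_unit_sv_secOfInv I L φ W a ha e he
  have hx : (secOfInv I L φ).app W (toS W (ofS W x)) = (secOfInv I L φ).app W (toS W (ofS W y)) := hxy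
  rw [app_toS, app_toS, hv, smul_smul, smul_smul] at hx
  have h1 : ofS W x * ((v : Γ(X, W)) * ιf I W a) = ofS W y * ((v : Γ(X, W)) * ιf I W a) := by
    apply (he W le_rfl).1
    simp only [res_self]
    exact hx
  have h2 : ((ofS W x - ofS W y) * (v : Γ(X, W))) * ιf I W a = 0 := by
    rw [mul_assoc, sub_mul, h1, sub_self]
  have h3 := ιf_regular I W a ha _ h2
  have h4 : ofS W x - ofS W y = 0 := by
    have := congrArg (· * ((v⁻¹ : (Γ(X, W))ˣ) : Γ(X, W))) h3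
    simpa [mul_assoc] using this
  exact congrArg (toS W) (sub_eq_zero.1 h4)

include hI hL in
theorem zeroScheme_secOfInv : PicF2.zeroScheme L (secOfInv I L φ) = I := by
  have hB := isBasis_gen₂ I L hI hL
  let ι' := {W : X.Opens // IsAffineOpen W ∧ (∃ e : Γ(L, W), IsGen L W e) ∧
    ∃ a : Γ(ClSub.idealMod I, W), IsGen (ClSub.idealMod I) W a}
  let U : ι' → X.affineOpens := fun W => ⟨W.1, W.2.1⟩
  refine Scheme.IdealSheafData.ext_of_iSup_eq_top U ?_ ?_
  · rw [eq_top_iff]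
    intro x _
    obtain ⟨W, hW, hxW, -⟩ := (Opens.isBasis_iff_nbhd.1 hB) (show x ∈ (⊤ : X.Opens) from trivial)
    exact Opens.mem_iSup.2 ⟨⟨W, hW⟩, hxW⟩
  · rintro ⟨W, hW, ⟨e, he⟩, ⟨a, ha⟩⟩
    obtain ⟨v, hv⟩ := exists_unit_sv_secOfInv I L φ W a ha e he
    change (PicF2.zeroScheme L (secOfInv I L φ)).ideal ⟨W, hW⟩ = I.ideal ⟨W, hW⟩
    rw [zeroScheme_ideal L _ hL ⟨W, hW⟩, zI_eq_span L _ he hv,
      ideal_eq_span I W a ha ⟨W, hW⟩ le_rfl]
    have h1 : resf (le_refl W) (ιf I W a) = ιf I W a := by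
      change (X.presheaf.map (homOfLE (le_refl W)).op).hom (ιf I W a) = ιf I W a
      have : (homOfLE (le_refl W)).op = 𝟙 (op W) := rfl
      rw [this, X.presheaf.map_id]
      rfl
    rw [h1]
    exact Ideal.span_singleton_mul_left_unit v.isUnit _

end SecOfInv

section PowHom

variable {X : Scheme.{u}} (L : X.Modules) (hL : PicF.IsInvertible L)
  (s : Coh.structureModule X ⟶ L)

include hL in
/-- `Z(s^q) = Z(s)^q`. -/
theorem zeroScheme_powHom (q : ℕ) :
    PicF2.zeroScheme (CohB1.tensorPow L q) (SecTwist.powHom s q) = (PicF2.zeroScheme L s) ^ q := by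
  have hB := isBasis_gen L hL
  have hLq := Groth.Agent.Lib.Helper23.SecTw.isInvertible_tensorPow hL q
  let ι' := {W : X.Opens // IsAffineOpen W ∧ ∃ e : Γ(L, W), IsGen L W e}
  let U : ι' → X.affineOpens := fun W => ⟨W.1, W.2.1⟩
  refine Scheme.IdealSheafData.ext_of_iSup_eq_top U ?_ ?_
  · rw [eq_top_iff]
    intro x _
    obtain ⟨W, hW, hxW, -⟩ := (Opens.isBasis_iff_nbhd.1 hB) (show x ∈ (⊤ : X.Opens) from trivial)
    exact Opens.mem_iSup.2 ⟨⟨W, hW⟩, hxW⟩
  · rintro ⟨W, hW, e, he⟩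
    have hc := sv_eq_coef_smul s he
    set c := coef he le_rfl (sv s W) with hcdef
    have hq : sv (SecTwist.powHom s q) W = c ^ q • pw L W e q := by
      rw [sv_powHom, hc, pw_smul]
    change (PicF2.zeroScheme (CohB1.tensorPow L q) (SecTwist.powHom s q)).ideal ⟨W, hW⟩ =
      ((PicF2.zeroScheme L s) ^ q).ideal ⟨W, hW⟩
    rw [zeroScheme_ideal _ _ hLq ⟨W, hW⟩, zI_eq_span _ _ (isGen_pw L W e he q) hq,
      Scheme.IdealSheafData.ideal_pow, Pi.pow_apply, zeroScheme_ideal L s hL ⟨W, hW⟩,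
      zI_eq_span L s he hc, Ideal.span_singleton_pow]

end PowHom

section Main

variable (k : Type u) [Field k] {X : Scheme.{u}} [X.Over (Spec (CommRingCat.of k))]
  [IsProper (X ↘ Spec (CommRingCat.of k))]

include k in
/-- `H^i(X, 𝓘^m) = 0` for `i ≤ n` and `m ≫ 0`, for the ideal `𝓘` of an ample effective Cartier divisor on a
proper `k`-scheme with `depth O_{X,x} > n` at all closed points. -/
theorem exists_forall_subsingleton_HH_idealMod_pow (𝓘 : X.IdealSheafData) (L : X.Modules)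
    (hL : ClSub.IsInverseOf L (ClSub.idealMod 𝓘)) (hamp : CohB1.IsAmple L) (n : ℕ)
    (hdepth : ∀ x : X, IsClosed ({x} : Set X) →
      (n : ℕ∞) < LocCoh.depth (X.presheaf.stalk x) (X.presheaf.stalk x)) :
    ∃ m₀ : ℕ, ∀ m : ℕ, m₀ ≤ m → ∀ i : ℕ, i ≤ n →
      Subsingleton (Coh.HH X (ClSub.idealMod (𝓘 ^ m)) i) := by
  obtain ⟨eLM⟩ := hL
  have hLi : PicF.IsInvertible L := hamp.1
  have eML : CohB1.tensorMod (ClSub.idealMod 𝓘) L ≅ Coh.structureModule X :=
    braidIso (ClSub.idealMod 𝓘) L ≪≫ eLM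
  have hMi : PicF.IsInvertible (ClSub.idealMod 𝓘) :=
    Groth.Agent.Lib.Helper2.TensorInv.isInvertible_of_tensor_iso (ClSub.idealMod 𝓘) L eML
  have hO : Coh.IsCoh (Coh.structureModule X) := Groth.Agent.Lib.T2H5.GenIsoF.isCoh_structureModule
  obtain ⟨m₀, h⟩ := exists_forall_subsingleton_HH_le k L hamp (ClSub.idealMod 𝓘) ⟨eLM⟩
    (Coh.structureModule X) hO n
    (fun x hx => by
      have h1 : LocCoh.depth (X.presheaf.stalk x) ((Coh.structureModule X).presheaf.stalk x) =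
          LocCoh.depth (X.presheaf.stalk x) (X.presheaf.stalk x) :=
        Groth.Agent.Lib.Helper28.idealDepth_congr
          (Groth.Agent.Lib.Helper23.UnitStalk.unitStalkEquiv x).symm _
      rw [h1]
      exact hdepth x hx)
  refine ⟨m₀, fun m hm i hi => ?_⟩
  haveI := mono_secOfInv 𝓘 L eML hMi hLi
  have hZ : PicF2.zeroScheme L (secOfInv 𝓘 L eML) = 𝓘 := zeroScheme_secOfInv 𝓘 L eML hMi hLi
  have hLq := Groth.Agent.Lib.Helper23.SecTw.isInvertible_tensorPow hLi m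
  haveI := mono_powHom L hLi (secOfInv 𝓘 L eML) m
  obtain ⟨a⟩ := nonempty_tensor_idealMod_zeroScheme_iso (CohB1.tensorPow L m) hLq
    (SecTwist.powHom (secOfInv 𝓘 L eML) m)
  rw [zeroScheme_powHom L hLi (secOfInv 𝓘 L eML) m, hZ] at a
  obtain ⟨e1⟩ := Groth.Agent.Lib.Helper23.SecTw.nonempty_tensorPow_tensorMod_iso
    (ClSub.idealMod 𝓘) L hMi hLi m
  have b : CohB1.tensorMod (CohB1.tensorPow (ClSub.idealMod 𝓘) m) (CohB1.tensorPow L m) ≅
      Coh.structureModule X :=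
    e1 ≪≫ Groth.Agent.Lib.Helper23.AmpleIso.tensorPowIso eML m ≪≫
      Groth.Agent.Lib.Helper23.TensorUnit.tensorPowUnitIso m
  have c : CohB1.tensorMod (CohB1.tensorPow L m) (CohB1.tensorPow (ClSub.idealMod 𝓘) m) ≅
      Coh.structureModule X := braidIso _ _ ≪≫ b
  have eJ : ClSub.idealMod (𝓘 ^ m) ≅
      CohB1.tensorMod (Coh.structureModule X) (CohB1.tensorPow (ClSub.idealMod 𝓘) m) :=
    isoOfInverse a b c ≪≫ (Groth.Agent.Lib.Helper23.TensorUnit.unitTensorIso _).symm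
  exact (Groth.Agent.Lib.T2H6.FieldBC.subsingleton_HH_iff_of_iso k X eJ i).2 (h m hm i hi)

include k in
/-- `H^i(X, O_X) → H^i(X, O_X/𝓘^{m+1})` is bijective for `i < n` and injective for `i = n`, `m ≫ 0`. -/
theorem exists_forall_bijective_injective_toSubscheme_pow (𝓘 : X.IdealSheafData) (L : X.Modules)
    (hL : ClSub.IsInverseOf L (ClSub.idealMod 𝓘)) (hamp : CohB1.IsAmple L) (n : ℕ)
    (hdepth : ∀ x : X, IsClosed ({x} : Set X) →
      (n : ℕ∞) < LocCoh.depth (X.presheaf.stalk x) (X.presheaf.stalk x)) :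
    ∃ m₀ : ℕ, ∀ m : ℕ, m₀ ≤ m →
      (∀ i : ℕ, i < n → Function.Bijective (Sheaf.H.map
        ((SheafOfModules.toSheaf X.ringCatSheaf).map (ClSub.toSubscheme (𝓘 ^ (m + 1)))) i)) ∧
      Function.Injective (Sheaf.H.map
        ((SheafOfModules.toSheaf X.ringCatSheaf).map (ClSub.toSubscheme (𝓘 ^ (m + 1)))) n) := by
  obtain ⟨m₀, h⟩ := exists_forall_subsingleton_HH_idealMod_pow k 𝓘 L hL hamp n hdepth
  refine ⟨m₀, fun m hm => ?_⟩
  have hS := Groth.Agent.Lib.T2H6.AmpleCrit.idealSC_shortExact (𝓘 ^ (m + 1))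
  have hinj : ∀ i : ℕ, i ≤ n → Function.Injective
      (Canon.HHlin k (Groth.Agent.Lib.T2H6.AmpleCrit.idealSC (𝓘 ^ (m + 1))).g i) := by
    intro i hi
    haveI : Subsingleton (Coh.HH X (Groth.Agent.Lib.T2H6.AmpleCrit.idealSC (𝓘 ^ (m + 1))).X₁ i) :=
      h (m + 1) (hm.trans (Nat.le_succ m)) i hi
    rw [← LinearMap.ker_eq_bot, Groth.Agent.Lib.T2H5.T2Les.exact₂ _ hS i, LinearMap.range_eq_bot]
    exact Subsingleton.elim _ _
  have hsurj : ∀ i : ℕ, i < n → Function.Surjective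
      (Canon.HHlin k (Groth.Agent.Lib.T2H6.AmpleCrit.idealSC (𝓘 ^ (m + 1))).g i) := by
    intro i hi
    haveI : Subsingleton (Coh.HH X (Groth.Agent.Lib.T2H6.AmpleCrit.idealSC (𝓘 ^ (m + 1))).X₁
        (i + 1)) := h (m + 1) (hm.trans (Nat.le_succ m)) (i + 1) hi
    rw [← LinearMap.range_eq_top, ← Groth.Agent.Lib.T2H5.HHLes.exact₃ (A := k) _ hS i,
      LinearMap.ker_eq_top]
    exact Subsingleton.elim _ _
  exact ⟨fun i hi => ⟨hinj i hi.le, hsurj i hi⟩, hinj n le_rfl⟩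

end Main

end Groth.Agent.Lib.T2H6.NegVan
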