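import Mathlib
import Groth.Agent.Lib.T2H6NegVanL
import Groth.Agent.Lib.T2H6PosA
import Groth.Agent.Lib.T2H6EmbPtE
import Groth.Agent.Lib.Helper23SecTw10
set_option backward.isDefEq.respectTransparency.types false

/-!
# Invertible modules as differences of effective Cartier divisors (T2H6)

* `mono_of_ass_le_genLocus`: a section of an invertible module not vanishing at the associated points is regular.
* `isEffCartierIdeal_zeroScheme`: the zero scheme of a regular section is an effective Cartier divisor.
* `exists_effCartier_difference`: on a Noetherian scheme with an ample module, `N ⊗ I_D ≅ I_{D'}` with `D`, `D'`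
  effective Cartier divisors avoiding a given finite set.
-/

set_option autoImplicit false
set_option linter.style.haveILetI false
set_option linter.unusedSectionVars false
universe u

open CategoryTheory TopCat TopologicalSpace Opposite AlgebraicGeometry Limits

namespace Groth.Agent.Lib.T2H6.NegVan

open Groth.Agent.Lib.Helper23.SecTw Groth.Agent.Lib.Helper23.GenLocus Groth.Agent.Lib.Helper6
  Groth.Agent.Lib.Helper23.TensorMap Groth.Agent.Lib.T2H4.AmpleCartier
  Groth.Agent.Lib.T2H3.ZeroScheme Groth.Agent.Lib.Helper23.Extend Groth.Agent.Helper18OmLS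
  Groth.Agent.Lib.Helper23.Serre Groth.Agent.Lib.T2H6.TensorPows Groth.Agent.Lib.T2H5.Twist
  Groth.Agent.Lib.T2H4.AmpleFamRes

section Regular

variable {X : Scheme.{u}} (L : X.Modules) (hL : PicF.IsInvertible L)
  (s : Coh.structureModule X ⟶ L)

include hL in
/-- a section of an invertible module which generates at all associated points of `X` is regular. -/
theorem mono_of_ass_le_genLocus [IsLocallyNoetherian X]
    (hass : ∀ y : X, Curv2.IsAssPoint (Coh.structureModule X) y → y ∈ CohB1.genLocus L s) :
    Mono s := by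
  haveI : (Coh.structureModule X).IsQuasicoherent :=
    Groth.Agent.Lib.Helper23.Serre.isQuasicoherent_structureModule' X
  apply mono_of_injective_app_basis _ _ (isBasis_gen L hL)
  rintro W ⟨hW, e, he⟩ a b hab
  have hc := sv_eq_coef_smul s he
  set c := coef he le_rfl (sv s W) with hcdef
  have ha : s.app W (toS W (ofS W a)) = s.app W (toS W (ofS W b)) := hab
  rw [app_toS, app_toS, hc, smul_smul, smul_smul] at ha
  have h1 : ofS W a * c = ofS W b * c := by
    apply (he W le_rfl).1
    simp only [res_self]
    exact ha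
  have h2 : c • toS W (ofS W a - ofS W b) = 0 := by
    rw [smul_toS, mul_comm, sub_mul, h1, sub_self]
    rfl
  have h3 := Groth.Agent.Lib.T2H6.PosA.eq_zero_of_smul_eq_zero (Coh.structureModule X) ⟨W, hW⟩ c
    (fun y hyW hy => by
      rw [hcdef, ← genLocus_inf_eq_coef s he]
      exact ⟨hass y hy, hyW⟩) _ h2
  have h4 : ofS W a - ofS W b = 0 := congrArg (ofS W) h3
  exact congrArg (toS W) (sub_eq_zero.1 h4)

include hL in
/-- the zero scheme of a regular section of an invertible module is an effective Cartier divisor. -/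
theorem isEffCartierIdeal_zeroScheme [Mono s] : BlowUp.IsEffCartierIdeal (PicF2.zeroScheme L s) := by
  intro x
  obtain ⟨W, hW, hxW, -⟩ := (Opens.isBasis_iff_nbhd.1 (isBasis_gen L hL))
    (show x ∈ (⊤ : X.Opens) from trivial)
  obtain ⟨hWa, e, he⟩ := hW
  have hc := sv_eq_coef_smul s he
  set c := coef he le_rfl (sv s W) with hcdef
  refine ⟨⟨W, hWa⟩, hxW, c, ?_, ?_⟩
  · rw [mem_nonZeroDivisors_iff]
    refine ⟨fun r hr => ?_, fun r hr => ?_⟩
    · exact regular_of_mono L s hc r (by rw [mul_comm]; exact hr)
    · exact regular_of_mono L s hc r hr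
  · rw [zeroScheme_ideal L s hL ⟨W, hWa⟩]
    exact zI_eq_span L s he hc

end Regular

section Main

variable {X : Scheme.{u}}

/-- **Invertible modules are differences of effective Cartier divisors** (Noetherian scheme with an ample
invertible module), avoiding a finite set. -/
theorem exists_effCartier_difference [IsNoetherian X] (L : X.Modules) (hL : CohB1.IsAmple L)
    (N : X.Modules) (hN : PicF.IsInvertible N) (E : Set X) (hE : E.Finite) :
    ∃ D D' : X.IdealSheafData, BlowUp.IsEffCartierIdeal D ∧ BlowUp.IsEffCartierIdeal D' ∧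
      Disjoint E (D.support : Set X) ∧ Disjoint E (D'.support : Set X) ∧
      Nonempty (CohB1.tensorMod N (ClSub.idealMod D) ≅ ClSub.idealMod D') := by
  have hO : Coh.IsCoh (Coh.structureModule X) := Groth.Agent.Lib.T2H5.GenIsoF.isCoh_structureModule
  have hAfin : {x : X | Curv2.IsAssPoint (Coh.structureModule X) x}.Finite :=
    Groth.Agent.Lib.T2H6.EmbPt.finite_isAssPoint (Coh.structureModule X) hO
  set F : Set X := E ∪ {x : X | Curv2.IsAssPoint (Coh.structureModule X) x} with hFdef
  have hF : F.Finite := hE.union hAfin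
  have hLi := hL.1
  obtain ⟨V₁, n₁, hFV₁, h₁⟩ := exists_sections_eventually L hL N hN F hF
  obtain ⟨V₂, n₂, hFV₂, h₂⟩ := exists_sections_eventually L hL (Coh.structureModule X)
    (Groth.Agent.Lib.Helper23.TensorUnit.isInvertible_structureModule X) F hF
  set n := max n₁ n₂ with hn
  obtain ⟨s, hs⟩ := h₁ n (le_max_left _ _)
  obtain ⟨t₀, ht₀⟩ := h₂ n (le_max_right _ _)
  have hLn := isInvertible_tensorPow hLi n
  have hP : PicF.IsInvertible (CohB1.tensorMod N (CohB1.tensorPow L n)) := isInvertible_tensorMod hN hLn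
  let u := Groth.Agent.Lib.Helper23.TensorUnit.unitTensorIso (CohB1.tensorPow L n)
  let t : Coh.structureModule X ⟶ CohB1.tensorPow L n := t₀ ≫ u.hom
  have hgt : CohB1.genLocus _ t = CohB1.genLocus _ t₀ :=
    Groth.Agent.Lib.Helper23.AmpleIso.genLocus_comp_iso u t₀
  have hFs : F ⊆ CohB1.genLocus _ s := fun x hx => hs (hFV₁ hx)
  have hFt : F ⊆ CohB1.genLocus _ t := fun x hx => by rw [hgt]; exact ht₀ (hFV₂ hx)
  haveI : Mono s := mono_of_ass_le_genLocus _ hP s (fun y hy => hFs (Or.inr hy))
  haveI : Mono t := mono_of_ass_le_genLocus _ hLn t (fun y hy => hFt (Or.inr hy))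
  refine ⟨PicF2.zeroScheme _ s, PicF2.zeroScheme _ t, isEffCartierIdeal_zeroScheme _ hP s,
    isEffCartierIdeal_zeroScheme _ hLn t, ?_, ?_, ?_⟩
  · rw [Set.disjoint_left]
    intro x hxE hx
    have h1 : x ∈ ((PicF2.zeroScheme _ s).support : Set X) := hx
    rw [support_zeroScheme _ hP] at h1
    exact h1 (hFs (Or.inl hxE))
  · rw [Set.disjoint_left]
    intro x hxE hx
    have h1 : x ∈ ((PicF2.zeroScheme _ t).support : Set X) := hx
    rw [support_zeroScheme _ hLn] at h1
    exact h1 (hFt (Or.inl hxE))
  · obtain ⟨a⟩ := nonempty_tensor_idealMod_zeroScheme_iso _ hP s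
    obtain ⟨b⟩ := nonempty_tensor_idealMod_zeroScheme_iso _ hLn t
    let a' : CohB1.tensorMod (CohB1.tensorMod N (ClSub.idealMod (PicF2.zeroScheme _ s)))
        (CohB1.tensorPow L n) ≅ Coh.structureModule X :=
      (Groth.Agent.Lib.T2H5.Twist.tr (CohB1.tensorPow L n)).mapIso (braidIso N (ClSub.idealMod (PicF2.zeroScheme _ s))) ≪≫
        assocIso' _ N (CohB1.tensorPow L n) ≪≫ a
    exact ⟨isoOfInverse a' b (tensorInvIso (CohB1.tensorPow L n) hLn)⟩

end Main

end Groth.Agent.Lib.T2H6.NegVan
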