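import Mathlib
import Groth.Prelude.Def_Twist2
import Groth.Prelude.Def_Omega3
import Groth.Prelude.Def_LinSer
import Groth.Agent.Lib.T2H6CurveLinSer
import Groth.Agent.Lib.T2H6PosI
import Groth.Agent.Lib.T2H5ClosedLin
import Groth.Agent.Lib.T2H5EulerPn
import Groth.Agent.Lib.Helper27PnSections
import Groth.Agent.Lib.Helper23PB
import Groth.Agent.Lib.T2H5Twist
set_option backward.isDefEq.respectTransparency.types false

/-!
# The degree of a nondegenerate curve in projective space (helper6)

Namespace `Groth.Agent.Lib.T2H6.NonDegDeg`.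
-/

set_option autoImplicit false
set_option linter.style.haveILetI false
set_option linter.unusedSectionVars false
universe u
open CategoryTheory CategoryTheory.Limits Opposite TopologicalSpace AlgebraicGeometry

namespace Groth.Agent.Lib.T2H6.NonDegDeg

/-- `h⁰(P^r, O(1)) = r + 1`. -/
theorem finrank_HH_zero_twist_one (k : Type u) [Field k] (r : ℕ) :
    Module.finrank k (Coh.HH (CohB1.ProjSpace r k) (Twist.twistProjSpace r k 1) 0) = r + 1 := by
  obtain ⟨e⟩ := Groth.Agent.Lib.Helper27PnSections.nonempty_linearEquiv r k 1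
  have h1 : Twist.twistProjSpace r k ((1 : ℕ) : ℤ) = Twist.twistProjSpace r k 1 := by
    rw [Nat.cast_one]
  rw [h1] at e
  rw [e.finrank_eq, Groth.Agent.Lib.T2H5.EulerPn.finrank_homogeneousSubmodule k r 1,
    Nat.add_comm 1 r, Nat.choose_succ_self_right]

theorem le_deg (k : Type u) [Field k] [IsAlgClosed k] (r : ℕ)
    (X : Scheme.{u}) [X.Over (Spec (CommRingCat.of k))] [IsIntegral X]
    [IsProper (X ↘ (Spec (CommRingCat.of k)))]
    (hdim : topologicalKrullDim X = 1)
    (i : X ⟶ CohB1.ProjSpace r k) [IsClosedImmersion i]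
    (hi : i ≫ CohB1.ProjSpace.toSpec r k = (X ↘ (Spec (CommRingCat.of k))))
    (hplane : ∀ s : LinSer.Sect (CohB1.ProjSpace r k) (Twist.twistProjSpace r k 1), s ≠ 0 →
      OmegaSh.pullSect i (Twist.twistProjSpace r k 1) ⊤ s ≠ 0) :
    (r : ℤ) ≤ Curv2.deg k X ((Scheme.Modules.pullback i).obj (Twist.twistProjSpace r k 1)) 1 := by
  set O1 := Twist.twistProjSpace r k 1 with hO1
  set L := (Scheme.Modules.pullback i).obj O1 with hLdef
  have hL : PicF.IsInvertible L :=
    Groth.Agent.Lib.Helper23.PB.isInvertible_pullback (f := i) O1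
      (Groth.Agent.Lib.T2H5.Twist.isInvertible_twist (n := r) (R := k) 1)
  let η : O1 ⟶ (Scheme.Modules.pushforward i).obj L :=
    (Scheme.Modules.pullbackPushforwardAdjunction i).unit.app O1
  -- injectivity on `H⁰`
  have hinj : Function.Injective (Canon.HHlin k η 0) := by
    rw [injective_iff_map_eq_zero]
    intro x hx
    have h1 := Sheaf.H.equiv₀_naturality (hT := Limits.isTerminalTop)
      ((SheafOfModules.toSheaf (CohB1.ProjSpace r k).ringCatSheaf).map η) x
    have h2 : Sheaf.H.map ((SheafOfModules.toSheaf (CohB1.ProjSpace r k).ringCatSheaf).map η) 0 x = 0 := hx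
    rw [h2, map_zero] at h1
    by_contra hne
    have hne' : Groth.Agent.Lib.Helper27PnSections.hh0Equiv (CohB1.ProjSpace r k) O1 x ≠ 0 := by
      intro h0
      exact hne ((Groth.Agent.Lib.Helper27PnSections.hh0Equiv (CohB1.ProjSpace r k) O1).injective
        (h0.trans (map_zero _).symm))
    exact hplane _ hne' h1
  obtain ⟨e⟩ := Groth.Agent.Lib.T2H5.ClosedLin.nonempty_linearEquiv i k hi L 0
  have hLc := Groth.Agent.Lib.T2H6.CurveDeg.isCoh_of_isInvertible L hL
  haveI : Module.Finite k (Coh.HH X L 0) := Groth.Agent.Lib.T2H6.EulerField.finite_HH k X _ hLc 0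
  haveI : Module.Finite k (Coh.HH (CohB1.ProjSpace r k) ((Scheme.Modules.pushforward i).obj L) 0) :=
    Module.Finite.equiv e
  have h3 := LinearMap.finrank_le_finrank_of_injective hinj
  rw [finrank_HH_zero_twist_one k r, ← e.finrank_eq] at h3
  have hnt : Nontrivial (Coh.HH X L 0) := Module.nontrivial_of_finrank_pos (R := k) (by omega)
  obtain ⟨s, hs⟩ := Groth.Agent.Lib.T2H6.CurveRR.exists_section_ne_zero L hnt
  have h4 := (Groth.Agent.Lib.T2H6.CurveLinSer.h0_le k hdim
    (Groth.Agent.Lib.T2H6.PosI.finrank_HH_zero_structureModule k X) L hL s hs).1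
  have h5 : ((r + 1 : ℕ) : ℤ) ≤ (Module.finrank k (Coh.HH X L 0) : ℤ) := by exact_mod_cast h3
  push_cast at h5
  linarith

end Groth.Agent.Lib.T2H6.NonDegDeg
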