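-- helper6 (team 2): the open substack swept out by a smooth functor from an algebraic space.
import Mathlib
import Groth.Agent.Lib.T2H6SmPre

set_option autoImplicit false
set_option backward.isDefEq.respectTransparency false
set_option backward.isDefEq.respectTransparency.types false
open CategoryTheory CategoryTheory.Functor CategoryTheory.Limits Opposite AlgebraicGeometry

universe u

namespace Groth.Agent.Lib.T2H6.OpenImg

open Groth.Agent.Lib.Helper17 Groth.Agent.Lib.Helper15PshFib Groth.Agent.Lib.Helper15RepComp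
  Groth.Agent.Lib.Helper15RepPsh Groth.Agent.Lib.Helper15DiagBase Groth.Agent.Lib.Helper15DiagRepSp
  Groth.Agent.Lib.Helper15Descent Groth.Agent.Lib.Helper15DiagLft
  Groth.Agent.Lib.Helper15DiagDescent Groth.Agent.Lib.Helper15SpMapRep
  Groth.Agent.Lib.Helper15SrcCancel Groth.Agent.Lib.Helper15ChartSp Groth.Agent.Lib.Helper15Atlas
  Groth.Agent.Lib.Helper15LocEss Groth.Agent.Lib.Helper15UnivComp Groth.Agent.Lib.Helper15SmLoc
  Groth.Agent.Lib.Helper15PtsComp Groth.Agent.Lib.Helper15PtsTop Groth.Agent.Lib.Helper15PtsQc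
  Groth.Agent.Lib.Helper15LocQEngine Groth.Agent.Lib.Helper15GoodComp
  Groth.Agent.Lib.Helper15LocQProps Groth.Agent.Lib.T2H6.OpenSub Groth.Agent.Lib.T2H6.SmLocus
  Groth.Agent.Lib.T2H6.SmPre Groth.Agent.Lib.T2H6.FpFF

variable {S : Scheme.{u}} {𝒳 : AlgSt.Cat S}

/-- a smooth functor from an algebraic space to an algebraic stack factors as a smooth surjective
functor to an open substack followed by the inclusion -/
theorem exists_open_image (h𝒳 : AlgSt.IsAlgStack Scheme.fppfPrecoverage 𝒳) (V : AlgSp.Space S)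
    (v : AlgSt.ofSp V.obj ⥤ᵇ 𝒳) (hv : AlgSt.RepByAlgSpWith (AlgSp.LocP @Smooth) v) :
    ∃ (𝒴 : AlgSt.Cat S) (i : 𝒴 ⥤ᵇ 𝒳) (g : AlgSt.ofSp V.obj ⥤ᵇ 𝒴),
      AlgSt.IsAlgStack Scheme.fppfPrecoverage 𝒴 ∧ AlgSt.IsOpenImm i ∧
        AlgSt.RepByAlgSpWith (AlgSp.LocP @Smooth) g ∧
          AlgSt.RepByAlgSpWith AlgSp.IsSurjectiveMor g ∧ BasedFunctor.comp g i = v := by
  obtain ⟨W, p, hpe, hps⟩ := V.property.atlas
  let a : FibCat.overCat W ⥤ᵇ AlgSt.ofSp V.obj :=
    BasedFunctor.comp (AlgSt.ofOverCat W) (AlgSt.ofSpMap p)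
  have hx : AlgSt.RepByAlgSpWith (AlgSp.LocP @Smooth) (BasedFunctor.comp a v) :=
    (chart_precomp_atlas V p hpe hps v).1 hv
  have has : AlgSt.RepByAlgSpWith AlgSp.IsSurjectiveMor a :=
    repByAlgSpWith_atlas _ (fun X T s he hs => (props_of_etale_surjective X T s he hs).2.2.1)
      V p hpe hps
  have ha : AlgSt.IsSurjective a :=
    (isSurjective_iff_repByAlgSpWith (isAlgStack_overCat W) (isAlgStack_ofSp V) a
      (repByAlgSp1_of_repByAlgSpWith _ _ has)).2 has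
  have hT := isOpen_range_ofChart h𝒳 _ hx
  have hVfib : FibCat.IsFibGrpd (AlgSt.ofSp V.obj).p := (isAlgStack_ofSp V).isStack.1
  have hmem : ∀ z : AlgSt.Points (AlgSt.ofSp V.obj), AlgSt.Points.map v z ∈
      Set.range (AlgSt.Points.ofChart (BasedFunctor.comp a v)) := by
    intro z
    obtain ⟨w, rfl⟩ := ha z
    obtain ⟨t, rfl⟩ := (ptOver_bijective W).2 w
    exact ⟨t, by rw [ofChart_eq_map_ptOver, points_map_comp]⟩
  have hQ : ∀ z : (AlgSt.ofSp V.obj).obj,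
      QT (Set.range (AlgSt.Points.ofChart (BasedFunctor.comp a v))) (v.obj z) := by
    intro z
    rw [QT_map_iff hVfib h𝒳.isStack.1 v]
    intro p' _
    exact hmem _
  let g : AlgSt.ofSp V.obj ⥤ᵇ
      AlgSt.fullSub 𝒳 (QT (Set.range (AlgSt.Points.ofChart (BasedFunctor.comp a v)))) :=
    { toFunctor := ObjectProperty.lift _ v.toFunctor hQ
      w := v.w }
  have hO := isOpenSubstack_QT h𝒳 _ hT
  have i1 : (AlgSt.subIncl 𝒳
      (QT (Set.range (AlgSt.Points.ofChart (BasedFunctor.comp a v))))).toFunctor.Faithful :=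
    inferInstanceAs (ObjectProperty.ι _).Faithful
  have i2 : (AlgSt.subIncl 𝒳
      (QT (Set.range (AlgSt.Points.ofChart (BasedFunctor.comp a v))))).toFunctor.Full :=
    inferInstanceAs (ObjectProperty.ι _).Full
  have hg : AlgSt.RepByAlgSpWith (AlgSp.LocP @Smooth) g :=
    repByAlgSpWith_of_comp_ff _ g (AlgSt.subIncl 𝒳 _) hv
  refine ⟨_, AlgSt.subIncl 𝒳 _, g, hO.2.1, hO.2.2, hg, ?_, rfl⟩
  refine (isSurjective_iff_repByAlgSpWith (isAlgStack_ofSp V) hO.2.1 g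
    (repByAlgSp1_of_repByAlgSpWith _ _ hg)).1 ?_
  intro q
  have hq : AlgSt.Points.map (AlgSt.subIncl 𝒳 _) q ∈
      Set.range (AlgSt.Points.ofChart (BasedFunctor.comp a v)) := by
    have : AlgSt.Points.map (AlgSt.subIncl 𝒳
        (QT (Set.range (AlgSt.Points.ofChart (BasedFunctor.comp a v))))) q ∈
        Set.range (AlgSt.Points.map (AlgSt.subIncl 𝒳 _)) := ⟨q, rfl⟩
    rwa [range_subIncl_QT] at this
  obtain ⟨t, ht⟩ := hq
  refine ⟨AlgSt.Points.map a (ptOver W t), ?_⟩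
  apply injective_points_map_subIncl h𝒳.isStack.1
  rw [← ht, ofChart_eq_map_ptOver, points_map_comp, ← points_map_comp g]
  rfl


/-- the functor of an open immersion of algebraic spaces is smooth -/
theorem repByAlgSpWith_smooth_ofSpMap_of_isOpenImmersion (V U : AlgSp.Space S) (j : V ⟶ U)
    (hj : AlgSp.RepWith @IsOpenImmersion j.hom) :
    AlgSt.RepByAlgSpWith (AlgSp.LocP @Smooth) (AlgSt.ofSpMap j.hom) := by
  have hje : AlgSp.RepWith @Etale j.hom :=
    Groth.Agent.Lib.Helper15OpenSub.repWith_mono (fun _ _ g hg => by have := hg; infer_instance) hj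
  have hjet : AlgSp.IsEtaleMor j.hom := fun W φ hφ => MorphismProperty.comp_mem _ _ _ hφ hje
  exact repByAlgSpWith_ofSpMap _ bcStable_smooth V U j (Groth.Agent.S10265.result j hjet).2.1

theorem exists_open_image_of_open (h𝒳 : AlgSt.IsAlgStack Scheme.fppfPrecoverage 𝒳)
    (U : AlgSp.Space S) (u : AlgSt.ofSp U.obj ⥤ᵇ 𝒳)
    (hu₁ : AlgSt.RepByAlgSpWith (AlgSp.LocP @Smooth) u)
    (V : AlgSp.Space S) (j : V ⟶ U) (hj : AlgSp.RepWith @IsOpenImmersion j.hom) :
    ∃ (𝒴 : AlgSt.Cat S) (i : 𝒴 ⥤ᵇ 𝒳) (g : AlgSt.ofSp V.obj ⥤ᵇ 𝒴),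
      AlgSt.IsAlgStack Scheme.fppfPrecoverage 𝒴 ∧ AlgSt.IsOpenImm i ∧
        AlgSt.RepByAlgSpWith (AlgSp.LocP @Smooth) g ∧
          AlgSt.RepByAlgSpWith AlgSp.IsSurjectiveMor g ∧
            Nonempty (BasedFunctor.comp g i ≅ BasedFunctor.comp (AlgSt.ofSpMap j.hom) u) := by
  have hVfib : FibCat.IsFibGrpd (AlgSt.ofSp V.obj).p := (isAlgStack_ofSp V).isStack.1
  have hUfib : FibCat.IsFibGrpd (AlgSt.ofSp U.obj).p := (isAlgStack_ofSp U).isStack.1
  have hv : AlgSt.RepByAlgSpWith (AlgSp.LocP @Smooth)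
      (BasedFunctor.comp (AlgSt.ofSpMap j.hom) u) :=
    repByAlgSpWith_comp_of_compCond hVfib hUfib _ compCond_smooth _ u
      (repByAlgSpWith_smooth_ofSpMap_of_isOpenImmersion V U j hj) hu₁
  obtain ⟨𝒴, i, g, h1, h2, h3, h4, h5⟩ := exists_open_image h𝒳 V _ hv
  exact ⟨𝒴, i, g, h1, h2, h3, h4, ⟨eqToIso h5⟩⟩

end Groth.Agent.Lib.T2H6.OpenImg
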