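-- helper6 (team 2): coproducts of modulus pairs.
import Mathlib
import Groth.Prelude.Def_BlowUp2
import Groth.Prelude.Def_W4c6modpairsegaMP
import Groth.Agent.Lib.T2H6ModulusCoprod

set_option autoImplicit false
set_option backward.isDefEq.respectTransparency false
set_option backward.isDefEq.respectTransparency.types false
open CategoryTheory CategoryTheory.Limits AlgebraicGeometry

universe u

namespace Groth.Agent.Lib.T2H6.PairCoprod

open Scheme.IdealSheafData

variable {σ : Type u}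

theorem preimage_opensRange_sigmaMap (Z X : σ → Scheme.{u}) (z : ∀ i, Z i ⟶ X i) (i : σ) :
    (Limits.Sigma.map z) ⁻¹ᵁ (Sigma.ι X i).opensRange = (Sigma.ι Z i).opensRange := by
  ext x
  obtain ⟨⟨j, y⟩, rfl⟩ := (sigmaMk Z).surjective x
  rw [sigmaMk_mk]
  constructor
  · rintro ⟨w, hw⟩
    rw [← Scheme.Hom.comp_apply, Sigma.ι_map, Scheme.Hom.comp_apply] at hw
    obtain ⟨rfl, -⟩ := Sigma.mk.inj_iff.1 ((sigmaι_eq_iff X _ _ _ _).1 hw)
    exact ⟨y, rfl⟩
  · rintro ⟨w, hw⟩
    obtain ⟨rfl, h2⟩ := Sigma.mk.inj_iff.1 ((sigmaι_eq_iff Z _ _ _ _).1 hw)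
    refine ⟨z i y, ?_⟩
    change (Sigma.ι X i) (z i y) = (Limits.Sigma.map z) ((Sigma.ι Z i) y)
    rw [← Scheme.Hom.comp_apply, ← Scheme.Hom.comp_apply, Sigma.ι_map]

theorem isPullback_sigmaι (Z X : σ → Scheme.{u}) (z : ∀ i, Z i ⟶ X i) (i : σ) :
    IsPullback (z i) (Sigma.ι Z i) (Sigma.ι X i) (Limits.Sigma.map z) :=
  IsOpenImmersion.isPullback _ _ _ _ (Sigma.ι_map _ _) (preimage_opensRange_sigmaMap Z X z i)

theorem isClosedImmersion_sigmaMap (Z X : σ → Scheme.{u}) (z : ∀ i, Z i ⟶ X i)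
    [∀ i, IsClosedImmersion (z i)] : IsClosedImmersion (Limits.Sigma.map z) := by
  apply IsZariskiLocalAtTarget.of_openCover (P := @IsClosedImmersion) (sigmaOpenCover X)
  intro i
  have h := (isPullback_sigmaι Z X z i).flip
  have e : (sigmaOpenCover X).pullbackHom (Limits.Sigma.map z) i = h.isoPullback.inv ≫ z i := by
    rw [Iso.eq_inv_comp]
    exact h.isoPullback_hom_snd
  rw [e]
  infer_instance

/-- the ideal sheaf on the coproduct restricting to the given ideal sheaves. -/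
noncomputable def coprodIdeal (X : σ → Scheme.{u}) (I : ∀ i, (X i).IdealSheafData) :
    (∐ X).IdealSheafData :=
  (Limits.Sigma.map (fun i => (I i).subschemeι)).ker

theorem coprodIdeal_comap (X : σ → Scheme.{u}) (I : ∀ i, (X i).IdealSheafData) (i : σ) :
    (coprodIdeal X I).comap (Sigma.ι X i) = I i := by
  haveI := isClosedImmersion_sigmaMap _ X (fun i => (I i).subschemeι)
  rw [coprodIdeal, ← ker_fst_of_isClosedImmersion]
  have h := isPullback_sigmaι _ X (fun i => (I i).subschemeι) i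
  have e : pullback.fst (Sigma.ι X i) (Limits.Sigma.map (fun i => (I i).subschemeι)) =
      h.isoPullback.inv ≫ (I i).subschemeι := by
    rw [Iso.eq_inv_comp]
    exact h.isoPullback_hom_fst
  rw [e, Scheme.Hom.ker_comp_of_isIso, ker_subschemeι]

theorem le_of_forall_comap_le {X : Scheme.{u}} {ι : Type*} (U : ι → Scheme.{u})
    (j : ∀ i, U i ⟶ X) [∀ i, IsOpenImmersion (j i)] (hcov : ∀ x : X, ∃ i, x ∈ Set.range (j i))
    (I K : X.IdealSheafData) (h : ∀ i, I.comap (j i) ≤ K.comap (j i)) : I ≤ K := by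
  refine le_of_iSup_eq_top (ι := Σ i, (U i).affineOpens)
    (fun p => ⟨j p.1 ''ᵁ p.2.1, p.2.2.image_of_isOpenImmersion (j p.1)⟩) ?_ ?_
  · rw [eq_top_iff]
    intro x _
    obtain ⟨i, y, rfl⟩ := hcov x
    obtain ⟨_, ⟨V, hV, rfl⟩, hy, -⟩ :=
      (U i).isBasis_affineOpens.exists_subset_of_mem_open (Set.mem_univ y) isOpen_univ
    exact TopologicalSpace.Opens.mem_iSup.2 ⟨⟨i, ⟨V, hV⟩⟩, ⟨y, hy, rfl⟩⟩
  · rintro ⟨i, V⟩
    have h1 := h i V
    rw [ideal_comap_of_isOpenImmersion, ideal_comap_of_isOpenImmersion] at h1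
    intro x hx
    have h2 : ((j i).appIso V.1).hom.hom x ∈ (I.ideal ⟨j i ''ᵁ V.1,
        V.2.image_of_isOpenImmersion (j i)⟩).comap ((j i).appIso V.1).inv.hom := by
      rw [Ideal.mem_comap]
      have : ((j i).appIso V.1).inv.hom (((j i).appIso V.1).hom.hom x) = x := by
        rw [← CommRingCat.comp_apply, Iso.hom_inv_id]
        rfl
      rw [this]
      exact hx
    have h3 := h1 h2
    rw [Ideal.mem_comap] at h3
    have : ((j i).appIso V.1).inv.hom (((j i).appIso V.1).hom.hom x) = x := by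
      rw [← CommRingCat.comp_apply, Iso.hom_inv_id]
      rfl
    rw [this] at h3
    exact h3

theorem exists_range_sigmaι (X : σ → Scheme.{u}) (x : (∐ X : Scheme.{u})) :
    ∃ i, x ∈ Set.range (Sigma.ι X i) := by
  obtain ⟨⟨i, y⟩, rfl⟩ := (sigmaMk X).surjective x
  exact ⟨i, y, (sigmaMk_mk X i y).symm⟩

theorem isEffCartier_coprodIdeal (X : σ → Scheme.{u}) (I : ∀ i, (X i).IdealSheafData)
    (hI : ∀ i, BlowUp.IsEffCartierIdeal (I i)) : BlowUp.IsEffCartierIdeal (coprodIdeal X I) := by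
  intro x
  obtain ⟨i, y, rfl⟩ := exists_range_sigmaι X x
  apply Groth.Agent.Lib.T2H6.ModulusCoprod.exists_gen_of_comap_isOpenImmersion (Sigma.ι X i)
    (coprodIdeal X I) y
  rw [coprodIdeal_comap]
  exact hI i y

variable (F : Discrete σ ⥤ ModPair.Pair.{u})

/-- the coproduct modulus pair. -/
noncomputable def coprodPair : ModPair.Pair.{u} :=
  ⟨∐ (fun i => (F.obj ⟨i⟩).total), coprodIdeal _ (fun i => (F.obj ⟨i⟩).mod),
    isEffCartier_coprodIdeal _ _ (fun i => (F.obj ⟨i⟩).isEffCartier)⟩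

/-- the coproduct injections. -/
noncomputable def inj (i : σ) : F.obj ⟨i⟩ ⟶ coprodPair F :=
  ⟨Sigma.ι (fun i => (F.obj ⟨i⟩).total) i, by
    change (F.obj ⟨i⟩).mod ≤ (coprodIdeal _ (fun i => (F.obj ⟨i⟩).mod)).comap _
    rw [coprodIdeal_comap]⟩

/-- the coproduct cocone. -/
noncomputable def cocone : Cocone F where
  pt := coprodPair F
  ι := Discrete.natTrans (fun i => inj F i.as)

/-- the coproduct cocone is a colimit. -/
noncomputable def isColimit : IsColimit (cocone F) where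
  desc s := ⟨Sigma.desc (fun i => (s.ι.app ⟨i⟩).hom), by
    change coprodIdeal _ (fun i => (F.obj ⟨i⟩).mod) ≤ _
    apply le_of_forall_comap_le _ (Sigma.ι _) (exists_range_sigmaι _)
    intro i
    rw [← comap_comp, Sigma.ι_desc, coprodIdeal_comap]
    exact (s.ι.app ⟨i⟩).cond⟩
  fac s j := by
    apply ModPair.Pair.Hom.ext
    exact Sigma.ι_desc _ _
  uniq s m hm := by
    apply ModPair.Pair.Hom.ext
    apply Sigma.hom_ext
    intro i
    rw [Sigma.ι_desc]
    exact congrArg ModPair.Pair.Hom.hom (hm ⟨i⟩)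

/-- the image of the coproduct cocone in schemes is a colimit. -/
noncomputable def isColimitMap : IsColimit (ModPair.Pair.forget.mapCocone (cocone F)) where
  desc s := Sigma.desc (fun i => s.ι.app ⟨i⟩)
  fac s j := Sigma.ι_desc _ _
  uniq s m hm := Sigma.hom_ext _ _ (fun i => by rw [Sigma.ι_desc]; exact hm ⟨i⟩)

theorem main (σ : Type u) :
    HasColimitsOfShape (Discrete σ) ModPair.Pair.{u} ∧
      PreservesColimitsOfShape (Discrete σ) ModPair.Pair.forget.{u} :=
  ⟨⟨fun F => ⟨⟨⟨cocone F, isColimit F⟩⟩⟩⟩,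
    ⟨fun {F} => preservesColimit_of_preserves_colimit_cocone (isColimit F) (isColimitMap F)⟩⟩

end Groth.Agent.Lib.T2H6.PairCoprod
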