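-- helper6 (team 2): the localization functor of modulus pairs at the abstract admissible blow-ups
-- preserves coproducts; binary coproducts in the localization.
import Mathlib
import Groth.Prelude.Def_BlowUp2
import Groth.Prelude.Def_W4c6modpairsegaMP
import Groth.Agent.Lib.Helper3IsoFibB
import Groth.Agent.Lib.T2H6ModulusCoprod
import Groth.Agent.Lib.T2H6ModulusClosure
import Groth.Agent.Lib.T2H6AmbProdPullback
import Groth.Agent.Lib.T2H6PairCoprod

set_option autoImplicit false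
set_option backward.isDefEq.respectTransparency false
set_option backward.isDefEq.respectTransparency.types false
open CategoryTheory CategoryTheory.Limits AlgebraicGeometry

universe u

namespace Groth.Agent.Lib.T2H6.PairCoprodLoc

open Scheme.IdealSheafData Groth.Agent.Lib.T2H6.PairCoprod Groth.Agent.Lib.T2H6.AmbProdPullback

variable {σ : Type u}

theorem sigmaMap_of_isZariskiLocalAtTarget (P : MorphismProperty Scheme.{u})
    [IsZariskiLocalAtTarget P] (Z X : σ → Scheme.{u}) (z : ∀ i, Z i ⟶ X i) (hz : ∀ i, P (z i)) :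
    P (Limits.Sigma.map z) := by
  apply IsZariskiLocalAtTarget.of_openCover (P := P) (sigmaOpenCover X)
  intro i
  have h := (isPullback_sigmaι Z X z i).flip
  have e : (sigmaOpenCover X).pullbackHom (Limits.Sigma.map z) i = h.isoPullback.inv ≫ z i := by
    rw [Iso.eq_inv_comp]
    exact h.isoPullback_hom_snd
  rw [e]
  exact (P.cancel_left_of_respectsIso _ _).2 (hz i)

theorem isIso_restrict_comp_image {A V Y : Scheme.{u}} (g : A ⟶ V) (j : V ⟶ Y)
    [IsOpenImmersion j] (W : V.Opens) [hg : IsIso (g ∣_ W)] :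
    IsIso ((g ≫ j) ∣_ (j ''ᵁ W)) := by
  rw [morphismRestrict_comp]
  have h1 : IsIso (g ∣_ (j ⁻¹ᵁ (j ''ᵁ W))) := by
    have hE : j ⁻¹ᵁ (j ''ᵁ W) = W := Scheme.Hom.preimage_image_eq j W
    exact ((MorphismProperty.isomorphisms Scheme).arrow_mk_iso_iff (morphismRestrictEq g hE)).2 hg
  have h2 : IsIso (j ∣_ (j ''ᵁ W)) := by
    have hsurj : Function.Surjective (j ∣_ (j ''ᵁ W)) := by
      rintro ⟨_, w, hw, rfl⟩
      refine ⟨⟨w, ⟨w, hw, rfl⟩⟩, ?_⟩
      apply Subtype.ext
      exact morphismRestrict_base_coe j (j ''ᵁ W) _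
    exact isIso_of_isOpenImmersion_of_opensRange_eq_top _
      (by
        ext x
        simp only [Scheme.Hom.coe_opensRange, TopologicalSpace.Opens.coe_top, Set.mem_univ,
          iff_true]
        exact hsurj x)
  infer_instance

theorem isIso_sigmaMap_restrict (Z X : σ → Scheme.{u}) (z : ∀ i, Z i ⟶ X i)
    (I : ∀ i, (X i).IdealSheafData) (hz : ∀ i, IsIso (z i ∣_ ModPair.interior (I i))) :
    IsIso (Limits.Sigma.map z ∣_ ModPair.interior (coprodIdeal X I)) := by
  apply Groth.Agent.Lib.Helper3.IsoFib.isIso_morphismRestrict_of_forall_exists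
  intro y hy
  obtain ⟨i, w, rfl⟩ := exists_range_sigmaι X y
  have hw : w ∈ ModPair.interior (I i) := by
    rw [← coprodIdeal_comap X I i, Groth.Agent.Lib.T2H6.ModulusClosure.interior_comap]
    exact hy
  refine ⟨Sigma.ι X i ''ᵁ ModPair.interior (I i), ⟨w, hw, rfl⟩, ?_⟩
  haveI := hz i
  haveI := isIso_restrict_comp_image (z i) (Sigma.ι X i) (ModPair.interior (I i))
  refine Groth.Agent.Lib.T2H6.ModulusCoprod.isIso_restrict_of_isOpenImmersion (Limits.Sigma.map z)
    (Sigma.ι Z i) (z i ≫ Sigma.ι X i) (Sigma.ι_map _ _) _ (fun c hc => ?_)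
  have h1 : c ∈ (Limits.Sigma.map z) ⁻¹ᵁ (Sigma.ι X i).opensRange := by
    obtain ⟨w', -, hw'⟩ := hc
    exact ⟨w', hw'⟩
  rw [preimage_opensRange_sigmaMap] at h1
  exact h1

section families

variable (P P' : σ → ModPair.Pair.{u})

/-- the coproduct of a family of modulus pairs. -/
noncomputable def cp : ModPair.Pair.{u} :=
  ⟨∐ (fun i => (P i).total), coprodIdeal _ (fun i => (P i).mod),
    isEffCartier_coprodIdeal _ _ (fun i => (P i).isEffCartier)⟩

/-- the coproduct injections. -/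
noncomputable def cpι (i : σ) : P i ⟶ cp P :=
  ⟨Sigma.ι (fun i => (P i).total) i, by
    change (P i).mod ≤ (coprodIdeal _ (fun i => (P i).mod)).comap _
    rw [coprodIdeal_comap]⟩

/-- the morphism out of the coproduct. -/
noncomputable def cpDesc {Z : ModPair.Pair.{u}} (f : ∀ i, P i ⟶ Z) : cp P ⟶ Z :=
  ⟨Sigma.desc (fun i => (f i).hom), by
    change coprodIdeal _ (fun i => (P i).mod) ≤ _
    apply le_of_forall_comap_le _ (Sigma.ι _) (exists_range_sigmaι _)
    intro i
    rw [← comap_comp, Sigma.ι_desc, coprodIdeal_comap]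
    exact (f i).cond⟩

theorem cpι_desc {Z : ModPair.Pair.{u}} (f : ∀ i, P i ⟶ Z) (i : σ) :
    cpι P i ≫ cpDesc P f = f i :=
  ModPair.Pair.Hom.ext (Sigma.ι_desc _ _)

theorem cp_hom_ext {Z : ModPair.Pair.{u}} (f g : cp P ⟶ Z)
    (h : ∀ i, cpι P i ≫ f = cpι P i ≫ g) : f = g :=
  ModPair.Pair.Hom.ext (Sigma.hom_ext _ _ (fun i => congrArg ModPair.Pair.Hom.hom (h i)))

variable {P P'}

theorem isAdmBlowup_cpDesc (s : ∀ i, P' i ⟶ P i) (hs : ∀ i, ModPair.Pair.admBlowup (s i)) :
    ModPair.Pair.admBlowup (cpDesc P' (fun i => s i ≫ cpι P i)) := by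
  have hmap : (cpDesc P' (fun i => s i ≫ cpι P i)).hom =
      Limits.Sigma.map (fun i => (s i).hom) := by
    apply Sigma.hom_ext
    intro i
    change _ ≫ Sigma.desc _ = _
    rw [Sigma.ι_desc, Sigma.ι_map]
    rfl
  change ModPair.IsAdmBlowup _ _ (cpDesc P' (fun i => s i ≫ cpι P i)).hom
  rw [hmap]
  refine ⟨?_, ?_, ?_⟩
  · change coprodIdeal _ (fun i => (P' i).mod) =
      (coprodIdeal _ (fun i => (P i).mod)).comap _
    have key : ∀ i, ((coprodIdeal _ (fun i => (P i).mod)).comap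
        (Limits.Sigma.map (fun i => (s i).hom))).comap (Sigma.ι _ i) = (P' i).mod := by
      intro i
      rw [← comap_comp, Sigma.ι_map, comap_comp, coprodIdeal_comap]
      exact ((hs i).1).symm
    apply le_antisymm
    · apply le_of_forall_comap_le _ (Sigma.ι _) (exists_range_sigmaι _)
      intro i
      rw [key, coprodIdeal_comap]
    · apply le_of_forall_comap_le _ (Sigma.ι _) (exists_range_sigmaι _)
      intro i
      rw [key, coprodIdeal_comap]
  · exact sigmaMap_of_isZariskiLocalAtTarget @IsProper _ _ _ (fun i => (hs i).2.1)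
  · exact isIso_sigmaMap_restrict _ _ _ _ (fun i => (hs i).2.2)

end families

section loc

variable (P : σ → ModPair.Pair.{u})

theorem loc_desc_exists (Z : (ModPair.Pair.admBlowup.{u}).Localization)
    (a : ∀ i, (ModPair.Pair.admBlowup.{u}).Q.obj (P i) ⟶ Z) :
    ∃ m : (ModPair.Pair.admBlowup.{u}).Q.obj (cp P) ⟶ Z,
      ∀ i, (ModPair.Pair.admBlowup.{u}).Q.map (cpι P i) ≫ m = a i := by
  obtain ⟨Z₀, rfl⟩ := (Localization.Construction.objEquiv (ModPair.Pair.admBlowup.{u})).surjective Z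
  have h : ∀ i, ∃ (W : ModPair.Pair.{u}) (s : W ⟶ P i) (_ : ModPair.Pair.admBlowup s)
      (f : W ⟶ Z₀), (ModPair.Pair.admBlowup.{u}).Q.map s ≫ a i =
        (ModPair.Pair.admBlowup.{u}).Q.map f := fun i => exists_frac (W := P i) (A := Z₀) (a i)
  choose P' s hs f hf using h
  have hS := isAdmBlowup_cpDesc s hs
  haveI : IsIso ((ModPair.Pair.admBlowup.{u}).Q.map (cpDesc P' (fun i => s i ≫ cpι P i))) :=
    Localization.inverts (ModPair.Pair.admBlowup.{u}).Q (ModPair.Pair.admBlowup.{u}) _ hS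
  refine ⟨inv ((ModPair.Pair.admBlowup.{u}).Q.map (cpDesc P' (fun i => s i ≫ cpι P i))) ≫
    (ModPair.Pair.admBlowup.{u}).Q.map (cpDesc P' f), fun i => ?_⟩
  haveI : IsIso ((ModPair.Pair.admBlowup.{u}).Q.map (s i)) :=
    Localization.inverts (ModPair.Pair.admBlowup.{u}).Q (ModPair.Pair.admBlowup.{u}) _ (hs i)
  rw [← cancel_epi ((ModPair.Pair.admBlowup.{u}).Q.map (s i)), hf i]
  have e1 : (ModPair.Pair.admBlowup.{u}).Q.map (s i) ≫
      (ModPair.Pair.admBlowup.{u}).Q.map (cpι P i) =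
      (ModPair.Pair.admBlowup.{u}).Q.map (cpι P' i) ≫
        (ModPair.Pair.admBlowup.{u}).Q.map (cpDesc P' (fun i => s i ≫ cpι P i)) := by
    rw [← Functor.map_comp, ← Functor.map_comp, cpι_desc]
  rw [← Category.assoc, e1, Category.assoc, IsIso.hom_inv_id_assoc, ← Functor.map_comp, cpι_desc]

theorem loc_desc_unique (Z : (ModPair.Pair.admBlowup.{u}).Localization)
    (m m' : (ModPair.Pair.admBlowup.{u}).Q.obj (cp P) ⟶ Z)
    (h : ∀ i, (ModPair.Pair.admBlowup.{u}).Q.map (cpι P i) ≫ m =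
      (ModPair.Pair.admBlowup.{u}).Q.map (cpι P i) ≫ m') : m = m' := by
  obtain ⟨Z₀, rfl⟩ := (Localization.Construction.objEquiv (ModPair.Pair.admBlowup.{u})).surjective Z
  change (ModPair.Pair.admBlowup.{u}).Q.obj (cp P) ⟶ (ModPair.Pair.admBlowup.{u}).Q.obj Z₀ at m
  change (ModPair.Pair.admBlowup.{u}).Q.obj (cp P) ⟶ (ModPair.Pair.admBlowup.{u}).Q.obj Z₀ at m'
  obtain ⟨W, ρ, hρ, c, c', hc, hc'⟩ := exists_frac₂ m m'
  haveI : IsIso ((ModPair.Pair.admBlowup.{u}).Q.map ρ) :=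
    Localization.inverts (ModPair.Pair.admBlowup.{u}).Q (ModPair.Pair.admBlowup.{u}) _ hρ
  have hore : ∀ i, ∃ (Wi : ModPair.Pair.{u}) (si : Wi ⟶ P i) (_ : ModPair.Pair.admBlowup si)
      (ki : Wi ⟶ W), si ≫ cpι P i = ki ≫ ρ := by
    intro i
    obtain ⟨ψ, hψ⟩ := MorphismProperty.HasRightCalculusOfFractions.exists_rightFraction
      (W := ModPair.Pair.admBlowup.{u}) (MorphismProperty.LeftFraction.mk (cpι P i) ρ hρ)
    exact ⟨ψ.X', ψ.s, ψ.hs, ψ.f, hψ⟩
  choose W₁ s₁ hs₁ k₁ hk₁ using hore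
  have heq : ∀ i, ∃ (Wi' : ModPair.Pair.{u}) (αi : Wi' ⟶ W₁ i) (_ : ModPair.Pair.admBlowup αi),
      αi ≫ k₁ i ≫ c = αi ≫ k₁ i ≫ c' := by
    intro i
    have e : (ModPair.Pair.admBlowup.{u}).Q.map (k₁ i ≫ c) =
        (ModPair.Pair.admBlowup.{u}).Q.map (k₁ i ≫ c') := by
      rw [Functor.map_comp, Functor.map_comp, ← hc, ← hc', ← Category.assoc, ← Category.assoc,
        ← Functor.map_comp, ← hk₁ i, Functor.map_comp, Category.assoc, Category.assoc, h i]
    obtain ⟨W₄, τ, hτ, hτ₁⟩ := (MorphismProperty.map_eq_iff_precomp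
      (ModPair.Pair.admBlowup.{u}).Q (ModPair.Pair.admBlowup.{u}) _ _).1 e
    exact ⟨W₄, τ, hτ, hτ₁⟩
  choose W₂ α hα hαeq using heq
  have hd : cpDesc W₂ (fun i => α i ≫ k₁ i) ≫ ρ =
      cpDesc W₂ (fun i => (α i ≫ s₁ i) ≫ cpι P i) := by
    apply cp_hom_ext
    intro i
    rw [← Category.assoc, cpι_desc, cpι_desc, Category.assoc, Category.assoc, hk₁ i]
  have hadm : ModPair.Pair.admBlowup (cpDesc W₂ (fun i => (α i ≫ s₁ i) ≫ cpι P i)) :=
    isAdmBlowup_cpDesc (fun i => α i ≫ s₁ i)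
      (fun i => (ModPair.Pair.admBlowup.{u}).comp_mem _ _ (hα i) (hs₁ i))
  have hdc : cpDesc W₂ (fun i => α i ≫ k₁ i) ≫ c = cpDesc W₂ (fun i => α i ≫ k₁ i) ≫ c' := by
    apply cp_hom_ext
    intro i
    rw [← Category.assoc, ← Category.assoc, cpι_desc, Category.assoc, Category.assoc]
    exact hαeq i
  haveI : IsIso ((ModPair.Pair.admBlowup.{u}).Q.map (cpDesc W₂ (fun i => α i ≫ k₁ i) ≫ ρ)) := by
    rw [hd]
    exact Localization.inverts (ModPair.Pair.admBlowup.{u}).Q (ModPair.Pair.admBlowup.{u}) _ hadm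
  rw [← cancel_epi ((ModPair.Pair.admBlowup.{u}).Q.map (cpDesc W₂ (fun i => α i ≫ k₁ i) ≫ ρ)),
    Functor.map_comp, Category.assoc, Category.assoc, hc, hc', ← Functor.map_comp,
    ← Functor.map_comp, hdc]

/-- the image of the coproduct cocone in the localization is a colimit. -/
noncomputable def isColimitMapQ (F : Discrete σ ⥤ ModPair.Pair.{u}) :
    IsColimit ((ModPair.Pair.admBlowup.{u}).Q.mapCocone (PairCoprod.cocone F)) where
  desc s := Classical.choose
    (loc_desc_exists (fun i => F.obj ⟨i⟩) s.pt (fun i => s.ι.app ⟨i⟩))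
  fac s j := Classical.choose_spec
    (loc_desc_exists (fun i => F.obj ⟨i⟩) s.pt (fun i => s.ι.app ⟨i⟩)) j.as
  uniq s m hm := loc_desc_unique (fun i => F.obj ⟨i⟩) s.pt _ _ (fun i =>
    (hm ⟨i⟩).trans (Classical.choose_spec
      (loc_desc_exists (fun i => F.obj ⟨i⟩) s.pt (fun i => s.ι.app ⟨i⟩)) i).symm)

theorem preservesColimitsOfShape_Q :
    PreservesColimitsOfShape (Discrete σ) (ModPair.Pair.admBlowup.{u}).Q :=
  ⟨fun {F} => preservesColimit_of_preserves_colimit_cocone (PairCoprod.isColimit F)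
    (isColimitMapQ F)⟩

end loc

/-- a two-element family. -/
def fam (X Y : ModPair.Pair.{u}) : ULift.{u} WalkingPair → ModPair.Pair.{u} :=
  fun i => WalkingPair.casesOn i.down X Y

theorem hasColimit_pair (X Y : ModPair.Pair.{u}) :
    HasColimit (pair ((ModPair.Pair.admBlowup.{u}).Q.obj X)
      ((ModPair.Pair.admBlowup.{u}).Q.obj Y)) := by
  have hex := fun (s : BinaryCofan ((ModPair.Pair.admBlowup.{u}).Q.obj X)
      ((ModPair.Pair.admBlowup.{u}).Q.obj Y)) =>
    loc_desc_exists (fam X Y) s.pt (fun i => match i with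
      | ⟨.left⟩ => s.inl
      | ⟨.right⟩ => s.inr)
  choose d hd using hex
  exact ⟨⟨⟨BinaryCofan.mk ((ModPair.Pair.admBlowup.{u}).Q.map (cpι (fam X Y) ⟨.left⟩))
      ((ModPair.Pair.admBlowup.{u}).Q.map (cpι (fam X Y) ⟨.right⟩)),
    BinaryCofan.isColimitMk d (fun s => hd s ⟨.left⟩) (fun s => hd s ⟨.right⟩)
      (fun s m h1 h2 => loc_desc_unique (fam X Y) _ _ _ (fun i => match i with
        | ⟨.left⟩ => h1.trans (hd s ⟨.left⟩).symm
        | ⟨.right⟩ => h2.trans (hd s ⟨.right⟩).symm))⟩⟩⟩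

theorem main :
    HasBinaryCoproducts (ModPair.Pair.admBlowup.{u}).Localization ∧
      PreservesColimitsOfShape (Discrete WalkingPair) (ModPair.Pair.admBlowup.{u}).Q := by
  constructor
  · haveI : ∀ {A B : (ModPair.Pair.admBlowup.{u}).Localization}, HasColimit (pair A B) := by
      intro A B
      obtain ⟨X, rfl⟩ :=
        (Localization.Construction.objEquiv (ModPair.Pair.admBlowup.{u})).surjective A
      obtain ⟨Y, rfl⟩ :=
        (Localization.Construction.objEquiv (ModPair.Pair.admBlowup.{u})).surjective B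
      exact hasColimit_pair X Y
    exact hasBinaryCoproducts_of_hasColimit_pair _
  · haveI := preservesColimitsOfShape_Q.{u} (σ := ULift.{u} WalkingPair)
    exact preservesColimitsOfShape_of_equiv
      (Discrete.equivalence Equiv.ulift : Discrete (ULift.{u} WalkingPair) ≌ Discrete WalkingPair)
      (ModPair.Pair.admBlowup.{u}).Q

end Groth.Agent.Lib.T2H6.PairCoprodLoc
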