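-- helper6 (team 2): localization of finite type modulus pairs over a base at the abstract
-- admissible blow-ups embeds fully faithfully in the slice of the localization.
import Mathlib
import Groth.Prelude.Def_BlowUp2
import Groth.Prelude.Def_W4c6modpairsegaMP
import Groth.Agent.Lib.T2H6AmbProdPullback

set_option autoImplicit false
set_option backward.isDefEq.respectTransparency false
set_option backward.isDefEq.respectTransparency.types false
open CategoryTheory CategoryTheory.Limits AlgebraicGeometry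

universe w v u

namespace Groth.Agent.Lib.T2H6.PairSliceLoc

open Groth.Agent.Lib.T2H6.AmbProdPullback

section generic

variable {C : Type*} [Category C] {D : Type*} [Category D] (L : C ⥤ D) (W : MorphismProperty C)
  [L.IsLocalization W] [W.HasRightCalculusOfFractions]

theorem exists_frac_gen {X Y : C} (x : L.obj X ⟶ L.obj Y) :
    ∃ (X' : C) (s : X' ⟶ X) (_ : W s) (a : X' ⟶ Y), L.map s ≫ x = L.map a := by
  obtain ⟨φ, hφ⟩ := Localization.exists_rightFraction L W x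
  refine ⟨φ.X', φ.s, φ.hs, φ.f, ?_⟩
  rw [hφ]
  exact φ.map_s_comp_map _ _

theorem exists_frac₂_gen {X Y Z : C} (x : L.obj X ⟶ L.obj Y) (y : L.obj X ⟶ L.obj Z) :
    ∃ (X' : C) (s : X' ⟶ X) (_ : W s) (a : X' ⟶ Y) (b : X' ⟶ Z),
      L.map s ≫ x = L.map a ∧ L.map s ≫ y = L.map b := by
  obtain ⟨W₁, σ₁, hσ₁, a₁, ha₁⟩ := exists_frac_gen L W x
  obtain ⟨W₂, σ₂, hσ₂, b₂, hb₂⟩ := exists_frac_gen L W y
  obtain ⟨ψ, hψ⟩ := MorphismProperty.HasRightCalculusOfFractions.exists_rightFraction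
    (W := W) (MorphismProperty.LeftFraction.mk σ₁ σ₂ hσ₂)
  refine ⟨ψ.X', ψ.s ≫ σ₁, W.comp_mem _ _ ψ.hs hσ₁, ψ.s ≫ a₁, ψ.f ≫ b₂, ?_, ?_⟩
  · rw [Functor.map_comp, Category.assoc, ha₁, ← Functor.map_comp]
  · have h : ψ.s ≫ σ₁ = ψ.f ≫ σ₂ := hψ
    rw [h, Functor.map_comp, Category.assoc, hb₂, ← Functor.map_comp]

end generic

variable (S : ModPair.Pair.{u})

/-- finite type objects over `S`. -/
abbrev Pft : ObjectProperty (Over S) :=
  fun X : Over S => LocallyOfFiniteType X.hom.hom ∧ QuasiCompact X.hom.hom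

/-- the admissible blow-ups between finite type objects over `S`. -/
abbrev WC : MorphismProperty (Pft S).FullSubcategory :=
  ((ModPair.Pair.admBlowup.{u}).inverseImage (Over.forget S)).inverseImage (Pft S).ι

variable {S}

/-- an admissible blow-up of the total space of a finite type object over `S` is a finite type
object over `S`. -/
noncomputable def ext (X : (Pft S).FullSubcategory) {X' : ModPair.Pair.{u}} (t : X' ⟶ X.obj.left)
    (ht : ModPair.Pair.admBlowup t) : (Pft S).FullSubcategory :=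
  ⟨Over.mk (t ≫ X.obj.hom), by
    haveI : IsProper t.hom := ht.2.1
    haveI : LocallyOfFiniteType X.obj.hom.hom := X.property.1
    haveI : QuasiCompact X.obj.hom.hom := X.property.2
    constructor
    · change LocallyOfFiniteType (t.hom ≫ X.obj.hom.hom)
      infer_instance
    · change QuasiCompact (t.hom ≫ X.obj.hom.hom)
      infer_instance⟩

/-- the blow-up morphism. -/
noncomputable def extMap (X : (Pft S).FullSubcategory) {X' : ModPair.Pair.{u}}
    (t : X' ⟶ X.obj.left) (ht : ModPair.Pair.admBlowup t) : ext X t ht ⟶ X :=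
  ObjectProperty.homMk (Over.homMk t rfl)

theorem extMap_mem (X : (Pft S).FullSubcategory) {X' : ModPair.Pair.{u}}
    (t : X' ⟶ X.obj.left) (ht : ModPair.Pair.admBlowup t) : WC S (extMap X t ht) := ht

/-- morphisms out of the blow-up. -/
noncomputable def extLift (X Y : (Pft S).FullSubcategory) {X' : ModPair.Pair.{u}}
    (t : X' ⟶ X.obj.left) (ht : ModPair.Pair.admBlowup t) (g : X' ⟶ Y.obj.left)
    (hg : g ≫ Y.obj.hom = t ≫ X.obj.hom) : ext X t ht ⟶ Y :=
  ObjectProperty.homMk (Over.homMk g hg)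

theorem hom_ext' {X Y : (Pft S).FullSubcategory} (f g : X ⟶ Y) (h : f.hom.left = g.hom.left) :
    f = g :=
  ObjectProperty.hom_ext _ (Over.OverMorphism.ext h)

instance instRCF' : (WC S).HasRightCalculusOfFractions where
  exists_rightFraction := by
    intro X Y φ
    obtain ⟨ψ, hψ⟩ := MorphismProperty.HasRightCalculusOfFractions.exists_rightFraction
      (W := ModPair.Pair.admBlowup.{u})
      (MorphismProperty.LeftFraction.mk φ.f.hom.left φ.s.hom.left φ.hs)
    have hψ' : ψ.s ≫ φ.f.hom.left = ψ.f ≫ φ.s.hom.left := hψ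
    refine ⟨MorphismProperty.RightFraction.mk (extMap X ψ.s ψ.hs) (extMap_mem X ψ.s ψ.hs)
      (extLift X Y ψ.s ψ.hs ψ.f ?_), ?_⟩
    · rw [← Over.w φ.s.hom, ← Category.assoc, ← hψ', Category.assoc, Over.w φ.f.hom]
    · apply hom_ext'
      exact hψ'
  ext := by
    intro X Y Z f₁ f₂ s hs h
    obtain ⟨X', t, ht, h'⟩ := MorphismProperty.HasRightCalculusOfFractions.ext
      (W := ModPair.Pair.admBlowup.{u}) f₁.hom.left f₂.hom.left s.hom.left hs
      (congrArg (fun k => k.hom.left) h)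
    exact ⟨ext X t ht, extMap X t ht, extMap_mem X t ht, hom_ext' _ _ h'⟩

section main

variable {E : Type v} [Category.{w} E] (L' : (Pft S).FullSubcategory ⥤ E)
  [L'.IsLocalization (WC S)]
  (Φ : E ⥤ Over ((ModPair.Pair.admBlowup.{u}).Q.obj S))
  (e : L' ⋙ Φ ≅ (Pft S).ι ⋙ Over.post (ModPair.Pair.admBlowup.{u}).Q)

include e

theorem full_aux (X Y : (Pft S).FullSubcategory)
    (φ₀ : Φ.obj (L'.obj X) ⟶ Φ.obj (L'.obj Y)) :
    ∃ ψ₀ : L'.obj X ⟶ L'.obj Y, Φ.map ψ₀ = φ₀ := by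
  let φ' : ((Pft S).ι ⋙ Over.post (ModPair.Pair.admBlowup.{u}).Q).obj X ⟶
      ((Pft S).ι ⋙ Over.post (ModPair.Pair.admBlowup.{u}).Q).obj Y :=
    e.inv.app X ≫ φ₀ ≫ e.hom.app Y
  have hφ' : e.hom.app X ≫ φ' = φ₀ ≫ e.hom.app Y := by
    simp only [φ', Iso.hom_inv_id_app_assoc]
  have hw : φ'.left ≫ (ModPair.Pair.admBlowup.{u}).Q.map Y.obj.hom =
      (ModPair.Pair.admBlowup.{u}).Q.map X.obj.hom := Over.w φ'
  obtain ⟨X₁, σ, hσ, g, hg⟩ := exists_frac (W := X.obj.left) (A := Y.obj.left) φ'.left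
  have e1 : (ModPair.Pair.admBlowup.{u}).Q.map (g ≫ Y.obj.hom) =
      (ModPair.Pair.admBlowup.{u}).Q.map (σ ≫ X.obj.hom) := by
    rw [Functor.map_comp, Functor.map_comp, ← hg, Category.assoc, hw]
  obtain ⟨X₂, τ, hτ, hτe⟩ := (MorphismProperty.map_eq_iff_precomp
    (ModPair.Pair.admBlowup.{u}).Q (ModPair.Pair.admBlowup.{u}) _ _).1 e1
  have ht : ModPair.Pair.admBlowup (τ ≫ σ) := (ModPair.Pair.admBlowup.{u}).comp_mem _ _ hτ hσ
  have hg' : (τ ≫ g) ≫ Y.obj.hom = (τ ≫ σ) ≫ X.obj.hom := by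
    rw [Category.assoc, Category.assoc]
    exact hτe
  haveI : IsIso (L'.map (extMap X (τ ≫ σ) ht)) :=
    Localization.inverts L' (WC S) _ (extMap_mem X _ ht)
  refine ⟨inv (L'.map (extMap X (τ ≫ σ) ht)) ≫ L'.map (extLift X Y (τ ≫ σ) ht (τ ≫ g) hg'), ?_⟩
  rw [Functor.map_comp, Functor.map_inv, IsIso.inv_comp_eq, ← cancel_mono (e.hom.app Y)]
  have n1 := e.hom.naturality (extLift X Y (τ ≫ σ) ht (τ ≫ g) hg')
  have n2 := e.hom.naturality (extMap X (τ ≫ σ) ht)
  rw [Category.assoc, ← hφ', ← Category.assoc]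
  change (L' ⋙ Φ).map (extLift X Y (τ ≫ σ) ht (τ ≫ g) hg') ≫ _ =
    ((L' ⋙ Φ).map (extMap X (τ ≫ σ) ht) ≫ _) ≫ _
  rw [n1, n2, Category.assoc]
  congr 1
  apply Over.OverMorphism.ext
  change (ModPair.Pair.admBlowup.{u}).Q.map (τ ≫ g) =
    (ModPair.Pair.admBlowup.{u}).Q.map (τ ≫ σ) ≫ φ'.left
  rw [Functor.map_comp, Functor.map_comp, Category.assoc, hg]

theorem faithful_aux (X Y : (Pft S).FullSubcategory) (ψ₁ ψ₂ : L'.obj X ⟶ L'.obj Y)
    (h : Φ.map ψ₁ = Φ.map ψ₂) : ψ₁ = ψ₂ := by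
  obtain ⟨X', s, hs, g₁, g₂, h1, h2⟩ := exists_frac₂_gen L' (WC S) ψ₁ ψ₂
  haveI : IsIso (L'.map s) := Localization.inverts L' (WC S) s hs
  rw [← cancel_epi (L'.map s), h1, h2]
  have h3 : Φ.map (L'.map g₁) = Φ.map (L'.map g₂) := by
    rw [← h1, ← h2, Functor.map_comp, Functor.map_comp, h]
  have h4 : ((Pft S).ι ⋙ Over.post (ModPair.Pair.admBlowup.{u}).Q).map g₁ =
      ((Pft S).ι ⋙ Over.post (ModPair.Pair.admBlowup.{u}).Q).map g₂ := by
    have n1 := e.hom.naturality g₁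
    have n2 := e.hom.naturality g₂
    rw [← cancel_epi (e.hom.app X'), ← n1, ← n2]
    change Φ.map (L'.map g₁) ≫ _ = Φ.map (L'.map g₂) ≫ _
    rw [h3]
  have h5 : (ModPair.Pair.admBlowup.{u}).Q.map g₁.hom.left =
      (ModPair.Pair.admBlowup.{u}).Q.map g₂.hom.left := congrArg (fun k => k.left) h4
  obtain ⟨X₂, τ, hτ, hτe⟩ := (MorphismProperty.map_eq_iff_precomp
    (ModPair.Pair.admBlowup.{u}).Q (ModPair.Pair.admBlowup.{u}) _ _).1 h5
  have h6 : extMap X' τ hτ ≫ g₁ = extMap X' τ hτ ≫ g₂ := hom_ext' _ _ hτe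
  haveI : IsIso (L'.map (extMap X' τ hτ)) :=
    Localization.inverts L' (WC S) _ (extMap_mem X' τ hτ)
  rw [← cancel_epi (L'.map (extMap X' τ hτ)), ← Functor.map_comp, ← Functor.map_comp, h6]

theorem main : Φ.Full ∧ Φ.Faithful := by
  haveI : L'.EssSurj := Localization.essSurj L' (WC S)
  constructor
  · refine ⟨fun {A B} φ => ?_⟩
    obtain ⟨ψ₀, hψ₀⟩ := full_aux L' Φ e (L'.objPreimage A) (L'.objPreimage B)
      (Φ.map (L'.objObjPreimageIso A).hom ≫ φ ≫ Φ.map (L'.objObjPreimageIso B).inv)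
    refine ⟨(L'.objObjPreimageIso A).inv ≫ ψ₀ ≫ (L'.objObjPreimageIso B).hom, ?_⟩
    rw [Functor.map_comp, Functor.map_comp, hψ₀]
    simp only [Category.assoc, ← Functor.map_comp, Iso.inv_hom_id]
    rw [← Category.assoc, ← Functor.map_comp, Iso.inv_hom_id, CategoryTheory.Functor.map_id,
      CategoryTheory.Functor.map_id, Category.comp_id, Category.id_comp]
  · refine ⟨fun {A B} ψ₁ ψ₂ h => ?_⟩
    have h' := faithful_aux L' Φ e (L'.objPreimage A) (L'.objPreimage B)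
      ((L'.objObjPreimageIso A).hom ≫ ψ₁ ≫ (L'.objObjPreimageIso B).inv)
      ((L'.objObjPreimageIso A).hom ≫ ψ₂ ≫ (L'.objObjPreimageIso B).inv)
      (by rw [Functor.map_comp, Functor.map_comp, Functor.map_comp, Functor.map_comp, h])
    rw [cancel_epi, cancel_mono] at h'
    exact h'

end main

end Groth.Agent.Lib.T2H6.PairSliceLoc
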