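import Mathlib
import Groth.Prelude
import Groth.Agent.Lib.T2H6HilbPolyO
set_option backward.isDefEq.respectTransparency.types false

/-!
# Parabolic Hilbert functions (helper6)

Namespace `Groth.Agent.Lib.T2H6.ParHilb`.

* `shortExact_pullback_image` : in an abelian category, for a short exact sequence `0 → F → E → G → 0` and a subobject
  `P` of `E`, the sequence `0 → P ∩ F → P → image (P → G) → 0` is short exact.
* `eul k L m G` : `χ(G ⊗ L^m)` as a real number; `eul_add` : additivity in short exact sequences of coherent modules.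
* `parHilb_add` (S18524) : additivity of the parabolic Hilbert function in parabolic extensions.
-/

set_option autoImplicit false
set_option linter.style.haveILetI false
set_option linter.unusedSectionVars false
universe u

open CategoryTheory TopCat TopologicalSpace Opposite AlgebraicGeometry Limits Polynomial StabCat

namespace Groth.Agent.Lib.T2H6.ParHilb

open Groth.Agent.Lib.T2H6.HilbPolyA Groth.Agent.Lib.T2H6.HilbPolyB Groth.Agent.Lib.T2H5.Twist
  Groth.Agent.Lib.T2H6.TensorPows Groth.Agent.Lib.T2H6.HilbPolyO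

section abstract

variable {C : Type*} [Category C] [Abelian C] {F E G : C} (i : F ⟶ E) (p : E ⟶ G)

theorem pullbackπ_comp (w : i ≫ p = 0) (P : Subobject E) :
    Subobject.pullbackπ i P ≫ factorThruImageSubobject (P.arrow ≫ p) = 0 := by
  rw [← cancel_mono (imageSubobject (P.arrow ≫ p)).arrow, Category.assoc, imageSubobject_arrow_comp,
    Limits.zero_comp, ← Category.assoc, (Subobject.isPullback i P).w, Category.assoc, w, Limits.comp_zero]

instance mono_pullbackπ [Mono i] (P : Subobject E) : Mono (Subobject.pullbackπ i P) := by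
  have h := (Subobject.isPullback i P).w
  haveI : Mono (Subobject.pullbackπ i P ≫ P.arrow) := by
    rw [h]
    infer_instance
  exact mono_of_mono (Subobject.pullbackπ i P) P.arrow

/-- `0 → P ∩ F → P → image (P → G) → 0` is short exact. -/
theorem shortExact_pullback_image (w : i ≫ p = 0) (hS : (ShortComplex.mk i p w).ShortExact)
    (P : Subobject E) :
    (ShortComplex.mk (Subobject.pullbackπ i P) (factorThruImageSubobject (P.arrow ≫ p))
      (pullbackπ_comp i p w P)).ShortExact := by
  haveI : Mono i := hS.mono_f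
  have hk : IsLimit (KernelFork.ofι i w) := hS.fIsKernel
  refine ShortComplex.ShortExact.mk' ?_ (by dsimp; infer_instance) (by dsimp; infer_instance)
  refine ShortComplex.exact_of_f_is_kernel _ ?_
  have hz : ∀ {T : C} (t : T ⟶ (P : C)), t ≫ factorThruImageSubobject (P.arrow ≫ p) = 0 →
      (t ≫ P.arrow) ≫ p = 0 := by
    intro T t ht
    have := congrArg (· ≫ (imageSubobject (P.arrow ≫ p)).arrow) ht
    simpa using this
  refine KernelFork.IsLimit.ofι _ _
    (fun {T} t ht => (Subobject.isPullback i P).lift t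
      (KernelFork.IsLimit.lift' hk (t ≫ P.arrow) (hz t ht)).1
      (KernelFork.IsLimit.lift' hk (t ≫ P.arrow) (hz t ht)).2.symm) ?_ ?_
  · intro T t ht
    exact (Subobject.isPullback i P).lift_fst _ _ _
  · intro T t ht m hm
    dsimp at hm
    rw [← cancel_mono (Subobject.pullbackπ i P), hm]
    exact ((Subobject.isPullback i P).lift_fst _ _ _).symm

end abstract

variable {X : Scheme.{u}} (k : Type u) [Field k] [X.Over (Spec (CommRingCat.of k))]
  [IsProper (X ↘ Spec (CommRingCat.of k))] (L : X.Modules)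

/-- `χ(G ⊗ L^m)` as a real number. -/
noncomputable def eul (m : ℕ) (G : X.Modules) : ℝ := (Curv2.euler k X (ShStab.twist X L G m) : ℝ)

theorem eul_add (hL : PicF.IsInvertible L) (m : ℕ) (S : ShortComplex X.Modules) (hS : S.ShortExact)
    (h₁ : Coh.IsCoh S.X₁) (h₂ : Coh.IsCoh S.X₂) (h₃ : Coh.IsCoh S.X₃) :
    eul k L m S.X₂ = eul k L m S.X₁ + eul k L m S.X₃ := by
  have hLm := Groth.Agent.Lib.Helper23.SecTw.isInvertible_tensorPow hL m
  have cLm := Groth.Agent.Lib.T2H6.CurveDeg.isCoh_of_isInvertible _ hLm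
  have := Groth.Agent.Lib.T2H6.EulerField.euler_additive k X (S.map (tr (CohB1.tensorPow L m)))
    (shortExact_map_tr hLm S hS)
    (Groth.Agent.Lib.T2H6.TensorDeg.isCoh_tensor _ _ h₁ cLm)
    (Groth.Agent.Lib.T2H6.TensorDeg.isCoh_tensor _ _ h₂ cLm)
    (Groth.Agent.Lib.T2H6.TensorDeg.isCoh_tensor _ _ h₃ cLm)
  unfold eul ShStab.twist
  exact_mod_cast this

section coherence

variable [IsLocallyNoetherian X]

theorem isCoh_pullbackObj {F E : X.Modules} (i : F ⟶ E) [Mono i] (hF : Coh.IsCoh F) (hE : Coh.IsCoh E)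
    (P : Subobject E) (hP : Coh.IsCoh (P : X.Modules)) :
    Coh.IsCoh (((Subobject.pullback i).obj P : Subobject F) : X.Modules) :=
  Groth.Agent.Lib.T2H5.Devissage.isCoh_of_iso (Subobject.isPullback i P).isoPullback.symm
    (Groth.Agent.Lib.T2H5.FiltCat.isCoh_pullback_mod P.arrow i hP hE hF)

theorem isCoh_imageSubobject {E G : X.Modules} (p : E ⟶ G) (hG : Coh.IsCoh G)
    (P : Subobject E) (hP : Coh.IsCoh (P : X.Modules)) :
    Coh.IsCoh ((imageSubobject (P.arrow ≫ p) : Subobject G) : X.Modules) :=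
  Groth.Agent.Lib.T2H5.Devissage.isCoh_of_iso
    ((Abelian.imageIsoImage (P.arrow ≫ p)) ≪≫ (imageSubobjectIso (P.arrow ≫ p)).symm)
    (Groth.Agent.Lib.T2H6.CurveVB.isCoh_image (P.arrow ≫ p) hP hG)

end coherence

include k in
theorem eul_pullback_add_image (hL : PicF.IsInvertible L) (m : ℕ) {F E G : X.Modules} (i : F ⟶ E) (p : E ⟶ G)
    (w : i ≫ p = 0) (hS : (ShortComplex.mk i p w).ShortExact) (hF : Coh.IsCoh F) (hE : Coh.IsCoh E)
    (hG : Coh.IsCoh G) (P : Subobject E) (hP : Coh.IsCoh (P : X.Modules)) :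
    eul k L m (((Subobject.pullback i).obj P : Subobject F) : X.Modules) +
      eul k L m ((imageSubobject (P.arrow ≫ p) : Subobject G) : X.Modules) = eul k L m (P : X.Modules) := by
  haveI := Groth.Agent.Lib.T2H6.HilbPolyC.isLocallyNoetherian (X := X) k
  haveI : Mono i := hS.mono_f
  exact (eul_add k L hL m _ (shortExact_pullback_image i p w hS P) (isCoh_pullbackObj i hF hE P hP) hP
    (isCoh_imageSubobject p hG P hP)).symm

theorem pieceX_induced {F E : X.Modules} (𝓔 : ParSh.Str E) (i : F ⟶ E) (j : Fin (𝓔.l + 2)) :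
    (𝓔.induced i).pieceX j = (Subobject.pullback i).obj (𝓔.pieceX j) := by
  induction j using Fin.lastCases with
  | last => rw [ParSh.Str.pieceX_last]; exact (𝓔.induced i).pieceX_last
  | cast j => rw [ParSh.Str.pieceX_castSucc]; exact (𝓔.induced i).pieceX_castSucc j

theorem pieceX_coinduced {E G : X.Modules} (𝓔 : ParSh.Str E) (p : E ⟶ G) [Epi p] (j : Fin (𝓔.l + 2)) :
    (𝓔.coinduced p).pieceX j = imageSubobject ((𝓔.pieceX j).arrow ≫ p) := by
  induction j using Fin.lastCases with
  | last => rw [ParSh.Str.pieceX_last]; exact (𝓔.coinduced p).pieceX_last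
  | cast j => rw [ParSh.Str.pieceX_castSucc]; exact (𝓔.coinduced p).pieceX_castSucc j

theorem isCoh_pieceX {E : X.Modules} (𝓔 : ParSh.Str E)
    (hcoh : ∀ j, Coh.IsCoh ((𝓔.piece j : Subobject E) : X.Modules))
    (hbot : Coh.IsCoh ((𝓔.bot : Subobject E) : X.Modules)) (j : Fin (𝓔.l + 2)) :
    Coh.IsCoh ((𝓔.pieceX j : Subobject E) : X.Modules) := by
  induction j using Fin.lastCases with
  | last => rw [ParSh.Str.pieceX_last]; exact hbot
  | cast j => rw [ParSh.Str.pieceX_castSucc]; exact hcoh j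

theorem parHilb_eq {E : X.Modules} (𝓔 : ParSh.Str E) (m : ℕ) :
    𝓔.parHilb k X L m = eul k L m (𝓔.bot : X.Modules) +
      ∑ j : Fin (𝓔.l + 1), 𝓔.wt j * (eul k L m (𝓔.piece j : X.Modules) - eul k L m (𝓔.pieceX j.succ : X.Modules)) :=
  rfl

include k in
/-- **S18524**: additivity of the parabolic Hilbert function in parabolic extensions. -/
theorem parHilb_add (hL : PicF.IsInvertible L) {F E G : X.Modules} (hF : Coh.IsCoh F) (hE : Coh.IsCoh E)
    (hG : Coh.IsCoh G) (i : F ⟶ E) (p : E ⟶ G) [Epi p] (𝓕 : ParSh.Str F) (𝓔 : ParSh.Str E) (𝓖 : ParSh.Str G)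
    (hext : ParSh.IsParExt i p 𝓕 𝓔 𝓖)
    (hcoh : ∀ j, Coh.IsCoh ((𝓔.piece j : Subobject E) : X.Modules))
    (hbot : Coh.IsCoh ((𝓔.bot : Subobject E) : X.Modules)) (m : ℕ) :
    𝓕.parHilb k X L m + 𝓖.parHilb k X L m = 𝓔.parHilb k X L m := by
  obtain ⟨w, hS, rfl, rfl⟩ := hext
  have key := fun P hP => eul_pullback_add_image k L hL m i p w hS hF hE hG P hP
  have hX := isCoh_pieceX 𝓔 hcoh hbot
  rw [parHilb_eq, parHilb_eq, parHilb_eq]
  change (eul k L m (((Subobject.pullback i).obj 𝓔.bot : Subobject F) : X.Modules) +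
      ∑ j : Fin (𝓔.l + 1), 𝓔.wt j * (eul k L m (((Subobject.pullback i).obj (𝓔.piece j) : Subobject F) : X.Modules) -
        eul k L m ((𝓔.induced i).pieceX j.succ : X.Modules))) +
    (eul k L m ((imageSubobject (𝓔.bot.arrow ≫ p) : Subobject G) : X.Modules) +
      ∑ j : Fin (𝓔.l + 1), 𝓔.wt j * (eul k L m ((imageSubobject ((𝓔.piece j).arrow ≫ p) : Subobject G) : X.Modules) -
        eul k L m ((𝓔.coinduced p).pieceX j.succ : X.Modules))) = _
  rw [← key _ hbot, add_add_add_comm, ← Finset.sum_add_distrib]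
  congr 1
  refine Finset.sum_congr rfl fun j _ => ?_
  rw [pieceX_induced, pieceX_coinduced, ← key _ (hcoh j), ← key _ (hX j.succ)]
  ring

end Groth.Agent.Lib.T2H6.ParHilb
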