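import Mathlib
import Groth.Prelude
import Groth.Agent.Lib.T2H6ParHilb
set_option backward.isDefEq.respectTransparency.types false

/-!
# Parabolic Hilbert functions, II (helper6)

* `abel_fin` : summation by parts over `Fin`.
* `eul_eq_eval` : `χ(E ⊗ L^m)` is the value of a Hilbert polynomial.
* `parHilb_eq_sub` (S18526) : the parabolic Hilbert function in terms of the Hilbert polynomials of the quotients `E / E_j`.
-/

set_option autoImplicit false
set_option linter.style.haveILetI false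
set_option linter.unusedSectionVars false
universe u

open CategoryTheory TopCat TopologicalSpace Opposite AlgebraicGeometry Limits Polynomial StabCat

namespace Groth.Agent.Lib.T2H6.ParHilb

open Groth.Agent.Lib.T2H6.HilbPolyA Groth.Agent.Lib.T2H6.HilbPolyB Groth.Agent.Lib.T2H5.Twist
  Groth.Agent.Lib.T2H6.TensorPows Groth.Agent.Lib.T2H6.HilbPolyO Groth.Agent.Lib.T2H6.HilbPolyE

theorem telescope_fin {n : ℕ} (f : Fin (n + 2) → ℝ) :
    ∑ j : Fin (n + 1), (f j.succ - f j.castSucc) = f (Fin.last _) - f 0 := by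
  rw [Finset.sum_sub_distrib]
  have h1 := Fin.sum_univ_succ f
  have h2 := Fin.sum_univ_castSucc f
  linarith

/-- summation by parts. -/
theorem abel_fin {n : ℕ} (a h : Fin (n + 2) → ℝ) :
    ∑ j : Fin (n + 1), (a j.succ - a j.castSucc) * h j.succ =
      a (Fin.last _) * h (Fin.last _) - a 0 * h 0 -
        ∑ j : Fin (n + 1), a j.castSucc * (h j.succ - h j.castSucc) := by
  have tel := telescope_fin (fun i => a i * h i)
  rw [← tel, ← Finset.sum_sub_distrib]
  refine Finset.sum_congr rfl fun j _ => ?_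
  ring

variable {X : Scheme.{u}} (k : Type u) [Field k] [X.Over (Spec (CommRingCat.of k))]
  [IsProper (X ↘ Spec (CommRingCat.of k))] (L : X.Modules)

theorem eul_eq_eval {E : X.Modules} (P : ℚ[X]) (hP : ShStab.IsHilbPoly k X L E P) (m : ℕ) :
    eul k L m E = ((P.eval (m : ℚ) : ℚ) : ℝ) := by
  rw [← hP m]
  unfold eul
  push_cast
  rfl

include k in
/-- `χ(x(m)) = P(m) − H(m)` for a coherent subobject `x` of `E` with `H` the Hilbert polynomial of `E / x`. -/
theorem eul_sub_eq (hL : PicF.IsInvertible L) {E : X.Modules} (hE : Coh.IsCoh E) (x : Subobject E)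
    (hx : Coh.IsCoh (x : X.Modules)) (P H : ℚ[X]) (hP : ShStab.IsHilbPoly k X L E P)
    (hH : ShStab.IsHilbPoly k X L (cokernel x.arrow) H) (m : ℕ) :
    eul k L m (x : X.Modules) = ((P.eval (m : ℚ) : ℚ) : ℝ) - ((H.eval (m : ℚ) : ℚ) : ℝ) := by
  haveI := Groth.Agent.Lib.T2H6.HilbPolyC.isLocallyNoetherian (X := X) k
  have h := eul_add k L hL m _ (shortExact_cokernel x.arrow) hx hE
    (Groth.Agent.Lib.T2H5.GenIsoB.isCoh_cokernel _ hx hE)
  dsimp at h
  rw [eul_eq_eval k L P hP m, eul_eq_eval k L H hH m] at h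
  linarith

include k in
/-- **S18526**. -/
theorem parHilb_eq_sub (hL : PicF.IsInvertible L) {E : X.Modules} (hE : Coh.IsCoh E) (𝓔 : ParSh.Str E)
    (hcoh : ∀ j, Coh.IsCoh ((𝓔.pieceX j : Subobject E) : X.Modules))
    (P : ℚ[X]) (hP : ShStab.IsHilbPoly k X L E P) (H : Fin (𝓔.l + 2) → ℚ[X])
    (hH : ∀ j, ShStab.IsHilbPoly k X L (cokernel (𝓔.pieceX j).arrow) (H j)) (m : ℕ) :
    𝓔.parHilb k X L m =
      ((P.eval (m : ℚ) : ℚ) : ℝ) -
        ∑ j : Fin (𝓔.l + 1), (𝓔.wtX j.succ - 𝓔.wtX j.castSucc) * (((H j.succ).eval (m : ℚ) : ℚ) : ℝ) := by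
  have key : ∀ j, eul k L m (𝓔.pieceX j : X.Modules) =
      ((P.eval (m : ℚ) : ℚ) : ℝ) - (((H j).eval (m : ℚ) : ℚ) : ℝ) :=
    fun j => eul_sub_eq k L hL hE _ (hcoh j) P (H j) hP (hH j) m
  -- `H 0 = 0`
  have h0 : H 0 = 0 := by
    have hz : IsZero (cokernel (𝓔.pieceX 0).arrow) := by
      have : 𝓔.pieceX 0 = ⊤ := by
        rw [← Fin.castSucc_zero, ParSh.Str.pieceX_castSucc, 𝓔.piece_zero]
      rw [this]
      exact isZero_cokernel_of_epi _
    exact isHilbPoly_unique k L _ _ _ (hH 0) (Groth.Agent.Lib.T2H6.HilbPolyC.isHilbPoly_zero_of_isZero k L _ hz)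
  rw [abel_fin 𝓔.wtX (fun j => (((H j).eval (m : ℚ) : ℚ) : ℝ)), parHilb_eq]
  have hb : eul k L m (𝓔.bot : X.Modules) = eul k L m (𝓔.pieceX (Fin.last _) : X.Modules) := by
    rw [ParSh.Str.pieceX_last]
  have hp : ∀ j : Fin (𝓔.l + 1), eul k L m (𝓔.piece j : X.Modules) = eul k L m (𝓔.pieceX j.castSucc : X.Modules) := by
    intro j
    rw [ParSh.Str.pieceX_castSucc]
  rw [hb, key]
  simp only [hp, key, ParSh.Str.wtX_castSucc, ParSh.Str.wtX_last, h0, eval_zero, Rat.cast_zero, mul_zero, one_mul,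
    sub_zero]
  have : ∀ j : Fin (𝓔.l + 1), 𝓔.wt j * (((P.eval (m : ℚ) : ℚ) : ℝ) - (((H j.castSucc).eval (m : ℚ) : ℚ) : ℝ) -
      (((P.eval (m : ℚ) : ℚ) : ℝ) - (((H j.succ).eval (m : ℚ) : ℚ) : ℝ))) =
      𝓔.wt j * ((((H j.succ).eval (m : ℚ) : ℚ) : ℝ) - (((H j.castSucc).eval (m : ℚ) : ℚ) : ℝ)) := by
    intro j; ring
  simp only [this]
  ring

end Groth.Agent.Lib.T2H6.ParHilb
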