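import Mathlib
import Groth.Prelude
import Groth.Agent.Lib.T2H6ParHilbB
import Groth.Agent.Lib.T2H6ParShC
import Groth.Agent.Lib.T2H6AmpleCrit
set_option backward.isDefEq.respectTransparency.types false

/-!
# Parabolic Hilbert polynomials, III (helper6)

* `support_cokernel_twistSub_subset` : `Supp (E / I·E) ⊆ Supp E ∩ V(I)`.
* `support_cokernel_subset_of_le` : `Supp (E / x) ⊆ Supp (E / b)` for `b ≤ x`.
* `coeff_pieceX_eq` : for a parabolic structure along `I` with `dim (Supp E ∩ V(I)) < d`, the Hilbert polynomials of the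
  pieces have the same coefficients as that of `E` in degrees `≥ d`.
* `coeff_parPoly_eq` (S18525).
-/

set_option autoImplicit false
set_option linter.style.haveILetI false
set_option linter.unusedSectionVars false
universe u

open CategoryTheory TopCat TopologicalSpace Opposite AlgebraicGeometry Limits Polynomial StabCat

namespace Groth.Agent.Lib.T2H6.ParHilb

open Groth.Agent.Lib.T2H6.HilbPolyA Groth.Agent.Lib.T2H6.HilbPolyB Groth.Agent.Lib.T2H5.Twist
  Groth.Agent.Lib.T2H6.TensorPows Groth.Agent.Lib.T2H6.HilbPolyO Groth.Agent.Lib.T2H6.HilbPolyE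
open Groth.Agent.Lib.Helper21.ModTensor2 Groth.Agent.Lib.Helper21.ModTensor3
  Groth.Agent.Lib.Helper21.ModTensor5

variable {X : Scheme.{u}}

section support

/-- `E ⊗ -` is right exact. -/
theorem preservesFiniteColimits_tensorBi_obj (E : X.Modules) :
    PreservesFiniteColimits (DCoh.tensorBi.obj E) := tL_preservesFiniteColimits X.sheaf E

theorem twistMap_comp_cokernel (I : X.IdealSheafData) (E : X.Modules) :
    ParSh.twistMap I E ≫ cokernel.π (ParSh.twistSub I E).arrow = 0 := by
  unfold ParSh.twistSub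
  have h := imageSubobject_arrow_comp (ParSh.twistMap I E)
  calc ParSh.twistMap I E ≫ cokernel.π (imageSubobject (ParSh.twistMap I E)).arrow
      = (factorThruImageSubobject (ParSh.twistMap I E) ≫ (imageSubobject (ParSh.twistMap I E)).arrow) ≫
          cokernel.π (imageSubobject (ParSh.twistMap I E)).arrow := by rw [h]
    _ = 0 := by rw [Category.assoc, cokernel.condition, Limits.comp_zero]

/-- `Supp (E / I·E) ⊆ Supp E ∩ V(I)`. -/
theorem support_cokernel_twistSub_subset (I : X.IdealSheafData) (E : X.Modules) :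
    CohB1.support (cokernel (ParSh.twistSub I E).arrow) ⊆ CohB1.support E ∩ (I.support : Set X) := by
  let T : X.Modules ⥤ X.Modules := DCoh.tensorBi.obj E
  haveI := preservesFiniteColimits_tensorBi_obj E
  obtain ⟨hex, hepi⟩ := (Functor.preservesFiniteColimits_iff_forall_exact_map_and_epi T).1
    inferInstance (Groth.Agent.Lib.T2H6.AmpleCrit.idealSC I)
    (Groth.Agent.Lib.T2H6.AmpleCrit.idealSC_shortExact I)
  haveI : Epi (T.map (ClSub.toSubscheme I)) := hepi
  haveI : Epi ((Groth.Agent.Lib.T2H6.AmpleCrit.idealSC I).map T).g := hepi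
  let c := cokernel.π (ParSh.twistSub I E).arrow
  have hcok := hex.gIsCokernel
  have hz : T.map (ClSub.idealModι I) ≫ ((SecTwist.unitorR E).hom ≫ c) = 0 := by
    have := twistMap_comp_cokernel I E
    unfold ParSh.twistMap at this
    rw [Category.assoc] at this
    rw [KoszTw.tensorBi_obj_map]
    exact this
  obtain ⟨ψ, hψ⟩ := CokernelCofork.IsColimit.desc' hcok _ hz
  have hψ' : T.map (ClSub.toSubscheme I) ≫ ψ = (SecTwist.unitorR E).hom ≫ c := hψ
  haveI : Epi c := inferInstanceAs (Epi (cokernel.π (ParSh.twistSub I E).arrow))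
  haveI : IsIso (SecTwist.unitorR E).hom := inferInstance
  haveI : Epi (SecTwist.unitorR E).hom := inferInstance
  have hepi2 : Epi ((SecTwist.unitorR E).hom ≫ c) := epi_comp' inferInstance inferInstance
  haveI : Epi ψ := by
    haveI : Epi (T.map (ClSub.toSubscheme I) ≫ ψ) := hψ' ▸ hepi2
    exact epi_of_epi (T.map (ClSub.toSubscheme I)) ψ
  have h1 := Groth.Agent.Lib.T2H5.GenIsoB.support_subset_of_epi ψ
  intro x hx
  have hx' : x ∈ CohB1.support (CohB1.tensorMod E (ClSub.quotMod I)) := h1 hx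
  exact ⟨Groth.Agent.Lib.T2H5.Dim0.support_tensorMod_subset _ _ hx',
    Groth.Agent.Lib.T2H6.ParShC.support_quotMod_subset I
      (Groth.Agent.Lib.T2H6.ParShA.support_tensorMod_subset_right _ _ hx')⟩

/-- `Supp (E / x) ⊆ Supp (E / b)` for `b ≤ x`. -/
theorem support_cokernel_subset_of_le {E : X.Modules} {b x : Subobject E} (h : b ≤ x) :
    CohB1.support (cokernel x.arrow) ⊆ CohB1.support (cokernel b.arrow) := by
  let φ : cokernel b.arrow ⟶ cokernel x.arrow :=
    cokernel.map b.arrow x.arrow (Subobject.ofLE b x h) (𝟙 E) (by simp)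
  have hφ : cokernel.π b.arrow ≫ φ = cokernel.π x.arrow := by simp [φ]
  haveI : Epi φ := by
    haveI : Epi (cokernel.π b.arrow ≫ φ) := by rw [hφ]; infer_instance
    exact epi_of_epi (cokernel.π b.arrow) φ
  exact Groth.Agent.Lib.T2H5.GenIsoB.support_subset_of_epi φ

end support

variable (k : Type u) [Field k] [X.Over (Spec (CommRingCat.of k))]
  [IsProper (X ↘ Spec (CommRingCat.of k))] (L : X.Modules)

include k in
/-- the coefficients in degrees `> dim Supp F` of a Hilbert polynomial vanish. -/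
theorem coeff_eq_zero_of_dim_lt (hL : PicF.IsInvertible L) (F : X.Modules) (hF : Coh.IsCoh F) (P : ℚ[X])
    (hP : ShStab.IsHilbPoly k X L F P) (n : ℕ)
    (hd : topologicalKrullDim (CohB1.support F) < (n : WithBot ℕ∞)) : P.coeff n = 0 := by
  have := alpha_eq_zero k L hL F hF P hP n hd
  unfold alpha at this
  have hf : (n.factorial : ℚ) ≠ 0 := by exact_mod_cast n.factorial_ne_zero
  exact (mul_eq_zero.1 this).resolve_left hf

include k in
/-- the Hilbert polynomial of a coherent subobject containing `I·E` agrees with that of `E` in degrees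
`> dim (Supp E ∩ V(I))`. -/
theorem coeff_sub_eq (hL : PicF.IsInvertible L) (I : X.IdealSheafData) {E : X.Modules} (hE : Coh.IsCoh E)
    (x : Subobject E) (hx : Coh.IsCoh (x : X.Modules)) (hIx : ParSh.twistSub I E ≤ x) (d : ℕ)
    (hsupp : topologicalKrullDim ↥(CohB1.support E ∩ (I.support : Set X)) < (d : WithBot ℕ∞))
    (P Q : ℚ[X]) (hP : ShStab.IsHilbPoly k X L E P) (hQ : ShStab.IsHilbPoly k X L (x : X.Modules) Q)
    (n : ℕ) (hn : d ≤ n) : Q.coeff n = P.coeff n := by
  haveI := Groth.Agent.Lib.T2H6.HilbPolyC.isLocallyNoetherian (X := X) k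
  have cC := Groth.Agent.Lib.T2H5.GenIsoB.isCoh_cokernel x.arrow hx hE
  have hadd := isHilbPoly_add k L hL _ (shortExact_cokernel x.arrow) hx hE cC Q P _ hQ hP
    (isHilbPoly_hilb k L hL _ cC)
  have hsub : CohB1.support (cokernel x.arrow) ⊆ CohB1.support E ∩ (I.support : Set X) :=
    (support_cokernel_subset_of_le hIx).trans (support_cokernel_twistSub_subset I E)
  have hdim : topologicalKrullDim (CohB1.support (cokernel x.arrow)) < (n : WithBot ℕ∞) :=
    lt_of_le_of_lt ((Topology.IsEmbedding.inclusion hsub).isInducing.topologicalKrullDim_le)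
      (lt_of_lt_of_le hsupp (by exact_mod_cast hn))
  have h0 := coeff_eq_zero_of_dim_lt k L hL _ cC _ (isHilbPoly_hilb k L hL _ cC) n hdim
  rw [hadd, coeff_add, h0, add_zero]

include k in
/-- **S18525**. -/
theorem coeff_parPoly_eq (hL : PicF.IsInvertible L) (I : X.IdealSheafData)
    {E : X.Modules} (hE : Coh.IsCoh E) (𝓔 : ParSh.Str E) (h𝓔 : 𝓔.Along I)
    (hcoh : ∀ j, Coh.IsCoh ((𝓔.pieceX j : Subobject E) : X.Modules)) (d : ℕ)
    (hsupp : topologicalKrullDim ↥(CohB1.support E ∩ (I.support : Set X)) < (d : WithBot ℕ∞))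
    (P : ℚ[X]) (hP : ShStab.IsHilbPoly k X L E P) (PX : Fin (𝓔.l + 2) → ℚ[X])
    (hPX : ∀ j, ShStab.IsHilbPoly k X L ((𝓔.pieceX j : Subobject E) : X.Modules) (PX j))
    (n : ℕ) (hn : d ≤ n) :
    (W4swparbununimod.parPoly 𝓔 PX).coeff n = (W4swparbununimod.rpoly P).coeff n := by
  have key : ∀ j, (PX j).coeff n = P.coeff n := fun j =>
    coeff_sub_eq k L hL I hE _ (hcoh j) (h𝓔 ▸ 𝓔.bot_le_pieceX j) d hsupp P (PX j) hP (hPX j) n hn
  unfold W4swparbununimod.parPoly
  simp only [coeff_add, finset_sum_coeff, coeff_C_mul, coeff_sub, coeff_map, key, sub_self, mul_zero,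
    Finset.sum_const_zero, add_zero]

end Groth.Agent.Lib.T2H6.ParHilb
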