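import Mathlib
import Groth.Prelude
import Groth.Agent.Lib.T2H6ParHilbC
set_option backward.isDefEq.respectTransparency.types false

/-!
# Parabolic Hilbert polynomials, IV (helper6)

* `shortExact_pullback_arrow` : in an abelian category, `0 → f⁻¹(x) → W → image (W → E / x) → 0` is short exact.
* `support_cokernel_pullback_subset` : `Supp (W / f⁻¹ x) ⊆ Supp (E / x)`.
* `coeff_pred_nonneg_of_dim_lt` : the coefficient of degree `d - 1` of the Hilbert polynomial of a module with support of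
  dimension `< d` is nonnegative.
* `coeff_pred_parPoly_bounds` (S18527).
-/

set_option autoImplicit false
set_option linter.style.haveILetI false
set_option linter.unusedSectionVars false
universe u

open CategoryTheory TopCat TopologicalSpace Opposite AlgebraicGeometry Limits Polynomial StabCat

namespace Groth.Agent.Lib.T2H6.ParHilb

open Groth.Agent.Lib.T2H6.HilbPolyA Groth.Agent.Lib.T2H6.HilbPolyB Groth.Agent.Lib.T2H5.Twist
  Groth.Agent.Lib.T2H6.TensorPows Groth.Agent.Lib.T2H6.HilbPolyO Groth.Agent.Lib.T2H6.HilbPolyE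

section abstract

variable {C : Type*} [Category C] [Abelian C] {W E : C} (f : W ⟶ E) (x : Subobject E)

theorem arrow_comp_factorThru :
    ((Subobject.pullback f).obj x).arrow ≫ factorThruImageSubobject (f ≫ cokernel.π x.arrow) = 0 := by
  rw [← cancel_mono (imageSubobject (f ≫ cokernel.π x.arrow)).arrow, Category.assoc, imageSubobject_arrow_comp,
    Limits.zero_comp, ← Category.assoc, ← (Subobject.isPullback f x).w, Category.assoc, cokernel.condition,
    Limits.comp_zero]

/-- `0 → f⁻¹(x) → W → image (W → E / x) → 0` is short exact. -/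
theorem shortExact_pullback_arrow :
    (ShortComplex.mk ((Subobject.pullback f).obj x).arrow (factorThruImageSubobject (f ≫ cokernel.π x.arrow))
      (arrow_comp_factorThru f x)).ShortExact := by
  have hS : (ShortComplex.mk x.arrow (cokernel.π x.arrow) (cokernel.condition _)).ShortExact :=
    { exact := ShortComplex.exact_cokernel x.arrow
      mono_f := inferInstanceAs (Mono x.arrow)
      epi_g := inferInstanceAs (Epi (cokernel.π x.arrow)) }
  have hk : IsLimit (KernelFork.ofι x.arrow (cokernel.condition x.arrow)) := hS.fIsKernel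
  refine ShortComplex.ShortExact.mk' ?_ (by dsimp; infer_instance) (by dsimp; infer_instance)
  refine ShortComplex.exact_of_f_is_kernel _ ?_
  have hz : ∀ {T : C} (t : T ⟶ W), t ≫ factorThruImageSubobject (f ≫ cokernel.π x.arrow) = 0 →
      (t ≫ f) ≫ cokernel.π x.arrow = 0 := by
    intro T t ht
    have := congrArg (· ≫ (imageSubobject (f ≫ cokernel.π x.arrow)).arrow) ht
    simpa using this
  refine KernelFork.IsLimit.ofι _ _
    (fun {T} t ht => (Subobject.isPullback f x).lift
      (KernelFork.IsLimit.lift' hk (t ≫ f) (hz t ht)).1 t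
      (KernelFork.IsLimit.lift' hk (t ≫ f) (hz t ht)).2) ?_ ?_
  · intro T t ht
    exact (Subobject.isPullback f x).lift_snd _ _ _
  · intro T t ht m hm
    dsimp at hm
    rw [← cancel_mono ((Subobject.pullback f).obj x).arrow, hm]
    exact ((Subobject.isPullback f x).lift_snd _ _ _).symm

end abstract

variable {X : Scheme.{u}}

/-- `Supp (W / f⁻¹ x) ⊆ Supp (E / x)`. -/
theorem support_cokernel_pullback_subset {W E : X.Modules} (f : W ⟶ E) (x : Subobject E) :
    CohB1.support (cokernel ((Subobject.pullback f).obj x).arrow) ⊆ CohB1.support (cokernel x.arrow) := by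
  have hS := shortExact_pullback_arrow f x
  haveI := hS.epi_g
  let e : cokernel ((Subobject.pullback f).obj x).arrow ≅
      ((imageSubobject (f ≫ cokernel.π x.arrow) : Subobject (cokernel x.arrow)) : X.Modules) :=
    IsColimit.coconePointUniqueUpToIso (cokernelIsCokernel _) hS.gIsCokernel
  rw [Groth.Agent.Lib.T2H5.GenIsoB.support_eq_of_iso e]
  exact Groth.Agent.Lib.T2H5.GenIsoB.support_subset_of_mono (imageSubobject (f ≫ cokernel.π x.arrow)).arrow

theorem lt_natCast_iff_le_pred {a : WithBot ℕ∞} {d : ℕ} (hd : 1 ≤ d) :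
    a < (d : WithBot ℕ∞) ↔ a ≤ ((d - 1 : ℕ) : WithBot ℕ∞) := by
  obtain ⟨e, rfl⟩ : ∃ e, d = e + 1 := ⟨d - 1, by omega⟩
  simp only [Nat.add_sub_cancel]
  induction a using WithBot.recBotCoe with
  | bot => simp
  | coe a =>
    induction a using ENat.recTopCoe with
    | top =>
      constructor
      · intro h
        exact absurd h (by
          rw [not_lt]
          exact_mod_cast le_top)
      · intro h
        exact absurd h (by
          rw [not_le]
          exact_mod_cast ENat.coe_lt_top e)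
    | coe a =>
      constructor
      · intro h
        have h' : a < e + 1 := by exact_mod_cast h
        exact_mod_cast Nat.lt_succ_iff.1 h'
      · intro h
        have h' : a ≤ e := by exact_mod_cast h
        exact_mod_cast Nat.lt_succ_iff.2 h'

variable (k : Type u) [Field k] [X.Over (Spec (CommRingCat.of k))]
  [IsProper (X ↘ Spec (CommRingCat.of k))] (L : X.Modules)

include k in
/-- the coefficient of degree `d - 1` of the Hilbert polynomial of a module with support of dimension `< d`. -/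
theorem coeff_pred_nonneg_of_dim_lt (hL : CohB1.IsAmple L) (F : X.Modules) (hF : Coh.IsCoh F) (P : ℚ[X])
    (hP : ShStab.IsHilbPoly k X L F P) (d : ℕ) (hd : 1 ≤ d)
    (hdim : topologicalKrullDim (CohB1.support F) < (d : WithBot ℕ∞)) : 0 ≤ P.coeff (d - 1) := by
  have h := alpha_nonneg k L hL F hF P hP (d - 1) ((lt_natCast_iff_le_pred hd).1 hdim)
  unfold alpha at h
  have hf : (0 : ℚ) < ((d - 1).factorial : ℚ) := by exact_mod_cast (d - 1).factorial_pos
  exact nonneg_of_mul_nonneg_right h hf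

theorem pieceX_succ_le_castSucc {E : X.Modules} (𝓔 : ParSh.Str E) (j : Fin (𝓔.l + 1)) :
    𝓔.pieceX j.succ ≤ 𝓔.pieceX j.castSucc := by
  induction j using Fin.lastCases with
  | last => rw [ParSh.Str.pieceX_succ_last, ParSh.Str.pieceX_castSucc]; exact 𝓔.bot_le _
  | cast i =>
    rw [ParSh.Str.pieceX_succ_castSucc, ParSh.Str.pieceX_castSucc]
    exact 𝓔.piece_anti (Fin.castSucc_le_succ i)

theorem wt_nonneg' {E : X.Modules} (𝓔 : ParSh.Str E) (j : Fin (𝓔.l + 1)) : 0 ≤ 𝓔.wt j :=
  𝓔.wt_nonneg.trans (𝓔.wt_strictMono.monotone (Fin.zero_le j))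

theorem wt_le_one {E : X.Modules} (𝓔 : ParSh.Str E) (j : Fin (𝓔.l + 1)) : 𝓔.wt j ≤ 1 :=
  ((𝓔.wt_strictMono.monotone (Fin.le_last j)).trans_lt 𝓔.wt_lt_one).le

include k in
/-- for coherent subobjects `I·E ≤ x ≤ y` of `E`, the coefficient of degree `d - 1` of the Hilbert polynomial of `x` is
at most that of `y`. -/
theorem coeff_pred_le_of_le (hL : CohB1.IsAmple L) (I : X.IdealSheafData) {E : X.Modules} (hE : Coh.IsCoh E)
    {x y : Subobject E} (hxy : x ≤ y) (hx : Coh.IsCoh (x : X.Modules)) (hy : Coh.IsCoh (y : X.Modules))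
    (hIx : ParSh.twistSub I E ≤ x) (d : ℕ) (hd : 1 ≤ d)
    (hsupp : topologicalKrullDim ↥(CohB1.support E ∩ (I.support : Set X)) < (d : WithBot ℕ∞))
    (Qx Qy : ℚ[X]) (hQx : ShStab.IsHilbPoly k X L (x : X.Modules) Qx)
    (hQy : ShStab.IsHilbPoly k X L (y : X.Modules) Qy) : Qx.coeff (d - 1) ≤ Qy.coeff (d - 1) := by
  haveI := Groth.Agent.Lib.T2H6.HilbPolyC.isLocallyNoetherian (X := X) k
  have cx := Groth.Agent.Lib.T2H5.GenIsoB.isCoh_cokernel x.arrow hx hE
  have cy := Groth.Agent.Lib.T2H5.GenIsoB.isCoh_cokernel y.arrow hy hE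
  let φ : cokernel x.arrow ⟶ cokernel y.arrow :=
    cokernel.map x.arrow y.arrow (Subobject.ofLE x y hxy) (𝟙 E) (by simp)
  have hφ : cokernel.π x.arrow ≫ φ = cokernel.π y.arrow := by simp [φ]
  haveI : Epi φ := by
    haveI : Epi (cokernel.π x.arrow ≫ φ) := by rw [hφ]; infer_instance
    exact epi_of_epi (cokernel.π x.arrow) φ
  have cK : Coh.IsCoh (kernel φ) := Groth.Agent.Lib.T2H5.GenIsoB.isCoh_kernel (φ := φ) cx cy
  have hP := isHilbPoly_hilb k L hL.1 E hE
  have h1 := isHilbPoly_add k L hL.1 _ (shortExact_cokernel x.arrow) hx hE cx Qx _ _ hQx hP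
    (isHilbPoly_hilb k L hL.1 _ cx)
  have h2 := isHilbPoly_add k L hL.1 _ (shortExact_cokernel y.arrow) hy hE cy Qy _ _ hQy hP
    (isHilbPoly_hilb k L hL.1 _ cy)
  have h3 := isHilbPoly_add k L hL.1 _ (Groth.Agent.Lib.T2H6.HilbPolyK.shortExact_kernel φ) cK cx cy _ _ _
    (isHilbPoly_hilb k L hL.1 _ cK) (isHilbPoly_hilb k L hL.1 _ cx) (isHilbPoly_hilb k L hL.1 _ cy)
  have hsub : CohB1.support (kernel φ) ⊆ CohB1.support E ∩ (I.support : Set X) :=
    (Groth.Agent.Lib.T2H5.GenIsoB.support_subset_of_mono (kernel.ι φ)).trans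
      ((support_cokernel_subset_of_le hIx).trans (support_cokernel_twistSub_subset I E))
  have hdim : topologicalKrullDim (CohB1.support (kernel φ)) < (d : WithBot ℕ∞) :=
    lt_of_le_of_lt ((Topology.IsEmbedding.inclusion hsub).isInducing.topologicalKrullDim_le) hsupp
  have h0 := coeff_pred_nonneg_of_dim_lt k L hL _ cK _ (isHilbPoly_hilb k L hL.1 _ cK) d hd hdim
  have e1 := congrArg (fun p : ℚ[X] => p.coeff (d - 1)) h1
  have e2 := congrArg (fun p : ℚ[X] => p.coeff (d - 1)) h2
  have e3 := congrArg (fun p : ℚ[X] => p.coeff (d - 1)) h3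
  simp only [coeff_add] at e1 e2 e3
  linarith

include k in
/-- **S18527**. -/
theorem coeff_pred_parPoly_bounds (hL : CohB1.IsAmple L) (I : X.IdealSheafData)
    {E : X.Modules} (hE : Coh.IsCoh E) (𝓔 : ParSh.Str E) (h𝓔 : 𝓔.Along I)
    (hcoh : ∀ j, Coh.IsCoh ((𝓔.pieceX j : Subobject E) : X.Modules)) (d : ℕ) (hd : 1 ≤ d)
    (hsupp : topologicalKrullDim ↥(CohB1.support E ∩ (I.support : Set X)) < (d : WithBot ℕ∞))
    (P : ℚ[X]) (hP : ShStab.IsHilbPoly k X L E P) (PX : Fin (𝓔.l + 2) → ℚ[X])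
    (hPX : ∀ j, ShStab.IsHilbPoly k X L ((𝓔.pieceX j : Subobject E) : X.Modules) (PX j)) :
    (W4swparbununimod.rpoly (PX (Fin.last (𝓔.l + 1)))).coeff (d - 1) ≤ (W4swparbununimod.parPoly 𝓔 PX).coeff (d - 1) ∧
      (W4swparbununimod.parPoly 𝓔 PX).coeff (d - 1) ≤ (W4swparbununimod.rpoly P).coeff (d - 1) := by
  have hmono : ∀ j : Fin (𝓔.l + 1), (PX j.succ).coeff (d - 1) ≤ (PX j.castSucc).coeff (d - 1) := fun j =>
    coeff_pred_le_of_le k L hL I hE (pieceX_succ_le_castSucc 𝓔 j) (hcoh _) (hcoh _)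
      (h𝓔 ▸ 𝓔.bot_le_pieceX _) d hd hsupp _ _ (hPX _) (hPX _)
  -- `PX 0 = P`
  have h0 : PX 0 = P := by
    have htop : 𝓔.pieceX 0 = ⊤ := by
      rw [← Fin.castSucc_zero, ParSh.Str.pieceX_castSucc, 𝓔.piece_zero]
    have e : ((𝓔.pieceX 0 : Subobject E) : X.Modules) ≅ E :=
      Subobject.isoOfEq _ _ htop ≪≫ asIso (⊤ : Subobject E).arrow
    exact isHilbPoly_unique k L E _ _ (isHilbPoly_of_iso k L e _ (hPX 0)) hP
  set c : Fin (𝓔.l + 2) → ℝ := fun j => (((PX j).coeff (d - 1) : ℚ) : ℝ) with hc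
  have hmono' : ∀ j : Fin (𝓔.l + 1), c j.succ ≤ c j.castSucc := fun j => by
    simp only [hc]; exact_mod_cast hmono j
  have hcoeff : (W4swparbununimod.parPoly 𝓔 PX).coeff (d - 1) =
      c (Fin.last _) + ∑ j : Fin (𝓔.l + 1), 𝓔.wt j * (c j.castSucc - c j.succ) := by
    unfold W4swparbununimod.parPoly
    simp only [coeff_add, finset_sum_coeff, coeff_C_mul, coeff_sub, coeff_map, hc, eq_ratCast]
  have hlast : (W4swparbununimod.rpoly (PX (Fin.last (𝓔.l + 1)))).coeff (d - 1) = c (Fin.last _) := by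
    simp only [coeff_map, hc, eq_ratCast]
  have hP0 : (W4swparbununimod.rpoly P).coeff (d - 1) = c 0 := by
    simp only [coeff_map, hc, eq_ratCast, h0]
  rw [hcoeff, hlast, hP0]
  constructor
  · have : 0 ≤ ∑ j : Fin (𝓔.l + 1), 𝓔.wt j * (c j.castSucc - c j.succ) :=
      Finset.sum_nonneg fun j _ => mul_nonneg (wt_nonneg' 𝓔 j) (sub_nonneg.2 (hmono' j))
    linarith
  · have h1 : ∑ j : Fin (𝓔.l + 1), 𝓔.wt j * (c j.castSucc - c j.succ) ≤
        ∑ j : Fin (𝓔.l + 1), (c j.castSucc - c j.succ) :=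
      Finset.sum_le_sum fun j _ => mul_le_of_le_one_left (sub_nonneg.2 (hmono' j)) (wt_le_one 𝓔 j)
    have h2 := telescope_fin c
    have h3 : ∑ j : Fin (𝓔.l + 1), (c j.castSucc - c j.succ) = c 0 - c (Fin.last _) := by
      have : ∑ j : Fin (𝓔.l + 1), (c j.castSucc - c j.succ) = -∑ j : Fin (𝓔.l + 1), (c j.succ - c j.castSucc) := by
        rw [← Finset.sum_neg_distrib]
        exact Finset.sum_congr rfl fun j _ => by ring
      rw [this, h2]; ring
    linarith

end Groth.Agent.Lib.T2H6.ParHilb
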