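import Mathlib
import Groth.Prelude
import Groth.Agent.Lib.T2H6ParHilbD
set_option backward.isDefEq.respectTransparency.types false

/-!
# Parabolic Hilbert polynomials, V (helper6)

* `eventually_pos_of_coeff_pos` : a real polynomial of degree `≤ e` with positive coefficient in degree `e` is eventually
  positive on the natural numbers.
* `coeff_pullback_eq`, `coeff_parPoly_induced_eq` : the version of S18525 for the induced structure on a submodule.
* `redParPoly_compare` (S18528).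
-/

set_option autoImplicit false
set_option linter.style.haveILetI false
set_option linter.unusedSectionVars false
universe u

open CategoryTheory TopCat TopologicalSpace Opposite AlgebraicGeometry Limits Polynomial StabCat

namespace Groth.Agent.Lib.T2H6.ParHilb

open Groth.Agent.Lib.T2H6.HilbPolyA Groth.Agent.Lib.T2H6.HilbPolyB Groth.Agent.Lib.T2H5.Twist
  Groth.Agent.Lib.T2H6.TensorPows Groth.Agent.Lib.T2H6.HilbPolyO Groth.Agent.Lib.T2H6.HilbPolyE

theorem eventually_pos_of_coeff_pos (R : ℝ[X]) (e : ℕ) (h : ∀ n, e < n → R.coeff n = 0)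
    (hpos : 0 < R.coeff e) : ∃ M : ℕ, ∀ m : ℕ, M ≤ m → 0 < R.eval (m : ℝ) := by
  have hdeg : R.natDegree = e := by
    apply le_antisymm
    · exact natDegree_le_iff_coeff_eq_zero.2 fun n hn => h n hn
    · exact le_natDegree_of_ne_zero hpos.ne'
  have hlead : R.leadingCoeff = R.coeff e := by rw [leadingCoeff, hdeg]
  rcases Nat.eq_zero_or_pos e with he | he
  · subst he
    refine ⟨0, fun m _ => ?_⟩
    rw [eq_C_of_natDegree_eq_zero hdeg, eval_C]
    exact hpos
  · have hd : 0 < R.degree := by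
      rw [← natDegree_pos_iff_degree_pos, hdeg]; exact he
    have ht := Polynomial.tendsto_atTop_of_leadingCoeff_nonneg R hd (hlead ▸ hpos.le)
    have ht' := ht.comp tendsto_natCast_atTop_atTop
    have hev := ht'.eventually_gt_atTop 0
    obtain ⟨M, hM⟩ := Filter.eventually_atTop.1 hev
    exact ⟨M, fun m hm => hM m hm⟩

variable {X : Scheme.{u}} (k : Type u) [Field k] [X.Over (Spec (CommRingCat.of k))]
  [IsProper (X ↘ Spec (CommRingCat.of k))] (L : X.Modules)

include k in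
/-- the Hilbert polynomial of `ι⁻¹ x` agrees with that of `W` in degrees `> dim (Supp E ∩ V(I))`, when `I·E ≤ x`. -/
theorem coeff_pullback_eq (hL : PicF.IsInvertible L) (I : X.IdealSheafData) {W E : X.Modules} (hE : Coh.IsCoh E)
    (hW : Coh.IsCoh W) (ι : W ⟶ E) [Mono ι]
    (x : Subobject E) (hx : Coh.IsCoh (x : X.Modules)) (hIx : ParSh.twistSub I E ≤ x) (d : ℕ)
    (hsupp : topologicalKrullDim ↥(CohB1.support E ∩ (I.support : Set X)) < (d : WithBot ℕ∞))
    (Q Q' : ℚ[X]) (hQ : ShStab.IsHilbPoly k X L W Q)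
    (hQ' : ShStab.IsHilbPoly k X L (((Subobject.pullback ι).obj x : Subobject W) : X.Modules) Q')
    (n : ℕ) (hn : d ≤ n) : Q'.coeff n = Q.coeff n := by
  haveI := Groth.Agent.Lib.T2H6.HilbPolyC.isLocallyNoetherian (X := X) k
  have cx' := isCoh_pullbackObj ι hW hE x hx
  have cC := Groth.Agent.Lib.T2H5.GenIsoB.isCoh_cokernel ((Subobject.pullback ι).obj x).arrow cx' hW
  have hadd := isHilbPoly_add k L hL _ (shortExact_cokernel ((Subobject.pullback ι).obj x).arrow) cx' hW cC Q' Q _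
    hQ' hQ (isHilbPoly_hilb k L hL _ cC)
  have hsub : CohB1.support (cokernel ((Subobject.pullback ι).obj x).arrow) ⊆
      CohB1.support E ∩ (I.support : Set X) :=
    (support_cokernel_pullback_subset ι x).trans
      ((support_cokernel_subset_of_le hIx).trans (support_cokernel_twistSub_subset I E))
  have hdim : topologicalKrullDim (CohB1.support (cokernel ((Subobject.pullback ι).obj x).arrow)) <
      (n : WithBot ℕ∞) :=
    lt_of_le_of_lt ((Topology.IsEmbedding.inclusion hsub).isInducing.topologicalKrullDim_le)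
      (lt_of_lt_of_le hsupp (by exact_mod_cast hn))
  have h0 := coeff_eq_zero_of_dim_lt k L hL _ cC _ (isHilbPoly_hilb k L hL _ cC) n hdim
  rw [hadd, coeff_add, h0, add_zero]

include k in
theorem coeff_parPoly_induced_eq (hL : PicF.IsInvertible L) (I : X.IdealSheafData)
    {W E : X.Modules} (hE : Coh.IsCoh E) (hW : Coh.IsCoh W) (ι : W ⟶ E) [Mono ι]
    (𝓔 : ParSh.Str E) (h𝓔 : 𝓔.Along I)
    (hcoh : ∀ j, Coh.IsCoh ((𝓔.pieceX j : Subobject E) : X.Modules)) (d : ℕ)
    (hsupp : topologicalKrullDim ↥(CohB1.support E ∩ (I.support : Set X)) < (d : WithBot ℕ∞))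
    (Q : ℚ[X]) (hQ : ShStab.IsHilbPoly k X L W Q) (QX : Fin (𝓔.l + 2) → ℚ[X])
    (hQX : ∀ j, ShStab.IsHilbPoly k X L (((𝓔.induced ι).pieceX j : Subobject W) : X.Modules) (QX j))
    (n : ℕ) (hn : d ≤ n) :
    (W4swparbununimod.parPoly (𝓔.induced ι) QX).coeff n = (W4swparbununimod.rpoly Q).coeff n := by
  have key : ∀ j, (QX j).coeff n = Q.coeff n := fun j => by
    have h := hQX j
    rw [pieceX_induced] at h
    exact coeff_pullback_eq k L hL I hE hW ι _ (hcoh j) (h𝓔 ▸ 𝓔.bot_le_pieceX j) d hsupp Q (QX j) hQ h n hn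
  unfold W4swparbununimod.parPoly
  change (W4swparbununimod.rpoly (QX (Fin.last (𝓔.l + 1))) +
    ∑ j : Fin (𝓔.l + 1), Polynomial.C (𝓔.wt j) * (W4swparbununimod.rpoly (QX j.castSucc) -
      W4swparbununimod.rpoly (QX j.succ))).coeff n = _
  simp only [coeff_add, finset_sum_coeff, coeff_C_mul, coeff_sub, coeff_map, key, sub_self, mul_zero,
    Finset.sum_const_zero, add_zero]

include k in
/-- the coefficients of a Hilbert polynomial vanish in degrees `> d` when `dim Supp ≤ d`. -/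
theorem coeff_eq_zero_of_dim_le' (hL : PicF.IsInvertible L) (F : X.Modules) (hF : Coh.IsCoh F) (P : ℚ[X])
    (hP : ShStab.IsHilbPoly k X L F P) (d : ℕ)
    (hd : topologicalKrullDim (CohB1.support F) ≤ (d : WithBot ℕ∞)) (n : ℕ) (hn : d < n) : P.coeff n = 0 :=
  coeff_eq_zero_of_dim_lt k L hL F hF P hP n (lt_of_le_of_lt hd (by exact_mod_cast hn))

include k in
/-- **S18528**. -/
theorem redParPoly_compare (hL : CohB1.IsAmple L) (I : X.IdealSheafData)
    {E : X.Modules} (hE : Coh.IsCoh E) (h0 : ¬ IsZero E) (d : ℕ) (hd : 1 ≤ d)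
    (hpure : ShStab.IsPure X E d) (𝓔 : ParSh.Str E) (h𝓔 : 𝓔.Along I)
    (hcoh : ∀ j, Coh.IsCoh ((𝓔.pieceX j : Subobject E) : X.Modules))
    (hsupp : topologicalKrullDim ↥(CohB1.support E ∩ (I.support : Set X)) < (d : WithBot ℕ∞))
    (P : ℚ[X]) (hP : ShStab.IsHilbPoly k X L E P) (PX : Fin (𝓔.l + 2) → ℚ[X])
    (hPX : ∀ j, ShStab.IsHilbPoly k X L ((𝓔.pieceX j : Subobject E) : X.Modules) (PX j))
    {W : X.Modules} (ι : W ⟶ E) [Mono ι] (hW : Coh.IsCoh W)
    (Q : ℚ[X]) (hQ : ShStab.IsHilbPoly k X L W Q) (QX : Fin (𝓔.l + 2) → ℚ[X])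
    (hQX : ∀ j, ShStab.IsHilbPoly k X L (((𝓔.induced ι).pieceX j : Subobject W) : X.Modules) (QX j)) :
    ((∃ M : ℕ, ∀ m : ℕ, M ≤ m →
        (W4swparbununimod.parPoly (𝓔.induced ι) QX).eval (m : ℝ) * (StabCat.alpha d P : ℝ) ≤
          (W4swparbununimod.parPoly 𝓔 PX).eval (m : ℝ) * (StabCat.alpha d Q : ℝ)) →
      (W4swparbununimod.parPoly (𝓔.induced ι) QX).coeff (d - 1) * (StabCat.alpha d P : ℝ) ≤
        (W4swparbununimod.parPoly 𝓔 PX).coeff (d - 1) * (StabCat.alpha d Q : ℝ)) ∧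
    ((W4swparbununimod.parPoly (𝓔.induced ι) QX).coeff (d - 1) * (StabCat.alpha d P : ℝ) <
        (W4swparbununimod.parPoly 𝓔 PX).coeff (d - 1) * (StabCat.alpha d Q : ℝ) →
      ∃ M : ℕ, ∀ m : ℕ, M ≤ m →
        (W4swparbununimod.parPoly (𝓔.induced ι) QX).eval (m : ℝ) * (StabCat.alpha d P : ℝ) <
          (W4swparbununimod.parPoly 𝓔 PX).eval (m : ℝ) * (StabCat.alpha d Q : ℝ)) := by
  -- dimensions of the supports
  have hdimE : topologicalKrullDim (CohB1.support E) ≤ (d : WithBot ℕ∞) :=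
    (hpure E (𝟙 E) inferInstance hE h0).le
  have hdimW : topologicalKrullDim (CohB1.support W) ≤ (d : WithBot ℕ∞) :=
    (dim_support_le_of_mono ι).trans hdimE
  set A := W4swparbununimod.parPoly 𝓔 PX with hA
  set B := W4swparbununimod.parPoly (𝓔.induced ι) QX with hB
  set aP : ℝ := (StabCat.alpha d P : ℝ) with haP
  set aQ : ℝ := (StabCat.alpha d Q : ℝ) with haQ
  have cA : ∀ n, d ≤ n → A.coeff n = ((P.coeff n : ℚ) : ℝ) := fun n hn => by
    rw [hA, coeff_parPoly_eq k L hL.1 I hE 𝓔 h𝓔 hcoh d hsupp P hP PX hPX n hn, coeff_map, eq_ratCast]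
  have cB : ∀ n, d ≤ n → B.coeff n = ((Q.coeff n : ℚ) : ℝ) := fun n hn => by
    rw [hB, coeff_parPoly_induced_eq k L hL.1 I hE hW ι 𝓔 h𝓔 hcoh d hsupp Q hQ QX hQX n hn, coeff_map,
      eq_ratCast]
  -- the difference polynomial
  set R : ℝ[X] := A * C aQ - B * C aP with hR
  have hRc : ∀ n, R.coeff n = A.coeff n * aQ - B.coeff n * aP := fun n => by
    rw [hR, coeff_sub, coeff_mul_C, coeff_mul_C]
  have hRe : ∀ m : ℕ, R.eval (m : ℝ) = A.eval (m : ℝ) * aQ - B.eval (m : ℝ) * aP := fun m => by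
    rw [hR, eval_sub, eval_mul, eval_mul, eval_C, eval_C]
  have hR0 : ∀ n, d - 1 < n → R.coeff n = 0 := by
    intro n hn
    have hn' : d ≤ n := by omega
    rw [hRc, cA n hn', cB n hn']
    rcases hn'.lt_or_eq with h | h
    · rw [coeff_eq_zero_of_dim_le' k L hL.1 E hE P hP d hdimE n h,
        coeff_eq_zero_of_dim_le' k L hL.1 W hW Q hQ d hdimW n h]
      simp
    · subst h
      have hf : ((d.factorial : ℚ) : ℝ) ≠ 0 := by exact_mod_cast d.factorial_ne_zero
      rw [haP, haQ]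
      unfold StabCat.alpha
      push_cast
      ring
  have hR0' : ∀ n, d - 1 < n → (-R).coeff n = 0 := fun n hn => by rw [coeff_neg, hR0 n hn, neg_zero]
  constructor
  · rintro ⟨M, hM⟩
    by_contra hlt
    rw [not_le] at hlt
    have hpos : 0 < (-R).coeff (d - 1) := by
      rw [coeff_neg, hRc]; linarith
    obtain ⟨M', hM'⟩ := eventually_pos_of_coeff_pos (-R) (d - 1) hR0' hpos
    have h1 := hM (max M M') (le_max_left _ _)
    have h2 := hM' (max M M') (le_max_right _ _)
    rw [eval_neg, hRe] at h2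
    linarith
  · intro hlt
    have hpos : 0 < R.coeff (d - 1) := by
      rw [hRc]; linarith
    obtain ⟨M, hM⟩ := eventually_pos_of_coeff_pos R (d - 1) hR0 hpos
    refine ⟨M, fun m hm => ?_⟩
    have := hM m hm
    rw [hRe] at this
    linarith

end Groth.Agent.Lib.T2H6.ParHilb
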