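import Mathlib
import Groth.Prelude
import Groth.Agent.Lib.T2H6ParHilbE
set_option backward.isDefEq.respectTransparency.types false

/-!
# Parabolic Hilbert polynomials, VI (helper6)

* `coeff_quot_eq_zero`, `coeff_quot_pullback_eq_zero` : the Hilbert polynomials of `E / x` and `W / ι⁻¹ x` have degree
  `< d` when `I·E ≤ x` and `dim (Supp E ∩ V(I)) < d`.
* `parPolyOne_coeff_eq` (S18530).
-/

set_option autoImplicit false
set_option linter.style.haveILetI false
set_option linter.unusedSectionVars false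
universe u

open CategoryTheory TopCat TopologicalSpace Opposite AlgebraicGeometry Limits Polynomial StabCat

namespace Groth.Agent.Lib.T2H6.ParHilb

open Groth.Agent.Lib.T2H6.HilbPolyA Groth.Agent.Lib.T2H6.HilbPolyB Groth.Agent.Lib.T2H5.Twist
  Groth.Agent.Lib.T2H6.TensorPows Groth.Agent.Lib.T2H6.HilbPolyO Groth.Agent.Lib.T2H6.HilbPolyE

variable {X : Scheme.{u}} (k : Type u) [Field k] [X.Over (Spec (CommRingCat.of k))]
  [IsProper (X ↘ Spec (CommRingCat.of k))] (L : X.Modules)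

include k in
theorem coeff_quot_eq_zero (hL : PicF.IsInvertible L) (I : X.IdealSheafData) {E : X.Modules} (hE : Coh.IsCoh E)
    (x : Subobject E) (hx : Coh.IsCoh (x : X.Modules)) (hIx : ParSh.twistSub I E ≤ x) (d : ℕ)
    (hsupp : topologicalKrullDim ↥(CohB1.support E ∩ (I.support : Set X)) < (d : WithBot ℕ∞))
    (H : ℚ[X]) (hH : ShStab.IsHilbPoly k X L (cokernel x.arrow) H) (n : ℕ) (hn : d ≤ n) : H.coeff n = 0 := by
  haveI := Groth.Agent.Lib.T2H6.HilbPolyC.isLocallyNoetherian (X := X) k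
  have cC := Groth.Agent.Lib.T2H5.GenIsoB.isCoh_cokernel x.arrow hx hE
  have hsub : CohB1.support (cokernel x.arrow) ⊆ CohB1.support E ∩ (I.support : Set X) :=
    (support_cokernel_subset_of_le hIx).trans (support_cokernel_twistSub_subset I E)
  have hdim : topologicalKrullDim (CohB1.support (cokernel x.arrow)) < (n : WithBot ℕ∞) :=
    lt_of_le_of_lt ((Topology.IsEmbedding.inclusion hsub).isInducing.topologicalKrullDim_le)
      (lt_of_lt_of_le hsupp (by exact_mod_cast hn))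
  exact coeff_eq_zero_of_dim_lt k L hL _ cC _ hH n hdim

include k in
theorem coeff_quot_pullback_eq_zero (hL : PicF.IsInvertible L) (I : X.IdealSheafData) {W E : X.Modules}
    (hE : Coh.IsCoh E) (hW : Coh.IsCoh W) (ι : W ⟶ E) [Mono ι]
    (x : Subobject E) (hx : Coh.IsCoh (x : X.Modules)) (hIx : ParSh.twistSub I E ≤ x) (d : ℕ)
    (hsupp : topologicalKrullDim ↥(CohB1.support E ∩ (I.support : Set X)) < (d : WithBot ℕ∞))
    (y : Subobject W) (hy : y = (Subobject.pullback ι).obj x)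
    (K : ℚ[X]) (hK : ShStab.IsHilbPoly k X L (cokernel y.arrow) K) (n : ℕ) (hn : d ≤ n) : K.coeff n = 0 := by
  subst hy
  haveI := Groth.Agent.Lib.T2H6.HilbPolyC.isLocallyNoetherian (X := X) k
  have cx' := isCoh_pullbackObj ι hW hE x hx
  have cC := Groth.Agent.Lib.T2H5.GenIsoB.isCoh_cokernel ((Subobject.pullback ι).obj x).arrow cx' hW
  have hsub : CohB1.support (cokernel ((Subobject.pullback ι).obj x).arrow) ⊆
      CohB1.support E ∩ (I.support : Set X) :=
    (support_cokernel_pullback_subset ι x).trans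
      ((support_cokernel_subset_of_le hIx).trans (support_cokernel_twistSub_subset I E))
  have hdim : topologicalKrullDim (CohB1.support (cokernel ((Subobject.pullback ι).obj x).arrow)) <
      (n : WithBot ℕ∞) :=
    lt_of_le_of_lt ((Topology.IsEmbedding.inclusion hsub).isInducing.topologicalKrullDim_le)
      (lt_of_lt_of_le hsupp (by exact_mod_cast hn))
  exact coeff_eq_zero_of_dim_lt k L hL _ cC _ hK n hdim

include k in
/-- `Q_y + K_y = Q` for a coherent subobject `y` of `W`. -/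
theorem hilb_sub_add_quot (hL : PicF.IsInvertible L) {W : X.Modules} (hW : Coh.IsCoh W)
    (y : Subobject W) (hy : Coh.IsCoh (y : X.Modules)) (Q Qy Ky : ℚ[X]) (hQ : ShStab.IsHilbPoly k X L W Q)
    (hQy : ShStab.IsHilbPoly k X L (y : X.Modules) Qy)
    (hKy : ShStab.IsHilbPoly k X L (cokernel y.arrow) Ky) : Q = Qy + Ky := by
  haveI := Groth.Agent.Lib.T2H6.HilbPolyC.isLocallyNoetherian (X := X) k
  exact isHilbPoly_add k L hL _ (shortExact_cokernel y.arrow) hy hW
    (Groth.Agent.Lib.T2H5.GenIsoB.isCoh_cokernel y.arrow hy hW) Qy Q Ky hQy hQ hKy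

include k in
/-- **S18530**. -/
theorem parPolyOne_coeff_eq (hL : PicF.IsInvertible L) (I : X.IdealSheafData)
    {E : X.Modules} (hE : Coh.IsCoh E) (𝓔 : ParSh.Str E) (h𝓔 : 𝓔.Along I)
    (hcoh : ∀ j, Coh.IsCoh ((𝓔.pieceX j : Subobject E) : X.Modules)) (d : ℕ) (hd : 1 ≤ d)
    (hsupp : topologicalKrullDim ↥(CohB1.support E ∩ (I.support : Set X)) < (d : WithBot ℕ∞))
    (H : Fin (𝓔.l + 2) → ℚ[X]) (hH : ∀ j, ShStab.IsHilbPoly k X L (cokernel (𝓔.pieceX j).arrow) (H j))
    (hHa : ∀ j : Fin (𝓔.l + 1), StabCat.alpha (d - 1) (H j.succ) ≠ 0)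
    {W : X.Modules} (ι : W ⟶ E) [Mono ι] (hW : Coh.IsCoh W)
    (Q : ℚ[X]) (hQ : ShStab.IsHilbPoly k X L W Q) (QX : Fin (𝓔.l + 2) → ℚ[X])
    (hQX : ∀ j, ShStab.IsHilbPoly k X L (((𝓔.induced ι).pieceX j : Subobject W) : X.Modules) (QX j))
    (QH : Fin (𝓔.l + 2) → ℚ[X])
    (hQH : ∀ j, ShStab.IsHilbPoly k X L (cokernel ((𝓔.induced ι).pieceX j).arrow) (QH j)) :
    (W4swparbununimod.parPolyOne 𝓔 d Q QH H).coeff d = (W4swparbununimod.parPoly (𝓔.induced ι) QX).coeff d ∧
      (W4swparbununimod.parPolyOne 𝓔 d Q QH H).coeff (d - 1) =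
        (W4swparbununimod.parPoly (𝓔.induced ι) QX).coeff (d - 1) := by
  haveI := Groth.Agent.Lib.T2H6.HilbPolyC.isLocallyNoetherian (X := X) k
  have hIx : ∀ j, ParSh.twistSub I E ≤ 𝓔.pieceX j := fun j => h𝓔 ▸ 𝓔.bot_le_pieceX j
  have cY : ∀ j, Coh.IsCoh (((𝓔.induced ι).pieceX j : Subobject W) : X.Modules) := fun j => by
    rw [pieceX_induced]
    exact isCoh_pullbackObj ι hW hE _ (hcoh j)
  -- (a) `Q = QX j + QH j`
  have hadd : ∀ j, Q = QX j + QH j := fun j =>
    hilb_sub_add_quot k L hL hW _ (cY j) Q (QX j) (QH j) hQ (hQX j) (hQH j)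
  -- (b) `QH 0 = 0`
  have hQH0 : QH 0 = 0 := by
    have hz : IsZero (cokernel ((𝓔.induced ι).pieceX 0).arrow) := by
      have : (𝓔.induced ι).pieceX 0 = ⊤ := by
        rw [← Fin.castSucc_zero, ParSh.Str.pieceX_castSucc, (𝓔.induced ι).piece_zero]
      rw [this]
      exact isZero_cokernel_of_epi _
    exact isHilbPoly_unique k L _ _ _ (hQH 0) (Groth.Agent.Lib.T2H6.HilbPolyC.isHilbPoly_zero_of_isZero k L _ hz)
  -- (c) vanishing of coefficients in degree `d`
  have hHd : ∀ j, (H j).coeff d = 0 := fun j =>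
    coeff_quot_eq_zero k L hL I hE _ (hcoh j) (hIx j) d hsupp (H j) (hH j) d le_rfl
  have hQHd : ∀ j, (QH j).coeff d = 0 := fun j =>
    coeff_quot_pullback_eq_zero k L hL I hE hW ι _ (hcoh j) (hIx j) d hsupp _ (pieceX_induced 𝓔 ι j) (QH j)
      (hQH j) d le_rfl
  -- the coefficients of the two polynomials
  have c1 : ∀ n, (W4swparbununimod.parPolyOne 𝓔 d Q QH H).coeff n = ((Q.coeff n : ℚ) : ℝ) -
      ∑ j : Fin (𝓔.l + 1), ((𝓔.wtX j.succ - 𝓔.wtX j.castSucc) *
        ((StabCat.alpha (d - 1) (QH j.succ) / StabCat.alpha (d - 1) (H j.succ) : ℚ) : ℝ)) *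
          (((H j.succ).coeff n : ℚ) : ℝ) := fun n => by
    unfold W4swparbununimod.parPolyOne
    simp only [coeff_sub, finset_sum_coeff, coeff_C_mul, coeff_map, eq_ratCast]
  have c2 : ∀ n, (W4swparbununimod.parPoly (𝓔.induced ι) QX).coeff n = ((Q.coeff n : ℚ) : ℝ) -
      ∑ j : Fin (𝓔.l + 1), (𝓔.wtX j.succ - 𝓔.wtX j.castSucc) * (((QH j.succ).coeff n : ℚ) : ℝ) := fun n => by
    have hq : ∀ j, (((QX j).coeff n : ℚ) : ℝ) = ((Q.coeff n : ℚ) : ℝ) - (((QH j).coeff n : ℚ) : ℝ) := fun j => by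
      have := congrArg (fun p : ℚ[X] => ((p.coeff n : ℚ) : ℝ)) (hadd j)
      simp only [coeff_add, Rat.cast_add] at this
      linarith
    rw [abel_fin 𝓔.wtX (fun j => (((QH j).coeff n : ℚ) : ℝ))]
    unfold W4swparbununimod.parPoly
    change (W4swparbununimod.rpoly (QX (Fin.last (𝓔.l + 1))) +
      ∑ j : Fin (𝓔.l + 1), Polynomial.C (𝓔.wt j) * (W4swparbununimod.rpoly (QX j.castSucc) -
        W4swparbununimod.rpoly (QX j.succ))).coeff n = _
    simp only [coeff_add, finset_sum_coeff, coeff_C_mul, coeff_sub, coeff_map, eq_ratCast, hq,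
      ParSh.Str.wtX_castSucc, ParSh.Str.wtX_last, hQH0, coeff_zero, Rat.cast_zero, mul_zero, one_mul, sub_zero]
    have : ∀ j : Fin (𝓔.l + 1), 𝓔.wt j * (((Q.coeff n : ℚ) : ℝ) - (((QH j.castSucc).coeff n : ℚ) : ℝ) -
        (((Q.coeff n : ℚ) : ℝ) - (((QH j.succ).coeff n : ℚ) : ℝ))) =
        𝓔.wt j * ((((QH j.succ).coeff n : ℚ) : ℝ) - (((QH j.castSucc).coeff n : ℚ) : ℝ)) := by
      intro j; ring
    simp only [this]
    ring
  constructor
  · rw [c1, c2]
    simp only [hHd, hQHd, Rat.cast_zero, mul_zero, Finset.sum_const_zero]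
  · rw [c1, c2]
    congr 1
    refine Finset.sum_congr rfl fun j _ => ?_
    have hne := hHa j
    unfold StabCat.alpha at hne ⊢
    have hf : ((d - 1).factorial : ℚ) ≠ 0 := by exact_mod_cast (d - 1).factorial_ne_zero
    have hc : (H j.succ).coeff (d - 1) ≠ 0 := fun h0 => hne (by rw [h0, mul_zero])
    have : ((((d - 1).factorial : ℚ) * (QH j.succ).coeff (d - 1) /
        (((d - 1).factorial : ℚ) * (H j.succ).coeff (d - 1)) : ℚ) : ℝ) * (((H j.succ).coeff (d - 1) : ℚ) : ℝ) =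
        (((QH j.succ).coeff (d - 1) : ℚ) : ℝ) := by
      rw [← Rat.cast_mul]
      congr 1
      field_simp
    rw [mul_assoc, this]

end Groth.Agent.Lib.T2H6.ParHilb
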