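import Mathlib
import Groth.Prelude
import Groth.Agent.Lib.T2H6ParHilbF
set_option backward.isDefEq.respectTransparency.types false

/-!
# Parabolic Hilbert polynomials, VII (helper6): limits of quotients of polynomials

* `tendsto_eval_div_eval` : `F(x)/G(x) → coeff_e F / coeff_e G` for real polynomials of degree `≤ e` with `coeff_e G ≠ 0`.
* `tendsto_combination` : the limit used for S18532.
-/

set_option autoImplicit false
set_option linter.style.haveILetI false
set_option linter.unusedSectionVars false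
universe u

open Polynomial Filter Topology

namespace Groth.Agent.Lib.T2H6.ParHilb

theorem natDegree_eq_of_coeff (G : ℝ[X]) (e : ℕ) (hG : ∀ n, e < n → G.coeff n = 0) (h0 : G.coeff e ≠ 0) :
    G.natDegree = e :=
  le_antisymm (natDegree_le_iff_coeff_eq_zero.2 fun n hn => hG n hn) (le_natDegree_of_ne_zero h0)

theorem tendsto_eval_div_eval (F G : ℝ[X]) (e : ℕ) (hF : ∀ n, e < n → F.coeff n = 0)
    (hG : ∀ n, e < n → G.coeff n = 0) (h0 : G.coeff e ≠ 0) :
    Tendsto (fun x : ℝ => F.eval x / G.eval x) atTop (𝓝 (F.coeff e / G.coeff e)) := by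
  have hGd := natDegree_eq_of_coeff G e hG h0
  have hGne : G ≠ 0 := fun h => h0 (by rw [h, coeff_zero])
  have hGl : G.leadingCoeff = G.coeff e := by rw [leadingCoeff, hGd]
  by_cases hFe : F.coeff e = 0
  · rw [hFe, zero_div]
    apply div_tendsto_atTop_zero_of_degree_lt
    by_cases hF0 : F = 0
    · rw [hF0, degree_zero]
      exact bot_lt_iff_ne_bot.2 (degree_ne_bot.2 hGne)
    · rw [degree_eq_natDegree hF0, degree_eq_natDegree hGne, hGd]
      have hle : F.natDegree ≤ e := natDegree_le_iff_coeff_eq_zero.2 fun n hn => hF n hn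
      have hne : F.natDegree ≠ e := fun h => by
        have := leadingCoeff_ne_zero.2 hF0
        rw [leadingCoeff, h] at this
        exact this hFe
      exact_mod_cast lt_of_le_of_ne hle hne
  · have hFd := natDegree_eq_of_coeff F e hF hFe
    have hFne : F ≠ 0 := fun h => hFe (by rw [h, coeff_zero])
    have hFl : F.leadingCoeff = F.coeff e := by rw [leadingCoeff, hFd]
    rw [← hFl, ← hGl]
    apply div_tendsto_atTop_leadingCoeff_div_of_degree_eq
    rw [degree_eq_natDegree hFne, degree_eq_natDegree hGne, hFd, hGd]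

theorem tendsto_eval_div_pow (F : ℝ[X]) (d : ℕ) (hF : ∀ n, d < n → F.coeff n = 0) :
    Tendsto (fun x : ℝ => F.eval x / x ^ d) atTop (𝓝 (F.coeff d)) := by
  have h := tendsto_eval_div_eval F (X ^ d) d hF (fun n hn => by rw [coeff_X_pow, if_neg hn.ne'])
    (by rw [coeff_X_pow, if_pos rfl]; exact one_ne_zero)
  simpa [coeff_X_pow] using h

/-- the limit used for S18532. -/
theorem tendsto_combination (d e : ℕ) (p q : ℝ[X]) (hp : ∀ n, d < n → p.coeff n = 0)
    (hq : ∀ n, d < n → q.coeff n = 0) {ι : Type} [Fintype ι] (κ η : ι → ℝ[X])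
    (hκ : ∀ j n, e < n → (κ j).coeff n = 0) (hη : ∀ j n, e < n → (η j).coeff n = 0)
    (hη0 : ∀ j, (η j).coeff e ≠ 0) (c : ι → ℝ) (a b : ℝ) :
    Tendsto (fun n : ℕ => ((a - ∑ j, c j * ((κ j).eval (n : ℝ) / (η j).eval (n : ℝ))) * p.eval (n : ℝ) -
        b * q.eval (n : ℝ)) / (n : ℝ) ^ d) atTop
      (𝓝 ((a - ∑ j, c j * ((κ j).coeff e / (η j).coeff e)) * p.coeff d - b * q.coeff d)) := by
  have h1 : ∀ j, Tendsto (fun n : ℕ => (κ j).eval (n : ℝ) / (η j).eval (n : ℝ)) atTop
      (𝓝 ((κ j).coeff e / (η j).coeff e)) := fun j =>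
    (tendsto_eval_div_eval (κ j) (η j) e (hκ j) (hη j) (hη0 j)).comp tendsto_natCast_atTop_atTop
  have h2 : Tendsto (fun n : ℕ => p.eval (n : ℝ) / (n : ℝ) ^ d) atTop (𝓝 (p.coeff d)) :=
    (tendsto_eval_div_pow p d hp).comp tendsto_natCast_atTop_atTop
  have h3 : Tendsto (fun n : ℕ => q.eval (n : ℝ) / (n : ℝ) ^ d) atTop (𝓝 (q.coeff d)) :=
    (tendsto_eval_div_pow q d hq).comp tendsto_natCast_atTop_atTop
  have h4 : Tendsto (fun n : ℕ => a - ∑ j, c j * ((κ j).eval (n : ℝ) / (η j).eval (n : ℝ))) atTop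
      (𝓝 (a - ∑ j, c j * ((κ j).coeff e / (η j).coeff e))) :=
    tendsto_const_nhds.sub (tendsto_finset_sum _ fun j _ => (h1 j).const_mul (c j))
  have h5 := (h4.mul h2).sub (h3.const_mul b)
  refine h5.congr fun n => ?_
  ring

end Groth.Agent.Lib.T2H6.ParHilb
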