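import Mathlib
import Groth.Prelude
import Groth.Agent.Lib.T2H6ParHilbG
set_option backward.isDefEq.respectTransparency.types false

/-!
# Parabolic Hilbert polynomials, VIII (helper6): S18532

`p2_compare` : comparison of the second and first modified parabolic Hilbert polynomials for one test subsheaf.
-/

set_option autoImplicit false
set_option linter.style.haveILetI false
set_option linter.unusedSectionVars false
universe u

open CategoryTheory TopCat TopologicalSpace Opposite AlgebraicGeometry Limits Polynomial StabCat Filter Topology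

namespace Groth.Agent.Lib.T2H6.ParHilb

open Groth.Agent.Lib.T2H6.HilbPolyA Groth.Agent.Lib.T2H6.HilbPolyB Groth.Agent.Lib.T2H5.Twist
  Groth.Agent.Lib.T2H6.TensorPows Groth.Agent.Lib.T2H6.HilbPolyO Groth.Agent.Lib.T2H6.HilbPolyE

theorem rpoly_eval_natCast (P : ℚ[X]) (n : ℕ) :
    (W4swparbununimod.rpoly P).eval (n : ℝ) = ((P.eval (n : ℚ) : ℚ) : ℝ) := by
  rw [W4swparbununimod.rpoly, Polynomial.eval_natCast_map, eq_ratCast]

theorem rpoly_coeff (P : ℚ[X]) (n : ℕ) : (W4swparbununimod.rpoly P).coeff n = ((P.coeff n : ℚ) : ℝ) := by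
  rw [W4swparbununimod.rpoly, coeff_map, eq_ratCast]

variable {X : Scheme.{u}} (k : Type u) [Field k] [X.Over (Spec (CommRingCat.of k))]
  [IsProper (X ↘ Spec (CommRingCat.of k))] (L : X.Modules)

include k in
/-- **S18532**. -/
theorem p2_compare (hL : PicF.IsInvertible L) (I : X.IdealSheafData)
    {E : X.Modules} (hE : Coh.IsCoh E) (𝓔 : ParSh.Str E) (h𝓔 : 𝓔.Along I)
    (hcoh : ∀ j, Coh.IsCoh ((𝓔.pieceX j : Subobject E) : X.Modules)) (d : ℕ) (hd : 1 ≤ d)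
    (hsupp : topologicalKrullDim ↥(CohB1.support E ∩ (I.support : Set X)) < (d : WithBot ℕ∞))
    (h0 : ¬ IsZero E) (hpure : ShStab.IsPure X E d)
    (P : ℚ[X]) (hP : ShStab.IsHilbPoly k X L E P) (PX : Fin (𝓔.l + 2) → ℚ[X])
    (H : Fin (𝓔.l + 2) → ℚ[X]) (hH : ∀ j, ShStab.IsHilbPoly k X L (cokernel (𝓔.pieceX j).arrow) (H j))
    (hHa : ∀ j : Fin (𝓔.l + 1), StabCat.alpha (d - 1) (H j.succ) ≠ 0)
    {W : X.Modules} (ι : W ⟶ E) [Mono ι] (hW : Coh.IsCoh W)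
    (Q : ℚ[X]) (hQ : ShStab.IsHilbPoly k X L W Q) (QH : Fin (𝓔.l + 2) → ℚ[X])
    (hQH : ∀ j, ShStab.IsHilbPoly k X L (cokernel ((𝓔.induced ι).pieceX j).arrow) (QH j)) :
    ((∃ M : ℕ, ∀ m : ℕ, M ≤ m → ∃ N : ℕ, ∀ n : ℕ, N ≤ n →
        (((Q.eval (m : ℚ) : ℚ) : ℝ) -
            ∑ j : Fin (𝓔.l + 1), (𝓔.wtX j.succ - 𝓔.wtX j.castSucc) *
              ((((QH j.succ).eval (n : ℚ) / (H j.succ).eval (n : ℚ) : ℚ) : ℝ) * (((H j.succ).eval (m : ℚ) : ℚ) : ℝ))) *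
          ((P.eval (n : ℚ) : ℚ) : ℝ) ≤
        (W4swparbununimod.parPoly 𝓔 PX).eval (m : ℝ) * ((Q.eval (n : ℚ) : ℚ) : ℝ)) →
      ∃ M : ℕ, ∀ m : ℕ, M ≤ m →
        (W4swparbununimod.parPolyOne 𝓔 d Q QH H).eval (m : ℝ) * (StabCat.alpha d P : ℝ) ≤
          (W4swparbununimod.parPoly 𝓔 PX).eval (m : ℝ) * (StabCat.alpha d Q : ℝ)) ∧
    ((∃ M : ℕ, ∀ m : ℕ, M ≤ m →
        (W4swparbununimod.parPolyOne 𝓔 d Q QH H).eval (m : ℝ) * (StabCat.alpha d P : ℝ) <
          (W4swparbununimod.parPoly 𝓔 PX).eval (m : ℝ) * (StabCat.alpha d Q : ℝ)) →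
      ∃ M : ℕ, ∀ m : ℕ, M ≤ m → ∃ N : ℕ, ∀ n : ℕ, N ≤ n →
        (((Q.eval (m : ℚ) : ℚ) : ℝ) -
            ∑ j : Fin (𝓔.l + 1), (𝓔.wtX j.succ - 𝓔.wtX j.castSucc) *
              ((((QH j.succ).eval (n : ℚ) / (H j.succ).eval (n : ℚ) : ℚ) : ℝ) * (((H j.succ).eval (m : ℚ) : ℚ) : ℝ))) *
          ((P.eval (n : ℚ) : ℚ) : ℝ) <
        (W4swparbununimod.parPoly 𝓔 PX).eval (m : ℝ) * ((Q.eval (n : ℚ) : ℚ) : ℝ)) := by
  haveI := Groth.Agent.Lib.T2H6.HilbPolyC.isLocallyNoetherian (X := X) k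
  have hIx : ∀ j, ParSh.twistSub I E ≤ 𝓔.pieceX j := fun j => h𝓔 ▸ 𝓔.bot_le_pieceX j
  have hdimE : topologicalKrullDim (CohB1.support E) ≤ (d : WithBot ℕ∞) :=
    (hpure E (𝟙 E) inferInstance hE h0).le
  have hdimW : topologicalKrullDim (CohB1.support W) ≤ (d : WithBot ℕ∞) :=
    (dim_support_le_of_mono ι).trans hdimE
  -- the real polynomials
  set rp := W4swparbununimod.rpoly P with hrp
  set rq := W4swparbununimod.rpoly Q with hrq
  set κ : Fin (𝓔.l + 1) → ℝ[X] := fun j => W4swparbununimod.rpoly (QH j.succ) with hκdef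
  set η : Fin (𝓔.l + 1) → ℝ[X] := fun j => W4swparbununimod.rpoly (H j.succ) with hηdef
  have hp : ∀ n, d < n → rp.coeff n = 0 := fun n hn => by
    rw [hrp, rpoly_coeff, coeff_eq_zero_of_dim_le' k L hL E hE P hP d hdimE n hn, Rat.cast_zero]
  have hq : ∀ n, d < n → rq.coeff n = 0 := fun n hn => by
    rw [hrq, rpoly_coeff, coeff_eq_zero_of_dim_le' k L hL W hW Q hQ d hdimW n hn, Rat.cast_zero]
  have hκ : ∀ j n, d - 1 < n → (κ j).coeff n = 0 := fun j n hn => by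
    simp only [hκdef]
    rw [rpoly_coeff, coeff_quot_pullback_eq_zero k L hL I hE hW ι _ (hcoh j.succ) (hIx j.succ) d hsupp _
      (pieceX_induced 𝓔 ι j.succ) (QH j.succ) (hQH j.succ) n (by omega), Rat.cast_zero]
  have hη : ∀ j n, d - 1 < n → (η j).coeff n = 0 := fun j n hn => by
    simp only [hηdef]
    rw [rpoly_coeff, coeff_quot_eq_zero k L hL I hE _ (hcoh j.succ) (hIx j.succ) d hsupp (H j.succ) (hH j.succ) n
      (by omega), Rat.cast_zero]
  have hHc : ∀ j : Fin (𝓔.l + 1), (H j.succ).coeff (d - 1) ≠ 0 := fun j h0 => by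
    have := hHa j
    unfold StabCat.alpha at this
    exact this (by rw [h0, mul_zero])
  have hη0 : ∀ j, (η j).coeff (d - 1) ≠ 0 := fun j => by
    simp only [hηdef]
    rw [rpoly_coeff]
    exact_mod_cast hHc j
  -- the ratio of multiplicities is the ratio of coefficients
  have hρ : ∀ j : Fin (𝓔.l + 1),
      ((StabCat.alpha (d - 1) (QH j.succ) / StabCat.alpha (d - 1) (H j.succ) : ℚ) : ℝ) =
        (κ j).coeff (d - 1) / (η j).coeff (d - 1) := fun j => by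
    simp only [hκdef, hηdef]
    rw [rpoly_coeff, rpoly_coeff, ← Rat.cast_div]
    congr 1
    unfold StabCat.alpha
    have hf : ((d - 1).factorial : ℚ) ≠ 0 := by exact_mod_cast (d - 1).factorial_ne_zero
    field_simp
  -- for fixed `m`
  have key : ∀ m : ℕ, Tendsto (fun n : ℕ =>
      ((((Q.eval (m : ℚ) : ℚ) : ℝ) -
            ∑ j : Fin (𝓔.l + 1), (𝓔.wtX j.succ - 𝓔.wtX j.castSucc) *
              ((((QH j.succ).eval (n : ℚ) / (H j.succ).eval (n : ℚ) : ℚ) : ℝ) * (((H j.succ).eval (m : ℚ) : ℚ) : ℝ))) *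
          ((P.eval (n : ℚ) : ℚ) : ℝ) -
        (W4swparbununimod.parPoly 𝓔 PX).eval (m : ℝ) * ((Q.eval (n : ℚ) : ℚ) : ℝ)) / (n : ℝ) ^ d) atTop
      (𝓝 (((W4swparbununimod.parPolyOne 𝓔 d Q QH H).eval (m : ℝ) * (StabCat.alpha d P : ℝ) -
        (W4swparbununimod.parPoly 𝓔 PX).eval (m : ℝ) * (StabCat.alpha d Q : ℝ)) / (d.factorial : ℝ))) := by
    intro m
    have hf : ((d.factorial : ℕ) : ℝ) ≠ 0 := by exact_mod_cast d.factorial_ne_zero
    have h := tendsto_combination d (d - 1) rp rq hp hq κ η hκ hη hη0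
      (fun j => (𝓔.wtX j.succ - 𝓔.wtX j.castSucc) * (((H j.succ).eval (m : ℚ) : ℚ) : ℝ))
      (((Q.eval (m : ℚ) : ℚ) : ℝ)) ((W4swparbununimod.parPoly 𝓔 PX).eval (m : ℝ))
    have e1 : (W4swparbununimod.parPolyOne 𝓔 d Q QH H).eval (m : ℝ) = ((Q.eval (m : ℚ) : ℚ) : ℝ) -
        ∑ j : Fin (𝓔.l + 1), ((𝓔.wtX j.succ - 𝓔.wtX j.castSucc) * (((H j.succ).eval (m : ℚ) : ℚ) : ℝ)) *
          ((κ j).coeff (d - 1) / (η j).coeff (d - 1)) := by
      unfold W4swparbununimod.parPolyOne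
      rw [eval_sub, eval_finset_sum, rpoly_eval_natCast]
      congr 1
      refine Finset.sum_congr rfl fun j _ => ?_
      rw [eval_mul, eval_C, rpoly_eval_natCast, hρ j]
      ring
    have e2 : (StabCat.alpha d P : ℝ) = (d.factorial : ℝ) * rp.coeff d := by
      rw [hrp, rpoly_coeff]; unfold StabCat.alpha; push_cast; ring
    have e3 : (StabCat.alpha d Q : ℝ) = (d.factorial : ℝ) * rq.coeff d := by
      rw [hrq, rpoly_coeff]; unfold StabCat.alpha; push_cast; ring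
    have e4 : ((W4swparbununimod.parPolyOne 𝓔 d Q QH H).eval (m : ℝ) * (StabCat.alpha d P : ℝ) -
        (W4swparbununimod.parPoly 𝓔 PX).eval (m : ℝ) * (StabCat.alpha d Q : ℝ)) / (d.factorial : ℝ) =
        (((Q.eval (m : ℚ) : ℚ) : ℝ) -
          ∑ j : Fin (𝓔.l + 1), ((𝓔.wtX j.succ - 𝓔.wtX j.castSucc) * (((H j.succ).eval (m : ℚ) : ℚ) : ℝ)) *
            ((κ j).coeff (d - 1) / (η j).coeff (d - 1))) * rp.coeff d -
          (W4swparbununimod.parPoly 𝓔 PX).eval (m : ℝ) * rq.coeff d := by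
      rw [e1, e2, e3]
      field_simp
    rw [e4]
    refine h.congr fun n => ?_
    simp only [hκdef, hηdef, hrp, hrq, rpoly_eval_natCast, Rat.cast_div]
    congr 2
    congr 1
    congr 1
    refine Finset.sum_congr rfl fun j _ => ?_
    ring
  have hfpos : (0 : ℝ) < (d.factorial : ℝ) := by exact_mod_cast d.factorial_pos
  constructor
  · rintro ⟨M, hM⟩
    refine ⟨M, fun m hm => ?_⟩
    obtain ⟨N, hN⟩ := hM m hm
    have hev : ∀ᶠ n : ℕ in atTop, ((((Q.eval (m : ℚ) : ℚ) : ℝ) -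
            ∑ j : Fin (𝓔.l + 1), (𝓔.wtX j.succ - 𝓔.wtX j.castSucc) *
              ((((QH j.succ).eval (n : ℚ) / (H j.succ).eval (n : ℚ) : ℚ) : ℝ) * (((H j.succ).eval (m : ℚ) : ℚ) : ℝ))) *
          ((P.eval (n : ℚ) : ℚ) : ℝ) -
        (W4swparbununimod.parPoly 𝓔 PX).eval (m : ℝ) * ((Q.eval (n : ℚ) : ℚ) : ℝ)) / (n : ℝ) ^ d ≤ 0 := by
      refine Filter.eventually_atTop.2 ⟨N, fun n hn => ?_⟩
      exact div_nonpos_of_nonpos_of_nonneg (sub_nonpos.2 (hN n hn)) (by positivity)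
    have hle := le_of_tendsto (key m) hev
    have := (div_le_iff₀ hfpos).1 hle
    linarith
  · rintro ⟨M, hM⟩
    refine ⟨M, fun m hm => ?_⟩
    have hlt : ((W4swparbununimod.parPolyOne 𝓔 d Q QH H).eval (m : ℝ) * (StabCat.alpha d P : ℝ) -
        (W4swparbununimod.parPoly 𝓔 PX).eval (m : ℝ) * (StabCat.alpha d Q : ℝ)) / (d.factorial : ℝ) < 0 :=
      div_neg_of_neg_of_pos (sub_neg.2 (hM m hm)) hfpos
    have hev := ((key m).eventually_lt_const hlt).and (eventually_ge_atTop 1)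
    obtain ⟨N, hN⟩ := Filter.eventually_atTop.1 hev
    refine ⟨N, fun n hn => ?_⟩
    obtain ⟨h1, h2⟩ := hN n hn
    have hnpos : (0 : ℝ) < (n : ℝ) ^ d := by
      have : (0 : ℝ) < (n : ℝ) := by exact_mod_cast h2
      positivity
    have := (div_lt_iff₀ hnpos).1 h1
    rw [zero_mul] at this
    linarith

end Groth.Agent.Lib.T2H6.ParHilb
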