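import Mathlib
import Groth.Prelude
import Groth.Agent.Lib.T2H6ParHilbH
set_option backward.isDefEq.respectTransparency.types false

/-!
# Parabolic Hilbert polynomials, IX (helper6): towards S18531

* `parSum_real_eq`, `parSum_real_eq'` : the weighted sum `x_{l+1} + Σ w_j (x_j − x_{j+1})` in two other forms.
* `wtX_castSucc_le_succ` : the extended weights increase.
* `quot_le_of_semistable` : comparison of the Hilbert polynomial of `W / ι⁻¹ x` with that of a semistable `E / x`.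
-/

set_option autoImplicit false
set_option linter.style.haveILetI false
set_option linter.unusedSectionVars false
universe u

open CategoryTheory TopCat TopologicalSpace Opposite AlgebraicGeometry Limits Polynomial StabCat Filter Topology

namespace Groth.Agent.Lib.T2H6.ParHilb

open Groth.Agent.Lib.T2H6.HilbPolyA Groth.Agent.Lib.T2H6.HilbPolyB Groth.Agent.Lib.T2H5.Twist
  Groth.Agent.Lib.T2H6.TensorPows Groth.Agent.Lib.T2H6.HilbPolyO Groth.Agent.Lib.T2H6.HilbPolyE
  Groth.Agent.Lib.T2H6.HilbPolyC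

/-- `x_{l+1} + Σ_j w_j (x_j − x_{j+1}) = q − Σ_j (w_{j+1} − w_j) h_{j+1}` when `x_j = q − h_j`, `h_0 = 0`,
`w_{l+1} = 1`. -/
theorem parSum_real_eq {n : ℕ} (a : Fin (n + 2) → ℝ) (ha : a (Fin.last _) = 1) (q : ℝ) (x h : Fin (n + 2) → ℝ)
    (hx : ∀ j, x j = q - h j) (h0 : h 0 = 0) :
    x (Fin.last _) + ∑ j : Fin (n + 1), a j.castSucc * (x j.castSucc - x j.succ) =
      q - ∑ j : Fin (n + 1), (a j.succ - a j.castSucc) * h j.succ := by
  rw [abel_fin a h, ha, h0]
  simp only [hx]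
  have : ∀ j : Fin (n + 1), a j.castSucc * (q - h j.castSucc - (q - h j.succ)) =
      a j.castSucc * (h j.succ - h j.castSucc) := fun j => by ring
  simp only [this]
  ring

/-- `x_{l+1} + Σ_j w_j (x_j − x_{j+1}) = w_0 x_0 + Σ_j (w_{j+1} − w_j) x_{j+1}` when `w_{l+1} = 1`. -/
theorem parSum_real_eq' {n : ℕ} (a : Fin (n + 2) → ℝ) (ha : a (Fin.last _) = 1) (x : Fin (n + 2) → ℝ) :
    x (Fin.last _) + ∑ j : Fin (n + 1), a j.castSucc * (x j.castSucc - x j.succ) =
      a 0 * x 0 + ∑ j : Fin (n + 1), (a j.succ - a j.castSucc) * x j.succ := by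
  rw [abel_fin a x, ha]
  have : ∀ j : Fin (n + 1), a j.castSucc * (x j.castSucc - x j.succ) =
      -(a j.castSucc * (x j.succ - x j.castSucc)) := fun j => by ring
  simp only [this, Finset.sum_neg_distrib]
  ring

theorem exists_forall_ge_of_fintype {ι : Type*} [Fintype ι] (p : ι → ℕ → Prop)
    (h : ∀ i, ∃ N : ℕ, ∀ m : ℕ, N ≤ m → p i m) : ∃ N : ℕ, ∀ m : ℕ, N ≤ m → ∀ i, p i m := by
  choose N hN using h
  exact ⟨Finset.univ.sup N, fun m hm i => hN i m ((Finset.le_sup (Finset.mem_univ i)).trans hm)⟩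

variable {X : Scheme.{u}}

theorem wtX_castSucc_le_succ {E : X.Modules} (𝓔 : ParSh.Str E) (j : Fin (𝓔.l + 1)) :
    𝓔.wtX j.castSucc ≤ 𝓔.wtX j.succ := by
  induction j using Fin.lastCases with
  | last =>
    rw [ParSh.Str.wtX_castSucc, Fin.succ_last, ParSh.Str.wtX_last]
    exact 𝓔.wt_lt_one.le
  | cast i =>
    rw [ParSh.Str.wtX_castSucc, Fin.succ_castSucc, ParSh.Str.wtX_castSucc]
    exact 𝓔.wt_strictMono.monotone (Fin.castSucc_le_succ i)

variable (k : Type u) [Field k] [X.Over (Spec (CommRingCat.of k))]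
  [IsProper (X ↘ Spec (CommRingCat.of k))] (L : X.Modules)

include k in
/-- for `E / x` semistable of dimension `e`, the Hilbert polynomial `K` of `W / ι⁻¹ x ⊆ E / x` satisfies
`K ≤ (α_e(K) / α_e(H)) · H` eventually. -/
theorem quot_le_of_semistable (hL : CohB1.IsAmple L) {W E : X.Modules} (hW : Coh.IsCoh W) (ι : W ⟶ E)
    (x : Subobject E) (e : ℕ)
    (hss : ShStab.IsSemistable k X L (cokernel x.arrow) e) (y : Subobject W) (hy : y = (Subobject.pullback ι).obj x)
    (K Hx : ℚ[X]) (hK : ShStab.IsHilbPoly k X L (cokernel y.arrow) K)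
    (hH : ShStab.IsHilbPoly k X L (cokernel x.arrow) Hx) :
    ∃ N : ℕ, ∀ m : ℕ, N ≤ m → K.eval (m : ℚ) ≤ (alpha e K / alpha e Hx) * Hx.eval (m : ℚ) := by
  subst hy
  haveI := isLocallyNoetherian (X := X) k
  have hαH : 0 < alpha e Hx := alpha_pos_of_isSemistable k L hL hss Hx hH
  have hS := shortExact_pullback_arrow ι x
  haveI := hS.epi_g
  let F : Subobject (cokernel x.arrow) := imageSubobject (ι ≫ cokernel.π x.arrow)
  let ε : cokernel ((Subobject.pullback ι).obj x).arrow ≅ (F : X.Modules) :=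
    IsColimit.coconePointUniqueUpToIso (cokernelIsCokernel _) hS.gIsCokernel
  have hKF : ShStab.IsHilbPoly k X L (F : X.Modules) K := isHilbPoly_of_iso k L ε K hK
  have cF : Coh.IsCoh (F : X.Modules) :=
    Groth.Agent.Lib.T2H5.Devissage.isCoh_of_iso
      ((Abelian.imageIsoImage (ι ≫ cokernel.π x.arrow)) ≪≫ (imageSubobjectIso (ι ≫ cokernel.π x.arrow)).symm)
      (Groth.Agent.Lib.T2H6.CurveVB.isCoh_image (ι ≫ cokernel.π x.arrow) hW hss.1)
  by_cases hz : IsZero (F : X.Modules)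
  · have hK0 : K = 0 := isHilbPoly_unique k L _ K 0 hKF (isHilbPoly_zero_of_isZero k L _ hz)
    refine ⟨0, fun m _ => ?_⟩
    rw [hK0]
    simp [alpha]
  by_cases hiso : IsIso F.arrow
  · have hKH : K = Hx := isHilbPoly_unique k L _ K Hx (isHilbPoly_of_iso k L (asIso F.arrow) K hKF) hH
    refine ⟨0, fun m _ => ?_⟩
    rw [hKH, div_self hαH.ne', one_mul]
  · obtain ⟨N, hN⟩ := hss.2.2.2 (F : X.Modules) F.arrow inferInstance cF hz hiso K Hx hKF hH
    refine ⟨N, fun m hm => ?_⟩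
    have := hN m hm
    rw [eval_smul, eval_smul, smul_eq_mul, smul_eq_mul] at this
    rw [div_mul_eq_mul_div, le_div_iff₀ hαH]
    linarith

omit [X.Over (Spec (CommRingCat.of k))] [IsProper (X ↘ Spec (CommRingCat.of k))] in
/-- the evaluation of the parabolic polynomial as a nonnegative combination. -/
theorem parPoly_eval_eq' {E : X.Modules} (𝓕 : ParSh.Str E) (PX : Fin (𝓕.l + 2) → ℚ[X]) (m : ℕ) :
    (W4swparbununimod.parPoly 𝓕 PX).eval (m : ℝ) =
      𝓕.wtX 0 * (((PX 0).eval (m : ℚ) : ℚ) : ℝ) +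
        ∑ j : Fin (𝓕.l + 1), (𝓕.wtX j.succ - 𝓕.wtX j.castSucc) * (((PX j.succ).eval (m : ℚ) : ℚ) : ℝ) := by
  rw [← parSum_real_eq' 𝓕.wtX 𝓕.wtX_last (fun j => (((PX j).eval (m : ℚ) : ℚ) : ℝ))]
  unfold W4swparbununimod.parPoly
  simp only [eval_add, eval_finset_sum, eval_mul, eval_C, eval_sub, rpoly_eval_natCast, ParSh.Str.wtX_castSucc]

include k in
/-- the evaluation of the parabolic polynomial of the induced structure through the quotients `W / W_j`. -/
theorem parPoly_induced_eval (hL : PicF.IsInvertible L) {W E : X.Modules} (hE : Coh.IsCoh E) (hW : Coh.IsCoh W)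
    (ι : W ⟶ E) [Mono ι] (𝓔 : ParSh.Str E)
    (hcoh : ∀ j, Coh.IsCoh ((𝓔.pieceX j : Subobject E) : X.Modules))
    (Q : ℚ[X]) (hQ : ShStab.IsHilbPoly k X L W Q) (QX QH : Fin (𝓔.l + 2) → ℚ[X])
    (hQX : ∀ j, ShStab.IsHilbPoly k X L (((𝓔.induced ι).pieceX j : Subobject W) : X.Modules) (QX j))
    (hQH : ∀ j, ShStab.IsHilbPoly k X L (cokernel ((𝓔.induced ι).pieceX j).arrow) (QH j)) (m : ℕ) :
    (W4swparbununimod.parPoly (𝓔.induced ι) QX).eval (m : ℝ) = ((Q.eval (m : ℚ) : ℚ) : ℝ) -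
      ∑ j : Fin (𝓔.l + 1), (𝓔.wtX j.succ - 𝓔.wtX j.castSucc) * (((QH j.succ).eval (m : ℚ) : ℚ) : ℝ) := by
  haveI := isLocallyNoetherian (X := X) k
  have cY : ∀ j, Coh.IsCoh (((𝓔.induced ι).pieceX j : Subobject W) : X.Modules) := fun j => by
    rw [pieceX_induced]
    exact isCoh_pullbackObj ι hW hE _ (hcoh j)
  have hadd : ∀ j, Q = QX j + QH j := fun j =>
    hilb_sub_add_quot k L hL hW _ (cY j) Q (QX j) (QH j) hQ (hQX j) (hQH j)
  have hQH0 : QH 0 = 0 := by
    have hz : IsZero (cokernel ((𝓔.induced ι).pieceX 0).arrow) := by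
      have : (𝓔.induced ι).pieceX 0 = ⊤ := by
        rw [← Fin.castSucc_zero, ParSh.Str.pieceX_castSucc, (𝓔.induced ι).piece_zero]
      rw [this]
      exact isZero_cokernel_of_epi _
    exact isHilbPoly_unique k L _ _ _ (hQH 0) (isHilbPoly_zero_of_isZero k L _ hz)
  have h := parSum_real_eq 𝓔.wtX 𝓔.wtX_last (((Q.eval (m : ℚ) : ℚ) : ℝ))
    (fun j => (((QX j).eval (m : ℚ) : ℚ) : ℝ)) (fun j => (((QH j).eval (m : ℚ) : ℚ) : ℝ))
    (fun j => by
      have := congrArg (fun p : ℚ[X] => ((p.eval (m : ℚ) : ℚ) : ℝ)) (hadd j)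
      simp only [eval_add, Rat.cast_add] at this
      linarith)
    (by rw [hQH0, eval_zero, Rat.cast_zero])
  rw [← h]
  unfold W4swparbununimod.parPoly
  change (W4swparbununimod.rpoly (QX (Fin.last (𝓔.l + 1))) +
    ∑ j : Fin (𝓔.l + 1), Polynomial.C (𝓔.wt j) * (W4swparbununimod.rpoly (QX j.castSucc) -
      W4swparbununimod.rpoly (QX j.succ))).eval (m : ℝ) = _
  simp only [eval_add, eval_finset_sum, eval_mul, eval_C, eval_sub, rpoly_eval_natCast, ParSh.Str.wtX_castSucc]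

include k in
/-- monotonicity of the Hilbert polynomials of the pieces of the induced structure in the submodule. -/
theorem hilb_pullback_le (hL : CohB1.IsAmple L) {W W' E : X.Modules} (hE : Coh.IsCoh E) (hW : Coh.IsCoh W)
    (hW' : Coh.IsCoh W') (ι : W ⟶ E) (ι' : W' ⟶ E) [Mono ι'] (u : W ⟶ W') [Mono u] (hu : u ≫ ι' = ι)
    (x : Subobject E) (hx : Coh.IsCoh (x : X.Modules)) (Qx Qx' : ℚ[X])
    (hQx : ShStab.IsHilbPoly k X L (((Subobject.pullback ι).obj x : Subobject W) : X.Modules) Qx)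
    (hQx' : ShStab.IsHilbPoly k X L (((Subobject.pullback ι').obj x : Subobject W') : X.Modules) Qx') :
    ∃ N : ℕ, ∀ m : ℕ, N ≤ m → Qx.eval (m : ℚ) ≤ Qx'.eval (m : ℚ) := by
  haveI := isLocallyNoetherian (X := X) k
  subst hu
  set y' := (Subobject.pullback ι').obj x with hy'
  have hyy : (Subobject.pullback (u ≫ ι')).obj x = (Subobject.pullback u).obj y' := Subobject.pullback_comp u ι' x
  have cy' : Coh.IsCoh (y' : X.Modules) := isCoh_pullbackObj ι' hW' hE x hx
  have cy : Coh.IsCoh (((Subobject.pullback u).obj y' : Subobject W) : X.Modules) :=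
    isCoh_pullbackObj u hW hW' y' cy'
  have hQy : ShStab.IsHilbPoly k X L (((Subobject.pullback u).obj y' : Subobject W) : X.Modules) Qx :=
    isHilbPoly_of_iso k L (Subobject.isoOfEq _ _ hyy) Qx hQx
  have cC := Groth.Agent.Lib.T2H5.GenIsoB.isCoh_cokernel (Subobject.pullbackπ u y') cy cy'
  have hadd := isHilbPoly_add k L hL.1 _ (shortExact_cokernel (Subobject.pullbackπ u y')) cy cy' cC Qx Qx' _
    hQy hQx' (isHilbPoly_hilb k L hL.1 _ cC)
  obtain ⟨N, hN⟩ := eventually_nonneg k L hL _ cC _ (isHilbPoly_hilb k L hL.1 _ cC)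
  refine ⟨N, fun m hm => ?_⟩
  rw [hadd, eval_add]
  linarith [hN m hm]

end Groth.Agent.Lib.T2H6.ParHilb
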