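import Mathlib
import Groth.Prelude
import Groth.Agent.Lib.T2H6ParHilbI
set_option backward.isDefEq.respectTransparency.types false

/-!
# Parabolic Hilbert polynomials, X (helper6): S18531

`p1Semistable_of_p0Semistable` : semistability for the reduced parabolic Hilbert polynomial (tested on saturated
submodules) together with semistability of the flag quotients `E / E_j` gives the inequality for the first modified
parabolic polynomial, for every nonzero coherent submodule.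
-/

set_option autoImplicit false
set_option linter.style.haveILetI false
set_option linter.unusedSectionVars false
universe u

open CategoryTheory TopCat TopologicalSpace Opposite AlgebraicGeometry Limits Polynomial StabCat Filter Topology

namespace Groth.Agent.Lib.T2H6.ParHilb

open Groth.Agent.Lib.T2H6.HilbPolyA Groth.Agent.Lib.T2H6.HilbPolyB Groth.Agent.Lib.T2H5.Twist
  Groth.Agent.Lib.T2H6.TensorPows Groth.Agent.Lib.T2H6.HilbPolyO Groth.Agent.Lib.T2H6.HilbPolyE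
  Groth.Agent.Lib.T2H6.HilbPolyC Groth.Agent.Lib.T2H6.HilbPolyK

variable {X : Scheme.{u}} (k : Type u) [Field k] [X.Over (Spec (CommRingCat.of k))]
  [IsProper (X ↘ Spec (CommRingCat.of k))] (L : X.Modules)

include k in
/-- **S18531**. -/
theorem p1Semistable_of_p0Semistable (hL : CohB1.IsAmple L)
    {E : X.Modules} (hE : Coh.IsCoh E) (𝓔 : ParSh.Str E)
    (hcoh : ∀ j, Coh.IsCoh ((𝓔.pieceX j : Subobject E) : X.Modules)) (d : ℕ)
    (h0 : ¬ IsZero E) (hpure : ShStab.IsPure X E d)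
    (P : ℚ[X]) (hP : ShStab.IsHilbPoly k X L E P) (PX : Fin (𝓔.l + 2) → ℚ[X])
    (H : Fin (𝓔.l + 2) → ℚ[X]) (hH : ∀ j, ShStab.IsHilbPoly k X L (cokernel (𝓔.pieceX j).arrow) (H j))
    (hss : (∀ (W : X.Modules) (ι : W ⟶ E), Mono ι → Coh.IsCoh W → ¬ IsZero W → ShStab.IsPure X (cokernel ι) d →
        ∀ (Q : ℚ[X]) (QX : Fin (𝓔.l + 2) → ℚ[X]), ShStab.IsHilbPoly k X L W Q →
          (∀ j, ShStab.IsHilbPoly k X L (((𝓔.induced ι).pieceX j : Subobject W) : X.Modules) (QX j)) →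
          ∃ M : ℕ, ∀ m : ℕ, M ≤ m →
            (W4swparbununimod.parPoly (𝓔.induced ι) QX).eval (m : ℝ) * (StabCat.alpha d P : ℝ) ≤
              (W4swparbununimod.parPoly 𝓔 PX).eval (m : ℝ) * (StabCat.alpha d Q : ℝ)))
    (hq : ∀ j : Fin (𝓔.l + 1), ShStab.IsSemistable k X L (cokernel (𝓔.pieceX j.succ).arrow) (d - 1))
    {W : X.Modules} (ι : W ⟶ E) [Mono ι] (hW : Coh.IsCoh W)
    (Q : ℚ[X]) (hQ : ShStab.IsHilbPoly k X L W Q) (QH : Fin (𝓔.l + 2) → ℚ[X])
    (hQH : ∀ j, ShStab.IsHilbPoly k X L (cokernel ((𝓔.induced ι).pieceX j).arrow) (QH j)) (hW0 : ¬ IsZero W) :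
    ∃ M : ℕ, ∀ m : ℕ, M ≤ m →
      (W4swparbununimod.parPolyOne 𝓔 d Q QH H).eval (m : ℝ) * (StabCat.alpha d P : ℝ) ≤
        (W4swparbununimod.parPoly 𝓔 PX).eval (m : ℝ) * (StabCat.alpha d Q : ℝ) := by
  haveI := isLocallyNoetherian (X := X) k
  have hdimE : topologicalKrullDim (CohB1.support E) ≤ (d : WithBot ℕ∞) :=
    (hpure E (𝟙 E) inferInstance hE h0).le
  have hαP : (0 : ℝ) ≤ (StabCat.alpha d P : ℝ) := by
    exact_mod_cast alpha_nonneg k L hL E hE P hP d hdimE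
  -- the saturation
  obtain ⟨W', ι', u, hι', hu, cW', huι, hpure', hα⟩ := exists_saturation k L hL hE hdimE W ι hW
  haveI := hι'
  haveI := hu
  have hW'0 : ¬ IsZero W' := fun hz => hW0 (by
    have : u = 0 := hz.eq_of_tgt _ _
    have h1 : 𝟙 W = 0 := by
      rw [← cancel_mono u, this, Limits.comp_zero, Limits.zero_comp]
    exact (IsZero.iff_id_eq_zero W).2 h1)
  -- Hilbert polynomials of the pieces
  have cY : ∀ j, Coh.IsCoh (((𝓔.induced ι).pieceX j : Subobject W) : X.Modules) := fun j => by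
    rw [pieceX_induced]
    exact isCoh_pullbackObj ι hW hE _ (hcoh j)
  have cY' : ∀ j, Coh.IsCoh (((𝓔.induced ι').pieceX j : Subobject W') : X.Modules) := fun j => by
    rw [pieceX_induced]
    exact isCoh_pullbackObj ι' cW' hE _ (hcoh j)
  set QX : Fin (𝓔.l + 2) → ℚ[X] := fun j => hilb k L (((𝓔.induced ι).pieceX j : Subobject W) : X.Modules) with hQXdef
  set QX' : Fin (𝓔.l + 2) → ℚ[X] := fun j => hilb k L (((𝓔.induced ι').pieceX j : Subobject W') : X.Modules)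
    with hQX'def
  have hQX : ∀ j, ShStab.IsHilbPoly k X L (((𝓔.induced ι).pieceX j : Subobject W) : X.Modules) (QX j) :=
    fun j => isHilbPoly_hilb k L hL.1 _ (cY j)
  have hQX' : ∀ j, ShStab.IsHilbPoly k X L (((𝓔.induced ι').pieceX j : Subobject W') : X.Modules) (QX' j) :=
    fun j => isHilbPoly_hilb k L hL.1 _ (cY' j)
  have hQ' := isHilbPoly_hilb k L hL.1 W' cW'
  -- (C) semistability applied to the saturation
  obtain ⟨M₁, hM₁⟩ := hss W' ι' inferInstance cW' hW'0 hpure' _ QX' hQ' hQX'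
  have hαeq : alpha d (hilb k L W') = alpha d Q := hα Q _ hQ hQ'
  -- (B) monotonicity of the parabolic polynomial
  have hB : ∀ j, ∃ N : ℕ, ∀ m : ℕ, N ≤ m → (QX j).eval (m : ℚ) ≤ (QX' j).eval (m : ℚ) := fun j => by
    have h1 := hQX j
    have h2 := hQX' j
    rw [pieceX_induced] at h1 h2
    exact hilb_pullback_le k L hL hE hW cW' ι ι' u huι _ (hcoh j) _ _ h1 h2
  obtain ⟨M₂, hM₂⟩ := exists_forall_ge_of_fintype _ hB
  -- (A) comparison with the first modified polynomial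
  have hA : ∀ j : Fin (𝓔.l + 1), ∃ N : ℕ, ∀ m : ℕ, N ≤ m → (QH j.succ).eval (m : ℚ) ≤
      (alpha (d - 1) (QH j.succ) / alpha (d - 1) (H j.succ)) * (H j.succ).eval (m : ℚ) := fun j =>
    quot_le_of_semistable k L hL hW ι _ (d - 1) (hq j) _ (pieceX_induced 𝓔 ι j.succ) _ _ (hQH j.succ) (hH j.succ)
  obtain ⟨M₃, hM₃⟩ := exists_forall_ge_of_fintype _ hA
  refine ⟨max M₁ (max M₂ M₃), fun m hm => ?_⟩
  have hm₁ : M₁ ≤ m := (le_max_left _ _).trans hm
  have hm₂ : M₂ ≤ m := ((le_max_left _ _).trans (le_max_right _ _)).trans hm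
  have hm₃ : M₃ ≤ m := ((le_max_right _ _).trans (le_max_right _ _)).trans hm
  have hΔ : ∀ j : Fin (𝓔.l + 1), 0 ≤ 𝓔.wtX j.succ - 𝓔.wtX j.castSucc := fun j =>
    sub_nonneg.2 (wtX_castSucc_le_succ 𝓔 j)
  -- par-P₁(W)(m) ≤ Par_W(m)
  have s1 : (W4swparbununimod.parPolyOne 𝓔 d Q QH H).eval (m : ℝ) ≤
      (W4swparbununimod.parPoly (𝓔.induced ι) QX).eval (m : ℝ) := by
    rw [parPoly_induced_eval k L hL.1 hE hW ι 𝓔 hcoh Q hQ QX QH hQX hQH m]
    unfold W4swparbununimod.parPolyOne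
    rw [eval_sub, eval_finset_sum, rpoly_eval_natCast]
    refine sub_le_sub_left (Finset.sum_le_sum fun j _ => ?_) _
    rw [eval_mul, eval_C, rpoly_eval_natCast, mul_assoc]
    refine mul_le_mul_of_nonneg_left ?_ (hΔ j)
    have := hM₃ m hm₃ j
    have h' : (((QH j.succ).eval (m : ℚ) : ℚ) : ℝ) ≤
        (((alpha (d - 1) (QH j.succ) / alpha (d - 1) (H j.succ)) * (H j.succ).eval (m : ℚ) : ℚ) : ℝ) := by
      exact_mod_cast this
    rw [Rat.cast_mul] at h'
    exact h'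
  -- Par_W(m) ≤ Par_{W'}(m)
  have s2 : (W4swparbununimod.parPoly (𝓔.induced ι) QX).eval (m : ℝ) ≤
      (W4swparbununimod.parPoly (𝓔.induced ι') QX').eval (m : ℝ) := by
    rw [parPoly_eval_eq', parPoly_eval_eq']
    have hw0 : 0 ≤ (𝓔.induced ι).wtX 0 := by
      rw [← Fin.castSucc_zero, ParSh.Str.wtX_castSucc]
      exact 𝓔.wt_nonneg
    have hc : ∀ j, (((QX j).eval (m : ℚ) : ℚ) : ℝ) ≤ (((QX' j).eval (m : ℚ) : ℚ) : ℝ) := fun j => by
      exact_mod_cast hM₂ m hm₂ j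
    refine add_le_add (mul_le_mul_of_nonneg_left (hc 0) hw0) (Finset.sum_le_sum fun j _ => ?_)
    exact mul_le_mul_of_nonneg_left (hc j.succ) (hΔ j)
  have s3 := hM₁ m hm₁
  rw [hαeq] at s3
  calc (W4swparbununimod.parPolyOne 𝓔 d Q QH H).eval (m : ℝ) * (StabCat.alpha d P : ℝ)
      ≤ (W4swparbununimod.parPoly (𝓔.induced ι') QX').eval (m : ℝ) * (StabCat.alpha d P : ℝ) :=
        mul_le_mul_of_nonneg_right (s1.trans s2) hαP
    _ ≤ _ := s3

end Groth.Agent.Lib.T2H6.ParHilb
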