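import Mathlib
import Groth.Prelude
import Groth.Agent.Lib.T2H6ParHilbJ
set_option backward.isDefEq.respectTransparency.types false

/-!
# Parabolic Hilbert polynomials, XI (helper6): S18533

`p1Stable_of_p0Stable` : the stable analogue of `p1Semistable_of_p0Semistable`, for saturated proper submodules.
-/

set_option autoImplicit false
set_option linter.style.haveILetI false
set_option linter.unusedSectionVars false
universe u

open CategoryTheory TopCat TopologicalSpace Opposite AlgebraicGeometry Limits Polynomial StabCat Filter Topology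

namespace Groth.Agent.Lib.T2H6.ParHilb

open Groth.Agent.Lib.T2H6.HilbPolyA Groth.Agent.Lib.T2H6.HilbPolyB Groth.Agent.Lib.T2H5.Twist
  Groth.Agent.Lib.T2H6.TensorPows Groth.Agent.Lib.T2H6.HilbPolyO Groth.Agent.Lib.T2H6.HilbPolyE
  Groth.Agent.Lib.T2H6.HilbPolyC Groth.Agent.Lib.T2H6.HilbPolyK

variable {X : Scheme.{u}} (k : Type u) [Field k] [X.Over (Spec (CommRingCat.of k))]
  [IsProper (X ↘ Spec (CommRingCat.of k))] (L : X.Modules)

include k in
/-- **S18533**. -/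
theorem p1Stable_of_p0Stable (hL : CohB1.IsAmple L)
    {E : X.Modules} (hE : Coh.IsCoh E) (𝓔 : ParSh.Str E)
    (hcoh : ∀ j, Coh.IsCoh ((𝓔.pieceX j : Subobject E) : X.Modules)) (d : ℕ)
    (h0 : ¬ IsZero E) (hpure : ShStab.IsPure X E d)
    (P : ℚ[X]) (hP : ShStab.IsHilbPoly k X L E P) (PX : Fin (𝓔.l + 2) → ℚ[X])
    (H : Fin (𝓔.l + 2) → ℚ[X]) (hH : ∀ j, ShStab.IsHilbPoly k X L (cokernel (𝓔.pieceX j).arrow) (H j))
    (hst : (∀ (W : X.Modules) (ι : W ⟶ E), Mono ι → Coh.IsCoh W → ¬ IsZero W → ¬ IsIso ι →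
        ShStab.IsPure X (cokernel ι) d →
        ∀ (Q : ℚ[X]) (QX : Fin (𝓔.l + 2) → ℚ[X]), ShStab.IsHilbPoly k X L W Q →
          (∀ j, ShStab.IsHilbPoly k X L (((𝓔.induced ι).pieceX j : Subobject W) : X.Modules) (QX j)) →
          ∃ M : ℕ, ∀ m : ℕ, M ≤ m →
            (W4swparbununimod.parPoly (𝓔.induced ι) QX).eval (m : ℝ) * (StabCat.alpha d P : ℝ) <
              (W4swparbununimod.parPoly 𝓔 PX).eval (m : ℝ) * (StabCat.alpha d Q : ℝ)))
    (hq : ∀ j : Fin (𝓔.l + 1), ShStab.IsStable k X L (cokernel (𝓔.pieceX j.succ).arrow) (d - 1))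
    {W : X.Modules} (ι : W ⟶ E) [Mono ι] (hW : Coh.IsCoh W)
    (Q : ℚ[X]) (hQ : ShStab.IsHilbPoly k X L W Q) (QH : Fin (𝓔.l + 2) → ℚ[X])
    (hQH : ∀ j, ShStab.IsHilbPoly k X L (cokernel ((𝓔.induced ι).pieceX j).arrow) (QH j)) (hW0 : ¬ IsZero W)
    (hWp : ¬ IsIso ι) (hWsat : ShStab.IsPure X (cokernel ι) d) :
    ∃ M : ℕ, ∀ m : ℕ, M ≤ m →
      (W4swparbununimod.parPolyOne 𝓔 d Q QH H).eval (m : ℝ) * (StabCat.alpha d P : ℝ) <
        (W4swparbununimod.parPoly 𝓔 PX).eval (m : ℝ) * (StabCat.alpha d Q : ℝ) := by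
  haveI := isLocallyNoetherian (X := X) k
  have hdimE : topologicalKrullDim (CohB1.support E) ≤ (d : WithBot ℕ∞) :=
    (hpure E (𝟙 E) inferInstance hE h0).le
  have hαP : (0 : ℝ) ≤ (StabCat.alpha d P : ℝ) := by
    exact_mod_cast alpha_nonneg k L hL E hE P hP d hdimE
  have cY : ∀ j, Coh.IsCoh (((𝓔.induced ι).pieceX j : Subobject W) : X.Modules) := fun j => by
    rw [pieceX_induced]
    exact isCoh_pullbackObj ι hW hE _ (hcoh j)
  set QX : Fin (𝓔.l + 2) → ℚ[X] := fun j => hilb k L (((𝓔.induced ι).pieceX j : Subobject W) : X.Modules) with hQXdef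
  have hQX : ∀ j, ShStab.IsHilbPoly k X L (((𝓔.induced ι).pieceX j : Subobject W) : X.Modules) (QX j) :=
    fun j => isHilbPoly_hilb k L hL.1 _ (cY j)
  obtain ⟨M₁, hM₁⟩ := hst W ι inferInstance hW hW0 hWp hWsat Q QX hQ hQX
  have hA : ∀ j : Fin (𝓔.l + 1), ∃ N : ℕ, ∀ m : ℕ, N ≤ m → (QH j.succ).eval (m : ℚ) ≤
      (alpha (d - 1) (QH j.succ) / alpha (d - 1) (H j.succ)) * (H j.succ).eval (m : ℚ) := fun j =>
    quot_le_of_semistable k L hL hW ι _ (d - 1) (isSemistable_of_isStable k L (hq j)) _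
      (pieceX_induced 𝓔 ι j.succ) _ _ (hQH j.succ) (hH j.succ)
  obtain ⟨M₃, hM₃⟩ := exists_forall_ge_of_fintype _ hA
  refine ⟨max M₁ M₃, fun m hm => ?_⟩
  have hm₁ : M₁ ≤ m := (le_max_left _ _).trans hm
  have hm₃ : M₃ ≤ m := (le_max_right _ _).trans hm
  have hΔ : ∀ j : Fin (𝓔.l + 1), 0 ≤ 𝓔.wtX j.succ - 𝓔.wtX j.castSucc := fun j =>
    sub_nonneg.2 (wtX_castSucc_le_succ 𝓔 j)
  have s1 : (W4swparbununimod.parPolyOne 𝓔 d Q QH H).eval (m : ℝ) ≤
      (W4swparbununimod.parPoly (𝓔.induced ι) QX).eval (m : ℝ) := by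
    rw [parPoly_induced_eval k L hL.1 hE hW ι 𝓔 hcoh Q hQ QX QH hQX hQH m]
    unfold W4swparbununimod.parPolyOne
    rw [eval_sub, eval_finset_sum, rpoly_eval_natCast]
    refine sub_le_sub_left (Finset.sum_le_sum fun j _ => ?_) _
    rw [eval_mul, eval_C, rpoly_eval_natCast, mul_assoc]
    refine mul_le_mul_of_nonneg_left ?_ (hΔ j)
    have := hM₃ m hm₃ j
    have h' : (((QH j.succ).eval (m : ℚ) : ℚ) : ℝ) ≤
        (((alpha (d - 1) (QH j.succ) / alpha (d - 1) (H j.succ)) * (H j.succ).eval (m : ℚ) : ℚ) : ℝ) := by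
      exact_mod_cast this
    rw [Rat.cast_mul] at h'
    exact h'
  exact lt_of_le_of_lt (mul_le_mul_of_nonneg_right s1 hαP) (hM₁ m hm₁)

end Groth.Agent.Lib.T2H6.ParHilb
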