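import Mathlib
import Groth.Agent.Lib.T2H5FiniteIsoPic
import Groth.Agent.Lib.T2H5ClosedCoverPic
set_option backward.isDefEq.respectTransparency.types false

/-!
# Descending an invertible module along a morphism from local generators and lifted transition units (helper6)

`f : X ⟶ Y`, `L` a module on `X`, `U` an open of `Y` with a generator `e` of `L` over `f⁻¹ U`, an affine open cover `T k`
of `Y` whose members meet pairwise inside `U`, generators `l k` of `L` over `f⁻¹ (T k)` and units `w k` on `T k ∩ U`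
with `e = f^♯(w k) • l k` over `f⁻¹(T k ∩ U)`.  Then the invertible module on `Y` glued from the cocycle
`w j * (w i)⁻¹` pulls back to `L`.

Namespace `Groth.Agent.Lib.T2H6.PicLift`.
-/

set_option autoImplicit false
set_option linter.style.haveILetI false
set_option linter.unusedSectionVars false
set_option linter.unusedVariables false
universe u
open CategoryTheory CategoryTheory.Limits AlgebraicGeometry TopologicalSpace Opposite

namespace Groth.Agent.Lib.T2H6.PicLift

open Groth.Agent.Lib.Helper6 Groth.Agent.Helper13ModGlue Groth.Agent.Lib.Helper23.SecTw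
  Groth.Agent.Lib.Helper23.GenLocus Groth.Agent.Lib.T2H5.GlueInv Groth.Agent.Lib.T2H4.Cocycle
  Groth.Agent.Lib.T2H4.CocycleMod

variable {Y : Scheme.{u}}

/-- restriction of units -/
noncomputable def resU {A B : Y.Opens} (h : B ≤ A) : (Γ(Y, A))ˣ →* (Γ(Y, B))ˣ :=
  Units.map (Y.presheaf.map (homOfLE h).op).hom.toMonoidHom

theorem resU_val {A B : Y.Opens} (h : B ≤ A) (u : (Γ(Y, A))ˣ) :
    ((resU h u : (Γ(Y, B))ˣ) : Γ(Y, B)) = resf h (u : Γ(Y, A)) := rfl

theorem resU_resU {A B C : Y.Opens} (h₁ : B ≤ A) (h₂ : C ≤ B) (u : (Γ(Y, A))ˣ) :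
    resU h₂ (resU h₁ u) = resU (h₂.trans h₁) u := by
  apply Units.ext
  rw [resU_val, resU_val, resU_val, resf_resf]

theorem aux_mul {G : Type*} [CommGroup G] (a b c : G) : (b * a⁻¹) * (c * b⁻¹) = c * a⁻¹ := by
  rw [mul_comm (b * a⁻¹) (c * b⁻¹), mul_assoc c, ← mul_assoc b⁻¹, inv_mul_cancel, one_mul]

section cocycle
variable (U : Y.Opens) {ι : Type u} (T : ι → Y.Opens) (w : ∀ k, (Γ(Y, T k ⊓ U))ˣ)

/-- the transition unit `w j * (w i)⁻¹` on `W ≤ T i ∩ T j ∩ U` -/
noncomputable def cU (i j : ι) (W : Y.Opens) (hi : W ≤ T i) (hj : W ≤ T j) (hU : W ≤ U) : (Γ(Y, W))ˣ :=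
  resU (le_inf hj hU) (w j) * (resU (le_inf hi hU) (w i))⁻¹

theorem cU_self (i : ι) (W : Y.Opens) (hi hi' : W ≤ T i) (hU : W ≤ U) :
    cU U T w i i W hi hi' hU = 1 := by
  rw [cU]
  exact mul_inv_cancel _

theorem cU_mul (i j k : ι) (W : Y.Opens) (hi : W ≤ T i) (hj : W ≤ T j) (hk : W ≤ T k) (hU : W ≤ U) :
    cU U T w i k W hi hk hU = cU U T w i j W hi hj hU * cU U T w j k W hj hk hU := by
  simp only [cU]
  exact (aux_mul _ _ _).symm

theorem cU_res (i j : ι) (W W' : Y.Opens) (h : W' ≤ W) (hi : W ≤ T i) (hj : W ≤ T j) (hU : W ≤ U) :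
    resU h (cU U T w i j W hi hj hU) = cU U T w i j W' (h.trans hi) (h.trans hj) (h.trans hU) := by
  simp only [cU]
  rw [map_mul, map_inv, resU_resU, resU_resU]

variable (hTU : ∀ i j, i ≠ j → T i ⊓ T j ≤ U)

open Classical in
/-- the unit cocycle -/
noncomputable def eta (i j : ι) : (Γ(Y, T i ⊓ T j))ˣ :=
  if h : i = j then 1 else cU U T w i j (T i ⊓ T j) inf_le_left inf_le_right (hTU i j h)

theorem eta_self (i : ι) : eta U T w hTU i i = 1 := by
  rw [eta, dif_pos rfl]

theorem eta_res (i j : ι) (W : Y.Opens) (hW : W ≤ T i ⊓ T j) (hU : W ≤ U) :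
    resU hW (eta U T w hTU i j) =
      cU U T w i j W (hW.trans inf_le_left) (hW.trans inf_le_right) hU := by
  by_cases h : i = j
  · subst h
    rw [eta_self, map_one, cU_self]
  · rw [eta, dif_neg h, cU_res]

theorem eta_cocycle (i j k : ι) :
    resf (inf_le_inf_right (T k) inf_le_left : T i ⊓ T j ⊓ T k ≤ T i ⊓ T k)
        (eta U T w hTU i k : Γ(Y, T i ⊓ T k)) =
      resf (inf_le_left : T i ⊓ T j ⊓ T k ≤ T i ⊓ T j) (eta U T w hTU i j : Γ(Y, T i ⊓ T j)) *
        resf (inf_le_inf_right (T k) inf_le_right : T i ⊓ T j ⊓ T k ≤ T j ⊓ T k)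
          (eta U T w hTU j k : Γ(Y, T j ⊓ T k)) := by
  by_cases hij : i = j
  · subst hij
    rw [eta_self, Units.val_one, resf_one, one_mul]
  · by_cases hjk : j = k
    · subst hjk
      rw [eta_self, Units.val_one, resf_one, mul_one]
    · have hU : T i ⊓ T j ⊓ T k ≤ U := inf_le_left.trans (hTU i j hij)
      rw [← resU_val, ← resU_val, ← resU_val, ← Units.val_mul,
        eta_res U T w hTU i k _ _ hU, eta_res U T w hTU i j _ _ hU,
        eta_res U T w hTU j k _ _ hU]
      exact congrArg Units.val (cU_mul U T w i j k _ _ _ _ hU)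

end cocycle


section main
variable {X : Scheme.{u}} (f : X ⟶ Y) (L : X.Modules) (U : Y.Opens) {ι : Type u} (T : ι → Y.Opens)
  (hT : iSup T = ⊤) (hTaff : ∀ k, IsAffineOpen (T k)) (hTU : ∀ i j, i ≠ j → T i ⊓ T j ≤ U)
  (e : Γ(L, f ⁻¹ᵁ U)) (w : ∀ k, (Γ(Y, T k ⊓ U))ˣ) (l : ∀ k, Γ(L, f ⁻¹ᵁ T k))
  (hl : ∀ k, IsGen L (f ⁻¹ᵁ T k) (l k))
  (hwl : ∀ k, res L (f.preimage_mono (inf_le_right : T k ⊓ U ≤ U)) e =
    f.app (T k ⊓ U) (w k : Γ(Y, T k ⊓ U)) • res L (f.preimage_mono (inf_le_left : T k ⊓ U ≤ T k)) (l k))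

include hwl in
/-- the generators are related by the images of the transition units -/
theorem res_l_eq (i j : ι) (W : Y.Opens) (hi : W ≤ T i) (hj : W ≤ T j) (hU : W ≤ U) :
    res L (f.preimage_mono hi) (l i) =
      f.app W (cU U T w i j W hi hj hU : Γ(Y, W)) • res L (f.preimage_mono hj) (l j) := by
  have key : ∀ (k : ι) (hk : W ≤ T k), res L (f.preimage_mono hU) e =
      f.app W (resU (le_inf hk hU) (w k) : Γ(Y, W)) • res L (f.preimage_mono hk) (l k) := by
    intro k hk
    have h1 := congrArg (res L (f.preimage_mono (le_inf hk hU))) (hwl k)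
    rw [res_res, res_smul, res_res] at h1
    rw [h1, resU_val, ← Groth.Agent.Lib.T2H5.ClosedCoverPic.app_resf]
  have hi' := key i hi
  have hj' := key j hj
  have h2 : f.app W ((resU (le_inf hi hU) (w i))⁻¹ : (Γ(Y, W))ˣ) •
      (f.app W (resU (le_inf hi hU) (w i) : Γ(Y, W)) • res L (f.preimage_mono hi) (l i)) =
      f.app W ((resU (le_inf hi hU) (w i))⁻¹ : (Γ(Y, W))ˣ) •
      (f.app W (resU (le_inf hj hU) (w j) : Γ(Y, W)) • res L (f.preimage_mono hj) (l j)) := by
    rw [← hi', ← hj']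
  rw [← mul_smul, ← mul_smul, ← map_mul, ← map_mul, ← Units.val_mul, ← Units.val_mul, inv_mul_cancel,
    Units.val_one, map_one, one_smul] at h2
  rw [h2, cU, mul_comm]

include hT hTaff hTU hl hwl in
/-- **Descent of an invertible module from lifted transition units.** -/
theorem exists_invertible_pullback_iso_of_units :
    ∃ N : Y.Modules, PicF.IsInvertible N ∧ Nonempty ((Scheme.Modules.pullback f).obj N ≅ L) := by
  let η := eta U T w hTU
  have hη := eta_cocycle U T w hTU
  let N := cocycleMod T (ηv T η)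
  have hgenN : ∀ i, Gen N (gen T η hη i) := gen_isGen T η hη
  have hN : PicF.IsInvertible N := isInvertible_cocycleMod T η hη hT
  have hT' : ⨆ i, T i = ⊤ := hT
  let P : Y.Modules := (Scheme.Modules.pushforward f).obj L
  let l' : ∀ k, Γ(P, T k) := fun k => l k
  obtain ⟨ψ, hψ⟩ := exists_hom_of_locFams T hT' N P
    (fun i => locFam N P (gen T η hη i) (hgenN i) (l' i) 1) (by
      intro i j W hi hj τ
      rw [locFam_d, locFam_d, resf_one, mul_one, resf_one, mul_one]
      by_cases hij : i = j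
      · subst hij
        rfl
      · have hU : W ≤ U := (le_inf hi hj).trans (hTU i j hij)
        have h1 := res_gen_eq T N (gen T η hη)
          (fun i j => ((η i j : (Γ(Y, T i ⊓ T j))ˣ) : Γ(Y, T i ⊓ T j))) (gen_transition T η hη) i j hi hj
        have hc : coord N (gen T η hη j) (hgenN j) hj τ =
            coord N (gen T η hη i) (hgenN i) hi τ *
              resf (le_inf hi hj) ((η i j : (Γ(Y, T i ⊓ T j))ˣ) : Γ(Y, T i ⊓ T j)) := by
          apply coord_unique
          rw [mul_smul, ← h1, coord_spec]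
        rw [hc, mul_smul]
        congr 1
        have h2 : resf (le_inf hi hj) ((η i j : (Γ(Y, T i ⊓ T j))ˣ) : Γ(Y, T i ⊓ T j)) =
            (cU U T w i j W hi hj hU : Γ(Y, W)) := by
          rw [← resU_val, eta_res U T w hTU i j W (le_inf hi hj) hU]
        rw [h2]
        exact res_l_eq f L U T e w l hwl i j W hi hj hU)
  haveI : N.IsQuasicoherent := isQuasicoherent_of_isInvertible N hN
  refine ⟨N, hN, nonempty_pullback_iso_of_gens f N L ψ T hT hTaff (gen T η hη) hgenN (fun k => ?_)⟩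
  have h1 := hψ k (T k) le_rfl (gen T η hη k)
  rw [locFam_d, resf_one, mul_one] at h1
  have h3 : coord N (gen T η hη k) (hgenN k) le_rfl (gen T η hη k) = 1 := by
    apply coord_unique
    rw [one_smul, Groth.Agent.Helper13ModGlue.res_self]
  rw [h3, one_smul, Groth.Agent.Helper13ModGlue.res_self] at h1
  have h2 : (show Γ(L, f ⁻¹ᵁ T k) from ψ.app (T k) (gen T η hη k)) = l k := h1
  rw [h2]
  exact hl k

end main

end Groth.Agent.Lib.T2H6.PicLift
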