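import Mathlib
import Groth.Agent.Lib.T2H6PicLiftA
import Groth.Agent.Lib.T2H6PicLiftB
import Groth.Agent.Lib.Helper2IsGenCover
set_option backward.isDefEq.respectTransparency.types false

/-!
# Lifting units and trivialising invertible modules near the generic points (helper6)

Namespace `Groth.Agent.Lib.T2H6.PicLift`.
-/

set_option autoImplicit false
set_option linter.style.haveILetI false
set_option linter.unusedSectionVars false
set_option linter.unusedVariables false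
universe u
open CategoryTheory CategoryTheory.Limits AlgebraicGeometry TopologicalSpace Opposite

namespace Groth.Agent.Lib.T2H6.PicLift

open Groth.Agent.Lib.Helper6 Groth.Agent.Helper13ModGlue Groth.Agent.Lib.Helper23.SecTw
  Groth.Agent.Lib.Helper23.GenLocus Groth.Agent.Lib.T2H5.GlueInv Groth.Agent.Lib.T2H4.Cocycle
  Groth.Agent.Lib.T2H4.CocycleMod Groth.Agent.Lib.T2H5.ClosedCoverPic

variable {X Y : Scheme.{u}} (f : X ⟶ Y)

/-- the stalk maps of `f` at the points over `V` are surjective if `f` is a closed immersion over `V`. -/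
theorem stalkMap_surjective_of_restrict (V : Y.Opens) [IsClosedImmersion (f ∣_ V)] (x : X) (hx : f x ∈ V) :
    Function.Surjective (f.stalkMap x) := by
  have h1 : Function.Surjective ((f ∣_ V).stalkMap ⟨x, hx⟩) := (f ∣_ V).stalkMap_surjective ⟨x, hx⟩
  exact (RingHom.surjective_respectsIso.arrow_mk_iso_iff (morphismRestrictStalkMap f V ⟨x, hx⟩)).1 h1

/-- the fibres of `f` over `V` have at most one point if `f` is a closed immersion over `V`. -/
theorem eq_of_restrict (V : Y.Opens) [IsClosedImmersion (f ∣_ V)] (x x' : X) (hx : f x ∈ V)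
    (hxx' : f x = f x') : x = x' := by
  have hx' : f x' ∈ V := hxx' ▸ hx
  have hinj : Function.Injective (f ∣_ V) := (f ∣_ V).isClosedEmbedding.injective
  have h1 : (f ∣_ V) ⟨x, hx⟩ = (f ∣_ V) ⟨x', hx'⟩ := by
    apply Subtype.ext
    rw [morphismRestrict_base_coe, morphismRestrict_base_coe]
    exact hxx'
  exact congrArg Subtype.val (hinj h1)

/-- a neighbourhood of `η` whose preimage lies in a given neighbourhood of the fibre (closed maps). -/
theorem exists_nhd_preimage_le (hcl : IsClosedMap f) (η : Y) (M : X.Opens)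
    (h : ∀ x, f x = η → x ∈ M) : ∃ N : Y.Opens, η ∈ N ∧ f ⁻¹ᵁ N ≤ M := by
  refine ⟨⟨(f '' ((M : Set X)ᶜ))ᶜ, (hcl _ M.isOpen.isClosed_compl).isOpen_compl⟩, ?_, ?_⟩
  · rintro ⟨x, hx, hxη⟩
    exact hx (h x hxη)
  · intro x hx
    by_contra hxM
    exact hx ⟨x, hxM, rfl⟩

/-- **local lifting of a unit** near a point `η` whose fibre is at most one point with surjective stalk map. -/
theorem exists_local_unit_lift (hcl : IsClosedMap f) (η : Y)
    (hfib : ∀ x x' : X, f x = η → f x' = η → x = x')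
    (hsurj : ∀ x : X, f x = η → Function.Surjective (f.stalkMap x))
    (O : Y.Opens) (hηO : η ∈ O) (u : (Γ(X, f ⁻¹ᵁ O))ˣ) :
    ∃ (N : Y.Opens) (hNO : N ≤ O) (v : (Γ(Y, N))ˣ), η ∈ N ∧
      f.app N (v : Γ(Y, N)) = resf (f.preimage_mono hNO) (u : Γ(X, f ⁻¹ᵁ O)) := by
  by_cases hex : ∃ ξ : X, f ξ = η
  · obtain ⟨ξ, rfl⟩ := hex
    have hξ : ξ ∈ f ⁻¹ᵁ O := hηO
    -- lift the germ of `u`
    obtain ⟨t, ht⟩ := hsurj ξ rfl (X.presheaf.germ (f ⁻¹ᵁ O) ξ hξ (u : Γ(X, f ⁻¹ᵁ O)))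
    obtain ⟨N₁, hN₁, s₁, hs₁⟩ := Y.presheaf.exists_germ_eq t
    -- restrict to `N₁ ⊓ O`
    let N₂ : Y.Opens := N₁ ⊓ O
    have hN₂ : f ξ ∈ N₂ := ⟨hN₁, hηO⟩
    let s₂ : Γ(Y, N₂) := resf (inf_le_left : N₂ ≤ N₁) s₁
    have hs₂ : Y.presheaf.germ N₂ (f ξ) hN₂ s₂ = t := by
      rw [← hs₁]
      exact Y.presheaf.germ_res_apply (homOfLE (inf_le_left : N₂ ≤ N₁)) _ _ s₁
    -- compare the germs at `ξ`
    have hgerm : X.presheaf.germ (f ⁻¹ᵁ N₂) ξ hN₂ (f.app N₂ s₂) =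
        X.presheaf.germ (f ⁻¹ᵁ N₂) ξ hN₂
          (resf (f.preimage_mono (inf_le_right : N₂ ≤ O)) (u : Γ(X, f ⁻¹ᵁ O))) := by
      rw [← Scheme.Hom.germ_stalkMap_apply, hs₂, ht]
      exact (X.presheaf.germ_res_apply (homOfLE (f.preimage_mono (inf_le_right : N₂ ≤ O))) _ _ _).symm
    obtain ⟨M, hξM, iU, iV, heq⟩ := X.presheaf.germ_eq ξ hN₂ hN₂ _ _ hgerm
    have hMle : M ≤ f ⁻¹ᵁ N₂ := iU.le
    -- the unit locus
    have hunit_t : IsUnit t := by
      have h1 : IsUnit ((f.stalkMap ξ) t) := by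
        rw [ht]
        exact (Units.isUnit u).map _
      exact isUnit_of_map_unit (f.stalkMap ξ).hom t h1
    have hξb : f ξ ∈ Y.basicOpen s₂ := by
      rw [Y.mem_basicOpen s₂ (f ξ) hN₂, hs₂]
      exact hunit_t
    obtain ⟨N₃, hηN₃, hN₃M⟩ := exists_nhd_preimage_le f hcl (f ξ) M
      (fun x hx => (hfib x ξ hx rfl) ▸ hξM)
    let N : Y.Opens := Y.basicOpen s₂ ⊓ N₃
    have hNN₂ : N ≤ N₂ := inf_le_left.trans (Y.basicOpen_le s₂)
    have hNb : N ≤ Y.basicOpen s₂ := inf_le_left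
    have hu : IsUnit (resf hNN₂ s₂) := by
      have h1 : IsUnit (resf (Y.basicOpen_le s₂) s₂) := Y.toRingedSpace.isUnit_res_basicOpen s₂
      have h2 : resf hNN₂ s₂ = resf hNb (resf (Y.basicOpen_le s₂) s₂) := (resf_resf _ _ _).symm
      rw [h2]
      exact h1.map _
    refine ⟨N, hNN₂.trans inf_le_right, hu.unit, ⟨hξb, hηN₃⟩, ?_⟩
    rw [IsUnit.unit_spec, app_resf]
    have hNM : f ⁻¹ᵁ N ≤ M := (f.preimage_mono (inf_le_right : N ≤ N₃)).trans hN₃M
    have h3 := congrArg (X.presheaf.map (homOfLE hNM).op) heq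
    have e1 : X.presheaf.map (homOfLE hNM).op (X.presheaf.map iU.op (f.app N₂ s₂)) =
        resf (f.preimage_mono hNN₂) (f.app N₂ s₂) := by
      rw [← ConcreteCategory.comp_apply, ← Functor.map_comp]
      rfl
    have e2 : X.presheaf.map (homOfLE hNM).op (X.presheaf.map iV.op
        (resf (f.preimage_mono (inf_le_right : N₂ ≤ O)) (u : Γ(X, f ⁻¹ᵁ O)))) =
        resf (f.preimage_mono (hNN₂.trans inf_le_right)) (u : Γ(X, f ⁻¹ᵁ O)) := by
      rw [← ConcreteCategory.comp_apply, ← Functor.map_comp, ← ConcreteCategory.comp_apply, ← Functor.map_comp]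
      rfl
    rw [e1, e2] at h3
    exact h3
  · -- empty fibre
    obtain ⟨N₃, hηN₃, hN₃M⟩ := exists_nhd_preimage_le f hcl η ⊥ (fun x hx => absurd ⟨x, hx⟩ hex)
    refine ⟨N₃ ⊓ O, inf_le_right, 1, ⟨hηN₃, hηO⟩, ?_⟩
    have hbot : f ⁻¹ᵁ (N₃ ⊓ O) = ⊥ := le_bot_iff.1 ((f.preimage_mono inf_le_left).trans hN₃M)
    haveI : Subsingleton Γ(X, f ⁻¹ᵁ (N₃ ⊓ O)) := by rw [hbot]; infer_instance
    exact Subsingleton.elim _ _


section noeth
variable [NoetherianSpace Y] (hdim : topologicalKrullDim Y ≤ 1)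

/-- the complement of the closures of the other generic points, as an open. -/
noncomputable def othersCompl (η : Y) : Y.Opens := ⟨(others η)ᶜ, (isClosed_others η).isOpen_compl⟩

include hdim in
theorem othersCompl_disjoint {η η' : Y} (hne : η ≠ η') (A B : Y.Opens) :
    (A ⊓ othersCompl η) ⊓ (B ⊓ othersCompl η') ≤ ⊥ := by
  intro z hz
  exact (disjoint_compl_others hdim hne z hz.1.2 hz.2.2).elim

theorem mem_othersCompl {η : Y} (hη : η ∈ genPts Y) : η ∈ othersCompl η := not_mem_others hη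

include hdim in
/-- **lifting a unit** over a neighbourhood of the generic points. -/
theorem exists_unit_lift (hcl : IsClosedMap f) (O : Y.Opens) (u : (Γ(X, f ⁻¹ᵁ O))ˣ)
    (hfib : ∀ η ∈ genPts Y, η ∈ O → ∀ x x' : X, f x = η → f x' = η → x = x')
    (hsurj : ∀ η ∈ genPts Y, η ∈ O → ∀ x : X, f x = η → Function.Surjective (f.stalkMap x)) :
    ∃ (N : Y.Opens) (hNO : N ≤ O) (v : (Γ(Y, N))ˣ), (∀ η ∈ genPts Y, η ∈ O → η ∈ N) ∧
      f.app N (v : Γ(Y, N)) = resf (f.preimage_mono hNO) (u : Γ(X, f ⁻¹ᵁ O)) := by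
  classical
  let κ := {η : Y // η ∈ genPts Y ∧ η ∈ O}
  have hloc : ∀ a : κ, ∃ (N : Y.Opens) (hNO : N ≤ O) (v : (Γ(Y, N))ˣ), a.1 ∈ N ∧
      f.app N (v : Γ(Y, N)) = resf (f.preimage_mono hNO) (u : Γ(X, f ⁻¹ᵁ O)) := fun a =>
    exists_local_unit_lift f hcl a.1 (hfib a.1 a.2.1 a.2.2) (hsurj a.1 a.2.1 a.2.2) O a.2.2 u
  choose Nη hNO v hmem hv using hloc
  let N' : κ → Y.Opens := fun a => Nη a ⊓ othersCompl a.1
  let N : Y.Opens := ⨆ a, N' a
  have hN'N : ∀ a, N' a ≤ N := fun a => le_iSup N' a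
  have hsub : ∀ a b : κ, a ≠ b → Subsingleton Γ(Y, N' a ⊓ N' b) := by
    intro a b hab
    have hbot : N' a ⊓ N' b = ⊥ :=
      le_bot_iff.1 (othersCompl_disjoint hdim (fun h => hab (Subtype.ext h)) _ _)
    rw [hbot]
    infer_instance
  obtain ⟨r, hr⟩ := resf_glue N' N hN'N le_rfl
    (fun a => resf (inf_le_left : N' a ≤ Nη a) (v a : Γ(Y, Nη a))) (by
      intro a b
      by_cases hab : a = b
      · subst hab
        rfl
      · haveI := hsub a b hab
        exact Subsingleton.elim _ _)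
  obtain ⟨r', hr'⟩ := resf_glue N' N hN'N le_rfl
    (fun a => resf (inf_le_left : N' a ≤ Nη a) (((v a)⁻¹ : (Γ(Y, Nη a))ˣ) : Γ(Y, Nη a))) (by
      intro a b
      by_cases hab : a = b
      · subst hab
        rfl
      · haveI := hsub a b hab
        exact Subsingleton.elim _ _)
  have hrr' : r * r' = 1 := by
    refine resf_ext N' N hN'N le_rfl _ _ (fun a => ?_)
    rw [Groth.Agent.Lib.T2H4.Cocycle.resf_mul, hr a, hr' a, ← Groth.Agent.Lib.T2H4.Cocycle.resf_mul, resf_one, ← Units.val_mul, mul_inv_cancel, Units.val_one, resf_one]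
  refine ⟨N, iSup_le (fun a => inf_le_left.trans (hNO a)), Units.mkOfMulEqOne r r' hrr', ?_, ?_⟩
  · intro η hη hηO
    exact hN'N ⟨η, hη, hηO⟩ ⟨hmem ⟨η, hη, hηO⟩, mem_othersCompl hη⟩
  · change f.app N r = _
    refine resf_ext (fun a => f ⁻¹ᵁ N' a) (f ⁻¹ᵁ N) (fun a => f.preimage_mono (hN'N a)) ?_ _ _ (fun a => ?_)
    · intro x hx
      obtain ⟨a, ha⟩ := Opens.mem_iSup.1 (show f x ∈ N from hx)
      exact Opens.mem_iSup.2 ⟨a, ha⟩
    · rw [← app_resf f (hN'N a) r, hr a, app_resf f (inf_le_left : N' a ≤ Nη a), hv a, resf_resf, resf_resf]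

include hdim in
/-- **generic trivialisation**: an invertible module on the source of a finite morphism is trivial over the preimage
of an open containing all generic points. -/
theorem exists_generic_gen [IsFinite f] (L : X.Modules) (hL : PicF.IsInvertible L) :
    ∃ (N : Y.Opens) (e : Γ(L, f ⁻¹ᵁ N)), (∀ η ∈ genPts Y, η ∈ N) ∧ IsGen L (f ⁻¹ᵁ N) e := by
  classical
  let κ := {η : Y // η ∈ genPts Y}
  have hloc : ∀ a : κ, ∃ T : Y.Opens, a.1 ∈ T ∧ T ≤ ⊤ ∧ IsAffineOpen T ∧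
      ∃ e : Γ(L, f ⁻¹ᵁ T), IsGen L (f ⁻¹ᵁ T) e := fun a =>
    Groth.Agent.Lib.T2H5.FiniteIsoPic.exists_nhd_gen f L hL a.1 ⊤ trivial
  choose B haB _ _ e he using hloc
  let B' : κ → Y.Opens := fun a => B a ⊓ othersCompl a.1
  let N : Y.Opens := ⨆ a, B' a
  have hB'N : ∀ a, B' a ≤ N := fun a => le_iSup B' a
  let W : κ → X.Opens := fun a => f ⁻¹ᵁ B' a
  have hWle : ∀ a, W a ≤ f ⁻¹ᵁ N := fun a => f.preimage_mono (hB'N a)
  have hcov : ∀ x ∈ f ⁻¹ᵁ N, ∃ a, x ∈ W a := by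
    intro x hx
    obtain ⟨a, ha⟩ := Opens.mem_iSup.1 (show f x ∈ N from hx)
    exact ⟨a, ha⟩
  have hWe : ∀ a, W a ≤ f ⁻¹ᵁ B a := fun a => f.preimage_mono inf_le_left
  obtain ⟨e₀, he₀⟩ := res_glue L W (f ⁻¹ᵁ N) hWle
    (fun x hx => by obtain ⟨a, ha⟩ := hcov x hx; exact Opens.mem_iSup.2 ⟨a, ha⟩)
    (fun a => res L (hWe a) (e a)) (by
      intro a b
      by_cases hab : a = b
      · subst hab
        rfl
      · have hbot : W a ⊓ W b ≤ ⊥ := by
          intro x hx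
          exact othersCompl_disjoint hdim (fun h => hab (Subtype.ext h)) (B a) (B b) ⟨hx.1, hx.2⟩
        rw [eq_zero_of_le_bot L hbot (res L inf_le_left _), eq_zero_of_le_bot L hbot (res L inf_le_right _)])
  refine ⟨N, e₀, fun η hη => hB'N ⟨η, hη⟩ ⟨haB ⟨η, hη⟩, mem_othersCompl hη⟩, ?_⟩
  refine Groth.Agent.Lib.Helper2.IsGenCover.isGen_of_cover L (f ⁻¹ᵁ N) e₀ W hWle hcov (fun a => ?_)
  rw [he₀ a]
  exact (he a).mono (hWe a)

end noeth

end Groth.Agent.Lib.T2H6.PicLift
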