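import Mathlib
import Groth.Agent.Lib.T2H6PicLiftC
set_option backward.isDefEq.respectTransparency.types false

/-!
# `Pic Y → Pic X` is surjective for a finite morphism `X ⟶ Y` which is a closed immersion over the generic points of a
Noetherian space `Y` of dimension at most one (helper6; Stacks 09NY and 0C0T)

Namespace `Groth.Agent.Lib.T2H6.PicLift`.
-/

set_option autoImplicit false
set_option linter.style.haveILetI false
set_option linter.unusedSectionVars false
set_option linter.unusedVariables false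
universe u
open CategoryTheory CategoryTheory.Limits AlgebraicGeometry TopologicalSpace Opposite

namespace Groth.Agent.Lib.T2H6.PicLift

open Groth.Agent.Lib.Helper6 Groth.Agent.Helper13ModGlue Groth.Agent.Lib.Helper23.SecTw
  Groth.Agent.Lib.Helper23.GenLocus Groth.Agent.Lib.T2H5.GlueInv Groth.Agent.Lib.T2H4.Cocycle
  Groth.Agent.Lib.T2H4.CocycleMod Groth.Agent.Lib.T2H5.ClosedCoverPic

variable {X Y : Scheme.{u}} (f : X ⟶ Y)

/-- two generators over the same open differ by a unit. -/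
theorem exists_unit_of_isGen (L : X.Modules) (W : X.Opens) (a b : Γ(L, W)) (ha : IsGen L W a)
    (hb : IsGen L W b) : ∃ u : (Γ(X, W))ˣ, a = (u : Γ(X, W)) • b := by
  obtain ⟨r, hr⟩ := (hb W le_rfl).2 a
  obtain ⟨r', hr'⟩ := (ha W le_rfl).2 b
  simp only [Groth.Agent.Helper13ModGlue.res_self] at hr hr'
  have h1 : (r * r') • a = (1 : Γ(X, W)) • a := by
    rw [mul_smul, hr', hr, one_smul]
  have h2 : r * r' = 1 := by
    apply (ha W le_rfl).1
    simp only [Groth.Agent.Helper13ModGlue.res_self]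
    exact h1
  exact ⟨Units.mkOfMulEqOne r r' h2, hr.symm⟩

/-- **`Pic Y → Pic X` is surjective.** -/
theorem exists_invertible_pullback_iso [IsFinite f] [NoetherianSpace Y] (hdim : topologicalKrullDim Y ≤ 1)
    (V : Y.Opens) (hV : ∀ η ∈ genPts Y, η ∈ V) [IsClosedImmersion (f ∣_ V)]
    (L : X.Modules) (hL : PicF.IsInvertible L) :
    ∃ N : Y.Modules, PicF.IsInvertible N ∧ Nonempty ((Scheme.Modules.pullback f).obj N ≅ L) := by
  classical
  have hcl : IsClosedMap f := f.isClosedMap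
  have hfib : ∀ η ∈ genPts Y, ∀ x x' : X, f x = η → f x' = η → x = x' := by
    intro η hη x x' hx hx'
    exact eq_of_restrict f V x x' (hx ▸ hV η hη) (hx.trans hx'.symm)
  have hsurj : ∀ η ∈ genPts Y, ∀ x : X, f x = η → Function.Surjective (f.stalkMap x) := by
    intro η hη x hx
    exact stalkMap_surjective_of_restrict f V x (hx ▸ hV η hη)
  obtain ⟨U, e, hGU, he⟩ := exists_generic_gen f hdim L hL
  obtain ⟨hFfin, hFcl⟩ := finite_compl_and_isClosed hdim U.isOpen (fun η hη => hGU η hη)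
  have hdata : ∀ y : Y, ∃ T : Y.Opens, y ∈ T ∧ IsAffineOpen T ∧ (∀ z ∈ T, z ∉ U → z = y) ∧
      ∃ (w : (Γ(Y, T ⊓ U))ˣ) (l : Γ(L, f ⁻¹ᵁ T)), IsGen L (f ⁻¹ᵁ T) l ∧
        res L (f.preimage_mono (inf_le_right : T ⊓ U ≤ U)) e =
          f.app (T ⊓ U) (w : Γ(Y, T ⊓ U)) • res L (f.preimage_mono (inf_le_left : T ⊓ U ≤ T)) l := by
    intro y
    by_cases hy : y ∈ U
    · obtain ⟨_, ⟨T, hT, rfl⟩, hyT, hTU⟩ := Y.isBasis_affineOpens.exists_subset_of_mem_open hy U.2
      have hTU' : T ≤ U := hTU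
      refine ⟨T, hyT, hT, fun z hz hzU => absurd (hTU hz) hzU, 1, res L (f.preimage_mono hTU') e,
        he.mono (f.preimage_mono hTU'), ?_⟩
      rw [Units.val_one, map_one, one_smul, res_res]
    · -- an open isolating `y` in the complement of `U`
      let Oy : Y.Opens := ⟨(((U : Set Y)ᶜ) \ {y})ᶜ, (hFcl _ Set.sdiff_subset).isOpen_compl⟩
      have hyO : y ∈ Oy := fun h => h.2 rfl
      obtain ⟨T₀, hyT₀, hT₀O, hT₀aff, l₀, hl₀⟩ :=
        Groth.Agent.Lib.T2H5.FiniteIsoPic.exists_nhd_gen f L hL y Oy hyO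
      obtain ⟨u₀, hu₀⟩ := exists_unit_of_isGen L (f ⁻¹ᵁ (T₀ ⊓ U))
        (res L (f.preimage_mono (inf_le_right : T₀ ⊓ U ≤ U)) e)
        (res L (f.preimage_mono (inf_le_left : T₀ ⊓ U ≤ T₀)) l₀)
        (he.mono _) (hl₀.mono _)
      obtain ⟨N, hNO, v, hGN, hv⟩ := exists_unit_lift f hdim hcl (T₀ ⊓ U) u₀
        (fun η hη _ => hfib η hη) (fun η hη _ => hsurj η hη)
      obtain ⟨T', hT'open, hyT', hT'T₀, hT'N⟩ := exists_open_shrink hdim T₀.isOpen U.isOpen N.isOpen y hyT₀ hy
        (fun η hη => hGN η hη.1 hη.2)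
      obtain ⟨_, ⟨T, hT, rfl⟩, hyT, hTT'⟩ := Y.isBasis_affineOpens.exists_subset_of_mem_open hyT' hT'open
      have hTT₀ : T ≤ T₀ := fun z hz => hT'T₀ (hTT' hz)
      have hTN : T ⊓ U ≤ N := fun z hz => hT'N ⟨hTT' hz.1, hz.2⟩
      refine ⟨T, hyT, hT, ?_, resU hTN v, res L (f.preimage_mono hTT₀) l₀, hl₀.mono _, ?_⟩
      · intro z hz hzU
        by_contra hne
        exact hT₀O (hTT₀ hz) ⟨hzU, hne⟩
      · have hle : T ⊓ U ≤ T₀ ⊓ U := hTN.trans hNO
        have h1 := congrArg (res L (f.preimage_mono hle)) hu₀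
        rw [res_res, res_smul, res_res] at h1
        rw [res_res, h1, resU_val, app_resf f hTN, hv, resf_resf]
  choose T hyT hTaff hiso w l hl hwl using hdata
  have hTU : ∀ i j, i ≠ j → T i ⊓ T j ≤ U := by
    intro i j hij z hz
    by_contra hzU
    exact hij ((hiso i z hz.1 hzU).symm.trans (hiso j z hz.2 hzU))
  have hT : iSup T = ⊤ := by
    rw [eq_top_iff]
    intro y _
    exact Opens.mem_iSup.2 ⟨y, hyT y⟩
  exact exists_invertible_pullback_iso_of_units f L U T hT hTaff hTU e w l hl hwl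


/-- a dense open subset contains all generic points. -/
theorem mem_of_dense_of_genPts [NoetherianSpace Y] (hdim : topologicalKrullDim Y ≤ 1) (V : Y.Opens)
    (hV : Dense (V : Set Y)) (η : Y) (hη : η ∈ genPts Y) : η ∈ V := by
  have hO : IsOpen ((others η)ᶜ) := (isClosed_others η).isOpen_compl
  obtain ⟨z, hzO, hzV⟩ := hV.inter_open_nonempty _ hO ⟨η, not_mem_others hη⟩
  obtain ⟨ξ, hξ, hξz⟩ := exists_genPt_specializes hdim z
  have hξη : ξ = η := by
    by_contra hne
    exact hzO (Set.mem_iUnion₂.2 ⟨ξ, ⟨hξ, hne⟩, specializes_iff_mem_closure.1 hξz⟩)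
  exact (hξη ▸ hξz).mem_open V.isOpen hzV

/-- **Stacks 09NY**: `Pic X → Pic Z` is surjective for a closed immersion into a Noetherian space of dimension `≤ 1`. -/
theorem exists_invertible_pullback_iso_of_isClosedImmersion {Z : Scheme.{u}} (i : Z ⟶ Y) [IsClosedImmersion i]
    [NoetherianSpace Y] (hdim : topologicalKrullDim Y ≤ 1) (L : Z.Modules) (hL : PicF.IsInvertible L) :
    ∃ N : Y.Modules, PicF.IsInvertible N ∧ Nonempty ((Scheme.Modules.pullback i).obj N ≅ L) := by
  haveI : IsClosedImmersion (i ∣_ (⊤ : Y.Opens)) := IsZariskiLocalAtTarget.restrict ‹IsClosedImmersion i› ⊤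
  exact exists_invertible_pullback_iso i hdim ⊤ (fun _ _ => trivial) L hL

/-- **Stacks 0C0T**: `Pic Y → Pic X` is surjective for a finite morphism which is a closed immersion over a dense open of
a Noetherian space of dimension `≤ 1`. -/
theorem exists_invertible_pullback_iso_of_dense [IsFinite f] [NoetherianSpace Y] (hdim : topologicalKrullDim Y ≤ 1)
    (V : Y.Opens) (hV : Dense (V : Set Y)) (hfV : IsClosedImmersion (f ∣_ V))
    (L : X.Modules) (hL : PicF.IsInvertible L) :
    ∃ N : Y.Modules, PicF.IsInvertible N ∧ Nonempty ((Scheme.Modules.pullback f).obj N ≅ L) :=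
  exists_invertible_pullback_iso f hdim V (mem_of_dense_of_genPts hdim V hV) L hL

end Groth.Agent.Lib.T2H6.PicLift
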