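import Mathlib
import Groth.Prelude.Def_CohB1
import Groth.Agent.Lib.Helper27PnChart
import Groth.Agent.Lib.T2H6P1Lift

/-!
# Projective space over a ring is smooth (T2H6)

`smooth_projSpace_toSpec n R : Smooth (CohB1.ProjSpace.toSpec n R)`, from the standard charts
`D₊(T_i) = Spec R[T_j, j ≠ i]` (`Helper27PnChart.chart_bijective`).
-/

set_option autoImplicit false
set_option linter.style.haveILetI false
universe u

open CategoryTheory CategoryTheory.Limits AlgebraicGeometry HomogeneousLocalization MvPolynomial

namespace Groth.Agent.Lib.T2H6.PnSmooth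

variable (n : ℕ) (R : Type u) [CommRing R]

/-- the structure map of a standard chart ring. -/
noncomputable def chartStr (i : Fin (n + 1)) :
    R →+* Away (CohB1.polyGrading n R) (X i : MvPolynomial (Fin (n + 1)) R) :=
  (HomogeneousLocalization.fromZeroRingHom (CohB1.polyGrading n R)
      (Submonoid.powers (MvPolynomial.X i))).comp
    (algebraMap R (CohB1.polyGrading n R 0))

theorem chart_comp_C (i : Fin (n + 1)) :
    (Groth.Agent.Lib.Helper27PnChart.chart n R i).comp
      (MvPolynomial.C : R →+* MvPolynomial {j : Fin (n + 1) // j ≠ i} R) = chartStr n R i := by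
  ext r
  simp [Groth.Agent.Lib.Helper27PnChart.chart, chartStr]

theorem smooth_chartStr (i : Fin (n + 1)) : (chartStr n R i).Smooth := by
  rw [← chart_comp_C]
  refine RingHom.Smooth.comp ?_
    (RingHom.Smooth.of_bijective (Groth.Agent.Lib.Helper27PnChart.chart_bijective n R i))
  have : (algebraMap R (MvPolynomial {j : Fin (n + 1) // j ≠ i} R)).Smooth := by
    rw [RingHom.smooth_algebraMap]
    exact ⟨inferInstance, inferInstance⟩
  exact this

/-- **Projective space over a ring is smooth.** -/
theorem smooth_projSpace_toSpec : Smooth (CohB1.ProjSpace.toSpec n R) := by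
  let 𝒰 := Proj.affineOpenCoverOfIrrelevantLESpan (CohB1.polyGrading n R)
    (fun i : Fin (n + 1) => (X i : MvPolynomial (Fin (n + 1)) R)) (m := fun _ => 1)
    (fun i => MvPolynomial.isHomogeneous_X R i) (fun _ => Nat.one_pos)
    (Groth.Agent.Lib.T2H6.P1Lift.irrelevant_le n R)
  change Smooth (X := Proj (CohB1.polyGrading n R)) (Proj.toSpecZero (CohB1.polyGrading n R) ≫
      Spec.map (CommRingCat.ofHom (algebraMap R (CohB1.polyGrading n R 0))))
  rw [IsZariskiLocalAtSource.iff_of_openCover (P := @Smooth) 𝒰.openCover]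
  intro i
  have h : 𝒰.openCover.f i ≫ (Proj.toSpecZero (CohB1.polyGrading n R) ≫
      Spec.map (CommRingCat.ofHom (algebraMap R (CohB1.polyGrading n R 0)))) =
      Spec.map (CommRingCat.ofHom (chartStr n R i)) := by
    change Proj.awayι _ _ _ _ ≫ _ = _
    rw [Proj.awayι_toSpecZero_assoc, ← Spec.map_comp]
    rfl
  rw [h]
  exact (HasRingHomProperty.Spec_iff (P := @Smooth)).2 (smooth_chartStr n R i)

end Groth.Agent.Lib.T2H6.PnSmooth
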