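import Mathlib
import Groth.Prelude.Def_KLin
import Groth.Agent.Lib.T2H6PosI
import Groth.Agent.Lib.T2H6EffCartierInt
set_option backward.isDefEq.respectTransparency.types false

/-!
# An invertible module of degree `≤ 0` with a section is trivial (helper6)

Namespace `Groth.Agent.Lib.T2H6.PosJ`.

* `inum_cons_eq_snoc` : the intersection number does not depend on the position of the first/last entry.
* `dim_support_cokernel_eq'` : the zero locus of a nonzero section with a zero, on an integral proper scheme of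
  dimension `d + 1`, has dimension `d` (twisted by any coherent module with full support whose associated points are
  generic).
* `isIso_of_degree_nonpos` : S5632.
-/

set_option autoImplicit false
set_option linter.style.haveILetI false
set_option linter.unusedSectionVars false
universe u

open CategoryTheory TopCat TopologicalSpace Opposite AlgebraicGeometry Limits

namespace Groth.Agent.Lib.T2H6.PosJ

open Groth.Agent.Lib.T2H5.Twist Groth.Agent.Lib.T2H6.TensorPows Groth.Agent.Lib.T2H6.IntNum
  Groth.Agent.Lib.T2H6.AddFn Groth.Agent.Lib.T2H6.CompSumGen Groth.Agent.Lib.Helper4.VarDim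
  Groth.Agent.Lib.T2H6.PosA Groth.Agent.Lib.T2H6.PosB Groth.Agent.Lib.T2H6.PosC Groth.Agent.Lib.T2H6.PosD
  Groth.Agent.Lib.T2H6.PosH Groth.Agent.Lib.T2H6.PosI
  Groth.Agent.Lib.T2H5.GenIsoA Groth.Agent.Lib.Helper4.NormDelta Groth.Agent.Lib.Helper23.UnitStalk

variable {X : Scheme.{u}} (k : Type u) [Field k] [X.Over (Spec (CommRingCat.of k))]
  [IsProper (X ↘ Spec (CommRingCat.of k))]

/-- moving the first entry of a family of invertible modules to the last place does not change the intersection
number. -/
theorem inum_cons_eq_snoc (e : ℕ) (A : X.Modules) (M' : Fin e → X.Modules) (hA : PicF.IsInvertible A)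
    (hM' : ∀ i, PicF.IsInvertible (M' i)) (F : X.Modules) (hF : Coh.IsCoh F) :
    inum k (e + 1) (Fin.cons A M' : Fin (e + 1) → X.Modules) F =
      inum k (e + 1) (Fin.snoc (α := fun _ => X.Modules) M' A) F := by
  have hinv : ∀ j, PicF.IsInvertible ((Fin.cons A M' : Fin (e + 1) → X.Modules) j) := by
    intro j
    refine Fin.cases ?_ (fun j' => ?_) j
    · simpa using hA
    · simpa using hM' j'
  have h1 := Groth.Agent.Lib.T2H6.EffCartierInt.inum_succ k e (Fin.cons A M') hinv F hF
  have h2 : (fun j : Fin e => (Fin.cons A M' : Fin (e + 1) → X.Modules) j.succ) = M' :=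
    funext fun j => by simp
  have h3 : (Fin.cons A M' : Fin (e + 1) → X.Modules) 0 = A := by simp
  rw [h2, h3] at h1
  rw [h1, inum_snoc' k e]

section integral

variable [IsIntegral X]

include k in
/-- on an integral proper scheme of dimension `d + 1`, the cokernel of `σ ⊗ G`, for a nonzero section `σ` of an
invertible module vanishing somewhere and `G` coherent of full support with associated points in `X_σ`, has support
of dimension exactly `d`. -/
theorem dim_support_cokernel_eq' (d : ℕ) (hdim : topologicalKrullDim X = ((d + 1 : ℕ) : WithBot ℕ∞))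
    (P : X.Modules) (hP : PicF.IsInvertible P) (σ : Coh.structureModule X ⟶ P) (hσ : σ ≠ 0)
    (x : X) (hx : x ∉ CohB1.genLocus P σ) (G : X.Modules) (hG : Coh.IsCoh G)
    (hsupp : CohB1.support G = Set.univ)
    (hassG : ∀ y : X, Curv2.IsAssPoint G y → y ∈ CohB1.genLocus P σ) :
    topologicalKrullDim (CohB1.support (cokernel ((tr G).map σ))) = (d : WithBot ℕ∞) := by
  haveI : IsNoetherian X := Groth.Agent.Lib.T2H6.CurveSatur.isNoetherian_of_proper k
  haveI : G.IsQuasicoherent := hG.1
  haveI : SheafOfModules.IsFiniteType (R := X.ringCatSheaf) G := hG.2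
  apply le_antisymm (dim_support_cokernel_le k d hdim.le P hP σ hσ _ hG)
  have hC := isCoh_cokernel_tr P hP σ _ hG
  have hcl : IsClosed (CohB1.support (cokernel ((tr G).map σ))) :=
    Groth.Agent.Lib.T2H5.Devissage.isClosed_support _ hC
  rw [topologicalKrullDim_eq_iSup_trdegNat_of_isLocallyClosed k X _ hcl.isLocallyClosed]
  have hη := genericPoint_mem_genLocus P hP σ hσ
  have hsp : genericPoint X ⤳ x := genericPoint_specializes x
  obtain ⟨V, hV, hxV, f, g, hg, hfg, hloc⟩ := exists_local_coef P hP σ x
  have hηV : genericPoint X ∈ V := hsp.mem_open V.2 hxV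
  have hfx : x ∉ X.basicOpen f := by
    rw [← hloc]
    exact fun h => hx h.1
  have hfη : genericPoint X ∈ X.basicOpen f := by
    rw [← hloc]
    exact ⟨hη, hηV⟩
  obtain ⟨y', hy'V, hηy', -, hy'f, htr⟩ :=
    exists_specialization_notMem_basicOpen k X hV (genericPoint X) x hηV hxV hsp f hfx hfη
  have hy'σ : y' ∉ CohB1.genLocus P σ := by
    intro h
    apply hy'f
    rw [← hloc]
    exact ⟨h, hy'V⟩
  have hmono : Mono ((tr G).map σ) := mono_tr_map_section P hP σ _ hassG
  have hy'C : y' ∈ CohB1.support (cokernel ((tr G).map σ)) :=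
    mem_support_cokernel P hP σ _ hmono y' hy'σ (by rw [hsupp]; trivial)
  have hy'd : trdegNat k X y' = d := by
    rw [trdegNat_genericPoint k (d + 1) hdim] at htr
    omega
  refine le_trans ?_ (le_iSup (fun t : CohB1.support (cokernel ((tr G).map σ)) =>
    ((trdegNat k X t : ℕ) : WithBot ℕ∞)) ⟨y', hy'C⟩)
  rw [hy'd]

include k in
/-- **S5632 (core).** On an integral proper scheme of dimension `s + 1` with an ample `H`, an invertible module `L` with
`(L · H^s) ≤ 0` and a nonzero section is trivial. -/
theorem isIso_of_degree_nonpos (s : ℕ) (hdim : topologicalKrullDim X = ((s + 1 : ℕ) : WithBot ℕ∞))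
    (L L' : X.Modules) (hL : PicF.IsInvertible L) (eLL' : CohB1.tensorMod L L' ≅ Coh.structureModule X)
    (H H' : X.Modules) (hH : CohB1.IsAmple H) (eHH' : CohB1.tensorMod H H' ≅ Coh.structureModule X)
    (hdeg : (-1 : ℤ) ^ (s + 1) * inum k (s + 1) (Fin.cons L' (fun _ : Fin s => H') : Fin (s + 1) → X.Modules)
      (Coh.structureModule X) ≤ 0)
    (σ : Coh.structureModule X ⟶ L) (hσ : σ ≠ 0) : IsIso σ := by
  haveI : IsNoetherian X := Groth.Agent.Lib.T2H6.CurveSatur.isNoetherian_of_proper k
  apply Groth.Agent.Lib.T2H6.DegNonpos.isIso_of_genLocus_eq_top L σ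
  by_contra hne
  obtain ⟨x, hx⟩ : ∃ x : X, x ∉ CohB1.genLocus L σ := by
    by_contra hcon
    push Not at hcon
    exact hne (eq_top_iff.2 fun x _ => hcon x)
  have hL' : PicF.IsInvertible L' :=
    Groth.Agent.Lib.Helper2.TensorInv.isInvertible_of_tensor_iso L' L (braidIso _ _ ≪≫ eLL')
  have hH' : PicF.IsInvertible H' :=
    Groth.Agent.Lib.Helper2.TensorInv.isInvertible_of_tensor_iso H' H (braidIso _ _ ≪≫ eHH')
  have cO : Coh.IsCoh (Coh.structureModule X) := Groth.Agent.Lib.T2H5.GenIsoF.isCoh_structureModule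
  have cL' := Groth.Agent.Lib.T2H6.CurveDeg.isCoh_of_isInvertible _ hL'
  have cOL' : Coh.IsCoh (CohB1.tensorMod (Coh.structureModule X) L') :=
    Groth.Agent.Lib.T2H6.TensorDeg.isCoh_tensor _ _ cO cL'
  have hass : ∀ y : X, Curv2.IsAssPoint (Coh.structureModule X) y → y ∈ CohB1.genLocus L σ :=
    mem_genLocus_of_isAssPoint _ hL σ hσ
  have hC := isCoh_cokernel_tr L hL σ _ cOL'
  have hdC := dim_support_cokernel_eq' k s hdim L hL σ hσ x hx _ cOL'
    (by rw [support_tensorMod_invertible _ _ hL', Groth.Agent.Lib.T2H6.PosG.support_structureModule])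
    (fun y hy => hass y ((Groth.Agent.Lib.T2H6.NegTwistD.isAssPoint_tensorMod_iff _ L' hL' y).1 hy))
  have hp := pos k s (fun _ : Fin s => H) (fun _ : Fin s => H') (fun _ => hH) (fun _ => ⟨eHH'⟩) _ hC hdC
  have h1 := inum_snoc_eq_neg_inum_cokernel k s (fun _ : Fin s => H') (fun _ => hH')
    L L' hL hL' eLL' σ (Coh.structureModule X) cO hass
  rw [inum_cons_eq_snoc k s L' _ hL' (fun _ => hH') _ cO, h1, pow_succ] at hdeg
  linarith

end integral

end Groth.Agent.Lib.T2H6.PosJ
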