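import Mathlib
import Groth.Agent.Lib.Helper22GrAvoid

set_option autoImplicit false
universe u
open CategoryTheory AlgebraicGeometry TopologicalSpace

namespace Groth.Agent.Lib.T2H6.ProjFinAffine

theorem exists_affine {R A : Type u} [CommRing R] [CommRing A] [Algebra R A]
    (𝒜 : ℕ → Submodule R A) [GradedAlgebra 𝒜] {X : Scheme.{u}} (ι : X ⟶ Proj 𝒜) [IsImmersion ι]
    (E : Set X) (hE : E.Finite) :
    ∃ U : X.Opens, IsAffineOpen U ∧ E ⊆ U := by
  classical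
  let V : (Proj 𝒜).Opens := ι.coborderRange
  let C : Set (ProjectiveSpectrum 𝒜) := (V : Set (Proj 𝒜))ᶜ
  have hC : IsClosed C := V.2.isClosed_compl
  let J : HomogeneousIdeal 𝒜 := ProjectiveSpectrum.vanishingIdeal C
  have hJ : ProjectiveSpectrum.zeroLocus 𝒜 (J : Set A) = C := by
    rw [ProjectiveSpectrum.zeroLocus_vanishingIdeal_eq_closure]
    exact hC.closure_eq
  let I : Ideal A := J.toIdeal ⊓ (HomogeneousIdeal.irrelevant 𝒜).toIdeal
  have hIh : I.IsHomogeneous 𝒜 := J.isHomogeneous.inf (HomogeneousIdeal.irrelevant 𝒜).isHomogeneous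
  have hIirr : I ≤ (HomogeneousIdeal.irrelevant 𝒜).toIdeal := inf_le_right
  have hιV : ∀ x : X, ι x ∈ V := by
    intro x
    have h := ι.liftCoborder_ι
    have h2 : ι x = ι.coborderRange.ι (ι.liftCoborder x) := by
      conv_lhs => rw [← h]
      rfl
    rw [h2]
    exact (ι.liftCoborder x).2
  let P : Finset (Ideal A) := hE.toFinset.image (fun x => ((ι x : Proj 𝒜).asHomogeneousIdeal.toIdeal))
  have hP : ∀ p ∈ P, p.IsPrime ∧ ¬ I ≤ p := by
    intro p hp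
    obtain ⟨x, -, rfl⟩ := Finset.mem_image.1 hp
    refine ⟨(ι x : Proj 𝒜).isPrime, ?_⟩
    intro hle
    have h1 : ¬ J.toIdeal ≤ (ι x : Proj 𝒜).asHomogeneousIdeal.toIdeal := by
      intro h
      have : (ι x : Proj 𝒜) ∈ ProjectiveSpectrum.zeroLocus 𝒜 (J : Set A) := by
        change (J : Set A) ⊆ (ι x : Proj 𝒜).asHomogeneousIdeal
        exact h
      rw [hJ] at this
      exact this (hιV x)
    have h2 : ¬ (HomogeneousIdeal.irrelevant 𝒜).toIdeal ≤ (ι x : Proj 𝒜).asHomogeneousIdeal.toIdeal :=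
      (ι x : Proj 𝒜).not_irrelevant_le
    have h3 : J.toIdeal * (HomogeneousIdeal.irrelevant 𝒜).toIdeal ≤
        (ι x : Proj 𝒜).asHomogeneousIdeal.toIdeal := le_trans Ideal.mul_le_inf hle
    rcases ((ι x : Proj 𝒜).isPrime.mul_le).1 h3 with h | h
    · exact h1 h
    · exact h2 h
  obtain ⟨f, d, hd, hfd, hfI, hfP⟩ :=
    Groth.Agent.Lib.Helper22.GrAvoid.exists_homogeneous_avoid 𝒜 I hIh hIirr P hP
  have hW : IsAffineOpen (Proj.basicOpen 𝒜 f) := Proj.isAffineOpen_basicOpen 𝒜 f hfd hd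
  have hWV : Proj.basicOpen 𝒜 f ≤ V := by
    intro q hq
    by_contra hqV
    have hqC : q ∈ ProjectiveSpectrum.zeroLocus 𝒜 (J : Set A) := by rw [hJ]; exact hqV
    change (J : Set A) ⊆ q.asHomogeneousIdeal at hqC
    exact ((Proj.mem_basicOpen 𝒜 f q).1 hq) (hqC hfI.1)
  refine ⟨ι ⁻¹ᵁ Proj.basicOpen 𝒜 f, ?_, ?_⟩
  · have h1 : IsAffineOpen (V.ι ⁻¹ᵁ Proj.basicOpen 𝒜 f) := by
      rw [← V.ι.isAffineOpen_iff_of_isOpenImmersion, V.ι.image_preimage_eq_opensRange_inf,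
        Scheme.Opens.opensRange_ι, inf_eq_right.2 hWV]
      exact hW
    have h2 : ι ⁻¹ᵁ Proj.basicOpen 𝒜 f = ι.liftCoborder ⁻¹ᵁ (V.ι ⁻¹ᵁ Proj.basicOpen 𝒜 f) := by
      conv_lhs => rw [← ι.liftCoborder_ι]
      rfl
    rw [h2]
    exact h1.preimage ι.liftCoborder
  · intro x hx
    show ι x ∈ Proj.basicOpen 𝒜 f
    rw [Proj.mem_basicOpen]
    exact hfP _ (Finset.mem_image.2 ⟨x, hE.mem_toFinset.2 hx, rfl⟩)

end Groth.Agent.Lib.T2H6.ProjFinAffine
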