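import Groth.Agent.Lib.T2H7OverGlue
import Groth.Agent.Lib.Helper4EtNormalSch

/-!
Locally split tori over an irreducible base are split.
-/

set_option autoImplicit false
set_option linter.unusedSectionVars false
set_option linter.unusedVariables false
set_option linter.style.haveILetI false
universe u
open CategoryTheory CategoryTheory.Limits MonoidalCategory CartesianMonoidalCategory MonObj GrpObj
  AlgebraicGeometry

namespace Groth.Agent.Lib.T2H7.IrrSplit

section Top

theorem irreducibleSpace_of_locally {X : Type*} [TopologicalSpace X] [ConnectedSpace X]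
    (h : ∀ x : X, ∃ N : Set X, IsOpen N ∧ x ∈ N ∧ IsIrreducible N) : IrreducibleSpace X := by
  obtain ⟨x₀⟩ := (inferInstance : Nonempty X)
  obtain ⟨N₀, hN₀o, hx₀, hN₀⟩ := h x₀
  have hZirr : IsIrreducible (closure N₀) := hN₀.closure
  have hZopen : IsOpen (closure N₀) := by
    rw [isOpen_iff_forall_mem_open]
    intro y hy
    obtain ⟨Ny, hNyo, hyNy, hNy⟩ := h y
    refine ⟨Ny, ?_, hNyo, hyNy⟩
    have hne : (Ny ∩ N₀).Nonempty := by
      obtain ⟨z, hz1, hz2⟩ := mem_closure_iff.1 hy Ny hNyo hyNy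
      exact ⟨z, hz1, hz2⟩
    exact (subset_closure_inter_of_isPreirreducible_of_isOpen hNy.2 hN₀o hne).trans
      (closure_mono Set.inter_subset_right)
  have hZ : closure N₀ = Set.univ :=
    IsClopen.eq_univ ⟨isClosed_closure, hZopen⟩ ⟨x₀, subset_closure hx₀⟩
  haveI : PreirreducibleSpace X := ⟨by rw [← hZ]; exact hZirr.2⟩
  exact { toNonempty := ⟨x₀⟩ }

end Top

section Sch

open Groth.Agent.Lib.Helper4.EtNormalSch

variable {S : Scheme.{u}}

theorem exists_irreducible_nhd [IsLocallyNoetherian S]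
    (hdom : ∀ x : S, IsDomain (S.presheaf.stalk x)) (x : S) :
    ∃ N : Set S, IsOpen N ∧ x ∈ N ∧ IsIrreducible N := by
  obtain ⟨_, ⟨W, hW, rfl⟩, hxW, -⟩ := S.isBasis_affineOpens.exists_subset_of_mem_open
    (Set.mem_univ x) isOpen_univ
  haveI : IsNoetherianRing Γ(S, W) := IsLocallyNoetherian.component_noetherian ⟨W, hW⟩
  haveI : TopologicalSpace.NoetherianSpace ↥W := noetherianSpace_of_isAffineOpen W hW
  haveI := hdom x
  have hemb : Topology.IsOpenEmbedding (Subtype.val : ↥W → S) := W.2.isOpenEmbedding_subtypeVal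
  obtain ⟨y, hy⟩ : ∃ y : ↥W, y = ⟨x, hxW⟩ := ⟨_, rfl⟩
  have hZ₀ := irreducibleComponent_mem_irreducibleComponents x
  obtain ⟨C₀, hC₀def⟩ : ∃ C₀ : Set ↥W, C₀ = Subtype.val ⁻¹' irreducibleComponent x := ⟨_, rfl⟩
  have hC₀ : C₀ ∈ irreducibleComponents ↥W := by
    rw [hC₀def]
    exact preimage_mem_irreducibleComponents hZ₀ hemb
      ⟨x, mem_irreducibleComponent, ⟨⟨x, hxW⟩, rfl⟩⟩
  have huniq : ∀ C ∈ irreducibleComponents ↥W, y ∈ C → C = C₀ := by
    intro C hC hyC
    have himg : IsIrreducible (Subtype.val '' C) :=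
      hC.1.image _ continuous_subtype_val.continuousOn
    obtain ⟨Z, hZ, hCZ⟩ := exists_mem_irreducibleComponents_subset_of_isIrreducible _ himg
    have hxZ : x ∈ Z := hCZ ⟨y, hyC, by rw [hy]⟩
    have hZeq : Z = irreducibleComponent x :=
      irreducibleComponents_eq_of_mem x hZ hZ₀ hxZ mem_irreducibleComponent
    have hsub : C ⊆ C₀ := by
      intro z hz
      rw [hC₀def]
      show (z : S) ∈ irreducibleComponent x
      rw [← hZeq]
      exact hCZ ⟨z, hz, rfl⟩
    exact Set.Subset.antisymm hsub (hC.2 hC₀.1 hsub)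
  have hfin := TopologicalSpace.NoetherianSpace.finite_irreducibleComponents (α := ↥W)
  obtain ⟨NY, hNY⟩ : ∃ NY : Set ↥W, NY = (⋃₀ (irreducibleComponents ↥W \ {C₀}))ᶜ := ⟨_, rfl⟩
  have hNYopen : IsOpen NY := by
    rw [hNY, isOpen_compl_iff, Set.sUnion_eq_biUnion]
    exact (hfin.subset Set.sdiff_subset).isClosed_biUnion
      fun Z hZ => isClosed_of_mem_irreducibleComponents Z hZ.1
  have hyNY : y ∈ NY := by
    rw [hNY]
    rintro ⟨C, ⟨hC, hne⟩, hyC⟩
    exact hne (huniq C hC hyC)
  have hNYsub : NY ⊆ C₀ := by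
    intro z hz
    by_contra hzC
    rw [hNY] at hz
    apply hz
    refine ⟨irreducibleComponent z, ⟨irreducibleComponent_mem_irreducibleComponents z, ?_⟩,
      mem_irreducibleComponent⟩
    intro heq
    apply hzC
    rw [← (heq : irreducibleComponent z = C₀)]
    exact mem_irreducibleComponent
  have hNYirr : IsIrreducible NY := ⟨⟨y, hyNY⟩, hC₀.1.2.open_subset hNYopen hNYsub⟩
  refine ⟨Subtype.val '' NY, hemb.isOpenMap _ hNYopen, ⟨y, hyNY, by rw [hy]⟩,
    hNYirr.image _ continuous_subtype_val.continuousOn⟩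

theorem irreducibleSpace_of_connected_locallyNoetherian [ConnectedSpace ↥S]
    [IsLocallyNoetherian S] (hdom : ∀ x : S, IsDomain (S.presheaf.stalk x)) :
    IrreducibleSpace ↥S :=
  irreducibleSpace_of_locally (exists_irreducible_nhd hdom)

end Sch

end Groth.Agent.Lib.T2H7.IrrSplit
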