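import Mathlib
import Groth.Agent.Lib.T2H6PropLim
import Groth.Agent.Lib.T2H6PropDesc
import Groth.Agent.Lib.Helper22LimBC
import Groth.Agent.S2076

/-!
# Proper morphisms to a limit are eventually proper over the stages (helper6, team 2)

`exists_proper_fp` (Stacks 09ZR, closed immersion form), `descend_proper_fp` (a proper morphism of
finite presentation to a limit comes from a stage), `eventually_isProper` (Stacks 0A0Q-type).
-/

set_option autoImplicit false
universe u

namespace Groth.Agent.Lib.T2H6.PropStage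

open AlgebraicGeometry CategoryTheory TopologicalSpace Limits
open Groth.Agent.Lib.Helper22.FTIdeal Groth.Agent.Lib.T2H6.PropLim
open Groth.Agent.Lib.Helper22.LimBC

theorem exists_proper_fp {X S : Scheme.{u}} (f : X ⟶ S) [IsProper f]
    [CompactSpace S] [QuasiSeparatedSpace S] :
    ∃ (X' : Scheme.{u}) (f' : X' ⟶ S) (j : X ⟶ X'), IsProper f' ∧ LocallyOfFinitePresentation f' ∧
      IsClosedImmersion j ∧ j ≫ f' = f := by
  obtain ⟨X₁, f₁, j₀, h1, h2, h3, h4, h5⟩ := Groth.Agent.S7395.result f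
  haveI := h1; haveI := h2; haveI := h3; haveI := h4
  haveI : CompactSpace X₁ := QuasiCompact.compactSpace_of_compactSpace f₁
  haveI : QuasiSeparatedSpace X₁ := quasiSeparatedSpace_of_quasiSeparated f₁
  let I : X₁.IdealSheafData := j₀.ker
  let e : X ≅ I.subscheme := asIso j₀.toImage
  have he : e.hom ≫ I.subschemeι = j₀ := j₀.toImage_imageι
  have hI : I.subschemeι ≫ f₁ = e.inv ≫ f := by
    rw [Iso.eq_inv_comp, ← h5, ← Category.assoc, he]
  haveI : IsProper (I.subschemeι ≫ f₁) := by rw [hI]; infer_instance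
  obtain ⟨J, hJ, hJf⟩ := Groth.Agent.Lib.T2H6.PropFP.exists_ft_isProper f₁ I
  haveI : LocallyOfFinitePresentation J.subschemeι :=
    Groth.Agent.Lib.Helper22.FTLimit.locallyOfFinitePresentation_subschemeι J hJ.2
  haveI := isClosedImmersion_inclusion hJ.1
  refine ⟨J.subscheme, J.subschemeι ≫ f₁, e.hom ≫ Scheme.IdealSheafData.inclusion hJ.1,
    hJf, inferInstance, inferInstance, ?_⟩
  rw [Category.assoc, ← Category.assoc (Scheme.IdealSheafData.inclusion hJ.1),
    Scheme.IdealSheafData.inclusion_subschemeι, ← Category.assoc, he, h5]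

section

variable {I : Type u} [SmallCategory I] [IsCofiltered I]
    (D : I ⥤ Scheme.{u}) (c : Limits.Cone D) (hc : Limits.IsLimit c)
    [∀ (i j : I) (f : i ⟶ j), IsAffineHom (D.map f)]
    [∀ i, CompactSpace (D.obj i)] [∀ i, QuasiSeparatedSpace (D.obj i)]

include hc in
theorem descend_proper_fp {Y' : Scheme.{u}} (p' : Y' ⟶ c.pt) [IsProper p']
    [LocallyOfFinitePresentation p'] :
    ∃ (i : I) (Yi : Scheme.{u}) (pi : Yi ⟶ D.obj i) (q : Y' ⟶ Yi), IsProper pi ∧
      IsPullback q p' pi (c.π.app i) := by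
  obtain ⟨i, Xi, fi, g₁, hfi1, hfi2, hfi3, hpb⟩ := Groth.Agent.S0591.result D c hc Y' p'
  haveI := hfi1; haveI := hfi2; haveI := hfi3
  haveI : CompactSpace Xi := QuasiCompact.compactSpace_of_compactSpace fi
  haveI : QuasiSeparatedSpace Xi := quasiSeparatedSpace_of_quasiSeparated fi
  have hY : IsPullback (c.π.app i) (𝟙 c.pt) (𝟙 (D.obj i)) (c.π.app i) := IsPullback.id_vert _
  obtain ⟨i', φ, Xi', Yi', fi', gi, pY, pX, hpbY, hpbX, hprop⟩ :=
    Groth.Agent.Lib.T2H6.PropDesc.descend D c hc i fi (𝟙 _) p' (𝟙 _) (c.π.app i) g₁ hY hpb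
  haveI := hprop
  haveI : IsIso gi := hpbY.isIso_snd_of_isIso
  have hpY : pY = gi ≫ D.map φ := by
    have := hpbY.w
    rwa [Category.comp_id] at this
  let k : c.pt ⟶ Yi' := c.π.app i' ≫ inv gi
  have hk : k ≫ pY = c.π.app i := by
    rw [hpY, Category.assoc, IsIso.inv_hom_id_assoc]
    exact c.w φ
  let q : Y' ⟶ Xi' := hpbX.lift g₁ (p' ≫ k) (by rw [Category.assoc, hk]; exact hpb.w)
  have hq1 : q ≫ pX = g₁ := hpbX.lift_fst _ _ _
  have hq2 : q ≫ fi' = p' ≫ k := hpbX.lift_snd _ _ _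
  have hbig : IsPullback (q ≫ pX) p' fi (k ≫ pY) := by
    rw [hq1, hk]; exact hpb
  have hsq : IsPullback q p' fi' k := IsPullback.of_right hbig hq2 hpbX
  have hiso : IsPullback k (𝟙 c.pt) gi (c.π.app i') :=
    IsPullback.of_vert_isIso ⟨by simp [k]⟩
  have hfin := hsq.paste_vert hiso
  rw [Category.comp_id] at hfin
  exact ⟨i', Xi', fi' ≫ gi, q, inferInstance, hfin⟩

omit [∀ (i j : I) (f : i ⟶ j), IsAffineHom (D.map f)] [∀ i, CompactSpace (D.obj i)]
  [∀ i, QuasiSeparatedSpace (D.obj i)] in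
theorem comp_t_eq (S : Scheme.{u}) (t : D ⟶ (Functor.const I).obj S) (i j : I) :
    c.π.app i ≫ t.app i = c.π.app j ≫ t.app j := by
  have key : ∀ {a b : I} (φ : a ⟶ b), c.π.app a ≫ t.app a = c.π.app b ≫ t.app b := by
    intro a b φ
    have h1 := t.naturality φ
    simp only [Functor.const_obj_obj, Functor.const_obj_map, Category.comp_id] at h1
    rw [← h1, ← Category.assoc, c.w]
  rw [← key (IsCofiltered.minToLeft i j), key (IsCofiltered.minToRight i j)]

include hc in
theorem eventually_isProper (S : Scheme.{u}) (t : D ⟶ (Functor.const I).obj S) (i₀ : I)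
    {Y : Scheme.{u}} (h : Y ⟶ c.pt) [IsProper h]
    [LocallyOfFiniteType (h ≫ c.π.app i₀ ≫ t.app i₀)] :
    ∃ i₁ : I, ∀ (i : I) (_ : i ⟶ i₁), IsProper (h ≫ c.π.app i) := by
  have inst : ∀ {i j : I} (f : i ⟶ j), IsAffineHom (D.map f) := fun f => inferInstance
  haveI : IsAffineHom (c.π.app i₀) := isAffineHom_π_app D c hc i₀
  haveI : CompactSpace c.pt := QuasiCompact.compactSpace_of_compactSpace (c.π.app i₀)
  haveI : QuasiSeparatedSpace c.pt := quasiSeparatedSpace_of_quasiSeparated (c.π.app i₀)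
  obtain ⟨Y', p', k, hp', hp'fp, hk, hkp⟩ := exists_proper_fp h
  haveI := hp'; haveI := hp'fp; haveI := hk
  obtain ⟨i', Yi, pi, q, hpi, hP⟩ := descend_proper_fp D c hc p'
  haveI := hpi
  -- the base changed system, over `S`
  let s : bcDiagram D i' pi ⟶ (Functor.const (Over i')).obj S :=
    { app := fun j => dSnd D i' pi j ≫ t.app j.left
      naturality := by
        intro j j' f
        have h1 := t.naturality f.left
        simp only [Functor.const_obj_obj, Functor.const_obj_map, Category.comp_id] at h1 ⊢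
        rw [← Category.assoc, map_dSnd, Category.assoc, h1] }
  let D' : Over i' ⥤ Over S := Over.lift (bcDiagram D i' pi) s
  let pS : Y' ⟶ S := p' ≫ c.π.app i' ≫ t.app i'
  have hpS : ∀ j, (bcCone i' hP).π.app j ≫ s.app j = pS := by
    intro j
    show bcπ i' hP j ≫ dSnd D i' pi j ≫ t.app j.left = p' ≫ c.π.app i' ≫ t.app i'
    rw [bcπ_snd_assoc, comp_t_eq D c S t j.left i']
  let c' : Cone D' := Over.liftCone (bcDiagram D i' pi) s (bcCone i' hP) pS hpS
  haveI : Nonempty (Over i') := ⟨Over.mk (𝟙 i')⟩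
  have hc' : IsLimit c' :=
    Over.isLimitLiftCone (bcDiagram D i' pi) s (bcCone i' hP) pS hpS (isLimitBcCone i' hP hc)
  haveI : ∀ (j j' : Over i') (f : j ⟶ j'), IsAffineHom (D'.map f).left := by
    intro j j' f
    show IsAffineHom ((bcDiagram D i' pi).map f)
    infer_instance
  have hdSnd : ∀ j : Over i', IsProper (dSnd D i' pi j) := fun j =>
    MorphismProperty.of_isPullback (P := @IsProper) (isPullback_d D i' pi j) inferInstance
  haveI : ∀ j : Over i', CompactSpace (D'.obj j).left := by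
    intro j
    haveI := hdSnd j
    show CompactSpace ((bcDiagram D i' pi).obj j)
    haveI : QuasiCompact (dSnd D i' pi j) := inferInstance
    exact QuasiCompact.compactSpace_of_compactSpace (dSnd D i' pi j)
  let k' : Y ⟶ c'.pt.left := k
  haveI : IsClosedImmersion k' := hk
  haveI : LocallyOfFiniteType (k' ≫ c'.pt.hom) := by
    show LocallyOfFiniteType (k ≫ p' ≫ c.π.app i' ≫ t.app i')
    rw [reassoc_of% hkp, comp_t_eq D c S t i' i₀]
    infer_instance
  obtain ⟨j, hj⟩ := Groth.Agent.S2076.result S D' c' hc' k'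
  have hj' : IsClosedImmersion (k ≫ bcπ i' hP j) := hj
  refine ⟨j.left, fun i₂ a => ?_⟩
  let j₂ : Over i' := Over.mk (a ≫ j.hom)
  let m : j₂ ⟶ j := Over.homMk a rfl
  haveI : IsClosedImmersion ((k ≫ bcπ i' hP j₂) ≫ (bcDiagram D i' pi).map m) := by
    rw [Category.assoc, bcπ_map]; exact hj'
  haveI : IsClosedImmersion (k ≫ bcπ i' hP j₂) :=
    IsClosedImmersion.of_comp (k ≫ bcπ i' hP j₂) ((bcDiagram D i' pi).map m)
  haveI := hdSnd j₂
  have : h ≫ c.π.app i₂ = (k ≫ bcπ i' hP j₂) ≫ dSnd D i' pi j₂ := by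
    rw [Category.assoc, bcπ_snd, ← Category.assoc, hkp]
    rfl
  rw [this]
  infer_instance

end

end Groth.Agent.Lib.T2H6.PropStage
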