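-- helper6 (team 2): an integral closed subscheme meeting an effective Cartier divisor properly is not
-- contained in it.
import Mathlib
import Groth.Prelude.Def_BlowUp2

set_option autoImplicit false
set_option linter.style.haveILetI false
open CategoryTheory CategoryTheory.Limits AlgebraicGeometry Opposite TopologicalSpace nonZeroDivisors
universe u

namespace Groth.Agent.Lib.T2H6.ProperInterOld

theorem one_le_dim_of_nzd {R : Type*} [CommRing R] [IsLocalRing R] (t : R) (ht : t ∈ R⁰)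
    (hu : ¬ IsUnit t) : (1 : WithBot ℕ∞) ≤ ringKrullDim R := by
  by_contra h
  have h0 : ringKrullDim R ≤ (0 : ℕ) := by
    rw [not_le] at h
    generalize ringKrullDim R = d at h ⊢
    induction d using WithBot.recBotCoe with
    | bot => exact bot_le
    | coe d =>
      have h' : (d : WithBot ℕ∞) < ((1 : ℕ∞) : WithBot ℕ∞) := h
      rw [WithBot.coe_lt_coe, Order.lt_one_iff] at h'
      subst h'
      rfl
  have inst : Ring.KrullDimLE 0 R := Ring.krullDimLE_iff.2 h0
  have hmem : t ∈ IsLocalRing.maximalIdeal R := (IsLocalRing.mem_maximalIdeal t).2 hu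
  obtain ⟨n, hn⟩ := (Ring.KrullDimLE.isNilpotent_iff_mem_maximalIdeal).2 hmem
  have h1 : t ^ n ∈ R⁰ := pow_mem ht n
  rw [hn] at h1
  exact zero_notMem_nonZeroDivisors h1

theorem one_le_dim_stalk {X : Scheme.{u}} (𝓘 : X.IdealSheafData) (hY : BlowUp.IsEffCartierIdeal 𝓘)
    (y : X) (hy : y ∈ 𝓘.support) : (1 : WithBot ℕ∞) ≤ ringKrullDim (X.presheaf.stalk y) := by
  obtain ⟨U, hyU, t, ht, hIt⟩ := hY y
  rw [Scheme.IdealSheafData.mem_support_iff_of_mem hyU, hIt, Scheme.zeroLocus_span,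
    Scheme.zeroLocus_singleton] at hy
  have hnb : y ∉ X.basicOpen t := hy
  rw [Scheme.mem_basicOpen _ _ _ hyU] at hnb
  letI := (X.presheaf.germ U.1 y hyU).hom.toAlgebra
  haveI := U.2.isLocalization_stalk ⟨y, hyU⟩
  refine one_le_dim_of_nzd (X.presheaf.germ U.1 y hyU t) ?_ hnb
  exact IsLocalization.map_nonZeroDivisors_le (U.2.primeIdealOf ⟨y, hyU⟩).asIdeal.primeCompl _
    (Submonoid.mem_map_of_mem _ ht)

theorem main {X Z : Scheme.{u}}
    [IsLocallyNoetherian X] (𝓘 : X.IdealSheafData) (hY : BlowUp.IsEffCartierIdeal 𝓘)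
    (i : Z ⟶ X) [IsClosedImmersion i] [IsIntegral Z]
    (hprop : ∀ ζ : ↥X, ζ ∈ (𝓘.support : Set ↥X) ∩ Set.range i.base →
        (∀ ζ' : ↥X, ζ' ∈ (𝓘.support : Set ↥X) ∩ Set.range i.base → ζ' ⤳ ζ → ζ' = ζ) →
        ringKrullDim ↑(X.presheaf.stalk ζ) =
          (⨅ y : (𝓘.support : Set ↥X), ringKrullDim ↑(X.presheaf.stalk y.1)) +
            ringKrullDim ↑(X.presheaf.stalk (i (genericPoint ↥Z)))) :
    ¬ Set.range i.base ⊆ (𝓘.support : Set ↥X) := by
  intro hsub
  have hζ : i (genericPoint Z) ∈ (𝓘.support : Set X) ∩ Set.range i.base :=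
    ⟨hsub ⟨genericPoint Z, rfl⟩, ⟨genericPoint Z, rfl⟩⟩
  have hmax : ∀ ζ' : X, ζ' ∈ (𝓘.support : Set X) ∩ Set.range i.base →
      ζ' ⤳ i (genericPoint Z) → ζ' = i (genericPoint Z) := by
    rintro ζ' ⟨-, z', rfl⟩ hsp
    have h1 : genericPoint Z ⤳ z' := genericPoint_specializes z'
    have h2 : i (genericPoint Z) ⤳ i z' := h1.map i.continuous
    exact (hsp.antisymm h2).eq
  have heq := hprop _ hζ hmax
  have hc : (1 : WithBot ℕ∞) ≤
      ⨅ y : (𝓘.support : Set X), ringKrullDim (X.presheaf.stalk y.1) := by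
    apply le_iInf
    rintro ⟨y, hy⟩
    exact one_le_dim_stalk 𝓘 hY y hy
  have hfin : ringKrullDim (X.presheaf.stalk (i (genericPoint Z))) ≠ ⊤ := ringKrullDim_ne_top
  have hbot : ringKrullDim (X.presheaf.stalk (i (genericPoint Z))) ≠ ⊥ := ringKrullDim_ne_bot
  generalize ringKrullDim (X.presheaf.stalk (i (genericPoint Z))) = d at heq hfin hbot
  generalize (⨅ y : (𝓘.support : Set X), ringKrullDim (X.presheaf.stalk y.1)) = c at heq hc
  induction d using WithBot.recBotCoe with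
  | bot => exact hbot rfl
  | coe d =>
    induction d using ENat.recTopCoe with
    | top => exact hfin rfl
    | coe n =>
      have h3 : (1 : WithBot ℕ∞) + ((n : ℕ∞) : WithBot ℕ∞) ≤ ((n : ℕ∞) : WithBot ℕ∞) := by
        calc (1 : WithBot ℕ∞) + ((n : ℕ∞) : WithBot ℕ∞) ≤ c + ((n : ℕ∞) : WithBot ℕ∞) :=
              add_le_add_left hc _
          _ = ((n : ℕ∞) : WithBot ℕ∞) := heq.symm
      have h4 : (((1 + n : ℕ) : ℕ∞) : WithBot ℕ∞) ≤ ((n : ℕ∞) : WithBot ℕ∞) := by
        push_cast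
        exact h3
      rw [WithBot.coe_le_coe, Nat.cast_le] at h4
      omega

end Groth.Agent.Lib.T2H6.ProperInterOld
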