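import Mathlib
import Groth.Agent.Lib.Helper10QAffRelSpec
import Groth.Agent.Lib.T2H6AffFP
import Groth.Agent.S2076

/-!
# Quasi-affine morphisms of finite type embed into affine morphisms of finite presentation
(helper6, team 2)
-/

set_option autoImplicit false
universe u

namespace Groth.Agent.Lib.T2H6.QAffFT

open AlgebraicGeometry CategoryTheory TopologicalSpace Limits

theorem isSeparated_of_isQuasiAffineHom {X Y : Scheme.{u}} (f : X ⟶ Y)
    (hqa : ∀ V : Y.Opens, IsAffineOpen V → Scheme.IsQuasiAffine (f ⁻¹ᵁ V : Scheme.{u})) :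
    IsSeparated f := by
  refine IsZariskiLocalAtTarget.of_iSup_eq_top (P := @IsSeparated)
    (fun V : Y.affineOpens => V.1) ?_ (fun V => ?_)
  · exact iSup_affineOpens_eq_top Y
  · haveI : Scheme.IsQuasiAffine (↑(f ⁻¹ᵁ V.1) : Scheme.{u}) := hqa V.1 V.2
    infer_instance

/-- A quasi-compact open immersion into the limit of a cofiltered system with affine transition
maps, of finite type over a base through which the system lives, is an immersion into a stage. -/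
theorem exists_isImmersion_stage {I : Type u} [SmallCategory I] [IsCofiltered I]
    (Y : Scheme.{u}) (D₀ : I ⥤ Scheme.{u}) (s : ∀ i, D₀.obj i ⟶ Y)
    (hs : ∀ {i j : I} (a : i ⟶ j), D₀.map a ≫ s j = s i)
    (c₀ : Cone D₀) (hc₀ : IsLimit c₀)
    [∀ {i j : I} (a : i ⟶ j), IsAffineHom (D₀.map a)] [∀ i, CompactSpace (D₀.obj i)]
    {X : Scheme.{u}} [CompactSpace X] (k : X ⟶ c₀.pt) [IsOpenImmersion k]
    (i₀ : I) [LocallyOfFiniteType (k ≫ c₀.π.app i₀ ≫ s i₀)] :
    ∃ i : I, IsImmersion (k ≫ c₀.π.app i) := by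
  classical
  have hU : IsCompact (k.opensRange : Set c₀.pt) := by
    rw [Scheme.Hom.coe_opensRange]
    exact isCompact_range k.continuous
  obtain ⟨i, V, hVc, hV⟩ := exists_preimage_eq D₀ c₀ hc₀ k.opensRange hU
  have hlim := isLimitOpensCone D₀ c₀ hc₀ i V
  -- the iso of `X` with the apex
  let W : c₀.pt.Opens := c₀.π.app i ⁻¹ᵁ V
  have hW : W = k.opensRange := hV
  let h₀ : X ⟶ W.toScheme :=
    IsOpenImmersion.lift W.ι k (by
      rw [Scheme.Opens.range_ι, hW, Scheme.Hom.coe_opensRange])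
  have hh₀ : h₀ ≫ W.ι = k := IsOpenImmersion.lift_fac _ _ _
  haveI : IsIso h₀ := by
    have : h₀ = (IsOpenImmersion.isoOfRangeEq k W.ι (by
      rw [Scheme.Opens.range_ι, hW, Scheme.Hom.coe_opensRange])).hom := rfl
    rw [this]; infer_instance
  let h : X ⟶ (opensCone D₀ c₀ i V).pt := h₀
  haveI : IsIso h := ‹IsIso h₀›
  let s' : ∀ j : Over i, (opensDiagram D₀ i V).obj j ⟶ Y := fun j =>
    (D₀.map j.hom ⁻¹ᵁ V).ι ≫ s j.left
  have hs' : ∀ {j l : Over i} (a : j ⟶ l), (opensDiagram D₀ i V).map a ≫ s' l = s' j := by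
    intro j l a
    show (D₀.map a.left).resLE _ _ _ ≫ (D₀.map l.hom ⁻¹ᵁ V).ι ≫ s l.left = _
    rw [Scheme.Hom.resLE_comp_ι_assoc, hs]
    rfl
  let p : (opensCone D₀ c₀ i V).pt ⟶ Y := W.ι ≫ c₀.π.app i ≫ s i
  have hp : ∀ j : Over i, (opensCone D₀ c₀ i V).π.app j ≫ s' j = p := by
    intro j
    show (c₀.π.app j.left).resLE _ _ _ ≫ (D₀.map j.hom ⁻¹ᵁ V).ι ≫ s j.left = _
    rw [Scheme.Hom.resLE_comp_ι_assoc]
    have e1 : c₀.π.app j.left ≫ s j.left = c₀.π.app i ≫ s i := by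
      rw [← hs j.hom, ← c₀.w j.hom, Category.assoc]
    rw [e1]
    rfl
  haveI : ∀ j : Over i, CompactSpace ((opensDiagram D₀ i V).obj j) := by
    intro j
    exact isCompact_iff_compactSpace.mp (QuasiCompact.isCompact_preimage _ V.2 hVc)
  have hconn : c₀.π.app i ≫ s i = c₀.π.app i₀ ≫ s i₀ := by
    obtain ⟨m, a, b, -⟩ := IsCofilteredOrEmpty.cone_objs i i₀
    rw [← c₀.w a, ← c₀.w b, Category.assoc, Category.assoc, hs, hs]
  haveI : LocallyOfFiniteType (h ≫ p) := by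
    have : h ≫ p = k ≫ c₀.π.app i₀ ≫ s i₀ := by
      show h₀ ≫ W.ι ≫ c₀.π.app i ≫ s i = _
      rw [reassoc_of% hh₀, hconn]
    rw [this]; infer_instance
  obtain ⟨j, hj⟩ := Groth.Agent.S2076.aux Y (opensDiagram D₀ i V) s' hs'
    (opensCone D₀ c₀ i V) hlim p hp h
  refine ⟨j.left, ?_⟩
  let Wj : (D₀.obj j.left).Opens := D₀.map j.hom ⁻¹ᵁ V
  let q : X ⟶ Wj.toScheme := h ≫ (opensCone D₀ c₀ i V).π.app j
  haveI : IsClosedImmersion q := hj
  have : k ≫ c₀.π.app j.left = q ≫ Wj.ι := by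
    show _ = (h₀ ≫ (c₀.π.app j.left).resLE _ _ _) ≫ (D₀.map j.hom ⁻¹ᵁ V).ι
    rw [Category.assoc, Scheme.Hom.resLE_comp_ι, reassoc_of% hh₀]
  rw [this]
  infer_instance

/-- EGA II 5.1.9 (over a qcqs base): a quasi-affine morphism of finite type factors as an
immersion followed by an affine morphism of finite presentation. -/
theorem exists_affine_fp {X Y : Scheme.{u}} [CompactSpace Y] [QuasiSeparatedSpace Y]
    (f : X ⟶ Y) (hf : MoreMor.IsQuasiAffineHom f) [LocallyOfFiniteType f] :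
    ∃ (X'' : Scheme.{u}) (g : X'' ⟶ Y) (j : X ⟶ X''), IsAffineHom g ∧
      LocallyOfFinitePresentation g ∧ IsImmersion j ∧ j ≫ g = f := by
  classical
  obtain ⟨hqc, hqa⟩ := hf
  haveI : QuasiCompact f := hqc
  haveI : IsSeparated f := isSeparated_of_isQuasiAffineHom f hqa
  obtain ⟨c, e, -, hcqc, hcoi⟩ := (Groth.Agent.Lib.Helper10.QAffRelSpec.main f).mp ⟨hqc, hqa⟩
  obtain ⟨P, π, hπ, c, e, hcoi⟩ : ∃ (P : Scheme.{u}) (π : P ⟶ Y) (_ : IsAffineHom π) (c : X ⟶ P)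
      (_ : c ≫ π = f), IsOpenImmersion c := ⟨_, _, inferInstance, c, e, hcoi⟩
  haveI : CompactSpace P := QuasiCompact.compactSpace_of_compactSpace π
  haveI : QuasiSeparatedSpace P := quasiSeparatedSpace_of_quasiSeparated π
  haveI : CompactSpace X := QuasiCompact.compactSpace_of_compactSpace f
  obtain ⟨I, iC, iF, D, cD, hcD, hD, ⟨eD⟩⟩ :=
    (Groth.Agent.Lib.T2H6.AffFP.isAffineHom_iff π).mp hπ
  haveI : IsCofiltered Iᵒᵖ := inferInstance
  let D₀ : Iᵒᵖ ⥤ Scheme.{u} := D ⋙ Over.forget Y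
  let c₀ : Cone D₀ := (Over.forget Y).mapCone cD
  have hc₀ : IsLimit c₀ := isLimitOfPreserves (Over.forget Y) hcD
  let s : ∀ i, D₀.obj i ⟶ Y := fun i => (D.obj i).hom
  have hsaff : ∀ i, IsAffineHom (s i) := fun i => (hD i).1
  have hs : ∀ {i j : Iᵒᵖ} (a : i ⟶ j), D₀.map a ≫ s j = s i := fun a => Over.w (D.map a)
  have inst' : ∀ {i j : Iᵒᵖ} (a : i ⟶ j), IsAffineHom (D₀.map a) := by
    intro i j a
    haveI : IsAffineHom (s j) := hsaff j
    have : IsAffineHom (D₀.map a ≫ s j) := by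
      rw [hs]; exact hsaff i
    exact IsAffineHom.of_comp (D₀.map a) (s j)
  haveI : ∀ i, CompactSpace (D₀.obj i) := fun i => by
    haveI : IsAffineHom (s i) := hsaff i
    exact QuasiCompact.compactSpace_of_compactSpace (s i)
  let eD' : P ⟶ c₀.pt := eD.inv.left
  haveI : IsIso eD' := by
    have : eD' = ((Over.forget Y).mapIso eD).inv := rfl
    rw [this]; infer_instance
  let k : X ⟶ c₀.pt := c ≫ eD'
  haveI : IsOpenImmersion k := inferInstance
  have i₀ : Iᵒᵖ := Opposite.op (Classical.choice IsFiltered.nonempty)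
  have hk : ∀ i, k ≫ c₀.π.app i ≫ s i = f := by
    intro i
    have e1 : c₀.π.app i ≫ s i = cD.pt.hom := Over.w (cD.π.app i)
    have e2 : eD.inv.left ≫ cD.pt.hom = π := Over.w eD.inv
    show (c ≫ eD.inv.left) ≫ _ = f
    rw [e1, Category.assoc, e2, e]
  haveI : LocallyOfFiniteType (k ≫ c₀.π.app i₀ ≫ s i₀) := by rw [hk]; infer_instance
  obtain ⟨i, hi⟩ := exists_isImmersion_stage Y D₀ s hs c₀ hc₀ k i₀
  refine ⟨D₀.obj i, s i, k ≫ c₀.π.app i, (hD i).1, (hD i).2, hi, ?_⟩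
  rw [Category.assoc, hk]

end Groth.Agent.Lib.T2H6.QAffFT
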