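import Mathlib
import Groth.Agent.Lib.Helper4ProjCone7
import Groth.Agent.Lib.T2H6AmpCurveG
import Groth.Agent.S2357
set_option backward.isDefEq.respectTransparency.types false

/-!
# A quasi-projective scheme of dimension `d` over a Noetherian ring is covered by `d + 1` affine opens (T2H6)

Generalisation of `Helper4.ProjCone.exists_hypersurfaces` / `T2H9.QProjAff.exists_affine_cover` from a field to a
Noetherian base ring: the dimension is measured on the locally closed subset `X' ∖ Y'` itself.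
-/

set_option autoImplicit false
set_option linter.style.haveILetI false
universe u

open AlgebraicGeometry Order CategoryTheory TopologicalSpace

namespace Groth.Agent.Lib.T2H6.QProjAffN

open Groth.Agent.Lib.Helper4.ProjCone

section General

variable {R A : Type u} [CommRing R] [CommRing A] [Algebra R A] (𝒜 : ℕ → Submodule R A)
  [GradedAlgebra 𝒜]

open Groth.Agent.Lib.Helper27ProjCodimOne in
/-- The dimension of a quasi-sober subset of a projective spectrum is the Krull dimension of the poset of its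
points. -/
theorem topologicalKrullDim_eq_krullDim (Z : Set (ProjectiveSpectrum 𝒜)) [QuasiSober ↥Z] :
    topologicalKrullDim ↥Z = krullDim ↥Z := by
  rw [Groth.Agent.Lib.Helper7.topologicalKrullDim_eq_krullDim_points]
  rw [← krullDim_orderDual (α := ↥Z)]
  let e : @OrderIso ↥Z (↥Z)ᵒᵈ (specializationOrder ↥Z).toLE _ :=
    { toFun := fun a => OrderDual.toDual a
      invFun := fun a => OrderDual.ofDual a
      left_inv := fun _ => rfl
      right_inv := fun _ => rfl
      map_rel_iff' := by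
        intro a b
        change (b : ProjectiveSpectrum 𝒜) ≤ (a : ProjectiveSpectrum 𝒜) ↔ b ⤳ a
        rw [subtype_specializes_iff, specializes_iff_le] }
  exact @krullDim_eq_of_orderIso ↥Z (↥Z)ᵒᵈ (specializationOrder ↥Z).toPreorder _ e

theorem mem_iff_vanishingIdeal_le' (Z : Set (ProjectiveSpectrum 𝒜))
    (hZ : IsClosed Z) (z : ProjectiveSpectrum 𝒜) :
    z ∈ Z ↔ (ProjectiveSpectrum.vanishingIdeal Z).toIdeal ≤ z.asHomogeneousIdeal.toIdeal := by
  conv_lhs => rw [← hZ.closure_eq, ← ProjectiveSpectrum.zeroLocus_vanishingIdeal_eq_closure,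
    ProjectiveSpectrum.mem_zeroLocus]
  rfl

theorem exists_hypersurfaces_aux' [IsNoetherianRing A] (X' Y' : Set (ProjectiveSpectrum 𝒜))
    (hX' : IsClosed X') (hY' : IsClosed Y') [QuasiSober ↥(X' \ Y')] (r : ℕ)
    (hdim : topologicalKrullDim ↥(X' \ Y') ≤ r) :
    ∀ j : ℕ, ∃ h : Fin j → A,
      (∀ i, ∃ d, 0 < d ∧ h i ∈ 𝒜 d) ∧
      (∀ i, ∀ y ∈ Y', h i ∈ y.asHomogeneousIdeal.toIdeal) ∧
      ∀ z : ↥(X' \ Y'), (∀ i, h i ∈ z.1.asHomogeneousIdeal.toIdeal) →
        Order.coheight z + (j : ℕ∞) ≤ (r : ℕ∞) := by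
  classical
  intro j
  induction j with
  | zero =>
    refine ⟨Fin.elim0, fun i => i.elim0, fun i => i.elim0, ?_⟩
    intro z _
    have h1 : ((Order.coheight z : ℕ∞) : WithBot ℕ∞) ≤ krullDim ↥(X' \ Y') :=
      Order.coheight_le_krullDim z
    rw [← topologicalKrullDim_eq_krullDim 𝒜 (X' \ Y')] at h1
    have h2 : ((Order.coheight z : ℕ∞) : WithBot ℕ∞) ≤ ((r : ℕ∞) : WithBot ℕ∞) := h1.trans hdim
    have h3 : Order.coheight z ≤ (r : ℕ∞) := by exact_mod_cast h2
    simpa using h3
  | succ j ih =>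
    obtain ⟨h, hh, hhY, hz⟩ := ih
    set IX := (ProjectiveSpectrum.vanishingIdeal X').toIdeal with hIX
    set IY := (ProjectiveSpectrum.vanishingIdeal Y').toIdeal with hIY
    have hJhom : (IX ⊔ Ideal.span (Set.range h)).IsHomogeneous 𝒜 := by
      refine Ideal.IsHomogeneous.sup (ProjectiveSpectrum.vanishingIdeal X').isHomogeneous ?_
      apply Ideal.homogeneous_span
      rintro _ ⟨i, rfl⟩
      obtain ⟨d, _, hd⟩ := hh i
      exact ⟨d, hd⟩
    have hfin : {q ∈ (IX ⊔ Ideal.span (Set.range h)).minimalPrimes |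
        ¬ (HomogeneousIdeal.irrelevant 𝒜).toIdeal ≤ q ∧ ¬ IY ≤ q}.Finite :=
      (Ideal.finite_minimalPrimes_of_isNoetherianRing _ _).subset (fun q hq => hq.1)
    have hIhom : (IY ⊓ (HomogeneousIdeal.irrelevant 𝒜).toIdeal).IsHomogeneous 𝒜 :=
      Ideal.IsHomogeneous.inf (ProjectiveSpectrum.vanishingIdeal Y').isHomogeneous
        (HomogeneousIdeal.irrelevant 𝒜).isHomogeneous
    obtain ⟨d, h', hd, hh'd, hh'I, hav⟩ := homogeneous_prime_avoidance 𝒜
      (IY ⊓ (HomogeneousIdeal.irrelevant 𝒜).toIdeal) hIhom inf_le_right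
      hfin.toFinset.card hfin.toFinset rfl (by
        intro q hq
        rw [Set.Finite.mem_toFinset] at hq
        obtain ⟨hqmin, hqrel, hqY⟩ := hq
        refine ⟨hqmin.1.1, ?_, ?_⟩
        · exact Groth.Agent.Lib.Helper27ProjHypConn.isHomogeneous_of_mem_minimalPrimes
            𝒜 hJhom hqmin
        · intro hle
          rcases hqmin.1.1.inf_le.mp hle with h1 | h1
          · exact hqY h1
          · exact hqrel h1)
    refine ⟨Fin.cons h' h, ?_, ?_, ?_⟩
    · intro i
      refine Fin.cases ?_ (fun i => ?_) i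
      · rw [Fin.cons_zero]
        exact ⟨d, hd, hh'd⟩
      · rw [Fin.cons_succ]; exact hh i
    · intro i
      refine Fin.cases ?_ (fun i => ?_) i
      · rw [Fin.cons_zero]
        intro y hy
        have h1 : h' ∈ ProjectiveSpectrum.vanishingIdeal Y' := hh'I.1
        exact (ProjectiveSpectrum.mem_vanishingIdeal _ _).mp h1 y hy
      · rw [Fin.cons_succ]; exact hhY i
    · intro z hall
      have hzX : z.1 ∈ X' := z.2.1
      have hzY : z.1 ∉ Y' := z.2.2
      have hh'z : h' ∈ z.1.asHomogeneousIdeal.toIdeal := by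
        have := hall 0
        rwa [Fin.cons_zero] at this
      have hhz : ∀ i, h i ∈ z.1.asHomogeneousIdeal.toIdeal := by
        intro i
        have := hall i.succ
        rwa [Fin.cons_succ] at this
      have hJz : IX ⊔ Ideal.span (Set.range h) ≤ z.1.asHomogeneousIdeal.toIdeal := by
        refine sup_le ((mem_iff_vanishingIdeal_le' 𝒜 X' hX' z.1).mp hzX) ?_
        rw [Ideal.span_le]
        rintro _ ⟨i, rfl⟩
        exact hhz i
      haveI : z.1.asHomogeneousIdeal.toIdeal.IsPrime := z.1.isPrime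
      obtain ⟨q, hq, hqz⟩ := Ideal.exists_minimalPrimes_le hJz
      have hqhom := Groth.Agent.Lib.Helper27ProjHypConn.isHomogeneous_of_mem_minimalPrimes
        𝒜 hJhom hq
      have hrel : ¬ (HomogeneousIdeal.irrelevant 𝒜).toIdeal ≤ q :=
        fun hle => z.1.not_irrelevant_le (hle.trans hqz)
      have hqY : ¬ IY ≤ q := fun hle =>
        hzY ((mem_iff_vanishingIdeal_le' 𝒜 Y' hY' z.1).mpr (hle.trans hqz))
      have hh'q : h' ∉ q := hav q (by
        rw [Set.Finite.mem_toFinset]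
        exact ⟨hq, hrel, hqY⟩)
      obtain ⟨y, hy⟩ : ∃ y : ProjectiveSpectrum 𝒜,
          y.asHomogeneousIdeal.toIdeal = q := ⟨⟨⟨q, hqhom⟩, hq.1.1, hrel⟩, rfl⟩
      have hyX : y ∈ X' := by
        rw [mem_iff_vanishingIdeal_le' 𝒜 X' hX' y, hy]
        exact le_sup_left.trans hq.1.2
      have hyY : y ∉ Y' := by
        rw [mem_iff_vanishingIdeal_le' 𝒜 Y' hY' y, hy]
        exact hqY
      let y' : ↥(X' \ Y') := ⟨y, hyX, hyY⟩
      have hyz : y' < z := by
        refine lt_of_le_of_ne ?_ ?_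
        · change y.asHomogeneousIdeal.toIdeal ≤ z.1.asHomogeneousIdeal.toIdeal
          rw [hy]
          exact hqz
        · intro heq
          apply hh'q
          have : y = z.1 := congrArg Subtype.val heq
          rw [← hy, this]
          exact hh'z
      have hyall : ∀ i, h i ∈ y'.1.asHomogeneousIdeal.toIdeal := by
        intro i
        change h i ∈ y.asHomogeneousIdeal.toIdeal
        rw [hy]
        exact hq.1.2 (Ideal.mem_sup_right (Ideal.subset_span ⟨i, rfl⟩))
      have h1 := Order.coheight_add_one_le hyz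
      have h2 := hz y' hyall
      calc Order.coheight z + ((j + 1 : ℕ) : ℕ∞) = (Order.coheight z + 1) + (j : ℕ∞) := by
            push_cast; ring
        _ ≤ Order.coheight y' + (j : ℕ∞) := add_le_add h1 le_rfl
        _ ≤ (r : ℕ∞) := h2

/-- for closed `X'`, `Y'` in a projective spectrum over a Noetherian ring with `dim (X' ∖ Y') ≤ r` there are
`r + 1` homogeneous elements of positive degree vanishing on `Y'` with no common zero on `X' ∖ Y'`. -/
theorem exists_hypersurfaces' [IsNoetherianRing A] (X' Y' : Set (ProjectiveSpectrum 𝒜))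
    (hX' : IsClosed X') (hY' : IsClosed Y') [QuasiSober ↥(X' \ Y')] (r : ℕ)
    (hdim : topologicalKrullDim ↥(X' \ Y') ≤ r) :
    ∃ h : Fin (r + 1) → A,
      (∀ i, ∃ d, 0 < d ∧ h i ∈ 𝒜 d) ∧
      (∀ i, ∀ y ∈ Y', h i ∈ y.asHomogeneousIdeal.toIdeal) ∧
      ∀ z ∈ X', z ∉ Y' → ∃ i, h i ∉ z.asHomogeneousIdeal.toIdeal := by
  obtain ⟨h, hh, hhY, hz⟩ := exists_hypersurfaces_aux' 𝒜 X' Y' hX' hY' r hdim (r + 1)
  refine ⟨h, hh, hhY, ?_⟩
  intro z hzX hzY
  by_contra hcon
  push Not at hcon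
  have h1 := hz ⟨z, hzX, hzY⟩ hcon
  have h2 : ((r + 1 : ℕ) : ℕ∞) ≤ (r : ℕ∞) := le_trans le_add_self h1
  have h3 : r + 1 ≤ r := by exact_mod_cast h2
  omega

end General

section Scheme

variable (A : Type u) [CommRing A] [IsNoetherianRing A] (n d : ℕ)

theorem exists_affine_cover {X : Scheme.{u}} (j : X ⟶ CohB1.ProjSpace n A) [IsImmersion j]
    (hX : topologicalKrullDim ↥X ≤ d) :
    ∃ U : Fin (d + 1) → X.Opens, (∀ i, IsAffineOpen (U i)) ∧ ⨆ i, U i = ⊤ := by
  haveI hP : IsNoetherian (CohB1.ProjSpace n A) := Groth.Agent.S2357.result (CohB1.polyGrading n A)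
  haveI : IsLocallyNoetherian (CohB1.ProjSpace n A) := hP.toIsLocallyNoetherian
  haveI : IsLocallyNoetherian X := LocallyOfFiniteType.isLocallyNoetherian j
  haveI : NoetherianSpace (CohB1.ProjSpace n A) := inferInstance
  haveI : NoetherianSpace X := j.isEmbedding.isInducing.noetherianSpace
  haveI hN : IsNoetherian X := { }
  haveI : QuasiCompact j := inferInstance
  -- the scheme-theoretic image
  obtain ⟨Z, o, ι, hoι, ho, hod, hι⟩ : ∃ (Z : Scheme.{u}) (o : X ⟶ Z) (ι : Z ⟶ CohB1.ProjSpace n A),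
      o ≫ ι = j ∧ IsOpenImmersion o ∧ IsDominant o ∧ IsClosedImmersion ι :=
    ⟨j.image, j.toImage, j.imageι, j.toImage_imageι, inferInstance, inferInstance, inferInstance⟩
  have hXcl : IsClosed (Set.range ι) := ι.isClosedEmbedding.isClosed_range
  have hYcl : IsClosed (ι '' (Set.range o)ᶜ) :=
    ι.isClosedEmbedding.isClosedMap _ o.isOpenEmbedding.isOpen_range.isClosed_compl
  have hjx : ∀ x : X, j x = ι (o x) := fun x => by subst hoι; rfl
  have hS : Set.range ι \ ι '' (Set.range o)ᶜ = Set.range j := by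
    ext z
    constructor
    · rintro ⟨⟨w, rfl⟩, hw⟩
      by_cases hwo : w ∈ Set.range o
      · obtain ⟨x, rfl⟩ := hwo
        exact ⟨x, hjx x⟩
      · exact absurd ⟨w, hwo, rfl⟩ hw
    · rintro ⟨x, rfl⟩
      refine ⟨⟨o x, (hjx x).symm⟩, ?_⟩
      rintro ⟨w, hw, hwx⟩
      apply hw
      refine ⟨x, ι.isClosedEmbedding.injective ?_⟩
      rw [hwx, hjx]
  let e : X ≃ₜ ↥(Set.range j) := j.isEmbedding.toHomeomorph
  haveI hQS : QuasiSober ↥(Set.range ι \ ι '' (Set.range o)ᶜ) := by
    rw [hS]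
    exact e.symm.isClosedEmbedding.quasiSober
  have hdim : topologicalKrullDim ↥(Set.range ι \ ι '' (Set.range o)ᶜ) ≤ d := by
    have h1 : topologicalKrullDim ↥(Set.range j) = topologicalKrullDim ↥X :=
      (IsHomeomorph.topologicalKrullDim_eq _ e.isHomeomorph).symm
    have h2 : topologicalKrullDim ↥(Set.range ι \ ι '' (Set.range o)ᶜ) =
        topologicalKrullDim ↥(Set.range j) := by rw [hS]
    rw [h2, h1]
    exact hX
  obtain ⟨h, hh, hhY, hz⟩ := @exists_hypersurfaces' _ _ _ _ _ (CohB1.polyGrading n A) _ _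
    (Set.range ι) (ι '' (Set.range o)ᶜ) hXcl hYcl hQS d hdim
  refine ⟨fun i => j ⁻¹ᵁ Proj.basicOpen (CohB1.polyGrading n A) (h i), fun i => ?_, ?_⟩
  · obtain ⟨d', hd', hhom⟩ := hh i
    have hU : @IsAffineOpen (CohB1.ProjSpace n A)
        (Proj.basicOpen (CohB1.polyGrading n A) (h i)) :=
      Proj.isAffineOpen_basicOpen (CohB1.polyGrading n A) (h i) hhom hd'
    have hW : IsAffineOpen (ι ⁻¹ᵁ Proj.basicOpen (CohB1.polyGrading n A) (h i)) := hU.preimage ι
    have hle : ι ⁻¹ᵁ Proj.basicOpen (CohB1.polyGrading n A) (h i) ≤ o.opensRange := by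
      intro z hz'
      by_contra hcon
      have hzY : ι z ∈ ι '' (Set.range o)ᶜ := ⟨z, hcon, rfl⟩
      exact hz' (hhY i _ hzY)
    have h2 := hW.preimage_of_isOpenImmersion o hle
    have h3 : o ⁻¹ᵁ ι ⁻¹ᵁ Proj.basicOpen (CohB1.polyGrading n A) (h i) =
        j ⁻¹ᵁ Proj.basicOpen (CohB1.polyGrading n A) (h i) := by
      subst hoι
      rfl
    change IsAffineOpen (j ⁻¹ᵁ (show (CohB1.ProjSpace n A).Opens from
      Proj.basicOpen (CohB1.polyGrading n A) (h i)))
    exact Eq.mp (congrArg IsAffineOpen h3) h2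
  · rw [eq_top_iff]
    intro x _
    have h1 : j x ∈ Set.range ι := ⟨o x, (hjx x).symm⟩
    have h2 : j x ∉ ι '' (Set.range o)ᶜ := by
      rintro ⟨z, hz', hzx⟩
      apply hz'
      refine ⟨x, ι.isClosedEmbedding.injective ?_⟩
      rw [hzx, hjx]
    obtain ⟨i, hi⟩ := hz (j x) h1 h2
    exact Opens.mem_iSup.mpr ⟨i, hi⟩

end Scheme

end Groth.Agent.Lib.T2H6.QProjAffN
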