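-- helper6 (team 2): morphisms between trivial torsors in the quotient category are right
-- multiplications.
import Mathlib
import Groth.Prelude.Def_AlgSt5

set_option autoImplicit false
set_option backward.isDefEq.respectTransparency false
set_option backward.isDefEq.respectTransparency.types false
set_option linter.unusedSimpArgs false
open CategoryTheory CategoryTheory.Limits MonoidalCategory CartesianMonoidalCategory MonObj GrpObj
  AlgebraicGeometry

universe u

namespace Groth.Agent.Lib.T2H6.QuotHom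

variable {S : Scheme.{u}} (K : Precoverage Scheme.{u}) [K.HasIsos] (G : Over S) [GrpObj G]
  {X : Over S} (aX : AlgGrp.Action G X)

/-- the unit section of the trivial torsor -/
noncomputable def unitSec (T : Over S) : T ⟶ G ⊗ T := lift (toUnit T ≫ η[G]) (𝟙 T)

/-- element form of the multiplication axiom -/
theorem act_mul {P T : Over S} (act : AlgGrp.Action G P) (a b : T ⟶ G) (c : T ⟶ P) :
    lift (a * b) c ≫ act.act = lift a (lift b c ≫ act.act) ≫ act.act := by
  have h := congrArg (fun t => lift (lift a b) c ≫ t) act.mul_act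
  simp only [lift_whiskerRight_assoc, lift_lift_associator_hom_assoc, lift_whiskerLeft_assoc] at h
  rw [← h, Hom.mul_def]

/-- element form of the unit axiom -/
theorem act_one {P T : Over S} (act : AlgGrp.Action G P) (c : T ⟶ P) :
    lift (toUnit T ≫ η[G]) c ≫ act.act = c := by
  have h := congrArg (fun t => lift (toUnit T) c ≫ t) act.one_act
  simp only [lift_whiskerRight_assoc, leftUnitor_hom, lift_snd] at h
  exact h

theorem leftMul_act_fst (T : Over S) :
    (AlgSt.leftMul G T).act ≫ fst G T = fst G (G ⊗ T) * (snd G (G ⊗ T) ≫ fst G T) := by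
  simp [AlgSt.leftMul]

theorem leftMul_act_snd (T : Over S) :
    (AlgSt.leftMul G T).act ≫ snd G T = snd G (G ⊗ T) ≫ snd G T := by
  simp [AlgSt.leftMul]

/-- `(h, t) ↦ (h, (1, t))` followed by the multiplication is the identity -/
theorem insert_unit_leftMul (T : Over S) :
    lift (fst G T) (snd G T ≫ unitSec G T) ≫ (AlgSt.leftMul G T).act = 𝟙 (G ⊗ T) := by
  apply CartesianMonoidalCategory.hom_ext
  · rw [Category.assoc, leftMul_act_fst, comp_mul, lift_fst, lift_snd_assoc, Category.id_comp]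
    simp only [unitSec, Category.assoc, lift_fst]
    rw [← Category.assoc, toUnit_unique (snd G T ≫ toUnit T) (toUnit _), ← Hom.one_def,
      _root_.mul_one]
  · rw [Category.assoc, leftMul_act_snd, lift_snd_assoc, Category.id_comp]
    simp [unitSec]

/-- an equivariant map of trivial torsors over `f` is a right multiplication -/
theorem top_eq_of_hom {T T' : Over S} (f : T ⟶ T') (top : G ⊗ T ⟶ G ⊗ T')
    (heqv : (AlgSt.leftMul G T).act ≫ top = (G ◁ top) ≫ (AlgSt.leftMul G T').act)
    (hsnd : top ≫ snd G T' = snd G T ≫ f) :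
    top = lift (fst G T * (snd G T ≫ (unitSec G T ≫ top ≫ fst G T'))) (snd G T ≫ f) := by
  obtain ⟨g, hg⟩ : ∃ g : T ⟶ G, g = unitSec G T ≫ top ≫ fst G T' := ⟨_, rfl⟩
  rw [← hg]
  apply CartesianMonoidalCategory.hom_ext
  · rw [lift_fst]
    have h1 : top ≫ fst G T' = lift (fst G T) (snd G T ≫ unitSec G T) ≫
        ((AlgSt.leftMul G T).act ≫ top) ≫ fst G T' := by
      rw [← Category.assoc, ← Category.assoc, insert_unit_leftMul, Category.id_comp]
    rw [h1, heqv, Category.assoc, leftMul_act_fst, comp_mul, comp_mul, whiskerLeft_fst,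
      whiskerLeft_snd_assoc, lift_fst, lift_snd_assoc]
    simp only [Category.assoc]
    rw [hg]
  · rw [lift_snd, hsnd]

theorem exists_rightMul_of_hom {T T' : Over S} (f : T ⟶ T') (x : T ⟶ X) (x' : T' ⟶ X)
    (h : (AlgSt.quotMap K G aX).obj ((AlgSt.ofOverCat X).obj (Over.mk x)) ⟶
      (AlgSt.quotMap K G aX).obj ((AlgSt.ofOverCat X).obj (Over.mk x')))
    (hb : h.base = f) :
    ∃ g : T ⟶ G, lift g (f ≫ x') ≫ aX.act = x ∧
      h.top = lift (fst G T * (snd G T ≫ g)) (snd G T ≫ f) := by
  obtain ⟨top, htd⟩ : ∃ top : G ⊗ T ⟶ G ⊗ T', top = h.top := ⟨h.top, rfl⟩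
  have hsnd : top ≫ snd G T' = snd G T ≫ f := by
    rw [← hb, htd]
    exact h.cart.w
  have heqv : (AlgSt.leftMul G T).act ≫ top = (G ◁ top) ≫ (AlgSt.leftMul G T').act := by
    rw [htd]
    exact h.eqv
  have htop := top_eq_of_hom G f top heqv hsnd
  have hφ : top ≫ ((G ◁ x') ≫ aX.act) = (G ◁ x) ≫ aX.act := by
    rw [htd]
    exact h.wφ
  rw [← htd]
  obtain ⟨g, hg⟩ : ∃ g : T ⟶ G, g = unitSec G T ≫ top ≫ fst G T' := ⟨_, rfl⟩
  rw [← hg] at htop
  refine ⟨g, ?_, htop⟩
  have h1 : unitSec G T ≫ top = lift g f := by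
    apply CartesianMonoidalCategory.hom_ext
    · rw [lift_fst, Category.assoc, hg]
    · rw [lift_snd, Category.assoc, hsnd]
      simp [unitSec]
  have h2 : unitSec G T ≫ (G ◁ x) ≫ aX.act = x := by
    rw [unitSec, lift_whiskerLeft_assoc, Category.id_comp]
    exact act_one G aX x
  calc lift g (f ≫ x') ≫ aX.act = (lift g f ≫ (G ◁ x')) ≫ aX.act := by rw [lift_whiskerLeft]
    _ = unitSec G T ≫ top ≫ (G ◁ x') ≫ aX.act := by rw [← h1, Category.assoc, Category.assoc]
    _ = x := by rw [hφ, h2]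

/-- right multiplication by a point of `G` -/
noncomputable def rmul {T : Over S} (g : T ⟶ G) : G ⊗ T ⟶ G ⊗ T :=
  lift (fst G T * (snd G T ≫ g)) (snd G T)

theorem rmul_rmul_inv {T : Over S} (g : T ⟶ G) : rmul G g ≫ rmul G g⁻¹ = 𝟙 _ := by
  apply CartesianMonoidalCategory.hom_ext
  · simp only [rmul, Category.assoc, lift_fst, comp_mul, lift_snd_assoc, Category.id_comp]
    rw [comp_inv, mul_inv_cancel_right]
  · simp [rmul]

theorem rmul_inv_rmul {T : Over S} (g : T ⟶ G) : rmul G g⁻¹ ≫ rmul G g = 𝟙 _ := by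
  have := rmul_rmul_inv G g⁻¹
  rwa [_root_.inv_inv] at this

theorem isPullback_rmul {T T' : Over S} (f : T ⟶ T') (g : T ⟶ G) :
    IsPullback (lift (fst G T * (snd G T ≫ g)) (snd G T ≫ f)) (snd G T) (snd G T') f := by
  have : IsIso (rmul G g) := ⟨⟨rmul G g⁻¹, rmul_rmul_inv G g, rmul_inv_rmul G g⟩⟩
  have h1 : IsPullback (rmul G g) (snd G T) (snd G T) (𝟙 T) :=
    IsPullback.of_horiz_isIso ⟨by simp [rmul]⟩
  have h2 := h1.paste_horiz (AlgSt.isPullback_whiskerLeft (G := G) f)
  have e : rmul G g ≫ (G ◁ f) = lift (fst G T * (snd G T ≫ g)) (snd G T ≫ f) := by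
    apply CartesianMonoidalCategory.hom_ext
    · simp [rmul]
    · simp [rmul]
  rw [e, Category.id_comp] at h2
  exact h2

theorem rmul_eqv {T T' : Over S} (f : T ⟶ T') (g : T ⟶ G) :
    (AlgSt.leftMul G T).act ≫ lift (fst G T * (snd G T ≫ g)) (snd G T ≫ f) =
      (G ◁ lift (fst G T * (snd G T ≫ g)) (snd G T ≫ f)) ≫ (AlgSt.leftMul G T').act := by
  apply CartesianMonoidalCategory.hom_ext
  · rw [Category.assoc, Category.assoc, leftMul_act_fst, lift_fst, comp_mul, comp_mul,
      leftMul_act_fst, whiskerLeft_fst, whiskerLeft_snd_assoc, lift_fst, ← Category.assoc,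
      leftMul_act_snd, comp_mul, _root_.mul_assoc]
    simp only [Category.assoc]
  · rw [Category.assoc, Category.assoc, leftMul_act_snd, lift_snd, whiskerLeft_snd_assoc, lift_snd,
      ← Category.assoc, leftMul_act_snd]
    simp only [Category.assoc]

/-- the morphism of trivial torsors given by right multiplication -/
noncomputable def rightMulHom {T T' : Over S} (f : T ⟶ T') (x : T ⟶ X) (x' : T' ⟶ X) (g : T ⟶ G)
    (hg : lift g (f ≫ x') ≫ aX.act = x) :
    (AlgSt.quotMap K G aX).obj ((AlgSt.ofOverCat X).obj (Over.mk x)) ⟶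
      (AlgSt.quotMap K G aX).obj ((AlgSt.ofOverCat X).obj (Over.mk x')) where
  base := f
  top := lift (fst G T * (snd G T ≫ g)) (snd G T ≫ f)
  eqv := rmul_eqv G f g
  cart := isPullback_rmul G f g
  wφ := by
    change lift (fst G T * (snd G T ≫ g)) (snd G T ≫ f) ≫ ((G ◁ x') ≫ aX.act) = (G ◁ x) ≫ aX.act
    rw [lift_whiskerLeft_assoc, act_mul]
    have h1 : lift (snd G T ≫ g) ((snd G T ≫ f) ≫ x') = snd G T ≫ lift g (f ≫ x') := by
      rw [comp_lift, Category.assoc]
    rw [h1, Category.assoc, hg]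
    have h2 : lift (fst G T) (snd G T ≫ x) = G ◁ x := by
      apply CartesianMonoidalCategory.hom_ext
      · simp
      · simp
    rw [h2]

end Groth.Agent.Lib.T2H6.QuotHom
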