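-- helper6 (team 2): the action groupoid square over the quotient category is 2-cartesian.
import Mathlib
import Groth.Agent.Lib.T2H6QuotHom
import Groth.Agent.Lib.Helper17FibEquiv
import Groth.Agent.Lib.Helper17FibFp
import Groth.Prelude.Def_AlgSt5

set_option autoImplicit false
set_option backward.isDefEq.respectTransparency false
set_option backward.isDefEq.respectTransparency.types false
set_option linter.unusedSimpArgs false
open CategoryTheory CategoryTheory.Limits MonoidalCategory CartesianMonoidalCategory MonObj GrpObj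
  AlgebraicGeometry

universe u

namespace Groth.Agent.Lib.T2H6.QuotCart

open Groth.Agent.Lib.T2H6.QuotHom Groth.Agent.Lib.Helper17

variable {S : Scheme.{u}} (K : Precoverage Scheme.{u}) [K.HasIsos] (G : Over S) [GrpObj G]
  {X : Over S} (aX : AlgGrp.Action G X)

/-- the element form of the inverse law for an action -/
theorem act_inv_act {T : Over S} (g : T ⟶ G) (x : T ⟶ X) :
    lift g⁻¹ (lift g x ≫ aX.act) ≫ aX.act = x := by
  rw [← act_mul, inv_mul_cancel, Hom.one_def]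
  exact act_one G aX x

theorem rmulTop_comp {T : Over S} (g h : T ⟶ G) :
    lift (fst G T * (snd G T ≫ g)) (snd G T ≫ 𝟙 T) ≫
      lift (fst G T * (snd G T ≫ h)) (snd G T ≫ 𝟙 T) =
      lift (fst G T * (snd G T ≫ (g * h))) (snd G T ≫ 𝟙 T) := by
  apply CartesianMonoidalCategory.hom_ext
  · simp only [Category.assoc, lift_fst, comp_mul, lift_snd_assoc, Category.comp_id,
      _root_.mul_assoc]
  · simp

theorem rmulTop_one {T : Over S} :
    lift (fst G T * (snd G T ≫ (1 : T ⟶ G))) (snd G T ≫ 𝟙 T) = 𝟙 (G ⊗ T) := by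
  apply CartesianMonoidalCategory.hom_ext
  · rw [lift_fst, Category.id_comp, comp_one, _root_.mul_one]
  · simp


section Comp

/-- the functor of the action -/
noncomputable abbrev actF : AlgSt.ofSch (G ⊗ X) ⥤ᵇ AlgSt.ofSch X :=
  AlgSt.ofSpMap ((AlgSp.yon S).map aX.act)

variable (X) in
/-- the functor of the projection -/
noncomputable abbrev sndF : AlgSt.ofSch (G ⊗ X) ⥤ᵇ AlgSt.ofSch X :=
  AlgSt.ofSpMap ((AlgSp.yon S).map (snd G X))

variable {G}

/-- the morphism of an object of the source -/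
def cc (a : (AlgSt.ofSch (G ⊗ X)).obj) : a.base ⟶ G ⊗ X := a.sec.down

theorem cc_hg (a : (AlgSt.ofSch (G ⊗ X)).obj) :
    lift (cc a ≫ fst G X) (𝟙 a.base ≫ (cc a ≫ snd G X)) ≫ aX.act = cc a ≫ aX.act := by
  rw [Category.id_comp, ← comp_lift, lift_fst_snd, Category.comp_id]

theorem cc_hg' (a : (AlgSt.ofSch (G ⊗ X)).obj) :
    lift (cc a ≫ fst G X)⁻¹ (𝟙 a.base ≫ (cc a ≫ aX.act)) ≫ aX.act = cc a ≫ snd G X := by
  rw [Category.id_comp]
  have h : cc a ≫ aX.act = lift (cc a ≫ fst G X) (cc a ≫ snd G X) ≫ aX.act := by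
    rw [← comp_lift, lift_fst_snd, Category.comp_id]
  rw [h]
  exact act_inv_act G aX _ _

variable (G)

/-- the component of the 2-isomorphism -/
noncomputable def compHom (a : (AlgSt.ofSch (G ⊗ X)).obj) :
    (BasedFunctor.comp (actF G aX) (AlgSt.quotMap K G aX)).obj a ⟶
      (BasedFunctor.comp (sndF G X) (AlgSt.quotMap K G aX)).obj a :=
  rightMulHom K G aX (𝟙 a.base) (cc a ≫ aX.act) (cc a ≫ snd G X) (cc a ≫ fst G X) (cc_hg aX a)

noncomputable def compInv (a : (AlgSt.ofSch (G ⊗ X)).obj) :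
    (BasedFunctor.comp (sndF G X) (AlgSt.quotMap K G aX)).obj a ⟶
      (BasedFunctor.comp (actF G aX) (AlgSt.quotMap K G aX)).obj a :=
  rightMulHom K G aX (𝟙 a.base) (cc a ≫ snd G X) (cc a ≫ aX.act) (cc a ≫ fst G X)⁻¹ (cc_hg' aX a)

theorem compHom_base (a : (AlgSt.ofSch (G ⊗ X)).obj) : (compHom K G aX a).base = 𝟙 a.base := rfl

theorem compHom_top (a : (AlgSt.ofSch (G ⊗ X)).obj) : (compHom K G aX a).top =
    lift (fst G a.base * (snd G a.base ≫ (cc a ≫ fst G X))) (snd G a.base ≫ 𝟙 a.base) := rfl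

/-- the component as an isomorphism -/
noncomputable def compIso (a : (AlgSt.ofSch (G ⊗ X)).obj) :
    (BasedFunctor.comp (actF G aX) (AlgSt.quotMap K G aX)).obj a ≅
      (BasedFunctor.comp (sndF G X) (AlgSt.quotMap K G aX)).obj a where
  hom := compHom K G aX a
  inv := compInv K G aX a
  hom_inv_id := by
    apply AlgSt.QuotObj.hom_ext
    · exact Category.id_comp _
    · change lift (fst G a.base * (snd G a.base ≫ (cc a ≫ fst G X))) (snd G a.base ≫ 𝟙 a.base) ≫
        lift (fst G a.base * (snd G a.base ≫ (cc a ≫ fst G X)⁻¹)) (snd G a.base ≫ 𝟙 a.base) = 𝟙 _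
      rw [rmulTop_comp, mul_inv_cancel, rmulTop_one]
  inv_hom_id := by
    apply AlgSt.QuotObj.hom_ext
    · exact Category.id_comp _
    · change lift (fst G a.base * (snd G a.base ≫ (cc a ≫ fst G X)⁻¹)) (snd G a.base ≫ 𝟙 a.base) ≫
        lift (fst G a.base * (snd G a.base ≫ (cc a ≫ fst G X))) (snd G a.base ≫ 𝟙 a.base) = 𝟙 _
      rw [rmulTop_comp, inv_mul_cancel, rmulTop_one]

end Comp


section Iso

theorem cc_naturality {a b : (AlgSt.ofSch (G ⊗ X)).obj} (ψ : a ⟶ b) : ψ.hom ≫ cc b = cc a :=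
  congrArg ULift.down ψ.map_sec

/-- the 2-isomorphism of the action square -/
noncomputable def sqIso : BasedFunctor.comp (actF G aX) (AlgSt.quotMap K G aX) ≅
    BasedFunctor.comp (sndF G X) (AlgSt.quotMap K G aX) :=
  BasedNatIso.mkNatIso
    (NatIso.ofComponents (fun a => compIso K G aX a) (fun {a b} ψ => by
      have hψ := cc_naturality G ψ
      apply AlgSt.QuotObj.hom_ext
      · change ψ.hom ≫ 𝟙 _ = 𝟙 _ ≫ ψ.hom
        rw [Category.comp_id, Category.id_comp]
      · change (G ◁ ψ.hom) ≫ lift (fst G b.base * (snd G b.base ≫ (cc b ≫ fst G X)))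
            (snd G b.base ≫ 𝟙 b.base) =
          lift (fst G a.base * (snd G a.base ≫ (cc a ≫ fst G X))) (snd G a.base ≫ 𝟙 a.base) ≫
            (G ◁ ψ.hom)
        apply CartesianMonoidalCategory.hom_ext
        · rw [Category.assoc, Category.assoc, lift_fst, whiskerLeft_fst, lift_fst, comp_mul,
            whiskerLeft_fst, whiskerLeft_snd_assoc, ← hψ]
          simp only [Category.assoc]
        · rw [Category.assoc, Category.assoc, lift_snd, whiskerLeft_snd, lift_snd_assoc,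
            Category.comp_id, Category.comp_id, whiskerLeft_snd]))
    (fun a => by
      apply IsHomLift.of_fac _ _ _ rfl rfl
      change 𝟙 a.base = 𝟙 _ ≫ 𝟙 _ ≫ 𝟙 _
      simp)

end Iso


section Equiv

/-- the comparison functor to the fibre product -/
noncomputable abbrev cmp : AlgSt.ofSch (G ⊗ X) ⥤ᵇ
    FibCat.fp (AlgSt.quotMap K G aX) (AlgSt.quotMap K G aX) :=
  FibCat.fpLift (actF G aX) (sndF G X) (sqIso K G aX)

theorem cmp_faithful : (cmp K G aX).toFunctor.Faithful := by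
  refine ⟨fun {a b} m m' h => ?_⟩
  have h1 : (actF G aX).map m = (actF G aX).map m' := congrArg (fun t => t.hom.fst) h
  have h2 : m.hom = m'.hom := congrArg (fun t => t.hom) h1
  exact Stk.EltObj.hom_ext h2

theorem cmp_full : (cmp K G aX).toFunctor.Full := by
  refine ⟨fun {a b} n => ?_⟩
  obtain ⟨t, ht⟩ : ∃ t : a.base ⟶ b.base, t = n.hom.fst.hom := ⟨_, rfl⟩
  obtain ⟨t', ht'⟩ : ∃ t' : a.base ⟶ b.base, t' = n.hom.snd.hom := ⟨_, rfl⟩
  have hw := n.hom.w
  have hbase : t ≫ 𝟙 _ = 𝟙 _ ≫ t' := by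
    rw [ht, ht']
    exact congrArg (fun m => m.base) hw
  rw [Category.comp_id, Category.id_comp] at hbase
  have htop : (G ◁ t) ≫ lift (fst G b.base * (snd G b.base ≫ (cc b ≫ fst G X)))
        (snd G b.base ≫ 𝟙 b.base) =
      lift (fst G a.base * (snd G a.base ≫ (cc a ≫ fst G X))) (snd G a.base ≫ 𝟙 a.base) ≫
        (G ◁ t') := by
    rw [ht, ht']
    exact congrArg (fun m => m.top) hw
  have hg : t ≫ cc b ≫ fst G X = cc a ≫ fst G X := by
    have h1 := congrArg (fun m => unitSec G a.base ≫ m ≫ fst G b.base) htop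
    simp only [unitSec, Category.assoc, lift_fst, whiskerLeft_fst, comp_mul, lift_fst_assoc,
      lift_snd_assoc, whiskerLeft_snd_assoc, Category.id_comp, lift_whiskerLeft_assoc] at h1
    exact mul_left_cancel h1
  have hc : t ≫ cc b = cc a := by
    apply CartesianMonoidalCategory.hom_ext
    · rw [Category.assoc, hg]
    · have h2 : t' ≫ cc b ≫ snd G X = cc a ≫ snd G X := by
        rw [ht']
        exact congrArg ULift.down n.hom.snd.map_sec
      rw [Category.assoc, hbase, h2]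
  let m : a ⟶ b := ⟨t, congrArg ULift.up hc⟩
  refine ⟨m, ?_⟩
  apply ObjectProperty.hom_ext
  apply Limits.CategoricalPullback.hom_ext
  · apply Stk.EltObj.hom_ext
    exact ht
  · apply Stk.EltObj.hom_ext
    exact hbase.trans ht'

end Equiv


section EssSurj

theorem cmp_essSurjOver : EssSurjOver (cmp K G aX) := by
  intro w
  obtain ⟨f, hf⟩ : ∃ f : w.obj.fst.base ⟶ w.obj.snd.base, f = w.obj.iso.hom.base := ⟨_, rfl⟩
  obtain ⟨f', hf'⟩ : ∃ f' : w.obj.snd.base ⟶ w.obj.fst.base, f' = w.obj.iso.inv.base := ⟨_, rfl⟩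
  have hff' : f ≫ f' = 𝟙 _ := by
    rw [hf, hf']
    exact congrArg (fun m => m.base) w.obj.iso.hom_inv_id
  have hf'f : f' ≫ f = 𝟙 _ := by
    rw [hf, hf']
    exact congrArg (fun m => m.base) w.obj.iso.inv_hom_id
  obtain ⟨g, hg, htop⟩ := exists_rightMul_of_hom K G aX f w.obj.fst.sec.down w.obj.snd.sec.down
    w.obj.iso.hom hf.symm
  let ξ : (AlgSt.ofSch (G ⊗ X)).obj := ⟨w.obj.fst.base, ⟨lift g (f ≫ w.obj.snd.sec.down)⟩⟩
  let e₁ : (actF G aX).obj ξ ≅ w.obj.fst :=
    { hom := ⟨𝟙 _, by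
        change (⟨𝟙 _ ≫ w.obj.fst.sec.down⟩ : ULift _) = ⟨lift g (f ≫ w.obj.snd.sec.down) ≫ aX.act⟩
        rw [Category.id_comp, hg]⟩
      inv := ⟨𝟙 _, by
        change (⟨𝟙 _ ≫ (lift g (f ≫ w.obj.snd.sec.down) ≫ aX.act)⟩ : ULift _) = w.obj.fst.sec
        rw [Category.id_comp, hg]
        rfl⟩
      hom_inv_id := Stk.EltObj.hom_ext (Category.id_comp _)
      inv_hom_id := Stk.EltObj.hom_ext (Category.id_comp _) }
  let e₂ : (sndF G X).obj ξ ≅ w.obj.snd :=
    { hom := ⟨f, by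
        change (⟨f ≫ w.obj.snd.sec.down⟩ : ULift _) =
          ⟨lift g (f ≫ w.obj.snd.sec.down) ≫ snd G X⟩
        rw [lift_snd]⟩
      inv := ⟨f', by
        change (⟨f' ≫ (lift g (f ≫ w.obj.snd.sec.down) ≫ snd G X)⟩ : ULift _) = w.obj.snd.sec
        rw [lift_snd, ← Category.assoc, hf'f, Category.id_comp]
        rfl⟩
      hom_inv_id := Stk.EltObj.hom_ext hff'
      inv_hom_id := Stk.EltObj.hom_ext hf'f }
  have hw : (AlgSt.quotMap K G aX).map e₁.hom ≫ w.obj.iso.hom =
      ((cmp K G aX).obj ξ).obj.iso.hom ≫ (AlgSt.quotMap K G aX).map e₂.hom := by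
    apply AlgSt.QuotObj.hom_ext
    · change 𝟙 _ ≫ w.obj.iso.hom.base = 𝟙 _ ≫ f
      rw [Category.id_comp, Category.id_comp, hf]
    · change (G ◁ 𝟙 _) ≫ w.obj.iso.hom.top =
        lift (fst G ξ.base * (snd G ξ.base ≫ (cc ξ ≫ fst G X))) (snd G ξ.base ≫ 𝟙 ξ.base) ≫
          (G ◁ f)
      rw [htop]
      apply CartesianMonoidalCategory.hom_ext
      · have h1 : cc ξ ≫ fst G X = g := lift_fst _ _
        rw [h1]
        simp only [Category.assoc, lift_fst, whiskerLeft_fst, MonoidalCategory.whiskerLeft_id,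
          Category.id_comp]
        rfl
      · simp only [Category.assoc, lift_snd, whiskerLeft_snd, MonoidalCategory.whiskerLeft_id,
          Category.id_comp, lift_snd_assoc, Category.comp_id]
        rfl
  refine ⟨ξ, ObjectProperty.isoMk _ (Limits.CategoricalPullback.mkIso
    (x := ((cmp K G aX).obj ξ).obj) (y := w.obj) e₁ e₂ hw), ?_⟩
  rw [fp_isHomLift_iff]
  change (AlgSt.ofSch X).p.IsHomLift (𝟙 w.obj.fst.base) e₁.hom
  apply IsHomLift.of_fac _ _ _ rfl rfl
  change 𝟙 _ = 𝟙 _ ≫ 𝟙 _ ≫ 𝟙 _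
  simp

theorem isEquivOver_cmp : FibCat.IsEquivOver (cmp K G aX) := by
  have := cmp_faithful K G aX
  have := cmp_full K G aX
  exact isEquivOver_of_fullyFaithful_of_essSurjOver _ (cmp_essSurjOver K G aX)

theorem exists_isTwoCartOver :
    ∃ e : BasedFunctor.comp (AlgSt.ofSpMap ((AlgSp.yon S).map aX.act)) (AlgSt.quotMap K G aX) ≅
        BasedFunctor.comp (AlgSt.ofSpMap ((AlgSp.yon S).map (snd G X))) (AlgSt.quotMap K G aX),
      FibCat.IsTwoCartOver (AlgSt.ofSpMap ((AlgSp.yon S).map aX.act))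
        (AlgSt.ofSpMap ((AlgSp.yon S).map (snd G X))) e :=
  ⟨sqIso K G aX, isEquivOver_cmp K G aX⟩

end EssSurj

end Groth.Agent.Lib.T2H6.QuotCart
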