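-- helper6 (team 2): the canonical functor to the quotient category is representable: its base
-- change along an object is the total space of that object.
import Mathlib
import Groth.Agent.Lib.T2H6QuotHom
import Groth.Agent.Lib.T2H6QuotLoc
import Groth.Agent.Lib.Helper17FibEquiv
import Groth.Agent.Lib.Helper17FibFp
import Groth.Agent.Lib.Helper12Torsor
import Groth.Agent.Lib.Helper15EquivRep
import Groth.Agent.Lib.Helper15LocQEngine
import Groth.Agent.Lib.Helper15LocEss
import Groth.Agent.Lib.T2H6SmPre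
import Groth.Prelude.Def_AlgSt5
import Groth.Prelude.Def_AlgSt3

set_option autoImplicit false
set_option backward.isDefEq.respectTransparency false
set_option backward.isDefEq.respectTransparency.types false
set_option linter.unusedSimpArgs false
set_option linter.unusedSectionVars false
open CategoryTheory CategoryTheory.Limits MonoidalCategory CartesianMonoidalCategory MonObj GrpObj
  AlgebraicGeometry

universe u

namespace Groth.Agent.Lib.T2H6.QuotRep

open Groth.Agent.Lib.T2H6.QuotHom Groth.Agent.Lib.T2H6.QuotLoc Groth.Agent.Lib.Helper17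

variable {S : Scheme.{u}} (K : Precoverage Scheme.{u}) (G : Over S) [GrpObj G]
  {X : Over S} (aX : AlgGrp.Action G X)

section General

variable {K G aX}

/-- two morphisms with the same base which agree after a further morphism are equal -/
theorem hom_cancel {A B B' : AlgSt.QuotObj K G aX} (h : B' ⟶ A) (f g : B ⟶ B')
    (hb : f.base = g.base) (ht : f.top ≫ h.top = g.top ≫ h.top) : f = g := by
  apply AlgSt.QuotObj.hom_ext hb
  apply h.cart.hom_ext ht
  rw [f.cart.w, g.cart.w, hb]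

/-- lifting a morphism through another one along a morphism of the bases -/
noncomputable def liftHom {A B B' : AlgSt.QuotObj K G aX} (h : B ⟶ A) (h' : B' ⟶ A)
    (f : B.base ⟶ B'.base) (hf : f ≫ h'.base = h.base) : B ⟶ B' where
  base := f
  top := h'.cart.lift h.top (B.π ≫ f) (by rw [Category.assoc, hf, h.cart.w])
  eqv := by
    apply h'.cart.hom_ext
    · rw [Category.assoc, IsPullback.lift_fst, Category.assoc, h'.eqv,
        ← MonoidalCategory.whiskerLeft_comp_assoc, IsPullback.lift_fst, h.eqv]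
    · rw [Category.assoc, IsPullback.lift_snd, Category.assoc, B'.cart.w, whiskerLeft_snd_assoc,
        IsPullback.lift_snd, ← Category.assoc, B.cart.w, Category.assoc]
  cart := by
    refine IsPullback.of_right ?_ (IsPullback.lift_snd _ _ _ _) h'.cart
    rw [IsPullback.lift_fst, hf]
    exact h.cart
  wφ := by rw [← h'.wφ, ← Category.assoc, IsPullback.lift_fst, h.wφ]

theorem liftHom_comp {A B B' : AlgSt.QuotObj K G aX} (h : B ⟶ A) (h' : B' ⟶ A)
    (f : B.base ⟶ B'.base) (hf : f ≫ h'.base = h.base) : liftHom h h' f hf ≫ h' = h := by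
  apply AlgSt.QuotObj.hom_ext
  · exact hf
  · exact IsPullback.lift_fst _ _ _ _

/-- a morphism whose base is invertible is invertible -/
theorem isIso_of_isIso_base {A B : AlgSt.QuotObj K G aX} (h : B ⟶ A) [IsIso h.base] :
    IsIso h := by
  have hf : inv h.base ≫ h.base = (𝟙 A : A ⟶ A).base := by
    rw [IsIso.inv_hom_id]; rfl
  have hk := liftHom_comp (𝟙 A) h (inv h.base) hf
  refine ⟨liftHom (𝟙 A) h (inv h.base) hf, ?_, hk⟩
  apply hom_cancel h
  · change h.base ≫ inv h.base = 𝟙 _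
    rw [IsIso.hom_inv_id]
  · have h2 := congrArg (fun m => m.top) hk
    change (h.top ≫ (liftHom (𝟙 A) h (inv h.base) hf).top) ≫ h.top = 𝟙 _ ≫ h.top
    rw [Category.assoc]
    change h.top ≫ (liftHom (𝟙 A) h (inv h.base) hf ≫ h).top = 𝟙 _ ≫ h.top
    rw [hk]
    change h.top ≫ 𝟙 _ = _
    rw [Category.comp_id, Category.id_comp]

variable (K G aX) [K.HasIsos]

/-- a morphism out of a trivial object is determined by the image of the unit section -/
theorem top_eq_of_unitSec {a : (AlgSt.ofSch X).obj} {A : AlgSt.QuotObj K G aX}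
    (h h' : (AlgSt.quotMap K G aX).obj a ⟶ A)
    (hu : unitSec G a.base ≫ h.top = unitSec G a.base ≫ h'.top) : h.top = h'.top := by
  have key : ∀ k : (AlgSt.quotMap K G aX).obj a ⟶ A,
      k.top = lift (fst G a.base) (snd G a.base ≫ unitSec G a.base ≫ k.top) ≫ A.act.act := by
    intro k
    have h1 : (AlgSt.leftMul G a.base).act ≫ k.top = (G ◁ k.top) ≫ A.act.act := k.eqv
    calc k.top = (lift (fst G a.base) (snd G a.base ≫ unitSec G a.base) ≫
          (AlgSt.leftMul G a.base).act) ≫ k.top := by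
            rw [insert_unit_leftMul, Category.id_comp]
      _ = _ := by rw [Category.assoc, h1, lift_whiskerLeft_assoc, Category.assoc]
  rw [key h, key h', hu]

end General

section Main

variable {K G aX} [K.HasIsos] {U : Over S} (y : FibCat.overCat U ⥤ᵇ AlgSt.QuotSt K G aX)

variable (K G aX) in
/-- the functor to the quotient from the slice -/
noncomputable abbrev qm : FibCat.overCat X ⥤ᵇ AlgSt.QuotSt K G aX :=
  BasedFunctor.comp (AlgSt.ofOverCat X) (AlgSt.quotMap K G aX)

/-- the object classified by `y` -/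
noncomputable abbrev A₀ : AlgSt.QuotObj K G aX := y.obj (Over.mk (𝟙 U))

theorem base_obj (c : Over U) : (y.obj c).base = c.left := y.w_obj c

theorem base_map {c c' : Over U} (m : c ⟶ c') :
    (y.map m).base = eqToHom (base_obj y c) ≫ m.left ≫ eqToHom (base_obj y c').symm :=
  Functor.congr_hom y.w m

/-- the structure morphism of the total space -/
noncomputable def π₀ : (A₀ y).P ⟶ U := (A₀ y).π ≫ eqToHom (base_obj y _)

/-- the morphism to the final object of the slice -/
def uu (c : Over U) : c ⟶ Over.mk (𝟙 U) := Over.homMk c.hom (by simp)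

theorem uu_comp {c c' : Over U} (m : c ⟶ c') : m ≫ uu c' = uu c := by
  ext
  simp [uu]

theorem kBase_eq (t : Over (A₀ y).P) :
    ((qm K G aX).obj ((AlgSt.overMap (A₀ y).φ).obj t)).base =
      (y.obj ((AlgSt.overMap (π₀ y)).obj t)).base :=
  (base_obj y ((AlgSt.overMap (π₀ y)).obj t)).symm

/-- the comparison morphism at a point of the total space -/
noncomputable def kHom (t : Over (A₀ y).P) :
    (qm K G aX).obj ((AlgSt.overMap (A₀ y).φ).obj t) ⟶ y.obj ((AlgSt.overMap (π₀ y)).obj t) :=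
  liftHom (homOfSection K G aX (A₀ y) t.hom) (y.map (uu _)) (eqToHom (kBase_eq y t)) (by
    rw [base_map]
    change _ = t.hom ≫ (A₀ y).π
    simp [uu, π₀, AlgSt.overMap])

theorem kHom_base (t : Over (A₀ y).P) : (kHom y t).base = eqToHom (kBase_eq y t) := rfl

theorem kHom_comp (t : Over (A₀ y).P) :
    kHom y t ≫ y.map (uu _) = homOfSection K G aX (A₀ y) t.hom :=
  liftHom_comp _ _ _ _

instance isIso_kHom (t : Over (A₀ y).P) : IsIso (kHom y t) := by
  have : IsIso (kHom y t).base := by rw [kHom_base]; infer_instance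
  exact isIso_of_isIso_base _

theorem kHom_naturality {t t' : Over (A₀ y).P} (m : t ⟶ t') :
    kHom y t ≫ y.map ((AlgSt.overMap (π₀ y)).map m) =
      (qm K G aX).map ((AlgSt.overMap (A₀ y).φ).map m) ≫ kHom y t' := by
  apply hom_cancel (y.map (uu _))
  · change eqToHom (kBase_eq y t) ≫ (y.map _).base = m.left ≫ eqToHom (kBase_eq y t')
    rw [base_map]
    simp [AlgSt.overMap]
  · have h1 : (kHom y t ≫ y.map ((AlgSt.overMap (π₀ y)).map m)) ≫ y.map (uu _) =
        homOfSection K G aX (A₀ y) t.hom := by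
      rw [Category.assoc, ← Functor.map_comp, uu_comp, kHom_comp]
    have h2 : ((qm K G aX).map ((AlgSt.overMap (A₀ y).φ).map m) ≫ kHom y t') ≫ y.map (uu _) =
        (qm K G aX).map ((AlgSt.overMap (A₀ y).φ).map m) ≫
          homOfSection K G aX (A₀ y) t'.hom := by
      rw [Category.assoc, kHom_comp]
    change ((kHom y t ≫ y.map _) ≫ y.map (uu _)).top =
      (((qm K G aX).map _ ≫ kHom y t') ≫ y.map (uu _)).top
    rw [h1, h2]
    change (G ◁ t.hom) ≫ (A₀ y).act.act = (G ◁ m.left) ≫ (G ◁ t'.hom) ≫ (A₀ y).act.act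
    rw [← MonoidalCategory.whiskerLeft_comp_assoc, Over.w m]

theorem kHom_base_inv (t : Over (A₀ y).P) :
    eqToHom (kBase_eq y t) ≫ (inv (kHom y t)).base = 𝟙 _ := by
  rw [← kHom_base]
  exact congrArg (fun m => m.base) (IsIso.hom_inv_id (kHom y t))

/-- the 2-isomorphism of the square of the total space -/
noncomputable def sqIso : BasedFunctor.comp (AlgSt.overMap (π₀ y)) y ≅
    BasedFunctor.comp (AlgSt.overMap (A₀ y).φ) (qm K G aX) :=
  BasedNatIso.mkNatIso
    (NatIso.ofComponents (fun t => (asIso (kHom y t)).symm) (fun {t t'} m => by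
      change y.map ((AlgSt.overMap (π₀ y)).map m) ≫ inv (kHom y t') =
        inv (kHom y t) ≫ (qm K G aX).map ((AlgSt.overMap (A₀ y).φ).map m)
      rw [IsIso.comp_inv_eq, Category.assoc, IsIso.eq_inv_comp]
      exact kHom_naturality y m))
    (fun t => by
      apply IsHomLift.of_fac _ _ _ (kBase_eq y t).symm rfl
      change 𝟙 _ = eqToHom _ ≫ (inv (kHom y t)).base ≫ eqToHom _
      rw [eqToHom_refl, Category.comp_id]
      exact (kHom_base_inv y t).symm)

/-- the comparison functor to the fibre product -/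
noncomputable abbrev cmp : FibCat.overCat (A₀ y).P ⥤ᵇ FibCat.fp y (qm K G aX) :=
  FibCat.fpLift (AlgSt.overMap (π₀ y)) (AlgSt.overMap (A₀ y).φ) (sqIso y)

theorem cmp_faithful : (cmp y).toFunctor.Faithful := by
  refine ⟨fun {a b} m m' h => ?_⟩
  have h1 : (AlgSt.overMap (π₀ y)).map m = (AlgSt.overMap (π₀ y)).map m' :=
    congrArg (fun t => t.hom.fst) h
  have h2 : m.left = m'.left := congrArg (fun t => t.left) h1
  exact Over.OverMorphism.ext h2

theorem unitSec_whiskerLeft_act {P T : Over S} (act : AlgGrp.Action G P) (s : T ⟶ P) :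
    unitSec G T ≫ (G ◁ s) ≫ act.act = s := by
  rw [unitSec, lift_whiskerLeft_assoc, Category.id_comp]
  exact act_one G act s

theorem cmp_full : (cmp y).toFunctor.Full := by
  refine ⟨fun {t t'} n => ?_⟩
  obtain ⟨n₁, hn₁⟩ : ∃ n₁ : (AlgSt.overMap (π₀ y)).obj t ⟶ (AlgSt.overMap (π₀ y)).obj t',
    n₁ = n.hom.fst := ⟨_, rfl⟩
  obtain ⟨n₂, hn₂⟩ : ∃ n₂ : (AlgSt.overMap (A₀ y).φ).obj t ⟶ (AlgSt.overMap (A₀ y).φ).obj t',
    n₂ = n.hom.snd := ⟨_, rfl⟩
  have hw : y.map n₁ ≫ inv (kHom y t') = inv (kHom y t) ≫ (qm K G aX).map n₂ := by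
    rw [hn₁, hn₂]
    exact n.hom.w
  rw [IsIso.comp_inv_eq, Category.assoc, IsIso.eq_inv_comp] at hw
  have hbase : n₁.left = n₂.left := by
    have h1 := congrArg (fun m => m.base) hw
    change eqToHom (kBase_eq y t) ≫ (y.map n₁).base = n₂.left ≫ eqToHom (kBase_eq y t') at h1
    rw [base_map] at h1
    simp only [eqToHom_trans_assoc, eqToHom_refl, Category.id_comp] at h1
    exact (cancel_mono _).1 h1
  have htop : t.hom = n₂.left ≫ t'.hom := by
    have h1 := congrArg (fun m => (m ≫ y.map (uu _)).top) hw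
    simp only [Category.assoc] at h1
    rw [← Functor.map_comp, uu_comp, kHom_comp, kHom_comp] at h1
    change (G ◁ t.hom) ≫ (A₀ y).act.act = (G ◁ n₂.left) ≫ (G ◁ t'.hom) ≫ (A₀ y).act.act at h1
    have h2 : unitSec G _ ≫ (G ◁ t.hom) ≫ (A₀ y).act.act =
        unitSec G _ ≫ (G ◁ n₂.left) ≫ (G ◁ t'.hom) ≫ (A₀ y).act.act := by rw [h1]; rfl
    rw [unitSec_whiskerLeft_act, ← MonoidalCategory.whiskerLeft_comp_assoc,
      unitSec_whiskerLeft_act] at h2
    exact h2
  let m : t ⟶ t' := Over.homMk n₂.left htop.symm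
  refine ⟨m, ?_⟩
  apply ObjectProperty.hom_ext
  apply Limits.CategoricalPullback.hom_ext
  · rw [← hn₁]
    apply Over.OverMorphism.ext
    exact hbase.symm
  · rw [← hn₂]
    apply Over.OverMorphism.ext
    rfl

theorem unitSec_whiskerLeft {T T' : Over S} (f : T ⟶ T') :
    unitSec G T ≫ (G ◁ f) = f ≫ unitSec G T' := by
  apply CartesianMonoidalCategory.hom_ext
  · simp only [unitSec, Category.assoc, whiskerLeft_fst, lift_fst]
    rw [← Category.assoc, toUnit_unique (f ≫ toUnit T') (toUnit T)]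
  · simp [unitSec]

theorem exists_preimage (c : Over U) (x : Over X) (θ : y.obj c ≅ (qm K G aX).obj x) :
    ∃ (t : Over (A₀ y).P) (e₁ : (AlgSt.overMap (π₀ y)).obj t ≅ c)
      (e₂ : (AlgSt.overMap (A₀ y).φ).obj t ≅ x),
        (FibCat.overCat U).p.IsHomLift (𝟙 c.left) e₁.hom ∧
        kHom y t ≫ y.map e₁.hom = (qm K G aX).map e₂.hom ≫ θ.inv := by
  obtain ⟨θb, hθb⟩ : ∃ θb : c.left ⟶ x.left, θb = eqToHom (base_obj y c).symm ≫ θ.hom.base :=
    ⟨_, rfl⟩
  obtain ⟨θb', hθb'⟩ : ∃ θb' : x.left ⟶ c.left, θb' = θ.inv.base ≫ eqToHom (base_obj y c) :=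
    ⟨_, rfl⟩
  have hθ₁ : θ.hom.base ≫ θ.inv.base = 𝟙 _ := congrArg (fun m => m.base) θ.hom_inv_id
  have hθ₂ : θ.inv.base ≫ θ.hom.base = 𝟙 _ := congrArg (fun m => m.base) θ.inv_hom_id
  have hb₁ : θb ≫ θb' = 𝟙 _ := by
    rw [hθb, hθb', Category.assoc, reassoc_of% hθ₁, eqToHom_trans, eqToHom_refl]
  have hb₂ : θb' ≫ θb = 𝟙 _ := by
    rw [hθb, hθb', Category.assoc, eqToHom_trans_assoc, eqToHom_refl, Category.id_comp, hθ₂]
    rfl
  have hb₃ : θb ≫ θ.inv.base = eqToHom (base_obj y c).symm := by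
    rw [hθb, Category.assoc, hθ₁, Category.comp_id]
  obtain ⟨σ, hσ⟩ : ∃ σ : x.left ⟶ (y.obj c).P, σ = unitSec G x.left ≫ θ.inv.top := ⟨_, rfl⟩
  have hσπ : σ ≫ (y.obj c).π = θ.inv.base := by
    have h1 : θ.inv.top ≫ (y.obj c).π = snd G x.left ≫ θ.inv.base := θ.inv.cart.w
    rw [hσ, Category.assoc, h1]
    simp [unitSec]
  have hσφ : σ ≫ (y.obj c).φ = x.hom := by
    have h1 : θ.inv.top ≫ (y.obj c).φ = (G ◁ x.hom) ≫ aX.act := θ.inv.wφ
    rw [hσ, Category.assoc, h1]
    exact unitSec_whiskerLeft_act aX x.hom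
  let t : Over (A₀ y).P := Over.mk (θb ≫ σ ≫ (y.map (uu c)).top)
  have h₁ : t.hom ≫ π₀ y = c.hom := by
    have h1 : (y.map (uu c)).top ≫ (A₀ y).π = (y.obj c).π ≫ (y.map (uu c)).base :=
      (y.map (uu c)).cart.w
    change (θb ≫ σ ≫ (y.map (uu c)).top) ≫ (A₀ y).π ≫ eqToHom _ = c.hom
    simp only [Category.assoc]
    rw [reassoc_of% h1, reassoc_of% hσπ, reassoc_of% hb₃, base_map]
    simp [uu]
  have h₂ : t.hom ≫ (A₀ y).φ = θb ≫ x.hom := by
    have h1 : (y.map (uu c)).top ≫ (A₀ y).φ = (y.obj c).φ := (y.map (uu c)).wφ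
    change (θb ≫ σ ≫ (y.map (uu c)).top) ≫ (A₀ y).φ = θb ≫ x.hom
    simp only [Category.assoc]
    rw [h1, hσφ]
  let e₁ : (AlgSt.overMap (π₀ y)).obj t ≅ c := Over.isoMk (Iso.refl _) (by
    change 𝟙 _ ≫ c.hom = t.hom ≫ π₀ y
    rw [Category.id_comp, h₁])
  let e₂ : (AlgSt.overMap (A₀ y).φ).obj t ≅ x := Over.isoMk ⟨θb, θb', hb₁, hb₂⟩ (by
    change θb ≫ x.hom = t.hom ≫ (A₀ y).φ
    rw [h₂])
  refine ⟨t, e₁, e₂, ?_, ?_⟩
  · apply IsHomLift.of_fac _ _ _ rfl rfl
    change 𝟙 _ = 𝟙 _ ≫ 𝟙 _ ≫ 𝟙 _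
    simp
  apply hom_cancel (y.map (uu c))
  · change eqToHom (kBase_eq y t) ≫ (y.map e₁.hom).base = θb ≫ θ.inv.base
    rw [base_map, hb₃]
    change eqToHom _ ≫ eqToHom _ ≫ 𝟙 _ ≫ eqToHom _ = _
    simp
  · have h1 : (kHom y t ≫ y.map e₁.hom) ≫ y.map (uu c) = homOfSection K G aX (A₀ y) t.hom := by
      rw [Category.assoc, ← Functor.map_comp, uu_comp, kHom_comp]
    change ((kHom y t ≫ y.map e₁.hom) ≫ y.map (uu c)).top =
      (((qm K G aX).map e₂.hom ≫ θ.inv) ≫ y.map (uu c)).top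
    rw [h1]
    apply top_eq_of_unitSec K G aX
    change unitSec G t.left ≫ (G ◁ t.hom) ≫ (A₀ y).act.act =
      unitSec G t.left ≫ ((G ◁ θb) ≫ θ.inv.top) ≫ (y.map (uu c)).top
    rw [unitSec_whiskerLeft_act]
    change θb ≫ σ ≫ (y.map (uu c)).top =
      unitSec G c.left ≫ ((G ◁ θb) ≫ θ.inv.top) ≫ (y.map (uu c)).top
    rw [Category.assoc, reassoc_of% (unitSec_whiskerLeft (G := G) θb), hσ, Category.assoc]

theorem cmp_essSurjOver : EssSurjOver (cmp y) := by
  intro w
  obtain ⟨t, e₁, e₂, he₁, hk⟩ := exists_preimage y w.obj.fst w.obj.snd w.obj.iso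
  have hw : y.map e₁.hom ≫ w.obj.iso.hom =
      ((cmp y).obj t).obj.iso.hom ≫ (qm K G aX).map e₂.hom := by
    change y.map e₁.hom ≫ w.obj.iso.hom = inv (kHom y t) ≫ (qm K G aX).map e₂.hom
    rw [IsIso.eq_inv_comp, ← Category.assoc, hk, Category.assoc, Iso.inv_hom_id, Category.comp_id]
  refine ⟨t, ObjectProperty.isoMk _ (Limits.CategoricalPullback.mkIso
    (x := ((cmp y).obj t).obj) (y := w.obj) e₁ e₂ hw), ?_⟩
  rw [fp_isHomLift_iff]
  exact he₁

theorem isEquivOver_cmp : FibCat.IsEquivOver (cmp y) := by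
  have := cmp_faithful y
  have := cmp_full y
  exact isEquivOver_of_fullyFaithful_of_essSurjOver _ (cmp_essSurjOver y)

end Main

section Rep

variable {K G aX} [K.HasIsos]

open Groth.Agent.Lib.Helper15EquivRep Groth.Agent.Lib.Helper15LocQEngine
  Groth.Agent.Lib.Helper15DiagRepSp

theorem repByAlgSpWith_qm (P : MorphismProperty (AlgSp.Sp S))
    (hP : ∀ {U : Over S} (y : FibCat.overCat U ⥤ᵇ AlgSt.QuotSt K G aX),
      P ((AlgSp.yon S).map (π₀ y))) :
    AlgSt.RepByAlgSpWith P (qm K G aX) := by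
  intro U y
  refine ⟨⟨(AlgSp.yon S).obj (A₀ y).P, AlgSp.IsAlgSpace.yon_obj _⟩,
    BasedFunctor.comp (AlgSt.toOverCat (A₀ y).P) (cmp y),
    IsEquivOver.comp _ _ (isEquivOver_toOverCat _) (isEquivOver_cmp y), ?_⟩
  have h : AlgSt.spMapOfOver (BasedFunctor.comp (BasedFunctor.comp (AlgSt.toOverCat (A₀ y).P)
      (cmp y)) (FibCat.fpFst y (qm K G aX))) = (AlgSp.yon S).map (π₀ y) := by
    change AlgSt.spMapOfOver (BasedFunctor.comp (AlgSt.toOverCat (A₀ y).P)
      (AlgSt.overMap (π₀ y))) = _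
    rw [spMapOfOver_comp_overMap, spMapOfOver_toOverCat, Category.id_comp]
  rw [h]
  exact hP y

/-- the structure morphism of an object has the descending properties of the group -/
theorem prop_π_left (Q : MorphismProperty Scheme.{u}) [Q.IsStableUnderBaseChange]
    [IsZariskiLocalAtTarget Q]
    (hQ : Q.DescendsAlong (@Surjective ⊓ @Flat ⊓ @QuasiCompact : MorphismProperty Scheme.{u}))
    (hK : K ≤ Scheme.fpqcPrecoverage) (hG : Q G.hom) (A : AlgSt.QuotObj K G aX) :
    Q A.π.left := by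
  obtain ⟨R, hR, hsec⟩ := A.loc
  refine Groth.Agent.Lib.Helper12.of_mem_fpqcPrecoverage hQ A.π.left R (hK _ hR) ?_
  intro T' f hf
  obtain ⟨s, hs⟩ := hsec f hf
  have hs' : s ≫ A.π.left = f := hs
  let s' : Over.mk (s ≫ A.P.hom) ⟶ A.P := Over.homMk s rfl
  have sq : IsPullback ((G ◁ s') ≫ A.act.act).left (snd G (Over.mk (s ≫ A.P.hom))).left
      A.π.left (s ≫ A.π.left) := (homOfSection K G aX A s').cart.map (Over.forget S)
  rw [hs'] at sq
  have h1 : Q (snd G (Over.mk (s ≫ A.P.hom))).left := by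
    rw [Over.snd_left]
    exact Q.pullback_snd _ _ hG
  have h2 : pullback.snd A.π.left f =
      sq.isoPullback.inv ≫ (snd G (Over.mk (s ≫ A.P.hom))).left := by
    rw [Iso.eq_inv_comp]
    exact sq.isoPullback_hom_snd
  rw [h2]
  exact (Q.cancel_left_of_respectsIso _ _).2 h1

theorem prop_π₀_left (Q : MorphismProperty Scheme.{u}) [Q.IsStableUnderBaseChange]
    [IsZariskiLocalAtTarget Q]
    (hQ : Q.DescendsAlong (@Surjective ⊓ @Flat ⊓ @QuasiCompact : MorphismProperty Scheme.{u}))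
    (hK : K ≤ Scheme.fpqcPrecoverage) (hG : Q G.hom) {U : Over S}
    (y : FibCat.overCat U ⥤ᵇ AlgSt.QuotSt K G aX) : Q (π₀ y).left := by
  have h1 := prop_π_left Q hQ hK hG (A₀ y)
  have h2 : IsIso (eqToHom (base_obj y (Over.mk (𝟙 U)))).left :=
    inferInstanceAs (IsIso ((Over.forget S).map (eqToHom (base_obj y (Over.mk (𝟙 U))))))
  change Q ((A₀ y).π.left ≫ (eqToHom (base_obj y (Over.mk (𝟙 U)))).left)
  exact (Q.cancel_right_of_respectsIso _ _).2 h1

theorem isSurjectiveMor_yon_map {U V : Over S} (h : V ⟶ U) (hs : Surjective h.left) :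
    AlgSp.IsSurjectiveMor ((AlgSp.yon S).map h) := by
  intro x
  obtain ⟨v, hv⟩ := hs.surj (AlgSp.Points.toScheme U x)
  refine ⟨AlgSp.Points.ofScheme V v, ?_⟩
  rw [Groth.Agent.Lib.Helper15LocEss.points_map_yon_ofScheme, hv, AlgSp.Points.ofScheme_toScheme]

end Rep

section Final

theorem surjective_grp_hom : Surjective G.hom := by
  have hη : (η[G]).left ≫ G.hom = 𝟙 S := by
    exact Over.w η[G]
  have : Surjective ((η[G]).left ≫ G.hom) := by
    rw [hη]
    exact ⟨fun x => ⟨x, rfl⟩⟩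
  exact Surjective.of_comp (η[G]).left G.hom

theorem qm_surjective :
    AlgSt.RepByAlgSpWith AlgSp.IsSurjectiveMor (qm Scheme.fppfPrecoverage G aX) :=
  repByAlgSpWith_qm _ (fun y => isSurjectiveMor_yon_map _
    (prop_π₀_left @Surjective inferInstance Scheme.fppfPrecoverage_le_fpqcPrecoverage
      (surjective_grp_hom G) y))

theorem qm_flat [Flat G.hom] :
    AlgSt.RepByAlgSpWith (AlgSp.LocP @Flat) (qm Scheme.fppfPrecoverage G aX) :=
  repByAlgSpWith_qm _ (fun y => Groth.Agent.Lib.Helper15LocEss.locP_yon_map_of_flat _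
    (prop_π₀_left @Flat Groth.Agent.Lib.Helper12.descendsAlong_flat
      Scheme.fppfPrecoverage_le_fpqcPrecoverage inferInstance y))

theorem qm_lfp [LocallyOfFinitePresentation G.hom] :
    AlgSt.RepByAlgSpWith (AlgSp.LocP @LocallyOfFinitePresentation)
      (qm Scheme.fppfPrecoverage G aX) :=
  repByAlgSpWith_qm _ (fun y => Groth.Agent.Lib.Helper15LocEss.locP_yon_map_of_lfp _
    (prop_π₀_left @LocallyOfFinitePresentation inferInstance
      Scheme.fppfPrecoverage_le_fpqcPrecoverage inferInstance y))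

theorem qm_smooth [Smooth G.hom] :
    AlgSt.RepByAlgSpWith (AlgSp.LocP @Smooth) (qm Scheme.fppfPrecoverage G aX) :=
  repByAlgSpWith_qm _ (fun y => Groth.Agent.Lib.T2H6.SmPre.locP_smooth_yon_map _
    (prop_π₀_left @Smooth inferInstance
      Scheme.fppfPrecoverage_le_fpqcPrecoverage inferInstance y))

end Final

end Groth.Agent.Lib.T2H6.QuotRep
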