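-- helper6 (team 2): invariant maps to a sheaf descend to functors from the quotient category.
import Mathlib
import Groth.Agent.Lib.T2H6QuotRep
import Groth.Agent.Lib.Helper15PshFib
import Groth.Agent.Lib.Helper9QuotSh

set_option autoImplicit false
set_option backward.isDefEq.respectTransparency false
set_option backward.isDefEq.respectTransparency.types false
set_option linter.unusedSimpArgs false
set_option linter.unusedSectionVars false
open CategoryTheory CategoryTheory.Limits MonoidalCategory CartesianMonoidalCategory MonObj GrpObj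
  AlgebraicGeometry Opposite

universe w v₁ u₁ v₂ u₂ v u

namespace Groth.Agent.Lib.T2H6.QuotDesc

open Groth.Agent.Lib.T2H6.QuotHom Groth.Agent.Lib.T2H6.QuotLoc Groth.Agent.Lib.Helper17
  Groth.Agent.Lib.T2H6.QuotRep Groth.Agent.Lib.Helper15PshFib

section Strict

variable {C : Type u} [Category.{v} C] {P : Cᵒᵖ ⥤ Type w}
variable {𝒜 : BasedCategory.{v₁, u₁} C}

theorem eltObj_ext {x x' : Stk.EltObj P} (hb : x.base = x'.base)
    (hs : P.map (eqToHom hb).op x'.sec = x.sec) : x = x' := by
  obtain ⟨b, s⟩ := x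
  obtain ⟨b', s'⟩ := x'
  dsimp only at hb
  subst hb
  rw [eqToHom_refl, psh_map_id_op] at hs
  subst hs
  rfl

theorem eltObj_eqToHom_hom {x x' : Stk.EltObj P} (h : x = x') :
    (eqToHom h).hom = eqToHom (congrArg Stk.EltObj.base h) := by
  subst h
  rfl

theorem basedFunctor_ext {ℬ : BasedCategory.{v₂, u₂} C} {F F' : 𝒜 ⥤ᵇ ℬ}
    (h : F.toFunctor = F'.toFunctor) : F = F' := by
  obtain ⟨F, w⟩ := F
  obtain ⟨F', w'⟩ := F'
  dsimp only at h
  subst h
  rfl

/-- functors into the category of a presheaf with the same sections are equal -/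
theorem eq_of_pshSec_eq {H H' : 𝒜 ⥤ᵇ Stk.ofPsh P} (h : ∀ a, pshSec H a = pshSec H' a) :
    H = H' := by
  have hobj : ∀ a, H.obj a = H'.obj a := by
    intro a
    refine eltObj_ext ((pshBase H a).trans (pshBase H' a).symm) ?_
    have h1 := h a
    unfold pshSec at h1
    have h2 := congrArg (P.map (eqToHom (pshBase H a)).op) h1
    rw [psh_map_op_map_op, psh_map_op_map_op] at h2
    simp only [eqToHom_trans, eqToHom_refl] at h2
    rw [psh_map_id_op] at h2
    exact h2.symm
  apply basedFunctor_ext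
  refine CategoryTheory.Functor.ext hobj (fun a a' f => ?_)
  apply Stk.EltObj.hom_ext
  rw [Stk.EltObj.comp_hom, Stk.EltObj.comp_hom, eltObj_eqToHom_hom, eltObj_eqToHom_hom,
    pshHom H f, pshHom H' f]
  simp

end Strict

section Desc

variable {S : Scheme.{u}} {G : Over S} [GrpObj G] [Flat G.hom] [LocallyOfFinitePresentation G.hom]
  {X : Over S} {aX : AlgGrp.Action G X} (N : AlgSp.Sp S)

theorem flat_π (A : AlgSt.QuotObj Scheme.fppfPrecoverage G aX) : Flat A.π.left :=
  prop_π_left @Flat Groth.Agent.Lib.Helper12.descendsAlong_flat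
    Scheme.fppfPrecoverage_le_fpqcPrecoverage inferInstance A

theorem lfp_π (A : AlgSt.QuotObj Scheme.fppfPrecoverage G aX) :
    LocallyOfFinitePresentation A.π.left :=
  prop_π_left @LocallyOfFinitePresentation inferInstance
    Scheme.fppfPrecoverage_le_fpqcPrecoverage inferInstance A

theorem surjective_π (A : AlgSt.QuotObj Scheme.fppfPrecoverage G aX) : Surjective A.π.left :=
  prop_π_left @Surjective inferInstance
    Scheme.fppfPrecoverage_le_fpqcPrecoverage (surjective_grp_hom (G := G)) A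

/-- descent of sections of a sheaf along the structure morphism of an object -/
theorem existsUnique_section (A : AlgSt.QuotObj Scheme.fppfPrecoverage G aX)
    (n : N.obj.obj (op A.P))
    (hn : N.obj.map A.act.act.op n = N.obj.map (snd G A.P).op n) :
    ∃! m : N.obj.obj (op A.base), N.obj.map A.π.op m = n := by
  have := flat_π A
  have := lfp_π A
  have := surjective_π A
  have hsh : Presieve.IsSheaf (AlgSp.J S) N.obj := (isSheaf_iff_isSheaf_of_type _ _).1 N.property
  have h1 := hsh _ (Groth.Agent.Lib.Helper9.generate_singleton_mem_J_fppf A.π)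
  rw [← Presieve.isSheafFor_iff_generate, Presieve.isSheafFor_singleton] at h1
  refine h1 n (fun {Z} p₁ p₂ h => ?_)
  obtain ⟨l, e₁, e₂⟩ : ∃ l : Z ⟶ G ⊗ A.P, l ≫ A.act.act = p₁ ∧ l ≫ snd G A.P = p₂ :=
    ⟨A.cart.lift p₁ p₂ h, A.cart.lift_fst _ _ _, A.cart.lift_snd _ _ _⟩
  rw [← e₁, ← e₂, ← psh_map_op_map_op, ← psh_map_op_map_op, hn]

variable {N}

/-- evaluation of a map from a representable sheaf at a point -/
def ev (f : (AlgSp.yon S).obj X ⟶ N) {T : Over S} (x : T ⟶ X) : N.obj.obj (op T) :=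
  f.hom.app (op T) ⟨x⟩

theorem ev_comp (f : (AlgSp.yon S).obj X ⟶ N) {T T' : Over S} (g : T' ⟶ T) (x : T ⟶ X) :
    N.obj.map g.op (ev f x) = ev f (g ≫ x) :=
  (NatTrans.naturality_apply f.hom g.op ⟨x⟩).symm

variable (f : (AlgSp.yon S).obj X ⟶ N)
  (hf : (AlgSp.yon S).map aX.act ≫ f = (AlgSp.yon S).map (snd G X) ≫ f)

include hf in
theorem ev_inv {T : Over S} (l : T ⟶ G ⊗ X) : ev f (l ≫ aX.act) = ev f (l ≫ snd G X) := by
  have h1 := congrArg (fun t => t.hom.app (op T) ⟨l⟩) hf
  exact h1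

include hf in
theorem ev_cond (A : AlgSt.QuotObj Scheme.fppfPrecoverage G aX) :
    N.obj.map A.act.act.op (ev f A.φ) = N.obj.map (snd G A.P).op (ev f A.φ) := by
  rw [ev_comp, ev_comp, A.eqv, ev_inv f hf, whiskerLeft_snd]

/-- the descended section at an object -/
noncomputable def descSec (A : AlgSt.QuotObj Scheme.fppfPrecoverage G aX) :
    N.obj.obj (op A.base) :=
  (existsUnique_section N A (ev f A.φ) (ev_cond f hf A)).exists.choose

theorem descSec_spec (A : AlgSt.QuotObj Scheme.fppfPrecoverage G aX) :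
    N.obj.map A.π.op (descSec f hf A) = ev f A.φ :=
  (existsUnique_section N A (ev f A.φ) (ev_cond f hf A)).exists.choose_spec

theorem descSec_unique (A : AlgSt.QuotObj Scheme.fppfPrecoverage G aX) (m : N.obj.obj (op A.base))
    (hm : N.obj.map A.π.op m = ev f A.φ) : m = descSec f hf A :=
  (existsUnique_section N A (ev f A.φ) (ev_cond f hf A)).unique hm (descSec_spec f hf A)

theorem descSec_map {A B : AlgSt.QuotObj Scheme.fppfPrecoverage G aX} (h : A ⟶ B) :
    N.obj.map h.base.op (descSec f hf B) = descSec f hf A := by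
  apply descSec_unique
  rw [psh_map_op_map_op, ← h.cart.w, ← psh_map_op_map_op, descSec_spec, ev_comp, h.wφ]

/-- the functor from the quotient category determined by an invariant map -/
noncomputable def descF : AlgSt.QuotSt Scheme.fppfPrecoverage G aX ⥤ᵇ AlgSt.ofSp N :=
  pshOfFam (𝒜 := AlgSt.QuotSt Scheme.fppfPrecoverage G aX) (descSec f hf)
    (fun h => descSec_map f hf h)

theorem pshSec_descF (A : AlgSt.QuotObj Scheme.fppfPrecoverage G aX) :
    pshSec (descF f hf) A = descSec f hf A :=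
  pshSec_ofFam (𝒜 := AlgSt.QuotSt Scheme.fppfPrecoverage G aX) (descSec f hf)
    (fun h => descSec_map f hf h) A

theorem pshSec_comp_quotMap (φ : AlgSt.QuotSt Scheme.fppfPrecoverage G aX ⥤ᵇ AlgSt.ofSp N)
    (a : (AlgSt.ofSch X).obj) :
    pshSec (BasedFunctor.comp (AlgSt.quotMap Scheme.fppfPrecoverage G aX) φ) a =
      pshSec φ ((AlgSt.quotMap Scheme.fppfPrecoverage G aX).obj a) := by
  rw [pshSec_comp]
  exact psh_map_id_op _ _

theorem pshSec_ofSpMap (a : (AlgSt.ofSch X).obj) :
    pshSec (AlgSt.ofSpMap f) a = ev f a.sec.down :=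
  pshSec_ofPshMap f.hom a

theorem descSec_quotMap (a : (AlgSt.ofSch X).obj) :
    descSec f hf ((AlgSt.quotMap Scheme.fppfPrecoverage G aX).obj a) = ev f a.sec.down := by
  refine (descSec_unique f hf ((AlgSt.quotMap Scheme.fppfPrecoverage G aX).obj a)
    (ev f a.sec.down) ?_).symm
  change N.obj.map (snd G a.base).op (ev f a.sec.down) = ev f ((G ◁ a.sec.down) ≫ aX.act)
  rw [ev_comp, ev_inv f hf, whiskerLeft_snd]

theorem descF_quotMap :
    BasedFunctor.comp (AlgSt.quotMap Scheme.fppfPrecoverage G aX) (descF f hf) =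
      AlgSt.ofSpMap f := by
  apply eq_of_pshSec_eq
  intro a
  rw [pshSec_comp_quotMap, pshSec_descF, descSec_quotMap, pshSec_ofSpMap]

/-- a functor from the quotient category is determined by its restriction -/
theorem pshSec_eq_descSec (φ : AlgSt.QuotSt Scheme.fppfPrecoverage G aX ⥤ᵇ AlgSt.ofSp N)
    (hφ : ∀ a, pshSec (BasedFunctor.comp (AlgSt.quotMap Scheme.fppfPrecoverage G aX) φ) a =
      ev f a.sec.down)
    (A : AlgSt.QuotObj Scheme.fppfPrecoverage G aX) : pshSec φ A = descSec f hf A := by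
  apply descSec_unique
  have h1 := pshSec_map φ (homOfSection Scheme.fppfPrecoverage G aX A (𝟙 A.P))
  have h2 := hφ ((AlgSt.ofOverCat X).obj (Over.mk (𝟙 A.P ≫ A.φ)))
  rw [pshSec_comp_quotMap] at h2
  rw [h2] at h1
  change N.obj.map (𝟙 A.P ≫ A.π).op (pshSec φ A) = ev f (𝟙 A.P ≫ A.φ) at h1
  rw [Category.id_comp, Category.id_comp] at h1
  exact h1

theorem eq_descF (φ : AlgSt.QuotSt Scheme.fppfPrecoverage G aX ⥤ᵇ AlgSt.ofSp N)
    (hφ : BasedFunctor.comp (AlgSt.quotMap Scheme.fppfPrecoverage G aX) φ = AlgSt.ofSpMap f) :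
    φ = descF f hf := by
  apply eq_of_pshSec_eq
  intro A
  rw [pshSec_descF]
  apply pshSec_eq_descSec
  intro a
  rw [hφ, pshSec_ofSpMap]

include hf in
theorem existsUnique_descF :
    ∃! φ : AlgSt.QuotSt Scheme.fppfPrecoverage G aX ⥤ᵇ AlgSt.ofSp N,
      BasedFunctor.comp (AlgSt.quotMap Scheme.fppfPrecoverage G aX) φ = AlgSt.ofSpMap f :=
  ⟨descF f hf, descF_quotMap f hf, fun φ hφ => eq_descF f hf φ hφ⟩

end Desc

end Groth.Agent.Lib.T2H6.QuotDesc
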