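-- helper6 (team 2): functors from the quotient category to a sheaf correspond to invariant maps.
import Mathlib
import Groth.Agent.Lib.T2H6QuotDesc
import Groth.Prelude.Def_StCoarse
import Groth.Prelude.Def_W4bk4git07Quot

set_option autoImplicit false
set_option backward.isDefEq.respectTransparency false
set_option backward.isDefEq.respectTransparency.types false
set_option linter.unusedSimpArgs false
set_option linter.unusedSectionVars false
open CategoryTheory CategoryTheory.Limits MonoidalCategory CartesianMonoidalCategory MonObj GrpObj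
  AlgebraicGeometry Opposite

universe u

namespace Groth.Agent.Lib.T2H6.QuotMod

open Groth.Agent.Lib.T2H6.QuotHom Groth.Agent.Lib.T2H6.QuotLoc Groth.Agent.Lib.Helper17
  Groth.Agent.Lib.T2H6.QuotRep Groth.Agent.Lib.Helper15PshFib Groth.Agent.Lib.T2H6.QuotDesc

variable {S : Scheme.{u}} {G : Over S} [GrpObj G] [Flat G.hom] [LocallyOfFinitePresentation G.hom]
  {X : Over S} {aX : AlgGrp.Action G X} {N M : AlgSp.Sp S}

local notation "𝒬" => AlgSt.QuotSt Scheme.fppfPrecoverage G aX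
local notation "qmap" => AlgSt.quotMap Scheme.fppfPrecoverage G aX

/-- the restriction of a functor from the quotient category to a map from the sheaf of `X` -/
noncomputable def res (φ : 𝒬 ⥤ᵇ AlgSt.ofSp N) : (AlgSp.yon S).obj X ⟶ N :=
  ObjectProperty.homMk (pshMapOf (BasedFunctor.comp qmap φ))

theorem ev_res (φ : 𝒬 ⥤ᵇ AlgSt.ofSp N) {T : Over S} (x : T ⟶ X) :
    ev (res φ) x = pshSec φ ((qmap).obj ⟨T, ⟨x⟩⟩) := by
  change pshSec (BasedFunctor.comp qmap φ) ⟨T, ⟨x⟩⟩ = _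
  exact pshSec_comp_quotMap φ ⟨T, ⟨x⟩⟩

theorem hom_ext_ev {f g : (AlgSp.yon S).obj X ⟶ N}
    (h : ∀ {T : Over S} (x : T ⟶ X), ev f x = ev g x) : f = g := by
  apply ObjectProperty.hom_ext
  apply NatTrans.ext
  funext T
  ext x
  exact h x.down

theorem res_invariant (φ : 𝒬 ⥤ᵇ AlgSt.ofSp N) :
    (AlgSp.yon S).map aX.act ≫ res φ = (AlgSp.yon S).map (snd G X) ≫ res φ := by
  apply ObjectProperty.hom_ext
  apply NatTrans.ext
  funext T
  ext l
  change ev (res φ) (l.down ≫ aX.act) = ev (res φ) (l.down ≫ snd G X)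
  rw [ev_res, ev_res]
  have hg : lift (l.down ≫ fst G X) (𝟙 _ ≫ (l.down ≫ snd G X)) ≫ aX.act = l.down ≫ aX.act := by
    rw [Category.id_comp, ← comp_lift, lift_fst_snd, Category.comp_id]
  have h1 := pshSec_map φ (rightMulHom Scheme.fppfPrecoverage G aX (𝟙 T.unop) (l.down ≫ aX.act)
    (l.down ≫ snd G X) (l.down ≫ fst G X) hg)
  change N.obj.map (𝟙 T.unop).op _ = _ at h1
  rw [psh_map_id_op] at h1
  exact h1.symm

theorem comp_quotMap_eq (φ : 𝒬 ⥤ᵇ AlgSt.ofSp N) :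
    BasedFunctor.comp qmap φ = AlgSt.ofSpMap (res φ) := by
  apply eq_of_pshSec_eq
  intro a
  rw [pshSec_comp_quotMap, pshSec_ofSpMap, ev_res]
  rfl

theorem eq_descF_res (φ : 𝒬 ⥤ᵇ AlgSt.ofSp N) : φ = descF (res φ) (res_invariant φ) :=
  eq_descF _ _ φ (comp_quotMap_eq φ)

theorem res_eq_of_hom {φ φ' : 𝒬 ⥤ᵇ AlgSt.ofSp N} (α : φ ⟶ φ') : res φ = res φ' := by
  apply hom_ext_ev
  intro T x
  rw [ev_res, ev_res]
  exact pshSec_eq_of_hom α _

theorem eq_of_res_eq {φ φ' : 𝒬 ⥤ᵇ AlgSt.ofSp N} (h : res φ = res φ') : φ = φ' := by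
  have h1 := eq_descF (res φ') (res_invariant φ') φ (by rw [comp_quotMap_eq, h])
  rw [h1]
  exact (eq_descF_res φ').symm

theorem nonempty_iso_iff (φ φ' : 𝒬 ⥤ᵇ AlgSt.ofSp N) : Nonempty (φ ≅ φ') ↔ res φ = res φ' :=
  ⟨fun ⟨e⟩ => res_eq_of_hom e.hom, fun h => ⟨eqToIso (eq_of_res_eq h)⟩⟩

theorem res_comp (π : 𝒬 ⥤ᵇ AlgSt.ofSp M) (g : M ⟶ N) :
    res (BasedFunctor.comp π (AlgSt.ofSpMap g)) = res π ≫ g := by
  apply hom_ext_ev
  intro T x
  rw [ev_res]
  have h1 := pshSec_comp_ofPshMap π g.hom ((qmap).obj ⟨T, ⟨x⟩⟩)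
  refine h1.trans ?_
  rw [← ev_res]
  rfl

theorem res_descF (f : (AlgSp.yon S).obj X ⟶ N)
    (hf : (AlgSp.yon S).map aX.act ≫ f = (AlgSp.yon S).map (snd G X) ≫ f) :
    res (descF f hf) = f := by
  apply hom_ext_ev
  intro T x
  rw [ev_res, pshSec_descF, descSec_quotMap]

theorem res_eq_of_iso (π : 𝒬 ⥤ᵇ AlgSt.ofSp M) (f : (AlgSp.yon S).obj X ⟶ M)
    (h : Nonempty (BasedFunctor.comp qmap π ≅ AlgSt.ofSpMap f)) : res π = f := by
  obtain ⟨e⟩ := h
  apply hom_ext_ev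
  intro T x
  have h1 := pshSec_eq_of_hom e.hom ⟨T, ⟨x⟩⟩
  rw [pshSec_ofSpMap] at h1
  exact h1

section Rep

theorem isRepresentable_yon (Y : Over S) : ((AlgSp.yon S).obj Y).obj.IsRepresentable :=
  inferInstanceAs (CategoryTheory.uliftYoneda.{u + 1}.obj Y).IsRepresentable

theorem exists_iso_yon_of_isRepresentable (N : AlgSp.Sp S) (h : N.obj.IsRepresentable) :
    ∃ Z : Over S, Nonempty ((AlgSp.yon S).obj Z ≅ N) := by
  obtain ⟨Z, ⟨rep⟩⟩ := h.has_representation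
  have e : CategoryTheory.uliftYoneda.{u + 1}.obj Z ≅ N.obj :=
    (Functor.RepresentableBy.equivUliftYonedaIso N.obj Z) rep
  exact ⟨Z, ⟨ObjectProperty.isoMk _ e⟩⟩

end Rep

theorem invariant_of_yon {Z : Over S} (ψ : X ⟶ Z)
    (h : (AlgSp.yon S).map aX.act ≫ (AlgSp.yon S).map ψ =
      (AlgSp.yon S).map (snd G X) ≫ (AlgSp.yon S).map ψ) : aX.act ≫ ψ = snd G X ≫ ψ := by
  apply (AlgSp.yon S).map_injective
  rw [Functor.map_comp, Functor.map_comp, h]

theorem isCatModuliSch_iff (Y : Over S) (f : X ⟶ Y) (π : 𝒬 ⥤ᵇ AlgSt.ofSch Y)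
    (hπ : Nonempty (BasedFunctor.comp qmap π ≅ AlgSt.ofSpMap ((AlgSp.yon S).map f))) :
    AlgSt.IsCatModuliSch π ↔ GIT.IsCatQuot aX f := by
  have hres : res π = (AlgSp.yon S).map f := res_eq_of_iso π _ hπ
  have hinv : aX.act ≫ f = snd G X ≫ f := by
    apply invariant_of_yon
    rw [← hres]
    exact res_invariant π
  constructor
  · rintro ⟨-, huniv⟩
    refine ⟨hinv, fun Z ψ hψ => ?_⟩
    have hψ' : (AlgSp.yon S).map aX.act ≫ (AlgSp.yon S).map ψ =
        (AlgSp.yon S).map (snd G X) ≫ (AlgSp.yon S).map ψ := by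
      rw [← Functor.map_comp, ← Functor.map_comp]
      exact congrArg _ hψ
    obtain ⟨g, hg, hguniq⟩ := huniv _ (isRepresentable_yon Z) (descF _ hψ')
    obtain ⟨χ, rfl⟩ := (AlgSp.yon S).map_surjective g
    rw [nonempty_iso_iff, res_comp, hres, res_descF, ← Functor.map_comp] at hg
    refine ⟨χ, (AlgSp.yon S).map_injective hg, fun χ' hχ' => ?_⟩
    apply (AlgSp.yon S).map_injective
    apply hguniq
    rw [nonempty_iso_iff, res_comp, hres, res_descF, ← Functor.map_comp, hχ']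
  · rintro ⟨-, huniv⟩
    refine ⟨isRepresentable_yon Y, fun N hN φ => ?_⟩
    obtain ⟨Z, ⟨e⟩⟩ := exists_iso_yon_of_isRepresentable N hN
    obtain ⟨ψ, hψ⟩ := (AlgSp.yon S).map_surjective (res φ ≫ e.inv)
    have hψinv : aX.act ≫ ψ = snd G X ≫ ψ := by
      apply invariant_of_yon
      rw [hψ, ← Category.assoc, ← Category.assoc, res_invariant φ]
    obtain ⟨χ, hχ, hχuniq⟩ := huniv Z ψ hψinv
    refine ⟨(AlgSp.yon S).map χ ≫ e.hom, ?_, fun g' hg' => ?_⟩
    · change Nonempty _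
      rw [nonempty_iso_iff, res_comp, hres, ← Category.assoc, ← Functor.map_comp, hχ, hψ,
        Category.assoc, Iso.inv_hom_id, Category.comp_id]
    · change Nonempty _ at hg'
      rw [nonempty_iso_iff, res_comp, hres] at hg'
      obtain ⟨χ', hχ'⟩ := (AlgSp.yon S).map_surjective (g' ≫ e.inv)
      have h1 : f ≫ χ' = ψ := by
        apply (AlgSp.yon S).map_injective
        rw [Functor.map_comp, hχ', hψ, ← Category.assoc, hg']
      have h2 := hχuniq χ' h1
      rw [← h2, hχ', Category.assoc, Iso.inv_hom_id, Category.comp_id]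

end Groth.Agent.Lib.T2H6.QuotMod
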