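-- helper6 (team 2): the quotient category over a categorical quotient whose geometric fibres are
-- orbits.
import Mathlib
import Groth.Agent.Lib.T2H6QuotMod
import Groth.Agent.Lib.Helper11HomSm

set_option autoImplicit false
set_option backward.isDefEq.respectTransparency false
set_option backward.isDefEq.respectTransparency.types false
set_option linter.unusedSimpArgs false
set_option linter.unusedSectionVars false
open CategoryTheory CategoryTheory.Limits MonoidalCategory CartesianMonoidalCategory MonObj GrpObj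
  AlgebraicGeometry Opposite

universe w v u

namespace Groth.Agent.Lib.T2H6.QuotCoarse

open Groth.Agent.Lib.T2H6.QuotHom Groth.Agent.Lib.T2H6.QuotLoc Groth.Agent.Lib.Helper17
  Groth.Agent.Lib.T2H6.QuotRep Groth.Agent.Lib.Helper15PshFib Groth.Agent.Lib.T2H6.QuotDesc
  Groth.Agent.Lib.T2H6.QuotMod

section Fib

variable {S : Scheme.{u}} {𝒳 : BasedCategory.{v, w} (Over S)} {M : AlgSp.Sp S}

theorem fibSec_eq_pshSec (π : 𝒳 ⥤ᵇ AlgSt.ofSp M) {T : Over S} (x : 𝒳.p.Fiber T) :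
    AlgSt.fibSec π x = M.obj.map (eqToHom x.2.symm).op (pshSec π x.1) := by
  unfold AlgSt.fibSec pshSec
  rw [psh_map_op_map_op, eqToHom_trans]
  rfl

theorem fibSec_eq_of_hom (π : 𝒳 ⥤ᵇ AlgSt.ofSp M) {T : Over S} {x y : 𝒳.p.Fiber T}
    (m : x.1 ⟶ y.1) [𝒳.p.IsHomLift (𝟙 T) m] : AlgSt.fibSec π x = AlgSt.fibSec π y := by
  rw [fibSec_eq_pshSec, fibSec_eq_pshSec, ← pshSec_map π m, psh_map_op_map_op,
    IsHomLift.fac' 𝒳.p (𝟙 T) m]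
  congr 2
  simp

theorem fiber_iso_of_iso {T : Over S} (x y : 𝒳.p.Fiber T) (e : x.1 ≅ y.1)
    (h : 𝒳.p.IsHomLift (𝟙 T) e.hom) : Nonempty (x ≅ y) := by
  have h' : 𝒳.p.IsHomLift (𝟙 T) e.inv := IsHomLift.lift_id_inv 𝒳.p T e
  exact ⟨⟨⟨e.hom, h⟩, ⟨e.inv, h'⟩, Subtype.ext e.hom_inv_id, Subtype.ext e.inv_hom_id⟩⟩

end Fib

section Main

variable {S : Scheme.{u}} {G : Over S} [GrpObj G] [Flat G.hom] [LocallyOfFinitePresentation G.hom]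
  {X : Over S} {aX : AlgGrp.Action G X}

local notation "𝒬" => AlgSt.QuotSt Scheme.fppfPrecoverage G aX
local notation "qmap" => AlgSt.quotMap Scheme.fppfPrecoverage G aX

/-- an object over an algebraically closed field is trivial -/
theorem exists_triv (Ω : Type u) [Field Ω] [IsAlgClosed Ω] (t : Spec (CommRingCat.of Ω) ⟶ S)
    (x : (𝒬).p.Fiber (Over.mk t)) :
    ∃ (x₀ : Over.mk t ⟶ X) (e : (qmap).obj ⟨Over.mk t, ⟨x₀⟩⟩ ≅ x.1),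
      (𝒬).p.IsHomLift (𝟙 (Over.mk t)) e.hom := by
  obtain ⟨A, hA⟩ := x
  have hA' : A.base = Over.mk t := hA
  have := surjective_π A
  have hlfp := lfp_π A
  have : LocallyOfFiniteType A.π.left := inferInstance
  obtain ⟨g, hg⟩ := Groth.Agent.Lib.Helper11HomSm.exists_lift_point A.π.left
    (eqToHom hA'.symm).left
  let s : Over.mk t ⟶ A.P := Over.homMk g (by
    change g ≫ A.P.hom = t
    rw [← Over.w A.π, reassoc_of% hg]
    exact Over.w (eqToHom hA'.symm))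
  have hs : s ≫ A.π = eqToHom hA'.symm := by
    apply Over.OverMorphism.ext
    exact hg
  let h := homOfSection Scheme.fppfPrecoverage G aX A s
  have hbase : h.base = eqToHom hA'.symm := hs
  have : IsIso h.base := by rw [hbase]; infer_instance
  have : IsIso h := isIso_of_isIso_base h
  refine ⟨s ≫ A.φ, asIso h, ?_⟩
  apply IsHomLift.of_fac _ _ _ rfl hA'
  change 𝟙 _ = 𝟙 _ ≫ h.base ≫ eqToHom hA'
  rw [hbase]
  simp

theorem iso_of_translate {T : Over S} (x₀ x₀' : T ⟶ X) (g : T ⟶ G)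
    (hg : lift g x₀' ≫ aX.act = x₀) :
    ∃ e : (qmap).obj ⟨T, ⟨x₀⟩⟩ ≅ (qmap).obj ⟨T, ⟨x₀'⟩⟩, (𝒬).p.IsHomLift (𝟙 T) e.hom := by
  have hg' : lift g (𝟙 T ≫ x₀') ≫ aX.act = x₀ := by rw [Category.id_comp]; exact hg
  let h := rightMulHom Scheme.fppfPrecoverage G aX (𝟙 T) x₀ x₀' g hg'
  have : IsIso h.base := (inferInstance : IsIso (𝟙 T))
  have := isIso_of_isIso_base h
  refine ⟨asIso h, ?_⟩
  apply IsHomLift.of_fac _ _ _ rfl rfl
  change 𝟙 T = 𝟙 _ ≫ 𝟙 T ≫ 𝟙 _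
  simp

theorem fibSec_quotMap {M : AlgSp.Sp S} (π : 𝒬 ⥤ᵇ AlgSt.ofSp M) {T : Over S} (x₀ : T ⟶ X) :
    AlgSt.fibSec π (⟨(qmap).obj ⟨T, ⟨x₀⟩⟩, rfl⟩ : (𝒬).p.Fiber T) = ev (res π) x₀ := by
  rw [fibSec_eq_pshSec, ev_res]
  exact psh_map_id_op _ _

theorem isCoarseModuli (Y : Over S) (f : X ⟶ Y)
    (horb : ∀ (Ω : Type u) [Field Ω] [IsAlgClosed Ω] (t : Spec (CommRingCat.of Ω) ⟶ S),
      (∀ y : Over.mk t ⟶ Y, ∃ x : Over.mk t ⟶ X, x ≫ f = y) ∧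
      (∀ x x' : Over.mk t ⟶ X, x ≫ f = x' ≫ f → ∃ g : Over.mk t ⟶ G, lift g x' ≫ aX.act = x))
    (hcat : ∀ (N : AlgSp.Space S) (ψ : (AlgSp.yon S).obj X ⟶ N.obj),
      (AlgSp.yon S).map aX.act ≫ ψ = (AlgSp.yon S).map (snd G X) ≫ ψ →
        ∃! χ : (AlgSp.yon S).obj Y ⟶ N.obj, (AlgSp.yon S).map f ≫ χ = ψ)
    (π : 𝒬 ⥤ᵇ AlgSt.ofSch Y)
    (hπ : Nonempty (BasedFunctor.comp qmap π ≅ AlgSt.ofSpMap ((AlgSp.yon S).map f))) :
    AlgSt.IsCoarseModuli π := by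
  have hres : res π = (AlgSp.yon S).map f := res_eq_of_iso π _ hπ
  have hsec : ∀ {T : Over S} (x₀ : T ⟶ X),
      AlgSt.fibSec π (⟨(qmap).obj ⟨T, ⟨x₀⟩⟩, rfl⟩ : (𝒬).p.Fiber T) = ⟨x₀ ≫ f⟩ := by
    intro T x₀
    rw [fibSec_quotMap, hres]
    rfl
  refine ⟨⟨AlgSp.IsAlgSpace.yon_obj Y, fun N hN φ => ?_⟩,
    fun Ω _ _ t => ⟨fun m => ?_, fun x y hxy => ?_⟩⟩
  · obtain ⟨χ, hχ, hχuniq⟩ := hcat ⟨N, hN⟩ (res φ) (res_invariant φ)
    refine ⟨χ, ?_, fun g' hg' => ?_⟩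
    · change Nonempty _
      rw [nonempty_iso_iff, res_comp, hres]
      exact hχ
    · change Nonempty _ at hg'
      rw [nonempty_iso_iff, res_comp, hres] at hg'
      exact hχuniq g' hg'
  · obtain ⟨x₀, hx₀⟩ := (horb Ω t).1 m.down
    refine ⟨⟨(qmap).obj ⟨Over.mk t, ⟨x₀⟩⟩, rfl⟩, ?_⟩
    rw [hsec, hx₀]
    rfl
  · obtain ⟨x₀, e, he⟩ := exists_triv Ω t x
    obtain ⟨y₀, e', he'⟩ := exists_triv Ω t y
    have h1 : AlgSt.fibSec π x = ⟨x₀ ≫ f⟩ := by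
      rw [← hsec x₀]
      exact (@fibSec_eq_of_hom _ _ _ π (Over.mk t) ⟨(qmap).obj ⟨Over.mk t, ⟨x₀⟩⟩, rfl⟩ x
        e.hom he).symm
    have h2 : AlgSt.fibSec π y = ⟨y₀ ≫ f⟩ := by
      rw [← hsec y₀]
      exact (@fibSec_eq_of_hom _ _ _ π (Over.mk t) ⟨(qmap).obj ⟨Over.mk t, ⟨y₀⟩⟩, rfl⟩ y
        e'.hom he').symm
    rw [h1, h2] at hxy
    have h3 : x₀ ≫ f = y₀ ≫ f := congrArg ULift.down hxy
    obtain ⟨g, hg⟩ := (horb Ω t).2 x₀ y₀ h3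
    obtain ⟨e'', he''⟩ := iso_of_translate x₀ y₀ g hg
    have : (𝒬).p.IsHomLift (𝟙 (Over.mk t)) e.inv := IsHomLift.lift_id_inv (𝒬).p _ e
    have h4 : (𝒬).p.IsHomLift (𝟙 (Over.mk t)) (e.symm ≪≫ e'' ≪≫ e').hom := by
      change (𝒬).p.IsHomLift (𝟙 (Over.mk t)) (e.inv ≫ e''.hom ≫ e'.hom)
      have h5 : 𝟙 (Over.mk t) = 𝟙 (Over.mk t) ≫ 𝟙 (Over.mk t) ≫ 𝟙 (Over.mk t) := by simp
      rw [h5]
      infer_instance
    exact fiber_iso_of_iso x y (e.symm ≪≫ e'' ≪≫ e') h4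

end Main

end Groth.Agent.Lib.T2H6.QuotCoarse
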