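-- helper6 (team 2): the fibre of the quotient category over an algebraically closed field.
import Mathlib
import Groth.Prelude.Def_AlgSt5
import Groth.Agent.Lib.T2H6QuotRep
import Groth.Agent.Lib.Helper11HomSm

set_option autoImplicit false
set_option backward.isDefEq.respectTransparency false
set_option backward.isDefEq.respectTransparency.types false
set_option linter.unusedSimpArgs false
set_option linter.unusedSectionVars false
open CategoryTheory CategoryTheory.Limits MonoidalCategory CartesianMonoidalCategory MonObj GrpObj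
  AlgebraicGeometry Opposite

universe u

namespace Groth.Agent.Lib.T2H6.QuotFib

open Groth.Agent.Lib.T2H6.QuotHom Groth.Agent.Lib.T2H6.QuotLoc Groth.Agent.Lib.T2H6.QuotRep

variable {S : Scheme.{u}} {K : Precoverage Scheme.{u}} [K.HasIsos] {G : Over S} [GrpObj G]
  {X : Over S} {aX : AlgGrp.Action G X}

/-- two sections over the same base morphism differ by a section of the group -/
theorem exists_translate {A B : AlgSt.QuotObj K G aX} (h : A ⟶ B) {T : Over S} (tA : T ⟶ A.P)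
    (tB : T ⟶ B.P) (hcomp : tA ≫ A.π ≫ h.base = tB ≫ B.π) :
    ∃ g : T ⟶ G, lift g (tB ≫ B.φ) ≫ aX.act = tA ≫ A.φ := by
  have h1 : (tA ≫ h.top) ≫ B.π = tB ≫ B.π := by
    rw [Category.assoc, h.cart.w, hcomp]
  obtain ⟨l, hl₁, hl₂⟩ : ∃ l : T ⟶ G ⊗ B.P, l ≫ B.act.act = tA ≫ h.top ∧ l ≫ snd G B.P = tB :=
    ⟨B.cart.lift (tA ≫ h.top) tB h1, B.cart.lift_fst _ _ _, B.cart.lift_snd _ _ _⟩
  have hl : l = lift (l ≫ fst G B.P) tB := by
    apply CartesianMonoidalCategory.hom_ext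
    · rw [lift_fst]
    · rw [lift_snd, hl₂]
  refine ⟨l ≫ fst G B.P, ?_⟩
  calc lift (l ≫ fst G B.P) (tB ≫ B.φ) ≫ aX.act
      = lift (l ≫ fst G B.P) tB ≫ (G ◁ B.φ) ≫ aX.act := by rw [lift_whiskerLeft_assoc]
    _ = lift (l ≫ fst G B.P) tB ≫ B.act.act ≫ B.φ := by rw [B.eqv]
    _ = (tA ≫ h.top) ≫ B.φ := by rw [← hl, ← Category.assoc, hl₁]
    _ = tA ≫ A.φ := by rw [Category.assoc, h.wφ]

theorem fiber_iso_of_iso {𝒳 : AlgSt.Cat S} {T : Over S} (x y : 𝒳.p.Fiber T) (e : x.1 ≅ y.1)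
    (h : 𝒳.p.IsHomLift (𝟙 T) e.hom) : Nonempty (x ≅ y) := by
  have h' : 𝒳.p.IsHomLift (𝟙 T) e.inv := IsHomLift.lift_id_inv 𝒳.p T e
  exact ⟨⟨⟨e.hom, h⟩, ⟨e.inv, h'⟩, Subtype.ext e.hom_inv_id, Subtype.ext e.inv_hom_id⟩⟩

section AlgClosed

variable (hK : K ≤ Scheme.fpqcPrecoverage) [LocallyOfFinitePresentation G.hom]
  (Ω : Type u) [Field Ω] [IsAlgClosed Ω] (t : Spec (CommRingCat.of Ω) ⟶ S)

include hK in
/-- over an algebraically closed field every object has a section -/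
theorem exists_section (A : (AlgSt.QuotObj.forget K G aX).Fiber (Over.mk t)) :
    ∃ s : Over.mk t ⟶ A.1.P, s ≫ A.1.π = eqToHom A.2.symm := by
  have hA' : A.1.base = Over.mk t := A.2
  have h1 : Surjective A.1.π.left :=
    prop_π_left @Surjective inferInstance hK (surjective_grp_hom (G := G)) A.1
  have h2 : LocallyOfFinitePresentation A.1.π.left :=
    prop_π_left @LocallyOfFinitePresentation inferInstance hK inferInstance A.1
  have : LocallyOfFiniteType A.1.π.left := inferInstance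
  obtain ⟨g, hg⟩ := Groth.Agent.Lib.Helper11HomSm.exists_lift_point A.1.π.left
    (eqToHom hA'.symm).left
  refine ⟨Over.homMk g ?_, ?_⟩
  · change g ≫ A.1.P.hom = t
    rw [← Over.w A.1.π, reassoc_of% hg]
    exact Over.w (eqToHom hA'.symm)
  · apply Over.OverMorphism.ext
    exact hg

/-- the isomorphism classes of the fibre are the orbits -/
theorem nonempty_iso_iff (A B : (AlgSt.QuotObj.forget K G aX).Fiber (Over.mk t))
    (tA : Over.mk t ⟶ A.1.P) (tB : Over.mk t ⟶ B.1.P)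
    (hA : tA ≫ A.1.π = eqToHom A.2.symm) (hB : tB ≫ B.1.π = eqToHom B.2.symm) :
    Nonempty (A ≅ B) ↔ ∃ g : Over.mk t ⟶ G, lift g (tA ≫ A.1.φ) ≫ aX.act = tB ≫ B.1.φ := by
  constructor
  · rintro ⟨e⟩
    have hb : (AlgSt.QuotObj.forget K G aX).IsHomLift (𝟙 (Over.mk t)) e.inv.1 := e.inv.2
    have hbase : e.inv.1.base = eqToHom B.2 ≫ 𝟙 _ ≫ eqToHom A.2.symm :=
      IsHomLift.fac' (AlgSt.QuotObj.forget K G aX) (𝟙 (Over.mk t)) e.inv.1
    apply exists_translate e.inv.1 tB tA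
    rw [hA, ← Category.assoc, hB, hbase]
    simp
  · rintro ⟨g, hg⟩
    let hAs := homOfSection K G aX A.1 tA
    let hBs := homOfSection K G aX B.1 tB
    have hAb : hAs.base = eqToHom A.2.symm := hA
    have hBb : hBs.base = eqToHom B.2.symm := hB
    have : IsIso hAs.base := by rw [hAb]; infer_instance
    have : IsIso hBs.base := by rw [hBb]; infer_instance
    have := isIso_of_isIso_base hAs
    have := isIso_of_isIso_base hBs
    have hg' : lift g (𝟙 (Over.mk t) ≫ tA ≫ A.1.φ) ≫ aX.act = tB ≫ B.1.φ := by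
      rw [Category.id_comp]; exact hg
    let r := rightMulHom K G aX (𝟙 (Over.mk t)) (tB ≫ B.1.φ) (tA ≫ A.1.φ) g hg'
    have : IsIso r.base := (inferInstance : IsIso (𝟙 (Over.mk t)))
    have := isIso_of_isIso_base r
    let e' : A.1 ≅ B.1 := (asIso hAs).symm ≪≫ (asIso r).symm ≪≫ asIso hBs
    refine fiber_iso_of_iso (𝒳 := AlgSt.QuotSt K G aX) A B e' ?_
    apply IsHomLift.of_fac' _ _ _ A.2 B.2
    change (AlgSt.QuotObj.forget K G aX).map (inv hAs ≫ inv r ≫ hBs) = _
    rw [Functor.map_comp, Functor.map_comp, Functor.map_inv, Functor.map_inv]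
    change inv hAs.base ≫ inv r.base ≫ hBs.base = _
    have hr : r.base = 𝟙 (Over.mk t) := rfl
    have hrinv : inv r.base = 𝟙 (Over.mk t) :=
      IsIso.inv_eq_of_hom_inv_id (by rw [hr]; exact Category.id_comp _)
    have hAinv : inv hAs.base = eqToHom A.2 :=
      IsIso.inv_eq_of_hom_inv_id (by rw [hAb]; simp)
    rw [hrinv, hAinv, hBb]

/-- every point of `X` comes from a section of an object of the fibre -/
theorem exists_obj_section (x : Over.mk t ⟶ X) :
    ∃ (A : (AlgSt.QuotObj.forget K G aX).Fiber (Over.mk t)) (s : Over.mk t ⟶ A.1.P),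
      s ≫ A.1.π = eqToHom A.2.symm ∧ s ≫ A.1.φ = x := by
  refine ⟨⟨(AlgSt.quotMap K G aX).obj ⟨Over.mk t, ⟨x⟩⟩, rfl⟩, unitSec G (Over.mk t), ?_, ?_⟩
  · change unitSec G (Over.mk t) ≫ snd G (Over.mk t) = 𝟙 _
    simp [unitSec]
  · change unitSec G (Over.mk t) ≫ (G ◁ x) ≫ aX.act = x
    rw [unitSec, lift_whiskerLeft_assoc, Category.id_comp]
    exact act_one G aX x

end AlgClosed

end Groth.Agent.Lib.T2H6.QuotFib
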