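import Mathlib
import Groth.Agent.Lib.T2H6GeomIntMod

/-!
# Associated points of fibres and base change (finite type setting, no Noetherian hypothesis on the base) (helper6)
-/

set_option autoImplicit false
set_option linter.style.haveILetI false
set_option linter.unusedSectionVars false
universe u
open CategoryTheory CategoryTheory.Limits AlgebraicGeometry Opposite TopologicalSpace TensorProduct

namespace Groth.Agent.Lib.T2H6.RelAssBC

open Groth.Agent.Lib.Helper1.Sky Groth.Agent.Lib.Helper1.StalkTensor
open IsLocalRing Groth.Agent.Lib.T2H6.FibBC Groth.Agent.Lib.T2H6.FieldTens Groth.Agent.Lib.T2H6.LenBC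
open Groth.Agent.Lib.T2H8.StalkRestrict Groth.Agent.Lib.T2H6.FlatAss

section Ring

variable {B O' : Type u} [CommRing B] [CommRing O'] [IsLocalRing B] [IsLocalRing O'] [Algebra B O']
  [IsLocalHom (algebraMap B O')] [IsNoetherianRing O']
  (F : Type u) [AddCommGroup F] [Module B F]

theorem one_tmul_eq_zero_iff' (hs : Function.Surjective (algebraMap B O')) (n : F) :
    (1 : O') ⊗ₜ[B] n = 0 ↔ n ∈ (RingHom.ker (algebraMap B O') • ⊤ : Submodule B F) :=
  ⟨Groth.Agent.Lib.Helper20.Nakayama.mem_smul_top_of_one_tmul_eq_zero B O' hs F n,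
    one_tmul_eq_zero_of_mem' F n⟩

/-- version of `isAssociatedPrime_baseChange_iff` where only the quotient ring is Noetherian. -/
theorem isAssociatedPrime_baseChange_iff' (hs : Function.Surjective (algebraMap B O')) :
    IsAssociatedPrime (maximalIdeal O') (O' ⊗[B] F) ↔ Q' (RingHom.ker (algebraMap B O')) F := by
  rw [isAssociatedPrime_maximalIdeal_iff_exists]
  have hsm : ∀ (b : B) (n : F), (1 : O') ⊗ₜ[B] (b • n) = algebraMap B O' b • ((1 : O') ⊗ₜ[B] n) := by
    intro b n
    rw [TensorProduct.tmul_smul]
    exact (algebraMap_smul O' b _).symm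
  have hmax : ∀ b : B, b ∈ maximalIdeal B → algebraMap B O' b ∈ maximalIdeal O' := by
    intro b hb
    rw [mem_maximalIdeal, mem_nonunits_iff] at hb ⊢
    exact fun hu => hb (isUnit_of_map_unit (algebraMap B O') b hu)
  constructor
  · rintro ⟨ξ, hξ0, hξ⟩
    obtain ⟨η, rfl⟩ := exists_eq_one_tmul' F hs ξ
    refine ⟨η, fun hmem => hξ0 ((one_tmul_eq_zero_iff' F hs η).2 hmem), fun b hb => ?_⟩
    rw [← one_tmul_eq_zero_iff' F hs, hsm]
    exact hξ _ (hmax b hb)
  · rintro ⟨η, hη, hηm⟩
    refine ⟨(1 : O') ⊗ₜ[B] η, fun h0 => hη ((one_tmul_eq_zero_iff' F hs η).1 h0), fun o ho => ?_⟩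
    obtain ⟨b, rfl⟩ := hs o
    have hb : b ∈ maximalIdeal B := by
      rw [mem_maximalIdeal, mem_nonunits_iff] at ho ⊢
      exact fun hu => ho (hu.map (algebraMap B O'))
    rw [← hsm, one_tmul_eq_zero_iff' F hs]
    exact hηm b hb

end Ring

section K2

variable {X Y : Scheme.{u}} (f : X ⟶ Y)

/-- `isAssPoint_fiber_iff` assuming only that the local ring of the fibre is Noetherian. -/
theorem isAssPoint_fiber_iff' (F : X.Modules) (y : Y) (z : f.fiber y)
    [IsNoetherianRing ((f.fiber y).presheaf.stalk z)] :
    Curv2.IsAssPoint ((Scheme.Modules.pullback (f.fiberι y)).obj F) z ↔ Qx f F (f.fiberι y z) := by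
  letI alg : Algebra (X.presheaf.stalk (f.fiberι y z)) ((f.fiber y).presheaf.stalk z) :=
    ((f.fiberι y).stalkMap z).hom.toAlgebra
  have hs : Function.Surjective
      (algebraMap (X.presheaf.stalk (f.fiberι y z)) ((f.fiber y).presheaf.stalk z)) :=
    (f.fiberι y).stalkMap_surjective z
  haveI : IsLocalHom (algebraMap (X.presheaf.stalk (f.fiberι y z)) ((f.fiber y).presheaf.stalk z)) :=
    inferInstanceAs (IsLocalHom ((f.fiberι y).stalkMap z).hom)
  let N := (stalkFun (f.fiberι y z)).obj F
  let e : ((Scheme.Modules.pullback (f.fiberι y)).obj F).presheaf.stalk z ≃ₗ[(f.fiber y).presheaf.stalk z]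
      ((f.fiber y).presheaf.stalk z ⊗[X.presheaf.stalk (f.fiberι y z)] F.presheaf.stalk (f.fiberι y z)) :=
    ((stalkPullbackIso (f.fiberι y) z).app F).toLinearEquiv ≪≫ₗ
      Groth.Agent.S2380.bridge (X.presheaf.stalk (f.fiberι y z)) ((f.fiber y).presheaf.stalk z) N
  have h1 : Curv2.IsAssPoint ((Scheme.Modules.pullback (f.fiberι y)).obj F) z ↔
      IsAssociatedPrime (maximalIdeal ((f.fiber y).presheaf.stalk z))
        ((f.fiber y).presheaf.stalk z ⊗[X.presheaf.stalk (f.fiberι y z)] F.presheaf.stalk (f.fiberι y z)) :=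
    LinearEquiv.isAssociatedPrime_iff e
  rw [h1, isAssociatedPrime_baseChange_iff' _ hs]
  have hker : RingHom.ker (algebraMap (X.presheaf.stalk (f.fiberι y z)) ((f.fiber y).presheaf.stalk z)) =
      Ideal.map (f.stalkMap (f.fiberι y z)).hom
        (maximalIdeal (Y.presheaf.stalk (f (f.fiberι y z)))) :=
    Groth.Agent.Lib.Helper10.FibStalk.ker_eq_map f y z
  rw [hker]
  rfl

theorem isLocallyNoetherian_fiber_of_lft [LocallyOfFiniteType f] (y : Y) : IsLocallyNoetherian (f.fiber y) := by
  haveI : LocallyOfFiniteType (f.fiberToSpecResidueField y) := by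
    dsimp only [Scheme.Hom.fiberToSpecResidueField]
    exact MorphismProperty.pullback_snd (P := @LocallyOfFiniteType) f _ inferInstance
  exact LocallyOfFiniteType.isLocallyNoetherian (f.fiberToSpecResidueField y)

end K2

section Max

variable {V : Scheme.{u}}

/-- the generic point of an irreducible component has no proper generization. -/
theorem eq_of_specializes_genericPoint {C : Set V} (hC : C ∈ irreducibleComponents V) {w : V}
    (hw : IsGenericPoint w C) {u : V} (hu : u ⤳ w) : u = w := by
  have hsub : C ⊆ closure {u} := by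
    rw [← hw.def]
    exact closure_minimal (Set.singleton_subset_iff.2 (specializes_iff_mem_closure.1 hu)) isClosed_closure
  have hirr : IsIrreducible (closure ({u} : Set V)) := isIrreducible_singleton.closure
  have heq : C = closure {u} := hC.eq_of_subset hirr hsub
  have h2 : w ⤳ u := by
    rw [specializes_iff_mem_closure, hw.def, heq]
    exact subset_closure rfl
  exact (hu.antisymm h2).eq

/-- every point has a generization without proper generizations. -/
theorem exists_maximal_specializes (v : V) : ∃ w : V, w ⤳ v ∧ ∀ u : V, u ⤳ w → u = w := by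
  obtain ⟨w, hw⟩ := QuasiSober.sober (isIrreducible_irreducibleComponent (x := v))
    isClosed_irreducibleComponent
  refine ⟨w, ?_, fun u hu => eq_of_specializes_genericPoint (irreducibleComponent_mem_irreducibleComponents v) hw hu⟩
  rw [specializes_iff_mem_closure, hw.def]
  exact mem_irreducibleComponent

/-- a point without proper generizations is associated (Noetherian local ring). -/
theorem isAssPoint_structureModule_of_forall_specializes (v : V) [IsNoetherianRing (V.presheaf.stalk v)]
    (h : ∀ u : V, u ⤳ v → u = v) : Curv2.IsAssPoint (Coh.structureModule V) v := by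
  rw [Groth.Agent.Lib.Helper23.UnitStalk.isAssPoint_structureModule_iff]
  obtain ⟨p, hp⟩ := associatedPrimes.nonempty (V.presheaf.stalk v) (V.presheaf.stalk v)
  have hp' : IsAssociatedPrime p (V.presheaf.stalk v) := hp
  haveI := hp'.isPrime
  have hpt : (⟨p, hp'.isPrime⟩ : PrimeSpectrum (V.presheaf.stalk v)) = closedPoint _ := by
    apply (V.fromSpecStalk v).isEmbedding.injective
    have h1 : V.fromSpecStalk v ⟨p, hp'.isPrime⟩ ∈ {y | y ⤳ v} := by
      rw [← Scheme.range_fromSpecStalk]
      exact ⟨_, rfl⟩
    rw [Scheme.fromSpecStalk_closedPoint]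
    exact h _ h1
  have : p = maximalIdeal (V.presheaf.stalk v) := congrArg PrimeSpectrum.asIdeal hpt
  rw [← this]
  exact hp'

/-- on a scheme with Noetherian local rings and without embedded points, the associated points are the maximal
points. -/
theorem isAssPoint_structureModule_iff_forall_specializes (hN : ∀ v : V, IsNoetherianRing (V.presheaf.stalk v))
    (hne : AssSch.NoEmbedded (Coh.structureModule V)) (v : V) :
    Curv2.IsAssPoint (Coh.structureModule V) v ↔ ∀ u : V, u ⤳ v → u = v := by
  constructor
  · intro hv u hu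
    obtain ⟨w, hwu, hw⟩ := exists_maximal_specializes u
    haveI := hN w
    have hwass := isAssPoint_structureModule_of_forall_specializes w hw
    have h1 : v = w := hne v hv w hwass (hwu.trans hu)
    rw [h1] at hu
    exact (hwu.antisymm hu).eq.symm.trans h1.symm
  · intro h
    haveI := hN v
    exact isAssPoint_structureModule_of_forall_specializes v h

end Max

section Main

open Groth.Agent.Lib.T2H6.AssFibProd

variable {P X Y Z : Scheme.{u}} {fst : P ⟶ X} {snd : P ⟶ Y} {f : X ⟶ Z} {g : Y ⟶ Z}
  (h : IsPullback fst snd f g)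

/-- the fibres of `fibMap` have no embedded points (general cartesian square). -/
theorem noEmbedded_fiber_fibMap' (y : Y) (y₀ : f.fiber (g y)) :
    AssSch.NoEmbedded (Coh.structureModule ((fibMap h y).fiber y₀)) := by
  have h1 := (IsPullback.of_hasPullback (fibMap h y)
    ((f.fiber (g y)).fromSpecResidueField y₀)).flip.paste_vert (isPullback_fibMap h y)
  rw [← Spec.map_preimage ((f.fiber (g y)).fromSpecResidueField y₀ ≫ f.fiberToSpecResidueField (g y))] at h1
  exact noEmbedded_of_isPullback_Spec_fields' (k := ↑(Z.residueField (g y)))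
    (K := ↑((f.fiber (g y)).residueField y₀)) (L := ↑(Y.residueField y)) _ _ _ _ h1

theorem fiberι_fibMap_apply' (y : Y) (t : snd.fiber y) :
    f.fiberι (g y) (fibMap h y t) = fst (snd.fiberι y t) := by
  rw [← Scheme.Hom.comp_apply, fibMap_fiberι, Scheme.Hom.comp_apply]

include h in
theorem locallyOfFiniteType_snd [LocallyOfFiniteType f] : LocallyOfFiniteType snd :=
  MorphismProperty.of_isPullback (P := @LocallyOfFiniteType) h ‹_›

/-- maximality in the fibre of `fibMap` versus maximality among the points of `P` with given projections. -/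
theorem forall_specializes_fiber_fibMap_iff (y : Y) (y₀ : f.fiber (g y)) (v : (fibMap h y).fiber y₀) :
    (∀ u : (fibMap h y).fiber y₀, u ⤳ v → u = v) ↔
      ∀ p' : P, snd p' = snd (snd.fiberι y ((fibMap h y).fiberι y₀ v)) →
        fst p' = fst (snd.fiberι y ((fibMap h y).fiberι y₀ v)) →
        p' ⤳ snd.fiberι y ((fibMap h y).fiberι y₀ v) → p' = snd.fiberι y ((fibMap h y).fiberι y₀ v) := by
  have hsnd : ∀ t : snd.fiber y, snd (snd.fiberι y t) = y := fun t => by
    have : snd.fiberι y t ∈ Set.range (snd.fiberι y) := ⟨t, rfl⟩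
    rw [snd.range_fiberι] at this
    exact this
  have hr : ∀ u : (fibMap h y).fiber y₀, fibMap h y ((fibMap h y).fiberι y₀ u) = y₀ := fun u => by
    have : (fibMap h y).fiberι y₀ u ∈ Set.range ((fibMap h y).fiberι y₀) := ⟨u, rfl⟩
    rw [(fibMap h y).range_fiberι] at this
    exact this
  constructor
  · intro hmax p' hs hf hsp
    rw [hsnd] at hs
    obtain ⟨t', ht'⟩ := exists_fiber_point' snd y p' hs
    have hrt' : fibMap h y t' = y₀ := by
      apply (f.fiberι (g y)).isEmbedding.injective
      rw [fiberι_fibMap_apply' h, ht', hf, ← fiberι_fibMap_apply' h, hr]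
    obtain ⟨u, hu⟩ := exists_fiber_point' (fibMap h y) y₀ t' hrt'
    have huv : u ⤳ v := by
      rw [← ((fibMap h y).fiberι y₀).isEmbedding.isInducing.specializes_iff,
        ← (snd.fiberι y).isEmbedding.isInducing.specializes_iff, hu, ht']
      exact hsp
    rw [← ht', ← hu, hmax u huv]
  · intro hmax u huv
    have h1 := hmax (snd.fiberι y ((fibMap h y).fiberι y₀ u)) (by rw [hsnd, hsnd])
      (by rw [← fiberι_fibMap_apply' h, ← fiberι_fibMap_apply' h, hr, hr])
      ((huv.map ((fibMap h y).fiberι y₀).continuous).map (snd.fiberι y).continuous)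
    exact ((fibMap h y).fiberι y₀).isEmbedding.injective ((snd.fiberι y).isEmbedding.injective h1)

variable [LocallyOfFiniteType f]

/-- **Relative assassin and base change**, fibrewise form. -/
theorem isAssPoint_fiber_baseChange_iff (F : X.Modules) (y : Y) (y₀ : f.fiber (g y)) (v : (fibMap h y).fiber y₀) :
    Curv2.IsAssPoint ((Scheme.Modules.pullback (snd.fiberι y)).obj ((Scheme.Modules.pullback fst).obj F))
        ((fibMap h y).fiberι y₀ v) ↔
      Qx f F (fst (snd.fiberι y ((fibMap h y).fiberι y₀ v))) ∧ ∀ u : (fibMap h y).fiber y₀, u ⤳ v → u = v := by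
  haveI := locallyOfFiniteType_snd h
  haveI := isLocallyNoetherian_fiber_of_lft snd y
  haveI := isLocallyNoetherian_fiber_of_lft f (g y)
  haveI := flat_fibMap h y
  rw [isAssPoint_iff_of_iso (fibPullbackIso h F y),
    isAssPoint_pullback_flat_iff (fibMap h y) _ _ (Flat.stalkMap (fibMap h y) _),
    isAssPoint_fiber_iff' f F (g y), fiberι_fibMap_apply',
    ← isAssPoint_structureModule_fiber_iff (fibMap h y) y₀ v,
    isAssPoint_structureModule_iff_forall_specializes
      (fun w => isNoetherianRing_stalk_fiber (fibMap h y) y₀ w) (noEmbedded_fiber_fibMap' h y y₀) v]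

end Main

end Groth.Agent.Lib.T2H6.RelAssBC
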