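import Mathlib
import Groth.Agent.Lib.T2H6RelAssBC

/-!
# The relative assassin `MoreMor.relAss` and base change (helper6)
-/

set_option autoImplicit false
set_option linter.style.haveILetI false
set_option linter.unusedSectionVars false
universe u
open CategoryTheory CategoryTheory.Limits AlgebraicGeometry Opposite TopologicalSpace TensorProduct

namespace Groth.Agent.Lib.T2H6.RelAssBC

open Groth.Agent.Lib.Helper1.Sky Groth.Agent.Lib.Helper1.StalkTensor
open IsLocalRing Groth.Agent.Lib.T2H6.FibBC Groth.Agent.Lib.T2H6.FieldTens Groth.Agent.Lib.T2H6.LenBC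
open Groth.Agent.Lib.T2H8.StalkRestrict Groth.Agent.Lib.T2H6.FlatAss

section Alg

variable {B : Type u} [CommRing B] [IsLocalRing B]

/-- for a module killed by an ideal `J` with `B ⧸ J` Noetherian, the maximal ideal is associated (radical
definition) iff it is the annihilator of a nonzero element. -/
theorem isAssociatedPrime_maximalIdeal_iff_exists_of_quotient
    (J : Ideal B) [IsNoetherianRing (B ⧸ J)] (M : Type u) [AddCommGroup M] [Module B M]
    (hJ : ∀ j ∈ J, ∀ m : M, j • m = 0) :
    IsAssociatedPrime (maximalIdeal B) M ↔ ∃ ξ : M, ξ ≠ 0 ∧ ∀ b ∈ maximalIdeal B, b • ξ = 0 := by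
  constructor
  · rintro ⟨-, ξ, hξ⟩
    have hJ𝔞 : J ≤ Submodule.colon (⊥ : Submodule B M) {ξ} := fun j hj => by
      rw [Submodule.mem_colon_singleton, Submodule.mem_bot]; exact hJ j hj ξ
    have hpow : ∃ n : ℕ, maximalIdeal B ^ n ≤ Submodule.colon (⊥ : Submodule B M) {ξ} := by
      have hker : RingHom.ker (Ideal.Quotient.mk J) ≤ Submodule.colon (⊥ : Submodule B M) {ξ} := by
        rw [Ideal.mk_ker]; exact hJ𝔞
      obtain ⟨n, hn⟩ := (Ideal.map (Ideal.Quotient.mk J)
        (Submodule.colon (⊥ : Submodule B M) {ξ})).exists_radical_pow_le_of_fg (IsNoetherian.noetherian _)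
      refine ⟨n, ?_⟩
      rw [← Ideal.map_radical_of_surjective Ideal.Quotient.mk_surjective hker, ← hξ, ← Ideal.map_pow] at hn
      have h1 := Ideal.comap_mono (f := Ideal.Quotient.mk J) hn
      rw [Ideal.comap_map_of_surjective _ Ideal.Quotient.mk_surjective,
        Ideal.comap_map_of_surjective _ Ideal.Quotient.mk_surjective, ← RingHom.ker_eq_comap_bot,
        Ideal.mk_ker, sup_eq_left.2 hJ𝔞] at h1
      exact le_sup_left.trans h1
    classical
    have hn0 : Nat.find hpow ≠ 0 := by
      intro h0
      have h1 := Nat.find_spec hpow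
      rw [h0, pow_zero, Ideal.one_eq_top, top_le_iff] at h1
      rw [h1, Ideal.radical_top] at hξ
      exact (maximalIdeal.isMaximal B).ne_top hξ
    obtain ⟨m, hm⟩ := Nat.exists_eq_succ_of_ne_zero hn0
    have hnot : ¬ maximalIdeal B ^ m ≤ Submodule.colon (⊥ : Submodule B M) {ξ} :=
      Nat.find_min hpow (by omega)
    obtain ⟨c, hc, hcn⟩ := SetLike.not_le_iff_exists.1 hnot
    refine ⟨c • ξ, ?_, fun b hb => ?_⟩
    · intro h0
      apply hcn
      rw [Submodule.mem_colon_singleton, Submodule.mem_bot]
      exact h0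
    · have h1 : b * c ∈ maximalIdeal B ^ (m + 1) := by
        rw [pow_succ']
        exact Ideal.mul_mem_mul hb hc
      have h2 := Nat.find_spec hpow (by rw [hm]; exact h1)
      rw [Submodule.mem_colon_singleton, Submodule.mem_bot] at h2
      rw [smul_smul]
      exact h2
  · rintro ⟨ξ, hξ0, hξ⟩
    refine ⟨inferInstance, ξ, ?_⟩
    have : Submodule.colon (⊥ : Submodule B M) {ξ} = maximalIdeal B := by
      refine ((maximalIdeal.isMaximal B).eq_of_le ?_ ?_).symm
      · intro htop
        have : (1 : B) ∈ Submodule.colon (⊥ : Submodule B M) {ξ} := by rw [htop]; trivial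
        rw [Submodule.mem_colon_singleton, Submodule.mem_bot, one_smul] at this
        exact hξ0 this
      · intro b hb
        rw [Submodule.mem_colon_singleton, Submodule.mem_bot]
        exact hξ b hb
    rw [this]
    exact (Ideal.IsPrime.radical inferInstance).symm

/-- the maximal ideal is associated to `F ⧸ J F` (radical definition) iff `Q' J F`, provided `B ⧸ J` is Noetherian. -/
theorem isAssociatedPrime_quotient_smul_top_iff (J : Ideal B) [IsNoetherianRing (B ⧸ J)]
    (F : Type u) [AddCommGroup F] [Module B F] :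
    IsAssociatedPrime (maximalIdeal B) (F ⧸ (J • ⊤ : Submodule B F)) ↔ Q' J F := by
  rw [isAssociatedPrime_maximalIdeal_iff_exists_of_quotient J]
  · constructor
    · rintro ⟨ξ, hξ0, hξ⟩
      obtain ⟨η, rfl⟩ := Submodule.Quotient.mk_surjective _ ξ
      refine ⟨η, fun hmem => hξ0 ((Submodule.Quotient.mk_eq_zero _).2 hmem), fun b hb => ?_⟩
      rw [← Submodule.Quotient.mk_eq_zero, Submodule.Quotient.mk_smul]
      exact hξ b hb
    · rintro ⟨η, hη, hηm⟩
      refine ⟨Submodule.Quotient.mk η, fun h0 => hη ((Submodule.Quotient.mk_eq_zero _).1 h0), fun b hb => ?_⟩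
      rw [← Submodule.Quotient.mk_smul, Submodule.Quotient.mk_eq_zero]
      exact hηm b hb
  · intro j hj m
    obtain ⟨η, rfl⟩ := Submodule.Quotient.mk_surjective _ m
    rw [← Submodule.Quotient.mk_smul, Submodule.Quotient.mk_eq_zero]
    exact Submodule.smul_mem_smul hj trivial

end Alg

section Bridge

variable {X Y : Scheme.{u}} (f : X ⟶ Y)

theorem isNoetherianRing_quotient_of_fiber (y : Y) (z : f.fiber y)
    [IsNoetherianRing ((f.fiber y).presheaf.stalk z)] :
    IsNoetherianRing (X.presheaf.stalk (f.fiberι y z) ⧸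
      Ideal.map (f.stalkMap (f.fiberι y z)).hom (maximalIdeal (Y.presheaf.stalk (f (f.fiberι y z))))) := by
  rw [← Groth.Agent.Lib.Helper10.FibStalk.ker_eq_map f y z]
  exact isNoetherianRing_of_ringEquiv _
    (RingHom.quotientKerEquivOfSurjective ((f.fiberι y).stalkMap_surjective z)).symm

/-- `MoreMor.relAss` in terms of `Qx`, at a point of a fibre with Noetherian local ring. -/
theorem mem_relAss_fiberι_iff (F : X.Modules) (y : Y) (z : f.fiber y)
    [IsNoetherianRing ((f.fiber y).presheaf.stalk z)] :
    f.fiberι y z ∈ MoreMor.relAss f F ↔ Qx f F (f.fiberι y z) := by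
  haveI := isNoetherianRing_quotient_of_fiber f y z
  exact isAssociatedPrime_quotient_smul_top_iff _ _

/-- `MoreMor.relAss` in terms of `Qx`, for a morphism locally of finite type. -/
theorem mem_relAss_iff [LocallyOfFiniteType f] (F : X.Modules) (x : X) :
    x ∈ MoreMor.relAss f F ↔ Qx f F x := by
  haveI := isLocallyNoetherian_fiber_of_lft f (f x)
  have := mem_relAss_fiberι_iff f F (f x) (f.asFiber x)
  rwa [Scheme.Hom.fiberι_asFiber] at this

/-- `MoreMor.relAss` is the set of points associated to the restriction of the module to their fibre. -/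
theorem mem_relAss_fiberι_iff_isAssPoint [LocallyOfFiniteType f] (F : X.Modules) (y : Y) (z : f.fiber y) :
    f.fiberι y z ∈ MoreMor.relAss f F ↔
      Curv2.IsAssPoint ((Scheme.Modules.pullback (f.fiberι y)).obj F) z := by
  haveI := isLocallyNoetherian_fiber_of_lft f y
  rw [mem_relAss_fiberι_iff, isAssPoint_fiber_iff']

end Bridge

section BC

variable {P X Y Z : Scheme.{u}} {fst : P ⟶ X} {snd : P ⟶ Y} {f : X ⟶ Z} {g : Y ⟶ Z}
  (h : IsPullback fst snd f g) [LocallyOfFiniteType f]

include h

/-- the image of a point of the relative assassin of a base change is in the relative assassin. -/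
theorem fst_mem_relAss (F : X.Modules) (p : P)
    (hp : p ∈ MoreMor.relAss snd ((Scheme.Modules.pullback fst).obj F)) : fst p ∈ MoreMor.relAss f F := by
  haveI := locallyOfFiniteType_snd h
  obtain ⟨t, ht⟩ := exists_fiber_point' snd (snd p) p rfl
  obtain ⟨v, hv⟩ := exists_fiber_point' (fibMap h (snd p)) (fibMap h (snd p) t) t rfl
  rw [← ht, mem_relAss_fiberι_iff_isAssPoint, ← hv, isAssPoint_fiber_baseChange_iff h F] at hp
  rw [mem_relAss_iff, ← ht, ← hv]
  exact hp.1

/-- every point of the relative assassin over `g y` lifts to a point of the relative assassin of the base change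
over `y`. -/
theorem exists_mem_relAss_of_mem_relAss (F : X.Modules) (y : Y) (x : X) (hx : x ∈ MoreMor.relAss f F)
    (hxy : f x = g y) :
    ∃ p : P, p ∈ MoreMor.relAss snd ((Scheme.Modules.pullback fst).obj F) ∧ snd p = y ∧ fst p = x := by
  haveI := locallyOfFiniteType_snd h
  obtain ⟨y₀, hy₀⟩ := exists_fiber_point' f (g y) x hxy
  haveI := surjective_fibMap h y
  obtain ⟨t₀, ht₀⟩ := (fibMap h y).surjective y₀
  obtain ⟨v₀, -⟩ := exists_fiber_point' (fibMap h y) y₀ t₀ ht₀
  obtain ⟨v, -, hv⟩ := exists_maximal_specializes v₀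
  have hfst : fst (snd.fiberι y ((fibMap h y).fiberι y₀ v)) = x := by
    rw [← fiberι_fibMap_apply' h, ← hy₀]
    congr 1
    have : (fibMap h y).fiberι y₀ v ∈ Set.range ((fibMap h y).fiberι y₀) := ⟨v, rfl⟩
    rw [(fibMap h y).range_fiberι] at this
    exact this
  refine ⟨snd.fiberι y ((fibMap h y).fiberι y₀ v), ?_, ?_, hfst⟩
  · rw [mem_relAss_fiberι_iff_isAssPoint, isAssPoint_fiber_baseChange_iff h F, hfst]
    exact ⟨(mem_relAss_iff f F x).1 hx, hv⟩
  · have : snd.fiberι y ((fibMap h y).fiberι y₀ v) ∈ Set.range (snd.fiberι y) := ⟨_, rfl⟩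
    rw [snd.range_fiberι] at this
    exact this

end BC

end Groth.Agent.Lib.T2H6.RelAssBC
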