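import Mathlib
import Groth.Agent.Lib.T2H6LocGlobE
import Groth.Agent.Lib.T2H5ProjFLF5
import Groth.Agent.Lib.Helper21DerAcyc

set_option backward.isDefEq.respectTransparency.types false

/-!
# Relative Ext sheaves and finite locally free twists (helper6), part A: functor isomorphisms

`ℋom(F ⊗ L, - ⊗ f^*N) ⋙ f_* ≅ ℋom(F, - ⊗ L^∨) ⋙ f_* ⋙ (- ⊗ N)` for `L`, `N` finite locally free.
-/

set_option autoImplicit false
set_option linter.style.haveILetI false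
universe u
open CategoryTheory CategoryTheory.Limits AlgebraicGeometry Opposite

namespace Groth.Agent.Lib.T2H6.RelExtLF

open Groth.Agent.Lib.Helper21.ExtShDelta Groth.Agent.Lib.T2H5.Twist Groth.Agent.Lib.Helper21.Dual
  Groth.Agent.Lib.Helper21.ModTensor3 Groth.Agent.Lib.Helper21.ModTensor5
  Groth.Agent.Lib.Helper21.ModTensor6 Groth.Agent.Lib.Helper21.DerPost
  Groth.Agent.Lib.T2H5.ProjFLF Groth.Agent.Lib.Helper1.PT Groth.Agent.Lib.T2H6.LocGlob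

attribute [local instance] hasSheafHom

variable {X Y : Scheme.{u}} (f : X ⟶ Y)

/-- the projection formula `f_*(- ⊗ f^*N) ≅ f_*(-) ⊗ N` for `N` finite locally free -/
noncomputable def projTRIso (N : Y.Modules) (hN : FlatMod.IsFinLocFree N) :
    tR X.sheaf ((plb f).obj N) ⋙ psh f ≅ psh f ⋙ tR Y.sheaf N :=
  let θ : psh f ⋙ DCoh.tensorBi.obj N ≅ DCoh.tensorBi.obj ((plb f).obj N) ⋙ psh f :=
    NatIso.ofComponents
      (fun F => @asIso _ _ _ _ (alpha f N F) (isIso_alpha_of_isFinLocFree f N hN F))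
      (fun φ => alpha_naturality_right f N φ)
  Functor.isoWhiskerRight ((brd X.sheaf).app ((plb f).obj N)).symm (psh f) ≪≫ θ.symm ≪≫
    Functor.isoWhiskerLeft (psh f) ((brd Y.sheaf).app N)

/-- `ℋom(F ⊗ L, -) ≅ ℋom(L, -) ⋙ ℋom(F, -)` -/
noncomputable def sheafHomTensorIso (F L : X.Modules) :
    ModSite.sheafHom (O := X.sheaf) (CohB1.tensorMod F L) ≅
      ModSite.sheafHom (O := X.sheaf) L ⋙ ModSite.sheafHom (O := X.sheaf) F :=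
  (ModSite.sheafHomAdj (O := X.sheaf) (CohB1.tensorMod F L)).rightAdjointUniq
    (((ModSite.sheafHomAdj (O := X.sheaf) F).comp (ModSite.sheafHomAdj (O := X.sheaf) L)).ofNatIsoLeft
      (tRTensorIso X.sheaf F L))

/-- `ℋom(L, -) ≅ - ⊗ L^∨` for `L` locally finite free -/
noncomputable def sheafHomDualIso (L : X.Modules) (hL : IsLocFF (O := X.sheaf) L) :
    ModSite.sheafHom (O := X.sheaf) L ≅ tR X.sheaf (dual (O := X.sheaf) L) :=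
  (ModSite.sheafHomAdj (O := X.sheaf) L).rightAdjointUniq (dualAdj L hL)

/-- `(- ⊗ A) ⊗ B ≅ (- ⊗ B) ⊗ A` -/
noncomputable def trSwap (A B : X.Modules) : tr A ⋙ tr B ≅ tr B ⋙ tr A :=
  trComp A B ≪≫ trCongr (brdApp X.sheaf A B) ≪≫ (trComp B A).symm

variable (F L : X.Modules) (N : Y.Modules)

/-- **the functor isomorphism**
`(- ⊗ f^*N) ⋙ ℋom(F ⊗ L, -) ⋙ f_* ≅ ((- ⊗ L^∨) ⋙ ℋom(F, -) ⋙ f_*) ⋙ (- ⊗ N)` -/
noncomputable def mainIso (hL : IsLocFF (O := X.sheaf) L) (hN : FlatMod.IsFinLocFree N)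
    (hN' : IsLocFF (O := X.sheaf) ((plb f).obj N)) :
    tr ((plb f).obj N) ⋙ (ModSite.sheafHom (O := X.sheaf) (CohB1.tensorMod F L) ⋙ psh f) ≅
      (tr (dual (O := X.sheaf) L) ⋙ (ModSite.sheafHom (O := X.sheaf) F ⋙ psh f)) ⋙ tR Y.sheaf N :=
  let N' := (plb f).obj N
  let DL := dual (O := X.sheaf) L
  let HF := ModSite.sheafHom (O := X.sheaf) F
  let s1 : tr N' ⋙ (ModSite.sheafHom (O := X.sheaf) (CohB1.tensorMod F L) ⋙ psh f) ≅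
      tr N' ⋙ ((tr DL ⋙ HF) ⋙ psh f) :=
    Functor.isoWhiskerLeft _ (Functor.isoWhiskerRight
      (sheafHomTensorIso F L ≪≫ Functor.isoWhiskerRight (sheafHomDualIso L hL) HF) (psh f))
  let s2 : (tr N' ⋙ tr DL) ⋙ (HF ⋙ psh f) ≅ (tr DL ⋙ tr N') ⋙ (HF ⋙ psh f) :=
    Functor.isoWhiskerRight (trSwap N' DL) _
  let s3 : tr DL ⋙ ((tr N' ⋙ HF) ⋙ psh f) ≅ tr DL ⋙ ((HF ⋙ tr N') ⋙ psh f) :=
    Functor.isoWhiskerLeft _ (Functor.isoWhiskerRight (sheafHomTensorIsoLF F N' hN').symm (psh f))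
  let s4 : (tr DL ⋙ HF) ⋙ (tr N' ⋙ psh f) ≅ (tr DL ⋙ HF) ⋙ (psh f ⋙ tR Y.sheaf N) :=
    Functor.isoWhiskerLeft _ (projTRIso f N hN)
  s1 ≪≫ (show tr N' ⋙ ((tr DL ⋙ HF) ⋙ psh f) ≅ (tr DL ⋙ tr N') ⋙ (HF ⋙ psh f) from s2) ≪≫
    (show (tr DL ⋙ tr N') ⋙ (HF ⋙ psh f) ≅ tr DL ⋙ ((HF ⋙ tr N') ⋙ psh f) from s3) ≪≫
    (show tr DL ⋙ ((HF ⋙ tr N') ⋙ psh f) ≅ (tr DL ⋙ (HF ⋙ psh f)) ⋙ tR Y.sheaf N from s4)

end Groth.Agent.Lib.T2H6.RelExtLF
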