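import Mathlib
import Groth.Agent.Lib.T2H6RelExtLFA

set_option backward.isDefEq.respectTransparency.types false

/-!
# Relative Ext sheaves and finite locally free twists (helper6), part B: derived functors

`Ext^p_f(F ⊗ L, G ⊗ f^*N) ≅ Ext^p_f(F, G ⊗ L^∨) ⊗ N` for `L`, `N` finite locally free.
-/

set_option autoImplicit false
set_option linter.style.haveILetI false
universe u
open CategoryTheory CategoryTheory.Limits AlgebraicGeometry Opposite

namespace Groth.Agent.Lib.T2H6.RelExtLF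

open Groth.Agent.Lib.Helper21.ExtShDelta Groth.Agent.Lib.T2H5.Twist Groth.Agent.Lib.Helper21.Dual
  Groth.Agent.Lib.Helper21.ModTensor3 Groth.Agent.Lib.Helper21.ModTensor5
  Groth.Agent.Lib.Helper21.ModTensor6 Groth.Agent.Lib.Helper21.DerPost
  Groth.Agent.Lib.T2H5.ProjFLF Groth.Agent.Lib.Helper1.PT Groth.Agent.Lib.T2H6.LocGlob
  Groth.Agent.Lib.Helper1.Sky

attribute [local instance] hasSheafHom

variable {X Y : Scheme.{u}} (f : X ⟶ Y)

theorem preservesFiniteLimits_psh : PreservesFiniteLimits (psh f) :=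
  haveI : PreservesLimitsOfSize.{0, 0} (psh f) := (ppAdj f).rightAdjoint_preservesLimits
  PreservesLimitsOfSize.preservesFiniteLimits _

/-- `R^p(E ⋙ T)(G) ≅ R^p T(E G)` for `E = - ⊗ M`, `M` locally finite free -/
theorem nonempty_rightDerived_tr_comp_iso [HasInjectiveResolutions (ModSite.Mod X.sheaf)]
    (M : X.Modules) (hM : IsLocFF (O := X.sheaf) M)
    (T : ModSite.Mod X.sheaf ⥤ ModSite.Mod Y.sheaf) [T.Additive] [PreservesFiniteLimits T]
    (G : X.Modules) (p : ℕ) :
    Nonempty (((tR X.sheaf M ⋙ T).rightDerived p).obj G ≅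
      (T.rightDerived p).obj ((tR X.sheaf M).obj G)) := by
  haveI := Groth.Agent.Lib.Helper21.ModTensor3.isGrothendieckAbelian X.sheaf
  haveI : EnoughInjectives (ModSite.Mod X.sheaf) := inferInstance
  haveI : PreservesFiniteLimits (tR X.sheaf M) := preservesFiniteLimits_tR_of_isLocFF M hM
  haveI : (tR X.sheaf M).PreservesHomology := inferInstance
  have hT : ∀ I : ModSite.Mod X.sheaf, Injective I → ∀ q : ℕ, 0 < q →
      IsZero ((T.rightDerived q).obj ((tR X.sheaf M).obj I)) := by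
    intro I hI q hq
    obtain ⟨q, rfl⟩ : ∃ r, q = r + 1 := ⟨q - 1, by omega⟩
    haveI : Injective ((tR X.sheaf M).obj I) := injective_tR_obj M hM I
    exact Functor.isZero_rightDerived_obj_injective_succ _ q _
  exact Groth.Agent.Lib.Helper21.DerAcyc.nonempty_rightDerived_comp_iso (tR X.sheaf M) T hT G p

/-- **S16282** -/
theorem nonempty_relExt_iso (F G L : X.Modules) (N : Y.Modules)
    (hL : FlatMod.IsFinLocFree L) (hN : FlatMod.IsFinLocFree N) (p : ℕ)
    [ModSite.HasSheafHom (O := X.sheaf) F] [ModSite.HasSheafHom (O := X.sheaf) L]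
    [ModSite.HasSheafHom (O := X.sheaf) (CohB1.tensorMod F L)] [HasInjectiveResolutions (ModSite.Mod X.sheaf)]
    [(ModSite.sheafHom (O := X.sheaf) F ⋙ Scheme.Modules.pushforward f).Additive]
    [(ModSite.sheafHom (O := X.sheaf) (CohB1.tensorMod F L) ⋙ Scheme.Modules.pushforward f).Additive] :
    Nonempty (((ModSite.sheafHom (O := X.sheaf) (CohB1.tensorMod F L) ⋙ Scheme.Modules.pushforward f).rightDerived p).obj
        (CohB1.tensorMod G ((Scheme.Modules.pullback f).obj N)) ≅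
      CohB1.tensorMod (((ModSite.sheafHom (O := X.sheaf) F ⋙ Scheme.Modules.pushforward f).rightDerived p).obj
        (CohB1.tensorMod G ((ModSite.sheafHom (O := X.sheaf) L).obj (Coh.structureModule X)))) N) := by
  have hLff : IsLocFF (O := X.sheaf) L := isLocFF_of_isFinLocFree L hL
  have hDL : IsLocFF (O := X.sheaf) (dual (O := X.sheaf) L) := isLocFF_dual L hLff
  have hN' : FlatMod.IsFinLocFree ((plb f).obj N) := isFinLocFree_pullback f N hN
  have hN'ff : IsLocFF (O := X.sheaf) ((plb f).obj N) := isLocFF_of_isFinLocFree _ hN'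
  have hNff : IsLocFF (O := Y.sheaf) N := isLocFF_of_isFinLocFree N hN
  haveI := sheafHom_preservesFiniteLimits X.sheaf F
  haveI := sheafHom_preservesFiniteLimits X.sheaf (CohB1.tensorMod F L)
  haveI : PreservesFiniteLimits (tR Y.sheaf N) := preservesFiniteLimits_tR_of_isLocFF N hNff
  haveI : (tR Y.sheaf N).PreservesHomology := inferInstance
  let pf : ModSite.Mod X.sheaf ⥤ ModSite.Mod Y.sheaf := psh f
  haveI hpfA : pf.Additive := Groth.Agent.Lib.T2H5.ProjFLF.additive_psh f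
  haveI hpfL : PreservesFiniteLimits pf := preservesFiniteLimits_psh f
  let A : ModSite.Mod X.sheaf ⥤ ModSite.Mod Y.sheaf :=
    ModSite.sheafHom (O := X.sheaf) (CohB1.tensorMod F L) ⋙ pf
  let B : ModSite.Mod X.sheaf ⥤ ModSite.Mod Y.sheaf := ModSite.sheafHom (O := X.sheaf) F ⋙ pf
  let Φ : ModSite.Mod X.sheaf ⥤ ModSite.Mod Y.sheaf := tR X.sheaf ((plb f).obj N) ⋙ A
  let Ψ₀ : ModSite.Mod X.sheaf ⥤ ModSite.Mod Y.sheaf := tR X.sheaf (dual (O := X.sheaf) L) ⋙ B
  let Ψ : ModSite.Mod X.sheaf ⥤ ModSite.Mod Y.sheaf := Ψ₀ ⋙ tR Y.sheaf N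
  haveI hA : A.Additive := inferInstance
  haveI hB : B.Additive := inferInstance
  haveI hAL : PreservesFiniteLimits A := inferInstance
  haveI hBL : PreservesFiniteLimits B := inferInstance
  haveI hΦ : Φ.Additive := inferInstance
  haveI hΨ₀ : Ψ₀.Additive := inferInstance
  haveI hΨ : Ψ.Additive := inferInstance
  obtain ⟨e₁⟩ := nonempty_rightDerived_tr_comp_iso ((plb f).obj N) hN'ff A G p
  let e₂ : Φ.rightDerived p ≅ Ψ.rightDerived p :=
    @natIsoRightDerived (ModSite.Mod X.sheaf) _ _ (ModSite.Mod Y.sheaf) _ _ _ Φ Ψ hΦ hΨ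
      (mainIso f F L N hLff hN hN'ff) p
  let e₃ : Ψ.rightDerived p ≅ Ψ₀.rightDerived p ⋙ tR Y.sheaf N := postIso Ψ₀ (tR Y.sheaf N) p
  obtain ⟨e₄⟩ := nonempty_rightDerived_tr_comp_iso (dual (O := X.sheaf) L) hDL B G p
  exact ⟨e₁.symm ≪≫ e₂.app G ≪≫ e₃.app G ≪≫ (tR Y.sheaf N).mapIso e₄⟩

end Groth.Agent.Lib.T2H6.RelExtLF
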