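import Mathlib
import Groth.Agent.Lib.T2H6RelExtLFB

set_option backward.isDefEq.respectTransparency.types false

/-!
# Relative Ext sheaves and finite locally free twists (helper6), part C

`Ext^p_f(F, G ⊗ f^*N) ≅ Ext^p_f(F, G) ⊗ N` for `N` finite locally free.
-/

set_option autoImplicit false
set_option linter.style.haveILetI false
universe u
open CategoryTheory CategoryTheory.Limits AlgebraicGeometry Opposite

namespace Groth.Agent.Lib.T2H6.RelExtLF

open Groth.Agent.Lib.Helper21.ExtShDelta Groth.Agent.Lib.T2H5.Twist Groth.Agent.Lib.Helper21.Dual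
  Groth.Agent.Lib.Helper21.ModTensor3 Groth.Agent.Lib.Helper21.ModTensor5
  Groth.Agent.Lib.Helper21.ModTensor6 Groth.Agent.Lib.Helper21.DerPost
  Groth.Agent.Lib.T2H5.ProjFLF Groth.Agent.Lib.Helper1.PT Groth.Agent.Lib.T2H6.LocGlob
  Groth.Agent.Lib.Helper1.Sky

attribute [local instance] hasSheafHom

variable {X Y : Scheme.{u}} (f : X ⟶ Y)

/-- `(- ⊗ f^*N) ⋙ ℋom(F, -) ⋙ f_* ≅ (ℋom(F, -) ⋙ f_*) ⋙ (- ⊗ N)` -/
noncomputable def twistIso (F : X.Modules) (N : Y.Modules) (hN : FlatMod.IsFinLocFree N)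
    (hN' : IsLocFF (O := X.sheaf) ((plb f).obj N)) :
    tr ((plb f).obj N) ⋙ (ModSite.sheafHom (O := X.sheaf) F ⋙ psh f) ≅
      (ModSite.sheafHom (O := X.sheaf) F ⋙ psh f) ⋙ tR Y.sheaf N :=
  let N' := (plb f).obj N
  let HF := ModSite.sheafHom (O := X.sheaf) F
  let s3 : (tr N' ⋙ HF) ⋙ psh f ≅ (HF ⋙ tr N') ⋙ psh f :=
    Functor.isoWhiskerRight (sheafHomTensorIsoLF F N' hN').symm (psh f)
  let s4 : HF ⋙ (tr N' ⋙ psh f) ≅ HF ⋙ (psh f ⋙ tR Y.sheaf N) :=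
    Functor.isoWhiskerLeft _ (projTRIso f N hN)
  (show tr N' ⋙ (HF ⋙ psh f) ≅ (HF ⋙ tr N') ⋙ psh f from s3) ≪≫
    (show (HF ⋙ tr N') ⋙ psh f ≅ (HF ⋙ psh f) ⋙ tR Y.sheaf N from s4)

/-- `Ext^p_f(F, G ⊗ f^*N) ≅ Ext^p_f(F, G) ⊗ N` for `N` finite locally free -/
theorem nonempty_relExt_twist_iso (F G : X.Modules) (N : Y.Modules)
    (hN : FlatMod.IsFinLocFree N) (p : ℕ)
    [ModSite.HasSheafHom (O := X.sheaf) F] [HasInjectiveResolutions (ModSite.Mod X.sheaf)]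
    [(ModSite.sheafHom (O := X.sheaf) F ⋙ Scheme.Modules.pushforward f).Additive] :
    Nonempty (((ModSite.sheafHom (O := X.sheaf) F ⋙ Scheme.Modules.pushforward f).rightDerived p).obj
        (CohB1.tensorMod G ((Scheme.Modules.pullback f).obj N)) ≅
      CohB1.tensorMod (((ModSite.sheafHom (O := X.sheaf) F ⋙ Scheme.Modules.pushforward f).rightDerived p).obj G) N) := by
  have hN' : FlatMod.IsFinLocFree ((plb f).obj N) := isFinLocFree_pullback f N hN
  have hN'ff : IsLocFF (O := X.sheaf) ((plb f).obj N) := isLocFF_of_isFinLocFree _ hN'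
  have hNff : IsLocFF (O := Y.sheaf) N := isLocFF_of_isFinLocFree N hN
  haveI := sheafHom_preservesFiniteLimits X.sheaf F
  haveI : PreservesFiniteLimits (tR Y.sheaf N) := preservesFiniteLimits_tR_of_isLocFF N hNff
  haveI : (tR Y.sheaf N).PreservesHomology := inferInstance
  let pf : ModSite.Mod X.sheaf ⥤ ModSite.Mod Y.sheaf := psh f
  haveI hpfA : pf.Additive := Groth.Agent.Lib.T2H5.ProjFLF.additive_psh f
  haveI hpfL : PreservesFiniteLimits pf := preservesFiniteLimits_psh f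
  let B : ModSite.Mod X.sheaf ⥤ ModSite.Mod Y.sheaf := ModSite.sheafHom (O := X.sheaf) F ⋙ pf
  let Φ : ModSite.Mod X.sheaf ⥤ ModSite.Mod Y.sheaf := tR X.sheaf ((plb f).obj N) ⋙ B
  let Ψ : ModSite.Mod X.sheaf ⥤ ModSite.Mod Y.sheaf := B ⋙ tR Y.sheaf N
  haveI hB : B.Additive := inferInstance
  haveI hBL : PreservesFiniteLimits B := inferInstance
  haveI hΦ : Φ.Additive := inferInstance
  haveI hΨ : Ψ.Additive := inferInstance
  obtain ⟨e₁⟩ := nonempty_rightDerived_tr_comp_iso ((plb f).obj N) hN'ff B G p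
  let e₂ : Φ.rightDerived p ≅ Ψ.rightDerived p :=
    @natIsoRightDerived (ModSite.Mod X.sheaf) _ _ (ModSite.Mod Y.sheaf) _ _ _ Φ Ψ hΦ hΨ
      (twistIso f F N hN hN'ff) p
  let e₃ : Ψ.rightDerived p ≅ B.rightDerived p ⋙ tR Y.sheaf N := postIso B (tR Y.sheaf N) p
  exact ⟨e₁.symm ≪≫ e₂.app G ≪≫ e₃.app G⟩

end Groth.Agent.Lib.T2H6.RelExtLF
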