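import Mathlib
import Groth.Agent.Lib.T2H6RelExtLFC
import Groth.Agent.Lib.T2H6SSCollapse
import Groth.Agent.Lib.T2H9TwPush
import Groth.Agent.Lib.T2H5RegPush
import Groth.Agent.S16280
import Groth.Agent.S16283
import Groth.Agent.S9705

set_option backward.isDefEq.respectTransparency.types false

/-!
# `g_* Ext^p_f(F, G(l)) ≅ Ext^p_{f ≫ g}(F, G(l))` for `l ≫ 0` (helper6)

The relative Ext spectral sequence `R^a g_* Ext^b_f(F, G(l)) ⇒ Ext^{a+b}_{f ≫ g}(F, G(l))` (S16283) collapses for large `l`: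
`Ext^b_f(F, G(l)) ≅ Ext^b_f(F, G)(l)` with `Ext^b_f(F, G)` coherent (S16280), and relative Serre vanishing.
-/

set_option autoImplicit false
set_option linter.style.haveILetI false
universe u
open CategoryTheory CategoryTheory.Limits AlgebraicGeometry Opposite

namespace Groth.Agent.Lib.T2H6.RelExtTwistSS

open Groth.Agent.Lib.T2H6.RelExtLF Groth.Agent.Lib.T2H9.TwPush Groth.Agent.Lib.T2H6.HProjChart
  Groth.Agent.Lib.T2H5.T2Van

set_option linter.unusedSectionVars false

variable {Z : Scheme.{u}} [IsNoetherian Z] {m : ℕ}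
  {Y : Scheme.{u}} (e' : Y ⟶ CohB1.ProjSpaceOver m Z) [IsClosedImmersion e']

include e' in
theorem isNoetherian_of_closed : IsNoetherian Y := by
  haveI : IsProper (CohB1.ProjSpaceOver.toBase m Z) := Groth.Agent.S9705.isProper_toBase m Z
  haveI : IsProper (fS e') := inferInstance
  haveI : IsLocallyNoetherian Y := LocallyOfFiniteType.isLocallyNoetherian (fS e')
  haveI : CompactSpace Y := QuasiCompact.compactSpace_of_compactSpace (fS e')
  exact {}

/-- the twisting sheaf `O_Y(l) = e'^* O(l)` -/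
noncomputable abbrev NN (l : ℤ) : Y.Modules :=
  (Scheme.Modules.pullback e').obj (Twist.twistOver m Z l)

theorem isFinLocFree_NN (l : ℤ) : FlatMod.IsFinLocFree (NN e' l) :=
  Groth.Agent.Helper18PBUnit.isFinLocFree_of_isInvertible (isInvertible_pullback_twistOver e' l)

variable {n : ℕ} {X : Scheme.{u}} (f : X ⟶ Y) (e : X ⟶ CohB1.ProjSpaceOver n Y) [IsClosedImmersion e]
  (he : e ≫ CohB1.ProjSpaceOver.toBase n Y = f) (F G : X.Modules) (hF : Coh.IsCoh F) (hG : Coh.IsCoh G)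
  [ModSite.HasSheafHom (O := X.sheaf) F] [HasInjectiveResolutions (ModSite.Mod X.sheaf)]
  [(ModSite.sheafHom (O := X.sheaf) F ⋙ Scheme.Modules.pushforward f).Additive]

/-- the relative Ext functor `Ext^b_f(F, -)` -/
noncomputable abbrev EF (b : ℕ) : ModSite.Mod X.sheaf ⥤ Y.Modules :=
  (ModSite.sheafHom (O := X.sheaf) F ⋙ Scheme.Modules.pushforward f).rightDerived b

/-- `G(l) = G ⊗ f^* O_Y(l)` -/
noncomputable abbrev Gl (l : ℤ) : X.Modules :=
  CohB1.tensorMod G ((Scheme.Modules.pullback f).obj (NN e' l))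

include he hF hG in
/-- relative Serre vanishing for `Ext^b_f(F, G(d))`, `d ≫ 0` -/
theorem exists_vanishing [HasInjectiveResolutions Y.Modules] (b : ℕ) :
    ∃ d₀ : ℤ, ∀ d : ℤ, d₀ ≤ d → ∀ q : ℕ,
      IsZero ((Coh.Rpush (fS e') (q + 1)).obj ((EF f F b).obj (Gl e' f G d))) := by
  haveI := isNoetherian_of_closed e'
  have hM : Coh.IsCoh ((EF f F b).obj G) := Groth.Agent.S16280.result X Y f n e he F G hF hG b
  obtain ⟨d₀, hd₀⟩ := exists_isZero_RpushAb_tensor e' _ hM
  refine ⟨d₀, fun d hd q => ?_⟩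
  obtain ⟨i1⟩ := nonempty_relExt_twist_iso f F G (NN e' d) (isFinLocFree_NN e' d) b
  have h2 := Groth.Agent.Lib.T2H5.RegPush.isZero_Rpush_of_isZero_RpushAb (fS e') _ (q + 1) (hd₀ d hd q)
  exact IsZero.of_iso h2 ((Coh.Rpush (fS e') (q + 1)).mapIso (i1 ≪≫ isoFd e' _ d))

include he hF hG in
/-- **S16284** (with `g = e' ≫ toBase`) -/
theorem exists_iso
    [(ModSite.sheafHom (O := X.sheaf) F ⋙ Scheme.Modules.pushforward (f ≫ fS e')).Additive] (p : ℕ) :
    ∃ l₀ : ℕ, ∀ l : ℕ, l₀ ≤ l →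
      Nonempty ((Scheme.Modules.pushforward (fS e')).obj ((EF f F p).obj (Gl e' f G (l : ℤ))) ≅
        ((ModSite.sheafHom (O := X.sheaf) F ⋙ Scheme.Modules.pushforward (f ≫ fS e')).rightDerived p).obj
          (Gl e' f G (l : ℤ))) := by
  classical
  haveI := isNoetherian_of_closed e'
  haveI := Groth.Agent.Lib.Helper21.ModTensor3.isGrothendieckAbelian Y.sheaf
  haveI : HasInjectiveResolutions Y.Modules :=
    (inferInstance : HasInjectiveResolutions (ModSite.Mod Y.sheaf))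
  choose d₀ hd₀ using fun b => exists_vanishing e' f e he F G hF hG b
  refine ⟨((Finset.range p).sup fun b => (d₀ b).toNat), fun l hl => ?_⟩
  have hvan : ∀ a b : ℕ, 1 ≤ a → b < p →
      IsZero ((Coh.Rpush (fS e') a).obj ((EF f F b).obj (Gl e' f G (l : ℤ)))) := by
    intro a b ha hb
    obtain ⟨q, rfl⟩ : ∃ q, a = q + 1 := ⟨a - 1, by omega⟩
    refine hd₀ b l ?_ q
    have h1 : (d₀ b).toNat ≤ (Finset.range p).sup fun b => (d₀ b).toNat :=
      Finset.le_sup (f := fun b => (d₀ b).toNat) (Finset.mem_range.2 hb)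
    have h2 := Int.self_le_toNat (d₀ b)
    omega
  obtain ⟨ES, a, hfin, -, hpq⟩ := Groth.Agent.S16283.result X Y Z f (fS e') F (Gl e' f G (l : ℤ))
  have hcell : ∀ i j : ℤ, (i < 0 ∨ j < 0 ∨ (1 ≤ i ∧ j < p)) →
      IsZero ((ES.page 2 le_rfl).X (i, j)) := by
    intro i j h
    obtain ⟨ε⟩ := hpq i j
    refine IsZero.of_iso ?_ ε
    by_cases h' : 0 ≤ i ∧ 0 ≤ j
    · rw [if_pos h']
      obtain ⟨hi, hj⟩ := h'
      exact hvan i.toNat j.toNat (by omega) (by omega)
    · rw [if_neg h']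
      exact isZero_zero _
  obtain ⟨e1⟩ := Groth.Agent.Lib.T2H6.SSCollapse.nonempty_abutment_iso ES _ a (p : ℤ) 0 (hfin _)
    (fun i hi => hcell _ _ (by omega))
    (fun r hr => by
      rw [Prod.mk_sub_mk]
      exact hcell _ _ (by omega))
    (fun r hr => by
      rw [Prod.mk_add_mk]
      exact hcell _ _ (by omega))
  obtain ⟨e2⟩ := hpq 0 ((p : ℤ) - 0)
  rw [sub_zero] at e1 e2
  rw [if_pos (Int.natCast_nonneg _), Int.toNat_natCast] at e1
  rw [if_pos ⟨le_rfl, Int.natCast_nonneg _⟩, Int.toNat_zero, Int.toNat_natCast] at e2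
  haveI : PreservesFiniteLimits (Scheme.Modules.pushforward (fS e')) := by
    haveI : PreservesLimitsOfSize.{0, 0} (Scheme.Modules.pushforward (fS e')) :=
      (Scheme.Modules.pullbackPushforwardAdjunction (fS e')).rightAdjoint_preservesLimits
    exact PreservesLimitsOfSize.preservesFiniteLimits.{0, 0} _
  haveI : (Scheme.Modules.pushforward (fS e')).Additive :=
    (Scheme.Modules.pullbackPushforwardAdjunction (fS e')).right_adjoint_additive
  let e3 := (Functor.rightDerivedZeroIsoSelf (Scheme.Modules.pushforward (fS e'))).app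
    ((EF f F p).obj (Gl e' f G (l : ℤ)))
  exact ⟨e3.symm ≪≫ e2.symm ≪≫ e1.symm⟩

end Groth.Agent.Lib.T2H6.RelExtTwistSS
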