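-- helper6 (team 2): the diagonal of a functor representable by algebraic spaces is representable.
import Mathlib
import Groth.Agent.Lib.T2H6DiagSp
import Groth.Agent.Lib.T2H6PshPB
import Groth.Agent.Lib.Helper15DiagOfComp

set_option autoImplicit false
set_option backward.isDefEq.respectTransparency false
set_option backward.isDefEq.respectTransparency.types false
open CategoryTheory CategoryTheory.Functor CategoryTheory.Limits Opposite AlgebraicGeometry

universe v w u

namespace Groth.Agent.Lib.T2H6.RepDiag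

open Groth.Agent.Lib.Helper17 Groth.Agent.Lib.Helper15PshFib Groth.Agent.Lib.Helper15DiagLft
  Groth.Agent.Lib.Helper15DiagRepSp

section Psh

variable {C : Type u} [Category.{v} C] {P Q : Cᵒᵖ ⥤ Type w}

theorem isEquivOver_ofPshMap_of_inv (a : P ⟶ Q) (b : Q ⟶ P) (hab : a ≫ b = 𝟙 P)
    (hba : b ≫ a = 𝟙 Q) : FibCat.IsEquivOver (Stk.ofPshMap a) := by
  refine ⟨Stk.ofPshMap b, ⟨pshIsoOfSecEq (fun c => ?_)⟩, ⟨pshIsoOfSecEq (fun c => ?_)⟩⟩
  · rw [pshSec_comp_ofPshMap, pshSec_ofPshMap, Groth.Agent.Lib.T2H6.PshPB.pshSec_id]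
    have := congrArg (fun t => (ConcreteCategory.hom (t.app (op c.base))) c.sec) hab
    simpa using this
  · rw [pshSec_comp_ofPshMap, pshSec_ofPshMap, Groth.Agent.Lib.T2H6.PshPB.pshSec_id]
    have := congrArg (fun t => (ConcreteCategory.hom (t.app (op c.base))) c.sec) hba
    simpa using this

end Psh

variable {S : Scheme.{u}} {𝒳 𝒴 : AlgSt.Cat S}

theorem bcStable_representable : BCStable (AlgSp.Representable (S := S)) :=
  fun _ _ _ _ _ _ _ _ _ _ _ _ sq ha => MorphismProperty.of_isPullback sq ha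

/-- a sheaf with a representable map to a representable sheaf is representable -/
theorem exists_iso_yon_of_representable {F : AlgSp.Sp S} {U : Over S}
    (φ : F ⟶ (AlgSp.yon S).obj U) (h : AlgSp.Representable φ) :
    ∃ V : Over S, Nonempty ((AlgSp.yon S).obj V ≅ F) := by
  have sq := h.isPullback (𝟙 ((AlgSp.yon S).obj U))
  have : IsIso (h.fst (𝟙 ((AlgSp.yon S).obj U))) := sq.isIso_fst_of_isIso
  exact ⟨h.pullback (𝟙 _), ⟨asIso (h.fst (𝟙 ((AlgSp.yon S).obj U)))⟩⟩

theorem isRepresentable_ofSp_of_iso {F : AlgSp.Sp S} {V : Over S} (i : (AlgSp.yon S).obj V ≅ F) :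
    FibCat.IsRepresentable (AlgSt.ofSp F) := by
  have h1 : FibCat.IsEquivOver (AlgSt.ofSpMap i.inv) :=
    isEquivOver_ofPshMap_of_inv i.inv.hom i.hom.hom (congrArg (·.hom) i.inv_hom_id)
      (congrArg (·.hom) i.hom_inv_id)
  exact ⟨V, BasedFunctor.comp (AlgSt.ofSpMap i.inv) (AlgSt.toOverCat V),
    IsEquivOver.comp _ _ h1 (isEquivOver_toOverCat V)⟩

/-- The diagonal of a functor which is representable by algebraic spaces is representable. -/
theorem isRepresentable1_diag (f : 𝒳 ⥤ᵇ 𝒴) (hf : AlgSt.RepByAlgSp1 f) :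
    FibCat.IsRepresentable1 (FibCat.diag f) := by
  have h1 : AlgSt.RepByAlgSpWith AlgSp.Representable (FibCat.diag f) :=
    Groth.Agent.Lib.T2H6.DiagSp.repByAlgSpWith_diag_of_forall_diagonal ⊤ AlgSp.Representable
      bcStable_representable f ((Groth.Agent.Lib.Helper15DiagOfComp.repByAlgSpWith_top_iff f).2 hf)
      (fun F T φ _ => Groth.Agent.Lib.T2H6.DiagSp.representable_diagonal F T φ)
  intro U y
  obtain ⟨F, e, he, hrep⟩ := h1 U y
  obtain ⟨V, ⟨i⟩⟩ := exists_iso_yon_of_representable _ hrep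
  exact isRepresentable_of_isEquivOver' e he (isRepresentable_ofSp_of_iso i)

end Groth.Agent.Lib.T2H6.RepDiag
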