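import Mathlib
import Groth.Agent.Lib.Helper16SectSupp
set_option backward.isDefEq.respectTransparency.types false

/-!
# T2H6ResolEulerA (helper6): abelian sheaves supported on a discrete closed set are flasque

Namespace `Groth.Agent.Lib.T2H6.ResolEuler`.

* `isFlasque_of_discrete_support` : a sheaf of abelian groups whose sections vanish over the opens disjoint from a set
  `Z` all of whose subsets are closed is flasque.
* `H_subsingleton_of_discrete_support` : such a sheaf has no higher cohomology.
* `subsingleton_sections_of_top` : and all its sections vanish when its global sections do.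
* `subsingleton_sections_of_stalks` : sections of a sheaf vanish over an open all of whose stalks vanish.
-/

set_option autoImplicit false
set_option linter.style.haveILetI false
universe u
open CategoryTheory CategoryTheory.Limits Opposite TopologicalSpace

namespace Groth.Agent.Lib.T2H6.ResolEuler

variable {X : TopCat.{u}} (F : CohTop.Ab X)

/-- a sheaf supported on a set all of whose subsets are closed is flasque. -/
theorem isFlasque_of_discrete_support (Z : Set X) (hZ : ∀ T : Set X, T ⊆ Z → IsClosed T)
    (hF : ∀ V : Opens X, Disjoint (V : Set X) Z → Subsingleton (F.obj.obj (op V))) :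
    TopCat.Sheaf.IsFlasque F := by
  constructor
  intro U V i
  rw [AddCommGrpCat.epi_iff_surjective]
  intro s
  have hVU : V.unop ≤ U.unop := i.unop.le
  -- the second open
  let T : Set X := Z ∩ (V.unop : Set X)
  have hT : IsClosed T := hZ T Set.inter_subset_left
  let W : Opens X := U.unop ⊓ ⟨Tᶜ, hT.isOpen_compl⟩
  have hWU : W ≤ U.unop := inf_le_left
  have hcov : U.unop ≤ V.unop ⊔ W := by
    intro x hx
    by_cases hxV : x ∈ V.unop
    · exact Or.inl hxV
    · refine Or.inr ⟨hx, ?_⟩
      intro hxT
      exact hxV hxT.2
  have hdisj : Disjoint ((V.unop ⊓ W : Opens X) : Set X) Z := by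
    rw [Set.disjoint_left]
    rintro x ⟨hxV, -, hxT⟩ hxZ
    exact hxT ⟨hxZ, hxV⟩
  haveI := hF _ hdisj
  obtain ⟨c, hc, -⟩ := Groth.Agent.Lib.Helper16.SectSupp.glue2 F V.unop W U.unop hVU hWU hcov s 0
    (Subsingleton.elim _ _)
  exact ⟨c, hc⟩

/-- a sheaf supported on a set all of whose subsets are closed has no higher cohomology. -/
theorem H_subsingleton_of_discrete_support (Z : Set X) (hZ : ∀ T : Set X, T ⊆ Z → IsClosed T)
    (hF : ∀ V : Opens X, Disjoint (V : Set X) Z → Subsingleton (F.obj.obj (op V))) (n : ℕ) :
    Subsingleton (CohTop.H F (n + 1)) := by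
  haveI := isFlasque_of_discrete_support F Z hZ hF
  exact Groth.Agent.Lib.Helper16.Flasque.H_subsingleton F n

/-- a flasque sheaf without global sections has no sections. -/
theorem subsingleton_sections_of_top [TopCat.Sheaf.IsFlasque F]
    (h : Subsingleton (F.obj.obj (op (⊤ : Opens X)))) (V : Opens X) :
    Subsingleton (F.obj.obj (op V)) := by
  have hepi : Epi (F.obj.map (homOfLE (le_top : V ≤ ⊤)).op) := TopCat.Presheaf.IsFlasque.epi _
  rw [AddCommGrpCat.epi_iff_surjective] at hepi
  exact hepi.subsingleton

/-- sections of a sheaf over an open vanish when all the stalks at its points do. -/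
theorem subsingleton_sections_of_stalks (V : Opens X)
    (h : ∀ x ∈ V, Subsingleton (TopCat.Presheaf.stalk (C := AddCommGrpCat.{u}) F.obj x)) :
    Subsingleton (F.obj.obj (op V)) := by
  constructor
  intro s t
  refine TopCat.Presheaf.section_ext F V s t (fun x hx => ?_)
  haveI := h x hx
  exact Subsingleton.elim _ _

end Groth.Agent.Lib.T2H6.ResolEuler
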