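import Mathlib
import Groth.Agent.Lib.T2H6ResolEulerA
import Groth.Agent.Lib.T2H6LerayEuler
import Groth.Agent.Lib.T2H6FieldBC2
import Groth.Agent.Lib.T2H9FBCZero
import Groth.Agent.Lib.T2H5LocMain
import Groth.Agent.Lib.Helper23ModAbBridge
import Groth.Agent.Lib.T2H5RpushClosed
set_option backward.isDefEq.respectTransparency.types false

/-!
# T2H6ResolEulerB (helper6): `R¹f_* G = 0 ↔ χ(Y, G) = χ(X, f_* G)` when `R^{≥ 2} f_* G = 0` and `R¹ f_* G` has discrete support

Namespace `Groth.Agent.Lib.T2H6.ResolEuler`.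
-/

set_option autoImplicit false
set_option linter.style.haveILetI false
set_option linter.unusedSectionVars false
universe u
open CategoryTheory CategoryTheory.Limits Opposite TopologicalSpace AlgebraicGeometry

namespace Groth.Agent.Lib.T2H6.ResolEuler

section sheaves

variable {X : TopCat.{u}}

/-- an abelian sheaf without sections is zero. -/
theorem isZero_of_sections (A : CohTop.Ab X) (h : ∀ V : Opens X, Subsingleton (A.obj.obj (op V))) :
    IsZero A := by
  rw [IsZero.iff_id_eq_zero]
  apply Sheaf.hom_ext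
  ext V x
  haveI := h V.unop
  exact Subsingleton.elim _ _

/-- an abelian sheaf all of whose stalks vanish is zero. -/
theorem isZero_of_stalks (A : CohTop.Ab X)
    (h : ∀ x : X, IsZero (TopCat.Presheaf.stalk (C := AddCommGrpCat.{u}) A.obj x)) : IsZero A :=
  isZero_of_sections A (fun V => subsingleton_sections_of_stalks A V
    (fun x _ => AddCommGrpCat.subsingleton_of_isZero (h x)))

theorem subsingleton_sections_of_isZero (A : CohTop.Ab X) (h : IsZero A) (V : Opens X) :
    Subsingleton (A.obj.obj (op V)) := by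
  have h1 : IsZero (((sheafSections (Opens.grothendieckTopology X) AddCommGrpCat.{u}).obj (op V)).obj A) :=
    Functor.map_isZero _ h
  exact AddCommGrpCat.subsingleton_of_isZero h1

end sheaves

section schemes

/-- `R^q f_* M = 0` when the stalks of the abelian higher direct image vanish. -/
theorem isZero_Rpush_of_stalks {X Y : Scheme.{u}} (f : X ⟶ Y) [HasInjectiveResolutions X.Modules]
    (M : X.Modules) (q : ℕ)
    (h : ∀ y : Y, IsZero (TopCat.Presheaf.stalk ((Coh.RpushAb f q).obj (Coh.toAb M)).obj y)) :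
    IsZero ((Coh.Rpush f q).obj M) := by
  obtain ⟨e⟩ := Groth.Agent.Lib.Helper23.ModAbBridge.nonempty_toAb_Rpush_iso f M q
  apply Groth.Agent.Lib.T2H5.RpushClosed.isZero_of_isZero_toAb
  exact IsZero.of_iso (isZero_of_stalks (X := Y.toTopCat) _ h) e

end schemes

section euler

variable (k : Type u) [Field k] (X : Scheme.{u}) [X.Over (Spec (CommRingCat.of k))]
  [IsProper (X ↘ Spec (CommRingCat.of k))]

/-- a coherent module with discrete support and vanishing Euler characteristic is zero. -/
theorem isZero_of_euler_eq_zero (G : X.Modules) (hG : Coh.IsCoh G) (Z : Set X)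
    (hZ : ∀ T : Set X, T ⊆ Z → IsClosed T)
    (hst : ∀ x : X, x ∉ Z → IsZero (TopCat.Presheaf.stalk (Coh.toAb G).obj x))
    (h : Curv2.euler k X G = 0) : IsZero G := by
  have hF : ∀ V : Opens X, Disjoint (V : Set X) Z → Subsingleton ((Coh.toAb G).obj.obj (op V)) := by
    intro V hV
    refine subsingleton_sections_of_stalks (X := X.toTopCat) (Coh.toAb G) V (fun x hx => ?_)
    exact AddCommGrpCat.subsingleton_of_isZero (hst x (fun hxZ => Set.disjoint_left.1 hV hx hxZ))
  haveI hfl := isFlasque_of_discrete_support (X := X.toTopCat) (Coh.toAb G) Z hZ hF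
  have hvan : ∀ i : ℕ, 0 < i → Subsingleton (Coh.HH X G i) := by
    intro i hi
    obtain ⟨n, rfl⟩ : ∃ n, i = n + 1 := ⟨i - 1, by omega⟩
    exact Groth.Agent.Lib.Helper16.Flasque.H_subsingleton (X := X.toTopCat) (Coh.toAb G) n
  rw [Groth.Agent.Lib.T2H6.EulerField.euler_eq_sum k X G 0 hvan] at h
  simp only [zero_add, Finset.range_one, Finset.sum_singleton, pow_zero, one_mul] at h
  haveI := Groth.Agent.Lib.T2H6.EulerField.finite_HH k X G hG 0
  have h0 : Module.finrank k (Coh.HH X G 0) = 0 := by exact_mod_cast h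
  haveI : Subsingleton (Coh.HH X G 0) := Module.finrank_zero_iff.1 h0
  have htop : Subsingleton ((Coh.toAb G).obj.obj (op (⊤ : Opens X))) :=
    (Groth.Agent.Lib.T2H9.FBCZero.hh0Γ X G).symm.toEquiv.subsingleton
  apply Groth.Agent.Lib.T2H5.RpushClosed.isZero_of_isZero_toAb
  exact isZero_of_sections (X := X.toTopCat) (Coh.toAb G)
    (fun V => subsingleton_sections_of_top (X := X.toTopCat) (Coh.toAb G) htop V)

end euler

end Groth.Agent.Lib.T2H6.ResolEuler
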