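import Mathlib
import Groth.Agent.Lib.T2H6ResolEulerB
set_option backward.isDefEq.respectTransparency.types false

/-!
# T2H6ResolEulerC (helper6): `R¹f_* G = 0 ↔ χ(Y, G) = χ(X, f_* G)`

Namespace `Groth.Agent.Lib.T2H6.ResolEuler`.

`isZero_RpushAb_one_iff`: for a morphism `f : Y ⟶ X` of proper schemes over a field, a coherent `G` on `Y` with
`R^q f_* G = 0` for `q ≥ 2` (stalkwise) and `R¹ f_* G` supported on a set all of whose subsets are closed,
`R¹ f_* G = 0 ↔ χ(Y, G) = χ(X, f_* G)`.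
-/

set_option autoImplicit false
set_option linter.style.haveILetI false
set_option linter.unusedSectionVars false
universe u
open CategoryTheory CategoryTheory.Limits Opposite TopologicalSpace AlgebraicGeometry Abelian

namespace Groth.Agent.Lib.T2H6.ResolEuler

variable (k : Type u) [Field k] (X Y : Scheme.{u}) [X.Over (Spec (CommRingCat.of k))]
  [Y.Over (Spec (CommRingCat.of k))]
  [IsProper (X ↘ Spec (CommRingCat.of k))] [IsProper (Y ↘ Spec (CommRingCat.of k))]
  (f : Y ⟶ X) (hf : f ≫ (X ↘ Spec (CommRingCat.of k)) = Y ↘ Spec (CommRingCat.of k))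
  (G : Y.Modules) (hG : Coh.IsCoh G)

include hf hG in
/-- the Leray formula when the higher direct images vanish from degree two on. -/
theorem euler_eq_sub [HasInjectiveResolutions Y.Modules]
    (h2 : ∀ q : ℕ, 2 ≤ q → IsZero ((Coh.Rpush f q).obj G)) :
    Curv2.euler k Y G = Curv2.euler k X ((Coh.push f).obj G) -
      Curv2.euler k X ((Coh.Rpush f 1).obj G) := by
  rw [Groth.Agent.Lib.T2H6.LerayEuler.euler_eq_sum_euler_Rpush k X Y f hf G hG]
  haveI : EnoughInjectives X.Modules := Groth.Agent.Lib.T2H6.ExtCmp.enoughInjectives_modules X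
  haveI : HasExt.{u} X.Modules := hasExt_of_enoughInjectives _
  have hsupp : (Function.support fun i : ℕ =>
      (-1 : ℤ) ^ i * Curv2.euler k X ((Coh.Rpush f i).obj G)) ⊆ ((Finset.range 2 : Finset ℕ) : Set ℕ) := by
    intro i hi
    rw [Function.mem_support] at hi
    rw [Finset.coe_range, Set.mem_Iio]
    by_contra hlt
    apply hi
    rw [Groth.Agent.Lib.T2H6.LerayEuler.euler_eq_zero_of_isZero k X _ (h2 i (by omega)), mul_zero]
  rw [finsum_eq_sum_of_support_subset _ hsupp, Finset.sum_range_succ, Finset.sum_range_one]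
  rw [Groth.Agent.Lib.T2H6.FieldBC.euler_eq_of_iso k X
    (Groth.Agent.Lib.T2H5.LocMain.rpushZeroIso f G)]
  ring

include hf hG in
/-- **`R¹ f_* G = 0 ↔ χ(Y, G) = χ(X, f_* G)`**. -/
theorem isZero_RpushAb_one_iff (Z : Set X) (hZ : ∀ T : Set X, T ⊆ Z → IsClosed T)
    (h1 : ∀ x : X, x ∉ Z →
      IsZero (TopCat.Presheaf.stalk ((Coh.RpushAb f 1).obj (Coh.toAb G)).obj x))
    (h2 : ∀ q : ℕ, 2 ≤ q → ∀ x : X,
      IsZero (TopCat.Presheaf.stalk ((Coh.RpushAb f q).obj (Coh.toAb G)).obj x)) :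
    IsZero ((Coh.RpushAb f 1).obj (Coh.toAb G)) ↔
      Curv2.euler k Y G = Curv2.euler k X ((Coh.push f).obj G) := by
  haveI : EnoughInjectives Y.Modules := Groth.Agent.Lib.T2H6.ExtCmp.enoughInjectives_modules Y
  haveI : HasInjectiveResolutions Y.Modules := inferInstance
  haveI : EnoughInjectives X.Modules := Groth.Agent.Lib.T2H6.ExtCmp.enoughInjectives_modules X
  haveI : HasExt.{u} X.Modules := hasExt_of_enoughInjectives _
  haveI : IsLocallyNoetherian X := LocallyOfFiniteType.isLocallyNoetherian (X ↘ Spec (CommRingCat.of k))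
  haveI : IsProper (f ≫ (X ↘ Spec (CommRingCat.of k))) := by rw [hf]; infer_instance
  haveI : IsProper f := IsProper.of_comp f (X ↘ Spec (CommRingCat.of k))
  have hR2 : ∀ q : ℕ, 2 ≤ q → IsZero ((Coh.Rpush f q).obj G) := fun q hq =>
    isZero_Rpush_of_stalks f G q (h2 q hq)
  have hE := euler_eq_sub k X Y f hf G hG hR2
  obtain ⟨e⟩ := Groth.Agent.Lib.Helper23.ModAbBridge.nonempty_toAb_Rpush_iso f G 1
  have hR1 : Coh.IsCoh ((Coh.Rpush f 1).obj G) := Groth.Agent.Lib.T2H5.RpushCoh.isCoh_Rpush f G hG 1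
  constructor
  · intro hz
    have h0 : IsZero ((Coh.Rpush f 1).obj G) :=
      Groth.Agent.Lib.T2H5.RpushClosed.isZero_of_isZero_toAb _ (IsZero.of_iso hz e)
    rw [hE, Groth.Agent.Lib.T2H6.LerayEuler.euler_eq_zero_of_isZero k X _ h0, sub_zero]
  · intro heq
    have h0 : Curv2.euler k X ((Coh.Rpush f 1).obj G) = 0 := by
      rw [heq] at hE
      linarith
    have hst : ∀ x : X, x ∉ Z →
        IsZero (TopCat.Presheaf.stalk (Coh.toAb ((Coh.Rpush f 1).obj G)).obj x) := by
      intro x hx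
      refine IsZero.of_iso (h1 x hx) ?_
      exact (TopCat.Presheaf.stalkFunctor AddCommGrpCat.{u} x).mapIso
        ((sheafToPresheaf _ _).mapIso e)
    have hz := isZero_of_euler_eq_zero k X _ hR1 Z hZ hst h0
    exact IsZero.of_iso (Functor.map_isZero (SheafOfModules.toSheaf X.ringCatSheaf) hz) e.symm

end Groth.Agent.Lib.T2H6.ResolEuler
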