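import Mathlib
import Groth.Agent.Lib.T2H2OrdDVRSch
import Groth.Agent.Lib.Helper10CurveFlat
import Groth.Agent.Lib.T2H6DimCompB
import Groth.Prelude.Def_Pi1
set_option backward.isDefEq.respectTransparency.types false

/-!
# T2H6ResolGeomA (helper6): the geometry of resolutions of normal surfaces

Namespace `Groth.Agent.Lib.T2H6.ResolGeom`.

* `isClosed_singleton_of_le_coheight` : a point whose codimension is the dimension of the scheme is closed.
* `isRegularLocalRing_of_coheight_le_one` : points of codimension `≤ 1` of a normal scheme are regular.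
* `isClosed_of_subset_compl_regular` : every subset of the non-regular locus of a normal surface is closed.
* `finite_fibre_of_isIso_restrict`, `fiber_dim_le_one` : bounds for the dimension of the fibres of a birational morphism
  of surfaces.
-/

set_option autoImplicit false
set_option linter.style.haveILetI false
universe u
open CategoryTheory CategoryTheory.Limits Opposite TopologicalSpace AlgebraicGeometry

namespace Groth.Agent.Lib.T2H6.ResolGeom


variable {X : Scheme.{u}}

/-- a point of coheight equal to the dimension is a closed point. -/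
theorem isClosed_singleton_of_le_coheight (n : ℕ) (hdim : topologicalKrullDim X ≤ n) (x : X)
    (hx : (n : ℕ∞) ≤ Order.coheight x) : IsClosed ({x} : Set X) := by
  have h1 : topologicalKrullDim X = Order.krullDim X :=
    Helper7.topologicalKrullDim_eq_krullDim_points
  haveI : Nonempty X := ⟨x⟩
  have h2 : ((Order.height x + Order.coheight x : ℕ∞) : WithBot ℕ∞) ≤ Order.krullDim X := by
    rw [Order.krullDim_eq_iSup_height_add_coheight_of_nonempty, WithBot.coe_le_coe]
    exact le_iSup (fun a : X => Order.height a + Order.coheight a) x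
  rw [← h1] at h2
  have h3 : Order.height x + Order.coheight x ≤ (n : ℕ∞) := by
    have := h2.trans hdim
    exact_mod_cast this
  have h4 : Order.height x = 0 := by
    have h5 : Order.height x + (n : ℕ∞) ≤ (n : ℕ∞) := (add_le_add_right hx _).trans h3
    by_contra hne
    have h6 : 1 ≤ Order.height x := Order.one_le_iff_ne_zero.2 hne
    have h7 : (1 : ℕ∞) + (n : ℕ∞) ≤ (n : ℕ∞) := (add_le_add_left h6 _).trans h5
    have h8 : ((1 + n : ℕ) : ℕ∞) ≤ (n : ℕ∞) := by exact_mod_cast h7
    have h9 : 1 + n ≤ n := by exact_mod_cast h8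
    omega
  have hmin : IsMin x := Order.height_eq_zero.1 h4
  rw [← closure_subset_iff_isClosed]
  intro y hy
  have hxy : x ⤳ y := specializes_iff_mem_closure.2 hy
  have hyx : y ⤳ x := hmin (show y ≤ x from hxy)
  exact (hyx.antisymm hxy).eq

/-- on a normal integral locally Noetherian scheme, points of codimension at most one are regular. -/
theorem isRegularLocalRing_of_coheight_le_one [IsIntegral X] [IsLocallyNoetherian X]
    (hX : Pi1.IsNormalScheme X) (x : X) (hx : Order.coheight x ≤ 1) :
    IsRegularLocalRing (X.presheaf.stalk x) := by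
  haveI := (hX x).1
  haveI := (hX x).2
  rcases lt_or_eq_of_le hx with h | h
  · have h0 : Order.coheight x = 0 := Order.lt_one_iff.mp h
    have hF := Groth.Agent.Lib.T2H2.OrdDVRSch.isField_stalk_of_coheight_eq_zero x h0
    haveI := hF.isPrincipalIdealRing
    infer_instance
  · haveI := Groth.Agent.Lib.T2H2.OrdDVRSch.isDiscreteValuationRing_stalk x h
    infer_instance

/-- on a normal integral locally Noetherian scheme of dimension `≤ 2`, every subset of the non-regular locus is closed
(when that locus is closed). -/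
theorem isClosed_of_subset_compl_regular [IsIntegral X] [IsLocallyNoetherian X] [CompactSpace X]
    (hX : Pi1.IsNormalScheme X) (hdim : topologicalKrullDim X ≤ 2)
    (U : X.Opens) (hU : ∀ x : X, x ∈ U ↔ IsRegularLocalRing (X.presheaf.stalk x))
    (T : Set X) (hT : T ⊆ (U : Set X)ᶜ) : IsClosed T := by
  have hpt : ∀ z : X, z ∉ U → IsClosed ({z} : Set X) := by
    intro z hz
    refine isClosed_singleton_of_le_coheight 2 hdim z ?_
    by_contra hlt
    rw [not_le] at hlt
    apply hz
    rw [hU]
    refine isRegularLocalRing_of_coheight_le_one hX z ?_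
    cases hc : Order.coheight z with
    | top => rw [hc] at hlt; exact absurd hlt (by simp)
    | coe m =>
      rw [hc] at hlt
      have h2 : m < 2 := by exact_mod_cast hlt
      have h1 : m ≤ 1 := by omega
      exact_mod_cast h1
  haveI : IsNoetherian X := {}
  haveI : NoetherianSpace X := inferInstance
  obtain ⟨S, hSf, hSc, hSi, hSU⟩ :=
    NoetherianSpace.exists_finite_set_isClosed_irreducible (U.isOpen.isClosed_compl)
  -- each member of `S` is a singleton
  have hsing : ∀ t ∈ S, ∃ z : X, t = {z} := by
    intro t ht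
    obtain ⟨z, hz⟩ := QuasiSober.sober (hSi t ht) (hSc t ht)
    have hzt : z ∈ t := hz.mem
    have hzU : z ∉ U := by
      have : z ∈ (U : Set X)ᶜ := by
        rw [hSU]
        exact Set.mem_sUnion.2 ⟨t, ht, hzt⟩
      exact this
    refine ⟨z, ?_⟩
    rw [← hz.def, (hpt z hzU).closure_eq]
  have hfin : ((U : Set X)ᶜ).Finite := by
    rw [hSU]
    refine Set.Finite.sUnion hSf (fun t ht => ?_)
    obtain ⟨z, rfl⟩ := hsing t ht
    exact Set.finite_singleton z
  have hTfin : T.Finite := hfin.subset hT
  have : T = ⋃ z ∈ T, ({z} : Set X) := by simp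
  rw [this]
  exact hTfin.isClosed_biUnion (fun z hz => hpt z (hT hz))



theorem le_one_of_lt_two (d : WithBot ℕ∞) (h : d < ((2 : ℕ) : WithBot ℕ∞)) : d ≤ ((1 : ℕ) : WithBot ℕ∞) := by
  induction d using WithBot.recBotCoe with
  | bot => exact bot_le
  | coe d =>
    induction d using ENat.recTopCoe with
    | top =>
      exfalso
      have : ((⊤ : ℕ∞) : WithBot ℕ∞) < (((2 : ℕ) : ℕ∞) : WithBot ℕ∞) := h
      rw [WithBot.coe_lt_coe] at this
      exact absurd this (by simp)
    | coe e =>
      have h2 : e < 2 := by
        have h' : ((e : ℕ∞) : WithBot ℕ∞) < (((2 : ℕ) : ℕ∞) : WithBot ℕ∞) := h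
        rw [WithBot.coe_lt_coe] at h'
        exact_mod_cast h'
      have h1 : e ≤ 1 := by omega
      exact_mod_cast h1

variable {S X : Scheme.{u}}

/-- the fibres over the points of an open over which the morphism is an isomorphism are singletons. -/
theorem finite_fibre_of_isIso_restrict (π : S ⟶ X) (U : X.Opens) [IsIso (π ∣_ U)] (x : X) (hx : x ∈ U) :
    (π.base ⁻¹' {x}).Finite := by
  apply Set.Subsingleton.finite
  intro s₁ h₁ s₂ h₂
  have hs₁ : s₁ ∈ π ⁻¹ᵁ U := by
    change π.base s₁ ∈ U
    rw [show π.base s₁ = x from h₁]; exact hx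
  have hs₂ : s₂ ∈ π ⁻¹ᵁ U := by
    change π.base s₂ ∈ U
    rw [show π.base s₂ = x from h₂]; exact hx
  have hinj : Function.Injective (π ∣_ U).base := (π ∣_ U).homeomorph.injective
  have h : (π ∣_ U).base ⟨s₁, hs₁⟩ = (π ∣_ U).base ⟨s₂, hs₂⟩ := by
    apply Subtype.ext
    rw [morphismRestrict_base_coe, morphismRestrict_base_coe]
    exact (show π.base s₁ = x from h₁).trans (show π.base s₂ = x from h₂).symm
  exact congrArg Subtype.val (hinj h)

/-- a fibre avoiding a nonempty open of an irreducible scheme of dimension `≤ 2` has dimension `≤ 1`. -/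
theorem fiber_dim_le_one [IrreducibleSpace S] (π : S ⟶ X) (hdim : topologicalKrullDim S ≤ ((2 : ℕ) : WithBot ℕ∞))
    (W : S.Opens) (hW : (W : Set S).Nonempty) (x : X) (hx : π.base ⁻¹' {x} ⊆ (W : Set S)ᶜ) :
    topologicalKrullDim (π.fiber x) ≤ ((1 : ℕ) : WithBot ℕ∞) := by
  have h1 : topologicalKrullDim (π.fiber x) = topologicalKrullDim (π.base ⁻¹' {x}) :=
    IsHomeomorph.topologicalKrullDim_eq _ (π.fiberHomeo x).isHomeomorph
  have h2 : topologicalKrullDim (π.base ⁻¹' {x}) ≤ topologicalKrullDim ↥((W : Set S)ᶜ) :=
    (Topology.IsEmbedding.inclusion hx).isInducing.topologicalKrullDim_le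
  have h3 : topologicalKrullDim ↥((W : Set S)ᶜ) < ((2 : ℕ) : WithBot ℕ∞) := by
    refine Groth.Agent.Lib.T2H6.DimComp.topologicalKrullDim_compl_lt 2
      (fun Z _ => (topologicalKrullDim_subspace_le S Z).trans hdim) (W : Set S) W.isOpen ?_
    intro s hs
    rw [irreducibleComponents_eq_singleton, Set.mem_singleton_iff] at hs
    have hgen : IsGenericPoint s (Set.univ : Set S) := hs
    exact (hgen.mem_open_set_iff W.isOpen).2 (by simpa using hW)
  rw [h1]
  exact le_one_of_lt_two _ (lt_of_le_of_lt h2 h3)

end Groth.Agent.Lib.T2H6.ResolGeom
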