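import Groth.Agent.Lib.T2H5CechNat
import Groth.Agent.Lib.T2H5PnTop

/-!
# Čech cohomology computes cohomology, naturally in the sheaf (T2H6)

A version of `T2H5.CechNat.exists_equiv_natural` where the comparison isomorphisms are chosen
simultaneously for all sheaves (acyclic on the finite intersections of the covering), and are
natural with respect to all morphisms of sheaves.
-/

set_option autoImplicit false
universe u

open CategoryTheory CategoryTheory.Limits TopologicalSpace Opposite Abelian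

namespace Groth.Agent.Lib.T2H6.SDual

open Groth.Agent.Lib.Helper16.CechLow Groth.Agent.Lib.Helper16.CechH1
  Groth.Agent.Lib.Helper16.CechCmp Groth.Agent.Lib.Helper16.CechLES
  Groth.Agent.Lib.Helper23.AffVanish Groth.Agent.Lib.T2H5.CechPn
  Groth.Agent.Lib.T2H5.CechNat

section Top

variable {X : TopCat.{u}}

/-- the acyclicity hypothesis of the Čech comparison. -/
def Acyc {ι : Type u} (U : ι → Opens X) (F : CohTop.Ab X) : Prop :=
  ∀ (p : ℕ) (a : Fin (p + 1) → ι) (q : ℕ),
    Subsingleton (CohTop.HU F (q + 1) (iInf fun k => U (a k)))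

/-- Čech cohomology of a covering computes the cohomology of the sheaves which are acyclic on the
finite intersections, naturally in the sheaf. -/
theorem exists_equiv_family {ι : Type u} (U : ι → Opens X) (hcov : iSup U = ⊤) :
    ∃ Ψ : ∀ (F : CohTop.Ab X), Acyc U F → ∀ p : ℕ, CohTop.cechH F.obj U p ≃+ CohTop.H F p,
      ∀ (F G : CohTop.Ab X) (hF : Acyc U F) (hG : Acyc U G) (τ : F ⟶ G) (p : ℕ)
        (x : CohTop.cechH F.obj U p),
        Ψ G hG p (HomologicalComplex.homologyMap ((cechComplexFunctor U).map τ.hom) p x) =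
          Sheaf.H.map τ p (Ψ F hF p x) := by
  let Y := fam U (iSup U) (le_iSup U)
  have hY : Sieve.ofArrows (fun i => (Y i).left) (fun i => (Y i).hom) ∈
      Opens.grothendieckTopology X (iSup U) := covering_of_iSup Y le_rfl
  have hh : ∀ (F : CohTop.Ab X), Acyc U F → ∀ (p : ℕ) (a : Fin (p + 1) → ι) (q : ℕ),
      Subsingleton (CohSite.HU F (q + 1) (∏ᶜ fun k => Y (a k)).left) := by
    intro F h p a q
    have e : (∏ᶜ fun k => Y (a k)).left = iInf fun k => U (a k) := by
      rw [← Groth.Agent.S0493.prod_eq_iInf]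
      exact le_antisymm (left_le Y a) (le_left Y a)
    rw [e]
    exact h p a q
  obtain ⟨e, he⟩ := Groth.Agent.S16019.result (Opens.grothendieckTopology X) Y hY
  have hbij := fun (F : CohTop.Ab X) (hF : Acyc U F) (p : ℕ) =>
    Groth.Agent.S16022.result (Opens.grothendieckTopology X) Y e he F (hh F hF) p
  let Ψ1 : ∀ (F : CohTop.Ab X) (p : ℕ), CohTop.cechH F.obj U p ≃+ CohCx.cechH F.obj Y p :=
    fun F p => (isoH' F.obj U (iSup U) (le_iSup U) p).addCommGroupIsoToAddEquiv
  let Ψ2 : ∀ (F : CohTop.Ab X) (_ : Acyc U F) (p : ℕ),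
      CohCx.cechH F.obj Y p ≃+ CohSite.HU F p (iSup U) :=
    fun F hF p => AddEquiv.ofBijective (CechEdge.edgeSh e F p) (hbij F hF p)
  let Ψ3 : ∀ (F : CohTop.Ab X) (p : ℕ), CohSite.HU F p (iSup U) ≃+ CohSite.HU F p ⊤ :=
    fun F p => castHU F p hcov
  let Ψ4 : ∀ (F : CohTop.Ab X) (p : ℕ), HE F p ⊤ ≃+ CohTop.H F p := fun F p => HETopEquivH X F p
  refine ⟨fun F hF p => (Ψ1 F p).trans ((Ψ2 F hF p).trans ((Ψ3 F p).trans (Ψ4 F p))),
    fun F G hF hG τ p x => ?_⟩
  change Ψ4 G p (Ψ3 G p (Ψ2 G hG p (Ψ1 G p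
    (HomologicalComplex.homologyMap ((cechComplexFunctor U).map τ.hom) p x)))) =
    Sheaf.H.map τ p (Ψ4 F p (Ψ3 F p (Ψ2 F hF p (Ψ1 F p x))))
  have h1 : Ψ1 G p (HomologicalComplex.homologyMap ((cechComplexFunctor U).map τ.hom) p x) =
      CechEdge.cechHMap Y τ.hom p (Ψ1 F p x) := isoH_naturality τ.hom Y p x
  have h2 : Ψ2 G hG p (CechEdge.cechHMap Y τ.hom p (Ψ1 F p x)) =
      CechEdge.HUmap τ p (iSup U) (Ψ2 F hF p (Ψ1 F p x)) := edgeSh_naturality e he τ p (Ψ1 F p x)
  have h3 : Ψ3 G p (CechEdge.HUmap τ p (iSup U) (Ψ2 F hF p (Ψ1 F p x))) =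
      CechEdge.HUmap τ p ⊤ (Ψ3 F p (Ψ2 F hF p (Ψ1 F p x))) := castHU_naturality τ p hcov _
  rw [h1, h2, h3]
  exact HETopEquivH_naturality τ p _

end Top

end Groth.Agent.Lib.T2H6.SDual

namespace Groth.Agent.Lib.T2H6.SDual

open CategoryTheory CategoryTheory.Limits TopologicalSpace Opposite Abelian AlgebraicGeometry
open Groth.Agent.Lib.Helper16.CechLow Groth.Agent.Lib.Helper16.CechH1
  Groth.Agent.Lib.Helper23.AffVanish Groth.Agent.Lib.T2H5.CechPn

/-- quasi-coherent modules are acyclic on a covering with affine finite intersections. -/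
theorem acyc_of_isQCoh (X : Scheme.{u}) {ι : Type u} (U : ι → X.Opens)
    (hU : ∀ s : Finset ι, s.Nonempty → IsAffineOpen (⨅ i ∈ s, U i))
    (M : X.Modules) [Coh.IsQCoh M] : Acyc U (ab' M) := by
  intro p a q
  have haff : IsAffineOpen (iInf fun k => U (a k)) := by
    classical
    have := hU (Finset.image a Finset.univ) (Finset.image_nonempty.2 Finset.univ_nonempty)
    have e : (⨅ i ∈ Finset.image a Finset.univ, U i) = iInf fun k => U (a k) := by
      apply le_antisymm
      · refine le_iInf fun k => ?_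
        exact iInf₂_le (a k) (Finset.mem_image.2 ⟨k, Finset.mem_univ k, rfl⟩)
      · refine le_iInf₂ fun i hi => ?_
        obtain ⟨k, -, rfl⟩ := Finset.mem_image.1 hi
        exact iInf_le _ k
    rwa [e] at this
  exact subsingleton_HE_of_isAffineOpen haff M q

/-- Čech cohomology of a covering with affine finite intersections computes the cohomology of
quasi-coherent modules, compatibly with all morphisms of the underlying abelian sheaves. -/
theorem exists_equiv_family_scheme (X : Scheme.{u}) {ι : Type u}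
    (U : ι → X.Opens) (hcov : ⨆ i, U i = ⊤)
    (hU : ∀ s : Finset ι, s.Nonempty → IsAffineOpen (⨅ i ∈ s, U i)) :
    ∃ Ψ : ∀ (M : X.Modules) [Coh.IsQCoh M] (p : ℕ), ↑(CohB1.cechH U M p) ≃+ Coh.HH X M p,
      ∀ (M N : X.Modules) [Coh.IsQCoh M] [Coh.IsQCoh N] (τ : Coh.toAb M ⟶ Coh.toAb N) (p : ℕ)
        (x : ↑(CohB1.cechH U M p)),
        Ψ N p (HomologicalComplex.homologyMap ((cechComplexFunctor U).map τ.hom) p x) =
          Sheaf.H.map τ p (Ψ M p x) := by
  obtain ⟨Ψ, hΨ⟩ := exists_equiv_family (X := X.carrier) U hcov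
  exact ⟨fun M _ p => Ψ (ab' M) (acyc_of_isQCoh X U hU M) p,
    fun M N _ _ τ p x => hΨ (ab' M) (ab' N) _ _ τ p x⟩

end Groth.Agent.Lib.T2H6.SDual
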