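import Groth.Agent.Lib.T2H5KosNu
import Groth.Agent.Lib.T2H5CechPnTop

/-!
# Multiplication by a form on the twists of projective space, in Čech terms (T2H6)

* `mulForm`: multiplication by a homogeneous element `f` of degree `e`, `M(p)~ ⟶ M(p+e)~`;
* `secΛ_mulForm`: on Laurent polynomials it is the multiplication by `f`.
-/

set_option autoImplicit false
universe u

open CategoryTheory CategoryTheory.Limits AlgebraicGeometry TopologicalSpace Opposite MvPolynomial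

namespace Groth.Agent.Lib.T2H6.SDual

open Groth.Agent.Lib.Helper27GrTildeSect Groth.Agent.Lib.Helper23.SecTw
  Groth.Agent.Lib.Helper23.Extend

section General

variable {R A : Type u} [CommRing R] [CommRing A] [Algebra R A] (𝒜 : ℕ → Submodule R A)
  [GradedAlgebra 𝒜]
variable {M : Type u} [AddCommGroup M] [Module R M] [Module A M] [IsScalarTower R A M]
  (ℳ : ℕ → Submodule R M) [DirectSum.Decomposition ℳ] [SetLike.GradedSMul 𝒜 ℳ]

/-- multiplication by a form of degree `e` on sections -/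
noncomputable def mulFormSec {e : ℕ} {f : A} (hf : f ∈ 𝒜 e) {p q : ℤ} (h : p + (e : ℤ) = q)
    (W : (Proj 𝒜).Opens) (m : Γ(GrTilde.tilde 𝒜 ℳ p, W)) : Γ(GrTilde.tilde 𝒜 ℳ q, W) :=
  mulSec 𝒜 ℳ h W m (gsec 𝒜 e W hf)

theorem exists_mulForm {e : ℕ} {f : A} (hf : f ∈ 𝒜 e) {p q : ℤ} (h : p + (e : ℤ) = q) :
    ∃ Φ : GrTilde.tilde 𝒜 ℳ p ⟶ GrTilde.tilde 𝒜 ℳ q,
      ∀ (V : (Proj 𝒜).Opens) m, Φ.app V m = mulFormSec 𝒜 ℳ hf h V m :=
  exists_hom_of_sections (GrTilde.tilde 𝒜 ℳ p) (GrTilde.tilde 𝒜 ℳ q)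
    (fun V m => mulFormSec 𝒜 ℳ hf h V m)
    (fun V m m' => mulSec_add_left 𝒜 ℳ h V m m' _)
    (fun V r m => mulSec_smul_left 𝒜 ℳ h V r m _)
    (fun U V hle m => mulSec_map 𝒜 ℳ h hle m _)

/-- multiplication by a form of degree `e`, as a morphism `M(p)~ ⟶ M(p+e)~` -/
noncomputable def mulForm {e : ℕ} {f : A} (hf : f ∈ 𝒜 e) {p q : ℤ} (h : p + (e : ℤ) = q) :
    GrTilde.tilde 𝒜 ℳ p ⟶ GrTilde.tilde 𝒜 ℳ q := (exists_mulForm 𝒜 ℳ hf h).choose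

theorem mulForm_app {e : ℕ} {f : A} (hf : f ∈ 𝒜 e) {p q : ℤ} (h : p + (e : ℤ) = q)
    (V : (Proj 𝒜).Opens) (m : Γ(GrTilde.tilde 𝒜 ℳ p, V)) :
    (mulForm 𝒜 ℳ hf h).app V m = mulFormSec 𝒜 ℳ hf h V m :=
  (exists_mulForm 𝒜 ℳ hf h).choose_spec V m

theorem secVal_mulFormSec {e : ℕ} {f : A} (hf : f ∈ 𝒜 e) {p q : ℤ} (h : p + (e : ℤ) = q)
    (W : (Proj 𝒜).Opens) (m : Γ(GrTilde.tilde 𝒜 ℳ p, W)) (y : ProjectiveSpectrum 𝒜) (hy : y ∈ W) :
    secVal 𝒜 ℳ q W (mulFormSec 𝒜 ℳ hf h W m) y hy =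
      (Localization.mk f (1 : y.asHomogeneousIdeal.toIdeal.primeCompl) : Twist.Loc 𝒜 y) •
        secVal 𝒜 ℳ p W m y hy := rfl

end General

section Poly

open Groth.Agent.Lib.T2H5.LaurentAlg Groth.Agent.Lib.T2H5.TwistSect

variable {n : ℕ} {R : Type u} [CommRing R] {d d' : ℤ}

local notation "𝒫" => CohB1.polyGrading n R

theorem isRep_mulForm {W : (Proj 𝒫).Opens} {μ : Fin (n + 1) →₀ ℕ}
    {s : Γ(GrTilde.tilde 𝒫 𝒫 d, W)} {k i : ℕ}
    {m : MvPolynomial (Fin (n + 1)) R} (h : IsRep W μ s k i m) {e : ℕ}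
    {f : MvPolynomial (Fin (n + 1)) R} (hf : f ∈ CohB1.polyGrading n R e)
    (hd : d + (e : ℤ) = d') :
    IsRep W μ (mulFormSec 𝒫 𝒫 hf hd W s) k (e + i) (f * m) := by
  refine ⟨SetLike.mul_mem_graded hf h.mem, ?_, fun y hy hfy => ?_⟩
  · have := h.deg
    push_cast
    omega
  · rw [secVal_mulFormSec]
    change (Localization.mk f (1 : y.asHomogeneousIdeal.toIdeal.primeCompl) : Twist.Loc 𝒫 y) *
      (secVal 𝒫 𝒫 d W s y hy : Twist.Loc 𝒫 y) = _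
    rw [h.val y hy hfy, Localization.mk_mul, one_mul]

theorem secΛ_mulFormSec {W : (Proj 𝒫).Opens} {μ : Fin (n + 1) →₀ ℕ} (hW : IsLocus n R W μ)
    (hμ : 0 < tdeg n μ) (s : Γ(GrTilde.tilde 𝒫 𝒫 d, W)) {e : ℕ}
    {f : MvPolynomial (Fin (n + 1)) R} (hf : f ∈ CohB1.polyGrading n R e)
    (hd : d + (e : ℤ) = d') :
    secΛ hW hμ (mulFormSec 𝒫 𝒫 hf hd W s) = toΛ f * secΛ hW hμ s := by
  obtain ⟨k, i, m, h⟩ := exists_rep hW hμ s
  rw [secΛ_eq hW hμ (isRep_mulForm h hf hd), secΛ_eq hW hμ h]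
  unfold frac
  rw [map_mul, mul_assoc]

end Poly

end Groth.Agent.Lib.T2H6.SDual
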