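import Groth.Agent.Lib.T2H6SDualB

/-!
# The residue of the product with a form (T2H6)

`resHom_map_apply`: the everywhere negative coefficients of the residue of `f · c`, for a top degree
Čech cochain `c` of `O(d)` on projective space and a form `f`.
-/

set_option autoImplicit false
universe u

open CategoryTheory CategoryTheory.Limits AlgebraicGeometry TopologicalSpace Opposite MvPolynomial

namespace Groth.Agent.Lib.T2H6.SDual

open Groth.Agent.Lib.Helper27GrTildeSect Groth.Agent.Lib.T2H5.LaurentAlg
  Groth.Agent.Lib.T2H5.TwistSect Groth.Agent.Lib.T2H5.CechComb Groth.Agent.Lib.T2H5.CechLaurent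
  Groth.Agent.Lib.Helper16.CechLow Groth.Agent.Lib.Helper16.CechH1 Groth.Agent.Lib.T2H5.CechPn

section Laurent

variable {σ : Type*} {R : Type*} [CommRing R]

theorem coeff_toΛ_mul (f : MvPolynomial σ R) (L : Λ σ R) (e : σ →₀ ℤ) :
    (toΛ f * L).coeff e = ∑ a ∈ f.support, coeff a f * L.coeff (e - castE a) := by
  classical
  conv_lhs => rw [← MvPolynomial.support_sum_monomial_coeff f]
  rw [map_sum, Finset.sum_mul, AddMonoidAlgebra.coeff_sum, Finsupp.finsetSum_apply]
  refine Finset.sum_congr rfl (fun a _ => ?_)
  rw [toΛ_monomial, AddMonoidAlgebra.coeff_single_mul_apply, neg_add_eq_sub]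

end Laurent

variable {n : ℕ} {R : Type u} [CommRing R] (d d' : ℤ)
variable {ι : Type u} (W : ι → (Proj (CohB1.polyGrading n R)).Opens) (v : ι ≃ Fin (n + 1))
variable (hW : ∀ i, W i = Proj.basicOpen (CohB1.polyGrading n R)
  (X (v i) : MvPolynomial (Fin (n + 1)) R))

local notation "𝒫" => CohB1.polyGrading n R

/-- all negative multidegrees stay all negative after subtracting a nonnegative one. -/
theorem negSet_sub_castE (e : EE n) (a : Fin (n + 1) →₀ ℕ) (he : negSet v e = Set.univ) :
    negSet v (e - castE a) = Set.univ := by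
  apply Set.eq_univ_of_forall
  intro i
  have h1 : i ∈ negSet v e := by rw [he]; exact Set.mem_univ _
  change e (v i) < 0 at h1
  change (e - castE a) (v i) < 0
  rw [Finsupp.sub_apply, castE_apply]
  omega

/-- the residue of the product with a form. -/
theorem resHom_map_apply {e : ℕ} {f : MvPolynomial (Fin (n + 1)) R}
    (hf : f ∈ CohB1.polyGrading n R e) (hd : d + (e : ℤ) = d')
    (τ : PP (n := n) (R := R) d ⟶ PP (n := n) (R := R) d')
    (hτ : ∀ s : (PP (n := n) (R := R) d).obj (op (Ux W (refTuple v))),
      τ.app (op (Ux W (refTuple v))) s = mulFormSec 𝒫 𝒫 hf hd (Ux W (refTuple v)) s)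
    (c : (CK W (PP (n := n) (R := R) d)).X n) (e' : EE n) (he' : negSet v e' = Set.univ) :
    resHom d' W v hW (((cechComplexFunctor W).map τ).f n c) e' =
      ∑ a ∈ f.support, coeff a f * resHom d W v hW c (e' - castE a) := by
  classical
  have h1 : pr W (PP (n := n) (R := R) d') n (refTuple v) (((cechComplexFunctor W).map τ).f n c) =
      τ.app (op (Ux W (refTuple v))) (pr W (PP (n := n) (R := R) d) n (refTuple v) c) :=
    ConcreteCategory.congr_hom (cechMap_pr W τ n (refTuple v)) c
  change Finsupp.filter _ (secC d' W v hW (refTuple v) (pr W _ n (refTuple v) _)) e' = _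
  rw [Finsupp.filter_apply_pos (fun e => negSet v e = Set.univ) _ he', h1, hτ, secC_apply, secΛ_mulFormSec, coeff_toΛ_mul]
  refine Finset.sum_congr rfl (fun a _ => ?_)
  congr 1
  change _ = Finsupp.filter _ (secC d W v hW (refTuple v) (pr W _ n (refTuple v) c)) (e' - castE a)
  rw [Finsupp.filter_apply_pos (fun e => negSet v e = Set.univ) _ (negSet_sub_castE v e' a he'),
    secC_apply]

end Groth.Agent.Lib.T2H6.SDual
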