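import Groth.Agent.Lib.T2H6SDualA
import Groth.Agent.Lib.T2H6SDualC

/-!
# The residue on the top cohomology of `O(d)` on projective space (T2H6)

* `resTop d hd : H^n(P^n_R, O(d)) ≃+ {finitely supported functions on the everywhere negative
  multidegrees of total degree d}` for `d < 0`;
* `resTop_smul`: it is `R`-linear;
* `resTop_mulForm`: its behaviour under multiplication by a form.
-/

set_option autoImplicit false
universe u

open CategoryTheory CategoryTheory.Limits AlgebraicGeometry TopologicalSpace Opposite MvPolynomial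

namespace Groth.Agent.Lib.T2H6.SDual

open Groth.Agent.Lib.Helper27GrTildeSect Groth.Agent.Lib.T2H5.LaurentAlg
  Groth.Agent.Lib.T2H5.TwistSect Groth.Agent.Lib.T2H5.CechComb Groth.Agent.Lib.T2H5.CechLaurent
  Groth.Agent.Lib.Helper16.CechLow Groth.Agent.Lib.Helper16.CechH1 Groth.Agent.Lib.T2H5.CechPn
  Groth.Agent.Lib.T2H5.PnVanish Groth.Agent.Lib.T2H5.PnTop Groth.Agent.Lib.T2H5.CechCrit

/-- compatibility of the identifications of `exists_addEquiv_homology` with morphisms. -/
theorem addEquiv_homology_natural₂ {K K' : CochainComplex AddCommGrpCat.{u} ℕ} (n : ℕ)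
    {A A' : Type u} [AddCommGroup A] [AddCommGroup A'] (ρ : K.X n →+ A) (ρ' : K'.X n →+ A')
    (Θ : K.homology n ≃+ A)
    (hΘ : ∀ z : K.cycles n, Θ (K.homologyπ n z) = ρ (K.iCycles n z))
    (Θ' : K'.homology n ≃+ A')
    (hΘ' : ∀ z : K'.cycles n, Θ' (K'.homologyπ n z) = ρ' (K'.iCycles n z))
    (φ : K ⟶ K') (ψ : A → A') (hφ : ∀ c : K.X n, ρ' (φ.f n c) = ψ (ρ c)) (x : K.homology n) :
    Θ' (HomologicalComplex.homologyMap φ n x) = ψ (Θ x) := by
  obtain ⟨z, rfl⟩ := homologyπ_surjective n x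
  have h1 : HomologicalComplex.homologyMap φ n (K.homologyπ n z) =
      K'.homologyπ n (HomologicalComplex.cyclesMap φ n z) := by
    have := ConcreteCategory.congr_hom (HomologicalComplex.homologyπ_naturality φ n) z
    rw [ConcreteCategory.comp_apply, ConcreteCategory.comp_apply] at this
    exact this
  have h2 : K'.iCycles n (HomologicalComplex.cyclesMap φ n z) = φ.f n (K.iCycles n z) :=
    ConcreteCategory.congr_hom (HomologicalComplex.cyclesMap_i φ n) z
  rw [h1, hΘ', hΘ, h2, hφ]

/-- the identification of `exists_addEquiv_homology` on the image of a class. -/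
theorem addEquiv_homologyMap_π {K K' : CochainComplex AddCommGrpCat.{u} ℕ} (n : ℕ)
    {A' : Type u} [AddCommGroup A'] (ρ' : K'.X n →+ A')
    (Θ' : K'.homology n ≃+ A')
    (hΘ' : ∀ z : K'.cycles n, Θ' (K'.homologyπ n z) = ρ' (K'.iCycles n z))
    (φ : K ⟶ K') (z : K.cycles n) :
    Θ' (HomologicalComplex.homologyMap φ n (K.homologyπ n z)) = ρ' (φ.f n (K.iCycles n z)) := by
  have h1 : HomologicalComplex.homologyMap φ n (K.homologyπ n z) =
      K'.homologyπ n (HomologicalComplex.cyclesMap φ n z) := by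
    have := ConcreteCategory.congr_hom (HomologicalComplex.homologyπ_naturality φ n) z
    rw [ConcreteCategory.comp_apply, ConcreteCategory.comp_apply] at this
    exact this
  have h2 : K'.iCycles n (HomologicalComplex.cyclesMap φ n z) = φ.f n (K.iCycles n z) :=
    ConcreteCategory.congr_hom (HomologicalComplex.cyclesMap_i φ n) z
  rw [h1, hΘ', h2]

variable (n : ℕ) (R : Type u) [CommRing R]

local notation "𝒫" => CohB1.polyGrading n R

/-- `O(d)` on projective space. -/
noncomputable abbrev OO (d : ℤ) : (CohB1.ProjSpace n R).Modules := GrTilde.tilde 𝒫 𝒫 d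

instance isQCoh_OO (d : ℤ) : Coh.IsQCoh (OO n R d) :=
  isQuasicoherent_tilde (CohB1.polyGrading n R) (CohB1.polyGrading n R) d

/-- the chosen Čech comparison for the standard covering of projective space. -/
noncomputable def cechΨ (M : (CohB1.ProjSpace n R).Modules) [Coh.IsQCoh M] (p : ℕ) :
    ↑(CohB1.cechH (stdU n R) M p) ≃+ Coh.HH (CohB1.ProjSpace n R) M p :=
  (exists_equiv_family_scheme (CohB1.ProjSpace n R) (stdU n R) (iSup_stdU n R)
    (isAffineOpen_iInf n R)).choose M p

theorem cechΨ_natural (M N : (CohB1.ProjSpace n R).Modules) [Coh.IsQCoh M] [Coh.IsQCoh N]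
    (τ : Coh.toAb M ⟶ Coh.toAb N) (p : ℕ) (x : ↑(CohB1.cechH (stdU n R) M p)) :
    cechΨ n R N p (HomologicalComplex.homologyMap ((cechComplexFunctor (stdU n R)).map τ.hom) p x) =
      Sheaf.H.map τ p (cechΨ n R M p x) :=
  (exists_equiv_family_scheme (CohB1.ProjSpace n R) (stdU n R) (iSup_stdU n R)
    (isAffineOpen_iInf n R)).choose_spec M N τ p x

/-- the chosen identification of the top Čech cohomology. -/
noncomputable def topΘ (d : ℤ) (hd : d < 0) :
    ↑((CK (stdU n R) (PP (n := n) (R := R) d)).homology n) ≃+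
      ↥(Finsupp.supported R R (negDeg (n := n) d (idxEquiv.{u} n))) :=
  (exists_addEquiv_top d (stdU n R) (idxEquiv n) (stdU_eq n R) hd).choose

theorem topΘ_spec (d : ℤ) (hd : d < 0)
    (z : ↑((CK (stdU n R) (PP (n := n) (R := R) d)).cycles n)) :
    topΘ n R d hd ((CK (stdU n R) (PP (n := n) (R := R) d)).homologyπ n z) =
      resHom' d (stdU n R) (idxEquiv n) (stdU_eq n R)
        ((CK (stdU n R) (PP (n := n) (R := R) d)).iCycles n z) :=
  (exists_addEquiv_top d (stdU n R) (idxEquiv n) (stdU_eq n R) hd).choose_spec z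

/-- the residue on the top cohomology of `O(d)`, `d < 0`. -/
noncomputable def resTop (d : ℤ) (hd : d < 0) :
    Coh.HH (CohB1.ProjSpace n R) (OO n R d) n ≃+
      ↥(Finsupp.supported R R (negDeg (n := n) d (idxEquiv.{u} n))) :=
  (cechΨ n R (OO n R d) n).symm.trans (topΘ n R d hd)

theorem resTop_smul (d : ℤ) (hd : d < 0) (r : R)
    (x : Coh.HH (CohB1.ProjSpace n R) (OO n R d) n) :
    resTop n R d hd (r • x) = r • resTop n R d hd x := by
  obtain ⟨y, rfl⟩ := (cechΨ n R (OO n R d) n).surjective x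
  rw [smul_HH_eq, ← cechΨ_natural]
  change topΘ n R d hd ((cechΨ n R (OO n R d) n).symm (cechΨ n R (OO n R d) n _)) =
    r • topΘ n R d hd ((cechΨ n R (OO n R d) n).symm (cechΨ n R (OO n R d) n y))
  rw [AddEquiv.symm_apply_apply, AddEquiv.symm_apply_apply]
  exact addEquiv_homology_natural n
    (resHom' d (stdU n R) (idxEquiv n) (stdU_eq n R)) (topΘ n R d hd) (topΘ_spec n R d hd) _
    (DistribSMul.toAddMonoidHom _ r)
    (fun c => resHom'_smul d (stdU n R) (idxEquiv n) (stdU_eq n R) _ r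
      (fun s => smulAb_app_eq n R d r _ s) c) y

/-- the residue of the product with a form. -/
theorem resTop_mulForm (d d' : ℤ) (hd : d < 0) (hd' : d' < 0) {e : ℕ}
    {f : MvPolynomial (Fin (n + 1)) R} (hf : f ∈ CohB1.polyGrading n R e)
    (hde : d + (e : ℤ) = d') (x : Coh.HH (CohB1.ProjSpace n R) (OO n R d) n)
    (e' : EE n) (he' : negSet (idxEquiv.{u} n) e' = Set.univ) :
    (resTop n R d' hd' (Sheaf.H.map ((SheafOfModules.toSheaf (CohB1.ProjSpace n R).ringCatSheaf).map
        (mulForm 𝒫 𝒫 hf hde)) n x) : EE n →₀ R) e' =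
      ∑ a ∈ f.support, coeff a f * (resTop n R d hd x : EE n →₀ R) (e' - castE a) := by
  classical
  obtain ⟨y, rfl⟩ := (cechΨ n R (OO n R d) n).surjective x
  have hnat := cechΨ_natural n R (OO n R d) (OO n R d')
    ((SheafOfModules.toSheaf (CohB1.ProjSpace n R).ringCatSheaf).map (mulForm 𝒫 𝒫 hf hde)) n y
  rw [← hnat]
  change (topΘ n R d' hd' ((cechΨ n R (OO n R d') n).symm (cechΨ n R (OO n R d') n _)) :
    EE n →₀ R) e' = ∑ a ∈ f.support, coeff a f *
      (topΘ n R d hd ((cechΨ n R (OO n R d) n).symm (cechΨ n R (OO n R d) n y)) : EE n →₀ R)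
        (e' - castE a)
  rw [AddEquiv.symm_apply_apply, AddEquiv.symm_apply_apply]
  obtain ⟨z, rfl⟩ := homologyπ_surjective n y
  have key := addEquiv_homologyMap_π n (resHom' d' (stdU n R) (idxEquiv n) (stdU_eq n R))
    (topΘ n R d' hd') (topΘ_spec n R d' hd')
    ((cechComplexFunctor (stdU n R)).map
      ((SheafOfModules.toSheaf (CohB1.ProjSpace n R).ringCatSheaf).map (mulForm 𝒫 𝒫 hf hde)).hom) z
  have key2 := topΘ_spec n R d hd z
  refine (congrArg (fun l : ↥(Finsupp.supported R R (negDeg (n := n) d' (idxEquiv.{u} n))) =>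
    (l : EE n →₀ R) e') key).trans ?_
  have key3 : ∀ a : Fin (n + 1) →₀ ℕ,
      (topΘ n R d hd ((CK (stdU n R) (PP (n := n) (R := R) d)).homologyπ n z) : EE n →₀ R)
        (e' - castE a) =
      resHom d (stdU n R) (idxEquiv n) (stdU_eq n R)
        ((CK (stdU n R) (PP (n := n) (R := R) d)).iCycles n z) (e' - castE a) := fun a =>
    congrArg (fun l : ↥(Finsupp.supported R R (negDeg (n := n) d (idxEquiv.{u} n))) =>
      (l : EE n →₀ R) (e' - castE a)) key2
  refine Eq.trans ?_ (Finset.sum_congr rfl (fun a _ => congrArg (fun t => coeff a f * t)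
    (key3 a).symm))
  exact resHom_map_apply d d' (stdU n R) (idxEquiv n) (stdU_eq n R) hf hde _
    (fun s => mulForm_app 𝒫 𝒫 hf hde _ s) _ e' he'

end Groth.Agent.Lib.T2H6.SDual
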