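import Groth.Agent.Lib.T2H6SDualD

/-!
# Morphisms between the twisting sheaves of projective space are multiplications by forms (T2H6)
-/

set_option autoImplicit false
universe u

open CategoryTheory CategoryTheory.Limits AlgebraicGeometry TopologicalSpace Opposite MvPolynomial

namespace Groth.Agent.Lib.T2H6.SDual

open Groth.Agent.Lib.Helper27GrTildeSect Groth.Agent.Lib.T2H5.LaurentAlg
  Groth.Agent.Lib.T2H5.TwistSect Groth.Agent.Lib.Helper23.SecTw Groth.Agent.Lib.Helper23.Extend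
  Groth.Agent.Lib.Helper6 Groth.Agent.Lib.Helper27PnSections

variable {n : ℕ} {R : Type u} [CommRing R]

local notation "𝒫" => CohB1.polyGrading n R

theorem X_pow_mem (i : Fin (n + 1)) (p : ℕ) :
    (X i : MvPolynomial (Fin (n + 1)) R) ^ p ∈ CohB1.polyGrading n R p := by
  have h := (isHomogeneous_X R i).pow p
  rwa [one_mul] at h

/-- the standard chart `D₊(x_i)`. -/
noncomputable abbrev WW (n : ℕ) (R : Type u) [CommRing R] (i : Fin (n + 1)) :
    (Proj (CohB1.polyGrading n R)).Opens :=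
  Proj.basicOpen (CohB1.polyGrading n R) (X i : MvPolynomial (Fin (n + 1)) R)

theorem X_not_mem_of_mem {i : Fin (n + 1)} {y : ProjectiveSpectrum 𝒫} (hy : y ∈ WW n R i) :
    (X i : MvPolynomial (Fin (n + 1)) R) ∉ y.asHomogeneousIdeal :=
  (ProjectiveSpectrum.mem_basicOpen 𝒫 _ y).mp hy

/-- the generator `x_i^d` of `O(d)` on `D₊(x_i)`. -/
noncomputable def genSec (d : ℤ) (i : Fin (n + 1)) : Γ(GrTilde.tilde 𝒫 𝒫 d, WW n R i) :=
  fracSec 𝒫 d (WW n R i) (X_pow_mem i d.toNat) (X_pow_mem i (-d).toNat) (by omega)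
    (fun y => X_pow_not_mem n R i _ y.1 (X_not_mem_of_mem y.2))

theorem isGen_genSec (d : ℤ) (i : Fin (n + 1)) :
    IsGen (GrTilde.tilde 𝒫 𝒫 d) (WW n R i) (genSec (R := R) d i) :=
  isGen_fracSec 𝒫 d _ _ _ _ _ (fun y => X_pow_not_mem n R i _ y.1 (X_not_mem_of_mem y.2))

theorem secVal_genSec (d : ℤ) (i : Fin (n + 1)) (y : ProjectiveSpectrum 𝒫) (hy : y ∈ WW n R i) :
    (secVal 𝒫 𝒫 d (WW n R i) (genSec (R := R) d i) y hy : Twist.Loc 𝒫 y) =
      Localization.mk ((X i : MvPolynomial (Fin (n + 1)) R) ^ d.toNat)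
        (⟨X i ^ (-d).toNat, X_pow_not_mem n R i _ y (X_not_mem_of_mem hy)⟩ :
          y.asHomogeneousIdeal.toIdeal.primeCompl) := rfl

/-- the multiplier of a morphism `O(d) ⟶ O(d')` on the chart `D₊(x_i)`. -/
theorem secVal_app_eq {d d' : ℤ} (φ : GrTilde.tilde 𝒫 𝒫 d ⟶ GrTilde.tilde 𝒫 𝒫 d') (i : Fin (n + 1)) {k j : ℕ}
    {m : MvPolynomial (Fin (n + 1)) R}
    (hrep : IsRep (WW n R i) (Finsupp.single i 1) (φ.app (WW n R i) (genSec d i)) k j m)
    {A : (Proj 𝒫).Opens} (hA : A ≤ WW n R i) (s : Γ(GrTilde.tilde 𝒫 𝒫 d, A))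
    (y : ProjectiveSpectrum 𝒫) (hy : y ∈ A) :
    (secVal 𝒫 𝒫 d' A (φ.app A s) y hy : Twist.Loc 𝒫 y) =
      Localization.mk (m * (X i : MvPolynomial (Fin (n + 1)) R) ^ (-d).toNat)
        (⟨X i ^ (k + d.toNat), X_pow_not_mem n R i _ y (X_not_mem_of_mem (hA hy))⟩ :
          y.asHomogeneousIdeal.toIdeal.primeCompl) *
        (secVal 𝒫 𝒫 d A s y hy : Twist.Loc 𝒫 y) := by
  have hs := coef_spec (isGen_genSec (R := R) d i) hA s
  set c := coef (isGen_genSec (R := R) d i) hA s with hc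
  have h1 : φ.app A s = c • res (GrTilde.tilde 𝒫 𝒫 d') hA (φ.app (WW n R i) (genSec d i)) := by
    rw [← hs, Scheme.Modules.Hom.app_smul]
    congr 1
    exact app_map φ (homOfLE hA) (genSec d i)
  have hX : (monomial (Finsupp.single i 1) (1 : R)) = X i := rfl
  have hfy : (monomial (Finsupp.single i 1) (1 : R)) ^ k ∉ y.asHomogeneousIdeal := by
    rw [hX]
    exact X_pow_not_mem n R i _ y (X_not_mem_of_mem (hA hy))
  have h2 : (secVal 𝒫 𝒫 d' A (res (GrTilde.tilde 𝒫 𝒫 d') hA (φ.app (WW n R i) (genSec d i))) y hy :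
      Twist.Loc 𝒫 y) = Localization.mk m (⟨X i ^ k, hfy⟩ :
        y.asHomogeneousIdeal.toIdeal.primeCompl) := by
    rw [secVal_map 𝒫 𝒫 d' hA _ y hy]
    exact hrep.val y (hA hy) hfy
  have h3 : (secVal 𝒫 𝒫 d A s y hy : Twist.Loc 𝒫 y) =
      (funVal 𝒫 A c y hy).val * Localization.mk ((X i : MvPolynomial (Fin (n + 1)) R) ^ d.toNat)
        (⟨X i ^ (-d).toNat, X_pow_not_mem n R i _ y (X_not_mem_of_mem (hA hy))⟩ :
          y.asHomogeneousIdeal.toIdeal.primeCompl) := by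
    conv_lhs => rw [← hs]
    rw [secVal_smul', secVal_map 𝒫 𝒫 d hA _ y hy, secVal_genSec]
  rw [h1, secVal_smul', h2, h3, mul_left_comm, Localization.mk_mul]
  congr 1
  rw [Localization.mk_eq_mk_iff, Localization.r_iff_exists]
  refine ⟨1, ?_⟩
  simp only [OneMemClass.coe_one, one_mul, Submonoid.coe_mul]
  ring

theorem tdeg_single (i : Fin (n + 1)) : tdeg n (Finsupp.single i 1) = 1 := by
  classical
  unfold tdeg
  simp [Finsupp.single_apply]

/-- the overlap identity between the multipliers on two charts. -/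
theorem overlap_identity {d d' : ℤ} (φ : GrTilde.tilde 𝒫 𝒫 d ⟶ GrTilde.tilde 𝒫 𝒫 d')
    (i j : Fin (n + 1)) {ki ji kj jj : ℕ} {mi mj : MvPolynomial (Fin (n + 1)) R}
    (hi : IsRep (WW n R i) (Finsupp.single i 1) (φ.app (WW n R i) (genSec d i)) ki ji mi)
    (hj : IsRep (WW n R j) (Finsupp.single j 1) (φ.app (WW n R j) (genSec d j)) kj jj mj) :
    (mi * (X i : MvPolynomial (Fin (n + 1)) R) ^ (-d).toNat) * X j ^ (kj + d.toNat) =
      (mj * X j ^ (-d).toNat) * X i ^ (ki + d.toNat) := by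
  have hdi : (ji : ℤ) = ki + d' := by
    have := hi.deg
    rw [tdeg_single] at this
    simpa using this
  have hdj : (jj : ℤ) = kj + d' := by
    have := hj.deg
    rw [tdeg_single] at this
    simpa using this
  have hN : ji + (-d).toNat + (kj + d.toNat) = jj + (-d).toNat + (ki + d.toNat) := by omega
  have h1 : (mi * (X i : MvPolynomial (Fin (n + 1)) R) ^ (-d).toNat) * X j ^ (kj + d.toNat) ∈
      CohB1.polyGrading n R (ji + (-d).toNat + (kj + d.toNat)) :=
    SetLike.mul_mem_graded (SetLike.mul_mem_graded hi.mem (X_pow_mem i _)) (X_pow_mem j _)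
  have h2 : (mj * (X j : MvPolynomial (Fin (n + 1)) R) ^ (-d).toNat) * X i ^ (ki + d.toNat) ∈
      CohB1.polyGrading n R (ji + (-d).toNat + (kj + d.toNat)) := by
    rw [hN]
    exact SetLike.mul_mem_graded (SetLike.mul_mem_graded hj.mem (X_pow_mem j _)) (X_pow_mem i _)
  have hg : (X i * X j : MvPolynomial (Fin (n + 1)) R) ∈ CohB1.polyGrading n R 2 :=
    (isHomogeneous_X R i).mul (isHomogeneous_X R j)
  have hreg : IsRegular (X i * X j : MvPolynomial (Fin (n + 1)) R) :=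
    isRegular_X.mul isRegular_X
  have h0 := eq_zero_of_local n R (by norm_num : 0 < 2) hg hreg (Submodule.sub_mem _ h1 h2)
    (fun y hy => by
      obtain ⟨hyi, hyj⟩ := not_mem_of_mul_not_mem n R y hy
      have hyWi : y ∈ WW n R i := (ProjectiveSpectrum.mem_basicOpen 𝒫 _ y).mpr hyi
      have hyWj : y ∈ WW n R j := (ProjectiveSpectrum.mem_basicOpen 𝒫 _ y).mpr hyj
      have hyA : y ∈ WW n R i ⊓ WW n R j := ⟨hyWi, hyWj⟩
      let s := res (GrTilde.tilde 𝒫 𝒫 d) (inf_le_left : WW n R i ⊓ WW n R j ≤ WW n R i)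
        (genSec (R := R) d i)
      have e1 := secVal_app_eq φ i hi (inf_le_left : WW n R i ⊓ WW n R j ≤ WW n R i) s y hyA
      have e2 := secVal_app_eq φ j hj (inf_le_right : WW n R i ⊓ WW n R j ≤ WW n R j) s y hyA
      have e3 : (secVal 𝒫 𝒫 d (WW n R i ⊓ WW n R j) s y hyA : Twist.Loc 𝒫 y) =
          Localization.mk ((X i : MvPolynomial (Fin (n + 1)) R) ^ d.toNat)
            (⟨X i ^ (-d).toNat, X_pow_not_mem n R i _ y hyi⟩ :
              y.asHomogeneousIdeal.toIdeal.primeCompl) := rfl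
      rw [e3, Localization.mk_mul] at e1 e2
      have e4 := e1.symm.trans e2
      rw [Localization.mk_eq_mk_iff, Localization.r_iff_exists] at e4
      obtain ⟨c, hc⟩ := e4
      simp only [Submonoid.coe_mul] at hc
      refine ⟨c.1 * (X i ^ (-d).toNat * X i ^ d.toNat), ?_, ?_⟩
      · intro hmem
        rcases y.isPrime.mem_or_mem hmem with h | h
        · exact c.2 h
        · rcases y.isPrime.mem_or_mem h with h | h
          · exact X_pow_not_mem n R i _ y hyi h
          · exact X_pow_not_mem n R i _ y hyi h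
      · linear_combination hc)
  exact sub_eq_zero.mp h0

section Laurent

variable {σ : Type*} {S : Type*} [CommRing S]

/-- a Laurent polynomial without negative exponents is a polynomial. -/
theorem exists_toΛ_eq (L : Λ σ S) (hL : ∀ e, L.coeff e ≠ 0 → ∀ j, 0 ≤ e j) :
    ∃ f : MvPolynomial σ S, toΛ f = L := by
  classical
  refine ⟨∑ e ∈ L.coeff.support, monomial (toNatE e) (L.coeff e), ?_⟩
  rw [map_sum]
  have h1 : ∀ e ∈ L.coeff.support, toΛ (monomial (toNatE e) (L.coeff e)) =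
      AddMonoidAlgebra.single e (L.coeff e) := by
    intro e he
    rw [toΛ_monomial, castE_toNatE e (hL e (Finsupp.mem_support_iff.mp he))]
  rw [Finset.sum_congr rfl h1]
  exact L.sum_coeff_single

theorem toΛ_X_pow (i : σ) (K : ℕ) :
    toΛ ((X i : MvPolynomial σ S) ^ K) = T (K • castE (Finsupp.single i 1)) := by
  rw [X_pow_eq_monomial, toΛ_monomial_one]
  congr 1
  rw [← map_nsmul, Finsupp.smul_single, smul_eq_mul, mul_one]

end Laurent

theorem isLocus_WW (i : Fin (n + 1)) : IsLocus n R (WW n R i) (Finsupp.single i 1) := fun y =>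
  ProjectiveSpectrum.mem_basicOpen 𝒫 _ y

/-- every morphism `O(d) ⟶ O(d')` on `P^n_R`, `n ≥ 1`, is pointwise the multiplication by a
polynomial all of whose monomials have degree `d' - d`. -/
theorem exists_form (hn : 1 ≤ n) {d d' : ℤ} (φ : GrTilde.tilde 𝒫 𝒫 d ⟶ GrTilde.tilde 𝒫 𝒫 d') :
    ∃ f : MvPolynomial (Fin (n + 1)) R,
      (∀ a ∈ f.support, ((∑ l, a l : ℕ) : ℤ) = d' - d) ∧
      ∀ (A : (Proj 𝒫).Opens) (s : Γ(GrTilde.tilde 𝒫 𝒫 d, A)) (y : ProjectiveSpectrum 𝒫)
        (hy : y ∈ A), (secVal 𝒫 𝒫 d' A (φ.app A s) y hy : Twist.Loc 𝒫 y) =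
          Localization.mk f (1 : y.asHomogeneousIdeal.toIdeal.primeCompl) *
            (secVal 𝒫 𝒫 d A s y hy : Twist.Loc 𝒫 y) := by
  classical
  choose k j m hrep using fun i : Fin (n + 1) => exists_rep (isLocus_WW (R := R) i)
    (by rw [tdeg_single]; exact Nat.one_pos) (φ.app (WW n R i) (genSec d i))
  set p := d.toNat with hp
  set q := (-d).toNat with hq
  have hdeg : ∀ i, (j i : ℤ) = k i + d' := by
    intro i
    have := (hrep i).deg
    rw [tdeg_single] at this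
    simpa using this
  have hid : ∀ i i', (m i * (X i : MvPolynomial (Fin (n + 1)) R) ^ q) * X i' ^ (k i' + p) =
      (m i' * X i' ^ q) * X i ^ (k i + p) := fun i i' => overlap_identity φ i i' (hrep i) (hrep i')
  let F : Fin (n + 1) → Λ (Fin (n + 1)) R := fun i =>
    frac (Finsupp.single i 1) (k i + p) (m i * X i ^ q)
  have hF : ∀ i i', F i = F i' := by
    intro i i'
    have h1 : toΛ (m i * X i ^ q) * toΛ ((X i' : MvPolynomial (Fin (n + 1)) R) ^ (k i' + p)) =
        toΛ (m i' * X i' ^ q) * toΛ ((X i : MvPolynomial (Fin (n + 1)) R) ^ (k i + p)) := by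
      rw [← map_mul, ← map_mul, hid]
    rw [toΛ_X_pow, toΛ_X_pow] at h1
    change toΛ (m i * X i ^ q) * T (-((k i + p) • castE (Finsupp.single i 1))) =
      toΛ (m i' * X i' ^ q) * T (-((k i' + p) • castE (Finsupp.single i' 1)))
    have h2 : (T ((k i + p) • castE (Finsupp.single i 1)) : Λ (Fin (n + 1)) R) *
        T (-((k i + p) • castE (Finsupp.single i 1))) = 1 := T_mul_T_neg _
    have h3 : (T ((k i' + p) • castE (Finsupp.single i' 1)) : Λ (Fin (n + 1)) R) *
        T (-((k i' + p) • castE (Finsupp.single i' 1))) = 1 := T_mul_T_neg _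
    linear_combination (T (-((k i + p) • castE (Finsupp.single i 1))) *
      T (-((k i' + p) • castE (Finsupp.single i' 1)))) * h1 -
      (toΛ (m i * X i ^ q) * T (-((k i + p) • castE (Finsupp.single i 1)))) * h3 +
      (toΛ (m i' * X i' ^ q) * T (-((k i' + p) • castE (Finsupp.single i' 1)))) * h2
  have hmem : ∀ i, m i * (X i : MvPolynomial (Fin (n + 1)) R) ^ q ∈
      homogeneousSubmodule (Fin (n + 1)) R (j i + q) :=
    fun i => SetLike.mul_mem_graded (hrep i).mem (X_pow_mem i q)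
  have hsum : ∀ i : Fin (n + 1), ∑ l, ((Finsupp.single i 1 : Fin (n + 1) →₀ ℕ) l : ℤ) = 1 := by
    intro i
    simp [Finsupp.single_apply]
  have hsupp : ∀ i (ε : Fin (n + 1) →₀ ℤ), (F i).coeff ε ≠ 0 →
      ∑ l, ε l = d' - d ∧ ∀ l, ε l < 0 → l = i := by
    intro i ε hε
    have h1 := degree_of_coeff_frac_ne_zero (Finsupp.single i 1) (k i + p) (j i + q) (d' - d)
      (m i * X i ^ q) (hmem i) (by rw [hsum]; push_cast; have := hdeg i; omega) ε hε
    refine ⟨h1.1, fun l hl => ?_⟩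
    by_contra hne
    exact h1.2 l hl (by rw [Finsupp.single_apply, if_neg (Ne.symm hne)])
  have h01 : (0 : Fin (n + 1)) ≠ Fin.last n := by
    intro h
    have := congrArg Fin.val h
    simp at this
    omega
  obtain ⟨f, hf⟩ := exists_toΛ_eq (F 0) (fun ε hε l => by
    by_contra hneg
    push Not at hneg
    have h1 := (hsupp 0 ε hε).2 l hneg
    have h2 := (hsupp (Fin.last n) ε (by rw [← hF 0]; exact hε)).2 l hneg
    exact h01 (h1.symm.trans h2))
  have hfi : ∀ i, m i * (X i : MvPolynomial (Fin (n + 1)) R) ^ q = f * X i ^ (k i + p) := by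
    intro i
    apply toΛ_injective
    rw [map_mul toΛ f, hf, hF 0 i, toΛ_X_pow]
    change _ = toΛ (m i * X i ^ q) * T (-((k i + p) • castE (Finsupp.single i 1))) * _
    rw [mul_assoc, mul_comm (T (-((k i + p) • castE (Finsupp.single i 1)))), T_mul_T_neg, mul_one]
  refine ⟨f, fun a ha => ?_, fun A s y hy => ?_⟩
  · have h1 : (F 0).coeff (castE a) ≠ 0 := by
      rw [← hf, coeff_toΛ_castE]
      exact MvPolynomial.mem_support_iff.mp ha
    have h2 := (hsupp 0 (castE a) h1).1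
    rw [← h2]
    push_cast
    rfl
  · obtain ⟨i, hi⟩ := exists_X_not_mem n R y
    have hyW : y ∈ WW n R i := (ProjectiveSpectrum.mem_basicOpen 𝒫 _ y).mpr hi
    have hyB : y ∈ A ⊓ WW n R i := ⟨hy, hyW⟩
    have e1 := secVal_app_eq φ i (hrep i) (inf_le_right : A ⊓ WW n R i ≤ WW n R i)
      (res (GrTilde.tilde 𝒫 𝒫 d) (inf_le_left : A ⊓ WW n R i ≤ A) s) y hyB
    have e2 : φ.app (A ⊓ WW n R i) (res (GrTilde.tilde 𝒫 𝒫 d) (inf_le_left : A ⊓ WW n R i ≤ A) s) =
        res (GrTilde.tilde 𝒫 𝒫 d') (inf_le_left : A ⊓ WW n R i ≤ A) (φ.app A s) :=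
      app_map φ (homOfLE (inf_le_left : A ⊓ WW n R i ≤ A)) s
    rw [e2] at e1
    have e3 : (secVal 𝒫 𝒫 d' (A ⊓ WW n R i)
        (res (GrTilde.tilde 𝒫 𝒫 d') (inf_le_left : A ⊓ WW n R i ≤ A) (φ.app A s)) y hyB :
        Twist.Loc 𝒫 y) = secVal 𝒫 𝒫 d' A (φ.app A s) y hy := rfl
    have e4 : (secVal 𝒫 𝒫 d (A ⊓ WW n R i)
        (res (GrTilde.tilde 𝒫 𝒫 d) (inf_le_left : A ⊓ WW n R i ≤ A) s) y hyB :
        Twist.Loc 𝒫 y) = secVal 𝒫 𝒫 d A s y hy := rfl
    rw [e3, e4] at e1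
    rw [e1]
    congr 1
    rw [Localization.mk_eq_mk_iff, Localization.r_iff_exists]
    refine ⟨1, ?_⟩
    simp only [OneMemClass.coe_one, one_mul]
    rw [mul_comm _ f]
    exact hfi i

/-- every morphism `O(d) ⟶ O(d')` on `P^n_R`, `n ≥ 1`, `d ≤ d'`, is the multiplication by a form. -/
theorem exists_eq_mulForm (hn : 1 ≤ n) {d d' : ℤ} {e : ℕ} (hde : d + (e : ℤ) = d')
    (φ : GrTilde.tilde 𝒫 𝒫 d ⟶ GrTilde.tilde 𝒫 𝒫 d') :
    ∃ (f : MvPolynomial (Fin (n + 1)) R) (hf : f ∈ CohB1.polyGrading n R e),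
      φ = mulForm 𝒫 𝒫 hf hde := by
  obtain ⟨f, hfs, hfv⟩ := exists_form hn φ
  have hf : f ∈ CohB1.polyGrading n R e := by
    intro a ha
    have h1 := hfs a (MvPolynomial.mem_support_iff.mpr ha)
    have h0 : Finsupp.weight (1 : Fin (n + 1) → ℕ) a = Finsupp.degree a := by
      rw [Finsupp.degree_eq_weight_one]
      rfl
    rw [h0, Finsupp.degree_eq_sum]
    have : ((∑ l, a l : ℕ) : ℤ) = (e : ℤ) := by rw [h1]; omega
    exact_mod_cast this
  refine ⟨f, hf, ?_⟩
  apply Scheme.Modules.hom_ext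
  intro A
  ext s
  rw [mulForm_app]
  apply sec_ext
  intro y hy
  rw [secVal_mulFormSec]
  exact hfv A s y hy

/-- there is no nonzero morphism `O(d) ⟶ O(d')` on `P^n_R`, `n ≥ 1`, for `d' < d`. -/
theorem eq_zero_of_lt (hn : 1 ≤ n) {d d' : ℤ} (hdd : d' < d)
    (φ : GrTilde.tilde 𝒫 𝒫 d ⟶ GrTilde.tilde 𝒫 𝒫 d') : φ = 0 := by
  obtain ⟨f, hfs, hfv⟩ := exists_form hn φ
  have hf : f = 0 := by
    rw [← MvPolynomial.support_eq_empty]
    apply Finset.eq_empty_of_forall_notMem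
    intro a ha
    have h1 := hfs a ha
    have h2 : (0 : ℤ) ≤ ((∑ l, a l : ℕ) : ℤ) := Int.natCast_nonneg _
    omega
  apply Scheme.Modules.hom_ext
  intro A
  ext s
  apply sec_ext
  intro y hy
  have h := hfv A s y hy
  rw [hf, Localization.mk_zero, zero_mul] at h
  exact h

end Groth.Agent.Lib.T2H6.SDual
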