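import Groth.Agent.Lib.T2H6SDualE

/-!
# Serre duality for the twisting sheaves of projective space (T2H6)

* `trP : H^n(P^n_R, O(-n-1)) ≃ₗ[R] R`, the trace (residue at `(x_0 ⋯ x_n)⁻¹`);
* `existsUnique_hom_twist`: for `n ≥ 1`, every linear form on `H^n(P^n_R, O(d))` is `trP ∘ H^n(φ)`
  for exactly one `φ : O(d) ⟶ O(-n-1)`.
-/

set_option autoImplicit false
universe u

open CategoryTheory CategoryTheory.Limits AlgebraicGeometry TopologicalSpace Opposite MvPolynomial

namespace Groth.Agent.Lib.T2H6.SDual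

open Groth.Agent.Lib.Helper27GrTildeSect Groth.Agent.Lib.T2H5.LaurentAlg
  Groth.Agent.Lib.T2H5.TwistSect Groth.Agent.Lib.T2H5.CechPn
  Groth.Agent.Lib.T2H5.PnVanish Groth.Agent.Lib.T2H5.PnTop

variable (n : ℕ) (R : Type u) [CommRing R]

local notation "𝒫" => CohB1.polyGrading n R

/-- the degree of the dualizing sheaf. -/
abbrev dω : ℤ := -((n : ℤ) + 1)

theorem dω_neg : dω n < 0 := by
  have : (0 : ℤ) ≤ n := Int.natCast_nonneg n
  unfold dω
  omega

/-- the multidegree `(-1, …, -1)`. -/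
noncomputable def e₀ : EE n := Finsupp.equivFunOnFinite.symm (fun _ => (-1 : ℤ))

theorem e₀_apply (j : Fin (n + 1)) : e₀ n j = -1 := rfl

variable {n}

theorem negSet_e₀_sub (a : Fin (n + 1) →₀ ℕ) :
    negSet (idxEquiv.{u} n) (e₀ n - castE a) = Set.univ := by
  apply Set.eq_univ_of_forall
  intro i
  change (e₀ n - castE a) (idxEquiv.{u} n i) < 0
  rw [Finsupp.sub_apply, e₀_apply, castE_apply]
  have : (0 : ℤ) ≤ a (idxEquiv.{u} n i) := Int.natCast_nonneg _
  omega

theorem goodDeg_e₀_sub (a : Fin (n + 1) →₀ ℕ) {d : ℤ} {e : ℕ} (hde : d + (e : ℤ) = dω n)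
    (ha : ∑ l, a l = e) : goodDeg d (e₀ n - castE a) := by
  unfold goodDeg
  have h1 : ∑ j, (e₀ n - castE a) j = ∑ j : Fin (n + 1), ((-1 : ℤ) - (a j : ℤ)) :=
    Finset.sum_congr rfl (fun j _ => by rw [Finsupp.sub_apply, e₀_apply, castE_apply])
  rw [h1, Finset.sum_sub_distrib, Finset.sum_const, Finset.card_univ, Fintype.card_fin]
  have h2 : ∑ j, (a j : ℤ) = (e : ℤ) := by
    rw [← ha]
    push_cast
    rfl
  rw [h2]
  simp only [nsmul_eq_mul, Nat.cast_add, Nat.cast_one, mul_neg, mul_one]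
  unfold dω at hde
  omega

theorem mem_negDeg_e₀_sub (a : Fin (n + 1) →₀ ℕ) {d : ℤ} {e : ℕ} (hde : d + (e : ℤ) = dω n)
    (ha : ∑ l, a l = e) : e₀ n - castE a ∈ negDeg (n := n) d (idxEquiv.{u} n) :=
  ⟨goodDeg_e₀_sub a hde ha, negSet_e₀_sub a⟩

/-- every everywhere negative multidegree of total degree `d` is `(-1, …, -1) - a`. -/
theorem exists_eq_e₀_sub {d : ℤ} {e : ℕ} (hde : d + (e : ℤ) = dω n) (ε : EE n)
    (hε : ε ∈ negDeg (n := n) d (idxEquiv.{u} n)) :
    ∃ a : Fin (n + 1) →₀ ℕ, ∑ l, a l = e ∧ ε = e₀ n - castE a := by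
  obtain ⟨hg, hneg⟩ := hε
  have hlt : ∀ j : Fin (n + 1), ε j < 0 := by
    intro j
    have : (idxEquiv.{u} n).symm j ∈ negSet (idxEquiv.{u} n) ε := by
      rw [hneg]
      exact Set.mem_univ _
    change ε (idxEquiv.{u} n ((idxEquiv.{u} n).symm j)) < 0 at this
    rwa [Equiv.apply_symm_apply] at this
  have hcast : castE (toNatE (e₀ n - ε)) = e₀ n - ε := by
    apply castE_toNatE
    intro j
    rw [Finsupp.sub_apply, e₀_apply]
    have := hlt j
    omega
  refine ⟨toNatE (e₀ n - ε), ?_, ?_⟩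
  · have h1 : ((∑ l, (toNatE (e₀ n - ε)) l : ℕ) : ℤ) = ∑ l, (e₀ n - ε) l := by
      push_cast
      refine Finset.sum_congr rfl (fun l _ => ?_)
      rw [← castE_apply, hcast]
      rfl
    have h2 : ∑ l, (e₀ n - ε) l = ∑ l : Fin (n + 1), ((-1 : ℤ) - ε l) :=
      Finset.sum_congr rfl (fun j _ => by rw [Finsupp.sub_apply, e₀_apply])
    rw [h2, Finset.sum_sub_distrib, Finset.sum_const, Finset.card_univ, Fintype.card_fin] at h1
    have h3 : ∑ j, ε j = d := hg
    rw [h3] at h1
    simp only [nsmul_eq_mul, Nat.cast_add, Nat.cast_one, mul_neg, mul_one] at h1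
    unfold dω at hde
    have : ((∑ l, (toNatE (e₀ n - ε)) l : ℕ) : ℤ) = (e : ℤ) := by omega
    exact_mod_cast this
  · rw [hcast]
    abel

section Supp

variable {α : Type*} {S : Type*} [CommRing S] {N : Type*} [AddCommGroup N] [Module S N]

theorem single_mem_supported' {s : Set α} {ε : α} (hε : ε ∈ s) (r : S) :
    Finsupp.single ε r ∈ Finsupp.supported S S s :=
  Finsupp.single_mem_supported S r hε

/-- linear maps on the functions supported in `s` are determined by their values on the indicator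
functions of the points of `s`. -/
theorem supported_lhom_ext {s : Set α} (ψ₁ ψ₂ : ↥(Finsupp.supported S S s) →ₗ[S] N)
    (h : ∀ (ε : α) (hε : ε ∈ s), ψ₁ ⟨Finsupp.single ε 1, single_mem_supported' hε 1⟩ =
      ψ₂ ⟨Finsupp.single ε 1, single_mem_supported' hε 1⟩) : ψ₁ = ψ₂ := by
  have h1 : ψ₁.comp (Finsupp.supportedEquivFinsupp (R := S) (M := S) s).symm.toLinearMap =
      ψ₂.comp (Finsupp.supportedEquivFinsupp (R := S) (M := S) s).symm.toLinearMap := by
    apply Finsupp.lhom_ext'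
    rintro ⟨ε, hε⟩
    apply LinearMap.ext_ring
    have e : (Finsupp.supportedEquivFinsupp (R := S) (M := S) s).symm
        (Finsupp.single ⟨ε, hε⟩ 1) = ⟨Finsupp.single ε 1, single_mem_supported' hε 1⟩ :=
      Subtype.ext (Finsupp.supportedEquivFinsupp_symm_single s ⟨ε, hε⟩ 1)
    change ψ₁ ((Finsupp.supportedEquivFinsupp (R := S) (M := S) s).symm
      (Finsupp.single ⟨ε, hε⟩ 1)) = ψ₂ ((Finsupp.supportedEquivFinsupp (R := S) (M := S) s).symm
      (Finsupp.single ⟨ε, hε⟩ 1))
    rw [e]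
    exact h ε hε
  ext x
  have := LinearMap.congr_fun h1 (Finsupp.supportedEquivFinsupp (R := S) (M := S) s x)
  simpa using this

end Supp

variable (n)

/-- `resTop` as a linear equivalence. -/
noncomputable def resTopₗ (d : ℤ) (hd : d < 0) :
    Coh.HH (CohB1.ProjSpace n R) (OO n R d) n ≃ₗ[R]
      ↥(Finsupp.supported R R (negDeg (n := n) d (idxEquiv.{u} n))) :=
  (resTop n R d hd).toLinearEquiv (resTop_smul n R d hd)

theorem resTopₗ_apply (d : ℤ) (hd : d < 0) (x : Coh.HH (CohB1.ProjSpace n R) (OO n R d) n) :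
    resTopₗ n R d hd x = resTop n R d hd x := rfl

/-- the trace on the top cohomology of `O(-n-1)`. -/
noncomputable def trP : Coh.HH (CohB1.ProjSpace n R) (OO n R (dω n)) n →ₗ[R] R :=
  (Finsupp.lapply (e₀ n)).comp ((Finsupp.supported R R _).subtype.comp
    (resTopₗ n R (dω n) (dω_neg n)).toLinearMap)

theorem trP_apply (x : Coh.HH (CohB1.ProjSpace n R) (OO n R (dω n)) n) :
    trP n R x = (resTop n R (dω n) (dω_neg n) x : EE n →₀ R) (e₀ n) := rfl

theorem negDeg_dω : negDeg (n := n) (dω n) (idxEquiv.{u} n) = {e₀ n} := by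
  ext ε
  constructor
  · intro hε
    obtain ⟨a, ha, rfl⟩ := exists_eq_e₀_sub (d := dω n) (e := 0) (by simp) ε hε
    have ha0 : a = 0 := by
      ext l
      have : a l ≤ ∑ l, a l := Finset.single_le_sum (f := fun l => a l) (fun _ _ => Nat.zero_le _)
        (Finset.mem_univ l)
      rw [ha] at this
      exact Nat.le_zero.mp this
    rw [ha0, map_zero, sub_zero]
    exact Set.mem_singleton _
  · intro hε
    rw [Set.mem_singleton_iff] at hε
    rw [hε]
    have := mem_negDeg_e₀_sub (n := n) (0 : Fin (n + 1) →₀ ℕ) (d := dω n) (e := 0) (by simp)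
      (by simp)
    rwa [map_zero, sub_zero] at this

theorem trP_bijective : Function.Bijective (trP n R) := by
  constructor
  · rw [← LinearMap.ker_eq_bot, LinearMap.ker_eq_bot']
    intro x hx
    apply (resTop n R (dω n) (dω_neg n)).injective
    rw [map_zero]
    apply Subtype.ext
    ext ε
    by_cases hε : ε = e₀ n
    · rw [hε]
      exact hx
    · have hmem := (resTop n R (dω n) (dω_neg n) x).2
      rw [Finsupp.mem_supported'] at hmem
      exact hmem ε (by rw [negDeg_dω]; exact hε)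
  · intro r
    refine ⟨(resTop n R (dω n) (dω_neg n)).symm ⟨Finsupp.single (e₀ n) r,
      single_mem_supported' (by rw [negDeg_dω]; exact Set.mem_singleton _) r⟩, ?_⟩
    rw [trP_apply, AddEquiv.apply_symm_apply]
    exact Finsupp.single_eq_same

end Groth.Agent.Lib.T2H6.SDual
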