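import Groth.Agent.Lib.T2H6SDualF

/-!
# Serre duality for the twisting sheaves of projective space: the perfect pairing (T2H6)
-/

set_option autoImplicit false
universe u

open CategoryTheory CategoryTheory.Limits AlgebraicGeometry TopologicalSpace Opposite MvPolynomial

namespace Groth.Agent.Lib.T2H6.SDual

open Groth.Agent.Lib.Helper27GrTildeSect Groth.Agent.Lib.T2H5.LaurentAlg
  Groth.Agent.Lib.T2H5.TwistSect Groth.Agent.Lib.T2H5.CechPn
  Groth.Agent.Lib.T2H5.PnVanish Groth.Agent.Lib.T2H5.PnTop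

variable (n : ℕ) (R : Type u) [CommRing R]

local notation "𝒫" => CohB1.polyGrading n R

/-- the pairing formula: the trace of the product with a form. -/
theorem trP_mulForm (d : ℤ) (hd : d < 0) {e : ℕ}
    {f : MvPolynomial (Fin (n + 1)) R} (hf : f ∈ CohB1.polyGrading n R e)
    (hde : d + (e : ℤ) = dω n) (x : Coh.HH (CohB1.ProjSpace n R) (OO n R d) n) :
    trP n R (Sheaf.H.map ((SheafOfModules.toSheaf (CohB1.ProjSpace n R).ringCatSheaf).map
        (mulForm 𝒫 𝒫 hf hde)) n x) =
      ∑ a ∈ f.support, coeff a f * (resTop n R d hd x : EE n →₀ R) (e₀ n - castE a) := by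
  rw [trP_apply]
  refine resTop_mulForm n R d (dω n) hd (dω_neg n) hf hde x (e₀ n) ?_
  have := negSet_e₀_sub.{u} (n := n) (0 : Fin (n + 1) →₀ ℕ)
  rwa [map_zero, sub_zero] at this

variable {n R}

theorem sum_coeff_single_eq (f : MvPolynomial (Fin (n + 1)) R) (a₀ : Fin (n + 1) →₀ ℕ) :
    ∑ a ∈ f.support, coeff a f *
      (Finsupp.single (e₀ n - castE a₀) (1 : R) : EE n →₀ R) (e₀ n - castE a) = coeff a₀ f := by
  classical
  have h1 : ∀ a ∈ f.support, coeff a f *
      (Finsupp.single (e₀ n - castE a₀) (1 : R) : EE n →₀ R) (e₀ n - castE a) =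
      if a₀ = a then coeff a f else 0 := by
    intro a _
    rw [Finsupp.single_apply]
    by_cases h : a₀ = a
    · subst h
      simp
    · rw [if_neg h, if_neg, mul_zero]
      intro h2
      exact h (castE_injective (sub_right_injective h2))
  rw [Finset.sum_congr rfl h1, Finset.sum_ite_eq]
  split_ifs with h
  · rfl
  · exact (MvPolynomial.notMem_support_iff.mp h).symm

variable (n R)

/-- the coefficients of the form attached to a linear form on `H^n(O(d))`. -/
noncomputable def coefOf (d : ℤ) (hd : d < 0) {e : ℕ} (hde : d + (e : ℤ) = dω n)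
    (ψ : Coh.HH (CohB1.ProjSpace n R) (OO n R d) n →ₗ[R] R) (a : Fin (n + 1) →₀ ℕ) : R := by
  classical
  exact if h : ∑ l, a l = e then ψ ((resTop n R d hd).symm ⟨Finsupp.single (e₀ n - castE a) 1,
    single_mem_supported' (mem_negDeg_e₀_sub a hde h) 1⟩) else 0

/-- the form attached to a linear form on `H^n(O(d))`. -/
noncomputable def formOf (d : ℤ) (hd : d < 0) {e : ℕ} (hde : d + (e : ℤ) = dω n)
    (ψ : Coh.HH (CohB1.ProjSpace n R) (OO n R d) n →ₗ[R] R) : MvPolynomial (Fin (n + 1)) R :=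
  ∑ a ∈ (Finset.univ : Finset (Fin (n + 1))).finsuppAntidiag e,
    monomial a (coefOf n R d hd hde ψ a)

theorem formOf_mem (d : ℤ) (hd : d < 0) {e : ℕ} (hde : d + (e : ℤ) = dω n)
    (ψ : Coh.HH (CohB1.ProjSpace n R) (OO n R d) n →ₗ[R] R) :
    formOf n R d hd hde ψ ∈ CohB1.polyGrading n R e := by
  refine Submodule.sum_mem _ (fun a ha => ?_)
  apply isHomogeneous_monomial
  rw [Finset.mem_finsuppAntidiag] at ha
  rw [Finsupp.degree_eq_sum]
  exact ha.1

theorem coeff_formOf (d : ℤ) (hd : d < 0) {e : ℕ} (hde : d + (e : ℤ) = dω n)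
    (ψ : Coh.HH (CohB1.ProjSpace n R) (OO n R d) n →ₗ[R] R) (a : Fin (n + 1) →₀ ℕ) :
    coeff a (formOf n R d hd hde ψ) = coefOf n R d hd hde ψ a := by
  classical
  unfold formOf
  rw [coeff_sum]
  simp only [coeff_monomial]
  rw [Finset.sum_ite_eq']
  split_ifs with h
  · rfl
  · unfold coefOf
    rw [dif_neg]
    intro h2
    apply h
    rw [Finset.mem_finsuppAntidiag]
    exact ⟨h2, fun _ _ => Finset.mem_univ _⟩

end Groth.Agent.Lib.T2H6.SDual
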