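import Groth.Agent.Lib.T2H6SDualK
import Groth.Agent.Lib.T2H5FPColim2
import Groth.Agent.Lib.Helper9HTerminal
import Groth.Agent.S0468
import Groth.Agent.S0484

/-!
# Dualizing pairs: from twisting sheaves to quasi-coherent modules (T2H6)

Generic dévissage for the duality map `φ ↦ tr ∘ H^r(φ)` of a pair `(ω, tr)` on a scheme `X` over
`Spec A`:

* `bijective_dualityMap_of_isCoh_generic`: if the duality map is bijective on a class `𝒯` of coherent
  modules such that every coherent module is a quotient of a finite sum of members of `𝒯`, and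
  `H^{r+1}` vanishes on coherent modules, the duality map is bijective on every coherent module;
* `exists_rep_HH_of_isColimit`: a class in `H^r` of a directed colimit comes from a stage;
* `bijective_dualityMap_of_isQCoh_generic`: on a qcqs scheme, bijectivity on finitely presented
  modules implies bijectivity on quasi-coherent modules.
-/

set_option autoImplicit false
set_option linter.style.haveILetI false
universe u

open CategoryTheory CategoryTheory.Limits AlgebraicGeometry TopologicalSpace Opposite

namespace Groth.Agent.Lib.T2H6.SDual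

section Generic

variable (A : Type u) [CommRing A] {X : Scheme.{u}} [X.Over (Spec (CommRingCat.of A))]
  (r : ℕ) (ω : X.Modules) (tr : Coh.HH X ω r →ₗ[A] A)

/-- dévissage from a generating class of coherent modules to all coherent modules. -/
theorem bijective_dualityMap_of_isCoh_generic [IsLocallyNoetherian X]
    (𝒯 : X.Modules → Prop) (hcoh : ∀ T, 𝒯 T → Coh.IsCoh T)
    (hbij : ∀ T, 𝒯 T → Function.Bijective (Canon.dualityMap A X r ω tr T))
    (hgen : ∀ F : X.Modules, Coh.IsCoh F →
      ∃ (b : ℕ) (E : Fin b → X.Modules) (φ : (∐ E) ⟶ F), (∀ j, 𝒯 (E j)) ∧ Epi φ)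
    (hvan : ∀ K : X.Modules, Coh.IsCoh K → Subsingleton (Coh.HH X K (r + 1)))
    (F : X.Modules) (hF : Coh.IsCoh F) :
    Function.Bijective (Canon.dualityMap A X r ω tr F) := by
  obtain ⟨b, E, φ, hE, hφ⟩ := hgen F hF
  have hE₀ : Coh.IsCoh (∐ E) :=
    Groth.Agent.Lib.T2H5.GenIsoA.isCoh_sigma _ (fun j => hcoh _ (hE j))
  have hK : Coh.IsCoh (kernel φ) := Groth.Agent.Lib.T2H5.GenIsoB.isCoh_kernel φ hE₀ hF
  obtain ⟨b', E', φ', hE', hφ'⟩ := hgen (kernel φ) hK
  have hab : (φ' ≫ kernel.ι φ) ≫ φ = 0 := by rw [Category.assoc, kernel.condition, comp_zero]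
  have hex : (ShortComplex.mk (φ' ≫ kernel.ι φ) φ hab).Exact := by
    let S₁ : ShortComplex X.Modules := ShortComplex.mk (φ' ≫ kernel.ι φ) φ hab
    let S₂ : ShortComplex X.Modules := ShortComplex.mk (kernel.ι φ) φ (kernel.condition φ)
    let α : S₁ ⟶ S₂ :=
      { τ₁ := φ'
        τ₂ := 𝟙 _
        τ₃ := 𝟙 _
        comm₁₂ := by simp [S₁, S₂]
        comm₂₃ := by simp [S₁, S₂] }
    have : Epi α.τ₁ := hφ'
    have : IsIso α.τ₂ := inferInstanceAs (IsIso (𝟙 _))
    have : Mono α.τ₃ := inferInstanceAs (Mono (𝟙 _))
    exact (ShortComplex.exact_iff_of_epi_of_isIso_of_mono α).mpr (ShortComplex.exact_kernel φ)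
  have hS : (ShortComplex.mk (kernel.ι φ) φ (kernel.condition φ)).ShortExact :=
    { exact := ShortComplex.exact_kernel φ }
  have hsurj : Function.Surjective (Canon.HHlin A φ r) := by
    refine Groth.Agent.Lib.T2H5.HHLes.surjective_g_of_injective_f_succ A _ hS r ?_
    have : Subsingleton (Coh.HH X (kernel φ) (r + 1)) := hvan _ hK
    exact fun x y _ => Subsingleton.elim x y
  have : Epi φ := hφ
  exact bijective_dualityMap_of_presentation A r ω tr (φ' ≫ kernel.ι φ) φ hab hex
    (bijective_dualityMap_sigma A r ω tr _ (fun j => hbij _ (hE j)))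
    (bijective_dualityMap_sigma A r ω tr _ (fun j => hbij _ (hE' j))).1
    hsurj

end Generic

section Colimit

variable {X : Scheme.{u}} [CompactSpace X] [QuasiSeparatedSpace X]

/-- a class in `H^r` of a directed colimit of modules comes from a stage. -/
theorem exists_rep_HH_of_isColimit {I : Type u} [Preorder I] [IsDirected I (· ≤ ·)] [Nonempty I]
    (D : I ⥤ X.Modules) (F : X.Modules) (ι : D ⟶ (Functor.const I).obj F)
    (hc : IsColimit (Cocone.mk F ι)) (r : ℕ) (x : Coh.HH X F r) :
    ∃ (i : I) (y : Coh.HH X (D.obj i) r),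
      Sheaf.H.map ((SheafOfModules.toSheaf X.ringCatSheaf).map (ι.app i)) r y = x := by
  haveI : PrespectralSpace ↑X.toTopCat := inferInstanceAs (PrespectralSpace X)
  haveI : QuasiSeparatedSpace ↑X.toTopCat := inferInstanceAs (QuasiSeparatedSpace X)
  haveI : CompactSpace ↑X.toTopCat := inferInstanceAs (CompactSpace X)
  haveI h1 : PreservesColimitsOfShape I (SheafOfModules.toSheaf.{u} X.ringCatSheaf) :=
    Groth.Agent.S0484.preservesColimitsOfShape_toSheaf (Opens.grothendieckTopology X)
      X.ringCatSheaf I
  haveI h2 : PreservesColimitsOfShape I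
      ((Sheaf.cohomologyPresheafFunctor (Opens.grothendieckTopology X) r).flip.obj
        (op (⊤ : Opens X)) : CohTop.Ab X.toTopCat ⥤ AddCommGrpCat.{u}) :=
    Groth.Agent.S0468.result (X := X.toTopCat) ⊤ isCompact_univ I r
  haveI h3 : PreservesColimitsOfShape I
      (Sheaf.functorH.{u, u, u, u} (Opens.grothendieckTopology X) r) :=
    preservesColimitsOfShape_of_natIso
      (Groth.Agent.Lib.Helper9.HTerminal.functorHIso (Opens.grothendieckTopology X)
        (T := (⊤ : Opens X)) isTerminalTop r).symm
  let G : X.Modules ⥤ AddCommGrpCat.{u} :=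
    SheafOfModules.toSheaf.{u} X.ringCatSheaf ⋙
      Sheaf.functorH.{u, u, u, u} (Opens.grothendieckTopology X) r
  haveI : IsFiltered I := isFiltered_of_directed_le_nonempty I
  haveI hG' : PreservesColimitsOfShape I G :=
    comp_preservesColimitsOfShape (SheafOfModules.toSheaf.{u} X.ringCatSheaf)
      (Sheaf.functorH.{u, u, u, u} (Opens.grothendieckTopology X) r)
  have hG : IsColimit (G.mapCocone (Cocone.mk F ι)) := isColimitOfPreserves G hc
  obtain ⟨i, y, hy⟩ := Concrete.isColimit_exists_rep (D ⋙ G) hG x
  exact ⟨i, y, hy⟩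

variable (A : Type u) [CommRing A] [X.Over (Spec (CommRingCat.of A))]
  (r : ℕ) (ω : X.Modules) (tr : Coh.HH X ω r →ₗ[A] A)

/-- on a qcqs scheme, if the duality map is bijective on finitely presented modules, it is bijective
on quasi-coherent modules. -/
theorem bijective_dualityMap_of_isQCoh_generic
    (hfp : ∀ G : X.Modules, CohB1.IsFP G → Function.Bijective (Canon.dualityMap A X r ω tr G))
    (F : X.Modules) (hF : Coh.IsQCoh F) :
    Function.Bijective (Canon.dualityMap A X r ω tr F) := by
  haveI : F.IsQuasicoherent := hF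
  obtain ⟨I, hI, hdir, hne, D, ι, ⟨hcol⟩, hfpD⟩ := Groth.Agent.Lib.T2H5.FPColim2.main F
  constructor
  · intro φ φ' h
    apply hcol.hom_ext
    intro i
    apply (hfp _ (hfpD i)).1
    have e1 := dualityMap_comp A r ω tr (F := D.obj i) (G := F) (ι.app i) φ
    have e2 := dualityMap_comp A r ω tr (F := D.obj i) (G := F) (ι.app i) φ'
    change Canon.dualityMap A X r ω tr (D.obj i) (ι.app i ≫ φ) =
      Canon.dualityMap A X r ω tr (D.obj i) (ι.app i ≫ φ')
    rw [e1, e2, h]
  · intro ψ
    choose φ hφ using fun i => (hfp _ (hfpD i)).2 (ψ.comp (Canon.HHlin A (ι.app i) r))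
    let s : Cocone D :=
      { pt := ω
        ι :=
          { app := φ
            naturality := by
              intro i j f
              have hn : D.map f ≫ ι.app j = ι.app i := by
                have := ι.naturality f
                simp only [Functor.const_obj_obj, Functor.const_obj_map, Category.comp_id] at this
                exact this
              have key : D.map f ≫ φ j = φ i := by
                apply (hfp _ (hfpD i)).1
                rw [dualityMap_comp, hφ j, hφ i, LinearMap.comp_assoc, ← HHlin_comp]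
                have e3 : Canon.HHlin A (D.map f ≫ (ι.app j : D.obj j ⟶ F)) r =
                    Canon.HHlin A (ι.app i : D.obj i ⟶ F) r := by rw [hn]
                exact congrArg (fun l => ψ.comp l) e3
              simpa using key } }
    refine ⟨hcol.desc s, ?_⟩
    ext x
    obtain ⟨i, y, rfl⟩ := exists_rep_HH_of_isColimit D F ι hcol r x
    have h1 : ι.app i ≫ hcol.desc s = φ i := hcol.fac s i
    have h2 := LinearMap.congr_fun (dualityMap_comp A r ω tr (ι.app i) (hcol.desc s)) y
    rw [h1, hφ i] at h2
    exact h2.symm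

end Colimit

end Groth.Agent.Lib.T2H6.SDual
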