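import Mathlib

set_option autoImplicit false
universe u
open CategoryTheory CategoryTheory.Limits AlgebraicGeometry TopologicalSpace Opposite

namespace Groth.Agent.Lib.T2H6.SchDom

variable {X S : Scheme.{u}} (p : X ⟶ S) {ι : Type u} (Z : ι → Scheme.{u}) (f : ∀ i, Z i ⟶ X)

/-- condition b) -/
def CondB : Prop := ∀ (V : X.Opens) (t : Γ(X, V)), (∀ i, (f i).app V t = 0) → t = 0

/-- condition c) -/
def CondC : Prop := ∀ (U : X.Opens) (Y : Scheme.{u}) (j : Y ⟶ (U : Scheme.{u})), IsClosedImmersion j →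
    (∀ i, ∃ g : ((f i) ⁻¹ᵁ U : Scheme.{u}) ⟶ Y, g ≫ j = (f i) ∣_ U) → IsIso j

/-- condition d) -/
def CondD : Prop := ∀ (X' : Scheme.{u}) (q : X' ⟶ S), IsSeparated q → ∀ (U : X.Opens)
    (u v : (U : Scheme.{u}) ⟶ X'),
    u ≫ q = U.ι ≫ p → v ≫ q = U.ι ≫ p → (∀ i, ((f i) ∣_ U) ≫ u = ((f i) ∣_ U) ≫ v) → u = v

theorem restrict_app_eq_zero {Z X : Scheme.{u}} (f : Z ⟶ X) (U : X.Opens) (W : U.toScheme.Opens)
    (t : Γ(U.toScheme, W)) (h : (f ∣_ U).app W t = 0) :
    f.app (U.ι ''ᵁ W) t = 0 := by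
  rw [morphismRestrict_app] at h
  have hb : Function.Bijective
      (Z.presheaf.map (eqToHom (image_morphismRestrict_preimage f U W)).op).hom :=
    ConcreteCategory.bijective_of_isIso _
  apply hb.1
  rw [map_zero]
  exact h

theorem app_eq_zero_congr {A B : Scheme.{u}} {a b : A ⟶ B} (h : a = b) (W : B.Opens) (t : Γ(B, W))
    (h0 : a.app W t = 0) : b.app W t = 0 := by
  subst h; exact h0

theorem b_to_c (hb : CondB Z f) : CondC Z f := by
  intro U Y j hj hfac
  rw [IsClosedImmersion.isIso_iff_ker_eq_bot]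
  apply Scheme.IdealSheafData.ext
  funext W
  rw [Scheme.Hom.ker_apply, Scheme.IdealSheafData.ideal_bot]
  change RingHom.ker (j.app W.1).hom = ⊥
  rw [eq_bot_iff]
  intro t ht
  rw [RingHom.mem_ker] at ht
  have key : ∀ i, ((f i) ∣_ U).app W.1 t = 0 := by
    intro i
    obtain ⟨g, hg⟩ := hfac i
    refine app_eq_zero_congr hg W.1 t ?_
    rw [Scheme.Hom.comp_app]
    change (g.app (j ⁻¹ᵁ W.1)).hom ((j.app W.1).hom t) = 0
    rw [ht, map_zero]
  have h0 : (t : Γ(X, U.ι ''ᵁ W.1)) = 0 :=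
    hb (U.ι ''ᵁ W.1) t (fun i => restrict_app_eq_zero (f i) U W.1 t (key i))
  exact h0

theorem c_to_d (hc : CondC Z f) : CondD p Z f := by
  intro X' q hq U u v hu hv huv
  let Uo : Over S := Over.mk (U.ι ≫ p)
  let Xo : Over S := Over.mk q
  let uo : Uo ⟶ Xo := Over.homMk u hu
  let vo : Uo ⟶ Xo := Over.homMk v hv
  haveI : IsSeparated Xo.hom := hq
  have hcl : IsClosedImmersion (equalizer.ι uo vo).left := inferInstance
  have hfac : ∀ i, ∃ g : ((f i) ⁻¹ᵁ U : Scheme.{u}) ⟶ (equalizer uo vo).left,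
      g ≫ (equalizer.ι uo vo).left = (f i) ∣_ U := by
    intro i
    let Zo : Over S := Over.mk (((f i) ∣_ U) ≫ U.ι ≫ p)
    let fo : Zo ⟶ Uo := Over.homMk ((f i) ∣_ U) rfl
    have hfo : fo ≫ uo = fo ≫ vo := by
      ext
      exact huv i
    refine ⟨(equalizer.lift fo hfo).left, ?_⟩
    have := equalizer.lift_ι fo hfo
    exact congrArg CommaMorphism.left this
  haveI := hc U _ (equalizer.ι uo vo).left hcl hfac
  have h1 : (equalizer.ι uo vo).left ≫ u = (equalizer.ι uo vo).left ≫ v :=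
    congrArg CommaMorphism.left (equalizer.condition uo vo)
  exact (cancel_epi _).1 h1

theorem app_map_eqToHom {Z X : Scheme.{u}} (f : Z ⟶ X) {V₁ V₂ : X.Opens} (h : V₁ = V₂) (t : Γ(X, V₂))
    (ht : f.app V₂ t = 0) : f.app V₁ (X.presheaf.map (eqToHom h).op t) = 0 := by
  subst h
  simpa using ht

theorem d_to_b (hd : CondD p Z f) : CondB Z f := by
  intro V t ht
  haveI : IsSeparated (𝔸(PUnit.{u + 1}; S) ↘ S) := inferInstance
  -- the section on `V` as a global section of the open subscheme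
  let t' : Γ(V.toScheme, ⊤) := V.topIso.inv.hom t
  have htt : V.topIso.hom.hom t' = t := by
    change (V.topIso.inv ≫ V.topIso.hom).hom t = t
    rw [Iso.inv_hom_id]; rfl
  let u : (V : Scheme.{u}) ⟶ 𝔸(PUnit.{u + 1}; S) := AffineSpace.homOfVector (V.ι ≫ p) (fun _ => t')
  let v : (V : Scheme.{u}) ⟶ 𝔸(PUnit.{u + 1}; S) := AffineSpace.homOfVector (V.ι ≫ p) (fun _ => 0)
  have huv : u = v := by
    refine hd _ _ inferInstance V u v (AffineSpace.homOfVector_over _ _)
      (AffineSpace.homOfVector_over _ _) (fun i => ?_)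
    rw [AffineSpace.comp_homOfVector, AffineSpace.comp_homOfVector]
    congr 1
    funext _
    change ((f i) ∣_ V).appTop.hom t' = ((f i) ∣_ V).appTop.hom 0
    rw [map_zero, morphismRestrict_appTop]
    change ((Z i).presheaf.map _).hom (((f i).app (V.ι ''ᵁ ⊤)).hom (V.topIso.inv.hom t)) = 0
    have h5 : V.topIso.inv.hom t = X.presheaf.map (eqToHom V.ι_image_top).op t := rfl
    rw [h5, app_map_eqToHom (f i) V.ι_image_top t (ht i), map_zero]
  have h1 := AffineSpace.homOfVector_appTop_coord (V.ι ≫ p) (fun _ : PUnit.{u + 1} => t') PUnit.unit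
  have h2 := AffineSpace.homOfVector_appTop_coord (V.ι ≫ p)
    (fun _ : PUnit.{u + 1} => (0 : Γ(V.toScheme, ⊤))) PUnit.unit
  have h3 : t' = 0 := by
    rw [← h1, ← h2]
    change u.appTop _ = v.appTop _
    rw [huv]
  rw [← htt, h3, map_zero]

theorem tfae : [CondB Z f, CondC Z f, CondD p Z f].TFAE := by
  tfae_have 1 → 2 := b_to_c Z f
  tfae_have 2 → 3 := c_to_d p Z f
  tfae_have 3 → 1 := d_to_b p Z f
  tfae_finish

end Groth.Agent.Lib.T2H6.SchDom
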