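import Mathlib
import Groth.Agent.Lib.T2H6SegreB

set_option autoImplicit false
universe u v
open CategoryTheory CategoryTheory.Limits AlgebraicGeometry TopologicalSpace Opposite

namespace Groth.Agent.Lib.T2H6.SepCrit

open Groth.Agent.Lib.T2H6.Segre Groth.Agent.Lib.T2H6.SegreB

variable {X Y : Scheme.{u}} (f : X ⟶ Y)

theorem diag_preimage (U V : X.Opens) :
    pullback.diagonal f ⁻¹ᵁ OO f f U V = U ⊓ V := by
  ext x
  have h1 : pullback.fst f f (pullback.diagonal f x) = x := by
    rw [← Scheme.Hom.comp_apply, pullback.diagonal_fst]; rfl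
  have h2 : pullback.snd f f (pullback.diagonal f x) = x := by
    rw [← Scheme.Hom.comp_apply, pullback.diagonal_snd]; rfl
  change (pullback.fst f f (pullback.diagonal f x) ∈ U ∧ pullback.snd f f (pullback.diagonal f x) ∈ V) ↔ _
  rw [h1, h2]
  rfl

theorem id_pb (U O : X.Opens) (h : O ≤ U) (b : Γ(X, U)) :
    pb (𝟙 X) U O h b = rs h b := by
  change ((𝟙 X : X ⟶ X).appLE U O h).hom b = _
  simp only [Scheme.Hom.appLE, Scheme.Hom.id_app, Category.id_comp]
  rfl

theorem diag_pb_fst (U V : X.Opens) (hle : U ⊓ V ≤ pullback.diagonal f ⁻¹ᵁ OO f f U V) (b : Γ(X, U)) :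
    pb (pullback.diagonal f) (OO f f U V) (U ⊓ V) hle
      (pb (pullback.fst f f) U (OO f f U V) inf_le_left b) = rs inf_le_left b := by
  have h1 := Scheme.Hom.appLE_comp_appLE (pullback.diagonal f) (pullback.fst f f) U (OO f f U V)
    (U ⊓ V) inf_le_left hle
  have h2 := appLE_congr_hom (pullback.diagonal_fst f) U (U ⊓ V)
    (hle.trans ((Opens.map (pullback.diagonal f).base).map (homOfLE (inf_le_left : OO f f U V ≤ _))).le)
  rw [h2] at h1
  have h3 := congrArg (fun φ => φ.hom b) h1
  refine h3.trans ?_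
  exact id_pb U (U ⊓ V) _ b

theorem diag_pb_snd (U V : X.Opens) (hle : U ⊓ V ≤ pullback.diagonal f ⁻¹ᵁ OO f f U V) (b : Γ(X, V)) :
    pb (pullback.diagonal f) (OO f f U V) (U ⊓ V) hle
      (pb (pullback.snd f f) V (OO f f U V) inf_le_right b) = rs inf_le_right b := by
  have h1 := Scheme.Hom.appLE_comp_appLE (pullback.diagonal f) (pullback.snd f f) V (OO f f U V)
    (U ⊓ V) inf_le_right hle
  have h2 := appLE_congr_hom (pullback.diagonal_snd f) V (U ⊓ V)
    (hle.trans ((Opens.map (pullback.diagonal f).base).map (homOfLE (inf_le_right : OO f f U V ≤ _))).le)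
  rw [h2] at h1
  have h3 := congrArg (fun φ => φ.hom b) h1
  refine h3.trans ?_
  exact id_pb V (U ⊓ V) _ b

/-- the image of `Δ^*` on `fst⁻¹U ∩ snd⁻¹V` is the subring generated by the restrictions. -/
theorem range_diag_pb [IsAffine Y] {U V : X.Opens} (hU : IsAffineOpen U) (hV : IsAffineOpen V)
    (hle : U ⊓ V ≤ pullback.diagonal f ⁻¹ᵁ OO f f U V) :
    (pb (pullback.diagonal f) (OO f f U V) (U ⊓ V) hle).range =
      Subring.closure (Set.range (rs (inf_le_left : U ⊓ V ≤ U)) ∪
        Set.range (rs (inf_le_right : U ⊓ V ≤ V))) := by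
  set δ := pb (pullback.diagonal f) (OO f f U V) (U ⊓ V) hle with hδ
  set s : Set Γ(pullback f f, OO f f U V) :=
    Set.range (pb (pullback.fst f f) U (OO f f U V) inf_le_left) ∪
      Set.range (pb (pullback.snd f f) V (OO f f U V) inf_le_right) with hs
  have htop : Subring.closure s = ⊤ := by
    refine gen_top f f hU hV _ ?_ ?_
    · intro b; exact Subring.subset_closure (Or.inl ⟨b, rfl⟩)
    · intro c; exact Subring.subset_closure (Or.inr ⟨c, rfl⟩)
  have h1 : δ.range = (Subring.closure s).map δ := by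
    rw [htop, RingHom.range_eq_map]
  rw [h1, RingHom.map_closure]
  congr 1
  rw [hs, Set.image_union, ← Set.range_comp, ← Set.range_comp]
  congr 1
  · ext t
    constructor
    · rintro ⟨b, rfl⟩; exact ⟨b, (diag_pb_fst f U V hle b).symm⟩
    · rintro ⟨b, rfl⟩; exact ⟨b, diag_pb_fst f U V hle b⟩
  · ext t
    constructor
    · rintro ⟨b, rfl⟩; exact ⟨b, (diag_pb_snd f U V hle b).symm⟩
    · rintro ⟨b, rfl⟩; exact ⟨b, diag_pb_snd f U V hle b⟩

theorem surjective_app_iff (g : X ⟶ Y) (O : Y.Opens) (W : X.Opens) (h : g ⁻¹ᵁ O = W) :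
    Function.Surjective (g.app O).hom ↔ Function.Surjective (pb g O W h.ge) := by
  subst h
  rw [Scheme.Hom.app_eq_appLE]

theorem main [IsAffine Y] {ι : Type v} (U : ι → X.Opens)
    (hU : ∀ i, IsAffineOpen (U i)) (hcov : ⨆ i, U i = ⊤) :
    IsSeparated f ↔ ∀ i j, IsAffineOpen (U i ⊓ U j) ∧
      Subring.closure (Set.range (X.presheaf.map (homOfLE (inf_le_left : U i ⊓ U j ≤ U i)).op).hom ∪
        Set.range (X.presheaf.map (homOfLE (inf_le_right : U i ⊓ U j ≤ U j)).op).hom) = ⊤ := by
  rw [AlgebraicGeometry.isSeparated_iff]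
  have hcov' : ∀ x : X, ∃ i, x ∈ U i := by
    intro x
    have : x ∈ (⨆ i, U i) := by rw [hcov]; trivial
    exact Opens.mem_iSup.1 this
  have hle : ∀ i j, U i ⊓ U j ≤ pullback.diagonal f ⁻¹ᵁ OO f f (U i) (U j) :=
    fun i j => (diag_preimage f (U i) (U j)).ge
  constructor
  · intro hΔ i j
    have haff : IsAffineOpen (OO f f (U i) (U j)) := isAffineOpen_OO f f (hU i) (hU j)
    constructor
    · rw [← diag_preimage f (U i) (U j)]
      exact haff.preimage (pullback.diagonal f)
    · have hs := Scheme.Hom.app_surjective (pullback.diagonal f) _ haff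
      rw [surjective_app_iff _ _ _ (diag_preimage f (U i) (U j))] at hs
      have := range_diag_pb f (hU i) (hU j) (hle i j)
      rw [RingHom.range_eq_top.2 hs] at this
      exact this.symm
  · intro h
    refine isClosedImmersion_of_cover (pullback.diagonal f)
      (fun p : ι × ι => OO f f (U p.1) (U p.2)) ?_ (fun p => isAffineOpen_OO f f (hU p.1) (hU p.2))
      ?_ ?_
    · intro z
      obtain ⟨i, hi⟩ := hcov' (pullback.fst f f z)
      obtain ⟨j, hj⟩ := hcov' (pullback.snd f f z)
      exact ⟨(i, j), hi, hj⟩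
    · intro p
      change IsAffineOpen (pullback.diagonal f ⁻¹ᵁ OO f f (U p.1) (U p.2))
      rw [diag_preimage]
      exact (h p.1 p.2).1
    · intro p
      rw [surjective_app_iff _ _ _ (diag_preimage f (U p.1) (U p.2)), ← RingHom.range_eq_top,
        range_diag_pb f (hU p.1) (hU p.2) (hle p.1 p.2)]
      exact (h p.1 p.2).2

end Groth.Agent.Lib.T2H6.SepCrit
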