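import Mathlib
import Groth.Prelude.Def_BlowUp2
import Groth.Prelude.Def_W4c6dblnestedhilbptsFlags
import Groth.Agent.Lib.T2H6SmCurveFlag
set_option backward.isDefEq.respectTransparency.types false

/-!
# Reconstructing a flag of relative divisors from edge data (helper6)

Namespace `Groth.Agent.Lib.T2H6.SmCurve.Flag`.
-/

set_option autoImplicit false
set_option linter.style.haveILetI false
set_option linter.unusedSectionVars false
universe u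
open CategoryTheory CategoryTheory.Limits AlgebraicGeometry TopologicalSpace

namespace Groth.Agent.Lib.T2H6.SmCurve.Flag

variable {X : Scheme.{u}} {μ : YoungDiagram} (E : HilbD.DnEdgeData μ X)

open Classical in
/-- total version of `E.vert` (junk value `⊤`). -/
noncomputable def V (i j : ℕ) : X.IdealSheafData :=
  if h : (i, j) ∈ μ ∧ 1 ≤ i then E.vert (i, j) h.1 h.2 else ⊤

open Classical in
/-- total version of `E.horiz` (junk value `⊤`). -/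
noncomputable def H (i j : ℕ) : X.IdealSheafData :=
  if h : (i, j) ∈ μ ∧ 1 ≤ j then E.horiz (i, j) h.1 h.2 else ⊤

/-- the first column of the flag. -/
noncomputable def col0 : ℕ → X.IdealSheafData
  | 0 => E.base
  | (i + 1) => col0 i * V E (i + 1) 0

/-- the flag, built from the first column along rows. -/
noncomputable def Zf (i : ℕ) : ℕ → X.IdealSheafData
  | 0 => col0 E i
  | (j + 1) => Zf i j * H E i (j + 1)

theorem vert_eq (c : ℕ × ℕ) (hc : c ∈ μ) (hi : 1 ≤ c.1) : E.vert c hc hi = V E c.1 c.2 := by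
  obtain ⟨i, j⟩ := c
  unfold V
  rw [dif_pos ⟨hc, hi⟩]

theorem horiz_eq (c : ℕ × ℕ) (hc : c ∈ μ) (hj : 1 ≤ c.2) : E.horiz c hc hj = H E c.1 c.2 := by
  obtain ⟨i, j⟩ := c
  unfold H
  rw [dif_pos ⟨hc, hj⟩]

theorem Zf_zero (i : ℕ) : Zf E i 0 = col0 E i := rfl

theorem Zf_succ (i j : ℕ) : Zf E i (j + 1) = Zf E i j * H E i (j + 1) := rfl

theorem col0_succ (i : ℕ) : col0 E (i + 1) = col0 E i * V E (i + 1) 0 := rfl

theorem gamma_rel
    (hγ : ∀ (c : ℕ × ℕ) (hc : c ∈ μ) (hi : 1 ≤ c.1) (hj : 1 ≤ c.2),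
      E.gammaOne c hc hi hj = E.gammaTwo c hc hi hj)
    (i j : ℕ) (h : (i + 1, j + 1) ∈ μ) :
    V E (i + 1) (j + 1) * H E i (j + 1) = H E (i + 1) (j + 1) * V E (i + 1) j := by
  have := hγ (i + 1, j + 1) h (Nat.le_add_left 1 i) (Nat.le_add_left 1 j)
  unfold HilbD.DnEdgeData.gammaOne HilbD.DnEdgeData.gammaTwo at this
  rw [vert_eq, horiz_eq, horiz_eq, vert_eq] at this
  exact this

theorem Zf_succ_left
    (hγ : ∀ (c : ℕ × ℕ) (hc : c ∈ μ) (hi : 1 ≤ c.1) (hj : 1 ≤ c.2),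
      E.gammaOne c hc hi hj = E.gammaTwo c hc hi hj)
    (i j : ℕ) (h : (i + 1, j) ∈ μ) : Zf E (i + 1) j = Zf E i j * V E (i + 1) j := by
  induction j with
  | zero => rfl
  | succ j ih =>
    have h' : (i + 1, j) ∈ μ := μ.isLowerSet (show ((i + 1, j) : ℕ × ℕ) ≤ (i + 1, j + 1) from
      ⟨le_rfl, Nat.le_succ j⟩) h
    rw [Zf_succ, ih h', Zf_succ, mul_assoc, mul_assoc, mul_comm (H E i (j + 1)),
      gamma_rel E hγ i j h, mul_comm (V E (i + 1) j)]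

theorem Zf_le_left
    (hγ : ∀ (c : ℕ × ℕ) (hc : c ∈ μ) (hi : 1 ≤ c.1) (hj : 1 ≤ c.2),
      E.gammaOne c hc hi hj = E.gammaTwo c hc hi hj)
    (i j k : ℕ) (h : (i + k, j) ∈ μ) : Zf E (i + k) j ≤ Zf E i j := by
  induction k with
  | zero => exact le_rfl
  | succ k ih =>
    have h' : (i + k, j) ∈ μ := μ.isLowerSet (show ((i + k, j) : ℕ × ℕ) ≤ (i + (k + 1), j) from
      ⟨by omega, le_rfl⟩) h
    refine le_trans ?_ (ih h')
    rw [show i + (k + 1) = (i + k) + 1 from rfl, Zf_succ_left E hγ (i + k) j h]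
    exact mul_le_left' _ _

theorem Zf_le_right (i j k : ℕ) : Zf E i (j + k) ≤ Zf E i j := by
  induction k with
  | zero => exact le_rfl
  | succ k ih =>
    refine le_trans ?_ ih
    rw [show j + (k + 1) = (j + k) + 1 from rfl, Zf_succ]
    exact mul_le_left' _ _

section Deg

variable {S : Scheme.{u}} (f : X ⟶ S) [SmoothOfRelativeDimension 1 f] (n : ℕ × ℕ → ℕ)

theorem isDivOfDeg_col0 (hn : HilbD.IsRevPlanePartition μ n) (hE : E.IsOfType f n)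
    (i : ℕ) (h : (i, 0) ∈ μ) : HilbD.IsDivOfDeg f (n (i, 0)) (col0 E i) := by
  induction i with
  | zero => exact hE.1
  | succ i ih =>
    have h' : (i, 0) ∈ μ := μ.isLowerSet (show ((i, 0) : ℕ × ℕ) ≤ (i + 1, 0) from
      ⟨Nat.le_succ i, le_rfl⟩) h
    have h1 := hE.2.1 (i + 1, 0) h (Nat.le_add_left 1 i)
    rw [vert_eq] at h1
    have h2 := isFinLocFreeOfDeg_mul f _ _ _ _ (ih h') h1
    have h3 : n (i, 0) ≤ n (i + 1, 0) := hn h' h ⟨Nat.le_succ i, le_rfl⟩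
    have h4 : n (i, 0) + (n (i + 1, 0) - n (i + 1 - 1, 0)) = n (i + 1, 0) := by
      rw [Nat.add_sub_cancel]
      omega
    rw [col0_succ]
    unfold HilbD.IsDivOfDeg
    rw [← h4]
    exact h2

theorem isDivOfDeg_Zf (hn : HilbD.IsRevPlanePartition μ n) (hE : E.IsOfType f n)
    (i j : ℕ) (h : (i, j) ∈ μ) : HilbD.IsDivOfDeg f (n (i, j)) (Zf E i j) := by
  induction j with
  | zero => exact isDivOfDeg_col0 E f n hn hE i h
  | succ j ih =>
    have h' : (i, j) ∈ μ := μ.isLowerSet (show ((i, j) : ℕ × ℕ) ≤ (i, j + 1) from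
      ⟨le_rfl, Nat.le_succ j⟩) h
    have h1 := hE.2.2 (i, j + 1) h (Nat.le_add_left 1 j)
    rw [horiz_eq] at h1
    have h2 := isFinLocFreeOfDeg_mul f _ _ _ _ (ih h') h1
    have h3 : n (i, j) ≤ n (i, j + 1) := hn h' h ⟨le_rfl, Nat.le_succ j⟩
    have h4 : n (i, j) + (n (i, j + 1) - n (i, j + 1 - 1)) = n (i, j + 1) := by
      rw [Nat.add_sub_cancel]
      omega
    rw [Zf_succ]
    unfold HilbD.IsDivOfDeg
    rw [← h4]
    exact h2

/-- `γ₁ ≤ γ₂` implies `γ₁ = γ₂` for edge data of type `n`. -/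
theorem gamma_eq_of_le (hn : HilbD.IsRevPlanePartition μ n) (hE : E.IsOfType f n)
    (c : ℕ × ℕ) (hc : c ∈ μ) (hi : 1 ≤ c.1) (hj : 1 ≤ c.2)
    (hle : E.gammaOne c hc hi hj ≤ E.gammaTwo c hc hi hj) :
    E.gammaOne c hc hi hj = E.gammaTwo c hc hi hj := by
  have hcu : (c.1 - 1, c.2) ∈ μ := HilbD.mem_up hc
  have hcl : (c.1, c.2 - 1) ∈ μ := HilbD.mem_left hc
  have hcul : (c.1 - 1, c.2 - 1) ∈ μ := HilbD.mem_left hcu
  have a1 := hE.2.1 c hc hi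
  have a2 := hE.2.2 (c.1 - 1, c.2) hcu hj
  have a3 := hE.2.2 c hc hj
  have a4 := hE.2.1 (c.1, c.2 - 1) hcl hi
  have g1 := isFinLocFreeOfDeg_mul f _ _ _ _ a1 a2
  have g2 := isFinLocFreeOfDeg_mul f _ _ _ _ a3 a4
  have m1 : n (c.1 - 1, c.2) ≤ n c := hn hcu hc ⟨Nat.sub_le _ _, le_rfl⟩
  have m2 : n (c.1 - 1, c.2 - 1) ≤ n (c.1 - 1, c.2) := hn hcul hcu ⟨le_rfl, Nat.sub_le _ _⟩
  have m3 : n (c.1, c.2 - 1) ≤ n c := hn hcl hc ⟨le_rfl, Nat.sub_le _ _⟩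
  have m4 : n (c.1 - 1, c.2 - 1) ≤ n (c.1, c.2 - 1) := hn hcul hcl ⟨Nat.sub_le _ _, le_rfl⟩
  have d1 : n c - n (c.1 - 1, c.2) + (n (c.1 - 1, c.2) - n ((c.1 - 1, c.2).1, (c.1 - 1, c.2).2 - 1))
      = n c - n (c.1 - 1, c.2 - 1) := by
    show n c - n (c.1 - 1, c.2) + (n (c.1 - 1, c.2) - n (c.1 - 1, c.2 - 1)) = _
    omega
  have d2 : n c - n (c.1, c.2 - 1) + (n (c.1, c.2 - 1) - n ((c.1, c.2 - 1).1 - 1, (c.1, c.2 - 1).2))
      = n c - n (c.1 - 1, c.2 - 1) := by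
    show n c - n (c.1, c.2 - 1) + (n (c.1, c.2 - 1) - n (c.1 - 1, c.2 - 1)) = _
    omega
  rw [d1] at g1
  rw [d2] at g2
  exact eq_of_le_of_isFinLocFreeOfDeg f (E.gammaTwo c hc hi hj) (E.gammaOne c hc hi hj) hle _ g2 g1

end Deg

section Main

variable {S : Scheme.{u}} (f : X ⟶ S) [SmoothOfRelativeDimension 1 f] (n : ℕ × ℕ → ℕ)

theorem isDnFlag_Zf (hn : HilbD.IsRevPlanePartition μ n) (hE : E.IsOfType f n)
    (hγ : ∀ (c : ℕ × ℕ) (hc : c ∈ μ) (hi : 1 ≤ c.1) (hj : 1 ≤ c.2),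
      E.gammaOne c hc hi hj = E.gammaTwo c hc hi hj) :
    HilbD.IsDnFlag f μ n (fun c _ => Zf E c.1 c.2) := by
  refine ⟨fun c hc => isDivOfDeg_Zf E f n hn hE c.1 c.2 hc, ?_⟩
  rintro ⟨i, j⟩ ⟨i', j'⟩ hc hc' ⟨h1, h2⟩
  obtain ⟨k1, rfl⟩ := Nat.exists_eq_add_of_le (show i ≤ i' from h1)
  obtain ⟨k2, rfl⟩ := Nat.exists_eq_add_of_le (show j ≤ j' from h2)
  exact le_trans (Zf_le_left E hγ i (j + k2) k1 hc') (Zf_le_right E i j k2)

theorem isEdgesOf_Zf (h00 : ((0, 0) : ℕ × ℕ) ∈ μ)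
    (hγ : ∀ (c : ℕ × ℕ) (hc : c ∈ μ) (hi : 1 ≤ c.1) (hj : 1 ≤ c.2),
      E.gammaOne c hc hi hj = E.gammaTwo c hc hi hj) :
    E.IsEdgesOf h00 (fun c _ => Zf E c.1 c.2) := by
  refine ⟨rfl, ?_, ?_⟩
  · rintro ⟨i, j⟩ hc hi
    obtain ⟨i, rfl⟩ := Nat.exists_eq_add_of_le (show 1 ≤ i from hi)
    rw [vert_eq]
    show Zf E (1 + i) j = Zf E (1 + i - 1) j * V E (1 + i) j
    rw [Nat.add_sub_cancel_left, Nat.add_comm 1 i]
    rw [Nat.add_comm 1 i] at hc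
    exact Zf_succ_left E hγ i j hc
  · rintro ⟨i, j⟩ hc hj
    obtain ⟨j, rfl⟩ := Nat.exists_eq_add_of_le (show 1 ≤ j from hj)
    rw [horiz_eq]
    show Zf E i (1 + j) = Zf E i (1 + j - 1) * H E i (1 + j)
    rw [Nat.add_sub_cancel_left, Nat.add_comm 1 j]
    rfl

theorem eq_Zf_of_isEdgesOf (h00 : ((0, 0) : ℕ × ℕ) ∈ μ)
    (Z : ∀ c : ℕ × ℕ, c ∈ μ → X.IdealSheafData) (hZ : E.IsEdgesOf h00 Z) :
    Z = fun c _ => Zf E c.1 c.2 := by
  obtain ⟨hb, hv, hh⟩ := hZ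
  have hcol : ∀ (i : ℕ) (h : (i, 0) ∈ μ), Z (i, 0) h = col0 E i := by
    intro i
    induction i with
    | zero => intro h; exact hb
    | succ i ih =>
      intro h
      have h' : (i, 0) ∈ μ := μ.isLowerSet (show ((i, 0) : ℕ × ℕ) ≤ (i + 1, 0) from
        ⟨Nat.le_succ i, le_rfl⟩) h
      rw [hv (i + 1, 0) h (Nat.le_add_left 1 i), vert_eq, col0_succ, ← ih h']
      rfl
  have hall : ∀ (i j : ℕ) (h : (i, j) ∈ μ), Z (i, j) h = Zf E i j := by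
    intro i j
    induction j with
    | zero => intro h; exact hcol i h
    | succ j ih =>
      intro h
      have h' : (i, j) ∈ μ := μ.isLowerSet (show ((i, j) : ℕ × ℕ) ≤ (i, j + 1) from
        ⟨le_rfl, Nat.le_succ j⟩) h
      rw [hh (i, j + 1) h (Nat.le_add_left 1 j), horiz_eq, Zf_succ, ← ih h']
      rfl
  funext c hc
  exact hall c.1 c.2 hc

end Main

end Groth.Agent.Lib.T2H6.SmCurve.Flag
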