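import Mathlib
import Groth.Prelude.Def_BlowUp2
import Groth.Agent.Lib.T2H6SmCurveSec
set_option backward.isDefEq.respectTransparency.types false

/-!
# A relative divisor of degree `d` on a separated relative smooth curve is fppf-locally a sum of
`d` sections (helper6)

Namespace `Groth.Agent.Lib.T2H6.SmCurve`.
-/

set_option autoImplicit false
set_option linter.style.haveILetI false
set_option linter.unusedSectionVars false
universe u
open CategoryTheory CategoryTheory.Limits AlgebraicGeometry TopologicalSpace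

namespace Groth.Agent.Lib.T2H6.SmCurve

theorem exists_sections (d : ℕ) : ∀ {Y B : Scheme.{u}} (g : Y ⟶ B) [SmoothOfRelativeDimension 1 g]
    [IsSeparated g] (I : Y.IdealSheafData) (_ : Mor2.IsFinLocFreeOfDeg d (I.subschemeι ≫ g)),
    ∃ (B' Y' : Scheme.{u}) (b : B' ⟶ B) (p : Y' ⟶ Y) (g' : Y' ⟶ B'), IsPullback p g' g b ∧ Flat b ∧
      Surjective b ∧ LocallyOfFinitePresentation b ∧
      ∃ σ : Fin d → (B' ⟶ Y'), (∀ i, σ i ≫ g' = 𝟙 B') ∧ I.comap p = ∏ i, (σ i).ker := by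
  induction d with
  | zero =>
    intro Y B g _ _ I hI
    refine ⟨B, Y, 𝟙 B, 𝟙 Y, g, IsPullback.of_horiz_isIso ⟨by simp⟩, inferInstance, inferInstance,
      inferInstance, fun i => Fin.elim0 i, fun i => Fin.elim0 i, ?_⟩
    rw [Scheme.IdealSheafData.comap_id, eq_top_of_isFinLocFreeOfDeg_zero g I hI,
      Finset.univ_eq_empty, Finset.prod_empty, Scheme.IdealSheafData.one_eq_top]
  | succ d ih =>
    intro Y B g _ _ I hI
    obtain ⟨⟨hfin, hfl, hfp⟩, hd⟩ := id hI
    haveI := hfin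
    haveI := hfl
    haveI := hfp
    -- the first base change: to `D = V(I)` itself
    have hsurj : Surjective (I.subschemeι ≫ g) := by
      rw [← Scheme.Hom.one_le_finrank_iff_surjective]
      intro y
      rw [hd y]
      exact Nat.le_add_left 1 d
    let σ₁ : I.subscheme ⟶ pullback g (I.subschemeι ≫ g) :=
      pullback.lift I.subschemeι (𝟙 _) (by simp)
    have hσ₁ : σ₁ ≫ pullback.snd g (I.subschemeι ≫ g) = 𝟙 _ := pullback.lift_snd _ _ _
    have hσ₁p : σ₁ ≫ pullback.fst g (I.subschemeι ≫ g) = I.subschemeι := pullback.lift_fst _ _ _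
    have hpb₁ : IsPullback (pullback.fst g (I.subschemeι ≫ g)) (pullback.snd g (I.subschemeι ≫ g)) g
        (I.subschemeι ≫ g) := IsPullback.of_hasPullback _ _
    haveI : SmoothOfRelativeDimension 1 (pullback.snd g (I.subschemeι ≫ g)) := by
      haveI := smoothOfRelativeDimension_isStableUnderBaseChange 1
      exact MorphismProperty.pullback_snd (P := @SmoothOfRelativeDimension 1) _ _ inferInstance
    have hI₁ := isFinLocFreeOfDeg_comap hpb₁ I (d + 1) hI
    have hdeg1 := isFinLocFreeOfDeg_one_ker_section (pullback.snd g (I.subschemeι ≫ g)) σ₁ hσ₁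
    have hle : I.comap (pullback.fst g (I.subschemeι ≫ g)) ≤ σ₁.ker := by
      rw [comap_le_ker_iff, hσ₁p, Scheme.IdealSheafData.ker_subschemeι]
    obtain ⟨J, hJ, hJ2⟩ := exists_isFinLocFreeOfDeg_of_le (pullback.snd g (I.subschemeι ≫ g))
      σ₁.ker (I.comap (pullback.fst g (I.subschemeι ≫ g))) hle 1 (d + 1) hdeg1 hI₁
    rw [Nat.add_sub_cancel] at hJ
    obtain ⟨B₂, Y₂, b₂, p₂, g₂, hpb₂, hb₂fl, hb₂s, hb₂fp, τ, hτ, hτ2⟩ :=
      ih (pullback.snd g (I.subschemeι ≫ g)) J hJ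
    haveI := hb₂fl
    haveI := hb₂s
    haveI := hb₂fp
    haveI := hsurj
    let σ₂ : B₂ ⟶ Y₂ := hpb₂.lift (b₂ ≫ σ₁) (𝟙 B₂) (by rw [Category.assoc, hσ₁]; simp)
    have hσ₂ : σ₂ ≫ g₂ = 𝟙 B₂ := hpb₂.lift_snd _ _ _
    have hσ₂p : σ₂ ≫ p₂ = b₂ ≫ σ₁ := hpb₂.lift_fst _ _ _
    have hker : σ₂.ker = σ₁.ker.comap p₂ := ker_section_comap hpb₂ σ₁ hσ₁ σ₂ hσ₂ hσ₂p
    refine ⟨B₂, Y₂, b₂ ≫ (I.subschemeι ≫ g), p₂ ≫ pullback.fst g (I.subschemeι ≫ g), g₂,
      hpb₂.paste_horiz hpb₁, inferInstance, inferInstance, inferInstance,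
      Fin.cons σ₂ τ, ?_, ?_⟩
    · intro i
      refine Fin.cases ?_ (fun j => ?_) i
      · rw [Fin.cons_zero]
        exact hσ₂
      · rw [Fin.cons_succ]
        exact hτ j
    · rw [Scheme.IdealSheafData.comap_comp, hJ2, comap_mul, ← hker, hτ2, Fin.prod_univ_succ]
      rfl

end Groth.Agent.Lib.T2H6.SmCurve
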