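import Mathlib
import Groth.Prelude.Def_ModSite2
import Groth.Agent.Lib.Helper21StalkFlat
import Groth.Agent.Lib.Helper21ModCoh
set_option backward.isDefEq.respectTransparency.types false

/-!
# T2H6StalkExtA (helper6): the stalk functor `Mod(O) ⥤ Mod(O_p)` at a point of a ringed site

Namespace `Groth.Agent.Lib.T2H6.StalkExt`.

* `St p : ModSite.Mod O ⥤ ModuleCat (ModSite.stalkRing p O)`, additive, preserves finite limits and finite colimits.
-/

set_option autoImplicit false
set_option linter.style.haveILetI false
universe u
open CategoryTheory CategoryTheory.Limits Opposite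

namespace Groth.Agent.Lib.T2H6.StalkExt

variable {C : Type u} [SmallCategory C] {J : GrothendieckTopology C} {O : Sheaf J CommRingCat.{u}}
  (p : GrothendieckTopology.Point.{u} J)

theorem stalkMap_apply {F G : ModSite.Mod O} (φ : F ⟶ G) (x : ModSite.stalkMod p F) :
    (ModSite.stalkMap p φ).hom x =
      (p.sheafFiber.map ((SheafOfModules.toSheaf (ModSite.ringSh O)).map φ)).hom x := rfl

/-- the stalk functor at a point of the site. -/
noncomputable def St : ModSite.Mod O ⥤ ModuleCat.{u} (ModSite.stalkRing p O) where
  obj F := ModSite.stalkMod p F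
  map φ := ModSite.stalkMap p φ
  map_id F := by
    apply ModuleCat.hom_ext
    apply LinearMap.ext
    intro x
    rw [stalkMap_apply, CategoryTheory.Functor.map_id, CategoryTheory.Functor.map_id]
    rfl
  map_comp φ ψ := by
    apply ModuleCat.hom_ext
    apply LinearMap.ext
    intro x
    rw [stalkMap_apply, Functor.map_comp, Functor.map_comp]
    rfl

theorem St_map_apply {F G : ModSite.Mod O} (φ : F ⟶ G) (x : ModSite.stalkMod p F) :
    ((St p).map φ).hom x =
      (p.sheafFiber.map ((SheafOfModules.toSheaf (ModSite.ringSh O)).map φ)).hom x := rfl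

theorem St_map_germ {F G : ModSite.Mod O} (φ : F ⟶ G) (X : C) (y : p.fiber.obj X)
    (s : ModSite.sect F X) :
    ((St p).map φ).hom (ModSite.germ p F X y s) = ModSite.germ p G X y (φ.val.app (op X) s) :=
  p.toPresheafFiber_naturality_apply ((SheafOfModules.toSheaf (ModSite.ringSh O)).map φ).hom X y s

/-- forgetting the module structure, the stalk functor is the fibre functor on underlying abelian sheaves. -/
noncomputable def StForgetIso :
    St p ⋙ forget₂ (ModuleCat.{u} (ModSite.stalkRing p O)) AddCommGrpCat.{u} ≅
      SheafOfModules.toSheaf (ModSite.ringSh O) ⋙ p.sheafFiber (A := AddCommGrpCat.{u}) :=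
  NatIso.ofComponents (fun F => Iso.refl _) (by
    intro F G φ
    exact (Category.comp_id _).trans (Eq.trans rfl (Category.id_comp _).symm))

instance : PreservesFiniteLimits (St (O := O) p) := by
  haveI : PreservesFiniteLimits (St (O := O) p ⋙ forget₂ (ModuleCat.{u} (ModSite.stalkRing p O)) AddCommGrpCat.{u}) :=
    preservesFiniteLimits_of_natIso (StForgetIso p).symm
  exact preservesFiniteLimits_of_reflects_of_preserves (St p)
    (forget₂ (ModuleCat.{u} (ModSite.stalkRing p O)) AddCommGrpCat.{u})

instance : PreservesFiniteColimits (St (O := O) p) := by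
  haveI : PreservesFiniteColimits (SheafOfModules.toSheaf.{u} (ModSite.ringSh O)) :=
    Groth.Agent.Lib.Helper21.FreeAb.toSheafR_preservesFiniteColimits _
  haveI : PreservesFiniteColimits (St (O := O) p ⋙ forget₂ (ModuleCat.{u} (ModSite.stalkRing p O)) AddCommGrpCat.{u}) :=
    preservesFiniteColimits_of_natIso (StForgetIso p).symm
  exact preservesFiniteColimits_of_reflects_of_preserves (St p)
    (forget₂ (ModuleCat.{u} (ModSite.stalkRing p O)) AddCommGrpCat.{u})

instance : (St (O := O) p).Additive :=
  haveI := preservesBinaryBiproducts_of_preservesBinaryProducts (St (O := O) p)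
  Functor.additive_of_preservesBinaryBiproducts _

end Groth.Agent.Lib.T2H6.StalkExt
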