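import Mathlib
import Groth.Agent.Lib.T2H6StalkExtA
import Groth.Agent.Lib.T2H8ModStalkFlat
set_option backward.isDefEq.respectTransparency.types false

/-!
# T2H6StalkExtB (helper6): pairings of sheaves of modules induce pairings of stalks

Namespace `Groth.Agent.Lib.T2H6.StalkExt`.

* `SecPairing A B D` : a family of `O(X)`-bilinear maps `A(X) × B(X) → D(X)` compatible with restriction.
* `pair p E : A_p → B_p → D_p`, `pair_germ`, bilinearity; `pairLin`.
-/

set_option autoImplicit false
set_option linter.style.haveILetI false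
universe u
open CategoryTheory CategoryTheory.Limits Opposite

namespace Groth.Agent.Lib.T2H6.StalkExt

open Groth.Agent.Lib.Helper21.StalkFlat Groth.Agent.Lib.T2H8.ModStalkFlat

variable {C : Type u} [SmallCategory C] {J : GrothendieckTopology C} {O : Sheaf J CommRingCat.{u}}
  (p : GrothendieckTopology.Point.{u} J)

/-- a family of bilinear maps on sections, compatible with restriction. -/
structure SecPairing (A B D : ModSite.Mod O) where
  e : ∀ X : C, ModSite.sect A X → ModSite.sect B X → ModSite.sect D X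
  add_left : ∀ (X : C) (a a' : ModSite.sect A X) (b : ModSite.sect B X),
    e X (a + a') b = e X a b + e X a' b
  add_right : ∀ (X : C) (a : ModSite.sect A X) (b b' : ModSite.sect B X),
    e X a (b + b') = e X a b + e X a b'
  smul_left : ∀ (X : C) (r : O.obj.obj (op X)) (a : ModSite.sect A X) (b : ModSite.sect B X),
    e X (r • a) b = r • e X a b
  smul_right : ∀ (X : C) (r : O.obj.obj (op X)) (a : ModSite.sect A X) (b : ModSite.sect B X),
    e X a (r • b) = r • e X a b
  res : ∀ {X W : C} (g : W ⟶ X) (a : ModSite.sect A X) (b : ModSite.sect B X),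
    D.val.map g.op (e X a b) = e W (A.val.map g.op a) (B.val.map g.op b)

variable {A B D : ModSite.Mod O}

theorem germ_add (H : ModSite.Mod O) (X : C) (x : p.fiber.obj X) (s s' : ModSite.sect H X) :
    ModSite.germ p H X x (s + s') = ModSite.germ p H X x s + ModSite.germ p H X x s' :=
  map_add (p.toPresheafFiber X x (ModSite.toAb H).obj).hom s s'

/-- every germ has a representative on a neighbourhood refining a given one. -/
theorem exists_rep_over (H : ModSite.Mod O) (X : C) (x : p.fiber.obj X) (σ : ModSite.stalkAb p H) :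
    ∃ (W : C) (g : W ⟶ X) (w : p.fiber.obj W), p.fiber.map g w = x ∧
      ∃ a : ModSite.sect H W, ModSite.germ p H W w a = σ := by
  obtain ⟨W, g, w, hw, -, x', -, hx'⟩ := exists_nbhd_reps p H (κ₁ := PEmpty.{1}) (κ₂ := PUnit.{1}) X x
    (fun i => i.elim) (fun _ => σ)
  exact ⟨W, g, w, hw, x' PUnit.unit, hx' PUnit.unit⟩

theorem germ_e_res (E : SecPairing A B D) {X W : C} (g : W ⟶ X) (w : p.fiber.obj W)
    (a : ModSite.sect A X) (b : ModSite.sect B X) :
    ModSite.germ p D W w (E.e W (A.val.map g.op a) (B.val.map g.op b)) =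
      ModSite.germ p D X (p.fiber.map g w) (E.e X a b) := by
  rw [← E.res]
  exact germ_w p D g w _

/-- the germ of `e(a, b)` only depends on the germs of `a` and `b` (same neighbourhood). -/
theorem germ_e_congr (E : SecPairing A B D) (X : C) (x : p.fiber.obj X)
    (a a' : ModSite.sect A X) (b b' : ModSite.sect B X)
    (ha : ModSite.germ p A X x a = ModSite.germ p A X x a')
    (hb : ModSite.germ p B X x b = ModSite.germ p B X x b') :
    ModSite.germ p D X x (E.e X a b) = ModSite.germ p D X x (E.e X a' b') := by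
  obtain ⟨W₁, g₁, w₁, hw₁, h₁⟩ := exists_refine_eq p A PUnit.{1} X x (fun _ => a) (fun _ => a')
    (fun _ => ha)
  have hb₁ : ModSite.germ p B W₁ w₁ (B.val.map g₁.op b) = ModSite.germ p B W₁ w₁ (B.val.map g₁.op b') := by
    rw [germ_w, germ_w, hw₁]
    exact hb
  obtain ⟨W₂, g₂, w₂, hw₂, h₂⟩ := exists_refine_eq p B PUnit.{1} W₁ w₁ (fun _ => B.val.map g₁.op b)
    (fun _ => B.val.map g₁.op b') (fun _ => hb₁)
  have e1 : ∀ (a₀ : ModSite.sect A X) (b₀ : ModSite.sect B X),
      ModSite.germ p D X x (E.e X a₀ b₀) =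
        ModSite.germ p D W₂ w₂ (E.e W₂ (A.val.map g₂.op (A.val.map g₁.op a₀))
          (B.val.map g₂.op (B.val.map g₁.op b₀))) := by
    intro a₀ b₀
    rw [germ_e_res, germ_e_res, hw₂, hw₁]
  rw [e1 a b, e1 a' b']
  have h₁' := h₁ PUnit.unit
  have h₂' := h₂ PUnit.unit
  simp only at h₁' h₂'
  rw [h₁', h₂']

/-- the germ of `e(a, b)` only depends on the germs of `a` and `b`. -/
theorem germ_e_congr' (E : SecPairing A B D) (X X' : C) (x : p.fiber.obj X) (x' : p.fiber.obj X')
    (a : ModSite.sect A X) (a' : ModSite.sect A X') (b : ModSite.sect B X) (b' : ModSite.sect B X')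
    (ha : ModSite.germ p A X x a = ModSite.germ p A X' x' a')
    (hb : ModSite.germ p B X x b = ModSite.germ p B X' x' b') :
    ModSite.germ p D X x (E.e X a b) = ModSite.germ p D X' x' (E.e X' a' b') := by
  let V := IsCofiltered.min (Functor.elementsMk p.fiber X x) (Functor.elementsMk p.fiber X' x')
  let g := IsCofiltered.minToLeft (Functor.elementsMk p.fiber X x) (Functor.elementsMk p.fiber X' x')
  let g' := IsCofiltered.minToRight (Functor.elementsMk p.fiber X x) (Functor.elementsMk p.fiber X' x')
  have hg : p.fiber.map g.1 V.2 = x := g.2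
  have hg' : p.fiber.map g'.1 V.2 = x' := g'.2
  have h1 : ModSite.germ p D X x (E.e X a b) =
      ModSite.germ p D V.1 V.2 (E.e V.1 (A.val.map g.1.op a) (B.val.map g.1.op b)) := by
    rw [germ_e_res, hg]
  have h2 : ModSite.germ p D X' x' (E.e X' a' b') =
      ModSite.germ p D V.1 V.2 (E.e V.1 (A.val.map g'.1.op a') (B.val.map g'.1.op b')) := by
    rw [germ_e_res, hg']
  rw [h1, h2]
  apply germ_e_congr
  · rw [germ_w, germ_w, hg, hg']
    exact ha
  · rw [germ_w, germ_w, hg, hg']
    exact hb

/-- common representatives of a pair of germs. -/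
structure Reps (A B : ModSite.Mod O) (σ : ModSite.stalkAb p A) (τ : ModSite.stalkAb p B) where
  W : C
  w : p.fiber.obj W
  a : ModSite.sect A W
  b : ModSite.sect B W
  ha : ModSite.germ p A W w a = σ
  hb : ModSite.germ p B W w b = τ

theorem nonempty_reps (σ : ModSite.stalkAb p A) (τ : ModSite.stalkAb p B) :
    Nonempty (Reps p A B σ τ) := by
  obtain ⟨X, x, a, rfl⟩ := p.toPresheafFiber_jointly_surjective (P := (ModSite.toAb A).obj) σ
  obtain ⟨W, g, w, hw, b, rfl⟩ := exists_rep_over p B X x τ
  refine ⟨⟨W, w, A.val.map g.op a, b, ?_, rfl⟩⟩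
  rw [germ_w, hw]

/-- chosen common representatives. -/
noncomputable def reps (σ : ModSite.stalkAb p A) (τ : ModSite.stalkAb p B) : Reps p A B σ τ :=
  (nonempty_reps p σ τ).some

/-- the pairing induced on stalks. -/
noncomputable def pair (E : SecPairing A B D) (σ : ModSite.stalkAb p A) (τ : ModSite.stalkAb p B) :
    ModSite.stalkAb p D :=
  ModSite.germ p D (reps p σ τ).W (reps p σ τ).w (E.e _ (reps p σ τ).a (reps p σ τ).b)

theorem pair_germ (E : SecPairing A B D) (W : C) (w : p.fiber.obj W) (a : ModSite.sect A W)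
    (b : ModSite.sect B W) :
    pair p E (ModSite.germ p A W w a) (ModSite.germ p B W w b) =
      ModSite.germ p D W w (E.e W a b) := by
  unfold pair
  exact germ_e_congr' p E _ _ _ _ _ _ _ _ (reps p _ _).ha (reps p _ _).hb

theorem pair_add_left (E : SecPairing A B D) (σ σ' : ModSite.stalkAb p A) (τ : ModSite.stalkAb p B) :
    pair p E (σ + σ') τ = pair p E σ τ + pair p E σ' τ := by
  obtain ⟨X, x, a, a', rfl, rfl⟩ :=
    p.toPresheafFiber_jointly_surjective₂ (P := (ModSite.toAb A).obj) σ σ'
  obtain ⟨W, g, w, hw, b, rfl⟩ := exists_rep_over p B X x τ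
  have h1 : ∀ s : ModSite.sect A X, (p.toPresheafFiber X x (ModSite.toAb A).obj).hom s =
      ModSite.germ p A W w (A.val.map g.op s) := by
    intro s
    rw [germ_w, hw]
  rw [h1 a, h1 a', ← germ_add, pair_germ, pair_germ, pair_germ, E.add_left, germ_add]

theorem pair_add_right (E : SecPairing A B D) (σ : ModSite.stalkAb p A) (τ τ' : ModSite.stalkAb p B) :
    pair p E σ (τ + τ') = pair p E σ τ + pair p E σ τ' := by
  obtain ⟨X, x, b, b', rfl, rfl⟩ :=
    p.toPresheafFiber_jointly_surjective₂ (P := (ModSite.toAb B).obj) τ τ'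
  obtain ⟨W, g, w, hw, a, rfl⟩ := exists_rep_over p A X x σ
  have h1 : ∀ s : ModSite.sect B X, (p.toPresheafFiber X x (ModSite.toAb B).obj).hom s =
      ModSite.germ p B W w (B.val.map g.op s) := by
    intro s
    rw [germ_w, hw]
  rw [h1 b, h1 b', ← germ_add, pair_germ, pair_germ, pair_germ, E.add_right, germ_add]

theorem pair_smul_left (E : SecPairing A B D) (r : ModSite.stalkRing p O) (σ : ModSite.stalkAb p A)
    (τ : ModSite.stalkAb p B) :
    pair p E (r • σ) τ = r • pair p E σ τ := by
  obtain ⟨X, x, b, rfl⟩ := p.toPresheafFiber_jointly_surjective (P := (ModSite.toAb B).obj) τ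
  obtain ⟨W, g, w, hw, r', a', hr', ha'⟩ := exists_nbhd_reps p A (κ₁ := PUnit.{1}) (κ₂ := PUnit.{1}) X x
    (fun _ => r) (fun _ => σ)
  have h1 : (p.toPresheafFiber X x (ModSite.toAb B).obj).hom b =
      ModSite.germ p B W w (B.val.map g.op b) := by
    rw [germ_w, hw]
  rw [h1, ← ha' PUnit.unit, ← hr' PUnit.unit, ← ModSite.germ_smul, pair_germ, pair_germ, E.smul_left,
    ModSite.germ_smul]

theorem pair_smul_right (E : SecPairing A B D) (r : ModSite.stalkRing p O) (σ : ModSite.stalkAb p A)
    (τ : ModSite.stalkAb p B) :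
    pair p E σ (r • τ) = r • pair p E σ τ := by
  obtain ⟨X, x, a, rfl⟩ := p.toPresheafFiber_jointly_surjective (P := (ModSite.toAb A).obj) σ
  obtain ⟨W, g, w, hw, r', b', hr', hb'⟩ := exists_nbhd_reps p B (κ₁ := PUnit.{1}) (κ₂ := PUnit.{1}) X x
    (fun _ => r) (fun _ => τ)
  have h1 : (p.toPresheafFiber X x (ModSite.toAb A).obj).hom a =
      ModSite.germ p A W w (A.val.map g.op a) := by
    rw [germ_w, hw]
  rw [h1, ← hb' PUnit.unit, ← hr' PUnit.unit, ← ModSite.germ_smul, pair_germ, pair_germ, E.smul_right,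
    ModSite.germ_smul]

/-- the pairing on stalks, as a linear map into morphisms of modules over the local ring. -/
noncomputable def pairLin (E : SecPairing A B D) :
    (St p).obj A →ₗ[ModSite.stalkRing p O] ((St p).obj B ⟶ (St p).obj D) where
  toFun σ := ModuleCat.ofHom
    { toFun := fun τ => pair p E σ τ
      map_add' := fun τ τ' => pair_add_right p E σ τ τ'
      map_smul' := fun r τ => pair_smul_right p E r σ τ }
  map_add' σ σ' := by
    apply ModuleCat.hom_ext
    apply LinearMap.ext
    intro τ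
    exact pair_add_left p E σ σ' τ
  map_smul' r σ := by
    apply ModuleCat.hom_ext
    apply LinearMap.ext
    intro τ
    exact pair_smul_left p E r σ τ

theorem pairLin_apply (E : SecPairing A B D) (σ : (St p).obj A) (τ : (St p).obj B) :
    (pairLin p E σ).hom τ = pair p E σ τ := rfl

end Groth.Agent.Lib.T2H6.StalkExt
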