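import Mathlib
import Groth.Agent.Lib.T2H6StalkExtB
import Groth.Agent.Lib.T2H6ExtSecB
set_option backward.isDefEq.respectTransparency.types false

/-!
# T2H6StalkExtC (helper6): the evaluation pairing `ℋom(L, Y)_p × L_p → Y_p` and the comparison
`ℋom(L, Y)_p → Hom(L_p, Y_p)`

Namespace `Groth.Agent.Lib.T2H6.StalkExt`.
-/

set_option autoImplicit false
set_option linter.style.haveILetI false
universe u
open CategoryTheory CategoryTheory.Limits Opposite MonoidalCategory

namespace Groth.Agent.Lib.T2H6.StalkExt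

open Groth.Agent.Lib.Helper21 Groth.Agent.Lib.Helper21.ModTensor2 Groth.Agent.Lib.Helper21.ModTensor3
  Groth.Agent.Lib.Helper21.ModTensor5 Groth.Agent.Lib.Helper21.ModTensor6
  Groth.Agent.Lib.Helper21.ModTensor7 Groth.Agent.Lib.T2H6.LocGlob Groth.Agent.Lib.T2H9.ShHom
  Groth.Agent.Lib.T2H6.ExtSec

attribute [local instance] Groth.Agent.Lib.Helper21.ExtShDelta.hasSheafHom

variable {C : Type u} [SmallCategory C] {J : GrothendieckTopology C} (O : Sheaf J CommRingCat.{u})

/-- `tmS` is compatible with restriction. -/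
theorem tmS_res (H L : ModSite.Mod O) {X X' : Cᵒᵖ} (g : X ⟶ X') (s : ((fgt O).obj H).obj X)
    (t : ((fgt O).obj L).obj X) :
    ((fgt O).obj ((tR O L).obj H)).map g (tmS O H L X s t) =
      tmS O H L X' (((fgt O).obj H).map g s) (((fgt O).obj L).map g t) := by
  unfold tmS
  have h := PresheafOfModules.naturality_apply (eta O ((fgt O).obj H ⊗ (fgt O).obj L : PM O)) g
    (ptm ((fgt O).obj H) ((fgt O).obj L) X s t)
  exact h.symm

/-- `evS` is compatible with restriction. -/
theorem evS_res (L Y : ModSite.Mod O) {X X' : Cᵒᵖ} (g : X ⟶ X')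
    (s : ((fgt O).obj ((ModSite.sheafHom L).obj Y)).obj X) (t : ((fgt O).obj L).obj X) :
    ((fgt O).obj Y).map g (evS O L Y X s t) =
      evS O L Y X' (((fgt O).obj ((ModSite.sheafHom L).obj Y)).map g s) (((fgt O).obj L).map g t) := by
  unfold evS
  rw [← tmS_res]
  exact (PresheafOfModules.naturality_apply ((fgt O).map ((ModSite.sheafHomAdj L).counit.app Y)) g _).symm

theorem evS_add_left (L Y : ModSite.Mod O) (X : Cᵒᵖ)
    (s s' : ((fgt O).obj ((ModSite.sheafHom L).obj Y)).obj X) (t : ((fgt O).obj L).obj X) :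
    evS O L Y X (s + s') t = evS O L Y X s t + evS O L Y X s' t := by
  unfold evS
  rw [tmS_add_left]
  exact map_add _ _ _

theorem evS_add_right (L Y : ModSite.Mod O) (X : Cᵒᵖ)
    (s : ((fgt O).obj ((ModSite.sheafHom L).obj Y)).obj X) (t t' : ((fgt O).obj L).obj X) :
    evS O L Y X s (t + t') = evS O L Y X s t + evS O L Y X s t' := by
  unfold evS
  rw [tmS_add_right]
  exact map_add _ _ _

theorem evS_smul_right (L Y : ModSite.Mod O) (X : Cᵒᵖ) (a : (O.obj ⋙ forget₂ CommRingCat RingCat).obj X)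
    (s : ((fgt O).obj ((ModSite.sheafHom L).obj Y)).obj X) (t : ((fgt O).obj L).obj X) :
    evS O L Y X s (a • t) = a • evS O L Y X s t := by
  unfold evS
  rw [tmS_smul_right]
  exact map_smul _ _ _

/-- `tmS` is natural in the second variable. -/
theorem tL_map_tmS (H : ModSite.Mod O) {L' L : ModSite.Mod O} (u : L' ⟶ L) (X : Cᵒᵖ)
    (s : ((fgt O).obj H).obj X) (t : ((fgt O).obj L').obj X) :
    ((fgt O).map (((ModSite.tensorBi O).flip.map u).app H)).app X (tmS O H L' X s t) =
      tmS O H L X s (((fgt O).map u).app X t) := by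
  unfold tmS
  have h := eta_nat O ((fgt O).obj H ◁ (fgt O).map u : ((fgt O).obj H ⊗ (fgt O).obj L' : PM O) ⟶ _)
  have h2 := congrArg (fun k => (k.app X) (ptm ((fgt O).obj H) ((fgt O).obj L') X s t)) h
  exact h2.symm

/-- dinaturality of the evaluation pairing. -/
theorem evS_dinat {L' L : ModSite.Mod O} (u : L' ⟶ L) (Y : ModSite.Mod O) (X : Cᵒᵖ)
    (s : ((fgt O).obj ((ModSite.sheafHom L).obj Y)).obj X) (t : ((fgt O).obj L').obj X) :
    evS O L' Y X (((fgt O).map ((ExtSupp.sheafHomMap u).app Y)).app X s) t =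
      evS O L Y X s (((fgt O).map u).app X t) := by
  unfold evS
  rw [← tR_map_tmS, ← tL_map_tmS]
  have h := conjugateEquiv_counit (ModSite.sheafHomAdj L) (ModSite.sheafHomAdj L')
    ((ModSite.tensorBi O).flip.map u) Y
  have h2 := congrArg (fun k => (((fgt O).map k).app X)
    (tmS O ((ModSite.sheafHom L).obj Y) L' X s t)) h
  simp only [Functor.map_comp] at h2
  exact h2

variable {O}

/-- the evaluation pairing as a `SecPairing`. -/
noncomputable def evPairing (L Y : ModSite.Mod O) : SecPairing ((ModSite.sheafHom L).obj Y) L Y where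
  e X a b := evS O L Y (op X) a b
  add_left X a a' b := evS_add_left O L Y (op X) a a' b
  add_right X a b b' := evS_add_right O L Y (op X) a b b'
  smul_left X r a b := evS_smul O L Y (op X) r a b
  smul_right X r a b := evS_smul_right O L Y (op X) r a b
  res g a b := evS_res O L Y g.op a b

variable (p : GrothendieckTopology.Point.{u} J)

/-- the comparison `ℋom(L, Y)_p → Hom(L_p, Y_p)`. -/
noncomputable def nuSt (L Y : ModSite.Mod O) :
    (St p).obj ((ModSite.sheafHom L).obj Y) →ₗ[ModSite.stalkRing p O] ((St p).obj L ⟶ (St p).obj Y) :=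
  pairLin p (evPairing L Y)

theorem nuSt_germ (L Y : ModSite.Mod O) (W : C) (w : p.fiber.obj W)
    (a : ModSite.sect ((ModSite.sheafHom L).obj Y) W) (b : ModSite.sect L W) :
    (nuSt p L Y (ModSite.germ p ((ModSite.sheafHom L).obj Y) W w a)).hom (ModSite.germ p L W w b) =
      ModSite.germ p Y W w (evS O L Y (op W) a b) :=
  pair_germ p (evPairing L Y) W w a b

/-- `nuSt` is natural in the first variable. -/
theorem nuSt_naturality_left {L' L : ModSite.Mod O} (u : L' ⟶ L) (Y : ModSite.Mod O)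
    (σ : (St p).obj ((ModSite.sheafHom L).obj Y)) :
    nuSt p L' Y (((St p).map ((ExtSupp.sheafHomMap u).app Y)).hom σ) =
      (St p).map u ≫ nuSt p L Y σ := by
  apply ModuleCat.hom_ext
  apply LinearMap.ext
  intro τ
  obtain ⟨r⟩ := nonempty_reps p (A := (ModSite.sheafHom L).obj Y) (B := L') σ τ
  obtain ⟨W, w, a, b, rfl, rfl⟩ := r
  rw [ModuleCat.hom_comp, LinearMap.comp_apply, St_map_germ, St_map_germ, nuSt_germ, nuSt_germ]
  congr 1
  exact evS_dinat O u Y (op W) a b

end Groth.Agent.Lib.T2H6.StalkExt
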