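import Mathlib
import Groth.Agent.Lib.T2H6StalkExtC
set_option backward.isDefEq.respectTransparency.types false

/-!
# T2H6StalkExtD (helper6): the stalk of the structure sheaf; `ℋom(O, Y)_p → Hom(O_p, Y_p)` is bijective
-/

set_option autoImplicit false
set_option linter.style.haveILetI false
universe u
open CategoryTheory CategoryTheory.Limits Opposite MonoidalCategory

namespace Groth.Agent.Lib.T2H6.StalkExt

open Groth.Agent.Lib.Helper21 Groth.Agent.Lib.Helper21.ModTensor2 Groth.Agent.Lib.Helper21.ModTensor3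
  Groth.Agent.Lib.Helper21.ModTensor5 Groth.Agent.Lib.Helper21.ModTensor6
  Groth.Agent.Lib.Helper21.ModTensor7 Groth.Agent.Lib.T2H6.LocGlob Groth.Agent.Lib.T2H9.ShHom
  Groth.Agent.Lib.T2H6.ExtSec Groth.Agent.Lib.Helper21.ExtShDelta
  Groth.Agent.Lib.Helper21.StalkFlat Groth.Agent.Lib.T2H8.ModStalkFlat

attribute [local instance] Groth.Agent.Lib.Helper21.ExtShDelta.hasSheafHom

variable {C : Type u} [SmallCategory C] {J : GrothendieckTopology C} (O : Sheaf J CommRingCat.{u})

/-- the braiding exchanges the factors of `tmS`. -/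
theorem brdApp_tmS (A B : ModSite.Mod O) (X : Cᵒᵖ) (a : ((fgt O).obj A).obj X) (b : ((fgt O).obj B).obj X) :
    ((fgt O).map (brdApp O A B).hom).app X (tmS O A B X a b) = tmS O B A X b a := by
  unfold tmS
  have h := eta_nat O (β_ ((fgt O).obj A : PM O) ((fgt O).obj B)).hom
  have h2 := congrArg (fun k => (k.app X) (ptm ((fgt O).obj A) ((fgt O).obj B) X a b)) h
  exact h2.symm

/-- the isomorphism `ℋom(O, Y) ≅ Y` in terms of the counit of the tensor-hom adjunction. -/
theorem sheafHomUnitIso_hom_app (Y : ModSite.Mod O) :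
    (sheafHomUnitIso O).hom.app Y =
      (lu O ((ModSite.sheafHom (ModSite.unit O)).obj Y)).inv ≫
        (brdApp O (ModSite.unit O) ((ModSite.sheafHom (ModSite.unit O)).obj Y)).hom ≫
          (ModSite.sheafHomAdj (ModSite.unit O)).counit.app Y := by
  let e : tR O (ModSite.unit O) ≅ 𝟭 (ModSite.Mod O) :=
    ((brd O).app (ModSite.unit O)).symm ≪≫ tLUnitIso O
  have h1 := Adjunction.rightAdjointUniq_hom_app_counit (ModSite.sheafHomAdj (ModSite.unit O))
    (Adjunction.id.ofNatIsoLeft e.symm) Y
  have h2 : (Adjunction.id.ofNatIsoLeft e.symm).counit.app Y = e.hom.app Y := by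
    simp [Adjunction.ofNatIsoLeft]
  have h3 := e.hom.naturality ((sheafHomUnitIso O).hom.app Y)
  have h4 : (tR O (ModSite.unit O)).map ((sheafHomUnitIso O).hom.app Y) ≫ e.hom.app Y =
      (ModSite.sheafHomAdj (ModSite.unit O)).counit.app Y := by
    rw [← h2]
    exact h1
  have h5 : e.hom.app ((ModSite.sheafHom (ModSite.unit O)).obj Y) ≫ (sheafHomUnitIso O).hom.app Y =
      (ModSite.sheafHomAdj (ModSite.unit O)).counit.app Y := by
    rw [← h4]
    exact h3.symm
  have h6 : (sheafHomUnitIso O).hom.app Y =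
      e.inv.app ((ModSite.sheafHom (ModSite.unit O)).obj Y) ≫
        (ModSite.sheafHomAdj (ModSite.unit O)).counit.app Y := by
    rw [← h5, Iso.inv_hom_id_app_assoc]
  rw [h6]
  have h7 : e.inv.app ((ModSite.sheafHom (ModSite.unit O)).obj Y) =
      (lu O ((ModSite.sheafHom (ModSite.unit O)).obj Y)).inv ≫
        (brdApp O (ModSite.unit O) ((ModSite.sheafHom (ModSite.unit O)).obj Y)).hom := rfl
  rw [h7, Category.assoc]

/-- on sections, `ℋom(O, Y) ≅ Y` is evaluation at `1`. -/
theorem sheafHomUnitIso_hom_app_apply (Y : ModSite.Mod O) (X : Cᵒᵖ)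
    (s : ((fgt O).obj ((ModSite.sheafHom (ModSite.unit O)).obj Y)).obj X) :
    ((fgt O).map ((sheafHomUnitIso O).hom.app Y)).app X s =
      evS O (ModSite.unit O) Y X s (1 : (O.obj ⋙ forget₂ CommRingCat RingCat).obj X) := by
  rw [sheafHomUnitIso_hom_app, Functor.map_comp, Functor.map_comp]
  change ((fgt O).map ((ModSite.sheafHomAdj (ModSite.unit O)).counit.app Y)).app X
    (((fgt O).map (brdApp O (ModSite.unit O) ((ModSite.sheafHom (ModSite.unit O)).obj Y)).hom).app X
      (((fgt O).map (lu O ((ModSite.sheafHom (ModSite.unit O)).obj Y)).inv).app X s)) = _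
  rw [lu_inv_app, brdApp_tmS]
  rfl

variable {O} (p : GrothendieckTopology.Point.{u} J)

/-- the section `1` of the structure sheaf. -/
noncomputable def oneSec (X : C) : ModSite.sect (ModSite.unit O) X := (1 : O.obj.obj (op X))

theorem map_oneSec {X W : C} (g : W ⟶ X) :
    (ModSite.unit O).val.map g.op (oneSec (O := O) X) = oneSec W :=
  map_one (O.obj.map g.op).hom

/-- a section of the structure sheaf, as an element of the ring of sections. -/
def toRing (X : C) (c : ModSite.sect (ModSite.unit O) X) : O.obj.obj (op X) := c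

theorem sec_eq_smul_oneSec (X : C) (c : ModSite.sect (ModSite.unit O) X) :
    c = toRing X c • oneSec (O := O) X := by
  change toRing X c = toRing X c * 1
  rw [mul_one]

/-- a chosen neighbourhood of the point. -/
noncomputable def nbhd₀ : p.fiber.Elements := (IsCofiltered.nonempty (C := p.fiber.Elements)).some

/-- the germ of `1`. -/
noncomputable def oneSt : ModSite.stalkAb p (ModSite.unit O) :=
  ModSite.germ p (ModSite.unit O) (nbhd₀ p).1 (nbhd₀ p).2 (oneSec _)

theorem germ_oneSec (W : C) (w : p.fiber.obj W) :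
    ModSite.germ p (ModSite.unit O) W w (oneSec W) = oneSt p := by
  let V := IsCofiltered.min (Functor.elementsMk p.fiber W w) (nbhd₀ p)
  let g := IsCofiltered.minToLeft (Functor.elementsMk p.fiber W w) (nbhd₀ p)
  let g' := IsCofiltered.minToRight (Functor.elementsMk p.fiber W w) (nbhd₀ p)
  have hg : p.fiber.map g.1 V.2 = w := g.2
  have hg' : p.fiber.map g'.1 V.2 = (nbhd₀ p).2 := g'.2
  have h1 : ModSite.germ p (ModSite.unit O) W w (oneSec W) =
      ModSite.germ p (ModSite.unit O) V.1 V.2 (oneSec V.1) := by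
    rw [← map_oneSec g.1, germ_w, hg]
  have h2 : oneSt p = ModSite.germ p (ModSite.unit O) V.1 V.2 (oneSec V.1) := by
    unfold oneSt
    rw [← map_oneSec g'.1, germ_w, hg']
  rw [h1, h2]

theorem germ_eq_smul_oneSt (X : C) (x : p.fiber.obj X) (c : ModSite.sect (ModSite.unit O) X) :
    ModSite.germ p (ModSite.unit O) X x c =
      ModSite.germRing p X x (toRing X c) • oneSt p := by
  conv_lhs => rw [sec_eq_smul_oneSec X c]
  rw [ModSite.germ_smul, germ_oneSec]

/-- morphisms out of `O_p` are determined by the image of `1`. -/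
theorem hom_ext_oneSt {M : ModuleCat.{u} (ModSite.stalkRing p O)}
    (ψ ψ' : (St p).obj (ModSite.unit O) ⟶ M) (h : ψ.hom (oneSt p) = ψ'.hom (oneSt p)) : ψ = ψ' := by
  apply ModuleCat.hom_ext
  apply LinearMap.ext
  intro τ
  obtain ⟨X, x, c, rfl⟩ := p.toPresheafFiber_jointly_surjective (P := (ModSite.toAb (ModSite.unit O)).obj) τ
  have h1 := germ_eq_smul_oneSt p X x c
  change ψ.hom (ModSite.germ p (ModSite.unit O) X x c) = ψ'.hom (ModSite.germ p (ModSite.unit O) X x c)
  rw [h1]
  exact (ψ.hom.map_smul _ _).trans ((congrArg _ h).trans (ψ'.hom.map_smul _ _).symm)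

theorem nuSt_unit_oneSt (Y : ModSite.Mod O) (σ : (St p).obj ((ModSite.sheafHom (ModSite.unit O)).obj Y)) :
    (nuSt p (ModSite.unit O) Y σ).hom (oneSt p) =
      ((St p).map ((sheafHomUnitIso O).hom.app Y)).hom σ := by
  obtain ⟨W, w, a, rfl⟩ := p.toPresheafFiber_jointly_surjective
    (P := (ModSite.toAb ((ModSite.sheafHom (ModSite.unit O)).obj Y)).obj) σ
  change (nuSt p (ModSite.unit O) Y (ModSite.germ p _ W w a)).hom (oneSt p) =
    ((St p).map ((sheafHomUnitIso O).hom.app Y)).hom (ModSite.germ p _ W w a)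
  rw [← germ_oneSec p W w, nuSt_germ, St_map_germ]
  congr 1
  exact (sheafHomUnitIso_hom_app_apply O Y (op W) a).symm

/-- `ℋom(O, Y)_p → Hom(O_p, Y_p)` is bijective. -/
theorem nuSt_unit_bijective (Y : ModSite.Mod O) : Function.Bijective (nuSt p (ModSite.unit O) Y) := by
  have hφ : Function.Bijective ((St p).map ((sheafHomUnitIso O).hom.app Y)).hom :=
    ((St p).mapIso ((sheafHomUnitIso O).app Y)).toLinearEquiv.bijective
  constructor
  · intro σ σ' h
    apply hφ.1
    rw [← nuSt_unit_oneSt, ← nuSt_unit_oneSt, h]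
  · intro ψ
    obtain ⟨σ, hσ⟩ := hφ.2 (ψ.hom (oneSt p))
    refine ⟨σ, hom_ext_oneSt p _ _ ?_⟩
    rw [nuSt_unit_oneSt, hσ]

/-- `O_p` as a module over itself is the stalk of the structure sheaf. -/
theorem nonempty_linearEquiv_St_unit :
    Nonempty (ModSite.stalkRing p O ≃ₗ[ModSite.stalkRing p O] (St p).obj (ModSite.unit O)) := by
  let f : ModSite.stalkRing p O →ₗ[ModSite.stalkRing p O] (St p).obj (ModSite.unit O) :=
    LinearMap.toSpanSingleton _ _ (oneSt p)
  have hf : ∀ r, f r = r • oneSt p := fun r => rfl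
  refine ⟨LinearEquiv.ofBijective f ⟨?_, ?_⟩⟩
  · rw [injective_iff_map_eq_zero]
    intro r hr
    obtain ⟨X, x, c, rfl⟩ := p.toPresheafFiber_jointly_surjective (P := O.obj) r
    rw [hf] at hr
    have h1 := germ_eq_smul_oneSt p X x (show ModSite.sect (ModSite.unit O) X from c)
    have h2 : ModSite.germ p (ModSite.unit O) X x (show ModSite.sect (ModSite.unit O) X from c) = 0 :=
      h1.trans hr
    obtain ⟨X', h, y', hy', hz⟩ := toPresheafFiber_eq_zero p (ModSite.toAb (ModSite.unit O)).obj X x _ h2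
    have h3 : (O.obj.map h.op).hom c = 0 := hz
    have h4 := germRing_w p h y' c
    rw [hy'] at h4
    change ModSite.germRing p X x c = 0
    rw [← h4, h3]
    exact germRing_zero p X' y'
  · intro τ
    obtain ⟨X, x, c, rfl⟩ := p.toPresheafFiber_jointly_surjective (P := (ModSite.toAb (ModSite.unit O)).obj) τ
    exact ⟨_, (hf _).trans (germ_eq_smul_oneSt p X x c).symm⟩

theorem projective_St_unit : Projective ((St p).obj (ModSite.unit O)) := by
  obtain ⟨e⟩ := nonempty_linearEquiv_St_unit (O := O) p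
  have h1 : Module.Projective (ModSite.stalkRing p O) ((St p).obj (ModSite.unit O)) :=
    Module.Projective.of_equiv e
  exact (IsProjective.iff_projective (R := ModSite.stalkRing p O)
    (P := (St p).obj (ModSite.unit O))).1 h1

end Groth.Agent.Lib.T2H6.StalkExt
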