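import Mathlib
import Groth.Agent.Lib.T2H6StalkExtD
import Groth.Agent.Lib.T2H6ExtSecE
set_option backward.isDefEq.respectTransparency.types false

/-!
# T2H6StalkExtE (helper6): generic lemmas on contravariant δ-functors and on the comparison `nuSt`

* `CoDelta.post` : a contravariant δ-functor followed by an exact functor.
* `CoDelta.isIso_map_of_isZero` : `E^p(f)` is an isomorphism if `E^q` vanishes on the kernel and the cokernel of `f`.
* `isIso_map_of_isZero_ker_coker` : an exact functor inverts `f` if it kills its kernel and cokernel.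
* `shmHom`, `nuSt_bijective_of_sum`.
-/

set_option autoImplicit false
set_option linter.style.haveILetI false
universe u
open CategoryTheory CategoryTheory.Limits Opposite

namespace Groth.Agent.Lib.T2H6.StalkExt

open Groth.Agent.Lib.Helper21.CoDeltaLib

section Generic

universe v₁ u₁ v₂ u₂ v₃ u₃
variable {𝒜 : Type u₁} [Category.{v₁} 𝒜] [Abelian 𝒜] {𝒟 : Type u₂} [Category.{v₂} 𝒟] [Abelian 𝒟]
  {𝒟' : Type u₃} [Category.{v₃} 𝒟'] [Abelian 𝒟']

/-- a contravariant δ-functor followed by an exact functor. -/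
noncomputable def post (Δ : CoDelta 𝒜 𝒟) (T : 𝒟 ⥤ 𝒟') [T.Additive] [PreservesFiniteLimits T]
    [PreservesFiniteColimits T] : CoDelta 𝒜 𝒟' where
  E p M := T.obj (Δ.E p M)
  map p {_ _} u := T.map (Δ.map p u)
  map_comp p {_ _ _} u v := by rw [Δ.map_comp, T.map_comp]
  mono_zero S hS := by
    haveI := Δ.mono_zero S hS
    infer_instance
  exact₂ S hS p := by
    obtain ⟨w, h⟩ := Δ.exact₂ S hS p
    exact ⟨by rw [← T.map_comp, w, T.map_zero], h.map T⟩
  δ S hS p := T.map (Δ.δ S hS p)
  exact₃ S hS p := by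
    obtain ⟨w, h⟩ := Δ.exact₃ S hS p
    exact ⟨by rw [← T.map_comp, w, T.map_zero], h.map T⟩
  exact₁ S hS p := by
    obtain ⟨w, h⟩ := Δ.exact₁ S hS p
    exact ⟨by rw [← T.map_comp, w, T.map_zero], h.map T⟩

theorem isIso_of_exact_of_isZero {A B C₀ C₁ : 𝒟} (f : A ⟶ B) (a : C₀ ⟶ A) (b : B ⟶ C₁)
    (w₁ : a ≫ f = 0) (h₁ : (ShortComplex.mk a f w₁).Exact) (w₂ : f ≫ b = 0)
    (h₂ : (ShortComplex.mk f b w₂).Exact) (z₀ : IsZero C₀) (z₁ : IsZero C₁) : IsIso f := by
  haveI : Mono f := (ShortComplex.exact_iff_mono _ (z₀.eq_of_src _ _)).1 h₁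
  haveI : Epi f := (ShortComplex.exact_iff_epi _ (z₁.eq_of_tgt _ _)).1 h₂
  exact isIso_of_mono_of_epi f

/-- `E^p(g)` is an isomorphism for an epimorphism `g` whose kernel is `E`-acyclic in all degrees. -/
theorem isIso_map_of_epi (Δ : CoDelta 𝒜 𝒟) {A B : 𝒜} (g : A ⟶ B) [Epi g]
    (hK : ∀ q, IsZero (Δ.E q (kernel g))) (p : ℕ) : IsIso (Δ.map p g) := by
  have hS : (ShortComplex.mk (kernel.ι g) g (kernel.condition g)).ShortExact :=
    ShortComplex.ShortExact.mk' (ShortComplex.exact_of_f_is_kernel _ (kernelIsKernel g))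
      (inferInstanceAs (Mono (kernel.ι g))) (inferInstanceAs (Epi g))
  obtain ⟨w₂, h₂⟩ := Δ.exact₂ _ hS p
  haveI : Epi (Δ.map p g) := (ShortComplex.exact_iff_epi _ ((hK p).eq_of_tgt _ _)).1 h₂
  haveI : Mono (Δ.map p g) := by
    cases p with
    | zero => exact Δ.mono_zero _ hS
    | succ p =>
      obtain ⟨w₁, h₁⟩ := Δ.exact₁ _ hS p
      exact (ShortComplex.exact_iff_mono _ ((hK p).eq_of_src _ _)).1 h₁
  exact isIso_of_mono_of_epi _

/-- `E^p(m)` is an isomorphism for a monomorphism `m` whose cokernel is `E`-acyclic in all degrees. -/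
theorem isIso_map_of_mono (Δ : CoDelta 𝒜 𝒟) {A B : 𝒜} (m : A ⟶ B) [Mono m]
    (hQ : ∀ q, IsZero (Δ.E q (cokernel m))) (p : ℕ) : IsIso (Δ.map p m) := by
  have hS : (ShortComplex.mk m (cokernel.π m) (cokernel.condition m)).ShortExact :=
    ShortComplex.ShortExact.mk' (ShortComplex.exact_of_g_is_cokernel _ (cokernelIsCokernel m))
      (inferInstanceAs (Mono m)) (inferInstanceAs (Epi (cokernel.π m)))
  obtain ⟨w₂, h₂⟩ := Δ.exact₂ _ hS p
  obtain ⟨w₃, h₃⟩ := Δ.exact₃ _ hS p
  haveI : Mono (Δ.map p m) := (ShortComplex.exact_iff_mono _ ((hQ p).eq_of_src _ _)).1 h₂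
  haveI : Epi (Δ.map p m) := (ShortComplex.exact_iff_epi _ ((hQ (p + 1)).eq_of_tgt _ _)).1 h₃
  exact isIso_of_mono_of_epi _

/-- `E^p(f)` is an isomorphism if `E^q` vanishes on the kernel and the cokernel of `f` for all `q`. -/
theorem isIso_map_of_isZero (Δ : CoDelta 𝒜 𝒟) {A B : 𝒜} (f : A ⟶ B)
    (hK : ∀ q, IsZero (Δ.E q (kernel f))) (hQ : ∀ q, IsZero (Δ.E q (cokernel f))) (p : ℕ) :
    IsIso (Δ.map p f) := by
  let e : A ⟶ Abelian.image f := Abelian.factorThruImage f
  let m : Abelian.image f ⟶ B := Abelian.image.ι f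
  have hf : e ≫ m = f := Abelian.image.fac f
  haveI : Epi e := inferInstanceAs (Epi (Abelian.factorThruImage f))
  haveI : Mono m := inferInstanceAs (Mono (Abelian.image.ι f))
  -- kernel of `e` is the kernel of `f`
  have hKe : ∀ q, IsZero (Δ.E q (kernel e)) := by
    intro q
    let i : kernel e ≅ kernel f :=
      { hom := kernel.lift f (kernel.ι e) (by
          have h0 : kernel.ι e ≫ (e ≫ m) = 0 := by rw [kernel.condition_assoc, zero_comp]
          rwa [hf] at h0)
        inv := kernel.lift e (kernel.ι f) (by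
          rw [← cancel_mono m, Category.assoc, hf, kernel.condition, zero_comp])
        hom_inv_id := by
          rw [← cancel_mono (kernel.ι e)]
          simp
        inv_hom_id := by
          rw [← cancel_mono (kernel.ι f)]
          simp }
    exact Δ.isZero_E_of_iso i.symm q (hK q)
  have hQm : ∀ q, IsZero (Δ.E q (cokernel m)) := by
    intro q
    let i : cokernel m ≅ cokernel f :=
      { hom := cokernel.desc m (cokernel.π f) (by
          rw [← cancel_epi e, ← Category.assoc, hf, cokernel.condition, comp_zero])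
        inv := cokernel.desc f (cokernel.π m) (by
          have h0 : (e ≫ m) ≫ cokernel.π m = 0 := by rw [Category.assoc, cokernel.condition, comp_zero]
          rwa [hf] at h0)
        hom_inv_id := by
          rw [← cancel_epi (cokernel.π m)]
          simp
        inv_hom_id := by
          rw [← cancel_epi (cokernel.π f)]
          simp }
    exact Δ.isZero_E_of_iso i.symm q (hQ q)
  haveI := isIso_map_of_epi Δ e hKe p
  haveI := isIso_map_of_mono Δ m hQm p
  have h : Δ.map p f = Δ.map p m ≫ Δ.map p e := by rw [← Δ.map_comp, hf]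
  rw [h]
  infer_instance

/-- an exact functor inverts a morphism if it kills its kernel and its cokernel. -/
theorem isIso_map_of_isZero_ker_coker (T : 𝒜 ⥤ 𝒟) [T.Additive] [PreservesFiniteLimits T]
    [PreservesFiniteColimits T] {A B : 𝒜} (f : A ⟶ B) (hK : IsZero (T.obj (kernel f)))
    (hQ : IsZero (T.obj (cokernel f))) : IsIso (T.map f) := by
  haveI : Mono (T.map f) := by
    have e : T.obj (kernel f) ≅ kernel (T.map f) := PreservesKernel.iso T f
    exact Preadditive.mono_of_isZero_kernel _ (hK.of_iso e.symm)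
  haveI : Epi (T.map f) := by
    have e : T.obj (cokernel f) ≅ cokernel (T.map f) := PreservesCokernel.iso T f
    exact Preadditive.epi_of_isZero_cokernel _ (hQ.of_iso e.symm)
  exact isIso_of_mono_of_epi _

end Generic

section Sum

open Groth.Agent.Lib.Helper21.ModTensor3 Groth.Agent.Lib.Helper21.ModTensor5
  Groth.Agent.Lib.Helper21.ExtShDelta

attribute [local instance] Groth.Agent.Lib.Helper21.ExtShDelta.hasSheafHom

variable {C : Type u} [SmallCategory C] {J : GrothendieckTopology C} {O : Sheaf J CommRingCat.{u}}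

theorem sheafHomMap_app_add {M L : ModSite.Mod O} (u v : M ⟶ L) (Y : ModSite.Mod O) :
    (ExtSupp.sheafHomMap (u + v)).app Y =
      (ExtSupp.sheafHomMap u).app Y + (ExtSupp.sheafHomMap v).app Y := by
  unfold ExtSupp.sheafHomMap
  rw [conjugateEquiv_apply_app, conjugateEquiv_apply_app, conjugateEquiv_apply_app]
  have h : ((ModSite.tensorBi O).flip.map (u + v)).app ((ModSite.sheafHom L).obj Y) =
      ((ModSite.tensorBi O).flip.map u).app ((ModSite.sheafHom L).obj Y) +
        ((ModSite.tensorBi O).flip.map v).app ((ModSite.sheafHom L).obj Y) :=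
    (tL O ((ModSite.sheafHom L).obj Y)).map_add
  rw [h, Functor.map_add, Preadditive.add_comp, Preadditive.comp_add]

/-- `u ↦ ℋom(u, Y)` as an additive map. -/
noncomputable def shmHom (M L Y : ModSite.Mod O) :
    (M ⟶ L) →+ ((ModSite.sheafHom L).obj Y ⟶ (ModSite.sheafHom M).obj Y) :=
  AddMonoidHom.mk' (fun u => (ExtSupp.sheafHomMap u).app Y) (fun u v => sheafHomMap_app_add u v Y)

theorem shmHom_apply (M L Y : ModSite.Mod O) (u : M ⟶ L) :
    shmHom M L Y u = (ExtSupp.sheafHomMap u).app Y := rfl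

theorem sheafHomMap_id_app (L Y : ModSite.Mod O) :
    (ExtSupp.sheafHomMap (𝟙 L)).app Y = 𝟙 _ := by
  unfold ExtSupp.sheafHomMap
  rw [CategoryTheory.Functor.map_id, conjugateEquiv_id]
  rfl

theorem sheafHomMap_comp_app {M'' M' M : ModSite.Mod O} (u : M'' ⟶ M') (v : M' ⟶ M) (Y : ModSite.Mod O) :
    (ExtSupp.sheafHomMap (u ≫ v)).app Y =
      (ExtSupp.sheafHomMap v).app Y ≫ (ExtSupp.sheafHomMap u).app Y := by
  rw [sheafHomMap_comp', NatTrans.comp_app]

variable (p : GrothendieckTopology.Point.{u} J)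

/-- `nuSt` is bijective for a retract of a finite sum of modules for which it is bijective. -/
theorem nuSt_bijective_of_sum {b : ℕ} (L : ModSite.Mod O) (M : Fin b → ModSite.Mod O)
    (ι : ∀ i, M i ⟶ L) (π : ∀ i, L ⟶ M i) (hsum : ∑ i, π i ≫ ι i = 𝟙 L) (Y : ModSite.Mod O)
    (hM : ∀ i, Function.Bijective (nuSt p (M i) Y)) : Function.Bijective (nuSt p L Y) := by
  have hid : ∀ σ : (St p).obj ((ModSite.sheafHom L).obj Y),
      σ = ∑ i, ((St p).map ((ExtSupp.sheafHomMap (π i)).app Y)).hom
        (((St p).map ((ExtSupp.sheafHomMap (ι i)).app Y)).hom σ) := by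
    intro σ
    have h1 : (ExtSupp.sheafHomMap (𝟙 L)).app Y =
        ∑ i, (ExtSupp.sheafHomMap (ι i)).app Y ≫ (ExtSupp.sheafHomMap (π i)).app Y := by
      rw [← hsum, ← shmHom_apply, map_sum]
      refine Finset.sum_congr rfl (fun i _ => ?_)
      rw [shmHom_apply, sheafHomMap_comp_app]
    rw [sheafHomMap_id_app] at h1
    have h2 := congrArg (fun k => ((St p).map k).hom σ) h1
    simp only [CategoryTheory.Functor.map_id, ModuleCat.hom_id, LinearMap.id_coe, id_eq] at h2
    rw [Functor.map_sum, ModuleCat.hom_sum, LinearMap.sum_apply] at h2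
    refine h2.trans (Finset.sum_congr rfl (fun i _ => ?_))
    rw [Functor.map_comp, ModuleCat.hom_comp, LinearMap.comp_apply]
  constructor
  · rw [injective_iff_map_eq_zero]
    intro σ hσ
    rw [hid σ]
    refine Finset.sum_eq_zero (fun i _ => ?_)
    have h1 : ((St p).map ((ExtSupp.sheafHomMap (ι i)).app Y)).hom σ = 0 := by
      apply (hM i).1
      rw [nuSt_naturality_left, hσ, map_zero, Limits.comp_zero]
    rw [h1, map_zero]
  · intro ψ
    choose a ha using fun i => (hM i).2 ((St p).map (ι i) ≫ ψ)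
    refine ⟨∑ i, ((St p).map ((ExtSupp.sheafHomMap (π i)).app Y)).hom (a i), ?_⟩
    rw [map_sum]
    have h1 : ∀ i, nuSt p L Y (((St p).map ((ExtSupp.sheafHomMap (π i)).app Y)).hom (a i)) =
        (St p).map (π i ≫ ι i) ≫ ψ := by
      intro i
      rw [nuSt_naturality_left, ha i, Functor.map_comp, Category.assoc]
    rw [Finset.sum_congr rfl (fun i _ => h1 i), ← Preadditive.sum_comp, ← Functor.map_sum, hsum,
      CategoryTheory.Functor.map_id, Category.id_comp]

/-- `nuSt` is bijective for a module isomorphic to one for which it is bijective. -/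
theorem nuSt_bijective_of_iso {L M : ModSite.Mod O} (e : M ≅ L) (Y : ModSite.Mod O)
    (hM : Function.Bijective (nuSt p M Y)) : Function.Bijective (nuSt p L Y) :=
  nuSt_bijective_of_sum p (b := 1) L (fun _ => M) (fun _ => e.hom) (fun _ => e.inv)
    (by simp) Y (fun _ => hM)

end Sum

end Groth.Agent.Lib.T2H6.StalkExt
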