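import Mathlib
import Groth.Agent.Lib.T2H6StalkExtE
import Groth.Agent.Lib.Helper21Subterm
import Groth.Agent.Lib.Helper21ExtZero6
import Groth.Agent.Lib.T2H6ExtSecG
import Groth.Agent.S12887
set_option backward.isDefEq.respectTransparency.types false

/-!
# T2H6StalkExtF (helper6): stalks at a point lying in a subterminal object `U`; extension by zero

* `isZero_St_of_isZero_restr` : `N|_U = 0` implies `N_p = 0` for a point `p` lying in `U`.
* `isZero_St_extSh_of_isZero_restr` : `N|_U = 0` implies `ℰxt^q(N, G)_p = 0`.
* `isIso_St_map_ε`, `isIso_St_extSh_map_ε` : the counit `j_!(M|_U) ⟶ M` induces isomorphisms on `(-)_p` and on `ℰxt^q(-, G)_p`.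
* `unitIso` : `P ≅ (j_! P)|_U`.
-/

set_option autoImplicit false
set_option linter.style.haveILetI false
universe u
open CategoryTheory CategoryTheory.Limits Opposite

namespace Groth.Agent.Lib.T2H6.StalkExt

open Groth.Agent.Lib.Helper21.CoDeltaLib Groth.Agent.Lib.Helper21.ExtShDelta
  Groth.Agent.Lib.Helper21.NullOn Groth.Agent.Lib.Helper21.StalkFlat Groth.Agent.Lib.T2H6.ExtSec

attribute [local instance] Groth.Agent.Lib.Helper21.ExtShDelta.hasSheafHom

variable {C : Type u} [SmallCategory C] {J : GrothendieckTopology C} {O : Sheaf J CommRingCat.{u}}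
  (p : GrothendieckTopology.Point.{u} J) (U : C) (u₀ : p.fiber.obj U)

include u₀ in
/-- a module vanishing on `U` has zero stalk at a point lying in `U`. -/
theorem isZero_St_of_isZero_restr (N : ModSite.Mod O) (hN : IsZero ((ModSite.restr O U).obj N)) :
    IsZero ((St p).obj N) := by
  haveI : Subsingleton ((St p).obj N) := by
    refine ⟨fun a b => ?_⟩
    have h0 : ∀ τ : ModSite.stalkAb p N, τ = 0 := by
      intro τ
      obtain ⟨X, x, s, rfl⟩ := p.toPresheafFiber_jointly_surjective (P := (ModSite.toAb N).obj) τ
      let V := IsCofiltered.min (Functor.elementsMk p.fiber X x) (Functor.elementsMk p.fiber U u₀)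
      let g := IsCofiltered.minToLeft (Functor.elementsMk p.fiber X x) (Functor.elementsMk p.fiber U u₀)
      let h := IsCofiltered.minToRight (Functor.elementsMk p.fiber X x) (Functor.elementsMk p.fiber U u₀)
      have hg : p.fiber.map g.1 V.2 = x := g.2
      have hz : IsZero ((Γ₀ (O.over U) (Over.mk h.1)).obj ((ModSite.restr O U).obj N)) :=
        Functor.map_isZero _ hN
      haveI : Subsingleton (N.val.obj (op V.1)) := ModuleCat.subsingleton_of_isZero hz
      have h1 : N.val.map g.1.op s = 0 := Subsingleton.elim (α := N.val.obj (op V.1)) _ _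
      have h2 := germ_w p N g.1 V.2 s
      rw [hg, h1] at h2
      exact h2.symm.trans (germ_zero p N V.1 V.2)
    exact (h0 a).trans (h0 b).symm
  exact ModuleCat.isZero_of_subsingleton _

variable (hU : ∀ V : C, Subsingleton (V ⟶ U))

include u₀ hU in
/-- the counit `j_!(M|_U) ⟶ M` is an isomorphism on stalks at a point lying in `U`. -/
theorem isIso_St_map_ε (M : ModSite.Mod O) : IsIso ((St p).map (ε O U M)) := by
  haveI := Groth.Agent.Lib.Helper21.Subterm.mono_ε O U hU M
  apply isIso_map_of_isZero_ker_coker (St p) (ε O U M)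
  · exact Functor.map_isZero _ (isZero_kernel_of_mono _)
  · exact isZero_St_of_isZero_restr p U u₀ _ (isZero_restr_quotOn O U M)

variable [HasInjectiveResolutions (ModSite.Mod O)] [HasInjectiveResolutions (ModSite.Mod (O.over U))]

include u₀ in
/-- the local Ext sheaves of a module vanishing on `U` have zero stalk at a point lying in `U`. -/
theorem isZero_St_extSh_of_isZero_restr (N G : ModSite.Mod O) (hN : IsZero ((ModSite.restr O U).obj N))
    (q : ℕ) : IsZero ((St p).obj (((ModSite.sheafHom N).rightDerived q).obj G)) := by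
  obtain ⟨φ⟩ := Groth.Agent.S12887.result O U N q
  apply isZero_St_of_isZero_restr p U u₀
  refine IsZero.of_iso ?_ (φ.app G)
  exact (extShDelta ((ModSite.restr O U).obj G)).isZero_E_of_isZero _ hN q

include u₀ hU in
/-- the counit `j_!(M|_U) ⟶ M` induces isomorphisms on the stalks of the local Ext sheaves. -/
theorem isIso_St_extSh_map_ε (M G : ModSite.Mod O) (q : ℕ) :
    IsIso ((St p).map ((NatTrans.rightDerived (ExtSupp.sheafHomMap (ε O U M)) q).app G)) := by
  haveI := Groth.Agent.Lib.Helper21.Subterm.mono_ε O U hU M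
  exact isIso_map_of_isZero (post (extShDelta G) (St p)) (ε O U M)
    (fun q' => (post (extShDelta G) (St p)).isZero_E_of_isZero _ (isZero_kernel_of_mono _) q')
    (fun q' => isZero_St_extSh_of_isZero_restr p U u₀ _ G (isZero_restr_quotOn O U M) q') q

include u₀ hU in
/-- the counit `j_!(M|_U) ⟶ M` induces an isomorphism on the stalks of the internal homs. -/
theorem isIso_St_sheafHomMap_ε (M G : ModSite.Mod O) :
    IsIso ((St p).map ((ExtSupp.sheafHomMap (ε O U M)).app G)) := by
  haveI := isIso_St_extSh_map_ε p U u₀ hU M G 0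
  haveI := sheafHom_preservesFiniteLimits O M
  haveI := sheafHom_preservesFiniteLimits O ((ModSite.extZero O U).obj ((ModSite.restr O U).obj M))
  have ha := rightDerivedZeroIsoSelf_hom_nat (ExtSupp.sheafHomMap (ε O U M)) G
  have h1 : (ExtSupp.sheafHomMap (ε O U M)).app G =
      (Functor.rightDerivedZeroIsoSelf (ModSite.sheafHom M)).inv.app G ≫
        (NatTrans.rightDerived (ExtSupp.sheafHomMap (ε O U M)) 0).app G ≫
          (Functor.rightDerivedZeroIsoSelf (ModSite.sheafHom
            ((ModSite.extZero O U).obj ((ModSite.restr O U).obj M)))).hom.app G := by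
    rw [ha, Iso.inv_hom_id_app_assoc]
  rw [h1, Functor.map_comp, Functor.map_comp]
  infer_instance

end Groth.Agent.Lib.T2H6.StalkExt
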