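import Mathlib
import Groth.Agent.Lib.T2H6StalkExtF
set_option backward.isDefEq.respectTransparency.types false

/-!
# T2H6StalkExtG (helper6): extensions by zero of finite free modules: comparison, acyclicity, projectivity
-/

set_option autoImplicit false
set_option linter.style.haveILetI false
universe u
open CategoryTheory CategoryTheory.Limits Opposite

namespace Groth.Agent.Lib.T2H6.StalkExt

open Groth.Agent.Lib.Helper21.CoDeltaLib Groth.Agent.Lib.Helper21.ExtShDelta
  Groth.Agent.Lib.Helper21.NullOn Groth.Agent.Lib.Helper21.StalkFlat Groth.Agent.Lib.T2H6.ExtSec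
  Groth.Agent.Lib.Helper21.ExtZeroS Groth.Agent.Lib.T2H9.ShHom

attribute [local instance] Groth.Agent.Lib.Helper21.ExtShDelta.hasSheafHom

theorem projective_sigma_fin {𝒟 : Type*} [Category 𝒟] {b : ℕ} (g : Fin b → 𝒟) [HasCoproduct g]
    (h : ∀ i, Projective (g i)) : Projective (∐ g) where
  factors f e epi := ⟨Sigma.desc fun i => Projective.factorThru (Sigma.ι g i ≫ f) e, by
    apply Sigma.hom_ext
    intro i
    simp⟩

variable {C : Type u} [SmallCategory C] {J : GrothendieckTopology C} {O : Sheaf J CommRingCat.{u}}
  (U : C) (hU : ∀ V : C, Subsingleton (V ⟶ U))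

instance extZero_faithful : (ModSite.extZero O U).Faithful :=
  Functor.Faithful.of_iso (extZeroIso O U).symm

include hU in
/-- for `U` subterminal, the unit `P ⟶ (j_! P)|_U` is an isomorphism. -/
theorem isIso_unit_app (P : ModSite.Mod (O.over U)) :
    IsIso ((ModSite.extZeroAdj O U).unit.app P) := by
  have h := (ModSite.extZeroAdj O U).left_triangle_components P
  haveI := Groth.Agent.Lib.Helper21.Subterm.mono_ε O U hU ((ModSite.extZero O U).obj P)
  haveI : IsIso (ε O U ((ModSite.extZero O U).obj P)) := isIso_of_mono_of_epi _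
  haveI : IsIso ((ModSite.extZero O U).map ((ModSite.extZeroAdj O U).unit.app P)) := by
    have h2 : (ModSite.extZero O U).map ((ModSite.extZeroAdj O U).unit.app P) =
        inv (ε O U ((ModSite.extZero O U).obj P)) := by
      rw [← cancel_mono (ε O U ((ModSite.extZero O U).obj P)), IsIso.inv_hom_id]
      exact h
    rw [h2]
    infer_instance
  exact isIso_of_reflects_iso _ (ModSite.extZero O U)

variable (p : GrothendieckTopology.Point.{u} J) (u₀ : p.fiber.obj U)
  [HasInjectiveResolutions (ModSite.Mod O)] [HasInjectiveResolutions (ModSite.Mod (O.over U))]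

include u₀ hU in
/-- the comparison is bijective for `j_! O_U`. -/
theorem nuSt_bijective_extZero_unit (G : ModSite.Mod O) :
    Function.Bijective (nuSt p ((ModSite.extZero O U).obj (ModSite.unit (O.over U))) G) := by
  let c : (ModSite.extZero O U).obj (ModSite.unit (O.over U)) ⟶ ModSite.unit O := ε O U (ModSite.unit O)
  haveI h1 : IsIso ((St p).map c) := isIso_St_map_ε p U u₀ hU (ModSite.unit O)
  haveI h2 : IsIso ((St p).map ((ExtSupp.sheafHomMap c).app G)) :=
    isIso_St_sheafHomMap_ε p U u₀ hU (ModSite.unit O) G
  have hH : Function.Bijective ((St p).map ((ExtSupp.sheafHomMap c).app G)).hom :=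
    (asIso ((St p).map ((ExtSupp.sheafHomMap c).app G))).toLinearEquiv.bijective
  have hpre : Function.Bijective (fun ψ : (St p).obj (ModSite.unit O) ⟶ (St p).obj G =>
      (St p).map c ≫ ψ) := by
    constructor
    · intro ψ ψ' h
      exact (cancel_epi ((St p).map c)).1 h
    · intro ψ
      exact ⟨inv ((St p).map c) ≫ ψ, by simp⟩
  have hcomp : (nuSt p ((ModSite.extZero O U).obj (ModSite.unit (O.over U))) G) ∘
      ((St p).map ((ExtSupp.sheafHomMap c).app G)).hom =
      (fun ψ : (St p).obj (ModSite.unit O) ⟶ (St p).obj G => (St p).map c ≫ ψ) ∘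
        (nuSt p (ModSite.unit O) G) := by
    funext σ
    exact nuSt_naturality_left p c G σ
  have h3 : Function.Bijective ((nuSt p ((ModSite.extZero O U).obj (ModSite.unit (O.over U))) G) ∘
      ((St p).map ((ExtSupp.sheafHomMap c).app G)).hom) := by
    rw [hcomp]
    exact hpre.comp (nuSt_unit_bijective p G)
  exact (Function.Bijective.of_comp_iff _ hH).1 h3

include u₀ hU in
/-- the comparison is bijective for `j_!` of a finite free module. -/
theorem nuSt_bijective_extZero_Lb (b : ℕ) (G : ModSite.Mod O) :
    Function.Bijective (nuSt p ((ModSite.extZero O U).obj (Lb (O.over U) b)) G) := by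
  refine nuSt_bijective_of_sum p (b := b) _
    (fun _ => (ModSite.extZero O U).obj (ModSite.unit (O.over U)))
    (fun i => (ModSite.extZero O U).map (Sigma.ι (fun _ : Fin b => ModSite.unit (O.over U)) i))
    (fun i => (ModSite.extZero O U).map (Sigma.π (fun _ : Fin b => ModSite.unit (O.over U)) i))
    ?_ G (fun _ => nuSt_bijective_extZero_unit U hU p u₀ G)
  have h := congrArg (fun k => (ModSite.extZero O U).map k) (sum_π_ι (O.over U) b)
  simp only [Functor.map_sum, Functor.map_comp, CategoryTheory.Functor.map_id] at h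
  exact h

include u₀ hU in
/-- `ℰxt^{q+1}(j_! O_U^b, G)_p = 0`. -/
theorem isZero_St_extSh_extZero_Lb (b : ℕ) (G : ModSite.Mod O) (q : ℕ) :
    IsZero ((St p).obj (((ModSite.sheafHom ((ModSite.extZero O U).obj (Lb (O.over U) b))).rightDerived
      (q + 1)).obj G)) := by
  obtain ⟨φ⟩ := Groth.Agent.S12887.result O U ((ModSite.extZero O U).obj (Lb (O.over U) b)) (q + 1)
  apply isZero_St_of_isZero_restr p U u₀
  refine IsZero.of_iso ?_ (φ.app G)
  haveI := isIso_unit_app U hU (Lb (O.over U) b)
  exact isZero_extSh_free ((ModSite.restr O U).obj G) _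
    (asIso ((ModSite.extZeroAdj O U).unit.app (Lb (O.over U) b))).symm q

omit [HasInjectiveResolutions (ModSite.Mod O)] [HasInjectiveResolutions (ModSite.Mod (O.over U))] in
include u₀ hU in
/-- the stalk of `j_! O_U^b` is projective. -/
theorem projective_St_extZero_Lb (b : ℕ) :
    Projective ((St p).obj ((ModSite.extZero O U).obj (Lb (O.over U) b))) := by
  haveI h1 : IsIso ((St p).map (ε O U (ModSite.unit O))) := isIso_St_map_ε p U u₀ hU (ModSite.unit O)
  haveI hP : Projective ((St p).obj ((ModSite.extZero O U).obj (ModSite.unit (O.over U)))) :=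
    haveI := projective_St_unit (O := O) p
    Projective.of_iso (asIso ((St p).map (ε O U (ModSite.unit O)))).symm inferInstance
  let e : (St p).obj ((ModSite.extZero O U).obj (Lb (O.over U) b)) ≅
      ∐ fun _ : Fin b => (St p).obj ((ModSite.extZero O U).obj (ModSite.unit (O.over U))) :=
    PreservesCoproduct.iso (ModSite.extZero O U ⋙ St p) (fun _ : Fin b => ModSite.unit (O.over U))
  exact Projective.of_iso e.symm (projective_sigma_fin _ (fun _ => hP))

end Groth.Agent.Lib.T2H6.StalkExt
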