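import Mathlib
import Groth.Agent.Lib.T2H6StalkExtG
import Groth.Agent.Lib.T2H6ExtSecH
set_option backward.isDefEq.respectTransparency.types false

/-!
# T2H6StalkExtH (helper6): stalks of the local Ext sheaves from a finite free resolution on a neighbourhood
-/

set_option autoImplicit false
set_option linter.style.haveILetI false
universe u
open CategoryTheory CategoryTheory.Limits Opposite CategoryTheory.Abelian

namespace Groth.Agent.Lib.T2H6.StalkExt

open Groth.Agent.Lib.Helper21.CoDeltaLib Groth.Agent.Lib.Helper21.ExtShDelta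
  Groth.Agent.Lib.Helper21.NullOn Groth.Agent.Lib.Helper21.StalkFlat Groth.Agent.Lib.T2H6.ExtSec
  Groth.Agent.Lib.Helper21.ExtZeroS Groth.Agent.Lib.T2H9.ShHom

attribute [local instance] Groth.Agent.Lib.Helper21.ExtShDelta.hasSheafHom

variable {C : Type u} [SmallCategory C] {J : GrothendieckTopology C} {O : Sheaf J CommRingCat.{u}}
  (p : GrothendieckTopology.Point.{u} J)

/-- the `nuSt` square in the first variable, as a commutative square of modules. -/
theorem nuSt_square {L' L : ModSite.Mod O} (u : L' ⟶ L) (Y : ModSite.Mod O) :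
    (St p).map ((ExtSupp.sheafHomMap u).app Y) ≫ ModuleCat.ofHom (R := ModSite.stalkRing p O) (nuSt p L' Y) =
      ModuleCat.ofHom (R := ModSite.stalkRing p O) (nuSt p L Y) ≫
        ModuleCat.ofHom (R := ModSite.stalkRing p O)
          (precompLin (ModSite.stalkRing p O) ((St p).obj Y) ((St p).map u)) := by
  apply ModuleCat.hom_ext
  apply LinearMap.ext
  intro s
  exact nuSt_naturality_left p u Y s

variable (U : C) (hU : ∀ V : C, Subsingleton (V ⟶ U)) (u₀ : p.fiber.obj U)
  [HasInjectiveResolutions (ModSite.Mod O)] [HasInjectiveResolutions (ModSite.Mod (O.over U))]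

include hU u₀ in
/-- **Stalks of the local Ext sheaves**: if `F|_U` has a resolution by finite free modules, with `U` a
subterminal object containing the point `p`, then `ℰxt^i(F, G)_p ≅ Ext^i_{O_p}(F_p, G_p)`. -/
theorem nonempty_St_extSh_iso (F G : ModSite.Mod O) (R : Resn ((ModSite.restr O U).obj F))
    (hR : ∀ j, ∃ b, R.X j = Lb (O.over U) b) (i : ℕ) :
    Nonempty ((St p).obj (((ModSite.sheafHom F).rightDerived i).obj G) ≅
      ModuleCat.of (ModSite.stalkRing p O) (Abelian.Ext.{u} ((St p).obj F) ((St p).obj G) i)) := by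
  haveI := R.epi
  let R₁ : Resn ((ModSite.extZero O U).obj ((ModSite.restr O U).obj F)) :=
    mapResn (ModSite.extZero O U) R inferInstance (R.ex₀.map _) (fun j => (R.ex j).map _)
  haveI := R₁.epi
  let R' : Resn ((St p).obj ((ModSite.extZero O U).obj ((ModSite.restr O U).obj F))) :=
    mapResn (St p) R₁ inferInstance (R₁.ex₀.map _) (fun j => (R₁.ex j).map _)
  let Δ₁ := post (extShDelta G) (St p)
  let Δ' := extDelta (ModSite.stalkRing p O) ((St p).obj G)
  have hX : ∀ j, ∃ b, R₁.X j = (ModSite.extZero O U).obj (Lb (O.over U) b) := by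
    intro j
    obtain ⟨b, hb⟩ := hR j
    exact ⟨b, congrArg (ModSite.extZero O U).obj hb⟩
  have hacyc : ∀ j q : ℕ, 1 ≤ q → IsZero (Δ₁.E q (R₁.X j)) := by
    intro j q hq
    obtain ⟨b, hb⟩ := hX j
    obtain ⟨q', rfl⟩ := Nat.exists_eq_add_of_le' hq
    rw [hb]
    exact isZero_St_extSh_extZero_Lb U hU p u₀ b G q'
  have hacyc' : ∀ j q : ℕ, 1 ≤ q → IsZero (Δ'.E q (R'.X j)) := by
    intro j q hq
    obtain ⟨b, hb⟩ := hX j
    obtain ⟨q', rfl⟩ := Nat.exists_eq_add_of_le' hq
    haveI : Projective (R'.X j) := by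
      change Projective ((St p).obj (R₁.X j))
      rw [hb]
      exact projective_St_extZero_Lb U hU p u₀ b
    exact isZero_extDelta_succ_of_projective _ ((St p).obj G) (R'.X j) q'
  have hbij : ∀ j, Function.Bijective (nuSt p (R₁.X j) G) := by
    intro j
    obtain ⟨b, hb⟩ := hX j
    rw [hb]
    exact nuSt_bijective_extZero_Lb U hU p u₀ b G
  haveI : ∀ j, PreservesFiniteLimits (ModSite.sheafHom (R₁.X j)) :=
    fun j => sheafHom_preservesFiniteLimits O (R₁.X j)
  let θ : ∀ j, (𝟭 _).obj (Δ₁.E 0 (R₁.X j)) ≅ Δ'.E 0 (R'.X j) := fun j =>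
    (St p).mapIso ((Functor.rightDerivedZeroIsoSelf (ModSite.sheafHom (R₁.X j))).app G) ≪≫
      (LinearEquiv.ofBijective (nuSt p (R₁.X j) G) (hbij j)).toModuleIso ≪≫
      (extDeltaZeroIso (ModSite.stalkRing p O) ((St p).obj G) ((St p).obj (R₁.X j))).symm
  have hθ : ∀ j, (𝟭 _).map (Δ₁.map 0 (R₁.d j)) ≫ (θ (j + 1)).hom =
      (θ j).hom ≫ Δ'.map 0 (R'.d j) := by
    intro j
    have ha := rightDerivedZeroIsoSelf_hom_nat (ExtSupp.sheafHomMap (R₁.d j)) G
    have hb := nuSt_square p (R₁.d j) G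
    have hc := extDeltaZeroIso_naturality (ModSite.stalkRing p O) ((St p).obj G) ((St p).map (R₁.d j))
    have hc' : (extDeltaZeroIso (ModSite.stalkRing p O) ((St p).obj G) ((St p).obj (R₁.X j))).inv ≫
        (extDelta (ModSite.stalkRing p O) ((St p).obj G)).map 0 ((St p).map (R₁.d j)) =
        ModuleCat.ofHom (R := ModSite.stalkRing p O)
          (precompLin (ModSite.stalkRing p O) ((St p).obj G) ((St p).map (R₁.d j))) ≫
        (extDeltaZeroIso (ModSite.stalkRing p O) ((St p).obj G) ((St p).obj (R₁.X (j + 1)))).inv := by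
      rw [Iso.inv_comp_eq, ← Category.assoc, Iso.eq_comp_inv]
      exact hc
    change (St p).map ((NatTrans.rightDerived (ExtSupp.sheafHomMap (R₁.d j)) 0).app G) ≫
      ((St p).map ((Functor.rightDerivedZeroIsoSelf (ModSite.sheafHom (R₁.X (j + 1)))).hom.app G) ≫
        ModuleCat.ofHom (R := ModSite.stalkRing p O) (nuSt p (R₁.X (j + 1)) G) ≫
        (extDeltaZeroIso (ModSite.stalkRing p O) ((St p).obj G) ((St p).obj (R₁.X (j + 1)))).inv) =
      ((St p).map ((Functor.rightDerivedZeroIsoSelf (ModSite.sheafHom (R₁.X j))).hom.app G) ≫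
        ModuleCat.ofHom (R := ModSite.stalkRing p O) (nuSt p (R₁.X j) G) ≫
        (extDeltaZeroIso (ModSite.stalkRing p O) ((St p).obj G) ((St p).obj (R₁.X j))).inv) ≫
      (extDelta (ModSite.stalkRing p O) ((St p).obj G)).map 0 ((St p).map (R₁.d j))
    rw [← Category.assoc, ← Functor.map_comp, ha, Functor.map_comp, Category.assoc, Category.assoc,
      Category.assoc, hc']
    congr 1
    have hb' := hb =≫ (extDeltaZeroIso (ModSite.stalkRing p O) ((St p).obj G)
          ((St p).obj (R₁.X (j + 1)))).inv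
    rw [Category.assoc, Category.assoc] at hb'
    exact hb'
  have hT : ∀ i, Nonempty (((scE Δ₁ R₁ i).map (𝟭 _)).homology ≅ (𝟭 _).obj (scE Δ₁ R₁ i).homology) := by
    intro i
    exact nonempty_homology_map_iso (𝟭 _) (fun _ => True) (fun _ _ _ => trivial)
      (fun _ _ _ => trivial) (fun q hq _ _ => hq) (scE Δ₁ R₁ i) trivial trivial trivial
  -- the comparison for `j_!(F|_U)`
  have hcmp : Nonempty (Δ₁.E i ((ModSite.extZero O U).obj ((ModSite.restr O U).obj F)) ≅
      Δ'.E i ((St p).obj ((ModSite.extZero O U).obj ((ModSite.restr O U).obj F)))) := by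
    cases i with
    | zero => exact compare_zero Δ₁ R₁ Δ' R' (𝟭 _) θ hθ
    | succ i => exact compare_succ Δ₁ R₁ hacyc Δ' R' hacyc' (𝟭 _) θ hθ i (hT i)
  obtain ⟨e₁⟩ := hcmp
  -- surgery
  haveI h1 : IsIso ((St p).map ((NatTrans.rightDerived (ExtSupp.sheafHomMap (ε O U F)) i).app G)) :=
    isIso_St_extSh_map_ε p U u₀ hU F G i
  haveI h2 : IsIso ((St p).map (ε O U F)) := isIso_St_map_ε p U u₀ hU F
  let e₀ : (St p).obj (((ModSite.sheafHom F).rightDerived i).obj G) ≅
      Δ₁.E i ((ModSite.extZero O U).obj ((ModSite.restr O U).obj F)) :=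
    @asIso _ _ _ _ _ h1
  let a : (St p).obj ((ModSite.extZero O U).obj ((ModSite.restr O U).obj F)) ≅ (St p).obj F :=
    @asIso _ _ _ _ _ h2
  exact ⟨e₀ ≪≫ e₁ ≪≫ (extCongr a (Iso.refl _) i).toModuleIso⟩

end Groth.Agent.Lib.T2H6.StalkExt
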