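import Mathlib
import Groth.Prelude.Def_FSch3
import Groth.Agent.Lib.Helper19ComplFlatMap
import Groth.Agent.Lib.T2H6StalkRes
import Groth.Agent.Lib.T2H6CAway

/-!
# The stalk ring `A_{S}` of a formal spectrum: locality, flatness, Noetherianity (helper6)
-/

set_option autoImplicit false
universe u

namespace Groth.Agent.Lib.T2H6.StalkFlat

open AdicCompletion Groth.Agent.Lib.T2H6.StalkRes

section General

variable {R S T : Type u} [CommRing R] [CommRing S] [CommRing T]

theorem complMap_comp (I : Ideal R) (K : Ideal S) (L : Ideal T) (g : R →+* S) (h : S →+* T)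
    (hg : I.map g ≤ K) (hh : K.map h ≤ L) (hhg : I.map (h.comp g) ≤ L) (x : AdicCompletion I R) :
    FSch.complMap K L h hh (FSch.complMap I K g hg x) = FSch.complMap I L (h.comp g) hhg x := by
  apply AdicCompletion.ext_evalₐ
  intro n
  rw [Groth.Agent.Lib.Helper19.evalₐ_complMap, Groth.Agent.Lib.Helper19.evalₐ_complMap,
    Groth.Agent.Lib.Helper19.evalₐ_complMap]
  obtain ⟨y, hy⟩ := Ideal.Quotient.mk_surjective (evalₐ I n x)
  rw [← hy, Ideal.quotientMap_mk, Ideal.quotientMap_mk, Ideal.quotientMap_mk]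
  rfl

theorem complMap_congr (I : Ideal R) (K : Ideal S) (g g' : R →+* S) (e : g = g')
    (hg : I.map g ≤ K) (hg' : I.map g' ≤ K) :
    FSch.complMap I K g hg = FSch.complMap I K g' hg' := by
  subst e
  rfl

/-- an element of an adic completion (for a finitely generated ideal) which is a unit modulo the ideal
is a unit. -/
theorem isUnit_of_isUnit_evalₐ_one (I : Ideal R) (fg : I.FG) (x : AdicCompletion I R)
    (hx : IsUnit (evalₐ I 1 x)) : IsUnit x := by
  obtain ⟨u, hu⟩ := hx.exists_right_inv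
  obtain ⟨y, rfl⟩ := surjective_evalₐ I 1 u
  have hker : x * y - 1 ∈ RingHom.ker (evalₐ I 1).toRingHom := by
    rw [RingHom.mem_ker]
    change evalₐ I 1 (x * y - 1) = 0
    rw [map_sub, map_mul, hu, map_one, sub_self]
  rw [Groth.Agent.Lib.T2H6.CAway.ker_evalₐ_eq_map I fg 1, pow_one] at hker
  haveI := AdicCompletion.isAdicComplete_self I fg
  have hj := IsAdicComplete.le_jacobson_bot
    (I.map (algebraMap R (AdicCompletion I R))) hker
  exact isUnit_of_mul_isUnit_left (Ideal.isUnit_of_sub_one_mem_jacobson_bot _ hj)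

/-- the adic completion of a local ring for a finitely generated proper ideal is local. -/
theorem isLocalRing_adicCompletion [IsLocalRing R] (I : Ideal R) (fg : I.FG) (hI : I ≠ ⊤) :
    IsLocalRing (AdicCompletion I R) := by
  haveI : Nontrivial (R ⧸ I ^ 1) := by
    rw [pow_one]
    exact Ideal.Quotient.nontrivial_iff.mpr hI
  haveI : IsLocalRing (R ⧸ I ^ 1) :=
    IsLocalRing.of_surjective' (Ideal.Quotient.mk (I ^ 1)) Ideal.Quotient.mk_surjective
  haveI : IsLocalHom (evalₐ I 1).toRingHom :=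
    ⟨fun x hx => isUnit_of_isUnit_evalₐ_one I fg x hx⟩
  haveI : Nontrivial (AdicCompletion I R) :=
    (evalₐ I 1).toRingHom.domain_nontrivial
  exact RingHom.domain_isLocalRing (evalₐ I 1).toRingHom

/-- equational criterion for a flat ring map, with the module structure unfolded. -/
theorem exists_trivial_of_flat {R' M' : Type*} [CommRing R'] [CommRing M'] (φ : R' →+* M')
    (hφ : φ.Flat) {l : ℕ} (β : Fin l → R') (x : Fin l → M') (h : ∑ i, φ (β i) * x i = 0) :
    ∃ (k : ℕ) (a : Fin l → Fin k → R') (y : Fin k → M'),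
      (∀ i, x i = ∑ j, φ (a i j) * y j) ∧ ∀ j, ∑ i, β i * a i j = 0 := by
  letI : Algebra R' M' := φ.toAlgebra
  haveI : Module.Flat R' M' := hφ
  exact Module.Flat.isTrivialRelation_of_sum_smul_eq_zero (R := R') (M := M') (f := β) (x := x) h

open TensorProduct in
/-- descent of flatness: if `C` is flat over `A` and faithfully flat over the `A`-algebra `B`, then
`B` is flat over `A`. -/
theorem flat_of_faithfullyFlat_of_flat (A' B' C' : Type u) [CommRing A'] [CommRing B'] [CommRing C']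
    [Algebra A' B'] [Algebra B' C'] [Algebra A' C'] [IsScalarTower A' B' C']
    [Module.Flat A' C'] [Module.FaithfullyFlat B' C'] : Module.Flat A' B' := by
  rw [Module.Flat.iff_lTensor_preserves_injective_linearMap]
  intro N P _ _ _ _ f hf
  have h1 : Function.Injective (f.baseChange B') := by
    rw [← Module.FaithfullyFlat.lTensor_injective_iff_injective B' C']
    have h2 : Function.Injective (f.lTensor C') :=
      Module.Flat.lTensor_preserves_injective_linearMap f hf
    have h3 : ∀ z : C' ⊗[B'] (B' ⊗[A'] N),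
        (AlgebraTensorModule.cancelBaseChange A' B' C' C' P)
          (((f.baseChange B').lTensor C') z) =
        (f.lTensor C') ((AlgebraTensorModule.cancelBaseChange A' B' C' C' N) z) := by
      intro z
      induction z using TensorProduct.induction_on with
      | zero => simp
      | tmul c w =>
        induction w using TensorProduct.induction_on with
        | zero => simp
        | tmul b n => simp
        | add w₁ w₂ h₁ h₂ =>
          rw [TensorProduct.tmul_add, map_add, map_add, map_add, map_add, h₁, h₂]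
      | add z₁ z₂ h₁ h₂ => rw [map_add, map_add, map_add, map_add, h₁, h₂]
    intro z₁ z₂ hz
    apply (AlgebraTensorModule.cancelBaseChange A' B' C' C' N).injective
    apply h2
    rw [← h3, ← h3, hz]
  exact h1

/-- Noetherianity descends along faithfully flat ring maps. -/
theorem isNoetherianRing_of_faithfullyFlat (B' C' : Type u) [CommRing B'] [CommRing C']
    [Algebra B' C'] [Module.FaithfullyFlat B' C'] [IsNoetherianRing C'] : IsNoetherianRing B' := by
  apply Submodule.IsNoetherian.of_isNoetherian_tensorProduct_of_faithfullyFlat (R := B') (M := B') (A := C')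
  exact isNoetherian_of_linearEquiv (TensorProduct.AlgebraTensorModule.rid B' C' C').symm

end General

section Main

variable (A : Type u) [CommRing A] [IsNoetherianRing A] (J : Ideal A) (𝔭 : Ideal A) [𝔭.IsPrime]

instance instNoethAway (f : A) : IsNoetherianRing (Localization.Away f) :=
  IsLocalization.isNoetherianRing (Submonoid.powers f) (Localization.Away f) inferInstance

instance instNoethAtPrime : IsNoetherianRing (Localization.AtPrime 𝔭) :=
  IsLocalization.isNoetherianRing 𝔭.primeCompl (Localization.AtPrime 𝔭) inferInstance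

theorem awayToAtPrime_algebraMap (f : A) (hf : f ∉ 𝔭) (a : A) :
    FSch.awayToAtPrime A 𝔭 f hf (algebraMap A (Localization.Away f) a) =
      algebraMap A (Localization.AtPrime 𝔭) a := by
  unfold FSch.awayToAtPrime
  rw [IsLocalization.Away.lift_eq]

theorem awayToAtPrime_flat (f : A) (hf : f ∉ 𝔭) : (FSch.awayToAtPrime A 𝔭 f hf).Flat := by
  letI : Algebra (Localization.Away f) (Localization.AtPrime 𝔭) :=
    (FSch.awayToAtPrime A 𝔭 f hf).toAlgebra
  haveI : IsScalarTower A (Localization.Away f) (Localization.AtPrime 𝔭) :=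
    IsScalarTower.of_algebraMap_eq (fun a => (awayToAtPrime_algebraMap A 𝔭 f hf a).symm)
  change Module.Flat (Localization.Away f) (Localization.AtPrime 𝔭)
  rw [Module.flat_iff_of_isLocalization (Localization.Away f) (Submonoid.powers f)]
  infer_instance

theorem map_awayToAtPrime_eq (f : A) (hf : f ∉ 𝔭) :
    (J.map (algebraMap A (Localization.Away f))).map (FSch.awayToAtPrime A 𝔭 f hf) =
      J.map (algebraMap A (Localization.AtPrime 𝔭)) := by
  rw [Ideal.map_map]
  congr 1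
  ext a
  exact awayToAtPrime_algebraMap A 𝔭 f hf a

theorem cAwayToAtPrime_flat (f : A) (hf : f ∉ 𝔭) : (FSch.cAwayToAtPrime A J 𝔭 f hf).Flat := by
  unfold FSch.cAwayToAtPrime
  exact Groth.Agent.Lib.Helper19.complMap_flat _ _ _ (awayToAtPrime_flat A 𝔭 f hf)
    (map_awayToAtPrime_eq A J 𝔭 f hf)

/-- the transition map `A_f → A_h` for `f ∣ h`. -/
noncomputable def awayTrans (f h : A) (hd : f ∣ h) : Localization.Away f →+* Localization.Away h :=
  IsLocalization.Away.lift f (g := algebraMap A (Localization.Away h))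
    (isUnit_of_dvd_unit (map_dvd _ hd) (IsLocalization.Away.algebraMap_isUnit h))

theorem awayTrans_algebraMap (f h : A) (hd : f ∣ h) (a : A) :
    awayTrans A f h hd (algebraMap A (Localization.Away f) a) =
      algebraMap A (Localization.Away h) a := by
  unfold awayTrans
  rw [IsLocalization.Away.lift_eq]

theorem map_awayTrans_le (f h : A) (hd : f ∣ h) :
    (J.map (algebraMap A (Localization.Away f))).map (awayTrans A f h hd) ≤
      J.map (algebraMap A (Localization.Away h)) := by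
  rw [Ideal.map_map]
  apply le_of_eq
  congr 1
  ext a
  exact awayTrans_algebraMap A f h hd a

/-- the transition map `A_{f} → A_{h}` for `f ∣ h`. -/
noncomputable def cAwayTrans (f h : A) (hd : f ∣ h) : FSch.cAway A J f →+* FSch.cAway A J h :=
  FSch.complMap _ _ (awayTrans A f h hd) (map_awayTrans_le A J f h hd)

theorem awayToAtPrime_comp_awayTrans (f h : A) (hd : f ∣ h) (hf : f ∉ 𝔭) (hh : h ∉ 𝔭) :
    (FSch.awayToAtPrime A 𝔭 h hh).comp (awayTrans A f h hd) = FSch.awayToAtPrime A 𝔭 f hf := by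
  apply IsLocalization.ringHom_ext (Submonoid.powers f)
  ext a
  simp only [RingHom.comp_apply]
  rw [awayTrans_algebraMap, awayToAtPrime_algebraMap, awayToAtPrime_algebraMap]

theorem cAwayToAtPrime_cAwayTrans (f h : A) (hd : f ∣ h) (hf : f ∉ 𝔭) (hh : h ∉ 𝔭)
    (x : FSch.cAway A J f) :
    FSch.cAwayToAtPrime A J 𝔭 h hh (cAwayTrans A J f h hd x) = FSch.cAwayToAtPrime A J 𝔭 f hf x := by
  unfold FSch.cAwayToAtPrime cAwayTrans
  have hle : (J.map (algebraMap A (Localization.Away f))).map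
      ((FSch.awayToAtPrime A 𝔭 h hh).comp (awayTrans A f h hd)) ≤
      J.map (algebraMap A (Localization.AtPrime 𝔭)) := by
    rw [awayToAtPrime_comp_awayTrans A 𝔭 f h hd hf hh]
    exact FSch.map_awayToAtPrime_le A J 𝔭 f hf
  rw [complMap_comp _ _ _ _ _ _ _ hle,
    complMap_congr _ _ _ _ (awayToAtPrime_comp_awayTrans A 𝔭 f h hd hf hh) hle
      (FSch.map_awayToAtPrime_le A J 𝔭 f hf)]

theorem range_le_of_dvd (f h : A) (hd : f ∣ h) (hf : f ∉ 𝔭) (hh : h ∉ 𝔭) :
    (FSch.cAwayToAtPrime A J 𝔭 f hf).range ≤ (FSch.cAwayToAtPrime A J 𝔭 h hh).range := by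
  rintro _ ⟨x, rfl⟩
  exact ⟨cAwayTrans A J f h hd x, cAwayToAtPrime_cAwayTrans A J 𝔭 f h hd hf hh x⟩

theorem directed_range :
    Directed (· ≤ ·) (fun f : {f : A // f ∉ 𝔭} => (FSch.cAwayToAtPrime A J 𝔭 f.1 f.2).range) := by
  intro f g
  have hfg : f.1 * g.1 ∉ 𝔭 := fun h => (Ideal.IsPrime.mem_or_mem ‹𝔭.IsPrime› h).elim f.2 g.2
  exact ⟨⟨f.1 * g.1, hfg⟩, range_le_of_dvd A J 𝔭 _ _ (Dvd.intro _ rfl) f.2 hfg,
    range_le_of_dvd A J 𝔭 _ _ (Dvd.intro_left _ rfl) g.2 hfg⟩

instance : Nonempty {f : A // f ∉ 𝔭} := ⟨⟨1, fun h => ‹𝔭.IsPrime›.ne_top ((Ideal.eq_top_iff_one 𝔭).mpr h)⟩⟩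

theorem mem_stalkSubring_iff (x : FSch.cAtPrime A J 𝔭) :
    x ∈ FSch.stalkSubring A J 𝔭 ↔
      ∃ (f : A) (hf : f ∉ 𝔭), x ∈ (FSch.cAwayToAtPrime A J 𝔭 f hf).range := by
  unfold FSch.stalkSubring
  rw [Subring.mem_iSup_of_directed (directed_range A J 𝔭)]
  constructor
  · rintro ⟨f, hf⟩
    exact ⟨f.1, f.2, hf⟩
  · rintro ⟨f, hf, hx⟩
    exact ⟨⟨f, hf⟩, hx⟩

theorem exists_common_range {l : ℕ} (b : Fin l → FSch.stalkSubring A J 𝔭) :
    ∃ (h : A) (hh : h ∉ 𝔭), ∀ i, ((b i : FSch.cAtPrime A J 𝔭)) ∈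
      (FSch.cAwayToAtPrime A J 𝔭 h hh).range := by
  have h1 : ∀ i, ∃ (f : A) (hf : f ∉ 𝔭), ((b i : FSch.cAtPrime A J 𝔭)) ∈
      (FSch.cAwayToAtPrime A J 𝔭 f hf).range := fun i =>
    (mem_stalkSubring_iff A J 𝔭 _).mp (b i).2
  choose f hf hb using h1
  have hprod : (∏ i, f i) ∉ 𝔭 := by
    intro hmem
    obtain ⟨i, -, hi⟩ := (Ideal.IsPrime.prod_mem_iff (hp := ‹𝔭.IsPrime›)).mp hmem
    exact hf i hi
  refine ⟨∏ i, f i, hprod, fun i => ?_⟩
  exact range_le_of_dvd A J 𝔭 (f i) _ (Finset.dvd_prod_of_mem f (Finset.mem_univ i)) (hf i) hprod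
    (hb i)

theorem smul_def' (b : FSch.stalkSubring A J 𝔭) (c : FSch.cAtPrime A J 𝔭) :
    b • c = (b : FSch.cAtPrime A J 𝔭) * c := rfl

theorem flat_stalkSubring :
    Module.Flat (FSch.stalkSubring A J 𝔭) (FSch.cAtPrime A J 𝔭) := by
  apply Module.Flat.of_forall_isTrivialRelation
  intro l b x hbx
  obtain ⟨h, hh, hb⟩ := exists_common_range A J 𝔭 b
  choose β hβ using hb
  have hrel : ∑ i, FSch.cAwayToAtPrime A J 𝔭 h hh (β i) * x i = 0 := by
    rw [← hbx]
    refine Finset.sum_congr rfl fun i _ => ?_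
    rw [hβ i, smul_def']
  obtain ⟨k, a', y, hxy, ha'⟩ := exists_trivial_of_flat (FSch.cAwayToAtPrime A J 𝔭 h hh)
    (cAwayToAtPrime_flat A J 𝔭 h hh) β x hrel
  have hmem : ∀ r : FSch.cAway A J h, FSch.cAwayToAtPrime A J 𝔭 h hh r ∈ FSch.stalkSubring A J 𝔭 :=
    fun r => (mem_stalkSubring_iff A J 𝔭 _).mpr ⟨h, hh, ⟨r, rfl⟩⟩
  refine ⟨k, fun i j => ⟨FSch.cAwayToAtPrime A J 𝔭 h hh (a' i j), hmem _⟩, y, fun i => ?_,
    fun j => ?_⟩
  · rw [hxy i]
    refine Finset.sum_congr rfl fun j _ => ?_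
    rw [smul_def']
  · apply Subtype.ext
    rw [Subring.coe_zero]
    have h2 := congrArg (FSch.cAwayToAtPrime A J 𝔭 h hh) (ha' j)
    rw [map_sum, _root_.map_zero] at h2
    rw [← h2]
    push_cast
    refine Finset.sum_congr rfl fun i _ => ?_
    rw [map_mul, hβ i]

theorem fg_map (f : A) : (J.map (algebraMap A (Localization.Away f))).FG :=
  (isNoetherianRing_iff_ideal_fg _).mp inferInstance _

theorem fg_mapAtPrime : (J.map (algebraMap A (Localization.AtPrime 𝔭))).FG :=
  (isNoetherianRing_iff_ideal_fg _).mp inferInstance _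

theorem isLocalRing_cAtPrime (hJ : J ≤ 𝔭) : IsLocalRing (FSch.cAtPrime A J 𝔭) :=
  isLocalRing_adicCompletion _ (fg_mapAtPrime A J 𝔭) (map_ne_top A J 𝔭 hJ)

/-- a unit modulo a proper ideal of a local ring is a unit. -/
theorem isUnit_of_isUnit_mk {R : Type*} [CommRing R] [IsLocalRing R] (I : Ideal R) (hI : I ≠ ⊤)
    (x : R) (hx : IsUnit (Ideal.Quotient.mk I x)) : IsUnit x := by
  haveI := isLocalHom_of_le_jacobson_bot I
    ((IsLocalRing.le_maximalIdeal hI).trans
      (IsLocalRing.jacobson_eq_maximalIdeal (⊥ : Ideal R) bot_ne_top).ge)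
  exact isUnit_of_map_unit (Ideal.Quotient.mk I) x hx

theorem exists_isUnit_cAwayTrans (hJ : J ≤ 𝔭) (f : A) (hf : f ∉ 𝔭) (β : FSch.cAway A J f)
    (hβ : IsUnit (FSch.cAwayToAtPrime A J 𝔭 f hf β)) :
    ∃ (h : A) (_ : h ∉ 𝔭) (hd : f ∣ h), IsUnit (cAwayTrans A J f h hd β) := by
  obtain ⟨β₀, hβ₀⟩ := Ideal.Quotient.mk_surjective
    (evalₐ (J.map (algebraMap A (Localization.Away f))) 1 β)
  -- the image of `β₀` in `A_𝔭` is a unit
  have h1 : IsUnit (FSch.awayToAtPrime A 𝔭 f hf β₀) := by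
    have h2 : IsUnit (evalₐ (J.map (algebraMap A (Localization.AtPrime 𝔭))) 1
        (FSch.cAwayToAtPrime A J 𝔭 f hf β)) := hβ.map _
    unfold FSch.cAwayToAtPrime at h2
    rw [Groth.Agent.Lib.Helper19.evalₐ_complMap, ← hβ₀, Ideal.quotientMap_mk] at h2
    refine isUnit_of_isUnit_mk _ ?_ _ h2
    rw [pow_one]
    exact map_ne_top A J 𝔭 hJ
  obtain ⟨a, s, hs⟩ := IsLocalization.exists_mk'_eq (Submonoid.powers f) β₀
  have hspec : β₀ * algebraMap A (Localization.Away f) (s : A) =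
      algebraMap A (Localization.Away f) a := by
    rw [← hs]
    exact IsLocalization.mk'_spec _ a s
  have ha : a ∉ 𝔭 := by
    have h3 := congrArg (FSch.awayToAtPrime A 𝔭 f hf) hspec
    rw [map_mul, awayToAtPrime_algebraMap, awayToAtPrime_algebraMap] at h3
    have hsu : IsUnit (algebraMap A (Localization.AtPrime 𝔭) (s : A)) := by
      rw [IsLocalization.AtPrime.isUnit_to_map_iff (Localization.AtPrime 𝔭) 𝔭]
      obtain ⟨n, hn⟩ := s.2
      rw [← hn]
      exact fun hmem => hf (‹𝔭.IsPrime›.mem_of_pow_mem n hmem)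
    have hau : IsUnit (algebraMap A (Localization.AtPrime 𝔭) a) := by
      rw [← h3]
      exact h1.mul hsu
    exact (IsLocalization.AtPrime.isUnit_to_map_iff (Localization.AtPrime 𝔭) 𝔭 a).mp hau
  have hh : f * a ∉ 𝔭 := fun h => (Ideal.IsPrime.mem_or_mem ‹𝔭.IsPrime› h).elim hf ha
  refine ⟨f * a, hh, Dvd.intro _ rfl, ?_⟩
  apply isUnit_of_isUnit_evalₐ_one _ (fg_map A J (f * a))
  unfold cAwayTrans
  rw [Groth.Agent.Lib.Helper19.evalₐ_complMap, ← hβ₀, Ideal.quotientMap_mk]
  apply IsUnit.map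
  have h4 := congrArg (awayTrans A f (f * a) (Dvd.intro _ rfl)) hspec
  rw [map_mul, awayTrans_algebraMap, awayTrans_algebraMap] at h4
  have hau : IsUnit (algebraMap A (Localization.Away (f * a)) a) :=
    isUnit_of_dvd_unit (map_dvd _ (Dvd.intro_left _ rfl))
      (IsLocalization.Away.algebraMap_isUnit (f * a))
  rw [← h4] at hau
  exact isUnit_of_mul_isUnit_left hau

theorem isLocalHom_subtype (hJ : J ≤ 𝔭) : IsLocalHom (FSch.stalkSubring A J 𝔭).subtype := by
  constructor
  intro b hb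
  obtain ⟨f, hf, β, hβ⟩ := (mem_stalkSubring_iff A J 𝔭 _).mp b.2
  have hb' : IsUnit (FSch.cAwayToAtPrime A J 𝔭 f hf β) := by
    rw [hβ]
    exact hb
  obtain ⟨h, hh, hd, hu⟩ := exists_isUnit_cAwayTrans A J 𝔭 hJ f hf β hb'
  obtain ⟨v, hv⟩ := hu.exists_right_inv
  have hmem : FSch.cAwayToAtPrime A J 𝔭 h hh v ∈ FSch.stalkSubring A J 𝔭 :=
    (mem_stalkSubring_iff A J 𝔭 _).mpr ⟨h, hh, ⟨v, rfl⟩⟩
  refine IsUnit.of_mul_eq_one ⟨_, hmem⟩ ?_
  apply Subtype.ext
  change (b : FSch.cAtPrime A J 𝔭) * FSch.cAwayToAtPrime A J 𝔭 h hh v = 1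
  rw [← hβ, ← cAwayToAtPrime_cAwayTrans A J 𝔭 f h hd hf hh β, ← map_mul, hv, map_one]

theorem isLocalRing_stalkSubring (hJ : J ≤ 𝔭) : IsLocalRing (FSch.stalkSubring A J 𝔭) := by
  haveI := isLocalRing_cAtPrime A J 𝔭 hJ
  haveI := isLocalHom_subtype A J 𝔭 hJ
  exact RingHom.domain_isLocalRing (FSch.stalkSubring A J 𝔭).subtype

theorem faithfullyFlat_stalkSubring (hJ : J ≤ 𝔭) :
    Module.FaithfullyFlat (FSch.stalkSubring A J 𝔭) (FSch.cAtPrime A J 𝔭) := by
  haveI := isLocalRing_cAtPrime A J 𝔭 hJ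
  haveI := isLocalRing_stalkSubring A J 𝔭 hJ
  haveI := flat_stalkSubring A J 𝔭
  haveI : IsLocalHom (algebraMap (FSch.stalkSubring A J 𝔭) (FSch.cAtPrime A J 𝔭)) :=
    isLocalHom_subtype A J 𝔭 hJ
  exact Module.FaithfullyFlat.of_flat_of_isLocalHom

theorem isNoetherianRing_stalkSubring (hJ : J ≤ 𝔭) : IsNoetherianRing (FSch.stalkSubring A J 𝔭) := by
  haveI := faithfullyFlat_stalkSubring A J 𝔭 hJ
  haveI : IsNoetherianRing (FSch.cAtPrime A J 𝔭) :=
    Groth.Agent.Lib.Helper19.isNoetherianRing_adicCompletion _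
  exact isNoetherianRing_of_faithfullyFlat (FSch.stalkSubring A J 𝔭) (FSch.cAtPrime A J 𝔭)

theorem flat_codRestrict (hJ : J ≤ 𝔭)
    (h : ∀ a : A, ((algebraMap (Localization.AtPrime 𝔭) (FSch.cAtPrime A J 𝔭)).comp
      (algebraMap A (Localization.AtPrime 𝔭))) a ∈ FSch.stalkSubring A J 𝔭) :
    (((algebraMap (Localization.AtPrime 𝔭) (FSch.cAtPrime A J 𝔭)).comp
      (algebraMap A (Localization.AtPrime 𝔭))).codRestrict (FSch.stalkSubring A J 𝔭) h).Flat := by
  letI algAB : Algebra A (FSch.stalkSubring A J 𝔭) :=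
    (((algebraMap (Localization.AtPrime 𝔭) (FSch.cAtPrime A J 𝔭)).comp
      (algebraMap A (Localization.AtPrime 𝔭))).codRestrict (FSch.stalkSubring A J 𝔭) h).toAlgebra
  haveI t1 : IsScalarTower A (FSch.stalkSubring A J 𝔭) (FSch.cAtPrime A J 𝔭) :=
    IsScalarTower.of_algebraMap_eq (fun a => rfl)
  haveI t2 : IsScalarTower A (Localization.AtPrime 𝔭) (FSch.cAtPrime A J 𝔭) :=
    IsScalarTower.of_algebraMap_eq (fun a => rfl)
  haveI f1 : Module.Flat (Localization.AtPrime 𝔭) (FSch.cAtPrime A J 𝔭) :=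
    AdicCompletion.flat_of_isNoetherian _
  haveI f2 : Module.Flat A (FSch.cAtPrime A J 𝔭) :=
    Module.Flat.trans A (Localization.AtPrime 𝔭) (FSch.cAtPrime A J 𝔭)
  haveI := faithfullyFlat_stalkSubring A J 𝔭 hJ
  exact flat_of_faithfullyFlat_of_flat A (FSch.stalkSubring A J 𝔭) (FSch.cAtPrime A J 𝔭)

end Main

end Groth.Agent.Lib.T2H6.StalkFlat
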