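-- helper6 (team 2): base change of marked presentations; elementary/strictly standard elements are
-- stable under base change.
import Mathlib
import Groth.Prelude.Def_Smoothing

set_option autoImplicit false
set_option backward.isDefEq.respectTransparency false
set_option backward.isDefEq.respectTransparency.types false

universe u

namespace Groth.Agent.Lib.T2H6.StdBaseChange

open TensorProduct MvPolynomial Smoothing

variable {R A R' : Type u} [CommRing R] [CommRing A] [Algebra R A] [CommRing R'] [Algebra R R']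

/-- base change of the presentation map -/
noncomputable def homBC (P : MarkedPresentation R A) :
    MvPolynomial (Fin P.n) R' →ₐ[R'] R' ⊗[R] A :=
  (Algebra.TensorProduct.map (AlgHom.id R' R') P.hom).comp
    (MvPolynomial.algebraTensorAlgEquiv (σ := Fin P.n) R R').symm.toAlgHom

theorem homBC_map (P : MarkedPresentation R A) (p : MvPolynomial (Fin P.n) R) :
    homBC (R' := R') P (MvPolynomial.map (algebraMap R R') p) = (1 : R') ⊗ₜ[R] P.hom p := by
  have h1 : (MvPolynomial.algebraTensorAlgEquiv (σ := Fin P.n) R R').symm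
      (MvPolynomial.map (algebraMap R R') p) = (1 : R') ⊗ₜ[R] p := by
    rw [AlgEquiv.symm_apply_eq, MvPolynomial.algebraTensorAlgEquiv_tmul, one_smul]
  change (Algebra.TensorProduct.map (AlgHom.id R' R') P.hom)
    ((MvPolynomial.algebraTensorAlgEquiv (σ := Fin P.n) R R').symm
      (MvPolynomial.map (algebraMap R R') p)) = _
  rw [h1, Algebra.TensorProduct.map_tmul]
  rfl

theorem homBC_surjective (P : MarkedPresentation R A) :
    Function.Surjective (homBC (R' := R') P) := by
  have h1 : Function.Surjective (Algebra.TensorProduct.map (AlgHom.id R' R') P.hom) :=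
    Algebra.TensorProduct.map_surjective _ _ (fun x => ⟨x, rfl⟩) P.surj
  have h2 := (MvPolynomial.algebraTensorAlgEquiv (σ := Fin P.n) R R').symm.surjective
  exact h1.comp h2

theorem ker_homBC (P : MarkedPresentation R A) :
    RingHom.ker (homBC (R' := R') P).toRingHom =
      Ideal.span (Set.range fun j => MvPolynomial.map (algebraMap R R') (P.rel j)) := by
  have hk : RingHom.ker (Algebra.TensorProduct.map (AlgHom.id R' R') P.hom) =
      (RingHom.ker P.hom).map
        (Algebra.TensorProduct.includeRight : MvPolynomial (Fin P.n) R →ₐ[R] R' ⊗[R] _) :=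
    Algebra.TensorProduct.lTensor_ker P.hom P.surj
  have hker : RingHom.ker P.hom = Ideal.span (Set.range P.rel) := P.ker_eq
  apply le_antisymm
  · intro x hx
    have h1 : (MvPolynomial.algebraTensorAlgEquiv (σ := Fin P.n) R R').symm x ∈
        RingHom.ker (Algebra.TensorProduct.map (AlgHom.id R' R') P.hom) := hx
    rw [hk, hker, Ideal.map_span] at h1
    have h2 : x = (MvPolynomial.algebraTensorAlgEquiv (σ := Fin P.n) R R')
        ((MvPolynomial.algebraTensorAlgEquiv (σ := Fin P.n) R R').symm x) :=
      ((MvPolynomial.algebraTensorAlgEquiv (σ := Fin P.n) R R').apply_symm_apply x).symm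
    rw [h2]
    have h3 := Ideal.mem_map_of_mem
      (MvPolynomial.algebraTensorAlgEquiv (σ := Fin P.n) R R').toAlgHom.toRingHom h1
    rw [Ideal.map_span] at h3
    refine Ideal.span_mono ?_ h3
    rintro _ ⟨_, ⟨_, ⟨j, rfl⟩, rfl⟩, rfl⟩
    refine ⟨j, ?_⟩
    change _ = (MvPolynomial.algebraTensorAlgEquiv (σ := Fin P.n) R R') ((1 : R') ⊗ₜ[R] P.rel j)
    rw [MvPolynomial.algebraTensorAlgEquiv_tmul, one_smul]
  · rw [Ideal.span_le]
    rintro _ ⟨j, rfl⟩
    change homBC (R' := R') P (MvPolynomial.map (algebraMap R R') (P.rel j)) = 0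
    rw [homBC_map]
    have : P.hom (P.rel j) = 0 := by
      have h1 : P.rel j ∈ RingHom.ker P.hom.toRingHom := by
        rw [P.ker_eq]
        exact Ideal.subset_span ⟨j, rfl⟩
      exact h1
    rw [this, tmul_zero]

/-- The base-changed marked presentation. -/
noncomputable def presBC (P : MarkedPresentation R A) : MarkedPresentation R' (R' ⊗[R] A) where
  n := P.n
  m := P.m
  c := P.c
  hcn := P.hcn
  hcm := P.hcm
  rel := fun j => MvPolynomial.map (algebraMap R R') (P.rel j)
  hom := homBC P
  surj := homBC_surjective P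
  ker_eq := ker_homBC P

theorem jacobianMinor_map (P : MarkedPresentation R A) {c : ℕ} (rows : Fin c → Fin P.m)
    (cols : Fin c → Fin P.n) :
    jacobianMinor (fun j => MvPolynomial.map (algebraMap R R') (P.rel j)) rows cols =
      MvPolynomial.map (algebraMap R R') (jacobianMinor P.rel rows cols) := by
  unfold jacobianMinor
  have h := (MvPolynomial.map (σ := Fin P.n) (algebraMap R R')).map_det
    (Matrix.of fun j k : Fin c => pderiv (cols k) (P.rel (rows j)))
  rw [h]
  congr 1
  refine Matrix.ext fun j k => ?_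
  simp only [Matrix.of_apply, RingHom.mapMatrix_apply, Matrix.map_apply]
  exact MvPolynomial.pderiv_map (φ := algebraMap R R') (f := P.rel (rows j)) (i := cols k)

theorem killsTail_BC (P : MarkedPresentation R A) (a : A) (h : KillsTail P a) :
    KillsTail (presBC (R' := R') P) ((1 : R') ⊗ₜ[R] a) := by
  intro a'' ha'' j hj
  obtain ⟨a₀, ha₀⟩ := P.surj a
  have h1 := h a₀ ha₀ j hj
  let φ : MvPolynomial (Fin P.n) R →+* MvPolynomial (Fin (presBC (R' := R') P).n) R' :=
    MvPolynomial.map (σ := Fin P.n) (algebraMap R R')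
  have h2 : φ (a₀ * P.rel j) ∈
      Ideal.span ((presBC (R' := R') P).rel '' {j' : Fin P.m | (j' : ℕ) < P.c}) ⊔
        Ideal.span (Set.range (presBC (R' := R') P).rel) ^ 2 := by
    have h3 := Ideal.mem_map_of_mem φ h1
    rw [Ideal.map_sup, Ideal.map_pow, Ideal.map_span, Ideal.map_span] at h3
    have e1 : (φ '' (P.rel '' {j' : Fin P.m | (j' : ℕ) < P.c})) =
        (presBC (R' := R') P).rel '' {j' : Fin P.m | (j' : ℕ) < P.c} := by
      rw [Set.image_image]
      rfl
    have e2 : (φ '' Set.range P.rel) = Set.range (presBC (R' := R') P).rel := by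
      rw [← Set.range_comp]
      rfl
    rw [e1, e2] at h3
    exact h3
  have h4 : a'' - φ a₀ ∈ Ideal.span (Set.range (presBC (R' := R') P).rel) := by
    rw [← (presBC (R' := R') P).ker_eq]
    change (presBC (R' := R') P).hom (a'' - φ a₀) = 0
    rw [map_sub, ha'']
    have h7 : (presBC (R' := R') P).hom (φ a₀) = (1 : R') ⊗ₜ[R] P.hom a₀ := homBC_map P a₀
    rw [h7, ha₀, sub_self]
  have h5 : (a'' - φ a₀) * (presBC (R' := R') P).rel j ∈
      Ideal.span (Set.range (presBC (R' := R') P).rel) ^ 2 := by
    rw [pow_two]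
    exact Ideal.mul_mem_mul h4 (Ideal.subset_span ⟨j, rfl⟩)
  have h6 : a'' * (presBC (R' := R') P).rel j =
      φ (a₀ * P.rel j) + (a'' - φ a₀) * (presBC (R' := R') P).rel j := by
    rw [map_mul]
    change a'' * φ (P.rel j) = φ a₀ * φ (P.rel j) + (a'' - φ a₀) * φ (P.rel j)
    ring
  rw [h6]
  exact Ideal.add_mem _ h2 (Ideal.mem_sup_right h5)

theorem isElementaryStandard_BC (a : A) (h : IsElementaryStandard R A a) :
    IsElementaryStandard R' (R' ⊗[R] A) ((1 : R') ⊗ₜ[R] a) := by
  obtain ⟨P, ⟨a', ha'⟩, hk⟩ := h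
  refine ⟨presBC P, ⟨(1 : R') ⊗ₜ[R] a', ?_⟩, killsTail_BC P a hk⟩
  change _ = _ * homBC P (jacobianMinor (fun j => MvPolynomial.map (algebraMap R R') (P.rel j))
    (Fin.castLE P.hcm) (Fin.castLE P.hcn))
  rw [jacobianMinor_map, homBC_map, Algebra.TensorProduct.tmul_mul_tmul, one_mul, ← ha']

theorem isStrictlyStandard_BC (a : A) (h : IsStrictlyStandard R A a) :
    IsStrictlyStandard R' (R' ⊗[R] A) ((1 : R') ⊗ₜ[R] a) := by
  obtain ⟨P, ha, hk⟩ := h
  refine ⟨presBC P, ?_, killsTail_BC P a hk⟩
  have h1 := Ideal.mem_map_of_mem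
    (Algebra.TensorProduct.includeRight : A →ₐ[R] R' ⊗[R] A).toRingHom ha
  rw [Ideal.map_span, ← Set.range_comp] at h1
  have e : ((Algebra.TensorProduct.includeRight : A →ₐ[R] R' ⊗[R] A).toRingHom ∘
      fun cols : Fin P.c → Fin P.n => P.hom (jacobianMinor P.rel (Fin.castLE P.hcm) cols)) =
      fun cols : Fin (presBC (R' := R') P).c → Fin (presBC (R' := R') P).n =>
        (presBC (R' := R') P).hom
          (jacobianMinor (presBC (R' := R') P).rel (Fin.castLE (presBC (R' := R') P).hcm) cols) := by
    funext cols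
    change (1 : R') ⊗ₜ[R] P.hom _ = homBC P (jacobianMinor
      (fun j => MvPolynomial.map (algebraMap R R') (P.rel j)) (Fin.castLE P.hcm) cols)
    rw [jacobianMinor_map, homBC_map]
  rw [e] at h1
  exact h1

end Groth.Agent.Lib.T2H6.StdBaseChange
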