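-- helper6 (team 2): the morphism between blow-ups induced by a closed immersion is a closed
-- immersion (strict transform), from the universal property only.
import Mathlib
import Groth.Prelude.Def_BlowUp2
import Groth.Prelude.Def_W4c6modpairsegaMP
import Groth.Agent.Lib.Helper20EffCartier
import Groth.Agent.Lib.T2H6ModulusProd
import Groth.Agent.Lib.T2H6ModulusClosure
import Groth.Agent.Lib.T2H6ModulusLift

set_option autoImplicit false
set_option backward.isDefEq.respectTransparency false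
set_option backward.isDefEq.respectTransparency.types false
open CategoryTheory CategoryTheory.Limits AlgebraicGeometry

universe u

namespace Groth.Agent.Lib.T2H6.StrictTransform

open nonZeroDivisors Groth.Agent.Lib.T2H6.ModulusClosure Groth.Agent.Lib.T2H6.ModulusLift
open Groth.Agent.Lib.T2H6.ModulusProd

/-- The pullback of an effective Cartier ideal is locally principal. -/
theorem exists_gen_comap {P X' : Scheme.{u}} (E : X'.IdealSheafData)
    (hE : BlowUp.IsEffCartierIdeal E) (q : P ⟶ X') (z : P) :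
    ∃ (P' : P.affineOpens) (t : Γ(P, P'.1)), z ∈ P'.1 ∧ (E.comap q).ideal P' = Ideal.span {t} := by
  obtain ⟨X'', hz, e, -, hEe⟩ := hE (q z)
  obtain ⟨P', hP', hzP', hP'le⟩ := exists_isAffineOpen_mem_and_subset
    (x := z) (U := q ⁻¹ᵁ X''.1) hz
  have hle : P' ≤ q ⁻¹ᵁ X''.1 := hP'le
  refine ⟨⟨P', hP'⟩, (q.appLE X''.1 P' hle).hom e, hzP', ?_⟩
  rw [Groth.Agent.Lib.Helper20.EffCartier.ideal_comap_eq_map q E hP' X''.2 hle]
  change (E.ideal X'').map _ = _
  rw [hEe, Ideal.map_span, Set.image_singleton]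

/-- For a locally principal ideal sheaf `L`, the closure of its interior: the pullback of `L` to it
is effective Cartier. -/
theorem isEffCartier_comap_closure_interior {P : Scheme.{u}} (L : P.IdealSheafData)
    (hL : ∀ z : P, ∃ (P' : P.affineOpens) (t : Γ(P, P'.1)), z ∈ P'.1 ∧
      L.ideal P' = Ideal.span {t}) :
    QuasiCompact (ModPair.interior L).ι ∧
      (QuasiCompact (ModPair.interior L).ι →
        BlowUp.IsEffCartierIdeal (L.comap (ModPair.interior L).ι.imageι)) := by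
  have hqc : QuasiCompact (ModPair.interior L).ι :=
    quasiCompact_ι_of_cover _ (fun z => by
      obtain ⟨P', t, hz, ht⟩ := hL z
      exact ⟨P', t, hz, interior_inf L P' t ht⟩)
  refine ⟨hqc, fun _ y => ?_⟩
  obtain ⟨P', t, hz, ht⟩ := hL ((ModPair.interior L).ι.imageι y)
  have h1 : ModPair.interior L ⊓ P'.1 = P.basicOpen (t * 1) := by
    rw [mul_one]
    exact interior_inf L P' t ht
  obtain ⟨hY', s, hs, hIs⟩ := exists_gen_comap_imageι (ModPair.interior L) L P' t 1 h1 ht
  exact ⟨⟨_, hY'⟩, hz, s, hs, hIs⟩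

theorem isClosedImmersion_blowUp_map {X Y X' Y' : Scheme.{u}}
    (𝓘 : X.IdealSheafData) (f : Y ⟶ X) [IsClosedImmersion f]
    (b : X' ⟶ X) (hb : BlowUp.IsBlowUp b 𝓘) (b' : Y' ⟶ Y) (hb' : BlowUp.IsBlowUp b' (𝓘.comap f))
    (f' : Y' ⟶ X') (hf' : f' ≫ b = b' ≫ f) : IsClosedImmersion f' := by
  -- the ideal `L` on `P = Y ×_X X'`
  have hLeq : 𝓘.comap (pullback.fst f b ≫ f) = (𝓘.comap b).comap (pullback.snd f b) := by
    rw [pullback.condition, Scheme.IdealSheafData.comap_comp]
  have hL : ∀ z : ↥(pullback f b), ∃ (P' : (pullback f b).affineOpens)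
      (t : Γ(pullback f b, P'.1)), z ∈ P'.1 ∧
      (𝓘.comap (pullback.fst f b ≫ f)).ideal P' = Ideal.span {t} := by
    intro z
    rw [hLeq]
    exact exists_gen_comap _ hb.1 _ z
  obtain ⟨hqc, hcart⟩ := isEffCartier_comap_closure_interior _ hL
  have hcart' := hcart hqc
  set L := 𝓘.comap (pullback.fst f b ≫ f) with hLdef
  set ι'' := (ModPair.interior L).ι.imageι with hι''
  -- `k : Y'' ⟶ Y'`
  have hc1 : BlowUp.IsEffCartierIdeal ((𝓘.comap f).comap (ι'' ≫ pullback.fst f b)) := by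
    rw [← Scheme.IdealSheafData.comap_comp, Category.assoc]
    have : 𝓘.comap (ι'' ≫ pullback.fst f b ≫ f) = L.comap ι'' := by
      rw [Scheme.IdealSheafData.comap_comp]
    rw [this]
    exact hcart'
  obtain ⟨k, hk, -⟩ := hb'.2 _ (ι'' ≫ pullback.fst f b) hc1
  -- `l : Y' ⟶ Y''`
  let m : Y' ⟶ pullback f b := pullback.lift b' f' hf'.symm
  have hm1 : m ≫ pullback.fst f b = b' := pullback.lift_fst _ _ _
  have hm2 : m ≫ pullback.snd f b = f' := pullback.lift_snd _ _ _
  have hLm : L.comap m = (𝓘.comap f).comap b' := by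
    rw [hLdef, ← Scheme.IdealSheafData.comap_comp, ← Category.assoc, hm1,
      Scheme.IdealSheafData.comap_comp]
  have hcm : BlowUp.IsEffCartierIdeal (L.comap m) := by
    rw [hLm]
    exact hb'.1
  have hint : ModPair.interior (L.comap m) ≤ m ⁻¹ᵁ ModPair.interior L := by
    rw [interior_comap]
  obtain ⟨l, hl⟩ := exists_lift_imageι (L.comap m) hcm (ModPair.interior L) m hint
  have hl' : l ≫ ι'' = m := hl
  -- the two are inverse to each other
  have h1 : l ≫ k = 𝟙 Y' := by
    obtain ⟨u, -, hu⟩ := hb'.2 _ b' hb'.1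
    rw [hu (l ≫ k) (by
      change (l ≫ k) ≫ b' = b'
      rw [Category.assoc, hk, ← Category.assoc, hl', hm1]), hu (𝟙 Y') (Category.id_comp _)]
  have hkf' : k ≫ f' = ι'' ≫ pullback.snd f b := by
    have hc2 : BlowUp.IsEffCartierIdeal (𝓘.comap (ι'' ≫ pullback.snd f b ≫ b)) := by
      have : 𝓘.comap (ι'' ≫ pullback.snd f b ≫ b) = L.comap ι'' := by
        rw [← pullback.condition, Scheme.IdealSheafData.comap_comp]
      rw [this]
      exact hcart'
    obtain ⟨u, -, hu⟩ := hb.2 _ (ι'' ≫ pullback.snd f b ≫ b) hc2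
    rw [hu (k ≫ f') (by
      change (k ≫ f') ≫ b = _
      rw [Category.assoc, hf', ← Category.assoc, hk, Category.assoc,
        pullback.condition]), hu (ι'' ≫ pullback.snd f b) (Category.assoc _ _ _)]
  have h2 : k ≫ l = 𝟙 _ := by
    rw [← cancel_mono ι'', Category.assoc, hl', Category.id_comp]
    apply pullback.hom_ext
    · rw [Category.assoc, hm1, hk]
    · rw [Category.assoc, hm2, hkf']
  have hliso : IsIso l := ⟨k, h1, h2⟩
  have hf'eq : f' = l ≫ ι'' ≫ pullback.snd f b := by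
    rw [← Category.assoc, hl', hm2]
  rw [hf'eq]
  infer_instance

/-- The interior of a modulus pair is schematically dense. -/
theorem ker_interior_ι {W : Scheme.{u}} (IW : W.IdealSheafData)
    (hW : BlowUp.IsEffCartierIdeal IW) : (ModPair.interior IW).ι.ker = ⊥ := by
  apply ker_ι_eq_bot_of_dense
  intro z
  obtain ⟨P', hz, w, hw, hIw⟩ := hW z
  refine ⟨P', w, hz, hw, ?_⟩
  rw [← interior_inf IW P' w hIw]
  exact inf_le_left

/-- The inclusion of the interior of an effective Cartier ideal is an affine morphism. -/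
theorem isAffineHom_interior_ι {W : Scheme.{u}} (E : W.IdealSheafData)
    (hE : BlowUp.IsEffCartierIdeal E) : IsAffineHom (ModPair.interior E).ι := by
  choose Z hz f _ hf using hE
  have hcov : ⨆ y, (Z y).1 = ⊤ := by
    rw [eq_top_iff]
    intro y _
    exact TopologicalSpace.Opens.mem_iSup.2 ⟨y, hz y⟩
  rw [HasAffineProperty.iff_of_iSup_eq_top (P := @IsAffineHom) Z hcov]
  intro y
  have h1 : IsAffineOpen ((ModPair.interior E).ι ⁻¹ᵁ (Z y).1) := by
    rw [← (ModPair.interior E).ι.isAffineOpen_iff_of_isOpenImmersion,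
      Scheme.Hom.image_preimage_eq_opensRange_inf, Scheme.Opens.opensRange_ι,
      interior_inf E (Z y) (f y) (hf y)]
    exact (Z y).2.basicOpen (f y)
  exact h1

theorem strictTransform_main {X X' Z' : Scheme.{u}} (𝓘 𝓙 : X.IdealSheafData) (b : X' ⟶ X)
    (hb : BlowUp.IsBlowUp b 𝓘)
    (b' : Z' ⟶ 𝓙.subscheme) (hb' : BlowUp.IsBlowUp b' (𝓘.comap 𝓙.subschemeι))
    (k : Z' ⟶ X') (hk : k ≫ b = b' ≫ 𝓙.subschemeι) :
    IsClosedImmersion k ∧
      IsAffineHom ((k ⁻¹ᵁ (b ⁻¹ᵁ 𝓘.support.compl)).ι ≫ k) ∧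
      ((k ⁻¹ᵁ (b ⁻¹ᵁ 𝓘.support.compl)).ι ≫ k).ker = k.ker := by
  have hcl : IsClosedImmersion k :=
    isClosedImmersion_blowUp_map 𝓘 𝓙.subschemeι b hb b' hb' k hk
  have hE : BlowUp.IsEffCartierIdeal ((𝓘.comap 𝓙.subschemeι).comap b') := hb'.1
  have hW : k ⁻¹ᵁ (b ⁻¹ᵁ 𝓘.support.compl) =
      ModPair.interior ((𝓘.comap 𝓙.subschemeι).comap b') := by
    rw [interior_comap, interior_comap]
    ext z
    change b (k z) ∈ ModPair.interior 𝓘 ↔ 𝓙.subschemeι (b' z) ∈ ModPair.interior 𝓘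
    rw [← Scheme.Hom.comp_apply, ← Scheme.Hom.comp_apply, hk]
  rw [hW]
  have haff := isAffineHom_interior_ι _ hE
  refine ⟨hcl, inferInstance, ?_⟩
  apply le_antisymm _ (Scheme.Hom.le_ker_comp _ _)
  intro X''
  rw [Scheme.Hom.ker_apply, Scheme.Hom.ker_apply]
  intro s hs
  rw [RingHom.mem_ker] at hs ⊢
  rw [Scheme.Hom.comp_app, CommRingCat.hom_comp, RingHom.comp_apply] at hs
  have hk' : IsAffineOpen (k ⁻¹ᵁ X''.1) := X''.2.preimage k
  have h0 := ker_interior_ι _ hE
  have h1 : (k.app X''.1).hom s ∈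
      (ModPair.interior ((𝓘.comap 𝓙.subschemeι).comap b')).ι.ker.ideal ⟨k ⁻¹ᵁ X''.1, hk'⟩ := by
    rw [Scheme.Hom.ker_apply, RingHom.mem_ker]
    exact hs
  rw [h0, Scheme.IdealSheafData.ideal_bot] at h1
  exact h1

end Groth.Agent.Lib.T2H6.StrictTransform
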