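import Groth.Agent.Lib.T2H6VAmpleC

/-!
# helper6 (team 2): very ample ⊗ globally generated is very ample
-/

set_option autoImplicit false
set_option linter.unusedSectionVars false
universe u

open CategoryTheory CategoryTheory.Limits AlgebraicGeometry TopologicalSpace Opposite
  HomogeneousLocalization

namespace Groth.Agent.Lib.T2H6.VAmpleD

open Groth.Agent.Helper13ProjUP
open Groth.Agent.Lib.Helper27GrTildeSect Groth.Agent.Helper13GrTildeFrac
  Groth.Agent.Helper13Dehom Groth.Agent.Helper13AffMor Groth.Agent.Helper13SymGr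
open Groth.Agent.Lib.Helper23.SecTw Groth.Agent.Lib.Helper6 Groth.Agent.Lib.Helper23.GenLocus
open Groth.Agent.Lib.Helper23.PB Groth.Agent.Helper13PullbackUnit Groth.Agent.Lib.Helper23.Extend
open Groth.Agent.Lib.T2H6.VAmple Groth.Agent.Lib.T2H6.Segre Groth.Agent.Lib.T2H6.SegreB
open Groth.Agent.Lib.T2H6.SegreC Groth.Agent.Lib.T2H6.VAmpleB Groth.Agent.Lib.T2H6.VAmpleC

variable {X S : Scheme.{u}}

/-- the section-level data of the tensor product. -/
theorem secHom_tm (L L' : X.Modules) (a : ProjUP.Γm L) (b : ProjUP.Γm L') :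
    secHom (CohB1.tensorMod L L') (tm L L' ⊤ a b) = SecTwist.tmulHom (secHom L a) (secHom L' b) := by
  rw [← secHom_sv (SecTwist.tmulHom (secHom L a) (secHom L' b))]
  congr 1
  rw [sv_tmulHom, sv_secHom, sv_secHom, res_self, res_self]

theorem veryAmple_tensor (q : X ⟶ S) (L L' : X.Modules) (hL : PicF.IsInvertible L)
    (hva : RelAmple.IsRelVeryAmplePn q L) (hL' : PicF.IsInvertible L') {m : ℕ}
    (s : Fin (m + 1) → ProjUP.Γm L') (hs : ProjUP.GeneratedBy L' s) :
    RelAmple.IsRelVeryAmplePn q (CohB1.tensorMod L L') := by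
  obtain ⟨n, i, hi, hiq, ⟨ε⟩⟩ := hva
  let r₁ : X ⟶ CohB1.ProjSpace n (ULift.{u} ℤ) :=
    i ≫ pullback.fst (CohB1.ProjSpace.toSpec n (ULift.{u} ℤ)) (specULiftZIsTerminal.from S)
  let Φ₁ : (Scheme.Modules.pullback r₁).obj (Twist.twistProjSpace n (ULift.{u} ℤ) 1) ≅ L :=
    ((Scheme.Modules.pullbackComp i (pullback.fst (CohB1.ProjSpace.toSpec n (ULift.{u} ℤ))
      (specULiftZIsTerminal.from S))).app _).symm ≪≫ ε.symm
  let t : Fin (n + 1) → ProjUP.Γm L := fun k =>
    Φ₁.hom.app ⊤ (ProjUP.pullSec r₁ (Twist.twistProjSpace n (ULift.{u} ℤ) 1) (ProjUP.coord n (ULift.{u} ℤ) k))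
  obtain ⟨hgt, hchart₁⟩ := chart_data_of_iso n r₁ L hL Φ₁ t (fun k => rfl)
  obtain ⟨r₂, hr₂, hchart₂, τ₂, hτ₂⟩ :=
    exists_mor_Pn (R := ULift.{u} ℤ) m (specULiftZIsTerminal.from X) L' hL' s hs
  set M := CohB1.tensorMod L L' with hMdef
  have hM : PicF.IsInvertible M := isInvertible_tensorMod hL hL'
  let e := segreEquiv n m
  let u : Fin (n + 1) × Fin (m + 1) → ProjUP.Γm M := fun κ => tm L L' ⊤ (t κ.1) (s κ.2)
  have hgl : ∀ κ, CohB1.genLocus M (secHom M (u κ)) =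
      CohB1.genLocus L (secHom L (t κ.1)) ⊓ CohB1.genLocus L' (secHom L' (s κ.2)) := by
    intro κ
    change CohB1.genLocus (CohB1.tensorMod L L') (secHom (CohB1.tensorMod L L') (tm L L' ⊤ (t κ.1) (s κ.2))) = _
    rw [secHom_tm, genLocus_tmulHom hL hL']
  have hcovM : ∀ x : X, ∃ κ, x ∈ CohB1.genLocus M (secHom M (u κ)) := by
    intro x
    obtain ⟨k, hk⟩ := exists_mem_genLocus L hL t hgt x
    obtain ⟨j, hj⟩ := exists_mem_genLocus L' hL' s hs x
    exact ⟨(k, j), by rw [hgl]; exact ⟨hk, hj⟩⟩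
  let u' : Fin (n * m + n + m + 1) → ProjUP.Γm M := fun a => u (e.symm a)
  have hgu' : ProjUP.GeneratedBy M u' := by
    refine generatedBy_of_cover M u' (fun x => ?_)
    obtain ⟨κ, hκ⟩ := hcovM x
    refine ⟨e κ, ?_⟩
    change x ∈ CohB1.genLocus M (secHom M (u (e.symm (e κ))))
    rw [e.symm_apply_apply]
    exact hκ
  obtain ⟨r₃, hr₃, hchart₃, τ₃, hτ₃⟩ :=
    exists_mor_Pn (R := ULift.{u} ℤ) (n * m + n + m) (specULiftZIsTerminal.from X) M hM u' hgu'
  have hchart₃' : ∀ κ, ∃ hle : CohB1.genLocus M (secHom M (u κ)) ≤ r₃ ⁻¹ᵁ D (ULift.{u} ℤ) (n * m + n + m) (e κ),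
      ∀ κ', pb r₃ (D (ULift.{u} ℤ) (n * m + n + m) (e κ)) _ hle
        (dehom (hX (ULift.{u} ℤ) (n * m + n + m) (e κ)) (MvPolynomial.X (e κ'))) •
          res M (le_top : CohB1.genLocus M (secHom M (u κ)) ≤ ⊤) (u κ) = res M le_top (u κ') := by
    intro κ
    obtain ⟨hle, -, h⟩ := hchart₃ (e κ)
    revert hle
    change ∀ hle : CohB1.genLocus M (secHom M (u (e.symm (e κ)))) ≤ _,
      (∀ k', pb r₃ _ _ hle (dehom _ (MvPolynomial.X k')) •
        res M (le_top : CohB1.genLocus M (secHom M (u (e.symm (e κ)))) ≤ ⊤) (u (e.symm (e κ))) =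
          res M le_top (u (e.symm k'))) → _
    rw [e.symm_apply_apply]
    intro hle h
    refine ⟨hle, fun κ' => ?_⟩
    have := h (e κ')
    rwa [e.symm_apply_apply] at this
  obtain ⟨rseg, hseg, -⟩ := exists_segre (ULift.{u} ℤ) n m e
  haveI hrsegci : IsClosedImmersion rseg := isClosedImmersion_of_charts rseg hseg
  have hc : r₁ ≫ CohB1.ProjSpace.toSpec n (ULift.{u} ℤ) = r₂ ≫ CohB1.ProjSpace.toSpec m (ULift.{u} ℤ) :=
    specULiftZIsTerminal.hom_ext _ _
  have hV1 : ∀ κ : Fin (n + 1) × Fin (m + 1), CohB1.genLocus M (secHom M (u κ)) ≤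
      CohB1.genLocus L (secHom L (t κ.1)) := fun κ => by rw [hgl]; exact inf_le_left
  have hV2 : ∀ κ : Fin (n + 1) × Fin (m + 1), CohB1.genLocus M (secHom M (u κ)) ≤
      CohB1.genLocus L' (secHom L' (s κ.2)) := fun κ => by rw [hgl]; exact inf_le_right
  have h₁ : ∀ κ : Fin (n + 1) × Fin (m + 1), CohB1.genLocus M (secHom M (u κ)) ≤
      r₁ ⁻¹ᵁ D (ULift.{u} ℤ) n κ.1 := fun κ => (hV1 κ).trans (hchart₁ κ.1).choose
  have h₂ : ∀ κ : Fin (n + 1) × Fin (m + 1), CohB1.genLocus M (secHom M (u κ)) ≤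
      r₂ ⁻¹ᵁ D (ULift.{u} ℤ) m κ.2 := fun κ => (hV2 κ).trans (hchart₂ κ.2).choose
  have h₃ : ∀ κ : Fin (n + 1) × Fin (m + 1), CohB1.genLocus M (secHom M (u κ)) ≤
      r₃ ⁻¹ᵁ D (ULift.{u} ℤ) (n * m + n + m) (e κ) := fun κ => (hchart₃' κ).choose
  have heq : r₃ = pullback.lift r₁ r₂ hc ≫ rseg := by
    refine eq_lift_comp_segre ringHom_ulift_int_ext n m e r₁ r₂ r₃ hc rseg hseg
      (fun κ => CohB1.genLocus M (secHom M (u κ))) hcovM h₁ h₂ h₃ (fun κ κ' => ?_)
    have hgenV : IsGen M (CohB1.genLocus M (secHom M (u κ))) (res M le_top (u κ)) := by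
      have := isGen_sv_genLocus M (secHom M (u κ))
      rwa [sv_secHom] at this
    apply (hgenV (CohB1.genLocus M (secHom M (u κ))) le_rfl).1
    change _ • res M le_rfl (res M le_top (u κ)) = _ • res M le_rfl (res M le_top (u κ))
    rw [res_self]
    refine ((hchart₃' κ).choose_spec κ').trans ?_
    -- the product side
    obtain ⟨hle1, -, hr1⟩ := hchart₁ κ.1
    obtain ⟨hle2, -, hr2⟩ := hchart₂ κ.2
    have e1 : pb r₁ (D (ULift.{u} ℤ) n κ.1) (CohB1.genLocus M (secHom M (u κ))) (h₁ κ) (dehom (hX (ULift.{u} ℤ) n κ.1) (MvPolynomial.X κ'.1)) •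
        res L (le_top : (CohB1.genLocus M (secHom M (u κ))) ≤ ⊤) (t κ.1) = res L le_top (t κ'.1) := by
      have := congrArg (res L (hV1 κ)) (hr1 κ'.1)
      rw [res_smul, res_res, res_res] at this
      rw [← this]
      congr 1
      exact (rs_pb r₁ hle1 (hV1 κ) _).symm
    have e2 : pb r₂ (D (ULift.{u} ℤ) m κ.2) (CohB1.genLocus M (secHom M (u κ))) (h₂ κ) (dehom (hX (ULift.{u} ℤ) m κ.2) (MvPolynomial.X κ'.2)) •
        res L' (le_top : (CohB1.genLocus M (secHom M (u κ))) ≤ ⊤) (s κ.2) = res L' le_top (s κ'.2) := by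
      have := congrArg (res L' (hV2 κ)) (hr2 κ'.2)
      rw [res_smul, res_res, res_res] at this
      rw [← this]
      congr 1
      exact (rs_pb r₂ hle2 (hV2 κ) _).symm
    change res (CohB1.tensorMod L L') (le_top : (CohB1.genLocus M (secHom M (u κ))) ≤ ⊤) (tm L L' ⊤ (t κ'.1) (s κ'.2)) =
      _ • res (CohB1.tensorMod L L') (le_top : (CohB1.genLocus M (secHom M (u κ))) ≤ ⊤) (tm L L' ⊤ (t κ.1) (s κ.2))
    rw [res_tm, res_tm, ← tm_smul_smul]
    exact congrArg₂ (tm L L' _) e1.symm e2.symm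
  -- the morphisms to projective spaces over `S`
  let i₂ : X ⟶ CohB1.ProjSpaceOver m S := pullback.lift r₂ q (specULiftZIsTerminal.hom_ext _ _)
  let i₃ : X ⟶ CohB1.ProjSpaceOver (n * m + n + m) S :=
    pullback.lift r₃ q (specULiftZIsTerminal.hom_ext _ _)
  have hi₂1 : i₂ ≫ pullback.fst _ _ = r₂ := pullback.lift_fst _ _ _
  have hi₂2 : i₂ ≫ pullback.snd _ _ = q := pullback.lift_snd _ _ _
  have hi₃1 : i₃ ≫ pullback.fst _ _ = r₃ := pullback.lift_fst _ _ _
  have hi₃2 : i₃ ≫ pullback.snd _ _ = q := pullback.lift_snd _ _ _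
  obtain ⟨φ, hφci, hφ2, hφ1⟩ := baseChange_segre' specULiftZIsTerminal
    (CohB1.ProjSpace.toSpec n (ULift.{u} ℤ)) (CohB1.ProjSpace.toSpec m (ULift.{u} ℤ))
    (CohB1.ProjSpace.toSpec (n * m + n + m) (ULift.{u} ℤ)) (specULiftZIsTerminal.from S) rseg hrsegci
  let j : X ⟶ pullback (pullback.snd (CohB1.ProjSpace.toSpec n (ULift.{u} ℤ)) (specULiftZIsTerminal.from S))
      (pullback.snd (CohB1.ProjSpace.toSpec m (ULift.{u} ℤ)) (specULiftZIsTerminal.from S)) :=
    pullback.lift i i₂ (hiq.trans hi₂2.symm)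
  have hj1 : j ≫ pullback.fst _ _ = i := pullback.lift_fst _ _ _
  have hj2 : j ≫ pullback.snd _ _ = i₂ := pullback.lift_snd _ _ _
  haveI hjimm : IsImmersion j := by
    haveI : IsImmersion (j ≫ pullback.fst _ _) := by rw [hj1]; exact hi
    exact IsImmersion.of_comp j (pullback.fst _ _)
  have hja : j ≫ amap specULiftZIsTerminal (CohB1.ProjSpace.toSpec n (ULift.{u} ℤ))
      (CohB1.ProjSpace.toSpec m (ULift.{u} ℤ)) (specULiftZIsTerminal.from S) = pullback.lift r₁ r₂ hc := by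
    apply pullback.hom_ext
    · unfold amap
      rw [Category.assoc, pullback.lift_fst, pullback.lift_fst, ← Category.assoc, hj1]
      rfl
    · unfold amap
      rw [Category.assoc, pullback.lift_snd, pullback.lift_snd, ← Category.assoc, hj2]
      exact hi₂1
  have hi₃ : i₃ = j ≫ φ := by
    apply pullback.hom_ext
    · refine hi₃1.trans ?_
      rw [Category.assoc, hφ1, ← Category.assoc, hja, heq]
      rfl
    · refine hi₃2.trans ?_
      rw [Category.assoc, hφ2, ← Category.assoc, hj1]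
      exact hiq.symm
  refine ⟨n * m + n + m, i₃, ?_, hi₃2, ?_⟩
  · rw [hi₃]
    haveI := hφci
    haveI : IsImmersion φ := inferInstance
    exact IsImmersion.comp j φ
  · exact ⟨τ₃.symm ≪≫ ((Scheme.Modules.pullbackCongr hi₃1).app _).symm ≪≫
      ((Scheme.Modules.pullbackComp i₃ (pullback.fst _ _)).app _).symm⟩


theorem of_isEmpty (q : X ⟶ S) (L : X.Modules) (hL : PicF.IsInvertible L) (hX : IsEmpty X) :
    RelAmple.IsRelVeryAmplePn q L :=
  isRelVeryAmplePn_of_sections q L hL 0 (fun _ => 0) (fun x => (hX.false x).elim) ∅ (fun _ => ⊤)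
    (fun m hm => (Set.notMem_empty m hm).elim) (fun m hm => (Set.notMem_empty m hm).elim)
    (fun x => (hX.false x).elim) (fun m hm => (Set.notMem_empty m hm).elim)
    (fun m hm => (Set.notMem_empty m hm).elim)

/-- very ample ⊗ generated by finitely many global sections is very ample. -/
theorem veryAmple_tensor' (q : X ⟶ S) (L L' : X.Modules) (hL : PicF.IsInvertible L)
    (hva : RelAmple.IsRelVeryAmplePn q L) (hL' : PicF.IsInvertible L') {m : ℕ}
    (s : Fin m → ProjUP.Γm L') (hs : ProjUP.GeneratedBy L' s) :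
    RelAmple.IsRelVeryAmplePn q (CohB1.tensorMod L L') := by
  cases m with
  | zero =>
    have hX : IsEmpty X := ⟨fun x => by
      obtain ⟨i, -⟩ := exists_mem_genLocus L' hL' s hs x
      exact i.elim0⟩
    exact of_isEmpty q _ (isInvertible_tensorMod hL hL') hX
  | succ m => exact veryAmple_tensor q L L' hL hva hL' s hs

end Groth.Agent.Lib.T2H6.VAmpleD
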