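import Groth.Agent.Lib.T2H6VAmpleE
import Groth.Agent.Lib.T2H5AmplePn
import Groth.Agent.Lib.Helper23PB
import Groth.Agent.Lib.Helper23AmpleIso
import Groth.Agent.Lib.Helper23SecTw6
import Groth.Agent.Lib.Helper23Restr

/-!
# helper6 (team 2): restriction of `IsRelVeryAmplePn` to opens of the base; very ample ⟹ relatively ample
-/

set_option autoImplicit false
set_option linter.unusedSectionVars false
universe u

open CategoryTheory CategoryTheory.Limits AlgebraicGeometry TopologicalSpace Opposite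

namespace Groth.Agent.Lib.T2H6.VAmpleF

variable {X S : Scheme.{u}}

/-- `IsRelVeryAmplePn` restricts to opens of the base. -/
theorem restrict_base (q : X ⟶ S) (L : X.Modules) (W : S.Opens)
    (h : RelAmple.IsRelVeryAmplePn q L) :
    RelAmple.IsRelVeryAmplePn (q ∣_ W) (L.restrict (q ⁻¹ᵁ W).ι) := by
  obtain ⟨n, i₀, hi, hq, ⟨e⟩⟩ := h
  let i : X ⟶ pullback (CohB1.ProjSpace.toSpec n (ULift.{u} ℤ)) (specULiftZIsTerminal.from S) := i₀
  have hq' : i ≫ pullback.snd _ _ = q := hq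
  haveI : IsImmersion i := hi
  let j := (q ⁻¹ᵁ W).ι
  let fstS := pullback.fst (CohB1.ProjSpace.toSpec n (ULift.{u} ℤ)) (specULiftZIsTerminal.from S)
  let fstW := pullback.fst (CohB1.ProjSpace.toSpec n (ULift.{u} ℤ))
    (specULiftZIsTerminal.from (W : Scheme.{u}))
  let iW : (↑(q ⁻¹ᵁ W) : Scheme.{u}) ⟶ pullback (CohB1.ProjSpace.toSpec n (ULift.{u} ℤ))
      (specULiftZIsTerminal.from (W : Scheme.{u})) :=
    pullback.lift (j ≫ i ≫ fstS) (q ∣_ W) (specULiftZIsTerminal.hom_ext _ _)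
  let u : pullback (CohB1.ProjSpace.toSpec n (ULift.{u} ℤ))
      (specULiftZIsTerminal.from (W : Scheme.{u})) ⟶
      pullback (CohB1.ProjSpace.toSpec n (ULift.{u} ℤ)) (specULiftZIsTerminal.from S) :=
    pullback.map _ _ _ _ (𝟙 _) W.ι (𝟙 _) (by simp) (specULiftZIsTerminal.hom_ext _ _)
  have hfst : iW ≫ fstW = j ≫ i ≫ fstS := pullback.lift_fst _ _ _
  have hsnd : iW ≫ pullback.snd _ _ = q ∣_ W := pullback.lift_snd _ _ _
  have hu : iW ≫ u = j ≫ i := by
    apply pullback.hom_ext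
    · have h1 : u ≫ fstS = fstW ≫ 𝟙 _ := pullback.lift_fst _ _ _
      calc (iW ≫ u) ≫ fstS = iW ≫ (u ≫ fstS) := Category.assoc _ _ _
        _ = iW ≫ fstW := by rw [h1, Category.comp_id]
        _ = j ≫ i ≫ fstS := hfst
        _ = (j ≫ i) ≫ fstS := (Category.assoc _ _ _).symm
    · have h1 : u ≫ pullback.snd _ _ = pullback.snd _ _ ≫ W.ι := pullback.lift_snd _ _ _
      calc (iW ≫ u) ≫ pullback.snd _ _ = iW ≫ (u ≫ pullback.snd _ _) := Category.assoc _ _ _
        _ = (iW ≫ pullback.snd _ _) ≫ W.ι := by rw [h1, Category.assoc]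
        _ = j ≫ q := by rw [hsnd]; exact morphismRestrict_ι q W
        _ = j ≫ i ≫ pullback.snd _ _ := by rw [hq']
        _ = (j ≫ i) ≫ pullback.snd _ _ := (Category.assoc _ _ _).symm
  haveI : IsImmersion (iW ≫ u) := by rw [hu]; infer_instance
  refine ⟨n, iW, IsImmersion.of_comp iW u, pullback.lift_snd _ _ _, ⟨?_⟩⟩
  exact (Scheme.Modules.restrictFunctorIsoPullback j).app L ≪≫
    (Scheme.Modules.pullback j).mapIso e ≪≫
    (Scheme.Modules.pullback j).mapIso ((Scheme.Modules.pullbackComp i fstS).app _) ≪≫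
    (Scheme.Modules.pullbackComp j (i ≫ fstS)).app _ ≪≫
    ((Scheme.Modules.pullbackCongr hfst).app _).symm ≪≫
    ((Scheme.Modules.pullbackComp iW fstW).app _).symm

/-- over an affine base: if a positive power of an invertible `L` is very ample (in the `P^m` sense) for a
quasi-compact `q`, then `L` is ample. -/
theorem isAmple_of_pow_veryAmple {Y : Scheme.{u}} [IsAffine Y] (q : X ⟶ Y) [QuasiCompact q] (L : X.Modules)
    (hL : PicF.IsInvertible L) (n : ℕ) (hn : 0 < n)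
    (h : RelAmple.IsRelVeryAmplePn q (CohB1.tensorPow L n)) : CohB1.IsAmple L := by
  obtain ⟨m, i, himm, hcomp, ⟨e⟩⟩ := h
  haveI : CompactSpace X := by
    have h1 : IsCompact (q ⁻¹' (Set.univ : Set Y)) :=
      QuasiCompact.isCompact_preimage (f := q) _ isOpen_univ isCompact_univ
    rw [Set.preimage_univ] at h1
    exact isCompact_univ_iff.1 h1
  have h1 : CohB1.IsAmple (Twist.twistProjSpace m (ULift.{u} ℤ) 1) := by
    have := Groth.Agent.Lib.T2H5.AmplePn.isAmple_twist_of_pos m (ULift.{u} ℤ) 1 Nat.one_pos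
    simpa using this
  haveI : IsAffineHom (specULiftZIsTerminal.from Y) := isAffineHom_of_isAffine _
  haveI : IsAffineHom (pullback.fst (CohB1.ProjSpace.toSpec m (ULift.{u} ℤ))
      (specULiftZIsTerminal.from Y)) :=
    MorphismProperty.pullback_fst _ _ inferInstance
  have h2 : CohB1.IsAmple (Twist.twistOver m Y 1) :=
    Groth.Agent.Lib.Helper23.PB.isAmple_pullback_of_isAffineHom
      (pullback.fst (CohB1.ProjSpace.toSpec m (ULift.{u} ℤ)) (specULiftZIsTerminal.from Y)) _ h1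
  have h3 : CohB1.IsAmple ((Scheme.Modules.pullback i).obj (Twist.twistOver m Y 1)) :=
    Groth.Agent.Lib.Helper23.PB.isAmple_pullback_of_isEmbedding i
      (Scheme.Hom.isEmbedding i) _ h2
  have h4 : CohB1.IsAmple (CohB1.tensorPow L n) :=
    Groth.Agent.Lib.Helper23.AmpleIso.isAmple_of_iso e.symm h3
  obtain ⟨-, hc, h⟩ := h4
  refine ⟨hL, hc, fun x => ?_⟩
  obtain ⟨k, σ, hxσ, haff⟩ := h x
  obtain ⟨k', hk'⟩ : ∃ k', n * (k + 1) = k' + 1 := ⟨n * (k + 1) - 1, by
    have : 0 < n * (k + 1) := Nat.mul_pos hn (Nat.succ_pos k)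
    omega⟩
  obtain ⟨Φ⟩ := Groth.Agent.Lib.Helper23.SecTw.nonempty_tensorPow_tensorPow_iso L hL n (k + 1) (k' + 1) hk'
  refine ⟨k', σ ≫ Φ.hom, ?_⟩
  rw [Groth.Agent.Lib.Helper23.AmpleIso.genLocus_comp_iso]
  exact ⟨hxσ, haff⟩

/-- over any base: if a positive power of an invertible `L` is very ample (in the `P^m` sense) for a
quasi-compact `q`, then `L` is relatively ample. -/
theorem isRelAmple_of_pow_veryAmple (q : X ⟶ S) [QuasiCompact q] (L : X.Modules)
    (hL : PicF.IsInvertible L) (n : ℕ) (hn : 0 < n)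
    (h : RelAmple.IsRelVeryAmplePn q (CohB1.tensorPow L n)) : RelAmple.IsRelAmple q L := by
  refine ⟨inferInstance, fun W => ?_⟩
  haveI : IsAffine (W.1 : Scheme.{u}) := W.2
  have h1 := restrict_base q _ W.1 h
  obtain ⟨Θ⟩ := Groth.Agent.Lib.Helper23.SecTw.nonempty_restrict_tensorPow_iso L hL (q ⁻¹ᵁ W.1) n
  have h2 := Groth.Agent.Lib.T2H6.VAmpleB.of_iso (q ∣_ W.1) Θ h1
  exact isAmple_of_pow_veryAmple (q ∣_ W.1) _
    (Groth.Agent.Lib.Helper23.SecTw.isInvertible_restrict L hL _) n hn h2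

end Groth.Agent.Lib.T2H6.VAmpleF
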