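-- helper6 (team 2): flat functors of algebraic stacks lift valuation rings after an extension.
import Mathlib
import Groth.Agent.Lib.T2H6FppfLift
import Groth.Agent.S10292

set_option autoImplicit false
set_option backward.isDefEq.respectTransparency false
set_option backward.isDefEq.respectTransparency.types false
open CategoryTheory CategoryTheory.Functor CategoryTheory.Limits Opposite AlgebraicGeometry

universe u

namespace Groth.Agent.Lib.T2H6.ValLift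

open Groth.Agent.Lib.Helper17 Groth.Agent.Lib.Helper15PshFib Groth.Agent.Lib.Helper15RepComp
  Groth.Agent.Lib.Helper15RepPsh Groth.Agent.Lib.Helper15DiagBase Groth.Agent.Lib.Helper15DiagRepSp
  Groth.Agent.Lib.Helper15Descent Groth.Agent.Lib.Helper15DiagLft
  Groth.Agent.Lib.Helper15DiagDescent Groth.Agent.Lib.Helper15SpMapRep
  Groth.Agent.Lib.Helper15SrcCancel Groth.Agent.Lib.Helper15ChartSp Groth.Agent.Lib.Helper15Atlas
  Groth.Agent.Lib.Helper15LocEss Groth.Agent.Lib.Helper15UnivComp Groth.Agent.Lib.Helper15SmLoc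
  Groth.Agent.Lib.Helper15PtsComp Groth.Agent.Lib.Helper15PtsTop Groth.Agent.Lib.Helper15PtsQc
  Groth.Agent.Lib.Helper15FpSwap Groth.Agent.Lib.Helper15QcLocal Groth.Agent.Lib.Helper15ClosedQc
  Groth.Agent.Lib.Helper15UnivPts Groth.Agent.Lib.Helper15BaseChange
  Groth.Agent.Lib.Helper15BaseChange2
  Groth.Agent.Lib.Helper15MonoSep Groth.Agent.Lib.Helper15QcRep Groth.Agent.Lib.Helper15LocQ
  Groth.Agent.Lib.Helper15LocQEngine Groth.Agent.Lib.Helper15LocQComp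
  Groth.Agent.Lib.Helper15LocQProps Groth.Agent.Lib.Helper15LocQRep
  Groth.Agent.Lib.Helper15GoodComp Groth.Agent.Lib.T2H6.FppfLift

variable {S : Scheme.{u}} {𝒳 𝒴 : AlgSt.Cat S}

/-- A point of a scheme `T` whose image under `a : T ⟶ 𝒴` is hit by `f` is hit by every chart of
the fibre product. -/
theorem exists_point_of_chart_fp (h𝒳 : AlgSt.IsAlgStack Scheme.fppfPrecoverage 𝒳)
    (h𝒴 : AlgSt.IsAlgStack Scheme.fppfPrecoverage 𝒴) (f : 𝒳 ⥤ᵇ 𝒴) {T W : Over S}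
    (a : FibCat.overCat T ⥤ᵇ 𝒴) (ℓ : FibCat.overCat W ⥤ᵇ FibCat.fp a f)
    (hℓ₂ : AlgSt.RepByAlgSpWith AlgSp.IsSurjectiveMor ℓ) (g : W ⟶ T)
    (lam : BasedFunctor.comp ℓ (FibCat.fpFst a f) ≅ AlgSt.overMap g) (s : ↥T.left)
    (hs : AlgSt.Points.ofChart a s ∈ Set.range (AlgSt.Points.map f)) :
    ∃ t₀ : ↥W.left, g.left t₀ = s := by
  have hT := isAlgStack_overCat T
  have h𝒲 : AlgSt.IsAlgStack Scheme.fppfPrecoverage (FibCat.fp a f) :=
    isAlgStack_fp_of_isPrestack (IsStack.isPrestack _ h𝒴.isStack) h𝒴.diag hT h𝒳 a f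
  obtain ⟨p', hp'⟩ := hs
  obtain ⟨w, hw₁, -⟩ := points_fp_surjective h𝒳.isStack.1 h𝒴.isStack.1 hT.isStack.1
    f a (ptOver T s) p' hp'.symm
  have hℓs : AlgSt.IsSurjective ℓ :=
    (isSurjective_iff_repByAlgSpWith (isAlgStack_overCat W) h𝒲 _
      (repByAlgSp1_of_repByAlgSpWith _ _ hℓ₂)).2 hℓ₂
  obtain ⟨t, rfl⟩ := hℓs w
  obtain ⟨t₀, rfl⟩ := (ptOver_bijective W).2 t
  refine ⟨t₀, ?_⟩
  apply (ptOver_bijective T).1
  rw [← hw₁, ← points_map_comp, ← ptOver_map]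
  exact (points_map_congr _ _ ((BasedNatTrans.forgetful _ _).mapIso lam) _).symm

theorem exists_valuationRing_lift (h𝒳 : AlgSt.IsAlgStack Scheme.fppfPrecoverage 𝒳)
    (h𝒴 : AlgSt.IsAlgStack Scheme.fppfPrecoverage 𝒴) (f : 𝒳 ⥤ᵇ 𝒴)
    (hf : AlgSt.LocQ (AlgSp.LocP @Flat) f)
    (A : Type u) [CommRing A] [IsDomain A] [ValuationRing A] (sA : Spec (CommRingCat.of A) ⟶ S)
    (a : FibCat.overCat (Over.mk sA) ⥤ᵇ 𝒴)
    (ha : AlgSt.Points.ofChart a (IsLocalRing.closedPoint A) ∈ Set.range (AlgSt.Points.map f)) :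
    ∃ (A' : Type u) (_ : CommRing A') (_ : IsDomain A') (_ : ValuationRing A') (φ : A →+* A'),
      Function.Injective φ ∧ IsLocalHom φ ∧
      ∃ x : FibCat.overCat (Over.mk (Spec.map (CommRingCat.ofHom φ) ≫ sA)) ⥤ᵇ 𝒳,
        Nonempty (BasedFunctor.comp x f ≅
          BasedFunctor.comp (AlgSt.overMap (Over.homMk (Spec.map (CommRingCat.ofHom φ)) rfl :
            Over.mk (Spec.map (CommRingCat.ofHom φ) ≫ sA) ⟶ Over.mk sA)) a) := by
  have hT := isAlgStack_overCat (Over.mk sA)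
  have h𝒲 : AlgSt.IsAlgStack Scheme.fppfPrecoverage (FibCat.fp a f) :=
    isAlgStack_fp_of_isPrestack (IsStack.isPrestack _ h𝒴.isStack) h𝒴.diag hT h𝒳 a f
  obtain ⟨W, ℓ, hℓ₁, hℓ₂⟩ := h𝒲.atlas
  obtain ⟨g, ⟨lam⟩⟩ := exists_iso_overMap (BasedFunctor.comp ℓ (FibCat.fpFst a f))
  have h1 : AlgSt.LocQ (AlgSp.LocP @Flat) (FibCat.fpFst a f) :=
    Groth.Agent.Lib.T2H6.LocQBC.locQ_fpFst _ isSmoothLocalST_flat bcStable_flat h𝒳 h𝒴 hT
      f a hf
  have hg : AlgSp.LocP @Flat ((AlgSp.yon S).map g) :=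
    prop_of_chart_to_slice _ isSmoothLocalST_flat h𝒲 _ h1 ℓ hℓ₁ g lam
  obtain ⟨t₀, ht₀⟩ := exists_point_of_chart_fp h𝒳 h𝒴 f a ℓ hℓ₂ g lam _ ha
  let WW : AlgSp.Space S := ⟨(AlgSp.yon S).obj W, AlgSp.IsAlgSpace.yon_obj W⟩
  let TT : AlgSp.Space S := ⟨(AlgSp.yon S).obj (Over.mk sA), AlgSp.IsAlgSpace.yon_obj _⟩
  let gg : WW ⟶ TT := ObjectProperty.homMk ((AlgSp.yon S).map g)
  obtain ⟨A', i1, i2, i3, φ, hφ₁, hφ₂, l, hl⟩ := Groth.Agent.S10292.result gg hg A sA (𝟙 _)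
    ⟨AlgSp.Points.ofScheme W t₀, by
      rw [show gg.hom = (AlgSp.yon S).map g from rfl, points_map_yon_ofScheme, ht₀]⟩
  refine ⟨A', i1, i2, i3, φ, hφ₁, hφ₂, ?_⟩
  obtain ⟨l₀, rfl⟩ := (AlgSp.yon S).map_surjective l
  have hl₀ : l₀ ≫ g = (Over.homMk (Spec.map (CommRingCat.ofHom φ)) rfl :
      Over.mk (Spec.map (CommRingCat.ofHom φ) ≫ sA) ⟶ Over.mk sA) := by
    apply (AlgSp.yon S).map_injective
    rw [Functor.map_comp]
    exact hl.trans (Category.comp_id _)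
  refine ⟨BasedFunctor.comp (AlgSt.overMap l₀) (BasedFunctor.comp ℓ (FibCat.fpSnd a f)), ⟨?_⟩⟩
  refine (whiskerLeftIso (AlgSt.overMap l₀)
    ((whiskerLeftIso ℓ (FibCat.fpIso a f)).symm ≪≫ whiskerRightIso lam a) : _ ≅
      BasedFunctor.comp (BasedFunctor.comp (AlgSt.overMap l₀) (AlgSt.overMap g)) a) ≪≫ ?_
  rw [← hl₀]
  exact whiskerRightIso (overMapCompIso l₀ g) a

end Groth.Agent.Lib.T2H6.ValLift
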