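-- helper6 (team 2): points in the closure of the image of a quasi-compact functor of algebraic
-- stacks are witnessed by valuation rings.
import Mathlib
import Groth.Agent.Lib.T2H6ValLift
import Groth.Agent.Lib.Helper12ClosureImage
import Groth.Agent.S4447

set_option autoImplicit false
set_option backward.isDefEq.respectTransparency false
set_option backward.isDefEq.respectTransparency.types false
open CategoryTheory CategoryTheory.Functor CategoryTheory.Limits Opposite AlgebraicGeometry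

universe u

namespace Groth.Agent.Lib.T2H6.ValWitness

section Sch

/-- A specialization of the image of a point is the closed point of a valuation ring of the
residue field, possibly the whole field. -/
theorem exists_valuationSubring_through {X Y : Scheme.{u}} (p : X ⟶ Y) (x : X) (y' : Y)
    (hsp : p.base x ⤳ y') :
    ∃ (A : ValuationSubring (X.residueField x)) (h : Spec (CommRingCat.of A) ⟶ Y),
      h.base (IsLocalRing.closedPoint A) = y' ∧
      Spec.map (CommRingCat.ofHom A.subtype) ≫ h = X.fromSpecResidueField x ≫ p := by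
  by_cases hne : y' = p.base x
  · subst hne
    let e : (⊤ : ValuationSubring (X.residueField x)) ≃+* X.residueField x :=
      Subring.topEquiv
    have he : (e : (⊤ : ValuationSubring (X.residueField x)) →+* X.residueField x) =
        (⊤ : ValuationSubring (X.residueField x)).subtype := rfl
    refine ⟨⊤, Spec.map (CommRingCat.ofHom (e.symm : X.residueField x →+*
      (⊤ : ValuationSubring (X.residueField x)))) ≫ X.fromSpecResidueField x ≫ p, ?_, ?_⟩
    · rw [Scheme.Hom.comp_base, Scheme.Hom.comp_base]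
      change p.base ((X.fromSpecResidueField x).base _) = _
      congr 1
      exact Scheme.fromSpecResidueField_apply _ _
    · have hid : (⊤ : ValuationSubring (X.residueField x)).subtype.comp
          (e.symm : X.residueField x →+* (⊤ : ValuationSubring (X.residueField x))) =
          RingHom.id _ := by
        ext a
        exact e.apply_symm_apply a
      rw [← Category.assoc, ← Spec.map_comp, ← CommRingCat.ofHom_comp, hid]
      simp
  · obtain ⟨A, h, -, h1, h2⟩ := Groth.Agent.S4447.result p x y' hsp hne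
    exact ⟨A, h, h1, h2⟩

end Sch

section Main

open Groth.Agent.Lib.Helper17 Groth.Agent.Lib.Helper15PshFib Groth.Agent.Lib.Helper15RepComp
  Groth.Agent.Lib.Helper15RepPsh Groth.Agent.Lib.Helper15DiagBase Groth.Agent.Lib.Helper15DiagRepSp
  Groth.Agent.Lib.Helper15Descent Groth.Agent.Lib.Helper15DiagLft
  Groth.Agent.Lib.Helper15DiagDescent Groth.Agent.Lib.Helper15SpMapRep
  Groth.Agent.Lib.Helper15SrcCancel Groth.Agent.Lib.Helper15ChartSp Groth.Agent.Lib.Helper15Atlas
  Groth.Agent.Lib.Helper15LocEss Groth.Agent.Lib.Helper15UnivComp Groth.Agent.Lib.Helper15SmLoc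
  Groth.Agent.Lib.Helper15PtsComp Groth.Agent.Lib.Helper15PtsTop Groth.Agent.Lib.Helper15PtsQc
  Groth.Agent.Lib.Helper15FpSwap Groth.Agent.Lib.Helper15QcLocal Groth.Agent.Lib.Helper15ClosedQc
  Groth.Agent.Lib.Helper15UnivPts Groth.Agent.Lib.Helper15BaseChange
  Groth.Agent.Lib.Helper15BaseChange2
  Groth.Agent.Lib.Helper15MonoSep Groth.Agent.Lib.Helper15QcRep Groth.Agent.Lib.Helper15LocQ
  Groth.Agent.Lib.Helper15LocQEngine Groth.Agent.Lib.Helper15LocQComp
  Groth.Agent.Lib.Helper15LocQProps Groth.Agent.Lib.Helper15LocQRep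
  Groth.Agent.Lib.Helper15GoodComp Groth.Agent.Lib.T2H6.FppfLift Groth.Agent.Lib.T2H6.ValLift

variable {S : Scheme.{u}} {𝒳 𝒴 : AlgSt.Cat S}

/-- a point of the closure of the image lifts to a specialization on an affine chart -/
theorem exists_chart_specializes (h𝒳 : AlgSt.IsAlgStack Scheme.fppfPrecoverage 𝒳)
    (h𝒴 : AlgSt.IsAlgStack Scheme.fppfPrecoverage 𝒴) (f : 𝒳 ⥤ᵇ 𝒴)
    (hf : AlgSt.IsQuasiCompactMor Scheme.fppfPrecoverage f)
    (y : AlgSt.Points 𝒴) (hy : y ∈ closure (Set.range (AlgSt.Points.map f))) :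
    ∃ (V₀ W : Over S) (y₀ : FibCat.overCat V₀ ⥤ᵇ 𝒴) (x₀ : FibCat.overCat W ⥤ᵇ 𝒳) (g : W ⟶ V₀)
      (_ : BasedFunctor.comp x₀ f ≅ BasedFunctor.comp (AlgSt.overMap g) y₀) (v₁ : ↥V₀.left)
      (w : ↥W.left), AlgSt.Points.ofChart y₀ v₁ = y ∧ g.left w ⤳ v₁ := by
  obtain ⟨V, yV, hyV₁, hyV₂⟩ := h𝒴.atlas
  obtain ⟨v, hv⟩ := surjective_ofChart h𝒴 yV hyV₂ y
  obtain ⟨_, ⟨U₀, hU₀, rfl⟩, hvU, -⟩ :=
    V.left.isBasis_affineOpens.exists_subset_of_mem_open (Set.mem_univ v) isOpen_univ
  obtain ⟨U, hU, hUU₀⟩ : ∃ U : V.left.Opens, IsAffineOpen U ∧ U = U₀ := ⟨U₀, hU₀, rfl⟩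
  subst hUU₀
  let V₀ : Over S := Over.mk (U.ι ≫ V.hom)
  let j : V₀ ⟶ V := Over.homMk U.ι rfl
  have hVaff : IsAffine V₀.left := hU
  let y₀ : FibCat.overCat V₀ ⥤ᵇ 𝒴 := BasedFunctor.comp (AlgSt.overMap j) yV
  have hy₀ : AlgSt.RepByAlgSpWith (AlgSp.LocP @Smooth) y₀ :=
    smooth_overMap_comp j (inferInstanceAs (Etale U.ι)) yV hyV₁
  let v₁ : ↥V₀.left := ⟨v, hvU⟩
  have hv₁ : AlgSt.Points.ofChart y₀ v₁ = y := by
    rw [ofChart_overMap]
    exact hv
  have hV₀ := isAlgStack_overCat V₀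
  have hqc : AlgSt.IsQuasiCompact (FibCat.overCat V₀) :=
    ⟨V₀, BasedFunctor.id _, hVaff,
      Groth.Agent.Lib.Helper15EquivRep.repByAlgSpWith_of_isEquivOver _ locP_smooth_id _
        (isEquivOver_id _),
      Groth.Agent.Lib.Helper15EquivRep.repByAlgSpWith_of_isEquivOver _ isSurjectiveMor_id _
        (isEquivOver_id _)⟩
  obtain ⟨W, ℓ, hWaff, hℓ₁, hℓ₂⟩ := hf (FibCat.overCat V₀) hV₀ hqc y₀
  obtain ⟨g, ⟨lam⟩⟩ := exists_iso_overMap (BasedFunctor.comp ℓ (FibCat.fpFst y₀ f))
  have hopen : IsOpenMap (AlgSt.Points.ofChart y₀) :=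
    isOpenMap_ofChart h𝒴 y₀ (flat_of_smooth hy₀) (lfp_of_smooth hy₀)
  have hcl : v₁ ∈ closure (Set.range g.left) := by
    have h1 : v₁ ∈ AlgSt.Points.ofChart y₀ ⁻¹' closure (Set.range (AlgSt.Points.map f)) := by
      change AlgSt.Points.ofChart y₀ v₁ ∈ closure (Set.range (AlgSt.Points.map f))
      rw [hv₁]
      exact hy
    refine closure_mono ?_ (hopen.preimage_closure_subset_closure_preimage h1)
    intro s hs
    exact exists_point_of_chart_fp h𝒳 h𝒴 f y₀ ℓ hℓ₂ g lam s hs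
  have : IsAffine W.left := hWaff
  have : QuasiCompact g.left := inferInstance
  obtain ⟨w, hw⟩ := Groth.Agent.Lib.Helper12.exists_specializes_of_mem_closure_range
    g.left v₁ hcl
  refine ⟨V₀, W, y₀, BasedFunctor.comp ℓ (FibCat.fpSnd y₀ f), g, ?_, v₁, w, hv₁, hw⟩
  exact (whiskerLeftIso ℓ (FibCat.fpIso y₀ f)).symm ≪≫ whiskerRightIso lam y₀

theorem exists_valuationRing_witness (h𝒳 : AlgSt.IsAlgStack Scheme.fppfPrecoverage 𝒳)
    (h𝒴 : AlgSt.IsAlgStack Scheme.fppfPrecoverage 𝒴) (f : 𝒳 ⥤ᵇ 𝒴)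
    (hf : AlgSt.IsQuasiCompactMor Scheme.fppfPrecoverage f)
    (y : AlgSt.Points 𝒴) (hy : y ∈ closure (Set.range (AlgSt.Points.map f))) :
    ∃ (A : Type u) (_ : CommRing A) (_ : IsDomain A) (_ : ValuationRing A)
      (sA : Spec (CommRingCat.of A) ⟶ S)
      (a : FibCat.overCat (Over.mk sA) ⥤ᵇ 𝒴)
      (x : FibCat.overCat (Over.mk (Spec.map (CommRingCat.ofHom (algebraMap A (FractionRing A))) ≫
        sA)) ⥤ᵇ 𝒳),
      Nonempty (BasedFunctor.comp x f ≅
        BasedFunctor.comp (AlgSt.overMap (Over.homMk (Spec.map (CommRingCat.ofHom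
          (algebraMap A (FractionRing A)))) rfl :
          Over.mk (Spec.map (CommRingCat.ofHom (algebraMap A (FractionRing A))) ≫ sA) ⟶
            Over.mk sA)) a) ∧
      AlgSt.Points.ofChart a (IsLocalRing.closedPoint A) = y := by
  obtain ⟨V₀, W, y₀, x₀, g, α, v₁, w, hv₁, hw⟩ := exists_chart_specializes h𝒳 h𝒴 f hf y hy
  obtain ⟨A, h, h1, h2⟩ := exists_valuationSubring_through g.left w v₁ hw
  let sA : Spec (CommRingCat.of A) ⟶ S := h ≫ V₀.hom
  let h' : Over.mk sA ⟶ V₀ := Over.homMk h rfl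
  let a : FibCat.overCat (Over.mk sA) ⥤ᵇ 𝒴 := BasedFunctor.comp (AlgSt.overMap h') y₀
  let e : FractionRing A ≃ₐ[A] W.left.residueField w := FractionRing.algEquiv A _
  let ιK : Spec (CommRingCat.of (FractionRing A)) ⟶ Spec (CommRingCat.of A) :=
    Spec.map (CommRingCat.ofHom (algebraMap A (FractionRing A)))
  let m : Spec (CommRingCat.of (FractionRing A)) ⟶ W.left :=
    Spec.map (CommRingCat.ofHom (e.symm : W.left.residueField w →+* FractionRing A)) ≫
      W.left.fromSpecResidueField w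
  have hm : m ≫ g.left = ιK ≫ h := by
    have hcomp : (e.symm : W.left.residueField w →+* FractionRing A).comp A.subtype =
        algebraMap A (FractionRing A) := by
      ext b
      exact e.symm.commutes b
    change (Spec.map _ ≫ _) ≫ _ = Spec.map _ ≫ _
    rw [Category.assoc, ← h2, ← Category.assoc, ← Spec.map_comp, ← CommRingCat.ofHom_comp, hcomp]
  let TK : Over S := Over.mk (ιK ≫ sA)
  let m' : TK ⟶ W := Over.homMk m (by
    change m ≫ W.hom = ιK ≫ h ≫ V₀.hom
    rw [← Over.w g, ← Category.assoc, hm, Category.assoc])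
  let ιK' : TK ⟶ Over.mk sA := Over.homMk ιK rfl
  have hsq : m' ≫ g = ιK' ≫ h' := by
    ext
    exact hm
  refine ⟨↥A, inferInstance, inferInstance, inferInstance, sA, a,
    BasedFunctor.comp (AlgSt.overMap m') x₀, ⟨?_⟩, ?_⟩
  · refine (whiskerLeftIso (AlgSt.overMap m') α : _ ≅ BasedFunctor.comp
      (BasedFunctor.comp (AlgSt.overMap m') (AlgSt.overMap g)) y₀) ≪≫
      whiskerRightIso (overMapCompIso m' g) y₀ ≪≫ ?_
    rw [hsq]
    exact (whiskerRightIso (overMapCompIso ιK' h') y₀).symm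
  · change AlgSt.Points.ofChart (BasedFunctor.comp (AlgSt.overMap h') y₀) _ = y
    rw [ofChart_overMap]
    change AlgSt.Points.ofChart y₀ (h.base (IsLocalRing.closedPoint A)) = y
    rw [h1, hv₁]

end Main

end Groth.Agent.Lib.T2H6.ValWitness
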