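-- helper6 (team 2): an algebraic stack affine over a well-nigh affine one is well-nigh affine.
import Mathlib
import Groth.Prelude.Def_W4stkstmodspWNA
import Groth.Agent.Lib.T2H6RepDiag
import Groth.Agent.Lib.Helper17AlgStRep
import Groth.Agent.Lib.Helper17AlgStEquiv

set_option autoImplicit false
set_option backward.isDefEq.respectTransparency false
set_option backward.isDefEq.respectTransparency.types false
open CategoryTheory CategoryTheory.Functor CategoryTheory.Limits Opposite AlgebraicGeometry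

universe u

namespace Groth.Agent.Lib.T2H6.WNA

open Groth.Agent.Lib.Helper17 Groth.Agent.Lib.Helper15PshFib Groth.Agent.Lib.Helper15DiagLft
  Groth.Agent.Lib.Helper15DiagRepSp Groth.Agent.Lib.T2H6.RepDiag

variable {S : Scheme.{u}} {𝒳 𝒳' : AlgSt.Cat S}

theorem isWellNighAffine_of_isAffineMor
    (hw : AlgSt.IsWellNighAffine 𝒳) (f : 𝒳' ⥤ᵇ 𝒳) (hf : AlgSt.RepByAlgSpWith AlgSp.IsAffineMor f) :
    AlgSt.IsWellNighAffine 𝒳' := by
  obtain ⟨U, x, hU, hx⟩ := hw
  obtain ⟨F, e, he, hP⟩ := hf U x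
  obtain ⟨W, i, fst, sq, hW⟩ := hP hU (𝟙 ((AlgSp.yon S).obj U))
  have : IsIso fst := sq.isIso_fst_of_isIso
  let ι := asIso fst
  have h1 : FibCat.IsEquivOver (AlgSt.ofSpMap ι.hom) :=
    isEquivOver_ofPshMap_of_inv ι.hom.hom ι.inv.hom (congrArg (·.hom) ι.hom_inv_id)
      (congrArg (·.hom) ι.inv_hom_id)
  obtain ⟨I, hI, -, -⟩ := IsEquivOver.exists_inverse_isEquivOver' (AlgSt.toOverCat W)
    (isEquivOver_toOverCat W)
  let E : FibCat.overCat W ⥤ᵇ FibCat.fp x f :=
    BasedFunctor.comp I (BasedFunctor.comp (AlgSt.ofSpMap ι.hom) e)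
  have hE : FibCat.IsEquivOver E := IsEquivOver.comp _ _ hI (IsEquivOver.comp _ _ h1 he)
  refine ⟨W, BasedFunctor.comp E (FibCat.fpSnd x f), hW, ?_⟩
  exact (repByAlgSpWith_of_square _ (FibCat.fpSnd x f) (BasedFunctor.comp E (FibCat.fpSnd x f)) E
    (BasedFunctor.id _) hE (isEquivOver_id _) (Iso.refl _)).1 (repByAlgSpWith_fpSnd _ x f hx)

end Groth.Agent.Lib.T2H6.WNA
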