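-- helper6 (team 2): a well-nigh affine algebraic stack is quasi-compact, quasi-DM and separated.
import Mathlib
import Groth.Prelude.Def_W4stkstmodspWNA
import Groth.Agent.Lib.Helper15ChartSp
import Groth.Agent.Lib.Helper15PtsQc
import Groth.Agent.Lib.T2H6CancelP
import Groth.Agent.Lib.T2H6QcProd
import Groth.Agent.S10267
import Groth.Agent.S10271
import Groth.Agent.S10278
import Groth.Agent.S10536
import Groth.Agent.S9948

set_option autoImplicit false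
set_option backward.isDefEq.respectTransparency false
set_option backward.isDefEq.respectTransparency.types false
open CategoryTheory CategoryTheory.Functor CategoryTheory.Limits Opposite AlgebraicGeometry

universe u

namespace Groth.Agent.Lib.T2H6.WNASep

open Groth.Agent.Lib.Helper17 Groth.Agent.Lib.Helper15PshFib Groth.Agent.Lib.Helper15RepComp
  Groth.Agent.Lib.Helper15RepPsh Groth.Agent.Lib.Helper15DiagBase Groth.Agent.Lib.Helper15DiagRepSp
  Groth.Agent.Lib.Helper15Descent Groth.Agent.Lib.Helper15DiagLft Groth.Agent.Lib.Helper15SpMapRep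
  Groth.Agent.Lib.Helper15LocQEngine Groth.Agent.Lib.T2H6.Slice Groth.Agent.Lib.Helper15DiagDescent
  Groth.Agent.Lib.Helper15ChartSp Groth.Agent.Lib.Helper15PtsTop

variable {S : Scheme.{u}}

section Props

theorem isProperMor_of_isFiniteMor {F G : AlgSp.Sp S} (hF : AlgSp.IsAlgSpace F)
    (hG : AlgSp.IsAlgSpace G) (f : F ⟶ G) (hf : AlgSp.IsFiniteMor f) : AlgSp.IsProperMor f := by
  let X : AlgSp.Space S := ⟨F, hF⟩
  let Y : AlgSp.Space S := ⟨G, hG⟩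
  let f' : X ⟶ Y := ObjectProperty.homMk f
  exact ((Groth.Agent.S10271.result f').1 hf).2

theorem lqf_of_isFiniteMor {F G : AlgSp.Sp S} (hF : AlgSp.IsAlgSpace F)
    (hG : AlgSp.IsAlgSpace G) (f : F ⟶ G) (hf : AlgSp.IsFiniteMor f) :
    AlgSp.LocP (@LocallyQuasiFinite ⊓ @LocallyOfFiniteType) f := by
  let X : AlgSp.Space S := ⟨F, hF⟩
  let Y : AlgSp.Space S := ⟨G, hG⟩
  let f' : X ⟶ Y := ObjectProperty.homMk f
  have h1 : AlgSp.RepWith @IsFinite f := (Groth.Agent.S10267.result f').2.1 hf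
  have h2 : AlgSp.RepWith (@LocallyQuasiFinite ⊓ @LocallyOfFiniteType) f :=
    Groth.Agent.Lib.Helper15OpenSub.repWith_mono (fun A B g hg => by
      have : IsFinite g := hg
      exact ⟨inferInstance, inferInstance⟩) h1
  exact (Groth.Agent.S9948.result (@LocallyQuasiFinite ⊓ @LocallyOfFiniteType)
    (Or.inr (Or.inr (Or.inr (Or.inr (Or.inr (Or.inl (fun A B g => Iff.rfl))))))) f' h2.1).2 h2

end Props

section Main

variable {𝒳 : AlgSt.Cat S}

theorem isQuasiCompact_of_chart (h𝒳 : AlgSt.IsAlgStack Scheme.fppfPrecoverage 𝒳) {U : Over S}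
    (hU : IsAffine U.left) (u : FibCat.overCat U ⥤ᵇ 𝒳)
    (hu : AlgSt.RepByAlgSpWith AlgSp.IsSurjectiveMor u) : AlgSt.IsQuasiCompact 𝒳 := by
  rw [Groth.Agent.Lib.Helper15PtsQc.isQuasiCompact_iff_compactSpace h𝒳]
  have hsurj := surjective_ofChart h𝒳 u hu
  have hcont := continuous_ofChart h𝒳 u
  refine ⟨?_⟩
  rw [← Set.image_univ_of_surjective hsurj]
  exact isCompact_univ.image hcont

theorem isQuasiDMOver_of_chart (h𝒳 : AlgSt.IsAlgStack Scheme.fppfPrecoverage 𝒳) {U : Over S}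
    (u : FibCat.overCat U ⥤ᵇ 𝒳)
    (hu₁ : AlgSt.RepByAlgSpWith (AlgSp.LocP @Flat) u)
    (hu₂ : AlgSt.RepByAlgSpWith (AlgSp.LocP @LocallyOfFinitePresentation) u)
    (hu₃ : AlgSt.RepByAlgSpWith AlgSp.IsSurjectiveMor u)
    (hu₄ : AlgSt.RepByAlgSpWith AlgSp.IsFiniteMor u) : AlgSt.IsQuasiDMOver 𝒳 := by
  let W : AlgSp.Space S := ⟨(AlgSp.yon S).obj U, AlgSp.IsAlgSpace.yon_obj U⟩
  let w : AlgSt.ofSp W.obj ⥤ᵇ 𝒳 := BasedFunctor.comp (AlgSt.toOverCat U) u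
  have tr : ∀ Q : MorphismProperty (AlgSp.Sp S), AlgSt.RepByAlgSpWith Q u →
      AlgSt.RepByAlgSpWith Q w := fun Q h =>
    (repByAlgSpWith_of_square Q u w (AlgSt.toOverCat U) (BasedFunctor.id _)
      (isEquivOver_toOverCat U) (isEquivOver_id _) (Iso.refl _)).1 h
  have hu₅ : AlgSt.RepByAlgSpWith (AlgSp.LocP (@LocallyQuasiFinite ⊓ @LocallyOfFiniteType)) u := by
    intro T y
    obtain ⟨F, e, he, hP⟩ := hu₄ T y
    exact ⟨F, e, he, lqf_of_isFiniteMor F.property (AlgSp.IsAlgSpace.yon_obj T) _ hP⟩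
  exact isQuasiDMOver_of_lqf_cover h𝒳.diag W w (tr _ hu₁) (tr _ hu₂) (tr _ hu₃) (tr _ hu₅)

section Slice

variable {𝒜 ℬ : AlgSt.Cat S}

/-- Cancellation over a slice with two properties: the second functor has `Q₁` on a chosen
representing space, the composite is representable with `Q₂`. -/
theorem repByAlgSpWith_of_comp_to_slice₂ (Q₁ Q₂ : MorphismProperty (AlgSp.Sp S))
    (hQb : BCStable Q₂)
    (hcancel : ∀ ⦃X Y Z : AlgSp.Sp S⦄, AlgSp.IsAlgSpace X → AlgSp.IsAlgSpace Y →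
      AlgSp.IsAlgSpace Z → ∀ (a : X ⟶ Y) (b : Y ⟶ Z), Q₁ b → Q₂ (a ≫ b) → Q₂ a)
    (h𝒜 : AlgSt.RepByAlgSp 𝒜) (B : AlgSp.Space S) (eB : AlgSt.ofSp B.obj ⥤ᵇ ℬ)
    (heB : FibCat.IsEquivOver eB) (r : 𝒜 ⥤ᵇ ℬ) {T : Over S}
    (p : ℬ ⥤ᵇ FibCat.overCat T) (hp : Q₁ (AlgSt.spMapOfOver (BasedFunctor.comp eB p)))
    (h : AlgSt.RepByAlgSpWith Q₂ (BasedFunctor.comp r p)) :
    AlgSt.RepByAlgSpWith Q₂ r := by
  obtain ⟨A, eA, heA⟩ := h𝒜
  obtain ⟨eB', heB', -, ⟨β⟩⟩ := IsEquivOver.exists_inverse_isEquivOver' eB heB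
  let r' : AlgSt.ofSp A.obj ⥤ᵇ AlgSt.ofSp B.obj :=
    BasedFunctor.comp eA (BasedFunctor.comp r eB')
  let a₀ : A.obj ⟶ B.obj := ObjectProperty.homMk (pshMapOf r')
  let a : A ⟶ B := ObjectProperty.homMk a₀
  let σ : BasedFunctor.comp (AlgSt.ofSpMap a₀) eB ≅ BasedFunctor.comp eA r :=
    (whiskerRightIso (ofPshMapIso r') eB : _ ≅
      BasedFunctor.comp (BasedFunctor.comp eA r) (BasedFunctor.comp eB' eB)) ≪≫
    whiskerLeftIso (BasedFunctor.comp eA r) β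
  have h1 : Q₂ (a₀ ≫ AlgSt.spMapOfOver (BasedFunctor.comp eB p)) := by
    rw [← spMapOfOver_ofSpMap_comp]
    have h2 := spMapOfOver_eq_of_iso
      (BasedFunctor.comp (AlgSt.ofSpMap a₀) (BasedFunctor.comp eB p))
      (BasedFunctor.comp eA (BasedFunctor.comp r p)) (whiskerRightIso σ p)
    rw [h2]
    exact prop_spMapOfOver_of_repByAlgSpWith Q₂ hQb _ h A eA heA
  have h3 : Q₂ a₀ := hcancel A.property B.property (AlgSp.IsAlgSpace.yon_obj T) a₀ _ hp h1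
  have h4 : AlgSt.RepByAlgSpWith Q₂ (AlgSt.ofSpMap a.hom) := repByAlgSpWith_ofSpMap Q₂ hQb A B a h3
  exact (repByAlgSpWith_of_square Q₂ r (AlgSt.ofSpMap a₀) eA eB heA heB σ).2 h4

end Slice

section Sep

variable {𝒳 : AlgSt.Cat S}

theorem exists_equiv_prod (U : Over S)
    (g₁ g₂ : FibCat.overCat U ⥤ᵇ FibCat.selfOver (Over S)) :
    ∃ E : FibCat.overCat (U ⨯ U) ⥤ᵇ FibCat.fp g₁ g₂, FibCat.IsEquivOver E := by
  obtain rfl := Groth.Agent.Lib.T2H6.QcProd.eq_toSelf g₁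
  obtain rfl := Groth.Agent.Lib.T2H6.QcProd.eq_toSelf g₂
  exact ⟨toProdSlice U U, isEquivOver_toProdSlice U U⟩

theorem isSeparated_left_of_prod (U : Over S) [IsAffine U.left] (j : U ⨯ U ⟶ U) :
    IsSeparated j.left := by
  have h1 : (Limits.prod.fst : U ⨯ U ⟶ U).left =
      (Over.prodLeftIsoPullback U U).hom ≫ pullback.fst U.hom U.hom :=
    (Over.prodLeftIsoPullback_hom_fst U U).symm
  have h2 : IsSeparated (Limits.prod.fst : U ⨯ U ⟶ U).left := by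
    rw [h1]; infer_instance
  have h3 : j.left ≫ U.hom = (Limits.prod.fst : U ⨯ U ⟶ U).left ≫ U.hom :=
    (Over.w j).trans (Over.w _).symm
  have h4 : IsSeparated (j.left ≫ U.hom) := by
    rw [h3]; infer_instance
  exact IsSeparated.of_comp j.left U.hom

theorem isSeparatedOver_of_chart (h𝒳 : AlgSt.IsAlgStack Scheme.fppfPrecoverage 𝒳) {U : Over S}
    (hU : IsAffine U.left) (u : FibCat.overCat U ⥤ᵇ 𝒳)
    (hu₁ : AlgSt.RepByAlgSpWith (AlgSp.LocP @Flat) u)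
    (hu₂ : AlgSt.RepByAlgSpWith (AlgSp.LocP @LocallyOfFinitePresentation) u)
    (hu₃ : AlgSt.RepByAlgSpWith AlgSp.IsSurjectiveMor u)
    (hu₄ : AlgSt.RepByAlgSpWith AlgSp.IsFiniteMor u) : AlgSt.IsSeparatedOver 𝒳 := by
  have hX := h𝒳.diag
  have hY : AlgSt.RepByAlgSp1 (FibCat.diag (FibCat.toSelf (FibCat.selfOver (Over S)))) :=
    repByAlgSp1_diag_toSelf_iff.2 (fun U x V y => repByAlgSp_fp_selfOver V U y x)
  have hΔ : AlgSt.RepByAlgSp1 (FibCat.diag (FibCat.toSelf 𝒳)) :=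
    repByAlgSp1_diag_of_diag (FibCat.toSelf 𝒳) hX hY
  have h𝒜 : AlgSt.RepByAlgSp (FibCat.fp u u) := repByAlgSp1_of_repByAlgSp1_diag hX U u U u
  have hu₅ : AlgSt.RepByAlgSpWith AlgSp.IsProperMor u := by
    intro T y
    obtain ⟨F, e, he, hP⟩ := hu₄ T y
    exact ⟨F, e, he, isProperMor_of_isFiniteMor F.property (AlgSp.IsAlgSpace.yon_obj T) _ hP⟩
  have h1 : AlgSt.RepByAlgSpWith AlgSp.IsProperMor (FibCat.fpFst u u) :=
    repByAlgSpWith_fpFst _ u u hu₅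
  obtain ⟨E, hE⟩ := exists_equiv_prod U (BasedFunctor.comp u (FibCat.toSelf 𝒳))
    (BasedFunctor.comp u (FibCat.toSelf 𝒳))
  let B : AlgSp.Space S := ⟨(AlgSp.yon S).obj (U ⨯ U), AlgSp.IsAlgSpace.yon_obj _⟩
  let eB : AlgSt.ofSp B.obj ⥤ᵇ FibCat.fp (BasedFunctor.comp u (FibCat.toSelf 𝒳))
      (BasedFunctor.comp u (FibCat.toSelf 𝒳)) := BasedFunctor.comp (AlgSt.toOverCat (U ⨯ U)) E
  have heB : FibCat.IsEquivOver eB := IsEquivOver.comp _ _ (isEquivOver_toOverCat _) hE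
  have hp : AlgSp.IsSeparatedMor (AlgSt.spMapOfOver (BasedFunctor.comp eB
      (FibCat.fpFst (BasedFunctor.comp u (FibCat.toSelf 𝒳))
        (BasedFunctor.comp u (FibCat.toSelf 𝒳))))) := by
    obtain ⟨j, ⟨lam⟩⟩ := exists_iso_overMap (BasedFunctor.comp E
      (FibCat.fpFst (BasedFunctor.comp u (FibCat.toSelf 𝒳))
        (BasedFunctor.comp u (FibCat.toSelf 𝒳))))
    have h2 := spMapOfOver_eq_of_iso
      (BasedFunctor.comp (AlgSt.toOverCat (U ⨯ U)) (BasedFunctor.comp E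
        (FibCat.fpFst (BasedFunctor.comp u (FibCat.toSelf 𝒳))
          (BasedFunctor.comp u (FibCat.toSelf 𝒳)))))
      (BasedFunctor.comp (AlgSt.toOverCat (U ⨯ U)) (AlgSt.overMap j))
      (whiskerLeftIso _ lam)
    change AlgSp.IsSeparatedMor (AlgSt.spMapOfOver
      (BasedFunctor.comp (AlgSt.toOverCat (U ⨯ U)) (BasedFunctor.comp E
        (FibCat.fpFst (BasedFunctor.comp u (FibCat.toSelf 𝒳))
          (BasedFunctor.comp u (FibCat.toSelf 𝒳))))))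
    rw [h2, spMapOfOver_comp_overMap, Groth.Agent.Lib.Helper15EquivRep.spMapOfOver_toOverCat,
      Category.id_comp, AlgSp.isSeparatedMor_yon_map_iff]
    exact isSeparated_left_of_prod U j
  have hcancel : ∀ ⦃X Y Z : AlgSp.Sp S⦄, AlgSp.IsAlgSpace X → AlgSp.IsAlgSpace Y →
      AlgSp.IsAlgSpace Z → ∀ (a : X ⟶ Y) (b : Y ⟶ Z), AlgSp.IsSeparatedMor b →
        AlgSp.IsProperMor (a ≫ b) → AlgSp.IsProperMor a := by
    intro X Y Z hX' hY' hZ' a b hb hab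
    let X' : AlgSp.Space S := ⟨X, hX'⟩
    let Y' : AlgSp.Space S := ⟨Y, hY'⟩
    let Z' : AlgSp.Space S := ⟨Z, hZ'⟩
    let a' : X' ⟶ Y' := ObjectProperty.homMk a
    let b' : Y' ⟶ Z' := ObjectProperty.homMk b
    exact (Groth.Agent.S10278.result a' (a' ≫ b') b' rfl hb).2 hab
  have h2 : AlgSt.RepByAlgSpWith AlgSp.IsProperMor (toRel u u (FibCat.toSelf 𝒳)) :=
    repByAlgSpWith_of_comp_to_slice₂ AlgSp.IsSeparatedMor AlgSp.IsProperMor
      Groth.Agent.Lib.T2H6.DiagSp.bcStable_isProperMor hcancel h𝒜 B eB heB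
      (toRel u u (FibCat.toSelf 𝒳))
      (FibCat.fpFst (BasedFunctor.comp u (FibCat.toSelf 𝒳))
        (BasedFunctor.comp u (FibCat.toSelf 𝒳))) hp h1
  have h3 : AlgSt.RepByAlgSpWith AlgSp.IsProperMor
      (FibCat.fpFst (relProd u u (FibCat.toSelf 𝒳)) (FibCat.diag (FibCat.toSelf 𝒳))) :=
    (repByAlgSpWith_of_square _ (FibCat.fpFst (relProd u u (FibCat.toSelf 𝒳))
      (FibCat.diag (FibCat.toSelf 𝒳))) (toRel u u (FibCat.toSelf 𝒳))
      (magicRel u u (FibCat.toSelf 𝒳)) (BasedFunctor.id _)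
      (isEquivOver_magicRel u u (FibCat.toSelf 𝒳)) (isEquivOver_id _) (Iso.refl _)).2 h2
  have hu : ∀ (T : Over S) (y : FibCat.overCat T ⥤ᵇ 𝒳), LocLift u T y := fun T y =>
    locLift_of_hasSchemeCovers u (hasSchemeCovers_of_cover u hu₁ hu₂ hu₃) y
  exact repByAlgSpWith_of_fpFst_of_locLift _
    (isLocalOnBase_fppf_of_fpqc _ (Groth.Agent.S10536.result S)) (FibCat.diag (FibCat.toSelf 𝒳))
    hΔ (relProd u u (FibCat.toSelf 𝒳)) (fun T w => locLift_relProd' u hu (FibCat.toSelf 𝒳) w) h3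

end Sep

end Main

end Groth.Agent.Lib.T2H6.WNASep
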