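import Mathlib

/-!
# Polynomial functionals and an abstract Adams–Riemann–Roch identity (helper for S3804)
-/

set_option autoImplicit false

namespace Groth.Agent.Lib.T2H7.ARRPoly

open Polynomial

variable {𝕂 : Type*} [CommRing 𝕂]

section Division

/-- Division with remainder by a polynomial with unit leading coefficient. -/
lemma exists_div_rem (Q : 𝕂[X]) (hQ : IsUnit Q.leadingCoeff) {d : ℕ} (hd : Q.natDegree = d)
    (hd1 : 1 ≤ d) (g : 𝕂[X]) :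
    ∃ q ρ : 𝕂[X], g = Q * q + ρ ∧ ρ.natDegree < d := by
  obtain ⟨u, hu⟩ := hQ
  have hu' : (↑u⁻¹ : 𝕂) * Q.leadingCoeff = 1 := by rw [← hu]; simp
  have hmon : Monic (C (↑u⁻¹ : 𝕂) * Q) := monic_C_mul_of_mul_leadingCoeff_eq_one hu'
  have hdeg : (C (↑u⁻¹ : 𝕂) * Q).natDegree = d := by
    rw [natDegree_C_mul_eq_of_mul_eq_one (ai := (u : 𝕂)) (by simp), hd]
  have hne : C (↑u⁻¹ : 𝕂) * Q ≠ 1 := by
    intro h
    rw [h, natDegree_one] at hdeg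
    omega
  refine ⟨C (↑u⁻¹ : 𝕂) * (g /ₘ (C (↑u⁻¹ : 𝕂) * Q)), g %ₘ (C (↑u⁻¹ : 𝕂) * Q), ?_, ?_⟩
  · conv_lhs => rw [← modByMonic_add_div g (C (↑u⁻¹ : 𝕂) * Q)]
    ring
  · rw [← hdeg]
    exact natDegree_modByMonic_lt g hmon hne

/-- A polynomial with unit leading coefficient is a non-zero-divisor. -/
lemma eq_zero_of_mul_eq_zero (Q : 𝕂[X]) (hQ : IsUnit Q.leadingCoeff) (g : 𝕂[X])
    (h : Q * g = 0) : g = 0 := by
  obtain ⟨u, hu⟩ := hQ
  have hu' : (↑u⁻¹ : 𝕂) * Q.leadingCoeff = 1 := by rw [← hu]; simp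
  have hmon : Monic (C (↑u⁻¹ : 𝕂) * Q) := monic_C_mul_of_mul_leadingCoeff_eq_one hu'
  have : (C (↑u⁻¹ : 𝕂) * Q) * g = 0 := by rw [mul_assoc, h, mul_zero]
  exact (hmon.mul_right_eq_zero_iff).mp this

end Division

section Fun

/-- `Φ` is a "constant-term of the remainder" functional for `Q` (degree `d`), with scale `c`. -/
def IsFunS (Q : 𝕂[X]) (d : ℕ) (c : 𝕂) (Φ : 𝕂[X] →ₗ[𝕂] 𝕂) : Prop :=
  (∀ g, Φ (Q * g) = 0) ∧ (∀ g : 𝕂[X], g.natDegree < d → Φ g = c * g.coeff 0)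

lemma IsFunS.unique {Q : 𝕂[X]} (hQ : IsUnit Q.leadingCoeff) {d : ℕ} (hd : Q.natDegree = d)
    (hd1 : 1 ≤ d) {c : 𝕂} {Φ Ψ : 𝕂[X] →ₗ[𝕂] 𝕂} (hΦ : IsFunS Q d 1 Φ) (hΨ : IsFunS Q d c Ψ)
    (g : 𝕂[X]) : Ψ g = c * Φ g := by
  obtain ⟨q, ρ, rfl, hρ⟩ := exists_div_rem Q hQ hd hd1 g
  rw [map_add, map_add, hΦ.1, hΨ.1, zero_add, zero_add, hΦ.2 ρ hρ, hΨ.2 ρ hρ, one_mul]

/-- Existence of the functional. -/
lemma exists_isFunS (Q : 𝕂[X]) (hQ : IsUnit Q.leadingCoeff) {d : ℕ} (hd : Q.natDegree = d) :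
    ∃ Φ : 𝕂[X] →ₗ[𝕂] 𝕂, IsFunS Q d 1 Φ := by
  obtain ⟨u, hu⟩ := hQ
  have hu' : (↑u⁻¹ : 𝕂) * Q.leadingCoeff = 1 := by rw [← hu]; simp
  have hmon : Monic (C (↑u⁻¹ : 𝕂) * Q) := monic_C_mul_of_mul_leadingCoeff_eq_one hu'
  have hdeg : (C (↑u⁻¹ : 𝕂) * Q).natDegree = d := by
    rw [natDegree_C_mul_eq_of_mul_eq_one (ai := (u : 𝕂)) (by simp), hd]
  refine ⟨(lcoeff 𝕂 0) ∘ₗ (modByMonicHom (C (↑u⁻¹ : 𝕂) * Q)), ?_, ?_⟩
  · intro g
    have : (Q * g) %ₘ (C (↑u⁻¹ : 𝕂) * Q) = 0 := by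
      rw [modByMonic_eq_zero_iff_dvd hmon]
      refine ⟨C (u : 𝕂) * g, ?_⟩
      have : C (↑u⁻¹ : 𝕂) * C (u : 𝕂) = 1 := by rw [← C_mul]; simp
      calc Q * g = (C (↑u⁻¹ : 𝕂) * C (u : 𝕂)) * (Q * g) := by rw [this, one_mul]
        _ = _ := by ring
    simp [modByMonicHom, this]
  · intro g hg
    rcases subsingleton_or_nontrivial 𝕂 with h | h
    · exact Subsingleton.elim _ _
    have : g %ₘ (C (↑u⁻¹ : 𝕂) * Q) = g := by
      rw [modByMonic_eq_self_iff hmon]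
      rw [← hdeg] at hg
      exact degree_lt_degree hg
    simp [modByMonicHom, this]

/-- (b): passing to a multiple of the modulus. -/
lemma IsFunS.mul_left {Λ Λj : 𝕂[X]} {m D : ℕ} (hΛ : IsUnit Λ.leadingCoeff)
    (hm : Λ.natDegree = m) (hm1 : 1 ≤ m) (hΛj0 : Λj.coeff 0 = 1)
    (hdeg : Λj.natDegree + m ≤ D) {ΦC Φ : 𝕂[X] →ₗ[𝕂] 𝕂} (hC : IsFunS (Λ * Λj) D 1 ΦC)
    (hΦ : IsFunS Λ m 1 Φ) (g : 𝕂[X]) : ΦC (Λj * g) = Φ g := by
  have hΨ : IsFunS Λ m 1 (ΦC ∘ₗ LinearMap.mulLeft 𝕂 Λj) := by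
    refine ⟨fun g => ?_, fun g hg => ?_⟩
    · rw [LinearMap.comp_apply, LinearMap.mulLeft_apply, ← mul_assoc, mul_comm Λj Λ, hC.1]
    · have h1 : (Λj * g).natDegree ≤ Λj.natDegree + g.natDegree := natDegree_mul_le
      rw [LinearMap.comp_apply, LinearMap.mulLeft_apply, hC.2 _ (by omega), mul_coeff_zero, hΛj0,
        one_mul]
  have := IsFunS.unique hΛ hm hm1 hΦ hΨ g
  rw [one_mul] at this
  exact this

/-- (c): components with respect to `expand`. -/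
lemma IsFunS.expand_component {Λ' : 𝕂[X]} {m j : ℕ} (hΛ' : IsUnit Λ'.leadingCoeff)
    (hm : Λ'.natDegree = m) (hm1 : 1 ≤ m) {ΦC ΦB : 𝕂[X] →ₗ[𝕂] 𝕂}
    (hC : IsFunS (expand 𝕂 j Λ') (j * m) 1 ΦC) (hB : IsFunS Λ' m 1 ΦB) (i : ℕ) (hi : i < j)
    (h : 𝕂[X]) : ΦC (X ^ i * expand 𝕂 j h) = (if i = 0 then 1 else 0) * ΦB h := by
  have hj : 0 < j := by omega
  have hΨ : IsFunS Λ' m (if i = 0 then 1 else 0)
      (ΦC ∘ₗ LinearMap.mulLeft 𝕂 (X ^ i) ∘ₗ (expand 𝕂 j).toLinearMap) := by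
    refine ⟨fun g => ?_, fun g hg => ?_⟩
    · simp only [LinearMap.comp_apply, AlgHom.toLinearMap_apply, LinearMap.mulLeft_apply, map_mul]
      rw [mul_left_comm, hC.1]
    · simp only [LinearMap.comp_apply, AlgHom.toLinearMap_apply, LinearMap.mulLeft_apply]
      rw [hC.2]
      · rw [one_mul, mul_coeff_zero]
        split_ifs with h0
        · subst h0
          rw [pow_zero, coeff_one_zero, one_mul, one_mul]
          have := coeff_expand_mul hj g 0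
          rwa [zero_mul] at this
        · rw [coeff_X_pow, if_neg (by omega), zero_mul, zero_mul]
      · have h1 : (X ^ i * expand 𝕂 j g).natDegree ≤
            (X ^ i : 𝕂[X]).natDegree + (expand 𝕂 j g).natDegree := natDegree_mul_le
        have h2 : (X ^ i : 𝕂[X]).natDegree ≤ i := natDegree_X_pow_le i
        rw [natDegree_expand] at h1
        have h3 : g.natDegree * j + j ≤ j * m := by
          have : (g.natDegree + 1) * j ≤ m * j := Nat.mul_le_mul_right j (by omega)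
          rw [mul_comm j m]
          calc g.natDegree * j + j = (g.natDegree + 1) * j := by ring
            _ ≤ m * j := this
        omega
  exact IsFunS.unique hΛ' hm hm1 hB hΨ h

end Fun

section Nilp

variable {𝔸 : Type*} [CommRing 𝔸] [Algebra 𝕂 𝔸]

/-- If `1 - s` is nilpotent and `j` is invertible, then `s` is a polynomial in `s ^ j`. -/
lemma exists_aeval_pow_eq (s : 𝔸) (hgen : ∀ a : 𝔸, ∃ g : 𝕂[X], aeval s g = a)
    (hnil : IsNilpotent (1 - s)) (j : ℕ) (hj : IsUnit ((j : ℕ) : 𝕂)) :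
    ∃ σ : 𝕂[X], aeval (s ^ j) σ = s := by
  classical
  set x : 𝔸 := 1 - s with hx
  set v : 𝔸 := ∑ k ∈ Finset.range j, s ^ k with hv
  have hz : 1 - s ^ j = x * v := (mul_neg_geom_sum s j).symm
  -- every `1 - s^k` is nilpotent
  have hnilk : ∀ k : ℕ, IsNilpotent (1 - s ^ k) := by
    intro k
    rw [← mul_neg_geom_sum s k]
    exact (Commute.all _ _).isNilpotent_mul_right hnil
  have hv_unit : IsUnit v := by
    have h1 : v = (j : 𝔸) + -(∑ k ∈ Finset.range j, (1 - s ^ k)) := by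
      rw [Finset.sum_sub_distrib]
      simp [hv]
    have h2 : IsNilpotent (-(∑ k ∈ Finset.range j, (1 - s ^ k))) := by
      rw [← mem_nilradical]
      refine neg_mem (sum_mem fun k _ => ?_)
      rw [mem_nilradical]
      exact hnilk k
    have h3 : IsUnit ((j : ℕ) : 𝔸) := by
      have := hj.map (algebraMap 𝕂 𝔸)
      rwa [map_natCast] at this
    rw [h1]
    exact h2.isUnit_add_left_of_commute h3 (Commute.all _ _)
  obtain ⟨vu, hvu⟩ := hv_unit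
  -- every element is a constant plus a multiple of `x`
  have hconst : ∀ a : 𝔸, ∃ (c : 𝕂) (a₁ : 𝔸), a = algebraMap 𝕂 𝔸 c + x * a₁ := by
    intro a
    obtain ⟨g, rfl⟩ := hgen a
    obtain ⟨b, hb⟩ := sub_dvd_eval_sub s 1 (g.map (algebraMap 𝕂 𝔸))
    refine ⟨g.eval 1, -b, ?_⟩
    have h1 : (g.map (algebraMap 𝕂 𝔸)).eval s = aeval s g := by
      rw [eval_map, aeval_def]
    have h2 : (g.map (algebraMap 𝕂 𝔸)).eval 1 = algebraMap 𝕂 𝔸 (g.eval 1) := by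
      rw [eval_map, ← map_one (algebraMap 𝕂 𝔸), eval₂_at_apply]
    rw [h1, h2] at hb
    have : aeval s g = algebraMap 𝕂 𝔸 (g.eval 1) + (s - 1) * b := by rw [← hb]; ring
    rw [this, hx]; ring
  -- induction
  let D : Subalgebra 𝕂 𝔸 := Algebra.adjoin 𝕂 {s ^ j}
  have hzD : 1 - s ^ j ∈ D :=
    D.sub_mem D.one_mem (Algebra.subset_adjoin (Set.mem_singleton _))
  have hind : ∀ k : ℕ, ∀ a : 𝔸, ∃ d ∈ D, ∃ a' : 𝔸, a = d + x ^ k * a' := by
    intro k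
    induction k with
    | zero => intro a; exact ⟨0, D.zero_mem, a, by simp⟩
    | succ k ih =>
      intro a
      obtain ⟨d, hd, a', rfl⟩ := ih a
      obtain ⟨c, a₁, hc⟩ := hconst ((↑(vu⁻¹ ^ k) : 𝔸) * a')
      refine ⟨d + c • (1 - s ^ j) ^ k, D.add_mem hd (D.smul_mem (D.pow_mem hzD k) c),
        (vu : 𝔸) ^ k * a₁, ?_⟩
      have h1 : x ^ k * a' = (x * v) ^ k * ((↑(vu⁻¹ ^ k) : 𝔸) * a') := by
        rw [mul_pow, ← hvu, mul_assoc, ← mul_assoc ((vu : 𝔸) ^ k), ← Units.val_pow_eq_pow_val,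
          ← Units.val_mul, ← mul_pow, mul_inv_cancel, one_pow, Units.val_one, one_mul]
      rw [h1, hc, hz, Algebra.smul_def, mul_pow, ← hvu]
      ring
  obtain ⟨N, hN⟩ := hnil
  obtain ⟨d, hd, a', ha'⟩ := hind N s
  rw [hN, zero_mul, add_zero] at ha'
  have hsD : s ∈ D := by
    have := hd
    rwa [← ha'] at this
  have : s ∈ (aeval (R := 𝕂) (s ^ j)).range := by
    rw [← Algebra.adjoin_singleton_eq_range_aeval]
    exact hsD
  obtain ⟨σ, hσ⟩ := this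
  exact ⟨σ, hσ⟩

end Nilp

section ARR

variable {𝔸 : Type*} [CommRing 𝔸] [Algebra 𝕂 𝔸]

lemma aeval_eq_sum_fin (x : 𝔸) (ρ : 𝕂[X]) (m : ℕ) (hρ : ρ.natDegree < m) :
    aeval x ρ = ∑ i : Fin m, ρ.coeff i • x ^ (i : ℕ) := by
  rw [aeval_eq_sum_range' hρ, Fin.sum_univ_eq_sum_range (fun i => ρ.coeff i • x ^ i) m]

/-- Triangular argument: the powers `s^n`, `n < m`, are linearly independent. -/
lemma coeff_eq_zero_of_sum_eq_zero (s ℓ : 𝔸) (hsl : s * ℓ = 1) (m : ℕ) (φ : 𝔸 →ₗ[𝕂] 𝕂)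
    (hφ : ∀ n, n < m → φ (s ^ n) = if n = 0 then 1 else 0)
    (c : ℕ → 𝕂) (h0 : ∑ n ∈ Finset.range m, c n • s ^ n = 0) : ∀ k, k < m → c k = 0 := by
  intro k
  induction k using Nat.strong_induction_on with
  | _ k ih =>
    intro hk
    have h1 : φ (ℓ ^ k * ∑ n ∈ Finset.range m, c n • s ^ n) = 0 := by rw [h0, mul_zero, map_zero]
    rw [Finset.mul_sum, map_sum] at h1
    have key : ∀ n ∈ Finset.range m, φ (ℓ ^ k * c n • s ^ n) = if n = k then c k else 0 := by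
      intro n hn
      rw [Finset.mem_range] at hn
      by_cases hnk : n < k
      · rw [ih n hnk hn, zero_smul, mul_zero, map_zero, if_neg (by omega)]
      · obtain ⟨d, rfl⟩ : ∃ d, n = k + d := ⟨n - k, by omega⟩
        have h2 : ℓ ^ k * c (k + d) • s ^ (k + d) = c (k + d) • s ^ d := by
          rw [mul_smul_comm, pow_add, ← mul_assoc, ← mul_pow, mul_comm ℓ s, hsl, one_pow, one_mul]
        rw [h2, map_smul, hφ d (by omega), smul_eq_mul]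
        by_cases hd : d = 0
        · subst hd; simp
        · rw [if_neg hd, if_neg (by omega), mul_zero]
    rw [Finset.sum_congr rfl key, Finset.sum_ite_eq' (Finset.range m) k (fun _ => c k),
      if_pos (Finset.mem_range.mpr hk)] at h1
    exact h1

lemma eq_zero_of_aeval_eq_zero (s ℓ : 𝔸) (hsl : s * ℓ = 1) (m : ℕ) (φ : 𝔸 →ₗ[𝕂] 𝕂)
    (hφ : ∀ n, n < m → φ (s ^ n) = if n = 0 then 1 else 0)
    (ρ : 𝕂[X]) (hρ : ρ.natDegree < m) (h0 : aeval s ρ = 0) : ρ = 0 := by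
  rw [aeval_eq_sum_range' hρ] at h0
  have := coeff_eq_zero_of_sum_eq_zero s ℓ hsl m φ hφ (fun n => ρ.coeff n) h0
  ext k
  rw [coeff_zero]
  by_cases hk : k < m
  · exact this k hk
  · exact coeff_eq_zero_of_natDegree_lt (by omega)

section Setup

variable (s ℓ : 𝔸) (hsl : s * ℓ = 1) (m : ℕ) (hm1 : 1 ≤ m)
  (φ : 𝔸 →ₗ[𝕂] 𝕂) (hφ : ∀ n, n < m → φ (s ^ n) = if n = 0 then 1 else 0)
  (Λ : 𝕂[X]) (hΛlead : IsUnit Λ.leadingCoeff) (hΛdeg : Λ.natDegree = m) (hΛs : aeval s Λ = 0)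
  (hgen : ∀ a : 𝔸, ∃ g : 𝕂[X], aeval s g = a)

include hsl hm1 hφ hΛlead hΛdeg hΛs in
lemma dvd_of_aeval_eq_zero (g : 𝕂[X]) (hg : aeval s g = 0) : Λ ∣ g := by
  obtain ⟨q, ρ, rfl, hρ⟩ := exists_div_rem Λ hΛlead hΛdeg hm1 g
  rw [map_add, map_mul, hΛs, zero_mul, zero_add] at hg
  rw [eq_zero_of_aeval_eq_zero s ℓ hsl m φ hφ ρ hρ hg, add_zero]
  exact dvd_mul_right _ _

include hm1 hΛlead hΛdeg hΛs hgen in
lemma exists_lowdeg (a : 𝔸) : ∃ ρ : 𝕂[X], ρ.natDegree < m ∧ aeval s ρ = a := by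
  obtain ⟨g, rfl⟩ := hgen a
  obtain ⟨q, ρ, rfl, hρ⟩ := exists_div_rem Λ hΛlead hΛdeg hm1 g
  refine ⟨ρ, hρ, ?_⟩
  rw [map_add, map_mul, hΛs, zero_mul, zero_add]

include hsl hm1 hφ hΛlead hΛdeg hΛs hgen in
lemma finrank_eq [Nontrivial 𝕂] : Module.finrank 𝕂 𝔸 = m := by
  have hli : LinearIndependent 𝕂 (fun i : Fin m => s ^ (i : ℕ)) := by
    rw [Fintype.linearIndependent_iff]
    intro c hc i
    let c' : ℕ → 𝕂 := fun n => if h : n < m then c ⟨n, h⟩ else 0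
    have h1 : ∑ n ∈ Finset.range m, c' n • s ^ n = 0 := by
      rw [← Fin.sum_univ_eq_sum_range (fun n => c' n • s ^ n) m, ← hc]
      refine Finset.sum_congr rfl fun i _ => ?_
      simp [c']
    have := coeff_eq_zero_of_sum_eq_zero s ℓ hsl m φ hφ c' h1 i i.2
    simpa [c'] using this
  have hsp : ⊤ ≤ Submodule.span 𝕂 (Set.range (fun i : Fin m => s ^ (i : ℕ))) := by
    intro a _
    obtain ⟨ρ, hρ, rfl⟩ := exists_lowdeg s m hm1 Λ hΛlead hΛdeg hΛs hgen a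
    rw [aeval_eq_sum_fin s ρ m hρ]
    exact Submodule.sum_mem _ fun i _ => Submodule.smul_mem _ _ (Submodule.subset_span ⟨i, rfl⟩)
  have := Module.finrank_eq_card_basis (Module.Basis.mk hli hsp)
  rw [this, Fintype.card_fin]

variable (j : ℕ) (Λ' : 𝕂[X]) (hΛ'lead : IsUnit Λ'.leadingCoeff) (hΛ'deg : Λ'.natDegree = m)
  (hΛ's : aeval (s ^ j) Λ' = 0) (σ : 𝕂[X]) (hσ : aeval (s ^ j) σ = s)

include hsl hm1 hφ hΛlead hΛdeg hΛs hgen hΛ'lead hΛ'deg hΛ's hσ in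
lemma dvd_of_aeval_pow_eq_zero (h : 𝕂[X]) (hh : aeval (s ^ j) h = 0) : Λ' ∣ h := by
  rcases subsingleton_or_nontrivial 𝕂 with hsub | hnt
  · exact ⟨0, Subsingleton.elim _ _⟩
  obtain ⟨q, ρ, rfl, hρ⟩ := exists_div_rem Λ' hΛ'lead hΛ'deg hm1 h
  rw [map_add, map_mul, hΛ's, zero_mul, zero_add] at hh
  have hsp : ⊤ ≤ Submodule.span 𝕂 (Set.range (fun i : Fin m => (s ^ j) ^ (i : ℕ))) := by
    intro a _
    obtain ⟨g, rfl⟩ := hgen a
    have h1 : aeval s g = aeval (s ^ j) (g.comp σ) := by rw [aeval_comp, hσ]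
    obtain ⟨q', ρ', h2, hρ'⟩ := exists_div_rem Λ' hΛ'lead hΛ'deg hm1 (g.comp σ)
    rw [h1, h2, map_add, map_mul, hΛ's, zero_mul, zero_add, aeval_eq_sum_fin _ ρ' m hρ']
    exact Submodule.sum_mem _ fun i _ => Submodule.smul_mem _ _ (Submodule.subset_span ⟨i, rfl⟩)
  have hfr := finrank_eq s ℓ hsl m hm1 φ hφ Λ hΛlead hΛdeg hΛs hgen
  have hli := linearIndependent_of_top_le_span_of_card_eq_finrank hsp (by
    rw [Fintype.card_fin, hfr])
  rw [Fintype.linearIndependent_iff] at hli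
  rw [aeval_eq_sum_fin _ ρ m hρ] at hh
  have h3 := hli (fun i => ρ.coeff i) hh
  have : ρ = 0 := by
    ext k
    rw [coeff_zero]
    by_cases hk : k < m
    · exact h3 ⟨k, hk⟩
    · exact coeff_eq_zero_of_natDegree_lt (by omega)
  rw [this, add_zero]
  exact dvd_mul_right _ _

end Setup

/-- The functional `φ ∘ aeval s` is the `Λ`-functional. -/
lemma isFunS_comp_aeval (s : 𝔸) (m : ℕ) (φ : 𝔸 →ₗ[𝕂] 𝕂)
    (hφ : ∀ n, n < m → φ (s ^ n) = if n = 0 then 1 else 0)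
    (Λ : 𝕂[X]) (hΛs : aeval s Λ = 0) (hm1 : 1 ≤ m) :
    IsFunS Λ m 1 (φ ∘ₗ (aeval s).toLinearMap) := by
  refine ⟨fun g => ?_, fun g hg => ?_⟩
  · rw [LinearMap.comp_apply, AlgHom.toLinearMap_apply, map_mul, hΛs, zero_mul, map_zero]
  · rw [LinearMap.comp_apply, AlgHom.toLinearMap_apply, aeval_eq_sum_range' hg, map_sum]
    have key : ∀ n ∈ Finset.range m, φ (g.coeff n • s ^ n) = if n = 0 then g.coeff 0 else 0 := by
      intro n hn
      rw [map_smul, hφ n (Finset.mem_range.mp hn), smul_eq_mul]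
      split_ifs with h
      · subst h; rw [mul_one]
      · rw [mul_zero]
    rw [Finset.sum_congr rfl key, Finset.sum_ite_eq' (Finset.range m) 0 (fun _ => g.coeff 0),
      if_pos (Finset.mem_range.mpr (by omega)), one_mul]

/-- **Abstract Adams–Riemann–Roch identity.** -/
theorem abstract_arr (s ℓ : 𝔸) (hsl : s * ℓ = 1) (r : ℕ)
    (φ : 𝔸 →ₗ[𝕂] 𝕂) (hφ : ∀ n, n < r + 1 → φ (s ^ n) = if n = 0 then 1 else 0)
    (Λ Λj Λ' : 𝕂[X]) (hΛlead : IsUnit Λ.leadingCoeff) (hΛdeg : Λ.natDegree = r + 1)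
    (hΛs : aeval s Λ = 0)
    (hgen : ∀ a : 𝔸, ∃ g : 𝕂[X], aeval s g = a)
    (hnil : IsNilpotent (1 - s))
    (j : ℕ) (hj1 : 1 ≤ j) (hj : IsUnit ((j : ℕ) : 𝕂))
    (hΛ'lead : IsUnit Λ'.leadingCoeff) (hΛ'deg : Λ'.natDegree = r + 1) (hΛ'0 : Λ'.coeff 0 = 1)
    (hΛj0 : Λj.coeff 0 = 1) (hΛjdeg : Λj.natDegree + (r + 1) ≤ j * (r + 1))
    (hprod : Λ * Λj = expand 𝕂 j Λ') :
    ∃ w : 𝔸, w * aeval s Λj = 1 ∧
      ∀ n, n < r + 1 → φ ((j : 𝔸) * w * (s ^ j) ^ n) = if n = 0 then 1 else 0 := by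
  classical
  have hm1 : 1 ≤ r + 1 := by omega
  have hj0 : 0 < j := by omega
  have hΛ's : aeval (s ^ j) Λ' = 0 := by
    rw [← expand_aeval, ← hprod, map_mul, hΛs, zero_mul]
  obtain ⟨σ, hσ⟩ := exists_aeval_pow_eq s hgen hnil j hj
  have dvd' := dvd_of_aeval_pow_eq_zero s ℓ hsl (r + 1) hm1 φ hφ Λ hΛlead hΛdeg hΛs hgen j Λ'
    hΛ'lead hΛ'deg hΛ's σ hσ
  have hσj : Λ' ∣ σ ^ j - X := dvd' _ (by rw [map_sub, map_pow, hσ, aeval_X, sub_self])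
  have hΛσ : Λ' ∣ Λ.comp σ := dvd' _ (by rw [aeval_comp, hσ, hΛs])
  -- the inverse of `Y` modulo `Λ'`
  set υ : 𝕂[X] := divX (1 - Λ') with hυ
  have hυX : υ * X = 1 - Λ' := by
    have := divX_mul_X_add (1 - Λ')
    rw [coeff_sub, coeff_one_zero, hΛ'0, sub_self, C_0, add_zero] at this
    exact this
  set τ : 𝕂[X] := expand 𝕂 j σ with hτ
  set G : 𝕂[X] := ∑ i ∈ Finset.range j, X ^ i * τ ^ (j - 1 - i) with hG
  obtain ⟨ju, hju⟩ := hj
  set E : 𝕂[X] := C (↑ju⁻¹ : 𝕂) * expand 𝕂 j (υ * σ) * G with hE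
  -- Claim A
  have hA : expand 𝕂 j Λ' ∣ Λ * E := by
    obtain ⟨d, hd⟩ := sub_dvd_eval_sub (X : 𝕂[X]) τ (Λ.map C)
    rw [eval_map, eval_map, eval₂_C_X] at hd
    have h1 : eval₂ C τ Λ = expand 𝕂 j (Λ.comp σ) := by
      rw [expand_eq_comp_X_pow, comp_assoc]; rfl
    have h2 : G * (X - τ) = expand 𝕂 j (X - σ ^ j) := by
      rw [hG, geom_sum₂_mul, map_sub, expand_X, map_pow]
    have h3 : Λ = expand 𝕂 j (Λ.comp σ) + (X - τ) * d := by rw [← h1, ← hd]; ring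
    have h4 : expand 𝕂 j Λ' ∣ expand 𝕂 j (Λ.comp σ) := by
      obtain ⟨c, hc⟩ := hΛσ
      exact ⟨expand 𝕂 j c, by rw [hc, map_mul]⟩
    have h5 : expand 𝕂 j Λ' ∣ expand 𝕂 j (X - σ ^ j) := by
      obtain ⟨c, hc⟩ := hσj
      refine ⟨expand 𝕂 j (-c), ?_⟩
      rw [← map_mul]
      congr 1
      rw [mul_neg, ← hc]; ring
    have h6 : Λ * E = expand 𝕂 j (Λ.comp σ) * E +
        (G * (X - τ)) * (d * (C (↑ju⁻¹ : 𝕂) * expand 𝕂 j (υ * σ))) := by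
      conv_lhs => rw [h3]
      rw [hE]; ring
    rw [h6, h2]
    exact dvd_add (Dvd.dvd.mul_right h4 _) (Dvd.dvd.mul_right h5 _)
  -- Claim B
  obtain ⟨dd, hdd⟩ : ∃ dd, E = Λj * dd := by
    obtain ⟨q, hq⟩ := hA
    refine ⟨q, ?_⟩
    have : Λ * (E - Λj * q) = 0 := by
      rw [mul_sub, hq, ← hprod]; ring
    have := eq_zero_of_mul_eq_zero Λ hΛlead _ this
    exact sub_eq_zero.mp this
  -- Claim C
  have hjA : algebraMap 𝕂 𝔸 (↑ju⁻¹ : 𝕂) * (j : 𝔸) = 1 := by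
    rw [← map_natCast (algebraMap 𝕂 𝔸), ← map_mul, ← hju, Units.inv_mul, map_one]
  have hυs : aeval (s ^ j) υ * s ^ j = 1 := by
    have := congrArg (aeval (s ^ j)) hυX
    rw [map_mul, aeval_X, map_sub, map_one, hΛ's, sub_zero] at this
    exact this
  have hτs : aeval s τ = s := by rw [hτ, expand_aeval, hσ]
  have hC : aeval s E = 1 := by
    have hGs : aeval s G = (j : 𝔸) * s ^ (j - 1) := by
      rw [hG, map_sum]
      have : ∀ i ∈ Finset.range j, aeval s (X ^ i * τ ^ (j - 1 - i)) = s ^ (j - 1) := by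
        intro i hi
        rw [Finset.mem_range] at hi
        rw [map_mul, map_pow, map_pow, aeval_X, hτs, ← pow_add]
        congr 1; omega
      rw [Finset.sum_congr rfl this, Finset.sum_const, Finset.card_range, nsmul_eq_mul]
    rw [hE, map_mul, map_mul, aeval_C, expand_aeval, map_mul, hσ, hGs]
    have hs : s * s ^ (j - 1) = s ^ j := by
      rw [← pow_succ']; congr 1; omega
    calc algebraMap 𝕂 𝔸 (↑ju⁻¹ : 𝕂) * (aeval (s ^ j) υ * s) * ((j : 𝔸) * s ^ (j - 1))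
        = (algebraMap 𝕂 𝔸 (↑ju⁻¹ : 𝕂) * (j : 𝔸)) * (aeval (s ^ j) υ * (s * s ^ (j - 1))) := by ring
      _ = 1 := by rw [hjA, hs, hυs, one_mul]
  refine ⟨aeval s dd, ?_, ?_⟩
  · rw [← map_mul, mul_comm, ← hdd, hC]
  -- the functionals
  have hlead' : IsUnit (expand 𝕂 j Λ').leadingCoeff := by rw [leadingCoeff_expand hj0]; exact hΛ'lead
  have hdeg' : (expand 𝕂 j Λ').natDegree = j * (r + 1) := by
    rw [natDegree_expand, hΛ'deg, mul_comm]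
  obtain ⟨ΦC, hΦC⟩ := exists_isFunS (expand 𝕂 j Λ') hlead' hdeg'
  obtain ⟨ΦB, hΦB⟩ := exists_isFunS Λ' hΛ'lead hΛ'deg
  have hΦ := isFunS_comp_aeval s (r + 1) φ hφ Λ hΛs hm1
  have hΦC' : IsFunS (Λ * Λj) (j * (r + 1)) 1 ΦC := by rw [hprod]; exact hΦC
  intro n hn
  have h1 : (j : 𝔸) * aeval s dd * (s ^ j) ^ n =
      aeval s (C ((j : ℕ) : 𝕂) * dd * expand 𝕂 j (X ^ n)) := by
    rw [map_mul, map_mul, aeval_C, map_natCast, expand_aeval, map_pow, aeval_X]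
  have h2 : φ (aeval s (C ((j : ℕ) : 𝕂) * dd * expand 𝕂 j (X ^ n))) =
      (φ ∘ₗ (aeval s).toLinearMap) (C ((j : ℕ) : 𝕂) * dd * expand 𝕂 j (X ^ n)) := rfl
  rw [h1, h2, ← IsFunS.mul_left hΛlead hΛdeg hm1 hΛj0 hΛjdeg hΦC' hΦ]
  -- rewrite `Λj * (C j * dd * expand (X^n))`
  have h3 : Λj * (C ((j : ℕ) : 𝕂) * dd * expand 𝕂 j (X ^ n)) =
      ∑ i ∈ Finset.range j, X ^ i * expand 𝕂 j (υ * σ * σ ^ (j - 1 - i) * X ^ n) := by
    have hcc : C ((j : ℕ) : 𝕂) * C (↑ju⁻¹ : 𝕂) = 1 := by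
      rw [← C_mul, ← hju, Units.mul_inv, C_1]
    calc Λj * (C ((j : ℕ) : 𝕂) * dd * expand 𝕂 j (X ^ n))
        = C ((j : ℕ) : 𝕂) * (Λj * dd) * expand 𝕂 j (X ^ n) := by ring
      _ = (C ((j : ℕ) : 𝕂) * C (↑ju⁻¹ : 𝕂)) * (expand 𝕂 j (υ * σ) * G) * expand 𝕂 j (X ^ n) := by
          rw [← hdd, hE]; ring
      _ = expand 𝕂 j (υ * σ) * G * expand 𝕂 j (X ^ n) := by rw [hcc, one_mul]
      _ = _ := by
          rw [hG, Finset.mul_sum, Finset.sum_mul]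
          refine Finset.sum_congr rfl fun i _ => ?_
          rw [map_mul (expand 𝕂 j) (υ * σ * σ ^ (j - 1 - i)), map_mul (expand 𝕂 j) (υ * σ),
            map_pow (expand 𝕂 j) σ]
          ring
  rw [h3, map_sum]
  have h4 : ∀ i ∈ Finset.range j, ΦC (X ^ i * expand 𝕂 j (υ * σ * σ ^ (j - 1 - i) * X ^ n)) =
      if i = 0 then ΦB (υ * σ ^ j * X ^ n) else 0 := by
    intro i hi
    rw [IsFunS.expand_component hΛ'lead hΛ'deg hm1 hΦC hΦB i (Finset.mem_range.mp hi)]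
    split_ifs with h0
    · subst h0
      rw [one_mul, Nat.sub_zero]
      congr 1
      have : σ * σ ^ (j - 1) = σ ^ j := by rw [← pow_succ']; congr 1; omega
      rw [mul_assoc υ, this]
    · rw [zero_mul]
  rw [Finset.sum_congr rfl h4, Finset.sum_ite_eq' (Finset.range j) 0,
    if_pos (Finset.mem_range.mpr hj0)]
  -- finally compute `ΦB (υ σ^j X^n)`
  obtain ⟨q, hq⟩ := hσj
  have h5 : υ * σ ^ j * X ^ n = Λ' * (υ * q * X ^ n - X ^ n) + X ^ n := by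
    have : σ ^ j = X + Λ' * q := by rw [← hq]; ring
    rw [this]
    calc υ * (X + Λ' * q) * X ^ n = (υ * X) * X ^ n + Λ' * (υ * q * X ^ n) := by ring
      _ = _ := by rw [hυX]; ring
  rw [h5, map_add, hΦB.1, zero_add, hΦB.2 _ (lt_of_le_of_lt (natDegree_X_pow_le n) hn), one_mul,
    coeff_X_pow]
  by_cases h0 : n = 0
  · subst h0; simp
  · rw [if_neg (Ne.symm h0), if_neg h0]

end ARR

end Groth.Agent.Lib.T2H7.ARRPoly
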