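import Groth.Agent.Lib.Helper4LambdaBott
import Groth.Agent.Lib.Helper4LambdaSigma
import Groth.Agent.Lib.Helper4LambdaAmple
import Groth.Agent.Lib.Helper4LambdaInv
import Groth.Agent.Lib.T2H7ARRPoly

/-!
# λ-ring input for the Adams–Riemann–Roch theorem for elementary projections (helper for S3804)
-/

set_option autoImplicit false
universe u

namespace Groth.Agent.Lib.T2H7.ARRLam

open LambdaRing Finset Groth.Agent.Lib.Helper4

section Generic

variable {A : Type*} [CommRing A]

/-- `Π (1 - a_k) = Σ_i (-1)^i e_i(a)`. -/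
lemma prod_one_sub_eq {n : ℕ} (a : Fin n → A) :
    ∏ k, (1 - a k) = ∑ i ∈ range (n + 1), (-1 : A) ^ i *
      ∑ t ∈ (univ : Finset (Fin n)).powersetCard i, ∏ k ∈ t, a k := by
  classical
  have h1 : ∏ k, (1 - a k) = ∏ k, (1 + -a k) := by simp [sub_eq_add_neg]
  rw [h1, prod_one_add, sum_powerset, card_univ, Fintype.card_fin]
  refine sum_congr rfl fun i _ => ?_
  rw [mul_sum]
  refine sum_congr rfl fun t ht => ?_
  rw [mem_powersetCard] at ht
  rw [prod_neg, ht.2]

/-- `e_i(C u_k X) = C (e_i(u)) X^i`. -/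
lemma esymm_C_mul_X {n : ℕ} (u : Fin n → A) (i : ℕ) :
    ∑ t ∈ (univ : Finset (Fin n)).powersetCard i, ∏ k ∈ t, (Polynomial.C (u k) * Polynomial.X) =
      Polynomial.C (∑ t ∈ (univ : Finset (Fin n)).powersetCard i, ∏ k ∈ t, u k) *
        Polynomial.X ^ i := by
  rw [map_sum, sum_mul]
  refine sum_congr rfl fun t ht => ?_
  rw [mem_powersetCard] at ht
  rw [prod_mul_distrib, prod_const, ht.2, map_prod]

lemma aeval_esymm_eq_poly {n : ℕ} (a : Fin n → Polynomial A) (k : ℕ) :
    MvPolynomial.aeval a (MvPolynomial.esymm (Fin n) ℤ k) =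
      ∑ t ∈ (univ : Finset (Fin n)).powersetCard k, ∏ i ∈ t, a i := by
  rw [MvPolynomial.esymm, map_sum]
  refine sum_congr rfl fun t _ => ?_
  rw [map_prod]
  simp

end Generic

section Twist

variable {K : Type u} [CommRing K] [LambdaOps K]

/-- Twisting by a line element: `λ_t(x u) = λ_{ut}(x)`. -/
theorem lamSeries_mul_line {P : PosStructure K} (hK : HasSplitting K P) (u : K) (hu : P.IsLine u)
    (x : K) : lamSeries (x * u) = PowerSeries.rescale u (lamSeries x) := by
  -- positive case
  have hpos : ∀ a ∈ P.pos, lamSeries (a * u) = PowerSeries.rescale u (lamSeries a) := by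
    intro a ha
    obtain ⟨L, g, hg, hL, s, hs, hsum⟩ := exists_extension_multiset hK a ha
    obtain ⟨n, v, hv, hvsum, hn⟩ := exists_fin_of_multiset L.posStr s hs
    have hinj : Function.Injective (PowerSeries.map g) :=
      PowerSeries.map_injective g hg.injective
    apply hinj
    have hgu : L.posStr.IsLine (g u) := isExtension_isLine hg hu
    have h1 : g (a * u) = ∑ k, v k * g u := by rw [map_mul, ← hsum, ← hvsum, sum_mul]
    have h2 : g a = ∑ k, v k := by rw [← hsum, ← hvsum]
    rw [map_lamSeries hg.isLambdaHom, h1, lamSeries_sum]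
    have h3 : PowerSeries.map g (PowerSeries.rescale u (lamSeries a)) =
        PowerSeries.rescale (g u) (lamSeries (g a)) := by
      rw [← map_lamSeries hg.isLambdaHom]
      ext k
      simp [PowerSeries.coeff_rescale]
    rw [h3, h2, lamSeries_sum, map_prod]
    refine prod_congr rfl fun k _ => ?_
    rw [lamSeries_of_isLine L.posStr _ (isLine_mul L.posStr (hv k) hgu),
      lamSeries_of_isLine L.posStr _ (hv k)]
    ext i
    rw [PowerSeries.coeff_rescale]
    simp only [map_add, PowerSeries.coeff_one, PowerSeries.coeff_C_mul, PowerSeries.coeff_X]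
    split_ifs with h0 h1 h1
    · omega
    · subst h0; simp
    · subst h1; simp; ring
    · simp
  obtain ⟨a, b, ha, hb, rfl⟩ := P.exists_sub x
  have h1 := lamSeries_sub_mul (a * u) (b * u)
  rw [← sub_mul, hpos a ha, hpos b hb] at h1
  have h2 := congrArg (PowerSeries.rescale u) (lamSeries_sub_mul a b)
  rw [map_mul] at h2
  have hunit : IsUnit (PowerSeries.rescale u (lamSeries b)) := (isUnit_lamSeries b).map _
  exact hunit.mul_right_cancel (h1.trans h2.symm)

theorem lam_mul_line {P : PosStructure K} (hK : HasSplitting K P) (u : K) (hu : P.IsLine u)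
    (x : K) (k : ℕ) : LambdaOps.lam k (x * u) = LambdaOps.lam k x * u ^ k := by
  have := congrArg (PowerSeries.coeff k) (lamSeries_mul_line hK u hu x)
  rw [coeff_lamSeries, PowerSeries.coeff_rescale, coeff_lamSeries] at this
  rw [this, mul_comm]

end Twist

section Polys

variable {K : Type u} [CommRing K] [LambdaOps K]

/-- `Λ_x(X) = Σ_{k ≤ m} (-1)^k λ^k(x) X^k`. -/
noncomputable def lamPoly (m : ℕ) (x : K) : Polynomial K :=
  ∑ k ∈ range (m + 1), Polynomial.C ((-1 : K) ^ k * LambdaOps.lam k x) * Polynomial.X ^ k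

/-- `θ^j(x X)` as a polynomial in `X`. -/
noncomputable def bottPolyX (j m : ℕ) (x : K) : Polynomial K :=
  MvPolynomial.aeval
    (fun i : Fin m => Polynomial.C (LambdaOps.lam (i.1 + 1) x) * Polynomial.X ^ (i.1 + 1))
    (KRR.bottPoly j m)

variable {L : Type u} [CommRing L] [LambdaOps L] (PL : PosStructure L) {g : K →+* L}
  (hg : IsLambdaHom g) {m : ℕ} (v : Fin m → L) (hv : ∀ k, PL.IsLine (v k))

include hg hv in
lemma map_lamPoly (x : K) (hx : g x = ∑ k, v k) :
    (lamPoly m x).map g = ∏ k, (1 - Polynomial.C (v k) * Polynomial.X) := by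
  rw [prod_one_sub_eq, lamPoly, Polynomial.map_sum]
  refine sum_congr rfl fun i _ => ?_
  rw [esymm_C_mul_X, Polynomial.map_mul, Polynomial.map_C, Polynomial.map_pow, Polynomial.map_X,
    map_mul, map_pow, map_neg, map_one, hg, hx, lam_sum_lines PL v hv, Polynomial.C_mul,
    Polynomial.C_pow, Polynomial.C_neg, Polynomial.C_1, mul_assoc]

include hg hv in
lemma map_bottPolyX (j : ℕ) (x : K) (hx : g x = ∑ k, v k) :
    (bottPolyX j m x).map g = ∏ k, ∑ l ∈ range j, (Polynomial.C (v k) * Polynomial.X) ^ l := by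
  unfold bottPolyX
  have h1 := MvPolynomial.comp_aeval_apply (R := ℤ)
    (f := fun i : Fin m => Polynomial.C (LambdaOps.lam (i.1 + 1) x) * Polynomial.X ^ (i.1 + 1))
    (φ := (Polynomial.mapRingHom g).toIntAlgHom) (KRR.bottPoly j m)
  simp only [RingHom.toIntAlgHom_apply, Polynomial.coe_mapRingHom] at h1
  refine h1.trans ?_
  have e2 : (fun i : Fin m => Polynomial.map g
        (Polynomial.C (LambdaOps.lam (i.1 + 1) x) * Polynomial.X ^ (i.1 + 1))) =
      fun i : Fin m => MvPolynomial.aeval (fun k => Polynomial.C (v k) * Polynomial.X)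
        (MvPolynomial.esymm (Fin m) ℤ (i.1 + 1)) := by
    funext i
    rw [aeval_esymm_eq_poly, esymm_C_mul_X, Polynomial.map_mul, Polynomial.map_C, Polynomial.map_pow,
      Polynomial.map_X, hg, hx, lam_sum_lines PL v hv]
  rw [e2]
  have h3 := MvPolynomial.comp_aeval_apply (R := ℤ)
    (f := fun i : Fin m => MvPolynomial.esymm (Fin m) ℤ (i.1 + 1))
    (φ := MvPolynomial.aeval (fun k => Polynomial.C (v k) * Polynomial.X)) (KRR.bottPoly j m)
  refine h3.symm.trans ?_
  rw [aeval_esymm_bottPoly, KRR.bottSym, map_prod]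
  refine prod_congr rfl fun k _ => ?_
  rw [map_sum]
  refine sum_congr rfl fun l _ => ?_
  rw [map_pow, MvPolynomial.aeval_X]

omit [LambdaOps L] in
lemma coeff_lamPoly (m : ℕ) (x : K) (k : ℕ) :
    (lamPoly m x).coeff k = if k ≤ m then (-1 : K) ^ k * LambdaOps.lam k x else 0 := by
  rw [lamPoly, Polynomial.finsetSum_coeff]
  simp only [Polynomial.coeff_C_mul, Polynomial.coeff_X_pow]
  split_ifs with h
  · rw [sum_eq_single k]
    · simp
    · intro b _ hb; rw [if_neg (Ne.symm hb), mul_zero]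
    · intro hk; exact absurd (mem_range.mpr (by omega)) hk
  · refine sum_eq_zero fun b hb => ?_
    rw [mem_range] at hb
    rw [if_neg (by omega), mul_zero]

omit [LambdaOps L] in
lemma natDegree_lamPoly_le (m : ℕ) (x : K) : (lamPoly m x).natDegree ≤ m := by
  rw [Polynomial.natDegree_le_iff_coeff_eq_zero]
  intro N hN
  rw [coeff_lamPoly, if_neg (by omega)]

omit [LambdaOps L] in
lemma lamPoly_facts [Nontrivial K] (m : ℕ) (x : K) (hx : IsUnit (LambdaOps.lam m x)) :
    (lamPoly m x).natDegree = m ∧ IsUnit (lamPoly m x).leadingCoeff ∧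
      (lamPoly m x).coeff 0 = 1 := by
  have hc : (lamPoly m x).coeff m = (-1 : K) ^ m * LambdaOps.lam m x := by
    rw [coeff_lamPoly, if_pos le_rfl]
  have hu : IsUnit ((-1 : K) ^ m * LambdaOps.lam m x) :=
    ((isUnit_one.neg).pow m).mul hx
  have hdeg : (lamPoly m x).natDegree = m := by
    refine le_antisymm (natDegree_lamPoly_le m x) ?_
    refine Polynomial.le_natDegree_of_ne_zero ?_
    rw [hc]; exact hu.ne_zero
  refine ⟨hdeg, ?_, ?_⟩
  · rw [Polynomial.leadingCoeff, hdeg, hc]; exact hu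
  · rw [coeff_lamPoly, if_pos (Nat.zero_le m), pow_zero, one_mul, LambdaOps.lam_zero]

end Polys

section Ident

variable {K : Type u} [CommRing K] [LambdaOps K] {P : PosStructure K}

/-- Splitting data with the right number of line elements. -/
lemma exists_split_fin (hK : HasSplitting K P) (e : K) (he : e ∈ P.pos) (m : ℕ)
    (hm : P.aug e = m) :
    ∃ (L : PosLambdaRing.{u}) (g : K →+* L.carrier), IsExtension P L.posStr g ∧
      HasSplitting L.carrier L.posStr ∧
      ∃ v : Fin m → L.carrier, (∀ k, L.posStr.IsLine (v k)) ∧ g e = ∑ k, v k := by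
  obtain ⟨L, g, hg, hL, s, hs, hsum⟩ := exists_extension_multiset hK e he
  obtain ⟨n, v, hv, hvsum, hn⟩ := exists_fin_of_multiset L.posStr s hs
  have hnm : n = m := by
    have h1 := aug_multiset_sum_lines L.posStr s hs
    rw [hsum, hg.aug_comp, hm, ← hn] at h1
    exact_mod_cast h1.symm
  subst hnm
  exact ⟨L, g, hg, hL, v, hv, by rw [hvsum, hsum]⟩

/-- The product identity `Λ · Λ_j = Λ^{(j)}(X^j)`. -/
theorem lamPoly_mul_bottPolyX (hK : HasSplitting K P) (e : K) (he : e ∈ P.pos) (m : ℕ)
    (hm : P.aug e = m) (j : ℕ) :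
    lamPoly m e * bottPolyX j m e = Polynomial.expand K j (lamPoly m (adams P j e)) := by
  obtain ⟨L, g, hg, hL, v, hv, hge⟩ := exists_split_fin hK e he m hm
  apply Polynomial.map_injective g hg.injective
  have hgad : g (adams P j e) = ∑ k, (v k) ^ j := by
    rw [isExtension_map_adams hg, hge, adams_sum]
    exact sum_congr rfl fun k _ => adams_of_isLine L.posStr _ (hv k) j
  rw [Polynomial.map_mul, Polynomial.map_expand,
    map_lamPoly L.posStr hg.isLambdaHom v hv e hge,
    map_bottPolyX L.posStr hg.isLambdaHom v hv j e hge,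
    map_lamPoly L.posStr hg.isLambdaHom (fun k => (v k) ^ j)
      (fun k => isLine_pow L.posStr (hv k) j) (adams P j e) hgad,
    ← prod_mul_distrib, map_prod]
  refine prod_congr rfl fun k _ => ?_
  rw [mul_neg_geom_sum, map_sub, map_one, map_mul, Polynomial.expand_C, Polynomial.expand_X,
    mul_pow, Polynomial.C_pow]

/-- `λ^m(ψ^j e)` is a unit. -/
theorem isUnit_lam_adams (hK : HasSplitting K P) (e : K) (he : e ∈ P.pos) (m : ℕ)
    (hm : P.aug e = m) (j : ℕ) : IsUnit (LambdaOps.lam m (adams P j e)) := by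
  classical
  obtain ⟨L, g, hg, hL, v, hv, hge⟩ := exists_split_fin hK e he m hm
  have hgad : g (adams P j e) = ∑ k, (v k) ^ j := by
    rw [isExtension_map_adams hg, hge, adams_sum]
    exact sum_congr rfl fun k _ => adams_of_isLine L.posStr _ (hv k) j
  have htop : ∀ w : Fin m → L.carrier,
      ∑ t ∈ (univ : Finset (Fin m)).powersetCard m, ∏ k ∈ t, w k = ∏ k, w k := by
    intro w
    have : (univ : Finset (Fin m)).powersetCard m = {univ} := by
      have := powersetCard_self (univ : Finset (Fin m))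
      rwa [card_univ, Fintype.card_fin] at this
    rw [this, sum_singleton]
  have h1 : g (LambdaOps.lam m (adams P j e)) = g (LambdaOps.lam m e) ^ j := by
    rw [hg.isLambdaHom, hgad, lam_sum_lines L.posStr _ (fun k => isLine_pow L.posStr (hv k) j),
      hg.isLambdaHom, hge, lam_sum_lines L.posStr v hv, htop, htop, prod_pow]
  have h2 : LambdaOps.lam m (adams P j e) = LambdaOps.lam m e ^ j := by
    apply hg.injective
    rw [h1, map_pow]
  rw [h2]
  have := P.isUnit_lam e he
  rw [hm, Int.toNat_natCast] at this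
  exact this.pow j

theorem bottPolyX_facts (hK : HasSplitting K P) (e : K) (he : e ∈ P.pos) (m : ℕ)
    (hm : P.aug e = m) (j : ℕ) (hj : 1 ≤ j) :
    (bottPolyX j m e).coeff 0 = 1 ∧ (bottPolyX j m e).natDegree + m ≤ j * m := by
  obtain ⟨L, g, hg, hL, v, hv, hge⟩ := exists_split_fin hK e he m hm
  have hmap := map_bottPolyX L.posStr hg.isLambdaHom v hv j e hge
  constructor
  · apply hg.injective
    rw [map_one, ← Polynomial.coeff_map, hmap, Polynomial.coeff_zero_eq_eval_zero,
      Polynomial.eval_prod]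
    refine prod_eq_one fun k _ => ?_
    rw [Polynomial.eval_finsetSum, sum_eq_single 0]
    · simp
    · intro b _ hb
      simp [hb]
    · intro h; exact absurd (mem_range.mpr (by omega)) h
  · have h1 : (bottPolyX j m e).natDegree = ((bottPolyX j m e).map g).natDegree :=
      (Polynomial.natDegree_map_eq_of_injective hg.injective _).symm
    have h2 : ((bottPolyX j m e).map g).natDegree ≤ ∑ _k : Fin m, (j - 1) := by
      rw [hmap]
      refine (Polynomial.natDegree_prod_le _ _).trans (sum_le_sum fun k _ => ?_)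
      refine Polynomial.natDegree_sum_le_of_forall_le _ _ fun l hl => ?_
      rw [mem_range] at hl
      refine (Polynomial.natDegree_pow_le).trans ?_
      have : (Polynomial.C (v k) * Polynomial.X).natDegree ≤ 1 := by
        refine (Polynomial.natDegree_C_mul_le _ _).trans ?_
        exact Polynomial.natDegree_X_le
      calc l * (Polynomial.C (v k) * Polynomial.X).natDegree ≤ l * 1 := Nat.mul_le_mul_left l this
        _ ≤ j - 1 := by omega
    rw [sum_const, card_univ, Fintype.card_fin, smul_eq_mul] at h2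
    rw [h1]
    have h3 : m * (j - 1) + m = j * m := by
      obtain ⟨j', rfl⟩ : ∃ j', j = j' + 1 := ⟨j - 1, by omega⟩
      simp; ring
    omega

end Ident

section Ext

variable {K : Type u} [CommRing K] [LambdaOps K] {P : PosStructure K}
  {K' : Type u} [CommRing K'] [LambdaOps K'] {P' : PosStructure K'} {f : K →+* K'}
  (hf : IsExtension P P' f) (hK' : HasSplitting K' P')
  (ℓ linv : K') (hℓ : P'.IsLine ℓ) (hlinv : linv * ℓ = 1)

include hℓ hlinv in
lemma aug_linv : P'.aug linv = 1 := by
  have := congrArg P'.aug hlinv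
  rwa [map_mul, hℓ.2, mul_one, map_one] at this

include hlinv in
lemma linv_pow_eq (m k : ℕ) (hk : k ≤ m) : linv ^ k = linv ^ m * ℓ ^ (m - k) := by
  obtain ⟨d, rfl⟩ : ∃ d, m = k + d := ⟨m - k, by omega⟩
  rw [Nat.add_sub_cancel_left, pow_add, mul_assoc, ← mul_pow, hlinv, one_pow, mul_one]

include hlinv in
/-- `Λ_e(ℓ⁻¹) = 0`. -/
lemma eval₂_lamPoly_linv (e : K) (m : ℕ)
    (hrel : ∑ i ∈ range (m + 1), f ((-1 : K) ^ i * LambdaOps.lam i e) * ℓ ^ (m - i) = 0) :
    Polynomial.eval₂ f linv (lamPoly m e) = 0 := by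
  rw [lamPoly, Polynomial.eval₂_finsetSum]
  have : ∀ k ∈ range (m + 1), Polynomial.eval₂ f linv
      (Polynomial.C ((-1 : K) ^ k * LambdaOps.lam k e) * Polynomial.X ^ k) =
      linv ^ m * (f ((-1 : K) ^ k * LambdaOps.lam k e) * ℓ ^ (m - k)) := by
    intro k hk
    rw [mem_range] at hk
    rw [Polynomial.eval₂_mul, Polynomial.eval₂_C, Polynomial.eval₂_X_pow,
      linv_pow_eq ℓ linv hlinv m k (by omega)]
    ring
  rw [sum_congr rfl this, ← mul_sum, hrel, mul_zero]

include hf hK' hℓ hlinv in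
lemma lam_mul_linv (e : K) (k : ℕ) :
    LambdaOps.lam k (f e * linv) = f (LambdaOps.lam k e) * linv ^ k := by
  have h1 := lam_mul_line hK' ℓ hℓ (f e * linv) k
  rw [mul_assoc, hlinv, mul_one, ← hf.isLambdaHom] at h1
  rw [h1, mul_assoc, ← mul_pow, mul_comm ℓ, hlinv, one_pow, mul_one]

lemma bott_eq_of_aug {A : Type u} [CommRing A] [LambdaOps A] (PA : PosStructure A) (j : ℕ) (y : A)
    (m : ℕ) (hm : PA.aug y = m) :
    KRR.bott PA j y =
      MvPolynomial.aeval (fun i : Fin m => LambdaOps.lam (i.1 + 1) y) (KRR.bottPoly j m) := by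
  unfold KRR.bott
  have : (PA.aug y).toNat = m := by rw [hm]; rfl
  rw [this]

include hf hK' hℓ hlinv in
/-- `θ^j(e ℓ⁻¹) = Λ_j(ℓ⁻¹)`. -/
lemma bott_mul_linv (e : K) (m : ℕ) (hm : P.aug e = m) (j : ℕ) :
    KRR.bott P' j (f e * linv) = Polynomial.eval₂ f linv (bottPolyX j m e) := by
  have haug : P'.aug (f e * linv) = m := by
    rw [map_mul, hf.aug_comp, hm, aug_linv ℓ linv hℓ hlinv, mul_one]
  rw [bott_eq_of_aug P' j _ m haug, bottPolyX]
  have h1 := MvPolynomial.comp_aeval_apply (R := ℤ)
    (f := fun i : Fin m => Polynomial.C (LambdaOps.lam (i.1 + 1) e) * Polynomial.X ^ (i.1 + 1))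
    (φ := (Polynomial.eval₂RingHom f linv).toIntAlgHom) (KRR.bottPoly j m)
  simp only [RingHom.toIntAlgHom_apply, Polynomial.coe_eval₂RingHom] at h1
  refine Eq.trans ?_ h1.symm
  congr 2
  funext i
  rw [Polynomial.eval₂_mul, Polynomial.eval₂_C, Polynomial.eval₂_X_pow,
    lam_mul_linv hf hK' ℓ linv hℓ hlinv]

include hℓ hlinv in
lemma isNilpotent_one_sub_linv (N : ℕ) (hN : gammaFiltration P' N = ⊥) :
    IsNilpotent (1 - linv) := by
  have h1 : ℓ - 1 ∈ gammaFiltration P' 1 :=
    mem_gammaFiltration_one P' _ (by rw [map_sub, hℓ.2, map_one, sub_self])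
  have h2 := pow_mem_gammaFiltration P' h1 N
  rw [one_mul, hN, AddSubgroup.mem_bot] at h2
  refine ⟨N, ?_⟩
  have : 1 - linv = linv * (ℓ - 1) := by rw [mul_sub, hlinv, mul_one]
  rw [this, mul_pow, h2, mul_zero]

include hK' hℓ hlinv in
lemma adams_linv (j : ℕ) : adams P' j linv = linv ^ j := by
  have h1 : adams P' j linv * adams P' j ℓ = 1 := by
    rw [← adams_mul hK', hlinv, adams_one]
  rw [adams_of_isLine P' ℓ hℓ] at h1
  calc adams P' j linv = adams P' j linv * (ℓ ^ j * linv ^ j) := by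
        rw [← mul_pow, mul_comm ℓ, hlinv, one_pow, mul_one]
    _ = linv ^ j := by rw [← mul_assoc, h1, one_mul]

include hlinv in
/-- polynomials in `ℓ⁻¹` generate. -/
lemma exists_eval₂_linv (e : K) (m : ℕ)
    (hΛ : Polynomial.eval₂ f linv (lamPoly m e) = 0)
    (hgen : ∀ x : K', ∃ p : Polynomial K, x = Polynomial.eval₂ f ℓ p) (x : K') :
    ∃ p : Polynomial K, Polynomial.eval₂ f linv p = x := by
  let S : Subring K' := (Polynomial.eval₂RingHom f linv).range
  have hS : ∀ y, y ∈ S ↔ ∃ p : Polynomial K, Polynomial.eval₂ f linv p = y := fun y => Iff.rfl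
  have hfS : ∀ a : K, f a ∈ S := fun a => ⟨Polynomial.C a, by simp⟩
  have hlinvS : linv ∈ S := ⟨Polynomial.X, by simp⟩
  -- `ℓ ∈ S`
  have hℓS : ℓ ∈ S := by
    -- Λ(linv) = 0, constant term 1
    have h0 : (lamPoly m e).coeff 0 = 1 := by
      rw [coeff_lamPoly, if_pos (Nat.zero_le m), pow_zero, one_mul, LambdaOps.lam_zero]
    have h1 := Polynomial.divX_mul_X_add (lamPoly m e)
    rw [h0] at h1
    have h2 := congrArg (Polynomial.eval₂ f linv) h1
    rw [hΛ, Polynomial.eval₂_add, Polynomial.eval₂_mul, Polynomial.eval₂_X, Polynomial.eval₂_C,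
      map_one] at h2
    -- d(linv) * linv + 1 = 0, so ℓ = -d(linv)
    have h3 : ℓ = -Polynomial.eval₂ f linv (lamPoly m e).divX := by
      have : (Polynomial.eval₂ f linv (lamPoly m e).divX * linv + 1) * ℓ = 0 := by
        rw [h2, zero_mul]
      rw [add_mul, mul_assoc, hlinv, mul_one, one_mul] at this
      exact eq_neg_of_add_eq_zero_right this
    rw [h3]
    exact S.neg_mem ⟨_, rfl⟩
  obtain ⟨p, rfl⟩ := hgen x
  have : Polynomial.eval₂ f ℓ p ∈ S := by
    rw [Polynomial.eval₂_eq_sum_range]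
    exact S.sum_mem fun i _ => S.mul_mem (hfS _) (S.pow_mem hℓS i)
  exact (hS _).mp this

end Ext

end Groth.Agent.Lib.T2H7.ARRLam
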