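import Groth.Agent.Lib.T2H7ARRLam

/-!
# Tensor assembly for the Adams–Riemann–Roch theorem for elementary projections (helper for S3804)
-/

set_option autoImplicit false
universe u

namespace Groth.Agent.Lib.T2H7.ARRTensor

open LambdaRing Finset TensorProduct Groth.Agent.Lib.Helper4 Groth.Agent.Lib.T2H7.ARRLam
  Groth.Agent.Lib.T2H7.ARRPoly

section Base

variable {R : Type*} [CommRing R] {K K' : Type u} [CommRing K] [CommRing K'] (f : K →+* K')

/-- `R ⊗ K → R ⊗ K'`. -/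
noncomputable def baseMap : R ⊗[ℤ] K →+* R ⊗[ℤ] K' :=
  (Algebra.TensorProduct.map (AlgHom.id ℤ R) f.toIntAlgHom).toRingHom

lemma baseMap_tmul (r : R) (a : K) : baseMap (R := R) f (r ⊗ₜ a) = r ⊗ₜ f a := by
  simp [baseMap]

/-- `K → R ⊗ K`. -/
noncomputable def incl (R : Type*) [CommRing R] (K : Type u) [CommRing K] : K →+* R ⊗[ℤ] K :=
  (Algebra.TensorProduct.includeRight (R := ℤ) (A := R) (B := K)).toRingHom

lemma incl_apply (a : K) : incl R K a = (1 : R) ⊗ₜ[ℤ] a := rfl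

lemma baseMap_comp_incl : (baseMap (R := R) f).comp (incl R K) = (incl R K').comp f := by
  ext a
  simp [incl_apply, baseMap_tmul]

variable (φ : K' →+ K) (hφlin : ∀ a x, φ (f a * x) = a * φ x)

include hφlin in
lemma lTensor_semilinear (c : R ⊗[ℤ] K) (z : R ⊗[ℤ] K') :
    LinearMap.lTensor R φ.toIntLinearMap (baseMap (R := R) f c * z) =
      c * LinearMap.lTensor R φ.toIntLinearMap z := by
  induction c using TensorProduct.induction_on with
  | zero => simp
  | add c₁ c₂ h₁ h₂ => rw [map_add, add_mul, map_add, h₁, h₂, add_mul]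
  | tmul r a =>
    induction z using TensorProduct.induction_on with
    | zero => simp
    | add z₁ z₂ h₁ h₂ => rw [mul_add, map_add, h₁, h₂, map_add, mul_add]
    | tmul r' x =>
      rw [baseMap_tmul, Algebra.TensorProduct.tmul_mul_tmul, LinearMap.lTensor_tmul,
        LinearMap.lTensor_tmul, Algebra.TensorProduct.tmul_mul_tmul]
      simp [hφlin]

end Base

section Main

variable {K : Type u} [CommRing K] [LambdaOps K] {P : PosStructure K}
  {K' : Type u} [CommRing K'] [LambdaOps K'] {P' : PosStructure K'} {f : K →+* K'}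

/-- **Adams–Riemann–Roch for an elementary projection, after inverting `j`.** -/
theorem arr_tensor (hK : HasSplitting K P) (e : K) (he : e ∈ P.pos) (r : ℕ)
    (hr : P.aug e = ((r + 1 : ℕ) : ℤ))
    (hf : IsExtension P P' f) (hK' : HasSplitting K' P')
    (ℓ linv : K') (hℓ : P'.IsLine ℓ) (hlinv : linv * ℓ = 1)
    (hrel : ∑ i ∈ range (r + 1 + 1), f ((-1 : K) ^ i * LambdaOps.lam i e) * ℓ ^ (r + 1 - i) = 0)
    (hgen : ∀ x : K', ∃ p : Polynomial K, x = Polynomial.eval₂ f ℓ p)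
    (N : ℕ) (hN : gammaFiltration P' N = ⊥)
    (φ : K' →+ K) (hφlin : ∀ a x, φ (f a * x) = a * φ x)
    (hφ : ∀ n, n < r + 1 → φ (linv ^ n) = if n = 0 then 1 else 0)
    (R : Type*) [CommRing R] (j : ℕ) (hj1 : 1 ≤ j) (hjR : IsUnit ((j : ℕ) : R)) :
    (∃ w : R ⊗[ℤ] K', w * ((1 : R) ⊗ₜ[ℤ] KRR.bott P' j (f e * linv)) = 1) ∧
    ∀ w : R ⊗[ℤ] K', w * ((1 : R) ⊗ₜ[ℤ] KRR.bott P' j (f e * linv)) = 1 → ∀ x : K',
      (1 : R) ⊗ₜ[ℤ] adams P j (φ x) =
        LinearMap.lTensor R φ.toIntLinearMap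
          (((j : ℕ) : R ⊗[ℤ] K') * w * ((1 : R) ⊗ₜ[ℤ] adams P' j x)) := by
  classical
  let _ : Algebra (R ⊗[ℤ] K) (R ⊗[ℤ] K') := (baseMap (R := R) f).toAlgebra
  have halg : algebraMap (R ⊗[ℤ] K) (R ⊗[ℤ] K') = baseMap (R := R) f := rfl
  -- the case of a trivial ring
  rcases subsingleton_or_nontrivial (R ⊗[ℤ] K) with hsub | hnt
  · have : Subsingleton (R ⊗[ℤ] K') := by
      refine ⟨fun a b => ?_⟩
      have h1 : (1 : R ⊗[ℤ] K') = 0 := by
        rw [← map_one (algebraMap (R ⊗[ℤ] K) (R ⊗[ℤ] K')), Subsingleton.elim (1 : R ⊗[ℤ] K) 0,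
          map_zero]
      rw [← mul_one a, ← mul_one b, h1, mul_zero, mul_zero]
    exact ⟨⟨0, Subsingleton.elim _ _⟩, fun _ _ _ => Subsingleton.elim _ _⟩
  have : Nontrivial K := by
    by_contra h
    rw [not_nontrivial_iff_subsingleton] at h
    have : (1 : R ⊗[ℤ] K) = 0 := by
      rw [Algebra.TensorProduct.one_def, Subsingleton.elim (1 : K) 0, tmul_zero]
    exact one_ne_zero this
  set m := r + 1 with hm
  -- the linear functional
  let Φ : (R ⊗[ℤ] K') →ₗ[R ⊗[ℤ] K] (R ⊗[ℤ] K) :=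
    { toFun := LinearMap.lTensor R φ.toIntLinearMap
      map_add' := map_add _
      map_smul' := fun c z => by
        rw [Algebra.smul_def, halg, RingHom.id_apply, smul_eq_mul]
        exact lTensor_semilinear f φ hφlin c z }
  have hΦ : ∀ z, Φ z = LinearMap.lTensor R φ.toIntLinearMap z := fun _ => rfl
  set s : R ⊗[ℤ] K' := incl R K' linv with hs
  have h_aeval : ∀ p : Polynomial K,
      Polynomial.aeval s (p.map (incl R K)) = incl R K' (Polynomial.eval₂ f linv p) := by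
    intro p
    rw [Polynomial.aeval_def, Polynomial.eval₂_map, halg, baseMap_comp_incl, Polynomial.hom_eval₂]
  -- polynomial data over `K`
  have hlamunit : IsUnit (LambdaOps.lam m e) := by
    have := P.isUnit_lam e he
    rwa [hr, Int.toNat_natCast] at this
  obtain ⟨hΛdeg, hΛlead, hΛ0⟩ := lamPoly_facts m e hlamunit
  obtain ⟨hΛ'deg, hΛ'lead, hΛ'0⟩ :=
    lamPoly_facts m (adams P j e) (isUnit_lam_adams hK e he m hr j)
  obtain ⟨hΛj0, hΛjdeg⟩ := bottPolyX_facts hK e he m hr j hj1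
  have hprod := lamPoly_mul_bottPolyX hK e he m hr j
  have hΛlinv := eval₂_lamPoly_linv ℓ linv hlinv e m hrel
  -- transport to `R ⊗ K`
  have hmapfacts : ∀ p : Polynomial K, IsUnit p.leadingCoeff →
      (p.map (incl R K)).natDegree = p.natDegree ∧ IsUnit (p.map (incl R K)).leadingCoeff := by
    intro p hp
    have hne : incl R K p.leadingCoeff ≠ 0 := (hp.map (incl R K)).ne_zero
    exact ⟨Polynomial.natDegree_map_of_leadingCoeff_ne_zero _ hne,
      by rw [Polynomial.leadingCoeff_map_of_leadingCoeff_ne_zero _ hne]; exact hp.map _⟩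
  have hjK : IsUnit (((j : ℕ) : R ⊗[ℤ] K)) := by
    have := hjR.map (algebraMap R (R ⊗[ℤ] K))
    rwa [map_natCast] at this
  have hsl : s * incl R K' ℓ = 1 := by rw [hs, ← map_mul, hlinv, map_one]
  have hgen' : ∀ a : R ⊗[ℤ] K', ∃ g : Polynomial (R ⊗[ℤ] K), Polynomial.aeval s g = a := by
    intro a
    induction a using TensorProduct.induction_on with
    | zero => exact ⟨0, map_zero _⟩
    | add a b ha hb =>
      obtain ⟨ga, rfl⟩ := ha
      obtain ⟨gb, rfl⟩ := hb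
      exact ⟨ga + gb, map_add _ _ _⟩
    | tmul c x =>
      obtain ⟨p, hp⟩ := exists_eval₂_linv ℓ linv hlinv e m hΛlinv hgen x
      refine ⟨Polynomial.C (c ⊗ₜ[ℤ] (1 : K)) * p.map (incl R K), ?_⟩
      rw [map_mul, Polynomial.aeval_C, h_aeval, hp, halg, baseMap_tmul, map_one, incl_apply,
        Algebra.TensorProduct.tmul_mul_tmul, mul_one, one_mul]
  have hnil : IsNilpotent (1 - s) := by
    have := (isNilpotent_one_sub_linv ℓ linv hℓ hlinv N hN).map (incl R K')
    rwa [map_sub, map_one] at this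
  have hΦs : ∀ n, n < r + 1 → Φ (s ^ n) = if n = 0 then 1 else 0 := by
    intro n hn
    rw [hΦ, hs, ← map_pow, incl_apply, LinearMap.lTensor_tmul]
    have : φ.toIntLinearMap (linv ^ n) = φ (linv ^ n) := rfl
    rw [this, hφ n hn]
    split_ifs
    · rfl
    · rw [tmul_zero]
  obtain ⟨w₀, hw₀, hmain⟩ := abstract_arr s (incl R K' ℓ) hsl r Φ hΦs
    ((lamPoly m e).map (incl R K)) ((bottPolyX j m e).map (incl R K))
    ((lamPoly m (adams P j e)).map (incl R K))
    (hmapfacts _ hΛlead).2 ((hmapfacts _ hΛlead).1.trans hΛdeg)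
    (by rw [h_aeval, hΛlinv, map_zero]) hgen' hnil j hj1 hjK
    (hmapfacts _ hΛ'lead).2 ((hmapfacts _ hΛ'lead).1.trans hΛ'deg)
    (by rw [Polynomial.coeff_map, hΛ'0, map_one])
    (by rw [Polynomial.coeff_map, hΛj0, map_one])
    (le_trans (Nat.add_le_add_right (Polynomial.natDegree_map_le) _) hΛjdeg)
    (by rw [← Polynomial.map_mul, hprod, Polynomial.map_expand])
  have hθ : Polynomial.aeval s ((bottPolyX j m e).map (incl R K)) =
      (1 : R) ⊗ₜ[ℤ] KRR.bott P' j (f e * linv) := by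
    rw [h_aeval, ← bott_mul_linv hf hK' ℓ linv hℓ hlinv e m hr j, incl_apply]
  rw [hθ] at hw₀
  refine ⟨⟨w₀, hw₀⟩, fun w hw x => ?_⟩
  have hww : w = w₀ := by
    calc w = w * (w₀ * ((1 : R) ⊗ₜ[ℤ] KRR.bott P' j (f e * linv))) := by rw [hw₀, mul_one]
      _ = (w * ((1 : R) ⊗ₜ[ℤ] KRR.bott P' j (f e * linv))) * w₀ := by ring
      _ = w₀ := by rw [hw, one_mul]
  subst hww
  -- write `x` as a polynomial of low degree in `linv`
  obtain ⟨p, hp⟩ := exists_eval₂_linv ℓ linv hlinv e m hΛlinv hgen x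
  obtain ⟨q, ρ, hpq, hρ⟩ := exists_div_rem (lamPoly m e) hΛlead hΛdeg (by omega) p
  have hx : x = ∑ n ∈ range m, f (ρ.coeff n) * linv ^ n := by
    rw [← hp, hpq, Polynomial.eval₂_add, Polynomial.eval₂_mul, hΛlinv, zero_mul, zero_add,
      Polynomial.eval₂_eq_sum_range' f hρ]
  have hφx : φ x = ρ.coeff 0 := by
    rw [hx, map_sum]
    have : ∀ n ∈ range m, φ (f (ρ.coeff n) * linv ^ n) = if n = 0 then ρ.coeff 0 else 0 := by
      intro n hn
      rw [hφlin, hφ n (mem_range.mp hn)]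
      split_ifs with h0
      · subst h0; rw [mul_one]
      · rw [mul_zero]
    rw [sum_congr rfl this, sum_ite_eq' (range m) 0 (fun _ => ρ.coeff 0),
      if_pos (mem_range.mpr (by omega))]
  have hψx : adams P' j x = ∑ n ∈ range m, f (adams P j (ρ.coeff n)) * (linv ^ j) ^ n := by
    rw [hx, adams_sum]
    refine sum_congr rfl fun n _ => ?_
    rw [adams_mul hK', ← isExtension_map_adams hf, ← adamsRingHom_apply hK', map_pow,
      adamsRingHom_apply, adams_linv hK' ℓ linv hℓ hlinv]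
  have h1 : ((j : ℕ) : R ⊗[ℤ] K') * w * ((1 : R) ⊗ₜ[ℤ] adams P' j x) =
      ∑ n ∈ range m, baseMap (R := R) f ((1 : R) ⊗ₜ[ℤ] adams P j (ρ.coeff n)) *
        (((j : ℕ) : R ⊗[ℤ] K') * w * (s ^ j) ^ n) := by
    rw [hψx, tmul_sum, mul_sum]
    refine sum_congr rfl fun n _ => ?_
    have : (1 : R) ⊗ₜ[ℤ] (f (adams P j (ρ.coeff n)) * (linv ^ j) ^ n) =
        ((1 : R) ⊗ₜ[ℤ] f (adams P j (ρ.coeff n))) * (s ^ j) ^ n := by
      rw [hs, incl_apply, Algebra.TensorProduct.tmul_pow, Algebra.TensorProduct.tmul_pow, one_pow,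
        one_pow]
      simp [Algebra.TensorProduct.tmul_mul_tmul]
    rw [baseMap_tmul, this, mul_left_comm]
  rw [h1, map_sum]
  have h2 : ∀ n ∈ range m, LinearMap.lTensor R φ.toIntLinearMap
      (baseMap (R := R) f ((1 : R) ⊗ₜ[ℤ] adams P j (ρ.coeff n)) *
        (((j : ℕ) : R ⊗[ℤ] K') * w * (s ^ j) ^ n)) =
      if n = 0 then (1 : R) ⊗ₜ[ℤ] adams P j (ρ.coeff 0) else 0 := by
    intro n hn
    rw [lTensor_semilinear f φ hφlin, ← hΦ, hmain n (mem_range.mp hn)]
    split_ifs with h0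
    · subst h0; rw [mul_one]
    · rw [mul_zero]
  rw [sum_congr rfl h2, sum_ite_eq' (range m) 0 (fun _ => (1 : R) ⊗ₜ[ℤ] adams P j (ρ.coeff 0)),
    if_pos (mem_range.mpr (by omega)), hφx]

end Main

end Groth.Agent.Lib.T2H7.ARRTensor
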