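import Mathlib
import Groth.Agent.Lib.T2H7AffConst
import Groth.Agent.Lib.T2H7AbFib

set_option autoImplicit false
set_option linter.unusedSectionVars false
set_option linter.unusedVariables false
set_option linter.style.haveILetI false

universe u

namespace Groth.Agent.Lib.T2H7.AbAut

open CategoryTheory CategoryTheory.Limits AlgebraicGeometry
open MonoidalCategory CartesianMonoidalCategory MonObj GrpObj

/-- **A unit-preserving morphism from a proper flat group scheme with `H⁰(X_s) = κ(s)` to a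
separated group scheme is a homomorphism** (locally Noetherian base). -/
theorem isMonHom_of_h0 (S : Scheme.{u}) [IsLocallyNoetherian S]
    (X G : Over S) [GrpObj X] [GrpObj G] [Flat X.hom] [IsProper X.hom]
    (h0 : ∀ s : S, Function.Bijective (pullback.snd X.hom (S.fromSpecResidueField s)).appTop.hom)
    [IsSeparated G.hom] (f : X ⟶ G) (hf : η[X] ≫ f = η[G]) :
    IsMonHom f := by
  classical
  have hXN : IsLocallyNoetherian X.left := LocallyOfFiniteType.isLocallyNoetherian X.hom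
  have hη : (η[X]).left ≫ X.hom = 𝟙 S := by
    have := Over.w (η[X])
    rw [Over.tensorUnit_hom] at this
    exact this
  have hconn : ∀ y : X.left, ∃ C : Set X.left, _root_.IsPreconnected C ∧ y ∈ C ∧
      ∃ s : S, (η[X]).left.base s ∈ C := by
    intro y
    refine ⟨X.hom.base ⁻¹' {X.hom.base y},
      (Groth.Agent.Lib.T2H7.MumD.isConnected_fibre X.hom _ (h0 _)).isPreconnected, rfl,
      X.hom.base y, ?_⟩
    show X.hom.base ((η[X]).left.base (X.hom.base y)) = X.hom.base y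
    have h1 := congrArg (fun k : S ⟶ S => k.base (X.hom.base y)) hη
    simp only [Scheme.Hom.comp_base, TopCat.comp_app] at h1
    rw [h1]
    rfl
  obtain ⟨g, h, hgh⟩ := Groth.Agent.Lib.T2H7.MumF.decomp S X X G h0 η[X] hconn (μ[X] ≫ f)
  -- the constants
  let a : 𝟙_ (Over S) ⟶ G := η[X] ≫ g
  let b : 𝟙_ (Over S) ⟶ G := η[X] ≫ h
  have hfi : f = g * (toUnit X ≫ b) := by
    have h1 := congrArg (fun k => lift (𝟙 X) (toUnit X ≫ η[X]) ≫ k) hgh
    rw [← Category.assoc, MonObj.lift_comp_one_right, Category.id_comp, MonObj.comp_mul,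
      ← Category.assoc, lift_fst, Category.id_comp, ← Category.assoc, lift_snd] at h1
    rw [h1, Category.assoc]
  have hfj : f = (toUnit X ≫ a) * h := by
    have h1 := congrArg (fun k => lift (toUnit X ≫ η[X]) (𝟙 X) ≫ k) hgh
    rw [← Category.assoc, MonObj.lift_comp_one_left, Category.id_comp, MonObj.comp_mul,
      ← Category.assoc, lift_fst, ← Category.assoc, lift_snd, Category.id_comp] at h1
    rw [h1, Category.assoc]
  have hab : a * b = 1 := by
    have h1 := congrArg (fun k => η[X] ≫ k) hfi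
    rw [hf, MonObj.comp_mul, ← Category.assoc, toUnit_unique (η[X] ≫ toUnit X) (𝟙 _),
      Category.id_comp] at h1
    rw [← h1, Hom.one_def, toUnit_unique (toUnit (𝟙_ (Over S))) (𝟙 _), Category.id_comp]
  let T : X ⊗ X ⟶ 𝟙_ (Over S) := toUnit (X ⊗ X)
  have hP : fst X X ≫ f = (fst X X ≫ g) * (T ≫ b) := by
    have h1 := congrArg (fun k => fst X X ≫ k) hfi
    rw [MonObj.comp_mul, ← Category.assoc, toUnit_unique (fst X X ≫ toUnit X) T] at h1
    exact h1
  have hQ : snd X X ≫ f = (T ≫ a) * (snd X X ≫ h) := by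
    have h1 := congrArg (fun k => snd X X ≫ k) hfj
    rw [MonObj.comp_mul, ← Category.assoc, toUnit_unique (snd X X ≫ toUnit X) T] at h1
    exact h1
  have hAB : (T ≫ a) * (T ≫ b) = 1 := by
    rw [← MonObj.comp_mul, hab, Hom.one_def, Hom.one_def, ← Category.assoc,
      toUnit_unique (T ≫ toUnit _) (toUnit _)]
  have hBA : (T ≫ b) * (T ≫ a) = 1 := by
    have h1 : T ≫ b = (T ≫ a)⁻¹ := eq_inv_of_mul_eq_one_right hAB
    rw [h1, inv_mul_cancel]
  have hmul : μ[X] ≫ f = (fst X X ≫ f) * (snd X X ≫ f) := by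
    rw [hgh, hP, hQ]
    calc (fst X X ≫ g) * (snd X X ≫ h)
        = (fst X X ≫ g) * 1 * (snd X X ≫ h) := by rw [_root_.mul_one]
      _ = (fst X X ≫ g) * ((T ≫ b) * (T ≫ a)) * (snd X X ≫ h) := by rw [hBA]
      _ = (fst X X ≫ g) * (T ≫ b) * ((T ≫ a) * (snd X X ≫ h)) := by
          simp only [_root_.mul_assoc]
  refine ⟨hf, ?_⟩
  rw [hmul, Hom.mul_def]
  congr 1


section Aut

variable (k : Type u) [Field k] [IsAlgClosed k]

/-- a rational point of a nonempty scheme locally of finite type over an algebraically closed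
field -/
theorem exists_rational_point (S : Over (Spec (CommRingCat.of k))) [LocallyOfFiniteType S.hom]
    [Nonempty ↥S.left] : Nonempty (𝟙_ (Over (Spec (CommRingCat.of k))) ⟶ S) := by
  have hJ : JacobsonSpace ↥S.left := LocallyOfFiniteType.jacobsonSpace S.hom
  obtain ⟨x, -, hx⟩ := nonempty_inter_closedPoints (X := ↥S.left) (Z := Set.univ)
    Set.univ_nonempty isOpen_univ.isLocallyClosed
  obtain ⟨p, hp, -⟩ := Groth.Agent.Lib.Helper11KPts.exists_point_of_closedPoint (k := k) (K := k)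
    S.hom x hx
  have hp' : p ≫ S.hom = (𝟙_ (Over (Spec (CommRingCat.of k)))).hom := by
    rw [hp, Over.tensorUnit_hom]
    have : CommRingCat.ofHom (algebraMap k k) = 𝟙 (CommRingCat.of k) := rfl
    rw [this, Spec.map_id]
  exact ⟨Over.homMk p hp'⟩

variable (A S : Over (Spec (CommRingCat.of k))) [GrpObj A] [IsProper A.hom] [Smooth A.hom]
  [ConnectedSpace ↥A.left] [LocallyOfFiniteType S.hom] [QuasiCompact S.hom] [ConnectedSpace ↥S.left]

theorem h0_of_isAlgClosed : ∀ s : ↥(Spec (CommRingCat.of k)), Function.Bijective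
    (pullback.snd A.hom ((Spec (CommRingCat.of k)).fromSpecResidueField s)).appTop.hom := by
  have hAred : IsReduced A.left := Groth.Agent.Lib.Helper12.Reduced.isReduced_of_smooth A.hom
  have hΓ : Function.Bijective A.hom.appTop.hom :=
    Groth.Agent.Lib.T2H7.MumF.appTop_bijective_of_isAlgClosed_of_connected A.hom
  exact fun s => Groth.Agent.Lib.T2H7.AbFib.appTop_snd_bijective_of_field A.hom hΓ s

/-- every family of maps `A × S → A` is `g(s) · h(a)` with `h` a homomorphism -/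
theorem exists_decomp (F : A ⊗ S ⟶ A) :
    ∃ (g : S ⟶ A) (h : A ⟶ A), IsMonHom h ∧ F = (snd A S ≫ g) * (fst A S ≫ h) := by
  have h0 := h0_of_isAlgClosed k A
  have hflat : Flat A.hom := inferInstance
  have hSN : IsLocallyNoetherian S.left := LocallyOfFiniteType.isLocallyNoetherian S.hom
  obtain ⟨s₀⟩ := exists_rational_point k S
  have hconn : ∀ y : S.left, ∃ C : Set S.left, _root_.IsPreconnected C ∧ y ∈ C ∧
      ∃ s : ↥(Spec (CommRingCat.of k)), s₀.left.base s ∈ C :=
    fun y => ⟨Set.univ, isPreconnected_univ, trivial, Classical.arbitrary _, trivial⟩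
  obtain ⟨g₁, h₁, hF'⟩ := Groth.Agent.Lib.T2H7.MumF.decomp (Spec (CommRingCat.of k)) A S A h0 s₀ hconn F⁻¹
  have hF : F = (snd A S ≫ h₁⁻¹) * (fst A S ≫ g₁⁻¹) := by
    rw [GrpObj.comp_inv, GrpObj.comp_inv, ← _root_.mul_inv_rev, ← hF', _root_.inv_inv]
  obtain ⟨a₀, ha₀⟩ : ∃ a₀ : 𝟙_ (Over (Spec (CommRingCat.of k))) ⟶ A, a₀ = η[A] ≫ g₁⁻¹ := ⟨_, rfl⟩
  obtain ⟨h, hh⟩ : ∃ h : A ⟶ A, h = (toUnit A ≫ a₀)⁻¹ * g₁⁻¹ := ⟨_, rfl⟩
  obtain ⟨g, hg⟩ : ∃ g : S ⟶ A, g = h₁⁻¹ * (toUnit S ≫ a₀) := ⟨_, rfl⟩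
  have hηh : η[A] ≫ h = η[A] := by
    rw [hh, MonObj.comp_mul, GrpObj.comp_inv, ← Category.assoc,
      toUnit_unique (η[A] ≫ toUnit A) (𝟙 _), Category.id_comp, ← ha₀, inv_mul_cancel,
      Hom.one_def, toUnit_unique (toUnit (𝟙_ (Over (Spec (CommRingCat.of k))))) (𝟙 _),
      Category.id_comp]
  have hsep : IsSeparated A.hom := inferInstance
  have hmon : IsMonHom h := isMonHom_of_h0 (Spec (CommRingCat.of k)) A A h0 h hηh
  refine ⟨g, h, hmon, ?_⟩
  have e1 : snd A S ≫ g = (snd A S ≫ h₁⁻¹) * (toUnit (A ⊗ S) ≫ a₀) := by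
    rw [hg, MonObj.comp_mul, ← Category.assoc (snd A S) (toUnit S),
      toUnit_unique (snd A S ≫ toUnit S) (toUnit (A ⊗ S))]
  have e2 : fst A S ≫ h = (toUnit (A ⊗ S) ≫ a₀)⁻¹ * (fst A S ≫ g₁⁻¹) := by
    rw [hh, MonObj.comp_mul, GrpObj.comp_inv (fst A S) (toUnit A ≫ a₀),
      ← Category.assoc (fst A S) (toUnit A),
      toUnit_unique (fst A S ≫ toUnit A) (toUnit (A ⊗ S))]
  rw [hF, e1, e2, _root_.mul_assoc, mul_inv_cancel_left]

/-- uniqueness of the decomposition -/
theorem decomp_unique {g g' : S ⟶ A} {h h' : A ⟶ A} [IsMonHom h] [IsMonHom h']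
    (he : (snd A S ≫ g) * (fst A S ≫ h) = (snd A S ≫ g') * (fst A S ≫ h')) :
    g = g' ∧ h = h' := by
  obtain ⟨s₀⟩ := exists_rational_point k S
  have hgg : g = g' := by
    have h1 := congrArg (fun t => lift (toUnit S ≫ η[A]) (𝟙 S) ≫ t) he
    simp only [MonObj.comp_mul] at h1
    rw [← Category.assoc, lift_snd, Category.id_comp, ← Category.assoc, lift_fst, Category.assoc,
      IsMonHom.one_hom, ← Category.assoc, lift_snd, Category.id_comp, ← Category.assoc, lift_fst,
      Category.assoc, IsMonHom.one_hom, ← Hom.one_def, _root_.mul_one, _root_.mul_one] at h1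
    exact h1
  refine ⟨hgg, ?_⟩
  rw [hgg] at he
  have h2 := mul_left_cancel he
  have h3 := congrArg (fun t => lift (𝟙 A) (toUnit A ≫ s₀) ≫ t) h2
  rw [← Category.assoc, lift_fst, Category.id_comp, ← Category.assoc, lift_fst,
    Category.id_comp] at h3
  exact h3

/-- **Automorphisms of a constant abelian family.** -/
theorem aut_decomp (f : A ⊗ S ≅ A ⊗ S) (hf : f.hom ≫ snd A S = snd A S) :
    ∃ (g : S ⟶ A) (h : A ⟶ A), IsMonHom h ∧ IsIso h ∧
      f.hom ≫ fst A S = (snd A S ≫ g) * (fst A S ≫ h) ∧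
      ∀ (g' : S ⟶ A) (h' : A ⟶ A), IsMonHom h' →
        f.hom ≫ fst A S = (snd A S ≫ g') * (fst A S ≫ h') → g' = g ∧ h' = h := by
  have hf' : f.inv ≫ snd A S = snd A S := by
    calc f.inv ≫ snd A S = f.inv ≫ f.hom ≫ snd A S := by rw [hf]
      _ = snd A S := by rw [← Category.assoc, Iso.inv_hom_id, Category.id_comp]
  obtain ⟨g, h, hmon, hF⟩ := exists_decomp k A S (f.hom ≫ fst A S)
  obtain ⟨g₂, h₂, hmon₂, hF₂⟩ := exists_decomp k A S (f.inv ≫ fst A S)
  -- a general composition formula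
  have key : ∀ (u : A ⊗ S ⟶ A ⊗ S) (hu : u ≫ snd A S = snd A S) (ga gb : S ⟶ A) (ha hb : A ⟶ A)
      [IsMonHom hb], u ≫ fst A S = (snd A S ≫ ga) * (fst A S ≫ ha) →
      u ≫ ((snd A S ≫ gb) * (fst A S ≫ hb)) =
        (snd A S ≫ (gb * (ga ≫ hb))) * (fst A S ≫ (ha ≫ hb)) := by
    intro u hu ga gb ha hb _ hua
    rw [MonObj.comp_mul, ← Category.assoc, hu, ← Category.assoc u, hua, MonObj.mul_comp,
      MonObj.comp_mul]
    simp only [Category.assoc, _root_.mul_assoc]
  have hid : fst A S = (snd A S ≫ (1 : S ⟶ A)) * (fst A S ≫ 𝟙 A) := by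
    rw [MonObj.comp_one, _root_.one_mul, Category.comp_id]
  have e1 : h ≫ h₂ = 𝟙 A := by
    have h1 : f.hom ≫ f.inv ≫ fst A S = fst A S := by
      rw [← Category.assoc, Iso.hom_inv_id, Category.id_comp]
    rw [hF₂, key f.hom hf g g₂ h h₂ hF] at h1
    have h2 := h1.trans hid
    exact (decomp_unique k A S h2).2
  have e2 : h₂ ≫ h = 𝟙 A := by
    have h1 : f.inv ≫ f.hom ≫ fst A S = fst A S := by
      rw [← Category.assoc, Iso.inv_hom_id, Category.id_comp]
    rw [hF, key f.inv hf' g₂ g h₂ h hF₂] at h1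
    have h2 := h1.trans hid
    exact (decomp_unique k A S h2).2
  refine ⟨g, h, hmon, ⟨h₂, e1, e2⟩, hF, ?_⟩
  intro g' h' hmon' hF'
  have h3 := decomp_unique k A S (hF'.symm.trans hF)
  exact h3

end Aut

end Groth.Agent.Lib.T2H7.AbAut
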