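import Mathlib
import Groth.Prelude.Def_AlgGrp
import Groth.Agent.Lib.T2H7Collapse
import Groth.Agent.Lib.T2H5PicBaseDescB

set_option autoImplicit false
set_option linter.unusedSectionVars false
set_option linter.unusedVariables false
set_option linter.style.haveILetI false

universe u

namespace Groth.Agent.Lib.T2H7.ActDescend

open CategoryTheory CategoryTheory.Limits AlgebraicGeometry MonoidalCategory
  CartesianMonoidalCategory MonObj GrpObj

section BC

variable {S : Scheme.{u}} (K : Over S) {X Y : Over S} (f : X ⟶ Y)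

theorem isPullback_whiskerLeft :
    IsPullback (pullback.snd K.hom X.hom) (K ◁ f).left f.left (pullback.snd K.hom Y.hom) := by
  have h1 : (K ◁ f).left ≫ pullback.fst K.hom Y.hom = pullback.fst K.hom X.hom := by
    have := congrArg (fun t : K ⊗ X ⟶ K => t.left) (whiskerLeft_fst K f)
    exact this
  have h2 : (K ◁ f).left ≫ pullback.snd K.hom Y.hom = pullback.snd K.hom X.hom ≫ f.left := by
    have := congrArg (fun t : K ⊗ X ⟶ Y => t.left) (whiskerLeft_snd K f)
    exact this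
  have h3 : IsPullback (K ◁ f).left (pullback.snd K.hom X.hom) (pullback.snd K.hom Y.hom)
      f.left := by
    refine IsPullback.of_right ?_ h2 (IsPullback.of_hasPullback K.hom Y.hom)
    rw [h1, Over.w f]
    exact IsPullback.of_hasPullback K.hom X.hom
  exact h3.flip

/-- `O_Y = f_* O_X` (on all opens) is stable under the flat base change `K × -`. -/
theorem bijective_app_whiskerLeft [Flat K.hom] [QuasiCompact f.left] [QuasiSeparated f.left]
    (hf : ∀ U : Y.left.Opens, Function.Bijective (f.left.app U).hom)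
    (U' : (K ⊗ Y).left.Opens) : Function.Bijective ((K ◁ f).left.app U').hom :=
  Groth.Agent.Lib.T2H5.PicBaseDescB.bijective_app_baseChange f.left (pullback.snd K.hom Y.hom)
    (pullback.snd K.hom X.hom) (K ◁ f).left (isPullback_whiskerLeft K f) hf U'

theorem isProper_whiskerLeft [IsProper f.left] : IsProper (K ◁ f).left :=
  MorphismProperty.of_isPullback (isPullback_whiskerLeft K f) inferInstance

theorem epi_whiskerLeft [Flat K.hom] [IsProper f.left]
    (hf : ∀ U : Y.left.Opens, Function.Bijective (f.left.app U).hom) : Epi (K ◁ f) := by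
  have hprop := isProper_whiskerLeft K f
  have h0 := bijective_app_whiskerLeft K f hf
  have hcl : IsClosedMap (K ◁ f).left.base := (K ◁ f).left.isClosedMap
  have hs := Groth.Agent.Lib.T2H7.Collapse.surjective_of_bijective (K ◁ f).left hcl
    (fun U => (h0 U).1)
  have hepi : Epi (K ◁ f).left :=
    Groth.Agent.Lib.T2H7.Collapse.epi_of_surjective_of_injective _ (fun U => (h0 U).1)
  exact (Over.forget S).epi_of_epi_map hepi

end BC

section Formal

variable {S : Scheme.{u}}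

/-- An action on `P` descends along `π : P → X` through which it factors, if `𝟙 ◁ π` and
`(G ⊗ G) ◁ π` are epimorphisms. -/
theorem exists_action_of_epi {G P X : Over S} [GrpObj G] (a : AlgGrp.Action G P) (π : P ⟶ X)
    (hepi1 : Epi ((𝟙_ (Over S)) ◁ π)) (hepi2 : Epi ((G ⊗ G) ◁ π))
    (b : G ⊗ X ⟶ X) (hb : a.act ≫ π = (G ◁ π) ≫ b) :
    ∃ b' : AlgGrp.Action G X, b'.act = b := by
  refine ⟨⟨b, ?_, ?_⟩, rfl⟩
  · rw [← cancel_epi ((𝟙_ (Over S)) ◁ π)]
    rw [← Category.assoc, whisker_exchange, Category.assoc, ← hb, ← Category.assoc, a.one_act,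
      leftUnitor_naturality]
  · rw [← cancel_epi ((G ⊗ G) ◁ π)]
    rw [← Category.assoc, whisker_exchange, Category.assoc, ← hb, ← Category.assoc, a.mul_act]
    simp only [Category.assoc]
    rw [hb, ← MonoidalCategory.whiskerLeft_comp_assoc, hb, MonoidalCategory.whiskerLeft_comp_assoc,
      associator_naturality_right_assoc]

end Formal

section Main

variable {S : Scheme.{u}} {G X Y : Over S} [GrpObj G] (f : X ⟶ Y) (a : AlgGrp.Action G X)

/-- (i) ⇒ (ii) -/
theorem stable_of_descends (b : AlgGrp.Action G Y) (hb : (G ◁ f) ≫ b.act = a.act ≫ f)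
    (T : Over S) (g : T ⟶ G) (x₁ x₂ : T ⟶ X) (h : x₁ ≫ f = x₂ ≫ f) :
    lift g x₁ ≫ a.act ≫ f = lift g x₂ ≫ a.act ≫ f := by
  rw [← hb, lift_whiskerLeft_assoc, lift_whiskerLeft_assoc, h]

/-- (ii) ⇒ (iii) -/
theorem const_of_stable
    (h2 : ∀ (T : Over S) (g : T ⟶ G) (x₁ x₂ : T ⟶ X),
        x₁ ≫ f = x₂ ≫ f → lift g x₁ ≫ a.act ≫ f = lift g x₂ ≫ a.act ≫ f)
    (p q : ↥(G ⊗ X).left) (hpq : (G ◁ f).left.base p = (G ◁ f).left.base q) :
    (a.act ≫ f).left.base p = (a.act ≫ f).left.base q := by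
  obtain ⟨z, hz1, hz2⟩ := Scheme.Pullback.exists_preimage_pullback (f := (G ◁ f).left)
    (g := (G ◁ f).left) p q hpq
  let T : Over S := Over.mk (pullback.fst (G ◁ f).left (G ◁ f).left ≫ (G ⊗ X).hom)
  let u₁ : T ⟶ G ⊗ X := Over.homMk (pullback.fst (G ◁ f).left (G ◁ f).left) rfl
  have hw : pullback.snd (G ◁ f).left (G ◁ f).left ≫ (G ⊗ X).hom =
      pullback.fst (G ◁ f).left (G ◁ f).left ≫ (G ⊗ X).hom := by
    rw [← Over.w (G ◁ f), ← Category.assoc, ← pullback.condition, Category.assoc]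
  let u₂ : T ⟶ G ⊗ X := Over.homMk (pullback.snd (G ◁ f).left (G ◁ f).left) hw
  have hu : u₁ ≫ (G ◁ f) = u₂ ≫ (G ◁ f) := by
    apply Over.OverMorphism.ext
    exact pullback.condition
  have hfst : u₂ ≫ fst G X = u₁ ≫ fst G X := by
    rw [← whiskerLeft_fst G f, ← Category.assoc, ← hu, Category.assoc]
  have hsnd : (u₁ ≫ snd G X) ≫ f = (u₂ ≫ snd G X) ≫ f := by
    rw [Category.assoc, Category.assoc, ← whiskerLeft_snd G f, ← Category.assoc, hu,
      Category.assoc]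
  have e1 : lift (u₁ ≫ fst G X) (u₁ ≫ snd G X) = u₁ := by
    apply CartesianMonoidalCategory.hom_ext <;> simp
  have e2 : lift (u₁ ≫ fst G X) (u₂ ≫ snd G X) = u₂ := by
    apply CartesianMonoidalCategory.hom_ext
    · rw [lift_fst, hfst]
    · rw [lift_snd]
  have h3 := h2 T (u₁ ≫ fst G X) (u₁ ≫ snd G X) (u₂ ≫ snd G X) hsnd
  rw [e1, e2] at h3
  have h4 := congrArg (fun t : T ⟶ Y => t.left.base z) h3
  have h5 : (u₁ ≫ a.act ≫ f).left.base z = (a.act ≫ f).left.base (u₁.left.base z) := rfl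
  have h6 : (u₂ ≫ a.act ≫ f).left.base z = (a.act ≫ f).left.base (u₂.left.base z) := rfl
  have h7 : u₁.left.base z = p := hz1
  have h8 : u₂.left.base z = q := hz2
  rw [← h7, ← h8, ← h5, ← h6]
  exact h4

end Main

section Desc

variable {S : Scheme.{u}} {G X Y : Over S} [GrpObj G] (f : X ⟶ Y) (a : AlgGrp.Action G X)

/-- (iii) ⇒ (i) -/
theorem descends_of_const [Flat G.hom] [IsProper f.left]
    (hf : ∀ U : Y.left.Opens, Function.Bijective (f.left.app U).hom)
    (h3 : ∀ p q : ↥(G ⊗ X).left, (G ◁ f).left.base p = (G ◁ f).left.base q →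
      (a.act ≫ f).left.base p = (a.act ≫ f).left.base q) :
    ∃ b : AlgGrp.Action G Y, (G ◁ f) ≫ b.act = a.act ≫ f := by
  obtain ⟨ξ, hξd⟩ : ∃ ξ : (G ⊗ X).left ⟶ (G ⊗ Y).left, ξ = (G ◁ f).left := ⟨_, rfl⟩
  obtain ⟨φ, hφd⟩ : ∃ φ : (G ⊗ X).left ⟶ Y.left, φ = (a.act ≫ f).left := ⟨_, rfl⟩
  have hprop : IsProper ξ := by rw [hξd]; exact isProper_whiskerLeft G f
  have h0 : ∀ U : (G ⊗ Y).left.Opens, Function.Bijective (ξ.app U).hom := by
    rw [hξd]; exact bijective_app_whiskerLeft G f hf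
  have hcl : IsClosedMap ξ.base := ξ.isClosedMap
  have hs := Groth.Agent.Lib.T2H7.Collapse.surjective_of_bijective ξ hcl (fun U => (h0 U).1)
  have hepiξ : Epi ξ :=
    Groth.Agent.Lib.T2H7.Collapse.epi_of_surjective_of_injective _ (fun U => (h0 U).1)
  have hloc : ∀ s : ↥(G ⊗ Y).left, s ∈ Groth.Agent.Lib.T2H7.Collapse.locus ξ φ := by
    intro s
    obtain ⟨x₀, hx₀⟩ := ξ.surjective s
    refine ⟨φ.base x₀, fun x hx => ?_⟩
    rw [hφd]
    apply h3
    rw [← hξd, hx, hx₀]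
  obtain ⟨M, hM⟩ := Groth.Agent.Lib.T2H7.Collapse.exists_fac_locus ξ φ hcl h0
  have hle : (⊤ : (G ⊗ Y).left.Opens) ≤
      ⟨Groth.Agent.Lib.T2H7.Collapse.locus ξ φ,
        Groth.Agent.Lib.T2H7.Collapse.isOpen_locus ξ φ hcl h0⟩ := fun s _ => hloc s
  have hM' := Groth.Agent.Lib.T2H7.Collapse.fac_restrict ξ φ hle hM
  unfold Groth.Agent.Lib.T2H7.Collapse.Fac at hM'
  obtain ⟨r, hr⟩ : ∃ r : ((⊤ : (G ⊗ Y).left.Opens) : Scheme.{u}) ⟶ Y.left,
      r = (G ⊗ Y).left.homOfLE hle ≫ M := ⟨_, rfl⟩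
  rw [← hr] at hM'
  obtain ⟨b₀', hb₀'⟩ : ∃ b₀' : (G ⊗ Y).left ⟶ Y.left,
      b₀' = (Scheme.topIso (G ⊗ Y).left).inv ≫ r := ⟨_, rfl⟩
  have hξb : ξ ≫ b₀' = φ := by
    have hιiso : IsIso (ξ ⁻¹ᵁ (⊤ : (G ⊗ Y).left.Opens)).ι := by
      have : IsIso (Scheme.topIso (G ⊗ X).left).hom := inferInstance
      exact this
    rw [← cancel_epi (ξ ⁻¹ᵁ (⊤ : (G ⊗ Y).left.Opens)).ι, hM', hb₀', ← morphismRestrict_ι_assoc]
    congr 1
    rw [← Scheme.topIso_hom, Iso.hom_inv_id_assoc]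
  have hbw : b₀' ≫ Y.hom = (G ⊗ Y).hom := by
    rw [← cancel_epi ξ, ← Category.assoc, hξb, hφd, hξd, Over.w, Over.w]
  obtain ⟨b₀, hb₀⟩ : ∃ b₀ : G ⊗ Y ⟶ Y, b₀ = Over.homMk b₀' hbw := ⟨_, rfl⟩
  have hfac : a.act ≫ f = (G ◁ f) ≫ b₀ := by
    apply Over.OverMorphism.ext
    have hbl : b₀.left = b₀' := by rw [hb₀]; rfl
    show (a.act ≫ f).left = (G ◁ f).left ≫ b₀.left
    rw [hbl, ← hξd, hξb, hφd]
  have hflat1 : Flat (𝟙_ (Over S)).hom := by
    rw [Over.tensorUnit_hom]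
    have h1 : IsOpenImmersion (𝟙 S) := inferInstance
    infer_instance
  have hflat2 : Flat (G ⊗ G).hom := by
    rw [Over.tensorObj_hom]; infer_instance
  have hepi1 : Epi ((𝟙_ (Over S)) ◁ f) := epi_whiskerLeft (𝟙_ (Over S)) f hf
  have hepi2 : Epi ((G ⊗ G) ◁ f) := epi_whiskerLeft (G ⊗ G) f hf
  obtain ⟨b, hb⟩ := exists_action_of_epi a f hepi1 hepi2 b₀ hfac
  exact ⟨b, by rw [hb, hfac]⟩

end Desc

section Field

/-- **Descending an action along a proper `f` with `f_* O_X = O_Y`: equivalent conditions.** -/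
theorem tfae (k : Type u) [Field k] (G X Y : Over (Spec (CommRingCat.of k))) [GrpObj G]
    (f : X ⟶ Y) [IsProper f.left] (hf : ∀ U : Y.left.Opens, IsIso (f.left.app U))
    (a : AlgGrp.Action G X) :
    [∃ b : AlgGrp.Action G Y, (G ◁ f) ≫ b.act = a.act ≫ f,
      ∀ (T : Over (Spec (CommRingCat.of k))) (g : T ⟶ G) (x₁ x₂ : T ⟶ X),
        x₁ ≫ f = x₂ ≫ f → lift g x₁ ≫ a.act ≫ f = lift g x₂ ≫ a.act ≫ f,
      ∀ p q : ↥(G ⊗ X).left, (G ◁ f).left.base p = (G ◁ f).left.base q →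
        (a.act ≫ f).left.base p = (a.act ≫ f).left.base q].TFAE := by
  have hflat : Flat G.hom := inferInstance
  have hf' : ∀ U : Y.left.Opens, Function.Bijective (f.left.app U).hom := fun U => by
    have := hf U
    exact ConcreteCategory.bijective_of_isIso (f.left.app U)
  tfae_have 1 → 2 := fun ⟨b, hb⟩ => stable_of_descends f a b hb
  tfae_have 2 → 3 := fun h2 => const_of_stable f a h2
  tfae_have 3 → 1 := fun h3 => descends_of_const f a hf' h3
  tfae_finish

end Field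

end Groth.Agent.Lib.T2H7.ActDescend
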