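import Mathlib
import Groth.Prelude.Def_Grpd
import Groth.Prelude.Def_AlgGrp
import Groth.Agent.Lib.Helper12Act

/-!
# The action groupoid of a group scheme acting on a scheme (helper7)

`actGrpd a : Grpd.GroupoidScheme S` with `U = X`, `R = G ×_S X`, `s = pr₂`, `t = a`,
`e = (1, id)`, `i (g, x) = (g⁻¹, g x)`, `c ((g, x), (h, y)) = (g h, y)`.
-/

set_option autoImplicit false
set_option linter.unusedSectionVars false
set_option linter.unusedVariables false
set_option linter.style.haveILetI false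

universe u

open CategoryTheory CategoryTheory.Limits MonoidalCategory CartesianMonoidalCategory MonObj GrpObj
  AlgebraicGeometry

namespace Groth.Agent.Lib.T2H7.ActGrpd

open Groth.Agent.Lib.Helper12

variable {S : Scheme.{u}} {G X : Over S} [GrpObj G] (a : AlgGrp.Action G X)

/-- the fibre product of source and target, over `S`. -/
noncomputable def P : Over S :=
  Over.mk (pullback.fst (snd G X).left a.act.left ≫ (G ⊗ X).hom)

/-- first projection of `P`. -/
noncomputable def p₁ : P a ⟶ G ⊗ X := Over.homMk (pullback.fst (snd G X).left a.act.left) rfl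

/-- second projection of `P`. -/
noncomputable def p₂ : P a ⟶ G ⊗ X :=
  Over.homMk (pullback.snd (snd G X).left a.act.left) (by
    change pullback.snd (snd G X).left a.act.left ≫ (G ⊗ X).hom =
      pullback.fst (snd G X).left a.act.left ≫ (G ⊗ X).hom
    have h1 : (G ⊗ X).hom = a.act.left ≫ X.hom := (Over.w a.act).symm
    have h2 : (G ⊗ X).hom = (snd G X).left ≫ X.hom := (Over.w (snd G X)).symm
    exact (congrArg (pullback.snd _ _ ≫ ·) h1).trans
      ((pullback.condition_assoc _).symm.trans (congrArg (pullback.fst _ _ ≫ ·) h2.symm)))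

theorem p₁_snd : p₁ a ≫ snd G X = p₂ a ≫ a.act := by
  apply Over.OverMorphism.ext
  exact pullback.condition

/-- composition, over `S`. -/
noncomputable def cO : P a ⟶ G ⊗ X :=
  lift ((p₁ a ≫ fst G X) * (p₂ a ≫ fst G X)) (p₂ a ≫ snd G X)

/-- the identity, over `S`. -/
noncomputable def eO : X ⟶ G ⊗ X := lift (1 : X ⟶ G) (𝟙 X)

/-- the inverse, over `S`. -/
noncomputable def iO : G ⊗ X ⟶ G ⊗ X := lift (fst G X)⁻¹ a.act

section Points

variable {T : Over S} (α β : T ⟶ G ⊗ X) (h : α ≫ snd G X = β ≫ a.act)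

/-- the pair of composable arrows. -/
noncomputable def pair : T ⟶ P a :=
  Over.homMk (pullback.lift α.left β.left (congrArg (fun m => m.left) h)) (by
    change pullback.lift α.left β.left _ ≫ pullback.fst (snd G X).left a.act.left ≫ (G ⊗ X).hom =
      T.hom
    rw [pullback.lift_fst_assoc, Over.w α])

theorem pair_p₁ : pair a α β h ≫ p₁ a = α := by
  apply Over.OverMorphism.ext
  exact pullback.lift_fst _ _ _

theorem pair_p₂ : pair a α β h ≫ p₂ a = β := by
  apply Over.OverMorphism.ext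
  exact pullback.lift_snd _ _ _

theorem pair_cO :
    pair a α β h ≫ cO a = lift ((α ≫ fst G X) * (β ≫ fst G X)) (β ≫ snd G X) := by
  unfold cO
  rw [comp_lift, MonObj.comp_mul, ← Category.assoc, ← Category.assoc, ← Category.assoc, pair_p₁,
    pair_p₂]

end Points

section SchemePoints

variable {T : Scheme.{u}}

/-- a scheme-level point of `G ×_S X` as a morphism over `S`. -/
noncomputable abbrev pt (π : T ⟶ S) (α : T ⟶ (G ⊗ X).left) (hα : α ≫ (G ⊗ X).hom = π) :
    Over.mk π ⟶ G ⊗ X := Over.homMk α hα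

theorem hom_of_comm (α β : T ⟶ (G ⊗ X).left) (h : α ≫ (snd G X).left = β ≫ a.act.left) :
    β ≫ (G ⊗ X).hom = α ≫ (G ⊗ X).hom := by
  have h1 : (G ⊗ X).hom = a.act.left ≫ X.hom := (Over.w a.act).symm
  have h2 : (G ⊗ X).hom = (snd G X).left ≫ X.hom := (Over.w (snd G X)).symm
  exact (congrArg (β ≫ ·) h1).trans (((Category.assoc _ _ _).symm.trans
    (congrArg (· ≫ X.hom) h.symm)).trans ((Category.assoc _ _ _).trans
      (congrArg (α ≫ ·) h2.symm)))

theorem pt_comm (π : T ⟶ S) (α β : T ⟶ (G ⊗ X).left) (hα : α ≫ (G ⊗ X).hom = π)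
    (hβ : β ≫ (G ⊗ X).hom = π) (h : α ≫ (snd G X).left = β ≫ a.act.left) :
    pt π α hα ≫ snd G X = pt π β hβ ≫ a.act := by
  apply Over.OverMorphism.ext
  exact h

theorem lift_c (π : T ⟶ S) (α β : T ⟶ (G ⊗ X).left) (hα : α ≫ (G ⊗ X).hom = π)
    (hβ : β ≫ (G ⊗ X).hom = π) (h : α ≫ (snd G X).left = β ≫ a.act.left) :
    pullback.lift α β h ≫ (cO a).left =
      (lift ((pt π α hα ≫ fst G X) * (pt π β hβ ≫ fst G X)) (pt π β hβ ≫ snd G X)).left :=
  congrArg (fun m => m.left) (pair_cO a (pt π α hα) (pt π β hβ) (pt_comm a π α β hα hβ h))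

theorem lift_c_hom (π : T ⟶ S) (α β : T ⟶ (G ⊗ X).left) (hα : α ≫ (G ⊗ X).hom = π)
    (hβ : β ≫ (G ⊗ X).hom = π) (h : α ≫ (snd G X).left = β ≫ a.act.left) :
    (pullback.lift α β h ≫ (cO a).left) ≫ (G ⊗ X).hom = π := by
  rw [lift_c a π α β hα hβ h]
  exact Over.w _

theorem lift_c_pt (π : T ⟶ S) (α β : T ⟶ (G ⊗ X).left) (hα : α ≫ (G ⊗ X).hom = π)
    (hβ : β ≫ (G ⊗ X).hom = π) (h : α ≫ (snd G X).left = β ≫ a.act.left) :
    pt π (pullback.lift α β h ≫ (cO a).left) (lift_c_hom a π α β hα hβ h) =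
      lift ((pt π α hα ≫ fst G X) * (pt π β hβ ≫ fst G X)) (pt π β hβ ≫ snd G X) := by
  apply Over.OverMorphism.ext
  exact lift_c a π α β hα hβ h

end SchemePoints

section Over

variable {T : Over S}

theorem eta (α : T ⟶ G ⊗ X) : lift (α ≫ fst G X) (α ≫ snd G X) = α := by
  apply CartesianMonoidalCategory.hom_ext <;> simp

theorem act_eq (α : T ⟶ G ⊗ X) : lift (α ≫ fst G X) (α ≫ snd G X) ≫ a.act = α ≫ a.act := by
  rw [eta]

end Over

section Structure

theorem cO_snd : cO a ≫ snd G X = p₂ a ≫ snd G X := by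
  unfold cO
  rw [lift_snd]

theorem cO_act : cO a ≫ a.act = p₁ a ≫ a.act := by
  unfold cO
  rw [act_mul, act_eq, ← p₁_snd, act_eq]

theorem eO_snd : eO (G := G) (X := X) ≫ snd G X = 𝟙 X := by
  unfold eO
  rw [lift_snd]

theorem eO_act : eO (G := G) (X := X) ≫ a.act = 𝟙 X := by
  unfold eO
  rw [act_one]

theorem iO_snd : iO a ≫ snd G X = a.act := by
  unfold iO
  rw [lift_snd]

theorem iO_act : iO a ≫ a.act = snd G X := by
  unfold iO
  exact lift_inv_act_act a

/-- the action groupoid. -/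
noncomputable def actGrpd : Grpd.GroupoidScheme S where
  U := X.left
  R := (G ⊗ X).left
  pU := X.hom
  pR := (G ⊗ X).hom
  s := (snd G X).left
  t := a.act.left
  e := (eO (G := G) (X := X)).left
  i := (iO a).left
  c := (cO a).left
  s_over := Over.w (snd G X)
  t_over := Over.w a.act
  comp_s := by
    intro T α β h
    have := congrArg (fun m => (pair a (pt (α ≫ (G ⊗ X).hom) α rfl)
      (pt (α ≫ (G ⊗ X).hom) β (hom_of_comm a α β h))
      (pt_comm a _ α β rfl (hom_of_comm a α β h) h) ≫ m).left) (cO_snd a)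
    simp only [← Category.assoc, pair_p₂] at this
    exact this
  comp_t := by
    intro T α β h
    have := congrArg (fun m => (pair a (pt (α ≫ (G ⊗ X).hom) α rfl)
      (pt (α ≫ (G ⊗ X).hom) β (hom_of_comm a α β h))
      (pt_comm a _ α β rfl (hom_of_comm a α β h) h) ≫ m).left) (cO_act a)
    simp only [← Category.assoc, pair_p₁] at this
    exact this
  assoc := by
    intro T α β c3 h₁ h₂
    have hβ := hom_of_comm a α β h₁
    have hc3 := (hom_of_comm a β c3 h₂).trans hβ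
    rw [lift_c a (α ≫ (G ⊗ X).hom) _ c3 (lift_c_hom a _ α β rfl hβ h₁) hc3,
      lift_c a (α ≫ (G ⊗ X).hom) α _ rfl (lift_c_hom a _ β c3 hβ hc3 h₂),
      lift_c_pt a _ α β rfl hβ h₁, lift_c_pt a _ β c3 hβ hc3 h₂, lift_fst, lift_fst, lift_snd,
      _root_.mul_assoc]
  e_s := congrArg (fun m : X ⟶ X => m.left) eO_snd
  e_t := congrArg (fun m : X ⟶ X => m.left) (eO_act a)
  comp_e := by
    intro T α
    have hβ : (α ≫ (snd G X).left ≫ (eO (G := G) (X := X)).left) ≫ (G ⊗ X).hom =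
        α ≫ (G ⊗ X).hom := by
      rw [Category.assoc, Category.assoc, Over.w eO, Over.w (snd G X)]
    have key : pt (α ≫ (G ⊗ X).hom) (α ≫ (snd G X).left ≫ (eO (G := G) (X := X)).left) hβ =
        pt (α ≫ (G ⊗ X).hom) α rfl ≫ snd G X ≫ eO := by
      apply Over.OverMorphism.ext
      rfl
    rw [lift_c a (α ≫ (G ⊗ X).hom) α _ rfl hβ, key]
    have : lift ((pt (α ≫ (G ⊗ X).hom) α rfl ≫ fst G X) *
          ((pt (α ≫ (G ⊗ X).hom) α rfl ≫ snd G X ≫ eO) ≫ fst G X))
        ((pt (α ≫ (G ⊗ X).hom) α rfl ≫ snd G X ≫ eO) ≫ snd G X) =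
        pt (α ≫ (G ⊗ X).hom) α rfl := by
      unfold eO
      rw [Category.assoc, Category.assoc, lift_fst, Category.assoc, Category.assoc, lift_snd,
        MonObj.comp_one, MonObj.comp_one, _root_.mul_one, Category.comp_id, eta]
    rw [this]
    rfl
  e_comp := by
    intro T α
    have hβ : (α ≫ a.act.left ≫ (eO (G := G) (X := X)).left) ≫ (G ⊗ X).hom =
        α ≫ (G ⊗ X).hom := by
      rw [Category.assoc, Category.assoc, Over.w eO, Over.w a.act]
    have key : pt (α ≫ (G ⊗ X).hom) (α ≫ a.act.left ≫ (eO (G := G) (X := X)).left) hβ =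
        pt (α ≫ (G ⊗ X).hom) α rfl ≫ a.act ≫ eO := by
      apply Over.OverMorphism.ext
      rfl
    rw [lift_c a (α ≫ (G ⊗ X).hom) _ α hβ rfl, key]
    have : lift (((pt (α ≫ (G ⊗ X).hom) α rfl ≫ a.act ≫ eO) ≫ fst G X) *
          (pt (α ≫ (G ⊗ X).hom) α rfl ≫ fst G X))
        (pt (α ≫ (G ⊗ X).hom) α rfl ≫ snd G X) =
        pt (α ≫ (G ⊗ X).hom) α rfl := by
      unfold eO
      rw [Category.assoc, Category.assoc, lift_fst, MonObj.comp_one, MonObj.comp_one,
        _root_.one_mul, eta]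
    rw [this]
    rfl
  i_s := congrArg (fun m : G ⊗ X ⟶ X => m.left) (iO_snd a)
  i_t := congrArg (fun m : G ⊗ X ⟶ X => m.left) (iO_act a)
  comp_i := by
    intro T α
    have hβ : (α ≫ (iO a).left) ≫ (G ⊗ X).hom = α ≫ (G ⊗ X).hom := by
      rw [Category.assoc, Over.w (iO a)]
    have key : pt (α ≫ (G ⊗ X).hom) (α ≫ (iO a).left) hβ =
        pt (α ≫ (G ⊗ X).hom) α rfl ≫ iO a := by
      apply Over.OverMorphism.ext
      rfl
    rw [lift_c a (α ≫ (G ⊗ X).hom) α _ rfl hβ, key]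
    have : lift ((pt (α ≫ (G ⊗ X).hom) α rfl ≫ fst G X) *
          ((pt (α ≫ (G ⊗ X).hom) α rfl ≫ iO a) ≫ fst G X))
        ((pt (α ≫ (G ⊗ X).hom) α rfl ≫ iO a) ≫ snd G X) =
        pt (α ≫ (G ⊗ X).hom) α rfl ≫ a.act ≫ eO := by
      unfold iO eO
      rw [Category.assoc, Category.assoc, lift_fst, lift_snd, GrpObj.comp_inv,
        _root_.mul_inv_cancel, ← Category.assoc, comp_lift, MonObj.comp_one, Category.comp_id]
    rw [this]
    rfl
  i_comp := by
    intro T α
    have hβ : (α ≫ (iO a).left) ≫ (G ⊗ X).hom = α ≫ (G ⊗ X).hom := by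
      rw [Category.assoc, Over.w (iO a)]
    have key : pt (α ≫ (G ⊗ X).hom) (α ≫ (iO a).left) hβ =
        pt (α ≫ (G ⊗ X).hom) α rfl ≫ iO a := by
      apply Over.OverMorphism.ext
      rfl
    rw [lift_c a (α ≫ (G ⊗ X).hom) _ α hβ rfl, key]
    have : lift (((pt (α ≫ (G ⊗ X).hom) α rfl ≫ iO a) ≫ fst G X) *
          (pt (α ≫ (G ⊗ X).hom) α rfl ≫ fst G X))
        (pt (α ≫ (G ⊗ X).hom) α rfl ≫ snd G X) =
        pt (α ≫ (G ⊗ X).hom) α rfl ≫ snd G X ≫ eO := by
      unfold iO eO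
      rw [Category.assoc, lift_fst, GrpObj.comp_inv,
        _root_.inv_mul_cancel, ← Category.assoc, comp_lift, MonObj.comp_one, Category.comp_id]
    rw [this]
    rfl

end Structure

end Groth.Agent.Lib.T2H7.ActGrpd
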