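import Mathlib
import Groth.Prelude.Def_ActBC
import Groth.Agent.Lib.T2H7GrpLimA

/-!
# Descent of homomorphisms of group schemes through a cofiltered limit of schemes (helper7)
-/

set_option autoImplicit false
set_option linter.unusedSectionVars false
set_option linter.unusedVariables false
set_option linter.style.haveILetI false
universe u
open CategoryTheory CategoryTheory.Limits AlgebraicGeometry MonoidalCategory
  CartesianMonoidalCategory MonObj

namespace Groth.Agent.Lib.T2H7.GrpLimB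

open Groth.Agent.Lib.T2H7.GrpLimA

section Monoidal

open Functor.LaxMonoidal Functor.OplaxMonoidal
open scoped Obj

variable {C E : Type*} [Category C] [Category E] [MonoidalCategory C] [MonoidalCategory E]
  (F : C ⥤ E) [F.Monoidal] {A B : C} [MonObj A] [MonObj B] (v : A ⟶ B)

theorem mul_hom_map_iff :
    μ[F.obj A] ≫ F.map v = (F.map v ⊗ₘ F.map v) ≫ μ[F.obj B] ↔
      F.map (μ[A] ≫ v) = F.map ((v ⊗ₘ v) ≫ μ[B]) := by
  rw [Functor.obj.μ_def, Functor.obj.μ_def, Category.assoc, ← F.map_comp, μ_natural_assoc,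
    ← F.map_comp, cancel_epi]

theorem one_hom_map_iff :
    η[F.obj A] ≫ F.map v = η[F.obj B] ↔ F.map (η[A] ≫ v) = F.map η[B] := by
  rw [Functor.obj.η_def, Functor.obj.η_def, Category.assoc, ← F.map_comp, cancel_epi]

end Monoidal

section Grp

variable {C : Type*} [Category C] [CartesianMonoidalCategory C] {G H : C} [GrpObj G] [GrpObj H]

/-- a morphism of group objects compatible with the multiplications is a homomorphism. -/
theorem isMonHom_of_mul_hom (φ : G ⟶ H) (hmul : μ[G] ≫ φ = (φ ⊗ₘ φ) ≫ μ[H]) : IsMonHom φ where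
  one_hom := by
    have h1 : (1 : 𝟙_ C ⟶ G) = η := by
      rw [Hom.one_def, toUnit_unique (toUnit _) (𝟙 _), Category.id_comp]
    have h1' : (1 : 𝟙_ C ⟶ H) = η := by
      rw [Hom.one_def, toUnit_unique (toUnit _) (𝟙 _), Category.id_comp]
    have hx : (η ≫ φ) * (η ≫ φ) = (η ≫ φ) * 1 := by
      rw [_root_.mul_one, Hom.mul_def, ← lift_map_assoc, ← hmul, ← Category.assoc, ← Hom.mul_def,
        ← h1, _root_.mul_one]
    rw [← h1']
    exact mul_left_cancel hx
  mul_hom := hmul

end Grp

section Eventually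

variable {I : Type u} [SmallCategory I] [IsCofiltered I] (D : I ⥤ Scheme.{u}) (c : Cone D)
  (hc : IsLimit c) [∀ (i i' : I) (f : i ⟶ i'), IsAffineHom (D.map f)]
  [∀ i, CompactSpace (D.obj i)]

theorem quasiCompact_tensor {S : Scheme.{u}} (A B : Over S) [QuasiCompact A.hom]
    [QuasiCompact B.hom] : QuasiCompact (A ⊗ B).hom := by
  rw [Over.tensorObj_hom]
  have h1 : QuasiCompact (pullback.fst A.hom B.hom) :=
    MorphismProperty.pullback_fst (P := @QuasiCompact) A.hom B.hom ‹QuasiCompact B.hom›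
  exact MorphismProperty.comp_mem (W := @QuasiCompact) _ _ h1 ‹QuasiCompact A.hom›

include hc in
/-- a morphism between group schemes over `S_i` whose base change to `S` is a homomorphism has a
base change to some `S_k` which is a homomorphism. -/
theorem exists_isMonHom_map (i : I) (A B : Over (D.obj i)) [GrpObj A] [GrpObj B]
    [QuasiCompact A.hom] [LocallyOfFiniteType B.hom] (v : A ⟶ B)
    (hv : IsMonHom (M := Red.bc (c.π.app i) A) (N := Red.bc (c.π.app i) B)
      ((Over.pullback (c.π.app i)).map v)) :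
    ∃ (k : I) (g : k ⟶ i), IsMonHom (M := Red.bc (D.map g) A) (N := Red.bc (D.map g) B)
      ((Over.pullback (D.map g)).map v) := by
  haveI : QuasiCompact (A ⊗ A).hom := quasiCompact_tensor A A
  have h := (mul_hom_map_iff (Over.pullback (c.π.app i)) v).1 hv.mul_hom
  obtain ⟨k, g, hk⟩ := kl_inj D c hc i (A ⊗ A) B _ _ h
  exact ⟨k, g, isMonHom_of_mul_hom _ ((mul_hom_map_iff (Over.pullback (D.map g)) v).2 hk)⟩

theorem quasiCompact_bc {S S' : Scheme.{u}} (f : S' ⟶ S) (X : Over S) [QuasiCompact X.hom] :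
    QuasiCompact (Red.bc f X).hom :=
  MorphismProperty.pullback_snd (P := @QuasiCompact) X.hom f ‹QuasiCompact X.hom›

theorem locallyOfFiniteType_bc {S S' : Scheme.{u}} (f : S' ⟶ S) (X : Over S)
    [LocallyOfFiniteType X.hom] : LocallyOfFiniteType (Red.bc f X).hom :=
  MorphismProperty.pullback_snd (P := @LocallyOfFiniteType) X.hom f ‹LocallyOfFiniteType X.hom›

include hc in
theorem grpHom_descends [∀ i, QuasiSeparatedSpace (D.obj i)]
    (j : I) (Gj Hj : Over (D.obj j)) [GrpObj Gj] [GrpObj Hj]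
    [LocallyOfFinitePresentation Gj.hom] [QuasiCompact Gj.hom] [QuasiSeparated Gj.hom]
    [LocallyOfFinitePresentation Hj.hom] [QuasiCompact Hj.hom] [QuasiSeparated Hj.hom] :
    (∀ (u : Red.bc (c.π.app j) Gj ⟶ Red.bc (c.π.app j) Hj), IsMonHom u →
      ∃ (i : I) (f : i ⟶ j) (ui : Red.bc (D.map f) Gj ⟶ Red.bc (D.map f) Hj), IsMonHom ui ∧
        (Over.pullback (c.π.app i)).map ui = (((Over.pullbackComp (c.π.app i) (D.map f)).app Gj).symm ≪≫ eqToIso (congrArg (fun g => Red.bc g Gj) (c.w f))).hom ≫ u ≫ (((Over.pullbackComp (c.π.app i) (D.map f)).app Hj).symm ≪≫ eqToIso (congrArg (fun g => Red.bc g Hj) (c.w f))).inv) ∧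
    (∀ (i : I) (f : i ⟶ j) (u₁ u₂ : Red.bc (D.map f) Gj ⟶ Red.bc (D.map f) Hj), IsMonHom u₁ → IsMonHom u₂ →
      (Over.pullback (c.π.app i)).map u₁ = (Over.pullback (c.π.app i)).map u₂ →
      ∃ (i' : I) (g : i' ⟶ i), (Over.pullback (D.map g)).map u₁ = (Over.pullback (D.map g)).map u₂) := by
  constructor
  · intro u hu
    obtain ⟨k, g, v, hv⟩ := kl_surj D c hc j Gj Hj u
    have h1 : IsMonHom (M := Red.bc (c.π.app k) (Red.bc (D.map g) Gj))
        (N := Red.bc (c.π.app k) (Red.bc (D.map g) Hj)) ((Over.pullback (c.π.app k)).map v) := by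
      rw [hv]
      infer_instance
    haveI : QuasiCompact (Red.bc (D.map g) Gj).hom := quasiCompact_bc _ _
    haveI : LocallyOfFiniteType (Red.bc (D.map g) Hj).hom := locallyOfFiniteType_bc _ _
    obtain ⟨k', g', hk'⟩ := exists_isMonHom_map D c hc k (Red.bc (D.map g) Gj)
      (Red.bc (D.map g) Hj) v h1
    refine ⟨k', g' ≫ g, bcFurther D j Gj Hj g g' rfl v, ?_, ?_⟩
    · unfold bcFurther
      infer_instance
    · rw [stmtIso_eq, stmtIso_eq]
      exact isBcOf_bcFurther D c j Gj Hj g g' rfl v u hv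
  · intro i f u₁ u₂ _ _ h
    haveI : QuasiCompact (Red.bc (D.map f) Gj).hom := quasiCompact_bc _ _
    haveI : LocallyOfFiniteType (Red.bc (D.map f) Hj).hom := locallyOfFiniteType_bc _ _
    exact kl_inj D c hc i _ _ u₁ u₂ h

end Eventually

end Groth.Agent.Lib.T2H7.GrpLimB
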