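import Mathlib
import Groth.Prelude.Def_ActBC
import Groth.Agent.Lib.T2H7GrpLimB

/-!
# Descent of equalities, factorizations and isomorphisms through a cofiltered limit of schemes
(helper7)
-/

set_option autoImplicit false
set_option linter.unusedSectionVars false
set_option linter.unusedVariables false
set_option linter.style.haveILetI false
universe u
open CategoryTheory CategoryTheory.Limits AlgebraicGeometry

namespace Groth.Agent.Lib.T2H7.GrpLimC

open Groth.Agent.Lib.T2H7.GrpLimA Groth.Agent.Lib.T2H7.GrpLimB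

section Conj

variable {S S' S'' : Scheme.{u}} (f : S'' ⟶ S') (g : S' ⟶ S) {d : S'' ⟶ S} (h : f ≫ g = d)
  {X Y Z : Over S}

theorem map_eq_conj (m : X ⟶ Y) :
    (Over.pullback d).map m = (ActBC.bcCompIso f g X h).inv ≫
      (Over.pullback f).map ((Over.pullback g).map m) ≫ (ActBC.bcCompIso f g Y h).hom := by
  rw [ActBC.bcCompIso_hom_naturality, Iso.inv_hom_id_assoc]

theorem map_map_eq_conj (m : X ⟶ Y) :
    (Over.pullback f).map ((Over.pullback g).map m) = (ActBC.bcCompIso f g X h).hom ≫
      (Over.pullback d).map m ≫ (ActBC.bcCompIso f g Y h).inv := by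
  rw [← ActBC.bcCompIso_hom_naturality_assoc, Iso.hom_inv_id, Category.comp_id]

include f h in
theorem map_eq_of_map_eq (m₁ m₂ : X ⟶ Y)
    (e : (Over.pullback g).map m₁ = (Over.pullback g).map m₂) :
    (Over.pullback d).map m₁ = (Over.pullback d).map m₂ := by
  rw [map_eq_conj f g h, map_eq_conj f g h, e]

include f h in
theorem isIso_map_of_isIso_map (m : X ⟶ Y) (hm : IsIso ((Over.pullback g).map m)) :
    IsIso ((Over.pullback d).map m) := by
  rw [map_eq_conj f g h]
  infer_instance

include h in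
theorem isIso_map_of_isIso_map_map (m : X ⟶ Y)
    (hm : IsIso ((Over.pullback f).map ((Over.pullback g).map m))) :
    IsIso ((Over.pullback d).map m) := by
  rw [map_eq_conj f g h]
  infer_instance

include h in
theorem mono_map_of_mono_map_map (m : X ⟶ Y)
    (hm : Mono ((Over.pullback f).map ((Over.pullback g).map m))) :
    Mono ((Over.pullback d).map m) := by
  rw [map_eq_conj f g h]
  infer_instance

include f h in
theorem mono_map_of_mono_map (m : X ⟶ Y) (hm : Mono ((Over.pullback g).map m)) :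
    Mono ((Over.pullback d).map m) := by
  rw [map_eq_conj f g h]
  haveI : Mono ((Over.pullback f).map ((Over.pullback g).map m)) := inferInstance
  infer_instance

theorem factor_further' (a : Y ⟶ Z) (b : X ⟶ Z) (ψ : Red.bc g X ⟶ Red.bc g Y)
    (hψ : (Over.pullback f).map (ψ ≫ (Over.pullback g).map a) =
      (Over.pullback f).map ((Over.pullback g).map b)) :
    ((ActBC.bcCompIso f g X h).inv ≫ (Over.pullback f).map ψ ≫ (ActBC.bcCompIso f g Y h).hom) ≫
      (Over.pullback d).map a = (Over.pullback d).map b := by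
  rw [map_eq_conj f g h a, map_eq_conj f g h b]
  simp only [Category.assoc, Iso.hom_inv_id_assoc]
  rw [← Functor.map_comp_assoc, hψ]

theorem factor_further (a : Y ⟶ Z) (b : X ⟶ Z) (ψ : Red.bc g X ⟶ Red.bc g Y)
    (hψ : ψ ≫ (Over.pullback g).map a = (Over.pullback g).map b) :
    ((ActBC.bcCompIso f g X h).inv ≫ (Over.pullback f).map ψ ≫ (ActBC.bcCompIso f g Y h).hom) ≫
      (Over.pullback d).map a = (Over.pullback d).map b :=
  factor_further' f g h a b ψ (by rw [hψ])

end Conj

section BcInst

variable {S S' : Scheme.{u}} (f : S' ⟶ S) (X : Over S)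

theorem quasiSeparated_bc [QuasiSeparated X.hom] : QuasiSeparated (Red.bc f X).hom :=
  MorphismProperty.pullback_snd (P := @QuasiSeparated) X.hom f ‹QuasiSeparated X.hom›

theorem locallyOfFinitePresentation_bc [LocallyOfFinitePresentation X.hom] :
    LocallyOfFinitePresentation (Red.bc f X).hom :=
  MorphismProperty.pullback_snd (P := @LocallyOfFinitePresentation) X.hom f
    ‹LocallyOfFinitePresentation X.hom›

end BcInst

section Lim

variable {I : Type u} [SmallCategory I] [IsCofiltered I] (D : I ⥤ Scheme.{u}) (c : Cone D)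
  (hc : IsLimit c) [∀ (i i' : I) (f : i ⟶ i'), IsAffineHom (D.map f)]
  [∀ i, CompactSpace (D.obj i)] (i : I) (X Y Z : Over (D.obj i))

include hc in
theorem eq_iff [QuasiCompact X.hom] [LocallyOfFiniteType Y.hom] (m₁ m₂ : X ⟶ Y) :
    (Over.pullback (c.π.app i)).map m₁ = (Over.pullback (c.π.app i)).map m₂ ↔
      ∃ (k : I) (g : k ⟶ i),
        (Over.pullback (D.map g)).map m₁ = (Over.pullback (D.map g)).map m₂ :=
  ⟨kl_inj D c hc i X Y m₁ m₂, fun ⟨k, g, e⟩ =>
    map_eq_of_map_eq (c.π.app k) (D.map g) (c.w g) m₁ m₂ e⟩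

include hc in
theorem factor_iff [∀ i, QuasiSeparatedSpace (D.obj i)] [QuasiCompact X.hom]
    [QuasiSeparated X.hom] [LocallyOfFinitePresentation Y.hom] [LocallyOfFiniteType Z.hom]
    (a : Y ⟶ Z) (b : X ⟶ Z) :
    (∃ ψ : Red.bc (c.π.app i) X ⟶ Red.bc (c.π.app i) Y,
        ψ ≫ (Over.pullback (c.π.app i)).map a = (Over.pullback (c.π.app i)).map b) ↔
      ∃ (k : I) (g : k ⟶ i) (ψ : Red.bc (D.map g) X ⟶ Red.bc (D.map g) Y),
        ψ ≫ (Over.pullback (D.map g)).map a = (Over.pullback (D.map g)).map b := by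
  constructor
  · rintro ⟨ψ', hψ'⟩
    obtain ⟨k, g, ψ, hψ⟩ := kl_surj D c hc i X Y ψ'
    unfold IsBcOf at hψ
    have e1 : (Over.pullback (c.π.app k)).map (ψ ≫ (Over.pullback (D.map g)).map a) =
        (Over.pullback (c.π.app k)).map ((Over.pullback (D.map g)).map b) := by
      rw [Functor.map_comp, hψ, map_map_eq_conj (c.π.app k) (D.map g) (c.w g) a,
        map_map_eq_conj (c.π.app k) (D.map g) (c.w g) b]
      simp only [Category.assoc, Iso.inv_hom_id_assoc]
      rw [reassoc_of% hψ']
    haveI : QuasiCompact (Red.bc (D.map g) X).hom := quasiCompact_bc _ _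
    haveI : LocallyOfFiniteType (Red.bc (D.map g) Z).hom := locallyOfFiniteType_bc _ _
    obtain ⟨k', g', e2⟩ := kl_inj D c hc k _ _ _ _ e1
    exact ⟨k', g' ≫ g, _, factor_further' (D.map g') (D.map g) (D.map_comp g' g).symm a b ψ e2⟩
  · rintro ⟨k, g, ψ, hψ⟩
    exact ⟨_, factor_further (c.π.app k) (D.map g) (c.w g) a b ψ hψ⟩

include hc in
theorem isIso_iff [∀ i, QuasiSeparatedSpace (D.obj i)]
    [LocallyOfFinitePresentation X.hom] [QuasiCompact X.hom] [QuasiSeparated X.hom]
    [LocallyOfFinitePresentation Y.hom] [QuasiCompact Y.hom] [QuasiSeparated Y.hom]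
    (m : X ⟶ Y) :
    IsIso ((Over.pullback (c.π.app i)).map m) ↔
      ∃ (k : I) (g : k ⟶ i), IsIso ((Over.pullback (D.map g)).map m) := by
  constructor
  · intro hm
    obtain ⟨k, g, ψ, hψ⟩ := (factor_iff D c hc i Y X Y m (𝟙 Y)).1
      ⟨inv ((Over.pullback (c.π.app i)).map m), by simp⟩
    rw [CategoryTheory.Functor.map_id] at hψ
    have hiso : IsIso ((Over.pullback (c.π.app k)).map ((Over.pullback (D.map g)).map m)) := by
      rw [map_map_eq_conj (c.π.app k) (D.map g) (c.w g)]
      infer_instance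
    have e1 : (Over.pullback (c.π.app k)).map ((Over.pullback (D.map g)).map m ≫ ψ) =
        (Over.pullback (c.π.app k)).map (𝟙 _) := by
      rw [Functor.map_comp, CategoryTheory.Functor.map_id]
      have h3 : (Over.pullback (c.π.app k)).map ψ ≫
          (Over.pullback (c.π.app k)).map ((Over.pullback (D.map g)).map m) = 𝟙 _ := by
        rw [← Functor.map_comp, hψ, CategoryTheory.Functor.map_id]
      rw [← cancel_mono ((Over.pullback (c.π.app k)).map ((Over.pullback (D.map g)).map m)),
        Category.assoc, h3, Category.comp_id, Category.id_comp]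
    haveI : QuasiCompact (Red.bc (D.map g) X).hom := quasiCompact_bc _ _
    haveI : LocallyOfFiniteType (Red.bc (D.map g) X).hom := locallyOfFiniteType_bc _ _
    obtain ⟨k', g', e2⟩ := kl_inj D c hc k _ _ _ _ e1
    rw [Functor.map_comp, CategoryTheory.Functor.map_id] at e2
    exact ⟨k', g' ≫ g, isIso_map_of_isIso_map_map (D.map g') (D.map g) (D.map_comp g' g).symm m
      ⟨(Over.pullback (D.map g')).map ψ, e2, by rw [← Functor.map_comp, hψ, CategoryTheory.Functor.map_id]⟩⟩
  · rintro ⟨k, g, hm⟩
    exact isIso_map_of_isIso_map (c.π.app k) (D.map g) (c.w g) m hm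

end Lim

end Groth.Agent.Lib.T2H7.GrpLimC
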