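import Mathlib
import Groth.Prelude.Def_ActBC
import Groth.Agent.Lib.T2H7GrpLimC

/-!
# Normal and central homomorphisms and monomorphisms through a cofiltered limit of schemes
(helper7)
-/

set_option autoImplicit false
set_option linter.unusedSectionVars false
set_option linter.unusedVariables false
set_option linter.style.haveILetI false
universe u
open CategoryTheory CategoryTheory.Limits AlgebraicGeometry MonoidalCategory
  CartesianMonoidalCategory MonObj

namespace Groth.Agent.Lib.T2H7.GrpLimD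

open Groth.Agent.Lib.T2H7.GrpLimA Groth.Agent.Lib.T2H7.GrpLimB Groth.Agent.Lib.T2H7.GrpLimC

section Grp

variable {C : Type*} [Category C] [CartesianMonoidalCategory C] {G H : C} [GrpObj G] [GrpObj H]
  (u : H ⟶ G)

/-- `(g, n) ↦ g u(n) g⁻¹`. -/
def conjU : G ⊗ H ⟶ G := fst G H * (snd G H ≫ u) * (fst G H)⁻¹

/-- `(g, n) ↦ g u(n)`. -/
def mulL : G ⊗ H ⟶ G := fst G H * (snd G H ≫ u)

/-- `(g, n) ↦ u(n) g`. -/
def mulR : G ⊗ H ⟶ G := (snd G H ≫ u) * fst G H

theorem lift_conjU {T : C} (g : T ⟶ G) (n : T ⟶ H) : lift g n ≫ conjU u = g * (n ≫ u) * g⁻¹ := by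
  simp [conjU, MonObj.comp_mul, GrpObj.comp_inv]

theorem lift_mulL {T : C} (g : T ⟶ G) (n : T ⟶ H) : lift g n ≫ mulL u = g * (n ≫ u) := by
  simp [mulL, MonObj.comp_mul]

theorem lift_mulR {T : C} (g : T ⟶ G) (n : T ⟶ H) : lift g n ≫ mulR u = (n ≫ u) * g := by
  simp [mulR, MonObj.comp_mul]

theorem normal_iff :
    (∀ (T : C) (g : T ⟶ G) (n : T ⟶ H), ∃ n' : T ⟶ H, g * (n ≫ u) * g⁻¹ = n' ≫ u) ↔
      ∃ φ : G ⊗ H ⟶ H, φ ≫ u = conjU u := by
  constructor
  · intro h
    obtain ⟨n', hn'⟩ := h (G ⊗ H) (fst G H) (snd G H)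
    exact ⟨n', hn'.symm⟩
  · rintro ⟨φ, hφ⟩ T g n
    exact ⟨lift g n ≫ φ, by rw [Category.assoc, hφ, lift_conjU]⟩

theorem central_iff :
    (∀ (T : C) (g : T ⟶ G) (n : T ⟶ H), g * (n ≫ u) = (n ≫ u) * g) ↔ mulL u = mulR u := by
  constructor
  · intro h
    exact h (G ⊗ H) (fst G H) (snd G H)
  · intro h T g n
    rw [← lift_mulL, ← lift_mulR, h]

section Map

open scoped Obj

variable {E : Type*} [Category E] [CartesianMonoidalCategory E] (F : C ⥤ E) [F.Monoidal]

theorem μ_map_conjU :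
    Functor.LaxMonoidal.μ F G H ≫ F.map (conjU u) = conjU (F.map u) := by
  simp [conjU, Functor.map_mul, MonObj.comp_mul, GrpObj.comp_inv]

theorem μ_map_mulL :
    Functor.LaxMonoidal.μ F G H ≫ F.map (mulL u) = mulL (F.map u) := by
  simp [mulL, Functor.map_mul, MonObj.comp_mul]

theorem μ_map_mulR :
    Functor.LaxMonoidal.μ F G H ≫ F.map (mulR u) = mulR (F.map u) := by
  simp [mulR, Functor.map_mul, MonObj.comp_mul]

theorem normal_map_iff :
    (∀ (T : E) (g : T ⟶ F.obj G) (n : T ⟶ F.obj H),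
        ∃ n' : T ⟶ F.obj H, g * (n ≫ F.map u) * g⁻¹ = n' ≫ F.map u) ↔
      ∃ ψ : F.obj (G ⊗ H) ⟶ F.obj H, ψ ≫ F.map u = F.map (conjU u) := by
  rw [normal_iff, ← μ_map_conjU]
  constructor
  · rintro ⟨φ, hφ⟩
    exact ⟨Functor.OplaxMonoidal.δ F G H ≫ φ, by simp [hφ]⟩
  · rintro ⟨ψ, hψ⟩
    exact ⟨Functor.LaxMonoidal.μ F G H ≫ ψ, by simp [hψ]⟩

theorem central_map_iff :
    (∀ (T : E) (g : T ⟶ F.obj G) (n : T ⟶ F.obj H), g * (n ≫ F.map u) = (n ≫ F.map u) * g) ↔
      F.map (mulL u) = F.map (mulR u) := by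
  rw [central_iff, ← μ_map_mulL, ← μ_map_mulR, cancel_epi]

end Map

end Grp

section Mono

variable {S : Scheme.{u}} {X Y : Over S} (m : X ⟶ Y)

theorem quasiCompact_kernelPair [QuasiCompact X.hom] [QuasiSeparated Y.hom] :
    QuasiCompact (pullback m m).hom := by
  have hP : IsPullback (pullback.fst m m).left (pullback.snd m m).left m.left m.left :=
    (IsPullback.of_hasPullback m m).map (Over.forget S)
  have hX : QuasiCompact (m.left ≫ Y.hom) := by
    rw [Over.w m]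
    infer_instance
  have hm : QuasiCompact m.left := QuasiCompact.of_comp m.left Y.hom
  have h1 : QuasiCompact (pullback.fst m m).left :=
    MorphismProperty.of_isPullback (P := @QuasiCompact) hP.flip hm
  rw [← Over.w (pullback.fst m m)]
  exact MorphismProperty.comp_mem (W := @QuasiCompact) _ _ h1 ‹QuasiCompact X.hom›

theorem mono_map_iff {S' : Scheme.{u}} (f : S' ⟶ S) :
    Mono ((Over.pullback f).map m) ↔
      (Over.pullback f).map (pullback.fst m m) = (Over.pullback f).map (pullback.snd m m) := by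
  have hP : IsPullback ((Over.pullback f).map (pullback.fst m m))
      ((Over.pullback f).map (pullback.snd m m)) ((Over.pullback f).map m)
      ((Over.pullback f).map m) := (IsPullback.of_hasPullback m m).map (Over.pullback f)
  exact mono_iff_fst_eq_snd hP.isLimit

end Mono

section Lim

variable {I : Type u} [SmallCategory I] [IsCofiltered I] (D : I ⥤ Scheme.{u}) (c : Cone D)
  (hc : IsLimit c) [∀ (i i' : I) (f : i ⟶ i'), IsAffineHom (D.map f)]
  [∀ i, CompactSpace (D.obj i)] (i : I) (X Y : Over (D.obj i))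

include hc in
theorem mono_iff [QuasiCompact X.hom] [LocallyOfFiniteType X.hom] [QuasiSeparated Y.hom]
    (m : X ⟶ Y) :
    Mono ((Over.pullback (c.π.app i)).map m) ↔
      ∃ (k : I) (g : k ⟶ i), Mono ((Over.pullback (D.map g)).map m) := by
  haveI := quasiCompact_kernelPair m
  rw [mono_map_iff, eq_iff D c hc i]
  simp only [mono_map_iff]

theorem quasiSeparated_tensor {S : Scheme.{u}} (A B : Over S) [QuasiSeparated A.hom]
    [QuasiSeparated B.hom] : QuasiSeparated (A ⊗ B).hom := by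
  rw [Over.tensorObj_hom]
  have h1 : QuasiSeparated (pullback.fst A.hom B.hom) :=
    MorphismProperty.pullback_fst (P := @QuasiSeparated) A.hom B.hom ‹QuasiSeparated B.hom›
  exact MorphismProperty.comp_mem (W := @QuasiSeparated) _ _ h1 ‹QuasiSeparated A.hom›

theorem isNormalHom_bc_iff {S S' : Scheme.{u}} (f : S' ⟶ S) {G H : Over S} [GrpObj G] [GrpObj H]
    (u : H ⟶ G) :
    AlgGrp.IsNormalHom ((Over.pullback f).map u) ↔
      ∃ ψ : Red.bc f (G ⊗ H) ⟶ Red.bc f H,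
        ψ ≫ (Over.pullback f).map u = (Over.pullback f).map (conjU u) :=
  normal_map_iff u (Over.pullback f)

theorem central_bc_iff {S S' : Scheme.{u}} (f : S' ⟶ S) {G H : Over S} [GrpObj G] [GrpObj H]
    (u : H ⟶ G) :
    (∀ (T : Over S') (g : T ⟶ Red.bc f G) (n : T ⟶ Red.bc f H),
        g * (n ≫ (Over.pullback f).map u) = (n ≫ (Over.pullback f).map u) * g) ↔
      (Over.pullback f).map (mulL u) = (Over.pullback f).map (mulR u) :=
  central_map_iff u (Over.pullback f)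

include hc in
theorem normal_central_iff [∀ i, QuasiSeparatedSpace (D.obj i)]
    (j : I) (Gj Hj : Over (D.obj j)) [GrpObj Gj] [GrpObj Hj]
    [LocallyOfFinitePresentation Gj.hom] [QuasiCompact Gj.hom] [QuasiSeparated Gj.hom]
    [LocallyOfFinitePresentation Hj.hom] [QuasiCompact Hj.hom] [QuasiSeparated Hj.hom]
    (uj : Hj ⟶ Gj) [IsMonHom uj] :
    ((Mono ((Over.pullback (c.π.app j)).map uj) ∧ AlgGrp.IsNormalHom ((Over.pullback (c.π.app j)).map uj)) ↔
      ∃ (i : I) (f : i ⟶ j), Mono ((Over.pullback (D.map f)).map uj) ∧ AlgGrp.IsNormalHom ((Over.pullback (D.map f)).map uj)) ∧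
    ((Mono ((Over.pullback (c.π.app j)).map uj) ∧ (∀ (T : Over c.pt) (g : T ⟶ (Red.bc (c.π.app j) Gj)) (n : T ⟶ (Red.bc (c.π.app j) Hj)), g * (n ≫ ((Over.pullback (c.π.app j)).map uj)) = (n ≫ ((Over.pullback (c.π.app j)).map uj)) * g)) ↔
      ∃ (i : I) (f : i ⟶ j), Mono ((Over.pullback (D.map f)).map uj) ∧ (∀ (T : Over (D.obj i)) (g : T ⟶ (Red.bc (D.map f) Gj)) (n : T ⟶ (Red.bc (D.map f) Hj)), g * (n ≫ ((Over.pullback (D.map f)).map uj)) = (n ≫ ((Over.pullback (D.map f)).map uj)) * g)) := by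
  haveI : QuasiCompact (Gj ⊗ Hj).hom := quasiCompact_tensor Gj Hj
  haveI : QuasiSeparated (Gj ⊗ Hj).hom := quasiSeparated_tensor Gj Hj
  haveI : LocallyOfFiniteType Gj.hom := inferInstance
  haveI : LocallyOfFiniteType Hj.hom := inferInstance
  constructor
  · constructor
    · rintro ⟨hmono, hnorm⟩
      obtain ⟨k₁, g₁, h₁⟩ := (mono_iff D c hc j Hj Gj uj).1 hmono
      obtain ⟨k₂, g₂, ψ, hψ⟩ := (factor_iff D c hc j (Gj ⊗ Hj) Hj Gj uj (conjU uj)).1
        ((isNormalHom_bc_iff _ uj).1 hnorm)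
      obtain ⟨k, a₁, a₂, e⟩ := IsCofiltered.cospan g₁ g₂
      refine ⟨k, a₁ ≫ g₁,
        mono_map_of_mono_map (D.map a₁) (D.map g₁) (D.map_comp a₁ g₁).symm uj h₁, ?_⟩
      rw [isNormalHom_bc_iff]
      exact ⟨_, factor_further (D.map a₂) (D.map g₂) (by rw [← D.map_comp, e]) uj (conjU uj) ψ hψ⟩
    · rintro ⟨i, f, hmono, hnorm⟩
      refine ⟨mono_map_of_mono_map (c.π.app i) (D.map f) (c.w f) uj hmono, ?_⟩
      rw [isNormalHom_bc_iff] at hnorm ⊢
      obtain ⟨ψ, hψ⟩ := hnorm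
      exact ⟨_, factor_further (c.π.app i) (D.map f) (c.w f) uj (conjU uj) ψ hψ⟩
  · constructor
    · rintro ⟨hmono, hcen⟩
      obtain ⟨k₁, g₁, h₁⟩ := (mono_iff D c hc j Hj Gj uj).1 hmono
      obtain ⟨k₂, g₂, h₂⟩ := (eq_iff D c hc j (Gj ⊗ Hj) Gj (mulL uj) (mulR uj)).1
        ((central_bc_iff _ uj).1 hcen)
      obtain ⟨k, a₁, a₂, e⟩ := IsCofiltered.cospan g₁ g₂
      exact ⟨k, a₁ ≫ g₁,
        mono_map_of_mono_map (D.map a₁) (D.map g₁) (D.map_comp a₁ g₁).symm uj h₁,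
        (central_bc_iff _ uj).2 (map_eq_of_map_eq (D.map a₂) (D.map g₂)
          (by rw [← D.map_comp, e]) _ _ h₂)⟩
    · rintro ⟨i, f, hmono, hcen⟩
      exact ⟨mono_map_of_mono_map (c.π.app i) (D.map f) (c.w f) uj hmono,
        (central_bc_iff _ uj).2 (map_eq_of_map_eq (c.π.app i) (D.map f) (c.w f) _ _
          ((central_bc_iff _ uj).1 hcen))⟩

end Lim

end Groth.Agent.Lib.T2H7.GrpLimD
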