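import Mathlib
import Groth.Prelude.Def_ActBC
import Groth.Agent.Lib.T2H7GrpLimD
import Groth.Agent.S0591
import Groth.Agent.S2075
import Groth.Agent.S2581

/-!
# Descent of objects of finite presentation, of flatness and surjectivity of structure maps, and
of torsors through a cofiltered limit of schemes (helper7)
-/

set_option autoImplicit false
set_option linter.unusedSectionVars false
set_option linter.unusedVariables false
set_option linter.style.haveILetI false
universe u
open CategoryTheory CategoryTheory.Limits AlgebraicGeometry MonoidalCategory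
  CartesianMonoidalCategory MonObj

namespace Groth.Agent.Lib.T2H7.GrpLimE

open Groth.Agent.Lib.T2H7.GrpLimA Groth.Agent.Lib.T2H7.GrpLimB Groth.Agent.Lib.T2H7.GrpLimC
  Groth.Agent.Lib.T2H7.GrpLimD

section Obj

variable {I : Type u} [SmallCategory I] [IsCofiltered I] (D : I ⥤ Scheme.{u}) (c : Cone D)
  (hc : IsLimit c) [∀ (i i' : I) (f : i ⟶ i'), IsAffineHom (D.map f)]
  [∀ i, CompactSpace (D.obj i)] [∀ i, QuasiSeparatedSpace (D.obj i)]

include hc in
/-- an object of finite presentation over the limit is a base change from some stage. -/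
theorem exists_bc_iso (Y : Over c.pt) [LocallyOfFinitePresentation Y.hom] [QuasiCompact Y.hom]
    [QuasiSeparated Y.hom] :
    ∃ (k : I) (Yk : Over (D.obj k)), LocallyOfFinitePresentation Yk.hom ∧ QuasiCompact Yk.hom ∧
      QuasiSeparated Yk.hom ∧ Nonempty (Y ≅ Red.bc (c.π.app k) Yk) := by
  haveI : @LocallyOfFinitePresentation Y.left c.pt Y.hom := ‹LocallyOfFinitePresentation Y.hom›
  haveI : @QuasiCompact Y.left c.pt Y.hom := ‹QuasiCompact Y.hom›
  haveI : @QuasiSeparated Y.left c.pt Y.hom := ‹QuasiSeparated Y.hom›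
  obtain ⟨k, Xk, fk, g, h1, h2, h3, hpb⟩ := Groth.Agent.S0591.result D c hc Y.left Y.hom
  exact ⟨k, Over.mk fk, h1, h2, h3,
    ⟨Over.isoMk hpb.isoPullback (hpb.isoPullback_hom_snd)⟩⟩

include hc in
/-- an object of finite presentation over the limit is a base change from some stage over `j`. -/
theorem exists_bc_iso_over (j : I) (Y : Over c.pt) [LocallyOfFinitePresentation Y.hom]
    [QuasiCompact Y.hom] [QuasiSeparated Y.hom] :
    ∃ (k : I) (b : k ⟶ j) (Yk : Over (D.obj k)), LocallyOfFinitePresentation Yk.hom ∧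
      QuasiCompact Yk.hom ∧ QuasiSeparated Yk.hom ∧ Nonempty (Y ≅ Red.bc (c.π.app k) Yk) := by
  obtain ⟨k₀, Y₀, h1, h2, h3, ⟨e⟩⟩ := exists_bc_iso D c hc Y
  refine ⟨IsCofiltered.min k₀ j, IsCofiltered.minToRight k₀ j,
    Red.bc (D.map (IsCofiltered.minToLeft k₀ j)) Y₀, locallyOfFinitePresentation_bc _ _,
    quasiCompact_bc _ _, quasiSeparated_bc _ _,
    ⟨e ≪≫ (ActBC.bcCompIso (c.π.app _) (D.map (IsCofiltered.minToLeft k₀ j)) Y₀ (c.w _)).symm⟩⟩

end Obj

section PropHom

variable {S S' S'' : Scheme.{u}} (f : S'' ⟶ S') (g : S' ⟶ S) {d : S'' ⟶ S} (h : f ≫ g = d)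
  (X : Over S)

include h in
/-- a property of the structure map of a base change passes to further base changes. -/
theorem prop_bc_hom_further (P : MorphismProperty Scheme.{u}) [P.IsStableUnderBaseChange]
    [P.RespectsIso] (hP : P (Red.bc g X).hom) : P (Red.bc d X).hom := by
  have h1 : P (Red.bc f (Red.bc g X)).hom :=
    MorphismProperty.pullback_snd (P := P) (Red.bc g X).hom f hP
  rw [← Over.w (ActBC.bcCompIso f g X h).inv]
  exact (P.cancel_left_of_respectsIso _ _).2 h1

/-- a property of one pullback projection passes to the chosen pullback. -/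
theorem prop_snd_of_isPullback (P : MorphismProperty Scheme.{u}) [P.RespectsIso]
    {W T : Scheme.{u}} {t : T ⟶ S} {p1 : W ⟶ X.left} {p2 : W ⟶ T}
    (hpb : IsPullback p1 p2 X.hom t) (hP : P p2) : P (Red.bc t X).hom := by
  have e : hpb.isoPullback.inv ≫ p2 = pullback.snd X.hom t := hpb.isoPullback_inv_snd
  change P (pullback.snd X.hom t)
  rw [← e]
  exact (P.cancel_left_of_respectsIso _ _).2 hP

end PropHom

section PropLim

variable {I : Type u} [SmallCategory I] [IsCofiltered I] (D : I ⥤ Scheme.{u}) (c : Cone D)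
  (hc : IsLimit c) [∀ (i i' : I) (f : i ⟶ i'), IsAffineHom (D.map f)]
  [∀ i, CompactSpace (D.obj i)] [∀ i, QuasiSeparatedSpace (D.obj i)] (i : I)
  (X : Over (D.obj i)) [LocallyOfFinitePresentation X.hom] [QuasiCompact X.hom]
  [QuasiSeparated X.hom]

include hc in
theorem flat_descends (hf : Flat (Red.bc (c.π.app i) X).hom) :
    ∃ (k : I) (g : k ⟶ i), Flat (Red.bc (D.map g) X).hom := by
  haveI : @LocallyOfFinitePresentation X.left (D.obj i) X.hom :=
    ‹LocallyOfFinitePresentation X.hom›
  haveI h2 : @QuasiCompact X.left (D.obj i) X.hom := ‹QuasiCompact X.hom›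
  haveI h3 : @QuasiSeparated X.left (D.obj i) X.hom := ‹QuasiSeparated X.hom›
  haveI : CompactSpace X.left :=
    @QuasiCompact.compactSpace_of_compactSpace _ _ _ h2 (inferInstanceAs (CompactSpace (D.obj i)))
  haveI : QuasiSeparatedSpace X.left :=
    @quasiSeparatedSpace_of_quasiSeparated _ _ _
      (inferInstanceAs (QuasiSeparatedSpace (D.obj i))) h3
  haveI : Flat (pullback.snd X.hom (c.π.app i)) := hf
  obtain ⟨k, φ, Xi, Yi, fi, gi, pY, pX, sqY, sqX, hfi⟩ :=
    Groth.Agent.S2075.result D c hc i (X₀ := X.left) (Y₀ := D.obj i) X.hom (𝟙 _)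
      (pullback.snd X.hom (c.π.app i)) (𝟙 c.pt) (c.π.app i) (pullback.fst X.hom (c.π.app i))
      (IsPullback.id_vert (c.π.app i)) (IsPullback.of_hasPullback X.hom (c.π.app i))
  haveI : IsIso gi := sqY.isIso_snd_of_isIso
  have hpb := sqX.paste_vert sqY
  rw [Category.comp_id] at hpb
  exact ⟨k, φ, prop_snd_of_isPullback X @Flat hpb
    ((MorphismProperty.cancel_right_of_respectsIso @Flat fi gi).2 hfi)⟩

include hc in
theorem surjective_descends (hf : Surjective (Red.bc (c.π.app i) X).hom) :
    ∃ (k : I) (g : k ⟶ i), Surjective (Red.bc (D.map g) X).hom := by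
  haveI h1 : @LocallyOfFinitePresentation X.left (D.obj i) X.hom :=
    ‹LocallyOfFinitePresentation X.hom›
  haveI h2 : @QuasiCompact X.left (D.obj i) X.hom := ‹QuasiCompact X.hom›
  haveI h3 : @QuasiSeparated X.left (D.obj i) X.hom := ‹QuasiSeparated X.hom›
  haveI : LocallyOfFinitePresentation (X.hom ≫ 𝟙 (D.obj i)) := by
    rw [Category.comp_id]; exact h1
  haveI : QuasiCompact (X.hom ≫ 𝟙 (D.obj i)) := by
    rw [Category.comp_id]; exact h2
  haveI : QuasiSeparated (X.hom ≫ 𝟙 (D.obj i)) := by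
    rw [Category.comp_id]; exact h3
  haveI : Surjective (pullback.snd X.hom (c.π.app i)) := hf
  obtain ⟨k, φ, Xi, Yi, fi, gi, pY, pX, sqY, sqX, hfi⟩ :=
    Groth.Agent.S2581.result D c hc i (X₀ := X.left) (Y₀ := D.obj i) X.hom (𝟙 _)
      (pullback.snd X.hom (c.π.app i)) (𝟙 c.pt) (c.π.app i) (pullback.fst X.hom (c.π.app i))
      (IsPullback.id_vert (c.π.app i)) (IsPullback.of_hasPullback X.hom (c.π.app i))
  haveI : IsIso gi := sqY.isIso_snd_of_isIso
  have hpb := sqX.paste_vert sqY
  rw [Category.comp_id] at hpb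
  exact ⟨k, φ, prop_snd_of_isPullback X @Surjective hpb
    ((MorphismProperty.cancel_right_of_respectsIso @Surjective fi gi).2 hfi)⟩

end PropLim

end Groth.Agent.Lib.T2H7.GrpLimE
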