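import Mathlib
import Groth.Prelude.Def_ActBC
import Groth.Agent.Lib.T2H7GrpLimE

/-!
# Torsors under group schemes of finite presentation through a cofiltered limit of schemes
(helper7)
-/

set_option autoImplicit false
set_option linter.unusedSectionVars false
set_option linter.unusedVariables false
set_option linter.style.haveILetI false
universe u
open CategoryTheory CategoryTheory.Limits AlgebraicGeometry MonoidalCategory
  CartesianMonoidalCategory MonObj

namespace Groth.Agent.Lib.T2H7.GrpLimF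

open Groth.Agent.Lib.T2H7.GrpLimA Groth.Agent.Lib.T2H7.GrpLimB Groth.Agent.Lib.T2H7.GrpLimC
  Groth.Agent.Lib.T2H7.GrpLimD Groth.Agent.Lib.T2H7.GrpLimE

/-- the structure map of `X` is covering for the fppf topology. -/
def HasFppfSec {S : Scheme.{u}} (X : Over S) : Prop :=
  ∃ (Z : Scheme.{u}) (v : Z ⟶ S) (w : Z ⟶ X.left), w ≫ X.hom = v ∧ Flat v ∧ Surjective v ∧
    LocallyOfFinitePresentation v ∧ QuasiCompact v ∧ QuasiSeparated v

section Sec

variable {S S' S'' : Scheme.{u}}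

theorem hasFppfSec_bc (f : S' ⟶ S) {X : Over S} (hX : HasFppfSec X) :
    HasFppfSec (Red.bc f X) := by
  obtain ⟨Z, v, w, hw, h1, h2, h3, h4, h5⟩ := hX
  refine ⟨pullback v f, pullback.snd v f,
    pullback.lift (pullback.fst v f ≫ w) (pullback.snd v f)
      (by rw [Category.assoc, hw, pullback.condition]), pullback.lift_snd _ _ _,
    MorphismProperty.pullback_snd (P := @Flat) v f h1,
    MorphismProperty.pullback_snd (P := @Surjective) v f h2,
    MorphismProperty.pullback_snd (P := @LocallyOfFinitePresentation) v f h3,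
    MorphismProperty.pullback_snd (P := @QuasiCompact) v f h4,
    MorphismProperty.pullback_snd (P := @QuasiSeparated) v f h5⟩

theorem hasFppfSec_of_hom {X Y : Over S} (e : X ⟶ Y) (hX : HasFppfSec X) : HasFppfSec Y := by
  obtain ⟨Z, v, w, hw, h⟩ := hX
  exact ⟨Z, v, w ≫ e.left, by rw [Category.assoc, Over.w e, hw], h⟩

theorem hasFppfSec_further (f : S'' ⟶ S') (g : S' ⟶ S) {d : S'' ⟶ S} (h : f ≫ g = d) {X : Over S}
    (hX : HasFppfSec (Red.bc g X)) : HasFppfSec (Red.bc d X) :=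
  hasFppfSec_of_hom (ActBC.bcCompIso f g X h).hom (hasFppfSec_bc f hX)

end Sec

section Shear

open scoped Obj

variable {C E : Type*} [Category C] [Category E] [CartesianMonoidalCategory C]
  [CartesianMonoidalCategory E] (F : C ⥤ E) [F.Monoidal] {G X : C} (a : G ⊗ X ⟶ X)

theorem shear_map :
    lift (Functor.LaxMonoidal.μ F G X ≫ F.map a) (snd (F.obj G) (F.obj X)) ≫
        Functor.LaxMonoidal.μ F X X =
      Functor.LaxMonoidal.μ F G X ≫ F.map (lift a (snd G X)) := by
  rw [← Functor.Monoidal.lift_μ, comp_lift_assoc, Functor.Monoidal.μ_snd]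

theorem isIso_shear_iff :
    IsIso (lift (Functor.LaxMonoidal.μ F G X ≫ F.map a) (snd (F.obj G) (F.obj X))) ↔
      IsIso (F.map (lift a (snd G X))) := by
  constructor
  · intro h
    have h2 : IsIso (Functor.LaxMonoidal.μ F G X ≫ F.map (lift a (snd G X))) := by
      rw [← shear_map]
      infer_instance
    exact IsIso.of_isIso_comp_left (Functor.LaxMonoidal.μ F G X) _
  · intro h
    have h2 : IsIso (lift (Functor.LaxMonoidal.μ F G X ≫ F.map a) (snd (F.obj G) (F.obj X)) ≫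
        Functor.LaxMonoidal.μ F X X) := by
      rw [shear_map]
      infer_instance
    exact IsIso.of_isIso_comp_right _ (Functor.LaxMonoidal.μ F X X)

end Shear

section Lim

variable {I : Type u} [SmallCategory I] [IsCofiltered I] (D : I ⥤ Scheme.{u}) (c : Cone D)
  (hc : IsLimit c) [∀ (i i' : I) (f : i ⟶ i'), IsAffineHom (D.map f)]
  [∀ i, CompactSpace (D.obj i)] [∀ i, QuasiSeparatedSpace (D.obj i)]

theorem locallyOfFinitePresentation_tensor {S : Scheme.{u}} (A B : Over S)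
    [LocallyOfFinitePresentation A.hom] [LocallyOfFinitePresentation B.hom] :
    LocallyOfFinitePresentation (A ⊗ B).hom := by
  rw [Over.tensorObj_hom]
  have h1 : LocallyOfFinitePresentation (pullback.fst A.hom B.hom) :=
    MorphismProperty.pullback_fst (P := @LocallyOfFinitePresentation) A.hom B.hom
      ‹LocallyOfFinitePresentation B.hom›
  exact MorphismProperty.comp_mem (W := @LocallyOfFinitePresentation) _ _ h1
    ‹LocallyOfFinitePresentation A.hom›

include hc in
theorem hasFppfSec_descends (j : I) (Xj : Over (D.obj j)) [LocallyOfFinitePresentation Xj.hom]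
    (hX : HasFppfSec (Red.bc (c.π.app j) Xj)) :
    ∃ (i : I) (f : i ⟶ j), HasFppfSec (Red.bc (D.map f) Xj) := by
  obtain ⟨Z, v, w, hw, hflat, hsurj, hlfp, hqc, hqs⟩ := hX
  haveI : LocallyOfFinitePresentation (Over.mk v).hom := hlfp
  haveI : QuasiCompact (Over.mk v).hom := hqc
  haveI : QuasiSeparated (Over.mk v).hom := hqs
  obtain ⟨m, b, Zm, h1, h2, h3, ⟨e⟩⟩ := exists_bc_iso_over D c hc j (Over.mk v)
  haveI := h1
  haveI := h2
  haveI := h3
  haveI : LocallyOfFinitePresentation (Red.bc (D.map b) Xj).hom :=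
    locallyOfFinitePresentation_bc _ _
  -- the section at the limit, as a morphism over the limit
  let u : Red.bc (c.π.app m) Zm ⟶ Red.bc (c.π.app m) (Red.bc (D.map b) Xj) :=
    e.inv ≫ (Over.homMk w hw : Over.mk v ⟶ Red.bc (c.π.app j) Xj) ≫
      (ActBC.bcCompIso (c.π.app m) (D.map b) Xj (c.w b)).inv
  obtain ⟨k', g', u', -⟩ := kl_surj D c hc m Zm (Red.bc (D.map b) Xj) u
  -- flatness and surjectivity at the limit
  have hhom : (Red.bc (c.π.app m) Zm).hom = e.inv.left ≫ v := (Over.w e.inv).symm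
  have hf1 : Flat (Red.bc (c.π.app m) Zm).hom := by
    rw [hhom]
    exact (MorphismProperty.cancel_left_of_respectsIso @Flat _ _).2 hflat
  have hs1 : Surjective (Red.bc (c.π.app m) Zm).hom := by
    rw [hhom]
    exact (MorphismProperty.cancel_left_of_respectsIso @Surjective _ _).2 hsurj
  obtain ⟨k₁, g₁, hf2⟩ := flat_descends D c hc m Zm hf1
  obtain ⟨k₂, g₂, hs2⟩ := surjective_descends D c hc m Zm hs1
  obtain ⟨k₃, a₁, a₂, e₁⟩ := IsCofiltered.cospan g₁ g₂
  obtain ⟨k, a₃, a', e₂⟩ := IsCofiltered.cospan (a₁ ≫ g₁) g'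
  -- the common stage `g : k ⟶ m`
  obtain ⟨g, hg⟩ : ∃ g : k ⟶ m, g = (a₃ ≫ a₁) ≫ g₁ := ⟨_, rfl⟩
  have hf3 : Flat (Red.bc (D.map g) Zm).hom :=
    prop_bc_hom_further (D.map (a₃ ≫ a₁)) (D.map g₁) (by rw [← D.map_comp, hg]) Zm @Flat hf2
  have hs3 : Surjective (Red.bc (D.map g) Zm).hom := by
    have e3 : (a₃ ≫ a₂) ≫ g₂ = g := by
      rw [hg, Category.assoc, Category.assoc, e₁]
    exact prop_bc_hom_further (D.map (a₃ ≫ a₂)) (D.map g₂) (by rw [← D.map_comp, e3]) Zm
      @Surjective hs2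
  have e4 : a' ≫ g' = g := by rw [hg, Category.assoc, e₂]
  refine ⟨k, g ≫ b, (Red.bc (D.map g) Zm).left, (Red.bc (D.map g) Zm).hom,
    (bcFurther D m Zm (Red.bc (D.map b) Xj) g' a' e4 u').left ≫
      (ActBC.bcCompIso (D.map g) (D.map b) Xj (D.map_comp _ _).symm).hom.left,
    ?_, hf3, hs3, locallyOfFinitePresentation_bc _ _, quasiCompact_bc _ _, quasiSeparated_bc _ _⟩
  rw [Category.assoc, Over.w, Over.w]

include hc in
theorem torsor_iff
    (j : I) (Gj Xj : Over (D.obj j)) [GrpObj Gj] (act : AlgGrp.Action Gj Xj)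
    [LocallyOfFinitePresentation Gj.hom] [QuasiCompact Gj.hom] [QuasiSeparated Gj.hom]
    [LocallyOfFinitePresentation Xj.hom] [QuasiCompact Xj.hom] [QuasiSeparated Xj.hom] :
    (IsIso (lift (Functor.LaxMonoidal.μ (Over.pullback (c.π.app j)) Gj Xj ≫ (Over.pullback (c.π.app j)).map act.act) (snd (Red.bc (c.π.app j) Gj) (Red.bc (c.π.app j) Xj))) ∧
        ∃ (Z : Scheme.{u}) (v : Z ⟶ c.pt) (w : Z ⟶ (Red.bc (c.π.app j) Xj).left), w ≫ (Red.bc (c.π.app j) Xj).hom = v ∧
          Flat v ∧ Surjective v ∧ LocallyOfFinitePresentation v ∧ QuasiCompact v ∧ QuasiSeparated v) ↔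
    ∃ (i : I) (f : i ⟶ j), (IsIso (lift (Functor.LaxMonoidal.μ (Over.pullback (D.map f)) Gj Xj ≫ (Over.pullback (D.map f)).map act.act) (snd (Red.bc (D.map f) Gj) (Red.bc (D.map f) Xj))) ∧
        ∃ (Z : Scheme.{u}) (v : Z ⟶ (D.obj i)) (w : Z ⟶ (Red.bc (D.map f) Xj).left), w ≫ (Red.bc (D.map f) Xj).hom = v ∧
          Flat v ∧ Surjective v ∧ LocallyOfFinitePresentation v ∧ QuasiCompact v ∧ QuasiSeparated v) := by
  haveI : QuasiCompact (Gj ⊗ Xj).hom := quasiCompact_tensor Gj Xj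
  haveI : QuasiSeparated (Gj ⊗ Xj).hom := quasiSeparated_tensor Gj Xj
  haveI : LocallyOfFinitePresentation (Gj ⊗ Xj).hom := locallyOfFinitePresentation_tensor Gj Xj
  haveI : QuasiCompact (Xj ⊗ Xj).hom := quasiCompact_tensor Xj Xj
  haveI : QuasiSeparated (Xj ⊗ Xj).hom := quasiSeparated_tensor Xj Xj
  haveI : LocallyOfFinitePresentation (Xj ⊗ Xj).hom := locallyOfFinitePresentation_tensor Xj Xj
  constructor
  · rintro ⟨hiso, hsec⟩
    rw [isIso_shear_iff, isIso_iff D c hc j] at hiso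
    obtain ⟨k₁, g₁, h₁⟩ := hiso
    obtain ⟨k₂, g₂, h₂⟩ := hasFppfSec_descends D c hc j Xj hsec
    obtain ⟨k, a₁, a₂, e⟩ := IsCofiltered.cospan g₁ g₂
    refine ⟨k, a₁ ≫ g₁, ?_, ?_⟩
    · rw [isIso_shear_iff]
      exact isIso_map_of_isIso_map (D.map a₁) (D.map g₁) (D.map_comp a₁ g₁).symm _ h₁
    · exact hasFppfSec_further (D.map a₂) (D.map g₂) (by rw [← D.map_comp, e]) h₂
  · rintro ⟨i, f, hiso, hsec⟩
    refine ⟨?_, ?_⟩
    · rw [isIso_shear_iff] at hiso ⊢
      exact isIso_map_of_isIso_map (c.π.app i) (D.map f) (c.w f) _ hiso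
    · exact hasFppfSec_further (c.π.app i) (D.map f) (c.w f) hsec

end Lim

end Groth.Agent.Lib.T2H7.GrpLimF
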