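import Mathlib
import Groth.Prelude.Def_ActBC
import Groth.Agent.Lib.T2H7GrpLimF

/-!
# Pre-group structures, their images under monoidal functors, and descent of group schemes of
finite presentation through a cofiltered limit of schemes (helper7)
-/

set_option autoImplicit false
set_option linter.unusedSectionVars false
set_option linter.unusedVariables false
set_option linter.style.haveILetI false
universe u
open CategoryTheory CategoryTheory.Limits AlgebraicGeometry MonoidalCategory
  CartesianMonoidalCategory MonObj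

namespace Groth.Agent.Lib.T2H7.GrpLimG

open Groth.Agent.Lib.T2H7.GrpLimA Groth.Agent.Lib.T2H7.GrpLimB Groth.Agent.Lib.T2H7.GrpLimC
  Groth.Agent.Lib.T2H7.GrpLimD Groth.Agent.Lib.T2H7.GrpLimE Groth.Agent.Lib.T2H7.GrpLimF

section PreGrp

variable {C : Type*} [Category C] [CartesianMonoidalCategory C]

/-- a multiplication, a unit and an inverse on an object, without axioms. -/
@[ext]
structure PreGrp (X : C) where
  /-- the multiplication -/
  mul : X ⊗ X ⟶ X
  /-- the unit -/
  one : 𝟙_ C ⟶ X
  /-- the inverse -/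
  inv : X ⟶ X

variable {X : C} (p : PreGrp X)

/-- the group axioms. -/
structure PreGrp.IsGrp : Prop where
  one_mul : (p.one ▷ X) ≫ p.mul = (λ_ X).hom
  mul_one : (X ◁ p.one) ≫ p.mul = (ρ_ X).hom
  mul_assoc : (p.mul ▷ X) ≫ p.mul = (α_ X X X).hom ≫ (X ◁ p.mul) ≫ p.mul
  left_inv : lift p.inv (𝟙 X) ≫ p.mul = toUnit X ≫ p.one
  right_inv : lift (𝟙 X) p.inv ≫ p.mul = toUnit X ≫ p.one

/-- the group object given by a pre-group structure satisfying the axioms. -/
@[instance_reducible]
def PreGrp.toGrpObj (h : p.IsGrp) : GrpObj X where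
  one := p.one
  mul := p.mul
  one_mul := h.one_mul
  mul_one := h.mul_one
  mul_assoc := h.mul_assoc
  inv := p.inv
  left_inv := h.left_inv
  right_inv := h.right_inv

/-- the pre-group structure of a group object. -/
def PreGrp.ofGrpObj (X : C) [GrpObj X] : PreGrp X := ⟨μ[X], η[X], ι[X]⟩

theorem PreGrp.isGrp_ofGrpObj (X : C) [GrpObj X] : (PreGrp.ofGrpObj X).IsGrp :=
  ⟨MonObj.one_mul X, MonObj.mul_one X, MonObj.mul_assoc X, GrpObj.left_inv X, GrpObj.right_inv X⟩

variable {E : Type*} [Category E] [CartesianMonoidalCategory E] (F : C ⥤ E) [F.Monoidal]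


/-- the image of a pre-group structure under a monoidal functor. -/
def PreGrp.map : PreGrp (F.obj X) :=
  ⟨Functor.LaxMonoidal.μ F X X ≫ F.map p.mul, Functor.LaxMonoidal.ε F ≫ F.map p.one, F.map p.inv⟩

/-- the five axioms after applying `F`. -/
structure PreGrp.IsGrpAfter : Prop where
  one_mul : F.map ((p.one ▷ X) ≫ p.mul) = F.map (λ_ X).hom
  mul_one : F.map ((X ◁ p.one) ≫ p.mul) = F.map (ρ_ X).hom
  mul_assoc : F.map ((p.mul ▷ X) ≫ p.mul) = F.map ((α_ X X X).hom ≫ (X ◁ p.mul) ≫ p.mul)
  left_inv : F.map (lift p.inv (𝟙 X) ≫ p.mul) = F.map (toUnit X ≫ p.one)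
  right_inv : F.map (lift (𝟙 X) p.inv ≫ p.mul) = F.map (toUnit X ≫ p.one)

theorem PreGrp.isGrp_map_iff : (p.map F).IsGrp ↔ p.IsGrpAfter F := by
  constructor
  · intro h
    refine ⟨?_, ?_, ?_, ?_, ?_⟩
    · have := h.one_mul
      rw [Functor.LaxMonoidal.left_unitality F X] at this
      simp only [PreGrp.map, comp_whiskerRight, Category.assoc, Functor.LaxMonoidal.μ_natural_left_assoc,
        ← F.map_comp] at this
      rwa [cancel_epi, cancel_epi] at this
    · have := h.mul_one
      rw [Functor.LaxMonoidal.right_unitality F X] at this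
      simp only [PreGrp.map, MonoidalCategory.whiskerLeft_comp, Category.assoc,
        Functor.LaxMonoidal.μ_natural_right_assoc, ← F.map_comp] at this
      rwa [cancel_epi, cancel_epi] at this
    · have := h.mul_assoc
      simp only [PreGrp.map, comp_whiskerRight, MonoidalCategory.whiskerLeft_comp,
        Category.assoc, Functor.LaxMonoidal.μ_natural_left_assoc, Functor.LaxMonoidal.μ_natural_right_assoc] at this
      rw [← Functor.LaxMonoidal.associativity_assoc] at this
      simp only [← F.map_comp] at this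
      rwa [cancel_epi, cancel_epi] at this
    · have := h.left_inv
      simp only [PreGrp.map] at this
      rw [← F.map_id, Functor.Monoidal.lift_μ_assoc, Functor.Monoidal.toUnit_ε_assoc,
        ← F.map_comp, ← F.map_comp] at this
      exact this
    · have := h.right_inv
      simp only [PreGrp.map] at this
      rw [← F.map_id, Functor.Monoidal.lift_μ_assoc, Functor.Monoidal.toUnit_ε_assoc,
        ← F.map_comp, ← F.map_comp] at this
      exact this
  · intro h
    refine ⟨?_, ?_, ?_, ?_, ?_⟩
    · rw [Functor.LaxMonoidal.left_unitality F X]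
      simp only [PreGrp.map, comp_whiskerRight, Category.assoc, Functor.LaxMonoidal.μ_natural_left_assoc,
        ← F.map_comp]
      rw [h.one_mul]
    · rw [Functor.LaxMonoidal.right_unitality F X]
      simp only [PreGrp.map, MonoidalCategory.whiskerLeft_comp, Category.assoc,
        Functor.LaxMonoidal.μ_natural_right_assoc, ← F.map_comp]
      rw [h.mul_one]
    · simp only [PreGrp.map, comp_whiskerRight, MonoidalCategory.whiskerLeft_comp,
        Category.assoc, Functor.LaxMonoidal.μ_natural_left_assoc, Functor.LaxMonoidal.μ_natural_right_assoc]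
      rw [← Functor.LaxMonoidal.associativity_assoc]
      simp only [← F.map_comp]
      rw [h.mul_assoc]
    · simp only [PreGrp.map]
      rw [← F.map_id, Functor.Monoidal.lift_μ_assoc, Functor.Monoidal.toUnit_ε_assoc,
        ← F.map_comp, ← F.map_comp]
      exact h.left_inv
    · simp only [PreGrp.map]
      rw [← F.map_id, Functor.Monoidal.lift_μ_assoc, Functor.Monoidal.toUnit_ε_assoc,
        ← F.map_comp, ← F.map_comp]
      exact h.right_inv

end PreGrp

section KMon

variable {S S' S'' : Scheme.{u}} (f : S'' ⟶ S') (g : S' ⟶ S) {d : S'' ⟶ S} (h : f ≫ g = d)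
  (A B : Over S)

/-- `bcCompIso` is compatible with the monoidal structures of the base change functors. -/
@[reassoc]
theorem bcCompIso_μ :
    Functor.LaxMonoidal.μ (Over.pullback f) (Red.bc g A) (Red.bc g B) ≫
        (Over.pullback f).map (Functor.LaxMonoidal.μ (Over.pullback g) A B) ≫
          (ActBC.bcCompIso f g (A ⊗ B) h).hom =
      ((ActBC.bcCompIso f g A h).hom ⊗ₘ (ActBC.bcCompIso f g B h).hom) ≫
        Functor.LaxMonoidal.μ (Over.pullback d) A B := by
  ext
  apply pullback.hom_ext
  · apply pullback.hom_ext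
    · simp only [Over.comp_left, Category.assoc]
      rw [ActBC.bcCompIso_hom_left_fst_assoc, ActBC.pullback_map_left_fst_assoc,
        ActBC.μ_left_fst_fst, ActBC.μ_left_fst_fst_assoc, ActBC.μ_left_fst_fst,
        ActBC.tensorHom_left_fst'_assoc, ActBC.bcCompIso_hom_left_fst]
    · simp only [Over.comp_left, Category.assoc]
      rw [ActBC.bcCompIso_hom_left_fst_assoc, ActBC.pullback_map_left_fst_assoc,
        ActBC.μ_left_fst_snd, ActBC.μ_left_fst_snd_assoc, ActBC.μ_left_fst_snd,
        ActBC.tensorHom_left_snd'_assoc, ActBC.bcCompIso_hom_left_fst]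
  · exact (Over.w _).trans (Over.w _).symm

/-- `bcCompIso` is compatible with the units of the monoidal structures. -/
@[reassoc]
theorem bcCompIso_ε :
    Functor.LaxMonoidal.ε (Over.pullback f) ≫
        (Over.pullback f).map (Functor.LaxMonoidal.ε (Over.pullback g)) ≫
          (ActBC.bcCompIso f g (𝟙_ (Over S)) h).hom =
      Functor.LaxMonoidal.ε (Over.pullback d) := by
  rw [← cancel_mono (Functor.OplaxMonoidal.η (Over.pullback d))]
  exact toUnit_unique _ _

/-- the multiplication of the image of a pre-group structure under two successive base changes is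
the one of its image under the composite base change. -/
theorem map_map_mul_bcCompIso {X : Over S} (p : PreGrp X) :
    ((p.map (Over.pullback g)).map (Over.pullback f)).mul ≫ (ActBC.bcCompIso f g X h).hom =
      ((ActBC.bcCompIso f g X h).hom ⊗ₘ (ActBC.bcCompIso f g X h).hom) ≫
        (p.map (Over.pullback d)).mul := by
  simp only [PreGrp.map, Functor.map_comp, Category.assoc]
  rw [ActBC.bcCompIso_hom_naturality f g h p.mul, bcCompIso_μ_assoc]

end KMon

section Ev

variable {I : Type u} [SmallCategory I] [IsCofiltered I]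

/-- a property of stages over `i` holds at all stages refining some stage. -/
def Ev (i : I) (P : ∀ k : I, (k ⟶ i) → Prop) : Prop :=
  ∃ (k : I) (g : k ⟶ i), ∀ (k' : I) (a : k' ⟶ k), P k' (a ≫ g)

theorem Ev.and {i : I} {P Q : ∀ k : I, (k ⟶ i) → Prop} (h₁ : Ev i P) (h₂ : Ev i Q) :
    Ev i (fun k g => P k g ∧ Q k g) := by
  obtain ⟨k₁, g₁, H₁⟩ := h₁
  obtain ⟨k₂, g₂, H₂⟩ := h₂
  obtain ⟨k, a₁, a₂, e⟩ := IsCofiltered.cospan g₁ g₂
  refine ⟨k, a₁ ≫ g₁, fun k' a => ⟨?_, ?_⟩⟩
  · rw [← Category.assoc]
    exact H₁ k' (a ≫ a₁)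
  · rw [e, ← Category.assoc]
    exact H₂ k' (a ≫ a₂)

theorem Ev.exists {i : I} {P : ∀ k : I, (k ⟶ i) → Prop} (h : Ev i P) :
    ∃ (k : I) (g : k ⟶ i), P k g := by
  obtain ⟨k, g, H⟩ := h
  have := H k (𝟙 k)
  rw [Category.id_comp] at this
  exact ⟨k, g, this⟩

theorem Ev.mono {i : I} {P Q : ∀ k : I, (k ⟶ i) → Prop} (h : Ev i P)
    (hPQ : ∀ k g, P k g → Q k g) : Ev i Q := by
  obtain ⟨k, g, H⟩ := h
  exact ⟨k, g, fun k' a => hPQ _ _ (H k' a)⟩

variable (D : I ⥤ Scheme.{u}) (c : Cone D) (hc : IsLimit c)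
  [∀ (i i' : I) (f : i ⟶ i'), IsAffineHom (D.map f)] [∀ i, CompactSpace (D.obj i)]
  (i : I) (X Y : Over (D.obj i))

include hc in
theorem ev_eq [QuasiCompact X.hom] [LocallyOfFiniteType Y.hom] (m₁ m₂ : X ⟶ Y)
    (h : (Over.pullback (c.π.app i)).map m₁ = (Over.pullback (c.π.app i)).map m₂) :
    Ev i (fun k g => (Over.pullback (D.map g)).map m₁ = (Over.pullback (D.map g)).map m₂) := by
  obtain ⟨k, g, e⟩ := kl_inj D c hc i X Y m₁ m₂ h
  exact ⟨k, g, fun k' a => map_eq_of_map_eq (D.map a) (D.map g) (D.map_comp a g).symm m₁ m₂ e⟩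

include hc in
theorem ev_isBcOf [∀ i, QuasiSeparatedSpace (D.obj i)] [QuasiCompact X.hom]
    [QuasiSeparated X.hom] [LocallyOfFinitePresentation Y.hom]
    (u : Red.bc (c.π.app i) X ⟶ Red.bc (c.π.app i) Y) :
    Ev i (fun k g => ∃ v : Red.bc (D.map g) X ⟶ Red.bc (D.map g) Y, IsBcOf D c i X Y g v u) := by
  obtain ⟨k, g, v, hv⟩ := kl_surj D c hc i X Y u
  exact ⟨k, g, fun k' a => ⟨_, isBcOf_bcFurther D c i X Y g a rfl v u hv⟩⟩

end Ev

end Groth.Agent.Lib.T2H7.GrpLimG
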