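import Mathlib
import Groth.Prelude.Def_ActBC
import Groth.Agent.Lib.T2H7GrpLimG

/-!
# A group scheme of finite presentation over a cofiltered limit of schemes comes from a stage
(helper7)
-/

set_option autoImplicit false
set_option linter.unusedSectionVars false
set_option linter.unusedVariables false
set_option linter.style.haveILetI false
universe u
open CategoryTheory CategoryTheory.Limits AlgebraicGeometry MonoidalCategory
  CartesianMonoidalCategory MonObj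

namespace Groth.Agent.Lib.T2H7.GrpLimH

open Groth.Agent.Lib.T2H7.GrpLimA Groth.Agent.Lib.T2H7.GrpLimB Groth.Agent.Lib.T2H7.GrpLimC
  Groth.Agent.Lib.T2H7.GrpLimD Groth.Agent.Lib.T2H7.GrpLimE Groth.Agent.Lib.T2H7.GrpLimF
  Groth.Agent.Lib.T2H7.GrpLimG

theorem quasiCompact_unit (S : Scheme.{u}) : QuasiCompact (𝟙_ (Over S)).hom :=
  (inferInstance : QuasiCompact (𝟙 S))

theorem quasiSeparated_unit (S : Scheme.{u}) : QuasiSeparated (𝟙_ (Over S)).hom :=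
  (inferInstance : QuasiSeparated (𝟙 S))

section Main

variable {I : Type u} [SmallCategory I] [IsCofiltered I] (D : I ⥤ Scheme.{u}) (c : Cone D)
  (hc : IsLimit c) [∀ (i i' : I) (f : i ⟶ i'), IsAffineHom (D.map f)]
  [∀ i, CompactSpace (D.obj i)] [∀ i, QuasiSeparatedSpace (D.obj i)]

/-- the data at a stage `g : k ⟶ k₀` descending the group structure of `G ≅ Y₀ ×_{S_{k₀}} S`. -/
theorem exists_preGrp (k₀ : I) (Y₀ : Over (D.obj k₀)) [LocallyOfFinitePresentation Y₀.hom]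
    [QuasiCompact Y₀.hom] [QuasiSeparated Y₀.hom] (G : Over c.pt) [GrpObj G]
    (e₀ : G ≅ Red.bc (c.π.app k₀) Y₀) (hc : IsLimit c) :
    ∃ (k : I) (g : k ⟶ k₀) (p : PreGrp (Red.bc (D.map g) Y₀)),
      (p.map (Over.pullback (c.π.app k))).mul =
        ((e₀ ≪≫ (ActBC.bcCompIso (c.π.app k) (D.map g) Y₀ (c.w g)).symm).inv ⊗ₘ
          (e₀ ≪≫ (ActBC.bcCompIso (c.π.app k) (D.map g) Y₀ (c.w g)).symm).inv) ≫ μ[G] ≫
          (e₀ ≪≫ (ActBC.bcCompIso (c.π.app k) (D.map g) Y₀ (c.w g)).symm).hom ∧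
      (p.map (Over.pullback (c.π.app k))).one =
        η[G] ≫ (e₀ ≪≫ (ActBC.bcCompIso (c.π.app k) (D.map g) Y₀ (c.w g)).symm).hom ∧
      (p.map (Over.pullback (c.π.app k))).inv =
        (e₀ ≪≫ (ActBC.bcCompIso (c.π.app k) (D.map g) Y₀ (c.w g)).symm).inv ≫ ι[G] ≫
          (e₀ ≪≫ (ActBC.bcCompIso (c.π.app k) (D.map g) Y₀ (c.w g)).symm).hom := by
  haveI : QuasiCompact (Y₀ ⊗ Y₀).hom := quasiCompact_tensor Y₀ Y₀
  haveI : QuasiSeparated (Y₀ ⊗ Y₀).hom := quasiSeparated_tensor Y₀ Y₀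
  haveI : QuasiCompact (𝟙_ (Over (D.obj k₀))).hom := quasiCompact_unit _
  haveI : QuasiSeparated (𝟙_ (Over (D.obj k₀))).hom := quasiSeparated_unit _
  obtain ⟨μt, hμt⟩ : ∃ μt : Red.bc (c.π.app k₀) (Y₀ ⊗ Y₀) ⟶ Red.bc (c.π.app k₀) Y₀,
      μt = Functor.OplaxMonoidal.δ (Over.pullback (c.π.app k₀)) Y₀ Y₀ ≫
        (e₀.inv ⊗ₘ e₀.inv) ≫ μ[G] ≫ e₀.hom := ⟨_, rfl⟩
  obtain ⟨ηt, hηt⟩ : ∃ ηt : Red.bc (c.π.app k₀) (𝟙_ (Over (D.obj k₀))) ⟶ Red.bc (c.π.app k₀) Y₀,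
      ηt = Functor.OplaxMonoidal.η (Over.pullback (c.π.app k₀)) ≫ η[G] ≫ e₀.hom := ⟨_, rfl⟩
  obtain ⟨ιt, hιt⟩ : ∃ ιt : Red.bc (c.π.app k₀) Y₀ ⟶ Red.bc (c.π.app k₀) Y₀,
      ιt = e₀.inv ≫ ι[G] ≫ e₀.hom := ⟨_, rfl⟩
  obtain ⟨k, g, ⟨⟨m, hm⟩, ⟨e1, he1⟩⟩, ⟨i1, hi1⟩⟩ :=
    (((ev_isBcOf D c hc k₀ (Y₀ ⊗ Y₀) Y₀ μt).and
      (ev_isBcOf D c hc k₀ (𝟙_ (Over (D.obj k₀))) Y₀ ηt)).and
      (ev_isBcOf D c hc k₀ Y₀ Y₀ ιt)).exists
  unfold IsBcOf at hm he1 hi1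
  refine ⟨k, g, ⟨Functor.LaxMonoidal.μ (Over.pullback (D.map g)) Y₀ Y₀ ≫ m,
    Functor.LaxMonoidal.ε (Over.pullback (D.map g)) ≫ e1, i1⟩, ?_, ?_, ?_⟩
  · simp only [PreGrp.map, Functor.map_comp, Category.assoc]
    rw [hm, bcCompIso_μ_assoc, hμt]
    simp only [Category.assoc]
    rw [Functor.Monoidal.μ_δ_assoc]
    simp only [Iso.trans_inv, Iso.trans_hom, Iso.symm_inv, Iso.symm_hom, Category.assoc,
      tensorHom_comp_tensorHom_assoc]
  · simp only [PreGrp.map, Functor.map_comp, Category.assoc]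
    rw [he1, bcCompIso_ε_assoc, hηt]
    simp only [Category.assoc]
    rw [Functor.Monoidal.ε_η_assoc]
    simp only [Iso.trans_hom, Iso.symm_hom, Category.assoc]
  · simp only [PreGrp.map]
    rw [hi1, hιt]
    simp only [Iso.trans_inv, Iso.trans_hom, Iso.symm_inv, Iso.symm_hom, Category.assoc]

include hc in
theorem grp_descends (G : Over c.pt) [GrpObj G] [LocallyOfFinitePresentation G.hom]
    [QuasiCompact G.hom] [QuasiSeparated G.hom] :
    ∃ (j : I) (Gj : Over (D.obj j)) (_ : GrpObj Gj) (e : G ≅ Red.bc (c.π.app j) Gj),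
      IsMonHom e.hom ∧ LocallyOfFinitePresentation Gj.hom ∧ QuasiCompact Gj.hom ∧
        QuasiSeparated Gj.hom := by
  obtain ⟨k₀, Y₀, h1, h2, h3, ⟨e₀⟩⟩ := exists_bc_iso D c hc G
  haveI := h1
  haveI := h2
  haveI := h3
  obtain ⟨k, g, p, ha, hb, hi⟩ := exists_preGrp D c k₀ Y₀ G e₀ hc
  obtain ⟨E, hE⟩ : ∃ E : G ≅ Red.bc (c.π.app k) (Red.bc (D.map g) Y₀),
      E = e₀ ≪≫ (ActBC.bcCompIso (c.π.app k) (D.map g) Y₀ (c.w g)).symm := ⟨_, rfl⟩
  rw [← hE] at ha hb hi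
  -- the pre-group structure is a group structure at the limit
  have hgrp : (p.map (Over.pullback (c.π.app k))).IsGrp := by
    letI : GrpObj (Red.bc (c.π.app k) (Red.bc (D.map g) Y₀)) := GrpObj.ofIso E
    have h4 : p.map (Over.pullback (c.π.app k)) =
        PreGrp.ofGrpObj (Red.bc (c.π.app k) (Red.bc (D.map g) Y₀)) := by
      apply PreGrp.ext
      · exact ha
      · exact hb
      · exact hi
    rw [h4]
    exact PreGrp.isGrp_ofGrpObj _
  have hafter := (p.isGrp_map_iff (Over.pullback (c.π.app k))).1 hgrp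
  -- finiteness of the objects involved
  haveI : QuasiCompact (Red.bc (D.map g) Y₀).hom := quasiCompact_bc _ _
  haveI : QuasiSeparated (Red.bc (D.map g) Y₀).hom := quasiSeparated_bc _ _
  haveI : LocallyOfFinitePresentation (Red.bc (D.map g) Y₀).hom :=
    locallyOfFinitePresentation_bc _ _
  haveI : LocallyOfFiniteType (Red.bc (D.map g) Y₀).hom := inferInstance
  haveI : QuasiCompact (𝟙_ (Over (D.obj k))).hom := quasiCompact_unit _
  haveI : QuasiCompact (𝟙_ (Over (D.obj k)) ⊗ Red.bc (D.map g) Y₀).hom :=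
    quasiCompact_tensor _ _
  haveI : QuasiCompact (Red.bc (D.map g) Y₀ ⊗ 𝟙_ (Over (D.obj k))).hom :=
    quasiCompact_tensor _ _
  haveI : QuasiCompact (Red.bc (D.map g) Y₀ ⊗ Red.bc (D.map g) Y₀).hom :=
    quasiCompact_tensor _ _
  haveI : QuasiCompact ((Red.bc (D.map g) Y₀ ⊗ Red.bc (D.map g) Y₀) ⊗ Red.bc (D.map g) Y₀).hom :=
    quasiCompact_tensor _ _
  obtain ⟨k', g', H⟩ :=
    (((((ev_eq D c hc k _ _ _ _ hafter.one_mul).and (ev_eq D c hc k _ _ _ _ hafter.mul_one)).and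
      (ev_eq D c hc k _ _ _ _ hafter.mul_assoc)).and
      (ev_eq D c hc k _ _ _ _ hafter.left_inv)).and
      (ev_eq D c hc k _ _ _ _ hafter.right_inv)).exists
  have hgrp' : (p.map (Over.pullback (D.map g'))).IsGrp :=
    (p.isGrp_map_iff (Over.pullback (D.map g'))).2 ⟨H.1.1.1.1, H.1.1.1.2, H.1.1.2, H.1.2, H.2⟩
  letI inst : GrpObj (Red.bc (D.map g') (Red.bc (D.map g) Y₀)) :=
    (p.map (Over.pullback (D.map g'))).toGrpObj hgrp'
  refine ⟨k', Red.bc (D.map g') (Red.bc (D.map g) Y₀), inst,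
    E ≪≫ (ActBC.bcCompIso (c.π.app k') (D.map g') (Red.bc (D.map g) Y₀) (c.w g')).symm, ?_,
    locallyOfFinitePresentation_bc _ _, quasiCompact_bc _ _, quasiSeparated_bc _ _⟩
  apply isMonHom_of_mul_hom
  have key := map_map_mul_bcCompIso (c.π.app k') (D.map g') (c.w g') p
  rw [ha] at key
  have hμ : μ[Red.bc (c.π.app k') (Red.bc (D.map g') (Red.bc (D.map g) Y₀))] =
      ((p.map (Over.pullback (D.map g'))).map (Over.pullback (c.π.app k'))).mul := rfl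
  rw [hμ, ← cancel_mono (ActBC.bcCompIso (c.π.app k') (D.map g') (Red.bc (D.map g) Y₀)
    (c.w g')).hom]
  simp only [Category.assoc, key]
  simp only [Iso.trans_hom, Iso.symm_hom, Category.assoc, Iso.inv_hom_id, Category.comp_id,
    tensorHom_comp_tensorHom_assoc]
  simp

end Main

end Groth.Agent.Lib.T2H7.GrpLimH
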