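import Mathlib
import Groth.Prelude.Def_ActBC
import Groth.Agent.Lib.T2H7GrpLimH

/-!
# Descent of an action of a group scheme through a cofiltered limit of schemes (helper7)

`IsAct m` : the action axioms for a morphism `m : G ⊗ Y ⟶ Y`; their behaviour under a monoidal
functor (`isAct_map_iff`), under conjugation by isomorphisms (`IsAct.conj`), and the descent of an
action on objects of finite presentation to a stage of a cofiltered limit (`exists_action_stage`).
-/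

set_option autoImplicit false
set_option linter.unusedSectionVars false
set_option linter.unusedVariables false
set_option linter.style.haveILetI false
universe u
open CategoryTheory CategoryTheory.Limits AlgebraicGeometry MonoidalCategory
  CartesianMonoidalCategory MonObj

namespace Groth.Agent.Lib.T2H7.ActLimA

open Groth.Agent.Lib.T2H7.GrpLimA Groth.Agent.Lib.T2H7.GrpLimB Groth.Agent.Lib.T2H7.GrpLimC
  Groth.Agent.Lib.T2H7.GrpLimD Groth.Agent.Lib.T2H7.GrpLimE Groth.Agent.Lib.T2H7.GrpLimF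
  Groth.Agent.Lib.T2H7.GrpLimG Groth.Agent.Lib.T2H7.GrpLimH

section PreAct

open scoped Obj

variable {C : Type*} [Category C] [CartesianMonoidalCategory C] {G Y : C} [GrpObj G]

/-- the action axioms for a morphism `m : G ⊗ Y ⟶ Y`. -/
structure IsAct (m : G ⊗ Y ⟶ Y) : Prop where
  one_act : (η[G] ▷ Y) ≫ m = (λ_ Y).hom
  mul_act : (μ[G] ▷ Y) ≫ m = (α_ G G Y).hom ≫ (G ◁ m) ≫ m

variable {E : Type*} [Category E] [CartesianMonoidalCategory E] (F : C ⥤ E) [F.Monoidal]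

/-- the action axioms after applying `F`. -/
structure IsActAfter (m : G ⊗ Y ⟶ Y) : Prop where
  one_act : F.map ((η[G] ▷ Y) ≫ m) = F.map (λ_ Y).hom
  mul_act : F.map ((μ[G] ▷ Y) ≫ m) = F.map ((α_ G G Y).hom ≫ (G ◁ m) ≫ m)

theorem isAct_map_iff (m : G ⊗ Y ⟶ Y) :
    IsAct (G := F.obj G) (Functor.LaxMonoidal.μ F G Y ≫ F.map m) ↔ IsActAfter F m := by
  constructor
  · intro h
    refine ⟨?_, ?_⟩
    · have := h.one_act
      rw [Functor.LaxMonoidal.left_unitality F Y, Functor.obj.η_def, comp_whiskerRight,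
        Category.assoc, Functor.LaxMonoidal.μ_natural_left_assoc, ← F.map_comp] at this
      rwa [cancel_epi, cancel_epi] at this
    · have := h.mul_act
      rw [Functor.obj.μ_def, comp_whiskerRight, Category.assoc,
        Functor.LaxMonoidal.μ_natural_left_assoc, ← F.map_comp,
        MonoidalCategory.whiskerLeft_comp, Category.assoc,
        Functor.LaxMonoidal.μ_natural_right_assoc,
        ← Functor.LaxMonoidal.associativity_assoc] at this
      simp only [← F.map_comp] at this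
      rwa [cancel_epi, cancel_epi] at this
  · intro h
    refine ⟨?_, ?_⟩
    · rw [Functor.LaxMonoidal.left_unitality F Y, Functor.obj.η_def, comp_whiskerRight,
        Category.assoc, Functor.LaxMonoidal.μ_natural_left_assoc, ← F.map_comp, h.one_act]
    · rw [Functor.obj.μ_def, comp_whiskerRight, Category.assoc,
        Functor.LaxMonoidal.μ_natural_left_assoc, ← F.map_comp,
        MonoidalCategory.whiskerLeft_comp, Category.assoc,
        Functor.LaxMonoidal.μ_natural_right_assoc,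
        ← Functor.LaxMonoidal.associativity_assoc]
      simp only [← F.map_comp]
      rw [h.mul_act]

end PreAct

section Conj

variable {S : Scheme.{u}} {G G' Y Y' : Over S} [GrpObj G] [GrpObj G']

/-- the action given by a morphism satisfying the axioms. -/
def IsAct.toAction {m : G ⊗ Y ⟶ Y} (h : IsAct m) : AlgGrp.Action G Y := ⟨m, h.one_act, h.mul_act⟩

theorem isAct_of_action (a : AlgGrp.Action G Y) : IsAct a.act := ⟨a.one_act, a.mul_act⟩

/-- transport of the axioms along an isomorphism of the object acted on. -/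
theorem IsAct.transport (ψ : Y' ≅ Y) {m : G ⊗ Y ⟶ Y} (h : IsAct m) :
    IsAct ((G ◁ ψ.hom) ≫ m ≫ ψ.inv) := by
  refine ⟨?_, ?_⟩
  · rw [← whisker_exchange_assoc, reassoc_of% h.one_act, leftUnitor_naturality_assoc,
      Iso.hom_inv_id, Category.comp_id]
  · rw [← whisker_exchange_assoc, reassoc_of% h.mul_act]
    simp only [MonoidalCategory.whiskerLeft_comp, Category.assoc]
    rw [← associator_naturality_right_assoc]
    congr 2
    rw [← MonoidalCategory.whiskerLeft_comp_assoc G ψ.inv ψ.hom]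
    simp

/-- conjugation of an action by a homomorphism of groups and an isomorphism of objects. -/
theorem IsAct.conj (φ : G' ⟶ G) [IsMonHom φ] (ψ : Y' ≅ Y) {m : G ⊗ Y ⟶ Y} (h : IsAct m) :
    IsAct ((φ ⊗ₘ ψ.hom) ≫ m ≫ ψ.inv) := by
  have h1 := (isAct_of_action (h.toAction.restrict φ)).transport ψ
  have e : (φ ⊗ₘ ψ.hom) ≫ m ≫ ψ.inv = (G' ◁ ψ.hom) ≫ (h.toAction.restrict φ).act ≫ ψ.inv := by
    rw [AlgGrp.Action.restrict_act, tensorHom_def', Category.assoc]
    rfl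
  rw [e]
  exact h1

/-- the shear morphism of a conjugate. -/
theorem shear_conj (φ : G' ⟶ G) (ψ : Y' ≅ Y) (m : G ⊗ Y ⟶ Y) :
    lift ((φ ⊗ₘ ψ.hom) ≫ m ≫ ψ.inv) (snd G' Y') =
      (φ ⊗ₘ ψ.hom) ≫ lift m (snd G Y) ≫ (ψ.inv ⊗ₘ ψ.inv) := by
  apply CartesianMonoidalCategory.hom_ext
  · simp
  · simp

theorem isIso_shear_conj (φ : G' ⟶ G) [IsIso φ] (ψ : Y' ≅ Y) (m : G ⊗ Y ⟶ Y)
    (h : IsIso (lift m (snd G Y))) : IsIso (lift ((φ ⊗ₘ ψ.hom) ≫ m ≫ ψ.inv) (snd G' Y')) := by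
  rw [shear_conj]
  infer_instance

end Conj

section Lim

variable {I : Type u} [SmallCategory I] [IsCofiltered I] (D : I ⥤ Scheme.{u}) (c : Cone D)
  (hc : IsLimit c) [∀ (i i' : I) (f : i ⟶ i'), IsAffineHom (D.map f)]
  [∀ i, CompactSpace (D.obj i)] [∀ i, QuasiSeparatedSpace (D.obj i)]
  (j : I) (Gj Yj : Over (D.obj j)) [GrpObj Gj]

/-- the base change to the limit of the pre-action defined by `v` at a stage. -/
theorem map_preAct_eq (a' : AlgGrp.Action (Red.bc (c.π.app j) Gj) (Red.bc (c.π.app j) Yj))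
    {k : I} (g : k ⟶ j) (v : Red.bc (D.map g) (Gj ⊗ Yj) ⟶ Red.bc (D.map g) Yj)
    (hv : IsBcOf D c j (Gj ⊗ Yj) Yj g v
      (Functor.OplaxMonoidal.δ (Over.pullback (c.π.app j)) Gj Yj ≫ a'.act)) :
    Functor.LaxMonoidal.μ (Over.pullback (c.π.app k)) (Red.bc (D.map g) Gj) (Red.bc (D.map g) Yj) ≫
        (Over.pullback (c.π.app k)).map
          (Functor.LaxMonoidal.μ (Over.pullback (D.map g)) Gj Yj ≫ v) =
      ((ActBC.bcCompIso (c.π.app k) (D.map g) Gj (c.w g)).hom ⊗ₘ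
          (ActBC.bcCompIso (c.π.app k) (D.map g) Yj (c.w g)).hom) ≫ a'.act ≫
        (ActBC.bcCompIso (c.π.app k) (D.map g) Yj (c.w g)).inv := by
  unfold IsBcOf at hv
  rw [Functor.map_comp, hv, bcCompIso_μ_assoc]
  simp only [Category.assoc]
  rw [Functor.Monoidal.μ_δ_assoc]

include hc in
/-- an action, at the limit, of the base change of a group of finite presentation on the base
change of an object of finite presentation comes from an action at a stage. -/
theorem exists_action_stage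
    [LocallyOfFinitePresentation Gj.hom] [QuasiCompact Gj.hom] [QuasiSeparated Gj.hom]
    [LocallyOfFinitePresentation Yj.hom] [QuasiCompact Yj.hom] [QuasiSeparated Yj.hom]
    (a' : AlgGrp.Action (Red.bc (c.π.app j) Gj) (Red.bc (c.π.app j) Yj)) :
    ∃ (k : I) (g : k ⟶ j) (b : AlgGrp.Action (Red.bc (D.map g) Gj) (Red.bc (D.map g) Yj)),
      (b.bc (c.π.app k)).act =
        ((ActBC.bcCompIso (c.π.app k) (D.map g) Gj (c.w g)).hom ⊗ₘ
            (ActBC.bcCompIso (c.π.app k) (D.map g) Yj (c.w g)).hom) ≫ a'.act ≫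
          (ActBC.bcCompIso (c.π.app k) (D.map g) Yj (c.w g)).inv := by
  haveI : QuasiCompact (Gj ⊗ Yj).hom := quasiCompact_tensor Gj Yj
  haveI : QuasiSeparated (Gj ⊗ Yj).hom := quasiSeparated_tensor Gj Yj
  obtain ⟨u, hu⟩ : ∃ u : Red.bc (c.π.app j) (Gj ⊗ Yj) ⟶ Red.bc (c.π.app j) Yj,
      u = Functor.OplaxMonoidal.δ (Over.pullback (c.π.app j)) Gj Yj ≫ a'.act := ⟨_, rfl⟩
  obtain ⟨k₁, g₁, v₁, hv₁⟩ := kl_surj D c hc j (Gj ⊗ Yj) Yj u
  rw [hu] at hv₁
  -- the pre-action at the stage `k₁`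
  obtain ⟨m₁, hm₁⟩ : ∃ m₁ : Red.bc (D.map g₁) Gj ⊗ Red.bc (D.map g₁) Yj ⟶ Red.bc (D.map g₁) Yj,
      m₁ = Functor.LaxMonoidal.μ (Over.pullback (D.map g₁)) Gj Yj ≫ v₁ := ⟨_, rfl⟩
  have key₁ := map_preAct_eq D c j Gj Yj a' g₁ v₁ hv₁
  rw [← hm₁] at key₁
  have hact₁ : IsAct (Functor.LaxMonoidal.μ (Over.pullback (c.π.app k₁)) (Red.bc (D.map g₁) Gj)
      (Red.bc (D.map g₁) Yj) ≫ (Over.pullback (c.π.app k₁)).map m₁) := by
    rw [key₁]
    exact (isAct_of_action a').conj _ _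
  have hafter := (isAct_map_iff (Over.pullback (c.π.app k₁)) m₁).1 hact₁
  -- finiteness of the objects at the stage `k₁`
  haveI : QuasiCompact (Red.bc (D.map g₁) Gj).hom := quasiCompact_bc _ _
  haveI : QuasiCompact (Red.bc (D.map g₁) Yj).hom := quasiCompact_bc _ _
  haveI : LocallyOfFinitePresentation (Red.bc (D.map g₁) Yj).hom :=
    locallyOfFinitePresentation_bc _ _
  haveI : LocallyOfFiniteType (Red.bc (D.map g₁) Yj).hom := inferInstance
  haveI : QuasiCompact (𝟙_ (Over (D.obj k₁))).hom := quasiCompact_unit _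
  haveI : QuasiCompact (𝟙_ (Over (D.obj k₁)) ⊗ Red.bc (D.map g₁) Yj).hom :=
    quasiCompact_tensor _ _
  haveI : QuasiCompact (Red.bc (D.map g₁) Gj ⊗ Red.bc (D.map g₁) Gj).hom :=
    quasiCompact_tensor _ _
  haveI : QuasiCompact ((Red.bc (D.map g₁) Gj ⊗ Red.bc (D.map g₁) Gj) ⊗
      Red.bc (D.map g₁) Yj).hom := quasiCompact_tensor _ _
  obtain ⟨k₂, g₂, H⟩ := ((ev_eq D c hc k₁ _ _ _ _ hafter.one_act).and
    (ev_eq D c hc k₁ _ _ _ _ hafter.mul_act)).exists
  have hact₂ : IsAct (Functor.LaxMonoidal.μ (Over.pullback (D.map g₂)) (Red.bc (D.map g₁) Gj)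
      (Red.bc (D.map g₁) Yj) ≫ (Over.pullback (D.map g₂)).map m₁) :=
    (isAct_map_iff (Over.pullback (D.map g₂)) m₁).2 ⟨H.1, H.2⟩
  -- un-nest
  have e₂ : D.map g₂ ≫ D.map g₁ = D.map (g₂ ≫ g₁) := (D.map_comp g₂ g₁).symm
  obtain ⟨v, hv⟩ : ∃ v : Red.bc (D.map (g₂ ≫ g₁)) (Gj ⊗ Yj) ⟶ Red.bc (D.map (g₂ ≫ g₁)) Yj,
      v = bcFurther D j (Gj ⊗ Yj) Yj g₁ g₂ rfl v₁ := ⟨_, rfl⟩
  have hvbc : IsBcOf D c j (Gj ⊗ Yj) Yj (g₂ ≫ g₁) v
      (Functor.OplaxMonoidal.δ (Over.pullback (c.π.app j)) Gj Yj ≫ a'.act) := by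
    rw [hv]
    exact isBcOf_bcFurther D c j (Gj ⊗ Yj) Yj g₁ g₂ rfl v₁ _ hv₁
  have hm : Functor.LaxMonoidal.μ (Over.pullback (D.map (g₂ ≫ g₁))) Gj Yj ≫ v =
      ((ActBC.bcCompIso (D.map g₂) (D.map g₁) Gj e₂).inv ⊗ₘ
          (ActBC.bcCompIso (D.map g₂) (D.map g₁) Yj e₂).symm.hom) ≫
        (Functor.LaxMonoidal.μ (Over.pullback (D.map g₂)) (Red.bc (D.map g₁) Gj)
          (Red.bc (D.map g₁) Yj) ≫ (Over.pullback (D.map g₂)).map m₁) ≫
        (ActBC.bcCompIso (D.map g₂) (D.map g₁) Yj e₂).symm.inv := by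
    have hμ := bcCompIso_μ (D.map g₂) (D.map g₁) e₂ Gj Yj
    have hμ' : Functor.LaxMonoidal.μ (Over.pullback (D.map (g₂ ≫ g₁))) Gj Yj ≫
        (ActBC.bcCompIso (D.map g₂) (D.map g₁) (Gj ⊗ Yj) e₂).inv =
        ((ActBC.bcCompIso (D.map g₂) (D.map g₁) Gj e₂).inv ⊗ₘ
          (ActBC.bcCompIso (D.map g₂) (D.map g₁) Yj e₂).inv) ≫
        Functor.LaxMonoidal.μ (Over.pullback (D.map g₂)) (Red.bc (D.map g₁) Gj)
          (Red.bc (D.map g₁) Yj) ≫
        (Over.pullback (D.map g₂)).map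
          (Functor.LaxMonoidal.μ (Over.pullback (D.map g₁)) Gj Yj) := by
      rw [← cancel_mono (ActBC.bcCompIso (D.map g₂) (D.map g₁) (Gj ⊗ Yj) e₂).hom]
      simp only [Category.assoc, Iso.inv_hom_id, Category.comp_id]
      rw [hμ, tensorHom_comp_tensorHom_assoc, Iso.inv_hom_id, Iso.inv_hom_id, tensorHom_id,
        id_whiskerRight, Category.id_comp]
    rw [hv, bcFurther, hm₁, (Over.pullback (D.map g₂)).map_comp]
    simp only [Iso.symm_hom, Iso.symm_inv, Category.assoc]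
    exact (reassoc_of% hμ') _
  have hact : IsAct (Functor.LaxMonoidal.μ (Over.pullback (D.map (g₂ ≫ g₁))) Gj Yj ≫ v) := by
    rw [hm]
    exact hact₂.conj _ _
  refine ⟨k₂, g₂ ≫ g₁, hact.toAction, ?_⟩
  exact map_preAct_eq D c j Gj Yj a' (g₂ ≫ g₁) v hvbc

end Lim

end Groth.Agent.Lib.T2H7.ActLimA
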