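import Mathlib
import Groth.Prelude.Def_ActBC
import Groth.Agent.Lib.T2H7ActLimA
import Groth.Agent.Lib.Helper12Torsor
import Groth.Agent.S9187

/-!
# A finite fpqc torsor over a cofiltered limit of schemes comes from a stage (helper7)
-/

set_option autoImplicit false
set_option linter.unusedSectionVars false
set_option linter.unusedVariables false
set_option linter.style.haveILetI false
universe u
open CategoryTheory CategoryTheory.Limits AlgebraicGeometry MonoidalCategory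
  CartesianMonoidalCategory MonObj

namespace Groth.Agent.Lib.T2H7.ActLimB

open Groth.Agent.Lib.T2H7.GrpLimA Groth.Agent.Lib.T2H7.GrpLimB Groth.Agent.Lib.T2H7.GrpLimC
  Groth.Agent.Lib.T2H7.GrpLimD Groth.Agent.Lib.T2H7.GrpLimE Groth.Agent.Lib.T2H7.GrpLimF
  Groth.Agent.Lib.T2H7.GrpLimG Groth.Agent.Lib.T2H7.GrpLimH Groth.Agent.Lib.T2H7.ActLimA

section Torsor

variable {S : Scheme.{u}} {H V : Over S} [GrpObj H] (a : AlgGrp.Action H V)

/-- a property of the group which is fpqc local on the target passes to its fpqc torsors. -/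
theorem torsor_prop (P : MorphismProperty Scheme.{u}) [IsZariskiLocalAtTarget P]
    [P.IsStableUnderBaseChange]
    (hP : P.DescendsAlong (@Surjective ⊓ @Flat ⊓ @QuasiCompact : MorphismProperty Scheme.{u}))
    (hV : NonAbH1.IsTorsorFor Scheme.fpqcPrecoverage a) (hH : P H.hom) : P V.hom := by
  obtain ⟨hps, R, hR, hsec⟩ := hV
  exact Groth.Agent.Lib.Helper12.of_mem_fpqcPrecoverage hP V.hom R hR
    (fun Y' f hf => Groth.Agent.Lib.Helper12.pullback_snd_of_hasSectionOver a hps hH f (hsec f hf))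

/-- a pseudo-torsor whose structure morphism is an fpqc covering is an fpqc torsor. -/
theorem isTorsorFor_of_cover (hps : NonAbH1.IsPseudoTorsorSch a)
    {Z : Scheme.{u}} (v : Z ⟶ S) (w : Z ⟶ V.left) (hw : w ≫ V.hom = v) (h1 : Flat v)
    (h2 : Surjective v) (h3 : QuasiCompact v) :
    NonAbH1.IsTorsorFor Scheme.fpqcPrecoverage a := by
  refine ⟨hps, Presieve.singleton v, v.singleton_mem_fpqcPrecoverage, ?_⟩
  rintro S' f ⟨⟩
  exact ⟨w, hw⟩

/-- restriction along an isomorphism of groups keeps pseudo-torsors. -/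
theorem isPseudoTorsorSch_restrict {H' : Over S} [GrpObj H'] (φ : H' ⟶ H) [IsMonHom φ] [IsIso φ]
    (hps : NonAbH1.IsPseudoTorsorSch a) : NonAbH1.IsPseudoTorsorSch (a.restrict φ) := by
  unfold NonAbH1.IsPseudoTorsorSch at hps ⊢
  have e : lift (a.restrict φ).act (snd H' V) = (φ ▷ V) ≫ lift a.act (snd H V) := by
    apply CartesianMonoidalCategory.hom_ext
    · simp
    · simp
  rw [e]
  infer_instance

end Torsor

section Equiv

variable {S : Scheme.{u}} {H H' V V' V'' : Over S} [GrpObj H] [GrpObj H']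

/-- an equivariant isomorphism from an equation of action morphisms. -/
def equivIsoOfActEq (a : AlgGrp.Action H' V) (a' : AlgGrp.Action H V') (φ : H' ⟶ H) [IsMonHom φ]
    (ψ : V ≅ V') (h : a.act = (φ ⊗ₘ ψ.hom) ≫ a'.act ≫ ψ.inv) :
    NonAbH1.EquivIso a (a'.restrict φ) where
  iso := ψ
  comm := by
    rw [h, AlgGrp.Action.restrict_act, tensorHom_def']
    simp

end Equiv

section Fin

variable {I : Type u} [SmallCategory I] [IsCofiltered I] (D : I ⥤ Scheme.{u}) (c : Cone D)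
  (hc : IsLimit c) [∀ (i i' : I) (f : i ⟶ i'), IsAffineHom (D.map f)]
  [∀ i, CompactSpace (D.obj i)] [∀ i, QuasiSeparatedSpace (D.obj i)] (i : I)
  (X : Over (D.obj i)) [LocallyOfFinitePresentation X.hom] [QuasiCompact X.hom]
  [QuasiSeparated X.hom]

include hc in
theorem finite_descends (hf : IsFinite (Red.bc (c.π.app i) X).hom) :
    ∃ (k : I) (g : k ⟶ i), IsFinite (Red.bc (D.map g) X).hom := by
  haveI : @LocallyOfFinitePresentation X.left (D.obj i) X.hom :=
    ‹LocallyOfFinitePresentation X.hom›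
  haveI : @LocallyOfFiniteType X.left (D.obj i) X.hom := inferInstance
  haveI h2 : @QuasiCompact X.left (D.obj i) X.hom := ‹QuasiCompact X.hom›
  haveI h3 : @QuasiSeparated X.left (D.obj i) X.hom := ‹QuasiSeparated X.hom›
  haveI : CompactSpace X.left :=
    @QuasiCompact.compactSpace_of_compactSpace _ _ _ h2 (inferInstanceAs (CompactSpace (D.obj i)))
  haveI : QuasiSeparatedSpace X.left :=
    @quasiSeparatedSpace_of_quasiSeparated _ _ _
      (inferInstanceAs (QuasiSeparatedSpace (D.obj i))) h3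
  haveI : IsFinite (pullback.snd X.hom (c.π.app i)) := hf
  obtain ⟨k, φ, Xi, Yi, fi, gi, pY, pX, sqY, sqX, hfi⟩ :=
    Groth.Agent.S9187.result D c hc i (X₀ := X.left) (Y₀ := D.obj i) X.hom (𝟙 _)
      (pullback.snd X.hom (c.π.app i)) (𝟙 c.pt) (c.π.app i) (pullback.fst X.hom (c.π.app i))
      (IsPullback.id_vert (c.π.app i)) (IsPullback.of_hasPullback X.hom (c.π.app i))
  haveI : IsIso gi := sqY.isIso_snd_of_isIso
  have hpb := sqX.paste_vert sqY
  rw [Category.comp_id] at hpb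
  exact ⟨k, φ, prop_snd_of_isPullback X @IsFinite hpb
    ((MorphismProperty.cancel_right_of_respectsIso @IsFinite fi gi).2 hfi)⟩

end Fin

section Cocycle

variable {S₁ S₂ S₃ S₄ B : Scheme.{u}} (p₂ : S₂ ⟶ S₁) (p₃ : S₃ ⟶ S₂) (p₄ : S₄ ⟶ S₃)
  (s₁ : S₁ ⟶ B) (s₂ : S₂ ⟶ B) (s₃ : S₃ ⟶ B) (s₄ : S₄ ⟶ B) (q₂ : S₄ ⟶ S₂) (q₁ : S₄ ⟶ S₁)
  (h₂ : p₂ ≫ s₁ = s₂) (h₃ : p₃ ≫ s₂ = s₃) (h₄ : p₄ ≫ s₃ = s₄) (hq₂ : p₄ ≫ p₃ = q₂)
  (hq₁ : q₂ ≫ p₂ = q₁) (h₁ : q₁ ≫ s₁ = s₄) (G : Over B)

/-- the canonical identifications of iterated base changes are compatible. -/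
theorem bcCompIso_cocycle :
    (Over.pullback p₄).map ((ActBC.bcCompIso p₃ s₂ G h₃).inv ≫
        (Over.pullback p₃).map (ActBC.bcCompIso p₂ s₁ G h₂).inv) ≫
      (ActBC.bcCompIso p₄ p₃ (Red.bc p₂ (Red.bc s₁ G)) hq₂).hom ≫
        (ActBC.bcCompIso q₂ p₂ (Red.bc s₁ G) hq₁).hom ≫ (ActBC.bcCompIso q₁ s₁ G h₁).hom =
      (ActBC.bcCompIso p₄ s₃ G h₄).hom := by
  ext
  apply pullback.hom_ext
  · simp only [Over.comp_left, Category.assoc, ActBC.bcCompIso_hom_left_fst,
      ActBC.bcCompIso_hom_left_fst_assoc, ActBC.pullback_map_left_fst_assoc,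
      bcCompIso_inv_left_fst_fst]
  · exact (Over.w _).trans (Over.w _).symm

end Cocycle

section Main

theorem prop_of_iso {S : Scheme.{u}} (P : MorphismProperty Scheme.{u}) [P.RespectsIso]
    {A A' : Over S} (e : A ≅ A') (h : P A'.hom) : P A.hom := by
  rw [← Over.w e.hom]
  exact (P.cancel_left_of_respectsIso _ _).2 h

variable {B : Scheme.{u}} (G : Over B) [GrpObj G]
  {I : Type u} [SmallCategory I] [IsCofiltered I] (D : I ⥤ Scheme.{u}) (c : Cone D)
  (hc : IsLimit c) [∀ (i i' : I) (f : i ⟶ i'), IsAffineHom (D.map f)]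
  [∀ i, CompactSpace (D.obj i)] [∀ i, QuasiSeparatedSpace (D.obj i)]
  (t : ∀ i, D.obj i ⟶ B) (ht : ∀ {i j : I} (f : i ⟶ j), D.map f ≫ t j = t i)
  (tc : c.pt ⟶ B) (htc : ∀ i, c.π.app i ≫ t i = tc)

include hc ht in
theorem finite_torsor_descends [IsFinite G.hom] [Flat G.hom] [LocallyOfFinitePresentation G.hom]
    (V : Over c.pt) (hVfin : IsFinite V.hom) (a : AlgGrp.Action (Red.bc tc G) V)
    (hV : NonAbH1.IsTorsorFor Scheme.fpqcPrecoverage a) :
    ∃ (i : I) (Vi : Over (D.obj i)) (ai : AlgGrp.Action (Red.bc (t i) G) Vi),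
      IsFinite Vi.hom ∧ NonAbH1.IsTorsorFor Scheme.fpqcPrecoverage ai ∧
        Nonempty (NonAbH1.EquivIso (ai.bc (c.π.app i))
          (a.restrict (ActBC.bcCompIso (c.π.app i) (t i) G (htc i)).hom)) := by
  haveI := hVfin
  -- properties of `G`
  have hGs : Surjective G.hom := by
    have h0 : Surjective (η[G].left ≫ G.hom) := by
      rw [Over.w]
      exact (inferInstance : Surjective (𝟙 B))
    exact Surjective.of_comp η[G].left G.hom
  haveI : QuasiCompact G.hom := inferInstance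
  haveI : QuasiSeparated G.hom := inferInstance
  have hGT1 : Flat (Red.bc tc G).hom := MorphismProperty.pullback_snd (P := @Flat) _ _ ‹_›
  have hGT2 : Surjective (Red.bc tc G).hom :=
    MorphismProperty.pullback_snd (P := @Surjective) _ _ hGs
  have hGT3 : LocallyOfFinitePresentation (Red.bc tc G).hom :=
    MorphismProperty.pullback_snd (P := @LocallyOfFinitePresentation) _ _ ‹_›
  -- properties of `V`
  have hV1 : Flat V.hom :=
    torsor_prop a @Flat Groth.Agent.Lib.Helper12.descendsAlong_flat hV hGT1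
  have hV2 : Surjective V.hom := torsor_prop a @Surjective inferInstance hV hGT2
  haveI hV3 : LocallyOfFinitePresentation V.hom :=
    torsor_prop a @LocallyOfFinitePresentation inferInstance hV hGT3
  haveI : QuasiCompact V.hom := inferInstance
  haveI : QuasiSeparated V.hom := inferInstance
  -- descend `V` to a stage where it is finite
  obtain ⟨k₀, Y₀, h1, h2, h3, ⟨e₀⟩⟩ := exists_bc_iso D c hc V
  haveI := h1
  haveI := h2
  haveI := h3
  have hfin₀ : IsFinite (Red.bc (c.π.app k₀) Y₀).hom := prop_of_iso @IsFinite e₀.symm ‹_›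
  obtain ⟨j, p, hfinj⟩ := finite_descends D c hc k₀ Y₀ hfin₀
  obtain ⟨Yj, hYj⟩ : ∃ Yj : Over (D.obj j), Yj = Red.bc (D.map p) Y₀ := ⟨_, rfl⟩
  obtain ⟨e₁, -⟩ : ∃ e₁ : V ≅ Red.bc (c.π.app j) Yj, e₁ = e₁ := by
    rw [hYj]
    exact ⟨e₀ ≪≫ (ActBC.bcCompIso (c.π.app j) (D.map p) Y₀ (c.w p)).symm, rfl⟩
  haveI : LocallyOfFinitePresentation Yj.hom := by
    rw [hYj]; exact locallyOfFinitePresentation_bc _ _
  haveI : QuasiCompact Yj.hom := by rw [hYj]; exact quasiCompact_bc _ _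
  haveI : QuasiSeparated Yj.hom := by rw [hYj]; exact quasiSeparated_bc _ _
  have hfinYj : IsFinite Yj.hom := by rw [hYj]; exact hfinj
  -- the group at the stage `j`
  haveI : LocallyOfFinitePresentation (Red.bc (t j) G).hom := locallyOfFinitePresentation_bc _ _
  haveI : QuasiCompact (Red.bc (t j) G).hom := quasiCompact_bc _ _
  haveI : QuasiSeparated (Red.bc (t j) G).hom := quasiSeparated_bc _ _
  -- the action at the limit
  have hact' : IsAct (((ActBC.bcCompIso (c.π.app j) (t j) G (htc j)).hom ⊗ₘ e₁.symm.hom) ≫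
      a.act ≫ e₁.symm.inv) := (isAct_of_action a).conj _ _
  obtain ⟨k, g, b, hb⟩ := exists_action_stage D c hc j (Red.bc (t j) G) Yj hact'.toAction
  have hb' : (b.bc (c.π.app k)).act =
      ((ActBC.bcCompIso (c.π.app k) (D.map g) (Red.bc (t j) G) (c.w g)).hom ⊗ₘ
          (ActBC.bcCompIso (c.π.app k) (D.map g) Yj (c.w g)).hom) ≫
        (((ActBC.bcCompIso (c.π.app j) (t j) G (htc j)).hom ⊗ₘ e₁.symm.hom) ≫
          a.act ≫ e₁.symm.inv) ≫
        (ActBC.bcCompIso (c.π.app k) (D.map g) Yj (c.w g)).inv := hb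
  -- finiteness at the stage `k`
  haveI : LocallyOfFinitePresentation (Red.bc (D.map g) (Red.bc (t j) G)).hom :=
    locallyOfFinitePresentation_bc _ _
  haveI : QuasiCompact (Red.bc (D.map g) (Red.bc (t j) G)).hom := quasiCompact_bc _ _
  haveI : QuasiSeparated (Red.bc (D.map g) (Red.bc (t j) G)).hom := quasiSeparated_bc _ _
  haveI : LocallyOfFinitePresentation (Red.bc (D.map g) Yj).hom :=
    locallyOfFinitePresentation_bc _ _
  haveI : QuasiCompact (Red.bc (D.map g) Yj).hom := quasiCompact_bc _ _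
  haveI : QuasiSeparated (Red.bc (D.map g) Yj).hom := quasiSeparated_bc _ _
  -- the torsor at the limit
  obtain ⟨ψ, hψ⟩ : ∃ ψ : Red.bc (c.π.app k) (Red.bc (D.map g) Yj) ≅ V,
      ψ = ActBC.bcCompIso (c.π.app k) (D.map g) Yj (c.w g) ≪≫ e₁.symm := ⟨_, rfl⟩
  have hshear : IsIso (lift (b.bc (c.π.app k)).act
      (snd (Red.bc (c.π.app k) (Red.bc (D.map g) (Red.bc (t j) G)))
        (Red.bc (c.π.app k) (Red.bc (D.map g) Yj)))) := by
    rw [hb']
    exact isIso_shear_conj _ _ _ (isIso_shear_conj _ _ _ hV.1)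
  have h6 := (torsor_iff D c hc k (Red.bc (D.map g) (Red.bc (t j) G)) (Red.bc (D.map g) Yj)
    b).1 ⟨hshear, _, _, 𝟙 _, Category.id_comp _, prop_of_iso @Flat ψ hV1,
      prop_of_iso @Surjective ψ hV2, prop_of_iso @LocallyOfFinitePresentation ψ hV3,
      prop_of_iso @QuasiCompact ψ ‹_›, prop_of_iso @QuasiSeparated ψ ‹_›⟩
  obtain ⟨i, f', hiso, Z, v, w, hw, hv1, hv2, hv3, hv4, hv5⟩ := h6
  have hiso' : NonAbH1.IsPseudoTorsorSch (b.bc (D.map f')) := hiso
  -- the group isomorphism at the stage `i`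
  obtain ⟨ω, hω⟩ : ∃ ω : Red.bc (t i) G ⟶ Red.bc (D.map f') (Red.bc (D.map g) (Red.bc (t j) G)),
      ω = (ActBC.bcCompIso (D.map f') (t k) G (ht f')).inv ≫
        (Over.pullback (D.map f')).map (ActBC.bcCompIso (D.map g) (t j) G (ht g)).inv :=
    ⟨_, rfl⟩
  haveI : IsMonHom ω := by rw [hω]; infer_instance
  haveI : IsIso ω := by rw [hω]; infer_instance
  refine ⟨i, Red.bc (D.map f') (Red.bc (D.map g) Yj), (b.bc (D.map f')).restrict ω, ?_, ?_, ?_⟩
  · exact MorphismProperty.pullback_snd (P := @IsFinite) _ _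
      (MorphismProperty.pullback_snd (P := @IsFinite) _ _ hfinYj)
  · exact isTorsorFor_of_cover _ (isPseudoTorsorSch_restrict _ ω hiso') v w hw hv1 hv2 hv4
  · rw [AlgGrp.Action.bc_restrict]
    have E1 := ActBC.equivIsoBcComp (c.π.app i) (D.map f') (c.w f') b
    have hcoc := bcCompIso_cocycle (D.map g) (D.map f') (c.π.app i) (t j) (t k) (t i) tc
      (c.π.app k) (c.π.app j) (ht g) (ht f') (htc i) (c.w f') (c.w g) (htc j) G
    rw [← hω] at hcoc
    refine ⟨⟨E1.iso ≪≫ ψ, ?_⟩⟩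
    have hE1 := E1.comm
    rw [AlgGrp.Action.restrict_act] at hE1 ⊢
    rw [AlgGrp.Action.restrict_act]
    simp only [Iso.trans_hom, Category.assoc]
    rw [reassoc_of% hE1, hb', hψ]
    simp only [Iso.trans_hom, Iso.symm_hom, Iso.symm_inv, Category.assoc, Iso.inv_hom_id_assoc,
      Iso.hom_inv_id, Category.comp_id]
    simp only [← Category.assoc]
    congr 1
    simp only [Category.assoc]
    rw [← hcoc]
    apply CartesianMonoidalCategory.hom_ext
    · simp
    · simp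

end Main

end Groth.Agent.Lib.T2H7.ActLimB
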