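import Mathlib
import Groth.Prelude.Def_ActBC
import Groth.Agent.Lib.T2H7ActLimB

/-!
# A finite fpqc torsor over a limit of schemes affine over a quasi-compact quasi-separated scheme
over a field comes from a stage (helper7)
-/

set_option autoImplicit false
set_option linter.unusedSectionVars false
set_option linter.unusedVariables false
set_option linter.style.haveILetI false
universe u
open CategoryTheory CategoryTheory.Limits AlgebraicGeometry MonoidalCategory
  CartesianMonoidalCategory MonObj

namespace Groth.Agent.Lib.T2H7.ActLimC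

open Groth.Agent.Lib.T2H7.ActLimB

theorem finite_torsor_stage (k : Type u) [Field k]
    (X : Scheme.{u}) [X.Over (Spec (CommRingCat.of k))] [CompactSpace X] [QuasiSeparatedSpace X]
    {I : Type u} [SmallCategory I] [IsCofiltered I]
    (DT : I ⥤ Over X) [∀ i, IsAffineHom (DT.obj i).hom]
    (cT : Cone DT) (hcT : IsLimit cT)
    (G : Over (Spec (CommRingCat.of k))) [GrpObj G] [IsFinite G.hom]
    (V : Over cT.pt.left) [IsFinite V.hom]
    (a : AlgGrp.Action (Red.bc (cT.pt.hom ≫ (X ↘ Spec (CommRingCat.of k))) G) V)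
    (hV : NonAbH1.IsTorsorFor Scheme.fpqcPrecoverage a) :
    ∃ (i : I) (h : (cT.π.app i).left ≫ ((DT.obj i).hom ≫ (X ↘ Spec (CommRingCat.of k))) = cT.pt.hom ≫ (X ↘ Spec (CommRingCat.of k)))
      (Vi : Over (DT.obj i).left) (ai : AlgGrp.Action (Red.bc ((DT.obj i).hom ≫ (X ↘ Spec (CommRingCat.of k))) G) Vi),
      IsFinite Vi.hom ∧ NonAbH1.IsTorsorFor Scheme.fpqcPrecoverage ai ∧
      Nonempty (NonAbH1.EquivIso (ai.bc (cT.π.app i).left)
        (a.restrict (ActBC.bcCompIso (cT.π.app i).left ((DT.obj i).hom ≫ (X ↘ Spec (CommRingCat.of k))) G h).hom)) := by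
  haveI : IsConnected I := IsCofiltered.isConnected I
  have hc : IsLimit ((Over.forget X).mapCone cT) := isLimitOfPreserves (Over.forget X) hcT
  haveI : ∀ (i i' : I) (f : i ⟶ i'), IsAffineHom ((DT ⋙ Over.forget X).map f) := by
    intro i i' f
    have h1 : IsAffineHom ((DT.map f).left ≫ (DT.obj i').hom) := by
      rw [Over.w]; infer_instance
    exact IsAffineHom.of_comp (DT.map f).left (DT.obj i').hom
  have haff : ∀ i, @IsAffineHom (DT.obj i).left X (DT.obj i).hom :=
    fun i => ‹∀ i, IsAffineHom (DT.obj i).hom› i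
  haveI : ∀ i, CompactSpace ((DT ⋙ Over.forget X).obj i) := fun i =>
    haveI := haff i
    @QuasiCompact.compactSpace_of_compactSpace (DT.obj i).left X (DT.obj i).hom inferInstance
      inferInstance
  haveI : ∀ i, QuasiSeparatedSpace ((DT ⋙ Over.forget X).obj i) := fun i =>
    haveI := haff i
    @quasiSeparatedSpace_of_quasiSeparated (DT.obj i).left X (DT.obj i).hom inferInstance
      inferInstance
  haveI : Flat G.hom := inferInstance
  haveI : LocallyOfFinitePresentation G.hom := inferInstance
  obtain ⟨i, Vi, ai, h1, h2, ⟨e⟩⟩ := finite_torsor_descends G (DT ⋙ Over.forget X)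
    ((Over.forget X).mapCone cT) hc (fun i => (DT.obj i).hom ≫ (X ↘ Spec (CommRingCat.of k)))
    (fun {i j} f => by
      have h := Over.w (DT.map f)
      simp only [Functor.comp_map, Over.forget_map]
      rw [← Category.assoc]
      exact congrArg (· ≫ (X ↘ Spec (CommRingCat.of k))) h)
    (cT.pt.hom ≫ (X ↘ Spec (CommRingCat.of k)))
    (fun i => by
      have h := Over.w (cT.π.app i)
      simp only [Functor.mapCone_π_app, Over.forget_map]
      rw [← Category.assoc]
      exact congrArg (· ≫ (X ↘ Spec (CommRingCat.of k))) h)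
    V ‹IsFinite V.hom› a hV
  exact ⟨i, _, Vi, ai, h1, h2, ⟨e⟩⟩

end Groth.Agent.Lib.T2H7.ActLimC
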