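import Groth.Agent.Lib.Helper12QuotGrp
import Groth.Agent.Lib.Helper6LfpComp
import Groth.Agent.Lib.Helper12Act

/-!
# Descent of an action to the quotient by its kernel (helper7)
-/

set_option autoImplicit false
set_option linter.unusedSectionVars false
set_option linter.unusedVariables false
set_option linter.style.haveILetI false
universe u
open CategoryTheory CategoryTheory.Limits MonoidalCategory CartesianMonoidalCategory MonObj GrpObj
  AlgebraicGeometry

namespace Groth.Agent.Lib.T2H7.ActQuot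

open Groth.Agent.Lib.Helper12 Groth.Agent.Lib.Helper12.QuotGrp

section KernelPair

variable {S : Scheme.{u}} {N G Q : Over S} [GrpObj N] [GrpObj G] [GrpObj Q]

/-- the kernel pair of a homomorphism with kernel `N` is `G × N`. -/
theorem isPullback_act_of_isKernel (n : N ⟶ G) (π : G ⟶ Q) [IsMonHom π]
    (hker : AlgGrp.IsKernel n π) :
    IsPullback ((G ◁ n) ≫ μ[G]) (fst G N) π π := by
  have hnπ : n ≫ π = toUnit N ≫ η[Q] := hker.w
  have hw : ((G ◁ n) ≫ μ[G]) ≫ π = fst G N ≫ π := by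
    have h1 : (G ◁ n) ≫ μ[G] = fst G N * (snd G N ≫ n) := act_eq n
    rw [h1, MonObj.mul_comp, Category.assoc, hnπ, ← Category.assoc]
    have h2 : (snd G N ≫ toUnit N) ≫ η[Q] = (1 : G ⊗ N ⟶ Q) := by
      rw [MonObj.one_eq_one, MonObj.comp_one]
    rw [h2, _root_.mul_one]
  -- the lift
  have key : ∀ {T : Over S} (g₁ g₂ : T ⟶ G), g₁ ≫ π = g₂ ≫ π →
      ∃ m : T ⟶ N, m ≫ n = g₂⁻¹ * g₁ := by
    intro T g₁ g₂ h
    have hd : (g₂⁻¹ * g₁) ≫ π = toUnit T ≫ η[Q] := by
      rw [MonObj.mul_comp, GrpObj.inv_comp, h, inv_mul_cancel, MonObj.one_eq_one,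
        MonObj.comp_one]
    exact ⟨hker.lift (g₂⁻¹ * g₁) (toUnit T) hd, hker.lift_fst _ _ _⟩
  refine ⟨⟨hw⟩, ⟨PullbackCone.IsLimit.mk _
    (fun s => lift s.snd (key s.fst s.snd s.condition).choose) (fun s => ?_) (fun s => ?_)
    (fun s m h1 h2 => ?_)⟩⟩
  · rw [lift_act, (key s.fst s.snd s.condition).choose_spec, ← _root_.mul_assoc, mul_inv_cancel,
      _root_.one_mul]
  · rw [lift_fst]
  · have hm : m = lift (m ≫ fst G N) (m ≫ snd G N) := by
      ext <;> simp
    have h3 : (m ≫ snd G N) ≫ n = s.snd⁻¹ * s.fst := by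
      have h4 : lift (m ≫ fst G N) (m ≫ snd G N) ≫ (G ◁ n) ≫ μ[G] = s.fst := by
        rw [← hm]; exact h1
      rw [lift_act, h2] at h4
      rw [← h4, ← _root_.mul_assoc, inv_mul_cancel, _root_.one_mul]
    have h5 : m ≫ snd G N = (key s.fst s.snd s.condition).choose := by
      apply hker.hom_ext
      · rw [h3, (key s.fst s.snd s.condition).choose_spec]
      · exact toUnit_unique _ _
    rw [hm, h5, h2]

end KernelPair

section Descent

variable {S : Scheme.{u}} {N G Q X : Over S} [GrpObj N] [GrpObj G] [GrpObj Q]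
  (n : N ⟶ G) (π : G ⟶ Q) [IsMonHom π]
  (a : AlgGrp.Action G X)

/-- the action morphism descends to the quotient. -/
theorem exists_act_desc (hker : AlgGrp.IsKernel n π) (hc : IsCov π)
    (hN : ∀ (T : Over S) (m : T ⟶ N) (x : T ⟶ X), lift (m ≫ n) x ≫ a.act = x) :
    ∃ b : Q ⊗ X ⟶ X, (π ▷ X) ≫ b = a.act := by
  have hsq := isPullback_act_of_isKernel n π hker
  have := (hc.whiskerRight X).effectiveEpi
  refine exists_desc_of_isPullback (π ▷ X) (isPullback_whiskerRight_of_isPullback X hsq) a.act ?_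
  -- invariance, on the universal point
  let P : Over S := (G ⊗ N) ⊗ X
  let g : P ⟶ G := fst (G ⊗ N) X ≫ fst G N
  let m : P ⟶ N := fst (G ⊗ N) X ≫ snd G N
  let x : P ⟶ X := snd (G ⊗ N) X
  have h1 : (((G ◁ n) ≫ μ[G]) ▷ X) = lift (g * (m ≫ n)) x := by
    apply CartesianMonoidalCategory.hom_ext
    · rw [whiskerRight_fst, lift_fst]
      have h0 : (G ◁ n) ≫ μ[G] = fst G N * (snd G N ≫ n) := act_eq n
      rw [h0, MonObj.comp_mul]
      rfl
    · rw [whiskerRight_snd, lift_snd]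
  have h2 : (fst G N ▷ X) = lift g x := by
    apply CartesianMonoidalCategory.hom_ext
    · rw [whiskerRight_fst, lift_fst]
    · rw [whiskerRight_snd, lift_snd]
  rw [h1, h2, act_mul, hN]

variable {π}

theorem lift_comp_act {b : Q ⊗ X ⟶ X} (hb : (π ▷ X) ≫ b = a.act) {T : Over S} (g : T ⟶ G)
    (x : T ⟶ X) : lift (g ≫ π) x ≫ b = lift g x ≫ a.act := by
  rw [← hb, ← Category.assoc]
  congr 1
  apply CartesianMonoidalCategory.hom_ext
  · simp
  · simp

/-- the descended morphism is an action. -/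
theorem one_act_desc {b : Q ⊗ X ⟶ X} (hb : (π ▷ X) ≫ b = a.act) :
    (η[Q] ▷ X) ≫ b = (λ_ X).hom := by
  have h1 : η[Q] = η[G] ≫ π := (IsMonHom.one_hom (f := π)).symm
  rw [h1, comp_whiskerRight, Category.assoc, hb, a.one_act]

theorem mul_act_desc (hc : IsCov π) {b : Q ⊗ X ⟶ X} (hb : (π ▷ X) ≫ b = a.act) :
    (μ[Q] ▷ X) ≫ b = (α_ Q Q X).hom ≫ (Q ◁ b) ≫ b := by
  haveI : Epi ((π ⊗ₘ π) ▷ X) := by
    rw [MonoidalCategory.tensorHom_def, comp_whiskerRight]
    have := ((hc.whiskerRight G).whiskerRight X).epi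
    have := ((hc.whiskerLeft Q).whiskerRight X).epi
    infer_instance
  rw [← cancel_epi ((π ⊗ₘ π) ▷ X)]
  let P : Over S := (G ⊗ G) ⊗ X
  let p₁ : P ⟶ G := fst (G ⊗ G) X ≫ fst G G
  let p₂ : P ⟶ G := fst (G ⊗ G) X ≫ snd G G
  let p₃ : P ⟶ X := snd (G ⊗ G) X
  have he : ((π ⊗ₘ π) ▷ X) = lift (lift (p₁ ≫ π) (p₂ ≫ π)) p₃ := by
    apply CartesianMonoidalCategory.hom_ext
    · rw [whiskerRight_fst, lift_fst]
      apply CartesianMonoidalCategory.hom_ext
      · simp [p₁]
      · simp [p₂]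
    · rw [whiskerRight_snd, lift_snd]
  have hL : lift (lift (p₁ ≫ π) (p₂ ≫ π)) p₃ ≫ (μ[Q] ▷ X) = lift ((p₁ * p₂) ≫ π) p₃ := by
    apply CartesianMonoidalCategory.hom_ext
    · rw [Category.assoc, whiskerRight_fst, lift_fst_assoc, lift_fst, MonObj.mul_comp]
      exact (Hom.mul_def _ _).symm
    · rw [Category.assoc, whiskerRight_snd, lift_snd, lift_snd]
  have hR : lift (lift (p₁ ≫ π) (p₂ ≫ π)) p₃ ≫ (α_ Q Q X).hom ≫ (Q ◁ b) =
      lift (p₁ ≫ π) (lift (p₂ ≫ π) p₃ ≫ b) := by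
    apply CartesianMonoidalCategory.hom_ext
    · simp
    · simp
  rw [he, ← Category.assoc, hL, lift_comp_act a hb, act_mul]
  rw [← Category.assoc, ← Category.assoc, Category.assoc (lift (lift (p₁ ≫ π) (p₂ ≫ π)) p₃), hR,
    lift_comp_act a hb, lift_comp_act a hb]

end Descent

section Faithful

variable {S : Scheme.{u}} {N G Q X : Over S} [GrpObj N] [GrpObj G] [GrpObj Q]
  (n : N ⟶ G) (π : G ⟶ Q) [IsMonHom π] (a : AlgGrp.Action G X)

/-- the descended action is faithful when `N` is the whole kernel of the action. -/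
theorem faithful_desc [Flat π.left] [Surjective π.left] (hker : AlgGrp.IsKernel n π)
    (hN : ∀ (T : Over S) (g : T ⟶ G), (∃ m : T ⟶ N, m ≫ n = g) ↔
      ∀ (T' : Over S) (s : T' ⟶ T) (x : T' ⟶ X), lift (s ≫ g) x ≫ a.act = x)
    {b : Q ⊗ X ⟶ X} (hb : (π ▷ X) ≫ b = a.act) {T : Over S} (q : T ⟶ Q)
    (hq : ∀ (T' : Over S) (s : T' ⟶ T) (x : T' ⟶ X), lift (s ≫ q) x ≫ b = x) : q = 1 := by
  have hpb : IsPullback (pullback.fst π q) (pullback.snd π q) π q := IsPullback.of_hasPullback π q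
  have hpbL := hpb.map (Over.forget S)
  haveI : Flat (pullback.snd π q).left :=
    MorphismProperty.of_isPullback (P := @Flat) hpbL ‹_›
  haveI : Surjective (pullback.snd π q).left :=
    MorphismProperty.of_isPullback (P := @Surjective) hpbL ‹_›
  haveI : Epi (pullback.snd π q) := epi_of_flat_of_surjective_left _
  obtain ⟨m, hm⟩ := (hN _ (pullback.fst π q)).2 (by
    intro T' s x
    rw [← lift_comp_act a hb, Category.assoc, pullback.condition, ← Category.assoc]
    exact hq T' _ x)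
  rw [← cancel_epi (pullback.snd π q), ← pullback.condition, ← hm, Category.assoc, hker.w,
    MonObj.comp_one, ← Category.assoc, MonObj.one_eq_one, MonObj.comp_one]

theorem graph_comp {b : Q ⊗ X ⟶ X} (hb : (π ▷ X) ≫ b = a.act) :
    lift (snd G X) a.act = (π ▷ X) ≫ lift (snd Q X) b := by
  apply CartesianMonoidalCategory.hom_ext
  · rw [lift_fst, Category.assoc, lift_fst, whiskerRight_snd]
  · rw [lift_snd, Category.assoc, lift_snd, hb]

end Faithful

end Groth.Agent.Lib.T2H7.ActQuot
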