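import Mathlib
import Groth.Agent.S9904
import Groth.Agent.S9900

/-!
# Affine morphisms of algebraic spaces are separated (helper7)
-/

set_option autoImplicit false
set_option linter.unusedSectionVars false
set_option linter.unusedVariables false
set_option linter.style.haveILetI false
universe u
open CategoryTheory CategoryTheory.Limits AlgebraicGeometry
open AlgSp

namespace Groth.Agent.Lib.T2H7.AffSep

open Groth.Agent.S9900 Groth.Agent.S9904

variable {S : Scheme.{u}}

/-- the equalizer locus of two points of the source of an affine morphism with the same image,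
over an affine scheme, is closed. -/
theorem isClosedImmersion_eqLocus_of_affine {X Y : AlgSp.Sp S} (f : X ⟶ Y)
    (hf : AlgSp.IsAffineMor f) {T E : Over S} (hT : IsAffine T.left)
    (a b : (AlgSp.yon S).obj T ⟶ X) (e : E ⟶ T) (hab : a ≫ f = b ≫ f)
    (he : IsEqLocus a b e) : IsClosedImmersion e.left := by
  obtain ⟨W, i, fst, sq, hW⟩ := hf hT (a ≫ f)
  haveI := hW
  have hwa : a ≫ f = (AlgSp.yon S).map (𝟙 T) ≫ a ≫ f := by
    rw [CategoryTheory.Functor.map_id, Category.id_comp]
  have hwb : b ≫ f = (AlgSp.yon S).map (𝟙 T) ≫ a ≫ f := by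
    rw [CategoryTheory.Functor.map_id, Category.id_comp, hab]
  let a' : T ⟶ W := (AlgSp.yon S).preimage (sq.lift a ((AlgSp.yon S).map (𝟙 T)) hwa)
  let b' : T ⟶ W := (AlgSp.yon S).preimage (sq.lift b ((AlgSp.yon S).map (𝟙 T)) hwb)
  have ha'1 : (AlgSp.yon S).map a' ≫ fst = a := by
    rw [Functor.map_preimage, sq.lift_fst]
  have hb'1 : (AlgSp.yon S).map b' ≫ fst = b := by
    rw [Functor.map_preimage, sq.lift_fst]
  have ha'2 : a' ≫ i = 𝟙 T := by
    apply (AlgSp.yon S).map_injective
    rw [Functor.map_comp, Functor.map_preimage, sq.lift_snd]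
  have hb'2 : b' ≫ i = 𝟙 T := by
    apply (AlgSp.yon S).map_injective
    rw [Functor.map_comp, Functor.map_preimage, sq.lift_snd]
  haveI : IsSeparated W.hom := inferInstance
  have hcl : IsClosedImmersion (equalizer.ι a' b').left := inferInstance
  haveI : Mono e := he.1
  obtain ⟨j, hj⟩ := exists_iso_of_factor_iff e (equalizer.ι a' b') (fun T' t => by
    rw [← he.2]
    constructor
    · intro h
      have h2 : t ≫ a' = t ≫ b' := by
        apply (AlgSp.yon S).map_injective
        apply sq.hom_ext
        · rw [Functor.map_comp, Functor.map_comp, Category.assoc, Category.assoc, ha'1, hb'1, h]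
        · rw [← Functor.map_comp, ← Functor.map_comp, Category.assoc, Category.assoc, ha'2,
            hb'2]
      exact ⟨equalizer.lift t h2, equalizer.lift_ι _ _⟩
    · rintro ⟨t', rfl⟩
      rw [← ha'1, ← hb'1, ← Category.assoc, ← Category.assoc, ← Functor.map_comp,
        ← Functor.map_comp, Category.assoc, Category.assoc, equalizer.condition])
  rw [← hj, Over.comp_left]
  haveI : IsIso j.hom.left := inferInstanceAs (IsIso ((Over.forget S).map j.hom))
  infer_instance

/-- an affine morphism out of a sheaf with representable diagonal is separated. -/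
theorem isSeparatedMor_of_isAffineMor {X Y : AlgSp.Sp S}
    (hX : AlgSp.Representable (Limits.diag X)) (f : X ⟶ Y) (hf : AlgSp.IsAffineMor f) :
    AlgSp.IsSeparatedMor f := by
  refine repWith_diagonal_of_isEqLocus hX f @IsClosedImmersion (fun {T E} a b e hab he => ?_)
  apply IsZariskiLocalAtTarget.of_openCover (P := @IsClosedImmersion) T.left.affineCover
  intro i
  let Ti : Over S := Over.mk (T.left.affineCover.f i ≫ T.hom)
  let τ : Ti ⟶ T := Over.homMk (T.left.affineCover.f i) rfl
  have hTi : IsAffine Ti.left := inferInstanceAs (IsAffine (T.left.affineCover.X i))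
  have he2 := IsEqLocus.baseChange he τ
  have hP1 : IsClosedImmersion (pullback.snd e τ).left :=
    isClosedImmersion_eqLocus_of_affine f hf hTi _ _ (pullback.snd e τ)
      (by rw [Category.assoc, Category.assoc, hab]) he2
  have hsq : IsPullback (pullback.fst e τ).left (pullback.snd e τ).left e.left τ.left :=
    (IsPullback.of_hasPullback e τ).map (Over.forget S)
  have hsq' : IsPullback (pullback.fst e.left (T.left.affineCover.f i))
      (pullback.snd e.left (T.left.affineCover.f i)) e.left τ.left :=
    IsPullback.of_hasPullback _ _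
  have : pullback.snd e.left (T.left.affineCover.f i) =
      (hsq'.isoIsPullback _ _ hsq).hom ≫ (pullback.snd e τ).left :=
    (IsPullback.isoIsPullback_hom_snd _ _ hsq' hsq).symm
  change IsClosedImmersion (pullback.snd e.left (T.left.affineCover.f i))
  rw [this]
  infer_instance

end Groth.Agent.Lib.T2H7.AffSep
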