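import Mathlib
import Groth.Agent.Lib.T2H7AffSep
import Groth.Agent.S10180
import Groth.Agent.S10184
import Groth.Agent.S10185

/-!
# Affine morphisms of algebraic spaces: base change, and sources of affine morphisms into
quasi-compact / quasi-separated spaces (helper7)
-/

set_option autoImplicit false
set_option linter.unusedSectionVars false
set_option linter.unusedVariables false
set_option linter.style.haveILetI false
universe v u
open CategoryTheory CategoryTheory.Limits AlgebraicGeometry
open AlgSp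

namespace Groth.Agent.Lib.T2H7.AffQcqs

section generic

variable {C : Type u} [Category.{v} C] [HasPullbacks C]

/-- `U ×_A V = A ×_{A ×_B A} (U ×_B V)`. -/
theorem isPullback_diagonal_of_isPullback {A B U V P Q : C} {a : U ⟶ A} {b : V ⟶ A} {g : A ⟶ B}
    {p1 : P ⟶ U} {p2 : P ⟶ V} {q1 : Q ⟶ U} {q2 : Q ⟶ V} (sqP : IsPullback p1 p2 a b)
    (sqQ : IsPullback q1 q2 (a ≫ g) (b ≫ g)) (k : P ⟶ Q) (hk1 : k ≫ q1 = p1)
    (hk2 : k ≫ q2 = p2) :
    IsPullback (p1 ≫ a) k (pullback.diagonal g)
      (pullback.lift (q1 ≫ a) (q2 ≫ b) (by simpa only [Category.assoc] using sqQ.w)) := by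
  have w : (p1 ≫ a) ≫ pullback.diagonal g =
      k ≫ pullback.lift (q1 ≫ a) (q2 ≫ b) (by simpa only [Category.assoc] using sqQ.w) := by
    apply pullback.hom_ext
    · simp only [Category.assoc, pullback.diagonal_fst, pullback.lift_fst, Category.comp_id]
      rw [← Category.assoc, hk1]
    · simp only [Category.assoc, pullback.diagonal_snd, pullback.lift_snd, Category.comp_id]
      rw [← Category.assoc k, hk2, sqP.w]
  refine ⟨⟨w⟩, ⟨PullbackCone.IsLimit.mk _ (fun s => ?_) (fun s => ?_) (fun s => ?_)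
    (fun s m h1 h2 => ?_)⟩⟩
  · refine sqP.lift (s.snd ≫ q1) (s.snd ≫ q2) ?_
    have h := s.condition
    have h1 := congrArg (fun t => t ≫ pullback.fst g g) h
    have h2 := congrArg (fun t => t ≫ pullback.snd g g) h
    simp only [Category.assoc, pullback.diagonal_fst, pullback.diagonal_snd, pullback.lift_fst,
      pullback.lift_snd, Category.comp_id] at h1 h2
    exact ((Category.assoc _ _ _).trans (h1.symm.trans h2)).trans (Category.assoc _ _ _).symm
  · have h := s.condition
    have h1 := congrArg (fun t => t ≫ pullback.fst g g) h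
    simp only [Category.assoc, pullback.diagonal_fst, pullback.lift_fst,
      Category.comp_id] at h1
    exact ((Category.assoc _ _ _).symm.trans (by rw [sqP.lift_fst])).trans
      ((Category.assoc _ _ _).trans h1.symm)
  · apply sqQ.hom_ext
    · exact (Category.assoc _ _ _).trans (by rw [hk1, sqP.lift_fst])
    · exact (Category.assoc _ _ _).trans (by rw [hk2, sqP.lift_snd])
  · apply sqP.hom_ext
    · rw [sqP.lift_fst, ← h2]
      exact ((Category.assoc m k q1).trans (by rw [hk1])).symm
    · rw [sqP.lift_snd, ← h2]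
      exact ((Category.assoc m k q2).trans (by rw [hk2])).symm

end generic

variable {S : Scheme.{u}}

/-- affine morphisms are stable under base change. -/
theorem isAffineMor_of_isPullback {A B A' B' : AlgSp.Sp S} {f : A ⟶ B} {g : B' ⟶ B}
    {fst : A' ⟶ A} {f' : A' ⟶ B'} (sq : IsPullback fst f' f g) (hf : AlgSp.IsAffineMor f) :
    AlgSp.IsAffineMor f' := by
  intro Z hZ h
  obtain ⟨W, i, fstW, sqW, hW⟩ := hf hZ (h ≫ g)
  have hw : fstW ≫ f = ((AlgSp.yon S).map i ≫ h) ≫ g := by
    rw [Category.assoc]; exact sqW.w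
  refine ⟨W, i, sq.lift fstW ((AlgSp.yon S).map i ≫ h) hw, ?_, hW⟩
  refine IsPullback.of_right ?_ (sq.lift_snd _ _ _) sq
  rw [sq.lift_fst]
  exact sqW

/-- the source of an affine morphism into a quasi-compact algebraic space is quasi-compact. -/
theorem isQuasiCompactSp_of_isAffineMor (A B : AlgSp.Space S) (g : A.obj ⟶ B.obj)
    (hg : AlgSp.IsAffineMor g) (hB : AlgSp.IsQuasiCompactSp B.obj) :
    AlgSp.IsQuasiCompactSp A.obj := by
  obtain ⟨V, v, hV, hve, hvs⟩ := (Groth.Agent.S10180.result B).1 hB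
  obtain ⟨W, i, fstW, sqW, hW⟩ := hg hV v
  exact (Groth.Agent.S10180.result A).2 ⟨W, fstW, hW,
    MorphismProperty.of_isPullback (P := AlgSp.RepWith @Etale) sqW.flip hve,
    MorphismProperty.of_isPullback (P := AlgSp.RepWith @Surjective) sqW.flip hvs⟩

/-- the source of an affine morphism into a quasi-separated algebraic space is
quasi-separated. -/
theorem isQuasiSeparatedSp_of_isAffineMor [QuasiSeparatedSpace S] (A B : AlgSp.Space S)
    (g : A.obj ⟶ B.obj) (hg : AlgSp.IsAffineMor g) (hB : AlgSp.IsQuasiSeparatedSp B.obj) :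
    AlgSp.IsQuasiSeparatedSp A.obj := by
  apply Groth.Agent.S10184.result A
  intro U V P a b fst snd hU hV sqP
  haveI := hU
  haveI := hV
  have hrep : AlgSp.Representable (a ≫ g) := B.property.representable_from_yon _
  obtain ⟨Q, sndQ, fstQ', sqQ'⟩ := hrep (b ≫ g)
  let fstQ : Q ⟶ U := (AlgSp.yon S).preimage fstQ'
  have sqQ : IsPullback ((AlgSp.yon S).map fstQ) ((AlgSp.yon S).map sndQ) (a ≫ g) (b ≫ g) := by
    rw [Functor.map_preimage]; exact sqQ'
  haveI : CompactSpace Q.left :=
    Groth.Agent.S10185.result B hB U V Q (a ≫ g) (b ≫ g) fstQ sndQ sqQ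
  have hw : (AlgSp.yon S).map fst ≫ a ≫ g = (AlgSp.yon S).map snd ≫ b ≫ g := by
    rw [← Category.assoc, sqP.w, Category.assoc]
  let k : P ⟶ Q := (AlgSp.yon S).preimage (sqQ.lift _ _ hw)
  have hk : (AlgSp.yon S).map k = sqQ.lift _ _ hw := Functor.map_preimage _ _
  have sq := isPullback_diagonal_of_isPullback sqP sqQ ((AlgSp.yon S).map k)
    (by rw [hk]; exact sqQ.lift_fst _ _ _) (by rw [hk]; exact sqQ.lift_snd _ _ _)
  have hΔ : AlgSp.IsSeparatedMor g :=
    Groth.Agent.Lib.T2H7.AffSep.isSeparatedMor_of_isAffineMor A.property.diag g hg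
  have hcl : IsClosedImmersion k.left := hΔ.2 _ _ k sq
  exact (Scheme.Hom.isClosedEmbedding k.left).compactSpace

end Groth.Agent.Lib.T2H7.AffQcqs
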