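import Mathlib
import Groth.Agent.S3015
set_option autoImplicit false
set_option linter.unusedSectionVars false
set_option linter.unusedVariables false
set_option linter.style.haveILetI false
universe u v
open CategoryTheory MonoidalCategory CartesianMonoidalCategory MonObj GrpObj AlgebraicGeometry Limits

/-!
# Quasi-affine group schemes over a field are affine

`IsAffn b` : `b : Y ⟶ B` over `Spec k` with `B` affine and `Γ(B) ≅ Γ(Y)`.  Such maps are epi with respect
to affine targets, every map to an affine target extends along them, and (Künneth over a field) they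
are stable under `⊗ₘ` for qcqs sources.  Hence the group structure of `G` extends to its affine hull
`X = Spec Γ(G)`; if `G ⟶ X` is an open immersion, the density argument (`S3015`) gives `G = X`.
-/

namespace Groth.Agent.Lib.T2H7.Affn

/-! ### Scheme-level affinization maps -/

section Sch

variable {Y B : Scheme.{u}} (b : Y ⟶ B)

theorem appLE_top_top {X Z : Scheme.{u}} (f : X ⟶ Z) (e : (⊤ : X.Opens) ≤ f ⁻¹ᵁ ⊤) :
    f.appLE ⊤ ⊤ e = f.appTop :=
  Scheme.Hom.appLE_eq_app f

/-- If `b^* : Γ(B) → Γ(Y)` is an isomorphism, then `b` is an epimorphism with respect to affine targets. -/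
theorem epi_aff [IsIso b.appTop] {T : Scheme.{u}} [IsAffine T] (u v : B ⟶ T)
    (h : b ≫ u = b ≫ v) : u = v := by
  apply ext_of_isAffine
  have h2 := congrArg Scheme.Hom.appTop h
  rw [Scheme.Hom.comp_appTop, Scheme.Hom.comp_appTop] at h2
  exact (cancel_mono b.appTop).mp h2

/-- If `B` is affine and `b^* : Γ(B) → Γ(Y)` is an isomorphism, then every morphism from `Y` to an affine
scheme extends along `b`. -/
theorem ext_aff [IsAffine B] [IsIso b.appTop] {T : Scheme.{u}} [IsAffine T] (h : Y ⟶ T) :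
    ∃ h' : B ⟶ T, b ≫ h' = h := by
  refine ⟨B.isoSpec.hom ≫ Spec.map (h.appTop ≫ inv b.appTop) ≫ T.isoSpec.inv, ?_⟩
  rw [Scheme.isoSpec_hom, ← Category.assoc, Scheme.toSpecΓ_naturality, Category.assoc,
    ← Category.assoc (Spec.map _), ← Spec.map_comp, Category.assoc, IsIso.inv_hom_id,
    Category.comp_id, ← Category.assoc, ← Scheme.toSpecΓ_naturality, Category.assoc,
    ← Scheme.isoSpec_hom, Iso.hom_inv_id, Category.comp_id]

end Sch

/-- A morphism between pushout squares which is an isomorphism on the three span corners is an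
isomorphism on the pushout corner. -/
theorem isIso_of_isPushout_map {C : Type u} [Category.{v} C]
    {Z X Y P Z' X' Y' P' : C} {f : Z ⟶ X} {g : Z ⟶ Y} {inl : X ⟶ P} {inr : Y ⟶ P}
    {f' : Z' ⟶ X'} {g' : Z' ⟶ Y'} {inl' : X' ⟶ P'} {inr' : Y' ⟶ P'}
    (h : IsPushout f g inl inr) (h' : IsPushout f' g' inl' inr')
    (e₁ : Z ≅ Z') (e₂ : X ≅ X') (e₃ : Y ≅ Y') (φ : P ⟶ P')
    (commf : f ≫ e₂.hom = e₁.hom ≫ f') (commg : g ≫ e₃.hom = e₁.hom ≫ g')
    (comminl : inl ≫ φ = e₂.hom ≫ inl') (comminr : inr ≫ φ = e₃.hom ≫ inr') : IsIso φ := by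
  have h2 : IsPushout f' g' (e₂.inv ≫ inl) (e₃.inv ≫ inr) :=
    h.of_iso e₁ e₂ e₃ (Iso.refl P) commf commg (by simp) (by simp)
  have : φ = (h2.isoIsPushout _ _ h').hom := by
    apply h.hom_ext
    · rw [comminl, ← cancel_epi e₂.inv, Iso.inv_hom_id_assoc, ← Category.assoc,
        IsPushout.inl_isoIsPushout_hom]
    · rw [comminr, ← cancel_epi e₃.inv, Iso.inv_hom_id_assoc, ← Category.assoc,
        IsPushout.inr_isoIsPushout_hom]
  rw [this]; infer_instance

section Kun

variable {k : Type u} [Field k]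

theorem isField_Γ_Spec (k : Type u) [Field k] : IsField Γ(Spec (CommRingCat.of k), ⊤) :=
  MulEquiv.isField (Field.toIsField k)
    (Scheme.ΓSpecIso (CommRingCat.of k)).commRingCatIsoToRingEquiv.toMulEquiv

/-- Künneth over a field for global sections of qcqs schemes. -/
theorem isPushout_appTop {X T P : Scheme.{u}} {iX : X ⟶ Spec (CommRingCat.of k)}
    {f : T ⟶ Spec (CommRingCat.of k)} {g : P ⟶ X} {iY : P ⟶ T}
    (H : IsPullback g iY iX f)
    [CompactSpace X] [QuasiSeparatedSpace X] [CompactSpace T] [QuasiSeparatedSpace T] :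
    IsPushout iX.appTop f.appTop g.appTop iY.appTop := by
  have h1 : IsIso (pushoutSection H (US := ⊤) (UT := ⊤) (UX := ⊤) (UY := ⊤) le_top le_top
      (by simp)) := by
    refine isIso_pushoutSection_of_isCompact_of_flat_right_of_ringHomFlat H _ _ _
      (isAffineOpen_top _) ?_ ?_ ?_ ?_ ?_
    · exact isCompact_univ
    · exact isQuasiSeparated_univ
    · exact isCompact_univ
    · exact isQuasiSeparated_univ
    · rw [appLE_top_top]
      exact RingHom.Flat.of_isField (isField_Γ_Spec k) _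
  have h2 := (isIso_pushoutSection_iff H (US := ⊤) (UT := ⊤) (UX := ⊤) (UY := ⊤) le_top le_top
      (by simp)).mp h1
  simpa only [appLE_top_top] using h2


/-- A morphism `b : Y ⟶ B` over `Spec k` is an *affinization map* if `B` is affine and `b` induces an
isomorphism on global sections. -/
def IsAffn {Y B : Over (Spec (CommRingCat.of k))} (b : Y ⟶ B) : Prop :=
  IsAffine B.left ∧ IsIso b.left.appTop

variable {Y B Y' B' : Over (Spec (CommRingCat.of k))} {b : Y ⟶ B} {b' : Y' ⟶ B'}

theorem IsAffn.epi (hb : IsAffn b) {T : Over (Spec (CommRingCat.of k))} [IsAffine T.left]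
    (u v : B ⟶ T) (h : b ≫ u = b ≫ v) : u = v := by
  haveI := hb.2
  apply Over.OverMorphism.ext
  apply epi_aff b.left
  have := congrArg CommaMorphism.left h
  simpa using this

theorem IsAffn.ext (hb : IsAffn b) {T : Over (Spec (CommRingCat.of k))} [IsAffine T.left]
    (h : Y ⟶ T) : ∃ h' : B ⟶ T, b ≫ h' = h := by
  haveI := hb.1
  haveI := hb.2
  obtain ⟨h', hh'⟩ := ext_aff b.left h.left
  refine ⟨Over.homMk h' ?_, ?_⟩
  · apply epi_aff b.left
    rw [← Category.assoc, hh', Over.w h, Over.w b]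
  · apply Over.OverMorphism.ext
    simpa using hh'

theorem IsAffn.id (B : Over (Spec (CommRingCat.of k))) [IsAffine B.left] : IsAffn (𝟙 B) := by
  refine ⟨inferInstance, ?_⟩
  rw [Over.id_left, Scheme.Hom.id_appTop]
  infer_instance

theorem IsAffn.tensor (hb : IsAffn b) (hb' : IsAffn b')
    [CompactSpace Y.left] [QuasiSeparatedSpace Y.left]
    [CompactSpace Y'.left] [QuasiSeparatedSpace Y'.left] : IsAffn (b ⊗ₘ b') := by
  haveI := hb.1
  haveI := hb.2
  haveI := hb'.1
  haveI := hb'.2
  refine ⟨?_, ?_⟩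
  · rw [Over.tensorObj_left]; infer_instance
  · have H1 : IsPullback (fst Y Y').left (snd Y Y').left Y.hom Y'.hom :=
      IsPullback.of_hasPullback Y.hom Y'.hom
    have H2 : IsPullback (fst B B').left (snd B B').left B.hom B'.hom :=
      IsPullback.of_hasPullback B.hom B'.hom
    have P1 := isPushout_appTop H1
    have P2 := isPushout_appTop H2
    refine isIso_of_isPushout_map P2 P1 (Iso.refl _) (asIso b.left.appTop) (asIso b'.left.appTop)
      _ ?_ ?_ ?_ ?_
    · rw [asIso_hom, Iso.refl_hom, Category.id_comp, ← Scheme.Hom.comp_appTop, Over.w b]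
    · rw [asIso_hom, Iso.refl_hom, Category.id_comp, ← Scheme.Hom.comp_appTop, Over.w b']
    · rw [asIso_hom, ← Scheme.Hom.comp_appTop, ← Scheme.Hom.comp_appTop, ← Over.comp_left,
        ← Over.comp_left, tensorHom_fst]
    · rw [asIso_hom, ← Scheme.Hom.comp_appTop, ← Scheme.Hom.comp_appTop, ← Over.comp_left,
        ← Over.comp_left, tensorHom_snd]

end Kun

section Abs

variable {C : Type u} [Category.{v} C] [CartesianMonoidalCategory C]

theorem tensorHom_comp_whiskerRight' {A B A' B' A'' : C} (f : A ⟶ A') (g : B ⟶ B') (h : A' ⟶ A'') :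
    (f ⊗ₘ g) ≫ (h ▷ B') = (f ≫ h) ⊗ₘ g := by
  rw [← tensorHom_id, tensorHom_comp_tensorHom, Category.comp_id]

theorem tensorHom_comp_whiskerLeft' {A B A' B' B'' : C} (f : A ⟶ A') (g : B ⟶ B') (h : B' ⟶ B'') :
    (f ⊗ₘ g) ≫ (A' ◁ h) = f ⊗ₘ (g ≫ h) := by
  rw [← id_tensorHom, tensorHom_comp_tensorHom, Category.comp_id]

theorem whiskerRight_comp_tensorHom' {A B A' B' A'' : C} (f : A ⟶ A') (h : A' ⟶ A'') (g : B ⟶ B') :
    (f ▷ B) ≫ (h ⊗ₘ g) = (f ≫ h) ⊗ₘ g := by
  rw [← tensorHom_id, tensorHom_comp_tensorHom, Category.id_comp]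

theorem whiskerLeft_comp_tensorHom' {A B A' B' B'' : C} (f : A ⟶ A') (g : B ⟶ B') (h : B' ⟶ B'') :
    (A ◁ g) ≫ (f ⊗ₘ h) = f ⊗ₘ (g ≫ h) := by
  rw [← id_tensorHom, tensorHom_comp_tensorHom, Category.id_comp]

/-- Abstract transport of a group structure along a morphism `a : G ⟶ X` which is "epi with respect to
`X`" on the relevant tensor powers and along which inversion and multiplication extend. -/
theorem exists_grpObj_of_ext {G X : C} [GrpObj G] (a : G ⟶ X)
    (E1 : ∀ u v : X ⟶ X, a ≫ u = a ≫ v → u = v)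
    (E2 : ∀ u v : X ⊗ X ⟶ X, (a ⊗ₘ a) ≫ u = (a ⊗ₘ a) ≫ v → u = v)
    (E3 : ∀ u v : (X ⊗ X) ⊗ X ⟶ X, ((a ⊗ₘ a) ⊗ₘ a) ≫ u = ((a ⊗ₘ a) ⊗ₘ a) ≫ v → u = v)
    (E0l : ∀ u v : 𝟙_ C ⊗ X ⟶ X, (𝟙_ C ◁ a) ≫ u = (𝟙_ C ◁ a) ≫ v → u = v)
    (E0r : ∀ u v : X ⊗ 𝟙_ C ⟶ X, (a ▷ 𝟙_ C) ≫ u = (a ▷ 𝟙_ C) ≫ v → u = v)
    (X1 : ∃ i : X ⟶ X, a ≫ i = ι[G] ≫ a)
    (X2 : ∃ m : X ⊗ X ⟶ X, (a ⊗ₘ a) ≫ m = μ[G] ≫ a) :
    ∃ (_ : GrpObj X), IsMonHom a := by
  obtain ⟨i, hi⟩ := X1
  obtain ⟨m, hm⟩ := X2
  have one_mul' : ((η[G] ≫ a) ▷ X) ≫ m = (λ_ X).hom := by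
    apply E0l
    rw [← Category.assoc, ← id_tensorHom, tensorHom_comp_whiskerRight', Category.id_comp,
      ← whiskerRight_comp_tensorHom', Category.assoc, hm, MonObj.one_mul_assoc,
      id_tensorHom, leftUnitor_naturality]
  have mul_one' : (X ◁ (η[G] ≫ a)) ≫ m = (ρ_ X).hom := by
    apply E0r
    rw [← Category.assoc, ← tensorHom_id, tensorHom_comp_whiskerLeft', Category.id_comp,
      ← whiskerLeft_comp_tensorHom', Category.assoc, hm, MonObj.mul_one_assoc,
      tensorHom_id, rightUnitor_naturality]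
  have mul_assoc' : (m ▷ X) ≫ m = (α_ X X X).hom ≫ (X ◁ m) ≫ m := by
    apply E3
    rw [← Category.assoc, tensorHom_comp_whiskerRight', hm, ← whiskerRight_comp_tensorHom',
      Category.assoc, hm, MonObj.mul_assoc_assoc, associator_naturality_assoc,
      ← Category.assoc (a ⊗ₘ a ⊗ₘ a), tensorHom_comp_whiskerLeft', hm,
      ← whiskerLeft_comp_tensorHom', Category.assoc, hm]
  have left_inv' : lift i (𝟙 X) ≫ m = toUnit X ≫ η[G] ≫ a := by
    apply E1
    have h1 : lift (ι[G] ≫ a) a = lift ι[G] (𝟙 G) ≫ (a ⊗ₘ a) := by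
      rw [lift_map, Category.id_comp]
    rw [← Category.assoc, comp_lift, hi, Category.comp_id, h1,
      Category.assoc, hm, GrpObj.left_inv_assoc, ← Category.assoc a,
      toUnit_unique (a ≫ toUnit X) (toUnit G)]
  have right_inv' : lift (𝟙 X) i ≫ m = toUnit X ≫ η[G] ≫ a := by
    apply E1
    have h1 : lift a (ι[G] ≫ a) = lift (𝟙 G) ι[G] ≫ (a ⊗ₘ a) := by
      rw [lift_map, Category.id_comp]
    rw [← Category.assoc, comp_lift, hi, Category.comp_id, h1,
      Category.assoc, hm, GrpObj.right_inv_assoc, ← Category.assoc a,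
      toUnit_unique (a ≫ toUnit X) (toUnit G)]
  letI inst : GrpObj X :=
    { one := η[G] ≫ a, mul := m, inv := i, one_mul := one_mul', mul_one := mul_one',
      mul_assoc := mul_assoc', left_inv := left_inv', right_inv := right_inv' }
  exact ⟨inst, ⟨rfl, hm.symm⟩⟩

end Abs


section Main

variable {k : Type u} [Field k]

theorem compactSpace_tensor (G H : Over (Spec (CommRingCat.of k)))
    [CompactSpace G.left] [CompactSpace H.left] : CompactSpace ↥(G ⊗ H).left := by
  rw [Over.tensorObj_left]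
  haveI : QuasiCompact H.hom := quasiCompact_of_compactSpace H.hom
  infer_instance

theorem quasiSeparatedSpace_tensor (G H : Over (Spec (CommRingCat.of k)))
    [QuasiSeparatedSpace G.left] [QuasiSeparatedSpace H.left] :
    QuasiSeparatedSpace ↥(G ⊗ H).left := by
  rw [Over.tensorObj_left]
  haveI : QuasiSeparated H.hom := QuasiSeparated.of_quasiSeparatedSpace H.hom
  exact quasiSeparatedSpace_of_quasiSeparated (pullback.fst G.hom H.hom)

/-- The group structure of a qcqs group scheme over a field extends to its affine hull. -/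
theorem exists_grpObj {G X : Over (Spec (CommRingCat.of k))} [GrpObj G]
    [CompactSpace G.left] [QuasiSeparatedSpace G.left] (a : G ⟶ X) (ha : IsAffn a) :
    ∃ (_ : GrpObj X), IsMonHom a := by
  haveI := ha.1
  haveI := compactSpace_tensor G G
  haveI := quasiSeparatedSpace_tensor G G
  haveI : IsAffine (𝟙_ (Over (Spec (CommRingCat.of k)))).left := by
    rw [Over.tensorUnit_left]; infer_instance
  haveI : CompactSpace ↥(𝟙_ (Over (Spec (CommRingCat.of k)))).left := by
    rw [Over.tensorUnit_left]; infer_instance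
  haveI : QuasiSeparatedSpace ↥(𝟙_ (Over (Spec (CommRingCat.of k)))).left := by
    rw [Over.tensorUnit_left]; infer_instance
  refine exists_grpObj_of_ext a ha.epi (ha.tensor ha).epi ((ha.tensor ha).tensor ha).epi ?_ ?_
    (ha.ext _) ((ha.tensor ha).ext _)
  · intro u v h
    rw [← id_tensorHom] at h
    exact ((IsAffn.id _).tensor ha).epi u v h
  · intro u v h
    rw [← tensorHom_id] at h
    exact (ha.tensor (IsAffn.id _)).epi u v h

/-- If the affine hull map of a qcqs group scheme over a field is a dominant open immersion, then it is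
an isomorphism. -/
theorem isIso_of_isAffn {G X : Over (Spec (CommRingCat.of k))} [GrpObj G]
    [CompactSpace G.left] [QuasiSeparatedSpace G.left] (a : G ⟶ X) (ha : IsAffn a)
    [IsOpenImmersion a.left] [IsDominant a.left] : IsIso a.left := by
  obtain ⟨inst, hmon⟩ := exists_grpObj a ha
  have hsurj : Function.Surjective a.left.base := by
    intro x
    obtain ⟨z, hz1, hz2, hz3⟩ := Groth.Agent.S3015.result k X a.left.opensRange a.left.opensRange
      a.left.denseRange a.left.denseRange x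
    have hz : z ∈ Set.range (a ⊗ₘ a).left.base := by
      rw [Over.tensorHom_left]
      erw [Scheme.Pullback.range_map]
      exact ⟨hz1, hz2⟩
    obtain ⟨w, rfl⟩ := hz
    refine ⟨μ[G].left.base w, ?_⟩
    rw [← hz3, ← Scheme.Hom.comp_apply, ← Scheme.Hom.comp_apply, ← Over.comp_left, ← Over.comp_left,
      IsMonHom.mul_hom]
  haveI : Surjective a.left := ⟨hsurj⟩
  exact (isIso_iff_isOpenImmersion_and_surjective a.left).mpr ⟨inferInstance, inferInstance⟩


/-- A quasi-affine group scheme over a field is affine. -/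
theorem isAffine_of_isQuasiAffine (k : Type u) [Field k] (G : Over (Spec (CommRingCat.of k)))
    [GrpObj G] [G.left.IsQuasiAffine] : IsAffine G.left := by
  haveI : QuasiSeparatedSpace G.left := quasiSeparatedSpace_of_quasiSeparated G.left.toSpecΓ
  haveI hiso : IsIso G.left.toSpecΓ.appTop := by
    rw [Scheme.toSpecΓ_appTop]; infer_instance
  obtain ⟨p, hp⟩ := ext_aff G.left.toSpecΓ G.hom
  let X : Over (Spec (CommRingCat.of k)) := Over.mk p
  let a : G ⟶ X := Over.homMk G.left.toSpecΓ hp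
  have ha : IsAffn a := ⟨inferInstanceAs (IsAffine (Spec _)), hiso⟩
  haveI : IsOpenImmersion a.left := inferInstanceAs (IsOpenImmersion G.left.toSpecΓ)
  haveI : IsDominant a.left := inferInstanceAs (IsDominant G.left.toSpecΓ)
  haveI := isIso_of_isAffn a ha
  haveI : IsAffine X.left := inferInstanceAs (IsAffine (Spec _))
  exact IsAffine.of_isIso a.left

end Main

end Groth.Agent.Lib.T2H7.Affn
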