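import Mathlib

/-!
Scheme-theoretic images: flat surjective quasi-compact morphisms are scheme-theoretically dominant,
and the factorisation into a scheme-theoretically dominant morphism followed by a closed immersion
is unique.
-/

set_option autoImplicit false
set_option linter.unusedSectionVars false
set_option linter.unusedVariables false
set_option linter.style.haveILetI false
universe u
open CategoryTheory CategoryTheory.Limits AlgebraicGeometry

namespace Groth.Agent.Lib.T2H7.SchImg

variable {X Y Z : Scheme.{u}}

/-- a flat surjective morphism is injective on sections. -/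
theorem app_injective_of_flat_surjective (f : X ⟶ Y) [Flat f] [Surjective f] (U : Y.Opens) :
    Function.Injective (f.app U) := by
  rw [injective_iff_map_eq_zero]
  intro a ha
  refine TopCat.Presheaf.section_ext Y.sheaf U _ _ fun y hy => ?_
  obtain ⟨x, rfl⟩ := f.surjective y
  have hinj : Function.Injective (f.stalkMap x) := by
    algebraize [(f.stalkMap x).hom]
    have : Module.FaithfullyFlat (Y.presheaf.stalk (f x)) (X.presheaf.stalk x) :=
      @Module.FaithfullyFlat.of_flat_of_isLocalHom _ _ _ _ _ _ _
        (Flat.stalkMap f x) (f.toLRSHom.prop x)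
    exact ‹RingHom.FaithfullyFlat _›.injective
  show (Y.presheaf.germ U (f x) hy) a = (Y.presheaf.germ U (f x) hy) 0
  apply hinj
  have h1 := Scheme.Hom.germ_stalkMap_apply f U x hy a
  rw [ha] at h1
  rw [h1, map_zero, map_zero, map_zero]

/-- a flat surjective morphism is scheme-theoretically dominant. -/
theorem isSchDom_of_flat_surjective (f : X ⟶ Y) [Flat f] [Surjective f] :
    IsSchemeTheoreticallyDominant f := by
  rw [isSchemeTheoreticallyDominant_iff]
  apply Scheme.IdealSheafData.ext
  funext U
  rw [Scheme.IdealSheafData.ideal_bot, Pi.bot_apply, ← le_bot_iff]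
  refine (Scheme.Hom.ideal_ker_le f U).trans ?_
  rw [(RingHom.injective_iff_ker_eq_bot _).1 (app_injective_of_flat_surjective f U.1)]

/-- the canonical morphism to the scheme-theoretic image is scheme-theoretically dominant. -/
theorem isSchDom_toImage (f : X ⟶ Y) [QuasiCompact f] : IsSchemeTheoreticallyDominant f.toImage := by
  rw [isSchemeTheoreticallyDominant_iff]
  have hU : ⨆ U : Y.affineOpens, (f.imageι ⁻¹ᵁ U.1) = ⊤ := by
    rw [← Scheme.Hom.preimage_iSup, iSup_affineOpens_eq_top]
    rfl
  refine Scheme.IdealSheafData.ext_of_iSup_eq_top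
    (fun U : Y.affineOpens => ⟨f.imageι ⁻¹ᵁ U.1, U.2.preimage f.imageι⟩) hU fun U => ?_
  rw [Scheme.Hom.ker_apply, Scheme.IdealSheafData.ideal_bot, Pi.bot_apply]
  exact (RingHom.injective_iff_ker_eq_bot _).1 (f.toImage_app_injective U)

theorem ker_comp_of_isSchDom {W : Scheme.{u}} (q : X ⟶ W) (c : W ⟶ Y)
    [IsSchemeTheoreticallyDominant q] : (q ≫ c).ker = c.ker := by
  rw [Scheme.Hom.ker_comp, q.ker_eq_bot, Scheme.IdealSheafData.map_bot]

/-- two factorisations of a morphism into a scheme-theoretically dominant morphism followed by a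
closed immersion are canonically isomorphic. -/
theorem exists_iso_of_factorizations {W W' : Scheme.{u}} (q : X ⟶ W) (c : W ⟶ Y) (q' : X ⟶ W')
    (c' : W' ⟶ Y) [IsSchemeTheoreticallyDominant q] [IsSchemeTheoreticallyDominant q']
    [IsClosedImmersion c] [IsClosedImmersion c'] (h : q ≫ c = q' ≫ c') :
    ∃ θ : W ≅ W', θ.hom ≫ c' = c := by
  have hker : c'.ker = c.ker := by
    rw [← ker_comp_of_isSchDom q c, ← ker_comp_of_isSchDom q' c', h]
  haveI := IsClosedImmersion.isIso_lift c' c hker
  exact ⟨asIso (IsClosedImmersion.lift c' c hker.le), IsClosedImmersion.lift_fac c' c hker.le⟩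

end Groth.Agent.Lib.T2H7.SchImg
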