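import Groth.Agent.S18069
import Groth.Agent.Lib.T2H7RigidI
import Groth.Agent.Lib.T2H7SchImg

/-!
Anti-affineness in extensions of group schemes of finite type over a field.
-/

set_option autoImplicit false
set_option linter.unusedSectionVars false
set_option linter.unusedVariables false
set_option linter.style.haveILetI false
universe u
open CategoryTheory CategoryTheory.Limits MonoidalCategory CartesianMonoidalCategory MonObj GrpObj
  AlgebraicGeometry

namespace Groth.Agent.Lib.T2H7.AntiAffExt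

open Groth.Agent.Lib.Helper27.GaGm
  Groth.Agent.Lib.Helper12.QuotGrp Groth.Agent.Lib.Helper12 Groth.Agent.Lib.Helper11KerPair
  Groth.Agent.Lib.Helper11QuotTower Groth.Agent.Lib.T2H7.Rigid

variable {k : Type u} [Field k]

theorem str_comp {X Y : Over (Spec (CommRingCat.of k))} (f : X ⟶ Y) :
    ((Scheme.ΓSpecIso (CommRingCat.of k)).inv ≫ Y.hom.appTop) ≫ f.left.appTop =
      (Scheme.ΓSpecIso (CommRingCat.of k)).inv ≫ X.hom.appTop := by
  rw [Category.assoc, ← Scheme.Hom.comp_appTop, Over.w]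

theorem str_injective (X : Over (Spec (CommRingCat.of k))) [Nonempty ↥X.left] :
    Function.Injective ((Scheme.ΓSpecIso (CommRingCat.of k)).inv ≫ X.hom.appTop).hom := by
  haveI : Nonempty ↥(⊤ : X.left.Opens).toScheme := by
    obtain ⟨x⟩ := (inferInstance : Nonempty ↥X.left)
    exact ⟨⟨x, trivial⟩⟩
  haveI : Nontrivial ↑Γ(X.left, ⊤) := Scheme.component_nontrivial X.left ⊤
  exact RingHom.injective _

theorem nonempty_of_grp (G : Over (Spec (CommRingCat.of k))) [GrpObj G] : Nonempty ↥G.left :=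
  ⟨η[G].left (default : ↥(Spec (CommRingCat.of k)))⟩

variable {G₁ G G₂ : Over (Spec (CommRingCat.of k))} [GrpObj G₁] [GrpObj G] [GrpObj G₂]

/-- anti-affineness passes to quotients. -/
theorem antiAffine_quot (q : G ⟶ G₂) [Surjective q.left] [Flat q.left]
    (hG : Function.Bijective ((Scheme.ΓSpecIso (CommRingCat.of k)).inv ≫ G.hom.appTop).hom) :
    Function.Bijective ((Scheme.ΓSpecIso (CommRingCat.of k)).inv ≫ G₂.hom.appTop).hom := by
  haveI := nonempty_of_grp G₂
  refine ⟨str_injective G₂, fun b => ?_⟩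
  obtain ⟨c, hc⟩ := hG.2 (q.left.appTop.hom b)
  refine ⟨c, ?_⟩
  apply Groth.Agent.Lib.T2H7.SchImg.app_injective_of_flat_surjective q.left ⊤
  have h1 := congrArg (fun t => t.hom c) (str_comp q)
  simp only [CommRingCat.hom_comp, RingHom.comp_apply] at h1 hc
  exact h1.trans hc

/-- anti-affineness passes to extensions. -/
theorem antiAffine_ext (i : G₁ ⟶ G) [IsMonHom i] (q : G ⟶ G₂) [IsMonHom q] [Surjective q.left]
    [Flat q.left] [LocallyOfFiniteType G₁.hom] [QuasiCompact G₁.hom]
    [LocallyOfFiniteType G.hom] [QuasiCompact G.hom] (hex : AlgGrp.IsKernel i q)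
    (h1 : Function.Bijective ((Scheme.ΓSpecIso (CommRingCat.of k)).inv ≫ G₁.hom.appTop).hom)
    (h2 : Function.Bijective ((Scheme.ΓSpecIso (CommRingCat.of k)).inv ≫ G₂.hom.appTop).hom) :
    Function.Bijective ((Scheme.ΓSpecIso (CommRingCat.of k)).inv ≫ G.hom.appTop).hom := by
  haveI := nonempty_of_grp G
  have hn1 : IsLocallyNoetherian G₁.left := LocallyOfFiniteType.isLocallyNoetherian G₁.hom
  have hn : IsLocallyNoetherian G.left := LocallyOfFiniteType.isLocallyNoetherian G.hom
  haveI : CompactSpace ↥G.left := QuasiCompact.compactSpace_of_compactSpace G.hom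
  haveI : IsNoetherian G.left := {}
  haveI : QuasiCompact q.left := inferInstance
  refine ⟨str_injective G, fun a => ?_⟩
  -- Künneth
  have hK := Groth.Agent.S18069.appTop_snd_bijective' G₁ G h1
  have hfst : Function.Bijective (fst G G₁).left.appTop.hom := by
    have e : fst G G₁ = (β_ G G₁).hom ≫ snd G₁ G := (braiding_hom_snd G G₁).symm
    have e2 : (fst G G₁).left.appTop = (snd G₁ G).left.appTop ≫ (β_ G G₁).hom.left.appTop := by
      rw [e, Over.comp_left, Scheme.Hom.comp_appTop]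
    rw [e2, CommRingCat.hom_comp, RingHom.coe_comp]
    haveI : IsIso (β_ G G₁).hom.left :=
      inferInstanceAs (IsIso ((Over.forget _).map (β_ G G₁).hom))
    haveI : IsIso (β_ G G₁).hom.left.appTop := inferInstanceAs (IsIso ((β_ G G₁).hom.left.app ⊤))
    exact ((ConcreteCategory.isIso_iff_bijective _).mp ‹_›).comp hK
  obtain ⟨x, hx⟩ : ∃ x : G ⟶ Red.Ga (Spec (CommRingCat.of k)), Red.gaFn x = a :=
    ⟨(gaEquiv G).symm a, gaFn_gaEquiv_symm a⟩
  obtain ⟨s, hs⟩ : ∃ s : G ⟶ G ⊗ G₁, s = lift (𝟙 G) (toUnit G ≫ η[G₁]) := ⟨_, rfl⟩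
  have hs1 : s ≫ fst G G₁ = 𝟙 G := by rw [hs, lift_fst]
  have hs2 : s ≫ (G ◁ i) ≫ μ[G] = 𝟙 G := by
    rw [hs, whiskerLeft_comp_mul, MonObj.comp_mul, lift_fst, ← Category.assoc, lift_snd,
      Category.assoc, IsMonHom.one_hom i, ← Hom.one_def, _root_.mul_one]
  have hinv : fst G G₁ ≫ x = ((G ◁ i) ≫ μ[G]) ≫ x := by
    apply gaFn_injective
    rw [gaFn_comp, gaFn_comp, hx]
    obtain ⟨a', ha'⟩ := hfst.2 (((G ◁ i) ≫ μ[G]).left.appTop.hom a)
    have hm1 : (fst G G₁).left.appTop ≫ s.left.appTop = 𝟙 _ := by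
      rw [← Scheme.Hom.comp_appTop, ← Over.comp_left, hs1]
      simp
    have hm2 : ((G ◁ i) ≫ μ[G]).left.appTop ≫ s.left.appTop = 𝟙 _ := by
      rw [← Scheme.Hom.comp_appTop, ← Over.comp_left, hs2]
      simp
    have e1 : ∀ z, s.left.appTop.hom ((fst G G₁).left.appTop.hom z) = z := by
      intro z
      have := congrArg (fun t => t.hom z) hm1
      simpa only [CommRingCat.hom_comp, RingHom.comp_apply, CommRingCat.hom_id,
        RingHom.id_apply] using this
    have e2 : ∀ z, s.left.appTop.hom (((G ◁ i) ≫ μ[G]).left.appTop.hom z) = z := by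
      intro z
      have := congrArg (fun t => t.hom z) hm2
      simpa only [CommRingCat.hom_comp, RingHom.comp_apply, CommRingCat.hom_id,
        RingHom.id_apply] using this
    have h3 : a' = a := by
      have := congrArg (fun t => s.left.appTop.hom t) ha'
      simp only [e1, e2] at this
      exact this
    rw [h3] at ha'
    exact ha'
  have hc := isCov_of_fpqc q
  have hsq := isPullback_of_isKernel i q hex
  haveI := hc.effectiveEpi
  obtain ⟨xb, hxb⟩ := exists_desc_of_isPullback q hsq x hinv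
  obtain ⟨c, hc'⟩ := h2.2 (Red.gaFn xb)
  refine ⟨c, ?_⟩
  have h4 : (((Scheme.ΓSpecIso (CommRingCat.of k)).inv ≫ G₂.hom.appTop) ≫ q.left.appTop).hom c =
      ((Scheme.ΓSpecIso (CommRingCat.of k)).inv ≫ G.hom.appTop).hom c :=
    congrArg (fun t => t.hom c) (str_comp q)
  rw [← h4, CommRingCat.hom_comp, RingHom.comp_apply, hc', ← hx, ← hxb, gaFn_comp]

end Groth.Agent.Lib.T2H7.AntiAffExt
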