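import Mathlib
import Groth.Agent.Lib.Helper14LocalFree2

/-!
# Big projective modules (Bass), helper7

`exists_unimodular_add`: the key lemma (`R/rad R` Noetherian, `P` projective of infinite rank at
every maximal ideal, `Rs + M = P`; then `s + m` is unimodular for some `m ∈ M`).
-/

set_option autoImplicit false
universe u

namespace Groth.Agent.Lib.T2H7.Bass

section Order

variable {R : Type u} [CommRing R] {P : Type u} [AddCommGroup P] [Module R P]

/-- The order ideal of an element: the values of all linear forms. -/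
def ord (x : P) : Ideal R := LinearMap.range (LinearMap.applyₗ (R := R) (M₂ := R) x)

theorem mem_ord {x : P} {a : R} : a ∈ ord x ↔ ∃ φ : P →ₗ[R] R, φ x = a := by
  rw [ord, LinearMap.mem_range]
  rfl

theorem apply_mem_ord (φ : P →ₗ[R] R) (x : P) : φ x ∈ ord x := mem_ord.mpr ⟨φ, rfl⟩

theorem ord_eq_top_iff {x : P} : ord (R := R) x = ⊤ ↔ ∃ φ : P →ₗ[R] R, φ x = 1 := by
  rw [Ideal.eq_top_iff_one, mem_ord]

end Order

section Finite

variable {R : Type u} [CommRing R] {P : Type u} [AddCommGroup P] [Module R P]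

theorem eq_sum_coords (i : P →ₗ[R] (P →₀ R))
    (hi : Function.LeftInverse (Finsupp.linearCombination R (id : P → P)) i) (x : P) :
    x = ∑ k ∈ (i x).support, (i x k) • k := by
  conv_lhs => rw [← hi x, Finsupp.linearCombination_apply]
  rfl

/-- If all but finitely many coordinates of all elements of a projective module `P` lie in the
maximal ideal `𝔪`, then `P_𝔪` is finite. -/
theorem finite_localizedModule_of_coords [Module.Projective R P]
    (𝔪 : Ideal R) [h𝔪 : 𝔪.IsMaximal] (i : P →ₗ[R] (P →₀ R))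
    (hi : Function.LeftInverse (Finsupp.linearCombination R (id : P → P)) i) (N : Finset P)
    (H : ∀ x : P, ∀ k : P, k ∉ N → i x k ∈ 𝔪) :
    Module.Finite (Localization.AtPrime 𝔪) (LocalizedModule 𝔪.primeCompl P) := by
  classical
  have hfree : Module.Free (Localization.AtPrime 𝔪) (LocalizedModule 𝔪.primeCompl P) :=
    Groth.Agent.Lib.Helper14.LocalFree.free_of_projective
  obtain ⟨⟨J, b⟩⟩ := hfree
  obtain ⟨f, hf⟩ : ∃ f : P →ₗ[R] LocalizedModule 𝔪.primeCompl P,
      f = LocalizedModule.mkLinearMap 𝔪.primeCompl P := ⟨_, rfl⟩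
  obtain ⟨J₀, hJ₀⟩ : ∃ J₀ : Finset J, J₀ = N.biUnion fun k => (b.repr (f k)).support := ⟨_, rfl⟩
  have hcoord0 : ∀ j, j ∉ J₀ → ∀ k ∈ N, b.repr (f k) j = 0 := by
    intro j hj k hk
    by_contra hne
    apply hj
    rw [hJ₀, Finset.mem_biUnion]
    exact ⟨k, hk, Finsupp.mem_support_iff.mpr hne⟩
  have hmem : ∀ j, j ∉ J₀ → ∀ x : P,
      b.repr (f x) j ∈ IsLocalRing.maximalIdeal (Localization.AtPrime 𝔪) := by
    intro j hj x
    have hx : f x = ∑ k ∈ (i x).support, (i x k) • f k := by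
      conv_lhs => rw [eq_sum_coords i hi x, map_sum]
      simp only [map_smul]
    rw [hx, map_sum, Finsupp.coe_finsetSum, Finset.sum_apply]
    refine Ideal.sum_mem _ fun k _ => ?_
    have h1 : (b.repr ((i x k) • f k)) j =
        algebraMap R (Localization.AtPrime 𝔪) (i x k) * b.repr (f k) j := by
      rw [← algebraMap_smul (Localization.AtPrime 𝔪) (i x k) (f k), map_smul, Finsupp.smul_apply,
        smul_eq_mul]
    rw [h1]
    by_cases hk : k ∈ N
    · rw [hcoord0 j hj k hk, mul_zero]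
      exact Ideal.zero_mem _
    · apply Ideal.mul_mem_right
      rw [IsLocalization.AtPrime.to_map_mem_maximal_iff (Localization.AtPrime 𝔪) 𝔪]
      exact H x k hk
  have hall : ∀ j, j ∈ J₀ := by
    intro j
    by_contra hj
    obtain ⟨x, t, hxt⟩ : ∃ (x : P) (t : 𝔪.primeCompl), b j = LocalizedModule.mk x t := by
      induction b j using LocalizedModule.induction_on with
      | h x t => exact ⟨x, t, rfl⟩
    have h2 : (t : R) • b j = f x := by
      rw [hxt, hf, LocalizedModule.mkLinearMap_apply, LocalizedModule.smul'_mk]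
      exact LocalizedModule.mk_cancel t x
    have h3 := hmem j hj x
    rw [← h2, ← algebraMap_smul (Localization.AtPrime 𝔪) (t : R) (b j), map_smul,
      Finsupp.smul_apply, Module.Basis.repr_self, Finsupp.single_eq_same, smul_eq_mul, mul_one,
      IsLocalization.AtPrime.to_map_mem_maximal_iff (Localization.AtPrime 𝔪) 𝔪] at h3
    exact t.2 h3
  have hfin : Finite J :=
    Set.finite_univ_iff.mp ((Finset.finite_toSet J₀).subset fun j _ => hall j)
  exact Module.Finite.of_basis b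

end Finite

section Key

variable {R : Type u} [CommRing R] {P : Type u} [AddCommGroup P] [Module R P]

theorem map_mk_lt_map_mk {K I I' : Ideal R} (hK : K ≤ I) (h : I < I') :
    I.map (Ideal.Quotient.mk K) < I'.map (Ideal.Quotient.mk K) := by
  refine lt_of_le_of_ne (Ideal.map_mono h.le) fun heq => ?_
  have h1 := congrArg (Ideal.comap (Ideal.Quotient.mk K)) heq
  rw [Ideal.comap_map_of_surjective _ Ideal.Quotient.mk_surjective,
    Ideal.comap_map_of_surjective _ Ideal.Quotient.mk_surjective, ← RingHom.ker_eq_comap_bot,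
    Ideal.mk_ker, sup_eq_left.mpr hK, sup_eq_left.mpr (hK.trans h.le)] at h1
  exact h.ne h1

variable [Module.Projective R P]

/-- One step of Bass's argument: the vanishing locus of `s + m` can be made strictly smaller. -/
theorem exists_jacobson_ord_lt
    (hP : ∀ (m : Ideal R) [m.IsMaximal],
      ¬ Module.Finite (Localization.AtPrime m) (LocalizedModule m.primeCompl P))
    (s : P) (M : Submodule R P) (hM : Submodule.span R {s} ⊔ M = ⊤)
    (hs : ord (R := R) s ≠ ⊤) :
    ∃ m' ∈ M, (ord (R := R) s).jacobson < (ord (R := R) (s + m')).jacobson := by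
  classical
  obtain ⟨𝔪, h𝔪, hle⟩ := Ideal.exists_le_maximal _ hs
  obtain ⟨i, hi⟩ := Module.projective_def.mp (inferInstance : Module.Projective R P)
  obtain ⟨N, hN⟩ : ∃ N : Finset P, N = (i s).support := ⟨_, rfl⟩
  have hL3 : ∃ k, k ∉ N ∧ ∃ p ∈ M, i p k ∉ 𝔪 := by
    by_contra hcon
    have hcon' : ∀ k, k ∉ N → ∀ p ∈ M, i p k ∈ 𝔪 := by
      intro k hk p hp
      by_contra h
      exact hcon ⟨k, hk, p, hp, h⟩
    have H : ∀ x : P, ∀ k : P, k ∉ N → i x k ∈ 𝔪 := by
      intro x k hk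
      have hx : x ∈ Submodule.span R {s} ⊔ M := by rw [hM]; trivial
      obtain ⟨y, hy, z, hz, rfl⟩ := Submodule.mem_sup.mp hx
      obtain ⟨a, rfl⟩ := Submodule.mem_span_singleton.mp hy
      rw [map_add, map_smul, Finsupp.add_apply, Finsupp.smul_apply]
      have h0 : i s k = 0 := by
        rw [hN] at hk
        exact Finsupp.notMem_support_iff.mp hk
      rw [h0, smul_zero, zero_add]
      exact hcon' k hk z hz
    exact hP 𝔪 (finite_localizedModule_of_coords 𝔪 i hi N H)
  obtain ⟨k, hk, p, hp, hb⟩ := hL3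
  obtain ⟨ψ, hψ⟩ : ∃ ψ : P →ₗ[R] R, ∀ x, ψ x = i x k := ⟨(Finsupp.lapply k) ∘ₗ i, fun x => rfl⟩
  have hψs : ψ s = 0 := by
    rw [hψ]
    rw [hN] at hk
    exact Finsupp.notMem_support_iff.mp hk
  have hψm : ψ (s + (ψ p) • p) = ψ p * ψ p := by
    rw [map_add, hψs, zero_add, map_smul, smul_eq_mul]
  refine ⟨(ψ p) • p, M.smul_mem _ hp, lt_of_le_of_ne ?_ ?_⟩
  · refine le_sInf ?_
    rintro J ⟨hJle, hJmax⟩
    refine sInf_le ⟨?_, hJmax⟩
    intro a ha
    obtain ⟨φ, rfl⟩ := mem_ord.mp ha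
    have hbJ : ψ p ∈ J := by
      have h1 : ψ p * ψ p ∈ J := by
        rw [← hψm]
        exact hJle (apply_mem_ord ψ _)
      exact (hJmax.isPrime.mem_or_mem h1).elim id id
    have h2 : φ s = φ (s + (ψ p) • p) - ψ p * φ p := by
      rw [map_add, map_smul, smul_eq_mul]
      ring
    rw [h2]
    exact J.sub_mem (hJle (apply_mem_ord φ _)) (J.mul_mem_right _ hbJ)
  · intro heq
    have h1 : ord (R := R) (s + (ψ p) • p) ≤ 𝔪 :=
      (Ideal.le_jacobson).trans (heq ▸ sInf_le ⟨hle, h𝔪⟩)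
    have h2 : ψ p * ψ p ∈ 𝔪 := by
      rw [← hψm]
      exact h1 (apply_mem_ord ψ _)
    apply hb
    rw [← hψ]
    exact (h𝔪.isPrime.mem_or_mem h2).elim id id

/-- **Bass's key lemma**: if `R/rad R` is Noetherian, `P` is projective of infinite rank at every
maximal ideal and `Rs + M = P`, then `s + m` is unimodular for some `m ∈ M`. -/
theorem exists_unimodular_add [IsNoetherianRing (R ⧸ (⊥ : Ideal R).jacobson)]
    (hP : ∀ (m : Ideal R) [m.IsMaximal],
      ¬ Module.Finite (Localization.AtPrime m) (LocalizedModule m.primeCompl P))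
    (s : P) (M : Submodule R P) (hM : Submodule.span R {s} ⊔ M = ⊤) :
    ∃ m ∈ M, ∃ φ : P →ₗ[R] R, φ (s + m) = 1 := by
  obtain ⟨g, hg⟩ : ∃ g : M → Ideal (R ⧸ (⊥ : Ideal R).jacobson), ∀ m : M,
      g m = ((ord (R := R) (s + m.1)).jacobson).map (Ideal.Quotient.mk _) := ⟨_, fun _ => rfl⟩
  obtain ⟨m₀, hm₀⟩ : ∃ m₀ : M, ∀ m : M, ¬ g m₀ < g m := by
    have hwf : WellFoundedGT (Ideal (R ⧸ (⊥ : Ideal R).jacobson)) := inferInstance
    obtain ⟨I, ⟨m₀, rfl⟩, hmax⟩ := hwf.wf.has_min (Set.range g) ⟨_, ⟨0, M.zero_mem⟩, rfl⟩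
    exact ⟨m₀, fun m hlt => hmax (g m) ⟨m, rfl⟩ hlt⟩
  by_cases htop : ord (R := R) (s + m₀.1) = ⊤
  · exact ⟨m₀.1, m₀.2, ord_eq_top_iff.mp htop⟩
  exfalso
  have hM' : Submodule.span R {s + m₀.1} ⊔ M = ⊤ := by
    rw [eq_top_iff, ← hM]
    refine sup_le ?_ le_sup_right
    rw [Submodule.span_le, Set.singleton_subset_iff]
    have h2 := Submodule.sub_mem (Submodule.span R {s + m₀.1} ⊔ M)
      (Submodule.mem_sup_left (Submodule.subset_span rfl)) (Submodule.mem_sup_right m₀.2)
    rwa [add_sub_cancel_right] at h2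
  obtain ⟨m', hm', hlt⟩ := exists_jacobson_ord_lt hP (s + m₀.1) M hM' htop
  apply hm₀ ⟨m₀.1 + m', M.add_mem m₀.2 hm'⟩
  rw [hg, hg]
  have h1 : s + (m₀.1 + m') = s + m₀.1 + m' := by abel
  change Ideal.map _ (ord (R := R) (s + m₀.1)).jacobson <
    Ideal.map _ (ord (R := R) (s + (m₀.1 + m'))).jacobson
  rw [h1]
  exact map_mk_lt_map_mk (Ideal.jacobson_mono bot_le) hlt

end Key

end Groth.Agent.Lib.T2H7.Bass
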