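import Mathlib
import Groth.Agent.Lib.T2H7Bass
import Groth.Agent.S7109

/-!
# Big projective modules (Bass), part 2 (helper7)

Every element of a projective module of infinite rank everywhere (over a ring with `R/rad R`
Noetherian) lies in a finite free direct summand.
-/

set_option autoImplicit false
universe u

namespace Groth.Agent.Lib.T2H7.Bass

section IR

variable {R : Type u} [CommRing R] (S : Submonoid R)

theorem finite_localizedModule_of_surjective {X Y : Type u} [AddCommGroup X] [Module R X]
    [AddCommGroup Y] [Module R Y] (g : X →ₗ[R] Y) (hg : Function.Surjective g)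
    (h : Module.Finite (Localization S) (LocalizedModule S X)) :
    Module.Finite (Localization S) (LocalizedModule S Y) :=
  Module.Finite.of_surjective (LocalizedModule.map S g) (LocalizedModule.map_surjective S g hg)

theorem finite_localizedModule_of_sup {E : Type u} [AddCommGroup E] [Module R E]
    (W G : Submodule R E) (hWG : W ⊔ G = ⊤) (hG : G.FG)
    (h : Module.Finite (Localization S) (LocalizedModule S W)) :
    Module.Finite (Localization S) (LocalizedModule S E) := by
  have hGfin : Module.Finite R G := Module.Finite.iff_fg.mpr hG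
  have h1 : (LinearMap.range (LocalizedModule.map S W.subtype)).FG :=
    Module.Finite.iff_fg.mp (Module.Finite.range _)
  have h2 : (LinearMap.range (LocalizedModule.map S G.subtype)).FG :=
    Module.Finite.iff_fg.mp (Module.Finite.range _)
  have htop : LinearMap.range (LocalizedModule.map S W.subtype) ⊔
      LinearMap.range (LocalizedModule.map S G.subtype) = ⊤ := by
    rw [eq_top_iff]
    intro y _
    induction y using LocalizedModule.induction_on with
    | h v t =>
      have hv : v ∈ W ⊔ G := by rw [hWG]; trivial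
      obtain ⟨w, hw, g, hg, rfl⟩ := Submodule.mem_sup.mp hv
      have : LocalizedModule.mk (w + g) t =
          LocalizedModule.map S W.subtype (LocalizedModule.mk ⟨w, hw⟩ t) +
            LocalizedModule.map S G.subtype (LocalizedModule.mk ⟨g, hg⟩ t) := by
        rw [LocalizedModule.map_mk, LocalizedModule.map_mk, Submodule.subtype_apply,
          Submodule.subtype_apply, LocalizedModule.mk_add_mk]
        rw [LocalizedModule.mk_eq]
        refine ⟨1, ?_⟩
        simp only [one_smul, smul_add, Submonoid.smul_def, mul_smul]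
      rw [this]
      exact Submodule.add_mem _ (Submodule.mem_sup_left ⟨_, rfl⟩) (Submodule.mem_sup_right ⟨_, rfl⟩)
  refine ⟨?_⟩
  rw [← htop]
  exact h1.sup h2

end IR

section Proj

variable {R : Type u} [CommRing R] {E : Type u} [AddCommGroup E] [Module R E]

theorem exists_projection (K K' : Submodule R E) (hK : IsCompl K K') :
    ∃ q : E →ₗ[R] E, (∀ v, q v ∈ K') ∧ (∀ v, v - q v ∈ K) ∧ (∀ k ∈ K, q k = 0) ∧
      (∀ y ∈ K', q y = y) := by
  refine ⟨K'.subtype ∘ₗ K'.projectionOnto K hK.symm, fun v => Submodule.coe_mem _, ?_, ?_, ?_⟩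
  · intro v
    have h1 : v - (K'.subtype ∘ₗ K'.projectionOnto K hK.symm) v ∈
        LinearMap.ker (K'.projectionOnto K hK.symm) := by
      rw [LinearMap.mem_ker, map_sub, sub_eq_zero, LinearMap.comp_apply, Submodule.subtype_apply,
        Submodule.projectionOnto_apply_left]
    rwa [Submodule.ker_projectionOnto hK.symm] at h1
  · intro k hk
    rw [LinearMap.comp_apply, (Submodule.projectionOnto_apply_eq_zero_iff hK.symm).mpr hk, map_zero]
  · intro y hy
    rw [LinearMap.comp_apply, Submodule.subtype_apply,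
      Submodule.projectionOnto_apply_of_mem_left hK.symm hy]

end Proj

section Stage

variable {R : Type u} [CommRing R] [IsNoetherianRing (R ⧸ (⊥ : Ideal R).jacobson)]
  {E : Type u} [AddCommGroup E] [Module R E] [Module.Projective R E]

/-- The inductive construction: split off `m` unimodular elements modulo `K₀`, keeping track of
the coordinates `c`. -/
theorem exists_stage
    (hE : ∀ (m : Ideal R) [m.IsMaximal],
      ¬ Module.Finite (Localization.AtPrime m) (LocalizedModule m.primeCompl E))
    (n : ℕ) (c : Fin n → (E →ₗ[R] R)) (f : Fin n → E)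
    (hcf : ∀ i j, c i (f j) = if i = j then 1 else 0)
    (K₀ K₀' : Submodule R E) (hK : IsCompl K₀ K₀') (hfin : K₀.FG) :
    ∀ m, m ≤ n → ∃ (e' : Fin n → E) (lam : Fin n → (E →ₗ[R] R)) (γ : E →ₗ[R] (Fin n → R)),
      (∀ i : Fin n, m ≤ i.1 → lam i = 0) ∧
      (∀ i : Fin n, ∀ k ∈ K₀, lam i k = 0) ∧
      (∀ i j : Fin n, i.1 < m → j.1 < m → lam i (e' j) = if i = j then 1 else 0) ∧
      (∀ v (j : Fin n), m ≤ j.1 → γ v j = 0) ∧
      (∀ v (i : Fin n), i.1 < m → c i (v - ∑ j, γ v j • e' j) = 0) ∧
      (∀ x : E, (∀ i, c i x = 0) → γ x = 0) := by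
  classical
  obtain ⟨q, hq1, hq2, hq3, hq4⟩ := exists_projection K₀ K₀' hK
  intro m
  induction m with
  | zero =>
    intro _
    refine ⟨fun _ => 0, fun _ => 0, 0, fun _ _ => rfl, fun _ _ _ => rfl, ?_, fun _ _ _ => rfl, ?_,
      fun _ _ => rfl⟩
    · intro i j hi
      exact absurd hi (Nat.not_lt_zero _)
    · intro v i hi
      exact absurd hi (Nat.not_lt_zero _)
  | succ m ih =>
    intro hm
    obtain ⟨e', lam, γ, hY0, hY1, hY2, hY3, hY4, hY5⟩ := ih (Nat.le_of_succ_le hm)
    obtain ⟨mm, hmm⟩ : ∃ mm : Fin n, mm.1 = m := ⟨⟨m, hm⟩, rfl⟩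
    -- the projection onto the remaining summand
    obtain ⟨θ, hθ⟩ : ∃ θ : E →ₗ[R] E, ∀ v, θ v = q v - ∑ i, lam i v • q (e' i) :=
      ⟨q - ∑ i, (lam i).smulRight (q (e' i)), fun v => by
        simp [LinearMap.sum_apply]⟩
    have hlamq : ∀ l x, lam l (q x) = lam l x := by
      intro l x
      have h1 := hY1 l (x - q x) (hq2 x)
      rw [map_sub, sub_eq_zero] at h1
      exact h1.symm
    have hlamsum : ∀ (l : Fin n) (a : Fin n → R), l.1 < m →
        ∑ i, a i • lam l (e' i) = a l + ∑ i, (if m ≤ i.1 then a i • lam l (e' i) else 0) := by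
      intro l a hl
      have h1 : ∀ i, a i • lam l (e' i) = (if l = i then a i else 0) +
          (if m ≤ i.1 then a i • lam l (e' i) else 0) := by
        intro i
        by_cases hi : m ≤ i.1
        · have hne : l ≠ i := by
            intro h
            rw [h] at hl
            omega
          rw [if_neg hne, if_pos hi, zero_add]
        · rw [if_neg hi, add_zero, hY2 l i hl (not_le.mp hi)]
          by_cases hli : l = i
          · rw [if_pos hli, if_pos hli, smul_eq_mul, mul_one]
          · rw [if_neg hli, if_neg hli, smul_zero]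
      rw [Finset.sum_congr rfl fun i _ => h1 i, Finset.sum_add_distrib, Finset.sum_ite_eq,
        if_pos (Finset.mem_univ l)]
    obtain ⟨W, hW⟩ : ∃ W : Submodule R E, ∀ y, y ∈ W ↔ y ∈ K₀' ∧ ∀ i, lam i y = 0 :=
      ⟨{ carrier := {y | y ∈ K₀' ∧ ∀ i, lam i y = 0}
         add_mem' := fun {a b} ha hb => ⟨K₀'.add_mem ha.1 hb.1, fun i => by
           rw [map_add, ha.2 i, hb.2 i, add_zero]⟩
         zero_mem' := ⟨K₀'.zero_mem, fun i => map_zero _⟩
         smul_mem' := fun r a ha => ⟨K₀'.smul_mem r ha.1, fun i => by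
           rw [map_smul, ha.2 i, smul_zero]⟩ }, fun y => Iff.rfl⟩
    have hθW : ∀ v, θ v ∈ W := by
      intro v
      rw [hW]
      constructor
      · rw [hθ]
        exact K₀'.sub_mem (hq1 v) (K₀'.sum_mem fun i _ => K₀'.smul_mem _ (hq1 _))
      · intro l
        rw [hθ, map_sub, map_sum, hlamq]
        simp_rw [map_smul, hlamq]
        by_cases hl : l.1 < m
        · rw [hlamsum l (fun i => lam i v) hl]
          have h0 : ∑ i, (if m ≤ i.1 then lam i v • lam l (e' i) else 0) = 0 := by
            refine Finset.sum_eq_zero fun i _ => ?_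
            by_cases hi : m ≤ i.1
            · rw [if_pos hi, hY0 i hi, LinearMap.zero_apply, zero_smul]
            · rw [if_neg hi]
          rw [h0, add_zero, sub_self]
        · rw [hY0 l (not_lt.mp hl)]
          simp
    have hθid : ∀ y ∈ W, θ y = y := by
      intro y hy
      rw [hW] at hy
      rw [hθ, hq4 y hy.1]
      have h0 : ∑ i, lam i y • q (e' i) = 0 :=
        Finset.sum_eq_zero fun i _ => by rw [hy.2 i, zero_smul]
      rw [h0, sub_zero]
    have hθK : ∀ k ∈ K₀, θ k = 0 := by
      intro k hk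
      rw [hθ, hq3 k hk]
      have h0 : ∑ i, lam i k • q (e' i) = 0 :=
        Finset.sum_eq_zero fun i _ => by rw [hY1 i k hk, zero_smul]
      rw [h0, sub_zero]
    have hθe : ∀ j : Fin n, j.1 < m → θ (e' j) = 0 := by
      intro j hj
      rw [hθ, sub_eq_zero]
      rw [Finset.sum_eq_single j]
      · rw [hY2 j j hj hj, if_pos rfl, one_smul]
      · intro i _ hij
        by_cases hi : m ≤ i.1
        · rw [hY0 i hi, LinearMap.zero_apply, zero_smul]
        · rw [hY2 i j (not_le.mp hi) hj, if_neg hij, zero_smul]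
      · intro h
        exact absurd (Finset.mem_univ j) h
    obtain ⟨θW, hθW'⟩ : ∃ θW : E →ₗ[R] W, ∀ v, (θW v : E) = θ v :=
      ⟨θ.codRestrict W hθW, fun v => rfl⟩
    have hprojW : Module.Projective R W :=
      Module.Projective.of_split W.subtype θW (by
        ext y
        rw [LinearMap.comp_apply, Submodule.subtype_apply, hθW', hθid y.1 y.2,
          LinearMap.id_apply])
    have hIRW : ∀ (𝔪 : Ideal R) [𝔪.IsMaximal],
        ¬ Module.Finite (Localization.AtPrime 𝔪) (LocalizedModule 𝔪.primeCompl W) := by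
      intro 𝔪 _ hfinW
      apply hE 𝔪
      refine finite_localizedModule_of_sup 𝔪.primeCompl W
        (K₀ ⊔ Submodule.span R (Set.range fun i => q (e' i))) ?_
        (hfin.sup (Submodule.fg_span (Set.finite_range _))) hfinW
      rw [eq_top_iff]
      intro v _
      have hv : v = θ v + ((v - q v) + ∑ i, lam i v • q (e' i)) := by
        rw [hθ]; abel
      rw [hv]
      refine Submodule.add_mem _ (Submodule.mem_sup_left (hθW v)) (Submodule.mem_sup_right ?_)
      refine Submodule.add_mem _ (Submodule.mem_sup_left (hq2 v)) (Submodule.mem_sup_right ?_)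
      exact Submodule.sum_mem _ fun i _ => Submodule.smul_mem _ _ (Submodule.subset_span ⟨i, rfl⟩)
    -- the submodule of elements whose first `m + 1` coordinates vanish
    obtain ⟨G', hG'⟩ : ∃ G' : Submodule R E, ∀ v, v ∈ G' ↔ ∀ i : Fin n, i.1 ≤ m → c i v = 0 :=
      ⟨{ carrier := {v | ∀ i : Fin n, i.1 ≤ m → c i v = 0}
         add_mem' := fun {a b} ha hb i hi => by rw [map_add, ha i hi, hb i hi, add_zero]
         zero_mem' := fun i _ => map_zero _
         smul_mem' := fun r a ha i hi => by rw [map_smul, ha i hi, smul_zero] }, fun v => Iff.rfl⟩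
    have hsup : Submodule.span R {θW (f mm)} ⊔ Submodule.map θW G' = ⊤ := by
      rw [eq_top_iff]
      intro y _
      obtain ⟨v', hv'⟩ : ∃ v' : E, v' = y.1 - ∑ j, γ y.1 j • e' j := ⟨_, rfl⟩
      have hv'c : ∀ i : Fin n, i.1 < m → c i v' = 0 := by
        intro i hi
        rw [hv']
        exact hY4 y.1 i hi
      have hθv' : θ v' = y.1 := by
        rw [hv', map_sub, hθid y.1 y.2, map_sum]
        have h0 : ∑ j, θ (γ y.1 j • e' j) = 0 := by
          refine Finset.sum_eq_zero fun j _ => ?_
          rw [map_smul]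
          by_cases hj : m ≤ j.1
          · rw [hY3 y.1 j hj, zero_smul]
          · rw [hθe j (not_le.mp hj), smul_zero]
        rw [h0, sub_zero]
      have hv'' : v' - (c mm v') • f mm ∈ G' := by
        rw [hG']
        intro i hi
        rw [map_sub, map_smul, hcf, smul_eq_mul]
        by_cases him : i = mm
        · rw [if_pos him, mul_one, him, sub_self]
        · rw [if_neg him, mul_zero, sub_zero]
          apply hv'c
          have : i.1 ≠ m := fun h => him (Fin.ext (h.trans hmm.symm))
          omega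
      have hy : y = (c mm v') • θW (f mm) + θW (v' - (c mm v') • f mm) := by
        apply Subtype.ext
        rw [Submodule.coe_add, Submodule.coe_smul, hθW', hθW', map_sub, map_smul, hθv']
        abel
      rw [hy]
      exact Submodule.add_mem _
        (Submodule.mem_sup_left (Submodule.smul_mem _ _ (Submodule.subset_span rfl)))
        (Submodule.mem_sup_right ⟨_, hv'', rfl⟩)
    obtain ⟨μ, hμ, φ, hφ⟩ := exists_unimodular_add (R := R) (P := W) hIRW (θW (f mm))
      (Submodule.map θW G') hsup
    obtain ⟨w, hw, rfl⟩ := hμ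
    rw [SetLike.mem_coe, hG'] at hw
    obtain ⟨ε, hε⟩ : ∃ ε : E, ε = f mm + w := ⟨_, rfl⟩
    obtain ⟨lamm, hlamm⟩ : ∃ lamm : E →ₗ[R] R, ∀ v, lamm v = φ (θW v) := ⟨φ ∘ₗ θW, fun _ => rfl⟩
    have hlammε : lamm ε = 1 := by
      rw [hlamm, hε, map_add]
      exact hφ
    have hlammK : ∀ k ∈ K₀, lamm k = 0 := by
      intro k hk
      rw [hlamm]
      have : θW k = 0 := Subtype.ext (by rw [hθW', hθK k hk]; rfl)
      rw [this, map_zero]
    have hlamme : ∀ j : Fin n, j.1 < m → lamm (e' j) = 0 := by
      intro j hj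
      rw [hlamm]
      have : θW (e' j) = 0 := Subtype.ext (by rw [hθW', hθe j hj]; rfl)
      rw [this, map_zero]
    have hcε : ∀ i : Fin n, i.1 ≤ m → c i ε = if i = mm then 1 else 0 := by
      intro i hi
      rw [hε, map_add, hw i hi, add_zero, hcf]
    obtain ⟨γ', hγ'⟩ : ∃ γ' : E →ₗ[R] (Fin n → R), ∀ v,
        γ' v = γ v + (c mm (v - ∑ j, γ v j • e' j)) • (Pi.single mm (1 : R) : Fin n → R) := by
      refine ⟨γ + ((c mm) ∘ₗ (LinearMap.id - (Fintype.linearCombination R e') ∘ₗ γ)).smulRight
        (Pi.single mm (1 : R) : Fin n → R), fun v => ?_⟩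
      simp [Fintype.linearCombination_apply]
    refine ⟨Function.update e' mm ε,
      fun i => if i = mm then lamm else lam i - (lam i ε) • lamm, γ', ?_, ?_, ?_, ?_, ?_, ?_⟩
    · -- (Y0)
      intro i hi
      have hne : i ≠ mm := fun h => by rw [h, hmm] at hi; omega
      have hi' : m ≤ i.1 := by omega
      simp only [if_neg hne]
      rw [hY0 i hi', LinearMap.zero_apply, zero_smul, sub_zero]
    · -- (Y1)
      intro i k hk
      by_cases hi : i = mm
      · simp only [if_pos hi]
        exact hlammK k hk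
      · simp only [if_neg hi]
        rw [LinearMap.sub_apply, LinearMap.smul_apply, hY1 i k hk, hlammK k hk, smul_zero, sub_zero]
    · -- (Y2)
      intro i j hi hj
      by_cases hjm : j = mm
      · rw [hjm, Function.update_self]
        by_cases him : i = mm
        · simp only [if_pos him]
          exact hlammε
        · simp only [if_neg him]
          rw [LinearMap.sub_apply, LinearMap.smul_apply, hlammε, smul_eq_mul, mul_one, sub_self]
      · rw [Function.update_of_ne hjm]
        have hj' : j.1 < m := by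
          have : j.1 ≠ m := fun h => hjm (Fin.ext (h.trans hmm.symm))
          omega
        by_cases him : i = mm
        · simp only [if_pos him]
          rw [hlamme j hj', him, if_neg (Ne.symm hjm)]
        · simp only [if_neg him]
          have hi' : i.1 < m := by
            have : i.1 ≠ m := fun h => him (Fin.ext (h.trans hmm.symm))
            omega
          rw [LinearMap.sub_apply, LinearMap.smul_apply, hlamme j hj', smul_zero, sub_zero,
            hY2 i j hi' hj']
    · -- (Y3)
      intro v j hj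
      have hne : j ≠ mm := fun h => by rw [h, hmm] at hj; omega
      have hj' : m ≤ j.1 := by omega
      rw [hγ', Pi.add_apply, Pi.smul_apply, hY3 v j hj', Pi.single_eq_of_ne hne, smul_zero,
        zero_add]
    · -- (Y4)
      intro v i hi
      obtain ⟨v₁, hv₁⟩ : ∃ v₁ : E, v₁ = v - ∑ j, γ v j • e' j := ⟨_, rfl⟩
      have hsum : ∑ j, γ' v j • Function.update e' mm ε j =
          ∑ j, γ v j • e' j + (c mm v₁) • ε := by
        have h1 : ∀ j, γ' v j • Function.update e' mm ε j =
            γ v j • e' j + (if j = mm then (c mm v₁) • ε else 0) := by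
          intro j
          by_cases hj : j = mm
          · rw [hj, Function.update_self, if_pos rfl, hγ', Pi.add_apply, Pi.smul_apply,
              Pi.single_eq_same, smul_eq_mul, mul_one, hY3 v mm (by omega), zero_add, zero_smul,
              zero_add, ← hv₁]
          · rw [Function.update_of_ne hj, if_neg hj, add_zero, hγ', Pi.add_apply, Pi.smul_apply,
              Pi.single_eq_of_ne hj, smul_zero, add_zero]
        rw [Finset.sum_congr rfl fun j _ => h1 j, Finset.sum_add_distrib, Finset.sum_ite_eq',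
          if_pos (Finset.mem_univ mm)]
      rw [hsum, ← sub_sub, ← hv₁, map_sub, map_smul, hcε i (by omega), smul_eq_mul]
      by_cases him : i = mm
      · rw [if_pos him, mul_one, him, sub_self]
      · rw [if_neg him, mul_zero, sub_zero, hv₁]
        apply hY4
        have : i.1 ≠ m := fun h => him (Fin.ext (h.trans hmm.symm))
        omega
    · -- (Y5)
      intro x hx
      rw [hγ', hY5 x hx]
      have h0 : ∑ j, (0 : Fin n → R) j • e' j = 0 :=
        Finset.sum_eq_zero fun j _ => by rw [Pi.zero_apply, zero_smul]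
      rw [h0, sub_zero, hx mm, zero_smul, add_zero]

end Stage

section Summand

variable {R : Type u} [CommRing R] [IsNoetherianRing (R ⧸ (⊥ : Ideal R).jacobson)]
  {P : Type u} [AddCommGroup P] [Module R P] [Module.Projective R P]

/-- **Bass**: every element of a projective module of infinite rank everywhere lies in a finite
free direct summand. -/
theorem exists_finite_free_summand
    (hP : ∀ (m : Ideal R) [m.IsMaximal],
      ¬ Module.Finite (Localization.AtPrime m) (LocalizedModule m.primeCompl P)) (s : P) :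
    ∃ (K K' : Submodule R P), IsCompl K K' ∧ Module.Finite R K ∧ Module.Free R K ∧ s ∈ K := by
  classical
  obtain ⟨n, K₀, K₀', hK, hfree, hfinK, hs⟩ := Groth.Agent.S7109.result R P s
  have hE : ∀ (m : Ideal R) [m.IsMaximal], ¬ Module.Finite (Localization.AtPrime m)
      (LocalizedModule m.primeCompl ((Fin n → R) × P)) := by
    intro 𝔪 _ h
    exact hP 𝔪 (finite_localizedModule_of_surjective _ (LinearMap.snd R (Fin n → R) P)
      LinearMap.snd_surjective h)
  obtain ⟨c, hc⟩ : ∃ c : Fin n → ((Fin n → R) × P →ₗ[R] R), ∀ i v, c i v = v.1 i :=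
    ⟨fun i => (LinearMap.proj i) ∘ₗ (LinearMap.fst R (Fin n → R) P), fun i v => rfl⟩
  obtain ⟨e', lam, γ, hY0, hY1, hY2, hY3, hY4, hY5⟩ :=
    exists_stage hE n c (fun j => ((Pi.single j (1 : R) : Fin n → R), (0 : P)))
      (fun i j => by rw [hc]; exact Pi.single_apply j (1 : R) i) K₀ K₀' hK (Module.Finite.iff_fg.mp hfinK) n le_rfl
  obtain ⟨T, hT⟩ : ∃ T : (Fin n → R) →ₗ[R] (Fin n → R) × P, ∀ a, T a = ∑ j, a j • e' j :=
    ⟨Fintype.linearCombination R e', fun a => Fintype.linearCombination_apply R e' a⟩
  obtain ⟨Λ, hΛ⟩ : ∃ Λ : (Fin n → R) × P →ₗ[R] (Fin n → R), ∀ v i, Λ v i = lam i v :=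
    ⟨LinearMap.pi lam, fun v i => rfl⟩
  have hΛT : ∀ a, Λ (T a) = a := by
    intro a
    funext i
    rw [hΛ, hT, map_sum]
    simp_rw [map_smul, hY2 i _ i.2 (Fin.is_lt _), smul_eq_mul, mul_ite, mul_one, mul_zero]
    rw [Finset.sum_ite_eq, if_pos (Finset.mem_univ i)]
  have hΛK : ∀ k ∈ K₀, Λ k = 0 := by
    intro k hk
    funext i
    rw [hΛ, hY1 i k hk, Pi.zero_apply]
  have hfst : ∀ v, (v - T (γ v)).1 = 0 := by
    intro v
    funext i
    rw [hT, ← hc, hY4 v i i.2, Pi.zero_apply]
  obtain ⟨ρ, hρ⟩ : ∃ ρ : (Fin n → R) × P →ₗ[R] P, ∀ v, ρ v = (v - T (γ v)).2 :=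
    ⟨(LinearMap.snd R (Fin n → R) P) ∘ₗ (LinearMap.id - T ∘ₗ γ), fun v => rfl⟩
  obtain ⟨r, hr⟩ : ∃ r : P →ₗ[R] K₀, ∀ x,
      r x = K₀.projectionOnto K₀' hK (((0 : Fin n → R), x) - T (Λ ((0 : Fin n → R), x))) :=
    ⟨(K₀.projectionOnto K₀' hK) ∘ₗ (LinearMap.id - T ∘ₗ Λ) ∘ₗ (LinearMap.inr R (Fin n → R) P),
      fun x => rfl⟩
  have hrρ : ∀ k : K₀, r (ρ k.1) = k := by
    intro k
    have hσ : ((0 : Fin n → R), ρ k.1) = k.1 - T (γ k.1) := by
      apply Prod.ext
      · exact (hfst k.1).symm
      · exact hρ k.1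
    have hΛσ : Λ (k.1 - T (γ k.1)) = - γ k.1 := by
      rw [map_sub, hΛK k.1 k.2, hΛT, zero_sub]
    rw [hr, hσ, hΛσ, map_neg, sub_neg_eq_add, sub_add_cancel]
    exact Submodule.projectionOnto_apply_left hK k
  have hρs : ρ ((0 : Fin n → R), s) = s := by
    have h0 : γ ((0 : Fin n → R), s) = 0 := hY5 _ fun i => by rw [hc]; rfl
    rw [hρ, h0, map_zero, sub_zero]
  refine ⟨Submodule.map ρ K₀, LinearMap.ker r, ?_, ?_, ?_, ⟨_, hs, hρs⟩⟩
  · constructor
    · rw [Submodule.disjoint_def]
      rintro x ⟨k, hk, rfl⟩ hx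
      rw [LinearMap.mem_ker] at hx
      have h1 := hrρ ⟨k, hk⟩
      rw [hx] at h1
      have h2 : k = 0 := by
        have := congrArg Subtype.val h1
        exact this.symm
      rw [h2, map_zero]
    · rw [codisjoint_iff, eq_top_iff]
      intro x _
      have hx : x = ρ (r x).1 + (x - ρ (r x).1) := by abel
      rw [hx]
      refine Submodule.add_mem _ (Submodule.mem_sup_left ⟨_, (r x).2, rfl⟩)
        (Submodule.mem_sup_right ?_)
      rw [LinearMap.mem_ker, map_sub, hrρ, sub_self]
  all_goals
    obtain ⟨g, hg⟩ : ∃ g : K₀ →ₗ[R] Submodule.map ρ K₀, ∀ k : K₀, (g k : P) = ρ k.1 :=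
      ⟨(ρ.domRestrict K₀).codRestrict _ (fun k => ⟨k.1, k.2, rfl⟩), fun k => rfl⟩
    have hgbij : Function.Bijective g := by
      constructor
      · intro k₁ k₂ h12
        have h3 : ρ k₁.1 = ρ k₂.1 := by rw [← hg, ← hg, h12]
        rw [← hrρ k₁, ← hrρ k₂, h3]
      · rintro ⟨x, k, hk, rfl⟩
        exact ⟨⟨k, hk⟩, Subtype.ext (hg _)⟩
    first
      | exact Module.Finite.equiv (LinearEquiv.ofBijective g hgbij)
      | exact Module.Free.of_equiv (LinearEquiv.ofBijective g hgbij)

end Summand

end Groth.Agent.Lib.T2H7.Bass
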