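import Mathlib
import Groth.Agent.Lib.T2H7Bass2
import Groth.Agent.Lib.Helper14Kaplansky

/-!
# Big projective modules (Bass), part 3 (helper7)

A countably generated projective module of infinite rank everywhere over a ring with `R/rad R`
Noetherian is free.
-/

set_option autoImplicit false
universe u

namespace Groth.Agent.Lib.T2H7.Bass

open Groth.Agent.Lib.Helper14.Kaplansky

section Free

variable {R : Type u} [CommRing R] {P : Type u} [AddCommGroup P] [Module R P]

/-- A module which is the internal direct sum of free submodules is free. -/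
theorem free_of_sSupIndep (𝒞 : Set (Submodule R P)) (hind : sSupIndep 𝒞)
    (hfree : ∀ C ∈ 𝒞, Module.Free R C) (htop : sSup 𝒞 = ⊤) : Module.Free R P := by
  classical
  have key := (DirectSum.isInternal_submodule_iff_iSupIndep_and_iSup_eq_top
    (fun C : 𝒞 => C.1)).mpr ⟨(sSupIndep_iff 𝒞).mp hind, by rw [← sSup_eq_iSup']; exact htop⟩
  have : ∀ C : 𝒞, Module.Free R C.1 := fun C => hfree C.1 C.2
  have hfr : Module.Free R (DirectSum 𝒞 fun C => C.1) :=
    inferInstanceAs (Module.Free R (Π₀ C : 𝒞, C.1))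
  exact Module.Free.of_equiv (LinearEquiv.ofBijective (DirectSum.coeLinearMap _) key)

variable [IsNoetherianRing (R ⧸ (⊥ : Ideal R).jacobson)] [Module.Projective R P]

/-- One step: enlarge a finitely generated independent family of free submodules (whose sum is a
direct summand) so that it contains a given element. -/
theorem exists_step
    (hP : ∀ (m : Ideal R) [m.IsMaximal],
      ¬ Module.Finite (Localization.AtPrime m) (LocalizedModule m.primeCompl P))
    (𝒞 : Set (Submodule R P)) (Q : Submodule R P)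
    (hind : sSupIndep 𝒞) (hfree : ∀ C ∈ 𝒞, Module.Free R C) (hc : IsCompl (sSup 𝒞) Q)
    (hfg : (sSup 𝒞).FG) (x : P) :
    ∃ (𝒞' : Set (Submodule R P)) (Q' : Submodule R P), 𝒞 ⊆ 𝒞' ∧ sSupIndep 𝒞' ∧
      (∀ C ∈ 𝒞', Module.Free R C) ∧ IsCompl (sSup 𝒞') Q' ∧ (sSup 𝒞').FG ∧ x ∈ sSup 𝒞' := by
  classical
  have hQproj : Module.Projective R Q :=
    Module.Projective.of_split Q.subtype (Q.projectionOnto _ hc.symm)
      (Submodule.projectionOnto_comp_subtype hc.symm)
  have hQIR : ∀ (m : Ideal R) [m.IsMaximal],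
      ¬ Module.Finite (Localization.AtPrime m) (LocalizedModule m.primeCompl Q) := by
    intro 𝔪 _ h
    exact hP 𝔪 (finite_localizedModule_of_sup 𝔪.primeCompl Q (sSup 𝒞)
      (by rw [sup_comm]; exact hc.sup_eq_top) hfg h)
  obtain ⟨a, ha, q, hq, rfl⟩ : ∃ a ∈ sSup 𝒞, ∃ q ∈ Q, a + q = x := by
    have : x ∈ sSup 𝒞 ⊔ Q := by rw [hc.sup_eq_top]; trivial
    exact Submodule.mem_sup.mp this
  obtain ⟨K, K', hKK', hKfin, hKfree, hqK⟩ :=
    exists_finite_free_summand (R := R) (P := Q) hQIR (⟨q, hq⟩ : Q)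
  obtain ⟨P', hP'⟩ : ∃ P' : Submodule R P, P' = K.map Q.subtype := ⟨_, rfl⟩
  obtain ⟨Q', hQ'⟩ : ∃ Q' : Submodule R P, Q' = K'.map Q.subtype := ⟨_, rfl⟩
  have hP'Q : P' ≤ Q := by
    rw [hP']
    rintro _ ⟨w, _, rfl⟩
    exact w.2
  have hQ'Q : Q' ≤ Q := by
    rw [hQ']
    rintro _ ⟨z, _, rfl⟩
    exact z.2
  have hP'free : Module.Free R P' := by
    rw [hP']
    exact Module.Free.of_equiv (Submodule.equivMapOfInjective Q.subtype Q.injective_subtype K)
  have hP'fg : P'.FG := by
    rw [hP']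
    exact (Module.Finite.iff_fg.mp hKfin).map _
  have hdisj1 : Disjoint P' Q' := by
    rw [hP', hQ']
    exact Submodule.disjoint_map Q.injective_subtype hKK'.disjoint
  have hsup1 : P' ⊔ Q' = Q := by
    rw [hP', hQ', ← Submodule.map_sup, hKK'.sup_eq_top, Submodule.map_top, Submodule.range_subtype]
  have hdisjA : Disjoint P' (sSup 𝒞) := (hc.disjoint.mono_right hP'Q).symm
  refine ⟨insert P' 𝒞, Q', Set.subset_insert _ _, sSupIndep_insert hind hdisjA, ?_, ?_, ?_, ?_⟩
  · intro C hC
    rcases hC with rfl | hC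
    · exact hP'free
    · exact hfree C hC
  · rw [sSup_insert, sup_comm]
    constructor
    · apply Disjoint.disjoint_sup_left_of_disjoint_sup_right hdisj1
      rw [hsup1]
      exact hc.disjoint
    · rw [codisjoint_iff, sup_assoc, hsup1]
      exact hc.sup_eq_top
  · rw [sSup_insert]
    exact hP'fg.sup hfg
  · rw [sSup_insert]
    apply Submodule.add_mem
    · exact Submodule.mem_sup_right ha
    · apply Submodule.mem_sup_left
      rw [hP']
      exact ⟨⟨q, hq⟩, hqK, rfl⟩

/-- **Bass**: a countably generated projective module of infinite rank everywhere is free. -/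
theorem free_of_countablyGenerated
    (hP : ∀ (m : Ideal R) [m.IsMaximal],
      ¬ Module.Finite (Localization.AtPrime m) (LocalizedModule m.primeCompl P))
    (s : Set P) (hs : s.Countable) (hspan : Submodule.span R s = ⊤) : Module.Free R P := by
  classical
  have hs' : (s ∪ {0}).Countable := hs.union (Set.countable_singleton 0)
  obtain ⟨x, hx⟩ := hs'.exists_eq_range ⟨0, Or.inr rfl⟩
  have hxspan : Submodule.span R (Set.range x) = ⊤ := by
    rw [← hx, eq_top_iff, ← hspan]
    exact Submodule.span_mono Set.subset_union_left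
  -- stages
  let St : Type u := {p : Set (Submodule R P) × Submodule R P //
    sSupIndep p.1 ∧ (∀ C ∈ p.1, Module.Free R C) ∧ IsCompl (sSup p.1) p.2 ∧ (sSup p.1).FG}
  have hstep : ∀ (p : St) (y : P), ∃ p' : St, p.1.1 ⊆ p'.1.1 ∧ y ∈ sSup p'.1.1 := by
    intro p y
    obtain ⟨𝒞', Q', h1, h2, h3, h4, h5, h6⟩ :=
      exists_step hP p.1.1 p.1.2 p.2.1 p.2.2.1 p.2.2.2.1 p.2.2.2.2 y
    exact ⟨⟨(𝒞', Q'), h2, h3, h4, h5⟩, h1, h6⟩
  choose next hnext1 hnext2 using hstep
  let p₀ : St := ⟨(∅, ⊤), by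
    refine ⟨?_, ?_, ?_, ?_⟩
    · intro a ha; exact absurd ha (Set.notMem_empty a)
    · intro C hC; exact absurd hC (Set.notMem_empty C)
    · rw [sSup_empty]; exact isCompl_bot_top
    · rw [sSup_empty]; exact Submodule.fg_bot⟩
  let st : ℕ → St := fun n => Nat.rec (motive := fun _ => St) p₀ (fun n p => next p (x n)) n
  have hst1 : ∀ n : ℕ, (st n).1.1 ⊆ (st (n + 1)).1.1 := fun n => hnext1 _ _
  have hst2 : ∀ n : ℕ, x n ∈ sSup (st (n + 1)).1.1 := fun n => hnext2 _ _
  have hmono : Monotone fun n : ℕ => (st n).1.1 := monotone_nat_of_le_succ hst1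
  apply free_of_sSupIndep (⋃ n, (st n).1.1)
  · apply sSupIndep_iUnion_of_directed hmono.directed_le
    exact fun n => (st n).2.1
  · intro C hC
    obtain ⟨n, hn⟩ := Set.mem_iUnion.mp hC
    exact (st n).2.2.1 C hn
  · rw [eq_top_iff, ← hxspan, Submodule.span_le]
    rintro _ ⟨n, rfl⟩
    exact sSup_le_sSup (Set.subset_iUnion (fun n => (st n).1.1) (n + 1)) (hst2 n)

end Free

end Groth.Agent.Lib.T2H7.Bass
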