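import Mathlib

/-!
# The base change `X_i ×_Y V` of a system over a fixed base along a map `V ⟶ Y` (helper7)
-/

set_option autoImplicit false
set_option linter.unusedSectionVars false
set_option linter.unusedVariables false
set_option linter.style.haveILetI false
universe w v u
open CategoryTheory CategoryTheory.Limits

namespace Groth.Agent.Lib.T2H7.BcSys

variable {C : Type u} [Category.{v} C] [HasPullbacks C]

section

variable {W X Y Z S T : C} (f₁ : W ⟶ S) (f₂ : X ⟶ S)
  (g₁ : Y ⟶ T) (g₂ : Z ⟶ T) (i₁ : W ⟶ Y) (i₂ : X ⟶ Z) (i₃ : S ⟶ T)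
  (eq₁ : f₁ ≫ i₃ = i₁ ≫ g₁) (eq₂ : f₂ ≫ i₃ = i₂ ≫ g₂)

@[reassoc (attr := simp)]
theorem map_fst' : pullback.map f₁ f₂ g₁ g₂ i₁ i₂ i₃ eq₁ eq₂ ≫ pullback.fst g₁ g₂ =
    pullback.fst f₁ f₂ ≫ i₁ := pullback.lift_fst _ _ _

@[reassoc (attr := simp)]
theorem map_snd' : pullback.map f₁ f₂ g₁ g₂ i₁ i₂ i₃ eq₁ eq₂ ≫ pullback.snd g₁ g₂ =
    pullback.snd f₁ f₂ ≫ i₂ := pullback.lift_snd _ _ _

end

section system

variable {I : Type w} [Category I] (D : I ⥤ C) {Y V : C} (t : D ⟶ (Functor.const I).obj Y)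
  (v : V ⟶ Y)

theorem t_nat {i j : I} (φ : i ⟶ j) : t.app i ≫ 𝟙 Y = D.map φ ≫ t.app j := by
  have := t.naturality φ
  simp only [Functor.const_obj_obj, Functor.const_obj_map] at this
  exact this.symm

theorem t_nat' {i j : I} (φ : i ⟶ j) : D.map φ ≫ t.app j = t.app i :=
  (t_nat D t φ).symm.trans (Category.comp_id _)

theorem v_nat : v ≫ 𝟙 Y = 𝟙 V ≫ v := by simp

/-- the system `X_i ×_Y V`. -/
noncomputable def Bs : I ⥤ C where
  obj i := pullback (t.app i) v
  map {i j} φ := pullback.map (t.app i) v (t.app j) v (D.map φ) (𝟙 V) (𝟙 Y)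
    (t_nat D t φ) (v_nat v)
  map_id i := by
    apply pullback.hom_ext <;> simp
  map_comp φ ψ := by
    apply pullback.hom_ext <;> simp

variable (c : Cone D) (g : c.pt ⟶ Y)

theorem g_nat (hg : ∀ i, c.π.app i ≫ t.app i = g) (i : I) :
    g ≫ 𝟙 Y = c.π.app i ≫ t.app i := by
  rw [Category.comp_id, hg]

/-- the cone with vertex `X ×_Y V`. -/
noncomputable def Bc (hg : ∀ i, c.π.app i ≫ t.app i = g) : Cone (Bs D t v) where
  pt := pullback g v
  π :=
    { app := fun i => pullback.map g v (t.app i) v (c.π.app i) (𝟙 V) (𝟙 Y)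
        (g_nat D t c g hg i) (v_nat v)
      naturality := fun i j φ => by
        apply pullback.hom_ext <;> simp [Bs] }

/-- the first projection of a stage of the system. -/
noncomputable def p1 (i : I) : (Bs D t v).obj i ⟶ D.obj i := pullback.fst _ _

/-- the second projection of a stage of the system. -/
noncomputable def p2 (i : I) : (Bs D t v).obj i ⟶ V := pullback.snd _ _

theorem p_cond (i : I) : p1 D t v i ≫ t.app i = p2 D t v i ≫ v := pullback.condition

theorem isPullback_p (i : I) : IsPullback (p1 D t v i) (p2 D t v i) (t.app i) v :=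
  IsPullback.of_hasPullback _ _

@[reassoc]
theorem map_p1 {i j : I} (φ : i ⟶ j) : (Bs D t v).map φ ≫ p1 D t v j = p1 D t v i ≫ D.map φ := by
  simp [Bs, p1]

@[reassoc]
theorem map_p2 {i j : I} (φ : i ⟶ j) : (Bs D t v).map φ ≫ p2 D t v j = p2 D t v i := by
  simp [Bs, p2]

/-- the first projection of the vertex. -/
noncomputable def q1 (hg : ∀ i, c.π.app i ≫ t.app i = g) : (Bc D t v c g hg).pt ⟶ c.pt :=
  pullback.fst g v

/-- the second projection of the vertex. -/
noncomputable def q2 (hg : ∀ i, c.π.app i ≫ t.app i = g) : (Bc D t v c g hg).pt ⟶ V :=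
  pullback.snd g v

theorem isPullback_q (hg : ∀ i, c.π.app i ≫ t.app i = g) :
    IsPullback (q1 D t v c g hg) (q2 D t v c g hg) g v :=
  IsPullback.of_hasPullback _ _

@[reassoc]
theorem π_p1 (hg : ∀ i, c.π.app i ≫ t.app i = g) (i : I) :
    (Bc D t v c g hg).π.app i ≫ p1 D t v i = q1 D t v c g hg ≫ c.π.app i :=
  pullback.lift_fst _ _ _

@[reassoc]
theorem π_p2 (hg : ∀ i, c.π.app i ≫ t.app i = g) (i : I) :
    (Bc D t v c g hg).π.app i ≫ p2 D t v i = q2 D t v c g hg := by
  have : (Bc D t v c g hg).π.app i ≫ p2 D t v i = q2 D t v c g hg ≫ 𝟙 V :=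
    pullback.lift_snd _ _ _
  rw [this, Category.comp_id]

/-- the transition maps of the system are base changes of those of the original system. -/
theorem isPullback_map {i j : I} (φ : i ⟶ j) :
    IsPullback ((Bs D t v).map φ) (p1 D t v i) (p1 D t v j) (D.map φ) := by
  refine IsPullback.of_right ?_ (map_p1 D t v φ) (isPullback_p D t v j).flip
  rw [map_p2, t_nat' D t φ]
  exact (isPullback_p D t v i).flip

/-- the projections of the vertex are base changes of those of the original cone. -/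
theorem isPullback_π (hg : ∀ i, c.π.app i ≫ t.app i = g) (i : I) :
    IsPullback ((Bc D t v c g hg).π.app i) (q1 D t v c g hg) (p1 D t v i) (c.π.app i) := by
  refine IsPullback.of_right ?_ (π_p1 D t v c g hg i) (isPullback_p D t v i).flip
  rw [π_p2, hg i]
  exact (isPullback_q D t v c g hg).flip

theorem B_hom_ext {T : C} {i : I} (f g : T ⟶ (Bs D t v).obj i)
    (h1 : f ≫ p1 D t v i = g ≫ p1 D t v i) (h2 : f ≫ p2 D t v i = g ≫ p2 D t v i) : f = g :=
  pullback.hom_ext h1 h2

theorem Bc_hom_ext (hg : ∀ i, c.π.app i ≫ t.app i = g) {T : C} (f f' : T ⟶ (Bc D t v c g hg).pt)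
    (h1 : f ≫ q1 D t v c g hg = f' ≫ q1 D t v c g hg)
    (h2 : f ≫ q2 D t v c g hg = f' ≫ q2 D t v c g hg) : f = f' :=
  pullback.hom_ext h1 h2

/-- the lift to the vertex. -/
noncomputable def BcLift (hg : ∀ i, c.π.app i ≫ t.app i = g) {T : C} (a : T ⟶ c.pt) (b : T ⟶ V)
    (h : a ≫ g = b ≫ v) : T ⟶ (Bc D t v c g hg).pt := pullback.lift a b h

@[reassoc]
theorem BcLift_q1 (hg : ∀ i, c.π.app i ≫ t.app i = g) {T : C} (a : T ⟶ c.pt) (b : T ⟶ V)
    (h : a ≫ g = b ≫ v) : BcLift D t v c g hg a b h ≫ q1 D t v c g hg = a :=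
  pullback.lift_fst _ _ _

@[reassoc]
theorem BcLift_q2 (hg : ∀ i, c.π.app i ≫ t.app i = g) {T : C} (a : T ⟶ c.pt) (b : T ⟶ V)
    (h : a ≫ g = b ≫ v) : BcLift D t v c g hg a b h ≫ q2 D t v c g hg = b :=
  pullback.lift_snd _ _ _

/-- `X ×_Y V` is the limit of the system `X_i ×_Y V`. -/
noncomputable def isLimitBc [IsCofiltered I] (hg : ∀ i, c.π.app i ≫ t.app i = g)
    (hc : IsLimit c) : IsLimit (Bc D t v c g hg) := by
  let c1 : ∀ s : Cone (Bs D t v), Cone D := fun s =>
    { pt := s.pt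
      π :=
        { app := fun i => s.π.app i ≫ p1 D t v i
          naturality := fun i j φ => by
            have h := s.w φ
            simp only [Functor.const_obj_obj, Functor.const_obj_map, Category.id_comp]
            rw [← h, Category.assoc, Category.assoc, map_p1] } }
  have hf1 : ∀ (s : Cone (Bs D t v)) (i : I),
      hc.lift (c1 s) ≫ c.π.app i = s.π.app i ≫ p1 D t v i := fun s i => hc.fac (c1 s) i
  have i₀ : I := (IsCofiltered.nonempty (C := I)).some
  have hb : ∀ (s : Cone (Bs D t v)) (i : I),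
      s.π.app i ≫ p2 D t v i = s.π.app i₀ ≫ p2 D t v i₀ := by
    intro s i
    rw [← s.w (IsCofiltered.minToLeft i i₀), Category.assoc, map_p2,
      ← s.w (IsCofiltered.minToRight i i₀), Category.assoc, map_p2]
  have hcond : ∀ s : Cone (Bs D t v),
      hc.lift (c1 s) ≫ g = (s.π.app i₀ ≫ p2 D t v i₀) ≫ v := by
    intro s
    rw [← hg i₀, ← Category.assoc, hf1, Category.assoc, Category.assoc, p_cond]
  refine
    { lift := fun s => BcLift D t v c g hg (hc.lift (c1 s)) (s.π.app i₀ ≫ p2 D t v i₀) (hcond s)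
      fac := fun s i => ?_
      uniq := fun s l hl => ?_ }
  · apply B_hom_ext
    · rw [Category.assoc, π_p1, BcLift_q1_assoc, hf1]
    · rw [Category.assoc, π_p2, BcLift_q2, hb s i]
  · apply Bc_hom_ext
    · rw [BcLift_q1]
      apply hc.hom_ext
      intro i
      rw [hf1, ← hl i, Category.assoc, Category.assoc, π_p1]
    · rw [BcLift_q2, ← hl i₀, Category.assoc, π_p2]

end system

end Groth.Agent.Lib.T2H7.BcSys
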