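import Mathlib
import Groth.Prelude.Def_AlgGrp
import Groth.Agent.Lib.T2H7MumF
import Groth.Agent.Lib.T2H7AbFib
import Groth.Agent.Lib.T2H7AbAut

set_option autoImplicit false
set_option linter.unusedSectionVars false
set_option linter.unusedVariables false
set_option linter.style.haveILetI false

universe u

namespace Groth.Agent.Lib.T2H7.ProdAct

open CategoryTheory CategoryTheory.Limits AlgebraicGeometry MonoidalCategory
  CartesianMonoidalCategory MonObj GrpObj

section Conn

/-- The total space of a proper flat family with `H⁰(fibre) = κ` over a connected base is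
connected. -/
theorem connectedSpace_of_h0 {S X : Scheme.{u}} (p : X ⟶ S) [IsLocallyNoetherian S] [IsProper p]
    [Flat p]
    (h0 : ∀ s : S, Function.Bijective (pullback.snd p (S.fromSpecResidueField s)).appTop.hom)
    [ConnectedSpace S] : ConnectedSpace X := by
  have hq := Groth.Agent.Lib.T2H7.MumD.isQuotientMap_of_h0 p h0
  have h1 := Topology.IsCoinducing.isConnected_preimage_of_isClosed
    (fun s => Groth.Agent.Lib.T2H7.MumD.isConnected_fibre p s (h0 s)) hq.isCoinducing
    isClosed_univ isConnected_univ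
  rw [Set.preimage_univ] at h1
  exact connectedSpace_iff_univ.mpr h1

end Conn

section Factor

variable (S : Scheme.{u}) [IsLocallyNoetherian S]

/-- **Rigidity, product form.** A morphism `f : B × Z → W` over `S`, with `Z` proper flat with
`H⁰(Z_s) = κ(s)`, `W` separated, `B` connected, which over some nonempty `T → B` factors through
the projection to `T`, factors through the projection to `B`. -/
theorem exists_factor_fst (B Z W T : Over S) [IsProper Z.hom] [Flat Z.hom]
    (h0 : ∀ s : S, Function.Bijective (pullback.snd Z.hom (S.fromSpecResidueField s)).appTop.hom)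
    [IsSeparated W.hom] [IsLocallyNoetherian B.left] [ConnectedSpace B.left] [Nonempty T.left]
    (j : T ⟶ B) (t : T ⟶ W) (f : B ⊗ Z ⟶ W) (hj : (j ▷ Z) ≫ f = fst T Z ≫ t) :
    ∃ g : B ⟶ W, f = fst B Z ≫ g := by
  classical
  let p' : pullback B.hom Z.hom ⟶ B.left := pullback.fst B.hom Z.hom
  let q' : pullback W.hom B.hom ⟶ B.left := pullback.snd W.hom B.hom
  have hfw : f.left ≫ W.hom = pullback.fst B.hom Z.hom ≫ B.hom := by
    rw [Over.w f, Over.tensorObj_hom]
  let f' : pullback B.hom Z.hom ⟶ pullback W.hom B.hom := pullback.lift f.left p' hfw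
  have hf' : f' ≫ q' = p' := pullback.lift_snd _ _ _
  have hf'1 : f' ≫ pullback.fst W.hom B.hom = f.left := pullback.lift_fst _ _ _
  have h0' : ∀ b : B.left, Function.Bijective
      (pullback.snd p' (B.left.fromSpecResidueField b)).appTop.hom := by
    intro b
    exact Groth.Agent.Lib.T2H7.MumD.appTop_snd_bijective_of_isPullback
      (IsPullback.of_hasPullback B.hom Z.hom).flip b (h0 _)
  -- the base change square along `j`
  have hj1 : (j ▷ Z).left ≫ pullback.fst B.hom Z.hom = pullback.fst T.hom Z.hom ≫ j.left := by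
    have := congrArg (fun k : T ⊗ Z ⟶ B => k.left) (whiskerRight_fst j Z)
    exact this
  have hj2 : (j ▷ Z).left ≫ pullback.snd B.hom Z.hom = pullback.snd T.hom Z.hom := by
    have := congrArg (fun k : T ⊗ Z ⟶ Z => k.left) (whiskerRight_snd j Z)
    exact this
  have Hj : IsPullback (j ▷ Z).left (pullback.fst T.hom Z.hom) p' j.left := by
    refine IsPullback.of_right ?_ hj1 (IsPullback.of_hasPullback B.hom Z.hom).flip
    rw [hj2, Over.w j]
    exact (IsPullback.of_hasPullback T.hom Z.hom).flip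
  have hcw : t.left ≫ W.hom = j.left ≫ B.hom := by
    rw [Over.w t, Over.w j]
  let c : T.left ⟶ pullback W.hom B.hom := pullback.lift t.left j.left hcw
  have hjf' : (j ▷ Z).left ≫ f' = pullback.fst T.hom Z.hom ≫ c := by
    apply pullback.hom_ext
    · rw [Category.assoc, hf'1, Category.assoc, pullback.lift_fst]
      have := congrArg (fun k : T ⊗ Z ⟶ W => k.left) hj
      exact this
    · rw [Category.assoc, pullback.lift_snd, Category.assoc, pullback.lift_snd, hj1]
  have hcoll : ∀ (t₀ : T.left) (z : ↥(pullback B.hom Z.hom)), p'.base z = j.left.base t₀ →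
      f'.base z = c.base t₀ := by
    intro t₀ z hz
    obtain ⟨z', hz1, hz2⟩ := Scheme.exists_preimage_of_isPullback Hj z t₀ hz
    have h1 := congrArg (fun k : (T ⊗ Z).left ⟶ pullback W.hom B.hom => k.base z') hjf'
    simp only [Scheme.Hom.comp_base, TopCat.comp_app] at h1
    rw [hz1, hz2] at h1
    exact h1
  have hclopen := Groth.Agent.Lib.T2H7.MumD.isClopen_locus p' q' f' hf' h0'
  obtain ⟨t₀⟩ := (inferInstance : Nonempty T.left)
  have huniv := hclopen.eq_univ ⟨j.left.base t₀, c.base t₀, fun z hz => hcoll t₀ z hz⟩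
  have hmem : ∀ b : B.left, b ∈ {b : B.left | ∃ w : ↥(pullback W.hom B.hom),
      ∀ z : ↥(pullback B.hom Z.hom), p'.base z = b → f'.base z = w} := by
    intro b
    rw [huniv]
    trivial
  obtain ⟨s₀, hs₀, hhs₀⟩ := Groth.Agent.Lib.T2H7.MumF.exists_section_of_forall p' q' f' hf' h0'
    (fun z z' hzz' => by
      obtain ⟨w, hw⟩ := hmem (p'.base z')
      rw [hw z hzz', hw z' rfl])
  have hgw : (s₀ ≫ pullback.fst W.hom B.hom) ≫ W.hom = B.hom := by
    rw [Category.assoc, pullback.condition, ← Category.assoc, hs₀, Category.id_comp]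
  refine ⟨Over.homMk (s₀ ≫ pullback.fst W.hom B.hom) hgw, ?_⟩
  apply Over.OverMorphism.ext
  show f.left = pullback.fst B.hom Z.hom ≫ s₀ ≫ pullback.fst W.hom B.hom
  rw [← hf'1, hhs₀, Category.assoc]

end Factor

section Formal

variable {S : Scheme.{u}}

/-- cancellation of a whiskered split epimorphism -/
theorem whiskerLeft_cancel {P X : Over S} (π : P ⟶ X) (σ : X ⟶ P) (hσ : σ ≫ π = 𝟙 X)
    (K : Over S) {Z : Over S} (u v : K ⊗ X ⟶ Z) (h : (K ◁ π) ≫ u = (K ◁ π) ≫ v) : u = v := by
  have h1 := congrArg (fun t => (K ◁ σ) ≫ t) h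
  simp only [← Category.assoc, ← MonoidalCategory.whiskerLeft_comp, hσ,
    MonoidalCategory.whiskerLeft_id, Category.id_comp] at h1
  exact h1

/-- An action on `P` descends along a split epimorphism `π : P → X` through which it factors. -/
theorem exists_action_of_factor {G P X : Over S} [GrpObj G] (a : AlgGrp.Action G P) (π : P ⟶ X)
    (σ : X ⟶ P) (hσ : σ ≫ π = 𝟙 X) (b : G ⊗ X ⟶ X) (hb : a.act ≫ π = (G ◁ π) ≫ b) :
    ∃ b' : AlgGrp.Action G X, b'.act = b := by
  refine ⟨⟨b, ?_, ?_⟩, rfl⟩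
  · apply whiskerLeft_cancel π σ hσ
    rw [← Category.assoc, whisker_exchange, Category.assoc, ← hb, ← Category.assoc, a.one_act,
      leftUnitor_naturality]
  · apply whiskerLeft_cancel π σ hσ
    rw [← Category.assoc, whisker_exchange, Category.assoc, ← hb, ← Category.assoc, a.mul_act]
    simp only [Category.assoc]
    rw [hb, ← MonoidalCategory.whiskerLeft_comp_assoc, hb, MonoidalCategory.whiskerLeft_comp_assoc,
      associator_naturality_right_assoc]

end Formal

section Field

variable (k : Type u) [Field k] [IsAlgClosed k]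

/-- `H⁰(Y) = k` on fibres for `Y` proper integral over an algebraically closed field. -/
theorem h0_of_integral (Y : Over (Spec (CommRingCat.of k))) [IsProper Y.hom] [IsIntegral Y.left] :
    ∀ s : ↥(Spec (CommRingCat.of k)), Function.Bijective
      (pullback.snd Y.hom ((Spec (CommRingCat.of k)).fromSpecResidueField s)).appTop.hom := by
  have hΓ : Function.Bijective Y.hom.appTop.hom :=
    Groth.Agent.Lib.T2H7.MumF.appTop_bijective_of_isAlgClosed_of_connected Y.hom
  exact fun s => Groth.Agent.Lib.T2H7.AbFib.appTop_snd_bijective_of_field Y.hom hΓ s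

variable (G X Y : Over (Spec (CommRingCat.of k))) [GrpObj G] [LocallyOfFiniteType G.hom]
  [ConnectedSpace ↥G.left] [IsProper X.hom] [IsIntegral X.left] [IsProper Y.hom]
  [IsIntegral Y.left]

theorem connectedSpace_tensor : ConnectedSpace ↥(G ⊗ X).left := by
  have hGN : IsLocallyNoetherian G.left := LocallyOfFiniteType.isLocallyNoetherian G.hom
  have hflat : Flat X.hom := inferInstance
  have h0 := h0_of_integral k X
  have h0' : ∀ g : G.left, Function.Bijective
      (pullback.snd (pullback.fst G.hom X.hom) (G.left.fromSpecResidueField g)).appTop.hom := by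
    intro g
    exact Groth.Agent.Lib.T2H7.MumD.appTop_snd_bijective_of_isPullback
      (IsPullback.of_hasPullback G.hom X.hom).flip g (h0 _)
  exact connectedSpace_of_h0 (pullback.fst G.hom X.hom) h0'

/-- A family of maps `G × X × Y → X` restricting to the projection at the unit of `G` does not
depend on `Y`. -/
theorem exists_factor_whiskerLeft_fst (φ : G ⊗ (X ⊗ Y) ⟶ X)
    (hφ : (η[G] ▷ (X ⊗ Y)) ≫ φ = (λ_ (X ⊗ Y)).hom ≫ fst X Y) :
    ∃ b : G ⊗ X ⟶ X, φ = (G ◁ fst X Y) ≫ b := by
  have hflat : Flat Y.hom := inferInstance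
  have h0 := h0_of_integral k Y
  have hft : LocallyOfFiniteType (G ⊗ X).hom := by
    rw [Over.tensorObj_hom]
    infer_instance
  have hBN : IsLocallyNoetherian (G ⊗ X).left := LocallyOfFiniteType.isLocallyNoetherian (G ⊗ X).hom
  have hBc : ConnectedSpace ↥(G ⊗ X).left := connectedSpace_tensor k G X
  have hsep : IsSeparated X.hom := inferInstance
  have hne : Nonempty ↥X.left := inferInstance
  obtain ⟨j, hjd⟩ : ∃ j : X ⟶ G ⊗ X, j = lift (toUnit X ≫ η[G]) (𝟙 X) := ⟨_, rfl⟩
  have e1 : (j ▷ Y) ≫ (α_ G X Y).hom = (λ_ (X ⊗ Y)).inv ≫ (η[G] ▷ (X ⊗ Y)) := by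
    rw [hjd]
    apply CartesianMonoidalCategory.hom_ext
    · simp only [Category.assoc, associator_hom_fst, whiskerRight_fst_assoc, lift_fst,
        whiskerRight_fst, leftUnitor_inv_fst_assoc]
      rw [← Category.assoc, toUnit_unique (fst X Y ≫ toUnit X) (toUnit (X ⊗ Y))]
    · apply CartesianMonoidalCategory.hom_ext
      · simp only [Category.assoc, associator_hom_snd_fst, whiskerRight_fst_assoc, lift_snd,
          whiskerRight_snd, leftUnitor_inv_snd_assoc, Category.comp_id]
      · simp only [Category.assoc, associator_hom_snd_snd, whiskerRight_snd,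
          leftUnitor_inv_snd_assoc]
  have hj : (j ▷ Y) ≫ ((α_ G X Y).hom ≫ φ) = fst X Y ≫ 𝟙 X := by
    rw [← Category.assoc, e1, Category.assoc, hφ, Iso.inv_hom_id_assoc, Category.comp_id]
  obtain ⟨b, hb⟩ := exists_factor_fst (Spec (CommRingCat.of k)) (G ⊗ X) Y X X h0 j (𝟙 X)
    ((α_ G X Y).hom ≫ φ) hj
  refine ⟨b, ?_⟩
  have e2 : (α_ G X Y).inv ≫ fst (G ⊗ X) Y = G ◁ fst X Y := by
    apply CartesianMonoidalCategory.hom_ext
    · simp only [Category.assoc, associator_inv_fst_fst, whiskerLeft_fst]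
    · simp only [Category.assoc, associator_inv_fst_snd, whiskerLeft_snd]
  rw [← e2, Category.assoc, ← hb, Iso.inv_hom_id_assoc]

/-- Symmetric form of `exists_factor_whiskerLeft_fst`. -/
theorem exists_factor_whiskerLeft_snd (φ : G ⊗ (X ⊗ Y) ⟶ Y)
    (hφ : (η[G] ▷ (X ⊗ Y)) ≫ φ = (λ_ (X ⊗ Y)).hom ≫ snd X Y) :
    ∃ c : G ⊗ Y ⟶ Y, φ = (G ◁ snd X Y) ≫ c := by
  have hφ' : (η[G] ▷ (Y ⊗ X)) ≫ ((G ◁ (β_ Y X).hom) ≫ φ) = (λ_ (Y ⊗ X)).hom ≫ fst Y X := by
    rw [← Category.assoc, ← whisker_exchange, Category.assoc, hφ, ← Category.assoc,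
      leftUnitor_naturality, Category.assoc, braiding_hom_snd]
  obtain ⟨c, hc⟩ := exists_factor_whiskerLeft_fst k G Y X ((G ◁ (β_ Y X).hom) ≫ φ) hφ'
  refine ⟨c, ?_⟩
  have e : (G ◁ (β_ X Y).hom) ≫ (G ◁ (β_ Y X).hom) = 𝟙 _ := by
    rw [← MonoidalCategory.whiskerLeft_comp, SymmetricCategory.symmetry,
      MonoidalCategory.whiskerLeft_id]
  calc φ = (G ◁ (β_ X Y).hom) ≫ ((G ◁ (β_ Y X).hom) ≫ φ) := by
        rw [← Category.assoc, e, Category.id_comp]
    _ = (G ◁ (β_ X Y).hom) ≫ (G ◁ fst Y X) ≫ c := by rw [hc]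
    _ = (G ◁ snd X Y) ≫ c := by
        rw [← Category.assoc, ← MonoidalCategory.whiskerLeft_comp, braiding_hom_fst]

theorem action_ext {S : Scheme.{u}} {G X : Over S} [GrpObj G] (b b' : AlgGrp.Action G X)
    (h : b'.act = b.act) : b' = b := by
  cases b
  cases b'
  simp only [AlgGrp.Action.mk.injEq]
  exact h

/-- **Actions of a connected group on a product of complete varieties are product actions.** -/
theorem product_action (a : AlgGrp.Action G (X ⊗ Y)) :
    ∃ (b : AlgGrp.Action G X) (c : AlgGrp.Action G Y),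
      a.act = lift ((G ◁ fst X Y) ≫ b.act) ((G ◁ snd X Y) ≫ c.act) ∧
      ∀ (b' : AlgGrp.Action G X) (c' : AlgGrp.Action G Y),
        a.act = lift ((G ◁ fst X Y) ≫ b'.act) ((G ◁ snd X Y) ≫ c'.act) → b' = b ∧ c' = c := by
  have hXft : LocallyOfFiniteType X.hom := inferInstance
  have hYft : LocallyOfFiniteType Y.hom := inferInstance
  have hXne : Nonempty ↥X.left := inferInstance
  have hYne : Nonempty ↥Y.left := inferInstance
  obtain ⟨x₀⟩ := Groth.Agent.Lib.T2H7.AbAut.exists_rational_point k X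
  obtain ⟨y₀⟩ := Groth.Agent.Lib.T2H7.AbAut.exists_rational_point k Y
  obtain ⟨σX, hσXd⟩ : ∃ σ : X ⟶ X ⊗ Y, σ = lift (𝟙 X) (toUnit X ≫ y₀) := ⟨_, rfl⟩
  obtain ⟨σY, hσYd⟩ : ∃ σ : Y ⟶ X ⊗ Y, σ = lift (toUnit Y ≫ x₀) (𝟙 Y) := ⟨_, rfl⟩
  have hσX : σX ≫ fst X Y = 𝟙 X := by rw [hσXd, lift_fst]
  have hσY : σY ≫ snd X Y = 𝟙 Y := by rw [hσYd, lift_snd]
  obtain ⟨b₀, hb₀⟩ := exists_factor_whiskerLeft_fst k G X Y (a.act ≫ fst X Y)
    (by rw [← Category.assoc, a.one_act])
  obtain ⟨c₀, hc₀⟩ := exists_factor_whiskerLeft_snd k G X Y (a.act ≫ snd X Y)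
    (by rw [← Category.assoc, a.one_act])
  obtain ⟨b, hb⟩ := exists_action_of_factor a (fst X Y) σX hσX b₀ hb₀
  obtain ⟨c, hc⟩ := exists_action_of_factor a (snd X Y) σY hσY c₀ hc₀
  refine ⟨b, c, ?_, ?_⟩
  · apply CartesianMonoidalCategory.hom_ext
    · rw [lift_fst, hb, hb₀]
    · rw [lift_snd, hc, hc₀]
  · intro b' c' h
    constructor
    · apply action_ext
      apply whiskerLeft_cancel (fst X Y) σX hσX
      rw [hb, ← hb₀, h, lift_fst]
    · apply action_ext
      apply whiskerLeft_cancel (snd X Y) σY hσY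
      rw [hc, ← hc₀, h, lift_snd]

end Field

end Groth.Agent.Lib.T2H7.ProdAct
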