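import Mathlib
import Groth.Prelude.Def_AlgGrp
import Groth.Agent.Lib.T2H7ActDescend
import Groth.Agent.Lib.T2H7ProdAct
import Groth.Agent.Lib.T2H9ConnGeom
import Groth.Agent.Lib.Helper12GeomConn
import Groth.Agent.Lib.Helper10RedInd

set_option autoImplicit false
set_option linter.unusedSectionVars false
set_option linter.unusedVariables false
set_option linter.style.haveILetI false

universe u

namespace Groth.Agent.Lib.T2H7.Blanchard

open CategoryTheory CategoryTheory.Limits AlgebraicGeometry MonoidalCategory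
  CartesianMonoidalCategory MonObj GrpObj

section Core

variable {K : Type u} [Field K]

/-- Rigidity for a constant family `S' ×_K Fr → S'`: a map to a separated target which contracts
the fibre over a rational point `e₀` factors through `S'`. -/
theorem core {S' Fr Y₀ B : Scheme.{u}}
    (πS : S' ⟶ Spec (CommRingCat.of K)) (πr : Fr ⟶ Spec (CommRingCat.of K))
    [IsLocallyNoetherian S'] [ConnectedSpace S'] [IsProper πr] [Flat πr]
    (h0 : ∀ s : ↥(Spec (CommRingCat.of K)), Function.Bijective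
      (pullback.snd πr ((Spec (CommRingCat.of K)).fromSpecResidueField s)).appTop.hom)
    (qY : Y₀ ⟶ B) [IsSeparated qY] (b : S' ⟶ B)
    (Ψ : pullback πS πr ⟶ Y₀) (hΨ : Ψ ≫ qY = pullback.fst πS πr ≫ b)
    (e₀ : Spec (CommRingCat.of K) ⟶ S') (he₀ : e₀ ≫ πS = 𝟙 _) (y₀ : Spec (CommRingCat.of K) ⟶ Y₀)
    (σ : Fr ⟶ pullback πS πr) (hσ1 : σ ≫ pullback.fst πS πr = πr ≫ e₀)
    (hσ2 : σ ≫ pullback.snd πS πr = 𝟙 Fr)
    (he : σ ≫ Ψ = πr ≫ y₀) :
    ∃ t : S' ⟶ Y₀, Ψ = pullback.fst πS πr ≫ t := by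
  obtain ⟨p', hp'd⟩ : ∃ p' : pullback πS πr ⟶ S', p' = pullback.fst πS πr := ⟨_, rfl⟩
  have hprop : IsProper p' := by rw [hp'd]; infer_instance
  have hflat : Flat p' := by rw [hp'd]; infer_instance
  have h0' : ∀ s : S', Function.Bijective
      (pullback.snd p' (S'.fromSpecResidueField s)).appTop.hom := by
    intro s
    rw [hp'd]
    exact Groth.Agent.Lib.T2H7.MumD.appTop_snd_bijective_of_isPullback
      (IsPullback.of_hasPullback πS πr).flip s (h0 _)
  have hΨw : Ψ ≫ qY = p' ≫ b := by rw [hp'd]; exact hΨ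
  obtain ⟨Ψ', hΨ'd⟩ : ∃ Ψ' : pullback πS πr ⟶ pullback qY b, Ψ' = pullback.lift Ψ p' hΨw :=
    ⟨_, rfl⟩
  have hΨ'1 : Ψ' ≫ pullback.fst qY b = Ψ := by rw [hΨ'd, pullback.lift_fst]
  have hΨ'2 : Ψ' ≫ pullback.snd qY b = p' := by rw [hΨ'd, pullback.lift_snd]
  have Hσ : IsPullback σ πr p' e₀ := by
    rw [hp'd]
    refine IsPullback.of_right ?_ hσ1 (IsPullback.of_hasPullback πS πr).flip
    rw [hσ2, he₀]
    exact IsPullback.of_horiz_isIso ⟨by simp⟩
  have hyw : y₀ ≫ qY = e₀ ≫ b := by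
    have hepi : Epi πr := by
      have : Surjective πr := Groth.Agent.Lib.T2H7.MumD.surjective_of_h0 πr h0
      infer_instance
    rw [← cancel_epi πr, ← Category.assoc, ← he, Category.assoc, hΨ, ← Category.assoc, hσ1,
      Category.assoc]
  obtain ⟨te, hted⟩ : ∃ te : Spec (CommRingCat.of K) ⟶ pullback qY b,
      te = pullback.lift y₀ e₀ hyw := ⟨_, rfl⟩
  have hσΨ' : σ ≫ Ψ' = πr ≫ te := by
    apply pullback.hom_ext
    · rw [Category.assoc, hΨ'1, he, Category.assoc, hted, pullback.lift_fst]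
    · rw [Category.assoc, hΨ'2, hp'd, hσ1, Category.assoc, hted, pullback.lift_snd]
  obtain ⟨pt⟩ : Nonempty ↥(Spec (CommRingCat.of K)) := inferInstance
  have hsub : Subsingleton ↥(Spec (CommRingCat.of K)) := inferInstance
  have hs₀ : ∀ w w' : ↥(pullback πS πr), p'.base w = e₀.base pt → p'.base w' = e₀.base pt →
      Ψ'.base w = Ψ'.base w' := by
    intro w w' hw hw'
    obtain ⟨x, hx1, hx2⟩ := Scheme.exists_preimage_of_isPullback Hσ w pt hw
    obtain ⟨x', hx1', hx2'⟩ := Scheme.exists_preimage_of_isPullback Hσ w' pt hw'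
    have h1 := congrArg (fun k : Fr ⟶ pullback qY b => k.base x) hσΨ'
    have h2 := congrArg (fun k : Fr ⟶ pullback qY b => k.base x') hσΨ'
    simp only [Scheme.Hom.comp_base, TopCat.comp_app] at h1 h2
    rw [hx1] at h1
    rw [hx1'] at h2
    rw [h1, h2, hx2, hx2']
  obtain ⟨t', ht'1, ht'2⟩ := Groth.Agent.Lib.T2H7.MumD.exists_section_of_connected p'
    (pullback.snd qY b) Ψ' hΨ'2 h0' (e₀.base pt) hs₀
  refine ⟨t' ≫ pullback.fst qY b, ?_⟩
  rw [← hp'd, ← Category.assoc, ← ht'2, hΨ'1]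

end Core

section Unit

variable {S : Scheme.{u}} {G X : Over S} [GrpObj G] (a : AlgGrp.Action G X)

/-- the unit acts trivially, on points -/
theorem unit_act {T : Over S} (x : T ⟶ X) : lift (toUnit T ≫ η[G]) x ≫ a.act = x := by
  have h1 : lift (toUnit T ≫ η[G]) x = lift (toUnit T) x ≫ (η[G] ▷ X) := by
    apply CartesianMonoidalCategory.hom_ext
    · rw [lift_fst, Category.assoc, whiskerRight_fst, ← Category.assoc, lift_fst]
    · rw [lift_snd, Category.assoc, whiskerRight_snd, lift_snd]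
  rw [h1, Category.assoc, a.one_act, leftUnitor_hom, lift_snd]

end Unit

section Red

/-- the reduced closed subscheme with the same underlying space -/
theorem exists_reduced (F : Scheme.{u}) : ∃ (Fr : Scheme.{u}) (i : Fr ⟶ F),
    IsClosedImmersion i ∧ IsReduced Fr ∧ Function.Surjective i.base := by
  refine ⟨(Scheme.IdealSheafData.vanishingIdeal (⊤ : TopologicalSpace.Closeds F)).subscheme,
    (Scheme.IdealSheafData.vanishingIdeal (⊤ : TopologicalSpace.Closeds F)).subschemeι,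
    inferInstance,
    Groth.Agent.Lib.Helper10.RedInd.isReduced_subscheme_vanishingIdeal _, ?_⟩
  rw [← Set.range_eq_univ, Scheme.IdealSheafData.range_subschemeι,
    Scheme.IdealSheafData.vanishingIdeal_top, Scheme.support_nilradical]
  rfl

end Red

section PB

variable {S : Scheme.{u}} (K : Over S) {X Y : Over S} (f : X ⟶ Y)

theorem isPullback_whiskerLeft' :
    IsPullback (pullback.snd K.hom X.hom) (K ◁ f).left f.left (pullback.snd K.hom Y.hom) :=
  Groth.Agent.Lib.T2H7.ActDescend.isPullback_whiskerLeft K f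

end PB

section Main

variable (k : Type u) [Field k] (G X Y : Over (Spec (CommRingCat.of k))) [GrpObj G]
  [LocallyOfFiniteType G.hom] [ConnectedSpace ↥G.left] [LocallyOfFiniteType Y.hom]
  [IsSeparated Y.hom]
  (f : X ⟶ Y) [IsProper f.left] (hf : ∀ U : Y.left.Opens, IsIso (f.left.app U))
  (a : AlgGrp.Action G X)

include hf in
/-- constancy on the fibre over a geometric point -/
theorem const_of_geomPoint (K : Type u) [Field K] [IsAlgClosed K]
    (sbar : Spec (CommRingCat.of K) ⟶ (G ⊗ Y).left) (p q : ↥(G ⊗ X).left)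
    (hp : ∃ pt, (G ◁ f).left.base p = sbar.base pt)
    (hq : ∃ pt, (G ◁ f).left.base q = sbar.base pt) :
    (a.act ≫ f).left.base p = (a.act ≫ f).left.base q := by
  classical
  have hYN : IsLocallyNoetherian Y.left := LocallyOfFiniteType.isLocallyNoetherian Y.hom
  obtain ⟨ξ, hξd⟩ : ∃ ξ : (G ⊗ X).left ⟶ (G ⊗ Y).left, ξ = (G ◁ f).left := ⟨_, rfl⟩
  obtain ⟨φ, hφd⟩ : ∃ φ : (G ⊗ X).left ⟶ Y.left, φ = (a.act ≫ f).left := ⟨_, rfl⟩
  have hξ1 : ξ ≫ pullback.fst G.hom Y.hom = pullback.fst G.hom X.hom := by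
    rw [hξd]
    have := congrArg (fun t : G ⊗ X ⟶ G => t.left) (whiskerLeft_fst G f)
    exact this
  have hξ2 : ξ ≫ pullback.snd G.hom Y.hom = pullback.snd G.hom X.hom ≫ f.left := by
    rw [hξd]
    have := congrArg (fun t : G ⊗ X ⟶ Y => t.left) (whiskerLeft_snd G f)
    exact this
  have hφw : φ ≫ Y.hom = pullback.fst G.hom X.hom ≫ G.hom := by
    rw [hφd, Over.w (a.act ≫ f), Over.tensorObj_hom]
  obtain ⟨gbar, hgbar⟩ : ∃ gbar : Spec (CommRingCat.of K) ⟶ G.left,
      gbar = sbar ≫ pullback.fst G.hom Y.hom := ⟨_, rfl⟩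
  obtain ⟨ybar, hybar⟩ : ∃ ybar : Spec (CommRingCat.of K) ⟶ Y.left,
      ybar = sbar ≫ pullback.snd G.hom Y.hom := ⟨_, rfl⟩
  obtain ⟨c, hc⟩ : ∃ c : Spec (CommRingCat.of K) ⟶ Spec (CommRingCat.of k),
      c = gbar ≫ G.hom := ⟨_, rfl⟩
  have hcy : ybar ≫ Y.hom = c := by
    rw [hc, hgbar, hybar, Category.assoc, Category.assoc, pullback.condition]
  obtain ⟨pt⟩ : Nonempty ↥(Spec (CommRingCat.of K)) := inferInstance
  have hsub : Subsingleton ↥(Spec (CommRingCat.of K)) := inferInstance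
  -- the geometric fibre and its reduction
  have hFconn : ConnectedSpace ↥(pullback f.left ybar) := by
    obtain ⟨V, hV, hyV, -⟩ := exists_isAffineOpen_mem_and_subset (x := ybar.base pt)
      (U := (⊤ : Y.left.Opens)) trivial
    exact Groth.Agent.Lib.T2H9.ConnGeom.connectedSpace_pullback f.left K ybar V hV
      (fun s' => by rw [Subsingleton.elim s' pt]; exact hyV) (hf V)
  obtain ⟨Fr, i, hicl, hFred, hisurj⟩ := exists_reduced (pullback f.left ybar)
  have hFrconn : ConnectedSpace ↥Fr := by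
    have hemb : Topology.IsClosedEmbedding i.base := i.isClosedEmbedding
    exact (hemb.toIsEmbedding.toHomeomorphOfSurjective hisurj).connectedSpace_iff.mpr hFconn
  obtain ⟨fstF, hfstF⟩ : ∃ fstF : pullback f.left ybar ⟶ X.left,
      fstF = pullback.fst f.left ybar := ⟨_, rfl⟩
  obtain ⟨πF, hπF⟩ : ∃ πF : pullback f.left ybar ⟶ Spec (CommRingCat.of K),
      πF = pullback.snd f.left ybar := ⟨_, rfl⟩
  have hFcond : fstF ≫ f.left = πF ≫ ybar := by rw [hfstF, hπF, pullback.condition]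
  obtain ⟨πr, hπr⟩ : ∃ πr : Fr ⟶ Spec (CommRingCat.of K), πr = i ≫ πF := ⟨_, rfl⟩
  have hπrprop : IsProper πr := by rw [hπr, hπF]; infer_instance
  have hΓ : Function.Bijective πr.appTop.hom :=
    Groth.Agent.Lib.T2H7.MumF.appTop_bijective_of_isAlgClosed_of_connected πr
  have h0r := fun s => Groth.Agent.Lib.T2H7.AbFib.appTop_snd_bijective_of_field πr hΓ s
  have hπrflat : Flat πr := inferInstance
  have hXw : fstF ≫ X.hom = πF ≫ c := by
    rw [← Over.w f, ← Category.assoc, hFcond, Category.assoc, hcy]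
  -- the base `S' = G_K`
  obtain ⟨gS, hgS⟩ : ∃ gS : pullback G.hom c ⟶ G.left, gS = pullback.fst G.hom c := ⟨_, rfl⟩
  obtain ⟨πS, hπS⟩ : ∃ πS : pullback G.hom c ⟶ Spec (CommRingCat.of K),
      πS = pullback.snd G.hom c := ⟨_, rfl⟩
  have hScond : gS ≫ G.hom = πS ≫ c := by rw [hgS, hπS, pullback.condition]
  have hπSft : LocallyOfFiniteType πS := by rw [hπS]; infer_instance
  have hS'N : IsLocallyNoetherian (pullback G.hom c) :=
    LocallyOfFiniteType.isLocallyNoetherian πS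
  have hηw : (η[G]).left ≫ G.hom = 𝟙 (Spec (CommRingCat.of k)) := by
    rw [Over.w]; rfl
  have hGgc : GeometricallyConnected G.hom :=
    Groth.Agent.Lib.Helper12.GeomConn.geometricallyConnected_of_section G.hom (η[G]).left hηw
  have hS'conn : ConnectedSpace ↥(pullback G.hom c) :=
    pullback_of_geometrically (GeometricallyConnected.geometrically_connectedSpace) K c
  -- the family
  have hmw : (pullback.fst πS πr ≫ gS) ≫ G.hom = (pullback.snd πS πr ≫ i ≫ fstF) ≫ X.hom := by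
    rw [Category.assoc, hScond, Category.assoc, Category.assoc, hXw, ← Category.assoc i,
      ← hπr, ← Category.assoc, pullback.condition, Category.assoc]
  obtain ⟨m, hm⟩ : ∃ m : pullback πS πr ⟶ (G ⊗ X).left,
      m = pullback.lift (pullback.fst πS πr ≫ gS) (pullback.snd πS πr ≫ i ≫ fstF) hmw :=
    ⟨_, rfl⟩
  have hm1 : m ≫ pullback.fst G.hom X.hom = pullback.fst πS πr ≫ gS := by
    rw [hm, pullback.lift_fst]
  have hm2 : m ≫ pullback.snd G.hom X.hom = pullback.snd πS πr ≫ i ≫ fstF := by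
    rw [hm, pullback.lift_snd]
  have hΨ : (m ≫ φ) ≫ Y.hom = pullback.fst πS πr ≫ (πS ≫ c) := by
    rw [Category.assoc, hφw, ← Category.assoc, hm1, Category.assoc, hScond]
  -- the unit point of `S'`
  have he₀w : (c ≫ (η[G]).left) ≫ G.hom = 𝟙 (Spec (CommRingCat.of K)) ≫ c := by
    rw [Category.assoc, hηw, Category.comp_id, Category.id_comp]
  obtain ⟨e₀, he₀⟩ : ∃ e₀ : Spec (CommRingCat.of K) ⟶ pullback G.hom c,
      e₀ = pullback.lift (c ≫ (η[G]).left) (𝟙 _) he₀w := ⟨_, rfl⟩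
  have he₀1 : e₀ ≫ gS = c ≫ (η[G]).left := by rw [he₀, hgS, pullback.lift_fst]
  have he₀2 : e₀ ≫ πS = 𝟙 _ := by rw [he₀, hπS, pullback.lift_snd]
  have hσw : (πr ≫ e₀) ≫ πS = 𝟙 Fr ≫ πr := by
    rw [Category.assoc, he₀2, Category.comp_id, Category.id_comp]
  obtain ⟨σ, hσ⟩ : ∃ σ : Fr ⟶ pullback πS πr, σ = pullback.lift (πr ≫ e₀) (𝟙 Fr) hσw :=
    ⟨_, rfl⟩
  have hσ1 : σ ≫ pullback.fst πS πr = πr ≫ e₀ := by rw [hσ, pullback.lift_fst]
  have hσ2 : σ ≫ pullback.snd πS πr = 𝟙 Fr := by rw [hσ, pullback.lift_snd]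
  have hxw : (i ≫ fstF) ≫ X.hom = πr ≫ c := by
    rw [Category.assoc, hXw, ← Category.assoc, ← hπr]
  have he : σ ≫ (m ≫ φ) = πr ≫ ybar := by
    obtain ⟨T, hT⟩ : ∃ T : Over (Spec (CommRingCat.of k)), T = Over.mk (πr ≫ c) := ⟨_, rfl⟩
    obtain ⟨x, hx⟩ : ∃ x : Over.mk (πr ≫ c) ⟶ X, x = Over.homMk (i ≫ fstF) hxw := ⟨_, rfl⟩
    have hxl : x.left = i ≫ fstF := by rw [hx]; rfl
    have h1 : σ ≫ m = (lift (toUnit (Over.mk (πr ≫ c)) ≫ η[G]) x).left := by
      apply pullback.hom_ext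
      · have e1 : (lift (toUnit (Over.mk (πr ≫ c)) ≫ η[G]) x).left ≫ pullback.fst G.hom X.hom =
            (toUnit (Over.mk (πr ≫ c)) ≫ η[G]).left := by
          have := congrArg (fun t : Over.mk (πr ≫ c) ⟶ G => t.left)
            (lift_fst (toUnit (Over.mk (πr ≫ c)) ≫ η[G]) x)
          exact this
        rw [e1, Category.assoc, hm1, ← Category.assoc, hσ1, Category.assoc, he₀1]
        rfl
      · have e2 : (lift (toUnit (Over.mk (πr ≫ c)) ≫ η[G]) x).left ≫ pullback.snd G.hom X.hom =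
            x.left := by
          have := congrArg (fun t : Over.mk (πr ≫ c) ⟶ X => t.left)
            (lift_snd (toUnit (Over.mk (πr ≫ c)) ≫ η[G]) x)
          exact this
        rw [e2, Category.assoc, hm2, ← Category.assoc, hσ2, Category.id_comp, hxl]
    have h2 := congrArg (fun t : Over.mk (πr ≫ c) ⟶ Y => t.left)
      (congrArg (fun t => t ≫ f) (unit_act a x))
    have h3 : (lift (toUnit (Over.mk (πr ≫ c)) ≫ η[G]) x ≫ a.act ≫ f).left = (x ≫ f).left := by
      rw [← Category.assoc]; exact h2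
    have h4 : (lift (toUnit (Over.mk (πr ≫ c)) ≫ η[G]) x ≫ a.act ≫ f).left =
        (lift (toUnit (Over.mk (πr ≫ c)) ≫ η[G]) x).left ≫ (a.act ≫ f).left := rfl
    have h5 : (x ≫ f).left = x.left ≫ f.left := rfl
    rw [← Category.assoc, h1, hφd, ← h4, h3, h5, hxl, Category.assoc, hFcond, ← Category.assoc,
      ← hπr]
  obtain ⟨t, ht⟩ := core πS πr h0r Y.hom (πS ≫ c) (m ≫ φ) hΨ e₀ he₀2 ybar σ hσ1 hσ2 he
  -- the point `ḡ` of `S'`
  have hg'w : gbar ≫ G.hom = 𝟙 (Spec (CommRingCat.of K)) ≫ c := by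
    rw [Category.id_comp, hc]
  obtain ⟨g', hg'⟩ : ∃ g' : Spec (CommRingCat.of K) ⟶ pullback G.hom c,
      g' = pullback.lift gbar (𝟙 _) hg'w := ⟨_, rfl⟩
  have hg'1 : g' ≫ gS = gbar := by rw [hg', hgS, pullback.lift_fst]
  have hg'2 : g' ≫ πS = 𝟙 _ := by rw [hg', hπS, pullback.lift_snd]
  have hσgw : (πr ≫ g') ≫ πS = 𝟙 Fr ≫ πr := by
    rw [Category.assoc, hg'2, Category.comp_id, Category.id_comp]
  obtain ⟨σg, hσg⟩ : ∃ σg : Fr ⟶ pullback πS πr, σg = pullback.lift (πr ≫ g') (𝟙 Fr) hσgw :=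
    ⟨_, rfl⟩
  have hσg1 : σg ≫ pullback.fst πS πr = πr ≫ g' := by rw [hσg, pullback.lift_fst]
  have hσg2 : σg ≫ pullback.snd πS πr = 𝟙 Fr := by rw [hσg, pullback.lift_snd]
  have hmuw : (πF ≫ gbar) ≫ G.hom = fstF ≫ X.hom := by
    rw [Category.assoc, ← hc, hXw]
  obtain ⟨mu, hmu⟩ : ∃ mu : pullback f.left ybar ⟶ (G ⊗ X).left,
      mu = pullback.lift (πF ≫ gbar) fstF hmuw := ⟨_, rfl⟩
  have hmu1 : mu ≫ pullback.fst G.hom X.hom = πF ≫ gbar := by rw [hmu, pullback.lift_fst]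
  have hmu2 : mu ≫ pullback.snd G.hom X.hom = fstF := by rw [hmu, pullback.lift_snd]
  have hσgm : σg ≫ m = i ≫ mu := by
    apply pullback.hom_ext
    · rw [Category.assoc, hm1, ← Category.assoc, hσg1, Category.assoc, hg'1, Category.assoc, hmu1,
        ← Category.assoc, ← hπr]
    · rw [Category.assoc, hm2, ← Category.assoc, hσg2, Category.id_comp, Category.assoc, hmu2]
  have hkey : i ≫ mu ≫ φ = πr ≫ (g' ≫ t) := by
    rw [← Category.assoc, ← hσgm, Category.assoc, ht, ← Category.assoc, hσg1, Category.assoc]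
  have hmuξ : mu ≫ ξ = πF ≫ sbar := by
    apply pullback.hom_ext
    · rw [Category.assoc, hξ1, hmu1, Category.assoc, ← hgbar]
    · rw [Category.assoc, hξ2, ← Category.assoc, hmu2, hFcond, Category.assoc, ← hybar]
  have Hmu : IsPullback mu πF ξ sbar := by
    have t₁ := isPullback_whiskerLeft' G f
    rw [← hξd] at t₁
    refine IsPullback.of_right ?_ hmuξ t₁
    rw [hmu2, ← hybar, hfstF, hπF]
    exact IsPullback.of_hasPullback f.left ybar
  have hval : ∀ r : ↥(G ⊗ X).left, (∃ pt', ξ.base r = sbar.base pt') →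
      φ.base r = (g' ≫ t).base pt := by
    rintro r ⟨pt', hr⟩
    obtain ⟨xF, hxF1, hxF2⟩ := Scheme.exists_preimage_of_isPullback Hmu r pt' hr
    obtain ⟨x, hx⟩ := hisurj xF
    have h1 := congrArg (fun k : Fr ⟶ Y.left => k.base x) hkey
    simp only [Scheme.Hom.comp_base, TopCat.comp_app] at h1
    rw [hx, hxF1, Subsingleton.elim (πr.base x) pt] at h1
    exact h1
  have hp' : ∃ pt', ξ.base p = sbar.base pt' := by rw [hξd]; exact hp
  have hq' : ∃ pt', ξ.base q = sbar.base pt' := by rw [hξd]; exact hq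
  rw [← hφd, hval p hp', hval q hq']

include hf in
/-- **Blanchard's lemma, the key point**: `G × X → X → Y` is constant on the fibres of
`G × X → G × Y`. -/
theorem const_on_fibres (p q : ↥(G ⊗ X).left)
    (hpq : (G ◁ f).left.base p = (G ◁ f).left.base q) :
    (a.act ≫ f).left.base p = (a.act ≫ f).left.base q := by
  classical
  have hYN : IsLocallyNoetherian Y.left := LocallyOfFiniteType.isLocallyNoetherian Y.hom
  obtain ⟨ξ, hξd⟩ : ∃ ξ : (G ⊗ X).left ⟶ (G ⊗ Y).left, ξ = (G ◁ f).left := ⟨_, rfl⟩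
  obtain ⟨φ, hφd⟩ : ∃ φ : (G ⊗ X).left ⟶ Y.left, φ = (a.act ≫ f).left := ⟨_, rfl⟩
  obtain ⟨s, hsd⟩ : ∃ s : ↥(G ⊗ Y).left, s = ξ.base p := ⟨_, rfl⟩
  have hsq : ξ.base q = s := by rw [hsd, hξd, hpq]
  obtain ⟨sbar, hsbar⟩ : ∃ sbar : Spec (CommRingCat.of
      (AlgebraicClosure ((G ⊗ Y).left.residueField s))) ⟶ (G ⊗ Y).left,
      sbar = Spec.map (CommRingCat.ofHom (algebraMap ((G ⊗ Y).left.residueField s)
        (AlgebraicClosure ((G ⊗ Y).left.residueField s)))) ≫
        (G ⊗ Y).left.fromSpecResidueField s := ⟨_, rfl⟩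
  have hsbar_pt : ∀ pt, sbar.base pt = s := by
    intro pt
    rw [hsbar]
    have h2 : ((G ⊗ Y).left.fromSpecResidueField s).base
        ((Spec.map (CommRingCat.ofHom (algebraMap ((G ⊗ Y).left.residueField s)
        (AlgebraicClosure ((G ⊗ Y).left.residueField s))))).base pt) ∈
        Set.range ((G ⊗ Y).left.fromSpecResidueField s).base := ⟨_, rfl⟩
    rw [Scheme.range_fromSpecResidueField] at h2
    exact h2
  obtain ⟨pt⟩ : Nonempty ↥(Spec (CommRingCat.of
      (AlgebraicClosure ((G ⊗ Y).left.residueField s)))) := inferInstance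
  refine const_of_geomPoint k G X Y f hf a (AlgebraicClosure ((G ⊗ Y).left.residueField s)) sbar p q
    ⟨pt, ?_⟩ ⟨pt, ?_⟩
  · rw [hsbar_pt pt, hsd, hξd]
  · rw [hsbar_pt pt, ← hsq, hξd]

include hf in
/-- **Blanchard's lemma**: an action of a connected group scheme descends uniquely along a proper
morphism `f` with `f_* O_X = O_Y`. -/
theorem existsUnique_action :
    ∃! b : AlgGrp.Action G Y, (G ◁ f) ≫ b.act = a.act ≫ f := by
  have hflat : Flat G.hom := inferInstance
  have hf' : ∀ U : Y.left.Opens, Function.Bijective (f.left.app U).hom := fun U => by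
    have := hf U
    exact ConcreteCategory.bijective_of_isIso (f.left.app U)
  obtain ⟨b, hb⟩ := Groth.Agent.Lib.T2H7.ActDescend.descends_of_const f a hf'
    (const_on_fibres k G X Y f hf a)
  refine ⟨b, hb, fun b' hb' => ?_⟩
  have hepi : Epi (G ◁ f) := Groth.Agent.Lib.T2H7.ActDescend.epi_whiskerLeft G f hf'
  apply Groth.Agent.Lib.T2H7.ProdAct.action_ext
  rw [← cancel_epi (G ◁ f), hb', hb]

end Main

end Groth.Agent.Lib.T2H7.Blanchard
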