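import Mathlib
import Groth.Prelude.Def_AlgGrp
import Groth.Agent.Lib.T2H7Blanchard
import Groth.Agent.Lib.Helper25IdComp

set_option autoImplicit false
set_option linter.unusedSectionVars false
set_option linter.unusedVariables false
set_option linter.style.haveILetI false

universe u

namespace Groth.Agent.Lib.T2H7.BlanchardNS

open CategoryTheory CategoryTheory.Limits AlgebraicGeometry MonoidalCategory
  CartesianMonoidalCategory MonObj GrpObj

section Top

/-- Two morphisms to a separated scheme that agree on a dense open agree pointwise. -/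
theorem base_eq_of_dense {P V : Scheme.{u}} [V.IsSeparated] (a b : P ⟶ V) (D : P.Opens)
    (hD : Dense (D : Set P)) (h : D.ι ≫ a = D.ι ≫ b) (z : P) : a.base z = b.base z := by
  have hcl : IsClosedImmersion (equalizer.ι a b) := inferInstance
  have hl : equalizer.lift D.ι h ≫ equalizer.ι a b = D.ι := equalizer.lift_ι _ _
  have hrange : (D : Set P) ⊆ Set.range (equalizer.ι a b).base := by
    intro d hd
    refine ⟨(equalizer.lift D.ι h).base ⟨d, hd⟩, ?_⟩
    have := congrArg (fun t : (D : Scheme.{u}) ⟶ P => t.base ⟨d, hd⟩) hl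
    exact this
  have hclosed : IsClosed (Set.range (equalizer.ι a b).base) :=
    (equalizer.ι a b).isClosedEmbedding.isClosed_range
  have huniv : Set.range (equalizer.ι a b).base = Set.univ := by
    apply Set.eq_univ_of_univ_subset
    rw [← hD.closure_eq]
    exact closure_minimal hrange hclosed
  obtain ⟨w, hw⟩ : z ∈ Set.range (equalizer.ι a b).base := by rw [huniv]; trivial
  have := congrArg (fun t : equalizer a b ⟶ V => t.base w) (equalizer.condition a b)
  simp only [Scheme.Hom.comp_base, TopCat.comp_app] at this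
  rw [hw] at this
  exact this

/-- The agreement set of two morphisms (to an arbitrary scheme) which agree on a dense open is
open. -/
theorem isOpen_agree {P Y : Scheme.{u}} (a b : P ⟶ Y) (D : P.Opens)
    (hD : Dense (D : Set P)) (h : D.ι ≫ a = D.ι ≫ b) :
    IsOpen {z : P | a.base z = b.base z} := by
  rw [isOpen_iff_forall_mem_open]
  intro z₀ hz₀
  obtain ⟨V, hV, hyV, -⟩ := exists_isAffineOpen_mem_and_subset (x := a.base z₀)
    (U := (⊤ : Y.Opens)) trivial
  obtain ⟨N, hN⟩ : ∃ N : P.Opens, N = a ⁻¹ᵁ V ⊓ b ⁻¹ᵁ V := ⟨_, rfl⟩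
  have hz₀N : z₀ ∈ N := by
    rw [hN]
    refine ⟨hyV, ?_⟩
    show b.base z₀ ∈ V
    rw [← hz₀]; exact hyV
  have hra : Set.range (N.ι ≫ a).base ⊆ Set.range V.ι.base := by
    rintro _ ⟨n, rfl⟩
    rw [Scheme.Opens.range_ι]
    have hn : n.1 ∈ a ⁻¹ᵁ V ⊓ b ⁻¹ᵁ V := by rw [← hN]; exact n.2
    exact hn.1
  have hrb : Set.range (N.ι ≫ b).base ⊆ Set.range V.ι.base := by
    rintro _ ⟨n, rfl⟩
    rw [Scheme.Opens.range_ι]
    have hn : n.1 ∈ a ⁻¹ᵁ V ⊓ b ⁻¹ᵁ V := by rw [← hN]; exact n.2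
    exact hn.2
  obtain ⟨aN, haN⟩ : ∃ aN : (N : Scheme.{u}) ⟶ V, aN ≫ V.ι = N.ι ≫ a :=
    ⟨IsOpenImmersion.lift V.ι (N.ι ≫ a) hra, IsOpenImmersion.lift_fac _ _ _⟩
  obtain ⟨bN, hbN⟩ : ∃ bN : (N : Scheme.{u}) ⟶ V, bN ≫ V.ι = N.ι ≫ b :=
    ⟨IsOpenImmersion.lift V.ι (N.ι ≫ b) hrb, IsOpenImmersion.lift_fac _ _ _⟩
  obtain ⟨DN, hDN⟩ : ∃ DN : (N : Scheme.{u}).Opens, DN = N.ι ⁻¹ᵁ D := ⟨_, rfl⟩
  have hDNd : Dense (DN : Set (N : Scheme.{u})) := by
    rw [hDN]
    exact hD.preimage N.ι.isOpenEmbedding.isOpenMap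
  have hrD : Set.range (DN.ι ≫ N.ι).base ⊆ Set.range D.ι.base := by
    rintro _ ⟨d, rfl⟩
    rw [Scheme.Opens.range_ι]
    have hd : d.1 ∈ N.ι ⁻¹ᵁ D := by rw [← hDN]; exact d.2
    exact hd
  obtain ⟨l, hl⟩ : ∃ l : (DN : Scheme.{u}) ⟶ D, l ≫ D.ι = DN.ι ≫ N.ι :=
    ⟨IsOpenImmersion.lift D.ι (DN.ι ≫ N.ι) hrD, IsOpenImmersion.lift_fac _ _ _⟩
  have hab : DN.ι ≫ aN = DN.ι ≫ bN := by
    rw [← cancel_mono V.ι, Category.assoc, Category.assoc, haN, hbN, ← Category.assoc,
      ← Category.assoc, ← hl, Category.assoc, Category.assoc, h]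
  have hV' : IsAffine (V : Scheme.{u}) := hV
  have hpt := base_eq_of_dense aN bN DN hDNd hab
  refine ⟨N, ?_, N.isOpen, hz₀N⟩
  intro z hz
  have h1 := congrArg (fun t : (N : Scheme.{u}) ⟶ Y => t.base ⟨z, hz⟩) haN
  have h2 := congrArg (fun t : (N : Scheme.{u}) ⟶ Y => t.base ⟨z, hz⟩) hbN
  simp only [Scheme.Hom.comp_base, TopCat.comp_app] at h1 h2
  have h3 : N.ι.base ⟨z, hz⟩ = z := rfl
  rw [h3] at h1 h2
  show a.base z = b.base z
  rw [← h1, ← h2, hpt]

end Top

section Fibre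

variable {k : Type u} [Field k] {X Y : Over (Spec (CommRingCat.of k))} (f : X ⟶ Y)
  (ybar : 𝟙_ (Over (Spec (CommRingCat.of k))) ⟶ Y)

/-- the fibre of `f` over a rational point, as an object over `k` -/
noncomputable def fib : Over (Spec (CommRingCat.of k)) :=
  Over.mk (Y := pullback f.left ybar.left) (pullback.snd f.left ybar.left)

theorem ybar_w : ybar.left ≫ Y.hom = 𝟙 (Spec (CommRingCat.of k)) := by
  rw [Over.w ybar]; rfl

theorem fib_w : pullback.fst f.left ybar.left ≫ X.hom = (fib f ybar).hom := by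
  rw [← Over.w f, ← Category.assoc, pullback.condition, Category.assoc, ybar_w]
  exact Category.comp_id _

/-- the inclusion of the fibre -/
noncomputable def jF : fib f ybar ⟶ X := Over.homMk (pullback.fst f.left ybar.left) (fib_w f ybar)

theorem jF_comp : jF f ybar ≫ f = toUnit (fib f ybar) ≫ ybar := by
  apply Over.OverMorphism.ext
  show pullback.fst f.left ybar.left ≫ f.left = (toUnit (fib f ybar)).left ≫ ybar.left
  rw [pullback.condition]
  rfl

end Fibre

section Pts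

variable {k : Type u} [Field k] {G X Y : Over (Spec (CommRingCat.of k))} [GrpObj G] (f : X ⟶ Y)
  (ybar : 𝟙_ (Over (Spec (CommRingCat.of k))) ⟶ Y) (g : 𝟙_ (Over (Spec (CommRingCat.of k))) ⟶ G)

theorem isPullback_fib :
    IsPullback (lift (toUnit (fib f ybar) ≫ g) (jF f ybar)).left (fib f ybar).hom (G ◁ f).left
      (lift g ybar).left := by
  have t₁ := Groth.Agent.Lib.T2H7.Blanchard.isPullback_whiskerLeft' G f
  have e1 : (lift (toUnit (fib f ybar) ≫ g) (jF f ybar)).left ≫ pullback.snd G.hom X.hom =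
      pullback.fst f.left ybar.left := by
    have := congrArg (fun t : fib f ybar ⟶ X => t.left)
      (lift_snd (toUnit (fib f ybar) ≫ g) (jF f ybar))
    exact this
  have e2 : (lift g ybar).left ≫ pullback.snd G.hom Y.hom = ybar.left := by
    have := congrArg (fun t : 𝟙_ (Over (Spec (CommRingCat.of k))) ⟶ Y => t.left) (lift_snd g ybar)
    exact this
  have e3 : (lift (toUnit (fib f ybar) ≫ g) (jF f ybar)).left ≫ (G ◁ f).left =
      (fib f ybar).hom ≫ (lift g ybar).left := by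
    have h : lift (toUnit (fib f ybar) ≫ g) (jF f ybar) ≫ (G ◁ f) =
        toUnit (fib f ybar) ≫ lift g ybar := by
      rw [lift_whiskerLeft, jF_comp, comp_lift]
    have := congrArg (fun t : fib f ybar ⟶ G ⊗ Y => t.left) h
    exact this
  refine IsPullback.of_right ?_ e3 t₁
  rw [e1, e2]
  exact IsPullback.of_hasPullback f.left ybar.left

/-- points of `G × X` over the rational point `(g, y)` come from the fibre -/
theorem exists_fib_point (p : ↥(G ⊗ X).left) (pt : ↥(Spec (CommRingCat.of k)))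
    (hp : (G ◁ f).left.base p = (lift g ybar).left.base pt) :
    ∃ xF : ↥(fib f ybar).left,
      (lift (toUnit (fib f ybar) ≫ g) (jF f ybar)).left.base xF = p := by
  obtain ⟨xF, h1, h2⟩ := Scheme.exists_preimage_of_isPullback (isPullback_fib f ybar g) p pt hp
  exact ⟨xF, h1⟩

variable (a : AlgGrp.Action G X)

/-- if `x ↦ f (g · x)` is constant on the fibre over `y` then `(g, y)` is in the collapsed
locus -/
theorem mem_locus_of_const (pt : ↥(Spec (CommRingCat.of k))) (y' : ↥Y.left)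
    (hc : ∀ xF : ↥(fib f ybar).left,
      (lift (toUnit (fib f ybar) ≫ g) (jF f ybar) ≫ a.act ≫ f).left.base xF = y') :
    (lift g ybar).left.base pt ∈
      Groth.Agent.Lib.T2H7.Collapse.locus (G ◁ f).left (a.act ≫ f).left := by
  refine ⟨y', fun p hp => ?_⟩
  obtain ⟨xF, rfl⟩ := exists_fib_point f ybar g p pt hp
  exact hc xF

end Pts

section Dense

variable {k : Type u} [Field k] {G X Y : Over (Spec (CommRingCat.of k))} [GrpObj G]
  [ConnectedSpace ↥G.left]
  (f : X ⟶ Y) [IsProper f.left]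
  (hf' : ∀ U : Y.left.Opens, Function.Bijective (f.left.app U).hom)
  (a : AlgGrp.Action G X) (ybar : 𝟙_ (Over (Spec (CommRingCat.of k))) ⟶ Y)
  (x : 𝟙_ (Over (Spec (CommRingCat.of k))) ⟶ fib f ybar)

/-- `γ(g, x') = f (g · x')` on `G × F` -/
noncomputable def gam : G ⊗ fib f ybar ⟶ Y := (G ◁ jF f ybar) ≫ a.act ≫ f

/-- `γ'(g, x') = f (g · x)` on `G × F` -/
noncomputable def gam' : G ⊗ fib f ybar ⟶ Y :=
  fst G (fib f ybar) ≫ lift (𝟙 G) (toUnit G ≫ x) ≫ gam f a ybar

include hf' in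
theorem exists_dense_agree : ∃ D : (G ⊗ fib f ybar).left.Opens,
    Dense (D : Set ↥(G ⊗ fib f ybar).left) ∧
      D.ι ≫ (gam f a ybar).left = D.ι ≫ (gam' f a ybar x).left := by
  classical
  obtain ⟨pt⟩ : Nonempty ↥(Spec (CommRingCat.of k)) := inferInstance
  have hsub : Subsingleton ↥(Spec (CommRingCat.of k)) := inferInstance
  obtain ⟨ξ, hξd⟩ : ∃ ξ : (G ⊗ X).left ⟶ (G ⊗ Y).left, ξ = (G ◁ f).left := ⟨_, rfl⟩
  obtain ⟨φ, hφd⟩ : ∃ φ : (G ⊗ X).left ⟶ Y.left, φ = (a.act ≫ f).left := ⟨_, rfl⟩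
  have hflat : Flat G.hom := inferInstance
  have hprop : IsProper ξ := by
    rw [hξd]; exact Groth.Agent.Lib.T2H7.ActDescend.isProper_whiskerLeft G f
  have h0 : ∀ U : (G ⊗ Y).left.Opens, Function.Bijective (ξ.app U).hom := by
    rw [hξd]; exact Groth.Agent.Lib.T2H7.ActDescend.bijective_app_whiskerLeft G f hf'
  have hcl : IsClosedMap ξ.base := ξ.isClosedMap
  -- `(e, y)` is in the collapsed locus
  have hmem : (lift η[G] ybar).left.base pt ∈ Groth.Agent.Lib.T2H7.Collapse.locus ξ φ := by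
    rw [hξd, hφd]
    refine mem_locus_of_const f ybar η[G] a pt (ybar.left.base pt) (fun xF => ?_)
    have h1 : lift (toUnit (fib f ybar) ≫ η[G]) (jF f ybar) ≫ a.act ≫ f =
        toUnit (fib f ybar) ≫ ybar := by
      rw [← Category.assoc, Groth.Agent.Lib.T2H7.Blanchard.unit_act, jF_comp]
    rw [h1]
    show ybar.left.base ((toUnit (fib f ybar)).left.base xF) = ybar.left.base pt
    exact congrArg (fun t => ybar.left.base t) (hsub.elim _ _)
  obtain ⟨U, r, hsU, hfac⟩ := Groth.Agent.Lib.T2H7.Collapse.exists_local_fac ξ φ hcl h0 hmem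
  unfold Groth.Agent.Lib.T2H7.Collapse.Fac at hfac
  obtain ⟨ιy, hιy⟩ : ∃ ιy : G.left ⟶ (G ⊗ Y).left,
      ιy = (lift (𝟙 G) (toUnit G ≫ ybar)).left := ⟨_, rfl⟩
  obtain ⟨N₀, hN₀⟩ : ∃ N₀ : G.left.Opens, N₀ = ιy ⁻¹ᵁ U := ⟨_, rfl⟩
  have he : (η[G]).left.base pt ∈ N₀ := by
    rw [hN₀]
    show ιy.base ((η[G]).left.base pt) ∈ U
    have h1 : η[G] ≫ lift (𝟙 G) (toUnit G ≫ ybar) = lift η[G] ybar := by
      rw [comp_lift, Category.comp_id, ← Category.assoc,
        toUnit_unique (η[G] ≫ toUnit G) (𝟙 _), Category.id_comp]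
    have h2 : ιy.base ((η[G]).left.base pt) = (lift η[G] ybar).left.base pt := by
      rw [hιy, ← h1]; rfl
    rw [h2]; exact hsU
  have hirr : IrreducibleSpace ↥G.left :=
    Groth.Agent.Lib.Helper25.IdComp.irreducibleSpace_of_connectedSpace G
  have hN₀d : Dense (N₀ : Set ↥G.left) := N₀.isOpen.dense ⟨_, he⟩
  obtain ⟨pr, hpr⟩ : ∃ pr : (G ⊗ fib f ybar).left ⟶ G.left, pr = (fst G (fib f ybar)).left :=
    ⟨_, rfl⟩
  have hpropen : IsOpenMap pr.base := by
    have h1 : UniversallyOpen (fib f ybar).hom := inferInstance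
    have h2 : UniversallyOpen (pullback.fst G.hom (fib f ybar).hom) := inferInstance
    rw [hpr]
    exact (pullback.fst G.hom (fib f ybar).hom).isOpenMap
  obtain ⟨D, hD⟩ : ∃ D : (G ⊗ fib f ybar).left.Opens, D = pr ⁻¹ᵁ N₀ := ⟨_, rfl⟩
  have hDd : Dense (D : Set ↥(G ⊗ fib f ybar).left) := by
    rw [hD]; exact hN₀d.preimage hpropen
  refine ⟨D, hDd, ?_⟩
  obtain ⟨κ, hκ⟩ : ∃ κ : (G ⊗ fib f ybar).left ⟶ (G ⊗ X).left, κ = (G ◁ jF f ybar).left :=
    ⟨_, rfl⟩
  have hκξ : κ ≫ ξ = pr ≫ ιy := by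
    have h1 : (G ◁ jF f ybar) ≫ (G ◁ f) =
        fst G (fib f ybar) ≫ lift (𝟙 G) (toUnit G ≫ ybar) := by
      rw [← MonoidalCategory.whiskerLeft_comp, jF_comp]
      apply CartesianMonoidalCategory.hom_ext
      · rw [whiskerLeft_fst, Category.assoc, lift_fst, Category.comp_id]
      · rw [whiskerLeft_snd, Category.assoc, lift_snd, ← Category.assoc, ← Category.assoc,
          toUnit_unique (snd G (fib f ybar) ≫ toUnit (fib f ybar))
            (fst G (fib f ybar) ≫ toUnit G)]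
    have := congrArg (fun t : G ⊗ fib f ybar ⟶ G ⊗ Y => t.left) h1
    rw [hκ, hξd, hpr, hιy]
    exact this
  have hDmem : ∀ d : ↥(D : Scheme.{u}), ιy.base (pr.base d.1) ∈ U := by
    intro d
    have hd : d.1 ∈ pr ⁻¹ᵁ N₀ := by rw [← hD]; exact d.2
    have hd' : pr.base d.1 ∈ ιy ⁻¹ᵁ U := by rw [← hN₀]; exact hd
    exact hd'
  have hrκ : Set.range (D.ι ≫ κ).base ⊆ Set.range (ξ ⁻¹ᵁ U).ι.base := by
    rintro _ ⟨d, rfl⟩
    rw [Scheme.Opens.range_ι]
    show ξ.base (κ.base d.1) ∈ U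
    have h1 := congrArg (fun t : (G ⊗ fib f ybar).left ⟶ (G ⊗ Y).left => t.base d.1) hκξ
    simp only [Scheme.Hom.comp_base, TopCat.comp_app] at h1
    rw [h1]
    exact hDmem d
  obtain ⟨κD, hκD⟩ : ∃ κD : (D : Scheme.{u}) ⟶ (ξ ⁻¹ᵁ U : (G ⊗ X).left.Opens),
      κD ≫ (ξ ⁻¹ᵁ U).ι = D.ι ≫ κ :=
    ⟨IsOpenImmersion.lift _ _ hrκ, IsOpenImmersion.lift_fac _ _ _⟩
  obtain ⟨sx, hsx⟩ : ∃ sx : G.left ⟶ (G ⊗ fib f ybar).left,
      sx = (lift (𝟙 G) (toUnit G ≫ x)).left := ⟨_, rfl⟩
  have hsxpr : sx ≫ pr = 𝟙 _ := by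
    rw [hsx, hpr]
    have := congrArg (fun t : G ⟶ G => t.left) (lift_fst (𝟙 G) (toUnit G ≫ x))
    exact this
  have hrε : Set.range (D.ι ≫ pr ≫ sx).base ⊆ Set.range D.ι.base := by
    rintro _ ⟨d, rfl⟩
    rw [Scheme.Opens.range_ι]
    have hgoal : ∀ z : ↥(G ⊗ fib f ybar).left, ιy.base (pr.base z) ∈ U → z ∈ D := by
      intro z hz
      rw [hD, hN₀]; exact hz
    apply hgoal
    show ιy.base (pr.base (sx.base (pr.base d.1))) ∈ U
    have h1 := congrArg (fun t : G.left ⟶ G.left => t.base (pr.base d.1)) hsxpr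
    simp only [Scheme.Hom.comp_base, TopCat.comp_app] at h1
    rw [h1]
    exact hDmem d
  obtain ⟨εD, hεD⟩ : ∃ εD : (D : Scheme.{u}) ⟶ D, εD ≫ D.ι = D.ι ≫ pr ≫ sx :=
    ⟨IsOpenImmersion.lift _ _ hrε, IsOpenImmersion.lift_fac _ _ _⟩
  have hγ : (gam f a ybar).left = κ ≫ φ := by rw [hκ, hφd]; rfl
  have hγ' : (gam' f a ybar x).left = pr ≫ sx ≫ (gam f a ybar).left := by rw [hpr, hsx]; rfl
  have hA : (κD ≫ (ξ ∣_ U)) ≫ U.ι = D.ι ≫ pr ≫ ιy := by
    rw [Category.assoc, morphismRestrict_ι, ← Category.assoc, hκD, Category.assoc, hκξ]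
  have h1 : D.ι ≫ (gam f a ybar).left = (κD ≫ (ξ ∣_ U)) ≫ r := by
    rw [hγ, ← Category.assoc, ← hκD, Category.assoc, hfac, Category.assoc]
  have h2 : εD ≫ (κD ≫ (ξ ∣_ U)) = κD ≫ (ξ ∣_ U) := by
    rw [← cancel_mono U.ι, Category.assoc, hA, ← Category.assoc, hεD]
    simp only [Category.assoc]
    rw [← Category.assoc sx, hsxpr, Category.id_comp]
  rw [hγ', ← Category.assoc, ← Category.assoc, Category.assoc D.ι, ← hεD, Category.assoc, h1,
    ← Category.assoc, h2]

end Dense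

section Const

variable {k : Type u} [Field k] [IsAlgClosed k] {G X Y : Over (Spec (CommRingCat.of k))}
  [GrpObj G] [ConnectedSpace ↥G.left] [LocallyOfFiniteType Y.hom]
  (f : X ⟶ Y) [IsProper f.left] (hf : ∀ U : Y.left.Opens, IsIso (f.left.app U))
  (a : AlgGrp.Action G X) (ybar : 𝟙_ (Over (Spec (CommRingCat.of k))) ⟶ Y)
  (x : 𝟙_ (Over (Spec (CommRingCat.of k))) ⟶ fib f ybar)
  (g : 𝟙_ (Over (Spec (CommRingCat.of k))) ⟶ G)

theorem isClosed_singleton_rational (yy : 𝟙_ (Over (Spec (CommRingCat.of k))) ⟶ Y)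
    (pt : ↥(Spec (CommRingCat.of k))) : IsClosed ({yy.left.base pt} : Set ↥Y.left) := by
  have hsub : Subsingleton ↥(Spec (CommRingCat.of k)) := inferInstance
  have hw : yy.left ≫ Y.hom = 𝟙 (Spec (CommRingCat.of k)) := ybar_w yy
  have hci : IsClosedImmersion yy.left := isClosedImmersion_of_comp_eq_id Y.hom yy.left hw
  have h1 := yy.left.isClosedEmbedding.isClosed_range
  have h2 : Set.range yy.left.base = {yy.left.base pt} := by
    ext z
    constructor
    · rintro ⟨t, rfl⟩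
      exact congrArg (fun t => yy.left.base t) (hsub.elim _ _)
    · rintro rfl
      exact ⟨pt, rfl⟩
  rw [h2] at h1
  exact h1

include hf in
/-- **Key point**: for a rational point `g`, the map `x' ↦ f (g · x')` is constant on the fibre
of `f` over a rational point `y`. -/
theorem const_fib (xF : ↥(fib f ybar).left) (pt : ↥(Spec (CommRingCat.of k))) :
    (lift (toUnit (fib f ybar) ≫ g) (jF f ybar) ≫ a.act ≫ f).left.base xF =
      (x ≫ lift (toUnit (fib f ybar) ≫ g) (jF f ybar) ≫ a.act ≫ f).left.base pt := by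
  classical
  have hsub : Subsingleton ↥(Spec (CommRingCat.of k)) := inferInstance
  have hYN : IsLocallyNoetherian Y.left := LocallyOfFiniteType.isLocallyNoetherian Y.hom
  have hf' : ∀ U : Y.left.Opens, Function.Bijective (f.left.app U).hom := fun U => by
    have := hf U
    exact ConcreteCategory.bijective_of_isIso (f.left.app U)
  obtain ⟨D, hDd, hDeq⟩ := exists_dense_agree f hf' a ybar x
  have hEopen := isOpen_agree (gam f a ybar).left (gam' f a ybar x).left D hDd hDeq
  obtain ⟨jg, hjg⟩ : ∃ jg : fib f ybar ⟶ G ⊗ fib f ybar,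
      jg = lift (toUnit (fib f ybar) ≫ g) (𝟙 _) := ⟨_, rfl⟩
  have hjγ : jg ≫ gam f a ybar = lift (toUnit (fib f ybar) ≫ g) (jF f ybar) ≫ a.act ≫ f := by
    rw [hjg, gam, ← Category.assoc, lift_whiskerLeft, Category.id_comp]
  have hxjg : x ≫ jg = g ≫ lift (𝟙 G) (toUnit G ≫ x) := by
    rw [hjg, comp_lift, comp_lift, Category.comp_id, Category.comp_id, ← Category.assoc,
      ← Category.assoc, toUnit_unique (x ≫ toUnit (fib f ybar)) (𝟙 _),
      toUnit_unique (g ≫ toUnit G) (𝟙 _), Category.id_comp, Category.id_comp]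
  have hjγ' : jg ≫ gam' f a ybar x = toUnit (fib f ybar) ≫ (x ≫ jg ≫ gam f a ybar) := by
    rw [gam', hjg, ← Category.assoc, lift_fst, ← hjg, ← Category.assoc x, hxjg]
    simp only [Category.assoc]
  rw [← hjγ]
  obtain ⟨yg, hyg⟩ : ∃ yg : ↥Y.left, yg = (x ≫ jg ≫ gam f a ybar).left.base pt := ⟨_, rfl⟩
  rw [← hyg]
  have hγ'val : ∀ z : ↥(fib f ybar).left, (gam' f a ybar x).left.base (jg.left.base z) = yg := by
    intro z
    have h1 : (gam' f a ybar x).left.base (jg.left.base z) =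
        (jg ≫ gam' f a ybar x).left.base z := rfl
    rw [h1, hjγ', hyg]
    show (x ≫ jg ≫ gam f a ybar).left.base ((toUnit (fib f ybar)).left.base z) = _
    exact congrArg (fun t => (x ≫ jg ≫ gam f a ybar).left.base t) (hsub.elim _ _)
  have hAopen : IsOpen {z : ↥(fib f ybar).left | (jg ≫ gam f a ybar).left.base z = yg} := by
    have h1 : {z : ↥(fib f ybar).left | (jg ≫ gam f a ybar).left.base z = yg} =
        jg.left.base ⁻¹' {w | (gam f a ybar).left.base w = (gam' f a ybar x).left.base w} := by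
      ext z
      constructor
      · intro hz
        show (gam f a ybar).left.base (jg.left.base z) =
          (gam' f a ybar x).left.base (jg.left.base z)
        rw [hγ'val z]; exact hz
      · intro hz
        have hz' : (gam f a ybar).left.base (jg.left.base z) =
          (gam' f a ybar x).left.base (jg.left.base z) := hz
        rw [hγ'val z] at hz'; exact hz'
    rw [h1]
    exact hEopen.preimage jg.left.continuous
  have hAclosed : IsClosed {z : ↥(fib f ybar).left | (jg ≫ gam f a ybar).left.base z = yg} := by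
    have h1 : IsClosed ({yg} : Set ↥Y.left) := by
      rw [hyg]; exact isClosed_singleton_rational (x ≫ jg ≫ gam f a ybar) pt
    exact h1.preimage (jg ≫ gam f a ybar).left.continuous
  have hFconn : ConnectedSpace ↥(fib f ybar).left := by
    obtain ⟨V, hV, hyV, -⟩ := exists_isAffineOpen_mem_and_subset (x := ybar.left.base pt)
      (U := (⊤ : Y.left.Opens)) trivial
    exact Groth.Agent.Lib.T2H9.ConnGeom.connectedSpace_pullback f.left k ybar.left V hV
      (fun s' => by rw [hsub.elim s' pt]; exact hyV) (hf V)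
  have hne : {z : ↥(fib f ybar).left | (jg ≫ gam f a ybar).left.base z = yg}.Nonempty :=
    ⟨x.left.base pt, by rw [hyg]; rfl⟩
  have huniv := IsClopen.eq_univ ⟨hAclosed, hAopen⟩ hne
  have : xF ∈ {z : ↥(fib f ybar).left | (jg ≫ gam f a ybar).left.base z = yg} := by
    rw [huniv]; trivial
  exact this

end Const

section Final

variable (k : Type u) [Field k] [IsAlgClosed k] (G X Y : Over (Spec (CommRingCat.of k)))
  [GrpObj G] [LocallyOfFiniteType G.hom] [ConnectedSpace ↥G.left] [LocallyOfFiniteType Y.hom]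
  (f : X ⟶ Y) [IsProper f.left] (hf : ∀ U : Y.left.Opens, IsIso (f.left.app U))
  (a : AlgGrp.Action G X)

include hf in
/-- every rational point of `G × Y` lies in the collapsed locus -/
theorem rational_mem_locus (sbar : 𝟙_ (Over (Spec (CommRingCat.of k))) ⟶ G ⊗ Y)
    (pt : ↥(Spec (CommRingCat.of k))) :
    sbar.left.base pt ∈ Groth.Agent.Lib.T2H7.Collapse.locus (G ◁ f).left (a.act ≫ f).left := by
  have hsub : Subsingleton ↥(Spec (CommRingCat.of k)) := inferInstance
  have hYN : IsLocallyNoetherian Y.left := LocallyOfFiniteType.isLocallyNoetherian Y.hom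
  obtain ⟨g, hg⟩ : ∃ g : 𝟙_ (Over (Spec (CommRingCat.of k))) ⟶ G, g = sbar ≫ fst G Y := ⟨_, rfl⟩
  obtain ⟨ybar, hy⟩ : ∃ ybar : 𝟙_ (Over (Spec (CommRingCat.of k))) ⟶ Y, ybar = sbar ≫ snd G Y :=
    ⟨_, rfl⟩
  have hs : sbar = lift g ybar := by
    apply CartesianMonoidalCategory.hom_ext
    · rw [lift_fst, hg]
    · rw [lift_snd, hy]
  have hFconn : ConnectedSpace ↥(fib f ybar).left := by
    obtain ⟨V, hV, hyV, -⟩ := exists_isAffineOpen_mem_and_subset (x := ybar.left.base pt)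
      (U := (⊤ : Y.left.Opens)) trivial
    exact Groth.Agent.Lib.T2H9.ConnGeom.connectedSpace_pullback f.left k ybar.left V hV
      (fun s' => by rw [hsub.elim s' pt]; exact hyV) (hf V)
  have hFft : LocallyOfFiniteType (fib f ybar).hom := by
    have : LocallyOfFiniteType (pullback.snd f.left ybar.left) := inferInstance
    exact this
  have hFne : Nonempty ↥(fib f ybar).left := inferInstance
  obtain ⟨x⟩ := Groth.Agent.Lib.T2H7.AbAut.exists_rational_point k (fib f ybar)
  rw [hs]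
  exact mem_locus_of_const f ybar g a pt _ (fun xF => const_fib f hf a ybar x g xF pt)

include hf in
theorem locus_eq_univ :
    Groth.Agent.Lib.T2H7.Collapse.locus (G ◁ f).left (a.act ≫ f).left = Set.univ := by
  classical
  have hflat : Flat G.hom := inferInstance
  have hf' : ∀ U : Y.left.Opens, Function.Bijective (f.left.app U).hom := fun U => by
    have := hf U
    exact ConcreteCategory.bijective_of_isIso (f.left.app U)
  have hprop : IsProper (G ◁ f).left := Groth.Agent.Lib.T2H7.ActDescend.isProper_whiskerLeft G f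
  have h0 := Groth.Agent.Lib.T2H7.ActDescend.bijective_app_whiskerLeft G f hf'
  have hcl : IsClosedMap (G ◁ f).left.base := (G ◁ f).left.isClosedMap
  have hopen := Groth.Agent.Lib.T2H7.Collapse.isOpen_locus (G ◁ f).left (a.act ≫ f).left hcl h0
  by_contra hne
  have hft : LocallyOfFiniteType (G ⊗ Y).hom := by
    rw [Over.tensorObj_hom]; infer_instance
  have hJ : JacobsonSpace ↥(G ⊗ Y).left := LocallyOfFiniteType.jacobsonSpace (G ⊗ Y).hom
  have hne' : (Groth.Agent.Lib.T2H7.Collapse.locus (G ◁ f).left (a.act ≫ f).left)ᶜ.Nonempty :=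
    Set.nonempty_compl.mpr hne
  obtain ⟨s, hs, hscl⟩ := nonempty_inter_closedPoints hne' hopen.isClosed_compl.isLocallyClosed
  have hscl' : IsClosed ({s} : Set ↥(G ⊗ Y).left) := hscl
  obtain ⟨sbar, hsbar⟩ : ∃ sbar : 𝟙_ (Over (Spec (CommRingCat.of k))) ⟶ G ⊗ Y,
      sbar = Over.homMk (pointOfClosedPoint (G ⊗ Y).hom s hscl')
        (pointOfClosedPoint_comp (G ⊗ Y).hom s hscl') := ⟨_, rfl⟩
  obtain ⟨pt⟩ : Nonempty ↥(Spec (CommRingCat.of k)) := inferInstance
  have h1 := rational_mem_locus k G X Y f hf a sbar pt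
  have h2 : sbar.left.base pt = s := by
    rw [hsbar]
    exact pointOfClosedPoint_apply (G ⊗ Y).hom s hscl' pt
  rw [h2] at h1
  exact hs h1

include hf in
/-- **Blanchard's lemma over an algebraically closed field, no separatedness.** -/
theorem existsUnique_action :
    ∃! b : AlgGrp.Action G Y, (G ◁ f) ≫ b.act = a.act ≫ f := by
  have hflat : Flat G.hom := inferInstance
  have hf' : ∀ U : Y.left.Opens, Function.Bijective (f.left.app U).hom := fun U => by
    have := hf U
    exact ConcreteCategory.bijective_of_isIso (f.left.app U)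
  have hloc := locus_eq_univ k G X Y f hf a
  obtain ⟨b, hb⟩ := Groth.Agent.Lib.T2H7.ActDescend.descends_of_const f a hf' (by
    intro p q hpq
    have hp : (G ◁ f).left.base p ∈
        Groth.Agent.Lib.T2H7.Collapse.locus (G ◁ f).left (a.act ≫ f).left := by
      rw [hloc]; trivial
    obtain ⟨y', hy'⟩ := hp
    rw [hy' p rfl, hy' q hpq.symm])
  refine ⟨b, hb, fun b' hb' => ?_⟩
  have hepi : Epi (G ◁ f) := Groth.Agent.Lib.T2H7.ActDescend.epi_whiskerLeft G f hf'
  apply Groth.Agent.Lib.T2H7.ProdAct.action_ext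
  rw [← cancel_epi (G ◁ f), hb', hb]

end Final

end Groth.Agent.Lib.T2H7.BlanchardNS
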