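-- helper7 (team 2): stalks of blow-ups along regular ideals via the affine charts; Cohen–Macaulay
-- property of sections and stalks.
import Mathlib
import Groth.Agent.Lib.T2H7BlowCM
import Groth.Agent.Lib.T2H7BlowExc
import Groth.Prelude.Def_RegImm

set_option autoImplicit false
universe u
open CategoryTheory CategoryTheory.Limits AlgebraicGeometry RingTheory.Sequence

namespace Groth.Agent.Lib.T2H7.BlowStalk

open Groth.Agent.Lib.T2H7.BlowKos Groth.Agent.Lib.T2H7.BlowCM Groth.Agent.Lib.T2H7.BlowExc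

section Regular

/-- around every point, a regular ideal is generated by a weakly regular sequence on an affine
open (use `[1]` off the support) -/
theorem exists_weaklyRegular_of_isRegularIdeal {X : Scheme.{u}} (I : X.IdealSheafData)
    (hI : RegImm.IsRegularIdeal RegImm.Kind.regular I) (x : X) :
    ∃ (U : X.Opens) (hU : IsAffineOpen U), x ∈ U ∧ ∃ rs : List Γ(X, U),
      IsWeaklyRegular Γ(X, U) rs ∧ I.ideal ⟨U, hU⟩ = Ideal.ofList rs := by
  by_cases hx : x ∈ I.support
  · obtain ⟨U, hxU, rs, hrs, hrI⟩ := hI x hx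
    have hrs' : IsRegular Γ(X, U.1) rs := hrs
    exact ⟨U.1, U.2, hxU, rs, hrs'.toIsWeaklyRegular, hrI⟩
  · obtain ⟨_, ⟨U₀, hU₀, rfl⟩, hxU₀, -⟩ :=
      X.isBasis_affineOpens.exists_subset_of_mem_open (Set.mem_univ x) isOpen_univ
    have hU₀ : IsAffineOpen U₀ := hU₀
    rw [Scheme.IdealSheafData.mem_support_iff_of_mem (U := ⟨U₀, hU₀⟩) hxU₀,
      Scheme.mem_zeroLocus_iff] at hx
    simp only [not_forall] at hx
    obtain ⟨f, hf, hxf⟩ := hx
    rw [not_not] at hxf
    refine ⟨X.basicOpen f, hU₀.basicOpen f, hxf, [1], ?_, ?_⟩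
    · rw [isWeaklyRegular_singleton_iff]
      exact IsSMulRegular.one _
    · rw [Ideal.ofList_singleton, Ideal.span_singleton_one]
      have h1 := I.map_ideal_basicOpen ⟨U₀, hU₀⟩ f
      have h2 : (X.presheaf.map (homOfLE (X.basicOpen_le f)).op).hom f ∈
          I.ideal (X.affineBasicOpen (U := ⟨U₀, hU₀⟩) f) := by
        rw [← h1]
        exact Ideal.mem_map_of_mem _ hf
      have h3 : IsUnit ((X.presheaf.map (homOfLE (X.basicOpen_le f)).op).hom f) :=
        RingedSpace.isUnit_res_basicOpen _ f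
      exact Ideal.eq_top_of_isUnit_mem _ h2 h3

end Regular

section CM

open Groth.Agent.Lib.Helper28

/-- sections over an affine open of a locally Noetherian scheme with Cohen–Macaulay stalks form a
Cohen–Macaulay ring -/
theorem isCohenMacaulayRing_sections {X : Scheme.{u}} [IsLocallyNoetherian X]
    (hcm : ∀ x : X, LocCoh.IsCohenMacaulayLocalRing (X.presheaf.stalk x))
    (U : X.Opens) (hU : IsAffineOpen U) : LocCoh.IsCohenMacaulayRing Γ(X, U) := by
  have hN : IsNoetherianRing Γ(X, U) := IsLocallyNoetherian.component_noetherian ⟨U, hU⟩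
  refine { isCohenMacaulayLocalRing_localization := fun p hp => ?_ }
  set y : X := hU.fromSpec ⟨p, hp⟩ with hy
  have hyU : y ∈ U := by
    have : y ∈ Set.range hU.fromSpec := ⟨_, rfl⟩
    rw [hU.range_fromSpec] at this
    exact this
  have hprime : hU.primeIdealOf ⟨y, hyU⟩ = ⟨p, hp⟩ := by
    apply hU.fromSpec.isOpenEmbedding.injective
    rw [hU.fromSpec_primeIdealOf]
  have key : ∀ q : PrimeSpectrum Γ(X, U), q = ⟨p, hp⟩ →
      ∀ (_ : Algebra Γ(X, U) (X.presheaf.stalk y)),
        IsLocalization.AtPrime (X.presheaf.stalk y) q.asIdeal →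
        LocCoh.IsCohenMacaulayLocalRing (Localization.AtPrime p) := by
    rintro q rfl alg hloc
    have := hcm y
    exact isCohenMacaulayLocalRing_of_ringEquiv
      (IsLocalization.algEquiv p.primeCompl (X.presheaf.stalk y)
        (Localization.AtPrime p)).toRingEquiv
  exact key _ hprime (TopCat.Presheaf.algebra_section_stalk X.presheaf (⟨y, hyU⟩ : U))
    (hU.isLocalization_stalk ⟨y, hyU⟩)

/-- the stalk at a point of an affine open with Cohen–Macaulay ring of sections is
Cohen–Macaulay -/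
theorem isCohenMacaulayLocalRing_stalk_of_sections {X : Scheme.{u}} (U : X.Opens)
    (hU : IsAffineOpen U) [hΓ : LocCoh.IsCohenMacaulayRing Γ(X, U)] (x : X) (hx : x ∈ U) :
    LocCoh.IsCohenMacaulayLocalRing (X.presheaf.stalk x) := by
  let _ := TopCat.Presheaf.algebra_section_stalk X.presheaf (⟨x, hx⟩ : U)
  have hloc := hU.isLocalization_stalk ⟨x, hx⟩
  have := hΓ.isCohenMacaulayLocalRing_localization (hU.primeIdealOf ⟨x, hx⟩).asIdeal
  exact isCohenMacaulayLocalRing_of_ringEquiv
    (IsLocalization.algEquiv (hU.primeIdealOf ⟨x, hx⟩).asIdeal.primeCompl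
      (Localization.AtPrime (hU.primeIdealOf ⟨x, hx⟩).asIdeal) (X.presheaf.stalk x)).toRingEquiv

/-- the blow-up of a locally Noetherian Cohen–Macaulay scheme along a regular ideal is
Cohen–Macaulay -/
theorem isCohenMacaulayLocalRing_stalk_of_isBlowUp {W T : Scheme.{u}} [IsLocallyNoetherian W]
    (hcm : ∀ w : W, LocCoh.IsCohenMacaulayLocalRing (W.presheaf.stalk w))
    (I : W.IdealSheafData) (hI : RegImm.IsRegularIdeal RegImm.Kind.regular I)
    (π : T ⟶ W) (hπ : BlowUp.IsBlowUp π I) (t : T) :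
    LocCoh.IsCohenMacaulayLocalRing (T.presheaf.stalk t) := by
  obtain ⟨U, hU, hxU, rs, hrs, hIU⟩ := exists_weaklyRegular_of_isRegularIdeal I hI (π t)
  have hA := isCohenMacaulayRing_sections hcm U hU
  obtain ⟨W', hW', hle, j, σ, htW', -⟩ := exists_algEquiv_chart π I hπ U hU rs hIU t hxU
  have hB := isCohenMacaulayRing_affineAlgebra rs hrs rs[j] (List.getElem_mem _)
  have hΓ : LocCoh.IsCohenMacaulayRing Γ(T, W') := isCohenMacaulayRing_of_ringEquiv σ.symm
  exact isCohenMacaulayLocalRing_stalk_of_sections W' hW' t htW'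

end CM

end Groth.Agent.Lib.T2H7.BlowStalk
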