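-- helper7 (team 2): the blow-up of the spectrum of a regular local ring at its closed point has
-- regular local rings and is irreducible.
import Mathlib
import Groth.Agent.Lib.T2H7BlowReg
import Groth.Agent.Lib.T2H7BlowStalk
import Groth.Agent.Lib.Helper8RegDual
import Groth.Agent.Lib.Helper28RegLoc
import Groth.Agent.Lib.Helper5RLR

set_option autoImplicit false
universe u
open CategoryTheory CategoryTheory.Limits AlgebraicGeometry RingTheory.Sequence

namespace Groth.Agent.Lib.T2H7.BlowRLR

open Groth.Agent.Lib.T2H7.BlowReg Groth.Agent.Lib.T2H7.BlowExc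
open Groth.Agent.Lib.T2H6.BlowUpAffine

section Stalk

/-- the stalk at a point of an affine open with regular ring of sections is regular -/
theorem isRegularLocalRing_stalk_of_sections {X : Scheme.{u}} (U : X.Opens)
    (hU : IsAffineOpen U) [hΓ : IsRegularRing Γ(X, U)] (x : X) (hx : x ∈ U) :
    IsRegularLocalRing (X.presheaf.stalk x) := by
  let _ := TopCat.Presheaf.algebra_section_stalk X.presheaf (⟨x, hx⟩ : U)
  have hloc := hU.isLocalization_stalk ⟨x, hx⟩
  have := hΓ.isRegularLocalRing_localization (hU.primeIdealOf ⟨x, hx⟩).asIdeal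
  exact IsRegularLocalRing.of_ringEquiv
    (IsLocalization.algEquiv (hU.primeIdealOf ⟨x, hx⟩).asIdeal.primeCompl
      (Localization.AtPrime (hU.primeIdealOf ⟨x, hx⟩).asIdeal) (X.presheaf.stalk x)).toRingEquiv

end Stalk

section RLR

variable (A : Type u) [CommRing A] [IsRegularLocalRing A]

theorem isRegularRing_of_isRegularLocalRing : IsRegularRing A :=
  { isRegularLocalRing_localization := fun p _ =>
      Groth.Agent.Lib.Helper28.isRegularLocalRing_localization_of_isRegularLocalRing A p }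

/-- a regular system of parameters transported to the global sections of `Spec A` -/
theorem exists_rsop_sections (d : ℕ) (hd : ringKrullDim A = d) :
    ∃ rs : List Γ(Spec (CommRingCat.of A), ⊤), IsWeaklyRegular Γ(Spec (CommRingCat.of A), ⊤) rs ∧
      (idl (IsLocalRing.maximalIdeal A)).ideal ⟨⊤, isAffineOpen_top _⟩ = Ideal.ofList rs ∧
      IsRegularRing Γ(Spec (CommRingCat.of A), ⊤) ∧
      IsRegularRing (Γ(Spec (CommRingCat.of A), ⊤) ⧸ Ideal.ofList rs) := by
  obtain ⟨rs₀, -, hreg, hspan⟩ := Groth.Agent.Lib.Helper8.RegDual.exists_rsop A d hd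
  let e : A ≃+* Γ(Spec (CommRingCat.of A), ⊤) :=
    (Scheme.ΓSpecIso (CommRingCat.of A)).symm.commRingCatIsoToRingEquiv
  have he : ∀ x, e x = (Scheme.ΓSpecIso (CommRingCat.of A)).inv.hom x := fun _ => rfl
  have hmapeq : Ideal.map (Scheme.ΓSpecIso (CommRingCat.of A)).inv.hom
      (IsLocalRing.maximalIdeal A) = Ideal.ofList (rs₀.map e) := by
    rw [← hspan, Ideal.map_ofList]
    rfl
  refine ⟨rs₀.map e, ?_, ?_, ?_, ?_⟩
  · refine (AddEquiv.isWeaklyRegular_congr (e := e.toAddEquiv) ?_).1 hreg.toIsWeaklyRegular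
    rw [List.forall₂_map_right_iff, List.forall₂_same]
    intro r _ x
    exact map_mul e r x
  · rw [idl_ideal_top, hmapeq]
  · have := isRegularRing_of_isRegularLocalRing A
    exact IsRegularRing.of_ringEquiv e
  · have h1 : IsRegularRing (A ⧸ IsLocalRing.maximalIdeal A) := by
      let _ : Field (A ⧸ IsLocalRing.maximalIdeal A) := Ideal.Quotient.field _
      infer_instance
    have h2 : Ideal.ofList (rs₀.map e) = Ideal.map (e : A →+* _) (IsLocalRing.maximalIdeal A) := by
      rw [← hmapeq]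
      rfl
    exact IsRegularRing.of_ringEquiv (Ideal.quotientEquiv _ _ e h2)

/-- the local rings of a blow-up of a regular local ring at the closed point are regular -/
theorem isRegularLocalRing_stalk (d : ℕ) (hd : ringKrullDim A = d) (X : Scheme.{u})
    (b : X ⟶ Spec (CommRingCat.of A))
    (hb : BlowUp.IsBlowUp b (idl (IsLocalRing.maximalIdeal A))) (x : X) :
    IsRegularLocalRing (X.presheaf.stalk x) := by
  obtain ⟨rs, hrs, hI, hR, hQ⟩ := exists_rsop_sections A d hd
  obtain ⟨W, hW, hle, j, σ, hxW, -⟩ := exists_algEquiv_chart b _ hb ⊤ (isAffineOpen_top _) rs hI x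
    trivial
  have hD := isRegularRing_affineAlgebra rs hrs j
  have hΓ : IsRegularRing Γ(X, W) := IsRegularRing.of_ringEquiv σ.symm
  exact isRegularLocalRing_stalk_of_sections W hW x hxW

end RLR

section Topology

theorem isIrreducible_of_isDomain {X : Scheme.{u}} (W : X.Opens) (hW : IsAffineOpen W)
    [IsDomain Γ(X, W)] : IsIrreducible (W : Set X) := by
  have : IrreducibleSpace (Spec Γ(X, W)) := inferInstance
  have h := (IrreducibleSpace.isIrreducible_univ (Spec Γ(X, W))).image hW.fromSpec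
    hW.fromSpec.continuous.continuousOn
  rwa [Set.image_univ, hW.range_fromSpec] at h

theorem irreducibleSpace_of_cover {X : Type*} [TopologicalSpace X] (ξ : X)
    (h : ∀ x : X, ∃ W : Set X, IsOpen W ∧ x ∈ W ∧ ξ ∈ W ∧ IsIrreducible W) :
    IrreducibleSpace X := by
  have hpre : PreirreducibleSpace X := by
    refine ⟨?_⟩
    rintro u v hu hv ⟨x, -, hxu⟩ ⟨y, -, hyv⟩
    obtain ⟨W, hWo, hxW, hξW, hWi⟩ := h x
    obtain ⟨W', hWo', hyW', hξW', hWi'⟩ := h y
    obtain ⟨z, hzW, hzu, hzW'⟩ := hWi.2 u W' hu hWo' ⟨x, hxW, hxu⟩ ⟨ξ, hξW, hξW'⟩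
    obtain ⟨w, -, hwu, hwv⟩ := hWi'.2 u v hu hv ⟨z, hzW', hzu⟩ ⟨y, hyW', hyv⟩
    exact ⟨w, trivial, hwu, hwv⟩
  exact { toPreirreducibleSpace := hpre, toNonempty := ⟨ξ⟩ }

end Topology

section AffAlg

variable {R : Type u} [CommRing R] (I : Ideal R) (c : R)

theorem subsingleton_affineAlgebra (hc : c = 0) : Subsingleton (BlowUp.affineAlgebra R I c) := by
  have hsub : Subsingleton (Localization.Away c) :=
    IsLocalization.subsingleton (M := Submonoid.powers c) (by rw [hc]; exact ⟨1, by simp⟩)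
  exact ⟨fun a b => Subtype.ext (Subsingleton.elim _ _)⟩

theorem isDomain_affineAlgebra [IsDomain R] (hc : c ≠ 0) :
    IsDomain (BlowUp.affineAlgebra R I c) := by
  have hdomL : IsDomain (Localization.Away c) :=
    IsLocalization.isDomain_localization (M := Submonoid.powers c)
      (powers_le_nonZeroDivisors_of_noZeroDivisors hc)
  infer_instance

theorem exists_lift_affineAlgebra {K : Type u} [CommRing K] (g : R →+* K) (hg : IsUnit (g c)) :
    ∃ ι : BlowUp.affineAlgebra R I c →+* K, ∀ a, ι (algebraMap R _ a) = g a :=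
  ⟨(IsLocalization.Away.lift c hg).comp (BlowUp.affineAlgebra R I c).val.toRingHom,
    fun a => IsLocalization.Away.lift_eq c hg a⟩

end AffAlg

section Irred

variable (A : Type u) [CommRing A] [IsRegularLocalRing A]

theorem maximalIdeal_ne_bot (d : ℕ) (hd : ringKrullDim A = d) (hd0 : 0 < d) :
    IsLocalRing.maximalIdeal A ≠ ⊥ := by
  intro h
  have hf : IsField A := IsLocalRing.isField_iff_maximalIdeal_eq.2 h
  have h0 := ringKrullDim_eq_zero_of_isField hf
  rw [hd] at h0
  have : (d : WithBot ℕ∞) = ((0 : ℕ) : WithBot ℕ∞) := by rw [h0]; rfl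
  have h1 : d = 0 := by exact_mod_cast this
  omega

theorem sharp_SpecMap {R T : CommRingCat.{u}} (φ : R ⟶ T) :
    sharp (Spec.map φ) = φ ≫ (Scheme.ΓSpecIso T).inv := by
  have h := sharp_comp_SpecMap (𝟙 (Spec T)) φ
  rw [Category.id_comp] at h
  rw [h]
  simp [sharp]

/-- the generic point of `Spec A` lifts to the blow-up -/
theorem isEffCartierIdeal_comap_fractionRing (d : ℕ) (hd : ringKrullDim A = d) (hd0 : 0 < d) :
    BlowUp.IsEffCartierIdeal ((idl (IsLocalRing.maximalIdeal A)).comap
      (Spec.map (CommRingCat.ofHom (algebraMap A (FractionRing A))))) := by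
  have hdom : IsDomain A := Groth.Agent.Lib.Helper5.isDomain_of_isRegularLocalRing A
  intro y
  refine ⟨⟨⊤, isAffineOpen_top _⟩, trivial, 1, one_mem _, ?_⟩
  rw [ideal_comap_top, Ideal.span_singleton_one, sharp_SpecMap]
  obtain ⟨r, hr, hr0⟩ := Submodule.exists_mem_ne_zero_of_ne_bot (maximalIdeal_ne_bot A d hd hd0)
  have hu : IsUnit (algebraMap A (FractionRing A) r) := by
    rw [isUnit_iff_ne_zero]
    intro h0
    exact hr0 ((IsFractionRing.injective A (FractionRing A)) (by rw [h0, map_zero]))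
  refine Ideal.eq_top_of_isUnit_mem _ (Ideal.mem_map_of_mem _ hr) ?_
  exact hu.map (Scheme.ΓSpecIso (CommRingCat.of (FractionRing A))).inv.hom

omit [IsRegularLocalRing A] in
theorem exists_equiv_sections [IsDomain A] :
    ∃ (e : A ≃+* Γ(Spec (CommRingCat.of A), ⊤))
      (gK : Γ(Spec (CommRingCat.of A), ⊤) →+* FractionRing A),
      (∀ a, e a = (Scheme.ΓSpecIso (CommRingCat.of A)).inv.hom a) ∧
      (∀ a, gK (e a) = algebraMap A (FractionRing A) a) ∧ Function.Injective gK := by
  refine ⟨(Scheme.ΓSpecIso (CommRingCat.of A)).symm.commRingCatIsoToRingEquiv,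
    (algebraMap A (FractionRing A)).comp
      (Scheme.ΓSpecIso (CommRingCat.of A)).symm.commRingCatIsoToRingEquiv.symm.toRingHom,
    fun _ => rfl, ?_, ?_⟩
  · intro a
    show algebraMap A (FractionRing A) (_ : A) = _
    congr 1
    exact RingEquiv.symm_apply_apply _ a
  · exact (IsFractionRing.injective A (FractionRing A)).comp (RingEquiv.injective _)

/-- the blow-up of a regular local ring of positive dimension at its closed point is
irreducible -/
theorem irreducibleSpace_of_isBlowUp (d : ℕ) (hd : ringKrullDim A = d) (hd0 : 0 < d)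
    (X : Scheme.{u}) (b : X ⟶ Spec (CommRingCat.of A))
    (hb : BlowUp.IsBlowUp b (idl (IsLocalRing.maximalIdeal A))) : IrreducibleSpace X := by
  have hdom : IsDomain A := Groth.Agent.Lib.Helper5.isDomain_of_isRegularLocalRing A
  obtain ⟨rs, hrs, hI, hR, hQ⟩ := exists_rsop_sections A d hd
  obtain ⟨e, gK, he, hgK, hgKinj⟩ := exists_equiv_sections A
  have hdomΓ : IsDomain Γ(Spec (CommRingCat.of A), ⊤) := e.symm.toMulEquiv.isDomain A
  obtain ⟨h, hh, huniq⟩ := hb.2 _ (Spec.map (CommRingCat.ofHom (algebraMap A (FractionRing A))))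
    (isEffCartierIdeal_comap_fractionRing A d hd hd0)
  obtain ⟨pt⟩ : Nonempty (Spec (CommRingCat.of (FractionRing A))) := ⟨⟨⊥, Ideal.isPrime_bot⟩⟩
  refine irreducibleSpace_of_cover (h pt) (fun x => ?_)
  obtain ⟨W, hW, hle, j, σ, hxW, hσ⟩ := exists_algEquiv_chart b _ hb ⊤ (isAffineOpen_top _) rs hI x
    trivial
  generalize rs[j] = c at σ hσ
  have hc0 : c ≠ 0 := by
    intro h0
    have hsubD := subsingleton_affineAlgebra (Ideal.ofList rs) c h0
    have hsub2 : Subsingleton Γ(X, W) := σ.injective.subsingleton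
    have hx : x ∈ Set.range hW.fromSpec := by rw [hW.range_fromSpec]; exact hxW
    obtain ⟨p, -⟩ := hx
    exact p.isPrime.ne_top (Subsingleton.elim _ _)
  have hdomD := isDomain_affineAlgebra (Ideal.ofList rs) c hc0
  have hdomW : IsDomain Γ(X, W) := σ.toMulEquiv.isDomain _
  refine ⟨W, W.2, hxW, ?_, isIrreducible_of_isDomain W hW⟩
  have hgu : IsUnit (gK c) := by
    rw [isUnit_iff_ne_zero]
    intro h0
    exact hc0 (hgKinj (by rw [h0, map_zero]))
  obtain ⟨ι, hι⟩ := exists_lift_affineAlgebra (Ideal.ofList rs) c gK hgu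
  have hgW : (Spec.map (CommRingCat.ofHom (ι.comp σ.toRingHom)) ≫ hW.fromSpec) ≫ b =
      Spec.map (CommRingCat.ofHom (algebraMap A (FractionRing A))) := by
    rw [Category.assoc, ← IsAffineOpen.SpecMap_appLE_fromSpec b (isAffineOpen_top _) hW hle,
      IsAffineOpen.fromSpec_top, Scheme.isoSpec_Spec_inv, ← Spec.map_comp, ← Spec.map_comp]
    congr 1
    ext a
    have h1 := congrArg (fun ψ => ψ (e a)) hσ
    simp only [RingHom.comp_apply] at h1
    show ι (σ ((b.appLE ⊤ W hle).hom ((Scheme.ΓSpecIso (CommRingCat.of A)).inv.hom a))) =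
      algebraMap A (FractionRing A) a
    rw [← he a]
    have h2 : σ ((b.appLE ⊤ W hle).hom (e a)) = algebraMap _ _ (e a) := h1
    rw [h2, hι, hgK]
  have hgWh := huniq _ hgW
  rw [← hgWh]
  have hmem : (Spec.map (CommRingCat.ofHom (ι.comp σ.toRingHom)) ≫ hW.fromSpec) pt ∈
      Set.range hW.fromSpec := ⟨Spec.map (CommRingCat.ofHom (ι.comp σ.toRingHom)) pt, rfl⟩
  rw [hW.range_fromSpec] at hmem
  exact hmem

end Irred

end Groth.Agent.Lib.T2H7.BlowRLR
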