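import Mathlib
import Groth.Agent.Lib.T2H7SyntC
import Groth.Agent.Lib.T2H7SyntF
import Groth.Agent.Lib.Helper13Vasc4
import Groth.Agent.Lib.T2H9KoszulH1
import Groth.Agent.Lib.T2H7KRegH
import Groth.Agent.Lib.T2H7SyntD
import Groth.Agent.Lib.Helper4FibDimE
import Groth.Agent.Lib.T2H9SyntComp

/-!
# Syntomic ring maps are local complete intersections (helper7)

`isLCI_of_isSyntomic`: a flat, finitely presented ring map with local complete intersection fibres
is a local complete intersection ring map (Koszul-regular kernel).  The proof lifts a regular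
sequence from the local ring of a fibre (`exists_lifts`), shows it generates the kernel near the
prime by flatness and Nakayama (`inf_map_le_mul_of_flat`, `exists_mul_mem_ofList`), and uses
Chevalley's semicontinuity of the fibre dimension (`regular_of_fibLD_le`, `exists_nbhd_regular`) to
keep it regular at all nearby primes, hence Koszul-regular after inverting one element
(`torsAt_of_forall_prime`).
-/

set_option autoImplicit false

universe u
open TensorProduct MvPolynomial

namespace Groth.Agent.Lib.T2H7.SyntG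

open IsLocalRing RingTheory.Sequence
open Groth.Agent.Lib.T2H7.SyntA Groth.Agent.Lib.T2H7.SyntB Groth.Agent.Lib.T2H7.SyntC
  Groth.Agent.Lib.T2H7.SyntF Groth.Agent.Lib.T2H7.FPFlat

section Lifts

variable {R : Type u} [CommRing R] (p : Ideal R) [p.IsPrime] (n : ℕ)

/-- a prime of `κ(p)[x]` is determined by its trace on `R[x]` -/
theorem eq_of_comap_ι_eq (Q Q' : Ideal (MvPolynomial (Fin n) p.ResidueField)) [Q.IsPrime]
    [Q'.IsPrime] (h : Q.comap (ι p n) = Q'.comap (ι p n)) : Q = Q' := by
  have key : ∀ (Q₁ Q₂ : Ideal (MvPolynomial (Fin n) p.ResidueField)), Q₂.IsPrime →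
      Q₁.comap (ι p n) = Q₂.comap (ι p n) → Q₁ ≤ Q₂ := by
    intro Q₁ Q₂ h₂ he u hu
    obtain ⟨r, hr, v, ev⟩ := exists_clear p n u
    have hunit : IsUnit (C (algebraMap R p.ResidueField r) :
        MvPolynomial (Fin n) p.ResidueField) := by
      apply IsUnit.map
      rw [isUnit_iff_ne_zero, ne_eq, Ideal.algebraMap_residueField_eq_zero]
      exact hr
    have h1 : v ∈ Q₁.comap (ι p n) := by
      rw [Ideal.mem_comap, ev]
      exact Ideal.mul_mem_left _ _ hu
    rw [he, Ideal.mem_comap, ev] at h1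
    exact (Ideal.unit_mul_mem_iff_mem _ hunit).mp h1
  exact le_antisymm (key Q Q' inferInstance h) (key Q' Q inferInstance h.symm)

variable (Q : Ideal (MvPolynomial (Fin n) p.ResidueField)) [Q.IsPrime]

/-- elements of the extension of `I` to the local ring of the fibre are unit multiples of images of
elements of `I` -/
theorem exists_unit_mul_eq (I : Ideal (MvPolynomial (Fin n) R)) (y : Localization.AtPrime Q)
    (hy : y ∈ (I.map (ι p n)).map
      (algebraMap (MvPolynomial (Fin n) p.ResidueField) (Localization.AtPrime Q))) :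
    ∃ v ∈ I, ∃ u : (Localization.AtPrime Q)ˣ,
      algebraMap (MvPolynomial (Fin n) p.ResidueField) (Localization.AtPrime Q) (ι p n v) =
        y * u := by
  rw [IsLocalization.mem_map_algebraMap_iff Q.primeCompl] at hy
  obtain ⟨⟨⟨a, ha⟩, s⟩, e⟩ := hy
  simp only at e
  obtain ⟨r, hr, v, hv, ev⟩ := exists_of_mem_map_ι p n I a ha
  have hunit : IsUnit (C (algebraMap R p.ResidueField r) :
      MvPolynomial (Fin n) p.ResidueField) := by
    apply IsUnit.map
    rw [isUnit_iff_ne_zero, ne_eq, Ideal.algebraMap_residueField_eq_zero]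
    exact hr
  have hu1 : IsUnit (algebraMap (MvPolynomial (Fin n) p.ResidueField) (Localization.AtPrime Q)
      (C (algebraMap R p.ResidueField r))) := hunit.map _
  have hu2 : IsUnit (algebraMap (MvPolynomial (Fin n) p.ResidueField) (Localization.AtPrime Q)
      (s : MvPolynomial (Fin n) p.ResidueField)) :=
    IsLocalization.map_units (Localization.AtPrime Q) s
  obtain ⟨u, hu⟩ := hu1.mul hu2
  refine ⟨v, hv, u, ?_⟩
  rw [ev, map_mul, ← e, hu]
  ring

/-- lifting a regular sequence generating the extension of `I` to elements of `I` -/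
theorem exists_lifts (I : Ideal (MvPolynomial (Fin n) R)) (rs : List (Localization.AtPrime Q))
    (hreg : IsRegular (Localization.AtPrime Q) rs)
    (hrs : Ideal.ofList rs = (I.map (ι p n)).map
      (algebraMap (MvPolynomial (Fin n) p.ResidueField) (Localization.AtPrime Q))) :
    ∃ F : Fin rs.length → MvPolynomial (Fin n) R, (∀ i, F i ∈ I) ∧
      IsRegular (Localization.AtPrime Q) (((List.ofFn F).map (ι p n)).map
        (algebraMap (MvPolynomial (Fin n) p.ResidueField) (Localization.AtPrime Q))) ∧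
      Ideal.ofList (((List.ofFn F).map (ι p n)).map
        (algebraMap (MvPolynomial (Fin n) p.ResidueField) (Localization.AtPrime Q))) =
        (I.map (ι p n)).map
          (algebraMap (MvPolynomial (Fin n) p.ResidueField) (Localization.AtPrime Q)) := by
  have h1 : ∀ i : Fin rs.length, ∃ v ∈ I, ∃ u : (Localization.AtPrime Q)ˣ,
      algebraMap (MvPolynomial (Fin n) p.ResidueField) (Localization.AtPrime Q) (ι p n v) =
        rs.get i * u := by
    intro i
    apply exists_unit_mul_eq p n Q I
    rw [← hrs]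
    exact Ideal.subset_span (List.get_mem rs i)
  choose F hF u hu using h1
  have hf2 : List.Forall₂ (fun (t t' : Localization.AtPrime Q) =>
      ∃ w : (Localization.AtPrime Q)ˣ, t' = t * (w : Localization.AtPrime Q)) rs
      (((List.ofFn F).map (ι p n)).map
        (algebraMap (MvPolynomial (Fin n) p.ResidueField) (Localization.AtPrime Q))) := by
    rw [List.forall₂_iff_get]
    refine ⟨by simp, ?_⟩
    intro i h₁ h₂
    refine ⟨u ⟨i, h₁⟩, ?_⟩
    rw [List.get_eq_getElem, List.get_eq_getElem, List.getElem_map, List.getElem_map,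
      List.getElem_ofFn]
    exact hu ⟨i, h₁⟩
  have hof := Groth.Agent.Helper13Vasc.ofList_eq_of_forall₂_units hf2
  have hw := Groth.Agent.Helper13Vasc.isWeaklyRegular_of_forall₂_units hf2 hreg.toIsWeaklyRegular
  refine ⟨F, hF, ?_, by rw [hof, hrs]⟩
  refine ⟨hw, ?_⟩
  rw [smul_eq_mul, Ideal.mul_top, hof]
  have := hreg.top_ne_smul
  rwa [smul_eq_mul, Ideal.mul_top] at this

end Lifts

section Regular

variable {R : Type u} [CommRing R] (p : Ideal R) [p.IsPrime] (n : ℕ)
  (q' : Ideal (MvPolynomial (Fin n) R)) [q'.IsPrime] [q'.LiesOver p]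
  (Q : Ideal (MvPolynomial (Fin n) p.ResidueField)) [Q.IsPrime]

/-- regularity on the localized fibre module from regularity in the local ring of the fibre -/
theorem isRegular_fibre_module (hQ : Q.comap (ι p n) = q') (g : List (MvPolynomial (Fin n) R))
    (hg : Ideal.ofList g ≤ q')
    (hreg : IsWeaklyRegular (Localization.AtPrime Q) ((g.map (ι p n)).map
      (algebraMap (MvPolynomial (Fin n) p.ResidueField) (Localization.AtPrime Q)))) :
    IsRegular (LocalizedModule q'.primeCompl
      (MvPolynomial (Fin n) R ⊗[R] p.ResidueField)) g := by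
  have hq' : q'.comap (algebraMap R (MvPolynomial (Fin n) R)) = p :=
    (Ideal.LiesOver.over (p := p) (P := q')).symm
  refine ⟨⟨fun i hi => ?_⟩, ?_⟩
  · apply isSMulRegular_fibre_of_elementary p q'
    intro m hm
    obtain ⟨t, ht, hm'⟩ := hm
    have key := elementary_of_isWeaklyRegular p n q' Q hq' hQ g hreg
      i hi m ⟨t, ht, (mem_sup_smul_top_iff _ _ _).mp hm'⟩
    obtain ⟨t', ht', hk⟩ := key
    exact ⟨t', ht', (mem_sup_smul_top_iff _ _ _).mpr hk⟩
  · intro htop
    have h1 : LocalizedModule.mk ((1 : MvPolynomial (Fin n) R) ⊗ₜ[R] (1 : p.ResidueField))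
        (1 : q'.primeCompl) ∈ (Ideal.ofList g • ⊤ : Submodule (MvPolynomial (Fin n) R)
          (LocalizedModule q'.primeCompl (MvPolynomial (Fin n) R ⊗[R] p.ResidueField))) := by
      rw [← htop]
      exact Submodule.mem_top
    rw [mk_tmul_one_mem_smul_top_iff] at h1
    obtain ⟨t, ht, h2⟩ := h1
    rw [mem_sup_smul_top_iff, smul_eq_mul, mul_one] at h2
    apply ht
    have hle : p.map (algebraMap R (MvPolynomial (Fin n) R)) ⊔ Ideal.ofList g ≤ q' := by
      rw [sup_le_iff]
      refine ⟨Ideal.map_le_iff_le_comap.mpr hq'.ge, hg⟩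
    exact hle h2

/-- regularity in the local ring of `R[x]` and flatness of the partial quotients, from regularity
in the local ring of the fibre -/
theorem isRegular_atPrime (hQ : Q.comap (ι p n) = q') (g : List (MvPolynomial (Fin n) R))
    (hg : Ideal.ofList g ≤ q')
    (hreg : IsWeaklyRegular (Localization.AtPrime Q) ((g.map (ι p n)).map
      (algebraMap (MvPolynomial (Fin n) p.ResidueField) (Localization.AtPrime Q)))) :
    IsRegular (Localization.AtPrime q')
        (g.map (algebraMap (MvPolynomial (Fin n) R) (Localization.AtPrime q'))) ∧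
      (∀ i ≤ g.length, Module.Flat R (Localization.AtPrime q' ⧸ Ideal.ofList
        ((g.take i).map (algebraMap (MvPolynomial (Fin n) R) (Localization.AtPrime q'))))) := by
  obtain ⟨h1, h2⟩ := isRegular_and_flat_quotients_of_isRegular_fibre p q' g
    (flat_localizedModule_mvPolynomial q') (isRegular_fibre_module p n q' Q hQ g hg hreg)
  refine ⟨isRegular_localization_of_localizedModule q' _ h1, fun i hi => ?_⟩
  have h3 := flat_quotient_localization (A := R) q' _ (h2 i hi)
  rwa [Ideal.map_ofList] at h3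

end Regular

section FlatInf

variable {A B : Type u} [CommRing A] [CommRing B] [Algebra A B]

/-- for `B/I` flat over `A` and an ideal `p` of `A`: `I ∩ pB = pI` -/
theorem inf_map_le_mul_of_flat (I : Ideal B) (hflat : Module.Flat A (B ⧸ I)) (p : Ideal A) :
    I ⊓ p.map (algebraMap A B) ≤ p.map (algebraMap A B) * I := by
  rintro z ⟨hzI, hzp⟩
  have hzp' : z ∈ Submodule.span B (algebraMap A B '' (p : Set A)) := hzp
  obtain ⟨m, c, g, rfl⟩ := Submodule.mem_span_set'.mp hzp'
  have hg : ∀ i, ∃ a ∈ p, algebraMap A B a = (g i : B) := fun i => (g i).2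
  choose a ha hag using hg
  -- the relation in `B ⧸ I`
  have hrel : ∑ i, a i • (Ideal.Quotient.mk I (c i)) = 0 := by
    have h1 : ∑ i, a i • (Ideal.Quotient.mk I (c i)) =
        Ideal.Quotient.mk I (∑ i, c i • (g i : B)) := by
      rw [map_sum]
      refine Finset.sum_congr rfl fun i _ => ?_
      rw [smul_eq_mul, map_mul, ← hag i, Algebra.smul_def, mul_comm]
      rfl
    rw [h1]
    exact Ideal.Quotient.eq_zero_iff_mem.mpr hzI
  obtain ⟨k, b, y, hy, hb⟩ := Module.Flat.isTrivialRelation_of_sum_smul_eq_zero (R := A)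
    (M := B ⧸ I) (f := a) (x := fun i => Ideal.Quotient.mk I (c i)) hrel
  have hY : ∀ j, ∃ Y : B, Ideal.Quotient.mk I Y = y j := fun j => Ideal.Quotient.mk_surjective _
  choose Y hYy using hY
  -- the corrections
  have hw : ∀ i, c i - ∑ j, algebraMap A B (b i j) * Y j ∈ I := by
    intro i
    have hyi : Ideal.Quotient.mk I (c i) = ∑ j, b i j • y j := hy i
    rw [← Ideal.Quotient.eq_zero_iff_mem, map_sub, hyi, map_sum, sub_eq_zero]
    refine Finset.sum_congr rfl fun j _ => ?_
    rw [map_mul, hYy j, Algebra.smul_def]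
    rfl
  have hsum : ∑ i, c i • (g i : B) =
      ∑ i, algebraMap A B (a i) * (c i - ∑ j, algebraMap A B (b i j) * Y j) := by
    have h2 : ∑ i, algebraMap A B (a i) * ∑ j, algebraMap A B (b i j) * Y j = 0 := by
      have h3 : ∑ i, algebraMap A B (a i) * ∑ j, algebraMap A B (b i j) * Y j =
          ∑ j, algebraMap A B (∑ i, a i * b i j) * Y j := by
        simp_rw [Finset.mul_sum, map_sum, Finset.sum_mul]
        rw [Finset.sum_comm]
        refine Finset.sum_congr rfl fun j _ => Finset.sum_congr rfl fun i _ => ?_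
        rw [map_mul]
        ring
      rw [h3]
      refine Finset.sum_eq_zero fun j _ => ?_
      rw [hb j, map_zero, zero_mul]
    simp_rw [mul_sub]
    rw [Finset.sum_sub_distrib, h2, sub_zero]
    refine Finset.sum_congr rfl fun i _ => ?_
    rw [smul_eq_mul, ← hag i, mul_comm]
  rw [hsum]
  refine Ideal.sum_mem _ fun i _ => ?_
  exact Ideal.mul_mem_mul (Ideal.mem_map_of_mem _ (ha i)) (hw i)

end FlatInf

section GenAt

variable {R : Type u} [CommRing R] (p : Ideal R) [p.IsPrime] (n : ℕ)
  (q' : Ideal (MvPolynomial (Fin n) R)) [q'.IsPrime] [q'.LiesOver p]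
  (Q : Ideal (MvPolynomial (Fin n) p.ResidueField)) [Q.IsPrime]

/-- if `R[x]/I` is flat and `g ⊆ I` generates the extension of `I` to the local ring of the fibre,
then `g` generates `I` near `q'` -/
theorem exists_mul_mem_ofList (hQ : Q.comap (ι p n) = q') (I : Ideal (MvPolynomial (Fin n) R))
    (hI : I.FG) (hflat : Module.Flat R (MvPolynomial (Fin n) R ⧸ I))
    (g : List (MvPolynomial (Fin n) R)) (hgI : Ideal.ofList g ≤ I)
    (hgen : Ideal.ofList ((g.map (ι p n)).map
        (algebraMap (MvPolynomial (Fin n) p.ResidueField) (Localization.AtPrime Q))) =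
      (I.map (ι p n)).map
        (algebraMap (MvPolynomial (Fin n) p.ResidueField) (Localization.AtPrime Q))) :
    ∃ s ∈ q'.primeCompl, ∀ x ∈ I, s * x ∈ Ideal.ofList g := by
  have hq' : q'.comap (algebraMap R (MvPolynomial (Fin n) R)) = p :=
    (Ideal.LiesOver.over (p := p) (P := q')).symm
  -- step a
  have stepa : ∀ a ∈ I, ∃ t ∈ q'.primeCompl, ∃ z ∈ p.map (algebraMap R (MvPolynomial (Fin n) R)) * I,
      ∃ b ∈ Ideal.ofList g, z + b = t * a := by
    intro a ha
    have h : algebraMap (MvPolynomial (Fin n) p.ResidueField) (Localization.AtPrime Q) (ι p n a) ∈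
        ((Ideal.ofList g).map (ι p n)).map
          (algebraMap (MvPolynomial (Fin n) p.ResidueField) (Localization.AtPrime Q)) := by
      rw [Ideal.map_ofList, Ideal.map_ofList, hgen]
      exact Ideal.mem_map_of_mem _ (Ideal.mem_map_of_mem _ ha)
    obtain ⟨t, ht, h1⟩ := exists_mul_mem_of_map_mem p n q' Q hq' hQ (Ideal.ofList g) a h
    obtain ⟨z, hz, b, hb, e⟩ := Submodule.mem_sup.mp h1
    have hzI : z ∈ I := by
      have : z = t * a - b := by rw [← e]; ring
      rw [this]
      exact I.sub_mem (I.mul_mem_left _ ha) (hgI hb)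
    exact ⟨t, ht, z, inf_map_le_mul_of_flat I hflat p ⟨hzI, hz⟩, b, hb, e⟩
  -- step b: Nakayama
  have hle : I.map (algebraMap (MvPolynomial (Fin n) R) (Localization.AtPrime q')) ≤
      (Ideal.ofList g).map (algebraMap (MvPolynomial (Fin n) R) (Localization.AtPrime q')) := by
    apply Submodule.le_of_le_smul_of_le_jacobson_bot (I := maximalIdeal (Localization.AtPrime q'))
      (Ideal.FG.map hI _)
    · rw [IsLocalRing.jacobson_eq_maximalIdeal ⊥ bot_ne_top]
    · rw [Ideal.map_le_iff_le_comap]
      intro a ha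
      rw [Ideal.mem_comap]
      obtain ⟨t, ht, z, hz, b, hb, e⟩ := stepa a ha
      have hu : IsUnit (algebraMap (MvPolynomial (Fin n) R) (Localization.AtPrime q') t) :=
        IsLocalization.map_units (Localization.AtPrime q') (⟨t, ht⟩ : q'.primeCompl)
      rw [← Ideal.unit_mul_mem_iff_mem _ hu, ← map_mul, ← e, map_add, add_comm]
      refine Submodule.add_mem_sup (Ideal.mem_map_of_mem _ hb) ?_
      rw [smul_eq_mul]
      have h1 := Ideal.mem_map_of_mem
        (algebraMap (MvPolynomial (Fin n) R) (Localization.AtPrime q')) hz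
      rw [Ideal.map_mul] at h1
      refine Ideal.mul_mono_left ?_ h1
      rw [Ideal.map_le_iff_le_comap]
      intro x hx
      rw [Ideal.mem_comap, IsLocalization.AtPrime.to_map_mem_maximal_iff
        (Localization.AtPrime q') q']
      exact (Ideal.map_le_iff_le_comap.mpr hq'.ge) hx
  -- step c
  exact Groth.Agent.Helper13Vasc.exists_mul_mem_of_map_le q'.primeCompl (Localization.AtPrime q')
    I (Ideal.ofList g) hI (fun z hz => hle (Ideal.mem_map_of_mem _ hz))

end GenAt

section Tors

open Groth.Agent.Lib.T2H7.KRegA Groth.Agent.Lib.T2H7.KRegB Groth.Agent.Lib.T2H7.KRegH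
open Groth.Agent.Helper13Kz Groth.Agent.Helper13KzLift

variable {C : Type u} [CommRing C]

/-- Koszul homology is `s`-power torsion as soon as the sequence is Koszul-regular in the local
rings at the primes of `D(s) ∩ V(l)` -/
theorem torsAt_of_forall_prime (s : C) (l : List C)
    (h : ∀ (𝔮 : Ideal C) [𝔮.IsPrime], s ∉ 𝔮 → Ideal.ofList l ≤ 𝔮 →
      LCI.IsKoszulRegularSeq (Localization.AtPrime 𝔮)
        (l.map (algebraMap C (Localization.AtPrime 𝔮)))) :
    TorsAt s l := by
  intro i hi z
  let K : Ideal C := Ideal.torsionOf C _ z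
  obtain ⟨m, hm⟩ := exists_pow_mem_of_forall_prime K s (by
    intro 𝔮 h𝔮 hle
    by_contra hs
    have hl : Ideal.ofList l ≤ 𝔮 := by
      refine le_trans ?_ hle
      intro a ha
      rw [Ideal.mem_torsionOf_iff]
      exact smul_KH_eq_zero_of_mem C l a ha i z
    have hK := (kreg_map_iff_of_flat (T := Localization.AtPrime 𝔮) l).mp (h 𝔮 hs hl) i hi
    have h6 : Subsingleton (Localization.AtPrime 𝔮 ⊗[C] KH l C i) :=
      (TensorProduct.comm C (Localization.AtPrime 𝔮) (KH l C i)).toEquiv.subsingleton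
    have h7 : TensorProduct.mk C (Localization.AtPrime 𝔮) (KH l C i) 1 z = 0 :=
      Subsingleton.elim _ _
    obtain ⟨c, hc⟩ := (IsLocalizedModule.eq_zero_iff 𝔮.primeCompl
      (TensorProduct.mk C (Localization.AtPrime 𝔮) (KH l C i) 1)).mp h7
    apply c.2
    apply hle
    rw [Ideal.mem_torsionOf_iff]
    exact hc)
  exact ⟨m, (Ideal.mem_torsionOf_iff _ _).mp hm⟩

end Tors

section Transport

variable {C : Type u} [CommRing C]

theorem isRegular_atPrime_congr (l : List C) (a b : Ideal C) [a.IsPrime] [b.IsPrime]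
    (hab : a = b)
    (h : IsRegular (Localization.AtPrime a) (l.map (algebraMap C (Localization.AtPrime a)))) :
    IsRegular (Localization.AtPrime b) (l.map (algebraMap C (Localization.AtPrime b))) := by
  subst hab
  exact h

theorem map_mk_isPrime (J q : Ideal C) [q.IsPrime] (hJ : J ≤ q) :
    (q.map (Ideal.Quotient.mk J)).IsPrime :=
  Ideal.map_isPrime_of_surjective Ideal.Quotient.mk_surjective (by rwa [Ideal.mk_ker])

theorem comap_map_mk (J q : Ideal C) (hJ : J ≤ q) :
    (q.map (Ideal.Quotient.mk J)).comap (Ideal.Quotient.mk J) = q := by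
  rw [Ideal.comap_map_of_surjective _ Ideal.Quotient.mk_surjective, ← RingHom.ker_eq_comap_bot,
    Ideal.mk_ker, sup_eq_left]
  exact hJ

end Transport

section Chevalley

open Groth.Agent.Lib.Helper4.FibDim

variable {R : Type u} [CommRing R] {n c : ℕ} (F : Fin c → MvPolynomial (Fin n) R)

lemma φ_ι (p : Ideal R) [p.IsPrime] (J : Ideal (MvPolynomial (Fin n) R))
    (v : MvPolynomial (Fin n) R) :
    φ p n J (ι p n v) = (1 : p.ResidueField) ⊗ₜ[R] (Ideal.Quotient.mk J v) := by
  unfold φ
  rw [AlgHom.comp_apply]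
  have : (eT p n).symm.toAlgHom (ι p n v) = 1 ⊗ₜ v := eT_symm_ι p n v
  rw [this]
  rfl

/-- at a point of `Spec R[x]/(F)` where the local fibre dimension is at most `n - c`, the sequence
`F` is regular in the local ring of `R[x]`, with flat partial quotients -/
theorem regular_of_fibLD_le
    (q : PrimeSpectrum (MvPolynomial (Fin n) R ⧸ Ideal.span (Set.range F))) (hcn : c ≤ n)
    (h : fibLD (PrimeSpectrum.comap (algebraMap R
      (MvPolynomial (Fin n) R ⧸ Ideal.span (Set.range F)))) q ≤ ((n - c : ℕ) : WithBot ℕ∞)) :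
    IsRegular (Localization.AtPrime (q.asIdeal.comap (Ideal.Quotient.mk (Ideal.span (Set.range F)))))
      ((List.ofFn F).map (algebraMap (MvPolynomial (Fin n) R)
        (Localization.AtPrime (q.asIdeal.comap (Ideal.Quotient.mk (Ideal.span (Set.range F))))))) := by
  rw [fibLD_comap_eq] at h
  set x := PrimeSpectrum.comap (algebraMap R
    (MvPolynomial (Fin n) R ⧸ Ideal.span (Set.range F))) q with hx
  set 𝔮 := PrimeSpectrum.preimageHomeomorphFiber R
    (MvPolynomial (Fin n) R ⧸ Ideal.span (Set.range F)) x ⟨q, rfl⟩ with h𝔮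
  have hφ := φ_surjective x.asIdeal n (Ideal.span (Set.range F))
  have hft : Algebra.FiniteType x.asIdeal.ResidueField
      (x.asIdeal.Fiber (MvPolynomial (Fin n) R ⧸ Ideal.span (Set.range F))) :=
    Algebra.FiniteType.of_surjective (φ x.asIdeal n (Ideal.span (Set.range F))) hφ
  have hht := le_height_of_localDim_le (κ := x.asIdeal.ResidueField)
    (T := x.asIdeal.Fiber (MvPolynomial (Fin n) R ⧸ Ideal.span (Set.range F)))
    (φ x.asIdeal n (Ideal.span (Set.range F))) hφ 𝔮.asIdeal c hcn h
  rw [ker_φ] at hht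
  set Q := 𝔮.asIdeal.comap (φ x.asIdeal n (Ideal.span (Set.range F))).toRingHom with hQ
  have hJQ : (Ideal.span (Set.range F)).map (ι x.asIdeal n) ≤ Q := by
    rw [← ker_φ x.asIdeal n (Ideal.span (Set.range F)), hQ, RingHom.ker_eq_comap_bot]
    exact Ideal.comap_mono bot_le
  have hspan : (Ideal.span (Set.range F)).map (ι x.asIdeal n) =
      Ideal.span (Set.range fun i => ι x.asIdeal n (F i)) := by
    rw [Ideal.map_span, ← Set.range_comp]
    rfl
  rw [hspan] at hht
  have hreg := isRegular_of_le_height x.asIdeal.ResidueField n (fun i => ι x.asIdeal n (F i)) Q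
    (fun i => hJQ (Ideal.mem_map_of_mem _ (Ideal.subset_span ⟨i, rfl⟩))) hht
  have hmap : (List.ofFn fun i => ι x.asIdeal n (F i)) = (List.ofFn F).map (ι x.asIdeal n) := by
    rw [List.map_ofFn]
    rfl
  rw [hmap] at hreg
  -- the prime of `R[x]`
  set q'' := q.asIdeal.comap (Ideal.Quotient.mk (Ideal.span (Set.range F))) with hq''
  have hlo : q''.LiesOver x.asIdeal := ⟨by
    ext r
    rw [Ideal.under, Ideal.mem_comap, hq'', Ideal.mem_comap]
    rfl⟩
  have hQq : Q.comap (ι x.asIdeal n) = q'' := by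
    ext v
    rw [Ideal.mem_comap, hQ, Ideal.mem_comap, hq'', Ideal.mem_comap]
    have h1 : (φ x.asIdeal n (Ideal.span (Set.range F))).toRingHom (ι x.asIdeal n v) =
        (1 : x.asIdeal.ResidueField) ⊗ₜ[R] (Ideal.Quotient.mk (Ideal.span (Set.range F)) v) :=
      φ_ι x.asIdeal (Ideal.span (Set.range F)) v
    rw [h1]
    have h2 := comap_includeRight_preimageHomeomorphFiber (R := R)
      (B := MvPolynomial (Fin n) R ⧸ Ideal.span (Set.range F)) x.asIdeal ⟨q, rfl⟩
    have h3 : (1 : x.asIdeal.ResidueField) ⊗ₜ[R] (Ideal.Quotient.mk (Ideal.span (Set.range F)) v) ∈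
        𝔮.asIdeal ↔ Ideal.Quotient.mk (Ideal.span (Set.range F)) v ∈
        (PrimeSpectrum.comap Algebra.TensorProduct.includeRight.toRingHom 𝔮).asIdeal := Iff.rfl
    rw [h3]
    have h4 : PrimeSpectrum.comap Algebra.TensorProduct.includeRight.toRingHom 𝔮 = q := h2
    rw [h4]
  have hg : Ideal.ofList (List.ofFn F) ≤ q'' := by
    rw [ofList_ofFn, hq'']
    intro v hv
    rw [Ideal.mem_comap, Ideal.Quotient.eq_zero_iff_mem.mpr hv]
    exact Ideal.zero_mem _
  exact (isRegular_atPrime x.asIdeal n q'' Q hQq (List.ofFn F) hg hreg.toIsWeaklyRegular).1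

/-- the local fibre dimension at a point where `F` is regular in the local ring of the fibre -/
theorem fibLD_le_of_isRegular (p : Ideal R) [p.IsPrime]
    (q' : Ideal (MvPolynomial (Fin n) R)) [q'.IsPrime] [q'.LiesOver p]
    (Q : Ideal (MvPolynomial (Fin n) p.ResidueField)) [Q.IsPrime] (hQ : Q.comap (ι p n) = q')
    (q : PrimeSpectrum (MvPolynomial (Fin n) R ⧸ Ideal.span (Set.range F)))
    (hq : q.asIdeal.comap (Ideal.Quotient.mk (Ideal.span (Set.range F))) = q')
    (hreg : IsRegular (Localization.AtPrime Q) (((List.ofFn F).map (ι p n)).map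
      (algebraMap (MvPolynomial (Fin n) p.ResidueField) (Localization.AtPrime Q)))) :
    c ≤ n ∧ fibLD (PrimeSpectrum.comap (algebraMap R
      (MvPolynomial (Fin n) R ⧸ Ideal.span (Set.range F)))) q ≤ ((n - c : ℕ) : WithBot ℕ∞) := by
  rw [fibLD_comap_eq]
  set x := PrimeSpectrum.comap (algebraMap R
    (MvPolynomial (Fin n) R ⧸ Ideal.span (Set.range F))) q with hx
  have hpx : p = x.asIdeal := by
    rw [Ideal.LiesOver.over (p := p) (P := q'), ← hq]
    ext r
    rw [Ideal.under, Ideal.mem_comap, Ideal.mem_comap]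
    rfl
  subst hpx
  set 𝔮 := PrimeSpectrum.preimageHomeomorphFiber R
    (MvPolynomial (Fin n) R ⧸ Ideal.span (Set.range F)) x ⟨q, rfl⟩ with h𝔮
  have hφ := φ_surjective x.asIdeal n (Ideal.span (Set.range F))
  have hft : Algebra.FiniteType x.asIdeal.ResidueField
      (x.asIdeal.Fiber (MvPolynomial (Fin n) R ⧸ Ideal.span (Set.range F))) :=
    Algebra.FiniteType.of_surjective (φ x.asIdeal n (Ideal.span (Set.range F))) hφ
  -- `Q` is the prime defined by `𝔮`
  have hQ' : (𝔮.asIdeal.comap (φ x.asIdeal n (Ideal.span (Set.range F))).toRingHom).comap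
      (ι x.asIdeal n) = q' := by
    ext v
    rw [Ideal.mem_comap, Ideal.mem_comap, ← hq, Ideal.mem_comap]
    have h1 : (φ x.asIdeal n (Ideal.span (Set.range F))).toRingHom (ι x.asIdeal n v) =
        (1 : x.asIdeal.ResidueField) ⊗ₜ[R] (Ideal.Quotient.mk (Ideal.span (Set.range F)) v) :=
      φ_ι x.asIdeal (Ideal.span (Set.range F)) v
    rw [h1]
    have h2 := comap_includeRight_preimageHomeomorphFiber (R := R)
      (B := MvPolynomial (Fin n) R ⧸ Ideal.span (Set.range F)) x.asIdeal ⟨q, rfl⟩
    have h3 : (1 : x.asIdeal.ResidueField) ⊗ₜ[R] (Ideal.Quotient.mk (Ideal.span (Set.range F)) v) ∈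
        𝔮.asIdeal ↔ Ideal.Quotient.mk (Ideal.span (Set.range F)) v ∈
        (PrimeSpectrum.comap Algebra.TensorProduct.includeRight.toRingHom 𝔮).asIdeal := Iff.rfl
    rw [h3]
    have h4 : PrimeSpectrum.comap Algebra.TensorProduct.includeRight.toRingHom 𝔮 = q := h2
    rw [h4]
  have hQQ : Q = 𝔮.asIdeal.comap (φ x.asIdeal n (Ideal.span (Set.range F))).toRingHom :=
    eq_of_comap_ι_eq x.asIdeal n _ _ (hQ.trans hQ'.symm)
  subst hQQ
  have hregl : IsRegularLocalRing (Localization.AtPrime
      (𝔮.asIdeal.comap (φ x.asIdeal n (Ideal.span (Set.range F))).toRingHom)) := by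
    have : IsRegularRing (MvPolynomial (Fin n) x.asIdeal.ResidueField) := inferInstance
    exact IsRegularRing.isRegularLocalRing_localization _
  have hht := Groth.Agent.Lib.T2H9.CILocus.height_ofList_of_isRegular _ hreg
  rw [List.length_map, List.length_map, List.length_ofFn, ← Ideal.map_ofList, ← Ideal.map_ofList,
    ofList_ofFn] at hht
  refine localDim_le_of_le_height (κ := x.asIdeal.ResidueField)
    (T := x.asIdeal.Fiber (MvPolynomial (Fin n) R ⧸ Ideal.span (Set.range F)))
    (φ x.asIdeal n (Ideal.span (Set.range F))) hφ 𝔮.asIdeal c ?_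
  rw [ker_φ]
  exact hht.ge

/-- Chevalley: `F` stays a regular sequence in the local rings at the primes of a neighbourhood
(in `V(F)`) of a prime where it is regular on the fibre -/
theorem exists_nbhd_regular (p : Ideal R) [p.IsPrime]
    (q' : Ideal (MvPolynomial (Fin n) R)) [q'.IsPrime] [q'.LiesOver p]
    (Q : Ideal (MvPolynomial (Fin n) p.ResidueField)) [Q.IsPrime] (hQ : Q.comap (ι p n) = q')
    (hF : Ideal.span (Set.range F) ≤ q')
    (hreg : IsRegular (Localization.AtPrime Q) (((List.ofFn F).map (ι p n)).map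
      (algebraMap (MvPolynomial (Fin n) p.ResidueField) (Localization.AtPrime Q)))) :
    ∃ s ∈ q'.primeCompl, ∀ (q'' : Ideal (MvPolynomial (Fin n) R)) [q''.IsPrime], s ∉ q'' →
      Ideal.span (Set.range F) ≤ q'' →
      IsRegular (Localization.AtPrime q'') ((List.ofFn F).map
        (algebraMap (MvPolynomial (Fin n) R) (Localization.AtPrime q''))) := by
  have hpr := map_mk_isPrime (Ideal.span (Set.range F)) q' hF
  let qb : PrimeSpectrum (MvPolynomial (Fin n) R ⧸ Ideal.span (Set.range F)) :=
    ⟨q'.map (Ideal.Quotient.mk (Ideal.span (Set.range F))), hpr⟩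
  have hqb : qb.asIdeal.comap (Ideal.Quotient.mk (Ideal.span (Set.range F))) = q' :=
    comap_map_mk _ _ hF
  obtain ⟨hcn, hld⟩ := fibLD_le_of_isRegular F p q' Q hQ qb hqb hreg
  have hft : Algebra.FiniteType R (MvPolynomial (Fin n) R ⧸ Ideal.span (Set.range F)) :=
    Algebra.FiniteType.of_surjective (Ideal.Quotient.mkₐ R (Ideal.span (Set.range F)))
      (Ideal.Quotient.mkₐ_surjective R _)
  have hopen := isOpen_setOf_fibLD_comap_le R
    (MvPolynomial (Fin n) R ⧸ Ideal.span (Set.range F)) (n - c)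
  obtain ⟨_, ⟨gb, rfl⟩, hmem, hsub⟩ :=
    PrimeSpectrum.isTopologicalBasis_basic_opens.exists_subset_of_mem_open
      (show qb ∈ {q | fibLD (PrimeSpectrum.comap (algebraMap R
        (MvPolynomial (Fin n) R ⧸ Ideal.span (Set.range F)))) q ≤ ((n - c : ℕ) : WithBot ℕ∞)}
        from hld) hopen
  obtain ⟨s, rfl⟩ := Ideal.Quotient.mk_surjective gb
  refine ⟨s, ?_, ?_⟩
  · intro hs
    apply hmem
    exact Ideal.mem_map_of_mem _ hs
  · intro q'' hq''p hs hFq''
    have hpr'' := map_mk_isPrime (Ideal.span (Set.range F)) q'' hFq''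
    let qb'' : PrimeSpectrum (MvPolynomial (Fin n) R ⧸ Ideal.span (Set.range F)) :=
      ⟨q''.map (Ideal.Quotient.mk (Ideal.span (Set.range F))), hpr''⟩
    have hqb'' : qb''.asIdeal.comap (Ideal.Quotient.mk (Ideal.span (Set.range F))) = q'' :=
      comap_map_mk _ _ hFq''
    have hin : qb'' ∈ (PrimeSpectrum.basicOpen
        (Ideal.Quotient.mk (Ideal.span (Set.range F)) s) : Set _) := by
      intro hmem''
      apply hs
      rw [← hqb'']
      exact hmem''
    have h1 := regular_of_fibLD_le F qb'' hcn (hsub hin)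
    exact isRegular_atPrime_congr _ _ _ hqb'' h1

end Chevalley

section Main

open Groth.Agent.Lib.T2H7.KRegA Groth.Agent.Lib.T2H7.KRegB Groth.Agent.Lib.T2H7.KRegH

variable {R : Type u} [CommRing R] {n : ℕ}

/-- the kernel of a finite presentation of a flat algebra with local complete intersection fibres
is Koszul-regular -/
theorem isKoszulRegularIdeal_of_flat_of_fibres (I : Ideal (MvPolynomial (Fin n) R)) (hI : I.FG)
    (hflat : Module.Flat R (MvPolynomial (Fin n) R ⧸ I))
    (hfib : ∀ p : PrimeSpectrum R,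
      Synt.IsLCIOver p.asIdeal.ResidueField (p.asIdeal.Fiber (MvPolynomial (Fin n) R ⧸ I))) :
    LCI.IsKoszulRegularIdeal I := by
  rw [isKoszulRegularIdeal_iff]
  intro q' hq'p hIq'
  obtain ⟨p, hp⟩ : ∃ p : Ideal R, p = q'.comap (algebraMap R (MvPolynomial (Fin n) R)) := ⟨_, rfl⟩
  have hpp : p.IsPrime := hp ▸ Ideal.comap_isPrime _ _
  have hlo : q'.LiesOver p := ⟨hp⟩
  obtain ⟨Q₀, hQ₀p, hQ₀⟩ := exists_prime_comap p n q' hp.symm
  have hφ := φ_surjective p n I
  have hkQ : RingHom.ker (φ p n I).toRingHom ≤ Q₀ := by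
    rw [ker_φ, Ideal.map_le_iff_le_comap, hQ₀]
    exact hIq'
  have h𝔮p : (Q₀.map (φ p n I).toRingHom).IsPrime := Ideal.map_isPrime_of_surjective hφ hkQ
  have hcm : (Q₀.map (φ p n I).toRingHom).comap (φ p n I).toRingHom = Q₀ := by
    have hφ' : Function.Surjective (φ p n I).toRingHom := hφ
    rw [Ideal.comap_map_of_surjective (φ p n I).toRingHom hφ', ← RingHom.ker_eq_comap_bot,
      sup_eq_left]
    exact hkQ
  have hQ : ((Q₀.map (φ p n I).toRingHom).comap (φ p n I).toRingHom).comap (ι p n) = q' := by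
    rw [hcm]
    exact hQ₀
  obtain ⟨rs, hreg, hrs⟩ := exists_isRegular_of_isLCIOver (φ p n I) hφ (hfib ⟨p, hpp⟩)
    (Q₀.map (φ p n I).toRingHom)
  rw [ker_φ] at hrs
  obtain ⟨F, hFI, hFreg, hFof⟩ := exists_lifts p n _ I rs hreg hrs
  have hgI : Ideal.ofList (List.ofFn F) ≤ I := by
    rw [ofList_ofFn, Ideal.span_le]
    rintro _ ⟨i, rfl⟩
    exact hFI i
  obtain ⟨s₁, hs₁, hgen⟩ := exists_mul_mem_ofList p n q' _ hQ I hI hflat (List.ofFn F) hgI hFof
  have hFq' : Ideal.span (Set.range F) ≤ q' := by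
    rw [← ofList_ofFn]
    exact hgI.trans hIq'
  obtain ⟨s₂, hs₂, hnb⟩ := exists_nbhd_regular F p q' _ hQ hFq' hFreg
  have htors : TorsAt s₂ (List.ofFn F) := by
    apply torsAt_of_forall_prime
    intro 𝔮 h𝔮 hs hl
    apply Groth.Agent.Lib.T2H9.KoszulH1.isKoszulRegularSeq_of_isWeaklyRegular
    refine (hnb 𝔮 hs ?_).toIsWeaklyRegular
    rw [← ofList_ofFn]
    exact hl
  refine ⟨s₁ * s₂, ?_, List.ofFn F, ⟨?_, ?_⟩, TorsAt.mul_left htors s₁⟩
  · exact (mul_mem hs₁ hs₂ : s₁ * s₂ ∈ q'.primeCompl)
  · intro x hx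
    refine ⟨1, ?_⟩
    rw [pow_one, mul_comm s₁ s₂, mul_assoc]
    exact Ideal.mul_mem_left _ _ (hgen x hx)
  · intro x hx
    refine ⟨0, ?_⟩
    rw [pow_zero, one_mul]
    exact hgI (Ideal.subset_span hx)

/-- a syntomic ring map is a local complete intersection -/
theorem isLCI_of_isSyntomic (S : Type u) [CommRing S] [Algebra R S] (h : Synt.IsSyntomic R S) :
    LCI.IsLCI R S := by
  obtain ⟨hflat, hfp, hfib⟩ := h
  have hft : Algebra.FiniteType R S := inferInstance
  obtain ⟨m, f, hf⟩ := Algebra.FiniteType.iff_quotient_mvPolynomial''.mp hft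
  refine ⟨hft, m, f, hf, ?_⟩
  have hfg : (RingHom.ker f.toRingHom).FG := Algebra.FinitePresentation.ker_fG_of_surjective f hf
  let e : (MvPolynomial (Fin m) R ⧸ RingHom.ker f.toRingHom) ≃ₐ[R] S :=
    Ideal.quotientKerAlgEquivOfSurjective hf
  have hflat' : Module.Flat R (MvPolynomial (Fin m) R ⧸ RingHom.ker f.toRingHom) :=
    Module.Flat.of_linearEquiv e.toLinearEquiv
  have hsyn : Synt.IsSyntomic R (MvPolynomial (Fin m) R ⧸ RingHom.ker f.toRingHom) :=
    Groth.Agent.Lib.T2H9.SyntComp.isSyntomic_of_algEquiv R S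
      (MvPolynomial (Fin m) R ⧸ RingHom.ker f.toRingHom) e.symm ⟨hflat, hfp, hfib⟩
  exact isKoszulRegularIdeal_of_flat_of_fibres _ hfg hflat' hsyn.2.2

end Main

end Groth.Agent.Lib.T2H7.SyntG
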