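import Mathlib
import Groth.Prelude.Def_RegImm
import Groth.Agent.Lib.T2H7SyntG

/-!
# Relative global complete intersections: localizations (helper7)

* `snocF`, `locEquiv`: the localization of `R[x]/(F)` at `h` is presented by `F` and `h y - 1`.
* `fibLD_symm_eq`, `ringKrullDim_fiber_away_le`: bounds for fibre dimensions of basic opens.
* `le_ringKrullDim_of_presentation`: a nonzero `κ[x₁..xₙ]/(c equations)` has dimension `≥ n - c`.
* `isRelGCI_snocF`: if the local fibre dimension is `≤ n - c` on `D(h)`, the presentation of the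
  localization is a relative global complete intersection.
* `exists_isUnit_tmul_basicOpen_subset`: an open set containing a fibre contains a basic open
  `D(g)` with `g` invertible on that fibre.
-/

set_option autoImplicit false

universe u
open MvPolynomial TensorProduct

namespace Groth.Agent.Lib.T2H7.SyntI

open Groth.Agent.Lib.Helper4.FibDim Groth.Agent.Lib.T2H7.SyntB Groth.Agent.Lib.T2H7.SyntF
open Groth.Agent.Lib.Helper4.VarDim (localDim_eq_of_isOpenEmbedding)

section Pres

variable {R : Type u} [CommRing R] {n c : ℕ} (F : Fin c → MvPolynomial (Fin n) R)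
  (h : MvPolynomial (Fin n) R)

/-- the equations presenting the localization of `R[x]/(F)` at `h` -/
noncomputable def snocF : Fin (c + 1) → MvPolynomial (Fin (n + 1)) R :=
  Fin.snoc (fun i => rename Fin.castSucc (F i)) (rename Fin.castSucc h * X (Fin.last n) - 1)

lemma snocF_castSucc (i : Fin c) : snocF F h i.castSucc = rename Fin.castSucc (F i) := by
  unfold snocF
  rw [Fin.snoc_castSucc]

lemma snocF_last : snocF F h (Fin.last c) = rename Fin.castSucc h * X (Fin.last n) - 1 := by
  unfold snocF
  rw [Fin.snoc_last]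

local notation "S'" => MvPolynomial (Fin n) R ⧸ Ideal.span (Set.range F)
local notation "Loc" =>
  Localization.Away (Ideal.Quotient.mk (Ideal.span (Set.range F)) h)
local notation "T" => MvPolynomial (Fin (n + 1)) R ⧸ Ideal.span (Set.range (snocF F h))

/-- values of the variables in the localization -/
noncomputable def vals : Fin (n + 1) → Loc :=
  Fin.snoc (fun i => algebraMap S' Loc (Ideal.Quotient.mk _ (X i)))
    (IsLocalization.Away.invSelf (Ideal.Quotient.mk (Ideal.span (Set.range F)) h))

lemma aeval_vals_rename (v : MvPolynomial (Fin n) R) :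
    aeval (vals F h) (rename Fin.castSucc v) = algebraMap S' Loc (Ideal.Quotient.mk _ v) := by
  rw [aeval_rename]
  have h1 : (vals F h) ∘ Fin.castSucc = fun i => algebraMap S' Loc (Ideal.Quotient.mk _ (X i)) := by
    funext i
    simp only [Function.comp_apply, vals, Fin.snoc_castSucc]
  rw [h1]
  have h2 : (aeval fun i => algebraMap S' Loc (Ideal.Quotient.mk (Ideal.span (Set.range F)) (X i))) =
      ((Algebra.algHom R S' Loc).comp (Ideal.Quotient.mkₐ R (Ideal.span (Set.range F)))) := by
    apply MvPolynomial.algHom_ext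
    intro i
    rw [aeval_X]
    rfl
  rw [h2]
  rfl

lemma aeval_vals_last : aeval (vals F h) (X (Fin.last n) : MvPolynomial (Fin (n + 1)) R) =
    IsLocalization.Away.invSelf (Ideal.Quotient.mk (Ideal.span (Set.range F)) h) := by
  rw [aeval_X]
  simp only [vals, Fin.snoc_last]

lemma aeval_vals_snocF (j : Fin (c + 1)) : aeval (vals F h) (snocF F h j) = 0 := by
  induction j using Fin.lastCases with
  | last =>
    rw [snocF_last, map_sub, map_mul, aeval_vals_rename, aeval_vals_last, map_one,
      IsLocalization.Away.mul_invSelf, sub_self]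
  | cast i =>
    rw [snocF_castSucc, aeval_vals_rename]
    have : Ideal.Quotient.mk (Ideal.span (Set.range F)) (F i) = 0 :=
      Ideal.Quotient.eq_zero_iff_mem.mpr (Ideal.subset_span ⟨i, rfl⟩)
    rw [this, map_zero]

/-- the map from the presented algebra to the localization -/
noncomputable def toLoc : T →ₐ[R] Loc :=
  Ideal.Quotient.liftₐ _ (aeval (vals F h)) (by
    intro a ha
    have hle : Ideal.span (Set.range (snocF F h)) ≤ RingHom.ker (aeval (vals F h)).toRingHom := by
      rw [Ideal.span_le]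
      rintro _ ⟨j, rfl⟩
      exact aeval_vals_snocF F h j
    exact hle ha)

/-- the map from `R[x]/(F)` to the presented algebra -/
noncomputable def fromQuot : S' →ₐ[R] T :=
  Ideal.Quotient.liftₐ _ ((Ideal.Quotient.mkₐ R _).comp (rename Fin.castSucc)) (by
    intro a ha
    have hle : Ideal.span (Set.range F) ≤ RingHom.ker
        ((Ideal.Quotient.mkₐ R (Ideal.span (Set.range (snocF F h)))).comp
          (rename Fin.castSucc : MvPolynomial (Fin n) R →ₐ[R] _)).toRingHom := by
      rw [Ideal.span_le]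
      rintro _ ⟨i, rfl⟩
      show Ideal.Quotient.mk _ (rename Fin.castSucc (F i)) = 0
      rw [← snocF_castSucc F h i]
      exact Ideal.Quotient.eq_zero_iff_mem.mpr (Ideal.subset_span ⟨_, rfl⟩)
    exact hle ha)

lemma fromQuot_mk (v : MvPolynomial (Fin n) R) :
    fromQuot F h (Ideal.Quotient.mk _ v) = Ideal.Quotient.mk _ (rename Fin.castSucc v) := rfl

lemma fromQuot_mk_h_mul :
    fromQuot F h (Ideal.Quotient.mk _ h) *
      Ideal.Quotient.mk (Ideal.span (Set.range (snocF F h))) (X (Fin.last n)) = 1 := by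
  rw [fromQuot_mk, ← map_mul, ← sub_eq_zero, ← map_one (Ideal.Quotient.mk _), ← map_sub,
    ← snocF_last F h]
  exact Ideal.Quotient.eq_zero_iff_mem.mpr (Ideal.subset_span ⟨_, rfl⟩)

/-- the map from the localization to the presented algebra -/
noncomputable def fromLoc : Loc →ₐ[R] T :=
  IsLocalization.liftAlgHom
    (M := Submonoid.powers (Ideal.Quotient.mk (Ideal.span (Set.range F)) h))
    (f := fromQuot F h) (by
      rintro ⟨_, k, rfl⟩
      rw [map_pow]
      exact (IsUnit.of_mul_eq_one _ (fromQuot_mk_h_mul F h)).pow k)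

lemma fromLoc_algebraMap (s : S') : fromLoc F h (algebraMap S' Loc s) = fromQuot F h s := by
  unfold fromLoc
  rw [IsLocalization.liftAlgHom_apply, IsLocalization.lift_eq]
  rfl

theorem toLoc_comp_fromLoc : (toLoc F h).comp (fromLoc F h) = AlgHom.id R Loc := by
  apply IsLocalization.algHom_ext
    (Submonoid.powers (Ideal.Quotient.mk (Ideal.span (Set.range F)) h))
  apply AlgHom.ext
  intro s
  obtain ⟨v, rfl⟩ := Ideal.Quotient.mk_surjective s
  show toLoc F h (fromLoc F h (algebraMap S' Loc (Ideal.Quotient.mk _ v))) =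
    algebraMap S' Loc (Ideal.Quotient.mk _ v)
  rw [fromLoc_algebraMap, fromQuot_mk]
  show aeval (vals F h) (rename Fin.castSucc v) = _
  exact aeval_vals_rename F h v

theorem fromLoc_comp_toLoc : (fromLoc F h).comp (toLoc F h) = AlgHom.id R T := by
  apply Ideal.Quotient.algHom_ext
  apply MvPolynomial.algHom_ext
  intro j
  show fromLoc F h (aeval (vals F h) (X j)) = Ideal.Quotient.mk _ (X j)
  induction j using Fin.lastCases with
  | last =>
    rw [aeval_vals_last]
    -- uniqueness of inverses
    have h1 : fromLoc F h (algebraMap S' Loc (Ideal.Quotient.mk _ h)) *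
        fromLoc F h (IsLocalization.Away.invSelf
          (Ideal.Quotient.mk (Ideal.span (Set.range F)) h)) = 1 := by
      rw [← map_mul, IsLocalization.Away.mul_invSelf, map_one]
    rw [fromLoc_algebraMap] at h1
    have h2 := fromQuot_mk_h_mul F h
    calc fromLoc F h (IsLocalization.Away.invSelf (Ideal.Quotient.mk _ h))
        = (fromQuot F h (Ideal.Quotient.mk _ h) * Ideal.Quotient.mk _ (X (Fin.last n))) *
            fromLoc F h (IsLocalization.Away.invSelf (Ideal.Quotient.mk _ h)) := by
          rw [h2, one_mul]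
      _ = Ideal.Quotient.mk _ (X (Fin.last n)) * (fromQuot F h (Ideal.Quotient.mk _ h) *
            fromLoc F h (IsLocalization.Away.invSelf (Ideal.Quotient.mk _ h))) := by ring
      _ = Ideal.Quotient.mk _ (X (Fin.last n)) := by rw [h1, mul_one]
  | cast i =>
    rw [aeval_X]
    simp only [vals, Fin.snoc_castSucc]
    rw [fromLoc_algebraMap, fromQuot_mk, rename_X]

/-- the localization of `R[x]/(F)` at `h` is presented by `F` and `h y - 1` -/
noncomputable def locEquiv : Loc ≃ₐ[R] T :=
  AlgEquiv.ofAlgHom (fromLoc F h) (toLoc F h) (fromLoc_comp_toLoc F h) (toLoc_comp_fromLoc F h)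

end Pres
section FibLD

variable {R : Type u} [CommRing R] (S : Type u) [CommRing S] [Algebra R S]

/-- the local fibre dimension in terms of the fibre ring, for a point given in the fibre ring -/
lemma fibLD_symm_eq (P : PrimeSpectrum R) (x : PrimeSpectrum (P.asIdeal.Fiber S)) :
    fibLD (PrimeSpectrum.comap (algebraMap R S))
      ((PrimeSpectrum.preimageHomeomorphFiber R S P).symm x).1 =
      FlatMor.localDim (PrimeSpectrum (P.asIdeal.Fiber S)) x := by
  set q := (PrimeSpectrum.preimageHomeomorphFiber R S P).symm x with hq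
  have hqP : PrimeSpectrum.comap (algebraMap R S) q.1 = P := q.2
  unfold fibLD
  have hset : PrimeSpectrum.comap (algebraMap R S) ⁻¹'
      {PrimeSpectrum.comap (algebraMap R S) q.1} =
      PrimeSpectrum.comap (algebraMap R S) ⁻¹' {P} := by rw [hqP]
  rw [localDim_congr_set hset q.1 rfl]
  rw [localDim_eq_of_homeomorph (PrimeSpectrum.preimageHomeomorphFiber R S P) ⟨q.1, _⟩]
  congr 1
  exact Homeomorph.apply_symm_apply _ x

/-- upper bound for the dimension of the fibres of a basic open set -/
theorem ringKrullDim_fiber_away_le (g : S) (P : PrimeSpectrum R) (d : ℕ)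
    (hW : ∀ q : PrimeSpectrum S, g ∉ q.asIdeal →
      fibLD (PrimeSpectrum.comap (algebraMap R S)) q ≤ (d : WithBot ℕ∞)) :
    ringKrullDim (P.asIdeal.Fiber (Localization.Away g)) ≤ (d : WithBot ℕ∞) := by
  rw [ringKrullDim_fiber_away]
  rw [Groth.Agent.Lib.Helper7.TopDim.topologicalKrullDim_eq_iSup_localDim]
  refine iSup_le fun x => ?_
  rw [localDim_eq_of_isOpenEmbedding
    (PrimeSpectrum.basicOpen (1 ⊗ₜ[R] g : P.asIdeal.Fiber S)).isOpen.isOpenEmbedding_subtypeVal x]
  rw [← fibLD_symm_eq S P x.1]
  apply hW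
  exact x.2

end FibLD

section Lower

variable {κ : Type u} [Field κ] {n c : ℕ}
variable {T : Type u} [CommRing T] [Algebra κ T] (φ : MvPolynomial (Fin n) κ →ₐ[κ] T)
  (hφ : Function.Surjective φ)

include hφ in
/-- a nonzero quotient of `κ[x₁..xₙ]` by `c` equations has dimension at least `n - c` -/
theorem le_ringKrullDim_of_presentation [Nontrivial T] (G : Fin c → MvPolynomial (Fin n) κ)
    (hker : RingHom.ker φ.toRingHom = Ideal.span (Set.range G)) :
    ((n - c : ℕ) : WithBot ℕ∞) ≤ ringKrullDim T := by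
  classical
  obtain ⟨q₀, hq₀⟩ := Ideal.nonempty_minimalPrimes (I := (⊥ : Ideal T)) (by
    intro h
    exact (bot_ne_top (α := Ideal T)) h)
  have hq₀p : q₀.IsPrime := hq₀.1.1
  have hmin : q₀.comap φ.toRingHom ∈ (RingHom.ker φ.toRingHom).minimalPrimes := by
    rw [RingHom.ker_eq_comap_bot, Ideal.comap_minimalPrimes_eq_of_surjective
      (show Function.Surjective φ.toRingHom from hφ)]
    exact ⟨q₀, hq₀, rfl⟩
  have hspan : Ideal.span (Set.range G) =
      Ideal.span ((Finset.univ.image G : Finset (MvPolynomial (Fin n) κ)) : Set _) := by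
    congr 1
    ext x
    simp
  rw [hker, hspan] at hmin
  have hht : (q₀.comap φ.toRingHom).height ≤ (c : ℕ∞) := by
    refine (Ideal.height_le_card_of_mem_minimalPrimes_span_finset hmin).trans ?_
    have : (Finset.univ.image G).card ≤ c := by
      refine Finset.card_image_le.trans ?_
      simp
    exact_mod_cast this
  have h1 := height_add_dim_eq φ hφ q₀
  have h2 : ringKrullDim (T ⧸ q₀) ≤ ringKrullDim T := ringKrullDim_quotient_le q₀
  have h3 : ((n : ℕ) : WithBot ℕ∞) ≤ ((c : ℕ∞) : WithBot ℕ∞) + ringKrullDim T := by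
    rw [← h1]
    exact add_le_add (WithBot.coe_le_coe.mpr hht) h2
  generalize ringKrullDim T = D at h3
  induction D with
  | bot => simp at h3
  | coe D =>
    induction D with
    | top => exact le_top
    | coe d =>
      have h4 : (n : ℕ) ≤ c + d := by exact_mod_cast h3
      have h5 : n - c ≤ d := by omega
      have h6 : ((n - c : ℕ) : ℕ∞) ≤ (d : ℕ∞) := by exact_mod_cast h5
      exact WithBot.coe_le_coe.mpr h6

end Lower

section LemmaB

variable {R : Type u} [CommRing R] {n c : ℕ} (F : Fin c → MvPolynomial (Fin n) R)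
  (h : MvPolynomial (Fin n) R)

/-- "Lemma B": if the local fibre dimension of `R[x]/(F)` is at most `n - c` on `D(h)`, then the
presentation of the localization at `h` by `F` and `h y - 1` is a relative global complete
intersection -/
theorem isRelGCI_snocF (hcn : c ≤ n)
    (hW : ∀ q : PrimeSpectrum (MvPolynomial (Fin n) R ⧸ Ideal.span (Set.range F)),
      Ideal.Quotient.mk (Ideal.span (Set.range F)) h ∉ q.asIdeal →
      fibLD (PrimeSpectrum.comap (algebraMap R
        (MvPolynomial (Fin n) R ⧸ Ideal.span (Set.range F)))) q ≤ ((n - c : ℕ) : WithBot ℕ∞)) :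
    Synt.IsRelGCI R (n + 1) (c + 1) (snocF F h) := by
  intro p' hnt
  refine ⟨by omega, ?_⟩
  have hnc : n + 1 - (c + 1) = n - c := by omega
  rw [hnc]
  apply le_antisymm
  · have h1 := ringKrullDim_fiber_away_le
      (MvPolynomial (Fin n) R ⧸ Ideal.span (Set.range F))
      (Ideal.Quotient.mk (Ideal.span (Set.range F)) h) p' (n - c) hW
    let e : p'.asIdeal.Fiber (Localization.Away (Ideal.Quotient.mk (Ideal.span (Set.range F)) h))
        ≃ₐ[p'.asIdeal.ResidueField]
        p'.asIdeal.Fiber (Synt.RelGCIRing R (n + 1) (c + 1) (snocF F h)) :=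
      Algebra.TensorProduct.congr AlgEquiv.refl (locEquiv F h)
    rw [← ringKrullDim_eq_of_ringEquiv e.toRingEquiv]
    exact h1
  · have h2 := le_ringKrullDim_of_presentation (κ := p'.asIdeal.ResidueField)
      (T := p'.asIdeal.Fiber (MvPolynomial (Fin (n + 1)) R ⧸ Ideal.span (Set.range (snocF F h))))
      (φ p'.asIdeal (n + 1) (Ideal.span (Set.range (snocF F h))))
      (φ_surjective p'.asIdeal (n + 1) (Ideal.span (Set.range (snocF F h))))
      (fun i => ι p'.asIdeal (n + 1) (snocF F h i)) (by
        rw [ker_φ, Ideal.map_span, ← Set.range_comp]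
        rfl)
    rw [hnc] at h2
    exact h2

end LemmaB

section FindH

variable {R S : Type u} [CommRing R] [CommRing S] [Algebra R S] (p : Ideal R) [p.IsPrime]

/-- elements of the extension to the fibre of an ideal `J` are, up to a unit, of the form `1 ⊗ j` -/
lemma exists_smul_eq_one_tmul_of_mem_map (J : Ideal S) (z : p.Fiber S)
    (hz : z ∈ J.map (Algebra.TensorProduct.includeRight :
      S →ₐ[R] p.ResidueField ⊗[R] S).toRingHom) :
    ∃ r ∉ p, ∃ j ∈ J, r • z = (1 : p.ResidueField) ⊗ₜ[R] j := by
  unfold Ideal.map at hz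
  induction hz using Submodule.span_induction with
  | mem z hz =>
    obtain ⟨j, hj, rfl⟩ := hz
    exact ⟨1, fun h1 => (Ideal.IsPrime.ne_top inferInstance) ((Ideal.eq_top_iff_one p).mpr h1),
      j, hj, by rw [one_smul]; rfl⟩
  | zero =>
    exact ⟨1, fun h1 => (Ideal.IsPrime.ne_top inferInstance) ((Ideal.eq_top_iff_one p).mpr h1),
      0, J.zero_mem, by rw [smul_zero, TensorProduct.tmul_zero]⟩
  | add z₁ z₂ _ _ h₁ h₂ =>
    obtain ⟨r₁, hr₁, j₁, hj₁, e₁⟩ := h₁
    obtain ⟨r₂, hr₂, j₂, hj₂, e₂⟩ := h₂
    refine ⟨r₁ * r₂, fun h => (Ideal.IsPrime.mem_or_mem inferInstance h).elim hr₁ hr₂,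
      r₂ • j₁ + r₁ • j₂, J.add_mem (J.smul_of_tower_mem r₂ hj₁) (J.smul_of_tower_mem r₁ hj₂), ?_⟩
    rw [smul_add, mul_comm r₁ r₂, mul_smul, e₁, mul_comm r₂ r₁, mul_smul, e₂,
      TensorProduct.tmul_add, TensorProduct.tmul_smul, TensorProduct.tmul_smul]
  | smul a z _ h₁ =>
    obtain ⟨r₁, hr₁, j₁, hj₁, e₁⟩ := h₁
    obtain ⟨r₂, hr₂, s, e₂⟩ := Ideal.Fiber.exists_smul_eq_one_tmul p a
    refine ⟨r₂ * r₁, fun h => (Ideal.IsPrime.mem_or_mem inferInstance h).elim hr₂ hr₁,
      s * j₁, J.mul_mem_left s hj₁, ?_⟩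
    rw [smul_eq_mul, ← smul_mul_smul_comm, e₁, e₂, Algebra.TensorProduct.tmul_mul_tmul, one_mul]

/-- an open subset of `Spec S` containing the fibre over `p` contains a basic open set `D(g)`
with `g` invertible on the fibre -/
theorem exists_isUnit_tmul_basicOpen_subset (W : Set (PrimeSpectrum S)) (hWo : IsOpen W)
    (hW : ∀ x : PrimeSpectrum (p.Fiber S),
      PrimeSpectrum.comap (Algebra.TensorProduct.includeRight :
        S →ₐ[R] p.ResidueField ⊗[R] S).toRingHom x ∈ W) :
    ∃ g : S, IsUnit ((1 : p.ResidueField) ⊗ₜ[R] g : p.Fiber S) ∧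
      ∀ q : PrimeSpectrum S, g ∉ q.asIdeal → q ∈ W := by
  set J := PrimeSpectrum.vanishingIdeal Wᶜ with hJ
  have hZ : PrimeSpectrum.zeroLocus (J : Set S) = Wᶜ := by
    rw [hJ, PrimeSpectrum.zeroLocus_vanishingIdeal_eq_closure]
    exact hWo.isClosed_compl.closure_eq
  have htop : J.map (Algebra.TensorProduct.includeRight :
      S →ₐ[R] p.ResidueField ⊗[R] S).toRingHom = ⊤ := by
    by_contra hne
    obtain ⟨𝔪, h𝔪, hle⟩ := Ideal.exists_le_maximal _ hne
    have hmem := hW ⟨𝔪, h𝔪.isPrime⟩
    have h2 : PrimeSpectrum.comap (Algebra.TensorProduct.includeRight :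
        S →ₐ[R] p.ResidueField ⊗[R] S).toRingHom ⟨𝔪, h𝔪.isPrime⟩ ∈ Wᶜ := by
      rw [← hZ, PrimeSpectrum.mem_zeroLocus]
      intro j hj
      exact hle (Ideal.mem_map_of_mem _ hj)
    exact h2 hmem
  obtain ⟨r, hr, j, hj, e⟩ := exists_smul_eq_one_tmul_of_mem_map p J 1
    (by rw [htop]; exact Submodule.mem_top)
  refine ⟨j, ?_, ?_⟩
  · rw [← e, Algebra.smul_def, mul_one]
    exact isUnit_algebraMap_fiber p hr
  · intro q hq
    by_contra hqW
    have : q ∈ PrimeSpectrum.zeroLocus (J : Set S) := by
      rw [hZ]; exact hqW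
    rw [PrimeSpectrum.mem_zeroLocus] at this
    exact hq (this hj)

end FindH

end Groth.Agent.Lib.T2H7.SyntI
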