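import Mathlib
import Groth.Prelude.Def_RegImm
import Groth.Agent.Lib.T2H7SyntI

/-!
# Local structure of syntomic algebras (helper7)

* `exists_relGCI_away_of_flat_of_fibres`: a flat finitely presented quotient `R[x]/I` with local
  complete intersection fibres is, around every prime, a relative global complete intersection.
* `awayCongr`: localizations of isomorphic algebras.
* `exists_relGCI_away_of_isSyntomic`: the same for a syntomic algebra.
-/

set_option autoImplicit false

universe u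
open MvPolynomial TensorProduct

namespace Groth.Agent.Lib.T2H7.SyntL

open Groth.Agent.Lib.Helper4.FibDim Groth.Agent.Lib.T2H7.SyntB Groth.Agent.Lib.T2H7.SyntF
open Groth.Agent.Lib.T2H7.SyntG Groth.Agent.Lib.T2H7.SyntI Groth.Agent.Lib.T2H7.SyntC

section Main

variable {R : Type u} [CommRing R] {n : ℕ}

/-- local structure of a flat finitely presented algebra with local complete intersection fibres:
around every prime a basic open set is a relative global complete intersection -/
theorem exists_relGCI_away_of_flat_of_fibres (I : Ideal (MvPolynomial (Fin n) R)) (hI : I.FG)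
    (hflat : Module.Flat R (MvPolynomial (Fin n) R ⧸ I))
    (hfib : ∀ p : PrimeSpectrum R,
      Synt.IsLCIOver p.asIdeal.ResidueField (p.asIdeal.Fiber (MvPolynomial (Fin n) R ⧸ I)))
    (q' : Ideal (MvPolynomial (Fin n) R)) [hq'p : q'.IsPrime] (hIq' : I ≤ q') :
    ∃ s : MvPolynomial (Fin n) R, s ∉ q' ∧ ∃ (c : ℕ) (F : Fin c → MvPolynomial (Fin n) R),
      c ≤ n ∧ Synt.IsRelGCI R (n + 1) (c + 1) (snocF F s) ∧
      Nonempty (Localization.Away (Ideal.Quotient.mk I s) ≃ₐ[R]
        Synt.RelGCIRing R (n + 1) (c + 1) (snocF F s)) := by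
  obtain ⟨p, hp⟩ : ∃ p : Ideal R, p = q'.comap (algebraMap R (MvPolynomial (Fin n) R)) := ⟨_, rfl⟩
  have hpp : p.IsPrime := hp ▸ Ideal.comap_isPrime _ _
  have hlo : q'.LiesOver p := ⟨hp⟩
  obtain ⟨Q₀, hQ₀p, hQ₀⟩ := exists_prime_comap p n q' hp.symm
  have hφ := φ_surjective p n I
  have hkQ : RingHom.ker (φ p n I).toRingHom ≤ Q₀ := by
    rw [ker_φ, Ideal.map_le_iff_le_comap, hQ₀]
    exact hIq'
  have h𝔮p : (Q₀.map (φ p n I).toRingHom).IsPrime := Ideal.map_isPrime_of_surjective hφ hkQ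
  have hcm : (Q₀.map (φ p n I).toRingHom).comap (φ p n I).toRingHom = Q₀ := by
    have hφ' : Function.Surjective (φ p n I).toRingHom := hφ
    rw [Ideal.comap_map_of_surjective (φ p n I).toRingHom hφ', ← RingHom.ker_eq_comap_bot,
      sup_eq_left]
    exact hkQ
  have hQ : ((Q₀.map (φ p n I).toRingHom).comap (φ p n I).toRingHom).comap (ι p n) = q' := by
    rw [hcm]
    exact hQ₀
  obtain ⟨rs, hreg, hrs⟩ := exists_isRegular_of_isLCIOver (φ p n I) hφ (hfib ⟨p, hpp⟩)
    (Q₀.map (φ p n I).toRingHom)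
  rw [ker_φ] at hrs
  obtain ⟨F, hFI, hFreg, hFof⟩ := exists_lifts p n _ I rs hreg hrs
  have hgI : Ideal.ofList (List.ofFn F) ≤ I := by
    rw [ofList_ofFn, Ideal.span_le]
    rintro _ ⟨i, rfl⟩
    exact hFI i
  obtain ⟨s₁, hs₁, hgen⟩ := exists_mul_mem_ofList p n q' _ hQ I hI hflat (List.ofFn F) hgI hFof
  have hFq' : Ideal.span (Set.range F) ≤ q' := by
    rw [← ofList_ofFn]
    exact hgI.trans hIq'
  have hpr := map_mk_isPrime (Ideal.span (Set.range F)) q' hFq'
  let qb : PrimeSpectrum (MvPolynomial (Fin n) R ⧸ Ideal.span (Set.range F)) :=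
    ⟨q'.map (Ideal.Quotient.mk (Ideal.span (Set.range F))), hpr⟩
  have hqb : qb.asIdeal.comap (Ideal.Quotient.mk (Ideal.span (Set.range F))) = q' :=
    comap_map_mk _ _ hFq'
  obtain ⟨hcn, hld⟩ := fibLD_le_of_isRegular F p q' _ hQ qb hqb hFreg
  have hft : Algebra.FiniteType R (MvPolynomial (Fin n) R ⧸ Ideal.span (Set.range F)) :=
    Algebra.FiniteType.of_surjective (Ideal.Quotient.mkₐ R (Ideal.span (Set.range F)))
      (Ideal.Quotient.mkₐ_surjective R _)
  have hopen := isOpen_setOf_fibLD_comap_le R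
    (MvPolynomial (Fin n) R ⧸ Ideal.span (Set.range F)) (n - rs.length)
  obtain ⟨_, ⟨gb, rfl⟩, hmem, hsub⟩ :=
    PrimeSpectrum.isTopologicalBasis_basic_opens.exists_subset_of_mem_open
      (show qb ∈ {q | fibLD (PrimeSpectrum.comap (algebraMap R
        (MvPolynomial (Fin n) R ⧸ Ideal.span (Set.range F)))) q ≤ ((n - rs.length : ℕ) : WithBot ℕ∞)}
        from hld) hopen
  obtain ⟨s₂, rfl⟩ := Ideal.Quotient.mk_surjective gb
  have hs₂ : s₂ ∉ q' := by
    intro hs
    apply hmem
    exact Ideal.mem_map_of_mem _ hs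
  refine ⟨s₁ * s₂, fun h => (Ideal.IsPrime.mem_or_mem hq'p h).elim hs₁ hs₂, _, F, hcn, ?_, ?_⟩
  · apply isRelGCI_snocF F (s₁ * s₂) hcn
    intro q hq
    apply hsub
    show q ∈ (PrimeSpectrum.basicOpen (Ideal.Quotient.mk (Ideal.span (Set.range F)) s₂) : Set _)
    intro hmem''
    apply hq
    rw [map_mul]
    exact Ideal.mul_mem_left _ _ hmem''
  · obtain ⟨e⟩ := Groth.Agent.Lib.T2H9.SyntCI.exists_algEquiv_away (k := R)
      (Ideal.span (Set.range F)) I (by rw [← ofList_ofFn]; exact hgI) (s₁ * s₂) (by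
        intro a ha
        rw [← ofList_ofFn, mul_comm s₁ s₂, mul_assoc]
        exact Ideal.mul_mem_left _ _ (hgen a ha))
    exact ⟨e.symm.trans (locEquiv F (s₁ * s₂))⟩

/-- localizations of isomorphic algebras -/
noncomputable def awayCongr {A B : Type u} [CommRing A] [CommRing B] [Algebra R A] [Algebra R B]
    (e : A ≃ₐ[R] B) (a : A) : Localization.Away a ≃ₐ[R] Localization.Away (e a) :=
  IsLocalization.algEquivOfAlgEquiv (M := Submonoid.powers a) (T := Submonoid.powers (e a))
    (Localization.Away a) (Localization.Away (e a)) e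
    (Submonoid.map_powers _ a)

/-- local structure of syntomic algebras: around every prime a basic open set is a relative
global complete intersection -/
theorem exists_relGCI_away_of_isSyntomic (S : Type u) [CommRing S] [Algebra R S]
    (h : Synt.IsSyntomic R S) (q : Ideal S) [q.IsPrime] :
    ∃ g : S, g ∉ q ∧ ∃ (n c : ℕ) (F : Fin c → MvPolynomial (Fin n) R), c ≤ n ∧
      Synt.IsRelGCI R n c F ∧ Nonempty (Localization.Away g ≃ₐ[R] Synt.RelGCIRing R n c F) := by
  obtain ⟨hflat, hfp, hfib⟩ := h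
  have hft : Algebra.FiniteType R S := inferInstance
  obtain ⟨m, f, hf⟩ := Algebra.FiniteType.iff_quotient_mvPolynomial''.mp hft
  have hfg : (RingHom.ker f.toRingHom).FG := Algebra.FinitePresentation.ker_fG_of_surjective f hf
  let e : (MvPolynomial (Fin m) R ⧸ RingHom.ker f.toRingHom) ≃ₐ[R] S :=
    Ideal.quotientKerAlgEquivOfSurjective hf
  have hflat' : Module.Flat R (MvPolynomial (Fin m) R ⧸ RingHom.ker f.toRingHom) :=
    Module.Flat.of_linearEquiv e.toLinearEquiv
  have hsyn : Synt.IsSyntomic R (MvPolynomial (Fin m) R ⧸ RingHom.ker f.toRingHom) :=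
    Groth.Agent.Lib.T2H9.SyntComp.isSyntomic_of_algEquiv R S
      (MvPolynomial (Fin m) R ⧸ RingHom.ker f.toRingHom) e.symm ⟨hflat, hfp, hfib⟩
  have hq'p : (q.comap f.toRingHom).IsPrime := Ideal.comap_isPrime _ _
  have hIq' : RingHom.ker f.toRingHom ≤ q.comap f.toRingHom := by
    rw [RingHom.ker_eq_comap_bot]
    exact Ideal.comap_mono bot_le
  obtain ⟨s, hs, c, F, hcn, hrel, ⟨e₂⟩⟩ := exists_relGCI_away_of_flat_of_fibres _ hfg hflat'
    hsyn.2.2 (q.comap f.toRingHom) hIq'
  refine ⟨f s, hs, m + 1, c + 1, snocF F s, by omega, hrel, ⟨?_⟩⟩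
  have he : e (Ideal.Quotient.mk (RingHom.ker f.toRingHom) s) = f s := rfl
  rw [← he]
  exact (awayCongr e _).symm.trans e₂

end Main

end Groth.Agent.Lib.T2H7.SyntL
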