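import Groth.Agent.Lib.Helper20QuotCat

/-!
# T2H7: descending a morphism along a surjection with injective comorphisms

A general gluing lemma: `p : X ⟶ Y` surjective with `O_Y → p_* O_X` injective, `h : X ⟶ Z`, and for every affine
open `V` of `Z` an open `U V` of `Y` with `p⁻¹(U V) ⊆ h⁻¹ V`, the `U V` covering `Y`, such that the pulled back
functions `h^♯ c` on `p⁻¹(U V)` come from `Y`.  Then `h` factors uniquely through `p`.
-/

set_option autoImplicit false
set_option linter.unusedSectionVars false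
set_option linter.unusedVariables false
set_option linter.style.haveILetI false
universe u
open CategoryTheory AlgebraicGeometry TopologicalSpace

namespace Groth.Agent.Lib.T2H7.GITCat

open Groth.Agent.Lib.Helper20

variable {X Y Z : Scheme.{u}}

theorem restrict_surjective (p : X ⟶ Y) (hs : Function.Surjective p.base) (U : Y.Opens) :
    Function.Surjective (p ∣_ U).base := by
  rintro ⟨y, hy⟩
  obtain ⟨x, rfl⟩ := hs y
  refine ⟨⟨x, hy⟩, Subtype.ext ?_⟩
  exact morphismRestrict_base_coe p U ⟨x, hy⟩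

theorem restrict_app_injective (p : X ⟶ Y)
    (hinj : ∀ U : Y.Opens, Function.Injective (p.app U).hom) (U : Y.Opens) (V : U.toScheme.Opens) :
    Function.Injective ((p ∣_ U).app V).hom := by
  rw [morphismRestrict_app]
  intro a b hab
  apply hinj (U.ι ''ᵁ V)
  have hiso : Function.Injective
      (X.presheaf.map (eqToHom (image_morphismRestrict_preimage p U V)).op).hom :=
    ((ConcreteCategory.isIso_iff_bijective _).mp inferInstance).1
  exact hiso hab

/-- `p ∣_ U` is an epimorphism -/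
theorem epi_restrict (p : X ⟶ Y) (hs : Function.Surjective p.base)
    (hinj : ∀ U : Y.Opens, Function.Injective (p.app U).hom) (U : Y.Opens) : Epi (p ∣_ U) :=
  epi_of_surjective_of_injective_app (p ∣_ U) (restrict_surjective p hs U)
    (restrict_app_injective p hinj U)

theorem restrict_homOfLE (p : X ⟶ Y) {W U : Y.Opens} (hWU : W ≤ U) :
    (p ∣_ W) ≫ Y.homOfLE hWU = X.homOfLE (p.preimage_mono hWU) ≫ (p ∣_ U) := by
  rw [← cancel_mono U.ι, Category.assoc, Category.assoc, Scheme.homOfLE_ι, morphismRestrict_ι,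
    morphismRestrict_ι, Scheme.homOfLE_ι_assoc]

/-- gluing morphisms defined on the members of a cover by opens, compatible on intersections -/
theorem exists_glue {ι : Type u} (U : ι → Y.Opens) (hU : IsOpenCover U)
    (f : ∀ i, (U i).toScheme ⟶ Z)
    (hf : ∀ i j, Y.homOfLE (inf_le_left : U i ⊓ U j ≤ U i) ≫ f i =
      Y.homOfLE (inf_le_right : U i ⊓ U j ≤ U j) ≫ f j) :
    ∃ g : Y ⟶ Z, ∀ i, (U i).ι ≫ g = f i := by
  let 𝒰 : Y.OpenCover := Y.openCoverOfIsOpenCover U hU
  have compat : ∀ i j : 𝒰.I₀, Limits.pullback.fst (𝒰.f i) (𝒰.f j) ≫ f i =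
      Limits.pullback.snd (𝒰.f i) (𝒰.f j) ≫ f j := by
    intro i j
    change Limits.pullback.fst (U i).ι (U j).ι ≫ f i = Limits.pullback.snd (U i).ι (U j).ι ≫ f j
    have hr : Set.range (Limits.pullback.fst (U i).ι (U j).ι ≫ (U i).ι).base ⊆
        Set.range (U i ⊓ U j).ι.base := by
      rintro _ ⟨x, rfl⟩
      rw [Scheme.Opens.range_ι]
      refine ⟨?_, ?_⟩
      · exact (Limits.pullback.fst (U i).ι (U j).ι x).2
      · have : (Limits.pullback.fst (U i).ι (U j).ι ≫ (U i).ι) x =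
            (Limits.pullback.snd (U i).ι (U j).ι ≫ (U j).ι) x := by
          rw [Limits.pullback.condition]
        rw [this]
        exact (Limits.pullback.snd (U i).ι (U j).ι x).2
    let e : Limits.pullback (U i).ι (U j).ι ⟶ (U i ⊓ U j).toScheme :=
      IsOpenImmersion.lift (U i ⊓ U j).ι (Limits.pullback.fst (U i).ι (U j).ι ≫ (U i).ι) hr
    have he : e ≫ (U i ⊓ U j).ι = Limits.pullback.fst (U i).ι (U j).ι ≫ (U i).ι :=
      IsOpenImmersion.lift_fac _ _ _
    have h1 : Limits.pullback.fst (U i).ι (U j).ι = e ≫ Y.homOfLE inf_le_left := by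
      rw [← cancel_mono (U i).ι, Category.assoc, Scheme.homOfLE_ι, he]
    have h2 : Limits.pullback.snd (U i).ι (U j).ι = e ≫ Y.homOfLE inf_le_right := by
      rw [← cancel_mono (U j).ι, Category.assoc, Scheme.homOfLE_ι, he, Limits.pullback.condition]
    rw [h1, h2, Category.assoc, Category.assoc, hf i j]
  exact ⟨𝒰.glueMorphisms f compat, fun i => 𝒰.ι_glueMorphisms f compat i⟩

section desc

variable (p : X ⟶ Y) (h : X ⟶ Z) (hs : Function.Surjective p.base)
  (hinj : ∀ U : Y.Opens, Function.Injective (p.app U).hom)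
  (U : Z.affineOpens → Y.Opens) (hle : ∀ V, p ⁻¹ᵁ U V ≤ h ⁻¹ᵁ V.1)
  (hcov : ∀ y : Y, ∃ V, y ∈ U V)
  (hrange : ∀ (V : Z.affineOpens) (c : Γ(Z, V.1)),
    (h.appLE V.1 (p ⁻¹ᵁ U V) (hle V)).hom c ∈ Set.range (p.app (U V)).hom)

include hinj hrange in
theorem exists_psi (V : Z.affineOpens) :
    ∃ ψ : Γ(Z, V.1) ⟶ Γ(Y, U V), ψ ≫ p.app (U V) = h.appLE V.1 (p ⁻¹ᵁ U V) (hle V) :=
  exists_lift_of_injective _ (hinj (U V)) _ (hrange V)

include hinj hrange in
theorem exists_phi (V : Z.affineOpens) :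
    ∃ φ : (U V).toScheme ⟶ Z, (p ∣_ U V) ≫ φ = (p ⁻¹ᵁ U V).ι ≫ h := by
  obtain ⟨ψ, hψ⟩ := exists_psi p h hinj U hle hrange V
  refine ⟨(U V).toSpecΓ ≫ Spec.map ψ ≫ V.2.fromSpec, ?_⟩
  have h1 : (p ∣_ U V) = p.resLE (U V) (p ⁻¹ᵁ U V) le_rfl := by
    rw [Scheme.Hom.resLE, Scheme.homOfLE_rfl, Category.id_comp]
  rw [h1, ← Category.assoc, ← Scheme.Opens.toSpecΓ_SpecMap_appLE, Category.assoc,
    ← Spec.map_comp_assoc, Scheme.Hom.appLE_eq_app, hψ, ι_comp_eq_of_affine h V.2 _ (hle V)]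

include hs hinj hcov hrange in
/-- the factorisation of `h` through `p` -/
theorem exists_desc : ∃ χ : Y ⟶ Z, p ≫ χ = h := by
  choose φ hφ using exists_phi p h hinj U hle hrange
  have hU : IsOpenCover U := by
    apply IsOpenCover.mk
    rw [eq_top_iff]
    intro y _
    obtain ⟨V, hV⟩ := hcov y
    exact Opens.mem_iSup.mpr ⟨V, hV⟩
  have hf : ∀ i j, Y.homOfLE (inf_le_left : U i ⊓ U j ≤ U i) ≫ φ i =
      Y.homOfLE (inf_le_right : U i ⊓ U j ≤ U j) ≫ φ j := by
    intro i j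
    haveI := epi_restrict p hs hinj (U i ⊓ U j)
    rw [← cancel_epi (p ∣_ (U i ⊓ U j)), ← Category.assoc, ← Category.assoc, restrict_homOfLE,
      restrict_homOfLE, Category.assoc, Category.assoc, hφ i, hφ j, Scheme.homOfLE_ι_assoc,
      Scheme.homOfLE_ι_assoc]
  obtain ⟨g, hg⟩ := exists_glue U hU φ hf
  refine ⟨g, ?_⟩
  apply Scheme.hom_ext_of_forall
  intro x
  obtain ⟨V, hV⟩ := hcov (p.base x)
  refine ⟨p ⁻¹ᵁ U V, hV, ?_⟩
  rw [← Category.assoc, ← morphismRestrict_ι, Category.assoc, hg V, hφ V]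

include hs hinj hcov hrange in
theorem existsUnique_desc : ∃! χ : Y ⟶ Z, p ≫ χ = h := by
  obtain ⟨χ, hχ⟩ := exists_desc p h hs hinj U hle hcov hrange
  refine ⟨χ, hχ, fun χ' hχ' => ?_⟩
  haveI := epi_of_surjective_of_injective_app p hs hinj
  rw [← cancel_epi p, hχ, hχ']

end desc

end Groth.Agent.Lib.T2H7.GITCat
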