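import Mathlib
import Groth.Agent.Lib.T2H7GITCat

set_option autoImplicit false
set_option linter.unusedSectionVars false
set_option linter.unusedVariables false
set_option linter.style.haveILetI false
universe u
open CategoryTheory AlgebraicGeometry TopologicalSpace

namespace Groth.Agent.Lib.T2H7.CatQuotAff

open Groth.Agent.Lib.Helper20 Groth.Agent.Lib.T2H7.GITCat

variable {X Y Z : Scheme.{u}}

section desc

variable {ι : Type u} (p : X ⟶ Y) (h : X ⟶ Z) (hs : Function.Surjective p.base)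
  (hinj : ∀ U : Y.Opens, Function.Injective (p.app U).hom)
  (V : ι → Z.affineOpens) (U : ι → Y.Opens) (hle : ∀ i, p ⁻¹ᵁ U i ≤ h ⁻¹ᵁ (V i).1)
  (hcov : ∀ y : Y, ∃ i, y ∈ U i)
  (hrange : ∀ (i : ι) (c : Γ(Z, (V i).1)),
    (h.appLE (V i).1 (p ⁻¹ᵁ U i) (hle i)).hom c ∈ Set.range (p.app (U i)).hom)

include hinj hrange in
theorem exists_phi' (i : ι) :
    ∃ φ : (U i).toScheme ⟶ Z, (p ∣_ U i) ≫ φ = (p ⁻¹ᵁ U i).ι ≫ h := by
  obtain ⟨ψ, hψ⟩ : ∃ ψ : Γ(Z, (V i).1) ⟶ Γ(Y, U i),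
      ψ ≫ p.app (U i) = h.appLE (V i).1 (p ⁻¹ᵁ U i) (hle i) :=
    exists_lift_of_injective _ (hinj (U i)) _ (hrange i)
  refine ⟨(U i).toSpecΓ ≫ Spec.map ψ ≫ (V i).2.fromSpec, ?_⟩
  have h1 : (p ∣_ U i) = p.resLE (U i) (p ⁻¹ᵁ U i) le_rfl := by
    rw [Scheme.Hom.resLE, Scheme.homOfLE_rfl, Category.id_comp]
  rw [h1, ← Category.assoc, ← Scheme.Opens.toSpecΓ_SpecMap_appLE, Category.assoc,
    ← Spec.map_comp_assoc, Scheme.Hom.appLE_eq_app, hψ, ι_comp_eq_of_affine h (V i).2 _ (hle i)]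

include hs hinj hcov hrange in
/-- the factorisation of `h` through `p`, with an arbitrary index set for the cover -/
theorem exists_desc' : ∃ χ : Y ⟶ Z, p ≫ χ = h := by
  choose φ hφ using exists_phi' p h hinj V U hle hrange
  have hU : IsOpenCover U := by
    apply IsOpenCover.mk
    rw [eq_top_iff]
    intro y _
    obtain ⟨i, hi⟩ := hcov y
    exact Opens.mem_iSup.mpr ⟨i, hi⟩
  have hf : ∀ i j, Y.homOfLE (inf_le_left : U i ⊓ U j ≤ U i) ≫ φ i =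
      Y.homOfLE (inf_le_right : U i ⊓ U j ≤ U j) ≫ φ j := by
    intro i j
    haveI := epi_restrict p hs hinj (U i ⊓ U j)
    rw [← cancel_epi (p ∣_ (U i ⊓ U j)), ← Category.assoc, ← Category.assoc, restrict_homOfLE,
      restrict_homOfLE, Category.assoc, Category.assoc, hφ i, hφ j, Scheme.homOfLE_ι_assoc,
      Scheme.homOfLE_ι_assoc]
  obtain ⟨g, hg⟩ := exists_glue U hU φ hf
  refine ⟨g, ?_⟩
  apply Scheme.hom_ext_of_forall
  intro x
  obtain ⟨i, hi⟩ := hcov (p.base x)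
  refine ⟨p ⁻¹ᵁ U i, hi, ?_⟩
  rw [← Category.assoc, ← morphismRestrict_ι, Category.assoc, hg i, hφ i]

include hs hinj hcov hrange in
theorem existsUnique_desc' : ∃! χ : Y ⟶ Z, p ≫ χ = h := by
  obtain ⟨χ, hχ⟩ := exists_desc' p h hs hinj V U hle hcov hrange
  refine ⟨χ, hχ, fun χ' hχ' => ?_⟩
  haveI := epi_of_surjective_of_injective_app p hs hinj
  rw [← cancel_epi p, hχ, hχ']

end desc

section loc

/-- sections over a basic open of an affine scheme are fractions -/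
theorem exists_res_eq_pow_mul {X : Scheme.{u}} [IsAffine X] (O : X.Opens) (f : Γ(X, ⊤))
    (e : O = X.basicOpen f) (s : Γ(X, O)) :
    ∃ (n : ℕ) (b : Γ(X, ⊤)), (X.presheaf.map (homOfLE le_top : O ⟶ ⊤).op).hom b =
      ((X.presheaf.map (homOfLE le_top : O ⟶ ⊤).op).hom f) ^ n * s := by
  subst e
  exact exists_eq_pow_mul_of_isAffineOpen X ⊤ (isAffineOpen_top X) f s

/-- a global function vanishing on a basic open of an affine scheme is killed by a power -/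
theorem exists_pow_mul_eq_zero {P : Scheme.{u}} [IsAffine P] (O : P.Opens) (g x : Γ(P, ⊤))
    (e : O = P.basicOpen g) (hx : (P.presheaf.map (homOfLE le_top : O ⟶ ⊤).op).hom x = 0) :
    ∃ n : ℕ, g ^ n * x = 0 := by
  subst e
  exact exists_pow_mul_eq_zero_of_res_basicOpen_eq_zero_of_isAffineOpen P (isAffineOpen_top P) x g hx

theorem appLE_res_top {P X : Scheme.{u}} (σ : P ⟶ X) (D : X.Opens) (O : P.Opens)
    (hOD : O ≤ σ ⁻¹ᵁ D) (b : Γ(X, ⊤)) :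
    (σ.appLE D O hOD).hom ((X.presheaf.map (homOfLE le_top : D ⟶ ⊤).op).hom b) =
      (P.presheaf.map (homOfLE le_top : O ⟶ ⊤).op).hom (σ.appTop.hom b) := by
  have h1 : X.presheaf.map (homOfLE le_top : D ⟶ ⊤).op ≫ σ.appLE D O hOD =
      σ.appLE ⊤ O le_top := σ.map_appLE hOD _
  have h2 : σ.appTop ≫ P.presheaf.map (homOfLE le_top : O ⟶ ⊤).op = σ.appLE ⊤ O le_top := rfl
  rw [← CommRingCat.comp_apply, ← CommRingCat.comp_apply, h1, h2]

theorem isUnit_res_basicOpen_top (Y : Scheme.{u}) (c : Γ(Y, ⊤)) :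
    IsUnit ((Y.presheaf.map (homOfLE le_top : Y.basicOpen c ⟶ ⊤).op).hom c) :=
  Y.toRingedSpace.isUnit_res_basicOpen c

/-- **descent of invariant sections over basic opens.** -/
theorem mem_range_app_basicOpen {X Y P : Scheme.{u}} [IsAffine X] [IsAffine P] (p : X ⟶ Y)
    (σ pr : P ⟶ X) (h0 : σ ≫ p = pr ≫ p)
    (heq : ∀ b : Γ(X, ⊤), σ.appTop.hom b = pr.appTop.hom b → b ∈ Set.range p.appTop.hom)
    (c : Γ(Y, ⊤)) (s : Γ(X, p ⁻¹ᵁ Y.basicOpen c))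
    (hle : σ ⁻¹ᵁ (p ⁻¹ᵁ Y.basicOpen c) ≤ pr ⁻¹ᵁ (p ⁻¹ᵁ Y.basicOpen c))
    (hs : (σ.appLE (p ⁻¹ᵁ Y.basicOpen c) (σ ⁻¹ᵁ (p ⁻¹ᵁ Y.basicOpen c)) le_rfl).hom s =
      (pr.appLE (p ⁻¹ᵁ Y.basicOpen c) (σ ⁻¹ᵁ (p ⁻¹ᵁ Y.basicOpen c)) hle).hom s) :
    s ∈ Set.range (p.app (Y.basicOpen c)).hom := by
  have eD : p ⁻¹ᵁ Y.basicOpen c = X.basicOpen (p.appTop.hom c) := Scheme.preimage_basicOpen_top p c
  have eO : σ ⁻¹ᵁ (p ⁻¹ᵁ Y.basicOpen c) = P.basicOpen (σ.appTop.hom (p.appTop.hom c)) := by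
    rw [eD]
    exact Scheme.preimage_basicOpen_top σ _
  have hg : pr.appTop.hom (p.appTop.hom c) = σ.appTop.hom (p.appTop.hom c) := by
    have h1 : (pr ≫ p).appTop.hom c = (σ ≫ p).appTop.hom c := by rw [h0]
    rw [Scheme.Hom.comp_appTop, Scheme.Hom.comp_appTop] at h1
    exact h1
  obtain ⟨n, b, hb⟩ := exists_res_eq_pow_mul (p ⁻¹ᵁ Y.basicOpen c) (p.appTop.hom c) eD s
  have hA := congrArg (σ.appLE (p ⁻¹ᵁ Y.basicOpen c) (σ ⁻¹ᵁ (p ⁻¹ᵁ Y.basicOpen c)) le_rfl).hom hb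
  have hA' := congrArg (pr.appLE (p ⁻¹ᵁ Y.basicOpen c) (σ ⁻¹ᵁ (p ⁻¹ᵁ Y.basicOpen c)) hle).hom hb
  rw [map_mul, map_pow, appLE_res_top, appLE_res_top] at hA hA'
  rw [hg, ← hs, ← hA] at hA'
  have hz : (P.presheaf.map (homOfLE le_top : σ ⁻¹ᵁ (p ⁻¹ᵁ Y.basicOpen c) ⟶ ⊤).op).hom
      (σ.appTop.hom b - pr.appTop.hom b) = 0 := by
    rw [map_sub, hA', sub_self]
  obtain ⟨m, hm⟩ := exists_pow_mul_eq_zero _ _ _ eO hz
  have h3 : σ.appTop.hom (p.appTop.hom c ^ m * b) = pr.appTop.hom (p.appTop.hom c ^ m * b) := by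
    rw [map_mul, map_mul, map_pow, map_pow, hg]
    rw [mul_sub, sub_eq_zero] at hm
    exact hm
  obtain ⟨c₁, hc₁⟩ := heq _ h3
  obtain ⟨uc, huc⟩ := isUnit_res_basicOpen_top Y c
  have hpc : ∀ z : Γ(Y, ⊤), (p.app (Y.basicOpen c)).hom
      ((Y.presheaf.map (homOfLE le_top : Y.basicOpen c ⟶ ⊤).op).hom z) =
      (X.presheaf.map (homOfLE le_top : p ⁻¹ᵁ Y.basicOpen c ⟶ ⊤).op).hom (p.appTop.hom z) := by
    intro z
    have := appLE_res_top p (Y.basicOpen c) (p ⁻¹ᵁ Y.basicOpen c) le_rfl z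
    rw [Scheme.Hom.appLE_eq_app] at this
    exact this
  have hunit : IsUnit ((X.presheaf.map (homOfLE le_top : p ⁻¹ᵁ Y.basicOpen c ⟶ ⊤).op).hom
      (p.appTop.hom c)) := by
    rw [← hpc, ← huc]
    exact (uc.isUnit).map _
  refine ⟨(↑(uc⁻¹ ^ (n + m)) : Γ(Y, Y.basicOpen c)) *
    (Y.presheaf.map (homOfLE le_top : Y.basicOpen c ⟶ ⊤).op).hom c₁, ?_⟩
  apply (hunit.pow (n + m)).mul_left_cancel
  have hF : (X.presheaf.map (homOfLE le_top : p ⁻¹ᵁ Y.basicOpen c ⟶ ⊤).op).hom (p.appTop.hom c) =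
      (p.app (Y.basicOpen c)).hom ↑uc := by rw [huc, hpc]
  have h5 : (p.app (Y.basicOpen c)).hom ↑(uc ^ (n + m)) *
      (p.app (Y.basicOpen c)).hom ↑(uc⁻¹ ^ (n + m)) = 1 := by
    rw [← map_mul, ← Units.val_mul, ← mul_pow, mul_inv_cancel, one_pow, Units.val_one, map_one]
  have h6 : (X.presheaf.map (homOfLE le_top : p ⁻¹ᵁ Y.basicOpen c ⟶ ⊤).op).hom
      (p.appTop.hom c) ^ (n + m) = (p.app (Y.basicOpen c)).hom ↑(uc ^ (n + m)) := by
    rw [hF, ← map_pow, ← Units.val_pow_eq_pow_val]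
  calc (X.presheaf.map (homOfLE le_top : p ⁻¹ᵁ Y.basicOpen c ⟶ ⊤).op).hom (p.appTop.hom c) ^ (n + m) *
        (p.app (Y.basicOpen c)).hom ((↑(uc⁻¹ ^ (n + m)) : Γ(Y, Y.basicOpen c)) *
          (Y.presheaf.map (homOfLE le_top : Y.basicOpen c ⟶ ⊤).op).hom c₁)
      = ((p.app (Y.basicOpen c)).hom ↑(uc ^ (n + m)) *
          (p.app (Y.basicOpen c)).hom ↑(uc⁻¹ ^ (n + m))) *
          (p.app (Y.basicOpen c)).hom
            ((Y.presheaf.map (homOfLE le_top : Y.basicOpen c ⟶ ⊤).op).hom c₁) := by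
        rw [h6, map_mul, mul_assoc]
    _ = (X.presheaf.map (homOfLE le_top : p ⁻¹ᵁ Y.basicOpen c ⟶ ⊤).op).hom (p.appTop.hom c₁) := by
        rw [h5, one_mul, hpc]
    _ = (X.presheaf.map (homOfLE le_top : p ⁻¹ᵁ Y.basicOpen c ⟶ ⊤).op).hom (p.appTop.hom c) ^ (n + m) *
          s := by
        rw [hc₁, map_mul, map_pow, hb, pow_add]
        ring

end loc

section main

theorem app_injective_of_affine {X Y : Scheme.{u}} [IsAffine X] [IsAffine Y] (p : X ⟶ Y)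
    (h : Function.Injective p.appTop.hom) (U : Y.Opens) : Function.Injective (p.app U).hom := by
  haveI : IsSchemeTheoreticallyDominant p := by
    constructor
    rw [Scheme.ker_of_isAffine, (RingHom.injective_iff_ker_eq_bot _).mp h]
    apply Scheme.IdealSheafData.ext_of_isAffine
    simp
  exact p.app_injective U

theorem appLE_congr_hom {X Y : Scheme.{u}} {f g : X ⟶ Y} (h : f = g) (U : Y.Opens) (V : X.Opens)
    (e : V ≤ f ⁻¹ᵁ U) : f.appLE U V e = g.appLE U V (h ▸ e) := by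
  subst h
  rfl

/-- **Categorical quotients of affine schemes**: the criterion. -/
theorem existsUnique_desc_of_affine {X Y P Z : Scheme.{u}} [IsAffine X] [IsAffine Y] [IsAffine P]
    (p : X ⟶ Y) (σ pr : P ⟶ X) (h0 : σ ≫ p = pr ≫ p)
    (heq : ∀ b : Γ(X, ⊤), σ.appTop.hom b = pr.appTop.hom b → b ∈ Set.range p.appTop.hom)
    (hinjtop : Function.Injective p.appTop.hom)
    (hs : Function.Surjective p.base)
    (hclosed : ∀ W : Set X, IsClosed W → σ.base ⁻¹' W = pr.base ⁻¹' W → IsClosed (p.base '' W))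
    (hinter : ∀ (J : Type u) (W : J → Set X),
      (∀ j, IsClosed (W j) ∧ σ.base ⁻¹' W j = pr.base ⁻¹' W j) →
      (⋂ j, W j) = ∅ → (⋂ j, p.base '' W j) = ∅)
    (ψ : X ⟶ Z) (hψ : σ ≫ ψ = pr ≫ ψ) : ∃! χ : Y ⟶ Z, p ≫ χ = ψ := by
  let W : Z.affineOpens → Set X := fun V => (ψ.base ⁻¹' (V.1 : Set Z))ᶜ
  have hWcl : ∀ V, IsClosed (W V) := fun V =>
    (V.1.isOpen.preimage ψ.base.hom.continuous).isClosed_compl
  have hWinv : ∀ V, σ.base ⁻¹' W V = pr.base ⁻¹' W V := by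
    intro V
    ext x
    have h1 : (σ ≫ ψ).base x = (pr ≫ ψ).base x := by rw [hψ]
    simp only [Scheme.Hom.comp_base, TopCat.comp_app] at h1
    simp only [W, Set.mem_preimage, Set.mem_compl_iff, SetLike.mem_coe]
    rw [h1]
  let UV : Z.affineOpens → Y.Opens := fun V =>
    ⟨(p.base '' W V)ᶜ, (hclosed _ (hWcl V) (hWinv V)).isOpen_compl⟩
  have hUVle : ∀ V, p ⁻¹ᵁ UV V ≤ ψ ⁻¹ᵁ V.1 := by
    intro V x hx
    by_contra hxV
    exact hx ⟨x, hxV, rfl⟩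
  have hUVcov : ∀ y : Y, ∃ V, y ∈ UV V := by
    intro y
    by_contra hy
    push Not at hy
    have h1 : y ∈ ⋂ V, p.base '' W V := by
      rw [Set.mem_iInter]
      intro V
      by_contra h
      exact hy V h
    rw [hinter Z.affineOpens W (fun V => ⟨hWcl V, hWinv V⟩) ?_] at h1
    · exact h1
    · rw [Set.eq_empty_iff_forall_notMem]
      intro x hx
      rw [Set.mem_iInter] at hx
      obtain ⟨V, hV, hxV⟩ := Groth.Agent.Lib.Helper20.exists_affine_nhd Z (ψ.base x)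
      exact hx ⟨V, hV⟩ hxV
  let ι : Type u := {t : Z.affineOpens × Γ(Y, ⊤) // Y.basicOpen t.2 ≤ UV t.1}
  refine existsUnique_desc' (ι := ι) p ψ hs (app_injective_of_affine p hinjtop)
    (fun t => t.1.1) (fun t => Y.basicOpen t.1.2)
    (fun t => le_trans (p.preimage_mono t.2) (hUVle _)) ?_ ?_
  · intro y
    obtain ⟨V, hV⟩ := hUVcov y
    obtain ⟨c, hcle, hyc⟩ := (isAffineOpen_top Y).exists_basicOpen_le (V := UV V) ⟨y, hV⟩ trivial
    exact ⟨⟨(V, c), hcle⟩, hyc⟩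
  · intro t c'
    have hle : σ ⁻¹ᵁ (p ⁻¹ᵁ Y.basicOpen t.1.2) ≤ pr ⁻¹ᵁ (p ⁻¹ᵁ Y.basicOpen t.1.2) := by
      apply le_of_eq
      rw [← Scheme.Hom.comp_preimage, ← Scheme.Hom.comp_preimage, h0]
    apply mem_range_app_basicOpen p σ pr h0 heq t.1.2 _ hle
    rw [← CommRingCat.comp_apply, ← CommRingCat.comp_apply, Scheme.Hom.appLE_comp_appLE,
      Scheme.Hom.appLE_comp_appLE, appLE_congr_hom hψ]

end main

end Groth.Agent.Lib.T2H7.CatQuotAff
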