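import Mathlib
import Groth.Agent.Lib.Helper25Tame
import Groth.Agent.Lib.T2H7CatQuotAff

/-!
# Categorical quotient by a coaction with a total integral (helper7)
-/

set_option autoImplicit false
set_option linter.unusedSectionVars false
set_option linter.unusedVariables false
set_option linter.style.haveILetI false
universe u
open CategoryTheory AlgebraicGeometry TopologicalSpace TensorProduct

namespace Groth.Agent.Lib.T2H7.CatQuotTame

open HopfRep Groth.Agent.Lib.Helper25

section Flat

variable {k : Type*} [CommRing k] {A : Type*} [AddCommGroup A] [Module k A] [Module.Flat k A]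
variable {V Q : Type*} [AddCommGroup V] [Module k V] [AddCommGroup Q] [Module k Q]

/-- For flat `A`, the kernel of `q ⊗ A` is the image of `ker q ⊗ A`. -/
theorem mem_range_rTensor_ker (q : V →ₗ[k] Q) (x : V ⊗[k] A) (hx : q.rTensor A x = 0) :
    x ∈ LinearMap.range ((LinearMap.ker q).subtype.rTensor A) := by
  have hex : Function.Exact (LinearMap.ker q).subtype q := LinearMap.exact_subtype_ker_map q
  have hex' := Module.Flat.rTensor_exact A hex
  exact (hex' x).mp hx

end Flat

section Alg

variable {k : Type u} [CommRing k] {A : Type u} [CommRing A] [HopfAlgebra k A] [Module.Flat k A]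
variable {B : Type u} [CommRing B] [Algebra k B] [HopfRep.Comod k A B] [GLin.IsCoactAlg k A B]

/-- `b ↦ b ⊗ 1` as a ring map. -/
noncomputable abbrev inclR (k A B : Type u) [CommRing k] [CommRing A] [HopfAlgebra k A]
    [CommRing B] [Algebra k B] : B →+* B ⊗[k] A :=
  (Algebra.TensorProduct.includeLeftRingHom : B →+* B ⊗[k] A)

/-- the coaction as a ring map. -/
noncomputable abbrev rhoR (k A B : Type u) [CommRing k] [CommRing A] [HopfAlgebra k A]
    [CommRing B] [Algebra k B] [HopfRep.Comod k A B] [GLin.IsCoactAlg k A B] : B →+* B ⊗[k] A :=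
  (GLin.coactAlgHom k A B).toRingHom

/-- `id ⊗ ε : B ⊗ A → B`. -/
noncomputable def epsR (k A B : Type u) [CommRing k] [CommRing A] [HopfAlgebra k A]
    [CommRing B] [Algebra k B] : B ⊗[k] A →ₐ[k] B :=
  Algebra.TensorProduct.lift (AlgHom.id k B) ((Algebra.ofId k B).comp (Bialgebra.counitAlgHom k A))
    (fun _ _ => Commute.all _ _)

theorem epsR_tmul (b : B) (a : A) :
    epsR k A B (b ⊗ₜ[k] a) = b * algebraMap k B (CoalgebraStruct.counit (R := k) a) := by
  simp [epsR, Algebra.ofId_apply]

theorem epsR_incl (b : B) : epsR k A B (inclR k A B b) = b := by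
  change epsR k A B (b ⊗ₜ[k] (1 : A)) = b
  rw [epsR_tmul]
  simp

theorem epsR_eq (x : B ⊗[k] A) :
    epsR k A B x = TensorProduct.rid k B ((CoalgebraStruct.counit (R := k) (A := A)).lTensor B x) := by
  induction x using TensorProduct.induction_on with
  | zero => simp
  | add x y hx hy => simp only [map_add, hx, hy]
  | tmul b a =>
    rw [epsR_tmul, LinearMap.lTensor_tmul, TensorProduct.rid_tmul, Algebra.smul_def, mul_comm]

theorem epsR_rho (b : B) : epsR k A B (rhoR k A B b) = b := by
  change epsR k A B (Comod.coact (k := k) (A := A) b) = b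
  rw [epsR_eq, counit_apply]
  simp

/-- The largest subcomodule ideal contained in `b`. -/
noncomputable def core (k A : Type u) {B : Type u} [CommRing k] [CommRing A] [HopfAlgebra k A]
    [CommRing B] [Algebra k B] [HopfRep.Comod k A B] [GLin.IsCoactAlg k A B] (b : Ideal B) :
    Ideal B :=
  (Ideal.map (inclR k A B) b).comap (rhoR k A B)

theorem mem_core (b : Ideal B) (x : B) :
    x ∈ core k A b ↔ Comod.coact (k := k) (A := A) x ∈ Ideal.map (inclR k A B) b := Iff.rfl

theorem core_le (b : Ideal B) : core k A b ≤ b := by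
  intro x hx
  have h1 : epsR k A B (rhoR k A B x) ∈ Ideal.map (epsR k A B).toRingHom (Ideal.map (inclR k A B) b) :=
    Ideal.mem_map_of_mem _ hx
  rw [epsR_rho, Ideal.map_map] at h1
  have h2 : (epsR k A B).toRingHom.comp (inclR k A B) = RingHom.id B := by
    ext y
    exact epsR_incl y
  rw [h2, Ideal.map_id] at h1
  exact h1

theorem map_incl_eq (b : Ideal B) :
    (Ideal.map (inclR k A B) b).restrictScalars k =
      LinearMap.range ((b.restrictScalars k).subtype.rTensor A) :=
  Ideal.map_includeLeft_eq (R := k) (A := B) (B := A) b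

theorem tmul_mem_map_incl (b : Ideal B) (u : B) (hu : u ∈ b) (a : A) :
    u ⊗ₜ[k] a ∈ Ideal.map (inclR k A B) b := by
  have : u ⊗ₜ[k] a ∈ (Ideal.map (inclR k A B) b).restrictScalars k := by
    rw [map_incl_eq]
    exact ⟨(⟨u, hu⟩ : b.restrictScalars k) ⊗ₜ[k] a, rfl⟩
  exact this

/-- `core b` is a subcomodule (uses flatness of `A`). -/
theorem isSubcomod_core (b : Ideal B) :
    HopfRep.IsSubcomod (k := k) (A := A) ((core k A b).restrictScalars k) := by
  intro x hx
  set N : Submodule k (B ⊗[k] A) := (Ideal.map (inclR k A B) b).restrictScalars k with hN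
  set q : B →ₗ[k] (B ⊗[k] A) ⧸ N := N.mkQ ∘ₗ (Comod.coact (k := k) (A := A)) with hq
  have hker : LinearMap.ker q = (core k A b).restrictScalars k := by
    ext y
    rw [LinearMap.mem_ker, hq, LinearMap.comp_apply, Submodule.mkQ_apply,
      Submodule.Quotient.mk_eq_zero]
    rfl
  have gen : ∀ y : (b.restrictScalars k) ⊗[k] A, (N.mkQ.rTensor A)
      ((TensorProduct.assoc k B A A).symm ((CoalgebraStruct.comul (R := k) (A := A)).lTensor B
        ((b.restrictScalars k).subtype.rTensor A y))) = 0 := by
    intro y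
    induction y using TensorProduct.induction_on with
    | zero => simp
    | add y z hy hz => simp only [map_add, hy, hz, add_zero]
    | tmul u a =>
      rw [LinearMap.rTensor_tmul, LinearMap.lTensor_tmul]
      generalize (CoalgebraStruct.comul (R := k) a : A ⊗[k] A) = z
      induction z using TensorProduct.induction_on with
      | zero => simp
      | add y z hy hz => simp only [TensorProduct.tmul_add, map_add, hy, hz, add_zero]
      | tmul a1 a2 =>
        rw [TensorProduct.assoc_symm_tmul, LinearMap.rTensor_tmul, Submodule.mkQ_apply]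
        have : (Submodule.Quotient.mk ((b.restrictScalars k).subtype u ⊗ₜ[k] a1) :
            (B ⊗[k] A) ⧸ N) = 0 := by
          rw [Submodule.Quotient.mk_eq_zero]
          exact tmul_mem_map_incl b _ u.2 a1
        rw [this, TensorProduct.zero_tmul]
  have key : q.rTensor A (Comod.coact (k := k) (A := A) x) = 0 := by
    rw [hq, LinearMap.rTensor_comp, LinearMap.comp_apply, coassoc_apply]
    have hx' : Comod.coact (k := k) (A := A) x ∈ N := hx
    rw [hN, map_incl_eq] at hx'
    obtain ⟨y, hy⟩ := hx'
    rw [← hy]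
    exact gen y
  have h2 := mem_range_rTensor_ker (A := A) q _ key
  obtain ⟨w, hw⟩ := h2
  -- transport along the equality of submodules
  have hgen : ∀ (S T : Submodule k B) (hST : S = T) (w : S ⊗[k] A),
      S.subtype.rTensor A w ∈ LinearMap.range (T.subtype.rTensor A) := by
    intro S T hST w
    subst hST
    exact ⟨w, rfl⟩
  rw [← hw]
  exact hgen _ _ hker w

end Alg

section SpecLevel

variable {k : Type u} [CommRing k] {A : Type u} [CommRing A] [HopfAlgebra k A] [Module.Flat k A]
variable {B : Type u} [CommRing B] [Algebra k B] [HopfRep.Comod k A B] [GLin.IsCoactAlg k A B]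

theorem zeroLocus_core (b : Ideal B)
    (hinv : PrimeSpectrum.comap (rhoR k A B) ⁻¹' PrimeSpectrum.zeroLocus (b : Set B) =
      PrimeSpectrum.comap (inclR k A B) ⁻¹' PrimeSpectrum.zeroLocus (b : Set B)) :
    PrimeSpectrum.zeroLocus (core k A b : Set B) = PrimeSpectrum.zeroLocus (b : Set B) := by
  apply Set.Subset.antisymm
  · rw [PrimeSpectrum.preimage_comap_zeroLocus, PrimeSpectrum.preimage_comap_zeroLocus,
      ← PrimeSpectrum.zeroLocus_span, ← PrimeSpectrum.zeroLocus_span (inclR k A B '' _)] at hinv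
    have h1 : Ideal.map (rhoR k A B) b ≤ (Ideal.map (inclR k A B) b).radical := by
      rw [← PrimeSpectrum.zeroLocus_subset_zeroLocus_iff]
      exact hinv.ge
    intro 𝔭 h𝔭
    rw [PrimeSpectrum.mem_zeroLocus] at h𝔭 ⊢
    intro u hu
    obtain ⟨n, hn⟩ := h1 (Ideal.mem_map_of_mem _ hu)
    have : u ^ n ∈ core k A b := by
      change rhoR k A B (u ^ n) ∈ Ideal.map (inclR k A B) b
      rw [map_pow]
      exact hn
    exact 𝔭.isPrime.mem_of_pow_mem n (h𝔭 this)
  · exact PrimeSpectrum.zeroLocus_anti_mono_ideal (core_le b)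

theorem isSubcomod_bot :
    HopfRep.IsSubcomod (k := k) (A := A) ((⊥ : Ideal B).restrictScalars k) := by
  intro w hw
  have : w = 0 := hw
  rw [this, map_zero]
  exact Submodule.zero_mem _

variable (htame : ∃ α : A →ₗ[k] B, Hoch.IsComodHom A α ∧ α 1 = 1)

include htame in
theorem comap_surjective :
    Function.Surjective (PrimeSpectrum.comap (algebraMap (GLin.invariants k A B) B)) := by
  intro y
  have h := image_zeroLocus_aux k A B htame ⊥ isSubcomod_bot
  have hy : y ∈ PrimeSpectrum.zeroLocus (((⊥ : Ideal B).comap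
      (algebraMap (GLin.invariants k A B) B) : Ideal (GLin.invariants k A B)) :
        Set (GLin.invariants k A B)) := by
    rw [PrimeSpectrum.mem_zeroLocus]
    intro x hx
    have hx' : algebraMap (GLin.invariants k A B) B x = 0 := hx
    have : x = 0 := Subtype.ext hx'
    rw [this]
    exact Ideal.zero_mem _
  rw [← h] at hy
  obtain ⟨x, -, hx⟩ := hy
  exact ⟨x, hx⟩

include htame in
theorem isClosed_image (W : Set (PrimeSpectrum B)) (hW : IsClosed W)
    (hinv : PrimeSpectrum.comap (rhoR k A B) ⁻¹' W = PrimeSpectrum.comap (inclR k A B) ⁻¹' W) :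
    IsClosed (PrimeSpectrum.comap (algebraMap (GLin.invariants k A B) B) '' W) := by
  obtain ⟨b, rfl⟩ := (PrimeSpectrum.isClosed_iff_zeroLocus_ideal W).mp hW
  rw [← zeroLocus_core b hinv, image_zeroLocus_aux k A B htame _ (isSubcomod_core b)]
  exact PrimeSpectrum.isClosed_zeroLocus _

include htame in
theorem iInter_image_eq_empty {J : Type*} (W : J → Set (PrimeSpectrum B))
    (hW : ∀ j, IsClosed (W j) ∧
      PrimeSpectrum.comap (rhoR k A B) ⁻¹' W j = PrimeSpectrum.comap (inclR k A B) ⁻¹' W j)
    (hempty : (⋂ j, W j) = ∅) :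
    (⋂ j, PrimeSpectrum.comap (algebraMap (GLin.invariants k A B) B) '' W j) = ∅ := by
  choose b hb using fun j => (PrimeSpectrum.isClosed_iff_zeroLocus_ideal (W j)).mp (hW j).1
  have hWc : ∀ j, W j = PrimeSpectrum.zeroLocus (core k A (b j) : Set B) := by
    intro j
    have h := (hW j).2
    rw [hb j] at h
    rw [hb j, zeroLocus_core (b j) h]
  have himg : ∀ j, PrimeSpectrum.comap (algebraMap (GLin.invariants k A B) B) '' W j =
      PrimeSpectrum.zeroLocus (((core k A (b j)).comap
        (algebraMap (GLin.invariants k A B) B) : Ideal (GLin.invariants k A B)) :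
          Set (GLin.invariants k A B)) := by
    intro j
    rw [hWc j]
    exact image_zeroLocus_aux k A B htame _ (isSubcomod_core (b j))
  have htop : (⨆ j, core k A (b j)) = ⊤ := by
    rw [← PrimeSpectrum.zeroLocus_empty_iff_eq_top, PrimeSpectrum.zeroLocus_iSup, ← hempty]
    exact Set.iInter_congr (fun j => (hWc j).symm)
  obtain ⟨α, hα, hα1⟩ := htame
  have hR0 : reynoldsInv α hα (0 : B) = 0 := by
    have h := reynoldsInv_add α hα (0 : B) 0
    rw [add_zero] at h
    exact left_eq_add.mp h
  have key : ∀ x : B, x ∈ (⨆ j, core k A (b j)) → reynoldsInv α hα x ∈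
      (⨆ j, (core k A (b j)).comap (algebraMap (GLin.invariants k A B) B)) := by
    intro x hx
    refine Submodule.iSup_induction (fun j => core k A (b j))
      (motive := fun x => reynoldsInv α hα x ∈
        (⨆ j, (core k A (b j)).comap (algebraMap (GLin.invariants k A B) B))) hx ?_ ?_ ?_
    · intro j x hx
      refine Ideal.mem_iSup_of_mem j ?_
      change algebraMap (GLin.invariants k A B) B (reynoldsInv α hα x) ∈ core k A (b j)
      exact reynolds_mem_of_isSubcomod α (core k A (b j)) (isSubcomod_core (b j)) hx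
    · rw [hR0]
      exact Ideal.zero_mem _
    · intro x y hx hy
      rw [reynoldsInv_add]
      exact Ideal.add_mem _ hx hy
  have h1 : (1 : GLin.invariants k A B) ∈
      (⨆ j, (core k A (b j)).comap (algebraMap (GLin.invariants k A B) B)) := by
    have := key (algebraMap (GLin.invariants k A B) B 1) (by rw [htop]; trivial)
    rwa [reynoldsInv_algebraMap α hα hα1] at this
  have htop' : (⨆ j, (core k A (b j)).comap (algebraMap (GLin.invariants k A B) B)) = ⊤ :=
    (Ideal.eq_top_iff_one _).mpr h1
  rw [← PrimeSpectrum.zeroLocus_empty_iff_eq_top, PrimeSpectrum.zeroLocus_iSup] at htop'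
  rw [← htop']
  exact Set.iInter_congr himg

end SpecLevel

section SchemeLevel

open Groth.Agent.Lib.T2H7.CatQuotAff

/-- The criterion for categorical quotients of affine schemes, in terms of rings. -/
theorem existsUnique_desc_Spec {R S T : CommRingCat.{u}} (f : R ⟶ S) (g₁ g₂ : S ⟶ T)
    (h0 : f ≫ g₁ = f ≫ g₂)
    (heq : ∀ s : S, g₁.hom s = g₂.hom s → s ∈ Set.range f.hom)
    (hinj : Function.Injective f.hom)
    (hs : Function.Surjective (PrimeSpectrum.comap f.hom))
    (hclosed : ∀ W : Set (PrimeSpectrum S), IsClosed W →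
      PrimeSpectrum.comap g₁.hom ⁻¹' W = PrimeSpectrum.comap g₂.hom ⁻¹' W →
      IsClosed (PrimeSpectrum.comap f.hom '' W))
    (hinter : ∀ (J : Type u) (W : J → Set (PrimeSpectrum S)),
      (∀ j, IsClosed (W j) ∧
        PrimeSpectrum.comap g₁.hom ⁻¹' W j = PrimeSpectrum.comap g₂.hom ⁻¹' W j) →
      (⋂ j, W j) = ∅ → (⋂ j, PrimeSpectrum.comap f.hom '' W j) = ∅)
    {Z : Scheme.{u}} (ψ : Spec S ⟶ Z) (hψ : Spec.map g₁ ≫ ψ = Spec.map g₂ ≫ ψ) :
    ∃! χ : Spec R ⟶ Z, Spec.map f ≫ χ = ψ := by
  refine existsUnique_desc_of_affine (Spec.map f) (Spec.map g₁) (Spec.map g₂) ?_ ?_ ?_ hs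
    hclosed hinter ψ hψ
  · rw [← Spec.map_comp, ← Spec.map_comp, h0]
  · intro b hb
    have h1 := congrArg (Scheme.ΓSpecIso T).hom.hom hb
    have n1 := Scheme.ΓSpecIso_naturality g₁
    have n2 := Scheme.ΓSpecIso_naturality g₂
    have e1 : (Scheme.ΓSpecIso T).hom.hom ((Spec.map g₁).appTop.hom b) =
        g₁.hom ((Scheme.ΓSpecIso S).hom.hom b) := by
      exact congrArg (fun φ => φ.hom b) n1
    have e2 : (Scheme.ΓSpecIso T).hom.hom ((Spec.map g₂).appTop.hom b) =
        g₂.hom ((Scheme.ΓSpecIso S).hom.hom b) := by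
      exact congrArg (fun φ => φ.hom b) n2
    rw [e1, e2] at h1
    obtain ⟨r, hr⟩ := heq _ h1
    refine ⟨(Scheme.ΓSpecIso R).inv.hom r, ?_⟩
    have n3 := Scheme.ΓSpecIso_inv_naturality f
    have e3 : (Spec.map f).appTop.hom ((Scheme.ΓSpecIso R).inv.hom r) =
        (Scheme.ΓSpecIso S).inv.hom (f.hom r) := by
      exact (congrArg (fun φ => φ.hom r) n3).symm
    rw [e3, hr]
    exact congrArg (fun φ => φ.hom b) (Scheme.ΓSpecIso S).hom_inv_id
  · have n1 := Scheme.ΓSpecIso_naturality f
    have e : (Spec.map f).appTop = (Scheme.ΓSpecIso R).hom ≫ f ≫ (Scheme.ΓSpecIso S).inv := by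
      rw [← Category.assoc, ← n1, Category.assoc, Iso.hom_inv_id, Category.comp_id]
    rw [e]
    have i1 : Function.Injective (Scheme.ΓSpecIso R).hom.hom :=
      ((Scheme.ΓSpecIso R).commRingCatIsoToRingEquiv).injective
    have i2 : Function.Injective (Scheme.ΓSpecIso S).inv.hom :=
      ((Scheme.ΓSpecIso S).symm.commRingCatIsoToRingEquiv).injective
    exact i2.comp (hinj.comp i1)

end SchemeLevel

section Final

variable (k : Type u) [CommRing k] (A : Type u) [CommRing A] [HopfAlgebra k A] [Module.Flat k A]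
variable (B : Type u) [CommRing B] [Algebra k B] [HopfRep.Comod k A B] [GLin.IsCoactAlg k A B]

/-- **Categorical quotient** by a coaction admitting a total integral. -/
theorem existsUnique_desc_tame
    (htame : ∃ α : A →ₗ[k] B, Hoch.IsComodHom A α ∧ α 1 = 1)
    (Z : Scheme.{u}) (ψ : Spec (CommRingCat.of B) ⟶ Z)
    (hψ : Spec.map (CommRingCat.ofHom (GLin.coactAlgHom k A B).toRingHom) ≫ ψ =
      Spec.map (CommRingCat.ofHom
        (Algebra.TensorProduct.includeLeftRingHom : B →+* TensorProduct k B A)) ≫ ψ) :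
    ∃! χ : Spec (CommRingCat.of (GLin.invariants k A B)) ⟶ Z,
      Spec.map (CommRingCat.ofHom (algebraMap (GLin.invariants k A B) B)) ≫ χ = ψ := by
  refine existsUnique_desc_Spec (R := CommRingCat.of (GLin.invariants k A B))
    (S := CommRingCat.of B) (T := CommRingCat.of (B ⊗[k] A))
    (CommRingCat.ofHom (algebraMap (GLin.invariants k A B) B))
    (CommRingCat.ofHom (GLin.coactAlgHom k A B).toRingHom)
    (CommRingCat.ofHom (Algebra.TensorProduct.includeLeftRingHom : B →+* TensorProduct k B A))
    ?_ ?_ ?_ ?_ ?_ ?_ ψ hψ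
  · ext c
    exact c.2
  · intro s hs
    exact ⟨⟨s, hs⟩, rfl⟩
  · intro x y hxy
    exact Subtype.ext hxy
  · exact comap_surjective htame
  · intro W hW hinv
    exact isClosed_image htame W hW hinv
  · intro J W hW hempty
    exact iInter_image_eq_empty htame W hW hempty

end Final

end Groth.Agent.Lib.T2H7.CatQuotTame
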