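import Groth.Prelude.Def_KGr
import Groth.Agent.Lib.Helper4LambdaFil

/-!
# Structure of the extended Rees ring of the γ-filtration and of its graded quotient (helper7)

Coefficientwise description of `KGr.rees`, the degree-`n` class maps `F^n → GrZ`, the coefficient maps
`GrZ → K / F^{n+1}`, and the value of `KGr.grK` on elements of `F^n`.
-/

set_option autoImplicit false
universe v

noncomputable section

namespace Groth.Agent.Lib.T2H7.ChA

open LambdaRing LaurentPolynomial KGr Groth.Agent.Lib.Helper4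
open scoped TensorProduct

variable {K : Type v} [CommRing K] [LambdaOps K] (P : PosStructure K)

theorem mul_mem_toNat (a b : ℤ) (x y : K) (hx : x ∈ gammaFiltration P (-a).toNat)
    (hy : y ∈ gammaFiltration P (-b).toNat) : x * y ∈ gammaFiltration P (-(a + b)).toNat :=
  gammaFiltration_anti P (by omega) (mul_mem_gammaFiltration P _ _ x y hx hy)

/-- The Laurent polynomials whose coefficient at `t^a` lies in `F^{-a}`. -/
def good : Subring (LaurentPolynomial K) where
  carrier := {p | ∀ a : ℤ, p.coeff a ∈ gammaFiltration P (-a).toNat}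
  mul_mem' := by
    intro p q hp hq a
    rw [AddMonoidAlgebra.coeff_mul_apply_left]
    refine AddSubgroup.sum_mem _ (fun h _ => ?_)
    have := mul_mem_toNat P h (-h + a) _ _ (hp h) (hq (-h + a))
    simpa using this
  one_mem' := by
    intro a
    rw [AddMonoidAlgebra.one_def, AddMonoidAlgebra.coeff_single, Finsupp.single_apply]
    split_ifs with h
    · subst h; simp [gammaFiltration_zero]
    · exact zero_mem _
  add_mem' := by
    intro p q hp hq a
    rw [AddMonoidAlgebra.coeff_add, Finsupp.add_apply]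
    exact add_mem (hp a) (hq a)
  zero_mem' := by
    intro a
    rw [AddMonoidAlgebra.coeff_zero, Finsupp.zero_apply]
    exact zero_mem _
  neg_mem' := by
    intro p hp a
    have : (-p).coeff a = -(p.coeff a) := rfl
    rw [this]
    exact neg_mem (hp a)

theorem mem_good (p : LaurentPolynomial K) :
    p ∈ good P ↔ ∀ a : ℤ, p.coeff a ∈ gammaFiltration P (-a).toNat := Iff.rfl

theorem single_mem_rees (a : ℤ) (y : K) (hy : y ∈ gammaFiltration P (-a).toNat) :
    (C y * T a : LaurentPolynomial K) ∈ rees P := by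
  rcases le_or_gt a 0 with h | h
  · apply Subring.subset_closure
    refine Set.mem_insert_of_mem _ ⟨(-a).toNat, y, hy, ?_⟩
    congr 2
    omega
  · have h0 : (C y * T (-((0 : ℕ) : ℤ)) : LaurentPolynomial K) ∈ rees P := by
      apply Subring.subset_closure
      refine Set.mem_insert_of_mem _ ⟨0, y, ?_, rfl⟩
      rw [gammaFiltration_zero]; trivial
    have h1 : (T 1 : LaurentPolynomial K) ∈ rees P := Subring.subset_closure (Set.mem_insert _ _)
    have h2 := Subring.mul_mem _ h0 (Subring.pow_mem _ h1 a.toNat)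
    rw [T_pow, mul_assoc, ← T_add] at h2
    convert h2 using 3
    simp only [Nat.cast_zero, neg_zero, zero_add, mul_one]
    omega

theorem rees_eq_good : rees P = good P := by
  apply le_antisymm
  · apply Subring.closure_le.mpr
    rintro p (rfl | ⟨n, x, hx, rfl⟩)
    · intro a
      rw [T_apply]
      split_ifs with h
      · subst h; simp [gammaFiltration_zero]
      · exact zero_mem _
    · intro a
      rw [← single_eq_C_mul_T, AddMonoidAlgebra.coeff_single, Finsupp.single_apply]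
      split_ifs with h
      · subst h; simpa using hx
      · exact zero_mem _
  · intro p hp
    rw [← AddMonoidAlgebra.sum_coeff_single p]
    refine Subring.sum_mem _ (fun a _ => ?_)
    rw [single_eq_C_mul_T]
    exact single_mem_rees P a _ (hp a)

theorem mem_rees_iff (p : LaurentPolynomial K) :
    p ∈ rees P ↔ ∀ a : ℤ, p.coeff a ∈ gammaFiltration P (-a).toNat := by
  rw [rees_eq_good]; exact Iff.rfl

/-- `y ↦ y t^{-n}` from `F^n` to the Rees ring. -/
def monoHom (n : ℕ) : gammaFiltration P n →+ rees P where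
  toFun y := ⟨C (y : K) * T (-(n : ℤ)),
    Subring.subset_closure (Set.mem_insert_of_mem _ ⟨n, y, y.2, rfl⟩)⟩
  map_zero' := Subtype.ext (by simp)
  map_add' x y := Subtype.ext (by simp [add_mul])

@[simp] theorem monoHom_coe (n : ℕ) (y : gammaFiltration P n) :
    ((monoHom P n y : rees P) : LaurentPolynomial K) = C (y : K) * T (-(n : ℤ)) := rfl

/-- The class of `y t^{-n}` in `GrZ`, for `y ∈ F^n`. -/
def clsHom (n : ℕ) : gammaFiltration P n →+ GrZ P :=
  (Ideal.Quotient.mk (Ideal.span {tGen P})).toAddMonoidHom.comp (monoHom P n)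

theorem clsHom_apply (n : ℕ) (y : gammaFiltration P n) :
    clsHom P n y = Ideal.Quotient.mk (Ideal.span {tGen P}) (monoHom P n y) := rfl

theorem monoHom_mul (a b : ℕ) (x : gammaFiltration P a) (y : gammaFiltration P b) :
    monoHom P a x * monoHom P b y =
      monoHom P (a + b) ⟨x * y, mul_mem_gammaFiltration P a b x y x.2 y.2⟩ := by
  apply Subtype.ext
  rw [Subring.coe_mul, monoHom_coe, monoHom_coe, monoHom_coe]
  push_cast
  rw [neg_add, T_add, map_mul]
  ring

theorem clsHom_mul (a b : ℕ) (x : gammaFiltration P a) (y : gammaFiltration P b) :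
    clsHom P a x * clsHom P b y =
      clsHom P (a + b) ⟨x * y, mul_mem_gammaFiltration P a b x y x.2 y.2⟩ := by
  rw [clsHom_apply, clsHom_apply, clsHom_apply, ← map_mul, monoHom_mul]

theorem clsHom_zero_one :
    clsHom P 0 ⟨1, by rw [gammaFiltration_zero]; trivial⟩ = 1 := by
  rw [clsHom_apply]
  have : monoHom P 0 ⟨1, by rw [gammaFiltration_zero]; trivial⟩ = 1 := by
    apply Subtype.ext
    rw [monoHom_coe]
    simp
  rw [this, map_one]

theorem clsHom_eq_zero (n : ℕ) (y : gammaFiltration P n)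
    (hy : (y : K) ∈ gammaFiltration P (n + 1)) : clsHom P n y = 0 := by
  rw [clsHom_apply, Ideal.Quotient.eq_zero_iff_mem, Ideal.mem_span_singleton']
  refine ⟨monoHom P (n + 1) ⟨y, hy⟩, ?_⟩
  apply Subtype.ext
  rw [Subring.coe_mul, monoHom_coe, monoHom_coe]
  show C (y : K) * T (-((n + 1 : ℕ) : ℤ)) * T 1 = _
  rw [mul_assoc, ← T_add]
  congr 2
  push_cast
  ring

/-- The coefficient of `t^{-n}` modulo `F^{n+1}`, on the Rees ring. -/
def coeffHom (n : ℕ) : rees P →+ K ⧸ gammaFiltration P (n + 1) where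
  toFun p := QuotientAddGroup.mk ((p : LaurentPolynomial K).coeff (-(n : ℤ)))
  map_zero' := by
    show QuotientAddGroup.mk ((0 : LaurentPolynomial K).coeff (-(n : ℤ))) = _
    rw [AddMonoidAlgebra.coeff_zero, Finsupp.zero_apply]; rfl
  map_add' p q := by
    show QuotientAddGroup.mk (((p : LaurentPolynomial K) + q).coeff (-(n : ℤ))) = _
    rw [AddMonoidAlgebra.coeff_add, Finsupp.add_apply]; rfl

theorem coeffHom_apply (n : ℕ) (p : rees P) :
    coeffHom P n p = QuotientAddGroup.mk ((p : LaurentPolynomial K).coeff (-(n : ℤ))) := rfl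

theorem coeffHom_mul_tGen (n : ℕ) (q : rees P) : coeffHom P n (q * tGen P) = 0 := by
  rw [coeffHom_apply, QuotientAddGroup.eq_zero_iff, Subring.coe_mul]
  have h1 : ((tGen P : rees P) : LaurentPolynomial K) = AddMonoidAlgebra.single (1 : ℤ) (1 : K) := rfl
  rw [h1, AddMonoidAlgebra.coeff_mul_single_apply, mul_one]
  have := (mem_rees_iff P q.1).mp q.2 (-(n : ℤ) - 1)
  have e1 : (-(n : ℤ) + -1) = -(n : ℤ) - 1 := by ring
  have e2 : (-(-(n : ℤ) - 1)).toNat = n + 1 := by omega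
  rw [e1]
  rw [e2] at this
  exact this

/-- The coefficient of `t^{-n}` modulo `F^{n+1}`, on `GrZ`. -/
def piHom (n : ℕ) : GrZ P →+ K ⧸ gammaFiltration P (n + 1) :=
  QuotientAddGroup.lift (Ideal.span {tGen P}).toAddSubgroup (coeffHom P n) (by
    intro p hp
    obtain ⟨q, rfl⟩ := Ideal.mem_span_singleton'.mp hp
    exact coeffHom_mul_tGen P n q)

theorem piHom_mk (n : ℕ) (p : rees P) :
    piHom P n (Ideal.Quotient.mk (Ideal.span {tGen P}) p) = coeffHom P n p := rfl

theorem piHom_clsHom (n k : ℕ) (y : gammaFiltration P k) :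
    piHom P n (clsHom P k y) = if k = n then QuotientAddGroup.mk (y : K) else 0 := by
  rw [clsHom_apply, piHom_mk, coeffHom_apply, monoHom_coe, ← single_eq_C_mul_T,
    AddMonoidAlgebra.coeff_single, Finsupp.single_apply]
  by_cases h : k = n
  · subst h; simp
  · rw [if_neg h, if_neg (by omega)]; rfl

theorem tmul_natCast_mul (N : ℕ) (hN : 1 ≤ N) (z : GrZ P) :
    ((1 : ℚ) / (N : ℚ)) ⊗ₜ[ℤ] ((N : GrZ P) * z) = (1 : ℚ) ⊗ₜ[ℤ] z := by
  have h1 : (N : GrZ P) * z = (N : ℤ) • z := by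
    rw [zsmul_eq_mul, Int.cast_natCast]
  rw [h1, ← TensorProduct.smul_tmul]
  congr 1
  rw [zsmul_eq_mul, Int.cast_natCast]
  have : (N : ℚ) ≠ 0 := by positivity
  field_simp

theorem grK_aux (n : ℕ) (y : K) (hy : y ∈ gammaFiltration P n) (N : ℕ) (hN : 1 ≤ N)
    (hmem : C ((N : K) * y) * T (-(n : ℤ)) ∈ rees P) :
    ((1 : ℚ) / (N : ℚ)) ⊗ₜ[ℤ]
      Ideal.Quotient.mk (Ideal.span {tGen P}) ⟨C ((N : K) * y) * T (-(n : ℤ)), hmem⟩ =
    (1 : ℚ) ⊗ₜ[ℤ] clsHom P n ⟨y, hy⟩ := by
  have e : (⟨C ((N : K) * y) * T (-(n : ℤ)), hmem⟩ : rees P) =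
      (N : rees P) * monoHom P n ⟨y, hy⟩ := by
    apply Subtype.ext
    show C ((N : K) * y) * T (-(n : ℤ)) = ((N : rees P) : LaurentPolynomial K) * (C y * T (-(n : ℤ)))
    rw [Subring.coe_natCast, map_mul, map_natCast]
    ring
  rw [e, map_mul, map_natCast, tmul_natCast_mul P N hN]
  rfl

theorem grK_eq (n : ℕ) (y : K) (hy : y ∈ gammaFiltration P n) :
    grK P (n : ℤ) y = (1 : ℚ) ⊗ₜ[ℤ] clsHom P n ⟨y, hy⟩ := by
  have h : ∃ N : ℕ, 1 ≤ N ∧ C ((N : K) * y) * T (-(n : ℤ)) ∈ rees P :=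
    ⟨1, le_refl _, by simpa using (monoHom P n ⟨y, hy⟩).2⟩
  rw [grK, dif_pos h]
  exact grK_aux P n y hy h.choose h.choose_spec.1 h.choose_spec.2

/-- The class of `y ∈ F^n` in degree `n` of `ℚGr`. -/
def gclHom (n : ℕ) : gammaFiltration P n →+ Gr P :=
  (TensorProduct.mk ℤ ℚ (GrZ P) 1).toAddMonoidHom.comp (clsHom P n)

theorem gclHom_apply (n : ℕ) (y : gammaFiltration P n) :
    gclHom P n y = (1 : ℚ) ⊗ₜ[ℤ] clsHom P n y := rfl

theorem grK_eq_gclHom (n : ℕ) (y : K) (hy : y ∈ gammaFiltration P n) :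
    grK P (n : ℤ) y = gclHom P n ⟨y, hy⟩ := grK_eq P n y hy

theorem gclHom_mul (a b : ℕ) (x : gammaFiltration P a) (y : gammaFiltration P b) :
    gclHom P a x * gclHom P b y =
      gclHom P (a + b) ⟨x * y, mul_mem_gammaFiltration P a b x y x.2 y.2⟩ := by
  rw [gclHom_apply, gclHom_apply, gclHom_apply, Algebra.TensorProduct.tmul_mul_tmul, mul_one,
    clsHom_mul]

theorem gclHom_zero_one :
    gclHom P 0 ⟨1, by rw [gammaFiltration_zero]; trivial⟩ = 1 := by
  rw [gclHom_apply, clsHom_zero_one]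
  rfl

theorem gclHom_eq_zero (n : ℕ) (y : gammaFiltration P n)
    (hy : (y : K) ∈ gammaFiltration P (n + 1)) : gclHom P n y = 0 := by
  rw [gclHom_apply, clsHom_eq_zero P n y hy, TensorProduct.tmul_zero]

/-- The filtration of `ℚGr` by degree: the `ℚ`-span of the classes of degree at least `n`. -/
def GrFil (n : ℕ) : Submodule ℚ (Gr P) :=
  Submodule.span ℚ {g | ∃ (k : ℕ) (_ : n ≤ k) (y : gammaFiltration P k), g = gclHom P k y}

theorem gclHom_mem_GrFil {n k : ℕ} (h : n ≤ k) (y : gammaFiltration P k) :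
    gclHom P k y ∈ GrFil P n := Submodule.subset_span ⟨k, h, y, rfl⟩

theorem GrFil_anti {m n : ℕ} (h : m ≤ n) : GrFil P n ≤ GrFil P m := by
  apply Submodule.span_mono
  rintro g ⟨k, hk, y, rfl⟩
  exact ⟨k, h.trans hk, y, rfl⟩

theorem GrFil_mul {a b : ℕ} {x y : Gr P} (hx : x ∈ GrFil P a) (hy : y ∈ GrFil P b) :
    x * y ∈ GrFil P (a + b) := by
  have h : GrFil P a * GrFil P b ≤ GrFil P (a + b) := by
    rw [GrFil, GrFil, Submodule.span_mul_span]
    apply Submodule.span_le.mpr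
    rintro g ⟨g1, ⟨k, hk, y, rfl⟩, g2, ⟨l, hl, z, rfl⟩, rfl⟩
    show gclHom P k y * gclHom P l z ∈ _
    rw [gclHom_mul]
    exact gclHom_mem_GrFil P (by omega) _
  exact h (Submodule.mul_mem_mul hx hy)

theorem one_tmul_mem_GrFil_zero (p : LaurentPolynomial K) (hp : p ∈ rees P) :
    (1 : ℚ) ⊗ₜ[ℤ] Ideal.Quotient.mk (Ideal.span {tGen P}) (⟨p, hp⟩ : rees P) ∈ GrFil P 0 := by
  refine Subring.closure_induction (p := fun p hp => (1 : ℚ) ⊗ₜ[ℤ]
    Ideal.Quotient.mk (Ideal.span {tGen P}) (⟨p, hp⟩ : rees P) ∈ GrFil P 0) ?_ ?_ ?_ ?_ ?_ ?_ hp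
  · rintro p (rfl | ⟨n, x, hx, rfl⟩)
    · have : Ideal.Quotient.mk (Ideal.span {tGen P})
          (⟨T 1, Subring.subset_closure (Set.mem_insert _ _)⟩ : rees P) = 0 := by
        rw [Ideal.Quotient.eq_zero_iff_mem]
        exact Ideal.subset_span rfl
      rw [this, TensorProduct.tmul_zero]
      exact zero_mem _
    · exact gclHom_mem_GrFil P (Nat.zero_le n) ⟨x, hx⟩
  · have : (⟨0, Subring.zero_mem _⟩ : rees P) = 0 := rfl
    rw [this, map_zero, TensorProduct.tmul_zero]
    exact zero_mem _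
  · have : (⟨1, Subring.one_mem _⟩ : rees P) = 1 := rfl
    rw [this, map_one]
    have h1 := gclHom_mem_GrFil P (le_refl 0) ⟨1, by rw [gammaFiltration_zero]; trivial⟩
    rw [gclHom_zero_one] at h1
    exact h1
  · intro x y hx hy h1 h2
    have : (⟨x + y, Subring.add_mem _ hx hy⟩ : rees P) = ⟨x, hx⟩ + ⟨y, hy⟩ := rfl
    rw [this, map_add, TensorProduct.tmul_add]
    exact add_mem h1 h2
  · intro x hx h1
    have : (⟨-x, Subring.neg_mem _ hx⟩ : rees P) = -⟨x, hx⟩ := rfl
    rw [this, map_neg, TensorProduct.tmul_neg]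
    exact neg_mem h1
  · intro x y hx hy h1 h2
    have : (⟨x * y, Subring.mul_mem _ hx hy⟩ : rees P) = ⟨x, hx⟩ * ⟨y, hy⟩ := rfl
    rw [this, map_mul]
    have h3 := GrFil_mul P h1 h2
    rw [Algebra.TensorProduct.tmul_mul_tmul, mul_one] at h3
    exact h3

theorem GrFil_zero : GrFil P 0 = ⊤ := by
  rw [eq_top_iff]
  rintro g -
  induction g using TensorProduct.induction_on with
  | zero => exact zero_mem _
  | tmul q z =>
    obtain ⟨⟨p, hp⟩, rfl⟩ := Ideal.Quotient.mk_surjective z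
    have h1 := one_tmul_mem_GrFil_zero P p hp
    have h2 := (GrFil P 0).smul_mem q h1
    rw [TensorProduct.smul_tmul', smul_eq_mul, mul_one] at h2
    exact h2
  | add x y hx hy => exact add_mem hx hy

theorem GrFil_eq_bot (d : ℕ) (hd : gammaFiltration P (d + 1) = ⊥) {n : ℕ} (h : d < n) :
    GrFil P n = ⊥ := by
  rw [eq_bot_iff]
  apply Submodule.span_le.mpr
  rintro g ⟨k, hk, y, rfl⟩
  have hy : (y : K) ∈ gammaFiltration P (d + 1) := gammaFiltration_anti P (by omega) y.2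
  rw [hd, AddSubgroup.mem_bot] at hy
  have : y = 0 := Subtype.ext hy
  rw [this, map_zero]
  exact zero_mem _

/-- The coefficient map in degree `n`, after tensoring with `ℚ`. -/
def piQ (n : ℕ) : Gr P →ₗ[ℚ] ℚ ⊗[ℤ] (K ⧸ gammaFiltration P (n + 1)) :=
  LinearMap.baseChange ℚ (piHom P n).toIntLinearMap

theorem piQ_gclHom (n k : ℕ) (y : gammaFiltration P k) :
    piQ P n (gclHom P k y) =
      if k = n then (1 : ℚ) ⊗ₜ[ℤ] (QuotientAddGroup.mk (y : K) : K ⧸ gammaFiltration P (n + 1))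
      else 0 := by
  rw [gclHom_apply, piQ, LinearMap.baseChange_tmul, AddMonoidHom.coe_toIntLinearMap, piHom_clsHom]
  split_ifs
  · rfl
  · rw [TensorProduct.tmul_zero]

theorem piQ_eq_zero_of_mem (n : ℕ) (g : Gr P) (hg : g ∈ GrFil P (n + 1)) : piQ P n g = 0 := by
  have : GrFil P (n + 1) ≤ LinearMap.ker (piQ P n) := by
    apply Submodule.span_le.mpr
    rintro g ⟨k, hk, y, rfl⟩
    show piQ P n (gclHom P k y) = 0
    rw [piQ_gclHom, if_neg (by omega)]
  exact this hg

theorem exists_nsmul_eq_zero_of_tmul_eq_zero {A : Type*} [AddCommGroup A] (a : A)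
    (h : (1 : ℚ) ⊗ₜ[ℤ] a = 0) : ∃ M : ℕ, 1 ≤ M ∧ M • a = 0 := by
  have hloc : IsLocalizedModule (nonZeroDivisors ℤ) (TensorProduct.mk ℤ ℚ A 1) :=
    (isLocalizedModule_iff_isBaseChange (nonZeroDivisors ℤ) ℚ _).mpr
      (TensorProduct.isBaseChange ℤ A ℚ)
  have h' : TensorProduct.mk ℤ ℚ A 1 a = 0 := h
  obtain ⟨s, hs⟩ := (IsLocalizedModule.eq_zero_iff (nonZeroDivisors ℤ) _).mp h'
  have hs0 : (s : ℤ) ≠ 0 := nonZeroDivisors.ne_zero s.2
  refine ⟨(s : ℤ).natAbs, Int.natAbs_pos.mpr hs0, ?_⟩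
  have hs' : (s : ℤ) • a = 0 := hs
  rcases Int.natAbs_eq (s : ℤ) with h1 | h1
  · rw [h1, natCast_zsmul] at hs'; exact hs'
  · rw [h1, neg_smul, natCast_zsmul, neg_eq_zero] at hs'; exact hs'

theorem exists_nsmul_mem_of_tmul_eq_zero (n : ℕ) (y : K)
    (h : (1 : ℚ) ⊗ₜ[ℤ] (QuotientAddGroup.mk y : K ⧸ gammaFiltration P (n + 1)) = 0) :
    ∃ M : ℕ, 1 ≤ M ∧ M • y ∈ gammaFiltration P (n + 1) := by
  obtain ⟨M, hM, h0⟩ := exists_nsmul_eq_zero_of_tmul_eq_zero _ h
  refine ⟨M, hM, ?_⟩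
  rw [← QuotientAddGroup.eq_zero_iff]
  exact h0

end Groth.Agent.Lib.T2H7.ChA
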