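import Mathlib
import Groth.Prelude.Def_KGr

/-!
# Power sums of a power series with constant term one, and the Chern character polynomial (helper7)

`psS c = -t (d/dt) c(-t) / c(-t)`: additive in `c`, natural, equal to `Σ w^k t^k` for `c = 1 + w t`;
Newton's recursion; and the identity expressing `KGr.chPoly d` through the coefficients of `psS`.
-/

set_option autoImplicit false

noncomputable section

namespace Groth.Agent.Lib.T2H7.ChB

open PowerSeries Finset

section PS

variable {G : Type*} [CommRing G]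

/-- `c(-t)`. -/
def negS (c : G⟦X⟧) : G⟦X⟧ := rescale (-1 : G) c

theorem negS_mul (c c' : G⟦X⟧) : negS (c * c') = negS c * negS c' := map_mul _ _ _

theorem negS_one : negS (1 : G⟦X⟧) = 1 := map_one _

theorem coeff_negS (n : ℕ) (c : G⟦X⟧) : coeff n (negS c) = (-1) ^ n * coeff n c :=
  coeff_rescale _ _ _

theorem constantCoeff_negS (c : G⟦X⟧) : constantCoeff (negS c) = constantCoeff c := by
  rw [← coeff_zero_eq_constantCoeff_apply, coeff_negS]; simp

/-- The power sum series `-t (d/dt) c(-t) / c(-t)`. -/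
def psS (c : G⟦X⟧) : G⟦X⟧ := -(X * derivative G (negS c) * (negS c).invOfUnit 1)

theorem negS_mul_invOfUnit (c : G⟦X⟧) (hc : constantCoeff c = 1) :
    negS c * (negS c).invOfUnit 1 = 1 :=
  mul_invOfUnit _ _ (by rw [constantCoeff_negS, hc]; rfl)

theorem isUnit_negS (c : G⟦X⟧) (hc : constantCoeff c = 1) : IsUnit (negS c) :=
  IsUnit.of_mul_eq_one _ (negS_mul_invOfUnit c hc)

theorem psS_mul_negS (c : G⟦X⟧) (hc : constantCoeff c = 1) :
    psS c * negS c = -(X * derivative G (negS c)) := by
  rw [psS, neg_mul, mul_assoc, mul_comm ((negS c).invOfUnit 1), negS_mul_invOfUnit c hc, mul_one]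

theorem psS_eq_of_mul (c : G⟦X⟧) (hc : constantCoeff c = 1) (f : G⟦X⟧)
    (h : f * negS c = -(X * derivative G (negS c))) : psS c = f := by
  have := psS_mul_negS c hc
  rw [← h] at this
  exact (isUnit_negS c hc).mul_left_injective this

theorem psS_mul (c c' : G⟦X⟧) (hc : constantCoeff c = 1) (hc' : constantCoeff c' = 1) :
    psS (c * c') = psS c + psS c' := by
  apply psS_eq_of_mul _ (by rw [map_mul, hc, hc', mul_one])
  rw [negS_mul, Derivation.leibniz]
  have hx := psS_mul_negS c hc
  have hy := psS_mul_negS c' hc'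
  simp only [smul_eq_mul]
  linear_combination negS c' * hx + negS c * hy

theorem psS_one : psS (1 : G⟦X⟧) = 0 := by
  apply psS_eq_of_mul _ (map_one _)
  rw [negS_one, derivative_one, mul_zero, neg_zero, zero_mul]

theorem psS_prod {ι : Type*} (s : Finset ι) (c : ι → G⟦X⟧) (hc : ∀ i ∈ s, constantCoeff (c i) = 1) :
    psS (∏ i ∈ s, c i) = ∑ i ∈ s, psS (c i) := by
  classical
  induction s using Finset.induction_on with
  | empty => rw [prod_empty, sum_empty, psS_one]
  | insert a s ha ih =>
    rw [prod_insert ha, sum_insert ha, psS_mul _ _ (hc a (mem_insert_self a s)), ih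
      (fun i hi => hc i (mem_insert_of_mem hi))]
    rw [map_prod]
    exact prod_eq_one (fun i hi => hc i (mem_insert_of_mem hi))

theorem negS_map {G' : Type*} [CommRing G'] (f : G →+* G') (c : G⟦X⟧) :
    negS (map f c) = map f (negS c) := by
  ext n; simp [coeff_negS]

theorem derivative_map {G' : Type*} [CommRing G'] (f : G →+* G') (c : G⟦X⟧) :
    derivative G' (map f c) = map f (derivative G c) := by
  ext n; simp [coeff_derivative]

theorem psS_map {G' : Type*} [CommRing G'] (f : G →+* G') (c : G⟦X⟧) (hc : constantCoeff c = 1) :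
    map f (psS c) = psS (map f c) := by
  symm
  apply psS_eq_of_mul (map f c) (by
    rw [← coeff_zero_eq_constantCoeff_apply, coeff_map, coeff_zero_eq_constantCoeff_apply, hc,
      map_one])
  rw [negS_map, ← map_mul, psS_mul_negS c hc, derivative_map, map_neg, map_mul, map_X]

theorem negS_linear (w : G) : negS (1 + C w * X) = 1 - C w * X := by
  rw [negS, map_add, map_one, map_mul, rescale_X]
  have : rescale (-1 : G) (C w) = C w := by
    ext n; rw [coeff_rescale, coeff_C]; split_ifs with h <;> simp [h]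
  rw [this, map_neg, map_one]
  ring

theorem psS_linear (w : G) :
    psS (1 + C w * X) = mk (fun k => if k = 0 then 0 else w ^ k) := by
  apply psS_eq_of_mul (1 + C w * X) (by simp)
  have hD : derivative G (1 - C w * X) = -C w := by
    rw [map_sub, derivative_one, Derivation.leibniz, derivative_C, derivative_X]
    simp
  rw [negS_linear, hD]
  have h2 : -(X * -C w) = C w * X := by ring
  rw [h2]
  ext n
  rw [mul_sub, mul_one, map_sub, ← mul_assoc]
  cases n with
  | zero => simp
  | succ m =>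
    rw [coeff_succ_mul_X, coeff_mk, coeff_mul_C, coeff_mk, coeff_succ_mul_X, coeff_C]
    cases m with
    | zero => simp
    | succ j => simp [pow_succ]

/-- Newton's recursion. -/
theorem coeff_psS_succ (c : G⟦X⟧) (hc : constantCoeff c = 1) (m : ℕ) :
    coeff (m + 1) (psS c) = -((-1) ^ (m + 1) * coeff (m + 1) c * (m + 1)) -
      ∑ q ∈ antidiagonal m, coeff q.1 (psS c) * ((-1) ^ (q.2 + 1) * coeff (q.2 + 1) c) := by
  have h := congrArg (coeff (m + 1)) (psS_mul_negS c hc)
  rw [coeff_mul, Finset.Nat.sum_antidiagonal_succ', map_neg, coeff_succ_X_mul, coeff_derivative,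
    coeff_negS] at h
  simp only [coeff_negS] at h
  have h0 : coeff 0 c = 1 := by rw [coeff_zero_eq_constantCoeff_apply, hc]
  rw [h0] at h
  linear_combination h

theorem coeff_psS_zero (c : G⟦X⟧) (hc : constantCoeff c = 1) : coeff 0 (psS c) = 0 := by
  have h := congrArg (coeff 0) (psS_mul_negS c hc)
  rw [coeff_mul, map_neg, coeff_zero_X_mul] at h
  simp only [Finset.Nat.antidiagonal_zero, sum_singleton, coeff_negS] at h
  have h0 : coeff 0 c = 1 := by rw [coeff_zero_eq_constantCoeff_apply, hc]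
  rw [h0] at h
  simpa using h

theorem prod_one_add_C_mul_X {d : ℕ} (w : Fin d → G) :
    ∏ i, (1 + C (w i) * X) =
      mk (fun k => ∑ t ∈ (univ : Finset (Fin d)).powersetCard k, ∏ i ∈ t, w i) := by
  classical
  rw [Finset.prod_one_add]
  ext k
  rw [map_sum, coeff_mk]
  have h1 : ∀ t : Finset (Fin d), coeff k (∏ i ∈ t, (C (w i) * X)) =
      if t.card = k then ∏ i ∈ t, w i else 0 := by
    intro t
    rw [prod_mul_distrib, prod_const, ← map_prod, coeff_C_mul, coeff_X_pow]
    split_ifs with h1 h2 h2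
    · simp
    · exact absurd h1.symm h2
    · exact absurd h2.symm h1
    · simp
  rw [sum_congr rfl (fun t _ => h1 t), ← sum_filter]
  congr 1
  ext t
  simp [mem_powersetCard]

theorem coeff_psS_low (c : G⟦X⟧) (hc : constantCoeff c = 1) (n : ℕ)
    (hlow : ∀ j, 1 ≤ j → j < n → coeff j c = 0) :
    (∀ k, k < n → coeff k (psS c) = 0) ∧
      (1 ≤ n → coeff n (psS c) = -((-1) ^ n * coeff n c * n)) := by
  have h1 : ∀ k, k < n → coeff k (psS c) = 0 := by
    intro k
    induction k using Nat.strong_induction_on with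
    | _ k ih =>
      intro hk
      cases k with
      | zero => exact coeff_psS_zero c hc
      | succ m =>
        rw [coeff_psS_succ c hc m, hlow (m + 1) (by omega) hk]
        rw [sum_eq_zero, mul_zero, zero_mul, neg_zero, sub_zero]
        intro q hq
        have := mem_antidiagonal.mp hq
        rw [hlow (q.2 + 1) (by omega) (by omega), mul_zero, mul_zero]
  refine ⟨h1, fun hn => ?_⟩
  obtain ⟨m, rfl⟩ : ∃ m, n = m + 1 := ⟨n - 1, by omega⟩
  rw [coeff_psS_succ c hc m, sum_eq_zero, sub_zero]
  · push_cast; ring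
  · intro q hq
    have := mem_antidiagonal.mp hq
    rw [h1 q.1 (by omega), zero_mul]

end PS

section Fil

variable {G : Type*} [CommRing G]

theorem intCast_mul_mem (I : AddSubgroup G) (z : ℤ) (x : G) (hx : x ∈ I) : (z : G) * x ∈ I := by
  rw [← zsmul_eq_mul]
  exact I.zsmul_mem hx z

theorem coeff_psS_mem (I : ℕ → AddSubgroup G)
    (hmul : ∀ a b x y, x ∈ I a → y ∈ I b → x * y ∈ I (a + b)) (c : G⟦X⟧)
    (hc : constantCoeff c = 1) (hI : ∀ j, coeff j c ∈ I j) (k : ℕ) : coeff k (psS c) ∈ I k := by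
  induction k using Nat.strong_induction_on with
  | _ k ih =>
    cases k with
    | zero => rw [coeff_psS_zero c hc]; exact zero_mem _
    | succ m =>
      rw [coeff_psS_succ c hc m]
      refine sub_mem (neg_mem ?_) (sum_mem fun q hq => ?_)
      · have : (-1 : G) ^ (m + 1) * coeff (m + 1) c * (m + 1) =
            (((-1) ^ (m + 1) * (m + 1) : ℤ) : G) * coeff (m + 1) c := by push_cast; ring
        rw [this]
        exact intCast_mul_mem _ _ _ (hI (m + 1))
      · have hq' := mem_antidiagonal.mp hq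
        have : coeff q.1 (psS c) * ((-1) ^ (q.2 + 1) * coeff (q.2 + 1) c) =
            (((-1) ^ (q.2 + 1) : ℤ) : G) * (coeff q.1 (psS c) * coeff (q.2 + 1) c) := by
          push_cast; ring
        rw [this]
        apply intCast_mul_mem
        have h3 := hmul q.1 (q.2 + 1) _ _ (ih q.1 (by omega)) (hI (q.2 + 1))
        have e : q.1 + (q.2 + 1) = m + 1 := by omega
        rw [e] at h3
        exact h3

/-- Predicate version of `coeff_psS_mem` (no subobject structure involved). -/
theorem coeff_psS_pred (I : ℕ → G → Prop) (h0 : ∀ n, I n 0)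
    (hadd : ∀ n x y, I n x → I n y → I n (x + y)) (hneg : ∀ n x, I n x → I n (-x))
    (hmul : ∀ a b x y, I a x → I b y → I (a + b) (x * y)) (c : G⟦X⟧)
    (hc : constantCoeff c = 1) (hI : ∀ j, I j (coeff j c)) (k : ℕ) : I k (coeff k (psS c)) := by
  let J : ℕ → AddSubgroup G := fun n =>
    { carrier := {x | I n x}
      zero_mem' := h0 n
      add_mem' := fun {x y} hx hy => hadd n x y hx hy
      neg_mem' := fun {x} hx => hneg n x hx }
  exact coeff_psS_mem J (fun a b x y hx hy => hmul a b x y hx hy) c hc hI k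

end Fil

section ChPoly

/-- The universal coefficients `1, X_0, …, X_{d-1}, 0, 0, …`. -/
def cU (d : ℕ) (i : ℕ) : MvPolynomial (Fin d) ℚ :=
  if h0 : i = 0 then 1 else if h : i ≤ d then MvPolynomial.X ⟨i - 1, by omega⟩ else 0

/-- `X_i ↦ e_{i+1}(W)`. -/
def esymmHom (d : ℕ) : MvPolynomial (Fin d) ℚ →ₐ[ℚ] MvPolynomial (Fin d) ℚ :=
  MvPolynomial.aeval (fun i : Fin d => MvPolynomial.esymm (Fin d) ℚ (i + 1))

theorem esymmHom_injective (d : ℕ) : Function.Injective (esymmHom d) := by
  intro p q h
  apply MvPolynomial.esymmAlgHom_injective ℚ (le_of_eq (Fintype.card_fin d).symm)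
  apply Subtype.ext
  rw [MvPolynomial.esymmAlgHom_apply, MvPolynomial.esymmAlgHom_apply]
  exact h

theorem esymmHom_cU (d i : ℕ) : esymmHom d (cU d i) = MvPolynomial.esymm (Fin d) ℚ i := by
  unfold cU
  split_ifs with h0 h
  · subst h0; rw [map_one, MvPolynomial.esymm_zero]
  · rw [esymmHom, MvPolynomial.aeval_X]
    congr 1
    show i - 1 + 1 = i
    omega
  · rw [map_zero, MvPolynomial.esymm, Finset.powersetCard_eq_empty.mpr (by simp; omega),
      Finset.sum_empty]

theorem map_esymmHom_mk_cU (d : ℕ) :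
    PowerSeries.map (esymmHom d : MvPolynomial (Fin d) ℚ →+* MvPolynomial (Fin d) ℚ) (mk (cU d)) =
      ∏ i : Fin d, (1 + C (MvPolynomial.X i : MvPolynomial (Fin d) ℚ) * X) := by
  rw [prod_one_add_C_mul_X]
  ext k
  rw [coeff_map, coeff_mk, coeff_mk, RingHom.coe_coe, esymmHom_cU]
  rfl

theorem esymmHom_chPoly (d : ℕ) :
    esymmHom d (KGr.chPoly d) =
      ∑ i : Fin d, Polynomial.aeval (MvPolynomial.X i : MvPolynomial (Fin d) ℚ) (KGr.expTrunc d) := by
  have := AlgEquiv.apply_symm_apply (MvPolynomial.esymmAlgEquiv (Fin d) ℚ (Fintype.card_fin d))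
    ⟨_, KGr.isSymmetric_sum_aeval d (KGr.expTrunc d)⟩
  have h2 := congrArg Subtype.val this
  rw [MvPolynomial.esymmAlgEquiv_apply, MvPolynomial.esymmAlgHom_apply] at h2
  exact h2

theorem constantCoeff_mk_cU (d : ℕ) : constantCoeff (mk (cU d)) = 1 := by
  rw [← coeff_zero_eq_constantCoeff_apply, coeff_mk]
  simp [cU]

theorem esymmHom_coeff_psS (d k : ℕ) :
    esymmHom d (coeff (k + 1) (psS (mk (cU d)))) =
      ∑ i : Fin d, (MvPolynomial.X i : MvPolynomial (Fin d) ℚ) ^ (k + 1) := by
  have := psS_map (esymmHom d : MvPolynomial (Fin d) ℚ →+* MvPolynomial (Fin d) ℚ) (mk (cU d))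
    (constantCoeff_mk_cU d)
  rw [map_esymmHom_mk_cU, psS_prod _ _ (fun i _ => by simp)] at this
  have h3 := congrArg (coeff (k + 1)) this
  rw [coeff_map, RingHom.coe_coe] at h3
  rw [h3, map_sum]
  refine sum_congr rfl fun i _ => ?_
  rw [psS_linear, coeff_mk, if_neg (Nat.succ_ne_zero k)]

theorem chPoly_eq (d : ℕ) :
    KGr.chPoly d = MvPolynomial.C (d : ℚ) + ∑ k ∈ range d,
      MvPolynomial.C (1 / ((k + 1).factorial : ℚ)) * coeff (k + 1) (psS (mk (cU d))) := by
  apply esymmHom_injective d
  rw [esymmHom_chPoly, map_add, map_sum]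
  simp only [map_mul, esymmHom_coeff_psS, MvPolynomial.algHom_C]
  unfold KGr.expTrunc
  simp only [map_sum, map_mul, Polynomial.aeval_C, map_pow, Polynomial.aeval_X,
    MvPolynomial.algebraMap_eq]
  simp only [Finset.sum_range_succ', Finset.sum_add_distrib]
  rw [Finset.sum_comm]
  simp only [Finset.mul_sum, Nat.factorial_zero, Nat.cast_one, div_one, map_one, pow_zero, mul_one,
    Finset.sum_const, Finset.card_univ, Fintype.card_fin, nsmul_eq_mul]
  rw [add_comm]
  simp

theorem aeval_chPoly {G : Type*} [CommRing G] [Algebra ℚ G] (d : ℕ) (c : ℕ → G) (h0 : c 0 = 1)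
    (hd : ∀ i, d < i → c i = 0) :
    MvPolynomial.aeval (fun i : Fin d => c (i.1 + 1)) (KGr.chPoly d) =
      algebraMap ℚ G d + ∑ k ∈ range d,
        algebraMap ℚ G (1 / ((k + 1).factorial : ℚ)) * coeff (k + 1) (psS (mk c)) := by
  have hcU : ∀ i, MvPolynomial.aeval (fun i : Fin d => c (i.1 + 1)) (cU d i) = c i := by
    intro i
    unfold cU
    split_ifs with h0' h
    · subst h0'; rw [map_one, h0]
    · rw [MvPolynomial.aeval_X]
      congr 1
      show i - 1 + 1 = i
      omega
    · rw [map_zero, hd i (by omega)]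
  have hmap : PowerSeries.map ((MvPolynomial.aeval (fun i : Fin d => c (i.1 + 1)) :
      MvPolynomial (Fin d) ℚ →ₐ[ℚ] G) : MvPolynomial (Fin d) ℚ →+* G) (mk (cU d)) = mk c := by
    ext k
    rw [coeff_map, coeff_mk, coeff_mk]
    exact hcU k
  rw [chPoly_eq, map_add, map_sum, MvPolynomial.aeval_C]
  congr 1
  refine sum_congr rfl fun k _ => ?_
  rw [map_mul, MvPolynomial.aeval_C]
  congr 1
  have := psS_map ((MvPolynomial.aeval (fun i : Fin d => c (i.1 + 1)) :
      MvPolynomial (Fin d) ℚ →ₐ[ℚ] G) : MvPolynomial (Fin d) ℚ →+* G) (mk (cU d))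
    (constantCoeff_mk_cU d)
  rw [hmap] at this
  rw [← this, coeff_map]
  rfl

end ChPoly

end Groth.Agent.Lib.T2H7.ChB
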