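import Groth.Agent.Lib.T2H7ChA
import Groth.Agent.Lib.T2H7ChB
import Groth.Agent.Lib.Helper4LambdaAdams
import Groth.Agent.Lib.Helper4LambdaAdamsFil

/-!
# γ-operations on the γ-filtration modulo the next step (helper7)

For `x ∈ F^n`, `n ≥ 1`: `j λ^j x ≡ (-1)^{j+1} j^n x` and `k γ^k x ≡ A(k,n) x` modulo `F^{n+1}`, with
`A(n,n) = (-1)^{n+1} n!`.
-/

set_option autoImplicit false
universe v

noncomputable section

namespace Groth.Agent.Lib.T2H7.ChC

open LambdaRing PowerSeries Finset Groth.Agent.Lib.Helper4 Groth.Agent.Lib.T2H7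

variable {K : Type v} [CommRing K] [LambdaOps K] {P : PosStructure K}

theorem map_aug_lamSeries_pos (hK : HasSplitting K P) (e : K) (he : e ∈ P.pos) :
    PowerSeries.map P.aug (lamSeries e) = (1 + X) ^ (P.aug e).toNat := by
  ext i
  rw [coeff_map, coeff_lamSeries, aug_lam_eq_choose hK e he, coeff_one_add_X_pow]

theorem map_aug_lamSeries_eq_one (hK : HasSplitting K P) (x : K) (hx : P.aug x = 0) :
    PowerSeries.map P.aug (lamSeries x) = 1 := by
  obtain ⟨e, f, he, hf, rfl⟩ := P.exists_sub x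
  have hef : P.aug e = P.aug f := by rw [map_sub] at hx; exact sub_eq_zero.mp hx
  have h1 : lamSeries e = lamSeries (e - f) * lamSeries f := by
    rw [← lamSeries_add, sub_add_cancel]
  have h2 := congrArg (PowerSeries.map P.aug) h1
  rw [map_mul, map_aug_lamSeries_pos hK e he, map_aug_lamSeries_pos hK f hf, hef] at h2
  have hu : IsUnit ((1 + X : ℤ⟦X⟧) ^ (P.aug f).toNat) := by
    rw [PowerSeries.isUnit_iff_constantCoeff]; simp
  exact (hu.mul_right_cancel (by rw [one_mul]; exact h2)).symm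

theorem aug_lam_eq_zero (hK : HasSplitting K P) (x : K) (hx : P.aug x = 0) (j : ℕ) (hj : 1 ≤ j) :
    P.aug (LambdaOps.lam j x) = 0 := by
  have := congrArg (coeff j) (map_aug_lamSeries_eq_one hK x hx)
  rw [coeff_map, coeff_lamSeries, coeff_one, if_neg (by omega)] at this
  exact this

theorem aug_gamma_eq_zero (hK : HasSplitting K P) (x : K) (hx : P.aug x = 0) (r : ℕ) (hr : 1 ≤ r) :
    P.aug (gamma r x) = 0 := by
  rw [gamma, if_neg (by omega), map_sum]
  refine sum_eq_zero fun j _ => ?_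
  rw [map_mul]
  by_cases hj : j = 0
  · rw [if_pos hj, map_zero, mul_zero]
  · rw [if_neg hj, aug_lam_eq_zero hK x hx j (by omega), mul_zero]

theorem aug_eq_zero_of_mem (hK : HasSplitting K P) (n : ℕ) (hn : 1 ≤ n) (x : K)
    (hx : x ∈ gammaFiltration P n) : P.aug x = 0 := by
  rw [gammaFiltration_of_ne_zero P (by omega)] at hx
  induction hx using AddSubgroup.closure_induction with
  | mem y hy =>
    obtain ⟨l, hl, hln, rfl⟩ := hy
    rw [map_list_prod, List.map_map]
    apply List.prod_eq_zero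
    have : ∃ p ∈ l, 1 ≤ p.1 := by
      by_contra hcon
      push Not at hcon
      have : (l.map Prod.fst).sum = 0 := by
        apply List.sum_eq_zero
        intro a ha
        obtain ⟨p, hp, rfl⟩ := List.mem_map.mp ha
        have := hcon p hp
        omega
      omega
    obtain ⟨p, hp, hp1⟩ := this
    exact List.mem_map.mpr ⟨p, hp, aug_gamma_eq_zero hK p.2 (hl p hp) p.1 hp1⟩
  | zero => exact map_zero _
  | add x y _ _ hx hy => rw [map_add, hx, hy, add_zero]
  | neg x _ hx => rw [map_neg, hx, neg_zero]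

theorem lam_mem_one (hK : HasSplitting K P) (x : K) (hx : P.aug x = 0) (j : ℕ) (hj : 1 ≤ j) :
    LambdaOps.lam j x ∈ gammaFiltration P 1 :=
  mem_gammaFiltration_one P _ (aug_lam_eq_zero hK x hx j hj)

theorem adamsSeries_eq (x : K) :
    adamsSeries P x = C (P.aug x : K) + ChB.psS (lamSeries x) := by
  rw [adamsSeries, ChB.psS, ChB.negS, sub_eq_add_neg]

theorem adams_eq_coeff_psS (j : ℕ) (hj : 1 ≤ j) (x : K) :
    adams P j x = coeff j (ChB.psS (lamSeries x)) := by
  rw [adams, adamsSeries_eq, map_add, coeff_C, if_neg (by omega), zero_add]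

theorem adams_mem (hK : HasSplitting K P) (n : ℕ) (x : K) (hx : x ∈ gammaFiltration P n) (j : ℕ) :
    adams P j x ∈ gammaFiltration P n := by
  have h1 := gammaFiltration_anti P (Nat.le_succ n) (adams_sub_pow_mul_mem hK j n x hx)
  have h2 := mul_mem_gammaFiltration_left P n ((j : K) ^ n) x hx
  have := add_mem h1 h2
  rwa [sub_add_cancel] at this

theorem natCast_mul_lam_sub_mem (hK : HasSplitting K P) (n : ℕ) (hn : 1 ≤ n) (x : K)
    (hx : x ∈ gammaFiltration P n) (m : ℕ) :
    ((m + 1 : ℕ) : K) * LambdaOps.lam (m + 1) x - (-1) ^ m * ((m + 1 : ℕ) : K) ^ n * x ∈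
      gammaFiltration P (n + 1) := by
  have hx0 : P.aug x = 0 := aug_eq_zero_of_mem hK n hn x hx
  have hrec := ChB.coeff_psS_succ (lamSeries x) (constantCoeff_lamSeries x) m
  rw [← adams_eq_coeff_psS (m + 1) (by omega) x, coeff_lamSeries] at hrec
  set S := ∑ q ∈ antidiagonal m, coeff q.1 (ChB.psS (lamSeries x)) *
    ((-1) ^ (q.2 + 1) * coeff (q.2 + 1) (lamSeries x)) with hS
  have hSmem : S ∈ gammaFiltration P (n + 1) := by
    refine sum_mem fun q _ => ?_
    by_cases hq : q.1 = 0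
    · rw [hq, ChB.coeff_psS_zero _ (constantCoeff_lamSeries x), zero_mul]
      exact zero_mem _
    · rw [← adams_eq_coeff_psS q.1 (by omega) x, coeff_lamSeries]
      exact mul_mem_gammaFiltration P n 1 _ _ (adams_mem hK n x hx q.1)
        (mul_mem_gammaFiltration_left P 1 _ _ (lam_mem_one hK x hx0 (q.2 + 1) (by omega)))
  have hD := adams_sub_pow_mul_mem hK (m + 1) n x hx
  set D := adams P (m + 1) x - ((m + 1 : ℕ) : K) ^ n * x with hDdef
  have key : ((m + 1 : ℕ) : K) * LambdaOps.lam (m + 1) x - (-1) ^ m * ((m + 1 : ℕ) : K) ^ n * x =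
      (-1) ^ m * (D + S) := by
    have e1 : ((-1 : K) ^ m) * (-1) ^ m = 1 := by rw [← mul_pow]; simp
    have e2 : adams P (m + 1) x = D + ((m + 1 : ℕ) : K) ^ n * x := by rw [hDdef]; ring
    rw [e2] at hrec
    push_cast at hrec ⊢
    linear_combination (-(-1 : K) ^ m) * hrec -
      ((m + 1 : K) * LambdaOps.lam (m + 1) x) * e1
  rw [key]
  exact mul_mem_gammaFiltration_left P _ _ _ (add_mem hD hSmem)

/-- The integer `Σ_j C(k,j) (-1)^{j+1} j^n`. -/
def Acoef (k n : ℕ) : ℤ := ∑ j ∈ range (k + 1), (k.choose j : ℤ) * (-1) ^ (j + 1) * (j : ℤ) ^ n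

theorem natCast_mul_gamma_sub_mem (hK : HasSplitting K P) (n : ℕ) (hn : 1 ≤ n) (x : K)
    (hx : x ∈ gammaFiltration P n) (k : ℕ) (hk : 1 ≤ k) :
    (k : K) * gamma k x - (Acoef k n : K) * x ∈ gammaFiltration P (n + 1) := by
  rw [gamma, if_neg (by omega), Acoef, Int.cast_sum, mul_sum, sum_mul, ← sum_sub_distrib]
  refine sum_mem fun j _ => ?_
  rcases j with _ | i
  · rw [if_pos rfl]
    simp [zero_pow (by omega : n ≠ 0)]
  · rw [if_neg (Nat.succ_ne_zero i)]
    have hch : (k : K) * ((k - 1).choose i : K) = (k.choose (i + 1) : K) * ((i + 1 : ℕ) : K) := by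
      obtain ⟨k', rfl⟩ : ∃ k', k = k' + 1 := ⟨k - 1, by omega⟩
      have := Nat.add_one_mul_choose_eq k' i
      simp only [Nat.add_sub_cancel]
      exact_mod_cast congrArg (Nat.cast : ℕ → K) this
    have e : (k : K) * (((k - 1).choose (i + 1 - 1) : K) * LambdaOps.lam (i + 1) x) -
        (((k.choose (i + 1) : ℤ) * (-1) ^ (i + 1 + 1) * ((i + 1 : ℕ) : ℤ) ^ n : ℤ) : K) * x =
        (k.choose (i + 1) : K) * (((i + 1 : ℕ) : K) * LambdaOps.lam (i + 1) x -
          (-1) ^ i * ((i + 1 : ℕ) : K) ^ n * x) := by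
      simp only [Nat.add_sub_cancel]
      push_cast
      push_cast at hch
      linear_combination (LambdaOps.lam (i + 1) x) * hch
    rw [e]
    exact mul_mem_gammaFiltration_left P _ _ _ (natCast_mul_lam_sub_mem hK n hn x hx i)

theorem Acoef_self (n : ℕ) : Acoef n n = (-1) ^ (n + 1) * (n.factorial : ℤ) := by
  have h1 := fwdDiff_iter_eq_sum_shift (1 : ℤ) (fun r : ℤ => r ^ n) n 0
  have h2 := congrFun (fwdDiff_iter_eq_factorial (R := ℤ) (n := n)) 0
  rw [h2] at h1
  simp only [zero_add, smul_eq_mul, mul_one, Pi.natCast_def] at h1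
  rw [Acoef]
  have h3 : ((n.factorial : ℕ) : ℤ) = ∑ k ∈ range (n + 1), (-1 : ℤ) ^ (n - k) * (n.choose k : ℤ) *
      (k : ℤ) ^ n := by
    rw [← Nat.cast_id (n.factorial)] at h1
    convert h1 using 1
    · simp
    · refine sum_congr rfl fun k _ => ?_
      simp
  rw [h3, mul_sum]
  refine sum_congr rfl fun j hj => ?_
  have hj' : j ≤ n := by have := mem_range.mp hj; omega
  have e : (-1 : ℤ) ^ (n + 1) * (-1) ^ (n - j) = (-1) ^ (j + 1) := by
    rw [← pow_add]
    have : n + 1 + (n - j) = (j + 1) + 2 * (n - j) := by omega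
    rw [this, pow_add, pow_mul]
    simp
  rw [← e]
  ring

end Groth.Agent.Lib.T2H7.ChC
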