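import Groth.Agent.Lib.T2H7ChC

/-!
# Chern classes and the Chern character in the graded ring of the γ-filtration (helper7)

Whitney formula, additivity of `KGr.chK`, and its leading term on `F^n`.
-/

set_option autoImplicit false
universe v

noncomputable section

namespace Groth.Agent.Lib.T2H7.ChD

open LambdaRing PowerSeries Finset KGr Groth.Agent.Lib.Helper4 Groth.Agent.Lib.T2H7
open Groth.Agent.Lib.T2H7.ChA Groth.Agent.Lib.T2H7.ChB Groth.Agent.Lib.T2H7.ChC
open scoped TensorProduct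

variable {K : Type v} [CommRing K] [LambdaOps K] (P : PosStructure K)

theorem grK_add (n : ℕ) (x y : K) (hx : x ∈ gammaFiltration P n) (hy : y ∈ gammaFiltration P n) :
    grK P (n : ℤ) (x + y) = grK P (n : ℤ) x + grK P (n : ℤ) y := by
  rw [grK_eq_gclHom P n x hx, grK_eq_gclHom P n y hy, grK_eq_gclHom P n (x + y) (add_mem hx hy),
    ← map_add]
  rfl

theorem grK_zero (n : ℕ) : grK P (n : ℤ) 0 = 0 := by
  rw [grK_eq_gclHom P n 0 (zero_mem _)]
  exact map_zero (gclHom P n)

theorem grK_sum {ι : Type*} (s : Finset ι) (n : ℕ) (f : ι → K)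
    (hf : ∀ i ∈ s, f i ∈ gammaFiltration P n) :
    grK P (n : ℤ) (∑ i ∈ s, f i) = ∑ i ∈ s, grK P (n : ℤ) (f i) := by
  classical
  induction s using Finset.induction_on with
  | empty => rw [sum_empty, sum_empty, grK_zero]
  | insert a s ha ih =>
    rw [sum_insert ha, sum_insert ha, grK_add P n _ _ (hf a (mem_insert_self a s))
      (sum_mem fun i hi => hf i (mem_insert_of_mem hi)), ih (fun i hi => hf i (mem_insert_of_mem hi))]

theorem grK_mul (a b k : ℕ) (h : a + b = k) (x y : K) (hx : x ∈ gammaFiltration P a)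
    (hy : y ∈ gammaFiltration P b) :
    grK P (k : ℤ) (x * y) = grK P (a : ℤ) x * grK P (b : ℤ) y := by
  subst h
  rw [grK_eq_gclHom P a x hx, grK_eq_gclHom P b y hy,
    grK_eq_gclHom P (a + b) (x * y) (mul_mem_gammaFiltration P a b x y hx hy), gclHom_mul]

theorem grK_zsmul (n : ℕ) (z : ℤ) (x : K) (hx : x ∈ gammaFiltration P n) :
    grK P (n : ℤ) (z • x) = z • grK P (n : ℤ) x := by
  rw [grK_eq_gclHom P n x hx, grK_eq_gclHom P n (z • x) (zsmul_mem hx z), ← map_zsmul]
  rfl

theorem grK_eq_zero_of_mem (n : ℕ) (x : K) (hx : x ∈ gammaFiltration P (n + 1)) :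
    grK P (n : ℤ) x = 0 := by
  rw [grK_eq_gclHom P n x (gammaFiltration_anti P (Nat.le_succ n) hx)]
  exact gclHom_eq_zero P n _ hx

theorem chern_eq (i : ℕ) (x : K) :
    chern P i x = gclHom P i ⟨gamma i (x - (P.aug x : K)),
      gamma_mem_gammaFiltration P i _ (aug_sub_aug P x)⟩ :=
  grK_eq_gclHom P i _ _

theorem chern_mem_GrFil (i : ℕ) (x : K) : chern P i x ∈ GrFil P i := by
  rw [chern_eq]
  exact gclHom_mem_GrFil P (le_refl i) _

theorem chern_zero (x : K) : chern P 0 x = 1 := by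
  rw [chern_eq, ← gclHom_zero_one P]
  congr 1

theorem chern_eq_zero_of_lt (d : ℕ) (hd : gammaFiltration P (d + 1) = ⊥) (i : ℕ) (hi : d < i)
    (x : K) : chern P i x = 0 := by
  have h := chern_mem_GrFil P i x
  rw [GrFil_eq_bot P d hd hi] at h
  exact h

theorem chern_add (k : ℕ) (x y : K) :
    chern P k (x + y) = ∑ q ∈ antidiagonal k, chern P q.1 x * chern P q.2 y := by
  have e : x + y - ((P.aug (x + y) : ℤ) : K) = (x - (P.aug x : K)) + (y - (P.aug y : K)) := by
    rw [map_add]; push_cast; ring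
  rw [chern, e, gamma_add, Finset.Nat.sum_antidiagonal_eq_sum_range_succ_mk]
  rw [grK_sum]
  · refine sum_congr rfl fun i hi => ?_
    have hi' : i ≤ k := by have := mem_range.mp hi; omega
    exact grK_mul P i (k - i) k (by omega) _ _
      (gamma_mem_gammaFiltration P i _ (aug_sub_aug P x))
      (gamma_mem_gammaFiltration P (k - i) _ (aug_sub_aug P y))
  · intro i hi
    have hi' : i ≤ k := by have := mem_range.mp hi; omega
    have := mul_mem_gammaFiltration P i (k - i) _ _
      (gamma_mem_gammaFiltration P i _ (aug_sub_aug P x))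
      (gamma_mem_gammaFiltration P (k - i) _ (aug_sub_aug P y))
    rwa [show i + (k - i) = k by omega] at this

/-- A sealed copy of `ℚGr`, so that all ring operations come from one instance. -/
def GrS (P : PosStructure K) : Type v := Gr P

instance instCommRingGrS : CommRing (GrS P) := inferInstanceAs (CommRing (Gr P))

instance instAlgebraGrS : Algebra ℚ (GrS P) := inferInstanceAs (Algebra ℚ (Gr P))

/-- The identity map from the sealed copy. -/
def ofS (g : GrS P) : Gr P := g

/-- The identity map to the sealed copy. -/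
def toS (g : Gr P) : GrS P := g

@[simp] theorem ofS_toS (g : Gr P) : ofS P (toS P g) = g := rfl
@[simp] theorem toS_ofS (g : GrS P) : toS P (ofS P g) = g := rfl
theorem ofS_zero : ofS P 0 = 0 := rfl
theorem ofS_one : ofS P 1 = 1 := rfl
theorem ofS_add (x y : GrS P) : ofS P (x + y) = ofS P x + ofS P y := rfl
theorem ofS_neg (x : GrS P) : ofS P (-x) = -ofS P x := rfl
theorem ofS_sub (x y : GrS P) : ofS P (x - y) = ofS P x - ofS P y := rfl
theorem ofS_mul (x y : GrS P) : ofS P (x * y) = ofS P x * ofS P y := rfl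
theorem ofS_algebraMap (q : ℚ) : ofS P (algebraMap ℚ (GrS P) q) = algebraMap ℚ (Gr P) q := rfl
theorem toS_zero : toS P 0 = 0 := rfl
theorem toS_one : toS P 1 = 1 := rfl
theorem toS_add (x y : Gr P) : toS P (x + y) = toS P x + toS P y := rfl
theorem toS_mul (x y : Gr P) : toS P (x * y) = toS P x * toS P y := rfl
theorem toS_sum {ι : Type*} (s : Finset ι) (f : ι → Gr P) :
    toS P (∑ i ∈ s, f i) = ∑ i ∈ s, toS P (f i) := by
  classical
  induction s using Finset.induction_on with
  | empty => rw [sum_empty, sum_empty, toS_zero]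
  | insert a s ha ih => rw [sum_insert ha, sum_insert ha, toS_add, ih]
theorem ofS_injective : Function.Injective (ofS P) := fun _ _ h => h

/-- `gclHom` with values in the sealed copy. -/
def gclS (n : ℕ) : gammaFiltration P n →+ GrS P where
  toFun y := toS P (gclHom P n y)
  map_zero' := by rw [map_zero, toS_zero]
  map_add' x y := by rw [map_add, toS_add]

theorem ofS_gclS (n : ℕ) (y : gammaFiltration P n) : ofS P (gclS P n y) = gclHom P n y := rfl

theorem gclS_mul (a b : ℕ) (x : gammaFiltration P a) (y : gammaFiltration P b) :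
    gclS P a x * gclS P b y =
      gclS P (a + b) ⟨x * y, mul_mem_gammaFiltration P a b x y x.2 y.2⟩ := by
  apply ofS_injective
  rw [ofS_mul, ofS_gclS, ofS_gclS, ofS_gclS, gclHom_mul]

/-- The degree filtration on the sealed copy. -/
def FilS (n : ℕ) : AddSubgroup (GrS P) where
  carrier := {g | ofS P g ∈ GrFil P n}
  zero_mem' := by
    rw [Set.mem_ofPred_eq, ofS_zero]; exact Submodule.zero_mem _
  add_mem' := fun {x y} hx hy => by
    rw [Set.mem_ofPred_eq] at hx hy ⊢
    rw [ofS_add]; exact Submodule.add_mem _ hx hy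
  neg_mem' := fun {x} hx => by
    rw [Set.mem_ofPred_eq] at hx ⊢
    rw [ofS_neg]; exact Submodule.neg_mem _ hx

theorem mem_FilS (n : ℕ) (g : GrS P) : g ∈ FilS P n ↔ ofS P g ∈ GrFil P n := Iff.rfl

theorem FilS_mul (a b : ℕ) (x y : GrS P) (hx : x ∈ FilS P a) (hy : y ∈ FilS P b) :
    x * y ∈ FilS P (a + b) := by
  rw [mem_FilS] at hx hy ⊢
  rw [ofS_mul]
  exact GrFil_mul P hx hy

theorem FilS_anti {m n : ℕ} (h : m ≤ n) : FilS P n ≤ FilS P m := by
  intro g hg
  rw [mem_FilS] at hg ⊢
  exact GrFil_anti P h hg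

theorem gclS_mem_FilS {n k : ℕ} (h : n ≤ k) (y : gammaFiltration P k) : gclS P k y ∈ FilS P n := by
  rw [mem_FilS, ofS_gclS]
  exact gclHom_mem_GrFil P h y

theorem algebraMap_mul_mem_FilS (n : ℕ) (q : ℚ) (g : GrS P) (hg : g ∈ FilS P n) :
    algebraMap ℚ (GrS P) q * g ∈ FilS P n := by
  rw [mem_FilS] at hg ⊢
  rw [ofS_mul, ofS_algebraMap, ← Algebra.smul_def]
  exact (GrFil P n).smul_mem q hg

theorem eq_zero_of_mem_FilS (d : ℕ) (hd : gammaFiltration P (d + 1) = ⊥) {n : ℕ} (h : d < n)
    (g : GrS P) (hg : g ∈ FilS P n) : g = 0 := by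
  rw [mem_FilS, GrFil_eq_bot P d hd h] at hg
  apply ofS_injective
  rw [ofS_zero]
  exact hg

/-- Chern classes in the sealed copy. -/
def chernS (i : ℕ) (x : K) : GrS P := toS P (chern P i x)

theorem ofS_chernS (i : ℕ) (x : K) : ofS P (chernS P i x) = chern P i x := rfl

theorem chernS_mem (i : ℕ) (x : K) : chernS P i x ∈ FilS P i := by
  rw [mem_FilS, ofS_chernS]
  exact chern_mem_GrFil P i x

theorem chernS_zero (x : K) : chernS P 0 x = 1 := by
  rw [chernS, chern_zero, toS_one]

theorem chernS_eq_zero_of_lt (d : ℕ) (hd : gammaFiltration P (d + 1) = ⊥) (i : ℕ) (hi : d < i)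
    (x : K) : chernS P i x = 0 := by
  rw [chernS, chern_eq_zero_of_lt P d hd i hi x, toS_zero]

theorem chernS_add (k : ℕ) (x y : K) :
    chernS P k (x + y) = ∑ q ∈ antidiagonal k, chernS P q.1 x * chernS P q.2 y := by
  rw [chernS, chern_add, toS_sum]
  refine sum_congr rfl fun q _ => ?_
  rw [toS_mul]
  rfl

/-- The total Chern class, as a power series. -/
def cserS (x : K) : (GrS P)⟦X⟧ := PowerSeries.mk (fun i => chernS P i x)

theorem constantCoeff_cserS (x : K) : constantCoeff (cserS P x) = 1 := by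
  rw [← coeff_zero_eq_constantCoeff_apply, cserS, coeff_mk, chernS_zero]

theorem cserS_add (x y : K) : cserS P (x + y) = cserS P x * cserS P y := by
  ext k
  rw [coeff_mul, cserS, cserS, cserS, coeff_mk, chernS_add]
  refine sum_congr rfl fun q _ => ?_
  rw [coeff_mk, coeff_mk]

/-- The Chern character in the sealed copy, through power sums. -/
def chS (d : ℕ) (x : K) : GrS P :=
  algebraMap ℚ (GrS P) (P.aug x : ℚ) + ∑ k ∈ range d,
    algebraMap ℚ (GrS P) (1 / ((k + 1).factorial : ℚ)) * coeff (k + 1) (psS (cserS P x))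

theorem chK_eq_chS (d : ℕ) (hd : gammaFiltration P (d + 1) = ⊥) (x : K) :
    toS P (chK P d x) = chS P d x := by
  have h := aeval_chPoly (G := GrS P) d (fun i => chernS P i x) (chernS_zero P x)
    (fun i hi => chernS_eq_zero_of_lt P d hd i hi x)
  have h' : toS P (chK P d x) = algebraMap ℚ (GrS P) ((P.aug x : ℚ) - d) +
      MvPolynomial.aeval (fun i : Fin d => chernS P (i.1 + 1) x) (chPoly d) := rfl
  rw [h', h, chS, cserS, ← add_assoc]
  congr 1
  rw [← map_add]
  congr 1
  ring

theorem chS_add (d : ℕ) (x y : K) : chS P d (x + y) = chS P d x + chS P d y := by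
  rw [chS, cserS_add, psS_mul _ _ (constantCoeff_cserS P x) (constantCoeff_cserS P y)]
  simp only [map_add, mul_add, sum_add_distrib, Int.cast_add, chS]
  abel

theorem coeff_psS_cserS_mem (x : K) (k : ℕ) : coeff k (psS (cserS P x)) ∈ FilS P k := by
  apply coeff_psS_mem (FilS P) (FilS_mul P) _ (constantCoeff_cserS P x)
  intro j
  rw [cserS, coeff_mk]
  exact chernS_mem P j x

variable {P}

theorem zsmul_chern_of_mem (hK : HasSplitting K P) (n : ℕ) (hn : 1 ≤ n) (x : K)
    (hx : x ∈ gammaFiltration P n) (k : ℕ) (hk : 1 ≤ k) (hkn : k ≤ n) :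
    (k : ℤ) • chern P k x = Acoef k n • grK P (k : ℤ) x := by
  have hx0 : P.aug x = 0 := aug_eq_zero_of_mem hK n hn x hx
  have hxk : x ∈ gammaFiltration P k := gammaFiltration_anti P hkn hx
  have e0 : x - ((P.aug x : ℤ) : K) = x := by rw [hx0, Int.cast_zero, sub_zero]
  have hγ : gamma k x ∈ gammaFiltration P k := gamma_mem_gammaFiltration P k x hx0
  have hf := natCast_mul_gamma_sub_mem hK n hn x hx k hk
  set f := (k : K) * gamma k x - (Acoef k n : K) * x with hfdef
  have hfk : f ∈ gammaFiltration P (k + 1) := gammaFiltration_anti P (by omega) hf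
  rw [chern, e0, ← grK_zsmul P k (k : ℤ) _ hγ]
  have e1 : (k : ℤ) • gamma k x = Acoef k n • x + f := by
    rw [zsmul_eq_mul, zsmul_eq_mul, hfdef]; push_cast; ring
  rw [e1, grK_add P k _ _ (zsmul_mem hxk _) (gammaFiltration_anti P (Nat.le_succ k) hfk),
    grK_zsmul P k _ x hxk, grK_eq_zero_of_mem P k f hfk, add_zero]

theorem chern_eq_zero_of_mem (hK : HasSplitting K P) (n : ℕ) (x : K)
    (hx : x ∈ gammaFiltration P n) (k : ℕ) (hk : 1 ≤ k) (hkn : k < n) : chern P k x = 0 := by
  have h := zsmul_chern_of_mem hK n (by omega) x hx k hk (le_of_lt hkn)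
  rw [grK_eq_zero_of_mem P k x (gammaFiltration_anti P (by omega) hx), smul_zero] at h
  have hk0 : ((k : ℤ) : ℚ) ≠ 0 := by
    have : (k : ℚ) ≠ 0 := by positivity
    exact_mod_cast this
  have h2 : ((k : ℤ) : ℚ) • chern P k x = 0 := by
    rw [Int.cast_smul_eq_zsmul]; exact h
  exact (smul_eq_zero.mp h2).resolve_left hk0

theorem zsmul_chern_top (hK : HasSplitting K P) (n : ℕ) (hn : 1 ≤ n) (x : K)
    (hx : x ∈ gammaFiltration P n) :
    (n : ℤ) • chern P n x = Acoef n n • gclHom P n ⟨x, hx⟩ := by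
  rw [zsmul_chern_of_mem hK n hn x hx n hn (le_refl n), grK_eq_gclHom P n x hx]

theorem toS_zsmul (z : ℤ) (g : Gr P) : toS P (z • g) = (z : GrS P) * toS P g := by
  induction z using Int.induction_on with
  | zero => rw [zero_smul, toS_zero, Int.cast_zero, zero_mul]
  | succ i ih => rw [add_smul, one_smul, toS_add, ih]; push_cast; ring
  | pred i ih =>
    have e : (-(i : ℤ) - 1) • g + g = -(i : ℤ) • g := by
      rw [sub_smul, one_smul, sub_add_cancel]
    have h2 := congrArg (toS P) e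
    rw [toS_add, ih] at h2
    push_cast at h2 ⊢
    linear_combination h2

theorem chernS_eq_zero_of_mem (hK : HasSplitting K P) (n : ℕ) (x : K)
    (hx : x ∈ gammaFiltration P n) (k : ℕ) (hk : 1 ≤ k) (hkn : k < n) : chernS P k x = 0 := by
  rw [chernS, chern_eq_zero_of_mem hK n x hx k hk hkn, toS_zero]

theorem natCast_mul_chernS_top (hK : HasSplitting K P) (n : ℕ) (hn : 1 ≤ n) (x : K)
    (hx : x ∈ gammaFiltration P n) :
    (n : GrS P) * chernS P n x = (Acoef n n : GrS P) * gclS P n ⟨x, hx⟩ := by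
  have h := congrArg (toS P) (zsmul_chern_top hK n hn x hx)
  rw [toS_zsmul, toS_zsmul, Int.cast_natCast] at h
  exact h

theorem gclS_zero_one : gclS P 0 ⟨1, by rw [gammaFiltration_zero]; trivial⟩ = 1 := by
  apply ofS_injective
  rw [ofS_gclS, gclHom_zero_one, ofS_one]

theorem gclS_zero_intCast (z : ℤ) :
    gclS P 0 ⟨(z : K), by rw [gammaFiltration_zero]; trivial⟩ = algebraMap ℚ (GrS P) (z : ℚ) := by
  have e : (⟨(z : K), by rw [gammaFiltration_zero]; trivial⟩ : gammaFiltration P 0) =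
      z • ⟨1, by rw [gammaFiltration_zero]; trivial⟩ := by
    apply Subtype.ext
    rw [AddSubgroup.coe_zsmul, zsmul_eq_mul, mul_one]
  rw [e, map_zsmul, gclS_zero_one, map_intCast, zsmul_eq_mul, mul_one]

theorem gclS_eq_zero (n : ℕ) (y : gammaFiltration P n)
    (hy : (y : K) ∈ gammaFiltration P (n + 1)) : gclS P n y = 0 := by
  apply ofS_injective
  rw [ofS_gclS, gclHom_eq_zero P n y hy, ofS_zero]

theorem term_mem_FilS (x : K) (k n : ℕ) (h : n ≤ k + 1) :
    algebraMap ℚ (GrS P) (1 / ((k + 1).factorial : ℚ)) * coeff (k + 1) (psS (cserS P x)) ∈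
      FilS P n :=
  algebraMap_mul_mem_FilS P n _ _ (FilS_anti P h (coeff_psS_cserS_mem P x (k + 1)))

theorem chS_sub_gclS_mem_zero (d : ℕ) (x : K) :
    chS P d x - gclS P 0 ⟨x, by rw [gammaFiltration_zero]; trivial⟩ ∈ FilS P 1 := by
  have h1 : gclS P 0 ⟨x, by rw [gammaFiltration_zero]; trivial⟩ =
      algebraMap ℚ (GrS P) (P.aug x : ℚ) := by
    have e : (⟨x, by rw [gammaFiltration_zero]; trivial⟩ : gammaFiltration P 0) =
        ⟨((P.aug x : ℤ) : K), by rw [gammaFiltration_zero]; trivial⟩ +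
          ⟨x - ((P.aug x : ℤ) : K), by rw [gammaFiltration_zero]; trivial⟩ := by
      apply Subtype.ext
      show x = ((P.aug x : ℤ) : K) + (x - ((P.aug x : ℤ) : K))
      ring
    rw [e, map_add, gclS_zero_intCast, gclS_eq_zero 0 _ (mem_gammaFiltration_one P _
      (aug_sub_aug P x)), add_zero]
  rw [chS, h1, add_sub_cancel_left]
  exact sum_mem fun k _ => term_mem_FilS x k 1 (by omega)

theorem chS_sub_gclS_mem_succ (hK : HasSplitting K P) (d m : ℕ) (hmd : m + 1 ≤ d) (x : K)
    (hx : x ∈ gammaFiltration P (m + 1)) :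
    chS P d x - gclS P (m + 1) ⟨x, hx⟩ ∈ FilS P (m + 1 + 1) := by
  have hx0 : P.aug x = 0 := aug_eq_zero_of_mem hK (m + 1) (by omega) x hx
  have hc := constantCoeff_cserS P x
  have hlow : ∀ j, 1 ≤ j → j < m + 1 → coeff j (cserS P x) = 0 := by
    intro j hj1 hj2
    rw [cserS, coeff_mk]
    exact chernS_eq_zero_of_mem hK (m + 1) x hx j hj1 hj2
  obtain ⟨hp0, hp1⟩ := coeff_psS_low (cserS P x) hc (m + 1) hlow
  have hp1' := hp1 (by omega)
  have hmem : m ∈ range d := mem_range.mpr (by omega)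
  rw [chS, hx0, Int.cast_zero, map_zero, zero_add, ← Finset.add_sum_erase _ _ hmem]
  have htop : algebraMap ℚ (GrS P) (1 / ((m + 1).factorial : ℚ)) *
      coeff (m + 1) (psS (cserS P x)) = gclS P (m + 1) ⟨x, hx⟩ := by
    have hA := natCast_mul_chernS_top hK (m + 1) (by omega) x hx
    rw [Acoef_self] at hA
    have e1 : algebraMap ℚ (GrS P) (1 / ((m + 1).factorial : ℚ)) *
        (((m + 1).factorial : ℕ) : GrS P) = 1 := by
      rw [← map_natCast (algebraMap ℚ (GrS P)), ← map_mul, one_div,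
        inv_mul_cancel₀ (by positivity), map_one]
    have e2 : ((-1 : GrS P) ^ (m + 1)) * (-1) ^ (m + 1) = 1 := by rw [← mul_pow]; simp
    have e3 : coeff (m + 1) (cserS P x) = chernS P (m + 1) x := by rw [cserS, coeff_mk]
    rw [hp1', e3]
    push_cast at hA ⊢
    linear_combination (-(algebraMap ℚ (GrS P) (1 / ((m + 1).factorial : ℚ))) *
      (-1) ^ (m + 1)) * hA + (gclS P (m + 1) ⟨x, hx⟩) * e1 +
      (gclS P (m + 1) ⟨x, hx⟩ * algebraMap ℚ (GrS P) (1 / ((m + 1).factorial : ℚ)) *
        ((m + 1).factorial : GrS P)) * e2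
  rw [htop, add_sub_cancel_left]
  refine sum_mem fun k hk => ?_
  have hk' := Finset.mem_erase.mp hk
  rcases Nat.lt_or_ge (k + 1) (m + 1) with h | h
  · rw [hp0 (k + 1) h, mul_zero]
    exact zero_mem _
  · exact term_mem_FilS x k (m + 1 + 1) (by omega)

theorem chK_add (d : ℕ) (hd : gammaFiltration P (d + 1) = ⊥) (x y : K) :
    chK P d (x + y) = chK P d x + chK P d y := by
  have h : toS P (chK P d (x + y)) = toS P (chK P d x + chK P d y) := by
    rw [toS_add, chK_eq_chS P d hd, chK_eq_chS P d hd, chK_eq_chS P d hd, chS_add]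
  exact h

theorem chK_sub_gclHom_mem (hK : HasSplitting K P) (d : ℕ) (hd : gammaFiltration P (d + 1) = ⊥)
    (n : ℕ) (hnd : n ≤ d) (x : K) (hx : x ∈ gammaFiltration P n) :
    chK P d x - gclHom P n ⟨x, hx⟩ ∈ GrFil P (n + 1) := by
  have key : chS P d x - gclS P n ⟨x, hx⟩ ∈ FilS P (n + 1) := by
    rcases n with _ | m
    · exact chS_sub_gclS_mem_zero d x
    · exact chS_sub_gclS_mem_succ hK d m hnd x hx
  rw [mem_FilS, ofS_sub, ← chK_eq_chS P d hd, ofS_toS, ofS_gclS] at key
  exact key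

/-- The Chern character as an additive map. -/
def chAdd (d : ℕ) (hd : gammaFiltration P (d + 1) = ⊥) : K →+ Gr P :=
  AddMonoidHom.mk' (chK P d) (chK_add d hd)

theorem chAdd_apply (d : ℕ) (hd : gammaFiltration P (d + 1) = ⊥) (x : K) :
    chAdd d hd x = chK P d x := rfl

end Groth.Agent.Lib.T2H7.ChD
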