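import Groth.Agent.Lib.T2H7ChD
import Groth.Agent.Lib.Helper4LambdaEigen

/-!
# Adams operations and the graded components of the Chern character (helper7)

`λ^k ψ^j = ψ^j λ^k`, `c_i(ψ^j x) = j^i c_i(x)`, the components `ch_k` of the Chern character and their
behaviour under Adams operations, and multiplicativity of the Chern character.
-/

set_option autoImplicit false
universe v

noncomputable section

namespace Groth.Agent.Lib.T2H7.ChE

open LambdaRing PowerSeries Finset KGr Groth.Agent.Lib.Helper4 Groth.Agent.Lib.T2H7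
open Groth.Agent.Lib.T2H7.ChA Groth.Agent.Lib.T2H7.ChB Groth.Agent.Lib.T2H7.ChC
open Groth.Agent.Lib.T2H7.ChD
open scoped TensorProduct

section Generic

variable {G : Type*} [CommRing G]

theorem derivative_rescale (a : G) (f : G⟦X⟧) :
    derivative G (rescale a f) = C a * rescale a (derivative G f) := by
  ext n
  rw [coeff_derivative, coeff_rescale, coeff_C_mul, coeff_rescale, coeff_derivative]
  ring

theorem negS_rescale (a : G) (c : G⟦X⟧) : negS (rescale a c) = rescale a (negS c) := by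
  rw [negS, negS, rescale_rescale, rescale_rescale, mul_comm]

theorem psS_rescale (a : G) (c : G⟦X⟧) (hc : constantCoeff c = 1) :
    psS (rescale a c) = rescale a (psS c) := by
  have hc' : constantCoeff (rescale a c) = 1 := by
    rw [← coeff_zero_eq_constantCoeff_apply, coeff_rescale, pow_zero, one_mul,
      coeff_zero_eq_constantCoeff_apply, hc]
  apply psS_eq_of_mul _ hc'
  rw [negS_rescale, ← map_mul, psS_mul_negS c hc, derivative_rescale, map_neg, map_mul, rescale_X]
  ring

end Generic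

variable {K : Type v} [CommRing K] [LambdaOps K] {P : PosStructure K}

theorem lamSeries_adams_of_mem_lineSpan (hK : HasSplitting K P) (j : ℕ) {z : K}
    (hz : z ∈ lineSpan P) :
    lamSeries (adams P j z) = PowerSeries.map (adamsRingHom hK j) (lamSeries z) := by
  induction hz using AddSubgroup.closure_induction with
  | mem u hu =>
    rw [adams_of_isLine P u hu, lamSeries_of_isLine P _ (isLine_pow P hu j),
      lamSeries_of_isLine P u hu, map_add, map_one, map_mul, map_C, map_X]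
    congr 3
    exact (adams_of_isLine P u hu j).symm
  | zero => rw [adams_zero, lamSeries_zero, map_one]
  | add x y _ _ hx hy => rw [adams_add, lamSeries_add, lamSeries_add, map_mul, hx, hy]
  | neg x _ hx =>
    rw [adams_neg]
    have h1 : lamSeries (-adams P j x) * lamSeries (adams P j x) = 1 := lamSeries_neg_mul _
    have h2 : PowerSeries.map (adamsRingHom hK j) (lamSeries (-x)) * lamSeries (adams P j x) = 1 := by
      rw [hx, ← map_mul, lamSeries_neg_mul, map_one]
    exact (isUnit_lamSeries (adams P j x)).mul_right_cancel (h1.trans h2.symm)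

theorem lam_adams (hK : HasSplitting K P) (j k : ℕ) (x : K) :
    LambdaOps.lam k (adams P j x) = adams P j (LambdaOps.lam k x) := by
  obtain ⟨L, f, hf, hL, h⟩ := exists_extension_lineSpan hK [x]
  apply hf.injective
  rw [hf.isLambdaHom, isExtension_map_adams hf, isExtension_map_adams hf, hf.isLambdaHom]
  have h1 := congrArg (coeff k) (lamSeries_adams_of_mem_lineSpan hL j (h x (by simp)))
  rw [coeff_lamSeries, coeff_map, coeff_lamSeries] at h1
  exact h1

theorem gamma_adams (hK : HasSplitting K P) (j r : ℕ) (x : K) :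
    gamma r (adams P j x) = adams P j (gamma r x) := by
  by_cases hr : r = 0
  · subst hr; rw [gamma_zero', gamma_zero', adams_one]
  · rw [gamma, gamma, if_neg hr, if_neg hr, adams_sum]
    refine sum_congr rfl fun i _ => ?_
    rw [adams_natCast_mul]
    by_cases hi : i = 0
    · rw [if_pos hi, if_pos hi, adams_zero]
    · rw [if_neg hi, if_neg hi, lam_adams hK]

theorem adams_intCast (j : ℕ) (z : ℤ) : adams P j (z : K) = (z : K) := by
  have h := map_zsmul (adamsAddHom P j) z (1 : K)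
  rw [adamsAddHom_apply, adamsAddHom_apply, adams_one, zsmul_eq_mul, mul_one] at h
  exact h

theorem zsmul_chern_adams (hK : HasSplitting K P) (j i : ℕ) (x : K) :
    chern P i (adams P j x) = ((j ^ i : ℕ) : ℤ) • chern P i x := by
  have e1 : adams P j x - ((P.aug (adams P j x) : ℤ) : K) = adams P j (x - ((P.aug x : ℤ) : K)) := by
    rw [aug_adams hK, adams_sub, adams_intCast]
  have hg : gamma i (x - ((P.aug x : ℤ) : K)) ∈ gammaFiltration P i :=
    gamma_mem_gammaFiltration P i _ (aug_sub_aug P x)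
  have hf := adams_sub_pow_mul_mem hK j i _ hg
  set g := gamma i (x - ((P.aug x : ℤ) : K)) with hgdef
  set f := adams P j g - (j : K) ^ i * g with hfdef
  have e2 : adams P j g = ((j ^ i : ℕ) : ℤ) • g + f := by
    rw [hfdef, zsmul_eq_mul]; push_cast; ring
  rw [chern, e1, gamma_adams hK, ← hgdef, e2,
    grK_add P i _ _ (zsmul_mem hg _) (gammaFiltration_anti P (Nat.le_succ i) hf),
    grK_zsmul P i _ g hg, grK_eq_zero_of_mem P i f hf, add_zero]
  rfl

theorem chernS_adams (hK : HasSplitting K P) (j i : ℕ) (x : K) :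
    chernS P i (adams P j x) = (j : GrS P) ^ i * chernS P i x := by
  rw [chernS, zsmul_chern_adams hK, toS_zsmul]
  push_cast
  rfl

theorem cserS_adams (hK : HasSplitting K P) (j : ℕ) (x : K) :
    cserS P (adams P j x) = rescale (j : GrS P) (cserS P x) := by
  ext i
  rw [coeff_rescale, cserS, cserS, coeff_mk, coeff_mk, chernS_adams hK]

/-- The degree `k` component of the Chern character. -/
def chkS (P : PosStructure K) (k : ℕ) (x : K) : GrS P :=
  if k = 0 then algebraMap ℚ (GrS P) (P.aug x : ℚ)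
  else algebraMap ℚ (GrS P) (1 / (k.factorial : ℚ)) * coeff k (psS (cserS P x))

theorem chkS_zero (x : K) : chkS P 0 x = algebraMap ℚ (GrS P) (P.aug x : ℚ) := if_pos rfl

theorem chkS_succ (k : ℕ) (x : K) :
    chkS P (k + 1) x =
      algebraMap ℚ (GrS P) (1 / ((k + 1).factorial : ℚ)) * coeff (k + 1) (psS (cserS P x)) :=
  if_neg (Nat.succ_ne_zero k)

theorem chS_eq_sum (d : ℕ) (x : K) : chS P d x = ∑ k ∈ range (d + 1), chkS P k x := by
  rw [sum_range_succ', chkS_zero, chS, add_comm]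
  congr 1

theorem chkS_add (k : ℕ) (x y : K) : chkS P k (x + y) = chkS P k x + chkS P k y := by
  rcases k with _ | k
  · rw [chkS_zero, chkS_zero, chkS_zero, map_add P.aug, Int.cast_add, map_add]
  · rw [chkS_succ, chkS_succ, chkS_succ, cserS_add,
      psS_mul _ _ (constantCoeff_cserS P x) (constantCoeff_cserS P y), map_add, mul_add]

theorem chkS_adams (hK : HasSplitting K P) (j k : ℕ) (x : K) :
    chkS P k (adams P j x) = (j : GrS P) ^ k * chkS P k x := by
  rcases k with _ | k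
  · rw [chkS_zero, chkS_zero, aug_adams hK, pow_zero, one_mul]
  · rw [chkS_succ, chkS_succ, cserS_adams hK, psS_rescale _ _ (constantCoeff_cserS P x),
      coeff_rescale]
    ring

theorem chkS_mem (k : ℕ) (x : K) : chkS P k x ∈ FilS P k := by
  rcases k with _ | k
  · have h : ∀ g : GrS P, g ∈ FilS P 0 := by
      intro g
      rw [mem_FilS, GrFil_zero]
      trivial
    exact h _
  · rw [chkS_succ]
    exact algebraMap_mul_mem_FilS P _ _ _ (coeff_psS_cserS_mem P x (k + 1))

theorem chkS_eq_zero_of_gt (d : ℕ) (hd : gammaFiltration P (d + 1) = ⊥) (k : ℕ) (hk : d < k)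
    (x : K) : chkS P k x = 0 :=
  eq_zero_of_mem_FilS P d hd hk _ (chkS_mem k x)

theorem chkS_eq_zero_of_lt (hK : HasSplitting K P) (n : ℕ) (x : K)
    (hx : x ∈ gammaFiltration P n) (k : ℕ) (hk : k < n) : chkS P k x = 0 := by
  rcases k with _ | k
  · rw [chkS_zero, aug_eq_zero_of_mem hK n (by omega) x hx, Int.cast_zero, map_zero]
  · have hlow : ∀ i, 1 ≤ i → i < n → coeff i (cserS P x) = 0 := by
      intro i hi1 hi2
      rw [cserS, coeff_mk]
      exact chernS_eq_zero_of_mem hK n x hx i hi1 hi2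
    obtain ⟨hp0, -⟩ := coeff_psS_low (cserS P x) (constantCoeff_cserS P x) n hlow
    rw [chkS_succ, hp0 (k + 1) hk, mul_zero]

theorem chkS_top (hK : HasSplitting K P) (n : ℕ) (x : K) (hx : x ∈ gammaFiltration P n) :
    chkS P n x = gclS P n ⟨x, hx⟩ := by
  rcases n with _ | m
  · rw [chkS_zero]
    have e : (⟨x, hx⟩ : gammaFiltration P 0) =
        ⟨((P.aug x : ℤ) : K), by rw [gammaFiltration_zero]; trivial⟩ +
          ⟨x - ((P.aug x : ℤ) : K), by rw [gammaFiltration_zero]; trivial⟩ := by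
      apply Subtype.ext
      show x = ((P.aug x : ℤ) : K) + (x - ((P.aug x : ℤ) : K))
      ring
    rw [e, map_add, gclS_zero_intCast, gclS_eq_zero 0 _ (mem_gammaFiltration_one P _
      (aug_sub_aug P x)), add_zero]
  · have hc := constantCoeff_cserS P x
    have hlow : ∀ j, 1 ≤ j → j < m + 1 → coeff j (cserS P x) = 0 := by
      intro j hj1 hj2
      rw [cserS, coeff_mk]
      exact chernS_eq_zero_of_mem hK (m + 1) x hx j hj1 hj2
    obtain ⟨-, hp1⟩ := coeff_psS_low (cserS P x) hc (m + 1) hlow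
    have hp1' := hp1 (by omega)
    have hA := natCast_mul_chernS_top hK (m + 1) (by omega) x hx
    rw [Acoef_self] at hA
    have e1 : algebraMap ℚ (GrS P) (1 / ((m + 1).factorial : ℚ)) *
        (((m + 1).factorial : ℕ) : GrS P) = 1 := by
      rw [← map_natCast (algebraMap ℚ (GrS P)), ← map_mul, one_div,
        inv_mul_cancel₀ (by positivity), map_one]
    have e2 : ((-1 : GrS P) ^ (m + 1)) * (-1) ^ (m + 1) = 1 := by rw [← mul_pow]; simp
    have e3 : coeff (m + 1) (cserS P x) = chernS P (m + 1) x := by rw [cserS, coeff_mk]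
    rw [chkS_succ, hp1', e3]
    push_cast at hA ⊢
    linear_combination (-(algebraMap ℚ (GrS P) (1 / ((m + 1).factorial : ℚ))) *
      (-1) ^ (m + 1)) * hA + (gclS P (m + 1) ⟨x, hx⟩) * e1 +
      (gclS P (m + 1) ⟨x, hx⟩ * algebraMap ℚ (GrS P) (1 / ((m + 1).factorial : ℚ)) *
        ((m + 1).factorial : GrS P)) * e2

section Mult

/-- The degree `k` component of the Chern character, as an additive map. -/
def chkAdd (P : PosStructure K) (k : ℕ) : K →+ GrS P := AddMonoidHom.mk' (chkS P k) (chkS_add k)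

/-- The degree `k` component of the Chern character on `ℚ ⊗ K`. -/
def PhiK (P : PosStructure K) (k : ℕ) : ℚ ⊗[ℤ] K →ₗ[ℚ] GrS P :=
  LinearMap.liftBaseChange ℚ (chkAdd P k).toIntLinearMap

theorem PhiK_tmul (k : ℕ) (q : ℚ) (x : K) : PhiK P k (q ⊗ₜ[ℤ] x) = q • chkS P k x := rfl

theorem PhiK_one_tmul (k : ℕ) (x : K) : PhiK P k ((1 : ℚ) ⊗ₜ[ℤ] x) = chkS P k x := by
  rw [PhiK_tmul, one_smul]

/-- The Adams operation on `ℚ ⊗ K`. -/
def PsiV (hK : HasSplitting K P) (j : ℕ) : ℚ ⊗[ℤ] K →ₐ[ℚ] ℚ ⊗[ℤ] K :=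
  Algebra.TensorProduct.map (AlgHom.id ℚ ℚ) (adamsRingHom hK j).toIntAlgHom

theorem PsiV_tmul (hK : HasSplitting K P) (j : ℕ) (q : ℚ) (x : K) :
    PsiV hK j (q ⊗ₜ[ℤ] x) = q ⊗ₜ[ℤ] adams P j x := rfl

theorem natCast_pow_mul_eq_smul (j k : ℕ) (g : GrS P) :
    (j : GrS P) ^ k * g = ((j : ℚ) ^ k) • g := by
  rw [Algebra.smul_def, map_pow, map_natCast]

theorem PhiK_PsiV (hK : HasSplitting K P) (j k : ℕ) (v : ℚ ⊗[ℤ] K) :
    PhiK P k (PsiV hK j v) = ((j : ℚ) ^ k) • PhiK P k v := by
  induction v using TensorProduct.induction_on with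
  | zero => rw [map_zero, map_zero, smul_zero]
  | tmul q x =>
    rw [PsiV_tmul, PhiK_tmul, PhiK_tmul, chkS_adams hK, natCast_pow_mul_eq_smul, smul_comm]
  | add a b ha hb => rw [map_add, map_add, ha, hb, map_add, smul_add]

theorem PhiK_eq_zero_of_eigen (hK : HasSplitting K P) (k m : ℕ) (hkm : k ≠ m) (v : ℚ ⊗[ℤ] K)
    (hv : PsiV hK 2 v = (((2 : ℕ) : ℚ) ^ m) • v) : PhiK P k v = 0 := by
  have h1 := PhiK_PsiV hK 2 k v
  rw [hv, map_smul] at h1
  have h2 : ((((2 : ℕ) : ℚ) ^ m) - (((2 : ℕ) : ℚ) ^ k)) • PhiK P k v = 0 := by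
    rw [sub_smul, h1, sub_self]
  have h3 : (((2 : ℕ) : ℚ) ^ m) - (((2 : ℕ) : ℚ) ^ k) ≠ 0 := by
    rw [sub_ne_zero]
    intro h
    have h0 : (0 : ℚ) < ((2 : ℕ) : ℚ) := by norm_num
    have h1' : ((2 : ℕ) : ℚ) ≠ 1 := by norm_num
    exact hkm (pow_right_injective₀ h0 h1' h).symm
  exact (smul_eq_zero.mp h2).resolve_left h3

theorem PhiK_eq_zero_of_gt (d : ℕ) (hd : gammaFiltration P (d + 1) = ⊥) (k : ℕ) (hk : d < k)
    (v : ℚ ⊗[ℤ] K) : PhiK P k v = 0 := by
  induction v using TensorProduct.induction_on with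
  | zero => rw [map_zero]
  | tmul q x => rw [PhiK_tmul, chkS_eq_zero_of_gt d hd k hk, smul_zero]
  | add a b ha hb => rw [map_add, ha, hb, add_zero]

theorem PhiK_mul_of_mem_QF (hK : HasSplitting K P) (a b : ℕ) (v w : ℚ ⊗[ℤ] K) (hv : v ∈ QF P a)
    (hw : w ∈ QF P b) : PhiK P (a + b) (v * w) = PhiK P a v * PhiK P b w := by
  induction hv using Submodule.span_induction with
  | mem v hv =>
    obtain ⟨x, hx, rfl⟩ := hv
    induction hw using Submodule.span_induction with
    | mem w hw =>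
      obtain ⟨y, hy, rfl⟩ := hw
      rw [Algebra.TensorProduct.tmul_mul_tmul, mul_one, PhiK_one_tmul, PhiK_one_tmul,
        PhiK_one_tmul, chkS_top hK a x hx, chkS_top hK b y hy,
        chkS_top hK (a + b) (x * y) (mul_mem_gammaFiltration P a b x y hx hy), gclS_mul]
    | zero => rw [mul_zero, map_zero, map_zero, mul_zero]
    | add w1 w2 _ _ h1 h2 => rw [mul_add, map_add, h1, h2, map_add, mul_add]
    | smul c w1 _ h1 => rw [mul_smul_comm, map_smul, h1, map_smul, mul_smul_comm]
  | zero => rw [zero_mul, map_zero, map_zero, zero_mul]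
  | add v1 v2 _ _ h1 h2 => rw [add_mul, map_add, h1, h2, map_add, add_mul]
  | smul c v1 _ h1 => rw [smul_mul_assoc, map_smul, h1, map_smul, smul_mul_assoc]

/-- The total Chern character on `ℚ ⊗ K`. -/
def PhiTot (P : PosStructure K) (d : ℕ) : ℚ ⊗[ℤ] K →ₗ[ℚ] GrS P := ∑ k ∈ range (d + 1), PhiK P k

theorem PhiTot_apply (d : ℕ) (v : ℚ ⊗[ℤ] K) : PhiTot P d v = ∑ k ∈ range (d + 1), PhiK P k v := by
  rw [PhiTot, LinearMap.sum_apply]

theorem PhiTot_one_tmul (d : ℕ) (x : K) : PhiTot P d ((1 : ℚ) ⊗ₜ[ℤ] x) = chS P d x := by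
  rw [PhiTot_apply, chS_eq_sum]
  exact sum_congr rfl fun k _ => PhiK_one_tmul k x

theorem PhiTot_of_eigen (hK : HasSplitting K P) (d : ℕ) (hd : gammaFiltration P (d + 1) = ⊥)
    (m : ℕ) (v : ℚ ⊗[ℤ] K) (hv : PsiV hK 2 v = (((2 : ℕ) : ℚ) ^ m) • v) :
    PhiTot P d v = PhiK P m v := by
  rw [PhiTot_apply]
  by_cases hm : m ≤ d
  · rw [sum_eq_single m]
    · intro k _ hk
      exact PhiK_eq_zero_of_eigen hK k m hk v hv
    · intro h
      exact absurd (mem_range.mpr (by omega)) h
  · rw [PhiK_eq_zero_of_gt d hd m (by omega)]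
    refine sum_eq_zero fun k hk => ?_
    have := mem_range.mp hk
    exact PhiK_eq_zero_of_eigen hK k m (by omega) v hv

theorem PhiTot_mul (hK : HasSplitting K P) (d : ℕ) (hd : gammaFiltration P (d + 1) = ⊥)
    (v w : ℚ ⊗[ℤ] K) : PhiTot P d (v * w) = PhiTot P d v * PhiTot P d w := by
  have hΨ : ∀ x : K, (PsiV hK 2).toLinearMap ((1 : ℚ) ⊗ₜ[ℤ] x) = (1 : ℚ) ⊗ₜ[ℤ] adams P 2 x :=
    fun x => rfl
  have hFE := filEigen_QF hK d hd 2 (le_refl 2) (PsiV hK 2).toLinearMap hΨ
  have htop := hFE.iSup_eigen_eq_top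
  have key : ∀ (a b : ℕ) (v w : ℚ ⊗[ℤ] K),
      v ∈ Module.End.eigenspace (PsiV hK 2).toLinearMap (((2 : ℕ) : ℚ) ^ a) →
      w ∈ Module.End.eigenspace (PsiV hK 2).toLinearMap (((2 : ℕ) : ℚ) ^ b) →
      PhiTot P d (v * w) = PhiTot P d v * PhiTot P d w := by
    intro a b v w hv hw
    have hv' : PsiV hK 2 v = (((2 : ℕ) : ℚ) ^ a) • v := Module.End.mem_eigenspace_iff.mp hv
    have hw' : PsiV hK 2 w = (((2 : ℕ) : ℚ) ^ b) • w := Module.End.mem_eigenspace_iff.mp hw
    have hvw : PsiV hK 2 (v * w) = (((2 : ℕ) : ℚ) ^ (a + b)) • (v * w) := by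
      rw [map_mul, hv', hw', smul_mul_smul_comm, pow_add]
    rw [PhiTot_of_eigen hK d hd a v hv', PhiTot_of_eigen hK d hd b w hw',
      PhiTot_of_eigen hK d hd (a + b) (v * w) hvw]
    exact PhiK_mul_of_mem_QF hK a b v w (hFE.eigen_le a hv) (hFE.eigen_le b hw)
  have hv : v ∈ ⨆ m ∈ range (d + 1),
      Module.End.eigenspace (PsiV hK 2).toLinearMap (((2 : ℕ) : ℚ) ^ m) := by
    rw [htop]; trivial
  have hw : w ∈ ⨆ m ∈ range (d + 1),
      Module.End.eigenspace (PsiV hK 2).toLinearMap (((2 : ℕ) : ℚ) ^ m) := by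
    rw [htop]; trivial
  obtain ⟨μ, rfl⟩ := (Submodule.mem_iSup_finset_iff_exists_sum _ _).mp hv
  obtain ⟨ν, rfl⟩ := (Submodule.mem_iSup_finset_iff_exists_sum _ _).mp hw
  rw [Finset.sum_mul_sum, map_sum, map_sum, map_sum, Finset.sum_mul_sum]
  refine sum_congr rfl fun a _ => ?_
  rw [map_sum]
  refine sum_congr rfl fun b _ => ?_
  exact key a b _ _ (μ a).2 (ν b).2

theorem chS_mul (hK : HasSplitting K P) (d : ℕ) (hd : gammaFiltration P (d + 1) = ⊥) (x y : K) :
    chS P d (x * y) = chS P d x * chS P d y := by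
  rw [← PhiTot_one_tmul, ← PhiTot_one_tmul, ← PhiTot_one_tmul, ← PhiTot_mul hK d hd,
    Algebra.TensorProduct.tmul_mul_tmul, mul_one]

theorem chK_mul (hK : HasSplitting K P) (d : ℕ) (hd : gammaFiltration P (d + 1) = ⊥) (x y : K) :
    chK P d (x * y) = chK P d x * chK P d y := by
  have h : toS P (chK P d (x * y)) = toS P (chK P d x * chK P d y) := by
    rw [toS_mul, chK_eq_chS P d hd, chK_eq_chS P d hd, chK_eq_chS P d hd, chS_mul hK d hd]
  exact h

theorem chS_one (d : ℕ) : chS P d 1 = 1 := by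
  have h1 : ∀ i, chernS P i 1 = if i = 0 then 1 else 0 := by
    intro i
    by_cases hi : i = 0
    · subst hi; rw [if_pos rfl, chernS_zero]
    · rw [if_neg hi, chernS, chern]
      have e : (1 : K) - ((P.aug 1 : ℤ) : K) = 0 := by rw [map_one, Int.cast_one, sub_self]
      rw [e]
      have e2 : gamma i (0 : K) = 0 := by
        rw [gamma, if_neg hi]
        refine sum_eq_zero fun j _ => ?_
        by_cases hj : j = 0
        · rw [if_pos hj, mul_zero]
        · rw [if_neg hj]
          have := congrArg (coeff j) (lamSeries_zero (K := K))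
          rw [coeff_lamSeries, coeff_one, if_neg hj] at this
          rw [this, mul_zero]
      rw [e2, grK_zero, toS_zero]
  have h2 : cserS P (1 : K) = 1 := by
    ext i
    rw [cserS, coeff_mk, h1, coeff_one]
  rw [chS, h2, psS_one, map_one, Int.cast_one, map_one]
  simp

theorem chK_one (d : ℕ) (hd : gammaFiltration P (d + 1) = ⊥) : chK P d 1 = 1 := by
  have h : toS P (chK P d 1) = toS P 1 := by
    rw [toS_one, chK_eq_chS P d hd, chS_one]
  exact h

end Mult

end Groth.Agent.Lib.T2H7.ChE
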