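import Mathlib

/-!
For an injective homomorphism of commutative groups `f : H →* G`, the induced map of group algebras
`R[H] → R[G]` is faithfully flat: `R[G]` is a free `R[H]`-module on a set of coset representatives.
-/

set_option autoImplicit false
set_option linter.unusedSectionVars false
set_option linter.unusedVariables false
set_option linter.style.haveILetI false

namespace Groth.Agent.Lib.T2H7.MonAlgFF

variable (R : Type*) [CommRing R] {G H : Type*} [CommGroup G] [CommGroup H] (f : H →* G)

/-- the induced map of group algebras. -/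
noncomputable def F : MonoidAlgebra R H →+* MonoidAlgebra R G := MonoidAlgebra.mapDomainRingHom R f

theorem F_single (h : H) (r : R) : F R f (MonoidAlgebra.single h r) = MonoidAlgebra.single (f h) r := by
  unfold F
  simp [MonoidAlgebra.mapDomainRingHom]

variable {f}

section Free

variable (hf : Function.Injective f)

/-- coset representative. -/
noncomputable def σ (c : G ⧸ f.range) : G := Quotient.out c

theorem mk_σ (c : G ⧸ f.range) : (QuotientGroup.mk (σ c) : G ⧸ f.range) = c := Quotient.out_eq c

theorem exists_β (g : G) : ∃ h : H, f h = g * (σ (QuotientGroup.mk g : G ⧸ f.range))⁻¹ := by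
  have h1 : (QuotientGroup.mk (σ (QuotientGroup.mk g : G ⧸ f.range)) : G ⧸ f.range) =
      QuotientGroup.mk g := mk_σ _
  have h2 : (σ (QuotientGroup.mk g : G ⧸ f.range))⁻¹ * g ∈ f.range := QuotientGroup.eq.1 h1
  rw [mul_comm] at h2
  exact h2

/-- the `H`-component. -/
noncomputable def β (g : G) : H := (exists_β (f := f) g).choose

theorem f_β (g : G) : f (β (f := f) g) = g * (σ (QuotientGroup.mk g : G ⧸ f.range))⁻¹ :=
  (exists_β (f := f) g).choose_spec

theorem mk_mul (h : H) (c : G ⧸ f.range) :
    (QuotientGroup.mk (f h * σ c) : G ⧸ f.range) = c := by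
  rw [← mk_σ c]
  apply QuotientGroup.eq.2
  rw [mk_σ c]
  have : (f h * σ c)⁻¹ * σ c = f h⁻¹ := by
    rw [mul_inv, mul_comm (f h)⁻¹, mul_assoc, mul_comm (f h)⁻¹, ← mul_assoc, inv_mul_cancel,
      one_mul, map_inv]
  rw [this]
  exact ⟨h⁻¹, rfl⟩

include hf in
theorem β_mul (h : H) (c : G ⧸ f.range) : β (f := f) (f h * σ c) = h := by
  apply hf
  rw [f_β, mk_mul, mul_assoc, mul_inv_cancel, mul_one]

end Free

section FF

variable (hf : Function.Injective f)

include hf in
/-- **Faithful flatness.** -/
theorem faithfullyFlat : (F R f).FaithfullyFlat := by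
  letI : Algebra (MonoidAlgebra R H) (MonoidAlgebra R G) := (F R f).toAlgebra
  show Module.FaithfullyFlat (MonoidAlgebra R H) (MonoidAlgebra R G)
  let Φ : ((G ⧸ f.range) →₀ MonoidAlgebra R H) →ₗ[MonoidAlgebra R H] MonoidAlgebra R G :=
    Finsupp.linearCombination _ (fun c => MonoidAlgebra.single (σ c) (1 : R))
  let Ψ : MonoidAlgebra R G →+ ((G ⧸ f.range) →₀ MonoidAlgebra R H) :=
    (Finsupp.liftAddHom (fun g => (Finsupp.singleAddHom
      (QuotientGroup.mk g : G ⧸ f.range)).comp
        (MonoidAlgebra.singleAddHom (β (f := f) g)))).comp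
      MonoidAlgebra.coeffAddEquiv.toAddMonoidHom
  have hΦ : ∀ (c : G ⧸ f.range) (h : H) (r : R),
      Φ (Finsupp.single c (MonoidAlgebra.single h r)) = MonoidAlgebra.single (f h * σ c) r := by
    intro c h r
    show Finsupp.linearCombination _ _ _ = _
    rw [Finsupp.linearCombination_single]
    show F R f (MonoidAlgebra.single h r) * MonoidAlgebra.single (σ c) (1 : R) = _
    rw [F_single, MonoidAlgebra.single_mul_single, mul_one]
  have hΨ : ∀ (g : G) (r : R), Ψ (MonoidAlgebra.single g r) =
      Finsupp.single (QuotientGroup.mk g : G ⧸ f.range)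
        (MonoidAlgebra.single (β (f := f) g) r) := by
    intro g r
    show Finsupp.liftAddHom _ (MonoidAlgebra.coeffAddEquiv (MonoidAlgebra.single g r)) = _
    have : MonoidAlgebra.coeffAddEquiv (MonoidAlgebra.single g r) = Finsupp.single g r := rfl
    rw [this, Finsupp.liftAddHom_apply_single]
    rfl
  have h1 : ∀ x, Φ (Ψ x) = x := by
    intro x
    have : (Φ.toAddMonoidHom.comp Ψ) = AddMonoidHom.id _ := by
      apply MonoidAlgebra.addMonoidHom_ext
      intro g r
      show Φ (Ψ (MonoidAlgebra.single g r)) = MonoidAlgebra.single g r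
      rw [hΨ, hΦ, f_β, mul_assoc, inv_mul_cancel, mul_one]
    exact DFunLike.congr_fun this x
  have h2 : ∀ y, Ψ (Φ y) = y := by
    intro y
    have : (Ψ.comp Φ.toAddMonoidHom) = AddMonoidHom.id _ := by
      apply Finsupp.addHom_ext
      intro c x
      show Ψ (Φ (Finsupp.single c x)) = Finsupp.single c x
      induction x using MonoidAlgebra.induction_linear with
      | zero => simp
      | add a b ha hb =>
        rw [Finsupp.single_add, map_add, map_add, ha, hb]
      | single h r =>
        rw [hΦ, hΨ, mk_mul, β_mul hf]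
    exact DFunLike.congr_fun this y
  have hbij : Function.Bijective Φ :=
    ⟨Function.LeftInverse.injective h2, Function.RightInverse.surjective h1⟩
  exact Module.FaithfullyFlat.of_linearEquiv _ _ (LinearEquiv.ofBijective Φ hbij).symm

end FF

section Conv

theorem injective_of_faithfullyFlat [Nontrivial R] (h : (F R f).FaithfullyFlat) :
    Function.Injective f := by
  letI : Algebra (MonoidAlgebra R H) (MonoidAlgebra R G) := (F R f).toAlgebra
  haveI : Module.FaithfullyFlat (MonoidAlgebra R H) (MonoidAlgebra R G) := h
  have hinj : Function.Injective (F R f) :=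
    FaithfulSMul.algebraMap_injective (MonoidAlgebra R H) (MonoidAlgebra R G)
  intro a b hab
  have h1 : F R f (MonoidAlgebra.single a 1) = F R f (MonoidAlgebra.single b 1) := by
    rw [F_single, F_single, hab]
  exact MonoidAlgebra.of_injective (R := R) (hinj h1)

end Conv

end Groth.Agent.Lib.T2H7.MonAlgFF
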