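import Groth.Agent.Lib.T2H7MtLocusB
import Groth.Agent.Lib.T2H7MonAlgFF

/-!
Faithful flatness of `D(ψ)` in terms of injectivity of `ψ`, and the faithfully flat locus.
-/

set_option autoImplicit false
set_option linter.unusedSectionVars false
set_option linter.unusedVariables false
set_option linter.style.haveILetI false
universe u
open CategoryTheory CategoryTheory.Limits MonoidalCategory CartesianMonoidalCategory MonObj GrpObj
  AlgebraicGeometry

namespace Groth.Agent.Lib.T2H7.MtLocus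

open Groth.Agent.Lib.T2H3.MultGa Groth.Agent.Lib.Helper27.GaGm
  Groth.Agent.Lib.T2H7.DiagDS Groth.Agent.Lib.T2H7.DiagHomA Groth.Agent.Lib.T2H7.DiagHomB
  Groth.Agent.Lib.T2H7.GrpIsoBC Groth.Agent.Lib.T2H7.ToriMono Groth.Agent.Lib.T2H7.MtModel

variable {R : Type u} [CommRing R] {M N : Type} [AddCommGroup M] [AddCommGroup N]

/-- the map of group algebras `R[M] → R[N]` induced by `ψ`. -/
noncomputable def Fψ (R : Type u) [CommRing R] (ψ : M →+ N) :
    MonoidAlgebra R (Multiplicative M) →+* MonoidAlgebra R (Multiplicative N) :=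
  MonAlgFF.F R (AddMonoidHom.toMultiplicative ψ)

theorem Fψ_single (ψ : M →+ N) (m : M) (r : R) :
    Fψ R ψ (MonoidAlgebra.single (Multiplicative.ofAdd m) r) =
      MonoidAlgebra.single (Multiplicative.ofAdd (ψ m)) r := by
  unfold Fψ
  rw [MonAlgFF.F_single]
  rfl

/-- over an affine base, `D(ψ)` is `Spec` of the map of group algebras. -/
theorem arrow_eq (ψ : M →+ N)
    (δ : Red.DS (Spec (CommRingCat.of R)) N ⟶ Red.DS (Spec (CommRingCat.of R)) M)
    (hδ : ∀ m, dsFn δ (sg m) = chr (Spec (CommRingCat.of R)) (ψ m)) :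
    ∃ (aN : Red.diag R N ⟶ Red.DS (Spec (CommRingCat.of R)) N)
      (aM : Red.diag R M ⟶ Red.DS (Spec (CommRingCat.of R)) M), IsIso aN ∧ IsIso aM ∧
      aN.left ≫ δ.left = Spec.map (CommRingCat.ofHom (Fψ R ψ)) ≫ aM.left := by
  obtain ⟨aN, haNiso, -, haN1⟩ := exists_iso R N
  obtain ⟨aM, haMiso, -, haM1⟩ := exists_iso R M
  refine ⟨aN, aM, haNiso, haMiso, ?_⟩
  have w : Spec.map (CommRingCat.ofHom (Fψ R ψ)) ≫ (Red.diag R M).hom = (Red.diag R N).hom := by
    show Spec.map (CommRingCat.ofHom (Fψ R ψ)) ≫ Spec.map (CommRingCat.ofHom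
      (algebraMap R (MonoidAlgebra R (Multiplicative M)))) = Spec.map (CommRingCat.ofHom
      (algebraMap R (MonoidAlgebra R (Multiplicative N))))
    rw [← Spec.map_comp, ← CommRingCat.ofHom_comp]
    congr 2
    refine RingHom.ext fun r => ?_
    show Fψ R ψ (algebraMap R _ r) = algebraMap R _ r
    rw [MonoidAlgebra.coe_algebraMap, MonoidAlgebra.coe_algebraMap]
    show Fψ R ψ (MonoidAlgebra.single (Multiplicative.ofAdd (0 : M)) _) = _
    rw [Fψ_single, map_zero]
    rfl
  let ρ : Red.diag R N ⟶ Red.diag R M := Over.homMk (Spec.map (CommRingCat.ofHom (Fψ R ψ))) w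
  have key : aN ≫ δ = ρ ≫ aM := by
    apply ds_ext'
    intro m
    rw [dsFn_comp_of_chr aN δ ψ hδ m, dsFn_comp]
    unfold sg
    rw [haN1, haM1]
    show _ = (Spec.map (CommRingCat.ofHom (Fψ R ψ))).appTop _
    rw [specMap_appTop_toG, Fψ_single]
  exact congrArg (fun k => k.left) key

/-- `Spec` of a ring map is flat and surjective iff the ring map is faithfully flat. -/
theorem specMap_ff_iff {C C' : Type u} [CommRing C] [CommRing C'] (φ : C →+* C') :
    (Flat (Spec.map (CommRingCat.ofHom φ)) ∧ Surjective (Spec.map (CommRingCat.ofHom φ))) ↔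
      φ.FaithfullyFlat := by
  rw [RingHom.FaithfullyFlat.iff_flat_and_comap_surjective,
    HasRingHomProperty.Spec_iff (P := @Flat)]
  constructor
  · rintro ⟨h1, h2⟩
    exact ⟨h1, h2.surj⟩
  · rintro ⟨h1, h2⟩
    exact ⟨h1, ⟨h2⟩⟩

/-- transfer along `arrow_eq`. -/
theorem ff_iff_affine (ψ : M →+ N)
    (δ : Red.DS (Spec (CommRingCat.of R)) N ⟶ Red.DS (Spec (CommRingCat.of R)) M)
    (hδ : ∀ m, dsFn δ (sg m) = chr (Spec (CommRingCat.of R)) (ψ m)) :
    (@Flat ⊓ @Surjective : MorphismProperty Scheme.{u}) δ.left ↔ (Fψ R ψ).FaithfullyFlat := by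
  obtain ⟨aN, aM, haN, haM, he⟩ := arrow_eq ψ δ hδ
  haveI : IsIso aN.left := inferInstanceAs (IsIso ((Over.forget _).map aN))
  haveI : IsIso aM.left := inferInstanceAs (IsIso ((Over.forget _).map aM))
  obtain ⟨b, hb⟩ : ∃ b : Spec (CommRingCat.of (MonoidAlgebra R (Multiplicative M))) ⟶
      (Red.DS (Spec (CommRingCat.of R)) M).left, b = aM.left := ⟨_, rfl⟩
  haveI : IsIso b := by rw [hb]; exact ‹IsIso aM.left›
  have he' : aN.left ≫ δ.left = Spec.map (CommRingCat.ofHom (Fψ R ψ)) ≫ b := by rw [hb]; exact he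
  have h1 := (@Flat ⊓ @Surjective : MorphismProperty Scheme.{u}).cancel_left_of_respectsIso
    aN.left δ.left
  have h2 := (@Flat ⊓ @Surjective : MorphismProperty Scheme.{u}).cancel_right_of_respectsIso
    (Spec.map (CommRingCat.ofHom (Fψ R ψ))) b
  rw [← specMap_ff_iff]
  rw [he'] at h1
  exact h1.symm.trans h2

theorem toMultiplicative_injective_iff (ψ : M →+ N) :
    Function.Injective (AddMonoidHom.toMultiplicative ψ) ↔ Function.Injective ψ := Iff.rfl

/-- `D(ψ)` is faithfully flat when `ψ` is injective. -/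
theorem ff_of_inj {T : Scheme.{u}} (ψ : M →+ N) (hψ : Function.Injective ψ)
    (δ : Red.DS T N ⟶ Red.DS T M) (hδ : ∀ m, dsFn δ (sg m) = chr T (ψ m)) :
    (@Flat ⊓ @Surjective : MorphismProperty Scheme.{u}) δ.left := by
  obtain ⟨δ₀, -, hδ₀⟩ := exists_dsHom (T := Spec (CommRingCat.of (ULift.{u} ℤ))) ψ
  have h0 : (@Flat ⊓ @Surjective : MorphismProperty Scheme.{u}) δ₀.left :=
    (ff_iff_affine ψ δ₀ hδ₀).2 (MonAlgFF.faithfullyFlat _ hψ)
  obtain ⟨p, hp⟩ : ∃ p : T ⟶ Spec (CommRingCat.of (ULift.{u} ℤ)),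
      p = specULiftZIsTerminal.from T := ⟨_, rfl⟩
  have h1 := OverDescP.bc (@Flat ⊓ @Surjective : MorphismProperty Scheme.{u}) p δ₀ h0
  have e : δ = (cIso p N).inv ≫ (Over.pullback p).map δ₀ ≫ (cIso p M).hom := by
    apply ds_ext'
    intro m
    rw [hδ, dsFn_bc p ψ δ₀ hδ₀ m]
  rw [e, Over.comp_left, Over.comp_left]
  haveI : IsIso (cIso p N).inv.left := inferInstanceAs (IsIso ((Over.forget _).map (cIso p N).inv))
  haveI : IsIso (cIso p M).hom.left := inferInstanceAs (IsIso ((Over.forget _).map (cIso p M).hom))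
  rw [(@Flat ⊓ @Surjective : MorphismProperty Scheme.{u}).cancel_left_of_respectsIso,
    (@Flat ⊓ @Surjective : MorphismProperty Scheme.{u}).cancel_right_of_respectsIso]
  exact h1

/-- over a nonzero ring, `ψ` is injective when `D(ψ)` is faithfully flat. -/
theorem inj_of_ff [Nontrivial R] (ψ : M →+ N)
    (δ : Red.DS (Spec (CommRingCat.of R)) N ⟶ Red.DS (Spec (CommRingCat.of R)) M)
    (hδ : ∀ m, dsFn δ (sg m) = chr (Spec (CommRingCat.of R)) (ψ m))
    (h : (@Flat ⊓ @Surjective : MorphismProperty Scheme.{u}) δ.left) : Function.Injective ψ :=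
  MonAlgFF.injective_of_faithfullyFlat R ((ff_iff_affine ψ δ hδ).1 h)

theorem flat_codescends : RingHom.CodescendsAlong RingHom.Flat RingHom.FaithfullyFlat := by
  refine .mk _ RingHom.Flat.respectsIso fun R S T _ _ _ _ _ h h' ↦ ?_
  rw [RingHom.flat_algebraMap_iff] at h' ⊢
  rw [RingHom.faithfullyFlat_algebraMap_iff] at h
  exact Module.Flat.of_flat_tensorProduct R T S

instance : MorphismProperty.DescendsAlong @Flat (@Surjective ⊓ @Flat ⊓ @QuasiCompact) :=
  HasRingHomProperty.descendsAlong_flat flat_codescends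

/-- **S5276.** -/
theorem locus_ff {S : Scheme.{u}} (G H : Over S) [GrpObj G] [GrpObj H]
    (hG : SGA3x.IsMultTypeFT G) (hH : SGA3x.IsMultTypeFT H) (u : G ⟶ H) [IsMonHom u] :
    ∃ U : S.Opens, IsClosed (U : Set S) ∧
      (∀ s : S, s ∈ U ↔ (Flat ((Over.pullback (S.fromSpecResidueField s)).map u).left ∧
        Surjective ((Over.pullback (S.fromSpecResidueField s)).map u).left)) ∧
      (Flat ((Over.pullback U.ι).map u).left ∧ Surjective ((Over.pullback U.ι).map u).left) := by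
  refine locus (@Flat ⊓ @Surjective : MorphismProperty Scheme.{u})
    (fun {A B} _ _ ψ => Function.Injective ψ) ?_ ?_ u hG hH
  · intro T A B _ _ ψ δ hδ hQ
    exact ff_of_inj ψ hQ δ hδ
  · intro k _ A B _ _ ψ δ hδ hP
    exact inj_of_ff ψ δ hδ hP

end Groth.Agent.Lib.T2H7.MtLocus
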