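import Groth.Agent.Lib.T2H7QtBcA

/-!
Local structure of the quotient of a diagonalisable group by a subgroup of multiplicative type.
-/

set_option autoImplicit false
set_option linter.unusedSectionVars false
set_option linter.unusedVariables false
set_option linter.style.haveILetI false
universe u
open CategoryTheory CategoryTheory.Limits MonoidalCategory CartesianMonoidalCategory MonObj GrpObj
  AlgebraicGeometry

namespace Groth.Agent.Lib.T2H7.QtBc

open Groth.Agent.Lib.T2H3.MultGa Groth.Agent.Lib.Helper27.GaGm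
  Groth.Agent.Lib.T2H7.DiagDS Groth.Agent.Lib.T2H7.DiagHomA Groth.Agent.Lib.T2H7.DiagHomB
  Groth.Agent.Lib.T2H7.DiagHomE
  Groth.Agent.Lib.T2H7.GrpIsoBC Groth.Agent.Lib.T2H7.ToriMono Groth.Agent.Lib.T2H7.MtModel
  Groth.Agent.Lib.T2H7.MtLocus Groth.Agent.Lib.T2H7.QuotSplit

section Helpers

variable {S Z : Scheme.{u}} (g : Z ⟶ S) {M : Type} [AddCommGroup M]

/-- base change of the character `χ_m`. -/
theorem chi_bc (m : M) :
    (cIso g M).hom ≫ chi Z m = (Over.pullback g).map (chi S m) ≫ (cIso g ℤ).hom := by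
  have h : chi Z m = (cIso g M).inv ≫ (Over.pullback g).map (chi S m) ≫ (cIso g ℤ).hom := by
    apply ds_ext'
    intro n
    rw [dsFn_chi, dsFn_bc g (zmultiplesHom M m) (chi S m) (dsFn_chi m) n]
    rfl
  rw [h, Iso.hom_inv_id_assoc]

theorem comp_hom_eq_one_iff {A G G' : Over S} [GrpObj G] [GrpObj G'] (x : A ⟶ G) (e : G ⟶ G')
    [IsMonHom e] [Mono e] : x ≫ e = 1 ↔ x = 1 := by
  constructor
  · intro h
    rw [← cancel_mono e, h, MonObj.one_comp (e)]
  · intro h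
    rw [h, MonObj.one_comp (e)]

variable {H : Over S} [GrpObj H] (i₁ : H ⟶ Red.DS S M)

/-- the restriction of `i₁` along `g`. -/
noncomputable def res : Red.bc g H ⟶ Red.DS Z M := (Over.pullback g).map i₁ ≫ (cIso g M).hom

instance [IsMonHom i₁] : IsMonHom (res g i₁) := by
  unfold res
  infer_instance

instance [Mono i₁] : Mono (res g i₁) := by
  haveI : (Over.pullback g).PreservesMonomorphisms :=
    Functor.preservesMonomorphisms_of_adjunction (Over.mapPullbackAdj g)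
  unfold res
  infer_instance

theorem res_chi (m : M) :
    res g i₁ ≫ chi Z m = (Over.pullback g).map (i₁ ≫ chi S m) ≫ (cIso g ℤ).hom := by
  unfold res
  rw [Category.assoc, chi_bc, Functor.map_comp, Category.assoc]

theorem res_chi_eq_one_iff (m : M) :
    res g i₁ ≫ chi Z m = 1 ↔ (Over.pullback g).map (i₁ ≫ chi S m) = 1 := by
  rw [res_chi]
  exact comp_hom_eq_one_iff _ _

theorem mem_Kgrp_res_iff (m : M) :
    m ∈ Kgrp (res g i₁) ↔ (Over.pullback g).map (i₁ ≫ chi S m) = 1 := by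
  rw [← comp_chi_eq_one_iff, res_chi_eq_one_iff]

end Helpers

section MapMap

variable {S S' S'' : Scheme.{u}} (p : S'' ⟶ S') (q : S' ⟶ S) {d : S'' ⟶ S} (hd : p ≫ q = d)

include hd in
theorem map_map_eq_one_iff {A G : Over S} [GrpObj G] (v : A ⟶ G) :
    (Over.pullback p).map ((Over.pullback q).map v) = 1 ↔ (Over.pullback d).map v = 1 := by
  have hn := ActBC.bcCompIso_hom_naturality p q hd v
  constructor
  · intro h
    rw [h, MonObj.one_comp ((ActBC.bcCompIso p q G hd).hom)] at hn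
    rw [← cancel_epi (ActBC.bcCompIso p q A hd).hom, ← hn, MonObj.comp_one]
  · intro h
    rw [h, MonObj.comp_one] at hn
    rw [← cancel_mono (ActBC.bcCompIso p q G hd).hom, hn,
      MonObj.one_comp ((ActBC.bcCompIso p q G hd).hom)]

end MapMap


section FieldPt

variable {S : Scheme.{u}}

/-- a field-valued point factors through the residue field of its image by an fpqc morphism. -/
theorem field_point_factor {Ω : Type u} [Field Ω] (t : Spec (CommRingCat.of Ω) ⟶ S) :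
    ∃ (s : S) (τ : Spec (CommRingCat.of Ω) ⟶ Spec (S.residueField s)),
      τ ≫ S.fromSpecResidueField s = t ∧ Flat τ ∧ Surjective τ ∧ QuasiCompact τ := by
  have h := (Scheme.SpecToEquivOfField Ω S).left_inv t
  obtain ⟨hfl, hsj, hqc⟩ := field_fpqc (K := ↑(S.residueField ((Scheme.SpecToEquivOfField Ω S) t).1))
    (L := Ω) ((Scheme.SpecToEquivOfField Ω S) t).2.hom
  exact ⟨((Scheme.SpecToEquivOfField Ω S) t).1, Spec.map ((Scheme.SpecToEquivOfField Ω S) t).2, h,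
    hfl, hsj, hqc⟩

theorem pt_eq {Ω : Type u} [Field Ω] (t : Spec (CommRingCat.of Ω) ⟶ S) (s : S)
    (τ : Spec (CommRingCat.of Ω) ⟶ Spec (S.residueField s))
    (hτ : τ ≫ S.fromSpecResidueField s = t) (x : Spec (CommRingCat.of Ω)) : t.base x = s := by
  rw [← hτ]
  exact Scheme.fromSpecResidueField_apply s (τ.base x)

variable {H : Over S} [GrpObj H]

/-- a point over the given `s` at which `H` becomes diagonalisable. -/
theorem exists_field_point_at (hH : SGA3x.IsMultTypeFT H) (s : S) :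
    ∃ (Ω : Type u) (_ : Field Ω) (t : Spec (CommRingCat.of Ω) ⟶ S) (N : Type)
      (_ : AddCommGroup N) (eΩ : Red.bc t H ≅ Red.DS (Spec (CommRingCat.of Ω)) N),
      IsMonHom eΩ.hom ∧ ∃ τ : Spec (CommRingCat.of Ω) ⟶ Spec (S.residueField s),
        τ ≫ S.fromSpecResidueField s = t ∧ Flat τ ∧ Surjective τ ∧ QuasiCompact τ := by
  obtain ⟨S₁, f₁, hfl, hsj, hcov, hloc⟩ := hH
  obtain ⟨s₁, hs₁⟩ := hsj.surj s
  obtain ⟨U, hU, N, instN, hfg, he⟩ := hloc s₁
  obtain ⟨g, hg⟩ : ∃ g : U.toScheme ⟶ S, g = U.ι ≫ f₁ := ⟨_, rfl⟩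
  let z : U.toScheme := ⟨s₁, hU⟩
  have hgz : g.base z = s := by
    rw [hg, ← hs₁]
    rfl
  have hsplit : Red.IsSplitTorusWith N (Red.bc (U.toScheme.fromSpecResidueField z ≫ g) H) := by
    refine split_of_comp (U.toScheme.fromSpecResidueField z) g rfl H N ?_
    rw [hg]
    exact he
  obtain ⟨eΩ, heΩ⟩ := (nonempty_grpIso_iff _ _).1 hsplit
  have key : ∀ (s' : S) (hs' : g.base z = s'),
      ∃ τ : Spec (CommRingCat.of ↑(U.toScheme.residueField z)) ⟶ Spec (S.residueField s'),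
        τ ≫ S.fromSpecResidueField s' = U.toScheme.fromSpecResidueField z ≫ g ∧ Flat τ ∧
          Surjective τ ∧ QuasiCompact τ := by
    rintro s' rfl
    obtain ⟨hfl', hsj', hqc'⟩ := field_fpqc (K := ↑(S.residueField (g.base z)))
      (L := ↑(U.toScheme.residueField z)) (g.residueFieldMap z).hom
    exact ⟨Spec.map (g.residueFieldMap z),
      Scheme.Hom.SpecMap_residueFieldMap_fromSpecResidueField g z, hfl', hsj', hqc'⟩
  obtain ⟨τ, hτ, h1, h2, h3⟩ := key s hgz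
  exact ⟨↑(U.toScheme.residueField z), inferInstance, U.toScheme.fromSpecResidueField z ≫ g,
    N, instN, eΩ, heΩ, τ, hτ, h1, h2, h3⟩

end FieldPt

section Compare

open Groth.Agent.Lib.T2H7.DsExact Groth.Agent.Lib.T2H7.QuotUniq

variable {S : Scheme.{u}} {M : Type} [AddCommGroup M] [AddGroup.FG M] {H Q : Over S} [GrpObj H]
  [GrpObj Q]

/-- if `K` consists of characters killing `H`, then `H ⟶ D(M)` factors through `D(M/K)`. -/
theorem exists_factor (i₁ : H ⟶ Red.DS S M) [IsMonHom i₁] (K : AddSubgroup M)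
    (hK : K ≤ Kgrp i₁) (dPr : Red.DS S (M ⧸ K) ⟶ Red.DS S M)
    (hdPr : ∀ m, dsFn dPr (sg m) = chr S (QuotientAddGroup.mk' K m)) :
    ∃ i' : H ⟶ Red.DS S (M ⧸ K), IsMonHom i' ∧ i' ≫ dPr = i₁ := by
  haveI : AddGroup.FG K := fg_subgroup K
  haveI : AddGroup.FG (M ⧸ K) := QuotientAddGroup.fg K
  obtain ⟨dInc, hdIncmon, hdInc⟩ := exists_dsHom (T := S) K.subtype
  haveI := hdIncmon
  haveI : IsMonHom dPr := isMonHom_of_chr (QuotientAddGroup.mk' K) dPr hdPr
  have hex : ∀ m, QuotientAddGroup.mk' K m = 0 → ∃ k, K.subtype k = m := by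
    intro m hm
    exact ⟨⟨m, (QuotientAddGroup.eq_zero_iff m).1 hm⟩, rfl⟩
  have hzero : ∀ k, QuotientAddGroup.mk' K (K.subtype k) = 0 := by
    intro k
    exact (QuotientAddGroup.eq_zero_iff _).2 k.2
  have hkerSq := isKernel K.subtype (QuotientAddGroup.mk' K) (QuotientAddGroup.mk'_surjective K)
    hex hzero dPr hdPr dInc hdInc
  have hkill : i₁ ≫ dInc = toUnit H ≫ η[Red.DS S K] := by
    rw [← Hom.one_def]
    apply ds_ext'
    intro k
    rw [dsFn_comp_of_chr i₁ dInc K.subtype hdInc k, dsFn_one_sg]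
    exact hK k.2
  obtain ⟨i', hi'⟩ : ∃ i' : H ⟶ Red.DS S (M ⧸ K), i' ≫ dPr = i₁ :=
    ⟨hkerSq.lift i₁ (toUnit H) hkill, hkerSq.lift_fst _ _ _⟩
  haveI : Mono dPr := mono_of_surj _ (QuotientAddGroup.mk'_surjective K) dPr hdPr
  refine ⟨i', ?_, hi'⟩
  apply isMonHom_of_points
  rw [← cancel_mono dPr, Category.assoc, hi', MonObj.mul_comp _ _ i₁, MonObj.mul_comp _ _ dPr,
    Category.assoc, Category.assoc, hi']

/-- if `H ⟶ D(M/K)` is an isomorphism, the quotient of `D(M)` by `H` is `D(K)`. -/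
theorem quot_of_iso (i₁ : H ⟶ Red.DS S M) [IsMonHom i₁] [Mono i₁] (q₁ : Red.DS S M ⟶ Q)
    [IsMonHom q₁] (hq : RedSub.IsQuotient i₁ q₁) (K : AddSubgroup M)
    (dPr : Red.DS S (M ⧸ K) ⟶ Red.DS S M)
    (hdPr : ∀ m, dsFn dPr (sg m) = chr S (QuotientAddGroup.mk' K m))
    (i' : H ⟶ Red.DS S (M ⧸ K)) [IsIso i'] (hi' : i' ≫ dPr = i₁) :
    Nonempty (Grp.mk Q ≅ Grp.mk (Red.DS S K)) := by
  haveI : AddGroup.FG K := fg_subgroup K
  haveI : AddGroup.FG (M ⧸ K) := QuotientAddGroup.fg K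
  obtain ⟨dInc, hdIncmon, hdInc⟩ := exists_dsHom (T := S) K.subtype
  haveI := hdIncmon
  haveI : IsMonHom dPr := isMonHom_of_chr (QuotientAddGroup.mk' K) dPr hdPr
  have hex : ∀ m, QuotientAddGroup.mk' K m = 0 → ∃ k, K.subtype k = m := by
    intro m hm
    exact ⟨⟨m, (QuotientAddGroup.eq_zero_iff m).1 hm⟩, rfl⟩
  have hzero : ∀ k, QuotientAddGroup.mk' K (K.subtype k) = 0 := by
    intro k
    exact (QuotientAddGroup.eq_zero_iff _).2 k.2
  have hinj : Function.Injective K.subtype := Subtype.val_injective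
  have hq₂ : RedSub.IsQuotient dPr dInc :=
    isQuotient K.subtype (QuotientAddGroup.mk' K) hinj (QuotientAddGroup.mk'_surjective K)
      hex hzero dPr hdPr dInc hdInc
  have hq₃ : RedSub.IsQuotient i₁ (𝟙 _ ≫ dInc) := by
    haveI : IsMonHom (Iso.refl (Red.DS S M)).hom := by
      rw [Iso.refl_hom]; infer_instance
    refine isQuotient_of_iso dPr dInc hq₂ (Iso.refl _) (asIso i') i₁ ?_
    rw [Iso.refl_hom, Category.comp_id, asIso_hom, hi']
  rw [Category.id_comp] at hq₃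
  obtain ⟨e, hemon, -⟩ := exists_iso i₁ q₁ hq dInc hq₃
  exact (nonempty_grpIso_iff _ _).2 ⟨e, hemon⟩

end Compare


section Stage1

variable {S : Scheme.{u}} {M : Type} [AddCommGroup M] [AddGroup.FG M] {H Q : Over S} [GrpObj H]
  [GrpObj Q]

/-- the quotient datum restricted along `g`. -/
theorem isQuotient_res {Z : Scheme.{u}} (g : Z ⟶ S) (i₁ : H ⟶ Red.DS S M) [IsMonHom i₁]
    (q₁ : Red.DS S M ⟶ Q) (hq : RedSub.IsQuotient i₁ q₁) :
    RedSub.IsQuotient (res g i₁) ((cIso g M).inv ≫ (Over.pullback g).map q₁) := by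
  have h := isQuotient_bc g i₁ q₁ hq
  haveI : IsMonHom (cIso g M).symm.hom := by
    rw [Iso.symm_hom]; infer_instance
  have h2 := isQuotient_of_iso _ _ h (cIso g M).symm (Iso.refl _) (res g i₁) (by
    unfold res
    rw [Iso.symm_hom, Category.assoc, Iso.hom_inv_id, Category.comp_id, Iso.refl_hom,
      Category.id_comp])
  rw [Iso.symm_hom] at h2
  exact h2

/-- **Stage 1.** If `K` consists of characters killing `H` and is exactly the group of
characters killing the fibre of `H` at a field-valued point `t`, then near the image of `t` the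
quotient of `D(M)` by `H` is `D(K)`. -/
theorem quot_nbhd (i₁ : H ⟶ Red.DS S M) [IsMonHom i₁] [Mono i₁] (hH : SGA3x.IsMultTypeFT H)
    (q₁ : Red.DS S M ⟶ Q) [IsMonHom q₁] (hq : RedSub.IsQuotient i₁ q₁) (K : AddSubgroup M)
    (hK : K ≤ Kgrp i₁) {Ω : Type u} [Field Ω] (t : Spec (CommRingCat.of Ω) ⟶ S) {N : Type}
    [AddCommGroup N] (eΩ : Red.bc t H ≅ Red.DS (Spec (CommRingCat.of Ω)) N) [IsMonHom eΩ.hom]
    (hfib : ∀ m, (Over.pullback t).map (i₁ ≫ chi S m) = 1 ↔ m ∈ K) :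
    ∃ V : S.Opens, (∀ x, t.base x ∈ V) ∧
      Nonempty (Grp.mk (Red.bc V.ι Q) ≅ Grp.mk (Red.DS V K)) := by
  haveI : AddGroup.FG (M ⧸ K) := QuotientAddGroup.fg K
  obtain ⟨dPr, hdPrmon, hdPr⟩ := exists_dsHom (T := S) (QuotientAddGroup.mk' K)
  haveI := hdPrmon
  obtain ⟨i', hi'mon, hi'⟩ := exists_factor i₁ K hK dPr hdPr
  haveI := hi'mon
  have h1 : IsIso ((Over.pullback t).map i') := isIso_fibre t eΩ i₁ K hfib dPr hdPr i' hi'
  obtain ⟨s, τ, hτ, hτfl, hτsj, hτqc⟩ := field_point_factor t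
  haveI := hτfl
  haveI := hτsj
  haveI := hτqc
  have h2 : IsIso ((Over.pullback (S.fromSpecResidueField s)).map i') := by
    apply OverDesc.isIso_of_fpqc τ
    rw [OverDesc.isIso_bc_comp_iff τ _ hτ i']
    exact h1
  obtain ⟨V, hVc, hV1, hV2⟩ := locus_iso _ _ hH (isMultTypeFT_DS S (M ⧸ K)) i'
  have hsV : s ∈ V := (hV1 s).2
    (inferInstanceAs (IsIso ((Over.forget _).map
      ((Over.pullback (S.fromSpecResidueField s)).map i'))))
  refine ⟨V, fun x => by rw [pt_eq t s τ hτ x]; exact hsV, ?_⟩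
  haveI : IsIso ((Over.pullback V.ι).map i') := OverDesc.isIso_of_isIso_left _ hV2
  have hqV := isQuotient_res V.ι i₁ q₁ hq
  have hdPrV := dsFn_bc V.ι (QuotientAddGroup.mk' K) dPr hdPr
  haveI : IsIso (res V.ι i') := by
    unfold res
    infer_instance
  have hi'V : res V.ι i' ≫ ((cIso V.ι (M ⧸ K)).inv ≫ (Over.pullback V.ι).map dPr ≫
      (cIso V.ι M).hom) = res V.ι i₁ := by
    unfold res
    rw [Category.assoc, Iso.hom_inv_id_assoc, ← Functor.map_comp_assoc, hi']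
  exact quot_of_iso (res V.ι i₁) _ hqV K _ hdPrV (res V.ι i') hi'V

end Stage1


section Stage2

variable {S : Scheme.{u}} {M : Type} [AddCommGroup M] [AddGroup.FG M] {H Q : Over S} [GrpObj H]
  [GrpObj Q]

theorem eq_one_mono {A G : Over S} [GrpObj G] (v : A ⟶ G) {U U' : S.Opens} (hle : U' ≤ U)
    (h : (Over.pullback U.ι).map v = 1) : (Over.pullback U'.ι).map v = 1 := by
  have hE : ∀ {Z : Scheme.{u}} (g : Z ⟶ S), EqDesc.E v 1 g ↔ (Over.pullback g).map v = 1 := by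
    intro Z g
    unfold EqDesc.E
    rw [Functor.map_one]
  rw [← hE] at h ⊢
  exact h.precomp (S.homOfLE hle) (S.homOfLE_ι hle)

/-- finitely many characters which are trivial on the fibre at `s` are trivial on a common
neighbourhood of `s`. -/
theorem exists_nbhd_trivial (i₁ : H ⟶ Red.DS S M) [IsMonHom i₁] (hH : SGA3x.IsMultTypeFT H)
    (s : S) (G : Finset M)
    (hG : ∀ m ∈ G, (Over.pullback (S.fromSpecResidueField s)).map (i₁ ≫ chi S m) = 1) :
    ∃ U : S.Opens, s ∈ U ∧ ∀ m ∈ G, (Over.pullback U.ι).map (i₁ ≫ chi S m) = 1 := by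
  classical
  induction G using Finset.induction_on with
  | empty => exact ⟨⊤, trivial, fun m hm => absurd hm (Finset.notMem_empty m)⟩
  | insert a G ha ih =>
    obtain ⟨U, hsU, hU⟩ := ih (fun m hm => hG m (Finset.mem_insert_of_mem hm))
    obtain ⟨Ua, -, hUa1, hUa2⟩ := Groth.Agent.Lib.T2H7.MtLocusG.locus_trivial (i₁ ≫ chi S a) hH
      (isMultTypeFT_DS S ℤ)
    have hsUa : s ∈ Ua := (hUa1 s).2 (hG a (Finset.mem_insert_self a G))
    refine ⟨U ⊓ Ua, ⟨hsU, hsUa⟩, ?_⟩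
    intro m hm
    rcases Finset.mem_insert.1 hm with rfl | hm'
    · exact eq_one_mono _ inf_le_right hUa2
    · exact eq_one_mono _ inf_le_left (hU m hm')

/-- **Stage 2.** Locally on the base, the quotient of `D(M)` by a subgroup of multiplicative type
is `D(K)` for a subgroup `K` of `M`. -/
theorem quot_local (i₁ : H ⟶ Red.DS S M) [IsMonHom i₁] [Mono i₁] (hH : SGA3x.IsMultTypeFT H)
    (q₁ : Red.DS S M ⟶ Q) [IsMonHom q₁] (hq : RedSub.IsQuotient i₁ q₁) (s : S) :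
    ∃ W : S.Opens, s ∈ W ∧ ∃ K : AddSubgroup M, Red.IsSplitTorusWith K (Red.bc W.ι Q) := by
  obtain ⟨Ω, instΩ, t, N, instN, eΩ, heΩ, τ, hτ, hτfl, hτsj, hτqc⟩ := exists_field_point_at hH s
  haveI := heΩ
  haveI := hτfl
  haveI := hτsj
  haveI := hτqc
  obtain ⟨ψ, hψ⟩ := exists_addHom (field_hconn (Ω := Ω)) (tr t eΩ i₁)
  obtain ⟨K, hK⟩ : ∃ K : AddSubgroup M, K = ψ.ker := ⟨_, rfl⟩
  have hfib : ∀ m, (Over.pullback t).map (i₁ ≫ chi S m) = 1 ↔ m ∈ K := by
    intro m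
    rw [hK, AddMonoidHom.mem_ker]
    exact (ker_eq t eΩ i₁ ψ hψ m).symm
  have hfibs : ∀ m ∈ K,
      (Over.pullback (S.fromSpecResidueField s)).map (i₁ ≫ chi S m) = 1 := by
    intro m hm
    have hE : ∀ {Z : Scheme.{u}} (g : Z ⟶ S),
        EqDesc.E (i₁ ≫ chi S m) 1 g ↔ (Over.pullback g).map (i₁ ≫ chi S m) = 1 := by
      intro Z g
      unfold EqDesc.E
      rw [Functor.map_one]
    rw [← hE]
    exact EqDesc.E.of_faithful τ hτ ((hE t).2 ((hfib m).2 hm))
  -- generators of `K`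
  obtain ⟨G, hG⟩ : ∃ G : Finset M, AddSubgroup.closure (G : Set M) = K := by
    have h1 : AddGroup.FG K := fg_subgroup K
    exact (AddGroup.fg_iff_addSubgroup_fg K).1 h1
  obtain ⟨U₁, hsU₁, hU₁⟩ := exists_nbhd_trivial i₁ hH s G (fun m hm => hfibs m (by
    rw [← hG]
    exact AddSubgroup.subset_closure hm))
  have hKle : K ≤ Kgrp (res U₁.ι i₁) := by
    rw [← hG, AddSubgroup.closure_le]
    intro m hm
    exact (mem_Kgrp_res_iff U₁.ι i₁ m).2 (hU₁ m hm)
  -- the point lifts to `U₁`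
  have hrange : Set.range t.base ⊆ Set.range U₁.ι.base := by
    rintro _ ⟨x, rfl⟩
    rw [pt_eq t s τ hτ x, Scheme.Opens.range_ι]
    exact hsU₁
  obtain ⟨t₁, ht₁⟩ : ∃ t₁ : Spec (CommRingCat.of Ω) ⟶ U₁.toScheme, t₁ ≫ U₁.ι = t :=
    ⟨IsOpenImmersion.lift U₁.ι t hrange, IsOpenImmersion.lift_fac _ _ _⟩
  obtain ⟨eΩ₁, heΩ₁⟩ : ∃ eΩ₁ : Red.bc t₁ (Red.bc U₁.ι H) ≅ Red.DS (Spec (CommRingCat.of Ω)) N,
      IsMonHom eΩ₁.hom := by
    refine ⟨ActBC.bcCompIso t₁ U₁.ι H ht₁ ≪≫ eΩ, ?_⟩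
    rw [Iso.trans_hom]
    infer_instance
  haveI := heΩ₁
  have hfib₁ : ∀ m, (Over.pullback t₁).map (res U₁.ι i₁ ≫ chi U₁.toScheme m) = 1 ↔ m ∈ K := by
    intro m
    haveI : IsMonHom ((Over.pullback t₁).map (cIso U₁.ι ℤ).hom) :=
      Functor.map.instIsMonHom (F := Over.pullback t₁) _ _ (cIso U₁.ι ℤ).hom
    rw [res_chi, Functor.map_comp]
    refine Iff.trans (comp_hom_eq_one_iff _ ((Over.pullback t₁).map (cIso U₁.ι ℤ).hom)) ?_
    rw [map_map_eq_one_iff t₁ U₁.ι ht₁]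
    exact hfib m
  obtain ⟨V, hV, hiso⟩ := quot_nbhd (res U₁.ι i₁) (isMultTypeFT_bc U₁.ι hH)
    ((cIso U₁.ι M).inv ≫ (Over.pullback U₁.ι).map q₁) (isQuotient_res U₁.ι i₁ q₁ hq) K hKle
    t₁ eΩ₁ hfib₁
  refine ⟨U₁.ι ''ᵁ V, ?_, K, ?_⟩
  · obtain ⟨x⟩ : Nonempty (Spec (CommRingCat.of Ω)) := inferInstance
    refine ⟨t₁.base x, hV x, ?_⟩
    have h3 := pt_eq t s τ hτ x
    rw [← ht₁] at h3
    exact h3
  · have h1 : Red.IsSplitTorusWith K (Red.bc (V.ι ≫ U₁.ι) Q) :=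
      (split_bc_iff V.ι U₁.ι rfl Q K).1 hiso
    have hd : (U₁.ι.isoImage V).inv ≫ (V.ι ≫ U₁.ι) = (U₁.ι ''ᵁ V).ι :=
      Scheme.Hom.isoImage_inv_ι _ _
    exact split_of_comp (U₁.ι.isoImage V).inv (V.ι ≫ U₁.ι) hd Q K h1

end Stage2

end Groth.Agent.Lib.T2H7.QtBc
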