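import Groth.Agent.Lib.T2H7MtLocusC
import Groth.Agent.Lib.T2H3KernelSq
import Groth.Prelude.Def_RedSub

/-!
Exactness of `1 → D(N) → D(M) → D(K) → 1` for an exact sequence `0 → K → M → N → 0` of abelian
groups: the kernel square, and the quotient properties.
-/

set_option autoImplicit false
set_option linter.unusedSectionVars false
set_option linter.unusedVariables false
set_option linter.style.haveILetI false
universe u
open CategoryTheory CategoryTheory.Limits MonoidalCategory CartesianMonoidalCategory MonObj GrpObj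
  AlgebraicGeometry

namespace Groth.Agent.Lib.T2H7.DsExact

open Groth.Agent.Lib.T2H3.MultGa Groth.Agent.Lib.Helper27.GaGm
  Groth.Agent.Lib.T2H7.DiagDS Groth.Agent.Lib.T2H7.DiagHomA Groth.Agent.Lib.T2H7.DiagHomB
  Groth.Agent.Lib.T2H7.MtModel Groth.Agent.Lib.T2H7.MtLocus

section Points

variable {T : Scheme.{u}} {M : Type} [AddCommGroup M]

/-- points of `D_T(M)` with prescribed characters. -/
theorem exists_pt {Y : Over T} (c : Multiplicative M →* Γ(Y.left, ⊤)) :
    ∃ x : Y ⟶ Red.DS T M, ∀ m, dsFn x (sg m) = c (Multiplicative.ofAdd m) := by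
  let ζ : ULift.{u} ℤ →+* Γ(Y.left, ⊤) :=
    (Int.castRingHom _).comp ULift.ringEquiv.toRingHom
  obtain ⟨x, hx⟩ := exists_dsPt (T := T) (M := M) (Y := Y) (MultActAlg.ext ζ c)
  refine ⟨x, fun m => ?_⟩
  rw [hx]
  unfold sg
  rw [MultActAlg.ext_single, map_one, _root_.one_mul]

end Points

section Kernel

variable {T : Scheme.{u}} {K M N : Type} [AddCommGroup K] [AddCommGroup M] [AddCommGroup N]
  (inc : K →+ M) (pr : M →+ N) (hpr : Function.Surjective pr)
  (hex : ∀ m, pr m = 0 → ∃ k, inc k = m) (hzero : ∀ k, pr (inc k) = 0)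
  (dPr : Red.DS T N ⟶ Red.DS T M) (hdPr : ∀ m, dsFn dPr (sg m) = chr T (pr m))
  (dInc : Red.DS T M ⟶ Red.DS T K) (hdInc : ∀ k, dsFn dInc (sg k) = chr T (inc k))

include hex hdInc in
/-- a point of `D(M)` killed by `D(inc)` has characters depending only on the image in `N`. -/
theorem dsFn_eq_of_eq {Y : Over T} (y : Y ⟶ Red.DS T M) (hy : y ≫ dInc = 1) (m m' : M)
    (h : pr m = pr m') : dsFn y (sg m) = dsFn y (sg m') := by
  obtain ⟨k, hk⟩ := hex (m - m') (by rw [map_sub, h, sub_self])
  have h1 : dsFn y (sg (inc k)) = 1 := by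
    rw [← dsFn_comp_of_chr y dInc inc hdInc k, hy, dsFn_one_sg]
  have h2 : m = m' + inc k := by rw [hk]; abel
  rw [h2, sg_add, dsFn_mul, h1, _root_.mul_one]

include hpr hex hdPr hdInc in
/-- lifting a point of `D(M)` killed by `D(inc)` to `D(N)`. -/
theorem exists_lift {Y : Over T} (y : Y ⟶ Red.DS T M) (hy : y ≫ dInc = 1) :
    ∃ x : Y ⟶ Red.DS T N, x ≫ dPr = y := by
  have hkey := dsFn_eq_of_eq inc pr hex dInc hdInc y hy
  let c : Multiplicative N →* Γ(Y.left, ⊤) :=
    { toFun := fun n => dsFn y (sg (Function.surjInv hpr (Multiplicative.toAdd n)))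
      map_one' := by
        show dsFn y (sg (Function.surjInv hpr 0)) = 1
        rw [hkey _ 0 (by rw [Function.surjInv_eq hpr, map_zero]), sg_zero, dsFn_one]
      map_mul' := fun n n' => by
        show dsFn y (sg (Function.surjInv hpr (Multiplicative.toAdd n + Multiplicative.toAdd n')))
          = _
        rw [hkey _ (Function.surjInv hpr (Multiplicative.toAdd n) +
          Function.surjInv hpr (Multiplicative.toAdd n')) (by
            rw [map_add, Function.surjInv_eq hpr, Function.surjInv_eq hpr, Function.surjInv_eq hpr]),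
          sg_add, dsFn_mul] }
  obtain ⟨x, hx⟩ := exists_pt (T := T) c
  refine ⟨x, ?_⟩
  apply ds_ext'
  intro m
  rw [dsFn_comp_of_chr x dPr pr hdPr m, hx]
  show dsFn y (sg (Function.surjInv hpr (pr m))) = _
  exact hkey _ _ (Function.surjInv_eq hpr _)

include hpr hex hzero hdPr hdInc in
/-- **The kernel square**: `D(N)` is the kernel of `D(M) ⟶ D(K)`. -/
theorem isKernel : IsPullback dPr (toUnit (Red.DS T N)) dInc η[Red.DS T K] := by
  haveI : Mono dPr := mono_of_surj pr hpr dPr hdPr
  have hw : dPr ≫ dInc = toUnit (Red.DS T N) ≫ η[Red.DS T K] := by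
    rw [← Hom.one_def]
    apply ds_ext'
    intro k
    rw [dsFn_comp_of_chr dPr dInc inc hdInc k, hdPr, hzero, chr_zero, dsFn_one_sg]
  have hlift : ∀ s : PullbackCone dInc η[Red.DS T K], ∃ x : s.pt ⟶ Red.DS T N, x ≫ dPr = s.fst := by
    intro s
    refine exists_lift inc pr hpr hex dPr hdPr dInc hdInc s.fst ?_
    rw [s.condition, toUnit_unique s.snd (toUnit _), Hom.one_def]
  choose l hl using hlift
  refine ⟨⟨hw⟩, ⟨PullbackCone.IsLimit.mk hw l hl ?_ ?_⟩⟩
  · intro s
    exact toUnit_unique _ _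
  · intro s m h1 h2
    rw [← cancel_mono dPr, h1, hl]

end Kernel

section LFP

variable {K M : Type} [AddCommGroup K] [AddCommGroup M]

instance : IsNoetherianRing (ULift.{u} ℤ) :=
  isNoetherianRing_of_ringEquiv ℤ ULift.ringEquiv.symm

theorem Fψ_finitePresentation [AddGroup.FG K] [AddGroup.FG M] (inc : K →+ M) :
    (Fψ (ULift.{u} ℤ) inc).FinitePresentation := by
  haveI : Monoid.FG (Multiplicative M) := by
    rw [← AddMonoid.fg_iff_mul_fg]
    exact AddGroup.fg_iff_addMonoid_fg.1 inferInstance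
  haveI : Monoid.FG (Multiplicative K) := by
    rw [← AddMonoid.fg_iff_mul_fg]
    exact AddGroup.fg_iff_addMonoid_fg.1 inferInstance
  haveI : IsNoetherianRing (MonoidAlgebra (ULift.{u} ℤ) (Multiplicative K)) :=
    Algebra.FiniteType.isNoetherianRing (ULift.{u} ℤ) _
  rw [← RingHom.FinitePresentation.of_finiteType]
  have hcomp : (Fψ (ULift.{u} ℤ) inc).comp
      (algebraMap (ULift.{u} ℤ) (MonoidAlgebra (ULift.{u} ℤ) (Multiplicative K))) =
      algebraMap (ULift.{u} ℤ) (MonoidAlgebra (ULift.{u} ℤ) (Multiplicative M)) := by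
    refine RingHom.ext fun r => ?_
    show Fψ _ inc (algebraMap _ _ r) = algebraMap _ _ r
    rw [MonoidAlgebra.coe_algebraMap, MonoidAlgebra.coe_algebraMap]
    show Fψ _ inc (MonoidAlgebra.single (Multiplicative.ofAdd (0 : K)) _) = _
    rw [Fψ_single, map_zero]
    rfl
  refine RingHom.FiniteType.of_comp_finiteType (f := algebraMap (ULift.{u} ℤ) _) ?_
  rw [hcomp]
  rw [RingHom.finiteType_algebraMap]
  infer_instance

/-- `D(ψ)` is locally of finite presentation for finitely generated groups. -/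
theorem lfp_of_fg [AddGroup.FG K] [AddGroup.FG M] {T : Scheme.{u}} (inc : K →+ M)
    (δ : Red.DS T M ⟶ Red.DS T K) (hδ : ∀ k, dsFn δ (sg k) = chr T (inc k)) :
    LocallyOfFinitePresentation δ.left := by
  obtain ⟨δ₀, -, hδ₀⟩ := exists_dsHom (T := Spec (CommRingCat.of (ULift.{u} ℤ))) inc
  have h0 : LocallyOfFinitePresentation δ₀.left := by
    obtain ⟨aN, aM, haN, haM, he⟩ := arrow_eq inc δ₀ hδ₀
    haveI : IsIso aN.left := inferInstanceAs (IsIso ((Over.forget _).map aN))
    haveI : IsIso aM.left := inferInstanceAs (IsIso ((Over.forget _).map aM))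
    obtain ⟨b, hb⟩ : ∃ b : Spec (CommRingCat.of (MonoidAlgebra (ULift.{u} ℤ) (Multiplicative K))) ⟶
        (Red.DS (Spec (CommRingCat.of (ULift.{u} ℤ))) K).left, b = aM.left := ⟨_, rfl⟩
    haveI : IsIso b := by rw [hb]; exact ‹IsIso aM.left›
    have he' : aN.left ≫ δ₀.left = Spec.map (CommRingCat.ofHom (Fψ (ULift.{u} ℤ) inc)) ≫ b := by
      rw [hb]; exact he
    have h1 := MorphismProperty.cancel_left_of_respectsIso (P := @LocallyOfFinitePresentation.{u})
      aN.left δ₀.left
    have h2 := MorphismProperty.cancel_right_of_respectsIso (P := @LocallyOfFinitePresentation.{u})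
      (Spec.map (CommRingCat.ofHom (Fψ (ULift.{u} ℤ) inc))) b
    rw [he'] at h1
    refine (h1.symm.trans h2).2 ?_
    rw [HasRingHomProperty.Spec_iff (P := @LocallyOfFinitePresentation)]
    exact Fψ_finitePresentation inc
  obtain ⟨p, hp⟩ : ∃ p : T ⟶ Spec (CommRingCat.of (ULift.{u} ℤ)),
      p = specULiftZIsTerminal.from T := ⟨_, rfl⟩
  have h1 := OverDescP.bc (@LocallyOfFinitePresentation.{u}) p δ₀ h0
  have e : δ = (cIso p M).inv ≫ (Over.pullback p).map δ₀ ≫ (cIso p K).hom := by
    apply ds_ext'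
    intro m
    rw [hδ, dsFn_bc p inc δ₀ hδ₀ m]
  rw [e, Over.comp_left, Over.comp_left]
  haveI : IsIso (cIso p M).inv.left := inferInstanceAs (IsIso ((Over.forget _).map (cIso p M).inv))
  haveI : IsIso (cIso p K).hom.left := inferInstanceAs (IsIso ((Over.forget _).map (cIso p K).hom))
  rw [MorphismProperty.cancel_left_of_respectsIso (P := @LocallyOfFinitePresentation.{u}),
    MorphismProperty.cancel_right_of_respectsIso (P := @LocallyOfFinitePresentation.{u})]
  exact h1

end LFP

section Quotient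

variable {T : Scheme.{u}} {K M N : Type} [AddCommGroup K] [AddCommGroup M] [AddCommGroup N]
  [AddGroup.FG K] [AddGroup.FG M]
  (inc : K →+ M) (pr : M →+ N) (hinc : Function.Injective inc) (hpr : Function.Surjective pr)
  (hex : ∀ m, pr m = 0 → ∃ k, inc k = m) (hzero : ∀ k, pr (inc k) = 0)
  (dPr : Red.DS T N ⟶ Red.DS T M) (hdPr : ∀ m, dsFn dPr (sg m) = chr T (pr m))
  (dInc : Red.DS T M ⟶ Red.DS T K) (hdInc : ∀ k, dsFn dInc (sg k) = chr T (inc k))

include hinc hpr hex hzero hdPr hdInc in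
/-- **`D(M) ⟶ D(K)` is the fppf quotient of `D(M)` by `D(N)`.** -/
theorem isQuotient : RedSub.IsQuotient dPr dInc := by
  haveI : IsMonHom dInc := isMonHom_of_chr inc dInc hdInc
  have hff := ff_of_inj inc hinc dInc hdInc
  refine ⟨hff.2, hff.1, lfp_of_fg inc dInc hdInc, ?_⟩
  exact Groth.Agent.Lib.T2H3.KernelSq.isPullback_of_kernel dPr dInc
    (isKernel inc pr hpr hex hzero dPr hdPr dInc hdInc)

end Quotient

end Groth.Agent.Lib.T2H7.DsExact
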