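import Groth.Agent.Lib.Helper12QuotGrp
import Groth.Prelude.Def_RedSub

/-!
Uniqueness of fppf quotients of a group by a subgroup.
-/

set_option autoImplicit false
set_option linter.unusedSectionVars false
set_option linter.unusedVariables false
set_option linter.style.haveILetI false
universe u
open CategoryTheory CategoryTheory.Limits MonoidalCategory CartesianMonoidalCategory MonObj GrpObj
  AlgebraicGeometry

namespace Groth.Agent.Lib.T2H7.QuotUniq

open Groth.Agent.Lib.Helper12.QuotGrp Groth.Agent.Lib.Helper12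

variable {S : Scheme.{u}} {G H Q Q' : Over S} [GrpObj G] [GrpObj H]

theorem isCov_of_isQuotient (i : H ⟶ G) (q : G ⟶ Q) (hq : RedSub.IsQuotient i q) : IsCov q := by
  haveI := hq.1
  haveI := hq.2.1
  haveI := hq.2.2.1
  exact IsCov.of_fppf q

/-- a morphism constant on the cosets descends to the quotient. -/
theorem exists_desc (i : H ⟶ G) (q : G ⟶ Q) (hq : RedSub.IsQuotient i q) {W : Over S}
    (g : G ⟶ W) (hg : fst G H ≫ g = ((G ◁ i) ≫ μ[G]) ≫ g) : ∃ f : Q ⟶ W, q ≫ f = g := by
  haveI := (isCov_of_isQuotient i q hq).effectiveEpi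
  exact exists_desc_of_isPullback q hq.2.2.2 g hg

variable [GrpObj Q] [GrpObj Q']

/-- a morphism between quotients compatible with homomorphic quotient maps is a homomorphism. -/
theorem isMonHom_of_comp (i : H ⟶ G) (q : G ⟶ Q) (hq : RedSub.IsQuotient i q) [IsMonHom q]
    (q' : G ⟶ Q') [IsMonHom q'] (f : Q ⟶ Q') (hf : q ≫ f = q') : IsMonHom f := by
  have hc := isCov_of_isQuotient i q hq
  haveI := hc.epi
  haveI := hc.epi_tensorHom hc
  refine ⟨?_, ?_⟩
  · rw [← IsMonHom.one_hom q, Category.assoc, hf, IsMonHom.one_hom q']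
  · rw [← cancel_epi (q ⊗ₘ q), ← Category.assoc, ← IsMonHom.mul_hom q, Category.assoc, hf,
      IsMonHom.mul_hom q', ← Category.assoc, tensorHom_comp_tensorHom, hf]

/-- **Uniqueness of quotients.** -/
theorem exists_iso (i : H ⟶ G) (q : G ⟶ Q) (hq : RedSub.IsQuotient i q) [IsMonHom q]
    (q' : G ⟶ Q') (hq' : RedSub.IsQuotient i q') [IsMonHom q'] :
    ∃ e : Q ≅ Q', IsMonHom e.hom ∧ q ≫ e.hom = q' := by
  obtain ⟨f, hf⟩ := exists_desc i q hq q' hq'.2.2.2.w
  obtain ⟨f', hf'⟩ := exists_desc i q' hq' q hq.2.2.2.w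
  haveI := (isCov_of_isQuotient i q hq).epi
  haveI := (isCov_of_isQuotient i q' hq').epi
  refine ⟨⟨f, f', ?_, ?_⟩, isMonHom_of_comp i q hq q' f hf, hf⟩
  · rw [← cancel_epi q, ← Category.assoc, hf, hf', Category.comp_id]
  · rw [← cancel_epi q', ← Category.assoc, hf', hf, Category.comp_id]

end Groth.Agent.Lib.T2H7.QuotUniq
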