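import Groth.Agent.Lib.T2H7MtLocusG
import Groth.Agent.Lib.T2H7DsExact
import Groth.Agent.Lib.T2H7QuotUniq

/-!
Quotients of a split torus (more generally of a diagonalisable group) by a subgroup of
multiplicative type over a connected base, part A: the group of characters killing the subgroup.
-/

set_option autoImplicit false
set_option linter.unusedSectionVars false
set_option linter.unusedVariables false
set_option linter.style.haveILetI false
universe u
open CategoryTheory CategoryTheory.Limits MonoidalCategory CartesianMonoidalCategory MonObj GrpObj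
  AlgebraicGeometry

namespace Groth.Agent.Lib.T2H7.QuotSplit

open Groth.Agent.Lib.T2H3.MultGa Groth.Agent.Lib.Helper27.GaGm
  Groth.Agent.Lib.T2H7.DiagDS Groth.Agent.Lib.T2H7.DiagHomA Groth.Agent.Lib.T2H7.DiagHomB
  Groth.Agent.Lib.T2H7.GrpIsoBC Groth.Agent.Lib.T2H7.ToriMono Groth.Agent.Lib.T2H7.MtModel
  Groth.Agent.Lib.T2H7.MtLocus

section MultType

/-- diagonalisable groups of finite type are of multiplicative type. -/
theorem isMultTypeFT_DS (S : Scheme.{u}) (A : Type) [AddCommGroup A] [AddGroup.FG A] :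
    SGA3x.IsMultTypeFT (Red.DS S A) := by
  refine ⟨S, 𝟙 S, inferInstance, inferInstance, fun V hV => ⟨V, hV.isCompact, by simp⟩,
    fun s => ⟨⊤, trivial, A, inferInstance, inferInstance, ?_⟩⟩
  exact bc_DS_grpIso _ A

end MultType

section Chars

variable {S : Scheme.{u}} {M : Type} [AddCommGroup M]

/-- the character `χ_m : D_S(M) ⟶ 𝔾_m = D_S(ℤ)`. -/
noncomputable def chi (S : Scheme.{u}) (m : M) : Red.DS S M ⟶ Red.DS S ℤ :=
  Classical.choose (exists_dsHom (T := S) (zmultiplesHom M m))

instance (m : M) : IsMonHom (chi S m) :=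
  (Classical.choose_spec (exists_dsHom (T := S) (zmultiplesHom M m))).1

theorem dsFn_chi (m : M) (n : ℤ) : dsFn (chi S m) (sg n) = chr S (n • m) :=
  (Classical.choose_spec (exists_dsHom (T := S) (zmultiplesHom M m))).2 n

variable {H : Over S} [GrpObj H] (i₁ : H ⟶ Red.DS S M)

/-- the characters of `D_S(M)` which are trivial on `H`. -/
def Kgrp : AddSubgroup M where
  carrier := {m | dsFn i₁ (sg m) = 1}
  zero_mem' := by
    show dsFn i₁ (sg 0) = 1
    rw [sg_zero, dsFn_one]
  add_mem' := by
    intro a b (ha : dsFn i₁ (sg a) = 1) (hb : dsFn i₁ (sg b) = 1)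
    show dsFn i₁ (sg (a + b)) = 1
    rw [sg_add, dsFn_mul, ha, hb, _root_.mul_one]
  neg_mem' := by
    intro a (ha : dsFn i₁ (sg a) = 1)
    show dsFn i₁ (sg (-a)) = 1
    have h : dsFn i₁ (sg a) * dsFn i₁ (sg (-a)) = 1 := by
      rw [← dsFn_mul, ← sg_add, add_neg_cancel, sg_zero, dsFn_one]
    rw [ha, _root_.one_mul] at h
    exact h

theorem mem_Kgrp (m : M) : m ∈ Kgrp i₁ ↔ dsFn i₁ (sg m) = 1 := Iff.rfl

theorem comp_chi_eq_one_iff (m : M) : i₁ ≫ chi S m = 1 ↔ m ∈ Kgrp i₁ := by
  constructor
  · intro h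
    have h1 := dsFn_comp_of_chr i₁ (chi S m) (zmultiplesHom M m) (dsFn_chi m) 1
    rw [h, dsFn_one_sg] at h1
    show dsFn i₁ (sg m) = 1
    rw [h1]
    simp
  · intro hm
    apply ds_ext'
    intro n
    rw [dsFn_comp_of_chr i₁ (chi S m) (zmultiplesHom M m) (dsFn_chi m) n, dsFn_one_sg]
    exact (Kgrp i₁).zsmul_mem hm n

end Chars

section Const

open Groth.Agent.Lib.T2H7.MtLocusG

variable {S : Scheme.{u}} {M : Type} [AddCommGroup M] {H : Over S} [GrpObj H]
  (i₁ : H ⟶ Red.DS S M) [IsMonHom i₁]

/-- a homomorphism which is trivial over the open `⊤` is trivial. -/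
theorem eq_one_of_top {G G' : Over S} [GrpObj G] [GrpObj G'] (v : G ⟶ G') (U : S.Opens)
    (hU : (U : Set S) = Set.univ) (h : (Over.pullback U.ι).map v = 1) : v = 1 := by
  have hcov : TopologicalSpace.IsOpenCover (fun _ : Unit => U) := by
    apply TopologicalSpace.IsOpenCover.mk
    ext x
    simp only [TopologicalSpace.Opens.coe_iSup, Set.mem_iUnion, SetLike.mem_coe,
      TopologicalSpace.Opens.coe_top, Set.mem_univ, iff_true]
    exact ⟨(), by rw [← SetLike.mem_coe, hU]; trivial⟩
  refine EqDesc.eq_of_openCover (S.openCoverOfIsOpenCover (fun _ : Unit => U) hcov) v 1 fun _ => ?_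
  show (Over.pullback U.ι).map v = (Over.pullback U.ι).map 1
  rw [h, Functor.map_one]

/-- **Over a connected base, the group of characters killing `H` is the same on every fibre.** -/
theorem const_of_connected [ConnectedSpace ↥S] (hH : SGA3x.IsMultTypeFT H) (s : S) (m : M) :
    (Over.pullback (S.fromSpecResidueField s)).map (i₁ ≫ chi S m) = 1 ↔ m ∈ Kgrp i₁ := by
  obtain ⟨U, hUc, hU1, hU2⟩ := locus_trivial (i₁ ≫ chi S m) hH (isMultTypeFT_DS S ℤ)
  have hclopen : IsClopen (U : Set S) := ⟨hUc, U.2⟩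
  rw [← comp_chi_eq_one_iff]
  rcases isClopen_iff.1 hclopen with h0 | h1
  · have hs : ∀ s' : S, ¬ s' ∈ U := by
      intro s' hs'
      have : s' ∈ (U : Set S) := hs'
      rw [h0] at this
      exact this
    constructor
    · intro h
      exact absurd ((hU1 s).2 h) (hs s)
    · intro h
      rw [h, Functor.map_one]
  · have hone : i₁ ≫ chi S m = 1 := eq_one_of_top _ U h1 hU2
    constructor
    · intro _
      exact hone
    · intro _
      rw [hone, Functor.map_one]

end Const

end Groth.Agent.Lib.T2H7.QuotSplit
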