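import Groth.Agent.Lib.T2H7MtLocusG
import Groth.Agent.Lib.T2H7MtLocusC
import Groth.Agent.Lib.T2H7QtBcB
import Groth.Agent.Lib.T2H7QuotSplitA
import Groth.Agent.Lib.T2H3WittNoTorus

/-!
A character of a torus is faithfully flat if and only if it is non-trivial on every geometric fibre.
-/

set_option autoImplicit false
set_option linter.unusedSectionVars false
set_option linter.unusedVariables false
set_option linter.style.haveILetI false
universe u
open CategoryTheory CategoryTheory.Limits MonoidalCategory CartesianMonoidalCategory MonObj GrpObj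
  AlgebraicGeometry

namespace Groth.Agent.Lib.T2H7.CharFF

open Groth.Agent.Lib.T2H3.MultGa Groth.Agent.Lib.Helper27.GaGm
  Groth.Agent.Lib.T2H7.DiagDS Groth.Agent.Lib.T2H7.DiagHomA Groth.Agent.Lib.T2H7.DiagHomB
  Groth.Agent.Lib.T2H7.GrpIsoBC Groth.Agent.Lib.T2H7.ToriMono Groth.Agent.Lib.T2H7.MtModel
  Groth.Agent.Lib.T2H7.MtLocus Groth.Agent.Lib.T2H7.QtBc

variable {S : Scheme.{u}} {T : Over S} [GrpObj T]

/-- around every point of the base a character of a torus has a model `ℤ → ℤ^r`. -/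
theorem exists_model (hT : Red.IsTorus T) (α : T ⟶ Red.Gm S) [IsMonHom α] (s : S) :
    ∃ (Z : Scheme.{u}) (g : Z ⟶ S) (z : Z) (r : ℕ) (ψ : ℤ →+ (Fin r → ℤ)),
      g z = s ∧ IsModel α g ψ := by
  obtain ⟨S', f, hfl, hsj, hcov, hloc⟩ := hT
  obtain ⟨s', hs'⟩ := hsj.surj s
  obtain ⟨U, hs'U, r, hsp⟩ := hloc s'
  obtain ⟨x₀, hx₀⟩ : ∃ x₀ : U.toScheme, U.ι x₀ = s' := ⟨⟨s', hs'U⟩, rfl⟩
  obtain ⟨_, ⟨W, hW, rfl⟩, hxW, -⟩ :=
    (U.toScheme).isBasis_affineOpens.exists_subset_of_mem_open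
      (show x₀ ∈ ((⊤ : U.toScheme.Opens) : Set _) from trivial)
      (⊤ : U.toScheme.Opens).2
  have hW' : IsAffineOpen W := hW
  obtain ⟨g₀, hg₀⟩ : ∃ g₀ : Spec (CommRingCat.of ↑Γ(U.toScheme, W)) ⟶ S,
      g₀ = hW'.fromSpec ≫ U.ι ≫ f := ⟨_, rfl⟩
  have hsp' : Red.IsSplitTorusWith (Fin r → ℤ) (Red.bc g₀ T) :=
    split_of_comp hW'.fromSpec (U.ι ≫ f) hg₀.symm T _ hsp
  obtain ⟨eG, heG⟩ := (nonempty_grpIso_iff _ _).1 hsp'
  haveI := heG
  obtain ⟨x, hx⟩ : ∃ x, hW'.fromSpec x = x₀ := by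
    have : x₀ ∈ Set.range hW'.fromSpec := by
      rw [hW'.range_fromSpec]
      exact hxW
    exact this
  obtain ⟨r', hr', ψ, hmod⟩ := exists_model_at_prime (R := ↑Γ(U.toScheme, W)) α g₀ eG
    (cIso g₀ ℤ) x
  obtain ⟨w, hw⟩ := mem_range_away r' x hr'
  refine ⟨_, _, w, r, ψ, ?_, hmod⟩
  have e2 : g₀ x = s := by
    have e3 : g₀ x = f (U.ι (hW'.fromSpec x)) := by
      rw [hg₀]
      rfl
    rw [e3, hx, hx₀]
    exact hs'
  exact (congrArg g₀ hw).trans e2

theorem zero_or_injective {r : ℕ} (ψ : ℤ →+ (Fin r → ℤ)) :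
    (ψ = 0 ∧ ¬ Function.Injective ψ) ∨ (ψ ≠ 0 ∧ Function.Injective ψ) := by
  by_cases h : ψ = 0
  · refine Or.inl ⟨h, fun hinj => ?_⟩
    have : (1 : ℤ) = 0 := hinj (by rw [h]; rfl)
    exact one_ne_zero this
  · refine Or.inr ⟨h, ?_⟩
    have h1 : ψ 1 ≠ 0 := by
      intro h1
      apply h
      ext1
      simpa using h1
    rw [injective_iff_map_eq_zero]
    intro n hn
    have h2 : ψ n = n • ψ 1 := by
      have := map_zsmul ψ n (1 : ℤ)
      simpa using this
    rw [h2] at hn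
    rcases smul_eq_zero.1 hn with h3 | h3
    · exact h3
    · exact absurd h3 h1

/-- **Dichotomy**: on every fibre a character of a torus is trivial or faithfully flat. -/
theorem dichotomy (hT : Red.IsTorus T) (α : T ⟶ Red.Gm S) [IsMonHom α] (s : S) :
    ((Over.pullback (S.fromSpecResidueField s)).map α = 1 ∧
      ¬ (@Flat ⊓ @Surjective : MorphismProperty Scheme.{u})
        ((Over.pullback (S.fromSpecResidueField s)).map α).left) ∨
    ((Over.pullback (S.fromSpecResidueField s)).map α ≠ 1 ∧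
      (@Flat ⊓ @Surjective : MorphismProperty Scheme.{u})
        ((Over.pullback (S.fromSpecResidueField s)).map α).left) := by
  obtain ⟨Z, g, z, r, ψ, hgz, hmod⟩ := exists_model hT α s
  have hE : ∀ {Z : Scheme.{u}} (g : Z ⟶ S), EqDesc.E α 1 g ↔ (Over.pullback g).map α = 1 := by
    intro Z g
    unfold EqDesc.E
    rw [Functor.map_one]
  have h1 := Groth.Agent.Lib.T2H7.MtLocusG.mem_iff_of_isModel α
    (fun {Z} g => EqDesc.E α 1 g)
    (fun g p h => h.precomp p rfl)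
    (fun g p hfl hsj hqc h => by
      haveI := hfl
      haveI := hsj
      haveI := hqc
      exact EqDesc.E.of_faithful p rfl h)
    (fun {A B} _ _ ψ => ψ = 0)
    (fun {Z} g {A B} _ _ ψ hmod hψ =>
      (hE g).2 (Groth.Agent.Lib.T2H7.MtLocusG.triv_of_isModel α g ψ hmod hψ))
    (fun k _ g {A B} _ _ ψ hmod h =>
      Groth.Agent.Lib.T2H7.MtLocusG.eq_zero_of_isModel α g ψ hmod ((hE g).1 h))
    g ψ hmod z
  have h2 := Groth.Agent.Lib.T2H7.MtLocus.mem_iff_of_isModel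
    (@Flat ⊓ @Surjective : MorphismProperty Scheme.{u})
    (fun {A B} _ _ ψ => Function.Injective ψ)
    (fun T {A B} _ _ ψ δ hδ hQ => ff_of_inj ψ hQ δ hδ)
    (fun k _ {A B} _ _ ψ δ hδ hP => inj_of_ff ψ δ hδ hP)
    α g ψ hmod z
  rw [hgz] at h1 h2
  rw [hE] at h1
  rcases zero_or_injective ψ with ⟨h0, hni⟩ | ⟨h0, hi⟩
  · exact Or.inl ⟨h1.2 h0, fun h => hni (h2.1 h)⟩
  · exact Or.inr ⟨fun h => h0 (h1.1 h), h2.2 hi⟩

/-- triviality on the geometric fibre is triviality on the fibre. -/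
theorem geom_iff (α : T ⟶ Red.Gm S) (s : S) :
    (Over.pullback (Red.geomPt s)).map α = 1 ↔
      (Over.pullback (S.fromSpecResidueField s)).map α = 1 := by
  have hE : ∀ {Z : Scheme.{u}} (g : Z ⟶ S), EqDesc.E α 1 g ↔ (Over.pullback g).map α = 1 := by
    intro Z g
    unfold EqDesc.E
    rw [Functor.map_one]
  rw [← hE, ← hE]
  obtain ⟨hfl, hsj, hqc⟩ := field_fpqc (K := ↑(S.residueField s))
    (L := AlgebraicClosure ↑(S.residueField s))
    (algebraMap (S.residueField s) (AlgebraicClosure (S.residueField s)))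
  haveI := hfl
  haveI := hsj
  haveI := hqc
  constructor
  · intro h
    exact EqDesc.E.of_faithful (Spec.map (CommRingCat.ofHom
      (algebraMap (S.residueField s) (AlgebraicClosure (S.residueField s))))) rfl h
  · intro h
    exact h.precomp _ rfl

/-- **S5421.** -/
theorem main (hT : Red.IsTorus T) (α : T ⟶ Red.Gm S) [IsMonHom α] :
    ((∀ s : S, (Over.pullback (Red.geomPt s)).map α ≠ 1) ↔
      (∀ (S' : Scheme.{u}) (g : S' ⟶ S), Nonempty ↥S' → (Over.pullback g).map α ≠ 1)) ∧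
    ((∀ s : S, (Over.pullback (Red.geomPt s)).map α ≠ 1) ↔
      (Flat α.left ∧ Surjective α.left)) := by
  have hE : ∀ {Z : Scheme.{u}} (g : Z ⟶ S), EqDesc.E α 1 g ↔ (Over.pullback g).map α = 1 := by
    intro Z g
    unfold EqDesc.E
    rw [Functor.map_one]
  refine ⟨⟨?_, ?_⟩, ⟨?_, ?_⟩⟩
  · intro h S' g hne hα
    obtain ⟨s'⟩ := hne
    have h1 : EqDesc.E α 1 (S'.fromSpecResidueField s' ≫ g) := ((hE g).2 hα).precomp _ rfl
    obtain ⟨s₀, τ, hτ, hτfl, hτsj, hτqc⟩ := field_point_factor (S'.fromSpecResidueField s' ≫ g)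
    haveI := hτfl
    haveI := hτsj
    haveI := hτqc
    have h2 : EqDesc.E α 1 (S.fromSpecResidueField s₀) := EqDesc.E.of_faithful τ hτ h1
    exact h s₀ ((geom_iff α s₀).2 ((hE _).1 h2))
  · intro h s
    exact h _ (Red.geomPt s) ⟨default⟩
  · intro h
    obtain ⟨U, hUc, hU1, hUff⟩ := locus_ff T (Red.Gm S)
      (Groth.Agent.Lib.T2H3.WittNoTorus.isMultTypeFT_of_isTorus T hT)
      (Groth.Agent.Lib.T2H7.QuotSplit.isMultTypeFT_DS S ℤ) α
    have hall : ∀ s : S, s ∈ U := by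
      intro s
      rcases dichotomy hT α s with ⟨h1, -⟩ | ⟨-, h2⟩
      · exact absurd ((geom_iff α s).2 h1) (h s)
      · exact (hU1 s).2 h2
    have hP : (@Flat ⊓ @Surjective : MorphismProperty Scheme.{u}) α.left := by
      apply OverDescP.of_forall_exists (@Flat ⊓ @Surjective : MorphismProperty Scheme.{u})
      intro x
      refine ⟨U, U.ι, inferInstance, ?_, hUff⟩
      rw [Scheme.Opens.range_ι]
      exact hall x
    exact hP
  · rintro ⟨hfl, hsj⟩ s hα
    have hP : (@Flat ⊓ @Surjective : MorphismProperty Scheme.{u})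
        ((Over.pullback (S.fromSpecResidueField s)).map α).left :=
      OverDescP.bc (@Flat ⊓ @Surjective : MorphismProperty Scheme.{u}) _ α ⟨hfl, hsj⟩
    rcases dichotomy hT α s with ⟨-, h2⟩ | ⟨h1, -⟩
    · exact h2 hP
    · exact h1 ((geom_iff α s).1 hα)

end Groth.Agent.Lib.T2H7.CharFF
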