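import Mathlib

/-!
# Finiteness of the algebra generated by coefficients of characteristic polynomials

Helper library for S4432 (seat helper7).
-/

set_option autoImplicit false

namespace Groth.Agent.Lib.T2H7.CharpolyFG

open Polynomial Matrix

section DetExpand

variable {K : Type*} [CommRing K] {n : Type*} [Fintype n] [DecidableEq n]

/-- multilinear expansion of `det (X P - Q)` along rows -/
theorem det_X_mul_sub (P Q : Matrix n n K) :
    Matrix.det (Matrix.of fun i j => (X : K[X]) * C (P i j) - C (Q i j)) =
      ∑ s : Finset n, X ^ s.card * (-1) ^ (Finset.univ.filter (fun i => i ∉ s)).card *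
        C (Matrix.det (Matrix.of (s.piecewise P Q))) := by
  classical
  have h0 : (Matrix.of fun i j => (X : K[X]) * C (P i j) - C (Q i j)) =
      (fun i => (X : K[X]) • (fun j => C (P i j))) + (fun i => (-1 : K[X]) • (fun j => C (Q i j))) := by
    ext i j
    simp [sub_eq_add_neg]
  have h1 := (Matrix.detRowAlternating (R := K[X]) (n := n)).toMultilinearMap.map_add_univ
    (fun i => (X : K[X]) • (fun j => C (P i j))) (fun i => (-1 : K[X]) • (fun j => C (Q i j)))
  have h2 : Matrix.det (Matrix.of fun i j => (X : K[X]) * C (P i j) - C (Q i j)) =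
      (Matrix.detRowAlternating (R := K[X]) (n := n)).toMultilinearMap
        ((fun i => (X : K[X]) • (fun j => C (P i j))) + (fun i => (-1 : K[X]) • (fun j => C (Q i j)))) := by
    rw [h0]
    rfl
  rw [h2, h1]
  refine Finset.sum_congr rfl fun s _ => ?_
  have h3 : s.piecewise (fun i => (X : K[X]) • (fun j => C (P i j)))
      (fun i => (-1 : K[X]) • (fun j => C (Q i j))) =
      fun i => (if i ∈ s then (X : K[X]) else -1) • (fun j => C (s.piecewise P Q i j)) := by
    ext i j
    by_cases hi : i ∈ s
    · simp [hi]
    · simp [hi]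
  rw [h3, MultilinearMap.map_smul_univ, Finset.prod_ite, Finset.prod_const, Finset.prod_const,
    Finset.filter_mem_eq_inter, Finset.univ_inter, smul_eq_mul]
  congr 1
  have h4 : (fun i j => C (s.piecewise P Q i j)) = (C : K →+* K[X]).mapMatrix (Matrix.of (s.piecewise P Q)) := by
    ext i j
    rfl
  rw [h4]
  exact (RingHom.map_det _ _).symm

end DetExpand

section Stable

variable {A K : Type*} [CommRing A] [CommRing K] [Algebra A K]
  {V : Type*} [AddCommGroup V] [Module K V] [Module A V]
  {E : Type*} [AddCommGroup E] [Module A E]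
  {n : Type*} [Fintype n] [DecidableEq n]
  (β : Module.Basis n K V) (ι : E →ₗ[A] V)

/-- the `A`-module spanned by the determinants of `n`-tuples from `E` -/
def detMod : Submodule A K :=
  Submodule.span A (Set.range fun e : n → E => β.det (fun j => ι (e j)))

theorem det_mem_detMod (e : n → E) : β.det (fun j => ι (e j)) ∈ detMod β ι :=
  Submodule.subset_span ⟨e, rfl⟩

theorem coeff_charpoly_mul_det_mem [Module.Free K V] [Module.Finite K V]
    (v : E →ₗ[A] E) (vK : V →ₗ[K] V) (hv : ∀ e, vK (ι e) = ι (v e))
    (j : ℕ) (e : n → E) : vK.charpoly.coeff j * β.det (fun j => ι (e j)) ∈ detMod β ι := by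
  classical
  set M := LinearMap.toMatrix β β vK with hM
  set P := β.toMatrix (fun j => ι (e j)) with hP
  set Q := β.toMatrix (fun j => ι (v (e j))) with hQ
  have hMP : M * P = Q := by
    ext i k
    have h1 := LinearMap.toMatrix_mulVec_repr β β vK (ι (e k))
    have h2 := congrFun h1 i
    rw [hv] at h2
    rw [hQ, Module.Basis.toMatrix_apply, ← h2]
    rfl
  have h3 : vK.charpoly = Matrix.det (Matrix.charmatrix M) := by
    rw [← LinearMap.charpoly_toMatrix vK β]
    rfl
  have h4 : Matrix.charmatrix M * (C : K →+* K[X]).mapMatrix P =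
      Matrix.of fun i k => (X : K[X]) * C (P i k) - C (Q i k) := by
    rw [← hMP]
    ext i k
    rw [Matrix.mul_apply]
    simp only [Matrix.charmatrix_apply, sub_mul, Finset.sum_sub_distrib, Matrix.of_apply,
      RingHom.mapMatrix_apply, Matrix.map_apply, Matrix.mul_apply, map_sum, map_mul]
    congr 1
    rw [Finset.sum_eq_single i]
    · rw [Matrix.diagonal_apply_eq]
    · intro b _ hb
      rw [Matrix.diagonal_apply_ne _ hb.symm, zero_mul]
    · intro h
      exact absurd (Finset.mem_univ i) h
  have h5 : vK.charpoly * C (β.det (fun j => ι (e j))) =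
      ∑ s : Finset n, X ^ s.card * (-1) ^ (Finset.univ.filter (fun i => i ∉ s)).card *
        C (β.det (fun j => ι (s.piecewise e (fun j => v (e j)) j))) := by
    rw [h3, Module.Basis.det_apply, ← hP]
    have h6 : (C : K →+* K[X]) (Matrix.det P) = Matrix.det ((C : K →+* K[X]).mapMatrix P) :=
      RingHom.map_det _ _
    rw [h6, ← Matrix.det_mul, h4, ← Matrix.det_transpose]
    have h7 : (Matrix.of fun i k => (X : K[X]) * C (P i k) - C (Q i k))ᵀ =
        Matrix.of fun i k => (X : K[X]) * C (Pᵀ i k) - C (Qᵀ i k) := by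
      ext i k
      rfl
    rw [h7, det_X_mul_sub]
    refine Finset.sum_congr rfl fun s _ => ?_
    congr 2
    rw [Module.Basis.det_apply, ← Matrix.det_transpose]
    congr 1
    ext i k
    by_cases hk : k ∈ s
    · simp [Module.Basis.toMatrix_apply, hk, hP]
    · simp [Module.Basis.toMatrix_apply, hk, hQ]
  have h8 := congrArg (fun q : K[X] => q.coeff j) h5
  simp only [Polynomial.coeff_mul_C, Polynomial.finsetSum_coeff] at h8
  rw [h8]
  refine Submodule.sum_mem _ fun s _ => ?_
  have h9 : ((X : K[X]) ^ s.card * (-1) ^ (Finset.univ.filter (fun i => i ∉ s)).card).coeff j =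
      if j = s.card then (-1) ^ (Finset.univ.filter (fun i => i ∉ s)).card else 0 := by
    have h10 : ((-1 : K[X])) ^ (Finset.univ.filter (fun i => i ∉ s)).card =
        C ((-1 : K) ^ (Finset.univ.filter (fun i => i ∉ s)).card) := by
      rw [map_pow, map_neg, map_one]
    rw [h10, Polynomial.coeff_mul_C, Polynomial.coeff_X_pow]
    split_ifs <;> simp
  rw [h9]
  split_ifs
  · rcases neg_one_pow_eq_or K (Finset.univ.filter (fun i => i ∉ s)).card with h | h
    · rw [h, one_mul]
      exact det_mem_detMod β ι _
    · rw [h, neg_one_mul]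
      exact Submodule.neg_mem _ (det_mem_detMod β ι _)
  · rw [zero_mul]
    exact Submodule.zero_mem _

theorem coeff_charpoly_mul_mem [Module.Free K V] [Module.Finite K V]
    (v : E →ₗ[A] E) (vK : V →ₗ[K] V) (hv : ∀ e, vK (ι e) = ι (v e))
    (j : ℕ) (d : K) (hd : d ∈ detMod β ι) : vK.charpoly.coeff j * d ∈ detMod β ι := by
  induction hd using Submodule.span_induction with
  | mem x hx =>
    obtain ⟨e, rfl⟩ := hx
    exact coeff_charpoly_mul_det_mem β ι v vK hv j e
  | zero => rw [mul_zero]; exact Submodule.zero_mem _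
  | add x y _ _ hx hy => rw [mul_add]; exact Submodule.add_mem _ hx hy
  | smul a x _ hx => rw [mul_smul_comm]; exact Submodule.smul_mem _ a hx

end Stable

section Loc

variable {A K : Type*} [CommRing A] [CommRing K] [Algebra A K]
  {V : Type*} [AddCommGroup V] [Module K V] [Module A V] [IsScalarTower A K V]
  {E : Type*} [AddCommGroup E] [Module A E]
  {n : Type*} [Fintype n] [DecidableEq n]
  (β : Module.Basis n K V) (ι : E →ₗ[A] V)

omit [DecidableEq n] in
theorem exists_common_denominator (S : Submonoid A) [IsLocalization S K] [Module.Finite A E] :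
    ∃ b : S, ∀ (e : E) (i : n), IsLocalization.IsInteger A ((b : A) • β.repr (ι e) i) := by
  classical
  obtain ⟨G, hG⟩ := (Module.Finite.fg_top : (⊤ : Submodule A E).FG)
  obtain ⟨b, hb⟩ := IsLocalization.exist_integer_multiples_of_finset S
    ((G ×ˢ (Finset.univ : Finset n)).image fun x => β.repr (ι x.1) x.2)
  refine ⟨b, fun e i => ?_⟩
  have he : e ∈ Submodule.span A (G : Set E) := by rw [hG]; trivial
  induction he using Submodule.span_induction with
  | mem x hx =>
    exact hb _ (Finset.mem_image.mpr ⟨(x, i), Finset.mem_product.mpr ⟨hx, Finset.mem_univ _⟩, rfl⟩)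
  | zero =>
    rw [map_zero, map_zero, Finsupp.zero_apply, smul_zero]
    exact IsLocalization.isInteger_zero
  | add x y _ _ hx hy =>
    rw [map_add, map_add, Finsupp.add_apply, smul_add]
    exact IsLocalization.isInteger_add hx hy
  | smul a x _ hx =>
    have h1 : β.repr (ι (a • x)) i = a • β.repr (ι x) i := by
      rw [map_smul, ← IsScalarTower.algebraMap_smul K a (ι x), map_smul, Finsupp.smul_apply,
        smul_eq_mul, Algebra.smul_def]
    rw [h1, smul_comm]
    exact IsLocalization.isInteger_smul hx

/-- the module of determinants sits inside a cyclic module -/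
theorem exists_detMod_le_span_singleton (S : Submonoid A) [IsLocalization S K] [Module.Finite A E] :
    ∃ w : K, detMod β ι ≤ Submodule.span A {w} := by
  classical
  obtain ⟨b, hb⟩ := exists_common_denominator β ι S
  have hu : IsUnit (algebraMap A K b) := IsLocalization.map_units K b
  obtain ⟨u, hu'⟩ := hu
  refine ⟨((u⁻¹ : Kˣ) : K) ^ Fintype.card n, ?_⟩
  unfold detMod
  rw [Submodule.span_le]
  rintro _ ⟨e, rfl⟩
  choose P' hP' using fun (i : n) (j : n) => hb (e j) i
  have h1 : (algebraMap A K b) • β.toMatrix (fun j => ι (e j)) =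
      (algebraMap A K).mapMatrix (Matrix.of P') := by
    ext i j
    rw [Matrix.smul_apply, Module.Basis.toMatrix_apply, RingHom.mapMatrix_apply, Matrix.map_apply,
      Matrix.of_apply, hP' i j, smul_eq_mul, Algebra.smul_def]
  have h2 : (algebraMap A K b) ^ Fintype.card n * β.det (fun j => ι (e j)) =
      algebraMap A K (Matrix.det (Matrix.of P')) := by
    rw [Module.Basis.det_apply, ← Matrix.det_smul, h1]
    exact (RingHom.map_det _ _).symm
  have h3 : β.det (fun j => ι (e j)) =
      (Matrix.det (Matrix.of P')) • ((u⁻¹ : Kˣ) : K) ^ Fintype.card n := by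
    rw [Algebra.smul_def, ← h2, ← hu', mul_comm, ← mul_assoc, ← mul_pow, Units.inv_mul, one_pow,
      one_mul]
  show β.det (fun j => ι (e j)) ∈ Submodule.span A {((u⁻¹ : Kˣ) : K) ^ Fintype.card n}
  rw [h3]
  exact Submodule.smul_mem _ _ (Submodule.subset_span rfl)

/-- the module of determinants contains a unit -/
theorem exists_isUnit_mem_detMod (S : Submonoid A) [IsLocalization S K] [IsLocalizedModule S ι] :
    ∃ d ∈ detMod β ι, IsUnit d := by
  classical
  choose x hx using fun i : n => IsLocalizedModule.surj S ι (β i)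
  refine ⟨β.det (fun j => ι (x j).1), det_mem_detMod β ι _, ?_⟩
  have h1 : (fun j => ι (x j).1) = fun j => (algebraMap A K ((x j).2 : A)) • β j := by
    funext j
    rw [← hx j, IsScalarTower.algebraMap_smul]
    rfl
  rw [h1]
  have h2 := (β.det).toMultilinearMap.map_smul_univ (fun j => algebraMap A K ((x j).2 : A)) β
  have h3 : β.det (fun j => (algebraMap A K ((x j).2 : A)) • β j) =
      (∏ j, algebraMap A K ((x j).2 : A)) • β.det β := h2
  rw [h3, Module.Basis.det_self, smul_eq_mul, mul_one]
  exact (IsUnit.prod_univ_iff).mpr fun j => IsLocalization.map_units K (x j).2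

end Loc

section Main

variable {A K : Type*} [CommRing A] [CommRing K] [Algebra A K] [IsNoetherianRing A]
  {V : Type*} [AddCommGroup V] [Module K V] [Module A V] [IsScalarTower A K V]
  {E : Type*} [AddCommGroup E] [Module A E]

theorem main (S : Submonoid A) [IsLocalization S K] [Module.Finite A E]
    (ι : E →ₗ[A] V) [IsLocalizedModule S ι] [Module.Free K V] [Module.Finite K V]
    (vK : (E →ₗ[A] E) → (V →ₗ[K] V)) (hvK : ∀ v e, vK v (ι e) = ι (v e)) :
    (Algebra.adjoin A {c : K | ∃ (v : E →ₗ[A] E) (j : ℕ),
      c = ((vK v).charpoly).coeff j}).toSubmodule.FG := by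
  classical
  set β := Module.Free.chooseBasis K V with hβ
  obtain ⟨w, hw⟩ := exists_detMod_le_span_singleton β ι S
  obtain ⟨d₀, hd₀, hu⟩ := exists_isUnit_mem_detMod β ι S
  set A' := Algebra.adjoin A {c : K | ∃ (v : E →ₗ[A] E) (j : ℕ),
      c = ((vK v).charpoly).coeff j} with hA'
  have hstab : ∀ a ∈ A', ∀ d ∈ detMod β ι, a * d ∈ detMod β ι := by
    intro a ha
    induction ha using Algebra.adjoin_induction with
    | mem x hx =>
      obtain ⟨v, j, rfl⟩ := hx
      intro d hd
      exact coeff_charpoly_mul_mem β ι v (vK v) (hvK v) j d hd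
    | algebraMap r =>
      intro d hd
      rw [← Algebra.smul_def]
      exact Submodule.smul_mem _ r hd
    | add x y _ _ hx hy =>
      intro d hd
      rw [add_mul]
      exact Submodule.add_mem _ (hx d hd) (hy d hd)
    | mul x y _ _ hx hy =>
      intro d hd
      rw [mul_assoc]
      exact hx _ (hy d hd)
  let φ : K →ₗ[A] K := LinearMap.mulRight A d₀
  have hφ : Function.Injective φ := by
    intro x y hxy
    exact hu.mul_left_injective hxy
  have hle : (Subalgebra.toSubmodule A').map φ ≤ Submodule.span A {w} := by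
    rintro _ ⟨a, ha, rfl⟩
    exact hw (hstab a ha d₀ hd₀)
  have hfg : ((Subalgebra.toSubmodule A').map φ).FG :=
    (isNoetherian_submodule.mp (isNoetherian_span_of_finite A (Set.finite_singleton w))) _ hle
  exact Submodule.fg_of_fg_map_injective φ hφ hfg

end Main

end Groth.Agent.Lib.T2H7.CharpolyFG
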