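import Mathlib
import Groth.Agent.Lib.T2H1LimAffine3

/-!
# Chart data of a limit with affine transition maps for an affine étale chart of a stage which
need not be surjective (helper7)
-/

set_option autoImplicit false
set_option linter.unusedSectionVars false
set_option linter.unusedVariables false
set_option linter.style.haveILetI false
universe u
open CategoryTheory CategoryTheory.Limits AlgebraicGeometry
open AlgSp

namespace Groth.Agent.Lib.T2H7.ChartB

variable {S : Scheme.{u}}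

section

variable {I : Type u} [SmallCategory I] [IsCofiltered I] (D : I ⥤ AlgSp.Sp S)
  (hD : ∀ i, AlgSp.IsAlgSpace (D.obj i))
  (hDa : ∀ (i j : I) (φ : i ⟶ j), AlgSp.IsAffineMor (D.map φ))
  (c : Cone D) (hc : IsLimit c)

/-- the chart data of a limit at a stage `i₁` with an affine étale atlas. -/
structure ChartDataB (i₁ : I) where
  U₁ : Over S
  u₁ : (AlgSp.yon S).obj U₁ ⟶ D.obj i₁
  hU₁ : IsAffine U₁.left
  hu₁e : AlgSp.RepWith @Etale u₁
  E : Over i₁ ⥤ Over S
  ιj : ∀ j, E.obj j ⟶ U₁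
  pj : ∀ j : Over i₁, (AlgSp.yon S).obj (E.obj j) ⟶ D.obj j.left
  cW : Cone E
  fstW : (AlgSp.yon S).obj cW.pt ⟶ c.pt
  sqj : ∀ j, IsPullback (pj j) ((AlgSp.yon S).map (ιj j)) (D.map j.hom) u₁
  haffj : ∀ j, IsAffine (E.obj j).left
  hcW : IsLimit ((Over.forget S).mapCone cW)
  hWaff : IsAffine cW.pt.left
  sqW : IsPullback fstW ((AlgSp.yon S).map (cW.π.app (Over.mk (𝟙 i₁)) ≫ ιj (Over.mk (𝟙 i₁))))
    (c.π.app i₁) u₁
  hfst : ∀ j : Over i₁, fstW ≫ c.π.app j.left = (AlgSp.yon S).map (cW.π.app j) ≫ pj j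
  hE1 : ∀ {j k : Over i₁} (ψ : j ⟶ k), E.map ψ ≫ ιj k = ιj j
  hE2 : ∀ {j k : Over i₁} (ψ : j ⟶ k),
    (AlgSp.yon S).map (E.map ψ) ≫ pj k = pj j ≫ D.map ψ.left

include hDa hc in
theorem nonempty_chartDataB (i₁ : I) (U₁ : Over S) (u₁ : (AlgSp.yon S).obj U₁ ⟶ D.obj i₁)
    (hU₁ : IsAffine U₁.left) (hu₁e : AlgSp.RepWith @Etale u₁) :
    ∃ cd : ChartDataB D c i₁, cd.U₁ = U₁ ∧ HEq cd.u₁ u₁ := by
  obtain ⟨E, ιj, pj, cW, fstW, sqj, haffj, ⟨hcW⟩, hWaff, sqW, hfst, hE1, hE2⟩ :=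
    Groth.Agent.Lib.T2H1.LimAffine.exists_limit_data D hDa c hc i₁ hU₁ u₁
  exact ⟨⟨U₁, u₁, hU₁, hu₁e, E, ιj, pj, cW, fstW, sqj, haffj, hcW, hWaff, sqW, hfst,
    fun ψ => hE1 ψ, fun ψ => hE2 ψ⟩, rfl, HEq.rfl⟩

namespace ChartDataB

variable {D c} {i₁ : I} (cd : ChartDataB D c i₁)

/-- the projection of the limit chart to the atlas. -/
noncomputable def ιW : cd.cW.pt ⟶ cd.U₁ :=
  cd.cW.π.app (Over.mk (𝟙 i₁)) ≫ cd.ιj (Over.mk (𝟙 i₁))

theorem π_ιj (j : Over i₁) : cd.cW.π.app j ≫ cd.ιj j = cd.ιW := by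
  let tj : j ⟶ Over.mk (𝟙 i₁) := Over.homMk j.hom
  have h1 : cd.cW.π.app j ≫ cd.E.map tj = cd.cW.π.app (Over.mk (𝟙 i₁)) := cd.cW.w tj
  rw [← cd.hE1 tj, ← Category.assoc, h1]
  rfl

theorem repWith_etale_pj (j : Over i₁) : AlgSp.RepWith @Etale (cd.pj j) :=
  MorphismProperty.of_isPullback (P := AlgSp.RepWith @Etale) (cd.sqj j).flip cd.hu₁e

theorem repWith_etale_fstW : AlgSp.RepWith @Etale cd.fstW :=
  MorphismProperty.of_isPullback (P := AlgSp.RepWith @Etale) cd.sqW.flip cd.hu₁e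

/-- the base change of `y ≫ c.π.app j.left` along the chart `pj j` of the stage, in terms of the
base change of `y` along the chart of the limit. -/
theorem isPullback_stage {Y : AlgSp.Sp S} (y : Y ⟶ c.pt) {YU : Over S} (k : YU ⟶ cd.cW.pt)
    (yU : (AlgSp.yon S).obj YU ⟶ Y) (sqY : IsPullback yU ((AlgSp.yon S).map k) y cd.fstW)
    (j : Over i₁) :
    IsPullback yU ((AlgSp.yon S).map (k ≫ cd.cW.π.app j)) (y ≫ c.π.app j.left) (cd.pj j) := by
  have hbig : IsPullback yU ((AlgSp.yon S).map (k ≫ cd.cW.π.app j) ≫ (AlgSp.yon S).map (cd.ιj j))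
      ((y ≫ c.π.app j.left) ≫ D.map j.hom) cd.u₁ := by
    have h := sqY.paste_vert cd.sqW
    have e1 : (y ≫ c.π.app j.left) ≫ D.map j.hom = y ≫ c.π.app i₁ := by
      rw [Category.assoc, c.w]
    have e2 : (AlgSp.yon S).map (k ≫ cd.cW.π.app j) ≫ (AlgSp.yon S).map (cd.ιj j) =
        (AlgSp.yon S).map k ≫ (AlgSp.yon S).map
          (cd.cW.π.app (Over.mk (𝟙 i₁)) ≫ cd.ιj (Over.mk (𝟙 i₁))) := by
      rw [← Functor.map_comp, ← Functor.map_comp, Category.assoc, cd.π_ιj j]
      rfl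
    rw [e1, e2]
    exact h
  refine IsPullback.of_bot hbig ?_ (cd.sqj j)
  rw [← Category.assoc, sqY.w, Category.assoc, cd.hfst j, Functor.map_comp, Category.assoc]

/-- the system of affine schemes over the atlas `U₁`. -/
noncomputable def DU : Over i₁ ⥤ Over cd.U₁.left where
  obj j := Over.mk (cd.ιj j).left
  map {j k} ψ := Over.homMk (cd.E.map ψ).left (by
    have := congrArg (fun m => m.left) (cd.hE1 ψ)
    simpa using this)
  map_id j := by
    ext1
    simp
  map_comp ψ χ := by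
    ext1
    simp

/-- the limit cone over the atlas `U₁`. -/
noncomputable def cU : Cone cd.DU where
  pt := Over.mk cd.ιW.left
  π :=
    { app := fun j => Over.homMk (cd.cW.π.app j).left (by
        have := congrArg (fun m => m.left) (cd.π_ιj j)
        simpa [DU] using this)
      naturality := fun j k ψ => by
        ext1
        have := congrArg (fun m => m.left) (cd.cW.w ψ)
        simp only [Over.comp_left] at this
        simp [DU, this] }

attribute [local instance] IsCofiltered.isConnected in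
/-- the cone over the atlas is a limit cone. -/
noncomputable def isLimitCU : IsLimit cd.cU :=
  isLimitOfReflects (Over.forget cd.U₁.left)
    (show IsLimit ((Over.forget cd.U₁.left).mapCone cd.cU) from cd.hcW)

end ChartDataB

end

end Groth.Agent.Lib.T2H7.ChartB
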