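import Mathlib
import Groth.Prelude

set_option autoImplicit false
universe u v w
open CategoryTheory AlgebraicGeometry CategoryTheory.Limits

namespace Groth.Agent.Lib.T2H7.ClosedImmMod

/-- right exact functors make kernel comparison epi for epimorphisms -/
theorem epi_kernelComparison_of_epi {C D : Type*} [Category C] [Category D] [Abelian C] [Abelian D]
    (L : C ⥤ D) [L.Additive] [PreservesFiniteColimits L] {G Q : C} (ψ : G ⟶ Q) [Epi ψ] :
    Epi (kernelComparison ψ L) := by
  let S : ShortComplex C := ShortComplex.mk (kernel.ι ψ) ψ (kernel.condition ψ)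
  have hS : S.Exact := ShortComplex.exact_kernel ψ
  have hS' : (S.map L).Exact := hS.map_of_epi_of_preservesCokernel L (inferInstanceAs (Epi ψ)) inferInstance
  exact (ShortComplex.exact_iff_epi_kernel_lift _).mp hS'

/-- pushforward along an embedding is faithful -/
theorem pushforward_faithful_of_isEmbedding {S T : Scheme.{u}} (f : S ⟶ T)
    (hf : Topology.IsEmbedding f) : (Scheme.Modules.pushforward f).Faithful := by
  constructor
  intro M N g h hgh
  apply Scheme.Modules.hom_ext
  intro U
  obtain ⟨V, rfl⟩ : ∃ V : T.Opens, f ⁻¹ᵁ V = U := by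
    obtain ⟨V, hV, hVU⟩ := hf.isInducing.isOpen_iff.mp U.2
    exact ⟨⟨V, hV⟩, TopologicalSpace.Opens.ext hVU⟩
  have := congrArg (fun φ => Scheme.Modules.Hom.app φ V) hgh
  simpa [Scheme.Modules.pushforward_map_app] using this

theorem main {S T : Scheme.{u}} (f : S ⟶ T) [IsClosedImmersion f] (G : T.Modules) (E : S.Modules)
    (ψ : G ⟶ (Scheme.Modules.pushforward f).obj E) [Epi ψ] :
    Epi (((Scheme.Modules.pullbackPushforwardAdjunction f).homEquiv G E).symm ψ) ∧
      Epi (kernelComparison ψ (Scheme.Modules.pullback f)) := by
  constructor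
  · have hfa := pushforward_faithful_of_isEmbedding f f.isClosedEmbedding.isEmbedding
    constructor
    intro E' g h hgh
    rw [← Adjunction.homEquiv_naturality_right_symm, ← Adjunction.homEquiv_naturality_right_symm]
      at hgh
    have h2 := ((Scheme.Modules.pullbackPushforwardAdjunction f).homEquiv G E').symm.injective hgh
    exact (Scheme.Modules.pushforward f).map_injective ((cancel_epi ψ).mp h2)
  · exact epi_kernelComparison_of_epi _ ψ

end Groth.Agent.Lib.T2H7.ClosedImmMod
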