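import Groth.Agent.Lib.Helper25Comod
import Mathlib.RingTheory.Bialgebra.Hom
import Mathlib.RingTheory.HopfAlgebra.Convolution
import Mathlib.RingTheory.TensorProduct.Maps
import Mathlib.RingTheory.Flat.Basic

/-!
# T2H7ComodAlg: commutative algebras with a coaction of a bialgebra by algebra homomorphisms

* `CoAlg k C P`: an algebra homomorphism `δ : P → P ⊗ C` which is coassociative and counital;
* `CoAlg.tensor`: the tensor product of two such algebras (diagonal coaction);
* `CoAlg.ofInjective`: the coaction induced on a subalgebra stable under the coaction;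
* the linear forms of the axioms (`CoAlg.hco`, `CoAlg.hcu`).
-/

set_option autoImplicit false
set_option linter.style.haveILetI false
set_option linter.unusedSectionVars false
set_option linter.unusedVariables false
universe u

open scoped TensorProduct

namespace Groth.Agent.Lib.T2H7.ComodAlg

section Conv

variable {k : Type u} [CommRing k] {P P' D D' : Type u} [CommRing P] [Algebra k P] [CommRing P']
  [Algebra k P'] [CommRing D] [Algebra k D] [CommRing D'] [Algebra k D']

theorem rTensor_eq_map (f : P →ₐ[k] P') (w : P ⊗[k] D) :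
    f.toLinearMap.rTensor D w = Algebra.TensorProduct.map f (AlgHom.id k D) w := by
  induction w using TensorProduct.induction_on with
  | zero => simp
  | add x y hx hy => simp only [map_add, hx, hy]
  | tmul a b => rfl

theorem lTensor_eq_map (g : D →ₐ[k] D') (w : P ⊗[k] D) :
    g.toLinearMap.lTensor P w = Algebra.TensorProduct.map (AlgHom.id k P) g w := by
  induction w using TensorProduct.induction_on with
  | zero => simp
  | add x y hx hy => simp only [map_add, hx, hy]
  | tmul a b => rfl

theorem map_map {P'' D'' : Type u} [CommRing P''] [Algebra k P''] [CommRing D''] [Algebra k D'']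
    (f' : P' →ₐ[k] P'') (f : P →ₐ[k] P') (g' : D' →ₐ[k] D'') (g : D →ₐ[k] D') (w : P ⊗[k] D) :
    Algebra.TensorProduct.map f' g' (Algebra.TensorProduct.map f g w) =
      Algebra.TensorProduct.map (f'.comp f) (g'.comp g) w := by
  rw [Algebra.TensorProduct.map_comp]
  rfl

theorem assoc_eq (z : (P ⊗[k] D) ⊗[k] D') :
    Algebra.TensorProduct.assoc k k k P D D' z = TensorProduct.assoc k P D D' z := by
  induction z using TensorProduct.induction_on with
  | zero => simp
  | add x y hx hy => simp only [map_add, hx, hy]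
  | tmul y c =>
    induction y using TensorProduct.induction_on with
    | zero => simp
    | add x y hx hy => simp only [TensorProduct.add_tmul, map_add, hx, hy]
    | tmul a b => rfl

/-- naturality of the associator -/
theorem assoc_map_map (j : P →ₐ[k] P')
    (z : (P ⊗[k] D) ⊗[k] D') :
    Algebra.TensorProduct.assoc k k k P' D D'
        (Algebra.TensorProduct.map (Algebra.TensorProduct.map j (AlgHom.id k D)) (AlgHom.id k D') z) =
      Algebra.TensorProduct.map j (AlgHom.id k (D ⊗[k] D'))
        (Algebra.TensorProduct.assoc k k k P D D' z) := by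
  induction z using TensorProduct.induction_on with
  | zero => simp
  | add x y hx hy => simp only [map_add, hx, hy]
  | tmul y c =>
    induction y using TensorProduct.induction_on with
    | zero => simp
    | add x y hx hy => simp only [TensorProduct.add_tmul, map_add, hx, hy]
    | tmul a b => simp

theorem map_injective_of_injective {k : Type u} [Field k] {P P' D : Type u} [CommRing P]
    [Algebra k P] [CommRing P'] [Algebra k P'] [CommRing D] [Algebra k D] (j : P →ₐ[k] P')
    (hj : Function.Injective j) :
    Function.Injective (Algebra.TensorProduct.map j (AlgHom.id k D)) := by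
  have h := Module.Flat.rTensor_preserves_injective_linearMap (M := D) j.toLinearMap hj
  intro x y hxy
  apply h
  rw [rTensor_eq_map, rTensor_eq_map]
  exact hxy

end Conv

section Str

variable (k : Type u) [Field k] (C : Type u) [CommRing C] [Bialgebra k C]

/-- a commutative algebra with a coaction of the bialgebra `C` by algebra homomorphisms -/
structure CoAlg (P : Type u) [CommRing P] [Algebra k P] where
  /-- the coaction -/
  δ : P →ₐ[k] P ⊗[k] C
  coassoc : ∀ p : P, Algebra.TensorProduct.assoc k k k P C C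
      (Algebra.TensorProduct.map δ (AlgHom.id k C) (δ p)) =
    Algebra.TensorProduct.map (AlgHom.id k P) (Bialgebra.comulAlgHom k C) (δ p)
  counit : ∀ p : P, Algebra.TensorProduct.map (AlgHom.id k P) (Bialgebra.counitAlgHom k C) (δ p) =
    p ⊗ₜ[k] (1 : k)

/-- the regular coaction of a bialgebra on itself -/
noncomputable def CoAlg.regular : CoAlg k C C where
  δ := Bialgebra.comulAlgHom k C
  coassoc p := by
    rw [assoc_eq, ← rTensor_eq_map, ← lTensor_eq_map]
    exact Coalgebra.coassoc_apply p
  counit p := by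
    rw [← lTensor_eq_map]
    exact Coalgebra.lTensor_counit_comul p

end Str

section Hom

variable {k : Type u} [Field k] {C : Type u} [CommRing C] [Bialgebra k C]
  {P R : Type u} [CommRing P] [Algebra k P] [CommRing R] [Algebra k R]

theorem claimA (δP : P →ₐ[k] P ⊗[k] C) (δR : R →ₐ[k] R ⊗[k] C) (j : P →ₐ[k] R)
    (hj : ∀ p, δR (j p) = Algebra.TensorProduct.map j (AlgHom.id k C) (δP p)) (w : P ⊗[k] C) :
    Algebra.TensorProduct.map δR (AlgHom.id k C) (Algebra.TensorProduct.map j (AlgHom.id k C) w) =
      Algebra.TensorProduct.map (Algebra.TensorProduct.map j (AlgHom.id k C)) (AlgHom.id k C)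
        (Algebra.TensorProduct.map δP (AlgHom.id k C) w) := by
  induction w using TensorProduct.induction_on with
  | zero => simp
  | add x y hx hy => simp only [map_add, hx, hy]
  | tmul a b => simp [hj]

theorem claimC {D D' : Type u} [CommRing D] [Algebra k D] [CommRing D'] [Algebra k D']
    (g : D →ₐ[k] D') (j : P →ₐ[k] R) (w : P ⊗[k] D) :
    Algebra.TensorProduct.map (AlgHom.id k R) g (Algebra.TensorProduct.map j (AlgHom.id k D) w) =
      Algebra.TensorProduct.map j (AlgHom.id k D') (Algebra.TensorProduct.map (AlgHom.id k P) g w) := by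
  rw [map_map, map_map]
  rfl

/-- coassociativity transfers along a homomorphism compatible with the coactions -/
theorem coassoc_of_hom (cP : CoAlg k C P) (δR : R →ₐ[k] R ⊗[k] C) (j : P →ₐ[k] R)
    (hj : ∀ p, δR (j p) = Algebra.TensorProduct.map j (AlgHom.id k C) (cP.δ p)) (p : P) :
    Algebra.TensorProduct.assoc k k k R C C
        (Algebra.TensorProduct.map δR (AlgHom.id k C) (δR (j p))) =
      Algebra.TensorProduct.map (AlgHom.id k R) (Bialgebra.comulAlgHom k C) (δR (j p)) := by
  rw [hj, claimA cP.δ δR j hj, assoc_map_map, cP.coassoc, claimC]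

theorem counit_of_hom (cP : CoAlg k C P) (δR : R →ₐ[k] R ⊗[k] C) (j : P →ₐ[k] R)
    (hj : ∀ p, δR (j p) = Algebra.TensorProduct.map j (AlgHom.id k C) (cP.δ p)) (p : P) :
    Algebra.TensorProduct.map (AlgHom.id k R) (Bialgebra.counitAlgHom k C) (δR (j p)) =
      j p ⊗ₜ[k] (1 : k) := by
  rw [hj, claimC, cP.counit]
  simp

end Hom

section Tensor

variable {k : Type u} [Field k] {C : Type u} [CommRing C] [Bialgebra k C]
  {P Q : Type u} [CommRing P] [Algebra k P] [CommRing Q] [Algebra k Q]

/-- the diagonal coaction on a tensor product -/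
noncomputable def tensorδ (δP : P →ₐ[k] P ⊗[k] C) (δQ : Q →ₐ[k] Q ⊗[k] C) :
    P ⊗[k] Q →ₐ[k] (P ⊗[k] Q) ⊗[k] C :=
  Algebra.TensorProduct.lift
    ((Algebra.TensorProduct.map (Algebra.TensorProduct.includeLeft : P →ₐ[k] P ⊗[k] Q)
      (AlgHom.id k C)).comp δP)
    ((Algebra.TensorProduct.map (Algebra.TensorProduct.includeRight : Q →ₐ[k] P ⊗[k] Q)
      (AlgHom.id k C)).comp δQ)
    (fun _ _ => Commute.all _ _)

theorem tensorδ_inl (δP : P →ₐ[k] P ⊗[k] C) (δQ : Q →ₐ[k] Q ⊗[k] C) (p : P) :
    tensorδ δP δQ ((Algebra.TensorProduct.includeLeft : P →ₐ[k] P ⊗[k] Q) p) =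
      Algebra.TensorProduct.map (Algebra.TensorProduct.includeLeft : P →ₐ[k] P ⊗[k] Q)
        (AlgHom.id k C) (δP p) := by
  rw [tensorδ, Algebra.TensorProduct.includeLeft_apply, Algebra.TensorProduct.lift_tmul, map_one,
    mul_one]
  rfl

theorem tensorδ_inr (δP : P →ₐ[k] P ⊗[k] C) (δQ : Q →ₐ[k] Q ⊗[k] C) (q : Q) :
    tensorδ δP δQ ((Algebra.TensorProduct.includeRight : Q →ₐ[k] P ⊗[k] Q) q) =
      Algebra.TensorProduct.map (Algebra.TensorProduct.includeRight : Q →ₐ[k] P ⊗[k] Q)
        (AlgHom.id k C) (δQ q) := by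
  rw [tensorδ, Algebra.TensorProduct.includeRight_apply, Algebra.TensorProduct.lift_tmul, map_one,
    one_mul]
  rfl

/-- the tensor product of two algebras with coaction -/
noncomputable def CoAlg.tensor (cP : CoAlg k C P) (cQ : CoAlg k C Q) : CoAlg k C (P ⊗[k] Q) where
  δ := tensorδ cP.δ cQ.δ
  coassoc := by
    have h : (Algebra.TensorProduct.assoc k k k (P ⊗[k] Q) C C).toAlgHom.comp
        ((Algebra.TensorProduct.map (tensorδ cP.δ cQ.δ) (AlgHom.id k C)).comp (tensorδ cP.δ cQ.δ)) =
        (Algebra.TensorProduct.map (AlgHom.id k (P ⊗[k] Q)) (Bialgebra.comulAlgHom k C)).comp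
          (tensorδ cP.δ cQ.δ) := by
      apply Algebra.TensorProduct.ext
      · apply AlgHom.ext
        intro p
        exact coassoc_of_hom cP (tensorδ cP.δ cQ.δ) Algebra.TensorProduct.includeLeft
          (tensorδ_inl cP.δ cQ.δ) p
      · apply AlgHom.ext
        intro q
        exact coassoc_of_hom cQ (tensorδ cP.δ cQ.δ) Algebra.TensorProduct.includeRight
          (tensorδ_inr cP.δ cQ.δ) q
    intro r
    exact AlgHom.congr_fun h r
  counit := by
    have h : (Algebra.TensorProduct.map (AlgHom.id k (P ⊗[k] Q)) (Bialgebra.counitAlgHom k C)).comp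
        (tensorδ cP.δ cQ.δ) =
        (Algebra.TensorProduct.includeLeft : P ⊗[k] Q →ₐ[k] (P ⊗[k] Q) ⊗[k] k) := by
      apply Algebra.TensorProduct.ext
      · apply AlgHom.ext
        intro p
        exact counit_of_hom cP (tensorδ cP.δ cQ.δ) Algebra.TensorProduct.includeLeft
          (tensorδ_inl cP.δ cQ.δ) p
      · apply AlgHom.ext
        intro q
        exact counit_of_hom cQ (tensorδ cP.δ cQ.δ) Algebra.TensorProduct.includeRight
          (tensorδ_inr cP.δ cQ.δ) q
    intro r
    exact AlgHom.congr_fun h r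

theorem CoAlg.tensor_δ (cP : CoAlg k C P) (cQ : CoAlg k C Q) :
    (cP.tensor cQ).δ = tensorδ cP.δ cQ.δ := rfl

/-- functoriality of the diagonal coaction in the first factor -/
theorem tensorδ_map {P' : Type u} [CommRing P'] [Algebra k P'] (δP : P →ₐ[k] P ⊗[k] C)
    (δP' : P' →ₐ[k] P' ⊗[k] C) (δQ : Q →ₐ[k] Q ⊗[k] C) (j : P →ₐ[k] P')
    (hj : ∀ p, δP' (j p) = Algebra.TensorProduct.map j (AlgHom.id k C) (δP p)) (x : P ⊗[k] Q) :
    tensorδ δP' δQ (Algebra.TensorProduct.map j (AlgHom.id k Q) x) =
      Algebra.TensorProduct.map (Algebra.TensorProduct.map j (AlgHom.id k Q)) (AlgHom.id k C)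
        (tensorδ δP δQ x) := by
  have h : (tensorδ δP' δQ).comp (Algebra.TensorProduct.map j (AlgHom.id k Q)) =
      (Algebra.TensorProduct.map (Algebra.TensorProduct.map j (AlgHom.id k Q)) (AlgHom.id k C)).comp
        (tensorδ δP δQ) := by
    apply Algebra.TensorProduct.ext
    · apply AlgHom.ext
      intro p
      have e1 : Algebra.TensorProduct.map j (AlgHom.id k Q)
          ((Algebra.TensorProduct.includeLeft : P →ₐ[k] P ⊗[k] Q) p) =
          (Algebra.TensorProduct.includeLeft : P' →ₐ[k] P' ⊗[k] Q) (j p) := by simp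
      change tensorδ δP' δQ (Algebra.TensorProduct.map j (AlgHom.id k Q)
          ((Algebra.TensorProduct.includeLeft : P →ₐ[k] P ⊗[k] Q) p)) =
        Algebra.TensorProduct.map (Algebra.TensorProduct.map j (AlgHom.id k Q)) (AlgHom.id k C)
          (tensorδ δP δQ ((Algebra.TensorProduct.includeLeft : P →ₐ[k] P ⊗[k] Q) p))
      rw [e1, tensorδ_inl, tensorδ_inl, hj, map_map, map_map]
      congr 1
    · apply AlgHom.ext
      intro q
      have e1 : Algebra.TensorProduct.map j (AlgHom.id k Q)
          ((Algebra.TensorProduct.includeRight : Q →ₐ[k] P ⊗[k] Q) q) =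
          (Algebra.TensorProduct.includeRight : Q →ₐ[k] P' ⊗[k] Q) q := by simp
      change tensorδ δP' δQ (Algebra.TensorProduct.map j (AlgHom.id k Q)
          ((Algebra.TensorProduct.includeRight : Q →ₐ[k] P ⊗[k] Q) q)) =
        Algebra.TensorProduct.map (Algebra.TensorProduct.map j (AlgHom.id k Q)) (AlgHom.id k C)
          (tensorδ δP δQ ((Algebra.TensorProduct.includeRight : Q →ₐ[k] P ⊗[k] Q) q))
      rw [e1, tensorδ_inr, tensorδ_inr, map_map, Algebra.TensorProduct.map_comp_includeRight]
      rfl
  exact AlgHom.congr_fun h x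

end Tensor

section Sub

variable {k : Type u} [Field k] {C : Type u} [CommRing C] [Bialgebra k C]
  {P Q : Type u} [CommRing P] [Algebra k P] [CommRing Q] [Algebra k Q]

/-- corestriction of a coaction to a stable subalgebra -/
theorem exists_corestrict (j : P →ₐ[k] Q) (hj : Function.Injective j) (δQ : Q →ₐ[k] Q ⊗[k] C)
    (hmem : ∀ p, ∃ y : P ⊗[k] C, Algebra.TensorProduct.map j (AlgHom.id k C) y = δQ (j p)) :
    ∃ δP : P →ₐ[k] P ⊗[k] C,
      ∀ p, Algebra.TensorProduct.map j (AlgHom.id k C) (δP p) = δQ (j p) := by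
  have hJ : Function.Injective (Algebra.TensorProduct.map j (AlgHom.id k C)) :=
    map_injective_of_injective j hj
  choose f hf using hmem
  refine ⟨{ toFun := f
            map_one' := hJ (by rw [hf, map_one, map_one, map_one])
            map_mul' := fun a b => hJ (by rw [hf, map_mul, map_mul, map_mul, hf, hf])
            map_zero' := hJ (by rw [hf, map_zero, map_zero, map_zero])
            map_add' := fun a b => hJ (by rw [hf, map_add, map_add, map_add, hf, hf])
            commutes' := fun c => hJ (by
              rw [hf, AlgHom.commutes, AlgHom.commutes, AlgHom.commutes]) }, hf⟩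

/-- the structure induced on a subalgebra stable under the coaction -/
noncomputable def CoAlg.ofInjective (cQ : CoAlg k C Q) (j : P →ₐ[k] Q) (hj : Function.Injective j)
    (δP : P →ₐ[k] P ⊗[k] C)
    (h : ∀ p, Algebra.TensorProduct.map j (AlgHom.id k C) (δP p) = cQ.δ (j p)) : CoAlg k C P where
  δ := δP
  coassoc p := by
    apply map_injective_of_injective (D := C ⊗[k] C) j hj
    have hj' : ∀ p, cQ.δ (j p) = Algebra.TensorProduct.map j (AlgHom.id k C) (δP p) :=
      fun p => (h p).symm
    rw [← assoc_map_map, ← claimA δP cQ.δ j hj', h, cQ.coassoc, ← h, claimC]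
  counit p := by
    apply map_injective_of_injective (D := k) j hj
    rw [← claimC, h, cQ.counit]
    simp

end Sub

section Lin

variable {k : Type u} [Field k] {C : Type u} [CommRing C] [Bialgebra k C]
  {P : Type u} [CommRing P] [Algebra k P]

theorem CoAlg.hco (c : CoAlg k C P) :
    (TensorProduct.assoc k P C C).toLinearMap ∘ₗ c.δ.toLinearMap.rTensor C ∘ₗ c.δ.toLinearMap =
      (CoalgebraStruct.comul (R := k) (A := C)).lTensor P ∘ₗ c.δ.toLinearMap := by
  apply LinearMap.ext
  intro p
  have h := c.coassoc p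
  rw [assoc_eq, ← rTensor_eq_map, ← lTensor_eq_map] at h
  exact h

theorem CoAlg.hcu (c : CoAlg k C P) :
    (CoalgebraStruct.counit (R := k) (A := C)).lTensor P ∘ₗ c.δ.toLinearMap =
      (TensorProduct.mk k P k).flip 1 := by
  apply LinearMap.ext
  intro p
  have h := c.counit p
  rw [← lTensor_eq_map] at h
  exact h

end Lin

section Slices

open Groth.Agent.Lib.Helper25

variable {k : Type u} [Field k] {V W A P : Type u} [AddCommGroup V] [Module k V] [AddCommGroup W]
  [Module k W] [AddCommGroup A] [Module k A] [AddCommGroup P] [Module k P]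

/-- an element of `V ⊗ A` all of whose slices lie in the image of `j` lies in the image of `j ⊗ A` -/
theorem mem_range_rTensor_of_slices (j : P →ₗ[k] V) (x : V ⊗[k] A)
    (h : ∀ φ : A →ₗ[k] k, slice V φ x ∈ LinearMap.range j) :
    x ∈ LinearMap.range (j.rTensor A) := by
  classical
  obtain ⟨s, hs⟩ := eq_sum_slice (Module.Free.chooseBasis k A) x
  choose f hf using h
  refine ⟨∑ i ∈ s, f ((Module.Free.chooseBasis k A).coord i) ⊗ₜ[k] (Module.Free.chooseBasis k A) i, ?_⟩
  rw [map_sum]
  conv_rhs => rw [hs]
  refine Finset.sum_congr rfl (fun i _ => ?_)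
  rw [LinearMap.rTensor_tmul, hf]

/-- an element of `V ⊗ A` equalized by `α ⊗ A` and `β ⊗ A` lies in the image of `j ⊗ A`, when the
image of `j` contains the equalizer of `α` and `β` -/
theorem mem_range_rTensor_of_eq (j : P →ₗ[k] V) (α β : V →ₗ[k] W)
    (hT : ∀ v, α v = β v → v ∈ LinearMap.range j) (x : V ⊗[k] A)
    (hx : α.rTensor A x = β.rTensor A x) : x ∈ LinearMap.range (j.rTensor A) := by
  apply mem_range_rTensor_of_slices
  intro φ
  apply hT
  rw [← slice_rTensor, ← slice_rTensor, hx]

end Slices

end Groth.Agent.Lib.T2H7.ComodAlg
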