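import Groth.Prelude.Def_SGA1
import Groth.Agent.Lib.Helper20Quot
import Groth.Agent.Lib.Helper20QuotAff

/-!
# T2H7 CosetQuot: extension of `H`-invariant sections on a fundamental open to `G`-invariant sections

`G` acts on a scheme `X`; `T` is a `G`-stable open, `V ≤ T` an open whose translates cover `T`,
with `g V ∩ g' V ≠ ∅` only for `g' g⁻¹ ∈ H`, and `V` is `H`-stable.  Then `G`-invariant sections on `T`
are the same as `H`-invariant sections on `V`.
-/

set_option autoImplicit false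
set_option linter.unusedSectionVars false
set_option linter.unusedVariables false
set_option linter.style.haveILetI false
universe u
open CategoryTheory AlgebraicGeometry TopologicalSpace

namespace Groth.Agent.Lib.T2H7.CosetQuot

open Groth.Agent.Lib.Helper20

variable {X : Scheme.{u}} {G : Type u} [Group G] (ρ : G →* Aut X)

theorem hom_mul (g h : G) : (ρ (g * h)).hom = (ρ h).hom ≫ (ρ g).hom := by
  rw [map_mul]; rfl

theorem hom_one : (ρ 1).hom = 𝟙 X := by
  rw [map_one]; rfl

theorem base_mul (g h : G) (x : X) :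
    (ρ (g * h)).hom.base x = (ρ g).hom.base ((ρ h).hom.base x) := by
  rw [hom_mul]; rfl

theorem base_one (x : X) : (ρ 1).hom.base x = x := by
  rw [hom_one]; rfl

theorem base_inv_base (g : G) (x : X) : (ρ g⁻¹).hom.base ((ρ g).hom.base x) = x := by
  rw [← base_mul, inv_mul_cancel, base_one]

theorem base_base_inv (g : G) (x : X) : (ρ g).hom.base ((ρ g⁻¹).hom.base x) = x := by
  rw [← base_mul, mul_inv_cancel, base_one]

section ext

variable {ρ} {V T : X.Opens} (hVT : V ≤ T) (hT : ∀ g : G, T ≤ (ρ g).hom ⁻¹ᵁ T)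

include hVT hT in
theorem preimage_le (g : G) : (ρ g).hom ⁻¹ᵁ V ≤ T := by
  intro x hx
  have h1 : (ρ g).hom.base x ∈ T := hVT hx
  have h2 := hT g⁻¹ h1
  change (ρ g⁻¹).hom.base ((ρ g).hom.base x) ∈ T at h2
  rwa [base_inv_base] at h2

/-- restriction of an invariant section to the translate `g⁻¹ V` -/
theorem res_of_invariant (t : Γ(X, T))
    (ht : ∀ g : G, ((ρ g).hom.appLE T T (hT g)).hom t = t) (g : G) :
    (X.presheaf.map (homOfLE (preimage_le hVT hT g)).op).hom t =
      ((ρ g).hom.app V).hom ((X.presheaf.map (homOfLE hVT).op).hom t) := by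
  have e1 : (ρ g).hom ⁻¹ᵁ V ≤ (ρ g).hom ⁻¹ᵁ T := (ρ g).hom.preimage_mono hVT
  have h1 : (ρ g).hom.appLE T T (hT g) ≫ X.presheaf.map (homOfLE (preimage_le hVT hT g)).op =
      X.presheaf.map (homOfLE hVT).op ≫ (ρ g).hom.app V := by
    rw [Scheme.Hom.appLE_map, Scheme.Hom.app_eq_appLE, Scheme.Hom.map_appLE]
  have h2 := congrArg (fun f => f.hom t) h1
  simp only [CommRingCat.hom_comp, RingHom.comp_apply] at h2
  rw [ht g] at h2
  exact h2

variable (hb : ∀ x ∈ T, ∃ g : G, (ρ g).hom.base x ∈ V)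

include hb in
theorem le_iSup_preimage : T ≤ ⨆ g : G, (ρ g).hom ⁻¹ᵁ V := by
  intro x hx
  obtain ⟨g, hg⟩ := hb x hx
  exact Opens.mem_iSup.mpr ⟨g, hg⟩

include hb in
/-- two invariant sections agreeing on `V` are equal -/
theorem eq_of_invariant (t t' : Γ(X, T))
    (ht : ∀ g : G, ((ρ g).hom.appLE T T (hT g)).hom t = t)
    (ht' : ∀ g : G, ((ρ g).hom.appLE T T (hT g)).hom t' = t')
    (h : (X.presheaf.map (homOfLE hVT).op).hom t = (X.presheaf.map (homOfLE hVT).op).hom t') :
    t = t' := by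
  fapply X.sheaf.eq_of_locally_eq' (fun g : G => (ρ g).hom ⁻¹ᵁ V) T
    (fun g => homOfLE (preimage_le hVT hT g)) (le_iSup_preimage hb)
  intro g
  change (X.presheaf.map (homOfLE (preimage_le hVT hT g)).op).hom t =
    (X.presheaf.map (homOfLE (preimage_le hVT hT g)).op).hom t'
  rw [res_of_invariant hVT hT t ht g, res_of_invariant hVT hT t' ht' g, h]

variable (H : Subgroup G)
  (hc : ∀ (g g' : G) (x : X), (ρ g).hom.base x ∈ V → (ρ g').hom.base x ∈ V → g' * g⁻¹ ∈ H)
  (hd : ∀ h : G, h ∈ H → V ≤ (ρ h).hom ⁻¹ᵁ V)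

include hb hc in
/-- an `H`-invariant section on `V` extends to a `G`-invariant section on `T` -/
theorem exists_invariant_extension (s : Γ(X, V))
    (hs : ∀ (h : G) (hh : h ∈ H), ((ρ h).hom.appLE V V (hd h hh)).hom s = s) :
    ∃ t : Γ(X, T), (X.presheaf.map (homOfLE hVT).op).hom t = s ∧
      ∀ g : G, ((ρ g).hom.appLE T T (hT g)).hom t = t := by
  let O : G → X.Opens := fun g => (ρ g).hom ⁻¹ᵁ V
  have hO : ∀ g, O g ≤ T := preimage_le hVT hT
  let sf : ∀ g : G, Γ(X, O g) := fun g => ((ρ g).hom.app V).hom s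
  -- key: pulling back along a composite
  have hkey : ∀ (g h : G) (hh : h ∈ H) (W : X.Opens) (e : W ≤ (ρ (h * g)).hom ⁻¹ᵁ V)
      (e' : W ≤ (ρ g).hom ⁻¹ᵁ V),
      ((ρ (h * g)).hom.appLE V W e).hom s = ((ρ g).hom.appLE V W e').hom s := by
    intro g h hh W e e'
    have h1 : (ρ h).hom.appLE V V (hd h hh) ≫ (ρ g).hom.appLE V W e' =
        (ρ (h * g)).hom.appLE V W e := by
      rw [Scheme.Hom.appLE_comp_appLE]
      exact (appLE_congr_hom (hom_mul ρ h g) _ _ _).symm
    have h2 := congrArg (fun f => f.hom s) h1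
    simp only [CommRingCat.hom_comp, RingHom.comp_apply] at h2
    rw [hs h hh] at h2
    exact h2.symm
  have hcompat : TopCat.Presheaf.IsCompatible X.presheaf O sf := by
    intro g g'
    by_cases hemp : O g ⊓ O g' = ⊥
    · have : Subsingleton Γ(X, O g ⊓ O g') := by rw [hemp]; infer_instance
      exact Subsingleton.elim _ _
    · have hne : ((O g ⊓ O g' : X.Opens) : Set X).Nonempty := by
        rw [Set.nonempty_iff_ne_empty]
        intro h0
        exact hemp (Opens.ext h0)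
      obtain ⟨x, hx1, hx2⟩ := hne
      have hh : g' * g⁻¹ ∈ H := hc g g' x hx1 hx2
      have hg' : g' = (g' * g⁻¹) * g := by group
      change (X.presheaf.map (homOfLE inf_le_left).op).hom (((ρ g).hom.app V).hom s) =
        (X.presheaf.map (homOfLE inf_le_right).op).hom (((ρ g').hom.app V).hom s)
      have e1 : O g ⊓ O g' ≤ (ρ g).hom ⁻¹ᵁ V := inf_le_left
      have e2 : O g ⊓ O g' ≤ (ρ g').hom ⁻¹ᵁ V := inf_le_right
      have h1 : (X.presheaf.map (homOfLE inf_le_left).op).hom (((ρ g).hom.app V).hom s) =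
          ((ρ g).hom.appLE V (O g ⊓ O g') e1).hom s := rfl
      have h2 : (X.presheaf.map (homOfLE inf_le_right).op).hom (((ρ g').hom.app V).hom s) =
          ((ρ g').hom.appLE V (O g ⊓ O g') e2).hom s := rfl
      rw [h1, h2]
      have e3 : O g ⊓ O g' ≤ (ρ ((g' * g⁻¹) * g)).hom ⁻¹ᵁ V := by rw [← hg']; exact e2
      have h3 : ((ρ g').hom.appLE V (O g ⊓ O g') e2).hom s =
          ((ρ ((g' * g⁻¹) * g)).hom.appLE V (O g ⊓ O g') e3).hom s := by
        congr 2
        exact appLE_congr_hom (by rw [← hg']) _ _ _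
      rw [h3, hkey g (g' * g⁻¹) hh _ e3 e1]
  obtain ⟨t, ht, -⟩ := X.sheaf.existsUnique_gluing' O T (fun g => homOfLE (hO g))
    (le_iSup_preimage hb) sf hcompat
  have ht' : ∀ g : G, (X.presheaf.map (homOfLE (hO g)).op).hom t = ((ρ g).hom.app V).hom s :=
    fun g => ht g
  refine ⟨t, ?_, ?_⟩
  · -- restriction to `V`
    have e1 : V ≤ (ρ 1).hom ⁻¹ᵁ V := by rw [hom_one]; exact le_rfl
    have h1 : ((ρ 1).hom.appLE V V e1).hom s = s := by
      have := appLE_congr_hom (hom_one ρ) V V e1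
      rw [this, id_appLE]; rfl
    have h2 : ((ρ 1).hom.appLE V V e1).hom s =
        (X.presheaf.map (homOfLE e1).op).hom (((ρ 1).hom.app V).hom s) := rfl
    rw [← ht' 1] at h2
    rw [← h1, h2]
    change (X.presheaf.map (homOfLE hVT).op).hom t =
      (X.presheaf.map (homOfLE (hO 1)).op ≫ X.presheaf.map (homOfLE e1).op).hom t
    rw [← X.presheaf.map_comp]
    rfl
  · intro g0
    fapply X.sheaf.eq_of_locally_eq' O T (fun g => homOfLE (hO g)) (le_iSup_preimage hb)
    intro g
    change (X.presheaf.map (homOfLE (hO g)).op).hom (((ρ g0).hom.appLE T T (hT g0)).hom t) =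
      (X.presheaf.map (homOfLE (hO g)).op).hom t
    rw [ht' g]
    -- `ρ g0` maps `O g` into `O (g * g0⁻¹)`
    have e1 : O g ≤ (ρ g0).hom ⁻¹ᵁ O (g * g0⁻¹) := by
      intro x hx
      change (ρ (g * g0⁻¹)).hom.base ((ρ g0).hom.base x) ∈ V
      rw [← base_mul, inv_mul_cancel_right]
      exact hx
    have h1 : (ρ g0).hom.appLE T T (hT g0) ≫ X.presheaf.map (homOfLE (hO g)).op =
        X.presheaf.map (homOfLE (hO (g * g0⁻¹))).op ≫ (ρ g0).hom.appLE (O (g * g0⁻¹)) (O g) e1 := by
      rw [Scheme.Hom.appLE_map, Scheme.Hom.map_appLE]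
    have h2 := congrArg (fun f => f.hom t) h1
    simp only [CommRingCat.hom_comp, RingHom.comp_apply] at h2
    rw [h2, ht' (g * g0⁻¹)]
    have h3 : (ρ (g * g0⁻¹)).hom.app V ≫ (ρ g0).hom.appLE (O (g * g0⁻¹)) (O g) e1 =
        (ρ g).hom.app V := by
      rw [Scheme.Hom.app_eq_appLE, Scheme.Hom.appLE_comp_appLE, Scheme.Hom.app_eq_appLE]
      exact appLE_congr_hom (by rw [← hom_mul, inv_mul_cancel_right]) _ _ _
    exact congrArg (fun f => f.hom s) h3

end ext

end Groth.Agent.Lib.T2H7.CosetQuot
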