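import Mathlib

set_option autoImplicit false
universe v u w
open CategoryTheory Limits Opposite

namespace Groth.Agent.Lib.T2H8.OverSigma

variable {C : Type u} [Category.{v} C] (S : C) (G : (Over S)ᵒᵖ ⥤ Type w)

/-- restriction along a morphism of `Over S` given by its underlying morphism -/
def res {V W : Over S} (l : V.left ⟶ W.left) (hw : l ≫ W.hom = V.hom) (s : G.obj (op W)) :
    G.obj (op V) :=
  G.map (Over.homMk l hw).op s

theorem res_congr {V W : Over S} {l l' : V.left ⟶ W.left} (e : l = l') (hw : l ≫ W.hom = V.hom)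
    (s : G.obj (op W)) : res S G l hw s = res S G l' (e ▸ hw) s := by
  subst e
  rfl

theorem res_id {V : Over S} (s : G.obj (op V)) (hw : 𝟙 V.left ≫ V.hom = V.hom) :
    res S G (𝟙 V.left) hw s = s := by
  have : (Over.homMk (𝟙 V.left) hw : V ⟶ V) = 𝟙 V := by
    apply Over.OverMorphism.ext
    rfl
  unfold res
  rw [this, op_id, G.map_id]
  rfl

theorem res_res {V W Z : Over S} (l : V.left ⟶ W.left) (hw : l ≫ W.hom = V.hom)
    (l' : W.left ⟶ Z.left) (hw' : l' ≫ Z.hom = W.hom) (s : G.obj (op Z)) :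
    res S G l hw (res S G l' hw' s) =
      res S G (l ≫ l') (by rw [Category.assoc, hw', hw]) s := by
  unfold res
  rw [← Functor.map_comp_apply, ← op_comp]
  rfl

theorem map_eq_res {V W : Over S} (φ : V ⟶ W) (s : G.obj (op W)) :
    G.map φ.op s = res S G φ.left (Over.w φ) s := rfl

/-- the type of pairs `(g, s)` -/
abbrev SigmaObj (X : C) : Type (max v w) := Σ g : X ⟶ S, G.obj (op (Over.mk g))

theorem sigma_ext {X : C} (p q : SigmaObj S G X) (e : p.1 = q.1)
    (h : res S G (V := Over.mk p.1) (W := Over.mk q.1) (𝟙 X)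
      ((Category.id_comp _).trans e.symm) q.2 = p.2) : p = q := by
  obtain ⟨g, s⟩ := p
  obtain ⟨g', s'⟩ := q
  obtain rfl : g = g' := e
  have h' : res S G (V := Over.mk g) (W := Over.mk g) (𝟙 X) (Category.id_comp _) s' = s := h
  have h2 : s' = s := (res_id S G (V := Over.mk g) s' _).symm.trans h'
  rw [h2]

theorem sigma_inj {X : C} {p q : SigmaObj S G X} (h : p = q) :
    ∃ e : p.1 = q.1, res S G (V := Over.mk p.1) (W := Over.mk q.1) (𝟙 X)
      ((Category.id_comp _).trans e.symm) q.2 = p.2 := by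
  subst h
  exact ⟨rfl, res_id S G (V := Over.mk p.1) p.2 _⟩

/-- pullback of a pair -/
def sigmaMap {X Y : C} (h : Y ⟶ X) (p : SigmaObj S G X) : SigmaObj S G Y :=
  ⟨h ≫ p.1, res S G (V := Over.mk (h ≫ p.1)) (W := Over.mk p.1) h rfl p.2⟩

theorem sigmaMap_id {X : C} (p : SigmaObj S G X) : sigmaMap S G (𝟙 X) p = p := by
  refine sigma_ext S G _ _ (Category.id_comp _) ?_
  rfl

theorem sigmaMap_comp {X Y Z : C} (h : Y ⟶ X) (k : Z ⟶ Y) (p : SigmaObj S G X) :
    sigmaMap S G (k ≫ h) p = sigmaMap S G k (sigmaMap S G h p) := by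
  refine sigma_ext S G _ _ (Category.assoc _ _ _) ?_
  change res S G (V := Over.mk ((k ≫ h) ≫ p.1)) (W := Over.mk (k ≫ h ≫ p.1)) (𝟙 Z) _
    (res S G (V := Over.mk (k ≫ h ≫ p.1)) (W := Over.mk (h ≫ p.1)) k rfl
      (res S G (V := Over.mk (h ≫ p.1)) (W := Over.mk p.1) h rfl p.2)) =
    res S G (V := Over.mk ((k ≫ h) ≫ p.1)) (W := Over.mk p.1) (k ≫ h) rfl p.2
  rw [res_res, res_res]
  exact res_congr S G (by simp) _ _

/-- the presheaf `X ↦ Σ (g : X ⟶ S), G (X, g)` -/
def sigmaPsh : Cᵒᵖ ⥤ Type (max v w) where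
  obj X := SigmaObj S G X.unop
  map h := TypeCat.ofHom (sigmaMap S G h.unop)
  map_id X := by
    apply ConcreteCategory.hom_ext
    intro p
    exact sigmaMap_id S G p
  map_comp h k := by
    apply ConcreteCategory.hom_ext
    intro p
    exact sigmaMap_comp S G h.unop k.unop p

theorem sigmaPsh_map_apply {X Y : C} (h : Y ⟶ X) (p : SigmaObj S G X) :
    (sigmaPsh S G).map h.op p = sigmaMap S G h p := rfl


theorem yoneda_map_apply {X Y : C} (f : Y ⟶ X) (t : X ⟶ S) :
    (yoneda.obj S).map f.op t = f ≫ t := rfl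

/-- from the sigma presheaf to the presheaf on `Over S` -/
theorem isSheafFor_of_sigma (U : Over S) (R : Presieve U.left)
    (hS : Presieve.IsSeparatedFor (yoneda.obj S) R)
    (hG : Presieve.IsSheafFor (sigmaPsh S G) R) :
    Presieve.IsSheafFor G (R.functorPullback (Over.forget S) : Presieve U) := by
  intro x hx
  let xt : Presieve.FamilyOfElements (sigmaPsh S G) R := fun Y f hf =>
    (⟨f ≫ U.hom, x (Over.homMk f rfl : Over.mk (f ≫ U.hom) ⟶ U) hf⟩ : SigmaObj S G Y)
  have hxt : xt.Compatible := by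
    intro Y₁ Y₂ Z g₁ g₂ f₁ f₂ h₁ h₂ comm
    refine sigma_ext S G _ _ ?_ ?_
    · change g₁ ≫ f₁ ≫ U.hom = g₂ ≫ f₂ ≫ U.hom
      rw [← Category.assoc, comm, Category.assoc]
    · change res S G (V := Over.mk (g₁ ≫ f₁ ≫ U.hom)) (W := Over.mk (g₂ ≫ f₂ ≫ U.hom)) (𝟙 Z) _
          (res S G (V := Over.mk (g₂ ≫ f₂ ≫ U.hom)) (W := Over.mk (f₂ ≫ U.hom)) g₂ rfl
            (x (Over.homMk f₂ rfl : Over.mk (f₂ ≫ U.hom) ⟶ U) h₂)) =
        res S G (V := Over.mk (g₁ ≫ f₁ ≫ U.hom)) (W := Over.mk (f₁ ≫ U.hom)) g₁ rfl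
            (x (Over.homMk f₁ rfl : Over.mk (f₁ ≫ U.hom) ⟶ U) h₁)
      rw [res_res]
      have hw : (𝟙 Z ≫ g₂) ≫ f₂ ≫ U.hom = g₁ ≫ f₁ ≫ U.hom := by
        rw [Category.id_comp, ← Category.assoc, ← comm, Category.assoc]
      have := hx (Z := Over.mk (g₁ ≫ f₁ ≫ U.hom))
        (Over.homMk g₁ rfl : Over.mk (g₁ ≫ f₁ ≫ U.hom) ⟶ Over.mk (f₁ ≫ U.hom))
        (Over.homMk (𝟙 Z ≫ g₂) hw : Over.mk (g₁ ≫ f₁ ≫ U.hom) ⟶ Over.mk (f₂ ≫ U.hom))
        (f₁ := (Over.homMk f₁ rfl : Over.mk (f₁ ≫ U.hom) ⟶ U))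
        (f₂ := (Over.homMk f₂ rfl : Over.mk (f₂ ≫ U.hom) ⟶ U)) h₁ h₂ (by
          apply Over.OverMorphism.ext
          change g₁ ≫ f₁ = (𝟙 Z ≫ g₂) ≫ f₂
          rw [Category.id_comp, comm])
      exact this.symm
  obtain ⟨⟨g', s⟩, hamalg, huniq⟩ := hG xt hxt
  have hg' : g' = U.hom := by
    apply hS.ext
    intro Y f hf
    obtain ⟨e, -⟩ := sigma_inj S G (hamalg f hf)
    exact e
  subst hg'
  refine ⟨s, ?_, ?_⟩
  · intro V φ hφ
    obtain ⟨Z, k, rfl⟩ := V.mk_surjective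
    obtain ⟨l : Z ⟶ U.left, rfl : l ≫ U.hom = k, rfl⟩ := Over.homMk_surjective φ
    obtain ⟨e, he⟩ := sigma_inj S G (hamalg l hφ)
    have he' : res S G (V := Over.mk (l ≫ U.hom)) (W := Over.mk (l ≫ U.hom)) (𝟙 Z) _
        (x (Over.homMk l rfl : Over.mk (l ≫ U.hom) ⟶ U) hφ) =
      res S G (V := Over.mk (l ≫ U.hom)) (W := U) l rfl s := he
    exact he'.symm.trans (res_id S G (V := Over.mk (l ≫ U.hom)) _ _)
  · intro t ht
    have h1 : xt.IsAmalgamation (⟨U.hom, t⟩ : SigmaObj S G U.left) := by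
      intro Y f hf
      refine sigma_ext S G _ _ rfl ?_
      change res S G (V := Over.mk (f ≫ U.hom)) (W := Over.mk (f ≫ U.hom)) (𝟙 Y) _
        (x (Over.homMk f rfl : Over.mk (f ≫ U.hom) ⟶ U) hf) =
        res S G (V := Over.mk (f ≫ U.hom)) (W := U) f rfl t
      exact (res_id S G (V := Over.mk (f ≫ U.hom)) _ _).trans
        (ht (Over.homMk f rfl : Over.mk (f ≫ U.hom) ⟶ U) hf).symm
    have h2 := huniq _ h1
    obtain ⟨e, he⟩ := sigma_inj S G h2
    have he' : res S G (V := U) (W := U) (𝟙 U.left) (Category.id_comp _) s = t := he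
    exact ((res_id S G (V := U) s _).symm.trans he').symm


/-- from the presheaf on `Over S` to the sigma presheaf -/
theorem sigma_isSheafFor {X : C} (R : Presieve X)
    (hS : Presieve.IsSheafFor (yoneda.obj S) R)
    (hG : ∀ g : X ⟶ S,
      Presieve.IsSheafFor G (Presieve.functorPullback (Over.forget S) (X := Over.mk g) R)) :
    Presieve.IsSheafFor (sigmaPsh S G) R := by
  intro xt hxt
  let γ : Presieve.FamilyOfElements (yoneda.obj S) R := fun Y f hf =>
    ((xt f hf : SigmaObj S G Y).1 : Y ⟶ S)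
  have hγ : γ.Compatible := by
    intro Y₁ Y₂ Z g₁ g₂ f₁ f₂ h₁ h₂ comm
    obtain ⟨e, -⟩ := sigma_inj S G (hxt g₁ g₂ h₁ h₂ comm)
    exact e
  obtain ⟨g, hg, hguniq⟩ := hS γ hγ
  have hg' : ∀ {Y : C} (f : Y ⟶ X) (hf : R f), f ≫ g = (xt f hf : SigmaObj S G Y).1 :=
    fun f hf => hg f hf
  let x : Presieve.FamilyOfElements G
      (Presieve.functorPullback (Over.forget S) (X := Over.mk g) R) := fun V φ hφ =>
    res S G (V := V) (W := Over.mk (xt φ.left hφ : SigmaObj S G V.left).1) (𝟙 V.left)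
      ((Category.id_comp _).trans ((hg' φ.left hφ).symm.trans (Over.w φ)))
      (xt φ.left hφ : SigmaObj S G V.left).2
  have hx : x.Compatible := by
    intro V₁ V₂ Z a₁ a₂ φ₁ φ₂ h₁ h₂ comm
    have comm' : a₁.left ≫ φ₁.left = a₂.left ≫ φ₂.left := by
      rw [← Over.comp_left, ← Over.comp_left, comm]
    obtain ⟨e, he⟩ := sigma_inj S G (hxt a₁.left a₂.left h₁ h₂ comm')
    have he' : res S G (V := Over.mk (a₁.left ≫ (xt φ₁.left h₁ : SigmaObj S G V₁.left).1))
        (W := Over.mk (a₂.left ≫ (xt φ₂.left h₂ : SigmaObj S G V₂.left).1)) (𝟙 Z.left) _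
        (res S G (V := Over.mk (a₂.left ≫ (xt φ₂.left h₂ : SigmaObj S G V₂.left).1))
          (W := Over.mk (xt φ₂.left h₂ : SigmaObj S G V₂.left).1) a₂.left rfl
          (xt φ₂.left h₂ : SigmaObj S G V₂.left).2) =
        res S G (V := Over.mk (a₁.left ≫ (xt φ₁.left h₁ : SigmaObj S G V₁.left).1))
          (W := Over.mk (xt φ₁.left h₁ : SigmaObj S G V₁.left).1) a₁.left rfl
          (xt φ₁.left h₁ : SigmaObj S G V₁.left).2 := he
    have hZ : 𝟙 Z.left ≫ (a₁.left ≫ (xt φ₁.left h₁ : SigmaObj S G V₁.left).1) = Z.hom := by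
      rw [Category.id_comp, ← hg' φ₁.left h₁, ← Category.assoc, comm', Category.assoc]
      have := Over.w (a₂ ≫ φ₂)
      rw [Over.comp_left, Category.assoc] at this
      exact this
    have key := congrArg (res S G (V := Z)
      (W := Over.mk (a₁.left ≫ (xt φ₁.left h₁ : SigmaObj S G V₁.left).1)) (𝟙 Z.left) hZ) he'
    rw [res_res, res_res, res_res] at key
    change res S G a₁.left (Over.w a₁) (x φ₁ h₁) = res S G a₂.left (Over.w a₂) (x φ₂ h₂)
    change res S G a₁.left (Over.w a₁) (res S G _ _ _) = res S G a₂.left (Over.w a₂) (res S G _ _ _)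
    rw [res_res, res_res]
    refine ((res_congr S G ?_ _ _).trans key.symm).trans (res_congr S G ?_ _ _)
    · simp
    · simp
  obtain ⟨s, hs, hsuniq⟩ := hG g x hx
  refine ⟨(⟨g, s⟩ : SigmaObj S G X), ?_, ?_⟩
  · intro Y f hf
    refine sigma_ext S G _ _ (hg' f hf) ?_
    have h1 := hs (Over.homMk f rfl : Over.mk (f ≫ g) ⟶ Over.mk g) hf
    exact h1.symm
  · rintro ⟨g₂, s₂⟩ h₂
    have hg₂ : g₂ = g := by
      apply hguniq
      intro Y f hf
      obtain ⟨e, -⟩ := sigma_inj S G (h₂ f hf)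
      exact e
    subst hg₂
    have hs₂ : s₂ = s := by
      apply hsuniq
      intro V φ hφ
      obtain ⟨e, he⟩ := sigma_inj S G (h₂ φ.left hφ)
      have he' : res S G (V := Over.mk (φ.left ≫ g₂))
          (W := Over.mk (xt φ.left hφ : SigmaObj S G V.left).1) (𝟙 V.left) _
          (xt φ.left hφ : SigmaObj S G V.left).2 =
          res S G (V := Over.mk (φ.left ≫ g₂)) (W := Over.mk g₂) φ.left rfl s₂ := he
      have hV : 𝟙 V.left ≫ (φ.left ≫ g₂) = V.hom := by
        rw [Category.id_comp]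
        exact Over.w φ
      have key := congrArg (res S G (V := V) (W := Over.mk (φ.left ≫ g₂)) (𝟙 V.left) hV) he'
      rw [res_res, res_res] at key
      change res S G φ.left (Over.w φ) s₂ = res S G _ _ _
      refine ((res_congr S G ?_ _ _).trans key.symm).trans (res_congr S G ?_ _ _)
      · simp
      · simp
    rw [hs₂]


omit G in
theorem functorPullback_singleton {X Y : C} (g : X ⟶ S) (h : Y ⟶ X) :
    Presieve.functorPullback (Over.forget S) (X := Over.mk g) (Presieve.singleton h) =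
      Presieve.singleton (Over.homMk h rfl : Over.mk (h ≫ g) ⟶ Over.mk g) := by
  funext V
  funext ψ
  apply propext
  constructor
  · intro hψ
    obtain ⟨Z, k, rfl⟩ := V.mk_surjective
    obtain ⟨l : Z ⟶ X, rfl : l ≫ g = k, rfl⟩ := Over.homMk_surjective ψ
    have hl : Presieve.singleton h l := hψ
    cases hl
    exact Presieve.singleton.mk
  · intro hψ
    cases hψ
    exact Presieve.singleton.mk

section topology
variable (J : GrothendieckTopology C)

theorem isSheaf_over_of_sigma (hS : Presieve.IsSheaf J (yoneda.obj S))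
    (hG : Presieve.IsSheaf J (sigmaPsh S G)) : Presieve.IsSheaf (J.over S) G := by
  intro U T hT
  have hT' : Sieve.overEquiv U T ∈ J U.left := hT
  have e : T = (Sieve.overEquiv U).symm (Sieve.overEquiv U T) :=
    ((Sieve.overEquiv U).symm_apply_apply T).symm
  rw [e]
  exact isSheafFor_of_sigma S G U (Sieve.overEquiv U T).arrows
    (hS _ hT').isSeparatedFor (hG _ hT')

theorem isSheaf_sigma_of_over (hS : Presieve.IsSheaf J (yoneda.obj S))
    (hG : Presieve.IsSheaf (J.over S) G) : Presieve.IsSheaf J (sigmaPsh S G) := by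
  intro X T hT
  refine sigma_isSheafFor S G T.arrows (hS _ hT) (fun g => ?_)
  exact hG _ (J.overEquiv_symm_mem_over (Over.mk g) T hT)

end topology

end Groth.Agent.Lib.T2H8.OverSigma
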