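import Mathlib
import Groth.Prelude.Def_AlgSp
import Groth.Prelude.Def_AlgSpRep
import Groth.Agent.Lib.T2H7QuotSecA
import Groth.Agent.Lib.T2H8OverSigma
import Groth.Agent.S5238

/-!
# A Zariski sheaf covered by fppf subsheaves representable by spaces is an fppf sheaf (helper7)
-/

set_option autoImplicit false
set_option linter.unusedSectionVars false
set_option linter.unusedVariables false
set_option linter.style.haveILetI false

universe u v

open CategoryTheory CategoryTheory.Limits AlgebraicGeometry Opposite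

namespace Groth.Agent.Lib.T2H7.CovSheaf

open Groth.Agent.Lib.T2H7.QuotSecA Groth.Agent.Lib.Helper12.QuotShLib

variable {S : Scheme.{u}}

section General

variable (K : Precoverage Scheme.{u}) [(QuotSh.J K S).Subcanonical]

/-- sheaf condition of a presheaf on `Over S` for a single covering morphism. -/
theorem sheaf_single {G : AlgSp.PSp S} (hG : Presheaf.IsSheaf (QuotSh.J K S) G) {T' T : Over S}
    (ψ : T' ⟶ T) (hψ : Presieve.singleton ψ.left ∈ K T.left) (x : G.obj (op T'))
    (hx : ∀ (Z : Over S) (p₁ p₂ : Z ⟶ T'), p₁ ≫ ψ = p₂ ≫ ψ → G.map p₁.op x = G.map p₂.op x) :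
    ∃! t : G.obj (op T), G.map ψ.op t = x := by
  have hsh : Presieve.IsSheaf (QuotSh.J K S) G := (isSheaf_iff_isSheaf_of_type _ _).1 hG
  have h1 := hsh.isSheafFor _ (generate_singleton_mem_J K ψ hψ)
  rw [Presieve.isSheafFor_singleton] at h1
  exact h1 x (fun {Z} p₁ p₂ h => hx Z p₁ p₂ h)

/-- sheaf condition of a presheaf on `Over S` for a covering family. -/
theorem sheaf_family {G : AlgSp.PSp S} (hG : Presheaf.IsSheaf (QuotSh.J K S) G) {T : Over S}
    {ι : Type u} (W : ι → Over S) (j : ∀ a, W a ⟶ T)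
    (hcov : Presieve.ofArrows (fun a => (W a).left) (fun a => (j a).left) ∈ K T.left)
    (x : ∀ a, G.obj (op (W a)))
    (hx : ∀ (a b : ι) (Z : Over S) (ga : Z ⟶ W a) (gb : Z ⟶ W b), ga ≫ j a = gb ≫ j b →
      G.map ga.op (x a) = G.map gb.op (x b)) :
    ∃! t : G.obj (op T), ∀ a, G.map (j a).op t = x a := by
  have hsh : Presieve.IsSheaf (QuotSh.J K S) G := (isSheaf_iff_isSheaf_of_type _ _).1 hG
  have h1 := hsh.isSheafFor _ (ofArrows_mem_J K W j hcov)
  rw [Presieve.isSheafFor_arrows_iff] at h1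
  exact h1 x (fun a b Z ga gb h => hx a b Z ga gb h)

theorem sep_family {G : AlgSp.PSp S} (hG : Presheaf.IsSheaf (QuotSh.J K S) G) {T : Over S}
    {ι : Type u} (W : ι → Over S) (j : ∀ a, W a ⟶ T)
    (hcov : Presieve.ofArrows (fun a => (W a).left) (fun a => (j a).left) ∈ K T.left)
    (t t' : G.obj (op T)) (h : ∀ a, G.map (j a).op t = G.map (j a).op t') : t = t' := by
  obtain ⟨t₀, -, hu⟩ := sheaf_family K hG W j hcov (fun a => G.map (j a).op t) (by
    intro a b Z ga gb hab
    have e1 : G.map ga.op (G.map (j a).op t) = G.map (ga ≫ j a).op t := by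
      rw [op_comp, G.map_comp]; rfl
    have e2 : G.map gb.op (G.map (j b).op t) = G.map (gb ≫ j b).op t := by
      rw [op_comp, G.map_comp]; rfl
    rw [e1, e2, hab])
  rw [hu t (fun a => rfl), hu t' (fun a => (h a).symm)]

end General

section Lift

/-- `F.map` of a composite. -/
lemma map_map (G : AlgSp.PSp S) {A B C : Over S} (f : A ⟶ B) (g : B ⟶ C) (x : G.obj (op C)) :
    G.map f.op (G.map g.op x) = G.map (f ≫ g).op x := by
  rw [op_comp, G.map_comp]; rfl

/-- the Yoneda equivalence for presheaves on `Over S`. -/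
noncomputable abbrev yE {V : Over S} {G : AlgSp.PSp S} :
    ((AlgSp.pyon S).obj V ⟶ G) ≃ G.obj (op V) := uliftYonedaEquiv.{u + 1}

lemma yE_nat {V W : Over S} {G : AlgSp.PSp S} (f : (AlgSp.pyon S).obj V ⟶ G) (g : W ⟶ V) :
    G.map g.op (yE f) = yE ((AlgSp.pyon S).map g ≫ f) :=
  uliftYonedaEquiv_naturality.{u + 1} f g.op

lemma yE_comp {V : Over S} {G G' : AlgSp.PSp S} (α : (AlgSp.pyon S).obj V ⟶ G) (β : G ⟶ G') :
    yE (α ≫ β) = β.app _ (yE α) := rfl

lemma yE_symm_map {V W : Over S} {G : AlgSp.PSp S} (g : W ⟶ V) (x : G.obj (op V)) :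
    yE.symm (G.map g.op x) = (AlgSp.pyon S).map g ≫ yE.symm x :=
  uliftYonedaEquiv_symm_map.{u + 1} g.op x

lemma yE_symm_comp {V : Over S} {G G' : AlgSp.PSp S} (x : G.obj (op V)) (f : G ⟶ G') :
    yE.symm x ≫ f = yE.symm (f.app _ x) :=
  uliftYonedaEquiv_symm_comp.{u + 1} x f

/-- **Lifting lemma**: if a section `s` of `F` over `W` lies in the subsheaf `Fi` after
restriction to an fppf covering `W' ⟶ W`, and `Fi ⟶ F` is representable by spaces, then `s`
lies in `Fi`. -/
theorem mem_range_of_cover {F Fi : AlgSp.PSp S} (m : Fi ⟶ F) [Mono m] (hb : AlgSp.RepBySp m)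
    {W' W : Over S} (ψ : W' ⟶ W) (hψ : Presieve.singleton ψ.left ∈ Scheme.fppfPrecoverage W.left)
    (s : F.obj (op W)) (y' : Fi.obj (op W')) (hy : m.app _ y' = F.map ψ.op s) :
    ∃ y : Fi.obj (op W), m.app _ y = s := by
  let ξ : (AlgSp.pyon S).obj W ⟶ F := yE.symm s
  let a' : (AlgSp.pyon S).obj W' ⟶ Fi := yE.symm y'
  have hcond : a' ≫ m = (AlgSp.pyon S).map ψ ≫ ξ := by
    rw [yE_symm_comp, hy]
    exact yE_symm_map ψ s
  have hZ : AlgSp.IsAlgSpaceP (pullback m ξ) :=
    hb ξ (pullback.fst m ξ) (pullback.snd m ξ) (IsPullback.of_hasPullback m ξ)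
  obtain ⟨hsh, -⟩ := hZ
  let z' : (AlgSp.pyon S).obj W' ⟶ pullback m ξ := pullback.lift a' ((AlgSp.pyon S).map ψ) hcond
  have hz'1 : z' ≫ pullback.fst m ξ = a' := pullback.lift_fst _ _ _
  have hz'2 : z' ≫ pullback.snd m ξ = (AlgSp.pyon S).map ψ := pullback.lift_snd _ _ _
  -- compatibility
  have hcompat : ∀ (Z : Over S) (p₁ p₂ : Z ⟶ W'), p₁ ≫ ψ = p₂ ≫ ψ →
      (pullback m ξ).map p₁.op (yE z') = (pullback m ξ).map p₂.op (yE z') := by
    intro Z p₁ p₂ h12
    rw [yE_nat, yE_nat]
    congr 1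
    have e2 : ((AlgSp.pyon S).map p₁ ≫ z') ≫ pullback.snd m ξ =
        ((AlgSp.pyon S).map p₂ ≫ z') ≫ pullback.snd m ξ := by
      rw [Category.assoc, Category.assoc, hz'2, ← Functor.map_comp, ← Functor.map_comp, h12]
    apply pullback.hom_ext _ e2
    rw [← cancel_mono m, Category.assoc, Category.assoc, pullback.condition,
      ← Category.assoc, ← Category.assoc, e2, Category.assoc, Category.assoc,
      ← pullback.condition, Category.assoc, Category.assoc]
  obtain ⟨ζ, hζ, -⟩ := sheaf_single Scheme.fppfPrecoverage hsh ψ hψ (yE z') hcompat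
  let z : (AlgSp.pyon S).obj W ⟶ pullback m ξ := yE.symm ζ
  have hz : (AlgSp.pyon S).map ψ ≫ z = z' := by
    apply yE.injective
    rw [← hζ, ← yE_symm_map, Equiv.apply_symm_apply]
  -- the second component is the identity
  have hc : z ≫ pullback.snd m ξ = 𝟙 _ := by
    apply yE.injective
    have h1 : (AlgSp.pyon S).map ψ ≫ z ≫ pullback.snd m ξ = (AlgSp.pyon S).map ψ ≫ 𝟙 _ := by
      rw [← Category.assoc, hz, hz'2, Category.comp_id]
    have h2 := congrArg yE h1
    rw [← yE_nat, ← yE_nat] at h2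
    -- sections of `h_W` over `W` are morphisms, which are determined on a covering
    obtain ⟨c₀, hc₀⟩ : ∃ c₀ : W ⟶ W, yE (z ≫ pullback.snd m ξ) = ULift.up c₀ :=
      ⟨(yE (z ≫ pullback.snd m ξ)).down, rfl⟩
    have hid : yE (𝟙 ((AlgSp.pyon S).obj W)) = ULift.up (𝟙 W) := rfl
    rw [hc₀, hid] at h2 ⊢
    have h3 : ψ ≫ c₀ = ψ ≫ 𝟙 W := congrArg ULift.down h2
    have h4 : c₀ = 𝟙 W := by
      refine over_hom_ext Scheme.fppfPrecoverage W W (fun _ : PUnit.{u + 1} => W')
        (fun _ => ψ) ?_ _ _ (fun _ => h3)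
      rw [Presieve.ofArrows_pUnit]
      exact hψ
    rw [h4]
  refine ⟨yE (z ≫ pullback.fst m ξ), ?_⟩
  rw [← yE_comp, Category.assoc, pullback.condition, ← Category.assoc, hc, Category.id_comp]
  exact Equiv.apply_symm_apply _ _

end Lift

section Covers

/-- members of a singleton fppf covering. -/
lemma props_of_singleton_mem {X Y : Scheme.{u}} (f : X ⟶ Y)
    (hf : Presieve.singleton f ∈ Scheme.fppfPrecoverage Y) :
    Flat f ∧ LocallyOfFinitePresentation f ∧ Surjective f := by
  rw [show Presieve.singleton f = Presieve.ofArrows (fun _ : PUnit.{1} => X) (fun _ => f) from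
    (Presieve.ofArrows_pUnit f).symm, Scheme.fppfPrecoverage,
    Scheme.ofArrows_mem_precoverage_iff] at hf
  refine ⟨(hf.2 PUnit.unit).1, (hf.2 PUnit.unit).2, ⟨fun y => ?_⟩⟩
  obtain ⟨_, x, hx⟩ := hf.1 y
  exact ⟨x, hx⟩

/-- base change of a singleton covering. -/
lemma singleton_bc (K : Precoverage Scheme.{u}) [K.IsStableUnderBaseChange] {T' T W : Over S}
    (ψ : T' ⟶ T) (hψ : Presieve.singleton ψ.left ∈ K T.left) (j : W ⟶ T) :
    Presieve.singleton (pullback.snd ψ j).left ∈ K W.left := by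
  have hsq := Functor.map_isPullback (Over.forget S) (IsPullback.of_hasPullback ψ j)
  simp only [Over.forget_obj, Over.forget_map] at hsq
  have h1 : Presieve.ofArrows (fun _ : PUnit.{1} => T'.left) (fun _ => ψ.left) ∈ K T.left := by
    rw [Presieve.ofArrows_pUnit ψ.left]; exact hψ
  have h2 := Precoverage.mem_coverings_of_isPullback (fun _ : PUnit.{1} => ψ.left) h1 j.left
    (fun _ => (pullback.snd ψ j).left) (fun _ => (pullback.fst ψ j).left) (fun _ => hsq.flip)
  rw [Presieve.ofArrows_pUnit] at h2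
  exact h2

/-- factorisation of a flat morphism locally of finite presentation through its open image. -/
theorem exists_image_factor {V T : Over S} (g : V ⟶ T) [Flat g.left]
    [LocallyOfFinitePresentation g.left] :
    ∃ (W : Over S) (j : W ⟶ T) (g' : V ⟶ W), IsOpenImmersion j.left ∧ g' ≫ j = g ∧
      Presieve.singleton g'.left ∈ Scheme.fppfPrecoverage W.left ∧
      Set.range j.left.base = Set.range g.left.base := by
  let Wo : T.left.Opens := ⟨Set.range g.left.base, g.left.isOpenMap.isOpen_range⟩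
  have hr : Set.range g.left.base ⊆ Set.range Wo.ι.base := by
    rw [Scheme.Opens.range_ι]; exact le_rfl
  let l : V.left ⟶ (Wo : Scheme.{u}) := IsOpenImmersion.lift Wo.ι g.left hr
  have hl : l ≫ Wo.ι = g.left := IsOpenImmersion.lift_fac _ _ _
  haveI : Flat (l ≫ Wo.ι) := by rw [hl]; infer_instance
  haveI : LocallyOfFinitePresentation (l ≫ Wo.ι) := by rw [hl]; infer_instance
  haveI : Flat l :=
    MorphismProperty.of_postcomp (W := @Flat) (W' := @IsOpenImmersion) l Wo.ι
      inferInstance inferInstance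
  haveI : LocallyOfFinitePresentation l :=
    MorphismProperty.of_postcomp (W := @LocallyOfFinitePresentation) (W' := @IsOpenImmersion)
      l Wo.ι inferInstance inferInstance
  haveI : Surjective l := by
    refine ⟨fun w => ?_⟩
    obtain ⟨v, hv⟩ : Wo.ι.base w ∈ Set.range g.left.base := by
      have h1 : Wo.ι.base w ∈ Set.range Wo.ι.base := ⟨w, rfl⟩
      rw [Scheme.Opens.range_ι] at h1
      exact h1
    refine ⟨v, ?_⟩
    apply Wo.ι.isOpenEmbedding.injective
    rw [← Scheme.Hom.comp_apply, hl]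
    exact hv
  refine ⟨Over.mk (Wo.ι ≫ T.hom), Over.homMk Wo.ι rfl,
    Over.homMk l (by
      change l ≫ Wo.ι ≫ T.hom = V.hom
      rw [← Category.assoc, hl, Over.w g]), ?_, ?_, ?_, ?_⟩
  · exact inferInstanceAs (IsOpenImmersion Wo.ι)
  · apply Over.OverMorphism.ext
    exact hl
  · exact l.singleton_mem_fppfPrecoverage
  · exact Scheme.Opens.range_ι Wo

end Covers

section Main

variable {F : AlgSp.PSp S} {ι : Type v} (Fi : ι → AlgSp.PSp S) (m : ∀ i, Fi i ⟶ F)
  [hmono : ∀ i, Mono (m i)]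
  (h1 : Presheaf.IsSheaf (QuotSh.J Scheme.zariskiPrecoverage S) F)
  (ha : ∀ i, Presheaf.IsSheaf (AlgSp.J S) (Fi i))
  (hb : ∀ i, AlgSp.RepBySp (m i))
  (hc : ∀ (T : Over S) (x : F.obj (op T)), ∃ R ∈ (AlgSp.J S) T,
    ∀ ⦃T' : Over S⦄ (f : T' ⟶ T), R.arrows f →
      ∃ i, F.map f.op x ∈ Set.range ((m i).app (op T')))

lemma app_injective (i : ι) (V : Over S) : Function.Injective ((m i).app (op V)) := by
  have h : Mono ((m i).app (op V)) := inferInstance
  exact (mono_iff_injective _).1 h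

lemma app_map (i : ι) {V W : Over S} (g : V ⟶ W) (y : (Fi i).obj (op W)) :
    (m i).app (op V) ((Fi i).map g.op y) = F.map g.op ((m i).app (op W) y) :=
  NatTrans.naturality_apply (m i) g.op y

include hb hc in
/-- Zariski locally, every section of `F` lies in one of the subsheaves. -/
theorem exists_zariski_local (T : Over S) (x : F.obj (op T)) :
    ∃ (W : T.left → Over S) (j : ∀ p, W p ⟶ T),
      Presieve.ofArrows (fun p => (W p).left) (fun p => (j p).left) ∈
        Scheme.zariskiPrecoverage T.left ∧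
      ∀ p, ∃ i, F.map (j p).op x ∈ Set.range ((m i).app (op (W p))) := by
  obtain ⟨R, hR, hRm⟩ := hc T x
  rw [GrothendieckTopology.mem_over_iff,
    Precoverage.mem_toGrothendieck_iff_of_isStableUnderComposition] at hR
  obtain ⟨R', hR', hle⟩ := hR
  obtain ⟨I, Z, φ, rfl⟩ := Presieve.exists_eq_ofArrows R'
  rw [Scheme.fppfPrecoverage, Scheme.ofArrows_mem_precoverage_iff] at hR'
  obtain ⟨hsurj, hprop⟩ := hR'
  have key : ∀ p : T.left, ∃ (W : Over S) (j : W ⟶ T), IsOpenImmersion j.left ∧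
      p ∈ Set.range j.left.base ∧ ∃ i, F.map j.op x ∈ Set.range ((m i).app (op W)) := by
    intro p
    obtain ⟨a, hpa⟩ := hsurj p
    let g : Over.mk (φ a ≫ T.hom) ⟶ T := Over.homMk (φ a) rfl
    haveI : Flat g.left := (hprop a).1
    haveI : LocallyOfFinitePresentation g.left := (hprop a).2
    obtain ⟨W, j, g', hj, hfac, hg', hrange⟩ := exists_image_factor g
    refine ⟨W, j, hj, ?_, ?_⟩
    · rw [hrange]; exact hpa
    · have h2 := hle _ _ (Presieve.ofArrows.mk a)
      rw [Sieve.overEquiv_iff] at h2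
      obtain ⟨i, y', hy'⟩ := hRm g h2
      have h3 : (m i).app _ y' = F.map g'.op (F.map j.op x) := by
        rw [hy', map_map, hfac]
      obtain ⟨y, hy⟩ := mem_range_of_cover (m i) (hb i) g' hg' (F.map j.op x) y' h3
      exact ⟨i, y, hy⟩
  choose W j hj hp hi using key
  refine ⟨W, j, ?_, hi⟩
  rw [Scheme.zariskiPrecoverage, Scheme.ofArrows_mem_precoverage_iff]
  exact ⟨fun p => ⟨p, hp p⟩, hj⟩

/-- a sheaf is separated for a single covering morphism. -/
theorem sep_single_sheaf (K : Precoverage Scheme.{u}) [(QuotSh.J K S).Subcanonical]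
    {G : AlgSp.PSp S} (hG : Presheaf.IsSheaf (QuotSh.J K S) G) {T' T : Over S}
    (ψ : T' ⟶ T) (hψ : Presieve.singleton ψ.left ∈ K T.left) (t t' : G.obj (op T))
    (h : G.map ψ.op t = G.map ψ.op t') : t = t' := by
  refine sep_family K hG (fun _ : PUnit.{u + 1} => T') (fun _ => ψ) ?_ t t' (fun _ => h)
  rw [Presieve.ofArrows_pUnit ψ.left]
  exact hψ

include h1 ha hb hc in
/-- `F` is separated for single fppf coverings. -/
theorem sep_single {T' T : Over S} (ψ : T' ⟶ T)
    (hψ : Presieve.singleton ψ.left ∈ Scheme.fppfPrecoverage T.left) (t t' : F.obj (op T))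
    (h : F.map ψ.op t = F.map ψ.op t') : t = t' := by
  obtain ⟨W, j, hcov, hi⟩ := exists_zariski_local Fi m hb hc T t
  refine sep_family Scheme.zariskiPrecoverage h1 W j hcov t t' (fun p => ?_)
  obtain ⟨i, y, hy⟩ := hi p
  -- base change of the covering
  have hψp := singleton_bc Scheme.fppfPrecoverage ψ hψ (j p)
  have hcond : pullback.fst ψ (j p) ≫ ψ = pullback.snd ψ (j p) ≫ j p := pullback.condition
  have e1 : (m i).app _ ((Fi i).map (pullback.snd ψ (j p)).op y) =
      F.map (pullback.snd ψ (j p)).op (F.map (j p).op t') := by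
    rw [app_map, hy, map_map, map_map, ← hcond, ← map_map, ← map_map, h]
  obtain ⟨y', hy'⟩ := mem_range_of_cover (m i) (hb i) (pullback.snd ψ (j p)) hψp
    (F.map (j p).op t') _ e1
  have e2 : (Fi i).map (pullback.snd ψ (j p)).op y' = (Fi i).map (pullback.snd ψ (j p)).op y := by
    apply app_injective Fi m i
    rw [e1, app_map, hy']
  have e3 : y' = y := sep_single_sheaf Scheme.fppfPrecoverage (ha i) _ hψp _ _ e2
  rw [← hy, ← hy', e3]

include h1 ha hb hc in
/-- gluing of sections of `F` along a single fppf covering. -/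
theorem glue_single {T' T : Over S} (ψ : T' ⟶ T)
    (hψ : Presieve.singleton ψ.left ∈ Scheme.fppfPrecoverage T.left) (x : F.obj (op T'))
    (hx : ∀ (Z : Over S) (p₁ p₂ : Z ⟶ T'), p₁ ≫ ψ = p₂ ≫ ψ → F.map p₁.op x = F.map p₂.op x) :
    ∃ t : F.obj (op T), F.map ψ.op t = x := by
  obtain ⟨hψfl, hψfp, hψsu⟩ := props_of_singleton_mem ψ.left hψ
  obtain ⟨V, l, hcovV, hi⟩ := exists_zariski_local Fi m hb hc T' x
  have hlo : ∀ k, IsOpenImmersion (l k).left := by
    rw [Scheme.zariskiPrecoverage, Scheme.ofArrows_mem_precoverage_iff] at hcovV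
    exact hcovV.2
  have hlsurj : ∀ p' : T'.left, ∃ k, p' ∈ Set.range (l k).left.base := by
    rw [Scheme.zariskiPrecoverage, Scheme.ofArrows_mem_precoverage_iff] at hcovV
    exact hcovV.1
  choose ik yk hyk using hi
  -- local descent
  have key : ∀ k : T'.left, ∃ (W : Over S) (j : W ⟶ T) (ψk : V k ⟶ W) (w : F.obj (op W)),
      IsOpenImmersion j.left ∧ ψk ≫ j = l k ≫ ψ ∧
      Presieve.singleton ψk.left ∈ Scheme.fppfPrecoverage W.left ∧
      Set.range j.left.base = Set.range (l k ≫ ψ).left.base ∧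
      F.map ψk.op w = F.map (l k).op x := by
    intro k
    haveI := hlo k
    haveI : Flat (l k ≫ ψ).left := by
      rw [Over.comp_left]; infer_instance
    haveI : LocallyOfFinitePresentation (l k ≫ ψ).left := by
      rw [Over.comp_left]; infer_instance
    obtain ⟨W, j, ψk, hj, hfac, hψk, hrange⟩ := exists_image_factor (l k ≫ ψ)
    -- descend `yk k` along `ψk`
    obtain ⟨w', hw', -⟩ := sheaf_single Scheme.fppfPrecoverage (ha (ik k)) ψk hψk (yk k) (by
      intro Z p₁ p₂ h12
      apply app_injective Fi m (ik k)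
      rw [app_map, app_map, hyk, map_map, map_map]
      apply hx
      rw [Category.assoc, Category.assoc, ← hfac, ← Category.assoc, ← Category.assoc, h12])
    refine ⟨W, j, ψk, (m (ik k)).app _ w', hj, hfac, hψk, hrange, ?_⟩
    rw [← app_map, hw', hyk]
  choose W j ψk w hj hfac hψk hrange hw using key
  -- compatibility with base change
  have claim : ∀ (k : T'.left) (Z : Over S) (g : Z ⟶ W k) (h : Z ⟶ T), g ≫ j k = h →
      F.map (pullback.snd ψ h).op (F.map g.op (w k)) = F.map (pullback.fst ψ h).op x := by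
    intro k Z g h hgh
    have hcond : pullback.fst ψ h ≫ ψ = pullback.snd ψ h ≫ h := pullback.condition
    have hc2 : pullback.fst (ψk k) (pullback.snd ψ h ≫ g) ≫ ψk k =
        pullback.snd (ψk k) (pullback.snd ψ h ≫ g) ≫ pullback.snd ψ h ≫ g := pullback.condition
    refine sep_single Fi m h1 ha hb hc (pullback.snd (ψk k) (pullback.snd ψ h ≫ g))
      (singleton_bc Scheme.fppfPrecoverage (ψk k) (hψk k) _) _ _ ?_
    have e1 : F.map (pullback.snd (ψk k) (pullback.snd ψ h ≫ g)).op
        (F.map (pullback.snd ψ h).op (F.map g.op (w k))) =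
        F.map (pullback.fst (ψk k) (pullback.snd ψ h ≫ g)).op (F.map (l k).op x) := by
      rw [map_map F (pullback.snd ψ h) g, map_map, ← hc2, ← map_map, hw]
    rw [e1, map_map, map_map]
    apply hx
    rw [Category.assoc, Category.assoc, ← hfac, ← Category.assoc, hc2, Category.assoc,
      Category.assoc, hgh, hcond]
  -- the covering of `T`
  have hcovW : Presieve.ofArrows (fun k => (W k).left) (fun k => (j k).left) ∈
      Scheme.zariskiPrecoverage T.left := by
    rw [Scheme.zariskiPrecoverage, Scheme.ofArrows_mem_precoverage_iff]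
    refine ⟨fun p => ?_, hj⟩
    obtain ⟨p', hp'⟩ := hψsu.surj p
    obtain ⟨k, q, hq⟩ := hlsurj p'
    refine ⟨k, ?_⟩
    rw [hrange k]
    refine ⟨q, ?_⟩
    rw [Over.comp_left, Scheme.Hom.comp_apply, hq, hp']
  obtain ⟨t, ht, -⟩ := sheaf_family Scheme.zariskiPrecoverage h1 W j hcovW w (by
    intro a b Z ga gb hab
    refine sep_single Fi m h1 ha hb hc (pullback.snd ψ (ga ≫ j a))
      (singleton_bc Scheme.fppfPrecoverage ψ hψ _) _ _ ?_
    rw [claim a Z ga (ga ≫ j a) rfl, claim b Z gb (ga ≫ j a) hab.symm])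
  refine ⟨t, ?_⟩
  refine sep_family Scheme.zariskiPrecoverage h1 V l hcovV _ _ (fun k => ?_)
  rw [map_map, ← hfac, ← map_map, ht, hw]

include h1 ha hb hc in
/-- **Main theorem**: `F` is an fppf sheaf. -/
theorem isSheaf_of_cover : Presheaf.IsSheaf (AlgSp.J S) F := by
  rw [isSheaf_iff_isSheaf_of_type]
  change Presieve.IsSheaf (Scheme.fppfTopology.over S) F
  have hYq : Presieve.IsSheaf Scheme.fppfTopology (yoneda.obj S) :=
    GrothendieckTopology.Subcanonical.isSheaf_of_isRepresentable _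
  have hYz : Presieve.IsSheaf Scheme.zariskiTopology (yoneda.obj S) :=
    GrothendieckTopology.Subcanonical.isSheaf_of_isRepresentable _
  apply Groth.Agent.Lib.T2H8.OverSigma.isSheaf_over_of_sigma S F Scheme.fppfTopology hYq
  rw [← isSheaf_iff_isSheaf_of_type, Groth.Agent.S5238.result]
  refine ⟨?_, ?_⟩
  · rw [isSheaf_iff_isSheaf_of_type]
    apply Groth.Agent.Lib.T2H8.OverSigma.isSheaf_sigma_of_over S F Scheme.zariskiTopology hYz
    exact (isSheaf_iff_isSheaf_of_type _ _).1 h1
  · intro T' T _ _ f _ _ _ _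
    apply Groth.Agent.Lib.T2H8.OverSigma.sigma_isSheafFor
    · exact hYq.isSheafFor _
        (Precoverage.generate_mem_toGrothendieck f.singleton_mem_fppfPrecoverage)
    · intro g
      have e := Groth.Agent.Lib.T2H8.OverSigma.functorPullback_singleton S g f
      refine Eq.mpr (congrArg (Presieve.IsSheafFor F) e) ?_
      rw [Presieve.isSheafFor_singleton]
      intro x hx
      have hψ : Presieve.singleton (Over.homMk f rfl : Over.mk (f ≫ g) ⟶ Over.mk g).left ∈
          Scheme.fppfPrecoverage (Over.mk g).left := f.singleton_mem_fppfPrecoverage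
      obtain ⟨t, ht⟩ := glue_single Fi m h1 ha hb hc
        (Over.homMk f rfl : Over.mk (f ≫ g) ⟶ Over.mk g) hψ x (fun Z p₁ p₂ h => hx p₁ p₂ h)
      exact ⟨t, ht, fun t' ht' => sep_single Fi m h1 ha hb hc _ hψ _ _ (ht'.trans ht.symm)⟩

end Main

end Groth.Agent.Lib.T2H7.CovSheaf
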