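import Mathlib

set_option autoImplicit false
set_option linter.unusedSectionVars false
set_option linter.unusedVariables false
set_option linter.style.haveILetI false

universe u

open Polynomial

namespace Groth.Agent.Lib.T2H7.EtDense

section Algebra

variable {A C : Type*} [CommRing A] [CommRing C] [Algebra A C]

/-- radical of the annihilator of an element. -/
def radAnn (z : C) : Ideal C := Ideal.radical (LinearMap.ker (LinearMap.toSpanSingleton C C z))

theorem mem_radAnn {z c : C} : c ∈ radAnn z ↔ ∃ N : ℕ, c ^ N * z = 0 := by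
  unfold radAnn
  rw [Ideal.mem_radical_iff]
  simp only [LinearMap.mem_ker, LinearMap.toSpanSingleton_apply, smul_eq_mul]

theorem radAnn_le_mul (z w : C) : radAnn z ≤ radAnn (w * z) := by
  intro c hc
  obtain ⟨N, hN⟩ := mem_radAnn.mp hc
  refine mem_radAnn.mpr ⟨N, ?_⟩
  rw [mul_left_comm, hN, mul_zero]

theorem radAnn_isRadical (z : C) : (radAnn z).IsRadical := by
  unfold radAnn
  exact Ideal.radical_isRadical _

theorem mem_radAnn_of_pow {z c : C} {n : ℕ} (h : c ^ n ∈ radAnn z) : c ∈ radAnn z :=
  (radAnn_isRadical z) ⟨n, h⟩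

variable {ι : Type*} (a : ι → A)

/-- the density condition for the `A`-module `C`. -/
def DensCond : Prop :=
  ∀ (α : A) (z : C), (∀ i, algebraMap A C (α * a i) ∈ radAnn z) → algebraMap A C α ∈ radAnn z

variable {a}

theorem core (hD : DensCond (C := C) a) (g y h u : C) (c : A) (hc : algebraMap A C c = h - g * u)
    (hy : ∀ i, algebraMap A C (a i) * g ∈ radAnn y) (hgh : g * h ∈ radAnn y) :
    algebraMap A C c * g ∈ radAnn y := by
  obtain ⟨L, hL⟩ := mem_radAnn.mp hgh
  have hmem : (algebraMap A C c) ^ (2 * L) ∈ Ideal.span ({h ^ L, (g * u) ^ L} : Set C) := by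
    rw [hc, sub_eq_add_neg]
    have hk : L + L ≤ 2 * L + 1 := by omega
    refine Ideal.add_pow_mem_of_pow_mem_of_le _ (m := L) (n := L) (k := 2 * L) ?_ ?_ hk
    · exact Ideal.subset_span (by simp)
    · rw [neg_pow]
      exact Ideal.mul_mem_left _ _ (Ideal.subset_span (by simp))
  obtain ⟨w', w, hw⟩ := Ideal.mem_span_pair.mp hmem
  set z : C := w * (g * u) ^ L * y with hz
  have h1 : h ∈ radAnn z := by
    refine mem_radAnn.mpr ⟨L, ?_⟩
    have : h ^ L * z = w * u ^ L * ((g * h) ^ L * y) := by
      rw [hz]; ring
    rw [this, hL, mul_zero]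
  have h2 : ∀ i, algebraMap A C (a i) * g ∈ radAnn z := fun i => radAnn_le_mul y _ (hy i)
  have h3 : ∀ i, algebraMap A C (c * a i) ∈ radAnn z := by
    intro i
    have : algebraMap A C (c * a i) = algebraMap A C (a i) * h - (algebraMap A C (a i) * g) * u := by
      rw [map_mul, hc]; ring
    rw [this]
    exact Ideal.sub_mem _ (Ideal.mul_mem_left _ _ h1) (Ideal.mul_mem_right _ _ (h2 i))
  obtain ⟨N, hN⟩ := mem_radAnn.mp (hD c z h3)
  refine mem_radAnn.mpr ⟨N + 2 * L, ?_⟩
  have : (algebraMap A C c * g) ^ (N + 2 * L) * y =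
      (algebraMap A C c) ^ N * g ^ (N + L) * w' * ((g * h) ^ L * y) +
        g ^ (N + 2 * L) * ((algebraMap A C c) ^ N * z) := by
    rw [hz, mul_pow, pow_add (algebraMap A C c) N (2 * L), ← hw]
    ring
  rw [this, hL, hN, mul_zero, mul_zero, add_zero]

theorem mem_radAnn_of_isIntegral (hD : DensCond (C := C) a) (g y : C) (hg : IsIntegral A g)
    (hy : ∀ i, algebraMap A C (a i) * g ∈ radAnn y) : g ∈ radAnn y := by
  have key : ∀ (n : ℕ) (q : A[X]), q.Monic → q.natDegree = n → g * aeval g q ∈ radAnn y →
      g ∈ radAnn y := by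
    intro n
    induction n with
    | zero =>
      intro q hq hn hmem
      have : q = 1 := eq_one_of_monic_natDegree_zero hq hn
      rw [this, map_one, mul_one] at hmem
      exact hmem
    | succ n ih =>
      intro q hq hn hmem
      have hdec : q = divX q * X + Polynomial.C (q.coeff 0) := (divX_mul_X_add q).symm
      set q' := divX q with hq'
      have hdeg : q'.natDegree = n := by
        rw [hq', natDegree_divX_eq_natDegree_tsub_one, hn]; rfl
      have hmon : q'.Monic := by
        refine monic_of_natDegree_le_of_coeff_eq_one n hdeg.le ?_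
        rw [hq', coeff_divX, ← hn]
        exact hq.coeff_natDegree
      have hc : algebraMap A C (q.coeff 0) = aeval g q - g * aeval g q' := by
        conv_rhs => rw [hdec]
        simp only [map_add, map_mul, aeval_X, aeval_C]
        ring
      have h1 := core hD g y (aeval g q) (aeval g q') (q.coeff 0) hc hy hmem
      have h2 : g * (g * aeval g q') ∈ radAnn y := by
        have : g * (g * aeval g q') = g * aeval g q - algebraMap A C (q.coeff 0) * g := by
          rw [hc]; ring
        rw [this]
        exact Ideal.sub_mem _ hmem h1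
      have h3 : g * aeval g q' ∈ radAnn y := by
        refine mem_radAnn_of_pow (n := 2) ?_
        have : (g * aeval g q') ^ 2 = g * (g * aeval g q') * aeval g q' := by ring
        rw [this]
        exact Ideal.mul_mem_right _ _ h2
      exact ih q' hmon hdeg h3
  obtain ⟨p, hpm, hp⟩ := hg
  refine key _ p hpm rfl ?_
  have : aeval g p = 0 := by rw [aeval_def]; exact hp
  rw [this, mul_zero]
  exact Ideal.zero_mem _


theorem densCond_of_free [Module.Free A C] (h : DensCond (C := A) a) : DensCond (C := C) a := by
  intro α z hz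
  let b := Module.Free.chooseBasis A C
  have h1 : ∀ j, ∃ N : ℕ, α ^ N * b.repr z j = 0 := by
    intro j
    have := h α (b.repr z j) (fun i => by
      obtain ⟨N, hN⟩ := mem_radAnn.mp (hz i)
      refine mem_radAnn.mpr ⟨N, ?_⟩
      have h2 : ((α * a i) ^ N) • z = 0 := by
        rw [Algebra.smul_def, map_pow]; exact hN
      have h3 := congrArg (fun w => b.repr w j) h2
      simp only [map_smul, Finsupp.smul_apply, smul_eq_mul, map_zero, Finsupp.zero_apply] at h3
      simpa using h3)
    obtain ⟨N, hN⟩ := mem_radAnn.mp this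
    exact ⟨N, by simpa using hN⟩
  choose N hN using h1
  refine mem_radAnn.mpr ⟨(b.repr z).support.sup N, ?_⟩
  rw [← map_pow, ← Algebra.smul_def]
  apply b.repr.injective
  ext j
  simp only [map_smul, Finsupp.smul_apply, smul_eq_mul, map_zero, Finsupp.zero_apply]
  by_cases hj : j ∈ (b.repr z).support
  · have hle : N j ≤ (b.repr z).support.sup N := Finset.le_sup hj
    obtain ⟨d, hd⟩ := Nat.exists_eq_add_of_le hle
    rw [hd, pow_add, mul_comm (α ^ N j), mul_assoc, hN j, mul_zero]
  · rw [Finsupp.notMem_support_iff.mp hj, mul_zero]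

/-- **Key algebraic statement**: for a standard etale algebra `B` over `A`, an element of `B`
which is killed by a power of each `a i` vanishes, provided the same holds in all localisations
`A_α` of `A`. -/
theorem eq_zero_of_isStandardEtale {B : Type*} [CommRing B] [Algebra A B]
    [Algebra.IsStandardEtale A B] (h : DensCond (C := A) a) (s : B)
    (hs : ∀ i, ∃ k : ℕ, (algebraMap A B (a i)) ^ k * s = 0) : s = 0 := by
  obtain ⟨P⟩ := Algebra.IsStandardEtale.nonempty_standardEtalePresentation (R := A) (S := B)
  let e : B ≃ₐ[A] Localization.Away (AdjoinRoot.mk P.f P.g) :=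
    P.equivRing.trans P.P.equivAwayAdjoinRoot
  set C := AdjoinRoot P.f with hC
  set g' : C := AdjoinRoot.mk P.f P.g with hg'
  haveI : Module.Free A C := Module.Free.of_basis (AdjoinRoot.powerBasis' P.monic_f).basis
  haveI : Module.Finite A C := (AdjoinRoot.powerBasis' P.monic_f).finite
  have hDC : DensCond (C := C) a := densCond_of_free h
  obtain ⟨⟨y, ⟨_, n, rfl⟩⟩, hy⟩ := IsLocalization.surj (Submonoid.powers g') (e s)
  simp only at hy
  -- hy : e s * algebraMap (g'^n) = algebraMap y
  have hyi : ∀ i, algebraMap A C (a i) * g' ∈ radAnn y := by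
    intro i
    obtain ⟨k, hk⟩ := hs i
    have h1 : algebraMap C (Localization.Away g') ((algebraMap A C (a i)) ^ k * y) = 0 := by
      rw [map_mul, ← hy, map_pow, ← IsScalarTower.algebraMap_apply]
      have h2 := congrArg e hk
      rw [map_mul, map_pow, AlgEquiv.commutes, map_zero] at h2
      rw [← mul_assoc, h2, zero_mul]
    obtain ⟨⟨_, m, rfl⟩, hm⟩ := (IsLocalization.map_eq_zero_iff (Submonoid.powers g') _ _).mp h1
    simp only at hm
    refine mem_radAnn.mpr ⟨m + k, ?_⟩
    have : (algebraMap A C (a i) * g') ^ (m + k) * y =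
        (algebraMap A C (a i)) ^ m * g' ^ k * (g' ^ m * ((algebraMap A C (a i)) ^ k * y)) := by
      ring
    rw [this, hm, mul_zero]
  have hint : IsIntegral A g' := Algebra.IsIntegral.isIntegral g'
  obtain ⟨M, hM⟩ := mem_radAnn.mp (mem_radAnn_of_isIntegral hDC g' y hint hyi)
  have h0 : algebraMap C (Localization.Away g') y = 0 := by
    have hu : IsUnit (algebraMap C (Localization.Away g') (g' ^ M)) :=
      IsLocalization.map_units (Localization.Away g') (⟨g' ^ M, ⟨M, rfl⟩⟩ : Submonoid.powers g')
    have := congrArg (algebraMap C (Localization.Away g')) hM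
    rw [map_mul, map_zero] at this
    exact (hu.mul_right_eq_zero).mp this
  have h1 : e s = 0 := by
    have hu : IsUnit (algebraMap C (Localization.Away g') (g' ^ n)) :=
      IsLocalization.map_units (Localization.Away g') (⟨g' ^ n, ⟨n, rfl⟩⟩ : Submonoid.powers g')
    rw [h0] at hy
    exact (hu.mul_left_eq_zero).mp hy
  exact (map_eq_zero_iff e e.injective).mp h1

end Algebra

end Groth.Agent.Lib.T2H7.EtDense
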