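import Mathlib
import Groth.Prelude.Def_CInt
import Groth.Agent.Lib.T2H7EtDenseA

set_option autoImplicit false
set_option linter.unusedSectionVars false
set_option linter.unusedVariables false
set_option linter.style.haveILetI false

universe u

open CategoryTheory CategoryTheory.Limits AlgebraicGeometry Opposite TopologicalSpace

namespace Groth.Agent.Lib.T2H7.EtDense

section Sch

/-- a section vanishing locally vanishes. -/
theorem eq_zero_of_forall_mem {X : Scheme.{u}} {V : X.Opens} (s : Γ(X, V))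
    (h : ∀ x ∈ V, ∃ (V' : X.Opens) (hle : V' ≤ V), x ∈ V' ∧
      (X.presheaf.map (homOfLE hle).op).hom s = 0) : s = 0 := by
  choose V' hle hx hs using h
  refine TopCat.Sheaf.eq_of_locally_eq' X.sheaf
    (fun x : V => V' x.1 x.2) V (fun x => homOfLE (hle x.1 x.2)) ?_ s 0 (fun x => ?_)
  · intro x hxV
    exact Opens.mem_iSup.mpr ⟨⟨x, hxV⟩, hx x hxV⟩
  · exact (hs x.1 x.2).trans (map_zero _).symm

/-- the family of functions on an affine open whose basic open lies in `W`. -/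
abbrev Fam {X : Scheme.{u}} (W U : X.Opens) : Type u := {a : Γ(X, U) // X.basicOpen a ≤ W}

theorem densCond_of_isSchematicallyDense {X : Scheme.{u}} (W : X.Opens)
    (hW : CInt.IsSchematicallyDense W) {U : X.Opens} (hU : IsAffineOpen U) :
    DensCond (C := Γ(X, U)) (fun a : Fam W U => a.1) := by
  intro α z hz
  refine mem_radAnn.mpr ?_
  refine exists_pow_mul_eq_zero_of_res_basicOpen_eq_zero_of_isAffineOpen X hU z α ?_
  apply hW (X.basicOpen α)
  rw [map_zero]
  refine eq_zero_of_forall_mem _ (fun x hx => ?_)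
  have hxU : x ∈ U := X.basicOpen_le α hx.1
  obtain ⟨a, haW, hxa⟩ := hU.exists_basicOpen_le (V := W) ⟨x, hx.2⟩ hxU
  obtain ⟨N, hN⟩ := mem_radAnn.mp (hz ⟨a, haW⟩)
  have hle : X.basicOpen (α * a) ≤ X.basicOpen α ⊓ W := by
    rw [X.basicOpen_mul]
    exact inf_le_inf le_rfl haW
  refine ⟨X.basicOpen (α * a), hle, ?_, ?_⟩
  · rw [X.basicOpen_mul]
    exact ⟨hx.1, hxa⟩
  · have hu : IsUnit ((X.presheaf.map (homOfLE (X.basicOpen_le (α * a))).op).hom (α * a)) :=
      RingedSpace.isUnit_res_basicOpen _ _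
    have e : (X.presheaf.map (homOfLE hle).op).hom
        ((X.presheaf.map (homOfLE (inf_le_left : X.basicOpen α ⊓ W ≤ X.basicOpen α)).op).hom
          ((X.presheaf.map (homOfLE (X.basicOpen_le α)).op).hom z)) =
        (X.presheaf.map (homOfLE (X.basicOpen_le (α * a))).op).hom z := by
      simp only [← CommRingCat.comp_apply, ← Functor.map_comp]
      rfl
    refine e.trans ?_
    have h0 : ((X.presheaf.map (homOfLE (X.basicOpen_le (α * a))).op).hom (α * a)) ^ N *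
        (X.presheaf.map (homOfLE (X.basicOpen_le (α * a))).op).hom z = 0 := by
      rw [← map_pow, ← map_mul]
      have : (α * a) ^ N * z = 0 := by simpa using hN
      rw [this, map_zero]
    exact ((hu.pow N).mul_right_eq_zero).mp h0


theorem mem_basicOpen_iff_notMem_primeIdealOf {X : Scheme.{u}} {U : X.Opens} (hU : IsAffineOpen U)
    (f : Γ(X, U)) (x : X) (hx : x ∈ U) :
    x ∈ X.basicOpen f ↔ f ∉ (hU.primeIdealOf ⟨x, hx⟩).asIdeal := by
  have h1 : hU.fromSpec (hU.primeIdealOf ⟨x, hx⟩) = x := hU.fromSpec_primeIdealOf ⟨x, hx⟩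
  have h2 := hU.fromSpec_preimage_basicOpen f
  constructor
  · intro h
    have : hU.primeIdealOf ⟨x, hx⟩ ∈ hU.fromSpec ⁻¹ᵁ X.basicOpen f := by
      show hU.fromSpec (hU.primeIdealOf ⟨x, hx⟩) ∈ X.basicOpen f
      rw [h1]; exact h
    rw [h2] at this
    exact this
  · intro h
    have : hU.primeIdealOf ⟨x, hx⟩ ∈ hU.fromSpec ⁻¹ᵁ X.basicOpen f := by
      rw [h2]; exact h
    have h3 : hU.fromSpec (hU.primeIdealOf ⟨x, hx⟩) ∈ X.basicOpen f := this
    rwa [h1] at h3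

/-- **Schematic density of an open is preserved by etale pullback** (no quasi-compactness). -/
theorem isSchematicallyDense_preimage_of_etale {X Y : Scheme.{u}} (f : X ⟶ Y) [Etale f]
    (W : Y.Opens) (hW : CInt.IsSchematicallyDense W) : CInt.IsSchematicallyDense (f ⁻¹ᵁ W) := by
  intro O
  rw [injective_iff_map_eq_zero]
  intro s hs
  refine eq_zero_of_forall_mem s (fun x hxO => ?_)
  obtain ⟨_, ⟨U₀, hU₀, rfl⟩, hfx, -⟩ :=
    Y.isBasis_affineOpens.exists_subset_of_mem_open (Set.mem_univ (f x)) isOpen_univ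
  obtain ⟨_, ⟨U₁, hU₁, rfl⟩, hxU₁, hU₁le⟩ := X.isBasis_affineOpens.exists_subset_of_mem_open
    (show x ∈ ((O ⊓ f ⁻¹ᵁ U₀ : X.Opens) : Set X) from ⟨hxO, hfx⟩) (O ⊓ f ⁻¹ᵁ U₀).2
  have hU₁O : U₁ ≤ O := fun y hy => (hU₁le hy).1
  have e₁ : U₁ ≤ f ⁻¹ᵁ U₀ := fun y hy => (hU₁le hy).2
  have hφ : (f.appLE U₀ U₁ e₁).hom.Etale :=
    HasRingHomProperty.appLE (P := @Etale) f inferInstance ⟨U₀, hU₀⟩ ⟨U₁, hU₁⟩ e₁
  letI alg1 : Algebra Γ(Y, U₀) Γ(X, U₁) := (f.appLE U₀ U₁ e₁).hom.toAlgebra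
  haveI : Algebra.Etale Γ(Y, U₀) Γ(X, U₁) := hφ
  let q := hU₁.primeIdealOf ⟨x, hxU₁⟩
  haveI : Algebra.FormallyEtale Γ(X, U₁) (Localization.AtPrime q.asIdeal) :=
    Algebra.FormallyEtale.of_isLocalization q.asIdeal.primeCompl
  haveI : Algebra.IsEtaleAt Γ(Y, U₀) q.asIdeal :=
    Algebra.FormallyEtale.comp Γ(Y, U₀) Γ(X, U₁) (Localization.AtPrime q.asIdeal)
  obtain ⟨f₁, hf₁q, hstd⟩ := Algebra.IsEtaleAt.exists_isStandardEtale (R := Γ(Y, U₀)) q.asIdeal
  have hU' : IsAffineOpen (X.basicOpen f₁) := hU₁.basicOpen f₁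
  have hxU' : x ∈ X.basicOpen f₁ :=
    (mem_basicOpen_iff_notMem_primeIdealOf hU₁ f₁ x hxU₁).mpr hf₁q
  have hU'U₁ : X.basicOpen f₁ ≤ U₁ := X.basicOpen_le f₁
  haveI : IsLocalization.Away f₁ Γ(X, X.basicOpen f₁) := hU₁.isLocalization_basicOpen f₁
  have e₂ : X.basicOpen f₁ ≤ f ⁻¹ᵁ U₀ := hU'U₁.trans e₁
  letI alg2 : Algebra Γ(Y, U₀) Γ(X, X.basicOpen f₁) := (f.appLE U₀ (X.basicOpen f₁) e₂).hom.toAlgebra
  haveI : IsScalarTower Γ(Y, U₀) Γ(X, U₁) Γ(X, X.basicOpen f₁) := by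
    refine IsScalarTower.of_algebraMap_eq' ?_
    have := f.appLE_map (U := U₀) e₁ (homOfLE hU'U₁).op
    exact congrArg CommRingCat.Hom.hom this.symm
  let eq : Localization.Away f₁ ≃ₐ[Γ(X, U₁)] Γ(X, X.basicOpen f₁) :=
    IsLocalization.algEquiv (Submonoid.powers f₁) _ _
  haveI : Algebra.IsStandardEtale Γ(Y, U₀) Γ(X, X.basicOpen f₁) :=
    Algebra.IsStandardEtale.of_equiv (eq.restrictScalars Γ(Y, U₀))
  refine ⟨X.basicOpen f₁, hU'U₁.trans hU₁O, hxU', ?_⟩
  refine eq_zero_of_isStandardEtale (densCond_of_isSchematicallyDense W hW hU₀) _ (fun a => ?_)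
  refine exists_pow_mul_eq_zero_of_res_basicOpen_eq_zero_of_isAffineOpen X hU' _ _ ?_
  have hb : X.basicOpen (algebraMap Γ(Y, U₀) Γ(X, X.basicOpen f₁) a.1) ≤ O ⊓ f ⁻¹ᵁ W := by
    have : algebraMap Γ(Y, U₀) Γ(X, X.basicOpen f₁) a.1 = f.appLE U₀ (X.basicOpen f₁) e₂ a.1 := rfl
    rw [this, Scheme.basicOpen_appLE]
    refine inf_le_inf (hU'U₁.trans hU₁O) ?_
    intro y hy
    exact a.2 hy
  have e : (X.presheaf.map (homOfLE (X.basicOpen_le
        (algebraMap Γ(Y, U₀) Γ(X, X.basicOpen f₁) a.1))).op).hom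
      ((X.presheaf.map (homOfLE (hU'U₁.trans hU₁O)).op).hom s) =
      (X.presheaf.map (homOfLE hb).op).hom
        ((X.presheaf.map (homOfLE (inf_le_left : O ⊓ f ⁻¹ᵁ W ≤ O)).op).hom s) := by
    simp only [← CommRingCat.comp_apply, ← Functor.map_comp]
    rfl
  refine e.trans ?_
  have hs' : (X.presheaf.map (homOfLE (inf_le_left : O ⊓ f ⁻¹ᵁ W ≤ O)).op).hom s = 0 := hs
  rw [hs', map_zero]

/-- sections inject along a flat surjective morphism. -/
theorem app_injective_of_flat_surjective {X Y : Scheme.{u}} (f : X ⟶ Y) [Flat f] [Surjective f]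
    (O : Y.Opens) : Function.Injective (f.app O).hom := by
  rw [injective_iff_map_eq_zero]
  intro s hs
  refine TopCat.Presheaf.section_ext Y.sheaf O s 0 (fun y hy => ?_)
  obtain ⟨x, rfl⟩ := ‹Surjective f›.surj y
  have h1 := f.germ_stalkMap_apply O x hy s
  rw [hs, map_zero] at h1
  have hinj : Function.Injective (f.stalkMap x).hom := by
    algebraize [(f.stalkMap x).hom]
    have : Module.FaithfullyFlat (Y.presheaf.stalk (f x)) (X.presheaf.stalk x) :=
      @Module.FaithfullyFlat.of_flat_of_isLocalHom _ _ _ _ _ _ _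
        (Flat.stalkMap f x) (f.toLRSHom.prop x)
    exact ‹RingHom.FaithfullyFlat _›.injective
  rw [map_zero]
  exact (injective_iff_map_eq_zero _).mp hinj _ h1

/-- **Schematic density descends along flat surjective morphisms.** -/
theorem isSchematicallyDense_of_preimage {X Y : Scheme.{u}} (f : X ⟶ Y) [Flat f] [Surjective f]
    (W : Y.Opens) (h : CInt.IsSchematicallyDense (f ⁻¹ᵁ W)) : CInt.IsSchematicallyDense W := by
  intro O
  rw [injective_iff_map_eq_zero]
  intro s hs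
  apply app_injective_of_flat_surjective f O
  rw [map_zero]
  apply h (f ⁻¹ᵁ O)
  rw [map_zero]
  have hn := congrArg (fun k => k.hom s)
    (f.naturality (homOfLE (inf_le_left : O ⊓ W ≤ O)).op)
  have h1 : (f.app (O ⊓ W)).hom ((Y.presheaf.map (homOfLE (inf_le_left : O ⊓ W ≤ O)).op).hom s) =
      (X.presheaf.map ((Opens.map f.base).map (homOfLE (inf_le_left : O ⊓ W ≤ O))).op).hom
        ((f.app O).hom s) := hn
  have hs' : (Y.presheaf.map (homOfLE (inf_le_left : O ⊓ W ≤ O)).op).hom s = 0 := hs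
  rw [hs', map_zero] at h1
  exact h1.symm

end Sch

end Groth.Agent.Lib.T2H7.EtDense
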