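import Mathlib
import Groth.Prelude.Def_AlgSpModX
import Groth.Agent.Lib.T2H7EtDenseB

set_option autoImplicit false
set_option linter.unusedSectionVars false
set_option linter.unusedVariables false
set_option linter.style.haveILetI false

universe u

open CategoryTheory CategoryTheory.Limits AlgebraicGeometry Opposite TopologicalSpace

namespace Groth.Agent.Lib.T2H7.CutOut

variable {S : Scheme.{u}}

/-- a global section vanishing on the members of an open cover vanishes. -/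
theorem eq_zero_of_forall_ι_appTop {T : Scheme.{u}} (z : Γ(T, ⊤))
    (h : ∀ t : T, ∃ O : T.Opens, t ∈ O ∧ O.ι.appTop.hom z = 0) : z = 0 := by
  refine Groth.Agent.Lib.T2H7.EtDense.eq_zero_of_forall_mem z (fun t _ => ?_)
  obtain ⟨O, ht, hO⟩ := h t
  refine ⟨O, le_top, ht, ?_⟩
  have hO' : (T.presheaf.map (homOfLE (x := O.ι ''ᵁ ⊤) le_top).op).hom z = 0 := hO
  have e2 : (T.presheaf.map (homOfLE (le_top : O ≤ ⊤)).op).hom z =
      (T.presheaf.map (eqToHom (O.ι_image_top).symm).op).hom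
        ((T.presheaf.map (homOfLE (x := O.ι ''ᵁ ⊤) le_top).op).hom z) := by
    simp only [← CommRingCat.comp_apply, ← Functor.map_comp]
    rfl
  rw [e2, hO', map_zero]

/-- the restriction of an object of the small etale site to an open subscheme. -/
noncomputable def restr {X : AlgSp.Sp S} (E : AlgSp.EtOver X) (Q : E.obj.left.left.Opens) :
    AlgSp.EtOver X :=
  AlgSp.EtOver.mk (U := Over.mk (Q.ι ≫ E.obj.left.hom))
    ((AlgSp.yon S).map (Over.homMk Q.ι rfl : Over.mk (Q.ι ≫ E.obj.left.hom) ⟶ E.obj.left) ≫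
      E.obj.hom)
    ((AlgSp.RepWith @Etale).comp_mem _ _
      ((AlgSp.repWith_yon_map_iff _ _).2 (inferInstance : Etale Q.ι)) E.property)

/-- the inclusion of the restriction. -/
noncomputable def restrι {X : AlgSp.Sp S} (E : AlgSp.EtOver X) (Q : E.obj.left.left.Opens) :
    restr E Q ⟶ E :=
  AlgSp.EtOver.homMk (Over.homMk Q.ι rfl) rfl

theorem restrι_left {X : AlgSp.Sp S} (E : AlgSp.EtOver X) (Q : E.obj.left.left.Opens) :
    (restrι E Q).hom.left.left = Q.ι := rfl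

/-- **Symmetric chart lemma**: if a morphism to one affine chart kills the ideal there, then any
morphism to another affine chart with the same image in `X` kills the ideal there. -/
theorem kills_of_kills {X : AlgSp.Sp S} (I : AlgSp.IdealEt X) (hI : I.IsQCoh)
    (E₁ E₂ : AlgSp.EtOver X) (h₁ : IsAffine E₁.obj.left.left) (h₂ : IsAffine E₂.obj.left.left)
    {T : Over S} (b₁ : T ⟶ E₁.obj.left) (b₂ : T ⟶ E₂.obj.left)
    (hb : (AlgSp.yon S).map b₁ ≫ E₁.obj.hom = (AlgSp.yon S).map b₂ ≫ E₂.obj.hom)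
    (hk : I.ideal E₁ h₁ ≤ RingHom.ker b₁.left.appTop.hom) :
    I.ideal E₂ h₂ ≤ RingHom.ker b₂.left.appTop.hom := by
  let P := AlgSp.EtOver.prodObj E₁ E₂
  let π₁ := AlgSp.EtOver.prodFst E₁ E₂
  let π₂ := AlgSp.EtOver.prodSnd E₁ E₂
  let l : T ⟶ P.obj.left := E₂.property.1.lift' b₂ b₁ hb.symm
  have hl₁ : l ≫ π₁.hom.left = b₁ := Functor.relativelyRepresentable.lift'_snd _ _ _ _
  have hl₂ : l ≫ π₂.hom.left = b₂ := Functor.relativelyRepresentable.lift'_fst _ _ _ _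
  intro s hs
  refine RingHom.mem_ker.mpr ?_
  refine eq_zero_of_forall_ι_appTop _ (fun t => ?_)
  obtain ⟨Q, hQ, htQ⟩ : ∃ Q : P.obj.left.left.Opens, IsAffineOpen Q ∧ l.left t ∈ Q := by
    obtain ⟨_, ⟨Q, hQ, rfl⟩, htQ, -⟩ :=
      P.obj.left.left.isBasis_affineOpens.exists_subset_of_mem_open
        (Set.mem_univ (l.left t)) isOpen_univ
    exact ⟨Q, hQ, htQ⟩
  let Pm := restr P Q
  have hPm : IsAffine Pm.obj.left.left := hQ
  let g₁ : Pm ⟶ E₁ := restrι P Q ≫ π₁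
  let g₂ : Pm ⟶ E₂ := restrι P Q ≫ π₂
  refine ⟨l.left ⁻¹ᵁ Q, htQ, ?_⟩
  let lm : (l.left ⁻¹ᵁ Q).toScheme ⟶ Q.toScheme := l.left ∣_ Q
  have hlm : lm ≫ Q.ι = (l.left ⁻¹ᵁ Q).ι ≫ l.left := morphismRestrict_ι l.left Q
  have e₂ : (l.left ⁻¹ᵁ Q).ι ≫ b₂.left = lm ≫ g₂.hom.left.left := by
    rw [← hl₂]
    show (l.left ⁻¹ᵁ Q).ι ≫ l.left ≫ π₂.hom.left.left = lm ≫ Q.ι ≫ π₂.hom.left.left
    rw [← Category.assoc, ← hlm, Category.assoc]
  have e₁ : (l.left ⁻¹ᵁ Q).ι ≫ b₁.left = lm ≫ g₁.hom.left.left := by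
    rw [← hl₁]
    show (l.left ⁻¹ᵁ Q).ι ≫ l.left ≫ π₁.hom.left.left = lm ≫ Q.ι ≫ π₁.hom.left.left
    rw [← Category.assoc, ← hlm, Category.assoc]
  have hs' : g₂.hom.left.left.appTop.hom s ∈ I.ideal Pm hPm :=
    I.map_le g₂ h₂ hPm (Ideal.mem_map_of_mem _ hs)
  have hs'' : g₂.hom.left.left.appTop.hom s ∈
      (I.ideal E₁ h₁).map g₁.hom.left.left.appTop.hom := hI g₁ h₁ hPm hs'
  have hle : (I.ideal E₁ h₁).map g₁.hom.left.left.appTop.hom ≤ RingHom.ker lm.appTop.hom := by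
    rw [Ideal.map_le_iff_le_comap]
    intro r hr
    have h0 : b₁.left.appTop.hom r = 0 := RingHom.mem_ker.mp (hk hr)
    have h3 := congrArg (fun k => k.appTop.hom r) e₁
    simp only [Scheme.Hom.comp_appTop, CommRingCat.hom_comp, RingHom.comp_apply] at h3
    refine Ideal.mem_comap.mpr (RingHom.mem_ker.mpr ?_)
    exact h3.symm.trans ((congrArg _ h0).trans (map_zero _))
  have h4 : lm.appTop.hom (g₂.hom.left.left.appTop.hom s) = 0 := RingHom.mem_ker.mp (hle hs'')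
  have h5 := congrArg (fun k => k.appTop.hom s) e₂
  simp only [Scheme.Hom.comp_appTop, CommRingCat.hom_comp, RingHom.comp_apply] at h5
  exact h5.trans h4

end Groth.Agent.Lib.T2H7.CutOut
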