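import Mathlib
import Groth.Prelude.Def_AlgSpModX
import Groth.Agent.Lib.T2H7CutOutA

set_option autoImplicit false
set_option linter.unusedSectionVars false
set_option linter.unusedVariables false
set_option linter.style.haveILetI false

universe u

open CategoryTheory CategoryTheory.Limits AlgebraicGeometry Opposite TopologicalSpace

namespace Groth.Agent.Lib.T2H7.CutOut

variable {S : Scheme.{u}} {X : AlgSp.Sp S} (I : AlgSp.IdealEt X) (hI : I.IsQCoh)
  (E₀ : AlgSp.EtOver X)

/-- the ideal of the family on an affine open of a (not necessarily affine) chart, read in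
`Γ(↑A, ⊤)`. -/
noncomputable def idealA (A : E₀.obj.left.left.affineOpens) :
    Ideal Γ((restr E₀ A.1).obj.left.left, ⊤) :=
  I.ideal (restr E₀ A.1) (show IsAffine (A.1 : Scheme.{u}) from A.2)

/-- the same ideal read in `Γ(U, A)`. -/
noncomputable def idealU (A : E₀.obj.left.left.affineOpens) : Ideal Γ(E₀.obj.left.left, A.1) :=
  (idealA I E₀ A).map (A.1.topIso.hom.hom)

theorem mem_idealU_iff (A : E₀.obj.left.left.affineOpens) (s : Γ(E₀.obj.left.left, A.1)) :
    s ∈ idealU I E₀ A ↔ A.1.topIso.inv.hom s ∈ idealA I E₀ A := by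
  unfold idealU
  have : (idealA I E₀ A).map (A.1.topIso.hom.hom) =
      (idealA I E₀ A).comap (A.1.topIso.inv.hom) := by
    have h := Ideal.comap_symm (I := idealA I E₀ A) (A.1.topIso.commRingCatIsoToRingEquiv)
    exact h.symm
  rw [this, Ideal.mem_comap]
  exact Iff.rfl

/-- the morphism of the small etale site between restrictions to nested opens. -/
noncomputable def restrMap {A B : E₀.obj.left.left.Opens} (h : A ≤ B) : restr E₀ A ⟶ restr E₀ B :=
  AlgSp.EtOver.homMk (Over.homMk (E₀.obj.left.left.homOfLE h) (by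
    show E₀.obj.left.left.homOfLE h ≫ B.ι ≫ E₀.obj.left.hom = A.ι ≫ E₀.obj.left.hom
    rw [← Category.assoc, Scheme.homOfLE_ι])) (by
    show (AlgSp.yon S).map _ ≫ (AlgSp.yon S).map _ ≫ E₀.obj.hom = (AlgSp.yon S).map _ ≫ E₀.obj.hom
    rw [← Category.assoc, ← Functor.map_comp]
    congr 2
    ext
    exact Scheme.homOfLE_ι _ h)

include hI in
theorem idealA_map {A B : E₀.obj.left.left.affineOpens} (h : A.1 ≤ B.1) :
    (idealA I E₀ B).map (E₀.obj.left.left.homOfLE h).appTop.hom = idealA I E₀ A :=
  le_antisymm (I.map_le (restrMap E₀ h) _ _) (hI (restrMap E₀ h) _ _)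

include hI in
/-- the ideal sheaf on the chart. -/
noncomputable def idealSheaf : E₀.obj.left.left.IdealSheafData where
  ideal A := idealU I E₀ A
  map_ideal_basicOpen A f := by
    have hle : (E₀.obj.left.left.affineBasicOpen f).1 ≤ A.1 := E₀.obj.left.left.basicOpen_le f
    unfold idealU
    rw [← idealA_map I hI E₀ (A := E₀.obj.left.left.affineBasicOpen f) (B := A) hle]
    refine (Ideal.map_map _ _).trans (Eq.trans ?_ (Ideal.map_map _ _).symm)
    congr 1
    have e : (A.1.topIso.hom ≫ E₀.obj.left.left.presheaf.map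
          (homOfLE (E₀.obj.left.left.basicOpen_le f)).op) =
        (E₀.obj.left.left.homOfLE hle).appTop ≫
          (E₀.obj.left.left.affineBasicOpen f).1.topIso.hom := by
      rw [Scheme.homOfLE_appTop]
      unfold Scheme.Opens.topIso
      simp only [Functor.mapIso_hom]
      exact (Functor.map_comp _ _ _).symm.trans
        ((congrArg _ (Subsingleton.elim _ _)).trans (Functor.map_comp _ _ _))
    exact congrArg CommRingCat.Hom.hom e


/-- the closed subscheme of the chart cut out by the family. -/
noncomputable def CU : Over S :=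
  Over.mk ((idealSheaf I hI E₀).subschemeι ≫ E₀.obj.left.hom)

/-- its inclusion. -/
noncomputable def iU : CU I hI E₀ ⟶ E₀.obj.left :=
  Over.homMk (idealSheaf I hI E₀).subschemeι rfl

instance : IsClosedImmersion (iU I hI E₀).left :=
  inferInstanceAs (IsClosedImmersion (idealSheaf I hI E₀).subschemeι)

instance : Mono (iU I hI E₀) := by
  haveI : Mono ((Over.forget S).map (iU I hI E₀)) :=
    inferInstanceAs (Mono (idealSheaf I hI E₀).subschemeι)
  exact (Over.forget S).mono_of_mono_map inferInstance

theorem factors_iff_le_ker {T : Over S} (a : T ⟶ E₀.obj.left) :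
    (∃ l : T ⟶ CU I hI E₀, l ≫ iU I hI E₀ = a) ↔
      ∀ A : E₀.obj.left.left.affineOpens, idealU I E₀ A ≤ RingHom.ker (a.left.app A.1).hom := by
  constructor
  · rintro ⟨l, rfl⟩ A
    have h1 : (idealSheaf I hI E₀).subschemeι.ker ≤
        (l.left ≫ (idealSheaf I hI E₀).subschemeι).ker := Scheme.Hom.le_ker_comp _ _
    rw [Scheme.IdealSheafData.ker_subschemeι] at h1
    exact (h1 A).trans (Scheme.Hom.ideal_ker_le _ A)
  · intro h
    haveI hci : IsClosedImmersion (idealSheaf I hI E₀).subschemeι :=
      (inferInstance : IsClosedImmersion (iU I hI E₀).left)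
    have H : (idealSheaf I hI E₀).subschemeι.ker ≤ a.left.ker := by
      rw [Scheme.IdealSheafData.ker_subschemeι]
      exact Scheme.IdealSheafData.le_ofIdeals_iff.mpr (fun A => h A)
    have hfac : IsClosedImmersion.lift (idealSheaf I hI E₀).subschemeι a.left H ≫
        (idealSheaf I hI E₀).subschemeι = a.left := IsClosedImmersion.lift_fac _ _ H
    generalize IsClosedImmersion.lift (idealSheaf I hI E₀).subschemeι a.left H = l₀ at hfac
    refine ⟨Over.homMk l₀ ?_, ?_⟩
    · show l₀ ≫ (idealSheaf I hI E₀).subschemeι ≫ E₀.obj.left.hom = T.hom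
      rw [← Category.assoc, hfac, Over.w a]
    · ext
      exact hfac

/-- the restriction of a morphism to the chart over an open of the chart. -/
noncomputable def bA {T : Over S} (a : T ⟶ E₀.obj.left) (A : E₀.obj.left.left.Opens) :
    Over.mk ((a.left ⁻¹ᵁ A).ι ≫ T.hom) ⟶ (restr E₀ A).obj.left :=
  Over.homMk (a.left ∣_ A) (by
    show (a.left ∣_ A) ≫ A.ι ≫ E₀.obj.left.hom = (a.left ⁻¹ᵁ A).ι ≫ T.hom
    rw [← Category.assoc, morphismRestrict_ι, Category.assoc, Over.w a])

theorem bA_left {T : Over S} (a : T ⟶ E₀.obj.left) (A : E₀.obj.left.left.Opens) :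
    (bA E₀ a A).left = a.left ∣_ A := rfl

theorem app_topIso_inv {T : Over S} (a : T ⟶ E₀.obj.left) (A : E₀.obj.left.left.Opens)
    (s' : Γ(E₀.obj.left.left, A)) :
    (a.left.app (A.ι ''ᵁ ⊤)).hom (A.topIso.inv.hom s') =
      (T.left.presheaf.map ((Opens.map a.left.base).map (eqToHom A.ι_image_top)).op).hom
        ((a.left.app A).hom s') := by
  have := a.left.naturality (eqToHom A.ι_image_top : A.ι ''ᵁ ⊤ ⟶ A).op
  exact congrArg (fun k => k.hom s') this

theorem le_ker_app_iff {T : Over S} (a : T ⟶ E₀.obj.left) (A : E₀.obj.left.left.affineOpens) :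
    idealU I E₀ A ≤ RingHom.ker (a.left.app A.1).hom ↔
      idealA I E₀ A ≤ RingHom.ker (bA E₀ a A.1).left.appTop.hom := by
  have M1 : (a.left ∣_ A.1).appTop = a.left.app (A.1.ι ''ᵁ ⊤) ≫
      T.left.presheaf.map (eqToHom (image_morphismRestrict_preimage a.left A.1 ⊤)).op :=
    morphismRestrict_appTop a.left A.1
  have inj1 : Function.Injective
      (T.left.presheaf.map (eqToHom (image_morphismRestrict_preimage a.left A.1 ⊤)).op).hom :=
    ((ConcreteCategory.isIso_iff_bijective _).mp inferInstance).injective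
  have inj2 : Function.Injective
      (T.left.presheaf.map ((Opens.map a.left.base).map (eqToHom A.1.ι_image_top)).op).hom := by
    have : IsIso ((Opens.map a.left.base).map (eqToHom A.1.ι_image_top)) := inferInstance
    exact ((ConcreteCategory.isIso_iff_bijective _).mp inferInstance).injective
  constructor
  · intro h s hs
    refine RingHom.mem_ker.mpr ?_
    have hs' : A.1.topIso.hom.hom s ∈ idealU I E₀ A := Ideal.mem_map_of_mem _ hs
    have h0 : (a.left.app A.1).hom (A.1.topIso.hom.hom s) = 0 := RingHom.mem_ker.mp (h hs')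
    have h1 := app_topIso_inv E₀ a A.1 (A.1.topIso.hom.hom s)
    rw [h0, map_zero] at h1
    have h2 : A.1.topIso.inv.hom (A.1.topIso.hom.hom s) = s := by
      rw [← CommRingCat.comp_apply, Iso.hom_inv_id]; rfl
    rw [h2] at h1
    have h3 := congrArg (fun k => k.hom s) M1
    refine h3.trans ?_
    show (T.left.presheaf.map _).hom ((a.left.app (A.1.ι ''ᵁ ⊤)).hom s) = 0
    rw [h1, map_zero]
  · intro h s' hs'
    refine RingHom.mem_ker.mpr ?_
    have hs : A.1.topIso.inv.hom s' ∈ idealA I E₀ A := (mem_idealU_iff I E₀ A s').mp hs'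
    have h0 : (bA E₀ a A.1).left.appTop.hom (A.1.topIso.inv.hom s') = 0 :=
      RingHom.mem_ker.mp (h hs)
    have h3 := congrArg (fun k => k.hom (A.1.topIso.inv.hom s')) M1
    have h4 : (T.left.presheaf.map
        (eqToHom (image_morphismRestrict_preimage a.left A.1 ⊤)).op).hom
        ((a.left.app (A.1.ι ''ᵁ ⊤)).hom (A.1.topIso.inv.hom s')) = 0 := h3.symm.trans h0
    have h5 : (a.left.app (A.1.ι ''ᵁ ⊤)).hom (A.1.topIso.inv.hom s') = 0 :=
      inj1 (h4.trans (map_zero _).symm)
    rw [app_topIso_inv] at h5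
    exact inj2 (h5.trans (map_zero _).symm)

end Groth.Agent.Lib.T2H7.CutOut
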