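import Mathlib
import Groth.Prelude.Def_AlgSpModX
import Groth.Agent.Lib.T2H7CutOutB
import Groth.Agent.Lib.Helper1ClosedSub

set_option autoImplicit false
set_option linter.unusedSectionVars false
set_option linter.unusedVariables false
set_option linter.style.haveILetI false

universe u

open CategoryTheory CategoryTheory.Limits AlgebraicGeometry Opposite TopologicalSpace

namespace Groth.Agent.Lib.T2H7.CutOut

variable {S : Scheme.{u}} {X : AlgSp.Sp S} (I : AlgSp.IdealEt X) (hI : I.IsQCoh)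
  (E₀ : AlgSp.EtOver X)

/-- the inclusion of an open subscheme of a scheme over `S`. -/
noncomputable abbrev ιO {T : Over S} (O : T.left.Opens) : Over.mk (O.ι ≫ T.hom) ⟶ T :=
  Over.homMk O.ι rfl

theorem bA_comp {T : Over S} (a : T ⟶ E₀.obj.left) (A : E₀.obj.left.left.Opens) :
    (AlgSp.yon S).map (bA E₀ a A) ≫ (restr E₀ A).obj.hom =
      (AlgSp.yon S).map (ιO (a.left ⁻¹ᵁ A)) ≫ (AlgSp.yon S).map a ≫ E₀.obj.hom := by
  show (AlgSp.yon S).map (bA E₀ a A) ≫ (AlgSp.yon S).map _ ≫ E₀.obj.hom = _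
  rw [← Category.assoc, ← Category.assoc, ← Functor.map_comp, ← Functor.map_comp]
  congr 2
  ext
  exact morphismRestrict_ι a.left A

include hI in
theorem factors_iff_chart (E : AlgSp.EtOver X) (hE : IsAffine E.obj.left.left) {T : Over S}
    (a : T ⟶ E₀.obj.left) (b : T ⟶ E.obj.left)
    (hab : (AlgSp.yon S).map a ≫ E₀.obj.hom = (AlgSp.yon S).map b ≫ E.obj.hom) :
    (∃ l : T ⟶ CU I hI E₀, l ≫ iU I hI E₀ = a) ↔
      I.ideal E hE ≤ RingHom.ker b.left.appTop.hom := by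
  rw [factors_iff_le_ker]
  constructor
  · intro h s hs
    refine RingHom.mem_ker.mpr ?_
    refine eq_zero_of_forall_ι_appTop _ (fun t => ?_)
    obtain ⟨A, hA, htA⟩ : ∃ A : E₀.obj.left.left.Opens, IsAffineOpen A ∧ a.left t ∈ A := by
      obtain ⟨_, ⟨A, hA, rfl⟩, htA, -⟩ :=
        E₀.obj.left.left.isBasis_affineOpens.exists_subset_of_mem_open
          (Set.mem_univ (a.left t)) isOpen_univ
      exact ⟨A, hA, htA⟩
    refine ⟨a.left ⁻¹ᵁ A, htA, ?_⟩
    have hk := (le_ker_app_iff I E₀ a ⟨A, hA⟩).mp (h ⟨A, hA⟩)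
    have hb : (AlgSp.yon S).map (bA E₀ a A) ≫ (restr E₀ A).obj.hom =
        (AlgSp.yon S).map (ιO (a.left ⁻¹ᵁ A) ≫ b) ≫ E.obj.hom := by
      rw [bA_comp, Functor.map_comp, Category.assoc, hab]
    have key := kills_of_kills I hI (restr E₀ A) E (show IsAffine (A : Scheme.{u}) from hA) hE
      (bA E₀ a A) (ιO (a.left ⁻¹ᵁ A) ≫ b) hb hk
    have h0 : (ιO (a.left ⁻¹ᵁ A) ≫ b).left.appTop.hom s = 0 := RingHom.mem_ker.mp (key hs)
    exact h0
  · intro h A
    rw [le_ker_app_iff]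
    have hb : (AlgSp.yon S).map (ιO (a.left ⁻¹ᵁ A.1) ≫ b) ≫ E.obj.hom =
        (AlgSp.yon S).map (bA E₀ a A.1) ≫ (restr E₀ A.1).obj.hom := by
      rw [bA_comp, Functor.map_comp, Category.assoc, hab]
    refine kills_of_kills I hI E (restr E₀ A.1) hE (show IsAffine (A.1 : Scheme.{u}) from A.2)
      (ιO (a.left ⁻¹ᵁ A.1) ≫ b) (bA E₀ a A.1) hb ?_
    intro s hs
    refine RingHom.mem_ker.mpr ?_
    have h0 : b.left.appTop.hom s = 0 := RingHom.mem_ker.mp (h hs)
    show (a.left ⁻¹ᵁ A.1).ι.appTop.hom (b.left.appTop.hom s) = 0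
    rw [h0, map_zero]

include hI in
/-- the closed subscheme of the chart is invariant under the equivalence relation. -/
theorem invariant :
    Groth.Agent.Lib.Helper1.ClosedSub.Invariant E₀.obj.hom (iU I hI E₀) := by
  intro T a b hab hfa
  rw [factors_iff_le_ker]
  intro A
  rw [le_ker_app_iff]
  obtain ⟨l, hl⟩ := hfa
  refine (factors_iff_chart I hI E₀ (restr E₀ A.1) (show IsAffine (A.1 : Scheme.{u}) from A.2)
    (ιO (b.left ⁻¹ᵁ A.1) ≫ a) (bA E₀ b A.1) ?_).mp ⟨ιO (b.left ⁻¹ᵁ A.1) ≫ l, ?_⟩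
  · rw [bA_comp, Functor.map_comp, Category.assoc, hab]
  · rw [Category.assoc, hl]

end Groth.Agent.Lib.T2H7.CutOut
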