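import Mathlib
import Groth.Prelude.Def_AlgSpModX
import Groth.Agent.Lib.T2H7CutOutC
import Groth.Agent.Lib.Helper1ClosedSub

set_option autoImplicit false
set_option linter.unusedSectionVars false
set_option linter.unusedVariables false
set_option linter.style.haveILetI false

universe u

open CategoryTheory CategoryTheory.Limits AlgebraicGeometry Opposite TopologicalSpace

namespace Groth.Agent.Lib.T2H7.CutOut

open Groth.Agent.Lib.Helper1

variable {S : Scheme.{u}} {X : AlgSp.Sp S} (I : AlgSp.IdealEt X) (hI : I.IsQCoh)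
  (E₀ : AlgSp.EtOver X)

/-- the closed subsheaf cut out by `I` (through the chart `E₀`). -/
noncomputable abbrev Zsp : AlgSp.Sp S := ClosedSub.obj E₀.obj.hom (iU I hI E₀)

/-- its inclusion. -/
noncomputable abbrev Zincl : Zsp I hI E₀ ⟶ X := ClosedSub.incl E₀.obj.hom (iU I hI E₀)

include hI in
theorem factor_iff_le_ker (hcs : AlgSp.RepWith @Surjective E₀.obj.hom) (E : AlgSp.EtOver X)
    (hE : IsAffine E.obj.left.left) {T : Over S} (b : T ⟶ E.obj.left) :
    (∃ ξ' : (AlgSp.yon S).obj T ⟶ Zsp I hI E₀,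
        ξ' ≫ Zincl I hI E₀ = (AlgSp.yon S).map b ≫ E.obj.hom) ↔
      I.ideal E hE ≤ RingHom.ker b.left.appTop.hom := by
  rw [ClosedSub.factor_iff]
  constructor
  · intro h
    have hrep : AlgSp.Representable E₀.obj.hom := E₀.property.1
    set ξ := (AlgSp.yon S).map b ≫ E.obj.hom with hξ
    have sq := hrep.isPullback ξ
    obtain ⟨a, ha⟩ := (AlgSp.yon S).map_surjective (hrep.fst ξ)
    have het : Etale (hrep.snd ξ).left := E₀.property.2 ξ (hrep.fst ξ) (hrep.snd ξ) sq
    have hsu : Surjective (hrep.snd ξ).left := hcs.2 ξ (hrep.fst ξ) (hrep.snd ξ) sq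
    have hab : (AlgSp.yon S).map a ≫ E₀.obj.hom =
        (AlgSp.yon S).map (hrep.snd ξ ≫ b) ≫ E.obj.hom := by
      rw [ha, sq.w, Functor.map_comp, Category.assoc]
    have h1 := (factors_iff_chart I hI E₀ E hE a (hrep.snd ξ ≫ b) hab).mp
      (h _ (hrep.snd ξ) a (by rw [ha, sq.w]))
    intro s hs
    have h2 : (hrep.snd ξ ≫ b).left.appTop.hom s = 0 := RingHom.mem_ker.mp (h1 hs)
    refine RingHom.mem_ker.mpr ?_
    have hinj := EtDense.app_injective_of_flat_surjective (hrep.snd ξ).left ⊤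
    apply hinj
    rw [map_zero]
    exact h2
  · intro h T' φ a hab
    refine (factors_iff_chart I hI E₀ E hE a (φ ≫ b) ?_).mpr ?_
    · rw [hab, Functor.map_comp, Category.assoc]
    · intro s hs
      refine RingHom.mem_ker.mpr ?_
      have h0 : b.left.appTop.hom s = 0 := RingHom.mem_ker.mp (h hs)
      show φ.left.appTop.hom (b.left.appTop.hom s) = 0
      rw [h0, map_zero]

/-- closed subscheme of an affine scheme cut out by an ideal of global functions. -/
theorem exists_closed_of_ideal (T : Scheme.{u}) [IsAffine T] (J : Ideal Γ(T, ⊤)) :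
    ∃ (V : Scheme.{u}) (v : V ⟶ T), RingHom.ker v.appTop.hom = J := by
  refine ⟨Spec (CommRingCat.of (Γ(T, ⊤) ⧸ J)),
    Spec.map (CommRingCat.ofHom (Ideal.Quotient.mk J)) ≫ T.isoSpec.inv, ?_⟩
  have h1 : T.isoSpec.inv.appTop = (Scheme.ΓSpecIso Γ(T, ⊤)).inv := by
    have h2 : T.isoSpec.inv.appTop ≫ T.isoSpec.hom.appTop = 𝟙 _ := by
      rw [← Scheme.Hom.comp_appTop, Iso.hom_inv_id]
      rfl
    rw [Scheme.isoSpec_hom, Scheme.toSpecΓ_appTop] at h2
    rw [← cancel_mono (Scheme.ΓSpecIso Γ(T, ⊤)).hom, h2, Iso.inv_hom_id]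
  rw [Scheme.Hom.comp_appTop, h1, ← Scheme.ΓSpecIso_inv_naturality]
  ext s
  simp only [CommRingCat.hom_comp, RingHom.mem_ker, RingHom.comp_apply, CommRingCat.hom_ofHom]
  constructor
  · intro h
    have h3 := congrArg (Scheme.ΓSpecIso (CommRingCat.of (Γ(T, ⊤) ⧸ J))).hom.hom h
    rw [map_zero] at h3
    have h4 : (Scheme.ΓSpecIso (CommRingCat.of (Γ(T, ⊤) ⧸ J))).hom.hom
        ((Scheme.ΓSpecIso (CommRingCat.of (Γ(T, ⊤) ⧸ J))).inv.hom (Ideal.Quotient.mk J s)) =
        Ideal.Quotient.mk J s := by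
      rw [← RingHom.comp_apply, ← CommRingCat.hom_comp, Iso.inv_hom_id]
      rfl
    rw [h4] at h3
    exact Ideal.Quotient.eq_zero_iff_mem.mp h3
  · intro h
    rw [Ideal.Quotient.eq_zero_iff_mem.mpr h, map_zero]

include hI in
/-- the ideal of the closed subsheaf is `I`. -/
theorem idealOfRep_eq (hcs : AlgSp.RepWith @Surjective E₀.obj.hom)
    (hi : AlgSp.Representable (Zincl I hI E₀)) : AlgSp.idealOfRep hi = I := by
  refine AlgSp.IdealEt.ext ?_
  funext E hE
  show RingHom.ker (AlgSp.EtOver.bcπ hi E).left.appTop.hom = I.ideal E hE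
  have sqE := AlgSp.EtOver.isPullback_bcObj hi E
  apply le_antisymm
  · obtain ⟨V, v, hv⟩ := exists_closed_of_ideal E.obj.left.left (I.ideal E hE)
    let VO : Over S := Over.mk (v ≫ E.obj.left.hom)
    let vO : VO ⟶ E.obj.left := Over.homMk v rfl
    obtain ⟨ξ', hξ'⟩ := (factor_iff_le_ker I hI E₀ hcs E hE vO).mpr (le_of_eq hv.symm)
    obtain ⟨w, hw⟩ := (AlgSp.yon S).map_surjective (sqE.lift ξ' ((AlgSp.yon S).map vO) hξ')
    have hwπ : w ≫ AlgSp.EtOver.bcπ hi E = vO := by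
      apply (AlgSp.yon S).map_injective
      rw [Functor.map_comp, hw, sqE.lift_snd]
    intro s hs
    rw [← hv]
    refine RingHom.mem_ker.mpr ?_
    have h0 : (AlgSp.EtOver.bcπ hi E).left.appTop.hom s = 0 := RingHom.mem_ker.mp hs
    have h1 : (w ≫ AlgSp.EtOver.bcπ hi E).left.appTop.hom s = 0 := by
      show w.left.appTop.hom ((AlgSp.EtOver.bcπ hi E).left.appTop.hom s) = 0
      rw [h0, map_zero]
    rw [hwπ] at h1
    exact h1
  · exact (factor_iff_le_ker I hI E₀ hcs E hE (AlgSp.EtOver.bcπ hi E)).mp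
      ⟨(AlgSp.EtOver.bcObj hi E).obj.hom, sqE.w⟩

include hI in
/-- existence of the closed subspace cut out by a quasi-coherent ideal. -/
theorem exists_cutOut (hX : AlgSp.IsAlgSpace X) (hcs : AlgSp.RepWith @Surjective E₀.obj.hom) :
    AlgSp.IsAlgSpace (Zsp I hI E₀) ∧ AlgSp.IsCutOutBy I (Zincl I hI E₀) := by
  have hinv := invariant I hI E₀
  refine ⟨ClosedSub.isAlgSpace_obj _ _ hX E₀.property hcs hinv, ?_⟩
  have hci : AlgSp.RepWith @IsClosedImmersion (Zincl I hI E₀) :=
    ClosedSub.repWith_incl _ _ hX E₀.property hcs hinv inferInstance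
  exact ⟨hci, idealOfRep_eq I hI E₀ hcs hci.1⟩

end Groth.Agent.Lib.T2H7.CutOut
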