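import Mathlib.RingTheory.Trace.Basic
import Mathlib.LinearAlgebra.Matrix.Adjugate
import Mathlib.RingTheory.Localization.NormTrace

/-!
# T2H7: the canonical involution of a free algebra of rank two

For an `A`-algebra `B` free of rank two, `x ↦ Tr(x) - x` is an `A`-algebra involution; when `2`
is invertible in `A` its ring of invariants is (the image of) `A`.  It commutes with localization.
-/

set_option autoImplicit false
set_option linter.unusedSectionVars false
set_option linter.unusedVariables false
set_option linter.style.haveILetI false

universe u

namespace Groth.Agent.Lib.T2H7.DblCovA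

open Matrix

section Mat

variable {A : Type*} [CommRing A]

theorem trace_smul_one_sub (P : Matrix (Fin 2) (Fin 2) A) :
    (Matrix.trace P) • (1 : Matrix (Fin 2) (Fin 2) A) - P = Matrix.adjugate P := by
  rw [Matrix.adjugate_fin_two]
  ext i j
  fin_cases i <;> fin_cases j <;> simp [Matrix.trace_fin_two]

end Mat

variable {A B : Type*} [CommRing A] [CommRing B] [Algebra A B]

/-- the conjugation `x ↦ Tr(x) - x` -/
noncomputable def conj (A : Type*) {B : Type*} [CommRing A] [CommRing B] [Algebra A B] (x : B) : B :=
  algebraMap A B (Algebra.trace A B x) - x

variable (b : Module.Basis (Fin 2) A B)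

include b in
theorem leftMulMatrix_conj (x : B) :
    Algebra.leftMulMatrix b (conj A x) = Matrix.adjugate (Algebra.leftMulMatrix b x) := by
  rw [conj, map_sub, Algebra.trace_eq_matrix_trace b x, ← trace_smul_one_sub]
  congr 1
  rw [Algebra.algebraMap_eq_smul_one, map_smul, map_one]

include b in
theorem conj_mul (x y : B) : conj A (x * y) = conj A x * conj A y := by
  apply Algebra.leftMulMatrix_injective b
  rw [map_mul, leftMulMatrix_conj b, leftMulMatrix_conj b, leftMulMatrix_conj b, map_mul,
    ← Matrix.adjugate_mul_distrib, ← map_mul, ← map_mul, mul_comm]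

include b in
theorem trace_algebraMap' (a : A) : Algebra.trace A B (algebraMap A B a) = 2 * a := by
  rw [Algebra.trace_eq_matrix_trace b, Algebra.algebraMap_eq_smul_one, map_smul, map_one,
    Matrix.trace_smul, Matrix.trace_one, Fintype.card_fin, smul_eq_mul]
  push_cast
  ring

include b in
theorem trace_one : Algebra.trace A B 1 = 2 := by
  have h := trace_algebraMap' b (1 : A)
  rwa [map_one, mul_one] at h

include b in
theorem conj_one : conj A (1 : B) = 1 := by
  rw [conj, trace_one b, map_ofNat]
  ring

theorem conj_add (x y : B) : conj A (x + y) = conj A x + conj A y := by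
  simp only [conj, map_add]
  ring

theorem conj_zero : conj A (0 : B) = 0 := by
  simp [conj]

include b in
theorem conj_algebraMap (a : A) : conj A (algebraMap A B a) = algebraMap A B a := by
  rw [conj, trace_algebraMap' b, map_mul, map_ofNat]
  ring

include b in
theorem trace_conj (x : B) : Algebra.trace A B (conj A x) = Algebra.trace A B x := by
  rw [conj, map_sub, trace_algebraMap' b]
  ring

include b in
theorem conj_conj (x : B) : conj A (conj A x) = x := by
  conv_lhs => rw [conj, trace_conj b]
  rw [conj]
  ring

/-- the conjugation as a ring homomorphism -/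
noncomputable def conjHom : B →+* B where
  toFun := conj A
  map_one' := conj_one b
  map_mul' := conj_mul b
  map_zero' := conj_zero
  map_add' := conj_add

@[simp] theorem conjHom_apply (x : B) : conjHom b x = conj A x := rfl

theorem conjHom_comp_conjHom : (conjHom b).comp (conjHom b) = RingHom.id B :=
  RingHom.ext fun x => conj_conj b x

theorem conjHom_comp_algebraMap : (conjHom b).comp (algebraMap A B) = algebraMap A B :=
  RingHom.ext fun a => conj_algebraMap b a

include b in
theorem mem_range_of_conj_eq (h2 : IsUnit (2 : A)) (x : B) (hx : conj A x = x) :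
    x ∈ Set.range (algebraMap A B) := by
  obtain ⟨u, hu⟩ := h2
  refine ⟨↑u⁻¹ * Algebra.trace A B x, ?_⟩
  have h1 : algebraMap A B (Algebra.trace A B x) = 2 * x := by
    rw [conj] at hx
    linear_combination hx
  rw [map_mul, h1, ← map_ofNat (algebraMap A B) 2, ← hu, ← mul_assoc, ← map_mul, Units.inv_mul,
    map_one, one_mul]

include b in
theorem algebraMap_injective : Function.Injective (algebraMap A B) := by
  intro a a' h
  have h1 : ∀ c : A, algebraMap A B c = 0 → c = 0 := by
    intro c hc
    have h2 : c • b 0 = 0 := by
      rw [Algebra.smul_def, hc, zero_mul]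
    have h3 := congrArg (fun v => b.repr v 0) h2
    simpa using h3
  have := h1 (a - a') (by rw [map_sub, h, sub_self])
  exact sub_eq_zero.mp this

section Loc

variable {A' B' : Type*} [CommRing A'] [CommRing B'] [Algebra A A'] [Algebra B B'] [Algebra A' B']
  [Algebra A B'] [IsScalarTower A A' B'] [IsScalarTower A B B'] (M : Submonoid A)
  [IsLocalization M A'] [IsLocalization (Algebra.algebraMapSubmonoid B M) B']

include b M in
theorem conj_localization (x : B) :
    conj A' (algebraMap B B' x) = algebraMap B B' (conj A x) := by
  haveI : Module.Free A B := Module.Free.of_basis b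
  haveI : Module.Finite A B := Module.Finite.of_basis b
  rw [conj, conj, Algebra.trace_localization A M x, map_sub, ← IsScalarTower.algebraMap_apply,
    ← IsScalarTower.algebraMap_apply]

end Loc

end Groth.Agent.Lib.T2H7.DblCovA
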