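import Mathlib.RingTheory.Flat.LocallyFree
import Mathlib.RingTheory.Flat.Rank
import Mathlib.RingTheory.Localization.Module
import Mathlib.Algebra.Module.LocalizedModule.IsLocalization
import Mathlib.Algebra.Module.LocalizedModule.Away

/-!
# T2H7: a finite flat algebra of constant rank `n` is free of rank `n` on basic opens

Stated for arbitrary models of the localizations.
-/

set_option autoImplicit false
set_option linter.unusedSectionVars false
set_option linter.unusedVariables false
set_option linter.style.haveILetI false

universe u

namespace Groth.Agent.Lib.T2H7.DblCovB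

open Module

section transfer

variable {A B A' B' : Type*} [CommRing A] [CommRing B] [CommRing A'] [CommRing B']
  [Algebra A B] [Algebra A A'] [Algebra B B'] [Algebra A' B'] [Algebra A B']
  [IsScalarTower A A' B'] [IsScalarTower A B B']

/-- transfer of a basis from the standard localizations to arbitrary models -/
theorem basis_transfer (a : A) [IsLocalization.Away a A']
    [IsLocalization.Away (algebraMap A B a) B'] {n : ℕ}
    (b : Basis (Fin n) (Localization.Away a) (LocalizedModule.Away a B)) :
    Nonempty (Basis (Fin n) A' B') := by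
  haveI : IsLocalization (Algebra.algebraMapSubmonoid B (Submonoid.powers a)) B' := by
    rw [Algebra.algebraMapSubmonoid_powers]
    infer_instance
  haveI hloc : IsLocalizedModule (Submonoid.powers a) (IsScalarTower.toAlgHom A B B').toLinearMap :=
    isLocalizedModule_iff_isLocalization.mpr inferInstance
  let e₁ : LocalizedModule (Submonoid.powers a) B ≃ₗ[A] B' :=
    IsLocalizedModule.iso (Submonoid.powers a) (IsScalarTower.toAlgHom A B B').toLinearMap
  let ψ : Localization.Away a ≃ₐ[A] A' := IsLocalization.algEquiv (Submonoid.powers a) _ _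
  let e₂ : LocalizedModule (Submonoid.powers a) B ≃ₗ[A] (Fin n →₀ Localization.Away a) :=
    b.repr.restrictScalars A
  let e₃ : (Fin n →₀ Localization.Away a) ≃ₗ[A] (Fin n →₀ A') :=
    Finsupp.mapRange.linearEquiv ψ.toLinearEquiv
  let E : B' ≃ₗ[A] (Fin n →₀ A') := e₁.symm ≪≫ₗ e₂ ≪≫ₗ e₃
  exact ⟨Basis.ofRepr (E.extendScalarsOfIsLocalization (Submonoid.powers a) A')⟩

end transfer

variable {A B : Type u} [CommRing A] [CommRing B] [Algebra A B] [Module.Finite A B]
  [Module.Flat A B]

theorem exists_basis_away (n : ℕ) (hrk : ∀ q : PrimeSpectrum A, Module.rankAtStalk B q = n)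
    (p : Ideal A) [p.IsPrime] :
    ∃ a : A, a ∉ p ∧ Nonempty (Basis (Fin n) (Localization.Away a) (LocalizedModule.Away a B)) := by
  obtain ⟨a, hap, hfree⟩ := Module.Free.away_of_finite_of_flat_of_rankAtStalk_constant B p
    (fun m _ => by rw [hrk, hrk])
  refine ⟨a, hap, ?_⟩
  haveI : Module.Finite (Localization.Away a) (LocalizedModule.Away a B) :=
    Module.Finite.of_isLocalizedModule (Submonoid.powers a) (Rₚ := Localization.Away a)
      (LocalizedModule.mkLinearMap (Submonoid.powers a) B)
  -- a prime of the localization
  have hdisj : Disjoint (Submonoid.powers a : Set A) (p : Set A) := by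
    rw [Set.disjoint_left]
    rintro x ⟨k, rfl⟩ hx
    exact hap (Ideal.IsPrime.mem_of_pow_mem inferInstance k hx)
  haveI : (Ideal.map (algebraMap A (Localization.Away a)) p).IsPrime :=
    IsLocalization.isPrime_of_isPrime_disjoint (Submonoid.powers a) _ p inferInstance hdisj
  let q : PrimeSpectrum (Localization.Away a) :=
    ⟨Ideal.map (algebraMap A (Localization.Away a)) p, inferInstance⟩
  have h1 : Module.rankAtStalk (LocalizedModule.Away a B) q = n := by
    rw [Module.rankAtStalk_isBaseChange (LocalizedModule.isBaseChange (Submonoid.powers a) B), hrk]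
  rw [Module.rankAtStalk_eq_finrank_of_free] at h1
  haveI : Nontrivial (Localization.Away a) := q.nontrivial
  exact ⟨Module.finBasisOfFinrankEq _ _ h1⟩

end Groth.Agent.Lib.T2H7.DblCovB
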