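import Groth.Agent.Lib.T2H7DblCovA
import Groth.Agent.Lib.T2H7DblCovB
import Mathlib.AlgebraicGeometry.Morphisms.FlatRank
import Mathlib.AlgebraicGeometry.Morphisms.Affine
import Mathlib.AlgebraicGeometry.Morphisms.Finite
import Mathlib.AlgebraicGeometry.Cover.Directed

/-!
# T2H7: the canonical involution of a double cover

For a finite flat finitely presented morphism `f : X ⟶ Y` of rank two, the local conjugations
`x ↦ Tr(x) - x` glue to an involution of `X` over `Y`.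
-/

set_option autoImplicit false
set_option linter.unusedSectionVars false
set_option linter.unusedVariables false
set_option linter.style.haveILetI false

universe u

namespace Groth.Agent.Lib.T2H7.DblCovC

open CategoryTheory CategoryTheory.Limits AlgebraicGeometry TopologicalSpace Opposite
open Groth.Agent.Lib.T2H7

variable {X Y : Scheme.{u}} (f : X ⟶ Y)

/-- the algebra structure on the sections over a preimage -/
@[reducible] noncomputable def secAlg (V : Y.Opens) : Algebra Γ(Y, V) Γ(X, f ⁻¹ᵁ V) :=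
  (f.app V).hom.toAlgebra

attribute [local instance] secAlg

/-- affine opens of the base over which the cover is free of rank two -/
@[ext] structure FAO where
  /-- the open -/
  V : Y.Opens
  aff : IsAffineOpen V
  basis : Nonempty (Module.Basis (Fin 2) Γ(Y, V) Γ(X, f ⁻¹ᵁ V))

variable {f}

/-- the local conjugation -/
noncomputable def sigV (W : FAO f) : Γ(X, f ⁻¹ᵁ W.V) →+* Γ(X, f ⁻¹ᵁ W.V) :=
  DblCovA.conjHom W.basis.some

theorem sigV_apply (W : FAO f) (x : Γ(X, f ⁻¹ᵁ W.V)) : sigV W x = DblCovA.conj Γ(Y, W.V) x := rfl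

theorem sigV_sigV (W : FAO f) (x : Γ(X, f ⁻¹ᵁ W.V)) : sigV W (sigV W x) = x :=
  DblCovA.conj_conj W.basis.some x

theorem sigV_app (W : FAO f) (r : Γ(Y, W.V)) : sigV W (f.app W.V r) = f.app W.V r :=
  DblCovA.conj_algebraMap W.basis.some r

/-- restriction of sections of `X` over preimages -/
noncomputable def res {V' V : Y.Opens} (h : V' ≤ V) : Γ(X, f ⁻¹ᵁ V) →+* Γ(X, f ⁻¹ᵁ V') :=
  (X.presheaf.map (homOfLE (f.preimage_mono h)).op).hom

theorem res_res {V'' V' V : Y.Opens} (h' : V'' ≤ V') (h : V' ≤ V) (x : Γ(X, f ⁻¹ᵁ V)) :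
    res (f := f) h' (res h x) = res (h'.trans h) x := by
  simp only [res]
  rw [← CommRingCat.comp_apply, ← X.presheaf.map_comp]
  rfl

theorem res_refl {V : Y.Opens} (x : Γ(X, f ⁻¹ᵁ V)) : res (f := f) (le_refl V) x = x := by
  simp only [res]
  have : (homOfLE (f.preimage_mono (le_refl V))).op = 𝟙 (op (f ⁻¹ᵁ V)) := rfl
  rw [this, X.presheaf.map_id]
  rfl

section Basic

variable [IsAffineHom f] {V : Y.Opens} (hV : IsAffineOpen V) (a : Γ(Y, V))

include hV in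
theorem basicOpen_aux (b : Module.Basis (Fin 2) Γ(Y, V) Γ(X, f ⁻¹ᵁ V)) :
    Nonempty (Module.Basis (Fin 2) Γ(Y, Y.basicOpen a) Γ(X, f ⁻¹ᵁ Y.basicOpen a)) ∧
    ∀ x : Γ(X, f ⁻¹ᵁ V), res (Y.basicOpen_le a) (DblCovA.conj Γ(Y, V) x) =
      DblCovA.conj Γ(Y, Y.basicOpen a) (res (Y.basicOpen_le a) x) := by
  letI i1 : Algebra Γ(Y, V) Γ(Y, Y.basicOpen a) :=
    (Y.presheaf.map (homOfLE (Y.basicOpen_le a)).op).hom.toAlgebra
  letI i2 : Algebra Γ(X, f ⁻¹ᵁ V) Γ(X, f ⁻¹ᵁ Y.basicOpen a) :=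
    (res (f := f) (Y.basicOpen_le a)).toAlgebra
  letI i3 : Algebra Γ(Y, V) Γ(X, f ⁻¹ᵁ Y.basicOpen a) :=
    ((algebraMap Γ(Y, Y.basicOpen a) Γ(X, f ⁻¹ᵁ Y.basicOpen a)).comp
      (algebraMap Γ(Y, V) Γ(Y, Y.basicOpen a))).toAlgebra
  haveI t1 : IsScalarTower Γ(Y, V) Γ(Y, Y.basicOpen a) Γ(X, f ⁻¹ᵁ Y.basicOpen a) :=
    IsScalarTower.of_algebraMap_eq fun _ => rfl
  haveI t2 : IsScalarTower Γ(Y, V) Γ(X, f ⁻¹ᵁ V) Γ(X, f ⁻¹ᵁ Y.basicOpen a) :=
    IsScalarTower.of_algebraMap_eq fun r => by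
      have := f.naturality (homOfLE (Y.basicOpen_le a)).op
      exact congrArg (fun φ => φ.hom r) this
  haveI l1 : IsLocalization.Away a Γ(Y, Y.basicOpen a) :=
    hV.isLocalization_of_eq_basicOpen a (homOfLE (Y.basicOpen_le a)) rfl
  haveI l2 : IsLocalization.Away (f.app V a) Γ(X, f ⁻¹ᵁ Y.basicOpen a) :=
    (hV.preimage f).isLocalization_of_eq_basicOpen (f.app V a)
      (homOfLE (f.preimage_mono (Y.basicOpen_le a))) (Scheme.preimage_basicOpen f a)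
  haveI l3 : IsLocalization (Algebra.algebraMapSubmonoid Γ(X, f ⁻¹ᵁ V) (Submonoid.powers a))
      Γ(X, f ⁻¹ᵁ Y.basicOpen a) := by
    rw [Algebra.algebraMapSubmonoid_powers]
    exact l2
  refine ⟨⟨b.localizationLocalization Γ(Y, Y.basicOpen a) (Submonoid.powers a)
    Γ(X, f ⁻¹ᵁ Y.basicOpen a)⟩, fun x => ?_⟩
  exact (DblCovA.conj_localization b (Submonoid.powers a) x).symm

/-- the basic open of a free affine open -/
noncomputable def FAO.basic (W : FAO f) (a : Γ(Y, W.V)) : FAO f where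
  V := Y.basicOpen a
  aff := W.aff.basicOpen a
  basis := (basicOpen_aux W.aff a W.basis.some).1

/-- compatibility of the local conjugations -/
def Good (W' W : FAO f) : Prop :=
  ∃ h : W'.V ≤ W.V, ∀ x : Γ(X, f ⁻¹ᵁ W.V), res h (sigV W x) = sigV W' (res h x)

theorem Good.le {W' W : FAO f} (h : Good W' W) : W'.V ≤ W.V := h.1

theorem Good.refl (W : FAO f) : Good W W :=
  ⟨le_rfl, fun x => by rw [res_refl, res_refl]⟩

theorem Good.trans {W'' W' W : FAO f} (h' : Good W'' W') (h : Good W' W) : Good W'' W := by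
  obtain ⟨e', h'⟩ := h'
  obtain ⟨e, h⟩ := h
  refine ⟨e'.trans e, fun x => ?_⟩
  rw [← res_res e' e, ← res_res e' e, h, h']

theorem FAO.basic_good (W : FAO f) (a : Γ(Y, W.V)) : Good (W.basic a) W :=
  ⟨Y.basicOpen_le a, fun x => (basicOpen_aux W.aff a W.basis.some).2 x⟩

instance : Preorder (FAO f) where
  le := Good
  le_refl := Good.refl
  le_trans _ _ _ := Good.trans

/-- two free affine opens containing a point contain a common good one -/
theorem exists_common (i j : FAO f) (y : Y) (hi : y ∈ i.V) (hj : y ∈ j.V) :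
    ∃ k : FAO f, k ≤ i ∧ k ≤ j ∧ y ∈ k.V := by
  obtain ⟨a, a', he, hy⟩ := exists_basicOpen_le_affine_inter i.aff j.aff y ⟨hi, hj⟩
  have hk : i.basic a = j.basic a' := FAO.ext he
  refine ⟨i.basic a, i.basic_good a, ?_, hy⟩
  rw [hk]
  exact j.basic_good a'

include hV in
theorem basicOpen_basis (n : ℕ)
    (b : Module.Basis (Fin n) (Localization.Away a) (LocalizedModule.Away a Γ(X, f ⁻¹ᵁ V))) :
    Nonempty (Module.Basis (Fin n) Γ(Y, Y.basicOpen a) Γ(X, f ⁻¹ᵁ Y.basicOpen a)) := by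
  letI i1 : Algebra Γ(Y, V) Γ(Y, Y.basicOpen a) :=
    (Y.presheaf.map (homOfLE (Y.basicOpen_le a)).op).hom.toAlgebra
  letI i2 : Algebra Γ(X, f ⁻¹ᵁ V) Γ(X, f ⁻¹ᵁ Y.basicOpen a) :=
    (res (f := f) (Y.basicOpen_le a)).toAlgebra
  letI i3 : Algebra Γ(Y, V) Γ(X, f ⁻¹ᵁ Y.basicOpen a) :=
    ((algebraMap Γ(Y, Y.basicOpen a) Γ(X, f ⁻¹ᵁ Y.basicOpen a)).comp
      (algebraMap Γ(Y, V) Γ(Y, Y.basicOpen a))).toAlgebra
  haveI t1 : IsScalarTower Γ(Y, V) Γ(Y, Y.basicOpen a) Γ(X, f ⁻¹ᵁ Y.basicOpen a) :=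
    IsScalarTower.of_algebraMap_eq fun _ => rfl
  haveI t2 : IsScalarTower Γ(Y, V) Γ(X, f ⁻¹ᵁ V) Γ(X, f ⁻¹ᵁ Y.basicOpen a) :=
    IsScalarTower.of_algebraMap_eq fun r => by
      have := f.naturality (homOfLE (Y.basicOpen_le a)).op
      exact congrArg (fun φ => φ.hom r) this
  haveI l1 : IsLocalization.Away a Γ(Y, Y.basicOpen a) :=
    hV.isLocalization_of_eq_basicOpen a (homOfLE (Y.basicOpen_le a)) rfl
  haveI l2 : IsLocalization.Away (algebraMap Γ(Y, V) Γ(X, f ⁻¹ᵁ V) a)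
      Γ(X, f ⁻¹ᵁ Y.basicOpen a) :=
    (hV.preimage f).isLocalization_of_eq_basicOpen (f.app V a)
      (homOfLE (f.preimage_mono (Y.basicOpen_le a))) (Scheme.preimage_basicOpen f a)
  exact DblCovB.basis_transfer a b

end Basic

section Cover

variable [IsFinite f] [Flat f] (hrk : ∀ y : Y, f.finrank y = 2)

include hrk in
theorem rankAtStalk_eq {V : Y.Opens} (hV : IsAffineOpen V) (q : PrimeSpectrum Γ(Y, V)) :
    Module.rankAtStalk (R := Γ(Y, V)) Γ(X, f ⁻¹ᵁ V) q = 2 := by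
  have hT := hV.preimage f
  have hfin : (f.app V).hom.Finite := f.finite_app V hV
  have hflat : (f.app V).hom.Flat := by
    have := f.flat_appLE hV hT le_rfl
    rwa [← Scheme.Hom.app_eq_appLE] at this
  have sq : IsPullback (Spec.map (f.app V)) hT.fromSpec hV.fromSpec f := by
    refine IsOpenImmersion.isPullback _ _ _ _ ?_ ?_
    · rw [← IsAffineOpen.SpecMap_appLE_fromSpec f hV hT le_rfl, ← Scheme.Hom.app_eq_appLE]
    · rw [IsAffineOpen.opensRange_fromSpec, IsAffineOpen.opensRange_fromSpec]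
  have h1 := Scheme.Hom.finrank_of_isPullback _ _ _ _ sq.flip q
  rw [hrk, Scheme.Hom.finrank_SpecMap_eq_finrank hfin hflat] at h1
  exact h1

include hrk in
theorem exists_fao (y : Y) : ∃ W : FAO f, y ∈ W.V := by
  obtain ⟨V₀, hV₀, hy, -⟩ := exists_isAffineOpen_mem_and_subset (x := y) (U := ⊤) trivial
  have hT := hV₀.preimage f
  haveI : Module.Finite Γ(Y, V₀) Γ(X, f ⁻¹ᵁ V₀) := f.finite_app V₀ hV₀
  haveI : Module.Flat Γ(Y, V₀) Γ(X, f ⁻¹ᵁ V₀) := by
    have := f.flat_appLE hV₀ hT le_rfl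
    rwa [← Scheme.Hom.app_eq_appLE] at this
  obtain ⟨a, hap, ⟨b⟩⟩ := DblCovB.exists_basis_away (B := Γ(X, f ⁻¹ᵁ V₀)) 2
    (rankAtStalk_eq hrk hV₀) (hV₀.primeIdealOf ⟨y, hy⟩).asIdeal
  refine ⟨⟨Y.basicOpen a, hV₀.basicOpen a, basicOpen_basis hV₀ a 2 b⟩, ?_⟩
  have h1 : hV₀.primeIdealOf ⟨y, hy⟩ ∈ hV₀.fromSpec ⁻¹ᵁ Y.basicOpen a := by
    rw [hV₀.fromSpec_preimage_basicOpen]
    exact hap
  have h2 := hV₀.fromSpec_primeIdealOf ⟨y, hy⟩
  rw [← show hV₀.fromSpec (hV₀.primeIdealOf ⟨y, hy⟩) = y from h2]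
  exact h1

include hrk in
theorem isOpenCover : TopologicalSpace.IsOpenCover (fun W : FAO f => f ⁻¹ᵁ W.V) := by
  rw [TopologicalSpace.IsOpenCover, eq_top_iff]
  intro x _
  obtain ⟨W, hW⟩ := exists_fao hrk (f x)
  exact TopologicalSpace.Opens.mem_iSup.mpr ⟨W, hW⟩

/-- the cover of `X` by preimages of free affine opens -/
noncomputable def cover : X.OpenCover :=
  X.openCoverOfIsOpenCover (fun W : FAO f => f ⁻¹ᵁ W.V) (isOpenCover hrk)

instance : Preorder (cover hrk).I₀ := inferInstanceAs (Preorder (FAO f))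

theorem cover_le {i j : (cover hrk).I₀} (h : i ⟶ j) :
    f ⁻¹ᵁ (show FAO f from i).V ≤ f ⁻¹ᵁ (show FAO f from j).V :=
  f.preimage_mono (Good.le (leOfHom h))

noncomputable instance : (cover hrk).LocallyDirected where
  trans {i j} hij := X.homOfLE (cover_le hrk hij)
  trans_id i := by
    apply (cancel_mono (Scheme.Opens.ι (f ⁻¹ᵁ (show FAO f from i).V))).1
    rw [Scheme.homOfLE_ι]
    exact (Category.id_comp _).symm
  trans_comp hij hjk := (Scheme.homOfLE_homOfLE _ _ _).symm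
  w hij := Scheme.homOfLE_ι _ _
  directed {i j} x := by
    let i' : FAO f := i
    let j' : FAO f := j
    set u : X := (pullback.fst ((f ⁻¹ᵁ i'.V).ι) ((f ⁻¹ᵁ j'.V).ι) ≫ (f ⁻¹ᵁ i'.V).ι) x with hu
    have hui : u ∈ f ⁻¹ᵁ i'.V := ((pullback.fst ((f ⁻¹ᵁ i'.V).ι) ((f ⁻¹ᵁ j'.V).ι)) x).2
    have huj : u ∈ f ⁻¹ᵁ j'.V := by
      have : u = (pullback.snd ((f ⁻¹ᵁ i'.V).ι) ((f ⁻¹ᵁ j'.V).ι) ≫ (f ⁻¹ᵁ j'.V).ι) x := by
        rw [hu, pullback.condition]
      rw [this]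
      exact ((pullback.snd ((f ⁻¹ᵁ i'.V).ι) ((f ⁻¹ᵁ j'.V).ι)) x).2
    obtain ⟨k, hki, hkj, huk⟩ := exists_common i' j' (f u) hui huj
    refine ⟨k, homOfLE hki, homOfLE hkj, ⟨u, huk⟩, ?_⟩
    apply (pullback.fst ((f ⁻¹ᵁ i'.V).ι) ((f ⁻¹ᵁ j'.V).ι) ≫ (f ⁻¹ᵁ i'.V).ι).isOpenEmbedding.injective
    have e : pullback.lift (X.homOfLE (f.preimage_mono hki.le)) (X.homOfLE (f.preimage_mono hkj.le))
        (by rw [Scheme.homOfLE_ι, Scheme.homOfLE_ι]) ≫
        pullback.fst ((f ⁻¹ᵁ i'.V).ι) ((f ⁻¹ᵁ j'.V).ι) ≫ (f ⁻¹ᵁ i'.V).ι = (f ⁻¹ᵁ k.V).ι := by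
      rw [pullback.lift_fst_assoc, Scheme.homOfLE_ι]
    exact congrArg (fun φ : (f ⁻¹ᵁ k.V).toScheme ⟶ X => φ ⟨u, huk⟩) e
  property_trans hij := inferInstanceAs (IsOpenImmersion (X.homOfLE _))

/-- the local involutions as morphisms into `X` -/
noncomputable def sigι (W : (cover hrk).I₀) : (cover hrk).X W ⟶ X :=
  (f ⁻¹ᵁ (show FAO f from W).V).toSpecΓ ≫ Spec.map (CommRingCat.ofHom (sigV (show FAO f from W))) ≫
    ((show FAO f from W).aff.preimage f).fromSpec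

theorem sigι_compat {i j : (cover hrk).I₀} (hij : i ⟶ j) :
    (cover hrk).trans hij ≫ sigι hrk j = sigι hrk i := by
  let i' : FAO f := i
  let j' : FAO f := j
  obtain ⟨hle, hg⟩ : Good i' j' := leOfHom hij
  show X.homOfLE (f.preimage_mono hle) ≫ (f ⁻¹ᵁ j'.V).toSpecΓ ≫
    Spec.map (CommRingCat.ofHom (sigV j')) ≫ (j'.aff.preimage f).fromSpec =
    (f ⁻¹ᵁ i'.V).toSpecΓ ≫ Spec.map (CommRingCat.ofHom (sigV i')) ≫ (i'.aff.preimage f).fromSpec
  rw [← Scheme.Opens.toSpecΓ_SpecMap_presheaf_map_assoc, ← Spec.map_comp_assoc]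
  have h1 : CommRingCat.ofHom (sigV j') ≫ X.presheaf.map (homOfLE (f.preimage_mono hle)).op =
      X.presheaf.map (homOfLE (f.preimage_mono hle)).op ≫ CommRingCat.ofHom (sigV i') := by
    ext x
    exact hg x
  rw [h1, Spec.map_comp_assoc, IsAffineOpen.map_fromSpec]

/-- the canonical involution -/
noncomputable def sig : X ⟶ X :=
  (cover hrk).glueMorphismsOfLocallyDirected (sigι hrk) (sigι_compat hrk)

theorem ι_sig (W : FAO f) : (f ⁻¹ᵁ W.V).ι ≫ sig hrk =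
    (f ⁻¹ᵁ W.V).toSpecΓ ≫ Spec.map (CommRingCat.ofHom (sigV W)) ≫ (W.aff.preimage f).fromSpec :=
  (cover hrk).map_glueMorphismsOfLocallyDirected (sigι hrk) (sigι_compat hrk) W

theorem fromSpec_sig (W : FAO f) : (W.aff.preimage f).fromSpec ≫ sig hrk =
    Spec.map (CommRingCat.ofHom (sigV W)) ≫ (W.aff.preimage f).fromSpec := by
  have hT := W.aff.preimage f
  have h2 := congrArg (fun φ => hT.isoSpec.inv ≫ φ) (ι_sig hrk W)
  rw [IsAffineOpen.isoSpec_inv_ι_assoc, hT.isoSpec_inv_toSpecΓ_assoc] at h2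
  exact h2

end Cover

end Groth.Agent.Lib.T2H7.DblCovC
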