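import Groth.Agent.Lib.Helper20QuotAff

/-!
# T2H7: `SGA1.IsQuot` from affine charts

* `quotAt_of_local`: the quotient conditions glue along a downward closed covering family of opens.
* `quotAt_spec`: the quotient conditions on `Spec` from the ring-level statement.
* `quotAt_of_chart`: transport of the quotient conditions along open immersions.
* `isQuot_of_charts`: `IsQuot` from a family of affine charts.
-/

set_option autoImplicit false
set_option linter.unusedSectionVars false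
set_option linter.unusedVariables false
set_option linter.style.haveILetI false

universe u

open CategoryTheory AlgebraicGeometry TopologicalSpace

namespace Groth.Agent.Lib.T2H7.QuotLocA

open SGA1 Groth.Agent.Lib.Helper20

section fam

variable {X Y : Scheme.{u}} {ι : Type u} {σ : ι → (X ⟶ X)} {p : X ⟶ Y}

/-- gluing of the quotient conditions along a downward closed covering family of opens -/
theorem quotAt_of_local (hσ : ∀ i, σ i ≫ p = p) (P : Y.Opens → Prop)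
    (hP : ∀ U, P U → QuotAt σ p U (p ⁻¹ᵁ U))
    (hmono : ∀ U U' : Y.Opens, U' ≤ U → P U → P U')
    (hcov : ∀ y : Y, ∃ U, P U ∧ y ∈ U) (U : Y.Opens) :
    QuotAt σ p U (p ⁻¹ᵁ U) := by
  have eσ : ∀ (W : Y.Opens) (i : ι), p ⁻¹ᵁ W ≤ σ i ⁻¹ᵁ (p ⁻¹ᵁ W) := by
    intro W i
    rw [← Scheme.Hom.comp_preimage, hσ i]
  let J := {V : Y.Opens // P V ∧ V ≤ U}
  let V : J → Y.Opens := fun j => j.1
  have hVU : ∀ j : J, V j ≤ U := fun j => j.2.2
  have hcover : U ≤ iSup V := by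
    intro y hy
    obtain ⟨U₀, hU₀, hyU₀⟩ := hcov y
    exact Opens.mem_iSup.mpr ⟨⟨U₀ ⊓ U, hmono _ _ inf_le_left hU₀, inf_le_right⟩, ⟨hyU₀, hy⟩⟩
  have hcover' : p ⁻¹ᵁ U ≤ iSup (fun j : J => p ⁻¹ᵁ V j) := by
    intro x hx
    obtain ⟨j, hj⟩ := Opens.mem_iSup.mp (hcover (show p.base x ∈ U from hx))
    exact Opens.mem_iSup.mpr ⟨j, hj⟩
  have hb : ∀ j : J, QuotAt σ p (V j) (p ⁻¹ᵁ V j) := fun j => hP _ j.2.1
  have hbb : ∀ j k : J, QuotAt σ p (V j ⊓ V k) (p ⁻¹ᵁ (V j ⊓ V k)) := fun j k =>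
    hP _ (hmono _ _ inf_le_left j.2.1)
  have hres : ∀ (W W' : Y.Opens) (hWW' : W' ≤ W) (a : Γ(Y, W)),
      (p.app W').hom ((Y.presheaf.map (homOfLE hWW').op).hom a) =
        (X.presheaf.map (homOfLE (p.preimage_mono hWW')).op).hom ((p.app W).hom a) := by
    intro W W' hWW' a
    exact congrArg (fun f => f.hom a) (p.naturality (homOfLE hWW').op)
  have hresσ : ∀ (W W' : Y.Opens) (hWW' : W' ≤ W) (i : ι) (t : Γ(X, p ⁻¹ᵁ W)),
      ((σ i).appLE _ _ (eσ W' i)).hom ((X.presheaf.map (homOfLE (p.preimage_mono hWW')).op).hom t) =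
        (X.presheaf.map (homOfLE (p.preimage_mono hWW')).op).hom
          (((σ i).appLE _ _ (eσ W i)).hom t) := by
    intro W W' hWW' i t
    have h1 : X.presheaf.map (homOfLE (p.preimage_mono hWW')).op ≫ (σ i).appLE _ _ (eσ W' i) =
        (σ i).appLE _ _ (eσ W i) ≫ X.presheaf.map (homOfLE (p.preimage_mono hWW')).op := by
      rw [Scheme.Hom.map_appLE, Scheme.Hom.appLE_map]
    exact congrArg (fun f => f.hom t) h1
  have happ : ∀ (W : Y.Opens) (hW : QuotAt σ p W (p ⁻¹ᵁ W)),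
      Function.Injective (p.app W).hom ∧ ∀ s : Γ(X, p ⁻¹ᵁ W),
        (∀ i, ((σ i).appLE _ _ (eσ W i)).hom s = s) → s ∈ Set.range (p.app W).hom := by
    rintro W ⟨e, eσ', hinj, hrange⟩
    rw [Scheme.Hom.app_eq_appLE]
    exact ⟨hinj, hrange⟩
  refine ⟨le_rfl, eσ U, ?_, ?_⟩
  · rw [Scheme.Hom.appLE_eq_app, injective_iff_map_eq_zero]
    intro s hs
    fapply Y.sheaf.eq_of_locally_eq' V U (fun j => homOfLE (hVU j)) hcover
    intro j
    change (Y.presheaf.map (homOfLE (hVU j)).op).hom s = (Y.presheaf.map (homOfLE (hVU j)).op).hom 0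
    rw [map_zero]
    apply (happ _ (hb j)).1
    rw [map_zero, hres U (V j) (hVU j) s, hs, map_zero]
  · intro t ht
    rw [Scheme.Hom.appLE_eq_app]
    have h1 : ∀ j : J, ∃ s : Γ(Y, V j), (p.app (V j)).hom s =
        (X.presheaf.map (homOfLE (p.preimage_mono (hVU j))).op).hom t := by
      intro j
      apply (happ _ (hb j)).2
      intro i
      rw [hresσ U (V j) (hVU j) i t, ht i]
    choose sf hsf using h1
    have hcompat : TopCat.Presheaf.IsCompatible Y.presheaf V sf := by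
      intro j k
      apply (happ _ (hbb j k)).1
      change (p.app (V j ⊓ V k)).hom ((Y.presheaf.map (homOfLE inf_le_left).op).hom (sf j)) =
        (p.app (V j ⊓ V k)).hom ((Y.presheaf.map (homOfLE inf_le_right).op).hom (sf k))
      rw [hres (V j) (V j ⊓ V k) inf_le_left, hres (V k) (V j ⊓ V k) inf_le_right, hsf, hsf]
      change (X.presheaf.map _ ≫ X.presheaf.map _).hom t = (X.presheaf.map _ ≫ X.presheaf.map _).hom t
      rw [← X.presheaf.map_comp, ← X.presheaf.map_comp]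
      rfl
    obtain ⟨s, hs, -⟩ := Y.sheaf.existsUnique_gluing' V U (fun j => homOfLE (hVU j)) hcover sf
      hcompat
    refine ⟨s, ?_⟩
    fapply X.sheaf.eq_of_locally_eq' (fun j : J => p ⁻¹ᵁ V j) (p ⁻¹ᵁ U)
      (fun j => homOfLE (p.preimage_mono (hVU j))) hcover'
    intro j
    change (X.presheaf.map (homOfLE (p.preimage_mono (hVU j))).op).hom ((p.app U).hom s) =
      (X.presheaf.map (homOfLE (p.preimage_mono (hVU j))).op).hom t
    rw [← hres U (V j) (hVU j) s, ← hsf j]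
    congr 1
    exact hs j

/-- the quotient conditions on all opens give `IsQuot` -/
theorem isQuot_of_quotAt {G : Type u} [Group G] (ρ : G →* Aut X)
    (haff : IsAffineHom p) (hinv : ∀ g : G, (ρ g).hom ≫ p = p)
    (hall : ∀ U : Y.Opens, QuotAt (fun g : G => (ρ g).hom) p U (p ⁻¹ᵁ U)) : IsQuot ρ p := by
  refine ⟨haff, hinv, fun U => ?_, fun U s => ⟨?_, ?_⟩⟩
  · obtain ⟨e, eσ, hinj, -⟩ := hall U
    rw [Scheme.Hom.appLE_eq_app] at hinj
    exact hinj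
  · rintro ⟨a, rfl⟩ g
    have := appLE_invariant (σ := fun g : G => (ρ g).hom) hinv U (p ⁻¹ᵁ U) le_rfl g
      (preimage_le_of_inv ρ p hinv g U) a
    rw [Scheme.Hom.appLE_eq_app] at this
    exact this
  · intro hs
    obtain ⟨e, eσ, -, hrange⟩ := hall U
    have := hrange s hs
    rw [Scheme.Hom.appLE_eq_app] at this
    exact this

end fam

section spec

/-- the quotient conditions on `Spec` from the ring-level statement -/
theorem quotAt_spec {A B : CommRingCat.{u}} (θ : B ⟶ A) {ι : Type u} (τ : ι → (A ⟶ A))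
    (hinj : Function.Injective θ.hom)
    (hrange : ∀ t, (∀ i, (τ i).hom t = t) → t ∈ Set.range θ.hom) :
    QuotAt (fun i => Spec.map (τ i)) (Spec.map θ) ⊤ ⊤ := by
  have e : (⊤ : (Spec A).Opens) ≤ (Spec.map θ) ⁻¹ᵁ ⊤ := fun _ _ => trivial
  have eσ : ∀ i, (⊤ : (Spec A).Opens) ≤ (Spec.map (τ i)) ⁻¹ᵁ ⊤ := fun _ _ _ => trivial
  have hθ : (Spec.map θ).appLE ⊤ ⊤ e =
      (Scheme.ΓSpecIso B).hom ≫ θ ≫ (Scheme.ΓSpecIso A).inv := by
    rw [appLE_top_top, ← Category.assoc, ← Scheme.ΓSpecIso_naturality, Category.assoc,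
      Iso.hom_inv_id, Category.comp_id]
  have hτ : ∀ i, (Spec.map (τ i)).appLE ⊤ ⊤ (eσ i) =
      (Scheme.ΓSpecIso A).hom ≫ τ i ≫ (Scheme.ΓSpecIso A).inv := by
    intro i
    rw [appLE_top_top, ← Category.assoc, ← Scheme.ΓSpecIso_naturality, Category.assoc,
      Iso.hom_inv_id, Category.comp_id]
  have hAinj : Function.Injective (Scheme.ΓSpecIso A).inv.hom :=
    (ConcreteCategory.bijective_of_isIso (Scheme.ΓSpecIso A).inv).injective
  have hBbij : Function.Bijective (Scheme.ΓSpecIso B).hom.hom :=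
    ConcreteCategory.bijective_of_isIso (Scheme.ΓSpecIso B).hom
  have hAA : ∀ t, (Scheme.ΓSpecIso A).inv.hom ((Scheme.ΓSpecIso A).hom.hom t) = t := fun t =>
    congrArg (fun f => f.hom t) (Scheme.ΓSpecIso A).hom_inv_id
  refine ⟨e, eσ, ?_, ?_⟩
  · rw [hθ]
    intro x y hxy
    apply hBbij.1
    apply hinj
    apply hAinj
    exact hxy
  · intro s hs
    have h1 : ∀ i, (τ i).hom ((Scheme.ΓSpecIso A).hom.hom s) = (Scheme.ΓSpecIso A).hom.hom s := by
      intro i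
      have := hs i
      rw [hτ i] at this
      have h2 : (Scheme.ΓSpecIso A).inv.hom ((τ i).hom ((Scheme.ΓSpecIso A).hom.hom s)) = s := this
      have h3 := congrArg (Scheme.ΓSpecIso A).hom.hom h2
      have h4 : ∀ t, (Scheme.ΓSpecIso A).hom.hom ((Scheme.ΓSpecIso A).inv.hom t) = t := fun t =>
        congrArg (fun f => f.hom t) (Scheme.ΓSpecIso A).inv_hom_id
      rw [h4] at h3
      exact h3
    obtain ⟨b, hb⟩ := hrange _ h1
    obtain ⟨b', rfl⟩ := hBbij.2 b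
    refine ⟨b', ?_⟩
    rw [hθ]
    change (Scheme.ΓSpecIso A).inv.hom (θ.hom ((Scheme.ΓSpecIso B).hom.hom b')) = s
    rw [hb, hAA]

end spec

section chart

variable {X Y T V : Scheme.{u}} {ι : Type u} {σ : ι → (X ⟶ X)} {p : X ⟶ Y}

/-- transport of the quotient conditions along open immersions -/
theorem quotAt_of_chart (a : T ⟶ X) (b : V ⟶ Y) [IsOpenImmersion a] [IsOpenImmersion b]
    (pT : T ⟶ V) (σT : ι → (T ⟶ T))
    (hp : a ≫ p = pT ≫ b) (hσ : ∀ i, a ≫ σ i = σT i ≫ a) (hσp : ∀ i, σ i ≫ p = p)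
    (hrange : a.opensRange = p ⁻¹ᵁ b.opensRange)
    (hT : ∀ W : V.Opens, QuotAt σT pT W (pT ⁻¹ᵁ W))
    (U : Y.Opens) (hU : U ≤ b.opensRange) : QuotAt σ p U (p ⁻¹ᵁ U) := by
  have eσ : ∀ i, p ⁻¹ᵁ U ≤ σ i ⁻¹ᵁ (p ⁻¹ᵁ U) := by
    intro i
    rw [← Scheme.Hom.comp_preimage, hσp i]
  have hTeq : a ⁻¹ᵁ (p ⁻¹ᵁ U) = pT ⁻¹ᵁ (b ⁻¹ᵁ U) := by
    rw [← Scheme.Hom.comp_preimage, ← Scheme.Hom.comp_preimage, hp]
  have hq := hT (b ⁻¹ᵁ U)
  rw [← hTeq] at hq
  obtain ⟨e', eσ', hinj', hrange'⟩ := hq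
  have hpU : p ⁻¹ᵁ U ≤ a.opensRange := by
    rw [hrange]; exact p.preimage_mono hU
  haveI hα : IsIso (a.app (p ⁻¹ᵁ U)) := Scheme.Hom.isIso_app a _ hpU
  haveI hβ : IsIso (b.app U) := Scheme.Hom.isIso_app b _ hU
  have hαb : Function.Bijective (a.app (p ⁻¹ᵁ U)).hom := ConcreteCategory.bijective_of_isIso _
  have hβb : Function.Bijective (b.app U).hom := ConcreteCategory.bijective_of_isIso _
  -- the commutative square
  have hsq : p.appLE U (p ⁻¹ᵁ U) le_rfl ≫ a.app (p ⁻¹ᵁ U) =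
      b.app U ≫ pT.appLE (b ⁻¹ᵁ U) (a ⁻¹ᵁ (p ⁻¹ᵁ U)) e' := by
    rw [Scheme.Hom.app_eq_appLE, Scheme.Hom.app_eq_appLE, Scheme.Hom.appLE_comp_appLE,
      Scheme.Hom.appLE_comp_appLE]
    exact appLE_congr_hom hp _ _ _
  have hsqσ : ∀ i, (σ i).appLE (p ⁻¹ᵁ U) (p ⁻¹ᵁ U) (eσ i) ≫ a.app (p ⁻¹ᵁ U) =
      a.app (p ⁻¹ᵁ U) ≫ (σT i).appLE (a ⁻¹ᵁ (p ⁻¹ᵁ U)) (a ⁻¹ᵁ (p ⁻¹ᵁ U)) (eσ' i) := by
    intro i
    rw [Scheme.Hom.app_eq_appLE, Scheme.Hom.appLE_comp_appLE, Scheme.Hom.appLE_comp_appLE]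
    exact appLE_congr_hom (hσ i) _ _ _
  refine ⟨le_rfl, eσ, ?_, ?_⟩
  · intro x y hxy
    apply hβb.1
    apply hinj'
    have h1 := congrArg (fun f => f.hom x) hsq
    have h2 := congrArg (fun f => f.hom y) hsq
    change (a.app (p ⁻¹ᵁ U)).hom ((p.appLE U (p ⁻¹ᵁ U) le_rfl).hom x) = _ at h1
    change (a.app (p ⁻¹ᵁ U)).hom ((p.appLE U (p ⁻¹ᵁ U) le_rfl).hom y) = _ at h2
    rw [hxy] at h1
    exact h1.symm.trans h2
  · intro s hs
    have h1 : ∀ i, ((σT i).appLE _ _ (eσ' i)).hom ((a.app (p ⁻¹ᵁ U)).hom s) =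
        (a.app (p ⁻¹ᵁ U)).hom s := by
      intro i
      have h2 := congrArg (fun f => f.hom s) (hsqσ i)
      change (a.app (p ⁻¹ᵁ U)).hom (((σ i).appLE _ _ (eσ i)).hom s) = _ at h2
      rw [hs i] at h2
      exact h2.symm
    obtain ⟨t, ht⟩ := hrange' _ h1
    obtain ⟨t', rfl⟩ := hβb.2 t
    refine ⟨t', ?_⟩
    apply hαb.1
    have h3 := congrArg (fun f => f.hom t') hsq
    change (a.app (p ⁻¹ᵁ U)).hom ((p.appLE U (p ⁻¹ᵁ U) le_rfl).hom t') = _ at h3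
    rw [h3]
    exact ht

end chart

section main

variable {X Y : Scheme.{u}} {G : Type u} [Group G] [Finite G]

/-- **`IsQuot` from affine charts.** -/
theorem isQuot_of_charts (ρ : G →* Aut X) (p : X ⟶ Y)
    (haff : IsAffineHom p) (hinv : ∀ g, (ρ g).hom ≫ p = p)
    {J : Type*} (Bc Ac : J → CommRingCat.{u}) (θ : ∀ j, Bc j ⟶ Ac j)
    (τ : ∀ j, G → (Ac j ⟶ Ac j))
    (a : ∀ j, Spec (Ac j) ⟶ X) (b : ∀ j, Spec (Bc j) ⟶ Y)
    [∀ j, IsOpenImmersion (a j)] [∀ j, IsOpenImmersion (b j)]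
    (hab : ∀ j, a j ≫ p = Spec.map (θ j) ≫ b j)
    (hτ : ∀ j g, a j ≫ (ρ g).hom = Spec.map (τ j g) ≫ a j)
    (hrange : ∀ j, (a j).opensRange = p ⁻¹ᵁ (b j).opensRange)
    (hcov : ∀ y : Y, ∃ j, y ∈ (b j).opensRange)
    (hinj : ∀ j, Function.Injective (θ j).hom)
    (hfix : ∀ j g, θ j ≫ τ j g = θ j)
    (hinvt : ∀ j t, (∀ g, (τ j g).hom t = t) → t ∈ Set.range (θ j).hom) : IsQuot ρ p := by
  refine isQuot_of_quotAt ρ haff hinv ?_
  refine quotAt_of_local hinv (fun U => ∃ j, U ≤ (b j).opensRange) ?_ ?_ ?_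
  · rintro U ⟨j, hU⟩
    have hσT : ∀ g : G, Spec.map (τ j g) ≫ Spec.map (θ j) = Spec.map (θ j) := by
      intro g
      rw [← Spec.map_comp, hfix]
    have htop := quotAt_spec (θ j) (τ j) (hinj j) (hinvt j)
    have hT : ∀ W : (Spec (Bc j)).Opens,
        QuotAt (fun g => Spec.map (τ j g)) (Spec.map (θ j)) W ((Spec.map (θ j)) ⁻¹ᵁ W) :=
      quotAt_of_basicOpen hσT (fun f => quotAt_basicOpen hσT htop f)
    exact quotAt_of_chart (a j) (b j) (Spec.map (θ j)) (fun g => Spec.map (τ j g)) (hab j)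
      (fun g => hτ j g) hinv (hrange j) hT U hU
  · rintro U U' hUU' ⟨j, hU⟩
    exact ⟨j, hUU'.trans hU⟩
  · intro y
    obtain ⟨j, hj⟩ := hcov y
    exact ⟨_, ⟨j, le_rfl⟩, hj⟩

end main

end Groth.Agent.Lib.T2H7.QuotLocA
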