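import Groth.Agent.Lib.T2H7DblCovC
import Groth.Agent.Lib.T2H7QuotLocA
import Mathlib.Data.ZMod.QuotientGroup

/-!
# T2H7: a double cover is the quotient by its canonical involution
-/

set_option autoImplicit false
set_option linter.unusedSectionVars false
set_option linter.unusedVariables false
set_option linter.style.haveILetI false

universe u

namespace Groth.Agent.Lib.T2H7.DblCovD

open CategoryTheory CategoryTheory.Limits AlgebraicGeometry TopologicalSpace Opposite
open Groth.Agent.Lib.T2H7 Groth.Agent.Lib.T2H7.DblCovC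

variable {X Y : Scheme.{u}} {f : X ⟶ Y} [IsFinite f] [Flat f] (hrk : ∀ y : Y, f.finrank y = 2)

attribute [local instance] secAlg

theorem sig_comp : sig hrk ≫ f = f := by
  refine (cover hrk).hom_ext _ _ fun W => ?_
  let W' : FAO f := W
  show (f ⁻¹ᵁ W'.V).ι ≫ sig hrk ≫ f = (f ⁻¹ᵁ W'.V).ι ≫ f
  have hT := W'.aff.preimage f
  rw [← Category.assoc, ι_sig hrk W', Category.assoc, Category.assoc,
    ← IsAffineOpen.SpecMap_appLE_fromSpec f W'.aff hT le_rfl, ← Spec.map_comp_assoc]
  have h1 : f.appLE W'.V (f ⁻¹ᵁ W'.V) le_rfl ≫ CommRingCat.ofHom (sigV W') =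
      f.appLE W'.V (f ⁻¹ᵁ W'.V) le_rfl := by
    rw [← Scheme.Hom.app_eq_appLE]
    ext r
    exact sigV_app W' r
  rw [h1, IsAffineOpen.SpecMap_appLE_fromSpec f W'.aff hT le_rfl, ← Category.assoc,
    hT.toSpecΓ_fromSpec]

theorem sig_sig : sig hrk ≫ sig hrk = 𝟙 X := by
  refine (cover hrk).hom_ext _ _ fun W => ?_
  let W' : FAO f := W
  show (f ⁻¹ᵁ W'.V).ι ≫ sig hrk ≫ sig hrk = (f ⁻¹ᵁ W'.V).ι ≫ 𝟙 X
  have hT := W'.aff.preimage f
  rw [← Category.assoc, ι_sig hrk W', Category.assoc, Category.assoc, fromSpec_sig hrk W']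
  have h1 : CommRingCat.ofHom (sigV W') ≫ CommRingCat.ofHom (sigV W') = 𝟙 _ := by
    ext x
    exact sigV_sigV W' x
  have h2 : Spec.map (CommRingCat.ofHom (sigV W')) ≫ Spec.map (CommRingCat.ofHom (sigV W')) =
      𝟙 _ := by
    rw [← Spec.map_comp, h1]
    exact Spec.map_id _
  rw [reassoc_of% h2, hT.toSpecΓ_fromSpec, Category.comp_id]

/-- the canonical involution as an automorphism -/
noncomputable def sigAut : Aut X := ⟨sig hrk, sig hrk, sig_sig hrk, sig_sig hrk⟩

theorem sigAut_mul : sigAut hrk * sigAut hrk = 1 := by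
  apply Iso.ext
  exact sig_sig hrk

theorem finite_zpowers : Finite (Subgroup.zpowers (sigAut hrk)) := by
  have h : IsOfFinOrder (sigAut hrk) :=
    isOfFinOrder_iff_pow_eq_one.mpr ⟨2, by norm_num, by rw [pow_two, sigAut_mul]⟩
  exact Set.finite_coe_iff.mpr h.finite_zpowers

theorem inv_all (g : Subgroup.zpowers (sigAut hrk)) :
    ((Subgroup.zpowers (sigAut hrk)).subtype g).hom ≫ f = f := by
  let H : Subgroup (Aut X) :=
    { carrier := {g | g.hom ≫ f = f}
      one_mem' := Category.id_comp f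
      mul_mem' := by
        intro a b ha hb
        show (b ≪≫ a).hom ≫ f = f
        rw [Iso.trans_hom, Category.assoc, ha, hb]
      inv_mem' := by
        intro a ha
        show a.symm.hom ≫ f = f
        rw [Iso.symm_hom, Iso.inv_comp_eq]
        exact ha.symm }
  have hle : Subgroup.zpowers (sigAut hrk) ≤ H := by
    rw [Subgroup.zpowers_le]
    exact sig_comp hrk
  exact hle g.2

theorem isUnit_two (h2 : IsUnit (2 : Γ(Y, ⊤))) (V : Y.Opens) : IsUnit (2 : Γ(Y, V)) := by
  have := h2.map (Y.presheaf.map (homOfLE (le_top : V ≤ ⊤)).op).hom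
  rwa [map_ofNat] at this

theorem isQuot (h2 : IsUnit (2 : Γ(Y, ⊤))) :
    SGA1.IsQuot (Subgroup.zpowers (sigAut hrk)).subtype f := by
  haveI := finite_zpowers hrk
  have hinv : ∀ g : Subgroup.zpowers (sigAut hrk),
      ((Subgroup.zpowers (sigAut hrk)).subtype g).hom ≫ f = f := inv_all hrk
  refine QuotLocA.isQuot_of_charts (Subgroup.zpowers (sigAut hrk)).subtype f inferInstance hinv
    (J := FAO f)
    (fun W => Γ(Y, W.V)) (fun W => Γ(X, f ⁻¹ᵁ W.V)) (fun W => f.app W.V)
    (fun W g => ((Subgroup.zpowers (sigAut hrk)).subtype g).hom.appLE (f ⁻¹ᵁ W.V) (f ⁻¹ᵁ W.V)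
      (SGA1.preimage_le_of_inv (Subgroup.zpowers (sigAut hrk)).subtype f hinv g W.V))
    (fun W => (W.aff.preimage f).fromSpec) (fun W => W.aff.fromSpec)
    ?_ ?_ ?_ ?_ ?_ ?_ ?_
  · intro W
    rw [Scheme.Hom.app_eq_appLE]
    exact (IsAffineOpen.SpecMap_appLE_fromSpec f W.aff (W.aff.preimage f) le_rfl).symm
  · intro W g
    exact (IsAffineOpen.SpecMap_appLE_fromSpec _ (W.aff.preimage f) (W.aff.preimage f) _).symm
  · intro W
    rw [IsAffineOpen.opensRange_fromSpec, IsAffineOpen.opensRange_fromSpec]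
  · intro y
    obtain ⟨W, hW⟩ := exists_fao hrk y
    exact ⟨W, by rw [IsAffineOpen.opensRange_fromSpec]; exact hW⟩
  · intro W
    exact DblCovA.algebraMap_injective W.basis.some
  · intro W g
    ext a
    have := Groth.Agent.Lib.Helper20.appLE_invariant
      (σ := fun g : Subgroup.zpowers (sigAut hrk) => ((Subgroup.zpowers (sigAut hrk)).subtype g).hom)
      hinv W.V (f ⁻¹ᵁ W.V) le_rfl g
      (SGA1.preimage_le_of_inv (Subgroup.zpowers (sigAut hrk)).subtype f hinv g W.V) a
    rw [← Scheme.Hom.app_eq_appLE] at this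
    exact this
  · intro W t ht
    have hT := W.aff.preimage f
    let g₀ : Subgroup.zpowers (sigAut hrk) := ⟨sigAut hrk, Subgroup.mem_zpowers _⟩
    have h1 : ((Subgroup.zpowers (sigAut hrk)).subtype g₀).hom.appLE (f ⁻¹ᵁ W.V) (f ⁻¹ᵁ W.V)
        (SGA1.preimage_le_of_inv (Subgroup.zpowers (sigAut hrk)).subtype f hinv g₀ W.V) =
        CommRingCat.ofHom (sigV W) := by
      apply Spec.map_injective
      apply (cancel_mono hT.fromSpec).1
      rw [IsAffineOpen.SpecMap_appLE_fromSpec _ hT hT _]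
      exact fromSpec_sig hrk W
    have h3 : sigV W t = t := by
      have := ht g₀
      rw [h1] at this
      exact this
    exact DblCovA.mem_range_of_conj_eq W.basis.some (isUnit_two h2 W.V) t h3

include hrk in
theorem exists_involution (h2 : IsUnit (2 : Γ(Y, ⊤))) :
    ∃ σ : Aut X, σ.hom ≫ f = f ∧ σ * σ = 1 ∧ SGA1.IsQuot (Subgroup.zpowers σ).subtype f :=
  ⟨sigAut hrk, sig_comp hrk, sigAut_mul hrk, isQuot hrk h2⟩

end Groth.Agent.Lib.T2H7.DblCovD
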