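import Mathlib
import Groth.Prelude.Def_Flat

/-!
# helper7: dimension theory of sober spaces along maps which lift generizations strictly

Let `f : α → β` be a continuous map of sober spaces such that a generization of `a` with the same
image as `a` equals `a` (`hs`) and generizations of `f a` lift to generizations of `a` (`hl`).
Then codimensions of points, Krull dimensions and (for open `f`) local dimensions agree.
-/

set_option autoImplicit false
set_option linter.unusedSectionVars false
set_option linter.unusedVariables false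
set_option linter.style.haveILetI false
universe u
open TopologicalSpace Topology

namespace Groth.Agent.Lib.T2H7.SpecDim

variable {α β : Type*} [TopologicalSpace α] [TopologicalSpace β] [T0Space α] [T0Space β]

section spec

attribute [local instance] specializationOrder

theorem coheight_eq_apply (f : α → β) (hc : Continuous f)
    (hs : ∀ a a' : α, a' ⤳ a → f a' = f a → a' = a)
    (hl : ∀ (a : α) (b : β), b ⤳ f a → ∃ a', a' ⤳ a ∧ f a' = b) (a : α) :
    Order.coheight a = Order.coheight (f a) := by
  refine Order.coheight_eq_of_strictMono f ?_ ?_ a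
  · intro x y hxy
    have hle : f x ≤ f y := Specializes.map (show y ⤳ x from hxy.le) hc
    refine lt_of_le_of_ne hle ?_
    intro h
    exact hxy.ne (hs x y hxy.le h.symm).symm
  · intro x b hb
    obtain ⟨x', hx', rfl⟩ := hl x b hb.le
    refine ⟨x', lt_of_le_of_ne hx' ?_, rfl⟩
    rintro rfl
    exact lt_irrefl _ hb

/-- the Krull dimension of a sober space is the supremum of the codimensions of its points. -/
theorem topologicalKrullDim_eq_iSup [QuasiSober α] :
    topologicalKrullDim α = ⨆ a : α, (Order.coheight a : WithBot ℕ∞) := by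
  rw [topologicalKrullDim, Order.krullDim_eq_of_orderIso (irreducibleSetEquivPoints (α := α)),
    Order.krullDim_eq_iSup_coheight]

/-- the Krull dimension of an open subspace of a sober space. -/
theorem topologicalKrullDim_open_eq_iSup [QuasiSober α] (V : Set α) (hV : IsOpen V) :
    topologicalKrullDim ↥V = ⨆ v : ↥V, (Order.coheight (v : α) : WithBot ℕ∞) := by
  have hemb : IsOpenEmbedding (Subtype.val : ↥V → α) := hV.isOpenEmbedding_subtypeVal
  haveI : QuasiSober ↥V := hemb.quasiSober
  rw [topologicalKrullDim_eq_iSup]
  refine iSup_congr fun v => ?_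
  rw [hemb.coheight_eq]

end spec

/-- the closure of a point as an irreducible closed set. -/
def pt (a : α) : IrreducibleCloseds α :=
  ⟨closure ({a} : Set α), isIrreducible_singleton.closure, isClosed_closure⟩

section

attribute [local instance] specializationOrder

theorem coheight_pt [QuasiSober α] (a : α) : Order.coheight (pt a) = Order.coheight a := by
  have h : pt a = (irreducibleSetEquivPoints (α := α)).symm a := rfl
  rw [h, Order.coheight_orderIso]

end

/-- an irreducible closed set is the closure of its generic point. -/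
theorem eq_pt_of_isGenericPoint (T : IrreducibleCloseds α) (ξ : α)
    (hξ : IsGenericPoint ξ (T : Set α)) : T = pt ξ :=
  IrreducibleCloseds.ext hξ.def.symm

variable [QuasiSober α] [QuasiSober β]

/-- **codimensions agree.** -/
theorem coheight_pt_eq (f : α → β) (hc : Continuous f)
    (hs : ∀ a a' : α, a' ⤳ a → f a' = f a → a' = a)
    (hl : ∀ (a : α) (b : β), b ⤳ f a → ∃ a', a' ⤳ a ∧ f a' = b) (a : α) :
    Order.coheight (pt a) = Order.coheight (pt (f a)) := by
  rw [coheight_pt, coheight_pt]
  exact coheight_eq_apply f hc hs hl a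

/-- **Krull dimensions compare.** -/
theorem topologicalKrullDim_le (f : α → β) (hc : Continuous f)
    (hs : ∀ a a' : α, a' ⤳ a → f a' = f a → a' = a)
    (hl : ∀ (a : α) (b : β), b ⤳ f a → ∃ a', a' ⤳ a ∧ f a' = b) :
    topologicalKrullDim α ≤ topologicalKrullDim β := by
  rw [topologicalKrullDim_eq_iSup, topologicalKrullDim_eq_iSup]
  refine iSup_le fun a => ?_
  rw [coheight_eq_apply f hc hs hl a]
  exact le_iSup (fun b : β => ((@Order.coheight β (specializationPreorder β) b : ℕ∞) : WithBot ℕ∞))
    (f a)

/-- **Krull dimensions agree for surjective maps.** -/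
theorem topologicalKrullDim_eq (f : α → β) (hc : Continuous f)
    (hs : ∀ a a' : α, a' ⤳ a → f a' = f a → a' = a)
    (hl : ∀ (a : α) (b : β), b ⤳ f a → ∃ a', a' ⤳ a ∧ f a' = b) (hsurj : Function.Surjective f) :
    topologicalKrullDim α = topologicalKrullDim β := by
  refine le_antisymm (topologicalKrullDim_le f hc hs hl) ?_
  rw [topologicalKrullDim_eq_iSup, topologicalKrullDim_eq_iSup]
  refine iSup_le fun b => ?_
  obtain ⟨a, rfl⟩ := hsurj b
  rw [← coheight_eq_apply f hc hs hl a]
  exact le_iSup (fun a : α => ((@Order.coheight α (specializationPreorder α) a : ℕ∞) : WithBot ℕ∞))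
    a

/-- **local dimensions agree for open maps.** -/
theorem localDim_eq (f : α → β) (hc : Continuous f) (ho : IsOpenMap f)
    (hs : ∀ a a' : α, a' ⤳ a → f a' = f a → a' = a)
    (hl : ∀ (a : α) (b : β), b ⤳ f a → ∃ a', a' ⤳ a ∧ f a' = b) (a : α) :
    FlatMor.localDim α a = FlatMor.localDim β (f a) := by
  unfold FlatMor.localDim
  apply le_antisymm
  · refine le_iInf fun W => ?_
    let V : {U : Opens α // a ∈ U} := ⟨⟨f ⁻¹' (W.1 : Set β), W.1.2.preimage hc⟩, W.2⟩
    refine (iInf_le _ V).trans ?_
    rw [topologicalKrullDim_open_eq_iSup (V.1 : Set α) V.1.isOpen,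
      topologicalKrullDim_open_eq_iSup (W.1 : Set β) W.1.isOpen]
    refine iSup_le fun v => ?_
    rw [coheight_eq_apply f hc hs hl v.1]
    exact le_iSup (fun w : ↥(W.1 : Set β) =>
      ((@Order.coheight β (specializationPreorder β) (w : β) : ℕ∞) : WithBot ℕ∞)) ⟨f v.1, v.2⟩
  · refine le_iInf fun V => ?_
    let W : {U : Opens β // f a ∈ U} := ⟨⟨f '' (V.1 : Set α), ho _ V.1.2⟩, ⟨a, V.2, rfl⟩⟩
    refine (iInf_le _ W).trans ?_
    rw [topologicalKrullDim_open_eq_iSup (V.1 : Set α) V.1.isOpen,
      topologicalKrullDim_open_eq_iSup (W.1 : Set β) W.1.isOpen]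
    refine iSup_le fun w => ?_
    obtain ⟨v, hv, hvw⟩ := w.2
    have : (w : β) = f v := hvw.symm
    rw [this, ← coheight_eq_apply f hc hs hl v]
    exact le_iSup (fun v : ↥(V.1 : Set α) =>
      ((@Order.coheight α (specializationPreorder α) (v : α) : ℕ∞) : WithBot ℕ∞)) ⟨v, hv⟩

end Groth.Agent.Lib.T2H7.SpecDim
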