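import Mathlib
import Groth.Prelude.Def_Grpd

/-!
# helper7: the groupoid scheme of an equivalence relation `(t, s) : R ⟶ U ×_S U`

Given `s t : R ⟶ U` jointly monic, together with morphisms `e`, `i`, `c` witnessing reflexivity,
symmetry and transitivity, all groupoid axioms hold automatically.
-/

set_option autoImplicit false
set_option linter.unusedSectionVars false
set_option linter.unusedVariables false
set_option linter.style.haveILetI false
universe u
open CategoryTheory CategoryTheory.Limits AlgebraicGeometry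
open Grpd

namespace Groth.Agent.Lib.T2H7.EqvGrpd

variable {S : Scheme.{u}} {U R : Scheme.{u}} (pU : U ⟶ S) (s t : R ⟶ U)
  (hst : s ≫ pU = t ≫ pU)
  (hjm : ∀ {T : Scheme.{u}} (f g : T ⟶ R), f ≫ t = g ≫ t → f ≫ s = g ≫ s → f = g)
  (e : U ⟶ R) (he_s : e ≫ s = 𝟙 U) (he_t : e ≫ t = 𝟙 U)
  (i : R ⟶ R) (hi_s : i ≫ s = t) (hi_t : i ≫ t = s)
  (c : pullback s t ⟶ R) (hc_s : c ≫ s = pullback.snd s t ≫ s)
  (hc_t : c ≫ t = pullback.fst s t ≫ t)

include hc_t in
theorem lct {T : Scheme.{u}} (α β : T ⟶ R) (h : α ≫ s = β ≫ t) :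
    (pullback.lift α β h ≫ c) ≫ t = α ≫ t := by
  rw [Category.assoc, hc_t, ← Category.assoc, pullback.lift_fst]

include hc_s in
theorem lcs {T : Scheme.{u}} (α β : T ⟶ R) (h : α ≫ s = β ≫ t) :
    (pullback.lift α β h ≫ c) ≫ s = β ≫ s := by
  rw [Category.assoc, hc_s, ← Category.assoc, pullback.lift_snd]

/-- the groupoid scheme of an equivalence relation. -/
noncomputable def ofEqv : Grpd.GroupoidScheme S where
  U := U
  R := R
  pU := pU
  pR := s ≫ pU
  s := s
  t := t
  e := e
  i := i
  c := c
  s_over := rfl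
  t_over := hst.symm
  comp_s α β h := lcs s t c hc_s α β h
  comp_t α β h := lct s t c hc_t α β h
  assoc α β γ h₁ h₂ := by
    apply hjm
    · exact (lct s t c hc_t _ _ _).trans ((lct s t c hc_t α β h₁).trans
        (lct s t c hc_t _ _ _).symm)
    · exact (lcs s t c hc_s _ _ _).trans (((lcs s t c hc_s β γ h₂).symm).trans
        (lcs s t c hc_s _ _ _).symm)
  e_s := he_s
  e_t := he_t
  comp_e α := by
    apply hjm
    · exact lct s t c hc_t _ _ _
    · refine (lcs s t c hc_s _ _ _).trans ?_
      rw [Category.assoc, Category.assoc, he_s, Category.comp_id]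
  e_comp α := by
    apply hjm
    · refine (lct s t c hc_t _ _ _).trans ?_
      rw [Category.assoc, Category.assoc, he_t, Category.comp_id]
    · exact lcs s t c hc_s _ _ _
  i_s := hi_s
  i_t := hi_t
  comp_i α := by
    apply hjm
    · refine (lct s t c hc_t _ _ _).trans ?_
      rw [Category.assoc, Category.assoc, he_t, Category.comp_id]
    · refine (lcs s t c hc_s _ _ _).trans ?_
      rw [Category.assoc, hi_s, Category.assoc, Category.assoc, he_s, Category.comp_id]
  i_comp α := by
    apply hjm
    · refine (lct s t c hc_t _ _ _).trans ?_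
      rw [Category.assoc, hi_t, Category.assoc, Category.assoc, he_t, Category.comp_id]
    · refine (lcs s t c hc_s _ _ _).trans ?_
      rw [Category.assoc, Category.assoc, he_s, Category.comp_id]

theorem mono_j : Mono (ofEqv pU s t hst hjm e he_s he_t i hi_s hi_t c hc_s hc_t).j := by
  constructor
  intro T f g h
  have h1 := congrArg (fun m => m ≫ pullback.fst _ _) h
  have h2 := congrArg (fun m => m ≫ pullback.snd _ _) h
  simp only [Grpd.GroupoidScheme.j, Category.assoc, pullback.lift_fst, pullback.lift_snd] at h1 h2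
  exact hjm f g h1 h2

end Groth.Agent.Lib.T2H7.EqvGrpd
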