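import Mathlib
import Groth.Agent.Lib.Helper2RetCharpoly

/-!
# A norm for endomorphisms of finite projective modules via retracts (helper7)

For a retract `r : Ret R S n` (`S ⊕ Q ≅ R^n`) and `m : S →ₗ[R] S`, `nm r m = det (m ⊕ 1_Q)`,
defined as the value at `1` of the retract characteristic polynomial of `1 - m`.  It is independent
of the retract, compatible with base change, and a unit iff `m` is bijective.
-/

set_option autoImplicit false
set_option linter.style.haveILetI false
set_option linter.unusedSectionVars false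
universe u

open CategoryTheory CategoryTheory.Limits TensorProduct Polynomial
open Groth.Agent.Lib.Helper2.RetCharpoly

namespace Groth.Agent.Lib.T2H7.GrpdNorm

section Mod
variable {R S : Type*} [CommRing R] [AddCommGroup S] [Module R S] {n : ℕ}

/-- `det (m ⊕ 1)` -/
noncomputable def nm (r : Ret R S n) (m : S →ₗ[R] S) : R := (r.cp (1 - m)).eval 1

theorem nm_eq (r1 r2 : Ret R S n) (m : S →ₗ[R] S) : nm r1 m = nm r2 m := by
  unfold nm
  rw [Ret.cp_eq r1 r2]

/-- `1 - i p + i m p` -/
def ext (r : Ret R S n) (m : S →ₗ[R] S) : (Fin n → R) →ₗ[R] (Fin n → R) :=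
  LinearMap.id - r.i ∘ₗ r.p + r.endo m

theorem ext_eq (r : Ret R S n) (m : S →ₗ[R] S) : ext r m = 1 - r.endo (1 - m) := by
  ext v j
  simp only [ext, Ret.endo, LinearMap.coe_comp, LinearMap.coe_single, Function.comp_apply,
    LinearMap.add_apply, LinearMap.sub_apply, LinearMap.id_coe, id_eq, Pi.add_apply, Pi.sub_apply,
    Module.End.one_apply, map_sub]
  ring

theorem nm_eq_det (r : Ret R S n) (m : S →ₗ[R] S) : nm r m = LinearMap.det (ext r m) := by
  unfold nm Ret.cp
  rw [Matrix.eval_charpoly, ← LinearMap.det_toMatrix', ext_eq]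
  congr 1
  rw [map_sub]
  congr 1
  simp

theorem ext_apply_i (r : Ret R S n) (m : S →ₗ[R] S) (x : S) : ext r m (r.i x) = r.i (m x) := by
  simp [ext, Ret.endo, r.pi_apply]

theorem p_ext (r : Ret R S n) (m : S →ₗ[R] S) (v : Fin n → R) : r.p (ext r m v) = m (r.p v) := by
  simp [ext, Ret.endo, r.pi_apply]

theorem ext_mul (r : Ret R S n) (m m' : S →ₗ[R] S) : ext r m ∘ₗ ext r m' = ext r (m ∘ₗ m') := by
  ext v j
  simp [ext, Ret.endo, r.pi_apply]

theorem ext_one (r : Ret R S n) : ext r (LinearMap.id) = LinearMap.id := by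
  ext v j
  simp [ext, Ret.endo]

theorem bijective_ext_iff (r : Ret R S n) (m : S →ₗ[R] S) :
    Function.Bijective (ext r m) ↔ Function.Bijective m := by
  constructor
  · intro h
    constructor
    · intro x y hxy
      have : ext r m (r.i x) = ext r m (r.i y) := by rw [ext_apply_i, ext_apply_i, hxy]
      have h2 := h.1 this
      have := congrArg r.p h2
      rwa [r.pi_apply, r.pi_apply] at this
    · intro y
      obtain ⟨v, hv⟩ := h.2 (r.i y)
      refine ⟨r.p v, ?_⟩
      rw [← p_ext, hv, r.pi_apply]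
  · intro h
    let e := LinearEquiv.ofBijective m h
    have h1 : ext r m ∘ₗ ext r e.symm.toLinearMap = LinearMap.id := by
      rw [ext_mul]
      have : m ∘ₗ e.symm.toLinearMap = LinearMap.id := by
        ext x
        exact e.apply_symm_apply x
      rw [this, ext_one]
    have h2 : ext r e.symm.toLinearMap ∘ₗ ext r m = LinearMap.id := by
      rw [ext_mul]
      have : e.symm.toLinearMap ∘ₗ m = LinearMap.id := by
        ext x
        exact e.symm_apply_apply x
      rw [this, ext_one]
    refine Function.bijective_iff_has_inverse.mpr ⟨ext r e.symm.toLinearMap, ?_, ?_⟩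
    · intro v
      exact LinearMap.congr_fun h2 v
    · intro v
      exact LinearMap.congr_fun h1 v

theorem isUnit_nm_iff (r : Ret R S n) (m : S →ₗ[R] S) :
    IsUnit (nm r m) ↔ Function.Bijective m := by
  rw [nm_eq_det, ← LinearMap.isUnit_iff_isUnit_det, Module.End.isUnit_iff, bijective_ext_iff]

end Mod

section Alg

/-- `ν` is the norm of `b` (determinant of multiplication by `b` on the finite projective `R`-module
`S`), computed from a retract of `R^n`. -/
def IsNM (R S : Type*) [CommRing R] [CommRing S] [Algebra R S] (n : ℕ) (b : S) (ν : R) : Prop :=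
  ∃ r : Ret R S n, ν = nm r (Algebra.lmul R S b)

variable {R S : Type*} [CommRing R] [CommRing S] [Algebra R S] {n : ℕ} {b : S} {ν ν' : R}

theorem isNM_iff : IsNM R S n b ν ↔ ∃ χ, IsRCP R S n (1 - b) χ ∧ ν = χ.eval 1 := by
  constructor
  · rintro ⟨r, rfl⟩
    refine ⟨_, ⟨r, rfl⟩, ?_⟩
    unfold nm
    rw [map_sub, map_one]
  · rintro ⟨χ, ⟨r, rfl⟩, rfl⟩
    refine ⟨r, ?_⟩
    unfold nm
    rw [map_sub, map_one]

namespace IsNM

theorem unique (h1 : IsNM R S n b ν) (h2 : IsNM R S n b ν') : ν = ν' := by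
  obtain ⟨r1, rfl⟩ := h1
  obtain ⟨r2, rfl⟩ := h2
  exact nm_eq r1 r2 _

theorem isUnit_iff (h : IsNM R S n b ν) : IsUnit ν ↔ IsUnit b := by
  obtain ⟨r, rfl⟩ := h
  rw [isUnit_nm_iff]
  constructor
  · intro hb
    obtain ⟨x, hx⟩ := hb.2 1
    exact IsUnit.of_mul_eq_one x (by simpa using hx)
  · intro hb
    obtain ⟨u, rfl⟩ := hb
    refine Function.bijective_iff_has_inverse.mpr ⟨fun x => (↑u⁻¹ : S) * x, ?_, ?_⟩
    · intro x
      simp
    · intro x
      simp

theorem bc {T P : Type*} [CommRing T] [CommRing P] [Algebra R T] [Algebra S P] [Algebra T P]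
    [Algebra R P] [IsScalarTower R S P] [IsScalarTower R T P] [Algebra.IsPushout R T S P]
    (h : IsNM R S n b ν) : IsNM T P n (algebraMap S P b) (algebraMap R T ν) := by
  rw [isNM_iff] at h ⊢
  obtain ⟨χ, hχ, rfl⟩ := h
  refine ⟨_, ?_, (Polynomial.eval_one_map (algebraMap R T) χ).symm⟩
  have := hχ.bc (T := T) (P := P)
  rwa [map_sub, map_one] at this

end IsNM

theorem exists_isNM (R S : Type*) [CommRing R] [CommRing S] [Algebra R S] [Module.Finite R S]
    [Module.Projective R S] : ∃ n, ∀ b : S, ∃ ν, IsNM R S n b ν := by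
  obtain ⟨n, ⟨r⟩⟩ := exists_ret R S
  exact ⟨n, fun b => ⟨_, r, rfl⟩⟩

end Alg

end Groth.Agent.Lib.T2H7.GrpdNorm
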