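import Mathlib
import Groth.Agent.Lib.Helper2RetCharpoly
import Groth.Agent.Lib.T2H7GrpdNorm

/-!
# Affine groupoids with finite locally free source map, algebraically (helper7)

`AG A B P` records the ring-level data of an affine groupoid scheme `(U, R, s, t, c)` with
`A = Γ(U)`, `B = Γ(R)`, `P = Γ(R ×_{s,U,t} R)`, together with the two pushout squares
`(σ, τ; p0, p1)` and `(σ, σ; γ, p1)` and finite projectivity of `B` over `A` along `σ`.
We prove: invariance of characteristic polynomials / norms, integrality of `A` over the invariants,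
and that the fibres of `Spec A → Spec C` are the orbits.
-/

set_option autoImplicit false
set_option linter.style.haveILetI false
set_option linter.unusedSectionVars false
set_option backward.isDefEq.respectTransparency false
universe u

open CategoryTheory CategoryTheory.Limits TensorProduct Polynomial AlgebraicGeometry
open Groth.Agent.Lib.Helper2.RetCharpoly Groth.Agent.Lib.T2H7.GrpdNorm

namespace Groth.Agent.Lib.T2H7.GrpdAlg

/-! ### The norm and primes -/

section NormPrime
attribute [local instance] Algebra.TensorProduct.rightAlgebra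
variable {R S : Type u} [CommRing R] [CommRing S] [Algebra R S] {n : ℕ} {b : S} {ν : R}

theorem isNM_mem_iff (h : IsNM R S n b ν) (p : Ideal R) [p.IsPrime] :
    ν ∈ p ↔ ∃ q : PrimeSpectrum S, q.asIdeal.comap (algebraMap R S) = p ∧ b ∈ q.asIdeal := by
  have hbc : IsNM p.ResidueField (p.Fiber S) n (algebraMap S (p.Fiber S) b)
      (algebraMap R p.ResidueField ν) := h.bc
  have hb : algebraMap S (p.Fiber S) b = 1 ⊗ₜ b := rfl
  rw [hb] at hbc
  have hu := hbc.isUnit_iff
  let e := PrimeSpectrum.preimageEquivFiber R S ⟨p, inferInstance⟩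
  rw [← Ideal.algebraMap_residueField_eq_zero (I := p), ← not_iff_not, ← ne_eq,
    ← isUnit_iff_ne_zero, hu]
  constructor
  · rintro hunit ⟨q, hq, hbq⟩
    let Q := e ⟨q, PrimeSpectrum.ext hq⟩
    have h1 : e.symm Q = ⟨q, PrimeSpectrum.ext hq⟩ := e.symm_apply_apply _
    have h2 : q.asIdeal = Q.asIdeal.comap Algebra.TensorProduct.includeRight.toRingHom := by
      have := congrArg (fun z => z.1.asIdeal) h1
      exact this.symm
    rw [h2] at hbq
    have h3 : (1 : p.ResidueField) ⊗ₜ[R] b ∈ Q.asIdeal := hbq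
    exact Q.2.ne_top (Ideal.eq_top_of_isUnit_mem _ h3 hunit)
  · intro hno
    by_contra hnu
    obtain ⟨M, hM, hbM⟩ := exists_max_ideal_of_mem_nonunits hnu
    let Q : PrimeSpectrum (p.Fiber S) := ⟨M, hM.isPrime⟩
    refine hno ⟨(e.symm Q).1, ?_, ?_⟩
    · have := (e.symm Q).2
      exact congrArg PrimeSpectrum.asIdeal this
    · show (1 : p.ResidueField) ⊗ₜ[R] b ∈ M
      exact hbM

end NormPrime

/-! ### The structure -/

/-- Ring-level data of an affine groupoid with finite locally free source. -/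
structure AG (A B P : Type u) [CommRing A] [CommRing B] [CommRing P] where
  σ : A →+* B
  τ : A →+* B
  ε : B →+* A
  ι : B →+* B
  p0 : B →+* P
  p1 : B →+* P
  γ : B →+* P
  εσ : ∀ a, ε (σ a) = a
  ετ : ∀ a, ε (τ a) = a
  ισ : ∀ a, ι (σ a) = τ a
  ιτ : ∀ a, ι (τ a) = σ a
  γτ : ∀ a, γ (τ a) = p0 (τ a)
  po1 : IsPushout (CommRingCat.ofHom σ) (CommRingCat.ofHom τ) (CommRingCat.ofHom p0)
    (CommRingCat.ofHom p1)
  po2 : IsPushout (CommRingCat.ofHom σ) (CommRingCat.ofHom σ) (CommRingCat.ofHom γ)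
    (CommRingCat.ofHom p1)
  fin : σ.Finite
  flat : σ.Flat
  fp : σ.FinitePresentation

namespace AG
variable {A B P : Type u} [CommRing A] [CommRing B] [CommRing P] (g : AG A B P)

theorem mfin : letI := g.σ.toAlgebra; Module.Finite A B := g.fin

theorem proj : letI := g.σ.toAlgebra; Module.Projective A B := by
  letI := g.σ.toAlgebra
  have hfin : Module.Finite A B := g.fin
  have hflat : Module.Flat A B := g.flat
  have hfp : Algebra.FinitePresentation A B := g.fp
  have : Module.FinitePresentation A B :=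
    Module.FinitePresentation.of_finite_of_finitePresentation _ _
  exact Module.Flat.projective_of_finitePresentation

theorem p0σ (a : A) : g.p0 (g.σ a) = g.p1 (g.τ a) := by
  have := congrArg (fun φ => φ.hom a) g.po1.w
  simpa using this

theorem γσ (a : A) : g.γ (g.σ a) = g.p1 (g.σ a) := by
  have := congrArg (fun φ => φ.hom a) g.po2.w
  simpa using this

/-- the invariants -/
def C : Subring A := RingHom.eqLocus g.σ g.τ

theorem mem_C {a : A} : a ∈ g.C ↔ g.σ a = g.τ a := Iff.rfl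

theorem σ_injective : Function.Injective g.σ := fun a b h => by
  rw [← g.εσ a, ← g.εσ b, h]

theorem τ_injective : Function.Injective g.τ := fun a b h => by
  rw [← g.ετ a, ← g.ετ b, h]

/-- invariance of the retract characteristic polynomial of `τ f` -/
theorem rcp_inv (n : ℕ) (f : A) (χ : A[X])
    (hχ : letI := g.σ.toAlgebra; IsRCP A B n (g.τ f) χ) : χ.map g.σ = χ.map g.τ := by
  have e1 := isRCP_cat g.po1 n (g.τ f) χ hχ
  have e2 := isRCP_cat g.po2 n (g.τ f) χ hχ
  have hc : (CommRingCat.ofHom g.γ).hom (g.τ f) = (CommRingCat.ofHom g.p0).hom (g.τ f) := g.γτ f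
  rw [hc] at e2
  letI := (CommRingCat.ofHom g.p1).hom.toAlgebra
  exact IsRCP.unique e2 e1

theorem rcp_coeff_mem (n : ℕ) (f : A) (χ : A[X])
    (hχ : letI := g.σ.toAlgebra; IsRCP A B n (g.τ f) χ) (k : ℕ) : χ.coeff k ∈ g.C := by
  have := congrArg (fun q => q.coeff k) (g.rcp_inv n f χ hχ)
  simp only [Polynomial.coeff_map] at this
  exact this

/-- invariance of the norm of `τ f` -/
theorem nm_mem (n : ℕ) (f : A) (ν : A)
    (hν : letI := g.σ.toAlgebra; IsNM A B n (g.τ f) ν) : ν ∈ g.C := by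
  letI := g.σ.toAlgebra
  rw [isNM_iff] at hν
  obtain ⟨χ, hχ, rfl⟩ := hν
  have h1 : (1 : B) - g.τ f = g.τ (1 - f) := by rw [map_sub, map_one]
  rw [h1] at hχ
  have := g.rcp_inv n (1 - f) χ hχ
  show g.σ (χ.eval 1) = g.τ (χ.eval 1)
  rw [← Polynomial.eval_one_map, ← Polynomial.eval_one_map, this]

theorem exists_nm : ∃ n, ∀ f : A, ∃ ν, (letI := g.σ.toAlgebra; IsNM A B n (g.τ f) ν) := by
  letI := g.σ.toAlgebra
  have := g.mfin
  have := g.proj
  obtain ⟨n, hn⟩ := exists_isNM A B
  exact ⟨n, fun f => hn _⟩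

theorem isIntegral : Algebra.IsIntegral g.C A := by
  letI := g.σ.toAlgebra
  have := g.mfin
  have := g.proj
  obtain ⟨n, hn⟩ := exists_isRCP A B
  constructor
  intro f
  obtain ⟨χ, hχ⟩ := hn (g.τ f)
  have hcoef := g.rcp_coeff_mem n f χ hχ
  have h0 : aeval (g.τ f) χ = 0 := hχ.aeval_eq_zero
  have hmonic : χ.Monic := hχ.monic
  have h1 : eval₂ (RingHom.id _) f χ = 0 := by
    have h2 : eval₂ g.σ (g.τ f) χ = 0 := h0
    have h3 := congrArg g.ε h2
    rw [Polynomial.hom_eval₂, map_zero, g.ετ] at h3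
    have h4 : g.ε.comp g.σ = RingHom.id _ := RingHom.ext g.εσ
    rwa [h4] at h3
  have hsub : (↑χ.coeffs : Set A) ⊆ g.C := by
    intro a ha
    obtain ⟨k, -, rfl⟩ := Polynomial.mem_coeffs_iff.mp ha
    exact hcoef k
  refine ⟨χ.toSubring g.C hsub, (Polynomial.monic_toSubring _ _ _).mpr hmonic, ?_⟩
  have h5 : (χ.toSubring g.C hsub).map (Subring.subtype g.C) = χ :=
    Polynomial.map_toSubring _ _ _
  rw [← h5, Polynomial.eval₂_map] at h1
  exact h1

/-! ### Orbits -/

/-- `x` and `y` are target and source of a point of `Spec B`. -/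
def Rel (x y : PrimeSpectrum A) : Prop :=
  ∃ q : PrimeSpectrum B, PrimeSpectrum.comap g.τ q = x ∧ PrimeSpectrum.comap g.σ q = y

theorem rel_refl (x : PrimeSpectrum A) : g.Rel x x := by
  refine ⟨PrimeSpectrum.comap g.ε x, ?_, ?_⟩
  · rw [← PrimeSpectrum.comap_comp_apply]
    have : g.ε.comp g.τ = RingHom.id _ := RingHom.ext g.ετ
    rw [this]; rfl
  · rw [← PrimeSpectrum.comap_comp_apply]
    have : g.ε.comp g.σ = RingHom.id _ := RingHom.ext g.εσ
    rw [this]; rfl

theorem rel_symm {x y : PrimeSpectrum A} (h : g.Rel x y) : g.Rel y x := by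
  obtain ⟨q, rfl, rfl⟩ := h
  refine ⟨PrimeSpectrum.comap g.ι q, ?_, ?_⟩
  · rw [← PrimeSpectrum.comap_comp_apply]
    have : g.ι.comp g.τ = g.σ := RingHom.ext g.ιτ
    rw [this]
  · rw [← PrimeSpectrum.comap_comp_apply]
    have : g.ι.comp g.σ = g.τ := RingHom.ext g.ισ
    rw [this]

theorem exists_prime_P (q1 q2 : PrimeSpectrum B)
    (h : PrimeSpectrum.comap g.σ q1 = PrimeSpectrum.comap g.τ q2) :
    ∃ Q : PrimeSpectrum P, PrimeSpectrum.comap g.p0 Q = q1 ∧ PrimeSpectrum.comap g.p1 Q = q2 := by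
  have hpb := isPullback_SpecMap_of_isPushout _ _ _ _ g.po1
  obtain ⟨z, hz1, hz2⟩ := Scheme.exists_preimage_of_isPullback hpb q1 q2 h
  exact ⟨z, hz1, hz2⟩

theorem rel_trans {x y z : PrimeSpectrum A} (h1 : g.Rel x y) (h2 : g.Rel y z) : g.Rel x z := by
  obtain ⟨q1, rfl, hq1⟩ := h1
  obtain ⟨q2, hq2, rfl⟩ := h2
  obtain ⟨Q, hQ1, hQ2⟩ := g.exists_prime_P q1 q2 (hq1.trans hq2.symm)
  refine ⟨PrimeSpectrum.comap g.γ Q, ?_, ?_⟩
  · rw [← hQ1, ← PrimeSpectrum.comap_comp_apply, ← PrimeSpectrum.comap_comp_apply]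
    congr 1
    exact RingHom.ext g.γτ
  · rw [← hQ2, ← PrimeSpectrum.comap_comp_apply, ← PrimeSpectrum.comap_comp_apply]
    congr 1
    exact RingHom.ext g.γσ

theorem comap_eq_of_rel {x y : PrimeSpectrum A} (h : g.Rel x y) :
    PrimeSpectrum.comap g.C.subtype x = PrimeSpectrum.comap g.C.subtype y := by
  obtain ⟨q, rfl, rfl⟩ := h
  ext c
  simp only [PrimeSpectrum.comap_asIdeal, Ideal.mem_comap, Subring.subtype_apply]
  rw [show g.τ (c : A) = g.σ c from c.2.symm]

theorem finite_orbit (y : PrimeSpectrum A) : {x | g.Rel x y}.Finite := by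
  letI := g.σ.toAlgebra
  have := g.mfin
  have hfin := Algebra.QuasiFinite.finite_comap_preimage_singleton (R := A) (S := B) y
  refine (hfin.image (PrimeSpectrum.comap g.τ)).subset ?_
  rintro x ⟨q, rfl, hq⟩
  exact ⟨q, hq, rfl⟩

/-- the fibres of `Spec A → Spec C` are the orbits -/
theorem rel_of_comap_eq {x y : PrimeSpectrum A}
    (h : PrimeSpectrum.comap g.C.subtype x = PrimeSpectrum.comap g.C.subtype y) : g.Rel x y := by
  by_contra hxy
  have := g.isIntegral
  have hfin := g.finite_orbit y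
  -- prime avoidance
  have hav : ¬ ((x.asIdeal : Set A) ⊆ ⋃ z ∈ (↑hfin.toFinset : Set (PrimeSpectrum A)), (z.asIdeal : Set A)) := by
    rw [Ideal.subset_union_prime (R := A) (s := hfin.toFinset) (f := fun z => z.asIdeal)
      x x (fun z _ _ _ => z.2)]
    rintro ⟨z, hz, hxz⟩
    rw [Set.Finite.mem_toFinset] at hz
    have hzy : PrimeSpectrum.comap g.C.subtype z = PrimeSpectrum.comap g.C.subtype y :=
      g.comap_eq_of_rel hz
    have hxz' : x = z := by
      by_contra hne
      have hlt : x.asIdeal < z.asIdeal := lt_of_le_of_ne hxz (fun e => hne (PrimeSpectrum.ext e))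
      have := Ideal.IsIntegral.comap_lt_comap (R := g.C) hlt
      have e1 : x.asIdeal.comap (algebraMap g.C A) = z.asIdeal.comap (algebraMap g.C A) := by
        have := congrArg PrimeSpectrum.asIdeal (h.trans hzy.symm)
        exact this
      rw [e1] at this
      exact lt_irrefl _ this
    exact hxy (hxz' ▸ hz)
  rw [Set.not_subset] at hav
  obtain ⟨f, hfx, hfz⟩ := hav
  obtain ⟨n, hn⟩ := g.exists_nm
  obtain ⟨ν, hν⟩ := hn f
  have hνC := g.nm_mem n f ν hν
  letI := g.σ.toAlgebra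
  -- ν ∈ x
  have h1 : ν ∈ x.asIdeal := by
    rw [isNM_mem_iff hν x.asIdeal]
    refine ⟨PrimeSpectrum.comap g.ε x, ?_, ?_⟩
    · ext a
      show g.ε (g.σ a) ∈ x.asIdeal ↔ _
      rw [g.εσ]
    · show g.ε (g.τ f) ∈ x.asIdeal
      rwa [g.ετ]
  -- ν ∉ y
  have h2 : ν ∉ y.asIdeal := by
    rw [isNM_mem_iff hν y.asIdeal]
    rintro ⟨q, hq, hfq⟩
    apply hfz
    simp only [Set.mem_iUnion]
    refine ⟨PrimeSpectrum.comap g.τ q, ?_, hfq⟩
    rw [Finset.mem_coe, Set.Finite.mem_toFinset]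
    exact ⟨q, rfl, PrimeSpectrum.ext hq⟩
  have h3 : (⟨ν, hνC⟩ : g.C) ∈ (PrimeSpectrum.comap g.C.subtype x).asIdeal := h1
  rw [h] at h3
  exact h2 h3

theorem comap_eq_iff_rel {x y : PrimeSpectrum A} :
    PrimeSpectrum.comap g.C.subtype x = PrimeSpectrum.comap g.C.subtype y ↔ g.Rel x y :=
  ⟨g.rel_of_comap_eq, g.comap_eq_of_rel⟩

theorem comap_surjective : Function.Surjective (PrimeSpectrum.comap g.C.subtype) := by
  intro p
  have := g.isIntegral
  obtain ⟨Q, -, hQ, hQp⟩ := Ideal.exists_ideal_over_prime_of_isIntegral (R := g.C) (S := A)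
    p.asIdeal (⊥ : Ideal A) (by
      intro c hc
      have : (c : A) = 0 := hc
      have : c = 0 := Subtype.ext this
      rw [this]; exact Ideal.zero_mem _)
  exact ⟨⟨Q, hQ⟩, PrimeSpectrum.ext hQp⟩

/-- for an invariant `c`, the norm of `τ c` lies in a prime iff `c` does -/
theorem nm_mem_prime_iff_of_mem_C (n : ℕ) (c : A) (hc : c ∈ g.C) (ν : A)
    (hν : letI := g.σ.toAlgebra; IsNM A B n (g.τ c) ν) (p : Ideal A) [p.IsPrime] :
    ν ∈ p ↔ c ∈ p := by
  letI := g.σ.toAlgebra
  rw [isNM_mem_iff hν p]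
  constructor
  · rintro ⟨q, hq, hcq⟩
    rw [← hq]
    show g.σ c ∈ q.asIdeal
    rw [show g.σ c = g.τ c from hc]
    exact hcq
  · intro hcp
    refine ⟨PrimeSpectrum.comap g.ε ⟨p, inferInstance⟩, ?_, ?_⟩
    · ext a
      show g.ε (g.σ a) ∈ p ↔ _
      rw [g.εσ]
    · show g.ε (g.τ c) ∈ p
      rwa [g.ετ]

/-! ### The canonical linear structure over the invariants -/

/-- `B` as an algebra over the invariants -/
@[reducible] def algB : Algebra g.C B := (g.σ.comp g.C.subtype).toAlgebra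

/-- `P` as an algebra over the invariants -/
@[reducible] def algP : Algebra g.C P := (g.p1.comp (g.σ.comp g.C.subtype)).toAlgebra

end AG

end Groth.Agent.Lib.T2H7.GrpdAlg
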