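import Mathlib
import Groth.Prelude.Def_Grpd
import Groth.Agent.Lib.Helper2Grpd
import Groth.Agent.S1880
import Groth.Agent.Lib.T2H7GrpdAlg

/-!
# From affine groupoid schemes to ring-level groupoids (helper7)
-/

set_option autoImplicit false
set_option linter.style.haveILetI false
set_option linter.unusedSectionVars false
set_option backward.isDefEq.respectTransparency false
universe u

open CategoryTheory CategoryTheory.Limits AlgebraicGeometry
open Groth.Agent.Lib.T2H7.GrpdAlg

namespace Groth.Agent.Lib.T2H7.GrpdBridge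

variable {S : Scheme.{u}} (G : Grpd.GroupoidScheme S)

/-- the ring-level groupoid of an affine groupoid scheme with finite locally free source -/
noncomputable def toAG [IsAffine G.U] [IsAffine G.R] [IsFinite G.s] [Flat G.s]
    [LocallyOfFinitePresentation G.s] : AG Γ(G.U, ⊤) Γ(G.R, ⊤) Γ(pullback G.s G.t, ⊤) where
  σ := G.s.appTop.hom
  τ := G.t.appTop.hom
  ε := G.e.appTop.hom
  ι := G.i.appTop.hom
  p0 := (pullback.fst G.s G.t).appTop.hom
  p1 := (pullback.snd G.s G.t).appTop.hom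
  γ := G.c.appTop.hom
  εσ a := by
    have := congrArg (fun φ : G.U ⟶ G.U => φ.appTop.hom a) G.e_s
    simpa [Scheme.Hom.comp_appTop] using this
  ετ a := by
    have := congrArg (fun φ : G.U ⟶ G.U => φ.appTop.hom a) G.e_t
    simpa [Scheme.Hom.comp_appTop] using this
  ισ a := by
    have := congrArg (fun φ : G.R ⟶ G.U => φ.appTop.hom a) G.i_s
    simpa [Scheme.Hom.comp_appTop] using this
  ιτ a := by
    have := congrArg (fun φ : G.R ⟶ G.U => φ.appTop.hom a) G.i_t
    simpa [Scheme.Hom.comp_appTop] using this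
  γτ a := by
    have := congrArg (fun φ : pullback G.s G.t ⟶ G.U => φ.appTop.hom a) (Groth.Agent.S1880.c_t G)
    simpa [Scheme.Hom.comp_appTop] using this
  po1 := isPushout_appTop_of_isPullback (IsPullback.of_hasPullback G.s G.t)
  po2 := isPushout_appTop_of_isPullback (Groth.Agent.S1880.isPullback_c G)
  fin := G.s.finite_appTop
  flat := G.s.flat_appTop
  fp := G.s.finitePresentation_appTop

section Points
variable [IsAffine G.U] [IsAffine G.R] [IsFinite G.s] [Flat G.s] [LocallyOfFinitePresentation G.s]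

theorem toAG_C : (toAG G).C = G.invariants := rfl

theorem toSpecΓ_s (r : G.R) :
    PrimeSpectrum.comap G.s.appTop.hom (G.R.toSpecΓ r) = G.U.toSpecΓ (G.s r) := by
  have := congrArg (fun φ : G.R ⟶ Spec Γ(G.U, ⊤) => φ r) (Scheme.toSpecΓ_naturality G.s)
  simp only [Scheme.Hom.comp_apply] at this
  exact this.symm

theorem toSpecΓ_t (r : G.R) :
    PrimeSpectrum.comap G.t.appTop.hom (G.R.toSpecΓ r) = G.U.toSpecΓ (G.t r) := by
  have := congrArg (fun φ : G.R ⟶ Spec Γ(G.U, ⊤) => φ r) (Scheme.toSpecΓ_naturality G.t)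
  simp only [Scheme.Hom.comp_apply] at this
  exact this.symm

theorem toSpecΓ_bijective (X : Scheme.{u}) [IsAffine X] : Function.Bijective X.toSpecΓ :=
  ⟨(ConcreteCategory.bijective_of_isIso (X.toSpecΓ.base)).1,
    (ConcreteCategory.bijective_of_isIso (X.toSpecΓ.base)).2⟩

theorem rel_iff (u₀ u₁ : G.U) :
    (toAG G).Rel (G.U.toSpecΓ u₀) (G.U.toSpecΓ u₁) ↔ ∃ r : G.R, G.t r = u₀ ∧ G.s r = u₁ := by
  constructor
  · rintro ⟨q, hq0, hq1⟩
    obtain ⟨r, rfl⟩ := (toSpecΓ_bijective G.R).2 q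
    refine ⟨r, ?_, ?_⟩
    · apply (toSpecΓ_bijective G.U).1
      rw [← hq0]
      exact (toSpecΓ_t G r).symm
    · apply (toSpecΓ_bijective G.U).1
      rw [← hq1]
      exact (toSpecΓ_s G r).symm
  · rintro ⟨r, rfl, rfl⟩
    exact ⟨G.R.toSpecΓ r, toSpecΓ_t G r, toSpecΓ_s G r⟩

theorem toQuot_apply (u : G.U) :
    G.toQuot u = PrimeSpectrum.comap G.invariants.subtype (G.U.toSpecΓ u) := by
  unfold Grpd.GroupoidScheme.toQuot
  rw [Scheme.Hom.comp_apply]
  rfl

theorem toQuot_eq_iff (u₀ u₁ : G.U) :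
    G.toQuot u₀ = G.toQuot u₁ ↔ ∃ r : G.R, G.t r = u₀ ∧ G.s r = u₁ := by
  rw [toQuot_apply, toQuot_apply, ← rel_iff]
  exact (toAG G).comap_eq_iff_rel

theorem toQuot_surjective : Function.Surjective G.toQuot := by
  intro m
  obtain ⟨x, hx⟩ := (toAG G).comap_surjective m
  obtain ⟨u, rfl⟩ := (toSpecΓ_bijective G.U).2 x
  exact ⟨u, (toQuot_apply G u).trans hx⟩

end Points

end Groth.Agent.Lib.T2H7.GrpdBridge
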