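import Mathlib
import Groth.Agent.Lib.T2H7GrpdAlg

/-!
# Base change of ring-level groupoids (helper7)

For `g : AG A B P` whose structure maps are linear over a ring `K` and a `K`-algebra `K'` we build
`bc g h K' : AG (K' ⊗[K] A) (K' ⊗[K] B) (K' ⊗[K] P)`, and show that the invariants commute with flat
base change.
-/

set_option autoImplicit false
set_option linter.style.haveILetI false
set_option linter.unusedSectionVars false
set_option backward.isDefEq.respectTransparency false
universe u

open CategoryTheory CategoryTheory.Limits TensorProduct Polynomial AlgebraicGeometry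
open Groth.Agent.Lib.T2H7.GrpdAlg

namespace Groth.Agent.Lib.T2H7.GrpdBC

section Squares
variable (K : Type u) [CommRing K] (K' : Type u) [CommRing K'] [Algebra K K']

/-- base change of an algebra hom -/
noncomputable abbrev bcHom {X Y : Type u} [CommRing X] [CommRing Y] [Algebra K X] [Algebra K Y]
    (f : X →ₐ[K] Y) : K' ⊗[K] X →ₐ[K'] K' ⊗[K] Y :=
  Algebra.TensorProduct.map (AlgHom.id K' K') f

/-- `x ↦ 1 ⊗ x` -/
noncomputable abbrev incR (X : Type u) [CommRing X] [Algebra K X] : X →+* K' ⊗[K] X :=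
  (Algebra.TensorProduct.includeRight : X →ₐ[K] K' ⊗[K] X).toRingHom

variable {K}

theorem isPushout_vert {X Y : Type u} [CommRing X] [CommRing Y] [Algebra K X] [Algebra K Y]
    (f : X →ₐ[K] Y) :
    IsPushout (CommRingCat.ofHom f.toRingHom) (CommRingCat.ofHom (incR K K' X))
      (CommRingCat.ofHom (incR K K' Y)) (CommRingCat.ofHom (bcHom K K' f).toRingHom) := by
  have hX := (CommRingCat.isPushout_tensorProduct K K' X).flip
  have hY := (CommRingCat.isPushout_tensorProduct K K' Y).flip
  refine IsPushout.of_left (h₁₁ := CommRingCat.ofHom (algebraMap K X))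
    (h₂₁ := CommRingCat.ofHom (S := K' ⊗[K] X) Algebra.TensorProduct.includeLeftRingHom)
    (v₁₁ := CommRingCat.ofHom (algebraMap K K')) ?_ ?_ hX
  · convert hY using 1
    · ext k
      simp
    · ext k
      simp
  · ext x
    simp

theorem isPushout_bc {X Y Z W : Type u} [CommRing X] [CommRing Y] [CommRing Z] [CommRing W]
    [Algebra K X] [Algebra K Y] [Algebra K Z] [Algebra K W]
    (f : X →ₐ[K] Y) (g : X →ₐ[K] Z) (h : Y →ₐ[K] W) (k : Z →ₐ[K] W)
    (hb : IsPushout (CommRingCat.ofHom f.toRingHom) (CommRingCat.ofHom g.toRingHom)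
      (CommRingCat.ofHom h.toRingHom) (CommRingCat.ofHom k.toRingHom)) :
    IsPushout (CommRingCat.ofHom (bcHom K K' f).toRingHom)
      (CommRingCat.ofHom (bcHom K K' g).toRingHom)
      (CommRingCat.ofHom (bcHom K K' h).toRingHom)
      (CommRingCat.ofHom (bcHom K K' k).toRingHom) := by
  have Vf := isPushout_vert K' f
  have Vg := isPushout_vert K' g
  have Vh := isPushout_vert K' h
  have Vk := isPushout_vert K' k
  have hw : h.comp f = k.comp g := by
    ext x
    have := congrArg (fun φ => φ.hom x) hb.w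
    simpa using this
  refine IsPushout.of_left (h₁₁ := CommRingCat.ofHom (incR K K' X))
    (h₂₁ := CommRingCat.ofHom (incR K K' Z)) (v₁₁ := CommRingCat.ofHom g.toRingHom) ?_ ?_ Vg.flip
  · have := hb.paste_horiz Vh.flip
    rw [Vf.w, Vk.w] at this
    exact this
  · apply CommRingCat.hom_ext
    apply RingHom.ext
    intro x
    show (bcHom K K' h) ((bcHom K K' f) x) = (bcHom K K' k) ((bcHom K K' g) x)
    induction x using TensorProduct.induction_on with
    | zero => simp
    | tmul a b =>
      have := congrArg (fun φ => φ b) hw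
      simp only [AlgHom.comp_apply] at this
      simp [this]
    | add x y hx hy => simp only [map_add, hx, hy]

end Squares

section BC
variable (K : Type u) [CommRing K] {A B P : Type u} [CommRing A] [CommRing B] [CommRing P]
  [Algebra K A] [Algebra K B] [Algebra K P]

/-- all structure maps are `K`-linear -/
structure IsLin (g : AG A B P) : Prop where
  σ : ∀ k, g.σ (algebraMap K A k) = algebraMap K B k
  τ : ∀ k, g.τ (algebraMap K A k) = algebraMap K B k
  ε : ∀ k, g.ε (algebraMap K B k) = algebraMap K A k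
  ι : ∀ k, g.ι (algebraMap K B k) = algebraMap K B k
  p0 : ∀ k, g.p0 (algebraMap K B k) = algebraMap K P k
  p1 : ∀ k, g.p1 (algebraMap K B k) = algebraMap K P k
  γ : ∀ k, g.γ (algebraMap K B k) = algebraMap K P k

variable {K} {g : AG A B P} (h : IsLin K g)

/-- the structure maps as algebra homs -/
def IsLin.σₐ : A →ₐ[K] B := { g.σ with commutes' := h.σ }
def IsLin.τₐ : A →ₐ[K] B := { g.τ with commutes' := h.τ }
def IsLin.εₐ : B →ₐ[K] A := { g.ε with commutes' := h.ε }
def IsLin.ιₐ : B →ₐ[K] B := { g.ι with commutes' := h.ι }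
def IsLin.p0ₐ : B →ₐ[K] P := { g.p0 with commutes' := h.p0 }
def IsLin.p1ₐ : B →ₐ[K] P := { g.p1 with commutes' := h.p1 }
def IsLin.γₐ : B →ₐ[K] P := { g.γ with commutes' := h.γ }

@[simp] theorem IsLin.σₐ_apply (a : A) : h.σₐ a = g.σ a := rfl
@[simp] theorem IsLin.τₐ_apply (a : A) : h.τₐ a = g.τ a := rfl
@[simp] theorem IsLin.εₐ_apply (b : B) : h.εₐ b = g.ε b := rfl
@[simp] theorem IsLin.ιₐ_apply (b : B) : h.ιₐ b = g.ι b := rfl
@[simp] theorem IsLin.p0ₐ_apply (b : B) : h.p0ₐ b = g.p0 b := rfl
@[simp] theorem IsLin.p1ₐ_apply (b : B) : h.p1ₐ b = g.p1 b := rfl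
@[simp] theorem IsLin.γₐ_apply (b : B) : h.γₐ b = g.γ b := rfl

variable (K' : Type u) [CommRing K'] [Algebra K K']

theorem stable_of_vert {X Y : Type u} [CommRing X] [CommRing Y] [Algebra K X] [Algebra K Y]
    (f : X →ₐ[K] Y) {Q : ∀ {R S : Type u} [CommRing R] [CommRing S], (R →+* S) → Prop}
    (hQ : RingHom.IsStableUnderBaseChange @Q) (hf : Q f.toRingHom) :
    Q (bcHom K K' f).toRingHom := by
  have h1 := (RingHom.isStableUnderCobaseChange_toMorphismProperty_iff (P := @Q)).mpr hQ
  exact h1.of_isPushout (isPushout_vert K' f).flip hf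

/-- base change of a ring-level groupoid -/
noncomputable def bc : AG (K' ⊗[K] A) (K' ⊗[K] B) (K' ⊗[K] P) where
  σ := (bcHom K K' h.σₐ).toRingHom
  τ := (bcHom K K' h.τₐ).toRingHom
  ε := (bcHom K K' h.εₐ).toRingHom
  ι := (bcHom K K' h.ιₐ).toRingHom
  p0 := (bcHom K K' h.p0ₐ).toRingHom
  p1 := (bcHom K K' h.p1ₐ).toRingHom
  γ := (bcHom K K' h.γₐ).toRingHom
  εσ x := by
    show (bcHom K K' h.εₐ) ((bcHom K K' h.σₐ) x) = x
    induction x using TensorProduct.induction_on with
    | zero => simp
    | tmul a b => simp [g.εσ]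
    | add x y hx hy => simp only [map_add, hx, hy]
  ετ x := by
    show (bcHom K K' h.εₐ) ((bcHom K K' h.τₐ) x) = x
    induction x using TensorProduct.induction_on with
    | zero => simp
    | tmul a b => simp [g.ετ]
    | add x y hx hy => simp only [map_add, hx, hy]
  ισ x := by
    show (bcHom K K' h.ιₐ) ((bcHom K K' h.σₐ) x) = (bcHom K K' h.τₐ) x
    induction x using TensorProduct.induction_on with
    | zero => simp
    | tmul a b => simp [g.ισ]
    | add x y hx hy => simp only [map_add, hx, hy]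
  ιτ x := by
    show (bcHom K K' h.ιₐ) ((bcHom K K' h.τₐ) x) = (bcHom K K' h.σₐ) x
    induction x using TensorProduct.induction_on with
    | zero => simp
    | tmul a b => simp [g.ιτ]
    | add x y hx hy => simp only [map_add, hx, hy]
  γτ x := by
    show (bcHom K K' h.γₐ) ((bcHom K K' h.τₐ) x) = (bcHom K K' h.p0ₐ) ((bcHom K K' h.τₐ) x)
    induction x using TensorProduct.induction_on with
    | zero => simp
    | tmul a b => simp [g.γτ]
    | add x y hx hy => simp only [map_add, hx, hy]
  po1 := isPushout_bc K' h.σₐ h.τₐ h.p0ₐ h.p1ₐ g.po1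
  po2 := isPushout_bc K' h.σₐ h.σₐ h.γₐ h.p1ₐ g.po2
  fin := stable_of_vert K' h.σₐ RingHom.finite_isStableUnderBaseChange g.fin
  flat := stable_of_vert K' h.σₐ RingHom.Flat.isStableUnderBaseChange g.flat
  fp := stable_of_vert K' h.σₐ RingHom.finitePresentation_isStableUnderBaseChange g.fp

@[simp] theorem bc_σ_tmul (k : K') (a : A) : (bc h K').σ (k ⊗ₜ a) = k ⊗ₜ g.σ a := by
  show (bcHom K K' h.σₐ) (k ⊗ₜ a) = _
  simp
@[simp] theorem bc_τ_tmul (k : K') (a : A) : (bc h K').τ (k ⊗ₜ a) = k ⊗ₜ g.τ a := by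
  show (bcHom K K' h.τₐ) (k ⊗ₜ a) = _
  simp
@[simp] theorem bc_ε_tmul (k : K') (b : B) : (bc h K').ε (k ⊗ₜ b) = k ⊗ₜ g.ε b := by
  show (bcHom K K' h.εₐ) (k ⊗ₜ b) = _
  simp

/-- Flat base change of the invariants. -/
theorem bc_invariants_of_flat [Module.Flat K K'] (hinj : Function.Injective (algebraMap K A))
    (hK : ∀ a, a ∈ g.C ↔ a ∈ Set.range (algebraMap K A)) :
    Function.Injective (algebraMap K' (K' ⊗[K] A)) ∧
      ∀ x, x ∈ (bc h K').C ↔ x ∈ Set.range (algebraMap K' (K' ⊗[K] A)) := by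
  let f : K →ₗ[K] A := Algebra.linearMap K A
  let d : A →ₗ[K] B := h.σₐ.toLinearMap - h.τₐ.toLinearMap
  have hex : Function.Exact f d := by
    intro a
    show g.σ a - g.τ a = 0 ↔ _
    rw [sub_eq_zero, ← AG.mem_C, hK]
    rfl
  have hex' := Module.Flat.lTensor_exact K' hex
  have hinj' := Module.Flat.lTensor_preserves_injective_linearMap (M := K') f hinj
  have hd : ∀ x, (d.lTensor K') x = (bc h K').σ x - (bc h K').τ x := by
    intro x
    induction x using TensorProduct.induction_on with
    | zero => simp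
    | tmul k a => simp [d]
    | add x y hx hy => rw [map_add, hx, hy, map_add, map_add]; ring
  have hf : ∀ k : K', (f.lTensor K') (k ⊗ₜ 1) = algebraMap K' (K' ⊗[K] A) k := by
    intro k
    simp [f, Algebra.TensorProduct.algebraMap_apply]
  have hrange : ∀ y : K' ⊗[K] K, ∃ k : K', y = k ⊗ₜ 1 := by
    intro y
    refine ⟨TensorProduct.rid K K' y, ?_⟩
    have := (TensorProduct.rid K K').symm_apply_apply y
    conv_lhs => rw [← this]
    rw [TensorProduct.rid_symm_apply]
  constructor
  · intro k k' hkk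
    rw [← hf, ← hf] at hkk
    have := hinj' hkk
    have h2 := congrArg (TensorProduct.rid K K') this
    simpa using h2
  · intro x
    rw [AG.mem_C, ← sub_eq_zero, ← hd, hex' x]
    constructor
    · rintro ⟨y, rfl⟩
      obtain ⟨k, rfl⟩ := hrange y
      exact ⟨k, (hf k).symm⟩
    · rintro ⟨k, rfl⟩
      exact ⟨k ⊗ₜ 1, hf k⟩

end BC

end Groth.Agent.Lib.T2H7.GrpdBC
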