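import Mathlib
import Groth.Agent.Lib.T2H7GrpdBC

/-!
# Norms after base change are defined over the base (helper7)

For `g : AG A B P` linear over `K` with `K` equal to the invariants, and any `K`-algebra `K'`, the
norm (along `σ'`) of `τ' x` for `x : K' ⊗[K] A` lies in the image of `K'` (the "polynomial trick":
lift `x` to a polynomial ring over `K`, where invariants are known by flatness, and specialise).
-/

set_option autoImplicit false
set_option linter.style.haveILetI false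
set_option linter.unusedSectionVars false
set_option backward.isDefEq.respectTransparency false
universe u

open CategoryTheory CategoryTheory.Limits TensorProduct Polynomial AlgebraicGeometry
open Groth.Agent.Lib.Helper2.RetCharpoly Groth.Agent.Lib.T2H7.GrpdNorm
open Groth.Agent.Lib.T2H7.GrpdAlg Groth.Agent.Lib.T2H7.GrpdBC

namespace Groth.Agent.Lib.T2H7.GrpdPT

/-- base change of a retract along a pushout square in `CommRingCat` -/
theorem ret_cat {R S T P : CommRingCat.{u}} {f : R ⟶ S} {g : R ⟶ T} {inl : S ⟶ P} {inr : T ⟶ P}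
    (h : IsPushout f g inl inr) (n : ℕ)
    (r : letI := f.hom.toAlgebra; Ret R S n) :
    letI := inr.hom.toAlgebra; Nonempty (Ret T P n) := by
  algebraize [f.hom, g.hom, inl.hom, inr.hom, inl.hom.comp f.hom]
  have : IsScalarTower R T P := .of_algebraMap_eq' <| congr($(h.1.1).hom)
  have h1 : Algebra.IsPushout R S T P := CommRingCat.isPushout_iff_isPushout.mp h
  have h2 : Algebra.IsPushout R T S P := h1.symm
  exact ⟨r.bc⟩

theorem isNM_cat {R S T P : CommRingCat.{u}} {f : R ⟶ S} {g : R ⟶ T} {inl : S ⟶ P} {inr : T ⟶ P}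
    (h : IsPushout f g inl inr) (n : ℕ) (b : S) (ν : R)
    (hν : letI := f.hom.toAlgebra; IsNM R S n b ν) :
    letI := inr.hom.toAlgebra; IsNM T P n (inl.hom b) (g.hom ν) := by
  algebraize [f.hom, g.hom, inl.hom, inr.hom, inl.hom.comp f.hom]
  have : IsScalarTower R T P := .of_algebraMap_eq' <| congr($(h.1.1).hom)
  have h1 : Algebra.IsPushout R S T P := CommRingCat.isPushout_iff_isPushout.mp h
  have h2 : Algebra.IsPushout R T S P := h1.symm
  exact IsNM.bc hν

section Transfer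
variable {K : Type u} [CommRing K] {A B P : Type u} [CommRing A] [CommRing B] [CommRing P]
  [Algebra K A] [Algebra K B] [Algebra K P] {g : AG A B P} (h : IsLin K g)
  (K₁ K₂ : Type u) [CommRing K₁] [CommRing K₂] [Algebra K K₁] [Algebra K K₂] (φ : K₁ →ₐ[K] K₂)

/-- the map `K₁ ⊗ X → K₂ ⊗ X` induced by `φ` -/
noncomputable abbrev tr (X : Type u) [CommRing X] [Algebra K X] : K₁ ⊗[K] X →ₐ[K] K₂ ⊗[K] X :=
  Algebra.TensorProduct.map φ (AlgHom.id K X)

theorem isPushout_transfer :
    IsPushout (CommRingCat.ofHom (bc h K₁).σ) (CommRingCat.ofHom (tr K₁ K₂ φ A).toRingHom)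
      (CommRingCat.ofHom (tr K₁ K₂ φ B).toRingHom) (CommRingCat.ofHom (bc h K₂).σ) := by
  have V1 := isPushout_vert K₁ h.σₐ
  have V2 := isPushout_vert K₂ h.σₐ
  refine IsPushout.of_top (h₁₁ := CommRingCat.ofHom h.σₐ.toRingHom)
    (v₁₁ := CommRingCat.ofHom (incR K K₁ A)) (v₁₂ := CommRingCat.ofHom (incR K K₁ B)) ?_ ?_ V1
  · have e1 : CommRingCat.ofHom (incR K K₁ A) ≫ CommRingCat.ofHom (tr K₁ K₂ φ A).toRingHom =
        CommRingCat.ofHom (incR K K₂ A) := by
      ext a
      simp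
    have e2 : CommRingCat.ofHom (incR K K₁ B) ≫ CommRingCat.ofHom (tr K₁ K₂ φ B).toRingHom =
        CommRingCat.ofHom (incR K K₂ B) := by
      ext b
      simp
    rw [e1, e2]
    exact V2
  · apply CommRingCat.hom_ext
    apply RingHom.ext
    intro x
    show (tr K₁ K₂ φ B) ((bcHom K K₁ h.σₐ) x) = (bcHom K K₂ h.σₐ) ((tr K₁ K₂ φ A) x)
    induction x using TensorProduct.induction_on with
    | zero => simp
    | tmul a b => simp
    | add x y hx hy => simp only [map_add, hx, hy]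

theorem tr_τ (x : K₁ ⊗[K] A) :
    (tr K₁ K₂ φ B) ((bc h K₁).τ x) = (bc h K₂).τ ((tr K₁ K₂ φ A) x) := by
  induction x using TensorProduct.induction_on with
  | zero => simp
  | tmul a b => simp
  | add x y hx hy => simp only [map_add, hx, hy]

end Transfer

section PT
variable {K : Type u} [CommRing K] {A B P : Type u} [CommRing A] [CommRing B] [CommRing P]
  [Algebra K A] [Algebra K B] [Algebra K P] {g : AG A B P} (h : IsLin K g)

/-- a retract for `g` gives retracts of the same size for all base changes -/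
theorem exists_ret_bc (n : ℕ) (r : letI := g.σ.toAlgebra; Ret A B n)
    (K' : Type u) [CommRing K'] [Algebra K K'] :
    letI := (bc h K').σ.toAlgebra; Nonempty (Ret (K' ⊗[K] A) (K' ⊗[K] B) n) :=
  ret_cat (isPushout_vert K' h.σₐ) n r

theorem exists_nm_bc (n : ℕ) (r : letI := g.σ.toAlgebra; Ret A B n)
    (K' : Type u) [CommRing K'] [Algebra K K'] (y : K' ⊗[K] B) :
    ∃ ν, (letI := (bc h K').σ.toAlgebra; IsNM (K' ⊗[K] A) (K' ⊗[K] B) n y ν) := by
  obtain ⟨r'⟩ := exists_ret_bc h n r K'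
  letI := (bc h K').σ.toAlgebra
  exact ⟨_, r', rfl⟩

/-- The polynomial trick. -/
theorem nm_mem_range (hinj : Function.Injective (algebraMap K A))
    (hK : ∀ a, a ∈ g.C ↔ a ∈ Set.range (algebraMap K A))
    (n : ℕ) (r : letI := g.σ.toAlgebra; Ret A B n)
    (K' : Type u) [CommRing K'] [Algebra K K'] (x : K' ⊗[K] A) (ν : K' ⊗[K] A)
    (hν : letI := (bc h K').σ.toAlgebra; IsNM (K' ⊗[K] A) (K' ⊗[K] B) n ((bc h K').τ x) ν) :
    ν ∈ Set.range (algebraMap K' (K' ⊗[K] A)) := by
  obtain ⟨S, hS⟩ := TensorProduct.exists_finset x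
  let K₁ := MvPolynomial S K
  let φ : K₁ →ₐ[K] K' := MvPolynomial.aeval (fun i : S => i.1.1)
  let F : K₁ ⊗[K] A := ∑ i ∈ S.attach, (MvPolynomial.X i : K₁) ⊗ₜ[K] i.1.2
  have hF : (tr K₁ K' φ A) F = x := by
    rw [hS]
    simp only [F, map_sum, Algebra.TensorProduct.map_tmul, AlgHom.coe_id, id_eq]
    rw [← Finset.sum_attach S]
    refine Finset.sum_congr rfl fun i _ => ?_
    rw [MvPolynomial.aeval_X]
  obtain ⟨ν₁, hν₁⟩ := exists_nm_bc h n r K₁ ((bc h K₁).τ F)
  have hν₁C : ν₁ ∈ (bc h K₁).C := (bc h K₁).nm_mem n F ν₁ hν₁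
  obtain ⟨Q, hQ⟩ := ((bc_invariants_of_flat h K₁ hinj hK).2 ν₁).mp hν₁C
  have hT := isNM_cat (isPushout_transfer h K₁ K' φ) n ((bc h K₁).τ F) ν₁ hν₁
  have e1 : (CommRingCat.ofHom (tr K₁ K' φ B).toRingHom).hom ((bc h K₁).τ F) = (bc h K').τ x := by
    show (tr K₁ K' φ B) ((bc h K₁).τ F) = _
    rw [tr_τ, hF]
  rw [e1] at hT
  letI := (bc h K').σ.toAlgebra
  have e2 := IsNM.unique hν hT
  refine ⟨φ Q, ?_⟩
  rw [e2, ← hQ]
  show _ = (tr K₁ K' φ A) (algebraMap K₁ (K₁ ⊗[K] A) Q)
  simp [Algebra.TensorProduct.algebraMap_apply]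

end PT

end Groth.Agent.Lib.T2H7.GrpdPT
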