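import Mathlib
import Groth.Agent.Lib.T2H7GrpdPT

/-!
# Geometric points of the quotient by a finite locally free affine groupoid (helper7)

For an algebraically closed field `k`: every `k`-point of `Spec C` lifts to `Spec A`, and two
`k`-points of `Spec A` with the same image in `Spec C` are target and source of a `k`-point of
`Spec B`.
-/

set_option autoImplicit false
set_option linter.style.haveILetI false
set_option linter.unusedSectionVars false
set_option backward.isDefEq.respectTransparency false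
universe u

open CategoryTheory CategoryTheory.Limits TensorProduct Polynomial AlgebraicGeometry
open Groth.Agent.Lib.Helper2.RetCharpoly Groth.Agent.Lib.T2H7.GrpdNorm
open Groth.Agent.Lib.T2H7.GrpdAlg Groth.Agent.Lib.T2H7.GrpdBC Groth.Agent.Lib.T2H7.GrpdPT

namespace Groth.Agent.Lib.T2H7.GrpdPts

theorem exists_lift_of_isIntegral {C A k : Type u} [CommRing C] [CommRing A] [Algebra C A]
    [Algebra.IsIntegral C A] [Field k] [IsAlgClosed k] (φ : C →+* k) (P : Ideal A) [P.IsPrime]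
    (hP : P.under C = RingHom.ker φ) :
    ∃ ψ : A →+* k, ψ.comp (algebraMap C A) = φ ∧ P ≤ RingHom.ker ψ := by
  let p := P.under C
  have hlo : P.LiesOver p := ⟨rfl⟩
  have hpp : p.IsPrime := inferInstance
  let φ' : C ⧸ p →+* k := Ideal.Quotient.lift p φ (fun c hc => by
    have : c ∈ RingHom.ker φ := hP ▸ hc
    exact this)
  have hφ' : Function.Injective φ' := by
    apply RingHom.lift_injective_of_ker_le_ideal
    intro c hc
    show c ∈ P.under C
    rw [hP]; exact hc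
  let _ : Algebra (C ⧸ p) k := φ'.toAlgebra
  have : Module.IsTorsionFree (C ⧸ p) k := Module.isTorsionFree_iff_algebraMap_injective.mpr hφ'
  have : Algebra.IsIntegral (C ⧸ p) (A ⧸ P) := .tower_top C
  let f : A ⧸ P →ₐ[C ⧸ p] k := IsAlgClosed.lift
  refine ⟨f.toRingHom.comp (Ideal.Quotient.mk P), ?_, ?_⟩
  · ext c
    simp only [RingHom.coe_comp, Function.comp_apply]
    have h1 : Ideal.Quotient.mk P (algebraMap C A c) =
        algebraMap (C ⧸ p) (A ⧸ P) (Ideal.Quotient.mk p c) := rfl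
    rw [h1]
    have := f.commutes (Ideal.Quotient.mk p c)
    show f _ = _
    rw [this]
    rfl
  · intro a ha
    rw [RingHom.mem_ker]
    simp only [RingHom.coe_comp, Function.comp_apply]
    rw [Ideal.Quotient.eq_zero_iff_mem.mpr ha, map_zero]

variable {A B P : Type u} [CommRing A] [CommRing B] [CommRing P] (g : AG A B P)

theorem isLinC : letI := g.algB; letI := g.algP; IsLin g.C g := by
  letI := g.algB
  letI := g.algP
  refine ⟨fun c => rfl, fun c => c.2.symm, fun c => g.εσ c, fun c => ?_, fun c => ?_, fun c => rfl,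
    fun c => ?_⟩
  · show g.ι (g.σ c) = g.σ c
    rw [g.ισ]; exact c.2.symm
  · show g.p0 (g.σ c) = g.p1 (g.σ c)
    rw [g.p0σ]
    rw [show g.τ (c : A) = g.σ c from c.2.symm]
  · show g.γ (g.σ c) = g.p1 (g.σ c)
    exact g.γσ c

theorem hK_C : ∀ a, a ∈ g.C ↔ a ∈ Set.range (algebraMap g.C A) := by
  intro a
  constructor
  · intro ha; exact ⟨⟨a, ha⟩, rfl⟩
  · rintro ⟨c, rfl⟩; exact c.2

variable (k : Type u) [Field k] [IsAlgClosed k]

theorem exists_lift (φ : g.C →+* k) : ∃ ψ : A →+* k, ψ.comp g.C.subtype = φ := by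
  have := g.isIntegral
  have hker : (RingHom.ker φ).IsPrime := RingHom.ker_isPrime φ
  obtain ⟨x, hx⟩ := g.comap_surjective ⟨RingHom.ker φ, hker⟩
  have hx' : x.asIdeal.under g.C = RingHom.ker φ := congrArg PrimeSpectrum.asIdeal hx
  obtain ⟨ψ, hψ, -⟩ := exists_lift_of_isIntegral φ x.asIdeal hx'
  exact ⟨ψ, hψ⟩

theorem exists_hom_of_agree (ψ₀ ψ₁ : A →+* k) (hag : ∀ c ∈ g.C, ψ₀ c = ψ₁ c) :
    ∃ ρ : B →+* k, ρ.comp g.τ = ψ₀ ∧ ρ.comp g.σ = ψ₁ := by
  letI := g.algB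
  letI := g.algP
  have hlin := isLinC g
  letI : Algebra g.C k := (ψ₀.comp g.C.subtype).toAlgebra
  let g' := bc hlin k
  -- the two `k`-points of `A' = k ⊗ A`
  let ψ₀a : A →ₐ[g.C] k := { ψ₀ with commutes' := fun c => rfl }
  let ψ₁a : A →ₐ[g.C] k := { ψ₁ with commutes' := fun c => (hag c c.2).symm }
  let Ψ₀ : k ⊗[g.C] A →ₐ[k] k :=
    Algebra.TensorProduct.lift (AlgHom.id k k) ψ₀a (fun _ _ => Commute.all _ _)
  let Ψ₁ : k ⊗[g.C] A →ₐ[k] k :=
    Algebra.TensorProduct.lift (AlgHom.id k k) ψ₁a (fun _ _ => Commute.all _ _)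
  have hΨ₀ : ∀ a, Ψ₀ (1 ⊗ₜ a) = ψ₀ a := fun a => by simp [Ψ₀, ψ₀a]
  have hΨ₁ : ∀ a, Ψ₁ (1 ⊗ₜ a) = ψ₁ a := fun a => by simp [Ψ₁, ψ₁a]
  let x₀ : PrimeSpectrum (k ⊗[g.C] A) := ⟨RingHom.ker Ψ₀.toRingHom, RingHom.ker_isPrime _⟩
  let x₁ : PrimeSpectrum (k ⊗[g.C] A) := ⟨RingHom.ker Ψ₁.toRingHom, RingHom.ker_isPrime _⟩
  -- same image in the invariants
  obtain ⟨n, ⟨r⟩⟩ : ∃ n, Nonempty (letI := g.σ.toAlgebra; Ret A B n) := by
    letI := g.σ.toAlgebra
    have := g.mfin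
    have := g.proj
    exact exists_ret A B
  have key : ∀ (Ψ : k ⊗[g.C] A →ₐ[k] k) (c : k ⊗[g.C] A), c ∈ g'.C →
      ∃ l : k, c ∈ RingHom.ker Ψ.toRingHom ↔ l = 0 := by
    intro Ψ c hc
    obtain ⟨ν, hν⟩ := exists_nm_bc hlin n r k (g'.τ c)
    obtain ⟨l, hl⟩ := nm_mem_range hlin (Subtype.val_injective) (hK_C g) n r k c ν hν
    refine ⟨l, ?_⟩
    have hp : (RingHom.ker Ψ.toRingHom).IsPrime := RingHom.ker_isPrime _
    rw [← g'.nm_mem_prime_iff_of_mem_C n c hc ν hν (RingHom.ker Ψ.toRingHom), RingHom.mem_ker,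
      ← hl]
    show Ψ (algebraMap k _ l) = 0 ↔ _
    rw [Ψ.commutes]
    rfl
  have hcomap : PrimeSpectrum.comap g'.C.subtype x₀ = PrimeSpectrum.comap g'.C.subtype x₁ := by
    ext c
    obtain ⟨l0, h0⟩ := key Ψ₀ c c.2
    obtain ⟨l1, h1⟩ := key Ψ₁ c c.2
    obtain ⟨ν, hν⟩ := exists_nm_bc hlin n r k (g'.τ c)
    obtain ⟨l, hl⟩ := nm_mem_range hlin (Subtype.val_injective) (hK_C g) n r k c ν hν
    have e0 : (c : k ⊗[g.C] A) ∈ RingHom.ker Ψ₀.toRingHom ↔ l = 0 := by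
      have hp : (RingHom.ker Ψ₀.toRingHom).IsPrime := RingHom.ker_isPrime _
      rw [← g'.nm_mem_prime_iff_of_mem_C n c c.2 ν hν (RingHom.ker Ψ₀.toRingHom), RingHom.mem_ker,
        ← hl]
      show Ψ₀ (algebraMap k _ l) = 0 ↔ _
      rw [Ψ₀.commutes]
      rfl
    have e1 : (c : k ⊗[g.C] A) ∈ RingHom.ker Ψ₁.toRingHom ↔ l = 0 := by
      have hp : (RingHom.ker Ψ₁.toRingHom).IsPrime := RingHom.ker_isPrime _
      rw [← g'.nm_mem_prime_iff_of_mem_C n c c.2 ν hν (RingHom.ker Ψ₁.toRingHom), RingHom.mem_ker,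
        ← hl]
      show Ψ₁ (algebraMap k _ l) = 0 ↔ _
      rw [Ψ₁.commutes]
      rfl
    exact e0.trans e1.symm
  obtain ⟨q', hq0, hq1⟩ := g'.rel_of_comap_eq hcomap
  -- extend `Ψ₁` along `σ'` with kernel containing `q'`
  letI := g'.σ.toAlgebra
  have hfin : Module.Finite (k ⊗[g.C] A) (k ⊗[g.C] B) := g'.mfin
  have hq1' : q'.asIdeal.under (k ⊗[g.C] A) = RingHom.ker Ψ₁.toRingHom :=
    congrArg PrimeSpectrum.asIdeal hq1
  obtain ⟨ρ', hρ', hρq⟩ := exists_lift_of_isIntegral Ψ₁.toRingHom q'.asIdeal hq1'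
  have hρσ : ∀ a', ρ' (g'.σ a') = Ψ₁ a' := fun a' => congrArg (fun φ => φ a') hρ'
  -- `ρ' ∘ τ' = Ψ₀`
  have hρτ : ∀ a', ρ' (g'.τ a') = Ψ₀ a' := by
    intro a'
    have h1 : a' - algebraMap k _ (Ψ₀ a') ∈ RingHom.ker Ψ₀.toRingHom := by
      rw [RingHom.mem_ker]
      show Ψ₀ (a' - algebraMap k _ (Ψ₀ a')) = 0
      rw [map_sub, Ψ₀.commutes]
      simp
    have h2 : g'.τ (a' - algebraMap k _ (Ψ₀ a')) ∈ q'.asIdeal := by
      have : a' - algebraMap k _ (Ψ₀ a') ∈ (PrimeSpectrum.comap g'.τ q').asIdeal := by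
        rw [hq0]; exact h1
      exact this
    have h3 := hρq h2
    rw [RingHom.mem_ker, map_sub, map_sub, sub_eq_zero] at h3
    rw [h3]
    have h4 : g'.τ (algebraMap k (k ⊗[g.C] A) (Ψ₀ a')) = g'.σ (algebraMap k (k ⊗[g.C] A) (Ψ₀ a')) := by
      rw [Algebra.TensorProduct.algebraMap_apply]
      simp only [Algebra.algebraMap_self, RingHom.id_apply]
      rw [bc_τ_tmul, bc_σ_tmul, map_one, map_one]
    rw [h4, hρσ, Ψ₁.commutes]
    rfl
  refine ⟨ρ'.comp (incR g.C k B), ?_, ?_⟩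
  · ext a
    simp only [RingHom.coe_comp, Function.comp_apply]
    have : (incR g.C k B) (g.τ a) = g'.τ (1 ⊗ₜ a) := by
      rw [bc_τ_tmul]; rfl
    rw [this, hρτ, hΨ₀]
  · ext a
    simp only [RingHom.coe_comp, Function.comp_apply]
    have : (incR g.C k B) (g.σ a) = g'.σ (1 ⊗ₜ a) := by
      rw [bc_σ_tmul]; rfl
    rw [this, hρσ, hΨ₁]

end Groth.Agent.Lib.T2H7.GrpdPts
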