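import Mathlib
import Groth.Agent.Lib.T2H7GrpdBridge
import Groth.Agent.Lib.T2H7GrpdPts

/-!
# Geometric points of `U → Spec C` for an affine finite locally free groupoid scheme (helper7)
-/

set_option autoImplicit false
set_option linter.style.haveILetI false
set_option linter.unusedSectionVars false
set_option backward.isDefEq.respectTransparency false
universe u

open CategoryTheory CategoryTheory.Limits AlgebraicGeometry
open Groth.Agent.Lib.T2H7.GrpdAlg Groth.Agent.Lib.T2H7.GrpdBridge Groth.Agent.Lib.T2H7.GrpdPts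

namespace Groth.Agent.Lib.T2H7.GrpdBridgeB

variable {S : Scheme.{u}} (G : Grpd.GroupoidScheme S)

theorem s_toQuot [IsAffine G.U] [IsAffine G.R] : G.s ≫ G.toQuot = G.t ≫ G.toQuot := by
  unfold Grpd.GroupoidScheme.toQuot
  rw [Scheme.toSpecΓ_naturality_assoc, Scheme.toSpecΓ_naturality_assoc, ← Spec.map_comp,
    ← Spec.map_comp]
  congr 2
  ext c
  exact c.2

section Pts
variable [IsAffine G.U] [IsAffine G.R] [IsFinite G.s] [Flat G.s] [LocallyOfFinitePresentation G.s]
variable (k : Type u) [Field k] [IsAlgClosed k]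

/-- the ring hom of a `k`-point of an affine scheme -/
noncomputable def ptHom (X : Scheme.{u}) [IsAffine X] (x : Spec (CommRingCat.of k) ⟶ X) :
    Γ(X, ⊤) ⟶ CommRingCat.of k := Spec.preimage (x ≫ X.isoSpec.hom)

theorem map_ptHom (X : Scheme.{u}) [IsAffine X] (x : Spec (CommRingCat.of k) ⟶ X) :
    Spec.map (ptHom k X x) ≫ X.isoSpec.inv = x := by
  unfold ptHom
  rw [Spec.map_preimage, Category.assoc, Iso.hom_inv_id, Category.comp_id]

theorem ptHom_comp {X Y : Scheme.{u}} [IsAffine X] [IsAffine Y] (f : X ⟶ Y)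
    (x : Spec (CommRingCat.of k) ⟶ X) : ptHom k Y (x ≫ f) = f.appTop ≫ ptHom k X x := by
  apply Spec.map_injective
  unfold ptHom
  rw [Spec.map_comp, Spec.map_preimage, Spec.map_preimage, Category.assoc, Category.assoc,
    Scheme.isoSpec_hom_naturality]

theorem comp_toQuot (x : Spec (CommRingCat.of k) ⟶ G.U) :
    x ≫ G.toQuot = Spec.map (CommRingCat.ofHom G.invariants.subtype ≫ ptHom k G.U x) := by
  unfold Grpd.GroupoidScheme.toQuot ptHom
  rw [Spec.map_comp, Spec.map_preimage, Category.assoc]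
  rfl

theorem exists_lift_pt (m : Spec (CommRingCat.of k) ⟶ Spec (CommRingCat.of G.invariants)) :
    ∃ x : Spec (CommRingCat.of k) ⟶ G.U, x ≫ G.toQuot = m := by
  obtain ⟨ψ, hψ⟩ := exists_lift (toAG G) k (Spec.preimage m).hom
  refine ⟨Spec.map (CommRingCat.ofHom ψ) ≫ G.U.isoSpec.inv, ?_⟩
  unfold Grpd.GroupoidScheme.toQuot
  rw [Category.assoc]
  have : G.U.isoSpec.inv ≫ G.U.toSpecΓ = 𝟙 _ := G.U.isoSpec.inv_hom_id
  rw [reassoc_of% this, ← Spec.map_comp]
  have h2 : CommRingCat.ofHom G.invariants.subtype ≫ CommRingCat.ofHom ψ = Spec.preimage m := by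
    ext c
    exact congrArg (fun φ => φ c) hψ
  rw [h2, Spec.map_preimage]

theorem pt_iff (x₀ x₁ : Spec (CommRingCat.of k) ⟶ G.U) :
    x₀ ≫ G.toQuot = x₁ ≫ G.toQuot ↔
      ∃ r : Spec (CommRingCat.of k) ⟶ G.R, r ≫ G.t = x₀ ∧ r ≫ G.s = x₁ := by
  constructor
  · intro h
    rw [comp_toQuot, comp_toQuot] at h
    have h' := Spec.map_injective h
    have hag : ∀ c ∈ (toAG G).C, (ptHom k G.U x₀).hom c = (ptHom k G.U x₁).hom c := by
      intro c hc
      exact congrArg (fun φ => φ.hom ⟨c, hc⟩) h'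
    obtain ⟨ρ, hρτ, hρσ⟩ := exists_hom_of_agree (toAG G) k _ _ hag
    refine ⟨Spec.map (CommRingCat.ofHom ρ) ≫ G.R.isoSpec.inv, ?_, ?_⟩
    · rw [Category.assoc, ← Scheme.isoSpec_inv_naturality, ← Spec.map_comp_assoc]
      have : G.t.appTop ≫ CommRingCat.ofHom ρ = ptHom k G.U x₀ := by
        ext a
        exact congrArg (fun φ => φ a) hρτ
      rw [this, map_ptHom]
    · rw [Category.assoc, ← Scheme.isoSpec_inv_naturality, ← Spec.map_comp_assoc]
      have : G.s.appTop ≫ CommRingCat.ofHom ρ = ptHom k G.U x₁ := by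
        ext a
        exact congrArg (fun φ => φ a) hρσ
      rw [this, map_ptHom]
  · rintro ⟨r, rfl, rfl⟩
    rw [Category.assoc, Category.assoc, s_toQuot]

end Pts

end Groth.Agent.Lib.T2H7.GrpdBridgeB
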