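import Mathlib
import Groth.Agent.Lib.T2H7GrpdPT

/-!
# Local structure of a finite locally free equivalence relation (helper7)

For a ring-level groupoid `g : AG A B P` whose invariants form a local ring `K` with infinite residue
field and such that `B` is spanned over `A` (via `σ`) by `τ(A)`, there are `x₁, …, x_r ∈ A` with
`τ(x_j)` an `A`-basis of `B`; then `x` is a `K`-basis of `A` and `A ⊗[K] A → B` is bijective.
-/

set_option autoImplicit false
set_option linter.style.haveILetI false
set_option linter.unusedSectionVars false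
set_option backward.isDefEq.respectTransparency false
universe u

open CategoryTheory CategoryTheory.Limits TensorProduct Polynomial AlgebraicGeometry Module
open Groth.Agent.Lib.Helper2.RetCharpoly Groth.Agent.Lib.T2H7.GrpdNorm
open Groth.Agent.Lib.T2H7.GrpdAlg Groth.Agent.Lib.T2H7.GrpdBC Groth.Agent.Lib.T2H7.GrpdPT

namespace Groth.Agent.Lib.T2H7.GrpdLoc

/-! ### General algebra -/

universe v w w' in
theorem bijective_linearCombination_of_basis_mod_maximal (R : Type v) (M : Type w) [CommRing R]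
    [AddCommGroup M] [Module R M] [Module.Finite R M] [Module.Flat R M] (n : ℕ) (b : Fin n → M)
    (b' : ∀ P : MaximalSpectrum R, Basis (Fin n) (R ⧸ P.1) ((R ⧸ P.1) ⊗[R] M))
    (hb : ∀ P i, b' P i = (1 : R ⧸ P.1) ⊗ₜ[R] b i) :
    Function.Bijective (Finsupp.linearCombination R b) := by
  let := @Ideal.Quotient.field.{v}
  refine bijective_of_isLocalized_maximal
    _ (fun P _ ↦ Finsupp.mapRange.linearMap (Algebra.linearMap R (Localization P.primeCompl)))
    _ (fun P _ ↦ TensorProduct.mk R (Localization P.primeCompl) M 1) _ fun P _ ↦ ?_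
  rw [IsLocalizedModule.map_linearCombination, LinearMap.coe_restrictScalars]
  apply IsLocalRing.linearCombination_bijective_of_flat
  rw [← (AlgebraTensorModule.cancelBaseChange _ _ P.ResidueField ..).comp_bijective,
    ← (AlgebraTensorModule.cancelBaseChange R (R ⧸ P) P.ResidueField ..).symm.comp_bijective]
  convert! ((b' ⟨P, ‹_›⟩).repr.lTensor _ ≪≫ₗ finsuppScalarRight _ _ P.ResidueField _).symm.bijective
  refine funext fun r ↦ Finsupp.induction_linear r (by simp) (by simp +contextual) fun _ _ ↦ ?_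
  simp [smul_tmul', hb]

/-- Over a local ring with infinite residue field, a module is not a finite union of proper
submodules. -/
theorem exists_notMem_of_forall_ne_top {C M ι : Type*} [CommRing C] [IsLocalRing C]
    [Infinite (IsLocalRing.ResidueField C)] [AddCommGroup M] [Module C M]
    (s : Finset ι) (H : ι → Submodule C M) (hH : ∀ i ∈ s, H i ≠ ⊤) :
    ∃ m : M, ∀ i ∈ s, m ∉ H i := by
  classical
  induction s using Finset.induction_on with
  | empty => exact ⟨0, by simp⟩
  | insert i₀ s' hi₀ ih =>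
    obtain ⟨v, hv⟩ := ih (fun i hi => hH i (Finset.mem_insert_of_mem hi))
    by_cases hv0 : v ∈ H i₀
    swap
    · refine ⟨v, fun i hi => ?_⟩
      rcases Finset.mem_insert.mp hi with rfl | hi
      · exact hv0
      · exact hv i hi
    obtain ⟨u, hu⟩ : ∃ u, u ∉ H i₀ := by
      by_contra hcon
      simp only [not_exists, not_not] at hcon
      exact hH i₀ (Finset.mem_insert_self _ _) (eq_top_iff.mpr fun x _ => hcon x)
    let e := Infinite.natEmbedding (IsLocalRing.ResidueField C)
    choose c hc using fun n : ℕ => IsLocalRing.residue_surjective (e n)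
    have hunit : ∀ n n', n ≠ n' → IsUnit (c n - c n') := by
      intro n n' hne
      rw [← IsLocalRing.residue_ne_zero_iff_isUnit, map_sub, hc, hc, sub_ne_zero]
      exact fun h => hne (e.injective h)
    have hw0 : ∀ n, u + c n • v ∉ H i₀ := by
      intro n hmem
      apply hu
      have := (H i₀).sub_mem hmem ((H i₀).smul_mem (c n) hv0)
      simpa using this
    by_contra hcon
    simp only [not_exists, not_forall, not_not] at hcon
    have hbad : ∀ n : ℕ, ∃ i ∈ s', u + c n • v ∈ H i := by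
      intro n
      obtain ⟨i, hi, hmem⟩ := hcon (u + c n • v)
      rcases Finset.mem_insert.mp hi with rfl | hi
      · exact (hw0 n hmem).elim
      · exact ⟨i, hi, hmem⟩
    choose f hfs hfm using hbad
    obtain ⟨n, -, n', -, hne, hff⟩ := Finset.exists_ne_map_eq_of_card_lt_of_maps_to
      (s := Finset.range (s'.card + 1)) (t := s') (by simp) (f := f) (fun n _ => hfs n)
    have h1 := (H (f n)).sub_mem (hfm n) (hff ▸ hfm n')
    have h2 : u + c n • v - (u + c n' • v) = (c n - c n') • v := by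
      rw [sub_smul]; abel
    rw [h2] at h1
    obtain ⟨w, hw⟩ := hunit n n' hne
    have h3 := (H (f n)).smul_mem (↑w⁻¹ : C) h1
    rw [← hw, smul_smul, Units.inv_mul, one_smul] at h3
    exact hv (f n) (hfs n) h3

section CH
universe v w w'
variable {C : Type w'} {A : Type v} {M : Type w} [CommRing C] [IsLocalRing C]
  [Infinite (IsLocalRing.ResidueField C)]
  [CommRing A] [Algebra C A] [Finite (MaximalSpectrum A)] [AddCommGroup M] [Module A M] [Module C M]
  [IsScalarTower C A M] (T : A →ₗ[C] M)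

/-- the elements of `A` whose image under `T` lies in the subspace `S` modulo `P` -/
def HP (P : MaximalSpectrum A) (S : Submodule (A ⧸ P.1) ((A ⧸ P.1) ⊗[A] M)) : Submodule C A where
  carrier := {a | (1 : A ⧸ P.1) ⊗ₜ[A] T a ∈ S}
  add_mem' := by
    intro a b ha hb
    simp only [Set.mem_ofPred_eq, map_add, tmul_add] at ha hb ⊢
    exact S.add_mem ha hb
  zero_mem' := by simp
  smul_mem' := by
    intro c a ha
    simp only [Set.mem_ofPred_eq, map_smul] at ha ⊢
    have : (1 : A ⧸ P.1) ⊗ₜ[A] (c • T a) =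
        (Ideal.Quotient.mk P.1 (algebraMap C A c)) • ((1 : A ⧸ P.1) ⊗ₜ[A] T a) := by
      rw [← algebraMap_smul A c (T a), ← TensorProduct.smul_tmul, TensorProduct.smul_tmul']
      congr 1
    rw [this]
    exact S.smul_mem _ ha

theorem exists_linInd_mod (r : ℕ)
    (hrk : ∀ P : MaximalSpectrum A, finrank (A ⧸ P.1) ((A ⧸ P.1) ⊗[A] M) = r)
    (hspan : ∀ P : MaximalSpectrum A,
      Submodule.span (A ⧸ P.1) (Set.range fun a => (1 : A ⧸ P.1) ⊗ₜ[A] T a) = ⊤) :
    ∃ x : Fin r → A, ∀ P : MaximalSpectrum A,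
      LinearIndependent (A ⧸ P.1) (fun j => (1 : A ⧸ P.1) ⊗ₜ[A] T (x j)) := by
  classical
  let := @Ideal.Quotient.field.{v}
  have hfin : Fintype (MaximalSpectrum A) := Fintype.ofFinite _
  suffices h : ∀ j, j ≤ r → ∃ x : Fin j → A, ∀ P : MaximalSpectrum A,
      LinearIndependent (A ⧸ P.1) (fun i => (1 : A ⧸ P.1) ⊗ₜ[A] T (x i)) from h r le_rfl
  intro j
  induction j with
  | zero =>
    intro _
    exact ⟨Fin.elim0, fun P => linearIndependent_empty_type⟩
  | succ j ih =>
    intro hj
    obtain ⟨x, hx⟩ := ih (by omega)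
    let S : ∀ P : MaximalSpectrum A, Submodule (A ⧸ P.1) ((A ⧸ P.1) ⊗[A] M) := fun P =>
      Submodule.span (A ⧸ P.1) (Set.range fun i => (1 : A ⧸ P.1) ⊗ₜ[A] T (x i))
    have hS : ∀ P, S P ≠ ⊤ := by
      intro P hP
      have h1 : finrank (A ⧸ P.1) (S P) = j := by
        rw [finrank_span_eq_card (hx P), Fintype.card_fin]
      rw [hP, finrank_top, hrk P] at h1
      omega
    have hH : ∀ P ∈ (Finset.univ : Finset (MaximalSpectrum A)), HP T P (S P) ≠ ⊤ := by
      intro P _ hP
      apply hS P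
      rw [eq_top_iff, ← hspan P, Submodule.span_le]
      rintro _ ⟨a, rfl⟩
      have : a ∈ HP T P (S P) := hP ▸ Submodule.mem_top
      exact this
    obtain ⟨a, ha⟩ := exists_notMem_of_forall_ne_top Finset.univ (fun P => HP T P (S P)) hH
    refine ⟨Fin.snoc x a, fun P => ?_⟩
    have h2 : (fun i => (1 : A ⧸ P.1) ⊗ₜ[A] T ((Fin.snoc x a : Fin (j + 1) → A) i)) =
        Fin.snoc (fun i => (1 : A ⧸ P.1) ⊗ₜ[A] T (x i)) ((1 : A ⧸ P.1) ⊗ₜ[A] T a) := by
      ext i
      refine Fin.lastCases ?_ (fun i => ?_) i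
      · simp
      · simp
    rw [h2, linearIndependent_finSnoc]
    exact ⟨hx P, ha P (Finset.mem_univ P)⟩

end CH

theorem finrank_quot_eq_rankAtStalk {R M : Type*} [CommRing R] [AddCommGroup M] [Module R M]
    [Module.Finite R M] [Module.Flat R M] (P : Ideal R) [hP : P.IsMaximal] :
    finrank (R ⧸ P) ((R ⧸ P) ⊗[R] M) = Module.rankAtStalk M ⟨P, hP.isPrime⟩ := by
  letI := Ideal.Quotient.field P
  rw [Module.rankAtStalk_eq]
  let e := AlgebraTensorModule.cancelBaseChange R (R ⧸ P) P.ResidueField P.ResidueField M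
  have h1 : finrank P.ResidueField (P.ResidueField ⊗[R] M) =
      finrank P.ResidueField (P.ResidueField ⊗[R ⧸ P] ((R ⧸ P) ⊗[R] M)) := e.finrank_eq.symm
  have h2 : finrank P.ResidueField (P.ResidueField ⊗[R ⧸ P] ((R ⧸ P) ⊗[R] M)) =
      finrank (R ⧸ P) ((R ⧸ P) ⊗[R] M) := Module.finrank_baseChange
  exact (h1.trans h2).symm

/-- linear independence is preserved by base change along a pushout square in `CommRingCat` -/
theorem linearIndependent_cat {R S T P : CommRingCat.{u}} {f : R ⟶ S} {g : R ⟶ T} {inl : S ⟶ P}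
    {inr : T ⟶ P} (h : IsPushout f g inl inr) {ι : Type*} (b : ι → S)
    (hb : letI := f.hom.toAlgebra; LinearIndependent R b ∧ Submodule.span R (Set.range b) = ⊤) :
    letI := inr.hom.toAlgebra; LinearIndependent T (fun i => inl.hom (b i)) := by
  algebraize [f.hom, g.hom, inl.hom, inr.hom, inl.hom.comp f.hom]
  have : IsScalarTower R T P := .of_algebraMap_eq' <| congr($(h.1.1).hom)
  have h1 : Algebra.IsPushout R S T P := CommRingCat.isPushout_iff_isPushout.mp h
  have h2 : Algebra.IsPushout R T S P := h1.symm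
  let β : Basis ι R S := Basis.mk hb.1 hb.2.ge
  have hbc : IsBaseChange T (IsScalarTower.toAlgHom R S P).toLinearMap := h2.out
  let β' : Basis ι T P := (β.baseChange T).map hbc.equiv
  have : (fun i => inl.hom (b i)) = β' := by
    ext i
    simp only [β', Basis.map_apply, Basis.baseChange_apply, IsBaseChange.equiv_tmul, one_smul]
    simp [β]
    rfl
  rw [this]
  exact β'.linearIndependent

/-! ### The ring-level groupoid over a local ring of invariants -/

section AGLoc
variable {A B P : Type u} [CommRing A] [CommRing B] [CommRing P] (g : AG A B P)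

theorem rel_finrank_eq {x y : PrimeSpectrum A} (h : g.Rel x y) :
    g.σ.finrank x = g.σ.finrank y := by
  obtain ⟨q, rfl, rfl⟩ := h
  have e1 := CommRingCat.finrank_eq_of_isPushout g.po1 g.flat g.fin q
  have e2 := CommRingCat.finrank_eq_of_isPushout g.po2 g.flat g.fin q
  exact e1.symm.trans e2

variable {K : Type u} [CommRing K] [Algebra K A]
  (hK : ∀ a, a ∈ g.C ↔ a ∈ Set.range (algebraMap K A))

include hK in
theorem isIntegral_K : Algebra.IsIntegral K A := by
  let φ : K →+* g.C := (algebraMap K A).codRestrict g.C (fun k => (hK _).mpr ⟨k, rfl⟩)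
  have hφ : Function.Surjective φ := by
    rintro ⟨c, hc⟩
    obtain ⟨k, hk⟩ := (hK c).mp hc
    exact ⟨k, Subtype.ext hk⟩
  have h1 : φ.IsIntegral := φ.isIntegral_of_surjective hφ
  have h2 : (g.C.subtype).IsIntegral := fun a => (g.isIntegral).isIntegral a
  have h3 := RingHom.IsIntegral.trans φ g.C.subtype h1 h2
  exact ⟨fun a => h3 a⟩

include hK in
theorem rel_of_isMaximal [IsLocalRing K] (Q Q' : Ideal A) [hQ : Q.IsMaximal] [hQ' : Q'.IsMaximal] :
    g.Rel ⟨Q, hQ.isPrime⟩ ⟨Q', hQ'.isPrime⟩ := by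
  have := isIntegral_K g hK
  have e1 : Q.comap (algebraMap K A) = IsLocalRing.maximalIdeal K :=
    IsLocalRing.eq_maximalIdeal (Ideal.isMaximal_comap_of_isIntegral_of_isMaximal (R := K) Q)
  have e2 : Q'.comap (algebraMap K A) = IsLocalRing.maximalIdeal K :=
    IsLocalRing.eq_maximalIdeal (Ideal.isMaximal_comap_of_isIntegral_of_isMaximal (R := K) Q')
  apply g.rel_of_comap_eq
  ext c
  obtain ⟨k, hk⟩ := (hK c).mp c.2
  show (c : A) ∈ Q ↔ (c : A) ∈ Q'
  rw [← hk]
  show k ∈ Q.comap (algebraMap K A) ↔ k ∈ Q'.comap (algebraMap K A)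
  rw [e1, e2]

include hK in
theorem finite_maximalSpectrum [IsLocalRing K] : Finite (MaximalSpectrum A) := by
  by_cases hne : Nonempty (MaximalSpectrum A)
  swap
  · rw [not_nonempty_iff] at hne
    infer_instance
  obtain ⟨P₀⟩ := hne
  have hfin := g.finite_orbit ⟨P₀.1, P₀.2.isPrime⟩
  have : Finite {x | g.Rel x ⟨P₀.1, P₀.2.isPrime⟩} := hfin
  let F : MaximalSpectrum A → {x | g.Rel x ⟨P₀.1, P₀.2.isPrime⟩} := fun Q =>
    ⟨⟨Q.1, Q.2.isPrime⟩, by
      have := Q.2
      have := P₀.2
      exact rel_of_isMaximal g hK Q.1 P₀.1⟩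
  refine Finite.of_injective F ?_
  intro Q Q' h
  have := congrArg (fun z => z.1.asIdeal) h
  exact MaximalSpectrum.ext this

theorem span_mod_eq_top (hspan : letI := g.σ.toAlgebra; Submodule.span A (Set.range g.τ) = ⊤)
    (Q : Ideal A) : letI := g.σ.toAlgebra;
    Submodule.span (A ⧸ Q) (Set.range fun a => (1 : A ⧸ Q) ⊗ₜ[A] g.τ a) = ⊤ := by
  letI := g.σ.toAlgebra
  rw [eq_top_iff]
  suffices hall : ∀ z : (A ⧸ Q) ⊗[A] B, z ∈
      Submodule.span (A ⧸ Q) (Set.range fun a => (1 : A ⧸ Q) ⊗ₜ[A] g.τ a) from fun z _ => hall z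
  intro z
  have key : ∀ b : B, (1 : A ⧸ Q) ⊗ₜ[A] b ∈
      Submodule.span (A ⧸ Q) (Set.range fun a => (1 : A ⧸ Q) ⊗ₜ[A] g.τ a) := by
    intro b
    have hb : b ∈ Submodule.span A (Set.range g.τ) := hspan ▸ Submodule.mem_top
    induction hb using Submodule.span_induction with
    | mem b hb =>
      obtain ⟨a, rfl⟩ := hb
      exact Submodule.subset_span ⟨a, rfl⟩
    | zero => simp
    | add b b' _ _ hb hb' =>
      rw [tmul_add]
      exact Submodule.add_mem _ hb hb'
    | smul a b _ hb =>
      have : (1 : A ⧸ Q) ⊗ₜ[A] (a • b) = (Ideal.Quotient.mk Q a) • ((1 : A ⧸ Q) ⊗ₜ[A] b) := by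
        rw [← TensorProduct.smul_tmul, TensorProduct.smul_tmul']
        congr 1
      rw [this]
      exact Submodule.smul_mem _ _ hb
  induction z using TensorProduct.induction_on with
  | zero => exact Submodule.zero_mem _
  | tmul x b =>
    have : x ⊗ₜ[A] b = x • ((1 : A ⧸ Q) ⊗ₜ[A] b) := by
      rw [TensorProduct.smul_tmul', smul_eq_mul, mul_one]
    rw [this]
    exact Submodule.smul_mem _ _ (key b)
  | add z z' hz hz' => exact Submodule.add_mem _ hz hz'

include hK in
/-- a basis of `B` over `A` of the form `τ(x_j)` -/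
theorem exists_tau_basis [IsLocalRing K] [Infinite (IsLocalRing.ResidueField K)]
    (hinj : Function.Injective (algebraMap K A))
    (hspan : letI := g.σ.toAlgebra; Submodule.span A (Set.range g.τ) = ⊤) :
    ∃ (r : ℕ) (x : Fin r → A), (letI := g.σ.toAlgebra;
      Function.Bijective (Finsupp.linearCombination A (fun j => g.τ (x j)))) := by
  letI := g.σ.toAlgebra
  have hfinB : Module.Finite A B := g.mfin
  have hflatB : Module.Flat A B := g.flat
  have := finite_maximalSpectrum g hK
  have : Nontrivial A := hinj.nontrivial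
  obtain ⟨P₀, hP₀⟩ := Ideal.exists_maximal A
  let r := g.σ.finrank ⟨P₀, hP₀.isPrime⟩
  have hrk : ∀ Q : MaximalSpectrum A, finrank (A ⧸ Q.1) ((A ⧸ Q.1) ⊗[A] B) = r := by
    intro Q
    have := Q.2
    rw [finrank_quot_eq_rankAtStalk Q.1]
    exact rel_finrank_eq g (rel_of_isMaximal g hK Q.1 P₀)
  letI : Algebra K B := (g.σ.comp (algebraMap K A)).toAlgebra
  have : IsScalarTower K A B := IsScalarTower.of_algebraMap_eq (fun k => rfl)
  let T : A →ₗ[K] B :=
    { toFun := g.τ
      map_add' := map_add g.τ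
      map_smul' := fun k a => by
        have hk : g.σ (algebraMap K A k) = g.τ (algebraMap K A k) := (hK _).mpr ⟨k, rfl⟩
        simp only [RingHom.id_apply]
        rw [Algebra.smul_def, map_mul, ← hk, Algebra.smul_def]
        rfl }
  have hspan' : ∀ Q : MaximalSpectrum A,
      Submodule.span (A ⧸ Q.1) (Set.range fun a => (1 : A ⧸ Q.1) ⊗ₜ[A] T a) = ⊤ :=
    fun Q => span_mod_eq_top g hspan Q.1
  obtain ⟨x, hx⟩ := exists_linInd_mod T r hrk hspan'
  refine ⟨r, x, ?_⟩
  let _ := @Ideal.Quotient.field.{u}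
  let b' : ∀ Q : MaximalSpectrum A, Basis (Fin r) (A ⧸ Q.1) ((A ⧸ Q.1) ⊗[A] B) := fun Q =>
    Basis.mk (hx Q) (by
      rw [LinearIndependent.span_eq_top_of_card_eq_finrank' (hx Q)
        (by rw [Fintype.card_fin, hrk Q])])
  exact bijective_linearCombination_of_basis_mod_maximal A B r (fun j => g.τ (x j)) b'
    (fun Q i => by simp [b']; rfl)

end AGLoc

/-! ### From a `τ`-basis to freeness over the invariants -/

section Main
variable {K : Type u} [CommRing K] {A B P : Type u} [CommRing A] [CommRing B] [CommRing P]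
  [Algebra K A] [Algebra K B] [Algebra K P] {g : AG A B P} (h : IsLin K g)
  (hinj : Function.Injective (algebraMap K A))
  (hK : ∀ a, a ∈ g.C ↔ a ∈ Set.range (algebraMap K A))
  (r : ℕ) (x : Fin r → A)
  (hx : letI := g.σ.toAlgebra;
    Function.Bijective (Finsupp.linearCombination A (fun j => g.τ (x j))))

include hx in
theorem tau_basis_li : letI := g.σ.toAlgebra; LinearIndependent A (fun j => g.τ (x j)) ∧
    Submodule.span A (Set.range fun j => g.τ (x j)) = ⊤ := by
  letI := g.σ.toAlgebra
  refine ⟨hx.1, ?_⟩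
  rw [← Finsupp.range_linearCombination, LinearMap.range_eq_top]
  exact hx.2

include hx in
/-- coordinates of `τ a` in a `τ`-basis are invariant -/
theorem coord_mem_C (a : A) (c : Fin r → A) (hc : g.τ a = ∑ j, g.σ (c j) * g.τ (x j)) (j : Fin r) :
    c j ∈ g.C := by
  have hli := linearIndependent_cat g.po1 (fun j => g.τ (x j)) (tau_basis_li r x hx)
  letI := (CommRingCat.ofHom g.p1).hom.toAlgebra
  rw [Fintype.linearIndependent_iff] at hli
  have e0 : g.p0 (g.τ a) = ∑ j, g.p1 (g.τ (c j)) * g.p0 (g.τ (x j)) := by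
    rw [hc, map_sum]
    refine Finset.sum_congr rfl fun j _ => ?_
    rw [map_mul, g.p0σ]
  have e1 : g.γ (g.τ a) = ∑ j, g.p1 (g.σ (c j)) * g.p0 (g.τ (x j)) := by
    rw [hc, map_sum]
    refine Finset.sum_congr rfl fun j _ => ?_
    rw [map_mul, g.γσ, g.γτ]
  rw [g.γτ, e0] at e1
  have e2 : ∑ j, (g.τ (c j) - g.σ (c j)) • (CommRingCat.ofHom g.p0).hom (g.τ (x j)) = 0 := by
    have : ∀ j, (g.τ (c j) - g.σ (c j)) • (CommRingCat.ofHom g.p0).hom (g.τ (x j)) =
        g.p1 (g.τ (c j)) * g.p0 (g.τ (x j)) - g.p1 (g.σ (c j)) * g.p0 (g.τ (x j)) := by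
      intro j
      rw [Algebra.smul_def, ← sub_mul, ← map_sub]
      rfl
    simp only [this, Finset.sum_sub_distrib]
    rw [e1, sub_self]
  have := hli _ e2 j
  rw [sub_eq_zero] at this
  exact this.symm

include hinj hK hx in
theorem bijective_linearCombination_K :
    Function.Bijective (Finsupp.linearCombination K x) := by
  letI := g.σ.toAlgebra
  constructor
  · rw [← linearIndependent_iff_injective_finsuppLinearCombination, Fintype.linearIndependent_iff]
    intro k hk j
    have h1 := congrArg g.τ hk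
    rw [map_sum, map_zero] at h1
    have h2 : ∑ j, (algebraMap K A (k j)) • g.τ (x j) = 0 := by
      rw [← h1]
      refine Finset.sum_congr rfl fun j _ => ?_
      rw [Algebra.smul_def (k j) (x j), map_mul, Algebra.smul_def]
      congr 1
      exact (hK _).mpr ⟨k j, rfl⟩
    have hli := (tau_basis_li r x hx).1
    rw [Fintype.linearIndependent_iff] at hli
    exact hinj ((hli _ h2 j).trans (map_zero _).symm)
  · intro a
    obtain ⟨c, hc⟩ := hx.2 (g.τ a)
    rw [Finsupp.linearCombination_apply, Finsupp.sum_fintype _ _ (by simp)] at hc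
    have hc' : g.τ a = ∑ j, g.σ (c j) * g.τ (x j) := by
      rw [← hc]
      refine Finset.sum_congr rfl fun j _ => ?_
      rw [Algebra.smul_def]
      rfl
    have hmem := coord_mem_C r x hx a c hc'
    choose k hk using fun j => (hK (c j)).mp (hmem j)
    refine ⟨Finsupp.equivFunOnFinite.symm k, ?_⟩
    rw [Finsupp.linearCombination_apply, Finsupp.sum_fintype _ _ (by simp)]
    have h2 := congrArg g.ε hc'
    rw [g.ετ, map_sum] at h2
    rw [h2]
    refine Finset.sum_congr rfl fun j _ => ?_
    rw [map_mul, g.εσ, g.ετ, Algebra.smul_def]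
    simp [hk j]

/-- the map `A ⊗[K] A → B`, `a ⊗ a' ↦ τ a * σ a'` -/
noncomputable def Φ : A ⊗[K] A →ₐ[K] B := Algebra.TensorProduct.productMap h.τₐ h.σₐ

@[simp] theorem Φ_tmul (a a' : A) : Φ h (a ⊗ₜ a') = g.τ a * g.σ a' := by
  simp [Φ]

include hinj hK hx in
theorem Φ_bijective : Function.Bijective (Φ h) := by
  letI := g.σ.toAlgebra
  have hKb := bijective_linearCombination_K hinj hK r x hx
  have hform : ∀ z : A ⊗[K] A, ∃ c : Fin r → A, z = ∑ j, x j ⊗ₜ[K] c j := by
    intro z
    induction z using TensorProduct.induction_on with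
    | zero => exact ⟨0, by simp⟩
    | tmul a a' =>
      obtain ⟨k, hk⟩ := hKb.2 a
      rw [Finsupp.linearCombination_apply, Finsupp.sum_fintype _ _ (by simp)] at hk
      refine ⟨fun j => k j • a', ?_⟩
      rw [← hk, TensorProduct.sum_tmul]
      refine Finset.sum_congr rfl fun j _ => ?_
      rw [TensorProduct.smul_tmul]
    | add z z' hz hz' =>
      obtain ⟨c, rfl⟩ := hz
      obtain ⟨c', rfl⟩ := hz'
      refine ⟨c + c', ?_⟩
      rw [← Finset.sum_add_distrib]
      refine Finset.sum_congr rfl fun j _ => ?_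
      rw [Pi.add_apply, TensorProduct.tmul_add]
  have hΦ : ∀ c : Fin r → A, Φ h (∑ j, x j ⊗ₜ[K] c j) =
      Finsupp.linearCombination A (fun j => g.τ (x j)) (Finsupp.equivFunOnFinite.symm c) := by
    intro c
    rw [map_sum, Finsupp.linearCombination_apply, Finsupp.sum_fintype _ _ (by simp)]
    refine Finset.sum_congr rfl fun j _ => ?_
    rw [Φ_tmul, Algebra.smul_def, mul_comm]
    rfl
  constructor
  · rw [injective_iff_map_eq_zero]
    intro z hz
    obtain ⟨c, rfl⟩ := hform z
    rw [hΦ] at hz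
    have h0 := hx.1 (hz.trans (map_zero _).symm)
    have hc : c = 0 := by
      have := congrArg Finsupp.equivFunOnFinite h0
      rw [Equiv.apply_symm_apply] at this
      rw [this]
      rfl
    rw [hc]
    simp
  · intro b
    obtain ⟨c, hc⟩ := hx.2 b
    refine ⟨∑ j, x j ⊗ₜ[K] c j, ?_⟩
    rw [hΦ, ← hc]
    congr 1
    ext j
    simp

end Main

end Groth.Agent.Lib.T2H7.GrpdLoc
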