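import Mathlib
import Groth.Agent.Lib.T2H7GrpdLoc

/-!
# Descent from local flat covers with infinite residue fields (helper7)

For a maximal ideal `𝔪` of `K` the ring `K[X]` localised at `𝔪 K[X]` is a flat local `K`-algebra
with infinite residue field in which `𝔪` does not generate the unit ideal.  Injectivity of linear maps
and flatness of modules can be tested after base change to all these rings.  We deduce, for a
ring-level groupoid `g` over `K = ` invariants with `B` spanned by `τ(A)`: `A` is flat over `K` and
`A ⊗[K] A → B` is bijective.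
-/

set_option autoImplicit false
set_option linter.style.haveILetI false
set_option linter.unusedSectionVars false
set_option backward.isDefEq.respectTransparency false
universe u

open CategoryTheory CategoryTheory.Limits TensorProduct Polynomial AlgebraicGeometry Module
open Groth.Agent.Lib.T2H7.GrpdAlg Groth.Agent.Lib.T2H7.GrpdBC Groth.Agent.Lib.T2H7.GrpdPT
open Groth.Agent.Lib.T2H7.GrpdLoc

namespace Groth.Agent.Lib.T2H7.GrpdDesc

/-! ### Testing injectivity and flatness on a jointly faithful family of flat algebras -/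

section Family
variable {K : Type u} [CommRing K]

/-- `Good K'`-data at every maximal ideal: a flat `K`-algebra in which `𝔪` stays proper. -/
def Cover (K : Type u) [CommRing K] (Q : ∀ (K' : Type u) [CommRing K'] [Algebra K K'], Prop) : Prop :=
  ∀ m : Ideal K, m.IsMaximal → ∃ (K' : Type u) (_ : CommRing K') (_ : Algebra K K'),
    Module.Flat K K' ∧ m.map (algebraMap K K') ≠ ⊤ ∧ Q K'

theorem injective_of_cover {N₁ N₂ : Type u} [AddCommGroup N₁] [AddCommGroup N₂] [Module K N₁]
    [Module K N₂] (f : N₁ →ₗ[K] N₂)
    (hc : Cover K (fun K' _ _ => Function.Injective (f.lTensor K'))) : Function.Injective f := by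
  rw [injective_iff_map_eq_zero]
  intro n hn
  by_contra hne
  let I := (Submodule.span K {n}).annihilator
  have I_ne_top : I ≠ ⊤ := by
    intro htop
    rw [Ideal.eq_top_iff_one, Submodule.mem_annihilator_span_singleton, one_smul] at htop
    exact hne htop
  obtain ⟨m, hm, hIm⟩ := Ideal.exists_le_maximal I I_ne_top
  obtain ⟨K', _, _, hflat, hmK', hinj⟩ := hc m hm
  let inc : K ⧸ I →ₗ[K] N₁ := Submodule.liftQ _ ((LinearMap.lsmul K N₁).flip n) <| fun r hr => by
    simpa only [LinearMap.mem_ker, LinearMap.flip_apply, LinearMap.lsmul_apply,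
      Submodule.mem_annihilator_span_singleton, I] using hr
  have injective_inc : Function.Injective inc := LinearMap.ker_eq_bot.1 <| eq_bot_iff.2 <| by
    intro r hr
    induction r using Quotient.inductionOn' with | h r =>
    simpa only [Submodule.Quotient.mk''_eq_mk, Submodule.mem_bot, Submodule.Quotient.mk_eq_zero,
      Submodule.mem_annihilator_span_singleton, LinearMap.mem_ker, Submodule.liftQ_apply,
      LinearMap.flip_apply, LinearMap.lsmul_apply, I, inc] using hr
  have hcomp : f ∘ₗ inc = 0 := by
    apply LinearMap.ext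
    intro r
    induction r using Quotient.inductionOn' with | h r =>
    simp only [LinearMap.comp_apply, Submodule.Quotient.mk''_eq_mk, inc, Submodule.liftQ_apply,
      LinearMap.flip_apply, LinearMap.lsmul_apply, map_smul, hn, smul_zero, LinearMap.zero_apply]
  have h1 : Function.Injective (inc.lTensor K') :=
    Module.Flat.lTensor_preserves_injective_linearMap inc injective_inc
  have h2 : ∀ y, (inc.lTensor K') y = 0 := by
    intro y
    apply hinj
    rw [map_zero, ← LinearMap.comp_apply, ← LinearMap.lTensor_comp, hcomp, LinearMap.lTensor_zero,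
      LinearMap.zero_apply]
  have h3 : Subsingleton (K' ⊗[K] (K ⧸ I)) := by
    constructor
    intro y y'
    apply h1
    rw [h2, h2]
  have h4 : Subsingleton (K' ⧸ (I • (⊤ : Submodule K K'))) :=
    (TensorProduct.tensorQuotEquivQuotSMul K' I).symm.injective.subsingleton
  rw [Submodule.Quotient.subsingleton_iff] at h4
  apply hmK'
  have h5 : (m • (⊤ : Submodule K K')) = ⊤ :=
    eq_top_iff.mpr (h4.symm.le.trans (Submodule.smul_mono_left hIm))
  rw [Ideal.smul_top_eq_map] at h5
  have h6 : (1 : K') ∈ (Ideal.map (algebraMap K K') m).restrictScalars K := h5 ▸ Submodule.mem_top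
  exact (Ideal.eq_top_iff_one _).mpr h6

theorem flat_of_cover {A : Type u} [AddCommGroup A] [Module K A]
    (hc : Cover K (fun K' _ _ => Module.Flat K (K' ⊗[K] A))) : Module.Flat K A := by
  rw [Module.Flat.iff_lTensor_preserves_injective_linearMap]
  intro N N' _ _ _ _ i hi
  apply injective_of_cover
  intro m hm
  obtain ⟨K', _, _, hflat, hmK', hA⟩ := hc m hm
  refine ⟨K', inferInstance, inferInstance, hflat, hmK', ?_⟩
  have h1 : Function.Injective (i.lTensor (K' ⊗[K] A)) :=
    Module.Flat.lTensor_preserves_injective_linearMap i hi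
  rw [LinearMap.lTensor_tensor] at h1
  simpa using h1

end Family

/-! ### The local cover with infinite residue fields -/

section LocalCover
variable (K : Type u) [CommRing K] (m : Ideal K) [hm : m.IsMaximal]

/-- `K[X]` localised at the prime `m K[X]` -/
abbrev NagataLoc : Type u :=
  Localization.AtPrime (m.map (Polynomial.C : K →+* K[X]))

theorem nagataLoc_flat : Module.Flat K (NagataLoc K m) :=
  Module.Flat.trans K K[X] (NagataLoc K m)

theorem nagataLoc_map_ne_top : m.map (algebraMap K (NagataLoc K m)) ≠ ⊤ := by
  have h1 : algebraMap K (NagataLoc K m) =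
      (algebraMap K[X] (NagataLoc K m)).comp (Polynomial.C : K →+* K[X]) := rfl
  rw [h1, ← Ideal.map_map, Localization.AtPrime.map_eq_maximalIdeal]
  exact Ideal.IsPrime.ne_top'

theorem nagataLoc_infinite : Infinite (IsLocalRing.ResidueField (NagataLoc K m)) := by
  let F : ℕ → IsLocalRing.ResidueField (NagataLoc K m) := fun n =>
    IsLocalRing.residue _ (algebraMap K[X] (NagataLoc K m) (Polynomial.X ^ n))
  refine Infinite.of_injective F ?_
  intro n n' hnn
  by_contra hne
  have h1 : IsLocalRing.residue (NagataLoc K m)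
      (algebraMap K[X] (NagataLoc K m) (Polynomial.X ^ n - Polynomial.X ^ n')) = 0 := by
    rw [map_sub, map_sub, sub_eq_zero]
    exact hnn
  rw [IsLocalRing.residue_eq_zero_iff] at h1
  have h1' := (IsLocalization.AtPrime.to_map_mem_maximal_iff (NagataLoc K m)
      (m.map (Polynomial.C : K →+* K[X])) _).mp h1
  rw [Ideal.mem_map_C_iff] at h1'
  have h2 := h1' n
  rw [Polynomial.coeff_sub, Polynomial.coeff_X_pow, Polynomial.coeff_X_pow, if_pos rfl,
    if_neg hne, sub_zero] at h2
  exact hm.ne_top ((Ideal.eq_top_iff_one _).mpr h2)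

end LocalCover

/-! ### Assembly -/

section Assembly
variable {K : Type u} [CommRing K] {A B P : Type u} [CommRing A] [CommRing B] [CommRing P]
  [Algebra K A] [Algebra K B] [Algebra K P] {g : AG A B P} (h : IsLin K g)

theorem bc_isLin (K' : Type u) [CommRing K'] [Algebra K K'] : IsLin K' (bc h K') where
  σ k := (bcHom K K' h.σₐ).commutes k
  τ k := (bcHom K K' h.τₐ).commutes k
  ε k := (bcHom K K' h.εₐ).commutes k
  ι k := (bcHom K K' h.ιₐ).commutes k
  p0 k := (bcHom K K' h.p0ₐ).commutes k
  p1 k := (bcHom K K' h.p1ₐ).commutes k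
  γ k := (bcHom K K' h.γₐ).commutes k

theorem bc_span (hspan : letI := g.σ.toAlgebra; Submodule.span A (Set.range g.τ) = ⊤)
    (K' : Type u) [CommRing K'] [Algebra K K'] :
    letI := (bc h K').σ.toAlgebra;
    Submodule.span (K' ⊗[K] A) (Set.range (bc h K').τ) = ⊤ := by
  letI := g.σ.toAlgebra
  letI := (bc h K').σ.toAlgebra
  rw [eq_top_iff]
  suffices hall : ∀ y : K' ⊗[K] B, y ∈ Submodule.span (K' ⊗[K] A) (Set.range (bc h K').τ) from
    fun y _ => hall y
  intro y
  induction y using TensorProduct.induction_on with
  | zero => exact Submodule.zero_mem _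
  | tmul k b =>
    have hb : b ∈ Submodule.span A (Set.range g.τ) := hspan ▸ Submodule.mem_top
    induction hb using Submodule.span_induction with
    | mem b hb =>
      obtain ⟨a, rfl⟩ := hb
      exact Submodule.subset_span ⟨k ⊗ₜ a, bc_τ_tmul h K' k a⟩
    | zero => simp
    | add b b' _ _ hb hb' =>
      rw [tmul_add]
      exact Submodule.add_mem _ hb hb'
    | smul a b _ hb =>
      have : k ⊗ₜ[K] (a • b) = ((1 : K') ⊗ₜ[K] a) • (k ⊗ₜ[K] b) := by
        rw [Algebra.smul_def, Algebra.smul_def]
        show _ = (bc h K').σ (1 ⊗ₜ a) * _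
        rw [bc_σ_tmul, Algebra.TensorProduct.tmul_mul_tmul, one_mul]
        rfl
      rw [this]
      exact Submodule.smul_mem _ _ hb
  | add y y' hy hy' => exact Submodule.add_mem _ hy hy'

theorem Φ_surjective (hspan : letI := g.σ.toAlgebra; Submodule.span A (Set.range g.τ) = ⊤) :
    Function.Surjective (Φ h) := by
  letI := g.σ.toAlgebra
  intro b
  have hb : b ∈ Submodule.span A (Set.range g.τ) := hspan ▸ Submodule.mem_top
  induction hb using Submodule.span_induction with
  | mem b hb =>
    obtain ⟨a, rfl⟩ := hb
    exact ⟨a ⊗ₜ 1, by simp⟩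
  | zero => exact ⟨0, map_zero _⟩
  | add b b' _ _ hb hb' =>
    obtain ⟨z, rfl⟩ := hb
    obtain ⟨z', rfl⟩ := hb'
    exact ⟨z + z', map_add _ _ _⟩
  | smul a b _ hb =>
    obtain ⟨z, rfl⟩ := hb
    refine ⟨((1 : A) ⊗ₜ[K] a) * z, ?_⟩
    rw [map_mul, Φ_tmul, map_one, one_mul, Algebra.smul_def]
    rfl

theorem Φ_lTensor (K' : Type u) [CommRing K'] [Algebra K K'] (z : K' ⊗[K] (A ⊗[K] A)) :
    ((Φ h).toLinearMap.lTensor K') z =
      Φ (bc_isLin h K') (AlgebraTensorModule.distribBaseChange K K' A A z) := by
  induction z using TensorProduct.induction_on with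
  | zero => simp
  | tmul k w =>
    induction w using TensorProduct.induction_on with
    | zero => simp
    | tmul a a' =>
      rw [AlgebraTensorModule.distribBaseChange_tmul, Φ_tmul, bc_τ_tmul, bc_σ_tmul,
        Algebra.TensorProduct.tmul_mul_tmul, mul_one]
      simp
    | add w w' hw hw' =>
      rw [tmul_add, map_add, map_add, map_add, hw, hw']
  | add z z' hz hz' => rw [map_add, map_add, map_add, hz, hz']

/-- Local structure at the Nagata localisation of a maximal ideal. -/
theorem local_structure (hinj : Function.Injective (algebraMap K A))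
    (hK : ∀ a, a ∈ g.C ↔ a ∈ Set.range (algebraMap K A))
    (hspan : letI := g.σ.toAlgebra; Submodule.span A (Set.range g.τ) = ⊤)
    (m : Ideal K) [hm : m.IsMaximal] :
    Module.Free (NagataLoc K m) (NagataLoc K m ⊗[K] A) ∧
      Function.Bijective (Φ (bc_isLin h (NagataLoc K m))) := by
  have hflat := nagataLoc_flat K m
  obtain ⟨hinj', hK'⟩ := bc_invariants_of_flat h (NagataLoc K m) hinj hK
  have := nagataLoc_infinite K m
  obtain ⟨r, x, hx⟩ := exists_tau_basis (bc h (NagataLoc K m)) hK' hinj'
    (bc_span h hspan (NagataLoc K m))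
  have hb := bijective_linearCombination_K (g := bc h (NagataLoc K m)) hinj' hK' r x hx
  refine ⟨Module.Free.of_basis (Basis.ofRepr (LinearEquiv.ofBijective _ hb).symm), ?_⟩
  exact Φ_bijective (bc_isLin h (NagataLoc K m)) hinj' hK' r x hx

/-- **Finite flat equivalence relations, affine case (ring level).** -/
theorem flat_and_bijective (hinj : Function.Injective (algebraMap K A))
    (hK : ∀ a, a ∈ g.C ↔ a ∈ Set.range (algebraMap K A))
    (hspan : letI := g.σ.toAlgebra; Submodule.span A (Set.range g.τ) = ⊤) :
    Module.Flat K A ∧ Function.Bijective (Φ h) := by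
  constructor
  · apply flat_of_cover
    intro m hm
    obtain ⟨hfree, -⟩ := local_structure h hinj hK hspan m
    have hflat := nagataLoc_flat K m
    refine ⟨NagataLoc K m, inferInstance, inferInstance, hflat, nagataLoc_map_ne_top K m, ?_⟩
    exact Module.Flat.trans K (NagataLoc K m) (NagataLoc K m ⊗[K] A)
  · refine ⟨?_, Φ_surjective h hspan⟩
    apply injective_of_cover (Φ h).toLinearMap
    intro m hm
    obtain ⟨-, hbij⟩ := local_structure h hinj hK hspan m
    refine ⟨NagataLoc K m, inferInstance, inferInstance, nagataLoc_flat K m,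
      nagataLoc_map_ne_top K m, ?_⟩
    intro z z' hzz
    rw [Φ_lTensor, Φ_lTensor] at hzz
    exact (AlgebraTensorModule.distribBaseChange K (NagataLoc K m) A A).injective (hbij.1 hzz)

end Assembly

end Groth.Agent.Lib.T2H7.GrpdDesc
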