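import Mathlib
import Groth.Agent.Lib.T2H7GrpdBridgeB
import Groth.Agent.Lib.T2H7GrpdDesc

/-!
# Finite flat equivalence relations on affine schemes (helper7)

For an affine groupoid scheme `(U, R, s, t, c)` with `s, t` finite locally free and `j = (t, s)` a
monomorphism, `U → Spec C` is finite locally free and `R = U ×_M U`.
-/

set_option autoImplicit false
set_option linter.style.haveILetI false
set_option linter.unusedSectionVars false
set_option backward.isDefEq.respectTransparency false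
universe u

open CategoryTheory CategoryTheory.Limits AlgebraicGeometry TensorProduct
open Groth.Agent.Lib.T2H7.GrpdAlg Groth.Agent.Lib.T2H7.GrpdBridge Groth.Agent.Lib.T2H7.GrpdPts
open Groth.Agent.Lib.T2H7.GrpdBC Groth.Agent.Lib.T2H7.GrpdLoc Groth.Agent.Lib.T2H7.GrpdDesc
open Groth.Agent.Lib.T2H7.GrpdBridgeB

namespace Groth.Agent.Lib.T2H7.GrpdFin

variable {S : Scheme.{u}} (G : Grpd.GroupoidScheme S)

section Span
variable [IsAffine G.U] [IsAffine G.R] [IsFinite G.s] [Flat G.s] [LocallyOfFinitePresentation G.s]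

/-- `A ⊗[ℤ] A → B`, `a ⊗ a' ↦ τ a * σ a'` -/
noncomputable def Θ : Γ(G.U, ⊤) ⊗[ℤ] Γ(G.U, ⊤) →+* Γ(G.R, ⊤) :=
  (Algebra.TensorProduct.productMap (G.t.appTop.hom.toIntAlgHom)
    (G.s.appTop.hom.toIntAlgHom)).toRingHom

theorem Θ_tmul (a a' : Γ(G.U, ⊤)) : Θ G (a ⊗ₜ a') = G.t.appTop.hom a * G.s.appTop.hom a' := by
  simp [Θ]

theorem Θ_surjective [Mono G.j] : Function.Surjective (Θ G) := by
  have hepi : Epi (CommRingCat.ofHom (Θ G)) := by
    constructor
    intro W ρ₁ ρ₂ hρ
    have hτ : G.t.appTop ≫ ρ₁ = G.t.appTop ≫ ρ₂ := by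
      ext a
      have := congrArg (fun φ => φ.hom (a ⊗ₜ[ℤ] (1 : Γ(G.U, ⊤)))) hρ
      simpa [Θ_tmul] using this
    have hσ : G.s.appTop ≫ ρ₁ = G.s.appTop ≫ ρ₂ := by
      ext a
      have := congrArg (fun φ => φ.hom ((1 : Γ(G.U, ⊤)) ⊗ₜ[ℤ] a)) hρ
      simpa [Θ_tmul] using this
    have ht : (Spec.map ρ₁ ≫ G.R.isoSpec.inv) ≫ G.t = (Spec.map ρ₂ ≫ G.R.isoSpec.inv) ≫ G.t := by
      rw [Category.assoc, Category.assoc, ← Scheme.isoSpec_inv_naturality,
        ← Spec.map_comp_assoc, ← Spec.map_comp_assoc, hτ]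
    have hs : (Spec.map ρ₁ ≫ G.R.isoSpec.inv) ≫ G.s = (Spec.map ρ₂ ≫ G.R.isoSpec.inv) ≫ G.s := by
      rw [Category.assoc, Category.assoc, ← Scheme.isoSpec_inv_naturality,
        ← Spec.map_comp_assoc, ← Spec.map_comp_assoc, hσ]
    have hj : (Spec.map ρ₁ ≫ G.R.isoSpec.inv) ≫ G.j = (Spec.map ρ₂ ≫ G.R.isoSpec.inv) ≫ G.j := by
      apply pullback.hom_ext
      · simp only [Category.assoc, Grpd.GroupoidScheme.j, pullback.lift_fst]
        simpa only [Category.assoc] using ht
      · simp only [Category.assoc, Grpd.GroupoidScheme.j, pullback.lift_snd]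
        simpa only [Category.assoc] using hs
    have h1 := (cancel_mono G.j).mp hj
    have h2 := (cancel_mono G.R.isoSpec.inv).mp h1
    exact Spec.map_injective h2
  have hfin : (Θ G).Finite := by
    have h1 : ((Θ G).comp
        (Algebra.TensorProduct.includeRight : Γ(G.U, ⊤) →ₐ[ℤ] Γ(G.U, ⊤) ⊗[ℤ] Γ(G.U, ⊤)).toRingHom)
        = G.s.appTop.hom := by
      ext a
      simp [Θ]
    apply RingHom.Finite.of_comp_finite (f := (Algebra.TensorProduct.includeRight :
      Γ(G.U, ⊤) →ₐ[ℤ] Γ(G.U, ⊤) ⊗[ℤ] Γ(G.U, ⊤)).toRingHom)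
    rw [h1]
    exact G.s.finite_appTop
  exact RingHom.surjective_of_epi_of_finite (CommRingCat.ofHom (Θ G)) hfin

theorem span_of_mono [Mono G.j] : letI := (toAG G).σ.toAlgebra;
    Submodule.span Γ(G.U, ⊤) (Set.range (toAG G).τ) = ⊤ := by
  letI := (toAG G).σ.toAlgebra
  rw [eq_top_iff]
  intro b _
  obtain ⟨z, rfl⟩ := Θ_surjective G b
  induction z using TensorProduct.induction_on with
  | zero => simp
  | tmul a a' =>
    rw [Θ_tmul]
    have : G.t.appTop.hom a * G.s.appTop.hom a' = a' • (toAG G).τ a := by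
      rw [Algebra.smul_def, mul_comm]
      rfl
    rw [this]
    exact Submodule.smul_mem _ _ (Submodule.subset_span ⟨a, rfl⟩)
  | add z z' hz hz' =>
    rw [map_add]
    exact Submodule.add_mem _ (hz trivial) (hz' trivial)

end Span

section Main
variable [IsAffine G.U] [IsAffine G.R] [IsFinite G.s] [Flat G.s] [LocallyOfFinitePresentation G.s]

theorem flat_bij [Mono G.j] : letI := (toAG G).algB; letI := (toAG G).algP;
    Module.Flat (toAG G).C Γ(G.U, ⊤) ∧ Function.Bijective (Φ (isLinC (toAG G))) := by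
  letI := (toAG G).algB
  letI := (toAG G).algP
  exact flat_and_bijective (isLinC (toAG G)) Subtype.val_injective (hK_C (toAG G)) (span_of_mono G)

instance flat_toQuot [Mono G.j] : Flat G.toQuot := by
  unfold Grpd.GroupoidScheme.toQuot
  have h1 : Flat (Spec.map (CommRingCat.ofHom G.invariants.subtype)) := by
    rw [Flat.SpecMap_iff]
    have := (flat_bij G).1
    exact (RingHom.flat_algebraMap_iff (R := (toAG G).C) (S := Γ(G.U, ⊤))).mpr this
  infer_instance

theorem isPushout_ring [Mono G.j] :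
    IsPushout (CommRingCat.ofHom G.invariants.subtype) (CommRingCat.ofHom G.invariants.subtype)
      G.t.appTop G.s.appTop := by
  letI := (toAG G).algB
  letI := (toAG G).algP
  have hbij := (flat_bij G).2
  let e : (Γ(G.U, ⊤) ⊗[(toAG G).C] Γ(G.U, ⊤)) ≃+* Γ(G.R, ⊤) :=
    RingEquiv.ofBijective (Φ (isLinC (toAG G))).toRingHom hbij
  have hT := CommRingCat.isPushout_tensorProduct (toAG G).C Γ(G.U, ⊤) Γ(G.U, ⊤)
  refine IsPushout.of_iso hT (Iso.refl _) (Iso.refl _) (Iso.refl _) e.toCommRingCatIso ?_ ?_ ?_ ?_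
  · rfl
  · rfl
  · ext a
    show Φ (isLinC (toAG G)) (a ⊗ₜ 1) = G.t.appTop.hom a
    rw [Φ_tmul, map_one, mul_one]
    rfl
  · ext a
    show Φ (isLinC (toAG G)) (1 ⊗ₜ a) = G.s.appTop.hom a
    rw [Φ_tmul, map_one, one_mul]
    rfl

theorem isPullback_toQuot [Mono G.j] : IsPullback G.t G.s G.toQuot G.toQuot := by
  have h1 := isPullback_SpecMap_of_isPushout _ _ _ _ (isPushout_ring G)
  refine IsPullback.of_iso h1 G.R.isoSpec.symm G.U.isoSpec.symm G.U.isoSpec.symm (Iso.refl _)
    ?_ ?_ ?_ ?_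
  · exact Scheme.isoSpec_inv_naturality G.t
  · exact Scheme.isoSpec_inv_naturality G.s
  · simp only [Iso.refl_hom, Category.comp_id, Iso.symm_hom]
    unfold Grpd.GroupoidScheme.toQuot
    have : G.U.isoSpec.inv ≫ G.U.toSpecΓ = 𝟙 _ := G.U.isoSpec.inv_hom_id
    rw [reassoc_of% this]
  · simp only [Iso.refl_hom, Category.comp_id, Iso.symm_hom]
    unfold Grpd.GroupoidScheme.toQuot
    have : G.U.isoSpec.inv ≫ G.U.toSpecΓ = 𝟙 _ := G.U.isoSpec.inv_hom_id
    rw [reassoc_of% this]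

instance isIntegralHom_toQuot : IsIntegralHom G.toQuot := by
  unfold Grpd.GroupoidScheme.toQuot
  have h1 : IsIntegralHom (Spec.map (CommRingCat.ofHom G.invariants.subtype)) := by
    rw [IsIntegralHom.SpecMap_iff]
    have := (toAG G).isIntegral
    exact fun a => this.isIntegral a
  infer_instance

theorem cover_toQuot [Mono G.j] :
    (@Surjective ⊓ @Flat ⊓ @QuasiCompact : MorphismProperty Scheme.{u}) G.toQuot :=
  ⟨⟨⟨toQuot_surjective G⟩, inferInstance⟩, inferInstance⟩

instance lfp_toQuot [Mono G.j] [IsFinite G.t] [Flat G.t] [LocallyOfFinitePresentation G.t] :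
    LocallyOfFinitePresentation G.toQuot :=
  MorphismProperty.of_isPullback_of_descendsAlong (P := @LocallyOfFinitePresentation)
    (Q := (@Surjective ⊓ @Flat ⊓ @QuasiCompact : MorphismProperty Scheme.{u}))
    (isPullback_toQuot G) (cover_toQuot G) inferInstance

instance isFinite_toQuot [Mono G.j] [IsFinite G.t] [Flat G.t] [LocallyOfFinitePresentation G.t] :
    IsFinite G.toQuot := by
  rw [IsFinite.iff_isIntegralHom_and_locallyOfFiniteType]
  exact ⟨inferInstance, inferInstance⟩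

end Main

end Groth.Agent.Lib.T2H7.GrpdFin
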