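import Mathlib
import Groth.Prelude.Def_Grpd
import Groth.Agent.Lib.T2H7GrpdBridge

/-!
# Invariant affine open neighbourhoods for finite locally free groupoids (helper7)
-/

set_option autoImplicit false
set_option linter.style.haveILetI false
set_option linter.unusedSectionVars false
set_option backward.isDefEq.respectTransparency false
universe u

open CategoryTheory CategoryTheory.Limits AlgebraicGeometry
open Groth.Agent.Lib.T2H7.GrpdAlg Groth.Agent.Lib.T2H7.GrpdNorm Groth.Agent.Lib.T2H7.GrpdBridge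

namespace Groth.Agent.Lib.T2H7.GrpdInv

section Affine

theorem mem_basicOpen_iff_toSpecΓ {X : Scheme.{u}} (f : Γ(X, ⊤)) (x : X) :
    x ∈ X.basicOpen f ↔ f ∉ (X.toSpecΓ x).asIdeal := by
  rw [← Scheme.toSpecΓ_preimage_basicOpen]
  rfl

theorem toSpecΓ_map {X Y : Scheme.{u}} (φ : X ⟶ Y) (x : X) :
    PrimeSpectrum.comap φ.appTop.hom (X.toSpecΓ x) = Y.toSpecΓ (φ x) := by
  have := congrArg (fun ψ : X ⟶ Spec Γ(Y, ⊤) => ψ x) (Scheme.toSpecΓ_naturality φ)
  simp only [Scheme.Hom.comp_apply] at this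
  exact this.symm

/-- the norm of a function along a finite locally free morphism to an affine scheme -/
theorem exists_norm {X Y : Scheme.{u}} [IsAffine Y] (φ : X ⟶ Y) [IsFinite φ] [Flat φ]
    [LocallyOfFinitePresentation φ] (b : Γ(X, ⊤)) :
    ∃ g : Γ(Y, ⊤), ∀ y : Y, y ∈ Y.basicOpen g ↔ ∀ x : X, φ x = y → x ∈ X.basicOpen b := by
  haveI : IsAffine X := isAffine_of_isAffineHom φ
  letI := φ.appTop.hom.toAlgebra
  have hfin : Module.Finite Γ(Y, ⊤) Γ(X, ⊤) := φ.finite_appTop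
  have hflat : Module.Flat Γ(Y, ⊤) Γ(X, ⊤) := φ.flat_appTop
  have hfp : Algebra.FinitePresentation Γ(Y, ⊤) Γ(X, ⊤) := φ.finitePresentation_appTop
  have : Module.FinitePresentation Γ(Y, ⊤) Γ(X, ⊤) :=
    Module.FinitePresentation.of_finite_of_finitePresentation _ _
  have : Module.Projective Γ(Y, ⊤) Γ(X, ⊤) := Module.Flat.projective_of_finitePresentation
  obtain ⟨n, hn⟩ := exists_isNM Γ(Y, ⊤) Γ(X, ⊤)
  obtain ⟨ν, hν⟩ := hn b
  refine ⟨ν, fun y => ?_⟩
  rw [mem_basicOpen_iff_toSpecΓ, isNM_mem_iff hν (Y.toSpecΓ y).asIdeal]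
  constructor
  · intro h x hx
    rw [mem_basicOpen_iff_toSpecΓ]
    intro hxb
    apply h
    refine ⟨X.toSpecΓ x, ?_, hxb⟩
    have := toSpecΓ_map φ x
    rw [hx] at this
    exact congrArg PrimeSpectrum.asIdeal this
  · rintro h ⟨q, hq, hbq⟩
    obtain ⟨x, rfl⟩ := (toSpecΓ_bijective X).2 q
    have hx : φ x = y := by
      apply (toSpecΓ_bijective Y).1
      rw [← toSpecΓ_map]
      exact PrimeSpectrum.ext hq
    have := h x hx
    rw [mem_basicOpen_iff_toSpecΓ] at this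
    exact this hbq

/-- prime avoidance: a finite set of points of an open subset of an affine scheme has a basic open
neighbourhood inside that open subset -/
theorem exists_basicOpen_finite {Y : Scheme.{u}} [IsAffine Y] (W : Y.Opens) (F : Set Y)
    (hF : F.Finite) (hFW : F ⊆ W) :
    ∃ f : Γ(Y, ⊤), Y.basicOpen f ≤ W ∧ F ⊆ Y.basicOpen f := by
  rcases F.eq_empty_or_nonempty with rfl | ⟨a, ha⟩
  · refine ⟨0, ?_, Set.empty_subset _⟩
    rw [Scheme.basicOpen_zero]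
    exact bot_le
  have hclosed : IsClosed (Y.toSpecΓ '' (W : Set Y)ᶜ) :=
    (Y.toSpecΓ.homeomorph.isClosedMap) _ W.isOpen.isClosed_compl
  set I := PrimeSpectrum.vanishingIdeal (Y.toSpecΓ '' (W : Set Y)ᶜ) with hI
  have hZ : PrimeSpectrum.zeroLocus (I : Set Γ(Y, ⊤)) = Y.toSpecΓ '' (W : Set Y)ᶜ := by
    rw [hI, PrimeSpectrum.zeroLocus_vanishingIdeal_eq_closure, hclosed.closure_eq]
  have hnot : ¬ ((I : Set Γ(Y, ⊤)) ⊆ ⋃ x ∈ (hF.toFinset : Set Y),
      ((Y.toSpecΓ x).asIdeal : Set Γ(Y, ⊤))) := by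
    rw [Ideal.subset_union_prime (f := fun x : Y => (Y.toSpecΓ x).asIdeal) a a
      (fun i _ _ _ => (Y.toSpecΓ i).isPrime)]
    rintro ⟨x, hx, hIx⟩
    rw [Set.Finite.mem_toFinset] at hx
    have : Y.toSpecΓ x ∈ PrimeSpectrum.zeroLocus (I : Set Γ(Y, ⊤)) := hIx
    rw [hZ] at this
    obtain ⟨x', hx', hxx'⟩ := this
    have := (toSpecΓ_bijective Y).1 hxx'
    subst this
    exact hx' (hFW hx)
  obtain ⟨f, hfI, hfF⟩ := Set.not_subset.mp hnot
  refine ⟨f, ?_, ?_⟩
  · intro x hx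
    rw [mem_basicOpen_iff_toSpecΓ] at hx
    by_contra hxW
    apply hx
    have : Y.toSpecΓ x ∈ PrimeSpectrum.zeroLocus (I : Set Γ(Y, ⊤)) := by
      rw [hZ]
      exact ⟨x, hxW, rfl⟩
    exact this hfI
  · intro x hx
    rw [SetLike.mem_coe, mem_basicOpen_iff_toSpecΓ]
    intro hfx
    apply hfF
    simp only [Set.mem_iUnion]
    exact ⟨x, by simpa using hx, hfx⟩

theorem mem_basicOpen_iff_of_opens {X : Scheme.{u}} {V : X.Opens} (f : Γ(X, V)) (x : X) :
    x ∈ X.basicOpen f ↔ ∃ hx : x ∈ V, (⟨x, hx⟩ : V) ∈ V.toScheme.basicOpen (V.topIso.inv f) := by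
  rw [← Scheme.Opens.ι_image_basicOpen_topIso_inv]
  constructor
  · rintro ⟨y, hy, rfl⟩
    exact ⟨y.2, hy⟩
  · rintro ⟨hx, h⟩
    exact ⟨⟨x, hx⟩, h, rfl⟩

theorem exists_basicOpen_finite_of_isAffineOpen {X : Scheme.{u}} {V : X.Opens}
    (hV : IsAffineOpen V) (W : X.Opens) (F : Set X) (hF : F.Finite) (hFW : F ⊆ W)
    (hFV : F ⊆ V) :
    ∃ f : Γ(X, V), X.basicOpen f ≤ W ∧ F ⊆ X.basicOpen f := by
  have : IsAffine V := hV
  obtain ⟨r, h1, h2⟩ := exists_basicOpen_finite (Y := V) (V.ι ⁻¹ᵁ W) (V.ι ⁻¹' F)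
    (hF.preimage V.ι.isOpenEmbedding.injective.injOn) (fun x hx => hFW hx)
  refine ⟨V.topIso.hom.hom r, ?_, ?_⟩
  · intro x hx
    rw [mem_basicOpen_iff_of_opens] at hx
    obtain ⟨hxV, hx⟩ := hx
    have hr : V.topIso.inv (V.topIso.hom.hom r) = r := by
      rw [← CommRingCat.comp_apply, Iso.hom_inv_id]; rfl
    rw [hr] at hx
    exact h1 hx
  · intro x hx
    rw [SetLike.mem_coe, mem_basicOpen_iff_of_opens]
    refine ⟨hFV hx, ?_⟩
    have hr : V.topIso.inv (V.topIso.hom.hom r) = r := by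
      rw [← CommRingCat.comp_apply, Iso.hom_inv_id]; rfl
    rw [hr]
    exact h2 (show V.ι ⟨x, hFV hx⟩ ∈ F from hx)

end Affine

section Core

variable {S : Scheme.{u}} (G : Grpd.GroupoidScheme S)

theorem exists_comp (r' r : G.R) (h : G.s r' = G.t r) :
    ∃ r'' : G.R, G.s r'' = G.s r ∧ G.t r'' = G.t r' := by
  obtain ⟨z, hz1, hz2⟩ := Scheme.Pullback.exists_preimage_pullback r' r h
  refine ⟨G.c z, ?_, ?_⟩
  · rw [← Scheme.Hom.comp_apply, Groth.Agent.S1880.c_s, Scheme.Hom.comp_apply, hz2]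
  · rw [← Scheme.Hom.comp_apply, Groth.Agent.S1880.c_t, Scheme.Hom.comp_apply, hz1]

theorem s_i (r : G.R) : G.s (G.i r) = G.t r := by
  rw [← Scheme.Hom.comp_apply, G.i_s]

theorem t_i (r : G.R) : G.t (G.i r) = G.s r := by
  rw [← Scheme.Hom.comp_apply, G.i_t]

theorem s_e (x : G.U) : G.s (G.e x) = x := by
  rw [← Scheme.Hom.comp_apply, G.e_s]; rfl

theorem t_e (x : G.U) : G.t (G.e x) = x := by
  rw [← Scheme.Hom.comp_apply, G.e_t]; rfl

/-- the largest invariant subset of `D`: points whose orbit lies in `D` -/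
def core (D : Set G.U) : Set G.U := {x | ∀ r : G.R, G.s r = x → G.t r ∈ D}

theorem core_subset (D : Set G.U) : core G D ⊆ D := fun x hx => by
  have := hx (G.e x) (s_e G x)
  rwa [t_e] at this

theorem core_mono {D D' : Set G.U} (h : D ⊆ D') : core G D ⊆ core G D' :=
  fun _ hx r hr => h (hx r hr)

theorem s_mem_core_iff (D : Set G.U) (r : G.R) : G.s r ∈ core G D ↔ G.t r ∈ core G D := by
  constructor
  · intro h r' hr'
    obtain ⟨r'', h1, h2⟩ := exists_comp G r' r hr'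
    rw [← h2]
    exact h r'' h1
  · intro h r' hr'
    obtain ⟨r'', h1, h2⟩ := exists_comp G r' (G.i r) (by rw [t_i, hr'])
    rw [← h2]
    exact h r'' (by rw [h1, s_i])

theorem core_eq (D : Set G.U) : core G D = (G.s '' (G.t ⁻¹' Dᶜ))ᶜ := by
  ext x
  simp only [core, Set.mem_ofPred_eq, Set.mem_compl_iff, Set.mem_image, Set.mem_preimage,
    not_exists, not_and]
  constructor
  · intro h r hr hsr
    exact hr (h r hsr)
  · intro h r hsr
    by_contra hr
    exact h r hr hsr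

theorem isOpen_core [IsFinite G.s] (D : G.U.Opens) : IsOpen (core G (D : Set G.U)) := by
  rw [core_eq, isOpen_compl_iff]
  exact G.s.isClosedMap _ ((G.t ⁻¹ᵁ D).isOpen.isClosed_compl)

end Core

section Main

variable {S : Scheme.{u}} (G : Grpd.GroupoidScheme S)

theorem morphismRestrict_apply_coe {X Y : Scheme.{u}} (φ : X ⟶ Y) (D : Y.Opens)
    (x : (φ ⁻¹ᵁ D).toScheme) : D.ι ((φ ∣_ D) x) = φ ((φ ⁻¹ᵁ D).ι x) := by
  have := congrArg (fun ψ : (φ ⁻¹ᵁ D).toScheme ⟶ Y => ψ x) (morphismRestrict_ι φ D)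
  simp only [Scheme.Hom.comp_apply] at this
  exact this

theorem exists_invariant_affine [IsFinite G.s] [Flat G.s] [LocallyOfFinitePresentation G.s]
    (u : G.U) (V : G.U.Opens) (hV : IsAffineOpen V)
    (huV : ∀ r : G.R, G.s r = u → G.t r ∈ V) :
    ∃ W : G.U.Opens, IsAffineOpen W ∧ u ∈ W ∧ G.s ⁻¹ᵁ W = G.t ⁻¹ᵁ W := by
  -- the largest invariant open in `V`
  let W' : G.U.Opens := ⟨core G (V : Set G.U), isOpen_core G V⟩
  have hucore : u ∈ core G (V : Set G.U) := huV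
  -- the orbit
  set F : Set G.U := G.t '' (G.s ⁻¹' {u}) with hF
  have hFfin : F.Finite := (G.s.finite_preimage_singleton u).image _
  have hFW' : F ⊆ W' := by
    rintro _ ⟨r, hr, rfl⟩
    have hr' : G.s r = u := hr
    show G.t r ∈ core G (V : Set G.U)
    rw [← s_mem_core_iff, hr']
    exact hucore
  have hFV : F ⊆ V := fun x hx => core_subset G _ (hFW' hx)
  obtain ⟨f, hfW', hFf⟩ := exists_basicOpen_finite_of_isAffineOpen hV W' F hFfin hFW' hFV
  set D : G.U.Opens := G.U.basicOpen f with hD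
  have hDaff : IsAffineOpen D := hV.basicOpen f
  haveI : IsAffine D := hDaff
  have hle : G.s ⁻¹ᵁ D ≤ G.t ⁻¹ᵁ V := by
    intro r hr
    have h1 : G.s r ∈ core G (V : Set G.U) := hfW' hr
    exact h1 r rfl
  haveI : LocallyOfFinitePresentation (G.s ∣_ D) := IsZariskiLocalAtTarget.restrict ‹_› D
  set b : Γ((G.s ⁻¹ᵁ D).toScheme, ⊤) :=
    (G.s ⁻¹ᵁ D).topIso.inv (G.R.presheaf.map (homOfLE hle).op (G.t.app V f)) with hb
  have hbmem : ∀ x : (G.s ⁻¹ᵁ D : G.R.Opens),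
      x ∈ (G.s ⁻¹ᵁ D).toScheme.basicOpen b ↔ G.t (x : G.R) ∈ D := by
    intro x
    have h1 := mem_basicOpen_iff_of_opens (G.R.presheaf.map (homOfLE hle).op (G.t.app V f))
      (x : G.R)
    have h2 : (x : G.R) ∈ G.R.basicOpen (G.R.presheaf.map (homOfLE hle).op (G.t.app V f)) ↔
        G.t (x : G.R) ∈ D := by
      rw [Scheme.basicOpen_res, ← Scheme.preimage_basicOpen]
      constructor
      · intro h3
        exact h3.2
      · intro h3
        exact ⟨x.2, h3⟩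
    rw [← h2, h1]
    constructor
    · intro h3
      exact ⟨x.2, h3⟩
    · intro h3
      exact h3.2
  obtain ⟨g, hg⟩ := exists_norm (G.s ∣_ D) b
  have hWaff : IsAffineOpen (D.ι ''ᵁ D.toScheme.basicOpen g) :=
    ((isAffineOpen_top D.toScheme).basicOpen g).image_of_isOpenImmersion D.ι
  have hWcore : ∀ x : G.U, x ∈ D.ι ''ᵁ D.toScheme.basicOpen g ↔ x ∈ core G (D : Set G.U) := by
    intro x
    constructor
    · rintro ⟨y, hy, rfl⟩ r hr
      have hrD : r ∈ G.s ⁻¹ᵁ D := by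
        show G.s r ∈ D
        rw [hr]
        exact y.2
      have := (hg y).1 hy ⟨r, hrD⟩
        (D.ι.isOpenEmbedding.injective ((morphismRestrict_apply_coe G.s D _).trans hr))
      exact (hbmem ⟨r, hrD⟩).1 this
    · intro hx
      have hxD : x ∈ D := core_subset G _ hx
      refine ⟨⟨x, hxD⟩, ?_, rfl⟩
      rw [SetLike.mem_coe, hg]
      intro x' hx'
      rw [hbmem]
      apply hx
      have := morphismRestrict_apply_coe G.s D x'
      rw [hx'] at this
      exact this.symm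
  refine ⟨D.ι ''ᵁ D.toScheme.basicOpen g, hWaff, ?_, ?_⟩
  · rw [hWcore]
    intro r hr
    exact hFf ⟨r, hr, rfl⟩
  · ext r
    show G.s r ∈ D.ι ''ᵁ D.toScheme.basicOpen g ↔ G.t r ∈ D.ι ''ᵁ D.toScheme.basicOpen g
    rw [hWcore, hWcore, s_mem_core_iff]

end Main

end Groth.Agent.Lib.T2H7.GrpdInv
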