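import Mathlib
import Groth.Prelude.Def_Grpd
import Groth.Agent.Lib.Helper2Grpd
import Groth.Agent.Lib.T2H7GrpdInv

/-!
# Restriction of a groupoid scheme to an invariant open (helper7)
-/

set_option autoImplicit false
set_option linter.style.haveILetI false
set_option linter.unusedSectionVars false
set_option backward.isDefEq.respectTransparency false
universe u

open CategoryTheory CategoryTheory.Limits AlgebraicGeometry
open Groth.Agent.Lib.Helper2.Grpd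

namespace Groth.Agent.Lib.T2H7.GrpdRes

variable {S : Scheme.{u}} (G : Grpd.GroupoidScheme S) (W : G.U.Opens)

/-- lift a `T`-point of `R` with source in `W` to the open `s⁻¹ W` -/
noncomputable def liftR {T : Scheme.{u}} (α : T ⟶ G.R) (hα : ∀ x : T, G.s (α x) ∈ W) :
    T ⟶ (G.s ⁻¹ᵁ W).toScheme :=
  IsOpenImmersion.lift (G.s ⁻¹ᵁ W).ι α (by
    rintro _ ⟨x, rfl⟩
    rw [Scheme.Opens.range_ι]
    exact hα x)

@[reassoc (attr := simp)]
theorem liftR_ι {T : Scheme.{u}} (α : T ⟶ G.R) (hα : ∀ x : T, G.s (α x) ∈ W) :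
    liftR G W α hα ≫ (G.s ⁻¹ᵁ W).ι = α :=
  IsOpenImmersion.lift_fac _ _ _

/-- lift a `T`-point of `U` with values in `W` -/
noncomputable def liftU {T : Scheme.{u}} (α : T ⟶ G.U) (hα : ∀ x : T, α x ∈ W) :
    T ⟶ W.toScheme :=
  IsOpenImmersion.lift W.ι α (by
    rintro _ ⟨x, rfl⟩
    rw [Scheme.Opens.range_ι]
    exact hα x)

@[reassoc (attr := simp)]
theorem liftU_ι {T : Scheme.{u}} (α : T ⟶ G.U) (hα : ∀ x : T, α x ∈ W) :
    liftU G W α hα ≫ W.ι = α :=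
  IsOpenImmersion.lift_fac _ _ _

variable (hW : G.s ⁻¹ᵁ W = G.t ⁻¹ᵁ W)

include hW in
theorem t_mem (r : G.R) (hr : G.s r ∈ W) : G.t r ∈ W := by
  have : r ∈ G.s ⁻¹ᵁ W := hr
  rw [hW] at this
  exact this

/-- restricted target map -/
noncomputable def tW : (G.s ⁻¹ᵁ W).toScheme ⟶ W.toScheme :=
  liftU G W ((G.s ⁻¹ᵁ W).ι ≫ G.t) (fun x => by
    rw [Scheme.Hom.comp_apply]
    exact t_mem G W hW _ x.2)

@[reassoc (attr := simp)]
theorem tW_ι : tW G W hW ≫ W.ι = (G.s ⁻¹ᵁ W).ι ≫ G.t := liftU_ι _ _ _ _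

/-- restricted identity -/
noncomputable def eW : W.toScheme ⟶ (G.s ⁻¹ᵁ W).toScheme :=
  liftR G W (W.ι ≫ G.e) (fun x => by
    rw [Scheme.Hom.comp_apply, Groth.Agent.Lib.T2H7.GrpdInv.s_e]
    exact x.2)

@[reassoc (attr := simp)]
theorem eW_ι : eW G W ≫ (G.s ⁻¹ᵁ W).ι = W.ι ≫ G.e := liftR_ι _ _ _ _

/-- restricted inverse -/
noncomputable def iW : (G.s ⁻¹ᵁ W).toScheme ⟶ (G.s ⁻¹ᵁ W).toScheme :=
  liftR G W ((G.s ⁻¹ᵁ W).ι ≫ G.i) (fun x => by
    rw [Scheme.Hom.comp_apply, Groth.Agent.Lib.T2H7.GrpdInv.s_i]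
    exact t_mem G W hW _ x.2)

@[reassoc (attr := simp)]
theorem iW_ι : iW G W hW ≫ (G.s ⁻¹ᵁ W).ι = (G.s ⁻¹ᵁ W).ι ≫ G.i := liftR_ι _ _ _ _

/-- the map on composable pairs -/
noncomputable def pairMap : pullback (G.s ∣_ W) (tW G W hW) ⟶ pullback G.s G.t :=
  pullback.map (G.s ∣_ W) (tW G W hW) G.s G.t (G.s ⁻¹ᵁ W).ι (G.s ⁻¹ᵁ W).ι W.ι
    (morphismRestrict_ι G.s W) (tW_ι G W hW)

/-- restricted composition -/
noncomputable def cW : pullback (G.s ∣_ W) (tW G W hW) ⟶ (G.s ⁻¹ᵁ W).toScheme :=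
  liftR G W (pairMap G W hW ≫ G.c) (fun x => by
    rw [← Scheme.Hom.comp_apply, Category.assoc, Groth.Agent.S1880.c_s, ← Category.assoc,
      Scheme.Hom.comp_apply]
    have : pairMap G W hW ≫ pullback.snd G.s G.t =
        pullback.snd (G.s ∣_ W) (tW G W hW) ≫ (G.s ⁻¹ᵁ W).ι := by
      unfold pairMap
      rw [pullback.lift_snd]
    rw [this, Scheme.Hom.comp_apply]
    exact (pullback.snd (G.s ∣_ W) (tW G W hW) x).2)

@[reassoc (attr := simp)]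
theorem cW_ι : cW G W hW ≫ (G.s ⁻¹ᵁ W).ι = pairMap G W hW ≫ G.c := liftR_ι _ _ _ _

theorem lift_pairMap {T : Scheme.{u}} (α β : T ⟶ (G.s ⁻¹ᵁ W).toScheme)
    (h : α ≫ (G.s ∣_ W) = β ≫ tW G W hW)
    (h' : (α ≫ (G.s ⁻¹ᵁ W).ι) ≫ G.s = (β ≫ (G.s ⁻¹ᵁ W).ι) ≫ G.t) :
    pullback.lift α β h ≫ pairMap G W hW =
      pullback.lift (α ≫ (G.s ⁻¹ᵁ W).ι) (β ≫ (G.s ⁻¹ᵁ W).ι) h' := by
  unfold pairMap
  apply pullback.hom_ext <;> simp

theorem cond_ι {T : Scheme.{u}} (α β : T ⟶ (G.s ⁻¹ᵁ W).toScheme)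
    (h : α ≫ (G.s ∣_ W) = β ≫ tW G W hW) :
    (α ≫ (G.s ⁻¹ᵁ W).ι) ≫ G.s = (β ≫ (G.s ⁻¹ᵁ W).ι) ≫ G.t := by
  rw [Category.assoc, ← morphismRestrict_ι, reassoc_of% h, tW_ι, Category.assoc]

theorem lift_cW_ι {T : Scheme.{u}} (α β : T ⟶ (G.s ⁻¹ᵁ W).toScheme)
    (h : α ≫ (G.s ∣_ W) = β ≫ tW G W hW) :
    (pullback.lift α β h ≫ cW G W hW) ≫ (G.s ⁻¹ᵁ W).ι =
      comp G (α ≫ (G.s ⁻¹ᵁ W).ι) (β ≫ (G.s ⁻¹ᵁ W).ι) (cond_ι G W hW α β h) := by
  rw [Category.assoc, cW_ι, ← Category.assoc, lift_pairMap G W hW α β h (cond_ι G W hW α β h)]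
  rfl

/-- the restriction of a groupoid scheme to an invariant open subscheme -/
noncomputable def res : Grpd.GroupoidScheme S where
  U := W.toScheme
  R := (G.s ⁻¹ᵁ W).toScheme
  pU := W.ι ≫ G.pU
  pR := (G.s ⁻¹ᵁ W).ι ≫ G.pR
  s := G.s ∣_ W
  t := tW G W hW
  e := eW G W
  i := iW G W hW
  c := cW G W hW
  s_over := by rw [← Category.assoc, morphismRestrict_ι, Category.assoc, G.s_over]
  t_over := by rw [← Category.assoc, tW_ι, Category.assoc, G.t_over]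
  comp_s α β h := by
    rw [← cancel_mono W.ι, Category.assoc, morphismRestrict_ι, ← Category.assoc, lift_cW_ι,
      comp_s, Category.assoc, Category.assoc, morphismRestrict_ι]
  comp_t α β h := by
    rw [← cancel_mono W.ι, Category.assoc, tW_ι, ← Category.assoc, lift_cW_ι,
      comp_t, Category.assoc, Category.assoc, tW_ι]
  assoc α β γ h₁ h₂ := by
    rw [← cancel_mono (G.s ⁻¹ᵁ W).ι]
    refine (lift_cW_ι G W hW _ γ _).trans ?_
    refine Eq.trans ?_ (lift_cW_ι G W hW α _ _).symm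
    rw [comp_congr G _ (lift_cW_ι G W hW α β h₁) rfl,
      comp_congr G _ rfl (lift_cW_ι G W hW β γ h₂)]
    exact comp_assoc G _ _ _ _ _
  e_s := by
    rw [← cancel_mono W.ι, Category.assoc, morphismRestrict_ι, eW_ι_assoc, G.e_s,
      Category.comp_id, Category.id_comp]
  e_t := by
    rw [← cancel_mono W.ι, Category.assoc, tW_ι, eW_ι_assoc, G.e_t,
      Category.comp_id, Category.id_comp]
  comp_e α := by
    rw [← cancel_mono (G.s ⁻¹ᵁ W).ι, lift_cW_ι]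
    refine comp_e G _ _ ?_ _
    rw [Category.assoc, Category.assoc, eW_ι, ← Category.assoc (G.s ∣_ W), morphismRestrict_ι,
      Category.assoc, Category.assoc]
  e_comp α := by
    rw [← cancel_mono (G.s ⁻¹ᵁ W).ι, lift_cW_ι]
    refine e_comp G _ _ ?_ _
    rw [Category.assoc, Category.assoc, eW_ι, ← Category.assoc (tW G W hW), tW_ι,
      Category.assoc, Category.assoc]
  i_s := by
    rw [← cancel_mono W.ι, Category.assoc, morphismRestrict_ι, iW_ι_assoc, G.i_s, tW_ι]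
  i_t := by
    rw [← cancel_mono W.ι, Category.assoc, tW_ι, iW_ι_assoc, G.i_t, morphismRestrict_ι]
  comp_i α := by
    rw [← cancel_mono (G.s ⁻¹ᵁ W).ι, lift_cW_ι]
    rw [comp_congr G _ rfl (show (α ≫ iW G W hW) ≫ (G.s ⁻¹ᵁ W).ι = (α ≫ (G.s ⁻¹ᵁ W).ι) ≫ G.i by
      rw [Category.assoc, iW_ι, Category.assoc])]
    rw [comp_i]
    rw [Category.assoc, Category.assoc, Category.assoc, eW_ι, ← Category.assoc (tW G W hW), tW_ι,
      Category.assoc]
  i_comp α := by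
    rw [← cancel_mono (G.s ⁻¹ᵁ W).ι, lift_cW_ι]
    rw [comp_congr G _ (show (α ≫ iW G W hW) ≫ (G.s ⁻¹ᵁ W).ι = (α ≫ (G.s ⁻¹ᵁ W).ι) ≫ G.i by
      rw [Category.assoc, iW_ι, Category.assoc]) rfl]
    rw [i_comp]
    rw [Category.assoc, Category.assoc, Category.assoc, eW_ι, ← Category.assoc (G.s ∣_ W),
      morphismRestrict_ι, Category.assoc]

end Groth.Agent.Lib.T2H7.GrpdRes
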