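import Mathlib
import Groth.Prelude.Def_Grpd
import Groth.Agent.S7461
import Groth.Agent.Lib.T2H7GrpdRes
import Groth.Agent.Lib.T2H7GrpdFin

/-!
# Invariant sections over invariant opens, and the local quotient maps (helper7)
-/

set_option autoImplicit false
set_option linter.style.haveILetI false
set_option linter.unusedSectionVars false
set_option backward.isDefEq.respectTransparency false
universe u

open CategoryTheory CategoryTheory.Limits AlgebraicGeometry
open Groth.Agent.Lib.T2H7.GrpdRes Groth.Agent.Lib.T2H7.GrpdInv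

namespace Groth.Agent.Lib.T2H7.GrpdCinv

variable {S : Scheme.{u}} (G : Grpd.GroupoidScheme S)

section TProps

theorem isFinite_t [IsFinite G.s] : IsFinite G.t := by
  rw [← G.i_s]; infer_instance

theorem flat_t [Flat G.s] : Flat G.t := by
  rw [← G.i_s]; infer_instance

theorem lfp_t [LocallyOfFinitePresentation G.s] : LocallyOfFinitePresentation G.t := by
  rw [← G.i_s]; infer_instance

end TProps

variable (W : G.U.Opens) (hW : G.s ⁻¹ᵁ W = G.t ⁻¹ᵁ W)

/-- invariant sections over an invariant open -/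
noncomputable def Cinv : Subring Γ(G.U, W) :=
  RingHom.eqLocus (G.s.appLE W (G.s ⁻¹ᵁ W) le_rfl).hom (G.t.appLE W (G.s ⁻¹ᵁ W) hW.le).hom

theorem mem_Cinv (a : Γ(G.U, W)) : a ∈ Cinv G W hW ↔
    (G.s.appLE W (G.s ⁻¹ᵁ W) le_rfl).hom a = (G.t.appLE W (G.s ⁻¹ᵁ W) hW.le).hom a := Iff.rfl

/-- the local quotient map -/
noncomputable def qW : W.toScheme ⟶ Spec (CommRingCat.of (Cinv G W hW)) :=
  W.toSpecΓ ≫ Spec.map (CommRingCat.ofHom (Cinv G W hW).subtype)

section Bridge

theorem res_s_eq : (res G W hW).s = G.s.resLE W (G.s ⁻¹ᵁ W) le_rfl :=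
  (Scheme.Hom.resLE_eq_morphismRestrict G.s).symm

theorem res_t_eq : (res G W hW).t = G.t.resLE W (G.s ⁻¹ᵁ W) hW.le := by
  rw [← cancel_mono W.ι, Scheme.Hom.resLE_comp_ι]
  exact tW_ι G W hW

theorem res_s_appTop : (res G W hW).s.appTop =
    W.topIso.hom ≫ G.s.appLE W (G.s ⁻¹ᵁ W) le_rfl ≫ (G.s ⁻¹ᵁ W).topIso.inv := by
  rw [res_s_eq]
  exact Scheme.Hom.resLE_app_top _ _

theorem res_t_appTop : (res G W hW).t.appTop =
    W.topIso.hom ≫ G.t.appLE W (G.s ⁻¹ᵁ W) hW.le ≫ (G.s ⁻¹ᵁ W).topIso.inv := by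
  rw [res_t_eq]
  exact Scheme.Hom.resLE_app_top _ _

theorem mem_res_invariants_iff (a : Γ(W.toScheme, ⊤)) :
    a ∈ (res G W hW).invariants ↔ W.topIso.hom.hom a ∈ Cinv G W hW := by
  unfold Grpd.GroupoidScheme.invariants
  rw [RingHom.mem_eqLocus, res_s_appTop, res_t_appTop, mem_Cinv]
  simp only [CommRingCat.hom_comp, RingHom.coe_comp, Function.comp_apply]
  constructor
  · intro h
    exact (ConcreteCategory.bijective_of_isIso (G.s ⁻¹ᵁ W).topIso.inv).1 h
  · intro h
    rw [h]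

/-- `Cinv W ≃+* (res G W).invariants` -/
noncomputable def invEquiv : Cinv G W hW ≃+* (res G W hW).invariants where
  toFun a := ⟨W.topIso.inv.hom a.1, by
    rw [mem_res_invariants_iff]
    have : W.topIso.hom.hom (W.topIso.inv.hom a.1) = a.1 := by
      rw [← CommRingCat.comp_apply, Iso.inv_hom_id]; rfl
    rw [this]
    exact a.2⟩
  invFun a := ⟨W.topIso.hom.hom a.1, (mem_res_invariants_iff G W hW a.1).1 a.2⟩
  left_inv a := by
    apply Subtype.ext
    show W.topIso.hom.hom (W.topIso.inv.hom a.1) = a.1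
    rw [← CommRingCat.comp_apply, Iso.inv_hom_id]; rfl
  right_inv a := by
    apply Subtype.ext
    show W.topIso.inv.hom (W.topIso.hom.hom a.1) = a.1
    rw [← CommRingCat.comp_apply, Iso.hom_inv_id]; rfl
  map_mul' a b := by
    apply Subtype.ext
    exact map_mul W.topIso.inv.hom a.1 b.1
  map_add' a b := by
    apply Subtype.ext
    exact map_add W.topIso.inv.hom a.1 b.1

theorem qW_eq : qW G W hW = (res G W hW).toQuot ≫
    Spec.map (CommRingCat.ofHom (invEquiv G W hW).toRingHom) := by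
  unfold qW Grpd.GroupoidScheme.toQuot Scheme.Opens.toSpecΓ
  rw [Category.assoc, Category.assoc, ← Spec.map_comp, ← Spec.map_comp]
  rfl

instance isIso_SpecMap_invEquiv :
    IsIso (Spec.map (CommRingCat.ofHom (invEquiv G W hW).toRingHom)) := by
  have : IsIso (CommRingCat.ofHom (invEquiv G W hW).toRingHom) :=
    (invEquiv G W hW).toCommRingCatIso.isIso_hom
  infer_instance

end Bridge

section Props
open Groth.Agent.Lib.T2H7.GrpdBridge Groth.Agent.Lib.T2H7.GrpdFin

variable [IsFinite G.s] [Flat G.s] [LocallyOfFinitePresentation G.s]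

instance res_isFinite_s : IsFinite (res G W hW).s := inferInstanceAs (IsFinite (G.s ∣_ W))

instance res_flat_s : Flat (res G W hW).s := inferInstanceAs (Flat (G.s ∣_ W))

instance res_lfp_s : LocallyOfFinitePresentation (res G W hW).s :=
  IsZariskiLocalAtTarget.restrict (P := @LocallyOfFinitePresentation) ‹_› W

theorem res_s_apply (r : (res G W hW).R) : W.ι ((res G W hW).s r) = G.s ((G.s ⁻¹ᵁ W).ι r) := by
  have := congrArg (fun ψ : (G.s ⁻¹ᵁ W).toScheme ⟶ G.U => ψ r) (morphismRestrict_ι G.s W)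
  simp only [Scheme.Hom.comp_apply] at this
  exact this

theorem res_t_apply (r : (res G W hW).R) : W.ι ((res G W hW).t r) = G.t ((G.s ⁻¹ᵁ W).ι r) := by
  have := congrArg (fun ψ : (G.s ⁻¹ᵁ W).toScheme ⟶ G.U => ψ r) (tW_ι G W hW)
  simp only [Scheme.Hom.comp_apply] at this
  exact this

variable (hWa : IsAffineOpen W)

include hWa in
theorem res_isAffine_U : IsAffine (res G W hW).U := hWa

include hWa in
theorem res_isAffine_R : IsAffine (res G W hW).R := hWa.preimage G.s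

include hWa in
theorem qW_surjective : Function.Surjective (qW G W hW) := by
  haveI := res_isAffine_U G W hW hWa
  haveI := res_isAffine_R G W hW hWa
  rw [qW_eq]
  have h1 := toQuot_surjective (res G W hW)
  have h2 : Function.Surjective (Spec.map (CommRingCat.ofHom (invEquiv G W hW).toRingHom)) :=
    (ConcreteCategory.bijective_of_isIso
      (Spec.map (CommRingCat.ofHom (invEquiv G W hW).toRingHom)).base).2
  intro y
  obtain ⟨z, rfl⟩ := h2 y
  obtain ⟨x, rfl⟩ := h1 z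
  exact ⟨x, rfl⟩

include hWa in
theorem qW_eq_iff (x x' : W.toScheme) :
    qW G W hW x = qW G W hW x' ↔ ∃ r : G.R, G.t r = W.ι x ∧ G.s r = W.ι x' := by
  haveI := res_isAffine_U G W hW hWa
  haveI := res_isAffine_R G W hW hWa
  have h2 : Function.Injective (Spec.map (CommRingCat.ofHom (invEquiv G W hW).toRingHom)) :=
    (ConcreteCategory.bijective_of_isIso
      (Spec.map (CommRingCat.ofHom (invEquiv G W hW).toRingHom)).base).1
  have e1 : qW G W hW x = qW G W hW x' ↔
      (res G W hW).toQuot x = (res G W hW).toQuot x' := by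
    rw [qW_eq]
    exact h2.eq_iff
  refine e1.trans ((toQuot_eq_iff (res G W hW) x x').trans ?_)
  constructor
  · rintro ⟨r, h1, h3⟩
    refine ⟨(G.s ⁻¹ᵁ W).ι r, ?_, ?_⟩
    · rw [← res_t_apply, h1]
    · rw [← res_s_apply, h3]
  · rintro ⟨r, h1, h3⟩
    have hr : r ∈ G.s ⁻¹ᵁ W := by
      show G.s r ∈ W
      rw [h3]
      exact x'.2
    refine ⟨⟨r, hr⟩, ?_, ?_⟩
    · apply W.ι.isOpenEmbedding.injective
      rw [res_t_apply]
      exact h1
    · apply W.ι.isOpenEmbedding.injective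
      rw [res_s_apply]
      exact h3

include hWa in
theorem isIntegralHom_qW : IsIntegralHom (qW G W hW) := by
  haveI := res_isAffine_U G W hW hWa
  haveI := res_isAffine_R G W hW hWa
  rw [qW_eq]
  haveI : IsIntegralHom (res G W hW).toQuot := isIntegralHom_toQuot (res G W hW)
  infer_instance

end Props

section Sep

theorem qW_mem_basicOpen_iff (c : Cinv G W hW) (x : W.toScheme) :
    qW G W hW x ∈ PrimeSpectrum.basicOpen c ↔ W.ι x ∈ G.U.basicOpen c.1 := by
  have h1 : x ∈ W.toSpecΓ ⁻¹ᵁ PrimeSpectrum.basicOpen c.1 ↔ W.ι x ∈ G.U.basicOpen c.1 := by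
    rw [Scheme.Opens.toSpecΓ_preimage_basicOpen]
    rfl
  rw [← h1]
  rfl

variable [IsFinite G.s] [Flat G.s] [LocallyOfFinitePresentation G.s]

/-- separation by invariant functions: an invariant open neighbourhood of a point of an invariant
affine open `W` contains a basic open neighbourhood defined by an invariant function on `W` -/
theorem exists_basicOpen_le (hWa : IsAffineOpen W) (O : G.U.Opens)
    (hO : ∀ r : G.R, G.s r ∈ O ↔ G.t r ∈ O) (u : G.U) (huW : u ∈ W) (huO : u ∈ O) :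
    ∃ c : Cinv G W hW, u ∈ G.U.basicOpen c.1 ∧ G.U.basicOpen c.1 ≤ O := by
  haveI := isIntegralHom_qW G W hW hWa
  set Z : Set W.toScheme := (W.ι ⁻¹' (O : Set G.U))ᶜ with hZ
  have hZc : IsClosed Z := ((O.isOpen.preimage W.ι.continuous)).isClosed_compl
  have hqZ : IsClosed (qW G W hW '' Z) := (qW G W hW).isClosedMap _ hZc
  have hx : qW G W hW ⟨u, huW⟩ ∈ (qW G W hW '' Z)ᶜ := by
    rintro ⟨z, hz, hzx⟩
    obtain ⟨r, h1, h2⟩ := (qW_eq_iff G W hW hWa ⟨u, huW⟩ z).1 hzx.symm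
    apply hz
    show W.ι z ∈ O
    rw [← h2, hO, h1]
    exact huO
  obtain ⟨_, ⟨_, ⟨c, rfl⟩, rfl⟩, hxc, hcZ⟩ :=
    PrimeSpectrum.isBasis_basic_opens.exists_subset_of_mem_open hx hqZ.isOpen_compl
  refine ⟨c, ?_, ?_⟩
  · exact (qW_mem_basicOpen_iff G W hW c ⟨u, huW⟩).1 hxc
  · intro y hy
    have hyW : y ∈ W := G.U.basicOpen_le _ hy
    have h1 : qW G W hW ⟨y, hyW⟩ ∈ PrimeSpectrum.basicOpen c :=
      (qW_mem_basicOpen_iff G W hW c ⟨y, hyW⟩).2 hy
    have h2 := hcZ h1
    by_contra hyO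
    exact h2 ⟨⟨y, hyW⟩, hyO, rfl⟩

end Sep

section ResC

variable {W} {W' : G.U.Opens} (hW' : G.s ⁻¹ᵁ W' = G.t ⁻¹ᵁ W') (h : W' ≤ W)

theorem s_res_comm : G.U.presheaf.map (homOfLE h).op ≫ G.s.appLE W' (G.s ⁻¹ᵁ W') le_rfl =
    G.s.appLE W (G.s ⁻¹ᵁ W) le_rfl ≫ G.R.presheaf.map (homOfLE (G.s.preimage_mono h)).op := by
  rw [Scheme.Hom.map_appLE, Scheme.Hom.appLE_map]

theorem t_res_comm : G.U.presheaf.map (homOfLE h).op ≫ G.t.appLE W' (G.s ⁻¹ᵁ W') hW'.le =
    G.t.appLE W (G.s ⁻¹ᵁ W) hW.le ≫ G.R.presheaf.map (homOfLE (G.s.preimage_mono h)).op := by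
  rw [Scheme.Hom.map_appLE, Scheme.Hom.appLE_map]

theorem res_mem_Cinv (a : Γ(G.U, W)) (ha : a ∈ Cinv G W hW) :
    (G.U.presheaf.map (homOfLE h).op).hom a ∈ Cinv G W' hW' := by
  rw [mem_Cinv] at ha ⊢
  have h1 := congrArg (fun φ => φ.hom a) (s_res_comm G h)
  have h2 := congrArg (fun φ => φ.hom a) (t_res_comm G hW hW' h)
  simp only [CommRingCat.hom_comp, RingHom.coe_comp, Function.comp_apply] at h1 h2
  rw [h1, h2, ha]

/-- restriction of invariant sections -/
noncomputable def resC : Cinv G W hW →+* Cinv G W' hW' :=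
  ((G.U.presheaf.map (homOfLE h).op).hom.comp (Cinv G W hW).subtype).codRestrict
    (Cinv G W' hW') (fun a => res_mem_Cinv G hW hW' h a.1 a.2)

theorem resC_coe (a : Cinv G W hW) :
    (resC G hW hW' h a).1 = (G.U.presheaf.map (homOfLE h).op).hom a.1 := rfl

theorem qW_naturality : qW G W' hW' ≫ Spec.map (CommRingCat.ofHom (resC G hW hW' h)) =
    G.U.homOfLE h ≫ qW G W hW := by
  unfold qW
  rw [Category.assoc, ← Spec.map_comp, ← Scheme.Opens.toSpecΓ_SpecMap_presheaf_map_assoc _ _ h,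
    ← Spec.map_comp]
  rfl

end ResC

section Locz

variable (c : Cinv G W hW)

theorem basicOpen_s_appLE : G.R.basicOpen ((G.s.appLE W (G.s ⁻¹ᵁ W) le_rfl).hom c.1) =
    G.s ⁻¹ᵁ (G.U.basicOpen c.1) := by
  rw [Scheme.preimage_basicOpen, Scheme.Hom.appLE, CommRingCat.comp_apply, Scheme.basicOpen_res]
  exact inf_eq_right.mpr (G.R.basicOpen_le _)

theorem basicOpen_t_appLE : G.R.basicOpen ((G.t.appLE W (G.s ⁻¹ᵁ W) hW.le).hom c.1) =
    G.t ⁻¹ᵁ (G.U.basicOpen c.1) := by
  rw [Scheme.preimage_basicOpen, Scheme.Hom.appLE, CommRingCat.comp_apply, Scheme.basicOpen_res]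
  refine inf_eq_right.mpr ((G.R.basicOpen_le _).trans hW.ge)

theorem basicOpen_invariant :
    G.s ⁻¹ᵁ (G.U.basicOpen c.1) = G.t ⁻¹ᵁ (G.U.basicOpen c.1) := by
  rw [← basicOpen_s_appLE G W hW c, ← basicOpen_t_appLE G W hW c, (mem_Cinv G W hW c.1).1 c.2]

theorem isUnit_eqLocus {A B : Type*} [CommRing A] [CommRing B] (f g : A →+* B)
    (x : RingHom.eqLocus f g) (hx : IsUnit (x : A)) : IsUnit x := by
  obtain ⟨u, hu⟩ := hx
  have hfg : f u = g u := by rw [hu]; exact x.2
  have h1 : Units.map (f : A →* B) u = Units.map (g : A →* B) u := Units.ext hfg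
  have h2 : f (↑u⁻¹ : A) = g (↑u⁻¹ : A) := by
    have := congrArg (fun v : Bˣ => ((v⁻¹ : Bˣ) : B)) h1
    simpa using this
  refine ⟨⟨x, ⟨↑u⁻¹, h2⟩, ?_, ?_⟩, rfl⟩
  · apply Subtype.ext
    show (x : A) * ↑u⁻¹ = 1
    rw [← hu]; exact u.mul_inv
  · apply Subtype.ext
    show ↑u⁻¹ * (x : A) = 1
    rw [← hu]; exact u.inv_mul

theorem isLocalization_resC [IsFinite G.s] (hWa : IsAffineOpen W) :
    letI := (resC G hW (basicOpen_invariant G W hW c) (G.U.basicOpen_le c.1)).toAlgebra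
    IsLocalization.Away c (Cinv G (G.U.basicOpen c.1) (basicOpen_invariant G W hW c)) := by
  letI := (resC G hW (basicOpen_invariant G W hW c) (G.U.basicOpen_le c.1)).toAlgebra
  have hW' := basicOpen_invariant G W hW c
  have hle : G.U.basicOpen c.1 ≤ W := G.U.basicOpen_le c.1
  haveI locU : IsLocalization.Away c.1 Γ(G.U, G.U.basicOpen c.1) :=
    hWa.isLocalization_basicOpen c.1
  set σ := (G.s.appLE W (G.s ⁻¹ᵁ W) le_rfl).hom with hσ
  set τ := (G.t.appLE W (G.s ⁻¹ᵁ W) hW.le).hom with hτ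
  set σ' := (G.s.appLE (G.U.basicOpen c.1) (G.s ⁻¹ᵁ (G.U.basicOpen c.1)) le_rfl).hom with hσ'
  set τ' := (G.t.appLE (G.U.basicOpen c.1) (G.s ⁻¹ᵁ (G.U.basicOpen c.1)) hW'.le).hom with hτ'
  set resU := (G.U.presheaf.map (homOfLE hle).op).hom with hresU
  set resR := (G.R.presheaf.map (homOfLE (G.s.preimage_mono hle)).op).hom with hresR
  have hcomσ : ∀ a, σ' (resU a) = resR (σ a) := fun a => by
    have := congrArg (fun φ => φ.hom a) (s_res_comm G hle)
    simpa only [CommRingCat.hom_comp, RingHom.coe_comp, Function.comp_apply] using this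
  have hcomτ : ∀ a, τ' (resU a) = resR (τ a) := fun a => by
    have := congrArg (fun φ => φ.hom a) (t_res_comm G hW hW' hle)
    simpa only [CommRingCat.hom_comp, RingHom.coe_comp, Function.comp_apply] using this
  have hcστ : σ c.1 = τ c.1 := c.2
  have hRaff : IsAffineOpen (G.s ⁻¹ᵁ W) := hWa.preimage G.s
  letI algR : Algebra Γ(G.R, G.s ⁻¹ᵁ W) Γ(G.R, G.s ⁻¹ᵁ (G.U.basicOpen c.1)) := resR.toAlgebra
  haveI locR : IsLocalization.Away (σ c.1) Γ(G.R, G.s ⁻¹ᵁ (G.U.basicOpen c.1)) :=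
    hRaff.isLocalization_of_eq_basicOpen (σ c.1) (homOfLE (G.s.preimage_mono hle))
      (basicOpen_s_appLE G W hW c).symm
  have halgU : ∀ a, algebraMap Γ(G.U, W) Γ(G.U, G.U.basicOpen c.1) a = resU a := fun _ => rfl
  have halgR : ∀ b, algebraMap Γ(G.R, G.s ⁻¹ᵁ W) Γ(G.R, G.s ⁻¹ᵁ (G.U.basicOpen c.1)) b =
      resR b := fun _ => rfl
  have halgC : ∀ a, algebraMap (Cinv G W hW) (Cinv G (G.U.basicOpen c.1) hW') a =
      resC G hW hW' hle a := fun _ => rfl
  rw [IsLocalization.Away, isLocalization_iff]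
  refine ⟨?_, ?_, ?_⟩
  · rintro ⟨_, n, rfl⟩
    rw [halgC, map_pow]
    apply IsUnit.pow
    apply isUnit_eqLocus
    show IsUnit (resU c.1)
    rw [← halgU]
    exact IsLocalization.Away.algebraMap_isUnit c.1
  · intro z
    obtain ⟨⟨a0, ⟨_, n0, rfl⟩⟩, h0⟩ := IsLocalization.surj (Submonoid.powers c.1) z.1
    simp only [halgU, map_pow] at h0
    -- the defect
    have hzc : z.1 * resU c.1 ^ n0 ∈ Cinv G (G.U.basicOpen c.1) hW' :=
      Subring.mul_mem _ z.2 (Subring.pow_mem _ (res_mem_Cinv G hW hW' hle c.1 c.2) n0)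
    have hd : resR (σ a0 - τ a0) = 0 := by
      rw [map_sub, ← hcomσ, ← hcomτ, ← h0, sub_eq_zero]
      exact hzc
    rw [← halgR, IsLocalization.map_eq_zero_iff (Submonoid.powers (σ c.1))] at hd
    obtain ⟨⟨_, m, rfl⟩, hm⟩ := hd
    have ha : c.1 ^ m * a0 ∈ Cinv G W hW := by
      rw [mem_Cinv]
      show σ (c.1 ^ m * a0) = τ (c.1 ^ m * a0)
      rw [map_mul, map_mul, map_pow, map_pow, ← hcστ, ← sub_eq_zero, ← mul_sub]
      exact hm
    refine ⟨⟨⟨c.1 ^ m * a0, ha⟩, ⟨c ^ (m + n0), m + n0, rfl⟩⟩, ?_⟩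
    apply Subtype.ext
    show z.1 * resU (c.1 ^ (m + n0)) = resU (c.1 ^ m * a0)
    rw [map_mul, map_pow, map_pow, ← h0, pow_add]
    ring
  · intro x y hxy
    have h1 : resU x.1 = resU y.1 := congrArg Subtype.val hxy
    rw [← halgU, ← halgU, IsLocalization.eq_iff_exists (Submonoid.powers c.1)] at h1
    obtain ⟨⟨_, n, rfl⟩, hn⟩ := h1
    refine ⟨⟨c ^ n, n, rfl⟩, ?_⟩
    apply Subtype.ext
    exact hn

end Locz

section ResCFunct

variable {W}

theorem resC_id : resC G hW hW le_rfl = RingHom.id _ := by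
  apply RingHom.ext
  intro a
  apply Subtype.ext
  show (G.U.presheaf.map (homOfLE (le_refl W)).op).hom a.1 = a.1
  have : (homOfLE (le_refl W)).op = 𝟙 (Opposite.op W) := rfl
  rw [this, G.U.presheaf.map_id]
  rfl

theorem resC_comp {W' W'' : G.U.Opens} (hW' : G.s ⁻¹ᵁ W' = G.t ⁻¹ᵁ W')
    (hW'' : G.s ⁻¹ᵁ W'' = G.t ⁻¹ᵁ W'') (h : W' ≤ W) (h' : W'' ≤ W') :
    (resC G hW' hW'' h').comp (resC G hW hW' h) = resC G hW hW'' (h'.trans h) := by
  apply RingHom.ext
  intro a
  apply Subtype.ext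
  show (G.U.presheaf.map (homOfLE h').op).hom ((G.U.presheaf.map (homOfLE h).op).hom a.1) =
    (G.U.presheaf.map (homOfLE (h'.trans h)).op).hom a.1
  rw [← CommRingCat.comp_apply, ← G.U.presheaf.map_comp]
  rfl

end ResCFunct

section OpenImm

variable [IsFinite G.s] (hWa : IsAffineOpen W) (c : Cinv G W hW)

include hWa in
theorem isOpenImmersion_resC :
    IsOpenImmersion (Spec.map (CommRingCat.ofHom
      (resC G hW (basicOpen_invariant G W hW c) (G.U.basicOpen_le c.1)))) := by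
  letI := (resC G hW (basicOpen_invariant G W hW c) (G.U.basicOpen_le c.1)).toAlgebra
  haveI := isLocalization_resC G W hW c hWa
  exact IsOpenImmersion.of_isLocalization (R := Cinv G W hW)
    (S := Cinv G (G.U.basicOpen c.1) (basicOpen_invariant G W hW c)) c

include hWa in
theorem range_resC :
    Set.range (Spec.map (CommRingCat.ofHom
      (resC G hW (basicOpen_invariant G W hW c) (G.U.basicOpen_le c.1)))) =
      (PrimeSpectrum.basicOpen c : Set (PrimeSpectrum (Cinv G W hW))) := by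
  letI := (resC G hW (basicOpen_invariant G W hW c) (G.U.basicOpen_le c.1)).toAlgebra
  haveI := isLocalization_resC G W hW c hWa
  exact PrimeSpectrum.localization_away_comap_range
    (Cinv G (G.U.basicOpen c.1) (basicOpen_invariant G W hW c)) c

include hWa in
theorem isPullback_resC :
    IsPullback (qW G (G.U.basicOpen c.1) (basicOpen_invariant G W hW c))
      (G.U.homOfLE (G.U.basicOpen_le c.1))
      (Spec.map (CommRingCat.ofHom
        (resC G hW (basicOpen_invariant G W hW c) (G.U.basicOpen_le c.1))))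
      (qW G W hW) := by
  haveI := isOpenImmersion_resC G W hW hWa c
  refine IsOpenImmersion.isPullback _ _ _ _ (qW_naturality G hW _ _).symm ?_
  ext x
  rw [Scheme.opensRange_homOfLE]
  constructor
  · rintro ⟨y, hy⟩
    have h1 : qW G W hW x ∈ PrimeSpectrum.basicOpen c := by
      rw [← SetLike.mem_coe, ← range_resC G W hW hWa c]
      exact ⟨y, hy⟩
    exact (qW_mem_basicOpen_iff G W hW c x).1 h1
  · intro hx
    have h1 : qW G W hW x ∈ (PrimeSpectrum.basicOpen c : Set (PrimeSpectrum (Cinv G W hW))) :=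
      (qW_mem_basicOpen_iff G W hW c x).2 hx
    rw [← range_resC G W hW hWa c] at h1
    exact h1

end OpenImm

end Groth.Agent.Lib.T2H7.GrpdCinv
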