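import Mathlib
import Groth.Prelude.Def_Grpd
import Groth.Agent.Lib.T2H7GrpdCinv

/-!
# Categorical properties of the affine quotient `U → Spec C` (helper7)
-/

set_option autoImplicit false
set_option linter.style.haveILetI false
set_option linter.unusedSectionVars false
set_option backward.isDefEq.respectTransparency false
universe u

open CategoryTheory CategoryTheory.Limits AlgebraicGeometry
open Groth.Agent.Lib.T2H7.GrpdRes Groth.Agent.Lib.T2H7.GrpdInv Groth.Agent.Lib.T2H7.GrpdCinv
open Groth.Agent.Lib.T2H7.GrpdBridge Groth.Agent.Lib.T2H7.GrpdBridgeB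

namespace Groth.Agent.Lib.T2H7.GrpdAffQ

section Epi

/-- a surjective morphism of schemes which is injective on sections over every open is an
epimorphism -/
theorem epi_of_surjective_of_app_injective {X Y : Scheme.{u}} (f : X ⟶ Y)
    (hs : Function.Surjective f) (hinj : ∀ V : Y.Opens, Function.Injective (f.app V)) :
    Epi f := by
  constructor
  intro Z a b hab
  have hpt : ∀ y, a y = b y := fun y => by
    obtain ⟨x, rfl⟩ := hs y
    exact congrArg (fun φ : X ⟶ Z => φ x) hab
  let 𝒵 := Z.affineCover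
  let V : 𝒵.I₀ → Y.Opens := fun i => a ⁻¹ᵁ (𝒵.f i).opensRange
  have hV : TopologicalSpace.IsOpenCover V := by
    rw [TopologicalSpace.IsOpenCover, eq_top_iff]
    intro y _
    obtain ⟨i, z, hz⟩ := 𝒵.exists_eq (a y)
    exact TopologicalSpace.Opens.mem_iSup.mpr ⟨i, z, hz⟩
  apply (Y.openCoverOfIsOpenCover V hV).hom_ext
  intro (i : 𝒵.I₀)
  show (V i).ι ≫ a = (V i).ι ≫ b
  have ha : Set.range ((V i).ι ≫ a) ⊆ Set.range (𝒵.f i) := by
    rintro _ ⟨y, rfl⟩
    exact y.2
  have hb : Set.range ((V i).ι ≫ b) ⊆ Set.range (𝒵.f i) := by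
    rintro _ ⟨y, rfl⟩
    have : ((V i).ι ≫ b) y = ((V i).ι ≫ a) y := (hpt _).symm
    rw [this]
    exact y.2
  have key : IsOpenImmersion.lift (𝒵.f i) ((V i).ι ≫ a) ha =
      IsOpenImmersion.lift (𝒵.f i) ((V i).ι ≫ b) hb := by
    apply ext_of_isAffine
    have hmono : Mono (f ∣_ (V i)).appTop := by
      apply ConcreteCategory.mono_of_injective
      rw [morphismRestrict_appTop]
      exact ((ConcreteCategory.bijective_of_isIso
        (X.presheaf.map (eqToHom (image_morphismRestrict_preimage f (V i) ⊤)).op)).1).comp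
        (hinj _)
    rw [← cancel_mono (f ∣_ (V i)).appTop, ← Scheme.Hom.comp_appTop, ← Scheme.Hom.comp_appTop]
    congr 1
    rw [← cancel_mono (𝒵.f i), Category.assoc, Category.assoc, IsOpenImmersion.lift_fac,
      IsOpenImmersion.lift_fac, ← Category.assoc, ← Category.assoc, morphismRestrict_ι,
      Category.assoc, Category.assoc, hab]
  have h1 := IsOpenImmersion.lift_fac (𝒵.f i) ((V i).ι ≫ a) ha
  have h2 := IsOpenImmersion.lift_fac (𝒵.f i) ((V i).ι ≫ b) hb
  rw [← h1, ← h2, key]

end Epi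

section Affine

variable {S : Scheme.{u}} (G : Grpd.GroupoidScheme S)

theorem toQuot_appTop_injective : Function.Injective G.toQuot.appTop.hom := by
  have h : G.toQuot.appTop =
      (Scheme.ΓSpecIso (CommRingCat.of G.invariants)).hom ≫
        CommRingCat.ofHom G.invariants.subtype := by
    unfold Grpd.GroupoidScheme.toQuot
    rw [Scheme.Hom.comp_appTop, Scheme.toSpecΓ_appTop, Scheme.ΓSpecIso_naturality]
  rw [h]
  exact (Subtype.val_injective).comp
    (ConcreteCategory.bijective_of_isIso (Scheme.ΓSpecIso (CommRingCat.of G.invariants)).hom).1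

variable [IsAffine G.U] [IsAffine G.R] [IsFinite G.s] [Flat G.s] [LocallyOfFinitePresentation G.s]

theorem epi_toQuot : Epi G.toQuot := by
  haveI : IsIntegralHom G.toQuot := Groth.Agent.Lib.T2H7.GrpdFin.isIntegralHom_toQuot G
  haveI : IsSchemeTheoreticallyDominant G.toQuot := ⟨by
    apply Scheme.IdealSheafData.ext_of_isAffine
    rw [Scheme.Hom.ker_apply, Scheme.IdealSheafData.ideal_bot]
    exact (RingHom.injective_iff_ker_eq_bot _).1 (toQuot_appTop_injective G)⟩
  exact epi_of_surjective_of_app_injective _ (toQuot_surjective G)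
    (fun V => G.toQuot.app_injective V)

/-- an invariant morphism to an affine scheme factors through the affine quotient -/
theorem exists_desc_affine {Z : Scheme.{u}} [IsAffine Z] (h : G.U ⟶ Z)
    (hh : G.s ≫ h = G.t ≫ h) : ∃ m : Spec (CommRingCat.of G.invariants) ⟶ Z, G.toQuot ≫ m = h := by
  have hmem : ∀ a : Γ(Z, ⊤), h.appTop.hom a ∈ G.invariants := by
    intro a
    have := congrArg (fun φ : G.R ⟶ Z => φ.appTop.hom a) hh
    simp only [Scheme.Hom.comp_appTop, CommRingCat.hom_comp, RingHom.coe_comp,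
      Function.comp_apply] at this
    exact this
  let φ : Γ(Z, ⊤) →+* G.invariants := h.appTop.hom.codRestrict G.invariants hmem
  have hφ : CommRingCat.ofHom φ ≫ CommRingCat.ofHom G.invariants.subtype = h.appTop := by
    ext a
    rfl
  refine ⟨Spec.map (CommRingCat.ofHom φ) ≫ Z.isoSpec.inv, ?_⟩
  unfold Grpd.GroupoidScheme.toQuot
  rw [Category.assoc, ← Category.assoc (Spec.map _), ← Spec.map_comp, hφ,
    ← Scheme.toSpecΓ_naturality_assoc]
  have : Z.toSpecΓ ≫ Z.isoSpec.inv = 𝟙 _ := Z.isoSpec.hom_inv_id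
  rw [this, Category.comp_id]

end Affine

section Local

variable {S : Scheme.{u}} (G : Grpd.GroupoidScheme S) (W : G.U.Opens)
  (hW : G.s ⁻¹ᵁ W = G.t ⁻¹ᵁ W)
variable [IsFinite G.s] [Flat G.s] [LocallyOfFinitePresentation G.s] (hWa : IsAffineOpen W)

include hWa in
theorem epi_qW : Epi (qW G W hW) := by
  haveI := res_isAffine_U G W hW hWa
  haveI := res_isAffine_R G W hW hWa
  rw [qW_eq]
  haveI := epi_toQuot (res G W hW)
  infer_instance

include hWa in
theorem qW_coeq : (res G W hW).s ≫ qW G W hW = (res G W hW).t ≫ qW G W hW := by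
  haveI := res_isAffine_U G W hW hWa
  haveI := res_isAffine_R G W hW hWa
  rw [qW_eq, ← Category.assoc, s_toQuot (res G W hW), Category.assoc]

include hWa in
theorem exists_desc_qW {Z : Scheme.{u}} [IsAffine Z] (h : W.toScheme ⟶ Z)
    (hh : (res G W hW).s ≫ h = (res G W hW).t ≫ h) :
    ∃ m : Spec (CommRingCat.of (Cinv G W hW)) ⟶ Z, qW G W hW ≫ m = h := by
  haveI := res_isAffine_U G W hW hWa
  haveI := res_isAffine_R G W hW hWa
  obtain ⟨m, hm⟩ := exists_desc_affine (res G W hW) h hh
  refine ⟨inv (Spec.map (CommRingCat.ofHom (invEquiv G W hW).toRingHom)) ≫ m, ?_⟩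
  rw [qW_eq, Category.assoc, IsIso.hom_inv_id_assoc]
  exact hm

end Local

section MonoJ

variable {S : Scheme.{u}} (G : Grpd.GroupoidScheme S) (W : G.U.Opens)
  (hW : G.s ⁻¹ᵁ W = G.t ⁻¹ᵁ W)

theorem mono_res_j [Mono G.j] : Mono (res G W hW).j := by
  constructor
  intro T a b hab
  have h1 : a ≫ (res G W hW).t = b ≫ (res G W hW).t := by
    have := congrArg (fun φ => φ ≫ pullback.fst (res G W hW).pU (res G W hW).pU) hab
    simpa only [Category.assoc, Grpd.GroupoidScheme.j, pullback.lift_fst] using this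
  have h2 : a ≫ (res G W hW).s = b ≫ (res G W hW).s := by
    have := congrArg (fun φ => φ ≫ pullback.snd (res G W hW).pU (res G W hW).pU) hab
    simpa only [Category.assoc, Grpd.GroupoidScheme.j, pullback.lift_snd] using this
  rw [← cancel_mono (G.s ⁻¹ᵁ W).ι, ← cancel_mono G.j]
  apply pullback.hom_ext
  · simp only [Category.assoc, Grpd.GroupoidScheme.j, pullback.lift_fst]
    have := congrArg (fun φ => φ ≫ W.ι) h1
    simp only [Category.assoc] at this
    rw [show (res G W hW).t ≫ W.ι = (G.s ⁻¹ᵁ W).ι ≫ G.t from tW_ι G W hW] at this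
    exact this
  · simp only [Category.assoc, Grpd.GroupoidScheme.j, pullback.lift_snd]
    have := congrArg (fun φ => φ ≫ W.ι) h2
    simp only [Category.assoc] at this
    rw [show (res G W hW).s ≫ W.ι = (G.s ⁻¹ᵁ W).ι ≫ G.s from morphismRestrict_ι G.s W] at this
    exact this

variable [IsFinite G.s] [Flat G.s] [LocallyOfFinitePresentation G.s] [Mono G.j]
  (hWa : IsAffineOpen W)

include hWa in
theorem qW_props : IsFinite (qW G W hW) ∧ Flat (qW G W hW) ∧
    LocallyOfFinitePresentation (qW G W hW) ∧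
    IsPullback (res G W hW).t (res G W hW).s (qW G W hW) (qW G W hW) := by
  haveI := res_isAffine_U G W hW hWa
  haveI := res_isAffine_R G W hW hWa
  haveI := mono_res_j G W hW
  haveI : IsFinite (res G W hW).t := isFinite_t (res G W hW)
  haveI : Flat (res G W hW).t := flat_t (res G W hW)
  haveI : LocallyOfFinitePresentation (res G W hW).t := lfp_t (res G W hW)
  haveI : IsFinite (res G W hW).toQuot := Groth.Agent.Lib.T2H7.GrpdFin.isFinite_toQuot _
  haveI : Flat (res G W hW).toQuot := Groth.Agent.Lib.T2H7.GrpdFin.flat_toQuot _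
  haveI : LocallyOfFinitePresentation (res G W hW).toQuot :=
    Groth.Agent.Lib.T2H7.GrpdFin.lfp_toQuot _
  have hpb := Groth.Agent.Lib.T2H7.GrpdFin.isPullback_toQuot (res G W hW)
  rw [qW_eq]
  refine ⟨inferInstance, inferInstance, inferInstance, ?_⟩
  exact IsPullback.of_iso_pullback ⟨by rw [← Category.assoc, ← Category.assoc, hpb.w]⟩
    (hpb.isoPullback ≪≫ (pullback.congrHom rfl rfl ≪≫ asIso (pullback.map _ _ _ _ (𝟙 _) (𝟙 _)
      (Spec.map (CommRingCat.ofHom (invEquiv G W hW).toRingHom)) (by simp) (by simp))))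
    (by simp) (by simp)

end MonoJ

end Groth.Agent.Lib.T2H7.GrpdAffQ
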