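import Mathlib
import Groth.Prelude.Def_Grpd
import Groth.Agent.Lib.T2H7GrpdCinv

/-!
# Gluing the local quotients of a finite locally free groupoid (helper7)
-/

set_option autoImplicit false
set_option linter.style.haveILetI false
set_option linter.unusedSectionVars false
set_option backward.isDefEq.respectTransparency false
universe u

open CategoryTheory CategoryTheory.Limits AlgebraicGeometry
open Groth.Agent.Lib.T2H7.GrpdRes Groth.Agent.Lib.T2H7.GrpdInv Groth.Agent.Lib.T2H7.GrpdCinv

namespace Groth.Agent.Lib.T2H7.GrpdGlue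

variable {S : Scheme.{u}} (G : Grpd.GroupoidScheme S)

/-- invariant affine opens -/
@[ext]
structure IAO where
  /-- the open -/
  W : G.U.Opens
  aff : IsAffineOpen W
  inv : G.s ⁻¹ᵁ W = G.t ⁻¹ᵁ W

variable {G}

/-- the coordinate ring of the local quotient -/
noncomputable abbrev IAO.C (W : IAO G) : Subring Γ(G.U, W.W) := Cinv G W.W W.inv

/-- the local quotient map -/
noncomputable abbrev IAO.q (W : IAO G) : W.W.toScheme ⟶ Spec (CommRingCat.of W.C) :=
  qW G W.W W.inv

/-- restriction between local quotient rings -/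
noncomputable abbrev IAO.ρ (W W' : IAO G) (h : W'.W ≤ W.W) : W.C →+* W'.C :=
  resC G W.inv W'.inv h

/-- good inclusions: the induced map of local quotients is an open immersion and the square is
cartesian -/
def Good (W' W : IAO G) : Prop :=
  ∃ h : W'.W ≤ W.W, IsOpenImmersion (Spec.map (CommRingCat.ofHom (W.ρ W' h))) ∧
    IsPullback W'.q (G.U.homOfLE h) (Spec.map (CommRingCat.ofHom (W.ρ W' h))) W.q

theorem Good.le {W' W : IAO G} (h : Good W' W) : W'.W ≤ W.W := h.choose

theorem Good.isOpenImmersion {W' W : IAO G} (h : Good W' W) :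
    IsOpenImmersion (Spec.map (CommRingCat.ofHom (W.ρ W' h.le))) := h.choose_spec.1

theorem Good.isPullback {W' W : IAO G} (h : Good W' W) :
    IsPullback W'.q (G.U.homOfLE h.le) (Spec.map (CommRingCat.ofHom (W.ρ W' h.le))) W.q :=
  h.choose_spec.2

theorem Good.refl (W : IAO G) : Good W W := by
  refine ⟨le_rfl, ?_, ?_⟩
  · have : W.ρ W le_rfl = RingHom.id _ := resC_id G W.inv
    rw [this]
    have : CommRingCat.ofHom (RingHom.id W.C) = 𝟙 (CommRingCat.of W.C) := rfl
    rw [this, Spec.map_id]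
    infer_instance
  · have h1 : W.ρ W le_rfl = RingHom.id _ := resC_id G W.inv
    have h2 : CommRingCat.ofHom (RingHom.id W.C) = 𝟙 (CommRingCat.of W.C) := rfl
    have h3 : G.U.homOfLE (le_refl W.W) = 𝟙 _ := by
      rw [← cancel_mono W.W.ι, Scheme.homOfLE_ι, Category.id_comp]
    rw [h1, h2, Spec.map_id, h3]
    exact IsPullback.of_vert_isIso ⟨by simp⟩

theorem Good.trans {W'' W' W : IAO G} (h' : Good W'' W') (h : Good W' W) : Good W'' W := by
  have hcomp : CommRingCat.ofHom (W.ρ W'' (h'.le.trans h.le)) =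
      CommRingCat.ofHom (W.ρ W' h.le) ≫ CommRingCat.ofHom (W'.ρ W'' h'.le) := by
    rw [← CommRingCat.ofHom_comp]
    congr 1
    exact (resC_comp G W.inv W'.inv W''.inv h.le h'.le).symm
  refine ⟨h'.le.trans h.le, ?_, ?_⟩
  · rw [hcomp, Spec.map_comp]
    haveI := h.isOpenImmersion
    haveI := h'.isOpenImmersion
    infer_instance
  · rw [hcomp, Spec.map_comp]
    have := h'.isPullback.paste_vert h.isPullback
    rw [Scheme.homOfLE_homOfLE] at this
    exact this

instance : Preorder (IAO G) where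
  le W' W := Good W' W
  le_refl := Good.refl
  le_trans _ _ _ h' h := h'.trans h

theorem le_iff_good {W' W : IAO G} : W' ≤ W ↔ Good W' W := Iff.rfl

section Principal

variable [IsFinite G.s]

/-- the principal invariant affine open defined by an invariant function -/
noncomputable def IAO.basic (W : IAO G) (c : W.C) : IAO G where
  W := G.U.basicOpen c.1
  aff := W.aff.basicOpen c.1
  inv := basicOpen_invariant G W.W W.inv c

theorem IAO.basic_good (W : IAO G) (c : W.C) : Good (W.basic c) W :=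
  ⟨G.U.basicOpen_le c.1, isOpenImmersion_resC G W.W W.inv W.aff c,
    isPullback_resC G W.W W.inv W.aff c⟩

theorem IAO.range_basic (W : IAO G) (c : W.C) :
    Set.range (Spec.map (CommRingCat.ofHom (W.ρ (W.basic c) (G.U.basicOpen_le c.1)))) =
      (PrimeSpectrum.basicOpen c : Set (PrimeSpectrum W.C)) :=
  range_resC G W.W W.inv W.aff c

/-- an invariant affine open which is the basic open of an invariant function defined on a
larger invariant open is good in any intermediate invariant affine open -/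
theorem good_of_basicOpen {W₀ : G.U.Opens} (hW₀ : G.s ⁻¹ᵁ W₀ = G.t ⁻¹ᵁ W₀) (c : Cinv G W₀ hW₀)
    (K V : IAO G) (hK : K.W ≤ W₀) (hV : V.W = G.U.basicOpen c.1) (hVK : V.W ≤ K.W) :
    Good V K := by
  have : V = K.basic (resC G hW₀ K.inv hK c) := by
    apply IAO.ext
    show V.W = G.U.basicOpen ((G.U.presheaf.map (homOfLE hK).op).hom c.1)
    rw [Scheme.basicOpen_res, ← hV]
    exact (inf_eq_right.mpr hVK).symm
  rw [this]
  exact K.basic_good _

end Principal

section Functor

/-- the diagram of local quotients -/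
noncomputable def F : IAO G ⥤ Scheme.{u} where
  obj W := Spec (CommRingCat.of W.C)
  map {W' W} f := Spec.map (CommRingCat.ofHom (W.ρ W' (leOfHom f).le))
  map_id W := by
    have : W.ρ W (leOfHom (𝟙 W)).le = RingHom.id _ := resC_id G W.inv
    rw [this]
    exact Spec.map_id _
  map_comp {W'' W' W} f g := by
    rw [← Spec.map_comp, ← CommRingCat.ofHom_comp]
    congr 2
    exact (resC_comp G W.inv W'.inv W''.inv (leOfHom g).le (leOfHom f).le).symm

theorem F_map {W' W : IAO G} (f : W' ⟶ W) :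
    (F (G := G)).map f = Spec.map (CommRingCat.ofHom (W.ρ W' (leOfHom f).le)) := rfl

instance {W' W : IAO G} (f : W' ⟶ W) : IsOpenImmersion ((F (G := G)).map f) :=
  (leOfHom f).isOpenImmersion

theorem F_isPullback {W' W : IAO G} (f : W' ⟶ W) :
    IsPullback W'.q (G.U.homOfLE (leOfHom f).le) ((F (G := G)).map f) W.q :=
  (leOfHom f).isPullback

theorem q_naturality {W' W : IAO G} (f : W' ⟶ W) :
    W'.q ≫ (F (G := G)).map f = G.U.homOfLE (leOfHom f).le ≫ W.q :=
  (F_isPullback f).w

end Functor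

section Directed

theorem mem_of_q_mem_range {i k : IAO G} (fi : i ⟶ k) (x : k.W.toScheme)
    (hx : k.q x ∈ Set.range ((F (G := G)).map fi)) : k.W.ι x ∈ i.W := by
  obtain ⟨z, hz⟩ := hx
  obtain ⟨p, -, hp2⟩ := Scheme.exists_preimage_of_isPullback (F_isPullback fi) z x hz
  rw [← hp2, ← Scheme.Hom.comp_apply, Scheme.homOfLE_ι]
  exact p.2

variable [IsFinite G.s] [Flat G.s] [LocallyOfFinitePresentation G.s]

/-- a basic open of `Spec C_k` inside the range of `F.map fi` gives a good inclusion -/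
theorem basic_good_of_subset {i k : IAO G} (fi : i ⟶ k) (c : k.C)
    (hc : (PrimeSpectrum.basicOpen c : Set (PrimeSpectrum k.C)) ⊆
      Set.range ((F (G := G)).map fi)) : Good (k.basic c) i := by
  refine good_of_basicOpen k.inv c i (k.basic c) (leOfHom fi).le rfl ?_
  intro u hu
  have huk : u ∈ k.W := G.U.basicOpen_le _ hu
  have h1 : k.q ⟨u, huk⟩ ∈ PrimeSpectrum.basicOpen c :=
    (qW_mem_basicOpen_iff G k.W k.inv c ⟨u, huk⟩).2 hu
  exact mem_of_q_mem_range fi ⟨u, huk⟩ (hc h1)

instance : ((F (G := G)) ⋙ Scheme.forget).IsLocallyDirected where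
  cond {i j k} fi fj xi xj heq := by
    have heq' : (F (G := G)).map fi xi = (F (G := G)).map fj xj := heq
    have hO : IsOpen (Set.range ((F (G := G)).map fi) ∩ Set.range ((F (G := G)).map fj)) :=
      ((F (G := G)).map fi).isOpenEmbedding.isOpen_range.inter
        ((F (G := G)).map fj).isOpenEmbedding.isOpen_range
    have hy : (F (G := G)).map fi xi ∈
        Set.range ((F (G := G)).map fi) ∩ Set.range ((F (G := G)).map fj) :=
      ⟨⟨xi, rfl⟩, ⟨xj, heq'.symm⟩⟩
    obtain ⟨_, ⟨_, ⟨c, rfl⟩, rfl⟩, hyc, hcO⟩ :=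
      PrimeSpectrum.isBasis_basic_opens.exists_subset_of_mem_open hy hO
    have hli : k.basic c ≤ i := basic_good_of_subset fi c (fun z hz => (hcO hz).1)
    have hlj : k.basic c ≤ j := basic_good_of_subset fj c (fun z hz => (hcO hz).2)
    have hlk : k.basic c ≤ k := k.basic_good c
    have hx : (F (G := G)).map fi xi ∈ Set.range ((F (G := G)).map (homOfLE hlk)) := by
      have : Set.range ((F (G := G)).map (homOfLE hlk)) =
          (PrimeSpectrum.basicOpen c : Set (PrimeSpectrum k.C)) := k.range_basic c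
      rw [this]
      exact hyc
    obtain ⟨x, hx⟩ := hx
    refine ⟨k.basic c, homOfLE hli, homOfLE hlj, x, ?_, ?_⟩
    · apply ((F (G := G)).map fi).isOpenEmbedding.injective
      show (F (G := G)).map fi ((F (G := G)).map (homOfLE hli) x) = _
      rw [← hx, ← Scheme.Hom.comp_apply, ← Functor.map_comp]
      congr 3
    · apply ((F (G := G)).map fj).isOpenEmbedding.injective
      show (F (G := G)).map fj ((F (G := G)).map (homOfLE hlj) x) = _
      rw [← heq', ← hx, ← Scheme.Hom.comp_apply, ← Functor.map_comp]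
      congr 3

end Directed

section Glue

variable [IsFinite G.s] [Flat G.s] [LocallyOfFinitePresentation G.s]

variable (G) in
/-- the quotient scheme -/
noncomputable def Y : Scheme.{u} := colimit (F (G := G))

/-- the open immersions of the local quotients -/
noncomputable def ιY (W : IAO G) : Spec (CommRingCat.of W.C) ⟶ Y G := colimit.ι (F (G := G)) W

instance (W : IAO G) : IsOpenImmersion (ιY W) :=
  inferInstanceAs (IsOpenImmersion (colimit.ι (F (G := G)) W))

theorem ιY_w {W' W : IAO G} (f : W' ⟶ W) : (F (G := G)).map f ≫ ιY W = ιY W' :=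
  colimit.w (F (G := G)) f

theorem ιY_jointly_surjective (y : Y G) : ∃ (W : IAO G) (x : Spec (CommRingCat.of W.C)),
    ιY W x = y :=
  Scheme.IsLocallyDirected.ι_jointly_surjective (F (G := G)) y

theorem ιY_eq_iff {i j : IAO G} {xi : Spec (CommRingCat.of i.C)} {xj : Spec (CommRingCat.of j.C)} :
    ιY i xi = ιY j xj ↔ ∃ (k : IAO G) (fi : k ⟶ i) (fj : k ⟶ j) (x : Spec (CommRingCat.of k.C)),
      (F (G := G)).map fi x = xi ∧ (F (G := G)).map fj x = xj :=
  Scheme.IsLocallyDirected.ι_eq_ι_iff (F (G := G))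

end Glue

section Cover

variable [IsFinite G.s] [Flat G.s] [LocallyOfFinitePresentation G.s]

theorem IAO.mem_iff (W : IAO G) (r : G.R) : G.s r ∈ W.W ↔ G.t r ∈ W.W := by
  have : r ∈ G.s ⁻¹ᵁ W.W ↔ r ∈ G.t ⁻¹ᵁ W.W := by rw [W.inv]
  exact this

/-- two invariant affine opens containing a point contain a common good invariant affine
neighbourhood of it -/
theorem exists_common (i j : IAO G) (u : G.U) (hi : u ∈ i.W) (hj : u ∈ j.W) :
    ∃ k : IAO G, k ≤ i ∧ k ≤ j ∧ u ∈ k.W := by
  obtain ⟨c1, hu1, h1⟩ := exists_basicOpen_le G i.W i.inv i.aff j.W j.mem_iff u hi hj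
  have hk1 : i.basic c1 ≤ i := i.basic_good c1
  obtain ⟨c2, hu2, h2⟩ := exists_basicOpen_le G j.W j.inv j.aff (i.basic c1).W
    (i.basic c1).mem_iff u hj hu1
  have hk : j.basic c2 ≤ j := j.basic_good c2
  have hk' : j.basic c2 ≤ i.basic c1 :=
    good_of_basicOpen j.inv c2 (i.basic c1) (j.basic c2) h1 rfl h2
  exact ⟨j.basic c2, hk'.trans hk1, hk, hu2⟩

variable (hcov : ∀ u : G.U, ∃ W : IAO G, u ∈ W.W)

include hcov in
theorem isOpenCover : TopologicalSpace.IsOpenCover (fun W : IAO G => W.W) := by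
  rw [TopologicalSpace.IsOpenCover, eq_top_iff]
  intro u _
  obtain ⟨W, hW⟩ := hcov u
  exact TopologicalSpace.Opens.mem_iSup.mpr ⟨W, hW⟩

/-- the cover of `U` by invariant affine opens -/
noncomputable def cover : G.U.OpenCover :=
  G.U.openCoverOfIsOpenCover (fun W : IAO G => W.W) (isOpenCover hcov)

instance : Preorder (cover hcov).I₀ := inferInstanceAs (Preorder (IAO G))

theorem cover_le {i j : (cover hcov).I₀} (h : i ⟶ j) : (show IAO G from i).W ≤ (show IAO G from j).W :=
  Good.le (leOfHom h)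

noncomputable instance : (cover hcov).LocallyDirected where
  trans {i j} hij := G.U.homOfLE (cover_le hcov hij)
  trans_id i := by
    apply (cancel_mono (Scheme.Opens.ι (show IAO G from i).W)).1
    rw [Scheme.homOfLE_ι]
    exact (Category.id_comp _).symm
  trans_comp hij hjk := (Scheme.homOfLE_homOfLE _ _ _).symm
  w hij := Scheme.homOfLE_ι _ _
  directed {i j} x := by
    let i' : IAO G := i
    let j' : IAO G := j
    set u : G.U := (pullback.fst (i'.W.ι) (j'.W.ι) ≫ i'.W.ι) x with hu
    have hui : u ∈ i'.W := ((pullback.fst (i'.W.ι) (j'.W.ι)) x).2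
    have huj : u ∈ j'.W := by
      have : u = (pullback.snd (i'.W.ι) (j'.W.ι) ≫ j'.W.ι) x := by
        rw [hu, pullback.condition]
      rw [this]
      exact ((pullback.snd (i'.W.ι) (j'.W.ι)) x).2
    obtain ⟨k, hki, hkj, huk⟩ := exists_common i' j' u hui huj
    refine ⟨k, homOfLE hki, homOfLE hkj, ⟨u, huk⟩, ?_⟩
    apply (pullback.fst (i'.W.ι) (j'.W.ι) ≫ i'.W.ι).isOpenEmbedding.injective
    have e : pullback.lift (G.U.homOfLE hki.le) (G.U.homOfLE hkj.le)
        (by rw [Scheme.homOfLE_ι, Scheme.homOfLE_ι]) ≫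
        pullback.fst (i'.W.ι) (j'.W.ι) ≫ i'.W.ι = k.W.ι := by
      rw [pullback.lift_fst_assoc, Scheme.homOfLE_ι]
    exact congrArg (fun φ : k.W.toScheme ⟶ G.U => φ ⟨u, huk⟩) e
  property_trans hij := inferInstanceAs (IsOpenImmersion (G.U.homOfLE _))

end Cover

section Quot

variable [IsFinite G.s] [Flat G.s] [LocallyOfFinitePresentation G.s]
variable (hcov : ∀ u : G.U, ∃ W : IAO G, u ∈ W.W)

/-- the local quotient maps into the glued scheme -/
noncomputable def qι (W : (cover hcov).I₀) : (cover hcov).X W ⟶ Y G :=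
  IAO.q (G := G) W ≫ ιY W

theorem qι_compat {i j : (cover hcov).I₀} (hij : i ⟶ j) :
    (cover hcov).trans hij ≫ qι hcov j = qι hcov i := by
  show G.U.homOfLE (cover_le hcov hij) ≫ IAO.q (G := G) j ≫ ιY j = IAO.q (G := G) i ≫ ιY i
  have h1 := q_naturality (G := G) (W' := i) (W := j) hij
  have h2 := ιY_w (G := G) (W' := i) (W := j) hij
  rw [← Category.assoc, ← h1, Category.assoc, h2]

/-- the quotient morphism -/
noncomputable def q : G.U ⟶ Y G :=
  (cover hcov).glueMorphismsOfLocallyDirected (qι hcov) (qι_compat hcov)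

theorem ι_q (W : IAO G) : W.W.ι ≫ q hcov = W.q ≫ ιY W :=
  (cover hcov).map_glueMorphismsOfLocallyDirected (qι hcov) (qι_compat hcov) W

theorem q_apply (W : IAO G) (u : G.U) (hu : u ∈ W.W) : q hcov u = ιY W (W.q ⟨u, hu⟩) := by
  have := congrArg (fun φ : W.W.toScheme ⟶ Y G => φ ⟨u, hu⟩) (ι_q hcov W)
  exact this

theorem q_preimage_range (W : IAO G) : q hcov ⁻¹ᵁ (ιY W).opensRange = W.W := by
  ext u
  constructor
  · rintro ⟨x, hx⟩
    obtain ⟨W', hu'⟩ := hcov u
    have h1 : ιY W x = ιY W' (W'.q ⟨u, hu'⟩) := by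
      rw [← q_apply hcov W' u hu']
      exact hx
    obtain ⟨k, fi, fj, z, -, hz2⟩ := ιY_eq_iff.1 h1
    obtain ⟨p, -, hp2⟩ := Scheme.exists_preimage_of_isPullback (F_isPullback fj) z ⟨u, hu'⟩ hz2
    have : (u : G.U) = W'.W.ι (G.U.homOfLE (leOfHom fj).le p) := by rw [hp2]; rfl
    rw [SetLike.mem_coe, this, ← Scheme.Hom.comp_apply, Scheme.homOfLE_ι]
    exact (leOfHom fi).le p.2
  · intro hu
    exact ⟨W.q ⟨u, hu⟩, (q_apply hcov W u hu).symm⟩

theorem isPullback_q (W : IAO G) : IsPullback W.q W.W.ι (ιY W) (q hcov) := by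
  refine IsOpenImmersion.isPullback _ _ _ _ (ι_q hcov W) ?_
  rw [q_preimage_range, Scheme.Opens.opensRange_ι]

end Quot

end Groth.Agent.Lib.T2H7.GrpdGlue
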