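import Mathlib
import Groth.Prelude.Def_Grpd
import Groth.Agent.Lib.T2H7GrpdGlue
import Groth.Agent.Lib.T2H7GrpdAffQ

/-!
# The quotient of a finite locally free groupoid whose orbits lie in affine opens (helper7)
-/

set_option autoImplicit false
set_option linter.style.haveILetI false
set_option linter.unusedSectionVars false
set_option backward.isDefEq.respectTransparency false
universe u

open CategoryTheory CategoryTheory.Limits AlgebraicGeometry
open Groth.Agent.Lib.T2H7.GrpdRes Groth.Agent.Lib.T2H7.GrpdInv Groth.Agent.Lib.T2H7.GrpdCinv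
open Groth.Agent.Lib.T2H7.GrpdGlue Groth.Agent.Lib.T2H7.GrpdAffQ

namespace Groth.Agent.Lib.T2H7.GrpdQuot

variable {S : Scheme.{u}} {G : Grpd.GroupoidScheme S}
variable [IsFinite G.s] [Flat G.s] [LocallyOfFinitePresentation G.s]
variable (hcov : ∀ u : G.U, ∃ W : IAO G, u ∈ W.W)

theorem q_coeq : G.s ≫ q hcov = G.t ≫ q hcov := by
  have hV : TopologicalSpace.IsOpenCover (fun W : IAO G => G.s ⁻¹ᵁ W.W) := by
    rw [TopologicalSpace.IsOpenCover, eq_top_iff]
    intro r _
    obtain ⟨W, hW⟩ := hcov (G.s r)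
    exact TopologicalSpace.Opens.mem_iSup.mpr ⟨W, hW⟩
  apply (G.R.openCoverOfIsOpenCover _ hV).hom_ext
  intro (W : IAO G)
  show (G.s ⁻¹ᵁ W.W).ι ≫ G.s ≫ q hcov = (G.s ⁻¹ᵁ W.W).ι ≫ G.t ≫ q hcov
  rw [← Category.assoc, ← morphismRestrict_ι, Category.assoc, ι_q hcov W,
    ← Category.assoc _ G.t, ← tW_ι G W.W W.inv, Category.assoc, ι_q hcov W]
  have := qW_coeq G W.W W.inv W.aff
  exact congrArg (fun φ => φ ≫ ιY W) this

theorem epi_q : Epi (q hcov) := by
  constructor
  intro Z a b hab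
  apply colimit.hom_ext
  intro W
  haveI := epi_qW G W.W W.inv W.aff
  show ιY W ≫ a = ιY W ≫ b
  rw [← cancel_epi W.q, ← Category.assoc, ← ι_q hcov W, Category.assoc, hab,
    ← Category.assoc, ι_q hcov W, Category.assoc]

theorem q_local (P : MorphismProperty Scheme.{u}) [IsZariskiLocalAtTarget P]
    (hP : ∀ W : IAO G, P W.q) : P (q hcov) := by
  apply IsZariskiLocalAtTarget.of_openCover (Scheme.IsLocallyDirected.openCover (F (G := G)))
  intro (W : IAO G)
  show P (pullback.snd (q hcov) (ιY W))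
  have hpb := (isPullback_q hcov W).flip
  have h1 : hpb.isoPullback.hom ≫ pullback.snd (q hcov) (ιY W) = W.q := hpb.isoPullback_hom_snd
  have h2 := hP W
  rw [← h1] at h2
  exact (P.cancel_left_of_respectsIso hpb.isoPullback.hom _).1 h2

theorem q_surjective : Function.Surjective (q hcov) := by
  intro y
  obtain ⟨W, x, rfl⟩ := ιY_jointly_surjective y
  obtain ⟨u, rfl⟩ := qW_surjective G W.W W.inv W.aff x
  exact ⟨u.1, q_apply hcov W u.1 u.2⟩

theorem q_eq_iff (u u' : G.U) : q hcov u = q hcov u' ↔ ∃ r : G.R, G.s r = u ∧ G.t r = u' := by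
  constructor
  · intro h
    obtain ⟨W, hu⟩ := hcov u
    have hu' : u' ∈ W.W := by
      rw [← q_preimage_range hcov W]
      show q hcov u' ∈ Set.range (ιY W)
      rw [← h, q_apply hcov W u hu]
      exact ⟨_, rfl⟩
    rw [q_apply hcov W u hu, q_apply hcov W u' hu'] at h
    have h2 := (ιY W).isOpenEmbedding.injective h
    obtain ⟨r, hr1, hr2⟩ := (qW_eq_iff G W.W W.inv W.aff ⟨u, hu⟩ ⟨u', hu'⟩).1 h2
    exact ⟨G.i r, by rw [s_i]; exact hr1, by rw [t_i]; exact hr2⟩
  · rintro ⟨r, rfl, rfl⟩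
    have := congrArg (fun φ : G.R ⟶ Y G => φ r) (q_coeq hcov)
    exact this

instance isIntegralHom_q : IsIntegralHom (q hcov) :=
  q_local hcov @IsIntegralHom (fun W => isIntegralHom_qW G W.W W.inv W.aff)

instance surjective_q : Surjective (q hcov) := ⟨q_surjective hcov⟩

section Desc

variable {Z : Scheme.{u}} (h : G.U ⟶ Z) (hh : G.s ≫ h = G.t ≫ h)

/-- invariant affine opens mapped into an affine open of the target -/
def Small (W : IAO G) : Prop := ∃ V : Z.Opens, IsAffineOpen V ∧ W.W ≤ h ⁻¹ᵁ V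

theorem Small.of_le {W' W : IAO G} (hW : Small h W) (hle : W' ≤ W) : Small h W' := by
  obtain ⟨V, hV, hWV⟩ := hW
  exact ⟨V, hV, (Good.le hle).trans hWV⟩

include hh hcov in
theorem exists_small (u : G.U) : ∃ W : IAO G, Small h W ∧ u ∈ W.W := by
  obtain ⟨W₀, hu⟩ := hcov u
  obtain ⟨_, ⟨V, hV : IsAffineOpen V, rfl⟩, huV, -⟩ :=
    Z.isBasis_affineOpens.exists_subset_of_mem_open (Set.mem_univ (h u)) isOpen_univ
  have hO : ∀ r : G.R, G.s r ∈ h ⁻¹ᵁ V ↔ G.t r ∈ h ⁻¹ᵁ V := by
    intro r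
    have := congrArg (fun φ : G.R ⟶ Z => φ r) hh
    show h (G.s r) ∈ V ↔ h (G.t r) ∈ V
    rw [show h (G.s r) = h (G.t r) from this]
  obtain ⟨c, huc, hc⟩ := exists_basicOpen_le G W₀.W W₀.inv W₀.aff (h ⁻¹ᵁ V) hO u hu huV
  exact ⟨W₀.basic c, ⟨V, hV, hc⟩, huc⟩

include hh in
theorem exists_mW (W : IAO G) (hW : Small h W) :
    ∃ m : Spec (CommRingCat.of W.C) ⟶ Z, W.q ≫ m = W.W.ι ≫ h := by
  obtain ⟨V, hV, hWV⟩ := hW
  haveI : IsAffine V := hV
  have hr : Set.range (W.W.ι ≫ h) ⊆ Set.range V.ι := by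
    rintro _ ⟨x, rfl⟩
    rw [Scheme.Opens.range_ι]
    exact hWV x.2
  set hWm := IsOpenImmersion.lift V.ι (W.W.ι ≫ h) hr with hhWm
  have hfac : hWm ≫ V.ι = W.W.ι ≫ h := IsOpenImmersion.lift_fac _ _ _
  have hinv : (res G W.W W.inv).s ≫ hWm = (res G W.W W.inv).t ≫ hWm := by
    rw [← cancel_mono V.ι, Category.assoc, Category.assoc, hfac]
    rw [← Category.assoc, ← Category.assoc]
    rw [show (res G W.W W.inv).s ≫ W.W.ι = (G.s ⁻¹ᵁ W.W).ι ≫ G.s from morphismRestrict_ι G.s W.W,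
      show (res G W.W W.inv).t ≫ W.W.ι = (G.s ⁻¹ᵁ W.W).ι ≫ G.t from tW_ι G W.W W.inv,
      Category.assoc, Category.assoc, hh]
  obtain ⟨m, hm⟩ := exists_desc_qW G W.W W.inv W.aff hWm hinv
  refine ⟨m ≫ V.ι, ?_⟩
  rw [← Category.assoc]
  show (qW G W.W W.inv ≫ m) ≫ V.ι = _
  rw [hm, hfac]

end Desc

section Glue

variable {Z : Scheme.{u}} (h : G.U ⟶ Z) (hh : G.s ≫ h = G.t ≫ h)

/-- the small invariant affine opens -/
abbrev SmallIdx := {W : IAO G // Small h W}

/-- the chosen factorisations on small invariant affine opens -/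
noncomputable def mW (W : SmallIdx h) : Spec (CommRingCat.of W.1.C) ⟶ Z :=
  (exists_mW h hh W.1 W.2).choose

theorem q_mW (W : SmallIdx h) : W.1.q ≫ mW h hh W = W.1.W.ι ≫ h :=
  (exists_mW h hh W.1 W.2).choose_spec

include hh hcov in
theorem covers_small (y : Y G) :
    ∃ (W : SmallIdx h) (x : Spec (CommRingCat.of W.1.C)), ιY W.1 x = y := by
  obtain ⟨W, x, rfl⟩ := ιY_jointly_surjective y
  obtain ⟨u, rfl⟩ := qW_surjective G W.W W.inv W.aff x
  obtain ⟨W', hW', hu'⟩ := exists_small hcov h hh u.1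
  obtain ⟨k, hk, hk', huk⟩ := exists_common W W' u.1 u.2 hu'
  refine ⟨⟨k, hW'.of_le h hk'⟩, k.q ⟨u.1, huk⟩, ?_⟩
  show ιY k (k.q ⟨u.1, huk⟩) = ιY W (W.q u)
  rw [← q_apply hcov k u.1 huk]
  exact q_apply hcov W u.1 u.2

/-- the cover of the quotient by the small local quotients -/
noncomputable def coverY : (Y G).OpenCover :=
  Scheme.Cover.mkOfCovers (SmallIdx h) (fun W => Spec (CommRingCat.of W.1.C))
    (fun W => ιY W.1) (fun y => by
      obtain ⟨W, x, hx⟩ := covers_small hcov h hh y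
      exact ⟨W, x, hx⟩) (fun _ => inferInstance)

instance : Preorder (coverY hcov h hh).I₀ := inferInstanceAs (Preorder (SmallIdx h))

theorem coverY_le {i j : (coverY hcov h hh).I₀} (f : i ⟶ j) :
    (show SmallIdx h from i).1 ≤ (show SmallIdx h from j).1 := leOfHom f

noncomputable instance : (coverY hcov h hh).LocallyDirected where
  trans {i j} hij := (F (G := G)).map (homOfLE (coverY_le hcov h hh hij))
  trans_id i := by
    have : homOfLE (coverY_le hcov h hh (𝟙 i)) = 𝟙 (show SmallIdx h from i).1 :=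
      Subsingleton.elim _ _
    exact (congrArg (F (G := G)).map this).trans ((F (G := G)).map_id _)
  trans_comp hij hjk := by
    refine Eq.trans ?_ ((F (G := G)).map_comp _ _)
    exact congrArg (F (G := G)).map (Subsingleton.elim _ _)
  w hij := ιY_w _
  directed {i j} x := by
    let i' : SmallIdx h := i
    let j' : SmallIdx h := j
    have hcond : ιY i'.1 (pullback.fst (ιY i'.1) (ιY j'.1) x) =
        ιY j'.1 (pullback.snd (ιY i'.1) (ιY j'.1) x) :=
      congrArg (fun φ : pullback (ιY i'.1) (ιY j'.1) ⟶ Y G => φ x) pullback.condition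
    obtain ⟨k, fi, fj, z, hz1, hz2⟩ := ιY_eq_iff.1 hcond
    have hk : Small h k := i'.2.of_le h (leOfHom fi)
    refine ⟨(⟨k, hk⟩ : SmallIdx h), homOfLE (leOfHom fi), homOfLE (leOfHom fj), z, ?_⟩
    apply (pullback.fst (ιY i'.1) (ιY j'.1)).isOpenEmbedding.injective
    have e : pullback.lift ((F (G := G)).map fi) ((F (G := G)).map fj)
        (by rw [ιY_w, ιY_w]) ≫ pullback.fst (ιY i'.1) (ιY j'.1) = (F (G := G)).map fi :=
      pullback.lift_fst _ _ _
    exact (congrArg (fun φ : Spec (CommRingCat.of k.C) ⟶ Spec (CommRingCat.of i'.1.C) => φ z)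
      e).trans hz1
  property_trans hij := inferInstanceAs (IsOpenImmersion ((F (G := G)).map _))

end Glue

section Univ

variable {Z : Scheme.{u}} (h : G.U ⟶ Z) (hh : G.s ≫ h = G.t ≫ h)

/-- the family of local factorisations, typed over the cover -/
noncomputable def mι (W : (coverY hcov h hh).I₀) : (coverY hcov h hh).X W ⟶ Z :=
  mW h hh W

theorem mι_compat {i j : (coverY hcov h hh).I₀} (hij : i ⟶ j) :
    (coverY hcov h hh).trans hij ≫ mι hcov h hh j = mι hcov h hh i := by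
  let i' : SmallIdx h := i
  let j' : SmallIdx h := j
  haveI := epi_qW G i'.1.W i'.1.inv i'.1.aff
  show (F (G := G)).map (homOfLE (coverY_le hcov h hh hij)) ≫ mW h hh j' = mW h hh i'
  rw [← cancel_epi i'.1.q, ← Category.assoc, q_naturality, Category.assoc, q_mW, q_mW,
    ← Category.assoc, Scheme.homOfLE_ι]

/-- the induced morphism out of the quotient -/
noncomputable def desc : Y G ⟶ Z :=
  (coverY hcov h hh).glueMorphismsOfLocallyDirected (mι hcov h hh) (mι_compat hcov h hh)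

theorem ιY_desc (W : SmallIdx h) : ιY W.1 ≫ desc hcov h hh = mW h hh W :=
  (coverY hcov h hh).map_glueMorphismsOfLocallyDirected (mι hcov h hh) (mι_compat hcov h hh) W

theorem q_desc : q hcov ≫ desc hcov h hh = h := by
  have hV : TopologicalSpace.IsOpenCover (fun W : SmallIdx h => W.1.W) := by
    rw [TopologicalSpace.IsOpenCover, eq_top_iff]
    intro u _
    obtain ⟨W, hW, hu⟩ := exists_small hcov h hh u
    exact TopologicalSpace.Opens.mem_iSup.mpr ⟨⟨W, hW⟩, hu⟩
  apply (G.U.openCoverOfIsOpenCover _ hV).hom_ext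
  intro (W : SmallIdx h)
  show W.1.W.ι ≫ q hcov ≫ desc hcov h hh = W.1.W.ι ≫ h
  rw [← Category.assoc, ι_q hcov W.1, Category.assoc, ιY_desc, q_mW]

include hh in
/-- the universal property of the quotient -/
theorem existsUnique_desc : ∃! m : Y G ⟶ Z, q hcov ≫ m = h := by
  refine ⟨desc hcov h hh, q_desc hcov h hh, ?_⟩
  intro m hm
  haveI := epi_q hcov
  rw [← cancel_epi (q hcov), hm, q_desc]

end Univ

/-- the quotient is a coequalizer in the category of schemes -/
theorem isColimit_q : Nonempty (IsColimit (Cofork.ofπ (q hcov) (q_coeq hcov))) := by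
  refine ⟨Cofork.IsColimit.mk' _ (fun s => ?_)⟩
  refine ⟨desc hcov s.π s.condition, q_desc hcov s.π s.condition, ?_⟩
  intro m hm
  haveI := epi_q hcov
  rw [← cancel_epi (q hcov)]
  exact hm.trans (q_desc hcov s.π s.condition).symm

section MonoJ

variable [Mono G.j]

theorem eq_of_t_s {T : Scheme.{u}} (r r' : T ⟶ G.R) (h1 : r ≫ G.t = r' ≫ G.t)
    (h2 : r ≫ G.s = r' ≫ G.s) : r = r' := by
  rw [← cancel_mono G.j]
  apply pullback.hom_ext
  · simpa only [Category.assoc, Grpd.GroupoidScheme.j, pullback.lift_fst] using h1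
  · simpa only [Category.assoc, Grpd.GroupoidScheme.j, pullback.lift_snd] using h2

instance isFinite_q : IsFinite (q hcov) :=
  q_local hcov @IsFinite (fun W => (qW_props G W.W W.inv W.aff).1)

instance flat_q : Flat (q hcov) :=
  q_local hcov @Flat (fun W => (qW_props G W.W W.inv W.aff).2.1)

instance lfp_q : LocallyOfFinitePresentation (q hcov) :=
  q_local hcov @LocallyOfFinitePresentation (fun W => (qW_props G W.W W.inv W.aff).2.2.1)

theorem exists_lift_R {T : Scheme.{u}} (a b : T ⟶ G.U) (hab : a ≫ q hcov = b ≫ q hcov) :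
    ∃ r : T ⟶ G.R, r ≫ G.t = a ∧ r ≫ G.s = b := by
  let V : IAO G → T.Opens := fun W => a ⁻¹ᵁ W.W
  have hV : TopologicalSpace.IsOpenCover V := by
    rw [TopologicalSpace.IsOpenCover, eq_top_iff]
    intro x _
    obtain ⟨W, hW⟩ := hcov (a x)
    exact TopologicalSpace.Opens.mem_iSup.mpr ⟨W, hW⟩
  have hbV : ∀ (W : IAO G) (x : T), x ∈ V W → b x ∈ W.W := by
    intro W x hx
    rw [← q_preimage_range hcov W]
    show q hcov (b x) ∈ Set.range (ιY W)
    have : q hcov (b x) = q hcov (a x) := (congrArg (fun φ : T ⟶ Y G => φ x) hab).symm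
    rw [this, q_apply hcov W (a x) hx]
    exact ⟨_, rfl⟩
  -- local lifts
  have hloc : ∀ W : IAO G, ∃ r : (V W).toScheme ⟶ G.R,
      r ≫ G.t = (V W).ι ≫ a ∧ r ≫ G.s = (V W).ι ≫ b := by
    intro W
    set aW := liftU G W.W ((V W).ι ≫ a) (fun x => x.2) with haW
    set bW := liftU G W.W ((V W).ι ≫ b) (fun x => hbV W _ x.2) with hbW
    have hpb := (qW_props G W.W W.inv W.aff).2.2.2
    have hab' : aW ≫ qW G W.W W.inv = bW ≫ qW G W.W W.inv := by
      rw [← cancel_mono (ιY W), Category.assoc, Category.assoc]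
      show aW ≫ W.q ≫ ιY W = bW ≫ W.q ≫ ιY W
      rw [← ι_q hcov W, liftU_ι_assoc, liftU_ι_assoc, Category.assoc, Category.assoc, hab]
    refine ⟨hpb.lift aW bW hab' ≫ (G.s ⁻¹ᵁ W.W).ι, ?_, ?_⟩
    · rw [Category.assoc, ← tW_ι G W.W W.inv, ← Category.assoc]
      show (hpb.lift aW bW hab' ≫ (res G W.W W.inv).t) ≫ W.W.ι = _
      rw [hpb.lift_fst, liftU_ι]
    · rw [Category.assoc, ← morphismRestrict_ι, ← Category.assoc]
      show (hpb.lift aW bW hab' ≫ (res G W.W W.inv).s) ≫ W.W.ι = _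
      rw [hpb.lift_snd, liftU_ι]
  choose r hr1 hr2 using hloc
  let 𝒯 := T.openCoverOfIsOpenCover V hV
  have hcompat : ∀ W W' : 𝒯.I₀, pullback.fst (𝒯.f W) (𝒯.f W') ≫ r W =
      pullback.snd (𝒯.f W) (𝒯.f W') ≫ r W' := by
    intro (W : IAO G) (W' : IAO G)
    apply eq_of_t_s
    · rw [Category.assoc, Category.assoc, hr1, hr1]
      exact pullback.condition_assoc _
    · rw [Category.assoc, Category.assoc, hr2, hr2]
      exact pullback.condition_assoc _
  refine ⟨𝒯.glueMorphisms r hcompat, ?_, ?_⟩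
  · apply 𝒯.hom_ext
    intro (W : IAO G)
    rw [← Category.assoc, 𝒯.ι_glueMorphisms]
    exact hr1 W
  · apply 𝒯.hom_ext
    intro (W : IAO G)
    rw [← Category.assoc, 𝒯.ι_glueMorphisms]
    exact hr2 W

theorem isPullback_q_q : IsPullback G.t G.s (q hcov) (q hcov) := by
  refine ⟨⟨(q_coeq hcov).symm⟩, ⟨PullbackCone.IsLimit.mk _
    (fun c => (exists_lift_R hcov c.fst c.snd c.condition).choose)
    (fun c => (exists_lift_R hcov c.fst c.snd c.condition).choose_spec.1)
    (fun c => (exists_lift_R hcov c.fst c.snd c.condition).choose_spec.2)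
    (fun c m h1 h2 => ?_)⟩⟩
  apply eq_of_t_s
  · rw [h1, (exists_lift_R hcov c.fst c.snd c.condition).choose_spec.1]
  · rw [h2, (exists_lift_R hcov c.fst c.snd c.condition).choose_spec.2]

end MonoJ

end Groth.Agent.Lib.T2H7.GrpdQuot
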