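import Mathlib
import Groth.Prelude.Def_Grpd
import Groth.Agent.Lib.T2H7GrpdQuot

/-!
# More on the quotient of a finite locally free groupoid (helper7)
-/

set_option autoImplicit false
set_option linter.style.haveILetI false
set_option linter.unusedSectionVars false
set_option backward.isDefEq.respectTransparency false
universe u

open CategoryTheory CategoryTheory.Limits AlgebraicGeometry
open Groth.Agent.Lib.T2H7.GrpdRes Groth.Agent.Lib.T2H7.GrpdInv Groth.Agent.Lib.T2H7.GrpdCinv
open Groth.Agent.Lib.T2H7.GrpdGlue Groth.Agent.Lib.T2H7.GrpdAffQ Groth.Agent.Lib.T2H7.GrpdQuot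

namespace Groth.Agent.Lib.T2H7.GrpdQuotB

variable {S : Scheme.{u}} {G : Grpd.GroupoidScheme S}

/-- the covering hypothesis from orbits lying in affine opens -/
theorem hcov_of_orbits [IsFinite G.s] [Flat G.s] [LocallyOfFinitePresentation G.s]
    (hb : ∀ x : G.U, ∃ V : G.U.Opens, IsAffineOpen V ∧
      G.t.base '' (G.s.base ⁻¹' {x}) ⊆ (V : Set G.U)) :
    ∀ u : G.U, ∃ W : IAO G, u ∈ W.W := by
  intro u
  obtain ⟨V, hV, huV⟩ := hb u
  obtain ⟨W, hW, hu, hinv⟩ := exists_invariant_affine G u V hV (fun r hr => huV ⟨r, hr, rfl⟩)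
  exact ⟨⟨W, hW, hinv⟩, hu⟩

variable [IsFinite G.s] [Flat G.s] [LocallyOfFinitePresentation G.s]
variable (hcov : ∀ u : G.U, ∃ W : IAO G, u ∈ W.W)

/-- the quotient is also a coequalizer of `(t, s)` -/
theorem isColimit_q' : Nonempty (IsColimit (Cofork.ofπ (q hcov) (q_coeq hcov).symm)) := by
  refine ⟨Cofork.IsColimit.mk' _ (fun s => ?_)⟩
  refine ⟨desc hcov s.π s.condition.symm, q_desc hcov s.π s.condition.symm, ?_⟩
  intro m hm
  haveI := epi_q hcov
  rw [← cancel_epi (q hcov)]
  exact hm.trans (q_desc hcov s.π s.condition.symm).symm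

/-- any coequalizer of `(t, s)` is isomorphic to the constructed quotient -/
theorem exists_iso_of_isColimit {Y' : Scheme.{u}} (p : G.U ⟶ Y') (w : G.t ≫ p = G.s ≫ p)
    (hc : IsColimit (Cofork.ofπ p w)) : ∃ e : Y G ≅ Y', q hcov ≫ e.hom = p := by
  obtain ⟨hq⟩ := isColimit_q' hcov
  refine ⟨hq.coconePointUniqueUpToIso hc, ?_⟩
  exact hq.comp_coconePointUniqueUpToIso_hom hc WalkingParallelPair.one

end Groth.Agent.Lib.T2H7.GrpdQuotB
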