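import Mathlib
import Groth.Prelude.Def_Grpd
import Groth.Agent.Lib.T2H7GrpdQuotB

/-!
# Topological properties of the quotient of a finite locally free groupoid (helper7)
-/

set_option autoImplicit false
set_option linter.style.haveILetI false
set_option linter.unusedSectionVars false
set_option backward.isDefEq.respectTransparency false
universe u

open CategoryTheory CategoryTheory.Limits AlgebraicGeometry
open Groth.Agent.Lib.T2H7.GrpdRes Groth.Agent.Lib.T2H7.GrpdInv Groth.Agent.Lib.T2H7.GrpdCinv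
open Groth.Agent.Lib.T2H7.GrpdGlue Groth.Agent.Lib.T2H7.GrpdAffQ Groth.Agent.Lib.T2H7.GrpdQuot
open Groth.Agent.Lib.T2H7.GrpdBridgeB

namespace Groth.Agent.Lib.T2H7.GrpdQuotC

variable {S : Scheme.{u}} {G : Grpd.GroupoidScheme S}
variable [IsFinite G.s] [Flat G.s] [LocallyOfFinitePresentation G.s]
variable (hcov : ∀ u : G.U, ∃ W : IAO G, u ∈ W.W)

theorem isOpenMap_q : IsOpenMap (q hcov) := by
  haveI : Flat G.t := flat_t G
  haveI : LocallyOfFinitePresentation G.t := lfp_t G
  have hquot : Topology.IsQuotientMap (q hcov) :=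
    (q hcov).isClosedMap.isQuotientMap (q hcov).continuous (q_surjective hcov)
  intro O hO
  rw [← hquot.isOpen_preimage]
  have : q hcov ⁻¹' (q hcov '' O) = G.t '' (G.s ⁻¹' O) := by
    ext u
    constructor
    · rintro ⟨o, ho, hou⟩
      obtain ⟨r, hr1, hr2⟩ := (q_eq_iff hcov o u).1 hou
      exact ⟨r, by rw [Set.mem_preimage, hr1]; exact ho, hr2⟩
    · rintro ⟨r, hr, rfl⟩
      exact ⟨G.s r, hr, (q_eq_iff hcov _ _).2 ⟨r, rfl, rfl⟩⟩
  rw [this]
  exact G.t.isOpenMap _ (hO.preimage G.s.continuous)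

include hcov in
theorem isAffine_Y [IsAffine G.U] : IsAffine (Y G) := by
  let W : IAO G := ⟨⊤, isAffineOpen_top G.U, rfl⟩
  have hsurj : Function.Surjective (ιY W) := by
    intro y
    obtain ⟨u, rfl⟩ := q_surjective hcov y
    exact ⟨W.q ⟨u, trivial⟩, (q_apply hcov W u trivial).symm⟩
  haveI : Epi (ιY W).base := (TopCat.epi_iff_surjective _).2 hsurj
  haveI : IsIso (ιY W) := IsOpenImmersion.isIso _
  exact IsAffine.of_isIso (inv (ιY W))

theorem surjective_lift (w : G.t ≫ q hcov = G.s ≫ q hcov) :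
    Function.Surjective (pullback.lift G.t G.s w) := by
  intro z
  let K := AlgebraicClosure ((pullback (q hcov) (q hcov)).residueField z)
  let zb : Spec (CommRingCat.of K) ⟶ pullback (q hcov) (q hcov) :=
    Spec.map (CommRingCat.ofHom (algebraMap ((pullback (q hcov) (q hcov)).residueField z) K)) ≫
      (pullback (q hcov) (q hcov)).fromSpecResidueField z
  have hzb : ∀ x : Spec (CommRingCat.of K), zb x = z := by
    intro x
    show ((pullback (q hcov) (q hcov)).fromSpecResidueField z) _ = z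
    exact Scheme.fromSpecResidueField_apply _ _
  let pt : Spec (CommRingCat.of K) := (⊥ : PrimeSpectrum K)
  have hpt : ∀ x : Spec (CommRingCat.of K), x = pt := fun x =>
    Subsingleton.elim (α := PrimeSpectrum K) x pt
  set a := zb ≫ pullback.fst (q hcov) (q hcov) with ha
  set b := zb ≫ pullback.snd (q hcov) (q hcov) with hb
  have hab : a ≫ q hcov = b ≫ q hcov := by
    have := congrArg (fun φ => zb ≫ φ) (pullback.condition (f := q hcov) (g := q hcov))
    exact ((Category.assoc _ _ _).trans this).trans (Category.assoc _ _ _).symm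
  obtain ⟨W, hW⟩ := hcov (a pt)
  have haW : ∀ x : Spec (CommRingCat.of K), a x ∈ W.W := fun x => by rw [hpt x]; exact hW
  have hbW : ∀ x : Spec (CommRingCat.of K), b x ∈ W.W := by
    intro x
    rw [← q_preimage_range hcov W]
    show q hcov (b x) ∈ Set.range (ιY W)
    have : q hcov (b x) = q hcov (a x) :=
      (congrArg (fun φ : Spec (CommRingCat.of K) ⟶ Y G => φ x) hab).symm
    rw [this, q_apply hcov W (a x) (haW x)]
    exact ⟨_, rfl⟩
  set aW := liftU G W.W a haW with haWdef
  set bW := liftU G W.W b hbW with hbWdef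
  have hab' : aW ≫ qW G W.W W.inv = bW ≫ qW G W.W W.inv := by
    rw [← cancel_mono (ιY W), Category.assoc, Category.assoc]
    show aW ≫ W.q ≫ ιY W = bW ≫ W.q ≫ ιY W
    rw [← ι_q hcov W, liftU_ι_assoc, liftU_ι_assoc, hab]
  haveI := res_isAffine_U G W.W W.inv W.aff
  haveI := res_isAffine_R G W.W W.inv W.aff
  have hab'' : aW ≫ (res G W.W W.inv).toQuot = bW ≫ (res G W.W W.inv).toQuot := by
    rw [qW_eq, ← Category.assoc, ← Category.assoc, cancel_mono] at hab'
    exact hab'
  obtain ⟨r, hr1, hr2⟩ := (pt_iff (res G W.W W.inv) K aW bW).1 hab''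
  refine ⟨(r ≫ (G.s ⁻¹ᵁ W.W).ι) pt, ?_⟩
  have hr : (r ≫ (G.s ⁻¹ᵁ W.W).ι) ≫ pullback.lift G.t G.s w = zb := by
    apply pullback.hom_ext
    · rw [Category.assoc, pullback.lift_fst, Category.assoc, ← tW_ι G W.W W.inv, ← Category.assoc]
      show (r ≫ (res G W.W W.inv).t) ≫ W.W.ι = a
      rw [hr1, liftU_ι]
    · rw [Category.assoc, pullback.lift_snd, Category.assoc, ← morphismRestrict_ι,
        ← Category.assoc]
      show (r ≫ (res G W.W W.inv).s) ≫ W.W.ι = b
      rw [hr2, liftU_ι]
  have := congrArg (fun φ : Spec (CommRingCat.of K) ⟶ pullback (q hcov) (q hcov) => φ pt) hr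
  exact this.trans (hzb pt)

end Groth.Agent.Lib.T2H7.GrpdQuotC
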