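import Mathlib
import Groth.Prelude.Def_Grpd
import Groth.Prelude.Def_AlgSp2
import Groth.Agent.Lib.T2H7EqvGrpd
import Groth.Agent.Lib.Helper9QuotSh
import Groth.Agent.S9885
import Groth.Agent.S9927
import Groth.Agent.S10176
import Groth.Agent.S4085
import Groth.Agent.S4086

/-!
# helper7: the kernel pair groupoid of a representable map `h_U ⟶ X`, and the quotient theorem

* `grpd sq`: the groupoid scheme `(U, R, s, t, c)` attached to a cartesian square
  `h_R = h_U ×_X h_U`.
* `exists_iso_yon_of_finite_etale`: if `a : h_U ⟶ X` is representable finite etale surjective and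
  every fibre of `|U| ⟶ |X|` lies in an affine open of `U`, then `X ≅ h_Y` for a scheme `Y`.
-/

set_option autoImplicit false
set_option linter.unusedSectionVars false
set_option linter.unusedVariables false
set_option linter.style.haveILetI false
universe u
open CategoryTheory CategoryTheory.Limits AlgebraicGeometry Opposite
open Grpd AlgSp

namespace Groth.Agent.Lib.T2H7.KerPairGrpd

variable {S : Scheme.{u}} {X : AlgSp.Sp S} {U R : Over S} {a : (AlgSp.yon S).obj U ⟶ X}
  {s t : R ⟶ U} (sq : IsPullback ((AlgSp.yon S).map t) ((AlgSp.yon S).map s) a a)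

/-- lifting a pair of `T`-points of `U` with the same image in `X` to `R`. -/
noncomputable def lift {T : Over S} (x y : T ⟶ U)
    (h : (AlgSp.yon S).map x ≫ a = (AlgSp.yon S).map y ≫ a) : T ⟶ R :=
  (AlgSp.yon S).preimage (sq.lift _ _ h)

theorem lift_t {T : Over S} (x y : T ⟶ U)
    (h : (AlgSp.yon S).map x ≫ a = (AlgSp.yon S).map y ≫ a) : lift sq x y h ≫ t = x := by
  apply (AlgSp.yon S).map_injective
  rw [Functor.map_comp, lift, Functor.map_preimage, sq.lift_fst]

theorem lift_s {T : Over S} (x y : T ⟶ U)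
    (h : (AlgSp.yon S).map x ≫ a = (AlgSp.yon S).map y ≫ a) : lift sq x y h ≫ s = y := by
  apply (AlgSp.yon S).map_injective
  rw [Functor.map_comp, lift, Functor.map_preimage, sq.lift_snd]

include sq in
theorem hom_ext {T : Over S} (f g : T ⟶ R) (h1 : f ≫ t = g ≫ t) (h2 : f ≫ s = g ≫ s) : f = g := by
  apply (AlgSp.yon S).map_injective
  apply sq.hom_ext
  · rw [← Functor.map_comp, ← Functor.map_comp, h1]
  · rw [← Functor.map_comp, ← Functor.map_comp, h2]

include sq in
theorem hom_ext_left {T : Scheme.{u}} (f g : T ⟶ R.left) (h1 : f ≫ t.left = g ≫ t.left)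
    (h2 : f ≫ s.left = g ≫ s.left) : f = g := by
  have hw : g ≫ R.hom = f ≫ R.hom := by
    rw [← Over.w t, ← Category.assoc, ← h1, Category.assoc]
  let T' : Over S := Over.mk (f ≫ R.hom)
  let f' : T' ⟶ R := Over.homMk f rfl
  let g' : T' ⟶ R := Over.homMk g hw
  have h : f' = g' := hom_ext sq f' g' (by ext1; exact h1) (by ext1; exact h2)
  exact congrArg (fun m => m.left) h

/-- the identity. -/
noncomputable def e : U ⟶ R := lift sq (𝟙 U) (𝟙 U) rfl

/-- the inverse. -/
noncomputable def i : R ⟶ R := lift sq s t sq.w.symm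

/-- the source of pairs of composable arrows, over `S`. -/
noncomputable def P (s t : R ⟶ U) : Over S := Over.mk (pullback.fst s.left t.left ≫ R.hom)

/-- first arrow. -/
noncomputable def f₁ (s t : R ⟶ U) : P s t ⟶ R := Over.homMk (pullback.fst s.left t.left) rfl

/-- second arrow. -/
noncomputable def f₂ (s t : R ⟶ U) : P s t ⟶ R :=
  Over.homMk (pullback.snd s.left t.left) (by
    change pullback.snd s.left t.left ≫ R.hom = pullback.fst s.left t.left ≫ R.hom
    have h1 : pullback.snd s.left t.left ≫ R.hom = (pullback.snd s.left t.left ≫ t.left) ≫ U.hom := by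
      rw [Category.assoc, Over.w t]
    have h2 : pullback.fst s.left t.left ≫ R.hom = (pullback.fst s.left t.left ≫ s.left) ≫ U.hom := by
      rw [Category.assoc, Over.w s]
    rw [h1, h2, pullback.condition])

theorem f_cond (s t : R ⟶ U) : f₁ s t ≫ s = f₂ s t ≫ t := by
  ext1
  exact pullback.condition

include sq in
theorem c_cond : (AlgSp.yon S).map (f₁ s t ≫ t) ≫ a = (AlgSp.yon S).map (f₂ s t ≫ s) ≫ a := by
  rw [Functor.map_comp, Category.assoc, sq.w, ← Category.assoc, ← Functor.map_comp, f_cond,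
    Functor.map_comp, Category.assoc, sq.w, ← Category.assoc, ← Functor.map_comp]

/-- the composition. -/
noncomputable def c : P s t ⟶ R := lift sq (f₁ s t ≫ t) (f₂ s t ≫ s) (c_cond sq)

/-- the kernel pair groupoid. -/
noncomputable def grpd : Grpd.GroupoidScheme S :=
  Groth.Agent.Lib.T2H7.EqvGrpd.ofEqv U.hom s.left t.left
    ((Over.w s).trans (Over.w t).symm)
    (fun f g h1 h2 => hom_ext_left sq f g h1 h2)
    (e sq).left
    (by rw [← Over.comp_left, e, lift_s]; rfl)
    (by rw [← Over.comp_left, e, lift_t]; rfl)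
    (i sq).left
    (by rw [← Over.comp_left, i, lift_s])
    (by rw [← Over.comp_left, i, lift_t])
    (c sq).left
    (by
      have h := congrArg (fun m => m.left) (lift_s sq (f₁ s t ≫ t) (f₂ s t ≫ s) (c_cond sq))
      exact h)
    (by
      have h := congrArg (fun m => m.left) (lift_t sq (f₁ s t ≫ t) (f₂ s t ≫ s) (c_cond sq))
      exact h)

theorem grpd_U : (grpd sq).U = U.left := rfl
theorem grpd_R : (grpd sq).R = R.left := rfl
theorem grpd_s : (grpd sq).s = s.left := rfl
theorem grpd_t : (grpd sq).t = t.left := rfl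
theorem grpd_pU : (grpd sq).pU = U.hom := rfl

theorem mono_j : Mono (grpd sq).j :=
  Groth.Agent.Lib.T2H7.EqvGrpd.mono_j _ _ _ _ _ _ _ _ _ _ _ _ _ _

open Groth.Agent.Lib.Helper9 in
/-- Two epimorphisms out of `A` with the same kernel pair have isomorphic targets: the comparison
map is an isomorphism. -/
theorem isIso_of_kernelPair {E : Type*} [Category* E] [ToposLike E] {P A B C : E} (q : A ⟶ B)
    (f : A ⟶ C) (σ : B ⟶ C) (hσ : q ≫ σ = f) (hq : Epi q) (hf : Epi f) (p₁ p₂ : P ⟶ A)
    (hpq : p₁ ≫ q = p₂ ≫ q) (hk : IsKernelPair f p₁ p₂) : IsIso σ := by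
  have hepi : Epi σ := by
    have : Epi (q ≫ σ) := by rw [hσ]; exact hf
    exact epi_of_epi q σ
  have hmono : Mono σ := by
    constructor
    intro W x y hxy
    obtain ⟨W', e', he', x', y', hx', hy'⟩ := ToposLike.exists_local_lift₂ q hq x y
    have h3 : x' ≫ f = y' ≫ f := by
      rw [← hσ, ← Category.assoc, ← Category.assoc, ← hx', ← hy', Category.assoc,
        Category.assoc, hxy]
    obtain ⟨l, hl₁, hl₂⟩ := hk.exists_lift x' y' h3
    rw [← cancel_epi e', hx', hy', ← hl₁, ← hl₂, Category.assoc, Category.assoc, hpq]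
  exact ToposLike.isIso_of_mono_of_epi _ hmono hepi

open Groth.Agent.Lib.Helper9 in
/-- **Quotient by a finite etale equivalence relation with orbits in affine opens.**  If
`a : h_U ⟶ X` is representable finite, etale and surjective and every fibre of `|U| ⟶ |X|` is
contained in an affine open of `U`, then `X` is (representable by) a scheme. -/
theorem exists_iso_yon_of_finite_etale {S : Scheme.{u}} {X : AlgSp.Sp S} {U : Over S}
    (a : (AlgSp.yon S).obj U ⟶ X)
    (hf : AlgSp.RepWith @IsFinite a) (he : AlgSp.RepWith @Etale a)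
    (hs : AlgSp.RepWith @Surjective a)
    (hb : ∀ u : ↥U.left, ∃ V : U.left.Opens, IsAffineOpen V ∧
      {u' : ↥U.left | AlgSp.Points.ofPt a u' = AlgSp.Points.ofPt a u} ⊆ (V : Set ↥U.left)) :
    ∃ Y : Over S, Nonempty ((AlgSp.yon S).obj Y ≅ X) := by
  obtain ⟨R, s, t', sq⟩ := hf.1 a
  obtain ⟨t, rfl⟩ := (AlgSp.yon S).map_surjective t'
  have hsfin : IsFinite s.left := hf.2 a _ s sq
  have hset : Etale s.left := he.2 a _ s sq
  let G := grpd sq
  have ha : Mor2.IsFinLocFree G.s := by
    change Mor2.IsFinLocFree s.left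
    exact ⟨hsfin, inferInstance, inferInstance⟩
  have key : ∀ x : ↥U.left, ∃ V : U.left.Opens, IsAffineOpen V ∧
      t.left '' (s.left ⁻¹' ({x} : Set ↥U.left)) ⊆ (V : Set ↥U.left) := by
    intro x
    obtain ⟨V, hV, hsub⟩ := hb x
    refine ⟨V, hV, ?_⟩
    have h1 := Groth.Agent.S10176.preimage_ofPt_image sq.flip ({x} : Set ↥U.left)
    rw [← h1]
    rintro y ⟨x', hx', hy⟩
    rw [Set.mem_singleton_iff] at hx'
    subst hx'
    exact hsub hy.symm
  have hb' : ∀ x : G.U, ∃ V : G.U.Opens, IsAffineOpen V ∧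
      G.t.base '' (G.s.base ⁻¹' {x}) ⊆ (V : Set G.U) := key
  obtain ⟨Y, p, w, ⟨hc⟩, -, hsurj, -, -, -, -⟩ := Groth.Agent.S4085.result S G ha hb'
  haveI : Mono G.j := mono_j sq
  obtain ⟨hpb, hflf⟩ := Groth.Agent.S4086.result S G ha hb' Y p w hc
  -- structure map of `Y`
  have hcond : G.t ≫ U.hom = G.s ≫ U.hom := (Over.w t).trans (Over.w s).symm
  let pY : Y ⟶ S := Cofork.IsColimit.desc hc U.hom hcond
  have hpY : p ≫ pY = U.hom := Cofork.IsColimit.π_desc hc
  let Y' : Over S := Over.mk pY
  let p' : U ⟶ Y' := Over.homMk p hpY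
  have sqO : IsPullback t s p' p' :=
    IsPullback.of_map (Over.forget S) (by ext1; exact w) hpb
  have sqY : IsPullback ((AlgSp.yon S).map t) ((AlgSp.yon S).map s) ((AlgSp.yon S).map p')
      ((AlgSp.yon S).map p') := sqO.map (AlgSp.yon S)
  have hflat : Flat p'.left := hflf.2.1
  have hlfp : LocallyOfFinitePresentation p'.left := hflf.2.2
  have hsj : Surjective p'.left := hsurj
  have hepi : Epi ((AlgSp.yon S).map p') := by
    haveI := Groth.Agent.S9885.isLocallySurjective_of_repWith ((AlgSp.yon S).map p')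
      ((AlgSp.repWith_yon_map_iff @Flat p').2 hflat)
      ((AlgSp.repWith_yon_map_iff @LocallyOfFinitePresentation p').2 hlfp)
      ((AlgSp.repWith_yon_map_iff @Surjective p').2 hsj)
    exact (Sheaf.isLocallySurjective_iff_epi _).1 inferInstance
  have hepia : Epi a := Groth.Agent.S9927.epi_of_repWith a he hs
  obtain ⟨σ, hσ, -⟩ := existsUnique_desc_of_kernelPair ((AlgSp.yon S).map p') hepi
    ((AlgSp.yon S).map t) ((AlgSp.yon S).map s) sqY a sq.w
  haveI : IsIso σ := isIso_of_kernelPair ((AlgSp.yon S).map p') a σ hσ.symm hepi hepia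
    ((AlgSp.yon S).map t) ((AlgSp.yon S).map s) sqY.w sq
  exact ⟨Y', ⟨asIso σ⟩⟩

end Groth.Agent.Lib.T2H7.KerPairGrpd
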