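import Mathlib
import Groth.Agent.Lib.Helper12OpenSub
import Groth.Agent.Lib.Helper12OpenSub2
import Groth.Agent.S9922
import Groth.Agent.S10176

/-!
# helper7: base change of an open subspace to a chart; closedness and finite fibres of
`|U| ⟶ |X|` for a representable finite map `h_U ⟶ X`.
-/

set_option autoImplicit false
set_option linter.unusedSectionVars false
set_option linter.unusedVariables false
set_option linter.style.haveILetI false
universe u
open CategoryTheory CategoryTheory.Limits AlgebraicGeometry Opposite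
open AlgSp Groth.Agent.S13210

namespace Groth.Agent.Lib.T2H7.SpOpenBC

open Groth.Agent.Lib.Helper12.OpenSub

variable {S : Scheme.{u}}

/-- the pullback of the open subsheaf `obj X W` along `g : h_T ⟶ X` is `h_V` for the open
`V = |g|⁻¹ W` of `T`. -/
theorem exists_isPullback_incl {X : AlgSp.Sp S} (W : Set (AlgSp.Points X)) {T : Over S}
    (g : (AlgSp.yon S).obj T ⟶ X) (V : T.left.Opens)
    (hV : (V : Set ↥T.left) = AlgSp.Points.ofPt g ⁻¹' W) :
    ∃ a' : (AlgSp.yon S).obj (Over.mk (V.ι ≫ T.hom)) ⟶ obj X W,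
      IsPullback a' ((AlgSp.yon S).map (Over.homMk V.ι rfl : Over.mk (V.ι ≫ T.hom) ⟶ T))
        (incl X W) g := by
  let T' : Over S := Over.mk (V.ι ≫ T.hom)
  let ι : T' ⟶ T := Over.homMk V.ι rfl
  have hmemV : ∀ t : ↥T.left, t ∈ V ↔ AlgSp.Points.ofPt g t ∈ W := by
    intro t
    change t ∈ (V : Set ↥T.left) ↔ _
    rw [hV]; rfl
  have hfac : ∀ t : ↥T'.left, AlgSp.Points.ofPt ((AlgSp.yon S).map ι ≫ g) t ∈ W := by
    intro t
    rw [Groth.Agent.S10509.ofPt_yon_map_comp]
    have h3 : V.ι t ∈ V := by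
      have h := V.range_ι
      have h2 : V.ι t ∈ Set.range V.ι := ⟨t, rfl⟩
      rw [h] at h2; exact h2
    exact (hmemV _).1 h3
  obtain ⟨a', ha'⟩ := (factor_iff W _).2 hfac
  refine ⟨a', ?_⟩
  apply isPullback_of_yon ha'
  intro T'' b c hbc
  obtain ⟨c₀, rfl⟩ := (AlgSp.yon S).map_surjective c
  have hc : ∀ t : ↥T''.left, c₀.left t ∈ V := by
    intro t
    have h := (factor_iff W (b ≫ incl X W)).1 ⟨b, rfl⟩ t
    rw [hbc, Groth.Agent.S10509.ofPt_yon_map_comp] at h
    exact (hmemV _).2 h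
  have hrange : Set.range c₀.left ⊆ Set.range V.ι := by
    rw [V.range_ι]; rintro _ ⟨t, rfl⟩; exact hc t
  let d₀ : T''.left ⟶ V.toScheme := IsOpenImmersion.lift V.ι c₀.left hrange
  have hd₀ : d₀ ≫ V.ι = c₀.left := IsOpenImmersion.lift_fac _ _ _
  let d : T'' ⟶ T' := Over.homMk d₀ (by
    show d₀ ≫ V.ι ≫ T.hom = T''.hom
    rw [← Category.assoc, hd₀]; exact Over.w c₀)
  have hdι : d ≫ ι = c₀ := by ext1; exact hd₀
  refine ⟨(AlgSp.yon S).map d, ⟨?_, ?_⟩, ?_⟩
  · rw [← cancel_mono (incl X W), Category.assoc, ha', ← Category.assoc, ← Functor.map_comp,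
      hdι, hbc]
  · rw [← Functor.map_comp, hdι]
  · rintro a ⟨-, ha2⟩
    obtain ⟨a₀, rfl⟩ := (AlgSp.yon S).map_surjective a
    rw [← Functor.map_comp] at ha2
    have h := (AlgSp.yon S).map_injective ha2
    congr 1
    ext1
    rw [← cancel_mono V.ι]
    have h4 : a₀.left ≫ V.ι = c₀.left := congrArg (fun m => m.left) h
    rw [h4]; exact hd₀.symm

/-- a representable finite map `h_U ⟶ X` is closed on points. -/
theorem isClosedMap_ofPt {X : AlgSp.Sp S} {U : Over S} (a : (AlgSp.yon S).obj U ⟶ X)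
    (hf : AlgSp.RepWith @IsFinite a) : IsClosedMap (AlgSp.Points.ofPt a) := by
  have huc : AlgSp.RepWith @UniversallyClosed a :=
    ⟨hf.1, fun _ _ g fst snd BC => by
      haveI : IsFinite snd.left := hf.2 g fst snd BC
      exact (inferInstance : UniversallyClosed snd.left)⟩
  have h1 := Groth.Agent.S9922.isClosedMap_map_of_repWith a huc
  have h2 : AlgSp.Points.ofPt a = AlgSp.Points.map a ∘ AlgSp.Points.schemeHomeo U := by
    funext t
    exact AlgSp.Points.ofPt_eq_map_ofScheme a t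
  rw [h2]
  exact h1.comp (AlgSp.Points.schemeHomeo U).isClosedMap

/-- a representable finite map `h_U ⟶ X` has finite fibres on points. -/
theorem finite_fibre_ofPt {X : AlgSp.Sp S} {U : Over S} (a : (AlgSp.yon S).obj U ⟶ X)
    (hf : AlgSp.RepWith @IsFinite a) (x : AlgSp.Points X) :
    (AlgSp.Points.ofPt a ⁻¹' {x}).Finite := by
  by_cases hx : ∃ u, AlgSp.Points.ofPt a u = x
  · obtain ⟨u, rfl⟩ := hx
    obtain ⟨R, s, t', sq⟩ := hf.1 a
    obtain ⟨t, rfl⟩ := (AlgSp.yon S).map_surjective t'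
    haveI : IsFinite s.left := hf.2 a _ s sq
    have h1 := Groth.Agent.S10176.preimage_ofPt_image sq.flip ({u} : Set ↥U.left)
    rw [Set.image_singleton] at h1
    rw [h1]
    exact (Scheme.Hom.finite_preimage_singleton s.left u).image _
  · have : AlgSp.Points.ofPt a ⁻¹' {x} = ∅ := by
      ext u
      simp only [Set.mem_preimage, Set.mem_singleton_iff, Set.mem_empty_iff_false, iff_false]
      exact fun h => hx ⟨u, h⟩
    rw [this]
    exact Set.finite_empty

end Groth.Agent.Lib.T2H7.SpOpenBC
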