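import Mathlib
import Groth.Prelude.Def_AlgSp2
import Groth.Agent.S10176
import Groth.Agent.Lib.Helper2Weight2
import Groth.Agent.Lib.T2H7KerPairGrpd
import Groth.Agent.Lib.T2H7SpOpenBC
import Groth.Agent.Lib.Helper20SymProd
import Groth.Agent.Lib.Helper4GenFinite3
import Groth.Agent.Lib.T2H1IrrFlat2
import Groth.Agent.Lib.T2H1HasAt1
import Groth.Agent.Lib.T2H1StalkDim
import Groth.Agent.S2080
import Groth.Agent.S10177
import Groth.Agent.S10265

/-!
# helper7: the locus over which an etale chart of a sheaf is finite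

* `isFinite_snd_of_image`: let `a : h_U ⟶ X` be representable etale with `h_R = h_U ×_X h_U`, and
  `V ⊆ U` an open over which `s : R ⟶ U` is finite. Then every base change of `a` along a map
  `h_T ⟶ X` whose points land in the image of `V` is finite.
-/

set_option autoImplicit false
set_option linter.unusedSectionVars false
set_option linter.unusedVariables false
set_option linter.style.haveILetI false
universe u
open CategoryTheory CategoryTheory.Limits AlgebraicGeometry Opposite
open AlgSp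

namespace Groth.Agent.Lib.T2H7.FinLocus

variable {S : Scheme.{u}}

theorem isFinite_snd_of_image {X : AlgSp.Sp S} {U R : Over S} (a : (AlgSp.yon S).obj U ⟶ X)
    (he : AlgSp.RepWith @Etale a) {s t : R ⟶ U}
    (sq : IsPullback ((AlgSp.yon S).map t) ((AlgSp.yon S).map s) a a)
    (V : U.left.Opens) (hV : IsFinite (s.left ∣_ V))
    {T P : Over S} (g : (AlgSp.yon S).obj T ⟶ X)
    (hg : ∀ y : ↥T.left, AlgSp.Points.ofPt g y ∈ AlgSp.Points.ofPt a '' (V : Set ↥U.left))
    (fst : (AlgSp.yon S).obj P ⟶ (AlgSp.yon S).obj U) (snd : P ⟶ T)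
    (sqP : IsPullback fst ((AlgSp.yon S).map snd) a g) : IsFinite snd.left := by
  apply Groth.Agent.Lib.Helper2.Weight.isFinite_of_etale_local
  intro y
  let VO : Over S := Over.mk (V.ι ≫ U.hom)
  let ιV : VO ⟶ U := Over.homMk V.ι rfl
  let aV : (AlgSp.yon S).obj VO ⟶ X := (AlgSp.yon S).map ιV ≫ a
  have heV : AlgSp.RepWith @Etale aV :=
    (AlgSp.RepWith @Etale).comp_mem _ _
      ((AlgSp.repWith_yon_map_iff @Etale ιV).2 (inferInstanceAs (Etale V.ι))) he
  obtain ⟨Q, qT, qV', sqQ⟩ := heV.1 g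
  obtain ⟨qV, rfl⟩ := (AlgSp.yon S).map_surjective qV'
  obtain ⟨f₁, rfl⟩ := (AlgSp.yon S).map_surjective fst
  haveI : Etale qT.left := heV.2 g _ qT sqQ
  refine ⟨Q.left, qT.left, inferInstance, ?_, ?_⟩
  · obtain ⟨v, hv, hvy⟩ := hg y
    have h1 : AlgSp.Points.ofPt aV (⟨v, hv⟩ : V) = AlgSp.Points.ofPt g y := by
      rw [Groth.Agent.S10176.ofPt_map_comp]
      exact hvy
    obtain ⟨q, -, hq⟩ := Groth.Agent.S10176.exists_point_of_isPullback_yon sqQ _ y h1
    exact ⟨q, hq⟩
  · -- the fibre product `Z = P ×_T Q` over `S`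
    have hZ : IsPullback (pullback.fst snd qT) (pullback.snd snd qT) snd qT :=
      IsPullback.of_hasPullback snd qT
    set Z := pullback snd qT with hZdef
    set z₁ := pullback.fst snd qT with hz₁
    set z₂ := pullback.snd snd qT with hz₂
    have hZy := hZ.map (AlgSp.yon S)
    have big := hZy.paste_horiz sqP
    let qU : Q ⟶ U := qV ≫ ιV
    have hw : (AlgSp.yon S).map qT ≫ g = (AlgSp.yon S).map qU ≫ a := by
      rw [← sqQ.w, Functor.map_comp, Category.assoc]
    rw [hw] at big
    let ℓ' : (AlgSp.yon S).obj Z ⟶ (AlgSp.yon S).obj R :=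
      sq.lift ((AlgSp.yon S).map z₁ ≫ (AlgSp.yon S).map f₁)
        ((AlgSp.yon S).map z₂ ≫ (AlgSp.yon S).map qU) (by
          rw [big.w, Category.assoc])
    have hℓt : ℓ' ≫ (AlgSp.yon S).map t = (AlgSp.yon S).map z₁ ≫ (AlgSp.yon S).map f₁ :=
      sq.lift_fst _ _ _
    have hℓs : ℓ' ≫ (AlgSp.yon S).map s = (AlgSp.yon S).map z₂ ≫ (AlgSp.yon S).map qU :=
      sq.lift_snd _ _ _
    rw [← hℓt] at big
    have left := IsPullback.of_right big hℓs sq
    obtain ⟨l, hl⟩ := (AlgSp.yon S).map_surjective ℓ'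
    rw [← hl] at left
    have hcomm : l ≫ s = z₂ ≫ qU := by
      apply (AlgSp.yon S).map_injective
      rw [Functor.map_comp, Functor.map_comp]
      exact left.w
    have hO := (IsPullback.of_map (AlgSp.yon S) hcomm left).map (Over.forget S)
    -- now in schemes
    have hres := (isPullback_morphismRestrict s.left V).flip
    have hO' : IsPullback l.left z₂.left s.left (qV.left ≫ V.ι) := hO
    let k : Z.left ⟶ (s.left ⁻¹ᵁ V).toScheme :=
      hres.lift l.left (z₂.left ≫ qV.left) (by rw [hO'.w, Category.assoc])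
    have hk1 : k ≫ (s.left ⁻¹ᵁ V).ι = l.left := hres.lift_fst _ _ _
    have hk2 : k ≫ (s.left ∣_ V) = z₂.left ≫ qV.left := hres.lift_snd _ _ _
    rw [← hk1] at hO'
    have hleft := IsPullback.of_right hO' hk2 hres
    haveI : IsFinite z₂.left := MorphismProperty.of_isPullback (P := @IsFinite) hleft hV
    have hZs := hZ.map (Over.forget S)
    have hZs' : IsPullback z₁.left z₂.left snd.left qT.left := hZs
    rw [← hZs'.isoPullback_inv_snd]
    infer_instance

/-- every point of a quasi-sober space is a specialization of the generic point of an irreducible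
component. -/
theorem exists_generic_specializes {α : Type*} [TopologicalSpace α] [QuasiSober α] (u : α) :
    ∃ η : α, closure ({η} : Set α) ∈ irreducibleComponents α ∧ η ⤳ u := by
  obtain ⟨η, hη⟩ := QuasiSober.sober (isIrreducible_irreducibleComponent (x := u))
    isClosed_irreducibleComponent
  refine ⟨η, ?_, ?_⟩
  · rw [hη.def]
    exact irreducibleComponent_mem_irreducibleComponents u
  · rw [specializes_iff_mem_closure, hη.def]
    exact mem_irreducibleComponent

open Groth.Agent.Lib.Helper12 in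
/-- **Stacks 06NH, local form.**  An algebraic space with a quasi-compact etale surjective chart
from an affine scheme has a dense open subspace which is a scheme and contains all points of
codimension `0`. -/
theorem exists_open_subscheme_of_affine_chart (X : AlgSp.Space S) {U : Over S}
    [IsAffine U.left]
    (p : (AlgSp.yon S).obj U ⟶ X.obj) (hqc : AlgSp.RepWith @QuasiCompact p)
    (het : AlgSp.RepWith @Etale p) (hsurj : AlgSp.RepWith @Surjective p) :
    ∃ N : Set (AlgSp.Points X.obj), IsOpen N ∧ Dense N ∧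
      (OpenSub.obj X.obj N).obj.IsRepresentable ∧
      ∀ x, AlgSp.HasAt (fun U u => ringKrullDim ↥(U.presheaf.stalk u) = 0) X.obj x → x ∈ N := by
  classical
  obtain ⟨R, s, t', sq⟩ := het.1 p
  obtain ⟨t, rfl⟩ := (AlgSp.yon S).map_surjective t'
  haveI hset : Etale s.left := het.2 p _ s sq
  haveI hsqc : QuasiCompact s.left := hqc.2 p _ s sq
  haveI : LocallyQuasiFinite s.left := Groth.Agent.S10265.locallyQuasiFinite_of_unramified _
  haveI : IsSeparated s.left := by
    have hc : t.left ≫ U.hom = s.left ≫ U.hom := (Over.w t).trans (Over.w s).symm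
    let m : R.left ⟶ pullback U.hom U.hom := pullback.lift t.left s.left hc
    have hm1 : m ≫ pullback.fst U.hom U.hom = t.left := pullback.lift_fst _ _ _
    have hm2 : m ≫ pullback.snd U.hom U.hom = s.left := pullback.lift_snd _ _ _
    haveI : Mono m := ⟨fun α β h =>
      Groth.Agent.Lib.T2H7.KerPairGrpd.hom_ext_left sq α β
        (by rw [← hm1, ← Category.assoc, h, Category.assoc])
        (by rw [← hm2, ← Category.assoc, h, Category.assoc])⟩
    rw [← hm2]
    infer_instance
  have hπsurj : Function.Surjective (AlgSp.Points.ofPt p) :=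
    Groth.Agent.S10177.surjective_ofPt p hsurj
  have hπcont : Continuous (AlgSp.Points.ofPt p) := AlgSp.Points.continuous_ofPt p
  have hπopen : IsOpenMap (AlgSp.Points.ofPt p) := Groth.Agent.S10176.isOpenMap_ofPt p het
  -- the finite locus
  let 𝒱 := {V : U.left.Opens // IsFinite (s.left ∣_ V)}
  let W : U.left.Opens := ⨆ V : 𝒱, V.1
  have hWfin : IsFinite (s.left ∣_ W) :=
    Groth.Agent.Lib.Helper4.GenFinite.isFinite_morphismRestrict_iSup s.left
      (fun V : 𝒱 => V.1) (fun V => V.2)
  have hgenW : ∀ η : ↥U.left, closure ({η} : Set ↥U.left) ∈ irreducibleComponents ↥U.left →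
      η ∈ W := by
    intro η hη
    obtain ⟨V, -, hηV, hVfin⟩ := (Groth.Agent.S2080.result s.left η hη).1
      (Scheme.Hom.finite_preimage_singleton s.left η)
    exact TopologicalSpace.Opens.mem_iSup.2 ⟨⟨V, hVfin⟩, hηV⟩
  let N : Set (AlgSp.Points X.obj) := AlgSp.Points.ofPt p '' (W : Set ↥U.left)
  have hNopen : IsOpen N := hπopen _ W.2
  have hWdense : Dense (W : Set ↥U.left) := by
    rw [dense_iff_inter_open]
    rintro O hO ⟨u, hu⟩
    obtain ⟨η, hη, hηu⟩ := exists_generic_specializes u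
    exact ⟨η, hηu.mem_open hO hu, hgenW η hη⟩
  have hNdense : Dense N := hπsurj.denseRange.dense_image hπcont hWdense
  have hcodim : ∀ x, AlgSp.HasAt (fun U u => ringKrullDim ↥(U.presheaf.stalk u) = 0) X.obj x →
      x ∈ N := by
    intro x hx
    obtain ⟨u, rfl⟩ := hπsurj x
    have hdim : ringKrullDim ↥(U.left.presheaf.stalk u) = 0 :=
      Groth.Agent.Lib.T2H1.HasAt.of_hasAt
        (Groth.Agent.Lib.T2H1.HasAt.etInv1_stalkDim (fun s => s = 0)) _ hx p het u rfl
    exact ⟨u, hgenW u ((Groth.Agent.Lib.T2H1.IrrFlat.ringKrullDim_stalk_eq_zero_iff u).1 hdim),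
      rfl⟩
  refine ⟨N, hNopen, hNdense, ?_, hcodim⟩
  -- representability of the open subspace
  let V₁ : U.left.Opens := ⟨AlgSp.Points.ofPt p ⁻¹' N, hNopen.preimage hπcont⟩
  obtain ⟨aW, sqW⟩ := Groth.Agent.Lib.T2H7.SpOpenBC.exists_isPullback_incl N p V₁ rfl
  have heW : AlgSp.RepWith @Etale aW := MorphismProperty.of_isPullback sqW.flip het
  have hsW : AlgSp.RepWith @Surjective aW := MorphismProperty.of_isPullback sqW.flip hsurj
  have hfW : AlgSp.RepWith @IsFinite aW := by
    refine ⟨heW.1, fun T' P' g fst snd sqP => ?_⟩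
    have big := (sqP.flip.paste_vert sqW).flip
    refine isFinite_snd_of_image p het sq W hWfin (g ≫ OpenSub.incl X.obj N) ?_ _ snd big
    intro y
    have h1 : AlgSp.Points.ofPt (g ≫ OpenSub.incl X.obj N) y ∈
        Set.range (AlgSp.Points.map (OpenSub.incl X.obj N)) := by
      rw [← AlgSp.Points.map_ofPt]
      exact ⟨_, rfl⟩
    rw [OpenSub.range_map_incl] at h1
    exact h1
  have hπfinW := Groth.Agent.Lib.T2H7.SpOpenBC.finite_fibre_ofPt aW hfW
  have hbW : ∀ w : ↥(Over.mk (V₁.ι ≫ U.hom)).left,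
      ∃ D : (Over.mk (V₁.ι ≫ U.hom)).left.Opens, IsAffineOpen D ∧
        {w' : ↥(Over.mk (V₁.ι ≫ U.hom)).left |
          AlgSp.Points.ofPt aW w' = AlgSp.Points.ofPt aW w} ⊆
          (D : Set ↥(Over.mk (V₁.ι ≫ U.hom)).left) := by
    intro w
    let F : Finset ↥U.left := (hπfinW (AlgSp.Points.ofPt aW w)).toFinset.image (fun w' => V₁.ι w')
    have hFV : ∀ t ∈ F, t ∈ (⊤ : U.left.Opens) ∧ t ∈ V₁ := by
      intro t ht
      obtain ⟨w', -, rfl⟩ := Finset.mem_image.1 ht
      refine ⟨trivial, ?_⟩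
      have h := V₁.range_ι
      have h2 : V₁.ι w' ∈ Set.range V₁.ι := ⟨w', rfl⟩
      rw [h] at h2
      exact h2
    obtain ⟨D₀, hD₀, -, hD₀V, hFD₀⟩ :=
      Groth.Agent.Lib.Helper20.exists_affine_finite (isAffineOpen_top U.left) V₁ F hFV
    refine ⟨V₁.ι ⁻¹ᵁ D₀, hD₀.preimage_of_isOpenImmersion V₁.ι
      (by rw [Scheme.Opens.opensRange_ι]; exact hD₀V), ?_⟩
    intro w' hw'
    exact hFD₀ _ (Finset.mem_image.2 ⟨w', (Set.Finite.mem_toFinset _).2 hw', rfl⟩)
  obtain ⟨Y, ⟨e⟩⟩ := Groth.Agent.Lib.T2H7.KerPairGrpd.exists_iso_yon_of_finite_etale aW hfW heW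
    hsW hbW
  exact ⟨Y, ⟨AlgSp.representableByOfIso e⟩⟩

end Groth.Agent.Lib.T2H7.FinLocus
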