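import Mathlib
import Groth.Agent.Lib.T2H7FinLocus
import Groth.Agent.Lib.Helper12OpenSub2
import Groth.Agent.Lib.Helper12LargestOpen
import Groth.Agent.S10191
import Groth.Agent.S10192

/-!
# helper7: `|X|` is quasi-sober for an algebraic space with a quasi-compact etale affine chart
-/

set_option autoImplicit false
set_option linter.unusedSectionVars false
set_option linter.unusedVariables false
set_option linter.style.haveILetI false
universe u
open CategoryTheory CategoryTheory.Limits AlgebraicGeometry Opposite Topology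
open AlgSp

namespace Groth.Agent.Lib.T2H7.SoberQs

variable {S : Scheme.{u}}

/-- the source of an inducing map with preirreducible range is preirreducible. -/
theorem isPreirreducible_univ_of_isInducing {α β : Type*} [TopologicalSpace α] [TopologicalSpace β]
    {f : α → β} (hf : IsInducing f) (h : IsPreirreducible (Set.range f)) :
    IsPreirreducible (Set.univ : Set α) := by
  rintro A B hA hB ⟨a, -, haA⟩ ⟨b, -, hbB⟩
  obtain ⟨A', hA', rfl⟩ := hf.isOpen_iff.1 hA
  obtain ⟨B', hB', rfl⟩ := hf.isOpen_iff.1 hB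
  obtain ⟨_, ⟨c, rfl⟩, hcA, hcB⟩ := h A' B' hA' hB' ⟨f a, ⟨a, rfl⟩, haA⟩ ⟨f b, ⟨b, rfl⟩, hbB⟩
  exact ⟨c, trivial, hcA, hcB⟩

/-- the trace of an open set on a preirreducible set is preirreducible. -/
theorem isPreirreducible_inter_open {β : Type*} [TopologicalSpace β] {T O : Set β}
    (hT : IsPreirreducible T) (hO : IsOpen O) : IsPreirreducible (T ∩ O) := by
  rintro A B hA hB ⟨a, ⟨haT, haO⟩, haA⟩ ⟨b, ⟨hbT, hbO⟩, hbB⟩
  obtain ⟨c, hcT, ⟨hcA, hcO⟩, hcB, -⟩ := hT (A ∩ O) (B ∩ O) (hA.inter hO) (hB.inter hO)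
    ⟨a, haT, haA, haO⟩ ⟨b, hbT, hbB, hbO⟩
  exact ⟨c, ⟨hcT, hcO⟩, hcA, hcB⟩

open Groth.Agent.Lib.Helper12 in
/-- every irreducible closed subset of `|X|` has a generic point, for an algebraic space `X` with a
quasi-compact etale surjective chart from an affine scheme. -/
theorem quasiSober_of_affine_chart (X : AlgSp.Space S) {U : Over S} [IsAffine U.left]
    (p : (AlgSp.yon S).obj U ⟶ X.obj) (hqc : AlgSp.RepWith @QuasiCompact p)
    (het : AlgSp.RepWith @Etale p) (hsurj : AlgSp.RepWith @Surjective p) :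
    QuasiSober (AlgSp.Points X.obj) := by
  constructor
  intro T hTirr hTcl
  obtain ⟨Z, i, hci, hrange, -⟩ := Groth.Agent.S10192.result X T hTcl
  have hemb : IsEmbedding (AlgSp.Points.map i.hom) :=
    (Groth.Agent.S10191.result i (OpenSub.repWith_mono
      (fun _ _ g hg => by haveI : IsClosedImmersion g := hg; infer_instance) hci)).1
  -- the chart of `Z`
  obtain ⟨UZ, w, pr, sqZ⟩ := hci.1 p
  haveI hw : IsClosedImmersion w.left := hci.2 p pr w sqZ
  haveI : IsAffine UZ.left := isAffine_of_isAffineHom w.left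
  have hprqc : AlgSp.RepWith @QuasiCompact pr := MorphismProperty.of_isPullback sqZ.flip hqc
  have hpret : AlgSp.RepWith @Etale pr := MorphismProperty.of_isPullback sqZ.flip het
  have hprsurj : AlgSp.RepWith @Surjective pr := MorphismProperty.of_isPullback sqZ.flip hsurj
  obtain ⟨N, hNopen, hNdense, hNrep, -⟩ :=
    Groth.Agent.Lib.T2H7.FinLocus.exists_open_subscheme_of_affine_chart Z pr hprqc hpret hprsurj
  -- `N` is nonempty
  obtain ⟨x₀, hx₀⟩ := hTirr.nonempty
  rw [← hrange] at hx₀
  obtain ⟨z₀, -⟩ := hx₀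
  obtain ⟨z₁, hz₁⟩ : N.Nonempty := by
    haveI : Nonempty (AlgSp.Points Z.obj) := ⟨z₀⟩
    exact hNdense.nonempty
  -- the scheme `Y`
  obtain ⟨Y, ⟨r⟩⟩ := hNrep.has_representation
  let e : (AlgSp.yon S).obj Y ≅ OpenSub.obj Z.obj N := AlgSp.isoOfRepresentableBy r
  let k : (AlgSp.yon S).obj Y ⟶ Z.obj := e.hom ≫ OpenSub.incl Z.obj N
  have hk : AlgSp.RepWith @IsOpenImmersion k :=
    (MorphismProperty.cancel_left_of_respectsIso (AlgSp.RepWith @IsOpenImmersion) e.hom _).2
      (OpenSub.repWith_incl hNopen)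
  have hkOE : IsOpenEmbedding (AlgSp.Points.map k) :=
    IsOpenEmbedding.of_continuous_injective_isOpenMap (AlgSp.Points.continuous_map k)
      (LargestOpen.injective_map_of_open k hk) (OpenSub.isOpenMap_map_of_open k hk)
  have hkrange : Set.range (AlgSp.Points.map k) = N := by
    rw [← OpenSub.range_map_incl (X := Z.obj) N]
    apply le_antisymm
    · rintro _ ⟨y, rfl⟩
      exact ⟨AlgSp.Points.map e.hom y, (AlgSp.Points.map_comp _ _ y).symm⟩
    · rintro _ ⟨y, rfl⟩
      refine ⟨AlgSp.Points.map e.inv y, ?_⟩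
      rw [← AlgSp.Points.map_comp]
      change AlgSp.Points.map (e.inv ≫ e.hom ≫ OpenSub.incl Z.obj N) y = _
      rw [Iso.inv_hom_id_assoc]
  let ψ : ↥Y.left → AlgSp.Points X.obj :=
    AlgSp.Points.map i.hom ∘ AlgSp.Points.map k ∘ AlgSp.Points.schemeHomeo Y
  have hψind : IsInducing ψ :=
    hemb.isInducing.comp (hkOE.isInducing.comp (AlgSp.Points.schemeHomeo Y).isInducing)
  have hψcont : Continuous ψ := hψind.continuous
  obtain ⟨O, hO, hON⟩ := hemb.isInducing.isOpen_iff.1 hNopen
  have hψrange : Set.range ψ = T ∩ O := by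
    rw [Set.range_comp, Set.range_comp, (AlgSp.Points.schemeHomeo Y).surjective.range_eq,
      Set.image_univ, hkrange, ← hON, Set.image_preimage_eq_inter_range, hrange, Set.inter_comm]
  have hne : (T ∩ O).Nonempty := by
    refine ⟨AlgSp.Points.map i.hom z₁, ?_, ?_⟩
    · rw [← hrange]; exact ⟨z₁, rfl⟩
    · have : z₁ ∈ AlgSp.Points.map i.hom ⁻¹' O := by rw [hON]; exact hz₁
      exact this
  -- `Y` is irreducible
  haveI : PreirreducibleSpace ↥Y.left :=
    ⟨isPreirreducible_univ_of_isInducing hψind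
      (hψrange ▸ isPreirreducible_inter_open hTirr.isPreirreducible hO)⟩
  haveI : Nonempty ↥Y.left := by
    obtain ⟨x, hx⟩ := hne
    rw [← hψrange] at hx
    obtain ⟨y, -⟩ := hx
    exact ⟨y⟩
  haveI : IrreducibleSpace ↥Y.left :=
    { toPreirreducibleSpace := inferInstance, toNonempty := inferInstance }
  let ξ : ↥Y.left := genericPoint ↥Y.left
  have hξ : closure ({ξ} : Set ↥Y.left) = Set.univ := (genericPoint_spec ↥Y.left).def
  refine ⟨ψ ξ, ?_⟩
  change closure {ψ ξ} = T
  apply le_antisymm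
  · apply hTcl.closure_subset_iff.2
    rw [Set.singleton_subset_iff]
    have h1 : ψ ξ ∈ Set.range ψ := ⟨ξ, rfl⟩
    rw [hψrange] at h1
    exact h1.1
  · have h1 : T ⊆ closure (T ∩ O) :=
      subset_closure_inter_of_isPreirreducible_of_isOpen hTirr.isPreirreducible hO hne
    refine h1.trans (closure_minimal ?_ isClosed_closure)
    rw [← hψrange, ← Set.image_univ, ← hξ]
    refine (image_closure_subset_closure_image hψcont).trans ?_
    rw [Set.image_singleton]

end Groth.Agent.Lib.T2H7.SoberQs
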