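import Mathlib
import Groth.Prelude.Def_AlgSpDec
import Groth.Agent.S10176
import Groth.Agent.S10177
import Groth.Agent.S10265
import Groth.Agent.Lib.T2H1FieldQuotJ

/-!
# helper7: over a decent sheaf the kernel pair of an etale chart from a quasi-compact scheme has
finite fibres
-/

set_option autoImplicit false
set_option linter.unusedSectionVars false
set_option linter.unusedVariables false
set_option linter.style.haveILetI false
universe u
open CategoryTheory CategoryTheory.Limits AlgebraicGeometry Opposite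
open AlgSp

namespace Groth.Agent.Lib.T2H7.DecentFib

variable {S : Scheme.{u}}

/-- a quasi-compact scheme etale over the spectrum of a field has finitely many points. -/
theorem finite_of_etale_field {K : Type u} [Field K] {Q : Scheme.{u}}
    (q : Q ⟶ Spec (CommRingCat.of K)) [Etale q] [CompactSpace ↥Q] : Finite ↥Q := by
  haveI : QuasiCompact q := (HasAffineProperty.iff_of_isAffine (P := @QuasiCompact)).2 ‹_›
  haveI : LocallyQuasiFinite q := Groth.Agent.S10265.locallyQuasiFinite_of_unramified q
  haveI : Subsingleton ↥(Spec (CommRingCat.of K)) :=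
    inferInstanceAs (Subsingleton (PrimeSpectrum K))
  by_cases hne : Nonempty ↥Q
  · obtain ⟨τ⟩ := hne
    have h1 : (q ⁻¹' {q τ}).Finite := Scheme.Hom.finite_preimage_singleton q (q τ)
    have h2 : q ⁻¹' {q τ} = Set.univ := by
      ext y
      simp only [Set.mem_preimage, Set.mem_singleton_iff, Set.mem_univ, iff_true]
      exact Subsingleton.elim _ _
    rw [h2] at h1
    exact Set.finite_univ_iff.1 h1
  · haveI : IsEmpty ↥Q := not_nonempty_iff.1 hne
    infer_instance

/-- **finite fibres.**  Let `X` be a decent sheaf, `p : h_U ⟶ X` representable etale with `U`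
quasi-compact, and `h_R = h_U ×_X h_U`.  Then `s : R ⟶ U` has finite fibres. -/
theorem finite_fibre_of_isDecent {X : AlgSp.Sp S} (hX : AlgSp.IsDecent X) {U R : Over S}
    [CompactSpace ↥U.left]
    (p : (AlgSp.yon S).obj U ⟶ X) (het : AlgSp.RepWith @Etale p) {s t : R ⟶ U}
    (sq : IsPullback ((AlgSp.yon S).map t) ((AlgSp.yon S).map s) p p) (u : ↥U.left) :
    (s.left ⁻¹' {u}).Finite := by
  obtain ⟨p₀, hp₀, hmono, hq⟩ := hX (AlgSp.Points.ofPt p u)
  obtain ⟨T, c, τ', sqT⟩ := het.1 p₀.toHom
  obtain ⟨τ, rfl⟩ := (AlgSp.yon S).map_surjective τ'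
  haveI : Etale c.left := het.2 p₀.toHom _ c sqT
  haveI : QuasiCompact τ.left := hq.2 p _ τ sqT.flip
  haveI : CompactSpace ↥T.left := QuasiCompact.compactSpace_of_compactSpace τ.left
  -- `u` lies in the image of `T`
  have hu : u ∈ Set.range τ.left := by
    rw [← Groth.Agent.Lib.T2H1.FieldQuot.fibre_eq_range p₀ p c τ sqT.flip]
    exact hp₀.symm
  obtain ⟨y₀, hy₀⟩ := hu
  -- the self product of `T` over the field
  have hT2 : IsPullback (pullback.fst c c) (pullback.snd c c) c c := IsPullback.of_hasPullback c c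
  set T₂ := pullback c c with hT₂def
  set pr₁ := pullback.fst c c with hpr₁
  set pr₂ := pullback.snd c c with hpr₂
  haveI : Etale pr₂.left := by
    have h := hT2.map (Over.forget S)
    exact MorphismProperty.of_isPullback (P := @Etale) h (inferInstanceAs (Etale c.left))
  haveI : IsAffine p₀.pt.left := inferInstanceAs (IsAffine (Spec (CommRingCat.of p₀.K)))
  haveI : QuasiCompact c.left := (HasAffineProperty.iff_of_isAffine (P := @QuasiCompact)).2 ‹_›
  haveI : QuasiCompact pr₂.left := by
    have h := hT2.map (Over.forget S)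
    exact MorphismProperty.of_isPullback (P := @QuasiCompact) h
      (inferInstanceAs (QuasiCompact c.left))
  haveI : CompactSpace ↥T₂.left := QuasiCompact.compactSpace_of_compactSpace pr₂.left
  haveI : Etale (pr₂.left ≫ c.left) := inferInstance
  haveI hT₂fin : Finite ↥T₂.left := finite_of_etale_field (pr₂.left ≫ c.left)
  have big := (hT2.map (AlgSp.yon S)).paste_horiz sqT
  rw [← sqT.w] at big
  let ℓ' : (AlgSp.yon S).obj T₂ ⟶ (AlgSp.yon S).obj R :=
    sq.lift ((AlgSp.yon S).map pr₁ ≫ (AlgSp.yon S).map τ)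
      ((AlgSp.yon S).map pr₂ ≫ (AlgSp.yon S).map τ) (by rw [big.w, Category.assoc])
  have hℓt : ℓ' ≫ (AlgSp.yon S).map t = (AlgSp.yon S).map pr₁ ≫ (AlgSp.yon S).map τ :=
    sq.lift_fst _ _ _
  have hℓs : ℓ' ≫ (AlgSp.yon S).map s = (AlgSp.yon S).map pr₂ ≫ (AlgSp.yon S).map τ :=
    sq.lift_snd _ _ _
  rw [← hℓt] at big
  have left := IsPullback.of_right big hℓs sq
  obtain ⟨l, hl⟩ := (AlgSp.yon S).map_surjective ℓ'
  rw [← hl] at left
  have hcomm : l ≫ s = pr₂ ≫ τ := by
    apply (AlgSp.yon S).map_injective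
    rw [Functor.map_comp, Functor.map_comp]
    exact left.w
  have hO := (IsPullback.of_map (AlgSp.yon S) hcomm left).map (Over.forget S)
  have hO' : IsPullback l.left pr₂.left s.left τ.left := hO
  refine (Set.finite_range l.left).subset ?_
  intro r hr
  have hr' : s.left r = τ.left y₀ := by rw [hy₀]; exact hr
  obtain ⟨z, hz, -⟩ := Scheme.Pullback.exists_preimage_pullback r y₀ hr'
  refine ⟨hO'.isoPullback.inv z, ?_⟩
  rw [← Scheme.Hom.comp_apply, hO'.isoPullback_inv_fst]
  exact hz

end Groth.Agent.Lib.T2H7.DecentFib
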