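import Mathlib
import Groth.Prelude.Def_MoreMor
import Groth.Agent.Lib.Helper2Weight
import Groth.Agent.Lib.T2H1UnivBdd

/-!
# helper7: the constant function `1` is a weighting of an etale morphism

* `card_primeSpectrum_eq_finrank`: a finite etale algebra over an algebraically closed field has
  as many primes as its dimension.
* `fibreIntegral_one_eq_finrank`: for a finite etale morphism the fibre integral of `1` is the rank.
* `isWeighting_one_of_etale`.
-/

set_option autoImplicit false
set_option linter.unusedSectionVars false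
set_option linter.unusedVariables false
set_option linter.style.haveILetI false
universe u
open CategoryTheory CategoryTheory.Limits AlgebraicGeometry

namespace Groth.Agent.Lib.T2H7.EtWeight

/-- a finite etale algebra over an algebraically closed field has as many primes as its
dimension. -/
theorem card_primeSpectrum_eq_finrank (Ω A : Type u) [Field Ω] [IsAlgClosed Ω] [CommRing A]
    [Algebra Ω A] [Algebra.Etale Ω A] :
    Nat.card (PrimeSpectrum A) = Module.finrank Ω A := by
  classical
  obtain ⟨I, hI, Ai, hF, hA, e, h⟩ := (Algebra.Etale.iff_exists_algEquiv_prod (K := Ω) (A := A)).1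
    inferInstance
  haveI := Fintype.ofFinite I
  have hbij : ∀ i, Function.Bijective (algebraMap Ω (Ai i)) := fun i => by
    haveI := (h i).1
    haveI : Algebra.IsIntegral Ω (Ai i) := inferInstance
    exact IsAlgClosed.algebraMap_bijective_of_isIntegral (k := Ω) (K := Ai i)
  have hrank : ∀ i, Module.finrank Ω (Ai i) = 1 := fun i => by
    have e' : Ω ≃ₗ[Ω] Ai i := LinearEquiv.ofBijective (Algebra.linearMap Ω (Ai i)) (hbij i)
    rw [← e'.finrank_eq, Module.finrank_self]
  have h1 : Module.finrank Ω A = Fintype.card I := by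
    haveI : ∀ i, Module.Finite Ω (Ai i) := fun i => (h i).1
    rw [e.toLinearEquiv.finrank_eq, Module.finrank_pi_fintype]
    simp [hrank]
  have h2 : Nat.card (PrimeSpectrum A) = Fintype.card I := by
    have e1 : PrimeSpectrum A ≃ PrimeSpectrum (Π i, Ai i) :=
      ((PrimeSpectrum.comapEquiv e.toRingEquiv).symm.toEquiv).symm
    have e2 : (Σ i, PrimeSpectrum (Ai i)) ≃ PrimeSpectrum (Π i, Ai i) :=
      Equiv.ofBijective _ (PrimeSpectrum.sigmaToPi_bijective Ai)
    have e3 : (Σ i, PrimeSpectrum (Ai i)) ≃ I :=
      { toFun := fun x => x.1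
        invFun := fun i => ⟨i, ⊥⟩
        left_inv := fun x => by
          rcases x with ⟨i, p⟩
          exact Sigma.ext rfl (heq_of_eq (Subsingleton.elim _ _))
        right_inv := fun i => rfl }
    rw [Nat.card_congr (e1.trans (e2.symm.trans e3)), Nat.card_eq_fintype_card]
  rw [h1, h2]

/-- for a finite etale morphism to the spectrum of an algebraically closed field the number of
points is the rank. -/
theorem card_eq_finrank_of_algClosed {Ω : Type u} [Field Ω] [IsAlgClosed Ω] {P : Scheme.{u}}
    (ψ : P ⟶ Spec (CommRingCat.of Ω)) [IsFinite ψ] [Etale ψ] (s : ↥(Spec (CommRingCat.of Ω))) :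
    Nat.card ↥P = ψ.finrank s := by
  obtain ⟨A, _, _, e, he, hfin⟩ := Groth.Agent.Lib.T2H1.UnivBdd.exists_model ψ
  rw [Groth.Agent.Lib.T2H1.UnivBdd.finrank_model ψ e he s]
  haveI : Algebra.Etale Ω A := by
    have h1 : Etale (Spec.map (CommRingCat.ofHom (algebraMap Ω A))) := by
      rw [← MorphismProperty.cancel_left_of_respectsIso @Etale e.hom, he]
      infer_instance
    rw [HasRingHomProperty.Spec_iff (P := @Etale)] at h1
    exact RingHom.etale_algebraMap.1 h1
  rw [← card_primeSpectrum_eq_finrank Ω A]
  exact Nat.card_congr (Scheme.homeoOfIso e).toEquiv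

open Groth.Agent.Lib.Helper2.Weight in
/-- for a finite etale morphism the fibre integral of the constant function `1` is the rank. -/
theorem fibreIntegral_one_eq_finrank {U V : Scheme.{u}} (φ : U ⟶ V) [IsFinite φ] [Etale φ]
    (v : V) : MoreMor.fibreIntegral φ (fun _ => (1 : ℤ)) v = (φ.finrank v : ℤ) := by
  classical
  let a := geomPt v
  have hav : a (IsLocalRing.closedPoint _) = v := geomPt_apply v _
  have hfin : (φ ⁻¹' {a (IsLocalRing.closedPoint _)}).Finite :=
    Scheme.Hom.finite_preimage_singleton φ _
  have h1 := fibreIntegral_eq_geom φ a (fun _ => (1 : ℤ)) hfin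
  rw [hav] at h1
  rw [h1]
  haveI := finite_geomFibre φ a hfin
  have h2 : (∑ᶠ z : ↥(pullback φ a), (1 : ℤ)) = (Nat.card ↥(pullback φ a) : ℤ) := by
    letI := Fintype.ofFinite ↥(pullback φ a)
    rw [finsum_eq_sum_of_fintype, Finset.sum_const, Finset.card_univ, Nat.card_eq_fintype_card]
    simp
  rw [h2, card_eq_finrank_of_algClosed (pullback.snd φ a) (IsLocalRing.closedPoint _),
    Scheme.Hom.finrank_pullback_snd, hav]

/-- the fibre integral of `1` along a finite etale morphism is locally constant. -/
theorem isLocallyConstant_fibreIntegral_one {U V : Scheme.{u}} (φ : U ⟶ V) [IsFinite φ]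
    [Etale φ] : IsLocallyConstant (MoreMor.fibreIntegral φ (fun _ => (1 : ℤ))) := by
  have h : MoreMor.fibreIntegral φ (fun _ => (1 : ℤ)) = fun v => (φ.finrank v : ℤ) :=
    funext (fibreIntegral_one_eq_finrank φ)
  rw [h]
  exact (Scheme.Hom.isLocallyConstant_finrank φ).comp (fun n : ℕ => (n : ℤ))

/-- **the constant function `1` is a weighting of an etale morphism.** -/
theorem isWeighting_one_of_etale {X Y : Scheme.{u}} (f : X ⟶ Y) [Etale f] :
    MoreMor.IsWeighting f (fun _ => (1 : ℤ)) := by
  intro V g _ U hfin
  haveI : IsFinite (U.ι ≫ pullback.snd f g) := hfin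
  haveI : Etale (U.ι ≫ pullback.snd f g) := inferInstance
  exact isLocallyConstant_fibreIntegral_one (U.ι ≫ pullback.snd f g)

end Groth.Agent.Lib.T2H7.EtWeight
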