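import Mathlib

/-!
# helper7: an integer valued lower semicontinuous function on an affine scheme is bounded above on
some nonempty open subset
-/

set_option autoImplicit false
set_option linter.unusedSectionVars false
set_option linter.unusedVariables false
set_option linter.style.haveILetI false
universe u
open CategoryTheory AlgebraicGeometry

namespace Groth.Agent.Lib.T2H7.LscBdd

/-- a function `n : Spec A → ℤ` all of whose strict superlevel sets are open is bounded above on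
some nonempty basic open. -/
theorem exists_basicOpen_bddAbove {A : Type*} [CommRing A] [Nontrivial A]
    (n : PrimeSpectrum A → ℤ) (hn : ∀ c : ℤ, IsOpen {x | c < n x}) :
    ∃ (f : A) (k : ℤ), ¬ IsNilpotent f ∧ ∀ x ∈ PrimeSpectrum.basicOpen f, n x ≤ k := by
  classical
  by_contra hcon
  have H : ∀ f : A, ¬ IsNilpotent f → ∀ k : ℤ, ∃ x ∈ PrimeSpectrum.basicOpen f, k < n x := by
    intro f hf k
    by_contra h
    exact hcon ⟨f, k, hf, fun x hx => not_lt.1 (fun hk => h ⟨x, hx, hk⟩)⟩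
  have hnil : ∀ (g : A) (x : PrimeSpectrum A), x ∈ PrimeSpectrum.basicOpen g → ¬ IsNilpotent g := by
    rintro g x hx ⟨m, hm⟩
    apply hx
    have : g ^ m ∈ x.asIdeal := by rw [hm]; exact x.asIdeal.zero_mem
    exact x.isPrime.mem_of_pow_mem m this
  have step : ∀ (g : A) (hg : ¬ IsNilpotent g) (k : ℤ), ∃ h : A, ¬ IsNilpotent (g * h) ∧
      ∀ x ∈ PrimeSpectrum.basicOpen (g * h), k < n x := by
    intro g hg k
    obtain ⟨x, hxg, hkx⟩ := H g hg k
    have hO : IsOpen ((PrimeSpectrum.basicOpen g : Set (PrimeSpectrum A)) ∩ {x | k < n x}) :=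
      (PrimeSpectrum.basicOpen g).2.inter (hn k)
    obtain ⟨_, ⟨h, rfl⟩, hxh, hsub⟩ :=
      PrimeSpectrum.isTopologicalBasis_basic_opens.exists_subset_of_mem_open
        (show x ∈ (PrimeSpectrum.basicOpen g : Set (PrimeSpectrum A)) ∩ {x | k < n x} from
          ⟨hxg, hkx⟩) hO
    refine ⟨h, hnil _ x ?_, fun y hy => ?_⟩
    · rw [PrimeSpectrum.basicOpen_mul]
      exact ⟨hxg, hxh⟩
    · rw [PrimeSpectrum.basicOpen_mul] at hy
      exact (hsub hy.2).2
  choose hstep hstep1 hstep2 using step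
  let G : ℕ → {g : A // ¬ IsNilpotent g} := fun k =>
    Nat.rec (⟨1, fun h => by
      obtain ⟨m, hm⟩ := h
      rw [one_pow] at hm
      exact one_ne_zero hm⟩ : {g : A // ¬ IsNilpotent g})
      (fun k g => ⟨g.1 * hstep g.1 g.2 k, hstep1 g.1 g.2 k⟩) k
  have hG : ∀ k, (G (k + 1)).1 = (G k).1 * hstep (G k).1 (G k).2 k := fun k => rfl
  have hdvd1 : ∀ k, (G k).1 ∣ (G (k + 1)).1 := fun k => ⟨_, hG k⟩
  have hdvd : ∀ k l, k ≤ l → (G k).1 ∣ (G l).1 := by
    intro k l hkl
    induction l, hkl using Nat.le_induction with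
    | base => exact dvd_rfl
    | succ l _ ih => exact ih.trans (hdvd1 l)
  have hsup : ∀ k, ∀ x ∈ PrimeSpectrum.basicOpen (G (k + 1)).1, (k : ℤ) < n x := by
    intro k x hx
    rw [hG] at hx
    exact hstep2 (G k).1 (G k).2 k x hx
  let M : Submonoid A := Submonoid.closure (Set.range fun k => (G k).1)
  have hM : ∀ a ∈ M, ∃ K m : ℕ, a ∣ (G K).1 ^ m := by
    intro a ha
    induction ha using Submonoid.closure_induction with
    | mem a ha =>
      obtain ⟨k, rfl⟩ := ha
      exact ⟨k, 1, by rw [pow_one]⟩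
    | one => exact ⟨0, 0, one_dvd _⟩
    | mul a b _ _ iha ihb =>
      obtain ⟨K, m, hKm⟩ := iha
      obtain ⟨L, l, hLl⟩ := ihb
      refine ⟨max K L, m + l, ?_⟩
      rw [pow_add]
      exact mul_dvd_mul (hKm.trans (pow_dvd_pow_of_dvd (hdvd K _ (le_max_left K L)) m))
        (hLl.trans (pow_dvd_pow_of_dvd (hdvd L _ (le_max_right K L)) l))
  have h0 : (0 : A) ∉ M := by
    intro h
    obtain ⟨K, m, hKm⟩ := hM 0 h
    exact (G K).2 ⟨m, zero_dvd_iff.1 hKm⟩
  have hdisj : Disjoint ((⊥ : Ideal A) : Set A) (M : Set A) := by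
    rw [Set.disjoint_left]
    intro a ha haM
    have : a = 0 := ha
    exact h0 (this ▸ haM)
  obtain ⟨p, hp, -, hpM⟩ := Ideal.exists_le_prime_disjoint (⊥ : Ideal A) M hdisj
  let x : PrimeSpectrum A := ⟨p, hp⟩
  have hxG : ∀ k, x ∈ PrimeSpectrum.basicOpen (G k).1 := by
    intro k hk
    exact (Set.disjoint_left.1 hpM) hk (Submonoid.subset_closure ⟨k, rfl⟩)
  have h1 := hsup (n x).toNat x (hxG ((n x).toNat + 1))
  have h2 : n x ≤ ((n x).toNat : ℤ) := Int.self_le_toNat (n x)
  omega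

end Groth.Agent.Lib.T2H7.LscBdd
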