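import Mathlib
import Groth.Prelude.Def_MoreMor
import Groth.Agent.Lib.T2H7EtWeight
import Groth.Agent.Lib.T2H7LscBdd
import Groth.Agent.Lib.Helper2Weight
import Groth.Agent.S1426
import Groth.Agent.S1428
import Groth.Agent.S10265

/-!
# helper7: a separated etale morphism with finite fibres to an affine scheme is finite over a
nonempty open

* `exists_finite_of_bdd`: bounded fibre count ⇒ finite over a nonempty open.
* `exists_finite_of_affine`: the same over a nonempty affine base without the boundedness.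
-/

set_option autoImplicit false
set_option linter.unusedSectionVars false
set_option linter.unusedVariables false
set_option linter.style.haveILetI false
universe u
open CategoryTheory CategoryTheory.Limits AlgebraicGeometry

namespace Groth.Agent.Lib.T2H7.EtFinOpen

/-- a separated etale morphism with finite fibres and bounded geometric fibre count is finite over
a nonempty open of the target. -/
theorem exists_finite_of_bdd {R U : Scheme.{u}} (s : R ⟶ U) [Etale s] [IsSeparated s]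
    [Nonempty ↥U] (hfin : ∀ u : ↥U, (s ⁻¹' {u}).Finite) (k : ℤ)
    (hk : ∀ u : ↥U, MoreMor.fibreIntegral s (fun _ => (1 : ℤ)) u ≤ k) :
    ∃ V : U.Opens, (V : Set ↥U).Nonempty ∧ IsFinite (s ∣_ V) := by
  haveI : LocallyQuasiFinite s := Groth.Agent.S10265.locallyQuasiFinite_of_unramified s
  have hw := Groth.Agent.Lib.T2H7.EtWeight.isWeighting_one_of_etale s
  obtain ⟨d, ⟨u₀, hu₀⟩, hd⟩ := Int.exists_greatest_of_bdd
    (P := fun z => ∃ u : ↥U, MoreMor.fibreIntegral s (fun _ => (1 : ℤ)) u = z)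
    ⟨k, fun z ⟨u, hu⟩ => hu ▸ hk u⟩ ⟨_, Classical.arbitrary ↥U, rfl⟩
  obtain ⟨hYd, hfinite⟩ := Groth.Agent.S1428.result s hfin (fun _ => (1 : ℤ)) hw
    (fun _ => one_pos) d (fun y => hd _ ⟨y, rfl⟩) ⟨u₀, hu₀⟩
  exact ⟨⟨_, hYd⟩, ⟨u₀, hu₀⟩, hfinite⟩

/-- a separated etale morphism with finite fibres to a nonempty affine scheme is finite over a
nonempty open of the target. -/
theorem exists_finite_of_affine {R U : Scheme.{u}} (s : R ⟶ U) [Etale s] [IsSeparated s]
    [IsAffine U] [Nonempty ↥U] (hfin : ∀ u : ↥U, (s ⁻¹' {u}).Finite) :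
    ∃ V : U.Opens, (V : Set ↥U).Nonempty ∧ IsFinite (s ∣_ V) := by
  haveI : LocallyQuasiFinite s := Groth.Agent.S10265.locallyQuasiFinite_of_unramified s
  have hw := Groth.Agent.Lib.T2H7.EtWeight.isWeighting_one_of_etale s
  have hlsc : LowerSemicontinuous (MoreMor.fibreIntegral s (fun _ => (1 : ℤ))) :=
    Groth.Agent.S1426.result s hfin (fun _ => (1 : ℤ)) hw (fun _ => one_pos)
  let h : ↥U ≃ₜ PrimeSpectrum Γ(U, ⊤) := Scheme.homeoOfIso U.isoSpec
  haveI : Nontrivial Γ(U, ⊤) := by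
    by_contra hn
    rw [not_nontrivial_iff_subsingleton] at hn
    exact (isEmpty_iff.1 (inferInstance : IsEmpty (PrimeSpectrum Γ(U, ⊤))))
      (h (Classical.arbitrary ↥U))
  obtain ⟨f, k, hf, hfk⟩ := Groth.Agent.Lib.T2H7.LscBdd.exists_basicOpen_bddAbove
    (fun x => MoreMor.fibreIntegral s (fun _ => (1 : ℤ)) (h.symm x)) (fun c => by
      have := (lowerSemicontinuous_iff_isOpen_preimage.1 hlsc c).preimage h.symm.continuous
      exact this)
  let V : U.Opens := ⟨h ⁻¹' (PrimeSpectrum.basicOpen f : Set (PrimeSpectrum Γ(U, ⊤))),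
    (PrimeSpectrum.basicOpen f).2.preimage h.continuous⟩
  have hVne : (V : Set ↥U).Nonempty := by
    have h1 : (PrimeSpectrum.basicOpen f : Set (PrimeSpectrum Γ(U, ⊤))).Nonempty := by
      rw [Set.nonempty_iff_ne_empty]
      intro h0
      apply hf
      rw [← PrimeSpectrum.basicOpen_eq_bot_iff]
      exact TopologicalSpace.Opens.ext h0
    obtain ⟨x, hx⟩ := h1
    refine ⟨h.symm x, ?_⟩
    change h (h.symm x) ∈ (PrimeSpectrum.basicOpen f : Set (PrimeSpectrum Γ(U, ⊤)))
    rw [h.apply_symm_apply]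
    exact hx
  have hVk : ∀ v : ↥V, MoreMor.fibreIntegral s (fun _ => (1 : ℤ)) v.1 ≤ k := by
    intro v
    have := hfk (h v.1) v.2
    rwa [h.symm_apply_apply] at this
  have hbc := fun v' : ↥(V : Scheme.{u}) =>
    Groth.Agent.Lib.Helper2.Weight.fibreIntegral_baseChange s hfin (s ∣_ V) (s ⁻¹ᵁ V).ι V.ι
      (isPullback_morphismRestrict s V).flip (fun _ => (1 : ℤ)) v'
  haveI : Nonempty ↥(V : Scheme.{u}) := by
    obtain ⟨x, hx⟩ := hVne
    exact ⟨⟨x, hx⟩⟩
  obtain ⟨V₂, hV₂ne, hV₂fin⟩ := exists_finite_of_bdd (s ∣_ V) (fun v' => (hbc v').2) k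
    (fun v' => by
      have := (hbc v').1
      have h2 : MoreMor.fibreIntegral (s ∣_ V) (fun _ => (1 : ℤ)) v' =
          MoreMor.fibreIntegral s (fun _ => (1 : ℤ)) (V.ι v') := this
      rw [h2]
      exact hVk v')
  refine ⟨V.ι ''ᵁ V₂, ?_, ?_⟩
  · obtain ⟨x, hx⟩ := hV₂ne
    exact ⟨V.ι x, ⟨x, hx, rfl⟩⟩
  · exact (MorphismProperty.arrow_mk_iso_iff @IsFinite (morphismRestrictRestrict s V V₂)).1 hV₂fin

end Groth.Agent.Lib.T2H7.EtFinOpen
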