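import Mathlib
import Groth.Agent.Lib.T2H7FinLocus

/-!
# helper7: the image of the finite locus of an etale chart from an affine scheme is a scheme

* `isRepresentable_image_of_finite`: `p : h_U ⟶ X` representable etale with `U` affine,
  `h_R = h_U ×_X h_U`, `V ⊆ U` open with `s : R ⟶ U` finite over `V`; then the open subsheaf of `X`
  on the image of `V` is representable.
-/

set_option autoImplicit false
set_option linter.unusedSectionVars false
set_option linter.unusedVariables false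
set_option linter.style.haveILetI false
universe u
open CategoryTheory CategoryTheory.Limits AlgebraicGeometry Opposite
open AlgSp

namespace Groth.Agent.Lib.T2H7.FinLocusB

variable {S : Scheme.{u}}

open Groth.Agent.Lib.Helper12 in
theorem isRepresentable_image_of_finite {X : AlgSp.Sp S} {U R : Over S} [IsAffine U.left]
    (p : (AlgSp.yon S).obj U ⟶ X) (het : AlgSp.RepWith @Etale p) {s t : R ⟶ U}
    (sq : IsPullback ((AlgSp.yon S).map t) ((AlgSp.yon S).map s) p p)
    (V : U.left.Opens) (hV : IsFinite (s.left ∣_ V)) :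
    (OpenSub.obj X (AlgSp.Points.ofPt p '' (V : Set ↥U.left))).obj.IsRepresentable := by
  classical
  have hπcont : Continuous (AlgSp.Points.ofPt p) := AlgSp.Points.continuous_ofPt p
  have hπopen : IsOpenMap (AlgSp.Points.ofPt p) := Groth.Agent.S10176.isOpenMap_ofPt p het
  set N : Set (AlgSp.Points X) := AlgSp.Points.ofPt p '' (V : Set ↥U.left) with hN
  have hNopen : IsOpen N := hπopen _ V.2
  let V₁ : U.left.Opens := ⟨AlgSp.Points.ofPt p ⁻¹' N, hNopen.preimage hπcont⟩
  obtain ⟨aW, sqW⟩ := Groth.Agent.Lib.T2H7.SpOpenBC.exists_isPullback_incl N p V₁ rfl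
  have heW : AlgSp.RepWith @Etale aW := MorphismProperty.of_isPullback sqW.flip het
  have hmemN : ∀ {T' : Over S} (g : (AlgSp.yon S).obj T' ⟶ OpenSub.obj X N) (y : ↥T'.left),
      AlgSp.Points.ofPt (g ≫ OpenSub.incl X N) y ∈ N := by
    intro T' g y
    have h1 : AlgSp.Points.ofPt (g ≫ OpenSub.incl X N) y ∈
        Set.range (AlgSp.Points.map (OpenSub.incl X N)) := by
      rw [← AlgSp.Points.map_ofPt]
      exact ⟨_, rfl⟩
    rw [OpenSub.range_map_incl] at h1
    exact h1
  have hsW : AlgSp.RepWith @Surjective aW := by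
    refine ⟨heW.1, fun T' P' g fst snd sqP => ?_⟩
    obtain ⟨f₁, rfl⟩ := (AlgSp.yon S).map_surjective fst
    have big := (sqP.flip.paste_vert sqW).flip
    rw [← Functor.map_comp] at big
    constructor
    intro y
    obtain ⟨v, hv, hvy⟩ := hmemN g y
    obtain ⟨q, -, hq⟩ := Groth.Agent.S10176.exists_point_of_isPullback_yon big v y hvy
    exact ⟨q, hq⟩
  have hfW : AlgSp.RepWith @IsFinite aW := by
    refine ⟨heW.1, fun T' P' g fst snd sqP => ?_⟩
    have big := (sqP.flip.paste_vert sqW).flip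
    exact Groth.Agent.Lib.T2H7.FinLocus.isFinite_snd_of_image p het sq V hV
      (g ≫ OpenSub.incl X N) (hmemN g) _ snd big
  have hπfinW := Groth.Agent.Lib.T2H7.SpOpenBC.finite_fibre_ofPt aW hfW
  have hbW : ∀ w : ↥(Over.mk (V₁.ι ≫ U.hom)).left,
      ∃ D : (Over.mk (V₁.ι ≫ U.hom)).left.Opens, IsAffineOpen D ∧
        {w' : ↥(Over.mk (V₁.ι ≫ U.hom)).left |
          AlgSp.Points.ofPt aW w' = AlgSp.Points.ofPt aW w} ⊆
          (D : Set ↥(Over.mk (V₁.ι ≫ U.hom)).left) := by
    intro w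
    let F : Finset ↥U.left := (hπfinW (AlgSp.Points.ofPt aW w)).toFinset.image (fun w' => V₁.ι w')
    have hFV : ∀ t ∈ F, t ∈ (⊤ : U.left.Opens) ∧ t ∈ V₁ := by
      intro t ht
      obtain ⟨w', -, rfl⟩ := Finset.mem_image.1 ht
      refine ⟨trivial, ?_⟩
      have h := V₁.range_ι
      have h2 : V₁.ι w' ∈ Set.range V₁.ι := ⟨w', rfl⟩
      rw [h] at h2
      exact h2
    obtain ⟨D₀, hD₀, -, hD₀V, hFD₀⟩ :=
      Groth.Agent.Lib.Helper20.exists_affine_finite (isAffineOpen_top U.left) V₁ F hFV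
    refine ⟨V₁.ι ⁻¹ᵁ D₀, hD₀.preimage_of_isOpenImmersion V₁.ι
      (by rw [Scheme.Opens.opensRange_ι]; exact hD₀V), ?_⟩
    intro w' hw'
    exact hFD₀ _ (Finset.mem_image.2 ⟨w', (Set.Finite.mem_toFinset _).2 hw', rfl⟩)
  obtain ⟨Y, ⟨e⟩⟩ := Groth.Agent.Lib.T2H7.KerPairGrpd.exists_iso_yon_of_finite_etale aW hfW heW
    hsW hbW
  exact ⟨Y, ⟨AlgSp.representableByOfIso e⟩⟩

end Groth.Agent.Lib.T2H7.FinLocusB
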