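import Mathlib
import Groth.Prelude.Def_AlgSpDec
import Groth.Agent.Lib.T2H7SpecDim
import Groth.Agent.S10176
import Groth.Agent.S10338
import Groth.Agent.S10339
import Groth.Agent.S10340
import Groth.Agent.S10343

/-!
# helper7: dimension theory of decent algebraic spaces read on etale charts
-/

set_option autoImplicit false
set_option linter.unusedSectionVars false
set_option linter.unusedVariables false
set_option linter.style.haveILetI false
universe u
open CategoryTheory CategoryTheory.Limits AlgebraicGeometry Opposite TopologicalSpace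
open AlgSp

namespace Groth.Agent.Lib.T2H7.DecentDim

variable {S : Scheme.{u}}

theorem chart_strict (X : AlgSp.Space S) (hX : AlgSp.IsDecent X.obj) {U : Over S}
    (a : (AlgSp.yon S).obj U ⟶ X.obj) (ha : AlgSp.RepWith @Etale a) :
    ∀ u u' : ↥U.left, u' ⤳ u → AlgSp.Points.ofPt a u' = AlgSp.Points.ofPt a u → u' = u :=
  fun u u' h he => (Groth.Agent.S10340.result X hX a ha u u' he.symm h).symm

theorem chart_lift (X : AlgSp.Space S) (hX : AlgSp.IsDecent X.obj) {U : Over S}
    (a : (AlgSp.yon S).obj U ⟶ X.obj) (ha : AlgSp.RepWith @Etale a) :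
    ∀ (u : ↥U.left) (x' : AlgSp.Points X.obj), x' ⤳ AlgSp.Points.ofPt a u →
      ∃ u', u' ⤳ u ∧ AlgSp.Points.ofPt a u' = x' :=
  fun u x' h => Groth.Agent.S10343.result X _ x' h (hX x') a ha u rfl

/-- the local ring of a scheme at a point has the codimension of the closure of the point as its
dimension. -/
theorem ringKrullDim_stalk_eq_coheight_pt {U : Scheme.{u}} (u : ↥U) :
    ringKrullDim ↥(U.presheaf.stalk u) =
      (Order.coheight (Groth.Agent.Lib.T2H7.SpecDim.pt u) : WithBot ℕ∞) := by
  rw [AlgebraicGeometry.ringKrullDim_stalk_eq_coheight, Groth.Agent.Lib.T2H7.SpecDim.coheight_pt]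

/-- **Stacks 0ABW.** -/
theorem coheight_eq_ringKrullDim (X : AlgSp.Space S) (hX : AlgSp.IsDecent X.obj)
    (T : TopologicalSpace.IrreducibleCloseds (AlgSp.Points X.obj)) (ξ : AlgSp.Points X.obj)
    (hξ : IsGenericPoint ξ (T : Set (AlgSp.Points X.obj))) {U : Over S}
    (a : (AlgSp.yon S).obj U ⟶ X.obj) (ha : AlgSp.RepWith @Etale a) (u : ↥U.left)
    (hu : AlgSp.Points.ofPt a u = ξ) :
    (Order.coheight T : WithBot ℕ∞) = ringKrullDim ↥(U.left.presheaf.stalk u) := by
  haveI : QuasiSober (AlgSp.Points X.obj) := Groth.Agent.S10339.result X hX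
  haveI : T0Space (AlgSp.Points X.obj) := Groth.Agent.S10338.result X hX
  rw [ringKrullDim_stalk_eq_coheight_pt, Groth.Agent.Lib.T2H7.SpecDim.eq_pt_of_isGenericPoint T ξ hξ,
    ← hu, Groth.Agent.Lib.T2H7.SpecDim.coheight_pt_eq (AlgSp.Points.ofPt a)
      (AlgSp.Points.continuous_ofPt a) (chart_strict X hX a ha) (chart_lift X hX a ha) u]

theorem topologicalKrullDim_chart_le (X : AlgSp.Space S) (hX : AlgSp.IsDecent X.obj) {U : Over S}
    (a : (AlgSp.yon S).obj U ⟶ X.obj) (ha : AlgSp.RepWith @Etale a) :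
    topologicalKrullDim ↥U.left ≤ topologicalKrullDim (AlgSp.Points X.obj) := by
  haveI : QuasiSober (AlgSp.Points X.obj) := Groth.Agent.S10339.result X hX
  haveI : T0Space (AlgSp.Points X.obj) := Groth.Agent.S10338.result X hX
  exact Groth.Agent.Lib.T2H7.SpecDim.topologicalKrullDim_le (AlgSp.Points.ofPt a)
    (AlgSp.Points.continuous_ofPt a) (chart_strict X hX a ha) (chart_lift X hX a ha)

theorem topologicalKrullDim_chart_eq (X : AlgSp.Space S) (hX : AlgSp.IsDecent X.obj) {U : Over S}
    (a : (AlgSp.yon S).obj U ⟶ X.obj) (ha : AlgSp.RepWith @Etale a)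
    (hsurj : Function.Surjective (AlgSp.Points.ofPt a)) :
    topologicalKrullDim ↥U.left = topologicalKrullDim (AlgSp.Points X.obj) := by
  haveI : QuasiSober (AlgSp.Points X.obj) := Groth.Agent.S10339.result X hX
  haveI : T0Space (AlgSp.Points X.obj) := Groth.Agent.S10338.result X hX
  exact Groth.Agent.Lib.T2H7.SpecDim.topologicalKrullDim_eq (AlgSp.Points.ofPt a)
    (AlgSp.Points.continuous_ofPt a) (chart_strict X hX a ha) (chart_lift X hX a ha) hsurj

theorem localDim_chart_eq (X : AlgSp.Space S) (hX : AlgSp.IsDecent X.obj) {U : Over S}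
    (a : (AlgSp.yon S).obj U ⟶ X.obj) (ha : AlgSp.RepWith @Etale a) (u : ↥U.left) :
    FlatMor.localDim ↥U.left u =
      FlatMor.localDim (AlgSp.Points X.obj) (AlgSp.Points.ofPt a u) := by
  haveI : QuasiSober (AlgSp.Points X.obj) := Groth.Agent.S10339.result X hX
  haveI : T0Space (AlgSp.Points X.obj) := Groth.Agent.S10338.result X hX
  exact Groth.Agent.Lib.T2H7.SpecDim.localDim_eq (AlgSp.Points.ofPt a)
    (AlgSp.Points.continuous_ofPt a) (Groth.Agent.S10176.isOpenMap_ofPt a ha)
    (chart_strict X hX a ha) (chart_lift X hX a ha) u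

end Groth.Agent.Lib.T2H7.DecentDim
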