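import Mathlib
import Groth.Prelude.Def_MoreMor
import Groth.Agent.Lib.T2H7EtWeight
import Groth.Agent.Lib.Helper2Weight
import Groth.Agent.S1426
import Groth.Agent.S10265

/-!
# helper7: fibres of a separated etale morphism are bounded by the fibres over generizations
-/

set_option autoImplicit false
set_option linter.unusedSectionVars false
set_option linter.unusedVariables false
set_option linter.style.haveILetI false
universe u
open CategoryTheory CategoryTheory.Limits AlgebraicGeometry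

namespace Groth.Agent.Lib.T2H7.EtFibBound

open Groth.Agent.Lib.Helper2.Weight

/-- **fibres specialize.**  For a separated etale morphism `s : R ⟶ U` to a quasi-separated scheme
and a specialization `η ⤳ u`, if the fibre over `η` is finite then so is the fibre over `u`. -/
theorem finite_fibre_of_specializes {R U : Scheme.{u}} (s : R ⟶ U) [Etale s] [IsSeparated s]
    [QuasiSeparatedSpace ↥U] (u η : ↥U) (h : η ⤳ u) (hη : (s ⁻¹' {η}).Finite) :
    (s ⁻¹' {u}).Finite := by
  classical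
  haveI : LocallyQuasiFinite s := Groth.Agent.S10265.locallyQuasiFinite_of_unramified s
  by_contra hinf
  have hinf' : (s ⁻¹' {u}).Infinite := hinf
  set D : ℤ := fI s (fun _ => (1 : ℤ)) Set.univ η with hD
  obtain ⟨F, hFsub, hFcard⟩ := hinf'.exists_subset_card_eq (D.toNat + 1)
  have hex : ∀ r : ↥R, ∃ A : R.Opens, IsAffineOpen A ∧ r ∈ A := by
    intro r
    obtain ⟨_, ⟨A, hA, rfl⟩, hrA, -⟩ :=
      (R.isBasis_affineOpens).exists_subset_of_mem_open (Set.mem_univ r) isOpen_univ
    exact ⟨A, hA, hrA⟩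
  choose A hA hrA using hex
  let R₀ : R.Opens := ⨆ r ∈ F, A r
  have hR₀c : IsCompact (R₀ : Set ↥R) := by
    have : (R₀ : Set ↥R) = ⋃ r ∈ F, (A r : Set ↥R) := by
      simp only [R₀, TopologicalSpace.Opens.coe_iSup]
    rw [this]
    exact F.isCompact_biUnion (fun r _ => (hA r).isCompact)
  haveI : CompactSpace ↥(R₀ : Scheme.{u}) := isCompact_iff_compactSpace.1 hR₀c
  have hFR₀ : ∀ r ∈ F, r ∈ R₀ := by
    intro r hr
    exact TopologicalSpace.Opens.mem_iSup.2 ⟨r, TopologicalSpace.Opens.mem_iSup.2 ⟨hr, hrA r⟩⟩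
  let s₀ : (R₀ : Scheme.{u}) ⟶ U := R₀.ι ≫ s
  haveI : Etale s₀ := inferInstance
  haveI : IsSeparated s₀ := inferInstance
  haveI : QuasiCompact s₀ := inferInstance
  haveI : LocallyQuasiFinite s₀ := Groth.Agent.S10265.locallyQuasiFinite_of_unramified s₀
  have hfin₀ : ∀ v : ↥U, (s₀ ⁻¹' {v}).Finite := fun v =>
    Scheme.Hom.finite_preimage_singleton s₀ v
  have hlsc : LowerSemicontinuous (MoreMor.fibreIntegral s₀ (fun _ => (1 : ℤ))) :=
    Groth.Agent.S1426.result s₀ hfin₀ (fun _ => (1 : ℤ))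
      (Groth.Agent.Lib.T2H7.EtWeight.isWeighting_one_of_etale s₀) (fun _ => one_pos)
  have hn : ∀ v : ↥U, MoreMor.fibreIntegral s₀ (fun _ => (1 : ℤ)) v =
      fI s (fun _ => (1 : ℤ)) R₀ v := fun v => fibreIntegral_opens R₀ s (fun _ => (1 : ℤ)) v
  -- the count at `u` is large
  have hfinu : ({x | s x = u} ∩ (R₀ : Set ↥R)).Finite := by
    have : ({x | s x = u} ∩ (R₀ : Set ↥R)) = R₀.ι '' (s₀ ⁻¹' {u}) := by
      ext y
      constructor
      · rintro ⟨hy1, hy2⟩
        exact ⟨⟨y, hy2⟩, hy1, rfl⟩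
      · rintro ⟨x, hx, rfl⟩
        exact ⟨hx, x.2⟩
    rw [this]
    exact (hfin₀ u).image _
  have hu : (D.toNat : ℤ) + 1 ≤ fI s (fun _ => (1 : ℤ)) R₀ u := by
    rw [fI, finsum_mem_eq_finite_toFinset_sum _ hfinu]
    have hsub : F ⊆ hfinu.toFinset := by
      intro r hr
      rw [Set.Finite.mem_toFinset]
      exact ⟨hFsub hr, hFR₀ r hr⟩
    calc (D.toNat : ℤ) + 1 = (F.card : ℤ) := by rw [hFcard]; push_cast; ring
      _ = ∑ r ∈ F, (1 : ℤ) := by simp
      _ ≤ ∑ r ∈ F, (1 : ℤ) * (sd s r : ℤ) := by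
          refine Finset.sum_le_sum fun r _ => ?_
          have : 1 ≤ sd s r := Nat.one_le_iff_ne_zero.2 (sd_ne_zero s r)
          rw [one_mul]
          exact_mod_cast this
      _ ≤ ∑ r ∈ hfinu.toFinset, (1 : ℤ) * (sd s r : ℤ) := by
          refine Finset.sum_le_sum_of_subset_of_nonneg hsub fun r _ _ => ?_
          positivity
  -- hence at `η`
  have hopen : IsOpen {v | (D.toNat : ℤ) < MoreMor.fibreIntegral s₀ (fun _ => (1 : ℤ)) v} :=
    lowerSemicontinuous_iff_isOpen_preimage.1 hlsc _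
  have hηmem : (D.toNat : ℤ) < MoreMor.fibreIntegral s₀ (fun _ => (1 : ℤ)) η := by
    refine h.mem_open hopen ?_
    change (D.toNat : ℤ) < MoreMor.fibreIntegral s₀ (fun _ => (1 : ℤ)) u
    rw [hn]
    omega
  rw [hn] at hηmem
  -- but the count at `η` is at most `D`
  have hfinη : ({x | s x = η} ∩ (Set.univ : Set ↥R)).Finite := by
    rw [Set.inter_univ]; exact hη
  have hle : fI s (fun _ => (1 : ℤ)) R₀ η ≤ D := by
    rw [hD, fI, fI]
    have hfin1 : ({x | s x = η} ∩ (R₀ : Set ↥R)).Finite := hfinη.subset (fun x hx => ⟨hx.1, trivial⟩)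
    rw [finsum_mem_eq_finite_toFinset_sum _ hfin1, finsum_mem_eq_finite_toFinset_sum _ hfinη]
    refine Finset.sum_le_sum_of_subset_of_nonneg ?_ fun r _ _ => ?_
    · intro r hr
      rw [Set.Finite.mem_toFinset] at hr ⊢
      exact ⟨hr.1, trivial⟩
    · positivity
  have hD0 : 0 ≤ D := by
    rw [hD, fI]
    exact finsum_nonneg fun r => finsum_nonneg fun _ => by positivity
  have : (D.toNat : ℤ) = D := Int.toNat_of_nonneg hD0
  omega

end Groth.Agent.Lib.T2H7.EtFibBound
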