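import Mathlib

/-!
# helper7: finiteness of the set of irreducible components along open embeddings and dense maps
-/

set_option autoImplicit false
set_option linter.unusedSectionVars false
set_option linter.unusedVariables false
set_option linter.style.haveILetI false
open Topology

namespace Groth.Agent.Lib.T2H7.IrrCompFin

variable {Y Z : Type*} [TopologicalSpace Y] [TopologicalSpace Z]

/-- every irreducible set lies in an irreducible component. -/
theorem exists_mem_irreducibleComponents_superset {s : Set Z} (hs : IsIrreducible s) :
    ∃ C ∈ irreducibleComponents Z, s ⊆ C := by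
  obtain ⟨t, ht, hst, hmax⟩ := exists_preirreducible s hs.isPreirreducible
  refine ⟨t, ⟨⟨hs.nonempty.mono hst, ht⟩, fun u hu htu => ?_⟩, hst⟩
  rw [hmax u hu.isPreirreducible htu]

/-- an open subspace of a space with finitely many irreducible components has finitely many
irreducible components. -/
theorem finite_of_isOpenEmbedding {ψ : Y → Z} (hψ : IsOpenEmbedding ψ)
    (hZ : (irreducibleComponents Z).Finite) : (irreducibleComponents Y).Finite := by
  refine (hZ.image (fun C => ψ ⁻¹' C)).subset ?_
  intro T hT
  have hTirr : IsIrreducible T := hT.1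
  obtain ⟨C, hC, hTC⟩ := exists_mem_irreducibleComponents_superset
    (hTirr.image ψ hψ.continuous.continuousOn)
  refine ⟨C, hC, ?_⟩
  have hsub : T ⊆ ψ ⁻¹' C := fun y hy => hTC ⟨y, hy, rfl⟩
  have hirr : IsIrreducible (ψ ⁻¹' C) :=
    ⟨hTirr.nonempty.mono hsub, hC.1.isPreirreducible.preimage hψ⟩
  exact (hsub.antisymm (hT.2 hirr hsub)).symm

/-- the target of a continuous map with dense range from a space with finitely many irreducible
components has finitely many irreducible components. -/
theorem finite_of_denseRange {ψ : Y → Z} (hψ : Continuous ψ) (hd : DenseRange ψ)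
    (hY : (irreducibleComponents Y).Finite) : (irreducibleComponents Z).Finite := by
  classical
  refine (hY.image (fun T => closure (ψ '' T))).subset ?_
  intro C hC
  have hcover : (Set.univ : Set Z) ⊆ ⋃₀ ((hY.image (fun T => closure (ψ '' T))).toFinset : Set (Set Z)) := by
    have h1 : (Set.univ : Set Z) = closure (Set.range ψ) := hd.closure_eq.symm
    have h2 : Set.range ψ ⊆ ⋃₀ ((hY.image (fun T => closure (ψ '' T))).toFinset : Set (Set Z)) := by
      rintro _ ⟨y, rfl⟩
      have hy : y ∈ ⋃₀ irreducibleComponents Y := by
        rw [sUnion_irreducibleComponents]; trivial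
      obtain ⟨T, hT, hyT⟩ := hy
      refine ⟨closure (ψ '' T), ?_, subset_closure ⟨y, hyT, rfl⟩⟩
      rw [Set.Finite.coe_toFinset]
      exact ⟨T, hT, rfl⟩
    have h3 : IsClosed (⋃₀ ((hY.image (fun T => closure (ψ '' T))).toFinset : Set (Set Z))) := by
      rw [Set.Finite.coe_toFinset, Set.sUnion_eq_biUnion]
      refine Set.Finite.isClosed_biUnion (hY.image _) ?_
      rintro _ ⟨T, -, rfl⟩
      exact isClosed_closure
    rw [h1]
    exact closure_minimal h2 h3
  obtain ⟨z, hz, hCz⟩ := (isIrreducible_iff_sUnion_isClosed.1 hC.1)
    (hY.image (fun T => closure (ψ '' T))).toFinset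
    (fun z hz => by
      rw [Set.Finite.mem_toFinset] at hz
      obtain ⟨T, -, rfl⟩ := hz
      exact isClosed_closure)
    ((Set.subset_univ C).trans hcover)
  rw [Set.Finite.mem_toFinset] at hz
  obtain ⟨T, hT, rfl⟩ := hz
  refine ⟨T, hT, ?_⟩
  have hirr : IsIrreducible (closure (ψ '' T)) :=
    (hT.1.image ψ hψ.continuousOn).closure
  exact (hCz.antisymm (hC.2 hirr hCz)).symm

/-- in a T0 space with finitely many irreducible components the set of generic points of
irreducible components is finite. -/
theorem finite_genericPoints [T0Space Y] (hY : (irreducibleComponents Y).Finite) :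
    {y : Y | ∃ T ∈ irreducibleComponents Y, IsGenericPoint y T}.Finite := by
  have h : {y : Y | ∃ T ∈ irreducibleComponents Y, IsGenericPoint y T} ⊆
      (fun y : Y => closure ({y} : Set Y)) ⁻¹' irreducibleComponents Y := by
    rintro y ⟨T, hT, hy⟩
    change closure ({y} : Set Y) ∈ irreducibleComponents Y
    rw [hy.def]
    exact hT
  refine (Set.Finite.preimage ?_ hY).subset h
  intro a _ b _ hab
  exact ((specializes_iff_closure_subset.2 hab.ge).antisymm
    (specializes_iff_closure_subset.2 hab.le)).eq

end Groth.Agent.Lib.T2H7.IrrCompFin
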