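import Mathlib
import Groth.Prelude.Def_AlgSpDec
import Groth.Agent.Lib.T2H7EtFibBound
import Groth.Agent.Lib.T2H7IrrCompFin
import Groth.Agent.Lib.T2H7FinLocus
import Groth.Agent.Lib.T2H7KerPairGrpd
import Groth.Agent.Lib.Helper12OpenSub2
import Groth.Agent.Lib.Helper12LargestOpen
import Groth.Agent.Lib.Helper14IrrComp
import Groth.Agent.S10176
import Groth.Agent.S10194
import Groth.Agent.S10265
import Groth.Agent.S10360
import Groth.Agent.S10361

/-!
# helper7: an algebraic space with a dense open subscheme having finitely many irreducible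
components with quasi-compact generic points is decent
-/

set_option autoImplicit false
set_option linter.unusedSectionVars false
set_option linter.unusedVariables false
set_option linter.style.haveILetI false
universe u
open CategoryTheory CategoryTheory.Limits AlgebraicGeometry Opposite
open AlgSp

namespace Groth.Agent.Lib.T2H7.DecentFinComp

variable {S : Scheme.{u}}

/-- the kernel pair projection of a representable etale chart is separated. -/
theorem isSeparated_left {X : AlgSp.Sp S} {U R : Over S} [IsAffine U.left]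
    {φ : (AlgSp.yon S).obj U ⟶ X}
    {s t : R ⟶ U} (sq : IsPullback ((AlgSp.yon S).map t) ((AlgSp.yon S).map s) φ φ) :
    IsSeparated s.left := by
  have hc : t.left ≫ U.hom = s.left ≫ U.hom := (Over.w t).trans (Over.w s).symm
  let m : R.left ⟶ pullback U.hom U.hom := pullback.lift t.left s.left hc
  have hm1 : m ≫ pullback.fst U.hom U.hom = t.left := pullback.lift_fst _ _ _
  have hm2 : m ≫ pullback.snd U.hom U.hom = s.left := pullback.lift_snd _ _ _
  haveI : Mono m := ⟨fun α β h =>
    Groth.Agent.Lib.T2H7.KerPairGrpd.hom_ext_left sq α β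
      (by rw [← hm1, ← Category.assoc, h, Category.assoc])
      (by rw [← hm2, ← Category.assoc, h, Category.assoc])⟩
  rw [← hm2]
  infer_instance

section
variable (X : AlgSp.Space S) {X' : Over S} (j : (AlgSp.yon S).obj X' ⟶ X.obj)
  (hj : AlgSp.RepWith @IsOpenImmersion j) (hdense : Dense (Set.range (AlgSp.Points.ofPt j)))
  (hfin : (irreducibleComponents ↥X'.left).Finite)
  (hqc : ∀ x' : ↥X'.left, (∃ T ∈ irreducibleComponents ↥X'.left, IsGenericPoint x' T) →
    AlgSp.RepWith @QuasiCompact (AlgSp.FieldPt.ofPt j x').toHom)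

include hj hdense hfin hqc

/-- the images of the generic points. -/
def genImage : Set (AlgSp.Points X.obj) :=
  AlgSp.Points.ofPt j '' {x' : ↥X'.left | ∃ T ∈ irreducibleComponents ↥X'.left, IsGenericPoint x' T}

omit hj hdense hqc in
theorem finite_genImage : (genImage X j).Finite :=
  (Groth.Agent.Lib.T2H7.IrrCompFin.finite_genericPoints hfin).image _

omit hj hdense hfin in
theorem exists_qc_mono_of_mem_genImage {ξ : AlgSp.Points X.obj} (hξ : ξ ∈ genImage X j) :
    ∃ p : AlgSp.FieldPt X.obj, AlgSp.Points.mk p = ξ ∧ Mono p.toHom ∧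
      AlgSp.RepWith @QuasiCompact p.toHom := by
  obtain ⟨x', hx', rfl⟩ := hξ
  exact Groth.Agent.S10361.result X (AlgSp.FieldPt.ofPt j x') (hqc x' hx')

/-- every point of a chart is a specialization of a point over the image of a generic point. -/
theorem exists_specializes_genImage {U : Over S} (φ : (AlgSp.yon S).obj U ⟶ X.obj)
    (hφ : AlgSp.RepWith @Etale φ) (hE : (AlgSp.Points.ofPt φ ⁻¹' genImage X j).Finite)
    (u : ↥U.left) : ∃ η : ↥U.left, η ⤳ u ∧ AlgSp.Points.ofPt φ η ∈ genImage X j := by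
  classical
  have hφcont : Continuous (AlgSp.Points.ofPt φ) := AlgSp.Points.continuous_ofPt φ
  have hφopen : IsOpenMap (AlgSp.Points.ofPt φ) := Groth.Agent.S10176.isOpenMap_ofPt φ hφ
  have hjet : AlgSp.RepWith @Etale j := Groth.Agent.Lib.Helper12.OpenSub.repWith_mono
    (fun _ _ g hg => by haveI : IsOpenImmersion g := hg; infer_instance) hj
  have hNopen : IsOpen (Set.range (AlgSp.Points.ofPt j)) := by
    rw [← Set.image_univ]
    exact Groth.Agent.S10176.isOpenMap_ofPt j hjet _ isOpen_univ
  let U' : U.left.Opens := ⟨AlgSp.Points.ofPt φ ⁻¹' Set.range (AlgSp.Points.ofPt j),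
    hNopen.preimage hφcont⟩
  have hU'dense : Dense (U' : Set ↥U.left) := hdense.preimage hφopen
  let UO : Over S := Over.mk (U'.ι ≫ U.hom)
  let ι : UO ⟶ U := Over.homMk U'.ι rfl
  have hι : ∀ w : ↥UO.left, U'.ι w ∈ U' := by
    intro w
    have h := U'.range_ι
    have h2 : U'.ι w ∈ Set.range U'.ι := ⟨w, rfl⟩
    rw [h] at h2
    exact h2
  -- the map to `X'`
  have hrange : Set.range (AlgSp.Points.map ((AlgSp.yon S).map ι ≫ φ)) ⊆
      Set.range (AlgSp.Points.map j) := by
    rintro _ ⟨z, rfl⟩
    obtain ⟨w, rfl⟩ := (AlgSp.Points.schemeHomeo UO).surjective z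
    change AlgSp.Points.map ((AlgSp.yon S).map ι ≫ φ) (AlgSp.Points.ofScheme UO w) ∈ _
    rw [← AlgSp.Points.ofPt_eq_map_ofScheme, Groth.Agent.S10176.ofPt_map_comp]
    obtain ⟨x', hx'⟩ := hι w
    refine ⟨AlgSp.Points.ofScheme X' x', ?_⟩
    rw [← AlgSp.Points.ofPt_eq_map_ofScheme]
    exact hx'
  obtain ⟨g', hg'⟩ := (Groth.Agent.S10194.exists_factor_iff j hj _).2 hrange
  obtain ⟨g, rfl⟩ := (AlgSp.yon S).map_surjective g'
  haveI hget : Etale g.left := by
    refine Groth.Agent.S10265.etale_of_comp_repWith g j hjet ?_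
    rw [hg']
    exact (AlgSp.RepWith @Etale).comp_mem _ _
      ((AlgSp.repWith_yon_map_iff @Etale ι).2 (inferInstanceAs (Etale U'.ι))) hφ
  -- generic points of `U'` lie over generic points of `X'`
  have hgen : ∀ η' : ↥UO.left, closure ({η'} : Set ↥UO.left) ∈ irreducibleComponents ↥UO.left →
      AlgSp.Points.ofPt φ (U'.ι η') ∈ genImage X j := by
    intro η' hη'
    refine ⟨g.left η', ⟨closure {g.left η'}, ?_, rfl⟩, ?_⟩
    · rw [Groth.Agent.Lib.Helper14.closure_mem_irreducibleComponents_iff]
      intro y' hy'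
      obtain ⟨x'', hx'', rfl⟩ := (Flat.generalizingMap (f := g.left)) hy'
      rw [(Groth.Agent.Lib.Helper14.closure_mem_irreducibleComponents_iff η').1 hη' x'' hx'']
    · rw [← Groth.Agent.S10176.ofPt_map_comp g j η', hg', Groth.Agent.S10176.ofPt_map_comp]
      rfl
  -- the closed set of specializations
  set E := AlgSp.Points.ofPt φ ⁻¹' genImage X j with hEdef
  let K : Set ↥U.left := ⋃ η ∈ E, closure ({η} : Set ↥U.left)
  have hKcl : IsClosed K := hE.isClosed_biUnion fun η _ => isClosed_closure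
  have hU'K : (U' : Set ↥U.left) ⊆ K := by
    intro u' hu'
    let w₀ : ↥UO.left := ⟨u', hu'⟩
    obtain ⟨η', hη', hspec⟩ :=
      Groth.Agent.Lib.T2H7.FinLocus.exists_generic_specializes (α := ↥UO.left) w₀
    have h1 : U'.ι η' ⤳ u' := by
      have := hspec.map U'.ι.continuous
      exact this
    exact Set.mem_biUnion (hgen η' hη') (specializes_iff_mem_closure.1 h1)
  have huK : u ∈ K := by
    have : closure (U' : Set ↥U.left) ⊆ K := closure_minimal hU'K hKcl
    exact this (hU'dense u)
  obtain ⟨η, hηE, hη⟩ := Set.mem_iUnion₂.1 huK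
  exact ⟨η, specializes_iff_mem_closure.2 hη, hηE⟩

/-- the fibres of the kernel pair of an affine etale chart are finite. -/
theorem finite_fibre_left {U R : Over S} [IsAffine U.left] (φ : (AlgSp.yon S).obj U ⟶ X.obj)
    (hφ : AlgSp.RepWith @Etale φ) {s t : R ⟶ U}
    (sq : IsPullback ((AlgSp.yon S).map t) ((AlgSp.yon S).map s) φ φ) (u : ↥U.left) :
    (s.left ⁻¹' {u}).Finite := by
  have hchart : ∀ ξ ∈ genImage X j, (AlgSp.Points.ofPt φ ⁻¹' {ξ}).Finite ∧
      (AlgSp.Points.ofPt ((AlgSp.yon S).map t ≫ φ) ⁻¹' {ξ}).Finite := fun ξ hξ =>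
    (Groth.Agent.S10360.result X ξ).2 (exists_qc_mono_of_mem_genImage X j hqc hξ) U φ
      inferInstance hφ R s t sq
  have hE : (AlgSp.Points.ofPt φ ⁻¹' genImage X j).Finite :=
    (finite_genImage X j hfin).preimage' fun ξ hξ => (hchart ξ hξ).1
  obtain ⟨η, hηu, hηE⟩ := exists_specializes_genImage X j hj hdense hfin hqc φ hφ hE u
  haveI : Etale s.left := hφ.2 φ _ s sq
  haveI : IsSeparated s.left := isSeparated_left sq
  refine Groth.Agent.Lib.T2H7.EtFibBound.finite_fibre_of_specializes s.left u η hηu ?_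
  refine (hchart _ hηE).2.subset ?_
  intro r hr
  change AlgSp.Points.ofPt ((AlgSp.yon S).map t ≫ φ) r = AlgSp.Points.ofPt φ η
  rw [sq.w, Groth.Agent.S10176.ofPt_map_comp]
  exact congrArg _ hr

/-- **decency.** -/
theorem isDecent : AlgSp.IsDecent X.obj := by
  intro x
  refine (Groth.Agent.S10360.result X x).1 ?_
  intro U φ hUaff hφ R s t sq
  haveI := hUaff
  have hs : ∀ u : ↥U.left, (s.left ⁻¹' {u}).Finite :=
    finite_fibre_left X j hj hdense hfin hqc φ hφ sq
  have ht : ∀ u : ↥U.left, (t.left ⁻¹' {u}).Finite :=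
    finite_fibre_left X j hj hdense hfin hqc φ hφ sq.flip
  have h1 : (AlgSp.Points.ofPt φ ⁻¹' {x}).Finite := by
    by_cases hx : ∃ u, AlgSp.Points.ofPt φ u = x
    · obtain ⟨u, rfl⟩ := hx
      have h1 := Groth.Agent.S10176.preimage_ofPt_image sq.flip ({u} : Set ↥U.left)
      rw [Set.image_singleton] at h1
      rw [h1]
      exact (hs u).image _
    · have : AlgSp.Points.ofPt φ ⁻¹' {x} = ∅ := by
        ext u
        simp only [Set.mem_preimage, Set.mem_singleton_iff, Set.mem_empty_iff_false, iff_false]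
        exact fun h => hx ⟨u, h⟩
      rw [this]
      exact Set.finite_empty
  refine ⟨h1, ?_⟩
  have h2 : AlgSp.Points.ofPt ((AlgSp.yon S).map t ≫ φ) ⁻¹' {x} =
      t.left ⁻¹' (AlgSp.Points.ofPt φ ⁻¹' {x}) := by
    ext r
    simp only [Set.mem_preimage, Set.mem_singleton_iff]
    rw [Groth.Agent.S10176.ofPt_map_comp]
  rw [h2]
  exact h1.preimage' fun u _ => ht u

omit hj hqc in
/-- **finitely many irreducible components.** -/
theorem finite_irreducibleComponents : (irreducibleComponents (AlgSp.Points X.obj)).Finite :=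
  Groth.Agent.Lib.T2H7.IrrCompFin.finite_of_denseRange (AlgSp.Points.continuous_ofPt j) hdense hfin

end

end Groth.Agent.Lib.T2H7.DecentFinComp
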