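import Mathlib

/-!
# Elements separating finitely many ring homomorphisms

`exists_forall_ne`: for an injective ring homomorphism `ι : A → L` of domains and finitely many
ring homomorphisms `φ : A → L` all different from `ι`, some `x : A` has `φ x ≠ ι x` for all `φ`.
-/

set_option autoImplicit false
set_option linter.unusedSectionVars false
set_option linter.unusedVariables false
set_option linter.style.haveILetI false

namespace Groth.Agent.Lib.T2H7.InertiaElt

open scoped Pointwise

variable {A L : Type*} [CommRing A] [IsDomain A] [CommRing L] [IsDomain L]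

/-- an equaliser of finite additive index in an infinite domain is everything. -/
lemma eq_of_finiteIndex [Infinite A] (ι φ : A →+* L) (hι : Function.Injective ι)
    (h : ((RingHom.eqLocus φ ι).toAddSubgroup).FiniteIndex) : φ = ι := by
  set K := (RingHom.eqLocus φ ι).toAddSubgroup with hK
  have hKmem : ∀ y : A, y ∈ K ↔ φ y = ι y := fun y => Iff.rfl
  have hinf : Infinite K := by
    by_contra hfin
    rw [not_infinite_iff_finite] at hfin
    have : Finite (A ⧸ K) := AddSubgroup.finite_quotient_of_finiteIndex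
    have : Finite ((A ⧸ K) × K) := inferInstance
    have : Finite A :=
      Finite.of_equiv _ (AddSubgroup.addGroupEquivQuotientProdAddSubgroup (s := K)).symm
    exact not_finite A
  ext x
  have : Finite (A ⧸ K) := AddSubgroup.finite_quotient_of_finiteIndex
  obtain ⟨c, c', hne, heq⟩ := Finite.exists_ne_map_eq_of_infinite
    (fun c : K => (QuotientAddGroup.mk ((c : A) * x) : A ⧸ K))
  rw [QuotientAddGroup.eq] at heq
  have hd : (c' : A) - c ∈ K := K.sub_mem c'.2 c.2
  have hd0 : (c' : A) - c ≠ 0 := by
    intro h0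
    exact hne (Subtype.ext (sub_eq_zero.1 h0).symm)
  have hdx : ((c' : A) - c) * x ∈ K := by
    have : ((c' : A) - c) * x = -((c : A) * x) + (c' : A) * x := by ring
    rw [this]; exact heq
  rw [hKmem] at hd hdx
  rw [map_mul, map_mul, hd] at hdx
  exact mul_left_cancel₀ (fun h0 => hd0 (hι (by rw [h0, map_zero]))) hdx

/-- in a finite domain two ring homomorphisms agreeing on a generator of the units agree. -/
lemma eq_of_finite [Finite A] (ι φ : A →+* L) (g : Aˣ)
    (hg : ∀ y : Aˣ, y ∈ Subgroup.zpowers g) (h : φ g = ι g) : φ = ι := by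
  ext y
  by_cases hy : y = 0
  · rw [hy, map_zero, map_zero]
  · have hinj : Function.Injective (fun z : A => y * z) := mul_right_injective₀ hy
    obtain ⟨z, hz⟩ := Finite.injective_iff_surjective.1 hinj 1
    let yu : Aˣ := ⟨y, z, hz, by rw [mul_comm]; exact hz⟩
    obtain ⟨k, hk⟩ := hg yu
    have h1 : Units.map φ.toMonoidHom g = Units.map ι.toMonoidHom g := Units.ext h
    have h2 : Units.map φ.toMonoidHom yu = Units.map ι.toMonoidHom yu := by
      rw [← hk, map_zpow, map_zpow, h1]
    exact congrArg Units.val h2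

theorem exists_forall_ne (ι : A →+* L) (hι : Function.Injective ι) (Φ : Finset (A →+* L))
    (hΦ : ∀ φ ∈ Φ, φ ≠ ι) : ∃ x : A, ∀ φ ∈ Φ, φ x ≠ ι x := by
  by_contra hcon
  have hcon' : ∀ x : A, ∃ φ ∈ Φ, φ x = ι x := by
    intro x
    by_contra hx
    exact hcon ⟨x, fun φ hφ h => hx ⟨φ, hφ, h⟩⟩
  rcases finite_or_infinite A with hfin | hinf
  · obtain ⟨g, hg⟩ := IsCyclic.exists_generator (α := Aˣ)
    obtain ⟨φ, hφ, h⟩ := hcon' g
    exact hΦ φ hφ (eq_of_finite ι φ g hg h)
  · have hcov : ⋃ φ ∈ Φ, (0 : A) +ᵥ (((RingHom.eqLocus φ ι).toAddSubgroup : AddSubgroup A) : Set A)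
        = Set.univ := by
      rw [Set.eq_univ_iff_forall]
      intro x
      obtain ⟨φ, hφ, h⟩ := hcon' x
      rw [Set.mem_iUnion₂]
      refine ⟨φ, hφ, ?_⟩
      rw [zero_vadd]
      exact h
    obtain ⟨φ, hφ, hfi⟩ := AddSubgroup.exists_finiteIndex_of_leftCoset_cover hcov
    exact hΦ φ hφ (eq_of_finiteIndex ι φ hι hfi)

end Groth.Agent.Lib.T2H7.InertiaElt
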