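import Mathlib
import Groth.Agent.Lib.T2H7InertiaElt

/-!
# An invariant of the inertia group with pairwise incongruent conjugates

For a finite group `G` acting on a ring `R` and a prime `q` with inertia group `I`, we construct
`a ∈ R^I` with `a - g • a ∉ q` for every `g ∉ I`.
-/

set_option autoImplicit false
set_option linter.unusedSectionVars false
set_option linter.unusedVariables false
set_option linter.style.haveILetI false

namespace Groth.Agent.Lib.T2H7.InertiaEltB

open Polynomial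

variable {G R : Type*} [Group G] [Finite G] [CommRing R] [MulSemiringAction G R]
  (q : Ideal R) [q.IsPrime]

/-- `g` stabilises the prime `q`. -/
def St (g : G) : Prop := ∀ x : R, g • x ∈ q ↔ x ∈ q

lemma st_one : St q (1 : G) := fun x => by rw [one_smul]

lemma st_mul {g h : G} (hg : St q g) (hh : St q h) : St q (g * h) := fun x => by
  rw [mul_smul, hg, hh]

lemma st_inv {g : G} (hg : St q g) : St q g⁻¹ := fun x => by
  rw [← hg (g⁻¹ • x), smul_inv_smul]

lemma st_of_mem_inertia {g : G} (hg : g ∈ q.inertia G) : St q g := by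
  intro x
  have h : g • x - x ∈ q := hg x
  constructor
  · intro hx
    have := q.sub_mem hx h
    rwa [sub_sub_cancel] at this
  · intro hx
    have := q.add_mem h hx
    rwa [sub_add_cancel] at this

lemma st_of_forall (τ : G) (h : ∀ x : R, τ • x ∈ q → x ∈ q) : St q τ := by
  have iter : ∀ (k : ℕ) (y : R), τ ^ k • y ∈ q → y ∈ q := by
    intro k
    induction k with
    | zero => intro y hy; simpa using hy
    | succ k ih =>
      intro y hy
      rw [pow_succ', mul_smul] at hy
      exact ih y (h _ hy)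
  intro x
  refine ⟨h x, fun hx => ?_⟩
  have hn : 0 < orderOf τ := orderOf_pos τ
  apply iter (orderOf τ - 1) (τ • x)
  rw [← mul_smul, ← pow_succ, Nat.sub_add_cancel hn, pow_orderOf_eq_one, one_smul]
  exact hx

include q in
lemma exists_u : ∃ u : R, (∀ g : G, St q g → g • u = u) ∧ u ∉ q ∧
    ∀ τ : G, ¬ St q τ → τ • u ∈ q := by
  classical
  cases nonempty_fintype G
  have ex : ∀ τ : G, ¬ St q τ → ∃ b : R, τ • b ∈ q ∧ b ∉ q := by
    intro τ hτ
    by_contra hcon
    exact hτ (st_of_forall q τ fun x hx => by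
      by_contra hx'
      exact hcon ⟨x, hx, hx'⟩)
  let b : G → R := fun τ => if h : St q τ then 1 else (ex τ h).choose
  have hb1 : ∀ τ : G, b τ ∉ q := by
    intro τ
    by_cases h : St q τ
    · simp only [b, dif_pos h]
      exact fun h1 => ‹q.IsPrime›.ne_top ((Ideal.eq_top_iff_one q).2 h1)
    · simp only [b, dif_neg h]
      exact (ex τ h).choose_spec.2
  have hb2 : ∀ τ : G, ¬ St q τ → τ • b τ ∈ q := by
    intro τ h
    simp only [b, dif_neg h]
    exact (ex τ h).choose_spec.1
  set u₀ : R := ∏ τ : G, b τ with hu₀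
  have hu₀1 : u₀ ∉ q := by
    rw [hu₀, Ideal.IsPrime.prod_mem_iff]
    rintro ⟨τ, -, h⟩
    exact hb1 τ h
  have hu₀2 : ∀ τ : G, ¬ St q τ → τ • u₀ ∈ q := by
    intro τ h
    rw [hu₀, Finset.smul_prod', Ideal.IsPrime.prod_mem_iff]
    exact ⟨τ, Finset.mem_univ _, hb2 τ h⟩
  let f : G → R := fun σ => if St q σ then σ • u₀ else 1
  refine ⟨∏ σ : G, f σ, ?_, ?_, ?_⟩
  · intro g hg
    rw [Finset.smul_prod']
    have : ∀ σ : G, g • f σ = f (g * σ) := by
      intro σ
      simp only [f]
      by_cases h : St q σ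
      · rw [if_pos h, if_pos (st_mul q hg h), mul_smul]
      · have h' : ¬ St q (g * σ) := fun h' => h (by
          have := st_mul q (st_inv q hg) h'
          rwa [inv_mul_cancel_left] at this)
        rw [if_neg h, if_neg h', smul_one]
    simp only [this]
    exact Fintype.prod_bijective _ (Group.mulLeft_bijective g) _ _ fun σ => rfl
  · rw [Ideal.IsPrime.prod_mem_iff]
    rintro ⟨σ, -, h⟩
    simp only [f] at h
    by_cases hσ : St q σ
    · rw [if_pos hσ, hσ] at h
      exact hu₀1 h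
    · rw [if_neg hσ] at h
      exact ‹q.IsPrime›.ne_top ((Ideal.eq_top_iff_one q).2 h)
  · intro τ hτ
    rw [Finset.smul_prod', Ideal.IsPrime.prod_mem_iff]
    refine ⟨1, Finset.mem_univ _, ?_⟩
    simp only [f]
    rw [if_pos (st_one q), one_smul]
    exact hu₀2 τ hτ


/-- an element of the stabiliser acting trivially on the inertia-invariants modulo `q` lies in the
inertia group. -/
lemma exists_fixed_not_mem (σ : G) (hσ : St q σ) (hσI : σ ∉ q.inertia G) :
    ∃ c : R, (∀ ι ∈ q.inertia G, ι • c = c) ∧ σ • c - c ∉ q := by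
  classical
  by_contra hcon
  have hcon' : ∀ c : R, (∀ ι ∈ q.inertia G, ι • c = c) → σ • c - c ∈ q := by
    intro c hc
    by_contra h
    exact hcon ⟨c, hc, h⟩
  have hx : ∃ x : R, σ • x - x ∉ q := by
    by_contra h
    exact hσI fun x => by
      by_contra hx
      exact h ⟨x, hx⟩
  obtain ⟨x, hx⟩ := hx
  have : Fintype (q.inertia G) := Fintype.ofFinite _
  set Φ : R[X] := MulSemiringAction.charpoly (q.inertia G) x with hΦ
  set π := Ideal.Quotient.mk q with hπ
  have h1 : (σ • Φ).map π = Φ.map π := by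
    ext n
    rw [coeff_map, coeff_map, coeff_smul, hπ, Ideal.Quotient.eq]
    refine hcon' _ fun ι hι => ?_
    exact MulSemiringAction.smul_coeff_charpoly x n (⟨ι, hι⟩ : q.inertia G)
  have h2 : Φ.map π = (X - C (π x)) ^ Fintype.card (q.inertia G) := by
    rw [hΦ, MulSemiringAction.charpoly_eq, Polynomial.map_prod]
    rw [Finset.prod_eq_pow_card (b := X - C (π x))]
    · rfl
    · intro ι _
      rw [Polynomial.map_sub, map_X, map_C]
      congr 2
      rw [hπ, Ideal.Quotient.eq]
      exact ι.2 x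
  have h3 : (σ • Φ).map π = (X - C (π (σ • x))) ^ Fintype.card (q.inertia G) := by
    rw [hΦ, MulSemiringAction.charpoly_eq, Finset.smul_prod', Polynomial.map_prod]
    rw [Finset.prod_eq_pow_card (b := X - C (π (σ • x)))]
    · rfl
    · intro ι _
      rw [smul_sub, smul_X, smul_C, Polynomial.map_sub, map_X, map_C]
      congr 2
      rw [hπ, Ideal.Quotient.eq, ← smul_sub, hσ]
      exact ι.2 x
  rw [h2, h3] at h1
  have h4 := congrArg (Polynomial.eval (π x)) h1
  simp only [eval_pow, eval_sub, eval_X, eval_C, sub_self] at h4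
  rw [zero_pow Fintype.card_ne_zero] at h4
  have h5 : π x - π (σ • x) = 0 := pow_eq_zero_iff (Fintype.card_ne_zero) |>.1 h4
  apply hx
  rw [← Ideal.Quotient.eq, ← hπ]
  exact (sub_eq_zero.1 h5).symm


/-- an inertia-invariant element whose conjugates under the stabiliser are incongruent. -/
lemma exists_a₁ : ∃ a₁ : R, (∀ ι ∈ q.inertia G, ι • a₁ = a₁) ∧
    ∀ σ : G, St q σ → σ ∉ q.inertia G → σ • a₁ - a₁ ∉ q := by
  classical
  let Cs : Subring R := FixedPoints.subring R (q.inertia G)
  let P : Ideal Cs := q.comap Cs.subtype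
  let ι₀ : Cs ⧸ P →+* R ⧸ q := Ideal.quotientMap q Cs.subtype le_rfl
  have hι₀ : Function.Injective ι₀ := Ideal.quotientMap_injective
  let T : Type _ := {σ : G // St q σ ∧ σ ∉ q.inertia G}
  have : Fintype T := Fintype.ofFinite _
  let φ : T → (Cs ⧸ P →+* R ⧸ q) := fun s =>
    Ideal.quotientMap q ((MulSemiringAction.toRingHom G R s.1).comp Cs.subtype)
      (fun x hx => by
        change s.1 • (x : R) ∈ q
        exact (s.2.1 _).2 hx)
  have hφ : ∀ (s : T) (c : Cs), φ s (Ideal.Quotient.mk P c) = Ideal.Quotient.mk q (s.1 • (c : R)) :=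
    fun s c => Ideal.quotientMap_mk
  have hι₀' : ∀ c : Cs, ι₀ (Ideal.Quotient.mk P c) = Ideal.Quotient.mk q (c : R) :=
    fun c => Ideal.quotientMap_mk
  have hne : ∀ ψ ∈ Finset.univ.image φ, ψ ≠ ι₀ := by
    intro ψ hψ
    obtain ⟨s, -, rfl⟩ := Finset.mem_image.1 hψ
    obtain ⟨c, hc, hc'⟩ := exists_fixed_not_mem q s.1 s.2.1 s.2.2
    intro h
    have := congrArg (fun f => f (Ideal.Quotient.mk P (⟨c, fun ι => hc ι.1 ι.2⟩ : Cs))) h
    simp only [hφ, hι₀'] at this
    exact hc' (Ideal.Quotient.eq.1 this)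
  obtain ⟨x, hx⟩ := Groth.Agent.Lib.T2H7.InertiaElt.exists_forall_ne ι₀ hι₀ _ hne
  obtain ⟨c, rfl⟩ := Ideal.Quotient.mk_surjective x
  refine ⟨(c : R), fun ι hι => c.2 ⟨ι, hι⟩, fun σ hσ hσI h => ?_⟩
  refine hx (φ ⟨σ, hσ, hσI⟩) (Finset.mem_image_of_mem _ (Finset.mem_univ _)) ?_
  rw [hφ, hι₀']
  exact Ideal.Quotient.eq.2 h

/-- the element used to present the inertia-invariants as a standard étale algebra. -/
theorem exists_good_element :
    ∃ a : R, (∀ g : G, g ∈ q.inertia G ↔ g • a = a) ∧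
      ∀ g : G, g ∉ q.inertia G → a - g • a ∉ q := by
  obtain ⟨a₀, ha₀I, ha₀⟩ := exists_a₁ (G := G) q
  have h1 : (1 : R) ∉ q := fun h => ‹q.IsPrime›.ne_top ((Ideal.eq_top_iff_one q).2 h)
  -- arrange `a₁ ∉ q`
  obtain ⟨a₁, ha₁I, ha₁, ha₁q⟩ : ∃ a₁ : R, (∀ ι ∈ q.inertia G, ι • a₁ = a₁) ∧
      (∀ σ : G, St q σ → σ ∉ q.inertia G → σ • a₁ - a₁ ∉ q) ∧ a₁ ∉ q := by
    by_cases h : a₀ ∈ q
    · refine ⟨a₀ + 1, fun ι hι => by rw [smul_add, smul_one, ha₀I ι hι], fun σ hσ hσI => ?_, ?_⟩
      · rw [smul_add, smul_one, add_sub_add_right_eq_sub]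
        exact ha₀ σ hσ hσI
      · intro h'
        exact h1 (by simpa using q.sub_mem h' h)
    · exact ⟨a₀, ha₀I, ha₀, h⟩
  obtain ⟨u, huD, huq, huT⟩ := exists_u (G := G) q
  have key : ∀ g : G, g ∉ q.inertia G → u * a₁ - g • (u * a₁) ∉ q := by
    intro g hg
    by_cases hst : St q g
    · rw [smul_mul', huD g hst, ← mul_sub]
      intro h
      rcases ‹q.IsPrime›.mem_or_mem h with h | h
      · exact huq h
      · apply ha₁ g hst hg
        rw [← neg_sub]
        exact q.neg_mem h
    · intro h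
      have h2 : g • (u * a₁) ∈ q := by
        rw [smul_mul']
        exact q.mul_mem_right _ (huT g hst)
      have h3 : u * a₁ ∈ q := by
        have := q.add_mem h h2
        rwa [sub_add_cancel] at this
      rcases ‹q.IsPrime›.mem_or_mem h3 with h | h
      · exact huq h
      · exact ha₁q h
  refine ⟨u * a₁, fun g => ⟨fun hg => ?_, fun hg => ?_⟩, key⟩
  · rw [smul_mul', huD g (st_of_mem_inertia q hg), ha₁I g hg]
  · by_contra hgI
    apply key g hgI
    rw [hg, sub_self]
    exact q.zero_mem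

end Groth.Agent.Lib.T2H7.InertiaEltB
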