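import Mathlib
import Groth.Agent.Lib.T2H7InertiaEltB

/-!
# An invariant of a subgroup containing the decomposition group

For a finite group `G` acting on a ring `R`, a prime `q` and a subgroup `H` containing the
stabiliser of `q`, we construct `a ∈ R^H` with `a ∉ q` and `g • a ∈ q` for every `g ∉ H`.
-/

set_option autoImplicit false
set_option linter.unusedSectionVars false
set_option linter.unusedVariables false
set_option linter.style.haveILetI false

namespace Groth.Agent.Lib.T2H7.DecompElt

open scoped Pointwise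
open Groth.Agent.Lib.T2H7.InertiaEltB

variable {G R : Type*} [Group G] [Finite G] [CommRing R] [MulSemiringAction G R]
  (q : Ideal R) [q.IsPrime]

lemma st_iff_mem_stabilizer (g : G) : St q g ↔ g ∈ MulAction.stabilizer G q := by
  rw [MulAction.mem_stabilizer_iff]
  constructor
  · intro h
    ext x
    rw [Ideal.mem_pointwise_smul_iff_inv_smul_mem, ← h (g⁻¹ • x), smul_inv_smul]
  · intro h x
    constructor
    · intro hx
      have : g • x ∈ g • q := by rw [h]; exact hx
      exact Ideal.smul_mem_pointwise_smul_iff.1 this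
    · intro hx
      have : g • x ∈ g • q := Ideal.smul_mem_pointwise_smul_iff.2 hx
      rwa [h] at this

include q in
theorem exists_decomp_element (H : Subgroup G) (hD : MulAction.stabilizer G q ≤ H) :
    ∃ a : R, (∀ h ∈ H, h • a = a) ∧ a ∉ q ∧ ∀ g : G, g ∉ H → g • a ∈ q := by
  classical
  cases nonempty_fintype G
  obtain ⟨u, hu1, hu2, hu3⟩ := exists_u (G := G) q
  have hu1' : ∀ g ∈ MulAction.stabilizer G q, g • u = u :=
    fun g hg => hu1 g ((st_iff_mem_stabilizer q g).2 hg)
  have hu3' : ∀ g : G, g ∉ MulAction.stabilizer G q → g • u ∈ q :=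
    fun g hg => hu3 g (fun h => hg ((st_iff_mem_stabilizer q g).1 h))
  let K : Subgroup H := (MulAction.stabilizer G q).subgroupOf H
  let f : H ⧸ K → R := fun τ => ((Quotient.out τ : H) : G) • u
  -- the value on a representative
  have hf : ∀ h : H, f (QuotientGroup.mk h) = (h : G) • u := by
    intro h
    have h1 : (Quotient.out (QuotientGroup.mk h : H ⧸ K))⁻¹ * h ∈ K := by
      rw [← QuotientGroup.eq]
      exact QuotientGroup.out_eq' _
    have h2 : (((Quotient.out (QuotientGroup.mk h : H ⧸ K))⁻¹ * h : H) : G) • u = u :=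
      hu1' _ (Subgroup.mem_subgroupOf.1 h1)
    change ((Quotient.out (QuotientGroup.mk h : H ⧸ K) : H) : G) • u = (h : G) • u
    conv_lhs => rw [← h2]
    rw [← mul_smul]
    congr 1
    simp
  refine ⟨∑ τ : H ⧸ K, f τ, ?_, ?_, ?_⟩
  · intro h₀ hh₀
    rw [Finset.smul_sum]
    have h1 : ∀ τ : H ⧸ K, h₀ • f τ = f ((⟨h₀, hh₀⟩ : H) • τ) := by
      intro τ
      obtain ⟨h, rfl⟩ := QuotientGroup.mk_surjective τ
      rw [hf]
      change _ = f (QuotientGroup.mk ((⟨h₀, hh₀⟩ : H) * h))
      rw [hf, ← mul_smul]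
      rfl
    simp only [h1]
    exact Fintype.sum_equiv (MulAction.toPerm (⟨h₀, hh₀⟩ : H)) _ _ (fun τ => rfl)
  · intro ha
    apply hu2
    have h1 : ∑ τ : H ⧸ K, f τ = f (QuotientGroup.mk 1) +
        ∑ τ ∈ Finset.univ.erase (QuotientGroup.mk 1 : H ⧸ K), f τ :=
      (Finset.add_sum_erase _ _ (Finset.mem_univ _)).symm
    have h2 : ∑ τ ∈ Finset.univ.erase (QuotientGroup.mk 1 : H ⧸ K), f τ ∈ q := by
      apply Ideal.sum_mem
      intro τ hτ
      obtain ⟨h, rfl⟩ := QuotientGroup.mk_surjective τ
      rw [hf]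
      apply hu3'
      intro hmem
      apply (Finset.mem_erase.1 hτ).1
      rw [QuotientGroup.eq]
      apply Subgroup.mem_subgroupOf.2
      simpa using (MulAction.stabilizer G q).inv_mem hmem
    rw [h1, hf] at ha
    simp only [Subgroup.coe_one, one_smul] at ha
    have := q.sub_mem ha h2
    rwa [add_sub_cancel_right] at this
  · intro g hg
    rw [Finset.smul_sum]
    apply Ideal.sum_mem
    intro τ _
    obtain ⟨h, rfl⟩ := QuotientGroup.mk_surjective τ
    rw [hf, ← mul_smul]
    apply hu3'
    intro hmem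
    apply hg
    have := H.mul_mem (hD hmem) (H.inv_mem h.2)
    simpa using this

end Groth.Agent.Lib.T2H7.DecompElt
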