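import Mathlib

/-!
# Invariants of a stabilizer are standard étale over the full invariants (polynomial identities)

Let a finite group `G` act on a commutative ring `R` and let `a : R`.  Write `r τ` for the
conjugates of `a` (indexed by `τ : G ⧸ stabilizer G a`), `F = ∏ (X - r τ)`,
`E τ = ∏_{τ' ≠ τ} (X - r τ')` and `δ τ = E τ (r τ)`.  We prove the polynomial identities needed to
see that `(R^{Stab a})[1/δ]` is `R^G[X]/(F)` localised at `F'`.
-/

set_option autoImplicit false
set_option linter.unusedSectionVars false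
set_option linter.unusedVariables false
set_option linter.style.haveILetI false

namespace Groth.Agent.Lib.T2H7.InertiaStd

open Polynomial MulAction

variable (G : Type*) [Group G] [Finite G] (R : Type*) [CommRing R] [MulSemiringAction G R] (a : R)

/-- index type of the conjugates of `a`. -/
abbrev Q : Type _ := G ⧸ stabilizer G a

noncomputable instance instFintypeQ : Fintype (Q G R a) := Fintype.ofFinite _

noncomputable instance instDecEqQ : DecidableEq (Q G R a) := Classical.decEq _

variable {G R a}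

/-- the conjugate of `a` attached to a coset. -/
noncomputable def rt (τ : Q G R a) : R := ofQuotientStabilizer G a τ

/-- the base coset. -/
def one : Q G R a := QuotientGroup.mk (1 : G)

lemma rt_smul (g : G) (τ : Q G R a) : rt (g • τ) = g • rt τ :=
  ofQuotientStabilizer_smul G a g τ

lemma rt_mk (g : G) : rt (QuotientGroup.mk g : Q G R a) = g • a :=
  ofQuotientStabilizer_mk G a g

lemma rt_one : rt (one : Q G R a) = a := by
  rw [one, rt_mk, one_smul]

lemma rt_injective : Function.Injective (rt : Q G R a → R) :=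
  injective_ofQuotientStabilizer G a

lemma smul_one_eq (g : G) : g • (one : Q G R a) = QuotientGroup.mk g := by
  rw [one]
  change (QuotientGroup.mk (g * 1) : Q G R a) = _
  rw [mul_one]

lemma exists_smul_one (τ : Q G R a) : ∃ g : G, g • (one : Q G R a) = τ := by
  obtain ⟨g, rfl⟩ := QuotientGroup.mk_surjective τ
  exact ⟨g, smul_one_eq g⟩

variable (G a) in
/-- the polynomial with roots the conjugates of `a`. -/
noncomputable def F : R[X] := ∏ τ : Q G R a, (X - C (rt τ))

/-- the product of all factors but one. -/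
noncomputable def E (τ : Q G R a) : R[X] := ∏ τ' ∈ Finset.univ.erase τ, (X - C (rt τ'))

/-- the value of `E τ` at `rt τ`. -/
noncomputable def δ (τ : Q G R a) : R := ∏ τ' ∈ Finset.univ.erase τ, (rt τ - rt τ')

lemma monic_F : (F G a).Monic := by
  unfold F
  exact monic_prod_of_monic _ _ fun τ _ => monic_X_sub_C (rt (a := a) τ)

lemma F_eq (τ : Q G R a) : F G a = (X - C (rt τ)) * E τ := by
  unfold F E
  exact (Finset.mul_prod_erase Finset.univ (fun τ => (X - C (rt τ) : R[X]))
    (Finset.mem_univ τ)).symm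

lemma eval_E_self (τ : Q G R a) : (E τ).eval (rt τ) = δ τ := by
  unfold E δ
  rw [eval_prod]
  refine Finset.prod_congr rfl fun τ' _ => ?_
  rw [eval_sub, eval_X, eval_C]

lemma eval_E_of_ne {τ τ' : Q G R a} (h : τ' ≠ τ) : (E τ).eval (rt τ') = 0 := by
  unfold E
  rw [eval_prod]
  refine Finset.prod_eq_zero (Finset.mem_erase.mpr ⟨h, Finset.mem_univ τ'⟩) ?_
  rw [eval_sub, eval_X, eval_C, sub_self]

lemma derivative_F : derivative (F G a) = ∑ τ : Q G R a, E τ := by
  unfold F E
  rw [derivative_prod_finset]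
  refine Finset.sum_congr rfl fun τ _ => ?_
  rw [derivative_sub, derivative_X, derivative_C, sub_zero, mul_one]

lemma eval_derivative_F (τ : Q G R a) : (derivative (F G a)).eval (rt τ) = δ τ := by
  rw [derivative_F, eval_finsetSum, Finset.sum_eq_single τ, eval_E_self]
  · intro τ' _ h
    exact eval_E_of_ne h.symm
  · intro h
    exact absurd (Finset.mem_univ τ) h

lemma eval_F (τ : Q G R a) : (F G a).eval (rt τ) = 0 := by
  rw [F_eq τ, eval_mul, eval_sub, eval_X, eval_C, sub_self, zero_mul]

section smul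

lemma smul_factor (g : G) (τ : Q G R a) :
    g • (X - C (rt τ) : R[X]) = X - C (rt (g • τ)) := by
  rw [smul_sub, smul_X, smul_C, rt_smul]

lemma smul_F (g : G) : g • F G a = F G a := by
  unfold F
  rw [Finset.smul_prod']
  simp only [smul_factor]
  exact Fintype.prod_bijective _ (MulAction.bijective g) _ _ fun τ => rfl

lemma smul_E (g : G) (τ : Q G R a) : g • E τ = E (g • τ) := by
  unfold E
  rw [Finset.smul_prod']
  simp only [smul_factor]
  refine Finset.prod_bij (fun τ' _ => g • τ') ?_ ?_ ?_ ?_
  · intro τ' h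
    rw [Finset.mem_erase] at h ⊢
    exact ⟨fun h' => h.1 (MulAction.injective g h'), Finset.mem_univ _⟩
  · intro τ₁ _ τ₂ _ h
    exact MulAction.injective g h
  · intro τ' h
    rw [Finset.mem_erase] at h
    refine ⟨g⁻¹ • τ', ?_, smul_inv_smul g τ'⟩
    rw [Finset.mem_erase]
    refine ⟨fun h' => h.1 ?_, Finset.mem_univ _⟩
    rw [← h', smul_inv_smul]
  · intro τ' _
    rfl

lemma smul_δ (g : G) (τ : Q G R a) : g • δ τ = δ (g • τ) := by
  rw [← eval_E_self, ← eval_E_self, ← smul_E, ← smul_eval_smul, rt_smul]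

end smul

/-! ### conjugates of an element fixed by the stabilizer of `a` -/

/-- the conjugates of an element `c` fixed by the stabilizer of `a`. -/
noncomputable def cj (c : R) (hc : ∀ g : G, g • a = a → g • c = c) (τ : Q G R a) : R :=
  Quotient.liftOn' τ (fun g => g • c) (fun g g' h => by
    rw [QuotientGroup.leftRel_apply] at h
    have h1 : (g⁻¹ * g') • c = c := hc _ h
    rw [mul_smul, inv_smul_eq_iff] at h1
    exact h1.symm)

lemma cj_mk (c : R) (hc : ∀ g : G, g • a = a → g • c = c) (g : G) :
    cj c hc (QuotientGroup.mk g) = g • c := rfl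

lemma cj_one (c : R) (hc : ∀ g : G, g • a = a → g • c = c) : cj c hc one = c := by
  rw [one, cj_mk, one_smul]

lemma cj_smul (c : R) (hc : ∀ g : G, g • a = a → g • c = c) (g : G) (τ : Q G R a) :
    cj c hc (g • τ) = g • cj c hc τ := by
  obtain ⟨g', rfl⟩ := QuotientGroup.mk_surjective τ
  change cj c hc (QuotientGroup.mk (g * g')) = _
  rw [cj_mk, cj_mk, mul_smul]

/-- the Lagrange interpolation polynomial. -/
noncomputable def lag (c : R) (hc : ∀ g : G, g • a = a → g • c = c) : R[X] :=
  ∑ τ : Q G R a, C (cj c hc τ) * E τ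

lemma smul_lag (c : R) (hc : ∀ g : G, g • a = a → g • c = c) (g : G) :
    g • lag c hc = lag c hc := by
  unfold lag
  rw [Finset.smul_sum]
  simp only [smul_mul', smul_C, smul_E, ← cj_smul]
  exact Fintype.sum_bijective _ (MulAction.bijective g) _ _ fun τ => rfl

lemma eval_lag (c : R) (hc : ∀ g : G, g • a = a → g • c = c) :
    (lag c hc).eval a = c * δ (one : Q G R a) := by
  unfold lag
  rw [eval_finsetSum, Finset.sum_eq_single (one : Q G R a)]
  · have h1 := eval_E_self (one : Q G R a)
    rw [rt_one] at h1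
    rw [eval_mul, eval_C, cj_one, h1]
  · intro τ _ h
    have h1 := eval_E_of_ne (τ := τ) (τ' := one) h.symm
    rw [rt_one] at h1
    rw [eval_mul, h1, mul_zero]
  · intro h
    exact absurd (Finset.mem_univ _) h

/-! ### the key divisibility -/

lemma mk_mul_E (s : R[X]) (τ : Q G R a) :
    AdjoinRoot.mk (F G a) (s * E τ) =
      AdjoinRoot.mk (F G a) (C (s.eval (rt τ)) * E τ) := by
  rw [← sub_eq_zero, ← map_sub, ← sub_mul, AdjoinRoot.mk_eq_zero]
  obtain ⟨q, hq⟩ := X_sub_C_dvd_sub_C_eval (a := rt τ) (p := s)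
  rw [hq, F_eq τ]
  exact ⟨q, by ring⟩

lemma dvd_of_forall_pow_mul_eval_eq_zero (p : R[X]) (m : ℕ)
    (h : ∀ τ : Q G R a, δ τ ^ m * p.eval (rt τ) = 0) :
    F G a ∣ derivative (F G a) ^ (m + 1) * p := by
  rw [← AdjoinRoot.mk_eq_zero]
  set π := AdjoinRoot.mk (F G a) with hπ
  have h1 : ∀ τ : Q G R a, π (derivative (F G a)) * π (E τ) = π (C (δ τ)) * π (E τ) := by
    intro τ
    rw [← map_mul, ← map_mul, mk_mul_E, eval_derivative_F]
  have h2 : ∀ (k : ℕ) (τ : Q G R a),
      π (derivative (F G a)) ^ k * π (E τ) = π (C (δ τ)) ^ k * π (E τ) := by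
    intro k τ
    induction k with
    | zero => simp
    | succ k ih =>
      rw [pow_succ, mul_assoc, h1, ← mul_assoc, mul_comm _ (π (C (δ τ))), mul_assoc, ih]
      ring
  have h3 : ∀ τ : Q G R a, π p * π (E τ) = π (C (p.eval (rt τ))) * π (E τ) := by
    intro τ
    rw [← map_mul, ← map_mul, mk_mul_E]
  rw [map_mul, map_pow, pow_succ]
  have h4 : π (derivative (F G a)) = ∑ τ : Q G R a, π (E τ) := by
    rw [derivative_F, map_sum]
  have h5 : π (derivative (F G a)) * π p =
      ∑ τ : Q G R a, π (C (p.eval (rt τ))) * π (E τ) := by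
    rw [h4, Finset.sum_mul]
    exact Finset.sum_congr rfl fun τ _ => by rw [mul_comm, h3]
  rw [mul_assoc, h5, Finset.mul_sum]
  refine Finset.sum_eq_zero fun τ _ => ?_
  rw [← mul_assoc, mul_comm _ (π (C _)), mul_assoc, h2, ← mul_assoc, ← map_pow, ← map_mul,
    ← C_pow, ← C_mul, mul_comm _ (δ τ ^ m), h τ]
  simp

lemma forall_of_one (p : R[X]) (hp : ∀ g : G, g • p = p) (m : ℕ)
    (h : δ (one : Q G R a) ^ m * p.eval a = 0) (τ : Q G R a) :
    δ τ ^ m * p.eval (rt τ) = 0 := by
  obtain ⟨g, rfl⟩ := exists_smul_one τ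
  have h1 := congrArg (fun x => g • x) h
  simp only [smul_mul', smul_pow', smul_zero, smul_δ] at h1
  rw [← h1, rt_smul, rt_one]
  congr 1
  conv_lhs => rw [← hp g, smul_eval_smul]

/-! ### invariant polynomials descend -/

/-- a `G`-invariant polynomial comes from the ring of invariants. -/
lemma exists_map_eq (p : R[X]) (hp : ∀ g : G, g • p = p) :
    ∃ p₀ : (FixedPoints.subring R G)[X], p₀.map (FixedPoints.subring R G).subtype = p := by
  have : p ∈ lifts (FixedPoints.subring R G).subtype := by
    rw [lifts_iff_coeff_lifts]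
    intro n
    refine ⟨⟨p.coeff n, fun g => ?_⟩, rfl⟩
    rw [← coeff_smul, hp]
  exact this

lemma smul_map_subtype (p₀ : (FixedPoints.subring R G)[X]) (g : G) :
    g • p₀.map (FixedPoints.subring R G).subtype = p₀.map (FixedPoints.subring R G).subtype := by
  ext n
  rw [coeff_smul, coeff_map]
  exact (p₀.coeff n).2 g

end Groth.Agent.Lib.T2H7.InertiaStd
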