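import Groth.Prelude.Def_Pi1
import Groth.Agent.Lib.T2H7InertiaStd

/-!
# `(R^H)[1/δ]` is standard étale over `R^G` when `H` is the stabilizer of `a`
-/

set_option autoImplicit false
set_option linter.unusedSectionVars false
set_option linter.unusedVariables false
set_option linter.style.haveILetI false

universe u

namespace Groth.Agent.Lib.T2H7.InertiaStdB

open Polynomial MulAction Groth.Agent.Lib.T2H7.InertiaStd

variable {G R : Type u} [Group G] [Finite G] [CommRing R] [MulSemiringAction G R]
  (H : Subgroup G) (a : R) (hH : ∀ g : G, g ∈ H ↔ g • a = a)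

local notation "B" => FixedPoints.subring R G
local notation "Cr" => FixedPoints.subring R H

include hH in
lemma a_mem : a ∈ Cr := fun h => (hH h.1).1 h.2

include hH in
lemma δ_mem : δ (one : Q G R a) ∈ Cr := by
  intro h
  change (h : G) • δ (one : Q G R a) = _
  rw [smul_δ]
  congr 1
  rw [smul_one_eq, one]
  exact (QuotientGroup.eq).2 (by simpa using (hH _).1 h.2)

/-- the polynomial `F` over the invariants. -/
noncomputable def FB : (B)[X] := (exists_map_eq (F G a) (fun g => smul_F g)).choose

lemma map_FB : (FB (G := G) a).map (B).subtype = F G a :=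
  (exists_map_eq (F G a) (fun g => smul_F g)).choose_spec

lemma monic_FB : (FB (G := G) a).Monic :=
  monic_of_injective (Subring.subtype_injective _) (by rw [map_FB]; exact monic_F)

/-- evaluation of polynomials over `B` at `a`, computed in `R`. -/
lemma coe_aeval (x : Cr) (p : (B)[X]) :
    ((aeval x p : Cr) : R) = (p.map (B).subtype).eval (x : R) := by
  rw [aeval_def, eval_map]
  exact hom_eval₂ p (algebraMap B Cr) (Cr).subtype x

/-- the standard étale pair. -/
noncomputable def pair : StandardEtalePair (B) where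
  f := FB (G := G) a
  monic_f := monic_FB a
  g := derivative (FB (G := G) a)
  cond := ⟨1, 0, 1, by simp⟩


/-- `a` as an element of `R^H`. -/
def aC : Cr := ⟨a, a_mem H a hH⟩

/-- `δ` as an element of `R^H`. -/
noncomputable def δC : Cr := ⟨δ (one : Q G R a), δ_mem H a hH⟩

lemma aeval_aC_FB : aeval (aC H a hH) (FB (G := G) a) = 0 := by
  apply Subtype.ext
  rw [coe_aeval, map_FB]
  have := eval_F (one : Q G R a)
  rw [rt_one] at this
  exact this

lemma aeval_aC_derivative :
    aeval (aC H a hH) (derivative (FB (G := G) a)) = δC H a hH := by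
  apply Subtype.ext
  rw [coe_aeval, ← derivative_map, map_FB]
  have := eval_derivative_F (one : Q G R a)
  rw [rt_one] at this
  exact this

/-- the generator of the localisation. -/
noncomputable def xS : Localization.Away (δC H a hH) :=
  algebraMap Cr (Localization.Away (δC H a hH)) (aC H a hH)

lemma aeval_xS (p : (B)[X]) :
    aeval (xS H a hH) p = algebraMap Cr (Localization.Away (δC H a hH)) (aeval (aC H a hH) p) := by
  rw [xS, aeval_algebraMap_apply]

lemma hasMap : (pair (G := G) a).HasMap (xS H a hH) := by
  refine ⟨?_, ?_⟩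
  · change aeval (xS H a hH) (FB (G := G) a) = 0
    rw [aeval_xS, aeval_aC_FB, map_zero]
  · change IsUnit (aeval (xS H a hH) (derivative (FB (G := G) a)))
    rw [aeval_xS, aeval_aC_derivative]
    exact IsLocalization.Away.algebraMap_isUnit _


lemma lift_injective :
    Function.Injective ((pair (G := G) a).lift (xS H a hH) (hasMap H a hH)) := by
  rw [injective_iff_map_eq_zero]
  intro z hz
  let Pres : StandardEtalePresentation (B) (pair (G := G) a).Ring :=
    ⟨pair (G := G) a, (pair (G := G) a).X, (pair (G := G) a).hasMap_X,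
      by simpa [StandardEtalePair.lift_X_left] using Function.bijective_id⟩
  obtain ⟨p, n, hp⟩ := Pres.exists_mul_aeval_x_g_pow_eq_aeval_x z
  change z * aeval (pair (G := G) a).X (derivative (FB (G := G) a)) ^ n =
    aeval (pair (G := G) a).X p at hp
  have h1 : aeval (xS H a hH) p = 0 := by
    have := congrArg ((pair (G := G) a).lift (xS H a hH) (hasMap H a hH)) hp
    rw [map_mul, hz, zero_mul, ← aeval_algHom_apply, StandardEtalePair.lift_X] at this
    exact this.symm
  rw [aeval_xS, IsLocalization.map_eq_zero_iff (Submonoid.powers (δC H a hH))] at h1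
  obtain ⟨⟨_, m, rfl⟩, hm⟩ := h1
  have h2 : δ (one : Q G R a) ^ m * (p.map (B).subtype).eval a = 0 := by
    have := congrArg Subtype.val hm
    simpa [coe_aeval, δC, aC] using this
  have h3 : F G a ∣ derivative (F G a) ^ (m + 1) * p.map (B).subtype :=
    dvd_of_forall_pow_mul_eval_eq_zero _ m
      (forall_of_one _ (smul_map_subtype p) m h2)
  have h4 : FB (G := G) a ∣ derivative (FB (G := G) a) ^ (m + 1) * p := by
    rw [← map_dvd_map _ (Subring.subtype_injective _) (monic_FB a), Polynomial.map_mul,
      Polynomial.map_pow, ← derivative_map, map_FB]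
    exact h3
  have h5 : aeval (pair (G := G) a).X (derivative (FB (G := G) a) ^ (m + 1) * p) = 0 := by
    obtain ⟨q, hq⟩ := h4
    rw [hq, map_mul]
    have : aeval (pair (G := G) a).X (FB (G := G) a) = 0 := (pair (G := G) a).hasMap_X.1
    rw [this, zero_mul]
  rw [map_mul, map_pow] at h5
  have hu : IsUnit (aeval (pair (G := G) a).X (derivative (FB (G := G) a))) :=
    (pair (G := G) a).hasMap_X.2
  have h6 : aeval (pair (G := G) a).X p = 0 := (hu.pow (m + 1)).mul_right_eq_zero.1 h5
  rw [h6] at hp
  exact (hu.pow n).mul_left_eq_zero.1 hp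


lemma lift_surjective :
    Function.Surjective ((pair (G := G) a).lift (xS H a hH) (hasMap H a hH)) := by
  intro y
  obtain ⟨⟨c, ⟨_, k, rfl⟩⟩, hy⟩ := IsLocalization.surj (Submonoid.powers (δC H a hH)) y
  have hc : ∀ g : G, g • a = a → g • (c : R) = c := fun g hg => c.2 ⟨g, (hH g).2 hg⟩
  obtain ⟨Pc, hPc⟩ := exists_map_eq (lag (c : R) hc) (smul_lag _ _)
  have h1 : aeval (aC H a hH) Pc = c * δC H a hH := by
    apply Subtype.ext
    rw [coe_aeval, hPc]
    exact eval_lag _ _
  have hu : IsUnit (aeval (pair (G := G) a).X (derivative (FB (G := G) a))) :=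
    (pair (G := G) a).hasMap_X.2
  set u := aeval (pair (G := G) a).X (derivative (FB (G := G) a)) with hu_def
  set L := (pair (G := G) a).lift (xS H a hH) (hasMap H a hH) with hL
  set D := algebraMap Cr (Localization.Away (δC H a hH)) (δC H a hH) with hD
  have hl : L u = D := by
    rw [hu_def, hL, ← aeval_algHom_apply, StandardEtalePair.lift_X, aeval_xS,
      aeval_aC_derivative]
  have hunit : IsUnit D := IsLocalization.Away.algebraMap_isUnit _
  refine ⟨aeval (pair (G := G) a).X Pc * (↑(hu.unit⁻¹) : (pair (G := G) a).Ring) ^ (k + 1), ?_⟩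
  apply (hunit.pow (k + 1)).mul_left_injective
  change L _ * D ^ (k + 1) = y * D ^ (k + 1)
  have h2 : L (aeval (pair (G := G) a).X Pc * (↑(hu.unit⁻¹) : (pair (G := G) a).Ring) ^ (k + 1))
      * D ^ (k + 1) = L (aeval (pair (G := G) a).X Pc) := by
    rw [← hl, ← map_pow, ← map_mul, mul_assoc, ← mul_pow, IsUnit.val_inv_mul, one_pow, mul_one]
  rw [h2, hL, ← aeval_algHom_apply, StandardEtalePair.lift_X, aeval_xS, h1, map_mul, pow_succ,
    ← mul_assoc, ← hD]
  congr 1
  rw [← hy, map_pow]

lemma lift_bijective :
    Function.Bijective ((pair (G := G) a).lift (xS H a hH) (hasMap H a hH)) :=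
  ⟨lift_injective H a hH, lift_surjective H a hH⟩

/-- `(R^H)[1/δ]` is a standard étale algebra over `R^G`. -/
theorem isStandardEtale :
    Algebra.IsStandardEtale (B) (Localization.Away (δC H a hH)) :=
  ⟨⟨⟨pair (G := G) a, xS H a hH, hasMap H a hH, lift_bijective H a hH⟩⟩⟩

end Groth.Agent.Lib.T2H7.InertiaStdB
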