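import Mathlib

/-!
# Flat local homomorphisms with `m_A S = m_S` and trivial residue extension

For such `A → S`, every `A → S / m_S ^ n` is surjective with kernel `m_A ^ n` (so the
completions agree).
-/

set_option autoImplicit false
set_option linter.unusedSectionVars false
set_option linter.unusedVariables false
set_option linter.style.haveILetI false

namespace Groth.Agent.Lib.T2H7.LocalFlatUnram

open IsLocalRing

variable {A S : Type*} [CommRing A] [CommRing S] [IsLocalRing A] [IsLocalRing S]
  [Algebra A S] [IsLocalHom (algebraMap A S)]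

theorem comap_pow [Module.Flat A S]
    (hm : (maximalIdeal A).map (algebraMap A S) = maximalIdeal S) (n : ℕ) :
    Ideal.comap (algebraMap A S) (maximalIdeal S ^ n) = maximalIdeal A ^ n := by
  haveI : Module.FaithfullyFlat A S := Module.FaithfullyFlat.of_flat_of_isLocalHom
  rw [← hm, ← Ideal.map_pow]
  exact Ideal.comap_map_eq_self_of_faithfullyFlat _

theorem exists_sub_mem_pow
    (hm : (maximalIdeal A).map (algebraMap A S) = maximalIdeal S)
    (hres : ∀ s : S, ∃ c : A, s - algebraMap A S c ∈ maximalIdeal S) (n : ℕ) (s : S) :
    ∃ c : A, s - algebraMap A S c ∈ maximalIdeal S ^ n := by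
  induction n generalizing s with
  | zero => exact ⟨0, by simp⟩
  | succ n ih =>
    -- elements of `m_S ^ n` are congruent to images modulo `m_S ^ (n + 1)`
    have key : ∀ t ∈ (maximalIdeal A ^ n).map (algebraMap A S),
        ∃ c : A, t - algebraMap A S c ∈ maximalIdeal S ^ (n + 1) := by
      intro t ht
      induction ht using Submodule.span_induction with
      | mem x hx =>
        obtain ⟨y, -, rfl⟩ := hx
        exact ⟨y, by simp⟩
      | zero => exact ⟨0, by simp⟩
      | add x y _ _ hx hy =>
        obtain ⟨c, hc⟩ := hx
        obtain ⟨d, hd⟩ := hy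
        refine ⟨c + d, ?_⟩
        have := Ideal.add_mem _ hc hd
        rw [map_add]
        convert this using 1
        ring
      | smul r x hx hx' =>
        obtain ⟨c, hc⟩ := hx'
        obtain ⟨d, hd⟩ := hres r
        refine ⟨d * c, ?_⟩
        have hxn : x ∈ maximalIdeal S ^ n := by
          rw [← hm, ← Ideal.map_pow]
          exact hx
        have h1 : (r - algebraMap A S d) * x ∈ maximalIdeal S ^ (n + 1) := by
          rw [pow_succ']
          exact Ideal.mul_mem_mul hd hxn
        have h2 : algebraMap A S d * (x - algebraMap A S c) ∈ maximalIdeal S ^ (n + 1) :=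
          Ideal.mul_mem_left _ _ hc
        have := Ideal.add_mem _ h1 h2
        rw [map_mul, smul_eq_mul]
        convert this using 1
        ring
    obtain ⟨c, hc⟩ := ih s
    rw [← hm, ← Ideal.map_pow] at hc
    obtain ⟨d, hd⟩ := key _ hc
    refine ⟨c + d, ?_⟩
    rw [map_add]
    convert hd using 1
    ring

theorem surjective_mk_comp
    (hm : (maximalIdeal A).map (algebraMap A S) = maximalIdeal S)
    (hres : ∀ s : S, ∃ c : A, s - algebraMap A S c ∈ maximalIdeal S) (n : ℕ) :
    Function.Surjective ((Ideal.Quotient.mk (maximalIdeal S ^ n)).comp (algebraMap A S)) := by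
  intro y
  obtain ⟨s, rfl⟩ := Ideal.Quotient.mk_surjective y
  obtain ⟨c, hc⟩ := exists_sub_mem_pow hm hres n s
  refine ⟨c, ?_⟩
  rw [RingHom.comp_apply]
  exact (Ideal.Quotient.eq.2 hc).symm

end Groth.Agent.Lib.T2H7.LocalFlatUnram
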