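import Groth.Prelude.Def_Pi1
import Groth.Agent.Lib.T2H7InertiaStdB
import Groth.Agent.Lib.T2H7DecompElt
import Groth.Agent.Lib.T2H7LocalFlatUnram

/-!
# Invariants of a subgroup containing the decomposition group: same completion

Let a finite group `G` act on `R`, `q` a prime of `R`, `H ≥ D(q)`.  Then `(R^G)_p → (R^H)_{q'}`
is flat, unramified with trivial residue field extension; hence it induces isomorphisms modulo all
powers of the maximal ideals.
-/

set_option autoImplicit false
set_option linter.unusedSectionVars false
set_option linter.unusedVariables false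
set_option linter.style.haveILetI false

universe u

namespace Groth.Agent.Lib.T2H7.DecompComplete

open Polynomial MulAction Groth.Agent.Lib.T2H7.InertiaStd
open scoped Pointwise

section generic

variable {A R' : Type*} [CommRing A] [CommRing R'] [Algebra A R'] (δ : R') (q' : Ideal R')
  [q'.IsPrime] (hδ : δ ∉ q') [Algebra.Etale A (Localization.Away δ)]

include hδ in
/-- the local ring at a prime of the étale locus is flat, unramified, essentially of finite type -/
theorem flat_unram_atPrime :
    Module.Flat A (Localization.AtPrime q') ∧
    Algebra.FormallyUnramified A (Localization.AtPrime q') ∧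
    Algebra.EssFiniteType A (Localization.AtPrime q') := by
  have hunit : IsUnit (algebraMap R' (Localization.AtPrime q') δ) :=
    IsLocalization.map_units (M := q'.primeCompl) _ ⟨δ, hδ⟩
  letI : Algebra (Localization.Away δ) (Localization.AtPrime q') :=
    (IsLocalization.Away.lift δ hunit).toAlgebra
  haveI : IsScalarTower R' (Localization.Away δ) (Localization.AtPrime q') :=
    IsScalarTower.of_algebraMap_eq (fun x => (IsLocalization.Away.lift_eq δ hunit x).symm)
  haveI : IsScalarTower A (Localization.Away δ) (Localization.AtPrime q') := by
    refine IsScalarTower.of_algebraMap_eq (fun x => ?_)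
    rw [IsScalarTower.algebraMap_apply A R' (Localization.AtPrime q'),
      IsScalarTower.algebraMap_apply A R' (Localization.Away δ),
      ← IsScalarTower.algebraMap_apply R' (Localization.Away δ) (Localization.AtPrime q')]
  have hle : Submonoid.powers δ ≤ q'.primeCompl := by
    rw [Submonoid.powers_le]
    exact hδ
  haveI : IsLocalization (q'.primeCompl.map (algebraMap R' (Localization.Away δ)))
      (Localization.AtPrime q') :=
    IsLocalization.isLocalization_of_submonoid_le (Localization.Away δ) (Localization.AtPrime q')
      (Submonoid.powers δ) q'.primeCompl hle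
  haveI : Module.Flat (Localization.Away δ) (Localization.AtPrime q') :=
    IsLocalization.flat _ (q'.primeCompl.map (algebraMap R' (Localization.Away δ)))
  haveI : Algebra.FormallyUnramified (Localization.Away δ) (Localization.AtPrime q') :=
    Algebra.FormallyUnramified.of_isLocalization
      (q'.primeCompl.map (algebraMap R' (Localization.Away δ)))
  haveI : Algebra.EssFiniteType (Localization.Away δ) (Localization.AtPrime q') :=
    Algebra.EssFiniteType.of_isLocalization _
      (q'.primeCompl.map (algebraMap R' (Localization.Away δ)))
  refine ⟨Module.Flat.trans A (Localization.Away δ) _, ?_, ?_⟩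
  · exact Algebra.FormallyUnramified.comp A (Localization.Away δ) _
  · exact Algebra.EssFiniteType.comp A (Localization.Away δ) _

end generic

variable {G R : Type u} [Group G] [Finite G] [CommRing R] [MulSemiringAction G R]

section trace

variable {a : R}

/-- the trace over the cosets of the stabilizer of `a`. -/
noncomputable def tr (c : R) (hc : ∀ g : G, g • a = a → g • c = c) : R :=
  ∑ τ : Q G R a, cj c hc τ

lemma smul_tr (c : R) (hc : ∀ g : G, g • a = a → g • c = c) (g : G) :
    g • tr c hc = tr c hc := by
  unfold tr
  rw [Finset.smul_sum]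
  simp only [← cj_smul]
  exact Fintype.sum_bijective _ (MulAction.bijective g) _ _ fun τ => rfl

lemma tr_sub_mem (q : Ideal R) (c : R) (hc : ∀ g : G, g • a = a → g • c = c)
    (h : ∀ g : G, g • a ≠ a → g • c ∈ q) : tr c hc - c ∈ q := by
  classical
  unfold tr
  rw [← Finset.add_sum_erase _ _ (Finset.mem_univ (one : Q G R a)), cj_one, add_sub_cancel_left]
  apply Ideal.sum_mem
  intro τ hτ
  obtain ⟨g, rfl⟩ := QuotientGroup.mk_surjective τ
  rw [cj_mk]
  apply h
  intro hg
  apply (Finset.mem_erase.1 hτ).1
  apply rt_injective
  rw [rt_mk, rt_one, hg]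

end trace

section main

local notation "AG" => FixedPoints.subring R G

theorem main (H : Subgroup G) (q : Ideal R) [q.IsPrime] (hD : MulAction.stabilizer G q ≤ H)
    (hle : FixedPoints.subring R G ≤ FixedPoints.subring R H) (n : ℕ) :
    let q' : Ideal (FixedPoints.subring R H) := Ideal.comap (FixedPoints.subring R H).subtype q
    let φ := Localization.localRingHom (Ideal.comap (Subring.inclusion hle) q') q'
      (Subring.inclusion hle) rfl
    Function.Surjective ((Ideal.Quotient.mk
        (IsLocalRing.maximalIdeal (Localization.AtPrime q') ^ n)).comp φ) ∧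
      Ideal.comap φ (IsLocalRing.maximalIdeal (Localization.AtPrime q') ^ n) =
        IsLocalRing.maximalIdeal
          (Localization.AtPrime (Ideal.comap (Subring.inclusion hle) q')) ^ n := by
  intro q' φ
  -- Step 1: the element `a`
  obtain ⟨a, ha1, ha2, ha3⟩ := DecompElt.exists_decomp_element q H hD
  have hH : ∀ g : G, g ∈ H ↔ g • a = a := fun g => ⟨ha1 g, fun hg => by
    by_contra hgH
    exact ha2 (hg ▸ ha3 g hgH)⟩
  have hq : ∀ g : G, g ∉ H → a - g • a ∉ q := fun g hg hmem => ha2 (by
    have := q.add_mem hmem (ha3 g hg)
    rwa [sub_add_cancel] at this)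
  -- Step 2: the standard étale neighbourhood
  have hδ : InertiaStdB.δC H a hH ∉ q' := by
    change δ (one : Q G R a) ∉ q
    unfold InertiaStd.δ
    rw [Ideal.IsPrime.prod_mem_iff]
    rintro ⟨τ, hτ, h⟩
    obtain ⟨g, rfl⟩ := QuotientGroup.mk_surjective τ
    rw [rt_one, rt_mk] at h
    refine hq g (fun hg => ?_) h
    apply (Finset.mem_erase.1 hτ).1
    apply rt_injective
    rw [rt_one, rt_mk]
    exact (hH g).1 hg
  haveI : Algebra.Etale AG (Localization.Away (InertiaStdB.δC H a hH)) := by
    have := InertiaStdB.isStandardEtale H a hH
    infer_instance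
  obtain ⟨hflat, hunr, hess⟩ :=
    flat_unram_atPrime (A := AG) (InertiaStdB.δC H a hH) q' hδ
  -- Step 4: the local homomorphism
  letI : Algebra (Localization.AtPrime (Ideal.comap (Subring.inclusion hle) q'))
      (Localization.AtPrime q') := φ.toAlgebra
  haveI : IsScalarTower AG (Localization.AtPrime (Ideal.comap (Subring.inclusion hle) q'))
      (Localization.AtPrime q') := by
    refine IsScalarTower.of_algebraMap_eq (fun x => ?_)
    change _ = φ _
    rw [Localization.localRingHom_to_map,
      IsScalarTower.algebraMap_apply AG (FixedPoints.subring R H) (Localization.AtPrime q')]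
    rfl
  haveI : IsLocalHom (algebraMap (Localization.AtPrime (Ideal.comap (Subring.inclusion hle) q'))
      (Localization.AtPrime q')) := Localization.isLocalHom_localRingHom _ _ _ _
  haveI : Module.Flat (Localization.AtPrime (Ideal.comap (Subring.inclusion hle) q'))
      (Localization.AtPrime q') :=
    (Module.flat_iff_of_isLocalization
      (Localization.AtPrime (Ideal.comap (Subring.inclusion hle) q'))
      (Ideal.comap (Subring.inclusion hle) q').primeCompl (Localization.AtPrime q')).2 hflat
  haveI : Algebra.FormallyUnramified
      (Localization.AtPrime (Ideal.comap (Subring.inclusion hle) q')) (Localization.AtPrime q') :=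
    Algebra.FormallyUnramified.of_restrictScalars AG _ _
  haveI : Algebra.EssFiniteType
      (Localization.AtPrime (Ideal.comap (Subring.inclusion hle) q')) (Localization.AtPrime q') :=
    Algebra.EssFiniteType.of_comp AG _ _
  have hm := Algebra.FormallyUnramified.map_maximalIdeal
    (R := Localization.AtPrime (Ideal.comap (Subring.inclusion hle) q'))
    (S := Localization.AtPrime q')
  -- Step 5: the residue fields agree
  have hcb : ∀ x : FixedPoints.subring R H, ∀ g : G, g • a = a → g • (a * x.1) = a * x.1 := by
    intro x g hg
    rw [smul_mul', hg]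
    congr 1
    exact x.2 ⟨g, (hH g).2 hg⟩
  let T : FixedPoints.subring R H → AG := fun x =>
    ⟨tr (a * x.1) (hcb x), fun g => smul_tr _ _ g⟩
  have hT : ∀ x : FixedPoints.subring R H, ((T x : AG) : R) - a * x.1 ∈ q := fun x =>
    tr_sub_mem q _ _ (fun g hg => by
      have hgH : g ∉ H := fun h => hg ((hH g).1 h)
      rw [smul_mul']
      exact q.mul_mem_right _ (ha3 g hgH))
  have hres : ∀ s : Localization.AtPrime q',
      ∃ c : Localization.AtPrime (Ideal.comap (Subring.inclusion hle) q'),
        s - algebraMap _ (Localization.AtPrime q') c ∈
          IsLocalRing.maximalIdeal (Localization.AtPrime q') := by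
    intro s
    obtain ⟨b, u, rfl⟩ := IsLocalization.exists_mk'_eq q'.primeCompl s
    have hu : (u : FixedPoints.subring R H).1 ∉ q := u.2
    have hTu : T u ∈ (Ideal.comap (Subring.inclusion hle) q').primeCompl := by
      intro hmem
      have h1 : ((T u : AG) : R) ∈ q := hmem
      have h2 := q.sub_mem h1 (hT u)
      rw [sub_sub_cancel] at h2
      rcases ‹q.IsPrime›.mem_or_mem h2 with h3 | h3
      · exact ha2 h3
      · exact hu h3
    refine ⟨IsLocalization.mk' _ (T b) ⟨T u, hTu⟩, ?_⟩
    change _ - φ _ ∈ _
    rw [Localization.localRingHom_mk']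
    set fTb : FixedPoints.subring R H := Subring.inclusion hle (T b) with hfTb
    set fTu : FixedPoints.subring R H := Subring.inclusion hle (T u) with hfTu
    have hfTu' : fTu ∈ q'.primeCompl := hTu
    -- the numerator
    have hnum : (b * fTu - fTb * u : FixedPoints.subring R H) ∈ q' := by
      change (b.1 * ((T u : AG) : R) - ((T b : AG) : R) * (u : FixedPoints.subring R H).1) ∈ q
      have h1 := q.mul_mem_left b.1 (hT u)
      have h2 := q.mul_mem_right (u : FixedPoints.subring R H).1 (hT b)
      have := q.sub_mem h1 h2
      convert this using 1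
      ring
    have hmem : algebraMap (FixedPoints.subring R H) (Localization.AtPrime q')
        (b * fTu - fTb * u) ∈ IsLocalRing.maximalIdeal (Localization.AtPrime q') :=
      (IsLocalization.AtPrime.to_map_mem_maximal_iff (Localization.AtPrime q') q' _ _).2 hnum
    have hv : algebraMap (FixedPoints.subring R H) (Localization.AtPrime q') (u * fTu) ∉
        IsLocalRing.maximalIdeal (Localization.AtPrime q') := by
      rw [IsLocalization.AtPrime.to_map_mem_maximal_iff (Localization.AtPrime q') q']
      exact (q'.primeCompl.mul_mem u.2 hfTu')
    have hcalc : (IsLocalization.mk' (Localization.AtPrime q') b u -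
        IsLocalization.mk' (Localization.AtPrime q') fTb ⟨fTu, hfTu'⟩) *
          algebraMap (FixedPoints.subring R H) (Localization.AtPrime q') (u * fTu) =
        algebraMap (FixedPoints.subring R H) (Localization.AtPrime q') (b * fTu - fTb * u) := by
      have e1 := IsLocalization.mk'_spec (Localization.AtPrime q') b u
      have e2 := IsLocalization.mk'_spec (Localization.AtPrime q') fTb ⟨fTu, hfTu'⟩
      simp only [map_mul, map_sub] at e1 e2 ⊢
      rw [← e1, ← e2]
      ring
    rw [← hcalc] at hmem
    exact ((IsLocalRing.maximalIdeal.isMaximal _).isPrime.mem_or_mem hmem).resolve_right hv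
  exact ⟨LocalFlatUnram.surjective_mk_comp hm hres n, LocalFlatUnram.comap_pow hm n⟩

end main

end Groth.Agent.Lib.T2H7.DecompComplete
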