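import Mathlib

/-!
# helper7: every scheme has a pairwise disjoint family of affine opens with dense union
-/

set_option autoImplicit false
set_option linter.unusedSectionVars false
set_option linter.unusedVariables false
set_option linter.style.haveILetI false
universe u
open CategoryTheory AlgebraicGeometry TopologicalSpace

namespace Groth.Agent.Lib.T2H7.DenseAffFam

/-- every scheme has a family of pairwise disjoint affine opens whose union is dense. -/
theorem exists_disjoint_affine_family (X : Scheme.{u}) :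
    ∃ F : Set X.Opens, (∀ V ∈ F, IsAffineOpen V) ∧ F.PairwiseDisjoint id ∧
      Dense ((sSup F : X.Opens) : Set X) := by
  classical
  let 𝒮 : Set (Set X.Opens) := {F | (∀ V ∈ F, IsAffineOpen V) ∧ F.PairwiseDisjoint id}
  obtain ⟨F, hFmax⟩ := zorn_subset 𝒮 (by
    intro c hc hchain
    refine ⟨⋃₀ c, ⟨?_, ?_⟩, fun s hs => Set.subset_sUnion_of_mem hs⟩
    · rintro V ⟨F, hF, hV⟩
      exact (hc hF).1 V hV
    · exact (Set.pairwiseDisjoint_sUnion hchain.directedOn).2 (fun F hF => (hc hF).2))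
  refine ⟨F, hFmax.prop.1, hFmax.prop.2, ?_⟩
  rw [dense_iff_inter_open]
  intro O hO hOne
  by_contra hcon
  rw [Set.not_nonempty_iff_eq_empty] at hcon
  obtain ⟨x, hx⟩ := hOne
  obtain ⟨A, hA, hxA, hAO⟩ :=
    exists_isAffineOpen_mem_and_subset (x := x) (U := (⟨O, hO⟩ : X.Opens)) hx
  have hAdisj : ∀ V ∈ F, Disjoint A V := by
    intro V hV
    rw [disjoint_iff, eq_bot_iff]
    rintro y ⟨hyA, hyV⟩
    have h1 : y ∈ O := hAO hyA
    have h2 : y ∈ ((sSup F : X.Opens) : Set X) := by
      rw [Opens.coe_sSup]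
      exact Set.mem_iUnion₂.2 ⟨V, hV, hyV⟩
    have h3 : y ∈ O ∩ ((sSup F : X.Opens) : Set X) := ⟨h1, h2⟩
    rw [hcon] at h3
    exact h3
  have hins : insert A F ∈ 𝒮 := by
    refine ⟨?_, ?_⟩
    · intro V hV
      rcases Set.mem_insert_iff.1 hV with rfl | hV
      · exact hA
      · exact hFmax.prop.1 V hV
    · exact hFmax.prop.2.insert (fun V hV _ => hAdisj V hV)
  have hsub : insert A F ⊆ F := hFmax.le_of_ge hins (Set.subset_insert _ _)
  have hAF : A ∈ F := hsub (Set.mem_insert _ _)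
  have h2 : x ∈ ((sSup F : X.Opens) : Set X) := by
    rw [Opens.coe_sSup]
    exact Set.mem_iUnion₂.2 ⟨A, hAF, hxA⟩
  have h3 : x ∈ O ∩ ((sSup F : X.Opens) : Set X) := ⟨hx, h2⟩
  rw [hcon] at h3
  exact h3

end Groth.Agent.Lib.T2H7.DenseAffFam
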