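import Mathlib
import Groth.Prelude.Def_Desc
import Groth.Agent.Lib.T2H7DescFppf
import Groth.Agent.Lib.T2H7DescAffB

/-!
# Effective descent for affine morphisms along fppf morphisms (helper7)

Descent data whose scheme is affine over the covering scheme are effective relative to any flat,
surjective morphism locally of finite presentation (no quasi-compactness needed).
-/

set_option autoImplicit false
set_option linter.unusedSectionVars false
set_option linter.unusedVariables false
set_option linter.style.haveILetI false

universe u

open CategoryTheory CategoryTheory.Limits AlgebraicGeometry Opposite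

namespace Groth.Agent.Lib.T2H7.DescAffFppf

theorem affine_fppf_effective {X S : Scheme.{u}} (p : X ⟶ S) [Flat p] [Surjective p]
    [LocallyOfFinitePresentation p] (D : Desc.SchDD p) [IsAffineHom D.obj.hom] :
    ∃ U : Over S, Nonempty ((Desc.toDD p).obj U ≅ D) := by
  refine Groth.Agent.Lib.T2H7.DescFppf.single_effective
    (@IsAffineHom : MorphismProperty Scheme.{u}) @Flat ?_ p
    (Scheme.fppfPrecoverage_le_fpqcPrecoverage _ p.singleton_mem_fppfPrecoverage)
    inferInstance D inferInstance
  intro X S p hX hS hfl hsu hQ D hD
  haveI := hX
  haveI := hS
  haveI := hfl
  haveI := hsu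
  haveI : IsAffineHom D.obj.hom := hD
  haveI : QuasiCompact p := inferInstance
  exact Groth.Agent.Lib.T2H7.DescAffB.effective_of_affine p D

end Groth.Agent.Lib.T2H7.DescAffFppf
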