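import Mathlib
import Groth.Prelude.Def_Desc
import Groth.Prelude.Def_DescFam
import Groth.Prelude.Def_MoreMor
import Groth.Agent.Lib.T2H7DescIQA

set_option autoImplicit false
set_option linter.style.haveILetI false
set_option linter.unusedSectionVars false
set_option backward.isDefEq.respectTransparency false
set_option backward.isDefEq.respectTransparency.types false
universe u
open CategoryTheory CategoryTheory.Limits AlgebraicGeometry Desc

namespace Groth.Agent.Lib.T2H7.DescFin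

open Groth.Agent.Lib.T2H7.DescQAff Groth.Agent.Lib.T2H7.DescGlueQ Groth.Agent.Lib.T2H7.DescRad
  Groth.Agent.Lib.T2H7.DescFppf Groth.Agent.Lib.T2H7.DescIQA

section Single

/-- descent data relative to a single fpqc covering morphism with ind-quasi-affine total space are
effective -/
theorem indQA_single_effective {X S : Scheme.{u}} (p : X ⟶ S)
    (hp : Presieve.singleton p ∈ Scheme.fpqcPrecoverage S) (D : SchDD p)
    (hD : MoreMor.IsIndQuasiAffineHom D.obj.hom) :
    ∃ U : Over S, Nonempty ((toDD p).obj U ≅ D) := by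
  have hflat : Flat p := ((Scheme.singleton_mem_precoverage_iff (P := @Flat) p).mp hp.2).2
  refine single_effective (indQA.{u}) @Flat ?_ p hp hflat D hD
  intro X S p hX hS hfl hsu _ D hD
  exact core p D hD

/-- morphisms from open subschemes of affine opens are ind-quasi-affine -/
theorem indQA_of_le_affine {V X : Scheme.{u}} (f : V ⟶ X) (N O : V.Opens) (hO : IsAffineOpen O)
    (hNO : N ≤ O) : MoreMor.IsIndQuasiAffineHom (N.ι ≫ f) := by
  rw [Groth.Agent.Lib.Helper2.isIndQuasiAffineHom_iff]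
  intro O' _ U _ hU
  have h2 : IsCompact ((N.ι ''ᵁ U : V.Opens) : Set V) := by
    simpa using hU.image N.ι.continuous
  have hle : N.ι ''ᵁ U ≤ O := (N.ι_image_le U).trans hNO
  haveI : IsAffine (O : Scheme.{u}) := hO
  haveI : CompactSpace ↥((N.ι ''ᵁ U : V.Opens) : Scheme.{u}) := isCompact_iff_compactSpace.mp h2
  haveI : Scheme.IsQuasiAffine ((N.ι ''ᵁ U : V.Opens) : Scheme.{u}) :=
    Scheme.IsQuasiAffine.of_isImmersion (V.homOfLE hle)
  exact Groth.Agent.Lib.Helper2.isQuasiAffine_of_iso (N.ι.isoImage U)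

end Single

section Trans

variable {X S : Scheme.{u}} {p : X ⟶ S} (D : SchDD p)

/-- transitivity of the orbit relation: composable arrows can be composed -/
theorem exists_comp (z z' : ↥(MM D))
    (h : (act D).base z = (pullback.fst (D.obj.hom ≫ p) p).base z') :
    ∃ z'' : ↥(MM D), (pullback.fst (D.obj.hom ≫ p) p).base z'' =
        (pullback.fst (D.obj.hom ≫ p) p).base z ∧ (act D).base z'' = (act D).base z' := by
  let m₁ := pullback.fst (D.obj.hom ≫ p) p
  let m₂ := pullback.snd (D.obj.hom ≫ p) p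
  obtain ⟨y, hy1, hy2⟩ := Scheme.Pullback.exists_preimage_pullback (f := act D) (g := m₁) z z' h
  let π₁ := pullback.fst (act D) m₁
  let π₂ := pullback.snd (act D) m₁
  have hπ : π₁ ≫ act D = π₂ ≫ m₁ := pullback.condition
  let y₀ := π₁ ≫ m₁ ≫ D.obj.hom
  let y₁ := π₁ ≫ m₂
  let y₂ := π₂ ≫ m₂
  have hm : m₁ ≫ D.obj.hom ≫ p = m₂ ≫ p := pullback.condition
  have h₀₁ : y₀ ≫ p = y₁ ≫ p := by
    simp only [y₀, y₁, Category.assoc]
    rw [hm]
  have h₁₂ : y₁ ≫ p = y₂ ≫ p := by
    calc (π₁ ≫ m₂) ≫ p = (π₁ ≫ act D ≫ D.obj.hom) ≫ p := by rw [act_hom D]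
      _ = (π₁ ≫ act D) ≫ D.obj.hom ≫ p := by simp only [Category.assoc]
      _ = (π₂ ≫ m₁) ≫ D.obj.hom ≫ p := by rw [hπ]
      _ = π₂ ≫ m₁ ≫ D.obj.hom ≫ p := by simp only [Category.assoc]
      _ = π₂ ≫ m₂ ≫ p := by rw [hm]
      _ = (π₂ ≫ m₂) ≫ p := by simp only [Category.assoc]
  have h₀₂ : y₀ ≫ p = y₂ ≫ p := h₀₁.trans h₁₂
  let vt : Lifts D.obj y₀ := ⟨π₁ ≫ m₁, by
    change (π₁ ≫ m₁) ≫ D.obj.hom = π₁ ≫ m₁ ≫ D.obj.hom
    rw [Category.assoc]⟩
  have a1 : (D.φ y₀ y₁ h₀₁ vt).1 = π₂ ≫ m₁ := by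
    rw [φ_eq_act, ← hπ]
    congr 1
    apply pullback.hom_ext
    · rw [pt_fst]
    · rw [pt_snd]
  have a2 : (D.φ y₁ y₂ h₁₂ (D.φ y₀ y₁ h₀₁ vt)).1 = π₂ ≫ act D := by
    rw [φ_eq_act]
    congr 1
    apply pullback.hom_ext
    · rw [pt_fst, a1]
    · rw [pt_snd]
  let κ : pullback (act D) m₁ ⟶ MM D := pt D y₂ h₀₂ vt
  have a3 : (D.φ y₀ y₂ h₀₂ vt).1 = κ ≫ act D := φ_eq_act D y₀ y₂ h₀₂ vt
  have e : κ ≫ act D = π₂ ≫ act D := by
    rw [← a3, ← a2, D.φ_comp]
  have e' : κ ≫ m₁ = π₁ ≫ m₁ := pt_fst D y₂ h₀₂ vt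
  refine ⟨κ.base y, ?_, ?_⟩
  · change m₁.base (κ.base y) = m₁.base z
    rw [← Scheme.Hom.comp_apply, e', Scheme.Hom.comp_apply]
    change m₁.base (π₁.base y) = _
    rw [hy1]
  · rw [← Scheme.Hom.comp_apply, e, Scheme.Hom.comp_apply]
    change (act D).base (π₂.base y) = _
    rw [hy2]

end Trans

section CoreOpen

variable {X S : Scheme.{u}} {p : X ⟶ S} (D : SchDD p)
  (hcl : IsClosedMap (pullback.fst (D.obj.hom ≫ p) p).base) (O : D.obj.left.Opens)

/-- the largest stable subset contained in an open subset; it is open when the projection is a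
closed map -/
def coreOpen : D.obj.left.Opens :=
  ⟨((pullback.fst (D.obj.hom ≫ p) p).base '' ((act D).base ⁻¹' (O : Set D.obj.left)ᶜ))ᶜ,
    (hcl _ ((O.2.isClosed_compl).preimage (act D).continuous)).isOpen_compl⟩

lemma mem_coreOpen_iff (v : D.obj.left) : v ∈ coreOpen D hcl O ↔
    ∀ z : ↥(MM D), (pullback.fst (D.obj.hom ≫ p) p).base z = v → (act D).base z ∈ O := by
  change v ∉ _ ↔ _
  constructor
  · intro h z hz
    by_contra hO
    exact h ⟨z, hO, hz⟩
  · rintro h ⟨z, hz1, hz2⟩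
    exact hz1 (h z hz2)

lemma coreOpen_le : coreOpen D hcl O ≤ O := by
  intro v hv
  have := (mem_coreOpen_iff D hcl O v).mp hv ((dg D).base v) (by
    rw [← Scheme.Hom.comp_apply, dg_fst]; rfl)
  rw [← Scheme.Hom.comp_apply, dg_act] at this
  exact this

lemma coreOpen_stable (z : ↥(MM D))
    (hz : (pullback.fst (D.obj.hom ≫ p) p).base z ∈ coreOpen D hcl O) :
    (act D).base z ∈ coreOpen D hcl O := by
  rw [mem_coreOpen_iff]
  intro z' hz'
  obtain ⟨z'', h1, h2⟩ := exists_comp D z z' hz'.symm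
  rw [← h2]
  exact (mem_coreOpen_iff D hcl O _).mp hz z'' h1

end CoreOpen

section Main

/-- statement of S7483: descent along finite locally free morphisms when orbits lie in affine
opens -/
theorem finLocFree_effective {X Y : Scheme.{u}} (p : X ⟶ Y) [Surjective p] [IsFinite p] [Flat p]
    (D : Desc.SchDD p)
    (hV : ∀ (y : Y) (s : Finset ↑(D.obj.left)), (∀ v ∈ s, p (D.obj.hom v) = y) →
      ∃ U : D.obj.left.Opens, IsAffineOpen U ∧ ∀ v ∈ s, v ∈ U) :
    ∃ W : Over Y, Nonempty ((Desc.toDD p).obj W ≅ D) := by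
  have hp : Presieve.singleton p ∈ Scheme.fpqcPrecoverage Y :=
    Scheme.Hom.singleton_mem_fpqcPrecoverage p
  haveI : Good p := Groth.Agent.Lib.T2H7.DescGood.good_of_fpqc p hp
  let m₁ := pullback.fst (D.obj.hom ≫ p) p
  let m₂ := pullback.snd (D.obj.hom ≫ p) p
  haveI : IsFinite m₁ := inferInstance
  have hcl : IsClosedMap m₁.base := m₁.isClosedMap
  apply effective_of_cover p D
  intro v
  -- the orbit of `v`
  have hfin : ((act D).base '' (m₁.base ⁻¹' {v})).Finite :=
    (m₁.finite_preimage_singleton v).image _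
  obtain ⟨O, hO, hsO⟩ := hV (p (D.obj.hom v)) hfin.toFinset (by
    intro w hw
    rw [Set.Finite.mem_toFinset] at hw
    obtain ⟨z, hz, rfl⟩ := hw
    have hz' : m₁.base z = v := hz
    have e1 : (act D ≫ D.obj.hom ≫ p).base z = (m₁ ≫ D.obj.hom ≫ p).base z := by
      have : act D ≫ D.obj.hom ≫ p = m₁ ≫ D.obj.hom ≫ p := by
        rw [← Category.assoc, act_hom]; exact pullback.condition.symm
      rw [this]
    calc p.base (D.obj.hom.base ((act D).base z)) = (act D ≫ D.obj.hom ≫ p).base z := by simp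
      _ = (m₁ ≫ D.obj.hom ≫ p).base z := e1
      _ = p.base (D.obj.hom.base (m₁.base z)) := by simp
      _ = p.base (D.obj.hom.base v) := by rw [hz'])
  let N := coreOpen D hcl O
  have hvN : v ∈ N := by
    rw [mem_coreOpen_iff]
    intro z hz
    apply hsO
    rw [Set.Finite.mem_toFinset]
    exact ⟨z, hz, rfl⟩
  have hstab := stable_of_act D N (coreOpen_stable D hcl O)
  let D' := restrOpen D N hstab
  have hIQA : MoreMor.IsIndQuasiAffineHom D'.obj.hom :=
    indQA_of_le_affine D.obj.hom N O hO (coreOpen_le D hcl O)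
  obtain ⟨U, ⟨e⟩⟩ := indQA_single_effective p hp D' hIQA
  let a : (toDD p).obj U ⟶ D := e.hom ≫ jOpen D N hstab
  have ha : a.hom.left = e.hom.hom.left ≫ N.ι := rfl
  haveI : IsIso e.hom.hom.left := isIso_left_of_iso p e
  haveI : IsOpenImmersion a.hom.left := by rw [ha]; infer_instance
  refine ⟨⟨N, U, a, inferInstance, ?_⟩, hvN⟩
  apply TopologicalSpace.Opens.ext
  change Set.range a.hom.left.base = _
  rw [ha, Scheme.Hom.comp_base, TopCat.coe_comp, Set.range_comp,
    Set.range_eq_univ.mpr e.hom.hom.left.surjective, Set.image_univ]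
  exact Scheme.Opens.range_ι N

end Main

end Groth.Agent.Lib.T2H7.DescFin
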