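import Mathlib
import Groth.Prelude.Def_Desc
import Groth.Prelude.Def_DescFam
import Groth.Prelude.Def_MoreMor
import Groth.Agent.Lib.T2H7DescFin
import Groth.Agent.Lib.Helper20ResMap

set_option autoImplicit false
set_option linter.style.haveILetI false
set_option linter.unusedSectionVars false
set_option backward.isDefEq.respectTransparency false
set_option backward.isDefEq.respectTransparency.types false
universe u
open CategoryTheory CategoryTheory.Limits AlgebraicGeometry Desc

namespace Groth.Agent.Lib.T2H7.DescFinB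

open Groth.Agent.Lib.T2H7.DescQAff Groth.Agent.Lib.T2H7.DescGlueQ Groth.Agent.Lib.T2H7.DescRad
  Groth.Agent.Lib.T2H7.DescFppf Groth.Agent.Lib.T2H7.DescIQA Groth.Agent.Lib.T2H7.DescFin
  Groth.Agent.Lib.Helper20.ResFld

section Orbit

/-- descent along finite flat surjective morphisms when every orbit lies in an affine open -/
theorem finLocFree_effective' {X Y : Scheme.{u}} (p : X ⟶ Y) [Surjective p] [IsFinite p] [Flat p]
    (D : Desc.SchDD p)
    (hO : ∀ v : D.obj.left, ∃ O : D.obj.left.Opens, IsAffineOpen O ∧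
      (act D).base '' ((pullback.fst (D.obj.hom ≫ p) p).base ⁻¹' {v}) ⊆ O) :
    ∃ W : Over Y, Nonempty ((Desc.toDD p).obj W ≅ D) := by
  have hp : Presieve.singleton p ∈ Scheme.fpqcPrecoverage Y :=
    Scheme.Hom.singleton_mem_fpqcPrecoverage p
  haveI : Good p := Groth.Agent.Lib.T2H7.DescGood.good_of_fpqc p hp
  let m₁ := pullback.fst (D.obj.hom ≫ p) p
  haveI : IsFinite m₁ := inferInstance
  have hcl : IsClosedMap m₁.base := m₁.isClosedMap
  apply effective_of_cover p D
  intro v
  obtain ⟨O, hO, hsO⟩ := hO v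
  let N := coreOpen D hcl O
  have hvN : v ∈ N := by
    rw [mem_coreOpen_iff]
    intro z hz
    exact hsO ⟨z, hz, rfl⟩
  have hstab := stable_of_act D N (coreOpen_stable D hcl O)
  let D' := restrOpen D N hstab
  have hIQA : MoreMor.IsIndQuasiAffineHom D'.obj.hom :=
    indQA_of_le_affine D.obj.hom N O hO (coreOpen_le D hcl O)
  obtain ⟨U, ⟨e⟩⟩ := indQA_single_effective p hp D' hIQA
  let a : (toDD p).obj U ⟶ D := e.hom ≫ jOpen D N hstab
  have ha : a.hom.left = e.hom.hom.left ≫ N.ι := rfl
  haveI : IsIso e.hom.hom.left := isIso_left_of_iso p e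
  haveI : IsOpenImmersion a.hom.left := by rw [ha]; infer_instance
  refine ⟨⟨N, U, a, inferInstance, ?_⟩, hvN⟩
  apply TopologicalSpace.Opens.ext
  change Set.range a.hom.left.base = _
  rw [ha, Scheme.Hom.comp_base, TopCat.coe_comp, Set.range_comp,
    Set.range_eq_univ.mpr e.hom.hom.left.surjective, Set.image_univ]
  exact Scheme.Opens.range_ι N

end Orbit

section Geom

lemma fromSpecResidueField_comp {M V : Scheme.{u}} (m : M ⟶ V) {z : M} {v : V} (hz : m.base z = v) :
    M.fromSpecResidueField z ≫ m = Spec.map (resMap m hz) ≫ V.fromSpecResidueField v := by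
  subst hz
  rw [resMap_rfl, Scheme.Hom.SpecMap_residueFieldMap_fromSpecResidueField]

/-- a geometric point over a point of a fibre of a finite morphism -/
theorem exists_geomPoint {M V : Scheme.{u}} (m : M ⟶ V) [IsFinite m] (v : V) (z : M)
    (hz : m.base z = v) :
    ∃ zb : Spec (CommRingCat.of (AlgebraicClosure (V.residueField v))) ⟶ M,
      zb ≫ m = Spec.map (CommRingCat.ofHom
        (algebraMap (V.residueField v) (AlgebraicClosure (V.residueField v)))) ≫
          V.fromSpecResidueField v ∧ ∀ s, zb.base s = z := by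
  have hfin : (resMap m hz).hom.Finite :=
    finite_resMap_of_quasiFiniteAt m hz (m.quasiFiniteAt z)
  letI : Algebra (V.residueField v) (M.residueField z) := (resMap m hz).hom.toAlgebra
  haveI : Module.Finite (V.residueField v) (M.residueField z) := hfin
  haveI : Algebra.IsAlgebraic (V.residueField v) (M.residueField z) :=
    Algebra.IsAlgebraic.of_finite _ _
  let σ : M.residueField z →ₐ[V.residueField v] AlgebraicClosure (V.residueField v) :=
    IsAlgClosed.lift
  refine ⟨Spec.map (CommRingCat.ofHom σ.toRingHom) ≫ M.fromSpecResidueField z, ?_, ?_⟩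
  · rw [Category.assoc, fromSpecResidueField_comp m hz, ← Category.assoc, ← Spec.map_comp]
    congr 2
    ext a
    exact σ.commutes a
  · intro s
    rw [Scheme.Hom.comp_apply]
    exact Scheme.fromSpecResidueField_apply z _

end Geom

section Bound

variable {X Y : Scheme.{u}} (p : X ⟶ Y) [IsFinite p]

/-- the fibres of the projection `V ×_Y X ⟶ V` are bounded by the number of geometric points of the
fibres of `p` -/
theorem encard_fibre_le (d : ℕ)
    (hfib : ∀ (k : Type u) [Field k] [IsAlgClosed k] (y : Spec (CommRingCat.of k) ⟶ Y),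
      Set.encard {x : Spec (CommRingCat.of k) ⟶ X | x ≫ p = y} ≤ d)
    (D : Desc.SchDD p) (v : D.obj.left) :
    Set.encard ((pullback.fst (D.obj.hom ≫ p) p).base ⁻¹' {v}) ≤ d := by
  let m₁ := pullback.fst (D.obj.hom ≫ p) p
  let m₂ := pullback.snd (D.obj.hom ≫ p) p
  haveI : IsFinite m₁ := inferInstance
  let k := AlgebraicClosure (D.obj.left.residueField v)
  let vb : Spec (CommRingCat.of k) ⟶ D.obj.left :=
    Spec.map (CommRingCat.ofHom (algebraMap (D.obj.left.residueField v) k)) ≫
      D.obj.left.fromSpecResidueField v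
  let y : Spec (CommRingCat.of k) ⟶ Y := vb ≫ D.obj.hom ≫ p
  have key : ∀ z : ↥(m₁.base ⁻¹' {v}), ∃ zb : Spec (CommRingCat.of k) ⟶ MM D,
      zb ≫ m₁ = vb ∧ ∀ s, zb.base s = z.1 := fun z => exists_geomPoint m₁ v z.1 z.2
  choose zb hzb1 hzb2 using key
  let F : ↥(m₁.base ⁻¹' {v}) → ↥{x : Spec (CommRingCat.of k) ⟶ X | x ≫ p = y} := fun z =>
    ⟨zb z ≫ m₂, by
      change (zb z ≫ m₂) ≫ p = vb ≫ D.obj.hom ≫ p
      rw [Category.assoc, ← pullback.condition, ← Category.assoc, hzb1]⟩
  have hF : Function.Injective F := by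
    intro z z' h
    have h2 : zb z ≫ m₂ = zb z' ≫ m₂ := congrArg Subtype.val h
    have h3 : zb z = zb z' := by
      apply pullback.hom_ext
      · exact (hzb1 z).trans (hzb1 z').symm
      · exact h2
    apply Subtype.ext
    have s₀ : ↥(Spec (CommRingCat.of k)) := IsLocalRing.closedPoint k
    rw [← hzb2 z s₀, ← hzb2 z' s₀, h3]
  exact (Function.Embedding.encard_le ⟨F, hF⟩).trans (hfib k y)

/-- enumeration of a nonempty finite set of bounded cardinality -/
lemma exists_enum {α : Type*} (s : Set α) (d : ℕ) (hs : s.encard ≤ d) (a₀ : α) (ha₀ : a₀ ∈ s) :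
    ∃ w : Fin d → α, Set.range w = s := by
  have hfin : s.Finite := Set.finite_of_encard_le_coe hs
  haveI := hfin.fintype
  let n := Fintype.card s
  have hn : n ≤ d := by
    have h1 : s.encard = n := by
      rw [Set.encard_eq_coe_toFinset_card, Set.toFinset_card]
    rw [h1] at hs
    exact_mod_cast hs
  let e : s ≃ Fin n := Fintype.equivFin s
  refine ⟨fun i => if h : i.1 < n then (e.symm ⟨i.1, h⟩ : α) else a₀, ?_⟩
  ext x
  constructor
  · rintro ⟨i, rfl⟩
    dsimp only
    split_ifs with h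
    · exact (e.symm ⟨i.1, h⟩).2
    · exact ha₀
  · intro hx
    refine ⟨⟨(e ⟨x, hx⟩).1, lt_of_lt_of_le (e ⟨x, hx⟩).2 hn⟩, ?_⟩
    dsimp only
    rw [dif_pos (e ⟨x, hx⟩).2]
    simp

end Bound

section Main

/-- statement of S7484 -/
theorem finLocFree_bounded_effective {X Y : Scheme.{u}} (p : X ⟶ Y) [Surjective p] [IsFinite p]
    [Flat p] (d : ℕ)
    (hfib : ∀ (k : Type u) [Field k] [IsAlgClosed k] (y : Spec (CommRingCat.of k) ⟶ Y),
      Set.encard {x : Spec (CommRingCat.of k) ⟶ X | x ≫ p = y} ≤ d)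
    (D : Desc.SchDD p)
    (hV : ∀ (y : Y) (v : Fin d → ↑(D.obj.left)), (∀ i, p (D.obj.hom (v i)) = y) →
      ∃ U : D.obj.left.Opens, IsAffineOpen U ∧ ∀ i, v i ∈ U) :
    ∃ W : Over Y, Nonempty ((Desc.toDD p).obj W ≅ D) := by
  apply finLocFree_effective' p D
  intro v
  let m₁ := pullback.fst (D.obj.hom ≫ p) p
  have hcard : ((act D).base '' (m₁.base ⁻¹' {v})).encard ≤ d :=
    (Set.encard_image_le _ _).trans (encard_fibre_le p d hfib D v)
  have hv : v ∈ (act D).base '' (m₁.base ⁻¹' {v}) := by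
    refine ⟨(dg D).base v, ?_, ?_⟩
    · change m₁.base ((dg D).base v) = v
      rw [← Scheme.Hom.comp_apply, dg_fst]; rfl
    · rw [← Scheme.Hom.comp_apply, dg_act]; rfl
  obtain ⟨w, hw⟩ := exists_enum _ d hcard v hv
  obtain ⟨U, hU, hwU⟩ := hV (p (D.obj.hom v)) w (by
    intro i
    have hi : w i ∈ (act D).base '' (m₁.base ⁻¹' {v}) := by rw [← hw]; exact ⟨i, rfl⟩
    obtain ⟨z, hz, hzi⟩ := hi
    have hz' : m₁.base z = v := hz
    rw [← hzi]
    have e1 : (act D ≫ D.obj.hom ≫ p).base z = (m₁ ≫ D.obj.hom ≫ p).base z := by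
      have : act D ≫ D.obj.hom ≫ p = m₁ ≫ D.obj.hom ≫ p := by
        rw [← Category.assoc, act_hom]; exact pullback.condition.symm
      rw [this]
    calc p.base (D.obj.hom.base ((act D).base z)) = (act D ≫ D.obj.hom ≫ p).base z := by simp
      _ = (m₁ ≫ D.obj.hom ≫ p).base z := e1
      _ = p.base (D.obj.hom.base (m₁.base z)) := by simp
      _ = p.base (D.obj.hom.base v) := by rw [hz'])
  refine ⟨U, hU, ?_⟩
  rw [← hw]
  rintro _ ⟨i, rfl⟩
  exact hwU i

end Main

end Groth.Agent.Lib.T2H7.DescFinB
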