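import Groth.Prelude.Def_ActBC
import Groth.Agent.Lib.T2H7GrpLimC
import Groth.Agent.Lib.T2H7GrpLimB
import Groth.Agent.Lib.T2H3FGSubR
import Groth.Prelude.Def_Red2

/-!
Group isomorphism classes under base change (`Nonempty (Grp.mk X ≅ Grp.mk Y)`): functoriality,
compatibility with iterated base change, descent from a cofiltered limit to a stage.
-/

set_option autoImplicit false
set_option linter.unusedSectionVars false
set_option linter.unusedVariables false
set_option linter.style.haveILetI false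
universe u
open CategoryTheory CategoryTheory.Limits MonoidalCategory CartesianMonoidalCategory MonObj GrpObj
  AlgebraicGeometry

namespace Groth.Agent.Lib.T2H7.GrpIsoBC

section General

variable {C : Type*} [Category C] [CartesianMonoidalCategory C]

theorem nonempty_grpIso_iff (X Y : C) [GrpObj X] [GrpObj Y] :
    Nonempty (Grp.mk X ≅ Grp.mk Y) ↔ ∃ e : X ≅ Y, IsMonHom e.hom := by
  constructor
  · rintro ⟨E⟩
    exact ⟨(Grp.forget C).mapIso E, by
      show IsMonHom E.hom.hom.hom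
      infer_instance⟩
  · rintro ⟨e, he⟩
    exact ⟨Grp.mkIso' e⟩

end General

variable {S S' S'' : Scheme.{u}}

theorem grpIso_bc (p : S' ⟶ S) {X Y : Over S} [GrpObj X] [GrpObj Y]
    (h : Nonempty (Grp.mk X ≅ Grp.mk Y)) :
    Nonempty (Grp.mk (Red.bc p X) ≅ Grp.mk (Red.bc p Y)) := by
  obtain ⟨e, he⟩ := (nonempty_grpIso_iff X Y).1 h
  refine (nonempty_grpIso_iff _ _).2 ⟨(Over.pullback p).mapIso e, ?_⟩
  show IsMonHom ((Over.pullback p).map e.hom)
  infer_instance

theorem grpIso_bcComp_iff (p : S'' ⟶ S') (q : S' ⟶ S) {d : S'' ⟶ S} (hd : p ≫ q = d)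
    {G G' : Over S} [GrpObj G] [GrpObj G'] :
    Nonempty (Grp.mk (Red.bc p (Red.bc q G)) ≅ Grp.mk (Red.bc p (Red.bc q G'))) ↔
      Nonempty (Grp.mk (Red.bc d G) ≅ Grp.mk (Red.bc d G')) := by
  rw [nonempty_grpIso_iff, nonempty_grpIso_iff]
  constructor
  · rintro ⟨e, he⟩
    refine ⟨(ActBC.bcCompIso p q G hd).symm ≪≫ e ≪≫ ActBC.bcCompIso p q G' hd, ?_⟩
    show IsMonHom ((ActBC.bcCompIso p q G hd).inv ≫ e.hom ≫ (ActBC.bcCompIso p q G' hd).hom)
    infer_instance
  · rintro ⟨e, he⟩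
    refine ⟨ActBC.bcCompIso p q G hd ≪≫ e ≪≫ (ActBC.bcCompIso p q G' hd).symm, ?_⟩
    show IsMonHom ((ActBC.bcCompIso p q G hd).hom ≫ e.hom ≫ (ActBC.bcCompIso p q G' hd).inv)
    infer_instance

/-- Transport along a further base change: iso over `S'` after `q` gives iso after `d = p ≫ q`. -/
theorem grpIso_bc_of_comp (p : S'' ⟶ S') (q : S' ⟶ S) {d : S'' ⟶ S} (hd : p ≫ q = d)
    {G G' : Over S} [GrpObj G] [GrpObj G']
    (h : Nonempty (Grp.mk (Red.bc q G) ≅ Grp.mk (Red.bc q G'))) :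
    Nonempty (Grp.mk (Red.bc d G) ≅ Grp.mk (Red.bc d G')) :=
  (grpIso_bcComp_iff p q hd).1 (grpIso_bc p h)

section Lim

open Groth.Agent.Lib.T2H7.GrpLimA Groth.Agent.Lib.T2H7.GrpLimB Groth.Agent.Lib.T2H7.GrpLimC

variable {I : Type u} [SmallCategory I] [IsCofiltered I] (D : I ⥤ Scheme.{u}) (c : Cone D)
  (hc : IsLimit c) [∀ (i i' : I) (f : i ⟶ i'), IsAffineHom (D.map f)]
  [∀ i, CompactSpace (D.obj i)] [∀ i, QuasiSeparatedSpace (D.obj i)]

include hc in
/-- Two finitely presented group schemes over a stage which become isomorphic over the limit are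
isomorphic over some further stage. -/
theorem grpIso_descends (j : I) (Gj Hj : Over (D.obj j)) [GrpObj Gj] [GrpObj Hj]
    [LocallyOfFinitePresentation Gj.hom] [QuasiCompact Gj.hom] [QuasiSeparated Gj.hom]
    [LocallyOfFinitePresentation Hj.hom] [QuasiCompact Hj.hom] [QuasiSeparated Hj.hom]
    (h : Nonempty (Grp.mk (Red.bc (c.π.app j) Gj) ≅ Grp.mk (Red.bc (c.π.app j) Hj))) :
    ∃ (k : I) (g : k ⟶ j), Nonempty (Grp.mk (Red.bc (D.map g) Gj) ≅ Grp.mk (Red.bc (D.map g) Hj)) := by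
  obtain ⟨e, he⟩ := (nonempty_grpIso_iff _ _).1 h
  obtain ⟨i, f, ui, hui, hbc⟩ := (grpHom_descends D c hc j Gj Hj).1 e.hom he
  have hiso : IsIso ((Over.pullback (c.π.app i)).map ui) := by
    rw [hbc]
    infer_instance
  haveI : QuasiCompact (Red.bc (D.map f) Gj).hom := quasiCompact_bc _ _
  haveI : QuasiCompact (Red.bc (D.map f) Hj).hom := quasiCompact_bc _ _
  haveI : QuasiSeparated (Red.bc (D.map f) Gj).hom := quasiSeparated_bc _ _
  haveI : QuasiSeparated (Red.bc (D.map f) Hj).hom := quasiSeparated_bc _ _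
  haveI : LocallyOfFinitePresentation (Red.bc (D.map f) Gj).hom :=
    locallyOfFinitePresentation_bc _ _
  haveI : LocallyOfFinitePresentation (Red.bc (D.map f) Hj).hom :=
    locallyOfFinitePresentation_bc _ _
  obtain ⟨k, g, hk⟩ := (isIso_iff D c hc i _ _ ui).1 hiso
  refine ⟨k, g ≫ f, ?_⟩
  refine (grpIso_bcComp_iff (D.map g) (D.map f) (D.map_comp g f).symm).1 ?_
  refine (nonempty_grpIso_iff _ _).2 ⟨asIso ((Over.pullback (D.map g)).map ui), ?_⟩
  show IsMonHom ((Over.pullback (D.map g)).map ui)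
  infer_instance

end Lim

section Null

/-- Weak Nullstellensatz: a nontrivial finitely generated algebra over an algebraically closed
field has a rational point. -/
theorem exists_algHom_of_finiteType (k A : Type*) [Field k] [IsAlgClosed k] [CommRing A]
    [Algebra k A] [Algebra.FiniteType k A] [Nontrivial A] : Nonempty (A →ₐ[k] k) := by
  obtain ⟨m, hm⟩ := Ideal.exists_maximal A
  letI := Ideal.Quotient.field m
  haveI : Algebra.FiniteType k (A ⧸ m) :=
    Algebra.FiniteType.of_surjective (Ideal.Quotient.mkₐ k m) (Ideal.Quotient.mkₐ_surjective k m)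
  haveI := finite_of_finite_type_of_isJacobsonRing k (A ⧸ m)
  haveI : Algebra.IsIntegral k (A ⧸ m) := Algebra.IsIntegral.of_finite k (A ⧸ m)
  have hb := IsAlgClosed.algebraMap_bijective_of_isIntegral (k := k) (K := A ⧸ m)
  let e : k ≃ₐ[k] (A ⧸ m) := AlgEquiv.ofBijective (Algebra.ofId k (A ⧸ m)) hb
  exact ⟨(e.symm : (A ⧸ m) →ₐ[k] k).comp (Ideal.Quotient.mkₐ k m)⟩

end Null

section GeomFibre

open Groth.Agent.Lib.T2H3.FGSubR Groth.Agent.Lib.T2H7.GrpLimB Groth.Agent.Lib.T2H7.GrpLimC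

/-- Over an algebraically closed field `Ω`, two finitely presented group schemes (given as base
changes along `q : Spec Ω ⟶ S`) which become isomorphic after base change to an extension `Ω'`
are isomorphic. -/
theorem grpIso_of_bc_field (Ω Ω' : Type u) [Field Ω] [IsAlgClosed Ω] [Field Ω'] [Algebra Ω Ω']
    {S : Scheme.{u}} (q : Spec (CommRingCat.of Ω) ⟶ S)
    (G G' : Over S) [GrpObj G] [GrpObj G']
    [LocallyOfFinitePresentation G.hom] [QuasiCompact G.hom] [QuasiSeparated G.hom]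
    [LocallyOfFinitePresentation G'.hom] [QuasiCompact G'.hom] [QuasiSeparated G'.hom]
    (h : Nonempty (Grp.mk (Red.bc (Spec.map (CommRingCat.ofHom (algebraMap Ω Ω'))) (Red.bc q G)) ≅
      Grp.mk (Red.bc (Spec.map (CommRingCat.ofHom (algebraMap Ω Ω'))) (Red.bc q G')))) :
    Nonempty (Grp.mk (Red.bc q G) ≅ Grp.mk (Red.bc q G')) := by
  let i₀ : (FGSub Ω Ω')ᵒᵖ := Opposite.op ⟨⊥, Subalgebra.fg_bot⟩
  have h3 : Nonempty (Grp.mk (Red.bc ((specCone Ω Ω').π.app i₀)
        (Red.bc (toBase Ω Ω' i₀.unop) (Red.bc q G))) ≅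
      Grp.mk (Red.bc ((specCone Ω Ω').π.app i₀) (Red.bc (toBase Ω Ω' i₀.unop) (Red.bc q G')))) :=
    (grpIso_bcComp_iff _ _ (π_toBase Ω Ω' i₀.unop)).2 h
  haveI : ∀ i, CompactSpace ((specDiagram Ω Ω').obj i) := fun i => inferInstance
  haveI : ∀ i, QuasiSeparatedSpace ((specDiagram Ω Ω').obj i) := fun i => inferInstance
  haveI : QuasiCompact (Red.bc q G).hom := quasiCompact_bc _ _
  haveI : QuasiCompact (Red.bc q G').hom := quasiCompact_bc _ _
  haveI : QuasiSeparated (Red.bc q G).hom := quasiSeparated_bc _ _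
  haveI : QuasiSeparated (Red.bc q G').hom := quasiSeparated_bc _ _
  haveI : LocallyOfFinitePresentation (Red.bc q G).hom := locallyOfFinitePresentation_bc _ _
  haveI : LocallyOfFinitePresentation (Red.bc q G').hom := locallyOfFinitePresentation_bc _ _
  haveI : QuasiCompact (Red.bc (toBase Ω Ω' i₀.unop) (Red.bc q G)).hom := quasiCompact_bc _ _
  haveI : QuasiCompact (Red.bc (toBase Ω Ω' i₀.unop) (Red.bc q G')).hom := quasiCompact_bc _ _
  haveI : QuasiSeparated (Red.bc (toBase Ω Ω' i₀.unop) (Red.bc q G)).hom := quasiSeparated_bc _ _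
  haveI : QuasiSeparated (Red.bc (toBase Ω Ω' i₀.unop) (Red.bc q G')).hom :=
    quasiSeparated_bc _ _
  haveI : LocallyOfFinitePresentation (Red.bc (toBase Ω Ω' i₀.unop) (Red.bc q G)).hom :=
    locallyOfFinitePresentation_bc _ _
  haveI : LocallyOfFinitePresentation (Red.bc (toBase Ω Ω' i₀.unop) (Red.bc q G')).hom :=
    locallyOfFinitePresentation_bc _ _
  obtain ⟨k, g, h4⟩ := grpIso_descends (specDiagram Ω Ω') (specCone Ω Ω') (specIsLimit Ω Ω') i₀
    (Red.bc (toBase Ω Ω' i₀.unop) (Red.bc q G)) (Red.bc (toBase Ω Ω' i₀.unop) (Red.bc q G')) h3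
  haveI : Algebra.FiniteType Ω k.unop.1 := (Subalgebra.fg_iff_finiteType _).1 k.unop.2
  obtain ⟨φ⟩ := exists_algHom_of_finiteType Ω k.unop.1
  let σ : Spec (CommRingCat.of Ω) ⟶ (specDiagram Ω Ω').obj k :=
    Spec.map (CommRingCat.ofHom φ.toRingHom)
  have hσ : σ ≫ toBase Ω Ω' k.unop = 𝟙 _ := by
    show Spec.map _ ≫ Spec.map _ = _
    rw [← Spec.map_comp, ← Spec.map_id]
    congr 1
    ext x
    exact φ.commutes x
  have h5 := grpIso_bc_of_comp σ ((specDiagram Ω Ω').map g) rfl h4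
  have h6 := (grpIso_bcComp_iff (σ ≫ (specDiagram Ω Ω').map g) (toBase Ω Ω' i₀.unop)
    (d := 𝟙 _) (by rw [Category.assoc, map_toBase, hσ])).1 h5
  exact (grpIso_bcComp_iff (𝟙 _) q (Category.id_comp _)).1 h6

/-- S3014. -/
theorem geomFibre_iso (S : Scheme.{u}) (G G' : Over S) [GrpObj G] [GrpObj G']
    (hG : Red.IsReductive G) (hG' : Red.IsReductive G') (S' : Scheme.{u}) (f : S' ⟶ S)
    [Surjective f] (hiso : Nonempty (Grp.mk (Red.bc f G) ≅ Grp.mk (Red.bc f G'))) (s : S) :
    Nonempty (Grp.mk (Red.geomFibre s G) ≅ Grp.mk (Red.geomFibre s G')) := by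
  obtain ⟨s', rfl⟩ := f.surjective s
  haveI : IsAffineHom G.hom := hG.1
  haveI : Smooth G.hom := hG.2.1
  haveI : IsAffineHom G'.hom := hG'.1
  haveI : Smooth G'.hom := hG'.2.1
  let φ : S.residueField (f s') →+* S'.residueField s' := (f.residueFieldMap s').hom
  letI : Algebra (S.residueField (f s')) (AlgebraicClosure (S'.residueField s')) :=
    ((algebraMap (S'.residueField s') (AlgebraicClosure (S'.residueField s'))).comp φ).toAlgebra
  let emb : AlgebraicClosure (S.residueField (f s')) →ₐ[S.residueField (f s')]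
      AlgebraicClosure (S'.residueField s') := IsAlgClosed.lift
  letI : Algebra (AlgebraicClosure (S.residueField (f s')))
      (AlgebraicClosure (S'.residueField s')) := emb.toRingHom.toAlgebra
  have hcomm : Spec.map (CommRingCat.ofHom (algebraMap (AlgebraicClosure (S.residueField (f s')))
      (AlgebraicClosure (S'.residueField s')))) ≫ Red.geomPt (f s') = Red.geomPt s' ≫ f := by
    unfold Red.geomPt
    rw [Category.assoc, ← Scheme.Hom.SpecMap_residueFieldMap_fromSpecResidueField,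
      ← Spec.map_comp_assoc, ← Spec.map_comp_assoc]
    congr 2
    ext x
    exact emb.commutes x
  have h1 := grpIso_bc_of_comp (Red.geomPt s') f rfl hiso
  have h2 := (grpIso_bcComp_iff _ (Red.geomPt (f s')) hcomm).2 h1
  exact grpIso_of_bc_field _ _ (Red.geomPt (f s')) G G' h2

end GeomFibre

end Groth.Agent.Lib.T2H7.GrpIsoBC
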