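import Groth.Agent.Lib.T2H7MultActMain
import Groth.Agent.Lib.T2H7GrpIsoBC

/-!
The diagonalisable group `D_R(M) = Spec R[M]` over `Spec R` is isomorphic, as a group, to
`D_{Spec R}(M) = Spec R ×_{Spec ℤ} Spec ℤ[M]`; consequently it is of multiplicative type in the
fpqc-local sense.
-/

set_option autoImplicit false
set_option linter.unusedSectionVars false
set_option linter.unusedVariables false
set_option linter.style.haveILetI false
universe u
open CategoryTheory CategoryTheory.Limits MonoidalCategory CartesianMonoidalCategory MonObj GrpObj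
  AlgebraicGeometry

namespace Groth.Agent.Lib.T2H7.DiagDS

open Groth.Agent.Lib.T2H3.MultGa Groth.Agent.Lib.Helper27.GaGm Groth.Agent.Lib.T2H7.MultActAlg

variable (R : Type u) [CommRing R] (M : Type) [AddCommGroup M]

/-- `ℤ → R`. -/
noncomputable def fZ : ULift.{u} ℤ →+* R := (Int.castRingHom R).comp ULift.ringEquiv.toRingHom

/-- the comparison morphism `D_R(M) ⟶ D_{Spec R}(M)`. -/
theorem exists_a : ∃ a : Red.diag R M ⟶ Red.DS (Spec (CommRingCat.of R)) M,
    ∀ b, dsFn a b = toG (MonoidAlgebra.mapRingHom (Multiplicative M) (fZ R) b) := by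
  let ψ : MonoidAlgebra (ULift.{u} ℤ) (Multiplicative M) →+* Γ((Red.diag R M).left, ⊤) :=
    ((Scheme.ΓSpecIso (CommRingCat.of (MonoidAlgebra R (Multiplicative M)))).inv.hom).comp
      (MonoidAlgebra.mapRingHom (Multiplicative M) (fZ R))
  obtain ⟨a, ha⟩ := exists_dsPt (T := Spec (CommRingCat.of R)) (M := M) (Y := Red.diag R M) ψ
  exact ⟨a, fun b => ha b⟩

theorem fn_eq_appTop_toG {A : Type u} [CommRing A] {Y : Scheme.{u}}
    (y : Y ⟶ Spec (CommRingCat.of A)) (c : A) : fn y c = y.appTop (toG c) := rfl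

theorem toG_eq_fn_id {A : Type u} [CommRing A] (c : A) :
    toG c = fn (𝟙 (Spec (CommRingCat.of A))) c := by
  rw [fn_eq_appTop_toG]
  simp

/-- multiplicativity on the universal pair of points suffices. -/
theorem isMonHom_of_points {S : Scheme.{u}} {G H : Over S} [GrpObj G] [GrpObj H] (φ : G ⟶ H)
    (h : (fst G G * snd G G) ≫ φ = (fst G G ≫ φ) * (snd G G ≫ φ)) : IsMonHom φ := by
  apply Groth.Agent.Lib.T2H7.GrpLimB.isMonHom_of_mul_hom
  rw [MonObj.mul_eq_mul G, h, Hom.mul_def]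
  congr 1

/-- `D_R(M) ≅ D_{Spec R}(M)` as groups. -/
theorem diag_grpIso :
    Nonempty (Grp.mk (Red.diag R M) ≅ Grp.mk (Red.DS (Spec (CommRingCat.of R)) M)) := by
  obtain ⟨a, ha⟩ := exists_a R M
  have ha1 : ∀ m : Multiplicative M, dsFn a (MonoidAlgebra.single m 1) =
      toG (MonoidAlgebra.single m (1 : R)) := by
    intro m
    rw [ha]
    congr 1
    simp [fZ]
  have hmul : (fst (Red.diag R M) (Red.diag R M) * snd (Red.diag R M) (Red.diag R M)) ≫ a =
      (fst (Red.diag R M) (Red.diag R M) ≫ a) * (snd (Red.diag R M) (Red.diag R M) ≫ a) := by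
    apply ds_ext
    intro m
    rw [dsFn_mul_single, dsFn_comp, dsFn_comp, dsFn_comp, ha1]
    exact fn_mul_left_of_grouplike (fst (Red.diag R M) (Red.diag R M))
      (snd (Red.diag R M) (Red.diag R M)) (MonoidAlgebra.single m 1) (by simp)
  have hmon : IsMonHom a := isMonHom_of_points a hmul
  let E : Over (Spec (CommRingCat.of R)) := Red.DS (Spec (CommRingCat.of R)) M
  let σ : R →+* Γ(E.left, ⊤) := fnHom E.hom
  let χfun : Multiplicative M →* Γ(E.left, ⊤) :=
    { toFun := fun m => dsFn (𝟙 E) (MonoidAlgebra.single m 1)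
      map_one' := by
        rw [← MonoidAlgebra.one_def, dsFn_one]
      map_mul' := fun m m' => by
        rw [← dsFn_mul, MonoidAlgebra.single_mul_single, _root_.one_mul] }
  let φ : MonoidAlgebra R (Multiplicative M) →+* Γ(E.left, ⊤) := MultActAlg.ext σ χfun
  obtain ⟨y', hy'⟩ := fn_surj φ
  have hy'w : y' ≫ (Red.diag R M).hom = E.hom := by
    apply fn_ext
    intro r
    show fn (y' ≫ Spec.map (CommRingCat.ofHom
      (algebraMap R (MonoidAlgebra R (Multiplicative M))))) r = _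
    rw [fn_specMap, hy']
    show MultActAlg.ext σ χfun (MonoidAlgebra.single 1 r) = fn E.hom r
    rw [ext_single, map_one, _root_.mul_one]
    rfl
  let b : E ⟶ Red.diag R M := Over.homMk y' hy'w
  have hab : a ≫ b = 𝟙 _ := by
    apply Over.OverMorphism.ext
    show a.left ≫ y' = 𝟙 _
    apply fn_ext
    intro c
    rw [fn_comp, hy']
    have key : (a.left.appTop.hom.comp φ) =
        fnHom (𝟙 (Spec (CommRingCat.of (MonoidAlgebra R (Multiplicative M))))) := by
      apply MonoidAlgebra.ringHom_ext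
      · intro r
        show a.left.appTop (MultActAlg.ext σ χfun (MonoidAlgebra.single 1 r)) = fn (𝟙 _) _
        rw [ext_single, map_one, _root_.mul_one]
        show a.left.appTop (fn E.hom r) = _
        rw [← fn_comp, Over.w a]
        show fn (Spec.map (CommRingCat.ofHom
          (algebraMap R (MonoidAlgebra R (Multiplicative M))))) r = _
        rw [← Category.id_comp (Spec.map _), fn_specMap]
        rfl
      · intro m
        show a.left.appTop (MultActAlg.ext σ χfun (MonoidAlgebra.single m 1)) = fn (𝟙 _) _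
        rw [ext_single, map_one, _root_.one_mul]
        show a.left.appTop (dsFn (𝟙 E) (MonoidAlgebra.single m 1)) = _
        rw [← dsFn_comp, Category.comp_id, ha1, toG_eq_fn_id]
    exact congrArg (fun k : _ →+* _ => k c) key
  have hba : b ≫ a = 𝟙 _ := by
    apply ds_ext
    intro m
    rw [dsFn_comp, ha1]
    show y'.appTop (toG (MonoidAlgebra.single m (1 : R))) = _
    rw [← fn_eq_appTop_toG, hy']
    show MultActAlg.ext σ χfun (MonoidAlgebra.single m 1) = dsFn (𝟙 E) (MonoidAlgebra.single m 1)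
    rw [ext_single, map_one, _root_.one_mul]
    rfl
  exact (Groth.Agent.Lib.T2H7.GrpIsoBC.nonempty_grpIso_iff _ _).2 ⟨⟨a, b, hab, hba⟩, hmon⟩

/-- every base change of `D_R(M)` is diagonalisable. -/
theorem bc_diag_grpIso {U : Scheme.{u}} (g : U ⟶ Spec (CommRingCat.of R)) :
    Nonempty (Grp.mk (Red.bc g (Red.diag R M)) ≅ Grp.mk (Red.DS U M)) := by
  obtain ⟨e1, he1⟩ := (Groth.Agent.Lib.T2H7.GrpIsoBC.nonempty_grpIso_iff _ _).1
    (Groth.Agent.Lib.T2H7.GrpIsoBC.grpIso_bc g (diag_grpIso R M))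
  have hd : g ≫ (Limits.IsTerminal.from specULiftZIsTerminal (Spec (CommRingCat.of R))) =
      Limits.IsTerminal.from specULiftZIsTerminal U := specULiftZIsTerminal.hom_ext _ _
  refine (Groth.Agent.Lib.T2H7.GrpIsoBC.nonempty_grpIso_iff _ _).2
    ⟨e1 ≪≫ ActBC.bcCompIso g _ (Red.diag (ULift.{u} ℤ) M) hd, ?_⟩
  show IsMonHom (e1.hom ≫ (ActBC.bcCompIso g _ (Red.diag (ULift.{u} ℤ) M) hd).hom)
  infer_instance

/-- `D_R(M)` is of multiplicative type in the fpqc-local sense. -/
theorem diag_locally : TwC.Locally (Spec (CommRingCat.of R)) TwC.Topology.fpqc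
    (fun S' f => ∃ (M' : Type) (_ : AddCommGroup M'),
      Nonempty (Grp.mk (Red.bc f (Red.diag R M)) ≅ Grp.mk (Red.DS S' M'))) := by
  refine ⟨Spec (CommRingCat.of R), 𝟙 _, inferInstance, inferInstance, ?_, ?_⟩
  · intro V hV
    exact ⟨V, hV.isCompact, by simp⟩
  · intro s'
    exact ⟨⊤, trivial, M, inferInstance, bc_diag_grpIso R M _⟩

section Triv

/-- the closed immersion `Spec (R/I) ⟶ Spec R` for a nilpotent ideal `I` is locally nilpotent. -/
theorem locNilp_spec_quotient (I : Ideal R) (hI : IsNilpotent I) :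
    ∀ x : Spec (CommRingCat.of R), ∃ U : (Spec (CommRingCat.of R)).affineOpens,
      x ∈ (U : (Spec (CommRingCat.of R)).Opens) ∧
      IsNilpotent ((Spec.map (CommRingCat.ofHom (Ideal.Quotient.mk I))).ker.ideal U) := by
  intro x
  refine ⟨⟨⊤, isAffineOpen_top _⟩, trivial, ?_⟩
  rw [Scheme.Hom.ker_apply]
  obtain ⟨n, hn⟩ := hI
  refine ⟨n, ?_⟩
  have hle : RingHom.ker ((Spec.map (CommRingCat.ofHom (Ideal.Quotient.mk I))).app ⊤).hom ≤
      Ideal.comap (Scheme.ΓSpecIso (CommRingCat.of R)).hom.hom I := by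
    intro y hy
    rw [Ideal.mem_comap]
    have h1 := Scheme.ΓSpecIso_naturality (CommRingCat.ofHom (Ideal.Quotient.mk I))
    have h2 := congrArg (fun k => k.hom y) h1
    simp only [CommRingCat.hom_comp, RingHom.comp_apply, CommRingCat.hom_ofHom] at h2
    rw [← Ideal.Quotient.eq_zero_iff_mem, ← h2]
    have h3 : ((Spec.map (CommRingCat.ofHom (Ideal.Quotient.mk I))).appTop).hom y = 0 := hy
    rw [h3, map_zero]
  have h3 := Ideal.pow_right_mono hle n
  have h4 : (Ideal.comap (Scheme.ΓSpecIso (CommRingCat.of R)).hom.hom I) ^ n ≤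
      Ideal.comap (Scheme.ΓSpecIso (CommRingCat.of R)).hom.hom (I ^ n) := Ideal.le_comap_pow _ n
  rw [hn, Ideal.zero_eq_bot, ← RingHom.ker_eq_comap_bot] at h4
  have hinj : Function.Injective (Scheme.ΓSpecIso (CommRingCat.of R)).hom.hom :=
    (ConcreteCategory.bijective_of_isIso (Scheme.ΓSpecIso (CommRingCat.of R)).hom).injective
  rw [(RingHom.injective_iff_ker_eq_bot _).1 hinj] at h4
  exact le_bot_iff.1 (h3.trans h4)

/-- a homomorphism whose base change along `i₀` is trivial is trivial on points over `i₀`. -/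
theorem comp_eq_one_of_pullback_map_eq_one {S S₀ : Scheme.{u}} (i₀ : S₀ ⟶ S) (G X : Over S)
    [GrpObj G] [GrpObj X] (f : G ⟶ X) [IsMonHom f] (h : (Over.pullback i₀).map f = 1)
    (Y : Over S) (p : Y ⟶ Over.mk i₀) (g : Y ⟶ G) : g ≫ f = 1 := by
  let Y₀ : Over S₀ := Over.mk p.left
  have hw : p.left ≫ i₀ = Y.hom := Over.w p
  let ι' : (Over.map i₀).obj Y₀ ≅ Y := Over.isoMk (Iso.refl _) (by
    show 𝟙 _ ≫ Y.hom = p.left ≫ i₀
    rw [Category.id_comp, hw])
  let g' : (Over.map i₀).obj Y₀ ⟶ G := ι'.hom ≫ g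
  let g₀ : Y₀ ⟶ Red.bc i₀ G := (adjEquiv i₀ G Y₀).symm g'
  have h1 : adjEquiv i₀ X Y₀ (g₀ ≫ (Over.pullback i₀).map f) = adjEquiv i₀ G Y₀ g₀ ≫ f :=
    Adjunction.homEquiv_naturality_right_symm _ _ _
  rw [h, MonObj.comp_one, Groth.Agent.Lib.T2H7.MultActMain.adjEquiv_one,
    Equiv.apply_symm_apply] at h1
  have h2 : g ≫ f = ι'.inv ≫ (g' ≫ f) := by
    show g ≫ f = ι'.inv ≫ ((ι'.hom ≫ g) ≫ f)
    rw [Category.assoc, Iso.inv_hom_id_assoc]
  rw [h2, ← h1, MonObj.comp_one]

/-- **Rigidity.** A homomorphism from a group of multiplicative type which is trivial modulo a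
locally nilpotent ideal is trivial. -/
theorem hom_eq_one_of_trivial_mod {S S₀ : Scheme.{u}} (i₀ : S₀ ⟶ S) [IsClosedImmersion i₀]
    (hnil : ∀ x : S, ∃ V : S.affineOpens, x ∈ (V : S.Opens) ∧ IsNilpotent (i₀.ker.ideal V))
    (G X : Over S) [GrpObj G] [GrpObj X]
    (hG : TwC.Locally S TwC.Topology.fpqc (fun S' f => ∃ (M : Type) (_ : AddCommGroup M),
      Nonempty (Grp.mk (Red.bc f G) ≅ Grp.mk (Red.DS S' M))))
    (f : G ⟶ X) [IsMonHom f] (h : (Over.pullback i₀).map f = 1) : f = 1 := by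
  have key := Groth.Agent.Lib.T2H7.MultActMain.main i₀ hnil G X
    (fun Y g x => (g ≫ f) * x)
    (fun {Y₁ Y₂} t g x => by
      show t ≫ ((g ≫ f) * x) = ((t ≫ g) ≫ f) * (t ≫ x)
      rw [MonObj.comp_mul, Category.assoc])
    (fun Y x => by
      show ((1 : Y ⟶ G) ≫ f) * x = x
      rw [MonObj.one_comp, _root_.one_mul x])
    (fun Y g₁ g₂ x => by
      show ((g₁ * g₂) ≫ f) * x = (g₁ ≫ f) * ((g₂ ≫ f) * x)
      rw [MonObj.mul_comp, _root_.mul_assoc])
    (fun Y p g x => by
      show (g ≫ f) * x = x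
      rw [comp_eq_one_of_pullback_map_eq_one i₀ G X f h Y p g, _root_.one_mul x])
    hG G (𝟙 G) 1
  have key' : (𝟙 G ≫ f) * 1 = 1 := key
  rw [Category.id_comp, _root_.mul_one f] at key'
  exact key'

end Triv

end Groth.Agent.Lib.T2H7.DiagDS
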