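import Groth.Agent.Lib.T2H7DiagDS
import Groth.Agent.Lib.Helper25GroupLikeConn

/-!
Homomorphisms between diagonalisable groups `D_T(N) ⟶ D_T(M)` over `T = Spec R` with `R` a
connected ring come from homomorphisms of character groups `M → N`.
-/

set_option autoImplicit false
set_option linter.unusedSectionVars false
set_option linter.unusedVariables false
set_option linter.style.haveILetI false
universe u
open CategoryTheory CategoryTheory.Limits MonoidalCategory CartesianMonoidalCategory MonObj GrpObj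
  AlgebraicGeometry

namespace Groth.Agent.Lib.T2H7.DiagHomA

open Groth.Agent.Lib.T2H3.MultGa Groth.Agent.Lib.Helper27.GaGm Groth.Agent.Lib.T2H7.MultActAlg
  Groth.Agent.Lib.T2H7.DiagDS

section Chr

variable (T : Scheme.{u}) {M N : Type} [AddCommGroup M] [AddCommGroup N]

/-- the basis element of `ℤ[M]` attached to `m`. -/
noncomputable def sg (m : M) : MonoidAlgebra (ULift.{u} ℤ) (Multiplicative M) :=
  MonoidAlgebra.single (Multiplicative.ofAdd m) 1

/-- the character `χ_m` as a function on `D_T(M)`. -/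
noncomputable def chr (m : M) : Γ((Red.DS T M).left, ⊤) := dsFn (𝟙 (Red.DS T M)) (sg m)

variable {T}

theorem dsFn_sg {Y : Over T} (x : Y ⟶ Red.DS T M) (m : M) :
    dsFn x (sg m) = x.left.appTop (chr T m) := by
  unfold chr
  rw [← dsFn_comp, Category.comp_id]

theorem sg_zero : sg (0 : M) = (1 : MonoidAlgebra (ULift.{u} ℤ) (Multiplicative M)) := by
  unfold sg
  rw [ofAdd_zero, MonoidAlgebra.one_def]

theorem sg_add (m m' : M) : sg (m + m') =
    (sg m * sg m' : MonoidAlgebra (ULift.{u} ℤ) (Multiplicative M)) := by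
  unfold sg
  rw [MonoidAlgebra.single_mul_single, _root_.one_mul, ofAdd_add]

theorem chr_zero : chr T (0 : M) = 1 := by
  unfold chr
  rw [sg_zero, dsFn_one]

theorem chr_add (m m' : M) : chr T (m + m') = chr T m * chr T m' := by
  unfold chr
  rw [sg_add, dsFn_mul]

theorem ds_ext' {Y : Over T} {x y : Y ⟶ Red.DS T M}
    (h : ∀ m : M, dsFn x (sg m) = dsFn y (sg m)) : x = y :=
  ds_ext fun m => h (Multiplicative.toAdd m)

theorem dsFn_mul_sg {Y : Over T} (x y : Y ⟶ Red.DS T M) (m : M) :
    dsFn (x * y) (sg m) = dsFn x (sg m) * dsFn y (sg m) := dsFn_mul_single x y _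

theorem dsFn_one_sg {Y : Over T} (m : M) : dsFn (1 : Y ⟶ Red.DS T M) (sg m) = 1 := by
  have h1 : dsFn (1 : Y ⟶ Red.DS T M) (sg m) * dsFn (1 : Y ⟶ Red.DS T M) (sg m) =
      dsFn (1 : Y ⟶ Red.DS T M) (sg m) := by
    rw [← dsFn_mul_sg, _root_.one_mul (1 : Y ⟶ Red.DS T M)]
  have h2 : dsFn (1 : Y ⟶ Red.DS T M) (sg m) * dsFn (1 : Y ⟶ Red.DS T M) (sg (-m)) = 1 := by
    rw [← dsFn_mul, ← sg_add, add_neg_cancel, sg_zero, dsFn_one]
  calc dsFn (1 : Y ⟶ Red.DS T M) (sg m)
      = dsFn (1 : Y ⟶ Red.DS T M) (sg m) *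
          (dsFn (1 : Y ⟶ Red.DS T M) (sg m) * dsFn (1 : Y ⟶ Red.DS T M) (sg (-m))) := by
        rw [h2, _root_.mul_one]
    _ = 1 := by rw [← _root_.mul_assoc, h1, h2]

/-- the homomorphism `D_T(N) ⟶ D_T(M)` attached to `ψ : M → N`. -/
theorem exists_dsHom (ψ : M →+ N) :
    ∃ φ : Red.DS T N ⟶ Red.DS T M, IsMonHom φ ∧ ∀ m, dsFn φ (sg m) = chr T (ψ m) := by
  let χfun : Multiplicative M →* Γ((Red.DS T N).left, ⊤) :=
    { toFun := fun m => chr T (ψ (Multiplicative.toAdd m))
      map_one' := by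
        show chr T (ψ 0) = 1
        rw [map_zero, chr_zero]
      map_mul' := fun m m' => by
        show chr T (ψ (Multiplicative.toAdd m + Multiplicative.toAdd m')) = _
        rw [map_add, chr_add] }
  let ζ : ULift.{u} ℤ →+* Γ((Red.DS T N).left, ⊤) :=
    (Int.castRingHom _).comp ULift.ringEquiv.toRingHom
  obtain ⟨φ, hφ⟩ := exists_dsPt (T := T) (M := M) (Y := Red.DS T N) (MultActAlg.ext ζ χfun)
  have hφ' : ∀ m, dsFn φ (sg m) = chr T (ψ m) := by
    intro m
    rw [hφ]
    unfold sg
    rw [ext_single, map_one, _root_.one_mul]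
    rfl
  refine ⟨φ, ?_, hφ'⟩
  apply isMonHom_of_points
  apply ds_ext'
  intro m
  rw [dsFn_mul_sg, dsFn_comp, dsFn_comp, dsFn_comp, hφ', ← dsFn_sg, ← dsFn_sg, ← dsFn_sg,
    dsFn_mul_sg]

end Chr

section Spec

variable (R : Type u) [CommRing R] (M : Type) [AddCommGroup M]

/-- the comparison isomorphism `D_R(M) ≅ D_{Spec R}(M)` together with its characters. -/
theorem exists_iso : ∃ a : Red.diag R M ⟶ Red.DS (Spec (CommRingCat.of R)) M,
    IsIso a ∧ IsMonHom a ∧ ∀ m : Multiplicative M, dsFn a (MonoidAlgebra.single m 1) =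
      toG (MonoidAlgebra.single m (1 : R)) := by
  obtain ⟨a, ha⟩ := exists_a R M
  have ha1 : ∀ m : Multiplicative M, dsFn a (MonoidAlgebra.single m 1) =
      toG (MonoidAlgebra.single m (1 : R)) := by
    intro m
    rw [ha]
    congr 1
    simp [fZ]
  have hmul : (fst (Red.diag R M) (Red.diag R M) * snd (Red.diag R M) (Red.diag R M)) ≫ a =
      (fst (Red.diag R M) (Red.diag R M) ≫ a) * (snd (Red.diag R M) (Red.diag R M) ≫ a) := by
    apply ds_ext
    intro m
    rw [dsFn_mul_single, dsFn_comp, dsFn_comp, dsFn_comp, ha1]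
    exact fn_mul_left_of_grouplike (fst (Red.diag R M) (Red.diag R M))
      (snd (Red.diag R M) (Red.diag R M)) (MonoidAlgebra.single m 1) (by simp)
  have hmon : IsMonHom a := isMonHom_of_points a hmul
  let E : Over (Spec (CommRingCat.of R)) := Red.DS (Spec (CommRingCat.of R)) M
  let σ : R →+* Γ(E.left, ⊤) := fnHom E.hom
  let χfun : Multiplicative M →* Γ(E.left, ⊤) :=
    { toFun := fun m => dsFn (𝟙 E) (MonoidAlgebra.single m 1)
      map_one' := by
        rw [← MonoidAlgebra.one_def, dsFn_one]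
      map_mul' := fun m m' => by
        rw [← dsFn_mul, MonoidAlgebra.single_mul_single, _root_.one_mul] }
  let φ : MonoidAlgebra R (Multiplicative M) →+* Γ(E.left, ⊤) := MultActAlg.ext σ χfun
  obtain ⟨y', hy'⟩ := fn_surj φ
  have hy'w : y' ≫ (Red.diag R M).hom = E.hom := by
    apply fn_ext
    intro r
    show fn (y' ≫ Spec.map (CommRingCat.ofHom
      (algebraMap R (MonoidAlgebra R (Multiplicative M))))) r = _
    rw [fn_specMap, hy']
    show MultActAlg.ext σ χfun (MonoidAlgebra.single 1 r) = fn E.hom r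
    rw [ext_single, map_one, _root_.mul_one]
    rfl
  let b : E ⟶ Red.diag R M := Over.homMk y' hy'w
  have hab : a ≫ b = 𝟙 _ := by
    apply Over.OverMorphism.ext
    show a.left ≫ y' = 𝟙 _
    apply fn_ext
    intro c
    rw [fn_comp, hy']
    have key : (a.left.appTop.hom.comp φ) =
        fnHom (𝟙 (Spec (CommRingCat.of (MonoidAlgebra R (Multiplicative M))))) := by
      apply MonoidAlgebra.ringHom_ext
      · intro r
        show a.left.appTop (MultActAlg.ext σ χfun (MonoidAlgebra.single 1 r)) = fn (𝟙 _) _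
        rw [ext_single, map_one, _root_.mul_one]
        show a.left.appTop (fn E.hom r) = _
        rw [← fn_comp, Over.w a]
        show fn (Spec.map (CommRingCat.ofHom
          (algebraMap R (MonoidAlgebra R (Multiplicative M))))) r = _
        rw [← Category.id_comp (Spec.map _), fn_specMap]
        rfl
      · intro m
        show a.left.appTop (MultActAlg.ext σ χfun (MonoidAlgebra.single m 1)) = fn (𝟙 _) _
        rw [ext_single, map_one, _root_.one_mul]
        show a.left.appTop (dsFn (𝟙 E) (MonoidAlgebra.single m 1)) = _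
        rw [← dsFn_comp, Category.comp_id, ha1, toG_eq_fn_id]
    exact congrArg (fun k : _ →+* _ => k c) key
  have hba : b ≫ a = 𝟙 _ := by
    apply ds_ext
    intro m
    rw [dsFn_comp, ha1]
    show y'.appTop (toG (MonoidAlgebra.single m (1 : R))) = _
    rw [← fn_eq_appTop_toG, hy']
    show MultActAlg.ext σ χfun (MonoidAlgebra.single m 1) = dsFn (𝟙 E) (MonoidAlgebra.single m 1)
    rw [ext_single, map_one, _root_.one_mul]
    rfl
  exact ⟨a, ⟨b, hab, hba⟩, hmon, ha1⟩

end Spec

end Groth.Agent.Lib.T2H7.DiagHomA
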