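import Groth.Agent.Lib.T2H7DiagHomA

/-!
Classification of homomorphisms `D_T(N) ⟶ D_T(M)` for `T = Spec R`, `R` connected.
-/

set_option autoImplicit false
set_option linter.unusedSectionVars false
set_option linter.unusedVariables false
set_option linter.style.haveILetI false
universe u
open CategoryTheory CategoryTheory.Limits MonoidalCategory CartesianMonoidalCategory MonObj GrpObj
  AlgebraicGeometry
open scoped TensorProduct

namespace Groth.Agent.Lib.T2H7.DiagHomB

open Groth.Agent.Lib.T2H3.MultGa Groth.Agent.Lib.Helper27.GaGm Groth.Agent.Lib.T2H7.MultActAlg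
  Groth.Agent.Lib.T2H7.DiagDS Groth.Agent.Lib.T2H7.DiagHomA

section General

variable {T : Scheme.{u}} {M N : Type} [AddCommGroup M] [AddCommGroup N]

/-- characters of a composite. -/
theorem dsFn_comp_of_chr {Y : Over T} (x : Y ⟶ Red.DS T N) (φ : Red.DS T N ⟶ Red.DS T M)
    (ψ : M →+ N) (hφ : ∀ m, dsFn φ (sg m) = chr T (ψ m)) (m : M) :
    dsFn (x ≫ φ) (sg m) = dsFn x (sg (ψ m)) := by
  rw [dsFn_comp, hφ, dsFn_sg]

theorem fn_injective_of_isIso {A : Type u} [CommRing A] {Y : Scheme.{u}}
    (y : Y ⟶ Spec (CommRingCat.of A)) [IsIso y] : Function.Injective (fn y) := by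
  intro a a' h
  have h1 : y.appTop (toG a) = y.appTop (toG a') := h
  haveI : IsIso y.appTop := inferInstanceAs (IsIso (y.app ⊤))
  have hinj : Function.Injective y.appTop.hom :=
    (ConcreteCategory.bijective_of_isIso y.appTop).injective
  exact toG_injective (hinj h1)

theorem appTop_injective_of_isIso {X Y : Over T} (a : X ⟶ Y) [IsIso a] :
    Function.Injective a.left.appTop.hom := by
  haveI : IsIso a.left := inferInstanceAs (IsIso ((Over.forget T).map a))
  haveI : IsIso a.left.appTop := inferInstanceAs (IsIso (a.left.app ⊤))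
  exact (ConcreteCategory.bijective_of_isIso a.left.appTop).injective

end General

section Spec

variable (R : Type u) [CommRing R] [Nontrivial R] {M N : Type} [AddCommGroup M] [AddCommGroup N]

/-- distinct characters are distinct functions (over a nonzero ring). -/
theorem chr_injective :
    Function.Injective (chr (Spec (CommRingCat.of R)) : M → _) := by
  intro m m' h
  obtain ⟨a, haiso, hamon, ha1⟩ := exists_iso R M
  have h1 : dsFn a (sg m) = dsFn a (sg m') := by
    rw [dsFn_sg, dsFn_sg, h]
  unfold sg at h1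
  rw [ha1, ha1] at h1
  have h2 := Groth.Agent.Lib.Helper25.single_one_injective (C := R) (toG_injective h1)
  exact Multiplicative.ofAdd.injective h2

variable {R}

/-- a unit with `Δ c = c ⊗ c` is group-like. -/
theorem isGroupLikeElem_of_comul {A : Type u} [CommRing A] [Bialgebra R A] (c c' : A)
    (hcc : c * c' = 1) (hc : Coalgebra.comul (R := R) c = c ⊗ₜ[R] c) : IsGroupLikeElem R c := by
  refine ⟨?_, hc⟩
  have h1 := Coalgebra.rTensor_counit_comul (R := R) c
  rw [hc, LinearMap.rTensor_tmul] at h1
  have h2 : Coalgebra.counit (R := R) c • c = c := by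
    have := congrArg (TensorProduct.lid R A) h1
    simpa using this
  have h3 : Coalgebra.counit (R := R) c * Coalgebra.counit (R := R) c =
      Coalgebra.counit (R := R) c := by
    have := congrArg (Coalgebra.counit (R := R)) h2
    rw [map_smul, smul_eq_mul] at this
    exact this
  have h4 : Coalgebra.counit (R := R) c * Coalgebra.counit (R := R) c' = 1 := by
    rw [← Bialgebra.counit_mul, hcc, Bialgebra.counit_one]
  calc Coalgebra.counit (R := R) c
      = Coalgebra.counit (R := R) c * (Coalgebra.counit (R := R) c *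
          Coalgebra.counit (R := R) c') := by rw [h4, _root_.mul_one]
    _ = 1 := by rw [← _root_.mul_assoc, h3, h4]

/-- **Classification.** Over a connected affine base, every homomorphism `D(N) ⟶ D(M)` comes
from a homomorphism `M → N`. -/
theorem exists_addHom (hconn : ∀ e : R, IsIdempotentElem e → e = 0 ∨ e = 1)
    (φ : Red.DS (Spec (CommRingCat.of R)) N ⟶ Red.DS (Spec (CommRingCat.of R)) M) [IsMonHom φ] :
    ∃ ψ : M →+ N, ∀ m, dsFn φ (sg m) = chr (Spec (CommRingCat.of R)) (ψ m) := by
  obtain ⟨a, haiso, hamon, ha1⟩ := exists_iso R N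
  obtain ⟨φ', hφ'⟩ : ∃ φ' : Red.diag R N ⟶ Red.DS (Spec (CommRingCat.of R)) M, φ' = a ≫ φ :=
    ⟨_, rfl⟩
  haveI : IsMonHom φ' := by rw [hφ']; infer_instance
  let d : M → Γ(Spec (CommRingCat.of (MonoidAlgebra R (Multiplicative N))), ⊤) :=
    fun m => dsFn φ' (sg m)
  have hd0 : d 0 = 1 := by
    show dsFn φ' (sg 0) = 1
    rw [sg_zero, dsFn_one]
  have hdadd : ∀ m m', d (m + m') = d m * d m' := by
    intro m m'
    show dsFn φ' (sg (m + m')) = dsFn φ' (sg m) * dsFn φ' (sg m')
    rw [sg_add, dsFn_mul]
  let c : M → MonoidAlgebra R (Multiplicative N) := fun m => ofG (d m)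
  have hc : ∀ m, dsFn φ' (sg m) = toG (c m) := fun m => (toG_ofG (d m)).symm
  have hc0 : c 0 = 1 := by
    show ofG (d 0) = 1
    rw [hd0, ofG_one]
  have hcadd : ∀ m m', c (m + m') = c m * c m' := by
    intro m m'
    show ofG (d (m + m')) = ofG (d m) * ofG (d m')
    rw [hdadd, ofG_mul]
  have hcomul : ∀ m, Coalgebra.comul (R := R) (c m) = c m ⊗ₜ[R] c m := by
    intro m
    have hm : (fst (Red.diag R N) (Red.diag R N) * snd (Red.diag R N) (Red.diag R N)) ≫ φ' =
        (fst (Red.diag R N) (Red.diag R N) ≫ φ') * (snd (Red.diag R N) (Red.diag R N) ≫ φ') :=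
      MonObj.mul_comp _ _ _
    have h1 : dsFn ((fst (Red.diag R N) (Red.diag R N) * snd (Red.diag R N) (Red.diag R N)) ≫ φ')
        (sg m) = dsFn ((fst (Red.diag R N) (Red.diag R N) ≫ φ') *
          (snd (Red.diag R N) (Red.diag R N) ≫ φ')) (sg m) := by rw [hm]
    rw [dsFn_mul_sg, dsFn_comp, dsFn_comp, dsFn_comp, hc] at h1
    have h2 : fn (fst (Red.diag R N) (Red.diag R N) * snd (Red.diag R N) (Red.diag R N)).left (c m) =
        fn (fst (Red.diag R N) (Red.diag R N)).left (c m) *
          fn (snd (Red.diag R N) (Red.diag R N)).left (c m) := h1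
    rw [fn_mul_left] at h2
    have h3 := fn_pullbackSpecIso (R := R)
      (liftP (fst (Red.diag R N) (Red.diag R N)) (snd (Red.diag R N) (Red.diag R N))) (c m) (c m)
    rw [liftP_fst, liftP_snd] at h3
    have h4 := h2.trans h3.symm
    have hid : liftP (fst (Red.diag R N) (Red.diag R N)) (snd (Red.diag R N) (Red.diag R N)) =
        𝟙 _ := by
      unfold liftP
      rw [lift_fst_snd]
      rfl
    haveI : IsIso (liftP (fst (Red.diag R N) (Red.diag R N))
        (snd (Red.diag R N) (Red.diag R N))) := by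
      rw [hid]; exact IsIso.id _
    exact fn_injective_of_isIso _ h4
  have hgl : ∀ m, IsGroupLikeElem R (c m) := fun m =>
    isGroupLikeElem_of_comul (c m) (c (-m)) (by rw [← hcadd, add_neg_cancel, hc0]) (hcomul m)
  have hex : ∀ m, ∃ n : Multiplicative N, c m = MonoidAlgebra.single n 1 := fun m =>
    Groth.Agent.Lib.Helper25.exists_single_of_isGroupLikeElem hconn (hgl m)
  choose ν hν using hex
  have hνadd : ∀ m m', ν (m + m') = ν m * ν m' := by
    intro m m'
    apply Groth.Agent.Lib.Helper25.single_one_injective (C := R)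
    show MonoidAlgebra.single (ν (m + m')) (1 : R) = MonoidAlgebra.single (ν m * ν m') 1
    rw [← hν, hcadd, hν, hν, MonoidAlgebra.single_mul_single, _root_.one_mul]
  let ψ : M →+ N := AddMonoidHom.mk' (fun m => Multiplicative.toAdd (ν m)) (fun m m' => by
    show Multiplicative.toAdd (ν (m + m')) = _
    rw [hνadd]
    rfl)
  refine ⟨ψ, fun m => ?_⟩
  apply appTop_injective_of_isIso a
  show a.left.appTop (dsFn φ (sg m)) = a.left.appTop (chr _ (ψ m))
  rw [← dsFn_comp, ← dsFn_sg, ← hφ']
  show dsFn φ' (sg m) = dsFn a (MonoidAlgebra.single (ν m) 1)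
  rw [hc, hν, ha1]

end Spec

end Groth.Agent.Lib.T2H7.DiagHomB
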