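import Groth.Agent.Lib.Helper25GroupLikeConn
import Mathlib

/-!
Group-like elements of `R[N]` over an arbitrary ring: local structure at a prime.
-/

set_option autoImplicit false
set_option linter.unusedSectionVars false
set_option linter.unusedVariables false
set_option linter.style.haveILetI false
universe u

namespace Groth.Agent.Lib.T2H7.DiagHomC

open Groth.Agent.Lib.Helper25

section GroupLike

variable {R : Type u} [CommRing R] {G : Type}

theorem coeff_mul_coeff [DecidableEq G] {x : MonoidAlgebra R G} (hx : IsGroupLikeElem R x)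
    (n n' : G) : x.coeff n * x.coeff n' = if n = n' then x.coeff n else 0 := by
  rw [← coeffPair_comul, hx.comul_eq_tmul_self]
  simp [coeffPair]

theorem counit_eq_sum (x : MonoidAlgebra R G) :
    Coalgebra.counit (R := R) x = x.coeff.sum fun _ r => r := by
  induction x using MonoidAlgebra.induction_linear with
  | zero => simp
  | add x y hx hy =>
    rw [map_add, hx, hy, MonoidAlgebra.coeff_add, Finsupp.sum_add_index'] <;> simp
  | single n r =>
    rw [MonoidAlgebra.counit_single, MonoidAlgebra.coeff_single, Finsupp.sum_single_index rfl]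
    rfl

theorem exists_coeff_notMem {x : MonoidAlgebra R G} (hx : IsGroupLikeElem R x)
    (p : Ideal R) [p.IsPrime] : ∃ n, x.coeff n ∉ p := by
  by_contra hcon
  push Not at hcon
  have h1 : x.coeff.sum (fun _ r => r) ∈ p := by
    unfold Finsupp.sum
    exact Ideal.sum_mem _ fun n _ => hcon n
  rw [← counit_eq_sum, hx.counit_eq_one] at h1
  exact (Ideal.IsPrime.ne_top inferInstance) ((Ideal.eq_top_iff_one p).2 h1)

theorem coeff_unique {x : MonoidAlgebra R G} (hx : IsGroupLikeElem R x)
    (p : Ideal R) [p.IsPrime] {n n' : G} (hn : x.coeff n ∉ p) (hn' : x.coeff n' ∉ p) : n = n' := by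
  classical
  by_contra hne
  have h1 := coeff_mul_coeff hx n n'
  rw [if_neg hne] at h1
  have h2 : x.coeff n * x.coeff n' ∈ p := by rw [h1]; exact p.zero_mem
  rcases (Ideal.IsPrime.mem_or_mem inferInstance h2) with h | h
  · exact hn h
  · exact hn' h

theorem smul_eq_smul_single {x : MonoidAlgebra R G} (hx : IsGroupLikeElem R x) (n : G) :
    x.coeff n • x = x.coeff n • (MonoidAlgebra.single n 1 : MonoidAlgebra R G) := by
  classical
  apply MonoidAlgebra.coeff_injective
  ext n'
  simp only [MonoidAlgebra.coeff_smul, Finsupp.smul_apply, smul_eq_mul, MonoidAlgebra.coeff_single,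
    Finsupp.single_apply]
  rw [coeff_mul_coeff hx n n']
  split_ifs with h
  · rw [mul_one]
  · rw [mul_zero]

theorem coeff_idem {x : MonoidAlgebra R G} (hx : IsGroupLikeElem R x) (n : G) :
    x.coeff n * x.coeff n = x.coeff n := by
  classical
  rw [coeff_mul_coeff hx n n, if_pos rfl]

end GroupLike

section Family

variable {R : Type u} [CommRing R] {M N : Type} [AddCommGroup M] [AddCommGroup N]
  (c : M → MonoidAlgebra R (Multiplicative N))
  (hgl : ∀ m, IsGroupLikeElem R (c m)) (hc0 : c 0 = 1) (hcadd : ∀ m m', c (m + m') = c m * c m')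
  (p : Ideal R) [p.IsPrime]

/-- the single basis element. -/
noncomputable def sN (n : N) : MonoidAlgebra R (Multiplicative N) :=
  MonoidAlgebra.single (Multiplicative.ofAdd n) 1

theorem sN_zero : sN (R := R) (0 : N) = 1 := by
  unfold sN
  rw [ofAdd_zero, MonoidAlgebra.one_def]

theorem sN_add (n n' : N) : sN (R := R) (n + n') = sN n * sN n' := by
  unfold sN
  rw [MonoidAlgebra.single_mul_single, one_mul, ofAdd_add]

include hgl hcadd in
theorem exists_addHom_prime :
    ∃ ψ : M →+ N, ∀ m, (c m).coeff (Multiplicative.ofAdd (ψ m)) ∉ p := by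
  classical
  have hex : ∀ m, ∃ n : N, (c m).coeff (Multiplicative.ofAdd n) ∉ p := by
    intro m
    obtain ⟨n, hn⟩ := exists_coeff_notMem (hgl m) p
    exact ⟨Multiplicative.toAdd n, hn⟩
  choose ν hν using hex
  have hadd : ∀ m m', ν (m + m') = ν m + ν m' := by
    intro m m'
    have h1 := smul_eq_smul_single (hgl m) (Multiplicative.ofAdd (ν m))
    have h2 := smul_eq_smul_single (hgl m') (Multiplicative.ofAdd (ν m'))
    have h3 : ((c m).coeff (Multiplicative.ofAdd (ν m)) * (c m').coeff (Multiplicative.ofAdd (ν m'))) •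
        c (m + m') = ((c m).coeff (Multiplicative.ofAdd (ν m)) *
          (c m').coeff (Multiplicative.ofAdd (ν m'))) • sN (ν m + ν m') := by
      rw [hcadd, sN_add, ← smul_mul_smul_comm, h1, h2, smul_mul_smul_comm]
      rfl
    have h4 := congrArg (fun x : MonoidAlgebra R (Multiplicative N) =>
      x.coeff (Multiplicative.ofAdd (ν m + ν m'))) h3
    simp only [MonoidAlgebra.coeff_smul, Finsupp.smul_apply, smul_eq_mul, sN,
      MonoidAlgebra.coeff_single, Finsupp.single_eq_same, mul_one] at h4
    have h5 : (c (m + m')).coeff (Multiplicative.ofAdd (ν m + ν m')) ∉ p := by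
      intro hmem
      have h6 : (c m).coeff (Multiplicative.ofAdd (ν m)) *
          (c m').coeff (Multiplicative.ofAdd (ν m')) ∈ p := by
        rw [← h4]
        exact p.mul_mem_left _ hmem
      rcases (Ideal.IsPrime.mem_or_mem inferInstance h6) with h | h
      · exact hν m h
      · exact hν m' h
    exact Multiplicative.ofAdd.injective (coeff_unique (hgl (m + m')) p (hν (m + m')) h5)
  exact ⟨AddMonoidHom.mk' ν hadd, hν⟩

include hgl hc0 hcadd in
theorem exists_idem_smul [AddGroup.FG M] (ψ : M →+ N)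
    (hψ : ∀ m, (c m).coeff (Multiplicative.ofAdd (ψ m)) ∉ p) :
    ∃ g : R, g ∉ p ∧ g * g = g ∧ ∀ m, g • c m = g • sN (ψ m) := by
  classical
  obtain ⟨S, hS⟩ := (AddGroup.fg_def (H := M)).1 inferInstance
  let gm : M → R := fun m => (c m).coeff (Multiplicative.ofAdd (ψ m))
  let g : R := ∏ m ∈ S, gm m
  have hgp : g ∉ p := by
    intro hmem
    obtain ⟨m, -, hm⟩ := Ideal.IsPrime.prod_mem_iff.1 hmem
    exact hψ m hm
  have hgg : g * g = g := by
    show (∏ m ∈ S, gm m) * (∏ m ∈ S, gm m) = ∏ m ∈ S, gm m
    rw [← Finset.prod_mul_distrib]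
    exact Finset.prod_congr rfl fun m _ => coeff_idem (hgl m) _
  refine ⟨g, hgp, hgg, ?_⟩
  have hmem : ∀ m ∈ S, g • c m = g • sN (ψ m) := by
    intro m hm
    have h1 : g = (∏ m' ∈ S.erase m, gm m') * gm m := (Finset.prod_erase_mul S gm hm).symm
    rw [h1, mul_smul, mul_smul]
    congr 1
    exact smul_eq_smul_single (hgl m) _
  intro m
  have hm : m ∈ AddSubgroup.closure (S : Set M) := by rw [hS]; trivial
  induction hm using AddSubgroup.closure_induction with
  | mem x hx => exact hmem x hx
  | zero => rw [hc0, map_zero, sN_zero]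
  | add x y _ _ hx hy =>
    rw [hcadd, map_add, sN_add]
    calc g • (c x * c y) = (g * g) • (c x * c y) := by rw [hgg]
      _ = (g • c x) * (g • c y) := by rw [smul_mul_smul_comm]
      _ = (g • sN (ψ x)) * (g • sN (ψ y)) := by rw [hx, hy]
      _ = (g * g) • (sN (ψ x) * sN (ψ y)) := by rw [smul_mul_smul_comm]
      _ = g • (sN (ψ x) * sN (ψ y)) := by rw [hgg]
  | neg x _ hx =>
    have h1 : c (-x) * c x = 1 := by rw [← hcadd, neg_add_cancel, hc0]
    have h2 : sN (R := R) (ψ x) * sN (ψ (-x)) = 1 := by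
      rw [← sN_add, ← map_add, add_neg_cancel, map_zero, sN_zero]
    calc g • c (-x) = g • (c (-x) * (sN (ψ x) * sN (ψ (-x)))) := by rw [h2, mul_one]
      _ = c (-x) * (g • sN (ψ x)) * sN (ψ (-x)) := by
        rw [← mul_assoc, ← smul_mul_assoc, ← mul_smul_comm]
      _ = c (-x) * (g • c x) * sN (ψ (-x)) := by rw [hx]
      _ = g • ((c (-x) * c x) * sN (ψ (-x))) := by
        rw [mul_smul_comm, smul_mul_assoc]
      _ = g • sN (ψ (-x)) := by rw [h1, one_mul]

/-- reduction to a field `K` in which exactly `p` dies, followed by a quotient of `N`. -/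
noncomputable def red {K : Type u} [Field K] (ρ : R →+* K) {C : Type} [AddCommGroup C]
    (qC : N →+ C) : MonoidAlgebra R (Multiplicative N) →+* MonoidAlgebra K (Multiplicative C) :=
  (MonoidAlgebra.mapDomainRingHom K (AddMonoidHom.toMultiplicative qC)).comp
    (MonoidAlgebra.mapRingHom (Multiplicative N) ρ)

theorem red_single {K : Type u} [Field K] (ρ : R →+* K) {C : Type} [AddCommGroup C]
    (qC : N →+ C) (n : Multiplicative N) (r : R) :
    red ρ qC (MonoidAlgebra.single n r) =
      MonoidAlgebra.single (Multiplicative.ofAdd (qC (Multiplicative.toAdd n))) (ρ r) := by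
  unfold red
  rw [RingHom.comp_apply, MonoidAlgebra.mapRingHom_single]
  show MonoidAlgebra.mapDomain _ _ = _
  rw [MonoidAlgebra.mapDomain_single]
  rfl

theorem red_smul {K : Type u} [Field K] (ρ : R →+* K) {C : Type} [AddCommGroup C]
    (qC : N →+ C) (r : R) (x : MonoidAlgebra R (Multiplicative N)) :
    red ρ qC (r • x) = ρ r • red ρ qC x := by
  have h1 : r • x = MonoidAlgebra.single 1 r * x := by
    rw [Algebra.smul_def]; rfl
  have h2 : ρ r • red ρ qC x = MonoidAlgebra.single 1 (ρ r) * red ρ qC x := by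
    rw [Algebra.smul_def]; rfl
  rw [h1, map_mul, red_single, h2]
  show MonoidAlgebra.single (Multiplicative.ofAdd (qC 0)) (ρ r) * _ = _
  rw [map_zero, ofAdd_zero]

include hgl in
theorem red_eq {K : Type u} [Field K] (ρ : R →+* K) (hρ : ∀ r, ρ r = 0 ↔ r ∈ p)
    {C : Type} [AddCommGroup C] (qC : N →+ C) (ψ : M →+ N)
    (hψ : ∀ m, (c m).coeff (Multiplicative.ofAdd (ψ m)) ∉ p) (m : M) :
    red ρ qC (c m) = MonoidAlgebra.single (Multiplicative.ofAdd (qC (ψ m))) 1 := by
  have h1 := smul_eq_smul_single (hgl m) (Multiplicative.ofAdd (ψ m))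
  have hg1 : ρ ((c m).coeff (Multiplicative.ofAdd (ψ m))) = 1 := by
    have hne : ρ ((c m).coeff (Multiplicative.ofAdd (ψ m))) ≠ 0 := fun h => hψ m ((hρ _).1 h)
    have hid : ρ ((c m).coeff (Multiplicative.ofAdd (ψ m))) *
        ρ ((c m).coeff (Multiplicative.ofAdd (ψ m))) = ρ ((c m).coeff (Multiplicative.ofAdd (ψ m))) := by
      rw [← map_mul, coeff_idem (hgl m)]
    exact mul_left_cancel₀ hne (by rw [hid, mul_one])
  have h2 := congrArg (red ρ qC) h1
  rw [red_smul, red_smul, hg1, one_smul, one_smul, red_single] at h2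
  rw [h2, map_one]
  rfl

end Family

end Groth.Agent.Lib.T2H7.DiagHomC
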