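import Groth.Agent.Lib.T2H7DiagHomB
import Groth.Agent.Lib.T2H7DiagHomC

/-!
A monomorphism `D_T(N) ⟶ D_T(M)` of diagonalisable groups over an arbitrary affine base, with `M`
finitely generated and such that surjective maps `M → N` are bijective, is an isomorphism.
-/

set_option autoImplicit false
set_option linter.unusedSectionVars false
set_option linter.unusedVariables false
set_option linter.style.haveILetI false
universe u
open CategoryTheory CategoryTheory.Limits MonoidalCategory CartesianMonoidalCategory MonObj GrpObj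
  AlgebraicGeometry
open scoped TensorProduct

namespace Groth.Agent.Lib.T2H7.DiagHomD

open Groth.Agent.Lib.T2H3.MultGa Groth.Agent.Lib.Helper27.GaGm Groth.Agent.Lib.T2H7.MultActAlg
  Groth.Agent.Lib.T2H7.DiagDS Groth.Agent.Lib.T2H7.DiagHomA Groth.Agent.Lib.T2H7.DiagHomB
  Groth.Agent.Lib.T2H7.DiagHomC

variable {R : Type u} [CommRing R] {M N : Type} [AddCommGroup M] [AddCommGroup N]

/-- a unit with `Δ c = c ⊗ c` is group-like. -/
theorem isGroupLikeElem_of_comul' {A : Type u} [CommRing A] [Bialgebra R A] (c c' : A)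
    (hcc : c * c' = 1) (hc : Coalgebra.comul (R := R) c = c ⊗ₜ[R] c) : IsGroupLikeElem R c := by
  refine ⟨?_, hc⟩
  have h1 := Coalgebra.rTensor_counit_comul (R := R) c
  rw [hc, LinearMap.rTensor_tmul] at h1
  have h2 : Coalgebra.counit (R := R) c • c = c := by
    have := congrArg (TensorProduct.lid R A) h1
    simpa using this
  have h3 : Coalgebra.counit (R := R) c * Coalgebra.counit (R := R) c =
      Coalgebra.counit (R := R) c := by
    have := congrArg (Coalgebra.counit (R := R)) h2
    rw [map_smul, smul_eq_mul] at this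
    exact this
  have h4 : Coalgebra.counit (R := R) c * Coalgebra.counit (R := R) c' = 1 := by
    rw [← Bialgebra.counit_mul, hcc, Bialgebra.counit_one]
  calc Coalgebra.counit (R := R) c
      = Coalgebra.counit (R := R) c * (Coalgebra.counit (R := R) c *
          Coalgebra.counit (R := R) c') := by rw [h4, _root_.mul_one]
    _ = 1 := by rw [← _root_.mul_assoc, h3, h4]

/-- the family of group-like elements attached to a homomorphism. -/
theorem exists_family (a : Red.diag R N ⟶ Red.DS (Spec (CommRingCat.of R)) N) [IsMonHom a]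
    (φ : Red.DS (Spec (CommRingCat.of R)) N ⟶ Red.DS (Spec (CommRingCat.of R)) M) [IsMonHom φ] :
    ∃ c : M → MonoidAlgebra R (Multiplicative N), (∀ m, IsGroupLikeElem R (c m)) ∧ c 0 = 1 ∧
      (∀ m m', c (m + m') = c m * c m') ∧ ∀ m, dsFn (a ≫ φ) (sg m) = toG (c m) := by
  obtain ⟨φ', hφ'⟩ : ∃ φ' : Red.diag R N ⟶ Red.DS (Spec (CommRingCat.of R)) M, φ' = a ≫ φ :=
    ⟨_, rfl⟩
  haveI : IsMonHom φ' := by rw [hφ']; infer_instance
  let d : M → Γ(Spec (CommRingCat.of (MonoidAlgebra R (Multiplicative N))), ⊤) :=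
    fun m => dsFn φ' (sg m)
  have hd0 : d 0 = 1 := by
    show dsFn φ' (sg 0) = 1
    rw [sg_zero, dsFn_one]
  have hdadd : ∀ m m', d (m + m') = d m * d m' := by
    intro m m'
    show dsFn φ' (sg (m + m')) = dsFn φ' (sg m) * dsFn φ' (sg m')
    rw [sg_add, dsFn_mul]
  let c : M → MonoidAlgebra R (Multiplicative N) := fun m => ofG (d m)
  have hc : ∀ m, dsFn φ' (sg m) = toG (c m) := fun m => (toG_ofG (d m)).symm
  have hc0 : c 0 = 1 := by
    show ofG (d 0) = 1
    rw [hd0, ofG_one]
  have hcadd : ∀ m m', c (m + m') = c m * c m' := by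
    intro m m'
    show ofG (d (m + m')) = ofG (d m) * ofG (d m')
    rw [hdadd, ofG_mul]
  have hcomul : ∀ m, Coalgebra.comul (R := R) (c m) = c m ⊗ₜ[R] c m := by
    intro m
    have hm : (fst (Red.diag R N) (Red.diag R N) * snd (Red.diag R N) (Red.diag R N)) ≫ φ' =
        (fst (Red.diag R N) (Red.diag R N) ≫ φ') * (snd (Red.diag R N) (Red.diag R N) ≫ φ') :=
      MonObj.mul_comp _ _ _
    have h1 : dsFn ((fst (Red.diag R N) (Red.diag R N) * snd (Red.diag R N) (Red.diag R N)) ≫ φ')
        (sg m) = dsFn ((fst (Red.diag R N) (Red.diag R N) ≫ φ') *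
          (snd (Red.diag R N) (Red.diag R N) ≫ φ')) (sg m) := by rw [hm]
    rw [dsFn_mul_sg, dsFn_comp, dsFn_comp, dsFn_comp, hc] at h1
    have h2 : fn (fst (Red.diag R N) (Red.diag R N) * snd (Red.diag R N) (Red.diag R N)).left (c m) =
        fn (fst (Red.diag R N) (Red.diag R N)).left (c m) *
          fn (snd (Red.diag R N) (Red.diag R N)).left (c m) := h1
    rw [fn_mul_left] at h2
    have h3 := fn_pullbackSpecIso (R := R)
      (liftP (fst (Red.diag R N) (Red.diag R N)) (snd (Red.diag R N) (Red.diag R N))) (c m) (c m)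
    rw [liftP_fst, liftP_snd] at h3
    have h4 := h2.trans h3.symm
    have hid : liftP (fst (Red.diag R N) (Red.diag R N)) (snd (Red.diag R N) (Red.diag R N)) =
        𝟙 _ := by
      unfold liftP
      rw [lift_fst_snd]
      rfl
    haveI : IsIso (liftP (fst (Red.diag R N) (Red.diag R N))
        (snd (Red.diag R N) (Red.diag R N))) := by
      rw [hid]; exact IsIso.id _
    exact fn_injective_of_isIso _ h4
  have hgl : ∀ m, IsGroupLikeElem R (c m) := fun m =>
    isGroupLikeElem_of_comul' (c m) (c (-m)) (by rw [← hcadd, add_neg_cancel, hc0]) (hcomul m)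
  refine ⟨c, hgl, hc0, hcadd, fun m => ?_⟩
  rw [← hφ']
  exact hc m

/-- a section with full basic open is a unit. -/
theorem isUnit_of_basicOpen_eq_top {X : Scheme.{u}} (s : Γ(X, ⊤)) (h : X.basicOpen s = ⊤) :
    IsUnit s := by
  apply X.toRingedSpace.isUnit_of_isUnit_germ ⊤ s
  intro x hx
  have hx' : x ∈ X.basicOpen s := by rw [h]; trivial
  exact (X.toRingedSpace.mem_basicOpen s x hx).1 hx'

/-- **Local agreement.** On points lying over the locus where `g` is invertible, `φ` agrees with the
homomorphism attached to `ψ`. -/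
theorem comp_eq_of_isUnit (a : Red.diag R N ⟶ Red.DS (Spec (CommRingCat.of R)) N) [IsIso a]
    (ha1 : ∀ n : Multiplicative N, dsFn a (MonoidAlgebra.single n 1) =
      toG (MonoidAlgebra.single n (1 : R)))
    (φ δ : Red.DS (Spec (CommRingCat.of R)) N ⟶ Red.DS (Spec (CommRingCat.of R)) M)
    (c : M → MonoidAlgebra R (Multiplicative N)) (hc : ∀ m, dsFn (a ≫ φ) (sg m) = toG (c m))
    (ψ : M →+ N) (hδ : ∀ m, dsFn δ (sg m) = chr (Spec (CommRingCat.of R)) (ψ m))
    (g : R) (hg : ∀ m, g • c m = g • sN (ψ m))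
    (Y : Over (Spec (CommRingCat.of R))) (hY : IsUnit (Y.hom.appTop (toG g)))
    (x : Y ⟶ Red.DS (Spec (CommRingCat.of R)) N) : x ≫ φ = x ≫ δ := by
  apply ds_ext'
  intro m
  rw [dsFn_comp, dsFn_comp, hδ]
  -- the key identity on `D_T(N)`
  have key : (Red.DS (Spec (CommRingCat.of R)) N).hom.appTop (toG g) * dsFn φ (sg m) =
      (Red.DS (Spec (CommRingCat.of R)) N).hom.appTop (toG g) *
        chr (Spec (CommRingCat.of R)) (ψ m) := by
    apply appTop_injective_of_isIso a
    show a.left.appTop (_ * _) = a.left.appTop (_ * _)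
    rw [map_mul, map_mul]
    have h1 : a.left.appTop ((Red.DS (Spec (CommRingCat.of R)) N).hom.appTop (toG g)) =
        toG (algebraMap R (MonoidAlgebra R (Multiplicative N)) g) := by
      have hw : a.left ≫ (Red.DS (Spec (CommRingCat.of R)) N).hom = (Red.diag R N).hom := Over.w a
      have h2 : a.left.appTop ((Red.DS (Spec (CommRingCat.of R)) N).hom.appTop (toG g)) =
          (a.left ≫ (Red.DS (Spec (CommRingCat.of R)) N).hom).appTop (toG g) := by
        rw [Scheme.Hom.comp_appTop]; rfl
      rw [h2, hw]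
      exact specMap_appTop_toG _ g
    have h3 : a.left.appTop (dsFn φ (sg m)) = toG (c m) := by
      rw [← dsFn_comp, hc]
    have h4 : a.left.appTop (chr (Spec (CommRingCat.of R)) (ψ m)) = toG (sN (ψ m)) := by
      rw [← dsFn_sg]
      exact ha1 _
    rw [h1, h3, h4]
    have h7 : algebraMap R (MonoidAlgebra R (Multiplicative N)) g * c m =
        algebraMap R (MonoidAlgebra R (Multiplicative N)) g * sN (ψ m) := by
      rw [← Algebra.smul_def, ← Algebra.smul_def, hg]
    exact (toG_mul _ _).symm.trans ((congrArg toG h7).trans (toG_mul _ _))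
  have h5 := congrArg (fun s => x.left.appTop s) key
  simp only [map_mul] at h5
  have h6 : x.left.appTop ((Red.DS (Spec (CommRingCat.of R)) N).hom.appTop (toG g)) =
      Y.hom.appTop (toG g) := by
    have hw : x.left ≫ (Red.DS (Spec (CommRingCat.of R)) N).hom = Y.hom := Over.w x
    rw [← hw, Scheme.Hom.comp_appTop]; rfl
  rw [h6] at h5
  exact hY.mul_left_cancel h5

/-- **Surjectivity from mono.** -/
theorem eq_zero_of_mono (a : Red.diag R N ⟶ Red.DS (Spec (CommRingCat.of R)) N)
    (ha1 : ∀ n : Multiplicative N, dsFn a (MonoidAlgebra.single n 1) =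
      toG (MonoidAlgebra.single n (1 : R)))
    (φ : Red.DS (Spec (CommRingCat.of R)) N ⟶ Red.DS (Spec (CommRingCat.of R)) M) [IsMonHom φ]
    [Mono φ] (c : M → MonoidAlgebra R (Multiplicative N)) (hgl : ∀ m, IsGroupLikeElem R (c m))
    (hc : ∀ m, dsFn (a ≫ φ) (sg m) = toG (c m))
    (p : Ideal R) [p.IsPrime] (ψ : M →+ N)
    (hψ : ∀ m, (c m).coeff (Multiplicative.ofAdd (ψ m)) ∉ p)
    {C : Type} [AddCommGroup C] (qC : N →+ C) (hqC : ∀ m, qC (ψ m) = 0) (n : N) : qC n = 0 := by
  let ρ : R →+* p.ResidueField := algebraMap R p.ResidueField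
  have hρ : ∀ r, ρ r = 0 ↔ r ∈ p := fun r => Ideal.algebraMap_residueField_eq_zero
  let θ : MonoidAlgebra R (Multiplicative N) →+* MonoidAlgebra p.ResidueField (Multiplicative C) :=
    red ρ qC
  let y' : Spec (CommRingCat.of (MonoidAlgebra p.ResidueField (Multiplicative C))) ⟶
      Spec (CommRingCat.of (MonoidAlgebra R (Multiplicative N))) := Spec.map (CommRingCat.ofHom θ)
  let Y : Over (Spec (CommRingCat.of R)) := Over.mk (y' ≫ (Red.diag R N).hom)
  let x₁' : Y ⟶ Red.diag R N := Over.homMk y' rfl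
  have hx₁' : ∀ b : MonoidAlgebra R (Multiplicative N), x₁'.left.appTop (toG b) = toG (θ b) :=
    fun b => specMap_appTop_toG θ b
  have h1 : (x₁' ≫ a) ≫ φ = 1 := by
    apply ds_ext'
    intro m
    rw [Category.assoc, dsFn_comp, hc, dsFn_one_sg, hx₁']
    show toG (red ρ qC (c m)) = 1
    rw [red_eq c hgl p ρ hρ qC ψ hψ m, hqC, ofAdd_zero, ← MonoidAlgebra.one_def]
    exact map_one _
  have h2 : x₁' ≫ a = 1 := by
    apply (cancel_mono φ).1
    exact h1.trans (MonObj.one_comp φ).symm
  have h3 : dsFn (x₁' ≫ a) (sg n) = 1 := by rw [h2, dsFn_one_sg]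
  rw [dsFn_comp] at h3
  unfold sg at h3
  rw [ha1, hx₁'] at h3
  have h4 : toG (θ (MonoidAlgebra.single (Multiplicative.ofAdd n) 1)) =
      toG (MonoidAlgebra.single (1 : Multiplicative C) (1 : p.ResidueField)) := by
    rw [h3, ← MonoidAlgebra.one_def]
    exact (map_one _).symm
  have h5 := toG_injective h4
  have h6 : θ (MonoidAlgebra.single (Multiplicative.ofAdd n) 1) =
      MonoidAlgebra.single (Multiplicative.ofAdd (qC n)) 1 := by
    show red ρ qC _ = _
    rw [red_single, map_one]
    rfl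
  rw [h6] at h5
  have h7 := Groth.Agent.Lib.Helper25.single_one_injective (C := p.ResidueField) h5
  exact Multiplicative.ofAdd.injective h7

end Groth.Agent.Lib.T2H7.DiagHomD
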