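import Groth.Agent.Lib.T2H7DiagHomD

/-!
A monomorphism `D_T(N) ⟶ D_T(M)` over an affine base, `M` finitely generated and surjective maps
`M → N` injective, is an isomorphism.
-/

set_option autoImplicit false
set_option linter.unusedSectionVars false
set_option linter.unusedVariables false
set_option linter.style.haveILetI false
universe u
open CategoryTheory CategoryTheory.Limits MonoidalCategory CartesianMonoidalCategory MonObj GrpObj
  AlgebraicGeometry

namespace Groth.Agent.Lib.T2H7.DiagHomE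

open Groth.Agent.Lib.T2H3.MultGa Groth.Agent.Lib.Helper27.GaGm
  Groth.Agent.Lib.T2H7.DiagDS Groth.Agent.Lib.T2H7.DiagHomA Groth.Agent.Lib.T2H7.DiagHomB
  Groth.Agent.Lib.T2H7.DiagHomC Groth.Agent.Lib.T2H7.DiagHomD

variable {R : Type u} [CommRing R] {M N : Type} [AddCommGroup M] [AddCommGroup N]

/-- the homomorphism of diagonalisable groups attached to an isomorphism of character groups is an
isomorphism. -/
theorem isIso_dsHom {T : Scheme.{u}} (e : M ≃+ N) (δ : Red.DS T N ⟶ Red.DS T M)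
    (hδ : ∀ m, dsFn δ (sg m) = chr T (e m)) : IsIso δ := by
  obtain ⟨δ', -, hδ'⟩ := exists_dsHom (T := T) e.symm.toAddMonoidHom
  refine ⟨δ', ?_, ?_⟩
  · apply ds_ext'
    intro n
    rw [dsFn_comp_of_chr (M := N) (N := M) δ δ' e.symm.toAddMonoidHom hδ' n, hδ]
    show chr T (e (e.symm n)) = _
    rw [AddEquiv.apply_symm_apply]
    rfl
  · apply ds_ext'
    intro m
    rw [dsFn_comp_of_chr (M := M) (N := N) δ' δ e.toAddMonoidHom hδ m, hδ']
    show chr T (e.symm (e m)) = _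
    rw [AddEquiv.symm_apply_apply]
    rfl

/-- **Main theorem over an affine base.** -/
theorem isIso_of_mono [AddGroup.FG M]
    (hSB : ∀ ψ : M →+ N, Function.Surjective ψ → Function.Injective ψ)
    (φ : Red.DS (Spec (CommRingCat.of R)) N ⟶ Red.DS (Spec (CommRingCat.of R)) M) [IsMonHom φ]
    [Mono φ] : IsIso φ := by
  obtain ⟨a, haiso, hamon, ha1⟩ := exists_iso R N
  haveI := haiso
  haveI := hamon
  obtain ⟨c, hgl, hc0, hcadd, hc⟩ := exists_family a φ
  suffices h : IsIso φ.left from by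
    haveI : IsIso ((Over.forget _).map φ) := h
    exact isIso_of_reflects_iso φ (Over.forget _)
  apply IsZariskiLocalAtTarget.of_forall_exists_morphismRestrict
    (P := MorphismProperty.isomorphisms Scheme.{u})
  intro x
  -- the prime under `x`
  let t : Spec (CommRingCat.of R) := (Red.DS (Spec (CommRingCat.of R)) M).hom x
  let p : Ideal R := t.asIdeal
  haveI : p.IsPrime := t.isPrime
  obtain ⟨ψ, hψ⟩ := exists_addHom_prime c hgl hcadd p
  obtain ⟨g, hgp, hgg, hg⟩ := exists_idem_smul c hgl hc0 hcadd p ψ hψ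
  obtain ⟨δ, hδmon, hδ⟩ := exists_dsHom (T := Spec (CommRingCat.of R)) ψ
  -- `ψ` is bijective
  have hsurj : Function.Surjective ψ := by
    intro n
    have h0 := eq_zero_of_mono a ha1 φ c hgl hc p ψ hψ (QuotientAddGroup.mk' ψ.range)
      (fun m => (QuotientAddGroup.eq_zero_iff _).2 ⟨m, rfl⟩) n
    exact (QuotientAddGroup.eq_zero_iff _).1 h0
  let e : M ≃+ N := AddEquiv.ofBijective ψ ⟨hSB ψ hsurj, hsurj⟩
  haveI : IsIso δ := isIso_dsHom e δ hδ
  haveI : IsIso δ.left := inferInstanceAs (IsIso ((Over.forget _).map δ))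
  -- the open neighbourhood
  let W : (Spec (CommRingCat.of R)).Opens := (Spec (CommRingCat.of R)).basicOpen (toG g)
  have htW : t ∈ W := by
    show t ∈ (Spec (CommRingCat.of R)).basicOpen ((Scheme.ΓSpecIso (CommRingCat.of R)).inv g)
    rw [basicOpen_eq_of_affine]
    exact hgp
  let U : (Red.DS (Spec (CommRingCat.of R)) M).left.Opens :=
    (Red.DS (Spec (CommRingCat.of R)) M).hom ⁻¹ᵁ W
  refine ⟨U, htW, ?_⟩
  -- agreement of `φ` and `δ` on the preimage
  have hpre : φ.left ⁻¹ᵁ U = δ.left ⁻¹ᵁ U := by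
    show φ.left ⁻¹ᵁ ((Red.DS (Spec (CommRingCat.of R)) M).hom ⁻¹ᵁ W) =
      δ.left ⁻¹ᵁ ((Red.DS (Spec (CommRingCat.of R)) M).hom ⁻¹ᵁ W)
    rw [← Scheme.Hom.comp_preimage, ← Scheme.Hom.comp_preimage, Over.w φ, Over.w δ]
  let Y : Over (Spec (CommRingCat.of R)) :=
    Over.mk ((φ.left ⁻¹ᵁ U).ι ≫ (Red.DS (Spec (CommRingCat.of R)) N).hom)
  let xx : Y ⟶ Red.DS (Spec (CommRingCat.of R)) N := Over.homMk (φ.left ⁻¹ᵁ U).ι rfl
  have hY : IsUnit (Y.hom.appTop (toG g)) := by
    apply isUnit_of_basicOpen_eq_top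
    rw [← Scheme.Hom.preimage_basicOpen_top]
    show ((φ.left ⁻¹ᵁ U).ι ≫ (Red.DS (Spec (CommRingCat.of R)) N).hom) ⁻¹ᵁ W = ⊤
    rw [← Over.w φ, Scheme.Hom.comp_preimage, Scheme.Hom.comp_preimage]
    exact Scheme.Opens.ι_preimage_self _
  have hagree := comp_eq_of_isUnit a ha1 φ δ c hc ψ hδ g hg Y hY xx
  have hagree' : (φ.left ⁻¹ᵁ U).ι ≫ φ.left = (φ.left ⁻¹ᵁ U).ι ≫ δ.left :=
    congrArg (fun k => k.left) hagree
  have hfac : φ.left ∣_ U = ((Red.DS (Spec (CommRingCat.of R)) N).left.isoOfEq hpre).hom ≫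
      δ.left ∣_ U := by
    rw [← cancel_mono U.ι, Category.assoc, morphismRestrict_ι, morphismRestrict_ι,
      Scheme.isoOfEq_hom_ι_assoc]
    exact hagree'
  show IsIso (φ.left ∣_ U)
  rw [hfac]
  infer_instance

end Groth.Agent.Lib.T2H7.DiagHomE
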