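import Mathlib

/-!
# The diagonal of a base change (helper7)
-/

set_option autoImplicit false
set_option linter.unusedSectionVars false
set_option linter.unusedVariables false
set_option linter.style.haveILetI false
universe v u
open CategoryTheory CategoryTheory.Limits

namespace Groth.Agent.Lib.T2H7.DiagPB

variable {C : Type u} [Category.{v} C] [HasPullbacks C] {X Y X₀ Y₀ : C} {f : X ⟶ Y}
  {f₀ : X₀ ⟶ Y₀} {pX : X ⟶ X₀} {pY : Y ⟶ Y₀}

/-- the map `X ×_Y X ⟶ X₀ ×_{Y₀} X₀` induced by a commutative square. -/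
noncomputable def pZ (hX : IsPullback pX f f₀ pY) : pullback f f ⟶ pullback f₀ f₀ :=
  pullback.map f f f₀ f₀ pX pX pY hX.w.symm hX.w.symm

@[reassoc]
theorem pZ_fst (hX : IsPullback pX f f₀ pY) :
    pZ hX ≫ pullback.fst f₀ f₀ = pullback.fst f f ≫ pX :=
  pullback.lift_fst _ _ _

@[reassoc]
theorem pZ_snd (hX : IsPullback pX f f₀ pY) :
    pZ hX ≫ pullback.snd f₀ f₀ = pullback.snd f f ≫ pX :=
  pullback.lift_snd _ _ _

/-- `X ×_Y X = (X₀ ×_{Y₀} X₀) ×_{Y₀} Y`. -/
theorem isPullback_pZ (hX : IsPullback pX f f₀ pY) :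
    IsPullback (pZ hX) (pullback.fst f f ≫ f) (pullback.fst f₀ f₀ ≫ f₀) pY := by
  have w : pZ hX ≫ pullback.fst f₀ f₀ ≫ f₀ = (pullback.fst f f ≫ f) ≫ pY := by
    rw [pZ_fst_assoc, hX.w, Category.assoc]
  refine ⟨⟨w⟩, ⟨PullbackCone.IsLimit.mk _ (fun s => ?_) (fun s => ?_) (fun s => ?_)
    (fun s m h1 h2 => ?_)⟩⟩
  · have e1 : (s.fst ≫ pullback.fst f₀ f₀) ≫ f₀ = s.snd ≫ pY := by
      rw [Category.assoc]; exact s.condition
    have e2 : (s.fst ≫ pullback.snd f₀ f₀) ≫ f₀ = s.snd ≫ pY := by
      rw [Category.assoc, ← pullback.condition]; exact s.condition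
    exact pullback.lift (hX.lift _ _ e1) (hX.lift _ _ e2) (by rw [hX.lift_snd, hX.lift_snd])
  · apply pullback.hom_ext
    · rw [Category.assoc, pZ_fst, pullback.lift_fst_assoc, hX.lift_fst]
    · rw [Category.assoc, pZ_snd, pullback.lift_snd_assoc, hX.lift_fst]
  · rw [pullback.lift_fst_assoc, hX.lift_snd]
  · apply pullback.hom_ext
    · rw [pullback.lift_fst]
      apply hX.hom_ext
      · rw [hX.lift_fst, ← h1, Category.assoc, Category.assoc, pZ_fst]
      · rw [hX.lift_snd, Category.assoc]; exact h2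
    · rw [pullback.lift_snd]
      apply hX.hom_ext
      · rw [hX.lift_fst, ← h1, Category.assoc, Category.assoc, pZ_snd]
      · rw [hX.lift_snd, Category.assoc, ← pullback.condition]; exact h2

/-- `X = X₀ ×_{X₀ ×_{Y₀} X₀} (X ×_Y X)`: the diagonal of a base change is the base change of
the diagonal. -/
theorem isPullback_diagonal (hX : IsPullback pX f f₀ pY) :
    IsPullback pX (pullback.diagonal f) (pullback.diagonal f₀) (pZ hX) := by
  have w : pX ≫ pullback.diagonal f₀ = pullback.diagonal f ≫ pZ hX := by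
    apply pullback.hom_ext
    · rw [Category.assoc, Category.assoc, pullback.diagonal_fst, pZ_fst,
        pullback.diagonal_fst_assoc, Category.comp_id]
    · rw [Category.assoc, Category.assoc, pullback.diagonal_snd, pZ_snd,
        pullback.diagonal_snd_assoc, Category.comp_id]
  refine ⟨⟨w⟩, ⟨PullbackCone.IsLimit.mk _ (fun s => s.snd ≫ pullback.fst f f) (fun s => ?_)
    (fun s => ?_) (fun s m h1 h2 => ?_)⟩⟩
  · have := s.condition
    rw [Category.assoc, ← pZ_fst hX, ← Category.assoc, ← this, Category.assoc,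
      pullback.diagonal_fst, Category.comp_id]
  · have hc := s.condition
    have key : s.snd ≫ pullback.fst f f = s.snd ≫ pullback.snd f f := by
      apply hX.hom_ext
      · rw [Category.assoc, Category.assoc, ← pZ_fst hX, ← pZ_snd hX, ← Category.assoc,
          ← Category.assoc, ← hc, Category.assoc, Category.assoc, pullback.diagonal_fst,
          pullback.diagonal_snd]
      · rw [Category.assoc, Category.assoc, pullback.condition]
    apply pullback.hom_ext
    · rw [Category.assoc, pullback.diagonal_fst, Category.comp_id]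
    · rw [Category.assoc, pullback.diagonal_snd, Category.comp_id, key]
  · rw [← h2, Category.assoc, pullback.diagonal_fst, Category.comp_id]

end Groth.Agent.Lib.T2H7.DiagPB
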