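import Mathlib
import Groth.Prelude.Def_AlgSp
import Groth.Agent.Lib.T2H7DiagRep

/-!
# Properties of the diagonal of a sheaf with a chart whose kernel pair is a scheme (helper7)

In the situation of `T2H7DiagRep` (a locally surjective `p : h_U ⟶ F` with kernel pair a scheme `R`),
the diagonal of `F` has every property `P` of `(t, s) : R ⟶ U ×_S U` which is stable under base
change and fppf-local on the target.
-/

set_option autoImplicit false
set_option linter.unusedSectionVars false
set_option linter.unusedVariables false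
set_option linter.style.haveILetI false

universe u

open CategoryTheory CategoryTheory.Limits AlgebraicGeometry Opposite

namespace Groth.Agent.Lib.T2H7.DiagProp

open Groth.Agent.S13210 Groth.Agent.Lib.T2H7.SubRep Groth.Agent.Lib.T2H7.DiagRep

variable {S : Scheme.{u}} (F : AlgSp.Sp S) {R U : Over S} (p : (AlgSp.yon S).obj U ⟶ F)
  (s t : R ⟶ U) (sq : IsPullback ((AlgSp.yon S).map t) ((AlgSp.yon S).map s) p p)

include sq in
/-- the pullback of the diagonal along a point of `F × F`, with its fppf-local structure. -/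
theorem exists_diag_pullback [Sheaf.IsLocallySurjective p] [LocallyOfFiniteType t.left]
    {T₀ : Over S} (g : (AlgSp.yon S).obj T₀ ⟶ F ⨯ F) :
    ∃ (W : Over S) (w : W ⟶ T₀) (fst : (AlgSp.yon S).obj W ⟶ F),
      IsPullback fst ((AlgSp.yon S).map w) (Limits.diag F) g ∧
      ∀ (P : MorphismProperty Scheme.{u}) [P.IsStableUnderBaseChange]
        [P.IsLocalAtTarget Scheme.fppfPrecoverage], P (jR s t) → P w.left := by
  let a : (AlgSp.yon S).obj T₀ ⟶ F := g ≫ prod.fst
  let b : (AlgSp.yon S).obj T₀ ⟶ F := g ≫ prod.snd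
  obtain ⟨X, f, hfl, hfp, hsurj, hab⟩ := exists_cover F p a b
  choose ax bx hax hbx using hab
  haveI hmj : Mono (jR s t) := mono_jR F p s t sq
  haveI hlj : LocallyOfFiniteType (jR s t) := by
    haveI : LocallyOfFiniteType (jR s t ≫ pullback.fst U.hom U.hom) := by
      rw [jR_fst]
      infer_instance
    exact locallyOfFiniteType_of_comp (jR s t) (pullback.fst U.hom U.hom)
  haveI hmono : ∀ x, Mono (Eloc s t (f x) (ax x) (bx x)).hom := fun x =>
    inferInstanceAs (Mono (pullback.fst (abMap (f x) (ax x) (bx x)) (jR s t)))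
  haveI hlft : ∀ x, LocallyOfFiniteType (Eloc s t (f x) (ax x) (bx x)).hom := fun x =>
    inferInstanceAs (LocallyOfFiniteType (pullback.fst (abMap (f x) (ax x) (bx x)) (jR s t)))
  have hlif := fun (x : T₀.left) (T : Scheme.{u}) (c : T ⟶ X x) =>
    lifts_iff F p s t sq a b (f x) (ax x) (bx x) (hax x) (hbx x) c
  obtain ⟨E₀, hE₀mono, hE₀⟩ := exists_rep f (fun x => Eloc s t (f x) (ax x) (bx x)) (Geq F a b)
    (fun x T c => hlif x T c)
    hfl hfp (fun x => ⟨x, hsurj x⟩) (geq_pre F a b)
    (fun T c hG => geq_loc F a b f hfl hfp (fun x => ⟨x, hsurj x⟩) c hG)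
    (fun x => isIndQuasiAffineHom_of_lqf _)
  let W : Over S := Over.mk (E₀.hom ≫ T₀.hom)
  let w : W ⟶ T₀ := Over.homMk E₀.hom rfl
  have hw : (AlgSp.yon S).map w ≫ a = (AlgSp.yon S).map w ≫ b :=
    (geq_iff F a b w).1 ((hE₀ E₀.hom).1 ⟨⟨𝟙 _, Category.id_comp _⟩⟩)
  refine ⟨W, w, (AlgSp.yon S).map w ≫ a, ?_, ?_⟩
  · have hcomm : ((AlgSp.yon S).map w ≫ a) ≫ Limits.diag F = (AlgSp.yon S).map w ≫ g := by
      apply Limits.prod.hom_ext
      · rw [comp_diag_fst, Category.assoc]
      · rw [comp_diag_snd, Category.assoc]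
        exact hw
    refine isPullback_of_yon hcomm (fun T'' x c hxc => ?_)
    obtain ⟨c', rfl⟩ := (AlgSp.yon S).map_surjective c
    have hx1 : x = (AlgSp.yon S).map c' ≫ a := by
      have := congrArg (fun m => m ≫ prod.fst) hxc
      rw [comp_diag_fst, Category.assoc] at this
      exact this
    have hx2 : x = (AlgSp.yon S).map c' ≫ b := by
      have := congrArg (fun m => m ≫ prod.snd) hxc
      rw [comp_diag_snd, Category.assoc] at this
      exact this
    obtain ⟨v⟩ := (hE₀ c'.left).2 ((geq_iff F a b c').2 (hx1.symm.trans hx2))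
    let v' : T'' ⟶ W := Over.homMk v.1 (by
      change v.1 ≫ E₀.hom ≫ T₀.hom = T''.hom
      rw [← Category.assoc, v.2]
      exact Over.w c')
    have hv' : v' ≫ w = c' := Over.OverMorphism.ext v.2
    refine ⟨(AlgSp.yon S).map v', ⟨?_, ?_⟩, ?_⟩
    · rw [← Category.assoc, ← Functor.map_comp, hv', hx1]
    · rw [← Functor.map_comp, hv']
    · rintro y ⟨-, hy⟩
      obtain ⟨y', rfl⟩ := (AlgSp.yon S).map_surjective y
      congr 1
      rw [← Functor.map_comp] at hy
      have h1 := (AlgSp.yon S).map_injective hy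
      apply Over.OverMorphism.ext
      rw [← cancel_mono E₀.hom]
      have h2 : y'.left ≫ E₀.hom = c'.left := congrArg (fun m => m.left) h1
      rw [h2]
      exact v.2.symm
  · intro P _ _ hP
    change P E₀.hom
    have hR : Presieve.ofArrows X f ∈ Scheme.fppfPrecoverage T₀.left := by
      rw [Scheme.fppfPrecoverage, Scheme.ofArrows_mem_precoverage_iff]
      exact ⟨fun x => ⟨x, hsurj x⟩, fun x => ⟨hfl x, hfp x⟩⟩
    refine MorphismProperty.IsLocalAtTarget.of_forall_pullbackSnd
      (K := Scheme.fppfPrecoverage) hR ?_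
    rintro _ _ _ ⟨x⟩
    -- the two monomorphisms over `X x` representing the same subfunctor
    have hPB : P (Eloc s t (f x) (ax x) (bx x)).hom :=
      P.pullback_fst _ _ hP
    have hG1 : Geq F a b (pullback.snd E₀.hom (f x) ≫ f x) := by
      rw [← pullback.condition]
      exact (hE₀ _).1 ⟨⟨pullback.fst E₀.hom (f x), rfl⟩⟩
    obtain ⟨α⟩ := (hlif x _ (pullback.snd E₀.hom (f x))).2 hG1
    have hG2 : Geq F a b ((Eloc s t (f x) (ax x) (bx x)).hom ≫ f x) :=
      (hlif x _ _).1 ⟨⟨𝟙 _, Category.id_comp _⟩⟩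
    obtain ⟨v⟩ := (hE₀ _).2 hG2
    let β : (Eloc s t (f x) (ax x) (bx x)).left ⟶ pullback E₀.hom (f x) :=
      pullback.lift v.1 (Eloc s t (f x) (ax x) (bx x)).hom v.2
    have hβ : β ≫ pullback.snd E₀.hom (f x) = (Eloc s t (f x) (ax x) (bx x)).hom :=
      pullback.lift_snd _ _ _
    haveI : Mono (pullback.snd E₀.hom (f x)) := inferInstance
    have h1 : α.1 ≫ β = 𝟙 _ := by
      rw [← cancel_mono (pullback.snd E₀.hom (f x)), Category.assoc, hβ, α.2, Category.id_comp]
    have h2 : β ≫ α.1 = 𝟙 _ := by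
      rw [← cancel_mono (Eloc s t (f x) (ax x) (bx x)).hom, Category.assoc, α.2, hβ,
        Category.id_comp]
    haveI : IsIso α.1 := ⟨⟨β, h1, h2⟩⟩
    have h3 : pullback.snd E₀.hom (f x) = α.1 ≫ (Eloc s t (f x) (ax x) (bx x)).hom := α.2.symm
    rw [h3, P.cancel_left_of_respectsIso]
    exact hPB

include sq in
/-- **the diagonal inherits the properties of `(t, s)`**. -/
theorem repWith_diag [Sheaf.IsLocallySurjective p] [LocallyOfFiniteType t.left]
    (P : MorphismProperty Scheme.{u}) [P.IsStableUnderBaseChange]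
    [P.IsLocalAtTarget Scheme.fppfPrecoverage] (hP : P (jR s t)) :
    AlgSp.RepWith P (Limits.diag F) := by
  refine MorphismProperty.relative.of_exists (fun T₀ g => ?_)
  obtain ⟨W, w, fst, hsq, hprop⟩ := exists_diag_pullback F p s t sq g
  exact ⟨W, fst, w, hsq, hprop P hP⟩

end Groth.Agent.Lib.T2H7.DiagProp
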