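import Mathlib
import Groth.Prelude.Def_CInt
import Groth.Prelude.Def_AlgSpSub
import Groth.Agent.Lib.T2H7EtDenseB
import Groth.Agent.Lib.T2H1DenseOpen

set_option autoImplicit false
set_option linter.unusedSectionVars false
set_option linter.unusedVariables false
set_option linter.style.haveILetI false

universe u

open CategoryTheory CategoryTheory.Limits AlgebraicGeometry Opposite TopologicalSpace

namespace Groth.Agent.Lib.T2H7.EtDense

variable {S : Scheme.{u}}

/-- **Scheme theoretic density of an open subspace can be tested on any etale chart.** -/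
theorem isSchematicallyDense_chart {U X : AlgSp.Sp S} (j : U ⟶ X)
    (hj : AlgSp.IsSchDense j) (V : Over S) (φ : (AlgSp.yon S).obj V ⟶ X)
    (hφ : AlgSp.RepWith @Etale φ)
    (W : V.left.Opens) (fst : (AlgSp.yon S).obj (Over.mk (W.ι ≫ V.hom)) ⟶ U)
    (sq : IsPullback fst ((AlgSp.yon S).map (Over.homMk W.ι rfl : Over.mk (W.ι ≫ V.hom) ⟶ V)) j φ) :
    CInt.IsSchematicallyDense W := by
  obtain ⟨hjo, V₀, φ₀, W₀, fst₀, hφ₀e, hφ₀s, sq₀, hW₀⟩ := hj
  obtain ⟨V', a, b₀, sq'⟩ := hφ₀e.1 φ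
  obtain ⟨b, rfl⟩ := (AlgSp.yon S).map_surjective b₀
  haveI : Etale a.left := hφ₀e.2 φ _ a sq'
  haveI : Surjective a.left := hφ₀s.2 φ _ a sq'
  haveI : Etale b.left := hφ.2 φ₀ _ b sq'.flip
  have hEq : a.left ⁻¹ᵁ W = b.left ⁻¹ᵁ W₀ := by
    ext x
    have h1 := Groth.Agent.Lib.T2H1.DenseOpen.mem_range_iff j φ fst (Over.homMk W.ι rfl) sq
      (a.left x)
    have h2 := Groth.Agent.Lib.T2H1.DenseOpen.mem_range_iff j φ₀ fst₀ (Over.homMk W₀.ι rfl) sq₀
      (b.left x)
    rw [← Groth.Agent.S10176.ofPt_map_comp] at h1 h2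
    rw [sq'.w] at h2
    have r1 : Set.range (Over.homMk W.ι rfl : Over.mk (W.ι ≫ V.hom) ⟶ V).left = (W : Set V.left) :=
      Scheme.Opens.range_ι W
    have r2 : Set.range (Over.homMk W₀.ι rfl : Over.mk (W₀.ι ≫ V₀.hom) ⟶ V₀).left =
        (W₀ : Set V₀.left) := Scheme.Opens.range_ι W₀
    rw [r1] at h1
    rw [r2] at h2
    exact h1.trans h2.symm
  apply isSchematicallyDense_of_preimage a.left W
  rw [hEq]
  exact isSchematicallyDense_preimage_of_etale b.left W₀ hW₀

end Groth.Agent.Lib.T2H7.EtDense
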