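import Mathlib
import Groth.Prelude.Def_CInt
import Groth.Prelude.Def_AlgSpSub
import Groth.Agent.Lib.T2H7EtDenseC
import Groth.Agent.Lib.Helper1SchDense

set_option autoImplicit false
set_option linter.unusedSectionVars false
set_option linter.unusedVariables false
set_option linter.style.haveILetI false

universe u

open CategoryTheory CategoryTheory.Limits AlgebraicGeometry Opposite TopologicalSpace

namespace Groth.Agent.Lib.T2H7.EtDense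

/-- the intersection of two schematically dense opens is schematically dense. -/
theorem isSchematicallyDense_inf {X : Scheme.{u}} (W₁ W₂ : X.Opens)
    (h₁ : CInt.IsSchematicallyDense W₁) (h₂ : CInt.IsSchematicallyDense W₂) :
    CInt.IsSchematicallyDense (W₁ ⊓ W₂) := by
  intro O
  have e : X.presheaf.map (homOfLE (inf_le_left : O ⊓ (W₁ ⊓ W₂) ≤ O)).op =
      X.presheaf.map (homOfLE (inf_le_left : O ⊓ W₁ ≤ O)).op ≫
        X.presheaf.map (homOfLE (inf_le_left : (O ⊓ W₁) ⊓ W₂ ≤ O ⊓ W₁)).op ≫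
          X.presheaf.map (homOfLE (le_of_eq (inf_assoc O W₁ W₂).symm :
            O ⊓ (W₁ ⊓ W₂) ≤ (O ⊓ W₁) ⊓ W₂)).op := by
    simp only [← Functor.map_comp]
    rfl
  rw [e]
  simp only [CommRingCat.hom_comp, RingHom.coe_comp]
  refine Function.Injective.comp ?_ (h₁ O)
  refine Function.Injective.comp ?_ (h₂ (O ⊓ W₁))
  have : IsIso (X.presheaf.map (homOfLE (le_of_eq (inf_assoc O W₁ W₂).symm :
      O ⊓ (W₁ ⊓ W₂) ≤ (O ⊓ W₁) ⊓ W₂)).op) := by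
    have : IsIso (homOfLE (le_of_eq (inf_assoc O W₁ W₂).symm :
      O ⊓ (W₁ ⊓ W₂) ≤ (O ⊓ W₁) ⊓ W₂)) :=
      ⟨homOfLE (le_of_eq (inf_assoc O W₁ W₂)), Subsingleton.elim _ _, Subsingleton.elim _ _⟩
    infer_instance
  exact ((ConcreteCategory.isIso_iff_bijective _).mp this).injective

variable {S : Scheme.{u}}

/-- **The intersection of two scheme theoretically dense open subspaces is scheme theoretically
dense.** -/
theorem isSchDense_inter {U V X P : AlgSp.Sp S} (jU : U ⟶ X) (jV : V ⟶ X)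
    (hU : AlgSp.IsSchDense jU) (hV : AlgSp.IsSchDense jV) (fst : P ⟶ U) (snd : P ⟶ V)
    (sq : IsPullback fst snd jU jV) : AlgSp.IsSchDense (fst ≫ jU) := by
  have hfo : AlgSp.RepWith @IsOpenImmersion fst :=
    (AlgSp.RepWith @IsOpenImmersion).of_isPullback sq.flip hV.1
  refine ⟨(AlgSp.RepWith @IsOpenImmersion).comp_mem _ _ hfo hU.1, ?_⟩
  obtain ⟨V₀, φ₀, W₁, fst₁, hφe, hφs, sq₁, hW₁⟩ := hU.2
  obtain ⟨W₂, fst₂, sq₂⟩ := Groth.Agent.Lib.Helper1.SchDense.exists_opens_pullback jV hV.1 φ₀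
  have hW₂ : CInt.IsSchematicallyDense W₂ :=
    isSchematicallyDense_chart jV hV V₀ φ₀ hφe W₂ fst₂ sq₂
  -- the scheme-level pullback square of the two opens
  let O₁ : Over S := Over.mk (W₁.ι ≫ V₀.hom)
  let O₂ : Over S := Over.mk (W₂.ι ≫ V₀.hom)
  let O₁₂ : Over S := Over.mk ((W₁ ⊓ W₂).ι ≫ V₀.hom)
  let ι₁ : O₁ ⟶ V₀ := Over.homMk W₁.ι rfl
  let ι₂ : O₂ ⟶ V₀ := Over.homMk W₂.ι rfl
  let ι₁₂ : O₁₂ ⟶ V₀ := Over.homMk (W₁ ⊓ W₂).ι rfl
  let p₁ : O₁₂ ⟶ O₁ := Over.homMk (V₀.left.homOfLE inf_le_left) (by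
    show V₀.left.homOfLE inf_le_left ≫ W₁.ι ≫ V₀.hom = (W₁ ⊓ W₂).ι ≫ V₀.hom
    rw [← Category.assoc, Scheme.homOfLE_ι])
  let p₂ : O₁₂ ⟶ O₂ := Over.homMk (V₀.left.homOfLE inf_le_right) (by
    show V₀.left.homOfLE inf_le_right ≫ W₂.ι ≫ V₀.hom = (W₁ ⊓ W₂).ι ≫ V₀.hom
    rw [← Category.assoc, Scheme.homOfLE_ι])
  have hp₁ : p₁ ≫ ι₁ = ι₁₂ := by
    ext
    exact Scheme.homOfLE_ι _ (inf_le_left : W₁ ⊓ W₂ ≤ W₁)
  have sqO : IsPullback p₁ p₂ ι₁ ι₂ :=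
    IsPullback.of_map (Over.forget S) (Over.OverMorphism.ext (isPullback_opens_inf W₁ W₂).w)
      (isPullback_opens_inf W₁ W₂)
  have sqA := sqO.map (AlgSp.yon S)
  -- paste with `sq₂`
  have sqB : IsPullback ((AlgSp.yon S).map p₂ ≫ fst₂) ((AlgSp.yon S).map p₁) jV
      ((AlgSp.yon S).map ι₁ ≫ φ₀) := sqA.flip.paste_horiz sq₂
  have hbot : (AlgSp.yon S).map ι₁ ≫ φ₀ = fst₁ ≫ jU := sq₁.w.symm
  rw [hbot] at sqB
  -- lift to `P`
  have hw : ((AlgSp.yon S).map p₁ ≫ fst₁) ≫ jU = ((AlgSp.yon S).map p₂ ≫ fst₂) ≫ jV := by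
    rw [Category.assoc]
    exact sqB.w.symm
  let fst' : (AlgSp.yon S).obj O₁₂ ⟶ P := sq.lift _ _ hw
  have hf1 : fst' ≫ fst = (AlgSp.yon S).map p₁ ≫ fst₁ := sq.lift_fst _ _ hw
  have hf2 : fst' ≫ snd = (AlgSp.yon S).map p₂ ≫ fst₂ := sq.lift_snd _ _ hw
  have sqC : IsPullback fst' ((AlgSp.yon S).map p₁) fst fst₁ := by
    refine IsPullback.of_right ?_ hf1 sq.flip
    rw [hf2]
    exact sqB
  have sqD : IsPullback fst' ((AlgSp.yon S).map p₁ ≫ (AlgSp.yon S).map ι₁) (fst ≫ jU) φ₀ :=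
    sqC.paste_vert sq₁
  rw [← Functor.map_comp, hp₁] at sqD
  exact ⟨V₀, φ₀, W₁ ⊓ W₂, fst', hφe, hφs, sqD, isSchematicallyDense_inf W₁ W₂ hW₁ hW₂⟩

end Groth.Agent.Lib.T2H7.EtDense
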