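import Mathlib
import Groth.Prelude.Def_CInt
import Groth.Prelude.Def_AlgSpSub
import Groth.Prelude.Def_AlgSpOX2
import Groth.Agent.Lib.T2H7EtDenseD
import Groth.Agent.Lib.Helper1SchDense
import Groth.Agent.Lib.Helper12SchDense

set_option autoImplicit false
set_option linter.unusedSectionVars false
set_option linter.unusedVariables false
set_option linter.style.haveILetI false

universe u

open CategoryTheory CategoryTheory.Limits AlgebraicGeometry Opposite TopologicalSpace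

namespace Groth.Agent.Lib.T2H7.EtDense

variable {S : Scheme.{u}}

/-- two schemes representing the same pullback are isomorphic. -/
theorem exists_iso_of_isPullback {U X : AlgSp.Sp S} (j : U ⟶ X) {T V₁ V₂ : Over S}
    (ψ : (AlgSp.yon S).obj T ⟶ X) (π₁ : V₁ ⟶ T) (π₂ : V₂ ⟶ T)
    (f₁ : (AlgSp.yon S).obj V₁ ⟶ U) (f₂ : (AlgSp.yon S).obj V₂ ⟶ U)
    (sq₁ : IsPullback f₁ ((AlgSp.yon S).map π₁) j ψ)
    (sq₂ : IsPullback f₂ ((AlgSp.yon S).map π₂) j ψ) :
    ∃ e : V₁ ≅ V₂, e.hom ≫ π₂ = π₁ := by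
  have ha1 : sq₂.lift f₁ ((AlgSp.yon S).map π₁) sq₁.w ≫ f₂ = f₁ := sq₂.lift_fst _ _ _
  have ha2 : sq₂.lift f₁ ((AlgSp.yon S).map π₁) sq₁.w ≫ (AlgSp.yon S).map π₂ =
      (AlgSp.yon S).map π₁ := sq₂.lift_snd _ _ _
  have hb1 : sq₁.lift f₂ ((AlgSp.yon S).map π₂) sq₂.w ≫ f₁ = f₂ := sq₁.lift_fst _ _ _
  have hb2 : sq₁.lift f₂ ((AlgSp.yon S).map π₂) sq₂.w ≫ (AlgSp.yon S).map π₁ =
      (AlgSp.yon S).map π₂ := sq₁.lift_snd _ _ _
  generalize sq₂.lift f₁ ((AlgSp.yon S).map π₁) sq₁.w = a at ha1 ha2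
  generalize sq₁.lift f₂ ((AlgSp.yon S).map π₂) sq₂.w = b at hb1 hb2
  have hab : a ≫ b = 𝟙 _ := by
    apply sq₁.hom_ext
    · rw [Category.assoc, hb1, ha1, Category.id_comp]
    · rw [Category.assoc, hb2, ha2, Category.id_comp]
  have hba : b ≫ a = 𝟙 _ := by
    apply sq₂.hom_ext
    · rw [Category.assoc, ha1, hb1, Category.id_comp]
    · rw [Category.assoc, ha2, hb2, Category.id_comp]
  refine ⟨⟨(AlgSp.yon S).preimage a, (AlgSp.yon S).preimage b, ?_, ?_⟩, ?_⟩
  · apply (AlgSp.yon S).map_injective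
    rw [Functor.map_comp, Functor.map_preimage, Functor.map_preimage, hab, CategoryTheory.Functor.map_id]
  · apply (AlgSp.yon S).map_injective
    rw [Functor.map_comp, Functor.map_preimage, Functor.map_preimage, hba, CategoryTheory.Functor.map_id]
  · apply (AlgSp.yon S).map_injective
    rw [Functor.map_comp, Functor.map_preimage]
    exact ha2

/-- for a scheme theoretically dense open subspace, functions on an etale chart inject into
functions on the inverse image of the open subspace. -/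
theorem appTop_injective_of_isSchDense {U X : AlgSp.Sp S} (j : U ⟶ X) (hD : AlgSp.IsSchDense j)
    {V V' : Over S} (φ : (AlgSp.yon S).obj V ⟶ X) (hφ : AlgSp.RepWith @Etale φ) (π : V' ⟶ V)
    (fst' : (AlgSp.yon S).obj V' ⟶ U) (sq : IsPullback fst' ((AlgSp.yon S).map π) j φ) :
    Function.Injective π.left.appTop.hom := by
  obtain ⟨W, fstW, sqW⟩ := Groth.Agent.Lib.Helper1.SchDense.exists_opens_pullback j hD.1 φ
  have hW := isSchematicallyDense_chart j hD V φ hφ W fstW sqW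
  obtain ⟨e, he⟩ := exists_iso_of_isPullback j (V₂ := Over.mk (W.ι ≫ V.hom)) φ π
    (Over.homMk W.ι rfl : Over.mk (W.ι ≫ V.hom) ⟶ V) fst' fstW sq sqW
  have h1 : π.left = e.hom.left ≫ W.ι := by rw [← he]; rfl
  have hiso : IsIso e.hom.left := (Over.forget S).map_isIso e.hom
  have hiso2 : IsIso e.hom.left.appTop := by
    show IsIso (e.hom.left.app ⊤)
    infer_instance
  have hinj1 : Function.Injective e.hom.left.appTop.hom :=
    ((ConcreteCategory.isIso_iff_bijective _).mp hiso2).injective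
  have hinj2 : Function.Injective (W.ι.app ⊤).hom :=
    (Groth.Agent.Lib.Helper1.SchDense.injective_app_iff W ⊤).2 (hW ⊤)
  have h2 : π.left.appTop = W.ι.appTop ≫ e.hom.left.appTop := by
    rw [h1, Scheme.Hom.comp_appTop]
  intro x y hxy
  have ex := congrArg (fun k => k.hom x) h2
  have ey := congrArg (fun k => k.hom y) h2
  have h3 : e.hom.left.appTop.hom (W.ι.appTop.hom x) = e.hom.left.appTop.hom (W.ι.appTop.hom y) :=
    ex.symm.trans (hxy.trans ey)
  exact hinj2 (hinj1 h3)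

theorem injective_app_of_eq {X : Scheme.{u}} (W : X.Opens) {O O' : X.Opens} (h : O' = O)
    (hi : Function.Injective (W.ι.app O').hom) : Function.Injective (W.ι.app O).hom := by
  subst h
  exact hi

/-- converse: injectivity on all etale charts gives scheme theoretic density. -/
theorem isSchDense_of_appTop_injective {U X : AlgSp.Sp S} (hX : AlgSp.IsAlgSpace X) (j : U ⟶ X)
    (hj : AlgSp.RepWith @IsOpenImmersion j)
    (H : ∀ {V V' : Over S} (φ : (AlgSp.yon S).obj V ⟶ X) (hφ : AlgSp.RepWith @Etale φ)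
      (π : V' ⟶ V) (fst' : (AlgSp.yon S).obj V' ⟶ U)
      (sq : IsPullback fst' ((AlgSp.yon S).map π) j φ), Function.Injective π.left.appTop.hom) :
    AlgSp.IsSchDense j := by
  obtain ⟨V₀, φ₀, hφe, hφs⟩ := hX.atlas
  obtain ⟨W₀, fst₀, sq₀⟩ := Groth.Agent.Lib.Helper1.SchDense.exists_opens_pullback j hj φ₀
  refine ⟨hj, V₀, φ₀, W₀, fst₀, hφe, hφs, sq₀, ?_⟩
  intro O
  have hgoal : Function.Injective (W₀.ι.app O).hom := by
    let TO : Over S := Over.mk (O.ι ≫ V₀.hom)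
    let TW : Over S := Over.mk (W₀.ι ≫ V₀.hom)
    let T' : Over S := Over.mk ((W₀.ι ⁻¹ᵁ O).ι ≫ W₀.ι ≫ V₀.hom)
    let ιO : TO ⟶ V₀ := Over.homMk O.ι rfl
    let ιW : TW ⟶ V₀ := Over.homMk W₀.ι rfl
    let q : T' ⟶ TW := Over.homMk (W₀.ι ⁻¹ᵁ O).ι rfl
    have sch := isPullback_morphismRestrict W₀.ι O
    let π : T' ⟶ TO := Over.homMk (W₀.ι ∣_ O) (by
      show (W₀.ι ∣_ O) ≫ O.ι ≫ V₀.hom = (W₀.ι ⁻¹ᵁ O).ι ≫ W₀.ι ≫ V₀.hom
      rw [← Category.assoc, sch.w, Category.assoc])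
    have sqO : IsPullback π q ιO ιW :=
      IsPullback.of_map (Over.forget S) (Over.OverMorphism.ext sch.w) sch
    have sqA := sqO.flip.map (AlgSp.yon S)
    have sqB : IsPullback ((AlgSp.yon S).map q ≫ fst₀) ((AlgSp.yon S).map π) j
        ((AlgSp.yon S).map ιO ≫ φ₀) := sqA.paste_horiz sq₀
    have hφO : AlgSp.RepWith @Etale ((AlgSp.yon S).map ιO ≫ φ₀) :=
      (AlgSp.RepWith @Etale).comp_mem _ _
        ((AlgSp.repWith_yon_map_iff _ _).2 (inferInstance : Etale O.ι)) hφe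
    have hinj := H _ hφO π _ sqB
    have h2 : π.left.appTop = W₀.ι.app (O.ι ''ᵁ ⊤) ≫
        W₀.toScheme.presheaf.map (eqToHom (image_morphismRestrict_preimage W₀.ι O ⊤)).op :=
      morphismRestrict_appTop W₀.ι O
    have hinj' : Function.Injective (W₀.ι.app (O.ι ''ᵁ ⊤)).hom := by
      intro x y hxy
      apply hinj
      have ex := congrArg (fun k : (Γ(TO.left, ⊤) ⟶ Γ(T'.left, ⊤)) => k.hom x) h2
      have ey := congrArg (fun k : (Γ(TO.left, ⊤) ⟶ Γ(T'.left, ⊤)) => k.hom y) h2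
      refine ex.trans (Eq.trans ?_ ey.symm)
      show (W₀.toScheme.presheaf.map (eqToHom (image_morphismRestrict_preimage W₀.ι O ⊤)).op).hom
          ((W₀.ι.app (O.ι ''ᵁ ⊤)).hom x) =
        (W₀.toScheme.presheaf.map (eqToHom (image_morphismRestrict_preimage W₀.ι O ⊤)).op).hom
          ((W₀.ι.app (O.ι ''ᵁ ⊤)).hom y)
      rw [hxy]
    exact injective_app_of_eq W₀ (Scheme.Opens.ι_image_top O) hinj'
  exact (Groth.Agent.Lib.Helper12.SchDense.injective_restrict_iff W₀ O).2 hgoal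

end Groth.Agent.Lib.T2H7.EtDense
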