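import Groth.Agent.Lib.T2H7MaxTorB
import Groth.Agent.Lib.Helper12Descent

/-!
The maximal torus of a group of multiplicative type and of finite type.
-/

set_option autoImplicit false
set_option linter.unusedSectionVars false
set_option linter.unusedVariables false
set_option linter.style.haveILetI false
universe u
open CategoryTheory CategoryTheory.Limits MonoidalCategory CartesianMonoidalCategory MonObj GrpObj
  AlgebraicGeometry

namespace Groth.Agent.Lib.T2H7.MaxTorC

open Groth.Agent.Lib.T2H7.DiagHomA Groth.Agent.Lib.T2H7.DiagHomB Groth.Agent.Lib.T2H3.MultGa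
  Groth.Agent.Lib.Helper27.GaGm Groth.Agent.Lib.T2H7.SchImg Groth.Agent.Lib.T2H7.MaxTorA
  Groth.Agent.Lib.T2H7.MaxTorB Groth.Agent.Lib.T2H7.MtModel Groth.Agent.Lib.T2H7.MtLocus
  Groth.Agent.Lib.T2H7.ImgLoc Groth.Agent.Lib.T2H7.ImgGlob Groth.Agent.Lib.T2H7.ToriMono
  Groth.Agent.Lib.T2H7.GrpIsoBC Groth.Agent.Lib.T2H7.DiagHomE Groth.Agent.Lib.T2H7.MaxSplit
  Groth.Agent.Lib.T2H3.SubGrpObj

section Charts

variable {S : Scheme.{u}} {H : Over S} [GrpObj H]

/-- a property of a morphism over `S` which is Zariski local on the base and descends along flat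
surjective quasi-compact base changes can be checked over the charts where a given group of
multiplicative type is diagonalisable. -/
theorem prop_of_charts (P : MorphismProperty Scheme.{u})
    [IsZariskiLocalAtTarget P] [P.DescendsAlong (@Surjective ⊓ @Flat ⊓ @QuasiCompact)]
    (hH : SGA3x.IsMultTypeFT H) {A B : Over S} (φ : A ⟶ B)
    (h : ∀ (Y : Scheme.{u}) (g : Y ⟶ S) (M : Type) (_ : AddCommGroup M), AddGroup.FG M →
      Red.IsSplitTorusWith M (Red.bc g H) → P ((Over.pullback g).map φ).left) : P φ.left := by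
  obtain ⟨S', f, hfl, hsj, hcov, hloc⟩ := hH
  haveI := hfl
  apply OverDescP.of_forall_exists P
  intro x
  obtain ⟨_, ⟨Xa, hXa, rfl⟩, hxXa, -⟩ :=
    S.isBasis_affineOpens.exists_subset_of_mem_open
      (show x ∈ ((⊤ : S.Opens) : Set _) from trivial) (⊤ : S.Opens).2
  have hXb : IsAffineOpen Xa := hXa
  refine ⟨Spec Γ(S, Xa), hXb.fromSpec, inferInstance, ?_, ?_⟩
  · rw [hXb.range_fromSpec]
    exact hxXa
  obtain ⟨W, hWc, hWi⟩ := hcov Xa hXb
  obtain ⟨p, hp, hpf, hps, hpq⟩ := cover_piece hXb.fromSpec f W hWc (by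
    rw [hWi, hXb.opensRange_fromSpec])
  haveI := hpf
  haveI := hps
  haveI := hpq
  apply OverDescP.of_fpqc P p
  rw [OverDescP.bc_comp_iff P p hXb.fromSpec rfl φ]
  apply OverDescP.of_forall_exists P
  intro w
  obtain ⟨U, hwU, M, instM, hFG, hs⟩ := hloc (W.ι w)
  refine ⟨_, (W.ι ⁻¹ᵁ U).ι, inferInstance, ?_, ?_⟩
  · rw [Scheme.Opens.range_ι]
    exact hwU
  rw [OverDescP.bc_comp_iff P (W.ι ⁻¹ᵁ U).ι (p ≫ hXb.fromSpec) rfl φ]
  refine h _ _ M instM hFG ?_
  have hr : Set.range ((W.ι ⁻¹ᵁ U).ι ≫ W.ι) ⊆ Set.range U.ι := by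
    rintro _ ⟨z, rfl⟩
    rw [Scheme.Opens.range_ι]
    exact z.2
  refine split_of_comp (IsOpenImmersion.lift U.ι ((W.ι ⁻¹ᵁ U).ι ≫ W.ι) hr) (U.ι ≫ f) ?_ H _ hs
  rw [← Category.assoc, IsOpenImmersion.lift_fac, Category.assoc, hp]

theorem quasiCompact_pw (hH : SGA3x.IsMultTypeFT H) (n : ℕ) : QuasiCompact (pw H n).left := by
  haveI := Groth.Agent.Lib.Helper12.descendsAlong_quasiCompact.{u}
  refine prop_of_charts (@QuasiCompact) hH (pw H n) ?_
  intro Y g M _ hFG hs
  obtain ⟨e, he⟩ := (nonempty_grpIso_iff _ _).1 hs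
  haveI := he
  rw [map_pw, pw_conj e n, Over.comp_left, Over.comp_left]
  haveI : IsIso e.hom.left := inferInstanceAs (IsIso ((Over.forget _).map e.hom))
  haveI : IsIso e.inv.left := inferInstanceAs (IsIso ((Over.forget _).map e.inv))
  haveI : IsAffineHom (pw (Red.DS Y M) n).left := isAffineHom_left _
  infer_instance

end Charts

section Grp

variable {S : Scheme.{u}} {H : Over S} [GrpObj H]

/-- local structure of `torObj H` over the charts of `H`. -/
theorem exists_chart_data (hH : SGA3x.IsMultTypeFT H) :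
    ∃ (S' : Scheme.{u}) (f : S' ⟶ S) (U : S' → S'.Opens), Flat f ∧ Surjective f ∧
      (∀ V : S.Opens, IsAffineOpen V → ∃ W : S'.Opens, IsCompact (W : Set S') ∧
        f.base '' (W : Set S') = (V : Set S)) ∧
      (∀ s', s' ∈ U s') ∧
      ∀ s' : S', ∃ (A : Type) (_ : AddCommGroup A)
        (c' : Red.DS ((U s' : S'.Opens) : Scheme.{u}) A ⟶ Red.bc ((U s').ι ≫ f) H)
        (θ : Red.bc ((U s').ι ≫ f) (torObj H) ≅ Red.DS ((U s' : S'.Opens) : Scheme.{u}) A)
        (r : ℕ), IsMonHom c' ∧ Mono c' ∧ Nonempty (A ≃+ (Fin r → ℤ)) ∧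
        θ.hom ≫ c' = (Over.pullback ((U s').ι ≫ f)).map (torInc H) := by
  have hqc := quasiCompact_pw hH
  obtain ⟨S', f, hfl, hsj, hcov, hloc⟩ := hH
  haveI := hfl
  choose U hU M instM hFG hs using hloc
  refine ⟨S', f, U, hfl, hsj, hcov, hU, fun s' => ?_⟩
  obtain ⟨e, he⟩ := (nonempty_grpIso_iff _ _).1 (hs s')
  haveI := he
  haveI := hFG s'
  obtain ⟨c₀, hc₀m, hc₀⟩ := exists_dsHom (T := ((U s' : S'.Opens) : Scheme.{u})) (pibar (M s'))
  haveI := hc₀m
  obtain ⟨θ, hθ⟩ := key H hqc ((U s').ι ≫ f) (M s') e c₀ hc₀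
  have hc₀cl : IsClosedImmersion c₀.left :=
    closedImm_of_surj (pibar (M s')) (pibar_surjective (M s')) c₀ hc₀
  haveI : Mono c₀ := mono_of_closedImm c₀ hc₀cl
  obtain ⟨r, hr⟩ := exists_equiv_fin (M s')
  exact ⟨Mbar (M s'), inferInstance, c₀ ≫ e.inv, θ, r, inferInstance, mono_comp _ _, hr, hθ⟩

theorem exists_one (hH : SGA3x.IsMultTypeFT H) :
    ∃ e : 𝟙_ (Over S) ⟶ torObj H, e ≫ torInc H = η[H] := by
  obtain ⟨S', f, U, hfl, hsj, hcov, hU, hdata⟩ := exists_chart_data hH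
  haveI := hfl
  haveI := hsj
  refine factors_of_charts f U hU (torInc H) η[H] (fun s' => ?_)
  obtain ⟨A, instA, c', θ, r, hc'm, hc'mono, hr, hθ⟩ := hdata s'
  haveI := hc'm
  refine ⟨(1 : _ ⟶ Red.DS _ A) ≫ θ.inv, ?_⟩
  rw [Category.assoc, ← hθ, Iso.inv_hom_id_assoc, MonObj.one_comp, MonObj.one_eq_one H,
    Functor.map_one]

theorem exists_mul (hH : SGA3x.IsMultTypeFT H) :
    ∃ m : torObj H ⊗ torObj H ⟶ torObj H,
      m ≫ torInc H = (torInc H ⊗ₘ torInc H) ≫ μ[H] := by
  obtain ⟨S', f, U, hfl, hsj, hcov, hU, hdata⟩ := exists_chart_data hH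
  haveI := hfl
  haveI := hsj
  refine factors_of_charts f U hU (torInc H) _ (fun s' => ?_)
  obtain ⟨A, instA, c', θ, r, hc'm, hc'mono, hr, hθ⟩ := hdata s'
  haveI := hc'm
  refine ⟨(((Over.pullback _).map (fst _ _) ≫ θ.hom) *
    ((Over.pullback _).map (snd _ _) ≫ θ.hom)) ≫ θ.inv, ?_⟩
  have hθ' : θ.inv ≫ (Over.pullback _).map (torInc H) = c' := by
    rw [← hθ, Iso.inv_hom_id_assoc]
  rw [Category.assoc, hθ', MonObj.mul_comp, Category.assoc, Category.assoc, hθ,
    tensorHom_mul_eq, Functor.map_mul, Functor.map_comp, Functor.map_comp]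

theorem exists_inv (hH : SGA3x.IsMultTypeFT H) :
    ∃ w : torObj H ⟶ torObj H, w ≫ torInc H = torInc H ≫ ι[H] := by
  obtain ⟨S', f, U, hfl, hsj, hcov, hU, hdata⟩ := exists_chart_data hH
  haveI := hfl
  haveI := hsj
  refine factors_of_charts f U hU (torInc H) _ (fun s' => ?_)
  obtain ⟨A, instA, c', θ, r, hc'm, hc'mono, hr, hθ⟩ := hdata s'
  haveI := hc'm
  refine ⟨(θ.hom)⁻¹ ≫ θ.inv, ?_⟩
  have hθ' : θ.inv ≫ (Over.pullback _).map (torInc H) = c' := by
    rw [← hθ, Iso.inv_hom_id_assoc]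
  rw [Category.assoc, hθ', GrpObj.inv_comp, hθ, ← Hom.inv_def, Functor.map_inv']

/-- the group structure on `torObj H`. -/
@[reducible]
noncomputable def torGrp (hH : SGA3x.IsMultTypeFT H) : GrpObj (torObj H) :=
  grpObjOfMono (torInc H) (exists_one hH).choose (exists_mul hH).choose (exists_inv hH).choose
    (exists_one hH).choose_spec (exists_mul hH).choose_spec (exists_inv hH).choose_spec

theorem isMonHom_torInc (hH : SGA3x.IsMultTypeFT H) :
    letI := torGrp hH
    IsMonHom (torInc H) :=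
  isMonHom_of_mono (torInc H) _ _ _ (exists_one hH).choose_spec (exists_mul hH).choose_spec
    (exists_inv hH).choose_spec

theorem isTorus_tor (hH : SGA3x.IsMultTypeFT H) :
    letI := torGrp hH
    Red.IsTorus (torObj H) := by
  letI := torGrp hH
  haveI := isMonHom_torInc hH
  obtain ⟨S', f, U, hfl, hsj, hcov, hU, hdata⟩ := exists_chart_data hH
  refine ⟨S', f, hfl, hsj, hcov, fun s' => ⟨U s', hU s', ?_⟩⟩
  obtain ⟨A, instA, c', θ, r, hc'm, hc'mono, ⟨er⟩, hθ⟩ := hdata s'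
  haveI := hc'm
  haveI := hc'mono
  haveI : IsMonHom θ.hom :=
    isMonHom_of_mono_fac ((Over.pullback _).map (torInc H)) c' θ.hom hθ
  obtain ⟨δ, hδm, hδ⟩ := exists_dsHom (T := ((U s' : S'.Opens) : Scheme.{u}))
    er.symm.toAddMonoidHom
  haveI := hδm
  haveI : IsIso δ := isIso_dsHom er.symm δ hδ
  refine ⟨r, (nonempty_grpIso_iff _ _).2 ⟨θ ≪≫ asIso δ, ?_⟩⟩
  show IsMonHom (θ.hom ≫ δ)
  infer_instance

end Grp

section Dom

variable {S₁ : Scheme.{u}} (R : Over S₁) [GrpObj R]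

/-- the power maps of a torus are scheme-theoretically dominant. -/
theorem isSchDom_pw_of_isTorus (hR : Red.IsTorus R) (n : ℕ) (hn : 0 < n) :
    IsSchemeTheoreticallyDominant (pw R n).left := by
  obtain ⟨S', f, hfl, hsj, hcov, hloc⟩ := hR
  haveI := hfl
  haveI := hsj
  choose U hU r hs using hloc
  rw [isSchemeTheoreticallyDominant_iff, ← le_bot_iff]
  have h := le_ker_of_charts f U hU R (pw R n).left.ker (𝟙 R.left) (fun s' => ?_)
  · rwa [Scheme.Hom.ker_eq_bot_of_isIso (𝟙 R.left)] at h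
  obtain ⟨g, hg⟩ : ∃ g : ((U s' : S'.Opens) : Scheme.{u}) ⟶ S₁, g = (U s').ι ≫ f := ⟨_, rfl⟩
  have hs' : Red.IsSplitTorusWith (Fin (r s') → ℤ) (Red.bc g R) := by rw [hg]; exact hs s'
  rw [← hg]
  obtain ⟨e, he⟩ := (nonempty_grpIso_iff _ _).1 hs'
  haveI := he
  rw [Category.comp_id]
  have hsd : IsSchemeTheoreticallyDominant ((Over.pullback g).map (pw R n)).left := by
    rw [map_pw, pw_conj e n, Over.comp_left, Over.comp_left]
    have hff := ff_of_inj (nsmulAddMonoidHom n : (Fin (r s') → ℤ) →+ (Fin (r s') → ℤ))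
      (nsmul_right_injective hn.ne')
      (pw (Red.DS ((U s' : S'.Opens) : Scheme.{u}) (Fin (r s') → ℤ)) n)
      (fun m => dsFn_pw _ _ n m)
    haveI : Flat (pw (Red.DS ((U s' : S'.Opens) : Scheme.{u}) (Fin (r s') → ℤ)) n).left := hff.1
    haveI : Surjective (pw (Red.DS ((U s' : S'.Opens) : Scheme.{u}) (Fin (r s') → ℤ)) n).left :=
      hff.2
    haveI : IsIso e.hom.left := inferInstanceAs (IsIso ((Over.forget _).map e.hom))
    haveI : IsIso e.inv.left := inferInstanceAs (IsIso ((Over.forget _).map e.inv))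
    haveI : Flat (e.hom.left ≫ (pw (Red.DS ((U s' : S'.Opens) : Scheme.{u})
      (Fin (r s') → ℤ)) n).left ≫ e.inv.left) := inferInstance
    haveI : Surjective (e.hom.left ≫ (pw (Red.DS ((U s' : S'.Opens) : Scheme.{u})
      (Fin (r s') → ℤ)) n).left ≫ e.inv.left) := inferInstance
    exact isSchDom_of_flat_surjective _
  rw [← ker_comp_of_isSchDom ((Over.pullback g).map (pw R n)).left (pullback.fst R.hom g),
    ActBC.pullback_map_left_fst g (pw R n)]
  exact Scheme.Hom.le_ker_comp _ _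

end Dom

section Factor

variable {S : Scheme.{u}} {H : Over S} [GrpObj H]

/-- every homomorphism from a group with scheme-theoretically dominant power maps factors through
`torObj H`. -/
theorem exists_factor {R : Over S} [GrpObj R] (j : R ⟶ H) [IsMonHom j]
    (hdom : ∀ n : ℕ, IsSchemeTheoreticallyDominant (pw R (n + 1)).left) :
    ∃ f : R ⟶ torObj H, f ≫ torInc H = j := by
  rw [factors_torInc_iff]
  intro n
  haveI := hdom n
  have hcomm : (pw R (n + 1)).left ≫ j.left = j.left ≫ (pw H (n + 1)).left := by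
    rw [← Over.comp_left, pw_comp_hom, Over.comp_left]
  rw [← ker_comp_of_isSchDom (pw R (n + 1)).left j.left, hcomm]
  exact Scheme.Hom.le_ker_comp _ _

end Factor

section Main

/-- **A group of multiplicative type and of finite type has a maximal torus, which contains every
subtorus.** -/
theorem main (S : Scheme.{u}) (H : Over S) [GrpObj H] (hH : SGA3x.IsMultTypeFT H) :
    ∃ (T : Over S) (_ : GrpObj T) (i : T ⟶ H), Red.IsMaximalTorus i ∧
      ∀ (R : Over S) [GrpObj R] (j : R ⟶ H) [IsMonHom j] [Mono j], Red.IsTorus R →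
        ∃ f : R ⟶ T, f ≫ i = j := by
  letI := torGrp hH
  haveI := isMonHom_torInc hH
  refine ⟨torObj H, torGrp hH, torInc H, ⟨inferInstance, inferInstance, isTorus_tor hH, ?_⟩, ?_⟩
  · intro s T' _ j _ _ f hT' hfj
    obtain ⟨f', hf'⟩ := exists_factor_bc (Red.geomPt s) j
      (fun n => isSchDom_pw_of_isTorus T' hT' (n + 1) (Nat.succ_pos n))
    haveI : Mono ((Over.pullback (Red.geomPt s)).map (torInc H)) := inferInstance
    refine ⟨f', ?_, ?_⟩
    · rw [← cancel_mono ((Over.pullback (Red.geomPt s)).map (torInc H)), Category.assoc, hf',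
        hfj, Category.id_comp]
    · rw [← cancel_mono j, Category.assoc, hfj, hf', Category.id_comp]
  · intro R _ j _ _ hR
    exact exists_factor j (fun n => isSchDom_pw_of_isTorus R hR (n + 1) (Nat.succ_pos n))

end Main

end Groth.Agent.Lib.T2H7.MaxTorC
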