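import Groth.Agent.Lib.T2H7FreeDiagC
import Groth.Agent.Lib.T2H7MaxTorC

/-!
Free actions of groups of multiplicative type on schemes affine over the base: the graph morphism
and the orbit morphisms are closed immersions.
-/

set_option autoImplicit false
set_option linter.unusedSectionVars false
set_option linter.unusedVariables false
set_option linter.style.haveILetI false
universe u
open CategoryTheory CategoryTheory.Limits MonoidalCategory CartesianMonoidalCategory MonObj GrpObj
  AlgebraicGeometry

namespace Groth.Agent.Lib.T2H7.FreeDiagD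

open Groth.Agent.Lib.T2H7.FreeDiagC Groth.Agent.Lib.T2H7.ToriMono Groth.Agent.Lib.T2H7.GrpIsoBC

section Charts

variable {S : Scheme.{u}} {G : Over S} [GrpObj G]

/-- a property of a morphism over `S` which is Zariski local on the base and descends along flat
surjective quasi-compact base changes can be checked over the affine charts where a given group of
multiplicative type is diagonalisable. -/
theorem prop_of_charts' (P : MorphismProperty Scheme.{u})
    [IsZariskiLocalAtTarget P] [P.DescendsAlong (@Surjective ⊓ @Flat ⊓ @QuasiCompact)]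
    (hG : TwC.Locally S TwC.Topology.fpqc (fun S' f => ∃ (M : Type) (_ : AddCommGroup M),
      Nonempty (Grp.mk (Red.bc f G) ≅ Grp.mk (Red.DS S' M)))) {A B : Over S} (φ : A ⟶ B)
    (h : ∀ (Y : Scheme.{u}) (g : Y ⟶ S) (M : Type) (_ : AddCommGroup M), IsAffine Y →
      Red.IsSplitTorusWith M (Red.bc g G) → P ((Over.pullback g).map φ).left) : P φ.left := by
  obtain ⟨S', f, hfl, hsj, hcov, hloc⟩ := hG
  haveI := hfl
  apply OverDescP.of_forall_exists P
  intro x
  obtain ⟨_, ⟨Xa, hXa, rfl⟩, hxXa, -⟩ :=
    S.isBasis_affineOpens.exists_subset_of_mem_open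
      (show x ∈ ((⊤ : S.Opens) : Set _) from trivial) (⊤ : S.Opens).2
  have hXb : IsAffineOpen Xa := hXa
  refine ⟨Spec Γ(S, Xa), hXb.fromSpec, inferInstance, ?_, ?_⟩
  · rw [hXb.range_fromSpec]
    exact hxXa
  obtain ⟨W, hWc, hWi⟩ := hcov Xa hXb
  obtain ⟨p, hp, hpf, hps, hpq⟩ := cover_piece hXb.fromSpec f W hWc (by
    rw [hWi, hXb.opensRange_fromSpec])
  haveI := hpf
  haveI := hps
  haveI := hpq
  apply OverDescP.of_fpqc P p
  rw [OverDescP.bc_comp_iff P p hXb.fromSpec rfl φ]
  apply OverDescP.of_forall_exists P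
  intro w
  obtain ⟨U, hwU, M, instM, hs⟩ := hloc (W.ι w)
  have hwU' : w ∈ W.ι ⁻¹ᵁ U := hwU
  obtain ⟨V, hV, hwV, hVU⟩ := exists_isAffineOpen_mem_and_subset hwU'
  refine ⟨_, V.ι, inferInstance, ?_, ?_⟩
  · rw [Scheme.Opens.range_ι]
    exact hwV
  rw [OverDescP.bc_comp_iff P V.ι (p ≫ hXb.fromSpec) rfl φ]
  haveI : IsAffine (V : Scheme.{u}) := hV
  refine h _ _ M instM inferInstance ?_
  have hr : Set.range (V.ι ≫ W.ι) ⊆ Set.range U.ι := by
    rintro _ ⟨z, rfl⟩
    rw [Scheme.Opens.range_ι]
    exact hVU z.2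
  refine split_of_comp (IsOpenImmersion.lift U.ι (V.ι ≫ W.ι) hr) (U.ι ≫ f) ?_ G _ hs
  rw [← Category.assoc, IsOpenImmersion.lift_fac, Category.assoc, hp]

end Charts

section BaseChange

variable {S Y : Scheme.{u}} (g : Y ⟶ S) {G X : Over S} [GrpObj G] (a : AlgGrp.Action G X)

/-- the graph of the base-changed action is the base change of the graph. -/
theorem graph_bc :
    lift (a.bc g).act (snd _ _) ≫ Functor.LaxMonoidal.μ (Over.pullback g) X X =
      Functor.LaxMonoidal.μ (Over.pullback g) G X ≫
        (Over.pullback g).map (lift a.act (snd G X)) := by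
  rw [← Functor.Monoidal.lift_μ, comp_lift_assoc, Functor.Monoidal.μ_snd, AlgGrp.Action.bc_act]

theorem homEquiv_one {T' : Over Y} :
    (Over.mapPullbackAdj g).homEquiv T' G (1 : (Over.map g).obj T' ⟶ G) = 1 := by
  have h := AlgGrp.Action.homEquiv_mul g (G := G) (T' := T') 1 1
  rw [_root_.one_mul] at h
  exact (mul_eq_left (a := (Over.mapPullbackAdj g).homEquiv T' G 1)).1 h.symm

/-- freeness is stable under base change. -/
theorem free_bc
    (hfree : ∀ (T : Over S) (c : T ⟶ G) (x : T ⟶ X), lift c x ≫ a.act = x → c = 1)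
    (T' : Over Y) (c : T' ⟶ Red.bc g G) (x : T' ⟶ Red.bc g X)
    (h : lift c x ≫ (a.bc g).act = x) : c = 1 := by
  obtain ⟨c₀, rfl⟩ := ((Over.mapPullbackAdj g).homEquiv T' G).surjective c
  obtain ⟨x₀, rfl⟩ := ((Over.mapPullbackAdj g).homEquiv T' X).surjective x
  rw [AlgGrp.Action.lift_homEquiv_bc_act] at h
  have h2 := ((Over.mapPullbackAdj g).homEquiv T' X).injective h
  rw [hfree _ c₀ x₀ h2]
  exact homEquiv_one g

end BaseChange

section Transport

variable {S : Scheme.{u}} {G D X : Over S} [GrpObj G] [GrpObj D] (a : AlgGrp.Action G X)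
  (e : G ≅ D) [IsMonHom e.hom]

theorem graph_restrict :
    lift a.act (snd G X) = (e.hom ▷ X) ≫ lift (a.restrict e.inv).act (snd D X) := by
  rw [comp_lift, AlgGrp.Action.restrict_act, ← comp_whiskerRight_assoc, Iso.hom_inv_id,
    id_whiskerRight, Category.id_comp, whiskerRight_snd]

theorem free_restrict
    (hfree : ∀ (T : Over S) (c : T ⟶ G) (x : T ⟶ X), lift c x ≫ a.act = x → c = 1)
    (T : Over S) (c : T ⟶ D) (x : T ⟶ X) (h : lift c x ≫ (a.restrict e.inv).act = x) :
    c = 1 := by
  rw [AlgGrp.Action.restrict_act, lift_whiskerRight_assoc] at h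
  have h1 := hfree T (c ≫ e.inv) x h
  have h2 : c = (c ≫ e.inv) ≫ e.hom := by
    rw [Category.assoc, Iso.inv_hom_id, Category.comp_id]
  rw [h2, h1, MonObj.one_comp]

end Transport

section Main

variable {S : Scheme.{u}} (G X : Over S) [GrpObj G]

/-- the graph morphism of a free action of a group of multiplicative type on a scheme affine over
the base is a closed immersion. -/
theorem isClosedImmersion_graph
    (hG : TwC.Locally S TwC.Topology.fpqc (fun S' f => ∃ (M : Type) (_ : AddCommGroup M),
      Nonempty (Grp.mk (Red.bc f G) ≅ Grp.mk (Red.DS S' M))))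
    (hX : IsAffineHom X.hom) (a : AlgGrp.Action G X)
    (hfree : ∀ (Y : Over S) (g : Y ⟶ G) (x : Y ⟶ X), lift g x ≫ a.act = x → g = 1) :
    IsClosedImmersion (lift a.act (snd G X)).left := by
  haveI := Groth.Agent.Lib.Helper12.descendsAlong_isClosedImmersion.{u}
  refine prop_of_charts' (@IsClosedImmersion) hG (lift a.act (snd G X)) ?_
  intro Y g M _ hY hs
  obtain ⟨e, he⟩ := (nonempty_grpIso_iff _ _).1 hs
  haveI := he
  haveI := hY
  haveI : IsAffineHom (Red.bc g X).hom :=
    MorphismProperty.pullback_snd (P := @IsAffineHom) X.hom g hX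
  haveI : IsAffine (Red.bc g X).left := isAffine_of_isAffineHom (Red.bc g X).hom
  have h3 := FreeDiagC.isClosedImmersion_graph ((a.bc g).restrict e.inv)
    (free_restrict (a.bc g) e (free_bc g a hfree))
  have h1 := graph_bc g a
  have h2 := graph_restrict (a.bc g) e
  have h4 : (Over.pullback g).map (lift a.act (snd G X)) =
      inv (Functor.LaxMonoidal.μ (Over.pullback g) G X) ≫
        ((e.hom ▷ Red.bc g X) ≫ lift ((a.bc g).restrict e.inv).act (snd _ _)) ≫
          Functor.LaxMonoidal.μ (Over.pullback g) X X := by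
    rw [← h2, h1, IsIso.inv_hom_id_assoc]
  rw [h4, Over.comp_left, Over.comp_left, Over.comp_left]
  haveI : IsIso (inv (Functor.LaxMonoidal.μ (Over.pullback g) G X)).left :=
    inferInstanceAs (IsIso ((Over.forget _).map (inv (Functor.LaxMonoidal.μ (Over.pullback g) G X))))
  haveI : IsIso (Functor.LaxMonoidal.μ (Over.pullback g) X X).left :=
    inferInstanceAs (IsIso ((Over.forget _).map (Functor.LaxMonoidal.μ (Over.pullback g) X X)))
  haveI : IsIso (e.hom ▷ Red.bc g X).left :=
    inferInstanceAs (IsIso ((Over.forget _).map (e.hom ▷ Red.bc g X)))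
  rw [MorphismProperty.cancel_left_of_respectsIso (P := @IsClosedImmersion),
    MorphismProperty.cancel_right_of_respectsIso (P := @IsClosedImmersion),
    MorphismProperty.cancel_left_of_respectsIso (P := @IsClosedImmersion)]
  exact h3

variable {G X}

/-- the orbit map is a base change of the graph morphism. -/
theorem isPullback_orbit (a : AlgGrp.Action G X) (σ : 𝟙_ (Over S) ⟶ X) :
    IsPullback (lift (𝟙 G) (toUnit G ≫ σ)) (a.orbitMap σ) (lift a.act (snd G X))
      (lift (𝟙 X) (toUnit X ≫ σ)) := by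
  have hcomm : lift (𝟙 G) (toUnit G ≫ σ) ≫ lift a.act (snd G X) =
      a.orbitMap σ ≫ lift (𝟙 X) (toUnit X ≫ σ) := by
    rw [comp_lift, comp_lift, lift_snd, Category.comp_id, ← Category.assoc,
      toUnit_unique (a.orbitMap σ ≫ toUnit X) (toUnit G)]
    rfl
  refine ⟨⟨hcomm⟩, ⟨PullbackCone.IsLimit.mk _ (fun s => s.fst ≫ fst G X) ?_ ?_ ?_⟩⟩
  · intro s
    have h1 := congrArg (fun k => k ≫ snd X X) s.condition
    simp only [Category.assoc, lift_snd] at h1
    rw [comp_lift, Category.comp_id, Category.assoc, ← Category.assoc (fst G X),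
      toUnit_unique (fst G X ≫ toUnit G) (toUnit (G ⊗ X)), ← Category.assoc,
      toUnit_unique (s.fst ≫ toUnit (G ⊗ X)) (s.snd ≫ toUnit X), Category.assoc, ← h1]
    apply CartesianMonoidalCategory.hom_ext
    · rw [lift_fst]
    · rw [lift_snd]
  · intro s
    have h1 := congrArg (fun k => k ≫ snd X X) s.condition
    simp only [Category.assoc, lift_snd] at h1
    have h2 := congrArg (fun k => k ≫ fst X X) s.condition
    simp only [Category.assoc, lift_fst, Category.comp_id] at h2
    rw [← h2]
    unfold AlgGrp.Action.orbitMap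
    rw [← Category.assoc]
    congr 1
    rw [comp_lift, Category.comp_id, Category.assoc, ← Category.assoc (fst G X),
      toUnit_unique (fst G X ≫ toUnit G) (toUnit (G ⊗ X)), ← Category.assoc,
      toUnit_unique (s.fst ≫ toUnit (G ⊗ X)) (s.snd ≫ toUnit X), Category.assoc, ← h1]
    apply CartesianMonoidalCategory.hom_ext
    · rw [lift_fst]
    · rw [lift_snd]
  · intro s m hm1 hm2
    rw [← hm1, Category.assoc, lift_fst, Category.comp_id]

theorem isClosedImmersion_orbit (a : AlgGrp.Action G X)
    (h : IsClosedImmersion (lift a.act (snd G X)).left) (σ : 𝟙_ (Over S) ⟶ X) :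
    IsClosedImmersion (a.orbitMap σ).left := by
  have hpb := (isPullback_orbit a σ).map (Over.forget S)
  exact MorphismProperty.of_isPullback (P := @IsClosedImmersion) hpb h

end Main

end Groth.Agent.Lib.T2H7.FreeDiagD
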