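import Mathlib

/-!
# Gluing ideal sheaves from a basis of good affine opens (helper7)

Given a down-closed family of `good` affine opens covering `Y` and ideals `I₀ V ⊆ Γ(Y, V)` which are
compatible with restriction from good opens, there is an ideal sheaf on `Y` with `𝓘.ideal V = I₀ V`
for all good `V`.
-/

set_option autoImplicit false
set_option linter.unusedSectionVars false
set_option linter.unusedVariables false
universe u
open CategoryTheory CategoryTheory.Limits AlgebraicGeometry Opposite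

namespace Groth.Agent.Lib.T2H7.IdealGlueLoc

/-- membership in an extended ideal of an `Away` localization -/
theorem exists_pow_mul_mem {R S : Type*} [CommRing R] [CommRing S] [Algebra R S] (g : R)
    [IsLocalization.Away g S] (I : Ideal R) (x : R)
    (hx : algebraMap R S x ∈ I.map (algebraMap R S)) : ∃ n : ℕ, g ^ n * x ∈ I := by
  rw [IsLocalization.mem_map_algebraMap_iff (Submonoid.powers g)] at hx
  obtain ⟨⟨i, ⟨_, m, rfl⟩⟩, h⟩ := hx
  dsimp only at h
  rw [← map_mul] at h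
  obtain ⟨⟨_, m', rfl⟩, hc⟩ := (IsLocalization.eq_iff_exists (Submonoid.powers g) S).mp h
  dsimp only at hc
  refine ⟨m' + m, ?_⟩
  have : g ^ (m' + m) * x = g ^ m' * (i : R) := by
    rw [pow_add, mul_assoc, mul_comm (g ^ m) x, hc]
  rw [this]
  exact Ideal.mul_mem_left _ _ i.2

variable {Y : Scheme.{u}} (good : Y.affineOpens → Prop)
  (I₀ : ∀ V : Y.affineOpens, Ideal Γ(Y, V.1))

/-- the stalk of the glued ideal sheaf -/
noncomputable def stalkIdeal (y : Y) : Ideal (Y.presheaf.stalk y) :=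
  ⨆ (V : Y.affineOpens) (_ : good V) (hy : y ∈ V.1), (I₀ V).map (Y.presheaf.germ V.1 y hy).hom

/-- the sections of the glued ideal sheaf -/
noncomputable def gluedIdeal (V : Y.affineOpens) : Ideal Γ(Y, V.1) :=
  ⨅ (y : Y) (hy : y ∈ V.1), (stalkIdeal good I₀ y).comap (Y.presheaf.germ V.1 y hy).hom

theorem mem_gluedIdeal {V : Y.affineOpens} {a : Γ(Y, V.1)} :
    a ∈ gluedIdeal good I₀ V ↔
      ∀ (y : Y) (hy : y ∈ V.1), Y.presheaf.germ V.1 y hy a ∈ stalkIdeal good I₀ y := by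
  simp [gluedIdeal]

variable (hdown : ∀ V W : Y.affineOpens, good V → W ≤ V → good W)
  (hcov : ∀ y : Y, ∃ V : Y.affineOpens, good V ∧ y ∈ V.1)
  (hcompat : ∀ (V W : Y.affineOpens) (h : W ≤ V), good V →
      (I₀ V).map (Y.presheaf.map (homOfLE h).op).hom = I₀ W)

include hdown hcov hcompat

theorem map_germ_eq_of_le {V W : Y.affineOpens} (h : W ≤ V) (hV : good V) (y : Y) (hy : y ∈ W.1) :
    (I₀ V).map (Y.presheaf.germ V.1 y (h hy)).hom = (I₀ W).map (Y.presheaf.germ W.1 y hy).hom := by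
  have e : Y.presheaf.map (homOfLE h).op ≫ Y.presheaf.germ W.1 y hy =
      Y.presheaf.germ V.1 y (h hy) := Y.presheaf.germ_res (homOfLE h) y hy
  rw [← hcompat V W h hV, Ideal.map_map, ← CommRingCat.hom_comp, e]

theorem stalkIdeal_eq {V : Y.affineOpens} (hV : good V) (y : Y) (hy : y ∈ V.1) :
    stalkIdeal good I₀ y = (I₀ V).map (Y.presheaf.germ V.1 y hy).hom := by
  apply le_antisymm
  · refine iSup_le fun V' => iSup_le fun hV' => iSup_le fun hy' => ?_
    -- a common smaller good affine open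
    obtain ⟨_, ⟨W, hW, rfl⟩, hyW, hWle⟩ := Y.isBasis_affineOpens.exists_subset_of_mem_open
      (show y ∈ ((V.1 ⊓ V'.1 : Y.Opens) : Set Y) from ⟨hy, hy'⟩) (V.1 ⊓ V'.1).2
    have hWV : (⟨W, hW⟩ : Y.affineOpens) ≤ V := fun z hz => (hWle hz).1
    have hWV' : (⟨W, hW⟩ : Y.affineOpens) ≤ V' := fun z hz => (hWle hz).2
    rw [map_germ_eq_of_le good I₀ hdown hcov hcompat hWV' hV' y hyW,
      map_germ_eq_of_le good I₀ hdown hcov hcompat hWV hV y hyW]
  · exact le_iSup_of_le V (le_iSup_of_le hV (le_iSup_of_le hy le_rfl))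

theorem gluedIdeal_eq_of_good {V : Y.affineOpens} (hV : good V) : gluedIdeal good I₀ V = I₀ V := by
  ext a
  rw [mem_gluedIdeal, V.2.mem_ideal_iff]
  refine forall_congr' fun y => forall_congr' fun hy => ?_
  rw [stalkIdeal_eq good I₀ hdown hcov hcompat hV y hy]

/-- a finite cover of an affine open by good basic opens -/
theorem exists_finite_good_cover (V : Y.affineOpens) :
    ∃ s : Finset Γ(Y, V.1), Ideal.span (s : Set Γ(Y, V.1)) = ⊤ ∧
      ∀ g ∈ s, good ⟨Y.basicOpen g, V.2.basicOpen g⟩ := by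
  have h1 : Ideal.span {g : Γ(Y, V.1) | good ⟨Y.basicOpen g, V.2.basicOpen g⟩} = ⊤ := by
    rw [← V.2.self_le_iSup_basicOpen_iff]
    intro y hy
    obtain ⟨V₀, hV₀, hyV₀⟩ := hcov y
    obtain ⟨g, hg, hyg⟩ := V.2.exists_basicOpen_le (V := V₀.1) ⟨y, hyV₀⟩ hy
    refine TopologicalSpace.Opens.mem_iSup.mpr ⟨⟨g, ?_⟩, hyg⟩
    exact hdown V₀ _ hV₀ hg
  obtain ⟨s, hs, hs'⟩ := (Ideal.span_eq_top_iff_finite _).mp h1
  exact ⟨s, hs', fun g hg => hs hg⟩

/-- restriction of a section of `V` to a good basic open lands in `I₀` after multiplying with a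
power of `g`, provided it does so on `D(g)`. -/
theorem exists_pow_mul_res_mem (V : Y.affineOpens) (g : Γ(Y, V.1))
    (hW : good ⟨Y.basicOpen g, V.2.basicOpen g⟩) (c' : Γ(Y, V.1))
    (hc' : Y.presheaf.map (homOfLE (Y.basicOpen_le g)).op c' ∈ I₀ ⟨Y.basicOpen g, V.2.basicOpen g⟩)
    (gk : Γ(Y, V.1)) (hk : good ⟨Y.basicOpen gk, V.2.basicOpen gk⟩) :
    ∃ N : ℕ, Y.presheaf.map (homOfLE (Y.basicOpen_le gk)).op (g ^ N * c') ∈
      I₀ ⟨Y.basicOpen gk, V.2.basicOpen gk⟩ := by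
  -- notation
  obtain ⟨gW, hgW⟩ : ∃ gW : Γ(Y, Y.basicOpen gk),
    gW = Y.presheaf.map (homOfLE (Y.basicOpen_le gk)).op g := ⟨_, rfl⟩
  have hle1 : Y.basicOpen gW ≤ Y.basicOpen gk := Y.basicOpen_le gW
  have hle2 : Y.basicOpen gW ≤ Y.basicOpen g := by
    rw [hgW, Y.basicOpen_res]; exact inf_le_right
  have hloc := (V.2.basicOpen gk).isLocalization_basicOpen gW
  have hcomp1 := hcompat ⟨Y.basicOpen gk, V.2.basicOpen gk⟩
    ⟨Y.basicOpen gW, (V.2.basicOpen gk).basicOpen gW⟩ hle1 hk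
  have hcomp2 := hcompat ⟨Y.basicOpen g, V.2.basicOpen g⟩
    ⟨Y.basicOpen gW, (V.2.basicOpen gk).basicOpen gW⟩ hle2 hW
  have hmem : algebraMap Γ(Y, Y.basicOpen gk) Γ(Y, Y.basicOpen gW)
      (Y.presheaf.map (homOfLE (Y.basicOpen_le gk)).op c') ∈
      (I₀ ⟨Y.basicOpen gk, V.2.basicOpen gk⟩).map
        (algebraMap Γ(Y, Y.basicOpen gk) Γ(Y, Y.basicOpen gW)) := by
    have e1 : algebraMap Γ(Y, Y.basicOpen gk) Γ(Y, Y.basicOpen gW)
        (Y.presheaf.map (homOfLE (Y.basicOpen_le gk)).op c') =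
        Y.presheaf.map (homOfLE hle2).op (Y.presheaf.map (homOfLE (Y.basicOpen_le g)).op c') := by
      rw [RingHom.algebraMap_toAlgebra]
      rw [← CommRingCat.comp_apply, ← CommRingCat.comp_apply, ← Functor.map_comp,
        ← Functor.map_comp]
      rfl
    rw [e1]
    have : (I₀ ⟨Y.basicOpen gk, V.2.basicOpen gk⟩).map
        (algebraMap Γ(Y, Y.basicOpen gk) Γ(Y, Y.basicOpen gW)) =
        I₀ ⟨Y.basicOpen gW, (V.2.basicOpen gk).basicOpen gW⟩ := hcomp1
    rw [this, ← hcomp2]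
    exact Ideal.mem_map_of_mem _ hc'
  obtain ⟨N, hN⟩ := exists_pow_mul_mem gW (I₀ ⟨Y.basicOpen gk, V.2.basicOpen gk⟩) _ hmem
  refine ⟨N, ?_⟩
  rw [map_mul, map_pow, ← hgW]
  exact hN

theorem stalkIdeal_le_map_gluedIdeal (V : Y.affineOpens) (x : Y) (hx : x ∈ V.1) :
    stalkIdeal good I₀ x ≤ (gluedIdeal good I₀ V).map (Y.presheaf.germ V.1 x hx).hom := by
  classical
  obtain ⟨V₀, hV₀, hxV₀⟩ := hcov x
  obtain ⟨g, hg, hxg⟩ := V.2.exists_basicOpen_le (V := V₀.1) ⟨x, hxV₀⟩ hx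
  have hW : good ⟨Y.basicOpen g, V.2.basicOpen g⟩ := hdown V₀ _ hV₀ hg
  rw [stalkIdeal_eq good I₀ hdown hcov hcompat hW x hxg, Ideal.map_le_iff_le_comap]
  intro c hc
  rw [Ideal.mem_comap]
  have hloc := V.2.isLocalization_basicOpen g
  obtain ⟨n, c', hcc'⟩ := IsLocalization.Away.surj g c
  rw [RingHom.algebraMap_toAlgebra] at hcc'
  -- `c'` restricted to `D(g)` lies in `I₀`
  have hc'mem : Y.presheaf.map (homOfLE (Y.basicOpen_le g)).op c' ∈
      I₀ ⟨Y.basicOpen g, V.2.basicOpen g⟩ := by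
    rw [← hcc']
    exact Ideal.mul_mem_right _ _ hc
  obtain ⟨s, hs, hsgood⟩ := exists_finite_good_cover good I₀ hdown hcov hcompat V
  have hN : ∀ gk : Γ(Y, V.1), ∃ N : ℕ, gk ∈ s →
      Y.presheaf.map (homOfLE (Y.basicOpen_le gk)).op (g ^ N * c') ∈
        I₀ ⟨Y.basicOpen gk, V.2.basicOpen gk⟩ := by
    intro gk
    by_cases hgk : gk ∈ s
    · obtain ⟨N, hN⟩ := exists_pow_mul_res_mem good I₀ hdown hcov hcompat V g hW c' hc'mem gk
        (hsgood gk hgk)
      exact ⟨N, fun _ => hN⟩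
    · exact ⟨0, fun h => absurd h hgk⟩
  choose N hN using hN
  obtain ⟨M, hM⟩ : ∃ M : ℕ, ∀ gk ∈ s, N gk ≤ M := ⟨s.sup N, fun gk hgk => Finset.le_sup hgk⟩
  -- the global section
  have ha : g ^ M * c' ∈ gluedIdeal good I₀ V := by
    rw [mem_gluedIdeal]
    intro y hy
    have hcover : V.1 ≤ ⨆ f : (s : Set Γ(Y, V.1)), Y.basicOpen f.1 :=
      V.2.self_le_iSup_basicOpen_iff.mpr hs
    obtain ⟨⟨gk, hgk⟩, hygk⟩ := TopologicalSpace.Opens.mem_iSup.mp (hcover hy)
    have hgk' : gk ∈ s := hgk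
    rw [stalkIdeal_eq good I₀ hdown hcov hcompat (hsgood gk hgk') y hygk]
    have e : Y.presheaf.germ V.1 y hy (g ^ M * c') =
        Y.presheaf.germ (Y.basicOpen gk) y hygk
          (Y.presheaf.map (homOfLE (Y.basicOpen_le gk)).op (g ^ M * c')) := by
      rw [← CommRingCat.comp_apply, Y.presheaf.germ_res]
    rw [e]
    apply Ideal.mem_map_of_mem
    have : g ^ M * c' = g ^ (M - N gk) * (g ^ N gk * c') := by
      rw [← mul_assoc, ← pow_add, Nat.sub_add_cancel (hM gk hgk')]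
    rw [this, map_mul]
    exact Ideal.mul_mem_left _ _ (hN gk hgk')
  have h1 := Ideal.mem_map_of_mem (Y.presheaf.germ V.1 x hx).hom ha
  have e2 : Y.presheaf.germ V.1 x hx c' =
      Y.presheaf.germ (Y.basicOpen g) x hxg c * (Y.presheaf.germ V.1 x hx g) ^ n := by
    have : Y.presheaf.germ V.1 x hx c' = Y.presheaf.germ (Y.basicOpen g) x hxg
        (Y.presheaf.map (homOfLE (Y.basicOpen_le g)).op c') := by
      rw [← CommRingCat.comp_apply, Y.presheaf.germ_res]
    rw [this, ← hcc', map_mul, map_pow, ← CommRingCat.comp_apply, Y.presheaf.germ_res]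
  have hu : IsUnit (Y.presheaf.germ V.1 x hx g) := (Y.mem_basicOpen g x hx).mp hxg
  have e3 : (Y.presheaf.germ V.1 x hx).hom (g ^ M * c') =
      ((Y.presheaf.germ V.1 x hx g) ^ (M + n)) * Y.presheaf.germ (Y.basicOpen g) x hxg c := by
    change Y.presheaf.germ V.1 x hx (g ^ M * c') = _
    rw [map_mul, map_pow, e2, pow_add]
    ring
  rw [e3] at h1
  exact (Ideal.unit_mul_mem_iff_mem _ (hu.pow _)).mp h1

theorem map_gluedIdeal_germ (V : Y.affineOpens) (x : Y) (hx : x ∈ V.1) :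
    (gluedIdeal good I₀ V).map (Y.presheaf.germ V.1 x hx).hom = stalkIdeal good I₀ x := by
  apply le_antisymm
  · rw [Ideal.map_le_iff_le_comap]
    intro a ha
    exact (mem_gluedIdeal good I₀).mp ha x hx
  · exact stalkIdeal_le_map_gluedIdeal good I₀ hdown hcov hcompat V x hx

/-- **Gluing ideal sheaves from a basis of good affine opens.** -/
theorem exists_idealSheafData :
    ∃ 𝓘 : Y.IdealSheafData, ∀ V, good V → 𝓘.ideal V = I₀ V := by
  refine ⟨{ ideal := gluedIdeal good I₀, map_ideal_basicOpen := ?_ },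
    fun V hV => gluedIdeal_eq_of_good good I₀ hdown hcov hcompat hV⟩
  intro V f
  change (gluedIdeal good I₀ V).map (Y.presheaf.map (homOfLE (Y.basicOpen_le f)).op).hom =
    gluedIdeal good I₀ ⟨Y.basicOpen f, V.2.basicOpen f⟩
  rw [(V.2.basicOpen f).ideal_ext_iff]
  intro x hxf
  rw [map_gluedIdeal_germ good I₀ hdown hcov hcompat ⟨Y.basicOpen f, V.2.basicOpen f⟩ x hxf,
    Ideal.map_map, ← CommRingCat.hom_comp]
  have e : Y.presheaf.map (homOfLE (Y.basicOpen_le f)).op ≫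
      Y.presheaf.germ (Y.basicOpen f) x hxf =
      Y.presheaf.germ V.1 x (Y.basicOpen_le f hxf) := Y.presheaf.germ_res _ x hxf
  rw [e]
  exact map_gluedIdeal_germ good I₀ hdown hcov hcompat V x _

end Groth.Agent.Lib.T2H7.IdealGlueLoc
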