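import Mathlib
import Groth.Agent.Lib.T2H7WeilClosed
import Groth.Agent.Lib.T2H7IdealGlueLoc

/-!
# Weil restriction of closed subschemes along affine morphisms with locally projective sections
(helper7)

Generalisation of `T2H7WeilClosed`: projectivity of the sections of `p : P ⟶ T` is only required
over a down-closed covering family of `good` affine opens of `T`.
-/

set_option autoImplicit false
set_option linter.unusedSectionVars false
set_option linter.unusedVariables false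
set_option linter.style.haveILetI false
universe u
open CategoryTheory CategoryTheory.Limits AlgebraicGeometry

namespace Groth.Agent.Lib.T2H7.WeilClosedLoc

open Groth.Agent.Lib.T2H7.WeilClosed Groth.Agent.Lib.T2H7.IdealGlueLoc

variable {P T : Scheme.{u}} (p : P ⟶ T) [IsAffineHom p]

/-- sections of `P` over the preimage of the affine open `U` form a projective module -/
def SectionsProjectiveAt (U : T.affineOpens) : Prop :=
  letI := (p.app U.1).hom.toAlgebra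
  Module.Projective Γ(T, U.1) Γ(P, p ⁻¹ᵁ U.1)

variable {p}

theorem weilIdealFun_map' {T' P' : Scheme.{u}} {g : T' ⟶ T} {fst : P' ⟶ P} {snd : P' ⟶ T'}
    [IsAffineHom snd] (H : IsPullback fst snd p g) (U : T.affineOpens)
    (hpU : SectionsProjectiveAt p U)
    (𝓙 : P.IdealSheafData) (U' : T'.affineOpens)
    (hUU' : U'.1 ≤ g ⁻¹ᵁ U.1) :
    (weilIdealFun p 𝓙 U).map (g.appLE U.1 U'.1 hUU').hom =
      weilIdealFun snd (𝓙.comap fst) U' := by
  have hle : snd ⁻¹ᵁ U'.1 ≤ fst ⁻¹ᵁ (p ⁻¹ᵁ U.1) := by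
    rw [← Scheme.Hom.comp_preimage, H.w, Scheme.Hom.comp_preimage]
    exact Scheme.Hom.preimage_mono snd hUU'
  have hUY : snd ⁻¹ᵁ U'.1 = fst ⁻¹ᵁ (p ⁻¹ᵁ U.1) ⊓ snd ⁻¹ᵁ U'.1 := (inf_eq_right.mpr hle).symm
  have hpush := (isIso_pushoutSection_iff H hUU' (le_refl _) hUY).mp
    (isIso_pushoutSection_of_isAffineOpen H hUU' (le_refl _) hUY U.2 U'.2 (U.2.preimage p))
  have e1 : p.appLE U.1 (p ⁻¹ᵁ U.1) (le_refl _) = p.app U.1 := Scheme.Hom.appLE_eq_app p
  have e2 : snd.appLE U'.1 (snd ⁻¹ᵁ U'.1) (le_refl _) = snd.app U'.1 := Scheme.Hom.appLE_eq_app snd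
  have key := coordIdeal'_map hpush (by rw [e1]; exact hpU) (𝓙.ideal ⟨p ⁻¹ᵁ U.1, U.2.preimage p⟩)
  rw [weilIdealFun, weilIdealFun,
    Groth.Agent.Lib.Helper20.EffCartier.ideal_comap_eq_map fst 𝓙 (U'.2.preimage snd)
      (U.2.preimage p) hle]
  rw [e1, e2] at key
  exact key

/-- **Weil restriction of a closed subscheme along an affine morphism whose sections are
projective over a basis of good affine opens** (ideal sheaf form). -/
theorem exists_weilIdeal_loc (good : T.affineOpens → Prop)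
    (hdown : ∀ V W : T.affineOpens, good V → W ≤ V → good W)
    (hcov : ∀ y : T, ∃ V : T.affineOpens, good V ∧ y ∈ V.1)
    (hproj : ∀ U, good U → SectionsProjectiveAt p U) (𝓙 : P.IdealSheafData) :
    ∃ 𝓩 : T.IdealSheafData, ∀ {T' P' : Scheme.{u}} (g : T' ⟶ T) (fst : P' ⟶ P) (snd : P' ⟶ T'),
      IsPullback fst snd p g → (𝓩.comap g = ⊥ ↔ 𝓙.comap fst = ⊥) := by
  have hcompat : ∀ (V W : T.affineOpens) (h : W ≤ V), good V →
      (weilIdealFun p 𝓙 V).map (T.presheaf.map (homOfLE h).op).hom = weilIdealFun p 𝓙 W := by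
    intro V W h hV
    have H : IsPullback (𝟙 P) p p (𝟙 T) := IsPullback.id_horiz p
    have h1 := weilIdealFun_map' H V (hproj V hV) 𝓙 W h
    rw [Scheme.IdealSheafData.comap_id] at h1
    rw [← h1]
    congr 2
  obtain ⟨𝓩, h𝓩⟩ := exists_idealSheafData good (weilIdealFun p 𝓙) hdown hcov hcompat
  refine ⟨𝓩, fun {T' P'} g fst snd H => ?_⟩
  haveI : IsAffineHom snd := MorphismProperty.of_isPullback H inferInstance
  let ι := {q : T.affineOpens × T'.affineOpens // good q.1 ∧ q.2.1 ≤ g ⁻¹ᵁ q.1.1}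
  have hcov' : ⨆ q : ι, (q.1.2 : T'.Opens) = ⊤ := by
    rw [eq_top_iff]
    intro x _
    obtain ⟨U, hUgood, hxU⟩ := hcov (g x)
    obtain ⟨_, ⟨U', hU', rfl⟩, hxU', hU'U⟩ := T'.isBasis_affineOpens.exists_subset_of_mem_open
      (show x ∈ ((g ⁻¹ᵁ U.1 : T'.Opens) : Set T') from hxU) (g ⁻¹ᵁ U.1).2
    exact TopologicalSpace.Opens.mem_iSup.mpr ⟨⟨(U, ⟨U', hU'⟩), hUgood, hU'U⟩, hxU'⟩
  have hcovP : ⨆ q : ι, (snd ⁻¹ᵁ (q.1.2 : T'.Opens)) = ⊤ := by
    rw [← Scheme.Hom.preimage_iSup, hcov', Scheme.Hom.preimage_top]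
  have hlePQ : ∀ q : ι, snd ⁻¹ᵁ q.1.2.1 ≤ fst ⁻¹ᵁ (p ⁻¹ᵁ q.1.1.1) := by
    intro q
    rw [← Scheme.Hom.comp_preimage, H.w, Scheme.Hom.comp_preimage]
    exact Scheme.Hom.preimage_mono snd q.2.2
  have hideal : ∀ q : ι, (𝓩.comap g).ideal q.1.2 =
      weilIdealFun snd (𝓙.comap fst) q.1.2 := by
    intro q
    rw [Groth.Agent.Lib.Helper20.EffCartier.ideal_comap_eq_map g _ q.1.2.2 q.1.1.2 q.2.2]
    have := weilIdealFun_map' H q.1.1 (hproj _ q.2.1) 𝓙 q.1.2 q.2.2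
    rw [← this]
    congr 1
    exact h𝓩 q.1.1 q.2.1
  constructor
  · intro h
    refine eq_bot_iff.mpr (Scheme.IdealSheafData.le_of_iSup_eq_top
      (fun q : ι => ⟨snd ⁻¹ᵁ q.1.2.1, q.1.2.2.preimage snd⟩) hcovP fun q => ?_)
    change (𝓙.comap fst).ideal ⟨snd ⁻¹ᵁ q.1.2.1, q.1.2.2.preimage snd⟩ ≤ ⊥
    rw [Groth.Agent.Lib.Helper20.EffCartier.ideal_comap_eq_map fst 𝓙 (q.1.2.2.preimage snd)
      (q.1.1.2.preimage p) (hlePQ q)]
    have h1 := le_map_coordIdeal' (p.app q.1.1.1) (hproj _ q.2.1)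
      (𝓙.ideal ⟨p ⁻¹ᵁ q.1.1.1, q.1.1.2.preimage p⟩)
    have h2 := Ideal.map_mono (f := (fst.appLE _ _ (hlePQ q)).hom) h1
    rw [Ideal.map_map, ← CommRingCat.hom_comp, appLE_comm H _ _ q.2.2, CommRingCat.hom_comp,
      ← Ideal.map_map] at h2
    have h3 : (weilIdealFun p 𝓙 q.1.1).map (g.appLE _ _ q.2.2).hom = ⊥ := by
      have h4 := Groth.Agent.Lib.Helper20.EffCartier.ideal_comap_eq_map g 𝓩 q.1.2.2
        q.1.1.2 q.2.2
      rw [h, h𝓩 q.1.1 q.2.1] at h4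
      exact h4.symm
    rw [show coordIdeal' (p.app q.1.1.1) (𝓙.ideal ⟨p ⁻¹ᵁ q.1.1.1, q.1.1.2.preimage p⟩) =
      weilIdealFun p 𝓙 q.1.1 from rfl, h3, Ideal.map_bot] at h2
    exact h2
  · intro h
    refine Scheme.IdealSheafData.ext_of_iSup_eq_top (fun q : ι => q.1.2) hcov' fun q => ?_
    rw [hideal q, weilIdealFun, h]
    exact coordIdeal'_bot _

/-- **Weil restriction of a closed subscheme**, morphism form. -/
theorem exists_weilRestriction_loc {E : Scheme.{u}} (good : T.affineOpens → Prop)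
    (hdown : ∀ V W : T.affineOpens, good V → W ≤ V → good W)
    (hcov : ∀ y : T, ∃ V : T.affineOpens, good V ∧ y ∈ V.1)
    (hproj : ∀ U, good U → SectionsProjectiveAt p U) (ε : E ⟶ P) [IsClosedImmersion ε] :
    ∃ (Z : Scheme.{u}) (j : Z ⟶ T), IsClosedImmersion j ∧
      ∀ {T' P' : Scheme.{u}} (g : T' ⟶ T) (fst : P' ⟶ P) (snd : P' ⟶ T'),
        IsPullback fst snd p g → ((∃ t : T' ⟶ Z, t ≫ j = g) ↔ ∃ l : P' ⟶ E, l ≫ ε = fst) := by
  obtain ⟨𝓩, h𝓩⟩ := exists_weilIdeal_loc good hdown hcov hproj ε.ker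
  refine ⟨𝓩.subscheme, 𝓩.subschemeι, inferInstance, fun g fst snd H => ?_⟩
  rw [exists_lift_iff_comap_eq_bot, exists_lift_iff_comap_eq_bot,
    Scheme.IdealSheafData.ker_subschemeι]
  exact h𝓩 g fst snd H

end Groth.Agent.Lib.T2H7.WeilClosedLoc
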