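import Mathlib
import Groth.Agent.Lib.T2H7WeilClosed
import Groth.Agent.Lib.Helper12Cart

/-!
# Weil restriction of closed subschemes, `Over S` forms (helper7)

For `Y` finite locally free over `S`, `G` any `S`-scheme and a closed subscheme `E` of `G ×_S Y`,
the functor of points `g` of `G` with `g × Y` factoring through `E` is a closed subscheme of `G`.
Equalizer forms for pairs of morphisms `G ⊗ Y ⟶ W` (resp. `Y ⊗ G ⟶ W`) with `W` separated over `S`.
-/

set_option autoImplicit false
set_option linter.unusedSectionVars false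
set_option linter.unusedVariables false
set_option linter.style.haveILetI false
universe u
open CategoryTheory CategoryTheory.Limits AlgebraicGeometry MonoidalCategory CartesianMonoidalCategory

namespace Groth.Agent.Lib.T2H7.WeilClosedOver

open Groth.Agent.Lib.T2H7.WeilClosed

variable {S : Scheme.{u}}

/-- right-hand version: closed subscheme `E` of `G ⊗ Y`, `Y` finite locally free. -/
theorem exists_closed_right (G Y : Over S) [IsFinite Y.hom] [Flat Y.hom]
    [LocallyOfFinitePresentation Y.hom] {E : Scheme.{u}} (ε : E ⟶ (G ⊗ Y).left)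
    [IsClosedImmersion ε] :
    ∃ (C : Over S) (c : C ⟶ G), IsClosedImmersion c.left ∧
      ∀ (X : Over S) (g : X ⟶ G), (∃ z : X ⟶ C, z ≫ c = g) ↔
        ∃ l : (X ⊗ Y).left ⟶ E, l ≫ ε = (g ▷ Y).left := by
  have hpb : IsPullback (snd G Y).left (fst G Y).left Y.hom G.hom :=
    (IsPullback.of_hasPullback G.hom Y.hom).flip
  haveI : IsFinite (fst G Y).left := MorphismProperty.of_isPullback hpb ‹_›
  haveI : Flat (fst G Y).left := MorphismProperty.of_isPullback hpb ‹_›
  haveI : LocallyOfFinitePresentation (fst G Y).left := MorphismProperty.of_isPullback hpb ‹_›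
  obtain ⟨Z, j, hj, hZ⟩ := exists_weilRestriction (fst G Y).left ε
  refine ⟨Over.mk (j ≫ G.hom), Over.homMk j rfl, hj, fun X g => ?_⟩
  have H := (Groth.Agent.Lib.Helper12.isPullback_whiskerRight Y g).map (Over.forget S)
  rw [← hZ g.left (g ▷ Y).left (fst X Y).left H]
  constructor
  · rintro ⟨z, rfl⟩
    exact ⟨z.left, rfl⟩
  · rintro ⟨t, ht⟩
    refine ⟨Over.homMk t ?_, ?_⟩
    · change t ≫ j ≫ G.hom = X.hom
      rw [← Category.assoc, ht, Over.w g]
    · ext1
      exact ht

/-- left-hand version: closed subscheme `E` of `Y ⊗ G`, `Y` finite locally free. -/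
theorem exists_closed_left (G Y : Over S) [IsFinite Y.hom] [Flat Y.hom]
    [LocallyOfFinitePresentation Y.hom] {E : Scheme.{u}} (ε : E ⟶ (Y ⊗ G).left)
    [IsClosedImmersion ε] :
    ∃ (C : Over S) (c : C ⟶ G), IsClosedImmersion c.left ∧
      ∀ (X : Over S) (g : X ⟶ G), (∃ z : X ⟶ C, z ≫ c = g) ↔
        ∃ l : (Y ⊗ X).left ⟶ E, l ≫ ε = (Y ◁ g).left := by
  have hpb : IsPullback (fst Y G).left (snd Y G).left Y.hom G.hom :=
    IsPullback.of_hasPullback Y.hom G.hom
  haveI : IsFinite (snd Y G).left := MorphismProperty.of_isPullback hpb ‹_›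
  haveI : Flat (snd Y G).left := MorphismProperty.of_isPullback hpb ‹_›
  haveI : LocallyOfFinitePresentation (snd Y G).left := MorphismProperty.of_isPullback hpb ‹_›
  obtain ⟨Z, j, hj, hZ⟩ := exists_weilRestriction (snd Y G).left ε
  refine ⟨Over.mk (j ≫ G.hom), Over.homMk j rfl, hj, fun X g => ?_⟩
  have H := (Groth.Agent.Lib.Helper12.isPullback_whiskerLeft Y g).map (Over.forget S)
  rw [← hZ g.left (Y ◁ g).left (snd Y X).left H]
  constructor
  · rintro ⟨z, rfl⟩
    exact ⟨z.left, rfl⟩
  · rintro ⟨t, ht⟩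
    refine ⟨Over.homMk t ?_, ?_⟩
    · change t ≫ j ≫ G.hom = X.hom
      rw [← Category.assoc, ht, Over.w g]
    · ext1
      exact ht

/-- factoring through the equalizer (in `Over S`) on underlying schemes -/
theorem exists_lift_equalizer_iff {A W : Over S} (α β : A ⟶ W) {B : Over S} (h : B ⟶ A) :
    (∃ l : B.left ⟶ (equalizer α β).left, l ≫ (equalizer.ι α β).left = h.left) ↔
      h ≫ α = h ≫ β := by
  constructor
  · rintro ⟨l, hl⟩
    ext1
    rw [Over.comp_left, Over.comp_left, ← hl, Category.assoc, Category.assoc, ← Over.comp_left,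
      ← Over.comp_left, equalizer.condition]
  · intro he
    exact ⟨(equalizer.lift h he).left, by rw [← Over.comp_left, equalizer.lift_ι]⟩

/-- equalizer form, right-hand version -/
theorem exists_closed_eq_right (G Y W : Over S) [IsFinite Y.hom] [Flat Y.hom]
    [LocallyOfFinitePresentation Y.hom] [IsSeparated W.hom] (α β : G ⊗ Y ⟶ W) :
    ∃ (C : Over S) (c : C ⟶ G), IsClosedImmersion c.left ∧
      ∀ (X : Over S) (g : X ⟶ G), (∃ z : X ⟶ C, z ≫ c = g) ↔
        (g ▷ Y) ≫ α = (g ▷ Y) ≫ β := by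
  obtain ⟨C, c, hc, hC⟩ := exists_closed_right G Y (equalizer.ι α β).left
  refine ⟨C, c, hc, fun X g => ?_⟩
  rw [hC X g, exists_lift_equalizer_iff]

/-- equalizer form, left-hand version -/
theorem exists_closed_eq_left (G Y W : Over S) [IsFinite Y.hom] [Flat Y.hom]
    [LocallyOfFinitePresentation Y.hom] [IsSeparated W.hom] (α β : Y ⊗ G ⟶ W) :
    ∃ (C : Over S) (c : C ⟶ G), IsClosedImmersion c.left ∧
      ∀ (X : Over S) (g : X ⟶ G), (∃ z : X ⟶ C, z ≫ c = g) ↔
        (Y ◁ g) ≫ α = (Y ◁ g) ≫ β := by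
  obtain ⟨C, c, hc, hC⟩ := exists_closed_left G Y (equalizer.ι α β).left
  refine ⟨C, c, hc, fun X g => ?_⟩
  rw [hC X g, exists_lift_equalizer_iff]

end Groth.Agent.Lib.T2H7.WeilClosedOver
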