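import Mathlib
import Groth.Agent.Lib.T2H7WeilClosedLoc
import Groth.Agent.Lib.T2H7WeilClosedOver

/-!
# Weil restriction of closed subschemes along affine, locally free morphisms: `Over S` forms
(helper7)
-/

set_option autoImplicit false
set_option linter.unusedSectionVars false
set_option linter.unusedVariables false
set_option linter.style.haveILetI false
universe u
open CategoryTheory CategoryTheory.Limits AlgebraicGeometry MonoidalCategory CartesianMonoidalCategory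

namespace Groth.Agent.Lib.T2H7.WeilClosedLocOver

open Groth.Agent.Lib.T2H7.WeilClosed Groth.Agent.Lib.T2H7.WeilClosedLoc
  Groth.Agent.Lib.T2H7.WeilClosedOver

/-- base change of a free algebra of sections is free -/
theorem sectionsProjectiveAt_of_isPullback {A S B P : Scheme.{u}} {fst : P ⟶ A} {snd : P ⟶ B}
    {α : A ⟶ S} {β : B ⟶ S} [IsAffineHom α] [IsAffineHom snd] (H : IsPullback fst snd α β)
    (U : S.affineOpens)
    (hfree : @Module.Free Γ(S, U.1) Γ(A, α ⁻¹ᵁ U.1) _ _ (α.app U.1).hom.toAlgebra.toModule)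
    (V : B.affineOpens) (hV : V.1 ≤ β ⁻¹ᵁ U.1) : SectionsProjectiveAt snd V := by
  have hle : snd ⁻¹ᵁ V.1 ≤ fst ⁻¹ᵁ (α ⁻¹ᵁ U.1) := by
    rw [← Scheme.Hom.comp_preimage, H.w, Scheme.Hom.comp_preimage]
    exact Scheme.Hom.preimage_mono snd hV
  have hUY : snd ⁻¹ᵁ V.1 = fst ⁻¹ᵁ (α ⁻¹ᵁ U.1) ⊓ snd ⁻¹ᵁ V.1 := (inf_eq_right.mpr hle).symm
  have hpush := (isIso_pushoutSection_iff H hV (le_refl _) hUY).mp
    (isIso_pushoutSection_of_isAffineOpen H hV (le_refl _) hUY U.2 V.2 (U.2.preimage α))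
  have e1 : α.appLE U.1 (α ⁻¹ᵁ U.1) (le_refl _) = α.app U.1 := Scheme.Hom.appLE_eq_app α
  have e2 : snd.appLE V.1 (snd ⁻¹ᵁ V.1) (le_refl _) = snd.app V.1 := Scheme.Hom.appLE_eq_app snd
  rw [e1, e2] at hpush
  unfold SectionsProjectiveAt
  letI := (α.app U.1).hom.toAlgebra
  letI := (β.appLE U.1 V.1 hV).hom.toAlgebra
  letI := (fst.appLE (α ⁻¹ᵁ U.1) (snd ⁻¹ᵁ V.1) hle).hom.toAlgebra
  letI := (snd.app V.1).hom.toAlgebra
  letI : Algebra Γ(S, U.1) Γ(P, snd ⁻¹ᵁ V.1) :=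
    (α.app U.1 ≫ fst.appLE (α ⁻¹ᵁ U.1) (snd ⁻¹ᵁ V.1) hle).hom.toAlgebra
  haveI : IsScalarTower Γ(S, U.1) Γ(A, α ⁻¹ᵁ U.1) Γ(P, snd ⁻¹ᵁ V.1) := .of_algebraMap_eq' rfl
  haveI : IsScalarTower Γ(S, U.1) Γ(B, V.1) Γ(P, snd ⁻¹ᵁ V.1) :=
    .of_algebraMap_eq' (congrArg CommRingCat.Hom.hom hpush.w)
  haveI : Algebra.IsPushout Γ(S, U.1) Γ(B, V.1) Γ(A, α ⁻¹ᵁ U.1) Γ(P, snd ⁻¹ᵁ V.1) :=
    CommRingCat.isPushout_iff_isPushout.mp hpush.flip
  haveI : Module.Free Γ(S, U.1) Γ(A, α ⁻¹ᵁ U.1) := hfree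
  have hbc : IsBaseChange Γ(B, V.1)
      (IsScalarTower.toAlgHom Γ(S, U.1) Γ(A, α ⁻¹ᵁ U.1) Γ(P, snd ⁻¹ᵁ V.1)).toLinearMap :=
    Algebra.IsPushout.out
  haveI : Module.Free Γ(B, V.1) Γ(P, snd ⁻¹ᵁ V.1) := hbc.free
  infer_instance

variable {S : Scheme.{u}}

/-- left-hand version: closed subscheme `E` of `Y ⊗ G`, with `Y` affine over `S` and with sections
locally free over `S`. -/
theorem exists_closed_left_loc (G Y : Over S) [IsAffineHom Y.hom]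
    (hfree : ∀ s : S, ∃ U : S.affineOpens, s ∈ (U : S.Opens) ∧
      @Module.Free Γ(S, U) Γ(Y.left, Y.hom ⁻¹ᵁ U) _ _ (Y.hom.app U).hom.toAlgebra.toModule)
    {E : Scheme.{u}} (ε : E ⟶ (Y ⊗ G).left) [IsClosedImmersion ε] :
    ∃ (C : Over S) (c : C ⟶ G), IsClosedImmersion c.left ∧
      ∀ (X : Over S) (g : X ⟶ G), (∃ z : X ⟶ C, z ≫ c = g) ↔
        ∃ l : (Y ⊗ X).left ⟶ E, l ≫ ε = (Y ◁ g).left := by
  have hpb : IsPullback (fst Y G).left (snd Y G).left Y.hom G.hom :=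
    IsPullback.of_hasPullback Y.hom G.hom
  haveI : IsAffineHom (snd Y G).left := MorphismProperty.of_isPullback hpb ‹_›
  let good : G.left.affineOpens → Prop := fun V => ∃ U : S.affineOpens,
    V.1 ≤ G.hom ⁻¹ᵁ U.1 ∧
      @Module.Free Γ(S, U.1) Γ(Y.left, Y.hom ⁻¹ᵁ U.1) _ _ (Y.hom.app U.1).hom.toAlgebra.toModule
  have hdown : ∀ V W : G.left.affineOpens, good V → W ≤ V → good W := by
    rintro V W ⟨U, hVU, hU⟩ hWV
    exact ⟨U, le_trans hWV hVU, hU⟩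
  have hcov : ∀ y : G.left, ∃ V : G.left.affineOpens, good V ∧ y ∈ V.1 := by
    intro y
    obtain ⟨U, hyU, hU⟩ := hfree (G.hom y)
    obtain ⟨_, ⟨V, hV, rfl⟩, hyV, hVU⟩ := G.left.isBasis_affineOpens.exists_subset_of_mem_open
      (show y ∈ ((G.hom ⁻¹ᵁ U.1 : G.left.Opens) : Set G.left) from hyU) (G.hom ⁻¹ᵁ U.1).2
    exact ⟨⟨V, hV⟩, ⟨U, hVU, hU⟩, hyV⟩
  have hproj : ∀ V, good V → SectionsProjectiveAt (snd Y G).left V := by
    rintro V ⟨U, hVU, hU⟩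
    exact sectionsProjectiveAt_of_isPullback hpb U hU V hVU
  obtain ⟨Z, j, hj, hZ⟩ := exists_weilRestriction_loc good hdown hcov hproj ε
  refine ⟨Over.mk (j ≫ G.hom), Over.homMk j rfl, hj, fun X g => ?_⟩
  have H := (Groth.Agent.Lib.Helper12.isPullback_whiskerLeft Y g).map (Over.forget S)
  rw [← hZ g.left (Y ◁ g).left (snd Y X).left H]
  constructor
  · rintro ⟨z, rfl⟩
    exact ⟨z.left, rfl⟩
  · rintro ⟨t, ht⟩
    refine ⟨Over.homMk t ?_, ?_⟩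
    · change t ≫ j ≫ G.hom = X.hom
      rw [← Category.assoc, ht, Over.w g]
    · ext1
      exact ht

/-- equalizer form, left-hand version -/
theorem exists_closed_eq_left_loc (G Y W : Over S) [IsAffineHom Y.hom]
    (hfree : ∀ s : S, ∃ U : S.affineOpens, s ∈ (U : S.Opens) ∧
      @Module.Free Γ(S, U) Γ(Y.left, Y.hom ⁻¹ᵁ U) _ _ (Y.hom.app U).hom.toAlgebra.toModule)
    [IsSeparated W.hom] (α β : Y ⊗ G ⟶ W) :
    ∃ (C : Over S) (c : C ⟶ G), IsClosedImmersion c.left ∧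
      ∀ (X : Over S) (g : X ⟶ G), (∃ z : X ⟶ C, z ≫ c = g) ↔
        (Y ◁ g) ≫ α = (Y ◁ g) ≫ β := by
  obtain ⟨C, c, hc, hC⟩ := exists_closed_left_loc G Y hfree (equalizer.ι α β).left
  refine ⟨C, c, hc, fun X g => ?_⟩
  rw [hC X g, exists_lift_equalizer_iff]

end Groth.Agent.Lib.T2H7.WeilClosedLocOver
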