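import Mathlib
import Groth.Agent.Lib.T2H6FittStratum

/-!
# Gluing ideal sheaves along a disjoint open cover (helper7)
-/

set_option autoImplicit false
set_option linter.style.haveILetI false
set_option linter.unusedSectionVars false
set_option backward.isDefEq.respectTransparency false
universe u
open CategoryTheory AlgebraicGeometry Limits Opposite TopologicalSpace

namespace Groth.Agent.Lib.T2H7.IdealGlue

open Groth.Agent.Lib.T2H6.FittStratum

variable {X : Scheme.{u}}

theorem comap_iSup {Y : Scheme.{u}} (f : Y ⟶ X) {ι : Sort*} (I : ι → X.IdealSheafData) :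
    (⨆ i, I i).comap f = ⨆ i, (I i).comap f :=
  (Scheme.IdealSheafData.map_gc f).l_iSup

theorem comap_inf_of_isOpenImmersion {V : Scheme.{u}} (j : V ⟶ X) [IsOpenImmersion j]
    (I K : X.IdealSheafData) : (I ⊓ K).comap j = I.comap j ⊓ K.comap j := by
  ext U : 2
  rw [Scheme.IdealSheafData.ideal_comap_of_isOpenImmersion]
  change _ = (I.comap j).ideal U ⊓ (K.comap j).ideal U
  rw [Scheme.IdealSheafData.ideal_comap_of_isOpenImmersion,
    Scheme.IdealSheafData.ideal_comap_of_isOpenImmersion, ← Ideal.comap_inf]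
  rfl

/-- ideal sheaves are determined by their restrictions to an open cover -/
theorem eq_of_comap_eq {ι : Type*} (D : ι → X.Opens) (hD : ⨆ i, D i = ⊤)
    (I₁ I₂ : X.IdealSheafData) (h : ∀ i, I₁.comap (D i).ι = I₂.comap (D i).ι) : I₁ = I₂ := by
  let κ := Σ i : ι, (D i).toScheme.affineOpens
  let U : κ → X.affineOpens := fun p =>
    ⟨(D p.1).ι ''ᵁ p.2.1, p.2.2.image_of_isOpenImmersion (D p.1).ι⟩
  have hU : ⨆ p : κ, (U p).1 = ⊤ := by
    rw [eq_top_iff]
    intro x _
    have hx : x ∈ ⨆ i, D i := by rw [hD]; trivial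
    obtain ⟨i, hxi⟩ := Opens.mem_iSup.1 hx
    obtain ⟨V, hV, hxV, -⟩ := exists_isAffineOpen_mem_and_subset
      (X := (D i).toScheme) (x := ⟨x, hxi⟩) (U := ⊤) trivial
    exact Opens.mem_iSup.2 ⟨⟨i, ⟨V, hV⟩⟩, ⟨⟨x, hxi⟩, hxV, rfl⟩⟩
  apply Scheme.IdealSheafData.ext_of_iSup_eq_top U hU
  rintro ⟨i, V⟩
  have h1 := congrArg (fun J : (D i).toScheme.IdealSheafData => J.ideal V) (h i)
  simp only [Scheme.IdealSheafData.ideal_comap_of_isOpenImmersion] at h1
  refine Ideal.comap_injective_of_surjective _ ?_ h1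
  exact (ConcreteCategory.bijective_of_isIso ((D i).ι.appIso V.1).inv).surjective

section glue

variable {ι : Type*} (D : ι → X.Opens) (I : ι → X.IdealSheafData)

/-- the union of the other members of the cover -/
def Cn (n : ι) : X.Opens := ⨆ (m : ι) (_ : m ≠ n), D m

/-- the ideal sheaf which is `⊤` on `D n` and `⊥` on the other members -/
noncomputable def Fn (n : ι) : X.IdealSheafData := (Cn D n).ι.ker

/-- the glued ideal sheaf -/
noncomputable def glue : X.IdealSheafData := ⨆ n, I n ⊓ Fn D n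

variable {D}

theorem le_Cn {m n : ι} (h : m ≠ n) : D m ≤ Cn D n :=
  le_iSup₂ (f := fun (m : ι) (_ : m ≠ n) => D m) m h

theorem Fn_comap_of_ne {m n : ι} (h : m ≠ n) : (Fn D n).comap (D m).ι = ⊥ := by
  have h1 : (D m).ι = X.homOfLE (le_Cn h) ≫ (Cn D n).ι := (X.homOfLE_ι _).symm
  rw [h1, Scheme.IdealSheafData.comap_comp, ← le_bot_iff]
  have h2 : (Fn D n).comap (Cn D n).ι ≤ ⊥ := by
    unfold Fn
    rw [← Scheme.IdealSheafData.map_bot]
    exact Scheme.IdealSheafData.comap_map_le _ _
  exact (Scheme.IdealSheafData.comap_mono _ h2).trans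
    (le_of_eq (Scheme.IdealSheafData.comap_bot _))

variable (hdisj : ∀ m n : ι, m ≠ n → Disjoint (D m) (D n)) (hcov : ⨆ n, D n = ⊤)

include hdisj hcov in
theorem coe_Cn (n : ι) : ((Cn D n : X.Opens) : Set X) = (D n : Set X)ᶜ := by
  ext x
  simp only [Cn, Opens.coe_iSup, Set.mem_iUnion, Set.mem_compl_iff, SetLike.mem_coe, exists_prop]
  constructor
  · rintro ⟨m, hm, hx⟩ hxn
    exact (Set.disjoint_left.1 (by simpa using (hdisj m n hm)) hx hxn)
  · intro hx
    have hx' : x ∈ ⨆ n, D n := by rw [hcov]; trivial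
    obtain ⟨m, hxm⟩ := Opens.mem_iSup.1 hx'
    exact ⟨m, fun e => hx (e ▸ hxm), hxm⟩

include hdisj hcov in
theorem Fn_comap_self (n : ι) : (Fn D n).comap (D n).ι = ⊤ := by
  have hcl : IsClosed (Set.range (Cn D n).ι) := by
    rw [Scheme.Opens.range_ι, coe_Cn hdisj hcov]
    exact (D n).isOpen.isClosed_compl
  haveI : IsClosedImmersion (Cn D n).ι := IsClosedImmersion.of_isPreimmersion _ hcl
  rw [comap_eq_top_iff]
  intro t ht
  have h1 : (D n).ι t ∈ closure (Set.range (Cn D n).ι) := by
    have := Scheme.Hom.support_ker (Cn D n).ι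
    unfold Fn at ht
    rw [← this]
    exact ht
  rw [hcl.closure_eq, Scheme.Opens.range_ι, coe_Cn hdisj hcov] at h1
  exact h1 t.2

include hdisj hcov in
/-- the glued ideal sheaf restricts to `I n` on `D n` -/
theorem glue_comap (n : ι) : (glue D I).comap (D n).ι = (I n).comap (D n).ι := by
  unfold glue
  rw [comap_iSup]
  apply le_antisymm
  · refine iSup_le fun m => ?_
    rw [comap_inf_of_isOpenImmersion]
    by_cases h : m = n
    · subst h
      exact inf_le_left
    · rw [Fn_comap_of_ne (Ne.symm h), inf_bot_eq]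
      exact bot_le
  · refine le_trans ?_ (le_iSup _ n)
    rw [comap_inf_of_isOpenImmersion, Fn_comap_self hdisj hcov, inf_top_eq]

end glue

end Groth.Agent.Lib.T2H7.IdealGlue
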