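import Mathlib
import Groth.Agent.Lib.T2H7IdealGlueLoc
import Groth.Agent.Lib.Helper20EffCartier

/-!
# Gluing ideal sheaves over an arbitrary open cover (helper7)

Ideal sheaves `𝓘 i` on the members `O i` of an open cover of `X` which agree on the overlaps glue to
an ideal sheaf `𝓘₀` on `X` with `𝓘₀.comap (O i).ι = 𝓘 i`.
-/

set_option autoImplicit false
set_option linter.unusedSectionVars false
set_option linter.unusedVariables false
set_option linter.style.haveILetI false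
universe u
open CategoryTheory CategoryTheory.Limits AlgebraicGeometry Opposite TopologicalSpace

namespace Groth.Agent.Lib.T2H7.IdealGlueOpen

section ring

variable {A B C A' B' : Type*} [CommRing A] [CommRing B] [CommRing C] [CommRing A'] [CommRing B']

theorem comap_eq_of_comp (f : A →+* B) (g : B →+* C) (h : A →+* C)
    (hg : Function.Bijective g) (hfg : g.comp f = h) (J : Ideal B) :
    J.comap f = (J.map g).comap h := by
  subst hfg
  rw [← Ideal.comap_comap, Ideal.comap_map_of_bijective g hg]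

theorem comap_map_square (f : A →+* B) (f' : A' →+* B') (r : A →+* A') (s : B →+* B')
    (hf : Function.Surjective f) (hf' : Function.Bijective f') (hsq : s.comp f = f'.comp r)
    (J : Ideal B) : (J.comap f).map r = (J.map s).comap f' := by
  have h1 : J = (J.comap f).map f := (Ideal.map_comap_of_surjective f hf J).symm
  conv_rhs => rw [h1, Ideal.map_map, hsq, ← Ideal.map_map, Ideal.comap_map_of_bijective f' hf']

end ring

theorem appLE_congr_hom {X Y : Scheme.{u}} {f g : X ⟶ Y} (h : f = g) (U : Y.Opens) (V : X.Opens)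
    (e : V ≤ f ⁻¹ᵁ U) : f.appLE U V e = g.appLE U V (h ▸ e) := by
  subst h
  rfl

variable {X : Scheme.{u}} {ι : Type*} (O : ι → X.Opens)
  (𝓘 : ∀ i, (O i).toScheme.IdealSheafData)

theorem isAffineOpen_preimage (i : ι) (V : X.affineOpens) (h : V.1 ≤ O i) :
    IsAffineOpen ((O i).ι ⁻¹ᵁ V.1) :=
  V.2.preimage_of_isOpenImmersion _ (by rw [Scheme.Opens.opensRange_ι]; exact h)

/-- the ideal of `Γ(X, V)` induced by `𝓘 i` when `V ≤ O i`. -/
noncomputable def idealAt (i : ι) (V : X.affineOpens) (h : V.1 ≤ O i) : Ideal Γ(X, V.1) :=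
  ((𝓘 i).ideal ⟨(O i).ι ⁻¹ᵁ V.1, isAffineOpen_preimage O i V h⟩).comap ((O i).ι.app V.1).hom

theorem bijective_app (i : ι) (V : X.Opens) (h : V ≤ O i) :
    Function.Bijective ((O i).ι.app V).hom := by
  haveI : IsIso ((O i).ι.app V) :=
    Scheme.Hom.isIso_app _ V (by rw [Scheme.Opens.opensRange_ι]; exact h)
  exact ConcreteCategory.bijective_of_isIso ((O i).ι.app V)

variable (hcompat : ∀ i j, (𝓘 i).comap (X.homOfLE (inf_le_left : O i ⊓ O j ≤ O i)) =
  (𝓘 j).comap (X.homOfLE (inf_le_right : O i ⊓ O j ≤ O j)))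

include hcompat in
theorem idealAt_indep (i j : ι) (V : X.affineOpens) (hi : V.1 ≤ O i) (hj : V.1 ≤ O j) :
    idealAt O 𝓘 i V hi = idealAt O 𝓘 j V hj := by
  have hK : V.1 ≤ O i ⊓ O j := le_inf hi hj
  have hVK : IsAffineOpen ((O i ⊓ O j).ι ⁻¹ᵁ V.1) :=
    V.2.preimage_of_isOpenImmersion _ (by rw [Scheme.Opens.opensRange_ι]; exact hK)
  have key : ∀ (k : ι) (hk : V.1 ≤ O k) (hle : O i ⊓ O j ≤ O k),
      idealAt O 𝓘 k V hk = (((𝓘 k).comap (X.homOfLE hle)).ideal ⟨_, hVK⟩).comap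
        ((O i ⊓ O j).ι.app V.1).hom := by
    intro k hk hle
    have hle' : (O i ⊓ O j).ι ⁻¹ᵁ V.1 ≤ (X.homOfLE hle) ⁻¹ᵁ ((O k).ι ⁻¹ᵁ V.1) := by
      rw [← Scheme.Hom.comp_preimage, Scheme.homOfLE_ι]
    rw [Groth.Agent.Lib.Helper20.EffCartier.ideal_comap_eq_map (X.homOfLE hle) (𝓘 k) hVK
      (isAffineOpen_preimage O k V hk) hle']
    have hcomp : (O k).ι.app V.1 ≫ (X.homOfLE hle).appLE _ _ hle' = (O i ⊓ O j).ι.app V.1 := by
      rw [Scheme.Hom.app_eq_appLE, Scheme.Hom.appLE_comp_appLE,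
        appLE_congr_hom (X.homOfLE_ι hle), Scheme.Hom.app_eq_appLE]
    have hbij : Function.Bijective ((X.homOfLE hle).appLE _ _ hle').hom := by
      haveI : IsIso ((O k).ι.app V.1) :=
        Scheme.Hom.isIso_app _ V.1 (by rw [Scheme.Opens.opensRange_ι]; exact hk)
      haveI : IsIso ((O i ⊓ O j).ι.app V.1) :=
        Scheme.Hom.isIso_app _ V.1 (by rw [Scheme.Opens.opensRange_ι]; exact hK)
      haveI : IsIso ((O k).ι.app V.1 ≫ (X.homOfLE hle).appLE _ _ hle') := by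
        rw [hcomp]; infer_instance
      haveI : IsIso ((X.homOfLE hle).appLE _ _ hle') :=
        IsIso.of_isIso_comp_left ((O k).ι.app V.1) _
      exact ConcreteCategory.bijective_of_isIso _
    unfold idealAt
    refine comap_eq_of_comp _ _ _ hbij ?_ _
    rw [← CommRingCat.hom_comp, hcomp]
  rw [key i hi inf_le_left, key j hj inf_le_right, hcompat i j]

include hcompat in
/-- **Gluing ideal sheaves over an open cover.** -/
theorem exists_glue (hO : ⨆ i, O i = ⊤) :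
    ∃ 𝓘₀ : X.IdealSheafData, ∀ i, 𝓘₀.comap (O i).ι = 𝓘 i := by
  classical
  let good : X.affineOpens → Prop := fun V => ∃ i, V.1 ≤ O i
  let I₀ : ∀ V : X.affineOpens, Ideal Γ(X, V.1) := fun V =>
    if h : good V then idealAt O 𝓘 h.choose V h.choose_spec else ⊥
  have hI₀ : ∀ (V : X.affineOpens) (i : ι) (h : V.1 ≤ O i), I₀ V = idealAt O 𝓘 i V h := by
    intro V i h
    have hg : good V := ⟨i, h⟩
    change (if h : good V then idealAt O 𝓘 h.choose V h.choose_spec else ⊥) = _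
    rw [dif_pos hg]
    exact idealAt_indep O 𝓘 hcompat _ _ V _ _
  have hdown : ∀ V W : X.affineOpens, good V → W ≤ V → good W := by
    rintro V W ⟨i, hi⟩ hWV
    exact ⟨i, le_trans hWV hi⟩
  have hcov : ∀ y : X, ∃ V : X.affineOpens, good V ∧ y ∈ V.1 := by
    intro y
    have hy : y ∈ ⨆ i, O i := by rw [hO]; trivial
    obtain ⟨i, hyi⟩ := Opens.mem_iSup.1 hy
    obtain ⟨V, hV, hyV, hVi⟩ := exists_isAffineOpen_mem_and_subset hyi
    exact ⟨⟨V, hV⟩, ⟨i, hVi⟩, hyV⟩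
  have hcompat' : ∀ (V W : X.affineOpens) (h : W ≤ V), good V →
      (I₀ V).map (X.presheaf.map (homOfLE h).op).hom = I₀ W := by
    rintro V W h ⟨i, hi⟩
    have hWi : W.1 ≤ O i := le_trans h hi
    rw [hI₀ V i hi, hI₀ W i hWi]
    unfold idealAt
    have hle : (O i).ι ⁻¹ᵁ W.1 ≤ (O i).ι ⁻¹ᵁ V.1 := Scheme.Hom.preimage_mono _ h
    have hmi := (𝓘 i).map_ideal (U := ⟨(O i).ι ⁻¹ᵁ W.1, isAffineOpen_preimage O i W hWi⟩)
      (V := ⟨(O i).ι ⁻¹ᵁ V.1, isAffineOpen_preimage O i V hi⟩) hle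
    rw [← hmi]
    refine comap_map_square _ _ _ _ (bijective_app O i V.1 hi).surjective
      (bijective_app O i W.1 hWi) ?_ _
    rw [← CommRingCat.hom_comp, ← CommRingCat.hom_comp]
    congr 1
    exact ((O i).ι.naturality (homOfLE h).op).symm
  obtain ⟨𝓘₀, h𝓘₀⟩ := Groth.Agent.Lib.T2H7.IdealGlueLoc.exists_idealSheafData good I₀ hdown hcov
    hcompat'
  refine ⟨𝓘₀, fun i => ?_⟩
  let κ := {V : X.affineOpens // V.1 ≤ O i}
  let U : κ → (O i).toScheme.affineOpens := fun V =>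
    ⟨(O i).ι ⁻¹ᵁ V.1.1, isAffineOpen_preimage O i V.1 V.2⟩
  have hU : ⨆ V : κ, (U V).1 = ⊤ := by
    rw [eq_top_iff]
    intro x _
    have hx : (O i).ι x ∈ O i := x.2
    obtain ⟨V, hV, hxV, hVi⟩ := exists_isAffineOpen_mem_and_subset hx
    exact Opens.mem_iSup.2 ⟨⟨⟨V, hV⟩, hVi⟩, hxV⟩
  refine Scheme.IdealSheafData.ext_of_iSup_eq_top U hU ?_
  rintro ⟨V, hV⟩
  change (𝓘₀.comap (O i).ι).ideal ⟨(O i).ι ⁻¹ᵁ V.1, isAffineOpen_preimage O i V hV⟩ =
    (𝓘 i).ideal ⟨(O i).ι ⁻¹ᵁ V.1, isAffineOpen_preimage O i V hV⟩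
  rw [Groth.Agent.Lib.Helper20.EffCartier.ideal_comap_eq_map (O i).ι 𝓘₀
    (isAffineOpen_preimage O i V hV) V.2 le_rfl, h𝓘₀ V ⟨i, hV⟩, hI₀ V i hV]
  unfold idealAt
  rw [Scheme.Hom.appLE_eq_app]
  exact Ideal.map_comap_of_surjective _ (bijective_app O i V.1 hV).surjective _

end Groth.Agent.Lib.T2H7.IdealGlueOpen
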