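import Mathlib
import Groth.Agent.Lib.Helper12IdealDescent

/-!
# Weil restriction ideals: uniqueness, base change and fpqc descent (helper7)

For `p : P ⟶ T` and an ideal sheaf `𝓙` on `P`, an ideal sheaf `𝓩₁` on a `T`-scheme `q : T₁ ⟶ T`
is a *Weil restriction ideal over `q`* (`IsWeilOn p 𝓙 q 𝓩₁`) when a morphism `g : T' ⟶ T₁`
factors through `V(𝓩₁)` iff the base change `P ×_T T' ⟶ P` factors through `V(𝓙)`.
-/

set_option autoImplicit false
set_option linter.unusedSectionVars false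
set_option linter.unusedVariables false
set_option linter.style.haveILetI false
universe u
open CategoryTheory CategoryTheory.Limits AlgebraicGeometry

namespace Groth.Agent.Lib.T2H7.WeilDescA

open Scheme.IdealSheafData

variable {P T : Scheme.{u}}

/-- `𝓩₁` is the Weil restriction ideal of `𝓙` along `p`, over the `T`-scheme `q : T₁ ⟶ T`. -/
def IsWeilOn (p : P ⟶ T) (𝓙 : P.IdealSheafData) {T₁ : Scheme.{u}} (q : T₁ ⟶ T)
    (𝓩₁ : T₁.IdealSheafData) : Prop :=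
  ∀ ⦃T' P' : Scheme.{u}⦄ (g : T' ⟶ T₁) (fst' : P' ⟶ P) (snd' : P' ⟶ T'),
    IsPullback fst' snd' p (g ≫ q) → (𝓩₁.comap g = ⊥ ↔ 𝓙.comap fst' = ⊥)

/-- `𝓩` is the Weil restriction ideal of `𝓙` along `p`. -/
def IsWeil (p : P ⟶ T) (𝓙 : P.IdealSheafData) (𝓩 : T.IdealSheafData) : Prop :=
  ∀ ⦃T' P' : Scheme.{u}⦄ (g : T' ⟶ T) (fst' : P' ⟶ P) (snd' : P' ⟶ T'),
    IsPullback fst' snd' p g → (𝓩.comap g = ⊥ ↔ 𝓙.comap fst' = ⊥)

theorem isWeil_iff_isWeilOn_id (p : P ⟶ T) (𝓙 : P.IdealSheafData) (𝓩 : T.IdealSheafData) :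
    IsWeil p 𝓙 𝓩 ↔ IsWeilOn p 𝓙 (𝟙 T) 𝓩 := by
  constructor
  · intro h T' P' g fst' snd' H
    rw [Category.comp_id] at H
    exact h g fst' snd' H
  · intro h T' P' g fst' snd' H
    exact h g fst' snd' (by rw [Category.comp_id]; exact H)

section basics

variable {X Y : Scheme.{u}}

theorem comap_eq_bot_iff (𝓚 : Y.IdealSheafData) (g : X ⟶ Y) : 𝓚.comap g = ⊥ ↔ 𝓚 ≤ g.ker := by
  rw [eq_bot_iff, ← map_bot g]
  exact (map_gc g) 𝓚 ⊥

theorem comap_subschemeι_self (𝓚 : Y.IdealSheafData) : 𝓚.comap 𝓚.subschemeι = ⊥ := by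
  rw [comap_eq_bot_iff, ker_subschemeι]

/-- pulling back along a flat surjective quasi-compact morphism reflects the zero ideal. -/
theorem eq_bot_of_comap_eq_bot (a : X ⟶ Y) [Flat a] [Surjective a] [QuasiCompact a]
    (𝓚 : Y.IdealSheafData) (h : 𝓚.comap a = ⊥) : 𝓚 = ⊥ := by
  have h1 := Groth.Agent.Lib.Helper12.map_comap_eq a 𝓚
  rw [h, map_bot] at h1
  have : IsSchemeTheoreticallyDominant a :=
    Groth.Agent.Lib.Helper12.isSchemeTheoreticallyDominant_of_flat_of_surjective a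
  rw [a.ker_eq_bot] at h1
  exact h1.symm

theorem comap_eq_bot_iff_of_fpqc (a : X ⟶ Y) [Flat a] [Surjective a] [QuasiCompact a]
    (𝓚 : Y.IdealSheafData) : 𝓚.comap a = ⊥ ↔ 𝓚 = ⊥ :=
  ⟨eq_bot_of_comap_eq_bot a 𝓚, fun h => by rw [h, comap_bot]⟩

end basics

section props

variable {p : P ⟶ T} {𝓙 : P.IdealSheafData} {T₁ : Scheme.{u}} {q : T₁ ⟶ T}

/-- uniqueness of Weil restriction ideals. -/
theorem IsWeilOn.unique {𝓩₁ 𝓩₂ : T₁.IdealSheafData} (h₁ : IsWeilOn p 𝓙 q 𝓩₁)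
    (h₂ : IsWeilOn p 𝓙 q 𝓩₂) : 𝓩₁ = 𝓩₂ := by
  have key : ∀ {𝓐 𝓑 : T₁.IdealSheafData}, IsWeilOn p 𝓙 q 𝓐 → IsWeilOn p 𝓙 q 𝓑 → 𝓑 ≤ 𝓐 := by
    intro 𝓐 𝓑 hA hB
    have H := IsPullback.of_hasPullback p (𝓐.subschemeι ≫ q)
    have h1 := (hA 𝓐.subschemeι _ _ H).1 (comap_subschemeι_self 𝓐)
    have h2 := (hB 𝓐.subschemeι _ _ H).2 h1
    rw [comap_eq_bot_iff, ker_subschemeι] at h2
    exact h2
  exact le_antisymm (key h₂ h₁) (key h₁ h₂)

/-- base change of Weil restriction ideals. -/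
theorem IsWeilOn.comap {𝓩₁ : T₁.IdealSheafData} (h : IsWeilOn p 𝓙 q 𝓩₁) {T₂ : Scheme.{u}}
    (r : T₂ ⟶ T₁) : IsWeilOn p 𝓙 (r ≫ q) (𝓩₁.comap r) := by
  intro T' P' g fst' snd' H
  rw [← comap_comp]
  exact h (g ≫ r) fst' snd' (by rw [Category.assoc]; exact H)

theorem IsWeilOn.of_eq {𝓩₁ : T₁.IdealSheafData} (h : IsWeilOn p 𝓙 q 𝓩₁) {q' : T₁ ⟶ T}
    (e : q = q') : IsWeilOn p 𝓙 q' 𝓩₁ := by
  subst e
  exact h

/-- from the relative to the absolute form over the base change. -/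
theorem IsWeilOn.isWeil {𝓩₁ : T₁.IdealSheafData} (h : IsWeilOn p 𝓙 q 𝓩₁) {P₁ : Scheme.{u}}
    {fst₁ : P₁ ⟶ P} {p₁ : P₁ ⟶ T₁} (H₁ : IsPullback fst₁ p₁ p q) :
    IsWeil p₁ (𝓙.comap fst₁) 𝓩₁ := by
  intro T' P' g l snd' H
  rw [← comap_comp]
  exact h g (l ≫ fst₁) snd' (H.paste_horiz H₁)

/-- from the absolute form over the base change to the relative form. -/
theorem IsWeil.isWeilOn {P₁ : Scheme.{u}} {fst₁ : P₁ ⟶ P} {p₁ : P₁ ⟶ T₁}
    (H₁ : IsPullback fst₁ p₁ p q) {𝓩₁ : T₁.IdealSheafData}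
    (h : IsWeil p₁ (𝓙.comap fst₁) 𝓩₁) : IsWeilOn p 𝓙 q 𝓩₁ := by
  intro T' P' g fst' snd' H
  have w : fst' ≫ p = (snd' ≫ g) ≫ q := by rw [H.w, Category.assoc]
  have hl : IsPullback (H₁.lift fst' (snd' ≫ g) w) snd' p₁ g := by
    refine IsPullback.of_right ?_ (H₁.lift_snd _ _ _) H₁
    rw [H₁.lift_fst]
    exact H
  rw [h g _ snd' hl, ← comap_comp, H₁.lift_fst]

end props

section descent

variable {p : P ⟶ T} {𝓙 : P.IdealSheafData} {T₀ T₁ : Scheme.{u}} {r : T₀ ⟶ T} (q : T₁ ⟶ T₀)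
  [Flat q] [Surjective q] [QuasiCompact q]

/-- **fpqc descent of Weil restriction ideals.** -/
theorem IsWeilOn.descent {𝓩₁ : T₁.IdealSheafData} (h : IsWeilOn p 𝓙 (q ≫ r) 𝓩₁) :
    IsWeilOn p 𝓙 r (𝓩₁.map q) ∧ (𝓩₁.map q).comap q = 𝓩₁ := by
  have hst : 𝓩₁.comap (pullback.fst q q) = 𝓩₁.comap (pullback.snd q q) := by
    have h1 := h.comap (pullback.fst q q)
    have h2 := h.comap (pullback.snd q q)
    refine h1.unique (h2.of_eq ?_)
    rw [← Category.assoc, ← Category.assoc, pullback.condition]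
  have hcm := Groth.Agent.Lib.Helper12.comap_map_eq_of_stable q 𝓩₁ hst
  refine ⟨?_, hcm⟩
  intro T' P' g fst' snd' H
  -- base change of the cover to `T'`
  have _ : Flat (pullback.fst g q) := inferInstance
  have hPB := IsPullback.of_hasPullback snd' (pullback.fst g q)
  have hbig : IsPullback (pullback.fst snd' (pullback.fst g q) ≫ fst')
      (pullback.snd snd' (pullback.fst g q)) p (pullback.snd g q ≫ q ≫ r) := by
    have := hPB.paste_horiz H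
    rw [← Category.assoc, pullback.condition, Category.assoc] at this
    exact this
  have e1 := h (pullback.snd g q) _ _ hbig
  rw [comap_comp] at e1
  rw [comap_eq_bot_iff_of_fpqc (pullback.fst snd' (pullback.fst g q)) (𝓙.comap fst')] at e1
  rw [← e1, ← comap_eq_bot_iff_of_fpqc (pullback.fst g q), ← comap_comp, pullback.condition,
    comap_comp, hcm]

end descent

end Groth.Agent.Lib.T2H7.WeilDescA
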