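import Mathlib
import Groth.Agent.Lib.T2H7WeilDescA
import Groth.Agent.Lib.T2H7IdealGlueOpen
import Groth.Agent.Lib.T2H7IdealGlue

/-!
# Weil restriction ideals: Zariski gluing and the morphism property `WeilRep` (helper7)

`WeilRep y` for `y : Y ⟶ S` says that for every base change `p : P ⟶ T` of `y` and every ideal sheaf
`𝓙` on `P`, the Weil restriction ideal of `𝓙` along `p` exists.  It is stable under base change,
Zariski local on the target and descends along flat surjective quasi-compact morphisms.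
-/

set_option autoImplicit false
set_option linter.unusedSectionVars false
set_option linter.unusedVariables false
set_option linter.style.haveILetI false
universe u
open CategoryTheory CategoryTheory.Limits AlgebraicGeometry Opposite TopologicalSpace

namespace Groth.Agent.Lib.T2H7.WeilDescB

open Groth.Agent.Lib.T2H7.WeilDescA Scheme.IdealSheafData

section glue

variable {P T : Scheme.{u}} (p : P ⟶ T) (𝓙 : P.IdealSheafData)

/-- **Zariski gluing of Weil restriction ideals.** -/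
theorem exists_isWeil_of_openCover {ι : Type*} (O : ι → T.Opens) (hO : ⨆ i, O i = ⊤)
    (𝓩 : ∀ i, (O i).toScheme.IdealSheafData) (h : ∀ i, IsWeilOn p 𝓙 (O i).ι (𝓩 i)) :
    ∃ 𝓩₀ : T.IdealSheafData, IsWeil p 𝓙 𝓩₀ := by
  have hcompat : ∀ i j, (𝓩 i).comap (T.homOfLE (inf_le_left : O i ⊓ O j ≤ O i)) =
      (𝓩 j).comap (T.homOfLE (inf_le_right : O i ⊓ O j ≤ O j)) := by
    intro i j
    have h1 := ((h i).comap (T.homOfLE (inf_le_left : O i ⊓ O j ≤ O i))).of_eq (T.homOfLE_ι _)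
    have h2 := ((h j).comap (T.homOfLE (inf_le_right : O i ⊓ O j ≤ O j))).of_eq (T.homOfLE_ι _)
    exact h1.unique h2
  obtain ⟨𝓩₀, h𝓩₀⟩ := Groth.Agent.Lib.T2H7.IdealGlueOpen.exists_glue O 𝓩 hcompat hO
  refine ⟨𝓩₀, ?_⟩
  intro T' P' g fst' snd' H
  have hcovT : ⨆ i, g ⁻¹ᵁ O i = ⊤ := by
    rw [← Scheme.Hom.preimage_iSup, hO, Scheme.Hom.preimage_top]
  have hcovP : ⨆ i, snd' ⁻¹ᵁ (g ⁻¹ᵁ O i) = ⊤ := by
    rw [← Scheme.Hom.preimage_iSup, hcovT, Scheme.Hom.preimage_top]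
  have key : ∀ i, (𝓩₀.comap g).comap (g ⁻¹ᵁ O i).ι = ⊥ ↔
      (𝓙.comap fst').comap (snd' ⁻¹ᵁ (g ⁻¹ᵁ O i)).ι = ⊥ := by
    intro i
    have e1 : (𝓩₀.comap g).comap (g ⁻¹ᵁ O i).ι = (𝓩 i).comap (g ∣_ O i) := by
      rw [← comap_comp, ← morphismRestrict_ι, comap_comp, h𝓩₀ i]
    have e2 : (𝓙.comap fst').comap (snd' ⁻¹ᵁ (g ⁻¹ᵁ O i)).ι =
        𝓙.comap ((snd' ⁻¹ᵁ (g ⁻¹ᵁ O i)).ι ≫ fst') := (comap_comp _ _ _).symm
    have Hi : IsPullback ((snd' ⁻¹ᵁ (g ⁻¹ᵁ O i)).ι ≫ fst') (snd' ∣_ (g ⁻¹ᵁ O i)) p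
        ((g ∣_ O i) ≫ (O i).ι) := by
      rw [morphismRestrict_ι]
      exact (isPullback_morphismRestrict snd' (g ⁻¹ᵁ O i)).flip.paste_horiz H
    rw [e1, e2]
    exact h i (g ∣_ O i) _ _ Hi
  constructor
  · intro h0
    refine Groth.Agent.Lib.T2H7.IdealGlue.eq_of_comap_eq _ hcovP _ _ fun i => ?_
    rw [comap_bot]
    exact (key i).1 (by rw [h0, comap_bot])
  · intro h0
    refine Groth.Agent.Lib.T2H7.IdealGlue.eq_of_comap_eq _ hcovT _ _ fun i => ?_
    rw [comap_bot]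
    exact (key i).2 (by rw [h0, comap_bot])

end glue

/-- Weil restriction ideals exist along every base change of `y`. -/
def WeilRep : MorphismProperty Scheme.{u} := fun Y S y =>
  ∀ ⦃T P : Scheme.{u}⦄ (t : T ⟶ S) (fst : P ⟶ Y) (p : P ⟶ T), IsPullback fst p y t →
    ∀ 𝓙 : P.IdealSheafData, ∃ 𝓩 : T.IdealSheafData, IsWeil p 𝓙 𝓩

instance : WeilRep.{u}.IsStableUnderBaseChange where
  of_isPullback {X Y Y' S f g f' g'} sq hg := by
    intro T P t fst p H 𝓙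
    exact hg (t ≫ f) (fst ≫ f') p (H.paste_horiz sq) 𝓙

instance : WeilRep.{u}.RespectsIso := inferInstance

theorem weilRep_of_sSup_eq_top {Y S : Scheme.{u}} (y : Y ⟶ S) {ι : Type u} (U : ι → S.Opens)
    (hU : iSup U = ⊤) (h : ∀ i, WeilRep (y ∣_ U i)) : WeilRep y := by
  intro T P t a p H 𝓙
  have hO : ⨆ i, t ⁻¹ᵁ U i = ⊤ := by
    rw [← Scheme.Hom.preimage_iSup, hU, Scheme.Hom.preimage_top]
  have hex : ∀ i, ∃ 𝓩 : (t ⁻¹ᵁ U i).toScheme.IdealSheafData,
      IsWeilOn p 𝓙 (t ⁻¹ᵁ U i).ι 𝓩 := by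
    intro i
    have big : IsPullback (pullback.fst (y ∣_ U i) (t ∣_ U i) ≫ (y ⁻¹ᵁ U i).ι)
        (pullback.snd (y ∣_ U i) (t ∣_ U i)) y ((t ⁻¹ᵁ U i).ι ≫ t) := by
      rw [← morphismRestrict_ι]
      exact (IsPullback.of_hasPullback (y ∣_ U i) (t ∣_ U i)).paste_horiz
        (isPullback_morphismRestrict y (U i)).flip
    have w : (pullback.fst (y ∣_ U i) (t ∣_ U i) ≫ (y ⁻¹ᵁ U i).ι) ≫ y =
        (pullback.snd (y ∣_ U i) (t ∣_ U i) ≫ (t ⁻¹ᵁ U i).ι) ≫ t := by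
      rw [big.w, Category.assoc]
    have H₁ : IsPullback (H.lift _ _ w) (pullback.snd (y ∣_ U i) (t ∣_ U i)) p
        (t ⁻¹ᵁ U i).ι := by
      refine IsPullback.of_right ?_ (H.lift_snd _ _ _) H
      rw [H.lift_fst]
      exact big
    obtain ⟨𝓩, h𝓩⟩ := h i (t ∣_ U i) _ _ (IsPullback.of_hasPullback (y ∣_ U i) (t ∣_ U i))
      (𝓙.comap (H.lift _ _ w))
    exact ⟨𝓩, IsWeil.isWeilOn H₁ h𝓩⟩
  choose 𝓩 h𝓩 using hex
  exact exists_isWeil_of_openCover p 𝓙 _ hO 𝓩 h𝓩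

instance : IsZariskiLocalAtTarget WeilRep.{u} :=
  IsZariskiLocalAtTarget.mk'
    (fun f U hf => MorphismProperty.of_isPullback (isPullback_morphismRestrict f U).flip hf)
    (fun f _ U hU h => weilRep_of_sSup_eq_top f U hU h)

instance : WeilRep.{u}.DescendsAlong (@Surjective ⊓ @Flat ⊓ @QuasiCompact) where
  of_isPullback {A X Y Z fst snd f g} h hf hfst := by
    obtain ⟨⟨hs, hfl⟩, hqc⟩ := hf
    haveI : Surjective f := hs
    haveI : Flat f := hfl
    haveI : QuasiCompact f := hqc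
    intro T P t a p H 𝓙
    have big : IsPullback (pullback.fst fst (pullback.snd t f) ≫ snd)
        (pullback.snd fst (pullback.snd t f)) g (pullback.fst t f ≫ t) := by
      rw [pullback.condition]
      exact (IsPullback.of_hasPullback fst (pullback.snd t f)).paste_horiz h.flip
    have w : (pullback.fst fst (pullback.snd t f) ≫ snd) ≫ g =
        (pullback.snd fst (pullback.snd t f) ≫ pullback.fst t f) ≫ t := by
      rw [big.w, Category.assoc]
    have H₁ : IsPullback (H.lift _ _ w) (pullback.snd fst (pullback.snd t f)) p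
        (pullback.fst t f) := by
      refine IsPullback.of_right ?_ (H.lift_snd _ _ _) H
      rw [H.lift_fst]
      exact big
    obtain ⟨𝓩₁, h𝓩₁⟩ := hfst (pullback.snd t f) _ _
      (IsPullback.of_hasPullback fst (pullback.snd t f)) (𝓙.comap (H.lift _ _ w))
    have h1 : IsWeilOn p 𝓙 (pullback.fst t f ≫ 𝟙 T) 𝓩₁ :=
      (IsWeil.isWeilOn H₁ h𝓩₁).of_eq (Category.comp_id _).symm
    exact ⟨_, (isWeil_iff_isWeilOn_id _ _ _).2 (IsWeilOn.descent (pullback.fst t f) h1).1⟩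

end Groth.Agent.Lib.T2H7.WeilDescB
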