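import Mathlib
import Groth.Agent.Lib.T2H7WeilDescB
import Groth.Agent.Lib.T2H7WeilClosedLocOver
import Groth.Agent.Lib.T2H7FreeDiagD

/-!
# Weil restriction of closed subschemes along groups of multiplicative type (helper7)

`WeilRep` holds for `Spec R[G] ⟶ Spec R`, hence for diagonalisable groups, hence (Zariski and fpqc
descent) for groups of multiplicative type.  `Over S` forms: `exists_closed_left_multType`,
`exists_closed_eq_left_multType`, `exists_closed_fixed_multType`.
-/

set_option autoImplicit false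
set_option linter.unusedSectionVars false
set_option linter.unusedVariables false
set_option linter.style.haveILetI false
universe u
open CategoryTheory CategoryTheory.Limits AlgebraicGeometry MonoidalCategory CartesianMonoidalCategory
  MonObj GrpObj

namespace Groth.Agent.Lib.T2H7.WeilDescC

open Groth.Agent.Lib.T2H7.WeilDescA Groth.Agent.Lib.T2H7.WeilDescB
  Groth.Agent.Lib.T2H7.WeilClosedLoc Groth.Agent.Lib.T2H7.WeilClosedLocOver

theorem free_of_square {R B R' B' : Type*} [CommRing R] [CommRing B] [CommRing R'] [CommRing B']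
    [Algebra R B] [Module.Free R B] (φ' : R' →+* B') (eR : R ≃+* R') (eB : B ≃+* B')
    (h : ∀ r, eB (algebraMap R B r) = φ' (eR r)) :
    @Module.Free R' B' _ _ φ'.toAlgebra.toModule := by
  letI := φ'.toAlgebra
  let σ : R →+* R' := eR.toRingHom
  let σ' : R' →+* R := eR.symm.toRingHom
  haveI : RingHomInvPair σ σ' := RingHomInvPair.of_ringEquiv eR
  haveI : RingHomInvPair σ' σ := RingHomInvPair.of_ringEquiv eR.symm
  let e₂ : B ≃ₛₗ[σ] B' :=
    { eB.toAddEquiv with
      map_smul' := fun r b => by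
        change eB (r • b) = eR r • eB b
        rw [Algebra.smul_def, Algebra.smul_def, map_mul]
        congr 1
        exact h r }
  exact Module.Free.of_equiv e₂

/-- an affine morphism to an affine scheme whose algebra of global sections is free has the Weil
restriction property. -/
theorem weilRep_of_free {A₀ S₀ : Scheme.{u}} (α : A₀ ⟶ S₀) [IsAffineHom α] (U : S₀.affineOpens)
    (hU : U.1 = ⊤)
    (hfree : @Module.Free Γ(S₀, U.1) Γ(A₀, α ⁻¹ᵁ U.1) _ _ (α.app U.1).hom.toAlgebra.toModule) :
    WeilRep α := by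
  intro T P t fst p H 𝓙
  haveI : IsAffineHom p := MorphismProperty.of_isPullback H inferInstance
  obtain ⟨𝓩, h𝓩⟩ := exists_weilIdeal_loc (p := p) (fun _ => True) (fun _ _ _ _ => trivial)
    (fun y => by
      obtain ⟨V, hV, hyV, -⟩ := exists_isAffineOpen_mem_and_subset (x := y) (U := ⊤) trivial
      exact ⟨⟨V, hV⟩, trivial, hyV⟩)
    (fun V _ => sectionsProjectiveAt_of_isPullback H U hfree V (by rw [hU]; exact le_top)) 𝓙
  exact ⟨𝓩, fun T' P' g fst' snd' H' => h𝓩 g fst' snd' H'⟩

theorem weilRep_specMap_monoidAlgebra (R : Type u) [CommRing R] (G : Type) [CommMonoid G] :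
    WeilRep (Spec.map (CommRingCat.ofHom (algebraMap R (MonoidAlgebra R G)))) := by
  refine weilRep_of_free _ ⟨⊤, isAffineOpen_top _⟩ rfl ?_
  haveI : Module.Free R (MonoidAlgebra R G) := Module.Free.of_basis (MonoidAlgebra.basis G R)
  refine free_of_square (R := R) (B := MonoidAlgebra R G) _
    (Scheme.ΓSpecIso (CommRingCat.of R)).symm.commRingCatIsoToRingEquiv
    (Scheme.ΓSpecIso (CommRingCat.of (MonoidAlgebra R G))).symm.commRingCatIsoToRingEquiv ?_
  intro r
  have := Scheme.ΓSpecIso_inv_naturality (CommRingCat.ofHom (algebraMap R (MonoidAlgebra R G)))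
  exact congrArg (fun f => f.hom r) this

theorem weilRep_DS (S : Scheme.{u}) (M : Type) [AddCommGroup M] : WeilRep (Red.DS S M).hom :=
  MorphismProperty.of_isPullback
    (IsPullback.of_hasPullback (Red.diag (ULift.{u} ℤ) M).hom
      (Limits.IsTerminal.from specULiftZIsTerminal S))
    (weilRep_specMap_monoidAlgebra (ULift.{u} ℤ) (Multiplicative M))

theorem weilRep_of_iso {S : Scheme.{u}} {H D : Over S} (e : H ≅ D) (h : WeilRep D.hom) :
    WeilRep H.hom := by
  have : H.hom = e.hom.left ≫ D.hom := (Over.w e.hom).symm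
  rw [this]
  haveI : IsIso e.hom.left := inferInstanceAs (IsIso ((Over.forget _).map e.hom))
  exact (MorphismProperty.cancel_left_of_respectsIso WeilRep e.hom.left D.hom).2 h

/-- **groups of multiplicative type have the Weil restriction property.** -/
theorem weilRep_of_multType {S : Scheme.{u}} (H : Over S) [GrpObj H]
    (hH : TwC.Locally S TwC.Topology.fpqc (fun S' f => ∃ (M : Type) (_ : AddCommGroup M),
      Nonempty (Grp.mk (Red.bc f H) ≅ Grp.mk (Red.DS S' M)))) : WeilRep H.hom := by
  let φ : H ⟶ Over.mk (𝟙 S) := Over.homMk H.hom (by simp)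
  have key := Groth.Agent.Lib.T2H7.FreeDiagD.prop_of_charts' WeilRep hH φ ?_
  · exact key
  intro Y g M _ _ hs
  obtain ⟨e⟩ := hs
  have h1 : WeilRep (Red.bc g H).hom :=
    weilRep_of_iso ((Grp.forget _).mapIso e) (weilRep_DS Y M)
  have h2 : ((Over.pullback g).map φ).left ≫ ((Over.pullback g).obj (Over.mk (𝟙 S))).hom =
      (Red.bc g H).hom := Over.w _
  haveI : IsIso ((Over.pullback g).obj (Over.mk (𝟙 S))).hom := by
    change IsIso (pullback.snd (𝟙 S) g)
    infer_instance
  rw [← h2] at h1
  exact (MorphismProperty.cancel_right_of_respectsIso WeilRep _ _).1 h1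

section OverForms

variable {S : Scheme.{u}}

/-- **Weil restriction of closed subschemes along a group of multiplicative type**: for a closed
subscheme `E` of `H ⊗ G`, the points `g` of `G` with `H × g` factoring through `E` form a closed
subscheme of `G`. -/
theorem exists_closed_left_multType (H G : Over S) [GrpObj H]
    (hH : TwC.Locally S TwC.Topology.fpqc (fun S' f => ∃ (M : Type) (_ : AddCommGroup M),
      Nonempty (Grp.mk (Red.bc f H) ≅ Grp.mk (Red.DS S' M))))
    {E : Scheme.{u}} (ε : E ⟶ (H ⊗ G).left) [IsClosedImmersion ε] :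
    ∃ (C : Over S) (c : C ⟶ G), IsClosedImmersion c.left ∧
      ∀ (X : Over S) (g : X ⟶ G), (∃ z : X ⟶ C, z ≫ c = g) ↔
        ∃ l : (H ⊗ X).left ⟶ E, l ≫ ε = (H ◁ g).left := by
  have hpb : IsPullback (fst H G).left (snd H G).left H.hom G.hom :=
    IsPullback.of_hasPullback H.hom G.hom
  obtain ⟨𝓩, h𝓩⟩ := weilRep_of_multType H hH G.hom (fst H G).left (snd H G).left hpb ε.ker
  refine ⟨Over.mk (𝓩.subschemeι ≫ G.hom), Over.homMk 𝓩.subschemeι rfl,
    inferInstanceAs (IsClosedImmersion 𝓩.subschemeι), fun X g => ?_⟩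
  have Hg := (Groth.Agent.Lib.Helper12.isPullback_whiskerLeft H g).map (Over.forget S)
  have key : (∃ t : X.left ⟶ 𝓩.subscheme, t ≫ 𝓩.subschemeι = g.left) ↔
      ∃ l : (H ⊗ X).left ⟶ E, l ≫ ε = (H ◁ g).left := by
    rw [Groth.Agent.Lib.T2H7.WeilClosed.exists_lift_iff_comap_eq_bot,
      Groth.Agent.Lib.T2H7.WeilClosed.exists_lift_iff_comap_eq_bot,
      Scheme.IdealSheafData.ker_subschemeι]
    exact h𝓩 g.left (H ◁ g).left (snd H X).left Hg
  rw [← key]
  constructor
  · rintro ⟨z, rfl⟩
    exact ⟨z.left, rfl⟩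
  · rintro ⟨t, ht⟩
    refine ⟨Over.homMk t ?_, ?_⟩
    · change t ≫ 𝓩.subschemeι ≫ G.hom = X.hom
      rw [← Category.assoc, ht, Over.w g]
    · ext1
      exact ht

/-- equalizer form. -/
theorem exists_closed_eq_left_multType (H G W : Over S) [GrpObj H]
    (hH : TwC.Locally S TwC.Topology.fpqc (fun S' f => ∃ (M : Type) (_ : AddCommGroup M),
      Nonempty (Grp.mk (Red.bc f H) ≅ Grp.mk (Red.DS S' M))))
    [IsSeparated W.hom] (α β : H ⊗ G ⟶ W) :
    ∃ (C : Over S) (c : C ⟶ G), IsClosedImmersion c.left ∧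
      ∀ (X : Over S) (g : X ⟶ G), (∃ z : X ⟶ C, z ≫ c = g) ↔
        (H ◁ g) ≫ α = (H ◁ g) ≫ β := by
  obtain ⟨C, c, hc, hC⟩ := exists_closed_left_multType H G hH (equalizer.ι α β).left
  refine ⟨C, c, hc, fun X g => ?_⟩
  rw [hC X g, Groth.Agent.Lib.T2H7.WeilClosedOver.exists_lift_equalizer_iff]

/-- fixed points of an action of a group of multiplicative type on a scheme separated over the base
are represented by a closed subscheme. -/
theorem exists_closed_fixed_multType (H X : Over S) [GrpObj H]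
    (hH : TwC.Locally S TwC.Topology.fpqc (fun S' f => ∃ (M : Type) (_ : AddCommGroup M),
      Nonempty (Grp.mk (Red.bc f H) ≅ Grp.mk (Red.DS S' M))))
    [IsSeparated X.hom] (a : AlgGrp.Action H X) :
    ∃ (F : Over S) (j : F ⟶ X), IsClosedImmersion j.left ∧
      ∀ (T : Over S) (x : T ⟶ X), (∃ y : T ⟶ F, y ≫ j = x) ↔
        ∀ (T' : Over S) (t : T' ⟶ T) (h : T' ⟶ H), lift h (t ≫ x) ≫ a.act = t ≫ x := by
  obtain ⟨F, j, hj, hF⟩ := exists_closed_eq_left_multType H X X hH a.act (snd H X)
  refine ⟨F, j, hj, fun T x => ?_⟩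
  rw [hF T x]
  constructor
  · intro h T' t g
    have e : lift g (t ≫ x) = lift g t ≫ (H ◁ x) := by
      ext <;> simp
    rw [e, Category.assoc, h]
    simp
  · intro h
    have e : H ◁ x = lift (fst H T) (snd H T ≫ x) := by
      ext <;> simp
    have := h (H ⊗ T) (snd H T) (fst H T)
    rw [e, this]
    simp

end OverForms

end Groth.Agent.Lib.T2H7.WeilDescC
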