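import Groth.Agent.Lib.T2H7FixSmB
import Groth.Agent.Lib.T2H7FreeDiagD
import Groth.Agent.Lib.T2H7WeilDescC

/-!
# Smoothness of the fixed locus of a group of multiplicative type (helper7)

For `H` of multiplicative type acting on `X` smooth and affine over `S`, the closed subscheme of
fixed points is smooth over `S`.
-/

set_option autoImplicit false
set_option linter.unusedSectionVars false
set_option linter.unusedVariables false
set_option linter.style.haveILetI false
universe u
open CategoryTheory CategoryTheory.Limits MonoidalCategory CartesianMonoidalCategory MonObj GrpObj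
  AlgebraicGeometry

namespace Groth.Agent.Lib.T2H7.FixSmC

open Groth.Agent.Lib.T2H7.FixSmB Groth.Agent.Lib.T2H7.FreeDiagD Groth.Agent.Lib.T2H7.GrpIsoBC

section BaseChange

variable {S Y : Scheme.{u}} (g : Y ⟶ S) {G X : Over S} [GrpObj G] (a : AlgGrp.Action G X)

theorem isFix_bc_iff {T' : Over Y} (x₀ : (Over.map g).obj T' ⟶ X) :
    IsFix (a.bc g) ((Over.mapPullbackAdj g).homEquiv T' X x₀) ↔ IsFix a x₀ := by
  constructor
  · intro h T₀ t₀ h₀
    -- give `T₀` its structure over `Y`
    let T₀' : Over Y := Over.mk (t₀.left ≫ T'.hom)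
    let e : (Over.map g).obj T₀' ≅ T₀ := Over.isoMk (Iso.refl _) (by
      have := Over.w t₀
      simp only [Over.map_obj_hom] at this
      simp [T₀', this])
    let t₀' : T₀' ⟶ T' := Over.homMk t₀.left rfl
    have he : (Over.map g).map t₀' = e.hom ≫ t₀ := by
      apply Over.OverMorphism.ext
      simp [e, t₀']
    have h1 := h T₀' t₀' ((Over.mapPullbackAdj g).homEquiv T₀' G (e.hom ≫ h₀))
    rw [← Adjunction.homEquiv_naturality_left, AlgGrp.Action.lift_homEquiv_bc_act] at h1
    have h2 := ((Over.mapPullbackAdj g).homEquiv T₀' X).injective h1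
    rw [he, Category.assoc, ← comp_lift_assoc] at h2
    exact (cancel_epi e.hom).1 h2
  · intro h T'' t h'
    obtain ⟨h₀, rfl⟩ := ((Over.mapPullbackAdj g).homEquiv T'' G).surjective h'
    rw [← Adjunction.homEquiv_naturality_left, AlgGrp.Action.lift_homEquiv_bc_act,
      h _ ((Over.map g).map t) h₀]

theorem rep_bc {F : Over S} (j : F ⟶ X)
    (hF : ∀ (T : Over S) (x : T ⟶ X), (∃ y : T ⟶ F, y ≫ j = x) ↔ IsFix a x)
    (T' : Over Y) (x' : T' ⟶ Red.bc g X) :
    (∃ y' : T' ⟶ Red.bc g F, y' ≫ (Over.pullback g).map j = x') ↔ IsFix (a.bc g) x' := by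
  obtain ⟨x₀, rfl⟩ := ((Over.mapPullbackAdj g).homEquiv T' X).surjective x'
  rw [isFix_bc_iff, ← hF]
  constructor
  · rintro ⟨y', hy'⟩
    obtain ⟨y₀, rfl⟩ := ((Over.mapPullbackAdj g).homEquiv T' F).surjective y'
    rw [← Adjunction.homEquiv_naturality_right] at hy'
    exact ⟨y₀, ((Over.mapPullbackAdj g).homEquiv T' X).injective hy'⟩
  · rintro ⟨y₀, rfl⟩
    exact ⟨(Over.mapPullbackAdj g).homEquiv T' F y₀,
      (Adjunction.homEquiv_naturality_right _ _ _).symm⟩

end BaseChange

section Transport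

variable {S : Scheme.{u}} {G D X : Over S} [GrpObj G] [GrpObj D] (a : AlgGrp.Action G X)
  (e : G ≅ D) [IsMonHom e.hom]

theorem isFix_restrict_iff {T : Over S} (x : T ⟶ X) :
    IsFix (a.restrict e.inv) x ↔ IsFix a x := by
  constructor
  · intro h T' t c
    have h1 := h T' t (c ≫ e.hom)
    rw [AlgGrp.Action.restrict_act, lift_whiskerRight_assoc, Category.assoc, Iso.hom_inv_id,
      Category.comp_id] at h1
    exact h1
  · intro h T' t c
    rw [AlgGrp.Action.restrict_act, lift_whiskerRight_assoc]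
    exact h T' t (c ≫ e.inv)

end Transport

section Main

variable {S : Scheme.{u}} (H X : Over S) [GrpObj H]

/-- **Smoothness of the fixed locus.** -/
theorem smooth_fixed
    (hH : TwC.Locally S TwC.Topology.fpqc (fun S' f => ∃ (M : Type) (_ : AddCommGroup M),
      Nonempty (Grp.mk (Red.bc f H) ≅ Grp.mk (Red.DS S' M))))
    (hXa : IsAffineHom X.hom) (hXs : Smooth X.hom) (a : AlgGrp.Action H X)
    (F : Over S) (j : F ⟶ X) (hj : IsClosedImmersion j.left)
    (hF : ∀ (T : Over S) (x : T ⟶ X), (∃ y : T ⟶ F, y ≫ j = x) ↔ IsFix a x) :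
    Smooth F.hom := by
  let φ : F ⟶ Over.mk (𝟙 S) := Over.homMk F.hom (by simp)
  have key := prop_of_charts' @Smooth hH φ ?_
  · exact key
  intro Y g M _ hY hs
  obtain ⟨e, he⟩ := (nonempty_grpIso_iff _ _).1 hs
  haveI := he
  haveI := hY
  haveI : IsAffineHom (Red.bc g X).hom :=
    MorphismProperty.pullback_snd (P := @IsAffineHom) X.hom g hXa
  haveI : IsAffine (Red.bc g X).left := isAffine_of_isAffineHom (Red.bc g X).hom
  have hsm : Smooth (Red.bc g X).hom :=
    MorphismProperty.pullback_snd (P := @Smooth) X.hom g hXs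
  have hj' : IsClosedImmersion ((Over.pullback g).map j).left :=
    Groth.Agent.Lib.T2H7.OverDescP.bc @IsClosedImmersion g j hj
  have h1 : Smooth (Red.bc g F).hom := by
    refine smooth_fixed_split ((a.bc g).restrict e.inv) hsm (Red.bc g F)
      ((Over.pullback g).map j) hj' ?_
    intro T' x'
    rw [isFix_restrict_iff]
    exact rep_bc g a j hF T' x'
  have h2 : ((Over.pullback g).map φ).left ≫ ((Over.pullback g).obj (Over.mk (𝟙 S))).hom =
      (Red.bc g F).hom := Over.w _
  haveI : IsIso ((Over.pullback g).obj (Over.mk (𝟙 S))).hom := by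
    change IsIso (pullback.snd (𝟙 S) g)
    infer_instance
  rw [← h2] at h1
  exact (MorphismProperty.cancel_right_of_respectsIso @Smooth _ _).1 h1

end Main

end Groth.Agent.Lib.T2H7.FixSmC
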