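import Mathlib
import Groth.Prelude.Def_AutSch
import Groth.Agent.S5322
import Groth.Agent.Lib.Helper12TorsorDescent
import Groth.Agent.Lib.Helper25TopGrp

/-!
Helper library (helper7): an open subgroup scheme contains the neutral components of the fibres.
-/

set_option autoImplicit false
set_option linter.unusedSectionVars false
set_option linter.unusedVariables false
set_option linter.style.haveILetI false
universe u
open CategoryTheory CategoryTheory.Limits AlgebraicGeometry TopologicalSpace Opposite
open MonoidalCategory CartesianMonoidalCategory MonObj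

namespace Groth.Agent.Lib.T2H7.OpenSub

/-- over a field, an open subgroup contains the connected component of the identity. -/
theorem connectedComponent_subset_range {k : Type u} [Field k]
    {G H : Over (Spec (CommRingCat.of k))} [GrpObj G] [GrpObj H] (i : H ⟶ G) [IsMonHom i]
    (hopen : IsOpen (Set.range i.left)) :
    connectedComponent (AutSch.unitPt G) ⊆ Set.range i.left := by
  have hcl : IsClosed (Set.range i.left) :=
    Groth.Agent.Lib.Helper25.TopGrp.isClosed_range_of_isLocallyClosed i hopen.isLocallyClosed
  have hclopen : IsClopen (Set.range i.left) := ⟨hcl, hopen⟩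
  apply hclopen.connectedComponent_subset
  refine ⟨η[H].left (IsLocalRing.closedPoint k), ?_⟩
  change (η[H].left ≫ i.left) _ = _
  rw [← Over.comp_left, IsMonHom.one_hom]
  rfl

variable {S : Scheme.{u}} {G H : Over S} [GrpObj G] [GrpObj H] (i : H ⟶ G) [IsMonHom i]
  [IsOpenImmersion i.left]

/-- an open subgroup scheme contains the neutral components of the fibres. -/
theorem neutralSet_subset_range : SGA3x.neutralSet G ⊆ Set.range i.left := by
  intro x hx
  set s : S := G.hom x with hs
  let K := S.residueField s
  let f : Spec (CommRingCat.of K) ⟶ S := S.fromSpecResidueField s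
  let i' : Red.bc f H ⟶ Red.bc f G := (Over.pullback f).map i
  haveI : IsMonHom i' := inferInstance
  have hpb := Groth.Agent.Lib.Helper12.TorsorDescent.isPullback_pullback_map f i
  haveI : IsOpenImmersion i'.left :=
    MorphismProperty.of_isPullback (P := @IsOpenImmersion) hpb.flip inferInstance
  have hopen : IsOpen (Set.range i'.left) := i'.left.isOpenEmbedding.isOpen_range
  obtain ⟨x', hx'1, -⟩ := Scheme.Pullback.exists_preimage_pullback (f := G.hom) (g := f) x
    (IsLocalRing.closedPoint K) (by
      rw [← hs]
      exact (Scheme.fromSpecResidueField_apply s _).symm)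
  have h1 : x' ∈ SGA3x.neutralSet (Red.bc f G) := by
    rw [Groth.Agent.S5322.result S _ f G]
    change pullback.fst G.hom f x' ∈ SGA3x.neutralSet G
    rw [hx'1]
    exact hx
  rw [AutSch.neutralSet_eq_connectedComponent] at h1
  obtain ⟨h', hh'⟩ := connectedComponent_subset_range i' hopen h1
  refine ⟨pullback.fst H.hom f h', ?_⟩
  rw [← hx'1, ← hh', ← Scheme.Hom.comp_apply, ← Scheme.Hom.comp_apply, hpb.w]

/-- the neutral set of an open subgroup scheme maps onto the neutral set. -/
theorem image_neutralSet : i.left '' SGA3x.neutralSet H = SGA3x.neutralSet G := by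
  have hη : ∀ p : (𝟙_ (Over S)).left, i.left (η[H].left p) = η[G].left p := by
    intro p
    change (η[H].left ≫ i.left) p = _
    rw [← Over.comp_left, IsMonHom.one_hom]
  have hw : ∀ h : H.left, G.hom (i.left h) = H.hom h := by
    intro h
    rw [← Scheme.Hom.comp_apply, Over.w i]
  apply Set.Subset.antisymm
  · rintro _ ⟨h, hh, rfl⟩
    simp only [SGA3x.neutralSet, Set.mem_iUnion] at hh ⊢
    obtain ⟨p, hp⟩ := hh
    refine ⟨p, ?_⟩
    have hmem : η[H].left p ∈ H.hom.base ⁻¹' {(𝟙_ (Over S)).hom.base p} := by
      change H.hom (η[H].left p) = (𝟙_ (Over S)).hom p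
      rw [← Scheme.Hom.comp_apply, Over.w η[H]]
    have h1 := ContinuousOn.image_connectedComponentIn_subset i.left.continuous.continuousOn hmem
    have h2 : i.left '' (H.hom.base ⁻¹' {(𝟙_ (Over S)).hom.base p}) ⊆
        G.hom.base ⁻¹' {(𝟙_ (Over S)).hom.base p} := by
      rintro _ ⟨z, hz, rfl⟩
      change G.hom (i.left z) = _
      rw [hw]
      exact hz
    have h3 := connectedComponentIn_mono (i.left (η[H].left p)) h2
    have h4 := h3 (h1 ⟨h, hp, rfl⟩)
    rw [hη] at h4
    exact h4
  · intro x hx
    obtain ⟨h, rfl⟩ := neutralSet_subset_range i hx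
    refine ⟨h, ?_, rfl⟩
    simp only [SGA3x.neutralSet, Set.mem_iUnion] at hx ⊢
    obtain ⟨p, hp⟩ := hx
    refine ⟨p, ?_⟩
    set C := connectedComponentIn (G.hom.base ⁻¹' {(𝟙_ (Over S)).hom.base p}) (η[G].left.base p)
      with hC
    have hmemG : η[G].left p ∈ G.hom.base ⁻¹' {(𝟙_ (Over S)).hom.base p} := by
      change G.hom (η[G].left p) = (𝟙_ (Over S)).hom p
      rw [← Scheme.Hom.comp_apply, Over.w η[G]]
    have hCsub : C ⊆ Set.range i.left := by
      intro z hz
      apply neutralSet_subset_range i
      simp only [SGA3x.neutralSet, Set.mem_iUnion]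
      exact ⟨p, hz⟩
    have hpre : _root_.IsPreconnected (i.left ⁻¹' C) :=
      isPreconnected_connectedComponentIn.preimage_of_isOpenMap
        i.left.isOpenEmbedding.injective i.left.isOpenEmbedding.isOpenMap hCsub
    have hsubF : i.left ⁻¹' C ⊆ H.hom.base ⁻¹' {(𝟙_ (Over S)).hom.base p} := by
      intro z hz
      have := connectedComponentIn_subset _ _ hz
      change H.hom z = _
      rw [← hw]
      exact this
    have hηmem : η[H].left p ∈ i.left ⁻¹' C := by
      change i.left (η[H].left p) ∈ C
      rw [hη]
      exact mem_connectedComponentIn hmemG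
    exact hpre.subset_connectedComponentIn hηmem hsubF hp

end Groth.Agent.Lib.T2H7.OpenSub
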