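import Mathlib
import Groth.Prelude.Def_ActBC
import Groth.Agent.Lib.T2H7OpenSub
import Groth.Agent.Lib.T2H7FixSmC
import Groth.Agent.Lib.Helper12GeomConn
import Groth.Agent.Lib.Helper11SubGrp
import Groth.Agent.Lib.Helper12Act

/-!
Helper library (helper7): an étale equivariant morphism reflects fixed points of a group scheme with
connected fibres.  The stabilizer of a point is an open subgroup scheme (the diagonal of an étale
morphism is an open immersion), hence contains the neutral components of the fibres.
-/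

set_option autoImplicit false
set_option linter.unusedSectionVars false
set_option linter.unusedVariables false
set_option linter.style.haveILetI false
universe u
open CategoryTheory CategoryTheory.Limits AlgebraicGeometry TopologicalSpace Opposite
open MonoidalCategory CartesianMonoidalCategory MonObj

namespace Groth.Agent.Lib.T2H7.EtFix

open Groth.Agent.Lib.T2H7.FixSmB

section Sch

variable {X Y Z : Scheme.{u}} (f : X ⟶ Y) [IsOpenImmersion (pullback.diagonal f)]

/-- two lifts through a morphism with open diagonal agree as soon as they agree locally (pointwise). -/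
theorem eq_of_locally_eq (u v : Z ⟶ X) (h : u ≫ f = v ≫ f)
    (hloc : ∀ p : Z, ∃ (Z' : Scheme.{u}) (z : Z' ⟶ Z), p ∈ Set.range z ∧ z ≫ u = z ≫ v) :
    u = v := by
  let w : Z ⟶ pullback f f := pullback.lift u v h
  have hr : Set.range w ⊆ Set.range (pullback.diagonal f) := by
    rintro _ ⟨p, rfl⟩
    obtain ⟨Z', z, ⟨p', rfl⟩, hz⟩ := hloc p
    have e : z ≫ w = (z ≫ u) ≫ pullback.diagonal f := by
      apply pullback.hom_ext
      · rw [Category.assoc, Category.assoc, pullback.lift_fst, pullback.diagonal_fst,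
          Category.comp_id]
      · rw [Category.assoc, Category.assoc, pullback.lift_snd, pullback.diagonal_snd,
          Category.comp_id, hz]
    refine ⟨(z ≫ u) p', ?_⟩
    rw [← Scheme.Hom.comp_apply, ← e, Scheme.Hom.comp_apply]
  have hl := IsOpenImmersion.lift_fac (pullback.diagonal f) w hr
  have hu : u = IsOpenImmersion.lift (pullback.diagonal f) w hr := by
    have := congr($hl ≫ pullback.fst f f)
    rw [Category.assoc, pullback.diagonal_fst, Category.comp_id, pullback.lift_fst] at this
    exact this.symm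
  have hv : v = IsOpenImmersion.lift (pullback.diagonal f) w hr := by
    have := congr($hl ≫ pullback.snd f f)
    rw [Category.assoc, pullback.diagonal_snd, Category.comp_id, pullback.lift_snd] at this
    exact this.symm
  rw [hu, hv]

/-- the equalizer of two lifts through a morphism with open diagonal is an open subscheme. -/
theorem exists_open_equalizer (u v : Z ⟶ X) (h : u ≫ f = v ≫ f) :
    ∃ (W : Scheme.{u}) (j : W ⟶ Z), IsOpenImmersion j ∧
      ∀ (Z' : Scheme.{u}) (z : Z' ⟶ Z), (∃ l : Z' ⟶ W, l ≫ j = z) ↔ z ≫ u = z ≫ v := by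
  let w : Z ⟶ pullback f f := pullback.lift u v h
  refine ⟨pullback w (pullback.diagonal f), pullback.fst _ _, inferInstance, ?_⟩
  intro Z' z
  constructor
  · rintro ⟨l, rfl⟩
    have e : pullback.fst w (pullback.diagonal f) ≫ w =
        pullback.snd w (pullback.diagonal f) ≫ pullback.diagonal f := pullback.condition
    have e1 := congr(l ≫ $e ≫ pullback.fst f f)
    have e2 := congr(l ≫ $e ≫ pullback.snd f f)
    simp only [Category.assoc, w, pullback.lift_fst, pullback.lift_snd, pullback.diagonal_fst,
      pullback.diagonal_snd, Category.comp_id] at e1 e2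
    rw [Category.assoc, Category.assoc, e1, e2]
  · intro hz
    refine ⟨pullback.lift z (z ≫ u) ?_, pullback.lift_fst _ _ _⟩
    apply pullback.hom_ext
    · rw [Category.assoc, Category.assoc, pullback.lift_fst, pullback.diagonal_fst,
        Category.comp_id]
    · rw [Category.assoc, Category.assoc, pullback.lift_snd, pullback.diagonal_snd,
        Category.comp_id, hz]

end Sch

section OverS

variable {S : Scheme.{u}} {G X Y : Over S} [GrpObj G] (a : AlgGrp.Action G X)
  (b : AlgGrp.Action G Y) (f : X ⟶ Y)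

/-- the equalizer, in `Over S`, of two lifts through a morphism with open diagonal. -/
theorem exists_open_equalizer_over [IsOpenImmersion (pullback.diagonal f.left)]
    {Z : Over S} (u v : Z ⟶ X) (h : u ≫ f = v ≫ f) :
    ∃ (H : Over S) (n : H ⟶ Z), IsOpenImmersion n.left ∧ Mono n ∧
      ∀ (T : Over S) (g : T ⟶ Z), (∃ z : T ⟶ H, z ≫ n = g) ↔ g ≫ u = g ≫ v := by
  obtain ⟨W, j, hj, hW⟩ := exists_open_equalizer f.left u.left v.left
    (by rw [← Over.comp_left, h, Over.comp_left])
  refine ⟨Over.mk (j ≫ Z.hom), Over.homMk j rfl, hj, ?_, ?_⟩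
  · haveI : Mono ((Over.forget S).map (Over.homMk j rfl : Over.mk (j ≫ Z.hom) ⟶ Z)) := by
      change Mono j
      infer_instance
    exact (Over.forget S).mono_of_mono_map this
  · intro T g
    constructor
    · rintro ⟨z, rfl⟩
      ext
      have := (hW _ (z.left ≫ j)).1 ⟨z.left, rfl⟩
      simpa using this
    · intro hg
      obtain ⟨l, hl⟩ := (hW _ g.left).2 (by rw [← Over.comp_left, hg, Over.comp_left])
      refine ⟨Over.homMk l ?_, ?_⟩
      · change l ≫ j ≫ Z.hom = T.hom
        rw [← Category.assoc, hl, Over.w]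
      · ext
        simpa using hl

variable {a b f}

/-- the stabilizer of a section whose image is fixed is an open subgroup scheme. -/
theorem exists_open_stabilizer [IsOpenImmersion (pullback.diagonal f.left)]
    (hf : a.act ≫ f = (G ◁ f) ≫ b.act) (x : 𝟙_ (Over S) ⟶ X) (hx : IsFix b (x ≫ f)) :
    ∃ (H : Over S) (_ : GrpObj H) (n : H ⟶ G), IsMonHom n ∧ IsOpenImmersion n.left ∧
      ∀ (T : Over S) (g : T ⟶ G), (∃ z : T ⟶ H, z ≫ n = g) ↔
        lift g (toUnit T ≫ x) ≫ a.act = toUnit T ≫ x := by
  let u : G ⟶ X := lift (𝟙 G) (toUnit G ≫ x) ≫ a.act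
  let v : G ⟶ X := toUnit G ≫ x
  have huv : u ≫ f = v ≫ f := by
    have h1 := hx G (toUnit G) (𝟙 G)
    change (lift (𝟙 G) (toUnit G ≫ x) ≫ a.act) ≫ f = (toUnit G ≫ x) ≫ f
    rw [Category.assoc, hf, ← Category.assoc, lift_whiskerLeft, Category.assoc]
    exact h1
  obtain ⟨H, n, hn, hmono, hH⟩ := exists_open_equalizer_over f u v huv
  have hP : ∀ (T : Over S) (g : T ⟶ G), (∃ z : T ⟶ H, z ≫ n = g) ↔
      lift g (toUnit T ≫ x) ≫ a.act = toUnit T ≫ x := by
    intro T g
    rw [hH T g]
    have e1 : g ≫ u = lift g (toUnit T ≫ x) ≫ a.act := by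
      change g ≫ lift (𝟙 G) (toUnit G ≫ x) ≫ a.act = _
      rw [← Category.assoc, comp_lift, Category.comp_id, ← Category.assoc,
        toUnit_unique (g ≫ toUnit G) (toUnit T)]
    have e2 : g ≫ v = toUnit T ≫ x := by
      change g ≫ toUnit G ≫ x = _
      rw [← Category.assoc, toUnit_unique (g ≫ toUnit G) (toUnit T)]
    rw [e1, e2]
  obtain ⟨iH, hmon⟩ := Groth.Agent.Lib.Helper11SubGrp.exists_grpObj_of_pred n
    (fun T g => lift g (toUnit T ≫ x) ≫ a.act = toUnit T ≫ x) hP
    (Groth.Agent.Lib.Helper12.act_one a _)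
    (fun T g h hg hh => by
      rw [Groth.Agent.Lib.Helper12.act_mul, hh, hg])
    (fun T g hg => by
      have h1 := Groth.Agent.Lib.Helper12.act_mul a g⁻¹ g (toUnit T ≫ x)
      rw [hg, inv_mul_cancel, Groth.Agent.Lib.Helper12.act_one] at h1
      exact h1.symm)
  exact ⟨H, iH, n, hmon, hn, hP⟩

end OverS

section Field

variable {k : Type u} [Field k] {G X Y : Over (Spec (CommRingCat.of k))} [GrpObj G]
  {a : AlgGrp.Action G X} {b : AlgGrp.Action G Y} {f : X ⟶ Y}

/-- over a field, for a connected group: an equivariant morphism with open diagonal reflects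
fixed rational points. -/
theorem isFix_of_field [ConnectedSpace G.left] [IsOpenImmersion (pullback.diagonal f.left)]
    (hf : a.act ≫ f = (G ◁ f) ≫ b.act) (x : 𝟙_ (Over (Spec (CommRingCat.of k))) ⟶ X)
    (hx : IsFix b (x ≫ f)) : IsFix a x := by
  obtain ⟨H, iH, n, hmon, hn, hP⟩ := exists_open_stabilizer hf x hx
  have hopen : IsOpen (Set.range n.left) := n.left.isOpenEmbedding.isOpen_range
  have hsub := Groth.Agent.Lib.T2H7.OpenSub.connectedComponent_subset_range n hopen
  rw [PreconnectedSpace.connectedComponent_eq_univ] at hsub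
  intro T' t h
  have hr : Set.range h.left ⊆ Set.range n.left := fun p _ => hsub (Set.mem_univ p)
  have hz : ∃ z : T' ⟶ H, z ≫ n = h := by
    refine ⟨Over.homMk (IsOpenImmersion.lift n.left h.left hr) ?_, ?_⟩
    · rw [← Over.w n, ← Category.assoc, IsOpenImmersion.lift_fac, Over.w]
    · ext
      exact IsOpenImmersion.lift_fac _ _ _
  have := (hP T' h).1 hz
  rw [toUnit_unique t (toUnit T')]
  exact this

end Field

section General

variable {S : Scheme.{u}} {G X Y : Over S} [GrpObj G]
  {a : AlgGrp.Action G X} {b : AlgGrp.Action G Y} {f : X ⟶ Y}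

/-- a group scheme with connected fibres has geometrically connected fibres (unit section). -/
theorem geometricallyConnected_of_fibres
    (hconn : ∀ s : S, ConnectedSpace (G.hom.fiber s)) : GeometricallyConnected G.hom := by
  rw [GeometricallyConnected.iff_geometricallyConnected_fiber]
  intro s
  haveI := hconn s
  let e : S ⟶ G.left := η[G].left
  have he : e ≫ G.hom = 𝟙 S := Over.w η[G]
  exact Groth.Agent.Lib.Helper12.GeomConn.geometricallyConnected_of_section
    (G.hom.fiberToSpecResidueField s)
    (pullback.lift (S.fromSpecResidueField s ≫ e) (𝟙 _) (by rw [Category.assoc, he, Category.comp_id]; exact (Category.id_comp _).symm))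
    (pullback.lift_snd _ _ _)

/-- field-valued points: reflection of fixed points. -/
theorem isFix_of_fieldPoint (hconn : ∀ s : S, ConnectedSpace (G.hom.fiber s))
    [FormallyUnramified f.left] [LocallyOfFiniteType f.left]
    (hf : a.act ≫ f = (G ◁ f) ≫ b.act) {K : Type u} [Field K]
    (g : Spec (CommRingCat.of K) ⟶ S) (y : Over.mk g ⟶ X) (hy : IsFix b (y ≫ f)) :
    IsFix a y := by
  have hgc := geometricallyConnected_of_fibres hconn
  let T' : Over (Spec (CommRingCat.of K)) := 𝟙_ _
  let e : (Over.map g).obj T' ≅ Over.mk g := Over.isoMk (Iso.refl _) (by simp [T'])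
  let x₀ : (Over.map g).obj T' ⟶ X := e.hom ≫ y
  have hx₀ : IsFix b (x₀ ≫ f) := by
    have := hy.precomp e.hom
    rwa [← Category.assoc] at this
  let f' := (Over.pullback g).map f
  have hpb := Groth.Agent.Lib.Helper12.TorsorDescent.isPullback_pullback_map g f
  haveI : FormallyUnramified f'.left :=
    MorphismProperty.of_isPullback (P := @FormallyUnramified) hpb.flip inferInstance
  haveI : LocallyOfFiniteType f'.left :=
    MorphismProperty.of_isPullback (P := @LocallyOfFiniteType) hpb.flip inferInstance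
  haveI : ConnectedSpace (Red.bc g G).left := by
    haveI : GeometricallyConnected (pullback.snd G.hom g) := inferInstance
    exact GeometricallyConnected.connectedSpace_of_subsingleton (pullback.snd G.hom g)
  have hf' : (a.bc g).act ≫ f' = (Red.bc g G ◁ f') ≫ (b.bc g).act :=
    AlgGrp.Action.isEquivariant_bc g hf
  let x' : T' ⟶ Red.bc g X := (Over.mapPullbackAdj g).homEquiv T' X x₀
  have hx' : IsFix (b.bc g) (x' ≫ f') := by
    have e1 : x' ≫ f' = (Over.mapPullbackAdj g).homEquiv T' Y (x₀ ≫ f) :=
      (Adjunction.homEquiv_naturality_right _ _ _).symm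
    rw [e1, Groth.Agent.Lib.T2H7.FixSmC.isFix_bc_iff]
    exact hx₀
  have h1 : IsFix (a.bc g) x' := isFix_of_field hf' x' hx'
  have h2 : IsFix a x₀ := (Groth.Agent.Lib.T2H7.FixSmC.isFix_bc_iff g a x₀).1 h1
  have h3 := h2.precomp e.inv
  rwa [Iso.inv_hom_id_assoc] at h3

/-- **An étale (more generally: unramified) equivariant morphism reflects fixed points** of a
group scheme with connected fibres. -/
theorem isFix_of_etale (hconn : ∀ s : S, ConnectedSpace (G.hom.fiber s))
    [FormallyUnramified f.left] [LocallyOfFiniteType f.left]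
    (hf : a.act ≫ f = (G ◁ f) ≫ b.act) {T : Over S} (x : T ⟶ X) (hx : IsFix b (x ≫ f)) :
    IsFix a x := by
  rw [isFix_iff_univ]
  have hxf := (isFix_iff_univ (a := b) (x ≫ f)).1 hx
  let u : G ⊗ T ⟶ X := (G ◁ x) ≫ a.act
  let v : G ⊗ T ⟶ X := snd G T ≫ x
  have huv : u ≫ f = v ≫ f := by
    change ((G ◁ x) ≫ a.act) ≫ f = (snd G T ≫ x) ≫ f
    rw [Category.assoc, hf, ← Category.assoc, ← MonoidalCategory.whiskerLeft_comp, Category.assoc]
    exact hxf
  suffices h : u.left = v.left from Over.OverMorphism.ext h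
  apply eq_of_locally_eq f.left u.left v.left (by rw [← Over.comp_left, huv, Over.comp_left])
  intro p
  let z := (G ⊗ T).left.fromSpecResidueField p
  let P : Over S := Over.mk (z ≫ (G ⊗ T).hom)
  let zP : P ⟶ G ⊗ T := Over.homMk z rfl
  refine ⟨Spec ((G ⊗ T).left.residueField p), z,
    ⟨IsLocalRing.closedPoint _, Scheme.fromSpecResidueField_apply _ _⟩, ?_⟩
  have hyf : IsFix b (((zP ≫ snd G T) ≫ x) ≫ f) := by
    rw [Category.assoc]
    exact hx.precomp _
  have hy : IsFix a ((zP ≫ snd G T) ≫ x) :=
    isFix_of_fieldPoint (K := (G ⊗ T).left.residueField p) hconn hf (z ≫ (G ⊗ T).hom)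
      ((zP ≫ snd G T) ≫ x) hyf
  have h3 := hy P (𝟙 P) (zP ≫ fst G T)
  rw [Category.id_comp] at h3
  have h4 : zP ≫ u = zP ≫ v := by
    change zP ≫ (G ◁ x) ≫ a.act = zP ≫ snd G T ≫ x
    have e : zP ≫ (G ◁ x) = lift (zP ≫ fst G T) ((zP ≫ snd G T) ≫ x) := by
      ext <;> simp
    rw [← Category.assoc, e, h3, Category.assoc]
  exact congr(($h4).left)

end General

end Groth.Agent.Lib.T2H7.EtFix
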