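import Mathlib
import Groth.Prelude
import Groth.Agent.Lib.Helper18ColimSys

/-!
# Étale algebras over a directed colimit come from a stage (helper7)
-/

set_option autoImplicit false
universe u
open TensorProduct

namespace Groth.Agent.Lib.T2H7.EtModel

open Groth.Agent.Lib.Helper18ColimSys

attribute [local instance] ULift.algebra'

/-- ring homomorphisms are homomorphisms of algebras over the lifted integers -/
def toULiftAlgHom {S T : Type u} [CommRing S] [CommRing T] (φ : S →+* T) :
    S →ₐ[ULift.{u} ℤ] T :=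
  { φ with
    commutes' := fun z => by
      simp [ULift.algebraMap_apply'] }

theorem finitePresentation_ulift {S : Type u} [CommRing S] (h : Algebra.FiniteType ℤ S) :
    Algebra.FinitePresentation (ULift.{u} ℤ) S := by
  have : IsNoetherianRing (ULift.{u} ℤ) :=
    isNoetherianRing_of_ringEquiv ℤ (ULift.ringEquiv (R := ℤ)).symm
  have : IsScalarTower ℤ (ULift.{u} ℤ) S := IsScalarTower.of_algebraMap_eq (fun z => by
    simp)
  have : Algebra.FiniteType (ULift.{u} ℤ) S :=
    Algebra.FiniteType.of_restrictScalars_finiteType ℤ (ULift.{u} ℤ) S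
  exact Algebra.FinitePresentation.of_finiteType.mp this

theorem main {ι : Type u} [Preorder ι] [IsDirected ι (· ≤ ·)] [Nonempty ι]
    (G : ι → Type u) [∀ i, CommRing (G i)] (f : ∀ i j, i ≤ j → (G i →+* G j))
    (A : Type u) [CommRing A] (g : ∀ i, G i →+* A) (hg : ∀ i j (h : i ≤ j), (g j).comp (f i j h) = g i)
    (hsurj : ∀ a : A, ∃ i, ∃ x : G i, g i x = a)
    (hker : ∀ i (x : G i), g i x = 0 → ∃ j, ∃ h : i ≤ j, f i j h x = 0)
    (B : Type u) [CommRing B] [Algebra A B] [Algebra.Etale A B] :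
    ∃ (i : ι) (Bi : Type u) (_ : CommRing Bi) (_ : Algebra (G i) Bi), Algebra.Etale (G i) Bi ∧
      letI : Algebra (G i) A := (g i).toAlgebra
      Nonempty (B ≃ₐ[A] A ⊗[G i] Bi) := by
  have hS : Sys (ULift.{u} ℤ) G A (fun i => toULiftAlgHom (g i)) :=
    Sys.of_directed (fun i j h => toULiftAlgHom (f i j h))
      (fun i j h => by
        apply AlgHom.ext
        intro x
        exact congrArg (fun φ => φ x) (hg i j h))
      hsurj hker
  obtain ⟨A₀, B₀, _, _, hfg, hEt, ⟨e⟩⟩ := Algebra.Etale.exists_subalgebra_fg ℤ A B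
  have hfp : Algebra.FinitePresentation (ULift.{u} ℤ) A₀ :=
    finitePresentation_ulift ((Subalgebra.fg_iff_finiteType A₀).mp hfg)
  obtain ⟨j, ρ', hρ'⟩ := hS.lift_algHom A₀ (toULiftAlgHom A₀.val.toRingHom)
  let _ : Algebra (G j) A := (g j).toAlgebra
  let _ : Algebra A₀ (G j) := ρ'.toRingHom.toAlgebra
  have : IsScalarTower A₀ (G j) A := IsScalarTower.of_algebraMap_eq (fun x => by
    have := congrArg (fun φ => φ x) hρ'
    exact this.symm)
  refine ⟨j, G j ⊗[A₀] B₀, inferInstance, inferInstance, inferInstance, ?_⟩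
  exact ⟨e.trans (Algebra.TensorProduct.cancelBaseChange A₀ (G j) A A B₀).symm⟩

end Groth.Agent.Lib.T2H7.EtModel
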