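import Mathlib
import Groth.Prelude.Def_AlgGrp
import Groth.Agent.S0114
import Groth.Agent.Lib.Helper12Flat

/-!
# The quotient of a flat group scheme by an open subgroup scheme is etale (helper7)
-/

set_option autoImplicit false
set_option linter.unusedSectionVars false
set_option linter.unusedVariables false
set_option linter.style.haveILetI false
universe u
open CategoryTheory CategoryTheory.Limits AlgebraicGeometry MonoidalCategory
  CartesianMonoidalCategory MonObj

namespace Groth.Agent.Lib.T2H7.EtQuot

section Cat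

variable {C : Type*} [Category C] [CartesianMonoidalCategory C] (Q : C) [GrpObj Q]

/-- `(a, b) ↦ a b⁻¹`. -/
def divMap : Q ⊗ Q ⟶ Q := fst Q Q * (snd Q Q)⁻¹

theorem lift_divMap {T : C} (a b : T ⟶ Q) : lift a b ≫ divMap Q = a * b⁻¹ := by
  simp [divMap, MonObj.comp_mul, GrpObj.comp_inv]

/-- the diagonal of a group object is the base change of the unit section along `(a, b) ↦ a b⁻¹`. -/
theorem isPullback_diag :
    IsPullback (lift (𝟙 Q) (𝟙 Q)) (toUnit Q) (divMap Q) η[Q] := by
  refine IsPullback.of_isLimit' ⟨?_⟩ ?_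
  · rw [lift_divMap, mul_inv_cancel, Hom.one_def]
  · refine PullbackCone.IsLimit.mk _ (fun s => s.fst ≫ fst Q Q) ?_ ?_ ?_
    · intro s
      have h := s.condition
      have hx : s.fst = lift (s.fst ≫ fst Q Q) (s.fst ≫ snd Q Q) := by
        ext <;> simp
      have h1 : (s.fst ≫ fst Q Q) * (s.fst ≫ snd Q Q)⁻¹ = 1 := by
        rw [← lift_divMap, ← hx, h, Hom.one_def]
        congr 1
        exact toUnit_unique _ _
      have h2 : s.fst ≫ fst Q Q = s.fst ≫ snd Q Q := by
        rwa [mul_inv_eq_one] at h1
      rw [comp_lift, Category.comp_id]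
      conv_rhs => rw [hx]
      rw [← h2]
    · intro s
      exact toUnit_unique _ _
    · intro s m hm _
      rw [← hm, Category.assoc, lift_fst, Category.comp_id]

end Cat

section Sch

variable {S : Scheme.{u}} (Q : Over S) [GrpObj Q]

/-- a group scheme whose unit section is an open immersion is unramified. -/
theorem formallyUnramified_of_unit_isOpenImmersion
    (h : IsOpenImmersion (η[Q] : 𝟙_ (Over S) ⟶ Q).left) : FormallyUnramified Q.hom := by
  have h1 : IsPullback (lift (𝟙 Q) (𝟙 Q)).left (toUnit Q).left (divMap Q).left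
      (η[Q] : 𝟙_ (Over S) ⟶ Q).left := (isPullback_diag Q).map (Over.forget S)
  have h2 : IsOpenImmersion (lift (𝟙 Q) (𝟙 Q)).left :=
    MorphismProperty.of_isPullback (P := @IsOpenImmersion) h1.flip h
  have h3 : (lift (𝟙 Q) (𝟙 Q)).left = pullback.diagonal Q.hom := by
    rw [Over.lift_left]
    rfl
  rw [h3] at h2
  infer_instance

variable {Q}

theorem etale_of_isKernel_of_isOpenImmersion {G0 G : Over S} (i : G0 ⟶ G)
    (hi : IsOpenImmersion i.left) (p : G ⟶ Q) (hs : Surjective p.left) (hf : Flat p.left)
    (hl : LocallyOfFinitePresentation p.left) (hK : AlgGrp.IsKernel i p)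
    (hGf : Flat G.hom) (hGl : LocallyOfFinitePresentation G.hom) : Etale Q.hom := by
  have hKL : IsPullback i.left (toUnit G0).left p.left (η[Q] : 𝟙_ (Over S) ⟶ Q).left :=
    IsPullback.map (Over.forget S) hK
  have hη : IsOpenImmersion (η[Q] : 𝟙_ (Over S) ⟶ Q).left :=
    (inferInstance : MorphismProperty.DescendsAlong
      (@IsOpenImmersion : MorphismProperty Scheme.{u})
      (@Surjective ⊓ @Flat ⊓ @LocallyOfFinitePresentation)).of_isPullback hKL
      ⟨⟨hs, hf⟩, hl⟩ hi
  haveI hu : @FormallyUnramified Q.left S Q.hom := formallyUnramified_of_unit_isOpenImmersion Q hη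
  haveI := hs
  haveI := hf
  haveI := hl
  haveI : Flat (p.left ≫ Q.hom) := by rw [Over.w p]; exact hGf
  haveI : LocallyOfFinitePresentation (p.left ≫ Q.hom) := by rw [Over.w p]; exact hGl
  haveI hQf : @Flat Q.left S Q.hom :=
    Groth.Agent.Lib.Helper12.flat_of_comp_of_flat_of_surjective p.left Q.hom
  haveI hQl : @LocallyOfFinitePresentation Q.left S Q.hom :=
    Groth.Agent.S0114.result p.left Q.hom
  exact @Etale.of_formallyUnramified_of_flat Q.left S Q.hom hQf hu hQl

end Sch

end Groth.Agent.Lib.T2H7.EtQuot
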