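import Mathlib
import Groth.Agent.Lib.T2H8StrictHens
import Groth.Agent.Lib.Helper4SpreadFP

/-!
# T2H7: étale morphisms to an integral scheme with strictly henselian local rings split

* `isOpenImmersion_of_section`: a section of an étale morphism over an open is an open immersion.
* `exists_local_section_through`: local sections through every point.
* `sections_agree`: two local sections whose ranges meet agree on the intersection.
* `glue_opens`: gluing morphisms defined on opens of a scheme.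
* `exists_split`: a quasi-compact separated étale `U ⟶ X` is covered by finitely many disjoint
  ranges of sections over opens.
* `exists_iso_sigma_of_isPullback`: the same after base change along a closed immersion, as an
  isomorphism with a finite coproduct of opens.
-/

set_option autoImplicit false
set_option linter.unusedSectionVars false
set_option linter.unusedVariables false
set_option linter.style.haveILetI false
universe u
open CategoryTheory CategoryTheory.Limits AlgebraicGeometry TopologicalSpace IsLocalRing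

namespace Groth.Agent.Lib.T2H7.EtSplitA

theorem exists_section_through (R : Type u) [CommRing R] [HenselianLocalRing R]
    [IsSepClosed (ResidueField R)] {V : Scheme.{u}} (g : V ⟶ Spec (CommRingCat.of R)) [Etale g]
    (v : V) (hv : g v = closedPoint R) :
    ∃ σ : Spec (CommRingCat.of R) ⟶ V, σ ≫ g = 𝟙 _ ∧ σ (closedPoint R) = v := by
  obtain ⟨A, j, hj, q, hqv⟩ := Scheme.exists_Spec_apply_eq v
  let ψ : CommRingCat.of R ⟶ A := Spec.preimage (j ≫ g)
  have hψ : Spec.map ψ = j ≫ g := Spec.map_preimage _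
  have hE : Etale (Spec.map ψ) := by rw [hψ]; infer_instance
  have hE' : ψ.hom.Etale := (HasRingHomProperty.Spec_iff (P := @Etale)).mp hE
  algebraize [ψ.hom]
  have hq : q.asIdeal.comap (algebraMap R A) = maximalIdeal R := by
    have h1 : (Spec.map ψ) q = closedPoint R := by
      rw [hψ, Scheme.Hom.comp_apply, hqv, hv]
    have h2 := congrArg PrimeSpectrum.asIdeal h1
    exact h2
  obtain ⟨f, hf⟩ := Groth.Agent.Lib.T2H8.StrictHens.exists_algHom R A q.asIdeal hq
  refine ⟨Spec.map (CommRingCat.ofHom f.toRingHom) ≫ j, ?_, ?_⟩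
  · rw [Category.assoc, ← hψ, ← Spec.map_comp]
    have : ψ ≫ CommRingCat.ofHom f.toRingHom = 𝟙 _ := by
      ext r
      exact f.commutes r
    rw [this, Spec.map_id]
  · rw [Scheme.Hom.comp_apply]
    have h1 : (Spec.map (CommRingCat.ofHom f.toRingHom)) (closedPoint R) = q := by
      apply PrimeSpectrum.ext
      exact hf
    rw [h1, hqv]

variable {X : Scheme.{u}}

theorem exists_local_section_through
    (hS : ∀ s : X, EtCoh.IsStrictlyHenselianLocalRing (X.presheaf.stalk s))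
    {Z : Scheme.{u}} (g : Z ⟶ X) [Etale g] (z : Z) :
    ∃ (W : X.Opens) (hW : g z ∈ W) (f : W.toScheme ⟶ Z), f ≫ g = W.ι ∧ f ⟨g z, hW⟩ = z := by
  obtain ⟨hH, hSC⟩ := hS (g z)
  haveI := hH
  haveI := hSC
  have hcl : X.fromSpecStalk (g z) (IsLocalRing.closedPoint (X.presheaf.stalk (g z))) = g z :=
    Scheme.fromSpecStalk_closedPoint
  obtain ⟨p, hp1, hp2⟩ := Scheme.Pullback.exists_preimage_pullback (f := g)
    (g := X.fromSpecStalk (g z)) z
    (IsLocalRing.closedPoint (X.presheaf.stalk (g z))) hcl.symm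
  obtain ⟨σ, hσ, hσp⟩ := @exists_section_through (X.presheaf.stalk (g z)) _ hH hSC _
    (pullback.snd g (X.fromSpecStalk (g z))) _ p hp2
  have h : (σ ≫ pullback.fst g (X.fromSpecStalk (g z))) ≫ g = X.fromSpecStalk (g z) ≫ 𝟙 X := by
    rw [Category.assoc, pullback.condition, ← Category.assoc, hσ, Category.id_comp,
      Category.comp_id]
  obtain ⟨W, hxW, f, hf1, hf⟩ :=
    Groth.Agent.Lib.Helper4.SpreadFP.spread_out_of_finitePresentation' (𝟙 X) g _ h
  refine ⟨W, hxW, f, by rw [hf, Category.comp_id], ?_⟩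
  have h2 : (σ ≫ pullback.fst g (X.fromSpecStalk (g z)))
      (IsLocalRing.closedPoint (X.presheaf.stalk (g z))) = z := by
    rw [Scheme.Hom.comp_apply, hσp, hp1]
  rw [hf1, Scheme.Hom.comp_apply] at h2
  have h3 : (W.fromSpecStalkOfMem (g z) hxW)
      (IsLocalRing.closedPoint (X.presheaf.stalk (g z))) = ⟨g z, hxW⟩ := by
    apply Subtype.ext
    have := congrArg (fun k => k (IsLocalRing.closedPoint (X.presheaf.stalk (g z))))
      (congrArg (fun m => m.base) (W.fromSpecStalkOfMem_ι (g z) hxW))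
    simp only at this
    rw [hcl] at this
    exact this
  rw [h3] at h2
  exact h2

variable {U : Scheme.{u}}

theorem isOpenImmersion_of_section (f : U ⟶ X) [Etale f] (W : X.Opens) (t : W.toScheme ⟶ U)
    (ht : t ≫ f = W.ι) : IsOpenImmersion t := by
  haveI : Etale (t ≫ f) := by rw [ht]; infer_instance
  haveI : Etale t := Etale.of_comp t f
  haveI : Mono (t ≫ f) := by rw [ht]; infer_instance
  haveI : Mono t := mono_of_mono t f
  exact IsOpenImmersion.of_flat_of_mono t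

theorem section_apply_coe (f : U ⟶ X) (W : X.Opens) (t : W.toScheme ⟶ U)
    (ht : t ≫ f = W.ι) (w : W.toScheme) : f (t w) = w.1 := by
  have := congrArg (fun k => k w) (congrArg (fun m => m.base) ht)
  simpa using this

theorem homOfLE_apply_coe {W W' : X.Opens} (h : W ≤ W') (y : W.toScheme) :
    ((X.homOfLE h) y).1 = y.1 := by
  have := congrArg (fun k => k y) (congrArg (fun m => m.base) (X.homOfLE_ι h))
  simpa using this

/-- two sections of an étale separated morphism over an integral base whose ranges meet agree on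
the intersection of their domains -/
theorem sections_agree [IsIntegral X] (f : U ⟶ X) [Etale f] [IsSeparated f]
    (W W' : X.Opens) (t : W.toScheme ⟶ U) (t' : W'.toScheme ⟶ U)
    (ht : t ≫ f = W.ι) (ht' : t' ≫ f = W'.ι)
    (w : W.toScheme) (w' : W'.toScheme) (hww : t w = t' w') :
    X.homOfLE (inf_le_left : W ⊓ W' ≤ W) ≫ t = X.homOfLE (inf_le_right : W ⊓ W' ≤ W') ≫ t' := by
  haveI := isOpenImmersion_of_section f W t ht
  haveI := isOpenImmersion_of_section f W' t' ht'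
  have hx : w.1 = w'.1 := by
    rw [← section_apply_coe f W t ht w, ← section_apply_coe f W' t' ht' w', hww]
  let N : U.Opens := t.opensRange ⊓ t'.opensRange
  obtain ⟨a₁, a₁d⟩ : ∃ a : (W ⊓ W').toScheme ⟶ U,
      a = X.homOfLE (inf_le_left : W ⊓ W' ≤ W) ≫ t := ⟨_, rfl⟩
  obtain ⟨a₂, a₂d⟩ : ∃ a : (W ⊓ W').toScheme ⟶ U,
      a = X.homOfLE (inf_le_right : W ⊓ W' ≤ W') ≫ t' := ⟨_, rfl⟩
  rw [← a₁d, ← a₂d]
  have ha₁ : a₁ ≫ f = (W ⊓ W').ι := by
    simp only [a₁d, Category.assoc, ht, Scheme.homOfLE_ι]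
  have ha₂ : a₂ ≫ f = (W ⊓ W').ι := by
    simp only [a₂d, Category.assoc, ht', Scheme.homOfLE_ι]
  let W₀ : (W ⊓ W').toScheme.Opens := a₁ ⁻¹ᵁ N
  let x₀ : (W ⊓ W').toScheme := ⟨w.1, ⟨w.2, hx ▸ w'.2⟩⟩
  have hx₀1 : (X.homOfLE (inf_le_left : W ⊓ W' ≤ W)) x₀ = w :=
    Subtype.ext (homOfLE_apply_coe _ x₀)
  have hx₀2 : (X.homOfLE (inf_le_right : W ⊓ W' ≤ W')) x₀ = w' :=
    Subtype.ext ((homOfLE_apply_coe _ x₀).trans hx)
  have hx₀ : x₀ ∈ W₀ := by
    change a₁ x₀ ∈ N
    have h1 : a₁ x₀ = t w := by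
      simp only [a₁d, Scheme.Hom.comp_apply, hx₀1]
    rw [h1]
    exact ⟨⟨w, rfl⟩, ⟨w', hww.symm⟩⟩
  haveI : Nonempty (W ⊓ W' : X.Opens) := ⟨x₀⟩
  have hdense : Dense (W₀ : Set (W ⊓ W').toScheme) := W₀.2.dense ⟨x₀, hx₀⟩
  haveI : IsDominant W₀.ι := Opens.isDominant_ι hdense
  -- pointwise agreement on W₀
  have hpt : ∀ y : (W ⊓ W').toScheme, y ∈ W₀ → a₂ y = a₁ y := by
    intro y hy
    obtain ⟨-, ⟨y'', hy''⟩⟩ : a₁ y ∈ N := hy
    have h1 : f (a₁ y) = y.1 := by
      have := congrArg (fun k => k y) (congrArg (fun m => m.base) ha₁)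
      simpa using this
    have h2 : y''.1 = y.1 := by
      rw [← section_apply_coe f W' t' ht' y'', hy'', h1]
    have h3 : (X.homOfLE (inf_le_right : W ⊓ W' ≤ W')) y = y'' :=
      Subtype.ext ((homOfLE_apply_coe _ y).trans h2.symm)
    simp only [a₂d, Scheme.Hom.comp_apply, h3]
    exact hy''
  have hr₁ : Set.range (W₀.ι ≫ a₁).base ⊆ Set.range N.ι.base := by
    rintro _ ⟨y, rfl⟩
    rw [Scheme.Opens.range_ι]
    exact y.2
  have hr₂ : Set.range (W₀.ι ≫ a₂).base ⊆ Set.range N.ι.base := by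
    rintro _ ⟨y, rfl⟩
    rw [Scheme.Opens.range_ι]
    have hy1 : W₀.ι y = y.1 := rfl
    change a₂ (W₀.ι y) ∈ N
    rw [hy1, hpt _ y.2]
    exact y.2
  let b₁ : W₀.toScheme ⟶ N.toScheme := IsOpenImmersion.lift N.ι (W₀.ι ≫ a₁) hr₁
  let b₂ : W₀.toScheme ⟶ N.toScheme := IsOpenImmersion.lift N.ι (W₀.ι ≫ a₂) hr₂
  have hb₁ : b₁ ≫ N.ι = W₀.ι ≫ a₁ := IsOpenImmersion.lift_fac _ _ _
  have hb₂ : b₂ ≫ N.ι = W₀.ι ≫ a₂ := IsOpenImmersion.lift_fac _ _ _
  -- N.ι ≫ f is a monomorphism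
  have hmono : Mono (N.ι ≫ f) := by
    have h1 : N.ι ≫ f = U.homOfLE (inf_le_left : N ≤ t.opensRange) ≫
        t.isoOpensRange.inv ≫ W.ι := by
      rw [← ht, ← Category.assoc t.isoOpensRange.inv, Scheme.Hom.isoOpensRange_inv_comp,
        ← Category.assoc, Scheme.homOfLE_ι]
    rw [h1]
    infer_instance
  have hbb : b₁ = b₂ := by
    rw [← cancel_mono (N.ι ≫ f), ← Category.assoc, ← Category.assoc, hb₁, hb₂, Category.assoc,
      Category.assoc, ha₁, ha₂]
  have hU : W₀.ι ≫ a₁ = W₀.ι ≫ a₂ := by rw [← hb₁, ← hb₂, hbb]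
  exact ext_of_isDominant_of_isSeparated f (ha₁.trans ha₂.symm) W₀.ι hU

theorem homOfLE_apply_coe' {W W' : X.Opens} (h : W ≤ W') (y : W.toScheme) :
    ((X.homOfLE h) y).1 = y.1 := by
  have := congrArg (fun k => k y) (congrArg (fun m => m.base) (X.homOfLE_ι h))
  simpa using this

/-- gluing morphisms defined on a family of opens of `X`, compatible on intersections, to a
morphism on the union -/
theorem glue_opens {J : Type u} (W : J → X.Opens) (t : ∀ a, (W a).toScheme ⟶ U)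
    (h : ∀ a b, X.homOfLE (inf_le_left : W a ⊓ W b ≤ W a) ≫ t a =
      X.homOfLE (inf_le_right : W a ⊓ W b ≤ W b) ≫ t b) :
    ∃ T : (⨆ a, W a).toScheme ⟶ U, ∀ a, X.homOfLE (le_iSup W a) ≫ T = t a := by
  let 𝒰 := Scheme.Opens.iSupOpenCover W
  have compat : ∀ a b : J, pullback.fst (𝒰.f a) (𝒰.f b) ≫ t a =
      pullback.snd (𝒰.f a) (𝒰.f b) ≫ t b := by
    intro a b
    change pullback.fst (X.homOfLE (le_iSup W a)) (X.homOfLE (le_iSup W b)) ≫ t a =
      pullback.snd (X.homOfLE (le_iSup W a)) (X.homOfLE (le_iSup W b)) ≫ t b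
    set p₁ := pullback.fst (X.homOfLE (le_iSup W a)) (X.homOfLE (le_iSup W b)) with hp₁
    set p₂ := pullback.snd (X.homOfLE (le_iSup W a)) (X.homOfLE (le_iSup W b)) with hp₂
    have hc : p₁ ≫ (W a).ι = p₂ ≫ (W b).ι := by
      rw [← X.homOfLE_ι (le_iSup W a), ← X.homOfLE_ι (le_iSup W b), ← Category.assoc,
        ← Category.assoc, pullback.condition]
    have hr : Set.range (p₁ ≫ (W a).ι).base ⊆ Set.range (W a ⊓ W b).ι.base := by
      rintro _ ⟨x, rfl⟩
      rw [Scheme.Opens.range_ι]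
      refine ⟨?_, ?_⟩
      · exact (p₁ x).2
      · have : (p₁ ≫ (W a).ι) x = (p₂ ≫ (W b).ι) x := by rw [hc]
        rw [this]
        exact (p₂ x).2
    let e := IsOpenImmersion.lift (W a ⊓ W b).ι (p₁ ≫ (W a).ι) hr
    have he : e ≫ (W a ⊓ W b).ι = p₁ ≫ (W a).ι := IsOpenImmersion.lift_fac _ _ _
    have h1 : p₁ = e ≫ X.homOfLE inf_le_left := by
      rw [← cancel_mono (W a).ι, Category.assoc, Scheme.homOfLE_ι, he]
    have h2 : p₂ = e ≫ X.homOfLE inf_le_right := by
      rw [← cancel_mono (W b).ι, Category.assoc, Scheme.homOfLE_ι, he, hc]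
    rw [h1, h2, Category.assoc, Category.assoc, h a b]
  exact ⟨𝒰.glueMorphisms t compat, fun a => 𝒰.ι_glueMorphisms t compat a⟩


/-- a quasi-compact separated étale scheme over an integral scheme with strictly henselian local
rings is a finite disjoint union of ranges of sections over opens -/
theorem exists_split [IsIntegral X]
    (hS : ∀ s : X, EtCoh.IsStrictlyHenselianLocalRing (X.presheaf.stalk s))
    (f : U ⟶ X) [Etale f] [IsSeparated f] [CompactSpace U] :
    ∃ (ι : Type u) (_ : Finite ι) (W : ι → X.Opens) (t : ∀ k, (W k).toScheme ⟶ U),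
      (∀ k, t k ≫ f = (W k).ι) ∧
      (∀ k l, k ≠ l → Disjoint (Set.range (t k).base) (Set.range (t l).base)) ∧
      (∀ u : U, ∃ k, u ∈ Set.range (t k).base) := by
  classical
  choose Wu hWu tu htu htu' using fun u : U => exists_local_section_through hS f u
  have hη : ∀ u, genericPoint X ∈ Wu u := fun u =>
    ((genericPoint_spec X).mem_open_set_iff (Wu u).2).2 ⟨f u, trivial, hWu u⟩
  let ξ : U → U := fun u => tu u ⟨genericPoint X, hη u⟩
  have hopen : ∀ u, IsOpen (Set.range (tu u).base) := fun u =>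
    (isOpenImmersion_of_section f _ _ (htu u)).base_open.isOpen_range
  obtain ⟨F, hF⟩ := isCompact_univ.elim_finite_subcover (fun u => Set.range (tu u).base) hopen
    (fun u _ => Set.mem_iUnion.2 ⟨u, ⟨⟨f u, hWu u⟩, htu' u⟩⟩)
  -- gluing inside a class
  have hglue : ∀ k : U, ∃ T : (⨆ a : {u : U // u ∈ F ∧ ξ u = k}, Wu a.1).toScheme ⟶ U,
      ∀ a : {u : U // u ∈ F ∧ ξ u = k}, X.homOfLE (le_iSup (fun a : {u : U // u ∈ F ∧ ξ u = k} =>
        Wu a.1) a) ≫ T = tu a.1 := by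
    intro k
    apply glue_opens
    intro a b
    exact sections_agree f _ _ _ _ (htu a.1) (htu b.1) ⟨genericPoint X, hη a.1⟩
      ⟨genericPoint X, hη b.1⟩ (a.2.2.trans b.2.2.symm)
  choose T hT using hglue
  refine ⟨↥(F.image ξ), inferInstance, fun k => ⨆ a : {u : U // u ∈ F ∧ ξ u = k.1}, Wu a.1,
    fun k => T k.1, ?_, ?_, ?_⟩
  · intro k
    refine (Scheme.Opens.iSupOpenCover
      (fun a : {u : U // u ∈ F ∧ ξ u = k.1} => Wu a.1)).hom_ext _ _ fun a => ?_
    change X.homOfLE (le_iSup (fun a : {u : U // u ∈ F ∧ ξ u = k.1} => Wu a.1) a) ≫ T k.1 ≫ f =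
      X.homOfLE (le_iSup (fun a : {u : U // u ∈ F ∧ ξ u = k.1} => Wu a.1) a) ≫ _
    rw [← Category.assoc, hT k.1 a, htu, X.homOfLE_ι]
  · intro k l hkl
    rw [Set.disjoint_left]
    rintro _ ⟨y, rfl⟩ ⟨y', hy'⟩
    apply hkl
    obtain ⟨a, ha⟩ := Opens.mem_iSup.1 y.2
    obtain ⟨b, hb⟩ := Opens.mem_iSup.1 y'.2
    have e1 : X.homOfLE (le_iSup (fun a : {u : U // u ∈ F ∧ ξ u = k.1} => Wu a.1) a)
        ⟨y.1, ha⟩ = y := Subtype.ext (homOfLE_apply_coe' _ _)
    have e2 : X.homOfLE (le_iSup (fun a : {u : U // u ∈ F ∧ ξ u = l.1} => Wu a.1) b)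
        ⟨y'.1, hb⟩ = y' := Subtype.ext (homOfLE_apply_coe' _ _)
    have h1 : tu a.1 ⟨y.1, ha⟩ = (T k.1) y := by
      rw [← hT k.1 a, Scheme.Hom.comp_apply, e1]
    have h2 : tu b.1 ⟨y'.1, hb⟩ = (T l.1) y' := by
      rw [← hT l.1 b, Scheme.Hom.comp_apply, e2]
    have h3 : tu a.1 ⟨y.1, ha⟩ = tu b.1 ⟨y'.1, hb⟩ := by rw [h1, h2]; exact hy'.symm
    have hag := sections_agree f _ _ _ _ (htu a.1) (htu b.1) _ _ h3
    have h4 := congrArg (fun m : (Wu a.1 ⊓ Wu b.1).toScheme ⟶ U =>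
      m ⟨genericPoint X, ⟨hη a.1, hη b.1⟩⟩) hag
    simp only [Scheme.Hom.comp_apply] at h4
    have e3 : X.homOfLE (inf_le_left : Wu a.1 ⊓ Wu b.1 ≤ Wu a.1)
        ⟨genericPoint X, ⟨hη a.1, hη b.1⟩⟩ = ⟨genericPoint X, hη a.1⟩ :=
      Subtype.ext (homOfLE_apply_coe' _ _)
    have e4 : X.homOfLE (inf_le_right : Wu a.1 ⊓ Wu b.1 ≤ Wu b.1)
        ⟨genericPoint X, ⟨hη a.1, hη b.1⟩⟩ = ⟨genericPoint X, hη b.1⟩ :=
      Subtype.ext (homOfLE_apply_coe' _ _)
    rw [e3, e4] at h4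
    apply Subtype.ext
    rw [← a.2.2, ← b.2.2]
    exact h4
  · intro u
    obtain ⟨u₀, hu₀⟩ := Set.mem_iUnion.1 (hF (Set.mem_univ u))
    obtain ⟨hu₀F, y, hy⟩ := Set.mem_iUnion.1 hu₀
    refine ⟨⟨ξ u₀, Finset.mem_image_of_mem ξ hu₀F⟩, ?_⟩
    let a : {u : U // u ∈ F ∧ ξ u = ξ u₀} := ⟨u₀, hu₀F, rfl⟩
    refine ⟨X.homOfLE (le_iSup (fun a : {u : U // u ∈ F ∧ ξ u = ξ u₀} => Wu a.1) a) y, ?_⟩
    rw [← hy, ← hT (ξ u₀) a]
    rfl

/-- base change of the splitting along a closed immersion: the pulled back étale scheme is a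
finite coproduct of opens of the closed subscheme -/
theorem exists_iso_sigma_of_isPullback [IsIntegral X]
    (hS : ∀ s : X, EtCoh.IsStrictlyHenselianLocalRing (X.presheaf.stalk s))
    (f : U ⟶ X) [Etale f] [IsSeparated f] [CompactSpace U]
    {V Z : Scheme.{u}} (i : Z ⟶ X) [IsClosedImmersion i] (φ : V ⟶ Z) (j : V ⟶ U)
    (hpb : IsPullback j φ f i) :
    ∃ (ι : Type u) (_ : Finite ι) (W : ι → Z.Opens)
      (e : (∐ fun k => (W k : Scheme.{u})) ≅ V),
      ∀ k, Sigma.ι (fun k => (W k : Scheme.{u})) k ≫ e.hom ≫ φ = (W k).ι := by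
  obtain ⟨ι, hι, WX, t, ht, hdisj, hcov⟩ := exists_split hS f
  haveI : Etale φ := MorphismProperty.of_isPullback (P := @Etale) hpb inferInstance
  haveI : IsClosedImmersion j :=
    MorphismProperty.of_isPullback (P := @IsClosedImmersion) hpb.flip inferInstance
  have hjinj : Function.Injective j.base := j.isClosedEmbedding.injective
  have hcond : ∀ k, ((i ∣_ WX k) ≫ t k) ≫ f = (i ⁻¹ᵁ WX k).ι ≫ i := by
    intro k
    rw [Category.assoc, ht, morphismRestrict_ι]
  let s : ∀ k, (i ⁻¹ᵁ WX k).toScheme ⟶ V := fun k =>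
    hpb.lift ((i ∣_ WX k) ≫ t k) (i ⁻¹ᵁ WX k).ι (hcond k)
  have hs1 : ∀ k, s k ≫ j = (i ∣_ WX k) ≫ t k := fun k => hpb.lift_fst _ _ _
  have hs2 : ∀ k, s k ≫ φ = (i ⁻¹ᵁ WX k).ι := fun k => hpb.lift_snd _ _ _
  haveI : ∀ k, IsOpenImmersion (s k) := fun k => isOpenImmersion_of_section φ _ _ (hs2 k)
  have hs1pt : ∀ k (y : (i ⁻¹ᵁ WX k).toScheme), j (s k y) = t k ((i ∣_ WX k) y) := by
    intro k y
    rw [← Scheme.Hom.comp_apply, hs1, Scheme.Hom.comp_apply]
  have hdisj' : Pairwise (Function.onFun Disjoint (fun k => Set.range (s k).base)) := by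
    intro k l hkl
    change Disjoint (Set.range (s k).base) (Set.range (s l).base)
    rw [Set.disjoint_left]
    rintro _ ⟨y, rfl⟩ ⟨y', hy'⟩
    have h1 : t k ((i ∣_ WX k) y) = t l ((i ∣_ WX l) y') := by
      rw [← hs1pt, ← hs1pt]
      exact congrArg j.base hy'.symm
    exact Set.disjoint_left.1 (hdisj k l hkl) ⟨_, rfl⟩ ⟨_, h1.symm⟩
  haveI : IsOpenImmersion (Sigma.desc s) := isOpenImmersion_sigmaDesc _ s hdisj'
  have hsurj : (Sigma.desc s).opensRange = ⊤ := by
    rw [eq_top_iff]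
    intro v _
    obtain ⟨k, x, hx⟩ := hcov (j v)
    have hfx : f (j v) = x.1 := by
      rw [← hx]
      exact section_apply_coe f _ _ (ht k) x
    have hiφ : i (φ v) = f (j v) := by
      rw [← Scheme.Hom.comp_apply, ← Scheme.Hom.comp_apply, hpb.w]
    have hmem : φ v ∈ i ⁻¹ᵁ WX k := by
      change i (φ v) ∈ WX k
      rw [hiφ, hfx]
      exact x.2
    let y : (i ⁻¹ᵁ WX k).toScheme := ⟨φ v, hmem⟩
    have hy : (i ∣_ WX k) y = x := by
      apply Subtype.ext
      rw [morphismRestrict_base_coe]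
      change i (φ v) = x.1
      rw [hiφ, hfx]
    have hv : s k y = v := by
      apply hjinj
      change j (s k y) = j v
      rw [hs1pt, hy]
      exact hx
    refine ⟨Sigma.ι (fun k => ((i ⁻¹ᵁ WX k : Z.Opens) : Scheme.{u})) k y, ?_⟩
    rw [← Scheme.Hom.comp_apply, Sigma.ι_desc]
    exact hv
  haveI : IsIso (Sigma.desc s) := isIso_of_isOpenImmersion_of_opensRange_eq_top _ hsurj
  refine ⟨ι, hι, fun k => i ⁻¹ᵁ WX k, asIso (Sigma.desc s), fun k => ?_⟩
  rw [asIso_hom, ← Category.assoc, Sigma.ι_desc, hs2]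

end Groth.Agent.Lib.T2H7.EtSplitA
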