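import Mathlib
import Groth.Agent.Lib.T2H7GITCat

/-!
# T2H7: a finite surjective morphism which is a finite coproduct of opens of the target has a section
-/

set_option autoImplicit false
set_option linter.unusedSectionVars false
set_option linter.unusedVariables false
set_option linter.style.haveILetI false
universe u
open CategoryTheory CategoryTheory.Limits AlgebraicGeometry TopologicalSpace

namespace Groth.Agent.Lib.T2H7.EtSplitB

/-- a finite surjective morphism which is a finite coproduct of opens of the target has a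
section -/
theorem exists_section_of_iso_sigma {V Z : Scheme.{u}} (φ : V ⟶ Z) [IsFinite φ] [Surjective φ]
    (ι : Type u) [Finite ι] (W : ι → Z.Opens) (e : (∐ fun k => (W k : Scheme.{u})) ≅ V)
    (he : ∀ k, Sigma.ι (fun k => (W k : Scheme.{u})) k ≫ e.hom ≫ φ = (W k).ι) :
    ∃ s : Z ⟶ V, s ≫ φ = 𝟙 Z := by
  classical
  -- the `W k` are closed
  have hclosed : ∀ k, IsClosed (W k : Set Z) := by
    intro k
    have h1 : (W k : Set Z) = φ.base '' (e.hom.base ''
        (Set.range (Sigma.ι (fun k => (W k : Scheme.{u})) k).base)) := by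
      rw [← Set.range_comp, ← Set.range_comp]
      have h2 : (φ.base ∘ e.hom.base ∘ (Sigma.ι (fun k => (W k : Scheme.{u})) k).base) =
          (W k).ι.base := by
        rw [← he k]
        rfl
      rw [h2, Scheme.Opens.range_ι]
    rw [h1]
    apply φ.isClosedMap
    apply (e.hom.homeomorph).isClosedMap
    have h3 : Set.range (Sigma.ι (fun k => (W k : Scheme.{u})) k).base =
        (sigmaMk (fun k => (W k : Scheme.{u}))) '' (Set.range (Sigma.mk k)) := by
      rw [← Set.range_comp]
      congr 1
      funext x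
      exact (sigmaMk_mk (fun k => (W k : Scheme.{u})) k x).symm
    rw [h3]
    exact (sigmaMk (fun k => (W k : Scheme.{u}))).isClosedMap _ isClosed_range_sigmaMk
  -- the `W k` cover
  have hcov : ∀ z : Z, ∃ k, z ∈ W k := by
    intro z
    obtain ⟨v, rfl⟩ := φ.surjective z
    obtain ⟨y, rfl⟩ := (e.hom.homeomorph).surjective v
    obtain ⟨⟨k, w⟩, rfl⟩ := (sigmaMk (fun k => (W k : Scheme.{u}))).surjective y
    refine ⟨k, ?_⟩
    rw [sigmaMk_mk]
    have : φ ((e.hom.homeomorph) ((Sigma.ι (fun k => (W k : Scheme.{u})) k) w)) =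
        (W k).ι w := by
      rw [← he k]
      rfl
    rw [this]
    exact w.2
  obtain ⟨n, ⟨r⟩⟩ := Finite.exists_equiv_fin ι
  -- disjointification
  let Zk : ι → Z.Opens := fun k => ⟨(W k : Set Z) ∩ ⋂ l ∈ {l | r l < r k}, (W l : Set Z)ᶜ,
    (W k).2.inter ((Set.toFinite {l | r l < r k}).isOpen_biInter
      (fun l _ => (hclosed l).isOpen_compl))⟩
  have hZk_le : ∀ k, Zk k ≤ W k := fun k z hz => hz.1
  have hZcov : IsOpenCover Zk := by
    rw [IsOpenCover, eq_top_iff]
    intro z _
    obtain ⟨k, hkS, hkmin⟩ := Set.exists_min_image {k | z ∈ W k} r (Set.toFinite _) (hcov z)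
    refine Opens.mem_iSup.2 ⟨k, hkS, ?_⟩
    simp only [Set.mem_iInter, Set.mem_compl_iff]
    intro l hl hzl
    exact absurd (hkmin l hzl) (not_le.2 hl)
  have hdisj : ∀ k l, k ≠ l → IsEmpty ↥(Zk k ⊓ Zk l).toScheme := by
    intro k l hkl
    constructor
    rintro ⟨z, hz1, hz2⟩
    have hne : r k ≠ r l := fun h => hkl (r.injective h)
    rcases lt_or_gt_of_ne hne with h | h
    · have := hz2.2
      simp only [Set.mem_iInter, Set.mem_compl_iff] at this
      exact this k h hz1.1
    · have := hz1.2
      simp only [Set.mem_iInter, Set.mem_compl_iff] at this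
      exact this l h hz2.1
  obtain ⟨s, hs⟩ := Groth.Agent.Lib.T2H7.GITCat.exists_glue Zk hZcov
    (fun k => Z.homOfLE (hZk_le k) ≫ Sigma.ι (fun k => (W k : Scheme.{u})) k ≫ e.hom)
    (by
      intro k l
      by_cases hkl : k = l
      · subst hkl
        rfl
      · haveI := hdisj k l hkl
        exact (isInitialOfIsEmpty (X := (Zk k ⊓ Zk l).toScheme)).hom_ext _ _)
  refine ⟨s, ?_⟩
  refine (Z.openCoverOfIsOpenCover Zk hZcov).hom_ext _ _ fun k => ?_
  change (Zk k).ι ≫ s ≫ φ = (Zk k).ι ≫ 𝟙 Z
  rw [← Category.assoc, hs k, Category.assoc, Category.assoc, he k, Scheme.homOfLE_ι,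
    Category.comp_id]

end Groth.Agent.Lib.T2H7.EtSplitB
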