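import Mathlib
import Groth.Agent.Lib.T2H1LimAffine3
import Groth.Agent.Lib.T2H1AffDesc4
import Groth.Agent.S2076
import Groth.Agent.S10534
import Groth.Agent.S10180
import Groth.Agent.S9952

/-!
# A closed immersion into a limit with affine transition maps, locally of finite type over the
base, is eventually a closed immersion into the stages (helper7)
-/

set_option autoImplicit false
set_option linter.unusedSectionVars false
set_option linter.unusedVariables false
set_option linter.style.haveILetI false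
universe u
open CategoryTheory CategoryTheory.Limits AlgebraicGeometry
open AlgSp

namespace Groth.Agent.Lib.T2H7.EvClosed

variable {S : Scheme.{u}}

section

variable {I : Type u} [SmallCategory I] [IsCofiltered I] (D : I ⥤ AlgSp.Sp S)
  (hD : ∀ i, AlgSp.IsAlgSpace (D.obj i))
  (hDa : ∀ (i j : I) (φ : i ⟶ j), AlgSp.IsAffineMor (D.map φ))
  (c : Cone D) (hc : IsLimit c)

/-- the chart data of a limit at a stage `i₁` with an affine étale atlas. -/
structure ChartData (i₁ : I) where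
  U₁ : Over S
  u₁ : (AlgSp.yon S).obj U₁ ⟶ D.obj i₁
  hU₁ : IsAffine U₁.left
  hu₁e : AlgSp.RepWith @Etale u₁
  hu₁s : AlgSp.RepWith @Surjective u₁
  E : Over i₁ ⥤ Over S
  ιj : ∀ j, E.obj j ⟶ U₁
  pj : ∀ j : Over i₁, (AlgSp.yon S).obj (E.obj j) ⟶ D.obj j.left
  cW : Cone E
  fstW : (AlgSp.yon S).obj cW.pt ⟶ c.pt
  sqj : ∀ j, IsPullback (pj j) ((AlgSp.yon S).map (ιj j)) (D.map j.hom) u₁
  haffj : ∀ j, IsAffine (E.obj j).left
  hcW : IsLimit ((Over.forget S).mapCone cW)
  hWaff : IsAffine cW.pt.left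
  sqW : IsPullback fstW ((AlgSp.yon S).map (cW.π.app (Over.mk (𝟙 i₁)) ≫ ιj (Over.mk (𝟙 i₁))))
    (c.π.app i₁) u₁
  hfst : ∀ j : Over i₁, fstW ≫ c.π.app j.left = (AlgSp.yon S).map (cW.π.app j) ≫ pj j
  hE1 : ∀ {j k : Over i₁} (ψ : j ⟶ k), E.map ψ ≫ ιj k = ιj j
  hE2 : ∀ {j k : Over i₁} (ψ : j ⟶ k),
    (AlgSp.yon S).map (E.map ψ) ≫ pj k = pj j ≫ D.map ψ.left

include hD hDa hc in
theorem nonempty_chartData (i₁ : I) (hqc : AlgSp.IsQuasiCompactSp (D.obj i₁)) :
    Nonempty (ChartData D c i₁) := by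
  obtain ⟨U₁, u₁, hU₁, hu₁e, hu₁s⟩ :=
    (Groth.Agent.S10180.result (⟨D.obj i₁, hD i₁⟩ : AlgSp.Space S)).1 hqc
  obtain ⟨E, ιj, pj, cW, fstW, sqj, haffj, ⟨hcW⟩, hWaff, sqW, hfst, hE1, hE2⟩ :=
    Groth.Agent.Lib.T2H1.LimAffine.exists_limit_data D hDa c hc i₁ hU₁ u₁
  exact ⟨⟨U₁, u₁, hU₁, hu₁e, hu₁s, E, ιj, pj, cW, fstW, sqj, haffj, hcW, hWaff, sqW, hfst,
    fun ψ => hE1 ψ, fun ψ => hE2 ψ⟩⟩

namespace ChartData

variable {D c} {i₁ : I} (cd : ChartData D c i₁)

/-- the projection of the limit chart to the atlas. -/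
noncomputable def ιW : cd.cW.pt ⟶ cd.U₁ :=
  cd.cW.π.app (Over.mk (𝟙 i₁)) ≫ cd.ιj (Over.mk (𝟙 i₁))

theorem π_ιj (j : Over i₁) : cd.cW.π.app j ≫ cd.ιj j = cd.ιW := by
  let tj : j ⟶ Over.mk (𝟙 i₁) := Over.homMk j.hom
  have h1 : cd.cW.π.app j ≫ cd.E.map tj = cd.cW.π.app (Over.mk (𝟙 i₁)) := cd.cW.w tj
  rw [← cd.hE1 tj, ← Category.assoc, h1]
  rfl

theorem repWith_etale_pj (j : Over i₁) : AlgSp.RepWith @Etale (cd.pj j) :=
  MorphismProperty.of_isPullback (P := AlgSp.RepWith @Etale) (cd.sqj j).flip cd.hu₁e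

theorem repWith_surjective_pj (j : Over i₁) : AlgSp.RepWith @Surjective (cd.pj j) :=
  MorphismProperty.of_isPullback (P := AlgSp.RepWith @Surjective) (cd.sqj j).flip cd.hu₁s

theorem repWith_etale_fstW : AlgSp.RepWith @Etale cd.fstW :=
  MorphismProperty.of_isPullback (P := AlgSp.RepWith @Etale) cd.sqW.flip cd.hu₁e

theorem repWith_surjective_fstW : AlgSp.RepWith @Surjective cd.fstW :=
  MorphismProperty.of_isPullback (P := AlgSp.RepWith @Surjective) cd.sqW.flip cd.hu₁s

/-- the base change of `y ≫ c.π.app j.left` along the chart `pj j` of the stage, in terms of the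
base change of `y` along the chart of the limit. -/
theorem isPullback_stage {Y : AlgSp.Sp S} (y : Y ⟶ c.pt) {YU : Over S} (k : YU ⟶ cd.cW.pt)
    (yU : (AlgSp.yon S).obj YU ⟶ Y) (sqY : IsPullback yU ((AlgSp.yon S).map k) y cd.fstW)
    (j : Over i₁) :
    IsPullback yU ((AlgSp.yon S).map (k ≫ cd.cW.π.app j)) (y ≫ c.π.app j.left) (cd.pj j) := by
  have hbig : IsPullback yU ((AlgSp.yon S).map (k ≫ cd.cW.π.app j) ≫ (AlgSp.yon S).map (cd.ιj j))
      ((y ≫ c.π.app j.left) ≫ D.map j.hom) cd.u₁ := by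
    have h := sqY.paste_vert cd.sqW
    have e1 : (y ≫ c.π.app j.left) ≫ D.map j.hom = y ≫ c.π.app i₁ := by
      rw [Category.assoc, c.w]
    have e2 : (AlgSp.yon S).map (k ≫ cd.cW.π.app j) ≫ (AlgSp.yon S).map (cd.ιj j) =
        (AlgSp.yon S).map k ≫ (AlgSp.yon S).map
          (cd.cW.π.app (Over.mk (𝟙 i₁)) ≫ cd.ιj (Over.mk (𝟙 i₁))) := by
      rw [← Functor.map_comp, ← Functor.map_comp, Category.assoc, cd.π_ιj j]
      rfl
    rw [e1, e2]
    exact h
  refine IsPullback.of_bot hbig ?_ (cd.sqj j)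
  rw [← Category.assoc, sqY.w, Category.assoc, cd.hfst j, Functor.map_comp, Category.assoc]

/-- the system of affine schemes over the atlas `U₁`. -/
noncomputable def DU : Over i₁ ⥤ Over cd.U₁.left where
  obj j := Over.mk (cd.ιj j).left
  map {j k} ψ := Over.homMk (cd.E.map ψ).left (by
    have := congrArg (fun m => m.left) (cd.hE1 ψ)
    simpa using this)
  map_id j := by
    ext1
    simp
  map_comp ψ χ := by
    ext1
    simp

/-- the limit cone over the atlas `U₁`. -/
noncomputable def cU : Cone cd.DU where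
  pt := Over.mk cd.ιW.left
  π :=
    { app := fun j => Over.homMk (cd.cW.π.app j).left (by
        have := congrArg (fun m => m.left) (cd.π_ιj j)
        simpa [DU] using this)
      naturality := fun j k ψ => by
        ext1
        have := congrArg (fun m => m.left) (cd.cW.w ψ)
        simp only [Over.comp_left] at this
        simp [DU, this] }

attribute [local instance] IsCofiltered.isConnected in
/-- the cone over the atlas is a limit cone. -/
noncomputable def isLimitCU : IsLimit cd.cU :=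
  isLimitOfReflects (Over.forget cd.U₁.left)
    (show IsLimit ((Over.forget cd.U₁.left).mapCone cd.cU) from cd.hcW)

end ChartData

include hD hDa hc in
/-- a closed immersion into the limit, locally of finite type over the base, is a closed immersion
into all sufficiently small stages. -/
theorem eventually_closedImmersion (B : AlgSp.Space S) (t : D ⟶ (Functor.const I).obj B.obj)
    (Y : AlgSp.Space S) (y : Y.obj ⟶ c.pt) (hy : AlgSp.RepWith @IsClosedImmersion y) (i₁ : I)
    (hqc : AlgSp.IsQuasiCompactSp (D.obj i₁))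
    (hYB : AlgSp.LocP @LocallyOfFiniteType (y ≫ c.π.app i₁ ≫ t.app i₁)) :
    ∃ i₀ : I, ∀ (i : I) (_ : i ⟶ i₀), AlgSp.RepWith @IsClosedImmersion (y ≫ c.π.app i) := by
  obtain ⟨cd⟩ := nonempty_chartData D hD hDa c hc i₁ hqc
  obtain ⟨YU, k, yU, sqY⟩ := hy.1 cd.fstW
  have hk : IsClosedImmersion k.left := hy.2 _ _ k sqY
  -- `Y ⟶ D i₁` is locally of finite type
  have hlft1 : AlgSp.LocP @LocallyOfFiniteType (y ≫ c.π.app i₁) := by
    have := Groth.Agent.S9952.result (X := Y) (Y := ⟨D.obj i₁, hD i₁⟩) (Z := B)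
      (ObjectProperty.homMk (y ≫ c.π.app i₁)) (ObjectProperty.homMk (t.app i₁))
      (by
        change AlgSp.LocP @LocallyOfFiniteType ((y ≫ c.π.app i₁) ≫ t.app i₁)
        rw [Category.assoc]; exact hYB)
    exact this
  have hyUe : AlgSp.RepWith @Etale yU :=
    MorphismProperty.of_isPullback (P := AlgSp.RepWith @Etale) sqY.flip cd.repWith_etale_fstW
  have hcomm : yU ≫ (y ≫ c.π.app i₁) = (AlgSp.yon S).map (k ≫ cd.ιW) ≫ cd.u₁ := by
    rw [← Category.assoc, sqY.w, Category.assoc, cd.sqW.w, Functor.map_comp, Category.assoc]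
    rfl
  have hlft2 : LocallyOfFiniteType (k ≫ cd.ιW).left := hlft1 yU cd.u₁ (k ≫ cd.ιW) hyUe cd.hu₁e hcomm
  -- apply the scheme level statement over the atlas
  haveI : ∀ (j k : Over i₁) (f : j ⟶ k), IsAffineHom (cd.DU.map f).left := fun j k f => by
    haveI : IsAffine (cd.DU.obj j).left := cd.haffj j
    haveI : IsAffine (cd.DU.obj k).left := cd.haffj k
    infer_instance
  haveI : ∀ j, CompactSpace (cd.DU.obj j).left := fun j => by
    haveI : IsAffine (cd.DU.obj j).left := cd.haffj j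
    infer_instance
  haveI : IsClosedImmersion (show YU.left ⟶ cd.cU.pt.left from k.left) := hk
  haveI : LocallyOfFiniteType ((show YU.left ⟶ cd.cU.pt.left from k.left) ≫ cd.cU.pt.hom) := by
    have : (show YU.left ⟶ cd.cU.pt.left from k.left) ≫ cd.cU.pt.hom = (k ≫ cd.ιW).left := rfl
    rw [this]; exact hlft2
  obtain ⟨j, hj⟩ := Groth.Agent.S2076.result cd.U₁.left cd.DU cd.cU cd.isLimitCU
    (show YU.left ⟶ cd.cU.pt.left from k.left)
  have hj' : IsClosedImmersion (k ≫ cd.cW.π.app j).left := hj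
  refine ⟨j.left, fun i φ => ?_⟩
  let j' : Over i₁ := Over.mk (φ ≫ j.hom)
  let ψ : j' ⟶ j := Over.homMk φ
  have hcl : IsClosedImmersion (k ≫ cd.cW.π.app j').left := by
    have e : (k ≫ cd.cW.π.app j').left ≫ (cd.E.map ψ).left = (k ≫ cd.cW.π.app j).left := by
      rw [← Over.comp_left, Category.assoc, cd.cW.w ψ]
    haveI : IsAffine (cd.E.obj j').left := cd.haffj j'
    haveI : IsAffine (cd.E.obj j).left := cd.haffj j
    haveI : IsClosedImmersion ((k ≫ cd.cW.π.app j').left ≫ (cd.E.map ψ).left) := by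
      rw [e]; exact hj'
    exact IsClosedImmersion.of_comp (k ≫ cd.cW.π.app j').left (cd.E.map ψ).left
  have sq := cd.isPullback_stage y k yU sqY j'
  have hiff := Groth.Agent.Lib.T2H1.AffDesc.of_chart_of_isLocalOnBase
    (Groth.Agent.S10534.result S) (X := Y) (Y := ⟨D.obj i, hD i⟩)
    (ObjectProperty.homMk (y ≫ c.π.app i)) (cd.E.obj j') (cd.pj j') (cd.repWith_etale_pj j')
    (cd.repWith_surjective_pj j') yU ((AlgSp.yon S).map (k ≫ cd.cW.π.app j')) sq
  exact hiff.2 ((AlgSp.repWith_yon_map_iff _ _).2 hcl)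

end

end Groth.Agent.Lib.T2H7.EvClosed
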