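import Mathlib

/-!
# A cofiltered limit of closed subschemes of an affine scheme which is finitely presented over it
is reached at a finite stage (helper7)
-/

set_option autoImplicit false
set_option linter.unusedSectionVars false
set_option linter.unusedVariables false
set_option linter.style.haveILetI false
universe u
open CategoryTheory CategoryTheory.Limits AlgebraicGeometry

namespace Groth.Agent.Lib.T2H7.EvIso

/-- a morphism of affine schemes which is bijective on global sections is an isomorphism. -/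
theorem isIso_of_bijective_appTop {X Y : Scheme.{u}} [IsAffine X] [IsAffine Y] (f : X ⟶ Y)
    (h : Function.Bijective f.appTop) : IsIso f := by
  haveI : IsIso f.appTop := (ConcreteCategory.isIso_iff_bijective _).2 h
  have e : f = X.isoSpec.hom ≫ Spec.map f.appTop ≫ Y.isoSpec.inv := by
    rw [← Category.assoc, Scheme.isoSpec_hom_naturality, Category.assoc, Iso.hom_inv_id,
      Category.comp_id]
  rw [e]
  infer_instance

/-- the kernel of a surjective finitely presented ring map is finitely generated. -/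
theorem ker_fg_of_finitePresentation {A B : Type u} [CommRing A] [CommRing B] (φ : A →+* B)
    (hφ : φ.FinitePresentation) (hs : Function.Surjective φ) : (RingHom.ker φ).FG := by
  letI := φ.toAlgebra
  haveI : Algebra.FinitePresentation A B := hφ
  have := Algebra.FinitePresentation.ker_fG_of_surjective (Algebra.ofId A B) hs
  exact this

variable {J : Type u} [SmallCategory J] [IsCofiltered J] (F : J ⥤ Scheme.{u}) (cF : Cone F)
  (hF : IsLimit cF) [∀ j, IsAffine (F.obj j)] [IsAffine cF.pt]

include hF in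
/-- the limit is reached at a finite stage. -/
theorem exists_isIso_π {U : Scheme.{u}} [IsAffine U] (ι : ∀ j, F.obj j ⟶ U)
    (hι : ∀ {j k : J} (ψ : j ⟶ k), F.map ψ ≫ ι k = ι j)
    (hcl : ∀ j, IsClosedImmersion (ι j)) (ιW : cF.pt ⟶ U) (hιW : ∀ j, cF.π.app j ≫ ι j = ιW)
    (hlfp : LocallyOfFinitePresentation ιW) :
    ∃ j : J, ∀ (j' : J) (_ : j' ⟶ j), IsIso (cF.π.app j') := by
  obtain ⟨j₀⟩ := IsCofiltered.nonempty (C := J)
  have hsurj : ∀ j, Function.Surjective (ι j).appTop := fun j => by
    haveI := hcl j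
    exact (IsClosedImmersion.isAffine_surjective_of_isAffine (ι j)).2
  have hWapp : ∀ j (a : Γ(U, ⊤)), (cF.π.app j).appTop ((ι j).appTop a) = ιW.appTop a := by
    intro j a
    rw [← hιW j, Scheme.Hom.comp_appTop]
    rfl
  have hmapapp : ∀ {j k : J} (ψ : j ⟶ k) (a : Γ(U, ⊤)),
      (F.map ψ).appTop ((ι k).appTop a) = (ι j).appTop a := by
    intro j k ψ a
    rw [← hι ψ, Scheme.Hom.comp_appTop]
    rfl
  have hWsurj : Function.Surjective ιW.appTop := by
    intro s
    obtain ⟨k, t, rfl⟩ := exists_appTop_π_eq_of_isAffine_of_isLimit F cF hF s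
    obtain ⟨a, rfl⟩ := hsurj k t
    exact ⟨a, (hWapp k a).symm⟩
  have hfp : ιW.appTop.hom.FinitePresentation :=
    (HasRingHomProperty.iff_of_isAffine (P := @LocallyOfFinitePresentation)).1 hlfp
  have hfg : (RingHom.ker ιW.appTop.hom).FG := ker_fg_of_finitePresentation _ hfp hWsurj
  -- each element of the kernel dies at a finite stage
  have hdie : ∀ a ∈ RingHom.ker ιW.appTop.hom, ∃ j : J, (ι j).appTop a = 0 := by
    intro a ha
    have h0 : (cF.π.app j₀).appTop ((ι j₀).appTop a) = 0 := by
      rw [hWapp]; exact ha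
    obtain ⟨j, f, hj⟩ := exists_appTop_map_eq_zero_of_isAffine_of_isLimit F cF hF j₀ _ h0
    exact ⟨j, by rw [← hmapapp f]; exact hj⟩
  obtain ⟨s, hs⟩ := hfg
  haveI : Nonempty J := ⟨j₀⟩
  classical
  choose! jg hjg using hdie
  obtain ⟨j, hjO⟩ := IsCofiltered.inf_objs_exists (s.image jg)
  have hker : RingHom.ker ιW.appTop.hom ≤ RingHom.ker (ι j).appTop.hom := by
    rw [← hs, Ideal.span_le]
    intro g hg
    have hgk : g ∈ RingHom.ker ιW.appTop.hom := by
      rw [← hs]; exact Ideal.subset_span hg
    obtain ⟨f⟩ := hjO (Finset.mem_image_of_mem jg hg)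
    change (ι j).appTop g = 0
    rw [← hmapapp f, hjg g hgk, map_zero]
  refine ⟨j, fun j' ψ => ?_⟩
  have hker' : ∀ a : Γ(U, ⊤), ιW.appTop a = 0 → (ι j').appTop a = 0 := by
    intro a ha
    have h2 : (ι j).appTop a = 0 := hker ha
    rw [← hmapapp ψ, h2, map_zero]
  haveI : IsAffine (((Functor.const J).obj cF.pt).obj j') := inferInstanceAs (IsAffine cF.pt)
  refine isIso_of_bijective_appTop (cF.π.app j') ⟨?_, ?_⟩
  · rw [injective_iff_map_eq_zero]
    intro x hx
    obtain ⟨a, rfl⟩ := hsurj j' x
    rw [hWapp] at hx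
    exact hker' a hx
  · intro s
    obtain ⟨a, rfl⟩ := hWsurj s
    exact ⟨(ι j').appTop a, hWapp j' a⟩

end Groth.Agent.Lib.T2H7.EvIso
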