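import Mathlib
import Groth.Agent.Lib.T2H7EvClosed
import Groth.Agent.Lib.T2H7EvIso
import Groth.Agent.S9959
import Groth.Agent.S10532

/-!
# A limit of algebraic spaces along closed immersions which is locally of finite presentation over
the base is reached at a finite stage (helper7)
-/

set_option autoImplicit false
set_option linter.unusedSectionVars false
set_option linter.unusedVariables false
set_option linter.style.haveILetI false
universe u
open CategoryTheory CategoryTheory.Limits AlgebraicGeometry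
open AlgSp

namespace Groth.Agent.Lib.T2H7.EvIsoB

open Groth.Agent.Lib.T2H7.EvClosed

variable {S : Scheme.{u}}

/-- a representable closed immersion is affine. -/
theorem isAffineMor_of_closedImmersion {F G : AlgSp.Sp S} (f : F ⟶ G)
    (hf : AlgSp.RepWith @IsClosedImmersion f) : AlgSp.IsAffineMor f := by
  intro Z hZ g
  obtain ⟨W, snd, fst, sq⟩ := hf.1 g
  have hcl : IsClosedImmersion snd.left := hf.2 _ _ snd sq
  haveI := hZ
  exact ⟨W, snd, fst, sq, isAffine_of_isAffineHom snd.left⟩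

variable {I : Type u} [SmallCategory I] [IsCofiltered I] (D : I ⥤ AlgSp.Sp S)
  (hD : ∀ i, AlgSp.IsAlgSpace (D.obj i))
  (hDc : ∀ (i j : I) (φ : i ⟶ j), AlgSp.RepWith @IsClosedImmersion (D.map φ))
  (c : Cone D) (hc : IsLimit c)

include hD hDc hc in
theorem eventually_isIso (B : AlgSp.Space S) (t : D ⟶ (Functor.const I).obj B.obj) (i₁ : I)
    (hqc : AlgSp.IsQuasiCompactSp (D.obj i₁))
    (hft : AlgSp.LocP @LocallyOfFiniteType (t.app i₁))
    (hX : AlgSp.LocP @LocallyOfFinitePresentation (c.π.app i₁ ≫ t.app i₁)) :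
    ∃ i₀ : I, ∀ (i : I) (_ : i ⟶ i₀), IsIso (c.π.app i) := by
  have hDa : ∀ (i j : I) (φ : i ⟶ j), AlgSp.IsAffineMor (D.map φ) :=
    fun i j φ => isAffineMor_of_closedImmersion _ (hDc i j φ)
  obtain ⟨cd⟩ := nonempty_chartData D hD hDa c hc i₁ hqc
  have hptalg : AlgSp.IsAlgSpace c.pt := Groth.Agent.Lib.T2H1.LimAffine.isAlgSpace_pt D hDa c hc hD
  have hlfp1 : AlgSp.LocP @LocallyOfFinitePresentation (c.π.app i₁) :=
    Groth.Agent.S9959.result (X := ⟨c.pt, hptalg⟩) (Y := ⟨D.obj i₁, hD i₁⟩) (Z := B)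
      (ObjectProperty.homMk (c.π.app i₁)) (ObjectProperty.homMk (t.app i₁)) hX hft
  have hιWlfp : LocallyOfFinitePresentation cd.ιW.left :=
    hlfp1 cd.fstW cd.u₁ cd.ιW cd.repWith_etale_fstW cd.hu₁e cd.sqW.w
  have hcl : ∀ j, IsClosedImmersion (cd.ιj j).left := fun j =>
    (hDc _ _ j.hom).2 _ _ (cd.ιj j) (cd.sqj j)
  haveI : ∀ j, IsAffine ((cd.E ⋙ Over.forget S).obj j) := fun j => cd.haffj j
  haveI : IsAffine ((Over.forget S).mapCone cd.cW).pt := cd.hWaff
  haveI : IsAffine cd.U₁.left := cd.hU₁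
  obtain ⟨j, hj⟩ := Groth.Agent.Lib.T2H7.EvIso.exists_isIso_π (cd.E ⋙ Over.forget S)
    ((Over.forget S).mapCone cd.cW) cd.hcW (U := cd.U₁.left) (fun j => (cd.ιj j).left)
    (fun {j k} ψ => by
      have := congrArg (fun m => m.left) (cd.hE1 ψ)
      simpa using this)
    hcl cd.ιW.left
    (fun j => by
      have := congrArg (fun m => m.left) (cd.π_ιj j)
      simpa using this)
    hιWlfp
  refine ⟨j.left, fun i φ => ?_⟩
  let j' : Over i₁ := Over.mk (φ ≫ j.hom)
  let ψ : j' ⟶ j := Over.homMk φ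
  have hiso1 : IsIso (cd.cW.π.app j').left := hj j' ψ
  haveI hiso2 : IsIso (cd.cW.π.app j') := by
    haveI : IsIso ((Over.forget S).map (cd.cW.π.app j')) := hiso1
    exact isIso_of_reflects_iso _ (Over.forget S)
  have sqY : IsPullback cd.fstW ((AlgSp.yon S).map (𝟙 cd.cW.pt)) (𝟙 c.pt) cd.fstW := by
    rw [CategoryTheory.Functor.map_id]; exact IsPullback.id_vert _
  have sq := cd.isPullback_stage (𝟙 c.pt) (𝟙 cd.cW.pt) cd.fstW sqY j'
  rw [Category.id_comp, Category.id_comp] at sq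
  have hiff := Groth.Agent.Lib.T2H1.AffDesc.of_chart_of_isLocalOnBase
    (Groth.Agent.S10532.result S) (X := ⟨c.pt, hptalg⟩) (Y := ⟨D.obj i, hD i⟩)
    (ObjectProperty.homMk (c.π.app i)) (cd.E.obj j') (cd.pj j') (cd.repWith_etale_pj j')
    (cd.repWith_surjective_pj j') cd.fstW ((AlgSp.yon S).map (cd.cW.π.app j')) sq
  exact hiff.2 (inferInstanceAs (IsIso ((AlgSp.yon S).map (cd.cW.π.app j'))))

end Groth.Agent.Lib.T2H7.EvIsoB
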