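import Mathlib

/-!
# The system of self fibre products `X_i ×_Y X_i` of a system over a fixed base (helper7)
-/

set_option autoImplicit false
set_option linter.unusedSectionVars false
set_option linter.unusedVariables false
set_option linter.style.haveILetI false
universe w v u
open CategoryTheory CategoryTheory.Limits

namespace Groth.Agent.Lib.T2H7.SelfProd

variable {C : Type u} [Category.{v} C] [HasPullbacks C]

section

variable {W X Y Z S T : C} (f₁ : W ⟶ S) (f₂ : X ⟶ S)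
  (g₁ : Y ⟶ T) (g₂ : Z ⟶ T) (i₁ : W ⟶ Y) (i₂ : X ⟶ Z) (i₃ : S ⟶ T)
  (eq₁ : f₁ ≫ i₃ = i₁ ≫ g₁) (eq₂ : f₂ ≫ i₃ = i₂ ≫ g₂)

@[reassoc (attr := simp)]
theorem map_fst' : pullback.map f₁ f₂ g₁ g₂ i₁ i₂ i₃ eq₁ eq₂ ≫ pullback.fst g₁ g₂ =
    pullback.fst f₁ f₂ ≫ i₁ := pullback.lift_fst _ _ _

@[reassoc (attr := simp)]
theorem map_snd' : pullback.map f₁ f₂ g₁ g₂ i₁ i₂ i₃ eq₁ eq₂ ≫ pullback.snd g₁ g₂ =
    pullback.snd f₁ f₂ ≫ i₂ := pullback.lift_snd _ _ _

end

/-- for a monomorphism `m : A ⟶ A₀` over `Y`, the diagonal of `A` over `Y` is the base change of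
the diagonal of `A₀` over `Y`. -/
theorem isPullback_diagonal_of_mono {A A₀ Y : C} (m : A ⟶ A₀) [Mono m] (t₀ : A₀ ⟶ Y)
    (t : A ⟶ Y) (ht : m ≫ t₀ = t) (h1 : t ≫ 𝟙 Y = m ≫ t₀) :
    IsPullback m (pullback.diagonal t) (pullback.diagonal t₀)
      (pullback.map t t t₀ t₀ m m (𝟙 Y) h1 h1) := by
  have w : m ≫ pullback.diagonal t₀ =
      pullback.diagonal t ≫ pullback.map t t t₀ t₀ m m (𝟙 Y) h1 h1 := by
    apply pullback.hom_ext <;> simp
  refine ⟨⟨w⟩, ⟨PullbackCone.IsLimit.mk _ (fun s => s.snd ≫ pullback.fst t t) (fun s => ?_)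
    (fun s => ?_) (fun s l h1' h2' => ?_)⟩⟩
  · have h := congrArg (fun q => q ≫ pullback.fst t₀ t₀) s.condition
    simp only [Category.assoc, pullback.diagonal_fst, Category.comp_id, pullback.lift_fst] at h
    rw [Category.assoc]
    exact h.symm
  · have ha := congrArg (fun q => q ≫ pullback.fst t₀ t₀) s.condition
    have hb := congrArg (fun q => q ≫ pullback.snd t₀ t₀) s.condition
    simp only [Category.assoc, pullback.diagonal_fst, pullback.diagonal_snd, Category.comp_id,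
      pullback.lift_fst, pullback.lift_snd] at ha hb
    have key : s.snd ≫ pullback.fst t t = s.snd ≫ pullback.snd t t := by
      rw [← cancel_mono m, Category.assoc, Category.assoc, ← ha, ← hb]
    apply pullback.hom_ext
    · simp
    · simp [key]
  · rw [← h2', Category.assoc, pullback.diagonal_fst, Category.comp_id]

/-- `A ×_Y C ⟶ A' ×_Y C` is the base change of `m : A ⟶ A'`. -/
theorem isPullback_map_left {A A' B Y : C} (m : A ⟶ A') (t : A ⟶ Y) (t' : A' ⟶ Y) (u : B ⟶ Y)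
    (h1 : t ≫ 𝟙 Y = m ≫ t') (h2 : u ≫ 𝟙 Y = 𝟙 B ≫ u) :
    IsPullback (pullback.fst t u) (pullback.map t u t' u m (𝟙 B) (𝟙 Y) h1 h2) m
      (pullback.fst t' u) := by
  have ht : m ≫ t' = t := by rw [← h1, Category.comp_id]
  have hr : IsPullback (pullback.snd t' u) (pullback.fst t' u) u t' :=
    (IsPullback.of_hasPullback t' u).flip
  have ho : IsPullback (pullback.map t u t' u m (𝟙 B) (𝟙 Y) h1 h2 ≫ pullback.snd t' u)
      (pullback.fst t u) u (m ≫ t') := by
    have e : pullback.map t u t' u m (𝟙 B) (𝟙 Y) h1 h2 ≫ pullback.snd t' u = pullback.snd t u := by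
      simp
    rw [e, ht]
    exact (IsPullback.of_hasPullback t u).flip
  exact (IsPullback.of_right ho (by simp) hr).flip

/-- `B ×_Y A ⟶ B ×_Y A'` is the base change of `m : A ⟶ A'`. -/
theorem isPullback_map_right {A A' B Y : C} (m : A ⟶ A') (t : A ⟶ Y) (t' : A' ⟶ Y) (u : B ⟶ Y)
    (h1 : u ≫ 𝟙 Y = 𝟙 B ≫ u) (h2 : t ≫ 𝟙 Y = m ≫ t') :
    IsPullback (pullback.snd u t) (pullback.map u t u t' (𝟙 B) m (𝟙 Y) h1 h2) m
      (pullback.snd u t') := by
  have ht : m ≫ t' = t := by rw [← h2, Category.comp_id]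
  have hr : IsPullback (pullback.fst u t') (pullback.snd u t') u t' :=
    IsPullback.of_hasPullback u t'
  have ho : IsPullback (pullback.map u t u t' (𝟙 B) m (𝟙 Y) h1 h2 ≫ pullback.fst u t')
      (pullback.snd u t) u (m ≫ t') := by
    have e : pullback.map u t u t' (𝟙 B) m (𝟙 Y) h1 h2 ≫ pullback.fst u t' = pullback.fst u t := by
      simp
    rw [e, ht]
    exact IsPullback.of_hasPullback u t
  exact (IsPullback.of_right ho (by simp) hr).flip

/-- the map `A ×_Y A ⟶ A' ×_Y A'` decomposes in two base changes of `m`. -/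
theorem map_eq_comp {A A' Y : C} (m : A ⟶ A') (t : A ⟶ Y) (t' : A' ⟶ Y)
    (h1 : t ≫ 𝟙 Y = m ≫ t') (h2 : t ≫ 𝟙 Y = 𝟙 A ≫ t) (h3 : t' ≫ 𝟙 Y = 𝟙 A' ≫ t') :
    pullback.map t t t' t' m m (𝟙 Y) h1 h1 =
      pullback.map t t t' t m (𝟙 A) (𝟙 Y) h1 h2 ≫
        pullback.map t' t t' t' (𝟙 A') m (𝟙 Y) h3 h1 := by
  apply pullback.hom_ext <;> simp

section system

variable {I : Type w} [Category I] (D : I ⥤ C) {Y : C} (t : D ⟶ (Functor.const I).obj Y)

theorem t_nat {i j : I} (φ : i ⟶ j) : t.app i ≫ 𝟙 Y = D.map φ ≫ t.app j := by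
  have := t.naturality φ
  simp only [Functor.const_obj_obj, Functor.const_obj_map] at this
  exact this.symm

/-- the system `X_i ×_Y X_i`. -/
noncomputable def Zs : I ⥤ C where
  obj i := pullback (t.app i) (t.app i)
  map {i j} φ := pullback.map (t.app i) (t.app i) (t.app j) (t.app j) (D.map φ) (D.map φ) (𝟙 Y)
    (t_nat D t φ) (t_nat D t φ)
  map_id i := by
    apply pullback.hom_ext <;> simp
  map_comp φ ψ := by
    apply pullback.hom_ext <;> simp

variable (c : Cone D) (g : c.pt ⟶ Y)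

theorem g_nat (hg : ∀ i, c.π.app i ≫ t.app i = g) (i : I) :
    g ≫ 𝟙 Y = c.π.app i ≫ t.app i := by
  rw [Category.comp_id, hg]

/-- the cone with vertex `X ×_Y X`. -/
noncomputable def Zc (hg : ∀ i, c.π.app i ≫ t.app i = g) : Cone (Zs D t) where
  pt := pullback g g
  π :=
    { app := fun i => pullback.map g g (t.app i) (t.app i) (c.π.app i) (c.π.app i) (𝟙 Y)
        (g_nat D t c g hg i) (g_nat D t c g hg i)
      naturality := fun i j φ => by
        apply pullback.hom_ext <;> simp [Zs] }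

/-- the first projection of a stage of the system. -/
noncomputable def p1 (i : I) : (Zs D t).obj i ⟶ D.obj i := pullback.fst _ _

/-- the second projection of a stage of the system. -/
noncomputable def p2 (i : I) : (Zs D t).obj i ⟶ D.obj i := pullback.snd _ _

theorem p_cond (i : I) : p1 D t i ≫ t.app i = p2 D t i ≫ t.app i := pullback.condition

@[reassoc]
theorem map_p1 {i j : I} (φ : i ⟶ j) : (Zs D t).map φ ≫ p1 D t j = p1 D t i ≫ D.map φ := by
  simp [Zs, p1]

@[reassoc]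
theorem map_p2 {i j : I} (φ : i ⟶ j) : (Zs D t).map φ ≫ p2 D t j = p2 D t i ≫ D.map φ := by
  simp [Zs, p2]

/-- the first projection of the vertex. -/
noncomputable def q1 (hg : ∀ i, c.π.app i ≫ t.app i = g) : (Zc D t c g hg).pt ⟶ c.pt :=
  pullback.fst g g

/-- the second projection of the vertex. -/
noncomputable def q2 (hg : ∀ i, c.π.app i ≫ t.app i = g) : (Zc D t c g hg).pt ⟶ c.pt :=
  pullback.snd g g

@[reassoc]
theorem π_p1 (hg : ∀ i, c.π.app i ≫ t.app i = g) (i : I) :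
    (Zc D t c g hg).π.app i ≫ p1 D t i = q1 D t c g hg ≫ c.π.app i :=
  pullback.lift_fst _ _ _

@[reassoc]
theorem π_p2 (hg : ∀ i, c.π.app i ≫ t.app i = g) (i : I) :
    (Zc D t c g hg).π.app i ≫ p2 D t i = q2 D t c g hg ≫ c.π.app i :=
  pullback.lift_snd _ _ _

theorem Z_hom_ext {T : C} {i : I} (f g : T ⟶ (Zs D t).obj i)
    (h1 : f ≫ p1 D t i = g ≫ p1 D t i) (h2 : f ≫ p2 D t i = g ≫ p2 D t i) : f = g :=
  pullback.hom_ext h1 h2

theorem Zc_hom_ext (hg : ∀ i, c.π.app i ≫ t.app i = g) {T : C} (f f' : T ⟶ (Zc D t c g hg).pt)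
    (h1 : f ≫ q1 D t c g hg = f' ≫ q1 D t c g hg) (h2 : f ≫ q2 D t c g hg = f' ≫ q2 D t c g hg) :
    f = f' :=
  pullback.hom_ext h1 h2

/-- the lift to the vertex. -/
noncomputable def ZcLift (hg : ∀ i, c.π.app i ≫ t.app i = g) {T : C} (a b : T ⟶ c.pt)
    (h : a ≫ g = b ≫ g) : T ⟶ (Zc D t c g hg).pt := pullback.lift a b h

@[reassoc]
theorem ZcLift_q1 (hg : ∀ i, c.π.app i ≫ t.app i = g) {T : C} (a b : T ⟶ c.pt)
    (h : a ≫ g = b ≫ g) : ZcLift D t c g hg a b h ≫ q1 D t c g hg = a := pullback.lift_fst _ _ _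

@[reassoc]
theorem ZcLift_q2 (hg : ∀ i, c.π.app i ≫ t.app i = g) {T : C} (a b : T ⟶ c.pt)
    (h : a ≫ g = b ≫ g) : ZcLift D t c g hg a b h ≫ q2 D t c g hg = b := pullback.lift_snd _ _ _

/-- `X ×_Y X` is the limit of the system `X_i ×_Y X_i`. -/
noncomputable def isLimitZc [Nonempty I] (hg : ∀ i, c.π.app i ≫ t.app i = g) (hc : IsLimit c) :
    IsLimit (Zc D t c g hg) := by
  let c1 : ∀ s : Cone (Zs D t), Cone D := fun s =>
    { pt := s.pt
      π :=
        { app := fun i => s.π.app i ≫ p1 D t i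
          naturality := fun i j φ => by
            have h := s.w φ
            simp only [Functor.const_obj_obj, Functor.const_obj_map, Category.id_comp]
            rw [← h, Category.assoc, Category.assoc, map_p1] } }
  let c2 : ∀ s : Cone (Zs D t), Cone D := fun s =>
    { pt := s.pt
      π :=
        { app := fun i => s.π.app i ≫ p2 D t i
          naturality := fun i j φ => by
            have h := s.w φ
            simp only [Functor.const_obj_obj, Functor.const_obj_map, Category.id_comp]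
            rw [← h, Category.assoc, Category.assoc, map_p2] } }
  have hf1 : ∀ (s : Cone (Zs D t)) (i : I), hc.lift (c1 s) ≫ c.π.app i = s.π.app i ≫ p1 D t i :=
    fun s i => hc.fac (c1 s) i
  have hf2 : ∀ (s : Cone (Zs D t)) (i : I), hc.lift (c2 s) ≫ c.π.app i = s.π.app i ≫ p2 D t i :=
    fun s i => hc.fac (c2 s) i
  have hcond : ∀ s : Cone (Zs D t), hc.lift (c1 s) ≫ g = hc.lift (c2 s) ≫ g := by
    intro s
    obtain ⟨i⟩ := ‹Nonempty I›
    rw [← hg i, ← Category.assoc, ← Category.assoc, hf1, hf2, Category.assoc, Category.assoc,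
      p_cond]
  refine
    { lift := fun s => ZcLift D t c g hg (hc.lift (c1 s)) (hc.lift (c2 s)) (hcond s)
      fac := fun s i => ?_
      uniq := fun s l hl => ?_ }
  · apply Z_hom_ext
    · rw [Category.assoc, π_p1, ZcLift_q1_assoc, hf1]
    · rw [Category.assoc, π_p2, ZcLift_q2_assoc, hf2]
  · apply Zc_hom_ext
    · rw [ZcLift_q1]
      apply hc.hom_ext
      intro i
      rw [hf1, ← hl i, Category.assoc, Category.assoc, π_p1]
    · rw [ZcLift_q2]
      apply hc.hom_ext
      intro i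
      rw [hf2, ← hl i, Category.assoc, Category.assoc, π_p2]

end system

end Groth.Agent.Lib.T2H7.SelfProd
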