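import Mathlib
import Groth.Agent.S9874
import Groth.Agent.S10175
import Groth.Agent.S10209

/-!
# Descending properties through limits of algebraic spaces: shrinking the index (helper7)
-/

set_option autoImplicit false
set_option linter.unusedSectionVars false
set_option linter.unusedVariables false
set_option linter.style.haveILetI false
universe u
open CategoryTheory CategoryTheory.Limits AlgebraicGeometry
open AlgSp

namespace Groth.Agent.Lib.T2H7.LimDescE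

variable {S : Scheme.{u}}

/-- a property of morphisms of algebraic spaces which is stable under base change. -/
def BCStable (Q : MorphismProperty (AlgSp.Sp S)) : Prop :=
  ∀ ⦃A B A' B' : AlgSp.Sp S⦄, AlgSp.IsAlgSpace A → AlgSp.IsAlgSpace B → AlgSp.IsAlgSpace A' →
    AlgSp.IsAlgSpace B' → ∀ (f : A ⟶ B) (g : B' ⟶ B) (fst : A' ⟶ A) (f' : A' ⟶ B'),
    IsPullback fst f' f g → Q f → Q f'

theorem bcStable_isEtaleMor : BCStable (S := S) AlgSp.IsEtaleMor := by
  intro A B A' B' hA hB hA' hB' f g fst f' sq hf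
  exact Groth.Agent.S10209.result (X := ⟨A, hA⟩) (Y := ⟨B, hB⟩) (Z := ⟨B', hB'⟩) (P := ⟨A', hA'⟩)
    (ObjectProperty.homMk f) (ObjectProperty.homMk g) (ObjectProperty.homMk f')
    (ObjectProperty.homMk fst) sq.flip hf

theorem bcStable_isSurjectiveMor : BCStable (S := S) AlgSp.IsSurjectiveMor := by
  intro A B A' B' hA hB hA' hB' f g fst f' sq hf y'
  obtain ⟨x, hx⟩ := hf (AlgSp.Points.map g y')
  obtain ⟨p, hp1, hp2⟩ := Groth.Agent.S10175.exists_point_of_isPullback sq.flip y' x hx.symm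
  exact ⟨p, hp1⟩

theorem bcStable_isUnivInjectiveMor : BCStable (S := S) AlgSp.IsUnivInjectiveMor := by
  intro A B A' B' hA hB hA' hB' f g fst f' sq hf Z Z' hZ h fst' snd' sq'
  exact hf hZ (h ≫ g) (fst' ≫ fst) snd' (sq'.paste_horiz sq)

/-- if every base change of `f₀` to the stage `i` has `Q`, so does every base change to a
further stage `i' ⟶ i`. -/
theorem shrink_index {I : Type u} [SmallCategory I] (D : I ⥤ AlgSp.Sp S)
    (hD : ∀ i, AlgSp.IsAlgSpace (D.obj i)) {i₀ i i' : I} (φ : i ⟶ i₀) (ψ : i' ⟶ i)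
    (X₀ Y₀ : AlgSp.Space S) (f₀ : X₀.obj ⟶ Y₀.obj) (b₀ : Y₀.obj ⟶ D.obj i₀)
    (Q : MorphismProperty (AlgSp.Sp S)) (hQ : BCStable Q)
    (H : ∀ (Xi Yi : AlgSp.Sp S) (fi : Xi ⟶ Yi) (pYi : Yi ⟶ Y₀.obj) (qYi : Yi ⟶ D.obj i)
      (_ : IsPullback pYi qYi b₀ (D.map φ)) (pXi : Xi ⟶ X₀.obj) (_ : IsPullback pXi fi f₀ pYi),
      Q fi) :
    ∀ (Xi Yi : AlgSp.Sp S) (fi : Xi ⟶ Yi) (pYi : Yi ⟶ Y₀.obj) (qYi : Yi ⟶ D.obj i')
      (_ : IsPullback pYi qYi b₀ (D.map (ψ ≫ φ))) (pXi : Xi ⟶ X₀.obj)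
      (_ : IsPullback pXi fi f₀ pYi), Q fi := by
  intro Xi' Yi' fi' pYi' qYi' hYi' pXi' hXi'
  have hYi := IsPullback.of_hasPullback b₀ (D.map φ)
  have hXi := IsPullback.of_hasPullback f₀ (pullback.fst b₀ (D.map φ))
  have hQi := H _ _ _ _ _ hYi _ hXi
  have hYialg : AlgSp.IsAlgSpace (pullback b₀ (D.map φ)) :=
    Groth.Agent.S9874.isAlgSpace_of_isPullback (hD i₀).diag Y₀.property (hD i) hYi
  have hXialg : AlgSp.IsAlgSpace (pullback f₀ (pullback.fst b₀ (D.map φ))) :=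
    Groth.Agent.S9874.isAlgSpace_of_isPullback Y₀.property.diag X₀.property hYialg hXi
  have hYi'alg : AlgSp.IsAlgSpace Yi' :=
    Groth.Agent.S9874.isAlgSpace_of_isPullback (hD i₀).diag Y₀.property (hD i') hYi'
  have hXi'alg : AlgSp.IsAlgSpace Xi' :=
    Groth.Agent.S9874.isAlgSpace_of_isPullback Y₀.property.diag X₀.property hYi'alg hXi'
  have hw : pYi' ≫ b₀ = (qYi' ≫ D.map ψ) ≫ D.map φ := by
    rw [Category.assoc, ← D.map_comp]; exact hYi'.w
  let g : Yi' ⟶ pullback b₀ (D.map φ) := pullback.lift pYi' (qYi' ≫ D.map ψ) hw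
  have hg : g ≫ pullback.fst b₀ (D.map φ) = pYi' := pullback.lift_fst _ _ _
  have hw2 : pXi' ≫ f₀ = (fi' ≫ g) ≫ pullback.fst b₀ (D.map φ) := by
    rw [Category.assoc, hg]; exact hXi'.w
  let fst : Xi' ⟶ pullback f₀ (pullback.fst b₀ (D.map φ)) := pullback.lift pXi' (fi' ≫ g) hw2
  have hfst1 : fst ≫ pullback.fst f₀ (pullback.fst b₀ (D.map φ)) = pXi' := pullback.lift_fst _ _ _
  have hfst2 : fst ≫ pullback.snd f₀ (pullback.fst b₀ (D.map φ)) = fi' ≫ g :=
    pullback.lift_snd _ _ _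
  have sq : IsPullback fst fi' (pullback.snd f₀ (pullback.fst b₀ (D.map φ))) g := by
    refine IsPullback.of_right ?_ hfst2 hXi
    rw [hfst1, hg]
    exact hXi'
  exact hQ hXialg hYialg hXi'alg hYi'alg _ g fst fi' sq hQi

end Groth.Agent.Lib.T2H7.LimDescE
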