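import Mathlib
import Groth.Agent.Lib.T2H1LimAffine3
import Groth.Agent.Lib.Helper15QcRep
import Groth.Agent.S9921
import Groth.Agent.S9874
import Groth.Agent.S10180

/-!
# Descending properties of morphisms of algebraic spaces through limits: charts (helper7)
-/

set_option autoImplicit false
set_option linter.unusedSectionVars false
set_option linter.unusedVariables false
set_option linter.style.haveILetI false
universe u
open CategoryTheory CategoryTheory.Limits AlgebraicGeometry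
open AlgSp

namespace Groth.Agent.Lib.T2H7.LimDescA

variable {S : Scheme.{u}}

/-- transfer of chart squares along base change: given the tower of pullbacks `X = X₀ ×_{Y₀} Y`,
`Y = Y₀ ×_{B₀} T`, charts `v₀ : h_{V₀} ⟶ Y₀`, `a₀ : h_{U₀} ⟶ X₀` with `g₀ : U₀ ⟶ V₀` over `f₀`,
a scheme `W` representing `h_{V₀} ×_{B₀} T` and `Xo = U₀ ×_{V₀} W`, we get charts of `f`. -/
theorem exists_charts_of_isPullback {B₀ T X₀ Y₀ X Y : AlgSp.Sp S} (t : T ⟶ B₀) (f₀ : X₀ ⟶ Y₀)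
    (b₀ : Y₀ ⟶ B₀) {f : X ⟶ Y} {pY : Y ⟶ Y₀} {qY : Y ⟶ T} (hY : IsPullback pY qY b₀ t)
    {pX : X ⟶ X₀} (hX : IsPullback pX f f₀ pY) {U₀ V₀ W Xo : Over S}
    (v₀ : (AlgSp.yon S).obj V₀ ⟶ Y₀) (a₀ : (AlgSp.yon S).obj U₀ ⟶ X₀) (g₀ : U₀ ⟶ V₀)
    (comm : a₀ ≫ f₀ = (AlgSp.yon S).map g₀ ≫ v₀) (ι : W ⟶ V₀) (p : (AlgSp.yon S).obj W ⟶ T)
    (sq : IsPullback p ((AlgSp.yon S).map ι) t (v₀ ≫ b₀)) (pXo : Xo ⟶ U₀) (h : Xo ⟶ W)
    (sqo : IsPullback pXo h g₀ ι) :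
    ∃ (a : (AlgSp.yon S).obj Xo ⟶ X) (b : (AlgSp.yon S).obj W ⟶ Y),
      a ≫ f = (AlgSp.yon S).map h ≫ b ∧ IsPullback b ((AlgSp.yon S).map ι) pY v₀ ∧
      IsPullback a ((AlgSp.yon S).map pXo) pX a₀ ∧ b ≫ qY = p := by
  have hw : ((AlgSp.yon S).map ι ≫ v₀) ≫ b₀ = p ≫ t := by
    rw [Category.assoc]; exact sq.w.symm
  let b : (AlgSp.yon S).obj W ⟶ Y := hY.lift ((AlgSp.yon S).map ι ≫ v₀) p hw
  have hb1 : b ≫ pY = (AlgSp.yon S).map ι ≫ v₀ := hY.lift_fst _ _ _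
  have hb2 : b ≫ qY = p := hY.lift_snd _ _ _
  have sqb : IsPullback b ((AlgSp.yon S).map ι) pY v₀ := by
    refine IsPullback.of_right (h₁₂ := qY) (h₂₂ := b₀) (v₁₃ := t) ?_ hb1 hY.flip
    rw [hb2]
    exact sq
  have hw2 : ((AlgSp.yon S).map pXo ≫ a₀) ≫ f₀ = ((AlgSp.yon S).map h ≫ b) ≫ pY := by
    rw [Category.assoc, comm, Category.assoc, hb1, ← Category.assoc, ← Category.assoc,
      ← Functor.map_comp, ← Functor.map_comp, sqo.w]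
  let a : (AlgSp.yon S).obj Xo ⟶ X := hX.lift ((AlgSp.yon S).map pXo ≫ a₀)
    ((AlgSp.yon S).map h ≫ b) hw2
  have ha1 : a ≫ pX = (AlgSp.yon S).map pXo ≫ a₀ := hX.lift_fst _ _ _
  have ha2 : a ≫ f = (AlgSp.yon S).map h ≫ b := hX.lift_snd _ _ _
  refine ⟨a, b, ha2, sqb, ?_, hb2⟩
  refine IsPullback.of_right (h₁₂ := f) (h₂₂ := f₀) (v₁₃ := pY) ?_ ha1 hX.flip
  rw [ha2, comm]
  exact ((sqo.map (AlgSp.yon S)).flip).paste_horiz sqb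

/-- `h_V` is quasi-separated for an affine scheme `V`. -/
theorem isQuasiSeparatedSp_yon (V : Over S) (hV : IsAffine V.left) :
    AlgSp.IsQuasiSeparatedSp ((AlgSp.yon S).obj V) := by
  haveI := hV
  change AlgSp.RepWith @QuasiCompact (Limits.diag ((AlgSp.yon S).obj V))
  rw [AlgSp.repWith_diag_yon_iff]
  haveI : QuasiSeparated V.hom := QuasiSeparated.of_quasiSeparatedSpace V.hom
  exact QuasiSeparated.quasiCompact_diagonal

/-- affine étale surjective charts of a morphism of quasi-compact quasi-separated algebraic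
spaces (the source chart being an atlas of the fibre product). -/
theorem exists_affine_charts [QuasiSeparatedSpace S] (X₀ Y₀ : AlgSp.Space S)
    (f₀ : X₀.obj ⟶ Y₀.obj)
    (hXqc : AlgSp.IsQuasiCompactSp X₀.obj) (hXqs : AlgSp.IsQuasiSeparatedSp X₀.obj)
    (hYqc : AlgSp.IsQuasiCompactSp Y₀.obj) (hYqs : AlgSp.IsQuasiSeparatedSp Y₀.obj) :
    ∃ (V₀ U₀ : Over S) (v₀ : (AlgSp.yon S).obj V₀ ⟶ Y₀.obj) (X₀' : AlgSp.Sp S)
      (fst₀ : X₀' ⟶ X₀.obj) (snd₀ : X₀' ⟶ (AlgSp.yon S).obj V₀)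
      (u₀ : (AlgSp.yon S).obj U₀ ⟶ X₀'),
      IsAffine V₀.left ∧ IsAffine U₀.left ∧ AlgSp.RepWith @Etale v₀ ∧
      AlgSp.RepWith @Surjective v₀ ∧ IsPullback fst₀ snd₀ f₀ v₀ ∧ AlgSp.IsAlgSpace X₀' ∧
      AlgSp.RepWith @Etale u₀ ∧ AlgSp.RepWith @Surjective u₀ := by
  obtain ⟨V₀, v₀, hV₀, hv₀e, hv₀s⟩ := (Groth.Agent.S10180.result Y₀).1 hYqc
  have sq := IsPullback.of_hasPullback f₀ v₀
  have hV₀alg : AlgSp.IsAlgSpace ((AlgSp.yon S).obj V₀) := AlgSp.IsAlgSpace.yon_obj V₀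
  have hX₀' : AlgSp.IsAlgSpace (pullback f₀ v₀) :=
    Groth.Agent.S9874.isAlgSpace_of_isPullback Y₀.property.diag X₀.property hV₀alg sq
  let Vs : AlgSp.Space S := ⟨(AlgSp.yon S).obj V₀, hV₀alg⟩
  let Ps : AlgSp.Space S := ⟨pullback f₀ v₀, hX₀'⟩
  have hqc := (Groth.Agent.S9921.result (X := X₀) (Y := Y₀) (Z := Vs) (P := Ps)
    (ObjectProperty.homMk f₀) (ObjectProperty.homMk v₀)
    (ObjectProperty.homMk (pullback.fst f₀ v₀)) (ObjectProperty.homMk (pullback.snd f₀ v₀)) sq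
    ⟨hXqc, hXqs⟩ ⟨hYqc, hYqs⟩
    ⟨Groth.Agent.Lib.Helper15QcRep.isQuasiCompactSp_yon V₀ hV₀,
      isQuasiSeparatedSp_yon V₀ hV₀⟩).1
  obtain ⟨U₀, u₀, hU₀, hu₀e, hu₀s⟩ := (Groth.Agent.S10180.result Ps).1 hqc
  exact ⟨V₀, U₀, v₀, pullback f₀ v₀, pullback.fst f₀ v₀, pullback.snd f₀ v₀, u₀, hV₀, hU₀, hv₀e,
    hv₀s, sq, hX₀', hu₀e, hu₀s⟩

end Groth.Agent.Lib.T2H7.LimDescA
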