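import Mathlib
import Groth.Agent.Lib.T2H7LimDescA
import Groth.Agent.S9947

/-!
# Descending properties of morphisms of algebraic spaces through limits: the main reduction
(helper7)
-/

set_option autoImplicit false
set_option linter.unusedSectionVars false
set_option linter.unusedVariables false
set_option linter.style.haveILetI false
universe u
open CategoryTheory CategoryTheory.Limits AlgebraicGeometry
open AlgSp

namespace Groth.Agent.Lib.T2H7.LimDescB

open Groth.Agent.Lib.T2H7.LimDescA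

variable {S : Scheme.{u}}

/-- descent of a property of morphisms of schemes through a cofiltered limit of affine schemes,
for base changes of a morphism locally of finite presentation with affine source. -/
def SchemeDescent (P : MorphismProperty Scheme.{u}) : Prop :=
  ∀ {J : Type u} [SmallCategory J] [IsCofiltered J] (Ds : J ⥤ Scheme.{u}) (cs : Cone Ds)
    (hcs : IsLimit cs) (haff : ∀ j, IsAffine (Ds.obj j)) (j₀ : J) {X₀ : Scheme.{u}}
    (f₀ : X₀ ⟶ Ds.obj j₀) (hX₀ : IsAffine X₀) (hlfp : LocallyOfFinitePresentation f₀)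
    {X : Scheme.{u}} (f : X ⟶ cs.pt) (qX : X ⟶ X₀)
    (hX : IsPullback qX f f₀ (cs.π.app j₀)), P f →
    ∃ (j : J) (ψ : j ⟶ j₀) (Xj : Scheme.{u}) (fj : Xj ⟶ Ds.obj j) (pX : Xj ⟶ X₀),
      IsPullback pX fj f₀ (Ds.map ψ) ∧ P fj

/-- composing the two maps to the base with an isomorphism does not change a pullback square. -/
theorem isPullback_comp_iso {C : Type*} [Category C] {P X Y Z Z' : C} {fst : P ⟶ X} {snd : P ⟶ Y}
    {f : X ⟶ Z} {g : Y ⟶ Z} (h : IsPullback fst snd f g) (e : Z ⟶ Z') [IsIso e] :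
    IsPullback fst snd (f ≫ e) (g ≫ e) :=
  h.of_iso (Iso.refl _) (Iso.refl _) (Iso.refl _) (asIso e) (by simp) (by simp) (by simp) (by simp)

/-- a square in `Over S` whose underlying square of schemes is a pullback is a pullback. -/
theorem isPullback_over_of_left {P X Y Z : Over S} {fst : P ⟶ X} {snd : P ⟶ Y} {f : X ⟶ Z}
    {g : Y ⟶ Z} (w : fst ≫ f = snd ≫ g) (h : IsPullback fst.left snd.left f.left g.left) :
    IsPullback fst snd f g :=
  IsPullback.of_map (Over.forget S) w h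

/-- the main reduction: descent of `LocP P` through a limit of algebraic spaces with affine
transition maps, given descent of `P` for limits of affine schemes. -/
theorem descend_locP [QuasiSeparatedSpace S] (P : MorphismProperty Scheme.{u})
    (hP : P = @Flat ∨ P = @Smooth ∨ P = @Etale) (H1 : SchemeDescent P)
    {I : Type u} [SmallCategory I] [IsCofiltered I]
    (D : I ⥤ AlgSp.Sp S) (hD : ∀ i, AlgSp.IsAlgSpace (D.obj i))
    (hDa : ∀ (i j : I) (φ : i ⟶ j), AlgSp.IsAffineMor (D.map φ))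
    (c : Cone D) (hc : IsLimit c) (i₀ : I)
    (X₀ Y₀ : AlgSp.Space S) (f₀ : X₀.obj ⟶ Y₀.obj) (b₀ : Y₀.obj ⟶ D.obj i₀)
    (hXqc : AlgSp.IsQuasiCompactSp X₀.obj) (hXqs : AlgSp.IsQuasiSeparatedSp X₀.obj)
    (hYqc : AlgSp.IsQuasiCompactSp Y₀.obj) (hYqs : AlgSp.IsQuasiSeparatedSp Y₀.obj)
    (X Y : AlgSp.Sp S) (f : X ⟶ Y) (pY : Y ⟶ Y₀.obj) (qY : Y ⟶ c.pt)
    (hY : IsPullback pY qY b₀ (c.π.app i₀)) (pX : X ⟶ X₀.obj) (hX : IsPullback pX f f₀ pY)
    (hf : AlgSp.LocP P f) (hf₀ : AlgSp.LocP @LocallyOfFinitePresentation f₀) :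
    ∃ (i : I) (φ : i ⟶ i₀), ∀ (Xi Yi : AlgSp.Sp S) (fi : Xi ⟶ Yi) (pYi : Yi ⟶ Y₀.obj)
      (qYi : Yi ⟶ D.obj i) (_ : IsPullback pYi qYi b₀ (D.map φ)) (pXi : Xi ⟶ X₀.obj)
      (_ : IsPullback pXi fi f₀ pYi), AlgSp.LocP P fi := by
  obtain ⟨V₀, U₀, v₀, X₀', fst₀, snd₀, u₀, hV₀, hU₀, hv₀e, hv₀s, sq₀, hX₀', hu₀e, hu₀s⟩ :=
    exists_affine_charts X₀ Y₀ f₀ hXqc hXqs hYqc hYqs
  -- the charts of `f₀`
  let g₀ : U₀ ⟶ V₀ := (AlgSp.yon S).preimage (u₀ ≫ snd₀)
  let a₀ : (AlgSp.yon S).obj U₀ ⟶ X₀.obj := u₀ ≫ fst₀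
  have hg₀ : (AlgSp.yon S).map g₀ = u₀ ≫ snd₀ := Functor.map_preimage _ _
  have comm₀ : a₀ ≫ f₀ = (AlgSp.yon S).map g₀ ≫ v₀ := by
    rw [hg₀, Category.assoc, Category.assoc, sq₀.w]
  have hfst₀e : AlgSp.RepWith @Etale fst₀ :=
    MorphismProperty.of_isPullback (P := AlgSp.RepWith @Etale) sq₀.flip hv₀e
  have hfst₀s : AlgSp.RepWith @Surjective fst₀ :=
    MorphismProperty.of_isPullback (P := AlgSp.RepWith @Surjective) sq₀.flip hv₀s
  have ha₀e : AlgSp.RepWith @Etale a₀ := (AlgSp.RepWith @Etale).comp_mem _ _ hu₀e hfst₀e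
  have ha₀s : AlgSp.RepWith @Surjective a₀ :=
    (AlgSp.RepWith @Surjective).comp_mem _ _ hu₀s hfst₀s
  have hlfp : LocallyOfFinitePresentation g₀.left := hf₀ a₀ v₀ g₀ ha₀e hv₀e comm₀
  -- the limit presentation of the base change of the chart of `Y₀`
  obtain ⟨E, ιj, pj, cW, fstW, sqj, haffj, ⟨hcW⟩, hWaff, sqW, hfst, hE1, hE2⟩ :=
    Groth.Agent.Lib.T2H1.LimAffine.exists_limit_data D hDa c hc i₀ hV₀ (v₀ ≫ b₀)
  let j₀ : Over i₀ := Over.mk (𝟙 i₀)
  haveI hιiso : IsIso (ιj j₀) := by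
    have h1 : IsIso (D.map j₀.hom) := by
      change IsIso (D.map (𝟙 i₀))
      rw [D.map_id]; infer_instance
    have h2 : IsIso ((AlgSp.yon S).map (ιj j₀)) := (sqj j₀).isIso_snd_of_isIso
    exact isIso_of_fully_faithful (AlgSp.yon S) _
  let ιW : cW.pt ⟶ V₀ := cW.π.app j₀ ≫ ιj j₀
  -- the chart of `f` at the limit
  have sqo := IsPullback.of_hasPullback g₀ ιW
  obtain ⟨a, b, hab, sqb, sqa, -⟩ := exists_charts_of_isPullback (c.π.app i₀) f₀ b₀ hY hX v₀ a₀ g₀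
    comm₀ ιW fstW sqW _ _ sqo
  have hae : AlgSp.RepWith @Etale a :=
    MorphismProperty.of_isPullback (P := AlgSp.RepWith @Etale) sqa.flip ha₀e
  have hbe : AlgSp.RepWith @Etale b :=
    MorphismProperty.of_isPullback (P := AlgSp.RepWith @Etale) sqb.flip hv₀e
  have hPlim : P (pullback.snd g₀ ιW).left := hf a b _ hae hbe hab
  -- the scheme level pullback square at the limit
  have sqo' : IsPullback (pullback.fst g₀ ιW) (pullback.snd g₀ ιW) (g₀ ≫ inv (ιj j₀))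
      (cW.π.app j₀) := by
    have := isPullback_comp_iso sqo (inv (ιj j₀))
    simpa [ιW] using this
  have sqs : IsPullback (pullback.fst g₀ ιW).left (pullback.snd g₀ ιW).left
      (g₀ ≫ inv (ιj j₀)).left (cW.π.app j₀).left := sqo'.map (Over.forget S)
  have hlfp' : LocallyOfFinitePresentation (g₀ ≫ inv (ιj j₀)).left := by
    rw [Over.comp_left]
    haveI : IsIso (inv (ιj j₀)).left := inferInstanceAs (IsIso ((Over.forget S).map (inv (ιj j₀))))
    infer_instance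
  obtain ⟨j, ψ, Xj, fj0, pXs, sqXj0, hPj0⟩ := H1 (E ⋙ Over.forget S)
    ((Over.forget S).mapCone cW) hcW
    (fun j => haffj j) j₀ (g₀ ≫ inv (ιj j₀)).left hU₀ hlfp' (pullback.snd g₀ ιW).left
    (pullback.fst g₀ ιW).left sqs hPlim
  let fj : Xj ⟶ (E.obj j).left := fj0
  have sqXj : IsPullback pXs fj (g₀ ≫ inv (ιj j₀)).left (E.map ψ).left := sqXj0
  have hPj : P fj := hPj0
  refine ⟨j.left, j.hom, ?_⟩
  intro Xi Yi fi pYi qYi hYi pXi hXi
  -- the finite stage pullback square in `Over S`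
  have hw0 : pXs ≫ (g₀ ≫ inv (ιj j₀)).left = fj ≫ (E.map ψ).left := sqXj.w
  have hwS : pXs ≫ U₀.hom = fj ≫ (E.obj j).hom := by
    have h1 : (g₀ ≫ inv (ιj j₀)).left ≫ (E.obj j₀).hom = U₀.hom := Over.w _
    have h2 : (E.map ψ).left ≫ (E.obj j₀).hom = (E.obj j).hom := Over.w _
    rw [← h1, ← h2, reassoc_of% hw0]
  let Xjo : Over S := Over.mk (fj ≫ (E.obj j).hom)
  let hj : Xjo ⟶ E.obj j := Over.homMk fj rfl
  let pXjo : Xjo ⟶ U₀ := Over.homMk pXs hwS
  have sqj1 : IsPullback pXjo hj (g₀ ≫ inv (ιj j₀)) (E.map ψ) :=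
    isPullback_over_of_left (by ext1; exact hw0) sqXj
  have sqj2 : IsPullback pXjo hj g₀ (ιj j) := by
    have := isPullback_comp_iso sqj1 (ιj j₀)
    simpa [hE1 ψ] using this
  obtain ⟨ai, bi, habi, sqbi, sqai, -⟩ := exists_charts_of_isPullback (D.map j.hom) f₀ b₀ hYi hXi
    v₀ a₀ g₀ comm₀ (ιj j) (pj j) (sqj j) pXjo hj sqj2
  have haie : AlgSp.RepWith @Etale ai :=
    MorphismProperty.of_isPullback (P := AlgSp.RepWith @Etale) sqai.flip ha₀e
  have hais : AlgSp.RepWith @Surjective ai :=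
    MorphismProperty.of_isPullback (P := AlgSp.RepWith @Surjective) sqai.flip ha₀s
  have hbie : AlgSp.RepWith @Etale bi :=
    MorphismProperty.of_isPullback (P := AlgSp.RepWith @Etale) sqbi.flip hv₀e
  have hYialg : AlgSp.IsAlgSpace Yi :=
    Groth.Agent.S9874.isAlgSpace_of_isPullback (hD i₀).diag Y₀.property (hD j.left) hYi
  have hXialg : AlgSp.IsAlgSpace Xi :=
    Groth.Agent.S9874.isAlgSpace_of_isPullback Y₀.property.diag X₀.property hYialg hXi
  have hP' : P = @LocallyOfFiniteType ∨ P = @LocallyOfFinitePresentation ∨ P = @Flat ∨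
      P = @Smooth ∨ P = @Etale ∨
      (∀ ⦃A B : Scheme.{u}⦄ (g : A ⟶ B), P g ↔ (LocallyQuasiFinite g ∧ LocallyOfFiniteType g)) ∨
      (∀ ⦃A B : Scheme.{u}⦄ (g : A ⟶ B), P g ↔ (LocallyOfFiniteType g ∧ FormallyUnramified g)) := by
    rcases hP with h | h | h
    · exact Or.inr (Or.inr (Or.inl h))
    · exact Or.inr (Or.inr (Or.inr (Or.inl h)))
    · exact Or.inr (Or.inr (Or.inr (Or.inr (Or.inl h))))
  exact Groth.Agent.S9947.result P hP' (X := ⟨Xi, hXialg⟩) (Y := ⟨Yi, hYialg⟩)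
    (ObjectProperty.homMk fi) ai bi hj haie hais hbie habi hPj

end Groth.Agent.Lib.T2H7.LimDescB
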