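import Mathlib
import Groth.Agent.Lib.T2H7LimDescB
import Groth.Agent.S9192
import Groth.Agent.S9191
import Groth.Agent.S2075

/-!
# Descending properties of morphisms of algebraic spaces through limits: the scheme level inputs
(helper7)
-/

set_option autoImplicit false
set_option linter.unusedSectionVars false
set_option linter.unusedVariables false
set_option linter.style.haveILetI false
universe u
open CategoryTheory CategoryTheory.Limits AlgebraicGeometry
open AlgSp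

namespace Groth.Agent.Lib.T2H7.LimDescC

open Groth.Agent.Lib.T2H7.LimDescB

/-- the scheme level descent statement in the shape of the landed results gives `SchemeDescent`. -/
theorem schemeDescent_of (P : MorphismProperty Scheme.{u}) [P.RespectsIso]
    (H : ∀ {I : Type u} [SmallCategory I] [IsCofiltered I] (D : I ⥤ Scheme.{u}) (c : Cone D)
      (hc : IsLimit c) [∀ (i j : I) (f : i ⟶ j), IsAffineHom (D.map f)] (i₀ : I)
      [CompactSpace (D.obj i₀)] [QuasiSeparatedSpace (D.obj i₀)] {X₀ Y₀ : Scheme.{u}}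
      (f₀ : X₀ ⟶ Y₀) (g₀ : Y₀ ⟶ D.obj i₀)
      [CompactSpace X₀] [QuasiSeparatedSpace X₀] [CompactSpace Y₀] [QuasiSeparatedSpace Y₀]
      [LocallyOfFinitePresentation f₀] {X Y : Scheme.{u}} (f : X ⟶ Y) (g : Y ⟶ c.pt)
      (qY : Y ⟶ Y₀) (qX : X ⟶ X₀)
      (hY : IsPullback qY g g₀ (c.π.app i₀)) (hX : IsPullback qX f f₀ qY), P f →
      ∃ (i : I) (φ : i ⟶ i₀) (Xi Yi : Scheme.{u}) (fi : Xi ⟶ Yi) (gi : Yi ⟶ D.obj i)
        (pY : Yi ⟶ Y₀) (pX : Xi ⟶ X₀),
        IsPullback pY gi g₀ (D.map φ) ∧ IsPullback pX fi f₀ pY ∧ P fi) :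
    SchemeDescent P := by
  intro J _ _ Ds cs hcs haff j₀ X₀ f₀ hX₀ hlfp X f qX hX hf
  haveI := haff
  haveI := hX₀
  haveI := hlfp
  haveI : ∀ (i j : J) (f : i ⟶ j), IsAffineHom (Ds.map f) := fun i j f => inferInstance
  have hY : IsPullback (cs.π.app j₀) (𝟙 cs.pt) (𝟙 (Ds.obj j₀)) (cs.π.app j₀) :=
    IsPullback.id_vert (cs.π.app j₀)
  obtain ⟨j, ψ, Xj, Yj, fj, gj, pY, pX, sqY, sqX, hPj⟩ :=
    H Ds cs hcs j₀ f₀ (𝟙 _) f (𝟙 _) (cs.π.app j₀) qX hY hX hf
  haveI : IsIso gj := sqY.isIso_snd_of_isIso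
  refine ⟨j, ψ, Xj, fj ≫ gj, pX, ?_, (P.cancel_right_of_respectsIso fj gj).2 hPj⟩
  have := sqX.paste_vert sqY
  rwa [Category.comp_id] at this

theorem schemeDescent_etale : SchemeDescent (@Etale.{u}) :=
  schemeDescent_of @Etale (by
    intro I _ _ D c hc _ i₀ _ _ X₀ Y₀ f₀ g₀ _ _ _ _ _ X Y f g qY qX hY hX hf
    haveI : Etale f := hf
    exact Groth.Agent.S9192.result D c hc i₀ f₀ g₀ f g qY qX hY hX)

theorem schemeDescent_smooth : SchemeDescent (@Smooth.{u}) :=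
  schemeDescent_of @Smooth (by
    intro I _ _ D c hc _ i₀ _ _ X₀ Y₀ f₀ g₀ _ _ _ _ _ X Y f g qY qX hY hX hf
    haveI : Smooth f := hf
    exact Groth.Agent.S9191.result D c hc i₀ f₀ g₀ f g qY qX hY hX)

theorem schemeDescent_flat : SchemeDescent (@Flat.{u}) :=
  schemeDescent_of @Flat (by
    intro I _ _ D c hc _ i₀ _ _ X₀ Y₀ f₀ g₀ _ _ _ _ _ X Y f g qY qX hY hX hf
    haveI : Flat f := hf
    exact Groth.Agent.S2075.result D c hc i₀ f₀ g₀ f g qY qX hY hX)

end Groth.Agent.Lib.T2H7.LimDescC
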