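import Mathlib
import Groth.Agent.Lib.T2H7LimDescB
import Groth.Agent.S10175
import Groth.Agent.S10176
import Groth.Agent.S9906
import Groth.Agent.S2581

/-!
# Descending surjectivity of morphisms of algebraic spaces through limits (helper7)
-/

set_option autoImplicit false
set_option linter.unusedSectionVars false
set_option linter.unusedVariables false
set_option linter.style.haveILetI false
universe u
open CategoryTheory CategoryTheory.Limits AlgebraicGeometry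
open AlgSp

namespace Groth.Agent.Lib.T2H7.LimDescD

open Groth.Agent.Lib.T2H7.LimDescA Groth.Agent.Lib.T2H7.LimDescB

variable {S : Scheme.{u}}

/-- points of a pullback square of schemes. -/
theorem exists_preimage_of_isPullback {P X Y Z : Scheme.{u}} {fst : P ⟶ X} {snd : P ⟶ Y}
    {f : X ⟶ Z} {g : Y ⟶ Z} (sq : IsPullback fst snd f g) (x : X) (y : Y) (h : f x = g y) :
    ∃ z : P, fst z = x ∧ snd z = y := by
  obtain ⟨z', hz1, hz2⟩ := Scheme.Pullback.exists_preimage_pullback x y h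
  refine ⟨sq.isoPullback.inv z', ?_, ?_⟩
  · rw [← Scheme.Hom.comp_apply, sq.isoPullback_inv_fst, hz1]
  · rw [← Scheme.Hom.comp_apply, sq.isoPullback_inv_snd, hz2]

/-- the chart of a surjective morphism obtained from an atlas of the fibre product is
surjective. -/
theorem surjective_chart {X₀ Y₀ X₀' X Y : AlgSp.Sp S} {f₀ : X₀ ⟶ Y₀} {U₀ V₀ W Xo : Over S}
    {v₀ : (AlgSp.yon S).obj V₀ ⟶ Y₀} {fst₀ : X₀' ⟶ X₀} {snd₀ : X₀' ⟶ (AlgSp.yon S).obj V₀}
    (sq₀ : IsPullback fst₀ snd₀ f₀ v₀) (u₀ : (AlgSp.yon S).obj U₀ ⟶ X₀')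
    (hu₀s : AlgSp.RepWith @Surjective u₀) (g₀ : U₀ ⟶ V₀)
    (hg₀ : (AlgSp.yon S).map g₀ = u₀ ≫ snd₀) {f : X ⟶ Y} {pY : Y ⟶ Y₀} {pX : X ⟶ X₀}
    (hw : pX ≫ f₀ = f ≫ pY) {b : (AlgSp.yon S).obj W ⟶ Y} {ι : W ⟶ V₀}
    (hb : b ≫ pY = (AlgSp.yon S).map ι ≫ v₀) {pXo : Xo ⟶ U₀} {h : Xo ⟶ W}
    (sqo : IsPullback pXo h g₀ ι) (hf : AlgSp.IsSurjectiveMor f) : Surjective h.left := by
  constructor
  intro w
  obtain ⟨x, hx⟩ := hf (AlgSp.Points.ofPt b w)
  have e : AlgSp.Points.map f₀ (AlgSp.Points.map pX x) =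
      AlgSp.Points.map v₀ (AlgSp.Points.ofScheme V₀ (ι.left w)) := by
    rw [← AlgSp.Points.map_comp, hw, AlgSp.Points.map_comp, hx, AlgSp.Points.map_ofPt, hb,
      Groth.Agent.S10176.ofPt_map_comp, AlgSp.Points.ofPt_eq_map_ofScheme]
  obtain ⟨p, hp1, hp2⟩ := Groth.Agent.S10175.exists_point_of_isPullback sq₀ _ _ e
  obtain ⟨q, hq⟩ := Groth.Agent.S9906.surjective_map_of_repWith u₀ hu₀s p
  obtain ⟨u, rfl⟩ := (AlgSp.Points.schemeHomeo U₀).surjective q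
  have hu : g₀.left u = ι.left w := by
    apply (AlgSp.Points.schemeHomeo V₀).injective
    rw [← AlgSp.Points.map_yon_map_apply, hg₀, AlgSp.Points.map_comp, hq, hp2]
    rfl
  obtain ⟨z, hz1, hz2⟩ := exists_preimage_of_isPullback (sqo.map (Over.forget S)) u w hu
  exact ⟨z, hz2⟩

/-- a morphism with a surjective chart onto a surjective chart of the target is surjective. -/
theorem isSurjectiveMor_of_chart {X Y : AlgSp.Sp S} (f : X ⟶ Y) {U V : Over S}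
    (a : (AlgSp.yon S).obj U ⟶ X) (b : (AlgSp.yon S).obj V ⟶ Y) (h : U ⟶ V)
    (hbs : AlgSp.RepWith @Surjective b) (comm : a ≫ f = (AlgSp.yon S).map h ≫ b)
    (hh : Surjective h.left) : AlgSp.IsSurjectiveMor f := by
  intro y
  obtain ⟨q, rfl⟩ := Groth.Agent.S9906.surjective_map_of_repWith b hbs y
  obtain ⟨v, rfl⟩ := (AlgSp.Points.schemeHomeo V).surjective q
  obtain ⟨z, rfl⟩ := hh.surj v
  refine ⟨AlgSp.Points.ofPt a z, ?_⟩
  rw [AlgSp.Points.map_ofPt, comm, Groth.Agent.S10176.ofPt_map_comp,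
    AlgSp.Points.ofPt_eq_map_ofScheme]
  rfl
/-- descent of surjectivity through a limit of algebraic spaces with affine transition maps,
given descent of surjectivity for limits of affine schemes. -/
theorem descend_surj [QuasiSeparatedSpace S] (H1 : SchemeDescent (@Surjective.{u}))
    {I : Type u} [SmallCategory I] [IsCofiltered I]
    (D : I ⥤ AlgSp.Sp S) (hD : ∀ i, AlgSp.IsAlgSpace (D.obj i))
    (hDa : ∀ (i j : I) (φ : i ⟶ j), AlgSp.IsAffineMor (D.map φ))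
    (c : Cone D) (hc : IsLimit c) (i₀ : I)
    (X₀ Y₀ : AlgSp.Space S) (f₀ : X₀.obj ⟶ Y₀.obj) (b₀ : Y₀.obj ⟶ D.obj i₀)
    (hXqc : AlgSp.IsQuasiCompactSp X₀.obj) (hXqs : AlgSp.IsQuasiSeparatedSp X₀.obj)
    (hYqc : AlgSp.IsQuasiCompactSp Y₀.obj) (hYqs : AlgSp.IsQuasiSeparatedSp Y₀.obj)
    (X Y : AlgSp.Sp S) (f : X ⟶ Y) (pY : Y ⟶ Y₀.obj) (qY : Y ⟶ c.pt)
    (hY : IsPullback pY qY b₀ (c.π.app i₀)) (pX : X ⟶ X₀.obj) (hX : IsPullback pX f f₀ pY)
    (hf : AlgSp.IsSurjectiveMor f) (hf₀ : AlgSp.LocP @LocallyOfFinitePresentation f₀) :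
    ∃ (i : I) (φ : i ⟶ i₀), ∀ (Xi Yi : AlgSp.Sp S) (fi : Xi ⟶ Yi) (pYi : Yi ⟶ Y₀.obj)
      (qYi : Yi ⟶ D.obj i) (_ : IsPullback pYi qYi b₀ (D.map φ)) (pXi : Xi ⟶ X₀.obj)
      (_ : IsPullback pXi fi f₀ pYi), AlgSp.IsSurjectiveMor fi := by
  obtain ⟨V₀, U₀, v₀, X₀', fst₀, snd₀, u₀, hV₀, hU₀, hv₀e, hv₀s, sq₀, hX₀', hu₀e, hu₀s⟩ :=
    exists_affine_charts X₀ Y₀ f₀ hXqc hXqs hYqc hYqs
  -- the charts of `f₀`
  let g₀ : U₀ ⟶ V₀ := (AlgSp.yon S).preimage (u₀ ≫ snd₀)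
  let a₀ : (AlgSp.yon S).obj U₀ ⟶ X₀.obj := u₀ ≫ fst₀
  have hg₀ : (AlgSp.yon S).map g₀ = u₀ ≫ snd₀ := Functor.map_preimage _ _
  have comm₀ : a₀ ≫ f₀ = (AlgSp.yon S).map g₀ ≫ v₀ := by
    rw [hg₀, Category.assoc, Category.assoc, sq₀.w]
  have hfst₀e : AlgSp.RepWith @Etale fst₀ :=
    MorphismProperty.of_isPullback (P := AlgSp.RepWith @Etale) sq₀.flip hv₀e
  have hfst₀s : AlgSp.RepWith @Surjective fst₀ :=
    MorphismProperty.of_isPullback (P := AlgSp.RepWith @Surjective) sq₀.flip hv₀s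
  have ha₀e : AlgSp.RepWith @Etale a₀ := (AlgSp.RepWith @Etale).comp_mem _ _ hu₀e hfst₀e
  have ha₀s : AlgSp.RepWith @Surjective a₀ :=
    (AlgSp.RepWith @Surjective).comp_mem _ _ hu₀s hfst₀s
  have hlfp : LocallyOfFinitePresentation g₀.left := hf₀ a₀ v₀ g₀ ha₀e hv₀e comm₀
  -- the limit presentation of the base change of the chart of `Y₀`
  obtain ⟨E, ιj, pj, cW, fstW, sqj, haffj, ⟨hcW⟩, hWaff, sqW, hfst, hE1, hE2⟩ :=
    Groth.Agent.Lib.T2H1.LimAffine.exists_limit_data D hDa c hc i₀ hV₀ (v₀ ≫ b₀)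
  let j₀ : Over i₀ := Over.mk (𝟙 i₀)
  haveI hιiso : IsIso (ιj j₀) := by
    have h1 : IsIso (D.map j₀.hom) := by
      change IsIso (D.map (𝟙 i₀))
      rw [D.map_id]; infer_instance
    have h2 : IsIso ((AlgSp.yon S).map (ιj j₀)) := (sqj j₀).isIso_snd_of_isIso
    exact isIso_of_fully_faithful (AlgSp.yon S) _
  let ιW : cW.pt ⟶ V₀ := cW.π.app j₀ ≫ ιj j₀
  -- the chart of `f` at the limit
  have sqo := IsPullback.of_hasPullback g₀ ιW
  obtain ⟨a, b, hab, sqb, sqa, -⟩ := exists_charts_of_isPullback (c.π.app i₀) f₀ b₀ hY hX v₀ a₀ g₀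
    comm₀ ιW fstW sqW _ _ sqo
  have hae : AlgSp.RepWith @Etale a :=
    MorphismProperty.of_isPullback (P := AlgSp.RepWith @Etale) sqa.flip ha₀e
  have hbe : AlgSp.RepWith @Etale b :=
    MorphismProperty.of_isPullback (P := AlgSp.RepWith @Etale) sqb.flip hv₀e
  have hPlim : Surjective (pullback.snd g₀ ιW).left :=
    surjective_chart sq₀ u₀ hu₀s g₀ hg₀ hX.w sqb.w sqo hf
  -- the scheme level pullback square at the limit
  have sqo' : IsPullback (pullback.fst g₀ ιW) (pullback.snd g₀ ιW) (g₀ ≫ inv (ιj j₀))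
      (cW.π.app j₀) := by
    have := isPullback_comp_iso sqo (inv (ιj j₀))
    simpa [ιW] using this
  have sqs : IsPullback (pullback.fst g₀ ιW).left (pullback.snd g₀ ιW).left
      (g₀ ≫ inv (ιj j₀)).left (cW.π.app j₀).left := sqo'.map (Over.forget S)
  have hlfp' : LocallyOfFinitePresentation (g₀ ≫ inv (ιj j₀)).left := by
    rw [Over.comp_left]
    haveI : IsIso (inv (ιj j₀)).left := inferInstanceAs (IsIso ((Over.forget S).map (inv (ιj j₀))))
    infer_instance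
  obtain ⟨j, ψ, Xj, fj0, pXs, sqXj0, hPj0⟩ := H1 (E ⋙ Over.forget S)
    ((Over.forget S).mapCone cW) hcW
    (fun j => haffj j) j₀ (g₀ ≫ inv (ιj j₀)).left hU₀ hlfp' (pullback.snd g₀ ιW).left
    (pullback.fst g₀ ιW).left sqs hPlim
  let fj : Xj ⟶ (E.obj j).left := fj0
  have sqXj : IsPullback pXs fj (g₀ ≫ inv (ιj j₀)).left (E.map ψ).left := sqXj0
  have hPj : Surjective fj := hPj0
  refine ⟨j.left, j.hom, ?_⟩
  intro Xi Yi fi pYi qYi hYi pXi hXi
  -- the finite stage pullback square in `Over S`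
  have hw0 : pXs ≫ (g₀ ≫ inv (ιj j₀)).left = fj ≫ (E.map ψ).left := sqXj.w
  have hwS : pXs ≫ U₀.hom = fj ≫ (E.obj j).hom := by
    have h1 : (g₀ ≫ inv (ιj j₀)).left ≫ (E.obj j₀).hom = U₀.hom := Over.w _
    have h2 : (E.map ψ).left ≫ (E.obj j₀).hom = (E.obj j).hom := Over.w _
    rw [← h1, ← h2, reassoc_of% hw0]
  let Xjo : Over S := Over.mk (fj ≫ (E.obj j).hom)
  let hj : Xjo ⟶ E.obj j := Over.homMk fj rfl
  let pXjo : Xjo ⟶ U₀ := Over.homMk pXs hwS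
  have sqj1 : IsPullback pXjo hj (g₀ ≫ inv (ιj j₀)) (E.map ψ) :=
    isPullback_over_of_left (by ext1; exact hw0) sqXj
  have sqj2 : IsPullback pXjo hj g₀ (ιj j) := by
    have := isPullback_comp_iso sqj1 (ιj j₀)
    simpa [hE1 ψ] using this
  obtain ⟨ai, bi, habi, sqbi, sqai, -⟩ := exists_charts_of_isPullback (D.map j.hom) f₀ b₀ hYi hXi
    v₀ a₀ g₀ comm₀ (ιj j) (pj j) (sqj j) pXjo hj sqj2
  have haie : AlgSp.RepWith @Etale ai :=
    MorphismProperty.of_isPullback (P := AlgSp.RepWith @Etale) sqai.flip ha₀e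
  have hais : AlgSp.RepWith @Surjective ai :=
    MorphismProperty.of_isPullback (P := AlgSp.RepWith @Surjective) sqai.flip ha₀s
  have hbie : AlgSp.RepWith @Etale bi :=
    MorphismProperty.of_isPullback (P := AlgSp.RepWith @Etale) sqbi.flip hv₀e
  have hbis : AlgSp.RepWith @Surjective bi :=
    MorphismProperty.of_isPullback (P := AlgSp.RepWith @Surjective) sqbi.flip hv₀s
  exact isSurjectiveMor_of_chart fi ai bi hj hbis habi hPj

/-- surjectivity descends through limits of affine schemes. -/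
theorem schemeDescent_surjective : SchemeDescent (@Surjective.{u}) := by
  intro J _ _ Ds cs hcs haff j₀ X₀ f₀ hX₀ hlfp X f qX hX hf
  haveI := haff
  haveI := hX₀
  haveI := hlfp
  haveI : Surjective f := hf
  haveI : ∀ (i j : J) (f : i ⟶ j), IsAffineHom (Ds.map f) := fun i j f => inferInstance
  have hY : IsPullback (cs.π.app j₀) (𝟙 cs.pt) (𝟙 (Ds.obj j₀)) (cs.π.app j₀) :=
    IsPullback.id_vert (cs.π.app j₀)
  haveI : LocallyOfFinitePresentation (f₀ ≫ 𝟙 (Ds.obj j₀)) := by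
    rw [Category.comp_id]; infer_instance
  haveI : QuasiCompact (f₀ ≫ 𝟙 (Ds.obj j₀)) := by
    rw [Category.comp_id]; infer_instance
  haveI : QuasiSeparated (f₀ ≫ 𝟙 (Ds.obj j₀)) := by
    rw [Category.comp_id]; infer_instance
  obtain ⟨j, ψ, Xj, Yj, fj, gj, pY, pX, sqY, sqX, hPj⟩ :=
    Groth.Agent.S2581.result Ds cs hcs j₀ f₀ (𝟙 _) f (𝟙 _) (cs.π.app j₀) qX hY hX
  haveI : IsIso gj := sqY.isIso_snd_of_isIso
  refine ⟨j, ψ, Xj, fj ≫ gj, pX, ?_,
    (MorphismProperty.cancel_right_of_respectsIso @Surjective fj gj).2 hPj⟩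
  have := sqX.paste_vert sqY
  rwa [Category.comp_id] at this

end Groth.Agent.Lib.T2H7.LimDescD
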