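import Mathlib
import Groth.Agent.Lib.T2H7SelfProd
import Groth.Agent.Lib.T2H7AffQcqs
import Groth.Agent.Lib.T2H7EvIsoB
import Groth.Agent.S10021
import Groth.Agent.S9960
import Groth.Agent.S9928
import Groth.Agent.S9921
import Groth.Agent.S9874

/-!
# A limit along closed immersions of spaces locally of finite type over a base, whose limit is a
monomorphism to the base, eventually consists of monomorphisms to the base (helper7)
-/

set_option autoImplicit false
set_option linter.unusedSectionVars false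
set_option linter.unusedVariables false
set_option linter.style.haveILetI false
universe u
open CategoryTheory CategoryTheory.Limits AlgebraicGeometry
open AlgSp

namespace Groth.Agent.Lib.T2H7.EvMonoBase

open Groth.Agent.Lib.T2H7.SelfProd

variable {S : Scheme.{u}}

/-- affine morphisms compose. -/
theorem isAffineMor_comp {F G H : AlgSp.Sp S} (f : F ⟶ G) (g : G ⟶ H)
    (hf : AlgSp.IsAffineMor f) (hg : AlgSp.IsAffineMor g) : AlgSp.IsAffineMor (f ≫ g) := by
  intro Z hZ h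
  obtain ⟨W₁, i₁, fst₁, sq₁, hW₁⟩ := hg hZ h
  obtain ⟨W₂, i₂, fst₂, sq₂, hW₂⟩ := hf hW₁ fst₁
  refine ⟨W₂, i₂ ≫ i₁, fst₂, ?_, hW₂⟩
  rw [Functor.map_comp]
  exact sq₂.paste_vert sq₁

/-- the projections of a cofiltered limit along monomorphisms are monomorphisms. -/
theorem mono_π {C : Type*} [Category C] {I : Type*} [Category I] [IsCofiltered I] (D : I ⥤ C)
    (hm : ∀ {i j : I} (φ : i ⟶ j), Mono (D.map φ)) (c : Cone D) (hc : IsLimit c) (i₀ : I) :
    Mono (c.π.app i₀) := by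
  refine ⟨fun {T} a b hab => hc.hom_ext fun j => ?_⟩
  have h1 : a ≫ c.π.app (IsCofiltered.min j i₀) = b ≫ c.π.app (IsCofiltered.min j i₀) := by
    haveI := hm (IsCofiltered.minToRight j i₀)
    rw [← cancel_mono (D.map (IsCofiltered.minToRight j i₀)), Category.assoc, Category.assoc,
      c.w]
    exact hab
  rw [← c.w (IsCofiltered.minToLeft j i₀), ← Category.assoc, ← Category.assoc, h1]

section

variable {I : Type u} [SmallCategory I] [IsCofiltered I] (D : I ⥤ AlgSp.Sp S)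
  (hD : ∀ i, AlgSp.IsAlgSpace (D.obj i))
  (hDc : ∀ (i j : I) (φ : i ⟶ j), AlgSp.RepWith @IsClosedImmersion (D.map φ))
  (c : Cone D) (hc : IsLimit c)

include hD hDc hc in
theorem eventually_mono_base [QuasiSeparatedSpace S] (Y : AlgSp.Space S)
    (t : D ⟶ (Functor.const I).obj Y.obj) (g : c.pt ⟶ Y.obj)
    (hg : ∀ i, c.π.app i ≫ t.app i = g)
    (hqc : ∀ i, AlgSp.IsQuasiCompactSp (D.obj i)) (hqs : ∀ i, AlgSp.IsQuasiSeparatedSp (D.obj i))
    (hYqc : AlgSp.IsQuasiCompactSp Y.obj) (hYqs : AlgSp.IsQuasiSeparatedSp Y.obj)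
    (hft : ∀ i, AlgSp.LocP @LocallyOfFiniteType (t.app i)) [Mono g] :
    ∃ i₀ : I, ∀ (i : I) (_ : i ⟶ i₀), Mono (t.app i) := by
  have hDa : ∀ (i j : I) (φ : i ⟶ j), AlgSp.IsAffineMor (D.map φ) := fun i j φ =>
    Groth.Agent.Lib.T2H7.EvIsoB.isAffineMor_of_closedImmersion _ (hDc i j φ)
  have hDm : ∀ {i j : I} (φ : i ⟶ j), Mono (D.map φ) := fun {i j} φ =>
    Groth.Agent.S9928.result (X := ⟨D.obj i, hD i⟩) (Y := ⟨D.obj j, hD j⟩)
      (ObjectProperty.homMk (D.map φ))
      ⟨(hDc i j φ).1, fun _ _ g fst snd sq => by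
        have h1 : IsClosedImmersion snd.left := (hDc i j φ).2 g fst snd sq
        exact (inferInstance : IsImmersion snd.left)⟩
  have hZalg : ∀ i, AlgSp.IsAlgSpace ((Zs D t).obj i) := fun i =>
    Groth.Agent.S9874.isAlgSpace_of_isPullback Y.property.diag (hD i) (hD i)
      (IsPullback.of_hasPullback (t.app i) (t.app i))
  have hZa : ∀ (i j : I) (φ : i ⟶ j), AlgSp.IsAffineMor ((Zs D t).map φ) := by
    intro i j φ
    have h2 : t.app i ≫ 𝟙 Y.obj = 𝟙 (D.obj i) ≫ t.app i := by simp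
    have h3 : t.app j ≫ 𝟙 Y.obj = 𝟙 (D.obj j) ≫ t.app j := by simp
    change AlgSp.IsAffineMor (pullback.map (t.app i) (t.app i) (t.app j) (t.app j) (D.map φ)
      (D.map φ) (𝟙 Y.obj) (t_nat D t φ) (t_nat D t φ))
    rw [map_eq_comp (D.map φ) (t.app i) (t.app j) (t_nat D t φ) h2 h3]
    refine isAffineMor_comp _ _ ?_ ?_
    · exact Groth.Agent.Lib.T2H7.AffQcqs.isAffineMor_of_isPullback
        (isPullback_map_left (D.map φ) (t.app i) (t.app j) (t.app i) (t_nat D t φ) h2)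
        (hDa i j φ)
    · exact Groth.Agent.Lib.T2H7.AffQcqs.isAffineMor_of_isPullback
        (isPullback_map_right (D.map φ) (t.app i) (t.app j) (t.app j) h3 (t_nat D t φ))
        (hDa i j φ)
  obtain ⟨i₀⟩ := IsCofiltered.nonempty (C := I)
  haveI : Nonempty I := ⟨i₀⟩
  let X₀ : AlgSp.Space S := ⟨D.obj i₀, hD i₀⟩
  let Z₀ : AlgSp.Space S := ⟨(Zs D t).obj i₀, hZalg i₀⟩
  have hZ₀ := Groth.Agent.S9921.result (X := X₀) (Y := Y) (Z := X₀) (P := Z₀)
    (ObjectProperty.homMk (t.app i₀)) (ObjectProperty.homMk (t.app i₀))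
    (ObjectProperty.homMk (pullback.fst (t.app i₀) (t.app i₀)))
    (ObjectProperty.homMk (pullback.snd (t.app i₀) (t.app i₀)))
    (IsPullback.of_hasPullback (t.app i₀) (t.app i₀))
    ⟨hqc i₀, hqs i₀⟩ ⟨hYqc, hYqs⟩ ⟨hqc i₀, hqs i₀⟩
  have hΔ₀ : AlgSp.LocP @LocallyOfFinitePresentation (pullback.diagonal (t.app i₀)) :=
    (Groth.Agent.S9960.result (X := X₀) (Y := Y) (ObjectProperty.homMk (t.app i₀)) (hft i₀)).1
  haveI : Mono (c.π.app i₀) := mono_π D (fun φ => hDm φ) c hc i₀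
  haveI : IsIso (pullback.diagonal g) := (pullback.isIso_diagonal_iff g).2 inferInstance
  have hX : IsPullback (c.π.app i₀) (pullback.diagonal g) (pullback.diagonal (t.app i₀))
      ((Zc D t c g hg).π.app i₀) :=
    isPullback_diagonal_of_mono (c.π.app i₀) (t.app i₀) g (hg i₀) (g_nat D t c g hg i₀)
  obtain ⟨i, φ, H⟩ := Groth.Agent.S10021.result S (Zs D t) hZalg hZa (Zc D t c g hg)
    (isLimitZc D t c g hg hc) i₀ hZ₀.1 hZ₀.2 X₀ Z₀ (pullback.diagonal (t.app i₀))
    (𝟙 _) (hqc i₀) (hqs i₀) hZ₀.1 hZ₀.2 c.pt (pullback g g) (pullback.diagonal g)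
    ((Zc D t c g hg).π.app i₀) (𝟙 _) (IsPullback.id_vert _) (c.π.app i₀) hX hΔ₀
  have hmono_i : Mono (t.app i) := by
    haveI := hDm φ
    have hXi : IsPullback (D.map φ) (pullback.diagonal (t.app i)) (pullback.diagonal (t.app i₀))
        ((Zs D t).map φ) :=
      isPullback_diagonal_of_mono (D.map φ) (t.app i₀) (t.app i)
        ((t_nat D t φ).symm.trans (Category.comp_id _)) (t_nat D t φ)
    have := H (D.obj i) ((Zs D t).obj i) (pullback.diagonal (t.app i)) ((Zs D t).map φ) (𝟙 _)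
      (IsPullback.id_vert _) (D.map φ) hXi
    exact (pullback.isIso_diagonal_iff (t.app i)).1 this
  refine ⟨i, fun i' ψ => ?_⟩
  have e : t.app i' = D.map ψ ≫ t.app i := (Category.comp_id _).symm.trans (t_nat D t ψ)
  rw [e]
  haveI := hDm ψ
  exact mono_comp _ _

end

end Groth.Agent.Lib.T2H7.EvMonoBase
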