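import Mathlib
import Groth.Agent.Lib.T2H1LimAffine2
import Groth.Agent.S2151

/-!
# Cofiltered limits with representable affine transition maps: the limit presentation of the
base change along a map from an arbitrary scheme (helper7, after helper1's `exists_limit_data`)
-/

set_option autoImplicit false
set_option linter.unusedSectionVars false
set_option linter.unusedVariables false
set_option linter.style.haveILetI false
universe u
open CategoryTheory CategoryTheory.Limits AlgebraicGeometry
open AlgSp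

namespace Groth.Agent.Lib.T2H7.LimDataRep

open Groth.Agent.S13210

variable {S : Scheme.{u}}

section

variable {I : Type u} [SmallCategory I] [IsCofiltered I] (D : I ⥤ AlgSp.Sp S)
  (hDr : ∀ (i j : I) (φ : i ⟶ j), AlgSp.RepWith @IsAffineHom (D.map φ))
  (c : Cone D) (hc : IsLimit c)

include hDr hc in
/-- the base change of the limit along a point `x : h_Z ⟶ D i` is the limit (in schemes) of the
schemes `Z ×_{D i} D j`, `j ⟶ i`, which are affine over `Z`. -/
theorem exists_limit_data_rep (i : I) {Z : Over S}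
    (x : (AlgSp.yon S).obj Z ⟶ D.obj i) :
    ∃ (E : Over i ⥤ Over S) (ιj : ∀ j, E.obj j ⟶ Z)
      (pj : ∀ j : Over i, (AlgSp.yon S).obj (E.obj j) ⟶ D.obj j.left)
      (cW : Cone E) (fstW : (AlgSp.yon S).obj cW.pt ⟶ c.pt),
      (∀ j, IsPullback (pj j) ((AlgSp.yon S).map (ιj j)) (D.map j.hom) x) ∧
      (∀ j, IsAffineHom (ιj j).left) ∧
      Nonempty (IsLimit ((Over.forget S).mapCone cW)) ∧
      IsPullback fstW ((AlgSp.yon S).map (cW.π.app (Over.mk (𝟙 i)) ≫ ιj (Over.mk (𝟙 i))))
        (c.π.app i) x ∧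
      (∀ j : Over i, fstW ≫ c.π.app j.left = (AlgSp.yon S).map (cW.π.app j) ≫ pj j) ∧
      (∀ {j k : Over i} (ψ : j ⟶ k), E.map ψ ≫ ιj k = ιj j) ∧
      (∀ {j k : Over i} (ψ : j ⟶ k),
        (AlgSp.yon S).map (E.map ψ) ≫ pj k = pj j ≫ D.map ψ.left) := by
  -- the limit over `Over i`
  let c' : Cone (Over.forget i ⋙ D) := c.whisker (Over.forget i)
  have hc' : IsLimit c' := (Functor.Initial.isLimitWhiskerEquiv (Over.forget i) c).symm hc
  have hc'π : ∀ j : Over i, c'.π.app j = c.π.app j.left := fun j => rfl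
  choose Wj ιj pj sqj using fun j : Over i => (hDr j.left i j.hom).1 x
  have haff : ∀ j : Over i, IsAffineHom (ιj j).left := fun j => (hDr j.left i j.hom).2 _ _ _ (sqj j)
  -- uniqueness principle
  have huniq : ∀ (k : Over i) {T' : Over S} (a a' : T' ⟶ Wj k),
      (AlgSp.yon S).map a ≫ pj k = (AlgSp.yon S).map a' ≫ pj k → a ≫ ιj k = a' ≫ ιj k →
      a = a' := by
    intro k T' a a' h1 h2
    apply (AlgSp.yon S).map_injective
    apply (sqj k).hom_ext h1
    rw [← Functor.map_comp, ← Functor.map_comp, h2]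
  -- existence
  have hex : ∀ (k : Over i) {T' : Over S} (b : (AlgSp.yon S).obj T' ⟶ D.obj k.left)
      (z : T' ⟶ Z), b ≫ D.map k.hom = (AlgSp.yon S).map z ≫ x →
      ∃ a : T' ⟶ Wj k, (AlgSp.yon S).map a ≫ pj k = b ∧ a ≫ ιj k = z := by
    intro k T' b z h
    refine ⟨(AlgSp.yon S).preimage ((sqj k).lift b ((AlgSp.yon S).map z) h), ?_, ?_⟩
    · rw [Functor.map_preimage, IsPullback.lift_fst]
    · apply (AlgSp.yon S).map_injective
      rw [Functor.map_comp, Functor.map_preimage, IsPullback.lift_snd]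
  -- transition maps
  have hwex : ∀ {j k : Over i} (ψ : j ⟶ k), ∃ a : Wj j ⟶ Wj k,
      (AlgSp.yon S).map a ≫ pj k = pj j ≫ D.map ψ.left ∧ a ≫ ιj k = ιj j := by
    intro j k ψ
    apply hex k
    rw [Category.assoc, ← D.map_comp, Over.w ψ, (sqj j).w]
  choose w hw1 hw2 using @hwex
  let E : Over i ⥤ Over S :=
    { obj := Wj
      map := fun ψ => w ψ
      map_id := fun j => huniq j _ _
        (by rw [hw1, Over.id_left, D.map_id, Category.comp_id, CategoryTheory.Functor.map_id,
              Category.id_comp])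
        (by rw [hw2, Category.id_comp])
      map_comp := fun {j k l} ψ χ => huniq l _ _
        (by rw [hw1, Functor.map_comp, Category.assoc, hw1, ← Category.assoc, hw1, Category.assoc,
              Over.comp_left, D.map_comp])
        (by rw [hw2, Category.assoc, hw2, hw2]) }
  have hsqw : ∀ {j k : Over i} (ψ : j ⟶ k),
      IsPullback (pj j) ((AlgSp.yon S).map (w ψ)) (D.map ψ.left) (pj k) := by
    intro j k ψ
    refine IsPullback.of_bot ?_ (hw1 ψ).symm (sqj k)
    rw [← Functor.map_comp, hw2, ← D.map_comp, Over.w ψ]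
    exact sqj j
  haveI : ∀ (j k : Over i) (f : j ⟶ k), IsAffineHom ((E ⋙ Over.forget S).map f) := fun j k f =>
    (hDr j.left k.left f.left).2 _ _ _ (hsqw f)
  obtain ⟨cF, hF, -⟩ := Groth.Agent.S2151.result (E ⋙ Over.forget S)
  -- the terminal index
  let j0 : Over i := Over.mk (𝟙 i)
  let tj : ∀ j : Over i, j ⟶ j0 := fun j => Over.homMk j.hom
  let qF : ∀ j : Over i, cF.pt ⟶ (Wj j).left := fun j => cF.π.app j
  have hqF : ∀ {j k : Over i} (ψ : j ⟶ k), qF j ≫ (w ψ).left = qF k := fun ψ => cF.w ψ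
  have hcFw : ∀ j : Over i, qF j ≫ (Wj j).hom = qF j0 ≫ (Wj j0).hom := by
    intro j
    rw [← hqF (tj j), Category.assoc, Over.w (w (tj j))]
  let W : Over S := Over.mk (qF j0 ≫ (Wj j0).hom)
  let q : ∀ j : Over i, W ⟶ Wj j := fun j => Over.homMk (qF j) (hcFw j)
  have hqw : ∀ {j k : Over i} (ψ : j ⟶ k), q j ≫ w ψ = q k := by
    intro j k ψ
    ext1
    exact hqF ψ
  let ιW : W ⟶ Z := q j0 ≫ ιj j0
  have hqι : ∀ j : Over i, q j ≫ ιj j = ιW := fun j => by
    change q j ≫ ιj j = q j0 ≫ ιj j0
    rw [← hqw (tj j), Category.assoc, hw2]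
  -- the map to the limit
  have hnatW : ∀ {j k : Over i} (ψ : j ⟶ k), (AlgSp.yon S).map (q k) ≫ pj k =
      ((AlgSp.yon S).map (q j) ≫ pj j) ≫ D.map ψ.left := by
    intro j k ψ
    rw [Category.assoc, ← hw1 ψ, ← Category.assoc, ← Functor.map_comp, hqw]
  let coneW : Cone (Over.forget i ⋙ D) :=
    { pt := (AlgSp.yon S).obj W
      π := { app := fun j => (AlgSp.yon S).map (q j) ≫ pj j
             naturality := fun j k ψ => (Category.id_comp _).trans (hnatW ψ) } }
  let fstW : (AlgSp.yon S).obj W ⟶ c.pt := hc'.lift coneW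
  have hfstW : ∀ j : Over i, fstW ≫ c.π.app j.left = (AlgSp.yon S).map (q j) ≫ pj j :=
    fun j => hc'.fac coneW j
  have hw0 : fstW ≫ c.π.app i = (AlgSp.yon S).map ιW ≫ x := by
    have h1 := hfstW j0
    have h2 := (sqj j0).w
    have h3 : D.map j0.hom = 𝟙 _ := D.map_id i
    rw [h3, Category.comp_id] at h2
    change fstW ≫ c.π.app i = _ at h1
    rw [h1, h2, ← Category.assoc, ← Functor.map_comp]
  let cW : Cone E :=
    { pt := W
      π := { app := q
             naturality := fun j k ψ => (Category.id_comp _).trans (hqw ψ).symm } }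
  have hcW : IsLimit ((Over.forget S).mapCone cW) :=
    IsLimit.ofIsoLimit hF (Cones.ext (Iso.refl _) (fun j => by
      simp only [Iso.refl_hom, Category.id_comp]
      rfl))
  refine ⟨E, ιj, pj, cW, fstW, sqj, haff, ⟨hcW⟩, ?_, hfstW, fun ψ => hw2 ψ,
    fun ψ => hw1 ψ⟩
  refine isPullback_of_yon hw0 (fun T' b z hbz => ?_)
  obtain ⟨z0, rfl⟩ := (AlgSp.yon S).map_surjective z
  change (AlgSp.yon S).obj T' ⟶ c.pt at b
  have hbj : ∀ j : Over i, (b ≫ c.π.app j.left) ≫ D.map j.hom = (AlgSp.yon S).map z0 ≫ x := by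
    intro j
    rw [Category.assoc, c.w, hbz]
  choose a ha1 ha2 using fun j : Over i => hex j (b ≫ c.π.app j.left) z0 (hbj j)
  have hcompat : ∀ {j k : Over i} (ψ : j ⟶ k), a j ≫ w ψ = a k := by
    intro j k ψ
    apply huniq k
    · rw [Functor.map_comp, Category.assoc, hw1, ← Category.assoc, ha1, ha1, Category.assoc, c.w]
    · rw [Category.assoc, hw2, ha2, ha2]
  let coneT : Cone (E ⋙ Over.forget S) :=
    { pt := T'.left
      π := { app := fun j => (a j).left
             naturality := fun j k ψ => by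
               simp only [Functor.const_obj_obj, Functor.const_obj_map, Category.id_comp,
                 Functor.comp_map, Over.forget_map]
               rw [← hcompat ψ]
               rfl } }
  let aW : T' ⟶ W := Over.homMk (hF.lift coneT) (by
    change hF.lift coneT ≫ qF j0 ≫ (Wj j0).hom = T'.hom
    have h1 : hF.lift coneT ≫ qF j0 = (a j0).left := hF.fac coneT j0
    rw [← Category.assoc, h1]
    exact Over.w (a j0))
  have haWq : ∀ j : Over i, aW ≫ q j = a j := fun j => by
    ext1
    exact hF.fac coneT j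
  refine ⟨(AlgSp.yon S).map aW, ⟨?_, ?_⟩, ?_⟩
  · apply hc'.hom_ext
    intro j
    have key : (AlgSp.yon S).map aW ≫ fstW ≫ c.π.app j.left = b ≫ c.π.app j.left := by
      rw [hfstW, ← Category.assoc, ← Functor.map_comp, haWq, ha1]
    exact (Category.assoc _ _ _).trans key
  · rw [← Functor.map_comp]
    congr 1
    change aW ≫ q j0 ≫ ιj j0 = z0
    rw [← Category.assoc, haWq, ha2]
  · rintro a' ⟨ha'1, ha'2⟩
    obtain ⟨a1, rfl⟩ := (AlgSp.yon S).map_surjective a'
    rw [← Functor.map_comp] at ha'2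
    have ha'3 : a1 ≫ ιW = z0 := (AlgSp.yon S).map_injective ha'2
    have hq' : ∀ j : Over i, a1 ≫ q j = a j := by
      intro j
      apply huniq j
      · rw [Functor.map_comp, Category.assoc, ← hfstW, ← Category.assoc, ha'1, ha1]
      · rw [Category.assoc, hqι, ha'3, ha2]
    congr 1
    ext1
    apply hF.hom_ext
    intro j
    have h1 := congrArg (fun m => m.left) (hq' j)
    have h2 := congrArg (fun m => m.left) (haWq j)
    simp only [Over.comp_left] at h1 h2
    exact h1.trans h2.symm


end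

end Groth.Agent.Lib.T2H7.LimDataRep
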