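import Mathlib
import Groth.Agent.Lib.T2H7EvClosed
import Groth.Agent.Lib.Helper12OpenSub2
import Groth.Agent.Lib.Helper15QcRep
import Groth.Agent.Lib.T2H1FieldQuotD
import Groth.Agent.S9920
import Groth.Agent.S10174
import Groth.Agent.S10175
import Groth.Agent.S10176
import Groth.Agent.S10177
import Groth.Agent.S9876

/-!
# Quasi-compact open subspaces of a limit with affine transition maps descend to a stage
(helper7)
-/

set_option autoImplicit false
set_option linter.unusedSectionVars false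
set_option linter.unusedVariables false
set_option linter.style.haveILetI false
universe u
open CategoryTheory CategoryTheory.Limits AlgebraicGeometry
open AlgSp

namespace Groth.Agent.Lib.T2H7.QcOpen

open Groth.Agent.Lib.T2H7.EvClosed

variable {S : Scheme.{u}}

/-- a scheme whose sheaf is quasi-compact is quasi-compact. -/
theorem compactSpace_of_isQuasiCompactSp_yon (T : Over S)
    (h : AlgSp.IsQuasiCompactSp ((AlgSp.yon S).obj T)) : CompactSpace T.left := by
  haveI : CompactSpace (AlgSp.Points ((AlgSp.yon S).obj T)) :=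
    (Groth.Agent.S10174.result (⟨(AlgSp.yon S).obj T, AlgSp.IsAlgSpace.yon_obj T⟩ :
      AlgSp.Space S)).1 h
  exact (AlgSp.Points.schemeHomeo T).symm.compactSpace

/-- the range of a morphism of schemes in terms of points of the sheaves. -/
theorem mem_range_left_iff {T T' : Over S} (k : T ⟶ T') (w : T'.left) :
    w ∈ Set.range k.left ↔
      AlgSp.Points.schemeHomeo T' w ∈ Set.range (AlgSp.Points.map ((AlgSp.yon S).map k)) := by
  constructor
  · rintro ⟨t, rfl⟩
    exact ⟨AlgSp.Points.schemeHomeo T t, AlgSp.Points.map_yon_map_apply k t⟩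
  · rintro ⟨p, hp⟩
    obtain ⟨t, rfl⟩ := (AlgSp.Points.schemeHomeo T).surjective p
    rw [AlgSp.Points.map_yon_map_apply] at hp
    exact ⟨t, (AlgSp.Points.schemeHomeo T').injective hp⟩

/-- an open subspace with quasi-compact set of points is quasi-compact. -/
theorem isQuasiCompactSp_openSub {X : AlgSp.Sp S} (hX : AlgSp.IsAlgSpace X)
    {O : Set (AlgSp.Points X)} (hO : IsOpen O) (hOc : IsCompact O) :
    AlgSp.IsQuasiCompactSp (Groth.Agent.Lib.Helper12.OpenSub.obj X O) := by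
  have halg := Groth.Agent.Lib.Helper12.OpenSub.isAlgSpace_obj hX hO
  refine (Groth.Agent.S10174.result (⟨_, halg⟩ : AlgSp.Space S)).2 ?_
  have hincl := Groth.Agent.Lib.Helper12.OpenSub.repWith_incl (X := X) hO
  have hemb : Topology.IsOpenEmbedding
      (AlgSp.Points.map (Groth.Agent.Lib.Helper12.OpenSub.incl X O)) :=
    Topology.IsOpenEmbedding.of_continuous_injective_isOpenMap
      (AlgSp.Points.continuous_map _)
      (Groth.Agent.Lib.Helper12.LargestOpen.injective_map_of_open _ hincl)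
      (Groth.Agent.Lib.Helper12.OpenSub.isOpenMap_map_of_open _ hincl)
  rw [← isCompact_univ_iff, hemb.isEmbedding.isCompact_iff, Set.image_univ,
    Groth.Agent.Lib.Helper12.OpenSub.range_map_incl]
  exact hOc

/-- the source of a representable morphism to an algebraic space is an algebraic space. -/
theorem isAlgSpace_of_representable {V X : AlgSp.Sp S} (hX : AlgSp.IsAlgSpace X)
    (v : V ⟶ X) (hv : AlgSp.Representable v) : AlgSp.IsAlgSpace V := by
  rw [← AlgSp.isAlgSpaceP_obj_iff]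
  refine Groth.Agent.S9876.result S ⟨X, hX⟩ V.obj v.hom ?_
  intro U ξ
  obtain ⟨b, snd, fst, sq⟩ := hv (ObjectProperty.homMk ξ : (AlgSp.yon S).obj U ⟶ X)
  exact ⟨b, snd, fst.hom, sq.map (sheafToPresheaf _ _)⟩

section

variable {I : Type u} [SmallCategory I] [IsCofiltered I] {D : I ⥤ AlgSp.Sp S} {c : Cone D}
  {i₁ : I} (cd : ChartData D c i₁)

/-- first step: a quasi-compact open subspace of the limit is cut out, on the limit chart, by a
quasi-compact open of a chart of some stage. -/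
theorem exists_open_stage [QuasiSeparatedSpace S] (hD₁ : AlgSp.IsAlgSpace (D.obj i₁))
    (hqs₁ : AlgSp.IsQuasiSeparatedSp (D.obj i₁)) {U : AlgSp.Sp S} (hUalg : AlgSp.IsAlgSpace U)
    (j : U ⟶ c.pt) (hj : AlgSp.RepWith @IsOpenImmersion j) (hU : AlgSp.IsQuasiCompactSp U) :
    ∃ (j' : Over i₁) (V : (cd.E.obj j').left.Opens), IsCompact (V : Set (cd.E.obj j').left) ∧
      ∀ w : cd.cW.pt.left, (cd.cW.π.app j').left w ∈ V ↔
        AlgSp.Points.ofPt cd.fstW w ∈ Set.range (AlgSp.Points.map j) := by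
  obtain ⟨UW, k, yU, sqY⟩ := hj.1 cd.fstW
  have hk : IsOpenImmersion k.left := hj.2 _ _ k sqY
  -- points of the pulled back open
  have hrange : ∀ w : cd.cW.pt.left, w ∈ Set.range k.left ↔
      AlgSp.Points.ofPt cd.fstW w ∈ Set.range (AlgSp.Points.map j) := by
    intro w
    rw [mem_range_left_iff, Groth.Agent.Lib.Helper12.OpenSub.range_map_fst_of_isPullback sqY.flip,
      Set.mem_preimage, AlgSp.Points.ofPt_eq_map_ofScheme]
    rfl
  -- quasi-compactness of the pulled back open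
  have hqcm := Groth.Agent.S9920.result (X := ⟨U, hUalg⟩) (Y := ⟨D.obj i₁, hD₁⟩)
    (ObjectProperty.homMk (j ≫ c.π.app i₁)) hU hqs₁
  have hUWqc : AlgSp.IsQuasiCompactSp ((AlgSp.yon S).obj UW) :=
    hqcm (AlgSp.IsAlgSpace.yon_obj cd.U₁)
      (Groth.Agent.Lib.Helper15QcRep.isQuasiCompactSp_yon cd.U₁ cd.hU₁) cd.u₁ yU _
      (sqY.paste_vert cd.sqW)
  haveI : CompactSpace UW.left := compactSpace_of_isQuasiCompactSp_yon UW hUWqc
  haveI := hk
  let UWo : cd.cW.pt.left.Opens := k.left.opensRange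
  have hUWo : IsCompact (UWo : Set cd.cW.pt.left) := isCompact_range k.left.continuous
  haveI : ∀ j, IsAffine ((cd.E ⋙ Over.forget S).obj j) := fun j => cd.haffj j
  haveI : ∀ {a b : Over i₁} (f : a ⟶ b), IsAffineHom ((cd.E ⋙ Over.forget S).map f) :=
    fun f => inferInstance
  obtain ⟨j', V, hV, hVU⟩ := exists_preimage_eq (cd.E ⋙ Over.forget S)
    ((Over.forget S).mapCone cd.cW) cd.hcW UWo hUWo
  refine ⟨j', V, hV, fun w => ?_⟩
  rw [← hrange w]
  have h1 : (w ∈ (((Over.forget S).mapCone cd.cW).π.app j' ⁻¹ᵁ V)) = (w ∈ UWo) :=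
    congrArg (fun O : cd.cW.pt.left.Opens => w ∈ O) hVU
  exact h1.to_iff

/-- second step: a quasi-compact open of the atlas which cuts out, on the limit chart, an open
subspace of the limit, becomes saturated at some stage. -/
theorem exists_open_of_atlas_open [QuasiSeparatedSpace S]
    (hDa : ∀ (i j : I) (φ : i ⟶ j), AlgSp.IsAffineMor (D.map φ)) (hc : IsLimit c)
    (hqs₁ : AlgSp.IsQuasiSeparatedSp (D.obj i₁)) {U : AlgSp.Sp S} (j : U ⟶ c.pt)
    (V : cd.U₁.left.Opens) (hV : IsCompact (V : Set cd.U₁.left))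
    (hstar : ∀ w : cd.cW.pt.left, cd.ιW.left w ∈ V ↔
      AlgSp.Points.ofPt cd.fstW w ∈ Set.range (AlgSp.Points.map j)) :
    ∃ (j' : Over i₁) (O : Set (AlgSp.Points (D.obj j'.left))), IsOpen O ∧ IsCompact O ∧
      AlgSp.Points.map (c.π.app j'.left) ⁻¹' O = Set.range (AlgSp.Points.map j) := by
  haveI := cd.hU₁
  -- the relation `R = U₁ ×_{X_{i₁}} U₁`
  obtain ⟨R, s, t', sqR⟩ := cd.hu₁e.1 cd.u₁
  obtain ⟨t, rfl⟩ := (AlgSp.yon S).map_surjective t'
  haveI : QuasiCompact cd.U₁.hom := inferInstance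
  haveI : CompactSpace R.left :=
    Groth.Agent.Lib.T2H1.FieldQuot.compactSpace_of_isQuasiSeparatedSp hqs₁ cd.u₁ t s sqR
  obtain ⟨A₀, a₀, hA₀, ha₀e, ha₀s⟩ :=
    Groth.Agent.Lib.T2H1.LimAffine.exists_affine_etale_surjective R.left
  let A : Over S := Over.mk (a₀ ≫ R.hom)
  let a : A ⟶ R := Over.homMk a₀ rfl
  have hAaff : IsAffine A.left := hA₀
  let sA : A ⟶ cd.U₁ := a ≫ s
  let tA : A ⟶ cd.U₁ := a ≫ t
  let xA : (AlgSp.yon S).obj A ⟶ D.obj i₁ := (AlgSp.yon S).map sA ≫ cd.u₁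
  have hxA : xA = (AlgSp.yon S).map tA ≫ cd.u₁ := by
    change (AlgSp.yon S).map (a ≫ s) ≫ cd.u₁ = (AlgSp.yon S).map (a ≫ t) ≫ cd.u₁
    rw [Functor.map_comp, Functor.map_comp, Category.assoc, Category.assoc, sqR.w]
  obtain ⟨EA, ιA, pA, cA, fstA, sqA, haffA, ⟨hcA⟩, hAWaff, sqAW, hfstA, hEA1, hEA2⟩ :=
    Groth.Agent.Lib.T2H1.LimAffine.exists_limit_data D hDa c hc i₁ hAaff xA
  let j₀ : Over i₁ := Over.mk (𝟙 i₁)
  let ιAW : cA.pt ⟶ A := cA.π.app j₀ ≫ ιA j₀
  -- the two maps from the limit chart of `A` to the limit chart of `U₁`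
  have hσc : fstA ≫ c.π.app i₁ = (AlgSp.yon S).map (ιAW ≫ sA) ≫ cd.u₁ := by
    rw [Functor.map_comp, Category.assoc]
    exact sqAW.w
  have hτc : fstA ≫ c.π.app i₁ = (AlgSp.yon S).map (ιAW ≫ tA) ≫ cd.u₁ := by
    rw [Functor.map_comp, Category.assoc, ← hxA]
    exact sqAW.w
  let σW : cA.pt ⟶ cd.cW.pt := (AlgSp.yon S).preimage (cd.sqW.lift fstA _ hσc)
  let τW : cA.pt ⟶ cd.cW.pt := (AlgSp.yon S).preimage (cd.sqW.lift fstA _ hτc)
  have hσ1 : (AlgSp.yon S).map σW ≫ cd.fstW = fstA := by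
    rw [Functor.map_preimage, cd.sqW.lift_fst]
  have hτ1 : (AlgSp.yon S).map τW ≫ cd.fstW = fstA := by
    rw [Functor.map_preimage, cd.sqW.lift_fst]
  have hσ2 : σW ≫ cd.ιW = ιAW ≫ sA := by
    apply (AlgSp.yon S).map_injective
    rw [Functor.map_comp, Functor.map_preimage]
    exact cd.sqW.lift_snd _ _ _
  have hτ2 : τW ≫ cd.ιW = ιAW ≫ tA := by
    apply (AlgSp.yon S).map_injective
    rw [Functor.map_comp, Functor.map_preimage]
    exact cd.sqW.lift_snd _ _ _
  -- membership in `V` through `σW` and `τW`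
  have hσV : ∀ x : cA.pt.left, (ιAW ≫ sA).left x ∈ V ↔
      AlgSp.Points.ofPt fstA x ∈ Set.range (AlgSp.Points.map j) := by
    intro x
    rw [← hσ2, Over.comp_left, Scheme.Hom.comp_apply, hstar, ← Groth.Agent.S10176.ofPt_map_comp,
      hσ1]
  have hτV : ∀ x : cA.pt.left, (ιAW ≫ tA).left x ∈ V ↔
      AlgSp.Points.ofPt fstA x ∈ Set.range (AlgSp.Points.map j) := by
    intro x
    rw [← hτ2, Over.comp_left, Scheme.Hom.comp_apply, hstar, ← Groth.Agent.S10176.ofPt_map_comp,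
      hτ1]
  -- the two opens of the affine scheme `A ×_{X_{i₁}} X_{i₁}`
  haveI : ∀ j, IsAffine ((EA ⋙ Over.forget S).obj j) := fun j => haffA j
  haveI : ∀ {a b : Over i₁} (f : a ⟶ b), IsAffineHom ((EA ⋙ Over.forget S).map f) :=
    fun f => inferInstance
  haveI : IsAffine (EA.obj j₀).left := haffA j₀
  let Os : ((EA ⋙ Over.forget S).obj j₀).Opens := (ιA j₀ ≫ sA).left ⁻¹ᵁ V
  let Ot : ((EA ⋙ Over.forget S).obj j₀).Opens := (ιA j₀ ≫ tA).left ⁻¹ᵁ V
  have hOs : IsCompact (Os : Set ((EA ⋙ Over.forget S).obj j₀)) :=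
    QuasiCompact.isCompact_preimage (f := (ιA j₀ ≫ sA).left) _ V.2 hV
  have H : ((Over.forget S).mapCone cA).π.app j₀ ⁻¹ᵁ Os ≤
      ((Over.forget S).mapCone cA).π.app j₀ ⁻¹ᵁ Ot := by
    intro x hx
    have h1 : (ιAW ≫ sA).left x ∈ V := hx
    have h2 : (ιAW ≫ tA).left x ∈ V := (hτV x).2 ((hσV x).1 h1)
    exact h2
  obtain ⟨j', f, hj'⟩ := exists_map_preimage_le_map_preimage (EA ⋙ Over.forget S)
    ((Over.forget S).mapCone cA) hcA hOs H
  have hspade : ∀ x : (EA.obj j').left, (ιA j' ≫ sA).left x ∈ V → (ιA j' ≫ tA).left x ∈ V := by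
    intro x hx
    have h1 : x ∈ ((EA ⋙ Over.forget S).map f ⁻¹ᵁ Os) := by
      change (ιA j₀ ≫ sA).left ((EA.map f).left x) ∈ V
      rw [← Scheme.Hom.comp_apply, ← Over.comp_left, ← Category.assoc, hEA1 f]
      exact hx
    have h2 := hj' h1
    change (ιA j₀ ≫ tA).left ((EA.map f).left x) ∈ V at h2
    rw [← Scheme.Hom.comp_apply, ← Over.comp_left, ← Category.assoc, hEA1 f] at h2
    exact h2
  -- the open of the stage `j'`
  haveI : IsAffine (cd.E.obj j').left := cd.haffj j'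
  let Vj : (cd.E.obj j').left.Opens := (cd.ιj j').left ⁻¹ᵁ V
  have hVj : IsCompact (Vj : Set (cd.E.obj j').left) :=
    QuasiCompact.isCompact_preimage (f := (cd.ιj j').left) _ V.2 hV
  let O : Set (AlgSp.Points (D.obj j'.left)) := AlgSp.Points.ofPt (cd.pj j') '' (Vj : Set _)
  have hOopen : IsOpen O :=
    Groth.Agent.S10176.isOpenMap_ofPt (cd.pj j') (cd.repWith_etale_pj j') _ Vj.2
  have hOcpt : IsCompact O := hVj.image (AlgSp.Points.continuous_ofPt (cd.pj j'))
  -- the image in `X_{i₁}` of a point of the chart of the stage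
  have himg : ∀ e : (cd.E.obj j').left, AlgSp.Points.ofPt cd.u₁ ((cd.ιj j').left e) =
      AlgSp.Points.map (D.map j'.hom) (AlgSp.Points.ofPt (cd.pj j') e) := by
    intro e
    rw [← Groth.Agent.S10176.ofPt_map_comp, ← (cd.sqj j').w, AlgSp.Points.map_ofPt]
  -- saturation
  have hsat : ∀ e : (cd.E.obj j').left, AlgSp.Points.ofPt (cd.pj j') e ∈ O →
      (cd.ιj j').left e ∈ V := by
    rintro e ⟨v, hv, hve⟩
    have hv' : (cd.ιj j').left v ∈ V := hv
    have huu : AlgSp.Points.ofPt cd.u₁ ((cd.ιj j').left e) =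
        AlgSp.Points.ofPt cd.u₁ ((cd.ιj j').left v) := by
      rw [himg, himg, hve]
    obtain ⟨r, hr1, hr2⟩ := Groth.Agent.S10176.exists_point_of_isPullback_yon sqR _ _ huu
    obtain ⟨a', rfl⟩ := ha₀s.surj r
    have hsa : sA.left a' = (cd.ιj j').left v := hr2
    have hta : tA.left a' = (cd.ιj j').left e := hr1
    -- lift `a'` to the stage `j'`
    have hpt : AlgSp.Points.map (D.map j'.hom) (AlgSp.Points.ofPt (cd.pj j') v) =
        AlgSp.Points.map xA (AlgSp.Points.ofScheme A a') := by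
      rw [← AlgSp.Points.ofPt_eq_map_ofScheme, Groth.Agent.S10176.ofPt_map_comp, hsa, himg]
    obtain ⟨p, hp1, hp2⟩ := Groth.Agent.S10175.exists_point_of_isPullback (sqA j') _ _ hpt
    obtain ⟨x, rfl⟩ := (AlgSp.Points.schemeHomeo (EA.obj j')).surjective p
    have hx : (ιA j').left x = a' := by
      apply (AlgSp.Points.schemeHomeo A).injective
      rw [← AlgSp.Points.map_yon_map_apply]
      exact hp2
    have h1 : (ιA j' ≫ sA).left x ∈ V := by
      rw [Over.comp_left, Scheme.Hom.comp_apply, hx, hsa]; exact hv'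
    have h2 := hspade x h1
    rw [Over.comp_left, Scheme.Hom.comp_apply, hx, hta] at h2
    exact h2
  refine ⟨j', O, hOopen, hOcpt, ?_⟩
  ext x
  obtain ⟨w, rfl⟩ := Groth.Agent.S10177.surjective_ofPt cd.fstW cd.repWith_surjective_fstW x
  have hπ : AlgSp.Points.map (c.π.app j'.left) (AlgSp.Points.ofPt cd.fstW w) =
      AlgSp.Points.ofPt (cd.pj j') ((cd.cW.π.app j').left w) := by
    rw [AlgSp.Points.map_ofPt, cd.hfst j', Groth.Agent.S10176.ofPt_map_comp]
  have hιW : (cd.ιj j').left ((cd.cW.π.app j').left w) = cd.ιW.left w := by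
    rw [← Scheme.Hom.comp_apply, ← Over.comp_left, cd.π_ιj j']
  rw [Set.mem_preimage, hπ, ← hstar w, ← hιW]
  constructor
  · intro h
    exact hsat _ h
  · intro h
    exact ⟨_, h, rfl⟩

end

section

variable {I : Type u} [SmallCategory I] [IsCofiltered I] (D : I ⥤ AlgSp.Sp S)
  (hD : ∀ i, AlgSp.IsAlgSpace (D.obj i))
  (hDa : ∀ (i j : I) (φ : i ⟶ j), AlgSp.IsAffineMor (D.map φ))
  (c : Cone D) (hc : IsLimit c)

include hD hDa hc in
/-- a quasi-compact open subspace of the limit is the inverse image of a quasi-compact open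
subspace of a stage. -/
theorem exists_qc_open_stage [QuasiSeparatedSpace S]
    (hqc : ∀ i, AlgSp.IsQuasiCompactSp (D.obj i)) (hqs : ∀ i, AlgSp.IsQuasiSeparatedSp (D.obj i))
    (U : AlgSp.Sp S) (j : U ⟶ c.pt) (hj : AlgSp.RepWith @IsOpenImmersion j)
    (hU : AlgSp.IsQuasiCompactSp U) :
    ∃ (i : I) (Ui : AlgSp.Sp S) (ji : Ui ⟶ D.obj i) (q : U ⟶ Ui),
      AlgSp.RepWith @IsOpenImmersion ji ∧ AlgSp.IsQuasiCompactSp Ui ∧
      IsPullback j q (c.π.app i) ji := by
  obtain ⟨i₁⟩ := IsCofiltered.nonempty (C := I)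
  obtain ⟨cd⟩ := nonempty_chartData D hD hDa c hc i₁ (hqc i₁)
  have hptalg : AlgSp.IsAlgSpace c.pt := Groth.Agent.Lib.T2H1.LimAffine.isAlgSpace_pt D hDa c hc hD
  have hUalg : AlgSp.IsAlgSpace U := isAlgSpace_of_representable hptalg j hj.1
  obtain ⟨j₁, V, hV, hVw⟩ := exists_open_stage cd (hD i₁) (hqs i₁) hUalg j hj hU
  -- re-base at the stage `j₁` with the atlas `E j₁`
  obtain ⟨E2, ι2, p2, c2, fst2, sq2, haff2, ⟨hc2⟩, hW2aff, sqW2, hfst2, hE21, hE22⟩ :=
    Groth.Agent.Lib.T2H1.LimAffine.exists_limit_data D hDa c hc j₁.left (cd.haffj j₁) (cd.pj j₁)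
  let cd2 : ChartData D c j₁.left :=
    ⟨cd.E.obj j₁, cd.pj j₁, cd.haffj j₁, cd.repWith_etale_pj j₁, cd.repWith_surjective_pj j₁, E2,
      ι2, p2, c2, fst2, sq2, haff2, hc2, hW2aff, sqW2, hfst2, fun ψ => hE21 ψ, fun ψ => hE22 ψ⟩
  have hstar : ∀ w : cd2.cW.pt.left, cd2.ιW.left w ∈ V ↔
      AlgSp.Points.ofPt cd2.fstW w ∈ Set.range (AlgSp.Points.map j) := by
    intro w2
    have sqY : IsPullback cd.fstW ((AlgSp.yon S).map (𝟙 cd.cW.pt)) (𝟙 c.pt) cd.fstW := by
      rw [CategoryTheory.Functor.map_id]; exact IsPullback.id_vert _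
    have sqst := cd.isPullback_stage (𝟙 c.pt) (𝟙 cd.cW.pt) cd.fstW sqY j₁
    rw [Category.id_comp, Category.id_comp] at sqst
    have hpt : AlgSp.Points.map (c.π.app j₁.left) (AlgSp.Points.ofPt cd2.fstW w2) =
        AlgSp.Points.map (cd.pj j₁) (AlgSp.Points.ofScheme (cd.E.obj j₁) (cd2.ιW.left w2)) := by
      rw [AlgSp.Points.map_ofPt, ← AlgSp.Points.ofPt_eq_map_ofScheme,
        ← Groth.Agent.S10176.ofPt_map_comp]
      congr 1
      exact cd2.sqW.w
    obtain ⟨p, hp1, hp2⟩ := Groth.Agent.S10175.exists_point_of_isPullback sqst _ _ hpt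
    obtain ⟨w, rfl⟩ := (AlgSp.Points.schemeHomeo cd.cW.pt).surjective p
    have hw1 : AlgSp.Points.ofPt cd.fstW w = AlgSp.Points.ofPt cd2.fstW w2 := by
      rw [AlgSp.Points.ofPt_eq_map_ofScheme]; exact hp1
    have hw2 : (cd.cW.π.app j₁).left w = cd2.ιW.left w2 := by
      apply (AlgSp.Points.schemeHomeo (cd.E.obj j₁)).injective
      rw [← AlgSp.Points.map_yon_map_apply]
      exact hp2
    rw [← hw2, ← hw1]
    exact hVw w
  obtain ⟨j', O, hOo, hOc, hOeq⟩ :=
    exists_open_of_atlas_open cd2 hDa hc (hqs j₁.left) j V hV hstar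
  -- the open subspace of the stage
  have hincl := Groth.Agent.Lib.Helper12.OpenSub.repWith_incl (X := D.obj j'.left) hOo
  have hfst' : AlgSp.RepWith @IsOpenImmersion
      (pullback.fst (c.π.app j'.left) (Groth.Agent.Lib.Helper12.OpenSub.incl (D.obj j'.left) O)) :=
    MorphismProperty.of_isPullback (P := AlgSp.RepWith @IsOpenImmersion)
      (IsPullback.of_hasPullback _ _).flip hincl
  have hrange : Set.range (AlgSp.Points.map j) = Set.range (AlgSp.Points.map
      (pullback.fst (c.π.app j'.left)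
        (Groth.Agent.Lib.Helper12.OpenSub.incl (D.obj j'.left) O))) := by
    rw [Groth.Agent.Lib.Helper12.OpenSub.range_map_fst_of_isPullback
      (IsPullback.of_hasPullback _ _), Groth.Agent.Lib.Helper12.OpenSub.range_map_incl, hOeq]
  obtain ⟨e, he⟩ := Groth.Agent.Lib.Helper12.OpenSub.iso_of_range_eq j hj _ hfst' hrange
  refine ⟨j'.left, Groth.Agent.Lib.Helper12.OpenSub.obj (D.obj j'.left) O,
    Groth.Agent.Lib.Helper12.OpenSub.incl (D.obj j'.left) O, e.hom ≫ pullback.snd _ _, hincl,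
    isQuasiCompactSp_openSub (hD j'.left) hOo hOc, ?_⟩
  exact IsPullback.of_iso_pullback ⟨by rw [← he, Category.assoc, Category.assoc,
    pullback.condition]⟩ e he rfl

end

end Groth.Agent.Lib.T2H7.QcOpen
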