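import Mathlib
import Groth.Agent.Lib.T2H7LimDescB
import Groth.Agent.Lib.T2H7QcOpen
import Groth.Agent.Lib.T2H1AffDesc4
import Groth.Agent.S9189
import Groth.Agent.S10534

/-!
# Descending properties of representable morphisms of algebraic spaces through limits (helper7)
-/

set_option autoImplicit false
set_option linter.unusedSectionVars false
set_option linter.unusedVariables false
set_option linter.style.haveILetI false
universe u
open CategoryTheory CategoryTheory.Limits AlgebraicGeometry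
open AlgSp

namespace Groth.Agent.Lib.T2H7.LimDescRep

open Groth.Agent.Lib.T2H7.LimDescA Groth.Agent.Lib.T2H7.LimDescB

variable {S : Scheme.{u}}

/-- descent of a property of morphisms of schemes through a cofiltered limit of affine schemes,
for base changes of a morphism locally of finite type with quasi-compact quasi-separated
source. -/
def SchemeDescentQ (P : MorphismProperty Scheme.{u}) : Prop :=
  ∀ {J : Type u} [SmallCategory J] [IsCofiltered J] (Ds : J ⥤ Scheme.{u}) (cs : Cone Ds)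
    (hcs : IsLimit cs) (haff : ∀ j, IsAffine (Ds.obj j)) (j₀ : J) {X₀ : Scheme.{u}}
    (f₀ : X₀ ⟶ Ds.obj j₀) (hX₀c : CompactSpace X₀) (hX₀s : QuasiSeparatedSpace X₀)
    (hlft : LocallyOfFiniteType f₀)
    {X : Scheme.{u}} (f : X ⟶ cs.pt) (qX : X ⟶ X₀)
    (hX : IsPullback qX f f₀ (cs.π.app j₀)), P f →
    ∃ (j : J) (ψ : j ⟶ j₀) (Xj : Scheme.{u}) (fj : Xj ⟶ Ds.obj j) (pX : Xj ⟶ X₀),
      IsPullback pX fj f₀ (Ds.map ψ) ∧ P fj

/-- closed immersions descend through limits of affine schemes. -/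
theorem schemeDescentQ_closedImmersion : SchemeDescentQ (@IsClosedImmersion.{u}) := by
  intro J _ _ Ds cs hcs haff j₀ X₀ f₀ hX₀c hX₀s hlft X f qX hX hf
  haveI := haff
  haveI := hX₀c
  haveI := hX₀s
  haveI := hlft
  haveI : IsClosedImmersion f := hf
  haveI : ∀ (i j : J) (f : i ⟶ j), IsAffineHom (Ds.map f) := fun i j f => inferInstance
  have hY : IsPullback (cs.π.app j₀) (𝟙 cs.pt) (𝟙 (Ds.obj j₀)) (cs.π.app j₀) :=
    IsPullback.id_vert (cs.π.app j₀)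
  obtain ⟨j, ψ, Xj, Yj, fj, gj, pY, pX, sqY, sqX, hPj⟩ :=
    Groth.Agent.S9189.result Ds cs hcs j₀ f₀ (𝟙 _) f (𝟙 _) (cs.π.app j₀) qX hY hX
  haveI : IsIso gj := sqY.isIso_snd_of_isIso
  refine ⟨j, ψ, Xj, fj ≫ gj, pX, ?_,
    (MorphismProperty.cancel_right_of_respectsIso @IsClosedImmersion fj gj).2 hPj⟩
  have := sqX.paste_vert sqY
  rwa [Category.comp_id] at this

/-- a scheme over a quasi-separated base whose sheaf is quasi-separated is quasi-separated. -/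
theorem quasiSeparatedSpace_of_isQuasiSeparatedSp_yon [QuasiSeparatedSpace S] (W : Over S)
    (h : AlgSp.IsQuasiSeparatedSp ((AlgSp.yon S).obj W)) : QuasiSeparatedSpace W.left := by
  have h1 : QuasiCompact (pullback.diagonal W.hom) :=
    (AlgSp.repWith_diag_yon_iff @QuasiCompact W).1 h
  haveI : QuasiSeparated W.hom := ⟨h1⟩
  exact quasiSeparatedSpace_of_quasiSeparated W.hom

/-- the chart square of a base change of a representable morphism is a pullback. -/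
theorem isPullback_chart {X₀ Y₀ X Y : AlgSp.Sp S} {f₀ : X₀ ⟶ Y₀} {f : X ⟶ Y} {pY : Y ⟶ Y₀}
    {pX : X ⟶ X₀} (hX : IsPullback pX f f₀ pY) {W₀ V₀ W Xo : Over S}
    {v₀ : (AlgSp.yon S).obj V₀ ⟶ Y₀} {a₀ : (AlgSp.yon S).obj W₀ ⟶ X₀} {g₀ : W₀ ⟶ V₀}
    (sq₀ : IsPullback a₀ ((AlgSp.yon S).map g₀) f₀ v₀) {a : (AlgSp.yon S).obj Xo ⟶ X}
    {b : (AlgSp.yon S).obj W ⟶ Y} {ι : W ⟶ V₀} {pXo : Xo ⟶ W₀} {h : Xo ⟶ W}
    (sqo : IsPullback pXo h g₀ ι) (ha : a ≫ pX = (AlgSp.yon S).map pXo ≫ a₀)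
    (hb : b ≫ pY = (AlgSp.yon S).map ι ≫ v₀) (hab : a ≫ f = (AlgSp.yon S).map h ≫ b) :
    IsPullback a ((AlgSp.yon S).map h) f b := by
  refine IsPullback.of_right ?_ hab hX
  rw [ha, hb]
  exact (sqo.map (AlgSp.yon S)).paste_horiz sq₀

/-- the main reduction for representable morphisms: descent of `RepWith P` through a limit of
algebraic spaces with affine transition maps, for base changes of a representable morphism
locally of finite type, given descent of `P` for limits of affine schemes and fpqc descent of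
`RepWith P`. -/
theorem descend_repWith [QuasiSeparatedSpace S] (P : MorphismProperty Scheme.{u})
    [P.IsStableUnderBaseChange] (H1 : SchemeDescentQ P)
    (hloc : AlgSp.IsLocalOnBase (AlgSp.IsFpqcCover (S := S)) (AlgSp.RepWith P))
    {I : Type u} [SmallCategory I] [IsCofiltered I]
    (D : I ⥤ AlgSp.Sp S) (hD : ∀ i, AlgSp.IsAlgSpace (D.obj i))
    (hDa : ∀ (i j : I) (φ : i ⟶ j), AlgSp.IsAffineMor (D.map φ))
    (c : Cone D) (hc : IsLimit c) (i₀ : I)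
    (X₀ Y₀ : AlgSp.Space S) (f₀ : X₀.obj ⟶ Y₀.obj) (b₀ : Y₀.obj ⟶ D.obj i₀)
    (hXqc : AlgSp.IsQuasiCompactSp X₀.obj) (hXqs : AlgSp.IsQuasiSeparatedSp X₀.obj)
    (hYqc : AlgSp.IsQuasiCompactSp Y₀.obj) (hYqs : AlgSp.IsQuasiSeparatedSp Y₀.obj)
    (X Y : AlgSp.Sp S) (f : X ⟶ Y) (pY : Y ⟶ Y₀.obj) (qY : Y ⟶ c.pt)
    (hY : IsPullback pY qY b₀ (c.π.app i₀)) (pX : X ⟶ X₀.obj) (hX : IsPullback pX f f₀ pY)
    (hf : AlgSp.RepWith P f) (hlft : AlgSp.RepWith @LocallyOfFiniteType f₀) :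
    ∃ (i : I) (φ : i ⟶ i₀), ∀ (Xi Yi : AlgSp.Sp S) (fi : Xi ⟶ Yi) (pYi : Yi ⟶ Y₀.obj)
      (qYi : Yi ⟶ D.obj i) (_ : IsPullback pYi qYi b₀ (D.map φ)) (pXi : Xi ⟶ X₀.obj)
      (_ : IsPullback pXi fi f₀ pYi), AlgSp.RepWith P fi := by
  obtain ⟨V₀, v₀, hV₀, hv₀e, hv₀s⟩ := (Groth.Agent.S10180.result Y₀).1 hYqc
  obtain ⟨W₀, g₀, a₀, sq₀⟩ := hlft.1 v₀
  have hg₀lft : LocallyOfFiniteType g₀.left := hlft.2 v₀ a₀ g₀ sq₀
  -- the scheme `W₀` is quasi-compact and quasi-separated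
  have hV₀alg : AlgSp.IsAlgSpace ((AlgSp.yon S).obj V₀) := AlgSp.IsAlgSpace.yon_obj V₀
  have hW₀alg : AlgSp.IsAlgSpace ((AlgSp.yon S).obj W₀) := AlgSp.IsAlgSpace.yon_obj W₀
  let Vs : AlgSp.Space S := ⟨(AlgSp.yon S).obj V₀, hV₀alg⟩
  let Ws : AlgSp.Space S := ⟨(AlgSp.yon S).obj W₀, hW₀alg⟩
  have hW₀q := Groth.Agent.S9921.result (X := X₀) (Y := Y₀) (Z := Vs) (P := Ws)
    (ObjectProperty.homMk f₀) (ObjectProperty.homMk v₀)
    (ObjectProperty.homMk a₀) (ObjectProperty.homMk ((AlgSp.yon S).map g₀)) sq₀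
    ⟨hXqc, hXqs⟩ ⟨hYqc, hYqs⟩
    ⟨Groth.Agent.Lib.Helper15QcRep.isQuasiCompactSp_yon V₀ hV₀, isQuasiSeparatedSp_yon V₀ hV₀⟩
  have hW₀c : CompactSpace W₀.left :=
    Groth.Agent.Lib.T2H7.QcOpen.compactSpace_of_isQuasiCompactSp_yon W₀ hW₀q.1
  have hW₀s : QuasiSeparatedSpace W₀.left :=
    quasiSeparatedSpace_of_isQuasiSeparatedSp_yon W₀ hW₀q.2
  have comm₀ : a₀ ≫ f₀ = (AlgSp.yon S).map g₀ ≫ v₀ := sq₀.w
  -- the limit presentation of the base change of the chart of `Y₀`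
  obtain ⟨E, ιj, pj, cW, fstW, sqj, haffj, ⟨hcW⟩, hWaff, sqW, hfst, hE1, hE2⟩ :=
    Groth.Agent.Lib.T2H1.LimAffine.exists_limit_data D hDa c hc i₀ hV₀ (v₀ ≫ b₀)
  let j₀ : Over i₀ := Over.mk (𝟙 i₀)
  haveI hιiso : IsIso (ιj j₀) := by
    have h1 : IsIso (D.map j₀.hom) := by
      change IsIso (D.map (𝟙 i₀))
      rw [D.map_id]; infer_instance
    have h2 : IsIso ((AlgSp.yon S).map (ιj j₀)) := (sqj j₀).isIso_snd_of_isIso
    exact isIso_of_fully_faithful (AlgSp.yon S) _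
  let ιW : cW.pt ⟶ V₀ := cW.π.app j₀ ≫ ιj j₀
  -- the chart of `f` at the limit
  have sqo := IsPullback.of_hasPullback g₀ ιW
  obtain ⟨a, b, hab, sqb, sqa, -⟩ := exists_charts_of_isPullback (c.π.app i₀) f₀ b₀ hY hX v₀ a₀ g₀
    comm₀ ιW fstW sqW _ _ sqo
  have sqlim : IsPullback a ((AlgSp.yon S).map (pullback.snd g₀ ιW)) f b :=
    isPullback_chart hX sq₀ sqo sqa.w sqb.w hab
  have hPlim : P (pullback.snd g₀ ιW).left := hf.2 b a _ sqlim
  -- the scheme level pullback square at the limit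
  have sqo' : IsPullback (pullback.fst g₀ ιW) (pullback.snd g₀ ιW) (g₀ ≫ inv (ιj j₀))
      (cW.π.app j₀) := by
    have := isPullback_comp_iso sqo (inv (ιj j₀))
    simpa [ιW] using this
  have sqs : IsPullback (pullback.fst g₀ ιW).left (pullback.snd g₀ ιW).left
      (g₀ ≫ inv (ιj j₀)).left (cW.π.app j₀).left := sqo'.map (Over.forget S)
  have hlft' : LocallyOfFiniteType (g₀ ≫ inv (ιj j₀)).left := by
    rw [Over.comp_left]
    haveI : IsIso (inv (ιj j₀)).left := inferInstanceAs (IsIso ((Over.forget S).map (inv (ιj j₀))))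
    infer_instance
  obtain ⟨j, ψ, Xj, fj0, pXs, sqXj0, hPj0⟩ := H1 (E ⋙ Over.forget S)
    ((Over.forget S).mapCone cW) hcW
    (fun j => haffj j) j₀ (g₀ ≫ inv (ιj j₀)).left hW₀c hW₀s hlft' (pullback.snd g₀ ιW).left
    (pullback.fst g₀ ιW).left sqs hPlim
  let fj : Xj ⟶ (E.obj j).left := fj0
  have sqXj : IsPullback pXs fj (g₀ ≫ inv (ιj j₀)).left (E.map ψ).left := sqXj0
  have hPj : P fj := hPj0
  refine ⟨j.left, j.hom, ?_⟩
  intro Xi Yi fi pYi qYi hYi pXi hXi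
  -- the finite stage pullback square in `Over S`
  have hw0 : pXs ≫ (g₀ ≫ inv (ιj j₀)).left = fj ≫ (E.map ψ).left := sqXj.w
  have hwS : pXs ≫ W₀.hom = fj ≫ (E.obj j).hom := by
    have h1 : (g₀ ≫ inv (ιj j₀)).left ≫ (E.obj j₀).hom = W₀.hom := Over.w _
    have h2 : (E.map ψ).left ≫ (E.obj j₀).hom = (E.obj j).hom := Over.w _
    rw [← h1, ← h2, reassoc_of% hw0]
  let Xjo : Over S := Over.mk (fj ≫ (E.obj j).hom)
  let hj : Xjo ⟶ E.obj j := Over.homMk fj rfl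
  let pXjo : Xjo ⟶ W₀ := Over.homMk pXs hwS
  have sqj1 : IsPullback pXjo hj (g₀ ≫ inv (ιj j₀)) (E.map ψ) :=
    isPullback_over_of_left (by ext1; exact hw0) sqXj
  have sqj2 : IsPullback pXjo hj g₀ (ιj j) := by
    have := isPullback_comp_iso sqj1 (ιj j₀)
    simpa [hE1 ψ] using this
  obtain ⟨ai, bi, habi, sqbi, sqai, -⟩ := exists_charts_of_isPullback (D.map j.hom) f₀ b₀ hYi hXi
    v₀ a₀ g₀ comm₀ (ιj j) (pj j) (sqj j) pXjo hj sqj2
  have sqi : IsPullback ai ((AlgSp.yon S).map hj) fi bi :=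
    isPullback_chart hXi sq₀ sqj2 sqai.w sqbi.w habi
  have hbie : AlgSp.RepWith @Etale bi :=
    MorphismProperty.of_isPullback (P := AlgSp.RepWith @Etale) sqbi.flip hv₀e
  have hbis : AlgSp.RepWith @Surjective bi :=
    MorphismProperty.of_isPullback (P := AlgSp.RepWith @Surjective) sqbi.flip hv₀s
  have hYialg : AlgSp.IsAlgSpace Yi :=
    Groth.Agent.S9874.isAlgSpace_of_isPullback (hD i₀).diag Y₀.property (hD j.left) hYi
  have hXialg : AlgSp.IsAlgSpace Xi :=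
    Groth.Agent.S9874.isAlgSpace_of_isPullback Y₀.property.diag X₀.property hYialg hXi
  exact ((Groth.Agent.Lib.T2H1.AffDesc.of_chart_of_isLocalOnBase hloc (X := ⟨Xi, hXialg⟩)
    (Y := ⟨Yi, hYialg⟩) (ObjectProperty.homMk fi) (E.obj j) bi hbie hbis ai
    ((AlgSp.yon S).map hj) sqi).2 ((AlgSp.repWith_yon_map_iff P hj).2 hPj))

/-- closed immersions descend through limits of algebraic spaces, for base changes of a
representable morphism locally of finite type. -/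
theorem descend_closedImmersion_of_representable [QuasiSeparatedSpace S]
    {I : Type u} [SmallCategory I] [IsCofiltered I]
    (D : I ⥤ AlgSp.Sp S) (hD : ∀ i, AlgSp.IsAlgSpace (D.obj i))
    (hDa : ∀ (i j : I) (φ : i ⟶ j), AlgSp.IsAffineMor (D.map φ))
    (c : Cone D) (hc : IsLimit c) (i₀ : I)
    (X₀ Y₀ : AlgSp.Space S) (f₀ : X₀.obj ⟶ Y₀.obj) (b₀ : Y₀.obj ⟶ D.obj i₀)
    (hXqc : AlgSp.IsQuasiCompactSp X₀.obj) (hXqs : AlgSp.IsQuasiSeparatedSp X₀.obj)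
    (hYqc : AlgSp.IsQuasiCompactSp Y₀.obj) (hYqs : AlgSp.IsQuasiSeparatedSp Y₀.obj)
    (X Y : AlgSp.Sp S) (f : X ⟶ Y) (pY : Y ⟶ Y₀.obj) (qY : Y ⟶ c.pt)
    (hY : IsPullback pY qY b₀ (c.π.app i₀)) (pX : X ⟶ X₀.obj) (hX : IsPullback pX f f₀ pY)
    (hf : AlgSp.RepWith @IsClosedImmersion f) (hlft : AlgSp.RepWith @LocallyOfFiniteType f₀) :
    ∃ (i : I) (φ : i ⟶ i₀), ∀ (Xi Yi : AlgSp.Sp S) (fi : Xi ⟶ Yi) (pYi : Yi ⟶ Y₀.obj)
      (qYi : Yi ⟶ D.obj i) (_ : IsPullback pYi qYi b₀ (D.map φ)) (pXi : Xi ⟶ X₀.obj)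
      (_ : IsPullback pXi fi f₀ pYi), AlgSp.RepWith @IsClosedImmersion fi :=
  descend_repWith @IsClosedImmersion schemeDescentQ_closedImmersion
    (Groth.Agent.S10534.result S) D hD hDa c hc i₀ X₀ Y₀ f₀ b₀ hXqc hXqs hYqc hYqs X Y f pY qY hY
    pX hX hf hlft

end Groth.Agent.Lib.T2H7.LimDescRep
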