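import Mathlib
import Groth.Agent.Lib.T2H7EvMonoBase
import Groth.Agent.Lib.T2H7LimDataRep
import Groth.Agent.Lib.T2H7LimDescRep
import Groth.Agent.Lib.T2H1LimAffine
import Groth.Agent.S0594
import Groth.Agent.S10613
import Groth.Agent.S9948

/-!
# A limit along closed immersions of spaces locally of finite type over a base, whose limit is a
closed immersion into the base, eventually consists of closed immersions into the base (helper7)
-/

set_option autoImplicit false
set_option linter.unusedSectionVars false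
set_option linter.unusedVariables false
set_option linter.style.haveILetI false
universe u
open CategoryTheory CategoryTheory.Limits AlgebraicGeometry
open AlgSp

namespace Groth.Agent.Lib.T2H7.EvClosedBase

open Groth.Agent.Lib.T2H7.SelfProd

variable {S : Scheme.{u}}

section

variable {I : Type u} [SmallCategory I] [IsCofiltered I] (D : I ⥤ AlgSp.Sp S)
  (hD : ∀ i, AlgSp.IsAlgSpace (D.obj i))
  (hDc : ∀ (i j : I) (φ : i ⟶ j), AlgSp.RepWith @IsClosedImmersion (D.map φ))
  (c : Cone D) (hc : IsLimit c)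

include hD hDc hc in
theorem eventually_closedImmersion_base [QuasiSeparatedSpace S] (Y : AlgSp.Space S)
    (t : D ⟶ (Functor.const I).obj Y.obj) (g : c.pt ⟶ Y.obj)
    (hg : ∀ i, c.π.app i ≫ t.app i = g)
    (hqc : ∀ i, AlgSp.IsQuasiCompactSp (D.obj i)) (hqs : ∀ i, AlgSp.IsQuasiSeparatedSp (D.obj i))
    (hYqc : AlgSp.IsQuasiCompactSp Y.obj) (hYqs : AlgSp.IsQuasiSeparatedSp Y.obj)
    (hft : ∀ i, AlgSp.LocP @LocallyOfFiniteType (t.app i))
    (hX : AlgSp.RepWith @IsClosedImmersion g) :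
    ∃ i₀ : I, ∀ (i : I) (_ : i ⟶ i₀), AlgSp.RepWith @IsClosedImmersion (t.app i) := by
  have hDa : ∀ (i j : I) (φ : i ⟶ j), AlgSp.IsAffineMor (D.map φ) := fun i j φ =>
    Groth.Agent.Lib.T2H7.EvIsoB.isAffineMor_of_closedImmersion _ (hDc i j φ)
  have hDr : ∀ (i j : I) (φ : i ⟶ j), AlgSp.RepWith @IsAffineHom (D.map φ) := fun i j φ =>
    ⟨(hDc i j φ).1, fun _ _ g fst snd sq => by
      have h1 : IsClosedImmersion snd.left := (hDc i j φ).2 g fst snd sq
      exact (inferInstance : IsAffineHom snd.left)⟩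
  have hptalg : AlgSp.IsAlgSpace c.pt :=
    Groth.Agent.Lib.T2H1.LimAffine.isAlgSpace_pt D hDa c hc hD
  -- `g` is a monomorphism, hence so are the `t i` for small `i`
  haveI hgm : Mono g := Groth.Agent.S9928.result (X := ⟨c.pt, hptalg⟩) (Y := Y)
    (ObjectProperty.homMk g)
    ⟨hX.1, fun _ _ g' fst snd sq => by
      have h1 : IsClosedImmersion snd.left := hX.2 g' fst snd sq
      exact (inferInstance : IsImmersion snd.left)⟩
  obtain ⟨i₂, hmono⟩ := Groth.Agent.Lib.T2H7.EvMonoBase.eventually_mono_base D hD hDc c hc Y t g hg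
    hqc hqs hYqc hYqs hft
  have hm₂ : Mono (t.app i₂) := hmono i₂ (𝟙 _)
  let X₂ : AlgSp.Space S := ⟨D.obj i₂, hD i₂⟩
  have h613 := (Groth.Agent.S10613.result (X := X₂) (Y := Y)
    (ObjectProperty.homMk (t.app i₂))).2.2.2 ⟨hft i₂, hm₂⟩
  have hrlft : AlgSp.RepWith @LocallyOfFiniteType (t.app i₂) :=
    (Groth.Agent.S9948.result @LocallyOfFiniteType (Or.inl rfl) (X := X₂) (Y := Y)
      (ObjectProperty.homMk (t.app i₂)) h613.1).1 (hft i₂)
  -- the chart of `Y` and the scheme `W₂ = X_{i₂} ×_Y V`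
  obtain ⟨V, v, hV, hve, hvs⟩ := (Groth.Agent.S10180.result Y).1 hYqc
  haveI := hV
  obtain ⟨W₂, g₂, a₂, sq₂⟩ := hrlft.1 v
  have hg₂lft : LocallyOfFiniteType g₂.left := hrlft.2 v a₂ g₂ sq₂
  have hValg : AlgSp.IsAlgSpace ((AlgSp.yon S).obj V) := AlgSp.IsAlgSpace.yon_obj V
  have hW₂alg : AlgSp.IsAlgSpace ((AlgSp.yon S).obj W₂) := AlgSp.IsAlgSpace.yon_obj W₂
  have hW₂q := Groth.Agent.S9921.result (X := X₂) (Y := Y)
    (Z := (⟨(AlgSp.yon S).obj V, hValg⟩ : AlgSp.Space S))
    (P := (⟨(AlgSp.yon S).obj W₂, hW₂alg⟩ : AlgSp.Space S))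
    (ObjectProperty.homMk (t.app i₂)) (ObjectProperty.homMk v)
    (ObjectProperty.homMk a₂) (ObjectProperty.homMk ((AlgSp.yon S).map g₂)) sq₂
    ⟨hqc i₂, hqs i₂⟩ ⟨hYqc, hYqs⟩
    ⟨Groth.Agent.Lib.Helper15QcRep.isQuasiCompactSp_yon V hV,
      Groth.Agent.Lib.T2H7.LimDescA.isQuasiSeparatedSp_yon V hV⟩
  haveI hW₂c : CompactSpace W₂.left :=
    Groth.Agent.Lib.T2H7.QcOpen.compactSpace_of_isQuasiCompactSp_yon W₂ hW₂q.1
  haveI hW₂s : QuasiSeparatedSpace W₂.left :=
    Groth.Agent.Lib.T2H7.LimDescRep.quasiSeparatedSpace_of_isQuasiSeparatedSp_yon W₂ hW₂q.2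
  -- the system of schemes `W_j = X_j ×_Y V`
  obtain ⟨E, ιj, pj, cW, fstW, sqj, haff, ⟨hcW⟩, sqW, hfst, hE1, hE2⟩ :=
    Groth.Agent.Lib.T2H7.LimDataRep.exists_limit_data_rep D hDr c hc i₂ a₂
  have hsqw : ∀ {j k : Over i₂} (ψ : j ⟶ k),
      IsPullback (pj j) ((AlgSp.yon S).map (E.map ψ)) (D.map ψ.left) (pj k) := by
    intro j k ψ
    refine IsPullback.of_bot ?_ (hE2 ψ).symm (sqj k)
    rw [← Functor.map_comp, hE1, ← D.map_comp, Over.w ψ]
    exact sqj j
  have hιcl : ∀ j : Over i₂, IsClosedImmersion (ιj j).left := fun j =>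
    (hDc j.left i₂ j.hom).2 _ _ _ (sqj j)
  let tV : (E ⋙ Over.forget S) ⟶ (Functor.const (Over i₂)).obj V.left :=
    { app := fun j => (ιj j ≫ g₂).left
      naturality := fun j k ψ => by
        simp only [Functor.comp_obj, Over.forget_obj, Functor.const_obj_obj, Functor.comp_map,
          Over.forget_map, Functor.const_obj_map, Category.comp_id]
        rw [← Over.comp_left, ← Category.assoc, hE1] }
  haveI : ∀ (j k : Over i₂) (f : j ⟶ k), IsClosedImmersion ((E ⋙ Over.forget S).map f) :=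
    fun j k f => (hDc j.left k.left f.left).2 _ _ _ (hsqw f)
  haveI : ∀ j : Over i₂, CompactSpace ((E ⋙ Over.forget S).obj j) := fun j => by
    haveI : IsAffineHom (ιj j).left := haff j
    haveI : QuasiCompact (ιj j).left := inferInstance
    change CompactSpace (E.obj j).left
    exact QuasiCompact.compactSpace_of_compactSpace (ιj j).left
  haveI : ∀ j : Over i₂, QuasiSeparatedSpace ((E ⋙ Over.forget S).obj j) := fun j => by
    haveI : IsAffineHom (ιj j).left := haff j
    haveI : QuasiSeparated (ιj j).left := inferInstance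
    change QuasiSeparatedSpace (E.obj j).left
    exact quasiSeparatedSpace_of_quasiSeparated (ιj j).left
  haveI : ∀ j : Over i₂, LocallyOfFiniteType (tV.app j) := fun j => by
    haveI := hιcl j
    haveI := hg₂lft
    change LocallyOfFiniteType (ιj j ≫ g₂).left
    rw [Over.comp_left]
    infer_instance
  let j₀ : Over i₂ := Over.mk (𝟙 i₂)
  haveI : IsClosedImmersion (((Over.forget S).mapCone cW).π.app j₀ ≫ tV.app j₀) := by
    have sq : IsPullback fstW ((AlgSp.yon S).map (cW.π.app j₀ ≫ ιj j₀ ≫ g₂)) g v := by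
      have h := sqW.paste_vert sq₂
      rw [← Functor.map_comp, hg i₂, Category.assoc] at h
      exact h
    have h1 : IsClosedImmersion (cW.π.app j₀ ≫ ιj j₀ ≫ g₂).left := hX.2 _ _ _ sq
    exact h1
  obtain ⟨j, hj⟩ := Groth.Agent.S0594.result V.left (E ⋙ Over.forget S) tV
    ((Over.forget S).mapCone cW) hcW j₀
  have hj' : IsClosedImmersion (ιj j ≫ g₂).left := hj
  -- descend along the chart
  have sqd : IsPullback (pj j) ((AlgSp.yon S).map (ιj j ≫ g₂)) (t.app j.left) v := by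
    have h := (sqj j).paste_vert sq₂
    rw [← Functor.map_comp] at h
    have e : D.map j.hom ≫ t.app i₂ = t.app j.left :=
      ((t_nat D t j.hom).symm.trans (Category.comp_id _))
    rw [e] at h
    exact h
  have hiff := Groth.Agent.Lib.T2H1.AffDesc.of_chart_of_isLocalOnBase
    (Groth.Agent.S10534.result S) (X := ⟨D.obj j.left, hD j.left⟩) (Y := Y)
    (ObjectProperty.homMk (t.app j.left)) V v hve hvs (pj j)
    ((AlgSp.yon S).map (ιj j ≫ g₂)) sqd
  have hcl : AlgSp.RepWith @IsClosedImmersion (t.app j.left) :=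
    hiff.2 ((AlgSp.repWith_yon_map_iff _ _).2 hj')
  refine ⟨j.left, fun i φ => ?_⟩
  have e : t.app i = D.map φ ≫ t.app j.left := (Category.comp_id _).symm.trans (t_nat D t φ)
  rw [e]
  exact (AlgSp.RepWith @IsClosedImmersion).comp_mem _ _ (hDc i j.left φ) hcl

end

end Groth.Agent.Lib.T2H7.EvClosedBase
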