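import Mathlib
import Groth.Agent.S2076

/-!
# An immersion into a cofiltered limit of schemes with affine transition maps, locally of finite
type over the stages, is an immersion into some stage (helper7)
-/

set_option autoImplicit false
set_option linter.unusedSectionVars false
set_option linter.unusedVariables false
set_option linter.style.haveILetI false
universe u
open CategoryTheory CategoryTheory.Limits AlgebraicGeometry

namespace Groth.Agent.Lib.T2H7.SchImm

/-- a compact open between a compact set and an open set of a scheme. -/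
theorem exists_compact_open_between {X : Scheme.{u}} (K : Set X) (hK : IsCompact K)
    (U₀ : X.Opens) (hKU : K ⊆ U₀) :
    ∃ U : X.Opens, IsCompact (U : Set X) ∧ K ⊆ U ∧ U ≤ U₀ := by
  have hex : ∀ x : K, ∃ W : X.Opens, IsAffineOpen W ∧ (x : X) ∈ W ∧ W ≤ U₀ := by
    intro x
    obtain ⟨W, hW, hxW, hWU⟩ := TopologicalSpace.Opens.isBasis_iff_nbhd.1
      X.isBasis_affineOpens (hKU x.2)
    exact ⟨W, hW, hxW, hWU⟩
  choose W hW hxW hWU using hex
  obtain ⟨t, ht⟩ := hK.elim_finite_subcover (fun x : K => (W x : Set X))
    (fun x => (W x).isOpen) (fun x hx => Set.mem_iUnion.2 ⟨⟨x, hx⟩, hxW ⟨x, hx⟩⟩)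
  refine ⟨⟨⋃ x ∈ t, (W x : Set X), isOpen_biUnion fun x _ => (W x).isOpen⟩, ?_, ht, ?_⟩
  · exact t.isCompact_biUnion fun x _ => (hW x).isCompact
  · intro y hy
    obtain ⟨x, hx, hyx⟩ := Set.mem_iUnion₂.1 hy
    exact hWU x hyx

section

variable {I : Type u} [SmallCategory I] [IsCofiltered I] (D : I ⥤ Scheme.{u}) (c : Cone D)
  (hc : IsLimit c) (i : I) (V : (D.obj i).Opens)

/-- the diagram of preimages of an open of a stage, over that stage. -/
noncomputable def opensOver : Over i ⥤ Over (D.obj i) where
  obj j := Over.mk ((D.map j.hom ⁻¹ᵁ V).ι ≫ D.map j.hom)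
  map {j k} f := Over.homMk ((opensDiagram D i V).map f) (by
    change (D.map f.left).resLE _ _ _ ≫ (D.map k.hom ⁻¹ᵁ V).ι ≫ D.map k.hom = _
    rw [Scheme.Hom.resLE_comp_ι_assoc, ← D.map_comp, Over.w f]
    rfl)
  map_id j := by
    ext1
    exact (opensDiagram D i V).map_id j
  map_comp f g := by
    ext1
    exact (opensDiagram D i V).map_comp f g

/-- the limit cone of the diagram of preimages of an open of a stage. -/
noncomputable def opensOverCone : Cone (opensOver D i V) where
  pt := Over.mk ((c.π.app i ⁻¹ᵁ V).ι ≫ c.π.app i)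
  π :=
    { app := fun j => Over.homMk ((opensCone D c i V).π.app j) (by
        change (c.π.app j.left).resLE _ _ _ ≫ (D.map j.hom ⁻¹ᵁ V).ι ≫ D.map j.hom = _
        rw [Scheme.Hom.resLE_comp_ι_assoc, c.w]
        rfl)
      naturality := fun j k f => by
        ext1
        exact (opensCone D c i V).π.naturality f }

attribute [local instance] IsCofiltered.isConnected in
/-- the cone of preimages of an open of a stage is a limit cone. -/
noncomputable def isLimitOpensOverCone : IsLimit (opensOverCone D c i V) :=
  isLimitOfReflects (Over.forget (D.obj i))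
    (show IsLimit ((Over.forget (D.obj i)).mapCone (opensOverCone D c i V)) from
      isLimitOpensCone D c hc i V)

end

/-- an immersion from a quasi-compact scheme into a cofiltered limit of quasi-compact schemes
with affine transition maps, locally of finite type over the stages, is an immersion into some
stage. -/
theorem exists_isImmersion_stage {I : Type u} [SmallCategory I] [IsCofiltered I]
    (D : I ⥤ Scheme.{u}) (c : Cone D) (hc : IsLimit c)
    [∀ {i j : I} (f : i ⟶ j), IsAffineHom (D.map f)] [∀ i, CompactSpace (D.obj i)]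
    {T : Scheme.{u}} [CompactSpace T] (h : T ⟶ c.pt) [IsImmersion h]
    (hlft : ∀ i, LocallyOfFiniteType (h ≫ c.π.app i)) :
    ∃ i : I, IsImmersion (h ≫ c.π.app i) := by
  -- a compact open `U` with `range h ⊆ U ⊆ coborderRange`
  obtain ⟨U, hUc, hKU, hUU₀⟩ := exists_compact_open_between (Set.range h)
    (isCompact_range h.continuous) h.coborderRange (by
      rintro _ ⟨x, rfl⟩
      have : h x = h.coborderRange.ι (h.liftCoborder x) := by
        rw [← Scheme.Hom.comp_apply, h.liftCoborder_ι]
      rw [this]
      exact (h.liftCoborder x).2)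
  obtain ⟨i, V, hV, rfl⟩ := exists_preimage_eq D c hc U hUc
  -- `h` factors through `U` by a closed immersion
  have hrange : Set.range h ⊆ Set.range (c.π.app i ⁻¹ᵁ V).ι := by
    rw [Scheme.Opens.range_ι]; exact hKU
  let h' : T ⟶ (c.π.app i ⁻¹ᵁ V : c.pt.Opens) := IsOpenImmersion.lift (c.π.app i ⁻¹ᵁ V).ι h hrange
  have hh' : h' ≫ (c.π.app i ⁻¹ᵁ V).ι = h := IsOpenImmersion.lift_fac _ _ _
  have hcl : IsClosedImmersion h' := by
    have hw : h' ≫ c.pt.homOfLE hUU₀ = 𝟙 T ≫ h.liftCoborder := by
      rw [← cancel_mono h.coborderRange.ι, Category.assoc, Scheme.homOfLE_ι, hh', Category.id_comp,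
        h.liftCoborder_ι]
    have sq : IsPullback (𝟙 T) h' h.liftCoborder (c.pt.homOfLE hUU₀) :=
      IsPullback.of_horiz_isIso_mono ⟨hw.symm⟩
    exact MorphismProperty.of_isPullback (P := @IsClosedImmersion) sq inferInstance
  -- apply the closed immersion statement to the system of preimages of `V`
  haveI : ∀ (j k : Over i) (f : j ⟶ k), IsAffineHom ((opensOver D i V).map f).left := fun j k f =>
    inferInstanceAs (IsAffineHom ((opensDiagram D i V).map f))
  haveI : ∀ j : Over i, CompactSpace ((opensOver D i V).obj j).left := fun j =>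
    isCompact_iff_compactSpace.mp
      (QuasiCompact.isCompact_preimage (f := (D.map j.hom)) _ V.2 hV)
  haveI : IsClosedImmersion (show T ⟶ (opensOverCone D c i V).pt.left from h') := hcl
  haveI : LocallyOfFiniteType ((show T ⟶ (opensOverCone D c i V).pt.left from h') ≫
      (opensOverCone D c i V).pt.hom) := by
    have e : (show T ⟶ (opensOverCone D c i V).pt.left from h') ≫
        (opensOverCone D c i V).pt.hom = h ≫ c.π.app i := by
      change h' ≫ (c.π.app i ⁻¹ᵁ V).ι ≫ c.π.app i = _
      rw [reassoc_of% hh']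
    rw [e]; exact hlft i
  obtain ⟨j, hj⟩ := Groth.Agent.S2076.result (D.obj i) (opensOver D i V) (opensOverCone D c i V)
    (isLimitOpensOverCone D c hc i V) (show T ⟶ (opensOverCone D c i V).pt.left from h')
  refine ⟨j.left, ?_⟩
  have e : h ≫ c.π.app j.left =
      (h' ≫ ((opensOverCone D c i V).π.app j).left) ≫ (D.map j.hom ⁻¹ᵁ V).ι := by
    change _ = (h' ≫ (c.π.app j.left).resLE _ _ _) ≫ _
    rw [Category.assoc, Scheme.Hom.resLE_comp_ι, reassoc_of% hh']
  rw [e]
  haveI : IsClosedImmersion (h' ≫ ((opensOverCone D c i V).π.app j).left) := hj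
  have h1 : IsImmersion (h' ≫ ((opensOverCone D c i V).π.app j).left) := inferInstance
  have h2 : IsImmersion (D.map j.hom ⁻¹ᵁ V).ι := inferInstance
  exact MorphismProperty.comp_mem @IsImmersion _ _ h1 h2

end Groth.Agent.Lib.T2H7.SchImm
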