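import Mathlib
import Groth.Agent.Lib.T2H7ChartB
import Groth.Agent.Lib.T2H7SchImm
import Groth.Agent.Lib.T2H7QcOpen
import Groth.Agent.Lib.T2H1AffDesc4
import Groth.Agent.S10538
import Groth.Agent.S10180
import Groth.Agent.S10185
import Groth.Agent.S10194
import Groth.Agent.S9906
import Groth.Agent.S9952

/-!
# An immersion from a quasi-compact space into a limit with affine transition maps, locally of
finite type over the base, is eventually an immersion into the stages (helper7)
-/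

set_option autoImplicit false
set_option linter.unusedSectionVars false
set_option linter.unusedVariables false
set_option linter.style.haveILetI false
universe v u
open CategoryTheory CategoryTheory.Limits AlgebraicGeometry
open AlgSp

namespace Groth.Agent.Lib.T2H7.EvImm

open Groth.Agent.Lib.T2H7.ChartB

/-- a pullback square over `Z'` whose legs factor through a monomorphism `Z ⟶ Z'` is a
pullback square over `Z`. -/
theorem isPullback_of_comp_mono {C : Type u} [Category.{v} C] {P X Y Z Z' : C} {fst : P ⟶ X}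
    {snd : P ⟶ Y} {f : X ⟶ Z'} {g : Y ⟶ Z'} (m : Z ⟶ Z') [Mono m] {f' : X ⟶ Z} {g' : Y ⟶ Z}
    (hf : f' ≫ m = f) (hg : g' ≫ m = g) (sq : IsPullback fst snd f g) :
    IsPullback fst snd f' g' := by
  have hw : fst ≫ f' = snd ≫ g' := by
    rw [← cancel_mono m, Category.assoc, Category.assoc, hf, hg, sq.w]
  have t : IsPullback (𝟙 X) f' f m :=
    IsPullback.of_horiz_isIso_mono ⟨by rw [Category.id_comp, hf]⟩
  refine IsPullback.of_right ?_ hw t
  rw [Category.comp_id, hg]
  exact sq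

variable {S : Scheme.{u}}

/-- the range on points of a map from a scheme is the range of its point map. -/
theorem range_map_eq_range_ofPt {F : AlgSp.Sp S} {U : Over S} (a : (AlgSp.yon S).obj U ⟶ F) :
    Set.range (AlgSp.Points.map a) = Set.range (AlgSp.Points.ofPt a) := by
  ext x
  constructor
  · rintro ⟨p, rfl⟩
    obtain ⟨w, rfl⟩ := (AlgSp.Points.schemeHomeo U).surjective p
    exact ⟨w, AlgSp.Points.ofPt_eq_map_ofScheme a w⟩
  · rintro ⟨w, rfl⟩
    exact ⟨AlgSp.Points.ofScheme U w, (AlgSp.Points.ofPt_eq_map_ofScheme a w).symm⟩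

/-- an affine étale chart of an algebraic space whose image contains the image of a given map
from a quasi-compact space. -/
theorem exists_affine_etale_chart_containing (X₁ Y : AlgSp.Space S)
    (hYqc : AlgSp.IsQuasiCompactSp Y.obj) (f : Y.obj ⟶ X₁.obj) :
    ∃ (U₁ : Over S) (u₁ : (AlgSp.yon S).obj U₁ ⟶ X₁.obj), IsAffine U₁.left ∧
      AlgSp.RepWith @Etale u₁ ∧
      Set.range (AlgSp.Points.map f) ⊆ Set.range (AlgSp.Points.map u₁) := by
  obtain ⟨A, p, hpe, hps⟩ := X₁.property.atlas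
  haveI : CompactSpace (AlgSp.Points Y.obj) := (Groth.Agent.S10174.result Y).1 hYqc
  have hK : IsCompact (Set.range (AlgSp.Points.map f)) :=
    isCompact_range (AlgSp.Points.continuous_map f)
  have hopen := Groth.Agent.S10176.isOpenMap_ofPt p hpe
  -- affine opens of the atlas around preimages of the points of the image
  have hex : ∀ x : Set.range (AlgSp.Points.map f), ∃ W : A.left.Opens, IsAffineOpen W ∧
      (x : AlgSp.Points X₁.obj) ∈ AlgSp.Points.ofPt p '' (W : Set A.left) := by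
    intro x
    obtain ⟨q, hq⟩ := Groth.Agent.S9906.surjective_map_of_repWith p hps x.1
    obtain ⟨a, rfl⟩ := (AlgSp.Points.schemeHomeo A).surjective q
    obtain ⟨W, hW, haW, -⟩ := TopologicalSpace.Opens.isBasis_iff_nbhd.1
      A.left.isBasis_affineOpens (show a ∈ (⊤ : A.left.Opens) from trivial)
    refine ⟨W, hW, a, haW, ?_⟩
    rw [AlgSp.Points.ofPt_eq_map_ofScheme]
    exact hq
  choose W hW hxW using hex
  obtain ⟨t, ht⟩ := hK.elim_finite_subcover
    (fun x : Set.range (AlgSp.Points.map f) => AlgSp.Points.ofPt p '' (W x : Set A.left))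
    (fun x => hopen _ (W x).isOpen) (fun x hx => Set.mem_iUnion.2 ⟨⟨x, hx⟩, hxW ⟨x, hx⟩⟩)
  let O : Set (AlgSp.Points X₁.obj) := ⋃ x ∈ t, AlgSp.Points.ofPt p '' (W x : Set A.left)
  have hO : IsOpen O := isOpen_biUnion fun x _ => hopen _ (W x).isOpen
  have hOc : IsCompact O := t.isCompact_biUnion fun x _ =>
    (hW x).isCompact.image (AlgSp.Points.continuous_ofPt p)
  have hqc := Groth.Agent.Lib.T2H7.QcOpen.isQuasiCompactSp_openSub X₁.property hO hOc
  have halg := Groth.Agent.Lib.Helper12.OpenSub.isAlgSpace_obj X₁.property hO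
  obtain ⟨V, v, hV, hve, hvs⟩ := (Groth.Agent.S10180.result
    (⟨Groth.Agent.Lib.Helper12.OpenSub.obj X₁.obj O, halg⟩ : AlgSp.Space S)).1 hqc
  have hincl := Groth.Agent.Lib.Helper12.OpenSub.repWith_incl (X := X₁.obj) hO
  have hincle : AlgSp.RepWith @Etale (Groth.Agent.Lib.Helper12.OpenSub.incl X₁.obj O) :=
    Groth.Agent.Lib.Helper12.OpenSub.repWith_mono
      (fun _ _ g hg => by haveI : IsOpenImmersion g := hg; exact (inferInstance : Etale g)) hincl
  refine ⟨V, v ≫ Groth.Agent.Lib.Helper12.OpenSub.incl X₁.obj O, hV,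
    (AlgSp.RepWith @Etale).comp_mem _ _ hve hincle, ?_⟩
  intro x hx
  have hxO : x ∈ O := ht hx
  rw [← Groth.Agent.Lib.Helper12.OpenSub.range_map_incl O] at hxO
  obtain ⟨z, rfl⟩ := hxO
  obtain ⟨e, rfl⟩ := Groth.Agent.S9906.surjective_map_of_repWith v hvs z
  exact ⟨e, AlgSp.Points.map_comp _ _ _⟩

section

variable {I : Type u} [SmallCategory I] [IsCofiltered I] (D : I ⥤ AlgSp.Sp S)
  (hD : ∀ i, AlgSp.IsAlgSpace (D.obj i))
  (hDa : ∀ (i j : I) (φ : i ⟶ j), AlgSp.IsAffineMor (D.map φ))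
  (c : Cone D) (hc : IsLimit c)

include hD hDa hc in
/-- an immersion from a quasi-compact algebraic space into the limit, locally of finite type
over the base, is an immersion into all sufficiently small stages. -/
theorem eventually_immersion [QuasiSeparatedSpace S] (B : AlgSp.Space S)
    (t : D ⟶ (Functor.const I).obj B.obj)
    (hqs : ∀ i, AlgSp.IsQuasiSeparatedSp (D.obj i))
    (Y : AlgSp.Space S) (hYqc : AlgSp.IsQuasiCompactSp Y.obj) (y : Y.obj ⟶ c.pt)
    (hy : AlgSp.RepWith @IsImmersion y) (i₁ : I)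
    (hYB : AlgSp.LocP @LocallyOfFiniteType (y ≫ c.π.app i₁ ≫ t.app i₁)) :
    ∃ i₀ : I, ∀ (i : I) (_ : i ⟶ i₀), AlgSp.RepWith @IsImmersion (y ≫ c.π.app i) := by
  obtain ⟨U₁, u₁, hU₁, hu₁e, hrange⟩ := exists_affine_etale_chart_containing
    (⟨D.obj i₁, hD i₁⟩ : AlgSp.Space S) Y hYqc (y ≫ c.π.app i₁)
  obtain ⟨cd, rfl, hcd⟩ := nonempty_chartDataB D hDa c hc i₁ U₁ u₁ hU₁ hu₁e
  have hu : cd.u₁ = u₁ := eq_of_heq hcd
  subst hu
  obtain ⟨YU, k, yU, sqY⟩ := hy.1 cd.fstW
  have hk : IsImmersion k.left := hy.2 _ _ k sqY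
  -- `Y ⟶ D i₁` is locally of finite type
  have hlft1 : AlgSp.LocP @LocallyOfFiniteType (y ≫ c.π.app i₁) := by
    have := Groth.Agent.S9952.result (X := Y) (Y := ⟨D.obj i₁, hD i₁⟩) (Z := B)
      (ObjectProperty.homMk (y ≫ c.π.app i₁)) (ObjectProperty.homMk (t.app i₁))
      (by
        change AlgSp.LocP @LocallyOfFiniteType ((y ≫ c.π.app i₁) ≫ t.app i₁)
        rw [Category.assoc]; exact hYB)
    exact this
  have hyUe : AlgSp.RepWith @Etale yU :=
    MorphismProperty.of_isPullback (P := AlgSp.RepWith @Etale) sqY.flip cd.repWith_etale_fstW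
  have hcomm : yU ≫ (y ≫ c.π.app i₁) = (AlgSp.yon S).map (k ≫ cd.ιW) ≫ cd.u₁ := by
    rw [← Category.assoc, sqY.w, Category.assoc, cd.sqW.w, Functor.map_comp, Category.assoc]
    rfl
  have hlft2 : LocallyOfFiniteType (k ≫ cd.ιW).left :=
    hlft1 yU cd.u₁ (k ≫ cd.ιW) hyUe cd.hu₁e hcomm
  -- the big pullback square `YU = Y ×_{D i₁} U₁`
  have sqbig : IsPullback yU ((AlgSp.yon S).map (k ≫ cd.ιW)) (y ≫ c.π.app i₁) cd.u₁ := by
    have h := sqY.paste_vert cd.sqW
    rw [← Functor.map_comp] at h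
    exact h
  -- `YU` is quasi-compact
  have hYUc : CompactSpace YU.left := by
    obtain ⟨V, v, hV, hve, hvs⟩ := (Groth.Agent.S10180.result Y).1 hYqc
    haveI := hV
    haveI := cd.hU₁
    obtain ⟨P, fst, snd', sqP'⟩ := cd.hu₁e.1 (v ≫ y ≫ c.π.app i₁)
    let snd : P ⟶ cd.U₁ := (AlgSp.yon S).preimage snd'
    have hsnd : (AlgSp.yon S).map snd = snd' := Functor.map_preimage _ _
    have sqP : IsPullback ((AlgSp.yon S).map fst) ((AlgSp.yon S).map snd)
        (v ≫ y ≫ c.π.app i₁) cd.u₁ := by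
      rw [hsnd]; exact sqP'.flip
    haveI : CompactSpace P.left := Groth.Agent.S10185.result
      (⟨D.obj i₁, hD i₁⟩ : AlgSp.Space S) (hqs i₁) V cd.U₁ P (v ≫ y ≫ c.π.app i₁) cd.u₁ fst snd sqP
    have hw : ((AlgSp.yon S).map fst ≫ v) ≫ (y ≫ c.π.app i₁) = (AlgSp.yon S).map snd ≫ cd.u₁ := by
      rw [Category.assoc]; exact sqP.w
    let m : P ⟶ YU := (AlgSp.yon S).preimage (sqbig.lift _ _ hw)
    have hm : (AlgSp.yon S).map m = sqbig.lift _ _ hw := Functor.map_preimage _ _
    have hm1 : (AlgSp.yon S).map m ≫ yU = (AlgSp.yon S).map fst ≫ v := by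
      rw [hm]; exact sqbig.lift_fst _ _ _
    have hm2 : (AlgSp.yon S).map m ≫ (AlgSp.yon S).map (k ≫ cd.ιW) = (AlgSp.yon S).map snd := by
      rw [hm]; exact sqbig.lift_snd _ _ _
    have sqm : IsPullback ((AlgSp.yon S).map m) ((AlgSp.yon S).map fst) yU v := by
      refine IsPullback.of_right ?_ hm1 sqbig.flip
      rw [hm2]
      exact sqP.flip
    haveI : Surjective m.left := hvs.2 _ _ m sqm.flip
    exact ⟨by
      rw [← Set.range_eq_univ.2 m.left.surjective]
      exact isCompact_range m.left.continuous⟩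
  -- the scheme level statement
  haveI : ∀ j : Over i₁, IsAffine ((cd.E ⋙ Over.forget S).obj j) := fun j => cd.haffj j
  haveI : ∀ {j k : Over i₁} (f : j ⟶ k), IsAffineHom ((cd.E ⋙ Over.forget S).map f) :=
    fun f => inferInstance
  haveI : ∀ j : Over i₁, CompactSpace ((cd.E ⋙ Over.forget S).obj j) := fun j => inferInstance
  haveI : IsImmersion (show YU.left ⟶ ((Over.forget S).mapCone cd.cW).pt from k.left) := hk
  have hlft3 : ∀ j : Over i₁, LocallyOfFiniteType
      ((show YU.left ⟶ ((Over.forget S).mapCone cd.cW).pt from k.left) ≫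
        ((Over.forget S).mapCone cd.cW).π.app j) := by
    intro j
    have e : ((show YU.left ⟶ ((Over.forget S).mapCone cd.cW).pt from k.left) ≫
        ((Over.forget S).mapCone cd.cW).π.app j) ≫ (cd.ιj j).left = (k ≫ cd.ιW).left := by
      change (k.left ≫ (cd.cW.π.app j).left) ≫ (cd.ιj j).left = _
      rw [← cd.π_ιj j]
      simp only [Over.comp_left, Category.assoc]
    haveI : LocallyOfFiniteType (((show YU.left ⟶ ((Over.forget S).mapCone cd.cW).pt from k.left) ≫
        ((Over.forget S).mapCone cd.cW).π.app j) ≫ (cd.ιj j).left) := by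
      rw [e]; exact hlft2
    exact locallyOfFiniteType_of_comp _ (cd.ιj j).left
  obtain ⟨j, hj⟩ := Groth.Agent.Lib.T2H7.SchImm.exists_isImmersion_stage (cd.E ⋙ Over.forget S)
    ((Over.forget S).mapCone cd.cW) cd.hcW
    (show YU.left ⟶ ((Over.forget S).mapCone cd.cW).pt from k.left) hlft3
  have hj' : IsImmersion (k ≫ cd.cW.π.app j).left := hj
  refine ⟨j.left, fun i φ => ?_⟩
  let j' : Over i₁ := Over.mk (φ ≫ j.hom)
  let ψ : j' ⟶ j := Over.homMk φ
  have himm : IsImmersion (k ≫ cd.cW.π.app j').left := by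
    have e : (k ≫ cd.cW.π.app j').left ≫ (cd.E.map ψ).left = (k ≫ cd.cW.π.app j).left := by
      rw [← Over.comp_left, Category.assoc, cd.cW.w ψ]
    haveI : IsImmersion ((k ≫ cd.cW.π.app j').left ≫ (cd.E.map ψ).left) := by
      rw [e]; exact hj'
    exact IsImmersion.of_comp (k ≫ cd.cW.π.app j').left (cd.E.map ψ).left
  haveI : IsAffine (cd.E.obj j').left := cd.haffj j'
  have hqc : QuasiCompact (k ≫ cd.cW.π.app j').left := inferInstance
  have sq := cd.isPullback_stage y k yU sqY j'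
  -- the open image of the chart of the stage
  let O : Set (AlgSp.Points (D.obj i)) := Set.range (AlgSp.Points.map (cd.pj j'))
  have hO : IsOpen O := by
    change IsOpen (Set.range (AlgSp.Points.map (cd.pj j')))
    rw [range_map_eq_range_ofPt]
    exact (Groth.Agent.S10176.isOpenMap_ofPt (cd.pj j') (cd.repWith_etale_pj j')).isOpen_range
  have hincl := Groth.Agent.Lib.Helper12.OpenSub.repWith_incl (X := D.obj i) hO
  have halg := Groth.Agent.Lib.Helper12.OpenSub.isAlgSpace_obj (hD i) hO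
  haveI : Mono (Groth.Agent.Lib.Helper12.OpenSub.incl (D.obj i) O) := inferInstance
  obtain ⟨p', hp'⟩ := (Groth.Agent.S10194.exists_factor_iff
    (Groth.Agent.Lib.Helper12.OpenSub.incl (D.obj i) O) hincl (cd.pj j')).2
    (by rw [Groth.Agent.Lib.Helper12.OpenSub.range_map_incl])
  obtain ⟨y', hy'⟩ := (Groth.Agent.S10194.exists_factor_iff
    (Groth.Agent.Lib.Helper12.OpenSub.incl (D.obj i) O) hincl (y ≫ c.π.app i)).2 (by
      rw [Groth.Agent.Lib.Helper12.OpenSub.range_map_incl]
      rintro _ ⟨q, rfl⟩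
      obtain ⟨w', hw'⟩ := hrange ⟨q, rfl⟩
      have e : AlgSp.Points.map (D.map j'.hom) (AlgSp.Points.map (y ≫ c.π.app i) q) =
          AlgSp.Points.map cd.u₁ w' := by
        rw [← AlgSp.Points.map_comp, hw']
        congr 1
        change (y ≫ c.π.app i) ≫ D.map (φ ≫ j.hom) = y ≫ c.π.app i₁
        rw [Category.assoc, c.w]
      obtain ⟨p, hp1, hp2⟩ := Groth.Agent.S10175.exists_point_of_isPullback (cd.sqj j').flip
        w' (AlgSp.Points.map (y ≫ c.π.app i) q) e.symm
      exact ⟨p, hp2⟩)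
  have sq' : IsPullback yU ((AlgSp.yon S).map (k ≫ cd.cW.π.app j')) y' p' :=
    isPullback_of_comp_mono (Groth.Agent.Lib.Helper12.OpenSub.incl (D.obj i) O) hy' hp' sq
  have hp'e : AlgSp.RepWith @Etale p' := by
    have t : IsPullback (𝟙 _) p' (cd.pj j') (Groth.Agent.Lib.Helper12.OpenSub.incl (D.obj i) O) :=
      IsPullback.of_horiz_isIso_mono ⟨by rw [Category.id_comp, hp']⟩
    exact MorphismProperty.of_isPullback (P := AlgSp.RepWith @Etale) t (cd.repWith_etale_pj j')
  have hp's : AlgSp.RepWith @Surjective p' := by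
    refine (Groth.Agent.S9906.repWith_surjective_iff p' hp'e.1).2 ?_
    intro z
    have hz : AlgSp.Points.map (Groth.Agent.Lib.Helper12.OpenSub.incl (D.obj i) O) z ∈ O :=
      (Set.ext_iff.1 (Groth.Agent.Lib.Helper12.OpenSub.range_map_incl O) _).1 ⟨z, rfl⟩
    obtain ⟨e, he⟩ := hz
    refine ⟨e, Groth.Agent.Lib.Helper12.LargestOpen.injective_map_of_open _ hincl ?_⟩
    rw [← AlgSp.Points.map_comp, hp']
    exact he
  have hiff := Groth.Agent.Lib.T2H1.AffDesc.of_chart_of_isLocalOnBase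
    (Groth.Agent.S10538.result S) (X := Y)
    (Y := ⟨Groth.Agent.Lib.Helper12.OpenSub.obj (D.obj i) O, halg⟩)
    (ObjectProperty.homMk y') (cd.E.obj j') p' hp'e hp's yU
    ((AlgSp.yon S).map (k ≫ cd.cW.π.app j')) sq'
  have h1 : AlgSp.RepWith (@IsImmersion ⊓ @QuasiCompact) y' :=
    hiff.2 ((AlgSp.repWith_yon_map_iff _ _).2 ⟨himm, hqc⟩)
  have h2 : AlgSp.RepWith @IsImmersion y' :=
    Groth.Agent.Lib.Helper12.OpenSub.repWith_mono (fun _ _ g hg => hg.1) h1
  have h3 : AlgSp.RepWith @IsImmersion (Groth.Agent.Lib.Helper12.OpenSub.incl (D.obj i) O) :=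
    Groth.Agent.Lib.Helper12.OpenSub.repWith_mono
      (fun _ _ g hg => by haveI : IsOpenImmersion g := hg; exact (inferInstance : IsImmersion g))
      hincl
  rw [← hy']
  exact (AlgSp.RepWith @IsImmersion).comp_mem _ _ h2 h3

end

end Groth.Agent.Lib.T2H7.EvImm
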