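import Mathlib
import Groth.Agent.Lib.T2H7AffSep
import Groth.Agent.Lib.T2H7EvIsoB
import Groth.Agent.S9920
import Groth.Agent.S9960
import Groth.Agent.S9952
import Groth.Agent.S9947

/-!
# A monomorphism into a limit with affine transition maps, locally of finite type over the base,
is eventually a monomorphism into the stages (helper7)
-/

set_option autoImplicit false
set_option linter.unusedSectionVars false
set_option linter.unusedVariables false
set_option linter.style.haveILetI false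
universe u
open CategoryTheory CategoryTheory.Limits AlgebraicGeometry
open AlgSp

namespace Groth.Agent.Lib.T2H7.EvMono

variable {S : Scheme.{u}}

/-- the map `Y ×_P Y ⟶ Y ×_Q Y` induced by a separated morphism `m : P ⟶ Q` is a closed
immersion. -/
theorem repWith_closed_pullback_map {Y P Q : AlgSp.Sp S} (a : Y ⟶ P) (b : Y ⟶ Q) (m : P ⟶ Q)
    (hb : a ≫ m = b) (hm : AlgSp.IsSeparatedMor m) (h1 : a ≫ m = 𝟙 Y ≫ b) :
    AlgSp.RepWith @IsClosedImmersion (pullback.map a a b b (𝟙 Y) (𝟙 Y) m h1 h1) := by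
  subst hb
  have sq := pullback_map_diagonal_isPullback a a m
  exact MorphismProperty.of_isPullback (P := AlgSp.RepWith @IsClosedImmersion) sq hm

section

variable {C : Type*} [Category C] [HasPullbacks C] {W X Y Z S T : C} (f₁ : W ⟶ S) (f₂ : X ⟶ S)
  (g₁ : Y ⟶ T) (g₂ : Z ⟶ T) (i₁ : W ⟶ Y) (i₂ : X ⟶ Z) (i₃ : S ⟶ T)
  (eq₁ : f₁ ≫ i₃ = i₁ ≫ g₁) (eq₂ : f₂ ≫ i₃ = i₂ ≫ g₂)

@[reassoc (attr := simp)]
theorem map_fst' : pullback.map f₁ f₂ g₁ g₂ i₁ i₂ i₃ eq₁ eq₂ ≫ pullback.fst g₁ g₂ =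
    pullback.fst f₁ f₂ ≫ i₁ := pullback.lift_fst _ _ _

@[reassoc (attr := simp)]
theorem map_snd' : pullback.map f₁ f₂ g₁ g₂ i₁ i₂ i₃ eq₁ eq₂ ≫ pullback.snd g₁ g₂ =
    pullback.snd f₁ f₂ ≫ i₂ := pullback.lift_snd _ _ _

end

section

variable {I : Type u} [SmallCategory I] (D : I ⥤ AlgSp.Sp S) (c : Cone D) {Y : AlgSp.Sp S}
  (y : Y ⟶ c.pt)

/-- the system `Y ×_{X_i} Y`. -/
noncomputable def Zsys : I ⥤ AlgSp.Sp S where
  obj i := pullback (y ≫ c.π.app i) (y ≫ c.π.app i)
  map {i j} φ := pullback.map (y ≫ c.π.app i) (y ≫ c.π.app i) (y ≫ c.π.app j) (y ≫ c.π.app j)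
    (𝟙 Y) (𝟙 Y) (D.map φ) (by rw [Category.assoc, c.w, Category.id_comp])
    (by rw [Category.assoc, c.w, Category.id_comp])
  map_id i := by
    apply pullback.hom_ext <;> simp
  map_comp φ ψ := by
    apply pullback.hom_ext <;> simp

/-- the cone with vertex `Y` given by the diagonals. -/
noncomputable def Zcone : Cone (Zsys D c y) where
  pt := Y
  π :=
    { app := fun i => pullback.diagonal (y ≫ c.π.app i)
      naturality := fun i j φ => by
        apply pullback.hom_ext <;> simp [Zsys] }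

/-- the first projection `Y ×_{X_i} Y ⟶ Y`. -/
noncomputable def p1 (i : I) : (Zsys D c y).obj i ⟶ Y := pullback.fst _ _

/-- the second projection `Y ×_{X_i} Y ⟶ Y`. -/
noncomputable def p2 (i : I) : (Zsys D c y).obj i ⟶ Y := pullback.snd _ _

@[reassoc]
theorem map_p1 {i j : I} (φ : i ⟶ j) : (Zsys D c y).map φ ≫ p1 D c y j = p1 D c y i := by
  simp [Zsys, p1]

@[reassoc]
theorem map_p2 {i j : I} (φ : i ⟶ j) : (Zsys D c y).map φ ≫ p2 D c y j = p2 D c y i := by
  simp [Zsys, p2]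

/-- the diagonal `Y ⟶ Y ×_{X_i} Y`. -/
noncomputable def dg (i : I) : Y ⟶ (Zsys D c y).obj i := pullback.diagonal _

@[reassoc]
theorem π_p1 (i : I) : dg D c y i ≫ p1 D c y i = 𝟙 Y :=
  pullback.diagonal_fst _

@[reassoc]
theorem π_p2 (i : I) : dg D c y i ≫ p2 D c y i = 𝟙 Y :=
  pullback.diagonal_snd _

theorem p_cond (i : I) : p1 D c y i ≫ y ≫ c.π.app i = p2 D c y i ≫ y ≫ c.π.app i :=
  pullback.condition

theorem Z_hom_ext {T : AlgSp.Sp S} {i : I} (f g : T ⟶ (Zsys D c y).obj i)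
    (h1 : f ≫ p1 D c y i = g ≫ p1 D c y i) (h2 : f ≫ p2 D c y i = g ≫ p2 D c y i) : f = g :=
  pullback.hom_ext h1 h2

/-- for a monomorphism `y` into the limit, `Y` is the limit of the system `Y ×_{X_i} Y`. -/
noncomputable def isLimitZcone [IsCofiltered I] (hc : IsLimit c) [Mono y] :
    IsLimit (Zcone D c y) := by
  have hfst : ∀ (s : Cone (Zsys D c y)) {i j : I} (φ : i ⟶ j),
      s.π.app i ≫ p1 D c y i = s.π.app j ≫ p1 D c y j := by
    intro s i j φ
    rw [← s.w φ, Category.assoc, map_p1]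
  have hsnd : ∀ (s : Cone (Zsys D c y)) {i j : I} (φ : i ⟶ j),
      s.π.app i ≫ p2 D c y i = s.π.app j ≫ p2 D c y j := by
    intro s i j φ
    rw [← s.w φ, Category.assoc, map_p2]
  have hfst' : ∀ (s : Cone (Zsys D c y)) (i j : I),
      s.π.app i ≫ p1 D c y i = s.π.app j ≫ p1 D c y j := by
    intro s i j
    rw [← hfst s (IsCofiltered.minToLeft i j), ← hfst s (IsCofiltered.minToRight i j)]
  have hsnd' : ∀ (s : Cone (Zsys D c y)) (i j : I),
      s.π.app i ≫ p2 D c y i = s.π.app j ≫ p2 D c y j := by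
    intro s i j
    rw [← hsnd s (IsCofiltered.minToLeft i j), ← hsnd s (IsCofiltered.minToRight i j)]
  have heq : ∀ (s : Cone (Zsys D c y)) (i : I),
      s.π.app i ≫ p1 D c y i = s.π.app i ≫ p2 D c y i := by
    intro s i
    rw [← cancel_mono y]
    apply hc.hom_ext
    intro j
    rw [hfst' s i j, hsnd' s i j, Category.assoc, Category.assoc, Category.assoc, Category.assoc,
      p_cond]
  let i₀ : I := (IsCofiltered.nonempty (C := I)).some
  refine
    { lift := fun s => s.π.app i₀ ≫ p1 D c y i₀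
      fac := fun s i => ?_
      uniq := fun s m hm => ?_ }
  · show (s.π.app i₀ ≫ p1 D c y i₀) ≫ dg D c y i = s.π.app i
    apply Z_hom_ext
    · rw [Category.assoc, π_p1, Category.comp_id, hfst' s i₀ i]
    · rw [Category.assoc, π_p2, Category.comp_id, heq s i₀, hsnd' s i₀ i]
  · have hm' : (show s.pt ⟶ Y from m) ≫ dg D c y i₀ = s.π.app i₀ := hm i₀
    show (show s.pt ⟶ Y from m) = s.π.app i₀ ≫ p1 D c y i₀
    rw [← hm', Category.assoc, π_p1, Category.comp_id]

end

section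

variable {I : Type u} [SmallCategory I] [IsCofiltered I] (D : I ⥤ AlgSp.Sp S)
  (hD : ∀ i, AlgSp.IsAlgSpace (D.obj i))
  (hDa : ∀ (i j : I) (φ : i ⟶ j), AlgSp.IsAffineMor (D.map φ))
  (c : Cone D) (hc : IsLimit c)

include hD hDa hc in
/-- a monomorphism from a quasi-compact space into the limit, locally of finite type over the
base, is a monomorphism into all sufficiently small stages. -/
theorem eventually_mono [QuasiSeparatedSpace S] (B : AlgSp.Space S)
    (t : D ⟶ (Functor.const I).obj B.obj) (hqs : ∀ i, AlgSp.IsQuasiSeparatedSp (D.obj i))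
    (Y : AlgSp.Space S) (hYqc : AlgSp.IsQuasiCompactSp Y.obj) (y : Y.obj ⟶ c.pt) [Mono y] (i₁ : I)
    (hYB : AlgSp.LocP @LocallyOfFiniteType (y ≫ c.π.app i₁ ≫ t.app i₁)) :
    ∃ i₀ : I, ∀ (i : I) (_ : i ⟶ i₀), Mono (y ≫ c.π.app i) := by
  let F : Over i₁ ⥤ I := Over.forget i₁
  let Z' : Over i₁ ⥤ AlgSp.Sp S := F ⋙ Zsys D c y
  let cZ' : Cone Z' := (Zcone D c y).whisker F
  have hlim : IsLimit cZ' :=
    (Functor.Initial.isLimitWhiskerEquiv F (Zcone D c y)).symm (isLimitZcone D c y hc)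
  have hZalg : ∀ i, AlgSp.IsAlgSpace ((Zsys D c y).obj i) := fun i =>
    Groth.Agent.S9874.isAlgSpace_of_isPullback (hD i).diag Y.property Y.property
      (IsPullback.of_hasPullback (y ≫ c.π.app i) (y ≫ c.π.app i))
  have hDc' : ∀ (j k : Over i₁) (ψ : j ⟶ k), AlgSp.RepWith @IsClosedImmersion (Z'.map ψ) := by
    intro j k ψ
    exact repWith_closed_pullback_map (y ≫ c.π.app j.left) (y ≫ c.π.app k.left) (D.map ψ.left)
      (by rw [Category.assoc, c.w])
      (Groth.Agent.Lib.T2H7.AffSep.isSeparatedMor_of_isAffineMor (hD j.left).diag _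
        (hDa _ _ ψ.left)) (by rw [Category.assoc, c.w, Category.id_comp])
  let B' : AlgSp.Space S := ⟨(Zsys D c y).obj i₁, hZalg i₁⟩
  let t' : Z' ⟶ (Functor.const (Over i₁)).obj B'.obj :=
    { app := fun j => (Zsys D c y).map j.hom
      naturality := fun j k ψ => by
        change (Zsys D c y).map ψ.left ≫ (Zsys D c y).map k.hom = (Zsys D c y).map j.hom ≫ 𝟙 _
        rw [← Functor.map_comp, Over.w ψ, Category.comp_id] }
  let j₀ : Over i₁ := Over.mk (𝟙 i₁)
  have hlft1 : AlgSp.LocP @LocallyOfFiniteType (y ≫ c.π.app i₁) := by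
    have := Groth.Agent.S9952.result (X := Y) (Y := ⟨D.obj i₁, hD i₁⟩) (Z := B)
      (ObjectProperty.homMk (y ≫ c.π.app i₁)) (ObjectProperty.homMk (t.app i₁))
      (by
        change AlgSp.LocP @LocallyOfFiniteType ((y ≫ c.π.app i₁) ≫ t.app i₁)
        rw [Category.assoc]; exact hYB)
    exact this
  have hqc : AlgSp.IsQuasiCompactSp (Z'.obj j₀) := by
    have hqcm := Groth.Agent.S9920.result (X := Y) (Y := ⟨D.obj i₁, hD i₁⟩)
      (ObjectProperty.homMk (y ≫ c.π.app i₁)) hYqc (hqs i₁)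
    exact hqcm Y.property hYqc (y ≫ c.π.app i₁) _ _
      (IsPullback.of_hasPullback (y ≫ c.π.app i₁) (y ≫ c.π.app i₁))
  have hid : (Zsys D c y).map (𝟙 i₁) = 𝟙 _ := (Zsys D c y).map_id i₁
  have hft : AlgSp.LocP @LocallyOfFiniteType (t'.app j₀) := by
    change AlgSp.LocP @LocallyOfFiniteType ((Zsys D c y).map (𝟙 i₁))
    rw [hid]
    exact Groth.Agent.S9947.locP_of_repWith_etale @LocallyOfFiniteType
      (fun g hg => by haveI : Etale g := hg; infer_instance) _
      ((AlgSp.RepWith (S := S) @Etale).id_mem _)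
  have hX : AlgSp.LocP @LocallyOfFinitePresentation (cZ'.π.app j₀ ≫ t'.app j₀) := by
    change AlgSp.LocP @LocallyOfFinitePresentation
      (pullback.diagonal (y ≫ c.π.app i₁) ≫ (Zsys D c y).map (𝟙 i₁))
    rw [hid]
    have := (Groth.Agent.S9960.result (X := Y) (Y := ⟨D.obj i₁, hD i₁⟩)
      (ObjectProperty.homMk (y ≫ c.π.app i₁)) hlft1).1
    have e : pullback.diagonal (y ≫ c.π.app i₁) ≫ 𝟙 ((Zsys D c y).obj i₁) =
        pullback.diagonal (y ≫ c.π.app i₁) := Category.comp_id _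
    rw [e]
    exact this
  obtain ⟨j, hj⟩ := Groth.Agent.Lib.T2H7.EvIsoB.eventually_isIso Z' (fun j => hZalg j.left) hDc' cZ'
    hlim B' t' j₀ hqc hft hX
  refine ⟨j.left, fun i φ => ?_⟩
  have h := hj (Over.mk (φ ≫ j.hom)) (Over.homMk φ)
  have h' : IsIso (pullback.diagonal (y ≫ c.π.app i)) := h
  exact (pullback.isIso_diagonal_iff _).1 h'

end

end Groth.Agent.Lib.T2H7.EvMono
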