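import Mathlib
import Groth.Prelude.Def_AlgSp4

/-!
# Restarting a limit descent problem at a later stage (helper7)
-/

set_option autoImplicit false
set_option linter.unusedSectionVars false
set_option linter.unusedVariables false
set_option linter.style.haveILetI false
universe v u
open CategoryTheory CategoryTheory.Limits AlgebraicGeometry
open AlgSp

namespace Groth.Agent.Lib.T2H7.LimRestart

section generic

variable {C : Type u} [Category.{v} C] [HasPullbacks C]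

/-- a tower of base changes of `f₀ : X₀ ⟶ Y₀ ⟶ B₀` along `T ⟶ B₁ ⟶ B₀` is a tower of base
changes of the canonical base change to `B₁` along `T ⟶ B₁`. -/
theorem exists_restart {B₀ B₁ T X₀ Y₀ X Y : C} (m : B₁ ⟶ B₀) (t' : T ⟶ B₁) (t : T ⟶ B₀)
    (ht : t' ≫ m = t) (f₀ : X₀ ⟶ Y₀) (b₀ : Y₀ ⟶ B₀) {f : X ⟶ Y} {pY : Y ⟶ Y₀} {qY : Y ⟶ T}
    (hY : IsPullback pY qY b₀ t) {pX : X ⟶ X₀} (hX : IsPullback pX f f₀ pY) :
    ∃ (pY' : Y ⟶ pullback b₀ m) (pX' : X ⟶ pullback f₀ (pullback.fst b₀ m)),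
      IsPullback pY' qY (pullback.snd b₀ m) t' ∧
      IsPullback pX' f (pullback.snd f₀ (pullback.fst b₀ m)) pY' ∧
      pY' ≫ pullback.fst b₀ m = pY ∧ pX' ≫ pullback.fst f₀ (pullback.fst b₀ m) = pX := by
  have hw : pY ≫ b₀ = (qY ≫ t') ≫ m := by
    rw [Category.assoc, ht]; exact hY.w
  let pY' : Y ⟶ pullback b₀ m := pullback.lift pY (qY ≫ t') hw
  have h1 : pY' ≫ pullback.fst b₀ m = pY := pullback.lift_fst _ _ _
  have h2 : pY' ≫ pullback.snd b₀ m = qY ≫ t' := pullback.lift_snd _ _ _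
  have s1 : IsPullback pY' qY (pullback.snd b₀ m) t' := by
    refine IsPullback.of_right ?_ h2 (IsPullback.of_hasPullback b₀ m)
    rw [h1, ht]
    exact hY
  have hw2 : pX ≫ f₀ = (f ≫ pY') ≫ pullback.fst b₀ m := by
    rw [Category.assoc, h1]; exact hX.w
  let pX' : X ⟶ pullback f₀ (pullback.fst b₀ m) := pullback.lift pX (f ≫ pY') hw2
  have h3 : pX' ≫ pullback.fst f₀ (pullback.fst b₀ m) = pX := pullback.lift_fst _ _ _
  have h4 : pX' ≫ pullback.snd f₀ (pullback.fst b₀ m) = f ≫ pY' := pullback.lift_snd _ _ _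
  refine ⟨pY', pX', s1, ?_, h1, h3⟩
  refine IsPullback.of_right ?_ h4 (IsPullback.of_hasPullback f₀ (pullback.fst b₀ m))
  rw [h3, h1]
  exact hX

end generic

variable {S : Scheme.{u}}

/-- if, after restarting at a stage `i`, all base changes to a further stage have `Q`, then all
base changes of the original morphism to that stage have `Q`. -/
theorem restart_stage {I : Type u} [SmallCategory I] (D : I ⥤ AlgSp.Sp S) {i₀ i : I}
    (φ : i ⟶ i₀) {X₀ Y₀ : AlgSp.Sp S} (f₀ : X₀ ⟶ Y₀) (b₀ : Y₀ ⟶ D.obj i₀)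
    (Q : MorphismProperty (AlgSp.Sp S))
    (H : ∃ (j : I) (ψ : j ⟶ i), ∀ (Xj Yj : AlgSp.Sp S) (fj : Xj ⟶ Yj)
      (pYj : Yj ⟶ pullback b₀ (D.map φ)) (qYj : Yj ⟶ D.obj j)
      (_ : IsPullback pYj qYj (pullback.snd b₀ (D.map φ)) (D.map ψ))
      (pXj : Xj ⟶ pullback f₀ (pullback.fst b₀ (D.map φ)))
      (_ : IsPullback pXj fj (pullback.snd f₀ (pullback.fst b₀ (D.map φ))) pYj), Q fj) :
    ∃ (j : I) (φ' : j ⟶ i₀), ∀ (Xj Yj : AlgSp.Sp S) (fj : Xj ⟶ Yj) (pYj : Yj ⟶ Y₀)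
      (qYj : Yj ⟶ D.obj j) (_ : IsPullback pYj qYj b₀ (D.map φ')) (pXj : Xj ⟶ X₀)
      (_ : IsPullback pXj fj f₀ pYj), Q fj := by
  obtain ⟨j, ψ, H⟩ := H
  refine ⟨j, ψ ≫ φ, fun Xj Yj fj pYj qYj hYj pXj hXj => ?_⟩
  obtain ⟨pY', pX', s1, s2, -, -⟩ := exists_restart (D.map φ) (D.map ψ) (D.map (ψ ≫ φ))
    (D.map_comp ψ φ).symm f₀ b₀ hYj hXj
  exact H _ _ _ pY' qYj s1 pX' s2

end Groth.Agent.Lib.T2H7.LimRestart
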