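import Mathlib
import Groth.Agent.Lib.T2H7EvClosedBase
import Groth.Agent.Lib.T2H7EvMono
import Groth.Agent.Lib.T2H7EvImm
import Groth.Agent.S10184
import Groth.Agent.S10185
import Groth.Agent.Lib.T2H7LimDescE
import Groth.Agent.S10019
import Groth.Agent.S9900
import Groth.Agent.S9984

/-!
# A limit with affine transition maps which is separated over a base eventually consists of
spaces separated over the base (helper7)
-/

set_option autoImplicit false
set_option linter.unusedSectionVars false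
set_option linter.unusedVariables false
set_option linter.style.haveILetI false
universe v u
open CategoryTheory CategoryTheory.Limits AlgebraicGeometry
open AlgSp

namespace Groth.Agent.Lib.T2H7.EvSep

/-- `X ×_{X_i} X ⟶ X ×_Y X` is the base change of the diagonal of `X_i ⟶ Y`. -/
theorem isPullback_diag_bc {C : Type u} [Category.{v} C] [HasPullbacks C] {X Xi Y : C}
    (π : X ⟶ Xi) (ti : Xi ⟶ Y) (g : X ⟶ Y) (hg : π ≫ ti = g)
    (k : pullback π π ⟶ pullback g g) (hk1 : k ≫ pullback.fst g g = pullback.fst π π)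
    (hk2 : k ≫ pullback.snd g g = pullback.snd π π) (h1 : g ≫ 𝟙 Y = π ≫ ti) :
    IsPullback (pullback.fst π π ≫ π) k (pullback.diagonal ti)
      (pullback.map g g ti ti π π (𝟙 Y) h1 h1) := by
  subst hg
  exact Groth.Agent.Lib.T2H7.AffQcqs.isPullback_diagonal_of_isPullback
    (IsPullback.of_hasPullback π π) (IsPullback.of_hasPullback (π ≫ ti) (π ≫ ti)) k hk1 hk2

variable {S : Scheme.{u}}

section

open Groth.Agent.Lib.T2H7.SelfProd

variable {I : Type u} [SmallCategory I] (D : I ⥤ AlgSp.Sp S)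
  (hDa : ∀ (i j : I) (φ : i ⟶ j), AlgSp.IsAffineMor (D.map φ))

include hDa in
/-- the transition maps of the system `X_i ×_Y X_i` are affine. -/
theorem isAffineMor_Zs_map {Y : AlgSp.Sp S} (t : D ⟶ (Functor.const I).obj Y) {i j : I}
    (φ : i ⟶ j) : AlgSp.IsAffineMor ((Zs D t).map φ) := by
  have h2 : t.app i ≫ 𝟙 Y = 𝟙 (D.obj i) ≫ t.app i := by simp
  have h3 : t.app j ≫ 𝟙 Y = 𝟙 (D.obj j) ≫ t.app j := by simp
  change AlgSp.IsAffineMor (pullback.map (t.app i) (t.app i) (t.app j) (t.app j) (D.map φ)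
    (D.map φ) (𝟙 Y) (t_nat D t φ) (t_nat D t φ))
  rw [map_eq_comp (D.map φ) (t.app i) (t.app j) (t_nat D t φ) h2 h3]
  refine Groth.Agent.Lib.T2H7.EvMonoBase.isAffineMor_comp _ _ ?_ ?_
  · exact Groth.Agent.Lib.T2H7.AffQcqs.isAffineMor_of_isPullback
      (isPullback_map_left (D.map φ) (t.app i) (t.app j) (t.app i) (t_nat D t φ) h2)
      (hDa i j φ)
  · exact Groth.Agent.Lib.T2H7.AffQcqs.isAffineMor_of_isPullback
      (isPullback_map_right (D.map φ) (t.app i) (t.app j) (t.app j) h3 (t_nat D t φ))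
      (hDa i j φ)

end

section

open Groth.Agent.Lib.T2H7.EvMono

variable {I : Type u} [SmallCategory I] [IsCofiltered I] (D : I ⥤ AlgSp.Sp S)
  (hD : ∀ i, AlgSp.IsAlgSpace (D.obj i))
  (hDa : ∀ (i j : I) (φ : i ⟶ j), AlgSp.IsAffineMor (D.map φ))
  (c : Cone D) (hc : IsLimit c)

include hD hDa hc in
/-- the case of a quasi-compact quasi-separated base. -/
theorem eventually_separated_base_qc [QuasiSeparatedSpace S] (Y : AlgSp.Space S)
    (t : D ⟶ (Functor.const I).obj Y.obj) (g : c.pt ⟶ Y.obj)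
    (hg : ∀ i, c.π.app i ≫ t.app i = g)
    (hqc : ∀ i, AlgSp.IsQuasiCompactSp (D.obj i)) (hqs : ∀ i, AlgSp.IsQuasiSeparatedSp (D.obj i))
    (hYqc : AlgSp.IsQuasiCompactSp Y.obj) (hYqs : AlgSp.IsQuasiSeparatedSp Y.obj)
    (hX : AlgSp.IsSeparatedMor g) :
    ∃ i₀ : I, ∀ (i : I) (_ : i ⟶ i₀), AlgSp.IsSeparatedMor (t.app i) := by
  have hptalg : AlgSp.IsAlgSpace c.pt :=
    Groth.Agent.Lib.T2H1.LimAffine.isAlgSpace_pt D hDa c hc hD
  obtain ⟨i₀⟩ := IsCofiltered.nonempty (C := I)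
  haveI : Nonempty I := ⟨i₀⟩
  let Xs : AlgSp.Space S := ⟨c.pt, hptalg⟩
  have hπaff : ∀ i, AlgSp.IsAffineMor (c.π.app i) :=
    Groth.Agent.Lib.T2H1.LimAffine.isAffineMor_π D hDa c hc
  have hXqc : AlgSp.IsQuasiCompactSp c.pt :=
    Groth.Agent.Lib.T2H7.AffQcqs.isQuasiCompactSp_of_isAffineMor Xs ⟨D.obj i₀, hD i₀⟩
      (c.π.app i₀) (hπaff i₀) (hqc i₀)
  have hXqs : AlgSp.IsQuasiSeparatedSp c.pt :=
    Groth.Agent.Lib.T2H7.AffQcqs.isQuasiSeparatedSp_of_isAffineMor Xs ⟨D.obj i₀, hD i₀⟩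
      (c.π.app i₀) (hπaff i₀) (hqs i₀)
  have hsepD : ∀ {i j : I} (φ : i ⟶ j), AlgSp.IsSeparatedMor (D.map φ) := fun {i j} φ =>
    Groth.Agent.Lib.T2H7.AffSep.isSeparatedMor_of_isAffineMor (hD i).diag _ (hDa i j φ)
  -- the spaces `Z_i = X_i ×_Y X_i`
  have hZalg : ∀ i, AlgSp.IsAlgSpace ((SelfProd.Zs D t).obj i) := fun i =>
    Groth.Agent.S9874.isAlgSpace_of_isPullback Y.property.diag (hD i) (hD i)
      (IsPullback.of_hasPullback (t.app i) (t.app i))
  have hZq : ∀ i, AlgSp.IsQuasiCompactSp ((SelfProd.Zs D t).obj i) ∧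
      AlgSp.IsQuasiSeparatedSp ((SelfProd.Zs D t).obj i) := fun i =>
    Groth.Agent.S9921.result (X := ⟨D.obj i, hD i⟩) (Y := Y) (Z := ⟨D.obj i, hD i⟩)
      (P := ⟨(SelfProd.Zs D t).obj i, hZalg i⟩)
      (ObjectProperty.homMk (t.app i)) (ObjectProperty.homMk (t.app i))
      (ObjectProperty.homMk (pullback.fst (t.app i) (t.app i)))
      (ObjectProperty.homMk (pullback.snd (t.app i) (t.app i)))
      (IsPullback.of_hasPullback (t.app i) (t.app i))
      ⟨hqc i, hqs i⟩ ⟨hYqc, hYqs⟩ ⟨hqc i, hqs i⟩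
  have hΔlft : ∀ i, AlgSp.LocP @LocallyOfFiniteType (pullback.diagonal (t.app i)) := fun i => by
    have h9900 := Groth.Agent.S9900.result (X := ⟨D.obj i, hD i⟩) (Y := Y)
      (ObjectProperty.homMk (t.app i))
    exact (Groth.Agent.S9948.result @LocallyOfFiniteType (Or.inl rfl)
      (X := ⟨D.obj i, hD i⟩) (Y := ⟨(SelfProd.Zs D t).obj i, hZalg i⟩)
      (ObjectProperty.homMk (pullback.diagonal (t.app i))) h9900.1).2 h9900.2.1
  -- the space `X ×_Y X`
  have hY'alg : AlgSp.IsAlgSpace (pullback g g) :=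
    Groth.Agent.S9874.isAlgSpace_of_isPullback Y.property.diag hptalg hptalg
      (IsPullback.of_hasPullback g g)
  let Y' : AlgSp.Space S := ⟨pullback g g, hY'alg⟩
  have hY'q := Groth.Agent.S9921.result (X := Xs) (Y := Y) (Z := Xs) (P := Y')
    (ObjectProperty.homMk g) (ObjectProperty.homMk g)
    (ObjectProperty.homMk (pullback.fst g g)) (ObjectProperty.homMk (pullback.snd g g))
    (IsPullback.of_hasPullback g g) ⟨hXqc, hXqs⟩ ⟨hYqc, hYqs⟩ ⟨hXqc, hXqs⟩
  -- the system `P_i = X ×_{X_i} X`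
  obtain ⟨y, hy⟩ : ∃ y : c.pt ⟶ c.pt, y = 𝟙 c.pt := ⟨_, rfl⟩
  haveI : Mono y := by rw [hy]; infer_instance
  have hyπ : ∀ i, y ≫ c.π.app i = c.π.app i := fun i => by rw [hy, Category.id_comp]
  have hPalg : ∀ i, AlgSp.IsAlgSpace ((Zsys D c y).obj i) := fun i =>
    Groth.Agent.S9874.isAlgSpace_of_isPullback (hD i).diag hptalg hptalg
      (IsPullback.of_hasPullback (y ≫ c.π.app i) (y ≫ c.π.app i))
  have hPq : ∀ i, AlgSp.IsQuasiCompactSp ((Zsys D c y).obj i) ∧
      AlgSp.IsQuasiSeparatedSp ((Zsys D c y).obj i) := fun i =>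
    Groth.Agent.S9921.result (X := Xs) (Y := ⟨D.obj i, hD i⟩) (Z := Xs)
      (P := ⟨(Zsys D c y).obj i, hPalg i⟩)
      (ObjectProperty.homMk (y ≫ c.π.app i)) (ObjectProperty.homMk (y ≫ c.π.app i))
      (ObjectProperty.homMk (pullback.fst (y ≫ c.π.app i) (y ≫ c.π.app i)))
      (ObjectProperty.homMk (pullback.snd (y ≫ c.π.app i) (y ≫ c.π.app i)))
      (IsPullback.of_hasPullback (y ≫ c.π.app i) (y ≫ c.π.app i))
      ⟨hXqc, hXqs⟩ ⟨hqc i, hqs i⟩ ⟨hXqc, hXqs⟩
  have hPc : ∀ (i j : I) (φ : i ⟶ j), AlgSp.RepWith @IsClosedImmersion ((Zsys D c y).map φ) :=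
    fun i j φ => repWith_closed_pullback_map (y ≫ c.π.app i) (y ≫ c.π.app j) (D.map φ)
      (by rw [Category.assoc, c.w]) (hsepD φ) (by rw [Category.assoc, c.w, Category.id_comp])
  have hyg : ∀ i, (y ≫ c.π.app i) ≫ t.app i = g := fun i => by
    rw [hyπ i, hg i]
  have hcondP : ∀ i, p1 D c y i ≫ g = p2 D c y i ≫ g := by
    intro i
    have h := p_cond D c y i
    rw [← hyg i, ← Category.assoc (p1 D c y i), ← Category.assoc (p2 D c y i), h]
  let tP : ∀ i, (Zsys D c y).obj i ⟶ pullback g g := fun i =>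
    pullback.lift (p1 D c y i) (p2 D c y i) (hcondP i)
  have htP1 : ∀ i, tP i ≫ pullback.fst g g = p1 D c y i := fun i => pullback.lift_fst _ _ _
  have htP2 : ∀ i, tP i ≫ pullback.snd g g = p2 D c y i := fun i => pullback.lift_snd _ _ _
  let t' : Zsys D c y ⟶ (Functor.const I).obj Y'.obj :=
    { app := tP
      naturality := fun i j φ => by
        change (Zsys D c y).map φ ≫ tP j = tP i ≫ 𝟙 _
        rw [Category.comp_id]
        apply pullback.hom_ext
        · rw [Category.assoc, htP1, htP1, map_p1]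
        · rw [Category.assoc, htP2, htP2, map_p2] }
  have hg' : ∀ i, (Zcone D c y).π.app i ≫ t'.app i = pullback.diagonal g := by
    intro i
    change dg D c y i ≫ tP i = _
    apply pullback.hom_ext
    · rw [Category.assoc, htP1, π_p1, pullback.diagonal_fst]
    · rw [Category.assoc, htP2, π_p2, pullback.diagonal_snd]
  -- `P_i ⟶ X ×_Y X` is the base change of the diagonal of `X_i ⟶ Y`
  have hgn : ∀ i, g ≫ 𝟙 Y.obj = (y ≫ c.π.app i) ≫ t.app i := fun i => by
    rw [hyg i]; exact Category.comp_id _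
  have sqP : ∀ i, IsPullback (p1 D c y i ≫ y ≫ c.π.app i) (tP i) (pullback.diagonal (t.app i))
      (pullback.map g g (t.app i) (t.app i) (y ≫ c.π.app i) (y ≫ c.π.app i) (𝟙 Y.obj)
        (hgn i) (hgn i)) := fun i =>
    isPullback_diag_bc (y ≫ c.π.app i) (t.app i) g (hyg i) (tP i) (htP1 i) (htP2 i) (hgn i)
  have hmapeq : ∀ i, pullback.map g g (t.app i) (t.app i) (y ≫ c.π.app i) (y ≫ c.π.app i)
      (𝟙 Y.obj) (hgn i) (hgn i) = (SelfProd.Zc D t c g hg).π.app i := by
    intro i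
    apply pullback.hom_ext
    · change _ = (SelfProd.Zc D t c g hg).π.app i ≫ SelfProd.p1 D t i
      rw [SelfProd.π_p1, pullback.lift_fst, hyπ i]
      rfl
    · change _ = (SelfProd.Zc D t c g hg).π.app i ≫ SelfProd.p2 D t i
      rw [SelfProd.π_p2, pullback.lift_snd, hyπ i]
      rfl
  have hft' : ∀ i, AlgSp.LocP @LocallyOfFiniteType (t'.app i) := fun i =>
    Groth.Agent.S9984.result @LocallyOfFiniteType (Or.inl rfl)
      (X := ⟨D.obj i, hD i⟩) (Y := ⟨(SelfProd.Zs D t).obj i, hZalg i⟩) (Y' := Y')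
      (X' := ⟨(Zsys D c y).obj i, hPalg i⟩)
      (ObjectProperty.homMk (pullback.diagonal (t.app i)))
      (ObjectProperty.homMk (pullback.map g g (t.app i) (t.app i) (y ≫ c.π.app i)
        (y ≫ c.π.app i) (𝟙 Y.obj) (hgn i) (hgn i)))
      (ObjectProperty.homMk (p1 D c y i ≫ y ≫ c.π.app i)) (ObjectProperty.homMk (tP i))
      (sqP i) (hΔlft i)
  -- the closed immersion `P_i ⟶ X ×_Y X` for small `i`
  obtain ⟨i₁, hi₁⟩ := Groth.Agent.Lib.T2H7.EvClosedBase.eventually_closedImmersion_base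
    (Zsys D c y) hPalg hPc (Zcone D c y) (isLimitZcone D c y hc) Y' t' (pullback.diagonal g) hg'
    (fun i => (hPq i).1) (fun i => (hPq i).2) hY'q.1 hY'q.2 hft' hX
  have hcl₁ : AlgSp.RepWith @IsClosedImmersion (tP i₁) := hi₁ i₁ (𝟙 _)
  -- descend the closed immersion to a stage of the system `Z_j`
  have sqP₁ : IsPullback (p1 D c y i₁ ≫ y ≫ c.π.app i₁) (tP i₁) (pullback.diagonal (t.app i₁))
      ((SelfProd.Zc D t c g hg).π.app i₁) := by
    rw [← hmapeq i₁]; exact sqP i₁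
  obtain ⟨j, φ, H⟩ := Groth.Agent.S10019.result S (SelfProd.Zs D t) hZalg
    (fun i j φ => isAffineMor_Zs_map D hDa t φ) (SelfProd.Zc D t c g hg) (SelfProd.isLimitZc D t c g hg hc) i₁
    (hZq i₁).1 (hZq i₁).2 ⟨D.obj i₁, hD i₁⟩ ⟨(SelfProd.Zs D t).obj i₁, hZalg i₁⟩
    (pullback.diagonal (t.app i₁)) (𝟙 _) (hqc i₁) (hqs i₁) (hZq i₁).1 (hZq i₁).2
    ((Zsys D c y).obj i₁) (pullback g g) (tP i₁) ((SelfProd.Zc D t c g hg).π.app i₁) (𝟙 _)
    (IsPullback.id_vert _) (p1 D c y i₁ ≫ y ≫ c.π.app i₁) sqP₁ hcl₁ (hΔlft i₁)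
  refine ⟨j, fun k ψ => ?_⟩
  have H' := Groth.Agent.Lib.T2H7.LimDescE.shrink_index (SelfProd.Zs D t) hZalg φ ψ
    ⟨D.obj i₁, hD i₁⟩ ⟨(SelfProd.Zs D t).obj i₁, hZalg i₁⟩ (pullback.diagonal (t.app i₁)) (𝟙 _)
    (AlgSp.RepWith @IsClosedImmersion)
    (fun A B A' B' _ _ _ _ f g' fst f' sq hf =>
      MorphismProperty.of_isPullback (P := AlgSp.RepWith @IsClosedImmersion) sq hf) H
  -- the base change of the diagonal of `X_{i₁} ⟶ Y` to `Z_k`
  let χ : k ⟶ i₁ := ψ ≫ φ
  have hχ : D.map χ ≫ t.app i₁ = t.app k := (SelfProd.t_nat D t χ).symm.trans (Category.comp_id _)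
  have hkn : t.app k ≫ 𝟙 Y.obj = D.map χ ≫ t.app i₁ := SelfProd.t_nat D t χ
  let fk : pullback (D.map χ) (D.map χ) ⟶ pullback (t.app k) (t.app k) :=
    pullback.lift (pullback.fst _ _) (pullback.snd _ _) (by
      rw [← hχ, ← Category.assoc, ← Category.assoc, pullback.condition])
  have hfk1 : fk ≫ pullback.fst (t.app k) (t.app k) = pullback.fst _ _ := pullback.lift_fst _ _ _
  have hfk2 : fk ≫ pullback.snd (t.app k) (t.app k) = pullback.snd _ _ := pullback.lift_snd _ _ _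
  have sqk : IsPullback (pullback.fst (D.map χ) (D.map χ) ≫ D.map χ) fk
      (pullback.diagonal (t.app i₁)) ((SelfProd.Zs D t).map χ) :=
    isPullback_diag_bc (D.map χ) (t.app i₁) (t.app k) hχ fk hfk1 hfk2 hkn
  have hfkcl : AlgSp.RepWith @IsClosedImmersion fk :=
    H' (pullback (D.map χ) (D.map χ)) ((SelfProd.Zs D t).obj k) fk ((SelfProd.Zs D t).map χ) (𝟙 _)
      (IsPullback.id_vert _) (pullback.fst (D.map χ) (D.map χ) ≫ D.map χ) sqk
  have hΔχ : AlgSp.RepWith @IsClosedImmersion (pullback.diagonal (D.map χ)) := hsepD χ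
  have e : pullback.diagonal (t.app k) = pullback.diagonal (D.map χ) ≫ fk := by
    apply pullback.hom_ext
    · rw [Category.assoc, hfk1, pullback.diagonal_fst, pullback.diagonal_fst]
    · rw [Category.assoc, hfk2, pullback.diagonal_snd, pullback.diagonal_snd]
  change AlgSp.RepWith @IsClosedImmersion (pullback.diagonal (t.app k))
  rw [e]
  exact (AlgSp.RepWith @IsClosedImmersion).comp_mem _ _ hΔχ hfkcl

end

end Groth.Agent.Lib.T2H7.EvSep

namespace Groth.Agent.Lib.T2H7.EvSep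

/-- a pullback square stays a pullback square after composing with a monomorphism. -/
theorem isPullback_comp_mono {C : Type u} [Category.{v} C] {P U V Y Y' : C} {fst : P ⟶ U}
    {snd : P ⟶ V} {a : U ⟶ Y} {b : V ⟶ Y} (sq : IsPullback fst snd a b) (m : Y ⟶ Y') [Mono m] :
    IsPullback fst snd (a ≫ m) (b ≫ m) := by
  have r : IsPullback (𝟙 V) b (b ≫ m) m :=
    IsPullback.of_horiz_isIso_mono ⟨by rw [Category.id_comp]⟩
  have h := sq.flip.paste_horiz r
  rw [Category.comp_id] at h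
  exact h.flip

variable {S : Scheme.{u}}

/-- separatedness of a map is insensitive to a monomorphism after it. -/
theorem isSeparatedMor_comp_mono_iff {A B B' : AlgSp.Sp S} (f : A ⟶ B) (m : B ⟶ B') [Mono m] :
    AlgSp.IsSeparatedMor (f ≫ m) ↔ AlgSp.IsSeparatedMor f := by
  have h1 : (f ≫ m) ≫ 𝟙 B' = f ≫ m := Category.comp_id _
  let k : pullback f f ⟶ pullback (f ≫ m) (f ≫ m) :=
    pullback.lift (pullback.fst f f) (pullback.snd f f) (by
      rw [← Category.assoc, ← Category.assoc, pullback.condition])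
  have hk1 : k ≫ pullback.fst (f ≫ m) (f ≫ m) = pullback.fst f f := pullback.lift_fst _ _ _
  have hk2 : k ≫ pullback.snd (f ≫ m) (f ≫ m) = pullback.snd f f := pullback.lift_snd _ _ _
  have sq := isPullback_diag_bc f m (f ≫ m) rfl k hk1 hk2 h1
  haveI : IsIso (pullback.diagonal m) := (pullback.isIso_diagonal_iff m).2 inferInstance
  haveI : IsIso k := sq.isIso_snd_of_isIso
  have e : pullback.diagonal (f ≫ m) = pullback.diagonal f ≫ k := by
    apply pullback.hom_ext
    · rw [Category.assoc, hk1, pullback.diagonal_fst, pullback.diagonal_fst]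
    · rw [Category.assoc, hk2, pullback.diagonal_snd, pullback.diagonal_snd]
  change AlgSp.RepWith @IsClosedImmersion (pullback.diagonal (f ≫ m)) ↔
    AlgSp.RepWith @IsClosedImmersion (pullback.diagonal f)
  rw [e]
  exact (AlgSp.RepWith @IsClosedImmersion).cancel_right_of_respectsIso _ k

/-- an open subspace of a quasi-separated algebraic space is quasi-separated. -/
theorem isQuasiSeparatedSp_openSub [QuasiSeparatedSpace S] (Y : AlgSp.Space S)
    (hYqs : AlgSp.IsQuasiSeparatedSp Y.obj) {O : Set (AlgSp.Points Y.obj)} (hO : IsOpen O) :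
    AlgSp.IsQuasiSeparatedSp (Groth.Agent.Lib.Helper12.OpenSub.obj Y.obj O) := by
  have halg := Groth.Agent.Lib.Helper12.OpenSub.isAlgSpace_obj Y.property hO
  refine Groth.Agent.S10184.result (⟨_, halg⟩ : AlgSp.Space S) ?_
  intro U V P a b fst snd hU hV sq
  haveI := hU
  haveI := hV
  exact Groth.Agent.S10185.result Y hYqs U V P
    (a ≫ Groth.Agent.Lib.Helper12.OpenSub.incl Y.obj O)
    (b ≫ Groth.Agent.Lib.Helper12.OpenSub.incl Y.obj O) fst snd
    (isPullback_comp_mono sq _)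

section

variable {I : Type u} [SmallCategory I] [IsCofiltered I] (D : I ⥤ AlgSp.Sp S)
  (hD : ∀ i, AlgSp.IsAlgSpace (D.obj i))
  (hDa : ∀ (i j : I) (φ : i ⟶ j), AlgSp.IsAffineMor (D.map φ))
  (c : Cone D) (hc : IsLimit c)

include hD hDa hc in
/-- a limit with affine transition maps which is separated over a quasi-separated base
eventually consists of spaces separated over the base. -/
theorem eventually_separated_base [QuasiSeparatedSpace S] (Y : AlgSp.Space S)
    (t : D ⟶ (Functor.const I).obj Y.obj) (g : c.pt ⟶ Y.obj)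
    (hg : ∀ i, c.π.app i ≫ t.app i = g)
    (hqc : ∀ i, AlgSp.IsQuasiCompactSp (D.obj i)) (hqs : ∀ i, AlgSp.IsQuasiSeparatedSp (D.obj i))
    (hYqs : AlgSp.IsQuasiSeparatedSp Y.obj)
    (hX : AlgSp.IsSeparatedMor g) :
    ∃ i₀ : I, ∀ (i : I) (_ : i ⟶ i₀), AlgSp.IsSeparatedMor (t.app i) := by
  obtain ⟨i₀⟩ := IsCofiltered.nonempty (C := I)
  obtain ⟨U₁, u₁, hU₁, hu₁e, hrange⟩ :=
    Groth.Agent.Lib.T2H7.EvImm.exists_affine_etale_chart_containing Y
      (⟨D.obj i₀, hD i₀⟩ : AlgSp.Space S) (hqc i₀) (t.app i₀)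
  -- the quasi-compact open image of the chart
  let O : Set (AlgSp.Points Y.obj) := Set.range (AlgSp.Points.map u₁)
  have hOeq : O = Set.range (AlgSp.Points.ofPt u₁) :=
    Groth.Agent.Lib.T2H7.EvImm.range_map_eq_range_ofPt u₁
  have hO : IsOpen O := by
    rw [hOeq]
    exact (Groth.Agent.S10176.isOpenMap_ofPt u₁ hu₁e).isOpen_range
  have hOc : IsCompact O := by
    rw [hOeq]
    haveI : CompactSpace U₁.left := by haveI := hU₁; infer_instance
    exact isCompact_range (AlgSp.Points.continuous_ofPt u₁)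
  have halg := Groth.Agent.Lib.Helper12.OpenSub.isAlgSpace_obj Y.property hO
  have hincl := Groth.Agent.Lib.Helper12.OpenSub.repWith_incl (X := Y.obj) hO
  have hYoqc := Groth.Agent.Lib.T2H7.QcOpen.isQuasiCompactSp_openSub Y.property hO hOc
  have hYoqs := isQuasiSeparatedSp_openSub Y hYqs hO
  let Yo : AlgSp.Space S := ⟨Groth.Agent.Lib.Helper12.OpenSub.obj Y.obj O, halg⟩
  let m : Yo.obj ⟶ Y.obj := Groth.Agent.Lib.Helper12.OpenSub.incl Y.obj O
  haveI : Mono m := inferInstance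
  -- the restricted system
  let D' : Over i₀ ⥤ AlgSp.Sp S := Over.forget i₀ ⋙ D
  let c' : Cone D' := c.whisker (Over.forget i₀)
  have hc' : IsLimit c' := (Functor.Initial.isLimitWhiskerEquiv (Over.forget i₀) c).symm hc
  have hfac : ∀ j : Over i₀, ∃ s : D.obj j.left ⟶ Yo.obj, s ≫ m = t.app j.left := by
    intro j
    refine (Groth.Agent.S10194.exists_factor_iff m hincl (t.app j.left)).2 ?_
    rw [Groth.Agent.Lib.Helper12.OpenSub.range_map_incl]
    rintro _ ⟨q, rfl⟩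
    have e : t.app j.left = D.map j.hom ≫ t.app i₀ :=
      (Category.comp_id _).symm.trans (Groth.Agent.Lib.T2H7.SelfProd.t_nat D t j.hom)
    rw [e, AlgSp.Points.map_comp]
    exact hrange ⟨_, rfl⟩
  choose s hs using hfac
  let t' : D' ⟶ (Functor.const (Over i₀)).obj Yo.obj :=
    { app := s
      naturality := fun j k φ => by
        rw [← cancel_mono m]
        change (D.map φ.left ≫ s k) ≫ m = (s j ≫ 𝟙 _) ≫ m
        rw [Category.assoc, hs, Category.comp_id, hs]
        exact ((Groth.Agent.Lib.T2H7.SelfProd.t_nat D t φ.left).symm.trans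
          (Category.comp_id _)) }
  let g' : c.pt ⟶ Yo.obj := c.π.app i₀ ≫ s (Over.mk (𝟙 i₀))
  have hg'm : g' ≫ m = g := by
    change (c.π.app i₀ ≫ s (Over.mk (𝟙 i₀))) ≫ m = g
    rw [Category.assoc, hs]
    exact hg i₀
  have hg' : ∀ j, c'.π.app j ≫ t'.app j = g' := by
    intro j
    rw [← cancel_mono m, hg'm]
    change (c.π.app j.left ≫ s j) ≫ m = g
    rw [Category.assoc, hs, hg]
  have hX' : AlgSp.IsSeparatedMor g' := by
    rw [← isSeparatedMor_comp_mono_iff g' m, hg'm]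
    exact hX
  obtain ⟨j₀, hj₀⟩ := eventually_separated_base_qc D' (fun j => hD j.left)
    (fun j k φ => hDa _ _ φ.left) c' hc' Yo t' g' hg' (fun j => hqc j.left)
    (fun j => hqs j.left) hYoqc hYoqs hX'
  refine ⟨j₀.left, fun i φ => ?_⟩
  have h := hj₀ (Over.mk (φ ≫ j₀.hom)) (Over.homMk φ)
  have h2 : AlgSp.IsSeparatedMor (s (Over.mk (φ ≫ j₀.hom)) ≫ m) :=
    (isSeparatedMor_comp_mono_iff _ m).2 h
  rw [hs] at h2
  exact h2

end

end Groth.Agent.Lib.T2H7.EvSep
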