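import Mathlib
import Groth.Agent.Lib.T2H7EvSep

/-!
# A limit with affine transition maps which is separated over the base scheme eventually
consists of spaces separated over the base scheme (helper7)
-/

set_option autoImplicit false
set_option linter.unusedSectionVars false
set_option linter.unusedVariables false
set_option linter.style.haveILetI false
universe v u
open CategoryTheory CategoryTheory.Limits AlgebraicGeometry
open AlgSp

namespace Groth.Agent.Lib.T2H7.EvSepAbs

/-- over a terminal object, the diagonal of a map is the absolute diagonal. -/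
theorem exists_iso_diag_of_isTerminal {C : Type u} [Category.{v} C] [HasPullbacks C]
    [HasBinaryProducts C] {T F : C} (hT : IsTerminal T) (f : F ⟶ T) :
    ∃ e : pullback f f ≅ F ⨯ F, pullback.diagonal f ≫ e.hom = Limits.diag F := by
  refine ⟨⟨prod.lift (pullback.fst f f) (pullback.snd f f),
    pullback.lift prod.fst prod.snd (hT.hom_ext _ _), ?_, ?_⟩, ?_⟩
  · apply pullback.hom_ext
    · rw [Category.assoc, pullback.lift_fst, prod.lift_fst, Category.id_comp]
    · rw [Category.assoc, pullback.lift_snd, prod.lift_snd, Category.id_comp]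
  · apply Limits.prod.hom_ext
    · rw [Category.assoc, prod.lift_fst, pullback.lift_fst, Category.id_comp]
    · rw [Category.assoc, prod.lift_snd, pullback.lift_snd, Category.id_comp]
  · apply Limits.prod.hom_ext
    · rw [Category.assoc, prod.lift_fst, pullback.diagonal_fst]
      exact (prod.lift_fst _ _).symm
    · rw [Category.assoc, prod.lift_snd, pullback.diagonal_snd]
      exact (prod.lift_snd _ _).symm

variable {S : Scheme.{u}}

/-- the sheaf of the base scheme is terminal. -/
noncomputable def isTerminalYonBase :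
    IsTerminal ((AlgSp.yon S).obj (Over.mk (𝟙 S))) :=
  IsTerminal.isTerminalObj (AlgSp.yon S) _ Over.mkIdTerminal

/-- separatedness over the base scheme is separatedness of the map to the terminal sheaf. -/
theorem isSeparatedSp_iff_isSeparatedMor {T F : AlgSp.Sp S} (hT : IsTerminal T) (f : F ⟶ T) :
    AlgSp.IsSeparatedSp F ↔ AlgSp.IsSeparatedMor f := by
  obtain ⟨e, he⟩ := exists_iso_diag_of_isTerminal hT f
  change AlgSp.RepWith @IsClosedImmersion (Limits.diag F) ↔
    AlgSp.RepWith @IsClosedImmersion (pullback.diagonal f)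
  rw [← he]
  exact (AlgSp.RepWith @IsClosedImmersion).cancel_right_of_respectsIso _ e.hom

section

variable {I : Type u} [SmallCategory I] [IsCofiltered I] (D : I ⥤ AlgSp.Sp S)
  (hD : ∀ i, AlgSp.IsAlgSpace (D.obj i))
  (hDa : ∀ (i j : I) (φ : i ⟶ j), AlgSp.IsAffineMor (D.map φ))
  (c : Cone D) (hc : IsLimit c)

include hD hDa hc in
/-- a separated limit with affine transition maps eventually consists of separated spaces. -/
theorem eventually_separatedSp [QuasiSeparatedSpace S]
    (hqc : ∀ i, AlgSp.IsQuasiCompactSp (D.obj i)) (hqs : ∀ i, AlgSp.IsQuasiSeparatedSp (D.obj i))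
    (hX : AlgSp.IsSeparatedSp c.pt) :
    ∃ i₀ : I, ∀ (i : I) (_ : i ⟶ i₀), AlgSp.IsSeparatedSp (D.obj i) := by
  have hT : IsTerminal ((AlgSp.yon S).obj (Over.mk (𝟙 S))) := isTerminalYonBase
  let Y : AlgSp.Space S := ⟨(AlgSp.yon S).obj (Over.mk (𝟙 S)), AlgSp.IsAlgSpace.yon_obj _⟩
  have hYqs : AlgSp.IsQuasiSeparatedSp Y.obj := by
    refine (AlgSp.repWith_diag_yon_iff @QuasiCompact (Over.mk (𝟙 S))).2 ?_
    change QuasiCompact (pullback.diagonal (𝟙 S))
    infer_instance
  let t : D ⟶ (Functor.const I).obj Y.obj :=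
    { app := fun i => hT.from _
      naturality := fun i j φ => hT.hom_ext _ _ }
  obtain ⟨i₀, h⟩ := Groth.Agent.Lib.T2H7.EvSep.eventually_separated_base D hD hDa c hc Y t
    (hT.from c.pt) (fun i => hT.hom_ext _ _) hqc hqs hYqs
    ((isSeparatedSp_iff_isSeparatedMor hT _).1 hX)
  exact ⟨i₀, fun i φ => (isSeparatedSp_iff_isSeparatedMor hT _).2 (h i φ)⟩

end

end Groth.Agent.Lib.T2H7.EvSepAbs
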