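import Mathlib
/-
Helper library (helper7): `⋀^i_A((A/K)^r) ≃ (A/K)^(r choose i)` for `i ≥ 1`.
-/
set_option autoImplicit false
universe u
open Set Set.powersetCard

namespace Groth.Agent.Lib.T2H7.ExtPowQuot

section Restrict

variable {A C M P ι : Type*} [CommRing A] [CommRing C] [Algebra A C] [AddCommGroup M] [Module A M]
  [Module C M] [IsScalarTower A C M] [AddCommGroup P] [Module A P] [Module C P]
  [IsScalarTower A C P]

/-- restriction of scalars for alternating maps -/
def altRestrict (g : M [⋀^ι]→ₗ[C] P) : M [⋀^ι]→ₗ[A] P :=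
  { g.toMultilinearMap.restrictScalars A with
    map_eq_zero_of_eq' := fun v _ _ h hij => g.map_eq_zero_of_eq v h hij }

@[simp] lemma altRestrict_apply (g : M [⋀^ι]→ₗ[C] P) (v : ι → M) :
    altRestrict (A := A) g v = g v := rfl

end Restrict

variable {A : Type u} [CommRing A] (K : Ideal A) (r i : ℕ)

/-- the standard generators of `(A/K)^r` -/
def stdv (j : Fin r) : Fin r → A ⧸ K := Pi.single j 1

lemma span_stdv : Submodule.span A (Set.range (stdv K r)) = ⊤ := by
  rw [eq_top_iff]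
  intro m _
  choose a ha using fun j => Ideal.Quotient.mk_surjective (m j)
  have : m = ∑ j, a j • stdv K r j := by
    ext k
    rw [Finset.sum_apply]
    simp only [Pi.smul_apply, stdv]
    rw [Finset.sum_eq_single k]
    · rw [Pi.single_eq_same, ← ha k, Algebra.smul_def, mul_one]
      rfl
    · intro b _ hb
      rw [Pi.single_eq_of_ne' hb, smul_zero]
    · intro h; exact absurd (Finset.mem_univ k) h
  rw [this]
  exact Submodule.sum_mem _ fun j _ => Submodule.smul_mem _ _ (Submodule.subset_span ⟨j, rfl⟩)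

/-- the generators `e_S` of the exterior power -/
noncomputable def E (S : powersetCard (Fin r) i) : ⋀[A]^i (Fin r → A ⧸ K) :=
  exteriorPower.ιMulti_family A i (stdv K r) S

lemma span_E : Submodule.span A (Set.range (E K r i)) = ⊤ :=
  exteriorPower.ιMulti_family_span_of_span A (span_stdv K r)

lemma smul_stdv (k : A) (hk : k ∈ K) (j : Fin r) : k • stdv K r j = 0 := by
  ext l
  simp only [Pi.smul_apply, stdv, Pi.zero_apply]
  by_cases h : l = j
  · subst h
    rw [Pi.single_eq_same]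
    show k • (Ideal.Quotient.mk K 1) = 0
    rw [← Ideal.Quotient.mk_eq_mk, ← Submodule.Quotient.mk_smul, Submodule.Quotient.mk_eq_zero]
    simpa using hk
  · rw [Pi.single_eq_of_ne h, smul_zero]

lemma smul_E (hi : 1 ≤ i) (k : A) (hk : k ∈ K) (S : powersetCard (Fin r) i) :
    k • E K r i S = 0 := by
  obtain ⟨i', rfl⟩ : ∃ i', i = i' + 1 := ⟨i - 1, by omega⟩
  unfold E exteriorPower.ιMulti_family
  set w := stdv K r ∘ ⇑(ofFinEmbEquiv.symm S) with hw
  have h1 : k • exteriorPower.ιMulti A (i' + 1) w =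
      exteriorPower.ιMulti A (i' + 1) (Function.update w 0 (k • w 0)) := by
    rw [AlternatingMap.map_update_smul, Function.update_eq_self]
  rw [h1]
  apply AlternatingMap.map_coord_zero _ (i := 0)
  rw [Function.update_self]
  exact smul_stdv K r k hk _

/-- the `S`-minor as a linear functional on the exterior power -/
noncomputable def D (S : powersetCard (Fin r) i) : ⋀[A]^i (Fin r → A ⧸ K) →ₗ[A] (A ⧸ K) :=
  exteriorPower.alternatingMapLinearEquiv
    (altRestrict (A := A) ((Matrix.detRowAlternating (n := Fin i) (R := A ⧸ K)).compLinearMap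
      (LinearMap.funLeft (A ⧸ K) (A ⧸ K) (ofFinEmbEquiv.symm S))))

lemma D_ιMulti (S : powersetCard (Fin r) i) (m : Fin i → (Fin r → A ⧸ K)) :
    D K r i S (exteriorPower.ιMulti A i m) =
      Matrix.det (Matrix.of fun a b => m a (ofFinEmbEquiv.symm S b)) := by
  unfold D
  rw [exteriorPower.alternatingMapLinearEquiv_apply_ιMulti]
  rfl

lemma D_E_self (S : powersetCard (Fin r) i) : D K r i S (E K r i S) = 1 := by
  unfold E exteriorPower.ιMulti_family
  rw [D_ιMulti]
  have : (Matrix.of fun a b => (stdv K r ∘ ⇑(ofFinEmbEquiv.symm S)) a (ofFinEmbEquiv.symm S b)) =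
      (1 : Matrix (Fin i) (Fin i) (A ⧸ K)) := by
    ext a b
    simp only [Matrix.of_apply, Function.comp_apply, stdv, Matrix.one_apply, Pi.single_apply]
    by_cases h : a = b
    · subst h; simp
    · rw [if_neg h, if_neg]
      intro h'
      exact h ((ofFinEmbEquiv.symm S).injective h').symm
  rw [this, Matrix.det_one]

lemma D_E_ne (S T : powersetCard (Fin r) i) (hST : S ≠ T) : D K r i S (E K r i T) = 0 := by
  unfold E exteriorPower.ιMulti_family
  rw [D_ιMulti]
  obtain ⟨x, hxS, hxT⟩ := (exists_mem_notMem_iff_ne S T).mp hST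
  obtain ⟨k, rfl⟩ := (mem_range_ofFinEmbEquiv_symm_iff_mem S x).mpr hxS
  apply Matrix.det_eq_zero_of_column_eq_zero k
  intro a
  simp only [Matrix.of_apply, Function.comp_apply, stdv, Pi.single_apply]
  rw [if_neg]
  intro h
  apply hxT
  rw [h, ← mem_range_ofFinEmbEquiv_symm_iff_mem]
  exact ⟨a, rfl⟩

/-- `A/K → ⋀^i((A/K)^r)`, `c ↦ c • e_S` -/
noncomputable def ψ (hi : 1 ≤ i) (S : powersetCard (Fin r) i) :
    (A ⧸ K) →ₗ[A] ⋀[A]^i (Fin r → A ⧸ K) :=
  Submodule.liftQ K (LinearMap.toSpanSingleton A _ (E K r i S)) (fun k hk => by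
    rw [LinearMap.mem_ker, LinearMap.toSpanSingleton_apply]
    exact smul_E K r i hi k hk S)

lemma ψ_mk (hi : 1 ≤ i) (S : powersetCard (Fin r) i) (a : A) :
    ψ K r i hi S (Ideal.Quotient.mk K a) = a • E K r i S := by
  unfold ψ
  erw [Submodule.liftQ_apply]
  rfl

/-- the linear map `(A/K)^{S's} → ⋀^i((A/K)^r)` -/
noncomputable def Ψ (hi : 1 ≤ i) :
    (powersetCard (Fin r) i → A ⧸ K) →ₗ[A] ⋀[A]^i (Fin r → A ⧸ K) :=
  ∑ S, (ψ K r i hi S) ∘ₗ (LinearMap.proj S)

/-- the linear map `⋀^i((A/K)^r) → (A/K)^{S's}` -/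
noncomputable def Φ : ⋀[A]^i (Fin r → A ⧸ K) →ₗ[A] (powersetCard (Fin r) i → A ⧸ K) :=
  LinearMap.pi (D K r i)

lemma Φ_E (T : powersetCard (Fin r) i) : Φ K r i (E K r i T) = Pi.single T 1 := by
  classical
  ext S
  show D K r i S (E K r i T) = _
  by_cases h : S = T
  · subst h
    rw [D_E_self, Pi.single_eq_same]
  · rw [D_E_ne K r i S T h, Pi.single_eq_of_ne h]

lemma Ψ_single (hi : 1 ≤ i) (T : powersetCard (Fin r) i) (a : A) :
    Ψ K r i hi (Pi.single T (Ideal.Quotient.mk K a)) = a • E K r i T := by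
  classical
  unfold Ψ
  rw [LinearMap.sum_apply, Finset.sum_eq_single T]
  · rw [LinearMap.comp_apply, LinearMap.proj_apply, Pi.single_eq_same, ψ_mk]
  · intro S _ hS
    rw [LinearMap.comp_apply, LinearMap.proj_apply, Pi.single_eq_of_ne hS, map_zero]
  · intro h; exact absurd (Finset.mem_univ T) h

lemma Ψ_Φ (hi : 1 ≤ i) : (Ψ K r i hi) ∘ₗ (Φ K r i) = LinearMap.id := by
  apply LinearMap.ext_on_range (span_E K r i)
  intro T
  rw [LinearMap.comp_apply, Φ_E, LinearMap.id_apply]
  have := Ψ_single K r i hi T 1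
  rw [one_smul] at this
  exact this

lemma Φ_Ψ (hi : 1 ≤ i) : (Φ K r i) ∘ₗ (Ψ K r i hi) = LinearMap.id := by
  classical
  apply LinearMap.pi_ext
  intro T c
  obtain ⟨a, rfl⟩ := Ideal.Quotient.mk_surjective c
  rw [LinearMap.comp_apply, Ψ_single, map_smul, Φ_E, LinearMap.id_apply]
  ext S
  by_cases h : S = T
  · subst h
    rw [Pi.smul_apply, Pi.single_eq_same, Pi.single_eq_same, Algebra.smul_def, mul_one]
    rfl
  · rw [Pi.smul_apply, Pi.single_eq_of_ne h, Pi.single_eq_of_ne h, smul_zero]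

/-- `⋀^i_A((A/K)^r) ≃ (A/K)^(r choose i)` for `i ≥ 1` -/
theorem nonempty_extPow_linearEquiv (hi : 1 ≤ i) :
    Nonempty (⋀[A]^i (Fin r → A ⧸ K) ≃ₗ[A] (Fin (r.choose i) → A ⧸ K)) := by
  have e1 : ⋀[A]^i (Fin r → A ⧸ K) ≃ₗ[A] (powersetCard (Fin r) i → A ⧸ K) :=
    LinearEquiv.ofLinearMap (Φ K r i) (Ψ K r i hi) (Φ_Ψ K r i hi) (Ψ_Φ K r i hi)
  have hc : Fintype.card (powersetCard (Fin r) i) = r.choose i := by
    rw [← Nat.card_eq_fintype_card, powersetCard.card, Nat.card_eq_fintype_card, Fintype.card_fin]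
  have e2 : (powersetCard (Fin r) i → A ⧸ K) ≃ₗ[A] (Fin (r.choose i) → A ⧸ K) :=
    LinearEquiv.funCongrLeft A _ (Fintype.equivFinOfCardEq hc).symm
  exact ⟨e1.trans e2⟩

end Groth.Agent.Lib.T2H7.ExtPowQuot
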