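import Mathlib
import Groth.Agent.S5377

/-!
# A cofiltered limit of faithfully flat affine schemes over a base is faithfully flat (helper7)
-/

set_option autoImplicit false
set_option linter.unusedSectionVars false
set_option linter.unusedVariables false
set_option linter.style.haveILetI false
universe u
open CategoryTheory CategoryTheory.Limits AlgebraicGeometry Opposite

namespace Groth.Agent.Lib.T2H7.FFLimA

section Affine

variable {J : Type u} [SmallCategory J] [IsCofiltered J] (D : J ⥤ Scheme.{u}) (c : Cone D)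
  (hc : IsLimit c) [∀ j, IsAffine (D.obj j)] {Y : Scheme.{u}} [IsAffine Y]
  (f : ∀ j, D.obj j ⟶ Y) (hf : ∀ {j j' : J} (φ : j ⟶ j'), D.map φ ≫ f j' = f j)
  (fc : c.pt ⟶ Y) (hfc : ∀ j, c.π.app j ≫ f j = fc)

include hc hf hfc in
theorem ff_of_isLimit_affine (h1 : ∀ j, Flat (f j)) (h2 : ∀ j, Surjective (f j)) :
    Flat fc ∧ Surjective fc := by
  haveI : IsAffine c.pt := Scheme.isAffine_of_isLimit c hc
  obtain ⟨hΓ⟩ := nonempty_isColimit_Γ_mapCocone D c hc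
  rw [Flat.flat_and_surjective_iff_faithfullyFlat_of_isAffine]
  -- the natural transformation from the constant diagram
  let φ : (Functor.const Jᵒᵖ).obj Γ(Y, ⊤) ⟶ D.op ⋙ Scheme.Γ :=
    { app := fun j => (f j.unop).appTop
      naturality := by
        intro j j' g
        simp only [Functor.const_obj_obj, Functor.const_obj_map, Category.id_comp,
          Functor.comp_obj, Functor.op_obj, Functor.comp_map, Functor.op_map, Scheme.Γ_map]
        change (f j'.unop).appTop = (f j.unop).appTop ≫ (D.map g.unop).appTop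
        rw [← Scheme.Hom.comp_appTop, hf] }
  have hφ : ∀ j : Jᵒᵖ, (φ.app j).hom.FaithfullyFlat := fun j =>
    (Flat.flat_and_surjective_iff_faithfullyFlat_of_isAffine (f j.unop)).1 ⟨h1 _, h2 _⟩
  have key := Groth.Agent.S5377.result Jᵒᵖ _ _ φ hφ
  haveI : IsConnected Jᵒᵖ := IsFiltered.isConnected Jᵒᵖ
  let eC : colimit ((Functor.const Jᵒᵖ).obj Γ(Y, ⊤)) ≅ Γ(Y, ⊤) :=
    (colimit.isColimit _).coconePointUniqueUpToIso (isColimitConstCocone Jᵒᵖ Γ(Y, ⊤))
  let eA : colimit (D.op ⋙ Scheme.Γ) ≅ Γ(c.pt, ⊤) :=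
    (colimit.isColimit _).coconePointUniqueUpToIso hΓ
  have hcomp : fc.appTop = eC.inv ≫ colimMap φ ≫ eA.hom := by
    obtain ⟨j₀⟩ := IsCofiltered.nonempty (C := J)
    have h3' : colimit.ι ((Functor.const Jᵒᵖ).obj Γ(Y, ⊤)) (op j₀) ≫ eC.hom = 𝟙 Γ(Y, ⊤) :=
      IsColimit.comp_coconePointUniqueUpToIso_hom _ _ _
    have h3 : eC.inv = colimit.ι ((Functor.const Jᵒᵖ).obj Γ(Y, ⊤)) (op j₀) := by
      rw [← Category.id_comp eC.inv, ← h3', Category.assoc, Iso.hom_inv_id, Category.comp_id]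
    have h4 : colimit.ι (D.op ⋙ Scheme.Γ) (op j₀) ≫ eA.hom =
        (Scheme.Γ.mapCocone c.op).ι.app (op j₀) :=
      IsColimit.comp_coconePointUniqueUpToIso_hom _ _ _
    rw [h3, ι_colimMap_assoc, h4]
    change fc.appTop = (f j₀).appTop ≫ (c.π.app j₀).appTop
    rw [← Scheme.Hom.comp_appTop, hfc]
  rw [hcomp]
  have hC : (eC.inv).hom.FaithfullyFlat :=
    RingHom.FaithfullyFlat.of_bijective (ConcreteCategory.bijective_of_isIso eC.inv)
  have hA : (eA.hom).hom.FaithfullyFlat :=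
    RingHom.FaithfullyFlat.of_bijective (ConcreteCategory.bijective_of_isIso eA.hom)
  simp only [CommRingCat.hom_comp]
  exact RingHom.FaithfullyFlat.stableUnderComposition _ _ hC
    (RingHom.FaithfullyFlat.stableUnderComposition _ _ key hA)

end Affine

section ResLE

theorem surjective_resLE {A B : Scheme.{u}} (f : A ⟶ B) [Surjective f] (U : B.Opens)
    (V : A.Opens) (e : V ≤ f ⁻¹ᵁ U) (h : f ⁻¹ᵁ U ≤ V) : Surjective (f.resLE U V e) := by
  constructor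
  rintro ⟨u, hu⟩
  obtain ⟨t, ht⟩ := f.surjective u
  have htV : t ∈ V := h (by
    change f t ∈ U
    rw [ht]
    exact hu)
  refine ⟨⟨t, htV⟩, ?_⟩
  apply Subtype.ext
  have h1 := congrArg (fun m => m.base ⟨t, htV⟩) (Scheme.Hom.resLE_comp_ι f e)
  simp only [Scheme.Hom.comp_base, TopCat.hom_comp, ContinuousMap.comp_apply] at h1
  exact h1.trans ht

theorem resLE_comp_resLE_ι {A B X : Scheme.{u}} (g : A ⟶ B) (f : B ⟶ X) (U : X.Opens)
    (V : B.Opens) (W : A.Opens) (e : W ≤ g ⁻¹ᵁ V) (e' : V ≤ f ⁻¹ᵁ U) :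
    g.resLE V W e ≫ f.resLE U V e' ≫ U.ι = W.ι ≫ g ≫ f := by
  rw [Scheme.Hom.resLE_comp_ι, Scheme.Hom.resLE_comp_ι_assoc]

end ResLE

section General

variable {I : Type u} [SmallCategory I] [IsCofiltered I] (D : I ⥤ Scheme.{u}) (c : Cone D)
  (hc : IsLimit c) [∀ (i i' : I) (φ : i ⟶ i'), IsAffineHom (D.map φ)] {X : Scheme.{u}}
  (f : ∀ i, D.obj i ⟶ X) (hf : ∀ {i i' : I} (φ : i ⟶ i'), D.map φ ≫ f i' = f i)
  (fc : c.pt ⟶ X) (hfc : ∀ i, c.π.app i ≫ f i = fc)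

include hc hfc in
theorem isAffineHom_of_isLimit [∀ i, IsAffineHom (f i)] : IsAffineHom fc := by
  obtain ⟨i₀⟩ := IsCofiltered.nonempty (C := I)
  haveI := isAffineHom_π_app D c hc i₀
  rw [← hfc i₀]
  infer_instance

include hc hf hfc in
/-- the restriction of `fc` over an affine open of `X` is faithfully flat. -/
theorem ff_resLE [∀ i, IsAffineHom (f i)] (h1 : ∀ i, Flat (f i)) (h2 : ∀ i, Surjective (f i))
    (i₀ : I) (U : X.Opens) (hU : IsAffineOpen U)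
    (e : c.π.app i₀ ⁻¹ᵁ (f i₀ ⁻¹ᵁ U) ≤ fc ⁻¹ᵁ U) :
    Flat (fc.resLE U (c.π.app i₀ ⁻¹ᵁ (f i₀ ⁻¹ᵁ U)) e) ∧
      Surjective (fc.resLE U (c.π.app i₀ ⁻¹ᵁ (f i₀ ⁻¹ᵁ U)) e) := by
  have hV : IsAffineOpen (f i₀ ⁻¹ᵁ U) := hU.preimage (f i₀)
  haveI : IsAffine U := hU
  haveI : ∀ j, IsAffine ((opensDiagram D i₀ (f i₀ ⁻¹ᵁ U)).obj j) := fun j => hV.preimage _
  have hle : ∀ j : Over i₀, D.map j.hom ⁻¹ᵁ (f i₀ ⁻¹ᵁ U) = f j.left ⁻¹ᵁ U := by
    intro j
    rw [← Scheme.Hom.comp_preimage, hf]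
  refine ff_of_isLimit_affine (opensDiagram D i₀ (f i₀ ⁻¹ᵁ U)) (opensCone D c i₀ (f i₀ ⁻¹ᵁ U))
    (isLimitOpensCone D c hc i₀ (f i₀ ⁻¹ᵁ U)) (Y := U)
    (fun j => (f j.left).resLE U _ (hle j).le) ?_ _ ?_ ?_ ?_
  · intro j j' φ
    rw [← cancel_mono U.ι, Category.assoc]
    refine (resLE_comp_resLE_ι _ _ _ _ _ _ _).trans ?_
    rw [hf]
    exact (Scheme.Hom.resLE_comp_ι _ _).symm
  · intro j
    rw [← cancel_mono U.ι, Category.assoc]
    refine (resLE_comp_resLE_ι _ _ _ _ _ _ _).trans ?_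
    rw [hfc]
    exact (Scheme.Hom.resLE_comp_ι _ _).symm
  · intro j
    haveI : Flat (f j.left) := h1 j.left
    exact inferInstanceAs (Flat ((f j.left).resLE U (D.map j.hom ⁻¹ᵁ (f i₀ ⁻¹ᵁ U)) (hle j).le))
  · intro j
    exact surjective_resLE (f j.left) U _ (hle j).le (hle j).ge

include hc hf hfc in
/-- a cofiltered limit of affine faithfully flat `X`-schemes is faithfully flat over `X`. -/
theorem ff_of_isLimit [∀ i, IsAffineHom (f i)] (h1 : ∀ i, Flat (f i))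
    (h2 : ∀ i, Surjective (f i)) : Flat fc ∧ Surjective fc := by
  obtain ⟨i₀⟩ := IsCofiltered.nonempty (C := I)
  have hW : ∀ U : X.Opens, c.π.app i₀ ⁻¹ᵁ (f i₀ ⁻¹ᵁ U) = fc ⁻¹ᵁ U := by
    intro U
    rw [← Scheme.Hom.comp_preimage, hfc]
  have key := fun (U : X.affineOpens) =>
    ff_resLE D c hc f hf fc hfc h1 h2 i₀ U.1 U.2 (hW U.1).le
  constructor
  · rw [IsZariskiLocalAtSource.iff_of_iSup_eq_top (P := @Flat)
      (fun U : X.affineOpens => c.π.app i₀ ⁻¹ᵁ (f i₀ ⁻¹ᵁ U.1)) ?_]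
    · intro U
      rw [← Scheme.Hom.resLE_comp_ι fc (hW U.1).le]
      haveI := (key U).1
      infer_instance
    · simp_rw [hW]
      rw [← Scheme.Hom.preimage_iSup, iSup_affineOpens_eq_top]
      rfl
  · constructor
    intro x
    obtain ⟨U, hxU⟩ : ∃ U : X.affineOpens, x ∈ U.1 := by
      have h3 : x ∈ (⨆ U : X.affineOpens, U.1 : X.Opens) := by
        rw [iSup_affineOpens_eq_top]
        trivial
      simpa using h3
    obtain ⟨⟨t, ht⟩, htx⟩ := (key U).2.surj ⟨x, hxU⟩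
    refine ⟨t, ?_⟩
    have h3 := congrArg (fun m => m.base ⟨t, ht⟩) (Scheme.Hom.resLE_comp_ι fc (hW U.1).le)
    simp only [Scheme.Hom.comp_base, TopCat.hom_comp, ContinuousMap.comp_apply] at h3
    rw [htx] at h3
    exact h3.symm

end General

end Groth.Agent.Lib.T2H7.FFLimA
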