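import Mathlib
import Groth.Agent.Lib.Helper3FlatOpenFP

/-!
# Finitely presented modules over a localization: descent and spreading out flatness (helper7)
-/

set_option autoImplicit false
universe u
open TensorProduct
open scoped Pointwise

namespace Groth.Agent.Lib.T2H7.FpLoc

section Descent

variable {B : Type u} [CommRing B] (T : Submonoid B) (S : Type u) [CommRing S] [Algebra B S]
  [IsLocalization T S]

/-- A finitely presented module over a localization `S = T⁻¹B` is the localization of a
finitely presented `B`-module (given as an explicit quotient of a finite free module). -/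
theorem exists_fp_descent (M : Type u) [AddCommGroup M] [Module S M]
    [Module.FinitePresentation S M] [Module B M] [IsScalarTower B S M] :
    ∃ (n : ℕ) (s₀ : Finset (Fin n → B))
      (g : ((Fin n → B) ⧸ Submodule.span B (s₀ : Set (Fin n → B))) →ₗ[B] M),
      IsLocalizedModule T g := by
  classical
  obtain ⟨n, K, e, hK⟩ := Module.FinitePresentation.exists_fin S M
  obtain ⟨s, hs⟩ := hK
  let f₀ : (Fin n → B) →ₗ[B] (Fin n → S) :=
    LinearMap.pi fun i => (Algebra.linearMap B S) ∘ₗ LinearMap.proj i
  have hf₀ : IsLocalizedModule T f₀ := inferInstance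
  let s₀ : Finset (Fin n → B) := IsLocalizedModule.finsetIntegerMultiple T f₀ s
  let K₀ : Submodule B (Fin n → B) := Submodule.span B (s₀ : Set (Fin n → B))
  have hloc : K₀.localized' S T f₀ = K := by
    rw [Submodule.localized'_span, IsLocalizedModule.finsetIntegerMultiple_image, ← hs]
    set t := IsLocalizedModule.commonDenomOfFinset T f₀ s with ht
    have h1 : (t • (s : Set (Fin n → S))) = (algebraMap B S (t : B)) • (s : Set (Fin n → S)) := by
      ext x
      constructor
      · rintro ⟨y, hy, rfl⟩
        exact ⟨y, hy, by simp [algebraMap_smul]⟩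
      · rintro ⟨y, hy, rfl⟩
        exact ⟨y, hy, by simp [algebraMap_smul]⟩
    rw [h1]
    exact Submodule.span_smul_eq_of_isUnit _ _ (IsLocalization.map_units S t)
  let g₁ : ((Fin n → B) ⧸ K₀) →ₗ[B] ((Fin n → S) ⧸ K₀.localized' S T f₀) :=
    K₀.toLocalizedQuotient' S T f₀
  have hg₁ : IsLocalizedModule T g₁ := inferInstance
  let e₁ : ((Fin n → S) ⧸ K₀.localized' S T f₀) ≃ₗ[S] ((Fin n → S) ⧸ K) :=
    Submodule.quotEquivOfEq _ _ hloc
  let e₂ : ((Fin n → S) ⧸ K₀.localized' S T f₀) ≃ₗ[B] M :=
    (e₁.trans e.symm).restrictScalars B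
  exact ⟨n, s₀, e₂.toLinearMap ∘ₗ g₁, IsLocalizedModule.of_linearEquiv T g₁ e₂⟩

end Descent

section FlatLoc

open Groth.Agent.Lib.Helper3.FlatLoc

variable {R : Type*} {S : Type*} [CommRing R] [CommRing S] [Algebra R S]
  {M M' : Type*} [AddCommGroup M] [Module R M] [Module S M] [IsScalarTower R S M]
  [AddCommGroup M'] [Module R M'] [Module S M'] [IsScalarTower R S M']

/-- Flatness over the base of any localization of `M` at `T`, in terms of torsion of kernels. -/
theorem flat_iff_of_isLocalizedModule (T : Submonoid S) (g : M →ₗ[S] M') [IsLocalizedModule T g] :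
    Module.Flat R M' ↔
      ∀ I : Ideal R, ∀ z : M ⊗[R] I, I.subtype.lTensor M z = 0 → ∃ s ∈ T, s • z = 0 := by
  rw [Module.Flat.iff_lTensor_injective']
  have key : ∀ I : Ideal R, Function.Injective (I.subtype.lTensor M') ↔
      ∀ z : M ⊗[R] I, I.subtype.lTensor M z = 0 → ∃ s ∈ T, s • z = 0 := by
    intro I
    have h1 := IsLocalizedModule.map_lTensor (R := R) S T I.subtype g
    have h2 := isLocalizedModule_map_injective_iff T
      (AlgebraTensorModule.rTensor R I g)
      (AlgebraTensorModule.rTensor R R g)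
      (AlgebraTensorModule.lTensor S M I.subtype)
    rw [h1] at h2
    exact h2
  constructor
  · intro h I
    exact (key I).mp (h I)
  · intro h I
    exact (key I).mpr (h I)

theorem flat_localizedModule_iff_flat (T : Submonoid S) (g : M →ₗ[S] M') [IsLocalizedModule T g] :
    Module.Flat R (LocalizedModule T M) ↔ Module.Flat R M' := by
  rw [flat_localizedModule_iff', flat_iff_of_isLocalizedModule T g]

end FlatLoc

section Spread

open Groth.Agent.Lib.Helper3.FlatLoc

variable {R B M₀ : Type u} [CommRing R] [CommRing B] [Algebra R B]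
  [Algebra.FinitePresentation R B] [AddCommGroup M₀] [Module B M₀] [Module R M₀]
  [IsScalarTower R B M₀] [Module.FinitePresentation B M₀]

/-- Flatness of a finitely presented module at a prime spreads out to a basic open
neighbourhood. -/
theorem exists_flat_localizedModule_powers (q : Ideal B) [q.IsPrime]
    (hq : Module.Flat R (LocalizedModule q.primeCompl M₀)) :
    ∃ g : B, g ∉ q ∧ Module.Flat R (LocalizedModule (Submonoid.powers g) M₀) := by
  have hopen := Groth.Agent.Lib.Helper3.FlatOpen.isOpen_flatLocus_of_finitePresentation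
    (R := R) (S := B) (M := M₀)
  have hmem : (⟨q, inferInstance⟩ : PrimeSpectrum B) ∈
      {q : PrimeSpectrum B | Module.Flat R (LocalizedModule q.asIdeal.primeCompl M₀)} := hq
  obtain ⟨v, ⟨g, rfl⟩, hgq, hsub⟩ :=
    PrimeSpectrum.isTopologicalBasis_basic_opens.exists_subset_of_mem_open hmem hopen
  refine ⟨g, hgq, ?_⟩
  rw [flat_localizedModule_iff']
  intro I z hz
  let J : Ideal B := LinearMap.ker (LinearMap.toSpanSingleton B (M₀ ⊗[R] I) z)
  have hJ : ∀ b : B, b ∈ J ↔ b • z = 0 := by
    intro b
    simp [J, LinearMap.mem_ker, LinearMap.toSpanSingleton_apply]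
  have hrad : g ∈ J.radical := by
    rw [Ideal.radical_eq_sInf, Ideal.mem_sInf]
    rintro P ⟨hJP, hP⟩
    by_contra hgP
    have hPU : (⟨P, hP⟩ : PrimeSpectrum B) ∈
        {q : PrimeSpectrum B | Module.Flat R (LocalizedModule q.asIdeal.primeCompl M₀)} :=
      hsub hgP
    have hfl : Module.Flat R (LocalizedModule P.primeCompl M₀) := hPU
    rw [flat_localizedModule_iff'] at hfl
    obtain ⟨s, hs, hsz⟩ := hfl I z hz
    exact hs (hJP ((hJ s).mpr hsz))
  obtain ⟨k, hk⟩ := hrad
  exact ⟨g ^ k, ⟨k, rfl⟩, (hJ _).mp hk⟩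

end Spread

end Groth.Agent.Lib.T2H7.FpLoc
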