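import Mathlib
import Groth.Agent.Lib.T2H7LocFibA
import Groth.Agent.Lib.T2H7PdTorB

/-!
# Upper semicontinuity of the projective dimension of the fibres (helper7)
-/

set_option autoImplicit false
universe u
open CategoryTheory CategoryTheory.Limits TensorProduct

namespace Groth.Agent.Lib.T2H7.LocFibB

open Groth.Agent.Lib.T2H7.PdFibA Groth.Agent.Lib.T2H7.PdFibB Groth.Agent.Lib.T2H7.PdTorC
  Groth.Agent.Lib.T2H7.LocFibA

section Residue

variable (A : Type u) {B : Type u} [CommRing A] [CommRing B] [Algebra A B] (Q : Ideal B)
  [Q.IsPrime]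

theorem lf_ideal_le : (Q.under A).map (algebraMap A (Localization.AtPrime Q)) ≤
    IsLocalRing.maximalIdeal (Localization.AtPrime Q) := by
  rw [Ideal.map_le_iff_le_comap]
  intro a ha
  rw [Ideal.mem_comap, IsScalarTower.algebraMap_apply A B (Localization.AtPrime Q),
    IsLocalization.AtPrime.to_map_mem_maximal_iff (Localization.AtPrime Q) Q]
  exact ha

/-- The local ring of the fibre maps to the residue field. -/
noncomputable def lfToResidue : LF A Q →+* Q.ResidueField :=
  Ideal.Quotient.factor (lf_ideal_le A Q)

noncomputable instance lfAlgebra : Algebra (LF A Q) Q.ResidueField :=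
  (lfToResidue A Q).toAlgebra

instance lfTower : IsScalarTower B (LF A Q) Q.ResidueField := by
  refine ⟨fun b c k => ?_⟩
  show lfToResidue A Q (b • c) * k = b • (lfToResidue A Q c * k)
  rw [Algebra.smul_def b c, map_mul, Algebra.smul_def b (_ * _), mul_assoc]
  rfl

end Residue

section Pointwise

variable (A : Type u) {B : Type u} [CommRing A] [CommRing B] [Algebra A B]
  (Z : Type u) [AddCommGroup Z] [Module B Z]

theorem lf_subsingleton_iff [Module.Finite B Z] (P : PrimeSpectrum B) :
    Subsingleton (LF A P.asIdeal ⊗[B] Z) ↔ P ∉ Module.support B Z := by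
  constructor
  · intro h hP
    rw [Module.mem_support_iff_nontrivial_residueField_tensorProduct] at hP
    have e := AlgebraTensorModule.cancelBaseChange B (LF A P.asIdeal) P.asIdeal.ResidueField
      P.asIdeal.ResidueField Z
    have h1 : Subsingleton (P.asIdeal.ResidueField ⊗[LF A P.asIdeal] (LF A P.asIdeal ⊗[B] Z)) :=
      subsingleton_tensor_of_subsingleton_right _ _
    have h2 : Subsingleton (P.asIdeal.ResidueField ⊗[B] Z) := e.symm.injective.subsingleton
    exact not_nontrivial _ hP
  · intro hP
    rw [Module.notMem_support_iff] at hP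
    have e0 := (IsLocalizedModule.isBaseChange P.asIdeal.primeCompl
      (Localization.AtPrime P.asIdeal)
      (LocalizedModule.mkLinearMap P.asIdeal.primeCompl Z)).equiv
    have h0 : Subsingleton (Localization.AtPrime P.asIdeal ⊗[B] Z) := e0.injective.subsingleton
    have e := AlgebraTensorModule.cancelBaseChange B (Localization.AtPrime P.asIdeal)
      (LF A P.asIdeal) (LF A P.asIdeal) Z
    have h1 : Subsingleton (LF A P.asIdeal ⊗[Localization.AtPrime P.asIdeal]
        (Localization.AtPrime P.asIdeal ⊗[B] Z)) :=
      subsingleton_tensor_of_subsingleton_right _ _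
    exact e.symm.injective.subsingleton

variable [Module A Z] [IsScalarTower A B Z] [Module.FinitePresentation B Z] [Module.Flat A Z]

omit [Module.FinitePresentation B Z] in
theorem lf_baseChange_injective (Q : Ideal B) [Q.IsPrime] {F : Type u} [AddCommGroup F]
    [Module B F] (π : F →ₗ[B] Z) (hπ : Function.Surjective π) :
    Function.Injective ((LinearMap.ker π).subtype.baseChange (LF A Q)) := by
  rw [LinearMap.baseChange_eq_ltensor]
  exact lf_lTensor_injective A Q (LinearMap.ker π).subtype π (Submodule.injective_subtype _) hπ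
    (LinearMap.exact_subtype_ker_map π)

theorem lf_projective_iff (P : PrimeSpectrum B) :
    HasProjectiveDimensionLT (ModuleCat.of (LF A P.asIdeal) (LF A P.asIdeal ⊗[B] Z)) 1 ↔
      P ∈ Module.freeLocus B Z := by
  rw [Module.mem_freeLocus_iff_tensor P (Localization.AtPrime P.asIdeal)]
  constructor
  · intro h
    have hp : Projective (ModuleCat.of (LF A P.asIdeal) (LF A P.asIdeal ⊗[B] Z)) :=
      (projective_iff_hasProjectiveDimensionLT_one).2 h
    have : Module.Projective (LF A P.asIdeal) (LF A P.asIdeal ⊗[B] Z) :=
      (IsProjective.iff_projective (ModuleCat.of (LF A P.asIdeal)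
        (LF A P.asIdeal ⊗[B] Z))).mpr hp
    have : Module.Flat (LF A P.asIdeal) (LF A P.asIdeal ⊗[B] Z) := inferInstance
    exact free_localization_of_flat_baseChange (LF A P.asIdeal) P.asIdeal
      (fun k π hπ => lf_baseChange_injective A Z P.asIdeal π hπ)
  · intro h
    have e := AlgebraTensorModule.cancelBaseChange B (Localization.AtPrime P.asIdeal)
      (LF A P.asIdeal) (LF A P.asIdeal) Z
    have : Module.Free (LF A P.asIdeal) (LF A P.asIdeal ⊗[B] Z) := Module.Free.of_equiv e
    have : Projective (ModuleCat.of (LF A P.asIdeal) (LF A P.asIdeal ⊗[B] Z)) :=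
      projective_of_module_projective _
    exact (projective_iff_hasProjectiveDimensionLT_one).1 this

end Pointwise

section Open

variable (A B : Type u) [CommRing A] [CommRing B] [Algebra A B]
  [Algebra.FinitePresentation A B] [Module.Flat A B]

theorem isOpen_setOf_hasPDLT : ∀ (n : ℕ) (Z : Type u) [AddCommGroup Z] [Module B Z] [Module A Z]
    [IsScalarTower A B Z] [Module.FinitePresentation B Z] [Module.Flat A Z],
    IsOpen {P : PrimeSpectrum B | HasProjectiveDimensionLT
      (ModuleCat.of (LF A P.asIdeal) (LF A P.asIdeal ⊗[B] Z)) n} := by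
  intro n
  induction n with
  | zero =>
    intro Z _ _ _ _ _ _
    have : {P : PrimeSpectrum B | HasProjectiveDimensionLT
        (ModuleCat.of (LF A P.asIdeal) (LF A P.asIdeal ⊗[B] Z)) 0} = (Module.support B Z)ᶜ := by
      ext P
      rw [Set.mem_compl_iff, ← lf_subsingleton_iff A Z P]
      constructor
      · intro h
        exact ModuleCat.subsingleton_of_isZero
          (@isZero_of_hasProjectiveDimensionLT_zero _ _ _ _ h)
      · intro h
        exact (ModuleCat.isZero_of_subsingleton _).hasProjectiveDimensionLT_zero
    rw [this]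
    exact Module.isClosed_support.isOpen_compl
  | succ n ih =>
    intro Z _ _ _ _ _ _
    rcases n with _ | n
    · have : {P : PrimeSpectrum B | HasProjectiveDimensionLT
          (ModuleCat.of (LF A P.asIdeal) (LF A P.asIdeal ⊗[B] Z)) (0 + 1)} =
          Module.freeLocus B Z := by
        ext P
        exact lf_projective_iff A Z P
      rw [this]
      exact Module.isOpen_freeLocus
    · obtain ⟨k, π, hπs, hfp, hfl⟩ := Groth.Agent.Lib.T2H7.PdTorB.exists_syzygy A B Z
      have : {P : PrimeSpectrum B | HasProjectiveDimensionLT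
          (ModuleCat.of (LF A P.asIdeal) (LF A P.asIdeal ⊗[B] Z)) (n + 1 + 1)} =
          {P : PrimeSpectrum B | HasProjectiveDimensionLT
          (ModuleCat.of (LF A P.asIdeal) (LF A P.asIdeal ⊗[B] (LinearMap.ker π))) (n + 1)} := by
        ext P
        exact hasPDLT_baseChange_succ_iff (LF A P.asIdeal) π hπs
          (lf_baseChange_injective A Z P.asIdeal π hπs) n
      rw [this]
      exact ih (LinearMap.ker π)

theorem upperSemicontinuous_fibre_pd (M : Type u) [AddCommGroup M] [Module B M] [Module A M]
    [IsScalarTower A B M] [Module.FinitePresentation B M] [Module.Flat A M] :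
    UpperSemicontinuous fun P : PrimeSpectrum B => projectiveDimension
      (ModuleCat.of (LF A P.asIdeal) (LF A P.asIdeal ⊗[B] M)) := by
  rw [upperSemicontinuous_iff_isOpen_preimage]
  intro c
  induction c using WithBot.recBotCoe with
  | bot =>
    convert isOpen_empty
    ext P
    simp
  | coe c =>
    induction c using ENat.recTopCoe with
    | top =>
      have : (fun P : PrimeSpectrum B => projectiveDimension
          (ModuleCat.of (LF A P.asIdeal) (LF A P.asIdeal ⊗[B] M))) ⁻¹'
          Set.Iio (((⊤ : ℕ∞) : WithBot ℕ∞)) =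
          ⋃ n : ℕ, {P : PrimeSpectrum B | HasProjectiveDimensionLT
            (ModuleCat.of (LF A P.asIdeal) (LF A P.asIdeal ⊗[B] M)) n} := by
        ext P
        simp only [Set.mem_preimage, Set.mem_Iio, Set.mem_iUnion, Set.mem_ofPred_eq]
        rw [show (((⊤ : ℕ∞) : WithBot ℕ∞)) = ⊤ from rfl, lt_top_iff_ne_top,
          projectiveDimension_ne_top_iff]
        constructor
        · rintro ⟨n, hn⟩
          exact ⟨n + 1, hn⟩
        · rintro ⟨n, hn⟩
          exact ⟨n, hasProjectiveDimensionLT_of_ge _ n (n + 1) (by omega)⟩
      rw [this]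
      exact isOpen_iUnion fun n => isOpen_setOf_hasPDLT A B n M
    | coe n =>
      have : (fun P : PrimeSpectrum B => projectiveDimension
          (ModuleCat.of (LF A P.asIdeal) (LF A P.asIdeal ⊗[B] M))) ⁻¹'
          Set.Iio (((n : ℕ∞) : WithBot ℕ∞)) =
          {P : PrimeSpectrum B | HasProjectiveDimensionLT
            (ModuleCat.of (LF A P.asIdeal) (LF A P.asIdeal ⊗[B] M)) n} := by
        ext P
        simp only [Set.mem_preimage, Set.mem_Iio, Set.mem_ofPred_eq]
        exact projectiveDimension_lt_iff
      rw [this]
      exact isOpen_setOf_hasPDLT A B n M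

end Open

end Groth.Agent.Lib.T2H7.LocFibB
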