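import Mathlib
import Groth.Agent.Lib.T2H7LocFibAbs
import Groth.Agent.Lib.T2H7LocFibB
import Groth.Agent.Lib.T2H7FpLoc
import Groth.Agent.Lib.T2H7PdTorB
import Groth.Agent.S0563

/-!
# Projective dimension over the local ring of a flat finitely presented algebra is bounded by the
dimension of a regular fibre (helper7)
-/

set_option autoImplicit false
universe u
open CategoryTheory CategoryTheory.Limits TensorProduct

namespace Groth.Agent.Lib.T2H7.FibDimPd

open Groth.Agent.Lib.T2H7.LocFibAbs Groth.Agent.Lib.T2H7.FpLoc Groth.Agent.Lib.T2H7.LocFibB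

theorem finitePresentation_quot_span {B : Type u} [CommRing B] (n : ℕ) (s : Finset (Fin n → B)) :
    Module.FinitePresentation B ((Fin n → B) ⧸ Submodule.span B (s : Set (Fin n → B))) := by
  refine Module.finitePresentation_of_surjective (Submodule.mkQ _) (Submodule.mkQ_surjective _) ?_
  rw [Submodule.ker_mkQ]
  exact Submodule.fg_span s.finite_toSet

theorem hasPDLE_of_regular_fibre (V B : Type u) [CommRing V] [CommRing B] [Algebra V B]
    [Module.Flat V B] [Algebra.FinitePresentation V B] (q : Ideal B) [q.IsPrime] (n : ℕ)
    (hreg : IsRegularLocalRing (Localization.AtPrime q ⧸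
      Ideal.map (algebraMap V (Localization.AtPrime q)) (Ideal.comap (algebraMap V B) q)))
    (hn : ringKrullDim (Localization.AtPrime q ⧸
      Ideal.map (algebraMap V (Localization.AtPrime q)) (Ideal.comap (algebraMap V B) q)) = n)
    (M : Type u) [AddCommGroup M] [Module (Localization.AtPrime q) M]
    [Module.FinitePresentation (Localization.AtPrime q) M]
    [Module V M] [IsScalarTower V (Localization.AtPrime q) M] [Module.Flat V M] :
    HasProjectiveDimensionLT (ModuleCat.of (Localization.AtPrime q) M) (n + 1) := by
  classical
  have := hreg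
  let _ : Module B M := Module.compHom M (algebraMap B (Localization.AtPrime q))
  have tBS : IsScalarTower B (Localization.AtPrime q) M := ⟨fun b s m => by
    show (b • s) • m = (algebraMap B (Localization.AtPrime q) b) • (s • m)
    rw [Algebra.smul_def, mul_smul]⟩
  have tVB : IsScalarTower V B M := ⟨fun v b m => by
    show (algebraMap B (Localization.AtPrime q) (v • b)) • m =
      v • ((algebraMap B (Localization.AtPrime q) b) • m)
    rw [Algebra.smul_def, map_mul, ← IsScalarTower.algebraMap_apply V B (Localization.AtPrime q),
      mul_smul, algebraMap_smul]⟩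
  obtain ⟨n₀, s₀, g₀, hg₀⟩ := exists_fp_descent q.primeCompl (Localization.AtPrime q) M
  have hfpM₀ := finitePresentation_quot_span n₀ s₀
  have hflq : Module.Flat V (LocalizedModule q.primeCompl
      ((Fin n₀ → B) ⧸ Submodule.span B (s₀ : Set (Fin n₀ → B)))) :=
    (flat_localizedModule_iff_flat q.primeCompl g₀).mpr inferInstance
  obtain ⟨g, hgq, hflg⟩ := exists_flat_localizedModule_powers (R := V) (B := B) q hflq
  have hflZ : Module.Flat V (Localization.Away g ⊗[B]
      ((Fin n₀ → B) ⧸ Submodule.span B (s₀ : Set (Fin n₀ → B)))) :=
    (flat_localizedModule_iff_flat (Submonoid.powers g)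
      (TensorProduct.mk B (Localization.Away g)
        ((Fin n₀ → B) ⧸ Submodule.span B (s₀ : Set (Fin n₀ → B))) 1)).mp hflg
  have hgS : IsUnit (algebraMap B (Localization.AtPrime q) g) :=
    IsLocalization.map_units _ (⟨g, hgq⟩ : q.primeCompl)
  let φ : Localization.Away g →+* Localization.AtPrime q := IsLocalization.Away.lift g hgS
  let _ : Algebra (Localization.Away g) (Localization.AtPrime q) := φ.toAlgebra
  have t1 : IsScalarTower B (Localization.Away g) (Localization.AtPrime q) :=
    IsScalarTower.of_algebraMap_eq (fun b => (IsLocalization.Away.lift_eq g hgS b).symm)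
  have t2 : IsScalarTower V (Localization.Away g) (Localization.AtPrime q) :=
    IsScalarTower.of_algebraMap_eq (fun v => by
      rw [IsScalarTower.algebraMap_apply V B (Localization.Away g),
        ← IsScalarTower.algebraMap_apply B (Localization.Away g) (Localization.AtPrime q),
        ← IsScalarTower.algebraMap_apply V B (Localization.AtPrime q)])
  have hle : Submonoid.powers g ≤ q.primeCompl := Submonoid.powers_le.mpr hgq
  have hloc : IsLocalization (q.primeCompl.map (algebraMap B (Localization.Away g)))
      (Localization.AtPrime q) :=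
    IsLocalization.isLocalization_of_submonoid_le (Localization.Away g) (Localization.AtPrime q)
      (Submonoid.powers g) q.primeCompl hle
  have hflS : Module.Flat (Localization.Away g) (Localization.AtPrime q) :=
    IsLocalization.flat _ (q.primeCompl.map (algebraMap B (Localization.Away g)))
  have : Algebra.FinitePresentation V (Localization.Away g) :=
    Algebra.FinitePresentation.trans V B (Localization.Away g)
  have : Module.Flat V (Localization.Away g) := Module.Flat.trans V B (Localization.Away g)
  have hfib : HasProjectiveDimensionLT (ModuleCat.of (Localization.AtPrime q ⧸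
      Ideal.map (algebraMap V (Localization.AtPrime q)) (Ideal.comap (algebraMap V B) q))
      ((Localization.AtPrime q ⧸
      Ideal.map (algebraMap V (Localization.AtPrime q)) (Ideal.comap (algebraMap V B) q))
        ⊗[Localization.Away g] (Localization.Away g ⊗[B]
      ((Fin n₀ → B) ⧸ Submodule.span B (s₀ : Set (Fin n₀ → B)))))) (n + 1) :=
    Groth.Agent.S0563.result _ n hn _
  have h := hasPDLT_of_fibre V (B := Localization.Away g) (S := Localization.AtPrime q)
    (I := Ideal.comap (algebraMap V B) q) (lf_ideal_le V q)
    (fun Z _ _ _ _ _ _ => Groth.Agent.Lib.T2H7.PdTorB.exists_syzygy V (Localization.Away g) Z)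
    (n + 1) (Localization.Away g ⊗[B]
      ((Fin n₀ → B) ⧸ Submodule.span B (s₀ : Set (Fin n₀ → B)))) hfib
  let e1 := AlgebraTensorModule.cancelBaseChange B (Localization.Away g) (Localization.AtPrime q)
    (Localization.AtPrime q) ((Fin n₀ → B) ⧸ Submodule.span B (s₀ : Set (Fin n₀ → B)))
  let e2 := (IsLocalizedModule.isBaseChange q.primeCompl (Localization.AtPrime q) g₀).equiv
  have iso : ModuleCat.of (Localization.AtPrime q) (Localization.AtPrime q ⊗[Localization.Away g]
      (Localization.Away g ⊗[B] ((Fin n₀ → B) ⧸ Submodule.span B (s₀ : Set (Fin n₀ → B))))) ≅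
      ModuleCat.of (Localization.AtPrime q) M := LinearEquiv.toModuleIso (e1.trans e2)
  exact hasProjectiveDimensionLT_of_iso iso (n + 1)

end Groth.Agent.Lib.T2H7.FibDimPd
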