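import Mathlib
import Groth.Agent.Lib.T2H7PdTorC

/-!
# Projective dimension is invariant under ring isomorphisms (helper7)
-/

set_option autoImplicit false
universe u
open CategoryTheory CategoryTheory.Limits

namespace Groth.Agent.Lib.T2H7.PdIso

open Groth.Agent.Lib.T2H7.PdTorC

variable {S S' : Type u} [CommRing S] [CommRing S']

/-- Projectivity is invariant under a ring isomorphism. -/
theorem projective_of_ringEquiv (e : S ≃+* S') (M : Type u) [AddCommGroup M] [Module S M]
    [Module S' M] (hc : ∀ (s : S) (m : M), s • m = e s • m) [Module.Projective S M] :
    Module.Projective S' M := by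
  -- a splitting of `M →₀ S' → M`
  obtain ⟨σ, hσ⟩ := Module.projective_def'.1 (inferInstance : Module.Projective S M)
  -- transport coefficients along `e`
  let T : (M →₀ S) →+ (M →₀ S') := Finsupp.mapRange.addMonoidHom (e : S →+ S')
  refine Module.projective_def'.2 ⟨
    { toFun := fun m => T (σ m)
      map_add' := fun x y => by rw [map_add, map_add]
      map_smul' := fun s' m => ?_ }, ?_⟩
  · obtain ⟨s, rfl⟩ := e.surjective s'
    rw [← hc, map_smul, RingHom.id_apply]
    ext x
    simp [T]
  · ext m
    have h1 : Finsupp.linearCombination S (id : M → M) (σ m) = m := by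
      have := LinearMap.congr_fun hσ m
      simpa using this
    simp only [LinearMap.coe_comp, LinearMap.coe_mk, AddHom.coe_mk, Function.comp_apply,
      LinearMap.id_coe, id_eq]
    conv_rhs => rw [← h1]
    rw [Finsupp.linearCombination_apply, Finsupp.linearCombination_apply]
    simp only [T, Finsupp.mapRange.addMonoidHom_apply]
    rw [Finsupp.sum_mapRange_index (by simp)]
    refine Finsupp.sum_congr fun x _ => ?_
    simp [hc]

/-- Projective dimension is invariant under a ring isomorphism. -/
theorem hasPDLT_of_ringEquiv (e : S ≃+* S') : ∀ (n : ℕ) (M : Type u) [AddCommGroup M] [Module S M]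
    [Module S' M], (∀ (s : S) (m : M), s • m = e s • m) →
    HasProjectiveDimensionLT (ModuleCat.of S M) n → HasProjectiveDimensionLT (ModuleCat.of S' M) n := by
  intro n
  induction n with
  | zero =>
    intro M _ _ _ hc h
    have hz : IsZero (ModuleCat.of S M) := isZero_of_hasProjectiveDimensionLT_zero _
    have : Subsingleton M := ModuleCat.subsingleton_of_isZero hz
    exact (ModuleCat.isZero_of_subsingleton _).hasProjectiveDimensionLT_zero
  | succ n ih =>
    intro M _ _ _ hc h
    rcases n with _ | n
    · have hp : Projective (ModuleCat.of S M) := inferInstance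
      have : Module.Projective S M := (IsProjective.iff_projective (ModuleCat.of S M)).mpr hp
      have : Module.Projective S' M := projective_of_ringEquiv e M hc
      have : Projective (ModuleCat.of S' M) := projective_of_module_projective M
      infer_instance
    · -- a free presentation over `S'`
      let F := M →₀ S'
      let π : F →ₗ[S'] M := Finsupp.linearCombination S' (id : M → M)
      have hπ : Function.Surjective π := Finsupp.linearCombination_id_surjective S' M
      -- `S`-structures through `e`
      let _ : Module S F := Module.compHom F (e : S →+* S')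
      have hcF : ∀ (s : S) (x : F), s • x = e s • x := fun _ _ => rfl
      have hcF' : ∀ (s' : S') (x : F), s' • x = e.symm s' • x := fun s' x => by
        rw [hcF, RingEquiv.apply_symm_apply]
      have hFproj : Module.Projective S F := projective_of_ringEquiv e.symm F hcF'
      let πS : F →ₗ[S] M :=
        { toFun := π
          map_add' := π.map_add
          map_smul' := fun s x => by
            rw [hcF, map_smul, RingHom.id_apply, hc] }
      have hπS : Function.Surjective πS := hπ
      let _ : Module S (LinearMap.ker π) := Module.compHom (LinearMap.ker π) (e : S →+* S')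
      have hcK : ∀ (s : S) (x : LinearMap.ker π), s • x = e s • x := fun _ _ => rfl
      -- the kernels agree
      let eK : LinearMap.ker πS ≃ₗ[S] LinearMap.ker π :=
        { toFun := fun x => ⟨x.1, x.2⟩
          invFun := fun x => ⟨x.1, x.2⟩
          map_add' := fun _ _ => rfl
          map_smul' := fun _ _ => rfl
          left_inv := fun _ => rfl
          right_inv := fun _ => rfl }
      have hS := kerSC_shortExact πS hπS
      have hprojS : Projective (kerSC πS).X₂ := projective_of_module_projective F
      have h3 : HasProjectiveDimensionLT (kerSC πS).X₃ (n + 2) := h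
      have h1 : HasProjectiveDimensionLT (ModuleCat.of S (LinearMap.ker πS)) (n + 1) :=
        (hS.hasProjectiveDimensionLT_X₃_iff n hprojS).mp h3
      have iso : ModuleCat.of S (LinearMap.ker πS) ≅ ModuleCat.of S (LinearMap.ker π) :=
        LinearEquiv.toModuleIso eK
      have h1' : HasProjectiveDimensionLT (ModuleCat.of S (LinearMap.ker π)) (n + 1) :=
        hasProjectiveDimensionLT_of_iso iso (n + 1)
      have h2 : HasProjectiveDimensionLT (ModuleCat.of S' (LinearMap.ker π)) (n + 1) :=
        ih (LinearMap.ker π) hcK h1'
      have hS' := kerSC_shortExact π hπ
      have hprojS' : Projective (kerSC π).X₂ := projective_of_module_projective F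
      exact (hS'.hasProjectiveDimensionLT_X₃_iff n hprojS').mpr h2

end Groth.Agent.Lib.T2H7.PdIso
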