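import Mathlib
import Groth.Agent.Lib.T2H7PdFibB
import Groth.Agent.Lib.T2H7PdIso
import Groth.Agent.Lib.Helper1TorD
import Groth.Prelude.Def_DRing2

/-!
# Projective dimension of the cokernels of a finite free complex, from the fibres (helper7)
-/

set_option autoImplicit false
universe u
open CategoryTheory CategoryTheory.Limits TensorProduct

namespace Groth.Agent.Lib.T2H7.FibGl

open Groth.Agent.Lib.T2H7.PdTorA Groth.Agent.Lib.T2H7.PdTorC Groth.Agent.Lib.T2H7.PdFibA
  Groth.Agent.Lib.T2H7.PdFibB Groth.Agent.Lib.Helper1.Tor

section Opcycles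

variable {B : Type u} [CommRing B] (F : DRing.Cx B)

theorem pOpcycles_surjective (j : ℤ) : Function.Surjective (F.pOpcycles j).hom :=
  (ModuleCat.epi_iff_surjective _).1 inferInstance

theorem fromOpcycles_pOpcycles (j : ℤ) (y : F.X (j - 1)) :
    (F.fromOpcycles (j - 1) j).hom ((F.pOpcycles (j - 1)).hom y) = (F.d (j - 1) j).hom y := by
  have := F.p_fromOpcycles (j - 1) j
  exact congrArg (fun f => f.hom y) this

theorem pOpcycles_d (j : ℤ) (z : F.X (j - 1)) :
    (F.pOpcycles j).hom ((F.d (j - 1) j).hom z) = 0 := by
  have := F.d_pOpcycles (j - 1) j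
  exact congrArg (fun f => f.hom z) this

theorem fromOpcycles_injective (j : ℤ) (h : F.ExactAt (j - 1)) :
    Function.Injective (F.fromOpcycles (j - 1) j).hom := by
  rw [injective_iff_map_eq_zero]
  intro x hx
  obtain ⟨y, rfl⟩ := pOpcycles_surjective F (j - 1) x
  rw [fromOpcycles_pOpcycles] at hx
  have hex := (exactAt_iff_fexact F (j - 1 - 1) (j - 1) j (by lia) (by lia)).1 h
  obtain ⟨z, rfl⟩ := (hex y).1 hx
  exact pOpcycles_d F (j - 1) z

theorem range_fromOpcycles (j : ℤ) :
    LinearMap.range (F.fromOpcycles (j - 1) j).hom = LinearMap.ker (F.pOpcycles j).hom := by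
  rw [LinearMap.exact_iff.1 (fexact_d_pOpcycles F j)]
  ext w
  constructor
  · rintro ⟨x, rfl⟩
    obtain ⟨y, rfl⟩ := pOpcycles_surjective F (j - 1) x
    exact ⟨y, (fromOpcycles_pOpcycles F j y).symm⟩
  · rintro ⟨y, rfl⟩
    exact ⟨(F.pOpcycles (j - 1)).hom y, fromOpcycles_pOpcycles F j y⟩

/-- The previous cokernel is the kernel of the projection to the next one. -/
noncomputable def opcyclesKerEquiv (j : ℤ) (h : F.ExactAt (j - 1)) :
    F.opcycles (j - 1) ≃ₗ[B] LinearMap.ker (F.pOpcycles j).hom :=
  (LinearEquiv.ofInjective _ (fromOpcycles_injective F j h)).trans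
    (LinearEquiv.ofEq _ _ (range_fromOpcycles F j))

variable (hff : ∀ t : ℤ, Module.Finite B (F.X t) ∧ Module.Free B (F.X t))

include hff in
theorem finite_opcycles (j : ℤ) : Module.Finite B (F.opcycles j) := by
  have := (hff j).1
  exact Module.Finite.of_surjective (F.pOpcycles j).hom (pOpcycles_surjective F j)

include hff in
theorem finitePresentation_opcycles (j : ℤ) : Module.FinitePresentation B (F.opcycles j) := by
  have := (hff j).1
  have := (hff j).2
  have := (hff (j - 1)).1
  have hfpX : Module.FinitePresentation B (F.X j) := Module.finitePresentation_of_projective _ _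
  refine Module.finitePresentation_of_surjective (F.pOpcycles j).hom (pOpcycles_surjective F j) ?_
  rw [(LinearMap.exact_iff.1 (fexact_d_pOpcycles F j)), LinearMap.range_eq_map]
  exact (Module.Finite.fg_top).map _

end Opcycles

section Plain

variable (A B : Type u) [CommRing A] [CommRing B] [Algebra A B]

/-- The fibres of `Z` have projective dimension `< i`. -/
def FibPD (Z : Type u) [AddCommGroup Z] [Module B Z] (i : ℕ) : Prop :=
  ∀ p : PrimeSpectrum A, HasProjectiveDimensionLT
    (ModuleCat.of (B ⊗[A] p.asIdeal.ResidueField) ((B ⊗[A] p.asIdeal.ResidueField) ⊗[B] Z)) i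

variable {B} in
theorem FibPD.of_equiv {Z Z' : Type u} [AddCommGroup Z] [Module B Z] [AddCommGroup Z']
    [Module B Z'] (e : Z ≃ₗ[B] Z') {i : ℕ} (h : FibPD A B Z i) : FibPD A B Z' i := by
  intro p
  have := h p
  exact hasProjectiveDimensionLT_of_iso
    (LinearEquiv.toModuleIso (e.baseChange B (B ⊗[A] p.asIdeal.ResidueField) Z Z')) i

variable {A B}
variable {X Z Z' : Type u} [AddCommGroup X] [Module B X] [Module A X] [IsScalarTower A B X]
  [AddCommGroup Z] [Module B Z] [Module A Z] [IsScalarTower A B Z]
  [AddCommGroup Z'] [Module B Z'] [Module A Z'] [IsScalarTower A B Z']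
  (π : X →ₗ[B] Z) (hπ : Function.Surjective π) (e : Z' ≃ₗ[B] LinearMap.ker π)

include hπ e in
theorem step_flat [Module.Flat A X] [Module.Flat A Z] : Module.Flat A Z' := by
  have hk : Module.Flat A (LinearMap.ker π) :=
    Groth.Agent.Lib.T2H7.PdTorA.flat_ker ((LinearMap.ker π).subtype.restrictScalars A) (π.restrictScalars A)
      (Submodule.injective_subtype _) hπ (fun x => LinearMap.exact_subtype_ker_map π x)
  exact Module.Flat.of_linearEquiv (e.restrictScalars A)

omit [Module A Z'] [IsScalarTower A B Z'] in
include hπ e in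
theorem step_fib [Module.Projective B X] [Module.Flat A Z] (i : ℕ) (h : FibPD A B Z (i + 2)) :
    FibPD A B Z' (i + 1) := by
  refine FibPD.of_equiv A e.symm ?_
  intro p
  exact (hasPDLT_fibre_succ_iff A B p.asIdeal.ResidueField π hπ i).mp (h p)

include hπ e in
theorem step_pd [Module.Projective B X] (i : ℕ)
    (h : HasProjectiveDimensionLT (ModuleCat.of B Z') (i + 1)) :
    HasProjectiveDimensionLT (ModuleCat.of B Z) (i + 2) := by
  have hS := kerSC_shortExact π hπ
  have hproj : Projective (kerSC π).X₂ := projective_of_module_projective X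
  have h1 : HasProjectiveDimensionLT (kerSC π).X₁ (i + 1) :=
    hasProjectiveDimensionLT_of_iso (LinearEquiv.toModuleIso e) (i + 1)
  exact (hS.hasProjectiveDimensionLT_X₃_iff i hproj).mpr h1

include hπ e in
theorem step_pd' [Module.Projective B X] (i : ℕ)
    (h : HasProjectiveDimensionLT (ModuleCat.of B Z) (i + 2)) :
    HasProjectiveDimensionLT (ModuleCat.of B Z') (i + 1) := by
  have hS := kerSC_shortExact π hπ
  have hproj : Projective (kerSC π).X₂ := projective_of_module_projective X
  have h3 : HasProjectiveDimensionLT (kerSC π).X₃ (i + 2) := h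
  have h1 : HasProjectiveDimensionLT (ModuleCat.of B (LinearMap.ker π)) (i + 1) :=
    (hS.hasProjectiveDimensionLT_X₃_iff i hproj).mp h3
  exact hasProjectiveDimensionLT_of_iso (LinearEquiv.toModuleIso e.symm) (i + 1)

omit [Module A Z] [IsScalarTower A B Z] in
theorem base_zero [Module.Finite B Z] (h : FibPD A B Z 0) :
    HasProjectiveDimensionLT (ModuleCat.of B Z) 0 := by
  have : Subsingleton Z := subsingleton_of_fibre_subsingleton A B Z
    fun p => ModuleCat.subsingleton_of_isZero
      (@isZero_of_hasProjectiveDimensionLT_zero _ _ _ _ (h p))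
  exact (ModuleCat.isZero_of_subsingleton _).hasProjectiveDimensionLT_zero

theorem base_one [Module.FinitePresentation B Z] [Module.Flat A Z] (h : FibPD A B Z 1) :
    HasProjectiveDimensionLT (ModuleCat.of B Z) 1 := by
  have hflatB : Module.Flat B Z := by
    refine flat_of_fibre_flat (A := A) fun p => ?_
    have := h p
    have hp : Projective (ModuleCat.of (B ⊗[A] p.asIdeal.ResidueField)
        ((B ⊗[A] p.asIdeal.ResidueField) ⊗[B] Z)) := inferInstance
    have : Module.Projective (B ⊗[A] p.asIdeal.ResidueField)
        ((B ⊗[A] p.asIdeal.ResidueField) ⊗[B] Z) :=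
      (IsProjective.iff_projective (ModuleCat.of (B ⊗[A] p.asIdeal.ResidueField)
        ((B ⊗[A] p.asIdeal.ResidueField) ⊗[B] Z))).mpr hp
    infer_instance
  have : Module.Projective B Z := Module.Flat.projective_of_finitePresentation
  have : Projective (ModuleCat.of B Z) := projective_of_module_projective Z
  infer_instance

end Plain

section Main

variable (A : Type u) {B : Type u} [CommRing A] [CommRing B] [Algebra A B]
variable (F : DRing.Cx B) (hff : ∀ t : ℤ, Module.Finite B (F.X t) ∧ Module.Free B (F.X t))

include hff in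
/-- Projective dimension of the cokernels of a finite free complex is detected on the fibres. -/
theorem hasPDLT_opcycles [Module.Flat A B] : ∀ (i : ℕ) (j : ℤ), (∀ t : ℤ, t < j → F.ExactAt t) →
    Module.Flat A ((ModuleCat.restrictScalars (algebraMap A B)).obj (F.opcycles j)) →
    FibPD A B (F.opcycles j) i → HasProjectiveDimensionLT (F.opcycles j) i := by
  intro i
  induction i with
  | zero =>
    intro j _ _ h
    have := finite_opcycles F hff j
    exact base_zero (A := A) (B := B) (Z := F.opcycles j) h
  | succ i ih =>
    intro j hex hflat h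
    let _ : Module A (F.opcycles j) := Module.compHom _ (algebraMap A B)
    have : IsScalarTower A B (F.opcycles j) := IsScalarTower.of_algebraMap_smul (fun _ _ => rfl)
    have : Module.Flat A (F.opcycles j) := hflat
    rcases i with _ | i
    · have := finitePresentation_opcycles F hff j
      exact base_one (A := A) (B := B) (Z := F.opcycles j) h
    · have hfree := (hff j).2
      have hfin := (hff j).1
      let _ : Module A (F.X j) := Module.compHom _ (algebraMap A B)
      have : IsScalarTower A B (F.X j) := IsScalarTower.of_algebraMap_smul (fun _ _ => rfl)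
      have : Module.Flat A (F.X j) := Module.Flat.trans A B (F.X j)
      let _ : Module A (F.opcycles (j - 1)) := Module.compHom _ (algebraMap A B)
      have : IsScalarTower A B (F.opcycles (j - 1)) :=
        IsScalarTower.of_algebraMap_smul (fun _ _ => rfl)
      have hπs := pOpcycles_surjective F j
      have hexj : F.ExactAt (j - 1) := hex (j - 1) (by lia)
      let e := opcyclesKerEquiv F j hexj
      have hfl' : Module.Flat A (F.opcycles (j - 1)) := step_flat (F.pOpcycles j).hom hπs e
      have hfib' : FibPD A B (F.opcycles (j - 1)) (i + 1) :=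
        step_fib (F.pOpcycles j).hom hπs e i h
      have hpd' : HasProjectiveDimensionLT (F.opcycles (j - 1)) (i + 1) :=
        ih (j - 1) (fun t ht => hex t (by lia)) hfl' hfib'
      exact step_pd (F.pOpcycles j).hom hπs e i hpd'

/-- If the cokernel at `j` has projective dimension `≤ k`, then the cokernel at `j - k` is
projective. -/
theorem projective_opcycles_sub : ∀ (k : ℕ) (j : ℤ), (∀ t : ℤ, t < j → F.ExactAt t) →
    (∀ t : ℤ, Module.Projective B (F.X t)) →
    HasProjectiveDimensionLT (F.opcycles j) (k + 1) → Module.Projective B (F.opcycles (j - k)) := by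
  intro k
  induction k with
  | zero =>
    intro j _ _ h
    have hp : Projective (ModuleCat.of B (F.opcycles j)) :=
      (projective_iff_hasProjectiveDimensionLT_one).2 h
    have := (IsProjective.iff_projective (ModuleCat.of B (F.opcycles j))).mpr hp
    have hj0 : j - ((0 : ℕ) : ℤ) = j := by simp
    rw [hj0]
    exact this
  | succ k ih =>
    intro j hex hproj h
    have := hproj j
    have hπs := pOpcycles_surjective F j
    have hexj : F.ExactAt (j - 1) := hex (j - 1) (by lia)
    let e := opcyclesKerEquiv F j hexj
    have h' : HasProjectiveDimensionLT (F.opcycles (j - 1)) (k + 1) :=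
      step_pd' (F.pOpcycles j).hom hπs e k h
    have := ih (j - 1) (fun t ht => hex t (by lia)) hproj h'
    have hjk : j - 1 - (k : ℤ) = j - ((k + 1 : ℕ) : ℤ) := by push_cast; ring
    rw [hjk] at this
    exact this

end Main

end Groth.Agent.Lib.T2H7.FibGl
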