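import Mathlib
import Groth.Agent.Lib.T2H7PdPC2
import Groth.Agent.Lib.Helper1TorH
import Groth.Prelude.Def_DualSh

/-!
# Relatively perfect complexes over a flat finitely presented algebra (helper7)
-/

set_option autoImplicit false
universe u
open CategoryTheory CategoryTheory.Limits
attribute [local instance] HasDerivedCategory.standard

namespace Groth.Agent.Lib.T2H7.RelPerf

open Groth.Agent.Lib.Helper1.TorDim Groth.Agent.Lib.Helper1.Restrict
  Groth.Agent.Lib.T2H7.PdPC Groth.Agent.Lib.Helper1.Tor Groth.Agent.Lib.Helper1.PC
  Groth.Agent.Lib.Helper1.PCTower DerivedCategory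

variable (R A : Type u) [CommRing R] [CommRing A] [Algebra R A]

section Terms

variable [Module.Flat R A] [Algebra.FinitePresentation R A]

/-- A finitely presented `A`-module flat over `R`, placed in any degree, is pseudo-coherent. -/
theorem isPC_single_of_fp_flat (M : ModuleCat.{u} A) [Module.FinitePresentation A M]
    (hflat : Module.Flat R ((ModuleCat.restrictScalars (algebraMap R A)).obj M)) (n m : ℤ) :
    DRing.IsPseudoCoherent A m ((DerivedCategory.singleFunctor (ModuleCat.{u} A) n).obj M) := by
  let _ : Module R M := Module.compHom M (algebraMap R A)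
  have : IsScalarTower R A M := IsScalarTower.of_algebraMap_smul (fun _ _ => rfl)
  have : Module.Flat R M := hflat
  have h0 : DRing.IsPseudoCoherentModule' A M := isPseudoCoherentModule'_of_flat R A M
  have h : DRing.IsPseudoCoherent A (m - n)
      ((DerivedCategory.singleFunctor (ModuleCat.{u} A) 0).obj M) :=
    Groth.Agent.S6938.isPC_of_pc' _ h0 (m - n)
  exact isPC_of_iso
    (((DerivedCategory.singleFunctors (ModuleCat.{u} A)).shiftIso (-n) n 0 (by lia)).app M)
    (isPC_shift h (-n) m (by lia))

end Terms

/-- Restriction of scalars of a flat module along a flat algebra is flat. -/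
theorem flat_restrictScalars [Module.Flat R A] (M : ModuleCat.{u} A) [Module.Flat A M] :
    Module.Flat R ((ModuleCat.restrictScalars (algebraMap R A)).obj M) := by
  let _ : Module R M := Module.compHom M (algebraMap R A)
  have : IsScalarTower R A M := IsScalarTower.of_algebraMap_smul (fun _ _ => rfl)
  have : Module.Flat R M := Module.Flat.trans R A M
  exact this

variable [Module.Flat R A] [Algebra.FinitePresentation R A]

/-- A bounded complex of finitely presented modules flat over the base is relatively perfect. -/
theorem isRelPerfect_of_complex (K : Dual.D A) (E : DRing.Cx A) (a b : ℤ)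
    (hE : DRing.VanishesOutside E a b)
    (hterms : ∀ i : ℤ, Module.FinitePresentation A (E.X i) ∧
      Module.Flat R ((ModuleCat.restrictScalars (algebraMap R A)).obj (E.X i)))
    (e : DRing.toD E ≅ K) : Dual2.IsRelPerfect R A K := by
  constructor
  · rw [isPC'_iff_forall]
    intro m
    refine isPC_of_iso e (isPC_of_terms m E a b hE (fun j _ _ => ?_))
    have := (hterms j).1
    exact isPC_single_of_fp_flat R A (E.X j) (hterms j).2 j m
  · refine ⟨a, b, (DRing.restrictCx (algebraMap R A)).obj E, fun i hi => ?_, fun i => (hterms i).2,
      ⟨(restrictQIso (algebraMap R A) E).symm ≪≫ (DRing.restrictD (algebraMap R A)).mapIso e⟩⟩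
    exact (ModuleCat.restrictScalars (algebraMap R A)).map_isZero (hE i hi)

omit [Algebra.FinitePresentation R A] in
/-- A relatively perfect complex is represented by a bounded complex of finitely presented modules
flat over the base. -/
theorem exists_complex_of_isRelPerfect (K : Dual.D A) (h : Dual2.IsRelPerfect R A K) :
    ∃ (E : DRing.Cx A) (a b : ℤ), DRing.VanishesOutside E a b ∧
      (∀ i : ℤ, Module.FinitePresentation A (E.X i) ∧
        Module.Flat R ((ModuleCat.restrictScalars (algebraMap R A)).obj (E.X i))) ∧
      Nonempty (DRing.toD E ≅ K) := by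
  obtain ⟨⟨F, bF, hFb, hFff, ⟨e⟩⟩, ⟨a, b, hab⟩⟩ := h
  set G := (DRing.restrictCx (algebraMap R A)).obj F with hG
  have hGb : DRing.VanishesAbove G bF := fun i hi =>
    (ModuleCat.restrictScalars (algebraMap R A)).map_isZero (hFb i hi)
  have hFflat : ∀ i, Module.Flat R ((ModuleCat.restrictScalars (algebraMap R A)).obj (F.X i)) := by
    intro i
    have := (hFff i).2
    exact flat_restrictScalars R A (F.X i)
  have hGf : DRing.TermwiseFlat G := hFflat
  have hab' : DRing.HasTorAmplitudeIn R a b (DRing.toD G) :=
    hasTorAmp_of_iso ((DRing.restrictD (algebraMap R A)).mapIso e.symm ≪≫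
      restrictQIso (algebraMap R A) F) hab
  obtain ⟨E', hE', hE'f, ⟨e'⟩⟩ := hab'
  have htv : TorVan G a b := torVan_of_iso G E' bF hGb hGf a b hE' hE'f e'
  have hFge : F.IsGE a := by
    rw [CochainComplex.isGE_iff]
    intro i hi
    exact (exactAt_restrict_iff (algebraMap R A) F i).1 (htv.exactAt i (Or.inl hi))
  have hq : QuasiIso (F.πTruncGE a) := (F.quasiIso_πTruncGE_iff a).2 hFge
  have hiso : IsIso (Q.map (F.πTruncGE a)) :=
    (DerivedCategory.isIso_Q_map_iff_quasiIso (φ := F.πTruncGE a)).2 hq
  refine ⟨F.truncGE a, a, max bF a, ?_, ?_, ⟨(asIso (Q.map (F.πTruncGE a))).symm ≪≫ e⟩⟩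
  · rintro i (hi | hi)
    · exact (F.truncGE a).isZero_of_isStrictlyGE a i hi
    · have hi1 : a < i := lt_of_le_of_lt (le_max_right _ _) hi
      have hi2 : bF < i := lt_of_le_of_lt (le_max_left _ _) hi
      exact (hFb i hi2).of_iso (F.truncGEXIso a i hi1)
  · intro i
    obtain hi | rfl | hi := lt_trichotomy i a
    · have hz : IsZero ((F.truncGE a).X i) := (F.truncGE a).isZero_of_isStrictlyGE a i hi
      have := ModuleCat.subsingleton_of_isZero hz
      have hz' := (ModuleCat.restrictScalars (algebraMap R A)).map_isZero hz
      have := ModuleCat.subsingleton_of_isZero hz'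
      exact ⟨inferInstance, inferInstance⟩
    · -- the cokernel term
      have hsurj : Function.Surjective (F.pOpcycles i).hom :=
        (ModuleCat.epi_iff_surjective _).1 inferInstance
      have hex := fexact_d_pOpcycles F i
      have hfree := (hFff i).2
      have hfin := (hFff i).1
      have hfin' := (hFff (i - 1)).1
      have hfpX : Module.FinitePresentation A (F.X i) := Module.finitePresentation_of_projective _ _
      have hfp : Module.FinitePresentation A (F.opcycles i) := by
        refine Module.finitePresentation_of_surjective (F.pOpcycles i).hom hsurj ?_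
        rw [(LinearMap.exact_iff.1 hex), LinearMap.range_eq_map]
        exact (Module.Finite.fg_top).map _
      have hfl : Module.Flat R
          ((ModuleCat.restrictScalars (algebraMap R A)).obj (F.opcycles i)) :=
        flat_of_torVan G hGf i b htv
          ((ModuleCat.restrictScalars (algebraMap R A)).map (F.pOpcycles i)).hom hsurj hex
      constructor
      · exact Module.FinitePresentation.of_equiv (F.truncGEXIsoOpcycles i).symm.toLinearEquiv
      · exact Module.Flat.of_linearEquiv ((ModuleCat.restrictScalars (algebraMap R A)).mapIso
          (F.truncGEXIsoOpcycles i)).toLinearEquiv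
    · have hfree := (hFff i).2
      have hfin := (hFff i).1
      have hfl := hFflat i
      have hfpX : Module.FinitePresentation A (F.X i) := Module.finitePresentation_of_projective _ _
      constructor
      · exact Module.FinitePresentation.of_equiv (F.truncGEXIso a i hi).symm.toLinearEquiv
      · exact Module.Flat.of_linearEquiv ((ModuleCat.restrictScalars (algebraMap R A)).mapIso
          (F.truncGEXIso a i hi)).toLinearEquiv

end Groth.Agent.Lib.T2H7.RelPerf
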