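import Mathlib
import Groth.Agent.Lib.T2H7FibGl
import Groth.Agent.Lib.T2H7RelPerf
import Groth.Agent.S6954

/-!
# Perfectness from finite global dimension of the fibres (helper7)
-/

set_option autoImplicit false
universe u
open CategoryTheory CategoryTheory.Limits TensorProduct
attribute [local instance] HasDerivedCategory.standard

namespace Groth.Agent.Lib.T2H7.FibGl

open Groth.Agent.Lib.Helper1.TorDim Groth.Agent.Lib.Helper1.Restrict
  Groth.Agent.Lib.Helper1.Tor Groth.Agent.Lib.T2H7.PdIso DerivedCategory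

variable {A B : Type u} [CommRing A] [CommRing B] [Algebra A B] [Module.Flat A B]

omit [Module.Flat A B] in
/-- The bound on the projective dimension of modules over the fibres `κ(p) ⊗ B`, transported to
`B ⊗ κ(p)`. -/
theorem hasPDLT_fibre_comm (d : ℕ)
    (hgl : ∀ (p : PrimeSpectrum A) (M : Type u) [AddCommGroup M]
      [Module (TensorProduct A p.asIdeal.ResidueField B) M],
      HasProjectiveDimensionLT (ModuleCat.of (TensorProduct A p.asIdeal.ResidueField B) M) (d + 1))
    (p : PrimeSpectrum A) (N : Type u) [AddCommGroup N] [Module (B ⊗[A] p.asIdeal.ResidueField) N] :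
    HasProjectiveDimensionLT (ModuleCat.of (B ⊗[A] p.asIdeal.ResidueField) N) (d + 1) := by
  let e : (p.asIdeal.ResidueField ⊗[A] B) ≃+* (B ⊗[A] p.asIdeal.ResidueField) :=
    (Algebra.TensorProduct.comm A p.asIdeal.ResidueField B).toRingEquiv
  let _ : Module (p.asIdeal.ResidueField ⊗[A] B) N :=
    Module.compHom N (e : (p.asIdeal.ResidueField ⊗[A] B) →+* (B ⊗[A] p.asIdeal.ResidueField))
  exact hasPDLT_of_ringEquiv e (d + 1) N (fun _ _ => rfl) (hgl p N)

theorem isPerfect_of_fibre_gldim (d : ℕ)
    (hgl : ∀ (p : PrimeSpectrum A) (M : Type u) [AddCommGroup M]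
      [Module (TensorProduct A p.asIdeal.ResidueField B) M],
      HasProjectiveDimensionLT (ModuleCat.of (TensorProduct A p.asIdeal.ResidueField B) M) (d + 1))
    (a b : ℤ) (K : Dual.D B) (hK : DRing.IsPseudoCoherent' B K)
    (hKa : DRing.HasTorAmplitudeIn A a b ((DRing.restrictD (algebraMap A B)).obj K)) :
    DRing.IsPerfect B K ∧ DRing.HasTorAmplitudeIn B (a - d) b K := by
  obtain ⟨F, bF, hFb, hFff, ⟨e⟩⟩ := hK
  set G := (DRing.restrictCx (algebraMap A B)).obj F with hG
  have hGb : DRing.VanishesAbove G bF := fun i hi =>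
    (ModuleCat.restrictScalars (algebraMap A B)).map_isZero (hFb i hi)
  have hGf : DRing.TermwiseFlat G := by
    intro i
    have := (hFff i).2
    exact Groth.Agent.Lib.T2H7.RelPerf.flat_restrictScalars A B (F.X i)
  have hab' : DRing.HasTorAmplitudeIn A a b (DRing.toD G) :=
    hasTorAmp_of_iso ((DRing.restrictD (algebraMap A B)).mapIso e.symm ≪≫
      restrictQIso (algebraMap A B) F) hKa
  obtain ⟨E', hE', hE'f, ⟨e'⟩⟩ := hab'
  have htv : TorVan G a b := torVan_of_iso G E' bF hGb hGf a b hE' hE'f e'
  have hlow : ∀ i : ℤ, i < a → F.ExactAt i := fun i hi =>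
    (exactAt_restrict_iff (algebraMap A B) F i).1 (htv.exactAt i (Or.inl hi))
  have hhigh : ∀ i : ℤ, b < i → F.ExactAt i := fun i hi =>
    (exactAt_restrict_iff (algebraMap A B) F i).1 (htv.exactAt i (Or.inr hi))
  -- the cokernel at `a` is flat over `A`
  have hfl : Module.Flat A ((ModuleCat.restrictScalars (algebraMap A B)).obj (F.opcycles a)) :=
    flat_of_torVan G hGf a b htv
      ((ModuleCat.restrictScalars (algebraMap A B)).map (F.pOpcycles a)).hom
      (pOpcycles_surjective F a) (fexact_d_pOpcycles F a)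
  -- its projective dimension is at most `d`
  have hpd : HasProjectiveDimensionLT (F.opcycles a) (d + 1) :=
    hasPDLT_opcycles A F hFff (d + 1) a hlow hfl
      (fun p => hasPDLT_fibre_comm d hgl p _)
  have hproj : Module.Projective B (F.opcycles (a - d)) :=
    projective_opcycles_sub F d a hlow (fun t => by
      have := (hFff t).2
      infer_instance) hpd
  have hFf : DRing.TermwiseFlat F := fun i => by
    have := (hFff i).2
    infer_instance
  have hamp : DRing.HasTorAmplitudeIn B (a - d) b (DRing.toD F) :=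
    hasTorAmp_of_flat_opcycles F bF hFb hFf (a - d) b (fun i hi => hlow i (by lia)) hhigh
      inferInstance
  have hampK : DRing.HasTorAmplitudeIn B (a - d) b K := hasTorAmp_of_iso e hamp
  exact ⟨(Groth.Agent.S6954.result B K).2 ⟨⟨F, bF, hFb, hFff, ⟨e⟩⟩, ⟨_, _, hampK⟩⟩, hampK⟩

end Groth.Agent.Lib.T2H7.FibGl
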