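import Mathlib

/-!
# Two embeddings of a field become conjugate in a big algebraically closed field (helper7)
-/

set_option autoImplicit false
set_option linter.unusedSectionVars false
set_option linter.unusedVariables false
set_option linter.style.haveILetI false
universe u
open Cardinal

namespace Groth.Agent.Lib.T2H7.FieldAut

/-- Two algebraically closed extensions of `k` with equipotent transcendence bases are isomorphic
over `k`. -/
theorem exists_ringEquiv_of_transcendenceBasis (k L M : Type u) [Field k] [Field L] [Field M]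
    [Algebra k L] [Algebra k M] [IsAlgClosed L] [IsAlgClosed M] {ι κ : Type u} (v : ι → L)
    (w : κ → M) (e : ι ≃ κ) (hv : IsTranscendenceBasis k v) (hw : IsTranscendenceBasis k w) :
    ∃ φ : L ≃+* M, ∀ a : k, φ (algebraMap k L a) = algebraMap k M a := by
  letI := IsAlgClosed.isAlgClosure_of_transcendence_basis v hv
  letI := IsAlgClosed.isAlgClosure_of_transcendence_basis w hw
  let e' : Algebra.adjoin k (Set.range v) ≃ₐ[k] Algebra.adjoin k (Set.range w) :=
    hv.1.aevalEquiv.symm.trans ((MvPolynomial.renameEquiv k e).trans hw.1.aevalEquiv)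
  refine ⟨IsAlgClosure.equivOfEquiv L M e'.toRingEquiv, fun a => ?_⟩
  rw [IsScalarTower.algebraMap_apply k (Algebra.adjoin k (Set.range v)) L,
    IsAlgClosure.equivOfEquiv_algebraMap]
  have : e'.toRingEquiv (algebraMap k (Algebra.adjoin k (Set.range v)) a) =
      algebraMap k (Algebra.adjoin k (Set.range w)) a := e'.commutes a
  rw [this, ← IsScalarTower.algebraMap_apply]

/-- Every field embeds in an algebraically closed field of strictly bigger (and uncountable)
cardinality. -/
theorem exists_big_algClosed (K : Type u) [Field K] :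
    ∃ (Ω : Type u) (_ : Field Ω) (_ : IsAlgClosed Ω) (_ : K →+* Ω), max #K ℵ₀ < #Ω := by
  let I : Type u := Set (K × ℕ)
  let F := FractionRing (MvPolynomial I K)
  refine ⟨AlgebraicClosure F, inferInstance, inferInstance,
    (algebraMap F (AlgebraicClosure F)).comp (algebraMap K F), ?_⟩
  have hI : max #K ℵ₀ < #I := by
    have h1 : #(K × ℕ) < #I := by
      rw [show #I = 2 ^ #(K × ℕ) from Cardinal.mk_set]; exact Cardinal.cantor _
    have h2 : max #K ℵ₀ ≤ #(K × ℕ) := by
      refine max_le ?_ ?_
      · exact Cardinal.mk_le_of_injective (f := fun a : K => (a, 0))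
          (fun a b h => (Prod.mk.inj h).1)
      · haveI : Infinite (K × ℕ) := Prod.infinite_of_right
        exact Cardinal.aleph0_le_mk _
    exact h2.trans_lt h1
  refine hI.trans_le ?_
  have hinj : Function.Injective (fun i : I =>
      algebraMap F (AlgebraicClosure F) (algebraMap (MvPolynomial I K) F (MvPolynomial.X i))) := by
    intro i j hij
    have h1 := (algebraMap F (AlgebraicClosure F)).injective hij
    have h2 := IsFractionRing.injective (MvPolynomial I K) F h1
    exact MvPolynomial.X_injective h2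
  exact Cardinal.mk_le_of_injective hinj

/-- A transcendence basis of a big algebraically closed extension has the cardinality of the
extension. -/
theorem card_transcendenceBasis_eq (k Ω : Type u) [Field k] [Field Ω] [Algebra k Ω] [IsAlgClosed Ω]
    (h : max #k ℵ₀ < #Ω) {ι : Type u} (v : ι → Ω) (hv : IsTranscendenceBasis k v) : #ι = #Ω := by
  apply le_antisymm
  · exact Cardinal.mk_le_of_injective hv.1.injective
  · have h1 : #Ω ≤ max (max #k #ι) ℵ₀ :=
      IsAlgClosed.cardinal_le_max_transcendence_basis' (R := k) (K' := Ω) (v' := v) hv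
    by_contra hcon
    rw [not_le] at hcon
    exact absurd h1 (not_le.mpr (max_lt (max_lt ((le_max_left _ _).trans_lt h) hcon)
      ((le_max_right _ _).trans_lt h)))

/-- Two embeddings of a field `k` in a field `K` become conjugate under an automorphism of a big
algebraically closed field containing `K`. -/
theorem exists_conj (k K : Type u) [Field k] [Field K] (σ₁ σ₂ : k →+* K) :
    ∃ (Ω : Type u) (_ : Field Ω) (_ : IsAlgClosed Ω) (ι : K →+* Ω) (β : Ω ≃+* Ω),
      ∀ a : k, β (ι (σ₁ a)) = ι (σ₂ a) := by
  obtain ⟨Ω, hΩ, hac, ι, hcard⟩ := exists_big_algClosed K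
  have hk : max #k ℵ₀ < #Ω :=
    (max_le_max (Cardinal.mk_le_of_injective σ₁.injective) le_rfl).trans_lt hcard
  let A₁ : Algebra k Ω := (ι.comp σ₁).toAlgebra
  let A₂ : Algebra k Ω := (ι.comp σ₂).toAlgebra
  obtain ⟨s₁, hs₁⟩ := @exists_isTranscendenceBasis k Ω _ _ A₁
    (by letI := A₁; exact (faithfulSMul_iff_algebraMap_injective k Ω).mpr (algebraMap k Ω).injective)
  obtain ⟨s₂, hs₂⟩ := @exists_isTranscendenceBasis k Ω _ _ A₂
    (by letI := A₂; exact (faithfulSMul_iff_algebraMap_injective k Ω).mpr (algebraMap k Ω).injective)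
  have c₁ : #s₁ = #Ω := @card_transcendenceBasis_eq k Ω _ _ A₁ _ hk _ _ hs₁
  have c₂ : #s₂ = #Ω := @card_transcendenceBasis_eq k Ω _ _ A₂ _ hk _ _ hs₂
  obtain ⟨e⟩ : Nonempty (s₁ ≃ s₂) := Cardinal.eq.mp (c₁.trans c₂.symm)
  obtain ⟨φ, hφ⟩ := @exists_ringEquiv_of_transcendenceBasis k Ω Ω _ _ _ A₁ A₂ _ _ _ _ _ _ e
    hs₁ hs₂
  exact ⟨Ω, hΩ, hac, ι, φ, fun a => hφ a⟩

end Groth.Agent.Lib.T2H7.FieldAut
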