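import Mathlib
import Groth.Prelude.Def_Fitting
import Groth.Prelude.Def_Mor2
import Groth.Agent.Lib.Helper18FittSh1
import Groth.Agent.Lib.Helper22IdealComap

/-!
# Fitting ideal sheaves of a finite morphism

For a finite morphism `f : X ⟶ Y` the `k`-th Fitting ideal sheaf `fitt f k` of `f_* O_X` on `Y`,
defined on affine opens directly, and its compatibility with base change.
-/

set_option autoImplicit false
set_option linter.style.haveILetI false
set_option linter.unusedSectionVars false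
set_option backward.isDefEq.respectTransparency false
universe u
open CategoryTheory AlgebraicGeometry Limits Opposite TopologicalSpace TensorProduct

namespace Groth.Agent.Lib.T2H7.FinFitt

open Groth.Agent.Helper18Fitt

/-- ring-level Fitting ideal of a ring homomorphism `φ : A → B` (of `B` as an `A`-module) -/
noncomputable def rfitt {A B : Type u} [CommRing A] [CommRing B] (φ : A →+* B) (k : ℕ) : Ideal A :=
  letI := φ.toAlgebra; Fitt.ideal A B k

/-- Fitting ideals commute with base change along a pushout square in `CommRingCat` -/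
theorem rfitt_of_isPushout {R S T P : CommRingCat.{u}} {f : R ⟶ S} {g : R ⟶ T} {inl : S ⟶ P}
    {inr : T ⟶ P} (h : IsPushout f g inl inr) (hfin : f.hom.Finite) (k : ℕ) :
    rfitt inr.hom k = (rfitt f.hom k).map g.hom := by
  algebraize [f.hom, g.hom, inl.hom, inr.hom, inl.hom.comp f.hom]
  have : IsScalarTower R T P := .of_algebraMap_eq' <| congr($(h.1.1).hom)
  have h1 : Algebra.IsPushout R S T P := CommRingCat.isPushout_iff_isPushout.mp h
  have h2 : Algebra.IsPushout R T S P := h1.symm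
  have hbc : IsBaseChange T (IsScalarTower.toAlgHom R S P).toLinearMap := h2.out
  haveI : Module.Finite R S := hfin
  have e : P ≃ₗ[T] T ⊗[R] S := hbc.equiv.symm
  change Fitt.ideal T P k = (Fitt.ideal R S k).map (algebraMap R T)
  rw [fitt_congr e k, fitt_baseChange (R' := T) (M := S) k]

section scheme

variable {X Y : Scheme.{u}} (f : X ⟶ Y) [IsFinite f]

/-- local form of base change for Fitting ideals of a finite morphism -/
theorem rfitt_of_isPullback {X' Y' : Scheme.{u}} {g' : X' ⟶ X} {f' : X' ⟶ Y'} {g : Y' ⟶ Y}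
    (H : IsPullback g' f' f g) {V : Y.Opens} (hV : IsAffineOpen V) {U' : Y'.Opens}
    (hU' : IsAffineOpen U') (h : U' ≤ g ⁻¹ᵁ V) (k : ℕ) :
    rfitt (f'.app U').hom k = (rfitt (f.app V).hom k).map (g.appLE V U' h).hom := by
  have hUY : f' ⁻¹ᵁ U' = g' ⁻¹ᵁ (f ⁻¹ᵁ V) ⊓ f' ⁻¹ᵁ U' := by
    rw [eq_comm, inf_eq_right, ← Scheme.Hom.comp_preimage, H.w, Scheme.Hom.comp_preimage]
    exact f'.preimage_mono h
  have hiso := isIso_pushoutSection_of_isAffineOpen H h (le_refl (f ⁻¹ᵁ V)) hUY hV hU'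
    (hV.preimage f)
  have hpo := (isIso_pushoutSection_iff H h (le_refl (f ⁻¹ᵁ V)) hUY).1 hiso
  have h1 := rfitt_of_isPushout hpo (by
    rw [Scheme.Hom.appLE_eq_app]; exact IsFinite.finite_app f V hV) k
  rw [Scheme.Hom.appLE_eq_app, Scheme.Hom.appLE_eq_app] at h1
  exact h1

theorem id_appLE_eq {Y : Scheme.{u}} (V W : Y.Opens) (h : W ≤ (𝟙 Y) ⁻¹ᵁ V) :
    (𝟙 Y : Y ⟶ Y).appLE V W h = Y.presheaf.map (homOfLE (show W ≤ V from h)).op := by
  simp [Scheme.Hom.appLE]

/-- the `k`-th Fitting ideal sheaf of `f_* O_X` for a finite morphism `f : X ⟶ Y` -/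
noncomputable def fitt (k : ℕ) : Y.IdealSheafData where
  ideal V := rfitt (f.app V.1).hom k
  map_ideal_basicOpen V g := by
    have H : IsPullback (𝟙 X) f f (𝟙 Y) := IsPullback.of_horiz_isIso ⟨by simp⟩
    have h1 := rfitt_of_isPullback f H V.2 (Y.affineBasicOpen g).2
      (show (Y.affineBasicOpen g).1 ≤ (𝟙 Y) ⁻¹ᵁ V.1 from Y.basicOpen_le g) k
    rw [id_appLE_eq] at h1
    exact h1.symm

theorem fitt_ideal (k : ℕ) (V : Y.affineOpens) : (fitt f k).ideal V = rfitt (f.app V.1).hom k := rfl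

theorem isFinite_of_isPullback {X' Y' : Scheme.{u}} {g' : X' ⟶ X} {f' : X' ⟶ Y'} {g : Y' ⟶ Y}
    (H : IsPullback g' f' f g) : IsFinite f' :=
  MorphismProperty.of_isPullback (P := @IsFinite) H inferInstance

/-- **base change** for the Fitting ideal sheaves of a finite morphism -/
theorem fitt_comap_of_isPullback {X' Y' : Scheme.{u}} {g' : X' ⟶ X} {f' : X' ⟶ Y'} {g : Y' ⟶ Y}
    [IsFinite f'] (H : IsPullback g' f' f g) (k : ℕ) :
    (fitt f k).comap g = fitt f' k := by
  let ι : Type u := {p : Y'.affineOpens × Y.affineOpens // p.1.1 ≤ g ⁻¹ᵁ p.2.1}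
  have hcov : ⨆ p : ι, (p.1.1 : Y'.affineOpens).1 = ⊤ := by
    rw [eq_top_iff]
    intro y _
    obtain ⟨V, hV, hyV, -⟩ := exists_isAffineOpen_mem_and_subset (x := g y) (U := ⊤) trivial
    obtain ⟨U, hU, hyU, hUV⟩ := exists_isAffineOpen_mem_and_subset (x := y) (U := g ⁻¹ᵁ V) hyV
    exact Opens.mem_iSup.2 ⟨⟨(⟨U, hU⟩, ⟨V, hV⟩), hUV⟩, hyU⟩
  apply Scheme.IdealSheafData.ext_of_iSup_eq_top (fun p : ι => p.1.1) hcov
  intro p
  rw [Groth.Agent.Lib.Helper22.IdealComap.ideal_comap_eq_map g _ p.1.1 p.1.2 p.2, fitt_ideal,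
    fitt_ideal, rfitt_of_isPullback f H p.1.2.2 p.1.1.2 p.2 k]

/-- invariance under isomorphisms of the source -/
theorem fitt_eq_of_iso {X₁ : Scheme.{u}} (f₁ : X₁ ⟶ Y) [IsFinite f₁] (e : X₁ ≅ X)
    (he : e.hom ≫ f = f₁) (k : ℕ) : fitt f₁ k = fitt f k := by
  have H : IsPullback e.hom f₁ f (𝟙 Y) := IsPullback.of_horiz_isIso ⟨by simp [he]⟩
  rw [← fitt_comap_of_isPullback f H k, Scheme.IdealSheafData.comap_id]

end scheme

end Groth.Agent.Lib.T2H7.FinFitt
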