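import Mathlib
import Groth.Agent.Lib.T2H7FinFitt
import Groth.Agent.Lib.Helper18FinFlat2

/-!
# Fitting ideal sheaves of a finite morphism: local freeness criterion
-/

set_option autoImplicit false
set_option linter.style.haveILetI false
set_option linter.unusedSectionVars false
set_option backward.isDefEq.respectTransparency false
universe u
open CategoryTheory AlgebraicGeometry Limits Opposite TopologicalSpace TensorProduct

namespace Groth.Agent.Lib.T2H7.FinFitt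

open Groth.Agent.Helper18Fitt Groth.Agent.Helper18FittSh Groth.Agent.Helper18FinFlat
  Groth.Agent.Lib.Helper23.QCohLocal

variable {X Y : Scheme.{u}} (f : X ⟶ Y) [IsFinite f]

/-- the direct image `f_* O_X` -/
noncomputable abbrev pushO : Y.Modules :=
  (Scheme.Modules.pushforward f).obj (Coh.structureModule X)

instance : (pushO f).IsQuasicoherent := isQuasicoherent_pushforward f _

theorem finite_pushO (V : Y.Opens) (hV : IsAffineOpen V) :
    Module.Finite Γ(Y, V) Γ(pushO f, V) := by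
  letI : Algebra Γ(Y, V) Γ(X, f ⁻¹ᵁ V) := (f.app V).hom.toAlgebra
  haveI : Module.Finite Γ(Y, V) Γ(X, f ⁻¹ᵁ V) := IsFinite.finite_app f V hV
  exact Module.Finite.equiv (pushEquiv f V).symm

theorem isFT_pushO : CohB1.IsFT (pushO f) :=
  (Groth.Agent.Lib.Helper23.FinType.isFiniteType_iff_forall_affine (pushO f)).2
    (fun V hV => finite_pushO f V hV)

theorem sheafIdeal_pushO (k : ℕ) : Fitt.sheafIdeal (pushO f) k = fitt f k := by
  have hfin : ∀ V : Y.affineOpens, Module.Finite Γ(Y, V.1) Γ(pushO f, V.1) :=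
    fun V => finite_pushO f V.1 V.2
  ext V : 2
  rw [sheafIdeal_ideal (pushO f) k hfin V, fitt_ideal]
  letI : Algebra Γ(Y, V.1) Γ(X, f ⁻¹ᵁ V.1) := (f.app V.1).hom.toAlgebra
  haveI := hfin V
  exact fitt_congr (pushEquiv f V.1) k

/-- **criterion**: a finite morphism whose Fitting ideal sheaves are `⊥` below `d` and `⊤` at `d`
is finite locally free of degree `d`. -/
theorem isFinLocFreeOfDeg_of_fitt (d : ℕ) (h1 : ∀ k, k < d → fitt f k = ⊥) (h2 : fitt f d = ⊤) :
    Mor2.IsFinLocFreeOfDeg d f := by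
  refine (main_S19692 f d).2 ⟨inferInstance, ?_⟩
  exact isFinLocFreeOfRank_of_fitt (pushO f) (isFT_pushO f) d
    (fun k hk => by rw [sheafIdeal_pushO, h1 k hk]) (by rw [sheafIdeal_pushO, h2])

theorem fitt_mono' {k k' : ℕ} (h : k ≤ k') : fitt f k ≤ fitt f k' := by
  intro V
  rw [fitt_ideal, fitt_ideal]
  letI : Algebra Γ(Y, V.1) Γ(X, f ⁻¹ᵁ V.1) := (f.app V.1).hom.toAlgebra
  haveI : Module.Finite Γ(Y, V.1) Γ(X, f ⁻¹ᵁ V.1) := IsFinite.finite_app f V.1 V.2
  exact fitt_mono h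

theorem exists_notMem_support (y : Y) : ∃ n : ℕ, y ∉ (fitt f n).support := by
  obtain ⟨n, hn⟩ := main_S8877 Y (pushO f) inferInstance (isFT_pushO f) y
  exact ⟨n, by rwa [sheafIdeal_pushO] at hn⟩

/-- a finite morphism with a section has vanishing zeroth Fitting ideal -/
theorem fitt_zero_of_section (σ : Y ⟶ X) (hσ : σ ≫ f = 𝟙 Y) : fitt f 0 = ⊥ := by
  rw [eq_bot_iff]
  intro V
  rw [fitt_ideal]
  letI : Algebra Γ(Y, V.1) Γ(X, f ⁻¹ᵁ V.1) := (f.app V.1).hom.toAlgebra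
  have hle : V.1 ≤ σ ⁻¹ᵁ (f ⁻¹ᵁ V.1) := by
    rw [← Scheme.Hom.comp_preimage, hσ]; exact le_rfl
  have hcomp : f.app V.1 ≫ σ.appLE (f ⁻¹ᵁ V.1) V.1 hle = 𝟙 _ := by
    rw [← Scheme.Hom.appLE_eq_app, Scheme.Hom.appLE_comp_appLE]
    have := Groth.Agent.Lib.Helper22.IdealComap.appLE_congr_hom hσ V.1 V.1
      (by rw [hσ]; exact le_rfl)
    rw [this, id_appLE_eq]
    exact Y.presheaf.map_id _
  have hc : ∀ a : Γ(Y, V.1), (σ.appLE (f ⁻¹ᵁ V.1) V.1 hle).hom ((f.app V.1).hom a) = a :=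
    fun a => congrArg (fun φ => φ.hom a) hcomp
  let r : Γ(X, f ⁻¹ᵁ V.1) →ₗ[Γ(Y, V.1)] Γ(Y, V.1) :=
    { toFun := fun b => (σ.appLE (f ⁻¹ᵁ V.1) V.1 hle).hom b
      map_add' := fun b b' => map_add _ b b'
      map_smul' := fun a b => by
        change (σ.appLE (f ⁻¹ᵁ V.1) V.1 hle).hom ((f.app V.1).hom a * b) = a * _
        rw [map_mul, hc] }
  have hr : Function.Surjective r := fun a => ⟨(f.app V.1).hom a, hc a⟩
  have h1 := fitt_le_of_surjective r hr 0
  have h2 : Fitt.ideal Γ(Y, V.1) Γ(Y, V.1) 0 = ⊥ :=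
    (fitt_of_basis (Module.Basis.singleton (Fin 1) Γ(Y, V.1)) 0).1 Nat.zero_lt_one
  rw [h2] at h1
  exact h1

end Groth.Agent.Lib.T2H7.FinFitt
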