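import Mathlib

/-!
# Averaging over a finite group acting on a square-zero thickening (helper7)

Let `τ : G → (B →+* B)` be ring endomorphisms congruent to the identity modulo an ideal `K` of
square zero, and suppose the order of `G` is invertible in `B`.  Then the average of the `τ g` is a
ring endomorphism of `B`; if the `τ g` compose like a group action and `K` is generated by the
`τ g b - b`, the average kills `K`.
-/

set_option autoImplicit false
set_option linter.unusedSectionVars false
set_option linter.unusedVariables false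
set_option linter.style.haveILetI false
universe u v

namespace Groth.Agent.Lib.T2H7.FinFixA

section Avg

variable {B : Type u} [CommRing B] {G : Type v} [Fintype G]
  (τ : G → B →+* B) (K : Ideal B) (ν : B)

theorem sum_sub_mem (hτ : ∀ g b, τ g b - b ∈ K) (b : B) :
    (∑ g, τ g b) - (Fintype.card G : B) * b ∈ K := by
  have h1 : (∑ g, τ g b) - (Fintype.card G : B) * b = ∑ g, (τ g b - b) := by
    rw [Finset.sum_sub_distrib, Finset.sum_const, Finset.card_univ, nsmul_eq_mul]
  rw [h1]
  exact K.sum_mem fun g _ => hτ g b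

/-- the average of the endomorphisms `τ g`. -/
noncomputable def avg (hK : ∀ u ∈ K, ∀ v ∈ K, u * v = 0) (hτ : ∀ g b, τ g b - b ∈ K)
    (hν : (Fintype.card G : B) * ν = 1) : B →+* B where
  toFun b := ν * ∑ g, τ g b
  map_one' := by
    simp only [map_one, Finset.sum_const, Finset.card_univ, nsmul_eq_mul, mul_one]
    rw [mul_comm]
    exact hν
  map_mul' a b := by
    -- write `τ g x = x + δ g x`
    have key : ∀ g, τ g (a * b) =
        a * b + a * (τ g b - b) + (τ g a - a) * b := by
      intro g
      have h0 : (τ g a - a) * (τ g b - b) = 0 := hK _ (hτ g a) _ (hτ g b)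
      rw [map_mul]
      linear_combination h0
    have hsum : ∑ g, τ g (a * b) = (Fintype.card G : B) * (a * b) +
        a * ((∑ g, τ g b) - (Fintype.card G : B) * b) +
        ((∑ g, τ g a) - (Fintype.card G : B) * a) * b := by
      have h1 : ∀ x : B, (∑ g, τ g x) - (Fintype.card G : B) * x = ∑ g, (τ g x - x) := by
        intro x
        rw [Finset.sum_sub_distrib, Finset.sum_const, Finset.card_univ, nsmul_eq_mul]
      rw [h1 a, h1 b, Finset.mul_sum, Finset.sum_mul]
      rw [Finset.sum_congr rfl fun g _ => key g]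
      rw [Finset.sum_add_distrib, Finset.sum_add_distrib, Finset.sum_const, Finset.card_univ,
        nsmul_eq_mul]
    have h00 : ((∑ g, τ g a) - (Fintype.card G : B) * a) *
        ((∑ g, τ g b) - (Fintype.card G : B) * b) = 0 :=
      hK _ (sum_sub_mem τ K hτ a) _ (sum_sub_mem τ K hτ b)
    show ν * ∑ g, τ g (a * b) = (ν * ∑ g, τ g a) * (ν * ∑ g, τ g b)
    rw [hsum]
    linear_combination (- ν * ν) * h00 -
      (ν * (a * (∑ g, τ g b) + (∑ g, τ g a) * b) - ν * (Fintype.card G : B) * a * b) * hν
  map_zero' := by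
    simp
  map_add' a b := by
    simp only [map_add, Finset.sum_add_distrib, mul_add]

variable {τ K ν}

theorem avg_apply (hK : ∀ u ∈ K, ∀ v ∈ K, u * v = 0) (hτ : ∀ g b, τ g b - b ∈ K)
    (hν : (Fintype.card G : B) * ν = 1) (b : B) :
    avg τ K ν hK hτ hν b = ν * ∑ g, τ g b := rfl

/-- the average is congruent to the identity modulo `K`. -/
theorem sub_avg_mem (hK : ∀ u ∈ K, ∀ v ∈ K, u * v = 0) (hτ : ∀ g b, τ g b - b ∈ K)
    (hν : (Fintype.card G : B) * ν = 1) (b : B) :
    b - avg τ K ν hK hτ hν b ∈ K := by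
  have h1 : b - avg τ K ν hK hτ hν b = (-ν) * ((∑ g, τ g b) - (Fintype.card G : B) * b) := by
    rw [avg_apply]
    linear_combination (-b) * hν
  rw [h1]
  exact K.mul_mem_left _ (sum_sub_mem τ K hτ b)

/-- the average fixes the elements fixed by all `τ g`. -/
theorem avg_fix (hK : ∀ u ∈ K, ∀ v ∈ K, u * v = 0) (hτ : ∀ g b, τ g b - b ∈ K)
    (hν : (Fintype.card G : B) * ν = 1) {b : B} (hb : ∀ g, τ g b = b) :
    avg τ K ν hK hτ hν b = b := by
  rw [avg_apply, Finset.sum_congr rfl fun g _ => hb g, Finset.sum_const, Finset.card_univ,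
    nsmul_eq_mul]
  linear_combination b * hν

/-- the average kills `K`, if the `τ g` compose like a group action and `K` is generated by the
`τ g b - b`. -/
theorem avg_eq_zero [Group G] (hK : ∀ u ∈ K, ∀ v ∈ K, u * v = 0) (hτ : ∀ g b, τ g b - b ∈ K)
    (hν : (Fintype.card G : B) * ν = 1)
    (hcomp : ∀ g h b, τ g (τ h b) = τ (h * g) b)
    (hspan : K ≤ Ideal.span {x | ∃ (h : G) (b : B), x = τ h b - b}) {k : B} (hk : k ∈ K) :
    avg τ K ν hK hτ hν k = 0 := by
  have hle : Ideal.span {x | ∃ (h : G) (b : B), x = τ h b - b} ≤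
      RingHom.ker (avg τ K ν hK hτ hν) := by
    refine Ideal.span_le.2 ?_
    rintro _ ⟨h, b, rfl⟩
    show avg τ K ν hK hτ hν (τ h b - b) = 0
    rw [avg_apply]
    have h1 : ∑ g, τ g (τ h b - b) = 0 := by
      simp only [map_sub, Finset.sum_sub_distrib]
      rw [Finset.sum_congr rfl fun g _ => hcomp g h b]
      rw [sub_eq_zero]
      exact Equiv.sum_comp (Equiv.mulLeft h) (fun g => τ g b)
    rw [h1, mul_zero]
  exact hle (hspan hk)

end Avg

end Groth.Agent.Lib.T2H7.FinFixA
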