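import Groth.Agent.Lib.T2H7FixSmE
import Groth.Agent.Lib.T2H7FixSmC
import Groth.Agent.Lib.T2H7IdealMapComap
import Groth.Agent.Lib.T2H2IdealComapPow
import Groth.Agent.Lib.Helper11OrbitSub
import Groth.Agent.Lib.Helper12Cart

set_option autoImplicit false
set_option linter.unusedSectionVars false
set_option linter.unusedVariables false
set_option linter.style.haveILetI false
universe u
open CategoryTheory CategoryTheory.Limits MonoidalCategory CartesianMonoidalCategory MonObj GrpObj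
  AlgebraicGeometry

namespace Groth.Agent.Lib.T2H7.FixSmF

open Groth.Agent.Lib.T2H7.MultActCore Groth.Agent.Lib.T2H7.FixSmB Scheme.IdealSheafData
  Groth.Agent.Lib.T2H7.WeilDescA Groth.Agent.Lib.T2H3.MultGa Groth.Agent.Lib.T2H7.FreeDiagB
  Groth.Agent.Lib.T2H7.FixSmA Groth.Agent.Lib.T2H7.FixSmE

section SpecLemmas

/-- `Spec` of a surjection with nilpotent kernel is surjective. -/
theorem surjective_specMap_of_nil {C D : Type u} [CommRing C] [CommRing D] (q : C →+* D)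
    (hq : Function.Surjective q) (hnil : RingHom.ker q ≤ nilradical C) :
    Surjective (Spec.map (CommRingCat.ofHom q)) := by
  constructor
  intro x
  have h1 : Set.range (PrimeSpectrum.comap q) = Set.univ := by
    rw [_root_.range_comap_of_surjective _ q hq, PrimeSpectrum.zeroLocus_eq_univ_iff]
    exact hnil
  have hx : x ∈ Set.range (PrimeSpectrum.comap q) := by rw [h1]; trivial
  obtain ⟨y, hy⟩ := hx
  exact ⟨y, hy⟩

theorem ker_appTop_specMap {C D : Type u} [CommRing C] [CommRing D] (φ : C →+* D) :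
    RingHom.ker (Spec.map (CommRingCat.ofHom φ)).appTop.hom =
      (RingHom.ker φ).comap (Scheme.ΓSpecIso (CommRingCat.of C)).hom.hom := by
  ext x
  rw [Ideal.mem_comap, RingHom.mem_ker, RingHom.mem_ker]
  have h := Scheme.ΓSpecIso_naturality (CommRingCat.ofHom φ)
  have h1 : (Scheme.ΓSpecIso (CommRingCat.of D)).hom.hom ((Spec.map (CommRingCat.ofHom φ)).appTop.hom x) =
      φ ((Scheme.ΓSpecIso (CommRingCat.of C)).hom.hom x) := congrArg (fun f => f.hom x) h
  rw [← h1]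
  have hinj : Function.Injective (Scheme.ΓSpecIso (CommRingCat.of D)).hom.hom :=
    (ConcreteCategory.bijective_of_isIso (Scheme.ΓSpecIso (CommRingCat.of D)).hom).1
  exact ⟨fun h => by rw [h, map_zero], fun h => hinj (by rw [h, map_zero])⟩

theorem ker_specMap_mk_sq {C : Type u} [CommRing C] (I : Ideal C) :
    (Spec.map (CommRingCat.ofHom (Ideal.Quotient.mk (I ^ 2)))).ker =
      (Spec.map (CommRingCat.ofHom (Ideal.Quotient.mk I))).ker *
        (Spec.map (CommRingCat.ofHom (Ideal.Quotient.mk I))).ker := by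
  rw [Scheme.ker_of_isAffine, Scheme.ker_of_isAffine,
    ker_appTop_specMap, ker_appTop_specMap, Ideal.mk_ker, Ideal.mk_ker]
  rw [← equivOfIsAffine_symm_apply, ← equivOfIsAffine_symm_apply, ← map_mul]
  congr 1
  let ε : Γ(Spec (CommRingCat.of C), ⊤) ≃+* C :=
    (Scheme.ΓSpecIso (CommRingCat.of C)).commRingCatIsoToRingEquiv
  show Ideal.comap ε (I ^ 2) = Ideal.comap ε I * Ideal.comap ε I
  rw [← Ideal.map_symm, ← Ideal.map_symm, pow_two, Ideal.map_mul]

end SpecLemmas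

section Thick

variable {S : Scheme.{u}} {M : Type} [AddCommGroup M] {X : Over S}
  (a : AlgGrp.Action (Red.DS S M) X) {U : X.left.Opens} (hU : IsAffineOpen U)
  (J : Ideal Γ(X.left, U))

/-- the first-order thickening `Spec (A ⧸ J ^ 2)`, over `S`. -/
noncomputable abbrev Y2 : Over S := obj hU (Ideal.Quotient.mk (J ^ 2))

/-- `Spec (A ⧸ J)`, over `S`. -/
noncomputable abbrev Y1 : Over S := obj hU (Ideal.Quotient.mk J)

noncomputable abbrev ι2 : Y2 hU J ⟶ X := bp hU (Ideal.Quotient.mk (J ^ 2))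

noncomputable abbrev ι1 : Y1 hU J ⟶ X := bp hU (Ideal.Quotient.mk J)

/-- `A ⧸ J ^ 2 → A ⧸ J`. -/
noncomputable abbrev q21 : Γ(X.left, U) ⧸ J ^ 2 →+* Γ(X.left, U) ⧸ J :=
  Ideal.Quotient.factor (Ideal.pow_le_self two_ne_zero)

theorem q21_comp : (q21 J).comp (Ideal.Quotient.mk (J ^ 2)) = Ideal.Quotient.mk J := by
  ext x
  rfl

noncomputable abbrev y12 : Y1 hU J ⟶ Y2 hU J :=
  mor hU (q21 J) (obj_hom_of_comp hU _ _ (q21 J) (q21_comp J))

theorem y12_ι2 : y12 hU J ≫ ι2 hU J = ι1 hU J :=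
  mor_bp hU _ _ (q21 J) (q21_comp J) _

theorem ker_q21_le : RingHom.ker (q21 J) ≤ nilradical (Γ(X.left, U) ⧸ J ^ 2) := by
  intro x hx
  obtain ⟨c, rfl⟩ := Ideal.Quotient.mk_surjective x
  have hc : c ∈ J := by
    have : Ideal.Quotient.mk J c = 0 := hx
    exact Ideal.Quotient.eq_zero_iff_mem.1 this
  refine ⟨2, ?_⟩
  rw [← map_pow]
  exact Ideal.Quotient.eq_zero_iff_mem.2 (Ideal.pow_mem_pow hc 2)

instance : Mono (ι2 hU J) := by
  haveI : IsClosedImmersion (Spec.map (CommRingCat.ofHom (Ideal.Quotient.mk (J ^ 2)))) :=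
    IsClosedImmersion.spec_of_surjective _ Ideal.Quotient.mk_surjective
  haveI : IsOpenImmersion hU.fromSpec := hU.isOpenImmersion_fromSpec
  haveI : Mono (Spec.map (CommRingCat.ofHom (Ideal.Quotient.mk (J ^ 2)))) := inferInstance
  haveI : Mono hU.fromSpec := inferInstance
  haveI : Mono (ι2 hU J).left := by
    show Mono (Spec.map (CommRingCat.ofHom (Ideal.Quotient.mk (J ^ 2))) ≫ hU.fromSpec)
    exact mono_comp _ _
  haveI : Mono ((Over.forget S).map (ι2 hU J)) := inferInstanceAs (Mono (ι2 hU J).left)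
  exact (Over.forget S).mono_of_mono_map inferInstance

/-- **the action restricts to the first-order thickening** of a pointwise fixed closed subscheme of
an affine open. -/
theorem exists_act_thick (hfix : IsFix a (ι1 hU J)) :
    ∃ act' : Red.DS S M ⊗ Y2 hU J ⟶ Y2 hU J,
      act' ≫ ι2 hU J = (Red.DS S M ◁ ι2 hU J) ≫ a.act := by
  haveI : IsOpenImmersion hU.fromSpec := hU.isOpenImmersion_fromSpec
  let G : Over S := Red.DS S M
  let c₂ : (Y2 hU J).left ⟶ Spec Γ(X.left, U) :=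
    Spec.map (CommRingCat.ofHom (Ideal.Quotient.mk (J ^ 2)))
  let c₁ : (Y1 hU J).left ⟶ Spec Γ(X.left, U) :=
    Spec.map (CommRingCat.ofHom (Ideal.Quotient.mk J))
  haveI : IsClosedImmersion c₂ :=
    IsClosedImmersion.spec_of_surjective (CommRingCat.ofHom (Ideal.Quotient.mk (J ^ 2)))
      Ideal.Quotient.mk_surjective
  haveI : IsClosedImmersion c₁ :=
    IsClosedImmersion.spec_of_surjective (CommRingCat.ofHom (Ideal.Quotient.mk J))
      Ideal.Quotient.mk_surjective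
  let m : G ⊗ Y2 hU J ⟶ X := (G ◁ ι2 hU J) ≫ a.act
  -- the closed immersion `Y1 → Y2` and its base change
  have hy12 : (y12 hU J).left = Spec.map (CommRingCat.ofHom (q21 J)) := rfl
  haveI : IsClosedImmersion (y12 hU J).left := by
    rw [hy12]
    exact IsClosedImmersion.spec_of_surjective _
      (Ideal.Quotient.factor_surjective (Ideal.pow_le_self two_ne_zero))
  haveI : Surjective (y12 hU J).left := by
    rw [hy12]
    exact surjective_specMap_of_nil _
      (Ideal.Quotient.factor_surjective (Ideal.pow_le_self two_ne_zero)) (ker_q21_le J)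
  haveI : Surjective (G ◁ y12 hU J).left :=
    Groth.Agent.Lib.Helper12.surjective_whiskerLeft_left G (y12 hU J)
  have hsq : IsPullback (G ◁ y12 hU J).left (snd G (Y1 hU J)).left (snd G (Y2 hU J)).left
      (y12 hU J).left := (Groth.Agent.Lib.Helper12.isPullback_whiskerLeft G (y12 hU J)).map
        (Over.forget S)
  haveI : IsClosedImmersion (G ◁ y12 hU J).left :=
    MorphismProperty.of_isPullback (P := @IsClosedImmersion) hsq.flip inferInstance
  -- on `G ⊗ Y1` the action is the projection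
  have hm1 : (G ◁ y12 hU J) ≫ m = snd G (Y1 hU J) ≫ ι1 hU J := by
    show (G ◁ y12 hU J) ≫ (G ◁ ι2 hU J) ≫ a.act = _
    rw [← MonoidalCategory.whiskerLeft_comp_assoc, y12_ι2]
    exact (isFix_iff_univ (ι1 hU J)).1 hfix
  -- Step T: `m` lands in `U`
  have hrange : Set.range m.left ⊆ Set.range hU.fromSpec := by
    rintro _ ⟨p, rfl⟩
    obtain ⟨p₀, rfl⟩ := (G ◁ y12 hU J).left.surjective p
    have h1 : (G ◁ y12 hU J).left ≫ m.left = (snd G (Y1 hU J)).left ≫
        Spec.map (CommRingCat.ofHom (Ideal.Quotient.mk J)) ≫ hU.fromSpec :=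
      congrArg CommaMorphism.left hm1
    rw [← Scheme.Hom.comp_apply, h1, ← Category.assoc, Scheme.Hom.comp_apply]
    exact ⟨_, rfl⟩
  let m₁ : (G ⊗ Y2 hU J).left ⟶ Spec Γ(X.left, U) := IsOpenImmersion.lift hU.fromSpec m.left hrange
  have hm₁ : m₁ ≫ hU.fromSpec = m.left := IsOpenImmersion.lift_fac _ _ _
  have hm₁' : (G ◁ y12 hU J).left ≫ m₁ = (snd G (Y1 hU J)).left ≫ c₁ := by
    rw [← cancel_mono hU.fromSpec, Category.assoc, hm₁, Category.assoc]
    exact congrArg CommaMorphism.left hm1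
  -- Step I: the ideal computation
  have hC : c₂.ker = c₁.ker * c₁.ker := ker_specMap_mk_sq J
  have hle : c₁.ker.comap m₁ ≤ (G ◁ y12 hU J).left.ker := by
    rw [← comap_eq_bot_iff, ← comap_comp, hm₁', comap_comp, (comap_eq_bot_iff c₁.ker c₁).2 le_rfl,
      comap_bot]
  have hy1 : (y12 hU J).left.ker = c₁.ker.comap c₂ := by
    have hpb := Groth.Agent.Lib.T2H7.IdealMapComap.isPullback_of_mono (y12 hU J).left c₂
    have hc : (y12 hU J).left ≫ c₂ = c₁ := by
      show Spec.map _ ≫ Spec.map _ = Spec.map _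
      rw [← Spec.map_comp, ← CommRingCat.ofHom_comp, q21_comp]
    rw [hc] at hpb
    have := Groth.Agent.Lib.T2H7.IdealMapComap.ker_eq_comap_ker_of_isPullback hpb.flip
    rw [this]
  have hK : (G ◁ y12 hU J).left.ker * (G ◁ y12 hU J).left.ker = ⊥ := by
    have h1 : (G ◁ y12 hU J).left.ker = (y12 hU J).left.ker.comap (snd G (Y2 hU J)).left :=
      Groth.Agent.Lib.T2H7.IdealMapComap.ker_eq_comap_ker_of_isPullback hsq.flip
    rw [h1, ← Groth.Agent.Lib.Helper20.BlowUpBasic.comap_mul, hy1,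
      ← Groth.Agent.Lib.Helper20.BlowUpBasic.comap_mul, ← hC,
      (comap_eq_bot_iff c₂.ker c₂).2 le_rfl, comap_bot]
  have hker : c₂.ker ≤ m₁.ker := by
    rw [← comap_eq_bot_iff, hC, Groth.Agent.Lib.Helper20.BlowUpBasic.comap_mul, eq_bot_iff, ← hK]
    exact mul_le_mul' hle hle
  let m₂ : (G ⊗ Y2 hU J).left ⟶ (Y2 hU J).left :=
    IsClosedImmersion.lift c₂ m₁ hker
  have hm₂ : m₂ ≫ c₂ = m₁ := IsClosedImmersion.lift_fac _ _ _
  have hfac : m₂ ≫ (ι2 hU J).left = m.left := by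
    show m₂ ≫ c₂ ≫ hU.fromSpec = m.left
    rw [← Category.assoc, hm₂, hm₁]
  refine ⟨Over.homMk m₂ ?_, ?_⟩
  · rw [← Over.w (ι2 hU J), ← Category.assoc, hfac]
    exact Over.w m
  · ext1
    exact hfac

end Thick

section Restrict

variable {S : Scheme.{u}} {G X Y : Over S} [GrpObj G] (a : AlgGrp.Action G X) (j : Y ⟶ X) [Mono j]
  (act' : G ⊗ Y ⟶ Y) (h : act' ≫ j = (G ◁ j) ≫ a.act)

theorem isFix_restrictAct_iff {T : Over S} (y : T ⟶ Y) :
    IsFix (Groth.Agent.Lib.Helper11OrbitSub.restrictAct a j act' h) y ↔ IsFix a (y ≫ j) := by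
  constructor
  · intro hy T' t g
    have h1 := hy T' t g
    rw [Groth.Agent.Lib.Helper11OrbitSub.restrictAct_act] at h1
    have e : lift g (t ≫ y ≫ j) = lift g (t ≫ y) ≫ (G ◁ j) := by
      ext1 <;> simp
    rw [e, Category.assoc, ← h, ← Category.assoc, h1, Category.assoc]
  · intro hy T' t g
    rw [Groth.Agent.Lib.Helper11OrbitSub.restrictAct_act, ← cancel_mono j, Category.assoc, h]
    have e : lift g (t ≫ y) ≫ (G ◁ j) = lift g (t ≫ y ≫ j) := by
      ext1 <;> simp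
    rw [← Category.assoc, e, Category.assoc]
    exact hy T' t g

end Restrict

section FixIdeal

variable {S : Scheme.{u}} {M : Type} [AddCommGroup M] {X : Over S}
  (a : AlgGrp.Action (Red.DS S M) X) {U : X.left.Opens} (hU : IsAffineOpen U)
  (J : Ideal Γ(X.left, U))
  (act' : Red.DS S M ⊗ Y2 hU J ⟶ Y2 hU J)
  (h : act' ≫ ι2 hU J = (Red.DS S M ◁ ι2 hU J) ≫ a.act)

instance : IsAffine (Y2 hU J).left :=
  inferInstanceAs (IsAffine (Spec (CommRingCat.of (Γ(X.left, U) ⧸ J ^ 2))))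

/-- the restricted action on the thickening. -/
noncomputable abbrev aY : AlgGrp.Action (Red.DS S M) (Y2 hU J) :=
  Groth.Agent.Lib.Helper11OrbitSub.restrictAct a (ι2 hU J) act' h

theorem mem_cotangentIdeal_of_q21 {x : Γ(X.left, U) ⧸ J ^ 2} (hx : q21 J x = 0) :
    x ∈ J.cotangentIdeal := by
  obtain ⟨c, rfl⟩ := Ideal.Quotient.mk_surjective x
  have hc : c ∈ J := by
    have : Ideal.Quotient.mk J c = 0 := hx
    exact Ideal.Quotient.eq_zero_iff_mem.1 this
  exact ⟨c, hc, rfl⟩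

/-- (b1) the fixed-point ideal of the thickening lies in `J / J ^ 2`. -/
theorem ofG_mem_cotangentIdeal (hfix : IsFix a (ι1 hU J))
    (k : Γ((Y2 hU J).left, ⊤)) (hk : k ∈ fixIdeal (A := Γ((Y2 hU J).left, ⊤)) (G := Multiplicative M)
      (rho (aY a hU J act' h))) :
    (ofG k : Γ(X.left, U) ⧸ J ^ 2) ∈ J.cotangentIdeal := by
  have hfix' : IsFix (aY a hU J act' h) (y12 hU J) := by
    rw [isFix_restrictAct_iff, y12_ι2]
    exact hfix
  have h1 := le_ker_of_isFix (aY a hU J act' h) (y12 hU J) hfix' hk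
  have h2 : ringOf (y12 hU J).left k = 0 := h1
  apply mem_cotangentIdeal_of_q21
  have h3 : toG (ringOf (y12 hU J).left k) = (y12 hU J).left.appTop k := toG_ringOf _ _
  have h4 : (y12 hU J).left.appTop (toG (ofG k : Γ(X.left, U) ⧸ J ^ 2)) =
      toG (q21 J (ofG k)) := specMap_appTop_toG (q21 J) (ofG k)
  rw [toG_ofG] at h4
  apply toG_injective
  rw [← h4, ← h3, h2]

theorem hTop_fromSpec_Y2 :
    (hTop (Y2 hU J)).fromSpec =
      Spec.map (Scheme.ΓSpecIso (CommRingCat.of (Γ(X.left, U) ⧸ J ^ 2))).inv := by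
  have h0 : (hTop (Y2 hU J)).fromSpec = (Y2 hU J).left.isoSpec.inv := IsAffineOpen.fromSpec_top
  rw [h0]
  exact Scheme.isoSpec_Spec_inv _

/-- (b2) `J / J ^ 2` lies in the fixed-point ideal of the thickening, when `J` is the ideal of the
scheme of fixed points. -/
theorem toG_mk_mem_fixIdeal {F : Over S} (j : F ⟶ X)
    (hF : ∀ (T : Over S) (x : T ⟶ X), IsFix a x → ∃ y : T ⟶ F, y ≫ j = x)
    (hJ : J = RingHom.ker (j.left.app U).hom) (c : Γ(X.left, U)) (hc : c ∈ J) :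
    (toG (Ideal.Quotient.mk (J ^ 2) c) : Γ((Y2 hU J).left, ⊤)) ∈
      fixIdeal (A := Γ((Y2 hU J).left, ⊤)) (G := Multiplicative M) (rho (aY a hU J act' h)) := by
  let K : Ideal Γ((Y2 hU J).left, ⊤) :=
    fixIdeal (A := Γ((Y2 hU J).left, ⊤)) (G := Multiplicative M) (rho (aY a hU J act' h))
  let mkK : Γ((Y2 hU J).left, ⊤) →+* Γ((Y2 hU J).left, ⊤) ⧸ K := Ideal.Quotient.mk K
  let yK : obj (hTop (Y2 hU J)) mkK ⟶ Y2 hU J := bp (hTop (Y2 hU J)) mkK
  have hyK : IsFix (aY a hU J act' h) yK := by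
    refine isFix_of_le_ker (aY a hU J act' h) yK ?_
    have : ringOf yK.left = mkK := ringOf_comp mkK
    rw [this, Ideal.mk_ker]
  have hyK' : IsFix a (yK ≫ ι2 hU J) := (isFix_restrictAct_iff a (ι2 hU J) act' h yK).1 hyK
  obtain ⟨z, hz⟩ := hF _ _ hyK'
  -- the ring map of `yK ≫ ι2`
  let φ : Γ(X.left, U) ⟶ CommRingCat.of (Γ((Y2 hU J).left, ⊤) ⧸ K) :=
    CommRingCat.ofHom (Ideal.Quotient.mk (J ^ 2)) ≫
      (Scheme.ΓSpecIso (CommRingCat.of (Γ(X.left, U) ⧸ J ^ 2))).inv ≫ CommRingCat.ofHom mkK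
  have hf : (yK ≫ ι2 hU J).left = Spec.map φ ≫ hU.fromSpec := by
    show (Spec.map (CommRingCat.ofHom mkK) ≫ (hTop (Y2 hU J)).fromSpec) ≫
      Spec.map (CommRingCat.ofHom (Ideal.Quotient.mk (J ^ 2))) ≫ hU.fromSpec = _
    rw [hTop_fromSpec_Y2, Spec.map_comp, Spec.map_comp]
    simp only [Category.assoc]
    rfl
  have e : (⊤ : ((obj (hTop (Y2 hU J)) mkK).left).Opens) ≤ (yK ≫ ι2 hU J).left ⁻¹ᵁ U := by
    intro x _
    have h1 : (yK ≫ ι2 hU J).left x ∈ Set.range hU.fromSpec := by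
      rw [hf]
      exact ⟨(Spec.map φ) x, rfl⟩
    rw [hU.range_fromSpec] at h1
    exact h1
  have key := appLE_top_of_eq hU (yK ≫ ι2 hU J).left φ hf e
  -- the other computation
  have hz' : (yK ≫ ι2 hU J).left = z.left ≫ j.left := by
    rw [← hz]
    rfl
  have h0 : (yK ≫ ι2 hU J).left.appLE U ⊤ e c = 0 := by
    have e' : (⊤ : ((obj (hTop (Y2 hU J)) mkK).left).Opens) ≤
        (z.left ≫ j.left) ⁻¹ᵁ U := by rw [← hz']; exact e
    have h1 : (yK ≫ ι2 hU J).left.appLE U ⊤ e = (z.left ≫ j.left).appLE U ⊤ e' := by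
      congr 1
    rw [h1, Scheme.Hom.comp_appLE]
    have hc' : (j.left.app U).hom c = 0 := by
      rw [hJ] at hc
      exact hc
    show (z.left.appLE _ ⊤ _).hom ((j.left.app U).hom c) = 0
    rw [hc', map_zero]
  have h2 : φ.hom c = 0 := by
    rw [← key]
    show (Scheme.ΓSpecIso _).hom.hom (((yK ≫ ι2 hU J).left.appLE U ⊤ e).hom c) = 0
    rw [h0]
    exact map_zero _
  have h3 : mkK (toG (Ideal.Quotient.mk (J ^ 2) c)) = 0 := h2
  exact Ideal.Quotient.eq_zero_iff_mem.1 h3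

end FixIdeal

section Local

variable {S : Scheme.{u}} {M : Type} [AddCommGroup M] {X : Over S}
  (a : AlgGrp.Action (Red.DS S M) X)

theorem appLE_of_eq {P Q : Scheme.{u}} {f g : P ⟶ Q} (hfg : f = g) (U : Q.Opens) (V : P.Opens)
    (e : V ≤ f ⁻¹ᵁ U) : f.appLE U V e = g.appLE U V (hfg ▸ e) := by
  subst hfg
  rfl

/-- the closed subscheme `V(J)` of the affine open `U`, `J` the ideal of `F`, is fixed. -/
theorem isFix_ι1 {F : Over S} (j : F ⟶ X) [IsClosedImmersion j.left]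
    (hF : ∀ (T : Over S) (x : T ⟶ X), (∃ y : T ⟶ F, y ≫ j = x) → IsFix a x)
    {U : X.left.Opens} (hU : IsAffineOpen U) :
    IsFix a (ι1 hU (RingHom.ker (j.left.app U).hom)) := by
  let J : Ideal Γ(X.left, U) := RingHom.ker (j.left.app U).hom
  have hV : IsAffineOpen (j.left ⁻¹ᵁ U) := hU.preimage j.left
  have hsurj : Function.Surjective (j.left.app U).hom := j.left.app_surjective U hU
  let ε : (Γ(X.left, U) ⧸ J) ≃+* Γ(F.left, j.left ⁻¹ᵁ U) :=
    RingHom.quotientKerEquivOfSurjective hsurj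
  let ψ' : Γ(F.left, j.left ⁻¹ᵁ U) →+* Γ(X.left, U) ⧸ J := ε.symm.toRingHom
  have hψ' : j.left.app U ≫ CommRingCat.ofHom ψ' = CommRingCat.ofHom (Ideal.Quotient.mk J) := by
    refine CommRingCat.hom_ext (RingHom.ext fun c => ?_)
    show ε.symm ((j.left.app U).hom c) = Ideal.Quotient.mk J c
    rw [RingEquiv.symm_apply_eq]
    rfl
  have h1 : Spec.map (j.left.appLE U (j.left ⁻¹ᵁ U) le_rfl) ≫ hU.fromSpec =
      hV.fromSpec ≫ j.left := IsAffineOpen.SpecMap_appLE_fromSpec j.left hU hV le_rfl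
  rw [Scheme.Hom.appLE_eq_app] at h1
  let z₁ : (Y1 hU J).left ⟶ F.left := Spec.map (CommRingCat.ofHom ψ') ≫ hV.fromSpec
  have hz : z₁ ≫ j.left = (ι1 hU J).left := by
    show (Spec.map (CommRingCat.ofHom ψ') ≫ hV.fromSpec) ≫ j.left = _
    rw [Category.assoc, ← h1, ← Category.assoc, ← Spec.map_comp, hψ']
    rfl
  refine hF _ _ ⟨Over.homMk z₁ ?_, ?_⟩
  · rw [← Over.w j, ← Category.assoc, hz]
    exact Over.w (ι1 hU J)
  · ext1
    exact hz

/-- the structure map of the thickening on global sections. -/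
theorem Y2_hom_appTop {U : X.left.Opens} (hU : IsAffineOpen U) (J : Ideal Γ(X.left, U))
    (r : Γ(S, ⊤)) :
    (Y2 hU J).hom.appTop r =
      toG (Ideal.Quotient.mk (J ^ 2) ((X.hom.appLE ⊤ U le_top).hom r)) := by
  have e₂ : (⊤ : (Y2 hU J).left.Opens) ≤ (ι2 hU J).left ⁻¹ᵁ U := by
    intro x _
    have h1 : (ι2 hU J).left x ∈ Set.range hU.fromSpec :=
      ⟨(Spec.map (CommRingCat.ofHom (Ideal.Quotient.mk (J ^ 2)))) x, rfl⟩
    rw [hU.range_fromSpec] at h1
    exact h1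
  have key := appLE_top_of_eq hU (ι2 hU J).left (CommRingCat.ofHom (Ideal.Quotient.mk (J ^ 2)))
    rfl e₂
  have h2 : (Y2 hU J).hom = (ι2 hU J).left ≫ X.hom := (Over.w (ι2 hU J)).symm
  have h3 : (Y2 hU J).hom.appTop = X.hom.appLE ⊤ U le_top ≫ (ι2 hU J).left.appLE U ⊤ e₂ := by
    rw [Scheme.Hom.appLE_comp_appLE]
    show (Y2 hU J).hom.appLE ⊤ ⊤ le_top = _
    exact appLE_of_eq h2 ⊤ ⊤ le_top
  have h4 : ofG ((Y2 hU J).hom.appTop r) =
      Ideal.Quotient.mk (J ^ 2) ((X.hom.appLE ⊤ U le_top).hom r) := by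
    rw [h3]
    exact congrArg (fun f => f.hom ((X.hom.appLE ⊤ U le_top).hom r)) key
  rw [← h4, toG_ofG]

/-- **local smoothness of the fixed locus** over an affine open of `X`. -/
theorem smooth_appLE_fixed (hXs : Smooth X.hom) {F : Over S} (j : F ⟶ X)
    [IsClosedImmersion j.left] [LocallyOfFinitePresentation F.hom]
    (hF : ∀ (T : Over S) (x : T ⟶ X), (∃ y : T ⟶ F, y ≫ j = x) ↔ IsFix a x)
    (hS : IsAffineOpen (⊤ : S.Opens))
    {U : X.left.Opens} (hU : IsAffineOpen U) (e : j.left ⁻¹ᵁ U ≤ F.hom ⁻¹ᵁ ⊤) :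
    (F.hom.appLE ⊤ (j.left ⁻¹ᵁ U) e).hom.Smooth := by
  let φ : Γ(S, ⊤) ⟶ Γ(X.left, U) := X.hom.appLE ⊤ U le_top
  let π : Γ(X.left, U) ⟶ Γ(F.left, j.left ⁻¹ᵁ U) := j.left.app U
  let J : Ideal Γ(X.left, U) := RingHom.ker π.hom
  have hV : IsAffineOpen (j.left ⁻¹ᵁ U) := hU.preimage j.left
  have hcomp : F.hom.appLE ⊤ (j.left ⁻¹ᵁ U) e = φ ≫ π := by
    have h2 : F.hom = j.left ≫ X.hom := (Over.w j).symm
    rw [appLE_of_eq h2]
    show _ = X.hom.appLE ⊤ U le_top ≫ j.left.app U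
    rw [← Scheme.Hom.appLE_eq_app, Scheme.Hom.appLE_comp_appLE]
  have hfix : IsFix a (ι1 hU J) := isFix_ι1 a j (fun T x hx => (hF T x).1 hx) hU
  obtain ⟨act', h⟩ := exists_act_thick a hU J hfix
  let K : Ideal Γ((Y2 hU J).left, ⊤) :=
    fixIdeal (A := Γ((Y2 hU J).left, ⊤)) (G := Multiplicative M) (rho (aY a hU J act' h))
  let θ : (Γ(X.left, U) ⧸ J ^ 2) ≃+* Γ((Y2 hU J).left, ⊤) :=
    (Scheme.ΓSpecIso (CommRingCat.of (Γ(X.left, U) ⧸ J ^ 2))).symm.commRingCatIsoToRingEquiv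
  have hb1 : ∀ k ∈ K, θ.symm k ∈ J.cotangentIdeal :=
    fun k hk => ofG_mem_cotangentIdeal a hU J act' h hfix k hk
  have hb2 : ∀ c ∈ J, θ (Ideal.Quotient.mk (J ^ 2) c) ∈ K :=
    fun c hc => toG_mk_mem_fixIdeal a hU J act' h j (fun T x hx => (hF T x).2 hx) rfl c hc
  have hKsq : ∀ u ∈ K, ∀ v ∈ K, u * v = 0 := by
    intro u hu v hv
    have h1 : θ.symm u * θ.symm v ∈ J.cotangentIdeal * J.cotangentIdeal :=
      Ideal.mul_mem_mul (hb1 u hu) (hb1 v hv)
    have hsq : J.cotangentIdeal * J.cotangentIdeal = ⊥ :=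
      (pow_two J.cotangentIdeal).symm.trans (Ideal.cotangentIdeal_square J)
    have h1' : θ.symm u * θ.symm v = 0 := by
      rw [hsq] at h1
      exact (Ideal.mem_bot).1 h1
    have h2 : θ (θ.symm u * θ.symm v) = u * v := by
      rw [map_mul, θ.apply_symm_apply, θ.apply_symm_apply]
    rw [← h2, h1', map_zero]
  have hρ := isCoact_rho (aY a hU J act' h)
  let d : Γ((Y2 hU J).left, ⊤) →+* Γ((Y2 hU J).left, ⊤) := deg0 hKsq
  let e₀ : Γ(X.left, U) ⧸ J ^ 2 →+* Γ(X.left, U) ⧸ J ^ 2 :=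
    (θ.symm.toRingHom.comp d).comp θ.toRingHom
  have he₀ : ∀ x, e₀ x = θ.symm (d (θ x)) := fun x => rfl
  -- algebra structures
  letI algA : Algebra Γ(S, ⊤) Γ(X.left, U) := φ.hom.toAlgebra
  letI algB : Algebra Γ(S, ⊤) Γ(F.left, j.left ⁻¹ᵁ U) :=
    (F.hom.appLE ⊤ (j.left ⁻¹ᵁ U) e).hom.toAlgebra
  have hsmA : Algebra.Smooth Γ(S, ⊤) Γ(X.left, U) := X.hom.smooth_appLE hS hU le_top
  haveI : Algebra.FormallySmooth Γ(S, ⊤) Γ(X.left, U) := hsmA.formallySmooth
  have hfpB : Algebra.FinitePresentation Γ(S, ⊤) Γ(F.left, j.left ⁻¹ᵁ U) :=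
    F.hom.finitePresentation_appLE hS hV e
  let f : Γ(X.left, U) →ₐ[Γ(S, ⊤)] Γ(F.left, j.left ⁻¹ᵁ U) :=
    { π.hom with
      commutes' := fun r => by
        show π.hom (φ.hom r) = (F.hom.appLE ⊤ (j.left ⁻¹ᵁ U) e).hom r
        rw [hcomp]
        rfl }
  have hfsurj : Function.Surjective f := j.left.app_surjective U hU
  have hfs : Algebra.FormallySmooth Γ(S, ⊤) Γ(F.left, j.left ⁻¹ᵁ U) := by
    refine formallySmooth_of_retraction' f hfsurj J rfl e₀ ?_ ?_ ?_
    · intro r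
      rw [he₀]
      have h1 : θ (Ideal.Quotient.mk (J ^ 2) (algebraMap Γ(S, ⊤) Γ(X.left, U) r)) =
          (Y2 hU J).hom.appTop r := (Y2_hom_appTop hU J r).symm
      have h2 : d ((Y2 hU J).hom.appTop r) = (Y2 hU J).hom.appTop r := by
        show (rho (aY a hU J act' h) ((Y2 hU J).hom.appTop r)).coeff 1 = _
        rw [rho_appTop, MonoidAlgebra.coeff_single, Finsupp.single_eq_same]
      rw [h1, h2, ← h1, θ.symm_apply_apply]
    · rintro x ⟨c, hc, rfl⟩
      rw [he₀]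
      have h1 : d (θ (Ideal.Quotient.mk (J ^ 2) c)) = 0 := deg0_eq_zero hρ hKsq (hb2 c hc)
      show θ.symm (d (θ (Ideal.Quotient.mk (J ^ 2) c))) = 0
      rw [h1, map_zero]
    · intro x
      rw [he₀]
      have h1 := hb1 _ (sub_deg0_mem hρ hKsq (θ x))
      rw [map_sub, θ.symm_apply_apply] at h1
      exact h1
  show Algebra.Smooth Γ(S, ⊤) Γ(F.left, j.left ⁻¹ᵁ U)
  exact ⟨hfs, hfpB⟩

end Local

end Groth.Agent.Lib.T2H7.FixSmF
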