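import Mathlib
import Groth.Agent.Lib.T2H7WeilClosedOver
import Groth.Agent.Lib.Helper6LfpComp

/-!
# Weil restriction of closed subschemes: finite presentation (helper7)

If the closed subscheme `E` of `P` is of finite presentation over `P` and `P ⟶ T` is finite locally
free, the Weil restriction of `E` is a closed subscheme of `T` of finite presentation.
-/

set_option autoImplicit false
set_option linter.unusedSectionVars false
set_option linter.unusedVariables false
set_option linter.style.haveILetI false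
universe u
open CategoryTheory CategoryTheory.Limits

namespace Groth.Agent.Lib.T2H7.WeilClosed

section Algebra

variable {A B : Type u} [CommRing A] [CommRing B] [Algebra A B]

theorem coordIdeal_fg [Module.Finite A B] [Module.Projective A B] {J : Ideal B} (hJ : J.FG) :
    (coordIdeal A J).FG := by
  classical
  obtain ⟨n, f, g, -, -, hfg⟩ := Module.Finite.exists_comp_eq_id_of_projective A B
  obtain ⟨s, rfl⟩ := hJ
  let e : Fin n → B := fun k => f (fun j => if k = j then 1 else 0)
  let φ : Fin n → (B →ₗ[A] A) := fun i => LinearMap.proj i ∘ₗ g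
  have hrep : ∀ y : B, y = ∑ i, φ i y • e i := by
    intro y
    have h1 : f (g y) = y := LinearMap.congr_fun hfg y
    conv_lhs => rw [← h1, LinearMap.pi_apply_eq_sum_univ f (g y)]
    rfl
  let G : Finset A := (Finset.univ ×ˢ s).image fun q : Fin n × B => φ q.1 q.2
  refine ⟨G, ?_⟩
  apply le_antisymm
  · refine Ideal.span_le.mpr ?_
    intro a ha
    rw [Finset.mem_coe, Finset.mem_image] at ha
    obtain ⟨⟨i, b⟩, hq, rfl⟩ := ha
    rw [Finset.mem_product] at hq
    exact mem_coordIdeal _ (φ i) (Ideal.subset_span hq.2)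
  · refine Ideal.span_le.mpr ?_
    rintro a ⟨ψ, b', hb', rfl⟩
    have key : ∀ x ∈ Ideal.span (s : Set B), ∀ ψ : B →ₗ[A] A, ψ x ∈ Ideal.span (G : Set A) := by
      intro x hx
      refine Submodule.span_induction
        (p := fun x _ => ∀ ψ : B →ₗ[A] A, ψ x ∈ Ideal.span (G : Set A)) ?_ ?_ ?_ ?_ hx
      · intro b hb ψ
        rw [hrep b, map_sum]
        refine Ideal.sum_mem _ fun i _ => ?_
        rw [map_smul, smul_eq_mul]
        refine Ideal.mul_mem_right _ _ (Ideal.subset_span ?_)
        rw [Finset.mem_coe, Finset.mem_image]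
        exact ⟨(i, b), Finset.mem_product.mpr ⟨Finset.mem_univ _, hb⟩, rfl⟩
      · intro ψ; simp
      · intro y z _ _ hy hz ψ
        rw [map_add]; exact Ideal.add_mem _ (hy ψ) (hz ψ)
      · intro c y _ hy ψ
        have := hy (ψ ∘ₗ LinearMap.mulLeft A c)
        simpa using this
    exact key b' hb' ψ

end Algebra

section Sch
open AlgebraicGeometry

variable {P T : Scheme.{u}}

/-- the ideal of a closed immersion locally of finite presentation is locally finitely generated -/
theorem fg_ker_ideal_of_lfp {E : Scheme.{u}} (ε : E ⟶ P) [IsClosedImmersion ε]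
    [LocallyOfFinitePresentation ε] (V : P.affineOpens) : (ε.ker.ideal V).FG := by
  rw [Scheme.Hom.ker_apply]
  have e1 : ε.appLE V.1 (ε ⁻¹ᵁ V.1) (le_refl _) = ε.app V.1 := Scheme.Hom.appLE_eq_app ε
  have hfp : (ε.app V.1).hom.FinitePresentation := by
    rw [← e1]; exact ε.finitePresentation_appLE V.2 (V.2.preimage ε) _
  have hsurj : Function.Surjective (ε.app V.1).hom := ε.app_surjective V.1 V.2
  letI := (ε.app V.1).hom.toAlgebra
  haveI : Algebra.FinitePresentation Γ(P, V.1) Γ(E, ε ⁻¹ᵁ V.1) := hfp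
  exact Algebra.FinitePresentation.ker_fG_of_surjective (Algebra.ofId Γ(P, V.1) Γ(E, ε ⁻¹ᵁ V.1))
    hsurj

/-- a closed subscheme with locally finitely generated ideal is locally of finite presentation -/
theorem lfp_subschemeι_of_fg (𝓩 : T.IdealSheafData) (h : ∀ U : T.affineOpens, (𝓩.ideal U).FG) :
    LocallyOfFinitePresentation 𝓩.subschemeι := by
  rw [HasRingHomProperty.iff_exists_appLE (P := @LocallyOfFinitePresentation)
    (RingHom.finitePresentation_stableUnderComposition.stableUnderCompositionWithLocalizationAway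
      RingHom.finitePresentation_holdsForLocalizationAway).left]
  intro x
  obtain ⟨_, ⟨U, hU, rfl⟩, hxU, -⟩ := T.isBasis_affineOpens.exists_subset_of_mem_open
    (Set.mem_univ (𝓩.subschemeι x)) isOpen_univ
  refine ⟨⟨U, hU⟩, ⟨𝓩.subschemeι ⁻¹ᵁ U, hU.preimage _⟩, hxU, le_refl _, ?_⟩
  have e1 : 𝓩.subschemeι.appLE U (𝓩.subschemeι ⁻¹ᵁ U) (le_refl _) = 𝓩.subschemeι.app U :=
    Scheme.Hom.appLE_eq_app _
  rw [e1, 𝓩.subschemeι_app ⟨U, hU⟩, CommRingCat.hom_comp]
  refine RingHom.finitePresentation_stableUnderComposition _ _ ?_ ?_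
  · exact RingHom.FinitePresentation.of_surjective _ Ideal.Quotient.mk_surjective
      (by rw [CommRingCat.hom_ofHom, Ideal.mk_ker]; exact h ⟨U, hU⟩)
  · have hbij := ConcreteCategory.bijective_of_isIso (𝓩.subschemeObjIso ⟨U, hU⟩).inv
    refine RingHom.FinitePresentation.of_surjective _ hbij.2 ?_
    rw [(RingHom.injective_iff_ker_eq_bot _).mp hbij.1]
    exact Submodule.fg_bot


theorem weilIdeal_fg (p : P ⟶ T) [IsFinite p] [Flat p] [LocallyOfFinitePresentation p]
    (𝓙 : P.IdealSheafData) (h𝓙 : ∀ V : P.affineOpens, (𝓙.ideal V).FG) (U : T.affineOpens) :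
    ((weilIdeal (sectionsProjective_of_isFinite p) 𝓙).ideal U).FG := by
  change (weilIdealFun p 𝓙 U).FG
  unfold weilIdealFun coordIdeal'
  letI := (p.app U.1).hom.toAlgebra
  haveI : Module.Finite Γ(T, U.1) Γ(P, p ⁻¹ᵁ U.1) := p.finite_app U.1 U.2
  haveI : Module.Projective Γ(T, U.1) Γ(P, p ⁻¹ᵁ U.1) := sectionsProjective_of_isFinite p U
  exact coordIdeal_fg (h𝓙 _)

/-- **Weil restriction of a closed subscheme along a finite locally free morphism**, with finite
presentation. -/
theorem exists_weilRestriction_fp {P T E : Scheme.{u}} (p : P ⟶ T) [IsFinite p] [Flat p]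
    [LocallyOfFinitePresentation p] (ε : E ⟶ P) [IsClosedImmersion ε] :
    ∃ (Z : Scheme.{u}) (j : Z ⟶ T), IsClosedImmersion j ∧
      (LocallyOfFinitePresentation ε → LocallyOfFinitePresentation j) ∧
      ∀ {T' P' : Scheme.{u}} (g : T' ⟶ T) (fst : P' ⟶ P) (snd : P' ⟶ T'),
        IsPullback fst snd p g → ((∃ t : T' ⟶ Z, t ≫ j = g) ↔ ∃ l : P' ⟶ E, l ≫ ε = fst) := by
  refine ⟨(weilIdeal (sectionsProjective_of_isFinite p) ε.ker).subscheme,
    (weilIdeal (sectionsProjective_of_isFinite p) ε.ker).subschemeι, inferInstance, ?_,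
    fun g fst snd H => ?_⟩
  · intro hε
    exact lfp_subschemeι_of_fg _ (weilIdeal_fg p ε.ker (fg_ker_ideal_of_lfp ε))
  · haveI : IsAffineHom snd := MorphismProperty.of_isPullback H inferInstance
    rw [exists_lift_iff_comap_eq_bot, exists_lift_iff_comap_eq_bot,
      Scheme.IdealSheafData.ker_subschemeι]
    exact comap_weilIdeal_eq_bot_iff _ ε.ker H

end Sch

section Over
open AlgebraicGeometry MonoidalCategory CartesianMonoidalCategory

variable {S : Scheme.{u}}

/-- right-hand version with finite presentation -/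
theorem exists_closed_right_fp (G Y : Over S) [IsFinite Y.hom] [Flat Y.hom]
    [LocallyOfFinitePresentation Y.hom] {E : Scheme.{u}} (ε : E ⟶ (G ⊗ Y).left)
    [IsClosedImmersion ε] :
    ∃ (C : Over S) (c : C ⟶ G), IsClosedImmersion c.left ∧
      (LocallyOfFinitePresentation ε → LocallyOfFinitePresentation c.left) ∧
      ∀ (X : Over S) (g : X ⟶ G), (∃ z : X ⟶ C, z ≫ c = g) ↔
        ∃ l : (X ⊗ Y).left ⟶ E, l ≫ ε = (g ▷ Y).left := by
  have hpb : IsPullback (snd G Y).left (fst G Y).left Y.hom G.hom :=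
    (IsPullback.of_hasPullback G.hom Y.hom).flip
  haveI : IsFinite (fst G Y).left := MorphismProperty.of_isPullback hpb ‹_›
  haveI : Flat (fst G Y).left := MorphismProperty.of_isPullback hpb ‹_›
  haveI : LocallyOfFinitePresentation (fst G Y).left := MorphismProperty.of_isPullback hpb ‹_›
  obtain ⟨Z, j, hj, hfp, hZ⟩ := exists_weilRestriction_fp (fst G Y).left ε
  refine ⟨Over.mk (j ≫ G.hom), Over.homMk j rfl, hj, hfp, fun X g => ?_⟩
  have H := (Groth.Agent.Lib.Helper12.isPullback_whiskerRight Y g).map (Over.forget S)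
  rw [← hZ g.left (g ▷ Y).left (fst X Y).left H]
  constructor
  · rintro ⟨z, rfl⟩
    exact ⟨z.left, rfl⟩
  · rintro ⟨t, ht⟩
    refine ⟨Over.homMk t ?_, ?_⟩
    · change t ≫ j ≫ G.hom = X.hom
      rw [← Category.assoc, ht, Over.w g]
    · ext1
      exact ht

/-- the equalizer of two `S`-morphisms to an `S`-scheme locally of finite type is locally of finite
presentation -/
theorem lfp_equalizer_ι_left {A W : Over S} [LocallyOfFiniteType W.hom] (α β : A ⟶ W) :
    LocallyOfFinitePresentation (equalizer.ι α β).left := by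
  refine MorphismProperty.of_isPullback
    ((Limits.isPullback_equalizer_prod α β).map (Over.forget _)).flip ?_
  change LocallyOfFinitePresentation (prod.lift (𝟙 W) (𝟙 W)).left
  rw [← MorphismProperty.cancel_right_of_respectsIso @LocallyOfFinitePresentation _
    (Over.prodLeftIsoPullback W W).hom]
  convert! (Groth.Agent.Lib.Helper6.locallyOfFinitePresentation_diagonal W.hom)
  ext1
  · simp [← Over.comp_left]
    rw [prod.lift_fst]; rfl
  · simp [← Over.comp_left]
    rw [prod.lift_snd]; rfl

/-- equalizer form, right-hand version, with finite presentation -/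
theorem exists_closed_eq_right_fp (G Y W : Over S) [IsFinite Y.hom] [Flat Y.hom]
    [LocallyOfFinitePresentation Y.hom] [IsSeparated W.hom] [LocallyOfFiniteType W.hom]
    (α β : G ⊗ Y ⟶ W) :
    ∃ (C : Over S) (c : C ⟶ G), IsClosedImmersion c.left ∧ LocallyOfFinitePresentation c.left ∧
      ∀ (X : Over S) (g : X ⟶ G), (∃ z : X ⟶ C, z ≫ c = g) ↔
        (g ▷ Y) ≫ α = (g ▷ Y) ≫ β := by
  obtain ⟨C, c, hc, hfp, hC⟩ := exists_closed_right_fp G Y (equalizer.ι α β).left
  refine ⟨C, c, hc, hfp (lfp_equalizer_ι_left α β), fun X g => ?_⟩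
  rw [hC X g, Groth.Agent.Lib.T2H7.WeilClosedOver.exists_lift_equalizer_iff]

end Over

end Groth.Agent.Lib.T2H7.WeilClosed
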