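import Mathlib
import Groth.Agent.Lib.T2H7WeilDescC
import Groth.Agent.Lib.T2H7WeilClosedFP

/-!
# Weil restriction of closed subschemes: finite presentation, general form (helper7)

* `coordIdeal_fg_of_projective`: for a projective algebra the coordinate ideal of a f.g. ideal is
  f.g.
* `lfp_of_isWeil_of_sectionsProjective`, `lfp_comap`, `lfp_of_comap_fpqc`, `lfp_of_openCover`.
* `WeilFP`: morphism property "Weil restriction ideals of locally f.g. ideals are locally f.g.",
  stable under base change, Zariski local at the target, descends along fpqc covers; holds for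
  groups of multiplicative type (`weilFP_of_multType`).
* `exists_closed_left_multType_fp`, `exists_transporter_into_closed`.
-/

set_option autoImplicit false
set_option linter.unusedSectionVars false
set_option linter.unusedVariables false
set_option linter.style.haveILetI false
universe u
open CategoryTheory CategoryTheory.Limits AlgebraicGeometry MonoidalCategory CartesianMonoidalCategory
  MonObj GrpObj

namespace Groth.Agent.Lib.T2H7.WeilFPA

open Groth.Agent.Lib.T2H7.WeilClosed Groth.Agent.Lib.T2H7.WeilDescA Groth.Agent.Lib.T2H7.WeilDescB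
  Groth.Agent.Lib.T2H7.WeilDescC Groth.Agent.Lib.T2H7.WeilClosedLoc
  Groth.Agent.Lib.T2H7.WeilClosedLocOver

section Algebra

variable {A B : Type u} [CommRing A] [CommRing B] [Algebra A B]

theorem coordIdeal_fg_of_projective [Module.Projective A B] {J : Ideal B} (hJ : J.FG) :
    (coordIdeal A J).FG := by
  classical
  obtain ⟨σ, hσ⟩ := Module.projective_def'.mp ‹Module.Projective A B›
  obtain ⟨s, rfl⟩ := hJ
  let G : Finset A := s.biUnion fun x => (σ x).support.image fun b => σ x b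
  refine ⟨G, ?_⟩
  apply le_antisymm
  · refine Ideal.span_le.mpr ?_
    intro a ha
    rw [Finset.mem_coe, Finset.mem_biUnion] at ha
    obtain ⟨x, hx, ha⟩ := ha
    rw [Finset.mem_image] at ha
    obtain ⟨b, hb, rfl⟩ := ha
    exact mem_coordIdeal _ (Finsupp.lapply b ∘ₗ σ) (Ideal.subset_span hx)
  · have hle : Ideal.span (s : Set B) ≤ (Ideal.span (G : Set A)).map (algebraMap A B) := by
      refine Ideal.span_le.mpr ?_
      intro x hx
      have e : x = Finsupp.linearCombination A id (σ x) := by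
        have := LinearMap.congr_fun hσ x
        simpa using this.symm
      rw [SetLike.mem_coe, e, Finsupp.linearCombination_apply, Finsupp.sum]
      refine Ideal.sum_mem _ fun b hb => ?_
      rw [id, Algebra.smul_def]
      refine Ideal.mul_mem_right _ _ (Ideal.mem_map_of_mem _ (Ideal.subset_span ?_))
      rw [Finset.mem_coe, Finset.mem_biUnion]
      exact ⟨x, hx, Finset.mem_image.mpr ⟨b, hb, rfl⟩⟩
    refine Ideal.span_le.mpr ?_
    rintro a ⟨φ, b, hb, rfl⟩
    exact map_mem_of_mem_map _ φ (hle hb)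

end Algebra

section Sch

variable {P T : Scheme.{u}}

/-- with projective sections, the explicit Weil ideal is a Weil restriction ideal. -/
theorem isWeil_weilIdeal (p : P ⟶ T) [IsAffineHom p] (hp : SectionsProjective p)
    (𝓙 : P.IdealSheafData) : IsWeil p 𝓙 (weilIdeal hp 𝓙) := by
  intro T' P' g fst' snd' H
  haveI : IsAffineHom snd' := MorphismProperty.of_isPullback H inferInstance
  exact comap_weilIdeal_eq_bot_iff hp 𝓙 H

theorem IsWeil.unique {p : P ⟶ T} {𝓙 : P.IdealSheafData} {𝓩₁ 𝓩₂ : T.IdealSheafData}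
    (h₁ : IsWeil p 𝓙 𝓩₁) (h₂ : IsWeil p 𝓙 𝓩₂) : 𝓩₁ = 𝓩₂ :=
  IsWeilOn.unique ((isWeil_iff_isWeilOn_id _ _ _).1 h₁) ((isWeil_iff_isWeilOn_id _ _ _).1 h₂)

theorem fg_ideal_of_lfp (𝓙 : P.IdealSheafData) (h : LocallyOfFinitePresentation 𝓙.subschemeι)
    (V : P.affineOpens) : (𝓙.ideal V).FG := by
  have := fg_ker_ideal_of_lfp 𝓙.subschemeι V
  rwa [Scheme.IdealSheafData.ker_subschemeι] at this

/-- the Weil restriction ideal of a locally finitely generated ideal along an affine morphism with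
projective sections is locally finitely generated. -/
theorem lfp_of_isWeil_of_sectionsProjective (p : P ⟶ T) [IsAffineHom p]
    (hp : SectionsProjective p) {𝓙 : P.IdealSheafData} {𝓩 : T.IdealSheafData}
    (hW : IsWeil p 𝓙 𝓩) (hJ : LocallyOfFinitePresentation 𝓙.subschemeι) :
    LocallyOfFinitePresentation 𝓩.subschemeι := by
  rw [IsWeil.unique hW (isWeil_weilIdeal p hp 𝓙)]
  refine lfp_subschemeι_of_fg _ fun U => ?_
  change (weilIdealFun p 𝓙 U).FG
  unfold weilIdealFun coordIdeal'
  letI := (p.app U.1).hom.toAlgebra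
  haveI : Module.Projective Γ(T, U.1) Γ(P, p ⁻¹ᵁ U.1) := hp U
  exact coordIdeal_fg_of_projective (fg_ideal_of_lfp 𝓙 hJ _)

/-- base change of the closed subscheme of an ideal sheaf. -/
theorem lfp_comap (𝓩 : T.IdealSheafData) {T₁ : Scheme.{u}} (q : T₁ ⟶ T)
    (h : LocallyOfFinitePresentation 𝓩.subschemeι) :
    LocallyOfFinitePresentation (𝓩.comap q).subschemeι := by
  rw [← Scheme.IdealSheafData.comapIso_hom_fst]
  infer_instance

theorem lfp_of_comap_fpqc (𝓩 : T.IdealSheafData) {T₁ : Scheme.{u}} (q : T₁ ⟶ T) [Flat q]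
    [Surjective q] [QuasiCompact q]
    (h : LocallyOfFinitePresentation (𝓩.comap q).subschemeι) :
    LocallyOfFinitePresentation 𝓩.subschemeι := by
  rw [← Scheme.IdealSheafData.comapIso_hom_fst] at h
  have h' : LocallyOfFinitePresentation (pullback.fst q 𝓩.subschemeι) :=
    (MorphismProperty.cancel_left_of_respectsIso @LocallyOfFinitePresentation _ _).1 h
  exact MorphismProperty.of_pullback_fst_of_descendsAlong
    (P := @LocallyOfFinitePresentation) (Q := @Surjective ⊓ @Flat ⊓ @QuasiCompact)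
    (f := q) (g := 𝓩.subschemeι) ⟨⟨inferInstance, inferInstance⟩, inferInstance⟩ h'

theorem lfp_of_openCover (𝓩 : T.IdealSheafData) {κ : Type u} (O : κ → T.Opens)
    (hO : ⨆ i, O i = ⊤)
    (h : ∀ i, LocallyOfFinitePresentation (𝓩.comap (O i).ι).subschemeι) :
    LocallyOfFinitePresentation 𝓩.subschemeι := by
  rw [IsZariskiLocalAtTarget.iff_of_iSup_eq_top (P := @LocallyOfFinitePresentation) O hO]
  intro i
  have h1 := h i
  rw [← Scheme.IdealSheafData.comapIso_hom_fst] at h1
  have h2 : LocallyOfFinitePresentation (pullback.fst (O i).ι 𝓩.subschemeι) :=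
    (MorphismProperty.cancel_left_of_respectsIso @LocallyOfFinitePresentation _ _).1 h1
  have H := isPullback_morphismRestrict 𝓩.subschemeι (O i)
  rw [← H.isoPullback_hom_fst]
  exact (MorphismProperty.cancel_left_of_respectsIso @LocallyOfFinitePresentation _ _).2 h2

end Sch

section Props

variable {P T : Scheme.{u}}

theorem IsWeil.comap {p : P ⟶ T} {𝓙 : P.IdealSheafData} {𝓩 : T.IdealSheafData}
    (hW : IsWeil p 𝓙 𝓩) {T₁ P₁ : Scheme.{u}} {q : T₁ ⟶ T} {fst₁ : P₁ ⟶ P} {p₁ : P₁ ⟶ T₁}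
    (H₁ : IsPullback fst₁ p₁ p q) : IsWeil p₁ (𝓙.comap fst₁) (𝓩.comap q) :=
  ((((isWeil_iff_isWeilOn_id _ _ _).1 hW).comap q).of_eq (Category.comp_id q)).isWeil H₁

/-- Weil restriction ideals of locally finitely generated ideal sheaves, along every base change of
`y`, are locally finitely generated. -/
def WeilFP : MorphismProperty Scheme.{u} := fun Y S y =>
  ∀ ⦃T P : Scheme.{u}⦄ (t : T ⟶ S) (fst : P ⟶ Y) (p : P ⟶ T), IsPullback fst p y t →
    ∀ (𝓙 : P.IdealSheafData) (𝓩 : T.IdealSheafData), IsWeil p 𝓙 𝓩 →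
      LocallyOfFinitePresentation 𝓙.subschemeι → LocallyOfFinitePresentation 𝓩.subschemeι

instance : WeilFP.{u}.IsStableUnderBaseChange where
  of_isPullback {X Y Y' S f g f' g'} sq hg := by
    intro T P t fst p H 𝓙 𝓩 hW hJ
    exact hg (t ≫ f) (fst ≫ f') p (H.paste_horiz sq) 𝓙 𝓩 hW hJ

instance : WeilFP.{u}.RespectsIso := inferInstance

theorem weilFP_of_sSup_eq_top {Y S : Scheme.{u}} (y : Y ⟶ S) {κ : Type u} (U : κ → S.Opens)
    (hU : iSup U = ⊤) (h : ∀ i, WeilFP (y ∣_ U i)) : WeilFP y := by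
  intro T P t a p H 𝓙 𝓩 hW hJ
  have hO : ⨆ i, t ⁻¹ᵁ U i = ⊤ := by
    rw [← Scheme.Hom.preimage_iSup, hU, Scheme.Hom.preimage_top]
  refine lfp_of_openCover 𝓩 _ hO fun i => ?_
  have big : IsPullback (pullback.fst (y ∣_ U i) (t ∣_ U i) ≫ (y ⁻¹ᵁ U i).ι)
      (pullback.snd (y ∣_ U i) (t ∣_ U i)) y ((t ⁻¹ᵁ U i).ι ≫ t) := by
    rw [← morphismRestrict_ι]
    exact (IsPullback.of_hasPullback (y ∣_ U i) (t ∣_ U i)).paste_horiz
      (isPullback_morphismRestrict y (U i)).flip
  have w : (pullback.fst (y ∣_ U i) (t ∣_ U i) ≫ (y ⁻¹ᵁ U i).ι) ≫ y =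
      (pullback.snd (y ∣_ U i) (t ∣_ U i) ≫ (t ⁻¹ᵁ U i).ι) ≫ t := by
    rw [big.w, Category.assoc]
  have H₁ : IsPullback (H.lift _ _ w) (pullback.snd (y ∣_ U i) (t ∣_ U i)) p
      (t ⁻¹ᵁ U i).ι := by
    refine IsPullback.of_right ?_ (H.lift_snd _ _ _) H
    rw [H.lift_fst]
    exact big
  exact h i (t ∣_ U i) _ _ (IsPullback.of_hasPullback (y ∣_ U i) (t ∣_ U i)) _ _
    (IsWeil.comap hW H₁) (lfp_comap 𝓙 _ hJ)

instance : IsZariskiLocalAtTarget WeilFP.{u} :=
  IsZariskiLocalAtTarget.mk'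
    (fun f U hf => MorphismProperty.of_isPullback (isPullback_morphismRestrict f U).flip hf)
    (fun f _ U hU h => weilFP_of_sSup_eq_top f U hU h)

instance : WeilFP.{u}.DescendsAlong (@Surjective ⊓ @Flat ⊓ @QuasiCompact) where
  of_isPullback {A X Y Z fst snd f g} h hf hfst := by
    obtain ⟨⟨hs, hfl⟩, hqc⟩ := hf
    haveI : Surjective f := hs
    haveI : Flat f := hfl
    haveI : QuasiCompact f := hqc
    intro T P t a p H 𝓙 𝓩 hW hJ
    have big : IsPullback (pullback.fst fst (pullback.snd t f) ≫ snd)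
        (pullback.snd fst (pullback.snd t f)) g (pullback.fst t f ≫ t) := by
      rw [pullback.condition]
      exact (IsPullback.of_hasPullback fst (pullback.snd t f)).paste_horiz h.flip
    have w : (pullback.fst fst (pullback.snd t f) ≫ snd) ≫ g =
        (pullback.snd fst (pullback.snd t f) ≫ pullback.fst t f) ≫ t := by
      rw [big.w, Category.assoc]
    have H₁ : IsPullback (H.lift _ _ w) (pullback.snd fst (pullback.snd t f)) p
        (pullback.fst t f) := by
      refine IsPullback.of_right ?_ (H.lift_snd _ _ _) H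
      rw [H.lift_fst]
      exact big
    have h1 := hfst (pullback.snd t f) _ _
      (IsPullback.of_hasPullback fst (pullback.snd t f)) _ _
      (IsWeil.comap hW H₁) (lfp_comap 𝓙 _ hJ)
    exact lfp_of_comap_fpqc 𝓩 (pullback.fst t f) h1

theorem weilFP_of_free {A₀ S₀ : Scheme.{u}} (α : A₀ ⟶ S₀) [IsAffineHom α] (U : S₀.affineOpens)
    (hU : U.1 = ⊤)
    (hfree : @Module.Free Γ(S₀, U.1) Γ(A₀, α ⁻¹ᵁ U.1) _ _ (α.app U.1).hom.toAlgebra.toModule) :
    WeilFP α := by
  intro T P t fst p H 𝓙 𝓩 hW hJ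
  haveI : IsAffineHom p := MorphismProperty.of_isPullback H inferInstance
  exact lfp_of_isWeil_of_sectionsProjective p
    (fun V => sectionsProjectiveAt_of_isPullback H U hfree V (by rw [hU]; exact le_top)) hW hJ

theorem weilFP_specMap_monoidAlgebra (R : Type u) [CommRing R] (G : Type) [CommMonoid G] :
    WeilFP (Spec.map (CommRingCat.ofHom (algebraMap R (MonoidAlgebra R G)))) := by
  refine weilFP_of_free _ ⟨⊤, isAffineOpen_top _⟩ rfl ?_
  haveI : Module.Free R (MonoidAlgebra R G) := Module.Free.of_basis (MonoidAlgebra.basis G R)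
  refine free_of_square (R := R) (B := MonoidAlgebra R G) _
    (Scheme.ΓSpecIso (CommRingCat.of R)).symm.commRingCatIsoToRingEquiv
    (Scheme.ΓSpecIso (CommRingCat.of (MonoidAlgebra R G))).symm.commRingCatIsoToRingEquiv ?_
  intro r
  have := Scheme.ΓSpecIso_inv_naturality (CommRingCat.ofHom (algebraMap R (MonoidAlgebra R G)))
  exact congrArg (fun f => f.hom r) this

theorem weilFP_DS (S : Scheme.{u}) (M : Type) [AddCommGroup M] : WeilFP (Red.DS S M).hom :=
  MorphismProperty.of_isPullback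
    (IsPullback.of_hasPullback (Red.diag (ULift.{u} ℤ) M).hom
      (Limits.IsTerminal.from specULiftZIsTerminal S))
    (weilFP_specMap_monoidAlgebra (ULift.{u} ℤ) (Multiplicative M))

theorem weilFP_of_iso {S : Scheme.{u}} {H D : Over S} (e : H ≅ D) (h : WeilFP D.hom) :
    WeilFP H.hom := by
  have : H.hom = e.hom.left ≫ D.hom := (Over.w e.hom).symm
  rw [this]
  haveI : IsIso e.hom.left := inferInstanceAs (IsIso ((Over.forget _).map e.hom))
  exact (MorphismProperty.cancel_left_of_respectsIso WeilFP e.hom.left D.hom).2 h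

/-- **groups of multiplicative type: Weil restriction ideals preserve local finite generation.** -/
theorem weilFP_of_multType {S : Scheme.{u}} (H : Over S) [GrpObj H]
    (hH : TwC.Locally S TwC.Topology.fpqc (fun S' f => ∃ (M : Type) (_ : AddCommGroup M),
      Nonempty (Grp.mk (Red.bc f H) ≅ Grp.mk (Red.DS S' M)))) : WeilFP H.hom := by
  let φ : H ⟶ Over.mk (𝟙 S) := Over.homMk H.hom (by simp)
  have key := Groth.Agent.Lib.T2H7.FreeDiagD.prop_of_charts' WeilFP hH φ ?_
  · exact key
  intro Y g M _ _ hs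
  obtain ⟨e⟩ := hs
  have h1 : WeilFP (Red.bc g H).hom :=
    weilFP_of_iso ((Grp.forget _).mapIso e) (weilFP_DS Y M)
  have h2 : ((Over.pullback g).map φ).left ≫ ((Over.pullback g).obj (Over.mk (𝟙 S))).hom =
      (Red.bc g H).hom := Over.w _
  haveI : IsIso ((Over.pullback g).obj (Over.mk (𝟙 S))).hom := by
    change IsIso (pullback.snd (𝟙 S) g)
    infer_instance
  rw [← h2] at h1
  exact (MorphismProperty.cancel_right_of_respectsIso WeilFP _ _).1 h1

end Props

section OverForms

variable {S : Scheme.{u}}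

theorem lfp_ker_subschemeι {X E : Scheme.{u}} (ε : E ⟶ X) [IsClosedImmersion ε]
    (h : LocallyOfFinitePresentation ε) : LocallyOfFinitePresentation ε.ker.subschemeι := by
  refine lfp_subschemeι_of_fg _ fun V => ?_
  exact fg_ker_ideal_of_lfp ε V

/-- `exists_closed_left_multType` with finite presentation. -/
theorem exists_closed_left_multType_fp (H G : Over S) [GrpObj H]
    (hH : TwC.Locally S TwC.Topology.fpqc (fun S' f => ∃ (M : Type) (_ : AddCommGroup M),
      Nonempty (Grp.mk (Red.bc f H) ≅ Grp.mk (Red.DS S' M))))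
    {E : Scheme.{u}} (ε : E ⟶ (H ⊗ G).left) [IsClosedImmersion ε] :
    ∃ (C : Over S) (c : C ⟶ G), IsClosedImmersion c.left ∧
      (LocallyOfFinitePresentation ε → LocallyOfFinitePresentation c.left) ∧
      ∀ (X : Over S) (g : X ⟶ G), (∃ z : X ⟶ C, z ≫ c = g) ↔
        ∃ l : (H ⊗ X).left ⟶ E, l ≫ ε = (H ◁ g).left := by
  have hpb : IsPullback (fst H G).left (snd H G).left H.hom G.hom :=
    IsPullback.of_hasPullback H.hom G.hom
  obtain ⟨𝓩, h𝓩⟩ := weilRep_of_multType H hH G.hom (fst H G).left (snd H G).left hpb ε.ker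
  refine ⟨Over.mk (𝓩.subschemeι ≫ G.hom), Over.homMk 𝓩.subschemeι rfl,
    inferInstanceAs (IsClosedImmersion 𝓩.subschemeι), ?_, fun X g => ?_⟩
  · intro hε
    exact weilFP_of_multType H hH G.hom (fst H G).left (snd H G).left hpb ε.ker 𝓩 h𝓩
      (lfp_ker_subschemeι ε hε)
  have Hg := (Groth.Agent.Lib.Helper12.isPullback_whiskerLeft H g).map (Over.forget S)
  have key : (∃ t : X.left ⟶ 𝓩.subscheme, t ≫ 𝓩.subschemeι = g.left) ↔
      ∃ l : (H ⊗ X).left ⟶ E, l ≫ ε = (H ◁ g).left := by
    rw [Groth.Agent.Lib.T2H7.WeilClosed.exists_lift_iff_comap_eq_bot,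
      Groth.Agent.Lib.T2H7.WeilClosed.exists_lift_iff_comap_eq_bot,
      Scheme.IdealSheafData.ker_subschemeι]
    exact h𝓩 g.left (H ◁ g).left (snd H X).left Hg
  rw [← key]
  constructor
  · rintro ⟨z, rfl⟩
    exact ⟨z.left, rfl⟩
  · rintro ⟨t, ht⟩
    refine ⟨Over.homMk t ?_, ?_⟩
    · change t ≫ 𝓩.subschemeι ≫ G.hom = X.hom
      rw [← Category.assoc, ht, Over.w g]
    · ext1
      exact ht

/-- **transporter of a subgroup of multiplicative type into a closed subscheme**: closed, and of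
finite presentation if the closed subscheme is. -/
theorem exists_transporter_into_closed (G H Y' : Over S) [GrpObj G] [GrpObj H]
    (hH : TwC.Locally S TwC.Topology.fpqc (fun S' f => ∃ (M : Type) (_ : AddCommGroup M),
      Nonempty (Grp.mk (Red.bc f H) ≅ Grp.mk (Red.DS S' M))))
    (i : H ⟶ G) (y' : Y' ⟶ G) (hy' : IsClosedImmersion y'.left) :
    ∃ (C : Over S) (c : C ⟶ G), IsClosedImmersion c.left ∧
      (LocallyOfFinitePresentation y'.left → LocallyOfFinitePresentation c.left) ∧
      ∀ (X : Over S) (g : X ⟶ G), (∃ z : X ⟶ C, z ≫ c = g) ↔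
        ∀ (X' : Over S) (x : X' ⟶ X) (h : X' ⟶ H), ∃ a' : X' ⟶ Y',
          (x ≫ g) * (h ≫ i) * (x ≫ g)⁻¹ = a' ≫ y' := by
  let κ : H ⊗ G ⟶ G := (snd H G) * (fst H G ≫ i) * (snd H G)⁻¹
  obtain ⟨C, c, hc, hfp, hC⟩ := exists_closed_left_multType_fp H G hH
    (pullback.fst κ.left y'.left)
  refine ⟨C, c, hc, fun h => hfp (MorphismProperty.pullback_fst _ _ h), fun X g => ?_⟩
  rw [hC X g]
  have hκ : ∀ (X' : Over S) (h : X' ⟶ H) (g' : X' ⟶ G),
      lift h g' ≫ κ = g' * (h ≫ i) * g'⁻¹ := by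
    intro X' h g'
    simp only [κ, MonObj.comp_mul, GrpObj.comp_inv, lift_fst_assoc, lift_snd]
  constructor
  · rintro ⟨l, hl⟩ X' x h
    have e1 : lift h x ≫ (H ◁ g) = lift h (x ≫ g) := by
      ext1 <;> simp
    have e2 : (lift h x).left ≫ (H ◁ g).left ≫ κ.left = ((x ≫ g) * (h ≫ i) * (x ≫ g)⁻¹).left := by
      rw [← hκ X' h (x ≫ g), ← e1]
      rfl
    refine ⟨Over.homMk ((lift h x).left ≫ l ≫ pullback.snd κ.left y'.left) ?_, ?_⟩
    · rw [← Over.w y']
      simp only [Category.assoc]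
      rw [← pullback.condition_assoc, reassoc_of% hl, reassoc_of% e2, Over.w]
    · ext1
      change _ = ((lift h x).left ≫ l ≫ pullback.snd κ.left y'.left) ≫ y'.left
      simp only [Category.assoc]
      rw [← pullback.condition, reassoc_of% hl, e2]
  · intro hall
    obtain ⟨a', ha'⟩ := hall (H ⊗ X) (snd H X) (fst H X)
    have e1 : (H ◁ g) ≫ κ = a' ≫ y' := by
      rw [← ha']
      have : H ◁ g = lift (fst H X) (snd H X ≫ g) := by
        ext1 <;> simp
      rw [this, hκ]
    refine ⟨pullback.lift (H ◁ g).left a'.left ?_, pullback.lift_fst _ _ _⟩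
    exact congrArg CommaMorphism.left e1

end OverForms

end Groth.Agent.Lib.T2H7.WeilFPA
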