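import Mathlib
import Groth.Agent.Lib.T2H7WeilFPA

/-!
# Weil restriction of closed subschemes along essentially free morphisms (helper7)

* `isWeil_iSup_of_sourceCover`: Weil restriction ideals and open covers of the source.
* `sectionsProjective_of_affine`, `exists_isWeil_of_projCover`.
* `exists_isWeil_of_essentiallyFree`, `exists_weilRestriction_of_essentiallyFree`.
-/

set_option autoImplicit false
set_option linter.unusedSectionVars false
set_option linter.unusedVariables false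
set_option linter.style.haveILetI false
universe u
open CategoryTheory CategoryTheory.Limits AlgebraicGeometry

namespace Groth.Agent.Lib.T2H7.WeilFPB

open Groth.Agent.Lib.T2H7.WeilClosed Groth.Agent.Lib.T2H7.WeilDescA Groth.Agent.Lib.T2H7.WeilDescB
  Groth.Agent.Lib.T2H7.WeilFPA Groth.Agent.Lib.T2H7.WeilClosedLoc Scheme.IdealSheafData

section Source

variable {P T : Scheme.{u}}

/-- **Weil restriction ideals and open covers of the source**: the sum of the Weil restriction ideals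
of the members of an open cover of `P`. -/
theorem isWeil_iSup_of_sourceCover (p : P ⟶ T) (𝓙 : P.IdealSheafData) {κ : Type*}
    (V : κ → P.Opens) (hV : ⨆ i, V i = ⊤) (𝓩 : κ → T.IdealSheafData)
    (h : ∀ i, IsWeil ((V i).ι ≫ p) (𝓙.comap (V i).ι) (𝓩 i)) : IsWeil p 𝓙 (⨆ i, 𝓩 i) := by
  intro T' P' g fst' snd' H
  rw [Groth.Agent.Lib.T2H7.IdealGlue.comap_iSup, iSup_eq_bot]
  have hcov : ⨆ i, fst' ⁻¹ᵁ V i = ⊤ := by
    rw [← Scheme.Hom.preimage_iSup, hV, Scheme.Hom.preimage_top]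
  have key : ∀ i, (𝓩 i).comap g = ⊥ ↔ (𝓙.comap fst').comap (fst' ⁻¹ᵁ V i).ι = ⊥ := by
    intro i
    have Hi : IsPullback (fst' ∣_ V i) ((fst' ⁻¹ᵁ V i).ι ≫ snd') ((V i).ι ≫ p) g :=
      (isPullback_morphismRestrict fst' (V i)).paste_vert H
    rw [h i g _ _ Hi, ← comap_comp, morphismRestrict_ι, comap_comp]
  constructor
  · intro h0
    refine Groth.Agent.Lib.T2H7.IdealGlue.eq_of_comap_eq _ hcov _ _ fun i => ?_
    rw [comap_bot]
    exact (key i).1 (h0 i)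
  · intro h0 i
    rw [key i, h0, comap_bot]

theorem lfp_iSup_of_finite {κ : Type*} [Finite κ] (𝓩 : κ → T.IdealSheafData)
    (h : ∀ i, LocallyOfFinitePresentation (𝓩 i).subschemeι) :
    LocallyOfFinitePresentation (⨆ i, 𝓩 i).subschemeι := by
  refine lfp_subschemeι_of_fg _ fun U => ?_
  rw [ideal_iSup, iSup_apply]
  exact Submodule.fg_iSup _ fun i => fg_ideal_of_lfp (𝓩 i) (h i) U

end Source

section Affine

/-- a morphism of affine schemes whose algebra of global sections is projective has projective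
sections over all affine opens. -/
theorem sectionsProjective_of_affine {V S' : Scheme.{u}} [IsAffine V] [IsAffine S'] (q : V ⟶ S')
    (h : letI := q.appTop.hom.toAlgebra
      Module.Projective Γ(S', ⊤) Γ(V, ⊤)) : SectionsProjective q := by
  intro U
  have H : IsPullback (𝟙 V) q q (𝟙 S') := IsPullback.id_horiz q
  have hV : U.1 ≤ (𝟙 S') ⁻¹ᵁ (⊤ : S'.Opens) := le_top
  have hle : q ⁻¹ᵁ U.1 ≤ (𝟙 V) ⁻¹ᵁ (q ⁻¹ᵁ (⊤ : S'.Opens)) := le_top
  have hUY : q ⁻¹ᵁ U.1 = (𝟙 V) ⁻¹ᵁ (q ⁻¹ᵁ (⊤ : S'.Opens)) ⊓ q ⁻¹ᵁ U.1 :=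
    (inf_eq_right.mpr hle).symm
  have hpush := (isIso_pushoutSection_iff H hV (le_refl _) hUY).mp
    (isIso_pushoutSection_of_isAffineOpen H hV (le_refl _) hUY (isAffineOpen_top S') U.2
      ((isAffineOpen_top S').preimage q))
  have e1 : q.appLE ⊤ (q ⁻¹ᵁ ⊤) (le_refl _) = q.app ⊤ := Scheme.Hom.appLE_eq_app q
  have e2 : q.appLE U.1 (q ⁻¹ᵁ U.1) (le_refl _) = q.app U.1 := Scheme.Hom.appLE_eq_app q
  rw [e1, e2] at hpush
  letI := (q.app ⊤).hom.toAlgebra
  letI := ((𝟙 S' : S' ⟶ S').appLE ⊤ U.1 hV).hom.toAlgebra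
  letI := ((𝟙 V : V ⟶ V).appLE (q ⁻¹ᵁ ⊤) (q ⁻¹ᵁ U.1) hle).hom.toAlgebra
  letI := (q.app U.1).hom.toAlgebra
  letI : Algebra Γ(S', ⊤) Γ(V, q ⁻¹ᵁ U.1) :=
    (q.app ⊤ ≫ (𝟙 V : V ⟶ V).appLE (q ⁻¹ᵁ ⊤) (q ⁻¹ᵁ U.1) hle).hom.toAlgebra
  haveI : IsScalarTower Γ(S', ⊤) Γ(V, q ⁻¹ᵁ ⊤) Γ(V, q ⁻¹ᵁ U.1) := .of_algebraMap_eq' rfl
  haveI : IsScalarTower Γ(S', ⊤) Γ(S', U.1) Γ(V, q ⁻¹ᵁ U.1) :=
    .of_algebraMap_eq' (congrArg CommRingCat.Hom.hom hpush.w)
  haveI : Algebra.IsPushout Γ(S', ⊤) Γ(S', U.1) Γ(V, q ⁻¹ᵁ ⊤) Γ(V, q ⁻¹ᵁ U.1) :=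
    CommRingCat.isPushout_iff_isPushout.mp hpush.flip
  haveI : Module.Projective Γ(S', ⊤) Γ(V, q ⁻¹ᵁ ⊤) := h
  have hbc : IsBaseChange Γ(S', U.1)
      (IsScalarTower.toAlgHom Γ(S', ⊤) Γ(V, q ⁻¹ᵁ ⊤) Γ(V, q ⁻¹ᵁ U.1)).toLinearMap :=
    Algebra.IsPushout.out
  exact Module.Projective.of_equiv hbc.equiv

end Affine

section Local

variable {Z' S' : Scheme.{u}}

/-- `Z'` is covered by affine opens whose rings of sections are projective over `Γ(S', ⊤)`. -/
def ProjCover (p : Z' ⟶ S') : Prop :=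
  ∀ x : Z', ∃ V : Z'.Opens, x ∈ V ∧ IsAffineOpen V ∧
    (letI := (V.ι ≫ p).appTop.hom.toAlgebra
     Module.Projective Γ(S', ⊤) Γ(↑V, ⊤))

theorem exists_isWeil_of_projCover [IsAffine S'] (p : Z' ⟶ S') (hcov : ProjCover p)
    (𝓙 : Z'.IdealSheafData) :
    ∃ 𝓩 : S'.IdealSheafData, IsWeil p 𝓙 𝓩 ∧
      (QuasiCompact p → LocallyOfFinitePresentation 𝓙.subschemeι →
        LocallyOfFinitePresentation 𝓩.subschemeι) := by
  choose V hxV hVaff hVproj using hcov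
  have hex : ∀ x, ∃ 𝓩x : S'.IdealSheafData,
      IsWeil ((V x).ι ≫ p) (𝓙.comap (V x).ι) 𝓩x ∧
        (LocallyOfFinitePresentation (𝓙.comap (V x).ι).subschemeι →
          LocallyOfFinitePresentation 𝓩x.subschemeι) := by
    intro x
    haveI : IsAffine ↑(V x) := hVaff x
    have hsp : SectionsProjective ((V x).ι ≫ p) := sectionsProjective_of_affine _ (hVproj x)
    exact ⟨weilIdeal hsp (𝓙.comap (V x).ι), isWeil_weilIdeal _ hsp _,
      fun h => lfp_of_isWeil_of_sectionsProjective _ hsp (isWeil_weilIdeal _ hsp _) h⟩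
  choose 𝓩x hWx hfpx using hex
  have hV : ⨆ x, V x = ⊤ := by
    rw [eq_top_iff]
    intro y _
    exact TopologicalSpace.Opens.mem_iSup.mpr ⟨y, hxV y⟩
  have hW := isWeil_iSup_of_sourceCover p 𝓙 V hV 𝓩x hWx
  refine ⟨_, hW, fun hqc hJ => ?_⟩
  haveI : CompactSpace Z' := QuasiCompact.compactSpace_of_compactSpace p
  obtain ⟨F, hF⟩ := isCompact_univ.elim_finite_subcover (fun x => ((V x : Z'.Opens) : Set Z'))
    (fun x => (V x).2) (fun y _ => Set.mem_iUnion.2 ⟨y, hxV y⟩)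
  have hV' : ⨆ x : {x // x ∈ F}, V x.1 = ⊤ := by
    rw [eq_top_iff]
    intro y _
    obtain ⟨x, hx⟩ := Set.mem_iUnion.1 (hF (Set.mem_univ y))
    obtain ⟨hxF, hyx⟩ := Set.mem_iUnion.1 hx
    exact TopologicalSpace.Opens.mem_iSup.mpr ⟨⟨x, hxF⟩, hyx⟩
  have hW' := isWeil_iSup_of_sourceCover p 𝓙 (fun x : {x // x ∈ F} => V x.1) hV'
    (fun x => 𝓩x x.1) (fun x => hWx x.1)
  rw [IsWeil.unique hW hW']
  exact lfp_iSup_of_finite _ fun x => hfpx x.1 (lfp_comap 𝓙 _ hJ)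

end Local

section Main

/-- **Weil restriction of a closed subscheme along an essentially free morphism** (ideal sheaf
form), with finite presentation in the quasi-compact case. -/
theorem exists_isWeil_of_essentiallyFree {Z S : Scheme.{u}} (f : Z ⟶ S)
    (hf : SGA3x.IsEssentiallyFree f) (𝓙 : Z.IdealSheafData) :
    ∃ 𝓩 : S.IdealSheafData, IsWeil f 𝓙 𝓩 ∧
      (QuasiCompact f → LocallyOfFinitePresentation 𝓙.subschemeι →
        LocallyOfFinitePresentation 𝓩.subschemeι) := by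
  choose U hsU hU S' hS' g hgfl hgsurj hcov using hf
  have hO : ⨆ s, U s = ⊤ := by
    rw [eq_top_iff]
    intro y _
    exact TopologicalSpace.Opens.mem_iSup.mpr ⟨y, hsU y⟩
  have hex : ∀ s, ∃ 𝓩' : (S' s).IdealSheafData,
      IsWeil (pullback.snd f (g s ≫ (U s).ι)) (𝓙.comap (pullback.fst f (g s ≫ (U s).ι))) 𝓩' ∧
      (QuasiCompact (pullback.snd f (g s ≫ (U s).ι)) →
        LocallyOfFinitePresentation (𝓙.comap (pullback.fst f (g s ≫ (U s).ι))).subschemeι →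
        LocallyOfFinitePresentation 𝓩'.subschemeι) := by
    intro s
    haveI := hS' s
    exact exists_isWeil_of_projCover _ (hcov s) _
  choose 𝓩' hW' hfp' using hex
  have hqc : ∀ s, QuasiCompact (g s) := by
    intro s
    haveI := hS' s
    haveI : IsAffine ↑(U s) := hU s
    infer_instance
  have hon : ∀ s, IsWeilOn f 𝓙 (U s).ι ((𝓩' s).map (g s)) := by
    intro s
    haveI := hgfl s
    haveI := hgsurj s
    haveI := hqc s
    exact (IsWeilOn.descent (g s)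
      (IsWeil.isWeilOn (IsPullback.of_hasPullback f (g s ≫ (U s).ι)) (hW' s))).1
  obtain ⟨𝓩₀, hW₀⟩ := exists_isWeil_of_openCover f 𝓙 U hO (fun s => (𝓩' s).map (g s)) hon
  refine ⟨𝓩₀, hW₀, fun hfqc hJ => ?_⟩
  refine lfp_of_openCover 𝓩₀ U hO fun s => ?_
  haveI := hgfl s
  haveI := hgsurj s
  haveI := hqc s
  refine lfp_of_comap_fpqc _ (g s) ?_
  rw [← comap_comp]
  have hW1 : IsWeil (pullback.snd f (g s ≫ (U s).ι))
      (𝓙.comap (pullback.fst f (g s ≫ (U s).ι))) (𝓩₀.comap (g s ≫ (U s).ι)) :=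
    IsWeil.comap hW₀ (IsPullback.of_hasPullback f (g s ≫ (U s).ι))
  rw [IsWeil.unique hW1 (hW' s)]
  exact hfp' s inferInstance (lfp_comap 𝓙 _ hJ)

theorem isIso_pullback_snd_iff_exists_lift {Y Z W : Scheme.{u}} (j : Y ⟶ Z) [Mono j]
    (h : W ⟶ Z) : IsIso (pullback.snd j h) ↔ ∃ l : W ⟶ Y, l ≫ j = h := by
  constructor
  · intro hiso
    refine ⟨inv (pullback.snd j h) ≫ pullback.fst j h, ?_⟩
    rw [Category.assoc, pullback.condition, IsIso.inv_hom_id_assoc]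
  · rintro ⟨l, hl⟩
    haveI : IsSplitEpi (pullback.snd j h) :=
      ⟨⟨pullback.lift l (𝟙 W) (by rw [hl, Category.id_comp]), pullback.lift_snd _ _ _⟩⟩
    exact isIso_of_mono_of_isSplitEpi _

/-- **Weil restriction of a closed subscheme along an essentially free morphism.** -/
theorem exists_weilRestriction_of_essentiallyFree {S Z Y : Scheme.{u}} (f : Z ⟶ S)
    (hf : SGA3x.IsEssentiallyFree f) (j : Y ⟶ Z) [IsClosedImmersion j] :
    ∃ (T : Scheme.{u}) (t : T ⟶ S), IsClosedImmersion t ∧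
      (∀ (S' : Scheme.{u}) (g : S' ⟶ S),
        (∃ g' : S' ⟶ T, g' ≫ t = g) ↔ IsIso (pullback.snd j (pullback.fst f g))) ∧
      (QuasiCompact f → LocallyOfFinitePresentation j → LocallyOfFinitePresentation t) := by
  obtain ⟨𝓩, hW, hfp⟩ := exists_isWeil_of_essentiallyFree f hf j.ker
  refine ⟨𝓩.subscheme, 𝓩.subschemeι, inferInstance, fun S' g => ?_, fun hqc hj =>
    hfp hqc (lfp_ker_subschemeι j hj)⟩
  rw [isIso_pullback_snd_iff_exists_lift, exists_lift_iff_comap_eq_bot,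
    exists_lift_iff_comap_eq_bot, Scheme.IdealSheafData.ker_subschemeι]
  exact hW g _ _ (IsPullback.of_hasPullback f g)

end Main

end Groth.Agent.Lib.T2H7.WeilFPB
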