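import Groth.Agent.Lib.T2H7FinFixA
import Groth.Agent.Lib.T2H7FixSmF
import Groth.Agent.Lib.T2H7WeilFPB
import Groth.Agent.Lib.T2H7WeilClosedFP

/-!
# Fixed points of a finite group of invertible order acting on a smooth scheme (helper7)
-/

set_option autoImplicit false
set_option linter.unusedSectionVars false
set_option linter.unusedVariables false
set_option linter.style.haveILetI false
universe u v
open CategoryTheory CategoryTheory.Limits AlgebraicGeometry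

namespace Groth.Agent.Lib.T2H7.FinFixB

open Groth.Agent.Lib.T2H7.MultActCore Groth.Agent.Lib.T2H7.FixSmF Groth.Agent.Lib.T2H7.FinFixA

section Aux

variable {X : Scheme.{u}} {U : X.Opens} (hU : IsAffineOpen U)

/-- a morphism from an affine scheme landing in the affine open `U` comes from a ring map. -/
theorem exists_ringHom_of_range_le {C : CommRingCat.{u}} (f : Spec C ⟶ X)
    (hf : Set.range f ⊆ Set.range hU.fromSpec) :
    ∃ ζ : Γ(X, U) ⟶ C, f = Spec.map ζ ≫ hU.fromSpec := by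
  haveI : IsOpenImmersion hU.fromSpec := hU.isOpenImmersion_fromSpec
  refine ⟨Spec.preimage (IsOpenImmersion.lift hU.fromSpec f hf), ?_⟩
  rw [Spec.map_preimage, IsOpenImmersion.lift_fac]

/-- equality after composing with a morphism `p`, read on rings. -/
theorem comp_appLE_eq {S : Scheme.{u}} (p : X ⟶ S) {C : CommRingCat.{u}} (ζ₁ ζ₂ : Γ(X, U) ⟶ C)
    (h : Spec.map ζ₁ ≫ hU.fromSpec ≫ p = Spec.map ζ₂ ≫ hU.fromSpec ≫ p)
    (V : S.Opens) (e : U ≤ p ⁻¹ᵁ V) :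
    p.appLE V U e ≫ ζ₁ = p.appLE V U e ≫ ζ₂ := by
  have aux : ∀ ζ : Γ(X, U) ⟶ C, ∀ e' : (⊤ : (Spec C).Opens) ≤ (Spec.map ζ ≫ hU.fromSpec ≫ p) ⁻¹ᵁ V,
      (Spec.map ζ ≫ hU.fromSpec ≫ p).appLE V ⊤ e' ≫ (Scheme.ΓSpecIso C).hom = p.appLE V U e ≫ ζ := by
    intro ζ e'
    have e₁ : (⊤ : (Spec C).Opens) ≤ (Spec.map ζ ≫ hU.fromSpec) ⁻¹ᵁ U := by
      intro x _
      have h1 : (Spec.map ζ ≫ hU.fromSpec) x ∈ Set.range hU.fromSpec := ⟨(Spec.map ζ) x, rfl⟩
      rw [hU.range_fromSpec] at h1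
      exact h1
    have key := appLE_top_of_eq hU (Spec.map ζ ≫ hU.fromSpec) ζ rfl e₁
    have h2 : (Spec.map ζ ≫ hU.fromSpec ≫ p).appLE V ⊤ e' =
        p.appLE V U e ≫ (Spec.map ζ ≫ hU.fromSpec).appLE U ⊤ e₁ := by
      rw [Scheme.Hom.appLE_comp_appLE]
      exact appLE_of_eq (Category.assoc _ _ _).symm V ⊤ e'
    rw [h2, Category.assoc, key]
  have e₁' : (⊤ : (Spec C).Opens) ≤ (Spec.map ζ₁ ≫ hU.fromSpec ≫ p) ⁻¹ᵁ V := by
    intro x _
    have h1 : (Spec.map ζ₁ ≫ hU.fromSpec) x ∈ Set.range hU.fromSpec := ⟨(Spec.map ζ₁) x, rfl⟩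
    rw [hU.range_fromSpec] at h1
    exact e h1
  rw [← aux ζ₁ e₁', ← aux ζ₂ (h ▸ e₁')]
  congr 1
  exact appLE_of_eq h V ⊤ e₁'

/-- a ring map whose morphism factors through a closed subscheme kills the ideal of it. -/
theorem eq_zero_of_factors {Z : Scheme.{u}} (i : Z ⟶ X) {C : CommRingCat.{u}}
    (ζ : Γ(X, U) ⟶ C) (z : Spec C ⟶ Z) (hz : z ≫ i = Spec.map ζ ≫ hU.fromSpec)
    (c : Γ(X, U)) (hc : (i.app U).hom c = 0) : ζ.hom c = 0 := by
  have e : (⊤ : (Spec C).Opens) ≤ (Spec.map ζ ≫ hU.fromSpec) ⁻¹ᵁ U := by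
    intro x _
    have h1 : (Spec.map ζ ≫ hU.fromSpec) x ∈ Set.range hU.fromSpec := ⟨(Spec.map ζ) x, rfl⟩
    rw [hU.range_fromSpec] at h1
    exact h1
  have key := appLE_top_of_eq hU (Spec.map ζ ≫ hU.fromSpec) ζ rfl e
  have h0 : (Spec.map ζ ≫ hU.fromSpec).appLE U ⊤ e c = 0 := by
    have h1 : (Spec.map ζ ≫ hU.fromSpec).appLE U ⊤ e = (z ≫ i).appLE U ⊤ (hz ▸ e) :=
      appLE_of_eq hz.symm U ⊤ e
    rw [h1, Scheme.Hom.comp_appLE]
    show (z.appLE _ ⊤ _).hom ((i.app U).hom c) = 0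
    rw [hc, map_zero]
  rw [← key]
  show (Scheme.ΓSpecIso _).hom.hom (((Spec.map ζ ≫ hU.fromSpec).appLE U ⊤ e).hom c) = 0
  rw [h0]
  exact map_zero _

end Aux

section Tau

variable {S : Scheme.{u}} {X : Over S} {G : Type v} [Group G] (σ : G → (X ⟶ X))
  {U : X.left.Opens} (hU : IsAffineOpen U) (J : Ideal Γ(X.left, U))

/-- `Spec (A ⧸ J ^ 2) ⟶ X`. -/
noncomputable abbrev c2 : Spec (CommRingCat.of (Γ(X.left, U) ⧸ J ^ 2)) ⟶ X.left :=
  Spec.map (CommRingCat.ofHom (Ideal.Quotient.mk (J ^ 2))) ≫ hU.fromSpec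

/-- `Spec (A ⧸ J) ⟶ X`. -/
noncomputable abbrev c1 : Spec (CommRingCat.of (Γ(X.left, U) ⧸ J)) ⟶ X.left :=
  Spec.map (CommRingCat.ofHom (Ideal.Quotient.mk J)) ≫ hU.fromSpec

theorem s12_c2 : Spec.map (CommRingCat.ofHom (q21 J)) ≫ c2 hU J = c1 hU J := by
  show Spec.map (CommRingCat.ofHom (q21 J)) ≫
    Spec.map (CommRingCat.ofHom (Ideal.Quotient.mk (J ^ 2))) ≫ hU.fromSpec = _
  rw [← Category.assoc, ← Spec.map_comp, ← CommRingCat.ofHom_comp, q21_comp]

theorem mono_c2 : Mono (c2 hU J) := by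
  haveI : IsClosedImmersion (Spec.map (CommRingCat.ofHom (Ideal.Quotient.mk (J ^ 2)))) :=
    IsClosedImmersion.spec_of_surjective _ Ideal.Quotient.mk_surjective
  haveI : IsOpenImmersion hU.fromSpec := hU.isOpenImmersion_fromSpec
  haveI : Mono (Spec.map (CommRingCat.ofHom (Ideal.Quotient.mk (J ^ 2)))) := inferInstance
  haveI : Mono hU.fromSpec := inferInstance
  exact mono_comp _ _

/-- an endomorphism fixing `V(J)` restricts to the first-order thickening `V(J ^ 2)`. -/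
theorem exists_tau (g : G) (hfix : c1 hU J ≫ (σ g).left = c1 hU J) :
    ∃ τ : (Γ(X.left, U) ⧸ J ^ 2) →+* (Γ(X.left, U) ⧸ J ^ 2),
      Spec.map (CommRingCat.ofHom τ) ≫ c2 hU J = c2 hU J ≫ (σ g).left ∧
      (q21 J).comp τ = q21 J := by
  haveI : IsOpenImmersion hU.fromSpec := hU.isOpenImmersion_fromSpec
  let m : Spec (CommRingCat.of (Γ(X.left, U) ⧸ J ^ 2)) ⟶ X.left := c2 hU J ≫ (σ g).left
  have hm1 : Spec.map (CommRingCat.ofHom (q21 J)) ≫ m = c1 hU J := by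
    show Spec.map (CommRingCat.ofHom (q21 J)) ≫ c2 hU J ≫ (σ g).left = _
    rw [← Category.assoc, s12_c2, hfix]
  haveI : Surjective (Spec.map (CommRingCat.ofHom (q21 J))) :=
    surjective_specMap_of_nil _
      (Ideal.Quotient.factor_surjective (Ideal.pow_le_self two_ne_zero)) (ker_q21_le J)
  have hrange : Set.range m ⊆ Set.range hU.fromSpec := by
    rintro _ ⟨p, rfl⟩
    obtain ⟨p₀, rfl⟩ := (Spec.map (CommRingCat.ofHom (q21 J))).surjective p
    rw [← Scheme.Hom.comp_apply, hm1]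
    exact ⟨(Spec.map (CommRingCat.ofHom (Ideal.Quotient.mk J))) p₀, rfl⟩
  obtain ⟨ψ, hψ⟩ := exists_ringHom_of_range_le hU m hrange
  have hψ1 : ψ ≫ CommRingCat.ofHom (q21 J) = CommRingCat.ofHom (Ideal.Quotient.mk J) := by
    apply specMap_fromSpec_inj hU
    rw [Spec.map_comp, Category.assoc, ← hψ]
    exact hm1
  have hψ1' : ∀ c, q21 J (ψ.hom c) = Ideal.Quotient.mk J c := fun c =>
    congrArg (fun f => f.hom c) hψ1
  have hJ1 : J ≤ J.cotangentIdeal.comap ψ.hom := by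
    intro c hc
    rw [Ideal.mem_comap]
    apply mem_cotangentIdeal_of_q21
    rw [hψ1' c]
    exact Ideal.Quotient.eq_zero_iff_mem.2 hc
  have hJ2 : ∀ c ∈ J ^ 2, ψ.hom c = 0 := by
    intro c hc
    have h1 : J ^ 2 ≤ (J.cotangentIdeal ^ 2).comap ψ.hom :=
      (Ideal.pow_right_mono hJ1 2).trans (Ideal.le_comap_pow _ 2)
    have h2 := h1 hc
    rw [Ideal.cotangentIdeal_square, Ideal.mem_comap] at h2
    exact (Ideal.mem_bot).1 h2
  let τ : (Γ(X.left, U) ⧸ J ^ 2) →+* (Γ(X.left, U) ⧸ J ^ 2) :=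
    Ideal.Quotient.lift (J ^ 2) ψ.hom hJ2
  have hτ : τ.comp (Ideal.Quotient.mk (J ^ 2)) = ψ.hom := Ideal.Quotient.lift_comp_mk _ _ _
  refine ⟨τ, ?_, ?_⟩
  · show Spec.map (CommRingCat.ofHom τ) ≫
      Spec.map (CommRingCat.ofHom (Ideal.Quotient.mk (J ^ 2))) ≫ hU.fromSpec = m
    rw [← Category.assoc, ← Spec.map_comp, ← CommRingCat.ofHom_comp, hτ]
    exact hψ.symm
  · refine Ideal.Quotient.ringHom_ext ?_
    rw [RingHom.comp_assoc, hτ]
    ext c
    exact hψ1' c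

end Tau

section TauProps

variable {S : Scheme.{u}} {X : Over S} {G : Type v} [Group G] (σ : G → (X ⟶ X))
  {U : X.left.Opens} (hU : IsAffineOpen U) (J : Ideal Γ(X.left, U))
  (hfix : ∀ g : G, c1 hU J ≫ (σ g).left = c1 hU J)

/-- the ring endomorphisms of `A ⧸ J ^ 2` induced by the group elements. -/
noncomputable def tau (g : G) : (Γ(X.left, U) ⧸ J ^ 2) →+* (Γ(X.left, U) ⧸ J ^ 2) :=
  (exists_tau σ hU J g (hfix g)).choose

theorem tau_spec (g : G) :
    Spec.map (CommRingCat.ofHom (tau σ hU J hfix g)) ≫ c2 hU J = c2 hU J ≫ (σ g).left :=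
  (exists_tau σ hU J g (hfix g)).choose_spec.1

theorem q21_tau (g : G) : (q21 J).comp (tau σ hU J hfix g) = q21 J :=
  (exists_tau σ hU J g (hfix g)).choose_spec.2

/-- (T2) -/
theorem tau_sub_mem (g : G) (b : Γ(X.left, U) ⧸ J ^ 2) :
    tau σ hU J hfix g b - b ∈ J.cotangentIdeal := by
  apply mem_cotangentIdeal_of_q21
  rw [map_sub, sub_eq_zero]
  exact congrArg (fun f => f b) (q21_tau σ hU J hfix g)

/-- (T3) -/
theorem tau_comp (hσ : ∀ g h : G, σ (g * h) = σ h ≫ σ g) (g h : G)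
    (b : Γ(X.left, U) ⧸ J ^ 2) :
    tau σ hU J hfix g (tau σ hU J hfix h b) = tau σ hU J hfix (h * g) b := by
  haveI := mono_c2 hU J
  have h1 : Spec.map (CommRingCat.ofHom ((tau σ hU J hfix g).comp (tau σ hU J hfix h))) ≫
      c2 hU J = Spec.map (CommRingCat.ofHom (tau σ hU J hfix (h * g))) ≫ c2 hU J := by
    rw [CommRingCat.ofHom_comp, Spec.map_comp, Category.assoc, tau_spec, ← Category.assoc,
      tau_spec, Category.assoc, tau_spec, hσ, Over.comp_left]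
  have h2 := Spec.map_injective ((cancel_mono (c2 hU J)).1 h1)
  have h3 : (tau σ hU J hfix g).comp (tau σ hU J hfix h) = tau σ hU J hfix (h * g) :=
    congrArg CommRingCat.Hom.hom h2
  exact congrArg (fun f => f b) h3

/-- (T1) -/
theorem tau_algebraMap (g : G) (V : S.Opens) (e : U ≤ X.hom ⁻¹ᵁ V) (r : Γ(S, V)) :
    tau σ hU J hfix g (Ideal.Quotient.mk (J ^ 2) ((X.hom.appLE V U e).hom r)) =
      Ideal.Quotient.mk (J ^ 2) ((X.hom.appLE V U e).hom r) := by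
  have h1 : Spec.map (CommRingCat.ofHom
        ((tau σ hU J hfix g).comp (Ideal.Quotient.mk (J ^ 2)))) ≫ hU.fromSpec ≫ X.hom =
      Spec.map (CommRingCat.ofHom (Ideal.Quotient.mk (J ^ 2))) ≫ hU.fromSpec ≫ X.hom := by
    rw [CommRingCat.ofHom_comp, Spec.map_comp, Category.assoc]
    have h2 : Spec.map (CommRingCat.ofHom (tau σ hU J hfix g)) ≫
        Spec.map (CommRingCat.ofHom (Ideal.Quotient.mk (J ^ 2))) ≫ hU.fromSpec =
        (Spec.map (CommRingCat.ofHom (Ideal.Quotient.mk (J ^ 2))) ≫ hU.fromSpec) ≫ (σ g).left :=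
      tau_spec σ hU J hfix g
    rw [← Category.assoc (Spec.map (CommRingCat.ofHom (Ideal.Quotient.mk (J ^ 2)))),
      ← Category.assoc (Spec.map (CommRingCat.ofHom (tau σ hU J hfix g))), h2]
    simp only [Category.assoc]
    rw [Over.w (σ g)]
  have h3 := comp_appLE_eq hU X.hom _ _ h1 V e
  exact congrArg (fun f => f.hom r) h3

end TauProps

section Main

variable {S : Scheme.{u}} {X : Over S} {G : Type v} [Group G] (σ : G → (X ⟶ X))
  {U : X.left.Opens} (hU : IsAffineOpen U)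

/-- `V(J)`, `J` the ideal of the closed subscheme `Z`, factors through `Z`. -/
theorem exists_lift_c1 {Z : Scheme.{u}} (i : Z ⟶ X.left) [IsClosedImmersion i] :
    ∃ z₁ : Spec (CommRingCat.of (Γ(X.left, U) ⧸ RingHom.ker (i.app U).hom)) ⟶ Z,
      z₁ ≫ i = c1 hU (RingHom.ker (i.app U).hom) := by
  let J : Ideal Γ(X.left, U) := RingHom.ker (i.app U).hom
  have hV : IsAffineOpen (i ⁻¹ᵁ U) := hU.preimage i
  have hsurj : Function.Surjective (i.app U).hom := i.app_surjective U hU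
  let ε : (Γ(X.left, U) ⧸ J) ≃+* Γ(Z, i ⁻¹ᵁ U) :=
    RingHom.quotientKerEquivOfSurjective hsurj
  let ψ' : Γ(Z, i ⁻¹ᵁ U) →+* Γ(X.left, U) ⧸ J := ε.symm.toRingHom
  have hψ' : i.app U ≫ CommRingCat.ofHom ψ' = CommRingCat.ofHom (Ideal.Quotient.mk J) := by
    refine CommRingCat.hom_ext (RingHom.ext fun c => ?_)
    show ε.symm ((i.app U).hom c) = Ideal.Quotient.mk J c
    rw [RingEquiv.symm_apply_eq]
    rfl
  have h1 : Spec.map (i.appLE U (i ⁻¹ᵁ U) le_rfl) ≫ hU.fromSpec =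
      hV.fromSpec ≫ i := IsAffineOpen.SpecMap_appLE_fromSpec i hU hV le_rfl
  rw [Scheme.Hom.appLE_eq_app] at h1
  refine ⟨Spec.map (CommRingCat.ofHom ψ') ≫ hV.fromSpec, ?_⟩
  rw [Category.assoc, ← h1, ← Category.assoc, ← Spec.map_comp, hψ']

variable (J : Ideal Γ(X.left, U)) (hfix : ∀ g : G, c1 hU J ≫ (σ g).left = c1 hU J)

/-- (T4) the ideal `J / J ^ 2` is generated by the `τ g b - b`, when `J` is the ideal of the scheme
of fixed points. -/
theorem cotangent_le_span {Z : Over S} (ι : Z ⟶ X)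
    (hZ : ∀ (T : Over S) (t : T ⟶ X), (∀ g : G, t ≫ σ g = t) → ∃ t' : T ⟶ Z, t' ≫ ι = t)
    (hJ : J = RingHom.ker (ι.left.app U).hom) :
    J.cotangentIdeal ≤
      Ideal.span {x | ∃ (h : G) (b : Γ(X.left, U) ⧸ J ^ 2), x = tau σ hU J hfix h b - b} := by
  let I : Ideal (Γ(X.left, U) ⧸ J ^ 2) :=
    Ideal.span {x | ∃ (h : G) (b : Γ(X.left, U) ⧸ J ^ 2), x = tau σ hU J hfix h b - b}
  let p : (Γ(X.left, U) ⧸ J ^ 2) →+* (Γ(X.left, U) ⧸ J ^ 2) ⧸ I := Ideal.Quotient.mk I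
  let ζ : Γ(X.left, U) →+* (Γ(X.left, U) ⧸ J ^ 2) ⧸ I := p.comp (Ideal.Quotient.mk (J ^ 2))
  have hp : ∀ g : G, p.comp (tau σ hU J hfix g) = p := by
    intro g
    ext b
    show p (tau σ hU J hfix g b) = p b
    rw [← sub_eq_zero, ← map_sub]
    exact Ideal.Quotient.eq_zero_iff_mem.2 (Ideal.subset_span ⟨g, b, rfl⟩)
  have hζ : Spec.map (CommRingCat.ofHom ζ) = Spec.map (CommRingCat.ofHom p) ≫
      Spec.map (CommRingCat.ofHom (Ideal.Quotient.mk (J ^ 2))) := by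
    rw [← Spec.map_comp, ← CommRingCat.ofHom_comp]
  have hfixt : ∀ g : G, bp hU ζ ≫ σ g = bp hU ζ := by
    intro g
    apply Over.OverMorphism.ext
    show (Spec.map (CommRingCat.ofHom ζ) ≫ hU.fromSpec) ≫ (σ g).left =
      Spec.map (CommRingCat.ofHom ζ) ≫ hU.fromSpec
    rw [hζ]
    have h1 : (Spec.map (CommRingCat.ofHom p) ≫
        Spec.map (CommRingCat.ofHom (Ideal.Quotient.mk (J ^ 2)))) ≫ hU.fromSpec =
        Spec.map (CommRingCat.ofHom p) ≫ c2 hU J := Category.assoc _ _ _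
    rw [h1, Category.assoc, ← tau_spec σ hU J hfix g, ← Category.assoc, ← Spec.map_comp,
      ← CommRingCat.ofHom_comp, hp g]
  obtain ⟨t', ht'⟩ := hZ _ _ hfixt
  have hz : t'.left ≫ ι.left = Spec.map (CommRingCat.ofHom ζ) ≫ hU.fromSpec :=
    congrArg CommaMorphism.left ht'
  rintro x ⟨c, hc, rfl⟩
  have hc' : (ι.left.app U).hom c = 0 := by
    have : c ∈ RingHom.ker (ι.left.app U).hom := hJ ▸ hc
    exact this
  have h0 : ζ c = 0 :=
    eq_zero_of_factors hU ι.left (CommRingCat.ofHom ζ) t'.left hz c hc'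
  exact Ideal.Quotient.eq_zero_iff_mem.1 h0

end Main

section Smooth

open Groth.Agent.Lib.T2H7.FixSmE

variable {S : Scheme.{u}} {X : Over S} {G : Type v} [Group G] [Finite G] (σ : G → (X ⟶ X))

/-- **local smoothness of the fixed locus of a finite group of invertible order.** -/
theorem smooth_appLE_finFix (hσ : ∀ g h : G, σ (g * h) = σ h ≫ σ g) (hXs : Smooth X.hom)
    {Z : Over S} (ι : Z ⟶ X) [IsClosedImmersion ι.left] [LocallyOfFinitePresentation Z.hom]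
    (hι : ∀ g : G, ι ≫ σ g = ι)
    (hZ : ∀ (T : Over S) (t : T ⟶ X), (∀ g : G, t ≫ σ g = t) → ∃ t' : T ⟶ Z, t' ≫ ι = t)
    (hG : IsUnit (Nat.card G : Γ(S, ⊤)))
    {V : S.Opens} (hV : IsAffineOpen V) {U : X.left.Opens} (hU : IsAffineOpen U)
    (eU : U ≤ X.hom ⁻¹ᵁ V) (e : ι.left ⁻¹ᵁ U ≤ Z.hom ⁻¹ᵁ V) :
    (Z.hom.appLE V (ι.left ⁻¹ᵁ U) e).hom.Smooth := by
  classical
  letI : Fintype G := Fintype.ofFinite G
  let φ : Γ(S, V) ⟶ Γ(X.left, U) := X.hom.appLE V U eU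
  let π : Γ(X.left, U) ⟶ Γ(Z.left, ι.left ⁻¹ᵁ U) := ι.left.app U
  let J : Ideal Γ(X.left, U) := RingHom.ker π.hom
  have hW : IsAffineOpen (ι.left ⁻¹ᵁ U) := hU.preimage ι.left
  have hcomp : Z.hom.appLE V (ι.left ⁻¹ᵁ U) e = φ ≫ π := by
    have h2 : Z.hom = ι.left ≫ X.hom := (Over.w ι).symm
    rw [appLE_of_eq h2]
    show _ = X.hom.appLE V U eU ≫ ι.left.app U
    rw [← Scheme.Hom.appLE_eq_app, Scheme.Hom.appLE_comp_appLE]
  have hfix : ∀ g : G, c1 hU J ≫ (σ g).left = c1 hU J := by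
    intro g
    obtain ⟨z₁, hz₁⟩ := exists_lift_c1 hU ι.left
    have h1 : ι.left ≫ (σ g).left = ι.left := congrArg CommaMorphism.left (hι g)
    show c1 hU (RingHom.ker (ι.left.app U).hom) ≫ (σ g).left = _
    rw [← hz₁, Category.assoc, h1]
  let K : Ideal (Γ(X.left, U) ⧸ J ^ 2) := J.cotangentIdeal
  have hKsq : ∀ u ∈ K, ∀ v ∈ K, u * v = 0 := by
    intro u hu v hv
    have h1 : u * v ∈ J.cotangentIdeal * J.cotangentIdeal := Ideal.mul_mem_mul hu hv
    have hsq : J.cotangentIdeal * J.cotangentIdeal = ⊥ :=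
      (pow_two J.cotangentIdeal).symm.trans (Ideal.cotangentIdeal_square J)
    rw [hsq] at h1
    exact (Ideal.mem_bot).1 h1
  -- the inverse of the order of the group
  let χ : Γ(S, ⊤) →+* Γ(X.left, U) ⧸ J ^ 2 :=
    (Ideal.Quotient.mk (J ^ 2)).comp (φ.hom.comp (S.presheaf.map (homOfLE le_top).op).hom)
  obtain ⟨ν, hν'⟩ := (hG.map χ).exists_right_inv
  have hν : (Fintype.card G : Γ(X.left, U) ⧸ J ^ 2) * ν = 1 := by
    rw [map_natCast, Nat.card_eq_fintype_card] at hν'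
    exact hν'
  let e₀ : Γ(X.left, U) ⧸ J ^ 2 →+* Γ(X.left, U) ⧸ J ^ 2 :=
    avg (tau σ hU J hfix) K ν hKsq (tau_sub_mem σ hU J hfix) hν
  -- algebra structures
  letI algA : Algebra Γ(S, V) Γ(X.left, U) := φ.hom.toAlgebra
  letI algB : Algebra Γ(S, V) Γ(Z.left, ι.left ⁻¹ᵁ U) :=
    (Z.hom.appLE V (ι.left ⁻¹ᵁ U) e).hom.toAlgebra
  have hsmA : Algebra.Smooth Γ(S, V) Γ(X.left, U) := X.hom.smooth_appLE hV hU eU
  haveI : Algebra.FormallySmooth Γ(S, V) Γ(X.left, U) := hsmA.formallySmooth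
  have hfpB : Algebra.FinitePresentation Γ(S, V) Γ(Z.left, ι.left ⁻¹ᵁ U) :=
    Z.hom.finitePresentation_appLE hV hW e
  let f : Γ(X.left, U) →ₐ[Γ(S, V)] Γ(Z.left, ι.left ⁻¹ᵁ U) :=
    { π.hom with
      commutes' := fun r => by
        show π.hom (φ.hom r) = (Z.hom.appLE V (ι.left ⁻¹ᵁ U) e).hom r
        rw [hcomp]
        rfl }
  have hfsurj : Function.Surjective f := ι.left.app_surjective U hU
  have hfs : Algebra.FormallySmooth Γ(S, V) Γ(Z.left, ι.left ⁻¹ᵁ U) := by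
    refine formallySmooth_of_retraction' f hfsurj J rfl e₀ ?_ ?_ ?_
    · intro r
      exact avg_fix hKsq (tau_sub_mem σ hU J hfix) hν
        (fun g => tau_algebraMap σ hU J hfix g V eU r)
    · intro x hx
      exact avg_eq_zero hKsq (tau_sub_mem σ hU J hfix) hν (tau_comp σ hU J hfix hσ)
        (cotangent_le_span σ hU J hfix ι hZ rfl) hx
    · intro x
      exact sub_avg_mem hKsq (tau_sub_mem σ hU J hfix) hν x
  show Algebra.Smooth Γ(S, V) Γ(Z.left, ι.left ⁻¹ᵁ U)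
  exact ⟨hfs, hfpB⟩

/-- **Smoothness of the fixed locus of a finite group of invertible order** acting on a smooth
scheme, given that the fixed locus is a closed subscheme locally of finite presentation. -/
theorem smooth_finFix (hσ : ∀ g h : G, σ (g * h) = σ h ≫ σ g) (hXs : Smooth X.hom)
    {Z : Over S} (ι : Z ⟶ X) (hcl : IsClosedImmersion ι.left)
    (hfp : LocallyOfFinitePresentation Z.hom)
    (hι : ∀ g : G, ι ≫ σ g = ι)
    (hZ : ∀ (T : Over S) (t : T ⟶ X), (∀ g : G, t ≫ σ g = t) → ∃ t' : T ⟶ Z, t' ≫ ι = t)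
    (hG : IsUnit (Nat.card G : Γ(S, ⊤))) : Smooth Z.hom := by
  haveI := hcl
  haveI := hfp
  rw [HasRingHomProperty.iff_exists_appLE (P := @Smooth)
    (RingHom.Smooth.stableUnderComposition.stableUnderCompositionWithLocalizationAway
      RingHom.Smooth.holdsForLocalizationAway).left]
  intro z
  obtain ⟨_, ⟨V, hV, rfl⟩, hzV, -⟩ :=
    S.isBasis_affineOpens.exists_subset_of_mem_open
      (Set.mem_univ (Z.hom z)) isOpen_univ
  have hx : ι.left z ∈ X.hom ⁻¹ᵁ V := by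
    show X.hom (ι.left z) ∈ V
    rw [← Scheme.Hom.comp_apply, Over.w ι]
    exact hzV
  obtain ⟨_, ⟨U, hU, rfl⟩, hzU, hUV⟩ :=
    X.left.isBasis_affineOpens.exists_subset_of_mem_open hx (X.hom ⁻¹ᵁ V).isOpen
  have e : ι.left ⁻¹ᵁ U ≤ Z.hom ⁻¹ᵁ V := by
    intro w hw
    show Z.hom w ∈ V
    rw [← Over.w ι, Scheme.Hom.comp_apply]
    exact hUV hw
  exact ⟨⟨V, hV⟩, ⟨ι.left ⁻¹ᵁ U, hU.preimage ι.left⟩, hzU, e,
    smooth_appLE_finFix σ hσ hXs ι hι hZ hG hV hU hUV e⟩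

end Smooth

section Closed

variable {S : Scheme.{u}} {X : Over S} {G : Type v} [Finite G] (σ : G → (X ⟶ X))

/-- the fixed points of finitely many endomorphisms of a separated `S`-scheme locally of finite
type form a closed subscheme of finite presentation. -/
theorem exists_closed_finFix [IsSeparated X.hom] [LocallyOfFiniteType X.hom] :
    ∃ (C : Over S) (c : C ⟶ X), IsClosedImmersion c.left ∧ LocallyOfFinitePresentation c.left ∧
      ∀ (T : Over S) (t : T ⟶ X), (∃ t' : T ⟶ C, t' ≫ c = t) ↔ ∀ g : G, t ≫ σ g = t := by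
  let 𝓘 : G → X.left.IdealSheafData := fun g => (equalizer.ι (𝟙 X) (σ g)).left.ker
  let 𝓩 : X.left.IdealSheafData := ⨆ g, 𝓘 g
  have hlfp : LocallyOfFinitePresentation 𝓩.subschemeι :=
    Groth.Agent.Lib.T2H7.WeilFPB.lfp_iSup_of_finite 𝓘 fun g =>
      Groth.Agent.Lib.T2H7.WeilFPA.lfp_ker_subschemeι _
        (Groth.Agent.Lib.T2H7.WeilClosed.lfp_equalizer_ι_left (𝟙 X) (σ g))
  refine ⟨Over.mk (𝓩.subschemeι ≫ X.hom), Over.homMk 𝓩.subschemeι rfl,
    inferInstanceAs (IsClosedImmersion 𝓩.subschemeι), hlfp, fun T t => ?_⟩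
  have key : (∃ l : T.left ⟶ 𝓩.subscheme, l ≫ 𝓩.subschemeι = t.left) ↔
      ∀ g : G, t ≫ σ g = t := by
    rw [Groth.Agent.Lib.T2H7.WeilClosed.exists_lift_iff_comap_eq_bot,
      Scheme.IdealSheafData.ker_subschemeι, Groth.Agent.Lib.T2H7.IdealGlue.comap_iSup,
      iSup_eq_bot]
    refine forall_congr' fun g => ?_
    rw [← Groth.Agent.Lib.T2H7.WeilClosed.exists_lift_iff_comap_eq_bot,
      Groth.Agent.Lib.T2H7.WeilClosedOver.exists_lift_equalizer_iff, Category.comp_id]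
    exact eq_comm
  rw [← key]
  constructor
  · rintro ⟨z, rfl⟩
    exact ⟨z.left, rfl⟩
  · rintro ⟨l, hl⟩
    refine ⟨Over.homMk l ?_, ?_⟩
    · change l ≫ 𝓩.subschemeι ≫ X.hom = T.hom
      rw [← Category.assoc, hl, Over.w t]
    · ext1
      exact hl

/-- two monomorphisms representing the same subfunctor: transfer of closedness. -/
theorem isClosedImmersion_of_rep_eq {F C : Over S} (j : F ⟶ X) (c : C ⟶ X) [Mono j] [Mono c]
    (P : ∀ T : Over S, (T ⟶ X) → Prop)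
    (hF : ∀ (T : Over S) (x : T ⟶ X), (∃ y : T ⟶ F, y ≫ j = x) ↔ P T x)
    (hC : ∀ (T : Over S) (x : T ⟶ X), (∃ y : T ⟶ C, y ≫ c = x) ↔ P T x)
    (hcl : IsClosedImmersion c.left) : IsClosedImmersion j.left := by
  obtain ⟨z, hz⟩ := (hC F j).2 ((hF F j).1 ⟨𝟙 F, Category.id_comp j⟩)
  obtain ⟨w, hw⟩ := (hF C c).2 ((hC C c).1 ⟨𝟙 C, Category.id_comp c⟩)
  have h1 : z ≫ w = 𝟙 F := by
    rw [← cancel_mono j, Category.assoc, hw, hz, Category.id_comp]
  have h2 : w ≫ z = 𝟙 C := by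
    rw [← cancel_mono c, Category.assoc, hz, hw, Category.id_comp]
  haveI : IsIso z := ⟨w, h1, h2⟩
  haveI : IsIso z.left := inferInstanceAs (IsIso ((Over.forget S).map z))
  have h3 : z.left ≫ c.left = j.left := congrArg CommaMorphism.left hz
  rw [← h3]
  haveI := hcl
  infer_instance

end Closed

end Groth.Agent.Lib.T2H7.FinFixB
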