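import Mathlib
import Groth.Agent.Lib.Helper5InfFlat

/-!
# Descent of flatness along a finite injective ring map (helper7)

`flat_of_monogenic_split`: if `A ⊆ B = A[t]` with `∏ (t - α j) = 0` for some `α j ∈ A`, then flatness
of `B ⊗ N` over `B` implies flatness of `N` over `A`.
`flat_of_fg_split`: the same for `B` generated by finitely many such elements.
-/

set_option autoImplicit false
universe u

namespace Groth.Agent.Lib.T2H7.FinFlatDesc

open TensorProduct Groth.Agent.Lib.Helper5

section Inf

variable {A : Type u} [CommRing A] (N : Type u) [AddCommGroup N] [Module A N]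

/-- Flatness modulo every member of a finite family of ideals gives flatness modulo their
intersection. -/
theorem flat_quotient_finset_inf {ι : Type*} (s : Finset ι) (J : ι → Ideal A)
    (h : ∀ j ∈ s, Module.Flat (A ⧸ J j) ((A ⧸ J j) ⊗[A] N)) :
    ∀ I : Ideal A, I = s.inf J → Module.Flat (A ⧸ I) ((A ⧸ I) ⊗[A] N) := by
  classical
  induction s using Finset.induction_on with
  | empty =>
    intro I hI
    rw [Finset.inf_empty] at hI
    subst hI
    have : Subsingleton (A ⧸ (⊤ : Ideal A)) := Ideal.Quotient.subsingleton_iff.mpr rfl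
    have : Subsingleton ((A ⧸ (⊤ : Ideal A)) ⊗[A] N) := Module.subsingleton (A ⧸ (⊤ : Ideal A)) _
    infer_instance
  | insert j s hj ih =>
    intro I hI
    rw [Finset.inf_insert] at hI
    subst hI
    exact flat_quotient_inf_of_flat_quotient N (J j) (s.inf J)
      (h j (Finset.mem_insert_self j s))
      (ih (fun i hi => h i (Finset.mem_insert_of_mem hi)) _ rfl)

theorem finset_prod_mono {ι : Type*} (s : Finset ι) (J K : ι → Ideal A)
    (h : ∀ j ∈ s, J j ≤ K j) : ∏ j ∈ s, J j ≤ ∏ j ∈ s, K j := by
  classical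
  induction s using Finset.induction_on with
  | empty => simp
  | insert j s hj ih =>
    rw [Finset.prod_insert hj, Finset.prod_insert hj]
    exact Ideal.mul_mono (h j (Finset.mem_insert_self j s))
      (ih fun i hi => h i (Finset.mem_insert_of_mem hi))

theorem inf_pow_card_le_prod {ι : Type*} (s : Finset ι) (J : ι → Ideal A) :
    (s.inf J) ^ s.card ≤ ∏ j ∈ s, J j := by
  classical
  induction s using Finset.induction_on with
  | empty => simp
  | insert j s hj ih =>
    rw [Finset.card_insert_of_notMem hj, Finset.prod_insert hj, Finset.inf_insert, pow_succ,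
      mul_comm]
    exact Ideal.mul_mono inf_le_left ((Ideal.pow_right_mono inf_le_right _).trans ih)

end Inf

section Mono

variable {A B : Type u} [CommRing A] [CommRing B] [Algebra A B]

/-- Modulo `t - α`, every element of `A[t]` is congruent to an element of `A`. -/
theorem exists_sub_mem_span (t : B) (hgen : Algebra.adjoin A {t} = ⊤) (a₀ : A) (b : B) :
    ∃ a : A, b - algebraMap A B a ∈ Ideal.span {t - algebraMap A B a₀} := by
  have hb : b ∈ Algebra.adjoin A {t} := by rw [hgen]; trivial
  induction hb using Algebra.adjoin_induction with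
  | mem x hx =>
    rw [Set.mem_singleton_iff] at hx
    subst hx
    exact ⟨a₀, Ideal.subset_span rfl⟩
  | algebraMap r => exact ⟨r, by simp⟩
  | add x y _ _ hx hy =>
    obtain ⟨a, ha⟩ := hx
    obtain ⟨a', ha'⟩ := hy
    refine ⟨a + a', ?_⟩
    have : x + y - algebraMap A B (a + a') = (x - algebraMap A B a) + (y - algebraMap A B a') := by
      rw [map_add]; ring
    rw [this]
    exact Ideal.add_mem _ ha ha'
  | mul x y _ _ hx hy =>
    obtain ⟨a, ha⟩ := hx
    obtain ⟨a', ha'⟩ := hy
    refine ⟨a * a', ?_⟩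
    have : x * y - algebraMap A B (a * a') =
        (x - algebraMap A B a) * y + algebraMap A B a * (y - algebraMap A B a') := by
      rw [map_mul]; ring
    rw [this]
    exact Ideal.add_mem _ (Ideal.mul_mem_right _ _ ha) (Ideal.mul_mem_left _ _ ha')

/-- Flatness of the base change to `B` gives flatness modulo the contraction of `(t - α)`. -/
theorem flat_quotient_comap_span (t : B) (hgen : Algebra.adjoin A {t} = ⊤) (a₀ : A)
    (N : Type u) [AddCommGroup N] [Module A N] (h : Module.Flat B (B ⊗[A] N)) :
    Module.Flat (A ⧸ (Ideal.span {t - algebraMap A B a₀}).comap (algebraMap A B))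
      ((A ⧸ (Ideal.span {t - algebraMap A B a₀}).comap (algebraMap A B)) ⊗[A] N) := by
  obtain ⟨Q, hQ⟩ : ∃ Q : Ideal B, Q = Ideal.span {t - algebraMap A B a₀} := ⟨_, rfl⟩
  rw [← hQ]
  have hle : Q.comap (algebraMap A B) ≤ Q.comap (algebraMap A B) := le_rfl
  let alg : Algebra (A ⧸ Q.comap (algebraMap A B)) (B ⧸ Q) :=
    Ideal.Quotient.algebraQuotientOfLEComap hle
  have tower : IsScalarTower A (A ⧸ Q.comap (algebraMap A B)) (B ⧸ Q) :=
    IsScalarTower.of_algebraMap_eq fun x => rfl
  have h_a : Module.Flat (B ⧸ Q) ((B ⧸ Q) ⊗[A] N) :=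
    flat_baseChange_of_flat_baseChange (A := A) (A₁ := B) (T := B ⧸ Q) N h
  have h_b : Module.Flat (B ⧸ Q)
      ((B ⧸ Q) ⊗[A ⧸ Q.comap (algebraMap A B)] ((A ⧸ Q.comap (algebraMap A B)) ⊗[A] N)) :=
    flat_baseChange_baseChange_of_flat (A := A) (A₁ := A ⧸ Q.comap (algebraMap A B))
      (T := B ⧸ Q) N h_a
  have hbij : Function.Bijective (algebraMap (A ⧸ Q.comap (algebraMap A B)) (B ⧸ Q)) := by
    constructor
    · exact Ideal.quotientMap_injective' (le_refl _)
    · intro x
      obtain ⟨b, rfl⟩ := Ideal.Quotient.mk_surjective x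
      obtain ⟨a, ha⟩ := exists_sub_mem_span t hgen a₀ b
      refine ⟨Ideal.Quotient.mk _ a, ?_⟩
      change Ideal.Quotient.mk Q (algebraMap A B a) = Ideal.Quotient.mk Q b
      rw [eq_comm, Ideal.Quotient.eq, hQ]
      exact ha
  have hff : Module.FaithfullyFlat (A ⧸ Q.comap (algebraMap A B)) (B ⧸ Q) :=
    RingHom.faithfullyFlat_algebraMap_iff.mp (RingHom.FaithfullyFlat.of_bijective hbij)
  exact Module.Flat.of_flat_tensorProduct (A ⧸ Q.comap (algebraMap A B)) _ (B ⧸ Q)

/-- **Descent of flatness along a monogenic extension with a split relation.** -/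
theorem flat_of_monogenic_split (hinj : Function.Injective (algebraMap A B)) (t : B)
    (hgen : Algebra.adjoin A {t} = ⊤) (d : ℕ) (α : Fin d → A)
    (hP : ∏ j, (t - algebraMap A B (α j)) = 0)
    (N : Type u) [AddCommGroup N] [Module A N] (h : Module.Flat B (B ⊗[A] N)) :
    Module.Flat A N := by
  obtain ⟨J, hJ⟩ : ∃ J : Fin d → Ideal A,
      ∀ j, J j = (Ideal.span {t - algebraMap A B (α j)}).comap (algebraMap A B) := ⟨_, fun _ => rfl⟩
  have hflatJ : ∀ j, Module.Flat (A ⧸ J j) ((A ⧸ J j) ⊗[A] N) := by
    intro j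
    rw [hJ j]
    exact flat_quotient_comap_span t hgen (α j) N h
  have hflatI : Module.Flat (A ⧸ Finset.univ.inf J) ((A ⧸ Finset.univ.inf J) ⊗[A] N) :=
    flat_quotient_finset_inf N Finset.univ J (fun j _ => hflatJ j) _ rfl
  have hprod : ∏ j, J j = ⊥ := by
    rw [eq_bot_iff]
    have h1 : (∏ j, J j).map (algebraMap A B) ≤ ⊥ := by
      have hmp : (∏ j, J j).map (algebraMap A B) = ∏ j, (J j).map (algebraMap A B) :=
        map_prod (Ideal.mapHom (algebraMap A B)) J Finset.univ
      rw [hmp]
      calc ∏ j, (J j).map (algebraMap A B)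
          ≤ ∏ j, Ideal.span {t - algebraMap A B (α j)} := by
            apply finset_prod_mono
            intro j _
            rw [hJ j]
            exact Ideal.map_comap_le
        _ = ⊥ := by
            rw [Ideal.prod_span_singleton, hP, Ideal.span_singleton_eq_bot]
    intro x hx
    have h2 := h1 (Ideal.mem_map_of_mem _ hx)
    rw [Ideal.mem_bot] at h2 ⊢
    exact hinj (by rw [h2, map_zero])
  have hnil : IsNilpotent (Finset.univ.inf J) := by
    refine ⟨d, ?_⟩
    have := inf_pow_card_le_prod Finset.univ J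
    rw [Finset.card_univ, Fintype.card_fin, hprod] at this
    exact le_bot_iff.mp this
  exact flat_of_isNilpotent_of_jointly_injective (Finset.univ.inf J) hnil
    (fun _ : Unit => B) (fun a ha => hinj (by rw [ha (), map_zero]))
    (tensorJointlyInjective_of_finite _ Unit hflatI) hflatI (fun _ => h)

end Mono

section FG

theorem range_eq_union_succ {β : Type*} {n : ℕ} (t : Fin (n + 1) → β) :
    Set.range t = {t 0} ∪ Set.range (fun i : Fin n => t i.succ) := by
  ext x
  constructor
  · rintro ⟨i, rfl⟩
    refine Fin.cases ?_ (fun i => ?_) i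
    · exact Or.inl rfl
    · exact Or.inr ⟨i, rfl⟩
  · rintro (h | ⟨i, rfl⟩)
    · exact ⟨0, h.symm⟩
    · exact ⟨i.succ, rfl⟩

/-- **Descent of flatness along an injective ring map `A → B` with `B` generated by finitely many
elements, each killed by a product of linear factors with roots in `A`.** -/
theorem flat_of_fg_split : ∀ (n : ℕ) (A B : Type u) [CommRing A] [CommRing B] [Algebra A B],
    Function.Injective (algebraMap A B) → ∀ (t : Fin n → B), Algebra.adjoin A (Set.range t) = ⊤ →
    ∀ (d : Fin n → ℕ) (α : (i : Fin n) → Fin (d i) → A),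
    (∀ i, ∏ j, (t i - algebraMap A B (α i j)) = 0) →
    ∀ (N : Type u) [AddCommGroup N] [Module A N], Module.Flat B (B ⊗[A] N) → Module.Flat A N := by
  intro n
  induction n with
  | zero =>
    intro A B _ _ _ hinj t hgen d α hP N _ _ h
    have hsurj : Function.Surjective (algebraMap A B) := by
      intro b
      have hb : b ∈ Algebra.adjoin A (Set.range t) := by rw [hgen]; trivial
      have hr : Set.range t = ∅ := Set.range_eq_empty t
      rw [hr, Algebra.adjoin_empty] at hb
      exact Algebra.mem_bot.mp hb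
    have hff : Module.FaithfullyFlat A B :=
      RingHom.faithfullyFlat_algebraMap_iff.mp (RingHom.FaithfullyFlat.of_bijective ⟨hinj, hsurj⟩)
    exact Module.Flat.of_flat_tensorProduct A N B
  | succ n ih =>
    intro A B _ _ _ hinj t hgen d α hP N _ _ h
    obtain ⟨A₁, hA₁⟩ : ∃ A₁ : Subalgebra A B, A₁ = Algebra.adjoin A {t 0} := ⟨_, rfl⟩
    have h1 : Module.Flat B (B ⊗[A₁] (A₁ ⊗[A] N)) :=
      flat_baseChange_baseChange_of_flat (A := A) (A₁ := A₁) (T := B) N h
    have hgen1 : Algebra.adjoin A₁ (Set.range (fun i : Fin n => t i.succ)) = ⊤ := by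
      rw [eq_top_iff]
      intro x _
      have hx : x ∈ Algebra.adjoin A (Set.range t) := by rw [hgen]; trivial
      rw [range_eq_union_succ t, Algebra.adjoin_union_eq_adjoin_adjoin, ← hA₁] at hx
      exact hx
    have hflat1 : Module.Flat A₁ (A₁ ⊗[A] N) :=
      ih A₁ B Subtype.val_injective (fun i => t i.succ) hgen1 (fun i => d i.succ)
        (fun i j => algebraMap A A₁ (α i.succ j)) (fun i => hP i.succ) (A₁ ⊗[A] N) h1
    have hinj1 : Function.Injective (algebraMap A A₁) := by
      intro a b hab
      apply hinj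
      have := congrArg (Subtype.val) hab
      exact this
    have ht0 : t 0 ∈ A₁ := by rw [hA₁]; exact Algebra.subset_adjoin rfl
    have hgen0 : Algebra.adjoin A {(⟨t 0, ht0⟩ : A₁)} = ⊤ := by
      subst hA₁
      have h2 := Algebra.adjoin_adjoin_coe_preimage (R := A) (s := ({t 0} : Set B))
      have h3 : ((↑) : Algebra.adjoin A ({t 0} : Set B) → B) ⁻¹' {t 0} = {⟨t 0, ht0⟩} := by
        ext x
        simp only [Set.mem_preimage, Set.mem_singleton_iff]
        constructor
        · intro hx
          exact Subtype.ext hx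
        · intro hx
          rw [hx]
      rw [h3] at h2
      exact h2
    have hP0 : ∏ j, ((⟨t 0, ht0⟩ : A₁) - algebraMap A A₁ (α 0 j)) = 0 := by
      apply Subtype.val_injective
      rw [ZeroMemClass.coe_zero]
      rw [← hP 0]
      simp
    exact flat_of_monogenic_split hinj1 ⟨t 0, ht0⟩ hgen0 (d 0) (α 0) hP0 N hflat1

end FG

end Groth.Agent.Lib.T2H7.FinFlatDesc
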