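import Mathlib
import Groth.Agent.Lib.T2H7FinFlatDesc
import Groth.Agent.Lib.Helper5NilProj
import Groth.Agent.Lib.Helper14Descent2

/-!
# Descent of projectivity along a finite injective ring map (helper7)

* `projective_of_inf_eq_bot`: a flat module which is projective modulo two ideals with zero
  intersection is projective (patching over the Milnor square).
* `projective_of_monogenic_split`, `projective_of_fg_split`: the analogues of the statements of
  `T2H7FinFlatDesc` for projectivity.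
-/

set_option autoImplicit false
universe u

namespace Groth.Agent.Lib.T2H7.FinProjDesc

open TensorProduct Groth.Agent.Lib.Helper5

section Basic

variable {A : Type u} [CommRing A]

/-- The canonical map `X → (A/I) ⊗ X`. -/
noncomputable def iota (I : Ideal A) (X : Type u) [AddCommGroup X] [Module A X] :
    X →ₗ[A] (A ⧸ I) ⊗[A] X := TensorProduct.mk A (A ⧸ I) X 1

theorem iota_apply (I : Ideal A) (X : Type u) [AddCommGroup X] [Module A X] (x : X) :
    iota I X x = (1 : A ⧸ I) ⊗ₜ[A] x := rfl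

theorem mk_tmul_eq (I : Ideal A) (X : Type u) [AddCommGroup X] [Module A X] (a : A) (x : X) :
    (Ideal.Quotient.mk I a) ⊗ₜ[A] x = iota I X (a • x) := by
  rw [iota_apply, TensorProduct.tmul_smul, TensorProduct.smul_tmul']
  congr 1
  rw [Algebra.smul_def, mul_one]
  rfl

theorem iota_surjective (I : Ideal A) (X : Type u) [AddCommGroup X] [Module A X] :
    Function.Surjective (iota I X) := by
  intro z
  induction z with
  | zero => exact ⟨0, map_zero _⟩
  | tmul q x =>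
    obtain ⟨a, rfl⟩ := Ideal.Quotient.mk_surjective q
    exact ⟨a • x, (mk_tmul_eq I X a x).symm⟩
  | add z w hz hw =>
    obtain ⟨x, rfl⟩ := hz
    obtain ⟨y, rfl⟩ := hw
    exact ⟨x + y, map_add _ _ _⟩

theorem iota_eq_zero_iff (I : Ideal A) (X : Type u) [AddCommGroup X] [Module A X] (x : X) :
    iota I X x = 0 ↔ x ∈ I • (⊤ : Submodule A X) := by
  rw [iota_apply, ← (TensorProduct.quotTensorEquivQuotSMul X I).map_eq_zero_iff,
    TensorProduct.quotTensorEquivQuotSMul_mk_one_tmul, Submodule.Quotient.mk_eq_zero]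

theorem smul_eq_zero_of_mem (I : Ideal A) (X : Type u) [AddCommGroup X] [Module A X]
    {I' : Ideal A} (h : I' ≤ I) (a : A) (ha : a ∈ I') (z : (A ⧸ I) ⊗[A] X) : a • z = 0 := by
  obtain ⟨x, rfl⟩ := iota_surjective I X z
  rw [← map_smul, iota_eq_zero_iff]
  exact Submodule.smul_mem_smul (h ha) trivial

theorem lTensor_iota (I : Ideal A) {X Y : Type u} [AddCommGroup X] [Module A X] [AddCommGroup Y]
    [Module A Y] (φ : X →ₗ[A] Y) (x : X) :
    φ.lTensor (A ⧸ I) (iota I X x) = iota I Y (φ x) := by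
  rw [iota_apply, LinearMap.lTensor_tmul, iota_apply]

/-- The transition map `(A/I) ⊗ X → (A/I') ⊗ X` for `I ≤ I'`. -/
noncomputable def tau {I I' : Ideal A} (h : I ≤ I') (X : Type u) [AddCommGroup X] [Module A X] :
    (A ⧸ I) ⊗[A] X →ₗ[A] (A ⧸ I') ⊗[A] X :=
  LinearMap.rTensor X (Ideal.Quotient.factorₐ A h).toLinearMap

theorem tau_iota {I I' : Ideal A} (h : I ≤ I') (X : Type u) [AddCommGroup X] [Module A X] (x : X) :
    tau h X (iota I X x) = iota I' X x := by
  rw [iota_apply, tau, LinearMap.rTensor_tmul, AlgHom.toLinearMap_apply, map_one, iota_apply]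

theorem tau_lTensor {I I' : Ideal A} (h : I ≤ I') {X Y : Type u} [AddCommGroup X] [Module A X]
    [AddCommGroup Y] [Module A Y] (φ : X →ₗ[A] Y) (z : (A ⧸ I) ⊗[A] X) :
    tau h Y (φ.lTensor (A ⧸ I) z) = φ.lTensor (A ⧸ I') (tau h X z) := by
  obtain ⟨x, rfl⟩ := iota_surjective I X z
  rw [lTensor_iota, tau_iota, tau_iota, lTensor_iota]

/-- Gluing elements over the Milnor square: existence. -/
theorem exists_of_tau_eq {I₁ I₂ : Ideal A} (X : Type u) [AddCommGroup X] [Module A X]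
    (y₁ : (A ⧸ I₁) ⊗[A] X) (y₂ : (A ⧸ I₂) ⊗[A] X)
    (h : tau (le_sup_left : I₁ ≤ I₁ ⊔ I₂) X y₁ = tau (le_sup_right : I₂ ≤ I₁ ⊔ I₂) X y₂) :
    ∃ x : X, iota I₁ X x = y₁ ∧ iota I₂ X x = y₂ := by
  obtain ⟨u, rfl⟩ := iota_surjective I₁ X y₁
  obtain ⟨v, rfl⟩ := iota_surjective I₂ X y₂
  rw [tau_iota, tau_iota, ← sub_eq_zero, ← map_sub, iota_eq_zero_iff, Submodule.sup_smul,
    Submodule.mem_sup] at h
  obtain ⟨w₁, hw₁, w₂, hw₂, hw⟩ := h
  refine ⟨u - w₁, ?_, ?_⟩
  · rw [map_sub, (iota_eq_zero_iff I₁ X w₁).mpr hw₁, sub_zero]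
  · have : u - w₁ = v + w₂ := by
      rw [sub_eq_iff_eq_add, add_assoc, add_comm w₂ w₁, hw]
      abel
    rw [this, map_add, (iota_eq_zero_iff I₂ X w₂).mpr hw₂, add_zero]

/-- Gluing elements over the Milnor square: uniqueness, for flat modules. -/
theorem eq_zero_of_iota_eq_zero {I₁ I₂ : Ideal A} (hI : I₁ ⊓ I₂ = ⊥) (X : Type u) [AddCommGroup X]
    [Module A X] [Module.Flat A X] (x : X) (h1 : iota I₁ X x = 0) (h2 : iota I₂ X x = 0) :
    x = 0 := by
  rw [iota_eq_zero_iff] at h1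
  -- the injective map `I₁ → A/I₂`
  obtain ⟨j, hj⟩ : ∃ j : I₁ →ₗ[A] A ⧸ I₂, ∀ a : I₁, j a = Ideal.Quotient.mk I₂ a.1 :=
    ⟨(Submodule.mkQ I₂) ∘ₗ (Submodule.subtype I₁), fun a => rfl⟩
  have hjinj : Function.Injective j := by
    rw [injective_iff_map_eq_zero]
    intro a ha
    rw [hj, Ideal.Quotient.eq_zero_iff_mem] at ha
    have : a.1 ∈ I₁ ⊓ I₂ := ⟨a.2, ha⟩
    rw [hI, Ideal.mem_bot] at this
    exact Subtype.ext this
  have hinj : Function.Injective (j.rTensor X) :=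
    Module.Flat.rTensor_preserves_injective_linearMap j hjinj
  obtain ⟨μ, hμ⟩ : ∃ μ : (I₁ ⊗[A] X) →ₗ[A] X, ∀ (a : I₁) (x : X), μ (a ⊗ₜ x) = a.1 • x :=
    ⟨(TensorProduct.lid A X).toLinearMap ∘ₗ (Submodule.subtype I₁).rTensor X, fun a x => by
      simp⟩
  have hex : ∃ ζ : I₁ ⊗[A] X, μ ζ = x := by
    refine Submodule.smul_induction_on h1 ?_ ?_
    · intro a ha m _
      exact ⟨(⟨a, ha⟩ : I₁) ⊗ₜ m, hμ _ _⟩
    · rintro y z ⟨ζ, rfl⟩ ⟨ξ, rfl⟩
      exact ⟨ζ + ξ, map_add _ _ _⟩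
  obtain ⟨ζ, rfl⟩ := hex
  have hkey : ∀ ζ : I₁ ⊗[A] X, j.rTensor X ζ = iota I₂ X (μ ζ) := by
    intro ζ
    induction ζ with
    | zero => simp
    | tmul a m => rw [LinearMap.rTensor_tmul, hj, hμ, mk_tmul_eq]
    | add ζ ξ hζ hξ => rw [map_add, hζ, hξ, map_add, map_add]
  have : ζ = 0 := by
    apply hinj
    rw [hkey, h2, map_zero]
  rw [this, map_zero]

/-- Lifting maps out of a module which is projective over `A/I` against `A`-linear maps of modules
killed by `I`. -/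
theorem exists_lift_of_projective (I : Ideal A) (X : Type u) [AddCommGroup X] [Module A X]
    [Module (A ⧸ I) X] [IsScalarTower A (A ⧸ I) X] [Module.Projective (A ⧸ I) X]
    {Y Z : Type u} [AddCommGroup Y] [Module A Y] [AddCommGroup Z] [Module A Z]
    (hY : ∀ a ∈ I, ∀ y : Y, a • y = 0) (hZ : ∀ a ∈ I, ∀ z : Z, a • z = 0)
    (g : Y →ₗ[A] Z) (f : X →ₗ[A] Z) (hfg : LinearMap.range f ≤ LinearMap.range g) :
    ∃ h : X →ₗ[A] Y, g ∘ₗ h = f := by
  have tY : Module.IsTorsionBySet A Y (I : Set A) := fun y ⟨a, ha⟩ => hY a ha y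
  have tZ : Module.IsTorsionBySet A Z (I : Set A) := fun z ⟨a, ha⟩ => hZ a ha z
  let _ : Module (A ⧸ I) Y := tY.module
  let _ : Module (A ⧸ I) Z := tZ.module
  have : IsScalarTower A (A ⧸ I) Y := tY.isScalarTower
  have : IsScalarTower A (A ⧸ I) Z := tZ.isScalarTower
  have hsurj : Function.Surjective (algebraMap A (A ⧸ I)) := Ideal.Quotient.mk_surjective
  obtain ⟨g', hg'⟩ : ∃ g' : Y →ₗ[A ⧸ I] Z, ∀ y, g' y = g y :=
    ⟨g.extendScalarsOfSurjective hsurj, fun _ => rfl⟩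
  obtain ⟨f', hf'⟩ : ∃ f' : X →ₗ[A ⧸ I] Z, ∀ x, f' x = f x :=
    ⟨f.extendScalarsOfSurjective hsurj, fun _ => rfl⟩
  have hmem : ∀ x, f' x ∈ LinearMap.range g' := by
    intro x
    obtain ⟨y, hy⟩ := hfg ⟨x, rfl⟩
    exact ⟨y, by rw [hg', hy, hf']⟩
  obtain ⟨h, hh⟩ := Module.projective_lifting_property g'.rangeRestrict
    (f'.codRestrict (LinearMap.range g') hmem) g'.surjective_rangeRestrict
  refine ⟨h.restrictScalars A, ?_⟩
  ext x
  have := congrArg Subtype.val (LinearMap.congr_fun hh x)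
  simp only [LinearMap.comp_apply, LinearMap.codRestrict_apply] at this
  rw [LinearMap.comp_apply, LinearMap.restrictScalars_apply, ← hg', ← hf', ← this]

end Basic

section Patch

variable {A : Type u} [CommRing A]

/-- A linear map into a module killed by `I` descends to `(A/I) ⊗ X`. -/
theorem exists_desc (I : Ideal A) (X : Type u) [AddCommGroup X] [Module A X]
    {Z : Type u} [AddCommGroup Z] [Module A Z] (hZ : ∀ a ∈ I, ∀ z : Z, a • z = 0)
    (φ : X →ₗ[A] Z) : ∃ φ' : (A ⧸ I) ⊗[A] X →ₗ[A] Z, ∀ x, φ' (iota I X x) = φ x := by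
  have hle : I • (⊤ : Submodule A X) ≤ LinearMap.ker φ := by
    rw [Submodule.smul_le]
    intro a ha x _
    rw [LinearMap.mem_ker, map_smul]
    exact hZ a ha _
  refine ⟨(Submodule.liftQ _ φ hle) ∘ₗ (TensorProduct.quotTensorEquivQuotSMul X I).toLinearMap, ?_⟩
  intro x
  rw [LinearMap.comp_apply, LinearEquiv.coe_coe, iota_apply,
    TensorProduct.quotTensorEquivQuotSMul_mk_one_tmul, Submodule.liftQ_apply]

theorem tau_surjective {I I' : Ideal A} (h : I ≤ I') (X : Type u) [AddCommGroup X] [Module A X] :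
    Function.Surjective (tau h X) := by
  intro z
  obtain ⟨x, rfl⟩ := iota_surjective I' X z
  exact ⟨iota I X x, tau_iota h X x⟩

/-- **Patching sections over a Milnor square**: a surjection from a flat module onto a flat module
which is projective modulo two ideals with zero intersection has a section. -/
theorem exists_section_of_inf_eq_bot (I₁ I₂ : Ideal A) (hI : I₁ ⊓ I₂ = ⊥)
    (P F : Type u) [AddCommGroup P] [Module A P] [Module.Flat A P]
    [AddCommGroup F] [Module A F] [Module.Flat A F] (π : F →ₗ[A] P) (hπ : Function.Surjective π)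
    (h1 : Module.Projective (A ⧸ I₁) ((A ⧸ I₁) ⊗[A] P))
    (h2 : Module.Projective (A ⧸ I₂) ((A ⧸ I₂) ⊗[A] P)) :
    ∃ s : P →ₗ[A] F, π ∘ₗ s = LinearMap.id := by
  classical
  obtain ⟨κ, hκ⟩ : ∃ κ : LinearMap.ker π →ₗ[A] F, κ = (LinearMap.ker π).subtype := ⟨_, rfl⟩
  have hexact : Function.Exact κ π := by
    rw [hκ]; exact LinearMap.exact_subtype_ker_map π
  have hex : ∀ I : Ideal A, Function.Exact (κ.lTensor (A ⧸ I)) (π.lTensor (A ⧸ I)) :=
    fun I => lTensor_exact (A ⧸ I) hexact hπ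
  -- sections modulo `I₁` and `I₂`
  have hsec : ∀ (I : Ideal A), Module.Projective (A ⧸ I) ((A ⧸ I) ⊗[A] P) →
      ∃ σ : (A ⧸ I) ⊗[A] P →ₗ[A] (A ⧸ I) ⊗[A] F,
        ∀ z, (π.lTensor (A ⧸ I)) (σ z) = z := by
    intro I hp
    obtain ⟨σ, hσ⟩ := exists_lift_of_projective I ((A ⧸ I) ⊗[A] P)
      (fun a ha y => smul_eq_zero_of_mem I F le_rfl a ha y)
      (fun a ha y => smul_eq_zero_of_mem I P le_rfl a ha y)
      (π.lTensor (A ⧸ I)) LinearMap.id (by
        rw [LinearMap.range_eq_top.mpr (LinearMap.lTensor_surjective _ hπ)]; exact le_top)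
    exact ⟨σ, fun z => LinearMap.congr_fun hσ z⟩
  obtain ⟨σ₁, hσ₁⟩ := hsec I₁ h1
  obtain ⟨σ₂, hσ₂⟩ := hsec I₂ h2
  -- the difference of the two sections on the overlap
  obtain ⟨δ, hδ⟩ : ∃ δ : P →ₗ[A] (A ⧸ (I₁ ⊔ I₂)) ⊗[A] F, ∀ p,
      δ p = tau le_sup_left F (σ₁ (iota I₁ P p)) -
        tau le_sup_right F (σ₂ (iota I₂ P p)) :=
    ⟨(tau le_sup_left F) ∘ₗ σ₁ ∘ₗ iota I₁ P -
      (tau le_sup_right F) ∘ₗ σ₂ ∘ₗ iota I₂ P, fun p => rfl⟩
  have hπδ : ∀ p, (π.lTensor (A ⧸ (I₁ ⊔ I₂))) (δ p) = 0 := by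
    intro p
    rw [hδ, map_sub, ← tau_lTensor, ← tau_lTensor, hσ₁, hσ₂, tau_iota, tau_iota, sub_self]
  obtain ⟨δ', hδ'⟩ := exists_desc I₂ P
    (fun a ha z => smul_eq_zero_of_mem (I₁ ⊔ I₂) F (le_sup_right : I₂ ≤ I₁ ⊔ I₂) a ha z) δ
  -- lift the difference to the kernel modulo `I₂`
  obtain ⟨ε, hε⟩ := exists_lift_of_projective I₂ ((A ⧸ I₂) ⊗[A] P)
    (fun a ha y => smul_eq_zero_of_mem I₂ (LinearMap.ker π) le_rfl a ha y)
    (fun a ha z => smul_eq_zero_of_mem (I₁ ⊔ I₂) F (le_sup_right : I₂ ≤ I₁ ⊔ I₂) a ha z)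
    ((κ.lTensor (A ⧸ (I₁ ⊔ I₂))) ∘ₗ tau le_sup_right (LinearMap.ker π)) δ' (by
      rintro _ ⟨z, rfl⟩
      obtain ⟨p, rfl⟩ := iota_surjective I₂ P z
      rw [hδ']
      obtain ⟨k, hk⟩ := (hex (I₁ ⊔ I₂) (δ p)).mp (hπδ p)
      obtain ⟨k', rfl⟩ := tau_surjective (le_sup_right : I₂ ≤ I₁ ⊔ I₂) (LinearMap.ker π) k
      exact ⟨k', hk⟩)
  have hε' : ∀ z, (κ.lTensor (A ⧸ (I₁ ⊔ I₂))) (tau le_sup_right (LinearMap.ker π) (ε z)) = δ' z :=
    fun z => LinearMap.congr_fun hε z
  -- the corrected section modulo `I₂`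
  obtain ⟨σ₂', hσ₂'⟩ : ∃ σ₂' : (A ⧸ I₂) ⊗[A] P →ₗ[A] (A ⧸ I₂) ⊗[A] F,
      ∀ z, σ₂' z = σ₂ z + (κ.lTensor (A ⧸ I₂)) (ε z) :=
    ⟨σ₂ + (κ.lTensor (A ⧸ I₂)) ∘ₗ ε, fun z => rfl⟩
  have hσ₂'π : ∀ z, (π.lTensor (A ⧸ I₂)) (σ₂' z) = z := by
    intro z
    rw [hσ₂', map_add, hσ₂, (hex I₂).apply_apply_eq_zero, add_zero]
  have hcompat : ∀ p, tau le_sup_left F (σ₁ (iota I₁ P p)) =
      tau le_sup_right F (σ₂' (iota I₂ P p)) := by
    intro p
    rw [hσ₂', map_add, tau_lTensor, hε', hδ', hδ]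
    abel
  -- glue
  obtain ⟨Φ, hΦ⟩ : ∃ Φ : F →ₗ[A] ((A ⧸ I₁) ⊗[A] F) × ((A ⧸ I₂) ⊗[A] F),
      ∀ y, Φ y = (iota I₁ F y, iota I₂ F y) :=
    ⟨(iota I₁ F).prod (iota I₂ F), fun y => rfl⟩
  have hΦinj : Function.Injective Φ := by
    rw [injective_iff_map_eq_zero]
    intro y hy
    rw [hΦ, Prod.mk_eq_zero] at hy
    exact eq_zero_of_iota_eq_zero hI F y hy.1 hy.2
  have hmem : ∀ p, (σ₁ (iota I₁ P p), σ₂' (iota I₂ P p)) ∈ LinearMap.range Φ := by
    intro p
    obtain ⟨y, hy1, hy2⟩ := exists_of_tau_eq F _ _ (hcompat p)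
    exact ⟨y, by rw [hΦ, hy1, hy2]⟩
  obtain ⟨s, hs⟩ : ∃ s : P →ₗ[A] F, ∀ p, Φ (s p) = (σ₁ (iota I₁ P p), σ₂' (iota I₂ P p)) := by
    refine ⟨(LinearEquiv.ofInjective Φ hΦinj).symm.toLinearMap ∘ₗ
      LinearMap.codRestrict (LinearMap.range Φ)
        ((σ₁ ∘ₗ iota I₁ P).prod (σ₂' ∘ₗ iota I₂ P)) hmem, ?_⟩
    intro p
    rw [LinearMap.comp_apply, LinearEquiv.coe_coe, ← LinearEquiv.ofInjective_apply (h := hΦinj),
      LinearEquiv.apply_symm_apply]
    rfl
  refine ⟨s, ?_⟩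
  ext p
  rw [LinearMap.comp_apply, LinearMap.id_apply, ← sub_eq_zero]
  have h3 := hs p
  rw [hΦ, Prod.mk.injEq] at h3
  apply eq_zero_of_iota_eq_zero hI P
  · rw [map_sub, ← lTensor_iota, h3.1, hσ₁, sub_self]
  · rw [map_sub, ← lTensor_iota, h3.2, hσ₂'π, sub_self]


/-- **Patching projectivity over a Milnor square**: a flat module which is projective modulo two
ideals with zero intersection is projective. -/
theorem projective_of_inf_eq_bot (I₁ I₂ : Ideal A) (hI : I₁ ⊓ I₂ = ⊥)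
    (P : Type u) [AddCommGroup P] [Module A P] [Module.Flat A P]
    (h1 : Module.Projective (A ⧸ I₁) ((A ⧸ I₁) ⊗[A] P))
    (h2 : Module.Projective (A ⧸ I₂) ((A ⧸ I₂) ⊗[A] P)) : Module.Projective A P := by
  obtain ⟨s, hs⟩ := exists_section_of_inf_eq_bot I₁ I₂ hI P (P →₀ A)
    (Finsupp.linearCombination A (id : P → P)) (Finsupp.linearCombination_id_surjective A P) h1 h2
  exact Module.Projective.of_split s _ hs

end Patch

section BC

variable {A A₁ T : Type u} [CommRing A] [CommRing A₁] [CommRing T] [Algebra A A₁] [Algebra A₁ T]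
  [Algebra A T] [IsScalarTower A A₁ T] (B : Type u) [AddCommGroup B] [Module A B]

/-- Base change of projectivity in two steps. -/
theorem proj_baseChange_of_proj_baseChange (h : Module.Projective A₁ (A₁ ⊗[A] B)) :
    Module.Projective T (T ⊗[A] B) :=
  Module.Projective.of_equiv (AlgebraTensorModule.cancelBaseChange A A₁ T T B)

/-- The converse transfer. -/
theorem proj_baseChange_baseChange_of_proj (h : Module.Projective T (T ⊗[A] B)) :
    Module.Projective T (T ⊗[A₁] (A₁ ⊗[A] B)) :=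
  Module.Projective.of_equiv (AlgebraTensorModule.cancelBaseChange A A₁ T T B).symm

end BC

section Inf

variable {A : Type u} [CommRing A] (P : Type u) [AddCommGroup P] [Module A P] [Module.Flat A P]

/-- If `P` is flat and `P/I₁P`, `P/I₂P` are projective over `A/I₁`, `A/I₂`, then `P/(I₁ ∩ I₂)P` is
projective over `A/(I₁ ∩ I₂)`. -/
theorem projective_quotient_inf (I₁ I₂ : Ideal A)
    (h1 : Module.Projective (A ⧸ I₁) ((A ⧸ I₁) ⊗[A] P))
    (h2 : Module.Projective (A ⧸ I₂) ((A ⧸ I₂) ⊗[A] P)) :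
    Module.Projective (A ⧸ (I₁ ⊓ I₂)) ((A ⧸ (I₁ ⊓ I₂)) ⊗[A] P) := by
  have key : ∀ J : Ideal A, Module.Projective (A ⧸ J) ((A ⧸ J) ⊗[A] P) →
      Module.Projective ((A ⧸ (I₁ ⊓ I₂)) ⧸ J.map (algebraMap A (A ⧸ (I₁ ⊓ I₂))))
        (((A ⧸ (I₁ ⊓ I₂)) ⧸ J.map (algebraMap A (A ⧸ (I₁ ⊓ I₂)))) ⊗[A ⧸ (I₁ ⊓ I₂)]
          ((A ⧸ (I₁ ⊓ I₂)) ⊗[A] P)) := fun J hJ =>
    proj_baseChange_baseChange_of_proj (A := A) (A₁ := A ⧸ (I₁ ⊓ I₂)) P
      (proj_baseChange_of_proj_baseChange (A := A) (A₁ := A ⧸ J) P hJ)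
  refine projective_of_inf_eq_bot (I₁.map (algebraMap A (A ⧸ (I₁ ⊓ I₂))))
    (I₂.map (algebraMap A (A ⧸ (I₁ ⊓ I₂)))) ?_ _ (key I₁ h1) (key I₂ h2)
  rw [eq_bot_iff]
  rintro x ⟨hx1, hx2⟩
  obtain ⟨a, rfl⟩ := Ideal.Quotient.mk_surjective x
  rw [Ideal.mem_bot, Ideal.Quotient.eq_zero_iff_mem]
  have hsurj : Function.Surjective (algebraMap A (A ⧸ (I₁ ⊓ I₂))) := Ideal.Quotient.mk_surjective
  rw [SetLike.mem_coe, Ideal.mem_map_iff_of_surjective _ hsurj] at hx1 hx2
  obtain ⟨b, hb, hba⟩ := hx1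
  obtain ⟨c, hc, hca⟩ := hx2
  rw [Ideal.Quotient.algebraMap_eq, Ideal.Quotient.mk_eq_mk_iff_sub_mem] at hba hca
  have ha1 : a ∈ I₁ := by
    have := I₁.sub_mem hb (inf_le_left (a := I₁) (b := I₂) hba)
    rwa [sub_sub_cancel] at this
  have ha2 : a ∈ I₂ := by
    have := I₂.sub_mem hc (inf_le_right (a := I₁) (b := I₂) hca)
    rwa [sub_sub_cancel] at this
  exact ⟨ha1, ha2⟩

/-- The finite version. -/
theorem projective_quotient_finset_inf {ι : Type*} (s : Finset ι) (J : ι → Ideal A)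
    (h : ∀ j ∈ s, Module.Projective (A ⧸ J j) ((A ⧸ J j) ⊗[A] P)) :
    ∀ I : Ideal A, I = s.inf J → Module.Projective (A ⧸ I) ((A ⧸ I) ⊗[A] P) := by
  classical
  induction s using Finset.induction_on with
  | empty =>
    intro I hI
    rw [Finset.inf_empty] at hI
    subst hI
    have : Subsingleton (A ⧸ (⊤ : Ideal A)) := Ideal.Quotient.subsingleton_iff.mpr rfl
    have : Subsingleton ((A ⧸ (⊤ : Ideal A)) ⊗[A] P) := Module.subsingleton (A ⧸ (⊤ : Ideal A)) _
    infer_instance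
  | insert j s hj ih =>
    intro I hI
    rw [Finset.inf_insert] at hI
    subst hI
    exact projective_quotient_inf P (J j) (s.inf J)
      (h j (Finset.mem_insert_self j s))
      (ih (fun i hi => h i (Finset.mem_insert_of_mem hi)) _ rfl)

end Inf

section Mono

open Groth.Agent.Lib.T2H7.FinFlatDesc

variable {A B : Type u} [CommRing A] [CommRing B] [Algebra A B]

/-- Projectivity of the base change to `B` gives projectivity modulo the contraction of
`(t - α)`. -/
theorem projective_quotient_comap_span (t : B) (hgen : Algebra.adjoin A {t} = ⊤) (a₀ : A)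
    (N : Type u) [AddCommGroup N] [Module A N] (h : Module.Projective B (B ⊗[A] N)) :
    Module.Projective (A ⧸ (Ideal.span {t - algebraMap A B a₀}).comap (algebraMap A B))
      ((A ⧸ (Ideal.span {t - algebraMap A B a₀}).comap (algebraMap A B)) ⊗[A] N) := by
  obtain ⟨Q, hQ⟩ : ∃ Q : Ideal B, Q = Ideal.span {t - algebraMap A B a₀} := ⟨_, rfl⟩
  rw [← hQ]
  have hle : Q.comap (algebraMap A B) ≤ Q.comap (algebraMap A B) := le_rfl
  let alg : Algebra (A ⧸ Q.comap (algebraMap A B)) (B ⧸ Q) :=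
    Ideal.Quotient.algebraQuotientOfLEComap hle
  have tower : IsScalarTower A (A ⧸ Q.comap (algebraMap A B)) (B ⧸ Q) :=
    IsScalarTower.of_algebraMap_eq fun x => rfl
  have h_a : Module.Projective (B ⧸ Q) ((B ⧸ Q) ⊗[A] N) :=
    proj_baseChange_of_proj_baseChange (A := A) (A₁ := B) (T := B ⧸ Q) N h
  have h_b : Module.Projective (B ⧸ Q)
      ((B ⧸ Q) ⊗[A ⧸ Q.comap (algebraMap A B)] ((A ⧸ Q.comap (algebraMap A B)) ⊗[A] N)) :=
    proj_baseChange_baseChange_of_proj (A := A) (A₁ := A ⧸ Q.comap (algebraMap A B))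
      (T := B ⧸ Q) N h_a
  have hbij : Function.Bijective (algebraMap (A ⧸ Q.comap (algebraMap A B)) (B ⧸ Q)) := by
    constructor
    · exact Ideal.quotientMap_injective' (le_refl _)
    · intro x
      obtain ⟨b, rfl⟩ := Ideal.Quotient.mk_surjective x
      obtain ⟨a, ha⟩ := exists_sub_mem_span t hgen a₀ b
      refine ⟨Ideal.Quotient.mk _ a, ?_⟩
      change Ideal.Quotient.mk Q (algebraMap A B a) = Ideal.Quotient.mk Q b
      rw [eq_comm, Ideal.Quotient.eq, hQ]
      exact ha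
  have hff : Module.FaithfullyFlat (A ⧸ Q.comap (algebraMap A B)) (B ⧸ Q) :=
    RingHom.faithfullyFlat_algebraMap_iff.mp (RingHom.FaithfullyFlat.of_bijective hbij)
  exact Groth.Agent.Lib.Helper14.Descent.projective_of_faithfullyFlat_baseChange
    (R := A ⧸ Q.comap (algebraMap A B)) (S := B ⧸ Q)

/-- **Descent of projectivity along a monogenic extension with a split relation.** -/
theorem projective_of_monogenic_split (hinj : Function.Injective (algebraMap A B)) (t : B)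
    (hgen : Algebra.adjoin A {t} = ⊤) (d : ℕ) (α : Fin d → A)
    (hP : ∏ j, (t - algebraMap A B (α j)) = 0)
    (N : Type u) [AddCommGroup N] [Module A N] (h : Module.Projective B (B ⊗[A] N)) :
    Module.Projective A N := by
  have hflat : Module.Flat A N :=
    flat_of_monogenic_split hinj t hgen d α hP N inferInstance
  obtain ⟨J, hJ⟩ : ∃ J : Fin d → Ideal A,
      ∀ j, J j = (Ideal.span {t - algebraMap A B (α j)}).comap (algebraMap A B) := ⟨_, fun _ => rfl⟩
  have hprojJ : ∀ j, Module.Projective (A ⧸ J j) ((A ⧸ J j) ⊗[A] N) := by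
    intro j
    rw [hJ j]
    exact projective_quotient_comap_span t hgen (α j) N h
  have hprojI : Module.Projective (A ⧸ Finset.univ.inf J) ((A ⧸ Finset.univ.inf J) ⊗[A] N) :=
    projective_quotient_finset_inf N Finset.univ J (fun j _ => hprojJ j) _ rfl
  have hprod : ∏ j, J j = ⊥ := by
    rw [eq_bot_iff]
    have h1 : (∏ j, J j).map (algebraMap A B) ≤ ⊥ := by
      have hmp : (∏ j, J j).map (algebraMap A B) = ∏ j, (J j).map (algebraMap A B) :=
        map_prod (Ideal.mapHom (algebraMap A B)) J Finset.univ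
      rw [hmp]
      calc ∏ j, (J j).map (algebraMap A B)
          ≤ ∏ j, Ideal.span {t - algebraMap A B (α j)} := by
            apply finset_prod_mono
            intro j _
            rw [hJ j]
            exact Ideal.map_comap_le
        _ = ⊥ := by
            rw [Ideal.prod_span_singleton, hP, Ideal.span_singleton_eq_bot]
    intro x hx
    have h2 := h1 (Ideal.mem_map_of_mem _ hx)
    rw [Ideal.mem_bot] at h2 ⊢
    exact hinj (by rw [h2, map_zero])
  have hnil : IsNilpotent (Finset.univ.inf J) := by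
    refine ⟨d, ?_⟩
    have := inf_pow_card_le_prod Finset.univ J
    rw [Finset.card_univ, Fintype.card_fin, hprod] at this
    exact le_bot_iff.mp this
  exact projective_of_flat_of_projective_quotient_of_isNilpotent hnil N hprojI

end Mono

section FG

open Groth.Agent.Lib.T2H7.FinFlatDesc

/-- **Descent of projectivity along an injective ring map `A → B` with `B` generated by finitely
many elements, each killed by a product of linear factors with roots in `A`.** -/
theorem projective_of_fg_split : ∀ (n : ℕ) (A B : Type u) [CommRing A] [CommRing B] [Algebra A B],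
    Function.Injective (algebraMap A B) → ∀ (t : Fin n → B), Algebra.adjoin A (Set.range t) = ⊤ →
    ∀ (d : Fin n → ℕ) (α : (i : Fin n) → Fin (d i) → A),
    (∀ i, ∏ j, (t i - algebraMap A B (α i j)) = 0) →
    ∀ (N : Type u) [AddCommGroup N] [Module A N], Module.Projective B (B ⊗[A] N) →
      Module.Projective A N := by
  intro n
  induction n with
  | zero =>
    intro A B _ _ _ hinj t hgen d α hP N _ _ h
    have hsurj : Function.Surjective (algebraMap A B) := by
      intro b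
      have hb : b ∈ Algebra.adjoin A (Set.range t) := by rw [hgen]; trivial
      have hr : Set.range t = ∅ := Set.range_eq_empty t
      rw [hr, Algebra.adjoin_empty] at hb
      exact Algebra.mem_bot.mp hb
    have hff : Module.FaithfullyFlat A B :=
      RingHom.faithfullyFlat_algebraMap_iff.mp (RingHom.FaithfullyFlat.of_bijective ⟨hinj, hsurj⟩)
    exact Groth.Agent.Lib.Helper14.Descent.projective_of_faithfullyFlat_baseChange (R := A) (S := B)
  | succ n ih =>
    intro A B _ _ _ hinj t hgen d α hP N _ _ h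
    obtain ⟨A₁, hA₁⟩ : ∃ A₁ : Subalgebra A B, A₁ = Algebra.adjoin A {t 0} := ⟨_, rfl⟩
    have h1 : Module.Projective B (B ⊗[A₁] (A₁ ⊗[A] N)) :=
      proj_baseChange_baseChange_of_proj (A := A) (A₁ := A₁) (T := B) N h
    have hgen1 : Algebra.adjoin A₁ (Set.range (fun i : Fin n => t i.succ)) = ⊤ := by
      rw [eq_top_iff]
      intro x _
      have hx : x ∈ Algebra.adjoin A (Set.range t) := by rw [hgen]; trivial
      rw [range_eq_union_succ t, Algebra.adjoin_union_eq_adjoin_adjoin, ← hA₁] at hx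
      exact hx
    have hproj1 : Module.Projective A₁ (A₁ ⊗[A] N) :=
      ih A₁ B Subtype.val_injective (fun i => t i.succ) hgen1 (fun i => d i.succ)
        (fun i j => algebraMap A A₁ (α i.succ j)) (fun i => hP i.succ) (A₁ ⊗[A] N) h1
    have hinj1 : Function.Injective (algebraMap A A₁) := by
      intro a b hab
      apply hinj
      have := congrArg (Subtype.val) hab
      exact this
    have ht0 : t 0 ∈ A₁ := by rw [hA₁]; exact Algebra.subset_adjoin rfl
    have hgen0 : Algebra.adjoin A {(⟨t 0, ht0⟩ : A₁)} = ⊤ := by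
      subst hA₁
      have h2 := Algebra.adjoin_adjoin_coe_preimage (R := A) (s := ({t 0} : Set B))
      have h3 : ((↑) : Algebra.adjoin A ({t 0} : Set B) → B) ⁻¹' {t 0} = {⟨t 0, ht0⟩} := by
        ext x
        simp only [Set.mem_preimage, Set.mem_singleton_iff]
        constructor
        · intro hx
          exact Subtype.ext hx
        · intro hx
          rw [hx]
      rw [h3] at h2
      exact h2
    have hP0 : ∏ j, ((⟨t 0, ht0⟩ : A₁) - algebraMap A A₁ (α 0 j)) = 0 := by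
      apply Subtype.val_injective
      rw [ZeroMemClass.coe_zero]
      rw [← hP 0]
      simp
    exact projective_of_monogenic_split hinj1 ⟨t 0, ht0⟩ hgen0 (d 0) (α 0) hP0 N hproj1

end FG

end Groth.Agent.Lib.T2H7.FinProjDesc
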