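import Mathlib

/-!
# A system of affine schemes of finite type with finite transition maps and integral limit has a
finite stage (helper7)
-/

set_option autoImplicit false
set_option linter.unusedSectionVars false
set_option linter.unusedVariables false
set_option linter.style.haveILetI false
universe u
open CategoryTheory CategoryTheory.Limits AlgebraicGeometry

namespace Groth.Agent.Lib.T2H7.FinStage

/-- an algebra which is finite over a finitely generated algebra whose generators become integral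
is integral. -/
theorem isIntegral_of_generators {B A₀ A : Type*} [CommRing B] [CommRing A₀] [CommRing A]
    [Algebra B A₀] [Algebra A₀ A] [Algebra B A] [IsScalarTower B A₀ A] [Module.Finite A₀ A]
    (s : Set A₀) (hs : Algebra.adjoin B s = ⊤)
    (hint : ∀ x ∈ s, IsIntegral B (algebraMap A₀ A x)) : Algebra.IsIntegral B A := by
  let C' : Subalgebra B A := integralClosure B A
  let f : A₀ →ₐ[B] A := IsScalarTower.toAlgHom B A₀ A
  have h1 : ∀ a : A₀, algebraMap A₀ A a ∈ C' := by
    intro a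
    have ha : a ∈ Algebra.adjoin B s := by rw [hs]; exact Algebra.mem_top
    have h2 : f a ∈ (Algebra.adjoin B s).map f := Subalgebra.mem_map.2 ⟨a, ha, rfl⟩
    rw [AlgHom.map_adjoin] at h2
    have h3 : Algebra.adjoin B (f '' s) ≤ C' := Algebra.adjoin_le (by
      rintro _ ⟨x, hx, rfl⟩
      exact hint x hx)
    exact h3 h2
  let g : A₀ →+* C' := (algebraMap A₀ A).codRestrict C'.toSubring h1
  refine ⟨fun y => ?_⟩
  have hy : IsIntegral A₀ y := Algebra.IsIntegral.isIntegral y
  obtain ⟨p, hpm, hp⟩ := hy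
  have hy' : IsIntegral C' y := by
    refine ⟨p.map g, hpm.map g, ?_⟩
    rw [Polynomial.eval₂_map]
    exact hp
  exact isIntegral_trans (R := B) (A := C') y hy'

section

variable {J : Type u} [SmallCategory J] [IsCofiltered J] (Ds : J ⥤ Scheme.{u})
  (cs : Cone Ds) (hcs : IsLimit cs)

include hcs in
/-- finitely many sections vanishing on the limit vanish on a stage. -/
theorem exists_common_zero [∀ {j k : J} (ψ : j ⟶ k), IsAffineHom (Ds.map ψ)]
    [∀ j, CompactSpace (Ds.obj j)] (j₀ : J) (t : Finset Γ(Ds.obj j₀, ⊤))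
    (ht : ∀ a ∈ t, (cs.π.app j₀).appTop a = 0) :
    ∃ (j : J) (f : j ⟶ j₀), ∀ a ∈ t, (Ds.map f).appTop a = 0 := by
  classical
  induction t using Finset.induction_on with
  | empty => exact ⟨j₀, 𝟙 _, fun a ha => absurd ha (Finset.notMem_empty a)⟩
  | insert b t hb ih =>
    obtain ⟨j, f, hf⟩ := ih (fun a ha => ht a (Finset.mem_insert_of_mem ha))
    obtain ⟨jb, fb, hfb⟩ := exists_appTop_map_eq_zero_of_isLimit Ds cs hcs b
      (ht b (Finset.mem_insert_self b t))
    let m := IsCofiltered.min j jb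
    let u : m ⟶ j₀ := IsCofiltered.minToLeft j jb ≫ f
    let v : m ⟶ j₀ := IsCofiltered.minToRight j jb ≫ fb
    let e : IsCofiltered.eq u v ⟶ m := IsCofiltered.eqHom u v
    have he : e ≫ u = e ≫ v := IsCofiltered.eq_condition u v
    refine ⟨IsCofiltered.eq u v, e ≫ u, fun a ha => ?_⟩
    rcases Finset.mem_insert.1 ha with rfl | ha'
    · rw [he]
      show (Ds.map (e ≫ IsCofiltered.minToRight j jb ≫ fb)).appTop a = 0
      rw [← Category.assoc, Ds.map_comp, Scheme.Hom.comp_appTop]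
      show (Ds.map (e ≫ IsCofiltered.minToRight j jb)).appTop ((Ds.map fb).appTop a) = 0
      rw [hfb, map_zero]
    · show (Ds.map (e ≫ IsCofiltered.minToLeft j jb ≫ f)).appTop a = 0
      rw [← Category.assoc, Ds.map_comp, Scheme.Hom.comp_appTop]
      show (Ds.map (e ≫ IsCofiltered.minToLeft j jb)).appTop ((Ds.map f).appTop a) = 0
      rw [hf a ha', map_zero]

end

section

variable {J : Type u} [SmallCategory J] [IsCofiltered J] (Ds : J ⥤ Scheme.{u}) {V : Scheme.{u}}
  (tV : Ds ⟶ (Functor.const J).obj V) (cs : Cone Ds) (hcs : IsLimit cs)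

include hcs in
/-- **a cofiltered system of affine schemes of finite type over an affine scheme, with finite
transition maps, whose limit is integral over the base, has a stage finite over the base.** -/
theorem exists_isFinite_of_isLimit [IsAffine V] [∀ j, IsAffine (Ds.obj j)]
    [∀ {j k : J} (ψ : j ⟶ k), IsFinite (Ds.map ψ)] [∀ j, LocallyOfFiniteType (tV.app j)]
    (j₀ : J) [IsIntegralHom (cs.π.app j₀ ≫ tV.app j₀)] :
    ∃ (j : J) (f : j ⟶ j₀), IsFinite (tV.app j) := by
  classical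
  haveI : ∀ {j k : J} (ψ : j ⟶ k), IsAffineHom (Ds.map ψ) := fun ψ => inferInstance
  haveI : ∀ j, IsAffine (((Functor.const J).obj V).obj j) := fun _ => (inferInstance : IsAffine V)
  let φ₀ := (tV.app j₀).appTop
  let π₀ := (cs.π.app j₀).appTop
  have hφ₀ : φ₀.hom.FiniteType :=
    (HasRingHomProperty.iff_of_isAffine (P := @LocallyOfFiniteType)).1 inferInstance
  have hint : (φ₀ ≫ π₀).hom.IsIntegral :=
    ((HasAffineProperty.iff_of_isAffine (P := @IsIntegralHom)).1
      (inferInstance : IsIntegralHom (cs.π.app j₀ ≫ tV.app j₀))).2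
  letI alg₀ : Algebra Γ(V, ⊤) Γ(Ds.obj j₀, ⊤) := φ₀.hom.toAlgebra
  obtain ⟨s, hs⟩ : Algebra.FiniteType Γ(V, ⊤) Γ(Ds.obj j₀, ⊤) := hφ₀
  -- the integrality equations
  have hex : ∀ x : Γ(Ds.obj j₀, ⊤), ∃ p : Polynomial Γ(V, ⊤), p.Monic ∧
      π₀ (Polynomial.eval₂ φ₀.hom x p) = 0 := by
    intro x
    obtain ⟨p, hpm, hp⟩ := hint (π₀ x)
    refine ⟨p, hpm, ?_⟩
    have := Polynomial.hom_eval₂ p φ₀.hom π₀.hom x
    rw [← hp]
    exact this
  choose p hpm hp using hex
  obtain ⟨j, f, hf⟩ := exists_common_zero Ds cs hcs j₀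
    (s.image fun x => Polynomial.eval₂ φ₀.hom x (p x)) (by
      intro a ha
      obtain ⟨x, -, rfl⟩ := Finset.mem_image.1 ha
      exact hp x)
  refine ⟨j, f, ?_⟩
  let θ := (Ds.map f).appTop
  have hθ : θ.hom.Finite :=
    ((HasAffineProperty.iff_of_isAffine (P := @IsFinite)).1
      (inferInstance : IsFinite (Ds.map f))).2
  have hnat : (tV.app j).appTop = φ₀ ≫ θ := by
    have h1 : Ds.map f ≫ tV.app j₀ = tV.app j := by
      have := tV.naturality f
      simp only [Functor.const_obj_obj, Functor.const_obj_map, Category.comp_id] at this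
      exact this
    rw [← h1, Scheme.Hom.comp_appTop]
  letI alg₁ : Algebra Γ(Ds.obj j₀, ⊤) Γ(Ds.obj j, ⊤) := θ.hom.toAlgebra
  letI alg₂ : Algebra Γ(V, ⊤) Γ(Ds.obj j, ⊤) := (θ.hom.comp φ₀.hom).toAlgebra
  haveI : IsScalarTower Γ(V, ⊤) Γ(Ds.obj j₀, ⊤) Γ(Ds.obj j, ⊤) :=
    IsScalarTower.of_algebraMap_eq (fun _ => rfl)
  haveI : Module.Finite Γ(Ds.obj j₀, ⊤) Γ(Ds.obj j, ⊤) := hθ
  haveI : Algebra.FiniteType Γ(V, ⊤) Γ(Ds.obj j₀, ⊤) := ⟨s, hs⟩
  haveI hI : Algebra.IsIntegral Γ(V, ⊤) Γ(Ds.obj j, ⊤) := by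
    refine isIntegral_of_generators (s : Set Γ(Ds.obj j₀, ⊤)) hs (fun x hx => ?_)
    refine ⟨p x, hpm x, ?_⟩
    have h1 := Polynomial.hom_eval₂ (p x) φ₀.hom θ.hom x
    have h2 : θ (Polynomial.eval₂ φ₀.hom x (p x)) = 0 :=
      hf _ (Finset.mem_image.2 ⟨x, hx, rfl⟩)
    have h3 : Polynomial.eval₂ (θ.hom.comp φ₀.hom) (θ.hom x) (p x) = 0 := by
      rw [← h1]
      exact h2
    exact h3
  haveI : Algebra.FiniteType Γ(V, ⊤) Γ(Ds.obj j, ⊤) :=
    Algebra.FiniteType.trans (inferInstance : Algebra.FiniteType Γ(V, ⊤) Γ(Ds.obj j₀, ⊤))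
      inferInstance
  have hfin : Module.Finite Γ(V, ⊤) Γ(Ds.obj j, ⊤) := Algebra.IsIntegral.finite
  have hfin' : (tV.app j).appTop.hom.Finite := by
    rw [hnat]
    exact hfin
  exact (HasAffineProperty.iff_of_isAffine (P := @IsFinite)).2 ⟨inferInstance, hfin'⟩

end

end Groth.Agent.Lib.T2H7.FinStage
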