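import Mathlib

/-!
# Noetherian models of surjective étale ring maps (helper7)

An étale algebra `B` over `A` with surjective `Spec B → Spec A` is the base change of an étale
algebra over a finitely generated `ℤ`-subalgebra, surjectively covering the spectrum of a slightly
larger finitely generated subalgebra.
-/

set_option autoImplicit false
set_option linter.unusedSectionVars false
set_option linter.unusedVariables false
set_option linter.style.haveILetI false
universe u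
open TensorProduct

namespace Groth.Agent.Lib.T2H7.StageAffA

variable {A B : Type u} [CommRing A] [CommRing B] [Algebra A B]

/-- the ring map `B₀ → B` for a model. -/
noncomputable def modelHom (A₀ : Subalgebra ℤ A) (B₀ : Type u) [CommRing B₀] [Algebra A₀ B₀]
    (e : B ≃ₐ[A] A ⊗[A₀] B₀) : B₀ →+* B :=
  (e.symm : A ⊗[A₀] B₀ →+* B).comp (Algebra.TensorProduct.includeRight : B₀ →ₐ[A₀] A ⊗[A₀] B₀).toRingHom

theorem modelHom_comp (A₀ : Subalgebra ℤ A) (B₀ : Type u) [CommRing B₀] [Algebra A₀ B₀]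
    (e : B ≃ₐ[A] A ⊗[A₀] B₀) :
    (modelHom A₀ B₀ e).comp (algebraMap A₀ B₀) = (algebraMap A B).comp (algebraMap A₀ A) := by
  ext x
  simp only [modelHom, RingHom.coe_comp, Function.comp_apply, AlgHom.toRingHom_eq_coe,
    RingHom.coe_coe, Algebra.TensorProduct.includeRight_apply]
  have h1 : (1 : A) ⊗ₜ[A₀] (algebraMap A₀ B₀ x) = algebraMap A (A ⊗[A₀] B₀) (algebraMap A₀ A x) := by
    rw [Algebra.algebraMap_eq_smul_one, TensorProduct.tmul_smul, Algebra.TensorProduct.algebraMap_apply,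
      Algebra.algebraMap_eq_smul_one (A := A), TensorProduct.smul_tmul']
    congr 1
  rw [h1]
  exact e.symm.commutes _

theorem exists_model [Algebra.Etale A B]
    (hsurj : Function.Surjective (PrimeSpectrum.comap (algebraMap A B))) :
    ∃ (A₀ A₁ : Subalgebra ℤ A) (hle : A₀ ≤ A₁) (B₀ : Type u) (_ : CommRing B₀) (_ : Algebra A₀ B₀),
      A₁.FG ∧ Algebra.Etale A₀ B₀ ∧ Nonempty (B ≃ₐ[A] A ⊗[A₀] B₀) ∧
      ∀ 𝔭 : PrimeSpectrum A₁, PrimeSpectrum.comap (Subalgebra.inclusion hle).toRingHom 𝔭 ∈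
        Set.range (PrimeSpectrum.comap (algebraMap A₀ B₀)) := by
  classical
  obtain ⟨A₀, B₀, _, _, hfg, het, ⟨e⟩⟩ := Algebra.Etale.exists_subalgebra_fg ℤ A B
  -- the open image
  have hopen : IsOpenMap (PrimeSpectrum.comap (algebraMap A₀ B₀)) :=
    PrimeSpectrum.isOpenMap_comap_of_hasGoingDown_of_finitePresentation
  set O : Set (PrimeSpectrum A₀) := Set.range (PrimeSpectrum.comap (algebraMap A₀ B₀)) with hO
  have hOopen : IsOpen O := hopen.isOpen_range
  set I : Ideal A₀ := PrimeSpectrum.vanishingIdeal Oᶜ with hI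
  have hzl : PrimeSpectrum.zeroLocus (I : Set A₀) = Oᶜ := by
    rw [hI, PrimeSpectrum.zeroLocus_vanishingIdeal_eq_closure, hOopen.isClosed_compl.closure_eq]
  -- contraction of primes of `A` lies in `O`
  have hmem : ∀ 𝔭 : PrimeSpectrum A, PrimeSpectrum.comap (algebraMap A₀ A) 𝔭 ∈ O := by
    intro 𝔭
    obtain ⟨𝔮, rfl⟩ := hsurj 𝔭
    refine ⟨PrimeSpectrum.comap (modelHom A₀ B₀ e) 𝔮, ?_⟩
    rw [← PrimeSpectrum.comap_comp_apply, ← PrimeSpectrum.comap_comp_apply, modelHom_comp]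
  have htop : I.map (algebraMap A₀ A) = ⊤ := by
    by_contra hne
    obtain ⟨M, hM, hIM⟩ := Ideal.exists_le_maximal _ hne
    have h1 := hmem ⟨M, hM.isPrime⟩
    have h2 : PrimeSpectrum.comap (algebraMap A₀ A) ⟨M, hM.isPrime⟩ ∈
        PrimeSpectrum.zeroLocus (I : Set A₀) := by
      rw [PrimeSpectrum.mem_zeroLocus]
      intro x hx
      exact hIM (Ideal.mem_map_of_mem _ hx)
    rw [hzl] at h2
    exact h2 h1
  have hone : (1 : A) ∈ Ideal.span ((algebraMap A₀ A) '' (I : Set A₀)) := by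
    have := (Ideal.eq_top_iff_one _).mp htop
    rwa [Ideal.map] at this
  obtain ⟨f, t, hts, -, hsum⟩ := Submodule.mem_span_iff_exists_finset_subset.mp hone
  let A₁ : Subalgebra ℤ A := A₀ ⊔ Algebra.adjoin ℤ ((f '' (t : Set A)) : Set A)
  have hle : A₀ ≤ A₁ := le_sup_left
  have hfmem : ∀ a ∈ t, f a ∈ A₁ := fun a ha =>
    (le_sup_right : Algebra.adjoin ℤ ((f '' (t : Set A)) : Set A) ≤ A₁)
      (Algebra.subset_adjoin ⟨a, ha, rfl⟩)
  have hA₁fg : A₁.FG := by
    refine hfg.sup ?_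
    have : ((f '' (t : Set A)) : Set A) = ((t.image f : Finset A) : Set A) := by simp
    rw [this]
    exact Subalgebra.fg_adjoin_finset _
  refine ⟨A₀, A₁, hle, B₀, inferInstance, inferInstance, hA₁fg, het, ⟨e⟩, fun 𝔭 => ?_⟩
  by_contra hnot
  have h2 : PrimeSpectrum.comap (Subalgebra.inclusion hle).toRingHom 𝔭 ∈
      PrimeSpectrum.zeroLocus (I : Set A₀) := by
    rw [hzl]; exact hnot
  rw [PrimeSpectrum.mem_zeroLocus] at h2
  -- `1 ∈ 𝔭`
  have hmemA : ∀ a ∈ t, ∃ ha : a ∈ A₁, (⟨a, ha⟩ : A₁) ∈ 𝔭.asIdeal := by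
    intro a ha
    obtain ⟨i, hi, rfl⟩ := hts ha
    refine ⟨hle i.2, ?_⟩
    have := h2 hi
    exact this
  have h1 : (1 : A₁) ∈ 𝔭.asIdeal := by
    have hs : (1 : A₁) = ∑ a ∈ t.attach, (⟨f a.1, hfmem a.1 a.2⟩ : A₁) *
        ⟨a.1, (hmemA a.1 a.2).choose⟩ := by
      apply Subtype.ext
      rw [AddSubmonoidClass.coe_finsetSum]
      simp only [MulMemClass.coe_mul, OneMemClass.coe_one]
      rw [Finset.sum_attach t (fun a => f a * a)]
      simpa [smul_eq_mul] using hsum.symm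
    rw [hs]
    exact Ideal.sum_mem _ fun a _ => Ideal.mul_mem_left _ _ (hmemA a.1 a.2).choose_spec
  exact 𝔭.isPrime.ne_top ((Ideal.eq_top_iff_one _).mpr h1)

end Groth.Agent.Lib.T2H7.StageAffA
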