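import Mathlib
import Groth.Agent.Lib.T2H7StageAffA

/-!
# Noetherian models of surjective étale covers of affine schemes (helper7)
-/

set_option autoImplicit false
set_option linter.unusedSectionVars false
set_option linter.unusedVariables false
set_option linter.style.haveILetI false
universe u
open TensorProduct CategoryTheory CategoryTheory.Limits AlgebraicGeometry

namespace Groth.Agent.Lib.T2H7.StageAffB

/-- any morphism from the spectrum of a finitely generated ring to `Spec ℤ` is locally of finite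
presentation. -/
theorem lfp_of_fg {A : Type u} [CommRing A] (A₁ : Subalgebra ℤ A) (h : A₁.FG)
    (z : Spec (CommRingCat.of A₁) ⟶ Spec (CommRingCat.of (ULift.{u} ℤ))) :
    LocallyOfFinitePresentation z := by
  obtain ⟨ψ, rfl⟩ := Spec.map_surjective z
  rw [HasRingHomProperty.Spec_iff (P := @LocallyOfFinitePresentation)]
  have hft : Algebra.FiniteType ℤ A₁ := (Subalgebra.fg_iff_finiteType A₁).mp h
  have h1 : (algebraMap ℤ A₁).FinitePresentation :=
    RingHom.FinitePresentation.of_finiteType.mp (RingHom.finiteType_algebraMap.mpr hft)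
  have h2 : ψ.hom = (algebraMap ℤ A₁).comp (ULift.ringEquiv : ULift.{u} ℤ ≃+* ℤ).toRingHom := by
    have : ψ.hom.comp (ULift.ringEquiv : ULift.{u} ℤ ≃+* ℤ).symm.toRingHom = algebraMap ℤ A₁ :=
      Subsingleton.elim _ _
    rw [← this]
    refine RingHom.ext fun x => ?_
    show ψ.hom x = ψ.hom ((ULift.ringEquiv : ULift.{u} ℤ ≃+* ℤ).symm
      ((ULift.ringEquiv : ULift.{u} ℤ ≃+* ℤ) x))
    rw [RingEquiv.symm_apply_apply]
  rw [h2]
  refine h1.comp (RingHom.FinitePresentation.of_surjective _ (ULift.ringEquiv).surjective ?_)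
  have : RingHom.ker (ULift.ringEquiv : ULift.{u} ℤ ≃+* ℤ).toRingHom = ⊥ :=
    (RingHom.injective_iff_ker_eq_bot _).mp (ULift.ringEquiv : ULift.{u} ℤ ≃+* ℤ).injective
  rw [this]
  exact Submodule.fg_bot

end Groth.Agent.Lib.T2H7.StageAffB

namespace Groth.Agent.Lib.T2H7.StageAffB

open Groth.Agent.Lib.T2H7.StageAffA

/-- **Noetherian model of a surjective étale cover of affine schemes**: the cover is the base
change of a surjective étale cover of affine schemes, whose target is of finite presentation over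
`Spec ℤ`. -/
theorem exists_etale_model {T U : Scheme.{u}} [IsAffine T] [IsAffine U] (f : U ⟶ T) [Etale f]
    [Surjective f] :
    ∃ (P Q : Scheme.{u}) (q : Q ⟶ P) (a : T ⟶ P) (b : U ⟶ Q), IsAffine P ∧ IsAffine Q ∧
      Etale q ∧ Surjective q ∧
      (∀ z : P ⟶ Spec (CommRingCat.of (ULift.{u} ℤ)), LocallyOfFinitePresentation z) ∧
      IsPullback b f q a := by
  let A : CommRingCat.{u} := Γ(T, ⊤)
  let B : CommRingCat.{u} := Γ(U, ⊤)
  let φ : A ⟶ B := f.appTop
  letI alg : Algebra A B := φ.hom.toAlgebra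
  have hnat : f ≫ T.isoSpec.hom = U.isoSpec.hom ≫ Spec.map φ := (Scheme.isoSpec_hom_naturality f).symm
  have hφet : φ.hom.Etale := (HasRingHomProperty.iff_of_isAffine (P := @Etale)).mp inferInstance
  haveI : Algebra.Etale A B := hφet
  have hSpecφ : Spec.map φ = U.isoSpec.inv ≫ f ≫ T.isoSpec.hom := by
    rw [hnat, Iso.inv_hom_id_assoc]
  haveI : Surjective (Spec.map φ) := by
    rw [hSpecφ]; infer_instance
  have hsurj : Function.Surjective (PrimeSpectrum.comap (algebraMap A B)) := by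
    intro 𝔭
    obtain ⟨𝔮, h𝔮⟩ := (Spec.map φ).surjective 𝔭
    exact ⟨𝔮, h𝔮⟩
  obtain ⟨A₀, A₁, hle, B₀, _, _, hfg, het, ⟨e⟩, hrange⟩ := exists_model (A := A) (B := B) hsurj
  -- the pushout square of rings
  have hpo0 := CommRingCat.isPushout_tensorProduct A₀ A B₀
  let ρ : B₀ →+* B := modelHom A₀ B₀ e
  have hpo : IsPushout (CommRingCat.ofHom (algebraMap A₀ A)) (CommRingCat.ofHom (algebraMap A₀ B₀))
      φ (CommRingCat.ofHom ρ) := by
    refine IsPushout.of_iso hpo0 (Iso.refl _) (Iso.refl _) (Iso.refl _)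
      (e.symm.toRingEquiv.toCommRingCatIso) ?_ ?_ ?_ ?_
    · simp
    · simp
    · ext x
      simp only [Iso.refl_hom, Category.id_comp]
      show e.symm ((x : A) ⊗ₜ[A₀] (1 : B₀)) = algebraMap A B x
      have : (x : A) ⊗ₜ[A₀] (1 : B₀) = algebraMap A (A ⊗[A₀] B₀) x := by
        rw [Algebra.TensorProduct.algebraMap_apply]; rfl
      rw [this]
      exact e.symm.commutes x
    · ext x
      rfl
  have hpb := isPullback_SpecMap_of_isPushout _ _ _ _ hpo
  -- the schemes
  let q₀ : Spec (CommRingCat.of B₀) ⟶ Spec (CommRingCat.of A₀) :=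
    Spec.map (CommRingCat.ofHom (algebraMap A₀ B₀))
  let r : Spec (CommRingCat.of A₁) ⟶ Spec (CommRingCat.of A₀) :=
    Spec.map (CommRingCat.ofHom (Subalgebra.inclusion hle).toRingHom)
  let a₁ : Spec A ⟶ Spec (CommRingCat.of A₁) := Spec.map (CommRingCat.ofHom A₁.val.toRingHom)
  have ha₁r : a₁ ≫ r = Spec.map (CommRingCat.ofHom (algebraMap A₀ A)) := by
    rw [← Spec.map_comp]
    rfl
  haveI : Etale q₀ := by
    rw [HasRingHomProperty.Spec_iff (P := @Etale)]
    exact RingHom.etale_algebraMap.mpr het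
  let b' : Spec B ⟶ pullback q₀ r := pullback.lift (Spec.map (CommRingCat.ofHom ρ))
    (Spec.map φ ≫ a₁) (by rw [Category.assoc, ha₁r]; exact hpb.w.symm)
  have hpb' : IsPullback b' (Spec.map φ) (pullback.snd q₀ r) a₁ := by
    refine IsPullback.of_right ?_ (pullback.lift_snd _ _ _) (IsPullback.of_hasPullback q₀ r)
    rw [pullback.lift_fst, ha₁r]
    exact hpb.flip
  refine ⟨Spec (CommRingCat.of A₁), pullback q₀ r, pullback.snd q₀ r, T.isoSpec.hom ≫ a₁,
    U.isoSpec.hom ≫ b', inferInstance, inferInstance, inferInstance, ?_, lfp_of_fg A₁ hfg, ?_⟩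
  · refine ⟨fun x => ?_⟩
    obtain ⟨y, hy⟩ := hrange x
    obtain ⟨z, -, hz⟩ := Scheme.Pullback.exists_preimage_pullback (f := q₀) (g := r) y x hy
    exact ⟨z, hz⟩
  · have h1 : IsPullback U.isoSpec.hom f (Spec.map φ) T.isoSpec.hom :=
      IsPullback.of_horiz_isIso ⟨hnat.symm⟩
    exact h1.paste_horiz hpb'

end Groth.Agent.Lib.T2H7.StageAffB
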