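import Mathlib
import Groth.Agent.Lib.T2H7EvClosed
import Groth.Agent.Lib.T2H7LimDataRep
import Groth.Agent.Lib.T2H1FieldQuotD
import Groth.Agent.S9927

/-!
# Morphisms from a limit of algebraic spaces to a finitely presented scheme descend to a stage
(helper7)
-/

set_option autoImplicit false
set_option linter.unusedSectionVars false
set_option linter.unusedVariables false
set_option linter.style.haveILetI false
universe u
open CategoryTheory CategoryTheory.Limits AlgebraicGeometry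
open AlgSp

namespace Groth.Agent.Lib.T2H7.StageAffC

open Groth.Agent.Lib.T2H7.EvClosed

variable {S : Scheme.{u}}

/-- descent of a map along an epimorphic chart with a given kernel pair. -/
theorem exists_desc_of_kernelPair {X F : AlgSp.Sp S} {U R : Over S}
    (p : (AlgSp.yon S).obj U ⟶ X) [Epi p] (s t : R ⟶ U)
    (sq : IsPullback ((AlgSp.yon S).map s) ((AlgSp.yon S).map t) p p)
    (g : (AlgSp.yon S).obj U ⟶ F) (hg : (AlgSp.yon S).map s ≫ g = (AlgSp.yon S).map t ≫ g) :
    ∃ m : X ⟶ F, p ≫ m = g := by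
  have hreg : IsRegularEpi p := IsRegularEpiCategory.regularEpiOfEpi p
  have heff : EffectiveEpi p := (isRegularEpi_iff_effectiveEpi p).1 hreg
  have hco : ∀ {Z : AlgSp.Sp S} (g₁ g₂ : Z ⟶ (AlgSp.yon S).obj U), g₁ ≫ p = g₂ ≫ p →
      g₁ ≫ g = g₂ ≫ g := by
    intro Z g₁ g₂ h
    have h1 : sq.lift g₁ g₂ h ≫ (AlgSp.yon S).map s = g₁ := sq.lift_fst _ _ _
    have h2 : sq.lift g₁ g₂ h ≫ (AlgSp.yon S).map t = g₂ := sq.lift_snd _ _ _
    calc g₁ ≫ g = (sq.lift g₁ g₂ h ≫ (AlgSp.yon S).map s) ≫ g := by rw [h1]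
      _ = (sq.lift g₁ g₂ h ≫ (AlgSp.yon S).map t) ≫ g := by
        rw [Category.assoc, Category.assoc, hg]
      _ = g₂ ≫ g := by rw [h2]
  exact ⟨EffectiveEpi.desc p g hco, EffectiveEpi.fac p g hco⟩

/-- affine transition maps are representable affine. -/
theorem repWith_of_isAffineMor {F G : AlgSp.Sp S} (f : F ⟶ G) (hf : AlgSp.IsAffineMor f) :
    AlgSp.RepWith @IsAffineHom f := by
  refine Groth.Agent.Lib.Helper12.ZarGlue.repWith_of_affine @IsAffineHom _ (fun Z hZ g => ?_)
  obtain ⟨W, ι, fst, sq, hW⟩ := hf hZ g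
  haveI := hZ
  haveI := hW
  exact ⟨W, ι, fst, sq, inferInstance⟩


section

variable {I : Type u} [SmallCategory I] [IsCofiltered I] {D : I ⥤ AlgSp.Sp S} {c : Cone D}
  {i₁ : I}

attribute [local instance] IsCofiltered.isConnected in
/-- **the kernel pair system of a chart of a limit**: the kernel pairs of the charts of the stages
form a system of quasi-compact schemes with affine transition maps whose limit maps to the kernel
pair of the chart of the limit. -/
theorem exists_kerPair_system [QuasiSeparatedSpace S]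
    (hDr : ∀ (i j : I) (φ : i ⟶ j), AlgSp.RepWith @IsAffineHom (D.map φ)) (hc : IsLimit c)
    (hqs₁ : AlgSp.IsQuasiSeparatedSp (D.obj i₁)) (cd : ChartData D c i₁) :
    ∃ (E' : Over i₁ ⥤ Over S) (s t : E' ⟶ cd.E) (cW' : Cone E') (σ τ : cW'.pt ⟶ cd.cW.pt),
      (∀ j, IsPullback ((AlgSp.yon S).map (s.app j)) ((AlgSp.yon S).map (t.app j))
        (cd.pj j) (cd.pj j)) ∧
      Nonempty (IsLimit ((Over.forget S).mapCone cW')) ∧
      (∀ j, cW'.π.app j ≫ s.app j = σ ≫ cd.cW.π.app j) ∧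
      (∀ j, cW'.π.app j ≫ t.app j = τ ≫ cd.cW.π.app j) ∧
      (AlgSp.yon S).map σ ≫ cd.fstW = (AlgSp.yon S).map τ ≫ cd.fstW ∧
      (∀ j, CompactSpace (E'.obj j).left) ∧
      (∀ {j k : Over i₁} (ψ : j ⟶ k), IsAffineHom (E'.map ψ).left) := by
  haveI := cd.hU₁
  obtain ⟨R₁, t₁, s₁', sqR'⟩ := cd.hu₁e.1 cd.u₁
  obtain ⟨s₁, rfl⟩ := (AlgSp.yon S).map_surjective s₁'
  have sqR : IsPullback ((AlgSp.yon S).map s₁) ((AlgSp.yon S).map t₁) cd.u₁ cd.u₁ := sqR'
  haveI : QuasiCompact cd.U₁.hom := inferInstance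
  haveI hR₁c : CompactSpace R₁.left :=
    Groth.Agent.Lib.T2H1.FieldQuot.compactSpace_of_isQuasiSeparatedSp hqs₁ cd.u₁ s₁ t₁ sqR
  obtain ⟨E', ι', p', cW', fstW', sq', haff', ⟨hcW'⟩, sqW', hfst', hE1', hE2'⟩ :=
    Groth.Agent.Lib.T2H7.LimDataRep.exists_limit_data_rep D hDr c hc i₁
      ((AlgSp.yon S).map s₁ ≫ cd.u₁)
  -- uniqueness of maps into the charts
  have huniq : ∀ (k : Over i₁) {T' : Over S} (a a' : T' ⟶ cd.E.obj k),
      (AlgSp.yon S).map a ≫ cd.pj k = (AlgSp.yon S).map a' ≫ cd.pj k →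
      a ≫ cd.ιj k = a' ≫ cd.ιj k → a = a' := by
    intro k T' a a' h1 h2
    apply (AlgSp.yon S).map_injective
    apply (cd.sqj k).hom_ext h1
    rw [← Functor.map_comp, ← Functor.map_comp, h2]
  have hex : ∀ (k : Over i₁) {T' : Over S} (b : (AlgSp.yon S).obj T' ⟶ D.obj k.left)
      (z : T' ⟶ cd.U₁), b ≫ D.map k.hom = (AlgSp.yon S).map z ≫ cd.u₁ →
      ∃ a : T' ⟶ cd.E.obj k, (AlgSp.yon S).map a ≫ cd.pj k = b ∧ a ≫ cd.ιj k = z := by
    intro k T' b z h
    refine ⟨(AlgSp.yon S).preimage ((cd.sqj k).lift b ((AlgSp.yon S).map z) h), ?_, ?_⟩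
    · rw [Functor.map_preimage, IsPullback.lift_fst]
    · apply (AlgSp.yon S).map_injective
      rw [Functor.map_comp, Functor.map_preimage, IsPullback.lift_snd]
  have hs : ∀ j : Over i₁, ∃ a : E'.obj j ⟶ cd.E.obj j,
      (AlgSp.yon S).map a ≫ cd.pj j = p' j ∧ a ≫ cd.ιj j = ι' j ≫ s₁ := fun j =>
    hex j (p' j) (ι' j ≫ s₁) (by rw [(sq' j).w, Functor.map_comp, Category.assoc])
  have ht : ∀ j : Over i₁, ∃ a : E'.obj j ⟶ cd.E.obj j,
      (AlgSp.yon S).map a ≫ cd.pj j = p' j ∧ a ≫ cd.ιj j = ι' j ≫ t₁ := fun j =>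
    hex j (p' j) (ι' j ≫ t₁) (by
      rw [(sq' j).w, Functor.map_comp, Category.assoc, sqR.w])
  choose sj hsj1 hsj2 using hs
  choose tj htj1 htj2 using ht
  let s : E' ⟶ cd.E :=
    { app := sj
      naturality := fun j k ψ => by
        apply huniq k
        · rw [Functor.map_comp, Category.assoc, hsj1, hE2' ψ, Functor.map_comp, Category.assoc,
            cd.hE2 ψ, ← Category.assoc, hsj1]
        · rw [Category.assoc, hsj2, ← Category.assoc, hE1' ψ, Category.assoc, cd.hE1 ψ, hsj2] }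
  let t : E' ⟶ cd.E :=
    { app := tj
      naturality := fun j k ψ => by
        apply huniq k
        · rw [Functor.map_comp, Category.assoc, htj1, hE2' ψ, Functor.map_comp, Category.assoc,
            cd.hE2 ψ, ← Category.assoc, htj1]
        · rw [Category.assoc, htj2, ← Category.assoc, hE1' ψ, Category.assoc, cd.hE1 ψ, htj2] }
  -- the limit maps
  have hlim : IsLimit cd.cW := isLimitOfReflects (Over.forget S) cd.hcW
  let σ : cW'.pt ⟶ cd.cW.pt := hlim.lift ⟨cW'.pt, cW'.π ≫ s⟩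
  let τ : cW'.pt ⟶ cd.cW.pt := hlim.lift ⟨cW'.pt, cW'.π ≫ t⟩
  have hσ : ∀ j, cW'.π.app j ≫ s.app j = σ ≫ cd.cW.π.app j := fun j =>
    (hlim.fac ⟨cW'.pt, cW'.π ≫ s⟩ j).symm
  have hτ : ∀ j, cW'.π.app j ≫ t.app j = τ ≫ cd.cW.π.app j := fun j =>
    (hlim.fac ⟨cW'.pt, cW'.π ≫ t⟩ j).symm
  -- the limit over `Over i₁`
  let c' : Cone (Over.forget i₁ ⋙ D) := c.whisker (Over.forget i₁)
  have hc' : IsLimit c' := (Functor.Initial.isLimitWhiskerEquiv (Over.forget i₁) c).symm hc
  have hσf : (AlgSp.yon S).map σ ≫ cd.fstW = fstW' := by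
    apply hc'.hom_ext
    intro j
    show ((AlgSp.yon S).map σ ≫ cd.fstW) ≫ c.π.app j.left = fstW' ≫ c.π.app j.left
    rw [Category.assoc, cd.hfst j, ← Category.assoc, ← Functor.map_comp, ← hσ j, hfst' j,
      Functor.map_comp, Category.assoc]
    congr 1
    exact hsj1 j
  have hτf : (AlgSp.yon S).map τ ≫ cd.fstW = fstW' := by
    apply hc'.hom_ext
    intro j
    show ((AlgSp.yon S).map τ ≫ cd.fstW) ≫ c.π.app j.left = fstW' ≫ c.π.app j.left
    rw [Category.assoc, cd.hfst j, ← Category.assoc, ← Functor.map_comp, ← hτ j, hfst' j,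
      Functor.map_comp, Category.assoc]
    congr 1
    exact htj1 j
  refine ⟨E', s, t, cW', σ, τ, fun j => ?_, ⟨hcW'⟩, hσ, hτ, hσf.trans hτf.symm, fun j => ?_,
    fun {j k} ψ => ?_⟩
  · -- the kernel pair
    have hleft : IsPullback ((AlgSp.yon S).map (sj j)) ((AlgSp.yon S).map (ι' j))
        ((AlgSp.yon S).map (cd.ιj j)) ((AlgSp.yon S).map s₁) := by
      refine IsPullback.of_right ?_ ?_ (cd.sqj j)
      · rw [hsj1]
        exact sq' j
      · rw [← Functor.map_comp, ← Functor.map_comp, hsj2]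
    have hbig : IsPullback ((AlgSp.yon S).map (ι' j) ≫ (AlgSp.yon S).map t₁)
        ((AlgSp.yon S).map (sj j)) cd.u₁ ((AlgSp.yon S).map (cd.ιj j) ≫ cd.u₁) :=
      hleft.flip.paste_horiz sqR.flip
    have hbig' : IsPullback ((AlgSp.yon S).map (tj j) ≫ (AlgSp.yon S).map (cd.ιj j))
        ((AlgSp.yon S).map (sj j)) cd.u₁ (cd.pj j ≫ D.map j.hom) := by
      rw [← Functor.map_comp, htj2, Functor.map_comp, (cd.sqj j).w]
      exact hbig
    exact (IsPullback.of_right hbig' ((htj1 j).trans (hsj1 j).symm) (cd.sqj j).flip).flip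
  · haveI : IsAffineHom (ι' j).left := haff' j
    haveI : QuasiCompact (ι' j).left := inferInstance
    exact QuasiCompact.compactSpace_of_compactSpace (ι' j).left
  · haveI : IsAffineHom (ι' k).left := haff' k
    haveI : IsAffineHom ((E'.map ψ).left ≫ (ι' k).left) := by
      rw [← Over.comp_left, hE1' ψ]
      exact haff' j
    exact IsAffineHom.of_comp (E'.map ψ).left (ι' k).left


variable (D c) in
/-- **morphisms from a limit of quasi-compact and quasi-separated algebraic spaces to a scheme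
locally of finite presentation over an affine base descend to a stage.** -/
theorem exists_factor_stage [QuasiSeparatedSpace S] (hD : ∀ i, AlgSp.IsAlgSpace (D.obj i))
    (hDa : ∀ (i j : I) (φ : i ⟶ j), AlgSp.IsAffineMor (D.map φ)) (hc : IsLimit c)
    (hqc : ∀ i, AlgSp.IsQuasiCompactSp (D.obj i)) (hqs : ∀ i, AlgSp.IsQuasiSeparatedSp (D.obj i))
    {Y W : Over S} (f : W ⟶ Y) [LocallyOfFinitePresentation f.left]
    (t : D ⟶ (Functor.const I).obj ((AlgSp.yon S).obj Y))
    (m : c.pt ⟶ (AlgSp.yon S).obj W)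
    (hm : ∀ i, m ≫ (AlgSp.yon S).map f = c.π.app i ≫ t.app i) :
    ∃ (j : I) (mj : D.obj j ⟶ (AlgSp.yon S).obj W),
      c.π.app j ≫ mj = m ∧ mj ≫ (AlgSp.yon S).map f = t.app j := by
  have hDr : ∀ (i j : I) (φ : i ⟶ j), AlgSp.RepWith @IsAffineHom (D.map φ) := fun i j φ =>
    repWith_of_isAffineMor _ (hDa i j φ)
  obtain ⟨i₁⟩ := IsCofiltered.nonempty (C := I)
  obtain ⟨cd⟩ := nonempty_chartData D hD hDa c hc i₁ (hqc i₁)
  obtain ⟨E', s, t', cW', σ, τ, hker, ⟨hcW'⟩, hσ, hτ, hστ, hcomp, haffE'⟩ :=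
    exists_kerPair_system hDr hc (hqs i₁) cd
  have tnat : ∀ {i j : I} (φ : i ⟶ j), D.map φ ≫ t.app j = t.app i := fun φ =>
    (t.naturality φ).trans (Category.comp_id _)
  -- the structure maps of the charts to `Y`
  let τY : ∀ j : Over i₁, cd.E.obj j ⟶ Y := fun j =>
    (AlgSp.yon S).preimage (cd.pj j ≫ t.app j.left)
  have hτY : ∀ j, (AlgSp.yon S).map (τY j) = cd.pj j ≫ t.app j.left := fun j =>
    Functor.map_preimage _ _
  have hτYnat : ∀ {j k : Over i₁} (ψ : j ⟶ k), cd.E.map ψ ≫ τY k = τY j := by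
    intro j k ψ
    apply (AlgSp.yon S).map_injective
    rw [Functor.map_comp, hτY, hτY, ← Category.assoc, cd.hE2 ψ, Category.assoc, tnat]
  let tY : (cd.E ⋙ Over.forget S) ⟶ (Functor.const (Over i₁)).obj Y.left :=
    { app := fun j => (τY j).left
      naturality := fun j k ψ => by
        simp only [Functor.comp_obj, Over.forget_obj, Functor.const_obj_obj, Functor.comp_map,
          Over.forget_map, Functor.const_obj_map, Category.comp_id]
        rw [← Over.comp_left, hτYnat] }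
  let μ : cd.cW.pt ⟶ W := (AlgSp.yon S).preimage (cd.fstW ≫ m)
  have hμ : (AlgSp.yon S).map μ = cd.fstW ≫ m := Functor.map_preimage _ _
  have hμf : ∀ j, μ ≫ f = cd.cW.π.app j ≫ τY j := by
    intro j
    apply (AlgSp.yon S).map_injective
    rw [Functor.map_comp, Functor.map_comp, hμ, hτY, Category.assoc, hm j.left,
      ← Category.assoc, cd.hfst j, Category.assoc]
  haveI : ∀ j : Over i₁, IsAffine ((cd.E ⋙ Over.forget S).obj j) := fun j => cd.haffj j
  haveI : ∀ {j k : Over i₁} (ψ : j ⟶ k), IsAffineHom ((cd.E ⋙ Over.forget S).map ψ) :=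
    fun {j k} ψ => by
      haveI : IsAffine (cd.E.obj j).left := cd.haffj j
      haveI : IsAffine (cd.E.obj k).left := cd.haffj k
      exact (inferInstance : IsAffineHom (cd.E.map ψ).left)
  haveI : ∀ j : Over i₁, CompactSpace ((cd.E ⋙ Over.forget S).obj j) := fun j => by
    haveI : IsAffine (cd.E.obj j).left := cd.haffj j
    exact (inferInstance : CompactSpace (cd.E.obj j).left)
  haveI : ∀ j : Over i₁, QuasiSeparatedSpace ((cd.E ⋙ Over.forget S).obj j) := fun j => by
    haveI : IsAffine (cd.E.obj j).left := cd.haffj j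
    exact (inferInstance : QuasiSeparatedSpace (cd.E.obj j).left)
  obtain ⟨j₂, g, hg1, hg2⟩ := Scheme.exists_π_app_comp_eq_of_locallyOfFinitePresentation
    (cd.E ⋙ Over.forget S) tY f.left ((Over.forget S).mapCone cd.cW) cd.hcW μ.left (by
      ext j
      have := congrArg (fun m => m.left) (hμf j)
      exact this.symm)
  let g₀ : (cd.E.obj j₂).left ⟶ W.left := g
  have hg1' : (cd.cW.π.app j₂).left ≫ g₀ = μ.left := hg1
  have hg2' : g₀ ≫ f.left = (τY j₂).left := hg2
  let g' : cd.E.obj j₂ ⟶ W := Over.homMk g₀ (by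
    rw [← Over.w f, ← Category.assoc, hg2', Over.w])
  have hg'f : g' ≫ f = τY j₂ := by
    ext
    exact hg2'
  have hπg' : cd.cW.π.app j₂ ≫ g' = μ := by
    ext
    exact hg1'
  -- uniqueness on the kernel pair system
  haveI : ∀ j : Over i₁, CompactSpace ((E' ⋙ Over.forget S).obj j) := fun j => hcomp j
  haveI : ∀ {j k : Over i₁} (ψ : j ⟶ k), IsAffineHom ((E' ⋙ Over.forget S).map ψ) :=
    fun {j k} ψ => haffE' ψ
  have hst : ∀ j, s.app j ≫ τY j = t'.app j ≫ τY j := by
    intro j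
    apply (AlgSp.yon S).map_injective
    rw [Functor.map_comp, Functor.map_comp, hτY, ← Category.assoc, ← Category.assoc, (hker j).w]
  let tE' : (E' ⋙ Over.forget S) ⟶ (Functor.const (Over i₁)).obj Y.left :=
    { app := fun j => (s.app j ≫ τY j).left
      naturality := fun j k ψ => by
        simp only [Functor.comp_obj, Over.forget_obj, Functor.const_obj_obj, Functor.comp_map,
          Over.forget_map, Functor.const_obj_map, Category.comp_id]
        rw [← Over.comp_left, ← Category.assoc, s.naturality ψ, Category.assoc, hτYnat] }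
  have hσμ : σ ≫ μ = τ ≫ μ := by
    apply (AlgSp.yon S).map_injective
    rw [Functor.map_comp, Functor.map_comp, hμ, ← Category.assoc, ← Category.assoc, hστ]
  obtain ⟨k, hik, hk⟩ := Scheme.exists_hom_comp_eq_comp_of_locallyOfFiniteType
    (E' ⋙ Over.forget S) tE' f.left ((Over.forget S).mapCone cW') hcW' (i := j₂)
    ((s.app j₂ ≫ g').left) ((t'.app j₂ ≫ g').left)
    (by
      show (s.app j₂ ≫ τY j₂).left = (s.app j₂ ≫ g').left ≫ f.left
      rw [← Over.comp_left, Category.assoc, hg'f])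
    (by
      show (s.app j₂ ≫ τY j₂).left = (t'.app j₂ ≫ g').left ≫ f.left
      rw [← Over.comp_left, Category.assoc, hg'f, hst])
    (by
      show (cW'.π.app j₂).left ≫ (s.app j₂ ≫ g').left = (cW'.π.app j₂).left ≫ (t'.app j₂ ≫ g').left
      rw [← Over.comp_left, ← Over.comp_left, ← Category.assoc, ← Category.assoc, hσ, hτ,
        Category.assoc, Category.assoc, hπg', hσμ])
  have hk' : E'.map hik ≫ s.app j₂ ≫ g' = E'.map hik ≫ t'.app j₂ ≫ g' := by
    ext
    exact hk
  let gk : cd.E.obj k ⟶ W := cd.E.map hik ≫ g'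
  have hgk : s.app k ≫ gk = t'.app k ≫ gk := by
    show s.app k ≫ cd.E.map hik ≫ g' = t'.app k ≫ cd.E.map hik ≫ g'
    rw [← Category.assoc, ← s.naturality hik, ← Category.assoc (t'.app k), ← t'.naturality hik,
      Category.assoc, Category.assoc]
    exact hk'
  haveI hepi : Epi (cd.pj k) :=
    Groth.Agent.S9927.epi_of_repWith _ (cd.repWith_etale_pj k) (cd.repWith_surjective_pj k)
  obtain ⟨mk, hmk⟩ := exists_desc_of_kernelPair (cd.pj k) (s.app k) (t'.app k) (hker k)
    ((AlgSp.yon S).map gk) (by rw [← Functor.map_comp, ← Functor.map_comp, hgk])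
  refine ⟨k.left, mk, ?_, ?_⟩
  · haveI : Epi cd.fstW :=
      Groth.Agent.S9927.epi_of_repWith _ cd.repWith_etale_fstW cd.repWith_surjective_fstW
    rw [← cancel_epi cd.fstW, ← Category.assoc, cd.hfst k, Category.assoc, hmk, ← hμ,
      ← Functor.map_comp]
    congr 1
    show cd.cW.π.app k ≫ cd.E.map hik ≫ g' = μ
    rw [← Category.assoc, cd.cW.w hik, hπg']
  · rw [← cancel_epi (cd.pj k), ← Category.assoc, hmk, ← Functor.map_comp, ← hτY]
    congr 1
    show (cd.E.map hik ≫ g') ≫ f = τY k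
    rw [Category.assoc, hg'f, hτYnat]

end

end Groth.Agent.Lib.T2H7.StageAffC
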