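import Mathlib
import Groth.Agent.Lib.T2H7StageAffB
import Groth.Agent.Lib.T2H7StageAffC
import Groth.Agent.Lib.T2H7LimDescB
import Groth.Agent.Lib.T2H1AffDesc3
import Groth.Agent.Lib.T2H1Gpd2
import Groth.Agent.Lib.T2H7AffQcqs
import Groth.Agent.Lib.T2H7QcOpen
import Groth.Agent.Lib.T2H7LimDescA
import Groth.Agent.Lib.Helper15QcRep
import Groth.Agent.S10021
import Groth.Agent.S9959
import Groth.Agent.S9948
import Groth.Agent.S9874

/-!
# If a limit of algebraic spaces over an affine scheme is an affine scheme, so is a stage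
(helper7)
-/

set_option autoImplicit false
set_option linter.unusedSectionVars false
set_option linter.unusedVariables false
set_option linter.style.haveILetI false
universe u
open CategoryTheory CategoryTheory.Limits AlgebraicGeometry
open AlgSp

namespace Groth.Agent.Lib.T2H7.StageAffD

open Groth.Agent.Lib.T2H7.EvClosed

variable {S : Scheme.{u}}

/-- the product of an absolute scheme with a scheme over `S`, as a scheme over `S`. -/
noncomputable def prodOver (P : Scheme.{u}) (Y : Over S) : Over S :=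
  Over.mk (pullback.snd (specULiftZIsTerminal.from P) (specULiftZIsTerminal.from Y.left) ≫ Y.hom)

/-- the projection to `Y`. -/
noncomputable def prodOverSnd (P : Scheme.{u}) (Y : Over S) : prodOver P Y ⟶ Y :=
  Over.homMk (pullback.snd (specULiftZIsTerminal.from P) (specULiftZIsTerminal.from Y.left)) rfl

/-- the projection to `P`. -/
noncomputable def prodOverFst (P : Scheme.{u}) (Y : Over S) : (prodOver P Y).left ⟶ P :=
  pullback.fst (specULiftZIsTerminal.from P) (specULiftZIsTerminal.from Y.left)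

/-- maps into the product. -/
noncomputable def prodOverLift {P : Scheme.{u}} {Y W : Over S} (a : W.left ⟶ P) (y : W ⟶ Y) :
    W ⟶ prodOver P Y :=
  Over.homMk (pullback.lift a y.left (specULiftZIsTerminal.hom_ext _ _)) (by
    show pullback.lift a y.left _ ≫ pullback.snd _ _ ≫ Y.hom = W.hom
    rw [pullback.lift_snd_assoc, Over.w])

@[simp]
theorem prodOverLift_snd {P : Scheme.{u}} {Y W : Over S} (a : W.left ⟶ P) (y : W ⟶ Y) :
    prodOverLift a y ≫ prodOverSnd P Y = y := by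
  ext
  exact pullback.lift_snd _ _ _

@[simp]
theorem prodOverLift_fst {P : Scheme.{u}} {Y W : Over S} (a : W.left ⟶ P) (y : W ⟶ Y) :
    (prodOverLift a y).left ≫ prodOverFst P Y = a :=
  pullback.lift_fst _ _ _

theorem prodOver_hom_ext {P : Scheme.{u}} {Y W : Over S} (f g : W ⟶ prodOver P Y)
    (h1 : f.left ≫ prodOverFst P Y = g.left ≫ prodOverFst P Y)
    (h2 : f ≫ prodOverSnd P Y = g ≫ prodOverSnd P Y) : f = g := by
  ext
  apply pullback.hom_ext h1
  exact congrArg (fun m => m.left) h2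

instance (P : Scheme.{u}) (Y : Over S) [IsAffine P] [IsAffine Y.left] :
    IsAffine (prodOver P Y).left :=
  inferInstanceAs (IsAffine (pullback (specULiftZIsTerminal.from P)
    (specULiftZIsTerminal.from Y.left)))

theorem lfp_prodOverSnd (P : Scheme.{u}) (Y : Over S)
    (h : ∀ z : P ⟶ Spec (CommRingCat.of (ULift.{u} ℤ)), LocallyOfFinitePresentation z) :
    LocallyOfFinitePresentation (prodOverSnd P Y).left := by
  haveI := h (specULiftZIsTerminal.from P)
  exact inferInstanceAs (LocallyOfFinitePresentation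
    (pullback.snd (specULiftZIsTerminal.from P) (specULiftZIsTerminal.from Y.left)))

/-- **the finitely presented model of a surjective étale affine chart of an affine scheme over an
affine scheme**. -/
theorem exists_model_over {T U Y : Over S} (hT : IsAffine T.left) (hU : IsAffine U.left)
    (hY : IsAffine Y.left) (u : U ⟶ T) [Etale u.left] [Surjective u.left] (yT : T ⟶ Y) :
    ∃ (Y₁ V₁ : Over S) (f₁ : Y₁ ⟶ Y) (qY : V₁ ⟶ Y₁) (mT : T ⟶ Y₁) (bU : U ⟶ V₁),
      IsAffine Y₁.left ∧ IsAffine V₁.left ∧ LocallyOfFinitePresentation f₁.left ∧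
      Etale qY.left ∧ Surjective qY.left ∧ mT ≫ f₁ = yT ∧
      IsPullback ((AlgSp.yon S).map bU) ((AlgSp.yon S).map u) ((AlgSp.yon S).map qY)
        ((AlgSp.yon S).map mT) := by
  haveI := hT
  haveI := hU
  haveI := hY
  obtain ⟨P, Q, q, a, b, hP, hQ, hqe, hqs, hlfp, sq⟩ :=
    Groth.Agent.Lib.T2H7.StageAffB.exists_etale_model u.left
  haveI := hP
  haveI := hQ
  haveI := hqe
  haveI := hqs
  let Y₁ : Over S := prodOver P Y
  let V₁ : Over S := Over.mk (pullback.snd q (prodOverFst P Y) ≫ Y₁.hom)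
  let qY : V₁ ⟶ Y₁ := Over.homMk (pullback.snd q (prodOverFst P Y)) rfl
  let mT : T ⟶ Y₁ := prodOverLift a yT
  have hcomm : b ≫ q = (u ≫ mT).left ≫ prodOverFst P Y := by
    rw [Over.comp_left, Category.assoc, prodOverLift_fst, sq.w]
  let bU : U ⟶ V₁ := Over.homMk (pullback.lift b (u ≫ mT).left hcomm) (by
    show pullback.lift b (u ≫ mT).left hcomm ≫ pullback.snd q (prodOverFst P Y) ≫ Y₁.hom = U.hom
    rw [pullback.lift_snd_assoc]
    exact Over.w (u ≫ mT))
  have hbU1 : bU.left ≫ pullback.fst q (prodOverFst P Y) = b := pullback.lift_fst _ _ _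
  have hbU2 : bU ≫ qY = u ≫ mT := by
    ext
    exact pullback.lift_snd _ _ _
  have hV₁aff : IsAffine V₁.left :=
    inferInstanceAs (IsAffine (pullback q (prodOverFst P Y)))
  have hqYe : Etale qY.left :=
    inferInstanceAs (Etale (pullback.snd q (prodOverFst P Y)))
  have hqYs : Surjective qY.left :=
    inferInstanceAs (Surjective (pullback.snd q (prodOverFst P Y)))
  refine ⟨Y₁, V₁, prodOverSnd P Y, qY, mT, bU, inferInstance, hV₁aff, lfp_prodOverSnd P Y hlfp,
    hqYe, hqYs, prodOverLift_snd a yT, ?_⟩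
  have hsch : IsPullback bU.left u.left qY.left mT.left := by
    refine IsPullback.of_right ?_ (congrArg (fun m => m.left) hbU2)
      (IsPullback.of_hasPullback q (prodOverFst P Y))
    rw [hbU1, prodOverLift_fst]
    exact sq
  exact (Groth.Agent.Lib.T2H7.LimDescB.isPullback_over_of_left hbU2 hsch).map (AlgSp.yon S)



section

variable {I : Type u} [SmallCategory I] [IsCofiltered I] {D : I ⥤ AlgSp.Sp S} {c : Cone D}
  {i₁ : I}

attribute [local instance] IsCofiltered.isConnected in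
/-- **descent of a map from the limit chart to a scheme locally of finite presentation over a
scheme receiving a stage**. -/
theorem exists_chart_factor (cd : ChartData D c i₁) (k : Over i₁) {V₁ Y₁ : Over S}
    (qY : V₁ ⟶ Y₁) [LocallyOfFinitePresentation qY.left]
    (mk : D.obj k.left ⟶ (AlgSp.yon S).obj Y₁) (bU : cd.cW.pt ⟶ V₁)
    (hb : (AlgSp.yon S).map bU ≫ (AlgSp.yon S).map qY = cd.fstW ≫ c.π.app k.left ≫ mk) :
    ∃ (j : Over i₁) (χ : j ⟶ k) (v' : cd.E.obj j ⟶ V₁), cd.cW.π.app j ≫ v' = bU ∧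
      (AlgSp.yon S).map v' ≫ (AlgSp.yon S).map qY = cd.pj j ≫ D.map χ.left ≫ mk := by
  let sY : ∀ j' : Over k, cd.E.obj j'.left ⟶ Y₁ := fun j' =>
    (AlgSp.yon S).preimage (cd.pj j'.left ≫ D.map j'.hom.left ≫ mk)
  have hsY : ∀ j', (AlgSp.yon S).map (sY j') = cd.pj j'.left ≫ D.map j'.hom.left ≫ mk :=
    fun j' => Functor.map_preimage _ _
  have hsYnat : ∀ {j' j'' : Over k} (ψ : j' ⟶ j''), cd.E.map ψ.left ≫ sY j'' = sY j' := by
    intro j' j'' ψ
    apply (AlgSp.yon S).map_injective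
    rw [Functor.map_comp, hsY, hsY, ← Category.assoc, cd.hE2 ψ.left, Category.assoc,
      ← Category.assoc (D.map ψ.left.left), ← D.map_comp, ← Over.comp_left, Over.w ψ]
  let Ds : Over k ⥤ Scheme.{u} := Over.forget k ⋙ cd.E ⋙ Over.forget S
  let tY : Ds ⟶ (Functor.const (Over k)).obj Y₁.left :=
    { app := fun j' => (sY j').left
      naturality := fun j' j'' ψ => by
        simp only [Functor.const_obj_obj, Functor.const_obj_map, Category.comp_id]
        show (cd.E.map ψ.left).left ≫ (sY j'').left = (sY j').left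
        rw [← Over.comp_left, hsYnat] }
  let cs : Cone Ds := ((Over.forget S).mapCone cd.cW).whisker (Over.forget k)
  have hcs : IsLimit cs :=
    (Functor.Initial.isLimitWhiskerEquiv (Over.forget k) ((Over.forget S).mapCone cd.cW)).symm
      cd.hcW
  haveI : ∀ j' : Over k, IsAffine (Ds.obj j') := fun j' => cd.haffj j'.left
  haveI : ∀ {j' j'' : Over k} (ψ : j' ⟶ j''), IsAffineHom (Ds.map ψ) :=
    fun {j' j''} ψ => by
      haveI : IsAffine (cd.E.obj j'.left).left := cd.haffj j'.left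
      haveI : IsAffine (cd.E.obj j''.left).left := cd.haffj j''.left
      exact (inferInstance : IsAffineHom (cd.E.map ψ.left).left)
  haveI : ∀ j' : Over k, CompactSpace (Ds.obj j') := fun j' => by
    haveI : IsAffine (cd.E.obj j'.left).left := cd.haffj j'.left
    exact (inferInstance : CompactSpace (cd.E.obj j'.left).left)
  haveI : ∀ j' : Over k, QuasiSeparatedSpace (Ds.obj j') := fun j' => by
    haveI : IsAffine (cd.E.obj j'.left).left := cd.haffj j'.left
    exact (inferInstance : QuasiSeparatedSpace (cd.E.obj j'.left).left)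
  have hcompat : ∀ j' : Over k, bU ≫ qY = cd.cW.π.app j'.left ≫ sY j' := by
    intro j'
    apply (AlgSp.yon S).map_injective
    rw [Functor.map_comp, Functor.map_comp, hb, hsY, ← reassoc_of% (cd.hfst j'.left),
      Cone.w_assoc]
  obtain ⟨j₂, g, hg1, hg2⟩ := Scheme.exists_π_app_comp_eq_of_locallyOfFinitePresentation
    Ds tY qY.left cs hcs bU.left (by
      ext j'
      have := congrArg (fun m => m.left) (hcompat j')
      exact this.symm)
  let g₀ : (cd.E.obj j₂.left).left ⟶ V₁.left := g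
  have hg1' : (cd.cW.π.app j₂.left).left ≫ g₀ = bU.left := hg1
  have hg2' : g₀ ≫ qY.left = (sY j₂).left := hg2
  let v' : cd.E.obj j₂.left ⟶ V₁ := Over.homMk g₀ (by
    rw [← Over.w qY, ← Category.assoc, hg2', Over.w])
  refine ⟨j₂.left, j₂.hom, v', ?_, ?_⟩
  · ext
    exact hg1'
  · rw [← Functor.map_comp, ← hsY]
    congr 1
    ext
    exact hg2'

end



section

variable {I : Type u} [SmallCategory I] [IsCofiltered I] {D : I ⥤ AlgSp.Sp S} {c : Cone D}
  {i₁ : I}

/-- the transition squares of the chart system. -/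
theorem ChartData_hsqw (cd : ChartData D c i₁) {j k : Over i₁} (ψ : j ⟶ k) :
    IsPullback (cd.pj j) ((AlgSp.yon S).map (cd.E.map ψ)) (D.map ψ.left) (cd.pj k) := by
  refine IsPullback.of_bot ?_ (cd.hE2 ψ).symm (cd.sqj k)
  rw [← Functor.map_comp, cd.hE1, ← D.map_comp, Over.w ψ]
  exact cd.sqj j

/-- the limit chart is the base change of the stage chart. -/
theorem ChartData_sqWj (cd : ChartData D c i₁) (j : Over i₁) :
    IsPullback cd.fstW ((AlgSp.yon S).map (cd.cW.π.app j)) (c.π.app j.left) (cd.pj j) := by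
  refine IsPullback.of_bot ?_ (cd.hfst j) (cd.sqj j)
  rw [← Functor.map_comp, cd.π_ιj j, c.w]
  exact cd.sqW

/-- **the stage step**: if the limit chart is the base change of an étale surjective affine cover
`V₁ ⟶ Y₁` of an affine scheme receiving a stage, and the stage chart maps compatibly to `V₁`, then
some later stage is an affine scheme. -/
theorem exists_affine_of_chart_factor [QuasiSeparatedSpace S]
    (hD : ∀ i, AlgSp.IsAlgSpace (D.obj i))
    (hDa : ∀ (i j : I) (φ : i ⟶ j), AlgSp.IsAffineMor (D.map φ)) (hc : IsLimit c)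
    (hqc : ∀ i, AlgSp.IsQuasiCompactSp (D.obj i)) (hqs : ∀ i, AlgSp.IsQuasiSeparatedSp (D.obj i))
    (cd : ChartData D c i₁) (j : Over i₁) {V₁ Y₁ : Over S} (hY₁ : IsAffine Y₁.left)
    (hV₁ : IsAffine V₁.left) (qY : V₁ ⟶ Y₁) [Etale qY.left] [Surjective qY.left]
    (mj : D.obj j.left ⟶ (AlgSp.yon S).obj Y₁) (bU : cd.cW.pt ⟶ V₁)
    (sq : IsPullback ((AlgSp.yon S).map bU) cd.fstW ((AlgSp.yon S).map qY)
      (c.π.app j.left ≫ mj))
    (v' : cd.E.obj j ⟶ V₁) (hv1 : cd.cW.π.app j ≫ v' = bU)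
    (hv2 : (AlgSp.yon S).map v' ≫ (AlgSp.yon S).map qY = cd.pj j ≫ mj) :
    ∃ (i : I) (φ : i ⟶ j.left) (W₀ : Over S), IsAffine W₀.left ∧
      Nonempty (D.obj i ≅ (AlgSp.yon S).obj W₀) := by
  haveI := hY₁
  haveI := hV₁
  haveI hqYaff : IsAffineHom qY.left := inferInstance
  -- the base change of the cover to the stage `j`
  let Vj : AlgSp.Sp S := pullback mj ((AlgSp.yon S).map qY)
  let b₀ : Vj ⟶ D.obj j.left := pullback.fst mj ((AlgSp.yon S).map qY)
  let sV : Vj ⟶ (AlgSp.yon S).obj V₁ := pullback.snd mj ((AlgSp.yon S).map qY)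
  have sqVj : IsPullback b₀ sV mj ((AlgSp.yon S).map qY) := IsPullback.of_hasPullback _ _
  have hVjalg : AlgSp.IsAlgSpace Vj :=
    Groth.Agent.S9874.isAlgSpace_of_isPullback (AlgSp.IsAlgSpace.yon_obj Y₁).diag (hD j.left)
      (AlgSp.IsAlgSpace.yon_obj V₁) sqVj
  have hqYa : AlgSp.IsAffineMor ((AlgSp.yon S).map qY) :=
    Groth.Agent.Lib.T2H1.Gpd2.isAffineMor_yon_map qY
  have hb₀a : AlgSp.IsAffineMor b₀ :=
    Groth.Agent.Lib.T2H7.AffQcqs.isAffineMor_of_isPullback sqVj.flip hqYa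
  let gj : (AlgSp.yon S).obj (cd.E.obj j) ⟶ Vj := pullback.lift (cd.pj j) ((AlgSp.yon S).map v')
    hv2.symm
  have hgj1 : gj ≫ b₀ = cd.pj j := pullback.lift_fst _ _ _
  have hgj2 : gj ≫ sV = (AlgSp.yon S).map v' := pullback.lift_snd _ _ _
  -- the three spaces
  let XE : AlgSp.Space S := ⟨(AlgSp.yon S).obj (cd.E.obj j), AlgSp.IsAlgSpace.yon_obj _⟩
  let YV : AlgSp.Space S := ⟨Vj, hVjalg⟩
  let ZD : AlgSp.Space S := ⟨D.obj j.left, hD j.left⟩
  have hlocE : ∀ {A B : AlgSp.Space S} (f : A ⟶ B), AlgSp.RepWith @Etale f.hom →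
      AlgSp.LocP @Etale f.hom := fun f hf =>
    (Groth.Agent.S9948.result @Etale (.inr (.inr (.inr (.inr (.inl rfl))))) f hf.1).2 hf
  have hpje : AlgSp.RepWith @Etale (cd.pj j) := cd.repWith_etale_pj j
  have hb₀e : AlgSp.RepWith @Etale b₀ :=
    MorphismProperty.of_isPullback (P := AlgSp.RepWith @Etale) sqVj.flip
      ((AlgSp.repWith_yon_map_iff _ _).2 inferInstance)
  have h1 : AlgSp.LocP @LocallyOfFinitePresentation
      ((ObjectProperty.homMk gj : XE ⟶ YV) ≫ (ObjectProperty.homMk b₀ : YV ⟶ ZD)).hom := by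
    have e : ((ObjectProperty.homMk gj : XE ⟶ YV) ≫ (ObjectProperty.homMk b₀ : YV ⟶ ZD)).hom =
        cd.pj j := hgj1
    rw [e]
    have h := hlocE (A := XE) (B := ZD) (ObjectProperty.homMk (cd.pj j)) hpje
    intro U V a b h' ha hb comm
    have := h a b h' ha hb comm
    infer_instance
  have h2 : AlgSp.LocP @LocallyOfFiniteType (ObjectProperty.homMk b₀ : YV ⟶ ZD).hom := by
    have h := hlocE (A := YV) (B := ZD) (ObjectProperty.homMk b₀) hb₀e
    intro U V a b h' ha hb comm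
    have := h a b h' ha hb comm
    infer_instance
  have hgjlfp : AlgSp.LocP @LocallyOfFinitePresentation gj :=
    Groth.Agent.S9959.result (X := XE) (Y := YV) (Z := ZD) (ObjectProperty.homMk gj)
      (ObjectProperty.homMk b₀) h1 h2
  -- the base change to the limit
  let pY : (AlgSp.yon S).obj cd.cW.pt ⟶ Vj :=
    pullback.lift (cd.fstW ≫ c.π.app j.left) ((AlgSp.yon S).map bU) (by
      rw [Category.assoc]
      exact sq.w.symm)
  have hpY1 : pY ≫ b₀ = cd.fstW ≫ c.π.app j.left := pullback.lift_fst _ _ _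
  have hpY2 : pY ≫ sV = (AlgSp.yon S).map bU := pullback.lift_snd _ _ _
  have hY : IsPullback pY cd.fstW b₀ (c.π.app j.left) := by
    refine IsPullback.of_right ?_ hpY1 sqVj.flip
    rw [hpY2]
    exact sq
  have hpXY : (AlgSp.yon S).map (cd.cW.π.app j) ≫ gj = pY := by
    apply pullback.hom_ext
    · show ((AlgSp.yon S).map (cd.cW.π.app j) ≫ gj) ≫ b₀ = pY ≫ b₀
      rw [Category.assoc, hgj1, hpY1, cd.hfst j]
    · show ((AlgSp.yon S).map (cd.cW.π.app j) ≫ gj) ≫ sV = pY ≫ sV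
      rw [Category.assoc, hgj2, hpY2, ← Functor.map_comp, hv1]
  have hX : IsPullback ((AlgSp.yon S).map (cd.cW.π.app j))
      (𝟙 ((AlgSp.yon S).obj cd.cW.pt)) gj pY := by
    have e1 : 𝟙 ((AlgSp.yon S).obj cd.cW.pt) ≫ cd.fstW = cd.fstW := Category.id_comp _
    refine IsPullback.of_bot ?_ (hpXY.trans (Category.id_comp _).symm) hY
    rw [e1, hgj1]
    exact (ChartData_sqWj cd j).flip
  obtain ⟨i, φ, H⟩ := Groth.Agent.S10021.result S D hD hDa c hc j.left (hqc _) (hqs _) XE YV gj b₀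
    (Groth.Agent.Lib.Helper15QcRep.isQuasiCompactSp_yon _ (cd.haffj j))
    (Groth.Agent.Lib.T2H7.LimDescA.isQuasiSeparatedSp_yon _ (cd.haffj j))
    (Groth.Agent.Lib.T2H7.AffQcqs.isQuasiCompactSp_of_isAffineMor YV ZD b₀ hb₀a (hqc j.left))
    (Groth.Agent.Lib.T2H7.AffQcqs.isQuasiSeparatedSp_of_isAffineMor YV ZD b₀ hb₀a (hqs j.left))
    _ _ (𝟙 ((AlgSp.yon S).obj cd.cW.pt)) pY cd.fstW hY _ hX hgjlfp
  -- the stage `i`
  let ji : Over i₁ := Over.mk (φ ≫ j.hom)
  let ψ : ji ⟶ j := Over.homMk φ rfl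
  let vi : cd.E.obj ji ⟶ V₁ := cd.E.map ψ ≫ v'
  let mi : D.obj i ⟶ (AlgSp.yon S).obj Y₁ := D.map φ ≫ mj
  have hE2ψ : (AlgSp.yon S).map (cd.E.map ψ) ≫ cd.pj j = cd.pj ji ≫ D.map φ := cd.hE2 ψ
  have hvi : cd.pj ji ≫ mi = (AlgSp.yon S).map vi ≫ (AlgSp.yon S).map qY := by
    show cd.pj ji ≫ D.map φ ≫ mj = (AlgSp.yon S).map (cd.E.map ψ ≫ v') ≫ (AlgSp.yon S).map qY
    rw [Functor.map_comp, Category.assoc, hv2, reassoc_of% hE2ψ]
  let Vi : AlgSp.Sp S := pullback mi ((AlgSp.yon S).map qY)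
  let qYi : Vi ⟶ D.obj i := pullback.fst mi ((AlgSp.yon S).map qY)
  let sVi : Vi ⟶ (AlgSp.yon S).obj V₁ := pullback.snd mi ((AlgSp.yon S).map qY)
  have sqVi : IsPullback qYi sVi mi ((AlgSp.yon S).map qY) := IsPullback.of_hasPullback _ _
  let pYi : Vi ⟶ Vj := pullback.lift (qYi ≫ D.map φ) sVi (by
    rw [Category.assoc]
    exact sqVi.w)
  have hpYi1 : pYi ≫ b₀ = qYi ≫ D.map φ := pullback.lift_fst _ _ _
  have hpYi2 : pYi ≫ sV = sVi := pullback.lift_snd _ _ _
  have hYi : IsPullback pYi qYi b₀ (D.map φ) := by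
    refine IsPullback.of_right ?_ hpYi1 sqVj.flip
    rw [hpYi2]
    exact sqVi.flip
  let fi : (AlgSp.yon S).obj (cd.E.obj ji) ⟶ Vi :=
    pullback.lift (cd.pj ji) ((AlgSp.yon S).map vi) hvi
  have hfi1 : fi ≫ qYi = cd.pj ji := pullback.lift_fst _ _ _
  have hfi2 : fi ≫ sVi = (AlgSp.yon S).map vi := pullback.lift_snd _ _ _
  have hmid : (AlgSp.yon S).map (cd.E.map ψ) ≫ gj = fi ≫ pYi := by
    apply pullback.hom_ext
    · show ((AlgSp.yon S).map (cd.E.map ψ) ≫ gj) ≫ b₀ = (fi ≫ pYi) ≫ b₀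
      rw [Category.assoc, hgj1, Category.assoc, hpYi1, ← Category.assoc, hfi1, hE2ψ]
    · show ((AlgSp.yon S).map (cd.E.map ψ) ≫ gj) ≫ sV = (fi ≫ pYi) ≫ sV
      rw [Category.assoc, hgj2, Category.assoc, hpYi2, hfi2, ← Functor.map_comp]
  have hXi : IsPullback ((AlgSp.yon S).map (cd.E.map ψ)) fi gj pYi := by
    refine IsPullback.of_bot ?_ hmid hYi
    rw [hfi1, hgj1]
    exact (ChartData_hsqw cd ψ).flip
  haveI hiso : IsIso fi := H _ _ fi pYi qYi hYi _ hXi
  have sqa : IsPullback (cd.pj ji) ((AlgSp.yon S).map vi) mi ((AlgSp.yon S).map qY) :=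
    IsPullback.of_iso_pullback ⟨hvi⟩ (asIso fi) hfi1 hfi2
  obtain ⟨W₀, i', q, hW₀, -, -⟩ :=
    Groth.Agent.Lib.T2H1.AffDesc.exists_affine_of_standard_cover (hD i) hY₁ mi
      (ι := PUnit.{u + 1}) (fun _ => V₁) (fun _ => qY) (fun _ => hV₁) (fun _ => inferInstance)
      (fun z => ⟨PUnit.unit, qY.left.surjective z⟩)
      (fun _ => cd.E.obj ji) (fun _ => vi) (fun _ => cd.pj ji) (fun _ => sqa)
      (fun _ => cd.haffj ji)
  exact ⟨i, φ, W₀, hW₀, ⟨q⟩⟩

end

section

variable {I : Type u} [SmallCategory I] [IsCofiltered I] (D : I ⥤ AlgSp.Sp S) (c : Cone D)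

/-- **if a limit of quasi-compact and quasi-separated algebraic spaces with affine transition
maps, all over an affine scheme `Y`, is an affine scheme, then so is some stage**. -/
theorem exists_affine_stage [QuasiSeparatedSpace S]
    (hD : ∀ i, AlgSp.IsAlgSpace (D.obj i))
    (hDa : ∀ (i j : I) (φ : i ⟶ j), AlgSp.IsAffineMor (D.map φ)) (hc : IsLimit c)
    (hqc : ∀ i, AlgSp.IsQuasiCompactSp (D.obj i)) (hqs : ∀ i, AlgSp.IsQuasiSeparatedSp (D.obj i))
    (Y : Over S) (hY : IsAffine Y.left)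
    (t : D ⟶ (Functor.const I).obj ((AlgSp.yon S).obj Y))
    (T : Over S) (hT : IsAffine T.left) (e : (AlgSp.yon S).obj T ≅ c.pt) :
    ∃ (i : I) (W₀ : Over S), IsAffine W₀.left ∧ Nonempty (D.obj i ≅ (AlgSp.yon S).obj W₀) := by
  have tnat : ∀ {i j : I} (φ : i ⟶ j), D.map φ ≫ t.app j = t.app i := fun φ =>
    (t.naturality φ).trans (Category.comp_id _)
  obtain ⟨i₁⟩ := IsCofiltered.nonempty (C := I)
  obtain ⟨cd⟩ := nonempty_chartData D hD hDa c hc i₁ (hqc i₁)
  -- the chart of the limit as a cover of `T`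
  let u : cd.cW.pt ⟶ T := (AlgSp.yon S).preimage (cd.fstW ≫ e.inv)
  have hu : (AlgSp.yon S).map u = cd.fstW ≫ e.inv := Functor.map_preimage _ _
  have squ : IsPullback (𝟙 ((AlgSp.yon S).obj cd.cW.pt)) ((AlgSp.yon S).map u) cd.fstW e.hom :=
    IsPullback.of_horiz_isIso ⟨by rw [hu, Category.assoc, e.inv_hom_id, Category.comp_id]
                                  exact Category.id_comp _⟩
  haveI hue : Etale u.left := (AlgSp.repWith_yon_map_iff _ _).1
    (MorphismProperty.of_isPullback (P := AlgSp.RepWith @Etale) squ cd.repWith_etale_fstW)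
  haveI hus : Surjective u.left := (AlgSp.repWith_yon_map_iff _ _).1
    (MorphismProperty.of_isPullback (P := AlgSp.RepWith @Surjective) squ
      cd.repWith_surjective_fstW)
  let yT : T ⟶ Y := (AlgSp.yon S).preimage (e.hom ≫ c.π.app i₁ ≫ t.app i₁)
  have hyT : (AlgSp.yon S).map yT = e.hom ≫ c.π.app i₁ ≫ t.app i₁ := Functor.map_preimage _ _
  obtain ⟨Y₁, V₁, f₁, qY, mT, bU, hY₁, hV₁, hf₁, hqYe, hqYs, hmT, sqU⟩ :=
    exists_model_over hT cd.hWaff hY u yT
  haveI := hf₁
  haveI := hqYe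
  haveI := hqYs
  let m : c.pt ⟶ (AlgSp.yon S).obj Y₁ := e.inv ≫ (AlgSp.yon S).map mT
  have hπt : ∀ i, c.π.app i ≫ t.app i = c.π.app i₁ ≫ t.app i₁ := by
    intro i
    let l := IsCofiltered.min i i₁
    rw [← c.w (IsCofiltered.minToLeft i i₁), Category.assoc, tnat,
      ← c.w (IsCofiltered.minToRight i i₁), Category.assoc, tnat]
  have hm : ∀ i, m ≫ (AlgSp.yon S).map f₁ = c.π.app i ≫ t.app i := by
    intro i
    rw [hπt i]
    show (e.inv ≫ (AlgSp.yon S).map mT) ≫ (AlgSp.yon S).map f₁ = _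
    rw [Category.assoc, ← Functor.map_comp, hmT, hyT, e.inv_hom_id_assoc]
  have sqm : IsPullback ((AlgSp.yon S).map bU) cd.fstW ((AlgSp.yon S).map qY) m := by
    refine sqU.of_iso (Iso.refl _) (Iso.refl _) e (Iso.refl _) ?_ ?_ ?_ ?_
    · simp
    · rw [hu, Category.assoc, e.inv_hom_id]
      simp
    · simp
    · show (AlgSp.yon S).map mT ≫ 𝟙 _ = e.hom ≫ e.inv ≫ (AlgSp.yon S).map mT
      rw [e.hom_inv_id_assoc]
      exact Category.comp_id _
  -- the map to the model descends to a stage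
  obtain ⟨j₀, mj₀, hmj1, hmj2⟩ :=
    Groth.Agent.Lib.T2H7.StageAffC.exists_factor_stage D c hD hDa hc hqc hqs f₁ t m hm
  let k : Over i₁ := Over.mk (IsCofiltered.minToRight j₀ i₁)
  let mk : D.obj k.left ⟶ (AlgSp.yon S).obj Y₁ := D.map (IsCofiltered.minToLeft j₀ i₁) ≫ mj₀
  have hmk : c.π.app k.left ≫ mk = m := by
    show c.π.app _ ≫ D.map (IsCofiltered.minToLeft j₀ i₁) ≫ mj₀ = m
    rw [Cone.w_assoc, hmj1]
  -- the map of the chart to the cover of the model descends to a stage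
  obtain ⟨j, χ, v', hv1, hv2⟩ := exists_chart_factor cd k qY mk bU (by
    rw [hmk]
    exact sqm.w)
  let mj : D.obj j.left ⟶ (AlgSp.yon S).obj Y₁ := D.map χ.left ≫ mk
  have hmj : c.π.app j.left ≫ mj = m := by
    show c.π.app _ ≫ D.map χ.left ≫ mk = m
    rw [Cone.w_assoc, hmk]
  obtain ⟨i, φ, W₀, hW₀, hiso⟩ := exists_affine_of_chart_factor hD hDa hc hqc hqs cd j hY₁ hV₁ qY
    mj bU (by rw [hmj]; exact sqm) v' hv1 hv2
  exact ⟨i, W₀, hW₀, hiso⟩

/-- the source of an affine morphism to an affine scheme is an affine scheme. -/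
theorem exists_affine_of_isAffineMor {F G : AlgSp.Sp S} (f : F ⟶ G) (hf : AlgSp.IsAffineMor f)
    {W₀ : Over S} (hW₀ : IsAffine W₀.left) (q : G ≅ (AlgSp.yon S).obj W₀) :
    ∃ W : Over S, IsAffine W.left ∧ Nonempty (F ≅ (AlgSp.yon S).obj W) := by
  obtain ⟨W, ι, fst, sq, hW⟩ := hf hW₀ q.inv
  haveI : IsIso fst := sq.flip.isIso_snd_of_isIso
  exact ⟨W, hW, ⟨(asIso fst).symm⟩⟩

/-- eventual form of `exists_affine_stage`. -/
theorem eventually_affine_stage [QuasiSeparatedSpace S]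
    (hD : ∀ i, AlgSp.IsAlgSpace (D.obj i))
    (hDa : ∀ (i j : I) (φ : i ⟶ j), AlgSp.IsAffineMor (D.map φ)) (hc : IsLimit c)
    (hqc : ∀ i, AlgSp.IsQuasiCompactSp (D.obj i)) (hqs : ∀ i, AlgSp.IsQuasiSeparatedSp (D.obj i))
    (Y : Over S) (hY : IsAffine Y.left)
    (t : D ⟶ (Functor.const I).obj ((AlgSp.yon S).obj Y))
    (T : Over S) (hT : IsAffine T.left) (e : (AlgSp.yon S).obj T ≅ c.pt) :
    ∃ i₀ : I, ∀ (i : I) (_ : i ⟶ i₀), ∃ W : Over S, IsAffine W.left ∧
      Nonempty (D.obj i ≅ (AlgSp.yon S).obj W) := by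
  obtain ⟨i₀, W₀, hW₀, ⟨q⟩⟩ := exists_affine_stage D c hD hDa hc hqc hqs Y hY t T hT e
  exact ⟨i₀, fun i φ => exists_affine_of_isAffineMor (D.map φ) (hDa i i₀ φ) hW₀ q⟩

end

end Groth.Agent.Lib.T2H7.StageAffD
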