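import Mathlib
import Groth.Agent.Lib.T2H7StageAffD
import Groth.Agent.Lib.T2H7BcSys
import Groth.Agent.Lib.T2H1AffDesc4
import Groth.Agent.S10533
import Groth.Agent.S9921
import Groth.Agent.Lib.T2H7EvMonoBase

/-!
# A limit of algebraic spaces affine over a base has a stage affine over the base (helper7)
-/

set_option autoImplicit false
set_option linter.unusedSectionVars false
set_option linter.unusedVariables false
set_option linter.style.haveILetI false
universe u
open CategoryTheory CategoryTheory.Limits AlgebraicGeometry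
open AlgSp

namespace Groth.Agent.Lib.T2H7.StageAffE

open Groth.Agent.Lib.T2H7.BcSys

variable {S : Scheme.{u}}

/-- a morphism of algebraic spaces whose base change to an affine étale surjective chart of the
target is an affine scheme is affine. -/
theorem isAffineMor_of_chart (Y X : AlgSp.Space S) (f : X ⟶ Y) (V : Over S)
    (v : (AlgSp.yon S).obj V ⟶ Y.obj) (hV : IsAffine V.left) (hve : AlgSp.RepWith @Etale v)
    (hvs : AlgSp.RepWith @Surjective v) (W : Over S) (hW : IsAffine W.left)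
    (q : pullback f.hom v ≅ (AlgSp.yon S).obj W) : AlgSp.IsAffineMor f.hom := by
  haveI := hV
  haveI := hW
  have sq : IsPullback (pullback.fst f.hom v) (pullback.snd f.hom v) f.hom v :=
    IsPullback.of_hasPullback _ _
  refine (Groth.Agent.Lib.T2H1.AffDesc.of_chart_of_isLocalOnBase (Groth.Agent.S10533.result S) f V v
    hve hvs _ _ sq).2 ?_
  let w : W ⟶ V := (AlgSp.yon S).preimage (q.inv ≫ pullback.snd f.hom v)
  have hw : (AlgSp.yon S).map w = q.inv ≫ pullback.snd f.hom v := Functor.map_preimage _ _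
  have e : pullback.snd f.hom v = q.hom ≫ (AlgSp.yon S).map w := by
    rw [hw, q.hom_inv_id_assoc]
  rw [e]
  haveI : IsAffineHom w.left := inferInstance
  exact Groth.Agent.Lib.T2H7.EvMonoBase.isAffineMor_comp _ _
    (Groth.Agent.Lib.T2H1.Gpd2.isAffineMor_of_isIso q.hom)
    (Groth.Agent.Lib.T2H1.Gpd2.isAffineMor_yon_map w)

section

variable {I : Type u} [SmallCategory I] [IsCofiltered I]

/-- **the base changes of the stages to an affine chart of the base are eventually affine
schemes**, if the limit is affine over the base. -/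
theorem eventually_affine_bc [QuasiSeparatedSpace S] (Y : AlgSp.Space S) (D : I ⥤ AlgSp.Sp S)
    (hD : ∀ i, AlgSp.IsAlgSpace (D.obj i)) (t : D ⟶ (Functor.const I).obj Y.obj)
    (hDa : ∀ (i j : I) (φ : i ⟶ j), AlgSp.IsAffineMor (D.map φ))
    (c : Cone D) (hc : IsLimit c) (g : c.pt ⟶ Y.obj) (hg : ∀ i, c.π.app i ≫ t.app i = g)
    (hqc : ∀ i, AlgSp.IsQuasiCompactSp (D.obj i)) (hqs : ∀ i, AlgSp.IsQuasiSeparatedSp (D.obj i))
    (hYqc : AlgSp.IsQuasiCompactSp Y.obj) (hYqs : AlgSp.IsQuasiSeparatedSp Y.obj)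
    (hX : AlgSp.IsAffineMor g) (V : Over S) (v : (AlgSp.yon S).obj V ⟶ Y.obj)
    (hV : IsAffine V.left) :
    ∃ i₀ : I, ∀ (i : I) (_ : i ⟶ i₀), ∃ W : Over S, IsAffine W.left ∧
      Nonempty (pullback (t.app i) v ≅ (AlgSp.yon S).obj W) := by
  let D' : I ⥤ AlgSp.Sp S := Bs D t v
  let c' : Cone D' := Bc D t v c g hg
  have hc' : IsLimit c' := isLimitBc D t v c g hg hc
  have hValg : AlgSp.IsAlgSpace ((AlgSp.yon S).obj V) := AlgSp.IsAlgSpace.yon_obj V
  have hD' : ∀ i, AlgSp.IsAlgSpace (D'.obj i) := fun i =>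
    Groth.Agent.S9874.isAlgSpace_of_isPullback Y.property.diag (hD i) hValg (isPullback_p D t v i)
  have hDa' : ∀ (i j : I) (φ : i ⟶ j), AlgSp.IsAffineMor (D'.map φ) := fun i j φ =>
    Groth.Agent.Lib.T2H7.AffQcqs.isAffineMor_of_isPullback (isPullback_map D t v φ).flip
      (hDa i j φ)
  have hq' : ∀ i, AlgSp.IsQuasiCompactSp (D'.obj i) ∧ AlgSp.IsQuasiSeparatedSp (D'.obj i) :=
    fun i => Groth.Agent.S9921.result (X := ⟨D.obj i, hD i⟩) (Y := Y)
      (Z := ⟨(AlgSp.yon S).obj V, hValg⟩) (P := ⟨D'.obj i, hD' i⟩)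
      (ObjectProperty.homMk (t.app i)) (ObjectProperty.homMk v)
      (ObjectProperty.homMk (p1 D t v i)) (ObjectProperty.homMk (p2 D t v i))
      (isPullback_p D t v i) ⟨hqc i, hqs i⟩ ⟨hYqc, hYqs⟩
      ⟨Groth.Agent.Lib.Helper15QcRep.isQuasiCompactSp_yon V hV,
        Groth.Agent.Lib.T2H7.LimDescA.isQuasiSeparatedSp_yon V hV⟩
  let t' : D' ⟶ (Functor.const I).obj ((AlgSp.yon S).obj V) :=
    { app := fun i => p2 D t v i
      naturality := fun i j φ => by
        simp only [Functor.const_obj_obj, Functor.const_obj_map, Category.comp_id]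
        exact map_p2 D t v φ }
  obtain ⟨W, ι, fst, sq, hW⟩ := hX hV v
  let e : (AlgSp.yon S).obj W ≅ c'.pt := sq.isoPullback
  exact Groth.Agent.Lib.T2H7.StageAffD.eventually_affine_stage D' c' hD' hDa' hc'
    (fun i => (hq' i).1) (fun i => (hq' i).2) V hV t' W hW e

end

end Groth.Agent.Lib.T2H7.StageAffE
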