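import Mathlib
import Groth.Agent.Lib.T2H7FinStage
import Groth.Agent.Lib.T2H7StageAffE
import Groth.Agent.Lib.T2H7LimDataRep
import Groth.Agent.Lib.T2H1LqfSepRepB
import Groth.Agent.S10060
import Groth.Agent.S10540

/-!
# A limit integral over a base, of spaces of finite type with finite transition maps, has stages
finite over the base (helper7)
-/

set_option autoImplicit false
set_option linter.unusedSectionVars false
set_option linter.unusedVariables false
set_option linter.style.haveILetI false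
universe u
open CategoryTheory CategoryTheory.Limits AlgebraicGeometry
open AlgSp

namespace Groth.Agent.Lib.T2H7.FinStageB

variable {S : Scheme.{u}}

/-- a morphism of sheaves whose base changes to affine schemes are affine schemes with a
property `P` of the projection: the property holds for every such base change. -/
theorem prop_of_shape (P : MorphismProperty Scheme.{u}) [P.RespectsIso] {F G : AlgSp.Sp S}
    (f : F ⟶ G)
    (hf : ∀ ⦃Z : Over S⦄, IsAffine Z.left → ∀ (g : (AlgSp.yon S).obj Z ⟶ G),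
      ∃ (W : Over S) (i : W ⟶ Z) (fst : (AlgSp.yon S).obj W ⟶ F),
        IsPullback fst ((AlgSp.yon S).map i) f g ∧ IsAffine W.left ∧ P i.left)
    {Z W : Over S} (hZ : IsAffine Z.left) (g : (AlgSp.yon S).obj Z ⟶ G)
    (fst : (AlgSp.yon S).obj W ⟶ F) (i : W ⟶ Z)
    (sq : IsPullback fst ((AlgSp.yon S).map i) f g) : P i.left := by
  obtain ⟨W', i', fst', sq', hW', hP⟩ := hf hZ g
  let e : (AlgSp.yon S).obj W ≅ (AlgSp.yon S).obj W' := sq.isoIsPullback _ _ sq'
  have he2 : e.hom ≫ (AlgSp.yon S).map i' = (AlgSp.yon S).map i :=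
    IsPullback.isoIsPullback_hom_snd _ _ sq sq'
  let k : W ⟶ W' := (AlgSp.yon S).preimage e.hom
  have hk : k ≫ i' = i := by
    apply (AlgSp.yon S).map_injective
    rw [Functor.map_comp, Functor.map_preimage, he2]
  haveI : IsIso ((AlgSp.yon S).map k) := by
    rw [Functor.map_preimage]
    infer_instance
  haveI : IsIso k := isIso_of_fully_faithful (AlgSp.yon S) k
  have hkl : IsIso ((Over.forget S).map k) := inferInstance
  have hkl' : IsIso k.left := hkl
  rw [← hk, Over.comp_left]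
  exact (P.cancel_left_of_respectsIso k.left i'.left).2 hP

theorem isFinite_of_isFiniteMor {F G : AlgSp.Sp S} (f : F ⟶ G) (hf : AlgSp.IsFiniteMor f)
    {Z W : Over S} (hZ : IsAffine Z.left) (g : (AlgSp.yon S).obj Z ⟶ G)
    (fst : (AlgSp.yon S).obj W ⟶ F) (i : W ⟶ Z)
    (sq : IsPullback fst ((AlgSp.yon S).map i) f g) : IsFinite i.left :=
  prop_of_shape @IsFinite f hf hZ g fst i sq

theorem isIntegralHom_of_isIntegralMor {F G : AlgSp.Sp S} (f : F ⟶ G)
    (hf : AlgSp.IsIntegralMor f)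
    {Z W : Over S} (hZ : IsAffine Z.left) (g : (AlgSp.yon S).obj Z ⟶ G)
    (fst : (AlgSp.yon S).obj W ⟶ F) (i : W ⟶ Z)
    (sq : IsPullback fst ((AlgSp.yon S).map i) f g) : IsIntegralHom i.left :=
  prop_of_shape @IsIntegralHom f hf hZ g fst i sq

/-- finite morphisms compose. -/
theorem isFiniteMor_comp {F G H : AlgSp.Sp S} (f : F ⟶ G) (g : G ⟶ H)
    (hf : AlgSp.IsFiniteMor f) (hg : AlgSp.IsFiniteMor g) : AlgSp.IsFiniteMor (f ≫ g) := by
  intro Z hZ h
  obtain ⟨W₁, i₁, fst₁, sq₁, hW₁, hfin₁⟩ := hg hZ h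
  obtain ⟨W₂, i₂, fst₂, sq₂, hW₂, hfin₂⟩ := hf hW₁ fst₁
  refine ⟨W₂, i₂ ≫ i₁, fst₂, ?_, hW₂, ?_⟩
  · rw [Functor.map_comp]
    exact sq₂.paste_vert sq₁
  · rw [Over.comp_left]
    infer_instance

theorem isAffineMor_of_isFiniteMor {F G : AlgSp.Sp S} (f : F ⟶ G) (hf : AlgSp.IsFiniteMor f) :
    AlgSp.IsAffineMor f := by
  intro Z hZ g
  obtain ⟨W, i, fst, sq, hW, -⟩ := hf hZ g
  exact ⟨W, i, fst, sq, hW⟩

theorem isAffineMor_of_isIntegralMor {F G : AlgSp.Sp S} (f : F ⟶ G)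
    (hf : AlgSp.IsIntegralMor f) : AlgSp.IsAffineMor f := by
  intro Z hZ g
  obtain ⟨W, i, fst, sq, hW, -⟩ := hf hZ g
  exact ⟨W, i, fst, sq, hW⟩

section

variable {I : Type u} [SmallCategory I] [IsCofiltered I]

/-- **a limit integral over a base, of spaces locally of finite type over the base with finite
transition maps, has stages finite over the base.** -/
theorem eventually_finite [QuasiSeparatedSpace S] (Y : AlgSp.Space S) (D : I ⥤ AlgSp.Sp S)
    (hD : ∀ i, AlgSp.IsAlgSpace (D.obj i)) (t : D ⟶ (Functor.const I).obj Y.obj)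
    (hDf : ∀ (i j : I) (φ : i ⟶ j), AlgSp.IsFiniteMor (D.map φ))
    (c : Cone D) (hc : IsLimit c) (g : c.pt ⟶ Y.obj) (hg : ∀ i, c.π.app i ≫ t.app i = g)
    (hqc : ∀ i, AlgSp.IsQuasiCompactSp (D.obj i)) (hqs : ∀ i, AlgSp.IsQuasiSeparatedSp (D.obj i))
    (hYqc : AlgSp.IsQuasiCompactSp Y.obj) (hYqs : AlgSp.IsQuasiSeparatedSp Y.obj)
    (hft : ∀ i, AlgSp.LocP @LocallyOfFiniteType (t.app i)) (hX : AlgSp.IsIntegralMor g) :
    ∃ i₀ : I, ∀ (i : I) (_ : i ⟶ i₀), AlgSp.IsFiniteMor (t.app i) := by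
  have hDa : ∀ (i j : I) (φ : i ⟶ j), AlgSp.IsAffineMor (D.map φ) := fun i j φ =>
    isAffineMor_of_isFiniteMor _ (hDf i j φ)
  have tnat : ∀ {i j : I} (φ : i ⟶ j), D.map φ ≫ t.app j = t.app i := fun φ =>
    (t.naturality φ).trans (Category.comp_id _)
  obtain ⟨i₀, H₀⟩ := Groth.Agent.S10060.result S Y D hD t hDa c hc g hg hqc hqs hYqc hYqs
    (isAffineMor_of_isIntegralMor g hX)
  obtain ⟨V, v, hV, hve, hvs⟩ := (Groth.Agent.S10180.result Y).1 hYqc
  haveI := hV
  have haff₀ : AlgSp.IsAffineMor (t.app i₀) := H₀ i₀ (𝟙 _)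
  obtain ⟨W₀, ι₀, fst₀, sq₀, hW₀⟩ := haff₀ hV v
  haveI := hW₀
  -- `W₀ ⟶ V` is locally of finite type
  have hrep₀ : AlgSp.RepWith @IsAffineHom (t.app i₀) :=
    Groth.Agent.Lib.T2H7.StageAffC.repWith_of_isAffineMor _ haff₀
  have hrlft : AlgSp.RepWith @LocallyOfFiniteType (t.app i₀) :=
    (Groth.Agent.S9948.result @LocallyOfFiniteType (Or.inl rfl) (X := ⟨D.obj i₀, hD i₀⟩) (Y := Y)
      (ObjectProperty.homMk (t.app i₀)) hrep₀.1).1 (hft i₀)
  haveI hι₀lft : LocallyOfFiniteType ι₀.left := hrlft.2 v fst₀ ι₀ sq₀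
  -- the system of affine schemes `W_j = X_j ×_Y V`
  have hDr : ∀ (i j : I) (φ : i ⟶ j), AlgSp.RepWith @IsAffineHom (D.map φ) := fun i j φ =>
    Groth.Agent.Lib.T2H7.StageAffC.repWith_of_isAffineMor _ (hDa i j φ)
  obtain ⟨E, ιj, pj, cW, fstW, sqj, haff, ⟨hcW⟩, sqW, hfst, hE1, hE2⟩ :=
    Groth.Agent.Lib.T2H7.LimDataRep.exists_limit_data_rep D hDr c hc i₀ fst₀
  have hsqw : ∀ {j k : Over i₀} (ψ : j ⟶ k),
      IsPullback (pj j) ((AlgSp.yon S).map (E.map ψ)) (D.map ψ.left) (pj k) := by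
    intro j k ψ
    refine IsPullback.of_bot ?_ (hE2 ψ).symm (sqj k)
    rw [← Functor.map_comp, hE1, ← D.map_comp, Over.w ψ]
    exact sqj j
  have hEaff : ∀ j : Over i₀, IsAffine (E.obj j).left := fun j => by
    haveI : IsAffineHom (ιj j).left := haff j
    exact isAffine_of_isAffineHom (ιj j).left
  have hιfin : ∀ j : Over i₀, IsFinite (ιj j).left := fun j =>
    isFinite_of_isFiniteMor (D.map j.hom) (hDf _ _ j.hom) hW₀ fst₀ (pj j) (ιj j) (sqj j)
  let tV : (E ⋙ Over.forget S) ⟶ (Functor.const (Over i₀)).obj V.left :=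
    { app := fun j => (ιj j ≫ ι₀).left
      naturality := fun j k ψ => by
        simp only [Functor.comp_obj, Over.forget_obj, Functor.const_obj_obj, Functor.comp_map,
          Over.forget_map, Functor.const_obj_map, Category.comp_id]
        rw [← Over.comp_left, ← Category.assoc, hE1] }
  haveI : ∀ j : Over i₀, IsAffine ((E ⋙ Over.forget S).obj j) := hEaff
  haveI : ∀ {j k : Over i₀} (ψ : j ⟶ k), IsFinite ((E ⋙ Over.forget S).map ψ) :=
    fun {j k} ψ =>
      isFinite_of_isFiniteMor (D.map ψ.left) (hDf _ _ ψ.left) (hEaff k) (pj k) (pj j) (E.map ψ)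
        (hsqw ψ)
  haveI : ∀ j : Over i₀, LocallyOfFiniteType (tV.app j) := fun j => by
    haveI := hιfin j
    change LocallyOfFiniteType (ιj j ≫ ι₀).left
    rw [Over.comp_left]
    infer_instance
  let j₀ : Over i₀ := Over.mk (𝟙 i₀)
  haveI : IsIntegralHom (((Over.forget S).mapCone cW).π.app j₀ ≫ tV.app j₀) := by
    have sq : IsPullback fstW ((AlgSp.yon S).map (cW.π.app j₀ ≫ ιj j₀ ≫ ι₀)) g v := by
      have h := sqW.paste_vert sq₀
      rw [← Functor.map_comp, hg i₀, Category.assoc] at h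
      exact h
    have h1 : IsIntegralHom (cW.π.app j₀ ≫ ιj j₀ ≫ ι₀).left :=
      isIntegralHom_of_isIntegralMor g hX hV v fstW _ sq
    exact h1
  obtain ⟨j, f, hj⟩ := Groth.Agent.Lib.T2H7.FinStage.exists_isFinite_of_isLimit
    (E ⋙ Over.forget S) tV ((Over.forget S).mapCone cW) hcW j₀
  haveI hj' : IsFinite (ιj j ≫ ι₀).left := hj
  -- descend along the chart
  have sqd : IsPullback (pj j) ((AlgSp.yon S).map (ιj j ≫ ι₀)) (t.app j.left) v := by
    have h := (sqj j).paste_vert sq₀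
    rw [← Functor.map_comp, tnat] at h
    exact h
  have hfinj : AlgSp.IsFiniteMor (t.app j.left) :=
    (Groth.Agent.Lib.T2H1.AffDesc.of_chart_of_isLocalOnBase (Groth.Agent.S10540.result S)
      (X := ⟨D.obj j.left, hD j.left⟩) (Y := Y) (ObjectProperty.homMk (t.app j.left)) V v hve hvs
      _ _ sqd).2 (Groth.Agent.Lib.T2H1.LqfSepRep.isFiniteMor_yon_map (ιj j ≫ ι₀))
  refine ⟨j.left, fun i φ => ?_⟩
  rw [← tnat φ]
  exact isFiniteMor_comp _ _ (hDf _ _ φ) hfinj

end

end Groth.Agent.Lib.T2H7.FinStageB
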