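import Mathlib
import Groth.Prelude.Def_RegImm
import Groth.Agent.Lib.T2H7SyntL

/-!
# T2H7: local generators of the kernel of a presentation of a syntomic algebra

Around every prime, the kernel of a presentation `R[x₁..xₙ] → S` of a flat finitely presented
algebra with local complete intersection fibres is generated by at most `n` of its elements.
-/

set_option autoImplicit false
set_option linter.unusedSectionVars false
set_option linter.unusedVariables false
set_option linter.style.haveILetI false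

universe u
open MvPolynomial TensorProduct

namespace Groth.Agent.Lib.T2H7.FinSyntA

open Groth.Agent.Lib.Helper4.FibDim Groth.Agent.Lib.T2H7.SyntB Groth.Agent.Lib.T2H7.SyntF
open Groth.Agent.Lib.T2H7.SyntG Groth.Agent.Lib.T2H7.SyntI Groth.Agent.Lib.T2H7.SyntC

variable {R : Type u} [CommRing R] {n : ℕ}

/-- local generators of the kernel of a presentation of a syntomic algebra -/
theorem exists_local_generators (I : Ideal (MvPolynomial (Fin n) R)) (hI : I.FG)
    (hflat : Module.Flat R (MvPolynomial (Fin n) R ⧸ I))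
    (hfib : ∀ p : PrimeSpectrum R,
      Synt.IsLCIOver p.asIdeal.ResidueField (p.asIdeal.Fiber (MvPolynomial (Fin n) R ⧸ I)))
    (q' : Ideal (MvPolynomial (Fin n) R)) [hq'p : q'.IsPrime] (hIq' : I ≤ q') :
    ∃ s : MvPolynomial (Fin n) R, s ∉ q' ∧ ∃ (c : ℕ) (F : Fin c → MvPolynomial (Fin n) R),
      c ≤ n ∧ (∀ i, F i ∈ I) ∧ ∀ a ∈ I, s * a ∈ Ideal.span (Set.range F) := by
  obtain ⟨p, hp⟩ : ∃ p : Ideal R, p = q'.comap (algebraMap R (MvPolynomial (Fin n) R)) := ⟨_, rfl⟩
  have hpp : p.IsPrime := hp ▸ Ideal.comap_isPrime _ _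
  have hlo : q'.LiesOver p := ⟨hp⟩
  obtain ⟨Q₀, hQ₀p, hQ₀⟩ := exists_prime_comap p n q' hp.symm
  have hφ := φ_surjective p n I
  have hkQ : RingHom.ker (φ p n I).toRingHom ≤ Q₀ := by
    rw [ker_φ, Ideal.map_le_iff_le_comap, hQ₀]
    exact hIq'
  have h𝔮p : (Q₀.map (φ p n I).toRingHom).IsPrime := Ideal.map_isPrime_of_surjective hφ hkQ
  have hcm : (Q₀.map (φ p n I).toRingHom).comap (φ p n I).toRingHom = Q₀ := by
    have hφ' : Function.Surjective (φ p n I).toRingHom := hφ
    rw [Ideal.comap_map_of_surjective (φ p n I).toRingHom hφ', ← RingHom.ker_eq_comap_bot,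
      sup_eq_left]
    exact hkQ
  have hQ : ((Q₀.map (φ p n I).toRingHom).comap (φ p n I).toRingHom).comap (ι p n) = q' := by
    rw [hcm]
    exact hQ₀
  obtain ⟨rs, hreg, hrs⟩ := exists_isRegular_of_isLCIOver (φ p n I) hφ (hfib ⟨p, hpp⟩)
    (Q₀.map (φ p n I).toRingHom)
  rw [ker_φ] at hrs
  obtain ⟨F, hFI, hFreg, hFof⟩ := exists_lifts p n _ I rs hreg hrs
  have hgI : Ideal.ofList (List.ofFn F) ≤ I := by
    rw [ofList_ofFn, Ideal.span_le]
    rintro _ ⟨i, rfl⟩
    exact hFI i
  obtain ⟨s₁, hs₁, hgen⟩ := exists_mul_mem_ofList p n q' _ hQ I hI hflat (List.ofFn F) hgI hFof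
  have hFq' : Ideal.span (Set.range F) ≤ q' := by
    rw [← ofList_ofFn]
    exact hgI.trans hIq'
  have hpr := map_mk_isPrime (Ideal.span (Set.range F)) q' hFq'
  let qb : PrimeSpectrum (MvPolynomial (Fin n) R ⧸ Ideal.span (Set.range F)) :=
    ⟨q'.map (Ideal.Quotient.mk (Ideal.span (Set.range F))), hpr⟩
  have hqb : qb.asIdeal.comap (Ideal.Quotient.mk (Ideal.span (Set.range F))) = q' :=
    comap_map_mk _ _ hFq'
  obtain ⟨hcn, hld⟩ := fibLD_le_of_isRegular F p q' _ hQ qb hqb hFreg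
  refine ⟨s₁, hs₁, _, F, hcn, hFI, fun a ha => ?_⟩
  rw [← ofList_ofFn]
  exact hgen a ha

end Groth.Agent.Lib.T2H7.FinSyntA
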