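import Mathlib.RingTheory.Finiteness.Nakayama
import Mathlib.RingTheory.Ideal.Quotient.Operations
import Mathlib.RingTheory.Ideal.Colon
import Mathlib.RingTheory.Ideal.Maximal
import Mathlib.RingTheory.Localization.Away.Basic
import Mathlib.RingTheory.Localization.Algebra
import Mathlib.RingTheory.Ideal.Maps
import Mathlib.RingTheory.Ideal.Nonunits
import Mathlib.RingTheory.Finiteness.Basic

/-!
# T2H7: gluing local generators of an ideal over a semilocal quotient

Let `J` be a finitely generated ideal of a ring `P` such that `P ⧸ J` has finitely many maximal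
ideals, and suppose that at each of them `J` is locally generated by at most `n` elements.  Then
there are `n` elements `G` of `J` and an element `c`, invertible modulo `J`, with `c J ⊆ (G)`; hence
`P ⧸ J` is the localization of `P ⧸ (G)` at `c`.
-/

set_option autoImplicit false
set_option linter.unusedSectionVars false
set_option linter.unusedVariables false
set_option linter.style.haveILetI false

universe u

namespace Groth.Agent.Lib.T2H7.FinSyntB

variable {P : Type*} [CommRing P]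

/-- Nakayama's lemma at a maximal ideal, without localizing -/
theorem exists_notMem_mul_mem (N : Ideal P) [hN : N.IsMaximal] (J K : Ideal P) (hJ : J.FG)
    (s : P) (hs : s ∉ N) (h : ∀ a ∈ J, s * a ∈ K ⊔ N * J) :
    ∃ t, t ∉ N ∧ ∀ a ∈ J, t * a ∈ K := by
  obtain ⟨u, i, hi, hu⟩ := hN.exists_inv hs
  have h1 : J ≤ K ⊔ N * J := by
    intro a ha
    have e : a = u * (s * a) + i * a := by
      have : (u * s + i) * a = a := by rw [hu, one_mul]
      calc a = (u * s + i) * a := this.symm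
        _ = u * (s * a) + i * a := by ring
    rw [e]
    exact Ideal.add_mem _ (Ideal.mul_mem_left _ _ (h a ha))
      (Ideal.mem_sup_right (Ideal.mul_mem_mul hi ha))
  let M : Submodule P (P ⧸ K) := Submodule.map (Submodule.mkQ K) J
  have hM : M.FG := Submodule.FG.map (Submodule.mkQ K) hJ
  have hle : M ≤ N • M := by
    rintro _ ⟨a, ha, rfl⟩
    obtain ⟨k, hk, m, hm, rfl⟩ := Submodule.mem_sup.1 (h1 ha)
    have hk0 : Submodule.mkQ K k = 0 := (Submodule.Quotient.mk_eq_zero K).2 hk
    rw [map_add, hk0, zero_add]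
    have : N • M = Submodule.map (Submodule.mkQ K) (N • (J : Submodule P P)) :=
      (Submodule.map_smul'' N (J : Submodule P P) (Submodule.mkQ K)).symm
    rw [this]
    exact ⟨m, hm, rfl⟩
  obtain ⟨r, hr1, hr2⟩ :=
    Submodule.exists_sub_one_mem_and_smul_eq_zero_of_fg_of_le_smul N M hM hle
  refine ⟨r, fun hr => ?_, fun a ha => ?_⟩
  · apply hN.ne_top
    rw [Ideal.eq_top_iff_one]
    have := N.sub_mem hr hr1
    simpa using this
  · have h0 := hr2 _ ⟨a, ha, rfl⟩
    have h2 : Submodule.mkQ K (r * a) = 0 := by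
      rw [← smul_eq_mul, map_smul]
      exact h0
    exact (Submodule.Quotient.mk_eq_zero K).1 h2

/-- simultaneous approximation of finitely many families of elements of an ideal -/
theorem exists_glue {ι : Type*} [Finite ι] (N : ι → Ideal P) (hN : ∀ i, (N i).IsMaximal)
    (hne : ∀ i j, i ≠ j → N i ≠ N j) (J : Ideal P) {n : ℕ} (F : ι → Fin n → P)
    (hF : ∀ i j, F i j ∈ J) :
    ∃ G : Fin n → P, (∀ j, G j ∈ J) ∧ ∀ i j, G j - F i j ∈ N i * J := by
  classical
  haveI := Fintype.ofFinite ι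
  have hcop : Pairwise (Function.onFun IsCoprime N) := fun i j hij =>
    Ideal.isCoprime_of_isMaximal (hne i j hij)
  have hε : ∀ l : ι, ∃ e : P, ∀ i, e - (if i = l then 1 else 0) ∈ N i := fun l =>
    Ideal.exists_forall_sub_mem_ideal hcop (fun i => if i = l then 1 else 0)
  choose ε hε using hε
  refine ⟨fun j => ∑ l, ε l * F l j, fun j => ?_, fun i j => ?_⟩
  · exact J.sum_mem fun l _ => Ideal.mul_mem_left _ _ (hF l j)
  · have e : F i j = ∑ l, (if i = l then 1 else 0) * F l j := by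
      simp
    have e2 : ∑ l, ε l * F l j - F i j = ∑ l, (ε l - (if i = l then 1 else 0)) * F l j := by
      conv_lhs => rw [e]
      rw [← Finset.sum_sub_distrib]
      exact Finset.sum_congr rfl fun l _ => by ring
    rw [e2]
    exact (N i * J).sum_mem fun l _ => Ideal.mul_mem_mul (hε l i) (hF l j)

/-- from local annihilators to a global one, invertible modulo `J` -/
theorem exists_mul_mem_isUnit {ι : Type*} [Finite ι] (N : ι → Ideal P)
    (hN : ∀ i, (N i).IsMaximal) (J K : Ideal P)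
    (hmax : ∀ m : Ideal P, m.IsMaximal → J ≤ m → ∃ i, m = N i)
    (hloc : ∀ i, ∃ t, t ∉ N i ∧ ∀ a ∈ J, t * a ∈ K) :
    ∃ c, (∀ a ∈ J, c * a ∈ K) ∧ IsUnit (Ideal.Quotient.mk J c) := by
  classical
  haveI := Fintype.ofFinite ι
  by_cases hι : Nonempty ι
  swap
  · rw [not_nonempty_iff] at hι
    have hJ : J = ⊤ := by
      by_contra hJ
      obtain ⟨m, hm, hJm⟩ := Ideal.exists_le_maximal J hJ
      obtain ⟨i, -⟩ := hmax m hm hJm
      exact hι.elim i
    haveI : Subsingleton (P ⧸ J) := by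
      rw [hJ]
      exact Ideal.Quotient.subsingleton_iff.2 rfl
    exact ⟨0, fun a _ => by rw [zero_mul]; exact K.zero_mem, isUnit_of_subsingleton _⟩
  let A : Ideal P := (K : Submodule P P).colon (J : Set P)
  have hA : ∀ c, c ∈ A ↔ ∀ a ∈ J, c * a ∈ K := fun c => Submodule.mem_colon
  have hex : ∃ c ∈ A, ∀ i, c ∉ N i := by
    by_contra hcon
    have hsub : (A : Set P) ⊆ ⋃ i ∈ ((Finset.univ : Finset ι) : Set ι), (N i : Set P) := by
      intro c hc
      by_contra hc'
      apply hcon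
      refine ⟨c, hc, fun i hi => hc' ?_⟩
      exact Set.mem_biUnion (Finset.mem_coe.2 (Finset.mem_univ i)) hi
    obtain ⟨i₀⟩ := hι
    obtain ⟨i, -, hi⟩ := (Ideal.subset_union_prime (s := Finset.univ) (f := N) i₀ i₀
      (fun i _ _ _ => (hN i).isPrime)).1 hsub
    obtain ⟨t, ht, hta⟩ := hloc i
    exact ht (hi ((hA t).2 hta))
  obtain ⟨c, hcA, hc⟩ := hex
  refine ⟨c, (hA c).1 hcA, ?_⟩
  by_contra hu
  obtain ⟨m', hm', hcm'⟩ := exists_max_ideal_of_mem_nonunits (mem_nonunits_iff.2 hu)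
  have hmax' : (m'.comap (Ideal.Quotient.mk J)).IsMaximal :=
    Ideal.comap_isMaximal_of_surjective _ Ideal.Quotient.mk_surjective
  have hJle : J ≤ m'.comap (Ideal.Quotient.mk J) := by
    intro a ha
    show Ideal.Quotient.mk J a ∈ m'
    rw [Ideal.Quotient.eq_zero_iff_mem.2 ha]
    exact m'.zero_mem
  obtain ⟨i, hi⟩ := hmax _ hmax' hJle
  apply hc i
  rw [← hi]
  exact hcm'

/-- global generators up to an element invertible modulo `J`, from local generators at the
finitely many maximal ideals containing `J` -/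
theorem exists_generators_away {ι : Type*} [Finite ι] (N : ι → Ideal P)
    (hN : ∀ i, (N i).IsMaximal) (hne : ∀ i j, i ≠ j → N i ≠ N j) (J : Ideal P) (hJ : J.FG)
    (hmax : ∀ m : Ideal P, m.IsMaximal → J ≤ m → ∃ i, m = N i) (n : ℕ)
    (hloc : ∀ i, ∃ s, s ∉ N i ∧ ∃ (c : ℕ) (F : Fin c → P), c ≤ n ∧ (∀ k, F k ∈ J) ∧
      ∀ a ∈ J, s * a ∈ Ideal.span (Set.range F)) :
    ∃ (G : Fin n → P) (c : P), (∀ j, G j ∈ J) ∧ (∀ a ∈ J, c * a ∈ Ideal.span (Set.range G)) ∧
      IsUnit (Ideal.Quotient.mk J c) := by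
  classical
  choose s hs c F hcn hFJ hgen using hloc
  let F' : ι → Fin n → P := fun i j => if h : j.1 < c i then F i ⟨j.1, h⟩ else 0
  have hF'J : ∀ i j, F' i j ∈ J := by
    intro i j
    simp only [F']
    split_ifs with h
    · exact hFJ i _
    · exact J.zero_mem
  have hspan : ∀ i, Ideal.span (Set.range (F i)) ≤ Ideal.span (Set.range (F' i)) := by
    intro i
    rw [Ideal.span_le]
    rintro _ ⟨k, rfl⟩
    apply Ideal.subset_span
    refine ⟨⟨k.1, lt_of_lt_of_le k.2 (hcn i)⟩, ?_⟩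
    simp only [F']
    rw [dif_pos k.2]
  obtain ⟨G, hGJ, hG⟩ := exists_glue N hN hne J F' hF'J
  refine ⟨G, ?_⟩
  have hloc' : ∀ i, ∃ t, t ∉ N i ∧ ∀ a ∈ J, t * a ∈ Ideal.span (Set.range G) := by
    intro i
    haveI := hN i
    refine exists_notMem_mul_mem (N i) J (Ideal.span (Set.range G)) hJ (s i) (hs i) ?_
    intro a ha
    have h1 : Ideal.span (Set.range (F' i)) ≤ Ideal.span (Set.range G) ⊔ N i * J := by
      rw [Ideal.span_le]
      rintro _ ⟨j, rfl⟩
      have e : F' i j = G j - (G j - F' i j) := by ring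
      show F' i j ∈ Ideal.span (Set.range G) ⊔ N i * J
      rw [e]
      exact Ideal.sub_mem _ (Ideal.mem_sup_left (Ideal.subset_span ⟨j, rfl⟩))
        (Ideal.mem_sup_right (hG i j))
    exact h1 (hspan i (hgen i a ha))
  obtain ⟨c₀, hc₀, hu⟩ := exists_mul_mem_isUnit N hN J (Ideal.span (Set.range G)) hmax hloc'
  exact ⟨c₀, hGJ, hc₀, hu⟩

section Away

variable {A : Type*} [CommRing A] [Algebra A P]

/-- if `c J ⊆ K ⊆ J` and `c` is invertible modulo `J`, then `P ⧸ J` is the localization of `P ⧸ K`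
at `c` -/
theorem nonempty_algEquiv_away (J K : Ideal P) (hKJ : K ≤ J) (c : P)
    (hc : ∀ a ∈ J, c * a ∈ K) (hu : IsUnit (Ideal.Quotient.mk J c)) :
    Nonempty (Localization.Away (Ideal.Quotient.mk K c) ≃ₐ[A] P ⧸ J) := by
  let φ : P ⧸ K →ₐ[A] P ⧸ J := Ideal.Quotient.factorₐ A hKJ
  have hφ : ∀ x : P, φ (Ideal.Quotient.mk K x) = Ideal.Quotient.mk J x := fun x => rfl
  have hunit : ∀ y : Submonoid.powers (Ideal.Quotient.mk K c), IsUnit (φ y) := by
    rintro ⟨_, k, rfl⟩
    show IsUnit (φ (Ideal.Quotient.mk K c ^ k))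
    rw [map_pow, hφ]
    exact hu.pow k
  let ψ : Localization.Away (Ideal.Quotient.mk K c) →ₐ[A] P ⧸ J :=
    IsLocalization.liftAlgHom (M := Submonoid.powers (Ideal.Quotient.mk K c)) (f := φ) hunit
  have hψ : ∀ x : P ⧸ K, ψ (algebraMap _ _ x) = φ x := fun x =>
    IsLocalization.lift_eq _ x
  refine ⟨AlgEquiv.ofBijective ψ ⟨?_, ?_⟩⟩
  · rw [injective_iff_map_eq_zero]
    intro z hz
    obtain ⟨x, m, rfl⟩ := IsLocalization.exists_mk'_eq
      (Submonoid.powers (Ideal.Quotient.mk K c)) z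
    have h1 : ψ (algebraMap _ _ x) = 0 := by
      have := IsLocalization.mk'_spec (Localization.Away (Ideal.Quotient.mk K c)) x m
      rw [← this, map_mul, hz, zero_mul]
    rw [hψ] at h1
    obtain ⟨x', rfl⟩ := Ideal.Quotient.mk_surjective x
    rw [hφ, Ideal.Quotient.eq_zero_iff_mem] at h1
    rw [IsLocalization.mk'_eq_zero_iff]
    refine ⟨⟨Ideal.Quotient.mk K c, 1, pow_one _⟩, ?_⟩
    show Ideal.Quotient.mk K c * Ideal.Quotient.mk K x' = 0
    rw [← map_mul, Ideal.Quotient.eq_zero_iff_mem]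
    exact hc x' h1
  · intro y
    obtain ⟨y', rfl⟩ := Ideal.Quotient.mk_surjective y
    exact ⟨algebraMap _ _ (Ideal.Quotient.mk K y'), by rw [hψ, hφ]⟩

end Away

end Groth.Agent.Lib.T2H7.FinSyntB
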