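import Mathlib
import Groth.Prelude.Def_RegImm
import Groth.Agent.Lib.T2H7FinSyntA
import Groth.Agent.Lib.T2H7FinSyntB
import Groth.Agent.Lib.T2H7SyntE
import Groth.Agent.Lib.T2H9SyntComp

/-!
# T2H7: finite syntomic algebras over a local ring are presented by as many equations as variables
-/

set_option autoImplicit false
set_option linter.unusedSectionVars false
set_option linter.unusedVariables false
set_option linter.style.haveILetI false

universe u
open MvPolynomial TensorProduct

namespace Groth.Agent.Lib.T2H7.FinSyntC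

open Groth.Agent.Lib.T2H7.SyntI Groth.Agent.Lib.T2H7.FinSyntA Groth.Agent.Lib.T2H7.FinSyntB

theorem finite_maximalSpectrum (A B : Type u) [CommRing A] [IsLocalRing A] [CommRing B]
    [Algebra A B] [Module.Finite A B] : Finite (MaximalSpectrum B) := by
  have hfin := Algebra.QuasiFinite.finite_primesOver (R := A) (S := B) (IsLocalRing.maximalIdeal A)
  haveI : Algebra.IsIntegral A B := inferInstance
  haveI := hfin.to_subtype
  let g : MaximalSpectrum B → (IsLocalRing.maximalIdeal A).primesOver B := fun i =>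
    ⟨i.asIdeal, i.isMaximal.isPrime, ⟨by
      haveI := i.isMaximal
      exact (IsLocalRing.eq_maximalIdeal
        (Ideal.isMaximal_comap_of_isIntegral_of_isMaximal (R := A) i.asIdeal)).symm⟩⟩
  refine Finite.of_injective g ?_
  intro i j h
  exact MaximalSpectrum.ext (congrArg (fun z => z.1) h)

variable (A B : Type u) [CommRing A] [IsLocalRing A] [CommRing B] [Algebra A B] [Module.Finite A B]

theorem isSyntomic_of_presentation (n : ℕ) (F : Fin n → MvPolynomial (Fin n) A)
    (e : B ≃ₐ[A] Synt.RelGCIRing A n n F) : Synt.IsSyntomic A B := by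
  haveI : Module.Finite A (Synt.RelGCIRing A n n F) := Module.Finite.equiv e.toLinearEquiv
  have hrel : Synt.IsRelGCI A n n F := by
    intro p hnt
    refine ⟨le_rfl, ?_⟩
    rw [Nat.sub_self, Nat.cast_zero]
    haveI := hnt
    haveI : Algebra.QuasiFinite A (Synt.RelGCIRing A n n F) := inferInstance
    haveI : IsArtinianRing (p.asIdeal.Fiber (Synt.RelGCIRing A n n F)) := inferInstance
    have h0 := (isArtinianRing_iff_isNoetherianRing_krullDimLE_zero
      (R := p.asIdeal.Fiber (Synt.RelGCIRing A n n F))).mp inferInstance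
    exact ringKrullDimZero_iff_ringKrullDim_eq_zero.mp h0.2
  exact Groth.Agent.Lib.T2H9.SyntComp.isSyntomic_of_algEquiv A _ B e.symm
    (Groth.Agent.Lib.T2H7.SyntE.isSyntomic_relGCIRing F hrel)

theorem exists_presentation_of_isSyntomic (h : Synt.IsSyntomic A B) :
    ∃ (n : ℕ) (F : Fin n → MvPolynomial (Fin n) A), Nonempty (B ≃ₐ[A] Synt.RelGCIRing A n n F) := by
  obtain ⟨hflat, hfp, hfib⟩ := h
  have hft : Algebra.FiniteType A B := inferInstance
  obtain ⟨n, f, hf⟩ := Algebra.FiniteType.iff_quotient_mvPolynomial''.mp hft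
  have hJfg : (RingHom.ker f.toRingHom).FG := Algebra.FinitePresentation.ker_fG_of_surjective f hf
  let e : (MvPolynomial (Fin n) A ⧸ RingHom.ker f.toRingHom) ≃ₐ[A] B :=
    Ideal.quotientKerAlgEquivOfSurjective hf
  have hflat' : Module.Flat A (MvPolynomial (Fin n) A ⧸ RingHom.ker f.toRingHom) :=
    Module.Flat.of_linearEquiv e.toLinearEquiv
  have hsyn : Synt.IsSyntomic A (MvPolynomial (Fin n) A ⧸ RingHom.ker f.toRingHom) :=
    Groth.Agent.Lib.T2H9.SyntComp.isSyntomic_of_algEquiv A B
      (MvPolynomial (Fin n) A ⧸ RingHom.ker f.toRingHom) e.symm ⟨hflat, hfp, hfib⟩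
  haveI : Finite (MaximalSpectrum B) := finite_maximalSpectrum A B
  have hf' : Function.Surjective f.toRingHom := hf
  let N : MaximalSpectrum B → Ideal (MvPolynomial (Fin n) A) := fun i =>
    i.asIdeal.comap f.toRingHom
  have hN : ∀ i, (N i).IsMaximal := fun i =>
    haveI := i.isMaximal
    Ideal.comap_isMaximal_of_surjective _ hf'
  have hne : ∀ i j, i ≠ j → N i ≠ N j := fun i j hij h =>
    hij (MaximalSpectrum.ext (Ideal.comap_injective_of_surjective _ hf' h))
  have hJN : ∀ i, RingHom.ker f.toRingHom ≤ N i := fun i => by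
    rw [RingHom.ker_eq_comap_bot]
    exact Ideal.comap_mono bot_le
  have hmax : ∀ m : Ideal (MvPolynomial (Fin n) A), m.IsMaximal → RingHom.ker f.toRingHom ≤ m →
      ∃ i, m = N i := by
    intro m hm hJm
    have hcm : (m.map f.toRingHom).comap f.toRingHom = m := by
      rw [Ideal.comap_map_of_surjective _ hf', ← RingHom.ker_eq_comap_bot, sup_eq_left.2 hJm]
    have h1 : (m.map f.toRingHom).IsMaximal := by
      refine (Ideal.map_eq_top_or_isMaximal_of_surjective _ hf' hm).resolve_left fun htop => ?_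
      rw [htop, Ideal.comap_top] at hcm
      exact hm.ne_top hcm.symm
    exact ⟨⟨m.map f.toRingHom, h1⟩, hcm.symm⟩
  have hloc : ∀ i, ∃ s, s ∉ N i ∧ ∃ (c : ℕ) (F : Fin c → MvPolynomial (Fin n) A), c ≤ n ∧
      (∀ k, F k ∈ RingHom.ker f.toRingHom) ∧
      ∀ a ∈ RingHom.ker f.toRingHom, s * a ∈ Ideal.span (Set.range F) := by
    intro i
    haveI : (N i).IsPrime := (hN i).isPrime
    exact exists_local_generators _ hJfg hflat' hsyn.2.2 (N i) (hJN i)
  obtain ⟨G, c, hGJ, hc, hu⟩ := exists_generators_away N hN hne _ hJfg hmax n hloc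
  have hKJ : Ideal.span (Set.range G) ≤ RingHom.ker f.toRingHom := by
    rw [Ideal.span_le]
    rintro _ ⟨j, rfl⟩
    exact hGJ j
  obtain ⟨e₁⟩ := nonempty_algEquiv_away (A := A) _ _ hKJ c hc hu
  exact ⟨n + 1, snocF G c, ⟨(e.symm.trans e₁.symm).trans (locEquiv G c)⟩⟩

theorem isSyntomic_iff : Synt.IsSyntomic A B ↔
    ∃ (n : ℕ) (F : Fin n → MvPolynomial (Fin n) A), Nonempty (B ≃ₐ[A] Synt.RelGCIRing A n n F) :=
  ⟨exists_presentation_of_isSyntomic A B, fun ⟨n, F, ⟨e⟩⟩ => isSyntomic_of_presentation A B n F e⟩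

end Groth.Agent.Lib.T2H7.FinSyntC
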