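import Mathlib

/-!
Pure algebra behind free actions of diagonalisable groups on affine schemes: a coaction
`ρ : A → A[G]` of the group algebra, its homogeneous elements, stable ideals, and the fact that for
a free coaction every degree contains elements generating the unit ideal.
-/

set_option autoImplicit false
set_option linter.unusedSectionVars false
set_option linter.unusedVariables false
set_option linter.style.haveILetI false
universe u

namespace Groth.Agent.Lib.T2H7.FreeDiagA

open MonoidAlgebra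

variable {A : Type u} [CommRing A] {G : Type} [CommGroup G]

/-- evaluation of `A[G]` at a point `x` and a character `g`. -/
noncomputable def ev {B : Type u} [CommRing B] (x : A →+* B) (g : G →* B) :
    MonoidAlgebra A G →+* B :=
  MonoidAlgebra.liftNCRingHom x g (fun _ _ => Commute.all _ _)

theorem ev_single {B : Type u} [CommRing B] (x : A →+* B) (g : G →* B) (m : G) (c : A) :
    ev x g (single m c) = x c * g m :=
  liftNCRingHom_single _ _ _ _ _

theorem ev_apply {B : Type u} [CommRing B] (x : A →+* B) (g : G →* B) (f : MonoidAlgebra A G) :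
    ev x g f = f.coeff.sum (fun n c => x c * g n) := by
  conv_lhs => rw [← sum_coeff_single f]
  rw [map_finsuppSum]
  simp only [ev_single]

theorem ev_congr {B : Type u} [CommRing B] (x : A →+* B) (g g' : G →* B)
    (f : MonoidAlgebra A G) (h : ∀ n, x (f.coeff n) * g n = x (f.coeff n) * g' n) :
    ev x g f = ev x g' f := by
  rw [ev_apply, ev_apply]
  exact Finsupp.sum_congr fun n _ => h n

theorem ev_one_eq {B : Type u} [CommRing B] (x : A →+* B) :
    ev x (1 : G →* B) = x.comp (ev (RingHom.id A) (1 : G →* A)) := by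
  apply MonoidAlgebra.ringHom_ext
  · intro r
    rw [RingHom.comp_apply, ev_single, ev_single]
    simp
  · intro m
    rw [RingHom.comp_apply, ev_single, ev_single]
    simp

/-- the action of a character on a point through the coaction. -/
noncomputable def act (ρ : A →+* MonoidAlgebra A G) {B : Type u} [CommRing B] (x : A →+* B)
    (g : G →* B) : A →+* B :=
  (ev x g).comp ρ

theorem act_apply (ρ : A →+* MonoidAlgebra A G) {B : Type u} [CommRing B] (x : A →+* B)
    (g : G →* B) (a : A) : act ρ x g a = ev x g (ρ a) := rfl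

/-- `ρ` is a coaction. -/
structure IsCoact (ρ : A →+* MonoidAlgebra A G) : Prop where
  one : ∀ a, ev (RingHom.id A) (1 : G →* A) (ρ a) = a
  assoc : ∀ {B : Type u} [CommRing B] (x : A →+* B) (g h : G →* B),
    act ρ x (g * h) = act ρ (act ρ x h) g

/-- the coaction is free. -/
def IsFree (ρ : A →+* MonoidAlgebra A G) : Prop :=
  ∀ {B : Type u} [CommRing B] (x : A →+* B) (g : G →* B), act ρ x g = x → ∀ m, g m = 1

section Hom

variable {ρ : A →+* MonoidAlgebra A G}

theorem act_one (hρ : IsCoact ρ) {B : Type u} [CommRing B] (x : A →+* B) :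
    act ρ x (1 : G →* B) = x := by
  ext a
  rw [act_apply, ev_one_eq, RingHom.comp_apply, hρ.one]

/-- the coefficients of `ρ a` are homogeneous. -/
theorem rho_coeff (hρ : IsCoact ρ) (a : A) (n : G) :
    ρ ((ρ a).coeff n) = single n ((ρ a).coeff n) := by
  let B := MonoidAlgebra (MonoidAlgebra A G) G
  let x : A →+* B := (singleOneRingHom : MonoidAlgebra A G →+* B).comp
    (singleOneRingHom : A →+* MonoidAlgebra A G)
  let h : G →* B := ((singleOneRingHom : MonoidAlgebra A G →+* B) : MonoidAlgebra A G →* B).comp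
    (of A G)
  let g : G →* B := of (MonoidAlgebra A G) G
  have hx : ∀ c, x c = single 1 (single 1 c) := fun c => rfl
  have hh : ∀ m, h m = single 1 (single m 1) := fun m => rfl
  have hg : ∀ m, g m = single m 1 := fun m => rfl
  have h1 : ev x h = (singleOneRingHom : MonoidAlgebra A G →+* B) := by
    apply MonoidAlgebra.ringHom_ext
    · intro r
      rw [ev_single, map_one, mul_one]
      rfl
    · intro m
      rw [ev_single, map_one, one_mul]
      rfl
  have h2 : ∀ (f : MonoidAlgebra A G) (k : G),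
      (ev ((singleOneRingHom : MonoidAlgebra A G →+* B).comp ρ) g f).coeff k = ρ (f.coeff k) := by
    intro f
    induction f using MonoidAlgebra.induction_linear with
    | zero => intro k; simp
    | add f₁ f₂ h₁ h₂ =>
      intro k
      rw [map_add, coeff_add, Finsupp.add_apply, h₁, h₂, coeff_add, Finsupp.add_apply, map_add]
    | single m c =>
      intro k
      rw [ev_single, hg, RingHom.comp_apply]
      show (single 1 (ρ c) * single m 1 : B).coeff k = _
      rw [single_mul_single, one_mul, mul_one, coeff_single, coeff_single]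
      by_cases hmk : m = k
      · subst hmk
        rw [Finsupp.single_eq_same, Finsupp.single_eq_same]
      · rw [Finsupp.single_eq_of_ne' hmk, Finsupp.single_eq_of_ne' hmk, map_zero]
  have h3 : ∀ (f : MonoidAlgebra A G) (k : G),
      (ev x (g * h) f).coeff k = single k (f.coeff k) := by
    intro f
    induction f using MonoidAlgebra.induction_linear with
    | zero => intro k; simp
    | add f₁ f₂ h₁ h₂ =>
      intro k
      rw [map_add, coeff_add, Finsupp.add_apply, h₁, h₂, coeff_add, Finsupp.add_apply, single_add]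
    | single m c =>
      intro k
      rw [ev_single, MonoidHom.mul_apply, hg, hh, hx, single_mul_single, single_mul_single,
        mul_one, one_mul, one_mul, single_mul_single, one_mul, mul_one, coeff_single, coeff_single]
      by_cases hmk : m = k
      · subst hmk
        rw [Finsupp.single_eq_same, Finsupp.single_eq_same]
      · rw [Finsupp.single_eq_of_ne' hmk, Finsupp.single_eq_of_ne' hmk, single_zero]
  have h4 := congrArg (fun φ : A →+* B => (φ a).coeff n) (hρ.assoc x g h)
  simp only [act_apply] at h4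
  rw [h3] at h4
  have h5 : act ρ x h = (singleOneRingHom : MonoidAlgebra A G →+* B).comp ρ := by
    unfold act
    rw [h1]
  rw [h5, h2] at h4
  exact h4.symm

end Hom

section Stable

variable (ρ : A →+* MonoidAlgebra A G)

/-- homogeneous elements of degree `n`. -/
def Hm (n : G) : Set A := {c | ρ c = single n c}

/-- all coefficients lie in `J`. -/
def CoeffIn (J : Ideal A) (f : MonoidAlgebra A G) : Prop := ∀ n, f.coeff n ∈ J

/-- an ideal stable under the coaction. -/
def Stable (J : Ideal A) : Prop := ∀ a ∈ J, CoeffIn J (ρ a)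

variable {ρ}

theorem coeffIn_zero (J : Ideal A) : CoeffIn J (0 : MonoidAlgebra A G) := fun n => by
  rw [coeff_zero, Finsupp.zero_apply]
  exact J.zero_mem

theorem coeffIn_add {J : Ideal A} {f f' : MonoidAlgebra A G} (h : CoeffIn J f)
    (h' : CoeffIn J f') : CoeffIn J (f + f') := fun n => by
  rw [coeff_add, Finsupp.add_apply]
  exact J.add_mem (h n) (h' n)

theorem coeffIn_mul {J : Ideal A} (f' : MonoidAlgebra A G) {f : MonoidAlgebra A G}
    (h : CoeffIn J f) : CoeffIn J (f' * f) := by
  induction f' using MonoidAlgebra.induction_linear with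
  | zero => rw [zero_mul]; exact coeffIn_zero J
  | add f₁ f₂ h₁ h₂ => rw [add_mul]; exact coeffIn_add h₁ h₂
  | single m r =>
    intro n
    rw [coeff_single_mul_apply]
    exact J.mul_mem_left _ (h _)

theorem coeffIn_single {J : Ideal A} {c : A} (hc : c ∈ J) (n : G) :
    CoeffIn J (single n c : MonoidAlgebra A G) := fun k => by
  rw [coeff_single]
  by_cases hnk : n = k
  · subst hnk
    rw [Finsupp.single_eq_same]
    exact hc
  · rw [Finsupp.single_eq_of_ne' hnk]
    exact J.zero_mem

theorem coeffIn_mono {J J' : Ideal A} (h : J ≤ J') {f : MonoidAlgebra A G} (hf : CoeffIn J f) :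
    CoeffIn J' f := fun n => h (hf n)

theorem stable_span (s : Set A) (hs : ∀ c ∈ s, ∃ n, c ∈ Hm ρ n) : Stable ρ (Ideal.span s) := by
  intro a ha
  induction ha using Submodule.span_induction with
  | mem c hc =>
    obtain ⟨n, hn⟩ := hs c hc
    rw [show ρ c = single n c from hn]
    exact coeffIn_single (Ideal.subset_span hc) n
  | zero => rw [map_zero]; exact coeffIn_zero _
  | add a b _ _ h₁ h₂ => rw [map_add]; exact coeffIn_add h₁ h₂
  | smul b a _ h₁ =>
    rw [smul_eq_mul, map_mul]
    exact coeffIn_mul _ h₁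

theorem stable_sup_span {J : Ideal A} (hJ : Stable ρ J) {c : A} {n : G} (hc : c ∈ Hm ρ n) :
    Stable ρ (J ⊔ Ideal.span {c}) := by
  intro a ha
  obtain ⟨u, hu, v, hv, rfl⟩ := Submodule.mem_sup.1 ha
  rw [map_add]
  refine coeffIn_add (coeffIn_mono le_sup_left (hJ u hu)) ?_
  have h1 : Stable ρ (Ideal.span {c}) := stable_span {c} (fun c' hc' => by
    rw [Set.mem_singleton_iff.1 hc']
    exact ⟨n, hc⟩)
  exact coeffIn_mono le_sup_right (h1 v hv)

theorem exists_maximal_stable (I : Ideal A) (hI : Stable ρ I) (hne : I ≠ ⊤) :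
    ∃ 𝔐 : Ideal A, I ≤ 𝔐 ∧ Stable ρ 𝔐 ∧ 𝔐 ≠ ⊤ ∧
      ∀ J : Ideal A, 𝔐 ≤ J → Stable ρ J → J ≠ ⊤ → J ≤ 𝔐 := by
  obtain ⟨𝔐, hle, hmax⟩ := zorn_le_nonempty₀ {J : Ideal A | Stable ρ J ∧ J ≠ ⊤} (by
    intro c hc hchain y hy
    refine ⟨sSup c, ⟨?_, ?_⟩, fun z hz => le_sSup hz⟩
    · intro a ha n
      obtain ⟨J, hJc, haJ⟩ := (Submodule.mem_sSup_of_directed ⟨y, hy⟩ hchain.directedOn).1 ha
      exact (le_sSup hJc : J ≤ sSup c) ((hc hJc).1 a haJ n)
    · intro htop
      have h1 : (1 : A) ∈ sSup c := by rw [htop]; trivial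
      obtain ⟨J, hJc, h1J⟩ := (Submodule.mem_sSup_of_directed ⟨y, hy⟩ hchain.directedOn).1 h1
      exact (hc hJc).2 ((Ideal.eq_top_iff_one J).2 h1J)) I ⟨hI, hne⟩
  refine ⟨𝔐, hle, hmax.prop.1, hmax.prop.2, fun J hJ hJs hJne => ?_⟩
  exact hmax.le_of_ge ⟨hJs, hJne⟩ hJ

end Stable

section Main

variable {ρ : A →+* MonoidAlgebra A G}

theorem coeff_mem_Hm (hρ : IsCoact ρ) (a : A) (n : G) : (ρ a).coeff n ∈ Hm ρ n :=
  rho_coeff hρ a n

theorem coeff_self_of_mem_Hm {c : A} {n : G} (hc : c ∈ Hm ρ n) : (ρ c).coeff n = c := by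
  rw [show ρ c = single n c from hc, coeff_single, Finsupp.single_eq_same]

theorem one_mem_Hm : (1 : A) ∈ Hm ρ 1 := by
  show ρ 1 = single 1 1
  rw [map_one, one_def]

theorem mul_mem_Hm {c c' : A} {n n' : G} (hc : c ∈ Hm ρ n) (hc' : c' ∈ Hm ρ n') :
    c * c' ∈ Hm ρ (n * n') := by
  show ρ (c * c') = single (n * n') (c * c')
  rw [map_mul, show ρ c = single n c from hc, show ρ c' = single n' c' from hc',
    single_mul_single]

theorem coeff_mul_of_mem_Hm {c : A} {n : G} (hc : c ∈ Hm ρ n) (b : A) (k : G) :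
    (ρ (c * b)).coeff k = c * (ρ b).coeff (n⁻¹ * k) := by
  rw [map_mul, show ρ c = single n c from hc, coeff_single_mul_apply]

/-- for a free coaction the homogeneous elements of every degree generate the unit ideal. -/
theorem span_coeff_eq_top (hρ : IsCoact ρ) (hf : IsFree ρ) (m : G) :
    Ideal.span (Set.range fun a => (ρ a).coeff m) = ⊤ := by
  by_contra hne
  have hIs : Stable ρ (Ideal.span (Set.range fun a => (ρ a).coeff m)) :=
    stable_span _ (fun c hc => by
      obtain ⟨a, rfl⟩ := hc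
      exact ⟨m, coeff_mem_Hm hρ a m⟩)
  obtain ⟨𝔐, hI𝔐, h𝔐s, h𝔐ne, h𝔐max⟩ := exists_maximal_stable _ hIs hne
  have h1𝔐 : (1 : A) ∉ 𝔐 := fun h => h𝔐ne ((Ideal.eq_top_iff_one 𝔐).2 h)
  -- homogeneous elements outside `𝔐` are units modulo `𝔐`
  have hunit : ∀ {c : A} {n : G}, c ∈ Hm ρ n → c ∉ 𝔐 → ∃ u ∈ 𝔐, ∃ b : A, u + c * b = 1 := by
    intro c n hc hc𝔐
    have htop : 𝔐 ⊔ Ideal.span {c} = ⊤ := by
      by_contra hJ
      have hle := h𝔐max _ le_sup_left (stable_sup_span h𝔐s hc) hJ
      exact hc𝔐 (hle (Ideal.mem_sup_right (Ideal.subset_span (Set.mem_singleton c))))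
    have h1 : (1 : A) ∈ 𝔐 ⊔ Ideal.span {c} := by rw [htop]; trivial
    obtain ⟨u, hu, v, hv, huv⟩ := Submodule.mem_sup.1 h1
    obtain ⟨b, rfl⟩ := Ideal.mem_span_singleton'.1 hv
    exact ⟨u, hu, b, by rw [mul_comm c b]; exact huv⟩
  let N : Subgroup G :=
    { carrier := {n | ∃ c ∈ Hm ρ n, c ∉ 𝔐}
      one_mem' := ⟨1, one_mem_Hm, h1𝔐⟩
      mul_mem' := by
        rintro n n' ⟨c, hc, hc𝔐⟩ ⟨c', hc', hc'𝔐⟩
        refine ⟨c * c', mul_mem_Hm hc hc', fun hcc' => hc'𝔐 ?_⟩
        obtain ⟨u, hu, b, hub⟩ := hunit hc hc𝔐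
        have : c' = u * c' + b * (c * c') := by
          calc c' = (u + c * b) * c' := by rw [hub, one_mul]
            _ = u * c' + b * (c * c') := by ring
        rw [this]
        exact 𝔐.add_mem (𝔐.mul_mem_right _ hu) (𝔐.mul_mem_left _ hcc')
      inv_mem' := by
        rintro n ⟨c, hc, hc𝔐⟩
        obtain ⟨u, hu, b, hub⟩ := hunit hc hc𝔐
        refine ⟨(ρ b).coeff n⁻¹, coeff_mem_Hm hρ b n⁻¹, fun hb => h1𝔐 ?_⟩
        have h2 : (ρ (u + c * b)).coeff 1 = 1 := by
          rw [hub, RingHom.map_one ρ, coeff_one_one]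
        rw [map_add, coeff_add, Finsupp.add_apply, coeff_mul_of_mem_Hm hc, mul_one] at h2
        rw [← h2]
        exact 𝔐.add_mem (h𝔐s u hu 1) (𝔐.mul_mem_left _ hb) }
  have hmN : m ∉ N := by
    rintro ⟨c, hc, hc𝔐⟩
    apply hc𝔐
    apply hI𝔐
    rw [← coeff_self_of_mem_Hm hc]
    exact Ideal.subset_span ⟨c, rfl⟩
  haveI : Nontrivial (A ⧸ 𝔐) := Ideal.Quotient.nontrivial_iff.2 h𝔐ne
  let x : A →+* MonoidAlgebra (A ⧸ 𝔐) (G ⧸ N) :=
    (singleOneRingHom : (A ⧸ 𝔐) →+* MonoidAlgebra (A ⧸ 𝔐) (G ⧸ N)).comp (Ideal.Quotient.mk 𝔐)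
  let g : G →* MonoidAlgebra (A ⧸ 𝔐) (G ⧸ N) :=
    (of (A ⧸ 𝔐) (G ⧸ N)).comp (QuotientGroup.mk' N)
  have hx : ∀ c, x c = single 1 (Ideal.Quotient.mk 𝔐 c) := fun c => rfl
  have hg : ∀ n, g n = single (QuotientGroup.mk' N n) 1 := fun n => rfl
  have hact : act ρ x g = x := by
    refine RingHom.ext fun a => ?_
    have e1 : x a = ev x 1 (ρ a) := by rw [← act_apply, act_one hρ x]
    rw [act_apply, e1]
    apply ev_congr
    intro n
    by_cases hn : n ∈ N
    · have hn1 : QuotientGroup.mk' N n = 1 := (QuotientGroup.eq_one_iff n).2 hn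
      rw [hg, hn1]
      rfl
    · have hmem : (ρ a).coeff n ∈ 𝔐 := by
        by_contra hc
        exact hn ⟨_, coeff_mem_Hm hρ a n, hc⟩
      rw [hx, Ideal.Quotient.eq_zero_iff_mem.2 hmem, single_zero, zero_mul, zero_mul]
  have hgm := hf x g hact m
  rw [hg, one_def] at hgm
  have hm1 : QuotientGroup.mk' N m = 1 := (single_left_inj one_ne_zero).1 hgm
  exact hmN ((QuotientGroup.eq_one_iff m).1 hm1)

/-- a subring of `A[G]` containing the constants and the image of a free coaction is everything. -/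
theorem mem_of_subring (hρ : IsCoact ρ) (hf : IsFree ρ) (E : Subring (MonoidAlgebra A G))
    (h1 : ∀ s, ρ s ∈ E) (h2 : ∀ s, single 1 s ∈ E) (f : MonoidAlgebra A G) : f ∈ E := by
  have hsp : ∀ (m : G) (c : A), c ∈ Ideal.span (Set.range fun a => (ρ a).coeff m) →
      single m c ∈ E := by
    intro m c hc
    induction hc using Submodule.span_induction with
    | mem c hc =>
      obtain ⟨a, rfl⟩ := hc
      have := h1 ((ρ a).coeff m)
      rwa [rho_coeff hρ] at this
    | zero => rw [single_zero]; exact E.zero_mem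
    | add a b _ _ h₁ h₂ => rw [single_add]; exact E.add_mem h₁ h₂
    | smul b a _ h₁ =>
      have : single m (b • a) = single 1 b * single m a := by
        rw [single_mul_single, one_mul, smul_eq_mul]
      rw [this]
      exact E.mul_mem (h2 b) h₁
  have hm : ∀ (m : G) (c : A), single m c ∈ E := fun m c =>
    hsp m c (by rw [span_coeff_eq_top hρ hf m]; trivial)
  induction f using MonoidAlgebra.induction_linear with
  | zero => exact E.zero_mem
  | add f₁ f₂ h₁ h₂ => exact E.add_mem h₁ h₂
  | single m c => exact hm m c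

end Main

end Groth.Agent.Lib.T2H7.FreeDiagA
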