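import Mathlib
import Groth.Agent.Lib.T2H7FreeDiagA

/-!
# The fixed-point ideal of a coaction of a group algebra (helper7)

For a coaction `ρ : A → A[G]`, the ideal `fixIdeal ρ` generated by the homogeneous components of
nontrivial degree cuts out the fixed points; if `A` is smooth over `R` (and `ρ` is `R`-linear) so is
`A ⧸ fixIdeal ρ`.
-/

set_option autoImplicit false
set_option linter.unusedSectionVars false
set_option linter.unusedVariables false
set_option linter.style.haveILetI false
universe u
open MonoidAlgebra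

namespace Groth.Agent.Lib.T2H7.FixSmA

open Groth.Agent.Lib.T2H7.FreeDiagA

variable {A : Type u} [CommRing A] {G : Type} [CommGroup G]

/-- the ideal generated by the homogeneous components of nontrivial degree. -/
def fixIdeal (ρ : A →+* MonoidAlgebra A G) : Ideal A :=
  Ideal.span {c | ∃ (a : A) (m : G), m ≠ 1 ∧ (ρ a).coeff m = c}

theorem coeff_mem_fixIdeal (ρ : A →+* MonoidAlgebra A G) (a : A) {m : G} (hm : m ≠ 1) :
    (ρ a).coeff m ∈ fixIdeal ρ :=
  Ideal.subset_span ⟨a, m, hm, rfl⟩

variable {ρ : A →+* MonoidAlgebra A G}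

theorem ev_id_one_apply (f : MonoidAlgebra A G) :
    ev (RingHom.id A) (1 : G →* A) f = f.coeff.sum (fun _ c => c) := by
  rw [ev_apply]
  simp

theorem sub_coeff_one_mem (hρ : IsCoact ρ) (a : A) : a - (ρ a).coeff 1 ∈ fixIdeal ρ := by
  classical
  have h1 : (ρ a).coeff.sum (fun _ c => c) = a := by rw [← ev_id_one_apply, hρ.one]
  have h2 : (ρ a).coeff.sum (fun _ c => c) =
      (ρ a).coeff 1 + ∑ m ∈ (ρ a).coeff.support.erase 1, (ρ a).coeff m := by
    by_cases h : (1 : G) ∈ (ρ a).coeff.support
    · rw [Finsupp.sum, ← Finset.add_sum_erase _ _ h]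
    · rw [Finset.erase_eq_of_notMem h, Finsupp.notMem_support_iff.1 h, zero_add]
      rfl
  have h3 : a - (ρ a).coeff 1 = ∑ m ∈ (ρ a).coeff.support.erase 1, (ρ a).coeff m := by
    rw [sub_eq_iff_eq_add, add_comm, ← h2, h1]
  rw [h3]
  exact Ideal.sum_mem _ fun m hm => coeff_mem_fixIdeal ρ a (Finset.ne_of_mem_erase hm)

theorem act_eq_of_le_ker (hρ : IsCoact ρ) {B : Type u} [CommRing B] (x : A →+* B)
    (hx : fixIdeal ρ ≤ RingHom.ker x) (g : G →* B) : act ρ x g = x := by
  refine RingHom.ext fun a => ?_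
  have h : ∀ n, x ((ρ a).coeff n) * g n = x ((ρ a).coeff n) * (1 : G →* B) n := by
    intro n
    by_cases hn : n = 1
    · subst hn
      simp
    · have : x ((ρ a).coeff n) = 0 := hx (coeff_mem_fixIdeal ρ a hn)
      rw [this, zero_mul, zero_mul]
  rw [act_apply, ev_congr x g 1 (ρ a) h, ev_one_eq, RingHom.comp_apply, hρ.one]

theorem coeff_ev_univ {B : Type u} [CommRing B] (x : A →+* B) (f : MonoidAlgebra A G) (m : G) :
    (ev ((singleOneRingHom : B →+* MonoidAlgebra B G).comp x) (of B G) f).coeff m =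
      x (f.coeff m) := by
  induction f using MonoidAlgebra.induction_linear with
  | zero => simp
  | add f₁ f₂ h₁ h₂ =>
    rw [map_add, coeff_add, Finsupp.add_apply, h₁, h₂, coeff_add, Finsupp.add_apply, map_add]
  | single n c =>
    rw [ev_single, RingHom.comp_apply]
    show (single 1 (x c) * single n 1 : MonoidAlgebra B G).coeff m = _
    rw [single_mul_single, one_mul, mul_one, coeff_single, coeff_single]
    by_cases hnm : n = m
    · subst hnm
      rw [Finsupp.single_eq_same, Finsupp.single_eq_same]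
    · rw [Finsupp.single_eq_of_ne' hnm, Finsupp.single_eq_of_ne' hnm, map_zero]

theorem le_ker_of_univ {B : Type u} [CommRing B] (x : A →+* B)
    (h : act ρ ((singleOneRingHom : B →+* MonoidAlgebra B G).comp x) (of B G) =
      (singleOneRingHom : B →+* MonoidAlgebra B G).comp x) :
    fixIdeal ρ ≤ RingHom.ker x := by
  refine Ideal.span_le.2 ?_
  rintro _ ⟨a, m, hm, rfl⟩
  have h1 := congrArg (fun φ : A →+* MonoidAlgebra B G => (φ a).coeff m) h
  simp only [act_apply] at h1
  rw [coeff_ev_univ, RingHom.comp_apply] at h1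
  show x ((ρ a).coeff m) = 0
  rw [h1]
  show (single 1 (x a) : MonoidAlgebra B G).coeff m = 0
  rw [coeff_single, Finsupp.single_eq_of_ne' (Ne.symm hm)]

section Alg

variable {R : Type u} [CommRing R] [Algebra R A]

theorem fixIdeal_fg (hρ : IsCoact ρ)
    (hR : ∀ r : R, ρ (algebraMap R A r) = single 1 (algebraMap R A r))
    [Algebra.FiniteType R A] : (fixIdeal ρ).FG := by
  classical
  obtain ⟨s, hs⟩ := (Algebra.FiniteType.out : (⊤ : Subalgebra R A).FG)
  let gens : Finset A := s.biUnion fun a => ((ρ a).coeff.support.erase 1).image fun m => (ρ a).coeff m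
  refine ⟨gens, le_antisymm ?_ ?_⟩
  · refine Ideal.span_le.2 ?_
    intro c hc
    obtain ⟨a, -, hc⟩ := Finset.mem_biUnion.1 (Finset.mem_coe.1 hc)
    obtain ⟨m, hm, rfl⟩ := Finset.mem_image.1 hc
    exact coeff_mem_fixIdeal ρ a (Finset.ne_of_mem_erase hm)
  · -- the other inclusion, through the quotient
    set I' : Ideal A := Ideal.span (gens : Set A) with hI'
    let π : A →+* A ⧸ I' := Ideal.Quotient.mk I'
    let x' : A →+* MonoidAlgebra (A ⧸ I') G := (singleOneRingHom : _ →+* MonoidAlgebra (A ⧸ I') G).comp π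
    have hgen : ∀ a ∈ s, ∀ m, m ≠ 1 → π ((ρ a).coeff m) = 0 := by
      intro a ha m hm
      by_cases hms : m ∈ (ρ a).coeff.support
      · refine Ideal.Quotient.eq_zero_iff_mem.2 (Ideal.subset_span ?_)
        exact Finset.mem_coe.2 (Finset.mem_biUnion.2 ⟨a, ha,
          Finset.mem_image.2 ⟨m, Finset.mem_erase.2 ⟨hm, hms⟩, rfl⟩⟩)
      · rw [Finsupp.notMem_support_iff.1 hms, map_zero]
    have key : ∀ a : A, act ρ x' (of (A ⧸ I') G) a = x' a := by
      intro a
      have ha : a ∈ Algebra.adjoin R (s : Set A) := by rw [hs]; trivial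
      induction ha using Algebra.adjoin_induction with
      | mem a ha =>
        -- on generators
        refine MonoidAlgebra.ext (Finsupp.ext fun m => ?_)
        rw [act_apply, coeff_ev_univ]
        show π ((ρ a).coeff m) = (single 1 (π a) : MonoidAlgebra (A ⧸ I') G).coeff m
        rw [coeff_single]
        by_cases hm : m = 1
        · subst hm
          rw [Finsupp.single_eq_same]
          have h1 := sub_coeff_one_mem hρ a
          -- a - coeff 1 is a sum of the other coefficients, all killed by π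
          have h2 : π (a - (ρ a).coeff 1) = 0 := by
            have h3 : (ρ a).coeff.sum (fun _ c => c) = a := by rw [← ev_id_one_apply, hρ.one]
            have h4 : (ρ a).coeff.sum (fun _ c => c) =
                (ρ a).coeff 1 + ∑ m ∈ (ρ a).coeff.support.erase 1, (ρ a).coeff m := by
              by_cases h : (1 : G) ∈ (ρ a).coeff.support
              · rw [Finsupp.sum, ← Finset.add_sum_erase _ _ h]
              · rw [Finset.erase_eq_of_notMem h, Finsupp.notMem_support_iff.1 h, zero_add]
                rfl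
            have h5 : a - (ρ a).coeff 1 = ∑ m ∈ (ρ a).coeff.support.erase 1, (ρ a).coeff m := by
              rw [sub_eq_iff_eq_add, add_comm, ← h4, h3]
            rw [h5, map_sum]
            exact Finset.sum_eq_zero fun m hm => hgen a ha m (Finset.ne_of_mem_erase hm)
          rw [map_sub, sub_eq_zero] at h2
          exact h2.symm
        · rw [Finsupp.single_eq_of_ne' (Ne.symm hm)]
          exact hgen a ha m hm
      | algebraMap r =>
        rw [act_apply, hR, ev_single, map_one, mul_one]
      | add a b _ _ ha hb => rw [map_add, map_add, ha, hb]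
      | mul a b _ _ ha hb => rw [map_mul, map_mul, ha, hb]
    have h1 : fixIdeal ρ ≤ RingHom.ker π := le_ker_of_univ π (RingHom.ext key)
    rw [Ideal.mk_ker] at h1
    exact h1

theorem formallySmooth_quotient (hρ : IsCoact ρ)
    (hR : ∀ r : R, ρ (algebraMap R A r) = single 1 (algebraMap R A r))
    [Algebra.FormallySmooth R A] : Algebra.FormallySmooth R (A ⧸ fixIdeal ρ) := by
  classical
  refine Algebra.FormallySmooth.of_comp_surjective ?_
  intro C _ _ J hJ fb
  let f₀ : A →ₐ[R] C ⧸ J := fb.comp (Ideal.Quotient.mkₐ R (fixIdeal ρ))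
  obtain ⟨x, hx⟩ := Algebra.FormallySmooth.comp_surjective R A J hJ f₀
  have hxa : ∀ a : A, Ideal.Quotient.mk J (x a) = fb (Ideal.Quotient.mk (fixIdeal ρ) a) :=
    fun a => congrArg (fun φ : A →ₐ[R] C ⧸ J => φ a) hx
  have hxI : ∀ c ∈ fixIdeal ρ, x c ∈ J := by
    intro c hc
    have h1 := hxa c
    rw [Ideal.Quotient.eq_zero_iff_mem.2 hc, map_zero] at h1
    exact Ideal.Quotient.eq_zero_iff_mem.1 h1
  have hxm : ∀ (a : A) (m : G), m ≠ 1 → x ((ρ a).coeff m) ∈ J :=
    fun a m hm => hxI _ (coeff_mem_fixIdeal ρ a hm)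
  have hJ2 : ∀ u ∈ J, ∀ v ∈ J, u * v = 0 := by
    intro u hu v hv
    have : u * v ∈ J ^ 2 := by
      rw [pow_two]
      exact Ideal.mul_mem_mul hu hv
    rw [hJ] at this
    exact (Submodule.mem_bot C).1 this
  have he_mul : ∀ a b, x ((ρ (a * b)).coeff 1) = x ((ρ a).coeff 1) * x ((ρ b).coeff 1) := by
    intro a b
    rw [map_mul, coeff_mul_apply_left, Finsupp.sum, map_sum, Finset.sum_eq_single (1 : G)]
    · rw [inv_one, one_mul, map_mul]
    · intro h _ hh1
      rw [map_mul]
      refine hJ2 _ (hxm a h hh1) _ (hxm b _ ?_)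
      rw [mul_one]
      exact inv_ne_one.2 hh1
    · intro h1
      rw [Finsupp.notMem_support_iff.1 h1, zero_mul, map_zero]
  let x' : A →ₐ[R] C :=
    { toFun := fun a => x ((ρ a).coeff 1)
      map_one' := by
        show x ((ρ 1).coeff 1) = 1
        rw [map_one ρ, coeff_one_one, map_one x]
      map_mul' := he_mul
      map_zero' := by
        show x ((ρ 0).coeff 1) = 0
        rw [map_zero ρ, coeff_zero, Finsupp.zero_apply, map_zero x]
      map_add' := fun a b => by
        show x ((ρ (a + b)).coeff 1) = _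
        rw [map_add ρ, coeff_add, Finsupp.add_apply, map_add x]
      commutes' := fun r => by
        show x ((ρ (algebraMap R A r)).coeff 1) = _
        rw [hR, coeff_single, Finsupp.single_eq_same, AlgHom.commutes] }
  have hx'I : ∀ c ∈ fixIdeal ρ, x' c = 0 := by
    have hle : fixIdeal ρ ≤ RingHom.ker (x' : A →+* C) := by
      refine Ideal.span_le.2 ?_
      rintro _ ⟨b, m, hm, rfl⟩
      show x ((ρ ((ρ b).coeff m)).coeff 1) = 0
      rw [rho_coeff hρ b m, coeff_single, Finsupp.single_eq_of_ne' hm, map_zero]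
    exact fun c hc => hle hc
  refine ⟨Ideal.Quotient.liftₐ (fixIdeal ρ) x' hx'I, ?_⟩
  refine Ideal.Quotient.algHom_ext _ (AlgHom.ext fun a => ?_)
  show Ideal.Quotient.mk J (x ((ρ a).coeff 1)) = fb (Ideal.Quotient.mk (fixIdeal ρ) a)
  rw [← hxa a]
  refine (Ideal.Quotient.eq.2 ?_).symm
  rw [← map_sub]
  exact hxI _ (sub_coeff_one_mem hρ a)

theorem smooth_quotient (hρ : IsCoact ρ)
    (hR : ∀ r : R, ρ (algebraMap R A r) = single 1 (algebraMap R A r))
    [Algebra.Smooth R A] : Algebra.Smooth R (A ⧸ fixIdeal ρ) where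
  formallySmooth := formallySmooth_quotient hρ hR
  finitePresentation := Algebra.FinitePresentation.quotient (fixIdeal_fg hρ hR)

end Alg

end Groth.Agent.Lib.T2H7.FixSmA
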