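import Groth.Agent.Lib.T2H7FreeDiagC
import Groth.Agent.Lib.T2H7FixSmA

/-!
# Fixed points of an action of a diagonalisable group on an affine scheme (helper7)

Points with values in affine schemes are fixed iff their ring map kills `fixIdeal (rho a)`; the
fixed locus of a smooth affine scheme over an affine base is smooth.
-/

set_option autoImplicit false
set_option linter.unusedSectionVars false
set_option linter.unusedVariables false
set_option linter.style.haveILetI false
universe u
open CategoryTheory CategoryTheory.Limits MonoidalCategory CartesianMonoidalCategory MonObj GrpObj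
  AlgebraicGeometry

namespace Groth.Agent.Lib.T2H7.FixSmB

open Groth.Agent.Lib.T2H3.MultGa Groth.Agent.Lib.T2H7.MultActAlg Groth.Agent.Lib.T2H7.MultActCore
  Groth.Agent.Lib.Helper27.GaGm Groth.Agent.Lib.T2H7.FreeDiagA Groth.Agent.Lib.T2H7.DiagHomA
  Groth.Agent.Lib.T2H7.DiagDS Groth.Agent.Lib.T2H7.FreeDiagB Groth.Agent.Lib.T2H7.FreeDiagC
  Groth.Agent.Lib.T2H7.FixSmA

section Gen

variable {S : Scheme.{u}} {G X : Over S} [GrpObj G] (a : AlgGrp.Action G X)

/-- `x` is a fixed point of the action (after every base change). -/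
def IsFix {T : Over S} (x : T ⟶ X) : Prop :=
  ∀ (T' : Over S) (t : T' ⟶ T) (h : T' ⟶ G), lift h (t ≫ x) ≫ a.act = t ≫ x

variable {a}

theorem IsFix.precomp {T T₁ : Over S} {x : T ⟶ X} (hx : IsFix a x) (s : T₁ ⟶ T) :
    IsFix a (s ≫ x) := by
  intro T' t h
  rw [← Category.assoc]
  exact hx T' (t ≫ s) h

theorem isFix_iff_univ {T : Over S} (x : T ⟶ X) :
    IsFix a x ↔ (G ◁ x) ≫ a.act = snd G T ≫ x := by
  constructor
  · intro h
    have e : G ◁ x = lift (fst G T) (snd G T ≫ x) := by
      ext <;> simp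
    rw [e]
    exact h (G ⊗ T) (snd G T) (fst G T)
  · intro h T' t g
    have e : lift g (t ≫ x) = lift g t ≫ (G ◁ x) := by
      ext <;> simp
    rw [e, Category.assoc, h]
    simp

end Gen

section Pts

variable {S : Scheme.{u}} {M : Type} [AddCommGroup M] {X : Over S} [IsAffine X.left]

theorem ringOf_specMap_comp {B B' : Type u} [CommRing B] [CommRing B'] (ψ : B →+* B')
    (w : Spec (CommRingCat.of B) ⟶ X.left) :
    ringOf (Spec.map (CommRingCat.ofHom ψ) ≫ w) = ψ.comp (ringOf w) := by
  refine RingHom.ext fun s => ?_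
  apply toG_injective
  rw [toG_ringOf, Scheme.Hom.comp_appTop]
  show (Spec.map (CommRingCat.ofHom ψ)).appTop (w.appTop s) = _
  rw [← toG_ringOf w s, specMap_appTop_toG]
  rfl

end Pts

section Crit

variable {S : Scheme.{u}} {M : Type} [AddCommGroup M] {X : Over S} [IsAffine X.left]
  (a : AlgGrp.Action (Red.DS S M) X) {B : Type u} [CommRing B]

/-- a fixed point with values in an affine scheme kills the fixed-point ideal. -/
theorem le_ker_of_isFix {t : Spec (CommRingCat.of B) ⟶ S} (y : Over.mk t ⟶ X)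
    (hy : IsFix a y) :
    fixIdeal (A := Γ(X.left, ⊤)) (G := Multiplicative M) (rho a) ≤ RingHom.ker (ringOf y.left) := by
  let T : Over S := Over.mk t
  haveI : IsAffine T.left := inferInstanceAs (IsAffine (Spec (CommRingCat.of B)))
  let x₀T : Γ(T.left, ⊤) →+* MonoidAlgebra Γ(T.left, ⊤) (Multiplicative M) :=
    x₀ (M := M) (X := T)
  let g₀T : Multiplicative M →* MonoidAlgebra Γ(T.left, ⊤) (Multiplicative M) :=
    g₀ (M := M) (X := T)
  let t' : obj (hTop T) x₀T ⟶ T := bp (hTop T) x₀T
  let h : obj (hTop T) x₀T ⟶ Red.DS S M := gpt (S := S) x₀T g₀T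
  have h1 := hy _ t' h
  have h1' : (lift h (t' ≫ y) ≫ a.act).left = (t' ≫ y).left := by rw [h1]
  have e1 := act_gen a h (t' ≫ y)
  rw [charOf_gpt] at e1
  have e2 := left_eq_ringOf (X := X) (t' ≫ y).left
  have e3 := specMap_inj _ _ (e2.symm.trans (h1'.symm.trans e1))
  -- the ring map of `t' ≫ y`
  let w : Spec (CommRingCat.of Γ(T.left, ⊤)) ⟶ X.left := (hTop T).fromSpec ≫ y.left
  have e4 : ringOf (t' ≫ y).left = x₀T.comp (ringOf w) := by
    have : (t' ≫ y).left = Spec.map (CommRingCat.ofHom x₀T) ≫ w := by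
      rw [Over.comp_left]
      show (Spec.map (CommRingCat.ofHom x₀T) ≫ (hTop T).fromSpec) ≫ y.left = _
      rw [Category.assoc]
    rw [this]
    exact ringOf_specMap_comp x₀T w
  have e3' : actX a (x₀T.comp (ringOf w)) g₀T = x₀T.comp (ringOf w) := by
    rw [← e4]
    exact e3.symm
  have e5 : fixIdeal (A := Γ(X.left, ⊤)) (G := Multiplicative M) (rho a) ≤
      RingHom.ker (ringOf w) := le_ker_of_univ (ringOf w) e3'
  intro c hc
  have h2 : ringOf w c = 0 := e5 hc
  have h3 : toG (ringOf w c) = toG 0 := by rw [h2]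
  rw [toG_ringOf, Scheme.Hom.comp_appTop] at h3
  have h4 : (hTop T).fromSpec.appTop (y.left.appTop c) = toG (y.left.appTop c) :=
    fromSpec_appTop (X := T) _
  have h5 : toG (y.left.appTop c) = toG 0 := h4.symm.trans h3
  have h6 : y.left.appTop c = 0 := toG_injective h5
  show ringOf y.left c = 0
  apply toG_injective
  rw [toG_ringOf, h6]
  exact (map_zero _).symm

/-- a point with values in an affine scheme whose ring map kills the fixed-point ideal is fixed. -/
theorem isFix_of_le_ker {t : Spec (CommRingCat.of B) ⟶ S} (y : Over.mk t ⟶ X)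
    (hy : fixIdeal (A := Γ(X.left, ⊤)) (G := Multiplicative M) (rho a) ≤
      RingHom.ker (ringOf y.left)) : IsFix a y := by
  let T : Over S := Over.mk t
  haveI : IsAffine T.left := inferInstanceAs (IsAffine (Spec (CommRingCat.of B)))
  let x₀T : Γ(T.left, ⊤) →+* MonoidAlgebra Γ(T.left, ⊤) (Multiplicative M) :=
    x₀ (M := M) (X := T)
  let g₀T : Multiplicative M →* MonoidAlgebra Γ(T.left, ⊤) (Multiplicative M) :=
    g₀ (M := M) (X := T)
  let t' : obj (hTop T) x₀T ⟶ T := bp (hTop T) x₀T
  let h : obj (hTop T) x₀T ⟶ Red.DS S M := gpt (S := S) x₀T g₀T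
  let w : Spec (CommRingCat.of Γ(T.left, ⊤)) ⟶ X.left := (hTop T).fromSpec ≫ y.left
  have e4 : ringOf (t' ≫ y).left = x₀T.comp (ringOf w) := by
    have : (t' ≫ y).left = Spec.map (CommRingCat.ofHom x₀T) ≫ w := by
      rw [Over.comp_left]
      show (Spec.map (CommRingCat.ofHom x₀T) ≫ (hTop T).fromSpec) ≫ y.left = _
      rw [Category.assoc]
    rw [this]
    exact ringOf_specMap_comp x₀T w
  have hw : fixIdeal (A := Γ(X.left, ⊤)) (G := Multiplicative M) (rho a) ≤
      RingHom.ker (ringOf w) := by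
    intro c hc
    have h2 : ringOf y.left c = 0 := hy hc
    have h3 : y.left.appTop c = 0 := by
      rw [← toG_ringOf y.left c, h2]
      exact map_zero _
    show ringOf w c = 0
    apply toG_injective
    rw [toG_ringOf, Scheme.Hom.comp_appTop]
    show (hTop T).fromSpec.appTop (y.left.appTop c) = _
    rw [h3, map_zero]
    exact (map_zero _).symm
  have hle : fixIdeal (A := Γ(X.left, ⊤)) (G := Multiplicative M) (rho a) ≤
      RingHom.ker (ringOf (t' ≫ y).left) := by
    intro c hc
    show ringOf (t' ≫ y).left c = 0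
    rw [e4, RingHom.comp_apply, show ringOf w c = 0 from hw hc, map_zero]
  have key : lift h (t' ≫ y) ≫ a.act = t' ≫ y := by
    apply Over.OverMorphism.ext
    have e1 := act_gen a h (t' ≫ y)
    have e2 := left_eq_ringOf (X := X) (t' ≫ y).left
    have e3 : actX a (ringOf (t' ≫ y).left) (charOf h) = ringOf (t' ≫ y).left :=
      act_eq_of_le_ker (isCoact_rho a) _ hle _
    have e3' := congrArg (fun φ : Γ(X.left, ⊤) →+* _ =>
      Spec.map (CommRingCat.ofHom φ) ≫ (hTop X).fromSpec) e3
    exact e1.trans (e3'.trans e2.symm)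
  rw [isFix_iff_univ]
  haveI : IsIso (upt (S := S) (M := M) (X := T)) := isIso_upt M T
  rw [← cancel_epi (upt (S := S) (M := M) (X := T))]
  have hu1 : upt (S := S) (M := M) (X := T) ≫ (Red.DS S M ◁ y) ≫ a.act =
      lift h (t' ≫ y) ≫ a.act := by
    unfold upt
    rw [← Category.assoc, lift_whiskerLeft]
  have hu2 : upt (S := S) (M := M) (X := T) ≫ snd (Red.DS S M) T ≫ y = t' ≫ y := by
    unfold upt
    rw [← Category.assoc, lift_snd]
  rw [hu1, hu2]
  exact key

end Crit

section Smooth

variable {S : Scheme.{u}} {M : Type} [AddCommGroup M] {X : Over S} [IsAffine X.left]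
  (a : AlgGrp.Action (Red.DS S M) X)

/-- the coaction is linear over the functions of the base. -/
theorem rho_appTop (r : Γ(S, ⊤)) :
    rho a (X.hom.appTop r) = MonoidAlgebra.single 1 (X.hom.appTop r) := by
  apply toG_injective
  have h1 : toG (rho a (X.hom.appTop r)) =
      (upt (M := M) (X := X) ≫ a.act).left.appTop (X.hom.appTop r) := toG_ringOf _ _
  have h2 : toG ((x₀ (M := M) (X := X)) (X.hom.appTop r)) =
      (bp (hTop X) (x₀ (M := M) (X := X))).left.appTop (X.hom.appTop r) :=
    (bp_appTop (x₀ (M := M) (X := X)) _).symm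
  have h3 : (upt (M := M) (X := X) ≫ a.act).left ≫ X.hom =
      (bp (hTop X) (x₀ (M := M) (X := X))).left ≫ X.hom := by
    rw [Over.w, Over.w]
  have h4 := congrArg (fun f => f.appTop r) h3
  simp only [Scheme.Hom.comp_appTop] at h4
  exact h1.trans (h4.trans h2.symm)

/-- **Smoothness of the fixed locus** of an action of a diagonalisable group on a smooth affine
scheme over an affine base. -/
theorem smooth_fixed_split [IsAffine S] (hXs : Smooth X.hom) (F : Over S) (j : F ⟶ X)
    (hj : IsClosedImmersion j.left)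
    (hF : ∀ (T : Over S) (x : T ⟶ X), (∃ y : T ⟶ F, y ≫ j = x) ↔ IsFix a x) :
    Smooth F.hom := by
  let A := Γ(X.left, ⊤)
  let ρ : A →+* MonoidAlgebra A (Multiplicative M) := rho a
  have hρ : IsCoact ρ := isCoact_rho a
  let I : Ideal A := fixIdeal ρ
  let mkI : A →+* A ⧸ I := Ideal.Quotient.mk I
  -- the model of the fixed locus
  let FI : Over S := obj (hTop X) mkI
  let yI : FI ⟶ X := bp (hTop X) mkI
  have hyI : IsFix a yI := by
    refine isFix_of_le_ker a yI ?_
    have : ringOf yI.left = mkI := ringOf_comp mkI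
    rw [this, Ideal.mk_ker]
  obtain ⟨z, hz⟩ := (hF FI yI).2 hyI
  -- the fixed locus is affine
  haveI : IsAffineHom j.left := inferInstance
  haveI : IsAffine F.left := isAffine_of_isAffineHom j.left
  let B := Γ(F.left, ⊤)
  let t : Spec (CommRingCat.of B) ⟶ S := F.left.isoSpec.inv ≫ F.hom
  let ε : Over.mk t ⟶ F := Over.homMk F.left.isoSpec.inv rfl
  haveI : IsIso ε := by
    haveI : IsIso ε.left := inferInstanceAs (IsIso F.left.isoSpec.inv)
    haveI : IsIso ((Over.forget S).map ε) := inferInstanceAs (IsIso ε.left)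
    exact isIso_of_reflects_iso ε (Over.forget S)
  have hjfix : IsFix a j := (hF F j).1 ⟨𝟙 F, Category.id_comp j⟩
  let y : Over.mk t ⟶ X := ε ≫ j
  have hy : IsFix a y := hjfix.precomp ε
  have hker := le_ker_of_isFix a y hy
  let ψ : A →+* B := ringOf y.left
  let ψb : A ⧸ I →+* B := Ideal.Quotient.lift I ψ (fun c hc => hker hc)
  have hψb : ψb.comp mkI = ψ := Ideal.Quotient.lift_comp_mk I ψ _
  have hwl : Spec.map (CommRingCat.ofHom ψb) ≫ yI.left = y.left := by
    show Spec.map (CommRingCat.ofHom ψb) ≫ Spec.map (CommRingCat.ofHom mkI) ≫ (hTop X).fromSpec = _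
    rw [← Category.assoc, ← Spec.map_comp, ← CommRingCat.ofHom_comp, hψb]
    exact (left_eq_ringOf y.left).symm
  have hw : Spec.map (CommRingCat.ofHom ψb) ≫ FI.hom = t := by
    show Spec.map (CommRingCat.ofHom ψb) ≫ Spec.map (CommRingCat.ofHom mkI) ≫
      (hTop X).fromSpec ≫ X.hom = t
    rw [← Category.assoc, ← Spec.map_comp, ← CommRingCat.ofHom_comp, hψb, ← Category.assoc,
      ← left_eq_ringOf y.left]
    exact Over.w y
  let w : Over.mk t ⟶ FI := Over.homMk (Spec.map (CommRingCat.ofHom ψb)) hw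
  have hwy : w ≫ yI = y := Over.OverMorphism.ext hwl
  -- the comparison morphism and its inverse
  let u : F ⟶ FI := inv ε ≫ w
  have huy : u ≫ yI = j := by
    show (inv ε ≫ w) ≫ yI = j
    rw [Category.assoc, hwy]
    show inv ε ≫ ε ≫ j = j
    rw [IsIso.inv_hom_id_assoc]
  haveI : Mono j := by
    haveI : Mono ((Over.forget S).map j) := inferInstanceAs (Mono j.left)
    exact (Over.forget S).mono_of_mono_map inferInstance
  haveI : Mono yI := by
    haveI : IsClosedImmersion yI.left := by
      show IsClosedImmersion (Spec.map (CommRingCat.ofHom mkI) ≫ (hTop X).fromSpec)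
      haveI : IsClosedImmersion (Spec.map (CommRingCat.ofHom mkI)) :=
        IsClosedImmersion.spec_of_surjective _ Ideal.Quotient.mk_surjective
      haveI : IsIso (hTop X).fromSpec := by
        rw [IsAffineOpen.fromSpec_top]
        infer_instance
      infer_instance
    haveI : Mono ((Over.forget S).map yI) := inferInstanceAs (Mono yI.left)
    exact (Over.forget S).mono_of_mono_map inferInstance
  have h1 : u ≫ z = 𝟙 F := by
    rw [← cancel_mono j, Category.assoc, hz, huy, Category.id_comp]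
  have h2 : z ≫ u = 𝟙 FI := by
    rw [← cancel_mono yI, Category.assoc, huy, hz, Category.id_comp]
  haveI : IsIso u := ⟨z, h1, h2⟩
  haveI : IsIso u.left := inferInstanceAs (IsIso ((Over.forget S).map u))
  have hFhom : F.hom = u.left ≫ FI.hom := (Over.w u).symm
  rw [hFhom]
  refine (MorphismProperty.cancel_left_of_respectsIso @Smooth u.left FI.hom).2 ?_
  -- smoothness of the model
  let φ : Γ(S, ⊤) ⟶ Γ(X.left, ⊤) := X.hom.appTop
  have hφ : φ.hom.Smooth := (HasRingHomProperty.iff_of_isAffine (P := @Smooth)).1 hXs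
  have hFI : FI.hom = Spec.map (φ ≫ CommRingCat.ofHom mkI) ≫ S.isoSpec.inv := by
    show Spec.map (CommRingCat.ofHom mkI) ≫ (hTop X).fromSpec ≫ X.hom = _
    rw [IsAffineOpen.fromSpec_top, ← Scheme.isoSpec_inv_naturality, Spec.map_comp, Category.assoc]
  rw [hFI]
  refine (MorphismProperty.cancel_right_of_respectsIso @Smooth _ S.isoSpec.inv).2 ?_
  refine (HasRingHomProperty.Spec_iff (P := @Smooth)).2 ?_
  letI : Algebra Γ(S, ⊤) A := φ.hom.toAlgebra
  haveI : Algebra.Smooth Γ(S, ⊤) A := hφ
  have hR : ∀ r : Γ(S, ⊤), ρ (algebraMap Γ(S, ⊤) A r) =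
      MonoidAlgebra.single 1 (algebraMap Γ(S, ⊤) A r) := fun r => rho_appTop a r
  have hsm : Algebra.Smooth Γ(S, ⊤) (A ⧸ I) := smooth_quotient hρ hR
  have := (RingHom.smooth_algebraMap (R := Γ(S, ⊤)) (S := A ⧸ I)).2 hsm
  exact this

end Smooth

end Groth.Agent.Lib.T2H7.FixSmB
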