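import Mathlib
import Groth.Agent.Lib.T2H7WeilDescA
import Groth.Agent.Lib.T2H7IdealGlueOpen
import Groth.Agent.Lib.T2H7IdealGlue

/-!
Helper library (helper7): descent of closed subschemes representing a predicate on points.

`RepOn Pr q 𝓘₁` says that the closed subscheme `V(𝓘₁)` of `X₁` represents the predicate `Pr` (on points
of `X`) restricted along `q : X₁ ⟶ X`.  Such ideals are unique, glue along open covers (for Zariski
local predicates) and descend along flat surjective quasi-compact morphisms (for fpqc local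
predicates); consequently they descend along flat, surjective, open morphisms.
-/

set_option autoImplicit false
set_option linter.unusedSectionVars false
set_option linter.unusedVariables false
set_option linter.style.haveILetI false
universe u
open CategoryTheory CategoryTheory.Limits AlgebraicGeometry Opposite TopologicalSpace

namespace Groth.Agent.Lib.T2H7.PtDesc

open Groth.Agent.Lib.T2H7.WeilDescA Scheme.IdealSheafData

variable {X : Scheme.{u}}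

/-- `V(𝓘₁) ⊆ X₁` represents the predicate `Pr` on points of `X`, restricted along `q`. -/
def RepOn (Pr : ∀ ⦃T : Scheme.{u}⦄, (T ⟶ X) → Prop) {X₁ : Scheme.{u}} (q : X₁ ⟶ X)
    (𝓘₁ : X₁.IdealSheafData) : Prop :=
  ∀ ⦃T : Scheme.{u}⦄ (x : T ⟶ X₁), 𝓘₁.comap x = ⊥ ↔ Pr (x ≫ q)

variable {Pr : ∀ ⦃T : Scheme.{u}⦄, (T ⟶ X) → Prop} {X₁ : Scheme.{u}} {q : X₁ ⟶ X}

theorem RepOn.unique {𝓘₁ 𝓘₂ : X₁.IdealSheafData} (h₁ : RepOn Pr q 𝓘₁) (h₂ : RepOn Pr q 𝓘₂) :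
    𝓘₁ = 𝓘₂ := by
  have key : ∀ {𝓐 𝓑 : X₁.IdealSheafData}, RepOn Pr q 𝓐 → RepOn Pr q 𝓑 → 𝓑 ≤ 𝓐 := by
    intro 𝓐 𝓑 hA hB
    have h1 := (hA 𝓐.subschemeι).1 (comap_subschemeι_self 𝓐)
    have h2 := (hB 𝓐.subschemeι).2 h1
    rw [comap_eq_bot_iff, ker_subschemeι] at h2
    exact h2
  exact le_antisymm (key h₂ h₁) (key h₁ h₂)

theorem RepOn.comap {𝓘₁ : X₁.IdealSheafData} (h : RepOn Pr q 𝓘₁) {X₂ : Scheme.{u}}
    (r : X₂ ⟶ X₁) : RepOn Pr (r ≫ q) (𝓘₁.comap r) := by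
  intro T x
  rw [← comap_comp, h (x ≫ r), Category.assoc]

theorem RepOn.of_eq {𝓘₁ : X₁.IdealSheafData} (h : RepOn Pr q 𝓘₁) {q' : X₁ ⟶ X}
    (e : q = q') : RepOn Pr q' 𝓘₁ := by
  subst e
  exact h

section descent

variable {X₀ : Scheme.{u}} {r : X₀ ⟶ X} (q₁ : X₁ ⟶ X₀) [Flat q₁] [Surjective q₁] [QuasiCompact q₁]

/-- **fpqc descent** of representing ideals, for fpqc-local predicates. -/
theorem RepOn.descent
    (hpre : ∀ ⦃T T' : Scheme.{u}⦄ (t : T' ⟶ T) (x : T ⟶ X), Pr x → Pr (t ≫ x))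
    (hloc : ∀ ⦃T T' : Scheme.{u}⦄ (t : T' ⟶ T) [Flat t] [Surjective t] [QuasiCompact t]
      (x : T ⟶ X), Pr (t ≫ x) → Pr x)
    {𝓘₁ : X₁.IdealSheafData} (h : RepOn Pr (q₁ ≫ r) 𝓘₁) :
    RepOn Pr r (𝓘₁.map q₁) ∧ (𝓘₁.map q₁).comap q₁ = 𝓘₁ := by
  have hst : 𝓘₁.comap (pullback.fst q₁ q₁) = 𝓘₁.comap (pullback.snd q₁ q₁) := by
    have h1 := h.comap (pullback.fst q₁ q₁)
    have h2 := h.comap (pullback.snd q₁ q₁)
    refine h1.unique (h2.of_eq ?_)
    rw [← Category.assoc, ← Category.assoc, pullback.condition]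
  have hcm := Groth.Agent.Lib.Helper12.comap_map_eq_of_stable q₁ 𝓘₁ hst
  refine ⟨?_, hcm⟩
  intro T x
  have _ : Flat (pullback.fst x q₁) := inferInstance
  have _ : Surjective (pullback.fst x q₁) := inferInstance
  have _ : QuasiCompact (pullback.fst x q₁) := inferInstance
  rw [← comap_eq_bot_iff_of_fpqc (pullback.fst x q₁), ← comap_comp, pullback.condition,
    comap_comp, hcm, h (pullback.snd x q₁)]
  have e : pullback.snd x q₁ ≫ q₁ ≫ r = pullback.fst x q₁ ≫ x ≫ r := by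
    rw [← Category.assoc, ← pullback.condition, Category.assoc]
  rw [e]
  exact ⟨fun hp => hloc (pullback.fst x q₁) (x ≫ r) hp, fun hp => hpre _ _ hp⟩

end descent

section glue

/-- **Zariski gluing** of representing ideals, for Zariski-local predicates. -/
theorem exists_rep_of_openCover {ι : Type*} (O : ι → X.Opens) (hO : ⨆ i, O i = ⊤)
    (hpre : ∀ ⦃T T' : Scheme.{u}⦄ (t : T' ⟶ T) (x : T ⟶ X), Pr x → Pr (t ≫ x))
    (hzar : ∀ ⦃T : Scheme.{u}⦄ (x : T ⟶ X) (O' : ι → T.Opens), ⨆ i, O' i = ⊤ →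
      (∀ i, Pr ((O' i).ι ≫ x)) → Pr x)
    (𝓩 : ∀ i, (O i).toScheme.IdealSheafData) (h : ∀ i, RepOn Pr (O i).ι (𝓩 i)) :
    ∃ 𝓩₀ : X.IdealSheafData, RepOn Pr (𝟙 X) 𝓩₀ := by
  have hcompat : ∀ i j, (𝓩 i).comap (X.homOfLE (inf_le_left : O i ⊓ O j ≤ O i)) =
      (𝓩 j).comap (X.homOfLE (inf_le_right : O i ⊓ O j ≤ O j)) := by
    intro i j
    have h1 := ((h i).comap (X.homOfLE (inf_le_left : O i ⊓ O j ≤ O i))).of_eq (X.homOfLE_ι _)
    have h2 := ((h j).comap (X.homOfLE (inf_le_right : O i ⊓ O j ≤ O j))).of_eq (X.homOfLE_ι _)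
    exact h1.unique h2
  obtain ⟨𝓩₀, h𝓩₀⟩ := Groth.Agent.Lib.T2H7.IdealGlueOpen.exists_glue O 𝓩 hcompat hO
  refine ⟨𝓩₀, ?_⟩
  intro T g
  rw [Category.comp_id]
  have hcovT : ⨆ i, g ⁻¹ᵁ O i = ⊤ := by
    rw [← Scheme.Hom.preimage_iSup, hO, Scheme.Hom.preimage_top]
  have key : ∀ i, (𝓩₀.comap g).comap (g ⁻¹ᵁ O i).ι = ⊥ ↔ Pr ((g ⁻¹ᵁ O i).ι ≫ g) := by
    intro i
    have e1 : (𝓩₀.comap g).comap (g ⁻¹ᵁ O i).ι = (𝓩 i).comap (g ∣_ O i) := by
      rw [← comap_comp, ← morphismRestrict_ι, comap_comp, h𝓩₀ i]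
    rw [e1, h i (g ∣_ O i), morphismRestrict_ι]
  constructor
  · intro h0
    refine hzar g (fun i => g ⁻¹ᵁ O i) hcovT fun i => ?_
    exact (key i).1 (by rw [h0, comap_bot])
  · intro h0
    refine Groth.Agent.Lib.T2H7.IdealGlue.eq_of_comap_eq _ hcovT _ _ fun i => ?_
    rw [comap_bot]
    exact (key i).2 (hpre _ _ h0)

end glue

section main

variable {U : Scheme.{u}} (f : U ⟶ X) [Flat f] [Surjective f]

/-- local step: over an affine open `V` of `X`, a quasi-compact open part of `f ⁻¹ V` surjects. -/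
theorem exists_rep_affineOpen (hopen : IsOpenMap f)
    (hpre : ∀ ⦃T T' : Scheme.{u}⦄ (t : T' ⟶ T) (x : T ⟶ X), Pr x → Pr (t ≫ x))
    (hloc : ∀ ⦃T T' : Scheme.{u}⦄ (t : T' ⟶ T) [Flat t] [Surjective t] [QuasiCompact t]
      (x : T ⟶ X), Pr (t ≫ x) → Pr x)
    {𝓘' : U.IdealSheafData} (h : RepOn Pr f 𝓘') (V : X.affineOpens) :
    ∃ 𝓩 : V.1.toScheme.IdealSheafData, RepOn Pr V.1.ι 𝓩 := by
  -- choose affine opens of `U` whose images cover `V`
  have hex : ∀ v : V.1, ∃ W : U.Opens, IsAffineOpen W ∧ W ≤ f ⁻¹ᵁ V.1 ∧ v.1 ∈ f '' (W : Set U) := by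
    intro v
    obtain ⟨u, hu⟩ := f.surjective v.1
    have hmem : u ∈ f ⁻¹ᵁ V.1 := by
      change f u ∈ V.1
      rw [hu]
      exact v.2
    obtain ⟨W, hW1, hW2, hW3⟩ := exists_isAffineOpen_mem_and_subset hmem
    exact ⟨W, hW1, hW3, u, hW2, hu⟩
  choose W hWa hWle hWv using hex
  obtain ⟨t, ht⟩ := V.2.isCompact.elim_finite_subcover (fun v : V.1 => f '' (W v : Set U))
    (fun v => hopen _ (W v).2) (fun x hx => Set.mem_iUnion.2 ⟨⟨x, hx⟩, hWv ⟨x, hx⟩⟩)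
  let WJ : U.Opens := ⨆ v ∈ t, W v
  have hle : WJ ≤ f ⁻¹ᵁ V.1 := iSup₂_le fun v _ => hWle v
  have hcomp : CompactSpace WJ := by
    have hc : IsCompact ((WJ : U.Opens) : Set U) := by
      have : ((WJ : U.Opens) : Set U) = ⋃ v ∈ t, (W v : Set U) := by
        simp [WJ]
      rw [this]
      exact t.isCompact_biUnion fun v _ => (hWa v).isCompact
    exact isCompact_iff_compactSpace.mp hc
  let q : WJ.toScheme ⟶ V.1.toScheme := f.resLE V.1 WJ hle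
  have hq : q ≫ V.1.ι = WJ.ι ≫ f := f.resLE_comp_ι hle
  haveI : IsAffine V.1.toScheme := V.2
  haveI : Flat q := by
    change Flat (U.homOfLE hle ≫ f ∣_ V.1)
    infer_instance
  haveI : QuasiCompact q := by
    rw [HasAffineProperty.iff_of_isAffine (P := @QuasiCompact)]
    exact hcomp
  haveI : Surjective q := by
    refine ⟨fun v' => ?_⟩
    have hv' : v'.1 ∈ ⋃ v ∈ t, f '' (W v : Set U) := ht v'.2
    simp only [Set.mem_iUnion] at hv'
    obtain ⟨v, hvt, w, hw, hfw⟩ := hv'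
    have hwJ : w ∈ WJ := by
      have : W v ≤ WJ := le_iSup₂_of_le v hvt le_rfl
      exact this hw
    refine ⟨⟨w, hwJ⟩, ?_⟩
    apply V.1.ι.isOpenEmbedding.injective
    rw [← Scheme.Hom.comp_apply, hq, Scheme.Hom.comp_apply]
    exact hfw
  have h1 : RepOn Pr (q ≫ V.1.ι) (𝓘'.comap WJ.ι) := (h.comap WJ.ι).of_eq hq.symm
  exact ⟨_, (h1.descent q hpre hloc).1⟩

/-- **Descent of a representing closed subscheme along a flat, surjective, open morphism**, for a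
predicate which is Zariski and fpqc local. -/
theorem exists_rep_of_flat_surjective_open (hopen : IsOpenMap f)
    (hpre : ∀ ⦃T T' : Scheme.{u}⦄ (t : T' ⟶ T) (x : T ⟶ X), Pr x → Pr (t ≫ x))
    (hloc : ∀ ⦃T T' : Scheme.{u}⦄ (t : T' ⟶ T) [Flat t] [Surjective t] [QuasiCompact t]
      (x : T ⟶ X), Pr (t ≫ x) → Pr x)
    (hzar : ∀ ⦃T : Scheme.{u}⦄ (x : T ⟶ X) (O' : X.affineOpens → T.Opens), ⨆ i, O' i = ⊤ →
      (∀ i, Pr ((O' i).ι ≫ x)) → Pr x)
    {𝓘' : U.IdealSheafData} (h : RepOn Pr f 𝓘') :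
    ∃ 𝓘 : X.IdealSheafData, RepOn Pr (𝟙 X) 𝓘 := by
  choose 𝓩 h𝓩 using exists_rep_affineOpen f hopen hpre hloc h
  exact exists_rep_of_openCover (fun V : X.affineOpens => V.1) (iSup_affineOpens_eq_top X)
    hpre hzar 𝓩 h𝓩

end main

end Groth.Agent.Lib.T2H7.PtDesc
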