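import Mathlib
import Groth.Agent.Lib.T2H7PtDesc
import Groth.Agent.Lib.T2H7FixSmB
import Groth.Agent.Lib.T2H7WeilClosed
import Groth.Agent.Lib.Helper12Cart
import Groth.Prelude.Def_Magnet3

/-!
Helper library (helper7): the closed subscheme of fixed points descends along a flat, surjective,
open, equivariant and fixed-point-reflecting morphism.
-/

set_option autoImplicit false
set_option linter.unusedSectionVars false
set_option linter.unusedVariables false
set_option linter.style.haveILetI false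
universe u
open CategoryTheory CategoryTheory.Limits AlgebraicGeometry TopologicalSpace Opposite
open MonoidalCategory CartesianMonoidalCategory MonObj

namespace Groth.Agent.Lib.T2H7.FixDesc

open Groth.Agent.Lib.T2H7.FixSmB Groth.Agent.Lib.T2H7.PtDesc

variable {S : Scheme.{u}} {G X : Over S} [GrpObj G] (a : AlgGrp.Action G X)

/-- a scheme-level point of `X.left`, as an object over `S`. -/
abbrev ov {T : Scheme.{u}} (x : T ⟶ X.left) : Over S := Over.mk (x ≫ X.hom)

/-- a scheme-level point of `X.left`, as a point over `S`. -/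
abbrev pt {T : Scheme.{u}} (x : T ⟶ X.left) : ov x ⟶ X := Over.homMk x rfl

/-- the fixed-point predicate on scheme-level points. -/
def PrFix : ∀ ⦃T : Scheme.{u}⦄, (T ⟶ X.left) → Prop := fun T x => IsFix a (pt x)

variable {a}

theorem prFix_left_iff {T : Over S} (x : T ⟶ X) : PrFix a x.left ↔ IsFix a x := by
  let e : ov x.left ≅ T := Over.isoMk (Iso.refl _) (by simp [Over.w])
  have he : e.hom ≫ x = pt x.left := by
    ext
    simp [e]
  constructor
  · intro h
    have h1 : IsFix a (e.inv ≫ pt x.left) := h.precomp e.inv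
    rwa [← he, Iso.inv_hom_id_assoc] at h1
  · intro h
    have h1 := h.precomp e.hom
    rwa [he] at h1

theorem prFix_precomp ⦃T T' : Scheme.{u}⦄ (t : T' ⟶ T) (x : T ⟶ X.left) (h : PrFix a x) :
    PrFix a (t ≫ x) := by
  let s : ov (t ≫ x) ⟶ ov x := Over.homMk t (by simp)
  have hs : s ≫ pt x = pt (t ≫ x) := by
    ext
    simp [s]
  have h1 : IsFix a (s ≫ pt x) := IsFix.precomp h s
  rwa [hs] at h1

theorem prFix_fpqc ⦃T T' : Scheme.{u}⦄ (t : T' ⟶ T) [Flat t] [Surjective t] [QuasiCompact t]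
    (x : T ⟶ X.left) (h : PrFix a (t ≫ x)) : PrFix a x := by
  let s : ov (t ≫ x) ⟶ ov x := Over.homMk t (by simp)
  have hs : s ≫ pt x = pt (t ≫ x) := by
    ext
    simp [s]
  haveI : Flat s.left := ‹Flat t›
  haveI : Surjective s.left := ‹Surjective t›
  haveI := Groth.Agent.Lib.Helper12.epi_whiskerLeft G s
  have h1 : IsFix a (s ≫ pt x) := by
    rw [hs]
    exact h
  rw [isFix_iff_univ] at h1
  change IsFix a (pt x)
  rw [isFix_iff_univ, ← cancel_epi (G ◁ s), ← Category.assoc, ← MonoidalCategory.whiskerLeft_comp,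
    h1, whiskerLeft_snd_assoc]

theorem prFix_zar {J : Type*} ⦃T : Scheme.{u}⦄ (x : T ⟶ X.left) (O' : J → T.Opens)
    (hO : ⨆ i, O' i = ⊤) (h : ∀ i, PrFix a ((O' i).ι ≫ x)) : PrFix a x := by
  change IsFix a (pt x)
  rw [isFix_iff_univ]
  apply Over.OverMorphism.ext
  apply Scheme.hom_ext_of_forall
  intro p
  -- the image of `p` in `T`
  have hp : (snd G (ov x)).left p ∈ ⨆ i, O' i := by
    rw [hO]
    trivial
  rw [Opens.mem_iSup] at hp
  obtain ⟨i, hi⟩ := hp
  let Ui : ((G ⊗ ov x).left).Opens := (snd G (ov x)).left ⁻¹ᵁ O' i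
  refine ⟨Ui, hi, ?_⟩
  -- points over `S`
  let P : Over S := Over.mk (Ui.ι ≫ (G ⊗ ov x).hom)
  let z : P ⟶ G ⊗ ov x := Over.homMk Ui.ι rfl
  let s : ov ((O' i).ι ≫ x) ⟶ ov x := Over.homMk (O' i).ι (by simp)
  have hs : s ≫ pt x = pt ((O' i).ι ≫ x) := by
    ext
    simp [s]
  let w : P ⟶ ov ((O' i).ι ≫ x) := Over.homMk ((snd G (ov x)).left ∣_ O' i) (by
    change ((snd G (ov x)).left ∣_ O' i) ≫ ((O' i).ι ≫ x) ≫ X.hom = Ui.ι ≫ (G ⊗ ov x).hom
    rw [← Category.assoc, ← Category.assoc, morphismRestrict_ι, Category.assoc, Category.assoc]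
    have := Over.w (snd G (ov x))
    rw [← this]
    rfl)
  have hw : z ≫ snd G (ov x) = w ≫ s := by
    ext
    change Ui.ι ≫ (snd G (ov x)).left = ((snd G (ov x)).left ∣_ O' i) ≫ (O' i).ι
    rw [morphismRestrict_ι]
  have h1 := (h i) P w (z ≫ fst G (ov x))
  have key : z ≫ (G ◁ pt x) ≫ a.act = z ≫ snd G (ov x) ≫ pt x := by
    have e : z ≫ (G ◁ pt x) = lift (z ≫ fst G (ov x)) (w ≫ pt ((O' i).ι ≫ x)) := by
      apply CartesianMonoidalCategory.hom_ext
      · simp
      · rw [Category.assoc, whiskerLeft_snd, lift_snd, ← Category.assoc, hw, Category.assoc, hs]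
    rw [← Category.assoc, e, h1, ← hs, ← Category.assoc, ← hw, Category.assoc]
  exact congr(($key).left)

/-- **Descent of the fixed-point scheme.** -/
theorem exists_closed_fixed_of_cover {U : Over S} (aX : AlgGrp.Action G X)
    (aU : AlgGrp.Action G U) (f : U ⟶ X) [Flat f.left] [Surjective f.left]
    (hopen : IsOpenMap f.left)
    (hfpr : ∀ (T : Over S) (u : T ⟶ U), IsFix aU u ↔ IsFix aX (u ≫ f))
    (W' : Over S) (i' : W' ⟶ U) [IsClosedImmersion i'.left]
    (hW' : ∀ (T : Over S) (u : T ⟶ U), (∃ w : T ⟶ W', w ≫ i' = u) ↔ IsFix aU u) :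
    ∃ (W : Over S) (i : W ⟶ X), IsClosedImmersion i.left ∧
      ∀ (T : Over S) (x : T ⟶ X), (∃ w : T ⟶ W, w ≫ i = x) ↔ IsFix aX x := by
  have hrep : RepOn (PrFix aX) f.left i'.left.ker := by
    intro T u
    rw [← Groth.Agent.Lib.T2H7.WeilClosed.exists_lift_iff_comap_eq_bot]
    let uS : ov u ⟶ U := pt u
    have e1 : (∃ l : T ⟶ W'.left, l ≫ i'.left = u) ↔ ∃ w : ov u ⟶ W', w ≫ i' = uS := by
      constructor
      · rintro ⟨l, hl⟩
        refine ⟨Over.homMk l ?_, ?_⟩
        · change l ≫ W'.hom = u ≫ U.hom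
          rw [← hl, Category.assoc, Over.w]
        · ext
          exact hl
      · rintro ⟨w, hw⟩
        exact ⟨w.left, congr(($hw).left)⟩
    rw [e1, hW', hfpr, ← prFix_left_iff]
    rfl
  obtain ⟨𝓘, h𝓘⟩ := exists_rep_of_flat_surjective_open f.left hopen prFix_precomp prFix_fpqc
    (fun T x O' hO h => prFix_zar x O' hO h) hrep
  refine ⟨Over.mk (𝓘.subschemeι ≫ X.hom), Over.homMk 𝓘.subschemeι rfl, ?_, ?_⟩
  · change IsClosedImmersion 𝓘.subschemeι
    infer_instance
  · intro T x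
    have e1 : (∃ w : T ⟶ Over.mk (𝓘.subschemeι ≫ X.hom),
        w ≫ (Over.homMk 𝓘.subschemeι rfl : Over.mk (𝓘.subschemeι ≫ X.hom) ⟶ X) = x) ↔
        ∃ l : T.left ⟶ 𝓘.subscheme, l ≫ 𝓘.subschemeι = x.left := by
      constructor
      · rintro ⟨w, hw⟩
        exact ⟨w.left, congr(($hw).left)⟩
      · rintro ⟨l, hl⟩
        refine ⟨Over.homMk l ?_, ?_⟩
        · change l ≫ 𝓘.subschemeι ≫ X.hom = T.hom
          rw [← Category.assoc, hl, Over.w]
        · ext
          exact hl
    rw [e1, Groth.Agent.Lib.T2H7.WeilClosed.exists_lift_iff_comap_eq_bot,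
      Scheme.IdealSheafData.ker_subschemeι, h𝓘 x.left, Category.comp_id, prFix_left_iff]

section Psh

variable {S : Scheme.{u}} {G X U : Over S} [GrpObj G] {aX : AlgGrp.Action G X}
  {aU : AlgGrp.Action G U}

/-- membership in the fixed-point subfunctor. -/
theorem isFix_of_mem {T : Over S}
    (x : (Magnet.MonAct.fixedPsh (Magnet.MonAct.ofAction aX)).obj (op T)) : IsFix aX x.1 :=
  x.2

/-- a fixed-point-reflecting square: pointwise form. -/
theorem isFix_iff_of_isPullback {f : U ⟶ X}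
    (hf : Magnet.MonAct.IsEquivariant (Magnet.MonAct.ofAction aU) (Magnet.MonAct.ofAction aX) f)
    (hfpr : IsPullback (Magnet.MonAct.fixedPsh.map f hf)
      (Magnet.MonAct.fixedPshι (Magnet.MonAct.ofAction aU))
      (Magnet.MonAct.fixedPshι (Magnet.MonAct.ofAction aX)) (yoneda.map f))
    (T : Over S) (u : T ⟶ U) : IsFix aU u ↔ IsFix aX (u ≫ f) := by
  constructor
  · intro h
    let x₁ : (Magnet.MonAct.fixedPsh (Magnet.MonAct.ofAction aU)).obj (op T) := ⟨u, h⟩
    exact isFix_of_mem ((Magnet.MonAct.fixedPsh.map f hf).app (op T) x₁)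
  · intro h
    let x₂ : (Magnet.MonAct.fixedPsh (Magnet.MonAct.ofAction aX)).obj (op T) := ⟨u ≫ f, h⟩
    obtain ⟨x₁, -, h2⟩ := Limits.Types.exists_of_isPullback (hfpr.app (op T)) x₂ u rfl
    have h3 : x₁.1 = u := h2
    rw [← h3]
    exact isFix_of_mem x₁

/-- a representing object of the fixed-point subfunctor: pointwise form. -/
theorem exists_lift_iff_of_representableBy {W' : Over S} (i' : W' ⟶ U)
    (e' : (Magnet.MonAct.fixedPsh (Magnet.MonAct.ofAction aU)).RepresentableBy W')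
    (he' : ∀ (T : Over S) (w : T ⟶ W'),
      (Magnet.MonAct.fixedPshι (Magnet.MonAct.ofAction aU)).app (op T) (e'.homEquiv w) = w ≫ i')
    (T : Over S) (u : T ⟶ U) : (∃ w : T ⟶ W', w ≫ i' = u) ↔ IsFix aU u := by
  constructor
  · rintro ⟨w, rfl⟩
    have h1 := isFix_of_mem (e'.homEquiv w)
    have h2 : (e'.homEquiv w).1 = w ≫ i' := he' T w
    rwa [h2] at h1
  · intro h
    let x₁ : (Magnet.MonAct.fixedPsh (Magnet.MonAct.ofAction aU)).obj (op T) := ⟨u, h⟩
    refine ⟨e'.homEquiv.symm x₁, ?_⟩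
    have h2 := he' T (e'.homEquiv.symm x₁)
    rw [Equiv.apply_symm_apply] at h2
    exact h2.symm

/-- conversely, a monomorphism whose points are the fixed points represents the fixed-point
subfunctor. -/
noncomputable def representableBy_of_iff {W : Over S} (i : W ⟶ X) [Mono i]
    (h : ∀ (T : Over S) (x : T ⟶ X), (∃ w : T ⟶ W, w ≫ i = x) ↔ IsFix aX x) :
    (Magnet.MonAct.fixedPsh (Magnet.MonAct.ofAction aX)).RepresentableBy W where
  homEquiv {T} :=
    { toFun := fun w => ⟨w ≫ i, (h T _).1 ⟨w, rfl⟩⟩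
      invFun := fun x => ((h T x.1).2 x.2).choose
      left_inv := fun w => by
        rw [← cancel_mono i]
        exact ((h T (w ≫ i)).2 ((h T _).1 ⟨w, rfl⟩)).choose_spec
      right_inv := fun x => Subtype.ext ((h T x.1).2 x.2).choose_spec }
  homEquiv_comp {T T'} g w := Subtype.ext (Category.assoc _ _ _)

theorem representableBy_of_iff_apply {W : Over S} (i : W ⟶ X) [Mono i]
    (h : ∀ (T : Over S) (x : T ⟶ X), (∃ w : T ⟶ W, w ≫ i = x) ↔ IsFix aX x)
    (T : Over S) (w : T ⟶ W) :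
    (Magnet.MonAct.fixedPshι (Magnet.MonAct.ofAction aX)).app (op T)
      ((representableBy_of_iff i h).homEquiv w) = w ≫ i := rfl

end Psh

end Groth.Agent.Lib.T2H7.FixDesc
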