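import Groth.Agent.Lib.T2H7GITClosed
import Groth.Agent.Lib.Helper12Act

/-!
# T2H7: base change of actions and quotients (GIT §0)
-/

set_option autoImplicit false
set_option linter.unusedSectionVars false
set_option linter.unusedVariables false
set_option linter.style.haveILetI false
universe u
open CategoryTheory MonoidalCategory CartesianMonoidalCategory MonObj GrpObj AlgebraicGeometry Topology
open TopologicalSpace Limits

namespace Groth.Agent.Lib.T2H7.GITBC

open Groth.Agent.Lib.Helper12 Groth.Agent.Lib.Helper12.Submersive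

variable {S : Scheme.{u}} {G : Over S} [GrpObj G]

/-- an action from its point form (as in `T2H3.TorsorBasics.actionOfPoints`). -/
noncomputable def actionOfPoints {X : Over S} (act : G ⊗ X ⟶ X)
    (h1 : ∀ (T : Over S) (x : T ⟶ X), lift (1 : T ⟶ G) x ≫ act = x)
    (h2 : ∀ (T : Over S) (g h : T ⟶ G) (x : T ⟶ X),
      lift (g * h) x ≫ act = lift g (lift h x ≫ act) ≫ act) : AlgGrp.Action G X where
  act := act
  one_act := by
    have e1 : (η[G] ▷ X) = lift (1 : 𝟙_ (Over S) ⊗ X ⟶ G) (snd _ _) := by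
      apply CartesianMonoidalCategory.hom_ext
      · simp only [whiskerRight_fst, lift_fst, Hom.one_def]
        congr 1
      · simp
    rw [e1, h1, leftUnitor_hom]
  mul_act := by
    have e1 : (μ[G] ▷ X) = lift ((fst (G ⊗ G) X ≫ fst G G) * (fst (G ⊗ G) X ≫ snd G G))
        (snd (G ⊗ G) X) := by
      apply CartesianMonoidalCategory.hom_ext
      · simp only [whiskerRight_fst, lift_fst, Hom.mul_def]
        congr 1
        apply CartesianMonoidalCategory.hom_ext <;> simp
      · simp
    have e2 : (α_ G G X).hom ≫ (G ◁ act) = lift (fst (G ⊗ G) X ≫ fst G G)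
        (lift (fst (G ⊗ G) X ≫ snd G G) (snd (G ⊗ G) X) ≫ act) := by
      apply CartesianMonoidalCategory.hom_ext
      · simp
      · simp only [Category.assoc, whiskerLeft_snd, lift_snd]
        rw [← Category.assoc]
        congr 1
        apply CartesianMonoidalCategory.hom_ext <;> simp
    rw [e1, h2, ← Category.assoc ((α_ G G X).hom), e2]

section bc

variable {X Y X' Y' : Over S} (a : AlgGrp.Action G X) {φ : X ⟶ Y} (hφ : GIT.IsInvariant a φ)
  {pr : X' ⟶ X} {φ' : X' ⟶ Y'} {g : Y' ⟶ Y} (hpb : IsPullback pr φ' φ g)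

/-- the action morphism on the base change -/
noncomputable def bcActMor : G ⊗ X' ⟶ X' :=
  hpb.lift ((G ◁ pr) ≫ a.act) (snd G X' ≫ φ') (by
    have h : a.act ≫ φ = snd G X ≫ φ := hφ
    rw [Category.assoc, h, ← Category.assoc, whiskerLeft_snd, Category.assoc, Category.assoc, hpb.w])

theorem bcActMor_pr : bcActMor a hφ hpb ≫ pr = (G ◁ pr) ≫ a.act := hpb.lift_fst _ _ _

theorem bcActMor_phi : bcActMor a hφ hpb ≫ φ' = snd G X' ≫ φ' := hpb.lift_snd _ _ _

theorem lift_bcActMor_pr {T : Over S} (γ : T ⟶ G) (x : T ⟶ X') :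
    (lift γ x ≫ bcActMor a hφ hpb) ≫ pr = lift γ (x ≫ pr) ≫ a.act := by
  rw [Category.assoc, bcActMor_pr, ← Category.assoc]
  congr 1
  apply CartesianMonoidalCategory.hom_ext <;> simp

theorem lift_bcActMor_phi {T : Over S} (γ : T ⟶ G) (x : T ⟶ X') :
    (lift γ x ≫ bcActMor a hφ hpb) ≫ φ' = x ≫ φ' := by
  rw [Category.assoc, bcActMor_phi, ← Category.assoc, lift_snd]

/-- the induced action on the base change -/
noncomputable def bcAct : AlgGrp.Action G X' :=
  actionOfPoints (bcActMor a hφ hpb)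
    (fun T x => by
      apply hpb.hom_ext
      · rw [lift_bcActMor_pr, act_one]
      · rw [lift_bcActMor_phi])
    (fun T γ δ x => by
      apply hpb.hom_ext
      · rw [lift_bcActMor_pr, lift_bcActMor_pr, lift_bcActMor_pr, act_mul]
      · rw [lift_bcActMor_phi, lift_bcActMor_phi, lift_bcActMor_phi])

theorem bcAct_act : (bcAct a hφ hpb).act = bcActMor a hφ hpb := rfl

theorem bcAct_compat : (bcAct a hφ hpb).act ≫ pr = (G ◁ pr) ≫ a.act := bcActMor_pr a hφ hpb

theorem bcAct_isInvariant : GIT.IsInvariant (bcAct a hφ hpb) φ' := bcActMor_phi a hφ hpb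

end bc

section univ

variable {X Y X' Y' : Over S} (a : AlgGrp.Action G X) {φ : X ⟶ Y}
  {pr : X' ⟶ X} {φ' : X' ⟶ Y'} {g : Y' ⟶ Y} (hpb : IsPullback pr φ' φ g)
  (a' : AlgGrp.Action G X') (hc : a'.act ≫ pr = (G ◁ pr) ≫ a.act) (hinv' : GIT.IsInvariant a' φ')

include hpb hc hinv' in
/-- a base change of a universal categorical quotient is a universal categorical quotient -/
theorem isUnivCatQuot_bc (h : GIT.IsUnivCatQuot a φ) : GIT.IsUnivCatQuot a' φ' := by
  refine ⟨h.2 pr φ' g trivial hpb a' hc hinv', ?_⟩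
  intro X'' Y'' pr' φ'' g' _ hpb' a'' hc' hinv''
  refine h.2 (pr' ≫ pr) φ'' (g' ≫ g) trivial (hpb'.paste_horiz hpb) a'' ?_ hinv''
  rw [← Category.assoc, hc', Category.assoc, hc, MonoidalCategory.whiskerLeft_comp, Category.assoc]

include hpb in
theorem isUnivSubmersive_bc (hsub : GIT.IsUnivSubmersive φ.left) : GIT.IsUnivSubmersive φ'.left :=
  MorphismProperty.of_isPullback (P := US) (hpb.map (Over.forget S)) hsub

end univ

end Groth.Agent.Lib.T2H7.GITBC
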