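import Groth.Agent.Lib.T2H7FixSmC
import Groth.Agent.Lib.T2H7GITBC
import Groth.Agent.Lib.Helper11SubGrp

/-!
# Transporters and centralizers of homomorphisms from groups of multiplicative type (helper7)

For `H` of multiplicative type, `G` smooth and affine over `S` and homomorphisms `u₁ u₂ : H ⟶ G`, the
transporter of `u₁` into `u₂` is a closed subscheme of `G` smooth over `S`; the centralizer of
`u : H ⟶ G` is a closed subgroup scheme smooth over `S`.
-/

set_option autoImplicit false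
set_option linter.unusedSectionVars false
set_option linter.unusedVariables false
set_option linter.style.haveILetI false
universe u
open CategoryTheory CategoryTheory.Limits MonoidalCategory CartesianMonoidalCategory MonObj GrpObj
  AlgebraicGeometry

namespace Groth.Agent.Lib.T2H7.FixSmD

open Groth.Agent.Lib.T2H7.FixSmB Groth.Agent.Lib.T2H7.FixSmC

theorem grp_aux {Γ : Type*} [Group Γ] (A B C : Γ) : A * B * C⁻¹ = B ↔ B * C * B⁻¹ = A := by
  constructor
  · intro h
    rw [mul_inv_eq_iff_eq_mul] at h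
    rw [← h, mul_inv_cancel_right]
  · intro h
    rw [← h]
    group

variable {S : Scheme.{u}} (H G : Over S) [GrpObj H] [GrpObj G]

/-- the action `h · g = u₂(h) g u₁(h)⁻¹` of `H` on `G`. -/
noncomputable def twAct (u₁ u₂ : H ⟶ G) [IsMonHom u₁] [IsMonHom u₂] : AlgGrp.Action H G :=
  Groth.Agent.Lib.T2H7.GITBC.actionOfPoints ((fst H G ≫ u₂) * snd H G * (fst H G ≫ u₁)⁻¹)
    (by
      intro T x
      rw [MonObj.comp_mul, MonObj.comp_mul, GrpObj.comp_inv, lift_fst_assoc, lift_fst_assoc,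
        lift_snd, MonObj.one_comp, MonObj.one_comp]
      group)
    (by
      intro T g h x
      simp only [MonObj.comp_mul, GrpObj.comp_inv, lift_fst_assoc, lift_snd, MonObj.mul_comp]
      group)

theorem twAct_act (u₁ u₂ : H ⟶ G) [IsMonHom u₁] [IsMonHom u₂] :
    (twAct H G u₁ u₂).act = (fst H G ≫ u₂) * snd H G * (fst H G ≫ u₁)⁻¹ := rfl

theorem isFix_twAct_iff (u₁ u₂ : H ⟶ G) [IsMonHom u₁] [IsMonHom u₂] {X : Over S} (g : X ⟶ G) :
    IsFix (twAct H G u₁ u₂) g ↔
      ∀ (X' : Over S) (x : X' ⟶ X) (h : X' ⟶ H), (x ≫ g) * (h ≫ u₁) * (x ≫ g)⁻¹ = h ≫ u₂ := by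
  have key : ∀ (X' : Over S) (x : X' ⟶ X) (h : X' ⟶ H),
      lift h (x ≫ g) ≫ (twAct H G u₁ u₂).act = (h ≫ u₂) * (x ≫ g) * (h ≫ u₁)⁻¹ := by
    intro X' x h
    rw [twAct_act, MonObj.comp_mul, MonObj.comp_mul, GrpObj.comp_inv, lift_fst_assoc,
      lift_fst_assoc, lift_snd]
  constructor
  · intro hfix X' x h
    have h1 := hfix X' x h
    rw [key] at h1
    exact (grp_aux _ _ _).1 h1
  · intro hc X' x h
    rw [key]
    exact (grp_aux _ _ _).2 (hc X' x h)

/-- **the transporter of `u₁` into `u₂`** is a smooth closed subscheme. -/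
theorem exists_transporter
    (hH : TwC.Locally S TwC.Topology.fpqc (fun S' f => ∃ (M : Type) (_ : AddCommGroup M),
      Nonempty (Grp.mk (Red.bc f H) ≅ Grp.mk (Red.DS S' M))))
    (hG : Smooth G.hom) (hGa : IsAffineHom G.hom) (u₁ u₂ : H ⟶ G) [IsMonHom u₁] [IsMonHom u₂] :
    ∃ (T : Over S) (j : T ⟶ G), IsClosedImmersion j.left ∧ Smooth T.hom ∧
      ∀ (X : Over S) (g : X ⟶ G), (∃ t : X ⟶ T, t ≫ j = g) ↔
        ∀ (X' : Over S) (x : X' ⟶ X) (h : X' ⟶ H), (x ≫ g) * (h ≫ u₁) * (x ≫ g)⁻¹ = h ≫ u₂ := by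
  haveI := hGa
  obtain ⟨F, j, hj, hF⟩ :=
    Groth.Agent.Lib.T2H7.WeilDescC.exists_closed_fixed_multType H G hH (twAct H G u₁ u₂)
  have hF' : ∀ (T : Over S) (x : T ⟶ G), (∃ y : T ⟶ F, y ≫ j = x) ↔ IsFix (twAct H G u₁ u₂) x :=
    hF
  refine ⟨F, j, hj, smooth_fixed H G hH hGa hG _ F j hj hF', fun X g => ?_⟩
  rw [hF', isFix_twAct_iff]

/-- **the centralizer of `u`** is a smooth closed subgroup scheme. -/
theorem exists_centralizer
    (hH : TwC.Locally S TwC.Topology.fpqc (fun S' f => ∃ (M : Type) (_ : AddCommGroup M),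
      Nonempty (Grp.mk (Red.bc f H) ≅ Grp.mk (Red.DS S' M))))
    (hG : Smooth G.hom) (hGa : IsAffineHom G.hom) (u : H ⟶ G) [IsMonHom u] :
    ∃ (Z : Over S) (_ : GrpObj Z) (j : Z ⟶ G), Red.IsCentralizerOf u j ∧
      IsClosedImmersion j.left ∧ Smooth Z.hom := by
  obtain ⟨Z, j, hj, hsm, hZ⟩ := exists_transporter H G hH hG hGa u u
  have hZ' : ∀ (X : Over S) (g : X ⟶ G), (∃ z : X ⟶ Z, z ≫ j = g) ↔
      ∀ (X' : Over S) (x : X' ⟶ X) (h : X' ⟶ H), (x ≫ g) * (h ≫ u) = (h ≫ u) * (x ≫ g) := by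
    intro X g
    rw [hZ]
    constructor
    · intro h X' x c
      exact mul_inv_eq_iff_eq_mul.1 (h X' x c)
    · intro h X' x c
      exact mul_inv_eq_iff_eq_mul.2 (h X' x c)
  haveI : Mono j := by
    haveI : Mono ((Over.forget S).map j) := inferInstanceAs (Mono j.left)
    exact (Over.forget S).mono_of_mono_map inferInstance
  obtain ⟨inst, hmon⟩ := Groth.Agent.Lib.Helper11SubGrp.exists_grpObj_of_pred j
    (fun X g => ∀ (X' : Over S) (x : X' ⟶ X) (h : X' ⟶ H),
      (x ≫ g) * (h ≫ u) = (h ≫ u) * (x ≫ g)) hZ'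
    (by
      intro X' x h
      rw [MonObj.comp_one, _root_.one_mul, _root_.mul_one])
    (by
      intro T a b ha hb X' x h
      rw [MonObj.comp_mul, _root_.mul_assoc, hb X' x h, ← _root_.mul_assoc, ha X' x h,
        _root_.mul_assoc])
    (by
      intro T a ha X' x h
      rw [GrpObj.comp_inv]
      have := ha X' x h
      rw [inv_mul_eq_iff_eq_mul, ← _root_.mul_assoc, this, _root_.mul_assoc, mul_inv_cancel,
        _root_.mul_one])
  exact ⟨Z, inst, j, ⟨hmon, inferInstance, hZ'⟩, hj, hsm⟩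

end Groth.Agent.Lib.T2H7.FixSmD
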