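import Mathlib
import Groth.Agent.Lib.T2H7FixSmA

/-!
# First-order thickenings of fixed loci: algebra (helper7)

* `deg0`: for a coaction `ρ : A → A[G]` whose fixed-point ideal has square zero, the component of
  neutral degree is a ring endomorphism of `A`, killing `fixIdeal ρ`, congruent to the identity
  modulo `fixIdeal ρ`.
* `formallySmooth_of_retraction`: a quotient `B` of a formally smooth algebra `A` is formally smooth
  as soon as the first-order thickening `A ⧸ J ^ 2` has an endomorphism killing `J / J ^ 2` and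
  congruent to the identity modulo `J / J ^ 2`.
-/

set_option autoImplicit false
set_option linter.unusedSectionVars false
set_option linter.unusedVariables false
set_option linter.style.haveILetI false
universe u
open MonoidAlgebra

namespace Groth.Agent.Lib.T2H7.FixSmE

open Groth.Agent.Lib.T2H7.FreeDiagA Groth.Agent.Lib.T2H7.FixSmA

section Deg0

variable {A : Type u} [CommRing A] {G : Type} [CommGroup G] {ρ : A →+* MonoidAlgebra A G}

/-- the component of neutral degree, a ring endomorphism when `fixIdeal ρ` has square zero. -/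
noncomputable def deg0 (hK : ∀ u ∈ fixIdeal ρ, ∀ v ∈ fixIdeal ρ, u * v = 0) : A →+* A where
  toFun a := (ρ a).coeff 1
  map_one' := by
    show (ρ 1).coeff 1 = 1
    rw [map_one ρ, coeff_one_one]
  map_mul' a b := by
    classical
    show (ρ (a * b)).coeff 1 = (ρ a).coeff 1 * (ρ b).coeff 1
    rw [map_mul, coeff_mul_apply_left, Finsupp.sum, Finset.sum_eq_single (1 : G)]
    · rw [inv_one, one_mul]
    · intro h _ hh1
      refine hK _ (coeff_mem_fixIdeal ρ a hh1) _ (coeff_mem_fixIdeal ρ b ?_)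
      rw [mul_one]
      exact inv_ne_one.2 hh1
    · intro h1
      rw [Finsupp.notMem_support_iff.1 h1, zero_mul]
  map_zero' := by
    show (ρ 0).coeff 1 = 0
    rw [map_zero ρ, coeff_zero, Finsupp.zero_apply]
  map_add' a b := by
    show (ρ (a + b)).coeff 1 = _
    rw [map_add ρ, coeff_add, Finsupp.add_apply]

theorem deg0_apply (hK : ∀ u ∈ fixIdeal ρ, ∀ v ∈ fixIdeal ρ, u * v = 0) (a : A) :
    deg0 hK a = (ρ a).coeff 1 := rfl

theorem deg0_eq_zero (hρ : IsCoact ρ) (hK : ∀ u ∈ fixIdeal ρ, ∀ v ∈ fixIdeal ρ, u * v = 0)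
    {c : A} (hc : c ∈ fixIdeal ρ) : deg0 hK c = 0 := by
  have hle : fixIdeal ρ ≤ RingHom.ker (deg0 hK) := by
    refine Ideal.span_le.2 ?_
    rintro _ ⟨b, m, hm, rfl⟩
    show (ρ ((ρ b).coeff m)).coeff 1 = 0
    rw [rho_coeff hρ b m, coeff_single, Finsupp.single_eq_of_ne' hm]
  exact hle hc

theorem sub_deg0_mem (hρ : IsCoact ρ) (hK : ∀ u ∈ fixIdeal ρ, ∀ v ∈ fixIdeal ρ, u * v = 0)
    (a : A) : a - deg0 hK a ∈ fixIdeal ρ := sub_coeff_one_mem hρ a

end Deg0

section Retraction

variable {R A B : Type u} [CommRing R] [CommRing A] [CommRing B] [Algebra R A] [Algebra R B]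

/-- a quotient of a formally smooth algebra whose first-order thickening retracts onto it is formally
smooth. -/
theorem formallySmooth_of_retraction [Algebra.FormallySmooth R A] (f : A →ₐ[R] B)
    (hf : Function.Surjective f)
    (e : A ⧸ (RingHom.ker f.toRingHom) ^ 2 →+* A ⧸ (RingHom.ker f.toRingHom) ^ 2)
    (heR : ∀ r : R, e (Ideal.Quotient.mk _ (algebraMap R A r)) =
      Ideal.Quotient.mk _ (algebraMap R A r))
    (hek : ∀ x ∈ (RingHom.ker f.toRingHom).cotangentIdeal, e x = 0)
    (hes : ∀ x, x - e x ∈ (RingHom.ker f.toRingHom).cotangentIdeal) :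
    Algebra.FormallySmooth R B := by
  let J : Ideal A := RingHom.ker f.toRingHom
  let g₀ : A →ₐ[R] A ⧸ J ^ 2 :=
    { e.comp (Ideal.Quotient.mk (J ^ 2)) with
      commutes' := fun r => heR r }
  have hg₀ : ∀ a ∈ J, g₀ a = 0 := by
    intro a ha
    refine hek _ ?_
    exact ⟨a, ha, rfl⟩
  let g₁ : A ⧸ J →ₐ[R] A ⧸ J ^ 2 := Ideal.Quotient.liftₐ J g₀ hg₀
  let ε : (A ⧸ J) ≃ₐ[R] B := Ideal.quotientKerAlgEquivOfSurjective hf
  refine Algebra.FormallySmooth.of_split f (g₁.comp ε.symm.toAlgHom) ?_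
  refine AlgHom.ext fun b => ?_
  obtain ⟨a, rfl⟩ := hf b
  have h1 : ε.symm (f a) = Ideal.Quotient.mk J a := by
    rw [AlgEquiv.symm_apply_eq]
    rfl
  show f.kerSquareLift (g₁ (ε.symm (f a))) = f a
  rw [h1]
  show f.kerSquareLift (e (Ideal.Quotient.mk (J ^ 2) a)) = f a
  have h2 := hes (Ideal.Quotient.mk (J ^ 2) a)
  rw [← AlgHom.ker_kerSquareLift] at h2
  have h3 : f.kerSquareLift (Ideal.Quotient.mk (J ^ 2) a - e (Ideal.Quotient.mk (J ^ 2) a)) = 0 :=
    h2
  rw [map_sub, sub_eq_zero] at h3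
  rw [← h3]
  exact AlgHom.kerSquareLift_mk f a

/-- variant with the kernel given as a separate ideal. -/
theorem formallySmooth_of_retraction' [Algebra.FormallySmooth R A] (f : A →ₐ[R] B)
    (hf : Function.Surjective f) (J : Ideal A) (hJ : J = RingHom.ker f.toRingHom)
    (e : A ⧸ J ^ 2 →+* A ⧸ J ^ 2)
    (heR : ∀ r : R, e (Ideal.Quotient.mk _ (algebraMap R A r)) =
      Ideal.Quotient.mk _ (algebraMap R A r))
    (hek : ∀ x ∈ J.cotangentIdeal, e x = 0)
    (hes : ∀ x, x - e x ∈ J.cotangentIdeal) :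
    Algebra.FormallySmooth R B := by
  subst hJ
  exact formallySmooth_of_retraction f hf e heR hek hes

end Retraction

end Groth.Agent.Lib.T2H7.FixSmE
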