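import Groth.Agent.Lib.T2H7FixSmF
import Groth.Agent.Lib.T2H7WeilFPA
import Groth.Agent.Lib.T2H7WeilClosedFP
import Groth.Agent.Lib.Helper11SubGrp

set_option autoImplicit false
set_option linter.unusedSectionVars false
set_option linter.unusedVariables false
set_option linter.style.haveILetI false
universe u
open CategoryTheory CategoryTheory.Limits MonoidalCategory CartesianMonoidalCategory MonObj GrpObj
  AlgebraicGeometry

namespace Groth.Agent.Lib.T2H7.FixSmG

open Groth.Agent.Lib.T2H7.MultActCore Groth.Agent.Lib.T2H7.FixSmB Scheme.IdealSheafData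
  Groth.Agent.Lib.T2H7.WeilDescA Groth.Agent.Lib.T2H3.MultGa Groth.Agent.Lib.T2H7.FreeDiagB
  Groth.Agent.Lib.T2H7.FixSmA Groth.Agent.Lib.T2H7.FixSmE Groth.Agent.Lib.T2H7.FixSmF
  Groth.Agent.Lib.T2H7.FixSmC

section Split

variable {S : Scheme.{u}} {M : Type} [AddCommGroup M] {X : Over S}
  (a : AlgGrp.Action (Red.DS S M) X)

/-- Smoothness of the fixed locus of a diagonalizable group acting on a smooth (not necessarily
affine) scheme over an affine base. -/
theorem smooth_fixed_split' [IsAffine S] (hXs : Smooth X.hom) (F : Over S) (j : F ⟶ X)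
    (hj : IsClosedImmersion j.left) (hfp : LocallyOfFinitePresentation F.hom)
    (hF : ∀ (T : Over S) (x : T ⟶ X), (∃ y : T ⟶ F, y ≫ j = x) ↔ IsFix a x) :
    Smooth F.hom := by
  haveI := hj
  haveI := hfp
  rw [HasRingHomProperty.iff_exists_appLE (P := @Smooth)
    (RingHom.Smooth.stableUnderComposition.stableUnderCompositionWithLocalizationAway
      RingHom.Smooth.holdsForLocalizationAway).left]
  intro y
  obtain ⟨_, ⟨U, hU, rfl⟩, hyU, -⟩ :=
    X.left.isBasis_affineOpens.exists_subset_of_mem_open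
      (Set.mem_univ (j.left y)) isOpen_univ
  have hS : IsAffineOpen (⊤ : S.Opens) := isAffineOpen_top S
  have e : j.left ⁻¹ᵁ U ≤ F.hom ⁻¹ᵁ ⊤ := fun _ _ => trivial
  exact ⟨⟨⊤, hS⟩, ⟨j.left ⁻¹ᵁ U, hU.preimage j.left⟩, hyU, e,
    smooth_appLE_fixed a hXs j hF hS hU e⟩

end Split

section Main

open Groth.Agent.Lib.T2H7.FreeDiagD Groth.Agent.Lib.T2H7.GrpIsoBC

variable {S : Scheme.{u}} (H X : Over S) [GrpObj H]

/-- **Smoothness of the fixed locus** (non-affine version). -/
theorem smooth_fixed'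
    (hH : TwC.Locally S TwC.Topology.fpqc (fun S' f => ∃ (M : Type) (_ : AddCommGroup M),
      Nonempty (Grp.mk (Red.bc f H) ≅ Grp.mk (Red.DS S' M))))
    (hXs : Smooth X.hom) (a : AlgGrp.Action H X)
    (F : Over S) (j : F ⟶ X) (hj : IsClosedImmersion j.left)
    (hfp : LocallyOfFinitePresentation F.hom)
    (hF : ∀ (T : Over S) (x : T ⟶ X), (∃ y : T ⟶ F, y ≫ j = x) ↔ IsFix a x) :
    Smooth F.hom := by
  let φ : F ⟶ Over.mk (𝟙 S) := Over.homMk F.hom (by simp)
  have key := prop_of_charts' @Smooth hH φ ?_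
  · exact key
  intro Y g M _ hY hs
  obtain ⟨e, he⟩ := (nonempty_grpIso_iff _ _).1 hs
  haveI := he
  haveI := hY
  have hsm : Smooth (Red.bc g X).hom :=
    MorphismProperty.pullback_snd (P := @Smooth) X.hom g hXs
  have hfp' : LocallyOfFinitePresentation (Red.bc g F).hom :=
    MorphismProperty.pullback_snd (P := @LocallyOfFinitePresentation) F.hom g hfp
  have hj' : IsClosedImmersion ((Over.pullback g).map j).left :=
    Groth.Agent.Lib.T2H7.OverDescP.bc @IsClosedImmersion g j hj
  have h1 : Smooth (Red.bc g F).hom := by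
    refine smooth_fixed_split' ((a.bc g).restrict e.inv) hsm (Red.bc g F)
      ((Over.pullback g).map j) hj' hfp' ?_
    intro T' x'
    rw [isFix_restrict_iff]
    exact rep_bc g a j hF T' x'
  have h2 : ((Over.pullback g).map φ).left ≫ ((Over.pullback g).obj (Over.mk (𝟙 S))).hom =
      (Red.bc g F).hom := Over.w _
  haveI : IsIso ((Over.pullback g).obj (Over.mk (𝟙 S))).hom := by
    change IsIso (pullback.snd (𝟙 S) g)
    infer_instance
  rw [← h2] at h1
  exact (MorphismProperty.cancel_right_of_respectsIso @Smooth _ _).1 h1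

end Main

section FP

open Groth.Agent.Lib.T2H7.WeilFPA

variable {S : Scheme.{u}}

/-- equalizer form with finite presentation. -/
theorem exists_closed_eq_left_multType_fp (H G W : Over S) [GrpObj H]
    (hH : TwC.Locally S TwC.Topology.fpqc (fun S' f => ∃ (M : Type) (_ : AddCommGroup M),
      Nonempty (Grp.mk (Red.bc f H) ≅ Grp.mk (Red.DS S' M))))
    [IsSeparated W.hom] [LocallyOfFiniteType W.hom] (α β : H ⊗ G ⟶ W) :
    ∃ (C : Over S) (c : C ⟶ G), IsClosedImmersion c.left ∧ LocallyOfFinitePresentation c.left ∧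
      ∀ (X : Over S) (g : X ⟶ G), (∃ z : X ⟶ C, z ≫ c = g) ↔
        (H ◁ g) ≫ α = (H ◁ g) ≫ β := by
  obtain ⟨C, c, hc, hfp, hC⟩ := exists_closed_left_multType_fp H G hH (equalizer.ι α β).left
  refine ⟨C, c, hc, hfp (Groth.Agent.Lib.T2H7.WeilClosed.lfp_equalizer_ι_left α β), fun X g => ?_⟩
  rw [hC X g, Groth.Agent.Lib.T2H7.WeilClosedOver.exists_lift_equalizer_iff]

/-- fixed points of an action of a group of multiplicative type on a scheme separated and locally of
finite type over the base are represented by a closed subscheme of finite presentation. -/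
theorem exists_closed_fixed_multType_fp (H X : Over S) [GrpObj H]
    (hH : TwC.Locally S TwC.Topology.fpqc (fun S' f => ∃ (M : Type) (_ : AddCommGroup M),
      Nonempty (Grp.mk (Red.bc f H) ≅ Grp.mk (Red.DS S' M))))
    [IsSeparated X.hom] [LocallyOfFiniteType X.hom] (a : AlgGrp.Action H X) :
    ∃ (F : Over S) (j : F ⟶ X), IsClosedImmersion j.left ∧ LocallyOfFinitePresentation j.left ∧
      ∀ (T : Over S) (x : T ⟶ X), (∃ y : T ⟶ F, y ≫ j = x) ↔ IsFix a x := by
  obtain ⟨F, j, hj, hfp, hF⟩ := exists_closed_eq_left_multType_fp H X X hH a.act (snd H X)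
  refine ⟨F, j, hj, hfp, fun T x => ?_⟩
  rw [hF T x]
  constructor
  · intro h T' t g
    have e : lift g (t ≫ x) = lift g t ≫ (H ◁ x) := by
      ext <;> simp
    rw [e, Category.assoc, h]
    simp
  · intro h
    have e : H ◁ x = lift (fst H T) (snd H T ≫ x) := by
      ext <;> simp
    have := h (H ⊗ T) (snd H T) (fst H T)
    rw [e, this]
    simp

/-- two monomorphisms representing the same subfunctor have isomorphic sources; transfer of
finite presentation. -/
theorem lfp_of_rep_eq {X F C : Over S} (j : F ⟶ X) (c : C ⟶ X) [Mono j] [Mono c]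
    (P : ∀ T : Over S, (T ⟶ X) → Prop)
    (hF : ∀ (T : Over S) (x : T ⟶ X), (∃ y : T ⟶ F, y ≫ j = x) ↔ P T x)
    (hC : ∀ (T : Over S) (x : T ⟶ X), (∃ y : T ⟶ C, y ≫ c = x) ↔ P T x)
    (hfp : LocallyOfFinitePresentation C.hom) : LocallyOfFinitePresentation F.hom := by
  obtain ⟨z, hz⟩ := (hC F j).2 ((hF F j).1 ⟨𝟙 F, Category.id_comp j⟩)
  obtain ⟨w, hw⟩ := (hF C c).2 ((hC C c).1 ⟨𝟙 C, Category.id_comp c⟩)
  have h1 : z ≫ w = 𝟙 F := by
    rw [← cancel_mono j, Category.assoc, hw, hz, Category.id_comp]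
  have h2 : w ≫ z = 𝟙 C := by
    rw [← cancel_mono c, Category.assoc, hz, hw, Category.id_comp]
  haveI : IsIso z := ⟨w, h1, h2⟩
  haveI : IsIso z.left := inferInstanceAs (IsIso ((Over.forget S).map z))
  have h3 : z.left ≫ C.hom = F.hom := Over.w z
  rw [← h3]
  haveI := hfp
  infer_instance

/-- **Smoothness of the fixed locus**, for `X` smooth and separated over `S` (no affineness, no
finite presentation hypothesis on the fixed locus). -/
theorem smooth_fixed_of_separated (H X : Over S) [GrpObj H]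
    (hH : TwC.Locally S TwC.Topology.fpqc (fun S' f => ∃ (M : Type) (_ : AddCommGroup M),
      Nonempty (Grp.mk (Red.bc f H) ≅ Grp.mk (Red.DS S' M))))
    (hXs : Smooth X.hom) [IsSeparated X.hom] (a : AlgGrp.Action H X)
    (F : Over S) (j : F ⟶ X) (hj : IsClosedImmersion j.left)
    (hF : ∀ (T : Over S) (x : T ⟶ X), (∃ y : T ⟶ F, y ≫ j = x) ↔ IsFix a x) :
    Smooth F.hom := by
  haveI := hXs
  haveI : LocallyOfFinitePresentation X.hom := inferInstance
  haveI : LocallyOfFiniteType X.hom := inferInstance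
  obtain ⟨C, c, hc, hcfp, hC⟩ := exists_closed_fixed_multType_fp H X hH a
  haveI := hj
  haveI := hc
  haveI : Mono j := by
    haveI : Mono ((Over.forget S).map j) := inferInstanceAs (Mono j.left)
    exact (Over.forget S).mono_of_mono_map inferInstance
  haveI : Mono c := by
    haveI : Mono ((Over.forget S).map c) := inferInstanceAs (Mono c.left)
    exact (Over.forget S).mono_of_mono_map inferInstance
  have hCfp : LocallyOfFinitePresentation C.hom := by
    have h3 : c.left ≫ X.hom = C.hom := Over.w c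
    rw [← h3]
    haveI := hcfp
    infer_instance
  have hFfp : LocallyOfFinitePresentation F.hom :=
    lfp_of_rep_eq j c (fun T x => IsFix a x) hF hC hCfp
  exact smooth_fixed' H X hH hXs a F j hj hFfp hF

/-- existence of a smooth closed fixed locus. -/
theorem exists_smooth_closed_fixed (H X : Over S) [GrpObj H]
    (hH : TwC.Locally S TwC.Topology.fpqc (fun S' f => ∃ (M : Type) (_ : AddCommGroup M),
      Nonempty (Grp.mk (Red.bc f H) ≅ Grp.mk (Red.DS S' M))))
    (hXs : Smooth X.hom) [IsSeparated X.hom] (a : AlgGrp.Action H X) :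
    ∃ (F : Over S) (j : F ⟶ X), IsClosedImmersion j.left ∧ LocallyOfFinitePresentation j.left ∧
      Smooth F.hom ∧
      ∀ (T : Over S) (x : T ⟶ X), (∃ y : T ⟶ F, y ≫ j = x) ↔ IsFix a x := by
  haveI := hXs
  haveI : LocallyOfFinitePresentation X.hom := inferInstance
  haveI : LocallyOfFiniteType X.hom := inferInstance
  obtain ⟨C, c, hc, hcfp, hC⟩ := exists_closed_fixed_multType_fp H X hH a
  exact ⟨C, c, hc, hcfp, smooth_fixed_of_separated H X hH hXs a C c hc hC, hC⟩

/-- conversion of `SGA3x.IsMultTypeFT` to the `TwC.Locally` form. -/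
theorem locally_of_isMultTypeFT (H : Over S) [GrpObj H] (hH : SGA3x.IsMultTypeFT H) :
    TwC.Locally S TwC.Topology.fpqc (fun S' f => ∃ (M : Type) (_ : AddCommGroup M),
      Nonempty (Grp.mk (Red.bc f H) ≅ Grp.mk (Red.DS S' M))) := by
  obtain ⟨S', f, hfl, hs, hcov, hloc⟩ := hH
  refine ⟨S', f, hfl, hs, hcov, fun s' => ?_⟩
  obtain ⟨U, hU, M, inst, -, e⟩ := hloc s'
  exact ⟨U, hU, M, inst, e⟩

end FP

end Groth.Agent.Lib.T2H7.FixSmG
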