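import Mathlib

/-!
Helper library (helper7): injectivity of `O_Y → φ_* O_X` is preserved by flat base change, for `φ` quasi-compact and
quasi-separated.
-/

set_option autoImplicit false
set_option linter.unusedSectionVars false
set_option linter.unusedVariables false
set_option linter.style.haveILetI false
universe u
open CategoryTheory CategoryTheory.Limits AlgebraicGeometry TopologicalSpace Opposite

namespace Groth.Agent.Lib.T2H7.FlatInj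

variable {X Y T P : Scheme.{u}} {f : T ⟶ Y} {g : P ⟶ X} {iX : X ⟶ Y} {iY : P ⟶ T}

/-- local form: over affine opens `W₀ ⊆ f⁻¹ V₀`. -/
theorem injective_appLE_of_affine (H : IsPullback g iY iX f) [Flat f] [QuasiCompact iX]
    [QuasiSeparated iX] (hinj : ∀ U : Y.Opens, Function.Injective (iX.app U).hom)
    {V₀ : Y.Opens} (hV₀ : IsAffineOpen V₀) {W₀ : T.Opens} (hW₀ : IsAffineOpen W₀)
    (hWV : W₀ ≤ f ⁻¹ᵁ V₀) :
    Function.Injective (iY.appLE W₀ (g ⁻¹ᵁ (iX ⁻¹ᵁ V₀) ⊓ iY ⁻¹ᵁ W₀) inf_le_right).hom := by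
  have hUX : IsCompact (X := X) (iX ⁻¹ᵁ V₀) :=
    QuasiCompact.isCompact_preimage (f := iX) _ V₀.2 hV₀.isCompact
  have hUX' : IsQuasiSeparated (α := X) (iX ⁻¹ᵁ V₀) :=
    iX.isQuasiSeparated_preimage hV₀.isQuasiSeparated
  have hiso : IsIso (pushoutSection H hWV (le_refl (iX ⁻¹ᵁ V₀)) rfl) :=
    isIso_pushoutSection_of_isQuasiSeparated_of_flat_right H hWV (le_refl _) rfl hV₀ hW₀ hUX hUX'
  have hinr : Function.Injective (pushout.inr (iX.appLE V₀ (iX ⁻¹ᵁ V₀) (le_refl _))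
      (f.appLE V₀ W₀ hWV)) := by
    apply CommRingCat.inr_injective_of_flat
    · rw [Scheme.Hom.appLE_eq_app]
      exact hinj V₀
    · exact f.flat_appLE hV₀ hW₀ _
  have hfac : iY.appLE W₀ (g ⁻¹ᵁ (iX ⁻¹ᵁ V₀) ⊓ iY ⁻¹ᵁ W₀) inf_le_right =
      pushout.inr _ _ ≫ pushoutSection H hWV (le_refl (iX ⁻¹ᵁ V₀)) rfl := by
    rw [pushout.inr_desc]
  rw [hfac, CommRingCat.hom_comp, RingHom.coe_comp]
  exact ((ConcreteCategory.isIso_iff_bijective _).mp hiso).1.comp hinr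

theorem injective_app_of_flat_baseChange (H : IsPullback g iY iX f) [Flat f] [QuasiCompact iX]
    [QuasiSeparated iX] (hinj : ∀ U : Y.Opens, Function.Injective (iX.app U).hom) (W : T.Opens) :
    Function.Injective (iY.app W).hom := by
  intro s t hst
  have key : ∀ x : W, ∃ (W₀ : T.Opens) (hW₀ : W₀ ≤ W), x.1 ∈ W₀ ∧
      (T.presheaf.map (homOfLE hW₀).op).hom s = (T.presheaf.map (homOfLE hW₀).op).hom t := by
    intro x
    obtain ⟨_, ⟨V₀, hV₀, rfl⟩, hxV₀, -⟩ := Y.isBasis_affineOpens.exists_subset_of_mem_open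
      (Set.mem_univ (f x.1)) isOpen_univ
    replace hV₀ : IsAffineOpen V₀ := hV₀
    obtain ⟨_, ⟨W₀, hW₀, rfl⟩, hxW₀, hW₀sub⟩ := T.isBasis_affineOpens.exists_subset_of_mem_open
      (show x.1 ∈ ((W ⊓ f ⁻¹ᵁ V₀ : T.Opens) : Set T) from ⟨x.2, hxV₀⟩) (W ⊓ f ⁻¹ᵁ V₀).2
    replace hW₀ : IsAffineOpen W₀ := hW₀
    have hW₀W : W₀ ≤ W := fun y hy => (hW₀sub hy).1
    have hWV : W₀ ≤ f ⁻¹ᵁ V₀ := fun y hy => (hW₀sub hy).2
    refine ⟨W₀, hW₀W, hxW₀, ?_⟩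
    apply injective_appLE_of_affine H hinj hV₀ hW₀ hWV
    have hle : g ⁻¹ᵁ (iX ⁻¹ᵁ V₀) ⊓ iY ⁻¹ᵁ W₀ ≤ iY ⁻¹ᵁ W :=
      inf_le_right.trans (iY.preimage_mono hW₀W)
    have e1 : ∀ r : Γ(T, W), (iY.appLE W₀ (g ⁻¹ᵁ (iX ⁻¹ᵁ V₀) ⊓ iY ⁻¹ᵁ W₀) inf_le_right).hom
        ((T.presheaf.map (homOfLE hW₀W).op).hom r) =
        (P.presheaf.map (homOfLE hle).op).hom ((iY.app W).hom r) := by
      intro r
      have h1 : T.presheaf.map (homOfLE hW₀W).op ≫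
          iY.appLE W₀ (g ⁻¹ᵁ (iX ⁻¹ᵁ V₀) ⊓ iY ⁻¹ᵁ W₀) inf_le_right =
          iY.app W ≫ P.presheaf.map (homOfLE hle).op := by
        rw [Scheme.Hom.map_appLE, Scheme.Hom.appLE]
      have := congrArg (fun φ => φ.hom r) h1
      simp only [CommRingCat.hom_comp, RingHom.comp_apply] at this
      exact this
    rw [e1, e1, hst]
  choose W₀ hW₀ hx hloc using key
  refine TopCat.Sheaf.eq_of_locally_eq' T.sheaf W₀ W (fun x => homOfLE (hW₀ x)) ?_ s t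
    (fun x => hloc x)
  intro x hx'
  exact Opens.mem_iSup.2 ⟨⟨x, hx'⟩, hx _⟩

end Groth.Agent.Lib.T2H7.FlatInj
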