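import Mathlib

/-!
Sections vanishing on the base change of a closed subscheme lie in the ideal generated by the
ideal of the closed subscheme.
-/

set_option autoImplicit false
set_option linter.unusedSectionVars false
set_option linter.unusedVariables false
set_option linter.style.haveILetI false
universe u
open CategoryTheory CategoryTheory.Limits AlgebraicGeometry

namespace Groth.Agent.Lib.T2H7.MultActKer

variable {T T₀ Z : Scheme.{u}} (t₀ : T₀ ⟶ T) [IsClosedImmersion t₀] (z : Z ⟶ T)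

/-- A section of `Z` over an affine open `W` (lying over the affine open `V` of `T`) which vanishes
on `Z ×_T T₀` lies in the ideal generated by the ideal of `T₀` in `V`. -/
theorem mem_map_ker_of_restrict_eq_zero (V : T.Opens) (hV : IsAffineOpen V) (W : Z.Opens)
    (hW : IsAffineOpen W) (e : W ≤ z ⁻¹ᵁ V) (x : Γ(Z, W))
    (hx : ((pullback.fst z t₀).appLE W ((pullback.fst z t₀) ⁻¹ᵁ W) le_rfl).hom x = 0) :
    x ∈ Ideal.map (z.appLE V W e).hom (RingHom.ker (t₀.app V).hom) := by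
  have H : IsPullback (pullback.fst z t₀) (pullback.snd z t₀) z t₀ :=
    IsPullback.of_hasPullback z t₀
  have hUST : t₀ ⁻¹ᵁ V ≤ t₀ ⁻¹ᵁ V := le_rfl
  have hiso := isIso_pushoutSection_of_isAffineOpen H hUST e
    (UY := (pullback.fst z t₀) ⁻¹ᵁ W ⊓ (pullback.snd z t₀) ⁻¹ᵁ (t₀ ⁻¹ᵁ V)) rfl
    hV (hV.preimage t₀) hW
  have hPO := (isIso_pushoutSection_iff H hUST e rfl).1 hiso
  let 𝔞 : Ideal Γ(Z, W) := Ideal.map (z.appLE V W e).hom (RingHom.ker (t₀.app V).hom)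
  let Q : CommRingCat.{u} := CommRingCat.of (Γ(Z, W) ⧸ 𝔞)
  let inl' : Γ(Z, W) ⟶ Q := CommRingCat.ofHom (Ideal.Quotient.mk 𝔞)
  have hsurj : Function.Surjective (t₀.app V).hom := t₀.app_surjective V hV
  have hker : RingHom.ker (t₀.app V).hom ≤
      RingHom.ker ((Ideal.Quotient.mk 𝔞).comp (z.appLE V W e).hom) := by
    intro r hr
    rw [RingHom.mem_ker, RingHom.comp_apply, Ideal.Quotient.eq_zero_iff_mem]
    exact Ideal.mem_map_of_mem _ hr
  let lft : Γ(T₀, t₀ ⁻¹ᵁ V) →+* Γ(Z, W) ⧸ 𝔞 :=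
    RingHom.liftOfSurjective (t₀.app V).hom hsurj ⟨_, hker⟩
  let inr' : Γ(T₀, t₀ ⁻¹ᵁ V) ⟶ Q := CommRingCat.ofHom lft
  have h1 : t₀.appLE V (t₀ ⁻¹ᵁ V) hUST = t₀.app V := by
    simp [Scheme.Hom.appLE]
  have hcompat : z.appLE V W e ≫ inl' = t₀.appLE V (t₀ ⁻¹ᵁ V) hUST ≫ inr' := by
    rw [h1]
    ext r
    show (Ideal.Quotient.mk 𝔞) ((z.appLE V W e).hom r) = lft ((t₀.app V).hom r)
    exact (RingHom.liftOfRightInverse_comp_apply _ _ _ ⟨_, hker⟩ r).symm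
  have hdesc := hPO.inl_desc inl' inr' hcompat
  have h3 : ((pullback.fst z t₀).appLE W
      ((pullback.fst z t₀) ⁻¹ᵁ W ⊓ (pullback.snd z t₀) ⁻¹ᵁ (t₀ ⁻¹ᵁ V)) (by simp)).hom x = 0 := by
    have h4 := Scheme.Hom.appLE_map (pullback.fst z t₀) (U := W)
      (V := (pullback.fst z t₀) ⁻¹ᵁ W) le_rfl
      (homOfLE (inf_le_left : (pullback.fst z t₀) ⁻¹ᵁ W ⊓
        (pullback.snd z t₀) ⁻¹ᵁ (t₀ ⁻¹ᵁ V) ≤ (pullback.fst z t₀) ⁻¹ᵁ W)).op
    rw [← h4, CommRingCat.comp_apply, hx, map_zero]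
  have h5 : inl'.hom x = 0 := by
    rw [← hdesc, CommRingCat.comp_apply, h3, map_zero]
  exact Ideal.Quotient.eq_zero_iff_mem.1 h5

end Groth.Agent.Lib.T2H7.MultActKer
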