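import Groth.Agent.Lib.T2H7MultActAlg
import Groth.Agent.Lib.T2H7MultActKer
import Groth.Agent.Lib.T2H3MultGa

/-!
Core: an action (on points) of a diagonalisable group `D_T(M)` on a `T`-scheme `Z` which is trivial
on points factoring through a locally nilpotent closed subscheme `T₀ ⟶ T` is trivial.
-/

set_option autoImplicit false
set_option linter.unusedSectionVars false
set_option linter.unusedVariables false
set_option linter.style.haveILetI false
universe u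
open CategoryTheory CategoryTheory.Limits MonoidalCategory CartesianMonoidalCategory MonObj GrpObj
  AlgebraicGeometry

namespace Groth.Agent.Lib.T2H7.MultActCore

open Groth.Agent.Lib.T2H3.MultGa Groth.Agent.Lib.T2H7.MultActAlg Groth.Agent.Lib.T2H7.MultActKer

section Nil

variable {T T₀ : Scheme.{u}} (t₀ : T₀ ⟶ T) [IsClosedImmersion t₀]

/-- the closed immersion `t₀` has locally nilpotent ideal. -/
def LocNilp : Prop :=
  ∀ t : T, ∃ V : T.Opens, IsAffineOpen V ∧ t ∈ V ∧ IsNilpotent (RingHom.ker (t₀.app V).hom)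

theorem surjective_of_locNilp (h : LocNilp t₀) : Surjective t₀ := by
  constructor
  intro t
  obtain ⟨V, hV, htV, N, hN⟩ := h t
  have h1 : t ∈ t₀.ker.support := by
    rw [Scheme.IdealSheafData.mem_support_iff_of_mem (U := ⟨V, hV⟩) htV, Scheme.Hom.ker_apply,
      Scheme.mem_zeroLocus_iff]
    intro f hf
    have hfN : f ^ (N + 1) = 0 := by
      have h2 : f ^ N ∈ (RingHom.ker (t₀.app V).hom) ^ N := Ideal.pow_mem_pow hf N
      rw [hN] at h2
      rw [pow_succ, (Submodule.mem_bot _).1 h2, zero_mul]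
    have h3 : T.basicOpen f = ⊥ := by
      rw [← Scheme.basicOpen_pow T f (Nat.succ_pos N), hfN, Scheme.basicOpen_zero]
    rw [h3]
    exact fun h => h
  have h1' : t ∈ (t₀.ker.support : Set T) := h1
  rw [Scheme.Hom.support_ker] at h1'
  have hcl : IsClosed (Set.range t₀) := t₀.isClosedEmbedding.isClosed_range
  rw [hcl.closure_eq] at h1'
  exact h1'

end Nil

section Aux

variable {T : Scheme.{u}}

theorem specMap_fromSpec_inj {V : T.Opens} (hV : IsAffineOpen V) {C : CommRingCat.{u}}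
    (φ ψ : Γ(T, V) ⟶ C) (h : Spec.map φ ≫ hV.fromSpec = Spec.map ψ ≫ hV.fromSpec) : φ = ψ :=
  Spec.map_injective ((cancel_mono hV.fromSpec).1 h)

theorem appLE_top_of_eq {V : T.Opens} (hV : IsAffineOpen V) {C : CommRingCat.{u}}
    (f : Spec C ⟶ T) (φ : Γ(T, V) ⟶ C) (hf : f = Spec.map φ ≫ hV.fromSpec)
    (e : (⊤ : (Spec C).Opens) ≤ f ⁻¹ᵁ V) :
    f.appLE V ⊤ e ≫ (Scheme.ΓSpecIso C).hom = φ := by
  have h1 := IsAffineOpen.SpecMap_appLE_fromSpec f hV (isAffineOpen_top (Spec C)) e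
  rw [IsAffineOpen.fromSpec_top, Scheme.isoSpec_Spec_inv] at h1
  apply specMap_fromSpec_inj hV
  rw [Spec.map_comp, Category.assoc, h1, ← Category.assoc, ← Spec.map_comp, Iso.inv_hom_id,
    Spec.map_id, Category.id_comp, hf]

end Aux

section Local

variable {T : Scheme.{u}} {M : Type} [AddCommGroup M] {Z : Over T}
  {W : Z.left.Opens} (hW : IsAffineOpen W)

/-- `Spec C` over `T` through `ζ : Γ(Z, W) → C`. -/
noncomputable def obj {C : Type u} [CommRing C] (ζ : Γ(Z.left, W) →+* C) : Over T :=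
  Over.mk (Spec.map (CommRingCat.ofHom ζ) ≫ hW.fromSpec ≫ Z.hom)

/-- the base point `Spec C ⟶ W ⊆ Z`. -/
noncomputable def bp {C : Type u} [CommRing C] (ζ : Γ(Z.left, W) →+* C) : obj hW ζ ⟶ Z :=
  Over.homMk (Spec.map (CommRingCat.ofHom ζ) ≫ hW.fromSpec) (by simp [obj])

theorem bp_left {C : Type u} [CommRing C] (ζ : Γ(Z.left, W) →+* C) :
    (bp hW ζ).left = Spec.map (CommRingCat.ofHom ζ) ≫ hW.fromSpec := rfl

/-- morphisms between the `obj`. -/
noncomputable def mor {C₁ C₂ : Type u} [CommRing C₁] [CommRing C₂] {ζ₁ : Γ(Z.left, W) →+* C₁}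
    {ζ₂ : Γ(Z.left, W) →+* C₂} (φ : C₁ →+* C₂)
    (h : Spec.map (CommRingCat.ofHom φ) ≫ (obj hW ζ₁).hom = (obj hW ζ₂).hom) :
    obj hW ζ₂ ⟶ obj hW ζ₁ :=
  Over.homMk (Spec.map (CommRingCat.ofHom φ)) h

theorem mor_left {C₁ C₂ : Type u} [CommRing C₁] [CommRing C₂] {ζ₁ : Γ(Z.left, W) →+* C₁}
    {ζ₂ : Γ(Z.left, W) →+* C₂} (φ : C₁ →+* C₂)
    (h : Spec.map (CommRingCat.ofHom φ) ≫ (obj hW ζ₁).hom = (obj hW ζ₂).hom) :
    (mor hW φ h).left = Spec.map (CommRingCat.ofHom φ) := rfl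

theorem obj_hom_of_comp {C₁ C₂ : Type u} [CommRing C₁] [CommRing C₂] (ζ₁ : Γ(Z.left, W) →+* C₁)
    (ζ₂ : Γ(Z.left, W) →+* C₂) (φ : C₁ →+* C₂) (hφ : φ.comp ζ₁ = ζ₂) :
    Spec.map (CommRingCat.ofHom φ) ≫ (obj hW ζ₁).hom = (obj hW ζ₂).hom := by
  subst hφ
  show Spec.map _ ≫ Spec.map _ ≫ _ = Spec.map _ ≫ _
  rw [← Category.assoc, ← Spec.map_comp]
  rfl

theorem mor_bp {C₁ C₂ : Type u} [CommRing C₁] [CommRing C₂] (ζ₁ : Γ(Z.left, W) →+* C₁)
    (ζ₂ : Γ(Z.left, W) →+* C₂) (φ : C₁ →+* C₂) (hφ : φ.comp ζ₁ = ζ₂)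
    (h : Spec.map (CommRingCat.ofHom φ) ≫ (obj hW ζ₁).hom = (obj hW ζ₂).hom) :
    mor hW φ h ≫ bp hW ζ₁ = bp hW ζ₂ := by
  subst hφ
  ext
  show Spec.map _ ≫ Spec.map _ ≫ _ = Spec.map _ ≫ _
  rw [← Category.assoc, ← Spec.map_comp]
  rfl

theorem dsFn_mor {C₁ C₂ : Type u} [CommRing C₁] [CommRing C₂] {ζ₁ : Γ(Z.left, W) →+* C₁}
    {ζ₂ : Γ(Z.left, W) →+* C₂} (φ : C₁ →+* C₂)
    (h : Spec.map (CommRingCat.ofHom φ) ≫ (obj hW ζ₁).hom = (obj hW ζ₂).hom)
    (j : obj hW ζ₁ ⟶ Red.DS T M) (b : MonoidAlgebra (ULift.{u} ℤ) (Multiplicative M)) (c : C₁)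
    (hj : dsFn j b = toG c) : dsFn (mor hW φ h ≫ j) b = toG (φ c) := by
  rw [dsFn_comp, hj, mor_left]
  exact specMap_appTop_toG φ c

end Local

section Univ

variable {T : Scheme.{u}} {M : Type} [AddCommGroup M] {Z : Over T}
  {W : Z.left.Opens} (hW : IsAffineOpen W)

/-- the inclusion `A → A[M]`. -/
noncomputable abbrev ι₀ : Γ(Z.left, W) →+* MonoidAlgebra Γ(Z.left, W) (Multiplicative M) :=
  MonoidAlgebra.singleOneRingHom

/-- a universal character over `Spec A[M]`. -/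
theorem exists_univ' :
    ∃ j : obj hW (ι₀ (M := M) (W := W)) ⟶ Red.DS T M,
      ∀ m : Multiplicative M, dsFn j (MonoidAlgebra.single m 1) =
        toG (MonoidAlgebra.single m (1 : Γ(Z.left, W))) := by
  let f : ULift.{u} ℤ →+* Γ(Z.left, W) :=
    (Int.castRingHom Γ(Z.left, W)).comp (ULift.ringEquiv.toRingHom)
  let ψ : MonoidAlgebra (ULift.{u} ℤ) (Multiplicative M) →+*
      Γ((obj hW (ι₀ (M := M) (W := W))).left, ⊤) :=
    ((Scheme.ΓSpecIso (CommRingCat.of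
      (MonoidAlgebra Γ(Z.left, W) (Multiplicative M)))).inv.hom).comp
      (MonoidAlgebra.mapRingHom (Multiplicative M) f)
  obtain ⟨j, hj⟩ := exists_dsPt (T := T) (M := M) (Y := obj hW (ι₀ (M := M) (W := W))) ψ
  refine ⟨j, fun m => ?_⟩
  rw [hj]
  change toG (MonoidAlgebra.mapRingHom (Multiplicative M) f (MonoidAlgebra.single m 1)) = _
  congr 1
  simp [f]

end Univ

section Main

variable {T T₀ : Scheme.{u}} (t₀ : T₀ ⟶ T) [IsClosedImmersion t₀]
  {M : Type} [AddCommGroup M] {Z : Over T}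

theorem dsFn_one_pt {Y : Over T} (m : Multiplicative M) :
    dsFn (1 : Y ⟶ Red.DS T M) (MonoidAlgebra.single m 1) = 1 := by
  have h1 : dsFn (1 : Y ⟶ Red.DS T M) (MonoidAlgebra.single m 1) *
      dsFn (1 : Y ⟶ Red.DS T M) (MonoidAlgebra.single m 1) =
      dsFn (1 : Y ⟶ Red.DS T M) (MonoidAlgebra.single m 1) := by
    have h0 := dsFn_mul_single (1 : Y ⟶ Red.DS T M) 1 m
    have e : (1 : Y ⟶ Red.DS T M) * 1 = 1 := _root_.one_mul (1 : Y ⟶ Red.DS T M)
    exact h0.symm.trans (congrArg (fun x => dsFn x (MonoidAlgebra.single m 1)) e)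
  have h2 : dsFn (1 : Y ⟶ Red.DS T M) (MonoidAlgebra.single m 1) *
      dsFn (1 : Y ⟶ Red.DS T M) (MonoidAlgebra.single m⁻¹ 1) = 1 := by
    rw [← dsFn_mul, MonoidAlgebra.single_mul_single, mul_inv_cancel, _root_.one_mul,
      ← MonoidAlgebra.one_def, dsFn_one]
  calc dsFn (1 : Y ⟶ Red.DS T M) (MonoidAlgebra.single m 1)
      = dsFn (1 : Y ⟶ Red.DS T M) (MonoidAlgebra.single m 1) *
        (dsFn (1 : Y ⟶ Red.DS T M) (MonoidAlgebra.single m 1) *
        dsFn (1 : Y ⟶ Red.DS T M) (MonoidAlgebra.single m⁻¹ 1)) := by rw [h2, _root_.mul_one]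
    _ = 1 := by rw [← _root_.mul_assoc, h1, h2]

variable (act : ∀ (Y : Over T), (Y ⟶ Red.DS T M) → (Y ⟶ Z) → (Y ⟶ Z))
  (nat : ∀ {Y₁ Y₂ : Over T} (h : Y₂ ⟶ Y₁) (χ : Y₁ ⟶ Red.DS T M) (z : Y₁ ⟶ Z),
      h ≫ act Y₁ χ z = act Y₂ (h ≫ χ) (h ≫ z))
  (one : ∀ (Y : Over T) (z : Y ⟶ Z), act Y 1 z = z)
  (mul : ∀ (Y : Over T) (χ₁ χ₂ : Y ⟶ Red.DS T M) (z : Y ⟶ Z),
      act Y (χ₁ * χ₂) z = act Y χ₁ (act Y χ₂ z))
  (triv : ∀ (Y : Over T) (p : Y.left ⟶ T₀), p ≫ t₀ = Y.hom →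
      ∀ (χ : Y ⟶ Red.DS T M) (z : Y ⟶ Z), act Y χ z = z)

include nat one mul triv in
theorem univ_trivial (hsurj : Surjective t₀) {V : T.Opens} (hV : IsAffineOpen V)
    (hnil : IsNilpotent (RingHom.ker (t₀.app V).hom))
    {W : Z.left.Opens} (hW : IsAffineOpen W) (hWV : W ≤ Z.hom ⁻¹ᵁ V)
    (j : obj hW (ι₀ (M := M) (W := W)) ⟶ Red.DS T M)
    (hj : ∀ m : Multiplicative M, dsFn j (MonoidAlgebra.single m 1) =
      toG (MonoidAlgebra.single m (1 : Γ(Z.left, W)))) :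
    act (obj hW (ι₀ (M := M) (W := W))) j (bp hW (ι₀ (M := M) (W := W))) =
      bp hW (ι₀ (M := M) (W := W)) := by
  let st' : Γ(T, V) ⟶ Γ(Z.left, W) := Z.hom.appLE V W hWV
  have hc₀ : hW.fromSpec ≫ Z.hom = Spec.map st' ≫ hV.fromSpec :=
    (IsAffineOpen.SpecMap_appLE_fromSpec Z.hom hV hW hWV).symm
  have hobj : ∀ {C : Type u} [CommRing C] (ζ : Γ(Z.left, W) →+* C),
      (obj hW ζ).hom = Spec.map (st' ≫ CommRingCat.ofHom ζ) ≫ hV.fromSpec := by
    intro C _ ζ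
    show Spec.map _ ≫ hW.fromSpec ≫ Z.hom = _
    rw [hc₀, ← Category.assoc, ← Spec.map_comp]
  have hinj : ∀ {C : Type u} [CommRing C] (φ ψ : Γ(Z.left, W) →+* C),
      Spec.map (CommRingCat.ofHom φ) ≫ hW.fromSpec =
        Spec.map (CommRingCat.ofHom ψ) ≫ hW.fromSpec → φ = ψ := by
    intro C _ φ ψ h
    exact congrArg CommRingCat.Hom.hom (specMap_fromSpec_inj hW _ _ h)
  let i₀ : Γ(Z.left, W) →+* MonoidAlgebra Γ(Z.left, W) (Multiplicative M) := ι₀
  let o : obj hW i₀ ⟶ Z := act (obj hW i₀) j (bp hW i₀)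
  have ho : o = act (obj hW i₀) j (bp hW i₀) := rfl
  let y₁ : Spec (CommRingCat.of (MonoidAlgebra Γ(Z.left, W) (Multiplicative M))) ⟶ T :=
    Spec.map (CommRingCat.ofHom i₀) ≫ hW.fromSpec ≫ Z.hom
  have hy₁ : y₁ = Spec.map (st' ≫ CommRingCat.ofHom i₀) ≫ hV.fromSpec := hobj i₀
  let ol : Spec (CommRingCat.of (MonoidAlgebra Γ(Z.left, W) (Multiplicative M))) ⟶ Z.left := o.left
  have hw : ol ≫ Z.hom = y₁ := Over.w o
  -- Step 1: `o` lands in `W`
  let Y₁₀ : Over T := Over.mk (pullback.fst y₁ t₀ ≫ y₁)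
  let k : Y₁₀ ⟶ obj hW i₀ := Over.homMk (pullback.fst y₁ t₀) rfl
  have hk : k ≫ o = k ≫ bp hW i₀ := by
    rw [ho, nat]
    exact triv Y₁₀ (pullback.snd y₁ t₀) pullback.condition.symm _ _
  have hkl : pullback.fst y₁ t₀ ≫ ol =
      pullback.fst y₁ t₀ ≫ Spec.map (CommRingCat.ofHom i₀) ≫ hW.fromSpec :=
    congr_arg (fun m => m.left) hk
  have hksurj : Surjective (pullback.fst y₁ t₀) :=
    MorphismProperty.pullback_fst (P := @Surjective) _ _ hsurj
  have hpt : ∀ y, ol y = (Spec.map (CommRingCat.ofHom i₀) ≫ hW.fromSpec) y := by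
    intro y
    obtain ⟨y', rfl⟩ := hksurj.surj y
    rw [← Scheme.Hom.comp_apply, ← Scheme.Hom.comp_apply, hkl]
  have hrange : Set.range ol ⊆ Set.range hW.fromSpec := by
    rintro _ ⟨y, rfl⟩
    rw [hpt, Scheme.Hom.comp_apply]
    exact ⟨_, rfl⟩
  let l := IsOpenImmersion.lift hW.fromSpec ol hrange
  have hl : l ≫ hW.fromSpec = ol := IsOpenImmersion.lift_fac _ _ _
  let ρ : Γ(Z.left, W) →+* MonoidAlgebra Γ(Z.left, W) (Multiplicative M) :=
    (Spec.preimage l).hom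
  have hoρ : ol = Spec.map (CommRingCat.ofHom ρ) ≫ hW.fromSpec := by
    rw [← hl]
    congr 1
    exact (Spec.map_preimage l).symm
  -- T3: compatibility with the base
  have Hst' : st' ≫ CommRingCat.ofHom ρ = st' ≫ CommRingCat.ofHom i₀ := by
    apply specMap_fromSpec_inj hV
    have h1 := hw
    rw [hoρ, Category.assoc, hc₀, ← Category.assoc, ← Spec.map_comp] at h1
    exact h1.trans hy₁
  have Hst : ∀ r, ρ (st'.hom r) = MonoidAlgebra.single 1 (st'.hom r) := by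
    intro r
    exact congrArg (fun k => k.hom r) Hst'
  -- T2: triviality modulo the ideal
  have hfst : pullback.fst y₁ t₀ ≫ Spec.map (CommRingCat.ofHom ρ) =
      pullback.fst y₁ t₀ ≫ Spec.map (CommRingCat.ofHom i₀) := by
    rw [← cancel_mono hW.fromSpec, Category.assoc, Category.assoc, ← hoρ]
    exact hkl
  have e : (⊤ : (Spec (CommRingCat.of
      (MonoidAlgebra Γ(Z.left, W) (Multiplicative M)))).Opens) ≤ y₁ ⁻¹ᵁ V := by
    rw [hy₁, Scheme.Hom.comp_preimage, hV.fromSpec_preimage_self]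
    exact le_rfl
  have hst₂ : y₁.appLE V ⊤ e ≫ (Scheme.ΓSpecIso _).hom = st' ≫ CommRingCat.ofHom i₀ :=
    appLE_top_of_eq hV y₁ (st' ≫ CommRingCat.ofHom i₀) hy₁ e
  have Htriv : ∀ (a : Γ(Z.left, W)) (g : Multiplicative M), g ≠ 1 →
      (ρ a).coeff g ∈ Ideal.map st'.hom (RingHom.ker (t₀.app V).hom) := by
    intro a g hg
    refine coeff_mem_of_sub_mem st'.hom _ (ρ a) a ?_ g hg
    have hx : ((pullback.fst y₁ t₀).appLE ⊤ ((pullback.fst y₁ t₀) ⁻¹ᵁ ⊤) le_rfl).hom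
        (toG (ρ a) - toG (i₀ a)) = 0 := by
      have h1 : (pullback.fst y₁ t₀).appLE ⊤ ((pullback.fst y₁ t₀) ⁻¹ᵁ ⊤) le_rfl =
          (pullback.fst y₁ t₀).appTop := by
        simp [Scheme.Hom.appLE, Scheme.Hom.appTop]
      rw [h1, map_sub, sub_eq_zero, ← specMap_appTop_toG ρ a, ← specMap_appTop_toG i₀ a]
      have h2 := congrArg (fun k => (Scheme.Hom.appTop k).hom (toG a)) hfst
      simp only [Scheme.Hom.comp_appTop] at h2
      exact h2
    have h3 := mem_map_ker_of_restrict_eq_zero t₀ y₁ V hV ⊤ (isAffineOpen_top _) e _ hx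
    have h4 := Ideal.mem_map_of_mem (Scheme.ΓSpecIso _).hom.hom h3
    rw [Ideal.map_map] at h4
    have h5 : (Scheme.ΓSpecIso _).hom.hom.comp (y₁.appLE V ⊤ e).hom =
        (MonoidAlgebra.singleOneRingHom).comp st'.hom := congrArg CommRingCat.Hom.hom hst₂
    rw [h5] at h4
    have h6 : (Scheme.ΓSpecIso _).hom.hom (toG (ρ a) - toG (i₀ a)) =
        ρ a - MonoidAlgebra.single 1 a := by
      rw [map_sub]
      exact congrArg₂ (· - ·) (ofG_toG (ρ a)) (ofG_toG (i₀ a))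
    rw [h6] at h4
    exact h4
  -- T4: counit
  have haug : (aug : MonoidAlgebra Γ(Z.left, W) (Multiplicative M) →+* Γ(Z.left, W)).comp i₀ =
      RingHom.id _ := by
    refine RingHom.ext fun a => ?_
    show aug (MonoidAlgebra.single (1 : Multiplicative M) a) = a
    unfold aug
    rw [ext_single, RingHom.id_apply, MonoidHom.one_apply, _root_.mul_one]
  have hu := obj_hom_of_comp hW i₀ (RingHom.id _) aug haug
  let u : obj hW (RingHom.id Γ(Z.left, W)) ⟶ obj hW i₀ := mor hW aug hu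
  have huj : u ≫ j = 1 := by
    apply ds_ext
    intro m
    have h0 := dsFn_one_pt (T := T) (M := M) (Y := obj hW (RingHom.id Γ(Z.left, W))) m
    have h1 : aug (MonoidAlgebra.single m (1 : Γ(Z.left, W))) = 1 := by
      unfold aug
      rw [ext_single, RingHom.id_apply, MonoidHom.one_apply, _root_.mul_one]
    refine ((dsFn_mor (ζ₁ := i₀) (ζ₂ := RingHom.id Γ(Z.left, W)) hW aug hu j _ _ (hj m)).trans ?_).trans h0.symm
    rw [h1]
    exact map_one (Scheme.ΓSpecIso _).inv.hom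
  have hub : u ≫ bp hW i₀ = bp hW (RingHom.id _) := mor_bp hW i₀ (RingHom.id _) aug haug hu
  have Hunit' : (aug : MonoidAlgebra Γ(Z.left, W) (Multiplicative M) →+* Γ(Z.left, W)).comp ρ =
      RingHom.id _ := by
    apply hinj
    have h1 : u ≫ o = bp hW (RingHom.id _) := by
      rw [ho, nat, huj, hub, one]
    have h2 := congrArg (fun m => m.left) h1
    change Spec.map (CommRingCat.ofHom aug) ≫ ol =
      Spec.map (CommRingCat.ofHom (RingHom.id _)) ≫ hW.fromSpec at h2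
    rw [hoρ, ← Category.assoc, ← Spec.map_comp] at h2
    exact h2
  -- T5: coassociativity
  let ζ₂ : Γ(Z.left, W) →+*
      MonoidAlgebra Γ(Z.left, W) (Multiplicative M × Multiplicative M) :=
    MonoidAlgebra.singleOneRingHom
  have hδ : (δ : MonoidAlgebra Γ(Z.left, W) (Multiplicative M) →+* _).comp i₀ = ζ₂ := by
    refine RingHom.ext fun a => ?_
    show δ (MonoidAlgebra.single (1 : Multiplicative M) a) =
      MonoidAlgebra.single (1 : Multiplicative M × Multiplicative M) a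
    simp [δ] <;> rfl
  have hι₁ : (ι₁ : MonoidAlgebra Γ(Z.left, W) (Multiplicative M) →+* _).comp i₀ = ζ₂ := by
    refine RingHom.ext fun a => ?_
    show ι₁ (MonoidAlgebra.single (1 : Multiplicative M) a) =
      MonoidAlgebra.single (1 : Multiplicative M × Multiplicative M) a
    simp [ι₁] <;> rfl
  have hι₂ : (ι₂ : MonoidAlgebra Γ(Z.left, W) (Multiplicative M) →+* _).comp i₀ = ζ₂ := by
    refine RingHom.ext fun a => ?_
    show ι₂ (MonoidAlgebra.single (1 : Multiplicative M) a) =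
      MonoidAlgebra.single (1 : Multiplicative M × Multiplicative M) a
    simp [ι₂] <;> rfl
  have hd := obj_hom_of_comp hW i₀ ζ₂ δ hδ
  have hh₁ := obj_hom_of_comp hW i₀ ζ₂ ι₁ hι₁
  have hh₂ := obj_hom_of_comp hW i₀ ζ₂ ι₂ hι₂
  have hγi : (MultActAlg.γ ρ).comp i₀ = ι₂.comp ρ := by
    refine RingHom.ext fun a => ?_
    show MultActAlg.γ ρ (MonoidAlgebra.single (1 : Multiplicative M) a) = ι₂ (ρ a)
    unfold MultActAlg.γ
    rw [ext_single, map_one, _root_.mul_one]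
    rfl
  have hc : Spec.map (CommRingCat.ofHom (MultActAlg.γ ρ)) ≫ (obj hW i₀).hom = (obj hW ζ₂).hom := by
    rw [hobj i₀, hobj ζ₂, ← Category.assoc, ← Spec.map_comp]
    congr 2
    refine CommRingCat.hom_ext (RingHom.ext fun r => ?_)
    show MultActAlg.γ ρ (i₀ (st'.hom r)) = ζ₂ (st'.hom r)
    have h1 : MultActAlg.γ ρ (i₀ (st'.hom r)) = ι₂ (ρ (st'.hom r)) :=
      congrArg (fun k : _ →+* _ => k (st'.hom r)) hγi
    rw [h1, Hst r]
    exact congrArg (fun k : _ →+* _ => k (st'.hom r)) hι₂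
  let d : obj hW ζ₂ ⟶ obj hW i₀ := mor hW δ hd
  let h₁ : obj hW ζ₂ ⟶ obj hW i₀ := mor hW ι₁ hh₁
  let h₂ : obj hW ζ₂ ⟶ obj hW i₀ := mor hW ι₂ hh₂
  let c : obj hW ζ₂ ⟶ obj hW i₀ := mor hW (MultActAlg.γ ρ) hc
  have hdj : d ≫ j = (h₁ ≫ j) * (h₂ ≫ j) := by
    apply ds_ext
    intro m
    rw [dsFn_mul_single, dsFn_mor (ζ₁ := i₀) (ζ₂ := ζ₂) hW δ hd j _ _ (hj m), dsFn_mor (ζ₁ := i₀) (ζ₂ := ζ₂) hW ι₁ hh₁ j _ _ (hj m),
      dsFn_mor (ζ₁ := i₀) (ζ₂ := ζ₂) hW ι₂ hh₂ j _ _ (hj m)]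
    have h3 : δ (MonoidAlgebra.single m (1 : Γ(Z.left, W))) =
        ι₁ (MonoidAlgebra.single m 1) * ι₂ (MonoidAlgebra.single m 1) := by
      simp [δ, ι₁, ι₂, MonoidAlgebra.single_mul_single]
    exact (congrArg toG h3).trans (toG_mul _ _)
  have hcj : c ≫ j = h₁ ≫ j := by
    apply ds_ext
    intro m
    rw [dsFn_mor (ζ₁ := i₀) (ζ₂ := ζ₂) hW (MultActAlg.γ ρ) hc j _ _ (hj m),
      dsFn_mor (ζ₁ := i₀) (ζ₂ := ζ₂) hW ι₁ hh₁ j _ _ (hj m)]
    have h3 : MultActAlg.γ ρ (MonoidAlgebra.single m (1 : Γ(Z.left, W))) =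
        ι₁ (MonoidAlgebra.single m 1) := by
      unfold MultActAlg.γ
      rw [ext_single, map_one, _root_.one_mul]
      simp [ofL, ι₁]
    exact congrArg toG h3
  have hdb : d ≫ bp hW i₀ = bp hW ζ₂ := mor_bp hW i₀ ζ₂ δ hδ hd
  have hh₂b : h₂ ≫ bp hW i₀ = bp hW ζ₂ := mor_bp hW i₀ ζ₂ ι₂ hι₂ hh₂
  have hcb : c ≫ bp hW i₀ = h₂ ≫ o := by
    apply Over.OverMorphism.ext
    show Spec.map (CommRingCat.ofHom (MultActAlg.γ ρ)) ≫ Spec.map (CommRingCat.ofHom i₀) ≫ hW.fromSpec =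
      Spec.map (CommRingCat.ofHom ι₂) ≫ ol
    rw [hoρ, ← Category.assoc, ← Spec.map_comp, ← Category.assoc, ← Spec.map_comp]
    congr 2
    exact congrArg CommRingCat.ofHom hγi
  have hdo : d ≫ o = c ≫ o := by
    rw [ho, nat, nat, hdj, mul, hdb, hcj, hcb, ho, nat, hh₂b]
  have Hassoc' : (δ : MonoidAlgebra Γ(Z.left, W) (Multiplicative M) →+* _).comp ρ =
      (MultActAlg.γ ρ).comp ρ := by
    apply hinj
    have h2 := congrArg (fun m => m.left) hdo
    change Spec.map (CommRingCat.ofHom δ) ≫ ol = Spec.map (CommRingCat.ofHom (MultActAlg.γ ρ)) ≫ ol at h2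
    rw [hoρ, ← Category.assoc, ← Spec.map_comp, ← Category.assoc, ← Spec.map_comp] at h2
    exact h2
  -- T6: conclusion
  have hρ : ρ = i₀ := by
    refine RingHom.ext fun a => ?_
    exact coaction_trivial st'.hom _ hnil ρ Hst
      (fun a => congrArg (fun k : _ →+* _ => k a) Hunit')
      (fun a => congrArg (fun k : _ →+* _ => k a) Hassoc') Htriv a
  apply Over.OverMorphism.ext
  show ol = Spec.map (CommRingCat.ofHom i₀) ≫ hW.fromSpec
  rw [hoρ, hρ]

include nat one mul triv in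
/-- **Core theorem.** An action on points of `D_T(M)` on `Z` which is trivial on points over the
locally nilpotent closed subscheme `T₀` is trivial. -/
theorem general (hnil : LocNilp t₀) (Y : Over T) (χ : Y ⟶ Red.DS T M) (z : Y ⟶ Z) :
    act Y χ z = z := by
  have hsurj := surjective_of_locNilp t₀ hnil
  apply Over.OverMorphism.ext
  refine Scheme.hom_ext_of_forall _ _ (fun y₀ => ?_)
  obtain ⟨V, hV, hyV, hVnil⟩ := hnil (Y.hom y₀)
  have hzV : z.left y₀ ∈ Z.hom ⁻¹ᵁ V := by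
    show Z.hom (z.left y₀) ∈ V
    rw [← Scheme.Hom.comp_apply, Over.w z]
    exact hyV
  obtain ⟨W, hW, hzW, hWV⟩ := exists_isAffineOpen_mem_and_subset hzV
  have hyW : y₀ ∈ z.left ⁻¹ᵁ W := hzW
  obtain ⟨N, hN, hyN, hNW⟩ := exists_isAffineOpen_mem_and_subset hyW
  refine ⟨N, hyN, ?_⟩
  have eNW : N ≤ z.left ⁻¹ᵁ W := hNW
  let ζ' : Γ(Z.left, W) ⟶ Γ(Y.left, N) := z.left.appLE W N eNW
  have hζ : Spec.map ζ' ≫ hW.fromSpec = hN.fromSpec ≫ z.left :=
    IsAffineOpen.SpecMap_appLE_fromSpec z.left hW hN eNW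
  let i₀ : Γ(Z.left, W) →+* MonoidAlgebra Γ(Z.left, W) (Multiplicative M) := ι₀
  obtain ⟨j, hj⟩ := exists_univ' (T := T) (M := M) (Z := Z) hW
  have huniv := univ_trivial t₀ act nat one mul triv hsurj hV hVnil hW hWV j hj
  -- the affine piece of `Y`
  have hn : hN.fromSpec ≫ Y.hom = (obj hW ζ'.hom).hom := by
    show _ = Spec.map ζ' ≫ hW.fromSpec ≫ Z.hom
    rw [← Category.assoc, hζ, Category.assoc, Over.w z]
  let n : obj hW ζ'.hom ⟶ Y := Over.homMk hN.fromSpec hn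
  have hnz : n ≫ z = bp hW ζ'.hom := by
    apply Over.OverMorphism.ext
    show hN.fromSpec ≫ z.left = Spec.map ζ' ≫ hW.fromSpec
    exact hζ.symm
  let χN : obj hW ζ'.hom ⟶ Red.DS T M := n ≫ χ
  let χfun : Multiplicative M →* Γ(Y.left, N) :=
    { toFun := fun m => ofG (dsFn χN (MonoidAlgebra.single m 1))
      map_one' := by
        have h6 : dsFn χN (MonoidAlgebra.single (1 : Multiplicative M) 1) = 1 := by
          rw [← MonoidAlgebra.one_def, dsFn_one]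
        exact (congrArg ofG h6).trans ofG_one
      map_mul' := fun m m' => by
        have h6 : dsFn χN (MonoidAlgebra.single (m * m') 1) =
            dsFn χN (MonoidAlgebra.single m 1) * dsFn χN (MonoidAlgebra.single m' 1) := by
          rw [← dsFn_mul, MonoidAlgebra.single_mul_single, _root_.one_mul]
        exact (congrArg ofG h6).trans (ofG_mul _ _) }
  let φ : MonoidAlgebra Γ(Z.left, W) (Multiplicative M) →+* Γ(Y.left, N) := ext ζ'.hom χfun
  have hφ : φ.comp i₀ = ζ'.hom := by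
    refine RingHom.ext fun a => ?_
    show ext ζ'.hom χfun (MonoidAlgebra.single (1 : Multiplicative M) a) = ζ'.hom a
    rw [ext_single, map_one, _root_.mul_one]
  have hb := obj_hom_of_comp hW i₀ ζ'.hom φ hφ
  let b : obj hW ζ'.hom ⟶ obj hW i₀ := mor hW φ hb
  have hbj : b ≫ j = χN := by
    apply ds_ext
    intro m
    rw [dsFn_mor (ζ₁ := i₀) (ζ₂ := ζ'.hom) hW φ hb j _ _ (hj m)]
    have h3 : φ (MonoidAlgebra.single m (1 : Γ(Z.left, W))) =
        ofG (dsFn χN (MonoidAlgebra.single m 1)) := by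
      show ext ζ'.hom χfun (MonoidAlgebra.single m (1 : Γ(Z.left, W))) = _
      rw [ext_single, map_one, _root_.one_mul]
      rfl
    rw [h3]
    exact toG_ofG _
  have hbb : b ≫ bp hW i₀ = bp hW ζ'.hom := mor_bp hW i₀ ζ'.hom φ hφ hb
  have h1 : act (obj hW ζ'.hom) χN (bp hW ζ'.hom) = bp hW ζ'.hom := by
    have h2 := nat b j (bp hW i₀)
    rw [hbj, hbb] at h2
    rw [← h2, huniv, hbb]
  have h4 : n ≫ act Y χ z = n ≫ z := by
    rw [nat, hnz]
    exact h1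
  have h5 : hN.fromSpec ≫ (act Y χ z).left = hN.fromSpec ≫ z.left :=
    congrArg (fun m => m.left) h4
  rw [← hN.isoSpec_inv_ι, Category.assoc, Category.assoc] at h5
  exact (cancel_epi hN.isoSpec.inv).1 h5

end Main

end Groth.Agent.Lib.T2H7.MultActCore
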