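import Groth.Agent.Lib.T2H7FlatNilIsoAlg
import Groth.Agent.Lib.T2H7MultActCore

/-!
A morphism `f : Y ⟶ Z` of `S`-schemes with `Y` flat over `S` whose base change along a locally
nilpotent closed immersion `S₀ ⟶ S` is an isomorphism is an isomorphism.
-/

set_option autoImplicit false
set_option linter.unusedSectionVars false
set_option linter.unusedVariables false
set_option linter.style.haveILetI false
universe u
open CategoryTheory CategoryTheory.Limits AlgebraicGeometry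

namespace Groth.Agent.Lib.T2H7.FlatNilIso

open Groth.Agent.Lib.T2H7.MultActCore Groth.Agent.Lib.T2H7.MultActKer

variable {S S₀ Y Z : Scheme.{u}} (i₀ : S₀ ⟶ S) [IsClosedImmersion i₀] (y : Y ⟶ S) (z : Z ⟶ S)
  (f : Y ⟶ Z) (hf : f ≫ z = y)

/-- the base change of `f` along `i₀`. -/
noncomputable def f₀ : pullback y i₀ ⟶ pullback z i₀ :=
  pullback.map y i₀ z i₀ f (𝟙 S₀) (𝟙 S) (by rw [Category.comp_id, hf])
    (by rw [Category.comp_id, Category.id_comp])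

theorem f₀_fst : f₀ i₀ y z f hf ≫ pullback.fst z i₀ = pullback.fst y i₀ ≫ f := by
  unfold f₀
  rw [pullback.lift_fst]

section Top

theorem isHomeomorph (hsurj : Surjective i₀) (hiso : IsIso (f₀ i₀ y z f hf)) : IsHomeomorph f := by
  have hpy : Surjective (pullback.fst y i₀) :=
    MorphismProperty.pullback_fst (P := @Surjective) _ _ hsurj
  have hpz : Surjective (pullback.fst z i₀) :=
    MorphismProperty.pullback_fst (P := @Surjective) _ _ hsurj
  have hpzinj : Function.Injective (pullback.fst z i₀) :=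
    (pullback.fst z i₀).isClosedEmbedding.injective
  have hf₀bij : Function.Bijective (f₀ i₀ y z f hf) :=
    (ConcreteCategory.bijective_of_isIso ((f₀ i₀ y z f hf).base))
  have hsq : ∀ a, f (pullback.fst y i₀ a) = pullback.fst z i₀ (f₀ i₀ y z f hf a) := by
    intro a
    rw [← Scheme.Hom.comp_apply, ← Scheme.Hom.comp_apply, f₀_fst]
  rw [isHomeomorph_iff_continuous_isClosedMap_bijective]
  refine ⟨f.continuous, ?_, ?_, ?_⟩
  · intro C hC
    have himg : f '' C = pullback.fst z i₀ '' (f₀ i₀ y z f hf '' (pullback.fst y i₀ ⁻¹' C)) := by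
      ext w
      constructor
      · rintro ⟨c, hc, rfl⟩
        obtain ⟨a, rfl⟩ := hpy.surj c
        exact ⟨_, ⟨a, hc, rfl⟩, (hsq a).symm⟩
      · rintro ⟨_, ⟨a, ha, rfl⟩, rfl⟩
        exact ⟨_, ha, hsq a⟩
    rw [himg]
    apply (pullback.fst z i₀).isClosedEmbedding.isClosedMap
    have hcl : IsClosedMap (f₀ i₀ y z f hf) :=
      (TopCat.homeoOfIso (asIso (f₀ i₀ y z f hf).base)).isClosedMap
    exact hcl _ (hC.preimage (pullback.fst y i₀).continuous)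
  · intro c c' hcc'
    obtain ⟨a, rfl⟩ := hpy.surj c
    obtain ⟨a', rfl⟩ := hpy.surj c'
    rw [hsq, hsq] at hcc'
    rw [hf₀bij.1 (hpzinj hcc')]
  · intro w
    obtain ⟨c, rfl⟩ := hpz.surj w
    obtain ⟨a, rfl⟩ := hf₀bij.2 c
    exact ⟨_, hsq a⟩

end Top

section Local

theorem appLE_congr_hom' {X₁ X₂ : Scheme.{u}} {g g' : X₁ ⟶ X₂} (h : g = g') (U : X₂.Opens)
    (V : X₁.Opens) (e : V ≤ g ⁻¹ᵁ U) (e' : V ≤ g' ⁻¹ᵁ U) : g.appLE U V e = g'.appLE U V e' := by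
  subst h
  rfl

/-- `appLE` of an isomorphism onto the full preimage is bijective. -/
theorem bijective_appLE_of_isIso {X₁ X₂ : Scheme.{u}} (g : X₁ ⟶ X₂) [IsIso g] (W₂ : X₂.Opens)
    (W₁ : X₁.Opens) (h : W₁ = g ⁻¹ᵁ W₂) (e : W₁ ≤ g ⁻¹ᵁ W₂) :
    Function.Bijective (g.appLE W₂ W₁ e).hom := by
  subst h
  rw [Scheme.Hom.appLE_eq_app]
  exact ConcreteCategory.bijective_of_isIso (g.app W₂)

theorem bijective_app (hiso : IsIso (f₀ i₀ y z f hf)) (hflat : Flat y) {V_S : S.Opens}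
    (hV_S : IsAffineOpen V_S) (hnil : IsNilpotent (RingHom.ker (i₀.app V_S).hom))
    {V' : Z.Opens} (hV' : IsAffineOpen V') (eZ : V' ≤ z ⁻¹ᵁ V_S)
    (hU' : IsAffineOpen (f ⁻¹ᵁ V')) : Function.Bijective (f.app V').hom := by
  have eY : f ⁻¹ᵁ V' ≤ y ⁻¹ᵁ V_S := by
    intro u hu
    show y u ∈ V_S
    rw [← hf, Scheme.Hom.comp_apply]
    exact eZ hu
  have hcomp : z.appLE V_S V' eZ ≫ f.app V' = y.appLE V_S (f ⁻¹ᵁ V') eY := by
    rw [Scheme.Hom.app_eq_appLE, Scheme.Hom.appLE_comp_appLE]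
    exact appLE_congr_hom' hf V_S _ _ _
  letI algB : Algebra Γ(S, V_S) Γ(Z, V') := (z.appLE V_S V' eZ).hom.toAlgebra
  letI algA : Algebra Γ(S, V_S) Γ(Y, f ⁻¹ᵁ V') := (y.appLE V_S (f ⁻¹ᵁ V') eY).hom.toAlgebra
  let ψ : Γ(Z, V') →ₐ[Γ(S, V_S)] Γ(Y, f ⁻¹ᵁ V') :=
    { (f.app V').hom with commutes' := fun r => congrArg (fun k => k.hom r) hcomp }
  haveI : Module.Flat Γ(S, V_S) Γ(Y, f ⁻¹ᵁ V') :=
    HasRingHomProperty.appLE (P := @Flat) y hflat ⟨V_S, hV_S⟩ ⟨f ⁻¹ᵁ V', hU'⟩ eY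
  -- the reductions
  have hW : pullback.fst y i₀ ⁻¹ᵁ (f ⁻¹ᵁ V') =
      (f₀ i₀ y z f hf) ⁻¹ᵁ (pullback.fst z i₀ ⁻¹ᵁ V') := by
    rw [← Scheme.Hom.comp_preimage, ← Scheme.Hom.comp_preimage, f₀_fst]
  have e₀ : pullback.fst y i₀ ⁻¹ᵁ (f ⁻¹ᵁ V') ≤
      (f₀ i₀ y z f hf) ⁻¹ᵁ (pullback.fst z i₀ ⁻¹ᵁ V') := hW.le
  have hbij₀ := bijective_appLE_of_isIso (f₀ i₀ y z f hf) (pullback.fst z i₀ ⁻¹ᵁ V')
    (pullback.fst y i₀ ⁻¹ᵁ (f ⁻¹ᵁ V')) hW e₀
  have hsqc : (pullback.fst z i₀).app V' ≫ (f₀ i₀ y z f hf).appLE (pullback.fst z i₀ ⁻¹ᵁ V')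
      (pullback.fst y i₀ ⁻¹ᵁ (f ⁻¹ᵁ V')) e₀ = f.app V' ≫ (pullback.fst y i₀).app (f ⁻¹ᵁ V') := by
    rw [Scheme.Hom.app_eq_appLE, Scheme.Hom.app_eq_appLE, Scheme.Hom.app_eq_appLE,
      Scheme.Hom.appLE_comp_appLE, Scheme.Hom.appLE_comp_appLE]
    exact appLE_congr_hom' (f₀_fst i₀ y z f hf) V' _ _ _
  have hsq : ∀ b : Γ(Z, V'), ((f₀ i₀ y z f hf).appLE (pullback.fst z i₀ ⁻¹ᵁ V')
      (pullback.fst y i₀ ⁻¹ᵁ (f ⁻¹ᵁ V')) e₀).hom (((pullback.fst z i₀).app V').hom b) =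
      ((pullback.fst y i₀).app (f ⁻¹ᵁ V')).hom ((f.app V').hom b) :=
    fun b => congrArg (fun k => k.hom b) hsqc
  have hpzsurj : Function.Surjective ((pullback.fst z i₀).app V').hom :=
    (pullback.fst z i₀).app_surjective V' hV'
  refine Groth.Agent.Lib.T2H7.FlatNilIsoAlg.bijective_of_mod
    (RingHom.ker (i₀.app V_S).hom) ψ hnil ?_ ?_
  · intro a
    obtain ⟨β₀, hβ₀⟩ := hbij₀.2 (((pullback.fst y i₀).app (f ⁻¹ᵁ V')).hom a)
    obtain ⟨b, rfl⟩ := hpzsurj β₀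
    refine ⟨b, ?_⟩
    refine mem_map_ker_of_restrict_eq_zero i₀ y V_S hV_S (f ⁻¹ᵁ V') hU' eY _ ?_
    rw [Scheme.Hom.appLE_eq_app, map_sub, sub_eq_zero, ← hβ₀, hsq]
    rfl
  · intro b hb
    have hkill : Ideal.map (y.appLE V_S (f ⁻¹ᵁ V') eY).hom (RingHom.ker (i₀.app V_S).hom) ≤
        RingHom.ker ((pullback.fst y i₀).app (f ⁻¹ᵁ V')).hom := by
      rw [Ideal.map_le_iff_le_comap]
      intro r hr
      rw [Ideal.mem_comap, RingHom.mem_ker]
      have h1 : y.appLE V_S (f ⁻¹ᵁ V') eY ≫ (pullback.fst y i₀).app (f ⁻¹ᵁ V') =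
          i₀.app V_S ≫ (pullback.snd y i₀).appLE (i₀ ⁻¹ᵁ V_S)
            (pullback.fst y i₀ ⁻¹ᵁ (f ⁻¹ᵁ V')) (by
              intro w hw
              show i₀ (pullback.snd y i₀ w) ∈ V_S
              rw [← Scheme.Hom.comp_apply, ← pullback.condition, Scheme.Hom.comp_apply]
              exact eY hw) := by
        rw [Scheme.Hom.app_eq_appLE, Scheme.Hom.app_eq_appLE, Scheme.Hom.appLE_comp_appLE,
          Scheme.Hom.appLE_comp_appLE]
        exact appLE_congr_hom' pullback.condition V_S _ _ _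
      have h2 := congrArg (fun k => k.hom r) h1
      simp only [CommRingCat.hom_comp, RingHom.comp_apply] at h2
      rw [h2, (RingHom.mem_ker).1 hr, map_zero]
    have h3 : ((pullback.fst y i₀).app (f ⁻¹ᵁ V')).hom ((f.app V').hom b) = 0 :=
      (RingHom.mem_ker).1 (hkill hb)
    rw [← hsq] at h3
    have h4 : ((pullback.fst z i₀).app V').hom b = 0 := hbij₀.1 (h3.trans (map_zero _).symm)
    refine mem_map_ker_of_restrict_eq_zero i₀ z V_S hV_S V' hV' eZ b ?_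
    rw [Scheme.Hom.appLE_eq_app]
    exact h4

end Local

section Global

theorem isIso_app_of_eq {X₁ X₂ : Scheme.{u}} (g : X₁ ⟶ X₂) (V' W : X₂.Opens) (h : W = V')
    (hb : Function.Bijective (g.app V').hom) : IsIso (g.app W) := by
  subst h
  exact (ConcreteCategory.isIso_iff_bijective _).2 hb

/-- **Main theorem.** -/
theorem isIso_of_isIso_mod (hnil : LocNilp i₀) (hflat : Flat y)
    (hiso : IsIso (f₀ i₀ y z f hf)) : IsIso f := by
  have hsurj := surjective_of_locNilp i₀ hnil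
  have hhomeo := isHomeomorph i₀ y z f hf hsurj hiso
  have key : (MorphismProperty.isomorphisms Scheme) f := by
    apply IsZariskiLocalAtTarget.of_forall_exists_morphismRestrict
      (P := MorphismProperty.isomorphisms Scheme)
    intro z'
    obtain ⟨V_S, hV_S, hzV, hVnil⟩ := hnil (z z')
    have hzV' : z' ∈ z ⁻¹ᵁ V_S := hzV
    obtain ⟨V, hV, hz'V, hVle⟩ := exists_isAffineOpen_mem_and_subset hzV'
    obtain ⟨u', rfl⟩ := hhomeo.surjective z'
    have hu'V : u' ∈ f ⁻¹ᵁ V := hz'V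
    obtain ⟨U, hU, hu'U, hUle⟩ := exists_isAffineOpen_mem_and_subset hu'V
    let W : Z.Opens := ⟨f '' U, hhomeo.isOpenMap _ U.2⟩
    obtain ⟨b, hbW, hz'b⟩ := hV.exists_basicOpen_le (V := W) ⟨f u', ⟨u', hu'U, rfl⟩⟩ hz'V
    refine ⟨Z.basicOpen b, hz'b, ?_⟩
    have hV' : IsAffineOpen (Z.basicOpen b) := hV.basicOpen b
    have hpre : f ⁻¹ᵁ (Z.basicOpen b) = Y.basicOpen ((f.app V).hom b) :=
      Scheme.preimage_basicOpen f b
    have hleU : f ⁻¹ᵁ (Z.basicOpen b) ≤ U := by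
      intro w hw
      obtain ⟨w', hw'U, hw'⟩ := hbW hw
      rw [← hhomeo.injective hw']
      exact hw'U
    have hU' : IsAffineOpen (f ⁻¹ᵁ (Z.basicOpen b)) := by
      have h1 := hU.basicOpen (Y.presheaf.map (homOfLE hUle).op ((f.app V).hom b))
      rw [Scheme.basicOpen_res, ← hpre, inf_eq_right.2 hleU] at h1
      exact h1
    have hbij := bijective_app i₀ y z f hf hiso hflat hV_S hVnil hV'
      (le_trans (Z.basicOpen_le b) hVle) hU'
    haveI : IsAffine (Z.basicOpen b).toScheme := hV'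
    haveI : IsAffine (f ⁻¹ᵁ (Z.basicOpen b)).toScheme := hU'
    refine (HasAffineProperty.iff_of_isAffine (P := MorphismProperty.isomorphisms Scheme)).2
      ⟨inferInstance, ?_⟩
    rw [morphismRestrict_appTop]
    have h3 : IsIso (f.app ((Z.basicOpen b).ι ''ᵁ ⊤)) :=
      isIso_app_of_eq f (Z.basicOpen b) _ (Z.basicOpen b).ι_image_top hbij
    have h2 : ∀ {W₁ W₂ : Y.Opens} (h : W₁ = W₂), IsIso (Y.presheaf.map (eqToHom h).op) := by
      intro W₁ W₂ h
      subst h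
      rw [eqToHom_refl, op_id, Y.presheaf.map_id]
      infer_instance
    exact IsIso.comp_isIso' h3 (h2 _)
  exact key

end Global

section OverVersion

/-- the version in `Over S`. -/
theorem isIso_over {S S₀ : Scheme.{u}} (i₀ : S₀ ⟶ S) [IsClosedImmersion i₀] (hnil : LocNilp i₀)
    {Y Z : Over S} (hflat : Flat Y.hom) (f : Y ⟶ Z) (h : IsIso ((Over.pullback i₀).map f)) :
    IsIso f := by
  have h1 : IsIso ((Over.forget S₀).map ((Over.pullback i₀).map f)) := inferInstance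
  have h2 : (Over.forget S₀).map ((Over.pullback i₀).map f) =
      f₀ i₀ Y.hom Z.hom f.left (Over.w f) := rfl
  rw [h2] at h1
  have h3 : IsIso ((Over.forget S).map f) :=
    isIso_of_isIso_mod i₀ Y.hom Z.hom f.left (Over.w f) hnil hflat h1
  exact isIso_of_reflects_iso f (Over.forget S)

end OverVersion

end Groth.Agent.Lib.T2H7.FlatNilIso
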