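import Mathlib

/-!
A homomorphism of `R`-algebras `ψ : B → A` with `A` flat over `R` which is bijective modulo a
nilpotent ideal `I` of `R` is bijective.
-/

set_option autoImplicit false
set_option linter.unusedSectionVars false
set_option linter.unusedVariables false
set_option linter.style.haveILetI false
universe u v w

namespace Groth.Agent.Lib.T2H7.FlatNilIsoAlg

variable {R : Type u} {A : Type v} {B : Type w} [CommRing R] [CommRing A] [CommRing B]
  [Algebra R A] [Algebra R B] (I : Ideal R) (ψ : B →ₐ[R] A)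

/-- surjectivity modulo `I` lifts to surjectivity modulo `I ^ k`. -/
theorem surj_mod_pow (hs : ∀ a : A, ∃ b : B, a - ψ b ∈ Ideal.map (algebraMap R A) I) (k : ℕ) :
    ∀ a : A, ∃ b : B, a - ψ b ∈ Ideal.map (algebraMap R A) (I ^ k) := by
  induction k with
  | zero =>
    intro a
    refine ⟨0, ?_⟩
    rw [pow_zero, Ideal.one_eq_top, Ideal.map_top]
    trivial
  | succ k ih =>
    have hQ : ∀ x ∈ Ideal.map (algebraMap R A) I, ∀ c : A,
        ∃ b : B, c * x - ψ b ∈ Ideal.map (algebraMap R A) (I ^ (k + 1)) := by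
      intro x hx
      refine Submodule.span_induction ?_ ?_ ?_ ?_ hx
      · rintro _ ⟨r, hr, rfl⟩ c
        obtain ⟨bc, hbc⟩ := ih c
        refine ⟨r • bc, ?_⟩
        have h1 : c * algebraMap R A r - ψ (r • bc) = (c - ψ bc) * algebraMap R A r := by
          rw [map_smul, Algebra.smul_def]
          ring
        rw [h1, pow_succ, Ideal.map_mul]
        exact Ideal.mul_mem_mul hbc (Ideal.mem_map_of_mem _ hr)
      · intro c
        exact ⟨0, by simp⟩
      · intro x y _ _ hx hy c
        obtain ⟨b₁, hb₁⟩ := hx c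
        obtain ⟨b₂, hb₂⟩ := hy c
        refine ⟨b₁ + b₂, ?_⟩
        have h1 : c * (x + y) - ψ (b₁ + b₂) = (c * x - ψ b₁) + (c * y - ψ b₂) := by
          rw [map_add]
          ring
        rw [h1]
        exact Ideal.add_mem _ hb₁ hb₂
      · intro a' x _ hx c
        obtain ⟨b, hb⟩ := hx (c * a')
        refine ⟨b, ?_⟩
        rw [smul_eq_mul, ← mul_assoc]
        exact hb
    intro a
    obtain ⟨b₀, hb₀⟩ := hs a
    obtain ⟨b₁, hb₁⟩ := hQ _ hb₀ 1
    refine ⟨b₀ + b₁, ?_⟩
    have h1 : a - ψ (b₀ + b₁) = 1 * (a - ψ b₀) - ψ b₁ := by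
      rw [map_add]
      ring
    rw [h1]
    exact hb₁

theorem surjective_of_mod (hI : IsNilpotent I)
    (hs : ∀ a : A, ∃ b : B, a - ψ b ∈ Ideal.map (algebraMap R A) I) : Function.Surjective ψ := by
  obtain ⟨n, hn⟩ := hI
  intro a
  obtain ⟨b, hb⟩ := surj_mod_pow I ψ hs n a
  rw [hn, Ideal.zero_eq_bot, Ideal.map_bot, Ideal.mem_bot, sub_eq_zero] at hb
  exact ⟨b, hb.symm⟩

/-- for flat `A` and surjective `ψ`, elements of `ker ψ ∩ I B` lie in `I · ker ψ`; iterated. -/
theorem ker_le_pow [Module.Flat R A] (hsurj : Function.Surjective ψ)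
    (hi : ∀ b : B, ψ b ∈ Ideal.map (algebraMap R A) I → b ∈ Ideal.map (algebraMap R B) I) (k : ℕ) :
    ∀ b : B, ψ b = 0 → b ∈ Ideal.map (algebraMap R B) (I ^ k) := by
  induction k with
  | zero =>
    intro b _
    rw [pow_zero, Ideal.one_eq_top, Ideal.map_top]
    trivial
  | succ k ih =>
    intro b hb
    have hbI : b ∈ Ideal.map (algebraMap R B) I := hi b (by rw [hb]; exact Ideal.zero_mem _)
    obtain ⟨n, f, g, hfg⟩ := Submodule.mem_span_set'.1 hbI
    choose r hrI hr using fun i => (g i).2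
    -- `b = ∑ r i • f i`
    have hb' : b = ∑ i, r i • f i := by
      rw [← hfg]
      refine Finset.sum_congr rfl fun i _ => ?_
      rw [← hr i, smul_eq_mul, Algebra.smul_def, mul_comm]
    have hrel : ∑ i, r i • ψ (f i) = 0 := by
      rw [← hb, hb', map_sum]
      refine Finset.sum_congr rfl fun i _ => ?_
      rw [map_smul]
    obtain ⟨m, a, y, hxy, hra⟩ := Module.Flat.isTrivialRelation_of_sum_smul_eq_zero (R := R) (M := A) (f := r)
      (x := fun i => ψ (f i)) hrel
    choose b' hb'y using fun j => hsurj (y j)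
    have hker : ∀ i, ψ (f i - ∑ j, a i j • b' j) = 0 := by
      intro i
      have hxy' : ψ (f i) = ∑ j, a i j • y j := hxy i
      rw [map_sub, map_sum, hxy', sub_eq_zero]
      refine Finset.sum_congr rfl fun j _ => ?_
      rw [map_smul, hb'y]
    have hmem : ∀ i, f i - ∑ j, a i j • b' j ∈ Ideal.map (algebraMap R B) (I ^ k) :=
      fun i => ih _ (hker i)
    have hdecomp : b = ∑ i, r i • (f i - ∑ j, a i j • b' j) := by
      have h2 : ∑ i, r i • ∑ j, a i j • b' j = 0 := by
        simp_rw [Finset.smul_sum, smul_smul]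
        rw [Finset.sum_comm]
        refine Finset.sum_eq_zero fun j _ => ?_
        rw [← Finset.sum_smul, hra j, zero_smul]
      simp_rw [smul_sub]
      rw [Finset.sum_sub_distrib, h2, sub_zero]
      exact hb'
    rw [hdecomp]
    refine Ideal.sum_mem _ fun i _ => ?_
    rw [Algebra.smul_def, pow_succ, Ideal.map_mul]
    exact Ideal.mul_mem_mul_rev (hmem i) (Ideal.mem_map_of_mem _ (hrI i))

/-- **Main algebra lemma.** -/
theorem bijective_of_mod [Module.Flat R A] (hI : IsNilpotent I)
    (hs : ∀ a : A, ∃ b : B, a - ψ b ∈ Ideal.map (algebraMap R A) I)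
    (hi : ∀ b : B, ψ b ∈ Ideal.map (algebraMap R A) I → b ∈ Ideal.map (algebraMap R B) I) :
    Function.Bijective ψ := by
  have hsurj := surjective_of_mod I ψ hI hs
  refine ⟨?_, hsurj⟩
  rw [injective_iff_map_eq_zero]
  intro b hb
  obtain ⟨n, hn⟩ := hI
  have h1 := ker_le_pow I ψ hsurj hi n b hb
  rw [hn, Ideal.zero_eq_bot, Ideal.map_bot, Ideal.mem_bot] at h1
  exact h1

end Groth.Agent.Lib.T2H7.FlatNilIsoAlg
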