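import Groth.Agent.Lib.T2H7GITUniv

/-!
# T2H7: universal categorical quotients (GIT §0.2, Remark 5), continued
-/

set_option autoImplicit false
set_option linter.unusedSectionVars false
set_option linter.unusedVariables false
set_option linter.style.haveILetI false
universe u
open CategoryTheory MonoidalCategory CartesianMonoidalCategory MonObj GrpObj AlgebraicGeometry Topology
open TopologicalSpace Limits

namespace Groth.Agent.Lib.T2H7.GITUniv

open Groth.Agent.Lib.Helper20 Groth.Agent.Lib.T2H7.GITBC Groth.Agent.Lib.T2H7.GITQuot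

variable {S : Scheme.{u}} {G : Over S} [GrpObj G] {X Y : Over S} (a : AlgGrp.Action G X) (φ : X ⟶ Y)

theorem restrict_appTop (U : Y.left.Opens) :
    (φ.left ∣_ U).appTop = U.topIso.hom ≫ φ.left.app U ≫ (φ.left ⁻¹ᵁ U).topIso.inv := by
  have h1 : (φ.left ∣_ U) = φ.left.resLE U (φ.left ⁻¹ᵁ U) le_rfl := by
    rw [Scheme.Hom.resLE, Scheme.homOfLE_rfl, Category.id_comp]
  have h2 := Scheme.Hom.resLE_app_top (f := φ.left) (U := U) (V := φ.left ⁻¹ᵁ U) (e := le_rfl)
  rw [Scheme.Hom.appLE_eq_app] at h2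
  rw [h1]
  exact h2

theorem sections_of_isUnivCatQuot (h : GIT.IsUnivCatQuot a φ) (U : Y.left.Opens) :
    Function.Injective (φ.left.app U) ∧
      Set.range (φ.left.app U) = {f | GIT.IsInvSection a φ U f} := by
  have hφ := h.1.1
  have hq : GIT.IsCatQuot (bcAct a hφ (isPullback_U φ U)) (phiU φ U) :=
    h.2 _ _ (gU U) trivial (isPullback_U φ U) _ (bcAct_compat a hφ (isPullback_U φ U))
      (bcAct_isInvariant a hφ (isPullback_U φ U))
  have key : ∀ s : Γ(Y.left, U), phiU φ U ≫ secHom (YU U) (U.topIso.inv.hom s) =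
      secHom (XU φ U) ((φ.left ⁻¹ᵁ U).topIso.inv.hom ((φ.left.app U).hom s)) := by
    intro s
    rw [comp_secHom]
    congr 1
    change (φ.left ∣_ U).appTop.hom (U.topIso.inv.hom s) = _
    rw [restrict_appTop]
    simp only [CommRingCat.hom_comp, RingHom.coe_comp, Function.comp_apply]
    congr 2
    have := congrArg (fun m => m.hom s) U.topIso.inv_hom_id
    simpa using this
  constructor
  · intro s s' hss'
    have h1 : phiU φ U ≫ secHom (YU U) (U.topIso.inv.hom s) =
        phiU φ U ≫ secHom (YU U) (U.topIso.inv.hom s') := by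
      rw [key, key]
      have : (φ.left.app U).hom s = (φ.left.app U).hom s' := hss'
      rw [this]
    have hinv : GIT.IsInvariant (bcAct a hφ (isPullback_U φ U))
        (phiU φ U ≫ secHom (YU U) (U.topIso.inv.hom s)) := by
      unfold GIT.IsInvariant
      rw [← Category.assoc, ← Category.assoc]
      congr 1
      exact bcAct_isInvariant a hφ (isPullback_U φ U)
    obtain ⟨χ, hχ, huniq⟩ := hq.2 _ _ hinv
    have e1 := huniq _ rfl
    have e2 := huniq _ h1.symm
    have e3 := secHom_injective _ (e1.trans e2.symm)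
    have e4 := congrArg (fun t => U.topIso.hom.hom t) e3
    have i1 := congrArg (fun m => m.hom s) U.topIso.inv_hom_id
    have i2 := congrArg (fun m => m.hom s') U.topIso.inv_hom_id
    simp only [CommRingCat.hom_comp, RingHom.coe_comp, Function.comp_apply, CommRingCat.hom_id,
      RingHom.id_apply] at i1 i2
    beta_reduce at e4
    rw [i1, i2] at e4
    exact e4
  · ext f
    constructor
    · rintro ⟨s, rfl⟩
      have := isInvSection_appLE a φ hφ U U le_rfl s
      rw [Scheme.Hom.appLE_eq_app] at this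
      exact this
    · intro hf
      have hinv := isInvariant_secHom a φ U hφ f hf
      obtain ⟨χ, hχ, -⟩ := hq.2 _ _ hinv
      rw [eq_secHom χ, comp_secHom] at hχ
      have h3 := secHom_injective _ hχ
      change (φ.left ∣_ U).appTop.hom _ = _ at h3
      rw [restrict_appTop] at h3
      simp only [CommRingCat.hom_comp, RingHom.coe_comp, Function.comp_apply] at h3
      refine ⟨U.topIso.hom.hom (χ.left.appTop.hom (AffineSpace.coord S PUnit.unit)), ?_⟩
      have h4 := congrArg (fun t => (φ.left ⁻¹ᵁ U).topIso.hom.hom t) h3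
      have i1 := fun t => congrArg (fun m => m.hom t) (φ.left ⁻¹ᵁ U).topIso.inv_hom_id
      simp only [CommRingCat.hom_comp, RingHom.coe_comp, Function.comp_apply, CommRingCat.hom_id,
        RingHom.id_apply] at i1
      beta_reduce at h4
      rw [i1, i1] at h4
      exact h4

/-- the universal geometric quotient criterion -/
theorem isUnivGeomQuot_iff (h : GIT.IsUnivCatQuot a φ) :
    GIT.IsUnivGeomQuot a φ ↔
      GIT.IsUnivSubmersive φ.left ∧ Function.Surjective (GIT.PsiY a φ h.1.1).base := by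
  constructor
  · intro hg
    exact ⟨hg.1.subm, hg.1.orbit⟩
  · rintro ⟨hsub, horb⟩
    have main : ∀ {X₁ Y₁ : Over S} (a₁ : AlgGrp.Action G X₁) (φ₁ : X₁ ⟶ Y₁)
        (h₁ : GIT.IsUnivCatQuot a₁ φ₁), GIT.IsUnivSubmersive φ₁.left →
        Function.Surjective (GIT.PsiY a₁ φ₁ h₁.1.1).base → GIT.IsGeomQuot a₁ φ₁ := by
      intro X₁ Y₁ a₁ φ₁ h₁ hs₁ ho₁
      exact ⟨h₁.1.1, surjective_of_isUnivCatQuot a₁ φ₁ h₁, ho₁, hs₁,
        sections_of_isUnivCatQuot a₁ φ₁ h₁⟩
    refine ⟨main a φ h hsub horb, ?_⟩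
    intro X' Y' pr φ' g _ hpb a' hc hinv'
    exact main a' φ' (isUnivCatQuot_bc a hpb a' hc hinv' h) (isUnivSubmersive_bc hpb hsub)
      (surjective_PsiY_bc a h.1.1 hpb a' hc hinv' horb)

end Groth.Agent.Lib.T2H7.GITUniv
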