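import Mathlib
import Groth.Prelude.Def_W4bk4git07Quot
import Groth.Prelude.Def_QuotSh
import Groth.Agent.Lib.Helper12QuotSh
import Groth.Agent.Lib.Helper9SpQuot
import Groth.Agent.Lib.T2H1RepIso
import Groth.Agent.Lib.Helper12Act
import Groth.Agent.Lib.T2H7GITUnivB
import Groth.Agent.Lib.Helper12Submersive2
import Groth.Agent.Lib.Helper12ZarGlue
import Groth.Agent.S13210

/-!
# fppf quotients by group actions are geometric quotients (helper7)

Let `G` act on `X` over `S` and let `q : X ⟶ Y` be an fppf quotient (the quotient sheaf of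
`h_{G × X} ⇉ h_X` is `h_Y`).  We show that this is equivalent to: `q` is invariant, has sections
fppf-locally on `Y`, and two points of `X` with the same image in `Y` are fppf-locally in the same
orbit.  This formulation is stable under base change, gives that `q` is a universal categorical
quotient, and the topological properties of a geometric quotient.
-/

set_option autoImplicit false
set_option linter.unusedSectionVars false
set_option linter.unusedVariables false
set_option linter.style.haveILetI false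

universe u

open CategoryTheory CategoryTheory.Limits MonoidalCategory CartesianMonoidalCategory MonObj
  AlgebraicGeometry Opposite

namespace Groth.Agent.Lib.T2H7.FppfGeomQuot

open Groth.Agent.Lib.Helper12 Groth.Agent.Lib.Helper9

variable {S : Scheme.{u}} {G : Over S} [GrpObj G]

section Orbit

variable {X : Over S} (a : AlgGrp.Action G X)

/-- the sieve of those `τ : V ⟶ T` over which `x₂` is a translate of `x₁`. -/
def orbitSieve {T : Over S} (x₁ x₂ : T ⟶ X) : Sieve T where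
  arrows V τ := ∃ c : V ⟶ G, lift c (τ ≫ x₁) ≫ a.act = τ ≫ x₂
  downward_closed := by
    rintro V V' τ ⟨c, hc⟩ σ
    refine ⟨σ ≫ c, ?_⟩
    rw [Category.assoc, Category.assoc, ← hc, comp_lift_act]

theorem orbitSieve_apply {T V : Over S} (x₁ x₂ : T ⟶ X) (τ : V ⟶ T) :
    orbitSieve a x₁ x₂ τ ↔ ∃ c : V ⟶ G, lift c (τ ≫ x₁) ≫ a.act = τ ≫ x₂ := Iff.rfl

/-- the orbit relation on points. -/
def SameOrbit {T : Over S} (x₁ x₂ : T ⟶ X) : Prop :=
  ∃ c : T ⟶ G, lift c x₁ ≫ a.act = x₂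

theorem sameOrbit_iff {T : Over S} (x₁ x₂ : T ⟶ X) :
    SameOrbit a x₁ x₂ ↔ ∃ ρ : T ⟶ G ⊗ X, ρ ≫ snd G X = x₁ ∧ ρ ≫ a.act = x₂ := by
  constructor
  · rintro ⟨c, hc⟩
    exact ⟨lift c x₁, lift_snd _ _, hc⟩
  · rintro ⟨ρ, h1, h2⟩
    refine ⟨ρ ≫ fst G X, ?_⟩
    rw [← h1, ← h2]
    congr 1
    apply CartesianMonoidalCategory.hom_ext
    · rw [lift_fst]
    · rw [lift_snd]

theorem sameOrbit_refl {T : Over S} (x : T ⟶ X) : SameOrbit a x x := ⟨1, act_one a x⟩

theorem sameOrbit_symm {T : Over S} {x₁ x₂ : T ⟶ X} (h : SameOrbit a x₁ x₂) :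
    SameOrbit a x₂ x₁ := by
  obtain ⟨c, rfl⟩ := h
  refine ⟨c⁻¹, ?_⟩
  rw [← act_mul, inv_mul_cancel, act_one]

theorem sameOrbit_trans {T : Over S} {x₁ x₂ x₃ : T ⟶ X} (h : SameOrbit a x₁ x₂)
    (h' : SameOrbit a x₂ x₃) : SameOrbit a x₁ x₃ := by
  obtain ⟨c, rfl⟩ := h
  obtain ⟨c', rfl⟩ := h'
  exact ⟨c' * c, act_mul a c' c x₁⟩

theorem orbitSieve_apply' {T V : Over S} (x₁ x₂ : T ⟶ X) (τ : V ⟶ T) :
    orbitSieve a x₁ x₂ τ ↔ SameOrbit a (τ ≫ x₁) (τ ≫ x₂) := Iff.rfl

end Orbit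

local notation "K₀" => Scheme.fppfPrecoverage

open Groth.Agent.S13210 Groth.Agent.Lib.T2H1.RepIso

section Sieves

/-- an epimorphism onto a representable sheaf has sections over a covering sieve. -/
theorem exists_local_section {W' : AlgSp.Sp S} {T : Over S} (e : W' ⟶ (AlgSp.yon S).obj T)
    [Epi e] : ∃ R : Sieve T, R ∈ AlgSp.J S T ∧ ∀ ⦃V : Over S⦄ (τ : V ⟶ T), R τ →
      ∃ w : (AlgSp.yon S).obj V ⟶ W', w ≫ e = (AlgSp.yon S).map τ := by
  haveI h1 : Sheaf.IsLocallySurjective e := (Sheaf.isLocallySurjective_iff_epi _).mpr inferInstance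
  have h2 : Presheaf.IsLocallySurjective (AlgSp.J S) e.hom := h1
  refine ⟨_, h2.imageSieve_mem (U := T) (yEquiv T _ (𝟙 _)), ?_⟩
  rintro V τ ⟨t, ht⟩
  refine ⟨(yEquiv V W').symm t, ?_⟩
  rw [yEquiv_symm_comp]
  apply (yEquiv V _).injective
  rw [Equiv.apply_symm_apply]
  refine ht.trans ?_
  rw [Groth.Agent.Lib.Helper12.ZarGlue.map_yEquiv, Category.comp_id]

/-- an epimorphism of representable sheaves comes from a morphism generating a covering sieve. -/
theorem generate_mem_of_epi {X Y : Over S} (q : X ⟶ Y) (h : Epi (QuotSh.repMap K₀ q)) :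
    Sieve.generate (Presieve.singleton q) ∈ AlgSp.J S Y := by
  have h1 : Sheaf.IsLocallySurjective (QuotSh.repMap K₀ q) :=
    (Sheaf.isLocallySurjective_iff_epi _).mpr h
  have h2 : Presheaf.IsLocallySurjective (QuotSh.J K₀ S)
      (Functor.whiskerRight (yoneda.map q) uliftFunctor.{u+1, u}) :=
    (Presheaf.isLocallySurjective_presheafToSheaf_map_iff _ _).1 h1
  have h3 := h2.imageSieve_mem (U := Y) (ULift.up (𝟙 Y))
  refine GrothendieckTopology.superset_covering _ ?_ h3
  rintro V g ⟨t, ht⟩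
  refine ⟨X, t.down, q, ⟨⟩, ?_⟩
  have h5 := congrArg ULift.down ht
  have h6 : t.down ≫ q = g ≫ 𝟙 Y := h5
  rw [h6, Category.comp_id]

end Sieves

section Quot

variable {X Y : Over S} (a : AlgGrp.Action G X) (q : X ⟶ Y)

/-- the relation on points of `rep X` induced by the action is the orbit relation. -/
theorem rel_iff_sameOrbit {T : Over S} (x y : (AlgSp.yon S).obj T ⟶ QuotSh.rep K₀ X) :
    (∃ r : (AlgSp.yon S).obj T ⟶ QuotSh.rep K₀ (G ⊗ X),
      r ≫ QuotSh.repMap K₀ (snd G X) = x ∧ r ≫ QuotSh.repMap K₀ a.act = y) ↔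
      SameOrbit a (pt x) (pt y) := by
  rw [sameOrbit_iff]
  constructor
  · rintro ⟨r, rfl, rfl⟩
    exact ⟨pt r, (pt_comp r _).symm, (pt_comp r _).symm⟩
  · rintro ⟨ρ, h1, h2⟩
    refine ⟨(AlgSp.yon S).map ρ ≫ (QuotSh.repIsoUliftYoneda K₀ (G ⊗ X)).inv, ?_, ?_⟩
    · apply pt_injective
      rw [pt_comp, pt_map, h1]
    · apply pt_injective
      rw [pt_comp, pt_map, h2]

/-- the action groupoid is a pre-equivalence relation on the sheafified representables. -/
theorem isPreEqvRelSp_act :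
    AlgSp.IsPreEqvRelSp (QuotSh.repMap K₀ a.act) (QuotSh.repMap K₀ (snd G X)) := by
  intro T
  refine ⟨fun x => (rel_iff_sameOrbit a x x).2 (sameOrbit_refl a _),
    fun {x y} h => (rel_iff_sameOrbit a y x).2 (sameOrbit_symm a ((rel_iff_sameOrbit a x y).1 h)),
    fun {x y z} h h' => (rel_iff_sameOrbit a x z).2
      (sameOrbit_trans a ((rel_iff_sameOrbit a x y).1 h) ((rel_iff_sameOrbit a y z).1 h'))⟩

/-- the local form of an fppf quotient by a group action. -/
structure IsLocQuot : Prop where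
  inv : GIT.IsInvariant a q
  sec : Sieve.generate (Presieve.singleton q) ∈ AlgSp.J S Y
  orbit : ∀ (T : Over S) (x₁ x₂ : T ⟶ X), x₁ ≫ q = x₂ ≫ q → orbitSieve a x₁ x₂ ∈ AlgSp.J S T

variable {a q}

theorem epi_repMap_of_isQuotient (hq : QuotSh.IsQuotient K₀ a.act (snd G X) q) :
    Epi (QuotSh.repMap K₀ q) := by
  obtain ⟨w, hiso⟩ := hq
  have hπ : QuotSh.quotπ K₀ a.act (snd G X) ≫ QuotSh.quotDesc K₀ q w = QuotSh.repMap K₀ q :=
    coequalizer.π_desc _ _
  rw [← hπ]
  haveI : Epi (QuotSh.quotπ K₀ a.act (snd G X)) := coequalizer.π_epi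
  haveI := hiso
  infer_instance

theorem isLocQuot_of_isQuotient (hq : QuotSh.IsQuotient K₀ a.act (snd G X) q) :
    IsLocQuot a q := by
  have hepi := epi_repMap_of_isQuotient hq
  obtain ⟨w, hiso⟩ := hq
  haveI := hiso
  have hπ : QuotSh.quotπ K₀ a.act (snd G X) ≫ QuotSh.quotDesc K₀ q w = QuotSh.repMap K₀ q :=
    coequalizer.π_desc _ _
  refine ⟨w, generate_mem_of_epi q hepi, fun T x₁ x₂ h12 => ?_⟩
  let a₁ : (AlgSp.yon S).obj T ⟶ QuotSh.rep K₀ X :=
    (AlgSp.yon S).map x₁ ≫ (QuotSh.repIsoUliftYoneda K₀ X).inv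
  let a₂ : (AlgSp.yon S).obj T ⟶ QuotSh.rep K₀ X :=
    (AlgSp.yon S).map x₂ ≫ (QuotSh.repIsoUliftYoneda K₀ X).inv
  have hab : a₂ ≫ AlgSp.quotSpπ (QuotSh.repMap K₀ a.act) (QuotSh.repMap K₀ (snd G X)) =
      a₁ ≫ AlgSp.quotSpπ (QuotSh.repMap K₀ a.act) (QuotSh.repMap K₀ (snd G X)) := by
    change a₂ ≫ QuotSh.quotπ K₀ a.act (snd G X) = a₁ ≫ QuotSh.quotπ K₀ a.act (snd G X)
    have e1 : ∀ x : T ⟶ X, (((AlgSp.yon S).map x ≫ (QuotSh.repIsoUliftYoneda K₀ X).inv) ≫
        QuotSh.quotπ K₀ a.act (snd G X)) ≫ QuotSh.quotDesc K₀ q w =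
        (AlgSp.yon S).map (x ≫ q) ≫ (QuotSh.repIsoUliftYoneda K₀ Y).inv := by
      intro x
      rw [Category.assoc, hπ, Category.assoc, repIso_inv_naturality, ← Category.assoc,
        ← Functor.map_comp]
    rw [← cancel_mono (QuotSh.quotDesc K₀ q w)]
    exact (e1 x₂).trans ((congrArg (fun m => (AlgSp.yon S).map m ≫
      (QuotSh.repIsoUliftYoneda K₀ Y).inv) h12.symm).trans (e1 x₁).symm)
  obtain ⟨W', e, he, r, hr1, hr2⟩ := Groth.Agent.Lib.Helper9.SpQuot.rho_of_isPreEqvRelSp _ _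
    (isPreEqvRelSp_act a) a₂ a₁ hab
  haveI := he
  obtain ⟨R, hR, hsec⟩ := exists_local_section e
  refine GrothendieckTopology.superset_covering _ ?_ hR
  intro V τ hτ
  obtain ⟨w', hw'⟩ := hsec τ hτ
  rw [orbitSieve_apply', sameOrbit_iff]
  refine ⟨pt (w' ≫ r), ?_, ?_⟩
  · rw [← pt_comp, Category.assoc, hr2, ← Category.assoc, hw']
    change pt ((AlgSp.yon S).map τ ≫ (AlgSp.yon S).map x₁ ≫ _) = _
    rw [← Category.assoc, ← Functor.map_comp, pt_map]
  · rw [← pt_comp, Category.assoc, hr1, ← Category.assoc, hw']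
    change pt ((AlgSp.yon S).map τ ≫ (AlgSp.yon S).map x₂ ≫ _) = _
    rw [← Category.assoc, ← Functor.map_comp, pt_map]

theorem isQuotient_of_isLocQuot (h : IsLocQuot a q) :
    QuotSh.IsQuotient K₀ a.act (snd G X) q := by
  have w' : (snd G X).left ≫ q.left = a.act.left ≫ q.left := h.inv.left.symm
  refine Groth.Agent.Lib.Helper9.isQuotient_of_epi_repMap K₀ a.act (snd G X) q h.inv w'
    (Groth.Agent.Lib.Helper9.epi_repMap_of_generate_mem K₀ q h.sec) ?_
  apply Groth.Agent.Lib.Helper9.epi_repMap_of_generate_mem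
  -- the universal pair of points with the same image
  let P : Over S := Over.mk (pullback.fst q.left q.left ≫ X.hom)
  let p₁ : P ⟶ X := Over.homMk (pullback.fst q.left q.left) rfl
  let p₂ : P ⟶ X := Over.homMk (pullback.snd q.left q.left) (by
    change pullback.snd q.left q.left ≫ X.hom = pullback.fst q.left q.left ≫ X.hom
    rw [← Over.w q, ← Category.assoc, ← Category.assoc, pullback.condition])
  have h12 : p₁ ≫ q = p₂ ≫ q := (Groth.Agent.Lib.Helper9.isPullback_over_selfPullback q).w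
  refine GrothendieckTopology.superset_covering _ ?_ (h.orbit P p₁ p₂ h12)
  rintro V τ ⟨c, hc⟩
  refine ⟨G ⊗ X, lift c (τ ≫ p₁), _, ⟨⟩, ?_⟩
  apply Over.OverMorphism.ext
  apply pullback.hom_ext
  · have e1 : (lift c (τ ≫ p₁) ≫ snd G X).left = (τ ≫ p₁).left := by rw [lift_snd]
    rw [Over.comp_left, Category.assoc]
    exact (congrArg (fun m => (lift c (τ ≫ p₁)).left ≫ m) (pullback.lift_fst _ _ _)).trans e1
  · have e2 : (lift c (τ ≫ p₁) ≫ a.act).left = (τ ≫ p₂).left := by rw [hc]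
    rw [Over.comp_left, Category.assoc]
    exact (congrArg (fun m => (lift c (τ ≫ p₁)).left ≫ m) (pullback.lift_snd _ _ _)).trans e2

/-- an fppf quotient by a group action is a categorical quotient. -/
theorem isCatQuot_of_isQuotient (hq : QuotSh.IsQuotient K₀ a.act (snd G X) q) :
    GIT.IsCatQuot a q := by
  have hepi := epi_repMap_of_isQuotient hq
  obtain ⟨w, hiso⟩ := hq
  haveI := hiso
  have hπ : QuotSh.quotπ K₀ a.act (snd G X) ≫ QuotSh.quotDesc K₀ q w = QuotSh.repMap K₀ q :=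
    coequalizer.π_desc _ _
  refine ⟨w, fun Z ψ hψ => ?_⟩
  have hπ' : QuotSh.quotπ K₀ a.act (snd G X) ≫ QuotSh.quotDesc K₀ ψ hψ = QuotSh.repMap K₀ ψ :=
    coequalizer.π_desc _ _
  let m : QuotSh.rep K₀ Y ⟶ QuotSh.rep K₀ Z :=
    inv (QuotSh.quotDesc K₀ q w) ≫ QuotSh.quotDesc K₀ ψ hψ
  obtain ⟨χ, hχ⟩ := (Groth.Agent.Lib.Helper9.repFunctor K₀ S).map_surjective m
  have hχ' : QuotSh.repMap K₀ χ = m := hχ
  have hm : QuotSh.repMap K₀ q ≫ m = QuotSh.repMap K₀ ψ := by
    rw [← hπ, Category.assoc, IsIso.hom_inv_id_assoc, hπ']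
  refine ⟨χ, ?_, fun χ' hχ'' => ?_⟩
  · apply (Groth.Agent.Lib.Helper9.repFunctor K₀ S).map_injective
    change QuotSh.repMap K₀ (q ≫ χ) = QuotSh.repMap K₀ ψ
    rw [Groth.Agent.Lib.Helper9.repMap_comp, hχ', hm]
  · apply (Groth.Agent.Lib.Helper9.repFunctor K₀ S).map_injective
    change QuotSh.repMap K₀ χ' = QuotSh.repMap K₀ χ
    rw [← cancel_epi (QuotSh.repMap K₀ q), ← Groth.Agent.Lib.Helper9.repMap_comp, hχ'', hχ', hm]

end Quot

section BC

variable {X Y X' Y' : Over S} {a : AlgGrp.Action G X} {q : X ⟶ Y}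
  {pr : X' ⟶ X} {q' : X' ⟶ Y'} {g : Y' ⟶ Y} (hpb : IsPullback pr q' q g)
  (a' : AlgGrp.Action G X') (hc : a'.act ≫ pr = (G ◁ pr) ≫ a.act)
  (hinv' : GIT.IsInvariant a' q')

include hpb hc hinv' in
/-- the local form of an fppf quotient is stable under base change. -/
theorem isLocQuot_bc (h : IsLocQuot a q) : IsLocQuot a' q' := by
  refine ⟨hinv', ?_, ?_⟩
  · refine GrothendieckTopology.superset_covering _ ?_ ((AlgSp.J S).pullback_stable g h.sec)
    rintro V v ⟨W, l, q₀, ⟨⟩, hl⟩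
    exact ⟨X', hpb.lift l v hl, q', ⟨⟩, hpb.lift_snd _ _ _⟩
  · intro T x₁ x₂ h12
    have h12' : (x₁ ≫ pr) ≫ q = (x₂ ≫ pr) ≫ q := by
      rw [Category.assoc, Category.assoc, hpb.w, ← Category.assoc, ← Category.assoc, h12]
    refine GrothendieckTopology.superset_covering _ ?_ (h.orbit T _ _ h12')
    rintro V τ ⟨c, hc'⟩
    refine ⟨c, ?_⟩
    apply hpb.hom_ext
    · have e1 : lift c (τ ≫ x₁) ≫ (G ◁ pr) = lift c (τ ≫ x₁ ≫ pr) := by
        apply CartesianMonoidalCategory.hom_ext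
        · rw [Category.assoc, whiskerLeft_fst, lift_fst, lift_fst]
        · rw [Category.assoc, whiskerLeft_snd, ← Category.assoc, lift_snd, lift_snd,
            Category.assoc]
      rw [Category.assoc, hc, ← Category.assoc, e1, hc', Category.assoc]
    · have e2 : a'.act ≫ q' = snd G X' ≫ q' := hinv'
      rw [Category.assoc, e2, ← Category.assoc, lift_snd, Category.assoc, Category.assoc, h12]

end BC

section Topology

open Groth.Agent.Lib.Helper12.Submersive

/-- a covering sieve of the fppf topology over `S` contains, around every point, a flat morphism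
locally of finite presentation. -/
theorem exists_point_cover {T : Over S} (R : Sieve T) (hR : R ∈ AlgSp.J S T) (t : T.left) :
    ∃ (V : Over S) (τ : V ⟶ T), R τ ∧ Flat τ.left ∧ LocallyOfFinitePresentation τ.left ∧
      t ∈ Set.range τ.left := by
  rw [GrothendieckTopology.mem_over_iff,
    Precoverage.mem_toGrothendieck_iff_of_isStableUnderComposition] at hR
  obtain ⟨R₀, hR₀, hle⟩ := hR
  obtain ⟨I, Z, φ, rfl⟩ := Presieve.exists_eq_ofArrows R₀
  rw [Scheme.fppfPrecoverage, Scheme.ofArrows_mem_precoverage_iff] at hR₀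
  obtain ⟨i, hi⟩ := hR₀.1 t
  have h1 := hle _ _ (Presieve.ofArrows.mk i)
  rw [Sieve.overEquiv_iff] at h1
  exact ⟨_, _, h1, (hR₀.2 i).1, (hR₀.2 i).2, hi⟩

/-- universally open surjective morphisms are universally submersive. -/
theorem us_of_universallyOpen {A B : Scheme.{u}} (f : A ⟶ B) [UniversallyOpen f] [Surjective f] :
    US f := by
  intro A' B' i₁ i₂ f' sq
  haveI : UniversallyOpen f' := MorphismProperty.of_isPullback sq.flip inferInstance
  haveI : Surjective f' := MorphismProperty.of_isPullback sq.flip inferInstance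
  exact f'.isOpenMap.isQuotientMap f'.continuous f'.surjective

variable {X Y : Over S} {a : AlgGrp.Action G X} {q : X ⟶ Y}

theorem surjective_of_isLocQuot (h : IsLocQuot a q) : Function.Surjective q.left.base := by
  intro y
  obtain ⟨V, τ, ⟨W, l, q₀, ⟨⟩, hl⟩, -, -, v, hv⟩ := exists_point_cover _ h.sec y
  refine ⟨l.left v, ?_⟩
  rw [← hv, ← hl]
  rfl

theorem orbit_of_isLocQuot (h : IsLocQuot a q) :
    Function.Surjective (GIT.PsiY a q h.inv).base := by
  intro z
  let P : Over S := Over.mk (pullback.fst q.left q.left ≫ X.hom)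
  let p₁ : P ⟶ X := Over.homMk (pullback.fst q.left q.left) rfl
  let p₂ : P ⟶ X := Over.homMk (pullback.snd q.left q.left) (by
    change pullback.snd q.left q.left ≫ X.hom = pullback.fst q.left q.left ≫ X.hom
    rw [← Over.w q, ← Category.assoc, ← Category.assoc, pullback.condition])
  have h12 : p₁ ≫ q = p₂ ≫ q := (Groth.Agent.Lib.Helper9.isPullback_over_selfPullback q).w
  obtain ⟨V, τ, ⟨c, hc⟩, -, -, v, hv⟩ := exists_point_cover _ (h.orbit P p₂ p₁ h12.symm) z
  refine ⟨(lift c (τ ≫ p₂)).left v, ?_⟩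
  have e : (lift c (τ ≫ p₂)).left ≫ GIT.PsiY a q h.inv = τ.left := by
    apply pullback.hom_ext
    · have e1 : (lift c (τ ≫ p₂) ≫ a.act).left = (τ ≫ p₁).left := by rw [hc]
      rw [Category.assoc]
      exact (congrArg (fun m => (lift c (τ ≫ p₂)).left ≫ m) (pullback.lift_fst _ _ _)).trans e1
    · have e2 : (lift c (τ ≫ p₂) ≫ snd G X).left = (τ ≫ p₂).left := by rw [lift_snd]
      rw [Category.assoc]
      exact (congrArg (fun m => (lift c (τ ≫ p₂)).left ≫ m) (pullback.lift_snd _ _ _)).trans e2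
  rw [← hv, ← e]
  rfl

theorem us_of_isLocQuot (h : IsLocQuot a q) : GIT.IsUnivSubmersive q.left := by
  have hex : ∀ y : Y.left, ∃ (V : Over S) (τ : V ⟶ Y) (l : V ⟶ X), l ≫ q = τ ∧ Flat τ.left ∧
      LocallyOfFinitePresentation τ.left ∧ y ∈ Set.range τ.left := by
    intro y
    obtain ⟨V, τ, ⟨W, l, q₀, ⟨⟩, hl⟩, h1, h2, h3⟩ := exists_point_cover _ h.sec y
    exact ⟨V, τ, l, hl, h1, h2, h3⟩
  choose V τ l hl hfl hfp hy using hex
  let d : (∐ fun y => (V y).left) ⟶ X.left := Sigma.desc (fun y => (l y).left)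
  let e : (∐ fun y => (V y).left) ⟶ Y.left := Sigma.desc (fun y => (τ y).left)
  have hde : d ≫ q.left = e := by
    apply Sigma.hom_ext
    intro y
    rw [Sigma.ι_desc, ← Category.assoc, Sigma.ι_desc, ← Over.comp_left, hl]
  haveI : Flat e := IsZariskiLocalAtSource.sigmaDesc (P := @Flat) hfl
  haveI : LocallyOfFinitePresentation e :=
    IsZariskiLocalAtSource.sigmaDesc (P := @LocallyOfFinitePresentation) hfp
  haveI : Surjective e := by
    refine ⟨fun y => ?_⟩
    obtain ⟨v, hv⟩ := hy y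
    refine ⟨Sigma.ι (fun y => (V y).left) y v, ?_⟩
    rw [← Scheme.Hom.comp_apply, Sigma.ι_desc]
    exact hv
  have hus : US e := us_of_universallyOpen e
  rw [← hde] at hus
  exact us_of_comp d q.left hus

end Topology

section Main

variable {X Y : Over S} {a : AlgGrp.Action G X} {q : X ⟶ Y}

/-- an fppf quotient by a group action is a universal categorical quotient. -/
theorem isUnivCatQuot_of_isQuotient (hq : QuotSh.IsQuotient K₀ a.act (snd G X) q) :
    GIT.IsUnivCatQuot a q := by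
  have hloc := isLocQuot_of_isQuotient hq
  refine ⟨isCatQuot_of_isQuotient hq, ?_⟩
  intro X' Y' pr q' g _ hpb a' hc hinv'
  exact isCatQuot_of_isQuotient (isQuotient_of_isLocQuot (isLocQuot_bc hpb a' hc hinv' hloc))

/-- **an fppf quotient by a group action is a geometric quotient.** -/
theorem isGeomQuot_of_isQuotient (hq : QuotSh.IsQuotient K₀ a.act (snd G X) q) :
    GIT.IsGeomQuot a q := by
  have hloc := isLocQuot_of_isQuotient hq
  exact ⟨hloc.inv, surjective_of_isLocQuot hloc, orbit_of_isLocQuot hloc, us_of_isLocQuot hloc,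
    Groth.Agent.Lib.T2H7.GITUniv.sections_of_isUnivCatQuot a q (isUnivCatQuot_of_isQuotient hq)⟩

end Main

end Groth.Agent.Lib.T2H7.FppfGeomQuot
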