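import Mathlib
import Groth.Prelude.Def_AlgSp
import Groth.Agent.S13210
import Groth.Agent.S11731
import Groth.Agent.Lib.T2H7LocRep
import Groth.Agent.Lib.T2H8OverSigma
import Groth.Agent.Lib.Helper12Torsor

/-!
# fppf sheaves with closed diagonal and an fppf atlas are fpqc sheaves (helper7)

Let `F` be an fppf sheaf over `S` whose diagonal is representable by closed immersions and which
receives a representable flat, surjective, locally finitely presented map `p : h_U ⟶ F` from a
scheme.  Then `F` satisfies the sheaf condition for the fpqc topology: closed subschemes descend along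
fpqc morphisms, which produces the fppf covering trivialising a section given fpqc-locally.
-/

set_option autoImplicit false
set_option linter.unusedSectionVars false
set_option linter.unusedVariables false
set_option linter.style.haveILetI false

universe u

open CategoryTheory CategoryTheory.Limits AlgebraicGeometry Opposite

namespace Groth.Agent.Lib.T2H7.FpqcSheaf

open Groth.Agent.S13210 Groth.Agent.Lib.T2H7.SubRep Groth.Agent.Lib.T2H7.DiagRep
  Groth.Agent.Lib.T2H7.LocRep

variable {S : Scheme.{u}}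

/-- a closed immersion through which a flat, surjective, quasi-compact morphism factors is an
isomorphism. -/
theorem isIso_of_closedImmersion_of_factor {E T T' : Scheme.{u}} (e : E ⟶ T) [IsClosedImmersion e]
    (ψ : T' ⟶ T) [Flat ψ] [Surjective ψ] [QuasiCompact ψ] (k : T' ⟶ E) (hk : k ≫ e = ψ) :
    IsIso e := by
  have h1 : IsIso (pullback.fst ψ e) := by
    haveI : Mono (pullback.fst ψ e) := inferInstance
    haveI : IsSplitEpi (pullback.fst ψ e) :=
      ⟨⟨pullback.lift (𝟙 _) k (by rw [Category.id_comp, hk]), pullback.lift_fst _ _ _⟩⟩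
    exact isIso_of_mono_of_isSplitEpi _
  exact MorphismProperty.of_pullback_fst_of_descendsAlong
    (P := MorphismProperty.isomorphisms Scheme.{u})
    (Q := (@Surjective ⊓ @Flat ⊓ @QuasiCompact : MorphismProperty Scheme.{u}))
    (f := ψ) (g := e) ⟨⟨inferInstance, inferInstance⟩, inferInstance⟩ h1

/-- **separatedness for fpqc morphisms**: two points of a separated sheaf which agree after a flat,
surjective, quasi-compact base change are equal. -/
theorem sep_of_fpqc (F : AlgSp.Sp S) (hsep : AlgSp.IsSeparatedSp F) {T T' : Over S} (ψ : T' ⟶ T)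
    [Flat ψ.left] [Surjective ψ.left] [QuasiCompact ψ.left]
    (a b : (AlgSp.yon S).obj T ⟶ F)
    (h : (AlgSp.yon S).map ψ ≫ a = (AlgSp.yon S).map ψ ≫ b) : a = b := by
  obtain ⟨E, e, he, hE⟩ := exists_eq_locus hsep a b
  obtain ⟨k, hk⟩ := (hE T' ψ).1 h
  haveI := he
  haveI : IsIso e.left :=
    isIso_of_closedImmersion_of_factor e.left ψ.left k.left (congrArg (fun m => m.left) hk)
  haveI : IsIso e := by
    haveI : IsIso ((Over.forget S).map e) := inferInstanceAs (IsIso e.left)
    exact isIso_of_reflects_iso e (Over.forget S)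
  have h2 := (hE T (𝟙 T)).2 ⟨inv e, IsIso.inv_hom_id e⟩
  rw [CategoryTheory.Functor.map_id, Category.id_comp, Category.id_comp] at h2
  exact h2

section Glue

variable (F : AlgSp.Sp S) (hsep : AlgSp.IsSeparatedSp F) {U : Over S}
  (p : (AlgSp.yon S).obj U ⟶ F)
  {T T' : Over S} (ψ : T' ⟶ T)
  (a' : (AlgSp.yon S).obj T' ⟶ F)
  (hd : ∀ (Z : Over S) (p₁ p₂ : Z ⟶ T'), p₁ ≫ ψ = p₂ ≫ ψ →
    (AlgSp.yon S).map p₁ ≫ a' = (AlgSp.yon S).map p₂ ≫ a')

/-- the base change of the covering morphism to the product with `U`. -/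
noncomputable abbrev ψU : T' ⨯ U ⟶ T ⨯ U := prod.map ψ (𝟙 U)

theorem isPullback_ψU_left :
    IsPullback (prod.fst : T' ⨯ U ⟶ T').left (ψU (U := U) ψ).left ψ.left
      (prod.fst : T ⨯ U ⟶ T).left :=
  (IsPullback.of_prod_fst_with_id ψ U).map (Over.forget S)

instance flat_ψU [Flat ψ.left] : Flat (ψU (U := U) ψ).left :=
  MorphismProperty.of_isPullback (P := @Flat) (isPullback_ψU_left ψ) inferInstance

instance surjective_ψU [Surjective ψ.left] : Surjective (ψU (U := U) ψ).left :=
  MorphismProperty.of_isPullback (P := @Surjective) (isPullback_ψU_left ψ) inferInstance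

instance quasiCompact_ψU [QuasiCompact ψ.left] : QuasiCompact (ψU (U := U) ψ).left :=
  MorphismProperty.of_isPullback (P := @QuasiCompact) (isPullback_ψU_left ψ) inferInstance

/-- the condition cutting out `h_{T'} ×_F h_U` inside `T' × U`. -/
def InE {Z : Over S} (c : Z ⟶ T' ⨯ U) : Prop :=
  (AlgSp.yon S).map (c ≫ prod.fst) ≫ a' = (AlgSp.yon S).map (c ≫ prod.snd) ≫ p

include hd in
/-- the condition only depends on the image in `T × U`. -/
theorem inE_of_eq {Z : Over S} (c₁ c₂ : Z ⟶ T' ⨯ U)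
    (h : c₁ ≫ ψU ψ = c₂ ≫ ψU ψ) (h₂ : InE F p a' c₂) : InE F p a' c₁ := by
  unfold InE at h₂ ⊢
  have e1 : (c₁ ≫ prod.fst) ≫ ψ = (c₂ ≫ prod.fst) ≫ ψ := by
    have := congrArg (fun m => m ≫ (prod.fst : T ⨯ U ⟶ T)) h
    simpa only [Category.assoc, prod.map_fst] using this
  have e2 : c₁ ≫ (prod.snd : T' ⨯ U ⟶ U) = c₂ ≫ prod.snd := by
    have := congrArg (fun m => m ≫ (prod.snd : T ⨯ U ⟶ U)) h
    simpa only [Category.assoc, prod.map_snd, Category.comp_id] using this
  rw [hd Z _ _ e1, e2, h₂]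

include hsep in
/-- the chosen closed subscheme `h_{T'} ×_F h_U ⊆ T' × U`, as an ideal sheaf; its projection to
`T'` is the base change of `p`. -/
theorem exists_ideal_fppf (hfl : AlgSp.RepWith @Flat p) (hsu : AlgSp.RepWith @Surjective p)
    (hfp : AlgSp.RepWith @LocallyOfFinitePresentation p) :
    ∃ I' : (T' ⨯ U).left.IdealSheafData,
    (∀ (Z : Over S) (c : Z ⟶ T' ⨯ U), InE F p a' c ↔
      ∃ v : Z.left ⟶ I'.subscheme, v ≫ I'.subschemeι = c.left) ∧
    Flat (I'.subschemeι ≫ (prod.fst : T' ⨯ U ⟶ T').left) ∧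
    Surjective (I'.subschemeι ≫ (prod.fst : T' ⨯ U ⟶ T').left) ∧
    LocallyOfFinitePresentation (I'.subschemeι ≫ (prod.fst : T' ⨯ U ⟶ T').left) := by
  obtain ⟨E, e, he, hE⟩ := exists_eq_locus hsep ((AlgSp.yon S).map (prod.fst : T' ⨯ U ⟶ T') ≫ a')
    ((AlgSp.yon S).map (prod.snd : T' ⨯ U ⟶ U) ≫ p)
  haveI := he
  have h3 : inv e.left.toImage ≫ e.left = e.left.ker.subschemeι := by
    rw [IsIso.inv_comp_eq]
    exact (Scheme.Hom.toImage_imageι e.left).symm
  have hEe : ∀ (Z : Over S) (c : Z ⟶ T' ⨯ U), InE F p a' c ↔ ∃ t' : Z ⟶ E, t' ≫ e = c := by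
    intro Z c
    rw [← hE Z c]
    unfold InE
    rw [Functor.map_comp, Functor.map_comp, Category.assoc, Category.assoc]
  haveI hmono : Mono e := by
    haveI : Mono ((Over.forget S).map e) := inferInstanceAs (Mono e.left)
    exact (Over.forget S).mono_of_mono_map inferInstance
  -- the cartesian square
  have hw : (AlgSp.yon S).map (e ≫ prod.snd) ≫ p = (AlgSp.yon S).map (e ≫ prod.fst) ≫ a' :=
    ((hEe E e).2 ⟨𝟙 _, Category.id_comp _⟩).symm
  have sq : IsPullback ((AlgSp.yon S).map (e ≫ prod.snd)) ((AlgSp.yon S).map (e ≫ prod.fst)) p a' := by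
    refine isPullback_of_yon hw (fun T₀ b c hbc => ?_)
    obtain ⟨b₀, rfl⟩ := (AlgSp.yon S).map_surjective b
    obtain ⟨c₀, rfl⟩ := (AlgSp.yon S).map_surjective c
    have hin : InE F p a' (prod.lift c₀ b₀) := by
      unfold InE
      rw [prod.lift_fst, prod.lift_snd, hbc]
    obtain ⟨t', ht'⟩ := (hEe T₀ _).1 hin
    refine ⟨(AlgSp.yon S).map t', ⟨?_, ?_⟩, ?_⟩
    · rw [← Functor.map_comp, ← Category.assoc, ht', prod.lift_snd]
    · rw [← Functor.map_comp, ← Category.assoc, ht', prod.lift_fst]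
    · rintro a₂ ⟨h1, h2⟩
      obtain ⟨t₂, rfl⟩ := (AlgSp.yon S).map_surjective a₂
      rw [← Functor.map_comp] at h1 h2
      have h1' := (AlgSp.yon S).map_injective h1
      have h2' := (AlgSp.yon S).map_injective h2
      congr 1
      rw [← cancel_mono e, ht']
      apply Limits.prod.hom_ext
      · rw [prod.lift_fst, Category.assoc, h2']
      · rw [prod.lift_snd, Category.assoc, h1']
  have key : ∀ (P : MorphismProperty Scheme.{u}) [P.RespectsIso], AlgSp.RepWith P p →
      P (e.left.ker.subschemeι ≫ (prod.fst : T' ⨯ U ⟶ T').left) := by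
    intro P _ hP
    have h1 : P (e ≫ (prod.fst : T' ⨯ U ⟶ T')).left := hP.2 a' _ _ sq
    rw [← h3, Category.assoc, P.cancel_left_of_respectsIso]
    exact h1
  refine ⟨e.left.ker, fun Z c => ?_, key _ hfl, key _ hsu, key _ hfp⟩
  rw [hEe]
  constructor
  · rintro ⟨t', rfl⟩
    refine ⟨t'.left ≫ e.left.toImage, ?_⟩
    rw [Category.assoc]
    exact congrArg (fun m => t'.left ≫ m) (Scheme.Hom.toImage_imageι e.left)
  · rintro ⟨v, hv⟩
    have hw : (v ≫ inv e.left.toImage) ≫ E.hom = Z.hom := by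
      rw [← Over.w e, ← Category.assoc, Category.assoc v, h3, hv, Over.w c]
    refine ⟨Over.homMk (v ≫ inv e.left.toImage) hw, ?_⟩
    apply Over.OverMorphism.ext
    change (v ≫ inv e.left.toImage) ≫ e.left = c.left
    rw [Category.assoc, h3, hv]

omit S in
theorem le_of_factors {X : Scheme.{u}} (K₁ K₂ : X.IdealSheafData)
    (v : K₂.subscheme ⟶ K₁.subscheme) (hv : v ≫ K₁.subschemeι = K₂.subschemeι) : K₁ ≤ K₂ :=
  calc K₁ = K₁.subschemeι.ker := (Scheme.IdealSheafData.ker_subschemeι K₁).symm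
    _ ≤ (v ≫ K₁.subschemeι).ker := Scheme.Hom.le_ker_comp _ _
    _ = K₂.subschemeι.ker := by rw [hv]
    _ = K₂ := Scheme.IdealSheafData.ker_subschemeι K₂

include hd in
theorem comap_le_comap (I' : (T' ⨯ U).left.IdealSheafData)
    (hI' : ∀ (Z : Over S) (c : Z ⟶ T' ⨯ U), InE F p a' c ↔
      ∃ v : Z.left ⟶ I'.subscheme, v ≫ I'.subschemeι = c.left)
    {W : Scheme.{u}} (pa pb : W ⟶ (T' ⨯ U).left)
    (hab : pa ≫ (ψU (U := U) ψ).left = pb ≫ (ψU (U := U) ψ).left) :
    I'.comap pa ≤ I'.comap pb := by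
  obtain ⟨vb, hvb⟩ := (Groth.Agent.S11731.factors_comap_iff pb I' (I'.comap pb).subschemeι).1
    ⟨𝟙 _, Category.id_comp _⟩
  have hA : (T' ⨯ U).hom = (ψU (U := U) ψ).left ≫ (T ⨯ U).hom := (Over.w (ψU (U := U) ψ)).symm
  have hw : ((I'.comap pb).subschemeι ≫ pa) ≫ (T' ⨯ U).hom =
      ((I'.comap pb).subschemeι ≫ pb) ≫ (T' ⨯ U).hom := by
    rw [hA, Category.assoc, Category.assoc, ← Category.assoc pa, hab, Category.assoc]
  let Z : Over S := Over.mk (((I'.comap pb).subschemeι ≫ pb) ≫ (T' ⨯ U).hom)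
  let cb : Z ⟶ T' ⨯ U := Over.homMk ((I'.comap pb).subschemeι ≫ pb) rfl
  let ca : Z ⟶ T' ⨯ U := Over.homMk ((I'.comap pb).subschemeι ≫ pa) hw
  have hcb : InE F p a' cb := (hI' Z cb).2 ⟨vb, hvb⟩
  have hcab : ca ≫ ψU ψ = cb ≫ ψU ψ := by
    apply Over.OverMorphism.ext
    change ((I'.comap pb).subschemeι ≫ pa) ≫ (ψU (U := U) ψ).left =
      ((I'.comap pb).subschemeι ≫ pb) ≫ (ψU (U := U) ψ).left
    rw [Category.assoc, Category.assoc, hab]
  obtain ⟨va, hva⟩ := (hI' Z ca).1 (inE_of_eq F p ψ a' hd ca cb hcab hcb)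
  obtain ⟨v, hv⟩ := (Groth.Agent.S11731.factors_comap_iff pa I' (I'.comap pb).subschemeι).2
    ⟨va, hva⟩
  exact le_of_factors _ _ v hv

include hsep hd in
/-- the closed subscheme `h_{T'} ×_F h_U ⊆ T' × U` descends to a closed subscheme of `T × U`,
which is fppf over `T`. -/
theorem exists_descended [Flat ψ.left] [Surjective ψ.left] [QuasiCompact ψ.left]
    (hfl : AlgSp.RepWith @Flat p) (hsu : AlgSp.RepWith @Surjective p)
    (hfp : AlgSp.RepWith @LocallyOfFinitePresentation p) :
    ∃ J : (T ⨯ U).left.IdealSheafData,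
      (∀ (Z : Over S) (c : Z ⟶ T' ⨯ U), InE F p a' c ↔
        ∃ v : Z.left ⟶ J.subscheme, v ≫ J.subschemeι = c.left ≫ (ψU (U := U) ψ).left) ∧
      Flat (J.subschemeι ≫ (prod.fst : T ⨯ U ⟶ T).left) ∧
      Surjective (J.subschemeι ≫ (prod.fst : T ⨯ U ⟶ T).left) ∧
      LocallyOfFinitePresentation (J.subschemeι ≫ (prod.fst : T ⨯ U ⟶ T).left) := by
  obtain ⟨I', hI', hI1, hI2, hI3⟩ := exists_ideal_fppf F hsep p a' hfl hsu hfp
  have hg : Presieve.ofArrows (fun _ : PUnit.{u + 1} => (T' ⨯ U).left)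
      (fun _ => (ψU (U := U) ψ).left) ∈ Scheme.fpqcPrecoverage (T ⨯ U).left := by
    rw [Presieve.ofArrows_pUnit]
    exact Scheme.Hom.singleton_mem_fpqcPrecoverage _
  obtain ⟨J, hJ, -⟩ := Groth.Agent.S11731.result (fun _ : PUnit.{u + 1} => (ψU (U := U) ψ).left) hg
    (fun _ => I') (fun _ _ => le_antisymm
      (comap_le_comap F p ψ a' hd I' hI' _ _ pullback.condition)
      (comap_le_comap F p ψ a' hd I' hI' _ _ pullback.condition.symm))
  have hJ' : J.comap (ψU (U := U) ψ).left = I' := hJ PUnit.unit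
  subst hJ'
  -- the cartesian squares
  have sq1 : IsPullback ((J.comap (ψU (U := U) ψ).left).subschemeι)
      ((J.comapIso (ψU (U := U) ψ).left).hom ≫ pullback.snd _ _) (ψU (U := U) ψ).left
      J.subschemeι :=
    IsPullback.of_iso_pullback ⟨by
      rw [Category.assoc, ← pullback.condition, ← Category.assoc,
        Scheme.IdealSheafData.comapIso_hom_fst]⟩ (J.comapIso (ψU (U := U) ψ).left)
      (Scheme.IdealSheafData.comapIso_hom_fst _ _) rfl
  have sq2 := (sq1.flip.paste_vert (isPullback_ψU_left (U := U) ψ).flip).flip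
  have hQ : (@Surjective ⊓ @Flat ⊓ @QuasiCompact : MorphismProperty Scheme.{u}) ψ.left :=
    ⟨⟨inferInstance, inferInstance⟩, inferInstance⟩
  refine ⟨J, fun Z c => ?_, ?_, ?_, ?_⟩
  · rw [hI' Z c]
    exact Groth.Agent.S11731.factors_comap_iff _ J c.left
  · haveI := Groth.Agent.Lib.Helper12.descendsAlong_flat.{u}
    exact MorphismProperty.of_isPullback_of_descendsAlong (P := @Flat)
      (Q := (@Surjective ⊓ @Flat ⊓ @QuasiCompact : MorphismProperty Scheme.{u})) sq2 hQ hI1
  · exact MorphismProperty.of_isPullback_of_descendsAlong (P := @Surjective)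
      (Q := (@Surjective ⊓ @Flat ⊓ @QuasiCompact : MorphismProperty Scheme.{u})) sq2 hQ hI2
  · exact MorphismProperty.of_isPullback_of_descendsAlong (P := @LocallyOfFinitePresentation)
      (Q := (@Surjective ⊓ @Flat ⊓ @QuasiCompact : MorphismProperty Scheme.{u})) sq2 hQ hI3

include hsep hd in
/-- **gluing along an fpqc morphism**: a point of `F` over `T'` with trivial descent datum along the
flat, surjective, quasi-compact `ψ : T' ⟶ T` comes from a point over `T`. -/
theorem exists_glue [Flat ψ.left] [Surjective ψ.left] [QuasiCompact ψ.left]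
    (hfl : AlgSp.RepWith @Flat p) (hsu : AlgSp.RepWith @Surjective p)
    (hfp : AlgSp.RepWith @LocallyOfFinitePresentation p) :
    ∃ a : (AlgSp.yon S).obj T ⟶ F, (AlgSp.yon S).map ψ ≫ a = a' := by
  obtain ⟨J, hJ, hJ1, hJ2, hJ3⟩ := exists_descended F hsep p ψ a' hd hfl hsu hfp
  let P : Over S := Over.mk (J.subschemeι ≫ (T ⨯ U).hom)
  let iP : P ⟶ T ⨯ U := Over.homMk J.subschemeι rfl
  let πP : P ⟶ T := iP ≫ prod.fst
  let uP : P ⟶ U := iP ≫ prod.snd
  have hπP : πP.left = J.subschemeι ≫ (prod.fst : T ⨯ U ⟶ T).left := rfl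
  -- compatibility of the local sections
  have compat : ∀ (Z : Over S) (g₁ g₂ : Z ⟶ P), g₁ ≫ πP = g₂ ≫ πP →
      (AlgSp.yon S).map g₁ ≫ (AlgSp.yon S).map uP ≫ p =
        (AlgSp.yon S).map g₂ ≫ (AlgSp.yon S).map uP ≫ p := by
    intro Z g₁ g₂ hg
    let Z' : Over S := pullback (g₁ ≫ πP) ψ
    let ψZ : Z' ⟶ Z := pullback.fst _ _
    let z' : Z' ⟶ T' := pullback.snd _ _
    have hz : ψZ ≫ g₁ ≫ πP = z' ≫ ψ := pullback.condition
    have sqZ : IsPullback ψZ.left z'.left (g₁ ≫ πP).left ψ.left :=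
      (IsPullback.of_hasPullback (g₁ ≫ πP) ψ).map (Over.forget S)
    haveI : Flat ψZ.left := MorphismProperty.of_isPullback (P := @Flat) sqZ.flip inferInstance
    haveI : Surjective ψZ.left :=
      MorphismProperty.of_isPullback (P := @Surjective) sqZ.flip inferInstance
    haveI : QuasiCompact ψZ.left :=
      MorphismProperty.of_isPullback (P := @QuasiCompact) sqZ.flip inferInstance
    have key : ∀ g : Z ⟶ P, g ≫ πP = g₁ ≫ πP →
        (AlgSp.yon S).map z' ≫ a' = (AlgSp.yon S).map (ψZ ≫ g ≫ uP) ≫ p := by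
      intro g hgg
      let c : Z' ⟶ T' ⨯ U := prod.lift z' (ψZ ≫ g ≫ uP)
      have hc : c ≫ ψU ψ = ψZ ≫ g ≫ iP := by
        apply Limits.prod.hom_ext
        · rw [Category.assoc, prod.map_fst, ← Category.assoc, prod.lift_fst, ← hz, ← hgg,
            Category.assoc, Category.assoc]
        · rw [Category.assoc, prod.map_snd, Category.comp_id, prod.lift_snd, Category.assoc,
            Category.assoc]
      have hin : InE F p a' c := (hJ Z' c).2 ⟨(ψZ ≫ g).left, by
        have := congrArg (fun m => m.left) hc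
        simp only [Over.comp_left] at this
        rw [this, Over.comp_left]
        rfl⟩
      unfold InE at hin
      rwa [prod.lift_fst, prod.lift_snd] at hin
    apply sep_of_fpqc F hsep ψZ
    have e1 : ∀ g : Z ⟶ P, (AlgSp.yon S).map ψZ ≫ (AlgSp.yon S).map g ≫ (AlgSp.yon S).map uP ≫ p =
        (AlgSp.yon S).map (ψZ ≫ g ≫ uP) ≫ p := by
      intro g
      simp only [uP, Functor.map_comp, Category.assoc]
    rw [e1, e1, ← key g₁ rfl, ← key g₂ hg.symm]
  -- glue
  obtain ⟨a, ha⟩ := sheaf_glue F T (fun _ : PUnit.{u + 1} => P) (fun _ => πP)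
    (fun _ => hJ1) (fun _ => hJ3) (fun t => ⟨PUnit.unit, hJ2.surj t⟩)
    (fun _ => (AlgSp.yon S).map uP ≫ p) (fun _ _ Z gi gj h => compat Z gi gj h)
  have ha' : (AlgSp.yon S).map πP ≫ a = (AlgSp.yon S).map uP ≫ p := ha PUnit.unit
  refine ⟨a, ?_⟩
  -- the fppf covering of `T'` given by the base change of `p`
  let V : Over S := hfl.1.pullback a'
  let v₁ : V ⟶ T' := hfl.1.snd a'
  have sqV : IsPullback (hfl.1.fst a') ((AlgSp.yon S).map v₁) p a' := hfl.1.isPullback a'
  obtain ⟨v₂, hv₂⟩ := (AlgSp.yon S).map_surjective (hfl.1.fst a')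
  rw [← hv₂] at sqV
  have hV1 : Flat v₁.left := hfl.2 a' _ v₁ sqV
  have hV2 : Surjective v₁.left := hsu.2 a' _ v₁ sqV
  have hV3 : LocallyOfFinitePresentation v₁.left := hfp.2 a' _ v₁ sqV
  apply sheaf_hom_ext F T' (fun _ : PUnit.{u + 1} => V) (fun _ => v₁)
    (fun _ => hV1) (fun _ => hV3) (fun t => ⟨PUnit.unit, hV2.surj t⟩)
  intro _
  let c : V ⟶ T' ⨯ U := prod.lift v₁ v₂
  have hin : InE F p a' c := by
    unfold InE
    rw [prod.lift_fst, prod.lift_snd, sqV.w]
  obtain ⟨v, hv⟩ := (hJ V c).1 hin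
  have hk : v ≫ P.hom = V.hom := by
    change v ≫ J.subschemeι ≫ (T ⨯ U).hom = V.hom
    rw [← Category.assoc, hv, Category.assoc, Over.w, Over.w]
  let k : V ⟶ P := Over.homMk v hk
  have hkc : k ≫ iP = c ≫ ψU ψ := by
    apply Over.OverMorphism.ext
    exact hv
  have h1 : v₁ ≫ ψ = k ≫ πP := by
    change v₁ ≫ ψ = k ≫ iP ≫ prod.fst
    rw [← Category.assoc, hkc, Category.assoc, prod.map_fst, ← Category.assoc, prod.lift_fst]
  have h2 : k ≫ uP = v₂ := by
    change k ≫ iP ≫ prod.snd = v₂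
    rw [← Category.assoc, hkc, Category.assoc, prod.map_snd, Category.comp_id, prod.lift_snd]
  rw [← Category.assoc, ← Functor.map_comp, h1, Functor.map_comp, Category.assoc, ha',
    ← Category.assoc, ← Functor.map_comp, h2, sqV.w]

end Glue

open Groth.Agent.Lib.T2H8.OverSigma in
/-- **an fppf sheaf with closed diagonal and an fppf atlas by a scheme is an fpqc sheaf.** -/
theorem isSheaf_fpqc (F : AlgSp.Sp S) (hsep : AlgSp.IsSeparatedSp F) {U : Over S}
    (p : (AlgSp.yon S).obj U ⟶ F)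
    (hfl : AlgSp.RepWith @Flat p) (hsu : AlgSp.RepWith @Surjective p)
    (hfp : AlgSp.RepWith @LocallyOfFinitePresentation p) :
    Presheaf.IsSheaf (QuotSh.J Scheme.fpqcPrecoverage S) F.obj := by
  rw [isSheaf_iff_isSheaf_of_type]
  change Presieve.IsSheaf (Scheme.fpqcTopology.over S) F.obj
  have hYq : Presieve.IsSheaf Scheme.fpqcTopology (yoneda.obj S) :=
    GrothendieckTopology.Subcanonical.isSheaf_of_isRepresentable _
  have hYz : Presieve.IsSheaf Scheme.zariskiTopology (yoneda.obj S) :=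
    GrothendieckTopology.Subcanonical.isSheaf_of_isRepresentable _
  apply isSheaf_over_of_sigma S F.obj Scheme.fpqcTopology hYq
  rw [Scheme.fpqcTopology_eq_propQCTopology, isSheaf_type_propQCTopology_iff]
  refine ⟨?_, ?_⟩
  · apply isSheaf_sigma_of_over S F.obj Scheme.zariskiTopology hYz
    have h1 : Presieve.IsSheaf (AlgSp.J S) F.obj := (isSheaf_iff_isSheaf_of_type _ _).1 F.property
    refine Presieve.isSheaf_of_le _ ?_ h1
    intro V T hT
    have hle : Scheme.zariskiTopology ≤ Scheme.fppfTopology.{u} :=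
      Precoverage.toGrothendieck_mono Scheme.zariskiPrecoverage_le_fppfPrecoverage
    exact hle _ hT
  · intro R R' f hf hs
    apply sigma_isSheafFor
    · exact hYq.isSheafFor _
        (Precoverage.generate_mem_toGrothendieck (Spec.map f).singleton_mem_fpqcPrecoverage)
    · intro g
      have e := functorPullback_singleton S g (Spec.map f)
      refine Eq.mpr (congrArg (Presieve.IsSheafFor F.obj) e) ?_
      rw [Presieve.isSheafFor_singleton]
      intro x hx
      let T' : Over S := Over.mk (Spec.map f ≫ g)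
      let T : Over S := Over.mk g
      let ψ : T' ⟶ T := Over.homMk (Spec.map f) rfl
      haveI : Flat ψ.left := hf
      haveI : Surjective ψ.left := hs
      haveI : QuasiCompact ψ.left := (inferInstance : QuasiCompact (Spec.map f))
      let a' : (AlgSp.yon S).obj T' ⟶ F := (yEquiv T' F).symm x
      have hd : ∀ (Z : Over S) (p₁ p₂ : Z ⟶ T'), p₁ ≫ ψ = p₂ ≫ ψ →
          (AlgSp.yon S).map p₁ ≫ a' = (AlgSp.yon S).map p₂ ≫ a' := by
        intro Z p₁ p₂ h12
        apply (yEquiv Z F).injective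
        rw [← Groth.Agent.Lib.Helper12.ZarGlue.map_yEquiv,
          ← Groth.Agent.Lib.Helper12.ZarGlue.map_yEquiv, Equiv.apply_symm_apply]
        exact hx p₁ p₂ h12
      obtain ⟨a, ha⟩ := exists_glue F hsep p ψ a' hd hfl hsu hfp
      refine ⟨yEquiv T F a, ?_, ?_⟩
      · change F.obj.map ψ.op (yEquiv T F a) = x
        rw [Groth.Agent.Lib.Helper12.ZarGlue.map_yEquiv, ha, Equiv.apply_symm_apply]
      · intro y hy
        have hy' : F.obj.map ψ.op y = x := hy
        have h2 : (AlgSp.yon S).map ψ ≫ (yEquiv T F).symm y = (AlgSp.yon S).map ψ ≫ a := by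
          rw [ha]
          apply (yEquiv T' F).injective
          rw [← Groth.Agent.Lib.Helper12.ZarGlue.map_yEquiv, Equiv.apply_symm_apply,
            Equiv.apply_symm_apply, hy']
        have h3 := sep_of_fpqc F hsep ψ _ _ h2
        rw [← h3, Equiv.apply_symm_apply]

end Groth.Agent.Lib.T2H7.FpqcSheaf
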