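import Mathlib
import Groth.Prelude.Def_FEt
import Groth.Agent.Lib.Helper27FEtFib

/-!
# Free actions of finite groups on finite étale covers

For a finite étale cover `Y → X` with an action of a group `G` over `X` which is free on
field-valued points, the morphism `∐_G Y → Y ×_X Y` with components `(id, g)` is an étale
monomorphism; it is an isomorphism as soon as it is surjective.
-/

set_option autoImplicit false
set_option linter.unusedSectionVars false
set_option linter.unusedVariables false
set_option linter.style.haveILetI false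

universe u

open CategoryTheory CategoryTheory.Limits AlgebraicGeometry

namespace Groth.Agent.Lib.T2H7.FreeAction

variable {X : Scheme.{u}} (Y : FEt.Cat X) {G : Type u} [Group G] (ρ : G →* Aut Y)

theorem left_mul (g h : G) : (ρ (g * h)).hom.left = (ρ h).hom.left ≫ (ρ g).hom.left := by
  rw [map_mul]; rfl

theorem left_one : (ρ 1).hom.left = 𝟙 Y.left := by
  rw [map_one]; rfl

theorem left_w (g : G) : (ρ g).hom.left ≫ Y.hom = Y.hom := Over.w (ρ g).hom.hom

theorem left_inv_left (g : G) : (ρ g).hom.left ≫ (ρ g⁻¹).hom.left = 𝟙 Y.left := by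
  rw [← left_mul, inv_mul_cancel, left_one]

/-- the graph of the translation by `g` -/
noncomputable def comp (g : G) : Y.left ⟶ pullback Y.hom Y.hom :=
  pullback.lift (𝟙 Y.left) (ρ g).hom.left (by rw [Category.id_comp, left_w])

@[reassoc]
theorem comp_fst (g : G) : comp Y ρ g ≫ pullback.fst Y.hom Y.hom = 𝟙 Y.left :=
  pullback.lift_fst _ _ _

@[reassoc]
theorem comp_snd (g : G) : comp Y ρ g ≫ pullback.snd Y.hom Y.hom = (ρ g).hom.left :=
  pullback.lift_snd _ _ _

/-- the morphism from `G` copies of `Y` to `Y ×_X Y` -/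
noncomputable def ups : (∐ fun _ : G => Y.left) ⟶ pullback Y.hom Y.hom := Sigma.desc (comp Y ρ)

@[reassoc]
theorem ι_ups (g : G) : Sigma.ι (fun _ : G => Y.left) g ≫ ups Y ρ = comp Y ρ g :=
  Sigma.ι_desc _ _

/-- a field-valued point of a coproduct lies in one of the summands -/
theorem exists_factor {ι : Type u} (Z : ι → Scheme.{u}) {K : Type u} [Field K]
    (a : Spec (CommRingCat.of K) ⟶ ∐ Z) :
    ∃ (i : ι) (a' : Spec (CommRingCat.of K) ⟶ Z i), a' ≫ Sigma.ι Z i = a := by
  let pt : Spec (CommRingCat.of K) := ⟨⊥, Ideal.isPrime_bot⟩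
  obtain ⟨i, y, hy⟩ := (sigmaOpenCover Z).exists_eq (a pt)
  have hsub : Set.range a.base ⊆ Set.range (Sigma.ι Z i).base := by
    rintro _ ⟨s, rfl⟩
    have hs : s = pt := by
      apply PrimeSpectrum.ext
      change s.asIdeal = ⊥
      exact (Ideal.eq_bot_or_top s.asIdeal).resolve_right s.isPrime.ne_top
    rw [hs]
    exact ⟨y, hy⟩
  exact ⟨i, IsOpenImmersion.lift (Sigma.ι Z i) a hsub, IsOpenImmersion.lift_fac _ _ _⟩

section free

variable (hfree : ∀ g : G, g ≠ 1 → ∀ (K : Type u) [Field K] (y : Spec (CommRingCat.of K) ⟶ Y.left),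
      y ≫ (ρ g).hom.left ≠ y)

include hfree in
theorem eq_of_comp_eq {K : Type u} [Field K] (y : Spec (CommRingCat.of K) ⟶ Y.left) (g h : G)
    (hgh : y ≫ (ρ g).hom.left = y ≫ (ρ h).hom.left) : g = h := by
  by_contra hne
  have h1 : h⁻¹ * g ≠ 1 := by
    intro h1
    apply hne
    have := congrArg (fun t => h * t) h1
    simpa using this
  apply hfree (h⁻¹ * g) h1 K y
  rw [left_mul, ← Category.assoc, hgh, Category.assoc, left_inv_left, Category.comp_id]

include hfree in
/-- `ups` is injective on field-valued points -/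
theorem ups_injective_on_points (K : Type u) [Field K] :
    Function.Injective (fun a : Spec (CommRingCat.of K) ⟶ ∐ fun _ : G => Y.left => a ≫ ups Y ρ) := by
  intro a b hab
  change a ≫ ups Y ρ = b ≫ ups Y ρ at hab
  obtain ⟨g, a', rfl⟩ := exists_factor (fun _ : G => Y.left) a
  obtain ⟨h, b', rfl⟩ := exists_factor (fun _ : G => Y.left) b
  rw [Category.assoc, Category.assoc, ι_ups, ι_ups] at hab
  have h1 : a' = b' := by
    have := congrArg (fun t => t ≫ pullback.fst Y.hom Y.hom) hab
    simpa only [Category.assoc, comp_fst, Category.comp_id] using this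
  subst h1
  have h2 : a' ≫ (ρ g).hom.left = a' ≫ (ρ h).hom.left := by
    have := congrArg (fun t => t ≫ pullback.snd Y.hom Y.hom) hab
    simpa only [Category.assoc, comp_snd] using this
  have h3 : g = h := eq_of_comp_eq Y ρ hfree a' g h h2
  subst h3
  rfl

theorem etale_comp (g : G) : Etale (comp Y ρ g) := by
  haveI : Etale Y.hom := Y.prop.2
  have h1 : Etale (pullback.fst Y.hom Y.hom) := inferInstance
  have h2 : Etale (comp Y ρ g ≫ pullback.fst Y.hom Y.hom) := by
    rw [comp_fst]; infer_instance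
  exact MorphismProperty.of_postcomp (W := @Etale) (W' := @Etale) (comp Y ρ g)
    (pullback.fst Y.hom Y.hom) h1 h2

theorem etale_ups : Etale (ups Y ρ) :=
  IsZariskiLocalAtSource.sigmaDesc (P := @Etale) (fun g => etale_comp Y ρ g)

include hfree in
theorem mono_ups : Mono (ups Y ρ) := by
  haveI := etale_ups Y ρ
  have hsurj : Surjective (pullback.diagonal (ups Y ρ)) :=
    ((tfae_universallyInjective (ups Y ρ)).out 1 3).1 (ups_injective_on_points Y ρ hfree)
  haveI : IsIso (pullback.diagonal (ups Y ρ)) :=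
    (isIso_iff_isOpenImmersion_and_surjective _).2 ⟨inferInstance, hsurj⟩
  exact (pullback.isIso_diagonal_iff (ups Y ρ)).1 inferInstance

include hfree in
theorem isIso_ups_of_surjective (hs : Surjective (ups Y ρ)) : IsIso (ups Y ρ) := by
  haveI := etale_ups Y ρ
  haveI := mono_ups Y ρ hfree
  haveI := IsOpenImmersion.of_flat_of_mono (ups Y ρ)
  exact (isIso_iff_isOpenImmersion_and_surjective _).2 ⟨inferInstance, hs⟩

/-- the orbit map on geometric fibres -/
noncomputable def orbit {Ω : Type u} [Field Ω] (s : Spec (CommRingCat.of Ω) ⟶ Y.left) (g : G) :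
    FEt.fiberObj (s ≫ Y.hom) Y :=
  ⟨s ≫ (ρ g).hom.left, by rw [Category.assoc, left_w]⟩

include hfree in
theorem orbit_injective {Ω : Type u} [Field Ω] (s : Spec (CommRingCat.of Ω) ⟶ Y.left) :
    Function.Injective (orbit Y ρ s) := by
  intro g h hgh
  exact eq_of_comp_eq Y ρ hfree s g h (congrArg Subtype.val hgh)

theorem finite_fiber {Ω : Type u} [Field Ω] (ξ : Spec (CommRingCat.of Ω) ⟶ X) :
    Finite (FEt.fiberObj ξ Y) := by
  haveI : IsFinite Y.hom := Y.prop.1
  exact Groth.Agent.Lib.Helper27FEtFib.finite_fiber Y.hom ξ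

/-- if `ups` is an isomorphism, the orbit maps are surjective -/
theorem orbit_surjective_of_isIso [IsIso (ups Y ρ)] {Ω : Type u} [Field Ω]
    (s : Spec (CommRingCat.of Ω) ⟶ Y.left) : Function.Surjective (orbit Y ρ s) := by
  intro t
  let c : Spec (CommRingCat.of Ω) ⟶ pullback Y.hom Y.hom := pullback.lift s t.1 t.2.symm
  obtain ⟨g, a', ha'⟩ := exists_factor (fun _ : G => Y.left) (c ≫ inv (ups Y ρ))
  have h1 : a' ≫ comp Y ρ g = c := by
    rw [← ι_ups, ← Category.assoc, ha', Category.assoc, IsIso.inv_hom_id, Category.comp_id]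
  have h2 : a' = s := by
    have := congrArg (fun t => t ≫ pullback.fst Y.hom Y.hom) h1
    simpa only [Category.assoc, comp_fst, Category.comp_id, c, pullback.lift_fst] using this
  have h3 : a' ≫ (ρ g).hom.left = t.1 := by
    have := congrArg (fun t => t ≫ pullback.snd Y.hom Y.hom) h1
    simpa only [Category.assoc, comp_snd, c, pullback.lift_snd] using this
  subst h2
  exact ⟨g, Subtype.ext h3⟩

/-- if the orbit maps on geometric fibres are surjective, then `ups` is surjective -/
theorem surjective_ups_of_orbit_surjective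
    (H : ∀ (Ω : Type u) [Field Ω] [IsAlgClosed Ω] (s : Spec (CommRingCat.of Ω) ⟶ Y.left),
      Function.Surjective (orbit Y ρ s)) : Surjective (ups Y ρ) := by
  refine ⟨fun z => ?_⟩
  let P : Scheme.{u} := pullback Y.hom Y.hom
  let κ := P.residueField z
  let Ω := AlgebraicClosure κ
  let t : Spec (CommRingCat.of Ω) ⟶ P :=
    Spec.map (CommRingCat.ofHom (algebraMap κ Ω)) ≫ P.fromSpecResidueField z
  obtain ⟨g, hg⟩ := H Ω (t ≫ pullback.fst Y.hom Y.hom)
    ⟨t ≫ pullback.snd Y.hom Y.hom, by
      simp only [Category.assoc]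
      rw [pullback.condition]⟩
  have hg' : (t ≫ pullback.fst Y.hom Y.hom) ≫ (ρ g).hom.left = t ≫ pullback.snd Y.hom Y.hom :=
    congrArg Subtype.val hg
  have ht : (t ≫ pullback.fst Y.hom Y.hom) ≫ comp Y ρ g = t := by
    apply pullback.hom_ext
    · rw [Category.assoc, comp_fst]
      exact Category.comp_id _
    · rw [Category.assoc, comp_snd, hg']
  let pt : Spec (CommRingCat.of Ω) := ⟨⊥, Ideal.isPrime_bot⟩
  have hz : t pt = z := by
    change (Spec.map (CommRingCat.ofHom (algebraMap κ Ω)) ≫ P.fromSpecResidueField z) pt = z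
    rw [Scheme.Hom.comp_apply, Scheme.fromSpecResidueField_apply]
  refine ⟨(Sigma.ι (fun _ : G => Y.left) g) ((t ≫ pullback.fst Y.hom Y.hom) pt), ?_⟩
  have h5 : (t ≫ pullback.fst Y.hom Y.hom) ≫ Sigma.ι (fun _ : G => Y.left) g ≫ ups Y ρ = t := by
    rw [ι_ups, ht]
  rw [← Scheme.Hom.comp_apply, ← Scheme.Hom.comp_apply]
  exact (congrArg (fun f : Spec (CommRingCat.of Ω) ⟶ P => f pt) h5).trans hz

end free

end Groth.Agent.Lib.T2H7.FreeAction
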