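import Groth.Agent.Lib.T2H7FreeDiagA
import Groth.Agent.Lib.T2H7MultActCore
import Groth.Agent.Lib.T2H7DiagHomA
import Groth.Prelude.Def_ChGrp

/-!
An action of a diagonalisable group `D_S(M)` on an `S`-scheme `X` with `X` affine, read as a
coaction `ρ : A → A[M]` on `A = Γ(X)`.
-/

set_option autoImplicit false
set_option linter.unusedSectionVars false
set_option linter.unusedVariables false
set_option linter.style.haveILetI false
universe u
open CategoryTheory CategoryTheory.Limits MonoidalCategory CartesianMonoidalCategory MonObj GrpObj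
  AlgebraicGeometry

namespace Groth.Agent.Lib.T2H7.FreeDiagB

open Groth.Agent.Lib.T2H3.MultGa Groth.Agent.Lib.T2H7.MultActAlg Groth.Agent.Lib.T2H7.MultActCore
  Groth.Agent.Lib.Helper27.GaGm Groth.Agent.Lib.T2H7.FreeDiagA Groth.Agent.Lib.T2H7.DiagHomA
  Groth.Agent.Lib.T2H7.DiagDS

section Pts

variable {S : Scheme.{u}} {M : Type} [AddCommGroup M] (X : Over S) [IsAffine X.left]

/-- the whole of `X` as an affine open. -/
theorem hTop : IsAffineOpen (⊤ : X.left.Opens) := isAffineOpen_top X.left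

variable {X}

theorem fromSpec_appTop (s : Γ(X.left, ⊤)) :
    (hTop X).fromSpec.appTop s = toG s := by
  have h0 : (hTop X).fromSpec = X.left.isoSpec.inv := IsAffineOpen.fromSpec_top
  rw [h0]
  have h1 : X.left.isoSpec.inv.appTop = (Scheme.ΓSpecIso Γ(X.left, ⊤)).inv := by
    have h2 : X.left.isoSpec.hom.appTop ≫ X.left.isoSpec.inv.appTop = 𝟙 _ := by
      rw [← Scheme.Hom.comp_appTop, Iso.inv_hom_id]
      rfl
    rw [Scheme.isoSpec_hom, Scheme.toSpecΓ_appTop] at h2
    exact (Iso.hom_comp_eq_id _).1 h2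
  rw [h1]
  rfl

variable {B : Type u} [CommRing B]

theorem bp_appTop (x : Γ(X.left, ⊤) →+* B) (s : Γ(X.left, ⊤)) :
    (bp (hTop X) x).left.appTop s = toG (x s) := by
  rw [bp_left, Scheme.Hom.comp_appTop]
  show (Spec.map (CommRingCat.ofHom x)).appTop ((hTop X).fromSpec.appTop s) = _
  rw [fromSpec_appTop, specMap_appTop_toG]

/-- a morphism from an affine scheme to `X` in terms of its ring map. -/
theorem left_eq (t : Spec (CommRingCat.of B) ⟶ X.left) (x : Γ(X.left, ⊤) →+* B)
    (h : ∀ s, t.appTop s = toG (x s)) :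
    t = Spec.map (CommRingCat.ofHom x) ≫ (hTop X).fromSpec := by
  apply ext_of_isAffine
  refine CommRingCat.hom_ext (RingHom.ext fun s => ?_)
  rw [Scheme.Hom.comp_appTop]
  show t.appTop s = (Spec.map (CommRingCat.ofHom x)).appTop ((hTop X).fromSpec.appTop s)
  rw [fromSpec_appTop, specMap_appTop_toG, h]

/-- the ring map of a morphism from an affine scheme to `X`. -/
noncomputable def ringOf (t : Spec (CommRingCat.of B) ⟶ X.left) : Γ(X.left, ⊤) →+* B :=
  (Scheme.ΓSpecIso (CommRingCat.of B)).hom.hom.comp t.appTop.hom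

theorem toG_ringOf (t : Spec (CommRingCat.of B) ⟶ X.left) (s : Γ(X.left, ⊤)) :
    toG (ringOf t s) = t.appTop s := toG_ofG _

theorem left_eq_ringOf (t : Spec (CommRingCat.of B) ⟶ X.left) :
    t = Spec.map (CommRingCat.ofHom (ringOf t)) ≫ (hTop X).fromSpec :=
  left_eq t (ringOf t) (fun s => (toG_ringOf t s).symm)

theorem ringOf_comp (x : Γ(X.left, ⊤) →+* B) :
    ringOf (Spec.map (CommRingCat.ofHom x) ≫ (hTop X).fromSpec) = x := by
  refine RingHom.ext fun s => ?_
  apply toG_injective
  rw [toG_ringOf, Scheme.Hom.comp_appTop]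
  show (Spec.map (CommRingCat.ofHom x)).appTop ((hTop X).fromSpec.appTop s) = _
  rw [fromSpec_appTop, specMap_appTop_toG]

theorem specMap_inj (x y : Γ(X.left, ⊤) →+* B)
    (h : Spec.map (CommRingCat.ofHom x) ≫ (hTop X).fromSpec =
      Spec.map (CommRingCat.ofHom y) ≫ (hTop X).fromSpec) : x = y :=
  congrArg CommRingCat.Hom.hom (specMap_fromSpec_inj (hTop X) _ _ h)

/-- characters on `Spec B` with prescribed values. -/
theorem exists_gpt (x : Γ(X.left, ⊤) →+* B) (g : Multiplicative M →* B) :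
    ∃ j : obj (hTop X) x ⟶ Red.DS S M,
      ∀ m : Multiplicative M, dsFn j (MonoidAlgebra.single m 1) = toG (g m) := by
  let f : ULift.{u} ℤ →+* B := (Int.castRingHom B).comp (ULift.ringEquiv.toRingHom)
  let ψ : MonoidAlgebra (ULift.{u} ℤ) (Multiplicative M) →+* Γ((obj (hTop X) x).left, ⊤) :=
    ((Scheme.ΓSpecIso (CommRingCat.of B)).inv.hom).comp (MultActAlg.ext f g)
  obtain ⟨j, hj⟩ := exists_dsPt (T := S) (M := M) (Y := obj (hTop X) x) ψ
  refine ⟨j, fun m => ?_⟩
  rw [hj]
  change toG (MultActAlg.ext f g (MonoidAlgebra.single m 1)) = _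
  rw [ext_single, map_one, _root_.one_mul]

/-- the chosen character. -/
noncomputable def gpt (x : Γ(X.left, ⊤) →+* B) (g : Multiplicative M →* B) :
    obj (hTop X) x ⟶ Red.DS S M := (exists_gpt x g).choose

theorem dsFn_gpt (x : Γ(X.left, ⊤) →+* B) (g : Multiplicative M →* B) (m : Multiplicative M) :
    dsFn (gpt (S := S) x g) (MonoidAlgebra.single m 1) = toG (g m) :=
  (exists_gpt x g).choose_spec m

theorem gpt_mul (x : Γ(X.left, ⊤) →+* B) (g h : Multiplicative M →* B) :
    gpt (S := S) x (g * h) = gpt x g * gpt x h := by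
  apply ds_ext
  intro m
  rw [dsFn_mul_single, dsFn_gpt, dsFn_gpt, dsFn_gpt, MonoidHom.mul_apply]
  exact toG_mul _ _

theorem gpt_one (x : Γ(X.left, ⊤) →+* B) :
    gpt (S := S) x (1 : Multiplicative M →* B) = 1 := by
  apply ds_ext
  intro m
  rw [dsFn_gpt, dsFn_one_pt, MonoidHom.one_apply]
  exact map_one (Scheme.ΓSpecIso _).inv.hom

end Pts

section Act

variable {S : Scheme.{u}} {M : Type} [AddCommGroup M] {X : Over S} [IsAffine X.left]
  (a : AlgGrp.Action (Red.DS S M) X)

/-- the inclusion `A → A[M]`. -/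
noncomputable abbrev x₀ : Γ(X.left, ⊤) →+* MonoidAlgebra Γ(X.left, ⊤) (Multiplicative M) :=
  MonoidAlgebra.singleOneRingHom

/-- the universal character. -/
noncomputable abbrev g₀ : Multiplicative M →* MonoidAlgebra Γ(X.left, ⊤) (Multiplicative M) :=
  MonoidAlgebra.of Γ(X.left, ⊤) (Multiplicative M)

/-- the universal point of `D_S(M) × X`. -/
noncomputable def upt : obj (hTop X) (x₀ (M := M) (X := X)) ⟶ Red.DS S M ⊗ X :=
  lift (gpt (S := S) (x₀ (M := M) (X := X)) (g₀ (M := M) (X := X)))
    (bp (hTop X) (x₀ (M := M) (X := X)))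

/-- the coaction attached to the action. -/
noncomputable def rho : Γ(X.left, ⊤) →+* MonoidAlgebra Γ(X.left, ⊤) (Multiplicative M) :=
  ringOf (upt (M := M) (X := X) ≫ a.act).left

theorem upt_act_left :
    (upt (M := M) (X := X) ≫ a.act).left =
      Spec.map (CommRingCat.ofHom (rho a)) ≫ (hTop X).fromSpec :=
  left_eq_ringOf _

variable {B : Type u} [CommRing B]

/-- evaluation, with explicit types. -/
noncomputable abbrev evX (x : Γ(X.left, ⊤) →+* B) (g : Multiplicative M →* B) :
    MonoidAlgebra Γ(X.left, ⊤) (Multiplicative M) →+* B :=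
  FreeDiagA.ev (A := Γ(X.left, ⊤)) (G := Multiplicative M) x g

theorem evX_single (x : Γ(X.left, ⊤) →+* B) (g : Multiplicative M →* B) (m : Multiplicative M)
    (c : Γ(X.left, ⊤)) : evX x g (MonoidAlgebra.single m c) = x c * g m :=
  FreeDiagA.ev_single (A := Γ(X.left, ⊤)) (G := Multiplicative M) x g m c

theorem ev_comp_x₀ (x : Γ(X.left, ⊤) →+* B) (g : Multiplicative M →* B) :
    (evX x g).comp (x₀ (M := M) (X := X)) = x := by
  refine RingHom.ext fun s => ?_
  show evX x g (MonoidAlgebra.single 1 s) = x s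
  rw [evX_single, map_one, _root_.mul_one]

/-- the action on ring-level points. -/
noncomputable abbrev actX (x : Γ(X.left, ⊤) →+* B) (g : Multiplicative M →* B) :
    Γ(X.left, ⊤) →+* B :=
  FreeDiagA.act (A := Γ(X.left, ⊤)) (G := Multiplicative M) (rho a) x g

/-- the points formula on the standard points. -/
theorem act_std (x : Γ(X.left, ⊤) →+* B) (g : Multiplicative M →* B) :
    (lift (gpt (S := S) x g) (bp (hTop X) x) ≫ a.act).left =
      Spec.map (CommRingCat.ofHom (actX a x g)) ≫ (hTop X).fromSpec := by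
  have hθ := obj_hom_of_comp (hTop X) (x₀ (M := M) (X := X)) x (evX x g) (ev_comp_x₀ x g)
  let θ : obj (hTop X) x ⟶ obj (hTop X) (x₀ (M := M) (X := X)) := mor (hTop X) (evX x g) hθ
  have h1 : θ ≫ bp (hTop X) (x₀ (M := M) (X := X)) = bp (hTop X) x :=
    mor_bp (hTop X) (x₀ (M := M) (X := X)) x (evX x g) (ev_comp_x₀ x g) hθ
  have h2 : θ ≫ gpt (S := S) (x₀ (M := M) (X := X)) (g₀ (M := M) (X := X)) = gpt x g := by
    apply ds_ext
    intro m
    rw [dsFn_mor (ζ₁ := x₀ (M := M) (X := X)) (ζ₂ := x) (hTop X) (evX x g) hθ _ _ _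
      (dsFn_gpt (x₀ (M := M) (X := X)) (g₀ (M := M) (X := X)) m), dsFn_gpt]
    congr 1
    show evX x g (MonoidAlgebra.single m 1) = g m
    rw [evX_single, map_one, _root_.one_mul]
  have h3 : lift (gpt (S := S) x g) (bp (hTop X) x) = θ ≫ upt := by
    unfold upt
    rw [comp_lift, h1, h2]
  rw [h3, Category.assoc, Over.comp_left, upt_act_left, mor_left]
  show Spec.map (CommRingCat.ofHom (evX x g)) ≫ Spec.map (CommRingCat.ofHom (rho a)) ≫
    (hTop X).fromSpec = Spec.map (CommRingCat.ofHom (actX a x g)) ≫ (hTop X).fromSpec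
  rw [← Category.assoc, ← Spec.map_comp]
  rfl

/-- the character of a point of `D_S(M)` with values in an affine scheme. -/
noncomputable def charOf {t : Spec (CommRingCat.of B) ⟶ S} (j : Over.mk t ⟶ Red.DS S M) :
    Multiplicative M →* B :=
  { toFun := fun m => ofG (dsFn j (MonoidAlgebra.single m 1))
    map_one' := by
      have h6 : dsFn j (MonoidAlgebra.single (1 : Multiplicative M) 1) = 1 := by
        rw [← MonoidAlgebra.one_def, dsFn_one]
      exact (congrArg ofG h6).trans ofG_one
    map_mul' := fun m m' => by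
      have h6 : dsFn j (MonoidAlgebra.single (m * m') 1) =
          dsFn j (MonoidAlgebra.single m 1) * dsFn j (MonoidAlgebra.single m' 1) := by
        rw [← dsFn_mul, MonoidAlgebra.single_mul_single, _root_.one_mul]
      exact (congrArg ofG h6).trans (ofG_mul _ _) }

theorem toG_charOf {t : Spec (CommRingCat.of B) ⟶ S} (j : Over.mk t ⟶ Red.DS S M)
    (m : Multiplicative M) : toG (charOf j m) = dsFn j (MonoidAlgebra.single m 1) :=
  toG_ofG _

theorem charOf_gpt (x : Γ(X.left, ⊤) →+* B) (g : Multiplicative M →* B) :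
    charOf (gpt (S := S) x g) = g := by
  refine MonoidHom.ext fun m => ?_
  apply toG_injective
  rw [toG_charOf]
  exact dsFn_gpt x g m

/-- the points formula on arbitrary points with values in an affine scheme. -/
theorem act_gen {t : Spec (CommRingCat.of B) ⟶ S} (j : Over.mk t ⟶ Red.DS S M)
    (y : Over.mk t ⟶ X) :
    (lift j y ≫ a.act).left =
      Spec.map (CommRingCat.ofHom (actX a (ringOf y.left) (charOf j))) ≫ (hTop X).fromSpec := by
  have hκ : 𝟙 (Spec (CommRingCat.of B)) ≫ (obj (hTop X) (ringOf y.left)).hom = t := by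
    rw [Category.id_comp]
    show Spec.map (CommRingCat.ofHom (ringOf y.left)) ≫ (hTop X).fromSpec ≫ X.hom = t
    rw [← Category.assoc, ← left_eq_ringOf]
    exact Over.w y
  let κ : Over.mk t ⟶ obj (hTop X) (ringOf y.left) := Over.homMk (𝟙 _) hκ
  have h1 : κ ≫ bp (hTop X) (ringOf y.left) = y := by
    apply Over.OverMorphism.ext
    show 𝟙 _ ≫ Spec.map (CommRingCat.ofHom (ringOf y.left)) ≫ (hTop X).fromSpec = y.left
    rw [Category.id_comp, ← left_eq_ringOf]
  have h2 : κ ≫ gpt (S := S) (ringOf y.left) (charOf j) = j := by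
    apply ds_ext
    intro m
    rw [dsFn_comp, dsFn_gpt, toG_charOf]
    show (Scheme.Hom.appTop (𝟙 (Spec (CommRingCat.of B)))).hom _ = _
    simp
  have h3 : lift j y = κ ≫ lift (gpt (S := S) (ringOf y.left) (charOf j))
      (bp (hTop X) (ringOf y.left)) := by
    rw [comp_lift, h1, h2]
  rw [h3, Category.assoc, Over.comp_left, act_std]
  exact Category.id_comp _

end Act

section Axioms

variable {S : Scheme.{u}} {M : Type} [AddCommGroup M] {X : Over S} [IsAffine X.left]
  (a : AlgGrp.Action (Red.DS S M) X)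

theorem isCoact_rho :
    FreeDiagA.IsCoact (A := Γ(X.left, ⊤)) (G := Multiplicative M) (rho a) := by
  constructor
  · intro s
    have h1 : lift (gpt (S := S) (RingHom.id Γ(X.left, ⊤)) (1 : Multiplicative M →* _))
        (bp (hTop X) (RingHom.id Γ(X.left, ⊤))) ≫ a.act = bp (hTop X) (RingHom.id _) := by
      rw [gpt_one]
      exact AlgGrp.Action.lift_one_act a _
    have h2 : (lift (gpt (S := S) (RingHom.id Γ(X.left, ⊤)) (1 : Multiplicative M →* _))
        (bp (hTop X) (RingHom.id Γ(X.left, ⊤))) ≫ a.act).left =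
        (bp (hTop X) (RingHom.id Γ(X.left, ⊤))).left := by rw [h1]
    rw [act_std, bp_left] at h2
    have h3 := specMap_inj _ _ h2
    exact congrArg (fun k : _ →+* _ => k s) h3
  · intro B _ x g h
    apply specMap_inj
    have e1 : (lift (gpt (S := S) x g) (lift (gpt (S := S) x h) (bp (hTop X) x) ≫ a.act) ≫
        a.act).left = Spec.map (CommRingCat.ofHom (actX a
          (ringOf (lift (gpt (S := S) x h) (bp (hTop X) x) ≫ a.act).left)
          (charOf (gpt (S := S) x g)))) ≫ (hTop X).fromSpec :=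
      act_gen a (gpt (S := S) x g) (lift (gpt (S := S) x h) (bp (hTop X) x) ≫ a.act)
    have e2 : ringOf (lift (gpt (S := S) x h) (bp (hTop X) x) ≫ a.act).left = actX a x h := by
      rw [act_std, ringOf_comp]
    rw [charOf_gpt, e2] at e1
    have e3 := act_std a x (g * h)
    rw [gpt_mul, AlgGrp.Action.lift_mul_act] at e3
    exact e3.symm.trans e1

theorem isFree_rho
    (hfree : ∀ (Y : Over S) (g : Y ⟶ Red.DS S M) (x : Y ⟶ X), lift g x ≫ a.act = x → g = 1) :
    FreeDiagA.IsFree (A := Γ(X.left, ⊤)) (G := Multiplicative M) (rho a) := by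
  intro B _ x g hx m
  have h1 : lift (gpt (S := S) x g) (bp (hTop X) x) ≫ a.act = bp (hTop X) x := by
    apply Over.OverMorphism.ext
    have hx' : actX a x g = x := hx
    rw [act_std, bp_left, hx']
  have h2 := hfree _ _ _ h1
  apply toG_injective
  rw [← dsFn_gpt (S := S) x g m, h2, dsFn_one_pt]
  exact (map_one (Scheme.ΓSpecIso _).inv.hom).symm

end Axioms

end Groth.Agent.Lib.T2H7.FreeDiagB
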