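import Groth.Agent.Lib.T2H7FreeDiagB

/-!
The product `D_S(M) × X` for `X` affine is `Spec A[M]`, and the graph morphism of a free action of
`D_S(M)` on an affine `X` is a closed immersion.
-/

set_option autoImplicit false
set_option linter.unusedSectionVars false
set_option linter.unusedVariables false
set_option linter.style.haveILetI false
universe u
open CategoryTheory CategoryTheory.Limits MonoidalCategory CartesianMonoidalCategory MonObj GrpObj
  AlgebraicGeometry

namespace Groth.Agent.Lib.T2H7.FreeDiagC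

open Groth.Agent.Lib.T2H3.MultGa Groth.Agent.Lib.T2H7.MultActAlg Groth.Agent.Lib.T2H7.MultActCore
  Groth.Agent.Lib.Helper27.GaGm Groth.Agent.Lib.T2H7.FreeDiagA Groth.Agent.Lib.T2H7.DiagHomA
  Groth.Agent.Lib.T2H7.DiagDS Groth.Agent.Lib.T2H7.FreeDiagB

section Iso

variable {S : Scheme.{u}} (M : Type) [AddCommGroup M] (X : Over S) [IsAffine X.left]

/-- the characters of `D_S(M)` as functions on `D_S(M) × X`. -/
noncomputable def chi : Multiplicative M →* Γ((Red.DS S M ⊗ X).left, ⊤) :=
  { toFun := fun m => dsFn (fst (Red.DS S M) X) (MonoidAlgebra.single m 1)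
    map_one' := by
      rw [← MonoidAlgebra.one_def, dsFn_one]
    map_mul' := fun m m' => by
      rw [← dsFn_mul, MonoidAlgebra.single_mul_single, _root_.one_mul] }

/-- the ring map `A[M] → Γ(D_S(M) × X)`. -/
noncomputable def Phi : MonoidAlgebra Γ(X.left, ⊤) (Multiplicative M) →+*
    Γ((Red.DS S M ⊗ X).left, ⊤) :=
  MultActAlg.ext (snd (Red.DS S M) X).left.appTop.hom (chi M X)

theorem Phi_single (m : Multiplicative M) (s : Γ(X.left, ⊤)) :
    Phi M X (MonoidAlgebra.single m s) =
      (snd (Red.DS S M) X).left.appTop s * dsFn (fst (Red.DS S M) X) (MonoidAlgebra.single m 1) :=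
  ext_single _ _ _ _

theorem exists_inv :
    ∃ φl : (Red.DS S M ⊗ X).left ⟶
        Spec (CommRingCat.of (MonoidAlgebra Γ(X.left, ⊤) (Multiplicative M))),
      φl ≫ Spec.map (CommRingCat.ofHom (x₀ (M := M) (X := X))) ≫ (hTop X).fromSpec =
        (snd (Red.DS S M) X).left ∧ ∀ f, fn φl f = Phi M X f := by
  obtain ⟨φl, hφl⟩ := fn_surj (Phi M X)
  refine ⟨φl, ?_, hφl⟩
  apply ext_of_isAffine
  refine CommRingCat.hom_ext (RingHom.ext fun s => ?_)
  rw [Scheme.Hom.comp_appTop, Scheme.Hom.comp_appTop]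
  show φl.appTop ((Spec.map (CommRingCat.ofHom (x₀ (M := M) (X := X)))).appTop
    ((hTop X).fromSpec.appTop s)) = _
  rw [fromSpec_appTop, specMap_appTop_toG, ← fn_eq_appTop_toG, hφl]
  show Phi M X (MonoidAlgebra.single 1 s) = _
  rw [Phi_single, ← MonoidAlgebra.one_def, dsFn_one, _root_.mul_one]

theorem isIso_upt : IsIso (upt (S := S) (M := M) (X := X)) := by
  obtain ⟨φl, c1, hφ⟩ := exists_inv M X
  have hw : φl ≫ (obj (hTop X) (x₀ (M := M) (X := X))).hom = (Red.DS S M ⊗ X).hom := by
    show φl ≫ Spec.map (CommRingCat.ofHom (x₀ (M := M) (X := X))) ≫ (hTop X).fromSpec ≫ X.hom = _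
    rw [← Category.assoc, ← Category.assoc, Category.assoc φl, c1]
    exact Over.w (snd (Red.DS S M) X)
  let φ : Red.DS S M ⊗ X ⟶ obj (hTop X) (x₀ (M := M) (X := X)) := Over.homMk φl hw
  have hfst : upt (S := S) (M := M) (X := X) ≫ fst _ _ =
      gpt (S := S) (x₀ (M := M) (X := X)) (g₀ (M := M) (X := X)) := by
    unfold upt
    rw [lift_fst]
  have hsnd : upt (S := S) (M := M) (X := X) ≫ snd _ _ =
      bp (hTop X) (x₀ (M := M) (X := X)) := by
    unfold upt
    rw [lift_snd]
  let ul : Spec (CommRingCat.of (MonoidAlgebra Γ(X.left, ⊤) (Multiplicative M))) ⟶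
      (Red.DS S M ⊗ X).left := (upt (S := S) (M := M) (X := X)).left
  have hul_snd : ∀ s, ul.appTop ((snd (Red.DS S M) X).left.appTop s) =
      toG (MonoidAlgebra.single (1 : Multiplicative M) s) := by
    intro s
    have h1 := bp_appTop (x₀ (M := M) (X := X)) s
    rw [← hsnd, Over.comp_left, Scheme.Hom.comp_appTop] at h1
    exact h1
  have hul_fst : ∀ m : Multiplicative M,
      ul.appTop (dsFn (fst (Red.DS S M) X) (MonoidAlgebra.single m 1)) =
      toG (MonoidAlgebra.single m (1 : Γ(X.left, ⊤))) := by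
    intro m
    have h1 := dsFn_gpt (S := S) (x₀ (M := M) (X := X)) (g₀ (M := M) (X := X)) m
    rw [← hfst, dsFn_comp] at h1
    exact h1
  refine ⟨φ, ?_, ?_⟩
  · apply Over.OverMorphism.ext
    show ul ≫ φl = 𝟙 (Spec (CommRingCat.of (MonoidAlgebra Γ(X.left, ⊤) (Multiplicative M))))
    apply fn_ext
    intro f
    have key : fnHom (ul ≫ φl) =
        fnHom (𝟙 (Spec (CommRingCat.of (MonoidAlgebra Γ(X.left, ⊤) (Multiplicative M))))) := by
      apply MonoidAlgebra.ringHom_ext
      · intro s
        rw [← fn_eq, ← fn_eq, fn_comp, hφ, Phi_single, ← MonoidAlgebra.one_def, dsFn_one,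
          _root_.mul_one, ← toG_eq_fn_id, hul_snd]
      · intro m
        rw [← fn_eq, ← fn_eq, fn_comp, hφ, Phi_single, map_one, _root_.one_mul, ← toG_eq_fn_id,
          hul_fst]
    rw [fn_eq, fn_eq, key]
  · apply CartesianMonoidalCategory.hom_ext
    · rw [Category.assoc, hfst, Category.id_comp]
      apply ds_ext
      intro m
      rw [dsFn_comp, dsFn_gpt]
      show φl.appTop (toG (MonoidAlgebra.single m (1 : Γ(X.left, ⊤)))) = _
      rw [← fn_eq_appTop_toG, hφ, Phi_single, map_one, _root_.one_mul]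
    · rw [Category.assoc, hsnd, Category.id_comp]
      apply Over.OverMorphism.ext
      exact c1

end Iso

section Graph

variable {S : Scheme.{u}} {M : Type} [AddCommGroup M] {X : Over S} [IsAffine X.left]
  (a : AlgGrp.Action (Red.DS S M) X)

theorem isAffine_prod [IsAffineHom X.hom] : IsAffine (X ⊗ X).left := by
  have h1 : IsAffineHom (pullback.fst X.hom X.hom) :=
    MorphismProperty.pullback_fst (P := @IsAffineHom) _ _ inferInstance
  exact isAffine_of_isAffineHom (pullback.fst X.hom X.hom)

/-- the graph of a free action of `D_S(M)` on an affine `X` is a closed immersion. -/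
theorem isClosedImmersion_graph [IsAffineHom X.hom]
    (hfree : ∀ (Y : Over S) (g : Y ⟶ Red.DS S M) (x : Y ⟶ X), lift g x ≫ a.act = x → g = 1) :
    IsClosedImmersion (lift a.act (snd (Red.DS S M) X)).left := by
  have hco := isCoact_rho a
  have hfr : FreeDiagA.IsFree (A := Γ(X.left, ⊤)) (G := Multiplicative M) (rho a) :=
    isFree_rho a hfree
  haveI := isIso_upt (S := S) M X
  haveI : IsAffine (X ⊗ X).left := isAffine_prod
  let Γ' : obj (hTop X) (x₀ (M := M) (X := X)) ⟶ X ⊗ X :=
    upt (S := S) (M := M) (X := X) ≫ lift a.act (snd (Red.DS S M) X)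
  have hΓfst : Γ' ≫ fst X X = upt (S := S) (M := M) (X := X) ≫ a.act := by
    show (upt ≫ lift a.act (snd (Red.DS S M) X)) ≫ fst X X = _
    rw [Category.assoc, lift_fst]
  have hΓsnd : Γ' ≫ snd X X = bp (hTop X) (x₀ (M := M) (X := X)) := by
    show (upt ≫ lift a.act (snd (Red.DS S M) X)) ≫ snd X X = _
    rw [Category.assoc, lift_snd]
    unfold upt
    rw [lift_snd]
  let gl : Spec (CommRingCat.of (MonoidAlgebra Γ(X.left, ⊤) (Multiplicative M))) ⟶
      (X ⊗ X).left := Γ'.left
  have hsurj : Function.Surjective gl.appTop.hom := by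
    let E : Subring (MonoidAlgebra Γ(X.left, ⊤) (Multiplicative M)) :=
      (RingHom.range gl.appTop.hom).comap (Scheme.ΓSpecIso (CommRingCat.of
        (MonoidAlgebra Γ(X.left, ⊤) (Multiplicative M)))).inv.hom
    have hE : ∀ f, f ∈ E ↔ ∃ t, gl.appTop.hom t = toG f := by
      intro f
      rfl
    have h1 : ∀ s, rho a s ∈ E := by
      intro s
      rw [hE]
      refine ⟨(fst X X).left.appTop s, ?_⟩
      have h2 : toG (rho a s) = (upt (S := S) (M := M) (X := X) ≫ a.act).left.appTop s :=
        toG_ringOf _ s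
      rw [h2, ← hΓfst, Over.comp_left, Scheme.Hom.comp_appTop]
      rfl
    have h2 : ∀ s, MonoidAlgebra.single (1 : Multiplicative M) s ∈ E := by
      intro s
      rw [hE]
      refine ⟨(snd X X).left.appTop s, ?_⟩
      have h3 := bp_appTop (x₀ (M := M) (X := X)) s
      rw [← hΓsnd, Over.comp_left, Scheme.Hom.comp_appTop] at h3
      exact h3
    intro t
    have h3 := FreeDiagA.mem_of_subring (A := Γ(X.left, ⊤)) (G := Multiplicative M) hco hfr E
      h1 h2 (ofG t)
    rw [hE, toG_ofG] at h3
    exact h3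
  haveI hcl : IsClosedImmersion gl := IsClosedImmersion.of_surjective_of_isAffine gl hsurj
  have hfac : (lift a.act (snd (Red.DS S M) X)).left =
      (inv (upt (S := S) (M := M) (X := X))).left ≫ gl := by
    show _ = (inv (upt (S := S) (M := M) (X := X))).left ≫
      (upt (S := S) (M := M) (X := X) ≫ lift a.act (snd (Red.DS S M) X)).left
    rw [← Over.comp_left, IsIso.inv_hom_id_assoc]
  rw [hfac]
  haveI : IsIso (inv (upt (S := S) (M := M) (X := X))).left :=
    inferInstanceAs (IsIso ((Over.forget _).map (inv (upt (S := S) (M := M) (X := X)))))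
  exact (MorphismProperty.cancel_left_of_respectsIso (P := @IsClosedImmersion)
    (inv (upt (S := S) (M := M) (X := X))).left gl).2 hcl

end Graph

end Groth.Agent.Lib.T2H7.FreeDiagC
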