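import Groth.Agent.Lib.T2H7GFil2
import Mathlib

/-!
# The `γ`-filtration of a polynomial `λ`-algebra on the `γ^j` of one element

If `B` is generated over the binomial ring `K` by `γ^1 x, …, γ^n x`, where `ε x = 0` and
`γ^k x = 0` for `k > n`, then the `γ`-filtration of `B` is the filtration by the weight of the
monomials in the `γ^j x`.
-/

set_option autoImplicit false

noncomputable section

namespace Groth.Agent.Lib.T2H7.TruncFree

open MvPolynomial Finset LambdaRing
open Groth.Agent.Lib.Helper4 Groth.Agent.Lib.T2H7.LTerm Groth.Agent.Lib.T2H7.LTransfer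
open Groth.Agent.Lib.T2H7.LBinom Groth.Agent.Lib.T2H7.GFilT

section

variable {B : Type*} [CommRing B] [LambdaOps B] (n : ℕ) (x : B)

/-- the monomials in the `γ^j x` -/
def Mon (e : Fin n → ℕ) : B := ∏ j : Fin n, gamma ((j : ℕ) + 1) x ^ e j

/-- the weight of a monomial -/
def wt (e : Fin n → ℕ) : ℕ := ∑ j : Fin n, ((j : ℕ) + 1) * e j

/-- the ideal of the monomials of weight at least `k` -/
def II (k : ℕ) : Ideal B :=
  Ideal.span {m : B | ∃ e : Fin n → ℕ, k ≤ wt n e ∧ m = Mon n x e}

theorem wt_add (e₁ e₂ : Fin n → ℕ) : wt n (e₁ + e₂) = wt n e₁ + wt n e₂ := by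
  unfold wt
  simp only [Pi.add_apply, mul_add, Finset.sum_add_distrib]

theorem Mon_add (e₁ e₂ : Fin n → ℕ) : Mon n x (e₁ + e₂) = Mon n x e₁ * Mon n x e₂ := by
  unfold Mon
  simp only [Pi.add_apply, pow_add, Finset.prod_mul_distrib]

theorem II_anti {a b : ℕ} (h : a ≤ b) : II n x b ≤ II n x a := by
  apply Ideal.span_mono
  rintro y ⟨e, he, rfl⟩
  exact ⟨e, le_trans h he, rfl⟩

theorem II_mul {a b : ℕ} {u v : B} (hu : u ∈ II n x a) (hv : v ∈ II n x b) :
    u * v ∈ II n x (a + b) := by
  have h : II n x a * II n x b ≤ II n x (a + b) := by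
    unfold II
    rw [Ideal.span_mul_span']
    apply Ideal.span_le.mpr
    rintro _ ⟨_, ⟨e₁, h₁, rfl⟩, _, ⟨e₂, h₂, rfl⟩, rfl⟩
    apply Ideal.subset_span
    refine ⟨e₁ + e₂, ?_, ?_⟩
    · rw [wt_add]; omega
    · rw [Mon_add]
  exact h (Ideal.mul_mem_mul hu hv)

theorem one_mem_II_zero : (1 : B) ∈ II n x 0 := by
  apply Ideal.subset_span
  refine ⟨0, Nat.zero_le _, ?_⟩
  unfold Mon
  simp

theorem mem_II_zero (b : B) : b ∈ II n x 0 := by
  have h := Ideal.mul_mem_left (II n x 0) b (one_mem_II_zero n x)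
  rwa [mul_one] at h

/-! ### graded series -/

theorem coeff_mul_graded {f g : PowerSeries B}
    (hf : ∀ m, PowerSeries.coeff m f ∈ II n x m) (hg : ∀ m, PowerSeries.coeff m g ∈ II n x m) :
    ∀ m, PowerSeries.coeff m (f * g) ∈ II n x m := by
  intro m
  rw [PowerSeries.coeff_mul]
  refine Ideal.sum_mem _ fun p hp => ?_
  have h := II_mul n x (hf p.1) (hg p.2)
  rwa [Finset.HasAntidiagonal.mem_antidiagonal.mp hp] at h

theorem coeff_pow_graded {f : PowerSeries B} (hf : ∀ m, PowerSeries.coeff m f ∈ II n x m)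
    (k : ℕ) : ∀ m, PowerSeries.coeff m (f ^ k) ∈ II n x m := by
  induction k with
  | zero =>
    intro m
    rw [pow_zero, PowerSeries.coeff_one]
    split_ifs with h
    · subst h; exact one_mem_II_zero n x
    · exact Ideal.zero_mem _
  | succ k ih =>
    rw [pow_succ]
    exact coeff_mul_graded n x ih hf

/-- the elements all of whose `γ^i` lie in the `i`-th weight ideal -/
def SS : Set B := {z | ∀ i, gamma i z ∈ II n x i}

theorem gamma_zero_eq_one (z : B) : gamma 0 z = 1 := by rw [gamma, if_pos rfl]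

theorem zero_mem_SS : (0 : B) ∈ SS n x := by
  intro i
  rcases i with _ | i
  · rw [gamma_zero_eq_one]; exact one_mem_II_zero n x
  · rw [gamma_zero_arg _ (by omega)]; exact Ideal.zero_mem _

theorem add_mem_SS {z z' : B} (hz : z ∈ SS n x) (hz' : z' ∈ SS n x) : z + z' ∈ SS n x := by
  intro i
  rw [gamma_add]
  refine Ideal.sum_mem _ fun a ha => ?_
  rw [mem_range] at ha
  have h := II_mul n x (hz a) (hz' (i - a))
  rwa [show a + (i - a) = i by omega] at h

theorem smul_mem_SS {K : Type*} [CommRing K] [LambdaOps K] [BinomialRing K] [Algebra K B]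
    (hKb : IsBinomial K) (hB : IsSpecial B) (hKB : IsLambdaAlg K B) (c : K) {z : B}
    (hz : z ∈ SS n x) : algebraMap K B c * z ∈ SS n x := by
  intro i
  rcases i with _ | i
  · rw [gamma_zero_eq_one]; exact one_mem_II_zero n x
  · rw [gamma_algebraMap_mul hKb hB hKB c z (i + 1) (by omega)]
    refine Ideal.sum_mem _ fun k _ => Ideal.mul_mem_left _ _ ?_
    apply coeff_pow_graded n x
    intro m
    rw [map_sub, coeff_gammaSeries, PowerSeries.coeff_one]
    rcases m with _ | m
    · rw [if_pos rfl, gamma_zero_eq_one, sub_self]; exact Ideal.zero_mem _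
    · rw [if_neg (Nat.succ_ne_zero m), sub_zero]; exact hz _

/-! ### monomials -/

theorem exists_list (s : Finset (Fin n)) (e : Fin n → ℕ) :
    ∃ l : List (ℕ × Fin 1),
      (l.map fun p => gamma p.1 ((fun _ : Fin 1 => x) p.2)).prod =
        ∏ j ∈ s, gamma ((j : ℕ) + 1) x ^ e j ∧
      (l.map Prod.fst).sum = ∑ j ∈ s, ((j : ℕ) + 1) * e j := by
  classical
  induction s using Finset.induction_on with
  | empty => exact ⟨[], by simp, by simp⟩
  | insert j s hj ih =>
    obtain ⟨l, h1, h2⟩ := ih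
    refine ⟨List.replicate (e j) ((j : ℕ) + 1, (0 : Fin 1)) ++ l, ?_, ?_⟩
    · rw [List.map_append, List.prod_append, h1, Finset.prod_insert hj, List.map_replicate,
        List.prod_replicate]
    · rw [List.map_append, List.sum_append, h2, Finset.sum_insert hj, List.map_replicate,
        List.sum_replicate, smul_eq_mul, mul_comm]

theorem reindex_prod {M : Type*} [CommMonoid M] (μ : Fin 1 × ℕ →₀ ℕ) (φ : Fin 1 × ℕ → ℕ → M)
    (hφ : ∀ p, φ p 0 = 1) (h : ∀ p ∈ μ.support, p.2 < n) :
    μ.prod φ = ∏ j : Fin n, φ (0, (j : ℕ)) (μ (0, (j : ℕ))) := by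
  classical
  let ι : Fin n ↪ Fin 1 × ℕ := ⟨fun j => (0, (j : ℕ)), fun a b hab => by
    simp only [Prod.mk.injEq, true_and] at hab
    exact Fin.ext hab⟩
  have h1 : ∏ j : Fin n, φ (0, (j : ℕ)) (μ (0, (j : ℕ))) =
      ∏ p ∈ (Finset.univ : Finset (Fin n)).map ι, φ p (μ p) := by
    rw [Finset.prod_map]
    rfl
  rw [h1, Finsupp.prod]
  apply Finset.prod_subset
  · intro p hp
    rw [Finset.mem_map]
    refine ⟨⟨p.2, h p hp⟩, Finset.mem_univ _, ?_⟩
    exact Prod.ext (Subsingleton.elim _ _) rfl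
  · intro p _ hp
    rw [Finsupp.notMem_support_iff.mp hp, hφ]

theorem evG_monomial_mem_II (hγ : ∀ k : ℕ, n < k → gamma k x = 0) (k : ℕ)
    (μ : Fin 1 × ℕ →₀ ℕ) (hμ : k ≤ Finsupp.weight (wtG 1) μ) :
    evG (fun _ : Fin 1 => x) (monomial μ 1) ∈ II n x k := by
  classical
  rw [evG, aeval_monomial, map_one, one_mul]
  by_cases h : ∃ p ∈ μ.support, n ≤ p.2
  · obtain ⟨p, hp, hpn⟩ := h
    rw [Finsupp.prod, Finset.prod_eq_zero hp]
    · exact Ideal.zero_mem _
    · rw [hγ (p.2 + 1) (by omega), zero_pow (Finsupp.mem_support_iff.mp hp)]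
  · simp only [not_exists, not_and, not_le] at h
    apply Ideal.subset_span
    refine ⟨fun j => μ (0, (j : ℕ)), ?_, ?_⟩
    · have h2 := reindex_prod (M := Multiplicative ℕ) n μ
        (fun p k => Multiplicative.ofAdd ((p.2 + 1) * k)) (fun p => by simp) h
      have h4 : ∑ p ∈ μ.support, (p.2 + 1) * μ p =
          ∑ j : Fin n, ((j : ℕ) + 1) * μ (0, (j : ℕ)) := by
        have h5 := congrArg Multiplicative.toAdd h2
        rw [Finsupp.prod, toAdd_prod, toAdd_prod] at h5
        simpa only [toAdd_ofAdd] using h5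
      have h3 : Finsupp.weight (wtG 1) μ = ∑ j : Fin n, ((j : ℕ) + 1) * μ (0, (j : ℕ)) := by
        rw [Finsupp.weight_apply, Finsupp.sum, ← h4]
        refine sum_congr rfl fun p _ => ?_
        rw [smul_eq_mul, mul_comm]
        rfl
      rw [h3] at hμ
      unfold wt
      exact hμ
    · unfold Mon
      exact reindex_prod n μ (fun p k => gamma (p.2 + 1) x ^ k) (fun p => pow_zero _) h

theorem Mon_mem_SS (hB : IsSpecial B) (hγ : ∀ k : ℕ, n < k → gamma k x = 0) (e : Fin n → ℕ)
    (he : 1 ≤ wt n e) : Mon n x e ∈ SS n x := by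
  intro i
  obtain ⟨l, h1, h2⟩ := exists_list n x Finset.univ e
  unfold Mon
  rw [← h1]
  exact gamma_gprod_mem_weight 1 hB (fun _ : Fin 1 => x) (II n x i) l (by rw [h2]; exact he) i
    (fun μ hμ => evG_monomial_mem_II n x hγ i μ hμ)

end

/-! ### the kernel of the augmentation -/

section Aug

variable {K : Type*} [CommRing K] [LambdaOps K] [BinomialRing K]
  {B : Type*} [CommRing B] [LambdaOps B] [Algebra K B] (ε : B →ₐ[K] K) (n : ℕ) (x : B)

omit [BinomialRing K] in
theorem map_gamma (hε : IsAugLambdaAlg K B ε) (k : ℕ) (b : B) :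
    ε (gamma k b) = gamma k (ε b) := by
  rcases k with _ | k
  · rw [gamma_zero_eq_one, gamma_zero_eq_one, map_one]
  · rw [gamma_succ_eq, gamma_succ_eq, map_sum]
    refine sum_congr rfl fun i _ => ?_
    rw [map_mul, map_natCast, hε.map_lam]

omit [BinomialRing K] in
theorem eps_Mon (hε : IsAugLambdaAlg K B ε) (hx : ε x = 0) (e : Fin n → ℕ) (he : e ≠ 0) :
    ε (Mon n x e) = 0 := by
  obtain ⟨j, hj⟩ := Function.ne_iff.mp he
  unfold Mon
  rw [map_prod]
  apply Finset.prod_eq_zero (Finset.mem_univ j)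
  rw [map_pow, map_gamma ε hε, hx, gamma_zero_arg _ (by omega), zero_pow hj]

theorem one_le_wt (e : Fin n → ℕ) (he : e ≠ 0) : 1 ≤ wt n e := by
  obtain ⟨j, hj⟩ := Function.ne_iff.mp he
  have hj' : e j ≠ 0 := hj
  unfold wt
  have h := Finset.single_le_sum (f := fun j : Fin n => ((j : ℕ) + 1) * e j)
    (fun i _ => Nat.zero_le _) (Finset.mem_univ j)
  have h2 : 1 ≤ ((j : ℕ) + 1) * e j := Nat.one_le_iff_ne_zero.mpr (by positivity)
  exact le_trans h2 h

omit [BinomialRing K] in
theorem mem_span_of_eps_eq_zero (hε : IsAugLambdaAlg K B ε) (hx : ε x = 0)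
    (hgen : Algebra.adjoin K (Set.range fun j : Fin n => gamma ((j : ℕ) + 1) x) = ⊤)
    (z : B) (hz : ε z = 0) :
    z ∈ Submodule.span K {m : B | ∃ e : Fin n → ℕ, e ≠ 0 ∧ m = Mon n x e} := by
  classical
  have hz' : z ∈ Algebra.adjoin K (Set.range fun j : Fin n => gamma ((j : ℕ) + 1) x) := by
    rw [hgen]; exact Algebra.mem_top
  rw [Algebra.adjoin_range_eq_range_aeval] at hz'
  obtain ⟨P, hP⟩ := hz'
  change aeval (fun j : Fin n => gamma ((j : ℕ) + 1) x) P = z at hP
  subst hP
  set W := Submodule.span K {m : B | ∃ e : Fin n → ℕ, e ≠ 0 ∧ m = Mon n x e} with hW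
  have hW0 : ∀ w ∈ W, ε w = 0 := by
    intro w hw
    induction hw using Submodule.span_induction with
    | mem y hy =>
      obtain ⟨e, he, rfl⟩ := hy
      exact eps_Mon ε n x hε hx e he
    | zero => exact map_zero _
    | add u v _ _ hu hv => rw [map_add, hu, hv, add_zero]
    | smul a u _ hu => rw [map_smul, hu, smul_zero]
  set P' := P - C (coeff 0 P) with hP'
  have hc0 : coeff 0 P' = 0 := by rw [hP', coeff_sub, coeff_C, if_pos rfl, sub_self]
  have hP'W : aeval (fun j : Fin n => gamma ((j : ℕ) + 1) x) P' ∈ W := by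
    rw [P'.as_sum, map_sum]
    refine Submodule.sum_mem _ fun μ hμ => ?_
    rw [aeval_monomial, ← Algebra.smul_def]
    apply Submodule.smul_mem
    apply Submodule.subset_span
    refine ⟨⇑μ, ?_, ?_⟩
    · intro h0
      have : μ = 0 := Finsupp.ext fun j => congrFun h0 j
      rw [this, mem_support_iff] at hμ
      exact hμ hc0
    · unfold Mon
      exact Finsupp.prod_fintype μ _ (fun j => pow_zero _)
  have hsplit : aeval (fun j : Fin n => gamma ((j : ℕ) + 1) x) P =
      aeval (fun j : Fin n => gamma ((j : ℕ) + 1) x) P' + algebraMap K B (coeff 0 P) := by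
    rw [hP', map_sub, aeval_C, sub_add_cancel]
  have hc : coeff 0 P = 0 := by
    have h1 := hz
    rw [hsplit, map_add, hW0 _ hP'W, zero_add, AlgHom.commutes] at h1
    exact h1
  rw [hsplit, hc, map_zero, add_zero]
  exact hP'W

end Aug

/-! ### the theorem -/

section Main

variable {K : Type*} [CommRing K] [LambdaOps K] [BinomialRing K]
  {B : Type*} [CommRing B] [LambdaOps B] [Algebra K B] (ε : B →ₐ[K] K) (n : ℕ) (x : B)

theorem gamma_mem_II (hKb : IsBinomial K) (hB : IsSpecial B) (hε : IsAugLambdaAlg K B ε)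
    (hx : ε x = 0) (hγ : ∀ k : ℕ, n < k → gamma k x = 0)
    (hgen : Algebra.adjoin K (Set.range fun j : Fin n => gamma ((j : ℕ) + 1) x) = ⊤)
    (z : B) (hz : ε z = 0) : z ∈ SS n x := by
  have h := mem_span_of_eps_eq_zero ε n x hε hx hgen z hz
  clear hz
  induction h using Submodule.span_induction with
  | mem y hy =>
    obtain ⟨e, he, rfl⟩ := hy
    exact Mon_mem_SS n x hB hγ e (one_le_wt n e he)
  | zero => exact zero_mem_SS n x
  | add u v _ _ hu hv => exact add_mem_SS n x hu hv
  | smul a u _ hu =>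
    rw [Algebra.smul_def]
    exact smul_mem_SS n x hKb hB hε.isLambdaAlg a hu

theorem gammaFil_eq_II (hKb : IsBinomial K) (hB : IsSpecial B) (hε : IsAugLambdaAlg K B ε)
    (hx : ε x = 0) (hγ : ∀ k : ℕ, n < k → gamma k x = 0)
    (hgen : Algebra.adjoin K (Set.range fun j : Fin n => gamma ((j : ℕ) + 1) x) = ⊤) (k : ℕ) :
    gammaFil (ε : B →+* K) k = II n x k := by
  apply le_antisymm
  · apply Ideal.span_le.mpr
    rintro y ⟨l, hl, hk, rfl⟩
    refine II_anti n x hk ?_
    clear hk
    induction l with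
    | nil =>
      simp only [List.map_nil, List.prod_nil, List.sum_nil]
      exact one_mem_II_zero n x
    | cons p l ih =>
      simp only [List.map_cons, List.prod_cons, List.sum_cons]
      refine II_mul n x ?_ (ih fun q hq => hl q (List.mem_cons_of_mem _ hq))
      exact gamma_mem_II ε n x hKb hB hε hx hγ hgen p.2 (hl p List.mem_cons_self) p.1
  · apply Ideal.span_le.mpr
    rintro y ⟨e, he, rfl⟩
    refine gammaFil_anti (ε : B →+* K) he ?_
    unfold Mon wt
    have h : ∀ s : Finset (Fin n), ∏ j ∈ s, gamma ((j : ℕ) + 1) x ^ e j ∈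
        gammaFil (ε : B →+* K) (∑ j ∈ s, ((j : ℕ) + 1) * e j) := by
      classical
      intro s
      induction s using Finset.induction_on with
      | empty =>
        rw [Finset.prod_empty, Finset.sum_empty]
        exact one_mem_gammaFil_zero _
      | insert j s hj ih =>
        rw [Finset.prod_insert hj, Finset.sum_insert hj]
        refine gammaFil_mul _ ?_ ih
        have h1 := pow_mem_gammaFil (ε : B →+* K)
          (gamma_mem_gammaFil (ε : B →+* K) (x := x) hx ((j : ℕ) + 1)) (e j)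
        rwa [smul_eq_mul, mul_comm] at h1
    exact h Finset.univ

end Main

end Groth.Agent.Lib.T2H7.TruncFree
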