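import Groth.Agent.Lib.T2H7GradedSS
import Groth.Agent.Lib.T2H7TruncFree
import Mathlib

/-!
# The `γ`-filtration of a `λ`-algebra generated over an augmented `λ`-algebra by the `γ^j` of one
element
-/

set_option autoImplicit false
set_option linter.unusedSectionVars false

noncomputable section

namespace Groth.Agent.Lib.T2H7.FreeOver

open MvPolynomial Finset LambdaRing
open Groth.Agent.Lib.Helper4 Groth.Agent.Lib.T2H7.LTerm Groth.Agent.Lib.T2H7.LTransfer
open Groth.Agent.Lib.T2H7.LBinom Groth.Agent.Lib.T2H7.GFilT Groth.Agent.Lib.T2H7.GradedSS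

section

variable {K : Type*} [CommRing K] [LambdaOps K]
  {A : Type*} [CommRing A] [LambdaOps A] [Algebra K A]
  {B : Type*} [CommRing B] [LambdaOps B] [Algebra K B] [Algebra A B]
  (εA : A →ₐ[K] K) (εB : B →ₐ[K] K) (x : B)

/-- the monomials in the `γ^(j+1) x` -/
def MonN (e : ℕ →₀ ℕ) : B := e.prod fun j n => gamma (j + 1) x ^ n

/-- the weight of a monomial -/
def wtN (e : ℕ →₀ ℕ) : ℕ := e.sum fun j n => (j + 1) * n

/-- the candidate filtration -/
def JJ (k : ℕ) : Ideal B :=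
  Ideal.span {b : B | ∃ (e : ℕ →₀ ℕ) (a : A),
    a ∈ gammaFil (εA : A →+* K) (k - wtN e) ∧ b = algebraMap A B a * MonN x e}

theorem wtN_zero : wtN 0 = 0 := by
  unfold wtN
  exact Finsupp.sum_zero_index

theorem MonN_zero : MonN x 0 = 1 := by
  unfold MonN
  exact Finsupp.prod_zero_index

theorem wtN_add (e₁ e₂ : ℕ →₀ ℕ) : wtN (e₁ + e₂) = wtN e₁ + wtN e₂ := by
  unfold wtN
  exact Finsupp.sum_add_index' (fun j => mul_zero _) (fun j a b => mul_add _ _ _)

theorem MonN_add (e₁ e₂ : ℕ →₀ ℕ) : MonN x (e₁ + e₂) = MonN x e₁ * MonN x e₂ := by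
  unfold MonN
  exact Finsupp.prod_add_index' (fun j => pow_zero _) (fun j a b => pow_add _ _ _)

theorem wtN_single (k n : ℕ) : wtN (Finsupp.single k n) = (k + 1) * n := by
  unfold wtN
  exact Finsupp.sum_single_index (mul_zero _)

theorem MonN_single (k n : ℕ) : MonN x (Finsupp.single k n) = gamma (k + 1) x ^ n := by
  unfold MonN
  exact Finsupp.prod_single_index (pow_zero _)

theorem JJ_isMulFil : IsMulFil (JJ εA x) where
  anti := by
    intro a b hab
    apply Ideal.span_mono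
    rintro y ⟨e, a', ha', rfl⟩
    exact ⟨e, a', gammaFil_anti _ (Nat.sub_le_sub_right hab _) ha', rfl⟩
  mul := by
    intro a b u v hu hv
    have h : JJ εA x a * JJ εA x b ≤ JJ εA x (a + b) := by
      unfold JJ
      rw [Ideal.span_mul_span']
      apply Ideal.span_le.mpr
      rintro _ ⟨_, ⟨e₁, a₁, h₁, rfl⟩, _, ⟨e₂, a₂, h₂, rfl⟩, rfl⟩
      apply Ideal.subset_span
      refine ⟨e₁ + e₂, a₁ * a₂, ?_, ?_⟩
      · rw [wtN_add]
        exact gammaFil_anti _ (by omega) (gammaFil_mul _ h₁ h₂)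
      · rw [MonN_add, map_mul]; ring
    exact h (Ideal.mul_mem_mul hu hv)
  one := by
    apply Ideal.subset_span
    refine ⟨0, 1, mem_gammaFil_zero' _ _, ?_⟩
    rw [MonN_zero, map_one, mul_one]
where
  mem_gammaFil_zero' (ε : A →+* K) (m : ℕ) : (1 : A) ∈ gammaFil ε (0 - m) := by
    rw [Nat.zero_sub]; exact one_mem_gammaFil_zero ε

theorem algebraMap_gamma (hAB : IsLambdaAlg A B) (k : ℕ) (a : A) :
    algebraMap A B (gamma k a) = gamma k (algebraMap A B a) := by
  rcases k with _ | k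
  · rw [gamma, if_pos rfl, gamma, if_pos rfl, map_one]
  · rw [gamma_succ_eq, gamma_succ_eq, map_sum]
    refine sum_congr rfl fun i _ => ?_
    rw [map_mul, map_natCast, hAB]

theorem map_mem_gammaFil (hAB : IsLambdaAlg A B)
    (hεAB : ∀ a : A, εB (algebraMap A B a) = εA a) {m : ℕ} {a : A}
    (ha : a ∈ gammaFil (εA : A →+* K) m) :
    algebraMap A B a ∈ gammaFil (εB : B →+* K) m := by
  change a ∈ Submodule.span A _ at ha
  induction ha using Submodule.span_induction with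
  | mem y hy =>
    obtain ⟨l, hl, hs, rfl⟩ := hy
    apply Ideal.subset_span
    refine ⟨l.map (fun p => (p.1, algebraMap A B p.2)), ?_, ?_, ?_⟩
    · intro p hp
      rw [List.mem_map] at hp
      obtain ⟨q, hq, rfl⟩ := hp
      exact (hεAB q.2).trans (hl q hq)
    · rw [List.map_map]
      exact hs
    · rw [map_list_prod, List.map_map, List.map_map]
      congr 1
      apply List.map_congr_left
      intro p _
      exact algebraMap_gamma hAB p.1 p.2
  | zero => rw [map_zero]; exact Ideal.zero_mem _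
  | add u v _ _ hu hv => rw [map_add]; exact Ideal.add_mem _ hu hv
  | smul r u _ hu => rw [smul_eq_mul, map_mul]; exact Ideal.mul_mem_left _ _ hu

theorem weight_eq_wtN (e : ℕ →₀ ℕ) : Finsupp.weight (fun j : ℕ => j + 1) e = wtN e := by
  rw [Finsupp.weight_apply]
  unfold wtN
  apply Finsupp.sum_congr
  intro j _
  rw [smul_eq_mul, mul_comm]

theorem JJ_le_gammaFil (hAB : IsLambdaAlg A B)
    (hεAB : ∀ a : A, εB (algebraMap A B a) = εA a) (hx : εB x = 0) (k : ℕ) :
    JJ εA x k ≤ gammaFil (εB : B →+* K) k := by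
  apply Ideal.span_le.mpr
  rintro y ⟨e, a, ha, rfl⟩
  have h1 := map_mem_gammaFil εA εB hAB hεAB ha
  have h2 : MonN x e ∈ gammaFil (εB : B →+* K) (wtN e) := by
    rw [← weight_eq_wtN]
    exact finsupp_prod_mem (εB : B →+* K) e (fun j => gamma (j + 1) x) (fun j => j + 1)
      (fun j => gamma_mem_gammaFil (εB : B →+* K) (x := x) hx (j + 1))
  exact gammaFil_anti _ (by omega) (gammaFil_mul _ h1 h2)

/-! ### the kernel of the augmentation -/

theorem one_le_wtN (μ : ℕ →₀ ℕ) (hμ : μ ≠ 0) : 1 ≤ wtN μ := by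
  obtain ⟨j, hj⟩ := Finsupp.support_nonempty_iff.mpr hμ
  unfold wtN
  rw [Finsupp.sum]
  have h := Finset.single_le_sum (f := fun j : ℕ => (j + 1) * μ j)
    (fun i _ => Nat.zero_le _) hj
  have h2 : 1 ≤ (j + 1) * μ j :=
    Nat.one_le_iff_ne_zero.mpr (Nat.mul_ne_zero (Nat.succ_ne_zero j) (Finsupp.mem_support_iff.mp hj))
  exact le_trans h2 h

theorem gamma_x_mem_JJ (k : ℕ) : gamma (k + 1) x ∈ JJ εA x (k + 1) := by
  apply Ideal.subset_span
  refine ⟨Finsupp.single k 1, 1, ?_, ?_⟩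
  · rw [wtN_single, mul_one, Nat.sub_self]
    exact one_mem_gammaFil_zero _
  · rw [MonN_single, pow_one, map_one, one_mul]

theorem gamma_algA_mem_JJ (hAB : IsLambdaAlg A B) (a : A) (ha : εA a = 0) (k : ℕ) :
    gamma k (algebraMap A B a) ∈ JJ εA x k := by
  apply Ideal.subset_span
  refine ⟨0, gamma k a, ?_, ?_⟩
  · rw [wtN_zero, Nat.sub_zero]
    exact gamma_mem_gammaFil (εA : A →+* K) ha k
  · rw [MonN_zero, mul_one, algebraMap_gamma hAB]

theorem algA_mem_SSF (hAB : IsLambdaAlg A B) (a : A) (ha : εA a = 0) :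
    algebraMap A B a ∈ SSF (JJ εA x) := fun i => gamma_algA_mem_JJ εA x hAB a ha i

theorem MonN_mem_SSF (hB : IsSpecial B) (μ : ℕ →₀ ℕ) (hμ : μ ≠ 0) :
    MonN x μ ∈ SSF (JJ εA x) := by
  obtain ⟨l, h1, h2⟩ := exists_list_of_finset (fun _ : Fin 1 => x) 0 μ.support ⇑μ
  have h3 : MonN x μ = (l.map fun p => gamma p.1 ((fun _ : Fin 1 => x) p.2)).prod := by
    rw [h1]; rfl
  rw [h3]
  refine gprod_mem_SSF (JJ_isMulFil εA x) hB (fun _ : Fin 1 => x)
    (fun _ k => gamma_x_mem_JJ εA x k) l ?_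
  rw [h2]
  exact one_le_wtN μ hμ

variable [BinomialRing K] [IsScalarTower K A B]

theorem algA_mul_MonN_mem_SSF (hKb : IsBinomial K) (hB : IsSpecial B) (hKB : IsLambdaAlg K B)
    (hAB : IsLambdaAlg A B) (a : A) (μ : ℕ →₀ ℕ) (hμ : μ ≠ 0) :
    algebraMap A B a * MonN x μ ∈ SSF (JJ εA x) := by
  have ha' : εA (a - algebraMap K A (εA a)) = 0 := by
    rw [map_sub, AlgHom.commutes, Algebra.algebraMap_self_apply, sub_self]
  have hsplit : algebraMap A B a * MonN x μ =
      algebraMap K B (εA a) * MonN x μ +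
        algebraMap A B (a - algebraMap K A (εA a)) * MonN x μ := by
    rw [map_sub, ← IsScalarTower.algebraMap_apply K A B]
    ring
  rw [hsplit]
  refine add_mem_SSF (JJ_isMulFil εA x) ?_ ?_
  · exact smul_mem_SSF (JJ_isMulFil εA x) hKb hB hKB _ (MonN_mem_SSF εA x hB μ hμ)
  · set a' := a - algebraMap K A (εA a) with ha'def
    obtain ⟨l, h1, h2⟩ := exists_list_of_finset (![algebraMap A B a', x] : Fin 2 → B) 1
      μ.support ⇑μ
    have h3 : algebraMap A B a' * MonN x μ =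
        (((1, (0 : Fin 2)) :: l).map
          fun p => gamma p.1 ((![algebraMap A B a', x] : Fin 2 → B) p.2)).prod := by
      rw [List.map_cons, List.prod_cons, h1, gamma_one_arg]
      rfl
    rw [h3]
    refine gprod_mem_SSF (JJ_isMulFil εA x) hB (![algebraMap A B a', x] : Fin 2 → B) ?_ _ ?_
    · intro s k
      fin_cases s
      · exact gamma_algA_mem_JJ εA x hAB a' ha' (k + 1)
      · exact gamma_x_mem_JJ εA x k
    · rw [List.map_cons, List.sum_cons]
      omega

theorem eps_MonN (hεB : IsAugLambdaAlg K B εB) (hx : εB x = 0) (μ : ℕ →₀ ℕ) (hμ : μ ≠ 0) :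
    εB (MonN x μ) = 0 := by
  obtain ⟨j, hj⟩ := Finsupp.support_nonempty_iff.mpr hμ
  unfold MonN
  rw [map_finsuppProd, Finsupp.prod]
  apply Finset.prod_eq_zero hj
  rw [map_pow, TruncFree.map_gamma εB hεB, hx, gamma_zero_arg _ (by omega),
    zero_pow (Finsupp.mem_support_iff.mp hj)]

theorem mem_SSF_of_eps_eq_zero (hKb : IsBinomial K) (hB : IsSpecial B)
    (hAB : IsLambdaAlg A B) (hεB : IsAugLambdaAlg K B εB)
    (hεAB : ∀ a : A, εB (algebraMap A B a) = εA a) (hx : εB x = 0)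
    (hgen : Algebra.adjoin A (Set.range fun j : ℕ => gamma (j + 1) x) = ⊤)
    (z : B) (hz : εB z = 0) : z ∈ SSF (JJ εA x) := by
  classical
  have hz' : z ∈ Algebra.adjoin A (Set.range fun j : ℕ => gamma (j + 1) x) := by
    rw [hgen]; exact Algebra.mem_top
  rw [Algebra.adjoin_range_eq_range_aeval] at hz'
  obtain ⟨P, hP⟩ := hz'
  change aeval (fun j : ℕ => gamma (j + 1) x) P = z at hP
  subst hP
  set P' := P - C (coeff 0 P) with hP'
  have hc0 : coeff 0 P' = 0 := by rw [hP', coeff_sub, coeff_C, if_pos rfl, sub_self]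
  have hterm : ∀ μ ∈ P'.support, μ ≠ 0 := by
    intro μ hμ h0
    rw [h0, mem_support_iff] at hμ
    exact hμ hc0
  have hmono : ∀ μ : ℕ →₀ ℕ, aeval (fun j : ℕ => gamma (j + 1) x) (monomial μ (coeff μ P')) =
      algebraMap A B (coeff μ P') * MonN x μ := by
    intro μ
    rw [aeval_monomial]
    rfl
  have hP'SS : aeval (fun j : ℕ => gamma (j + 1) x) P' ∈ SSF (JJ εA x) := by
    rw [P'.as_sum, map_sum]
    refine sum_mem_SSF (JJ_isMulFil εA x) _ _ fun μ hμ => ?_
    rw [hmono]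
    exact algA_mul_MonN_mem_SSF εA x hKb hB hεB.isLambdaAlg hAB _ μ (hterm μ hμ)
  have hP'ε : εB (aeval (fun j : ℕ => gamma (j + 1) x) P') = 0 := by
    rw [P'.as_sum, map_sum, map_sum]
    refine Finset.sum_eq_zero fun μ hμ => ?_
    rw [hmono, map_mul, eps_MonN εB x hεB hx μ (hterm μ hμ), mul_zero]
  have hsplit : aeval (fun j : ℕ => gamma (j + 1) x) P =
      aeval (fun j : ℕ => gamma (j + 1) x) P' + algebraMap A B (coeff 0 P) := by
    rw [hP', map_sub, aeval_C, sub_add_cancel]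
  have hc : εA (coeff 0 P) = 0 := by
    have h1 := hz
    rw [hsplit, map_add, hP'ε, zero_add, hεAB] at h1
    exact h1
  rw [hsplit]
  exact add_mem_SSF (JJ_isMulFil εA x) hP'SS (algA_mem_SSF εA x hAB _ hc)

theorem gammaFil_eq_JJ (hKb : IsBinomial K) (hB : IsSpecial B)
    (hAB : IsLambdaAlg A B) (hεB : IsAugLambdaAlg K B εB)
    (hεAB : ∀ a : A, εB (algebraMap A B a) = εA a) (hx : εB x = 0)
    (hgen : Algebra.adjoin A (Set.range fun j : ℕ => gamma (j + 1) x) = ⊤) (k : ℕ) :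
    gammaFil (εB : B →+* K) k = JJ εA x k :=
  le_antisymm
    (gammaFil_le_of_SSF (JJ_isMulFil εA x) (εB : B →+* K)
      (fun z hz => mem_SSF_of_eps_eq_zero εA εB x hKb hB hAB hεB hεAB hx hgen z hz) k)
    (JJ_le_gammaFil εA εB x hAB hεAB hx k)

end

end Groth.Agent.Lib.T2H7.FreeOver
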