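import Mathlib
import Groth.Prelude.Def_Grpd
import Groth.Prelude.Def_AlgGrp
import Groth.Prelude.Def_NonAbH2
import Groth.Agent.S10235
import Groth.Agent.Lib.T2H7ActGrpd
import Groth.Agent.Lib.Helper20SymProd

/-!
# Quotient of a scheme by a free action of a finite locally free group scheme (helper7)

Via the action groupoid (`T2H7ActGrpd`) and the quotient of finite locally free equivalence
relations (`S10235`): orbits lie in affine opens when `X ⟶ S` is affine, when `X` is quasi-affine
(prime avoidance), or when `G ⟶ S` is radicial.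
-/

set_option autoImplicit false
set_option linter.unusedSectionVars false
set_option linter.unusedVariables false
set_option linter.style.haveILetI false

universe u

open CategoryTheory CategoryTheory.Limits MonoidalCategory CartesianMonoidalCategory MonObj GrpObj
  AlgebraicGeometry

namespace Groth.Agent.Lib.T2H7.FreeQuot

open Groth.Agent.Lib.Helper12 Groth.Agent.Lib.T2H7.ActGrpd

variable {S : Scheme.{u}} {G X : Over S} [GrpObj G] (a : AlgGrp.Action G X)

theorem isPullback_fst_snd :
    IsPullback (fst G X).left (snd G X).left G.hom X.hom :=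
  IsPullback.of_hasPullback G.hom X.hom

theorem isFinLocFree_snd (hG : Mor2.IsFinLocFree G.hom) : Mor2.IsFinLocFree (snd G X).left :=
  ⟨MorphismProperty.of_isPullback (P := @IsFinite) isPullback_fst_snd hG.1,
   MorphismProperty.of_isPullback (P := @Flat) isPullback_fst_snd hG.2.1,
   MorphismProperty.of_isPullback (P := @LocallyOfFinitePresentation) isPullback_fst_snd hG.2.2⟩

theorem act_left_eq : a.act.left = (shearIso a).hom.left ≫ (snd G X).left := by
  rw [← Over.comp_left]
  congr 1
  exact (shear_snd a).symm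

theorem isFinLocFree_act (hG : Mor2.IsFinLocFree G.hom) : Mor2.IsFinLocFree a.act.left := by
  obtain ⟨h1, h2, h3⟩ := isFinLocFree_snd (X := X) hG
  haveI : IsIso (shearIso a).hom.left := inferInstanceAs (IsIso ((Over.forget S).map (shearIso a).hom))
  rw [act_left_eq]
  exact ⟨inferInstance, inferInstance, inferInstance⟩

/-- the equivalence relation of a free action. -/
theorem isEqvRel
    (hfree : ∀ (T : Over S) (g : T ⟶ G) (x : T ⟶ X), lift g x ≫ a.act = x → g = toUnit T ≫ η[G]) :
    AlgSp.IsEqvRel (snd G X) a.act where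
  injective := by
    intro T r r' h1 h2
    have hx : r = lift (r ≫ fst G X) (r ≫ snd G X) := (eta r).symm
    have hx' : r' = lift (r' ≫ fst G X) (r ≫ snd G X) := by rw [h2]; exact (eta r').symm
    have key : lift ((r ≫ fst G X)⁻¹ * (r' ≫ fst G X)) (r ≫ snd G X) ≫ a.act = r ≫ snd G X := by
      rw [act_mul]
      have e1 : lift (r' ≫ fst G X) (r ≫ snd G X) ≫ a.act = r ≫ a.act := by
        rw [← hx', h1]
      rw [e1, ← act_eq a r, ← act_mul, inv_mul_cancel, act_one]
    have := hfree T _ _ key
    rw [← Hom.one_def, inv_mul_eq_one] at this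
    rw [hx, hx', this]
  equivalence := by
    intro T
    refine ⟨fun x => ⟨lift 1 x, act_one a x, lift_snd _ _⟩, ?_, ?_⟩
    · rintro x y ⟨r, rfl, rfl⟩
      refine ⟨lift (r ≫ fst G X)⁻¹ (r ≫ a.act), ?_, lift_snd _ _⟩
      rw [← act_eq a r, ← act_mul, inv_mul_cancel, act_one]
    · rintro x y z ⟨r, rfl, rfl⟩ ⟨r', h1, rfl⟩
      refine ⟨lift ((r ≫ fst G X) * (r' ≫ fst G X)) (r' ≫ snd G X), ?_, lift_snd _ _⟩
      rw [act_mul, act_eq, h1, act_eq]

theorem hom_act_apply (r : (G ⊗ X).left) :
    X.hom (a.act.left r) = X.hom ((snd G X).left r) := by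
  rw [← Scheme.Hom.comp_apply, ← Scheme.Hom.comp_apply, Over.w a.act, Over.w (snd G X)]

/-- orbits lie in affine opens, in each of the three cases. -/
theorem orbit_condition (hG : Mor2.IsFinLocFree G.hom)
    (h3 : IsAffineHom X.hom ∨ (∃ (R : CommRingCat.{u}) (i : X.left ⟶ Spec R), IsOpenImmersion i) ∨
      UniversallyInjective G.hom) :
    ∀ Z : Set X.left, IsClosed Z → Z.Nonempty →
      ∃ u ∈ Z, ∃ W : X.left.Opens, IsAffineOpen W ∧
        ∀ r : (G ⊗ X).left, (snd G X).left r = u → a.act.left r ∈ W := by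
  intro Z _ hne
  obtain ⟨u, hu⟩ := hne
  refine ⟨u, hu, ?_⟩
  rcases h3 with h | ⟨R, i, hi⟩ | h
  · haveI := h
    obtain ⟨V, hV, huV, -⟩ := exists_isAffineOpen_mem_and_subset (x := X.hom u) (U := ⊤) trivial
    refine ⟨X.hom ⁻¹ᵁ V, hV.preimage X.hom, fun r hr => ?_⟩
    change X.hom (a.act.left r) ∈ V
    rw [hom_act_apply, hr]
    exact huV
  · classical
    haveI := hi
    haveI : IsFinite (snd G X).left := (isFinLocFree_snd (X := X) hG).1
    have hfin : ((snd G X).left ⁻¹' {u}).Finite := (snd G X).left.finite_preimage_singleton u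
    let F : Finset (Spec R) := ((hfin.image a.act.left).image i).toFinset
    obtain ⟨U, hU, -, hle, hUF⟩ := Groth.Agent.Lib.Helper20.exists_affine_finite
      (X := Spec R) (U₀ := ⊤) (isAffineOpen_top (Spec R)) i.opensRange F (fun t ht => by
        refine ⟨trivial, ?_⟩
        rw [Set.Finite.mem_toFinset] at ht
        obtain ⟨x, -, rfl⟩ := ht
        exact ⟨x, rfl⟩)
    refine ⟨i ⁻¹ᵁ U, hU.preimage_of_isOpenImmersion i hle, fun r hr => ?_⟩
    change i (a.act.left r) ∈ U
    apply hUF
    rw [Set.Finite.mem_toFinset]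
    exact ⟨a.act.left r, ⟨r, hr, rfl⟩, rfl⟩
  · haveI := h
    haveI : UniversallyInjective (snd G X).left :=
      MorphismProperty.of_isPullback (P := @UniversallyInjective) isPullback_fst_snd h
    obtain ⟨W, hW, huW, -⟩ := exists_isAffineOpen_mem_and_subset (x := u) (U := ⊤) trivial
    refine ⟨W, hW, fun r hr => ?_⟩
    have h1 : (snd G X).left ((eO (G := G) (X := X)).left u) = u := by
      rw [← Scheme.Hom.comp_apply, ← Over.comp_left, eO_snd]
      rfl
    have h2 : r = (eO (G := G) (X := X)).left u :=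
      (snd G X).left.injective (hr.trans h1.symm)
    have h3 : a.act.left ((eO (G := G) (X := X)).left u) = u := by
      rw [← Scheme.Hom.comp_apply, ← Over.comp_left, eO_act]
      rfl
    rw [h2, h3]
    exact huW

/-- surjectivity of a quotient map for the fppf topology. -/
theorem surjective_of_isQuotient {R U M : Over S} (s t : R ⟶ U) (m : U ⟶ M)
    (hq : QuotSh.IsQuotient Scheme.fppfPrecoverage s t m) : Surjective m.left := by
  obtain ⟨w, hiso⟩ := hq
  have hepi : Epi (QuotSh.repMap Scheme.fppfPrecoverage m) := by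
    have hπ : QuotSh.quotπ Scheme.fppfPrecoverage s t ≫
        QuotSh.quotDesc Scheme.fppfPrecoverage m w = QuotSh.repMap Scheme.fppfPrecoverage m :=
      coequalizer.π_desc _ _
    rw [← hπ]
    have : Epi (QuotSh.quotπ Scheme.fppfPrecoverage s t) := coequalizer.π_epi
    infer_instance
  obtain ⟨R', hR', hlift⟩ :=
    Groth.Agent.Lib.Helper12.QuotShLib.exists_cover_of_epi Scheme.fppfPrecoverage m hepi
  obtain ⟨I, Z, φ, rfl⟩ := Presieve.exists_eq_ofArrows R'
  let 𝒰 : Scheme.Cover Scheme.fppfPrecoverage M.left := ⟨⟨I, Z, φ⟩, hR'⟩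
  refine ⟨fun x => ?_⟩
  obtain ⟨j, y, hy⟩ := 𝒰.exists_eq x
  obtain ⟨l, hl⟩ := hlift (φ j) ⟨j⟩
  refine ⟨l.left y, ?_⟩
  rw [← Scheme.Hom.comp_apply, hl]
  exact hy

/-- **Quotient of a scheme by a free action of a finite locally free group scheme.** -/
theorem exists_quotient (hG : Mor2.IsFinLocFree G.hom)
    (hfree : ∀ (T : Over S) (g : T ⟶ G) (x : T ⟶ X), lift g x ≫ a.act = x → g = toUnit T ≫ η[G])
    (h3 : IsAffineHom X.hom ∨ (∃ (R : CommRingCat.{u}) (i : X.left ⟶ Spec R), IsOpenImmersion i) ∨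
      UniversallyInjective G.hom) :
    ∃ (M : Over S) (q : X ⟶ M), QuotSh.IsQuotient Scheme.fppfPrecoverage (snd G X) a.act q ∧
      IsPullback a.act.left (snd G X).left q.left q.left ∧
      NonAbH1.IsLocallyTrivialFor Scheme.fppfPrecoverage (Over.mk q.left) := by
  obtain ⟨M, m, hm, hpb, hq⟩ := Groth.Agent.S10235.result (actGrpd a)
    (isFinLocFree_snd (X := X) hG) (isFinLocFree_act a hG) (isEqvRel a hfree)
    (orbit_condition a hG h3)
  refine ⟨M, m, hq, hpb, ?_⟩
  haveI : Surjective m.left := surjective_of_isQuotient _ _ m hq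
  haveI : Flat m.left := hm.2.1
  haveI : LocallyOfFinitePresentation m.left := hm.2.2
  refine ⟨Presieve.singleton m.left, m.left.singleton_mem_fppfPrecoverage, ?_⟩
  intro S' f hf
  obtain ⟨⟩ := hf
  exact ⟨𝟙 _, Category.id_comp _⟩

end Groth.Agent.Lib.T2H7.FreeQuot
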