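import Mathlib
import Groth.Prelude

/-!
# Frobenius height of an augmented algebra (helper7)

For an `R`-algebra `A` with an augmentation `ε : A →ₐ[R] R` in characteristic `p`: every element of
`ker ε` is killed by the `p ^ n`-th power map for some `n` iff `A` is finite with local geometric
fibres.
-/

set_option autoImplicit false
set_option linter.style.haveILetI false
set_option linter.unusedSectionVars false
universe u v w
open TensorProduct

namespace Groth.Agent.Lib.T2H7.FrobHeight

section Aug

variable (p : ℕ) [Fact p.Prime] (R : Type u) [CommRing R]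
  (A : Type u) [CommRing A] [Algebra R A] (ε : A →ₐ[R] R)

/-- `p`-th power sums in rings where `p = 0` -/
theorem sum_pow_char_pow' {S : Type*} [CommRing S] (hp0 : ((p : ℕ) : S) = 0) (n : ℕ) {ι : Type*}
    (s : Finset ι) (f : ι → S) : (∑ i ∈ s, f i) ^ p ^ n = ∑ i ∈ s, f i ^ p ^ n := by
  rcases subsingleton_or_nontrivial S with h | h
  · exact Subsingleton.elim _ _
  have : CharP S p := (CharP.charP_iff_prime_eq_zero Fact.out).mpr hp0
  exact sum_pow_char_pow p n s f

include ε in
/-- finite Frobenius height implies finiteness -/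
theorem finite_of_height [Algebra.FiniteType R A] (n : ℕ)
    (h : ∀ a : A, ε a = 0 → a ^ p ^ n = 0) : Module.Finite R A := by
  obtain ⟨s, hs⟩ := (Algebra.FiniteType.out : (⊤ : Subalgebra R A).FG)
  classical
  let s' : Finset A := s.image (fun x => x - algebraMap R A (ε x))
  have hs' : Algebra.adjoin R (s' : Set A) = ⊤ := by
    rw [eq_top_iff, ← hs]
    apply Algebra.adjoin_le
    intro x hx
    have h1 : x - algebraMap R A (ε x) ∈ Algebra.adjoin R (s' : Set A) :=
      Algebra.subset_adjoin (Finset.mem_image_of_mem _ hx)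
    have h2 : x = (x - algebraMap R A (ε x)) + algebraMap R A (ε x) := by ring
    rw [h2]
    exact Subalgebra.add_mem _ h1 (Subalgebra.algebraMap_mem _ _)
  have hint : ∀ y ∈ (s' : Set A), IsIntegral R y := by
    intro y hy
    obtain ⟨x, -, rfl⟩ := Finset.mem_image.mp hy
    have h0 : ε (x - algebraMap R A (ε x)) = 0 := by
      rw [map_sub, AlgHom.commutes, Algebra.algebraMap_self, RingHom.id_apply, sub_self]
    refine IsIntegral.of_pow (n := p ^ n) (pow_pos (Fact.out : p.Prime).pos n) ?_
    rw [h _ h0]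
    exact isIntegral_zero
  have hfg := fg_adjoin_of_finite s'.finite_toSet hint
  rw [hs'] at hfg
  exact ⟨by simpa using hfg⟩

/-- the base change of the augmentation -/
noncomputable def augK (K : Type v) [CommRing K] [Algebra R K] : K ⊗[R] A →ₐ[K] K :=
  Algebra.TensorProduct.lift (AlgHom.id K K) ((Algebra.ofId R K).comp ε) (fun _ _ => Commute.all _ _)

theorem augK_tmul (K : Type v) [CommRing K] [Algebra R K] (k : K) (a : A) :
    augK R A ε K (k ⊗ₜ[R] a) = k * algebraMap R K (ε a) := by
  simp [augK]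

/-- elements of the kernel of the base-changed augmentation are nilpotent -/
theorem sub_augK_pow_eq_zero (hpR : ((p : ℕ) : R) = 0) (n : ℕ)
    (h : ∀ a : A, ε a = 0 → a ^ p ^ n = 0)
    (K : Type v) [CommRing K] [Algebra R K] (x : K ⊗[R] A) :
    (x - algebraMap K (K ⊗[R] A) (augK R A ε K x)) ^ p ^ n = 0 := by
  have hpT : ((p : ℕ) : K ⊗[R] A) = 0 := by
    rw [← map_natCast (algebraMap R (K ⊗[R] A)), hpR, map_zero]
  induction x using TensorProduct.induction_on with
  | zero => simp [zero_pow (pow_pos (Fact.out : p.Prime).pos n).ne']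
  | tmul k a =>
    have h1 : k ⊗ₜ[R] a - algebraMap K (K ⊗[R] A) (augK R A ε K (k ⊗ₜ[R] a)) =
        k ⊗ₜ[R] (a - algebraMap R A (ε a)) := by
      rw [augK_tmul, Algebra.TensorProduct.algebraMap_apply, Algebra.algebraMap_self,
        RingHom.id_apply, TensorProduct.tmul_sub]
      congr 1
      rw [Algebra.algebraMap_eq_smul_one (ε a), Algebra.algebraMap_eq_smul_one (ε a),
        TensorProduct.tmul_smul, mul_smul_comm, mul_one, ← TensorProduct.smul_tmul']
    rw [h1, Algebra.TensorProduct.tmul_pow, h, TensorProduct.tmul_zero]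
    rw [map_sub, AlgHom.commutes, Algebra.algebraMap_self, RingHom.id_apply, sub_self]
  | add x y hx hy =>
    have h2 : (x + y) - algebraMap K (K ⊗[R] A) (augK R A ε K (x + y)) =
        (x - algebraMap K (K ⊗[R] A) (augK R A ε K x)) +
          (y - algebraMap K (K ⊗[R] A) (augK R A ε K y)) := by
      rw [map_add, map_add]
      ring
    rw [h2]
    have := sum_pow_char_pow' p hpT n (Finset.univ : Finset (Fin 2))
      ![x - algebraMap K (K ⊗[R] A) (augK R A ε K x), y - algebraMap K (K ⊗[R] A) (augK R A ε K y)]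
    simp only [Fin.sum_univ_two, Matrix.cons_val_zero, Matrix.cons_val_one] at this
    rw [this, hx, hy, add_zero]

/-- finite Frobenius height implies that the fibres over fields are local rings -/
theorem isLocalRing_tensor_of_height (hpR : ((p : ℕ) : R) = 0) (n : ℕ)
    (h : ∀ a : A, ε a = 0 → a ^ p ^ n = 0)
    (K : Type v) [Field K] [Algebra R K] : IsLocalRing (K ⊗[R] A) := by
  have hsurj : Function.Surjective (augK R A ε K) := fun k => ⟨k ⊗ₜ[R] 1, by simp [augK_tmul]⟩
  have : Nontrivial (K ⊗[R] A) := hsurj.nontrivial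
  refine IsLocalRing.of_isUnit_or_isUnit_one_sub_self fun x => ?_
  have hnil : IsNilpotent (x - algebraMap K (K ⊗[R] A) (augK R A ε K x)) :=
    ⟨p ^ n, sub_augK_pow_eq_zero p R A ε hpR n h K x⟩
  by_cases hx : augK R A ε K x = 0
  · right
    rw [hx, map_zero, sub_zero] at hnil
    exact hnil.isUnit_one_sub
  · left
    have hu : IsUnit (algebraMap K (K ⊗[R] A) (augK R A ε K x)) :=
      (IsUnit.mk0 _ hx).map _
    have : x = algebraMap K (K ⊗[R] A) (augK R A ε K x) +
        (x - algebraMap K (K ⊗[R] A) (augK R A ε K x)) := by ring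
    rw [this]
    exact hnil.isUnit_add_left_of_commute hu (Commute.all _ _)

/-- if the geometric fibres are local, the augmentation ideal lies in every prime -/
theorem mem_prime_of_isLocalRing_tensor
    (hloc : ∀ (K : Type u) [Field K] [IsAlgClosed K] [Algebra R K], IsLocalRing (K ⊗[R] A))
    (a : A) (ha : ε a = 0) (q : Ideal A) [q.IsPrime] : a ∈ q := by
  let L := AlgebraicClosure (FractionRing (A ⧸ q))
  let ψ₀ : A →+* L := (algebraMap (FractionRing (A ⧸ q)) L).comp
    ((algebraMap (A ⧸ q) (FractionRing (A ⧸ q))).comp (Ideal.Quotient.mk q))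
  letI algRL : Algebra R L := (ψ₀.comp (algebraMap R A)).toAlgebra
  let ψ : A →ₐ[R] L := { ψ₀ with commutes' := fun r => rfl }
  have hloc' := hloc L
  let χ : L ⊗[R] A →ₐ[L] L :=
    Algebra.TensorProduct.lift (AlgHom.id L L) ψ (fun _ _ => Commute.all _ _)
  have hχ : Function.Surjective χ := fun k => ⟨k ⊗ₜ[R] 1, by simp [χ]⟩
  have hε : Function.Surjective (augK R A ε L) := fun k => ⟨k ⊗ₜ[R] 1, by simp [augK_tmul]⟩
  have m1 : (RingHom.ker χ.toRingHom).IsMaximal := RingHom.ker_isMaximal_of_surjective _ hχ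
  have m2 : (RingHom.ker (augK R A ε L).toRingHom).IsMaximal :=
    RingHom.ker_isMaximal_of_surjective _ hε
  have heq : RingHom.ker χ.toRingHom = RingHom.ker (augK R A ε L).toRingHom := by
    rw [IsLocalRing.eq_maximalIdeal m1, IsLocalRing.eq_maximalIdeal m2]
  have h1 : (1 : L) ⊗ₜ[R] a ∈ RingHom.ker (augK R A ε L).toRingHom := by
    rw [RingHom.mem_ker]
    change augK R A ε L ((1 : L) ⊗ₜ[R] a) = 0
    rw [augK_tmul, ha, map_zero, mul_zero]
  rw [← heq, RingHom.mem_ker] at h1
  have h2 : ψ₀ a = 0 := by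
    have : χ ((1 : L) ⊗ₜ[R] a) = ψ a := by simp [χ]
    change ψ a = 0
    rw [← this]
    exact h1
  have h3 : Ideal.Quotient.mk q a = 0 := by
    have hinj : Function.Injective ((algebraMap (FractionRing (A ⧸ q)) L).comp
        (algebraMap (A ⧸ q) (FractionRing (A ⧸ q)))) :=
      (algebraMap (FractionRing (A ⧸ q)) L).injective.comp (IsFractionRing.injective _ _)
    apply hinj
    rw [map_zero]
    exact h2
  exact Ideal.Quotient.eq_zero_iff_mem.mp h3

/-- finite with local geometric fibres implies finite Frobenius height -/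
theorem exists_height_of_isLocalRing_tensor (hpR : ((p : ℕ) : R) = 0) [IsNoetherianRing A]
    (hloc : ∀ (K : Type u) [Field K] [IsAlgClosed K] [Algebra R K], IsLocalRing (K ⊗[R] A)) :
    ∃ n : ℕ, ∀ a : A, ε a = 0 → a ^ p ^ n = 0 := by
  have hpA : ((p : ℕ) : A) = 0 := by rw [← map_natCast (algebraMap R A), hpR, map_zero]
  have hnil : ∀ a : A, ε a = 0 → IsNilpotent a := by
    intro a ha
    rw [nilpotent_iff_mem_prime]
    intro q hq
    exact mem_prime_of_isLocalRing_tensor R A ε hloc a ha q
  obtain ⟨s, hs⟩ := (IsNoetherian.noetherian (RingHom.ker ε.toRingHom) : (RingHom.ker ε.toRingHom).FG)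
  have hsI : ∀ x ∈ s, ε x = 0 := by
    intro x hx
    have : x ∈ RingHom.ker ε.toRingHom := by
      rw [← hs]
      exact Submodule.subset_span hx
    exact this
  choose! N hN using fun x (hx : x ∈ s) => hnil x (hsI x hx)
  obtain ⟨n, hn⟩ : ∃ n : ℕ, ∀ x ∈ s, N x ≤ p ^ n := by
    refine ⟨s.sup N, fun x hx => ?_⟩
    exact (Finset.le_sup hx).trans (Nat.lt_pow_self (Fact.out : p.Prime).one_lt).le
  refine ⟨n, fun a ha => ?_⟩
  have haI : a ∈ Submodule.span A (s : Set A) := by
    rw [hs]
    exact ha
  obtain ⟨f, -, rfl⟩ := Submodule.mem_span_finset.mp haI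
  rw [sum_pow_char_pow' p hpA n]
  refine Finset.sum_eq_zero fun x hx => ?_
  rw [smul_eq_mul, mul_pow, ← Nat.sub_add_cancel (hn x hx), pow_add (x), hN x hx, mul_zero,
    mul_zero]

end Aug

end Groth.Agent.Lib.T2H7.FrobHeight
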