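import Mathlib

/-!
# Frobenius-semilinear endomorphisms over a separably closed field

Let `k` be a separably closed field of characteristic `p`, `V` a finite dimensional `k`-vector
space and `T` a Frobenius-semilinear endomorphism of `V` whose values span `V`.  Then `T - 1` is
surjective and has exactly `p ^ dim V` fixed points.
-/

set_option autoImplicit false

noncomputable section

namespace Groth.Agent.Lib.T2H7.FrobMod

open Polynomial

/-! ### an extension of additive groups with compatible endomorphisms -/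

section Ext

variable {A B C : Type*} [AddCommGroup A] [AddCommGroup B] [AddCommGroup C]
  (ι : A →+ B) (π : B →+ C) (fA : A →+ A) (fB : B →+ B) (fC : C →+ C)

theorem surjective_of_ext (hπ : Function.Surjective π)
    (hex : ∀ b, π b = 0 → ∃ a, ι a = b)
    (hι : ∀ a, fB (ι a) = ι (fA a)) (hπf : ∀ b, π (fB b) = fC (π b))
    (hA : Function.Surjective fA) (hC : Function.Surjective fC) : Function.Surjective fB := by
  intro b
  obtain ⟨c', hc'⟩ := hC (π b)
  obtain ⟨b', hb'⟩ := hπ c'
  have h1 : π (fB b' - b) = 0 := by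
    rw [map_sub, hπf, hb', hc', sub_self]
  obtain ⟨a, ha⟩ := hex _ h1
  obtain ⟨a', ha'⟩ := hA a
  refine ⟨b' - ι a', ?_⟩
  rw [map_sub, hι, ha', ha]
  abel

theorem card_ker_of_ext (hι0 : Function.Injective ι) (hπ : Function.Surjective π)
    (hπι : ∀ a, π (ι a) = 0) (hex : ∀ b, π b = 0 → ∃ a, ι a = b)
    (hι : ∀ a, fB (ι a) = ι (fA a)) (hπf : ∀ b, π (fB b) = fC (π b))
    (hA : Function.Surjective fA) :
    Nat.card fB.ker = Nat.card fA.ker * Nat.card fC.ker := by
  let g : fB.ker →+ fC.ker :=
    (π.comp fB.ker.subtype).codRestrict fC.ker (fun b => by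
      rw [AddMonoidHom.mem_ker, AddMonoidHom.comp_apply, AddSubgroup.coe_subtype, ← hπf, b.2,
        map_zero])
  have hg : ∀ b : fB.ker, ((g b : fC.ker) : C) = π (b : B) := fun b => rfl
  have hgs : Function.Surjective g := by
    rintro ⟨c, hc⟩
    obtain ⟨b, hb⟩ := hπ c
    have h1 : π (fB b) = 0 := by rw [hπf, hb]; exact hc
    obtain ⟨a, ha⟩ := hex _ h1
    obtain ⟨a', ha'⟩ := hA a
    have h2 : fB (b - ι a') = 0 := by rw [map_sub, hι, ha', ha, sub_self]
    refine ⟨⟨b - ι a', h2⟩, ?_⟩
    apply Subtype.ext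
    rw [hg]
    change π (b - ι a') = c
    rw [map_sub, hπι, sub_zero, hb]
  have e : fA.ker ≃ g.ker := by
    refine Equiv.ofBijective (fun a => ⟨⟨ι a.1, by
      rw [AddMonoidHom.mem_ker, hι, a.2, map_zero]⟩, by
      rw [AddMonoidHom.mem_ker]
      apply Subtype.ext
      rw [hg]
      exact hπι _⟩) ⟨?_, ?_⟩
    · intro a a' h
      apply Subtype.ext
      apply hι0
      exact congrArg (fun z : g.ker => ((z : fB.ker) : B)) h
    · rintro ⟨⟨b, hb⟩, hbk⟩
      have h1 : π b = 0 := by
        have := congrArg (fun z : fC.ker => (z : C)) (AddMonoidHom.mem_ker.mp hbk)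
        exact this
      obtain ⟨a, ha⟩ := hex b h1
      have h2 : fA a = 0 := by
        apply hι0
        rw [← hι, ha, map_zero]
        exact hb
      refine ⟨⟨a, h2⟩, ?_⟩
      apply Subtype.ext
      apply Subtype.ext
      exact ha
  have h3 := AddSubgroup.card_mul_index g.ker
  rw [AddSubgroup.index_ker, AddMonoidHom.range_eq_top.mpr hgs, AddSubgroup.card_top,
    ← Nat.card_congr e] at h3
  exact h3.symm

end Ext

/-! ### semilinear endomorphisms -/

section Semilinear

variable {k : Type*} [Field k] (p : ℕ) [Fact p.Prime] [CharP k p]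
  {V : Type*} [AddCommGroup V] [Module k V]

theorem map_smul_pow (T : V →ₛₗ[frobenius k p] V) (c : k) (v : V) : T (c • v) = c ^ p • T v := by
  rw [map_smulₛₗ, frobenius_def]

theorem map_sum_smul {ι : Type*} (s : Finset ι) (T : V →ₛₗ[frobenius k p] V) (c : ι → k)
    (v : ι → V) : T (∑ i ∈ s, c i • v i) = ∑ i ∈ s, c i ^ p • T (v i) := by
  rw [map_sum]
  exact Finset.sum_congr rfl fun i _ => map_smul_pow p T _ _

/-- a semilinear endomorphism whose values span is injective -/
theorem injective_of_span [FiniteDimensional k V] (T : V →ₛₗ[frobenius k p] V)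
    (hspan : Submodule.span k (Set.range T) = ⊤) : Function.Injective T := by
  classical
  set b := Module.finBasis k V with hb
  have hsp : ⊤ ≤ Submodule.span k (Set.range (fun i => T (b i))) := by
    rw [← hspan]
    apply Submodule.span_le.mpr
    rintro _ ⟨v, rfl⟩
    have h1 : v = ∑ i, b.repr v i • b i := (b.sum_repr v).symm
    rw [h1, map_sum_smul]
    exact Submodule.sum_mem _ fun i _ =>
      Submodule.smul_mem _ _ (Submodule.subset_span ⟨i, rfl⟩)
  have hli : LinearIndependent k (fun i => T (b i)) :=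
    linearIndependent_of_top_le_span_of_card_eq_finrank hsp (by simp)
  rw [injective_iff_map_eq_zero]
  intro v hv
  have h1 : v = ∑ i, b.repr v i • b i := (b.sum_repr v).symm
  rw [h1, map_sum_smul] at hv
  have h2 := Fintype.linearIndependent_iff.mp hli (fun i => b.repr v i ^ p) hv
  rw [h1]
  refine Finset.sum_eq_zero fun i _ => ?_
  rw [pow_eq_zero_iff (Fact.out : p.Prime).ne_zero |>.mp (h2 i), zero_smul]

/-! ### the Artin-Schreier map -/

/-- the additive map `c ↦ c ^ p - c` -/
def AS : k →+ k := (frobenius k p : k →+ k) - AddMonoidHom.id k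

theorem AS_apply (c : k) : AS p c = c ^ p - c := by
  simp [AS, frobenius_def]

theorem AS_surjective [IsSepClosed k] : Function.Surjective (AS (k := k) p) := by
  intro c
  have hp : p.Prime := Fact.out
  have hd : derivative (X ^ p - X - C c : k[X]) = -1 := by
    rw [derivative_sub, derivative_sub, derivative_C, derivative_X, derivative_X_pow,
      CharP.cast_eq_zero k p, C_0, zero_mul, sub_zero, zero_sub]
  have hsep : (X ^ p - X - C c : k[X]).Separable := by
    rw [separable_def, hd]
    exact isCoprime_one_right.neg_right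
  have hdeg : (X ^ p - X - C c : k[X]).degree ≠ 0 := by
    have h1 : (X ^ p - X - C c : k[X]) = X ^ p - (X + C c) := by ring
    have h2 : (X ^ p - (X + C c) : k[X]).degree = (p : WithBot ℕ) := by
      rw [degree_sub_eq_left_of_degree_lt, degree_X_pow]
      rw [degree_X_pow, degree_X_add_C]
      exact_mod_cast hp.one_lt
    rw [h1, h2]
    exact_mod_cast hp.ne_zero
  obtain ⟨x, hx⟩ := IsSepClosed.exists_root _ hdeg hsep
  refine ⟨x, ?_⟩
  rw [AS_apply]
  rw [IsRoot.def, eval_sub, eval_sub, eval_pow, eval_X, eval_C, sub_eq_zero] at hx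
  exact hx

theorem card_ker_AS : Nat.card (AS (k := k) p).ker = p := by
  refine Eq.trans (Nat.card_congr ?_) (Subfield.card_bot k p)
  refine Equiv.subtypeEquivRight fun x => ?_
  rw [AddMonoidHom.mem_ker, AS_apply, sub_eq_zero]
  exact (Subfield.mem_bot_iff_pow_eq_self k p).symm

end Semilinear

/-! ### existence of a fixed vector -/

section Fixed

variable {k : Type*} [Field k] (p : ℕ) [Fact p.Prime] [CharP k p]
  {V : Type*} [AddCommGroup V] [Module k V]

/-- a cyclic relation `T^[r+1] u = ∑ a i • T^[i] u` with the `T^[i] u`, `i ≤ r`, independent -/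
def IsRel (T : V →ₛₗ[frobenius k p] V) (r : ℕ) (u : V) (a : Fin (r + 1) → k) : Prop :=
  LinearIndependent k (fun i : Fin (r + 1) => (⇑T)^[(i : ℕ)] u) ∧
    (⇑T)^[r + 1] u = ∑ i : Fin (r + 1), a i • (⇑T)^[(i : ℕ)] u

theorem exists_isRel [FiniteDimensional k V] (T : V →ₛₗ[frobenius k p] V) (u : V) (hu : u ≠ 0) :
    ∃ (r : ℕ) (a : Fin (r + 1) → k), IsRel p T r u a := by
  classical
  have hex : ∃ m, ¬ LinearIndependent k (fun i : Fin (m + 1) => (⇑T)^[(i : ℕ)] u) := by
    refine ⟨Module.finrank k V, fun h => ?_⟩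
    have h1 := h.fintype_card_le_finrank
    rw [Fintype.card_fin] at h1
    omega
  have hspec := Nat.find_spec hex
  have hm0 : Nat.find hex ≠ 0 := by
    intro h0
    rw [h0] at hspec
    apply hspec
    rw [Fintype.linearIndependent_iff]
    intro g hg i
    rw [Fin.sum_univ_succ, Fin.sum_univ_zero, add_zero] at hg
    have h1 : g 0 = 0 := (smul_eq_zero.mp hg).resolve_right hu
    have h2 : i = 0 := Fin.eq_zero i
    rw [h2, h1]
  obtain ⟨r, hr⟩ := Nat.exists_eq_succ_of_ne_zero hm0
  have hli : LinearIndependent k (fun i : Fin (r + 1) => (⇑T)^[(i : ℕ)] u) := by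
    have h1 := Nat.find_min hex (m := r) (by omega)
    exact not_not.mp h1
  rw [hr] at hspec
  have hsn : (fun i : Fin (r + 1 + 1) => (⇑T)^[(i : ℕ)] u) =
      Fin.snoc (fun i : Fin (r + 1) => (⇑T)^[(i : ℕ)] u) ((⇑T)^[r + 1] u) := by
    ext i
    refine Fin.lastCases ?_ (fun j => ?_) i
    · rw [Fin.snoc_last]
      rfl
    · rw [Fin.snoc_castSucc]
      rfl
  rw [Nat.succ_eq_add_one, hsn, linearIndependent_finSnoc, not_and, not_not] at hspec
  obtain ⟨a, ha⟩ := (Submodule.mem_span_range_iff_exists_fun k).mp (hspec hli)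
  exact ⟨r, a, hli, ha.symm⟩

theorem exists_isRel_ne_zero (T : V →ₛₗ[frobenius k p] V) (hinj : Function.Injective T) :
    ∀ (r : ℕ) (u : V) (a : Fin (r + 1) → k), IsRel p T r u a →
      ∃ (r' : ℕ) (u' : V) (a' : Fin (r' + 1) → k), IsRel p T r' u' a' ∧ a' 0 ≠ 0 := by
  intro r
  induction r with
  | zero =>
    intro u a h
    by_cases h0 : a 0 = 0
    · exfalso
      have h2 := h.2
      rw [Fin.sum_univ_succ, h0, zero_smul, Fin.sum_univ_zero, add_zero, zero_add,
        Function.iterate_one] at h2
      have h3 : u = 0 := hinj (by rw [h2, map_zero])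
      exact h.1.ne_zero 0 h3
    · exact ⟨0, u, a, h, h0⟩
  | succ r ih =>
    intro u a h
    by_cases h0 : a 0 = 0
    · apply ih (T u) (fun i => a i.succ)
      constructor
      · have h1 : (fun i : Fin (r + 1) => (⇑T)^[(i : ℕ)] (T u)) =
            (fun i : Fin (r + 1 + 1) => (⇑T)^[(i : ℕ)] u) ∘ Fin.succ := by
          ext i
          simp only [Function.comp_apply, Fin.val_succ, Function.iterate_succ_apply]
        rw [h1]
        exact h.1.comp _ (Fin.succ_injective _)
      · have h2 := h.2
        rw [Fin.sum_univ_succ, h0, zero_smul, zero_add] at h2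
        rw [← Function.iterate_succ_apply, h2]
        refine Finset.sum_congr rfl fun i _ => ?_
        rw [Fin.val_succ, Function.iterate_succ_apply]
    · exact ⟨r + 1, u, a, h, h0⟩

/-- the polynomials giving the coordinates of a fixed vector in terms of the last one -/
def gpoly (a : ℕ → k) : ℕ → k[X]
  | 0 => C (a 0) * X ^ p
  | i + 1 => gpoly a i ^ p + C (a (i + 1)) * X ^ p

theorem derivative_gpoly (a : ℕ → k) (i : ℕ) : derivative (gpoly p a i) = 0 := by
  induction i with
  | zero =>
    rw [gpoly, derivative_C_mul_X_pow, CharP.cast_eq_zero k p, mul_zero, C_0, zero_mul]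
  | succ i ih =>
    rw [gpoly, derivative_add, derivative_pow, ih, mul_zero, derivative_C_mul_X_pow,
      CharP.cast_eq_zero k p, mul_zero, C_0, zero_mul, add_zero]

theorem eval_zero_gpoly (a : ℕ → k) (i : ℕ) : (gpoly p a i).eval 0 = 0 := by
  have hp : p ≠ 0 := (Fact.out : p.Prime).ne_zero
  induction i with
  | zero => rw [gpoly, eval_mul, eval_pow, eval_X, zero_pow hp, mul_zero]
  | succ i ih =>
    rw [gpoly, eval_add, eval_pow, ih, zero_pow hp, eval_mul, eval_pow, eval_X, zero_pow hp,
      mul_zero, add_zero]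

theorem natDegree_gpoly_le (a : ℕ → k) (i : ℕ) : (gpoly p a i).natDegree ≤ p ^ (i + 1) := by
  have hp : 1 ≤ p := (Fact.out : p.Prime).one_le
  induction i with
  | zero =>
    rw [gpoly, zero_add, pow_one]
    exact natDegree_C_mul_X_pow_le _ _
  | succ i ih =>
    rw [gpoly]
    refine (natDegree_add_le _ _).trans (max_le ?_ ?_)
    · refine natDegree_pow_le.trans ?_
      rw [pow_succ p (i + 1), mul_comm]
      exact Nat.mul_le_mul_right _ ih
    · refine (natDegree_C_mul_X_pow_le _ _).trans ?_
      calc p = p ^ 1 := (pow_one p).symm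
        _ ≤ p ^ (i + 1 + 1) := Nat.pow_le_pow_right hp (by omega)

theorem coeff_gpoly (a : ℕ → k) (i : ℕ) : (gpoly p a i).coeff (p ^ (i + 1)) = a 0 ^ p ^ i := by
  have hp : 2 ≤ p := (Fact.out : p.Prime).two_le
  induction i with
  | zero =>
    rw [gpoly, zero_add, pow_one, coeff_C_mul_X_pow, if_pos rfl, pow_zero, pow_one]
  | succ i ih =>
    rw [gpoly, coeff_add]
    have h1 : p ^ (i + 1 + 1) = p * p ^ (i + 1) := by rw [pow_succ p (i + 1), mul_comm]
    have h2 : (gpoly p a i ^ p).coeff (p ^ (i + 1 + 1)) = a 0 ^ p ^ (i + 1) := by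
      rw [h1, coeff_pow_of_natDegree_le (natDegree_gpoly_le p a i), ih, ← pow_mul, pow_succ p i]
    have h3 : p ^ (i + 1 + 1) ≠ p := by
      have h4 : p ^ 1 < p ^ (i + 1 + 1) := Nat.pow_lt_pow_right (by omega) (by omega)
      rw [pow_one] at h4
      omega
    rw [h2, coeff_C_mul_X_pow, if_neg h3, add_zero]

theorem exists_fixed_of_isRel [IsSepClosed k] (T : V →ₛₗ[frobenius k p] V) (r : ℕ) (u : V)
    (a : Fin (r + 1) → k) (h : IsRel p T r u a) (h0 : a 0 ≠ 0) : ∃ v : V, v ≠ 0 ∧ T v = v := by
  classical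
  have hp : 2 ≤ p := (Fact.out : p.Prime).two_le
  set a' : ℕ → k := fun i => if hi : i < r + 1 then a ⟨i, hi⟩ else 0 with ha'
  have ha'0 : a' 0 = a 0 := by
    rw [ha']
    simp only [Nat.zero_lt_succ, dite_true]
    rfl
  have ha's : ∀ i : Fin r, a' ((i : ℕ) + 1) = a i.succ := by
    intro i
    rw [ha']
    have hi : (i : ℕ) + 1 < r + 1 := by omega
    simp only [hi, dite_true]
    rfl
  set P : k[X] := gpoly p a' r - X with hP
  have hP0 : P.coeff 0 = 0 := by
    rw [coeff_zero_eq_eval_zero, hP, eval_sub, eval_zero_gpoly, eval_X, sub_zero]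
  have hdP : derivative P = -1 := by
    rw [hP, derivative_sub, derivative_gpoly, derivative_X, zero_sub]
  have hsep : P.Separable := by
    rw [separable_def, hdP]
    exact isCoprime_one_right.neg_right
  have hPQ : P.divX * X = P := by
    have h1 := divX_mul_X_add P
    rwa [hP0, C_0, add_zero] at h1
  have hQsep : P.divX.Separable := by
    rw [← hPQ] at hsep
    exact hsep.of_mul_left
  have hbig : 2 ≤ p ^ (r + 1) := by
    calc 2 ≤ p := hp
      _ = p ^ 1 := (pow_one p).symm
      _ ≤ p ^ (r + 1) := Nat.pow_le_pow_right (by omega) (by omega)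
  have hQc : P.divX.coeff (p ^ (r + 1) - 1) ≠ 0 := by
    rw [coeff_divX, Nat.sub_add_cancel (by omega), hP, coeff_sub, coeff_gpoly, ha'0, coeff_X,
      if_neg (by omega), sub_zero]
    exact pow_ne_zero _ h0
  have hQdeg : P.divX.degree ≠ 0 := by
    intro hd
    rw [eq_C_of_degree_eq_zero hd, coeff_C, if_neg (by omega)] at hQc
    exact hQc rfl
  obtain ⟨y, hy⟩ := IsSepClosed.exists_root _ hQdeg hQsep
  have hg1 : (gpoly p a' r).coeff 1 = 0 := by
    have h1 := congrArg (fun q : k[X] => q.coeff 0) (derivative_gpoly p a' r)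
    simp only [coeff_derivative, coeff_zero] at h1
    simpa using h1
  have hy0 : y ≠ 0 := by
    rintro rfl
    rw [IsRoot.def, ← coeff_zero_eq_eval_zero, coeff_divX, zero_add, hP, coeff_sub, hg1,
      coeff_X_one, zero_sub] at hy
    exact one_ne_zero (neg_eq_zero.mp hy)
  have hyP : (gpoly p a' r).eval y = y := by
    have h1 : P.eval y = 0 := by
      rw [← hPQ, eval_mul, hy, zero_mul]
    rw [hP, eval_sub, eval_X, sub_eq_zero] at h1
    exact h1
  set c : ℕ → k := fun i => (gpoly p a' i).eval y with hc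
  have hc0 : c 0 = a 0 * y ^ p := by
    rw [hc]
    simp only [gpoly, eval_mul, eval_C, eval_pow, eval_X, ha'0]
  have hcs : ∀ i : Fin r, c ((i : ℕ) + 1) = c i ^ p + a i.succ * y ^ p := by
    intro i
    rw [hc]
    simp only [gpoly, eval_add, eval_mul, eval_C, eval_pow, eval_X, ha's]
  have hcr : c r = y := hyP
  refine ⟨∑ i : Fin (r + 1), c i • (⇑T)^[(i : ℕ)] u, ?_, ?_⟩
  · intro hx
    have h1 := Fintype.linearIndependent_iff.mp h.1 (fun i => c i) hx (Fin.last r)
    rw [Fin.val_last, hcr] at h1
    exact hy0 h1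
  · rw [map_sum_smul]
    have h1 : ∀ i : Fin (r + 1), T ((⇑T)^[(i : ℕ)] u) = (⇑T)^[(i : ℕ) + 1] u := fun i =>
      (Function.iterate_succ_apply' _ _ _).symm
    simp only [h1]
    rw [Fin.sum_univ_castSucc, Fin.val_last, hcr, h.2, Fin.sum_univ_succ,
      Fin.sum_univ_succ (f := fun i : Fin (r + 1) => c i • (⇑T)^[(i : ℕ)] u)]
    simp only [Fin.val_zero, Fin.val_succ, Fin.val_castSucc, Function.iterate_zero, id_eq]
    rw [smul_add, Finset.smul_sum, hc0, add_comm, add_assoc, ← Finset.sum_add_distrib, mul_smul,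
      smul_comm (y ^ p) (a 0)]
    congr 1
    refine Finset.sum_congr rfl fun i _ => ?_
    rw [hcs, add_smul, mul_smul, smul_comm (y ^ p) (a i.succ), add_comm]

end Fixed

/-! ### the theorem over a separably closed field -/

section Main

universe v

variable {k : Type*} [Field k] (p : ℕ) [Fact p.Prime] [CharP k p] [IsSepClosed k]

theorem card_fixed_eq_card_ker {V : Type*} [AddCommGroup V] [Module k V]
    (T : V →ₛₗ[frobenius k p] V) :
    Nat.card {m : V // T m = m} = Nat.card (T.toAddMonoidHom - AddMonoidHom.id V).ker := by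
  apply Nat.card_congr
  refine Equiv.subtypeEquivRight fun m => ?_
  rw [AddMonoidHom.mem_ker, AddMonoidHom.sub_apply, sub_eq_zero]
  rfl

theorem field_case (n : ℕ) : ∀ (V : Type v) [AddCommGroup V] [Module k V]
    [FiniteDimensional k V] (T : V →ₛₗ[frobenius k p] V),
    Submodule.span k (Set.range T) = ⊤ → Module.finrank k V = n →
    Function.Surjective (fun m => T m - m) ∧ Nat.card {m : V // T m = m} = p ^ n := by
  induction n with
  | zero =>
    intro V _ _ _ T _ hn
    haveI : Subsingleton V := Module.finrank_zero_iff.mp hn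
    refine ⟨fun b => ⟨0, Subsingleton.elim _ _⟩, ?_⟩
    rw [pow_zero]
    haveI : Unique {m : V // T m = m} :=
      ⟨⟨⟨0, Subsingleton.elim _ _⟩⟩, fun _ => Subsingleton.elim _ _⟩
    exact Nat.card_unique
  | succ n ih =>
    intro V _ _ _ T hspan hn
    haveI : Nontrivial V := (Module.finrank_pos_iff (R := k) (M := V)).mp (by rw [hn]; omega)
    have hinj := injective_of_span p T hspan
    obtain ⟨u, hu⟩ := exists_ne (0 : V)
    obtain ⟨r, a, hrel⟩ := exists_isRel p T u hu
    obtain ⟨r', u', a', hrel', ha'⟩ := exists_isRel_ne_zero p T hinj r u a hrel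
    obtain ⟨v, hv0, hTv⟩ := exists_fixed_of_isRel p T r' u' a' hrel' ha'
    set L : Submodule k V := Submodule.span k {v} with hLdef
    have hL : L ≤ L.comap T := by
      intro x hx
      obtain ⟨c, rfl⟩ := Submodule.mem_span_singleton.mp hx
      rw [Submodule.mem_comap, map_smul_pow, hTv]
      exact Submodule.smul_mem _ _ (Submodule.mem_span_singleton_self v)
    set T' : V ⧸ L →ₛₗ[frobenius k p] V ⧸ L := L.mapQ L T hL with hT'
    have hT'mk : ∀ x : V, T' (Submodule.Quotient.mk x) = Submodule.Quotient.mk (T x) :=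
      fun x => Submodule.mapQ_apply L L T x
    have hspan' : Submodule.span k (Set.range T') = ⊤ := by
      rw [eq_top_iff]
      rintro x -
      obtain ⟨x, rfl⟩ := Submodule.Quotient.mk_surjective L x
      have hx : x ∈ Submodule.span k (Set.range T) := by
        rw [hspan]
        trivial
      induction hx using Submodule.span_induction with
      | mem y hy =>
        obtain ⟨z, rfl⟩ := hy
        exact Submodule.subset_span ⟨Submodule.Quotient.mk z, hT'mk z⟩
      | zero => exact Submodule.zero_mem _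
      | add y z _ _ hy hz =>
        rw [Submodule.Quotient.mk_add]
        exact Submodule.add_mem _ hy hz
      | smul c y _ hy =>
        rw [Submodule.Quotient.mk_smul]
        exact Submodule.smul_mem _ c hy
    have hfr : Module.finrank k (V ⧸ L) = n := by
      have h1 := Submodule.finrank_quotient_add_finrank L
      have h2 : Module.finrank k L = 1 := finrank_span_singleton hv0
      rw [h2, hn] at h1
      omega
    obtain ⟨hs', hc'⟩ := ih (V ⧸ L) T' hspan' hfr
    let ι : k →+ V := (LinearMap.toSpanSingleton k V v).toAddMonoidHom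
    let π : V →+ V ⧸ L := L.mkQ.toAddMonoidHom
    let fB : V →+ V := T.toAddMonoidHom - AddMonoidHom.id V
    let fC : V ⧸ L →+ V ⧸ L := T'.toAddMonoidHom - AddMonoidHom.id (V ⧸ L)
    have hιa : ∀ c : k, ι c = c • v := fun c => rfl
    have hπa : ∀ b : V, π b = Submodule.Quotient.mk b := fun b => rfl
    have hfB : ∀ b : V, fB b = T b - b := fun b => rfl
    have hfC : ∀ b : V ⧸ L, fC b = T' b - b := fun b => rfl
    have hπs : Function.Surjective π := L.mkQ_surjective
    have hι0 : Function.Injective ι := smul_left_injective k hv0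
    have hπι : ∀ c, π (ι c) = 0 := by
      intro c
      rw [hπa, hιa, Submodule.Quotient.mk_eq_zero]
      exact Submodule.smul_mem _ _ (Submodule.mem_span_singleton_self v)
    have hex : ∀ b, π b = 0 → ∃ c, ι c = b := by
      intro b hb
      rw [hπa, Submodule.Quotient.mk_eq_zero] at hb
      obtain ⟨c, hc⟩ := Submodule.mem_span_singleton.mp hb
      exact ⟨c, hc⟩
    have hι : ∀ c, fB (ι c) = ι (AS p c) := by
      intro c
      rw [hfB, hιa, hιa, map_smul_pow, hTv, AS_apply, sub_smul]
    have hπf : ∀ b, π (fB b) = fC (π b) := by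
      intro b
      rw [hfB, hfC, hπa, hπa, hT'mk, Submodule.Quotient.mk_sub]
    have hC : Function.Surjective fC := hs'
    have hsurj := surjective_of_ext ι π (AS p) fB fC hπs hex hι hπf (AS_surjective p) hC
    have hcard := card_ker_of_ext ι π (AS p) fB fC hι0 hπs hπι hex hι hπf (AS_surjective p)
    refine ⟨hsurj, ?_⟩
    rw [card_fixed_eq_card_ker]
    rw [card_fixed_eq_card_ker] at hc'
    rw [hcard, card_ker_AS, hc', pow_succ']

end Main

end Groth.Agent.Lib.T2H7.FrobMod
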