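import Groth.Agent.Lib.T2H7FrobMod
import Groth.Agent.Lib.Helper3HenselN
import Mathlib

/-!
# Frobenius-semilinear endomorphisms of free modules over a strictly henselian local ring

The system `∑_j a i j x_j ^ p - x_i = β_i` defines an étale algebra (its Jacobian matrix is `-1`
in characteristic `p`), so its solutions in a henselian local ring correspond to its solutions in
the residue field.
-/

set_option autoImplicit false

noncomputable section

namespace Groth.Agent.Lib.T2H7.FrobModH

open MvPolynomial IsLocalRing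

universe u v

section Eqs

variable {R : Type u} [CommRing R] (p : ℕ) [Fact p.Prime] [CharP R p] (n : ℕ)
  (a : Fin n → Fin n → R) (β : Fin n → R)

/-- the equations `∑_j a i j x_j ^ p - x_i = β_i` -/
def vrel (i : Fin n) : MvPolynomial (Fin n) R :=
  ∑ j, C (a i j) * X j ^ p - X i - C (β i)

theorem pderiv_vrel (i l : Fin n) :
    pderiv l (vrel p n a β i) = if i = l then -1 else 0 := by
  classical
  have hp0 : ((p : ℕ) : MvPolynomial (Fin n) R) = 0 := CharP.cast_eq_zero _ p
  have h1 : ∀ j : Fin n, pderiv l (C (a i j) * X j ^ p) = 0 := by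
    intro j
    rw [Derivation.leibniz, pderiv_C, smul_zero, add_zero, Derivation.leibniz_pow, nsmul_eq_mul,
      hp0, zero_mul, smul_zero]
  rw [vrel, map_sub, map_sub, pderiv_C, sub_zero, map_sum, Finset.sum_congr rfl fun j _ => h1 j,
    Finset.sum_const_zero, zero_sub, pderiv_X, Pi.single_apply]
  split_ifs <;> simp_all

/-- the algebra of the system -/
abbrev EAlg : Type u := MvPolynomial (Fin n) R ⧸ Ideal.span (Set.range (vrel p n a β))

/-- the naive presentation of the algebra of the system -/
def pres : Algebra.PreSubmersivePresentation R (EAlg p n a β) (Fin n) (Fin n) :=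
  Algebra.PreSubmersivePresentation.naive (v := vrel p n a β) id Function.injective_id

theorem jacobiMatrix_pres : (pres p n a β).jacobiMatrix = -1 := by
  ext i j
  rw [pres, Algebra.PreSubmersivePresentation.jacobiMatrix_naive, id, pderiv_vrel,
    Matrix.neg_apply, Matrix.one_apply]
  split_ifs <;> simp_all

/-- the submersive presentation of the algebra of the system -/
def spres : Algebra.SubmersivePresentation R (EAlg p n a β) (Fin n) (Fin n) where
  toPreSubmersivePresentation := pres p n a β
  jacobian_isUnit := by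
    rw [Algebra.PreSubmersivePresentation.jacobian_eq_jacobiMatrix_det, jacobiMatrix_pres,
      Matrix.det_neg, Matrix.det_one, mul_one]
    exact ((isUnit_one.neg).pow _).map _

theorem etale_EAlg : Algebra.Etale R (EAlg p n a β) := by
  haveI : Algebra.IsStandardSmoothOfRelativeDimension 0 R (EAlg p n a β) :=
    (spres p n a β).isStandardSmoothOfRelativeDimension (by
      simp [Algebra.Presentation.dimension])
  infer_instance

end Eqs

/-! ### solutions and algebra maps -/

section Sol

variable {R : Type u} [CommRing R] (p : ℕ) (n : ℕ) (a : Fin n → Fin n → R) (β : Fin n → R)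
  {S : Type*} [CommRing S] [Algebra R S]

/-- `x` solves the system in the `R`-algebra `S` -/
def IsSol (x : Fin n → S) : Prop :=
  ∀ i, ∑ j, algebraMap R S (a i j) * x j ^ p - x i - algebraMap R S (β i) = 0

theorem aeval_vrel (x : Fin n → S) (i : Fin n) :
    aeval x (vrel p n a β i) = ∑ j, algebraMap R S (a i j) * x j ^ p - x i - algebraMap R S (β i) := by
  rw [vrel, map_sub, map_sub, map_sum, aeval_X, aeval_C]
  congr 2
  refine Finset.sum_congr rfl fun j _ => ?_
  rw [map_mul, map_pow, aeval_X, aeval_C]

variable {p n a β}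

/-- the algebra map given by a solution -/
def solHom (x : Fin n → S) (hx : IsSol p n a β x) : EAlg p n a β →ₐ[R] S :=
  Ideal.Quotient.liftₐ _ (aeval x) (by
    have hle : Ideal.span (Set.range (vrel p n a β)) ≤ RingHom.ker (aeval x : _ →ₐ[R] S) := by
      rw [Ideal.span_le]
      rintro _ ⟨i, rfl⟩
      rw [SetLike.mem_coe, RingHom.mem_ker, aeval_vrel]
      exact hx i
    intro q hq
    exact RingHom.mem_ker.mp (hle hq))

theorem solHom_mk_X (x : Fin n → S) (hx : IsSol p n a β x) (i : Fin n) :
    solHom x hx (Ideal.Quotient.mk _ (X i)) = x i := by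
  rw [solHom, Ideal.Quotient.liftₐ_apply]
  exact (Ideal.Quotient.lift_mk _ _ _).trans (aeval_X x i)

theorem isSol_of_hom (φ : EAlg p n a β →ₐ[R] S) :
    IsSol p n a β (fun i => φ (Ideal.Quotient.mk _ (X i))) := by
  intro i
  rw [← aeval_vrel]
  have h1 : aeval (fun i => φ (Ideal.Quotient.mk _ (X i))) =
      φ.comp (Ideal.Quotient.mkₐ R (Ideal.span (Set.range (vrel p n a β)))) := by
    apply MvPolynomial.algHom_ext
    intro j
    rw [aeval_X]
    rfl
  rw [h1, AlgHom.comp_apply]
  have h2 : Ideal.Quotient.mkₐ R (Ideal.span (Set.range (vrel p n a β))) (vrel p n a β i) = 0 := by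
    rw [Ideal.Quotient.mkₐ_eq_mk, Ideal.Quotient.eq_zero_iff_mem]
    exact Ideal.subset_span ⟨i, rfl⟩
  rw [h2, map_zero]

theorem hom_ext_X (φ ψ : EAlg p n a β →ₐ[R] S)
    (h : ∀ i, φ (Ideal.Quotient.mk _ (X i)) = ψ (Ideal.Quotient.mk _ (X i))) : φ = ψ := by
  apply Ideal.Quotient.algHom_ext
  apply MvPolynomial.algHom_ext
  intro i
  exact h i

end Sol

/-! ### lifting solutions over a henselian local ring -/

section Lift

variable {R : Type u} [CommRing R] [HenselianLocalRing R] (p : ℕ) [Fact p.Prime] [CharP R p]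
  (n : ℕ) (a : Fin n → Fin n → R) (β : Fin n → R)

theorem map_maximalIdeal_self :
    Ideal.map (algebraMap R R) (maximalIdeal R) = maximalIdeal R := by
  rw [Algebra.algebraMap_self, Ideal.map_id]

theorem isSol_self_iff (x : Fin n → R) :
    IsSol p n a β x ↔ ∀ i, ∑ j, a i j * x j ^ p - x i - β i = 0 := by
  simp only [IsSol, Algebra.algebraMap_self, RingHom.id_apply]

theorem exists_sol_lift (x0 : Fin n → R)
    (hx0 : ∀ i, ∑ j, a i j * x0 j ^ p - x0 i - β i ∈ maximalIdeal R) :
    ∃ x : Fin n → R, (∀ i, ∑ j, a i j * x j ^ p - x i - β i = 0) ∧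
      ∀ i, x i - x0 i ∈ maximalIdeal R := by
  haveI := etale_EAlg p n a β
  have hb := Groth.Agent.Lib.Helper3.Hensel.algHom_quotient_bijective R R (EAlg p n a β)
  set I := Ideal.map (algebraMap R R) (maximalIdeal R) with hI
  have hIm : I = maximalIdeal R := map_maximalIdeal_self
  have hs0 : IsSol p n a β (fun i => Ideal.Quotient.mk I (x0 i)) := by
    intro i
    rw [Ideal.Quotient.algebraMap_eq]
    simp only [← map_pow, ← map_mul, ← map_sum, ← map_sub]
    rw [Ideal.Quotient.eq_zero_iff_mem, hIm]
    exact hx0 i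
  obtain ⟨φ, hφ⟩ := hb.2 (solHom _ hs0)
  refine ⟨fun i => φ (Ideal.Quotient.mk _ (X i)), ?_, ?_⟩
  · exact (isSol_self_iff p n a β _).mp (isSol_of_hom φ)
  · intro i
    have h1 := congrArg (fun ψ : EAlg p n a β →ₐ[R] R ⧸ I => ψ (Ideal.Quotient.mk _ (X i))) hφ
    simp only [AlgHom.comp_apply, solHom_mk_X, Ideal.Quotient.mkₐ_eq_mk] at h1
    rw [← hIm]
    exact Ideal.Quotient.eq.mp h1

theorem sol_unique (x x' : Fin n → R) (hx : ∀ i, ∑ j, a i j * x j ^ p - x i - β i = 0)
    (hx' : ∀ i, ∑ j, a i j * x' j ^ p - x' i - β i = 0)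
    (h : ∀ i, x i - x' i ∈ maximalIdeal R) : x = x' := by
  haveI := etale_EAlg p n a β
  have hb := Groth.Agent.Lib.Helper3.Hensel.algHom_quotient_bijective R R (EAlg p n a β)
  set I := Ideal.map (algebraMap R R) (maximalIdeal R) with hI
  have hIm : I = maximalIdeal R := map_maximalIdeal_self
  have hsx := (isSol_self_iff p n a β x).mpr hx
  have hsx' := (isSol_self_iff p n a β x').mpr hx'
  have h1 : solHom x hsx = solHom x' hsx' := by
    apply hb.1
    apply hom_ext_X
    intro i
    simp only [AlgHom.comp_apply, solHom_mk_X, Ideal.Quotient.mkₐ_eq_mk]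
    rw [Ideal.Quotient.eq, hIm]
    exact h i
  funext i
  rw [← solHom_mk_X x hsx i, h1, solHom_mk_X]

end Lift

/-! ### the theorem -/

section MainThm

variable (p : ℕ) [Fact p.Prime] {R : Type u} [CommRing R] [HenselianLocalRing R]
  [IsSepClosed (ResidueField R)] [CharP R p]
  {M : Type v} [AddCommGroup M] [Module R M] [Module.Free R M] [Module.Finite R M]

theorem main (T : M →+ M) (hT : ∀ (r : R) (m : M), T (r • m) = r ^ p • T m)
    (hspan : Submodule.span R (Set.range T) = ⊤) :
    Function.Surjective (fun m => T m - m) ∧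
      Nat.card {m : M // T m = m} = p ^ Module.finrank R M := by
  classical
  set n := Module.finrank R M with hn
  set e : Module.Basis (Fin n) R M := Module.finBasis R M with he
  let a : Fin n → Fin n → R := fun i j => e.repr (T (e j)) i
  have hcoord : ∀ (m : M) (i : Fin n), e.repr (T m) i = ∑ j, a i j * (e.repr m j) ^ p := by
    intro m i
    have h1 : T m = ∑ j, (e.repr m j) ^ p • T (e j) := by
      conv_lhs => rw [← e.sum_repr m]
      rw [map_sum]
      exact Finset.sum_congr rfl fun j _ => hT _ _
    rw [h1, map_sum, Finsupp.coe_finsetSum, Finset.sum_apply]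
    refine Finset.sum_congr rfl fun j _ => ?_
    rw [map_smul, Finsupp.smul_apply, smul_eq_mul, mul_comm]
  have hrepr : ∀ (x : Fin n → R) (i : Fin n), e.repr (∑ j, x j • e j) i = x i := by
    intro x i
    rw [e.repr_sum_self]
  let k := ResidueField R
  haveI : CharP k p := (CharP.charP_iff_prime_eq_zero (Fact.out : p.Prime)).mpr (by
    rw [← map_natCast (residue R), CharP.cast_eq_zero, map_zero])
  let Tb : (Fin n → k) →ₛₗ[frobenius k p] (Fin n → k) :=
    { toFun := fun x i => ∑ j, residue R (a i j) * x j ^ p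
      map_add' := by
        intro x y
        funext i
        simp only [Pi.add_apply, add_pow_char, mul_add, Finset.sum_add_distrib]
      map_smul' := by
        intro c x
        funext i
        simp only [Pi.smul_apply, smul_eq_mul, mul_pow, frobenius_def]
        rw [Finset.mul_sum]
        refine Finset.sum_congr rfl fun j _ => by ring }
  have hTb : ∀ (x : Fin n → k) (i : Fin n), Tb x i = ∑ j, residue R (a i j) * x j ^ p :=
    fun x i => rfl
  let ρ : M → (Fin n → k) := fun m i => residue R (e.repr m i)
  have hρ : ∀ m i, ρ m i = residue R (e.repr m i) := fun m i => rfl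
  have hρT : ∀ m, ρ (T m) = Tb (ρ m) := by
    intro m
    funext i
    rw [hρ, hcoord, hTb, map_sum]
    refine Finset.sum_congr rfl fun j _ => ?_
    rw [map_mul, map_pow, hρ]
  have hlift : ∀ y : Fin n → k, ∃ x0 : Fin n → R, ∀ i, residue R (x0 i) = y i := fun y =>
    ⟨fun i => (residue_surjective (y i)).choose, fun i => (residue_surjective (y i)).choose_spec⟩
  have hρsurj : Function.Surjective ρ := by
    intro y
    obtain ⟨x0, hx0⟩ := hlift y
    refine ⟨∑ j, x0 j • e j, ?_⟩
    funext i
    rw [hρ, hrepr, hx0]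
  have hspanb : Submodule.span k (Set.range Tb) = ⊤ := by
    rw [eq_top_iff]
    rintro y -
    obtain ⟨m, rfl⟩ := hρsurj y
    have hm : m ∈ Submodule.span R (Set.range T) := by
      rw [hspan]
      trivial
    induction hm using Submodule.span_induction with
    | mem z hz =>
      obtain ⟨w, rfl⟩ := hz
      rw [hρT]
      exact Submodule.subset_span ⟨ρ w, rfl⟩
    | zero =>
      have h0 : ρ 0 = 0 := by
        funext i
        rw [hρ, map_zero, Finsupp.zero_apply, map_zero, Pi.zero_apply]
      rw [h0]
      exact Submodule.zero_mem _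
    | add y z _ _ hy hz =>
      have h0 : ρ (y + z) = ρ y + ρ z := by
        funext i
        rw [Pi.add_apply, hρ, hρ, hρ, map_add, Finsupp.add_apply, map_add]
      rw [h0]
      exact Submodule.add_mem _ hy hz
    | smul r z _ hz =>
      have h0 : ρ (r • z) = residue R r • ρ z := by
        funext i
        rw [Pi.smul_apply, hρ, hρ, map_smul, Finsupp.smul_apply, smul_eq_mul, map_mul, smul_eq_mul]
      rw [h0]
      exact Submodule.smul_mem _ _ hz
  obtain ⟨hsb, hcb⟩ := Groth.Agent.Lib.T2H7.FrobMod.field_case p n (Fin n → k) Tb hspanb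
    (Module.finrank_fin_fun k)
  have hmem : ∀ (x0 : Fin n → R) (β : Fin n → R) (i : Fin n),
      residue R (∑ j, a i j * x0 j ^ p - x0 i - β i) =
        Tb (fun l => residue R (x0 l)) i - residue R (x0 i) - residue R (β i) := by
    intro x0 β i
    simp only [map_sub, map_sum, map_mul, map_pow, hTb]
  have hfix : ∀ (x : Fin n → R), (∀ i, ∑ j, a i j * x j ^ p - x i - 0 = 0) →
      T (∑ j, x j • e j) = ∑ j, x j • e j := by
    intro x hx
    apply e.repr.injective
    ext i
    rw [hcoord, hrepr]
    simp only [hrepr]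
    linear_combination hx i
  constructor
  · intro b
    obtain ⟨xb, hxb⟩ := hsb (ρ b)
    obtain ⟨x0, hx0⟩ := hlift xb
    have hx0' : ∀ i, ∑ j, a i j * x0 j ^ p - x0 i - (fun l => e.repr b l) i ∈ maximalIdeal R := by
      intro i
      rw [← residue_eq_zero_iff, hmem x0 (fun l => e.repr b l) i]
      have h1 := congrFun hxb i
      simp only [Pi.sub_apply] at h1
      have h2 : (fun l => residue R (x0 l)) = xb := funext hx0
      rw [h2, hx0 i, ← hρ, ← h1, sub_self]
    obtain ⟨x, hx, _⟩ := exists_sol_lift p n a (fun l => e.repr b l) x0 hx0'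
    refine ⟨∑ j, x j • e j, ?_⟩
    apply e.repr.injective
    ext i
    rw [map_sub, Finsupp.sub_apply, hcoord, hrepr]
    simp only [hrepr]
    linear_combination hx i
  · rw [← hcb]
    have hfixρ : ∀ m : {m : M // T m = m}, Tb (ρ m.1) = ρ m.1 := fun m => by
      rw [← hρT, m.2]
    refine Nat.card_congr (Equiv.ofBijective (fun m => ⟨ρ m.1, hfixρ m⟩) ⟨?_, ?_⟩)
    · rintro ⟨m, hm⟩ ⟨m', hm'⟩ h
      have h1 : ρ m = ρ m' := congrArg Subtype.val h
      have hsol : ∀ (w : M), T w = w → ∀ i, ∑ j, a i j * (fun l => e.repr w l) j ^ p -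
          (fun l => e.repr w l) i - (fun _ => (0 : R)) i = 0 := by
        intro w hw i
        simp only
        rw [← hcoord, hw, sub_self, sub_zero]
      have h2 := sol_unique p n a (fun _ => 0) (fun l => e.repr m l) (fun l => e.repr m' l)
        (hsol m hm) (hsol m' hm') (fun i => by
          rw [← residue_eq_zero_iff, map_sub, sub_eq_zero]
          exact congrFun h1 i)
      apply Subtype.ext
      apply e.repr.injective
      ext i
      exact congrFun h2 i
    · rintro ⟨xb, hxb⟩
      obtain ⟨x0, hx0⟩ := hlift xb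
      have hx0' : ∀ i, ∑ j, a i j * x0 j ^ p - x0 i - (fun _ => (0 : R)) i ∈ maximalIdeal R := by
        intro i
        rw [← residue_eq_zero_iff, hmem x0 (fun _ => 0) i]
        have h2 : (fun l => residue R (x0 l)) = xb := funext hx0
        rw [h2, hxb, hx0 i, map_zero, sub_self, sub_zero]
      obtain ⟨x, hx, hxx⟩ := exists_sol_lift p n a (fun _ => 0) x0 hx0'
      refine ⟨⟨∑ j, x j • e j, hfix x hx⟩, ?_⟩
      apply Subtype.ext
      funext i
      change ρ (∑ j, x j • e j) i = xb i
      rw [hρ, hrepr, ← hx0 i]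
      have h3 := hxx i
      rw [← residue_eq_zero_iff, map_sub, sub_eq_zero] at h3
      exact h3

end MainThm

end Groth.Agent.Lib.T2H7.FrobModH
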