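import Mathlib
import Groth.Prelude
import Groth.Agent.Lib.T2H5T2Main
import Groth.Agent.Lib.T2H5GenIsoF

/-!
# Frobenius split proper schemes: the cokernel of Frobenius has no cohomology (helper7)
-/

set_option autoImplicit false
set_option linter.style.haveILetI false
universe u v w
open CategoryTheory AlgebraicGeometry Opposite

namespace Groth.Agent.Lib.T2H7.FrobSplit

/-- an injective `p`-semilinear additive endomorphism of a finite dimensional vector space over a
perfect field is surjective -/
theorem surjective_of_injective_of_semilinear {k V : Type*} [Field k] (p : ℕ) [Fact p.Prime]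
    [CharP k p] [PerfectRing k p] [AddCommGroup V] [Module k V] [Module.Finite k V] (f : V →+ V)
    (hf : ∀ (a : k) (x : V), f (a • x) = a ^ p • f x) (hinj : Function.Injective f) :
    Function.Surjective f := by
  classical
  let b := Module.finBasis k V
  have hroot : ∀ a : k, ∃ c : k, c ^ p = a := fun a =>
    ⟨(frobeniusEquiv k p).symm a, frobeniusEquiv_symm_pow_p k p a⟩
  have hli : LinearIndependent k (fun i => f (b i)) := by
    rw [linearIndependent_iff']
    intro s g hg i hi
    choose h hh using fun i => hroot (g i)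
    have h1 : ∑ i ∈ s, g i • f (b i) = f (∑ i ∈ s, h i • b i) := by
      rw [map_sum]
      refine Finset.sum_congr rfl fun i _ => ?_
      rw [hf, hh]
    rw [h1] at hg
    have h2 : ∑ i ∈ s, h i • b i = 0 := hinj (by rw [hg, map_zero])
    have h3 := linearIndependent_iff'.mp b.linearIndependent s h h2 i hi
    rw [← hh i, h3, zero_pow (Fact.out : p.Prime).ne_zero]
  have hcard : Fintype.card (Fin (Module.finrank k V)) = Module.finrank k V := Fintype.card_fin _
  have hspan := hli.span_eq_top_of_card_eq_finrank' hcard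
  intro v
  have hv : v ∈ Submodule.span k (Set.range fun i => f (b i)) := by rw [hspan]; trivial
  obtain ⟨c, hc⟩ := (Submodule.mem_span_range_iff_exists_fun k).mp hv
  choose h hh using fun i => hroot (c i)
  refine ⟨∑ i, h i • b i, ?_⟩
  rw [map_sum, ← hc]
  refine Finset.sum_congr rfl fun i _ => ?_
  rw [hf, hh]

/-- the `p`-th power map of `O_X` is semilinear for multiplication by global functions -/
theorem smulAb_comp_frob (p : ℕ) (X : Scheme.{u})
    (φ : Coh.toAb (Coh.structureModule X) ⟶ Coh.toAb (Coh.structureModule X))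
    (hφ : ∀ (U : X.Opens) (t : Γ(X, U)), φ.hom.app (op U) t = t ^ p) (r : Coh.Γtop X) :
    Coh.smulAb (Coh.structureModule X) r ≫ φ = φ ≫ Coh.smulAb (Coh.structureModule X) (r ^ p) := by
  have key : ∀ (U : X.Opens) (a t : Γ(X, U)),
      φ.hom.app (op U) (a * t) = a ^ p * @id Γ(X, U) (φ.hom.app (op U) t) := by
    intro U a t
    have h1 : @id Γ(X, U) (φ.hom.app (op U) t) = t ^ p := hφ U t
    rw [h1]
    exact (hφ U (a * t)).trans (mul_pow a t p)
  ext U t
  obtain ⟨U⟩ := U
  change φ.hom.app (op U) ((Coh.smulAb (Coh.structureModule X) r).hom.app (op U) t) =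
    (Coh.smulAb (Coh.structureModule X) (r ^ p)).hom.app (op U) (φ.hom.app (op U) t)
  rw [Coh.smulAb_app, Coh.smulAb_app, map_pow]
  exact key U (Coh.resTop X (op U) r) t

theorem main
    (p : ℕ) [Fact p.Prime] (k : Type u) [Field k] [CharP k p] [PerfectField k]
    (X : Scheme.{u}) [X.Over (Spec (CommRingCat.of k))] [IsProper (X ↘ Spec (CommRingCat.of k))]
    (φ : Coh.toAb (Coh.structureModule X) ⟶ Coh.toAb (Coh.structureModule X))
    (hφ : ∀ (U : X.Opens) (t : Γ(X, U)), φ.hom.app (op U) t = t ^ p)
    (s : Coh.toAb (Coh.structureModule X) ⟶ Coh.toAb (Coh.structureModule X))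
    (hs : φ ≫ s = 𝟙 _)
    (i : ℕ) : Subsingleton (Sheaf.H (Limits.cokernel φ) i) := by
  classical
  haveI : PerfectRing k p := PerfectField.toPerfectRing p
  have hfin : ∀ j, Module.Finite k (Coh.HH X (Coh.structureModule X) j) := fun j =>
    Groth.Agent.Lib.T2H5.T2Main.finite_HH_of_isProper k X _
      Groth.Agent.Lib.T2H5.GenIsoF.isCoh_structureModule j
  -- injectivity of `H(φ)`
  have hinj : ∀ j, Function.Injective (Sheaf.H.map φ j) := by
    intro j x y hxy
    have := congrArg (Sheaf.H.map s j) hxy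
    rwa [← Sheaf.H.map_comp_apply, ← Sheaf.H.map_comp_apply, hs, Sheaf.H.map_id_apply,
      Sheaf.H.map_id_apply] at this
  -- semilinearity
  have hsemi : ∀ j (a : k) (x : Coh.HH X (Coh.structureModule X) j),
      Sheaf.H.map φ j (a • x) = a ^ p • Sheaf.H.map φ j x := by
    intro j a x
    change Sheaf.H.map φ j (Sheaf.H.map (Coh.smulAb _ (Coh.toGlobal _ a)) j x) =
      Sheaf.H.map (Coh.smulAb _ (Coh.toGlobal _ (a ^ p))) j (Sheaf.H.map φ j x)
    rw [← Sheaf.H.map_comp_apply, ← Sheaf.H.map_comp_apply, map_pow, smulAb_comp_frob p X φ hφ]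
  have hbij : ∀ j, Function.Bijective (Sheaf.H.map φ j) := fun j =>
    ⟨hinj j, by
      haveI := hfin j
      exact surjective_of_injective_of_semilinear (k := k)
        (V := Coh.HH X (Coh.structureModule X) j) p (Sheaf.H.map φ j) (hsemi j) (hinj j)⟩
  -- the long exact sequence
  have hmono : Mono φ := (SplitMono.mk s hs).mono
  let S : ShortComplex (Sheaf (Opens.grothendieckTopology X) AddCommGrpCat.{u}) :=
    ShortComplex.mk φ (Limits.cokernel.π φ) (Limits.cokernel.condition φ)
  have hS : S.ShortExact :=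
    { exact := ShortComplex.exact_cokernel φ
      mono_f := hmono
      epi_g := by dsimp [S]; infer_instance }
  refine subsingleton_of_forall_eq 0 fun y => ?_
  -- the connecting map kills `y`
  have h1 : (y.comp hS.extClass (rfl : i + 1 = i + 1)) = 0 := by
    apply hinj (i + 1)
    rw [map_zero, Sheaf.H.map_apply, Abelian.Ext.comp_assoc_of_third_deg_zero]
    change y.comp (hS.extClass.comp (Abelian.Ext.mk₀ S.f) _) _ = 0
    rw [hS.extClass_comp, Abelian.Ext.comp_zero]
  obtain ⟨x₂, hx₂⟩ := Abelian.Ext.covariant_sequence_exact₃ _ hS y rfl h1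
  obtain ⟨x₁, hx₁⟩ := (hbij i).2 x₂
  rw [← hx₂, ← hx₁, Sheaf.H.map_apply, Abelian.Ext.comp_assoc_of_third_deg_zero]
  change x₁.comp ((Abelian.Ext.mk₀ S.f).comp (Abelian.Ext.mk₀ S.g) _) _ = 0
  rw [Abelian.Ext.mk₀_comp_mk₀, S.zero, Abelian.Ext.mk₀_zero, Abelian.Ext.comp_zero]

end Groth.Agent.Lib.T2H7.FrobSplit
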