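import Groth.Prelude.Def_LambdaSp
import Mathlib
import Groth.Agent.Lib.Helper4Lambda
import Groth.Agent.Lib.Helper4MulPoly
import Groth.Agent.Lib.Helper4SymPoly

/-!
# λ-terms and their universal polynomials (helper7)

Terms built from variables with `+, -, *, λ^n`; for a family `a s k` ("the values of `λ^k` of the
`s`-th variable") in any commutative ring the values `Lam a t k` ("`λ^k` of the term `t`") are
defined by the universal polynomials.  In a special λ-ring this computes `λ^k` of the value of
the term.  The universal ring is `ℤ[G_{s,k}]`, with `G_{s,k}` standing for `γ^{k+1}(x_s)`.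
-/

set_option autoImplicit false
universe u v

noncomputable section

namespace Groth.Agent.Lib.T2H7.LTerm

open MvPolynomial Finset LambdaRing
open Groth.Agent.Lib.Helper4

/-! ### chosen universal polynomials -/

/-- the universal polynomial `P_n` -/
def Pn (n : ℕ) : MvPolynomial (Fin n ⊕ Fin n) ℤ :=
  Classical.choose (Groth.Agent.Lib.Helper4.MulPoly.exists_isMulPoly n)

theorem Pn_spec (n : ℕ) : IsMulPoly n (Pn n) :=
  Classical.choose_spec (Groth.Agent.Lib.Helper4.MulPoly.exists_isMulPoly n)

/-- the universal polynomial `Q_{i,j}` -/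
def Qn (i j : ℕ) : MvPolynomial (Fin (i * j)) ℤ :=
  Classical.choose (Groth.Agent.Lib.Helper4.SymPoly.exists_isCompPoly i j)

theorem Qn_spec (i j : ℕ) : IsCompPoly i j (Qn i j) :=
  Classical.choose_spec (Groth.Agent.Lib.Helper4.SymPoly.exists_isCompPoly i j)

/-! ### terms -/

/-- λ-terms in `r` variables -/
inductive LT (r : ℕ) : Type
  | var : Fin r → LT r
  | zero : LT r
  | one : LT r
  | add : LT r → LT r → LT r
  | neg : LT r → LT r
  | mul : LT r → LT r → LT r
  | lam : ℕ → LT r → LT r

/-- the value of a term -/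
def LT.eval {A : Type u} [CommRing A] [LambdaOps A] {r : ℕ} (x : Fin r → A) : LT r → A
  | .var s => x s
  | .zero => 0
  | .one => 1
  | .add t u => t.eval x + u.eval x
  | .neg t => -t.eval x
  | .mul t u => t.eval x * u.eval x
  | .lam n t => LambdaOps.lam n (t.eval x)

/-- the coefficients of the inverse of the series `1 + c_1 t + c_2 t^2 + ...` -/
def invCoeff {R : Type*} [CommRing R] (c : ℕ → R) : ℕ → R
  | 0 => 1
  | k + 1 => -∑ i : Fin (k + 1), c ((i : ℕ) + 1) * invCoeff c (k - (i : ℕ))
decreasing_by omega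

theorem invCoeff_zero {R : Type*} [CommRing R] (c : ℕ → R) : invCoeff c 0 = 1 := by
  rw [invCoeff]

theorem invCoeff_succ {R : Type*} [CommRing R] (c : ℕ → R) (k : ℕ) :
    invCoeff c (k + 1) = -∑ i ∈ range (k + 1), c (i + 1) * invCoeff c (k - i) := by
  rw [invCoeff, Finset.sum_range]

/-- the universal values of `λ^k` of a term -/
def LT.Lam {R : Type*} [CommRing R] {r : ℕ} (a : Fin r → ℕ → R) : LT r → ℕ → R
  | .var s => fun k => a s k
  | .zero => fun k => if k = 0 then 1 else 0
  | .one => fun k => if k ≤ 1 then 1 else 0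
  | .add t u => fun k => ∑ i ∈ range (k + 1), t.Lam a i * u.Lam a (k - i)
  | .neg t => fun k => invCoeff (t.Lam a) k
  | .mul t u => fun k =>
      aeval (Sum.elim (fun i : Fin k => t.Lam a ((i : ℕ) + 1))
        (fun i : Fin k => u.Lam a ((i : ℕ) + 1))) (Pn k)
  | .lam n t => fun k => aeval (fun i : Fin (n * k) => t.Lam a ((i : ℕ) + 1)) (Qn n k)

section Nat

variable {R : Type*} [CommRing R] {R' : Type*} [CommRing R'] (f : R →+* R')

theorem map_aeval_int {σ : Type*} (g : σ → R) (P : MvPolynomial σ ℤ) :
    f (aeval g P) = aeval (fun i => f (g i)) P := by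
  induction P using MvPolynomial.induction_on with
  | C c => simp
  | add p q hp hq => rw [map_add, map_add, map_add, hp, hq]
  | mul_X p i hp => rw [map_mul, map_mul, map_mul, hp, aeval_X, aeval_X]

theorem map_invCoeff (c : ℕ → R) (k : ℕ) :
    f (invCoeff c k) = invCoeff (fun i => f (c i)) k := by
  induction k using Nat.strong_induction_on with
  | _ k ih =>
    rcases k with _ | k
    · rw [invCoeff_zero, invCoeff_zero, map_one]
    · rw [invCoeff_succ, invCoeff_succ, map_neg, map_sum]
      congr 1
      refine sum_congr rfl fun i hi => ?_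
      rw [mem_range] at hi
      rw [map_mul, ih (k - i) (by omega)]

/-- naturality of the universal values -/
theorem LT.map_Lam {r : ℕ} (a : Fin r → ℕ → R) (t : LT r) (k : ℕ) :
    f (t.Lam a k) = t.Lam (fun s k => f (a s k)) k := by
  induction t generalizing k with
  | var s => rfl
  | zero =>
    simp only [LT.Lam]
    split_ifs <;> simp
  | one =>
    simp only [LT.Lam]
    split_ifs <;> simp
  | add t u iht ihu =>
    simp only [LT.Lam]
    rw [map_sum]
    refine sum_congr rfl fun i _ => ?_
    rw [map_mul, iht, ihu]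
  | neg t iht =>
    simp only [LT.Lam]
    rw [map_invCoeff]
    congr 1
    funext i
    exact iht i
  | mul t u iht ihu =>
    simp only [LT.Lam]
    rw [map_aeval_int]
    congr 2
    funext i
    rcases i with i | i
    · exact iht _
    · exact ihu _
  | lam n t iht =>
    simp only [LT.Lam]
    rw [map_aeval_int]
    congr 2
    funext i
    exact iht _

end Nat

/-! ### soundness -/

section Sound

variable {A : Type u} [CommRing A] [LambdaOps A]

theorem lam_zero_arg (k : ℕ) : LambdaOps.lam k (0 : A) = if k = 0 then 1 else 0 := by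
  have h := congrArg (PowerSeries.coeff k) (lamSeries_zero (K := A))
  rw [coeff_lamSeries, PowerSeries.coeff_one] at h
  exact h

theorem lam_neg_eq_invCoeff (y : A) (k : ℕ) :
    LambdaOps.lam k (-y) = invCoeff (fun i => LambdaOps.lam i y) k := by
  induction k using Nat.strong_induction_on with
  | _ k ih =>
    rcases k with _ | k
    · rw [invCoeff_zero, LambdaOps.lam_zero]
    · rw [invCoeff_succ]
      have h := LambdaOps.lam_add (k + 1) y (-y)
      rw [add_neg_cancel, lam_zero_arg, if_neg (Nat.succ_ne_zero k), Finset.sum_range_succ',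
        LambdaOps.lam_zero, one_mul, Nat.sub_zero] at h
      have h2 : ∑ i ∈ range (k + 1), LambdaOps.lam (i + 1) y * LambdaOps.lam (k + 1 - (i + 1)) (-y) =
          ∑ i ∈ range (k + 1), LambdaOps.lam (i + 1) y * invCoeff (fun i => LambdaOps.lam i y) (k - i) := by
        refine sum_congr rfl fun i hi => ?_
        rw [mem_range] at hi
        rw [show k + 1 - (i + 1) = k - i by omega, ih (k - i) (by omega)]
      rw [h2] at h
      linear_combination -h

/-- **soundness**: in a special λ-ring the universal values compute `λ^k` of the value -/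
theorem LT.Lam_eq_lam (hA : IsSpecial A) {r : ℕ} (x : Fin r → A) (t : LT r) (k : ℕ) :
    t.Lam (fun s k => LambdaOps.lam k (x s)) k = LambdaOps.lam k (t.eval x) := by
  induction t generalizing k with
  | var s => rfl
  | zero =>
    simp only [LT.Lam, LT.eval]
    rw [lam_zero_arg]
  | one =>
    simp only [LT.Lam, LT.eval]
    split_ifs with h
    · interval_cases k
      · rw [LambdaOps.lam_zero]
      · rw [LambdaOps.lam_one]
    · rw [hA.lam_one_eq_zero k (by omega)]
  | add t u iht ihu =>
    simp only [LT.Lam, LT.eval]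
    rw [LambdaOps.lam_add]
    refine sum_congr rfl fun i _ => ?_
    rw [iht, ihu]
  | neg t iht =>
    simp only [LT.Lam, LT.eval]
    rw [lam_neg_eq_invCoeff]
    congr 1
    funext i
    exact iht i
  | mul t u iht ihu =>
    simp only [LT.Lam, LT.eval]
    rw [hA.lam_mul k (Pn k) (Pn_spec k)]
    congr 2
    funext i
    rcases i with i | i
    · exact iht _
    · exact ihu _
  | lam n t iht =>
    simp only [LT.Lam, LT.eval]
    rw [hA.lam_lam n k (Qn n k) (Qn_spec n k)]
    congr 2
    funext i
    exact iht _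

end Sound

/-! ### derived terms -/

section Derived

variable {r : ℕ}

/-- `n • t` -/
def LT.nsmul (n : ℕ) (t : LT r) : LT r :=
  match n with
  | 0 => .zero
  | n + 1 => .add (LT.nsmul n t) t

/-- `∑_{i < n} f i` -/
def LT.sumRange (n : ℕ) (f : ℕ → LT r) : LT r :=
  match n with
  | 0 => .zero
  | n + 1 => .add (LT.sumRange n f) (f n)

/-- `γ^k t` -/
def LT.gam (k : ℕ) (t : LT r) : LT r :=
  match k with
  | 0 => .one
  | k + 1 => LT.sumRange (k + 1) fun i => LT.nsmul (k.choose i) (.lam (i + 1) t)

/-- the product of `γ^{p.1}(x_{p.2})` over a list -/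
def LT.gprod (l : List (ℕ × Fin r)) : LT r :=
  match l with
  | [] => .one
  | p :: l => .mul (LT.gam p.1 (.var p.2)) (LT.gprod l)

variable {A : Type u} [CommRing A] [LambdaOps A] (x : Fin r → A)

theorem LT.eval_nsmul (n : ℕ) (t : LT r) : (LT.nsmul n t).eval x = (n : A) * t.eval x := by
  induction n with
  | zero => simp [LT.nsmul, LT.eval]
  | succ n ih =>
    rw [LT.nsmul, LT.eval, ih]
    push_cast
    ring

theorem LT.eval_sumRange (n : ℕ) (f : ℕ → LT r) :
    (LT.sumRange n f).eval x = ∑ i ∈ range n, (f i).eval x := by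
  induction n with
  | zero => simp [LT.sumRange, LT.eval]
  | succ n ih => rw [LT.sumRange, LT.eval, ih, Finset.sum_range_succ]

theorem gamma_succ_eq (y : A) (n : ℕ) :
    gamma (n + 1) y = ∑ i ∈ range (n + 1), (n.choose i : A) * LambdaOps.lam (i + 1) y := by
  rw [gamma, if_neg (Nat.succ_ne_zero n), Finset.sum_range_succ', if_pos rfl, mul_zero, add_zero]
  refine sum_congr rfl fun i _ => ?_
  rw [if_neg (Nat.succ_ne_zero i), Nat.add_sub_cancel, Nat.add_sub_cancel]

theorem LT.eval_gam (k : ℕ) (t : LT r) : (LT.gam k t).eval x = gamma k (t.eval x) := by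
  rcases k with _ | k
  · rw [LT.gam, LT.eval, gamma, if_pos rfl]
  · rw [LT.gam, LT.eval_sumRange, gamma_succ_eq]
    refine sum_congr rfl fun i _ => ?_
    rw [LT.eval_nsmul, LT.eval]

theorem LT.eval_gprod (l : List (ℕ × Fin r)) :
    (LT.gprod l).eval x = (l.map fun p => gamma p.1 (x p.2)).prod := by
  induction l with
  | nil => simp [LT.gprod, LT.eval]
  | cons p l ih =>
    rw [LT.gprod, LT.eval, ih, LT.eval_gam, List.map_cons, List.prod_cons]
    rfl

end Derived

/-! ### the inversion `γ → λ` -/

section Inversion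

theorem choose_orthogonality (K i : ℕ) :
    ∑ j ∈ range (K + 1), (-1 : ℤ) ^ (K - j) * (K.choose j : ℤ) * (j.choose i : ℤ) =
      if i = K then 1 else 0 := by
  have h : ((Polynomial.X + 1 : Polynomial ℤ) + (-1)) ^ K = Polynomial.X ^ K := by
    congr 1
    ring
  rw [add_pow] at h
  have h2 := congrArg (fun p => Polynomial.coeff p i) h
  simp only [Polynomial.finsetSum_coeff, Polynomial.coeff_X_pow] at h2
  rw [← h2]
  refine sum_congr rfl fun j _ => ?_
  have e1 : ((-1 : Polynomial ℤ)) ^ (K - j) = Polynomial.C ((-1 : ℤ) ^ (K - j)) := by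
    rw [map_pow, map_neg, map_one]
  have e2 : ((K.choose j : ℕ) : Polynomial ℤ) = Polynomial.C ((K.choose j : ℕ) : ℤ) := by
    simp
  rw [e1, e2, Polynomial.coeff_mul_C, Polynomial.coeff_mul_C, Polynomial.coeff_X_add_one_pow]
  ring

variable {A : Type u} [CommRing A] [LambdaOps A]

theorem lam_succ_eq_sum_gamma (y : A) (K : ℕ) :
    LambdaOps.lam (K + 1) y =
      ∑ j ∈ range (K + 1), (((-1 : ℤ) ^ (K - j) * (K.choose j : ℤ) : ℤ) : A) * gamma (j + 1) y := by
  have h1 : ∀ j ∈ range (K + 1), (((-1 : ℤ) ^ (K - j) * (K.choose j : ℤ) : ℤ) : A) * gamma (j + 1) y =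
      ∑ i ∈ range (K + 1), (((-1 : ℤ) ^ (K - j) * (K.choose j : ℤ) * (j.choose i : ℤ) : ℤ) : A) *
        LambdaOps.lam (i + 1) y := by
    intro j hj
    rw [mem_range] at hj
    rw [gamma_succ_eq, Finset.mul_sum]
    have hsub : range (j + 1) ⊆ range (K + 1) := Finset.range_subset_range.mpr (by omega)
    rw [← Finset.sum_subset hsub]
    · refine sum_congr rfl fun i _ => ?_
      push_cast
      ring
    · intro i _ hi
      rw [mem_range, not_lt] at hi
      rw [Nat.choose_eq_zero_of_lt (show j < i by omega)]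
      simp
  rw [sum_congr rfl h1, Finset.sum_comm]
  have h2 : ∀ i ∈ range (K + 1),
      ∑ j ∈ range (K + 1), (((-1 : ℤ) ^ (K - j) * (K.choose j : ℤ) * (j.choose i : ℤ) : ℤ) : A) *
        LambdaOps.lam (i + 1) y = if i = K then LambdaOps.lam (i + 1) y else 0 := by
    intro i _
    rw [← Finset.sum_mul, ← Int.cast_sum, choose_orthogonality]
    split_ifs <;> simp
  rw [sum_congr rfl h2, Finset.sum_ite_eq' (range (K + 1)) K, if_pos (self_mem_range_succ K)]

end Inversion

/-! ### the universal ring -/

section Universal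

variable {r : ℕ}

/-- the universal ring: `X (s, k)` stands for `γ^{k+1}(x_s)` -/
abbrev Op (r : ℕ) : Type := MvPolynomial (Fin r × ℕ) ℤ

/-- the universal `λ^k(x_s)` in the `γ`-coordinates -/
def aU (s : Fin r) (k : ℕ) : Op r :=
  match k with
  | 0 => 1
  | K + 1 => ∑ j ∈ range (K + 1), C ((-1 : ℤ) ^ (K - j) * (K.choose j : ℤ)) * X (s, j)

/-- the universal `λ^k` of a term -/
def LT.U (t : LT r) (k : ℕ) : Op r := t.Lam aU k

variable {A : Type u} [CommRing A] [LambdaOps A] (x : Fin r → A)

/-- evaluation: `X (s, k) ↦ γ^{k+1}(x_s)` -/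
def evG : Op r →ₐ[ℤ] A := aeval (fun p : Fin r × ℕ => gamma (p.2 + 1) (x p.1))

theorem evG_X (s : Fin r) (k : ℕ) : evG x (X (s, k)) = gamma (k + 1) (x s) := by
  rw [evG, aeval_X]

theorem evG_aU (s : Fin r) (k : ℕ) : evG x (aU s k) = LambdaOps.lam k (x s) := by
  rcases k with _ | K
  · rw [aU, map_one, LambdaOps.lam_zero]
  · rw [aU, map_sum, lam_succ_eq_sum_gamma]
    refine sum_congr rfl fun j _ => ?_
    rw [map_mul, evG_X, ← algebraMap_eq, AlgHom.commutes]
    rfl

/-- **the universal evaluation** -/
theorem evG_U (hA : IsSpecial A) (t : LT r) (k : ℕ) :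
    evG x (t.U k) = LambdaOps.lam k (t.eval x) := by
  have h := LT.map_Lam (evG x : Op r →+* A) aU t k
  rw [LT.U]
  refine (h.trans ?_).trans (LT.Lam_eq_lam hA x t k)
  congr 1
  funext s k
  exact evG_aU x s k

theorem evG_U_one (hA : IsSpecial A) (t : LT r) : evG x (t.U 1) = t.eval x := by
  rw [evG_U x hA, LambdaOps.lam_one]

end Universal

end Groth.Agent.Lib.T2H7.LTerm
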