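import Groth.Agent.Lib.T2H7LModel
import Groth.Agent.Lib.T2H7LTerm
import Mathlib

/-!
# Scalars from a binomial ring

For `c` in a binomial ring `K` and `y` in a special `K`-`λ`-algebra `A`,
`λ^n(c y) = ∑_k C(c, k) · [t^n] (λ_t(y) - 1)^k`.  The identity is proved for natural numbers `c` by
additivity and extended to `K` by clearing the denominators of the binomial coefficients.
-/

set_option autoImplicit false

noncomputable section

namespace Groth.Agent.Lib.T2H7.LBinom

open MvPolynomial Finset LambdaRing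
open Groth.Agent.Lib.Helper4 Groth.Agent.Lib.T2H7.LModel Groth.Agent.Lib.T2H7.LTerm

/-! ### polynomial identities in the binomial coefficients -/

theorem descPochhammer_eval_choose {K : Type*} [CommRing K] [BinomialRing K] (c : K) (k : ℕ) :
    (descPochhammer K k).eval c = (k.factorial : K) * Ring.choose c k := by
  have h := Ring.descPochhammer_eq_factorial_smul_choose c k
  rw [← Polynomial.aeval_eq_smeval, Polynomial.aeval_def, Polynomial.eval₂_eq_eval_map,
    descPochhammer_map, nsmul_eq_mul] at h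
  exact h

theorem exists_scaled_poly {R₀ : Type*} [CommRing R₀] {K : Type*} [CommRing K] [BinomialRing K]
    {S : Type*} [CommRing S] (φ : R₀ →+* S) (ι : K →+* S) (n : ℕ)
    (E : MvPolynomial (Fin n) R₀) :
    ∃ (M : ℕ) (Et : Polynomial R₀), M ≠ 0 ∧
      (∀ c : ℕ, (M : R₀) *
          MvPolynomial.eval (fun i : Fin n => ((c.choose ((i : ℕ) + 1) : ℕ) : R₀)) E =
            Et.eval (c : R₀)) ∧
      (∀ c : K, (M : S) *
          MvPolynomial.eval₂ φ (fun i : Fin n => ι (Ring.choose c ((i : ℕ) + 1))) E =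
            Et.eval₂ φ (ι c)) := by
  induction E using MvPolynomial.induction_on with
  | C a =>
    refine ⟨1, Polynomial.C a, one_ne_zero, fun c => ?_, fun c => ?_⟩
    · rw [Nat.cast_one, one_mul, eval_C, Polynomial.eval_C]
    · rw [Nat.cast_one, one_mul, eval₂_C, Polynomial.eval₂_C]
  | add p q hp hq =>
    obtain ⟨M₁, E₁, h₁, a₁, b₁⟩ := hp
    obtain ⟨M₂, E₂, h₂, a₂, b₂⟩ := hq
    refine ⟨M₁ * M₂, Polynomial.C (M₂ : R₀) * E₁ + Polynomial.C (M₁ : R₀) * E₂,
      mul_ne_zero h₁ h₂, fun c => ?_, fun c => ?_⟩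
    · rw [map_add, Polynomial.eval_add, Polynomial.eval_mul, Polynomial.eval_mul,
        Polynomial.eval_C, Polynomial.eval_C, ← a₁ c, ← a₂ c, Nat.cast_mul]
      ring
    · rw [eval₂_add, Polynomial.eval₂_add, Polynomial.eval₂_mul, Polynomial.eval₂_mul,
        Polynomial.eval₂_C, Polynomial.eval₂_C, ← b₁ c, ← b₂ c, Nat.cast_mul, map_natCast,
        map_natCast]
      ring
  | mul_X p i hp =>
    obtain ⟨M, Et, h, a, b⟩ := hp
    refine ⟨M * ((i : ℕ) + 1).factorial, Et * descPochhammer R₀ ((i : ℕ) + 1),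
      mul_ne_zero h (Nat.factorial_ne_zero _), fun c => ?_, fun c => ?_⟩
    · rw [map_mul, eval_X, Polynomial.eval_mul, ← a c, descPochhammer_eval_eq_descFactorial,
        Nat.descFactorial_eq_factorial_mul_choose, Nat.cast_mul, Nat.cast_mul]
      ring
    · have h1 : (descPochhammer R₀ ((i : ℕ) + 1)).eval₂ φ (ι c) =
          ((((i : ℕ) + 1).factorial : ℕ) : S) * ι (Ring.choose c ((i : ℕ) + 1)) := by
        rw [Polynomial.eval₂_eq_eval_map, descPochhammer_map, ← descPochhammer_map ι,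
          Polynomial.eval_map, Polynomial.eval₂_hom, descPochhammer_eval_choose, map_mul,
          map_natCast]
      rw [eval₂_mul, eval₂_X, Polynomial.eval₂_mul, ← b c, h1, Nat.cast_mul]
      ring

theorem binom_eval_eq_zero {R₀ : Type*} [CommRing R₀] [IsDomain R₀] [CharZero R₀]
    {K : Type*} [CommRing K] [BinomialRing K] {S : Type*} [CommRing S]
    (hS : ∀ (M : ℕ) (s : S), M ≠ 0 → (M : S) * s = 0 → s = 0)
    (φ : R₀ →+* S) (ι : K →+* S) (n : ℕ) (E : MvPolynomial (Fin n) R₀)
    (hE : ∀ c : ℕ,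
      MvPolynomial.eval (fun i : Fin n => ((c.choose ((i : ℕ) + 1) : ℕ) : R₀)) E = 0)
    (c : K) :
    MvPolynomial.eval₂ φ (fun i : Fin n => ι (Ring.choose c ((i : ℕ) + 1))) E = 0 := by
  obtain ⟨M, Et, hM, ha, hb⟩ := exists_scaled_poly φ ι n E
  have hEt : Et = 0 := by
    apply Polynomial.eq_zero_of_infinite_isRoot
    have h1 : Set.range (fun c : ℕ => (c : R₀)) ⊆ {x | Et.IsRoot x} := by
      rintro _ ⟨c, rfl⟩
      show Et.eval (c : R₀) = 0
      rw [← ha c, hE c, mul_zero]
    exact (Set.infinite_range_of_injective Nat.cast_injective).mono h1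
  apply hS M _ hM
  rw [hb c, hEt, Polynomial.eval₂_zero]

/-- regard a polynomial in two groups of variables as a polynomial in the first group -/
def prm {n : ℕ} {τ : Type*} (P : MvPolynomial (Fin n ⊕ τ) ℤ) :
    MvPolynomial (Fin n) (MvPolynomial τ ℤ) :=
  aeval (Sum.elim (fun i : Fin n => (X i : MvPolynomial (Fin n) (MvPolynomial τ ℤ)))
    (fun j : τ => C (X j))) P

theorem eval₂_prm {n : ℕ} {τ : Type*} {S : Type*} [CommRing S] (φ : MvPolynomial τ ℤ →+* S)
    (g : Fin n → S) (P : MvPolynomial (Fin n ⊕ τ) ℤ) :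
    eval₂ φ g (prm P) = aeval (Sum.elim g (fun j => φ (X j))) P := by
  have h := map_aeval_int (eval₂Hom φ g)
    (Sum.elim (fun i : Fin n => (X i : MvPolynomial (Fin n) (MvPolynomial τ ℤ)))
      (fun j : τ => C (X j))) P
  rw [coe_eval₂Hom] at h
  have hg : (fun i => eval₂ φ g (Sum.elim (fun i : Fin n =>
      (X i : MvPolynomial (Fin n) (MvPolynomial τ ℤ))) (fun j : τ => C (X j)) i)) =
      Sum.elim g (fun j => φ (X j)) := by
    funext i
    rcases i with i | j
    · simp only [Sum.elim_inl, eval₂_X]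
    · simp only [Sum.elim_inr, eval₂_C]
  rw [hg] at h
  exact h

theorem bin_transfer {n : ℕ} {τ : Type*} (P : MvPolynomial (Fin n ⊕ τ) ℤ)
    (hP : ∀ c : ℕ, aeval (Sum.elim
      (fun i : Fin n => ((c.choose ((i : ℕ) + 1) : ℕ) : MvPolynomial τ ℤ)) X) P = 0)
    {K : Type*} [CommRing K] [BinomialRing K] {A : Type*} [CommRing A] [Algebra K A] (c : K)
    (y : τ → A) :
    aeval (Sum.elim (fun i : Fin n => algebraMap K A (Ring.choose c ((i : ℕ) + 1))) y) P = 0 := by
  have := BinomialRing.toIsAddTorsionFree (R := K)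
  have h1 : aeval (Sum.elim
      (fun i : Fin n => (C (Ring.choose c ((i : ℕ) + 1)) : MvPolynomial τ K)) X) P = 0 := by
    have hS : ∀ (M : ℕ) (s : MvPolynomial τ K), M ≠ 0 → (M : MvPolynomial τ K) * s = 0 →
        s = 0 := by
      intro M s hM hs
      ext m
      have h3 := congrArg (coeff m) hs
      rw [coeff_zero] at h3 ⊢
      have h4 : ((M : MvPolynomial τ K)) = C (M : K) := (map_natCast C M).symm
      rw [h4, coeff_C_mul, ← nsmul_eq_mul] at h3
      exact (nsmul_eq_zero_iff_right hM).mp h3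
    have hE : ∀ c' : ℕ, MvPolynomial.eval
        (fun i : Fin n => ((c'.choose ((i : ℕ) + 1) : ℕ) : MvPolynomial τ ℤ)) (prm P) = 0 := by
      intro c'
      have h5 := eval₂_prm (RingHom.id (MvPolynomial τ ℤ))
        (fun i : Fin n => ((c'.choose ((i : ℕ) + 1) : ℕ) : MvPolynomial τ ℤ)) P
      exact (eval₂_id _).symm.trans (h5.trans (hP c'))
    have h2 := binom_eval_eq_zero (R₀ := MvPolynomial τ ℤ) (K := K) (S := MvPolynomial τ K) hS
      (MvPolynomial.map (Int.castRingHom K)) (C : K →+* MvPolynomial τ K) n (prm P) hE c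
    rw [eval₂_prm] at h2
    simp only [map_X] at h2
    exact h2
  have h6 := map_aeval_int ((aeval y : MvPolynomial τ K →ₐ[K] A) : MvPolynomial τ K →+* A)
    (Sum.elim (fun i : Fin n => (C (Ring.choose c ((i : ℕ) + 1)) : MvPolynomial τ K)) X) P
  have hg : (Sum.elim (fun i : Fin n => algebraMap K A (Ring.choose c ((i : ℕ) + 1))) y) =
      fun i => ((aeval y : MvPolynomial τ K →ₐ[K] A) : MvPolynomial τ K →+* A)
        (Sum.elim (fun i : Fin n => (C (Ring.choose c ((i : ℕ) + 1)) : MvPolynomial τ K)) X i) := by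
    funext i
    rcases i with i | j
    · simp only [Sum.elim_inl, RingHom.coe_coe, aeval_C]
    · simp only [Sum.elim_inr, RingHom.coe_coe, aeval_X]
  rw [hg]
  exact h6.symm.trans ((congrArg
    ((aeval y : MvPolynomial τ K →ₐ[K] A) : MvPolynomial τ K →+* A) h1).trans (map_zero _))

/-! ### the coefficients of powers of a series -/

/-- the series `∑_{i<n} a_i t^{i+1}` -/
def gser {A : Type*} [CommRing A] (n : ℕ) (a : Fin n → A) : PowerSeries A :=
  ∑ i : Fin n, PowerSeries.C (a i) * PowerSeries.X ^ ((i : ℕ) + 1)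

/-- the coefficient of `t^n` in the `k`-th power of the generic series -/
def BB (n k : ℕ) : MvPolynomial (Fin n) ℤ :=
  PowerSeries.coeff n ((gser n (fun i => (X i : MvPolynomial (Fin n) ℤ))) ^ k)

theorem map_BB {A : Type*} [CommRing A] (n k : ℕ) (θ : MvPolynomial (Fin n) ℤ →+* A) :
    θ (BB n k) = PowerSeries.coeff n ((gser n (fun i => θ (X i))) ^ k) := by
  rw [BB, ← PowerSeries.coeff_map, map_pow]
  congr 2
  rw [gser, gser, map_sum]
  refine sum_congr rfl fun i _ => ?_
  rw [map_mul, map_pow, PowerSeries.map_C, PowerSeries.map_X]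

theorem coeff_pow_congr {A : Type*} [CommRing A] (n : ℕ) (f g : PowerSeries A)
    (h : ∀ m ≤ n, PowerSeries.coeff m f = PowerSeries.coeff m g) (k : ℕ) :
    ∀ m ≤ n, PowerSeries.coeff m (f ^ k) = PowerSeries.coeff m (g ^ k) := by
  induction k with
  | zero => intro m _; rw [pow_zero, pow_zero]
  | succ k ih =>
    intro m hm
    rw [pow_succ, pow_succ, PowerSeries.coeff_mul, PowerSeries.coeff_mul]
    refine sum_congr rfl fun p hp => ?_
    have hp0 := Finset.HasAntidiagonal.mem_antidiagonal.mp hp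
    rw [ih p.1 (by omega), h p.2 (by omega)]

theorem coeff_gser_lam {A : Type*} [CommRing A] [LambdaOps A] (n : ℕ) (y : A) :
    ∀ m ≤ n, PowerSeries.coeff m (gser n (fun i : Fin n => LambdaOps.lam ((i : ℕ) + 1) y)) =
      PowerSeries.coeff m (lamSeries y - 1) := by
  intro m hm
  rw [gser, map_sum, map_sub, coeff_lamSeries, PowerSeries.coeff_one]
  simp only [PowerSeries.coeff_C_mul_X_pow]
  rcases m with _ | m
  · rw [if_pos rfl, LambdaOps.lam_zero, sub_self]
    refine Finset.sum_eq_zero fun i _ => ?_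
    rw [if_neg (by omega)]
  · rw [if_neg (Nat.succ_ne_zero m), sub_zero]
    rw [Finset.sum_eq_single (⟨m, by omega⟩ : Fin n)]
    · rw [if_pos rfl]
    · intro b _ hb
      rw [if_neg]
      intro h
      apply hb
      apply Fin.ext
      simp only
      omega
    · intro h
      exact absurd (Finset.mem_univ _) h

/-! ### natural numbers as scalars -/

theorem lamSeries_natCast_mul {A : Type*} [CommRing A] [LambdaOps A] (c : ℕ) (y : A) :
    lamSeries ((c : A) * y) = lamSeries y ^ c := by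
  have h := lamSeries_sum (Finset.range c) (fun _ => y)
  rw [Finset.sum_const, Finset.prod_const, Finset.card_range, nsmul_eq_mul] at h
  exact h

theorem coeff_pow_eq_zero_of_lt {A : Type*} [CommRing A] (u : PowerSeries A)
    (hu : PowerSeries.constantCoeff u = 0) {n m : ℕ} (h : n < m) :
    PowerSeries.coeff n (u ^ m) = 0 := by
  have h1 : (PowerSeries.X : PowerSeries A) ^ m ∣ u ^ m :=
    pow_dvd_pow_of_dvd (PowerSeries.X_dvd_iff.mpr hu) m
  exact (PowerSeries.X_pow_dvd_iff.mp h1) n h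

theorem nat_lam_mul {A : Type*} [CommRing A] [LambdaOps A] (c : ℕ) (y : A) (n : ℕ)
    (hn : 1 ≤ n) :
    LambdaOps.lam n ((c : A) * y) = ∑ k : Fin n, (c.choose ((k : ℕ) + 1) : A) *
      PowerSeries.coeff n ((lamSeries y - 1) ^ ((k : ℕ) + 1)) := by
  have hu0 : PowerSeries.constantCoeff (lamSeries y - 1) = 0 := by
    rw [map_sub, map_one, ← PowerSeries.coeff_zero_eq_constantCoeff_apply, coeff_lamSeries,
      LambdaOps.lam_zero, sub_self]
  let T : ℕ → A := fun m => (c.choose m : A) * PowerSeries.coeff n ((lamSeries y - 1) ^ m)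
  have hT : ∀ m, T m = (c.choose m : A) * PowerSeries.coeff n ((lamSeries y - 1) ^ m) :=
    fun m => rfl
  have hA : LambdaOps.lam n ((c : A) * y) = ∑ m ∈ range (c + 1), T m := by
    rw [← coeff_lamSeries, lamSeries_natCast_mul]
    have h2 : lamSeries y = (lamSeries y - 1) + 1 := by ring
    conv_lhs => rw [h2]
    rw [add_pow, map_sum]
    refine sum_congr rfl fun m _ => ?_
    rw [hT, one_pow, mul_one, mul_comm,
      ← map_natCast (PowerSeries.C : A →+* PowerSeries A) (c.choose m), PowerSeries.coeff_C_mul]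
  have hT0 : T 0 = 0 := by
    rw [hT, pow_zero, PowerSeries.coeff_one, if_neg (by omega), mul_zero]
  have hTbig : ∀ m, n < m → T m = 0 := fun m hm => by
    rw [hT, coeff_pow_eq_zero_of_lt _ hu0 hm, mul_zero]
  have hTc : ∀ m, c < m → T m = 0 := fun m hm => by
    rw [hT, Nat.choose_eq_zero_of_lt hm, Nat.cast_zero, zero_mul]
  have hB : ∑ m ∈ range (c + 1), T m = ∑ m ∈ range (n + 1), T m := by
    have h1 : ∑ m ∈ range (c + 1), T m = ∑ m ∈ range (max c n + 1), T m := by
      apply Finset.sum_subset (Finset.range_subset_range.mpr (by omega))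
      intro m _ hm
      rw [Finset.mem_range] at hm
      exact hTc m (by omega)
    have h2 : ∑ m ∈ range (n + 1), T m = ∑ m ∈ range (max c n + 1), T m := by
      apply Finset.sum_subset (Finset.range_subset_range.mpr (by omega))
      intro m _ hm
      rw [Finset.mem_range] at hm
      exact hTbig m (by omega)
    rw [h1, h2]
  rw [hA, hB, Finset.sum_range_succ', hT0, add_zero, Finset.sum_range]

/-! ### the polynomial identity -/

/-- the polynomial expressing the binomial formula for `λ^n(c y)` -/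
def En (n : ℕ) : MvPolynomial (Fin n ⊕ Fin n) ℤ :=
  Pn n - ∑ k : Fin n, X (Sum.inl k) * rename Sum.inr (BB n ((k : ℕ) + 1))

theorem aeval_En {A : Type*} [CommRing A] (n : ℕ) (g₁ g₂ : Fin n → A) :
    aeval (Sum.elim g₁ g₂) (En n) = aeval (Sum.elim g₁ g₂) (Pn n) -
      ∑ k : Fin n, g₁ k * PowerSeries.coeff n ((gser n g₂) ^ ((k : ℕ) + 1)) := by
  rw [En, map_sub, map_sum]
  congr 1
  refine sum_congr rfl fun k _ => ?_
  rw [map_mul, aeval_X, Sum.elim_inl, aeval_rename]
  congr 1
  have h := map_BB n ((k : ℕ) + 1)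
    ((aeval ((Sum.elim g₁ g₂) ∘ Sum.inr) : MvPolynomial (Fin n) ℤ →ₐ[ℤ] A) :
      MvPolynomial (Fin n) ℤ →+* A)
  rw [RingHom.coe_coe] at h
  rw [h]
  congr 3
  funext i
  rw [aeval_X]
  rfl

attribute [local instance] modelOps

theorem lam_natCast_model {σ : Type*} (c j : ℕ) :
    LambdaOps.lam j ((c : ℕ) : MM σ) = ((c.choose j : ℕ) : MM σ) := by
  rw [← coeff_lamSeries, lamSeries_natCast (fun k hk => LModel.lam_one_eq_zero k hk),
    coeff_one_add_X_pow]

theorem lam_sum_X_model (n k : ℕ) :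
    LambdaOps.lam k (∑ a : Fin n, (X a : MM (Fin n))) = esymm (Fin n) ℤ k := by
  classical
  rw [← coeff_lamSeries, lamSeries_sum,
    prod_congr rfl (fun a _ => lamSeries_of_lam_eq_zero (X a : MM (Fin n))
      (fun j hj => LModel.lam_X a j hj)),
    coeff_prod_one_add_C_mul_X, esymm]

theorem En_nat (n : ℕ) (hn : 1 ≤ n) (c : ℕ) :
    aeval (Sum.elim (fun i : Fin n => ((c.choose ((i : ℕ) + 1) : ℕ) : MvPolynomial (Fin n) ℤ)) X)
      (En n) = 0 := by
  apply MulPoly.EE_injective n n ℤ le_rfl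
  rw [map_zero]
  have h1 := map_aeval_int
    ((MulPoly.EE n n ℤ : MvPolynomial (Fin n) ℤ →ₐ[ℤ] MvPolynomial (Fin n) ℤ) :
      MvPolynomial (Fin n) ℤ →+* MvPolynomial (Fin n) ℤ)
    (Sum.elim (fun i : Fin n => ((c.choose ((i : ℕ) + 1) : ℕ) : MvPolynomial (Fin n) ℤ)) X)
    (En n)
  rw [RingHom.coe_coe] at h1
  refine h1.trans ?_
  have hval : (fun i => MulPoly.EE n n ℤ
      (Sum.elim (fun i : Fin n => ((c.choose ((i : ℕ) + 1) : ℕ) : MvPolynomial (Fin n) ℤ)) X i)) =
      Sum.elim (fun i : Fin n => LambdaOps.lam ((i : ℕ) + 1) ((c : ℕ) : MM (Fin n)))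
        (fun k : Fin n => LambdaOps.lam ((k : ℕ) + 1) (∑ a : Fin n, (X a : MM (Fin n)))) := by
    funext i
    rcases i with i | k
    · simp only [Sum.elim_inl, map_natCast]
      rw [lam_natCast_model]
    · simp only [Sum.elim_inr]
      rw [MulPoly.EE, aeval_X, lam_sum_X_model]
  rw [hval, aeval_En, ← isSpecial_model.lam_mul n (Pn n) (Pn_spec n),
    nat_lam_mul c _ n hn, sub_eq_zero]
  refine sum_congr rfl fun k _ => ?_
  rw [lam_natCast_model]
  congr 1
  exact (coeff_pow_congr n _ _ (coeff_gser_lam n _) _ n le_rfl).symm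

/-! ### the formula -/

/-- **scalars from the binomial ring**: `λ^n(c y) = ∑_k C(c, k+1) [t^n] (λ_t(y) - 1)^(k+1)` -/
theorem lam_algebraMap_mul {K : Type*} [CommRing K] [LambdaOps K] [BinomialRing K]
    (hKb : IsBinomial K) {A : Type*} [CommRing A] [LambdaOps A] [Algebra K A] (hA : IsSpecial A)
    (hKA : IsLambdaAlg K A) (c : K) (y : A) (n : ℕ) (hn : 1 ≤ n) :
    LambdaOps.lam n (algebraMap K A c * y) =
      ∑ k : Fin n, algebraMap K A (Ring.choose c ((k : ℕ) + 1)) *
        PowerSeries.coeff n ((lamSeries y - 1) ^ ((k : ℕ) + 1)) := by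
  have h1 := bin_transfer (En n) (En_nat n hn) c (fun k : Fin n => LambdaOps.lam ((k : ℕ) + 1) y)
  rw [aeval_En, sub_eq_zero] at h1
  have h2 : LambdaOps.lam n (algebraMap K A c * y) =
      aeval (Sum.elim (fun i : Fin n => algebraMap K A (Ring.choose c ((i : ℕ) + 1)))
        (fun k : Fin n => LambdaOps.lam ((k : ℕ) + 1) y)) (Pn n) := by
    rw [hA.lam_mul n (Pn n) (Pn_spec n)]
    congr 2
    funext i
    rcases i with i | i
    · simp only [Sum.elim_inl]
      rw [← hKA, hKb]
    · rfl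
  rw [h2, h1]
  refine sum_congr rfl fun k _ => ?_
  congr 1
  exact coeff_pow_congr n _ _ (coeff_gser_lam n y) _ n le_rfl

end Groth.Agent.Lib.T2H7.LBinom
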