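import Groth.Agent.Lib.T2H7LTransfer
import Groth.Agent.Lib.T2H7LBinom
import Mathlib

/-!
# The `γ`-filtration of an augmented `λ`-algebra over a binomial ring

Multiplicativity and `γ`-stability of the filtration, and the congruence
`γ^m(z) ≡ (-1)^(m-1) (m-1)! z` modulo `Fil^(m+1)` for `z ∈ Fil^m`.
-/

set_option autoImplicit false

noncomputable section

namespace Groth.Agent.Lib.T2H7.GFilT

open MvPolynomial Finset LambdaRing
open Groth.Agent.Lib.Helper4 Groth.Agent.Lib.T2H7.LTerm Groth.Agent.Lib.T2H7.LTransfer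
open Groth.Agent.Lib.T2H7.LBinom

section Basic

variable {K : Type*} [CommRing K] {A : Type*} [CommRing A] [LambdaOps A] (ε : A →+* K)

theorem gammaFil_anti {a b : ℕ} (h : a ≤ b) : gammaFil ε b ≤ gammaFil ε a := by
  apply Ideal.span_mono
  rintro y ⟨l, hl, hs, rfl⟩
  exact ⟨l, hl, le_trans h hs, rfl⟩

theorem gammaFil_mul {a b : ℕ} {x y : A} (hx : x ∈ gammaFil ε a) (hy : y ∈ gammaFil ε b) :
    x * y ∈ gammaFil ε (a + b) := by
  have h : gammaFil ε a * gammaFil ε b ≤ gammaFil ε (a + b) := by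
    unfold gammaFil
    rw [Ideal.span_mul_span']
    apply Ideal.span_le.mpr
    rintro _ ⟨u, ⟨l₁, h₁, s₁, rfl⟩, v, ⟨l₂, h₂, s₂, rfl⟩, rfl⟩
    apply Ideal.subset_span
    refine ⟨l₁ ++ l₂, ?_, ?_, ?_⟩
    · intro p hp
      rcases List.mem_append.mp hp with h | h
      · exact h₁ p h
      · exact h₂ p h
    · rw [List.map_append, List.sum_append]; omega
    · rw [List.map_append, List.prod_append]
  exact h (Ideal.mul_mem_mul hx hy)

theorem gamma_mem_gammaFil {x : A} (hx : ε x = 0) (k : ℕ) : gamma k x ∈ gammaFil ε k := by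
  apply Ideal.subset_span
  refine ⟨[(k, x)], ?_, ?_, ?_⟩
  · intro p hp
    rw [List.mem_singleton] at hp
    rw [hp]; exact hx
  · simp
  · simp

theorem one_mem_gammaFil_zero : (1 : A) ∈ gammaFil ε 0 := by
  apply Ideal.subset_span
  exact ⟨[], by simp, by simp, by simp⟩

theorem mem_gammaFil_zero (a : A) : a ∈ gammaFil ε 0 := by
  have h := Ideal.mul_mem_left (gammaFil ε 0) a (one_mem_gammaFil_zero ε)
  rwa [mul_one] at h

theorem pow_mem_gammaFil {x : A} {a : ℕ} (hx : x ∈ gammaFil ε a) (n : ℕ) :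
    x ^ n ∈ gammaFil ε (n • a) := by
  induction n with
  | zero => rw [pow_zero, zero_smul]; exact one_mem_gammaFil_zero ε
  | succ n ih => rw [pow_succ, succ_nsmul]; exact gammaFil_mul ε ih hx

theorem finsupp_prod_mem {ι : Type*} (μ : ι →₀ ℕ) (f : ι → A) (w : ι → ℕ)
    (hf : ∀ i, f i ∈ gammaFil ε (w i)) :
    (μ.prod fun i k => f i ^ k) ∈ gammaFil ε (Finsupp.weight w μ) := by
  classical
  induction μ using Finsupp.induction_linear with
  | zero => rw [Finsupp.prod_zero_index, map_zero]; exact one_mem_gammaFil_zero ε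
  | add μ ν hμ hν =>
    rw [Finsupp.prod_add_index' (fun i => pow_zero _) (fun i m n => pow_add _ _ _), map_add]
    exact gammaFil_mul ε hμ hν
  | single a b =>
    rw [Finsupp.prod_single_index (h := fun i k => f i ^ k) (pow_zero _), Finsupp.weight_single]
    exact pow_mem_gammaFil ε (hf a) b

theorem evG_monomial_mem {r : ℕ} (x : Fin r → A) (hx : ∀ s, ε (x s) = 0)
    (μ : Fin r × ℕ →₀ ℕ) :
    evG x (monomial μ 1) ∈ gammaFil ε (Finsupp.weight (wtG r) μ) := by
  rw [evG, aeval_monomial, map_one, one_mul]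
  exact finsupp_prod_mem ε μ (fun p => gamma (p.2 + 1) (x p.1)) (wtG r)
    (fun p => gamma_mem_gammaFil ε (hx p.1) (p.2 + 1))

/-! ### `γ` and `λ` of an element and ideals -/

theorem gamma_one_arg (x : A) : gamma 1 x = x := by
  have h := gamma_succ_eq x 0
  rw [Finset.sum_range_one, Nat.choose_self, Nat.cast_one, one_mul, LambdaOps.lam_one] at h
  exact h

theorem gamma_zero_arg (j : ℕ) (hj : 1 ≤ j) : gamma j (0 : A) = 0 := by
  obtain ⟨n, rfl⟩ : ∃ n, j = n + 1 := ⟨j - 1, by omega⟩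
  rw [gamma_succ_eq]
  refine Finset.sum_eq_zero fun i _ => ?_
  rw [lam_zero_arg, if_neg (Nat.succ_ne_zero i), mul_zero]

theorem lam_mem_of_gamma_mem (J : Ideal A) (z : A) (hz : ∀ i, 1 ≤ i → gamma i z ∈ J) :
    ∀ i, 1 ≤ i → LambdaOps.lam i z ∈ J := by
  intro i hi
  obtain ⟨n, rfl⟩ : ∃ n, i = n + 1 := ⟨i - 1, by omega⟩
  rw [lam_succ_eq_sum_gamma]
  exact Ideal.sum_mem _ fun j _ => Ideal.mul_mem_left _ _ (hz (j + 1) (by omega))

theorem gamma_mem_of_lam_mem (J : Ideal A) (z : A) (hz : ∀ i, 1 ≤ i → LambdaOps.lam i z ∈ J) :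
    ∀ i, 1 ≤ i → gamma i z ∈ J := by
  intro i hi
  obtain ⟨n, rfl⟩ : ∃ n, i = n + 1 := ⟨i - 1, by omega⟩
  rw [gamma_succ_eq]
  exact Ideal.sum_mem _ fun j _ => Ideal.mul_mem_left _ _ (hz (j + 1) (by omega))

omit [LambdaOps A] in
theorem aeval_mem_of_isMulPoly (n : ℕ) (hn : 1 ≤ n)
    (P : MvPolynomial (Fin n ⊕ Fin n) ℤ) (hP : IsMulPoly n P) (f g : Fin n → A) (J : Ideal A)
    (hg : ∀ k, g k ∈ J) : aeval (Sum.elim f g) P ∈ J := by
  classical
  rw [P.as_sum, map_sum]
  refine Ideal.sum_mem _ fun m hm => ?_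
  rw [aeval_monomial]
  apply Ideal.mul_mem_left
  have hw := hP.2 (mem_support_iff.mp hm)
  obtain ⟨k, hk⟩ : ∃ k, m (Sum.inr k) ≠ 0 := by
    by_contra hcon
    simp only [not_exists, not_not] at hcon
    have h2 := congrArg Prod.snd hw
    rw [Finsupp.weight_apply, Finsupp.sum, Prod.snd_sum] at h2
    have h0 : ∑ v ∈ m.support, (m v • Sum.elim (fun k : Fin n => (((k : ℕ) + 1, 0) : ℕ × ℕ))
        (fun k : Fin n => ((0, (k : ℕ) + 1) : ℕ × ℕ)) v).2 = 0 := by
      refine sum_eq_zero fun v _ => ?_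
      rcases v with k | k
      · simp
      · simp [hcon k]
    rw [h0] at h2
    simp only at h2
    omega
  have h3 : (Sum.elim f g (Sum.inr k)) ^ m (Sum.inr k) ∣
      m.prod fun i e => (Sum.elim f g i) ^ e :=
    Finset.dvd_prod_of_mem (fun i => (Sum.elim f g i) ^ m i) (Finsupp.mem_support_iff.mpr hk)
  obtain ⟨c, hc⟩ := h3
  rw [hc]
  exact Ideal.mul_mem_right _ _ (Ideal.pow_mem_of_mem _ (hg k) _ (Nat.pos_of_ne_zero hk))

theorem lam_mul_mem (hA : IsSpecial A) (J : Ideal A) (b z : A)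
    (hz : ∀ i, 1 ≤ i → LambdaOps.lam i z ∈ J) : ∀ n, 1 ≤ n → LambdaOps.lam n (b * z) ∈ J := by
  intro n hn
  rw [hA.lam_mul n (Pn n) (Pn_spec n)]
  exact aeval_mem_of_isMulPoly n hn (Pn n) (Pn_spec n) _ _ J (fun k => hz _ (by omega))

theorem gamma_mul_mem (hA : IsSpecial A) (J : Ideal A) (b z : A)
    (hz : ∀ i, 1 ≤ i → gamma i z ∈ J) : ∀ j, 1 ≤ j → gamma j (b * z) ∈ J :=
  gamma_mem_of_lam_mem J _ (lam_mul_mem hA J b z (lam_mem_of_gamma_mem J z hz))

/-! ### generators -/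

theorem list_reindex (l : List (ℕ × A)) :
    ∃ (r : ℕ) (x : Fin r → A) (l' : List (ℕ × Fin r)),
      (∀ s, ∃ p ∈ l, x s = p.2) ∧ (l'.map Prod.fst).sum = (l.map Prod.fst).sum ∧
      (l'.map fun p => gamma p.1 (x p.2)).prod = (l.map fun p => gamma p.1 p.2).prod := by
  refine ⟨l.length, fun s => (l.get s).2,
    List.ofFn (fun s : Fin l.length => ((l.get s).1, s)), ?_, ?_, ?_⟩
  · intro s
    exact ⟨l.get s, List.get_mem l s, rfl⟩
  · rw [List.map_ofFn]
    have h : (Prod.fst ∘ fun s : Fin l.length => ((l.get s).1, s)) = (Prod.fst ∘ l.get) := rfl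
    rw [h, ← List.map_ofFn, List.ofFn_get]
  · rw [List.map_ofFn]
    have h : ((fun p : ℕ × Fin l.length => gamma p.1 ((l.get p.2).2)) ∘
        fun s : Fin l.length => ((l.get s).1, s)) =
        ((fun p : ℕ × A => gamma p.1 p.2) ∘ l.get) := rfl
    rw [h, ← List.map_ofFn, List.ofFn_get]

theorem gamma_gen_mem (hA : IsSpecial A) (l : List (ℕ × A)) (hl : ∀ p ∈ l, ε p.2 = 0) (j : ℕ)
    (hj : 1 ≤ j) :
    gamma j ((l.map fun p => gamma p.1 p.2).prod) ∈ gammaFil ε (l.map Prod.fst).sum := by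
  obtain ⟨r, x, l', hx, hs, hp⟩ := list_reindex l
  have hx0 : ∀ s, ε (x s) = 0 := fun s => by
    obtain ⟨p, hp, h⟩ := hx s
    rw [h]; exact hl p hp
  rw [← hp, ← hs]
  exact gamma_gprod_mem r hA x (gammaFil ε _) l' j hj
    (fun μ hμ => gammaFil_anti ε hμ (evG_monomial_mem ε x hx0 μ))

theorem gamma_sub_gen_mem (hA : IsSpecial A) (l : List (ℕ × A)) (hl : ∀ p ∈ l, ε p.2 = 0)
    (m : ℕ) (hm : 1 ≤ m) (hs : m ≤ (l.map Prod.fst).sum) :
    gamma m ((l.map fun p => gamma p.1 p.2).prod) -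
      ((-1) ^ (m - 1) * ((m - 1).factorial : A)) * (l.map fun p => gamma p.1 p.2).prod ∈
        gammaFil ε (m + 1) := by
  obtain ⟨r, x, l', hx, hs', hp⟩ := list_reindex l
  have hx0 : ∀ s, ε (x s) = 0 := fun s => by
    obtain ⟨p, hp, h⟩ := hx s
    rw [h]; exact hl p hp
  rw [← hp]
  exact gamma_sub_gprod_mem r hA x (gammaFil ε _) l' m hm (by rw [hs']; exact hs)
    (fun μ hμ => gammaFil_anti ε hμ (evG_monomial_mem ε x hx0 μ))

/-- the filtration is stable under the `γ`-operations -/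
theorem gamma_mem_of_mem (hA : IsSpecial A) (a : ℕ) {z : A} (hz : z ∈ gammaFil ε a) :
    ∀ j, 1 ≤ j → gamma j z ∈ gammaFil ε a := by
  change z ∈ Submodule.span A _ at hz
  induction hz using Submodule.span_induction with
  | mem y hy =>
    obtain ⟨l, hl, hs, rfl⟩ := hy
    intro j hj
    exact gammaFil_anti ε hs (gamma_gen_mem ε hA l hl j hj)
  | zero =>
    intro j hj
    rw [gamma_zero_arg j hj]
    exact Ideal.zero_mem _
  | add x y _ _ hx hy =>
    intro j hj
    rw [gamma_add]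
    refine Ideal.sum_mem _ fun i hi => ?_
    by_cases h0 : i = 0
    · subst h0
      rw [Nat.sub_zero]
      exact Ideal.mul_mem_left _ _ (hy j hj)
    · exact Ideal.mul_mem_right _ _ (hx i (by omega))
  | smul b x _ hx =>
    intro j hj
    rw [smul_eq_mul]
    exact gamma_mul_mem hA _ b x hx j hj

theorem mid_mem (hA : IsSpecial A) (n : ℕ) (κ x y : A) (hx : x ∈ gammaFil ε (n + 1))
    (hy : y ∈ gammaFil ε (n + 1)) :
    (gamma (n + 1) (x + y) - κ * (x + y)) - (gamma (n + 1) x - κ * x) -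
      (gamma (n + 1) y - κ * y) ∈ gammaFil ε (n + 2) := by
  have e0 : gamma 0 x = 1 := by rw [gamma, if_pos rfl]
  have e1 : gamma 0 y = 1 := by rw [gamma, if_pos rfl]
  have h1 : gamma (n + 1) (x + y) = gamma (n + 1) y +
      ∑ i ∈ range n, gamma (i + 1) x * gamma (n - i) y + gamma (n + 1) x := by
    rw [gamma_add, Finset.sum_range_succ, Finset.sum_range_succ', Nat.sub_self, e1, mul_one,
      Nat.sub_zero, e0, one_mul]
    congr 1
    rw [add_comm]
    congr 1
    refine sum_congr rfl fun i _ => ?_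
    rw [Nat.add_sub_add_right]
  have h2 : (gamma (n + 1) (x + y) - κ * (x + y)) - (gamma (n + 1) x - κ * x) -
      (gamma (n + 1) y - κ * y) = ∑ i ∈ range n, gamma (i + 1) x * gamma (n - i) y := by
    rw [h1]; ring
  rw [h2]
  refine Ideal.sum_mem _ fun i hi => ?_
  rw [mem_range] at hi
  have h3 := gammaFil_mul ε (gamma_mem_of_mem ε hA (n + 1) hx (i + 1) (by omega))
    (gamma_mem_of_mem ε hA (n + 1) hy (n - i) (by omega))
  exact gammaFil_anti ε (by omega) h3

end Basic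

/-! ### scalars -/

section Scalars

variable {A : Type*} [CommRing A]

theorem coeff_mul_mem_left {I : Ideal A} {f : PowerSeries A}
    (hf : ∀ m, PowerSeries.coeff m f ∈ I) (g : PowerSeries A) :
    ∀ m, PowerSeries.coeff m (f * g) ∈ I := by
  intro m
  rw [PowerSeries.coeff_mul]
  exact Ideal.sum_mem _ fun p _ => Ideal.mul_mem_right _ _ (hf p.1)

theorem coeff_mul_mem_mul {I I' : Ideal A} {f g : PowerSeries A}
    (hf : ∀ m, PowerSeries.coeff m f ∈ I) (hg : ∀ m, PowerSeries.coeff m g ∈ I') :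
    ∀ m, PowerSeries.coeff m (f * g) ∈ I * I' := by
  intro m
  rw [PowerSeries.coeff_mul]
  exact Ideal.sum_mem _ fun p _ => Ideal.mul_mem_mul (hf p.1) (hg p.2)

variable {K : Type*} [CommRing K] [LambdaOps K] [BinomialRing K] [LambdaOps A] [Algebra K A]

theorem lam_smul_sub_mem (hKb : IsBinomial K) (hA : IsSpecial A) (hKA : IsLambdaAlg K A)
    (J : Ideal A) (c : K) (x : A) (hx : ∀ i, 1 ≤ i → LambdaOps.lam i x ∈ J) (n : ℕ)
    (hn : 1 ≤ n) :
    LambdaOps.lam n (algebraMap K A c * x) - algebraMap K A c * LambdaOps.lam n x ∈ J * J := by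
  obtain ⟨n', rfl⟩ : ∃ n', n = n' + 1 := ⟨n - 1, by omega⟩
  rw [lam_algebraMap_mul hKb hA hKA c x (n' + 1) hn, Fin.sum_univ_succ]
  have hu : ∀ m, PowerSeries.coeff m (lamSeries x - 1) ∈ J := by
    intro m
    rw [map_sub, coeff_lamSeries, PowerSeries.coeff_one]
    rcases m with _ | m
    · rw [if_pos rfl, LambdaOps.lam_zero, sub_self]; exact Ideal.zero_mem _
    · rw [if_neg (Nat.succ_ne_zero m), sub_zero]; exact hx _ (by omega)
  have h0 : algebraMap K A (Ring.choose c (((0 : Fin (n' + 1)) : ℕ) + 1)) *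
      PowerSeries.coeff (n' + 1) ((lamSeries x - 1) ^ (((0 : Fin (n' + 1)) : ℕ) + 1)) =
      algebraMap K A c * LambdaOps.lam (n' + 1) x := by
    rw [Fin.val_zero, zero_add, Ring.choose_one_right, pow_one, map_sub, coeff_lamSeries,
      PowerSeries.coeff_one, if_neg (Nat.succ_ne_zero n'), sub_zero]
  rw [h0, add_sub_cancel_left]
  refine Ideal.sum_mem _ fun k _ => Ideal.mul_mem_left _ _ ?_
  have h2 : (lamSeries x - 1) ^ (((k.succ : Fin (n' + 1)) : ℕ) + 1) =
      ((lamSeries x - 1) * (lamSeries x - 1)) * (lamSeries x - 1) ^ (k : ℕ) := by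
    rw [Fin.val_succ]; ring
  rw [h2]
  exact coeff_mul_mem_left (coeff_mul_mem_mul hu hu) _ _

theorem gamma_smul_sub_mem (hKb : IsBinomial K) (hA : IsSpecial A) (hKA : IsLambdaAlg K A)
    (J : Ideal A) (c : K) (x : A) (hx : ∀ i, 1 ≤ i → LambdaOps.lam i x ∈ J) (m : ℕ)
    (hm : 1 ≤ m) :
    gamma m (algebraMap K A c * x) - algebraMap K A c * gamma m x ∈ J * J := by
  obtain ⟨n, rfl⟩ : ∃ n, m = n + 1 := ⟨m - 1, by omega⟩
  rw [gamma_succ_eq, gamma_succ_eq, Finset.mul_sum, ← Finset.sum_sub_distrib]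
  refine Ideal.sum_mem _ fun i _ => ?_
  have h : (n.choose i : A) * LambdaOps.lam (i + 1) (algebraMap K A c * x) -
      algebraMap K A c * ((n.choose i : A) * LambdaOps.lam (i + 1) x) =
      (n.choose i : A) * (LambdaOps.lam (i + 1) (algebraMap K A c * x) -
        algebraMap K A c * LambdaOps.lam (i + 1) x) := by ring
  rw [h]
  exact Ideal.mul_mem_left _ _ (lam_smul_sub_mem hKb hA hKA J c x hx (i + 1) (by omega))

/-- **the congruence** `γ^m(z) ≡ (-1)^(m-1) (m-1)! z` modulo `Fil^(m+1)` for `z ∈ Fil^m` -/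
theorem gamma_sub_mem_gammaFil (hKb : IsBinomial K) (hA : IsSpecial A) (hKA : IsLambdaAlg K A)
    (ε : A →+* K) (hε : ∀ c : K, ε (algebraMap K A c) = c) (m : ℕ) (hm : 1 ≤ m) (z : A)
    (hz : z ∈ gammaFil ε m) :
    gamma m z - ((-1 : A) ^ (m - 1) * ((m - 1).factorial : A)) * z ∈ gammaFil ε (m + 1) := by
  obtain ⟨n, rfl⟩ : ∃ n, m = n + 1 := ⟨m - 1, by omega⟩
  generalize hκ : ((-1 : A) ^ (n + 1 - 1) * ((n + 1 - 1).factorial : A)) = κ
  have hgen : ∀ l : List (ℕ × A), (∀ p ∈ l, ε p.2 = 0) → n + 1 ≤ (l.map Prod.fst).sum →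
      gamma (n + 1) ((l.map fun p => gamma p.1 p.2).prod) -
        κ * (l.map fun p => gamma p.1 p.2).prod ∈ gammaFil ε (n + 1 + 1) := by
    intro l hl hs
    rw [← hκ]
    exact gamma_sub_gen_mem ε hA l hl (n + 1) hm hs
  clear hκ
  change z ∈ Submodule.span A _ at hz
  induction hz using Submodule.span_induction with
  | mem y hy =>
    obtain ⟨l, hl, hs, rfl⟩ := hy
    exact hgen l hl hs
  | zero =>
    rw [gamma_zero_arg _ hm, mul_zero, sub_zero]
    exact Ideal.zero_mem _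
  | add x y hx hy px py =>
    have h := mid_mem ε hA n κ x y hx hy
    have e : gamma (n + 1) (x + y) - κ * (x + y) =
        ((gamma (n + 1) (x + y) - κ * (x + y)) - (gamma (n + 1) x - κ * x) -
          (gamma (n + 1) y - κ * y)) + (gamma (n + 1) x - κ * x) + (gamma (n + 1) y - κ * y) := by
      ring
    rw [e]
    exact add_mem (add_mem h px) py
  | smul a x hx px =>
    rw [smul_eq_mul]
    have hx' : x ∈ gammaFil ε (n + 1) := hx
    have ha' : ε (a - algebraMap K A (ε a)) = 0 := by rw [map_sub, hε, sub_self]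
    have hu : algebraMap K A (ε a) * x ∈ gammaFil ε (n + 1) := Ideal.mul_mem_left _ _ hx'
    have hv1 : (a - algebraMap K A (ε a)) * x ∈ gammaFil ε (n + 2) := by
      have h1 : (a - algebraMap K A (ε a)) ∈ gammaFil ε 1 := by
        have h := gamma_mem_gammaFil ε ha' 1
        rwa [gamma_one_arg] at h
      exact gammaFil_anti ε (by omega) (gammaFil_mul ε h1 hx')
    have hv : (a - algebraMap K A (ε a)) * x ∈ gammaFil ε (n + 1) :=
      gammaFil_anti ε (by omega) hv1
    have hsplit : a * x = algebraMap K A (ε a) * x + (a - algebraMap K A (ε a)) * x := by ring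
    rw [hsplit]
    have hmid := mid_mem ε hA n κ _ _ hu hv
    have hDv : gamma (n + 1) ((a - algebraMap K A (ε a)) * x) -
        κ * ((a - algebraMap K A (ε a)) * x) ∈ gammaFil ε (n + 2) :=
      Ideal.sub_mem _ (gamma_mem_of_mem ε hA (n + 2) hv1 (n + 1) (by omega))
        (Ideal.mul_mem_left _ _ hv1)
    have hDu : gamma (n + 1) (algebraMap K A (ε a) * x) - κ * (algebraMap K A (ε a) * x) ∈
        gammaFil ε (n + 2) := by
      have h1 := gamma_smul_sub_mem hKb hA hKA (gammaFil ε (n + 1)) (ε a) x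
        (lam_mem_of_gamma_mem _ x (gamma_mem_of_mem ε hA (n + 1) hx')) (n + 1) (by omega)
      have h2 : gammaFil ε (n + 1) * gammaFil ε (n + 1) ≤ gammaFil ε (n + 2) := by
        rw [Ideal.mul_le]
        intro r hr s hs
        exact gammaFil_anti ε (by omega) (gammaFil_mul ε hr hs)
      have h3 : gamma (n + 1) (algebraMap K A (ε a) * x) - κ * (algebraMap K A (ε a) * x) =
          (gamma (n + 1) (algebraMap K A (ε a) * x) - algebraMap K A (ε a) * gamma (n + 1) x) +
            algebraMap K A (ε a) * (gamma (n + 1) x - κ * x) := by ring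
      rw [h3]
      exact add_mem (h2 h1) (Ideal.mul_mem_left _ _ px)
    have e : gamma (n + 1) (algebraMap K A (ε a) * x + (a - algebraMap K A (ε a)) * x) -
        κ * (algebraMap K A (ε a) * x + (a - algebraMap K A (ε a)) * x) =
        ((gamma (n + 1) (algebraMap K A (ε a) * x + (a - algebraMap K A (ε a)) * x) -
          κ * (algebraMap K A (ε a) * x + (a - algebraMap K A (ε a)) * x)) -
          (gamma (n + 1) (algebraMap K A (ε a) * x) - κ * (algebraMap K A (ε a) * x)) -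
          (gamma (n + 1) ((a - algebraMap K A (ε a)) * x) -
            κ * ((a - algebraMap K A (ε a)) * x))) +
          (gamma (n + 1) (algebraMap K A (ε a) * x) - κ * (algebraMap K A (ε a) * x)) +
          (gamma (n + 1) ((a - algebraMap K A (ε a)) * x) -
            κ * ((a - algebraMap K A (ε a)) * x)) := by
      ring
    rw [e]
    exact add_mem (add_mem hmid hDu) hDv

end Scalars

end Groth.Agent.Lib.T2H7.GFilT
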