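import Groth.Agent.Lib.T2H7GFil
import Mathlib

/-!
# Complements on the `γ`-filtration

The binomial scalar formula in terms of the `γ`-operations, and the transfer of the statement
`γ^j(g) ∈ Fil^j` for a product `g` of `γ`'s of positive weight.
-/

set_option autoImplicit false

noncomputable section

namespace Groth.Agent.Lib.T2H7.GFilT

open MvPolynomial Finset LambdaRing
open Groth.Agent.Lib.Helper4 Groth.Agent.Lib.T2H7.LTerm Groth.Agent.Lib.T2H7.LTransfer
open Groth.Agent.Lib.T2H7.LBinom Groth.Agent.Lib.T2H7.LModel Groth.Agent.Lib.T2H7.LModelFil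

section Subst

variable {A : Type*} [CommRing A]

theorem constantCoeff_tau : PowerSeries.constantCoeff (tau A) = 0 := by
  rw [tau, map_mul, PowerSeries.constantCoeff_X, zero_mul]

theorem coeff_subst_tau_congr (N : ℕ) (F G : PowerSeries A)
    (h : ∀ d ≤ N, PowerSeries.coeff d F = PowerSeries.coeff d G) :
    PowerSeries.coeff N (F.subst (tau A)) = PowerSeries.coeff N (G.subst (tau A)) := by
  rw [PowerSeries.coeff_subst' hasSubst_tau, PowerSeries.coeff_subst' hasSubst_tau]
  apply finsum_congr
  intro d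
  by_cases hd : d ≤ N
  · rw [h d hd]
  · have h0 : PowerSeries.coeff N ((tau A) ^ d) = 0 :=
      coeff_pow_eq_zero_of_lt _ constantCoeff_tau (by omega)
    rw [h0, smul_zero, smul_zero]

variable {K : Type*} [CommRing K] [LambdaOps K] [BinomialRing K] [LambdaOps A] [Algebra K A]

/-- **scalars from the binomial ring**, `γ`-form:
`γ^N(c y) = ∑_k C(c, k+1) [t^N] (γ_t(y) - 1)^(k+1)` -/
theorem gamma_algebraMap_mul (hKb : IsBinomial K) (hA : IsSpecial A) (hKA : IsLambdaAlg K A)
    (c : K) (y : A) (N : ℕ) (hN : 1 ≤ N) :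
    gamma N (algebraMap K A c * y) =
      ∑ k : Fin N, algebraMap K A (Ring.choose c ((k : ℕ) + 1)) *
        PowerSeries.coeff N ((gammaSeries y - 1) ^ ((k : ℕ) + 1)) := by
  have hu0 : PowerSeries.constantCoeff (lamSeries y - 1) = 0 := by
    rw [map_sub, map_one, ← PowerSeries.coeff_zero_eq_constantCoeff_apply, coeff_lamSeries,
      LambdaOps.lam_zero, sub_self]
  let G : PowerSeries A := 1 + ∑ k : Fin N, algebraMap K A (Ring.choose c ((k : ℕ) + 1)) •
    (lamSeries y - 1) ^ ((k : ℕ) + 1)
  have hG : G = 1 + ∑ k : Fin N, algebraMap K A (Ring.choose c ((k : ℕ) + 1)) •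
    (lamSeries y - 1) ^ ((k : ℕ) + 1) := rfl
  have hcong : ∀ d ≤ N, PowerSeries.coeff d (lamSeries (algebraMap K A c * y)) =
      PowerSeries.coeff d G := by
    intro d hd
    rw [hG, map_add, map_sum, coeff_lamSeries]
    simp only [PowerSeries.coeff_smul, smul_eq_mul]
    rcases d with _ | d
    · rw [LambdaOps.lam_zero, PowerSeries.coeff_one, if_pos rfl, Finset.sum_eq_zero, add_zero]
      intro k _
      rw [coeff_pow_eq_zero_of_lt _ hu0 (by omega), mul_zero]
    · rw [PowerSeries.coeff_one, if_neg (Nat.succ_ne_zero d), zero_add,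
        lam_algebraMap_mul hKb hA hKA c y (d + 1) (by omega)]
      rw [← Finset.sum_range (fun k => algebraMap K A (Ring.choose c (k + 1)) *
          PowerSeries.coeff (d + 1) ((lamSeries y - 1) ^ (k + 1))),
        ← Finset.sum_range (fun k => algebraMap K A (Ring.choose c (k + 1)) *
          PowerSeries.coeff (d + 1) ((lamSeries y - 1) ^ (k + 1)))]
      apply Finset.sum_subset (Finset.range_subset_range.mpr hd)
      intro k _ hk
      rw [mem_range, not_lt] at hk
      rw [coeff_pow_eq_zero_of_lt _ hu0 (by omega), mul_zero]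
  have h1 := coeff_subst_tau_congr N _ _ hcong
  rw [← gammaSeries_eq_subst, coeff_gammaSeries] at h1
  rw [h1]
  have h2 : G.subst (tau A) = 1 + ∑ k : Fin N, algebraMap K A (Ring.choose c ((k : ℕ) + 1)) •
      (gammaSeries y - 1) ^ ((k : ℕ) + 1) := by
    rw [hG, ← PowerSeries.coe_substAlgHom hasSubst_tau, map_add, map_one, map_sum]
    congr 1
    refine sum_congr rfl fun k _ => ?_
    rw [map_smul, map_pow, map_sub, map_one, PowerSeries.coe_substAlgHom, ← gammaSeries_eq_subst]
  rw [h2, map_add, map_sum, PowerSeries.coeff_one, if_neg (by omega), zero_add]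
  refine sum_congr rfl fun k _ => ?_
  rw [PowerSeries.coeff_smul, smul_eq_mul]

end Subst

section Transfer

attribute [local instance] modelOps

variable {A : Type*} [CommRing A] [LambdaOps A]

/-- `γ^j` of a product of `γ`'s of positive weight lies in any ideal containing the monomials of
weight at least `j` -/
theorem gamma_gprod_mem_weight (r : ℕ) (hA : IsSpecial A) (x : Fin r → A) (J : Ideal A)
    (l : List (ℕ × Fin r)) (hl : 1 ≤ (l.map Prod.fst).sum) (j : ℕ)
    (hJ : ∀ μ : Fin r × ℕ →₀ ℕ, j ≤ Finsupp.weight (wtG r) μ → evG x (monomial μ 1) ∈ J) :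
    gamma j ((l.map fun p => gamma p.1 (x p.2)).prod) ∈ J := by
  have h := evG_mem_of_model r ((LT.gam j (LT.gprod l)).U 1) j (fun N => by
    rw [evG_U_one (xN r N) isSpecial_model, LT.eval_gam]
    exact gamma_mem_Iw_of_mem_one (Iw_anti hl (gprod_mem r N l)) j) x J hJ
  rwa [evG_U_one x hA, LT.eval_gam, LT.eval_gprod] at h

end Transfer

end Groth.Agent.Lib.T2H7.GFilT
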