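import Groth.Prelude.Def_LambdaSp
import Mathlib
import Groth.Agent.Lib.Helper4Lambda
import Groth.Agent.Lib.Helper4Stability
import Groth.Agent.Lib.Helper4SymPoly

/-!
# Divisibility of `λ^k(λ_{-1}(N))` by `λ_{-1}(N)` (helper7)

The universal ring `ℤ[X_1..X_d]` for an element `N` with `λ^i N = 0` for `i > d`, its model
`ℤ[ξ_1..ξ_d]`, and the vanishing of the coefficients of `λ_t(λ_{-1} N)` at `ξ_a = 1`.
-/

set_option autoImplicit false
universe u

noncomputable section

namespace Groth.Agent.Lib.T2H7.LamDiv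

open MvPolynomial Finset LambdaRing
open Groth.Agent.Lib.Helper4 Groth.Agent.Lib.Helper4.MulPoly Groth.Agent.Lib.Helper4.SymPoly

/-! ### generalities -/

section Gen

variable {G : Type*} [CommRing G] {ι : Type*}

theorem prod_one_add_C_mul_X_finset [DecidableEq ι] (s : Finset ι) (w : ι → G) :
    ∏ i ∈ s, (1 + PowerSeries.C (w i) * PowerSeries.X) =
      PowerSeries.mk (fun k => ∑ t ∈ s.powersetCard k, ∏ i ∈ t, w i) := by
  rw [Finset.prod_one_add]
  ext k
  rw [map_sum, PowerSeries.coeff_mk]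
  have h1 : ∀ t : Finset ι, PowerSeries.coeff k (∏ i ∈ t, (PowerSeries.C (w i) * PowerSeries.X)) =
      if t.card = k then ∏ i ∈ t, w i else 0 := by
    intro t
    rw [prod_mul_distrib, prod_const, ← map_prod, PowerSeries.coeff_C_mul, PowerSeries.coeff_X_pow]
    split_ifs with h1 h2 h2
    · simp
    · exact absurd h1.symm h2
    · exact absurd h2.symm h1
    · simp
  rw [sum_congr rfl (fun t _ => h1 t), ← sum_filter]
  congr 1
  ext t
  simp [mem_powersetCard]

/-- a power series with constant coefficient one can be cancelled -/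
theorem eq_of_mul_eq_mul_of_constantCoeff_one (a b c : PowerSeries G)
    (hc : PowerSeries.constantCoeff c = 1) (h : a * c = b * c) : a = b := by
  have hu : c * PowerSeries.invOfUnit c 1 = 1 := PowerSeries.mul_invOfUnit c 1 (by simpa using hc)
  calc a = a * (c * PowerSeries.invOfUnit c 1) := by rw [hu, mul_one]
    _ = (a * c) * PowerSeries.invOfUnit c 1 := by ring
    _ = (b * c) * PowerSeries.invOfUnit c 1 := by rw [h]
    _ = b * (c * PowerSeries.invOfUnit c 1) := by ring
    _ = b := by rw [hu, mul_one]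

theorem constantCoeff_prod_eq_one {κ : Type*} (s : Finset κ) (f : κ → PowerSeries G)
    (h : ∀ i ∈ s, PowerSeries.constantCoeff (f i) = 1) :
    PowerSeries.constantCoeff (∏ i ∈ s, f i) = 1 := by
  rw [map_prod]
  exact Finset.prod_eq_one h

end Gen

/-! ### the stability of `Q_{i,j}` in any number of variables -/

theorem EE_eq_compGen_all (d : ℕ) {i j : ℕ} {Q : MvPolynomial (Fin (i * j)) ℤ}
    (hQ : IsCompPoly i j Q) : EE (i * j) d ℤ Q = compGen d i j := by
  rcases le_total (i * j) d with h | h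
  · exact EE_eq_compGen_of_isCompPoly h hQ
  · rw [← res1_EE h (i * j) Q, EE_eq_compGen_of_isCompPoly le_rfl hQ, res1_compGen h]

/-! ### the universal ring -/

section Univ

variable (d : ℕ)

/-- the universal values of `λ^m N` in `ℤ[X_1..X_d]` -/
def ell (m : ℕ) : MvPolynomial (Fin d) ℤ :=
  if m = 0 then 1 else if h : m - 1 < d then X ⟨m - 1, h⟩ else 0

theorem ell_zero : ell d 0 = 1 := by rw [ell, if_pos rfl]

theorem ell_succ_of_lt (m : ℕ) (h : m < d) : ell d (m + 1) = X ⟨m, h⟩ := by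
  rw [ell, if_neg (Nat.succ_ne_zero m), dif_pos (by simpa using h)]
  rfl

theorem ell_succ_of_le (m : ℕ) (h : d ≤ m) : ell d (m + 1) = 0 := by
  rw [ell, if_neg (Nat.succ_ne_zero m), dif_neg (by simpa using h)]

theorem EE_ell (m : ℕ) : EE d d ℤ (ell d m) = esymm (Fin d) ℤ m := by
  rcases m with _ | m
  · rw [ell_zero, map_one, esymm_zero]
  · by_cases h : m < d
    · rw [ell_succ_of_lt d m h, EE, aeval_X]
    · rw [ell_succ_of_le d m (not_lt.mp h), map_zero, esymm]
      rw [Finset.powersetCard_eq_empty.mpr (by rw [Finset.card_univ, Fintype.card_fin]; omega),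
        Finset.sum_empty]

/-- the universal value of `λ^j(λ^i N)` -/
def qq (Q : ∀ i j : ℕ, MvPolynomial (Fin (i * j)) ℤ) (i j : ℕ) : MvPolynomial (Fin d) ℤ :=
  aeval (fun k : Fin (i * j) => ell d ((k : ℕ) + 1)) (Q i j)

theorem EE_qq (Q : ∀ i j : ℕ, MvPolynomial (Fin (i * j)) ℤ) (hQ : ∀ i j, IsCompPoly i j (Q i j))
    (i j : ℕ) : EE d d ℤ (qq d Q i j) = compGen d i j := by
  have h0 := AlgHom.congr_fun
    (MvPolynomial.comp_aeval (R := ℤ) (f := fun k : Fin (i * j) => ell d ((k : ℕ) + 1)) (EE d d ℤ))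
    (Q i j)
  rw [AlgHom.comp_apply] at h0
  rw [qq, h0]
  have h1 : (fun k : Fin (i * j) => EE d d ℤ (ell d ((k : ℕ) + 1))) =
      fun k : Fin (i * j) => esymm (Fin d) ℤ ((k : ℕ) + 1) := by
    funext k
    exact EE_ell d ((k : ℕ) + 1)
  rw [h1]
  exact EE_eq_compGen_all d (hQ i j)

theorem compGen_zero_right (i : ℕ) : compGen d i 0 = 1 := by
  rw [compGen_eq_sum, Finset.powersetCard_zero, Finset.sum_singleton, Finset.prod_empty]

theorem qq_zero (Q : ∀ i j : ℕ, MvPolynomial (Fin (i * j)) ℤ) (hQ : ∀ i j, IsCompPoly i j (Q i j))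
    (i : ℕ) : qq d Q i 0 = 1 := by
  apply EE_injective d d ℤ le_rfl
  rw [EE_qq d Q hQ, compGen_zero_right, map_one]

/-- the universal series `λ_t(λ^i N)` -/
def Sser (Q : ∀ i j : ℕ, MvPolynomial (Fin (i * j)) ℤ) (i : ℕ) :
    PowerSeries (MvPolynomial (Fin d) ℤ) :=
  PowerSeries.mk (fun j => qq d Q i j)

theorem constantCoeff_Sser (Q : ∀ i j : ℕ, MvPolynomial (Fin (i * j)) ℤ)
    (hQ : ∀ i j, IsCompPoly i j (Q i j)) (i : ℕ) :
    PowerSeries.constantCoeff (Sser d Q i) = 1 := by
  rw [← PowerSeries.coeff_zero_eq_constantCoeff_apply, Sser, PowerSeries.coeff_mk, qq_zero d Q hQ]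

/-- the product over even indices -/
def Ev (Q : ∀ i j : ℕ, MvPolynomial (Fin (i * j)) ℤ) : PowerSeries (MvPolynomial (Fin d) ℤ) :=
  ∏ i ∈ (range (d + 1)).filter Even, Sser d Q i

/-- the product over odd indices -/
def Od (Q : ∀ i j : ℕ, MvPolynomial (Fin (i * j)) ℤ) : PowerSeries (MvPolynomial (Fin d) ℤ) :=
  ∏ i ∈ (range (d + 1)).filter (fun i => ¬ Even i), Sser d Q i

/-- the universal series `λ_t(λ_{-1} N)` -/
def Useries (Q : ∀ i j : ℕ, MvPolynomial (Fin (i * j)) ℤ) : PowerSeries (MvPolynomial (Fin d) ℤ) :=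
  Ev d Q * PowerSeries.invOfUnit (Od d Q) 1

/-- the universal `λ_{-1} N` -/
def Yuniv : MvPolynomial (Fin d) ℤ := ∑ i ∈ range (d + 1), (-1) ^ i * ell d i

theorem constantCoeff_Od (Q : ∀ i j : ℕ, MvPolynomial (Fin (i * j)) ℤ)
    (hQ : ∀ i j, IsCompPoly i j (Q i j)) : PowerSeries.constantCoeff (Od d Q) = 1 :=
  constantCoeff_prod_eq_one _ _ fun i _ => constantCoeff_Sser d Q hQ i

theorem Useries_mul_Od (Q : ∀ i j : ℕ, MvPolynomial (Fin (i * j)) ℤ)
    (hQ : ∀ i j, IsCompPoly i j (Q i j)) : Useries d Q * Od d Q = Ev d Q := by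
  have hu : Od d Q * PowerSeries.invOfUnit (Od d Q) 1 = 1 :=
    PowerSeries.mul_invOfUnit _ 1 (by simpa using constantCoeff_Od d Q hQ)
  rw [Useries, mul_assoc, mul_comm (PowerSeries.invOfUnit _ _), hu, mul_one]

end Univ

/-! ### evaluation in a special λ-ring -/

section Eval

variable (d : ℕ) {K : Type u} [CommRing K] [LambdaOps K]

/-- evaluation at `N` -/
def evN (N : K) : MvPolynomial (Fin d) ℤ →ₐ[ℤ] K :=
  aeval (fun k : Fin d => LambdaOps.lam ((k : ℕ) + 1) N)

variable (N : K) (hN : ∀ i : ℕ, d < i → LambdaOps.lam i N = 0)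

include hN in
theorem evN_ell (m : ℕ) : evN d N (ell d m) = LambdaOps.lam m N := by
  rcases m with _ | m
  · rw [ell_zero, map_one, LambdaOps.lam_zero]
  · by_cases h : m < d
    · rw [ell_succ_of_lt d m h, evN, aeval_X]
    · rw [ell_succ_of_le d m (not_lt.mp h), map_zero, hN _ (by omega)]

include hN in
theorem evN_qq (hK : IsSpecial K) (Q : ∀ i j : ℕ, MvPolynomial (Fin (i * j)) ℤ)
    (hQ : ∀ i j, IsCompPoly i j (Q i j)) (i j : ℕ) :
    evN d N (qq d Q i j) = LambdaOps.lam j (LambdaOps.lam i N) := by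
  rw [qq, ← AlgHom.comp_apply, comp_aeval, hK.lam_lam i j (Q i j) (hQ i j) N]
  congr 2
  funext k
  exact evN_ell d N hN ((k : ℕ) + 1)

include hN in
theorem map_evN_Sser (hK : IsSpecial K) (Q : ∀ i j : ℕ, MvPolynomial (Fin (i * j)) ℤ)
    (hQ : ∀ i j, IsCompPoly i j (Q i j)) (i : ℕ) :
    PowerSeries.map (evN d N : MvPolynomial (Fin d) ℤ →+* K) (Sser d Q i) =
      lamSeries (LambdaOps.lam i N) := by
  ext j
  rw [PowerSeries.coeff_map, Sser, PowerSeries.coeff_mk, coeff_lamSeries]
  exact evN_qq d N hN hK Q hQ i j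

include hN in
theorem evN_Yuniv : evN d N (Yuniv d) = ∑ i ∈ range (d + 1), (-1 : K) ^ i * LambdaOps.lam i N := by
  rw [Yuniv, map_sum]
  refine sum_congr rfl fun i _ => ?_
  rw [map_mul, map_pow, map_neg, map_one, evN_ell d N hN]

include hN in
/-- `λ_t(λ_{-1} N)` is the image of the universal series -/
theorem map_evN_Useries (hK : IsSpecial K) (Q : ∀ i j : ℕ, MvPolynomial (Fin (i * j)) ℤ)
    (hQ : ∀ i j, IsCompPoly i j (Q i j)) :
    PowerSeries.map (evN d N : MvPolynomial (Fin d) ℤ →+* K) (Useries d Q) =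
      lamSeries (∑ i ∈ range (d + 1), (-1 : K) ^ i * LambdaOps.lam i N) := by
  set y := ∑ i ∈ range (d + 1), (-1 : K) ^ i * LambdaOps.lam i N with hy
  have hsplit : y + ∑ i ∈ (range (d + 1)).filter (fun i => ¬ Even i), LambdaOps.lam i N =
      ∑ i ∈ (range (d + 1)).filter Even, LambdaOps.lam i N := by
    rw [hy, ← Finset.sum_filter_add_sum_filter_not (range (d + 1)) Even
      (fun i => (-1 : K) ^ i * LambdaOps.lam i N)]
    have h1 : ∑ i ∈ (range (d + 1)).filter Even, (-1 : K) ^ i * LambdaOps.lam i N =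
        ∑ i ∈ (range (d + 1)).filter Even, LambdaOps.lam i N :=
      sum_congr rfl fun i hi => by rw [(mem_filter.mp hi).2.neg_one_pow, one_mul]
    have h2 : ∑ i ∈ (range (d + 1)).filter (fun i => ¬ Even i), (-1 : K) ^ i * LambdaOps.lam i N =
        -∑ i ∈ (range (d + 1)).filter (fun i => ¬ Even i), LambdaOps.lam i N := by
      rw [← Finset.sum_neg_distrib]
      exact sum_congr rfl fun i hi => by
        rw [(Nat.not_even_iff_odd.mp (mem_filter.mp hi).2).neg_one_pow, neg_one_mul]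
    rw [h1, h2]
    ring
  have hser : lamSeries y *
      ∏ i ∈ (range (d + 1)).filter (fun i => ¬ Even i), lamSeries (LambdaOps.lam i N) =
      ∏ i ∈ (range (d + 1)).filter Even, lamSeries (LambdaOps.lam i N) := by
    rw [← lamSeries_sum, ← lamSeries_sum, ← lamSeries_add, hsplit]
  have hOd : PowerSeries.map (evN d N : MvPolynomial (Fin d) ℤ →+* K) (Od d Q) =
      ∏ i ∈ (range (d + 1)).filter (fun i => ¬ Even i), lamSeries (LambdaOps.lam i N) := by
    rw [Od, map_prod]
    exact prod_congr rfl fun i _ => map_evN_Sser d N hN hK Q hQ i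
  have hEv : PowerSeries.map (evN d N : MvPolynomial (Fin d) ℤ →+* K) (Ev d Q) =
      ∏ i ∈ (range (d + 1)).filter Even, lamSeries (LambdaOps.lam i N) := by
    rw [Ev, map_prod]
    exact prod_congr rfl fun i _ => map_evN_Sser d N hN hK Q hQ i
  have hU := congrArg (PowerSeries.map (evN d N : MvPolynomial (Fin d) ℤ →+* K))
    (Useries_mul_Od d Q hQ)
  rw [map_mul, hOd, hEv, ← hser] at hU
  refine eq_of_mul_eq_mul_of_constantCoeff_one _ _ _ ?_ hU
  exact constantCoeff_prod_eq_one _ _ fun i _ => constantCoeff_lamSeries _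

end Eval

/-! ### the model `ℤ[ξ_1..ξ_d]` -/

section Model

variable (d : ℕ)

/-- the monomial of a subset -/
def xi (s : Finset (Fin d)) : MvPolynomial (Fin d) ℤ := ∏ a ∈ s, X a

theorem map_EE_Sser (Q : ∀ i j : ℕ, MvPolynomial (Fin (i * j)) ℤ)
    (hQ : ∀ i j, IsCompPoly i j (Q i j)) (i : ℕ) :
    PowerSeries.map (EE d d ℤ : MvPolynomial (Fin d) ℤ →+* MvPolynomial (Fin d) ℤ) (Sser d Q i) =
      ∏ s ∈ (univ : Finset (Fin d)).powersetCard i,
        (1 + PowerSeries.C (xi d s) * PowerSeries.X) := by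
  classical
  rw [prod_one_add_C_mul_X_finset]
  refine PowerSeries.ext fun j => ?_
  rw [PowerSeries.coeff_map, Sser, PowerSeries.coeff_mk, PowerSeries.coeff_mk]
  have := EE_qq d Q hQ i j
  rw [compGen_eq_sum] at this
  exact this.trans rfl

theorem prod_powersetCard_filter {M : Type*} [CommMonoid M] (p : ℕ → Prop) [DecidablePred p]
    (f : Finset (Fin d) → M) :
    ∏ i ∈ (range (d + 1)).filter p, ∏ s ∈ (univ : Finset (Fin d)).powersetCard i, f s =
      ∏ s ∈ (univ : Finset (Finset (Fin d))).filter (fun s => p s.card), f s := by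
  classical
  rw [← Finset.prod_fiberwise_of_maps_to (s := univ.filter (fun s : Finset (Fin d) => p s.card))
    (t := (range (d + 1)).filter p) (g := Finset.card) ?_ f]
  · refine prod_congr rfl fun i hi => prod_congr ?_ fun _ _ => rfl
    ext s
    simp only [mem_powersetCard, mem_filter, mem_univ, true_and, subset_univ]
    constructor
    · intro h
      rw [h]
      exact ⟨(mem_filter.mp hi).2, rfl⟩
    · intro h
      exact h.2
  · intro s hs
    rw [mem_filter] at hs ⊢
    refine ⟨?_, hs.2⟩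
    rw [mem_range]
    have := Finset.card_le_univ s
    rw [Fintype.card_fin] at this
    omega

/-- the even subsets -/
def evenSets : Finset (Finset (Fin d)) := univ.filter (fun s => Even s.card)

/-- the odd subsets -/
def oddSets : Finset (Finset (Fin d)) := univ.filter (fun s => ¬ Even s.card)

theorem map_EE_Ev (Q : ∀ i j : ℕ, MvPolynomial (Fin (i * j)) ℤ)
    (hQ : ∀ i j, IsCompPoly i j (Q i j)) :
    PowerSeries.map (EE d d ℤ : MvPolynomial (Fin d) ℤ →+* MvPolynomial (Fin d) ℤ) (Ev d Q) =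
      ∏ s ∈ evenSets d, (1 + PowerSeries.C (xi d s) * PowerSeries.X) := by
  rw [Ev, map_prod, evenSets, ← prod_powersetCard_filter]
  exact prod_congr rfl fun i _ => map_EE_Sser d Q hQ i

theorem map_EE_Od (Q : ∀ i j : ℕ, MvPolynomial (Fin (i * j)) ℤ)
    (hQ : ∀ i j, IsCompPoly i j (Q i j)) :
    PowerSeries.map (EE d d ℤ : MvPolynomial (Fin d) ℤ →+* MvPolynomial (Fin d) ℤ) (Od d Q) =
      ∏ s ∈ oddSets d, (1 + PowerSeries.C (xi d s) * PowerSeries.X) := by
  rw [Od, map_prod, oddSets]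
  refine (prod_congr rfl fun i _ => map_EE_Sser d Q hQ i).trans ?_
  exact prod_powersetCard_filter d (fun i => ¬ Even i) _

/-- add or remove `a` -/
def toggle {d : ℕ} (a : Fin d) (s : Finset (Fin d)) : Finset (Fin d) :=
  if a ∈ s then s.erase a else insert a s

theorem toggle_toggle {d : ℕ} (a : Fin d) (s : Finset (Fin d)) : toggle a (toggle a s) = s := by
  by_cases h : a ∈ s
  · rw [toggle, toggle, if_pos h, if_neg (Finset.notMem_erase a s), Finset.insert_erase h]
  · rw [toggle, toggle, if_neg h, if_pos (Finset.mem_insert_self a s), Finset.erase_insert h]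

theorem erase_toggle {d : ℕ} (a : Fin d) (s : Finset (Fin d)) : (toggle a s).erase a = s.erase a := by
  by_cases h : a ∈ s
  · rw [toggle, if_pos h, Finset.erase_idem]
  · rw [toggle, if_neg h, Finset.erase_insert h, Finset.erase_eq_of_notMem h]

theorem even_card_toggle {d : ℕ} (a : Fin d) (s : Finset (Fin d)) :
    Even (toggle a s).card ↔ ¬ Even s.card := by
  by_cases h : a ∈ s
  · rw [toggle, if_pos h]
    have h1 : s.card = (s.erase a).card + 1 := (Finset.card_erase_add_one h).symm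
    rw [h1, Nat.even_add_one, not_not]
  · rw [toggle, if_neg h, Finset.card_insert_of_notMem h, Nat.even_add_one]

/-- substitute `ξ_a ↦ 1` -/
def phi (a : Fin d) : MvPolynomial (Fin d) ℤ →ₐ[ℤ] MvPolynomial (Fin d) ℤ :=
  aeval (fun b => if b = a then 1 else X b)

theorem phi_X_self (a : Fin d) : phi d a (X a) = 1 := by rw [phi, aeval_X, if_pos rfl]

theorem phi_X_of_ne (a b : Fin d) (h : b ≠ a) : phi d a (X b) = X b := by
  rw [phi, aeval_X, if_neg h]

theorem phi_xi (a : Fin d) (s : Finset (Fin d)) : phi d a (xi d s) = xi d (s.erase a) := by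
  rw [xi, map_prod, xi]
  by_cases ha : a ∈ s
  · rw [← Finset.mul_prod_erase s _ ha, phi_X_self, one_mul]
    exact prod_congr rfl fun b hb => phi_X_of_ne d a b (Finset.ne_of_mem_erase hb)
  · rw [Finset.erase_eq_of_notMem ha]
    refine prod_congr rfl fun b hb => phi_X_of_ne d a b ?_
    rintro rfl
    exact ha hb

theorem map_phi_prod (a : Fin d) (S : Finset (Finset (Fin d))) :
    PowerSeries.map (phi d a : MvPolynomial (Fin d) ℤ →+* MvPolynomial (Fin d) ℤ)
      (∏ s ∈ S, (1 + PowerSeries.C (xi d s) * PowerSeries.X)) =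
      ∏ s ∈ S, (1 + PowerSeries.C (xi d (s.erase a)) * PowerSeries.X) := by
  rw [map_prod]
  refine prod_congr rfl fun s _ => ?_
  rw [map_add, map_one, map_mul, PowerSeries.map_C, PowerSeries.map_X]
  congr 3
  exact phi_xi d a s

theorem map_phi_even_eq_odd (a : Fin d) :
    PowerSeries.map (phi d a : MvPolynomial (Fin d) ℤ →+* MvPolynomial (Fin d) ℤ)
      (∏ s ∈ evenSets d, (1 + PowerSeries.C (xi d s) * PowerSeries.X)) =
    PowerSeries.map (phi d a : MvPolynomial (Fin d) ℤ →+* MvPolynomial (Fin d) ℤ)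
      (∏ s ∈ oddSets d, (1 + PowerSeries.C (xi d s) * PowerSeries.X)) := by
  rw [map_phi_prod, map_phi_prod]
  refine Finset.prod_nbij' (toggle a) (toggle a) ?_ ?_ ?_ ?_ ?_
  · intro s hs
    rw [evenSets, mem_filter] at hs
    rw [oddSets, mem_filter]
    refine ⟨mem_univ _, ?_⟩
    rw [even_card_toggle, not_not]
    exact hs.2
  · intro s hs
    rw [oddSets, mem_filter] at hs
    rw [evenSets, mem_filter]
    exact ⟨mem_univ _, (even_card_toggle a s).mpr hs.2⟩
  · intro s _
    exact toggle_toggle a s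
  · intro s _
    exact toggle_toggle a s
  · intro s _
    rw [erase_toggle]

/-- the coefficients of the universal series vanish at `ξ_a = 1` -/
theorem phi_EE_coeff_Useries (Q : ∀ i j : ℕ, MvPolynomial (Fin (i * j)) ℤ)
    (hQ : ∀ i j, IsCompPoly i j (Q i j)) (a : Fin d) (k : ℕ) (hk : 1 ≤ k) :
    phi d a (EE d d ℤ (PowerSeries.coeff k (Useries d Q))) = 0 := by
  have h0 := congrArg (PowerSeries.map (EE d d ℤ : MvPolynomial (Fin d) ℤ →+* MvPolynomial (Fin d) ℤ))
    (Useries_mul_Od d Q hQ)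
  rw [map_mul, map_EE_Od d Q hQ, map_EE_Ev d Q hQ] at h0
  have h1 := congrArg (PowerSeries.map (phi d a : MvPolynomial (Fin d) ℤ →+* MvPolynomial (Fin d) ℤ)) h0
  rw [map_mul, map_phi_even_eq_odd] at h1
  have h2 : PowerSeries.map (phi d a : MvPolynomial (Fin d) ℤ →+* MvPolynomial (Fin d) ℤ)
      (PowerSeries.map (EE d d ℤ : MvPolynomial (Fin d) ℤ →+* MvPolynomial (Fin d) ℤ)
        (Useries d Q)) = 1 := by
    refine eq_of_mul_eq_mul_of_constantCoeff_one _ _ _ ?_ (h1.trans (one_mul _).symm)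
    rw [map_phi_prod]
    refine constantCoeff_prod_eq_one _ _ fun s _ => ?_
    simp
  have h3 := congrArg (PowerSeries.coeff k) h2
  rw [PowerSeries.coeff_map, PowerSeries.coeff_map, PowerSeries.coeff_one,
    if_neg (by omega : k ≠ 0)] at h3
  exact h3

theorem one_sub_X_dvd_sub_phi (a : Fin d) (p : MvPolynomial (Fin d) ℤ) :
    (1 - X a : MvPolynomial (Fin d) ℤ) ∣ p - phi d a p := by
  induction p using MvPolynomial.induction_on with
  | C c => rw [← algebraMap_eq, AlgHom.commutes, sub_self]; exact dvd_zero _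
  | add p q hp hq =>
    rw [map_add, add_sub_add_comm]
    exact dvd_add hp hq
  | mul_X p b hp =>
    rw [map_mul]
    by_cases hb : b = a
    · subst hb
      rw [phi_X_self, mul_one]
      have : p * X b - phi d b p = (p - phi d b p) * X b - phi d b p * (1 - X b) := by ring
      rw [this]
      exact dvd_sub (Dvd.dvd.mul_right hp _) (dvd_mul_left _ _)
    · rw [phi_X_of_ne d a b hb, ← sub_mul]
      exact Dvd.dvd.mul_right hp _

theorem one_sub_X_ne_zero (a : Fin d) : (1 - X a : MvPolynomial (Fin d) ℤ) ≠ 0 := by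
  intro h
  have := congrArg (MvPolynomial.eval (fun _ => (0 : ℤ))) h
  simp at this

theorem prod_dvd_of_phi_eq_zero (s : Finset (Fin d)) (p : MvPolynomial (Fin d) ℤ)
    (h : ∀ a ∈ s, phi d a p = 0) : ∏ a ∈ s, (1 - X a : MvPolynomial (Fin d) ℤ) ∣ p := by
  classical
  induction s using Finset.induction_on with
  | empty => simp
  | insert b s hb ih =>
    obtain ⟨g, hg⟩ := ih fun a ha => h a (mem_insert_of_mem ha)
    have hfix : phi d b (∏ a ∈ s, (1 - X a : MvPolynomial (Fin d) ℤ)) = ∏ a ∈ s, (1 - X a) := by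
      rw [map_prod]
      refine prod_congr rfl fun a ha => ?_
      rw [map_sub, map_one, phi_X_of_ne d b a]
      rintro rfl
      exact hb ha
    have hb0 := h b (mem_insert_self b s)
    rw [hg, map_mul, hfix] at hb0
    have hg0 : phi d b g = 0 := by
      rcases mul_eq_zero.mp hb0 with h1 | h1
      · exact absurd h1 (Finset.prod_ne_zero_iff.mpr fun a _ => one_sub_X_ne_zero d a)
      · exact h1
    have hdvd := one_sub_X_dvd_sub_phi d b g
    rw [hg0, sub_zero] at hdvd
    obtain ⟨g', hg'⟩ := hdvd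
    rw [prod_insert hb, hg, hg']
    exact ⟨g', by ring⟩

theorem EE_Yuniv : EE d d ℤ (Yuniv d) = ∏ a : Fin d, (1 - X a : MvPolynomial (Fin d) ℤ) := by
  classical
  rw [Yuniv, map_sum]
  have h1 : ∀ i ∈ range (d + 1), EE d d ℤ ((-1) ^ i * ell d i) =
      ∑ t ∈ (univ : Finset (Fin d)).powerset.filter (fun t => t.card = i),
        ∏ a ∈ t, (-X a : MvPolynomial (Fin d) ℤ) := by
    intro i _
    rw [map_mul, map_pow, map_neg, map_one, EE_ell, esymm, Finset.mul_sum]
    have : (univ : Finset (Fin d)).powerset.filter (fun t => t.card = i) =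
        (univ : Finset (Fin d)).powersetCard i := by
      ext t
      simp [mem_powersetCard]
    rw [this]
    refine sum_congr rfl fun t ht => ?_
    rw [Finset.prod_neg, (mem_powersetCard.mp ht).2]
  rw [sum_congr rfl h1, Finset.sum_fiberwise_of_maps_to (g := Finset.card)
    (f := fun t : Finset (Fin d) => ∏ a ∈ t, (-X a : MvPolynomial (Fin d) ℤ))]
  · have : ∏ a : Fin d, (1 - X a : MvPolynomial (Fin d) ℤ) = ∏ a : Fin d, (1 + -X a) :=
      prod_congr rfl fun a _ => sub_eq_add_neg _ _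
    rw [this, Finset.prod_one_add]
  · intro t _
    rw [mem_range]
    have := Finset.card_le_univ t
    rw [Fintype.card_fin] at this
    omega

theorem EE_isSymmetric (p : MvPolynomial (Fin d) ℤ) : (EE d d ℤ p).IsSymmetric := by
  have h := (esymmAlgHom (Fin d) ℤ d p).2
  rw [mem_symmetricSubalgebra, esymmAlgHom_apply] at h
  exact h

/-- **the universal divisibility** -/
theorem Yuniv_dvd_coeff_Useries (Q : ∀ i j : ℕ, MvPolynomial (Fin (i * j)) ℤ)
    (hQ : ∀ i j, IsCompPoly i j (Q i j)) (k : ℕ) (hk : 1 ≤ k) :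
    Yuniv d ∣ PowerSeries.coeff k (Useries d Q) := by
  set c := PowerSeries.coeff k (Useries d Q) with hc
  have h1 : ∏ a ∈ (univ : Finset (Fin d)), (1 - X a : MvPolynomial (Fin d) ℤ) ∣ EE d d ℤ c :=
    prod_dvd_of_phi_eq_zero d univ _ fun a _ => phi_EE_coeff_Useries d Q hQ a k hk
  rw [← EE_Yuniv] at h1
  obtain ⟨g, hg⟩ := h1
  have hY0 : EE d d ℤ (Yuniv d) ≠ 0 := by
    rw [EE_Yuniv]
    exact Finset.prod_ne_zero_iff.mpr fun a _ => one_sub_X_ne_zero d a
  have hgsym : g.IsSymmetric := by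
    intro e
    have h2 := EE_isSymmetric d c e
    rw [hg, map_mul, EE_isSymmetric d (Yuniv d) e] at h2
    exact mul_left_cancel₀ hY0 h2
  obtain ⟨H, hH⟩ := EE_surjective d d ℤ le_rfl g hgsym
  refine ⟨H, ?_⟩
  apply EE_injective d d ℤ le_rfl
  rw [hg, map_mul, hH]

end Model

/-! ### the product formula -/

theorem dvd_aeval_of_isMulPoly {A : Type*} [CommRing A] (n : ℕ) (hn : 1 ≤ n)
    (P : MvPolynomial (Fin n ⊕ Fin n) ℤ) (hP : IsMulPoly n P) (f g : Fin n → A) (y : A)
    (hy : ∀ k, y ∣ g k) : y ∣ aeval (Sum.elim f g) P := by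
  classical
  rw [P.as_sum, map_sum]
  refine Finset.dvd_sum fun m hm => ?_
  rw [aeval_monomial]
  apply Dvd.dvd.mul_left
  have hw := hP.2 (mem_support_iff.mp hm)
  obtain ⟨k, hk⟩ : ∃ k, m (Sum.inr k) ≠ 0 := by
    by_contra hcon
    simp only [not_exists, not_not] at hcon
    have h2 := congrArg Prod.snd hw
    rw [Finsupp.weight_apply, Finsupp.sum, Prod.snd_sum] at h2
    have h0 : ∑ v ∈ m.support, (m v • Sum.elim (fun k : Fin n => (((k : ℕ) + 1, 0) : ℕ × ℕ))
        (fun k : Fin n => ((0, (k : ℕ) + 1) : ℕ × ℕ)) v).2 = 0 := by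
      refine sum_eq_zero fun v _ => ?_
      rcases v with k | k
      · simp
      · simp [hcon k]
    rw [h0] at h2
    simp only at h2
    omega
  have h3 : (Sum.elim f g (Sum.inr k)) ^ m (Sum.inr k) ∣
      m.prod fun i e => (Sum.elim f g i) ^ e :=
    Finset.dvd_prod_of_mem (fun i => (Sum.elim f g i) ^ m i) (Finsupp.mem_support_iff.mpr hk)
  exact (hy k).trans ((dvd_pow_self _ hk).trans h3)

end Groth.Agent.Lib.T2H7.LamDiv
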