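import Groth.Agent.Lib.T2H7LTransferT
import Groth.Agent.Lib.T2H7GFil2
import Groth.Agent.S8691
import Mathlib

/-!
# Division by `γ^d n` and the `γ`-filtration

Let `n` have augmentation `0` and `γ^k n = 0` for `k > d`, and put `v = γ^d n`.  For every `x` the
series `γ_t(x v) - 1` is divisible by `v`; if `x ∈ Fil^m` the `a`-th coefficient of the quotient lies
in `Fil^(max (a - d) m)`, and the coefficient of index `d + m` is congruent to
`(-1)^(d+m-1) (d+m-1)! x` modulo `Fil^(m+1)` when `v` is not a zero divisor.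
-/

set_option autoImplicit false
universe u

noncomputable section

namespace Groth.Agent.Lib.T2H7.GFilDiv

open MvPolynomial Finset LambdaRing nonZeroDivisors
open Groth.Agent.Lib.Helper4 Groth.Agent.Lib.T2H7.LTerm Groth.Agent.Lib.T2H7.LTransfer
open Groth.Agent.Lib.T2H7.LModel Groth.Agent.Lib.T2H7.LModelFil Groth.Agent.Lib.T2H7.LTransferT
open Groth.Agent.Lib.T2H7.GFilT

/-! ### the top `γ` of an element of rank `d` -/

section Top

variable {A : Type u} [CommRing A] [LambdaOps A]

omit [LambdaOps A] in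
theorem neg_one_pow_mul_self (d : ℕ) : ((-1 : A) ^ d * (-1) ^ d) = 1 := by
  rw [← mul_pow]
  simp

theorem gamma_top_eq (h1 : ∀ k : ℕ, 2 ≤ k → LambdaOps.lam k (1 : A) = 0)
    (e : A) (m : ℕ) (he : ∀ i, m < i → LambdaOps.lam i e = 0) :
    gamma m (e - (m : A)) =
      (-1) ^ m * ∑ j ∈ range (m + 1), (-1 : A) ^ j * LambdaOps.lam j e := by
  rw [← coeff_gammaSeries, gammaSeries_sub_natCast h1 e m he, map_sum, Finset.mul_sum]
  refine sum_congr rfl fun i hi => ?_
  rw [mem_range] at hi
  rw [PowerSeries.coeff_C_mul, PowerSeries.coeff_X_pow_mul', if_pos (by omega),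
    coeff_one_sub_X_pow, Nat.choose_self, Nat.cast_one, mul_one]
  have h2 : (-1 : A) ^ m = (-1) ^ (m - i) * (-1) ^ i := by
    rw [← pow_add]
    congr 1
    omega
  rw [h2]
  linear_combination (-(LambdaOps.lam i e * (-1) ^ (m - i))) * neg_one_pow_mul_self (A := A) i

theorem gamma_sub_natCast_eq_zero' (h1 : ∀ k : ℕ, 2 ≤ k → LambdaOps.lam k (1 : A) = 0)
    (e : A) (m : ℕ) (he : ∀ i, m < i → LambdaOps.lam i e = 0) (k : ℕ) (hk : m < k) :
    gamma k (e - (m : A)) = 0 := by
  rw [← coeff_gammaSeries, gammaSeries_sub_natCast h1 e m he, map_sum]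
  apply sum_eq_zero
  intro i hi
  rw [mem_range] at hi
  rw [PowerSeries.coeff_C_mul, PowerSeries.coeff_X_pow_mul', if_pos (by omega),
    coeff_one_sub_X_pow, Nat.choose_eq_zero_of_lt (by omega)]
  simp

/-- in a special `λ`-ring, `γ^a (z γ^d n)` is divisible by `γ^d n` for `n = e - d` of rank `d` -/
theorem gamma_dvd_of_special (hA : IsSpecial A) (d : ℕ) (e : A)
    (he : ∀ i, d < i → LambdaOps.lam i e = 0) (a : ℕ) (ha : 1 ≤ a) (z : A) :
    gamma d (e - (d : A)) ∣ gamma a (z * gamma d (e - (d : A))) := by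
  have hv : gamma d (e - (d : A)) =
      (-1) ^ d * ∑ j ∈ range (d + 1), (-1 : A) ^ j * LambdaOps.lam j e :=
    gamma_top_eq hA.lam_one_eq_zero e d he
  rw [hv]
  set w := ∑ j ∈ range (d + 1), (-1 : A) ^ j * LambdaOps.lam j e with hw
  have hlam : ∀ p, 1 ≤ p → ∀ b : A, w ∣ LambdaOps.lam p (b * w) := fun p hp b =>
    Groth.Agent.S8691.result A hA (fun n => MulPoly.exists_isMulPoly n)
      (fun i j => SymPoly.exists_isCompPoly i j) d e he p hp b
  have hdvd : w ∣ gamma a (z * ((-1) ^ d * w)) := by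
    obtain ⟨n, rfl⟩ : ∃ n, a = n + 1 := ⟨a - 1, by omega⟩
    rw [gamma_succ_eq]
    refine Finset.dvd_sum fun i _ => Dvd.dvd.mul_left ?_ _
    have h := hlam (i + 1) (by omega) (z * (-1) ^ d)
    rwa [mul_assoc] at h
  obtain ⟨q, hq⟩ := hdvd
  refine ⟨(-1) ^ d * q, ?_⟩
  rw [hq]
  linear_combination (-(w * q)) * neg_one_pow_mul_self (A := A) d

end Top

/-! ### the generators: transfer with division -/

section Gen

attribute [local instance] modelOps

variable {A : Type*} [CommRing A] [LambdaOps A]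

/-- the term `g * γ^d n` -/
def Tgv (d r : ℕ) (l : List (ℕ × Fin (r + 1))) : LTerm.LT (r + 1) :=
  LT.mul (LT.gprod l) (LT.gam d (LT.var 0))

theorem eval_Tgv (d r : ℕ) (l : List (ℕ × Fin (r + 1))) {B : Type*} [CommRing B] [LambdaOps B]
    (x : Fin (r + 1) → B) :
    (Tgv d r l).eval x = (l.map fun p => gamma p.1 (x p.2)).prod * gamma d (x 0) := by
  rw [Tgv, LT.eval, LT.eval_gprod, LT.eval_gam, LT.eval]

theorem Tgv_mem (d r N : ℕ) (l : List (ℕ × Fin (r + 1))) :
    (Tgv d r l).eval (xT d r N) ∈ Iw ((l.map Prod.fst).sum + d) := by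
  rw [Tgv, LT.eval, LT.eval_gam, LT.eval]
  exact Iw_mul (gprod_mem_T d r N l) (gamma_mem_Iw_of_mem_one (xT_mem d r N 0) d)

theorem Tgv_dvd (d r N : ℕ) (l : List (ℕ × Fin (r + 1))) (a : ℕ) (ha : 1 ≤ a) :
    gamma d (xT d r N 0) ∣ gamma a ((Tgv d r l).eval (xT d r N)) := by
  rw [eval_Tgv, xT_zero]
  exact gamma_dvd_of_special isSpecial_model d _
    (fun i hi => lam_family_eq_zero _ i hi) a ha _

theorem gen_quot (hA : IsSpecial A) (d : ℕ) (hd : 1 ≤ d) (r : ℕ) (x : Fin (r + 1) → A)
    (hx0 : ∀ k, d < k → gamma k (x 0) = 0) (J : Ideal A) (l : List (ℕ × Fin (r + 1)))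
    (a : ℕ) (ha : 1 ≤ a)
    (hJ : ∀ μ : Fin (r + 1) × ℕ →₀ ℕ,
      max a ((l.map Prod.fst).sum + d) - d ≤ Finsupp.weight (wtG (r + 1)) μ →
        evG x (monomial μ 1) ∈ J) :
    ∃ q ∈ J, gamma a ((l.map fun p => gamma p.1 (x p.2)).prod * gamma d (x 0)) =
      gamma d (x 0) * q := by
  have h := evG_quot_mem d r hd ((LT.gam a (Tgv d r l)).U 1)
    (max a ((l.map Prod.fst).sum + d)) (fun N => by
      rw [evG_U_one (xT d r N) isSpecial_model, LT.eval_gam]
      refine ⟨Tgv_dvd d r N l a ha, ?_⟩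
      have hm := Tgv_mem d r N l
      rcases le_total a ((l.map Prod.fst).sum + d) with hle | hle
      · rw [max_eq_right hle]
        exact gamma_mem_Iw _ hm a ha
      · rw [max_eq_left hle]
        exact gamma_mem_Iw_of_mem_one (Iw_anti (by omega) hm) a) x hx0 J hJ
  rwa [evG_U_one x hA, LT.eval_gam, eval_Tgv] at h

theorem gen_quot_sub (hA : IsSpecial A) (d : ℕ) (hd : 1 ≤ d) (r : ℕ) (x : Fin (r + 1) → A)
    (hx0 : ∀ k, d < k → gamma k (x 0) = 0) (J : Ideal A) (l : List (ℕ × Fin (r + 1)))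
    (i : ℕ) (hi : i ≤ (l.map Prod.fst).sum)
    (hJ : ∀ μ : Fin (r + 1) × ℕ →₀ ℕ, i + 1 ≤ Finsupp.weight (wtG (r + 1)) μ →
        evG x (monomial μ 1) ∈ J) :
    ∃ q ∈ J, gamma (d + i) ((l.map fun p => gamma p.1 (x p.2)).prod * gamma d (x 0)) -
        ((-1) ^ (d + i - 1) * ((d + i - 1).factorial : A)) *
          ((l.map fun p => gamma p.1 (x p.2)).prod * gamma d (x 0)) =
      gamma d (x 0) * q := by
  have h := evG_quot_mem d r hd
    ((LT.gam (d + i) (Tgv d r l)).U 1 -
      C ((-1) ^ (d + i - 1) * ((d + i - 1).factorial : ℤ)) * (Tgv d r l).U 1)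
    (d + i + 1) (fun N => by
      rw [map_sub, map_mul, evG_C, evG_U_one (xT d r N) isSpecial_model,
        evG_U_one (xT d r N) isSpecial_model, LT.eval_gam]
      constructor
      · obtain ⟨H, hH⟩ := Tgv_dvd d r N l (d + i) (by omega)
        refine ⟨H - (((-1) ^ (d + i - 1) * ((d + i - 1).factorial : ℤ) : ℤ) : MM (SigT d r N)) *
          (l.map fun p => gamma p.1 (xT d r N p.2)).prod, ?_⟩
        rw [hH, eval_Tgv]
        ring
      · have h1 := gamma_sub_mem (d + i) (by omega)
          (Iw_anti (by omega) (Tgv_mem d r N l) :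
            (Tgv d r l).eval (xT d r N) ∈ Iw (d + i))
        push_cast
        exact h1) x hx0 J (fun μ hμ => hJ μ (by omega))
  rw [map_sub, map_mul, evG_C, evG_U_one x hA, evG_U_one x hA, LT.eval_gam, eval_Tgv] at h
  push_cast at h
  exact h

end Gen

/-! ### series whose coefficients lie in the shifted filtration -/

section Series

variable {K : Type*} [CommRing K] {A : Type*} [CommRing A] [LambdaOps A] (ε : A →+* K)

/-- the series without constant term whose `a`-th coefficient lies in `Fil^(max (a - d) m)` -/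
def SS (d m : ℕ) : Set (PowerSeries A) :=
  {f | PowerSeries.constantCoeff f = 0 ∧
    ∀ a, PowerSeries.coeff a f ∈ gammaFil ε (max (a - d) m)}

variable {ε} {d m : ℕ}

theorem zero_mem_SS : (0 : PowerSeries A) ∈ SS ε d m := by
  refine ⟨map_zero _, fun a => ?_⟩
  rw [map_zero]
  exact Ideal.zero_mem _

theorem add_mem_SS {f g : PowerSeries A} (hf : f ∈ SS ε d m) (hg : g ∈ SS ε d m) :
    f + g ∈ SS ε d m := by
  refine ⟨by rw [map_add, hf.1, hg.1, add_zero], fun a => ?_⟩
  rw [map_add]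
  exact Ideal.add_mem _ (hf.2 a) (hg.2 a)

theorem star_mem_SS {v : A} (hv : v ∈ gammaFil ε d) {f g : PowerSeries A} (hf : f ∈ SS ε d m)
    (hg : g ∈ SS ε d m) : PowerSeries.C v * f * g ∈ SS ε d m := by
  refine ⟨by rw [map_mul, hg.1, mul_zero], fun a => ?_⟩
  rw [mul_assoc, PowerSeries.coeff_C_mul, PowerSeries.coeff_mul, Finset.mul_sum]
  refine Ideal.sum_mem _ fun p hp => ?_
  have hpa := Finset.HasAntidiagonal.mem_antidiagonal.mp hp
  refine gammaFil_anti ε ?_ (gammaFil_mul ε hv (gammaFil_mul ε (hf.2 p.1) (hg.2 p.2)))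
  omega

theorem coeff_star_mem {v : A} (hv : v ∈ gammaFil ε d) {f g : PowerSeries A} (hf : f ∈ SS ε d m)
    (hg : g ∈ SS ε d m) (a : ℕ) :
    PowerSeries.coeff a (PowerSeries.C v * f * g) ∈ gammaFil ε (d + 2 * m) := by
  rw [mul_assoc, PowerSeries.coeff_C_mul, PowerSeries.coeff_mul, Finset.mul_sum]
  refine Ideal.sum_mem _ fun p hp => ?_
  refine gammaFil_anti ε ?_ (gammaFil_mul ε hv (gammaFil_mul ε (hf.2 p.1) (hg.2 p.2)))
  omega

theorem pow_mem_SS {v : A} (hv : v ∈ gammaFil ε d) {f : PowerSeries A} (hf : f ∈ SS ε d m)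
    (k : ℕ) : PowerSeries.C (v ^ k) * f ^ (k + 1) ∈ SS ε d m := by
  induction k with
  | zero => rwa [pow_zero, map_one, one_mul, zero_add, pow_one]
  | succ k ih =>
    have h : PowerSeries.C (v ^ (k + 1)) * f ^ (k + 1 + 1) =
        PowerSeries.C v * (PowerSeries.C (v ^ k) * f ^ (k + 1)) * f := by
      rw [pow_succ v k, map_mul, pow_succ f (k + 1)]
      ring
    rw [h]
    exact star_mem_SS hv ih hf

end Series

/-! ### induction over the span of the generators over the ring of scalars -/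

section Span

variable {K : Type*} [CommRing K] {A : Type*} [CommRing A] [LambdaOps A] [Algebra K A]
  (ε : A →+* K) (hε : ∀ c : K, ε (algebraMap K A c) = c)

/-- the generators of `Fil^m` -/
def genSet (m : ℕ) : Set A :=
  {y | ∃ l : List (ℕ × A), (∀ p ∈ l, ε p.2 = 0) ∧ m ≤ (l.map Prod.fst).sum ∧
    y = (l.map fun p => gamma p.1 p.2).prod}

include hε in
theorem mul_mem_kspan (m : ℕ) (a : A) {x : A} (hx : x ∈ Submodule.span K (genSet ε m)) :
    a * x ∈ Submodule.span K (genSet ε m) := by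
  induction hx using Submodule.span_induction with
  | mem g hg =>
    obtain ⟨l, hl, hs, rfl⟩ := hg
    have h1 : a * (l.map fun p => gamma p.1 p.2).prod =
        ε a • (l.map fun p => gamma p.1 p.2).prod +
          (a - algebraMap K A (ε a)) * (l.map fun p => gamma p.1 p.2).prod := by
      rw [Algebra.smul_def]
      ring
    rw [h1]
    refine Submodule.add_mem _
      (Submodule.smul_mem _ _ (Submodule.subset_span ⟨l, hl, hs, rfl⟩))
      (Submodule.subset_span ⟨(1, a - algebraMap K A (ε a)) :: l, ?_, ?_, ?_⟩)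
    · intro p hp
      rcases List.mem_cons.mp hp with rfl | hp
      · rw [map_sub, hε, sub_self]
      · exact hl p hp
    · simp only [List.map_cons, List.sum_cons]
      omega
    · simp only [List.map_cons, List.prod_cons]
      rw [gamma_one_arg]
  | zero =>
    rw [mul_zero]
    exact Submodule.zero_mem _
  | add x y _ _ hx hy =>
    rw [mul_add]
    exact Submodule.add_mem _ hx hy
  | smul c x _ hx =>
    rw [mul_smul_comm]
    exact Submodule.smul_mem _ c hx

include hε in
theorem gammaFil_induction (m : ℕ) (P : A → Prop)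
    (hgen : ∀ l : List (ℕ × A), (∀ p ∈ l, ε p.2 = 0) → m ≤ (l.map Prod.fst).sum →
      P ((l.map fun p => gamma p.1 p.2).prod))
    (h0 : P 0) (hadd : ∀ x y, P x → P y → P (x + y))
    (hsmul : ∀ (c : K) (x : A), P x → P (algebraMap K A c * x)) :
    ∀ x ∈ gammaFil ε m, P x := by
  intro x hx
  have hx' : x ∈ Submodule.span K (genSet ε m) := by
    change x ∈ Submodule.span A (genSet ε m) at hx
    induction hx using Submodule.span_induction with
    | mem g hg => exact Submodule.subset_span hg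
    | zero => exact Submodule.zero_mem _
    | add x y _ _ hx hy => exact Submodule.add_mem _ hx hy
    | smul a x _ hx =>
      rw [smul_eq_mul]
      exact mul_mem_kspan ε hε m a hx
  clear hx
  induction hx' using Submodule.span_induction with
  | mem g hg =>
    obtain ⟨l, hl, hs, rfl⟩ := hg
    exact hgen l hl hs
  | zero => exact h0
  | add x y _ _ hx hy => exact hadd x y hx hy
  | smul c x _ hx =>
    rw [Algebra.smul_def]
    exact hsmul c x hx

end Span

/-! ### the main induction -/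

section Main

variable {K : Type*} [CommRing K] [LambdaOps K] [BinomialRing K] {A : Type*} [CommRing A]
  [LambdaOps A] [Algebra K A]

theorem exists_series (hKb : IsBinomial K) (hA : IsSpecial A) (hKA : IsLambdaAlg K A)
    (ε : A →+* K) (hε : ∀ c : K, ε (algebraMap K A c) = c) (d : ℕ) (hd : 1 ≤ d) (v : A)
    (hv : v ∈ gammaFil ε d) (m : ℕ) (κ : A)
    (hgen : ∀ l : List (ℕ × A), (∀ p ∈ l, ε p.2 = 0) → m ≤ (l.map Prod.fst).sum →
      ∃ f : PowerSeries A, f ∈ SS ε d m ∧
        gammaSeries ((l.map fun p => gamma p.1 p.2).prod * v) = 1 + PowerSeries.C v * f ∧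
        PowerSeries.coeff (d + m) f - κ * (l.map fun p => gamma p.1 p.2).prod ∈
          gammaFil ε (m + 1)) :
    ∀ x ∈ gammaFil ε m, ∃ f : PowerSeries A, f ∈ SS ε d m ∧
      gammaSeries (x * v) = 1 + PowerSeries.C v * f ∧
      PowerSeries.coeff (d + m) f - κ * x ∈ gammaFil ε (m + 1) := by
  apply gammaFil_induction ε hε m
  · exact hgen
  · refine ⟨0, zero_mem_SS, ?_, ?_⟩
    · rw [zero_mul, gammaSeries_zero, mul_zero, add_zero]
    · rw [map_zero, mul_zero, sub_zero]
      exact Ideal.zero_mem _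
  · rintro x y ⟨f, hf, hfx, hfc⟩ ⟨g, hg, hgy, hgc⟩
    refine ⟨f + g + PowerSeries.C v * f * g,
      add_mem_SS (add_mem_SS hf hg) (star_mem_SS hv hf hg), ?_, ?_⟩
    · rw [add_mul, gammaSeries_add, hfx, hgy]
      ring
    · rw [map_add, map_add]
      have h1 : PowerSeries.coeff (d + m) f + PowerSeries.coeff (d + m) g +
          PowerSeries.coeff (d + m) (PowerSeries.C v * f * g) - κ * (x + y) =
          (PowerSeries.coeff (d + m) f - κ * x) + (PowerSeries.coeff (d + m) g - κ * y) +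
            PowerSeries.coeff (d + m) (PowerSeries.C v * f * g) := by ring
      rw [h1]
      exact Ideal.add_mem _ (Ideal.add_mem _ hfc hgc)
        (gammaFil_anti ε (by omega) (coeff_star_mem hv hf hg _))
  · rintro c x ⟨f, hf, hfx, hfc⟩
    set F : PowerSeries A := PowerSeries.mk (fun n => ∑ k : Fin n,
      algebraMap K A (Ring.choose c ((k : ℕ) + 1)) *
        PowerSeries.coeff n (PowerSeries.C (v ^ (k : ℕ)) * f ^ ((k : ℕ) + 1))) with hF
    have hFc : ∀ n, PowerSeries.coeff n F = ∑ k : Fin n,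
        algebraMap K A (Ring.choose c ((k : ℕ) + 1)) *
          PowerSeries.coeff n (PowerSeries.C (v ^ (k : ℕ)) * f ^ ((k : ℕ) + 1)) := fun n => by
      rw [hF, PowerSeries.coeff_mk]
    refine ⟨F, ⟨?_, fun a => ?_⟩, ?_, ?_⟩
    · rw [← PowerSeries.coeff_zero_eq_constantCoeff_apply, hFc]
      simp
    · rw [hFc]
      exact Ideal.sum_mem _ fun k _ => Ideal.mul_mem_left _ _ ((pow_mem_SS hv hf k).2 a)
    · ext n
      rw [coeff_gammaSeries, map_add, PowerSeries.coeff_C_mul, hFc]
      rcases n with _ | n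
      · rw [gamma, if_pos rfl, PowerSeries.coeff_one, if_pos rfl]
        simp
      · rw [PowerSeries.coeff_one, if_neg (Nat.succ_ne_zero n), zero_add, mul_assoc,
          gamma_algebraMap_mul hKb hA hKA c (x * v) (n + 1) (by omega), Finset.mul_sum]
        refine sum_congr rfl fun k _ => ?_
        have h2 : (gammaSeries (x * v) - 1) ^ ((k : ℕ) + 1) =
            PowerSeries.C v * (PowerSeries.C (v ^ (k : ℕ)) * f ^ ((k : ℕ) + 1)) := by
          rw [hfx, add_sub_cancel_left, mul_pow, ← map_pow, pow_succ v, map_mul]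
          ring
        rw [h2, PowerSeries.coeff_C_mul]
        ring
    · obtain ⟨n', hn'⟩ : ∃ n', d + m = n' + 1 := ⟨d + m - 1, by omega⟩
      rw [hn'] at hfc ⊢
      rw [hFc, Fin.sum_univ_succ]
      have h0 : algebraMap K A (Ring.choose c (((0 : Fin (n' + 1)) : ℕ) + 1)) *
          PowerSeries.coeff (n' + 1) (PowerSeries.C (v ^ ((0 : Fin (n' + 1)) : ℕ)) *
            f ^ (((0 : Fin (n' + 1)) : ℕ) + 1)) =
          algebraMap K A c * PowerSeries.coeff (n' + 1) f := by
        rw [Fin.val_zero, zero_add, Ring.choose_one_right, pow_zero, map_one, one_mul, pow_one]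
      rw [h0]
      have h1 : ∀ S : A, algebraMap K A c * PowerSeries.coeff (n' + 1) f + S -
          κ * (algebraMap K A c * x) =
          algebraMap K A c * (PowerSeries.coeff (n' + 1) f - κ * x) + S := fun S => by ring
      rw [h1]
      refine Ideal.add_mem _ (Ideal.mul_mem_left _ _ hfc) (Ideal.sum_mem _ fun k _ => ?_)
      refine Ideal.mul_mem_left _ _ ?_
      have h2 : PowerSeries.C (v ^ ((k.succ : Fin (n' + 1)) : ℕ)) *
          f ^ (((k.succ : Fin (n' + 1)) : ℕ) + 1) =
          PowerSeries.C v * (PowerSeries.C (v ^ (k : ℕ)) * f ^ ((k : ℕ) + 1)) * f := by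
        rw [Fin.val_succ, pow_succ v, map_mul, pow_succ f ((k : ℕ) + 1)]
        ring
      rw [h2]
      exact gammaFil_anti ε (by omega) (coeff_star_mem hv (pow_mem_SS hv hf k) hf _)

/-- the main statement for an element `n` of augmentation `0` with `γ^k n = 0` for `k > d` and
`γ^d n` not a zero divisor -/
theorem main_n (hKb : IsBinomial K) (hA : IsSpecial A) (hKA : IsLambdaAlg K A)
    (ε : A →+* K) (hε : ∀ c : K, ε (algebraMap K A c) = c) (d : ℕ) (hd : 1 ≤ d) (n : A)
    (hn0 : ε n = 0) (hnk : ∀ k, d < k → gamma k n = 0)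
    (hnzd : ∀ z : A, gamma d n * z = 0 → z = 0) (m : ℕ) :
    ∀ x ∈ gammaFil ε m, ∃ f : PowerSeries A, f ∈ SS ε d m ∧
      gammaSeries (x * gamma d n) = 1 + PowerSeries.C (gamma d n) * f ∧
      PowerSeries.coeff (d + m) f -
        ((-1) ^ (d + m - 1) * ((d + m - 1).factorial : A)) * x ∈ gammaFil ε (m + 1) := by
  apply exists_series hKb hA hKA ε hε d hd (gamma d n) (gamma_mem_gammaFil ε hn0 d) m
  intro l hl hs
  obtain ⟨r, x', l', hx', hs', hp'⟩ := list_reindex l
  set x : Fin (r + 1) → A := Fin.cases n x' with hxdef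
  set l'' : List (ℕ × Fin (r + 1)) := l'.map (fun p => (p.1, p.2.succ)) with hl''
  have hx0 : ∀ s, ε (x s) = 0 := by
    intro s
    refine Fin.cases ?_ (fun s => ?_) s
    · exact hn0
    · obtain ⟨p, hp, h⟩ := hx' s
      have h1 : x s.succ = x' s := rfl
      rw [h1, h]
      exact hl p hp
  have hsum : (l''.map Prod.fst).sum = (l.map Prod.fst).sum := by
    rw [hl'', List.map_map, ← hs']
    rfl
  have hprod : (l''.map fun p => gamma p.1 (x p.2)).prod =
      (l.map fun p => gamma p.1 p.2).prod := by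
    rw [hl'', List.map_map, ← hp']
    rfl
  have hx0n : x 0 = n := rfl
  have hnk' : ∀ k, d < k → gamma k (x 0) = 0 := hnk
  have H : ∀ a : ℕ, ∃ q : A, q ∈ gammaFil ε (max (a - d) m) ∧ (a = 0 → q = 0) ∧
      (1 ≤ a → gamma a ((l.map fun p => gamma p.1 p.2).prod * gamma d n) = gamma d n * q) := by
    intro a
    rcases Nat.eq_zero_or_pos a with h0 | hpos
    · exact ⟨0, Ideal.zero_mem _, fun _ => rfl, fun h => by omega⟩
    · obtain ⟨q, hq, hqe⟩ := gen_quot hA d hd r x hnk' (gammaFil ε (max (a - d) m)) l'' a hpos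
        (fun μ hμ => gammaFil_anti ε (by rw [hsum] at hμ; omega) (evG_monomial_mem ε x hx0 μ))
      refine ⟨q, hq, fun h => by omega, fun _ => ?_⟩
      rw [← hprod]
      exact hqe
  choose q hqmem hq0 hqe using H
  refine ⟨PowerSeries.mk q, ⟨?_, fun a => ?_⟩, ?_, ?_⟩
  · rw [← PowerSeries.coeff_zero_eq_constantCoeff_apply, PowerSeries.coeff_mk]
    exact hq0 0 rfl
  · rw [PowerSeries.coeff_mk]
    exact hqmem a
  · ext a
    rw [coeff_gammaSeries, map_add, PowerSeries.coeff_C_mul, PowerSeries.coeff_mk,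
      PowerSeries.coeff_one]
    rcases Nat.eq_zero_or_pos a with h0 | hpos
    · subst h0
      rw [gamma, if_pos rfl, if_pos rfl, hq0 0 rfl, mul_zero, add_zero]
    · rw [if_neg (by omega), zero_add]
      exact hqe a hpos
  · rw [PowerSeries.coeff_mk]
    obtain ⟨q', hq', hqe'⟩ := gen_quot_sub hA d hd r x hnk' (gammaFil ε (m + 1)) l'' m
      (by rw [hsum]; exact hs)
      (fun μ hμ => gammaFil_anti ε hμ (evG_monomial_mem ε x hx0 μ))
    rw [hprod, hx0n] at hqe'
    have h3 : gamma d n * (q (d + m) - ((-1) ^ (d + m - 1) * ((d + m - 1).factorial : A)) *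
        (l.map fun p => gamma p.1 p.2).prod - q') = 0 := by
      rw [mul_sub, mul_sub, ← hqe', ← hqe (d + m) (by omega)]
      ring
    have h4 := hnzd _ h3
    have h5 : q (d + m) - ((-1) ^ (d + m - 1) * ((d + m - 1).factorial : A)) *
        (l.map fun p => gamma p.1 p.2).prod = q' := by
      linear_combination h4
    rw [h5]
    exact hq'

/-- the two statements on the quotient of `γ^a(x u)` by `u = λ_{-1}(N)` -/
theorem quot_mem (hKb : IsBinomial K) (hA : IsSpecial A) (hKA : IsLambdaAlg K A)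
    (ε : A →+* K) (hε : ∀ c : K, ε (algebraMap K A c) = c) (d : ℕ) (hd : 1 ≤ d) (N : A)
    (hN : ∀ k : ℕ, d < k → LambdaOps.lam k N = 0) (hNε : ε N = (d : K))
    (hnzd : (∑ j ∈ range (d + 1), (-1 : A) ^ j * LambdaOps.lam j N) ∈ A⁰)
    (m : ℕ) (x y : A) (hx : x ∈ gammaFil ε m) (a : ℕ) (ha : 1 ≤ a)
    (hy : y * (∑ j ∈ range (d + 1), (-1 : A) ^ j * LambdaOps.lam j N) =
      gamma a (x * (∑ j ∈ range (d + 1), (-1 : A) ^ j * LambdaOps.lam j N))) :
    y ∈ gammaFil ε (max (a - d) m) ∧
      (a = d + m → y - ((-1) ^ (d + m - 1) * ((d + m - 1).factorial : A)) * x ∈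
        gammaFil ε (m + 1)) := by
  set u := ∑ j ∈ range (d + 1), (-1 : A) ^ j * LambdaOps.lam j N with hu
  set n := N - (d : A) with hn
  have hn0 : ε n = 0 := by rw [hn, map_sub, hNε, map_natCast, sub_self]
  have hnk : ∀ k, d < k → gamma k n = 0 := fun k hk =>
    gamma_sub_natCast_eq_zero' hA.lam_one_eq_zero N d hN k hk
  have hv : gamma d n = (-1) ^ d * u := gamma_top_eq hA.lam_one_eq_zero N d hN
  have huv : u = (-1) ^ d * gamma d n := by
    rw [hv, ← mul_assoc, neg_one_pow_mul_self, one_mul]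
  have hvnzd : ∀ z, gamma d n * z = 0 → z = 0 := by
    intro z hz
    have h1 : u * ((-1) ^ d * z) = 0 := by
      rw [hv] at hz
      linear_combination hz
    have h2 := (mem_nonZeroDivisors_iff.mp hnzd).1 _ h1
    calc z = (-1) ^ d * ((-1) ^ d * z) := by rw [← mul_assoc, neg_one_pow_mul_self, one_mul]
      _ = 0 := by rw [h2, mul_zero]
  obtain ⟨f, hf, hfx, hfc⟩ := main_n hKb hA hKA ε hε d hd n hn0 hnk hvnzd m ((-1) ^ d * x)
    (Ideal.mul_mem_left _ _ hx)
  have h1 : x * u = ((-1) ^ d * x) * gamma d n := by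
    rw [huv]
    ring
  have h3 : gamma a (x * u) = gamma d n * PowerSeries.coeff a f := by
    rw [h1, ← coeff_gammaSeries, hfx, map_add, PowerSeries.coeff_one, if_neg (by omega), zero_add,
      PowerSeries.coeff_C_mul]
  have h2 : gamma d n * ((-1) ^ d * y - PowerSeries.coeff a f) = 0 := by
    rw [mul_sub, ← h3, ← hy, huv]
    ring
  have h4 : (-1) ^ d * y = PowerSeries.coeff a f := sub_eq_zero.mp (hvnzd _ h2)
  have h5 : y = (-1) ^ d * PowerSeries.coeff a f := by
    rw [← h4, ← mul_assoc, neg_one_pow_mul_self, one_mul]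
  constructor
  · rw [h5]
    exact Ideal.mul_mem_left _ _ (hf.2 a)
  · intro hadm
    subst hadm
    have h6 : y - ((-1) ^ (d + m - 1) * ((d + m - 1).factorial : A)) * x =
        (-1) ^ d * (PowerSeries.coeff (d + m) f -
          ((-1) ^ (d + m - 1) * ((d + m - 1).factorial : A)) * ((-1) ^ d * x)) := by
      rw [h5]
      linear_combination (((-1) ^ (d + m - 1) * ((d + m - 1).factorial : A)) * x) *
        neg_one_pow_mul_self (A := A) d
    rw [h6]
    exact Ideal.mul_mem_left _ _ hfc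

end Main

end Groth.Agent.Lib.T2H7.GFilDiv
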