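import Groth.Agent.Lib.T2H7GITBC
import Groth.Agent.Lib.Helper12BundleMap

/-!
# T2H7: the orbit map `(σ, p₂) : G × X ⟶ X ×_Y X` commutes with base change
-/

set_option autoImplicit false
set_option linter.unusedSectionVars false
set_option linter.unusedVariables false
set_option linter.style.haveILetI false
universe u
open CategoryTheory MonoidalCategory CartesianMonoidalCategory MonObj GrpObj AlgebraicGeometry Topology
open TopologicalSpace Limits

namespace Groth.Agent.Lib.T2H7.GITBC

open Groth.Agent.Lib.Helper12 Groth.Agent.Lib.Helper12.BundleMap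

section cat

variable {C : Type*} [Category C] [HasPullbacks C] {X Y X' Y' : C} {pr : X' ⟶ X} {φ' : X' ⟶ Y'}
  {φ : X ⟶ Y} {g : Y' ⟶ Y}

/-- `X' ×_{Y'} X' = (X ×_Y X) ×_Y Y'` -/
theorem isPullback_pullbackMap (hpb : IsPullback pr φ' φ g) :
    IsPullback (pullback.map φ' φ' φ φ pr pr g hpb.w.symm hpb.w.symm) (pullback.snd φ' φ' ≫ φ')
      (pullback.snd φ φ ≫ φ) g := by
  refine isPullback_of_existsUnique_sq ?_ ?_
  · rw [← Category.assoc, pullback.lift_snd, Category.assoc, Category.assoc, hpb.w]
  · intro T b c hbc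
    have h1 : (b ≫ pullback.fst φ φ) ≫ φ = c ≫ g := by
      rw [Category.assoc, pullback.condition, hbc]
    have h2 : (b ≫ pullback.snd φ φ) ≫ φ = c ≫ g := by
      rw [Category.assoc, hbc]
    refine ⟨pullback.lift (hpb.lift (b ≫ pullback.fst φ φ) c h1)
      (hpb.lift (b ≫ pullback.snd φ φ) c h2) (by rw [hpb.lift_snd, hpb.lift_snd]), ⟨?_, ?_⟩, ?_⟩
    · apply pullback.hom_ext
      · rw [Category.assoc, pullback.lift_fst, ← Category.assoc, pullback.lift_fst, hpb.lift_fst]
      · rw [Category.assoc, pullback.lift_snd, ← Category.assoc, pullback.lift_snd, hpb.lift_fst]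
    · rw [← Category.assoc, pullback.lift_snd, hpb.lift_snd]
    · rintro m ⟨hm1, hm2⟩
      apply pullback.hom_ext
      · rw [pullback.lift_fst]
        apply hpb.hom_ext
        · rw [hpb.lift_fst, ← hm1, Category.assoc, Category.assoc, pullback.lift_fst]
        · rw [hpb.lift_snd, ← hm2, Category.assoc, pullback.condition]
      · rw [pullback.lift_snd]
        apply hpb.hom_ext
        · rw [hpb.lift_fst, ← hm1, Category.assoc, Category.assoc, pullback.lift_snd]
        · rw [hpb.lift_snd, ← hm2, Category.assoc]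

end cat

variable {S : Scheme.{u}} {G : Over S} [GrpObj G]
  {X Y X' Y' : Over S} (a : AlgGrp.Action G X) {φ : X ⟶ Y} (hφ : GIT.IsInvariant a φ)
  {pr : X' ⟶ X} {φ' : X' ⟶ Y'} {g : Y' ⟶ Y} (hpb : IsPullback pr φ' φ g)
  (a' : AlgGrp.Action G X') (hc : a'.act ≫ pr = (G ◁ pr) ≫ a.act) (hinv' : GIT.IsInvariant a' φ')

include hpb in
theorem w_left : φ'.left ≫ g.left = pr.left ≫ φ.left :=
  (hpb.map (Over.forget S)).w.symm

include hc in
/-- the orbit map of the base change is the base change of the orbit map -/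
theorem isPullback_PsiY :
    IsPullback (GIT.PsiY a' φ' hinv') (G ◁ pr).left
      (pullback.map φ'.left φ'.left φ.left φ.left pr.left pr.left g.left
        (w_left hpb) (w_left hpb))
      (GIT.PsiY a φ hφ) := by
  have hpbL : IsPullback pr.left φ'.left φ.left g.left := hpb.map (Over.forget S)
  have c2 : IsPullback (G ◁ pr).left ((snd G X').left ≫ φ'.left) ((snd G X).left ≫ φ.left) g.left :=
    ((isPullback_whiskerLeft G pr).paste_vert hpb).map (Over.forget S)
  have e1 : GIT.PsiY a' φ' hinv' ≫ pullback.snd φ'.left φ'.left ≫ φ'.left =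
      (snd G X').left ≫ φ'.left := by
    rw [← Category.assoc, GIT.PsiY, pullback.lift_snd]
  have e2 : GIT.PsiY a φ hφ ≫ pullback.snd φ.left φ.left ≫ φ.left = (snd G X).left ≫ φ.left := by
    rw [← Category.assoc, GIT.PsiY, pullback.lift_snd]
  have s : IsPullback (GIT.PsiY a' φ' hinv' ≫ pullback.snd φ'.left φ'.left ≫ φ'.left) (G ◁ pr).left
      g.left (GIT.PsiY a φ hφ ≫ pullback.snd φ.left φ.left ≫ φ.left) := by
    rw [e1, e2]
    exact c2.flip
  refine IsPullback.of_right s ?_ (isPullback_pullbackMap hpbL).flip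
  apply pullback.hom_ext
  · rw [Category.assoc, pullback.lift_fst, ← Category.assoc, GIT.PsiY, pullback.lift_fst,
      Category.assoc, GIT.PsiY, pullback.lift_fst, ← Over.comp_left, ← Over.comp_left, hc]
  · rw [Category.assoc, pullback.lift_snd, ← Category.assoc, GIT.PsiY, pullback.lift_snd,
      Category.assoc, GIT.PsiY, pullback.lift_snd, ← Over.comp_left, ← Over.comp_left,
      whiskerLeft_snd]

include hpb hc in
theorem surjective_PsiY_bc (horb : Function.Surjective (GIT.PsiY a φ hφ).base) :
    Function.Surjective (GIT.PsiY a' φ' hinv').base := by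
  haveI : Surjective (GIT.PsiY a φ hφ) := ⟨horb⟩
  have : Surjective (GIT.PsiY a' φ' hinv') :=
    MorphismProperty.of_isPullback (P := @Surjective) (isPullback_PsiY a hφ hpb a' hc hinv').flip
      inferInstance
  exact this.surj

end Groth.Agent.Lib.T2H7.GITBC
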