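import Groth.Agent.Lib.T2H7GITSep
import Groth.Agent.Lib.Helper12Cart

/-!
# T2H7: the action underlying a geometric quotient is closed (GIT §0.2, Remark 4)
-/

set_option autoImplicit false
set_option linter.unusedSectionVars false
set_option linter.unusedVariables false
set_option linter.style.haveILetI false
universe u
open CategoryTheory MonoidalCategory CartesianMonoidalCategory MonObj GrpObj AlgebraicGeometry Topology
open TopologicalSpace Limits

namespace Groth.Agent.Lib.T2H7.GITClosed

open Groth.Agent.Lib.Helper20 Groth.Agent.Lib.T2H7.GITSep Groth.Agent.Lib.Helper12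

section point

/-- a section over the spectrum of a field has closed image -/
theorem isClosed_range_of_section {W T : Scheme.{u}} (s : T ⟶ W) (q : W ⟶ T) (hs : s ≫ q = 𝟙 T)
    {Ω : Type u} [Field Ω] (e : T ≅ Spec (CommRingCat.of Ω)) : IsClosed (Set.range s.base) := by
  haveI : IsAffine T := IsAffine.of_isIso e.hom
  have hsub : ∀ a b : T, a = b := by
    intro a b
    apply e.hom.homeomorph.injective
    exact Subsingleton.elim (α := PrimeSpectrum Ω) _ _
  let pt : T := e.inv.base (default : PrimeSpectrum Ω)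
  have hrange : ∀ (V : Scheme.{u}) (g : T ⟶ V), Set.range g.base = {g.base pt} := by
    intro V g
    ext v
    constructor
    · rintro ⟨t, rfl⟩
      rw [hsub t pt]; rfl
    · rintro rfl
      exact ⟨pt, rfl⟩
  rw [hrange W s]
  apply isClosed_of_closure_subset
  intro w' hw'
  rw [← specializes_iff_mem_closure] at hw'
  obtain ⟨U, hU, hw'U⟩ := exists_affine_nhd W w'
  have hptU : s.base pt ∈ U := hw'.mem_open U.isOpen hw'U
  have hr : Set.range s.base ⊆ Set.range U.ι.base := by
    rw [hrange W s, Scheme.Opens.range_ι, Set.singleton_subset_iff]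
    exact hptU
  let s' : T ⟶ U.toScheme := IsOpenImmersion.lift U.ι s hr
  have hs' : s' ≫ U.ι = s := IsOpenImmersion.lift_fac _ _ _
  haveI : IsAffine U.toScheme := hU
  have hsurj : Function.Surjective s'.appTop := by
    intro x
    have h1 : s' ≫ (U.ι ≫ q) = 𝟙 T := by rw [← Category.assoc, hs', hs]
    have h2 : (U.ι ≫ q).appTop ≫ s'.appTop = 𝟙 _ := by
      rw [← Scheme.Hom.comp_appTop, h1, Scheme.Hom.id_appTop]
    refine ⟨(U.ι ≫ q).appTop x, ?_⟩
    have := congrArg (fun k => k.hom x) h2
    simpa using this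
  haveI : IsClosedImmersion s' := IsClosedImmersion.of_surjective_of_isAffine s' hsurj
  have hcl : IsClosed ({s'.base pt} : Set U.toScheme) := by
    rw [← hrange U.toScheme s']
    exact s'.isClosedEmbedding.isClosed_range
  have h3 : s'.base pt ⤳ (⟨w', hw'U⟩ : U.toScheme) := by
    rw [← U.ι.isOpenEmbedding.isInducing.specializes_iff]
    have h4 : U.ι.base (s'.base pt) = s.base pt := by
      rw [← hs']; rfl
    rw [h4]
    exact hw'
  have h5 : (⟨w', hw'U⟩ : U.toScheme) ∈ ({s'.base pt} : Set U.toScheme) := by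
    have := h3.mem_closed hcl (Set.mem_singleton _)
    exact this
  have h5' : (⟨w', hw'U⟩ : U.toScheme) = s'.base pt := h5
  have h6 : U.ι.base (s'.base pt) = s.base pt := by
    rw [← hs']; rfl
  change w' = s.base pt
  rw [← h6, ← h5']
  rfl

end point

section squares

variable {S : Scheme.{u}} {G X Y T : Over S} [GrpObj G] (a : AlgGrp.Action G X) (φ : X ⟶ Y)
  (f : T ⟶ X)

theorem psi_snd : GIT.psi a f ≫ snd X T = snd G T := by
  simp [GIT.psi]

theorem psi_whiskerLeft : GIT.psi a f ≫ (X ◁ f) = (G ◁ f) ≫ GIT.psi a (𝟙 X) := by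
  apply CartesianMonoidalCategory.hom_ext
  · simp [GIT.psi]
  · simp [GIT.psi]

/-- the orbit map of a point is a base change of `(σ, p₂)` -/
theorem isPullback_psi : IsPullback (GIT.psi a f) (G ◁ f) (X ◁ f) (GIT.psi a (𝟙 X)) := by
  have s : IsPullback (GIT.psi a f ≫ snd X T) (G ◁ f) f (GIT.psi a (𝟙 X) ≫ snd X X) := by
    rw [psi_snd, psi_snd]
    exact (isPullback_whiskerLeft G f).flip
  exact IsPullback.of_right s (psi_whiskerLeft a f) (isPullback_whiskerLeft X f).flip

/-- the graph square -/
theorem isPullback_graph (y : T ⟶ Y) :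
    IsPullback (lift y (𝟙 T)) y (Y ◁ y) (lift (𝟙 Y) (𝟙 Y)) := by
  have s : IsPullback (lift y (𝟙 T) ≫ snd Y T) y y (lift (𝟙 Y) (𝟙 Y) ≫ snd Y Y) := by
    rw [lift_snd, lift_snd]
    exact IsPullback.of_horiz_isIso ⟨by simp⟩
  refine IsPullback.of_right s ?_ (isPullback_whiskerLeft Y y).flip
  apply CartesianMonoidalCategory.hom_ext <;> simp

theorem whisker_comm : (X ◁ f) ≫ (φ ⊗ₘ φ) = (φ ▷ T) ≫ (Y ◁ (f ≫ φ)) := by
  apply CartesianMonoidalCategory.hom_ext <;> simp

end squares

section main

variable {S : Scheme.{u}} {G X Y : Over S} [GrpObj G] (a : AlgGrp.Action G X) (φ : X ⟶ Y)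

theorem range_psi_point (h : GIT.IsGeomQuot a φ) {T : Over S} (f : T ⟶ X) :
    Set.range (GIT.psi a f).left.base =
      (φ ▷ T).left.base ⁻¹' Set.range (lift (f ≫ φ) (𝟙 T)).left.base := by
  have h1 := Scheme.image_preimage_eq_of_isPullback
    ((isPullback_psi a f).map (Over.forget S)).flip Set.univ
  rw [Set.preimage_univ, Set.image_univ, Set.image_univ] at h1
  have h2 := Scheme.image_preimage_eq_of_isPullback
    ((isPullback_graph (f ≫ φ)).map (Over.forget S)).flip Set.univ
  rw [Set.preimage_univ, Set.image_univ, Set.image_univ] at h2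
  have h3 : (X ◁ f).left ≫ phiphi φ = (φ ▷ T).left ≫ (Y ◁ (f ≫ φ)).left := by
    have := congrArg (fun k => k.left) (whisker_comm φ f)
    exact this
  have h4 : Set.range (GIT.psi a f).left.base =
      (X ◁ f).left.base ⁻¹' Set.range (GIT.psi a (𝟙 X)).left.base := h1
  have h5 : Set.range (lift (f ≫ φ) (𝟙 T)).left.base =
      (Y ◁ (f ≫ φ)).left.base ⁻¹' Set.range (pullback.diagonal Y.hom).base := h2
  rw [h4, range_psi_eq a φ h.inv h.orbit, range_iotaXX, h5, ← Set.preimage_comp, ← Set.preimage_comp,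
    ← TopCat.coe_comp, ← TopCat.coe_comp, ← Scheme.Hom.comp_base, ← Scheme.Hom.comp_base, h3]

theorem isClosedAction_of_isGeomQuot (h : GIT.IsGeomQuot a φ) : GIT.IsClosedAction a := by
  intro Ω _ _ T e f
  rw [range_psi_point a φ h f]
  refine IsClosed.preimage (φ ▷ T).left.base.hom.continuous ?_
  refine isClosed_range_of_section (lift (f ≫ φ) (𝟙 T)).left (snd Y T).left ?_ e
  rw [← Over.comp_left, lift_snd]
  rfl

end main

end Groth.Agent.Lib.T2H7.GITClosed
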