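import Groth.Agent.Lib.T2H7GITCat
import Groth.Prelude.Def_W4bk4git07Quot

/-!
# T2H7: basic facts on geometric and categorical quotients (GIT §0)
-/

set_option autoImplicit false
set_option linter.unusedSectionVars false
set_option linter.unusedVariables false
set_option linter.style.haveILetI false
universe u
open CategoryTheory MonoidalCategory CartesianMonoidalCategory MonObj GrpObj AlgebraicGeometry Topology
open TopologicalSpace

namespace Groth.Agent.Lib.T2H7.GITQuot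

open Groth.Agent.Lib.Helper20 Groth.Agent.Lib.T2H7.GITCat

variable {S : Scheme.{u}} {G X Y : Over S} [GrpObj G] (a : AlgGrp.Action G X)

/-- invariant subsets of `X` -/
def InvSet (W : Set X.left) : Prop :=
  a.act.left.base '' ((snd G X).left.base ⁻¹' W) ⊆ W

theorem base_eq_of_isInvariant {Z : Over S} {ψ : X ⟶ Z} (hψ : GIT.IsInvariant a ψ)
    (t : (G ⊗ X).left) : ψ.left.base (a.act.left.base t) = ψ.left.base ((snd G X).left.base t) := by
  have := congrArg (fun f : (G ⊗ X).left ⟶ Z.left => f.base t) hψ.left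
  simpa using this

theorem invSet_preimage {Z : Over S} {ψ : X ⟶ Z} (hψ : GIT.IsInvariant a ψ) (T : Set Z.left) :
    InvSet a (ψ.left.base ⁻¹' T) := by
  rintro _ ⟨t, ht, rfl⟩
  change ψ.left.base (a.act.left.base t) ∈ T
  rw [base_eq_of_isInvariant a hψ t]
  exact ht

theorem isInvSection_appLE {Z : Over S} (φ : X ⟶ Y) {ψ : X ⟶ Z} (hψ : GIT.IsInvariant a ψ)
    (V : Z.left.Opens) (U : Y.left.Opens) (e : φ.left ⁻¹ᵁ U ≤ ψ.left ⁻¹ᵁ V) (c : Γ(Z.left, V)) :
    GIT.IsInvSection a φ U ((ψ.left.appLE V (φ.left ⁻¹ᵁ U) e).hom c) := by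
  unfold GIT.IsInvSection
  have h1 : ψ.left.appLE V (φ.left ⁻¹ᵁ U) e ≫
      a.act.left.appLE (φ.left ⁻¹ᵁ U)
        (a.act.left ⁻¹ᵁ (φ.left ⁻¹ᵁ U) ⊓ (snd G X).left ⁻¹ᵁ (φ.left ⁻¹ᵁ U)) inf_le_left =
      ψ.left.appLE V (φ.left ⁻¹ᵁ U) e ≫
      (snd G X).left.appLE (φ.left ⁻¹ᵁ U)
        (a.act.left ⁻¹ᵁ (φ.left ⁻¹ᵁ U) ⊓ (snd G X).left ⁻¹ᵁ (φ.left ⁻¹ᵁ U)) inf_le_right := by
    rw [Scheme.Hom.appLE_comp_appLE, Scheme.Hom.appLE_comp_appLE]
    exact appLE_congr_hom hψ.left _ _ _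
  exact congrArg (fun k => k.hom c) h1

/-- invariant subsets are saturated when the orbit map is surjective -/
theorem preimage_image_subset_of_orbit {φ : X ⟶ Y} (hφ : GIT.IsInvariant a φ)
    (horb : Function.Surjective (GIT.PsiY a φ hφ).base) {W : Set X.left} (hW : InvSet a W) :
    φ.left.base ⁻¹' (φ.left.base '' W) ⊆ W := by
  rintro x ⟨w, hw, hwx⟩
  obtain ⟨z, hz1, hz2⟩ := Scheme.Pullback.exists_preimage_pullback x w hwx.symm
  obtain ⟨t, rfl⟩ := horb z
  apply hW
  refine ⟨t, ?_, ?_⟩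
  · change (snd G X).left.base t ∈ W
    have : (GIT.PsiY a φ hφ ≫ Limits.pullback.snd φ.left φ.left).base t = w := hz2
    rw [GIT.PsiY, Limits.pullback.lift_snd] at this
    rw [this]; exact hw
  · have : (GIT.PsiY a φ hφ ≫ Limits.pullback.fst φ.left φ.left).base t = x := hz1
    rw [GIT.PsiY, Limits.pullback.lift_fst] at this
    exact this

theorem preimage_image_eq_of_orbit {φ : X ⟶ Y} (hφ : GIT.IsInvariant a φ)
    (horb : Function.Surjective (GIT.PsiY a φ hφ).base) {W : Set X.left} (hW : InvSet a W) :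
    φ.left.base ⁻¹' (φ.left.base '' W) = W :=
  Set.Subset.antisymm (preimage_image_subset_of_orbit a hφ horb hW) (Set.subset_preimage_image _ _)

end Groth.Agent.Lib.T2H7.GITQuot
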