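import Groth.Agent.Lib.T2H7GITQuot

/-!
# T2H7: the criterion for categorical quotients (GIT §0.2, Remark 6)
-/

set_option autoImplicit false
set_option linter.unusedSectionVars false
set_option linter.unusedVariables false
set_option linter.style.haveILetI false
universe u
open CategoryTheory MonoidalCategory CartesianMonoidalCategory MonObj GrpObj AlgebraicGeometry Topology
open TopologicalSpace

namespace Groth.Agent.Lib.T2H7.GITQuot

open Groth.Agent.Lib.Helper20 Groth.Agent.Lib.T2H7.GITCat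

variable {S : Scheme.{u}} {G X Y : Over S} [GrpObj G] (a : AlgGrp.Action G X) (φ : X ⟶ Y)

section crit

variable (hi : GIT.IsInvariant a φ)
  (hii : ∀ U : Y.left.Opens,
    Function.Injective (φ.left.app U) ∧ Set.range (φ.left.app U) = {f | GIT.IsInvSection a φ U f})
  (hiii : ∀ W : Set X.left, IsClosed W → InvSet a W → IsClosed (φ.left.base '' W))
  (hiii' : ∀ (J : Type u) (W : J → Set X.left), (∀ i, IsClosed (W i) ∧ InvSet a (W i)) →
    φ.left.base '' (⋂ i, W i) = ⋂ i, φ.left.base '' W i)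

include hiii' in
theorem surjective_of_crit : Function.Surjective φ.left.base := by
  have h := hiii' PEmpty.{u + 1} (fun i => i.elim) (fun i => i.elim)
  rw [Set.iInter_of_empty, Set.iInter_of_empty, Set.image_univ] at h
  exact Set.range_eq_univ.mp h

include hi hiii hiii' in
theorem isQuotientMap_of_crit : IsQuotientMap φ.left.base := by
  have hs := surjective_of_crit a φ hiii'
  rw [isQuotientMap_iff_isClosed]
  refine ⟨hs, fun s => ⟨fun h => h.preimage φ.left.base.hom.continuous, fun h => ?_⟩⟩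
  have := hiii _ h (invSet_preimage a hi s)
  rwa [Set.image_preimage_eq s hs] at this

/-- the open `Y ∖ φ(X ∖ ψ⁻¹V)` -/
def openOf {Z : Over S} (ψ : X ⟶ Z) (hψ : GIT.IsInvariant a ψ)
    (hiii : ∀ W : Set X.left, IsClosed W → InvSet a W → IsClosed (φ.left.base '' W))
    (V : Z.left.Opens) : Y.left.Opens :=
  ⟨(φ.left.base '' (ψ.left.base ⁻¹' (V : Set Z.left))ᶜ)ᶜ, by
    rw [isOpen_compl_iff]
    apply hiii
    · rw [isClosed_compl_iff]
      exact V.isOpen.preimage ψ.left.base.hom.continuous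
    · rw [← Set.preimage_compl]
      exact invSet_preimage a hψ _⟩

theorem preimage_openOf_le {Z : Over S} (ψ : X ⟶ Z) (hψ : GIT.IsInvariant a ψ) (V : Z.left.Opens) :
    φ.left ⁻¹ᵁ openOf a φ ψ hψ hiii V ≤ ψ.left ⁻¹ᵁ V := by
  intro x hx
  by_contra hxV
  exact hx ⟨x, hxV, rfl⟩

include hi hii hiii hiii' in
theorem existsUnique_of_crit {Z : Over S} (ψ : X ⟶ Z) (hψ : GIT.IsInvariant a ψ) :
    ∃! χ : Y.left ⟶ Z.left, φ.left ≫ χ = ψ.left := by
  have hs := surjective_of_crit a φ hiii'
  have hinj : ∀ U : Y.left.Opens, Function.Injective (φ.left.app U).hom := fun U => (hii U).1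
  refine existsUnique_desc φ.left ψ.left hs hinj (fun V => openOf a φ ψ hψ hiii V.1)
    (fun V => preimage_openOf_le a φ hiii ψ hψ V.1) ?_ ?_
  · intro y
    by_contra hy
    simp only [not_exists] at hy
    have h1 : y ∈ ⋂ V : Z.left.affineOpens,
        φ.left.base '' (ψ.left.base ⁻¹' ((V.1 : Z.left.Opens) : Set Z.left))ᶜ := by
      rw [Set.mem_iInter]
      intro V
      by_contra hV
      exact hy V hV
    rw [← hiii' Z.left.affineOpens
      (fun V => (ψ.left.base ⁻¹' ((V.1 : Z.left.Opens) : Set Z.left))ᶜ) (fun V => ⟨?_, ?_⟩)] at h1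
    · obtain ⟨x, hx, rfl⟩ := h1
      rw [Set.mem_iInter] at hx
      obtain ⟨V, hV, hxV⟩ := exists_affine_nhd Z.left (ψ.left.base x)
      exact hx ⟨V, hV⟩ hxV
    · rw [isClosed_compl_iff]
      exact V.1.isOpen.preimage ψ.left.base.hom.continuous
    · rw [← Set.preimage_compl]
      exact invSet_preimage a hψ _
  · intro V c
    have h2 := (hii (openOf a φ ψ hψ hiii V.1)).2
    have h3 : (ψ.left.appLE V.1 (φ.left ⁻¹ᵁ openOf a φ ψ hψ hiii V.1)
        (preimage_openOf_le a φ hiii ψ hψ V.1)).hom c ∈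
        {f | GIT.IsInvSection a φ (openOf a φ ψ hψ hiii V.1) f} :=
      isInvSection_appLE a φ hψ V.1 _ _ c
    rw [← h2] at h3
    exact h3

include hi hii hiii hiii' in
theorem isCatQuot_of_crit : GIT.IsCatQuot a φ := by
  refine ⟨hi, fun Z ψ hψ => ?_⟩
  obtain ⟨χ₀, hχ₀, huniq⟩ := existsUnique_of_crit a φ hi hii hiii hiii' ψ hψ
  have hs := surjective_of_crit a φ hiii'
  have hinj : ∀ U : Y.left.Opens, Function.Injective (φ.left.app U).hom := fun U => (hii U).1
  haveI : Epi φ.left := epi_of_surjective_of_injective_app φ.left hs hinj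
  have hw : χ₀ ≫ Z.hom = Y.hom := by
    rw [← cancel_epi φ.left, ← Category.assoc, hχ₀, Over.w, Over.w]
  refine ⟨Over.homMk χ₀ hw, ?_, fun χ' hχ' => ?_⟩
  · ext
    simpa using hχ₀
  · ext
    have : φ.left ≫ χ'.left = ψ.left := by rw [← Over.comp_left, hχ']
    simpa using huniq _ this

end crit

end Groth.Agent.Lib.T2H7.GITQuot
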