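import Groth.Agent.Lib.T2H7GITQuotB

/-!
# T2H7: a geometric quotient is a categorical quotient (GIT Prop. 0.1)
-/

set_option autoImplicit false
set_option linter.unusedSectionVars false
set_option linter.unusedVariables false
set_option linter.style.haveILetI false
universe u
open CategoryTheory MonoidalCategory CartesianMonoidalCategory MonObj GrpObj AlgebraicGeometry Topology
open TopologicalSpace

namespace Groth.Agent.Lib.T2H7.GITQuot

open Groth.Agent.Lib.Helper20 Groth.Agent.Lib.T2H7.GITCat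

variable {S : Scheme.{u}} {G X Y : Over S} [GrpObj G] (a : AlgGrp.Action G X) (φ : X ⟶ Y)

theorem isQuotientMap_of_isUnivSubmersive {A B : Scheme.{u}} (f : A ⟶ B)
    (h : GIT.IsUnivSubmersive f) : IsQuotientMap f.base :=
  MorphismProperty.universally_le (P := topologically @IsQuotientMap) _ h

theorem isClosed_image_of_isGeomQuot (h : GIT.IsGeomQuot a φ) (W : Set X.left) (hW : IsClosed W)
    (hinv : InvSet a W) : IsClosed (φ.left.base '' W) := by
  rw [← (isQuotientMap_of_isUnivSubmersive φ.left h.subm).isClosed_preimage,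
    preimage_image_eq_of_orbit a h.inv h.orbit hinv]
  exact hW

theorem image_iInter_of_isGeomQuot (h : GIT.IsGeomQuot a φ) (J : Type u) (W : J → Set X.left)
    (hW : ∀ i, IsClosed (W i) ∧ InvSet a (W i)) :
    φ.left.base '' (⋂ i, W i) = ⋂ i, φ.left.base '' W i := by
  apply Set.Subset.antisymm (Set.image_iInter_subset _ _)
  intro y hy
  obtain ⟨x, rfl⟩ := h.surj y
  refine ⟨x, ?_, rfl⟩
  rw [Set.mem_iInter] at hy ⊢
  intro i
  exact preimage_image_subset_of_orbit a h.inv h.orbit (hW i).2 (hy i)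

theorem isCatQuot_of_isGeomQuot (h : GIT.IsGeomQuot a φ) : GIT.IsCatQuot a φ :=
  isCatQuot_of_crit a φ h.inv h.sections (isClosed_image_of_isGeomQuot a φ h)
    (image_iInter_of_isGeomQuot a φ h)

theorem isUnivCatQuot_of_isUnivGeomQuot (h : GIT.IsUnivGeomQuot a φ) : GIT.IsUnivCatQuot a φ :=
  ⟨isCatQuot_of_isGeomQuot a φ h.1, fun X' Y' pr φ' g hg hpb a' hc hinv' =>
    isCatQuot_of_isGeomQuot a' φ' (h.2 pr φ' g hg hpb a' hc hinv')⟩

end Groth.Agent.Lib.T2H7.GITQuot
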