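import Groth.Agent.Lib.T2H7GITQuot
import Groth.Agent.Lib.Helper12Submersive2

/-!
# T2H7: a geometric quotient is separated iff the action is separated (GIT Lemma 0.6)
-/

set_option autoImplicit false
set_option linter.unusedSectionVars false
set_option linter.unusedVariables false
set_option linter.style.haveILetI false
universe u
open CategoryTheory MonoidalCategory CartesianMonoidalCategory MonObj GrpObj AlgebraicGeometry Topology
open TopologicalSpace Limits

namespace Groth.Agent.Lib.T2H7.GITSep

open Groth.Agent.Lib.Helper12.Submersive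

section cat

variable {C : Type*} [Category C] [HasPullbacks C]

/-- `A ×_T A ⟶ A ×_S A` is the base change of the diagonal of `T ⟶ S` -/
theorem isPullback_diag {A T S : C} (f : A ⟶ T) (i : T ⟶ S) (a : A ⟶ S) (ha : a = f ≫ i) :
    IsPullback (pullback.fst f f ≫ f)
      (pullback.map f f a a (𝟙 _) (𝟙 _) i (by rw [Category.id_comp, ha])
        (by rw [Category.id_comp, ha]))
      (pullback.diagonal i)
      (pullback.map a a i i f f (𝟙 _) (by rw [Category.comp_id, ha])
        (by rw [Category.comp_id, ha])) := by
  subst ha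
  exact pullback_map_diagonal_isPullback f f i

end cat

variable {S : Scheme.{u}} {G X Y : Over S} [GrpObj G] (a : AlgGrp.Action G X) (φ : X ⟶ Y)

/-- the canonical morphism `X ×_Y X ⟶ X ×_S X` -/
noncomputable def iotaXX : pullback φ.left φ.left ⟶ (X ⊗ X).left :=
  pullback.map φ.left φ.left X.hom X.hom (𝟙 _) (𝟙 _) Y.hom
    (by rw [Category.id_comp, Over.w]) (by rw [Category.id_comp, Over.w])

/-- `φ × φ` -/
noncomputable def phiphi : (X ⊗ X).left ⟶ (Y ⊗ Y).left :=
  pullback.map X.hom X.hom Y.hom Y.hom φ.left φ.left (𝟙 _)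
    (by rw [Category.comp_id, Over.w]) (by rw [Category.comp_id, Over.w])

theorem isPullback_iotaXX :
    IsPullback (pullback.fst φ.left φ.left ≫ φ.left) (iotaXX φ) (pullback.diagonal Y.hom)
      (phiphi φ) :=
  isPullback_diag φ.left Y.hom X.hom (Over.w φ).symm

theorem psi_left_eq (hφ : GIT.IsInvariant a φ) :
    (GIT.psi a (𝟙 X)).left = GIT.PsiY a φ hφ ≫ iotaXX φ := by
  apply pullback.hom_ext
  · unfold GIT.psi GIT.PsiY iotaXX
    rw [Over.lift_left, pullback.lift_fst, Category.assoc, pullback.lift_fst, pullback.lift_fst_assoc]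
    simp
  · unfold GIT.psi GIT.PsiY iotaXX
    rw [Over.lift_left, pullback.lift_snd, Category.assoc, pullback.lift_snd, pullback.lift_snd_assoc]
    simp

theorem range_psi_eq (hφ : GIT.IsInvariant a φ)
    (horb : Function.Surjective (GIT.PsiY a φ hφ).base) :
    Set.range (GIT.psi a (𝟙 X)).left.base = Set.range (iotaXX φ).base := by
  rw [psi_left_eq a φ hφ, Scheme.Hom.comp_base, TopCat.coe_comp, horb.range_comp]

theorem range_iotaXX :
    Set.range (iotaXX φ).base = (phiphi φ).base ⁻¹' Set.range (pullback.diagonal Y.hom).base := by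
  have := Scheme.image_preimage_eq_of_isPullback (isPullback_iotaXX φ) Set.univ
  rw [Set.preimage_univ, Set.image_univ, Set.image_univ] at this
  exact this

theorem us_phiphi (hsub : GIT.IsUnivSubmersive φ.left) : US (phiphi φ) :=
  MorphismProperty.pullbackMap (P := US) hsub hsub (Over.w φ).symm (Over.w φ).symm

theorem isSeparated_iff (h : GIT.IsGeomQuot a φ) :
    IsSeparated Y.hom ↔ IsClosed (Set.range (GIT.psi a (𝟙 X)).left.base) := by
  rw [range_psi_eq a φ h.inv h.orbit]
  constructor
  · intro hsep
    haveI : IsClosedImmersion (pullback.diagonal Y.hom) := hsep.1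
    haveI : IsClosedImmersion (iotaXX φ) :=
      MorphismProperty.of_isPullback (isPullback_iotaXX φ) inferInstance
    exact (iotaXX φ).isClosedEmbedding.isClosed_range
  · intro hcl
    rw [range_iotaXX] at hcl
    have hq : IsQuotientMap (phiphi φ).base := isQuotientMap_of_us (us_phiphi φ h.subm)
    rw [hq.isClosed_preimage] at hcl
    exact ⟨IsClosedImmersion.of_isPreimmersion _ hcl⟩

end Groth.Agent.Lib.T2H7.GITSep
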