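import Groth.Agent.Lib.T2H7GITBC2
import Mathlib.AlgebraicGeometry.AffineSpace

/-!
# T2H7: universal categorical quotients (GIT §0.2, Remark 5)
-/

set_option autoImplicit false
set_option linter.unusedSectionVars false
set_option linter.unusedVariables false
set_option linter.style.haveILetI false
universe u
open CategoryTheory MonoidalCategory CartesianMonoidalCategory MonObj GrpObj AlgebraicGeometry Topology
open TopologicalSpace Limits

namespace Groth.Agent.Lib.T2H7.GITUniv

open Groth.Agent.Lib.Helper20 Groth.Agent.Lib.T2H7.GITBC Groth.Agent.Lib.T2H7.GITQuot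

variable {S : Scheme.{u}} {G : Over S} [GrpObj G]

section surj

variable {X Y : Over S} (a : AlgGrp.Action G X) (φ : X ⟶ Y)

theorem surjective_of_isUnivCatQuot (h : GIT.IsUnivCatQuot a φ) :
    Function.Surjective φ.left.base := by
  intro y
  let Y' : Over S := Over.mk (Y.left.fromSpecResidueField y ≫ Y.hom)
  let g : Y' ⟶ Y := Over.homMk (Y.left.fromSpecResidueField y) rfl
  have hpb : IsPullback (pullback.fst φ g) (pullback.snd φ g) φ g := IsPullback.of_hasPullback φ g
  have hq : GIT.IsCatQuot (bcAct a h.1.1 hpb) (pullback.snd φ g) :=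
    h.2 _ _ g trivial hpb _ (bcAct_compat a h.1.1 hpb) (bcAct_isInvariant a h.1.1 hpb)
  by_contra hne
  have hempty : IsEmpty (pullback φ g).left := by
    refine ⟨fun x' => hne ⟨(pullback.fst φ g).left.base x', ?_⟩⟩
    have h1 := congrArg (fun k : (pullback φ g) ⟶ Y => k.left.base x') hpb.w
    simp only [Over.comp_left, Scheme.Hom.comp_base, TopCat.hom_comp, ContinuousMap.comp_apply]
      at h1
    rw [h1]
    exact Scheme.fromSpecResidueField_apply y _
  have hempty' : IsEmpty (G ⊗ pullback φ g).left :=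
    Function.isEmpty (snd G (pullback φ g)).left.base
  let Z : Over S := Over.mk (Scheme.emptyTo S)
  let ψ : pullback φ g ⟶ Z :=
    Over.homMk ((isInitialOfIsEmpty (X := (pullback φ g).left)).to (∅ : Scheme.{u}))
      ((isInitialOfIsEmpty (X := (pullback φ g).left)).hom_ext _ _)
  have hψ : GIT.IsInvariant (bcAct a h.1.1 hpb) ψ := by
    apply Over.OverMorphism.ext
    exact (isInitialOfIsEmpty (X := (G ⊗ pullback φ g).left)).hom_ext _ _
  obtain ⟨χ, -, -⟩ := hq.2 Z ψ hψ
  obtain ⟨pt⟩ : Nonempty (Spec (Y.left.residueField y)) := inferInstance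
  exact (inferInstance : IsEmpty (∅ : Scheme.{u})).false (χ.left.base pt)

end surj

section A1

/-- the affine line over `S` -/
noncomputable def A1 (S : Scheme.{u}) : Over S := Over.mk (𝔸(PUnit.{u + 1}; S) ↘ S)

/-- the morphism to the affine line attached to a global function -/
noncomputable def secHom (T : Over S) (s : Γ(T.left, ⊤)) : T ⟶ A1 S :=
  Over.homMk (AffineSpace.homOfVector T.hom (fun _ => s)) (AffineSpace.homOfVector_over _ _)

theorem comp_secHom {T T' : Over S} (t : T' ⟶ T) (s : Γ(T.left, ⊤)) :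
    t ≫ secHom T s = secHom T' (t.left.appTop s) := by
  apply Over.OverMorphism.ext
  change t.left ≫ AffineSpace.homOfVector T.hom (fun _ => s) =
    AffineSpace.homOfVector T'.hom (fun _ => t.left.appTop s)
  rw [AffineSpace.comp_homOfVector, Over.w]
  rfl

theorem secHom_injective (T : Over S) {s s' : Γ(T.left, ⊤)} (h : secHom T s = secHom T s') :
    s = s' := by
  have h1 := congrArg (fun k : T ⟶ A1 S => k.left.appTop (AffineSpace.coord S PUnit.unit)) h
  change (AffineSpace.homOfVector T.hom (fun _ => s)).appTop _ =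
    (AffineSpace.homOfVector T.hom (fun _ => s')).appTop _ at h1
  rwa [AffineSpace.homOfVector_appTop_coord, AffineSpace.homOfVector_appTop_coord] at h1

theorem eq_secHom {T : Over S} (χ : T ⟶ A1 S) :
    χ = secHom T (χ.left.appTop (AffineSpace.coord S PUnit.unit)) := by
  apply Over.OverMorphism.ext
  apply AffineSpace.hom_ext
  · change χ.left ≫ (A1 S).hom = AffineSpace.homOfVector T.hom _ ≫ _
    rw [AffineSpace.homOfVector_over, Over.w]
  · rintro ⟨⟩
    change _ = (AffineSpace.homOfVector T.hom _).appTop _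
    rw [AffineSpace.homOfVector_appTop_coord]
    rfl

end A1

section opens

variable {A : Scheme.{u}}

/-- global functions on an open subscheme pulled back along a morphism into it -/
theorem topIso_inv_appTop {T : Scheme.{u}} (W : A.Opens) (k : T ⟶ W.toScheme) :
    W.topIso.inv ≫ k.appTop = (k ≫ W.ι).appLE W ⊤ (by
      rw [Scheme.Hom.comp_preimage]
      have : W.ι ⁻¹ᵁ W = ⊤ := by simp
      rw [this]; exact le_rfl) := by
  have e1 : (⊤ : T.Opens) ≤ k ⁻¹ᵁ ⊤ := le_rfl
  have e2 : (⊤ : W.toScheme.Opens) ≤ W.ι ⁻¹ᵁ W := by simp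
  rw [← Scheme.Hom.appLE_comp_appLE k W.ι W ⊤ ⊤ e2 e1, Scheme.Opens.ι_appLE]
  congr 1
  rw [Scheme.Hom.appLE, Scheme.Hom.appTop]
  simp

/-- equality of two pulled back functions, from equality on an open of an intermediate scheme -/
theorem appTop_topIso_inv_eq {B T : Scheme.{u}} (W : A.Opens) (k₁ k₂ : T ⟶ W.toScheme) (j : T ⟶ B)
    (σ₁ σ₂ : B ⟶ A) (h₁ : k₁ ≫ W.ι = j ≫ σ₁) (h₂ : k₂ ≫ W.ι = j ≫ σ₂) (f : Γ(A, W))
    (hf : (σ₁.appLE W (σ₁ ⁻¹ᵁ W ⊓ σ₂ ⁻¹ᵁ W) inf_le_left).hom f =
      (σ₂.appLE W (σ₁ ⁻¹ᵁ W ⊓ σ₂ ⁻¹ᵁ W) inf_le_right).hom f) :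
    k₁.appTop.hom (W.topIso.inv.hom f) = k₂.appTop.hom (W.topIso.inv.hom f) := by
  have hO1 : (⊤ : T.Opens) ≤ j ⁻¹ᵁ (σ₁ ⁻¹ᵁ W ⊓ σ₂ ⁻¹ᵁ W) := by
    intro t _
    refine ⟨?_, ?_⟩
    · change σ₁.base (j.base t) ∈ W
      have := congrArg (fun k : T ⟶ A => k.base t) h₁
      simp only [Scheme.Hom.comp_base, TopCat.hom_comp, ContinuousMap.comp_apply] at this
      rw [← this]
      exact (k₁.base t).2
    · change σ₂.base (j.base t) ∈ W
      have := congrArg (fun k : T ⟶ A => k.base t) h₂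
      simp only [Scheme.Hom.comp_base, TopCat.hom_comp, ContinuousMap.comp_apply] at this
      rw [← this]
      exact (k₂.base t).2
  have k1 := congrArg (fun m => m.hom f) (topIso_inv_appTop W k₁)
  have k2 := congrArg (fun m => m.hom f) (topIso_inv_appTop W k₂)
  simp only [CommRingCat.hom_comp, RingHom.coe_comp, Function.comp_apply] at k1 k2
  rw [k1, k2]
  have k3 : (k₁ ≫ W.ι).appLE W ⊤ (by
      rw [h₁, Scheme.Hom.comp_preimage]; exact hO1.trans (Scheme.Hom.preimage_mono _ inf_le_left)) =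
      σ₁.appLE W (σ₁ ⁻¹ᵁ W ⊓ σ₂ ⁻¹ᵁ W) inf_le_left ≫ j.appLE _ ⊤ hO1 := by
    rw [Scheme.Hom.appLE_comp_appLE]
    exact appLE_congr_hom h₁ _ _ _
  have k4 : (k₂ ≫ W.ι).appLE W ⊤ (by
      rw [h₂, Scheme.Hom.comp_preimage]; exact hO1.trans (Scheme.Hom.preimage_mono _ inf_le_right)) =
      σ₂.appLE W (σ₁ ⁻¹ᵁ W ⊓ σ₂ ⁻¹ᵁ W) inf_le_right ≫ j.appLE _ ⊤ hO1 := by
    rw [Scheme.Hom.appLE_comp_appLE]
    exact appLE_congr_hom h₂ _ _ _
  rw [k3, k4]
  simp only [CommRingCat.hom_comp, RingHom.coe_comp, Function.comp_apply]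
  rw [hf]

end opens

section sections

variable {X Y : Over S} (a : AlgGrp.Action G X) (φ : X ⟶ Y) (U : Y.left.Opens)

/-- the open `U` of `Y` as an `S`-scheme -/
noncomputable def YU : Over S := Over.mk (U.ι ≫ Y.hom)

/-- `φ⁻¹(U)` as an `S`-scheme -/
noncomputable def XU : Over S := Over.mk ((φ.left ⁻¹ᵁ U).ι ≫ X.hom)

noncomputable def gU : YU U ⟶ Y := Over.homMk U.ι rfl

noncomputable def prU : XU φ U ⟶ X := Over.homMk (φ.left ⁻¹ᵁ U).ι rfl

noncomputable def phiU : XU φ U ⟶ YU U :=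
  Over.homMk (φ.left ∣_ U) (by
    change (φ.left ∣_ U) ≫ U.ι ≫ Y.hom = (φ.left ⁻¹ᵁ U).ι ≫ X.hom
    rw [← Category.assoc, morphismRestrict_ι, Category.assoc, Over.w])

theorem isPullback_U : IsPullback (prU φ U) (phiU φ U) φ (gU U) := by
  have hw : prU φ U ≫ φ = phiU φ U ≫ gU U := by
    apply Over.OverMorphism.ext
    exact (morphismRestrict_ι φ.left U).symm
  exact IsPullback.of_map (Over.forget S) hw (isPullback_morphismRestrict φ.left U).flip

variable (hφ : GIT.IsInvariant a φ)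

/-- invariant sections give invariant morphisms to the affine line on the base change -/
theorem isInvariant_secHom (f : Γ(X.left, φ.left ⁻¹ᵁ U)) (hf : GIT.IsInvSection a φ U f) :
    GIT.IsInvariant (bcAct a hφ (isPullback_U φ U))
      (secHom (XU φ U) ((φ.left ⁻¹ᵁ U).topIso.inv f)) := by
  unfold GIT.IsInvariant
  rw [comp_secHom, comp_secHom]
  congr 1
  have hc1 : (bcAct a hφ (isPullback_U φ U)).act.left ≫ (φ.left ⁻¹ᵁ U).ι =
      (G ◁ prU φ U).left ≫ a.act.left := by
    have := congrArg (fun k => k.left) (bcAct_compat a hφ (isPullback_U φ U))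
    exact this
  have hc2 : (snd G (XU φ U)).left ≫ (φ.left ⁻¹ᵁ U).ι = (G ◁ prU φ U).left ≫ (snd G X).left := by
    have := congrArg (fun k => k.left) (whiskerLeft_snd G (prU φ U))
    exact this.symm
  exact appTop_topIso_inv_eq (φ.left ⁻¹ᵁ U) _ _ _ _ _ hc1 hc2 f hf

end sections

end Groth.Agent.Lib.T2H7.GITUniv
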