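import Groth.Agent.Lib.Helper25GLnEmbed
import Groth.Agent.Lib.Helper25GModComod
import Mathlib

/-!
# T2H7GLnSch: the general linear group as a smooth affine group scheme over a field,
and homomorphisms to it from comatrices
-/

set_option autoImplicit false
set_option linter.style.haveILetI false
set_option linter.unusedSectionVars false
set_option linter.unusedVariables false
universe u

open CategoryTheory AlgebraicGeometry
open scoped TensorProduct

namespace Groth.Agent.Lib.T2H7.GLnSch

open CoordGrp Groth.Agent.Lib.Helper25.GModComod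

section Smooth

variable (n : ℕ) (k : Type u) [Field k]

/-- the image of the determinant under an algebra map -/
theorem map_det {B : Type u} [CommRing B] [Algebra k B] (f : GLn n k →ₐ[k] B) :
    f (GLn.det : GLn n k) = (Matrix.of fun i j => f (GLn.X i j)).det := by
  rw [GLn.det_eq, AlgHom.map_det]
  rfl

theorem formallySmooth_GLn : Algebra.FormallySmooth k (GLn n k) := by
  apply Algebra.FormallySmooth.of_comp_surjective
  intro B _ _ I hI f
  have hsurj : Function.Surjective (Ideal.Quotient.mk I) := Ideal.Quotient.mk_surjective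
  choose M hM using fun i j => hsurj (f (GLn.X i j))
  obtain ⟨d₀, hd₀⟩ := hsurj (f GLn.Dinv)
  let Mm : Matrix (Fin n) (Fin n) B := Matrix.of M
  have h1 : Ideal.Quotient.mk I (Mm.det * d₀) = 1 := by
    rw [map_mul, RingHom.map_det, hd₀]
    have h2 : (Ideal.Quotient.mk I).mapMatrix Mm = Matrix.of fun i j => f (GLn.X i j) := by
      ext i j
      exact hM i j
    rw [h2, ← map_det, ← map_mul, GLn.det_mul_Dinv, map_one]
  set u := Mm.det * d₀ with hu
  have h3 : u - 1 ∈ I := by
    rw [← Ideal.Quotient.eq_zero_iff_mem, map_sub, h1, map_one, sub_self]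
  have h4 : (u - 1) * (u - 1) = 0 := by
    have : (u - 1) * (u - 1) ∈ I ^ 2 := by
      rw [pow_two]
      exact Ideal.mul_mem_mul h3 h3
    rw [hI] at this
    exact this
  have h5 : Mm.det * (d₀ * (2 - u)) = 1 := by
    have : Mm.det * (d₀ * (2 - u)) = 1 - (u - 1) * (u - 1) := by
      rw [hu]
      ring
    rw [this, h4, sub_zero]
  refine ⟨GLn.pt n k Mm (d₀ * (2 - u)) h5, ?_⟩
  apply GLn.algHom_ext
  · intro i j
    rw [AlgHom.comp_apply, GLn.pt_X]
    exact hM i j
  · rw [AlgHom.comp_apply, GLn.pt_Dinv]
    change Ideal.Quotient.mk I (d₀ * (2 - u)) = _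
    rw [map_mul, map_sub, h1, hd₀]
    have : (Ideal.Quotient.mk I) 2 - 1 = 1 := by
      rw [map_ofNat]
      ring
    rw [this, mul_one]

theorem finitePresentation_GLn : Algebra.FinitePresentation k (GLn n k) := by
  have h1 : Algebra.FinitePresentation k (GLb n k) :=
    inferInstanceAs (Algebra.FinitePresentation k (MvPolynomial (GLPoly.Idx n) k))
  exact Algebra.FinitePresentation.quotient (Submodule.fg_span_singleton _)

theorem smooth_GLn : Algebra.Smooth k (GLn n k) :=
  ⟨formallySmooth_GLn n k, finitePresentation_GLn n k⟩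

end Smooth


section Ext

variable {n : ℕ} {k : Type u} [Field k]

/-- an algebra map out of the coordinate ring of the general linear group is determined by the
images of the matrix coordinates -/
theorem algHom_ext_X {B : Type u} [CommRing B] [Algebra k B] {f g : GLn n k →ₐ[k] B}
    (h : ∀ i j, f (GLn.X i j) = g (GLn.X i j)) : f = g := by
  apply GLn.algHom_ext h
  have h1 : f (GLn.det : GLn n k) = g (GLn.det : GLn n k) := by
    rw [map_det, map_det]
    congr 1
    ext i j
    exact h i j
  have hf : f (GLn.det : GLn n k) * f GLn.Dinv = 1 := by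
    rw [← map_mul, GLn.det_mul_Dinv, map_one]
  have hg : g (GLn.det : GLn n k) * g GLn.Dinv = 1 := by
    rw [← map_mul, GLn.det_mul_Dinv, map_one]
  calc f GLn.Dinv = f GLn.Dinv * (g (GLn.det : GLn n k) * g GLn.Dinv) := by rw [hg, mul_one]
    _ = (f (GLn.det : GLn n k) * f GLn.Dinv) * g GLn.Dinv := by rw [← h1]; ring
    _ = g GLn.Dinv := by rw [hf, one_mul]

end Ext

section GsMap

variable {k : Type u} [Field k] {A A' : Type u} [CommRing A] [HopfAlgebra k A] [CommRing A']
  [HopfAlgebra k A']

instance isAffine_GS_left : IsAffine (GS k A).left :=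
  inferInstanceAs (IsAffine (Spec (CommRingCat.of A)))

/-- the homomorphism of affine group schemes attached to a bialgebra map -/
noncomputable def gsMap (ψ : A' →ₐc[k] A) : GS k A ⟶ GS k A' :=
  ((bialgSpec (CommRingCat.of k)).map (Quiver.Hom.op (CommBialgCat.ofHom ψ))).hom

instance isMonHom_gsMap (ψ : A' →ₐc[k] A) : IsMonHom (gsMap ψ) :=
  inferInstanceAs (IsMonHom ((bialgSpec (CommRingCat.of k)).map
    (Quiver.Hom.op (CommBialgCat.ofHom ψ))).hom)

theorem gsMap_left (ψ : A' →ₐc[k] A) :
    (gsMap ψ).left = Spec.map (CommRingCat.ofHom (ψ : A' →ₐ[k] A).toRingHom) := rfl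

theorem ptOf_comp_gsMap (ψ : A' →ₐc[k] A) {B : Type u} [CommRing B] [Algebra k B]
    (f : A →ₐ[k] B) : ptOf f ≫ gsMap ψ = ptOf (f.comp (ψ : A' →ₐ[k] A)) := by
  apply Over.OverMorphism.ext
  rw [Over.comp_left, gsMap_left]
  change Spec.map _ ≫ Spec.map _ = Spec.map _
  rw [← Spec.map_comp]
  rfl

theorem algOf_comp_gsMap (ψ : A' →ₐc[k] A) {B : Type u} [CommRing B] [Algebra k B]
    (x : VecGrp.pt k B ⟶ GS k A) : algOf (x ≫ gsMap ψ) = (algOf x).comp (ψ : A' →ₐ[k] A) := by
  conv_lhs => rw [← ptOf_algOf x, ptOf_comp_gsMap, algOf_ptOf]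

theorem gsMap_injective : Function.Injective (gsMap : (A' →ₐc[k] A) → (GS k A ⟶ GS k A')) := by
  intro ψ ψ' h
  have h1 := congrArg (fun t => t.left) h
  simp only [gsMap_left] at h1
  have h2 := Spec.map_injective h1
  have h3 : (ψ : A' →ₐ[k] A).toRingHom = (ψ' : A' →ₐ[k] A).toRingHom := by
    have := congrArg (fun t => t.hom) h2
    exact this
  ext a
  exact congrArg (fun t : A' →+* A => t a) h3

theorem smooth_GS_GLn (n : ℕ) : Smooth (GS k (GLn n k)).hom := by
  change Smooth (Spec.map (CommRingCat.ofHom (algebraMap k (GLn n k))))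
  rw [HasRingHomProperty.Spec_iff (P := @Smooth)]
  change (algebraMap k (GLn n k)).Smooth
  rw [RingHom.smooth_algebraMap]
  exact smooth_GLn n k

end GsMap

section Comat

open Groth.Agent.Lib.Helper25 Matrix

variable {k : Type u} [Field k] {A : Type u} [CommRing A] [Bialgebra k A]
variable {J : Type} [Fintype J] [DecidableEq J]

/-- comatrices in terms of matrix products over the tensor square -/
theorem isComatrix_iff (a : Matrix J J A) : IsComatrix (k := k) a ↔
    (Bialgebra.comulAlgHom k A).mapMatrix a =
      (Algebra.TensorProduct.includeLeft : A →ₐ[k] A ⊗[k] A).mapMatrix a *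
        (Algebra.TensorProduct.includeRight : A →ₐ[k] A ⊗[k] A).mapMatrix a ∧
    (Bialgebra.counitAlgHom k A).mapMatrix a = 1 := by
  constructor
  · intro ha
    constructor
    · ext i j
      rw [Matrix.mul_apply]
      simp only [AlgHom.mapMatrix_apply, Matrix.map_apply, Bialgebra.comulAlgHom_apply,
        Algebra.TensorProduct.includeLeft_apply, Algebra.TensorProduct.includeRight_apply,
        Algebra.TensorProduct.tmul_mul_tmul, _root_.mul_one, _root_.one_mul]
      exact ha.comul i j
    · ext i j
      simp only [AlgHom.mapMatrix_apply, Matrix.map_apply, Bialgebra.counitAlgHom_apply,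
        Matrix.one_apply]
      exact ha.counit i j
  · rintro ⟨h1, h2⟩
    constructor
    · intro i j
      have := congrFun (congrFun h1 i) j
      rw [Matrix.mul_apply] at this
      simp only [AlgHom.mapMatrix_apply, Matrix.map_apply, Bialgebra.comulAlgHom_apply,
        Algebra.TensorProduct.includeLeft_apply, Algebra.TensorProduct.includeRight_apply,
        Algebra.TensorProduct.tmul_mul_tmul, _root_.mul_one, _root_.one_mul] at this
      exact this
    · intro i j
      have := congrFun (congrFun h2 i) j
      simp only [AlgHom.mapMatrix_apply, Matrix.map_apply, Bialgebra.counitAlgHom_apply,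
        Matrix.one_apply] at this
      exact this

theorem mapMatrix_map_algebraMap {C : Type u} [CommRing C] [Algebra k C] (φ : A →ₐ[k] C)
    (P : Matrix J J k) :
    φ.mapMatrix (P.map (algebraMap k A)) = P.map (algebraMap k C) := by
  ext i j
  simp only [AlgHom.mapMatrix_apply, Matrix.map_apply, AlgHom.commutes]

theorem map_algebraMap_mul {C : Type u} [CommRing C] [Algebra k C] (P Q : Matrix J J k) :
    (P * Q).map (algebraMap k C) = P.map (algebraMap k C) * Q.map (algebraMap k C) :=
  Matrix.map_mul

/-- conjugating a comatrix by a constant invertible matrix gives a comatrix -/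
theorem isComatrix_conj {a : Matrix J J A} (ha : IsComatrix (k := k) a) (P Q : Matrix J J k)
    (hQP : Q * P = 1) (hPQ : P * Q = 1) :
    IsComatrix (k := k) (P.map (algebraMap k A) * a * Q.map (algebraMap k A)) := by
  rw [isComatrix_iff] at ha ⊢
  obtain ⟨h1, h2⟩ := ha
  constructor
  · rw [map_mul, map_mul, map_mul, map_mul, map_mul, map_mul, h1, mapMatrix_map_algebraMap,
      mapMatrix_map_algebraMap, mapMatrix_map_algebraMap, mapMatrix_map_algebraMap,
      mapMatrix_map_algebraMap, mapMatrix_map_algebraMap]
    have h3 : Q.map (algebraMap k (A ⊗[k] A)) * P.map (algebraMap k (A ⊗[k] A)) = 1 := by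
      rw [← map_algebraMap_mul, hQP, Matrix.map_one _ (map_zero _) (map_one _)]
    calc _ = P.map (algebraMap k (A ⊗[k] A)) * (Algebra.TensorProduct.includeLeft :
            A →ₐ[k] A ⊗[k] A).mapMatrix a * 1 * ((Algebra.TensorProduct.includeRight :
            A →ₐ[k] A ⊗[k] A).mapMatrix a) * Q.map (algebraMap k (A ⊗[k] A)) := by
          rw [_root_.mul_one]
          simp only [Matrix.mul_assoc]
      _ = _ := by
          rw [← h3]
          simp only [Matrix.mul_assoc]
  · rw [map_mul, map_mul, h2, mapMatrix_map_algebraMap, mapMatrix_map_algebraMap, _root_.mul_one,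
      ← map_algebraMap_mul, hPQ, Matrix.map_one _ (map_zero _) (map_one _)]

/-- reindexing a comatrix -/
theorem isComatrix_reindex {J' : Type} [Fintype J'] [DecidableEq J'] (e : J ≃ J')
    {a : Matrix J J A} (ha : IsComatrix (k := k) a) :
    IsComatrix (k := k) (Matrix.reindex e e a) where
  comul i j := by
    rw [Matrix.reindex_apply, Matrix.submatrix_apply, ha.comul]
    exact Fintype.sum_equiv e _ _ (fun l => by simp)
  counit i j := by
    rw [Matrix.reindex_apply, Matrix.submatrix_apply, ha.counit]
    simp only [EmbeddingLike.apply_eq_iff_eq]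

/-- adding a trivial summand to a comatrix -/
theorem isComatrix_fromBlocks {a : Matrix J J A} (ha : IsComatrix (k := k) a) :
    IsComatrix (k := k) (Matrix.fromBlocks a (0 : Matrix J Unit A) (0 : Matrix Unit J A)
      (1 : Matrix Unit Unit A)) := by
  rw [isComatrix_iff] at ha ⊢
  obtain ⟨h1, h2⟩ := ha
  constructor
  · simp only [AlgHom.mapMatrix_apply] at h1 ⊢
    rw [Matrix.fromBlocks_map, Matrix.fromBlocks_map, Matrix.fromBlocks_map,
      Matrix.fromBlocks_multiply, h1]
    have e1 : ∀ φ : A →ₐ[k] A ⊗[k] A, (1 : Matrix Unit Unit A).map φ = 1 :=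
      fun φ => Matrix.map_one _ (map_zero _) (map_one _)
    simp [Matrix.map_zero, e1]
  · simp only [AlgHom.mapMatrix_apply] at h2 ⊢
    rw [Matrix.fromBlocks_map, h2]
    simp [Matrix.map_zero, Matrix.map_one]

/-- the shear matrix of a vector -/
def shearP (c : J → k) : Matrix (J ⊕ Unit) (J ⊕ Unit) k :=
  Matrix.fromBlocks 1 (Matrix.replicateCol Unit c) 0 1

/-- the inverse of the shear matrix of a vector -/
def shearQ (c : J → k) : Matrix (J ⊕ Unit) (J ⊕ Unit) k :=
  Matrix.fromBlocks 1 (-Matrix.replicateCol Unit c) 0 1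

theorem shearP_mul_shearQ (c : J → k) : shearP c * shearQ c = 1 := by
  rw [shearP, shearQ, Matrix.fromBlocks_multiply]
  simp [Matrix.fromBlocks_one]

theorem shearQ_mul_shearP (c : J → k) : shearQ c * shearP c = 1 := by
  rw [shearP, shearQ, Matrix.fromBlocks_multiply]
  simp [Matrix.fromBlocks_one]

/-- the column of a vector with constant entries -/
def colA (A : Type u) [CommRing A] [Algebra k A] (c : J → k) : Matrix J Unit A :=
  (Matrix.replicateCol Unit c).map (algebraMap k A)

theorem shear_conj (a : Matrix J J A) (c : J → k) :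
    (shearP c).map (algebraMap k A) *
        Matrix.fromBlocks a (0 : Matrix J Unit A) (0 : Matrix Unit J A) (1 : Matrix Unit Unit A) *
        (shearQ c).map (algebraMap k A) =
      Matrix.fromBlocks a (colA A c - a * colA A c) 0 1 := by
  have e1 : (1 : Matrix J J k).map (algebraMap k A) = 1 :=
    Matrix.map_one _ (map_zero _) (map_one _)
  have e2 : (1 : Matrix Unit Unit k).map (algebraMap k A) = 1 :=
    Matrix.map_one _ (map_zero _) (map_one _)
  have e3 : (-Matrix.replicateCol Unit c).map (algebraMap k A) = -colA A c := by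
    ext i j
    simp [colA]
  rw [shearP, shearQ, Matrix.fromBlocks_map, Matrix.fromBlocks_map, Matrix.fromBlocks_multiply,
    Matrix.fromBlocks_multiply, e1, e2, e3]
  simp only [Matrix.map_zero _ (map_zero _), Matrix.one_mul, Matrix.mul_one, Matrix.mul_zero,
    Matrix.zero_mul, add_zero, zero_add, Matrix.mul_neg, neg_zero]
  congr 1
  rw [colA]
  abel

/-- the comatrix of the affine action attached to a vector -/
theorem isComatrix_affine {a : Matrix J J A} (ha : IsComatrix (k := k) a) (c : J → k) :
    IsComatrix (k := k) (Matrix.fromBlocks a (colA A c - a * colA A c) (0 : Matrix Unit J A)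
      (1 : Matrix Unit Unit A)) := by
  rw [← shear_conj]
  exact isComatrix_conj (isComatrix_fromBlocks ha) _ _ (shearQ_mul_shearP c) (shearP_mul_shearQ c)

end Comat

end Groth.Agent.Lib.T2H7.GLnSch
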