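import Mathlib
import Groth.Agent.S18975
import Groth.Agent.Lib.T2H7FlatInj
import Groth.Agent.Lib.T2H7GITBC2
import Groth.Agent.Lib.Helper12Submersive2

/-!
Helper library (helper7): descent of geometric quotients along faithfully flat quasi-compact base change.
-/

set_option autoImplicit false
set_option linter.unusedSectionVars false
set_option linter.unusedVariables false
set_option linter.style.haveILetI false
universe u
open CategoryTheory CategoryTheory.Limits AlgebraicGeometry TopologicalSpace Opposite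

namespace Groth.Agent.Lib.T2H7.GQDescent

open Groth.Agent.S18859 (A1 tilde comp_tilde tilde_injective tilde_surjective)
open Groth.Agent.S18975 (tildeO tildeO_injective tildeO_surjective resLE_tildeO generate_resLE_mem)

section cover

variable {Y' Y : Scheme.{u}} (α : Y' ⟶ Y) [Flat α] [Surjective α] [QuasiCompact α] (U : Y.Opens)

/-- functions separate along the restriction of an fpqc cover over an open. -/
theorem cancel_resLE {x y : (U : Scheme.{u}) ⟶ A1.{u}}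
    (h : α.resLE U (α ⁻¹ᵁ U) le_rfl ≫ x = α.resLE U (α ⁻¹ᵁ U) le_rfl ≫ y) : x = y := by
  have hcov := generate_resLE_mem α (Presieve.singleton α) α.singleton_mem_fpqcPrecoverage
    (by rintro S' g ⟨⟩; exact ⟨𝟙 _, Category.id_comp _⟩) U
  have hsh : Presieve.IsSheaf Scheme.fpqcTopology (yoneda.obj A1.{u}) :=
    GrothendieckTopology.Subcanonical.isSheaf_of_isRepresentable _
  have hshf := hsh _ hcov
  rw [← Presieve.isSheafFor_iff_generate] at hshf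
  have hsep := hshf.isSeparatedFor
  rw [Presieve.isSeparatedFor_singleton] at hsep
  exact hsep h

/-- functions descend along the restriction of an fpqc cover over an open. -/
theorem exists_desc_resLE (x : ((α ⁻¹ᵁ U : Y'.Opens) : Scheme.{u}) ⟶ A1.{u})
    (hx : ∀ {Z : Scheme.{u}} (p₁ p₂ : Z ⟶ ((α ⁻¹ᵁ U : Y'.Opens) : Scheme.{u})),
      p₁ ≫ α.resLE U (α ⁻¹ᵁ U) le_rfl = p₂ ≫ α.resLE U (α ⁻¹ᵁ U) le_rfl → p₁ ≫ x = p₂ ≫ x) :
    ∃ t : (U : Scheme.{u}) ⟶ A1.{u}, α.resLE U (α ⁻¹ᵁ U) le_rfl ≫ t = x := by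
  have hcov := generate_resLE_mem α (Presieve.singleton α) α.singleton_mem_fpqcPrecoverage
    (by rintro S' g ⟨⟩; exact ⟨𝟙 _, Category.id_comp _⟩) U
  have hsh : Presieve.IsSheaf Scheme.fpqcTopology (yoneda.obj A1.{u}) :=
    GrothendieckTopology.Subcanonical.isSheaf_of_isRepresentable _
  have hshf := hsh _ hcov
  rw [← Presieve.isSheafFor_iff_generate] at hshf
  rw [Presieve.isSheafFor_singleton] at hshf
  obtain ⟨t, ht, -⟩ := hshf x (fun p₁ p₂ hp => hx p₁ p₂ hp)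
  exact ⟨t, ht⟩

end cover

section main

variable {X Y X' Y' Q Q' : Scheme.{u}} {φ : X ⟶ Y} {α : Y' ⟶ Y} {pr : X' ⟶ X} {φ' : X' ⟶ Y'}
  (hpb : IsPullback pr φ' φ α) [Flat α] [Surjective α] [QuasiCompact α]
  [QuasiCompact φ] [QuasiSeparated φ]
  {σ p : Q ⟶ X} (hσp : σ ≫ φ = p ≫ φ) {σ' p' : Q' ⟶ X'} {gp : Q' ⟶ Q}
  (h1 : σ' ≫ pr = gp ≫ σ) (h2 : p' ≫ pr = gp ≫ p)

include hpb in
theorem preimage_eq (U : Y.Opens) : pr ⁻¹ᵁ (φ ⁻¹ᵁ U) = φ' ⁻¹ᵁ (α ⁻¹ᵁ U) := by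
  rw [← Scheme.Hom.comp_preimage, ← Scheme.Hom.comp_preimage, hpb.w]

include hpb in
/-- injectivity of `O_Y → φ_* O_X` descends. -/
theorem injective_app_of_fpqc
    (hinj' : ∀ U' : Y'.Opens, Function.Injective (φ'.app U').hom) (U : Y.Opens) :
    Function.Injective (φ.app U).hom := by
  intro r₁ r₂ h
  apply tildeO_injective U
  apply cancel_resLE α U
  rw [resLE_tildeO, resLE_tildeO]
  congr 1
  apply hinj' (α ⁻¹ᵁ U)
  apply tildeO_injective (φ' ⁻¹ᵁ (α ⁻¹ᵁ U))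
  have hV : φ' ⁻¹ᵁ (α ⁻¹ᵁ U) ≤ pr ⁻¹ᵁ (φ ⁻¹ᵁ U) := (preimage_eq hpb U).ge
  have key : ∀ r : Γ(Y, U), tildeO (φ' ⁻¹ᵁ (α ⁻¹ᵁ U))
      ((φ'.app (α ⁻¹ᵁ U)).hom ((α.appLE U (α ⁻¹ᵁ U) le_rfl).hom r)) =
      pr.resLE (φ ⁻¹ᵁ U) (φ' ⁻¹ᵁ (α ⁻¹ᵁ U)) hV ≫ tildeO (φ ⁻¹ᵁ U) ((φ.app U).hom r) := by
    intro r
    rw [← Scheme.Hom.appLE_eq_app, ← resLE_tildeO, ← resLE_tildeO, ← Scheme.Hom.appLE_eq_app,
      ← resLE_tildeO, ← Category.assoc, ← Category.assoc]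
    congr 1
    rw [← cancel_mono U.ι]
    simp only [Category.assoc, Scheme.Hom.resLE_comp_ι, Scheme.Hom.resLE_comp_ι_assoc]
    rw [hpb.w]
  rw [key, key, h]

include hpb in
theorem flat_pr : Flat pr := MorphismProperty.of_isPullback (P := @Flat) hpb.flip inferInstance

include hpb in
theorem surjective_pr : Surjective pr :=
  MorphismProperty.of_isPullback (P := @Surjective) hpb.flip inferInstance

include hpb in
theorem quasiCompact_pr : QuasiCompact pr :=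
  MorphismProperty.of_isPullback (P := @QuasiCompact) hpb.flip inferInstance

include hpb in
theorem quasiCompact_phi' : QuasiCompact φ' :=
  MorphismProperty.of_isPullback (P := @QuasiCompact) hpb inferInstance

include hpb in
theorem quasiSeparated_phi' : QuasiSeparated φ' :=
  MorphismProperty.of_isPullback (P := @QuasiSeparated) hpb inferInstance

theorem cancel_resLE' {Y' Y : Scheme.{u}} (α : Y' ⟶ Y) [Flat α] [Surjective α] [QuasiCompact α]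
    (U : Y.Opens) (V' : Y'.Opens) (e : V' = α ⁻¹ᵁ U) {x y : (U : Scheme.{u}) ⟶ A1.{u}}
    (h : α.resLE U V' e.le ≫ x = α.resLE U V' e.le ≫ y) : x = y := by
  subst e
  exact cancel_resLE α U h

include hpb in
/-- the kernel pair step: a function on `α⁻¹U` whose pullback to `X'` comes from `X` is a descent datum. -/
theorem compat_of_pullback (hinj' : ∀ U' : Y'.Opens, Function.Injective (φ'.app U').hom)
    (U : Y.Opens) (F : ((φ ⁻¹ᵁ U : X.Opens) : Scheme.{u}) ⟶ A1.{u})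
    (R' : ((α ⁻¹ᵁ U : Y'.Opens) : Scheme.{u}) ⟶ A1.{u})
    (hV : φ' ⁻¹ᵁ (α ⁻¹ᵁ U) ≤ pr ⁻¹ᵁ (φ ⁻¹ᵁ U))
    (hR' : φ'.resLE (α ⁻¹ᵁ U) (φ' ⁻¹ᵁ (α ⁻¹ᵁ U)) le_rfl ≫ R' =
      pr.resLE (φ ⁻¹ᵁ U) (φ' ⁻¹ᵁ (α ⁻¹ᵁ U)) hV ≫ F)
    {Z : Scheme.{u}} (p₁ p₂ : Z ⟶ ((α ⁻¹ᵁ U : Y'.Opens) : Scheme.{u}))
    (hp : p₁ ≫ α.resLE U (α ⁻¹ᵁ U) le_rfl = p₂ ≫ α.resLE U (α ⁻¹ᵁ U) le_rfl) :
    p₁ ≫ R' = p₂ ≫ R' := by
  haveI := quasiCompact_phi' hpb
  haveI := quasiSeparated_phi' hpb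
  obtain ⟨U', hU'⟩ : ∃ U' : Y'.Opens, U' = α ⁻¹ᵁ U := ⟨_, rfl⟩
  obtain ⟨V, hVdef⟩ : ∃ V : X.Opens, V = φ ⁻¹ᵁ U := ⟨_, rfl⟩
  have hz : (p₁ ≫ (α ⁻¹ᵁ U).ι) ≫ α = (p₂ ≫ (α ⁻¹ᵁ U).ι) ≫ α := by
    have := congrArg (fun m => m ≫ U.ι) hp
    simpa only [Category.assoc, Scheme.Hom.resLE_comp_ι] using this
  let k₁ : pullback α α ⟶ Y' := pullback.fst α α
  let k₂ : pullback α α ⟶ Y' := pullback.snd α α
  have hk : k₁ ≫ α = k₂ ≫ α := pullback.condition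
  let c : Z ⟶ pullback α α := pullback.lift _ _ hz
  have hc1 : c ≫ k₁ = p₁ ≫ (α ⁻¹ᵁ U).ι := pullback.lift_fst _ _ _
  have hc2 : c ≫ k₂ = p₂ ≫ (α ⁻¹ᵁ U).ι := pullback.lift_snd _ _ _
  let K' : (pullback α α).Opens := k₁ ⁻¹ᵁ (α ⁻¹ᵁ U)
  have hK2 : K' ≤ k₂ ⁻¹ᵁ (α ⁻¹ᵁ U) := by
    intro x hx
    change α (k₂ x) ∈ U
    rw [← Scheme.Hom.comp_apply, ← hk, Scheme.Hom.comp_apply]
    exact hx
  let k₁' := k₁.resLE (α ⁻¹ᵁ U) K' le_rfl
  let k₂' := k₂.resLE (α ⁻¹ᵁ U) K' hK2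
  have hcr : Set.range c.base ⊆ Set.range K'.ι.base := by
    rintro _ ⟨z, rfl⟩
    rw [Scheme.Opens.range_ι]
    change k₁ (c z) ∈ α ⁻¹ᵁ U
    rw [← Scheme.Hom.comp_apply, hc1, Scheme.Hom.comp_apply]
    exact (p₁ z).2
  let c' : Z ⟶ (K' : Scheme.{u}) := IsOpenImmersion.lift K'.ι c hcr
  have hc' : c' ≫ K'.ι = c := IsOpenImmersion.lift_fac _ _ _
  have hp1 : p₁ = c' ≫ k₁' := by
    rw [← cancel_mono (α ⁻¹ᵁ U).ι, Category.assoc, Scheme.Hom.resLE_comp_ι, ← Category.assoc, hc',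
      hc1]
  have hp2 : p₂ = c' ≫ k₂' := by
    rw [← cancel_mono (α ⁻¹ᵁ U).ι, Category.assoc, Scheme.Hom.resLE_comp_ι, ← Category.assoc, hc',
      hc2]
  rw [hp1, hp2, Category.assoc, Category.assoc]
  congr 1
  -- the base change of `φ'` to the kernel pair
  let g₁ : pullback φ' k₁ ⟶ X' := pullback.fst φ' k₁
  let q : pullback φ' k₁ ⟶ pullback α α := pullback.snd φ' k₁
  have H₁ : IsPullback g₁ q φ' k₁ := IsPullback.of_hasPullback φ' k₁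
  have hg₂ : (g₁ ≫ pr) ≫ φ = (q ≫ k₂) ≫ α := by
    rw [Category.assoc, hpb.w, ← Category.assoc, H₁.w, Category.assoc, hk, Category.assoc]
  let g₂ : pullback φ' k₁ ⟶ X' := hpb.lift (g₁ ≫ pr) (q ≫ k₂) hg₂
  have hg₂1 : g₂ ≫ pr = g₁ ≫ pr := hpb.lift_fst _ _ _
  have hg₂2 : g₂ ≫ φ' = q ≫ k₂ := hpb.lift_snd _ _ _
  have hLinj : Function.Injective (q.app K').hom :=
    Groth.Agent.Lib.T2H7.FlatInj.injective_app_of_flat_baseChange H₁ hinj' K'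
  let N : (pullback φ' k₁).Opens := q ⁻¹ᵁ K'
  let qN := q.resLE K' N le_rfl
  have hN1 : N ≤ g₁ ⁻¹ᵁ (φ' ⁻¹ᵁ (α ⁻¹ᵁ U)) := by
    intro x hx
    change φ' (g₁ x) ∈ α ⁻¹ᵁ U
    rw [← Scheme.Hom.comp_apply, H₁.w, Scheme.Hom.comp_apply]
    exact hx
  have hN2 : N ≤ g₂ ⁻¹ᵁ (φ' ⁻¹ᵁ (α ⁻¹ᵁ U)) := by
    intro x hx
    change φ' (g₂ x) ∈ α ⁻¹ᵁ U
    rw [← Scheme.Hom.comp_apply, hg₂2, Scheme.Hom.comp_apply]
    exact hK2 hx
  let g₁' := g₁.resLE (φ' ⁻¹ᵁ (α ⁻¹ᵁ U)) N hN1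
  let g₂' := g₂.resLE (φ' ⁻¹ᵁ (α ⁻¹ᵁ U)) N hN2
  have e1 : qN ≫ k₁' = g₁' ≫ φ'.resLE (α ⁻¹ᵁ U) (φ' ⁻¹ᵁ (α ⁻¹ᵁ U)) le_rfl := by
    rw [← cancel_mono (α ⁻¹ᵁ U).ι]
    simp only [qN, k₁', g₁', Category.assoc, Scheme.Hom.resLE_comp_ι, Scheme.Hom.resLE_comp_ι_assoc]
    rw [H₁.w]
  have e2 : qN ≫ k₂' = g₂' ≫ φ'.resLE (α ⁻¹ᵁ U) (φ' ⁻¹ᵁ (α ⁻¹ᵁ U)) le_rfl := by
    rw [← cancel_mono (α ⁻¹ᵁ U).ι]
    simp only [qN, k₂', g₂', Category.assoc, Scheme.Hom.resLE_comp_ι, Scheme.Hom.resLE_comp_ι_assoc]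
    rw [hg₂2]
  have e3 : g₁' ≫ pr.resLE (φ ⁻¹ᵁ U) (φ' ⁻¹ᵁ (α ⁻¹ᵁ U)) hV =
      g₂' ≫ pr.resLE (φ ⁻¹ᵁ U) (φ' ⁻¹ᵁ (α ⁻¹ᵁ U)) hV := by
    rw [← cancel_mono (φ ⁻¹ᵁ U).ι]
    simp only [g₁', g₂', Category.assoc, Scheme.Hom.resLE_comp_ι, Scheme.Hom.resLE_comp_ι_assoc]
    rw [hg₂1]
  have e4 : qN ≫ (k₁' ≫ R') = qN ≫ (k₂' ≫ R') := by
    rw [← Category.assoc, e1, Category.assoc, hR', ← Category.assoc, e3, Category.assoc, ← hR',
      ← Category.assoc, ← e2, Category.assoc]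
  -- cancel `qN`
  obtain ⟨s₁, hs₁⟩ := tildeO_surjective K' (k₁' ≫ R')
  obtain ⟨s₂, hs₂⟩ := tildeO_surjective K' (k₂' ≫ R')
  rw [← hs₁, ← hs₂] at e4 ⊢
  rw [resLE_tildeO, resLE_tildeO] at e4
  have e5 := tildeO_injective N e4
  rw [Scheme.Hom.appLE_eq_app] at e5
  rw [hLinj e5]

include hpb hσp h1 h2 in
/-- the invariant sections descend: if `O_{Y'} → (φ'_* O_{X'})^{inv}` is bijective over every open,
then so is `O_Y → (φ_* O_X)^{inv}`. -/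
theorem mem_range_iff_of_fpqc
    (hinj' : ∀ U' : Y'.Opens, Function.Injective (φ'.app U').hom)
    (hrange' : ∀ (U' : Y'.Opens) (f' : Γ(X', φ' ⁻¹ᵁ U')),
      (σ'.appLE (φ' ⁻¹ᵁ U') (σ' ⁻¹ᵁ (φ' ⁻¹ᵁ U') ⊓ p' ⁻¹ᵁ (φ' ⁻¹ᵁ U')) inf_le_left).hom f' =
        (p'.appLE (φ' ⁻¹ᵁ U') (σ' ⁻¹ᵁ (φ' ⁻¹ᵁ U') ⊓ p' ⁻¹ᵁ (φ' ⁻¹ᵁ U')) inf_le_right).hom f' →
      f' ∈ Set.range (φ'.app U').hom)
    (U : Y.Opens) : ∀ f : Γ(X, φ ⁻¹ᵁ U),
    f ∈ Set.range (φ.app U).hom ↔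
      (σ.appLE (φ ⁻¹ᵁ U) (σ ⁻¹ᵁ (φ ⁻¹ᵁ U) ⊓ p ⁻¹ᵁ (φ ⁻¹ᵁ U)) inf_le_left).hom f =
        (p.appLE (φ ⁻¹ᵁ U) (σ ⁻¹ᵁ (φ ⁻¹ᵁ U) ⊓ p ⁻¹ᵁ (φ ⁻¹ᵁ U)) inf_le_right).hom f := by
  set V := φ ⁻¹ᵁ U with hVdef
  set W := σ ⁻¹ᵁ V ⊓ p ⁻¹ᵁ V with hWdef
  set ψ := φ.resLE U V le_rfl with hψ
  have happ : ∀ r : Γ(Y, U), ψ ≫ tildeO U r = tildeO V ((φ.app U).hom r) := by
    intro r
    rw [hψ, resLE_tildeO, Scheme.Hom.appLE_eq_app]
  intro f
  rw [← (tildeO_injective W).eq_iff, ← resLE_tildeO, ← resLE_tildeO]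
  constructor
  · rintro ⟨r, rfl⟩
    rw [← happ, ← Category.assoc, ← Category.assoc]
    congr 1
    rw [← cancel_mono U.ι]
    simp only [Category.assoc, hψ, Scheme.Hom.resLE_comp_ι]
    have e1 : σ.resLE V W inf_le_left ≫ V.ι ≫ φ = W.ι ≫ σ ≫ φ :=
      Scheme.Hom.resLE_comp_ι_assoc σ _ φ
    have e2 : p.resLE V W inf_le_right ≫ V.ι ≫ φ = W.ι ≫ p ≫ φ :=
      Scheme.Hom.resLE_comp_ι_assoc p _ φ
    rw [hσp] at e1
    exact e1.trans e2.symm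
  · intro hs
    set F := tildeO V f with hF
    set U' := α ⁻¹ᵁ U with hU'
    set V' := φ' ⁻¹ᵁ U' with hV'
    set W' := σ' ⁻¹ᵁ V' ⊓ p' ⁻¹ᵁ V' with hW'
    have hVV : V' ≤ pr ⁻¹ᵁ V := (preimage_eq hpb U).ge
    have hWW : W' ≤ gp ⁻¹ᵁ W := by
      rintro x ⟨hx1, hx2⟩
      constructor
      · change σ (gp x) ∈ V
        rw [← Scheme.Hom.comp_apply, ← h1, Scheme.Hom.comp_apply]
        exact hVV hx1
      · change p (gp x) ∈ V
        rw [← Scheme.Hom.comp_apply, ← h2, Scheme.Hom.comp_apply]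
        exact hVV hx2
    have e1 : σ'.resLE V' W' inf_le_left ≫ pr.resLE V V' hVV =
        gp.resLE W W' hWW ≫ σ.resLE V W inf_le_left := by
      rw [← cancel_mono V.ι]
      simp only [Category.assoc, Scheme.Hom.resLE_comp_ι, Scheme.Hom.resLE_comp_ι_assoc]
      rw [h1]
    have e2 : p'.resLE V' W' inf_le_right ≫ pr.resLE V V' hVV =
        gp.resLE W W' hWW ≫ p.resLE V W inf_le_right := by
      rw [← cancel_mono V.ι]
      simp only [Category.assoc, Scheme.Hom.resLE_comp_ι, Scheme.Hom.resLE_comp_ι_assoc]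
      rw [h2]
    -- the pulled back section is invariant
    have hinvf' : (σ'.appLE V' W' inf_le_left).hom ((pr.appLE V V' hVV).hom f) =
        (p'.appLE V' W' inf_le_right).hom ((pr.appLE V V' hVV).hom f) := by
      apply tildeO_injective W'
      rw [← resLE_tildeO, ← resLE_tildeO, ← resLE_tildeO, ← resLE_tildeO, ← Category.assoc,
        ← Category.assoc, e1, e2, Category.assoc, Category.assoc, hs]
    obtain ⟨r', hr'⟩ := hrange' U' _ hinvf'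
    have hR' : φ'.resLE U' V' le_rfl ≫ tildeO U' r' = pr.resLE V V' hVV ≫ F := by
      rw [resLE_tildeO, Scheme.Hom.appLE_eq_app, hr', hF, resLE_tildeO]
    obtain ⟨t, ht⟩ := exists_desc_resLE α U (tildeO U' r')
      (fun p₁ p₂ hp => compat_of_pullback hpb hinj' U F (tildeO U' r') hVV hR' p₁ p₂ hp)
    obtain ⟨r, rfl⟩ := tildeO_surjective U t
    refine ⟨r, ?_⟩
    apply tildeO_injective V
    rw [← happ]
    haveI := flat_pr hpb
    haveI := surjective_pr hpb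
    haveI := quasiCompact_pr hpb
    apply cancel_resLE' pr V V' (preimage_eq hpb U).symm
    have e3 : pr.resLE V V' (preimage_eq hpb U).symm.le ≫ ψ =
        φ'.resLE U' V' le_rfl ≫ α.resLE U U' le_rfl := by
      rw [← cancel_mono U.ι]
      simp only [hψ, Category.assoc, Scheme.Hom.resLE_comp_ι, Scheme.Hom.resLE_comp_ι_assoc]
      rw [hpb.w]
    rw [← Category.assoc, e3, Category.assoc, ht, hR']

end main

section overS

open MonoidalCategory CartesianMonoidalCategory MonObj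
open Groth.Agent.Lib.Helper12.Submersive

variable {S : Scheme.{u}} {G : Over S} [GrpObj G] {X Y X' Y' : Over S}
  (a : AlgGrp.Action G X) {φ : X ⟶ Y} (hinv : GIT.IsInvariant a φ)
  {α : Y' ⟶ Y} [Flat α.left] [Surjective α.left] [QuasiCompact α.left]
  [QuasiCompact φ.left] [QuasiSeparated φ.left]
  {pr : X' ⟶ X} {φ' : X' ⟶ Y'} (hpb : IsPullback pr φ' φ α)
  (a' : AlgGrp.Action G X') (heq : a'.act ≫ pr = (G ◁ pr) ≫ a.act) (hinv' : GIT.IsInvariant a' φ')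

include hinv hpb heq hinv' in
/-- geometric quotients descend along faithfully flat quasi-compact base change. -/
theorem isGeomQuot_of_fpqc (h : GIT.IsGeomQuot a' φ') : GIT.IsGeomQuot a φ := by
  have hpbL : IsPullback pr.left φ'.left φ.left α.left := hpb.map (Over.forget S)
  have h1 : a'.act.left ≫ pr.left = (G ◁ pr).left ≫ a.act.left := by
    rw [← Over.comp_left, ← Over.comp_left, heq]
  have h2 : (snd G X').left ≫ pr.left = (G ◁ pr).left ≫ (snd G X).left := by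
    rw [← Over.comp_left, ← Over.comp_left, whiskerLeft_snd]
  refine ⟨hinv, ?_, ?_, ?_, ?_⟩
  · -- surjectivity
    intro y
    obtain ⟨y', rfl⟩ := α.left.surjective y
    obtain ⟨x', rfl⟩ := h.surj y'
    refine ⟨pr.left x', ?_⟩
    rw [← Scheme.Hom.comp_apply, hpbL.w, Scheme.Hom.comp_apply]
  · -- orbits
    intro z
    have hP := Groth.Agent.Lib.T2H7.GITBC.isPullback_PsiY a hinv hpb a' heq hinv'
    have hM := Groth.Agent.Lib.T2H7.GITBC.isPullback_pullbackMap hpbL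
    have hMs : Surjective (pullback.map φ'.left φ'.left φ.left φ.left pr.left pr.left α.left
        hpbL.w.symm hpbL.w.symm) :=
      MorphismProperty.of_isPullback (P := @Surjective) hM.flip inferInstance
    obtain ⟨z', rfl⟩ := hMs.surj z
    obtain ⟨w', rfl⟩ := h.orbit z'
    refine ⟨(G ◁ pr).left w', ?_⟩
    rw [← Scheme.Hom.comp_apply, ← Scheme.Hom.comp_apply, hP.w]
  · -- universally submersive
    have hα : US α.left := us_of_flat α.left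
    have hφ' : US φ'.left := h.subm
    have hc : US (φ'.left ≫ α.left) := MorphismProperty.comp_mem _ _ _ hφ' hα
    rw [← hpbL.w] at hc
    exact us_of_comp pr.left φ.left hc
  · -- sections
    intro U
    have hinj' : ∀ U' : Y'.left.Opens, Function.Injective (φ'.left.app U').hom :=
      fun U' => (h.sections U').1
    have hrange' : ∀ (U' : Y'.left.Opens) (f' : Γ(X'.left, φ'.left ⁻¹ᵁ U')),
        (a'.act.left.appLE (φ'.left ⁻¹ᵁ U')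
          (a'.act.left ⁻¹ᵁ (φ'.left ⁻¹ᵁ U') ⊓ (snd G X').left ⁻¹ᵁ (φ'.left ⁻¹ᵁ U')) inf_le_left).hom f' =
        ((snd G X').left.appLE (φ'.left ⁻¹ᵁ U')
          (a'.act.left ⁻¹ᵁ (φ'.left ⁻¹ᵁ U') ⊓ (snd G X').left ⁻¹ᵁ (φ'.left ⁻¹ᵁ U')) inf_le_right).hom f' →
        f' ∈ Set.range (φ'.left.app U').hom := by
      intro U' f' hf'
      have := (h.sections U').2
      have hmem : f' ∈ {f | GIT.IsInvSection a' φ' U' f} := hf'
      rw [← this] at hmem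
      exact hmem
    refine ⟨injective_app_of_fpqc hpbL hinj' U, ?_⟩
    ext f
    exact mem_range_iff_of_fpqc hpbL hinv.left h1 h2 hinj' hrange' U f

end overS

end Groth.Agent.Lib.T2H7.GQDescent
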