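import Mathlib
import Groth.Agent.Lib.T2H7GQDescent

/-!
Helper library (helper7): descent of universal geometric quotients along faithfully flat quasi-compact base change.
-/

set_option autoImplicit false
set_option linter.unusedSectionVars false
set_option linter.unusedVariables false
set_option linter.style.haveILetI false
universe u
open CategoryTheory CategoryTheory.Limits AlgebraicGeometry TopologicalSpace Opposite
open MonoidalCategory CartesianMonoidalCategory MonObj

namespace Groth.Agent.Lib.T2H7.GQDescent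

open Groth.Agent.Lib.T2H7.GITBC

variable {S : Scheme.{u}} {G : Over S} [GrpObj G] {X Y X' Y' : Over S}
  (a : AlgGrp.Action G X) {φ : X ⟶ Y} (hinv : GIT.IsInvariant a φ)
  {α : Y' ⟶ Y} [Flat α.left] [Surjective α.left] [QuasiCompact α.left]
  [QuasiCompact φ.left] [QuasiSeparated φ.left]
  {pr : X' ⟶ X} {φ' : X' ⟶ Y'} (hpb : IsPullback pr φ' φ α)
  (a' : AlgGrp.Action G X') (heq : a'.act ≫ pr = (G ◁ pr) ≫ a.act) (hinv' : GIT.IsInvariant a' φ')

include hinv hpb heq hinv' in
/-- universal geometric quotients descend along faithfully flat quasi-compact base change. -/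
theorem isUnivGeomQuot_of_fpqc (h : GIT.IsUnivGeomQuot a' φ') : GIT.IsUnivGeomQuot a φ := by
  refine ⟨isGeomQuot_of_fpqc a hinv hpb a' heq hinv' h.1, ?_⟩
  intro X₂ Z pr₂ φ₂ g _ hpb₂ a₂ hc₂ hinv₂
  -- the base change of `α` to `Z`
  let β : pullback g α ⟶ Z := pullback.fst g α
  let g' : pullback g α ⟶ Y' := pullback.snd g α
  have hZ : IsPullback β g' g α := IsPullback.of_hasPullback g α
  have hZL : IsPullback β.left g'.left g.left α.left := hZ.map (Over.forget S)
  haveI : Flat β.left := MorphismProperty.of_isPullback (P := @Flat) hZL.flip inferInstance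
  haveI : Surjective β.left := MorphismProperty.of_isPullback (P := @Surjective) hZL.flip inferInstance
  haveI : QuasiCompact β.left :=
    MorphismProperty.of_isPullback (P := @QuasiCompact) hZL.flip inferInstance
  have hpb₂L : IsPullback pr₂.left φ₂.left φ.left g.left := hpb₂.map (Over.forget S)
  haveI : QuasiCompact φ₂.left :=
    MorphismProperty.of_isPullback (P := @QuasiCompact) hpb₂L inferInstance
  haveI : QuasiSeparated φ₂.left :=
    MorphismProperty.of_isPullback (P := @QuasiSeparated) hpb₂L inferInstance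
  -- the base change of `φ₂` to `Z'`
  let pr₃ : pullback φ₂ β ⟶ X₂ := pullback.fst φ₂ β
  let φ₃ : pullback φ₂ β ⟶ pullback g α := pullback.snd φ₂ β
  have hpb₃ : IsPullback pr₃ φ₃ φ₂ β := IsPullback.of_hasPullback φ₂ β
  let a₃ : AlgGrp.Action G (pullback φ₂ β) := bcAct a₂ hinv₂ hpb₃
  have hc₃ : a₃.act ≫ pr₃ = (G ◁ pr₃) ≫ a₂.act := bcAct_compat a₂ hinv₂ hpb₃
  have hinv₃ : GIT.IsInvariant a₃ φ₃ := bcAct_isInvariant a₂ hinv₂ hpb₃
  refine isGeomQuot_of_fpqc a₂ hinv₂ hpb₃ a₃ hc₃ hinv₃ ?_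
  -- `X₃` is also a base change of `X'`
  have hq : (pr₃ ≫ pr₂) ≫ φ = (φ₃ ≫ g') ≫ α := by
    rw [Category.assoc, hpb₂.w, ← Category.assoc, hpb₃.w, Category.assoc, hZ.w, Category.assoc]
  let q : pullback φ₂ β ⟶ X' := hpb.lift (pr₃ ≫ pr₂) (φ₃ ≫ g') hq
  have hq1 : q ≫ pr = pr₃ ≫ pr₂ := hpb.lift_fst _ _ _
  have hq2 : q ≫ φ' = φ₃ ≫ g' := hpb.lift_snd _ _ _
  have hbig : IsPullback (q ≫ pr) φ₃ φ (g' ≫ α) := by
    rw [hq1, ← hZ.w]
    exact hpb₃.paste_horiz hpb₂
  have hpbq : IsPullback q φ₃ φ' g' := IsPullback.of_right hbig hq2 hpb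
  have hinv₃' : a₃.act ≫ φ₃ = snd G _ ≫ φ₃ := hinv₃
  have hinv'' : a'.act ≫ φ' = snd G _ ≫ φ' := hinv'
  have hcq : a₃.act ≫ q = (G ◁ q) ≫ a'.act := by
    apply hpb.hom_ext
    · simp only [Category.assoc]
      rw [hq1, ← Category.assoc, hc₃, heq, ← MonoidalCategory.whiskerLeft_comp_assoc, hq1,
        MonoidalCategory.whiskerLeft_comp]
      simp only [Category.assoc]
      rw [hc₂]
    · simp only [Category.assoc]
      rw [hq2, ← Category.assoc, hinv₃', hinv'', whiskerLeft_snd_assoc, hq2]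
      simp only [Category.assoc]
  exact h.2 q φ₃ g' trivial hpbq a₃ hcq hinv₃

end Groth.Agent.Lib.T2H7.GQDescent
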