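import Groth.Agent.Lib.Helper4NormGlobal
import Groth.Agent.Lib.Helper4FEtNormal

set_option autoImplicit false
set_option linter.style.haveILetI false
universe u

open AlgebraicGeometry CategoryTheory Groth.Agent.Lib.Helper4.NormCurve

namespace Groth.Agent.Lib.T2H9.NormFF

/-- Sections of a normal integral scheme over a nonempty open are integrally closed in the
function field. -/
theorem exists_section_of_isIntegralElem {Z : Scheme.{u}} [IsIntegral Z]
    (hZ : Pi1.IsNormalScheme Z) (V : Z.Opens) [hV : Nonempty V] (x : Z.functionField)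
    (hx : (Z.germToFunctionField V).hom.IsIntegralElem x) :
    ∃ s : Γ(Z, V), (Z.germToFunctionField V).hom s = x := by
  -- local sections over the nonempty affine opens inside `V`
  have hloc : ∀ W : Z.Opens, IsAffineOpen W → W ≤ V → ∀ hW : Nonempty W,
      ∃ s : Γ(Z, W), (Z.germToFunctionField W).hom s = x := by
    intro W hWa hWV hW
    haveI : IsDomain Γ(Z, W) := IsIntegral.component_integral W
    haveI := Groth.Agent.Lib.Helper4.NormIso.isIntegrallyClosed_sections hZ W hWa
    haveI := functionField_isFractionRing_of_isAffineOpen Z W hWa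
    have hx' : IsIntegral Γ(Z, W) x := by
      obtain ⟨p, hp, hpx⟩ := hx
      refine ⟨p.map (Z.presheaf.map (homOfLE hWV).op).hom, hp.map _, ?_⟩
      rw [Polynomial.eval₂_map]
      have : (algebraMap Γ(Z, W) Z.functionField).comp (Z.presheaf.map (homOfLE hWV).op).hom =
          (Z.germToFunctionField V).hom := by
        change (Z.germToFunctionField W).hom.comp (Z.presheaf.map (homOfLE hWV).op).hom = _
        rw [← CommRingCat.hom_comp]
        exact congrArg CommRingCat.Hom.hom (Z.presheaf.germ_res (homOfLE hWV) _ _)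
      rw [this]
      exact hpx
    exact (IsIntegrallyClosed.isIntegral_iff (R := Γ(Z, W)) (K := Z.functionField)).mp hx'
  -- glue
  let ι := {W : Z.affineOpens // W.1 ≤ V ∧ Nonempty W.1}
  let U : ι → Z.Opens := fun W => W.1.1
  choose! sf hsf using fun W : ι => hloc W.1.1 W.1.2 W.2.1 W.2.2
  have hcompat : TopCat.Presheaf.IsCompatible Z.presheaf U sf := by
    intro i j
    by_cases hij : Nonempty (U i ⊓ U j : Z.Opens)
    · apply Z.germToFunctionField_injective (U i ⊓ U j)
      haveI := i.2.2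
      haveI := j.2.2
      have h1 : (Z.germToFunctionField (U i ⊓ U j)).hom
          ((Z.presheaf.map (TopologicalSpace.Opens.infLELeft (U i) (U j)).op).hom (sf i)) =
          (Z.germToFunctionField (U i)).hom (sf i) := by
        rw [← CommRingCat.comp_apply, Z.presheaf.germ_res]
      have h2 : (Z.germToFunctionField (U i ⊓ U j)).hom
          ((Z.presheaf.map (TopologicalSpace.Opens.infLERight (U i) (U j)).op).hom (sf j)) =
          (Z.germToFunctionField (U j)).hom (sf j) := by
        rw [← CommRingCat.comp_apply, Z.presheaf.germ_res]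
      exact h1.trans ((hsf i).trans ((hsf j).symm.trans h2.symm))
    · have h0 : U i ⊓ U j = ⊥ := by
        ext y
        simp only [TopologicalSpace.Opens.coe_bot, Set.mem_empty_iff_false, iff_false]
        exact fun hy => hij ⟨⟨y, hy⟩⟩
      haveI : Subsingleton Γ(Z, U i ⊓ U j) := by
        rw [h0]; infer_instance
      exact Subsingleton.elim _ _
  have hcover : V ≤ iSup U := by
    intro y hy
    obtain ⟨_, ⟨W, hW, rfl⟩, hyW, hWV⟩ := Z.isBasis_affineOpens.exists_subset_of_mem_open
      hy V.isOpen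
    exact TopologicalSpace.Opens.mem_iSup.mpr ⟨⟨⟨W, hW⟩, hWV, ⟨⟨y, hyW⟩⟩⟩, hyW⟩
  obtain ⟨s, hs, -⟩ := Z.sheaf.existsUnique_gluing' U V (fun i => homOfLE i.2.1) hcover sf hcompat
  refine ⟨s, ?_⟩
  obtain ⟨y, hy⟩ : ∃ y, y ∈ V := ⟨hV.some.1, hV.some.2⟩
  obtain ⟨_, ⟨W, hW, rfl⟩, hyW, hWV⟩ := Z.isBasis_affineOpens.exists_subset_of_mem_open
    hy V.isOpen
  let i : ι := ⟨⟨W, hW⟩, hWV, ⟨⟨_, hyW⟩⟩⟩
  haveI := i.2.2
  have h3 := hs i
  have h4 : (Z.germToFunctionField W).hom
      ((Z.presheaf.map (homOfLE hWV : W ⟶ V).op).hom s) =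
      (Z.germToFunctionField V).hom s :=
    Z.presheaf.germ_res_apply (homOfLE hWV) _ _ s
  exact h4.symm.trans ((congrArg (Z.germToFunctionField W).hom h3).trans (hsf i))

theorem isIntegralElem_of_comp {A B C : Type*} [CommRing A] [CommRing B] [CommRing C]
    (f : A →+* B) (g : B →+* C) (x : C) (hx : (g.comp f).IsIntegralElem x) :
    g.IsIntegralElem x := by
  obtain ⟨p, hp, hpx⟩ := hx
  exact ⟨p.map f, hp.map _, by rw [Polynomial.eval₂_map]; exact hpx⟩

theorem isIntegralElem_of_injective {A B C : Type*} [CommRing A] [CommRing B] [CommRing C]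
    (f : A →+* B) (g : B →+* C) (hg : Function.Injective g) (x : B)
    (hx : (g.comp f).IsIntegralElem (g x)) : f.IsIntegralElem x := by
  obtain ⟨p, hp, hpx⟩ := hx
  refine ⟨p, hp, hg ?_⟩
  rw [map_zero, Polynomial.hom_eval₂]
  exact hpx

/-- The key properties of the sections of `Spec K(Z) ⟶ Z`. -/
theorem gen_appLE_closed {Z : Scheme.{u}} [IsIntegral Z] (hZ : Pi1.IsNormalScheme Z)
    (η : Spec (CommRingCat.of Z.functionField) ⟶ Z)
    (hη : η = gen Z Z.functionField (RingHom.id _))
    (V : Z.Opens) (W : (Spec (CommRingCat.of Z.functionField)).Opens) (hW : W = η ⁻¹ᵁ V) :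
    Function.Injective (η.appLE V W hW.le).hom ∧
      ∀ x, (η.appLE V W hW.le).hom.IsIntegralElem x → x ∈ Set.range (η.appLE V W hW.le).hom := by
  subst hη
  subst hW
  by_cases hV : Nonempty V
  · have happ : (gen Z Z.functionField (RingHom.id _)).appLE V
        ((gen Z Z.functionField (RingHom.id _)) ⁻¹ᵁ V) le_rfl =
        (gen Z Z.functionField (RingHom.id _)).app V := (Scheme.Hom.app_eq_appLE _).symm
    rw [happ]
    refine ⟨gen_app_injective _ _ V, fun x hx => ?_⟩
    have hg := gen_app Z.functionField (RingHom.id _) V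
    set σ := sectionsIso Z.functionField (RingHom.id Z.functionField) V with hσ
    have hcomp : ((gen Z Z.functionField (RingHom.id _)).app V).hom =
        σ.hom.hom.comp (Z.germToFunctionField V).hom := by
      rw [hg]; rfl
    have hy : (Z.germToFunctionField V).hom.IsIntegralElem (σ.inv.hom x) := by
      obtain ⟨p, hp, hpx⟩ := hx
      refine ⟨p, hp, ?_⟩
      have h1 := congrArg σ.inv.hom hpx
      rw [map_zero, Polynomial.hom_eval₂, hcomp] at h1
      have h2 : σ.inv.hom.comp (σ.hom.hom.comp (Z.germToFunctionField V).hom) =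
          (Z.germToFunctionField V).hom := by
        ext a
        change (σ.hom ≫ σ.inv) ((Z.germToFunctionField V).hom a) = _
        rw [Iso.hom_inv_id]; rfl
      rw [h2] at h1
      exact h1
    obtain ⟨s, hs⟩ := exists_section_of_isIntegralElem hZ V _ hy
    refine ⟨s, ?_⟩
    rw [hcomp]
    change σ.hom.hom ((Z.germToFunctionField V).hom s) = x
    rw [hs]
    change (σ.inv ≫ σ.hom) x = x
    rw [Iso.inv_hom_id]; rfl
  · have hV0 : V = ⊥ := by
      ext y
      simp only [TopologicalSpace.Opens.coe_bot, Set.mem_empty_iff_false, iff_false]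
      exact fun hy => hV ⟨⟨y, hy⟩⟩
    subst hV0
    haveI : Subsingleton Γ(Z, (⊥ : Z.Opens)) := inferInstance
    have hbot : (gen Z Z.functionField (RingHom.id _)) ⁻¹ᵁ (⊥ : Z.Opens) = ⊥ := rfl
    haveI : Subsingleton Γ(Spec (CommRingCat.of Z.functionField),
        (gen Z Z.functionField (RingHom.id _)) ⁻¹ᵁ (⊥ : Z.Opens)) := by
      rw [hbot]; infer_instance
    exact ⟨fun a b _ => Subsingleton.elim _ _, fun x _ => ⟨0, Subsingleton.elim _ _⟩⟩

theorem isIntegralElem_trans {A B C : Type*} [CommRing A] [CommRing B] [CommRing C]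
    (f : A →+* B) (g : B →+* C) (hf : f.IsIntegral) (x : C) (hx : g.IsIntegralElem x) :
    (g.comp f).IsIntegralElem x := by
  letI := f.toAlgebra
  letI := g.toAlgebra
  letI := (g.comp f).toAlgebra
  haveI : IsScalarTower A B C := IsScalarTower.of_algebraMap_eq' rfl
  haveI : Algebra.IsIntegral A B := ⟨hf⟩
  exact isIntegral_trans (R := A) (A := B) x hx

/-- Transport of the relative normalization along an equality of morphisms. -/
theorem exists_iso_normalization_of_eq {X Y : Scheme.{u}} (f₁ f₂ : X ⟶ Y) (h : f₁ = f₂)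
    [QuasiCompact f₁] [QuasiSeparated f₁] [QuasiCompact f₂] [QuasiSeparated f₂] :
    ∃ e : f₁.normalization ≅ f₂.normalization,
      e.hom ≫ f₂.fromNormalization = f₁.fromNormalization ∧
      f₁.toNormalization ≫ e.hom = f₂.toNormalization := by
  subst h
  exact ⟨Iso.refl _, by simp, by simp⟩

section T

variable {Z X : Scheme.{u}} (g : Z ⟶ X) [QuasiCompact g] [QuasiSeparated g]

theorem toNormalization_preimage (U : X.Opens) :
    g.toNormalization ⁻¹ᵁ (g.fromNormalization ⁻¹ᵁ U) = g ⁻¹ᵁ U := by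
  rw [← Scheme.Hom.comp_preimage, Scheme.Hom.toNormalization_fromNormalization]

theorem toNormalization_appLE_injective (U : X.Opens) (hU : IsAffineOpen U) :
    Function.Injective (g.toNormalization.appLE (g.fromNormalization ⁻¹ᵁ U) (g ⁻¹ᵁ U)
      (toNormalization_preimage g U).ge).hom := by
  letI := (g.app U).hom.toAlgebra
  have h := g.normalizationObjIso_hom_val hU
  have h1 : Function.Injective (g.normalizationObjIso hU).hom.hom :=
    (ConcreteCategory.bijective_of_isIso (g.normalizationObjIso hU).hom).injective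
  intro a b hab
  apply h1
  apply Subtype.val_injective
  have h2 : ∀ c, ((g.normalizationObjIso hU).hom.hom c).1 =
      (g.toNormalization.appLE (g.fromNormalization ⁻¹ᵁ U) (g ⁻¹ᵁ U)
      (toNormalization_preimage g U).ge).hom c := fun c => by
    rw [← h]; rfl
  rw [h2, h2, hab]

theorem mem_range_toNormalization_appLE (U : X.Opens) (hU : IsAffineOpen U) (s : Γ(Z, g ⁻¹ᵁ U))
    (hs : (g.app U).hom.IsIntegralElem s) :
    s ∈ Set.range (g.toNormalization.appLE (g.fromNormalization ⁻¹ᵁ U) (g ⁻¹ᵁ U)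
      (toNormalization_preimage g U).ge).hom := by
  letI := (g.app U).hom.toAlgebra
  have h := g.normalizationObjIso_hom_val hU
  have hs' : s ∈ integralClosure Γ(X, U) Γ(Z, g ⁻¹ᵁ U) := hs
  refine ⟨(g.normalizationObjIso hU).inv.hom ⟨s, hs'⟩, ?_⟩
  rw [← h]
  change ((g.normalizationObjIso hU).hom.hom ((g.normalizationObjIso hU).inv.hom ⟨s, hs'⟩)).1 = s
  have : (g.normalizationObjIso hU).hom.hom ((g.normalizationObjIso hU).inv.hom ⟨s, hs'⟩) =
      ⟨s, hs'⟩ := by
    change ((g.normalizationObjIso hU).inv ≫ (g.normalizationObjIso hU).hom) ⟨s, hs'⟩ = _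
    rw [Iso.inv_hom_id]; rfl
  rw [this]

theorem toNormalization_appLE_comp (U : X.Opens) :
    g.fromNormalization.app U ≫ g.toNormalization.appLE (g.fromNormalization ⁻¹ᵁ U) (g ⁻¹ᵁ U)
      (toNormalization_preimage g U).ge = g.app U := by
  rw [Scheme.Hom.app_eq_appLE, Scheme.Hom.appLE_comp_appLE,
    Groth.Agent.Lib.Helper4.NormIso.appLE_congr_hom g.toNormalization_fromNormalization,
    ← Scheme.Hom.app_eq_appLE]

end T

section L1

variable {Z X : Scheme.{u}} [IsIntegral Z] (g : Z ⟶ X) [QuasiCompact g] [QuasiSeparated g]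

theorem criterion (hZ : Pi1.IsNormalScheme Z) (U : X.Opens) (hU : IsAffineOpen U) :
    Function.Injective ((Z.fromSpecStalk (genericPoint Z) ≫ g.toNormalization).app
        (g.fromNormalization ⁻¹ᵁ U)).hom ∧
      ∀ x, ((Z.fromSpecStalk (genericPoint Z) ≫ g.toNormalization).app
        (g.fromNormalization ⁻¹ᵁ U)).hom.IsIntegralElem x →
        x ∈ Set.range ((Z.fromSpecStalk (genericPoint Z) ≫ g.toNormalization).app
        (g.fromNormalization ⁻¹ᵁ U)).hom := by
  set η := Z.fromSpecStalk (genericPoint Z) with hη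
  set τ := g.toNormalization with hτ
  set ν := g.fromNormalization with hν
  have hW : (η ≫ τ) ⁻¹ᵁ (ν ⁻¹ᵁ U) = η ⁻¹ᵁ (g ⁻¹ᵁ U) := by
    rw [Scheme.Hom.comp_preimage, toNormalization_preimage]
  obtain ⟨hE1, hE2⟩ := gen_appLE_closed hZ η fromSpecStalk_eq_gen (g ⁻¹ᵁ U) _ hW
  have hT1 := toNormalization_appLE_injective g U hU
  have hT2 := mem_range_toNormalization_appLE g U hU
  have hT3 := toNormalization_appLE_comp g U
  set τa := τ.appLE (ν ⁻¹ᵁ U) (g ⁻¹ᵁ U) (toNormalization_preimage g U).ge with hτa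
  set ηa := η.appLE (g ⁻¹ᵁ U) ((η ≫ τ) ⁻¹ᵁ (ν ⁻¹ᵁ U)) hW.le with hηa
  have hfac : (η ≫ τ).app (ν ⁻¹ᵁ U) = τa ≫ ηa := by
    rw [Scheme.Hom.app_eq_appLE, hτa, hηa, Scheme.Hom.appLE_comp_appLE]
  have hfac' : ((η ≫ τ).app (ν ⁻¹ᵁ U)).hom = ηa.hom.comp τa.hom := by
    rw [hfac]; rfl
  rw [hfac']
  refine ⟨hE1.comp hT1, fun x hx => ?_⟩
  obtain ⟨s, rfl⟩ := hE2 x (isIntegralElem_of_comp _ _ x hx)
  have hint : (ν.app U).hom.IsIntegral := IsIntegralHom.isIntegral_app ν U hU
  have h1 := isIntegralElem_trans _ _ hint _ hx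
  have h2 : (ηa.hom.comp τa.hom).comp (ν.app U).hom = ηa.hom.comp (g.app U).hom := by
    rw [RingHom.comp_assoc, ← hT3]; rfl
  rw [h2] at h1
  obtain ⟨t, rfl⟩ := hT2 s (isIntegralElem_of_injective _ _ hE1 s h1)
  exact ⟨t, rfl⟩

/-- The normalization of `X` in the function field of a normal integral scheme `Z ⟶ X` is the
normalization of `X` in `Z`. -/
theorem exists_iso_normalization_functionField (hZ : Pi1.IsNormalScheme Z)
    [QuasiCompact (Z.fromSpecStalk (genericPoint Z) ≫ g)]
    [QuasiSeparated (Z.fromSpecStalk (genericPoint Z) ≫ g)] :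
    ∃ e : (Z.fromSpecStalk (genericPoint Z) ≫ g).normalization ≅ g.normalization,
      e.hom ≫ g.fromNormalization =
        (Z.fromSpecStalk (genericPoint Z) ≫ g).fromNormalization ∧
      (Z.fromSpecStalk (genericPoint Z) ≫ g).toNormalization ≫ e.hom =
        Z.fromSpecStalk (genericPoint Z) ≫ g.toNormalization := by
  set η := Z.fromSpecStalk (genericPoint Z) with hη
  have heq : η ≫ g = (η ≫ g.toNormalization) ≫ g.fromNormalization := by
    rw [Category.assoc, Scheme.Hom.toNormalization_fromNormalization]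
  haveI : QuasiCompact ((η ≫ g.toNormalization) ≫ g.fromNormalization) := by
    rw [← heq]; infer_instance
  haveI : QuasiSeparated ((η ≫ g.toNormalization) ≫ g.fromNormalization) := by
    rw [← heq]; infer_instance
  haveI := Groth.Agent.Lib.Helper4.FEtNormal.isIso_desc (η ≫ g.toNormalization)
    g.fromNormalization (fun U hU => criterion g hZ U hU)
  obtain ⟨e₀, he1, he2⟩ := exists_iso_normalization_of_eq _ _ heq
  refine ⟨e₀ ≪≫ asIso (((η ≫ g.toNormalization) ≫ g.fromNormalization).normalizationDesc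
    (η ≫ g.toNormalization) g.fromNormalization rfl), ?_, ?_⟩
  · rw [Iso.trans_hom, asIso_hom, Category.assoc, Scheme.Hom.normalizationDesc_comp, he1]
  · rw [Iso.trans_hom, asIso_hom, ← Category.assoc, he2,
      Scheme.Hom.toNormalization_normalizationDesc]

end L1

/-- Étale morphisms are locally quasi-finite. -/
theorem locallyQuasiFinite_of_etale {X Y : Scheme.{u}} (f : X ⟶ Y) [Etale f] :
    LocallyQuasiFinite f := by
  rw [HasRingHomProperty.iff_appLE (P := @LocallyQuasiFinite)]
  intro U V e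
  have h := f.etale_appLE U.2 V.2 e
  algebraize [(f.appLE U.1 V.1 e).hom]
  show Algebra.QuasiFinite _ _
  infer_instance

end Groth.Agent.Lib.T2H9.NormFF
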