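import Mathlib
import Groth.Prelude.Def_W4bk4git07Quot
import Groth.Agent.Lib.T2H9NormFF

/-!
Helper library (helper7): a geometric quotient of a normal integral scheme has normal local rings.
-/

set_option autoImplicit false
set_option linter.unusedSectionVars false
set_option linter.unusedVariables false
set_option linter.style.haveILetI false
universe u
open CategoryTheory CategoryTheory.Limits AlgebraicGeometry TopologicalSpace Opposite

namespace Groth.Agent.Lib.T2H7.GQNormal

/-- the pullback of a nonzero function on an integral scheme along a flat morphism is a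
nonzerodivisor on every open. -/
theorem eq_zero_of_appLE_mul_eq_zero {P X : Scheme.{u}} (f : P ⟶ X) [Flat f] [IsIntegral X]
    (V : X.Opens) (β : Γ(X, V)) (hβ : β ≠ 0) (W : P.Opens) (hW : W ≤ f ⁻¹ᵁ V) (s : Γ(P, W))
    (hs : (f.appLE V W hW).hom β * s = 0) : s = 0 := by
  have key : ∀ x : W, ∃ (W₀ : P.Opens) (hW₀ : W₀ ≤ W), x.1 ∈ W₀ ∧
      (P.presheaf.map (homOfLE hW₀).op).hom s = (P.presheaf.map (homOfLE hW₀).op).hom 0 := by
    intro x
    obtain ⟨_, ⟨V₀, hV₀, rfl⟩, hxV₀, hV₀V⟩ := X.isBasis_affineOpens.exists_subset_of_mem_open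
      (show f x.1 ∈ (V : Set X) from hW x.2) V.2
    replace hV₀ : IsAffineOpen V₀ := hV₀
    obtain ⟨_, ⟨W₀, hW₀, rfl⟩, hxW₀, hW₀sub⟩ := P.isBasis_affineOpens.exists_subset_of_mem_open
      (show x.1 ∈ ((W ⊓ f ⁻¹ᵁ V₀ : P.Opens) : Set P) from ⟨x.2, hxV₀⟩) (W ⊓ f ⁻¹ᵁ V₀).2
    replace hW₀ : IsAffineOpen W₀ := hW₀
    have hW₀W : W₀ ≤ W := fun y hy => (hW₀sub hy).1
    have hWV : W₀ ≤ f ⁻¹ᵁ V₀ := fun y hy => (hW₀sub hy).2
    have hV₀V' : V₀ ≤ V := hV₀V
    refine ⟨W₀, hW₀W, hxW₀, ?_⟩
    rw [map_zero]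
    haveI : Nonempty V₀ := ⟨⟨f x.1, hxV₀⟩⟩
    haveI : IsDomain Γ(X, V₀) := IsIntegral.component_integral V₀
    have hβ₀ : (X.presheaf.map (homOfLE hV₀V').op).hom β ≠ 0 := by
      intro h0
      apply hβ
      apply map_injective_of_isIntegral X (homOfLE hV₀V')
      rw [map_zero]
      exact h0
    have hflat : (f.appLE V₀ W₀ hWV).hom.Flat := f.flat_appLE hV₀ hW₀ hWV
    letI := (f.appLE V₀ W₀ hWV).hom.toAlgebra
    haveI : Module.Flat Γ(X, V₀) Γ(P, W₀) := hflat
    have hreg : IsSMulRegular Γ(P, W₀)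
        (algebraMap Γ(X, V₀) Γ(P, W₀) ((X.presheaf.map (homOfLE hV₀V').op).hom β)) :=
      IsSMulRegular.of_flat (IsSMulRegular.of_ne_zero hβ₀)
    have hcompat : (f.appLE V₀ W₀ hWV).hom ((X.presheaf.map (homOfLE hV₀V').op).hom β) =
        (P.presheaf.map (homOfLE hW₀W).op).hom ((f.appLE V W hW).hom β) := by
      have e1 : X.presheaf.map (homOfLE hV₀V').op ≫ f.appLE V₀ W₀ hWV =
          f.appLE V W hW ≫ P.presheaf.map (homOfLE hW₀W).op := by
        rw [Scheme.Hom.map_appLE, Scheme.Hom.appLE_map]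
      have := congrArg (fun m => m.hom β) e1
      simpa only [CommRingCat.hom_comp, RingHom.comp_apply] using this
    have h0 := congrArg (P.presheaf.map (homOfLE hW₀W).op).hom hs
    rw [map_mul, map_zero, ← hcompat] at h0
    apply hreg
    change algebraMap Γ(X, V₀) Γ(P, W₀) _ * _ = algebraMap Γ(X, V₀) Γ(P, W₀) _ * 0
    rw [mul_zero]
    exact h0
  choose W₀ hW₀ hx hloc using key
  refine TopCat.Sheaf.eq_of_locally_eq' P.sheaf W₀ W (fun x => homOfLE (hW₀ x)) ?_ s 0
    (fun x => hloc x)
  intro x hx'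
  exact Opens.mem_iSup.2 ⟨⟨x, hx'⟩, hx _⟩

open MonoidalCategory CartesianMonoidalCategory MonObj in
/-- a geometric quotient of a normal integral scheme by a flat group scheme has normal local rings. -/
theorem isNormalScheme_of_isGeomQuot {S : Scheme.{u}} {G X Y : Over S} [GrpObj G] [Flat G.hom]
    [IsIntegral X.left] (hX : Pi1.IsNormalScheme X.left)
    (a : AlgGrp.Action G X) (φ : X ⟶ Y) (h : GIT.IsGeomQuot a φ) :
    Pi1.IsNormalScheme Y.left := by
  intro y
  obtain ⟨_, ⟨U, hU, rfl⟩, hyU, -⟩ := Y.left.isBasis_affineOpens.exists_subset_of_mem_open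
    (Set.mem_univ y) isOpen_univ
  replace hU : IsAffineOpen U := hU
  obtain ⟨x, hx⟩ := h.surj y
  set V : X.left.Opens := φ.left ⁻¹ᵁ U with hV
  haveI : Nonempty V := ⟨⟨x, by change φ.left x ∈ U; rw [hx]; exact hyU⟩⟩
  haveI : IsDomain Γ(X.left, V) := IsIntegral.component_integral V
  obtain ⟨hinj, hrange⟩ := h.sections U
  set ψ : Γ(Y.left, U) →+* Γ(X.left, V) := (φ.left.app U).hom with hψ
  have hψinj : Function.Injective ψ := hinj
  haveI : IsDomain Γ(Y.left, U) := Function.Injective.isDomain ψ hψinj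
  -- the function field of `X`
  set gm : Γ(X.left, V) →+* X.left.functionField := (X.left.germToFunctionField V).hom with hgm
  have hgminj : Function.Injective gm := X.left.germToFunctionField_injective V
  set g : Γ(Y.left, U) →+* X.left.functionField := gm.comp ψ with hg
  have hginj : Function.Injective g := hgminj.comp hψinj
  let ιK : FractionRing Γ(Y.left, U) →+* X.left.functionField := IsFractionRing.lift hginj
  have hι : ∀ r, ιK (algebraMap _ _ r) = g r := fun r => IsFractionRing.lift_algebraMap hginj r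
  -- the flat projection
  have hsndG : (snd G X).left = pullback.snd G.hom X.hom := rfl
  haveI : Flat (snd G X).left := by rw [hsndG]; infer_instance
  have hic : IsIntegrallyClosed Γ(Y.left, U) := by
    rw [isIntegrallyClosed_iff (FractionRing Γ(Y.left, U))]
    intro t ht
    have hint : gm.IsIntegralElem (ιK t) := by
      obtain ⟨p, hp, hpt⟩ := ht
      refine ⟨p.map ψ, hp.map _, ?_⟩
      rw [Polynomial.eval₂_map]
      have h1 := congrArg ιK hpt
      rw [map_zero, Polynomial.hom_eval₂] at h1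
      have h2 : ιK.comp (algebraMap Γ(Y.left, U) (FractionRing Γ(Y.left, U))) = gm.comp ψ := by
        ext r
        exact hι r
      rw [h2] at h1
      exact h1
    obtain ⟨s, hs⟩ := Groth.Agent.Lib.T2H9.NormFF.exists_section_of_isIntegralElem hX V (ιK t) hint
    obtain ⟨a', b', hb', hab⟩ := IsFractionRing.div_surjective (A := Γ(Y.left, U)) t
    have hb0 : b' ≠ 0 := nonZeroDivisors.ne_zero hb'
    have hgb0 : g b' ≠ 0 := fun h0 => hb0 (hginj (by rw [h0, map_zero]))
    have hψb0 : ψ b' ≠ 0 := fun h0 => hb0 (hψinj (by rw [h0, map_zero]))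
    have hιt : ιK t = g a' / g b' := by
      rw [← hab, map_div₀, hι, hι]
    have key1 : ψ b' * s = ψ a' := by
      apply hgminj
      rw [map_mul]
      change g b' * gm s = g a'
      rw [hs, hιt, mul_div_cancel₀ _ hgb0]
    -- invariance of `s`
    have hmem : ∀ r : Γ(Y.left, U), GIT.IsInvSection a φ U (ψ r) := by
      intro r
      have : ψ r ∈ Set.range (φ.left.app U) := ⟨r, rfl⟩
      rw [hrange] at this
      exact this
    have hsinv : GIT.IsInvSection a φ U s := by
      have ha := hmem a'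
      have hb := hmem b'
      unfold GIT.IsInvSection at ha hb ⊢
      set W := a.act.left ⁻¹ᵁ V ⊓ (snd G X).left ⁻¹ᵁ V with hW
      set σs := (a.act.left.appLE V W inf_le_left).hom with hσs
      set ps := ((snd G X).left.appLE V W inf_le_right).hom with hps
      change σs (ψ a') = ps (ψ a') at ha
      change σs (ψ b') = ps (ψ b') at hb
      change σs s = ps s
      have e1 : σs (ψ b') * σs s = σs (ψ a') := by rw [← map_mul, key1]
      have e2 : ps (ψ b') * ps s = ps (ψ a') := by rw [← map_mul, key1]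
      have e3 : ps (ψ b') * (σs s - ps s) = 0 := by
        rw [mul_sub, e2, ← hb, e1, ha, sub_self]
      have := eq_zero_of_appLE_mul_eq_zero (snd G X).left V (ψ b') hψb0 W inf_le_right _ e3
      exact sub_eq_zero.mp this
    have hsr : s ∈ Set.range (φ.left.app U) := by
      rw [hrange]
      exact hsinv
    obtain ⟨r, hr⟩ := hsr
    refine ⟨r, ?_⟩
    apply ιK.injective
    rw [hι, ← hs]
    change gm (ψ r) = gm s
    congr 1
  -- the stalk is a localization
  letI := TopCat.Presheaf.algebra_section_stalk Y.left.presheaf ⟨y, hyU⟩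
  haveI hloc := hU.isLocalization_stalk ⟨y, hyU⟩
  haveI := (hU.primeIdealOf ⟨y, hyU⟩).isPrime
  have hle : (hU.primeIdealOf ⟨y, hyU⟩).asIdeal.primeCompl ≤ nonZeroDivisors Γ(Y.left, U) :=
    Ideal.primeCompl_le_nonZeroDivisors _
  exact ⟨IsLocalization.isDomain_of_le_nonZeroDivisors (Y.left.presheaf.stalk y) hle,
    isIntegrallyClosed_of_isLocalization (Y.left.presheaf.stalk y)
      (hU.primeIdealOf ⟨y, hyU⟩).asIdeal.primeCompl hle⟩

end Groth.Agent.Lib.T2H7.GQNormal
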