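import Groth.Agent.Lib.T2H7GITBC2
import Groth.Agent.Lib.Helper12Act
import Groth.Agent.Lib.Helper3AbHom
set_option autoImplicit false
set_option linter.unusedSectionVars false
set_option linter.unusedVariables false
set_option linter.style.haveILetI false
universe u
open CategoryTheory MonoidalCategory CartesianMonoidalCategory MonObj GrpObj AlgebraicGeometry Limits

namespace Groth.Agent.Lib.T2H7.GQOpen

open Groth.Agent.Lib.Helper12 Groth.Agent.Lib.T2H7.GITBC

variable {S : Scheme.{u}} {G : Over S} [GrpObj G]

/-- the action map of a universally open group scheme is universally open -/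
theorem universallyOpen_act_left {X : Over S} [UniversallyOpen G.hom] (a : AlgGrp.Action G X) :
    UniversallyOpen a.act.left := by
  have h1 : a.act = shear a ≫ snd G X := (shear_snd a).symm
  have hiso : IsIso (shear a).left :=
    inferInstanceAs (IsIso ((Over.forget S).map (shearIso a).hom))
  have hsnd : UniversallyOpen (snd G X).left := by
    rw [Over.snd_left]; infer_instance
  rw [h1, Over.comp_left]
  infer_instance

/-- an invariant quotient map with surjective orbit map is open -/
theorem isOpenMap_of_quot {X Y : Over S} [UniversallyOpen G.hom] (a : AlgGrp.Action G X) (φ : X ⟶ Y)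
    (inv : GIT.IsInvariant a φ) (horb : Function.Surjective (GIT.PsiY a φ inv).base)
    (hq : Topology.IsQuotientMap φ.left.base) : IsOpenMap φ.left.base := by
  intro U hU
  rw [← hq.isOpen_preimage]
  have key : φ.left.base ⁻¹' (φ.left.base '' U) =
      a.act.left.base '' ((snd G X).left.base ⁻¹' U) := by
    ext x
    constructor
    · rintro ⟨v, hv, hvx⟩
      obtain ⟨w, hw1, hw2⟩ := Scheme.Pullback.exists_preimage_pullback x v hvx.symm
      obtain ⟨z, rfl⟩ := horb w
      refine ⟨z, ?_, ?_⟩
      · show (snd G X).left z ∈ U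
        have : (snd G X).left z = v := by
          rw [← hw2, ← Scheme.Hom.comp_apply, GIT.PsiY, pullback.lift_snd]
        rw [this]
        exact hv
      · show a.act.left z = x
        rw [← hw1, ← Scheme.Hom.comp_apply, GIT.PsiY, pullback.lift_fst]
    · rintro ⟨z, hz, rfl⟩
      refine ⟨(snd G X).left z, hz, ?_⟩
      show φ.left ((snd G X).left z) = φ.left (a.act.left z)
      rw [← Scheme.Hom.comp_apply, ← Scheme.Hom.comp_apply, inv.left]
  rw [key]
  haveI := universallyOpen_act_left a
  exact a.act.left.isOpenMap _ (hU.preimage (snd G X).left.continuous)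

/-- **a geometric quotient by a universally open group scheme is universally open.** -/
theorem universallyOpen_of_isGeomQuot {X Y : Over S} [UniversallyOpen G.hom]
    (a : AlgGrp.Action G X) (φ : X ⟶ Y) (h : GIT.IsGeomQuot a φ) : UniversallyOpen φ.left := by
  refine ⟨fun X'' Y'' i₁ i₂ f' hsq => ?_⟩
  -- objects over `S`
  have hw : f' ≫ i₂ = i₁ ≫ φ.left := hsq.w
  obtain ⟨Y', hY'⟩ : ∃ Y' : Over S, Y' = Over.mk (i₂ ≫ Y.hom) := ⟨_, rfl⟩
  obtain ⟨X', hX'⟩ : ∃ X' : Over S, X' = Over.mk (i₁ ≫ X.hom) := ⟨_, rfl⟩
  subst hY' hX'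
  let pr : Over.mk (i₁ ≫ X.hom) ⟶ X := Over.homMk i₁ rfl
  let g : Over.mk (i₂ ≫ Y.hom) ⟶ Y := Over.homMk i₂ rfl
  let φ' : Over.mk (i₁ ≫ X.hom) ⟶ Over.mk (i₂ ≫ Y.hom) := Over.homMk f' (by
    show f' ≫ i₂ ≫ Y.hom = i₁ ≫ X.hom
    rw [← Category.assoc, hw, Category.assoc, Over.w φ])
  have hpb : IsPullback pr φ' φ g := by
    apply IsPullback.of_map (Over.forget S)
    · apply Over.OverMorphism.ext
      exact hw.symm
    · exact hsq.flip
  let a' := bcAct a h.inv hpb
  have hc := bcAct_compat a h.inv hpb
  have hinv' := bcAct_isInvariant a h.inv hpb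
  have horb' := surjective_PsiY_bc a h.inv hpb a' hc hinv' h.orbit
  have hsub' := isUnivSubmersive_bc hpb h.subm
  have hq : Topology.IsQuotientMap φ'.left.base := by
    have := hsub' (𝟙 _) (𝟙 _) φ'.left (IsPullback.of_id_snd)
    exact this
  exact isOpenMap_of_quot a' φ' hinv' horb' hq

end Groth.Agent.Lib.T2H7.GQOpen
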