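import Mathlib
import Groth.Agent.Lib.T2H7QuotLocA
import Groth.Agent.Lib.T2H7GrpdInv

/-!
# T2H7: invariant sections over invariant opens for a finite group action (helper7)

* `Inv ρ W`: the open `W` is stable under the action.
* `act`: the action on sections over a stable open.
* `Cinv`: the ring of invariant sections; `qW`: the local quotient map `W ⟶ Spec (Cinv W)`.
* `exists_invariant_function`: the norm of a section.
* `exists_basicOpen_le`: separation by invariant functions.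
* `exists_invariant_affine`: invariant affine neighbourhoods of orbits contained in an affine.
-/

set_option autoImplicit false
set_option linter.style.haveILetI false
set_option linter.unusedSectionVars false
set_option linter.unusedVariables false
universe u

open CategoryTheory CategoryTheory.Limits AlgebraicGeometry

namespace Groth.Agent.Lib.T2H7.GQuotA

open Groth.Agent.Lib.Helper20

variable {X : Scheme.{u}} {G : Type u} [Group G] (ρ : G →* Aut X)

/-- stable opens -/
def Inv (W : X.Opens) : Prop := ∀ g : G, W ≤ (ρ g).hom ⁻¹ᵁ W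

theorem hom_mul (g h : G) : (ρ (g * h)).hom = (ρ h).hom ≫ (ρ g).hom := by
  rw [map_mul]; rfl

theorem hom_one : (ρ 1).hom = 𝟙 X := by
  rw [map_one]; rfl

theorem hom_inv_hom (g : G) : (ρ g⁻¹).hom ≫ (ρ g).hom = 𝟙 X := by
  rw [← hom_mul, mul_inv_cancel, hom_one]

theorem hom_hom_inv (g : G) : (ρ g).hom ≫ (ρ g⁻¹).hom = 𝟙 X := by
  rw [← hom_mul, inv_mul_cancel, hom_one]

theorem hom_inv_apply (g : G) (x : X) : (ρ g).hom ((ρ g⁻¹).hom x) = x := by
  have := congrArg (fun φ : X ⟶ X => φ x) (hom_inv_hom ρ g)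
  exact this

theorem hom_apply_inv (g : G) (x : X) : (ρ g⁻¹).hom ((ρ g).hom x) = x := by
  have := congrArg (fun φ : X ⟶ X => φ x) (hom_hom_inv ρ g)
  exact this

theorem hom_mul_apply (g h : G) (x : X) : (ρ (g * h)).hom x = (ρ g).hom ((ρ h).hom x) := by
  have := congrArg (fun φ : X ⟶ X => φ x) (hom_mul ρ g h)
  exact this

variable {ρ}

theorem Inv.preimage_eq {W : X.Opens} (hW : Inv ρ W) (g : G) : (ρ g).hom ⁻¹ᵁ W = W := by
  apply le_antisymm _ (hW g)
  intro x hx
  have h1 : (ρ g⁻¹).hom ((ρ g).hom x) ∈ W := hW g⁻¹ hx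
  rwa [hom_apply_inv] at h1

theorem Inv.mem_iff {W : X.Opens} (hW : Inv ρ W) (g : G) (x : X) : (ρ g).hom x ∈ W ↔ x ∈ W := by
  have := hW.preimage_eq g
  constructor
  · intro h
    rw [← this]
    exact h
  · intro h
    exact hW g h

theorem Inv.inf {W W' : X.Opens} (hW : Inv ρ W) (hW' : Inv ρ W') : Inv ρ (W ⊓ W') :=
  fun g x hx => ⟨hW g hx.1, hW' g hx.2⟩

/-- the action on sections over a stable open -/
noncomputable def act {W : X.Opens} (hW : Inv ρ W) (g : G) : Γ(X, W) ⟶ Γ(X, W) :=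
  (ρ g).hom.appLE W W (hW g)

theorem act_one {W : X.Opens} (hW : Inv ρ W) : act hW 1 = 𝟙 _ := by
  unfold act
  rw [appLE_congr_hom (hom_one ρ), id_appLE]

theorem act_mul {W : X.Opens} (hW : Inv ρ W) (g h : G) : act hW (g * h) = act hW g ≫ act hW h := by
  unfold act
  rw [appLE_congr_hom (hom_mul ρ g h), Scheme.Hom.appLE_comp_appLE]

theorem act_mul_apply {W : X.Opens} (hW : Inv ρ W) (g h : G) (a : Γ(X, W)) :
    (act hW (g * h)).hom a = (act hW h).hom ((act hW g).hom a) := by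
  rw [act_mul]; rfl

theorem act_res {W W' : X.Opens} (hW : Inv ρ W) (hW' : Inv ρ W') (h : W' ≤ W) (g : G) :
    X.presheaf.map (homOfLE h).op ≫ act hW' g = act hW g ≫ X.presheaf.map (homOfLE h).op := by
  unfold act
  rw [Scheme.Hom.map_appLE, Scheme.Hom.appLE_map]

theorem act_res_apply {W W' : X.Opens} (hW : Inv ρ W) (hW' : Inv ρ W') (h : W' ≤ W) (g : G)
    (a : Γ(X, W)) :
    (act hW' g).hom ((X.presheaf.map (homOfLE h).op).hom a) =
      (X.presheaf.map (homOfLE h).op).hom ((act hW g).hom a) :=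
  congrArg (fun φ => φ.hom a) (act_res hW hW' h g)

theorem basicOpen_act {W : X.Opens} (hW : Inv ρ W) (g : G) (a : Γ(X, W)) :
    X.basicOpen ((act hW g).hom a) = W ⊓ (ρ g).hom ⁻¹ᵁ X.basicOpen a :=
  Scheme.basicOpen_appLE _ _ _ _ _

/-- invariant sections -/
noncomputable def Cinv {W : X.Opens} (hW : Inv ρ W) : Subring Γ(X, W) :=
  ⨅ g : G, RingHom.eqLocus (act hW g).hom (RingHom.id _)

theorem mem_Cinv {W : X.Opens} (hW : Inv ρ W) (a : Γ(X, W)) :
    a ∈ Cinv hW ↔ ∀ g : G, (act hW g).hom a = a := by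
  unfold Cinv
  rw [Subring.mem_iInf]
  rfl

/-- the local quotient map -/
noncomputable def qW {W : X.Opens} (hW : Inv ρ W) : W.toScheme ⟶ Spec (CommRingCat.of (Cinv hW)) :=
  W.toSpecΓ ≫ Spec.map (CommRingCat.ofHom (Cinv hW).subtype)

theorem qW_mem_basicOpen_iff {W : X.Opens} (hW : Inv ρ W) (c : Cinv hW) (x : W.toScheme) :
    qW hW x ∈ PrimeSpectrum.basicOpen c ↔ W.ι x ∈ X.basicOpen c.1 := by
  have h1 : x ∈ W.toSpecΓ ⁻¹ᵁ PrimeSpectrum.basicOpen c.1 ↔ W.ι x ∈ X.basicOpen c.1 := by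
    rw [Scheme.Opens.toSpecΓ_preimage_basicOpen]
    rfl
  rw [← h1]
  rfl


section ResC

variable {W W' : X.Opens} (hW : Inv ρ W) (hW' : Inv ρ W') (h : W' ≤ W)

theorem res_mem_Cinv (a : Γ(X, W)) (ha : a ∈ Cinv hW) :
    (X.presheaf.map (homOfLE h).op).hom a ∈ Cinv hW' := by
  rw [mem_Cinv] at ha ⊢
  intro g
  rw [act_res_apply hW hW' h g, ha g]

/-- restriction of invariant sections -/
noncomputable def resC : Cinv hW →+* Cinv hW' :=
  ((X.presheaf.map (homOfLE h).op).hom.comp (Cinv hW).subtype).codRestrict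
    (Cinv hW') (fun a => res_mem_Cinv hW hW' h a.1 a.2)

theorem resC_coe (a : Cinv hW) :
    (resC hW hW' h a).1 = (X.presheaf.map (homOfLE h).op).hom a.1 := rfl

theorem qW_naturality : qW hW' ≫ Spec.map (CommRingCat.ofHom (resC hW hW' h)) =
    X.homOfLE h ≫ qW hW := by
  unfold qW
  rw [Category.assoc, ← Spec.map_comp, ← Scheme.Opens.toSpecΓ_SpecMap_presheaf_map_assoc _ _ h,
    ← Spec.map_comp]
  rfl

theorem resC_id : resC hW hW le_rfl = RingHom.id _ := by
  apply RingHom.ext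
  intro a
  apply Subtype.ext
  show (X.presheaf.map (homOfLE (le_refl W)).op).hom a.1 = a.1
  have : (homOfLE (le_refl W)).op = 𝟙 (Opposite.op W) := rfl
  rw [this, X.presheaf.map_id]
  rfl

theorem resC_comp {W'' : X.Opens} (hW'' : Inv ρ W'') (h' : W'' ≤ W') :
    (resC hW' hW'' h').comp (resC hW hW' h) = resC hW hW'' (h'.trans h) := by
  apply RingHom.ext
  intro a
  apply Subtype.ext
  show (X.presheaf.map (homOfLE h').op).hom ((X.presheaf.map (homOfLE h).op).hom a.1) =
    (X.presheaf.map (homOfLE (h'.trans h)).op).hom a.1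
  rw [← CommRingCat.comp_apply, ← X.presheaf.map_comp]
  rfl

end ResC

section Norm

variable [Finite G]

/-- the norm of a section: an invariant section whose non-vanishing locus is the intersection of
the translates of the non-vanishing locus of the given section -/
theorem exists_invariant_function {O : X.Opens} (hO : Inv ρ O) (f : Γ(X, O)) :
    ∃ c : Γ(X, O), c ∈ Cinv hO ∧ X.basicOpen c ≤ X.basicOpen f ∧
      ∀ u : X, u ∈ O → (∀ g : G, (ρ g).hom u ∈ X.basicOpen f) → u ∈ X.basicOpen c := by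
  cases nonempty_fintype G
  classical
  refine ⟨∏ g : G, (act hO g).hom f, ?_, ?_, ?_⟩
  · rw [mem_Cinv]
    intro h
    rw [map_prod]
    have e : ∀ g : G, (act hO h).hom ((act hO g).hom f) = (act hO (g * h)).hom f :=
      fun g => (act_mul_apply hO g h f).symm
    simp only [e]
    exact Fintype.prod_equiv (Equiv.mulRight h) _ _ (fun g => rfl)
  · have h1 : (act hO 1).hom f = f := by rw [act_one]; rfl
    rw [← Finset.mul_prod_erase Finset.univ _ (Finset.mem_univ (1 : G)), Scheme.basicOpen_mul, h1]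
    exact inf_le_left
  · intro u hu hg
    refine Finset.prod_induction (fun g : G => (act hO g).hom f) (fun a => u ∈ X.basicOpen a)
      ?_ ?_ ?_
    · intro a b ha hb
      rw [Scheme.basicOpen_mul]
      exact ⟨ha, hb⟩
    · rw [Scheme.basicOpen_of_isUnit _ isUnit_one]
      exact hu
    · intro g _
      rw [basicOpen_act]
      exact ⟨hu, hg g⟩

theorem basicOpen_inv {W : X.Opens} (hW : Inv ρ W) (c : Γ(X, W)) (hc : c ∈ Cinv hW) :
    Inv ρ (X.basicOpen c) := by
  intro g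
  have h1 := basicOpen_act hW g c
  rw [(mem_Cinv hW c).1 hc g] at h1
  have h2 : X.basicOpen c ≤ W ⊓ (ρ g).hom ⁻¹ᵁ X.basicOpen c := h1.le
  exact h2.trans inf_le_right

/-- separation by invariant functions -/
theorem exists_basicOpen_le {W : X.Opens} (hW : Inv ρ W) (hWa : IsAffineOpen W) (O : X.Opens)
    (hO : Inv ρ O) (u : X) (huW : u ∈ W) (huO : u ∈ O) :
    ∃ c : Cinv hW, u ∈ X.basicOpen c.1 ∧ X.basicOpen c.1 ≤ O := by
  obtain ⟨f, hf1, hf2⟩ := Groth.Agent.Lib.T2H7.GrpdInv.exists_basicOpen_finite_of_isAffineOpen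
    hWa O (Set.range fun g : G => (ρ g).hom u) (Set.finite_range _)
    (by rintro _ ⟨g, rfl⟩; exact hO g huO) (by rintro _ ⟨g, rfl⟩; exact hW g huW)
  obtain ⟨c, hc1, hc2, hc3⟩ := exists_invariant_function hW f
  exact ⟨⟨c, hc1⟩, hc3 u huW (fun g => hf2 ⟨g, rfl⟩), hc2.trans hf1⟩

end Norm


section Locz

variable [Finite G] {W : X.Opens} (hW : Inv ρ W) (c : Cinv hW)

theorem isUnit_Cinv (x : Cinv hW) (hx : IsUnit (x : Γ(X, W))) : IsUnit x := by
  obtain ⟨v, hv⟩ := hx
  have hinv : (↑v⁻¹ : Γ(X, W)) ∈ Cinv hW := by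
    rw [mem_Cinv]
    intro g
    have h1 : (act hW g).hom (v : Γ(X, W)) = v := by
      rw [hv]; exact (mem_Cinv hW x.1).1 x.2 g
    have h2 : (act hW g).hom (↑v⁻¹ : Γ(X, W)) * (v : Γ(X, W)) = 1 := by
      rw [← h1, ← map_mul, Units.inv_mul, map_one]
    calc (act hW g).hom (↑v⁻¹ : Γ(X, W))
        = (act hW g).hom (↑v⁻¹ : Γ(X, W)) * ((v : Γ(X, W)) * ↑v⁻¹) := by
          rw [Units.mul_inv, mul_one]
      _ = ↑v⁻¹ := by rw [← mul_assoc, h2, one_mul]
  refine ⟨⟨x, ⟨↑v⁻¹, hinv⟩, ?_, ?_⟩, rfl⟩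
  · apply Subtype.ext
    show (x : Γ(X, W)) * ↑v⁻¹ = 1
    rw [← hv]; exact v.mul_inv
  · apply Subtype.ext
    show ↑v⁻¹ * (x : Γ(X, W)) = 1
    rw [← hv]; exact v.inv_mul

theorem isLocalization_resC (hWa : IsAffineOpen W) :
    letI := (resC hW (basicOpen_inv hW c.1 c.2) (X.basicOpen_le c.1)).toAlgebra
    IsLocalization.Away c (Cinv (basicOpen_inv hW c.1 c.2)) := by
  letI := (resC hW (basicOpen_inv hW c.1 c.2) (X.basicOpen_le c.1)).toAlgebra
  have hW' := basicOpen_inv hW c.1 c.2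
  have hle : X.basicOpen c.1 ≤ W := X.basicOpen_le c.1
  haveI locU : IsLocalization.Away c.1 Γ(X, X.basicOpen c.1) :=
    hWa.isLocalization_basicOpen c.1
  set resU := (X.presheaf.map (homOfLE hle).op).hom with hresU
  have hcom : ∀ g a, (act hW' g).hom (resU a) = resU ((act hW g).hom a) :=
    fun g a => act_res_apply hW hW' hle g a
  have hcg : ∀ g, (act hW g).hom c.1 = c.1 := (mem_Cinv hW c.1).1 c.2
  have halgU : ∀ a, algebraMap Γ(X, W) Γ(X, X.basicOpen c.1) a = resU a := fun _ => rfl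
  have halgC : ∀ a, algebraMap (Cinv hW) (Cinv hW') a = resC hW hW' hle a := fun _ => rfl
  rw [IsLocalization.Away, isLocalization_iff]
  refine ⟨?_, ?_, ?_⟩
  · rintro ⟨_, n, rfl⟩
    rw [halgC, map_pow]
    apply IsUnit.pow
    apply isUnit_Cinv
    show IsUnit (resU c.1)
    rw [← halgU]
    exact IsLocalization.Away.algebraMap_isUnit c.1
  · intro z
    obtain ⟨⟨a0, ⟨_, n0, rfl⟩⟩, h0⟩ := IsLocalization.surj (Submonoid.powers c.1) z.1
    simp only [halgU, map_pow] at h0
    have hzc : z.1 * resU c.1 ^ n0 ∈ Cinv hW' :=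
      Subring.mul_mem _ z.2 (Subring.pow_mem _ (res_mem_Cinv hW hW' hle c.1 c.2) n0)
    have hd : ∀ g, resU ((act hW g).hom a0 - a0) = 0 := by
      intro g
      rw [map_sub, ← hcom, ← h0, sub_eq_zero]
      exact (mem_Cinv hW' _).1 hzc g
    have hd' : ∀ g, ∃ m : ℕ, c.1 ^ m * ((act hW g).hom a0 - a0) = 0 := by
      intro g
      have := hd g
      rw [← halgU, IsLocalization.map_eq_zero_iff (Submonoid.powers c.1)] at this
      obtain ⟨⟨_, m, rfl⟩, hm⟩ := this
      exact ⟨m, hm⟩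
    choose m hm using hd'
    cases nonempty_fintype G
    let K := ∑ g, m g
    have hK : ∀ g, c.1 ^ K * ((act hW g).hom a0 - a0) = 0 := by
      intro g
      have hle' : m g ≤ K := Finset.single_le_sum (fun _ _ => Nat.zero_le _) (Finset.mem_univ g)
      obtain ⟨d, hd⟩ := Nat.exists_eq_add_of_le hle'
      rw [hd, pow_add, mul_comm (c.1 ^ m g), mul_assoc, hm, mul_zero]
    have ha : c.1 ^ K * a0 ∈ Cinv hW := by
      rw [mem_Cinv]
      intro g
      rw [map_mul, map_pow, hcg g, ← sub_eq_zero, ← mul_sub]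
      exact hK g
    refine ⟨⟨⟨c.1 ^ K * a0, ha⟩, ⟨c ^ (K + n0), K + n0, rfl⟩⟩, ?_⟩
    apply Subtype.ext
    show z.1 * resU (c.1 ^ (K + n0)) = resU (c.1 ^ K * a0)
    rw [map_mul, map_pow, map_pow, ← h0, pow_add]
    ring
  · intro x y hxy
    have h1 : resU x.1 = resU y.1 := congrArg Subtype.val hxy
    rw [← halgU, ← halgU, IsLocalization.eq_iff_exists (Submonoid.powers c.1)] at h1
    obtain ⟨⟨_, n, rfl⟩, hn⟩ := h1
    refine ⟨⟨c ^ n, n, rfl⟩, ?_⟩
    apply Subtype.ext
    exact hn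

variable (hWa : IsAffineOpen W)

include hWa in
theorem isOpenImmersion_resC :
    IsOpenImmersion (Spec.map (CommRingCat.ofHom
      (resC hW (basicOpen_inv hW c.1 c.2) (X.basicOpen_le c.1)))) := by
  letI := (resC hW (basicOpen_inv hW c.1 c.2) (X.basicOpen_le c.1)).toAlgebra
  haveI := isLocalization_resC hW c hWa
  exact IsOpenImmersion.of_isLocalization (R := Cinv hW)
    (S := Cinv (basicOpen_inv hW c.1 c.2)) c

include hWa in
theorem range_resC :
    Set.range (Spec.map (CommRingCat.ofHom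
      (resC hW (basicOpen_inv hW c.1 c.2) (X.basicOpen_le c.1)))) =
      (PrimeSpectrum.basicOpen c : Set (PrimeSpectrum (Cinv hW))) := by
  letI := (resC hW (basicOpen_inv hW c.1 c.2) (X.basicOpen_le c.1)).toAlgebra
  haveI := isLocalization_resC hW c hWa
  exact PrimeSpectrum.localization_away_comap_range
    (Cinv (basicOpen_inv hW c.1 c.2)) c

include hWa in
theorem isPullback_resC :
    IsPullback (qW (basicOpen_inv hW c.1 c.2))
      (X.homOfLE (X.basicOpen_le c.1))
      (Spec.map (CommRingCat.ofHom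
        (resC hW (basicOpen_inv hW c.1 c.2) (X.basicOpen_le c.1))))
      (qW hW) := by
  haveI := isOpenImmersion_resC hW c hWa
  refine IsOpenImmersion.isPullback _ _ _ _ (qW_naturality hW _ _).symm ?_
  ext x
  rw [Scheme.opensRange_homOfLE]
  constructor
  · rintro ⟨y, hy⟩
    have h1 : qW hW x ∈ (PrimeSpectrum.basicOpen c : Set (PrimeSpectrum (Cinv hW))) := by
      rw [← range_resC hW c hWa]
      exact ⟨y, hy⟩
    exact (qW_mem_basicOpen_iff hW c x).1 h1
  · intro hx
    have h1 : qW hW x ∈ (PrimeSpectrum.basicOpen c : Set (PrimeSpectrum (Cinv hW))) :=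
      (qW_mem_basicOpen_iff hW c x).2 hx
    rw [← range_resC hW c hWa] at h1
    exact h1

end Locz


section Cover

variable [Finite G]

variable (ρ) in
/-- an orbit contained in an affine open has a stable affine open neighbourhood -/
theorem exists_invariant_affine (x : X) (U : X.Opens) (hU : IsAffineOpen U)
    (hx : ∀ g : G, (ρ g).hom x ∈ U) :
    ∃ W : X.Opens, Inv ρ W ∧ IsAffineOpen W ∧ x ∈ W := by
  let O : X.Opens := ⟨⋂ g : G, ((ρ g).hom ⁻¹ᵁ U : Set X),
    isOpen_iInter_of_finite (fun g => ((ρ g).hom ⁻¹ᵁ U).isOpen)⟩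
  have hmemO : ∀ y : X, y ∈ O ↔ ∀ g : G, (ρ g).hom y ∈ U := by
    intro y
    show y ∈ ⋂ g : G, ((ρ g).hom ⁻¹ᵁ U : Set X) ↔ _
    rw [Set.mem_iInter]
    rfl
  have hO : Inv ρ O := by
    intro h y hy
    show (ρ h).hom y ∈ O
    rw [hmemO] at hy ⊢
    intro g
    rw [← hom_mul_apply]
    exact hy (g * h)
  have hOU : O ≤ U := by
    intro y hy
    have := (hmemO y).1 hy 1
    rwa [hom_one] at this
  have hxO : x ∈ O := (hmemO x).2 hx
  obtain ⟨f₀, hf1, hf2⟩ := Groth.Agent.Lib.T2H7.GrpdInv.exists_basicOpen_finite_of_isAffineOpen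
    hU O (Set.range fun g : G => (ρ g).hom x) (Set.finite_range _)
    (by rintro _ ⟨g, rfl⟩; exact hO g hxO) (by rintro _ ⟨g, rfl⟩; exact hx g)
  set f : Γ(X, O) := (X.presheaf.map (homOfLE hOU).op).hom f₀ with hf
  have hbf : X.basicOpen f = X.basicOpen f₀ := by
    rw [hf, Scheme.basicOpen_res]
    exact inf_eq_right.mpr hf1
  obtain ⟨c, hc1, hc2, hc3⟩ := exists_invariant_function hO f
  rw [hbf] at hc2
  refine ⟨X.basicOpen c, basicOpen_inv hO c hc1, ?_, ?_⟩
  · have hD : IsAffineOpen (X.basicOpen f₀) := hU.basicOpen f₀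
    have h1 : X.basicOpen ((X.presheaf.map (homOfLE hf1).op).hom c) = X.basicOpen c := by
      rw [Scheme.basicOpen_res]
      exact inf_eq_right.mpr hc2
    rw [← h1]
    exact hD.basicOpen _
  · apply hc3 x hxO
    intro g
    rw [hbf]
    exact hf2 ⟨g, rfl⟩

end Cover

end Groth.Agent.Lib.T2H7.GQuotA
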