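import Mathlib
import Groth.Agent.Lib.T2H7GQuotB

/-!
# T2H7: existence of the quotient by a finite group whose orbits lie in affine opens (helper7)
-/

set_option autoImplicit false
set_option linter.style.haveILetI false
set_option linter.unusedSectionVars false
set_option linter.unusedVariables false
universe u

open CategoryTheory CategoryTheory.Limits AlgebraicGeometry
open Groth.Agent.Lib.T2H7.GQuotA Groth.Agent.Lib.T2H7.GQuotB

namespace Groth.Agent.Lib.T2H7.GQuotC

variable {X : Scheme.{u}} {G : Type u} [Group G] [Finite G] {ρ : G →* Aut X}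
variable (hcov : ∀ u : X, ∃ W : IAO ρ, u ∈ W.W)

/-- the inclusion of the invariants -/
noncomputable abbrev θ (W : IAO ρ) : CommRingCat.of W.C ⟶ Γ(X, W.W) :=
  CommRingCat.ofHom W.C.subtype

theorem θ_act (W : IAO ρ) (g : G) : θ W ≫ act W.inv g = θ W := by
  ext c
  exact (mem_Cinv W.inv c.1).1 c.2 g

theorem fromSpec_q (W : IAO ρ) :
    W.aff.fromSpec ≫ q hcov = Spec.map (θ W) ≫ ιY W := by
  have h1 : W.W.toSpecΓ ≫ W.aff.fromSpec ≫ q hcov = W.W.toSpecΓ ≫ Spec.map (θ W) ≫ ιY W := by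
    rw [IsAffineOpen.toSpecΓ_fromSpec_assoc, ι_q hcov W]
    rfl
  have : IsIso W.W.toSpecΓ := by
    rw [← IsAffineOpen.isoSpec_hom W.aff]
    infer_instance
  exact (cancel_epi _).1 h1

theorem fromSpec_act (W : IAO ρ) (g : G) :
    W.aff.fromSpec ≫ (ρ g).hom = Spec.map (act W.inv g) ≫ W.aff.fromSpec :=
  (IsAffineOpen.SpecMap_appLE_fromSpec (ρ g).hom W.aff W.aff (W.inv g)).symm

theorem q_inv (g : G) : (ρ g).hom ≫ q hcov = q hcov := by
  apply (cover hcov).hom_ext
  intro W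
  show (show IAO ρ from W).W.ι ≫ (ρ g).hom ≫ q hcov = (show IAO ρ from W).W.ι ≫ q hcov
  set W' : IAO ρ := W
  have h1 : W'.aff.fromSpec ≫ (ρ g).hom ≫ q hcov = W'.aff.fromSpec ≫ q hcov := by
    rw [← Category.assoc, fromSpec_act, Category.assoc, fromSpec_q, ← Category.assoc,
      ← Spec.map_comp, θ_act]
  rw [← IsAffineOpen.isoSpec_hom_fromSpec W'.aff, Category.assoc, Category.assoc, h1]

theorem isAffineHom_q : IsAffineHom (q hcov) := by
  apply isAffineHom_of_forall_exists_isAffineOpen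
  intro y
  obtain ⟨W, z, rfl⟩ := ιY_jointly_surjective (ρ := ρ) y
  refine ⟨(ιY W).opensRange, ⟨z, rfl⟩, isAffineOpen_opensRange (ιY W), ?_⟩
  rw [q_preimage_range]
  exact W.aff

/-- the glued morphism is a quotient -/
theorem isQuot_q : SGA1.IsQuot ρ (q hcov) := by
  refine Groth.Agent.Lib.T2H7.QuotLocA.isQuot_of_charts ρ (q hcov) (isAffineHom_q hcov)
    (q_inv hcov) (J := IAO ρ) (fun W => CommRingCat.of W.C) (fun W => Γ(X, W.W)) (fun W => θ W)
    (fun W g => act W.inv g) (fun W => W.aff.fromSpec) (fun W => ιY W)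
    (fun W => fromSpec_q hcov W) (fun W g => fromSpec_act W g) ?_ ?_ ?_ ?_ ?_
  · intro W
    rw [IsAffineOpen.opensRange_fromSpec, q_preimage_range]
  · intro y
    obtain ⟨W, z, rfl⟩ := ιY_jointly_surjective (ρ := ρ) y
    exact ⟨W, z, rfl⟩
  · intro W
    exact Subtype.val_injective
  · intro W g
    exact θ_act W g
  · intro W t ht
    exact ⟨⟨t, (mem_Cinv W.inv t).2 ht⟩, rfl⟩

/-- **Existence of the quotient** by a finite group all of whose orbits lie in affine opens. -/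
theorem exists_quotient (ρ : G →* Aut X)
    (h : ∀ x : X, ∃ U : X.Opens, IsAffineOpen U ∧ ∀ g : G, (ρ g).hom x ∈ U) :
    ∃ (Y : Scheme.{u}) (p : X ⟶ Y), SGA1.IsQuot ρ p := by
  have hcov : ∀ u : X, ∃ W : IAO ρ, u ∈ W.W := by
    intro u
    obtain ⟨U, hU, hu⟩ := h u
    obtain ⟨W, hW1, hW2, hW3⟩ := exists_invariant_affine ρ u U hU hu
    exact ⟨⟨W, hW2, hW1⟩, hW3⟩
  exact ⟨Y ρ, q hcov, isQuot_q hcov⟩

end Groth.Agent.Lib.T2H7.GQuotC
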