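import Groth.Agent.Lib.T2H7MtModelC

set_option autoImplicit false
set_option linter.unusedSectionVars false
set_option linter.unusedVariables false
set_option linter.style.haveILetI false
universe u
open CategoryTheory CategoryTheory.Limits MonoidalCategory CartesianMonoidalCategory MonObj GrpObj
  AlgebraicGeometry

namespace Groth.Agent.Lib.T2H7.MtLocus

open Groth.Agent.Lib.T2H3.MultGa Groth.Agent.Lib.Helper27.GaGm
  Groth.Agent.Lib.T2H7.DiagDS Groth.Agent.Lib.T2H7.DiagHomA Groth.Agent.Lib.T2H7.DiagHomB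
  Groth.Agent.Lib.T2H7.GrpIsoBC Groth.Agent.Lib.T2H7.ToriMono Groth.Agent.Lib.T2H7.MtModel

/-- a field extension gives an fpqc covering of spectra. -/
theorem field_fpqc {K L : Type u} [Field K] [Field L] (f : K →+* L) :
    Flat (Spec.map (CommRingCat.ofHom f)) ∧ Surjective (Spec.map (CommRingCat.ofHom f)) ∧
      QuasiCompact (Spec.map (CommRingCat.ofHom f)) := by
  refine ⟨?_, ?_, inferInstance⟩
  · rw [HasRingHomProperty.Spec_iff (P := @Flat)]
    algebraize [f]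
    show (algebraMap K L).Flat
    rw [RingHom.flat_algebraMap_iff]
    infer_instance
  · refine ⟨fun x => ?_⟩
    have y : PrimeSpectrum L := default
    exact ⟨y, Subsingleton.elim (α := PrimeSpectrum K) _ _⟩

theorem isClopen_of_locally_const {α : Type*} [TopologicalSpace α] (V : Set α)
    (h : ∀ z, ∃ N : Set α, IsOpen N ∧ z ∈ N ∧ ∃ q : Prop, ∀ z' ∈ N, (z' ∈ V ↔ q)) :
    IsClopen V := by
  constructor
  · rw [← isOpen_compl_iff, isOpen_iff_forall_mem_open]
    intro z hz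
    obtain ⟨N, hN, hzN, q, hq⟩ := h z
    refine ⟨N, fun z' hz' hV => hz ((hq z hzN).2 ((hq z' hz').1 hV)), hN, hzN⟩
  · rw [isOpen_iff_forall_mem_open]
    intro z hz
    obtain ⟨N, hN, hzN, q, hq⟩ := h z
    exact ⟨N, fun z' hz' => (hq z' hz').2 ((hq z hzN).1 hz), hN, hzN⟩

theorem isOpen_of_cover {S : Scheme.{u}} (𝒰 : S.OpenCover) (s : Set S)
    (h : ∀ i, IsOpen ((𝒰.f i) ⁻¹' s)) : IsOpen s := by
  rw [isOpen_iff_forall_mem_open]
  intro x hx
  obtain ⟨i, y, hy⟩ := 𝒰.exists_eq x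
  refine ⟨(𝒰.f i) '' ((𝒰.f i) ⁻¹' s), Set.image_preimage_subset _ _,
    (𝒰.f i).isOpenEmbedding.isOpenMap _ (h i), ⟨y, ?_, hy⟩⟩
  show (𝒰.f i) y ∈ s
  rw [hy]
  exact hx

section Locus

variable (P : MorphismProperty Scheme.{u}) [P.RespectsIso] [P.IsStableUnderBaseChange]
  [IsZariskiLocalAtTarget P] [P.DescendsAlong (@Surjective ⊓ @Flat ⊓ @QuasiCompact)]
  (Q : ∀ {A B : Type} [AddCommGroup A] [AddCommGroup B], (B →+ A) → Prop)
  (H1 : ∀ (T : Scheme.{u}) {A B : Type} [AddCommGroup A] [AddCommGroup B] (ψ : B →+ A)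
    (δ : Red.DS T A ⟶ Red.DS T B), (∀ m, dsFn δ (sg m) = chr T (ψ m)) → Q ψ → P δ.left)
  (H2 : ∀ (k : Type u) [Field k] {A B : Type} [AddCommGroup A] [AddCommGroup B] (ψ : B →+ A)
    (δ : Red.DS (Spec (CommRingCat.of k)) A ⟶ Red.DS (Spec (CommRingCat.of k)) B),
    (∀ m, dsFn δ (sg m) = chr (Spec (CommRingCat.of k)) (ψ m)) → P δ.left → Q ψ)

variable {S : Scheme.{u}} {G H : Over S} [GrpObj G] [GrpObj H] (u : G ⟶ H)

include H1 H2 in
theorem mem_iff_of_isModel {Z : Scheme.{u}} (g : Z ⟶ S) {A B : Type} [AddCommGroup A]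
    [AddCommGroup B] (ψ : B →+ A) (hmod : IsModel u g ψ) (z : Z) :
    P ((Over.pullback (S.fromSpecResidueField (g z))).map u).left ↔ Q ψ := by
  obtain ⟨hfl, hsj, hqc⟩ := field_fpqc (K := ↑(S.residueField (g z))) (L := ↑(Z.residueField z))
    (g.residueFieldMap z).hom
  have e : Spec.map (g.residueFieldMap z) ≫ S.fromSpecResidueField (g z) =
      Z.fromSpecResidueField z ≫ g := Scheme.Hom.SpecMap_residueFieldMap_fromSpecResidueField g z
  haveI : Flat (Spec.map (g.residueFieldMap z)) := hfl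
  haveI : Surjective (Spec.map (g.residueFieldMap z)) := hsj
  haveI : QuasiCompact (Spec.map (g.residueFieldMap z)) := hqc
  constructor
  · intro h
    have h1 := OverDescP.bc P (Spec.map (g.residueFieldMap z)) _ h
    rw [OverDescP.bc_comp_iff P _ _ e u] at h1
    obtain ⟨δ, hδ, hPδ⟩ := (hmod.comp (Z.fromSpecResidueField z) rfl).of_prop P h1
    exact H2 (↑(Z.residueField z)) ψ δ hδ hPδ
  · intro hQ
    have h0 : P ((Over.pullback g).map u).left := hmod.prop P (fun δ hδ => H1 Z ψ δ hδ hQ)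
    have h1 := OverDescP.bc P (Z.fromSpecResidueField z) _ h0
    rw [OverDescP.bc_comp_iff P _ _ e.symm u] at h1
    rw [← OverDescP.bc_comp_iff P (Spec.map (g.residueFieldMap z))
      (S.fromSpecResidueField (g z)) rfl u] at h1
    exact OverDescP.of_fpqc P (Spec.map (g.residueFieldMap z)) _ h1

include H1 H2 in
/-- **The locus theorem.** -/
theorem locus (hG : SGA3x.IsMultTypeFT G) (hH : SGA3x.IsMultTypeFT H) [IsMonHom u] :
    ∃ U : S.Opens, IsClosed (U : Set S) ∧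
      (∀ s : S, s ∈ U ↔ P ((Over.pullback (S.fromSpecResidueField s)).map u).left) ∧
      P ((Over.pullback U.ι).map u).left := by
  obtain ⟨Us, hUs⟩ : ∃ Us : Set S,
      Us = {s | P ((Over.pullback (S.fromSpecResidueField s)).map u).left} := ⟨_, rfl⟩
  -- clopen on every chart
  have hchart : ∀ i : S.affineCover.I₀, IsClopen ((S.affineCover.f i) ⁻¹' Us) := by
    intro i
    haveI : IsAffine (S.affineCover.X i) := inferInstanceAs (IsAffine (Spec _))
    obtain ⟨Z, k₀, hfl, hsj, hqc, hmods⟩ := exists_local_models hG hH u (S.affineCover.f i)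
    haveI := hfl
    haveI := hsj
    haveI := hqc
    have hV : IsClopen (k₀ ⁻¹' ((S.affineCover.f i) ⁻¹' Us)) := by
      apply isClopen_of_locally_const
      intro z
      obtain ⟨R, instR, y, hy, hz, A, B, instA, instB, ψ, hmod⟩ := hmods z
      haveI := hy
      refine ⟨Set.range y, y.isOpenEmbedding.isOpen_range, hz, Q ψ, ?_⟩
      rintro _ ⟨w, rfl⟩
      have := mem_iff_of_isModel P Q H1 H2 u (y ≫ k₀ ≫ S.affineCover.f i) ψ hmod w
      rw [← this, hUs]
      rfl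
    have hq := Flat.isQuotientMap_of_surjective k₀
    exact ⟨(hq.isClosed_preimage).1 hV.1, (hq.isOpen_preimage).1 hV.2⟩
  have hopen : IsOpen Us := isOpen_of_cover S.affineCover Us (fun i => (hchart i).2)
  have hclosed : IsClosed Us := by
    rw [← isOpen_compl_iff]
    refine isOpen_of_cover S.affineCover _ (fun i => ?_)
    rw [Set.preimage_compl, isOpen_compl_iff]
    exact (hchart i).1
  refine ⟨⟨Us, hopen⟩, hclosed, fun s => by show s ∈ Us ↔ _; rw [hUs]; rfl, ?_⟩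
  -- the property over `U`
  obtain ⟨U, hU⟩ : ∃ U : S.Opens, U = ⟨Us, hopen⟩ := ⟨_, rfl⟩
  rw [← hU]
  apply OverDescP.of_forall_exists P
  intro x
  obtain ⟨_, ⟨Xa, hXa, rfl⟩, hxXa, -⟩ :=
    (U.toScheme).isBasis_affineOpens.exists_subset_of_mem_open
      (show x ∈ ((⊤ : U.toScheme.Opens) : Set _) from trivial) (⊤ : U.toScheme.Opens).2
  have hXb : IsAffineOpen Xa := hXa
  refine ⟨Spec Γ(U.toScheme, Xa), hXb.fromSpec, inferInstance, ?_, ?_⟩
  · rw [hXb.range_fromSpec]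
    exact hxXa
  rw [OverDescP.bc_comp_iff P hXb.fromSpec U.ι rfl u]
  obtain ⟨j, hj⟩ : ∃ j : Spec Γ(U.toScheme, Xa) ⟶ S, j = hXb.fromSpec ≫ U.ι := ⟨_, rfl⟩
  rw [← hj]
  haveI : IsOpenImmersion j := by rw [hj]; infer_instance
  obtain ⟨Z, k₀, hfl, hsj, hqc, hmods⟩ := exists_local_models hG hH u j
  haveI := hfl
  haveI := hsj
  haveI := hqc
  apply OverDescP.of_fpqc P k₀
  rw [OverDescP.bc_comp_iff P k₀ j rfl u]
  apply OverDescP.of_forall_exists P
  intro z
  obtain ⟨R, instR, y, hy, hz, A, B, instA, instB, ψ, hmod⟩ := hmods z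
  refine ⟨_, y, hy, hz, ?_⟩
  rw [OverDescP.bc_comp_iff P y (k₀ ≫ j) rfl u]
  obtain ⟨w, hw⟩ := hz
  have hmem : (y ≫ k₀ ≫ j) w ∈ Us := by
    have h1 : (y ≫ k₀ ≫ j) w = U.ι ((y ≫ k₀ ≫ hXb.fromSpec) w) := by
      rw [hj]
      simp only [Scheme.Hom.comp_apply]
    rw [h1]
    have hUs' : (U : Set S) = Us := by rw [hU]; rfl
    have h2 : U.ι ((y ≫ k₀ ≫ hXb.fromSpec) w) ∈ (U : Set S) :=
      ((y ≫ k₀ ≫ hXb.fromSpec) w).2
    rw [hUs'] at h2
    exact h2
  rw [hUs] at hmem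
  have hQ : Q ψ := (mem_iff_of_isModel P Q H1 H2 u (y ≫ k₀ ≫ j) ψ hmod w).1 hmem
  exact hmod.prop P (fun δ hδ => H1 _ ψ δ hδ hQ)

end Locus

end Groth.Agent.Lib.T2H7.MtLocus
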