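import Groth.Agent.Lib.T2H7RigidI
import Groth.Agent.Lib.T2H3GaGmRed
import Groth.Agent.Lib.T2H7MtLocus

/-!
Homomorphisms from the additive group, and from iterated extensions of additive groups, to a torus
over a field are trivial.
-/

set_option autoImplicit false
set_option linter.unusedSectionVars false
set_option linter.unusedVariables false
set_option linter.style.haveILetI false
universe u
open CategoryTheory CategoryTheory.Limits MonoidalCategory CartesianMonoidalCategory MonObj GrpObj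
  AlgebraicGeometry

namespace Groth.Agent.Lib.T2H7.GaTorus

open Groth.Agent.Lib.T2H3.MultGa Groth.Agent.Lib.Helper27.GaGm
  Groth.Agent.Lib.T2H7.DiagDS Groth.Agent.Lib.T2H7.DiagHomA Groth.Agent.Lib.T2H7.DiagHomB
  Groth.Agent.Lib.T2H7.GrpIsoBC Groth.Agent.Lib.T2H7.ToriMono Groth.Agent.Lib.T2H7.MtModel
  Groth.Agent.Lib.T2H7.MtLocus
  Groth.Agent.Lib.Helper12.QuotGrp Groth.Agent.Lib.Helper12 Groth.Agent.Lib.Helper11KerPair
  Groth.Agent.Lib.Helper11QuotTower Groth.Agent.Lib.T2H7.Rigid

/-- over a reduced base every homomorphism from the additive group to a diagonalisable group is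
trivial. -/
theorem hom_Ga_DS_eq_one (S : Scheme.{u}) [IsReduced S] (M : Type) [AddCommGroup M]
    (g : Red.Ga S ⟶ Red.DS S M) [IsMonHom g] : g = 1 := by
  apply ds_ext'
  intro m
  obtain ⟨χ, hχmon, hχ⟩ := exists_dsHom (T := S) (zmultiplesHom M m)
  haveI := hχmon
  have h1 : g ≫ χ = 1 := Groth.Agent.Lib.T2H3.GaGmRed.hom_Ga_Gm_eq_one S (g ≫ χ)
  have h2 := dsFn_comp_of_chr g χ _ hχ (1 : ℤ)
  rw [h1, dsFn_one_sg] at h2
  have h3 : (zmultiplesHom M m) (1 : ℤ) = m := by simp
  rw [h3] at h2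
  rw [← h2, dsFn_one_sg]

/-- the base change of the additive group is the additive group. -/
theorem exists_gaBcIso {S S' : Scheme.{u}} (t : S' ⟶ S) :
    ∃ c : Red.bc t (Red.Ga S) ≅ Red.Ga S', IsMonHom c.hom := by
  have hd : t ≫ (Limits.IsTerminal.from specULiftZIsTerminal S) =
      Limits.IsTerminal.from specULiftZIsTerminal S' := specULiftZIsTerminal.hom_ext _ _
  exact ⟨ActBC.bcCompIso t _ Red.GaZ hd, inferInstance⟩

/-- over a field every homomorphism from the additive group to a torus is trivial. -/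
theorem hom_Ga_torus_eq_one {k : Type u} [Field k] (T : Over (Spec (CommRingCat.of k))) [GrpObj T]
    (hT : Red.IsTorus T) (g : Red.Ga (Spec (CommRingCat.of k)) ⟶ T) [IsMonHom g] : g = 1 := by
  obtain ⟨S', f, hfl, hsj, hcov, hloc⟩ := hT
  obtain ⟨s', -⟩ := hsj.surj (default : ↥(Spec (CommRingCat.of k)))
  obtain ⟨U, hs'U, r, hsp⟩ := hloc s'
  obtain ⟨x₀, hx₀⟩ : ∃ x₀ : U.toScheme, U.ι x₀ = s' := ⟨⟨s', hs'U⟩, rfl⟩
  obtain ⟨t, ht⟩ : ∃ t : Spec (U.toScheme.residueField x₀) ⟶ Spec (CommRingCat.of k),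
      t = U.toScheme.fromSpecResidueField x₀ ≫ U.ι ≫ f := ⟨_, rfl⟩
  have hsp' : Red.IsSplitTorusWith (Fin r → ℤ) (Red.bc t T) :=
    split_of_comp (U.toScheme.fromSpecResidueField x₀) (U.ι ≫ f) ht.symm T _ hsp
  obtain ⟨eT, heT⟩ := (nonempty_grpIso_iff _ _).1 hsp'
  haveI := heT
  obtain ⟨c, hc⟩ := exists_gaBcIso t
  haveI := hc
  haveI : IsReduced (Spec (U.toScheme.residueField x₀)) := inferInstance
  have h1 : c.inv ≫ (Over.pullback t).map g ≫ eT.hom = 1 :=
    hom_Ga_DS_eq_one _ _ (c.inv ≫ (Over.pullback t).map g ≫ eT.hom)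
  have h2 : (Over.pullback t).map g = 1 := by
    have : (Over.pullback t).map g = c.hom ≫ (c.inv ≫ (Over.pullback t).map g ≫ eT.hom) ≫ eT.inv := by
      simp
    rw [this, h1, MonObj.one_comp (eT.inv), MonObj.comp_one]
  -- `t` is faithfully flat and quasi-compact
  obtain ⟨hfl', hsj', hqc'⟩ := field_fpqc (K := k) (L := ↑(U.toScheme.residueField x₀))
    (Spec.preimage t).hom
  have e1 : Spec.map (CommRingCat.ofHom (Spec.preimage t).hom) = t := Spec.map_preimage t
  rw [e1] at hfl' hsj' hqc'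
  haveI := hfl'
  haveI := hsj'
  haveI := hqc'
  apply (Over.pullback t).map_injective
  rw [h2, Functor.map_one]

section Desc

variable {S : Scheme.{u}} {G Q Q' : Over S} [GrpObj G] [GrpObj Q] [GrpObj Q']

theorem isMonHom_of_cov (q : G ⟶ Q) [IsMonHom q] (hc : IsCov q) (q' : G ⟶ Q') [IsMonHom q']
    (f : Q ⟶ Q') (hf : q ≫ f = q') : IsMonHom f := by
  haveI := hc.epi
  haveI := hc.epi_tensorHom hc
  refine ⟨?_, ?_⟩
  · rw [← IsMonHom.one_hom q, Category.assoc, hf, IsMonHom.one_hom q']
  · rw [← cancel_epi (q ⊗ₘ q), ← Category.assoc, ← IsMonHom.mul_hom q, Category.assoc, hf,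
      IsMonHom.mul_hom q', ← Category.assoc, tensorHom_comp_tensorHom, hf]

/-- a homomorphism killing the kernel of a faithfully flat quasi-compact homomorphism descends. -/
theorem exists_desc_hom {N : Over S} [GrpObj N] (i : N ⟶ G) [IsMonHom i] (q : G ⟶ Q) [IsMonHom q]
    (hker : AlgGrp.IsKernel i q) [Surjective q.left] [Flat q.left] [QuasiCompact q.left]
    (φ : G ⟶ Q') [IsMonHom φ] (hφ : i ≫ φ = 1) : ∃ g : Q ⟶ Q', IsMonHom g ∧ q ≫ g = φ := by
  have hc := isCov_of_fpqc q
  have hsq := isPullback_of_isKernel i q hker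
  haveI := hc.effectiveEpi
  obtain ⟨g, hg⟩ := exists_desc_of_isPullback q hsq φ (by
    rw [whiskerLeft_comp_mul, MonObj.mul_comp _ _ φ, Category.assoc, hφ, MonObj.comp_one,
      _root_.mul_one])
  exact ⟨g, isMonHom_of_cov q hc φ g hg, hg⟩

theorem eq_one_of_trivialGrp (h0 : Red.IsTrivialGrp G) (φ : G ⟶ Q') [IsMonHom φ] : φ = 1 := by
  haveI : IsIso G.hom := h0
  haveI : IsIso (toUnit G) := by
    haveI : IsIso ((Over.forget S).map (toUnit G)) := by
      have h1 : (toUnit G).left = G.hom := by simp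
      show IsIso (toUnit G).left
      rw [h1]
      infer_instance
    exact isIso_of_reflects_iso (toUnit G) (Over.forget S)
  have h : toUnit G ≫ η[G] = 𝟙 G := by
    rw [← cancel_mono (toUnit G)]
    exact toUnit_unique _ _
  calc φ = (toUnit G ≫ η[G]) ≫ φ := by rw [h, Category.id_comp]
    _ = 1 := by rw [Category.assoc, IsMonHom.one_hom φ, Hom.one_def]

end Desc

/-- **S17464.** -/
theorem hom_to_torus_eq_one (k : Type u) [Field k]
    (T U : Over (Spec (CommRingCat.of k))) [GrpObj T] [GrpObj U] (hT : Red.IsTorus T)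
    [IsAffine U.left]
    (n : ℕ) (Us : Fin (n + 1) → Over (Spec (CommRingCat.of k))) [∀ i, GrpObj (Us i)]
    (h0 : Red.IsTrivialGrp (Us 0))
    (e : Us (Fin.last n) ≅ U) [IsMonHom e.hom]
    (incl : ∀ i : Fin n, Us i.castSucc ⟶ Us i.succ) [∀ i, IsMonHom (incl i)]
    [∀ i, IsClosedImmersion (incl i).left]
    (quot : ∀ i : Fin n, Us i.succ ⟶ Red.Ga (Spec (CommRingCat.of k))) [∀ i, IsMonHom (quot i)]
    [∀ i, Surjective (quot i).left] [∀ i, Flat (quot i).left]
    (hker : ∀ i : Fin n, AlgGrp.IsKernel (incl i) (quot i))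
    (f : U ⟶ T) [IsMonHom f] : f = 1 := by
  have haff : ∀ i : Fin (n + 1), IsAffine (Us i).left := by
    intro i
    induction i using Fin.reverseInduction with
    | last =>
      haveI : IsIso e.hom.left := inferInstanceAs (IsIso ((Over.forget _).map e.hom))
      exact IsAffine.of_isIso e.hom.left
    | cast i ih =>
      haveI := ih
      exact isAffine_of_isAffineHom (incl i).left
  haveI hGa : IsAffine (Red.Ga (Spec (CommRingCat.of k))).left := by
    haveI : IsAffineHom (Red.GaZ).hom := by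
      haveI : IsAffine (Red.GaZ).left := inferInstanceAs (IsAffine (Spec _))
      infer_instance
    haveI : IsAffineHom (Red.Ga (Spec (CommRingCat.of k))).hom :=
      MorphismProperty.pullback_snd (P := @IsAffineHom) (Red.GaZ).hom
        (Limits.IsTerminal.from specULiftZIsTerminal (Spec (CommRingCat.of k))) inferInstance
    exact isAffine_of_isAffineHom (Red.Ga (Spec (CommRingCat.of k))).hom
  have key : ∀ i : Fin (n + 1), ∀ (φ : Us i ⟶ T), IsMonHom φ → φ = 1 := by
    intro i
    induction i using Fin.induction with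
    | zero =>
      intro φ hφ
      exact eq_one_of_trivialGrp h0 φ
    | succ i ih =>
      intro φ hφ
      have h1 : incl i ≫ φ = 1 := ih (incl i ≫ φ) inferInstance
      haveI : IsAffine (Us i.succ).left := haff i.succ
      haveI : QuasiCompact (quot i).left := inferInstance
      obtain ⟨g, hgmon, hg⟩ := exists_desc_hom (incl i) (quot i) (hker i) φ h1
      haveI := hgmon
      rw [← hg, hom_Ga_torus_eq_one T hT g, MonObj.comp_one]
  have h2 : e.hom ≫ f = 1 := key (Fin.last n) (e.hom ≫ f) inferInstance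
  calc f = e.inv ≫ (e.hom ≫ f) := by simp
    _ = 1 := by rw [h2, MonObj.comp_one]

end Groth.Agent.Lib.T2H7.GaTorus
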