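import Mathlib

/-!
# T2H7: Galois extensions of commutative rings (Chase–Harrison–Rosenberg), free case

A finite group `G` acts on a commutative ring `A`, `B → A` is injective with image the invariants.
If for every `g ≠ 1` the ideal generated by the `g • a - a` is the unit ideal (no inertia), then
`A` is a finitely generated projective `B`-module, `B → A` is unramified (hence étale), and `G`
acts transitively on the field-valued points of a fibre.
-/

set_option autoImplicit false
set_option linter.unusedSectionVars false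
set_option linter.unusedVariables false
set_option linter.style.haveILetI false

namespace Groth.Agent.Lib.T2H7.GalRingA

open TensorProduct

variable {G A B : Type*} [Group G] [CommRing A] [CommRing B] [Algebra B A]
  [MulSemiringAction G A] [SMulCommClass G B A]

/-- twisted multiplication `a ⊗ a' ↦ a * g • a'` -/
noncomputable def phi (g : G) : A ⊗[B] A →ₐ[B] A :=
  Algebra.TensorProduct.productMap (AlgHom.id B A) (MulSemiringAction.toAlgHom B A g)

theorem phi_tmul (g : G) (a a' : A) : phi (B := B) g (a ⊗ₜ[B] a') = a * g • a' := by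
  simp [phi]

theorem phi_one_tmul (a a' : A) : phi (B := B) (1 : G) (a ⊗ₜ[B] a') = a * a' := by
  rw [phi_tmul, one_smul]

/-- the inertia ideal of `g` -/
def inertiaIdeal (g : G) : Ideal A := Ideal.span (Set.range fun a : A => g • a - a)

theorem exists_sep_of_mem (g : G) (c : A) (hc : c ∈ inertiaIdeal g) :
    ∃ t : A ⊗[B] A, phi (B := B) (1 : G) t = c ∧ phi (B := B) g t = 0 := by
  unfold inertiaIdeal at hc
  induction hc using Submodule.span_induction with
  | mem x hx =>
    obtain ⟨a, rfl⟩ := hx
    refine ⟨(g • a) ⊗ₜ[B] 1 - 1 ⊗ₜ[B] a, ?_, ?_⟩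
    · rw [map_sub, phi_one_tmul, phi_one_tmul]; ring
    · rw [map_sub, phi_tmul, phi_tmul, smul_one]; ring
  | zero => exact ⟨0, map_zero _, map_zero _⟩
  | add x y _ _ hx hy =>
    obtain ⟨t, ht1, ht2⟩ := hx
    obtain ⟨t', ht1', ht2'⟩ := hy
    exact ⟨t + t', by rw [map_add, ht1, ht1'], by rw [map_add, ht2, ht2', add_zero]⟩
  | smul a x _ hx =>
    obtain ⟨t, ht1, ht2⟩ := hx
    refine ⟨(a ⊗ₜ[B] 1) * t, ?_, ?_⟩
    · rw [map_mul, ht1, phi_one_tmul, mul_one, smul_eq_mul]
    · rw [map_mul, ht2, mul_zero]

/-- CHR element: `φ_g t = δ_{g,1}`. -/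
theorem exists_chr [Fintype G] [DecidableEq G]
    (hfree : ∀ g : G, g ≠ 1 → inertiaIdeal (A := A) g = ⊤) :
    ∃ t : A ⊗[B] A, ∀ g : G, phi (B := B) g t = if g = 1 then 1 else 0 := by
  have h1 : ∀ g : G, ∃ t : A ⊗[B] A, phi (B := B) (1 : G) t = 1 ∧ (g ≠ 1 → phi (B := B) g t = 0) := by
    intro g
    by_cases hg : g = 1
    · exact ⟨1, map_one _, fun h => absurd hg h⟩
    · obtain ⟨t, ht1, ht2⟩ := exists_sep_of_mem (B := B) g (1 : A) (by rw [hfree g hg]; trivial)
      exact ⟨t, ht1, fun _ => ht2⟩
  choose t ht1 ht2 using h1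
  refine ⟨∏ g : G, t g, fun h => ?_⟩
  rw [map_prod]
  split_ifs with hh
  · subst hh
    exact Finset.prod_eq_one fun g _ => ht1 g
  · exact Finset.prod_eq_zero (Finset.mem_univ h) (ht2 h hh)

/-- CHR elements in sum form. -/
theorem exists_chr_finset (B : Type*) [CommRing B] [Algebra B A] [SMulCommClass G B A]
    [Fintype G] [DecidableEq G]
    (hfree : ∀ g : G, g ≠ 1 → inertiaIdeal (A := A) g = ⊤) :
    ∃ S : Finset (A × A), ∀ g : G, ∑ p ∈ S, p.1 * g • p.2 = if g = 1 then 1 else 0 := by
  obtain ⟨t, ht⟩ := exists_chr (B := B) hfree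
  obtain ⟨S, rfl⟩ := TensorProduct.exists_finset t
  refine ⟨S, fun g => ?_⟩
  rw [← ht g, map_sum]
  exact Finset.sum_congr rfl fun p _ => (phi_tmul g p.1 p.2).symm

section Trace

variable [Fintype G]

/-- the trace `a ↦ ∑ g, g • a` as a `B`-linear endomorphism of `A` -/
noncomputable def trA : A →ₗ[B] A := ∑ g : G, (MulSemiringAction.toAlgHom B A g).toLinearMap

theorem trA_apply (a : A) : trA (G := G) (B := B) a = ∑ g : G, g • a := by
  simp [trA, LinearMap.sum_apply]

theorem smul_trA (h : G) (a : A) : h • trA (G := G) (B := B) a = trA (G := G) (B := B) a := by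
  rw [trA_apply, Finset.smul_sum]
  refine Fintype.sum_equiv (Equiv.mulLeft h) _ _ fun g => ?_
  simp [mul_smul]

variable [Algebra.IsInvariant B A G]

theorem trA_mem_range (a : A) :
    trA (G := G) (B := B) a ∈ LinearMap.range (Algebra.linearMap B A) := by
  obtain ⟨b, hb⟩ := Algebra.IsInvariant.isInvariant (A := B) (B := A) (G := G)
    (trA (G := G) (B := B) a) (fun g => smul_trA g a)
  exact ⟨b, hb⟩

/-- the trace with values in `B` -/
noncomputable def trB (hinj : Function.Injective (algebraMap B A)) : A →ₗ[B] B :=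
  (LinearEquiv.ofInjective (Algebra.linearMap B A) hinj).symm.toLinearMap ∘ₗ
    (trA (G := G) (B := B)).codRestrict (LinearMap.range (Algebra.linearMap B A)) trA_mem_range

theorem algebraMap_trB (hinj : Function.Injective (algebraMap B A)) (a : A) :
    algebraMap B A (trB (G := G) hinj a) = ∑ g : G, g • a := by
  rw [← trA_apply (B := B)]
  have := LinearEquiv.apply_symm_apply (LinearEquiv.ofInjective (Algebra.linearMap B A) hinj)
    ((trA (G := G) (B := B)).codRestrict (LinearMap.range (Algebra.linearMap B A)) trA_mem_range a)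
  exact congrArg Subtype.val this

end Trace

section Main

variable [Fintype G] [DecidableEq G] [Algebra.IsInvariant B A G]
  (hinj : Function.Injective (algebraMap B A))
  (S : Finset (A × A)) (hS : ∀ g : G, ∑ p ∈ S, p.1 * g • p.2 = if g = 1 then 1 else 0)

include hS in
theorem chr_symm (g : G) : ∑ p ∈ S, g • p.1 * p.2 = if g = 1 then 1 else 0 := by
  have h := congrArg (fun a => g • a) (hS g⁻¹)
  simp only [Finset.smul_sum, smul_mul', smul_inv_smul] at h
  rw [h]
  by_cases hg : g = 1
  · subst hg; simp
  · have : g⁻¹ ≠ 1 := fun h' => hg (inv_eq_one.mp h')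
    simp [hg, this]

include hS in
theorem dual_basis (a : A) : ∑ p ∈ S, algebraMap B A (trB (G := G) hinj (a * p.2)) * p.1 = a := by
  simp_rw [algebraMap_trB, Finset.sum_mul, smul_mul']
  rw [Finset.sum_comm]
  have : ∀ g : G, ∑ p ∈ S, g • a * g • p.2 * p.1 = g • a * (if g = 1 then 1 else 0) := by
    intro g
    rw [← hS g, Finset.mul_sum]
    exact Finset.sum_congr rfl fun p _ => by ring
  simp_rw [this]
  simp

include hS in
theorem dual_basis' (a : A) : ∑ p ∈ S, algebraMap B A (trB (G := G) hinj (a * p.1)) * p.2 = a := by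
  simp_rw [algebraMap_trB, Finset.sum_mul, smul_mul']
  rw [Finset.sum_comm]
  have : ∀ g : G, ∑ p ∈ S, g • a * g • p.1 * p.2 = g • a * (if g = 1 then 1 else 0) := by
    intro g
    rw [← chr_symm S hS g, Finset.mul_sum]
    exact Finset.sum_congr rfl fun p _ => by ring
  simp_rw [this]
  simp

include hS hinj in
theorem finite_projective : Module.Finite B A ∧ Module.Projective B A := by
  let i : A →ₗ[B] (S → B) := LinearMap.pi fun p => (trB (G := G) hinj) ∘ₗ (LinearMap.mulRight B (p : A × A).2)
  let s : (S → B) →ₗ[B] A := ∑ p : S, (LinearMap.toSpanSingleton B A (p : A × A).1) ∘ₗ (LinearMap.proj p)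
  have hsi : s ∘ₗ i = LinearMap.id := by
    ext a
    simp only [s, i, LinearMap.comp_apply, LinearMap.sum_apply, LinearMap.pi_apply, LinearMap.proj_apply,
      LinearMap.toSpanSingleton_apply, LinearMap.mulRight_apply, LinearMap.id_apply, Algebra.smul_def]
    rw [Finset.sum_coe_sort S (fun p => algebraMap B A (trB (G := G) hinj (a * p.2)) * p.1)]
    exact dual_basis hinj S hS a
  have hsurj : Function.Surjective s := fun a => ⟨i a, LinearMap.congr_fun hsi a⟩
  exact ⟨Module.Finite.of_surjective s hsurj, Module.Projective.of_split i s hsi⟩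

/-- the idempotent of the graph of `g` -/
noncomputable def graphElem (g : G) : A ⊗[B] A := ∑ p ∈ S, (g • p.1) ⊗ₜ[B] p.2

include hS in
theorem phi_graphElem (g h : G) :
    phi (B := B) h (graphElem (B := B) S g) = if h = g then 1 else 0 := by
  simp only [graphElem, map_sum, phi_tmul]
  have h1 := chr_symm S hS (h⁻¹ * g)
  have h2 := congrArg (fun a => h • a) h1
  simp only [Finset.smul_sum, smul_mul', mul_smul, smul_inv_smul] at h2
  rw [h2]
  by_cases hg : h = g
  · subst hg; simp
  · have : h⁻¹ * g ≠ 1 := fun h' => hg (by rw [inv_mul_eq_one] at h'; exact h')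
    simp [hg, this]

include hS hinj in
/-- every element of `A ⊗ A` is the combination of the graph idempotents with its `φ_g`-values -/
theorem eq_sum_graphElem (t : A ⊗[B] A) :
    t = ∑ g : G, (phi (B := B) g t ⊗ₜ[B] (1 : A)) * graphElem (B := B) S g := by
  induction t using TensorProduct.induction_on with
  | zero => simp
  | add x y hx hy =>
    conv_lhs => rw [hx, hy]
    rw [← Finset.sum_add_distrib]
    refine Finset.sum_congr rfl fun g _ => ?_
    rw [map_add, TensorProduct.add_tmul, add_mul]
  | tmul a a' =>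
    have h1 : a ⊗ₜ[B] a' = ∑ p ∈ S, (a * algebraMap B A (trB (G := G) hinj (a' * p.1))) ⊗ₜ[B] p.2 := by
      conv_lhs => rw [← dual_basis' hinj S hS a', TensorProduct.tmul_sum]
      refine Finset.sum_congr rfl fun p _ => ?_
      rw [← Algebra.smul_def, TensorProduct.tmul_smul, TensorProduct.smul_tmul', Algebra.smul_def,
        mul_comm]
    refine h1.trans ?_
    simp_rw [algebraMap_trB, Finset.mul_sum, TensorProduct.sum_tmul, graphElem, Finset.mul_sum,
      Algebra.TensorProduct.tmul_mul_tmul, phi_tmul, one_mul, smul_mul']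
    rw [Finset.sum_comm]
    refine Finset.sum_congr rfl fun g _ => Finset.sum_congr rfl fun p _ => ?_
    rw [mul_assoc]

include hS hinj in
theorem formallyUnramified : Algebra.FormallyUnramified B A := by
  haveI := (finite_projective hinj S hS).1
  rw [Algebra.FormallyUnramified.iff_exists_tensorProduct]
  refine ⟨graphElem (B := B) S (1 : G), fun s => ?_, ?_⟩
  · rw [eq_sum_graphElem hinj S hS ((1 ⊗ₜ[B] s - s ⊗ₜ[B] 1) * graphElem (B := B) S (1 : G))]
    refine Finset.sum_eq_zero fun g _ => ?_
    rw [map_mul, phi_graphElem S hS, map_sub, phi_tmul, phi_tmul]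
    by_cases hg : g = 1
    · subst hg; simp
    · simp [hg]
  · simp only [graphElem, one_smul, map_sum, Algebra.TensorProduct.lmul'_apply_tmul]
    have := hS 1
    simpa using this

include hS hinj in
theorem etale : Algebra.Etale B A := by
  haveI := (finite_projective hinj S hS).1
  haveI := (finite_projective hinj S hS).2
  haveI := formallyUnramified hinj S hS
  haveI : Module.FinitePresentation B A := Module.finitePresentation_of_projective B A
  exact Algebra.Etale.of_formallyUnramified_of_flat

include hS hinj in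
/-- transitivity on field-valued points of a fibre -/
theorem exists_smul_of_comp_eq {K : Type*} [Field K] (α₁ α₂ : A →+* K)
    (h : α₁.comp (algebraMap B A) = α₂.comp (algebraMap B A)) :
    ∃ g : G, ∀ a : A, α₂ a = α₁ (g • a) := by
  letI : Algebra B K := (α₁.comp (algebraMap B A)).toAlgebra
  let β₁ : A →ₐ[B] K := { α₁ with commutes' := fun b => rfl }
  let β₂ : A →ₐ[B] K := { α₂ with commutes' := fun b => (RingHom.congr_fun h b).symm }
  let α : A ⊗[B] A →ₐ[B] K := Algebra.TensorProduct.productMap β₁ β₂
  have hα : ∀ a a' : A, α (a ⊗ₜ[B] a') = α₁ a * α₂ a' := fun a a' => by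
    simp [α, β₁, β₂]
  have h1 : (1 : K) = ∑ g : G, α (graphElem (B := B) S g) := by
    have := congrArg α (eq_sum_graphElem hinj S hS (1 : A ⊗[B] A))
    rw [map_one, map_sum] at this
    rw [this]
    refine Finset.sum_congr rfl fun g _ => ?_
    rw [map_mul, map_one, ← Algebra.TensorProduct.one_def, map_one, one_mul]
  have h2 : ∃ g : G, α (graphElem (B := B) S g) ≠ 0 := by
    by_contra hcon
    simp only [not_exists, not_not] at hcon
    rw [Finset.sum_eq_zero fun g _ => hcon g] at h1
    exact one_ne_zero h1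
  obtain ⟨g, hg⟩ := h2
  refine ⟨g, fun a' => ?_⟩
  have h3 : (1 ⊗ₜ[B] a' - (g • a') ⊗ₜ[B] 1) * graphElem (B := B) S g = 0 := by
    rw [eq_sum_graphElem hinj S hS ((1 ⊗ₜ[B] a' - (g • a') ⊗ₜ[B] 1) * graphElem (B := B) S g)]
    refine Finset.sum_eq_zero fun k _ => ?_
    rw [map_mul, phi_graphElem S hS, map_sub, phi_tmul, phi_tmul]
    by_cases hk : k = g
    · subst hk; simp
    · simp [hk]
  have h4 := congrArg α h3
  rw [map_mul, map_zero, map_sub, hα, hα, map_one, map_one, one_mul, mul_one] at h4
  have h5 := (mul_eq_zero.mp h4).resolve_right hg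
  exact sub_eq_zero.mp h5

end Main

end Groth.Agent.Lib.T2H7.GalRingA
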