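import Groth.Agent.Lib.T2H7GalRingA

/-!
# T2H7: finite group quotients with locally constant inertia are flat

A finite group `G` acts on `A`, `B = A^G`.  Suppose for every `g` there is an idempotent `ε g`
("the locus where `g` is in the inertia group") such that `g` acts trivially on `A (ε g)` and
`1 - ε g` lies in the inertia ideal of `g`.  Then `A` is flat over `B`.
-/

set_option autoImplicit false
set_option linter.unusedSectionVars false
set_option linter.unusedVariables false
set_option linter.style.haveILetI false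

namespace Groth.Agent.Lib.T2H7.GalRingB

open TensorProduct Groth.Agent.Lib.T2H7.GalRingA

variable {G A B : Type*} [Group G] [CommRing A] [CommRing B] [Algebra B A]
  [MulSemiringAction G A] [SMulCommClass G B A]

theorem mul_eq_self_of_dvd {u e : A} (hu : IsIdempotentElem u) (h : u ∣ e) : e * u = e := by
  obtain ⟨c, rfl⟩ := h
  calc u * c * u = u * u * c := by ring
    _ = u * c := by rw [hu.eq]

theorem mul_eq_zero_of_one_sub_dvd {u e : A} (hu : IsIdempotentElem u) (h : (1 - u) ∣ e) :
    e * u = 0 := by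
  obtain ⟨c, rfl⟩ := h
  calc (1 - u) * c * u = (u - u * u) * c := by ring
    _ = 0 := by rw [hu.eq, sub_self, zero_mul]

section Struct

variable (ε : G → A) (hidem : ∀ g, IsIdempotentElem (ε g))
  (hb : ∀ (g : G) (a : A), (g • a - a) * ε g = 0)
  (hc : ∀ g : G, 1 - ε g ∈ inertiaIdeal (A := A) g)

include hb in
theorem inertia_mul_eps (g : G) (c : A) (hc' : c ∈ inertiaIdeal g) : c * ε g = 0 := by
  unfold inertiaIdeal at hc'
  induction hc' using Submodule.span_induction with
  | mem x hx => obtain ⟨a, rfl⟩ := hx; exact hb g a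
  | zero => exact zero_mul _
  | add x y _ _ hx hy => rw [add_mul, hx, hy, add_zero]
  | smul a x _ hx => rw [smul_eq_mul, mul_assoc, hx, mul_zero]

include hc in
theorem eps_one : ε 1 = 1 := by
  have h1 : inertiaIdeal (A := A) (1 : G) = ⊥ := by
    unfold inertiaIdeal
    rw [Ideal.span_eq_bot]
    rintro x ⟨a, rfl⟩
    simp
  have := hc 1
  rw [h1, Ideal.mem_bot, sub_eq_zero] at this
  exact this.symm

include hb in
theorem inertia_inv_mul_eps (g : G) (c : A) (hc' : c ∈ inertiaIdeal g⁻¹) : c * ε g = 0 := by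
  unfold inertiaIdeal at hc'
  induction hc' using Submodule.span_induction with
  | mem x hx =>
    obtain ⟨a, rfl⟩ := hx
    have := hb g (g⁻¹ • a)
    rw [smul_inv_smul] at this
    have h2 : (g⁻¹ • a - a) = -(a - g⁻¹ • a) := by ring
    change (g⁻¹ • a - a) * ε g = 0
    rw [h2, neg_mul, this, neg_zero]
  | zero => exact zero_mul _
  | add x y _ _ hx hy => rw [add_mul, hx, hy, add_zero]
  | smul a x _ hx => rw [smul_eq_mul, mul_assoc, hx, mul_zero]

include hb in
theorem inertia_mul_mul_eps (g h : G) (c : A) (hc' : c ∈ inertiaIdeal (g * h)) :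
    c * (ε g * ε h) = 0 := by
  unfold inertiaIdeal at hc'
  induction hc' using Submodule.span_induction with
  | mem x hx =>
    obtain ⟨a, rfl⟩ := hx
    have h1 := hb g (h • a)
    have h2 := hb h a
    change ((g * h) • a - a) * (ε g * ε h) = 0
    have : ((g * h) • a - a) * (ε g * ε h)
        = (g • h • a - h • a) * ε g * ε h + (h • a - a) * ε h * ε g := by
      rw [mul_smul]; ring
    rw [this, h1, h2, zero_mul, zero_mul, add_zero]
  | zero => exact zero_mul _
  | add x y _ _ hx hy => rw [add_mul, hx, hy, add_zero]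
  | smul a x _ hx => rw [smul_eq_mul, mul_assoc, hx, mul_zero]

include hb hc in
theorem eps_mul_eps_mul (g h : G) : ε g * ε h * (1 - ε (g * h)) = 0 := by
  rw [mul_comm]
  exact inertia_mul_mul_eps ε hb g h _ (hc (g * h))

include hb hc in
theorem eps_mul_inv (g : G) : ε g * (1 - ε g⁻¹) = 0 := by
  rw [mul_comm]
  exact inertia_inv_mul_eps ε hb g _ (hc g⁻¹)

include hb in
theorem eps_mul_phi (h : G) (t : A ⊗[B] A) :
    ε h * phi (B := B) h t = ε h * phi (B := B) (1 : G) t := by
  induction t using TensorProduct.induction_on with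
  | zero => simp
  | add x y hx hy => rw [map_add, map_add, mul_add, mul_add, hx, hy]
  | tmul a a' =>
    rw [phi_tmul, phi_tmul, one_smul]
    have := hb h a'
    have h2 : ε h * (a * h • a') - ε h * (a * a') = a * ((h • a' - a') * ε h) := by ring
    rw [← sub_eq_zero, h2, this, mul_zero]

include hidem hb hc in
/-- generalized CHR element: `φ_h t = ε h` for all `h` -/
theorem exists_chr' [Fintype G] [DecidableEq G] :
    ∃ t : A ⊗[B] A, ∀ h : G, phi (B := B) h t = ε h := by
  have h1 : ∀ g : G, ∃ t : A ⊗[B] A, phi (B := B) (1 : G) t = 1 ∧ phi (B := B) g t = ε g := by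
    intro g
    obtain ⟨u, hu1, hu2⟩ := exists_sep_of_mem (B := B) g (1 - ε g) (hc g)
    refine ⟨(ε g) ⊗ₜ[B] 1 + u, ?_, ?_⟩
    · rw [map_add, phi_one_tmul, hu1]; ring
    · rw [map_add, phi_tmul, hu2, smul_one, mul_one, add_zero]
  choose t ht1 ht2 using h1
  refine ⟨∏ g : G, t g, fun h => ?_⟩
  rw [map_prod]
  have key : ∀ s : Finset G, ε h * ∏ g ∈ s, phi (B := B) h (t g) = ε h := by
    intro s
    induction s using Finset.induction_on with
    | empty => simp
    | insert g s hg ih =>
      rw [Finset.prod_insert hg, ← mul_assoc, eps_mul_phi ε hb h (t g), ht1, mul_one, ih]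
  rw [← Finset.mul_prod_erase Finset.univ _ (Finset.mem_univ h), ht2]
  exact key _

include hidem hb hc in
theorem exists_chr'_finset (B : Type*) [CommRing B] [Algebra B A] [SMulCommClass G B A]
    [Fintype G] [DecidableEq G] :
    ∃ S : Finset (A × A), ∀ g : G, ∑ p ∈ S, p.1 * g • p.2 = ε g := by
  obtain ⟨t, ht⟩ := exists_chr' (B := B) ε hidem hb hc
  obtain ⟨S, rfl⟩ := TensorProduct.exists_finset t
  refine ⟨S, fun g => ?_⟩
  rw [← ht g, map_sum]
  exact Finset.sum_congr rfl fun p _ => (phi_tmul g p.1 p.2).symm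

end Struct

section Away

variable [Fintype G] [Algebra.IsInvariant B A G] (hinj : Function.Injective (algebraMap B A))
  (ε : G → A) (hb : ∀ (g : G) (a : A), (g • a - a) * ε g = 0)
  (I : Subgroup G) [Fintype (G ⧸ I)] (e : A) (he : IsIdempotentElem e)
  (heI : ∀ g ∈ I, e * ε g = e) (heI' : ∀ g ∉ I, e * ε g = 0)

include hb heI in
theorem smul_e_mul_eps (i : G) (hi : i ∈ I) : (i • e) * ε i = e := by
  have := hb i e
  rw [sub_mul, sub_eq_zero] at this
  rw [this, heI i hi]

include hb heI he in
theorem smul_e (i : G) (hi : i ∈ I) : i • e = e := by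
  have hie : IsIdempotentElem (i • e) := by
    change (i • e) * (i • e) = i • e
    rw [← smul_mul', he.eq]
  have h1 := smul_e_mul_eps ε hb I e heI i hi
  have h2 := smul_e_mul_eps ε hb I e heI i⁻¹ (I.inv_mem hi)
  have h3 := congrArg (fun a => i • a) h2
  simp only [smul_mul', smul_inv_smul] at h3
  -- h3 : e * i • ε i⁻¹ = i • e
  have h4 : (i • e) * e = i • e := by
    calc (i • e) * e = e * i • ε i⁻¹ * e := by rw [h3]
      _ = e * e * i • ε i⁻¹ := by ring
      _ = i • e := by rw [he.eq, h3]
  have h5 : e * (i • e) = e := by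
    calc e * (i • e) = (i • e) * ε i * (i • e) := by rw [h1]
      _ = (i • e) * (i • e) * ε i := by ring
      _ = e := by rw [hie.eq, h1]
  calc i • e = (i • e) * e := h4.symm
    _ = e * (i • e) := mul_comm _ _
    _ = e := h5

include hb heI in
theorem smul_mul_e (i : G) (hi : i ∈ I) (a : A) : (i • a) * e = a * e := by
  have := hb i a
  have h2 : (i • a - a) * e = (i • a - a) * ε i * e := by
    rw [mul_assoc, mul_comm (ε i) e, heI i hi]
  rw [this, zero_mul, sub_mul, sub_eq_zero] at h2
  exact h2

include hb heI he in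
theorem smul_mul_e' (i : G) (hi : i ∈ I) (a : A) : i • (a * e) = a * e := by
  rw [smul_mul', smul_e ε hb I e he heI i hi, smul_mul_e ε hb I e heI i hi]

/-- the `G/I`-trace of the `e`-component, as a `B`-linear endomorphism of `A` -/
noncomputable def trIA : A →ₗ[B] A :=
  ∑ k : G ⧸ I, (MulSemiringAction.toAlgHom B A (Quotient.out k)).toLinearMap ∘ₗ LinearMap.mulRight B e

theorem trIA_apply (a : A) :
    trIA (B := B) I e a = ∑ k : G ⧸ I, (Quotient.out k) • (a * e) := by
  simp [trIA, LinearMap.sum_apply]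

include hb heI he in
theorem smul_trIA (h : G) (a : A) : h • trIA (B := B) I e a = trIA (B := B) I e a := by
  rw [trIA_apply, Finset.smul_sum]
  refine Fintype.sum_equiv (MulAction.toPerm h : (G ⧸ I) ≃ (G ⧸ I)) _ _ fun k => ?_
  rw [MulAction.toPerm_apply, ← mul_smul]
  have hk : h • k = QuotientGroup.mk (h * Quotient.out k) := by
    conv_lhs => rw [← QuotientGroup.out_eq' k]
    rfl
  obtain ⟨i, hi⟩ := QuotientGroup.mk_out_eq_mul I (h * Quotient.out k)
  rw [hk, hi, mul_smul (h * Quotient.out k) (i : G), smul_mul_e' ε hb I e he heI i i.2]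

include hb heI he in
theorem trIA_mem_range (a : A) :
    trIA (B := B) I e a ∈ LinearMap.range (Algebra.linearMap B A) := by
  obtain ⟨b, hb'⟩ := Algebra.IsInvariant.isInvariant (A := B) (B := A) (G := G)
    (trIA (B := B) I e a) (fun g => smul_trIA ε hb I e he heI g a)
  exact ⟨b, hb'⟩

/-- the trace with values in `B` -/
noncomputable def trIB : A →ₗ[B] B :=
  (LinearEquiv.ofInjective (Algebra.linearMap B A) hinj).symm.toLinearMap ∘ₗ
    (trIA (B := B) I e).codRestrict (LinearMap.range (Algebra.linearMap B A))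
      (trIA_mem_range ε hb I e he heI)

theorem algebraMap_trIB (a : A) :
    algebraMap B A (trIB hinj ε hb I e he heI a) = ∑ k : G ⧸ I, (Quotient.out k) • (a * e) := by
  rw [← trIA_apply (B := B)]
  have := LinearEquiv.apply_symm_apply (LinearEquiv.ofInjective (Algebra.linearMap B A) hinj)
    ((trIA (B := B) I e).codRestrict (LinearMap.range (Algebra.linearMap B A))
      (trIA_mem_range ε hb I e he heI) a)
  exact congrArg Subtype.val this

theorem trIB_congr (a a' : A) (h : a * e = a' * e) (y : A) :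
    trIB hinj ε hb I e he heI (a * y) = trIB hinj ε hb I e he heI (a' * y) := by
  apply hinj
  rw [algebraMap_trIB, algebraMap_trIB]
  have : a * y * e = a' * y * e := by
    calc a * y * e = a * e * y := by ring
      _ = a' * e * y := by rw [h]
      _ = a' * y * e := by ring
  rw [this]

variable (S : Finset (A × A)) (hS : ∀ g : G, ∑ p ∈ S, p.1 * g • p.2 = ε g)

include hS heI' in
theorem dual_basis_away [DecidableEq (G ⧸ I)] (a : A) :
    ∑ p ∈ S, algebraMap B A (trIB hinj ε hb I e he heI (a * p.2)) * (p.1 * e) = a * e := by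
  simp_rw [algebraMap_trIB, Finset.sum_mul, smul_mul']
  rw [Finset.sum_comm]
  have hterm : ∀ k : G ⧸ I, ∑ p ∈ S, (Quotient.out k) • a * (Quotient.out k) • p.2 *
      (Quotient.out k) • e * (p.1 * e) =
      (Quotient.out k) • a * ((Quotient.out k) • e * (e * ε (Quotient.out k))) := by
    intro k
    rw [← hS (Quotient.out k), Finset.mul_sum, Finset.mul_sum, Finset.mul_sum]
    exact Finset.sum_congr rfl fun p _ => by ring
  simp_rw [hterm]
  rw [Finset.sum_eq_single (QuotientGroup.mk (1 : G) : G ⧸ I)]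
  · obtain ⟨i, hi⟩ := QuotientGroup.mk_out_eq_mul I (1 : G)
    rw [one_mul] at hi
    have hiI : Quotient.out (QuotientGroup.mk (1 : G) : G ⧸ I) ∈ I := by rw [hi]; exact i.2
    rw [heI _ hiI, smul_e ε hb I e he heI _ hiI, he.eq, smul_mul_e ε hb I e heI _ hiI]
  · intro k _ hk
    have hkI : Quotient.out k ∉ I := by
      intro hmem
      apply hk
      rw [← QuotientGroup.out_eq' k]
      exact QuotientGroup.eq.mpr (by simpa using I.inv_mem hmem)
    rw [heI' _ hkI, mul_zero, mul_zero]
  · intro h; exact absurd (Finset.mem_univ _) h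

include hinj hb he heI hS heI' in
theorem projective_away : Module.Projective B (Localization.Away e) := by
  classical
  let C := Localization.Away e
  let π : A →ₗ[B] C := (IsScalarTower.toAlgHom B A C).toLinearMap
  have hπ : Function.Surjective π :=
    IsLocalization.Away.algebraMap_surjective_of_isIdempotentElem e he
  have hπe : algebraMap A C e = 1 := by
    have hu : IsUnit (algebraMap A C e) := IsLocalization.Away.algebraMap_isUnit e
    have hi : algebraMap A C e * algebraMap A C e = algebraMap A C e := by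
      rw [← map_mul, he.eq]
    exact (IsUnit.mul_eq_left hu).mp hi
  have hker : ∀ a : A, π a = 0 → a * e = 0 := by
    intro a ha
    have ha' : algebraMap A C a = algebraMap A C 0 := by rw [map_zero]; exact ha
    obtain ⟨⟨c, n, rfl⟩, hc⟩ := (IsLocalization.eq_iff_exists (Submonoid.powers e) C).mp ha'
    simp only [mul_zero] at hc
    rcases n with _ | n
    · simp only [pow_zero, one_mul] at hc
      rw [hc, zero_mul]
    · rw [he.pow_succ_eq] at hc
      rw [mul_comm]; exact hc
  let ι₀ : A →ₗ[B] (S → B) :=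
    LinearMap.pi fun p => (trIB hinj ε hb I e he heI) ∘ₗ (LinearMap.mulRight B (p : A × A).2)
  have hle : LinearMap.ker π ≤ LinearMap.ker ι₀ := by
    intro a ha
    rw [LinearMap.mem_ker] at ha ⊢
    ext p
    simp only [ι₀, LinearMap.pi_apply, LinearMap.comp_apply, LinearMap.mulRight_apply, Pi.zero_apply]
    have := trIB_congr hinj ε hb I e he heI a 0 (by rw [hker a ha, zero_mul]) (p : A × A).2
    rw [this, zero_mul, map_zero]
  let i : C →ₗ[B] (S → B) :=
    ((LinearMap.ker π).liftQ ι₀ hle) ∘ₗ (LinearMap.quotKerEquivOfSurjective π hπ).symm.toLinearMap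
  have hi : ∀ a : A, i (π a) = ι₀ a := by
    intro a
    have h1 : (LinearMap.quotKerEquivOfSurjective π hπ).symm (π a) = Submodule.Quotient.mk a := by
      rw [LinearEquiv.symm_apply_eq]
      rfl
    simp only [i, LinearMap.comp_apply, LinearEquiv.coe_coe, h1, Submodule.liftQ_apply]
  let s : (S → B) →ₗ[B] C :=
    ∑ p : S, (LinearMap.toSpanSingleton B C (algebraMap A C (p : A × A).1)) ∘ₗ (LinearMap.proj p)
  have hsi : s ∘ₗ i = LinearMap.id := by
    apply LinearMap.ext
    intro c
    obtain ⟨a, rfl⟩ := hπ c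
    rw [LinearMap.comp_apply, hi a]
    simp only [s, ι₀, LinearMap.sum_apply, LinearMap.comp_apply, LinearMap.proj_apply,
      LinearMap.pi_apply, LinearMap.toSpanSingleton_apply, LinearMap.mulRight_apply,
      LinearMap.id_apply]
    have h1 : ∀ p : S, trIB hinj ε hb I e he heI (a * (p : A × A).2) • algebraMap A C (p : A × A).1
        = algebraMap A C (algebraMap B A (trIB hinj ε hb I e he heI (a * (p : A × A).2)) *
          ((p : A × A).1 * e)) := by
      intro p
      rw [(algebraMap A C).map_mul, (algebraMap A C).map_mul, hπe, mul_one, Algebra.smul_def,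
        IsScalarTower.algebraMap_apply B A C]
    simp_rw [h1]
    rw [← map_sum, Finset.sum_coe_sort S
      (fun p => algebraMap B A (trIB hinj ε hb I e he heI (a * p.2)) * (p.1 * e)),
      dual_basis_away hinj ε hb I e he heI heI' S hS a, (algebraMap A C).map_mul, hπe, mul_one]
    rfl
  exact Module.Projective.of_split i s hsi

end Away

end Groth.Agent.Lib.T2H7.GalRingB

namespace Groth.Agent.Lib.T2H7.GalRingB

open TensorProduct Groth.Agent.Lib.T2H7.GalRingA

universe u

section Final

variable {G : Type*} {A B : Type u} [Group G] [CommRing A] [CommRing B] [Algebra B A]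
  [MulSemiringAction G A] [SMulCommClass G B A] [Finite G] [Algebra.IsInvariant B A G]

/-- Locally constant inertia implies flatness of `A` over the invariants `B`. -/
theorem flat_of_eps (hinj : Function.Injective (algebraMap B A))
    (ε : G → A) (hidem : ∀ g, IsIdempotentElem (ε g))
    (hb : ∀ (g : G) (a : A), (g • a - a) * ε g = 0)
    (hc : ∀ g : G, 1 - ε g ∈ inertiaIdeal (A := A) g) : Module.Flat B A := by
  classical
  haveI : Fintype G := Fintype.ofFinite G
  obtain ⟨S, hS⟩ := exists_chr'_finset ε hidem hb hc B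
  -- the idempotent attached to a prime
  let eq : Ideal A → A := fun 𝔮 =>
    (∏ g ∈ Finset.univ.filter (fun g : G => ε g ∉ 𝔮), ε g) *
      ∏ g ∈ Finset.univ.filter (fun g : G => ε g ∈ 𝔮), (1 - ε g)
  have hnot : ∀ (𝔮 : Ideal A) [𝔮.IsPrime] (g : G), ε g ∈ 𝔮 → 1 - ε g ∉ 𝔮 := by
    intro 𝔮 _ g h1 h2
    have : (1 : A) ∈ 𝔮 := by
      have := 𝔮.add_mem h1 h2
      rwa [add_sub_cancel] at this
    exact (Ideal.IsPrime.ne_top ‹_›) ((Ideal.eq_top_iff_one _).mpr this)
  have heq_notMem : ∀ (𝔮 : Ideal A) [𝔮.IsPrime], eq 𝔮 ∉ 𝔮 := by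
    intro 𝔮 _ hmem
    rcases (Ideal.IsPrime.mem_or_mem ‹_› hmem) with h | h
    · rw [Ideal.IsPrime.prod_mem_iff] at h
      obtain ⟨g, hg, hg'⟩ := h
      exact (Finset.mem_filter.mp hg).2 hg'
    · rw [Ideal.IsPrime.prod_mem_iff] at h
      obtain ⟨g, hg, hg'⟩ := h
      exact hnot 𝔮 g (Finset.mem_filter.mp hg).2 hg'
  have heq_idem : ∀ 𝔮 : Ideal A, IsIdempotentElem (eq 𝔮) := by
    intro 𝔮
    refine IsIdempotentElem.mul ?_ ?_
    · exact Finset.prod_induction _ IsIdempotentElem (fun a b ha hb => ha.mul hb)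
        IsIdempotentElem.one (fun g _ => hidem g)
    · exact Finset.prod_induction _ IsIdempotentElem (fun a b ha hb => ha.mul hb)
        IsIdempotentElem.one (fun g _ => (hidem g).one_sub)
  have heq_in : ∀ (𝔮 : Ideal A) (g : G), ε g ∉ 𝔮 → eq 𝔮 * ε g = eq 𝔮 := by
    intro 𝔮 g hg
    refine mul_eq_self_of_dvd (hidem g) (Dvd.dvd.mul_right ?_ _)
    exact Finset.dvd_prod_of_mem _ (Finset.mem_filter.mpr ⟨Finset.mem_univ g, hg⟩)
  have heq_out : ∀ (𝔮 : Ideal A) (g : G), ε g ∈ 𝔮 → eq 𝔮 * ε g = 0 := by
    intro 𝔮 g hg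
    refine mul_eq_zero_of_one_sub_dvd (hidem g) (Dvd.dvd.mul_left ?_ _)
    exact Finset.dvd_prod_of_mem (fun g => 1 - ε g)
      (Finset.mem_filter.mpr ⟨Finset.mem_univ g, hg⟩)
  rw [← RingHom.flat_algebraMap_iff]
  let s : Set A := {x | ∃ (𝔮 : Ideal A) (_ : 𝔮.IsPrime), x = eq 𝔮}
  refine RingHom.Flat.ofLocalizationSpanTarget (algebraMap B A) s ?_ ?_
  · by_contra hne
    obtain ⟨𝔪, hm, hle⟩ := Ideal.exists_le_maximal _ hne
    haveI : 𝔪.IsPrime := hm.isPrime
    exact heq_notMem 𝔪 (hle (Ideal.subset_span ⟨𝔪, inferInstance, rfl⟩))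
  · rintro ⟨x, 𝔮, h𝔮, rfl⟩
    haveI := h𝔮
    -- the inertia subgroup at `𝔮`
    let I : Subgroup G :=
      { carrier := {g | ε g ∉ 𝔮}
        mul_mem' := by
          intro g h hg hh
          have h0 : ε g * ε h * (1 - ε (g * h)) ∈ 𝔮 := by
            rw [eps_mul_eps_mul ε hb hc g h]; exact 𝔮.zero_mem
          rcases Ideal.IsPrime.mem_or_mem ‹_› h0 with h1 | h1
          · rcases Ideal.IsPrime.mem_or_mem ‹_› h1 with h2 | h2
            · exact absurd h2 hg
            · exact absurd h2 hh
          · intro hmem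
            exact hnot 𝔮 (g * h) hmem h1
        one_mem' := by
          change ε 1 ∉ 𝔮
          rw [eps_one ε hc]
          intro h1
          exact (Ideal.IsPrime.ne_top ‹_›) ((Ideal.eq_top_iff_one _).mpr h1)
        inv_mem' := by
          intro g hg
          have h0 : ε g * (1 - ε g⁻¹) ∈ 𝔮 := by
            rw [eps_mul_inv ε hb hc g]; exact 𝔮.zero_mem
          rcases Ideal.IsPrime.mem_or_mem ‹_› h0 with h1 | h1
          · exact absurd h1 hg
          · intro hmem
            exact hnot 𝔮 g⁻¹ hmem h1 }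
    haveI : Fintype (G ⧸ I) := Fintype.ofFinite _
    have hproj : Module.Projective B (Localization.Away (eq 𝔮)) :=
      projective_away hinj ε hb I (eq 𝔮) (heq_idem 𝔮)
        (fun g hg => heq_in 𝔮 g hg)
        (fun g hg => heq_out 𝔮 g (by
          by_contra hcon
          exact hg hcon)) S hS
    change RingHom.Flat ((algebraMap A (Localization.Away (eq 𝔮))).comp (algebraMap B A))
    rw [← IsScalarTower.algebraMap_eq B A (Localization.Away (eq 𝔮)), RingHom.flat_algebraMap_iff]
    infer_instance

end Final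

end Groth.Agent.Lib.T2H7.GalRingB
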