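import Mathlib.AlgebraicGeometry.PullbackCarrier
import Mathlib.AlgebraicGeometry.ResidueField
import Mathlib.FieldTheory.IsAlgClosed.AlgebraicClosure
import Mathlib.FieldTheory.Normal.Basic

/-!
# T2H7 GaloisOrbit: fibres of `X_{k̄} → X` are Galois orbits

* `exists_algEquiv_comp`: two embeddings of `k̄` into a field agreeing on `k` differ by an
  automorphism of `k̄` over `k`.
* `exists_Spec_field_of_map_eq`: two points of a scheme `P` with the same image under `g : P ⟶ X`
  are the images of two morphisms from the spectrum of a field equalised by `g`.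
-/

set_option autoImplicit false
set_option linter.unusedSectionVars false
set_option linter.unusedVariables false
set_option linter.style.haveILetI false
universe u
open CategoryTheory AlgebraicGeometry Limits

namespace Groth.Agent.Lib.T2H7.GaloisOrbit

theorem exists_algEquiv_comp {k : Type u} [Field k] {Ω : Type u} [Field Ω]
    (jx jy : AlgebraicClosure k →+* Ω)
    (h : jx.comp (algebraMap k (AlgebraicClosure k)) = jy.comp (algebraMap k (AlgebraicClosure k))) :
    ∃ σ : AlgebraicClosure k ≃ₐ[k] AlgebraicClosure k,
      jx.comp (σ : AlgebraicClosure k →+* AlgebraicClosure k) = jy := by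
  letI : Algebra k Ω := (jx.comp (algebraMap k (AlgebraicClosure k))).toAlgebra
  letI : Algebra (AlgebraicClosure k) Ω := jx.toAlgebra
  haveI : IsScalarTower k (AlgebraicClosure k) Ω := IsScalarTower.of_algebraMap_eq (fun _ => rfl)
  let ϕ : AlgebraicClosure k →ₐ[k] Ω :=
    { jy with commutes' := fun r => (RingHom.congr_fun h r).symm }
  haveI : Normal k (AlgebraicClosure k) := inferInstance
  refine ⟨ϕ.restrictNormal' (AlgebraicClosure k), ?_⟩
  ext x
  exact ϕ.restrictNormal_commutes (AlgebraicClosure k) x

theorem exists_Spec_field_of_map_eq {P X : Scheme.{u}} (g : P ⟶ X) (x y : P)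
    (hxy : g.base x = g.base y) :
    ∃ (Ω : Type u) (_ : Field Ω) (a b : Spec (CommRingCat.of Ω) ⟶ P),
      a ≫ g = b ≫ g ∧ (∀ s, a.base s = x) ∧ (∀ s, b.base s = y) := by
  obtain ⟨w, hw1, hw2⟩ := Scheme.Pullback.exists_preimage_pullback (f := g) (g := g) x y hxy
  refine ⟨(pullback g g).residueField w, inferInstance,
    (pullback g g).fromSpecResidueField w ≫ pullback.fst g g,
    (pullback g g).fromSpecResidueField w ≫ pullback.snd g g, ?_, ?_, ?_⟩
  · rw [Category.assoc, Category.assoc, pullback.condition]
  · intro s
    change (pullback.fst g g).base (((pullback g g).fromSpecResidueField w).base s) = x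
    rw [Scheme.fromSpecResidueField_apply]
    exact hw1
  · intro s
    change (pullback.snd g g).base (((pullback g g).fromSpecResidueField w).base s) = y
    rw [Scheme.fromSpecResidueField_apply]
    exact hw2

end Groth.Agent.Lib.T2H7.GaloisOrbit
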