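import Mathlib
import Groth.Agent.S2080

/-!
# helper7: scheme-level lemmas around generic finiteness

* `finite_fibre_of_qf`: a quasi-compact morphism which is locally quasi-finite near every point of
  a fibre has a finite fibre.
* `isFinite_restrict_of_le`, `exists_affine_open_isFinite₂`, `isFinite_of_surjective_comp`,
  `isFinite_restrict_of_comp`.
-/

set_option autoImplicit false
set_option linter.unusedSectionVars false
set_option linter.unusedVariables false
set_option linter.style.haveILetI false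
universe u
open CategoryTheory CategoryTheory.Limits AlgebraicGeometry Opposite

namespace Groth.Agent.Lib.T2H7.GenFinA

/-- a quasi-compact morphism which is locally quasi-finite near every point of the fibre over `v`
has a finite fibre over `v`. -/
theorem finite_fibre_of_qf {W V : Scheme.{u}} (h : W ⟶ V) [QuasiCompact h] (v : V)
    (H : ∀ w : W, h w = v → ∃ W' : W.Opens, w ∈ W' ∧ LocallyQuasiFinite (W'.ι ≫ h)) :
    (h ⁻¹' {v}).Finite := by
  refine (h.isCompact_preimage_singleton v).finite (isDiscrete_iff_forall_mem_exists_isOpen.2 ?_)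
  intro w hw
  obtain ⟨W', hwW', hlqf⟩ := H w hw
  have hd := (W'.ι ≫ h).isDiscrete_preimage_singleton v
  have hw' : (⟨w, hwW'⟩ : W') ∈ (W'.ι ≫ h) ⁻¹' {v} := by
    show (W'.ι ≫ h) ⟨w, hwW'⟩ = v
    rw [Scheme.Hom.comp_apply]
    exact hw
  obtain ⟨O, hO, hOeq⟩ := isDiscrete_iff_forall_mem_exists_isOpen.1 hd ⟨w, hwW'⟩ hw'
  refine ⟨W'.ι '' O, W'.ι.isOpenEmbedding.isOpenMap _ hO, ?_⟩
  ext z
  constructor
  · rintro ⟨⟨z', hz'O, rfl⟩, hz⟩
    have hz2 : z' ∈ O ∩ (W'.ι ≫ h) ⁻¹' {v} := by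
      refine ⟨hz'O, ?_⟩
      show (W'.ι ≫ h) z' = v
      rw [Scheme.Hom.comp_apply]
      exact hz
    rw [hOeq] at hz2
    rw [Set.mem_singleton_iff] at hz2
    subst hz2
    rfl
  · rintro rfl
    have h3 : (⟨z, hwW'⟩ : W') ∈ O ∩ (W'.ι ≫ h) ⁻¹' {v} := by rw [hOeq]; rfl
    exact ⟨⟨⟨z, hwW'⟩, h3.1, rfl⟩, hw⟩

/-- finiteness over an open is inherited by smaller opens. -/
theorem isFinite_restrict_of_le {X Y : Scheme.{u}} (f : X ⟶ Y) {V V' : Y.Opens}
    (hle : V' ≤ V) (hV : IsFinite (f ∣_ V)) : IsFinite (f ∣_ V') := by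
  have h1 : IsFinite (f ∣_ V ∣_ (V.ι ⁻¹ᵁ V')) := inferInstance
  have e1 := morphismRestrictRestrict f V (V.ι ⁻¹ᵁ V')
  have hV' : V.ι ''ᵁ (V.ι ⁻¹ᵁ V') = V' := by
    rw [Scheme.Hom.image_preimage_eq_opensRange_inf, Scheme.Opens.opensRange_ι]
    exact inf_eq_right.mpr hle
  have e2 := morphismRestrictEq f hV'
  exact (MorphismProperty.arrow_mk_iso_iff @IsFinite (e1 ≪≫ e2)).mp h1

/-- two morphisms to `V` with finite fibres over a generic point `v` are simultaneously finite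
over an affine open neighbourhood of `v`. -/
theorem exists_affine_open_isFinite₂ {W R V : Scheme.{u}} (h : W ⟶ V) (k : R ⟶ V)
    [LocallyOfFiniteType h] [QuasiCompact h] [QuasiSeparated h]
    [LocallyOfFiniteType k] [QuasiCompact k] [QuasiSeparated k] (v : V)
    (hv : closure {v} ∈ irreducibleComponents (V : Type u))
    (hh : (h ⁻¹' {v}).Finite) (hk : (k ⁻¹' {v}).Finite) :
    ∃ V' : V.Opens, IsAffineOpen V' ∧ v ∈ V' ∧ IsFinite (h ∣_ V') ∧ IsFinite (k ∣_ V') := by
  obtain ⟨V₁, -, hv₁, hf₁⟩ := (Groth.Agent.S2080.result h v hv).1 hh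
  obtain ⟨V₂, -, hv₂, hf₂⟩ := (Groth.Agent.S2080.result k v hv).1 hk
  obtain ⟨V', hV', hvV', hle⟩ :=
    (V.isBasis_affineOpens.exists_subset_of_mem_open
      (show v ∈ ((V₁ ⊓ V₂ : V.Opens) : Set V) from ⟨hv₁, hv₂⟩) (V₁ ⊓ V₂).2)
  obtain ⟨V'', hV''aff, rfl⟩ := hV'
  refine ⟨V'', hV''aff, hvV', ?_, ?_⟩
  · exact isFinite_restrict_of_le h (fun x hx => (hle hx).1) hf₁
  · exact isFinite_restrict_of_le k (fun x hx => (hle hx).2) hf₂

/-- if `p` is surjective, `q` is an affine morphism locally of finite type and `p ≫ q` is finite,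
then `q` is finite. -/
theorem isFinite_of_surjective_comp {W T V : Scheme.{u}} (p : W ⟶ T) (q : T ⟶ V)
    [Surjective p] [IsAffineHom q] [LocallyOfFiniteType q] [IsFinite (p ≫ q)] : IsFinite q := by
  haveI : UniversallyClosed q := UniversallyClosed.of_comp_surjective p q
  haveI : IsIntegralHom q := IsIntegralHom.iff_universallyClosed_and_isAffineHom.2
    ⟨inferInstance, inferInstance⟩
  exact (IsFinite.iff_isIntegralHom_and_locallyOfFiniteType q).2 ⟨inferInstance, inferInstance⟩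

/-- if `(s ≫ h) ∣_ V'` is finite and `h` is separated then `s` is finite over `h ⁻¹ V'`. -/
theorem isFinite_restrict_of_comp {R W V : Scheme.{u}} (s : R ⟶ W) (h : W ⟶ V) [IsSeparated h]
    (V' : V.Opens) (hf : IsFinite ((s ≫ h) ∣_ V')) : IsFinite (s ∣_ (h ⁻¹ᵁ V')) := by
  rw [morphismRestrict_comp] at hf
  exact @IsFinite.of_comp _ _ _ (s ∣_ (h ⁻¹ᵁ V')) (h ∣_ V') hf inferInstance

end Groth.Agent.Lib.T2H7.GenFinA
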