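import Mathlib
import Groth.Agent.Lib.T2H7KerPairGrpd

/-!
# helper7: quotient of an affine scheme by a finite etale equivalence relation is affine

Variant of `KerPairGrpd.exists_iso_yon_of_finite_etale` for an affine chart, which also returns
affineness of the quotient and the quotient map.
-/

set_option autoImplicit false
set_option linter.unusedSectionVars false
set_option linter.unusedVariables false
set_option linter.style.haveILetI false
universe u
open CategoryTheory CategoryTheory.Limits AlgebraicGeometry Opposite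
open Grpd AlgSp

namespace Groth.Agent.Lib.T2H7.GenFinB

open Groth.Agent.Lib.T2H7.KerPairGrpd

open Groth.Agent.Lib.Helper9 in
/-- **Quotient of an affine scheme by a finite etale equivalence relation.**  If `a : h_U ⟶ X` is
representable finite, etale and surjective and `U` is affine, then `X ≅ h_Y` for an affine scheme
`Y`, and under this isomorphism `a` is `h_p` for a surjective morphism `p : U ⟶ Y`. -/
theorem exists_iso_yon_affine {S : Scheme.{u}} {X : AlgSp.Sp S} {U : Over S} [IsAffine U.left]
    (a : (AlgSp.yon S).obj U ⟶ X)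
    (hf : AlgSp.RepWith @IsFinite a) (he : AlgSp.RepWith @Etale a)
    (hs : AlgSp.RepWith @Surjective a) :
    ∃ (Y : Over S) (e : (AlgSp.yon S).obj Y ≅ X) (p : U ⟶ Y), IsAffine Y.left ∧
      Surjective p.left ∧ (AlgSp.yon S).map p ≫ e.hom = a := by
  obtain ⟨R, s, t', sq⟩ := hf.1 a
  obtain ⟨t, rfl⟩ := (AlgSp.yon S).map_surjective t'
  have hsfin : IsFinite s.left := hf.2 a _ s sq
  have hset : Etale s.left := he.2 a _ s sq
  let G := grpd sq
  have ha : Mor2.IsFinLocFree G.s := by
    change Mor2.IsFinLocFree s.left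
    exact ⟨hsfin, inferInstance, inferInstance⟩
  have hb' : ∀ x : G.U, ∃ V : G.U.Opens, IsAffineOpen V ∧
      G.t.base '' (G.s.base ⁻¹' {x}) ⊆ (V : Set G.U) := by
    intro x
    exact ⟨⊤, isAffineOpen_top U.left, fun _ _ => trivial⟩
  obtain ⟨Y, p, w, ⟨hc⟩, -, hsurj, -, -, -, haff⟩ := Groth.Agent.S4085.result S G ha hb'
  haveI : Mono G.j := mono_j sq
  obtain ⟨hpb, hflf⟩ := Groth.Agent.S4086.result S G ha hb' Y p w hc
  have hcond : G.t ≫ U.hom = G.s ≫ U.hom := (Over.w t).trans (Over.w s).symm
  let pY : Y ⟶ S := Cofork.IsColimit.desc hc U.hom hcond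
  have hpY : p ≫ pY = U.hom := Cofork.IsColimit.π_desc hc
  let Y' : Over S := Over.mk pY
  let p' : U ⟶ Y' := Over.homMk p hpY
  have sqO : IsPullback t s p' p' :=
    IsPullback.of_map (Over.forget S) (by ext1; exact w) hpb
  have sqY : IsPullback ((AlgSp.yon S).map t) ((AlgSp.yon S).map s) ((AlgSp.yon S).map p')
      ((AlgSp.yon S).map p') := sqO.map (AlgSp.yon S)
  have hflat : Flat p'.left := hflf.2.1
  have hlfp : LocallyOfFinitePresentation p'.left := hflf.2.2
  have hsj : Surjective p'.left := hsurj
  have hepi : Epi ((AlgSp.yon S).map p') := by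
    haveI := Groth.Agent.S9885.isLocallySurjective_of_repWith ((AlgSp.yon S).map p')
      ((AlgSp.repWith_yon_map_iff @Flat p').2 hflat)
      ((AlgSp.repWith_yon_map_iff @LocallyOfFinitePresentation p').2 hlfp)
      ((AlgSp.repWith_yon_map_iff @Surjective p').2 hsj)
    exact (Sheaf.isLocallySurjective_iff_epi _).1 inferInstance
  have hepia : Epi a := Groth.Agent.S9927.epi_of_repWith a he hs
  obtain ⟨σ, hσ, -⟩ := existsUnique_desc_of_kernelPair ((AlgSp.yon S).map p') hepi
    ((AlgSp.yon S).map t) ((AlgSp.yon S).map s) sqY a sq.w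
  haveI : IsIso σ := isIso_of_kernelPair ((AlgSp.yon S).map p') a σ hσ.symm hepi hepia
    ((AlgSp.yon S).map t) ((AlgSp.yon S).map s) sqY.w sq
  have hYaff : IsAffine Y'.left := haff (inferInstanceAs (IsAffine U.left))
  exact ⟨Y', asIso σ, p', hYaff, hsj, hσ.symm⟩

end Groth.Agent.Lib.T2H7.GenFinB
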