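import Mathlib
import Groth.Agent.Lib.T2H7GenFinA
import Groth.Agent.Lib.T2H7GenFinB
import Groth.Agent.Lib.T2H7FinLocus
import Groth.Agent.Lib.T2H1FieldQuotF
import Groth.Agent.Lib.T2H1LimAffine3
import Groth.Agent.Lib.Helper12Proper
import Groth.Agent.S10509

/-!
# helper7: generic finiteness for an algebraic space over an affine scheme

`exists_open_isFiniteMor`: let `g : X₁ ⟶ h_V` be a quasi-separated morphism locally of finite
type from a quasi-compact algebraic space to an affine scheme, and `v` a generic point of an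
irreducible component of `V` such that every etale chart of `X₁` is quasi-finite over `V` at all
points over `v`.  Then `g` is finite over an affine open neighbourhood of `v`.
-/

set_option autoImplicit false
set_option linter.unusedSectionVars false
set_option linter.unusedVariables false
set_option linter.style.haveILetI false
universe u
open CategoryTheory CategoryTheory.Limits AlgebraicGeometry Opposite
open AlgSp

namespace Groth.Agent.Lib.T2H7.GenFinC

variable {S : Scheme.{u}}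

open Groth.Agent.Lib.T2H7.GenFinA Groth.Agent.Lib.T2H7.GenFinB

theorem exists_open_isFiniteMor {X₁ : AlgSp.Sp S} (hX₁ : AlgSp.IsAlgSpace X₁) {V : Over S}
    [IsAffine V.left] (g : X₁ ⟶ (AlgSp.yon S).obj V) (hqs : AlgSp.IsQuasiSeparatedMor g)
    (hlft : AlgSp.LocP @LocallyOfFiniteType g) (hqc : AlgSp.IsQuasiCompactSp X₁) (v : ↥V.left)
    (hv : closure {v} ∈ irreducibleComponents ↥V.left)
    (hqf : ∀ {W : Over S} (c : (AlgSp.yon S).obj W ⟶ X₁) (h : W ⟶ V), AlgSp.RepWith @Etale c →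
      c ≫ g = (AlgSp.yon S).map h → ∀ w : ↥W.left, h.left w = v →
        ∃ W' : W.left.Opens, w ∈ W' ∧ LocallyQuasiFinite (W'.ι ≫ h.left)) :
    ∃ V' : V.left.Opens, IsAffineOpen V' ∧ v ∈ V' ∧
      ∀ (P' : AlgSp.Sp S) (p₁ : P' ⟶ X₁)
        (p₂ : P' ⟶ (AlgSp.yon S).obj (Over.mk (V'.ι ≫ V.hom))),
        IsPullback p₁ p₂ g
          ((AlgSp.yon S).map (Over.homMk V'.ι rfl : Over.mk (V'.ι ≫ V.hom) ⟶ V)) →
        AlgSp.IsFiniteMor p₂ := by
  classical
  obtain ⟨W₀, c₀, hc₀e, hc₀s, hW₀⟩ := hqc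
  haveI : CompactSpace ↥W₀.left := hW₀
  obtain ⟨W₁, w₁, hW₁aff, hw₁e, hw₁s⟩ :=
    Groth.Agent.Lib.T2H1.LimAffine.exists_affine_etale_surjective W₀.left
  let W : Over S := Over.mk (w₁ ≫ W₀.hom)
  let ω : W ⟶ W₀ := Over.homMk w₁ rfl
  haveI hWaff : IsAffine W.left := hW₁aff
  let c : (AlgSp.yon S).obj W ⟶ X₁ := (AlgSp.yon S).map ω ≫ c₀
  have hce : AlgSp.RepWith @Etale c :=
    (AlgSp.RepWith @Etale).comp_mem _ _ ((AlgSp.repWith_yon_map_iff @Etale ω).2 hw₁e) hc₀e
  have hcs : AlgSp.RepWith @Surjective c :=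
    (AlgSp.RepWith @Surjective).comp_mem _ _ ((AlgSp.repWith_yon_map_iff @Surjective ω).2 hw₁s)
      hc₀s
  obtain ⟨h, hh⟩ := (AlgSp.yon S).map_surjective (c ≫ g)
  haveI : LocallyOfFiniteType h.left :=
    hlft c (𝟙 _) h hce (AlgSp.repWith_id _ V) (by rw [hh, Category.comp_id])
  have hfin_h : (h.left ⁻¹' {v}).Finite :=
    finite_fibre_of_qf h.left v (fun w hw => hqf c h hce hh.symm w hw)
  -- the kernel pair
  obtain ⟨R, s, t', sq⟩ := hce.1 c
  obtain ⟨t, rfl⟩ := (AlgSp.yon S).map_surjective t'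
  haveI hset : Etale s.left := hce.2 c _ s sq
  have hcqc : AlgSp.RepWith @QuasiCompact c :=
    Groth.Agent.Lib.T2H1.FieldQuot.repWith_quasiCompact_of_isQuasiSeparatedMor hX₁ g hqs c h
      hh.symm
  haveI hsqc : QuasiCompact s.left := hcqc.2 c _ s sq
  haveI : LocallyQuasiFinite s.left := Groth.Agent.S10265.locallyQuasiFinite_of_unramified _
  haveI : IsSeparated s.left := by
    have hc : t.left ≫ W.hom = s.left ≫ W.hom := (Over.w t).trans (Over.w s).symm
    let m : R.left ⟶ pullback W.hom W.hom := pullback.lift t.left s.left hc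
    have hm1 : m ≫ pullback.fst W.hom W.hom = t.left := pullback.lift_fst _ _ _
    have hm2 : m ≫ pullback.snd W.hom W.hom = s.left := pullback.lift_snd _ _ _
    haveI : Mono m := ⟨fun α β h =>
      Groth.Agent.Lib.T2H7.KerPairGrpd.hom_ext_left sq α β
        (by rw [← hm1, ← Category.assoc, h, Category.assoc])
        (by rw [← hm2, ← Category.assoc, h, Category.assoc])⟩
    rw [← hm2]
    infer_instance
  have hfin_k : ((s.left ≫ h.left) ⁻¹' {v}).Finite := by
    have e : (s.left ≫ h.left) ⁻¹' {v} = s.left ⁻¹' (h.left ⁻¹' {v}) := by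
      ext r
      simp only [Set.mem_preimage, Set.mem_singleton_iff, Scheme.Hom.comp_apply]
    rw [e]
    exact Scheme.Hom.finite_preimage s.left hfin_h
  obtain ⟨V', hV'aff, hvV', hfh, hfk⟩ :=
    exists_affine_open_isFinite₂ h.left (s.left ≫ h.left) v hv hfin_h hfin_k
  refine ⟨V', hV'aff, hvV', ?_⟩
  intro P' p₁ p₂ sqP
  let W' : W.left.Opens := h.left ⁻¹ᵁ V'
  have hsW' : IsFinite (s.left ∣_ W') := isFinite_restrict_of_comp s.left h.left V' hfk
  let VO : Over S := Over.mk (V'.ι ≫ V.hom)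
  let ιV : VO ⟶ V := Over.homMk V'.ι rfl
  let WO : Over S := Over.mk (W'.ι ≫ W.hom)
  let ιW : WO ⟶ W := Over.homMk W'.ι rfl
  let h' : WO ⟶ VO := Over.homMk (h.left ∣_ V') (by
    show (h.left ∣_ V') ≫ V'.ι ≫ V.hom = W'.ι ≫ W.hom
    rw [← Category.assoc, morphismRestrict_ι, Category.assoc, Over.w h])
  have comm : ιW ≫ h = h' ≫ ιV := by
    ext1
    exact (morphismRestrict_ι h.left V').symm
  have sqWV : IsPullback ((AlgSp.yon S).map h') ((AlgSp.yon S).map ιW) ((AlgSp.yon S).map ιV)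
      ((AlgSp.yon S).map h) := by
    have h0 : IsPullback h' ιW ιV h :=
      IsPullback.of_map (Over.forget S) comm.symm (isPullback_morphismRestrict h.left V')
    exact h0.map (AlgSp.yon S)
  let c' : (AlgSp.yon S).obj WO ⟶ P' := sqP.lift ((AlgSp.yon S).map ιW ≫ c) ((AlgSp.yon S).map h')
    (by rw [Category.assoc, ← hh, ← Functor.map_comp, ← Functor.map_comp, comm])
  have hc'1 : c' ≫ p₁ = (AlgSp.yon S).map ιW ≫ c := sqP.lift_fst _ _ _
  have hc'2 : c' ≫ p₂ = (AlgSp.yon S).map h' := sqP.lift_snd _ _ _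
  have sqc : IsPullback c' ((AlgSp.yon S).map ιW) p₁ c := by
    refine IsPullback.of_right ?_ hc'1 sqP.flip
    rw [hc'2, ← hh]
    exact sqWV
  have hc'e : AlgSp.RepWith @Etale c' := MorphismProperty.of_isPullback sqc.flip hce
  have hc's : AlgSp.RepWith @Surjective c' := MorphismProperty.of_isPullback sqc.flip hcs
  have hc'f : AlgSp.RepWith @IsFinite c' := by
    refine ⟨hc'e.1, fun T' Q gT fst snd sqQ => ?_⟩
    have big := (sqQ.flip.paste_vert sqc).flip
    refine Groth.Agent.Lib.T2H7.FinLocus.isFinite_snd_of_image c hce sq W' hsW' (gT ≫ p₁) ?_ _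
      snd big
    intro y
    obtain ⟨w', hw'⟩ := Groth.Agent.S10177.surjective_ofPt c' hc's (AlgSp.Points.ofPt gT y)
    refine ⟨W'.ι w', ?_, ?_⟩
    · have h1 := W'.range_ι
      have h2 : W'.ι w' ∈ Set.range W'.ι := ⟨w', rfl⟩
      rw [h1] at h2
      exact h2
    · have e1 : AlgSp.Points.ofPt (gT ≫ p₁) y = AlgSp.Points.map p₁ (AlgSp.Points.ofPt gT y) :=
        (AlgSp.Points.map_ofPt gT p₁ y).symm
      have e2 : AlgSp.Points.map p₁ (AlgSp.Points.ofPt c' w') =
          AlgSp.Points.ofPt (c' ≫ p₁) w' := AlgSp.Points.map_ofPt c' p₁ w'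
      have e3 : AlgSp.Points.ofPt ((AlgSp.yon S).map ιW ≫ c) w' =
          AlgSp.Points.ofPt c (ιW.left w') := Groth.Agent.S10509.ofPt_yon_map_comp ιW c w'
      rw [e1, ← hw', e2, hc'1, e3]
      rfl
  haveI : IsAffine WO.left := by
    show IsAffine W'.toScheme
    exact (hV'aff.preimage h.left : IsAffineOpen W')
  obtain ⟨T, e, p, hTaff, hpsurj, hpe⟩ := exists_iso_yon_affine c' hc'f hc'e hc's
  obtain ⟨q, hq⟩ := (AlgSp.yon S).map_surjective (e.hom ≫ p₂)
  have hpq : p ≫ q = h' := by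
    apply (AlgSp.yon S).map_injective
    rw [Functor.map_comp, hq, ← Category.assoc, hpe, hc'2]
  have hlft' : AlgSp.LocP @LocallyOfFiniteType p₂ :=
    Groth.Agent.Lib.Helper12.Proper.locP_lft_baseChange hX₁ (AlgSp.IsAlgSpace.yon_obj V)
      (AlgSp.IsAlgSpace.yon_obj VO) sqP hlft
  have hee : AlgSp.RepWith @Etale e.hom := MorphismProperty.of_isIso _ e.hom
  haveI : LocallyOfFiniteType q.left :=
    hlft' e.hom (𝟙 _) q hee (AlgSp.repWith_id _ VO) (by rw [hq, Category.comp_id])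
  haveI : IsAffine VO.left := by
    show IsAffine V'.toScheme
    exact hV'aff
  haveI : IsAffine T.left := hTaff
  haveI : Surjective p.left := hpsurj
  haveI : IsFinite (p.left ≫ q.left) := by
    rw [← Over.comp_left, hpq]
    exact hfh
  have hqfin : IsFinite q.left := isFinite_of_surjective_comp p.left q.left
  have hrep : AlgSp.RepWith @IsFinite ((AlgSp.yon S).map q) :=
    (AlgSp.repWith_yon_map_iff @IsFinite q).2 hqfin
  intro Z hZ z
  obtain ⟨W'', i, fst', sq''⟩ := hrep.1 z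
  have hi : IsFinite i.left := hrep.2 z fst' i sq''
  refine ⟨W'', i, fst' ≫ e.hom, ?_, ?_, hi⟩
  · exact IsPullback.of_iso sq'' (Iso.refl _) e (Iso.refl _) (Iso.refl _) (by simp) (by simp)
      (by simp [hq]) (by simp)
  · haveI := hZ
    exact isAffine_of_isAffineHom i.left

end Groth.Agent.Lib.T2H7.GenFinC
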