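import Mathlib
import Groth.Agent.Lib.T2H7GenFinC
import Groth.Agent.Lib.T2H1FibreQF
import Groth.Agent.Lib.T2H1HasAt
import Groth.Agent.Lib.T2H1HasAt1
import Groth.Agent.Lib.T2H1IrrFlat2
import Groth.Agent.Lib.T2H1StalkDim
import Groth.Agent.Lib.Helper12OpenSub
import Groth.Agent.Lib.Helper12OpenSub2
import Groth.Agent.Lib.Helper12LargestOpen
import Groth.Agent.Lib.Helper15QsComp
import Groth.Agent.S9874
import Groth.Agent.S9903
import Groth.Agent.S10268
import Groth.Agent.S10176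
import Groth.Agent.S10455
import Groth.Agent.S10509

/-!
# helper7: generic finiteness for an open subspace of the source

`exists_open_finite_of_open`: variant of `S10398` in which finiteness is asked only for the
restriction of `f : X ⟶ Y` to an open subspace `N ⊆ X` whose base changes to affine etale charts
of `Y` are quasi-compact.
-/

set_option autoImplicit false
set_option linter.unusedSectionVars false
set_option linter.unusedVariables false
set_option linter.style.haveILetI false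
universe u
open CategoryTheory CategoryTheory.Limits AlgebraicGeometry Opposite
open AlgSp

namespace Groth.Agent.Lib.T2H7.GenFinD

variable {S : Scheme.{u}}

open Groth.Agent.Lib.Helper12

theorem exists_open_finite_of_open {X Y : AlgSp.Space S} (f : X ⟶ Y)
    (hqs : AlgSp.IsQuasiSeparatedMor f.hom) (hlft : AlgSp.LocP @LocallyOfFiniteType f.hom)
    (N : Set (AlgSp.Points X.obj)) (hN : IsOpen N)
    (hqcN : ∀ (VA : Over S), IsAffine VA.left → ∀ (b : (AlgSp.yon S).obj VA ⟶ Y.obj),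
      AlgSp.RepWith @Etale b →
        AlgSp.IsQuasiCompactSp (pullback (OpenSub.incl X.obj N ≫ f.hom) b))
    (y : AlgSp.Points Y.obj)
    (hy : AlgSp.HasAt (fun U u => ringKrullDim ↥(U.presheaf.stalk u) = 0) Y.obj y)
    (hqf : ∀ x ∈ N, AlgSp.Points.map f.hom x = y → AlgSp.HasAtMor (fun U _ h u =>
      ∃ W : U.Opens, u ∈ W ∧ LocallyQuasiFinite (W.ι ≫ h) ∧ LocallyOfFiniteType (W.ι ≫ h))
        f.hom x) :
    ∃ (Y' : AlgSp.Space S) (j : Y' ⟶ Y), AlgSp.RepWith @IsOpenImmersion j.hom ∧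
      y ∈ Set.range (AlgSp.Points.map j.hom) ∧
      AlgSp.IsFiniteMor (pullback.snd (OpenSub.incl X.obj N ≫ f.hom) j.hom) := by
  classical
  let ι₀ : OpenSub.obj X.obj N ⟶ X.obj := OpenSub.incl X.obj N
  have hι₀ : AlgSp.RepWith @IsOpenImmersion ι₀ := OpenSub.repWith_incl hN
  have hι₀e : AlgSp.RepWith @Etale ι₀ :=
    OpenSub.repWith_mono (fun _ _ g hg => by haveI : IsOpenImmersion g := hg; infer_instance) hι₀
  let X'' : AlgSp.Space S := ⟨OpenSub.obj X.obj N, OpenSub.isAlgSpace_obj X.property hN⟩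
  let f₀ : X''.obj ⟶ Y.obj := ι₀ ≫ f.hom
  let f'' : X'' ⟶ Y := ObjectProperty.homMk f₀
  have hqs'' : AlgSp.IsQuasiSeparatedMor f₀ := by
    refine Groth.Agent.Lib.Helper15QsComp.isQuasiSeparatedMor_comp ι₀ f.hom ?_ hqs
    show AlgSp.RepWith @QuasiCompact (pullback.diagonal ι₀)
    exact MorphismProperty.of_isIso _ _
  have hlft'' : AlgSp.LocP @LocallyOfFiniteType f₀ := by
    intro U V a b h ha hb hc
    exact hlft (a ≫ ι₀) b h ((AlgSp.RepWith @Etale).comp_mem _ _ ha hι₀e) hb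
      (by rw [Category.assoc]; exact hc)
  obtain ⟨V₀, b₀, v₀, hb₀, hv₀, hdim₀⟩ := hy
  obtain ⟨A, hAaff, hv₀A, -⟩ :=
    exists_isAffineOpen_mem_and_subset (x := v₀) (U := (⊤ : V₀.left.Opens)) trivial
  let VA : Over S := Over.mk (A.ι ≫ V₀.hom)
  let ιA : VA ⟶ V₀ := Over.homMk A.ι rfl
  haveI hVAaff : IsAffine VA.left := hAaff
  let b : (AlgSp.yon S).obj VA ⟶ Y.obj := (AlgSp.yon S).map ιA ≫ b₀
  have hbe : AlgSp.RepWith @Etale b :=
    (AlgSp.RepWith @Etale).comp_mem _ _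
      ((AlgSp.repWith_yon_map_iff @Etale ιA).2 (inferInstanceAs (Etale A.ι))) hb₀
  let v : ↥VA.left := ⟨v₀, hv₀A⟩
  have hbv : AlgSp.Points.ofPt b v = y := by
    have e := Groth.Agent.S10509.ofPt_yon_map_comp ιA b₀ v
    exact e.trans hv₀
  have hdim : ringKrullDim ↥(VA.left.presheaf.stalk v) = 0 :=
    Groth.Agent.Lib.T2H1.HasAt.of_hasAt
      (Groth.Agent.Lib.T2H1.HasAt.etInv1_stalkDim (fun s => s = 0)) y
      ⟨V₀, b₀, v₀, hb₀, hv₀, hdim₀⟩ b hbe v hbv
  have hv : closure {v} ∈ irreducibleComponents ↥VA.left :=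
    (Groth.Agent.Lib.T2H1.IrrFlat.ringKrullDim_stalk_eq_zero_iff v).1 hdim
  -- the base change to the chart
  let X₁ : AlgSp.Sp S := pullback f₀ b
  let p₁ : X₁ ⟶ X''.obj := pullback.fst f₀ b
  let g : X₁ ⟶ (AlgSp.yon S).obj VA := pullback.snd f₀ b
  have sq₁ : IsPullback p₁ g f₀ b := IsPullback.of_hasPullback _ _
  have hX₁ : AlgSp.IsAlgSpace X₁ :=
    Groth.Agent.S9874.isAlgSpace_of_isPullback Y.property.diag X''.property
      (AlgSp.IsAlgSpace.yon_obj VA) sq₁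
  have hgqs : AlgSp.IsQuasiSeparatedMor g :=
    (Groth.Agent.S9903.result f'').2.1 hqs'' VA hVAaff b X₁ p₁ g sq₁
  have hglft : AlgSp.LocP @LocallyOfFiniteType g :=
    Groth.Agent.Lib.Helper12.Proper.locP_lft_baseChange X''.property Y.property
      (AlgSp.IsAlgSpace.yon_obj VA) sq₁ hlft''
  have hX₁qc : AlgSp.IsQuasiCompactSp X₁ := hqcN VA hVAaff b hbe
  have hp₁e : AlgSp.RepWith @Etale p₁ := MorphismProperty.of_isPullback sq₁.flip hbe
  have hqf' : ∀ {W : Over S} (c : (AlgSp.yon S).obj W ⟶ X₁) (h : W ⟶ VA),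
      AlgSp.RepWith @Etale c → c ≫ g = (AlgSp.yon S).map h → ∀ w : ↥W.left, h.left w = v →
        ∃ W' : W.left.Opens, w ∈ W' ∧ LocallyQuasiFinite (W'.ι ≫ h.left) := by
    intro W c h hce hcg w hw
    have hcomm : ((c ≫ p₁) ≫ ι₀) ≫ f.hom = (AlgSp.yon S).map h ≫ b := by
      have h0 : (c ≫ p₁) ≫ f₀ = (AlgSp.yon S).map h ≫ b := by
        rw [Category.assoc, sq₁.w, ← Category.assoc, hcg]
      rw [Category.assoc]
      exact h0
    have hcpe : AlgSp.RepWith @Etale ((c ≫ p₁) ≫ ι₀) :=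
      (AlgSp.RepWith @Etale).comp_mem _ _ ((AlgSp.RepWith @Etale).comp_mem _ _ hce hp₁e) hι₀e
    let x : AlgSp.Points X.obj := AlgSp.Points.ofPt ((c ≫ p₁) ≫ ι₀) w
    have hxN : x ∈ N := by
      have h1 : x ∈ Set.range (AlgSp.Points.map ι₀) :=
        ⟨AlgSp.Points.ofPt (c ≫ p₁) w, AlgSp.Points.map_ofPt (c ≫ p₁) ι₀ w⟩
      rwa [OpenSub.range_map_incl] at h1
    have hx : AlgSp.Points.map f.hom x = y := by
      have e1 : AlgSp.Points.map f.hom x = AlgSp.Points.ofPt (((c ≫ p₁) ≫ ι₀) ≫ f.hom) w :=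
        AlgSp.Points.map_ofPt ((c ≫ p₁) ≫ ι₀) f.hom w
      rw [e1, hcomm, Groth.Agent.S10509.ofPt_yon_map_comp, hw]
      exact hbv
    haveI : LocallyOfFiniteType h.left := hlft ((c ≫ p₁) ≫ ι₀) b h hcpe hbe hcomm
    have H0 := (Groth.Agent.Lib.T2H1.FibreQF.hasAtMor_qf_iff f hlft x).2 (hqf x hxN hx)
    have H1 : FlatMor.fibreDimAt h.left w = 0 :=
      Groth.Agent.Lib.T2H1.HasAt.of_hasAtMor
        (Groth.Agent.Lib.T2H1.HasAt.etInv_fibreDim (fun d => d = 0)) f.hom x H0 ((c ≫ p₁) ≫ ι₀) b h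
        hcpe hbe hcomm w rfl
    obtain ⟨W', hwW', hlqf, -⟩ := (Groth.Agent.S10455.qf_pred_iff h.left w).2 H1.le
    exact ⟨W', hwW', hlqf⟩
  obtain ⟨V', hV'aff, hvV', hfin⟩ :=
    Groth.Agent.Lib.T2H7.GenFinC.exists_open_isFiniteMor hX₁ g hgqs hglft hX₁qc v hv hqf'
  let VO : Over S := Over.mk (V'.ι ≫ VA.hom)
  let ιV : VO ⟶ VA := Over.homMk V'.ι rfl
  let b' : (AlgSp.yon S).obj VO ⟶ Y.obj := (AlgSp.yon S).map ιV ≫ b
  have hb'e : AlgSp.RepWith @Etale b' :=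
    (AlgSp.RepWith @Etale).comp_mem _ _
      ((AlgSp.repWith_yon_map_iff @Etale ιV).2 (inferInstanceAs (Etale V'.ι))) hbe
  let X₂ : AlgSp.Sp S := pullback g ((AlgSp.yon S).map ιV)
  let p₁' : X₂ ⟶ X₁ := pullback.fst g ((AlgSp.yon S).map ιV)
  let p₂ : X₂ ⟶ (AlgSp.yon S).obj VO := pullback.snd g ((AlgSp.yon S).map ιV)
  have sq₂ : IsPullback p₁' p₂ g ((AlgSp.yon S).map ιV) := IsPullback.of_hasPullback _ _
  have hp₂fin : AlgSp.IsFiniteMor p₂ := hfin X₂ p₁' p₂ sq₂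
  -- the open image of the chart
  let N : Set (AlgSp.Points Y.obj) := Set.range (AlgSp.Points.ofPt b')
  have hNopen : IsOpen N := (Groth.Agent.S10176.isOpenMap_ofPt b' hb'e).isOpen_range
  let Y'sp : AlgSp.Sp S := Groth.Agent.Lib.Helper12.OpenSub.obj Y.obj N
  let j₀ : Y'sp ⟶ Y.obj := Groth.Agent.Lib.Helper12.OpenSub.incl Y.obj N
  have hj₀ : AlgSp.RepWith @IsOpenImmersion j₀ :=
    Groth.Agent.Lib.Helper12.OpenSub.repWith_incl hNopen
  have hY' : AlgSp.IsAlgSpace Y'sp :=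
    Groth.Agent.Lib.Helper12.OpenSub.isAlgSpace_obj Y.property hNopen
  let X'sp : AlgSp.Sp S := pullback f₀ j₀
  have sqX' : IsPullback (pullback.fst f₀ j₀) (pullback.snd f₀ j₀) f₀ j₀ :=
    IsPullback.of_hasPullback _ _
  have hX' : AlgSp.IsAlgSpace X'sp :=
    Groth.Agent.S9874.isAlgSpace_of_isPullback Y.property.diag X''.property hY' sqX'
  let Y' : AlgSp.Space S := ⟨Y'sp, hY'⟩
  let X' : AlgSp.Space S := ⟨X'sp, hX'⟩
  let j : Y' ⟶ Y := ObjectProperty.homMk j₀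
  let fst : X' ⟶ Y' := ObjectProperty.homMk (pullback.snd f₀ j₀)
  refine ⟨Y', j, hj₀, ?_, ?_⟩
  · change y ∈ Set.range (AlgSp.Points.map j₀)
    rw [Groth.Agent.Lib.Helper12.OpenSub.range_map_incl]
    refine ⟨⟨v, hvV'⟩, ?_⟩
    have e := Groth.Agent.S10509.ofPt_yon_map_comp ιV b (⟨v, hvV'⟩ : ↥VO.left)
    exact e.trans hbv
  · -- the chart of `Y'`
    obtain ⟨p, hp⟩ := (Groth.Agent.Lib.Helper12.OpenSub.factor_iff N b').2 (fun t => ⟨t, rfl⟩)
    have sqp : IsPullback (𝟙 _) p b' j₀ := by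
      have h0 := Groth.Agent.Lib.Helper12.LargestOpen.isPullback_id_of_mono p j₀
      rwa [hp] at h0
    have hpe : AlgSp.RepWith @Etale p := MorphismProperty.of_isPullback sqp hb'e
    have hinj : Function.Injective (AlgSp.Points.map j₀) :=
      Groth.Agent.Lib.Helper12.LargestOpen.injective_map_of_open j₀ hj₀
    have hps : AlgSp.RepWith @Surjective p := by
      refine ⟨hpe.1, fun T Q gT fstQ sndQ sqQ => ⟨fun t => ?_⟩⟩
      have hmem : AlgSp.Points.map j₀ (AlgSp.Points.ofPt gT t) ∈ N := by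
        have h1 : AlgSp.Points.map j₀ (AlgSp.Points.ofPt gT t) ∈
            Set.range (AlgSp.Points.map j₀) := ⟨_, rfl⟩
        rwa [Groth.Agent.Lib.Helper12.OpenSub.range_map_incl] at h1
      obtain ⟨v'', hv''⟩ := hmem
      have e1 : AlgSp.Points.ofPt p v'' = AlgSp.Points.ofPt gT t := by
        apply hinj
        rw [AlgSp.Points.map_ofPt, hp]
        exact hv''
      obtain ⟨fQ, rfl⟩ := (AlgSp.yon S).map_surjective fstQ
      obtain ⟨z, -, hz⟩ := Groth.Agent.S10176.exists_point_of_isPullback_yon sqQ v'' t e1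
      exact ⟨z, hz⟩
    -- the comparison square
    have hcond : (p₁' ≫ p₁) ≫ f₀ = (p₂ ≫ p) ≫ j₀ := by
      rw [Category.assoc, sq₁.w, ← Category.assoc, sq₂.w, Category.assoc, Category.assoc, hp]
    let fstP : X₂ ⟶ X'sp := pullback.lift (p₁' ≫ p₁) (p₂ ≫ p) hcond
    have hfstP1 : fstP ≫ pullback.fst f₀ j₀ = p₁' ≫ p₁ := pullback.lift_fst _ _ _
    have hfstP2 : fstP ≫ pullback.snd f₀ j₀ = p₂ ≫ p := pullback.lift_snd _ _ _
    have big : IsPullback (p₁' ≫ p₁) p₂ f₀ ((AlgSp.yon S).map ιV ≫ b) := sq₂.paste_horiz sq₁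
    have sqP : IsPullback fstP p₂ (pullback.snd f₀ j₀) p := by
      refine IsPullback.of_right ?_ hfstP2 sqX'
      rw [hfstP1, hp]
      exact big
    exact (Groth.Agent.S10268.result fst VO p hpe hps fstP p₂ sqP).2 hp₂fin

end Groth.Agent.Lib.T2H7.GenFinD
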