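import Mathlib
import Groth.Agent.Lib.T2H1FibreQF
import Groth.Agent.Lib.T2H1FieldQuotF
import Groth.Agent.Lib.T2H7DecentFib
import Groth.Agent.S9903
import Groth.Agent.S10176
import Groth.Agent.S10509

/-!
# helper7: a finite fibre over a point of a decent space consists of quasi-finite points

`hasAtMor_qf_of_finite_fibre`: let `f : X ⟶ Y` be quasi-separated and locally of finite type with
`Y` decent.  If `|f|⁻¹(y)` is finite then `f` is quasi-finite at every point over `y`.
-/

set_option autoImplicit false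
set_option linter.unusedSectionVars false
set_option linter.unusedVariables false
set_option linter.style.haveILetI false
universe u
open CategoryTheory CategoryTheory.Limits AlgebraicGeometry Opposite
open AlgSp

namespace Groth.Agent.Lib.T2H7.GenFinE

variable {S : Scheme.{u}}

/-- a finite Jacobson space is discrete. -/
theorem discreteTopology_of_finite_jacobson (U : Type*) [TopologicalSpace U] [Finite U]
    [JacobsonSpace U] : DiscreteTopology U := by
  have hcl : IsClosed (closedPoints U) := by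
    have h1 : closedPoints U = ⋃ x ∈ closedPoints U, ({x} : Set U) := by
      ext x; simp
    rw [h1]
    exact (Set.toFinite (closedPoints U)).isClosed_biUnion (fun x hx => hx)
  have h2 : closedPoints U = Set.univ := by
    have h3 := JacobsonSpace.closure_inter_closedPoints (X := U) isClosed_univ
    rw [Set.univ_inter, hcl.closure_eq] at h3
    exact h3
  haveI : T1Space U := ⟨fun x => by
    have : x ∈ closedPoints U := by rw [h2]; trivial
    exact this⟩
  infer_instance

/-- an etale chart of a decent space from a quasi-compact scheme has finite fibres on points. -/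
theorem finite_fibre_ofPt_of_isDecent {X : AlgSp.Sp S} (hX : AlgSp.IsDecent X) {U : Over S}
    [CompactSpace ↥U.left] (a : (AlgSp.yon S).obj U ⟶ X) (het : AlgSp.RepWith @Etale a)
    (x : AlgSp.Points X) : (AlgSp.Points.ofPt a ⁻¹' {x}).Finite := by
  by_cases hx : ∃ u, AlgSp.Points.ofPt a u = x
  · obtain ⟨u, rfl⟩ := hx
    obtain ⟨R, s, t', sq⟩ := het.1 a
    obtain ⟨t, rfl⟩ := (AlgSp.yon S).map_surjective t'
    have h1 := Groth.Agent.S10176.preimage_ofPt_image sq.flip ({u} : Set ↥U.left)
    rw [Set.image_singleton] at h1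
    rw [h1]
    exact (Groth.Agent.Lib.T2H7.DecentFib.finite_fibre_of_isDecent hX a het sq u).image _
  · have : AlgSp.Points.ofPt a ⁻¹' {x} = ∅ := by
      ext u
      simp only [Set.mem_preimage, Set.mem_singleton_iff, Set.mem_empty_iff_false, iff_false]
      exact fun h => hx ⟨u, h⟩
    rw [this]
    exact Set.finite_empty

open Groth.Agent.Lib.T2H1.FibreQF Groth.Agent.Lib.T2H1.FieldSp in
/-- **finite fibres are quasi-finite.** -/
theorem hasAtMor_qf_of_finite_fibre {X Y : AlgSp.Space S} (f : X ⟶ Y)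
    (hqs : AlgSp.IsQuasiSeparatedMor f.hom) (hft : AlgSp.LocP @LocallyOfFiniteType f.hom)
    (hY : AlgSp.IsDecent Y.obj) (y : AlgSp.Points Y.obj)
    (hfin : (AlgSp.Points.map f.hom ⁻¹' {y}).Finite) (x : AlgSp.Points X.obj)
    (hx : AlgSp.Points.map f.hom x = y) :
    AlgSp.HasAtMor (fun U _ h u => ∃ W : U.Opens, u ∈ W ∧ LocallyQuasiFinite (W.ι ≫ h) ∧
      LocallyOfFiniteType (W.ι ≫ h)) f.hom x := by
  obtain ⟨r, rfl⟩ := Quotient.exists_rep y
  obtain ⟨r', Xk', fst', snd', hsq', hr', φ, hφ⟩ := exists_fibre_homeo f hY r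
  haveI : Finite ↥(AlgSp.Points.map f.hom ⁻¹' {AlgSp.Points.mk r}) := hfin
  haveI hXkfin : Finite (AlgSp.Points Xk'.obj) := Finite.of_equiv _ φ.toEquiv.symm
  haveI : IsAffine r'.pt.left := inferInstanceAs (IsAffine (Spec (CommRingCat.of r'.K)))
  have hsndqs : AlgSp.IsQuasiSeparatedMor snd' :=
    (Groth.Agent.S9903.result f).2.1 hqs r'.pt inferInstance r'.toHom Xk'.obj fst'.hom snd' hsq'
  have hdec : AlgSp.IsDecent Xk'.obj :=
    Groth.Agent.Lib.T2H1.FieldQuot.isDecent_of_isQuasiSeparatedMor Xk'.property snd' hsndqs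
  have hgood : GoodCharts Xk' := goodCharts_fibre f r' Xk' fst' snd' hsq' hft
  have hdisc : DiscreteTopology (AlgSp.Points Xk'.obj) := by
    rw [discreteTopology_iff_isOpen_singleton]
    intro xt
    obtain ⟨U₀, a₀, he₀, hs₀⟩ := Xk'.property.atlas
    obtain ⟨u₀, hu₀⟩ := Groth.Agent.S10177.surjective_ofPt a₀ hs₀ xt
    obtain ⟨A, hAaff, hu₀A, -⟩ :=
      exists_isAffineOpen_mem_and_subset (x := u₀) (U := (⊤ : U₀.left.Opens)) trivial
    let UA : Over S := Over.mk (A.ι ≫ U₀.hom)
    let ιA : UA ⟶ U₀ := Over.homMk A.ι rfl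
    haveI : IsAffine UA.left := hAaff
    let a : (AlgSp.yon S).obj UA ⟶ Xk'.obj := (AlgSp.yon S).map ιA ≫ a₀
    have hae : AlgSp.RepWith @Etale a :=
      (AlgSp.RepWith @Etale).comp_mem _ _
        ((AlgSp.repWith_yon_map_iff @Etale ιA).2 (inferInstanceAs (Etale A.ι))) he₀
    let u : ↥UA.left := ⟨u₀, hu₀A⟩
    have hau : AlgSp.Points.ofPt a u = xt :=
      (Groth.Agent.S10509.ofPt_yon_map_comp ιA a₀ u).trans hu₀
    haveI : Finite ↥UA.left := by
      rw [← Set.finite_univ_iff]
      refine Set.Finite.of_finite_fibers (AlgSp.Points.ofPt a) (Set.toFinite _) (fun z _ => ?_)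
      rw [Set.univ_inter]
      exact finite_fibre_ofPt_of_isDecent hdec a hae z
    haveI : JacobsonSpace ↥UA.left := (hgood UA a hae).2
    haveI : DiscreteTopology ↥UA.left := discreteTopology_of_finite_jacobson _
    have := isOpen_singleton_ofPt Xk' a hae u (isOpen_discrete _)
    rwa [hau] at this
  have hx' : AlgSp.Points.map f.hom x = AlgSp.Points.mk r' := hx.trans hr'.symm
  exact (discrete_iff_qf f r' Xk' fst' snd' hsq' hft).1 hdisc x hx'

end Groth.Agent.Lib.T2H7.GenFinE
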