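import Mathlib
import Groth.Agent.Lib.Helper1Sigma
import Groth.Agent.Lib.Helper1QcAtlas
import Groth.Agent.S10177
import Groth.Agent.S10509

/-!
# helper7: an affine etale chart through finitely many points of an algebraic space
-/

set_option autoImplicit false
set_option linter.unusedSectionVars false
set_option linter.unusedVariables false
set_option linter.style.haveILetI false
universe u
open CategoryTheory CategoryTheory.Limits AlgebraicGeometry Opposite
open AlgSp

namespace Groth.Agent.Lib.T2H7.GenFinF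

variable {S : Scheme.{u}}

open Groth.Agent.Lib.Helper1

/-- every point of an algebraic space lies in the image of an affine etale chart. -/
theorem exists_affine_chart {X : AlgSp.Sp S} (hX : AlgSp.IsAlgSpace X) (x : AlgSp.Points X) :
    ∃ (A : Over S) (a : (AlgSp.yon S).obj A ⟶ X) (u : ↥A.left), IsAffine A.left ∧
      AlgSp.RepWith @Etale a ∧ AlgSp.Points.ofPt a u = x := by
  obtain ⟨U₀, a₀, he₀, hs₀⟩ := hX.atlas
  obtain ⟨u₀, hu₀⟩ := Groth.Agent.S10177.surjective_ofPt a₀ hs₀ x
  obtain ⟨A, hAaff, hu₀A, -⟩ :=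
    exists_isAffineOpen_mem_and_subset (x := u₀) (U := (⊤ : U₀.left.Opens)) trivial
  let UA : Over S := Over.mk (A.ι ≫ U₀.hom)
  let ιA : UA ⟶ U₀ := Over.homMk A.ι rfl
  refine ⟨UA, (AlgSp.yon S).map ιA ≫ a₀, ⟨u₀, hu₀A⟩, hAaff, ?_, ?_⟩
  · exact (AlgSp.RepWith @Etale).comp_mem _ _
      ((AlgSp.repWith_yon_map_iff @Etale ιA).2 (inferInstanceAs (Etale A.ι))) he₀
  · exact (Groth.Agent.S10509.ofPt_yon_map_comp ιA a₀ _).trans hu₀

/-- finitely many points of an algebraic space lie in the image of one affine etale chart. -/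
theorem exists_affine_chart_of_finite {X : AlgSp.Sp S} (hX : AlgSp.IsAlgSpace X)
    (F : Set (AlgSp.Points X)) (hF : F.Finite) :
    ∃ (W : Over S) (a : (AlgSp.yon S).obj W ⟶ X), IsAffine W.left ∧ AlgSp.RepWith @Etale a ∧
      F ⊆ Set.range (AlgSp.Points.ofPt a) := by
  classical
  haveI : Finite ↥F := hF
  obtain ⟨n, ⟨e⟩⟩ := Finite.exists_equiv_fin ↥F
  let K : Type u := ULift.{u} (Fin n)
  let pt : K → AlgSp.Points X := fun k => (e.symm k.down : AlgSp.Points X)
  choose A a u hAaff hae hau using fun k : K => exists_affine_chart hX (pt k)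
  obtain ⟨α, hα⟩ := Sig.exists_desc_sheaf A a
  haveI : ∀ k, IsAffine (A k).left := hAaff
  haveI : Finite K := inferInstance
  refine ⟨Sig.sig A, α, ?_, ?_, ?_⟩
  · show IsAffine (∐ fun k => (A k).left)
    infer_instance
  · refine QcAtlas.repWith_of_sigma @Etale A α (hX.representable_from_yon α) (fun k => ?_)
    rw [hα k]
    exact hae k
  · intro x hx
    let k : K := ⟨e ⟨x, hx⟩⟩
    have hk : pt k = x := by
      show ((e.symm (e ⟨x, hx⟩) : ↥F) : AlgSp.Points X) = x
      rw [Equiv.symm_apply_apply]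
    refine ⟨(Sig.inj A k).left (u k), ?_⟩
    rw [← Groth.Agent.S10509.ofPt_yon_map_comp (Sig.inj A k) α (u k), hα k, hau k, hk]

end Groth.Agent.Lib.T2H7.GenFinF
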