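import Mathlib
import Groth.Agent.Lib.T2H7GenFinA
import Groth.Agent.Lib.T2H7FinLocus
import Groth.Agent.Lib.T2H1IrrFlat
import Groth.Agent.S2080

/-!
# helper7: scheme-level lemmas for generic finiteness, part G

* `mem_of_dense_of_mem_genericPoints`: in a space with finitely many irreducible components a
  dense open subset contains the generic points of the irreducible components.
* `finite_genericPoints_inter_fibre`: a morphism locally of finite type with compact source has
  finitely many points in a fibre which are generic points of irreducible components of the source.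
* `exists_affine_open_isFinite_of_separated`: a separated morphism locally of finite type all of
  whose generic points lie over a generic point `v` of the target, with finite fibre over `v`, is
  finite over a neighbourhood of `v`.
* `finite_fibre_of_jointly_mono`: finiteness of the fibre of a relation `R ⟶ W ×_V W`.
-/

set_option autoImplicit false
set_option linter.unusedSectionVars false
set_option linter.unusedVariables false
set_option linter.style.haveILetI false
universe u
open CategoryTheory CategoryTheory.Limits AlgebraicGeometry Opposite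

namespace Groth.Agent.Lib.T2H7.GenFinG

/-- in a space with finitely many irreducible components a dense open subset contains the generic
points of the irreducible components. -/
theorem mem_of_dense_of_mem_genericPoints {α : Type*} [TopologicalSpace α]
    (hfin : (irreducibleComponents α).Finite) {D : Set α} (hD : IsOpen D) (hDd : Dense D)
    {η : α} (hη : closure {η} ∈ irreducibleComponents α) : η ∈ D := by
  classical
  let Oth : Set α := ⋃₀ (irreducibleComponents α \ {closure {η}})
  have hOth : IsClosed Oth := by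
    change IsClosed (⋃₀ (irreducibleComponents α \ {closure {η}}))
    rw [Set.sUnion_eq_biUnion]
    exact (hfin.subset Set.sdiff_subset).isClosed_biUnion
      (fun Z hZ => isClosed_of_mem_irreducibleComponents Z hZ.1)
  have hηOth : η ∉ Oth := by
    rintro ⟨Z, ⟨hZ, hZne⟩, hxZ⟩
    apply hZne
    have h2 : closure {η} ⊆ Z :=
      closure_minimal (Set.singleton_subset_iff.mpr hxZ)
        (isClosed_of_mem_irreducibleComponents Z hZ)
    exact Set.Subset.antisymm (hη.2 hZ.1 h2) h2
  obtain ⟨z, hzO, hzD⟩ := hDd.inter_open_nonempty _ hOth.isOpen_compl ⟨η, hηOth⟩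
  have hz : irreducibleComponent z = closure {η} := by
    by_contra h3
    exact hzO ⟨irreducibleComponent z, ⟨irreducibleComponent_mem_irreducibleComponents z, h3⟩,
      mem_irreducibleComponent⟩
  have hspec : η ⤳ z := by
    rw [specializes_iff_mem_closure, ← hz]
    exact mem_irreducibleComponent
  exact hspec.mem_open hD hzD

/-- a morphism locally of finite type with compact source has finitely many points in a fibre which
are generic points of irreducible components of the source. -/
theorem finite_genericPoints_inter_fibre {W V : Scheme.{u}} (h : W ⟶ V) [LocallyOfFiniteType h]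
    [CompactSpace W] (η : V) : (genericPoints W ∩ h ⁻¹' {η}).Finite := by
  haveI := Groth.Agent.Lib.T2H1.IrrFlat.noetherianSpace_fiber h η
  have hF : (genericPoints (h.fiber η)).Finite :=
    genericPoints.finite TopologicalSpace.NoetherianSpace.finite_irreducibleComponents
  refine (hF.image (h.fiberι η)).subset ?_
  rintro ξ ⟨hξ, hξη⟩
  have hr : ξ ∈ Set.range (h.fiberι η) := by rw [Scheme.Hom.range_fiberι]; exact hξη
  obtain ⟨ξ', rfl⟩ := hr
  exact ⟨ξ', Groth.Agent.Lib.T2H1.IrrFlat.mem_genericPoints_of_map (h.fiberι η)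
    (h.fiberι η).continuous (h.fiberι η).isEmbedding.injective ξ' hξ, rfl⟩

/-- a scheme whose generic points are finite in number has finitely many irreducible components. -/
theorem finite_irreducibleComponents_of_genericPoints {W : Scheme.{u}}
    (hgen : (genericPoints W).Finite) : (irreducibleComponents W).Finite := by
  haveI := hgen.to_subtype
  exact Set.toFinite _ |>.of_surjOn (fun x => closure {x}) (by
    intro Z hZ
    exact ⟨((genericPoints.equiv (α := W)).symm ⟨Z, hZ⟩).1,
      ((genericPoints.equiv (α := W)).symm ⟨Z, hZ⟩).2,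
      congrArg Subtype.val ((genericPoints.equiv (α := W)).apply_symm_apply ⟨Z, hZ⟩)⟩) |>.subset
    (fun _ h => h)

open Groth.Agent.Lib.T2H7.GenFinA in
/-- a separated morphism locally of finite type all of whose generic points lie over a generic
point `v` of the affine target, with finite fibre over `v`, is finite over a neighbourhood of
`v`. -/
theorem exists_affine_open_isFinite_of_separated {R V : Scheme.{u}} [IsAffine V] (k : R ⟶ V)
    [LocallyOfFiniteType k] [IsSeparated k] (v : V)
    (hv : closure {v} ∈ irreducibleComponents (V : Type u))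
    (hk : (k ⁻¹' {v}).Finite)
    (hgen : ∀ r : R, closure {r} ∈ irreducibleComponents (R : Type u) → k r = v) :
    ∃ V' : V.Opens, IsAffineOpen V' ∧ v ∈ V' ∧ IsFinite (k ∣_ V') := by
  classical
  have h1 : ∀ r : R, ∃ U : R.Opens, IsAffineOpen U ∧ r ∈ U := fun r => by
    obtain ⟨_, ⟨U, hU, rfl⟩, hrU, -⟩ :=
      R.isBasis_affineOpens.exists_subset_of_mem_open (Set.mem_univ r) isOpen_univ
    exact ⟨U, hU, hrU⟩
  choose U hU hrU using h1
  let R' : R.Opens := ⨆ r ∈ hk.toFinset, U r
  have hR'eq : (R' : Set R) = ⋃ r ∈ hk.toFinset, (U r : Set R) := by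
    simp [R']
  have hR'c : IsCompact (R' : Set R) := by
    rw [hR'eq]
    exact hk.toFinset.isCompact_biUnion (fun r _ => (hU r).isCompact)
  have hsub : k ⁻¹' {v} ⊆ (R' : Set R) := by
    intro r hr
    rw [hR'eq]
    simp only [Set.mem_iUnion]
    exact ⟨r, hk.mem_toFinset.2 hr, hrU r⟩
  haveI : CompactSpace (R' : Scheme.{u}) := isCompact_iff_compactSpace.1 hR'c
  haveI : QuasiCompact (R'.ι ≫ k) := quasiCompact_of_compactSpace _
  let k' : (R' : Scheme.{u}) ⟶ V := R'.ι ≫ k
  have hk' : (k' ⁻¹' {v}).Finite := by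
    have e : k' ⁻¹' {v} = R'.ι ⁻¹' (k ⁻¹' {v}) := by
      ext z
      simp only [Set.mem_preimage, Set.mem_singleton_iff, k', Scheme.Hom.comp_apply]
    rw [e]
    exact hk.preimage (R'.ι.isOpenEmbedding.injective.injOn)
  obtain ⟨V', hV'aff, hvV', hfin⟩ := (Groth.Agent.S2080.result k' v hv).1 hk'
  refine ⟨V', hV'aff, hvV', ?_⟩
  let O : R.Opens := k ⁻¹ᵁ V'
  have hι : IsFinite (R'.ι ∣_ O) := isFinite_restrict_of_comp R'.ι k V' hfin
  have hcl : IsClosedMap (R'.ι ∣_ O) := (R'.ι ∣_ O).isClosedMap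
  have hrc : IsClosed (Set.range (R'.ι ∣_ O)) := hcl.isClosed_range
  have hsurj : Function.Surjective (R'.ι ∣_ O) := by
    by_contra hns
    have hne : (Set.range (R'.ι ∣_ O))ᶜ.Nonempty := by
      rw [Set.nonempty_compl]
      intro h
      exact hns (Set.range_eq_univ.1 h)
    obtain ⟨z, hz⟩ := hne
    let C : Set R := O.ι '' (Set.range (R'.ι ∣_ O))ᶜ
    have hC : IsOpen C := O.ι.isOpenEmbedding.isOpenMap _ hrc.isOpen_compl
    obtain ⟨η, hη, hηz⟩ := Groth.Agent.Lib.T2H7.FinLocus.exists_generic_specializes (O.ι z)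
    have hηC : η ∈ C := hηz.mem_open hC ⟨z, hz, rfl⟩
    obtain ⟨η', hη', rfl⟩ := hηC
    have hηR' : O.ι η' ∈ R' := hsub (hgen _ hη)
    apply hη'
    have hmem : (⟨O.ι η', hηR'⟩ : ↥R') ∈ R'.ι ⁻¹ᵁ O := by
      show R'.ι ⟨O.ι η', hηR'⟩ ∈ O
      exact η'.2
    refine ⟨⟨⟨O.ι η', hηR'⟩, hmem⟩, ?_⟩
    apply Subtype.ext
    rw [morphismRestrict_base_coe]
    rfl
  haveI : Surjective (R'.ι ∣_ O) := ⟨hsurj⟩
  haveI : IsIso (R'.ι ∣_ O) := (isIso_iff_isOpenImmersion_and_epi_base _).2
    ⟨inferInstance, (TopCat.epi_iff_surjective _).2 hsurj⟩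
  rw [morphismRestrict_comp] at hfin
  change IsFinite ((R'.ι ∣_ O) ≫ k ∣_ V') at hfin
  exact (MorphismProperty.cancel_left_of_respectsIso @IsFinite (R'.ι ∣_ O) (k ∣_ V')).1 hfin

/-- finiteness of the fibre of a relation `(t, s) : R ⟶ W ×_V W` which is a monomorphism, when
`W ⟶ V` is quasi-finite and quasi-compact on an open containing the fibre. -/
theorem finite_fibre_of_jointly_mono {R W V : Scheme.{u}} (s t : R ⟶ W) (h : W ⟶ V)
    (hst : t ≫ h = s ≫ h)
    (hmono : ∀ {T : Scheme.{u}} (α β : T ⟶ R), α ≫ t = β ≫ t → α ≫ s = β ≫ s → α = β)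
    (v : V) (W₁ : W.Opens) (hW₁ : h ⁻¹' {v} ⊆ (W₁ : Set W))
    [LocallyQuasiFinite (W₁.ι ≫ h)] [QuasiCompact (W₁.ι ≫ h)] :
    ((s ≫ h) ⁻¹' {v}).Finite := by
  let h₁ : (W₁ : Scheme.{u}) ⟶ V := W₁.ι ≫ h
  let R₁ : R.Opens := s ⁻¹ᵁ W₁ ⊓ t ⁻¹ᵁ W₁
  let s₁ : (R₁ : Scheme.{u}) ⟶ W₁ := s.resLE W₁ R₁ inf_le_left
  let t₁ : (R₁ : Scheme.{u}) ⟶ W₁ := t.resLE W₁ R₁ inf_le_right
  have hs₁ : s₁ ≫ W₁.ι = R₁.ι ≫ s := Scheme.Hom.resLE_comp_ι _ _
  have ht₁ : t₁ ≫ W₁.ι = R₁.ι ≫ t := Scheme.Hom.resLE_comp_ι _ _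
  have hc : t₁ ≫ h₁ = s₁ ≫ h₁ := by
    show t₁ ≫ W₁.ι ≫ h = s₁ ≫ W₁.ι ≫ h
    rw [← Category.assoc, ht₁, ← Category.assoc, hs₁, Category.assoc, Category.assoc, hst]
  let m : (R₁ : Scheme.{u}) ⟶ pullback h₁ h₁ := pullback.lift t₁ s₁ hc
  have hm1 : m ≫ pullback.fst h₁ h₁ = t₁ := pullback.lift_fst _ _ _
  have hm2 : m ≫ pullback.snd h₁ h₁ = s₁ := pullback.lift_snd _ _ _
  haveI : Mono m := ⟨fun α β hαβ => by
    have e1 : α ≫ t₁ = β ≫ t₁ := by
      rw [← hm1, ← Category.assoc, hαβ, Category.assoc]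
    have e2 : α ≫ s₁ = β ≫ s₁ := by
      rw [← hm2, ← Category.assoc, hαβ, Category.assoc]
    have e3 : (α ≫ R₁.ι) ≫ t = (β ≫ R₁.ι) ≫ t := by
      rw [Category.assoc, ← ht₁, ← Category.assoc, e1, Category.assoc, ht₁, Category.assoc]
    have e4 : (α ≫ R₁.ι) ≫ s = (β ≫ R₁.ι) ≫ s := by
      rw [Category.assoc, ← hs₁, ← Category.assoc, e2, Category.assoc, hs₁, Category.assoc]
    exact (cancel_mono R₁.ι).1 (hmono _ _ e3 e4)⟩
  let π : pullback h₁ h₁ ⟶ V := pullback.fst h₁ h₁ ≫ h₁
  have hπ : (π ⁻¹' {v}).Finite := Scheme.Hom.finite_preimage_singleton π v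
  have hmπ : m ≫ π = R₁.ι ≫ s ≫ h := by
    show m ≫ pullback.fst h₁ h₁ ≫ h₁ = _
    rw [← Category.assoc, hm1, hc]
    show s₁ ≫ W₁.ι ≫ h = _
    rw [← Category.assoc, hs₁, Category.assoc]
  have hinj : Function.Injective m := m.injective
  have h2 : ((R₁.ι ≫ s ≫ h) ⁻¹' {v}).Finite := by
    rw [← hmπ]
    have e : (m ≫ π) ⁻¹' {v} = m ⁻¹' (π ⁻¹' {v}) := by
      ext z
      simp only [Set.mem_preimage, Set.mem_singleton_iff, Scheme.Hom.comp_apply]
    rw [e]
    exact hπ.preimage hinj.injOn
  refine (h2.image R₁.ι).subset ?_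
  intro r hr
  have hr' : h (s r) = v := by
    simpa only [Set.mem_preimage, Set.mem_singleton_iff, Scheme.Hom.comp_apply] using hr
  have hsr : s r ∈ W₁ := hW₁ hr'
  have htr : t r ∈ W₁ := by
    apply hW₁
    show h (t r) = v
    have e := congrArg (fun φ : R ⟶ V => φ r) hst
    simp only [Scheme.Hom.comp_apply] at e
    rw [e]
    exact hr'
  refine ⟨⟨r, hsr, htr⟩, ?_, rfl⟩
  simp only [Set.mem_preimage, Set.mem_singleton_iff, Scheme.Hom.comp_apply]
  exact hr'

end Groth.Agent.Lib.T2H7.GenFinG
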