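import Mathlib
import Groth.Agent.Lib.T2H7GenFinC
import Groth.Agent.Lib.T2H7GenFinG
import Groth.Agent.Lib.T2H1IrrFlat2
import Groth.Agent.S2081

/-!
# helper7: generic finiteness over an irreducible affine chart, quasi-compact case

* `isFiniteMor_of_isFinite_charts`: if an affine etale surjective chart `W` of `X₁` and its
  relation `R` are finite over the affine open `V'` of `V`, then `X₁` is finite over `V'`.
* `exists_open_isFiniteMor_of_generic`: let `g : X₁ ⟶ h_V` be locally of finite type with `X₁`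
  quasi-compact and `V` affine with a unique point `v` of codimension `0`; if a point of an etale
  chart of `X₁` has codimension `0` exactly when it lies over `v`, then `g` is finite over an affine
  open neighbourhood of `v`.
-/

set_option autoImplicit false
set_option linter.unusedSectionVars false
set_option linter.unusedVariables false
set_option linter.style.haveILetI false
universe u
open CategoryTheory CategoryTheory.Limits AlgebraicGeometry Opposite
open AlgSp

namespace Groth.Agent.Lib.T2H7.GenFinH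

variable {S : Scheme.{u}}

open Groth.Agent.Lib.T2H7.GenFinA Groth.Agent.Lib.T2H7.GenFinB Groth.Agent.Lib.T2H7.GenFinG

theorem isFiniteMor_of_isFinite_charts {X₁ : AlgSp.Sp S} (hX₁ : AlgSp.IsAlgSpace X₁) {V : Over S}
    [IsAffine V.left] (g : X₁ ⟶ (AlgSp.yon S).obj V)
    (hlft : AlgSp.LocP @LocallyOfFiniteType g) {W : Over S} [IsAffine W.left]
    (c : (AlgSp.yon S).obj W ⟶ X₁) (hce : AlgSp.RepWith @Etale c)
    (hcs : AlgSp.RepWith @Surjective c) (h : W ⟶ V) (hh : (AlgSp.yon S).map h = c ≫ g)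
    {R : Over S} (s t : R ⟶ W)
    (sq : IsPullback ((AlgSp.yon S).map t) ((AlgSp.yon S).map s) c c)
    (V' : V.left.Opens) (hV'aff : IsAffineOpen V') (hfh : IsFinite (h.left ∣_ V'))
    (hfk : IsFinite ((s.left ≫ h.left) ∣_ V'))
    (P' : AlgSp.Sp S) (p₁ : P' ⟶ X₁)
    (p₂ : P' ⟶ (AlgSp.yon S).obj (Over.mk (V'.ι ≫ V.hom)))
    (sqP : IsPullback p₁ p₂ g
      ((AlgSp.yon S).map (Over.homMk V'.ι rfl : Over.mk (V'.ι ≫ V.hom) ⟶ V))) :
    AlgSp.IsFiniteMor p₂ := by
  classical
  let W' : W.left.Opens := h.left ⁻¹ᵁ V'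
  have hsW' : IsFinite (s.left ∣_ W') := isFinite_restrict_of_comp s.left h.left V' hfk
  let VO : Over S := Over.mk (V'.ι ≫ V.hom)
  let ιV : VO ⟶ V := Over.homMk V'.ι rfl
  let WO : Over S := Over.mk (W'.ι ≫ W.hom)
  let ιW : WO ⟶ W := Over.homMk W'.ι rfl
  let h' : WO ⟶ VO := Over.homMk (h.left ∣_ V') (by
    show (h.left ∣_ V') ≫ V'.ι ≫ V.hom = W'.ι ≫ W.hom
    rw [← Category.assoc, morphismRestrict_ι, Category.assoc, Over.w h])
  have comm : ιW ≫ h = h' ≫ ιV := by
    ext1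
    exact (morphismRestrict_ι h.left V').symm
  have sqWV : IsPullback ((AlgSp.yon S).map h') ((AlgSp.yon S).map ιW) ((AlgSp.yon S).map ιV)
      ((AlgSp.yon S).map h) := by
    have h0 : IsPullback h' ιW ιV h :=
      IsPullback.of_map (Over.forget S) comm.symm (isPullback_morphismRestrict h.left V')
    exact h0.map (AlgSp.yon S)
  let c' : (AlgSp.yon S).obj WO ⟶ P' := sqP.lift ((AlgSp.yon S).map ιW ≫ c) ((AlgSp.yon S).map h')
    (by rw [Category.assoc, ← hh, ← Functor.map_comp, ← Functor.map_comp, comm])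
  have hc'1 : c' ≫ p₁ = (AlgSp.yon S).map ιW ≫ c := sqP.lift_fst _ _ _
  have hc'2 : c' ≫ p₂ = (AlgSp.yon S).map h' := sqP.lift_snd _ _ _
  have sqc : IsPullback c' ((AlgSp.yon S).map ιW) p₁ c := by
    refine IsPullback.of_right ?_ hc'1 sqP.flip
    rw [hc'2, ← hh]
    exact sqWV
  have hc'e : AlgSp.RepWith @Etale c' := MorphismProperty.of_isPullback sqc.flip hce
  have hc's : AlgSp.RepWith @Surjective c' := MorphismProperty.of_isPullback sqc.flip hcs
  have hc'f : AlgSp.RepWith @IsFinite c' := by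
    refine ⟨hc'e.1, fun T' Q gT fst snd sqQ => ?_⟩
    have big := (sqQ.flip.paste_vert sqc).flip
    refine Groth.Agent.Lib.T2H7.FinLocus.isFinite_snd_of_image c hce sq W' hsW' (gT ≫ p₁) ?_ _
      snd big
    intro y
    obtain ⟨w', hw'⟩ := Groth.Agent.S10177.surjective_ofPt c' hc's (AlgSp.Points.ofPt gT y)
    refine ⟨W'.ι w', ?_, ?_⟩
    · have h1 := W'.range_ι
      have h2 : W'.ι w' ∈ Set.range W'.ι := ⟨w', rfl⟩
      rw [h1] at h2
      exact h2
    · have e1 : AlgSp.Points.ofPt (gT ≫ p₁) y = AlgSp.Points.map p₁ (AlgSp.Points.ofPt gT y) :=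
        (AlgSp.Points.map_ofPt gT p₁ y).symm
      have e2 : AlgSp.Points.map p₁ (AlgSp.Points.ofPt c' w') =
          AlgSp.Points.ofPt (c' ≫ p₁) w' := AlgSp.Points.map_ofPt c' p₁ w'
      have e3 : AlgSp.Points.ofPt ((AlgSp.yon S).map ιW ≫ c) w' =
          AlgSp.Points.ofPt c (ιW.left w') := Groth.Agent.S10509.ofPt_yon_map_comp ιW c w'
      rw [e1, ← hw', e2, hc'1, e3]
      rfl
  haveI : IsAffine WO.left := by
    show IsAffine W'.toScheme
    exact (hV'aff.preimage h.left : IsAffineOpen W')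
  obtain ⟨T, e, p, hTaff, hpsurj, hpe⟩ := exists_iso_yon_affine c' hc'f hc'e hc's
  obtain ⟨q, hq⟩ := (AlgSp.yon S).map_surjective (e.hom ≫ p₂)
  have hpq : p ≫ q = h' := by
    apply (AlgSp.yon S).map_injective
    rw [Functor.map_comp, hq, ← Category.assoc, hpe, hc'2]
  have hlft' : AlgSp.LocP @LocallyOfFiniteType p₂ :=
    Groth.Agent.Lib.Helper12.Proper.locP_lft_baseChange hX₁ (AlgSp.IsAlgSpace.yon_obj V)
      (AlgSp.IsAlgSpace.yon_obj VO) sqP hlft
  have hee : AlgSp.RepWith @Etale e.hom := MorphismProperty.of_isIso _ e.hom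
  haveI : LocallyOfFiniteType q.left :=
    hlft' e.hom (𝟙 _) q hee (AlgSp.repWith_id _ VO) (by rw [hq, Category.comp_id])
  haveI : IsAffine VO.left := by
    show IsAffine V'.toScheme
    exact hV'aff
  haveI : IsAffine T.left := hTaff
  haveI : Surjective p.left := hpsurj
  haveI : IsFinite (p.left ≫ q.left) := by
    rw [← Over.comp_left, hpq]
    exact hfh
  have hqfin : IsFinite q.left := isFinite_of_surjective_comp p.left q.left
  have hrep : AlgSp.RepWith @IsFinite ((AlgSp.yon S).map q) :=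
    (AlgSp.repWith_yon_map_iff @IsFinite q).2 hqfin
  intro Z hZ z
  obtain ⟨W'', i, fst', sq''⟩ := hrep.1 z
  have hi : IsFinite i.left := hrep.2 z fst' i sq''
  refine ⟨W'', i, fst' ≫ e.hom, ?_, ?_, hi⟩
  · exact IsPullback.of_iso sq'' (Iso.refl _) e (Iso.refl _) (Iso.refl _) (by simp) (by simp)
      (by simp [hq]) (by simp)
  · haveI := hZ
    exact isAffine_of_isAffineHom i.left

theorem exists_open_isFiniteMor_of_generic {X₁ : AlgSp.Sp S} (hX₁ : AlgSp.IsAlgSpace X₁)
    {V : Over S} [IsAffine V.left] (g : X₁ ⟶ (AlgSp.yon S).obj V)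
    (hlft : AlgSp.LocP @LocallyOfFiniteType g) (hqc : AlgSp.IsQuasiCompactSp X₁) (v : ↥V.left)
    (hv0 : ringKrullDim ↥(V.left.presheaf.stalk v) = 0)
    (huniq : ∀ v' : ↥V.left, ringKrullDim ↥(V.left.presheaf.stalk v') = 0 → v' = v)
    (H : ∀ {W : Over S} (c : (AlgSp.yon S).obj W ⟶ X₁) (h : W ⟶ V), AlgSp.RepWith @Etale c →
      c ≫ g = (AlgSp.yon S).map h → ∀ w : ↥W.left,
        (ringKrullDim ↥(W.left.presheaf.stalk w) = 0 ↔ h.left w = v)) :
    ∃ V' : V.left.Opens, IsAffineOpen V' ∧ v ∈ V' ∧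
      ∀ (P' : AlgSp.Sp S) (p₁ : P' ⟶ X₁)
        (p₂ : P' ⟶ (AlgSp.yon S).obj (Over.mk (V'.ι ≫ V.hom))),
        IsPullback p₁ p₂ g
          ((AlgSp.yon S).map (Over.homMk V'.ι rfl : Over.mk (V'.ι ≫ V.hom) ⟶ V)) →
        AlgSp.IsFiniteMor p₂ := by
  classical
  obtain ⟨W₀, c₀, hc₀e, hc₀s, hW₀⟩ := hqc
  haveI : CompactSpace ↥W₀.left := hW₀
  obtain ⟨W₁, w₁, hW₁aff, hw₁e, hw₁s⟩ :=
    Groth.Agent.Lib.T2H1.LimAffine.exists_affine_etale_surjective W₀.left
  let W : Over S := Over.mk (w₁ ≫ W₀.hom)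
  let ω : W ⟶ W₀ := Over.homMk w₁ rfl
  haveI hWaff : IsAffine W.left := hW₁aff
  let c : (AlgSp.yon S).obj W ⟶ X₁ := (AlgSp.yon S).map ω ≫ c₀
  have hce : AlgSp.RepWith @Etale c :=
    (AlgSp.RepWith @Etale).comp_mem _ _ ((AlgSp.repWith_yon_map_iff @Etale ω).2 hw₁e) hc₀e
  have hcs : AlgSp.RepWith @Surjective c :=
    (AlgSp.RepWith @Surjective).comp_mem _ _ ((AlgSp.repWith_yon_map_iff @Surjective ω).2 hw₁s)
      hc₀s
  obtain ⟨h, hh⟩ := (AlgSp.yon S).map_surjective (c ≫ g)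
  haveI : LocallyOfFiniteType h.left :=
    hlft c (𝟙 _) h hce (AlgSp.repWith_id _ V) (by rw [hh, Category.comp_id])
  have hv : closure {v} ∈ irreducibleComponents ↥V.left :=
    (Groth.Agent.Lib.T2H1.IrrFlat.ringKrullDim_stalk_eq_zero_iff v).1 hv0
  -- generic points of the chart
  have hgenW : ∀ w : ↥W.left, w ∈ genericPoints ↥W.left ↔ h.left w = v := fun w =>
    (Groth.Agent.Lib.T2H1.IrrFlat.ringKrullDim_stalk_eq_zero_iff w).symm.trans
      (H c h hce hh.symm w)
  have hgenV : ∀ v' : ↥V.left, v' ∈ genericPoints ↥V.left ↔ v' = v := fun v' =>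
    ⟨fun hv' => huniq v' ((Groth.Agent.Lib.T2H1.IrrFlat.ringKrullDim_stalk_eq_zero_iff v').2 hv'),
      fun hv' => by rw [hv']; exact hv⟩
  have hfin_h : (h.left ⁻¹' {v}).Finite := by
    refine (finite_genericPoints_inter_fibre h.left v).subset ?_
    intro w hw
    exact ⟨(hgenW w).2 hw, hw⟩
  have hWfin : (irreducibleComponents ↥W.left).Finite := by
    apply finite_irreducibleComponents_of_genericPoints
    refine hfin_h.subset ?_
    intro w hw
    exact (hgenW w).1 hw
  have hVfin : (irreducibleComponents ↥V.left).Finite := by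
    apply finite_irreducibleComponents_of_genericPoints
    refine (Set.finite_singleton v).subset ?_
    intro v' hv'
    exact (hgenV v').1 hv'
  have hgen : ∀ w : ↥W.left, closure {w} ∈ irreducibleComponents ↥W.left ↔
      closure {h.left w} ∈ irreducibleComponents ↥V.left := by
    intro w
    constructor
    · intro hw
      rw [(hgenW w).1 hw]
      exact hv
    · intro hw
      exact (hgenW w).2 ((hgenV _).1 hw)
  obtain ⟨V₀, hV₀d, hV₀f⟩ := Groth.Agent.S2081.result h.left hWfin hVfin hgen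
  have hvV₀ : v ∈ V₀ := mem_of_dense_of_mem_genericPoints hVfin V₀.2 hV₀d hv
  obtain ⟨_, ⟨V₁, hV₁aff, rfl⟩, hvV₁, hV₁le⟩ :=
    (V.left.isBasis_affineOpens.exists_subset_of_mem_open
      (show v ∈ (V₀ : Set ↥V.left) from hvV₀) V₀.2)
  have hfV₁ : IsFinite (h.left ∣_ V₁) := isFinite_restrict_of_le h.left hV₁le hV₀f
  -- the kernel pair
  obtain ⟨R, s, t', sq⟩ := hce.1 c
  obtain ⟨t, rfl⟩ := (AlgSp.yon S).map_surjective t'
  haveI hset : Etale s.left := hce.2 c _ s sq
  haveI : IsSeparated s.left := by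
    have hc : t.left ≫ W.hom = s.left ≫ W.hom := (Over.w t).trans (Over.w s).symm
    let m : R.left ⟶ pullback W.hom W.hom := pullback.lift t.left s.left hc
    have hm1 : m ≫ pullback.fst W.hom W.hom = t.left := pullback.lift_fst _ _ _
    have hm2 : m ≫ pullback.snd W.hom W.hom = s.left := pullback.lift_snd _ _ _
    haveI : Mono m := ⟨fun α β h =>
      Groth.Agent.Lib.T2H7.KerPairGrpd.hom_ext_left sq α β
        (by rw [← hm1, ← Category.assoc, h, Category.assoc])
        (by rw [← hm2, ← Category.assoc, h, Category.assoc])⟩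
    rw [← hm2]
    infer_instance
  have hst : t.left ≫ h.left = s.left ≫ h.left := by
    have e1 : (AlgSp.yon S).map (t ≫ h) = (AlgSp.yon S).map (s ≫ h) := by
      rw [Functor.map_comp, Functor.map_comp, hh, ← Category.assoc, sq.w, Category.assoc]
    have e2 : t ≫ h = s ≫ h := (AlgSp.yon S).map_injective e1
    exact congrArg (fun m => m.left) e2
  let W₁' : W.left.Opens := h.left ⁻¹ᵁ V₁
  haveI : CompactSpace (W₁' : Scheme.{u}) :=
    isCompact_iff_compactSpace.1 (hV₁aff.preimage h.left : IsAffineOpen W₁').isCompact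
  haveI : QuasiCompact (W₁'.ι ≫ h.left) := quasiCompact_of_compactSpace _
  haveI : LocallyQuasiFinite (W₁'.ι ≫ h.left) := by
    rw [← morphismRestrict_ι h.left V₁]
    infer_instance
  have hfin_k : ((s.left ≫ h.left) ⁻¹' {v}).Finite := by
    refine finite_fibre_of_jointly_mono s.left t.left h.left hst
      (fun α β h1 h2 => Groth.Agent.Lib.T2H7.KerPairGrpd.hom_ext_left sq α β h1 h2) v W₁' ?_
    intro w hw
    show h.left w ∈ V₁
    rw [hw]
    exact hvV₁
  have hgen_k : ∀ r : ↥R.left, closure {r} ∈ irreducibleComponents ↥R.left →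
      (s.left ≫ h.left) r = v := by
    intro r hr
    have hd : ringKrullDim ↥(R.left.presheaf.stalk r) = 0 :=
      (Groth.Agent.Lib.T2H1.IrrFlat.ringKrullDim_stalk_eq_zero_iff r).2 hr
    have hcR : AlgSp.RepWith @Etale ((AlgSp.yon S).map s ≫ c) :=
      (AlgSp.RepWith @Etale).comp_mem _ _ ((AlgSp.repWith_yon_map_iff @Etale s).2 hset) hce
    have e := (H ((AlgSp.yon S).map s ≫ c) (s ≫ h) hcR
      (by rw [Category.assoc, ← hh, Functor.map_comp]) r).1 hd
    exact e
  obtain ⟨V₂, hV₂aff, hvV₂, hfV₂⟩ :=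
    exists_affine_open_isFinite_of_separated (s.left ≫ h.left) v hv hfin_k hgen_k
  obtain ⟨_, ⟨V', hV'aff, rfl⟩, hvV', hle⟩ :=
    (V.left.isBasis_affineOpens.exists_subset_of_mem_open
      (show v ∈ ((V₁ ⊓ V₂ : V.left.Opens) : Set ↥V.left) from ⟨hvV₁, hvV₂⟩) (V₁ ⊓ V₂).2)
  refine ⟨V', hV'aff, hvV', ?_⟩
  have hfh : IsFinite (h.left ∣_ V') :=
    isFinite_restrict_of_le h.left (fun x hx => (hle hx).1) hfV₁
  have hfk : IsFinite ((s.left ≫ h.left) ∣_ V') :=
    isFinite_restrict_of_le (s.left ≫ h.left) (fun x hx => (hle hx).2) hfV₂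
  intro P' p₁ p₂ sqP
  exact isFiniteMor_of_isFinite_charts hX₁ g hlft c hce hcs h hh s t sq V' hV'aff hfh hfk P' p₁ p₂
    sqP

end Groth.Agent.Lib.T2H7.GenFinH
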