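import Mathlib
import Groth.Agent.Lib.T2H7GenFinH
import Groth.Agent.Lib.T2H7GenFinF
import Groth.Agent.Lib.Helper12OpenSub
import Groth.Agent.Lib.Helper12OpenSub2
import Groth.Agent.Lib.Helper12LargestOpen
import Groth.Agent.Lib.Helper12Proper
import Groth.Agent.S9874
import Groth.Agent.S9922
import Groth.Agent.S10175
import Groth.Agent.S10176
import Groth.Agent.S10267
import Groth.Agent.S10268
import Groth.Agent.S10272
import Groth.Agent.S10509

/-!
# helper7: generic finiteness over an irreducible affine chart, separated case; descent to the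
image of a chart

* `exists_open_isFiniteMor_of_generic_sep`: the separated analogue of
  `GenFinH.exists_open_isFiniteMor_of_generic`, assuming the fibre over the generic point finite.
* `isFiniteMor_snd_incl_of_chart`: if the base change of `f : X ⟶ Y` to an etale chart `b'` of `Y`
  is finite, then `f` is finite over the open image of `b'`.
-/

set_option autoImplicit false
set_option linter.unusedSectionVars false
set_option linter.unusedVariables false
set_option linter.style.haveILetI false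
universe u
open CategoryTheory CategoryTheory.Limits AlgebraicGeometry Opposite
open AlgSp

namespace Groth.Agent.Lib.T2H7.GenFinI

variable {S : Scheme.{u}}

open Groth.Agent.Lib.Helper12

theorem exists_open_isFiniteMor_of_generic_sep {X₁ : AlgSp.Sp S} (hX₁ : AlgSp.IsAlgSpace X₁)
    {V : Over S} [IsAffine V.left] (g : X₁ ⟶ (AlgSp.yon S).obj V)
    (hlft : AlgSp.LocP @LocallyOfFiniteType g) (hsep : AlgSp.IsSeparatedMor g) (v : ↥V.left)
    (hv0 : ringKrullDim ↥(V.left.presheaf.stalk v) = 0)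
    (huniq : ∀ v' : ↥V.left, ringKrullDim ↥(V.left.presheaf.stalk v') = 0 → v' = v)
    (H : ∀ {W : Over S} (c : (AlgSp.yon S).obj W ⟶ X₁) (h : W ⟶ V), AlgSp.RepWith @Etale c →
      c ≫ g = (AlgSp.yon S).map h → ∀ w : ↥W.left,
        (ringKrullDim ↥(W.left.presheaf.stalk w) = 0 ↔ h.left w = v))
    (hfib : (AlgSp.Points.map g ⁻¹'
      {AlgSp.Points.ofPt (𝟙 ((AlgSp.yon S).obj V)) v}).Finite) :
    ∃ V' : V.left.Opens, IsAffineOpen V' ∧ v ∈ V' ∧
      ∀ (P' : AlgSp.Sp S) (p₁ : P' ⟶ X₁)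
        (p₂ : P' ⟶ (AlgSp.yon S).obj (Over.mk (V'.ι ≫ V.hom))),
        IsPullback p₁ p₂ g
          ((AlgSp.yon S).map (Over.homMk V'.ι rfl : Over.mk (V'.ι ≫ V.hom) ⟶ V)) →
        AlgSp.IsFiniteMor p₂ := by
  classical
  obtain ⟨W, a, hWaff, hae, hFsub⟩ :=
    Groth.Agent.Lib.T2H7.GenFinF.exists_affine_chart_of_finite hX₁ _ hfib
  haveI : IsAffine W.left := hWaff
  let N : Set (AlgSp.Points X₁) := Set.range (AlgSp.Points.ofPt a)
  have hN : IsOpen N := (Groth.Agent.S10176.isOpenMap_ofPt a hae).isOpen_range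
  let ι₀ : OpenSub.obj X₁ N ⟶ X₁ := OpenSub.incl X₁ N
  have hι₀ : AlgSp.RepWith @IsOpenImmersion ι₀ := OpenSub.repWith_incl hN
  have hι₀e : AlgSp.RepWith @Etale ι₀ :=
    OpenSub.repWith_mono (fun _ _ g hg => by haveI : IsOpenImmersion g := hg; infer_instance) hι₀
  have hX₁' : AlgSp.IsAlgSpace (OpenSub.obj X₁ N) := OpenSub.isAlgSpace_obj hX₁ hN
  let g' : OpenSub.obj X₁ N ⟶ (AlgSp.yon S).obj V := ι₀ ≫ g
  have hlft' : AlgSp.LocP @LocallyOfFiniteType g' := by
    intro U V₂ a₂ b₂ h₂ ha hb hc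
    exact hlft (a₂ ≫ ι₀) b₂ h₂ ((AlgSp.RepWith @Etale).comp_mem _ _ ha hι₀e) hb
      (by rw [Category.assoc]; exact hc)
  -- the chart of the open subspace
  obtain ⟨c'', hc''⟩ := (OpenSub.factor_iff N a).2 (fun t => ⟨t, rfl⟩)
  have sqp : IsPullback (𝟙 _) c'' a ι₀ := by
    have h0 := LargestOpen.isPullback_id_of_mono c'' ι₀
    rwa [hc''] at h0
  have hc''e : AlgSp.RepWith @Etale c'' := MorphismProperty.of_isPullback sqp hae
  have hinj : Function.Injective (AlgSp.Points.map ι₀) :=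
    LargestOpen.injective_map_of_open ι₀ hι₀
  have hc''s : AlgSp.RepWith @Surjective c'' := by
    refine ⟨hc''e.1, fun T Q gT fstQ sndQ sqQ => ⟨fun t => ?_⟩⟩
    have hmem : AlgSp.Points.map ι₀ (AlgSp.Points.ofPt gT t) ∈ N := by
      have h1 : AlgSp.Points.map ι₀ (AlgSp.Points.ofPt gT t) ∈
          Set.range (AlgSp.Points.map ι₀) := ⟨_, rfl⟩
      rwa [OpenSub.range_map_incl] at h1
    obtain ⟨w'', hw''⟩ := hmem
    have e1 : AlgSp.Points.ofPt c'' w'' = AlgSp.Points.ofPt gT t := by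
      apply hinj
      rw [AlgSp.Points.map_ofPt, hc'']
      exact hw''
    obtain ⟨fQ, rfl⟩ := (AlgSp.yon S).map_surjective fstQ
    obtain ⟨z, -, hz⟩ := Groth.Agent.S10176.exists_point_of_isPullback_yon sqQ w'' t e1
    exact ⟨z, hz⟩
  have hqc' : AlgSp.IsQuasiCompactSp (OpenSub.obj X₁ N) :=
    ⟨W, c'', hc''e, hc''s, inferInstance⟩
  have H' : ∀ {W' : Over S} (c : (AlgSp.yon S).obj W' ⟶ OpenSub.obj X₁ N) (h : W' ⟶ V),
      AlgSp.RepWith @Etale c → c ≫ g' = (AlgSp.yon S).map h → ∀ w : ↥W'.left,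
        (ringKrullDim ↥(W'.left.presheaf.stalk w) = 0 ↔ h.left w = v) := by
    intro W' c h hce hcg w
    exact H (c ≫ ι₀) h ((AlgSp.RepWith @Etale).comp_mem _ _ hce hι₀e)
      (by rw [Category.assoc]; exact hcg) w
  obtain ⟨V', hV'aff, hvV', hfin'⟩ :=
    Groth.Agent.Lib.T2H7.GenFinH.exists_open_isFiniteMor_of_generic hX₁' g' hlft' hqc' v hv0
      huniq H'
  refine ⟨V', hV'aff, hvV', ?_⟩
  intro P q₁ q₂ sqP
  let VO : Over S := Over.mk (V'.ι ≫ V.hom)
  let ιV : VO ⟶ V := Over.homMk V'.ι rfl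
  let P' : AlgSp.Sp S := pullback ι₀ q₁
  let e₁ : P' ⟶ OpenSub.obj X₁ N := pullback.fst ι₀ q₁
  let e₂ : P' ⟶ P := pullback.snd ι₀ q₁
  have sqE : IsPullback e₁ e₂ ι₀ q₁ := IsPullback.of_hasPullback _ _
  have sqP' : IsPullback e₁ (e₂ ≫ q₂) g' ((AlgSp.yon S).map ιV) := sqE.paste_vert sqP
  have hfinP' : AlgSp.IsFiniteMor (e₂ ≫ q₂) := hfin' P' e₁ (e₂ ≫ q₂) sqP'
  have hP : AlgSp.IsAlgSpace P :=
    Groth.Agent.S9874.isAlgSpace_of_isPullback (AlgSp.IsAlgSpace.yon_obj V).diag hX₁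
      (AlgSp.IsAlgSpace.yon_obj VO) sqP
  have hP' : AlgSp.IsAlgSpace P' :=
    Groth.Agent.S9874.isAlgSpace_of_isPullback (AlgSp.IsAlgSpace.yon_obj V).diag hX₁'
      (AlgSp.IsAlgSpace.yon_obj VO) sqP'
  have hq₂sep : AlgSp.IsSeparatedMor q₂ := Proper.isSeparatedMor_baseChange sqP hsep
  have he₂oi : AlgSp.RepWith @IsOpenImmersion e₂ := MorphismProperty.of_isPullback sqE hι₀
  let PS : AlgSp.Space S := ⟨P, hP⟩
  let P'S : AlgSp.Space S := ⟨P', hP'⟩
  let VS : AlgSp.Space S := ⟨(AlgSp.yon S).obj VO, AlgSp.IsAlgSpace.yon_obj VO⟩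
  let e₂S : P'S ⟶ PS := ObjectProperty.homMk e₂
  let q₂S : PS ⟶ VS := ObjectProperty.homMk q₂
  have he₂fin : AlgSp.IsFiniteMor e₂ := (Groth.Agent.S10272.result e₂S q₂S hq₂sep).1 hfinP'
  have he₂rf : AlgSp.RepWith @IsFinite e₂ := (Groth.Agent.S10267.result e₂S).2.1 he₂fin
  have he₂uc : AlgSp.RepWith @UniversallyClosed e₂ :=
    ⟨he₂rf.1, fun _ _ g fst snd BC => by
      haveI : IsFinite snd.left := he₂rf.2 g fst snd BC
      exact (inferInstance : UniversallyClosed snd.left)⟩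
  have hcl : IsClosedMap (AlgSp.Points.map e₂) :=
    Groth.Agent.S9922.isClosedMap_map_of_repWith e₂ he₂uc
  have hrc : IsClosed (Set.range (AlgSp.Points.map e₂)) := hcl.isClosed_range
  have hq₁e : AlgSp.RepWith @Etale q₁ :=
    MorphismProperty.of_isPullback sqP.flip
      ((AlgSp.repWith_yon_map_iff @Etale ιV).2 (inferInstanceAs (Etale V'.ι)))
  have hsurj : Set.range (AlgSp.Points.map e₂) = Set.univ := by
    by_contra hne
    obtain ⟨z, hz⟩ := (Set.ne_univ_iff_exists_notMem _).1 hne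
    obtain ⟨A, d, u, hAaff, hde, hdu⟩ := Groth.Agent.Lib.T2H7.GenFinF.exists_affine_chart hP z
    have hpre : IsOpen (AlgSp.Points.ofPt d ⁻¹' (Set.range (AlgSp.Points.map e₂))ᶜ) :=
      hrc.isOpen_compl.preimage (AlgSp.Points.continuous_ofPt d)
    obtain ⟨η, hη, hηu⟩ := Groth.Agent.Lib.T2H7.FinLocus.exists_generic_specializes u
    have hηC : AlgSp.Points.ofPt d η ∈ (Set.range (AlgSp.Points.map e₂))ᶜ :=
      hηu.mem_open hpre (by
        show AlgSp.Points.ofPt d u ∈ (Set.range (AlgSp.Points.map e₂))ᶜ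
        rw [hdu]; exact hz)
    have hdim : ringKrullDim ↥(A.left.presheaf.stalk η) = 0 :=
      (Groth.Agent.Lib.T2H1.IrrFlat.ringKrullDim_stalk_eq_zero_iff η).2 hη
    obtain ⟨hA, hh⟩ := (AlgSp.yon S).map_surjective ((d ≫ q₁) ≫ g)
    have hηv : hA.left η = v :=
      (H (d ≫ q₁) hA ((AlgSp.RepWith @Etale).comp_mem _ _ hde hq₁e) hh.symm η).1 hdim
    have hx : AlgSp.Points.map g (AlgSp.Points.ofPt (d ≫ q₁) η) =
        AlgSp.Points.ofPt (𝟙 ((AlgSp.yon S).obj V)) v := by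
      rw [AlgSp.Points.map_ofPt, ← hh, ← Category.comp_id ((AlgSp.yon S).map hA),
        Groth.Agent.S10509.ofPt_yon_map_comp, hηv]
    have hmemN : AlgSp.Points.ofPt (d ≫ q₁) η ∈ N := hFsub hx
    have hmemN' : AlgSp.Points.ofPt (d ≫ q₁) η ∈ Set.range (AlgSp.Points.map ι₀) := by
      rw [OpenSub.range_map_incl]; exact hmemN
    obtain ⟨x', hx'⟩ := hmemN'
    obtain ⟨p', -, hp'2⟩ := Groth.Agent.S10175.exists_point_of_isPullback sqE x'
      (AlgSp.Points.ofPt d η) (hx'.trans (AlgSp.Points.map_ofPt d q₁ η).symm)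
    exact hηC ⟨p', hp'2⟩
  have hrange : Set.range (AlgSp.Points.map e₂) = Set.range (AlgSp.Points.map (𝟙 P)) := by
    rw [hsurj]
    symm
    rw [Set.range_eq_univ]
    intro x
    exact ⟨x, AlgSp.Points.map_id x⟩
  obtain ⟨e, he⟩ := OpenSub.iso_of_range_eq e₂ he₂oi (𝟙 P)
    (MorphismProperty.of_isIso (AlgSp.RepWith @IsOpenImmersion) (𝟙 P)) hrange
  have he' : e.hom = e₂ := by rw [← he, Category.comp_id]
  intro Z hZ z
  obtain ⟨W'', i, fst', sq'', hW''aff, hi⟩ := hfinP' hZ z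
  refine ⟨W'', i, fst' ≫ e₂, ?_, hW''aff, hi⟩
  exact IsPullback.of_iso sq'' (Iso.refl _) e (Iso.refl _) (Iso.refl _) (by simp [he']) (by simp)
    (by simp [he']) (by simp)

/-- if the base change of `f : X ⟶ Y` to an etale chart `b'` of `Y` is finite, then `f` is finite
over the open image of `b'`. -/
theorem isFiniteMor_snd_incl_of_chart {X Y : AlgSp.Space S} (f : X ⟶ Y) {VO : Over S}
    (b' : (AlgSp.yon S).obj VO ⟶ Y.obj) (hb'e : AlgSp.RepWith @Etale b')
    {X₂ : AlgSp.Sp S} (q₁ : X₂ ⟶ X.obj) (p₂ : X₂ ⟶ (AlgSp.yon S).obj VO)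
    (big : IsPullback q₁ p₂ f.hom b') (hp₂fin : AlgSp.IsFiniteMor p₂) :
    AlgSp.IsFiniteMor
      (pullback.snd f.hom (OpenSub.incl Y.obj (Set.range (AlgSp.Points.ofPt b')))) := by
  classical
  let N : Set (AlgSp.Points Y.obj) := Set.range (AlgSp.Points.ofPt b')
  have hNopen : IsOpen N := (Groth.Agent.S10176.isOpenMap_ofPt b' hb'e).isOpen_range
  let Y'sp : AlgSp.Sp S := OpenSub.obj Y.obj N
  let j₀ : Y'sp ⟶ Y.obj := OpenSub.incl Y.obj N
  have hj₀ : AlgSp.RepWith @IsOpenImmersion j₀ := OpenSub.repWith_incl hNopen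
  have hY' : AlgSp.IsAlgSpace Y'sp := OpenSub.isAlgSpace_obj Y.property hNopen
  let X'sp : AlgSp.Sp S := pullback f.hom j₀
  have sqX' : IsPullback (pullback.fst f.hom j₀) (pullback.snd f.hom j₀) f.hom j₀ :=
    IsPullback.of_hasPullback _ _
  have hX' : AlgSp.IsAlgSpace X'sp :=
    Groth.Agent.S9874.isAlgSpace_of_isPullback Y.property.diag X.property hY' sqX'
  let Y' : AlgSp.Space S := ⟨Y'sp, hY'⟩
  let X' : AlgSp.Space S := ⟨X'sp, hX'⟩
  let fst : X' ⟶ Y' := ObjectProperty.homMk (pullback.snd f.hom j₀)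
  obtain ⟨p, hp⟩ := (OpenSub.factor_iff N b').2 (fun t => ⟨t, rfl⟩)
  have sqp : IsPullback (𝟙 _) p b' j₀ := by
    have h0 := LargestOpen.isPullback_id_of_mono p j₀
    rwa [hp] at h0
  have hpe : AlgSp.RepWith @Etale p := MorphismProperty.of_isPullback sqp hb'e
  have hinj : Function.Injective (AlgSp.Points.map j₀) :=
    LargestOpen.injective_map_of_open j₀ hj₀
  have hps : AlgSp.RepWith @Surjective p := by
    refine ⟨hpe.1, fun T Q gT fstQ sndQ sqQ => ⟨fun t => ?_⟩⟩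
    have hmem : AlgSp.Points.map j₀ (AlgSp.Points.ofPt gT t) ∈ N := by
      have h1 : AlgSp.Points.map j₀ (AlgSp.Points.ofPt gT t) ∈
          Set.range (AlgSp.Points.map j₀) := ⟨_, rfl⟩
      rwa [OpenSub.range_map_incl] at h1
    obtain ⟨v'', hv''⟩ := hmem
    have e1 : AlgSp.Points.ofPt p v'' = AlgSp.Points.ofPt gT t := by
      apply hinj
      rw [AlgSp.Points.map_ofPt, hp]
      exact hv''
    obtain ⟨fQ, rfl⟩ := (AlgSp.yon S).map_surjective fstQ
    obtain ⟨z, -, hz⟩ := Groth.Agent.S10176.exists_point_of_isPullback_yon sqQ v'' t e1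
    exact ⟨z, hz⟩
  have hcond : q₁ ≫ f.hom = (p₂ ≫ p) ≫ j₀ := by
    rw [big.w, Category.assoc, hp]
  let fstP : X₂ ⟶ X'sp := pullback.lift q₁ (p₂ ≫ p) hcond
  have hfstP1 : fstP ≫ pullback.fst f.hom j₀ = q₁ := pullback.lift_fst _ _ _
  have hfstP2 : fstP ≫ pullback.snd f.hom j₀ = p₂ ≫ p := pullback.lift_snd _ _ _
  have sqP : IsPullback fstP p₂ (pullback.snd f.hom j₀) p := by
    refine IsPullback.of_right ?_ hfstP2 sqX'
    rw [hfstP1, hp]
    exact big
  exact (Groth.Agent.S10268.result fst VO p hpe hps fstP p₂ sqP).2 hp₂fin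

end Groth.Agent.Lib.T2H7.GenFinI
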