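import Mathlib
import Groth.Agent.Lib.T2H7GenFinG
import Groth.Agent.Lib.T2H1HasAt
import Groth.Agent.Lib.T2H1HasAt1
import Groth.Agent.Lib.T2H1IrrFlat2
import Groth.Agent.Lib.T2H1StalkDim
import Groth.Agent.Lib.Helper12OpenSub
import Groth.Agent.Lib.Helper12OpenSub2
import Groth.Agent.Lib.Helper12LargestOpen
import Groth.Agent.Lib.Helper4GenFinite2
import Groth.Agent.S10337
import Groth.Agent.S10339
import Groth.Agent.S10394
import Groth.Agent.S10509

/-!
# helper7: Zariski charts around the codimension `0` points of a decent space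

`exists_affine_open_chart_unique`: a decent algebraic space with finitely many points of
codimension `0` has, around each such point `y`, an open subspace which is an affine scheme and
contains no other point of codimension `0`.
-/

set_option autoImplicit false
set_option linter.unusedSectionVars false
set_option linter.unusedVariables false
set_option linter.style.haveILetI false
universe u
open CategoryTheory CategoryTheory.Limits AlgebraicGeometry Opposite
open AlgSp

namespace Groth.Agent.Lib.T2H7.GenFinJ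

variable {S : Scheme.{u}}

open Groth.Agent.Lib.Helper12

/-- the points of codimension `0` are dense. -/
theorem dense_codimZero {Y : AlgSp.Sp S} (hY : AlgSp.IsAlgSpace Y) :
    Dense {y : AlgSp.Points Y |
      AlgSp.HasAt (fun U u => ringKrullDim ↥(U.presheaf.stalk u) = 0) Y y} := by
  rw [dense_iff_inter_open]
  rintro O hO ⟨x, hxO⟩
  obtain ⟨U₀, a₀, he₀, hs₀⟩ := hY.atlas
  obtain ⟨u₀, hu₀⟩ := Groth.Agent.S10177.surjective_ofPt a₀ hs₀ x
  have hpre : IsOpen (AlgSp.Points.ofPt a₀ ⁻¹' O) := hO.preimage (AlgSp.Points.continuous_ofPt a₀)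
  obtain ⟨η, hη, hηu⟩ := Groth.Agent.Lib.T2H7.FinLocus.exists_generic_specializes u₀
  have hηO : AlgSp.Points.ofPt a₀ η ∈ O :=
    hηu.mem_open hpre (by show AlgSp.Points.ofPt a₀ u₀ ∈ O; rw [hu₀]; exact hxO)
  refine ⟨AlgSp.Points.ofPt a₀ η, hηO, ⟨U₀, a₀, η, he₀, rfl, ?_⟩⟩
  exact (Groth.Agent.Lib.T2H1.IrrFlat.ringKrullDim_stalk_eq_zero_iff η).2 hη

theorem exists_affine_open_chart_unique {Y : AlgSp.Space S} (hY : AlgSp.IsDecent Y.obj)
    (hY0 : {y : AlgSp.Points Y.obj |
      AlgSp.HasAt (fun U u => ringKrullDim ↥(U.presheaf.stalk u) = 0) Y.obj y}.Finite)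
    (y : AlgSp.Points Y.obj)
    (hy : AlgSp.HasAt (fun U u => ringKrullDim ↥(U.presheaf.stalk u) = 0) Y.obj y) :
    ∃ (V : Over S) (b : (AlgSp.yon S).obj V ⟶ Y.obj) (v : ↥V.left), IsAffine V.left ∧
      AlgSp.RepWith @IsOpenImmersion b ∧ AlgSp.Points.ofPt b v = y ∧
      ∀ v' : ↥V.left, AlgSp.HasAt (fun U u => ringKrullDim ↥(U.presheaf.stalk u) = 0) Y.obj
        (AlgSp.Points.ofPt b v') → v' = v := by
  classical
  obtain ⟨X'₀, j₀, hj₀, hrep, hdense⟩ := Groth.Agent.S10337.result Y hY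
  obtain ⟨Y₀, ⟨r⟩⟩ := hrep.has_representation
  let e : (AlgSp.yon S).obj Y₀ ≅ X'₀.obj := AlgSp.isoOfRepresentableBy r
  let k : (AlgSp.yon S).obj Y₀ ⟶ Y.obj := e.hom ≫ j₀.hom
  have hk : AlgSp.RepWith @IsOpenImmersion k :=
    (MorphismProperty.cancel_left_of_respectsIso (AlgSp.RepWith @IsOpenImmersion) e.hom _).2 hj₀
  have hke : AlgSp.RepWith @Etale k :=
    OpenSub.repWith_mono (fun _ _ g hg => by haveI : IsOpenImmersion g := hg; infer_instance) hk
  have hkinj : Function.Injective (AlgSp.Points.map k) :=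
    LargestOpen.injective_map_of_open k hk
  have hkrange : Set.range (AlgSp.Points.map k) = Set.range (AlgSp.Points.map j₀.hom) := by
    apply le_antisymm
    · rintro _ ⟨z, rfl⟩
      exact ⟨AlgSp.Points.map e.hom z, (AlgSp.Points.map_comp _ _ z).symm⟩
    · rintro _ ⟨z, rfl⟩
      refine ⟨AlgSp.Points.map e.inv z, ?_⟩
      rw [← AlgSp.Points.map_comp]
      change AlgSp.Points.map (e.inv ≫ e.hom ≫ j₀.hom) z = _
      rw [Iso.inv_hom_id_assoc]
  have hfun : AlgSp.Points.ofPt k = AlgSp.Points.map k ∘ AlgSp.Points.schemeHomeo Y₀ := by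
    funext z
    exact AlgSp.Points.ofPt_eq_map_ofScheme k z
  have hofinj : Function.Injective (AlgSp.Points.ofPt k) := by
    rw [hfun]
    exact hkinj.comp (AlgSp.Points.schemeHomeo Y₀).injective
  have hofrange : Set.range (AlgSp.Points.ofPt k) = Set.range (AlgSp.Points.map j₀.hom) := by
    rw [hfun, Set.range_comp, (AlgSp.Points.schemeHomeo Y₀).surjective.range_eq, Set.image_univ,
      hkrange]
  have hUopen : IsOpen (Set.range (AlgSp.Points.map j₀.hom)) :=
    OpenSub.isOpen_range_of_open j₀.hom hj₀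
  -- the irreducible components of `|Y|` are finite in number
  haveI : QuasiSober (AlgSp.Points Y.obj) := Groth.Agent.S10339.result Y hY
  have hirr : (irreducibleComponents (AlgSp.Points Y.obj)).Finite := by
    refine (hY0.image (fun η => closure ({η} : Set (AlgSp.Points Y.obj)))).subset ?_
    intro Z hZ
    obtain ⟨η, hη⟩ := QuasiSober.sober hZ.1 (isClosed_of_mem_irreducibleComponents Z hZ)
    exact ⟨η, (Groth.Agent.S10394.result Y hY η).1 ⟨Z, hZ, hη⟩, hη.def⟩
  obtain ⟨T, hT, hyT⟩ := (Groth.Agent.S10394.result Y hY y).2 hy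
  have hycl : closure ({y} : Set (AlgSp.Points Y.obj)) ∈
      irreducibleComponents (AlgSp.Points Y.obj) := by
    rw [hyT.def]; exact hT
  have hyU : y ∈ Set.range (AlgSp.Points.ofPt k) := by
    rw [hofrange]
    exact Groth.Agent.Lib.T2H7.GenFinG.mem_of_dense_of_mem_genericPoints hirr hUopen hdense hycl
  obtain ⟨y₀, hy₀⟩ := hyU
  -- the codimension `0` points of `Y₀`
  let G : Set ↥Y₀.left := {η | AlgSp.HasAt (fun U u => ringKrullDim ↥(U.presheaf.stalk u) = 0)
    Y.obj (AlgSp.Points.ofPt k η)}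
  have hG : G.Finite := by
    show (AlgSp.Points.ofPt k ⁻¹' {y : AlgSp.Points Y.obj |
      AlgSp.HasAt (fun U u => ringKrullDim ↥(U.presheaf.stalk u) = 0) Y.obj y}).Finite
    exact hY0.preimage hofinj.injOn
  have hdim₀ : ringKrullDim ↥(Y₀.left.presheaf.stalk y₀) = 0 :=
    Groth.Agent.Lib.T2H1.HasAt.of_hasAt
      (Groth.Agent.Lib.T2H1.HasAt.etInv1_stalkDim (fun s => s = 0)) y hy k hke y₀ hy₀
  have hy₀gen : closure ({y₀} : Set ↥Y₀.left) ∈ irreducibleComponents ↥Y₀.left :=
    (Groth.Agent.Lib.T2H1.IrrFlat.ringKrullDim_stalk_eq_zero_iff y₀).1 hdim₀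
  let K : Set ↥Y₀.left := ⋃ η ∈ G \ {y₀}, closure ({η} : Set ↥Y₀.left)
  have hK : IsClosed K := (hG.subset Set.sdiff_subset).isClosed_biUnion (fun η _ => isClosed_closure)
  have hy₀K : y₀ ∉ K := by
    intro hmem
    simp only [K, Set.mem_iUnion] at hmem
    obtain ⟨η, ⟨-, hne⟩, hcl⟩ := hmem
    exact hne (Groth.Agent.Lib.Helper4.GenFinite.eq_of_specializes_of_mem_irreducibleComponents
      hy₀gen (specializes_iff_mem_closure.2 hcl))
  obtain ⟨_, ⟨A₀, hAaff, rfl⟩, hy₀A, hAK⟩ :=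
    Y₀.left.isBasis_affineOpens.exists_subset_of_mem_open (show y₀ ∈ Kᶜ from hy₀K)
      hK.isOpen_compl
  let A : Y₀.left.Opens := A₀
  let V : Over S := Over.mk (A.ι ≫ Y₀.hom)
  let ιA : V ⟶ Y₀ := Over.homMk A.ι rfl
  let b : (AlgSp.yon S).obj V ⟶ Y.obj := (AlgSp.yon S).map ιA ≫ k
  have hb : AlgSp.RepWith @IsOpenImmersion b :=
    (AlgSp.RepWith @IsOpenImmersion).comp_mem _ _
      ((AlgSp.repWith_yon_map_iff @IsOpenImmersion ιA).2 (inferInstanceAs (IsOpenImmersion A.ι)))
      hk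
  refine ⟨V, b, ⟨y₀, hy₀A⟩, hAaff, hb, ?_, ?_⟩
  · exact (Groth.Agent.S10509.ofPt_yon_map_comp ιA k _).trans hy₀
  · intro v' hv'
    have e1 : AlgSp.Points.ofPt b v' = AlgSp.Points.ofPt k (ιA.left v') :=
      Groth.Agent.S10509.ofPt_yon_map_comp ιA k v'
    rw [e1] at hv'
    have hmemG : ιA.left v' ∈ G := hv'
    by_contra hne
    have hne' : ιA.left v' ≠ y₀ := by
      intro h
      apply hne
      apply Subtype.ext
      exact h
    have hinK : ιA.left v' ∈ K := by
      simp only [K, Set.mem_iUnion]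
      exact ⟨ιA.left v', ⟨hmemG, hne'⟩, subset_closure rfl⟩
    have hinA : ιA.left v' ∈ (A : Set ↥Y₀.left) := v'.2
    exact hAK hinA hinK

end Groth.Agent.Lib.T2H7.GenFinJ
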