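import Mathlib
import Groth.Agent.S18975

/-!
Helper library (helper7): the "functions downstairs are the invariant functions upstairs" property of a morphism
`φ : X ⟶ Y` with a pair `σ p : Q ⟶ X`, its formulation in terms of morphisms to the affine line, and its transport
to open subschemes.
-/

set_option autoImplicit false
set_option linter.unusedSectionVars false
set_option linter.unusedVariables false
set_option linter.style.haveILetI false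
universe u
open CategoryTheory CategoryTheory.Limits AlgebraicGeometry TopologicalSpace Opposite

namespace Groth.Agent.Lib.T2H7.SecTransport

open Groth.Agent.S18859 (A1 tilde comp_tilde tilde_injective tilde_surjective)
open Groth.Agent.S18975 (tildeO tildeO_injective tildeO_surjective resLE_tildeO)

section defs

variable {X Y Q : Scheme.{u}} (φ : X ⟶ Y) (σ p : Q ⟶ X)

/-- ring version: functions on `U` are exactly the functions on `φ⁻¹U` with equal pullbacks along `σ`, `p`. -/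
def SecProp (U : Y.Opens) : Prop :=
  Function.Injective (φ.app U).hom ∧ ∀ f : Γ(X, φ ⁻¹ᵁ U), f ∈ Set.range (φ.app U).hom ↔
    (σ.appLE (φ ⁻¹ᵁ U) (σ ⁻¹ᵁ (φ ⁻¹ᵁ U) ⊓ p ⁻¹ᵁ (φ ⁻¹ᵁ U)) inf_le_left).hom f =
      (p.appLE (φ ⁻¹ᵁ U) (σ ⁻¹ᵁ (φ ⁻¹ᵁ U) ⊓ p ⁻¹ᵁ (φ ⁻¹ᵁ U)) inf_le_right).hom f

/-- the same in terms of morphisms to the affine line. -/
def SecPropM (U : Y.Opens) : Prop :=
  (∀ R₁ R₂ : (U : Scheme.{u}) ⟶ A1.{u},
    φ.resLE U (φ ⁻¹ᵁ U) le_rfl ≫ R₁ = φ.resLE U (φ ⁻¹ᵁ U) le_rfl ≫ R₂ → R₁ = R₂) ∧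
  ∀ F : ((φ ⁻¹ᵁ U : X.Opens) : Scheme.{u}) ⟶ A1.{u},
    (∃ R : (U : Scheme.{u}) ⟶ A1.{u}, φ.resLE U (φ ⁻¹ᵁ U) le_rfl ≫ R = F) ↔
      σ.resLE (φ ⁻¹ᵁ U) (σ ⁻¹ᵁ (φ ⁻¹ᵁ U) ⊓ p ⁻¹ᵁ (φ ⁻¹ᵁ U)) inf_le_left ≫ F =
        p.resLE (φ ⁻¹ᵁ U) (σ ⁻¹ᵁ (φ ⁻¹ᵁ U) ⊓ p ⁻¹ᵁ (φ ⁻¹ᵁ U)) inf_le_right ≫ F

theorem happ (U : Y.Opens) (r : Γ(Y, U)) :
    φ.resLE U (φ ⁻¹ᵁ U) le_rfl ≫ tildeO U r = tildeO (φ ⁻¹ᵁ U) ((φ.app U).hom r) := by
  rw [resLE_tildeO, Scheme.Hom.appLE_eq_app]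

theorem secPropM_of_secProp (U : Y.Opens) (h : SecProp φ σ p U) : SecPropM φ σ p U := by
  obtain ⟨hinj, hr⟩ := h
  constructor
  · intro R₁ R₂ hR
    obtain ⟨r₁, rfl⟩ := tildeO_surjective U R₁
    obtain ⟨r₂, rfl⟩ := tildeO_surjective U R₂
    rw [happ, happ] at hR
    rw [hinj (tildeO_injective _ hR)]
  · intro F
    obtain ⟨f, rfl⟩ := tildeO_surjective (φ ⁻¹ᵁ U) F
    rw [resLE_tildeO, resLE_tildeO, (tildeO_injective _).eq_iff, ← hr f]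
    constructor
    · rintro ⟨R, hR⟩
      obtain ⟨r, rfl⟩ := tildeO_surjective U R
      rw [happ] at hR
      exact ⟨r, tildeO_injective _ hR⟩
    · rintro ⟨r, rfl⟩
      exact ⟨tildeO U r, happ φ U r⟩

theorem secProp_of_secPropM (U : Y.Opens) (h : SecPropM φ σ p U) : SecProp φ σ p U := by
  obtain ⟨hinj, hr⟩ := h
  constructor
  · intro r₁ r₂ h12
    apply tildeO_injective U
    apply hinj
    rw [happ, happ, h12]
  · intro f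
    have := hr (tildeO (φ ⁻¹ᵁ U) f)
    rw [resLE_tildeO, resLE_tildeO, (tildeO_injective _).eq_iff] at this
    rw [← this]
    constructor
    · rintro ⟨r, rfl⟩
      exact ⟨tildeO U r, happ φ U r⟩
    · rintro ⟨R, hR⟩
      obtain ⟨r, rfl⟩ := tildeO_surjective U R
      rw [happ] at hR
      exact ⟨r, tildeO_injective _ hR⟩

end defs

section transport

variable {X Y Q X₁ Y₁ Q₁ : Scheme.{u}} {φ : X ⟶ Y} {σ p : Q ⟶ X}
  {ψ : X₁ ⟶ Y₁} {σ₁ p₁ : Q₁ ⟶ X₁}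
  (iY : Y₁ ⟶ Y) (iX : X₁ ⟶ X) (iQ : Q₁ ⟶ Q) [IsOpenImmersion iY] [IsOpenImmersion iX]
  [IsOpenImmersion iQ]
  (c1 : ψ ≫ iY = iX ≫ φ) (c2 : σ₁ ≫ iX = iQ ≫ σ) (c3 : p₁ ≫ iX = iQ ≫ p)
  (hX : ∀ x : X, φ x ∈ Set.range iY → x ∈ Set.range iX)
  (hQ : ∀ q : Q, p q ∈ Set.range iX → q ∈ Set.range iQ)

include c1 hX in
theorem image_preimage_eq (U' : Y₁.Opens) : iX ''ᵁ (ψ ⁻¹ᵁ U') = φ ⁻¹ᵁ (iY ''ᵁ U') := by
  ext x
  constructor
  · rintro ⟨x₁, hx₁, rfl⟩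
    refine ⟨ψ x₁, hx₁, ?_⟩
    change iY (ψ x₁) = φ (iX x₁)
    rw [← Scheme.Hom.comp_apply, c1, Scheme.Hom.comp_apply]
  · rintro ⟨y₁, hy₁, hy⟩
    obtain ⟨x₁, rfl⟩ := hX x ⟨y₁, hy⟩
    refine ⟨x₁, ?_, rfl⟩
    have h1 : iY (ψ x₁) = iY y₁ := by
      rw [← Scheme.Hom.comp_apply, c1, Scheme.Hom.comp_apply]
      exact hy.symm
    have h2 : ψ x₁ = y₁ := iY.isOpenEmbedding.injective h1
    change ψ x₁ ∈ U'
    rw [h2]
    exact hy₁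

include c2 c3 hQ in
theorem image_inf_eq (V' : X₁.Opens) (V : X.Opens) (hV : iX ''ᵁ V' = V) :
    iQ ''ᵁ (σ₁ ⁻¹ᵁ V' ⊓ p₁ ⁻¹ᵁ V') = σ ⁻¹ᵁ V ⊓ p ⁻¹ᵁ V := by
  subst hV
  ext q
  constructor
  · rintro ⟨q₁, ⟨h1, h2⟩, rfl⟩
    constructor
    · refine ⟨σ₁ q₁, h1, ?_⟩
      change iX (σ₁ q₁) = σ (iQ q₁)
      rw [← Scheme.Hom.comp_apply, c2, Scheme.Hom.comp_apply]
    · refine ⟨p₁ q₁, h2, ?_⟩
      change iX (p₁ q₁) = p (iQ q₁)
      rw [← Scheme.Hom.comp_apply, c3, Scheme.Hom.comp_apply]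
  · rintro ⟨⟨x₁, hx₁, hx⟩, ⟨x₂, hx₂, hx'⟩⟩
    obtain ⟨q₁, rfl⟩ := hQ q ⟨x₂, hx'⟩
    refine ⟨q₁, ⟨?_, ?_⟩, rfl⟩
    · have h1 : iX (σ₁ q₁) = iX x₁ := by
        rw [← Scheme.Hom.comp_apply, c2, Scheme.Hom.comp_apply]
        exact hx.symm
      change σ₁ q₁ ∈ V'
      rw [iX.isOpenEmbedding.injective h1]
      exact hx₁
    · have h1 : iX (p₁ q₁) = iX x₂ := by
        rw [← Scheme.Hom.comp_apply, c3, Scheme.Hom.comp_apply]
        exact hx'.symm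
      change p₁ q₁ ∈ V'
      rw [iX.isOpenEmbedding.injective h1]
      exact hx₂

include c1 c2 c3 hX hQ in
/-- transport of the morphism version to an open subscheme. -/
theorem secPropM_of_openImmersion (U' : Y₁.Opens) (h : SecPropM φ σ p (iY ''ᵁ U')) :
    SecPropM ψ σ₁ p₁ U' := by
  obtain ⟨hinj, hr⟩ := h
  set U := iY ''ᵁ U' with hU
  set V' := ψ ⁻¹ᵁ U' with hV'
  set V := φ ⁻¹ᵁ U with hVdef
  set W' := σ₁ ⁻¹ᵁ V' ⊓ p₁ ⁻¹ᵁ V' with hW'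
  set W := σ ⁻¹ᵁ V ⊓ p ⁻¹ᵁ V with hWdef
  have hV : iX ''ᵁ V' = V := image_preimage_eq iY iX c1 hX U'
  have hW : iQ ''ᵁ W' = W := image_inf_eq iX iQ c2 c3 hQ V' V hV
  let eY : (U' : Scheme.{u}) ≅ (U : Scheme.{u}) := iY.isoImage U'
  let eX : (V' : Scheme.{u}) ≅ (V : Scheme.{u}) := iX.isoImage V' ≪≫ X.isoOfEq hV
  let eW : (W' : Scheme.{u}) ≅ (W : Scheme.{u}) := iQ.isoImage W' ≪≫ Q.isoOfEq hW
  have heY : eY.hom ≫ U.ι = U'.ι ≫ iY := iY.isoImage_hom_ι U'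
  have heX : eX.hom ≫ V.ι = V'.ι ≫ iX := by
    simp only [eX, Iso.trans_hom, Category.assoc, Scheme.isoOfEq_hom_ι, Scheme.Hom.isoImage_hom_ι]
  have heW : eW.hom ≫ W.ι = W'.ι ≫ iQ := by
    simp only [eW, Iso.trans_hom, Category.assoc, Scheme.isoOfEq_hom_ι, Scheme.Hom.isoImage_hom_ι]
  have k1 : ψ.resLE U' V' le_rfl ≫ eY.hom = eX.hom ≫ φ.resLE U V le_rfl := by
    rw [← cancel_mono U.ι]
    simp only [Category.assoc, Scheme.Hom.resLE_comp_ι, heY]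
    rw [Scheme.Hom.resLE_comp_ι_assoc, c1, ← Category.assoc, ← heX, Category.assoc]
  have k2 : σ₁.resLE V' W' inf_le_left ≫ eX.hom = eW.hom ≫ σ.resLE V W inf_le_left := by
    rw [← cancel_mono V.ι]
    simp only [Category.assoc, Scheme.Hom.resLE_comp_ι, heX]
    rw [Scheme.Hom.resLE_comp_ι_assoc, c2, ← Category.assoc, ← heW, Category.assoc]
  have k3 : p₁.resLE V' W' inf_le_right ≫ eX.hom = eW.hom ≫ p.resLE V W inf_le_right := by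
    rw [← cancel_mono V.ι]
    simp only [Category.assoc, Scheme.Hom.resLE_comp_ι, heX]
    rw [Scheme.Hom.resLE_comp_ι_assoc, c3, ← Category.assoc, ← heW, Category.assoc]
  have k1' : φ.resLE U V le_rfl ≫ eY.inv = eX.inv ≫ ψ.resLE U' V' le_rfl := by
    rw [Iso.comp_inv_eq, Category.assoc, k1, Iso.inv_hom_id_assoc]
  constructor
  · intro R₁ R₂ hR
    have := hinj (eY.inv ≫ R₁) (eY.inv ≫ R₂) (by
      rw [← Category.assoc, ← Category.assoc, k1', Category.assoc, Category.assoc, hR])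
    exact (cancel_epi eY.inv).mp this
  · intro F'
    have hF := hr (eX.inv ≫ F')
    have e1 : (∃ R' : (U' : Scheme.{u}) ⟶ A1.{u}, ψ.resLE U' V' le_rfl ≫ R' = F') ↔
        ∃ R : (U : Scheme.{u}) ⟶ A1.{u}, φ.resLE U V le_rfl ≫ R = eX.inv ≫ F' := by
      constructor
      · rintro ⟨R', rfl⟩
        exact ⟨eY.inv ≫ R', by rw [← Category.assoc, k1', Category.assoc]⟩
      · rintro ⟨R, hR⟩
        refine ⟨eY.hom ≫ R, ?_⟩
        rw [← Category.assoc, k1, Category.assoc, hR, Iso.hom_inv_id_assoc]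
    have e2 : (σ₁.resLE V' W' inf_le_left ≫ F' = p₁.resLE V' W' inf_le_right ≫ F') ↔
        (σ.resLE V W inf_le_left ≫ eX.inv ≫ F' = p.resLE V W inf_le_right ≫ eX.inv ≫ F') := by
      have a1 : σ₁.resLE V' W' inf_le_left ≫ F' = eW.hom ≫ σ.resLE V W inf_le_left ≫ eX.inv ≫ F' := by
        rw [← Category.assoc, ← k2, Category.assoc, Iso.hom_inv_id_assoc]
      have a2 : p₁.resLE V' W' inf_le_right ≫ F' = eW.hom ≫ p.resLE V W inf_le_right ≫ eX.inv ≫ F' := by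
        rw [← Category.assoc, ← k3, Category.assoc, Iso.hom_inv_id_assoc]
      rw [a1, a2, cancel_epi]
    rw [e1, e2]
    exact hF

include c1 c2 c3 hX hQ in
/-- transport of the ring version to an open subscheme. -/
theorem secProp_of_openImmersion (U' : Y₁.Opens) (h : SecProp φ σ p (iY ''ᵁ U')) :
    SecProp ψ σ₁ p₁ U' :=
  secProp_of_secPropM _ _ _ _
    (secPropM_of_openImmersion iY iX iQ c1 c2 c3 hX hQ U' (secPropM_of_secProp _ _ _ _ h))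

end transport

end Groth.Agent.Lib.T2H7.SecTransport
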