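import Mathlib
import Groth.Prelude.Def_W4c6nonredquotmfGoodQuot
import Groth.Agent.Lib.T2H7SecTransport
import Groth.Agent.Lib.Helper25TopGrp
import Groth.Agent.Lib.Helper12Cart

/-!
Helper library (helper7): a good quotient restricts to a good quotient over every open of the target.
-/

set_option autoImplicit false
set_option linter.unusedSectionVars false
set_option linter.unusedVariables false
set_option linter.style.haveILetI false
universe u
open CategoryTheory CategoryTheory.Limits AlgebraicGeometry TopologicalSpace Opposite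
open MonoidalCategory CartesianMonoidalCategory MonObj

namespace Groth.Agent.Lib.T2H7.GoodQuotOpen

open Groth.Agent.Lib.Helper25.TopGrp Groth.Agent.Lib.T2H7.SecTransport

variable {S : Scheme.{u}} [BaseUO S] {G X Y : Over S} [GrpObj G]
  (a : AlgGrp.Action G X) (φ : X ⟶ Y) (U : Y.left.Opens)
  (aU : AlgGrp.Action G (Over.mk ((φ.left ⁻¹ᵁ U).ι ≫ X.hom)))
  (jU : Over.mk ((φ.left ⁻¹ᵁ U).ι ≫ X.hom) ⟶ X) (hjU : jU.left = (φ.left ⁻¹ᵁ U).ι)
  (haU : aU.act ≫ jU = (G ◁ jU) ≫ a.act)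
  (φU : Over.mk ((φ.left ⁻¹ᵁ U).ι ≫ X.hom) ⟶ Over.mk (U.ι ≫ Y.hom))
  (hφU : φU.left ≫ U.ι = (φ.left ⁻¹ᵁ U).ι ≫ φ.left)

include hjU haU in
theorem act_left_ι : aU.act.left ≫ (φ.left ⁻¹ᵁ U).ι = (G ◁ jU).left ≫ a.act.left := by
  have h := congrArg (fun m => m.left) haU
  simp only [Over.comp_left] at h
  rw [hjU] at h
  exact h

include hjU in
theorem snd_left_ι : (snd G (Over.mk ((φ.left ⁻¹ᵁ U).ι ≫ X.hom))).left ≫ (φ.left ⁻¹ᵁ U).ι =
    (G ◁ jU).left ≫ (snd G X).left := by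
  have h := congrArg (fun m => m.left) (whiskerLeft_snd G jU)
  simp only [Over.comp_left] at h
  rw [hjU] at h
  exact h.symm

include hjU in
theorem isOpenImmersion_whiskerLeft : IsOpenImmersion (G ◁ jU).left := by
  haveI : IsOpenImmersion jU.left := by rw [hjU]; infer_instance
  exact MorphismProperty.of_isPullback (P := @IsOpenImmersion)
    ((Groth.Agent.Lib.Helper12.isPullback_whiskerLeft G jU).map (Over.forget _)).flip ‹_›

include hjU in
theorem mem_range_whiskerLeft (q : (G ⊗ X).left)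
    (hq : (snd G X).left q ∈ Set.range (φ.left ⁻¹ᵁ U).ι) : q ∈ Set.range (G ◁ jU).left := by
  rw [range_whiskerLeft, hjU]
  exact hq

/-- the closure in `X` of a closed invariant subset of `φ⁻¹U` -/
def clo (W : Set (φ.left ⁻¹ᵁ U : X.left.Opens)) : Set X.left :=
  closure ((φ.left ⁻¹ᵁ U).ι '' W)

theorem isClosed_clo (W : Set (φ.left ⁻¹ᵁ U : X.left.Opens)) : IsClosed (clo φ U W) := isClosed_closure

theorem mem_of_ι_mem_clo (W : Set (φ.left ⁻¹ᵁ U : X.left.Opens)) (hW : IsClosed W)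
    (x : (φ.left ⁻¹ᵁ U : X.left.Opens)) (hx : (φ.left ⁻¹ᵁ U).ι x ∈ clo φ U W) : x ∈ W := by
  have h1 := (φ.left ⁻¹ᵁ U).ι.isOpenEmbedding.isInducing.closure_eq_preimage_closure_image W
  rw [hW.closure_eq] at h1
  rw [h1]
  exact hx

include hjU haU in
theorem isInvariantSet_clo (W : Set (φ.left ⁻¹ᵁ U : X.left.Opens))
    (hinv : NRQuot.IsInvariantSet aU W) : NRQuot.IsInvariantSet a (clo φ U W) := by
  intro q hq
  change (snd G X).left q ∈ closure ((φ.left ⁻¹ᵁ U).ι '' W) at hq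
  change a.act.left q ∈ closure ((φ.left ⁻¹ᵁ U).ι '' W)
  have hopen := isOpenMap_snd G X
  have hq' : q ∈ closure ((snd G X).left ⁻¹' ((φ.left ⁻¹ᵁ U).ι '' W)) := by
    rw [← hopen.preimage_closure_eq_closure_preimage (snd G X).left.continuous]
    exact hq
  have hmaps : Set.MapsTo a.act.left ((snd G X).left ⁻¹' ((φ.left ⁻¹ᵁ U).ι '' W))
      ((φ.left ⁻¹ᵁ U).ι '' W) := by
    rintro q₀ ⟨w, hw, hwq⟩
    obtain ⟨q₁, rfl⟩ := mem_range_whiskerLeft φ U jU hjU q₀ ⟨w, hwq⟩
    have h1 : (φ.left ⁻¹ᵁ U).ι ((snd G (Over.mk ((φ.left ⁻¹ᵁ U).ι ≫ X.hom))).left q₁) =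
        (φ.left ⁻¹ᵁ U).ι w := by
      rw [← Scheme.Hom.comp_apply, snd_left_ι φ U jU hjU, Scheme.Hom.comp_apply]
      exact hwq.symm
    have h2 := (φ.left ⁻¹ᵁ U).ι.isOpenEmbedding.injective h1
    have h3 : aU.act.left.base q₁ ∈ W := hinv q₁ (by
      change (snd G (Over.mk ((φ.left ⁻¹ᵁ U).ι ≫ X.hom))).left q₁ ∈ W
      rw [h2]
      exact hw)
    refine ⟨aU.act.left q₁, h3, ?_⟩
    rw [← Scheme.Hom.comp_apply, act_left_ι a φ U aU jU hjU haU, Scheme.Hom.comp_apply]
  exact hmaps.closure a.act.left.continuous hq'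

include hφU in
theorem image_eq (W : Set (φ.left ⁻¹ᵁ U : X.left.Opens)) (hW : IsClosed W) :
    U.ι ⁻¹' (φ.left '' clo φ U W) = φU.left '' W := by
  ext y
  constructor
  · rintro ⟨x, hx, hxy⟩
    have hxV : x ∈ φ.left ⁻¹ᵁ U := by
      change φ.left x ∈ U
      rw [hxy]
      exact y.2
    have hxW := mem_of_ι_mem_clo φ U W hW ⟨x, hxV⟩ hx
    refine ⟨⟨x, hxV⟩, hxW, ?_⟩
    apply U.ι.isOpenEmbedding.injective
    rw [← Scheme.Hom.comp_apply, hφU, Scheme.Hom.comp_apply]
    exact hxy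
  · rintro ⟨w, hw, rfl⟩
    refine ⟨(φ.left ⁻¹ᵁ U).ι w, subset_closure ⟨w, hw, rfl⟩, ?_⟩
    rw [← Scheme.Hom.comp_apply, ← hφU, Scheme.Hom.comp_apply]

include hjU haU hφU in
/-- a good quotient restricts to a good quotient over an open of the target. -/
theorem isGoodQuot_restrict (h : NRQuot.IsGoodQuot a φ) : NRQuot.IsGoodQuot aU φU := by
  have hφres : φU.left = φ.left ∣_ U := by
    rw [← cancel_mono U.ι, hφU, morphismRestrict_ι]
  refine ⟨?_, ?_, ?_, ?_, ?_⟩
  · -- affine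
    rw [hφres]
    exact IsZariskiLocalAtTarget.restrict (P := @IsAffineHom) h.affine U
  · -- invariant
    let gU : Over.mk (U.ι ≫ Y.hom) ⟶ Y := Over.homMk U.ι rfl
    haveI : Mono gU := (Over.forget S).mono_of_mono_map (by change Mono U.ι; infer_instance)
    have key : φU ≫ gU = jU ≫ φ := by
      apply Over.OverMorphism.ext
      simp only [Over.comp_left]
      rw [hjU]
      exact hφU
    have hinv : a.act ≫ φ = snd G X ≫ φ := h.inv
    change aU.act ≫ φU = snd G (Over.mk ((φ.left ⁻¹ᵁ U).ι ≫ X.hom)) ≫ φU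
    rw [← cancel_mono gU, Category.assoc, Category.assoc, key, ← Category.assoc, haU, Category.assoc,
      hinv, ← Category.assoc, whiskerLeft_snd, Category.assoc]
  · -- sections
    intro U'
    haveI : IsOpenImmersion (G ◁ jU).left := isOpenImmersion_whiskerLeft φ U jU hjU
    obtain ⟨h1, h2⟩ := h.sections (U.ι ''ᵁ U')
    have hbig : SecProp φ.left a.act.left (snd G X).left (U.ι ''ᵁ U') := by
      refine ⟨h1, fun f => ?_⟩
      have : f ∈ Set.range (φ.left.app (U.ι ''ᵁ U')) ↔ f ∈ {f | GIT.IsInvSection a φ (U.ι ''ᵁ U') f} := by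
        rw [h2]
      exact this
    have hsmall := secProp_of_openImmersion (φ := φ.left) (σ := a.act.left) (p := (snd G X).left)
      (ψ := φU.left) (σ₁ := aU.act.left)
      (p₁ := (snd G (Over.mk ((φ.left ⁻¹ᵁ U).ι ≫ X.hom))).left)
      U.ι (φ.left ⁻¹ᵁ U).ι (G ◁ jU).left hφU
      (act_left_ι a φ U aU jU hjU haU) (snd_left_ι φ U jU hjU)
      (by
        intro x hx
        rw [Scheme.Opens.range_ι] at hx ⊢
        exact hx)
      (fun q hq => mem_range_whiskerLeft (G := G) φ U jU hjU q hq) U' hbig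
    obtain ⟨g1, g2⟩ := hsmall
    refine ⟨g1, ?_⟩
    ext f
    exact g2 f
  · -- closed images
    intro W hW hWinv
    have hcl : IsClosed (φ.left.base '' clo φ U W) :=
      h.closed _ (isClosed_clo φ U W) (isInvariantSet_clo a φ U aU jU hjU haU W hWinv)
    rw [U.ι.isOpenEmbedding.isInducing.isClosed_iff]
    exact ⟨_, hcl, image_eq φ U φU hφU W hW⟩
  · -- intersections
    intro J W hW hWinv
    apply Set.Subset.antisymm (Set.image_iInter_subset _ _)
    intro y hy
    have hy' : U.ι y ∈ ⋂ i, φ.left.base '' clo φ U (W i) := by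
      rw [Set.mem_iInter] at hy ⊢
      intro i
      have := hy i
      rw [← image_eq φ U φU hφU (W i) (hW i)] at this
      exact this
    rw [← h.inter J (fun i => clo φ U (W i)) (fun i => isClosed_clo φ U (W i))
      (fun i => isInvariantSet_clo a φ U aU jU hjU haU (W i) (hWinv i))] at hy'
    obtain ⟨x, hx, hxy⟩ := hy'
    have hxV : x ∈ φ.left ⁻¹ᵁ U := by
      change φ.left x ∈ U
      rw [hxy]
      exact y.2
    refine ⟨⟨x, hxV⟩, ?_, ?_⟩
    · rw [Set.mem_iInter] at hx ⊢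
      intro i
      exact mem_of_ι_mem_clo φ U (W i) (hW i) ⟨x, hxV⟩ (hx i)
    · apply U.ι.isOpenEmbedding.injective
      change (φU.left ≫ U.ι) ⟨x, hxV⟩ = _
      rw [hφU, Scheme.Hom.comp_apply]
      exact hxy

end Groth.Agent.Lib.T2H7.GoodQuotOpen
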