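import Groth.Agent.Lib.T2H7DSProd

/-!
The greatest locally split subtorus of a group of multiplicative type over a connected base.
-/

set_option autoImplicit false
set_option linter.unusedSectionVars false
set_option linter.unusedVariables false
set_option linter.style.haveILetI false
universe u
open CategoryTheory CategoryTheory.Limits MonoidalCategory CartesianMonoidalCategory MonObj GrpObj
  AlgebraicGeometry

namespace Groth.Agent.Lib.T2H7.GrLoc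

open Groth.Agent.Lib.T2H7.OverGlue Groth.Agent.Lib.T2H7.GrpIsoBC Groth.Agent.Lib.T2H7.ToriMono
  Groth.Agent.Lib.T2H7.MtModel Groth.Agent.Lib.T2H7.DiagHomA Groth.Agent.Lib.T2H7.DiagHomB
  Groth.Agent.Lib.T2H7.DiagHomE Groth.Agent.Lib.T2H7.DiagDS Groth.Agent.Lib.T2H3.MultGa
  Groth.Agent.Lib.Helper27.GaGm Groth.Agent.Lib.T2H7.MtLocus Groth.Agent.Lib.T2H7.ImgSplit
  Groth.Agent.Lib.T2H7.MaxSplit Groth.Agent.Lib.T2H7.QtBc Groth.Agent.Lib.T2H7.DSProd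

section Rank

variable {S : Scheme.{u}} {T : Over S} [GrpObj T]

/-- `T` is Zariski-locally a split torus. -/
def LS (T : Over S) [GrpObj T] : Prop :=
  ∀ s : ↥S, ∃ U : S.Opens, s ∈ U ∧ ∃ r : ℕ, Red.IsSplitTorusWith (Fin r → ℤ) (Red.bc U.ι T)

theorem exists_lift_field {Ω : Type u} [Field Ω] (t : Spec (CommRingCat.of Ω) ⟶ S) (U : S.Opens)
    (h : ∀ x, t.base x ∈ U) : ∃ a : Spec (CommRingCat.of Ω) ⟶ (U : Scheme.{u}), a ≫ U.ι = t := by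
  refine ⟨IsOpenImmersion.lift U.ι t ?_, IsOpenImmersion.lift_fac _ _ _⟩
  rw [Scheme.Opens.range_ι]
  rintro _ ⟨x, rfl⟩
  exact h x

/-- the rank of a local splitting at a point is well defined. -/
theorem rank_unique_at {U U' : S.Opens} (s : S) (hs : s ∈ U) (hs' : s ∈ U') {r r' : ℕ}
    (h : Red.IsSplitTorusWith (Fin r → ℤ) (Red.bc U.ι T))
    (h' : Red.IsSplitTorusWith (Fin r' → ℤ) (Red.bc U'.ι T)) : r = r' := by
  have hpt : ∀ (W : S.Opens), s ∈ W → ∀ x, (S.fromSpecResidueField s).base x ∈ W := by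
    intro W hW x
    have : (S.fromSpecResidueField s) x = s := Scheme.fromSpecResidueField_apply _ _
    rw [this]
    exact hW
  obtain ⟨a, ha⟩ := exists_lift_field (Ω := ↑(S.residueField s)) (S.fromSpecResidueField s) U
    (hpt U hs)
  obtain ⟨a', ha'⟩ := exists_lift_field (Ω := ↑(S.residueField s)) (S.fromSpecResidueField s) U'
    (hpt U' hs')
  obtain ⟨e⟩ := split_of_comp a U.ι ha T _ h
  obtain ⟨e'⟩ := split_of_comp a' U'.ι ha' T _ h'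
  exact rank_eq_of_grpIso (R := S.residueField s) ⟨e.symm ≪≫ e'⟩

/-- over a connected base all local splittings have the same rank. -/
theorem rank_const [ConnectedSpace ↥S] (hT : LS T) :
    ∃ r : ℕ, ∀ (U : S.Opens) (r' : ℕ), (∃ s, s ∈ U) →
      Red.IsSplitTorusWith (Fin r' → ℤ) (Red.bc U.ι T) → r' = r := by
  choose U hsU r hr using hT
  have hloc : IsLocallyConstant r := by
    rw [IsLocallyConstant.iff_exists_open]
    intro s
    refine ⟨U s, (U s).2, hsU s, fun s' hs' => ?_⟩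
    exact rank_unique_at s' (hsU s') hs' (hr s') (hr s)
  obtain ⟨s₀⟩ := (inferInstance : Nonempty ↥S)
  refine ⟨r s₀, fun V r' ⟨s, hs⟩ hV => ?_⟩
  rw [rank_unique_at s hs (hsU s) hV (hr s)]
  exact hloc.apply_eq_of_preconnectedSpace s s₀

end Rank

section Greatest

variable {S : Scheme.{u}} {G : Over S} [GrpObj G]

theorem mono_of_fac {A B C : Over S} {f : A ⟶ B} {g : B ⟶ C} {h : A ⟶ C} [Mono h]
    (hfg : f ≫ g = h) : Mono f := by
  haveI : Mono (f ≫ g) := by rw [hfg]; infer_instance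
  exact mono_of_mono f g

/-- **Over a connected base, a group of multiplicative type has a greatest locally split
subtorus.** -/
theorem exists_greatest_locSplit [ConnectedSpace ↥S] (hG : SGA3x.IsMultTypeFT G) :
    ∃ (T : Over S) (_ : GrpObj T) (j : T ⟶ G), IsMonHom j ∧ Mono j ∧ LS T ∧
      ∀ (T' : Over S) [GrpObj T'] (j' : T' ⟶ G) [IsMonHom j'] [Mono j'],
        LS T' → ∃ g : T' ⟶ T, g ≫ j = j' := by
  haveI : Nonempty S := inferInstance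
  obtain ⟨Ω, instΩ, t, N, instN, eΩ, heΩ, hfg⟩ := exists_field_point_fg hG
  haveI := heΩ
  haveI := hfg
  obtain ⟨s₀, τ, hτ, -, -, -⟩ := field_point_factor t
  obtain ⟨n, f, hf⟩ := exists_fin_surj N
  obtain ⟨P, hP⟩ : ∃ P : ℕ → Prop, P = fun r => ∃ (T : Over S) (_ : GrpObj T) (j : T ⟶ G),
      IsMonHom j ∧ Mono j ∧ LS T ∧ ∃ U : S.Opens, s₀ ∈ U ∧
        Red.IsSplitTorusWith (Fin r → ℤ) (Red.bc U.ι T) := ⟨_, rfl⟩
  have h0 : P 0 := by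
    rw [hP]
    have h00 : ∀ U : S.Opens, Red.IsSplitTorusWith (Fin 0 → ℤ)
        (Red.bc U.ι (Red.DS S (Fin 0 → ℤ))) := fun U => split_bc U.ι ⟨Iso.refl _⟩
    exact ⟨Red.DS S (Fin 0 → ℤ), inferInstance, 1, isMonHom_one', mono_of_subsingleton _,
      fun s => ⟨⊤, trivial, 0, h00 ⊤⟩, ⊤, trivial, h00 ⊤⟩
  have hb : ∀ r, P r → r ≤ n := by
    intro r hr
    rw [hP] at hr
    obtain ⟨T, instT, j, hjm, hjmono, -, U, hs₀U, hsplit⟩ := hr
    haveI := hjm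
    haveI := hjmono
    obtain ⟨t', ht'⟩ := exists_lift_field t U (fun x => by rw [pt_eq t s₀ τ hτ x]; exact hs₀U)
    haveI : (Over.pullback U.ι).PreservesMonomorphisms :=
      Functor.preservesMonomorphisms_of_adjunction (Over.mapPullbackAdj U.ι)
    haveI : IsMonHom ((ActBC.bcCompIso t' U.ι G ht') ≪≫ eΩ).hom := by
      show IsMonHom ((ActBC.bcCompIso t' U.ι G ht').hom ≫ eΩ.hom)
      infer_instance
    exact rank_le_of_point (G := Red.bc U.ι G) t' ((ActBC.bcCompIso t' U.ι G ht') ≪≫ eΩ) n f hf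
      ((Over.pullback U.ι).map j) r hsplit
  obtain ⟨r₀, hPr₀, hmax⟩ := exists_max P h0 n hb
  rw [hP] at hPr₀
  obtain ⟨T₀, instT₀, j₀, hj₀m, hj₀mono, hLS₀, U₀, hs₀U₀, hsplit₀⟩ := hPr₀
  haveI := hj₀m
  haveI := hj₀mono
  refine ⟨T₀, instT₀, j₀, hj₀m, hj₀mono, hLS₀, ?_⟩
  intro T' _ j' _ _ hLS'
  obtain ⟨E₃, inst₃, j₃, g₀, g', hj₃m, hj₃mono, hLS₃, hg₀, hg'⟩ := directed hG j₀ j' hLS₀ hLS'
  haveI := hj₃m
  haveI := hj₃mono
  haveI : IsMonHom g₀ := isMonHom_of_mono_fac j₀ j₃ g₀ hg₀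
  haveI : Mono g₀ := mono_of_fac hg₀
  -- the ranks of `T₀` and `E₃`
  obtain ⟨ρ₀, hρ₀⟩ := rank_const hLS₀
  obtain ⟨ρ₃, hρ₃⟩ := rank_const hLS₃
  have hr₀ : r₀ = ρ₀ := hρ₀ U₀ r₀ ⟨s₀, hs₀U₀⟩ hsplit₀
  obtain ⟨U₃, hs₀U₃, r₃, hsplit₃⟩ := hLS₃ s₀
  have hr₃ : r₃ = ρ₃ := hρ₃ U₃ r₃ ⟨s₀, hs₀U₃⟩ hsplit₃
  have hle : ρ₃ ≤ ρ₀ := by
    rw [← hr₀, ← hr₃]
    apply hmax
    rw [hP]
    exact ⟨E₃, inst₃, j₃, hj₃m, hj₃mono, hLS₃, U₃, hs₀U₃, hsplit₃⟩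
  -- comparison on a common chart
  have hchart : ∀ s : S, ∃ V : S.Opens, s ∈ V ∧
      Red.IsSplitTorusWith (Fin ρ₀ → ℤ) (Red.bc V.ι T₀) ∧
      Red.IsSplitTorusWith (Fin ρ₃ → ℤ) (Red.bc V.ι E₃) := by
    intro s
    obtain ⟨V₁, hsV₁, r₁, h₁⟩ := hLS₀ s
    obtain ⟨V₃, hsV₃, r₃', h₃⟩ := hLS₃ s
    have e₁ : r₁ = ρ₀ := hρ₀ V₁ r₁ ⟨s, hsV₁⟩ h₁
    have e₃ : r₃' = ρ₃ := hρ₃ V₃ r₃' ⟨s, hsV₃⟩ h₃
    subst e₁
    subst e₃
    exact ⟨V₁ ⊓ V₃, ⟨hsV₁, hsV₃⟩,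
      split_of_comp (S.homOfLE (inf_le_left : V₁ ⊓ V₃ ≤ V₁)) V₁.ι (S.homOfLE_ι _) T₀ _ h₁,
      split_of_comp (S.homOfLE (inf_le_right : V₁ ⊓ V₃ ≤ V₃)) V₃.ι (S.homOfLE_ι _) E₃ _ h₃⟩
  have hge : ρ₀ ≤ ρ₃ := by
    obtain ⟨V, hsV, hV₀, hV₃⟩ := hchart s₀
    haveI : Nonempty ↥(V : Scheme.{u}) := ⟨⟨s₀, hsV⟩⟩
    haveI : (Over.pullback V.ι).PreservesMonomorphisms :=
      Functor.preservesMonomorphisms_of_adjunction (Over.mapPullbackAdj V.ι)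
    exact rank_le_of_mono ((Over.pullback V.ι).map g₀) ρ₀ ρ₃ hV₀ hV₃
  have heq : ρ₃ = ρ₀ := le_antisymm hle hge
  haveI : IsIso g₀ := by
    refine OverDesc.isIso_of_forall_exists g₀ fun s => ?_
    obtain ⟨V, hsV, hV₀, hV₃⟩ := hchart s
    rw [heq] at hV₃
    haveI : (Over.pullback V.ι).PreservesMonomorphisms :=
      Functor.preservesMonomorphisms_of_adjunction (Over.mapPullbackAdj V.ι)
    exact ⟨V, V.ι, inferInstance, by rw [Scheme.Opens.range_ι]; exact hsV,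
      isIso_of_split_same_rank ((Over.pullback V.ι).map g₀) ρ₀ hV₀ hV₃⟩
  refine ⟨g' ≫ inv g₀, ?_⟩
  rw [Category.assoc, ← hg₀, IsIso.inv_hom_id_assoc, hg']

end Greatest

end Groth.Agent.Lib.T2H7.GrLoc
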