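import Groth.Agent.Lib.T2H7GFil2
import Mathlib

/-!
# Multiplicative filtrations and the `γ`-operations

For a multiplicative decreasing family of ideals `F` of a `λ`-ring: the set of elements `z` with
`γ^i(z) ∈ F i` for all `i` is closed under sums and under scalars from a binomial ring, and contains
the products of `γ`'s of positive weight of elements whose `γ^k` lie in `F k`.
-/

set_option autoImplicit false

noncomputable section

namespace Groth.Agent.Lib.T2H7.GradedSS

open MvPolynomial Finset LambdaRing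
open Groth.Agent.Lib.Helper4 Groth.Agent.Lib.T2H7.LTerm Groth.Agent.Lib.T2H7.LTransfer
open Groth.Agent.Lib.T2H7.LBinom Groth.Agent.Lib.T2H7.GFilT

/-- a multiplicative decreasing family of ideals -/
structure IsMulFil {B : Type*} [CommRing B] (F : ℕ → Ideal B) : Prop where
  anti : ∀ a b : ℕ, a ≤ b → F b ≤ F a
  mul : ∀ (a b : ℕ) (u v : B), u ∈ F a → v ∈ F b → u * v ∈ F (a + b)
  one : (1 : B) ∈ F 0

section

variable {B : Type*} [CommRing B] {F : ℕ → Ideal B} (hF : IsMulFil F)
include hF

theorem pow_mem_F {u : B} {a : ℕ} (hu : u ∈ F a) (k : ℕ) : u ^ k ∈ F (k • a) := by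
  induction k with
  | zero => rw [pow_zero, zero_smul]; exact hF.one
  | succ k ih => rw [pow_succ, succ_nsmul]; exact hF.mul _ _ _ _ ih hu

theorem finsupp_prod_mem_F {ι : Type*} (μ : ι →₀ ℕ) (f : ι → B) (w : ι → ℕ)
    (hf : ∀ i, f i ∈ F (w i)) :
    (μ.prod fun i k => f i ^ k) ∈ F (Finsupp.weight w μ) := by
  classical
  induction μ using Finsupp.induction_linear with
  | zero => rw [Finsupp.prod_zero_index, map_zero]; exact hF.one
  | add μ ν hμ hν =>
    rw [Finsupp.prod_add_index' (fun i => pow_zero _) (fun i m n => pow_add _ _ _), map_add]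
    exact hF.mul _ _ _ _ hμ hν
  | single a b =>
    rw [Finsupp.prod_single_index (h := fun i k => f i ^ k) (pow_zero _), Finsupp.weight_single]
    exact pow_mem_F hF (hf a) b

theorem coeff_mul_graded_F {f g : PowerSeries B}
    (hf : ∀ m, PowerSeries.coeff m f ∈ F m) (hg : ∀ m, PowerSeries.coeff m g ∈ F m) :
    ∀ m, PowerSeries.coeff m (f * g) ∈ F m := by
  intro m
  rw [PowerSeries.coeff_mul]
  refine Ideal.sum_mem _ fun p hp => ?_
  have h := hF.mul _ _ _ _ (hf p.1) (hg p.2)
  rwa [Finset.HasAntidiagonal.mem_antidiagonal.mp hp] at h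

theorem coeff_pow_graded_F {f : PowerSeries B} (hf : ∀ m, PowerSeries.coeff m f ∈ F m)
    (k : ℕ) : ∀ m, PowerSeries.coeff m (f ^ k) ∈ F m := by
  induction k with
  | zero =>
    intro m
    rw [pow_zero, PowerSeries.coeff_one]
    split_ifs with h
    · subst h; exact hF.one
    · exact Ideal.zero_mem _
  | succ k ih =>
    rw [pow_succ]
    exact coeff_mul_graded_F hF ih hf

end

section

variable {B : Type*} [CommRing B] [LambdaOps B] (F : ℕ → Ideal B)

/-- the elements all of whose `γ^i` lie in `F i` -/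
def SSF : Set B := {z | ∀ i, gamma i z ∈ F i}

variable {F} (hF : IsMulFil F)
include hF

theorem zero_mem_SSF : (0 : B) ∈ SSF F := by
  intro i
  rcases i with _ | i
  · rw [gamma, if_pos rfl]; exact hF.one
  · rw [gamma_zero_arg _ (by omega)]; exact Ideal.zero_mem _

theorem add_mem_SSF {z z' : B} (hz : z ∈ SSF F) (hz' : z' ∈ SSF F) : z + z' ∈ SSF F := by
  intro i
  rw [gamma_add]
  refine Ideal.sum_mem _ fun a ha => ?_
  rw [mem_range] at ha
  have h := hF.mul _ _ _ _ (hz a) (hz' (i - a))
  rwa [show a + (i - a) = i by omega] at h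

theorem sum_mem_SSF {ι : Type*} (s : Finset ι) (f : ι → B) (h : ∀ i ∈ s, f i ∈ SSF F) :
    ∑ i ∈ s, f i ∈ SSF F := by
  classical
  induction s using Finset.induction_on with
  | empty => rw [Finset.sum_empty]; exact zero_mem_SSF hF
  | insert a s ha ih =>
    rw [Finset.sum_insert ha]
    exact add_mem_SSF hF (h a (Finset.mem_insert_self a s))
      (ih fun i hi => h i (Finset.mem_insert_of_mem hi))

theorem smul_mem_SSF {K : Type*} [CommRing K] [LambdaOps K] [BinomialRing K] [Algebra K B]
    (hKb : IsBinomial K) (hB : IsSpecial B) (hKB : IsLambdaAlg K B) (c : K) {z : B}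
    (hz : z ∈ SSF F) : algebraMap K B c * z ∈ SSF F := by
  intro i
  rcases i with _ | i
  · rw [gamma, if_pos rfl]; exact hF.one
  · rw [gamma_algebraMap_mul hKb hB hKB c z (i + 1) (by omega)]
    refine Ideal.sum_mem _ fun k _ => Ideal.mul_mem_left _ _ ?_
    apply coeff_pow_graded_F hF
    intro m
    rw [map_sub, coeff_gammaSeries, PowerSeries.coeff_one]
    rcases m with _ | m
    · rw [if_pos rfl, gamma, if_pos rfl, sub_self]; exact Ideal.zero_mem _
    · rw [if_neg (Nat.succ_ne_zero m), sub_zero]; exact hz _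

theorem evG_monomial_mem_F {r : ℕ} (x : Fin r → B)
    (hx : ∀ s k, gamma (k + 1) (x s) ∈ F (k + 1)) (μ : Fin r × ℕ →₀ ℕ) :
    evG x (monomial μ 1) ∈ F (Finsupp.weight (wtG r) μ) := by
  rw [evG, aeval_monomial, map_one, one_mul]
  exact finsupp_prod_mem_F hF μ (fun p => gamma (p.2 + 1) (x p.1)) (wtG r)
    (fun p => hx p.1 p.2)

/-- products of `γ`'s of positive total weight -/
theorem gprod_mem_SSF (hB : IsSpecial B) {r : ℕ} (x : Fin r → B)
    (hx : ∀ s k, gamma (k + 1) (x s) ∈ F (k + 1)) (l : List (ℕ × Fin r))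
    (hl : 1 ≤ (l.map Prod.fst).sum) :
    (l.map fun p => gamma p.1 (x p.2)).prod ∈ SSF F := by
  intro i
  exact gamma_gprod_mem_weight r hB x (F i) l hl i
    (fun μ hμ => hF.anti _ _ hμ (evG_monomial_mem_F hF x hx μ))

omit hF in
theorem exists_list_of_finset {r : ℕ} (X : Fin r → B) (s₀ : Fin r) (S : Finset ℕ)
    (e : ℕ → ℕ) :
    ∃ l : List (ℕ × Fin r),
      (l.map fun p => gamma p.1 (X p.2)).prod = ∏ j ∈ S, gamma (j + 1) (X s₀) ^ e j ∧
      (l.map Prod.fst).sum = ∑ j ∈ S, (j + 1) * e j := by
  classical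
  induction S using Finset.induction_on with
  | empty => exact ⟨[], by simp, by simp⟩
  | insert j s hj ih =>
    obtain ⟨l, h1, h2⟩ := ih
    refine ⟨List.replicate (e j) (j + 1, s₀) ++ l, ?_, ?_⟩
    · rw [List.map_append, List.prod_append, h1, Finset.prod_insert hj, List.map_replicate,
        List.prod_replicate]
    · rw [List.map_append, List.sum_append, h2, Finset.sum_insert hj, List.map_replicate,
        List.sum_replicate, smul_eq_mul, mul_comm]

/-- if the kernel of the augmentation lies in `SSF F`, then the `γ`-filtration lies in `F` -/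
theorem gammaFil_le_of_SSF {K : Type*} [CommRing K] (ε : B →+* K)
    (h : ∀ z, ε z = 0 → z ∈ SSF F) (k : ℕ) : gammaFil ε k ≤ F k := by
  apply Ideal.span_le.mpr
  rintro y ⟨l, hl, hk, rfl⟩
  refine hF.anti _ _ hk ?_
  clear hk
  induction l with
  | nil =>
    simp only [List.map_nil, List.prod_nil, List.sum_nil]
    exact hF.one
  | cons p l ih =>
    simp only [List.map_cons, List.prod_cons, List.sum_cons]
    refine hF.mul _ _ _ _ ?_ (ih fun q hq => hl q (List.mem_cons_of_mem _ hq))
    exact h p.2 (hl p List.mem_cons_self) p.1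

end

end Groth.Agent.Lib.T2H7.GradedSS
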