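import Mathlib.AlgebraicGeometry.Morphisms.Proper
import Mathlib.AlgebraicGeometry.Noetherian
import Mathlib.AlgebraicGeometry.IdealSheaf.Subscheme

set_option autoImplicit false
set_option linter.unusedSectionVars false
set_option linter.unusedVariables false
set_option linter.style.haveILetI false
universe u
open CategoryTheory CategoryTheory.Limits AlgebraicGeometry TopologicalSpace

namespace Groth.Agent.Lib.T2H7.GraphClosure

/-- the map to the scheme-theoretic image has trivial kernel -/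
theorem ker_toImage {X Y : Scheme.{u}} (f : X ⟶ Y) : f.toImage.ker = ⊥ := by
  set g := f.toImage with hg
  have h1 : (g.imageι ≫ f.imageι).ker ≤ f.ker := by
    have := (g.toImage).le_ker_comp (g.imageι ≫ f.imageι)
    rwa [Scheme.Hom.toImage_imageι_assoc, Scheme.Hom.toImage_imageι] at this
  have h2 : f.ker ≤ (g.imageι ≫ f.imageι).ker := by
    have := (g.imageι).le_ker_comp f.imageι
    rwa [Scheme.Hom.imageι, Scheme.IdealSheafData.ker_subschemeι] at this
  have h3 : (g.imageι ≫ f.imageι).ker = f.imageι.ker := by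
    rw [Scheme.Hom.imageι, Scheme.IdealSheafData.ker_subschemeι]
    exact le_antisymm h1 h2
  have : IsIso g.imageι :=
    IsClosedImmersion.isIso_of_ker_eq (g.imageι ≫ f.imageι) f.imageι g.imageι rfl h3
  exact (Scheme.isIso_subschemeι_iff_eq_bot _).mp this

/-- A quasi-compact morphism `g : U ⟶ Z` with trivial kernel whose image lies in an open `W`,
such that the induced map to `W` is a closed immersion: then the induced map is an iso. -/
theorem isIso_of_ker_eq_bot {U Z : Scheme.{u}} (g : U ⟶ Z) [QuasiCompact g] (hg : g.ker = ⊥)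
    (W : Z.Opens) (s : U ⟶ W) (hs : s ≫ W.ι = g) [IsClosedImmersion s] : IsIso s := by
  have hW : g ⁻¹ᵁ W = ⊤ := by
    rw [← hs]
    ext x
    simp
  let e : U ≅ (g ⁻¹ᵁ W : Scheme.{u}) := (Scheme.topIso U).symm ≪≫ (U.isoOfEq hW.symm)
  have he : e.hom ≫ (g ⁻¹ᵁ W).ι = 𝟙 U := by
    simp [e]
  have hs' : s = e.hom ≫ (g ∣_ W) := by
    rw [← cancel_mono W.ι, hs, Category.assoc, morphismRestrict_ι, reassoc_of% he]
  rw [IsClosedImmersion.isIso_iff_ker_eq_bot, hs', Scheme.Hom.ker_comp_of_isIso]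
  ext V : 2
  rw [Scheme.ker_morphismRestrict_ideal, hg]
  rfl

/-- Extending a morphism from an open after a proper modification: the closure of the graph. -/
theorem extend {X Y S : Scheme.{u}} (a : X ⟶ S) (b : Y ⟶ S)
    [IsProper b] (U : X.Opens) (f : (U : Scheme.{u}) ⟶ Y) (hf : f ≫ b = U.ι ≫ a)
    (hqc : ∀ {P : Scheme.{u}} (γ : (U : Scheme.{u}) ⟶ P), QuasiCompact γ) :
    ∃ (X' : Scheme.{u}) (p : X' ⟶ X) (f' : X' ⟶ Y), IsProper p ∧ IsIso (p ∣_ U) ∧ f' ≫ b = p ≫ a ∧
      (p ⁻¹ᵁ U).ι ≫ f' = (p ∣_ U) ≫ f := by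
  let γ : (U : Scheme.{u}) ⟶ pullback a b := pullback.lift U.ι f hf.symm
  have : QuasiCompact γ := hqc γ
  let p : γ.image ⟶ X := γ.imageι ≫ pullback.fst a b
  let f' : γ.image ⟶ Y := γ.imageι ≫ pullback.snd a b
  have hp : IsProper p := by
    dsimp only [p]
    infer_instance
  -- the section
  have hrange : Set.range γ.toImage ⊆ ((p ⁻¹ᵁ U : γ.image.Opens) : Set γ.image) := by
    rintro _ ⟨x, rfl⟩
    change p (γ.toImage x) ∈ U
    have : γ.toImage ≫ p = U.ι := by
      dsimp only [p]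
      rw [Scheme.Hom.toImage_imageι_assoc]
      exact pullback.lift_fst _ _ _
    rw [← Scheme.Hom.comp_apply, this]
    exact x.2
  let s : (U : Scheme.{u}) ⟶ (p ⁻¹ᵁ U : γ.image.Opens) :=
    IsOpenImmersion.lift (p ⁻¹ᵁ U).ι γ.toImage (by simpa using hrange)
  have hs : s ≫ (p ⁻¹ᵁ U).ι = γ.toImage := IsOpenImmersion.lift_fac _ _ _
  have hsp : s ≫ (p ∣_ U) = 𝟙 _ := by
    rw [← cancel_mono U.ι, Category.assoc, morphismRestrict_ι, reassoc_of% hs, Category.id_comp]
    dsimp only [p]
    rw [Scheme.Hom.toImage_imageι_assoc]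
    exact pullback.lift_fst _ _ _
  have hsci : IsClosedImmersion s := by
    have : IsClosedImmersion (s ≫ (p ∣_ U)) := by
      rw [hsp]; infer_instance
    exact IsClosedImmersion.of_comp s (p ∣_ U)
  have hsiso : IsIso s := isIso_of_ker_eq_bot γ.toImage (ker_toImage γ) (p ⁻¹ᵁ U) s hs
  have hpU : p ∣_ U = inv s := by
    rw [← cancel_epi s, hsp, IsIso.hom_inv_id]
  refine ⟨γ.image, p, f', hp, ?_, ?_, ?_⟩
  · rw [hpU]; infer_instance
  · dsimp only [p, f']
    rw [Category.assoc, Category.assoc, pullback.condition]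
  · rw [← cancel_epi s, reassoc_of% hs, reassoc_of% hsp]
    dsimp only [f']
    rw [Scheme.Hom.toImage_imageι_assoc]
    exact pullback.lift_snd _ _ _

end Groth.Agent.Lib.T2H7.GraphClosure
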