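import Groth.Agent.Lib.T2H7ObsRed
import Groth.Agent.Lib.T2H7ComodAlg
import Groth.Agent.Lib.Helper25Antipode

/-!
# T2H7GrossTransfer: the transfer principle for invariants of a subgroup

For an affine algebraic group `G` over a field with a closed subgroup `H`, and a commutative
`k`-algebra `A` with a rational action of `G` by algebra automorphisms, the algebra `A^H` is the
image of the invariants of `G` in `T ⊗ A`, where `T` is the algebra of functions on `G` invariant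
under left translation by `H`, with `G` acting by right translation.
-/

set_option autoImplicit false
set_option linter.style.haveILetI false
set_option linter.unusedSectionVars false
set_option linter.unusedVariables false
universe u

open CategoryTheory MonoidalCategory CartesianMonoidalCategory MonObj GrpObj AlgebraicGeometry
open scoped TensorProduct

namespace Groth.Agent.Lib.T2H7.GrossTransfer

open Groth.Agent.Lib.Helper25 Groth.Agent.Lib.Helper25.DensePts Groth.Agent.Lib.Helper25.SurjPts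
open Groth.Agent.Lib.Helper25.GModComod Groth.Agent.Lib.T2H7.ObsPts Groth.Agent.Lib.T2H7.ObsFin
open Groth.Agent.Lib.T2H7.ObsHull Groth.Agent.Lib.T2H7.ObsTFAE Groth.Agent.Lib.T2H7.ObsChar
open Groth.Agent.Lib.T2H7.ObsQuot Groth.Agent.Lib.T2H7.ObsInd Groth.Agent.Lib.T2H7.ObsEpi
open Groth.Agent.Lib.T2H7.ObsRed Groth.Agent.Lib.T2H7.ComodAlg

variable {k : Type u} [Field k]
  {G : Over (Spec (CommRingCat.of k))} [GrpObj G] [IsAffine G.left]
  {H : Over (Spec (CommRingCat.of k))} [GrpObj H] [IsAffine H.left]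

attribute [local instance] instHopfΓ

section Act

variable {E : Type u} [CommRing E] [Algebra k E]

/-- translation by a point, for a coaction by algebra homomorphisms -/
noncomputable def trA (δ : E →ₐ[k] E ⊗[k] Γ(G.left, ⊤)) {B : Type u} [CommRing B] [Algebra k B]
    (g : VecGrp.pt k B ⟶ G) : E →ₐ[k] B ⊗[k] E :=
  ((Algebra.TensorProduct.comm k E B).toAlgHom.comp
    (Algebra.TensorProduct.map (AlgHom.id k E) (evA g))).comp δ

/-- the action of a point, as an algebra homomorphism -/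
noncomputable def actAlg (δ : E →ₐ[k] E ⊗[k] Γ(G.left, ⊤)) {B : Type u} [CommRing B] [Algebra k B]
    (g : VecGrp.pt k B ⟶ G) : B ⊗[k] E →ₐ[B] B ⊗[k] E :=
  Algebra.TensorProduct.lift (Algebra.ofId B (B ⊗[k] E)) (trA δ g) (fun _ _ => Commute.all _ _)

theorem actAlg_one_tmul (δ : E →ₐ[k] E ⊗[k] Γ(G.left, ⊤)) {B : Type u} [CommRing B] [Algebra k B]
    (g : VecGrp.pt k B ⟶ G) (x : E) : actAlg δ g ((1 : B) ⊗ₜ[k] x) = trA δ g x := by
  rw [actAlg, Algebra.TensorProduct.lift_tmul, map_one, _root_.one_mul]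

theorem actAlg_tmul_one (δ : E →ₐ[k] E ⊗[k] Γ(G.left, ⊤)) {B : Type u} [CommRing B] [Algebra k B]
    (g : VecGrp.pt k B ⟶ G) (b : B) : actAlg δ g (b ⊗ₜ[k] (1 : E)) = b ⊗ₜ[k] (1 : E) := by
  rw [actAlg, Algebra.TensorProduct.lift_tmul, map_one, _root_.mul_one]
  rfl

theorem trA_apply (δ : E →ₐ[k] E ⊗[k] Γ(G.left, ⊤)) {B : Type u} [CommRing B] [Algebra k B]
    (g : VecGrp.pt k B ⟶ G) (x : E) :
    trA δ g x = (TensorProduct.comm k E B) ((evA g).toLinearMap.lTensor E (δ x)) := by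
  rw [ComodAlg.lTensor_eq_map]
  rfl

theorem gmodOfCoact_eq_actAlg (c : CoAlg k Γ(G.left, ⊤) E) {B : Type u} [CommRing B] [Algebra k B]
    (g : VecGrp.pt k B ⟶ G) (x : B ⊗[k] E) :
    (gmodOfCoact c.δ.toLinearMap c.hco c.hcu).ρ B g x = actAlg c.δ g x := by
  have h : ((gmodOfCoact c.δ.toLinearMap c.hco c.hcu).ρ B g).toLinearMap =
      (actAlg c.δ g).toLinearMap := by
    apply ext_one_tmul
    intro f
    change (gmodOfCoact c.δ.toLinearMap c.hco c.hcu).ρ B g ((1 : B) ⊗ₜ[k] f) =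
      actAlg c.δ g ((1 : B) ⊗ₜ[k] f)
    rw [gmodOfCoact_one_tmul, actAlg_one_tmul, trA_apply]
    rfl
  exact congrArg (fun t : B ⊗[k] E →ₗ[B] B ⊗[k] E => t x) h

theorem isMult_gmodOfCoact (c : CoAlg k Γ(G.left, ⊤) E) :
    (gmodOfCoact c.δ.toLinearMap c.hco c.hcu).IsMult := by
  intro B _ _ g
  constructor
  · intro x y
    rw [gmodOfCoact_eq_actAlg, gmodOfCoact_eq_actAlg, gmodOfCoact_eq_actAlg, map_mul]
  · rw [gmodOfCoact_eq_actAlg, map_one]

theorem comm_coact (m : VecGrp.GMod G E) (x : E) :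
    (Algebra.TensorProduct.comm k E Γ(G.left, ⊤)) (coact m x) =
      m.ρ Γ(G.left, ⊤) (univPt G) ((1 : Γ(G.left, ⊤)) ⊗ₜ[k] x) := by
  rw [rho_one_tmul_eq, evA_univPt]
  have h2 : (AlgHom.id k Γ(G.left, ⊤)).toLinearMap = LinearMap.id := rfl
  rw [h2, LinearMap.lTensor_id, LinearMap.id_apply]
  rfl

theorem coact_mul (m : VecGrp.GMod G E) (hm : m.IsMult) (x y : E) :
    coact m (x * y) = coact m x * coact m y := by
  apply (Algebra.TensorProduct.comm k E Γ(G.left, ⊤)).injective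
  rw [map_mul (Algebra.TensorProduct.comm k E Γ(G.left, ⊤)), comm_coact, comm_coact, comm_coact,
    ← (hm Γ(G.left, ⊤) (univPt G)).1, Algebra.TensorProduct.tmul_mul_tmul, _root_.one_mul]

theorem coact_one (m : VecGrp.GMod G E) (hm : m.IsMult) : coact m (1 : E) = 1 := by
  apply (Algebra.TensorProduct.comm k E Γ(G.left, ⊤)).injective
  rw [map_one (Algebra.TensorProduct.comm k E Γ(G.left, ⊤)), comm_coact]
  exact (hm Γ(G.left, ⊤) (univPt G)).2

/-- the coaction of a rational action by algebra automorphisms, as an algebra homomorphism -/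
noncomputable def coactAlg (m : VecGrp.GMod G E) (hm : m.IsMult) : E →ₐ[k] E ⊗[k] Γ(G.left, ⊤) :=
  AlgHom.ofLinearMap (coact m) (coact_one m hm) (coact_mul m hm)

theorem coactAlg_apply (m : VecGrp.GMod G E) (hm : m.IsMult) (x : E) :
    coactAlg m hm x = coact m x := rfl

/-- the algebra with coaction of a rational action by algebra automorphisms -/
noncomputable def coAlgOf (m : VecGrp.GMod G E) (hm : m.IsMult) : CoAlg k Γ(G.left, ⊤) E where
  δ := coactAlg m hm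
  coassoc p := by
    rw [ComodAlg.assoc_eq, ← ComodAlg.rTensor_eq_map, ← ComodAlg.lTensor_eq_map]
    exact LinearMap.congr_fun (coact_coassoc m) p
  counit p := by
    rw [← ComodAlg.lTensor_eq_map]
    exact LinearMap.congr_fun (coact_counit m) p

theorem rho_eq_actAlg (m : VecGrp.GMod G E) (hm : m.IsMult) {B : Type u} [CommRing B] [Algebra k B]
    (g : VecGrp.pt k B ⟶ G) (x : B ⊗[k] E) : m.ρ B g x = actAlg (coactAlg m hm) g x := by
  have h : (m.ρ B g).toLinearMap = (actAlg (coactAlg m hm) g).toLinearMap := by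
    apply ext_one_tmul
    intro f
    change m.ρ B g ((1 : B) ⊗ₜ[k] f) = actAlg (coactAlg m hm) g ((1 : B) ⊗ₜ[k] f)
    rw [rho_one_tmul_eq, actAlg_one_tmul, trA_apply]
    rfl
  exact congrArg (fun t : B ⊗[k] E →ₗ[B] B ⊗[k] E => t x) h

theorem trA_univPt (δ : E →ₐ[k] E ⊗[k] Γ(G.left, ⊤)) (x : E) :
    trA δ (univPt G) x = Algebra.TensorProduct.comm k E Γ(G.left, ⊤) (δ x) := by
  rw [trA, evA_univPt, Algebra.TensorProduct.map_id]
  rfl

/-- the invariants of the group in an algebra with coaction -/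
theorem mem_fixedUnder_gmodOfCoact_iff (c : CoAlg k Γ(G.left, ⊤) E) (x : E) :
    x ∈ (gmodOfCoact c.δ.toLinearMap c.hco c.hcu).fixedUnder (𝟙 G) ↔
      c.δ x = x ⊗ₜ[k] (1 : Γ(G.left, ⊤)) := by
  constructor
  · intro hx
    have h1 := hx Γ(G.left, ⊤) (univPt G)
    rw [Category.comp_id, gmodOfCoact_eq_actAlg, actAlg_one_tmul, trA_univPt] at h1
    apply (Algebra.TensorProduct.comm k E Γ(G.left, ⊤)).injective
    rw [h1]
    rfl
  · intro hx B _ _ h
    rw [Category.comp_id, gmodOfCoact_eq_actAlg, actAlg_one_tmul, trA]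
    simp [hx]

end Act

section Linv

variable (i : H ⟶ G) [IsMonHom i]

/-- left multiplication by the subgroup, on functions -/
noncomputable def αL : Γ(G.left, ⊤) →ₐ[k] Γ(H.left, ⊤) ⊗[k] Γ(G.left, ⊤) :=
  (Algebra.TensorProduct.map (resHom i : Γ(G.left, ⊤) →ₐ[k] Γ(H.left, ⊤))
    (AlgHom.id k Γ(G.left, ⊤))).comp (Bialgebra.comulAlgHom k Γ(G.left, ⊤))

/-- the second projection of the product of the subgroup and the group, on functions -/
noncomputable def βL : Γ(G.left, ⊤) →ₐ[k] Γ(H.left, ⊤) ⊗[k] Γ(G.left, ⊤) :=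
  Algebra.TensorProduct.includeRight

/-- the functions invariant under left translation by the subgroup -/
noncomputable def linv : Subalgebra k Γ(G.left, ⊤) := AlgHom.equalizer (αL i) (βL (H := H))

theorem mem_linv_iff (t : Γ(G.left, ⊤)) : t ∈ linv i ↔ αL i t = βL (H := H) t := Iff.rfl

theorem pm_comp_eq {B : Type u} [CommRing B] [Algebra k B] (f : Γ(H.left, ⊤) →ₐ[k] B)
    (f' : Γ(G.left, ⊤) →ₐ[k] B) (w : Γ(G.left, ⊤) ⊗[k] Γ(G.left, ⊤)) :
    pm (f.comp (resHom i : Γ(G.left, ⊤) →ₐ[k] Γ(H.left, ⊤))) f' w =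
      Algebra.TensorProduct.lift f f' (fun _ _ => Commute.all _ _)
        (Algebra.TensorProduct.map (resHom i : Γ(G.left, ⊤) →ₐ[k] Γ(H.left, ⊤))
          (AlgHom.id k Γ(G.left, ⊤)) w) := by
  induction w using TensorProduct.induction_on with
  | zero => simp
  | add x y hx hy => simp only [map_add, hx, hy]
  | tmul a b => simp

theorem evA_mul_of_mem_linv {t : Γ(G.left, ⊤)} (ht : t ∈ linv i) {B : Type u} [CommRing B]
    [Algebra k B] (h : VecGrp.pt k B ⟶ H) (x : VecGrp.pt k B ⟶ G) :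
    evA ((h ≫ i) * x) t = evA x t := by
  rw [evA_mul_apply, evA_comp_hom, pm_comp_eq]
  have h1 : Algebra.TensorProduct.map (resHom i : Γ(G.left, ⊤) →ₐ[k] Γ(H.left, ⊤))
      (AlgHom.id k Γ(G.left, ⊤)) (CoalgebraStruct.comul (R := k) t) = αL i t := rfl
  rw [h1, (mem_linv_iff i t).mp ht, βL, Algebra.TensorProduct.includeRight_apply,
    Algebra.TensorProduct.lift_tmul, map_one, _root_.one_mul]

theorem mem_linv_of_evA {t : Γ(G.left, ⊤)}
    (ht : ∀ (B : Type u) [CommRing B] [Algebra k B] (h : VecGrp.pt k B ⟶ H)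
      (x : VecGrp.pt k B ⟶ G), evA ((h ≫ i) * x) t = evA x t) : t ∈ linv i := by
  have h1 := ht (Γ(H.left, ⊤) ⊗[k] Γ(G.left, ⊤)) (ptA Algebra.TensorProduct.includeLeft)
    (ptA Algebra.TensorProduct.includeRight)
  rw [evA_mul_apply, evA_comp_hom, evA_ptA, evA_ptA, pm_comp_eq] at h1
  rw [mem_linv_iff]
  have h2 : ∀ w : Γ(H.left, ⊤) ⊗[k] Γ(G.left, ⊤),
      Algebra.TensorProduct.lift
        (Algebra.TensorProduct.includeLeft : Γ(H.left, ⊤) →ₐ[k] Γ(H.left, ⊤) ⊗[k] Γ(G.left, ⊤))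
        (Algebra.TensorProduct.includeRight : Γ(G.left, ⊤) →ₐ[k] Γ(H.left, ⊤) ⊗[k] Γ(G.left, ⊤))
        (fun _ _ => Commute.all _ _) w = w := by
    intro w
    rw [Algebra.TensorProduct.lift_includeLeft_includeRight]
    rfl
  rw [h2] at h1
  exact h1

theorem evA_of_mem_linv {t : Γ(G.left, ⊤)} (ht : t ∈ linv i) {B : Type u} [CommRing B]
    [Algebra k B] (h : VecGrp.pt k B ⟶ H) :
    evA (h ≫ i) t = algebraMap k B (CoalgebraStruct.counit (R := k) t) := by
  have h1 := evA_mul_of_mem_linv i ht h 1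
  rw [_root_.mul_one, evA_one_apply] at h1
  exact h1

end Linv

section Antipode

theorem evA_inv {B : Type u} [CommRing B] [Algebra k B] (g : VecGrp.pt k B ⟶ G) :
    evA g⁻¹ = (evA g).comp (HopfAlgebra.antipodeAlgHom k Γ(G.left, ⊤)) := by
  have h1 : WithConv.toConv (evA g⁻¹) * WithConv.toConv (evA g) = 1 := by
    have h2 := evA_mul g⁻¹ g
    rw [inv_mul_cancel, evA_one] at h2
    exact (WithConv.ofConv_injective h2).symm
  have h3 := eq_inv_of_mul_eq_one_left h1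
  exact congrArg WithConv.ofConv h3

theorem antipode_antipode (f : Γ(G.left, ⊤)) :
    HopfAlgebra.antipodeAlgHom k Γ(G.left, ⊤) (HopfAlgebra.antipodeAlgHom k Γ(G.left, ⊤) f) = f := by
  have h1 : ((WithConv.toConv (AlgHom.id k Γ(G.left, ⊤)))⁻¹)⁻¹ =
      WithConv.toConv (AlgHom.id k Γ(G.left, ⊤)) := inv_inv _
  have h2 := congrArg WithConv.ofConv h1
  exact AlgHom.congr_fun h2 f

variable (i : H ⟶ G) [IsMonHom i]

theorem antipode_mem_linv {f : Γ(G.left, ⊤)} (hf : AGF.IsRTransInv i f) :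
    HopfAlgebra.antipodeAlgHom k Γ(G.left, ⊤) f ∈ linv i := by
  apply mem_linv_of_evA
  intro B _ _ h x
  have e1 : ∀ y : VecGrp.pt k B ⟶ G,
      evA y (HopfAlgebra.antipodeAlgHom k Γ(G.left, ⊤) f) = evA y⁻¹ f := by
    intro y
    rw [evA_inv]
    rfl
  rw [e1, e1, _root_.mul_inv_rev, ← GrpObj.inv_comp]
  exact evA_of_isRTransInv i f hf x⁻¹ h⁻¹

theorem isRTransInv_antipode {t : Γ(G.left, ⊤)} (ht : t ∈ linv i) :
    AGF.IsRTransInv i (HopfAlgebra.antipodeAlgHom k Γ(G.left, ⊤) t) := by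
  apply isRTransInv_of_evA
  intro B _ _ x y
  have e1 : ∀ z : VecGrp.pt k B ⟶ G,
      evA z (HopfAlgebra.antipodeAlgHom k Γ(G.left, ⊤) t) = evA z⁻¹ t := by
    intro z
    rw [evA_inv]
    rfl
  rw [e1, e1, _root_.mul_inv_rev, ← GrpObj.inv_comp]
  exact evA_mul_of_mem_linv i ht y⁻¹ x⁻¹

theorem range_const_eq :
    Set.range (fun c : k => G.hom.appTop ((Scheme.ΓSpecIso (CommRingCat.of k)).inv c)) =
      Set.range (algebraMap k Γ(G.left, ⊤)) := by
  ext f
  constructor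
  · rintro ⟨c, rfl⟩
    exact ⟨c, algebraMap_eq_hom_appTop c⟩
  · rintro ⟨c, rfl⟩
    exact ⟨c, (algebraMap_eq_hom_appTop c).symm⟩

/-- the algebra of left invariant functions is finitely generated when the ring of right invariant
functions is -/
theorem fg_linv (hfg : AGF.SubringFGOver k G (AGF.rTransInv i)) : (linv i).FG := by
  classical
  obtain ⟨s, hs, hle⟩ := hfg
  refine ⟨s.image (HopfAlgebra.antipodeAlgHom k Γ(G.left, ⊤)), ?_⟩
  apply le_antisymm
  · apply Algebra.adjoin_le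
    intro t ht
    rw [Finset.coe_image] at ht
    obtain ⟨f, hf, rfl⟩ := ht
    exact antipode_mem_linv i (hs hf)
  · intro t ht
    have h1 : HopfAlgebra.antipodeAlgHom k Γ(G.left, ⊤) t ∈ AGF.rTransInv i :=
      isRTransInv_antipode i ht
    have h2 := hle h1
    rw [range_const_eq, ← Algebra.adjoin_eq_ring_closure] at h2
    have h3 : HopfAlgebra.antipodeAlgHom k Γ(G.left, ⊤) t ∈
        Algebra.adjoin k (↑s : Set Γ(G.left, ⊤)) := h2
    have h4 : HopfAlgebra.antipodeAlgHom k Γ(G.left, ⊤)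
        (HopfAlgebra.antipodeAlgHom k Γ(G.left, ⊤) t) ∈
        (Algebra.adjoin k (↑s : Set Γ(G.left, ⊤))).map
          (HopfAlgebra.antipodeAlgHom k Γ(G.left, ⊤)) := ⟨_, h3, rfl⟩
    rw [antipode_antipode, AlgHom.map_adjoin] at h4
    rw [Finset.coe_image]
    exact h4

end Antipode

section Stable

theorem pm_inl_inr {B : Type u} [CommRing B] [Algebra k B] (f : Γ(G.left, ⊤) →ₐ[k] B)
    (w : Γ(G.left, ⊤) ⊗[k] Γ(G.left, ⊤)) :
    pm ((Algebra.TensorProduct.includeLeft : B →ₐ[k] B ⊗[k] Γ(G.left, ⊤)).comp f)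
        (Algebra.TensorProduct.includeRight : Γ(G.left, ⊤) →ₐ[k] B ⊗[k] Γ(G.left, ⊤)) w =
      Algebra.TensorProduct.map f (AlgHom.id k Γ(G.left, ⊤)) w := by
  induction w using TensorProduct.induction_on with
  | zero => simp
  | add x y hx hy => simp only [map_add, hx, hy]
  | tmul a b => simp

/-- the function `z ↦ t (y z)` as the value of `t` at a product of points -/
theorem map_evA_comul {B : Type u} [CommRing B] [Algebra k B] (y : VecGrp.pt k B ⟶ G)
    (t : Γ(G.left, ⊤)) :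
    Algebra.TensorProduct.map (evA y) (AlgHom.id k Γ(G.left, ⊤))
        (CoalgebraStruct.comul (R := k) t) =
      evA ((VecGrp.ptMap (Algebra.TensorProduct.includeLeft : B →ₐ[k] B ⊗[k] Γ(G.left, ⊤)) ≫ y) *
        ptA (Algebra.TensorProduct.includeRight : Γ(G.left, ⊤) →ₐ[k] B ⊗[k] Γ(G.left, ⊤))) t := by
  rw [evA_mul_apply, evA_ptMap_comp, evA_ptA, pm_inl_inr]

variable (i : H ⟶ G) [IsMonHom i]

theorem slice_mem_linv {t : Γ(G.left, ⊤)} (ht : t ∈ linv i) (φ : Γ(G.left, ⊤) →ₗ[k] k) :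
    slice Γ(G.left, ⊤) φ (CoalgebraStruct.comul (R := k) t) ∈ linv i := by
  apply mem_linv_of_evA
  intro B _ _ h x
  have e1 : ∀ y : VecGrp.pt k B ⟶ G,
      evA y (slice Γ(G.left, ⊤) φ (CoalgebraStruct.comul (R := k) t)) =
        slice B φ (evA ((VecGrp.ptMap
          (Algebra.TensorProduct.includeLeft : B →ₐ[k] B ⊗[k] Γ(G.left, ⊤)) ≫ y) *
          ptA (Algebra.TensorProduct.includeRight :
            Γ(G.left, ⊤) →ₐ[k] B ⊗[k] Γ(G.left, ⊤))) t) := by
    intro y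
    rw [← map_evA_comul, ← ComodAlg.rTensor_eq_map, slice_rTensor]
    rfl
  rw [e1, e1, MonObj.comp_mul, ← Category.assoc, _root_.mul_assoc, evA_mul_of_mem_linv i ht]

theorem comul_mem_range {t : Γ(G.left, ⊤)} (ht : t ∈ linv i) :
    ∃ y : ↥(linv i) ⊗[k] Γ(G.left, ⊤),
      Algebra.TensorProduct.map (linv i).val (AlgHom.id k Γ(G.left, ⊤)) y =
        (CoAlg.regular k Γ(G.left, ⊤)).δ t := by
  obtain ⟨y, hy⟩ := mem_range_rTensor_of_slices (linv i).val.toLinearMap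
    (CoalgebraStruct.comul (R := k) t) (fun φ => ⟨⟨_, slice_mem_linv i ht φ⟩, rfl⟩)
  refine ⟨y, ?_⟩
  rw [← ComodAlg.rTensor_eq_map]
  exact hy

/-- the coaction of the group on the left invariant functions, by right translation -/
noncomputable def linvδ : ↥(linv i) →ₐ[k] ↥(linv i) ⊗[k] Γ(G.left, ⊤) :=
  Classical.choose (exists_corestrict (linv i).val Subtype.val_injective
    (CoAlg.regular k Γ(G.left, ⊤)).δ (fun p => comul_mem_range i p.2))

theorem map_val_linvδ (p : ↥(linv i)) :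
    Algebra.TensorProduct.map (linv i).val (AlgHom.id k Γ(G.left, ⊤)) (linvδ i p) =
      (CoAlg.regular k Γ(G.left, ⊤)).δ ((linv i).val p) :=
  Classical.choose_spec (exists_corestrict (linv i).val Subtype.val_injective
    (CoAlg.regular k Γ(G.left, ⊤)).δ (fun p => comul_mem_range i p.2)) p

/-- the algebra of left invariant functions, with the coaction by right translation -/
noncomputable def linvCoAlg : CoAlg k Γ(G.left, ⊤) ↥(linv i) :=
  (CoAlg.regular k Γ(G.left, ⊤)).ofInjective (linv i).val Subtype.val_injective (linvδ i)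
    (map_val_linvδ i)

theorem linvCoAlg_δ : (linvCoAlg i).δ = linvδ i := rfl

end Stable

section Transfer

variable (i : H ⟶ G) [IsMonHom i] {A : Type u} [CommRing A] [Algebra k A]
  (ρ : VecGrp.GMod G A) (hρ : ρ.IsMult)

/-- the algebra `T ⊗ A` with the diagonal coaction -/
noncomputable def sCoAlg : CoAlg k Γ(G.left, ⊤) (↥(linv i) ⊗[k] A) :=
  (linvCoAlg i).tensor (coAlgOf ρ hρ)

/-- the rational action of the group on `T ⊗ A` -/
noncomputable def sGMod : VecGrp.GMod G (↥(linv i) ⊗[k] A) :=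
  gmodOfCoact (sCoAlg i ρ hρ).δ.toLinearMap (sCoAlg i ρ hρ).hco (sCoAlg i ρ hρ).hcu

theorem isMult_sGMod : (sGMod i ρ hρ).IsMult := isMult_gmodOfCoact _

theorem mem_fixedUnder_sGMod_iff (F : ↥(linv i) ⊗[k] A) :
    F ∈ (sGMod i ρ hρ).fixedUnder (𝟙 G) ↔
      (sCoAlg i ρ hρ).δ F = F ⊗ₜ[k] (1 : Γ(G.left, ⊤)) :=
  mem_fixedUnder_gmodOfCoact_iff _ F

/-- evaluation at the unit element -/
noncomputable def evE : ↥(linv i) ⊗[k] A →ₐ[k] A :=
  Algebra.TensorProduct.lift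
    ((Algebra.ofId k A).comp ((Bialgebra.counitAlgHom k Γ(G.left, ⊤)).comp (linv i).val))
    (AlgHom.id k A) (fun _ _ => Commute.all _ _)

/-- the comparison of the two ways of evaluating an element of `T ⊗ A` at a point -/
theorem star_eq {B : Type u} [CommRing B] [Algebra k B] (g : VecGrp.pt k B ⟶ G)
    (F : ↥(linv i) ⊗[k] A) :
    (Algebra.TensorProduct.comm k A B)
        (Algebra.TensorProduct.map (evE i) (evA g) ((sCoAlg i ρ hρ).δ F)) =
      actAlg (coactAlg ρ hρ) g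
        (Algebra.TensorProduct.map ((evA g).comp (linv i).val) (AlgHom.id k A) F) := by
  have h : (Algebra.TensorProduct.comm k A B).toAlgHom.comp
        ((Algebra.TensorProduct.map (evE i) (evA g)).comp (sCoAlg i ρ hρ).δ) =
      ((actAlg (coactAlg ρ hρ) g).restrictScalars k).comp
        (Algebra.TensorProduct.map ((evA g).comp (linv i).val) (AlgHom.id k A)) := by
    apply Algebra.TensorProduct.ext
    · apply AlgHom.ext
      intro t
      change (Algebra.TensorProduct.comm k A B)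
          (Algebra.TensorProduct.map (evE i) (evA g)
            (tensorδ (linvδ i) (coactAlg ρ hρ)
              ((Algebra.TensorProduct.includeLeft : ↥(linv i) →ₐ[k] ↥(linv i) ⊗[k] A) t))) =
        actAlg (coactAlg ρ hρ) g
          (Algebra.TensorProduct.map ((evA g).comp (linv i).val) (AlgHom.id k A)
            (t ⊗ₜ[k] (1 : A)))
      rw [tensorδ_inl, ComodAlg.map_map, Algebra.TensorProduct.map_tmul, AlgHom.id_apply,
        actAlg_tmul_one]
      have e1 : (evE i).comp (Algebra.TensorProduct.includeLeft : ↥(linv i) →ₐ[k] ↥(linv i) ⊗[k] A) =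
          ((Algebra.ofId k A).comp (Bialgebra.counitAlgHom k Γ(G.left, ⊤))).comp (linv i).val := by
        rw [evE, Algebra.TensorProduct.lift_comp_includeLeft]
        rfl
      rw [e1, ← ComodAlg.map_map, map_val_linvδ]
      have e3 : Algebra.TensorProduct.map
          ((Algebra.ofId k A).comp (Bialgebra.counitAlgHom k Γ(G.left, ⊤))) (evA g)
          ((CoAlg.regular k Γ(G.left, ⊤)).δ ((linv i).val t)) =
          (1 : A) ⊗ₜ[k] evA g ((linv i).val t) := by
        have e4 : Algebra.TensorProduct.map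
            ((Algebra.ofId k A).comp (Bialgebra.counitAlgHom k Γ(G.left, ⊤))) (evA g) =
            (Algebra.TensorProduct.map (Algebra.ofId k A) (evA g)).comp
              (Algebra.TensorProduct.map (Bialgebra.counitAlgHom k Γ(G.left, ⊤))
                (AlgHom.id k Γ(G.left, ⊤))) := by
          rw [← Algebra.TensorProduct.map_comp]
          rfl
        rw [e4, AlgHom.comp_apply]
        have e5 : Algebra.TensorProduct.map (Bialgebra.counitAlgHom k Γ(G.left, ⊤))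
            (AlgHom.id k Γ(G.left, ⊤)) ((CoAlg.regular k Γ(G.left, ⊤)).δ ((linv i).val t)) =
            (1 : k) ⊗ₜ[k] ((linv i).val t) := by
          rw [← ComodAlg.rTensor_eq_map]
          exact Coalgebra.rTensor_counit_comul _
        rw [e5, Algebra.TensorProduct.map_tmul, map_one]
      rw [e3]
      rfl
    · apply AlgHom.ext
      intro a
      change (Algebra.TensorProduct.comm k A B)
          (Algebra.TensorProduct.map (evE i) (evA g)
            (tensorδ (linvδ i) (coactAlg ρ hρ)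
              ((Algebra.TensorProduct.includeRight : A →ₐ[k] ↥(linv i) ⊗[k] A) a))) =
        actAlg (coactAlg ρ hρ) g
          (Algebra.TensorProduct.map ((evA g).comp (linv i).val) (AlgHom.id k A)
            ((1 : ↥(linv i)) ⊗ₜ[k] a))
      rw [tensorδ_inr, ComodAlg.map_map, Algebra.TensorProduct.map_tmul, AlgHom.id_apply, map_one,
        actAlg_one_tmul]
      have e1 : (evE i).comp (Algebra.TensorProduct.includeRight : A →ₐ[k] ↥(linv i) ⊗[k] A) =
          AlgHom.id k A := by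
        rw [evE, Algebra.TensorProduct.lift_comp_includeRight']
      rw [e1]
      rfl
  exact AlgHom.congr_fun h F

theorem map_evA_val_eq {B : Type u} [CommRing B] [Algebra k B] (h : VecGrp.pt k B ⟶ H)
    (F : ↥(linv i) ⊗[k] A) :
    Algebra.TensorProduct.map ((evA (h ≫ i)).comp (linv i).val) (AlgHom.id k A) F =
      (1 : B) ⊗ₜ[k] evE i F := by
  have e : Algebra.TensorProduct.map ((evA (h ≫ i)).comp (linv i).val) (AlgHom.id k A) =
      (Algebra.TensorProduct.includeRight : A →ₐ[k] B ⊗[k] A).comp (evE i) := by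
    apply Algebra.TensorProduct.ext
    · apply AlgHom.ext
      intro t
      change Algebra.TensorProduct.map ((evA (h ≫ i)).comp (linv i).val) (AlgHom.id k A)
          (t ⊗ₜ[k] (1 : A)) = (1 : B) ⊗ₜ[k] evE i (t ⊗ₜ[k] (1 : A))
      rw [Algebra.TensorProduct.map_tmul, AlgHom.comp_apply, evE, Algebra.TensorProduct.lift_tmul,
        map_one, _root_.mul_one]
      have e1 : evA (h ≫ i) ((linv i).val t) =
          algebraMap k B (CoalgebraStruct.counit (R := k) ((linv i).val t)) :=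
        evA_of_mem_linv i t.2 h
      rw [e1]
      exact Algebra.TensorProduct.tmul_one_eq_one_tmul _
    · apply AlgHom.ext
      intro a
      change Algebra.TensorProduct.map ((evA (h ≫ i)).comp (linv i).val) (AlgHom.id k A)
          ((1 : ↥(linv i)) ⊗ₜ[k] a) = (1 : B) ⊗ₜ[k] evE i ((1 : ↥(linv i)) ⊗ₜ[k] a)
      rw [Algebra.TensorProduct.map_tmul, map_one, evE, Algebra.TensorProduct.lift_tmul, map_one,
        _root_.one_mul]
  exact AlgHom.congr_fun e F

/-- the value at the unit element of an invariant of the group in `T ⊗ A` is an invariant of the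
subgroup in `A` -/
theorem evE_mem_fixed {F : ↥(linv i) ⊗[k] A}
    (hF : (sCoAlg i ρ hρ).δ F = F ⊗ₜ[k] (1 : Γ(G.left, ⊤))) :
    evE i F ∈ ρ.fixedSubalgebra hρ i := by
  intro B _ _ h
  have h1 := star_eq i ρ hρ (h ≫ i) F
  rw [hF, Algebra.TensorProduct.map_tmul, map_one, Algebra.TensorProduct.comm_tmul,
    map_evA_val_eq] at h1
  rw [rho_eq_actAlg ρ hρ]
  exact h1.symm

end Transfer

section Section

variable {A : Type u} [CommRing A] [Algebra k A] (ρ : VecGrp.GMod G A) (hρ : ρ.IsMult)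

/-- the function `x ↦ x⁻¹ a` on the group with values in `A` -/
noncomputable def F0 (a : A) : Γ(G.left, ⊤) ⊗[k] A :=
  ρ.ρ Γ(G.left, ⊤) (univPt G)⁻¹ ((1 : Γ(G.left, ⊤)) ⊗ₜ[k] a)

theorem ptMap_comp_univPt' {B : Type u} [CommRing B] [Algebra k B] (φ : Γ(G.left, ⊤) →ₐ[k] B) :
    VecGrp.ptMap φ ≫ univPt G = ptA φ := by
  have h := ptMap_comp_univPt (ptA φ)
  rw [evA_ptA] at h
  exact h

theorem Wmap_F0 {B : Type u} [CommRing B] [Algebra k B] (φ : Γ(G.left, ⊤) →ₐ[k] B) (a : A) :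
    VecGrp.Wmap φ (F0 ρ a) = ρ.ρ B (ptA φ)⁻¹ ((1 : B) ⊗ₜ[k] a) := by
  rw [F0, ρ.naturality φ, GrpObj.comp_inv, ptMap_comp_univPt', VecGrp.Wmap_tmul, map_one]

theorem ptA_comul :
    ptA (Bialgebra.comulAlgHom k Γ(G.left, ⊤)) =
      ptA (Algebra.TensorProduct.includeLeft :
        Γ(G.left, ⊤) →ₐ[k] Γ(G.left, ⊤) ⊗[k] Γ(G.left, ⊤)) *
      ptA (Algebra.TensorProduct.includeRight :
        Γ(G.left, ⊤) →ₐ[k] Γ(G.left, ⊤) ⊗[k] Γ(G.left, ⊤)) := by
  apply evA_injective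
  apply AlgHom.ext
  intro t
  rw [evA_ptA, evA_mul_apply, evA_ptA, evA_ptA, pm_include]
  rfl

theorem ptA_counit : ptA (Bialgebra.counitAlgHom k Γ(G.left, ⊤)) = (1 : VecGrp.pt k k ⟶ G) := by
  apply evA_injective
  apply AlgHom.ext
  intro t
  rw [evA_ptA, evA_one_apply]
  rfl

theorem ptA_αL (i : H ⟶ G) [IsMonHom i] :
    ptA (αL i) =
      (ptA (Algebra.TensorProduct.includeLeft :
        Γ(H.left, ⊤) →ₐ[k] Γ(H.left, ⊤) ⊗[k] Γ(G.left, ⊤)) ≫ i) *
      ptA (Algebra.TensorProduct.includeRight :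
        Γ(G.left, ⊤) →ₐ[k] Γ(H.left, ⊤) ⊗[k] Γ(G.left, ⊤)) := by
  apply evA_injective
  apply AlgHom.ext
  intro t
  rw [evA_ptA, evA_mul_apply, evA_comp_hom, evA_ptA, evA_ptA, pm_comp_eq,
    Algebra.TensorProduct.lift_includeLeft_includeRight]
  rfl

theorem rho_inv_mul_of_fixed (i : H ⟶ G) [IsMonHom i] {B : Type u} [CommRing B] [Algebra k B]
    (h₁ : VecGrp.pt k B ⟶ H) (g₂ : VecGrp.pt k B ⟶ G) (x : B ⊗[k] A)
    (hx : ρ.ρ B (h₁⁻¹ ≫ i) x = x) :
    ρ.ρ B ((h₁ ≫ i) * g₂)⁻¹ x = ρ.ρ B g₂⁻¹ x := by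
  rw [_root_.mul_inv_rev, ← GrpObj.inv_comp, map_mul, LinearEquiv.mul_apply, hx]

theorem rho_mul_inv_mul {B : Type u} [CommRing B] [Algebra k B]
    (g₁ g₂ : VecGrp.pt k B ⟶ G) (x : B ⊗[k] A) :
    ρ.ρ B g₂ (ρ.ρ B (g₁ * g₂)⁻¹ x) = ρ.ρ B g₁⁻¹ x := by
  rw [← LinearEquiv.mul_apply, ← map_mul, _root_.mul_inv_rev, mul_inv_cancel_left]

theorem Wmap_αL_F0 (i : H ⟶ G) [IsMonHom i] {a : A} (ha : a ∈ ρ.fixedSubalgebra hρ i) :
    VecGrp.Wmap (αL i) (F0 ρ a) = ρ.ρ (Γ(H.left, ⊤) ⊗[k] Γ(G.left, ⊤))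
      (ptA (Algebra.TensorProduct.includeRight :
        Γ(G.left, ⊤) →ₐ[k] Γ(H.left, ⊤) ⊗[k] Γ(G.left, ⊤)))⁻¹
      ((1 : Γ(H.left, ⊤) ⊗[k] Γ(G.left, ⊤)) ⊗ₜ[k] a) := by
  have ha' : ρ.ρ (Γ(H.left, ⊤) ⊗[k] Γ(G.left, ⊤))
      ((ptA (Algebra.TensorProduct.includeLeft :
        Γ(H.left, ⊤) →ₐ[k] Γ(H.left, ⊤) ⊗[k] Γ(G.left, ⊤)))⁻¹ ≫ i)
      ((1 : Γ(H.left, ⊤) ⊗[k] Γ(G.left, ⊤)) ⊗ₜ[k] a) =
      (1 : Γ(H.left, ⊤) ⊗[k] Γ(G.left, ⊤)) ⊗ₜ[k] a := ha _ _
  have e := congrArg (fun g : VecGrp.pt k (Γ(H.left, ⊤) ⊗[k] Γ(G.left, ⊤)) ⟶ G =>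
    ρ.ρ (Γ(H.left, ⊤) ⊗[k] Γ(G.left, ⊤)) g⁻¹ ((1 : Γ(H.left, ⊤) ⊗[k] Γ(G.left, ⊤)) ⊗ₜ[k] a))
    (ptA_αL i)
  exact (Wmap_F0 ρ (αL i) a).trans (e.trans (rho_inv_mul_of_fixed ρ i _ _ _ ha'))

/-- the function `x ↦ x⁻¹ a` is invariant under left translation by the subgroup when `a` is fixed
by the subgroup -/
theorem F0_mem_range (i : H ⟶ G) [IsMonHom i] {a : A} (ha : a ∈ ρ.fixedSubalgebra hρ i) :
    ∃ F : ↥(linv i) ⊗[k] A,
      Algebra.TensorProduct.map (linv i).val (AlgHom.id k A) F = F0 ρ a := by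
  have hx : (αL i).toLinearMap.rTensor A (F0 ρ a) =
      (βL (H := H) (G := G)).toLinearMap.rTensor A (F0 ρ a) :=
    (Wmap_αL_F0 ρ hρ i ha).trans (Wmap_F0 ρ (βL (H := H) (G := G)) a).symm
  have hT : ∀ v : Γ(G.left, ⊤), (αL i).toLinearMap v = (βL (H := H) (G := G)).toLinearMap v →
      v ∈ LinearMap.range (linv i).val.toLinearMap := by
    intro v hv
    have hv' : v ∈ linv i := (mem_linv_iff i v).mpr hv
    exact ⟨⟨v, hv'⟩, rfl⟩
  obtain ⟨F, hF⟩ := mem_range_rTensor_of_eq (linv i).val.toLinearMap (αL i).toLinearMap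
    (βL (H := H) (G := G)).toLinearMap hT (F0 ρ a) hx
  refine ⟨F, ?_⟩
  rw [← ComodAlg.rTensor_eq_map]
  exact hF

/-- the algebra `Γ(G) ⊗ A` with the diagonal coaction -/
noncomputable def sCoAlg' : CoAlg k Γ(G.left, ⊤) (Γ(G.left, ⊤) ⊗[k] A) :=
  (CoAlg.regular k Γ(G.left, ⊤)).tensor (coAlgOf ρ hρ)

/-- the rearrangement `(t ⊗ t') ⊗ a ↦ (t ⊗ a) ⊗ t'` -/
noncomputable def rearr (k : Type u) [Field k] (G : Over (Spec (CommRingCat.of k))) [GrpObj G]
    [IsAffine G.left] (A : Type u) [CommRing A] [Algebra k A] :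
    (Γ(G.left, ⊤) ⊗[k] Γ(G.left, ⊤)) ⊗[k] A →ₐ[k] (Γ(G.left, ⊤) ⊗[k] A) ⊗[k] Γ(G.left, ⊤) :=
  Algebra.TensorProduct.lift
    (Algebra.TensorProduct.map
      (Algebra.TensorProduct.includeLeft : Γ(G.left, ⊤) →ₐ[k] Γ(G.left, ⊤) ⊗[k] A)
      (AlgHom.id k Γ(G.left, ⊤)))
    ((Algebra.TensorProduct.includeLeft :
        Γ(G.left, ⊤) ⊗[k] A →ₐ[k] (Γ(G.left, ⊤) ⊗[k] A) ⊗[k] Γ(G.left, ⊤)).comp
      (Algebra.TensorProduct.includeRight : A →ₐ[k] Γ(G.left, ⊤) ⊗[k] A))
    (fun _ _ => Commute.all _ _)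

theorem rearr_comm_map (w : A ⊗[k] Γ(G.left, ⊤)) :
    rearr k G A ((Algebra.TensorProduct.comm k A (Γ(G.left, ⊤) ⊗[k] Γ(G.left, ⊤)))
      (Algebra.TensorProduct.map (AlgHom.id k A)
        (Algebra.TensorProduct.includeRight :
          Γ(G.left, ⊤) →ₐ[k] Γ(G.left, ⊤) ⊗[k] Γ(G.left, ⊤)) w)) =
      Algebra.TensorProduct.map
        (Algebra.TensorProduct.includeRight : A →ₐ[k] Γ(G.left, ⊤) ⊗[k] A)
        (AlgHom.id k Γ(G.left, ⊤)) w := by
  induction w using TensorProduct.induction_on with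
  | zero => simp
  | add x y hx hy => simp only [map_add, hx, hy]
  | tmul a b => simp [rearr]

theorem rearr_map_inl (x : Γ(G.left, ⊤) ⊗[k] A) :
    rearr k G A (Algebra.TensorProduct.map
      (Algebra.TensorProduct.includeLeft :
        Γ(G.left, ⊤) →ₐ[k] Γ(G.left, ⊤) ⊗[k] Γ(G.left, ⊤)) (AlgHom.id k A) x) =
      x ⊗ₜ[k] (1 : Γ(G.left, ⊤)) := by
  induction x using TensorProduct.induction_on with
  | zero => simp
  | add x y hx hy => simp only [map_add, hx, hy, TensorProduct.add_tmul]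
  | tmul a b => simp [rearr]

/-- the diagonal coaction on `Γ(G) ⊗ A` in terms of the action of the universal point -/
theorem sδ'_eq (x : Γ(G.left, ⊤) ⊗[k] A) :
    (sCoAlg' ρ hρ).δ x =
      rearr k G A (actAlg (coactAlg ρ hρ)
        (ptA (Algebra.TensorProduct.includeRight :
          Γ(G.left, ⊤) →ₐ[k] Γ(G.left, ⊤) ⊗[k] Γ(G.left, ⊤)))
        (Algebra.TensorProduct.map (Bialgebra.comulAlgHom k Γ(G.left, ⊤)) (AlgHom.id k A) x)) := by
  have h : (sCoAlg' ρ hρ).δ =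
      (rearr k G A).comp (((actAlg (coactAlg ρ hρ)
        (ptA (Algebra.TensorProduct.includeRight :
          Γ(G.left, ⊤) →ₐ[k] Γ(G.left, ⊤) ⊗[k] Γ(G.left, ⊤)))).restrictScalars k).comp
        (Algebra.TensorProduct.map (Bialgebra.comulAlgHom k Γ(G.left, ⊤)) (AlgHom.id k A))) := by
    apply Algebra.TensorProduct.ext
    · apply AlgHom.ext
      intro t
      change tensorδ (Bialgebra.comulAlgHom k Γ(G.left, ⊤)) (coactAlg ρ hρ)
          ((Algebra.TensorProduct.includeLeft : Γ(G.left, ⊤) →ₐ[k] Γ(G.left, ⊤) ⊗[k] A) t) =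
        rearr k G A (actAlg (coactAlg ρ hρ)
          (ptA (Algebra.TensorProduct.includeRight :
            Γ(G.left, ⊤) →ₐ[k] Γ(G.left, ⊤) ⊗[k] Γ(G.left, ⊤)))
          (Algebra.TensorProduct.map (Bialgebra.comulAlgHom k Γ(G.left, ⊤)) (AlgHom.id k A)
            (t ⊗ₜ[k] (1 : A))))
      rw [tensorδ_inl, Algebra.TensorProduct.map_tmul, AlgHom.id_apply, actAlg_tmul_one, rearr,
        Algebra.TensorProduct.lift_tmul, map_one, _root_.mul_one]
    · apply AlgHom.ext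
      intro a
      change tensorδ (Bialgebra.comulAlgHom k Γ(G.left, ⊤)) (coactAlg ρ hρ)
          ((Algebra.TensorProduct.includeRight : A →ₐ[k] Γ(G.left, ⊤) ⊗[k] A) a) =
        rearr k G A (actAlg (coactAlg ρ hρ)
          (ptA (Algebra.TensorProduct.includeRight :
            Γ(G.left, ⊤) →ₐ[k] Γ(G.left, ⊤) ⊗[k] Γ(G.left, ⊤)))
          (Algebra.TensorProduct.map (Bialgebra.comulAlgHom k Γ(G.left, ⊤)) (AlgHom.id k A)
            ((1 : Γ(G.left, ⊤)) ⊗ₜ[k] a)))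
      rw [tensorδ_inr, Algebra.TensorProduct.map_tmul, AlgHom.id_apply, map_one, actAlg_one_tmul,
        trA, evA_ptA]
      exact (rearr_comm_map _).symm
  exact AlgHom.congr_fun h x

/-- the function `x ↦ x⁻¹ a` is invariant under the diagonal action -/
theorem sδ'_F0 (a : A) :
    (sCoAlg' ρ hρ).δ (F0 ρ a) = F0 ρ a ⊗ₜ[k] (1 : Γ(G.left, ⊤)) := by
  have e1 : Algebra.TensorProduct.map (Bialgebra.comulAlgHom k Γ(G.left, ⊤)) (AlgHom.id k A)
      (F0 ρ a) =
      ρ.ρ (Γ(G.left, ⊤) ⊗[k] Γ(G.left, ⊤))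
        (ptA (Algebra.TensorProduct.includeLeft :
          Γ(G.left, ⊤) →ₐ[k] Γ(G.left, ⊤) ⊗[k] Γ(G.left, ⊤)) *
        ptA (Algebra.TensorProduct.includeRight :
          Γ(G.left, ⊤) →ₐ[k] Γ(G.left, ⊤) ⊗[k] Γ(G.left, ⊤)))⁻¹
        ((1 : Γ(G.left, ⊤) ⊗[k] Γ(G.left, ⊤)) ⊗ₜ[k] a) :=
    (ComodAlg.rTensor_eq_map _ _).symm.trans
      ((Wmap_F0 ρ (Bialgebra.comulAlgHom k Γ(G.left, ⊤)) a).trans
        (congrArg (fun g : VecGrp.pt k (Γ(G.left, ⊤) ⊗[k] Γ(G.left, ⊤)) ⟶ G =>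
          ρ.ρ (Γ(G.left, ⊤) ⊗[k] Γ(G.left, ⊤)) g⁻¹
            ((1 : Γ(G.left, ⊤) ⊗[k] Γ(G.left, ⊤)) ⊗ₜ[k] a)) ptA_comul))
  have e2 : ρ.ρ (Γ(G.left, ⊤) ⊗[k] Γ(G.left, ⊤))
      (ptA (Algebra.TensorProduct.includeLeft :
        Γ(G.left, ⊤) →ₐ[k] Γ(G.left, ⊤) ⊗[k] Γ(G.left, ⊤)))⁻¹
      ((1 : Γ(G.left, ⊤) ⊗[k] Γ(G.left, ⊤)) ⊗ₜ[k] a) =
      Algebra.TensorProduct.map
        (Algebra.TensorProduct.includeLeft :
          Γ(G.left, ⊤) →ₐ[k] Γ(G.left, ⊤) ⊗[k] Γ(G.left, ⊤)) (AlgHom.id k A) (F0 ρ a) :=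
    (Wmap_F0 ρ _ a).symm.trans (ComodAlg.rTensor_eq_map _ _)
  have e3 := sδ'_eq ρ hρ (F0 ρ a)
  have e4 := congrArg (rearr k G A) (rho_eq_actAlg ρ hρ
    (ptA (Algebra.TensorProduct.includeRight :
      Γ(G.left, ⊤) →ₐ[k] Γ(G.left, ⊤) ⊗[k] Γ(G.left, ⊤)))
    (Algebra.TensorProduct.map (Bialgebra.comulAlgHom k Γ(G.left, ⊤)) (AlgHom.id k A)
      (F0 ρ a))).symm
  have e5 := congrArg (fun y => rearr k G A (ρ.ρ (Γ(G.left, ⊤) ⊗[k] Γ(G.left, ⊤))
    (ptA (Algebra.TensorProduct.includeRight :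
      Γ(G.left, ⊤) →ₐ[k] Γ(G.left, ⊤) ⊗[k] Γ(G.left, ⊤))) y)) e1
  have e6 := congrArg (rearr k G A) (rho_mul_inv_mul ρ
    (ptA (Algebra.TensorProduct.includeLeft :
      Γ(G.left, ⊤) →ₐ[k] Γ(G.left, ⊤) ⊗[k] Γ(G.left, ⊤)))
    (ptA (Algebra.TensorProduct.includeRight :
      Γ(G.left, ⊤) →ₐ[k] Γ(G.left, ⊤) ⊗[k] Γ(G.left, ⊤)))
    ((1 : Γ(G.left, ⊤) ⊗[k] Γ(G.left, ⊤)) ⊗ₜ[k] a))
  have e7 := congrArg (rearr k G A) e2
  exact e3.trans (e4.trans (e5.trans (e6.trans (e7.trans (rearr_map_inl _)))))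

/-- evaluation at the unit element, on `Γ(G) ⊗ A` -/
noncomputable def evE' (k : Type u) [Field k] (G : Over (Spec (CommRingCat.of k))) [GrpObj G]
    [IsAffine G.left] (A : Type u) [CommRing A] [Algebra k A] : Γ(G.left, ⊤) ⊗[k] A →ₐ[k] A :=
  Algebra.TensorProduct.lift
    ((Algebra.ofId k A).comp (Bialgebra.counitAlgHom k Γ(G.left, ⊤)))
    (AlgHom.id k A) (fun _ _ => Commute.all _ _)

theorem evE_eq (i : H ⟶ G) [IsMonHom i] (F : ↥(linv i) ⊗[k] A) :
    evE i F = evE' k G A (Algebra.TensorProduct.map (linv i).val (AlgHom.id k A) F) := by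
  induction F using TensorProduct.induction_on with
  | zero => simp
  | add x y hx hy => simp only [map_add, hx, hy]
  | tmul t a => simp [evE, evE']

theorem evE'_eq (x : Γ(G.left, ⊤) ⊗[k] A) :
    evE' k G A x = TensorProduct.lid k A (VecGrp.Wmap (Bialgebra.counitAlgHom k Γ(G.left, ⊤)) x) := by
  induction x using TensorProduct.induction_on with
  | zero => simp
  | add x y hx hy => simp only [map_add, hx, hy]
  | tmul t a => simp [evE', Algebra.smul_def]

theorem evE'_F0 (a : A) : evE' k G A (F0 ρ a) = a := by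
  rw [evE'_eq]
  have e1 : VecGrp.Wmap (Bialgebra.counitAlgHom k Γ(G.left, ⊤)) (F0 ρ a) =
      ρ.ρ k (1 : VecGrp.pt k k ⟶ G)⁻¹ ((1 : k) ⊗ₜ[k] a) :=
    (Wmap_F0 ρ (Bialgebra.counitAlgHom k Γ(G.left, ⊤)) a).trans
      (congrArg (fun g : VecGrp.pt k k ⟶ G => ρ.ρ k g⁻¹ ((1 : k) ⊗ₜ[k] a)) ptA_counit)
  rw [e1, inv_one, map_one]
  change TensorProduct.lid k A ((1 : k) ⊗ₜ[k] a) = a
  rw [TensorProduct.lid_tmul, one_smul]

/-- an invariant of the subgroup in `A` is the value at the unit element of an invariant of the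
group in `T ⊗ A` -/
theorem exists_invariant_of_fixed (i : H ⟶ G) [IsMonHom i] {a : A}
    (ha : a ∈ ρ.fixedSubalgebra hρ i) :
    ∃ F : ↥(linv i) ⊗[k] A,
      (sCoAlg i ρ hρ).δ F = F ⊗ₜ[k] (1 : Γ(G.left, ⊤)) ∧ evE i F = a := by
  obtain ⟨F, hF⟩ := F0_mem_range ρ hρ i ha
  refine ⟨F, ?_, ?_⟩
  · apply map_injective_of_injective (D := Γ(G.left, ⊤))
      (Algebra.TensorProduct.map (linv i).val (AlgHom.id k A))
      (map_injective_of_injective (D := A) (linv i).val Subtype.val_injective)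
    have e := tensorδ_map (linvδ i) (Bialgebra.comulAlgHom k Γ(G.left, ⊤)) (coactAlg ρ hρ)
      (linv i).val (fun p => (map_val_linvδ i p).symm) F
    have e2 : tensorδ (Bialgebra.comulAlgHom k Γ(G.left, ⊤)) (coactAlg ρ hρ)
        (Algebra.TensorProduct.map (linv i).val (AlgHom.id k A) F) =
        F0 ρ a ⊗ₜ[k] (1 : Γ(G.left, ⊤)) :=
      (congrArg (tensorδ (Bialgebra.comulAlgHom k Γ(G.left, ⊤)) (coactAlg ρ hρ)) hF).trans
        (sδ'_F0 ρ hρ a)
    have e3 : Algebra.TensorProduct.map (Algebra.TensorProduct.map (linv i).val (AlgHom.id k A))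
        (AlgHom.id k Γ(G.left, ⊤)) (F ⊗ₜ[k] (1 : Γ(G.left, ⊤))) =
        F0 ρ a ⊗ₜ[k] (1 : Γ(G.left, ⊤)) :=
      congrArg (fun y => y ⊗ₜ[k] (1 : Γ(G.left, ⊤))) hF
    exact e.symm.trans (e2.trans e3.symm)
  · rw [evE_eq, hF, evE'_F0]

end Section

section Main

/-- the transfer principle: finite generation of the invariants of the subgroup in any finitely
generated algebra with an action of the group, from that of the invariant functions on the group -/
theorem finiteType_fixedSubalgebra_of_fg (i : H ⟶ G) [IsMonHom i]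
    (hG : VecGrp.IsReductiveGrp k G) (thmA : VecGrp.ReductiveInvariantsFG k)
    (hfg : AGF.SubringFGOver k G (AGF.rTransInv i))
    (A : Type u) [CommRing A] [Algebra k A] [Algebra.FiniteType k A] (ρ : VecGrp.GMod G A)
    (hρ : ρ.IsMult) : Algebra.FiniteType k ↥(ρ.fixedSubalgebra hρ i) := by
  classical
  have hT : Algebra.FiniteType k ↥(linv i) := (Subalgebra.fg_iff_finiteType _).mp (fg_linv i hfg)
  have hS : Algebra.FiniteType k (↥(linv i) ⊗[k] A) :=
    Algebra.FiniteType.trans hT (inferInstance : Algebra.FiniteType ↥(linv i) (↥(linv i) ⊗[k] A))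
  obtain ⟨s, hs, hle⟩ := thmA G hG (↥(linv i) ⊗[k] A) (sGMod i ρ hρ) (isMult_sGMod i ρ hρ) hS
  rw [← Subalgebra.fg_iff_finiteType]
  refine ⟨s.image (evE i), ?_⟩
  apply le_antisymm
  · apply Algebra.adjoin_le
    intro a ha
    rw [Finset.coe_image] at ha
    obtain ⟨F, hF, rfl⟩ := ha
    exact evE_mem_fixed i ρ hρ ((mem_fixedUnder_sGMod_iff i ρ hρ F).mp (hs hF))
  · intro a ha
    obtain ⟨F, hF, rfl⟩ := exists_invariant_of_fixed ρ hρ i ha
    have h1 : F ∈ Algebra.adjoin k (↑s : Set (↥(linv i) ⊗[k] A)) :=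
      hle ((mem_fixedUnder_sGMod_iff i ρ hρ F).mpr hF)
    have h2 : evE i F ∈ (Algebra.adjoin k (↑s : Set (↥(linv i) ⊗[k] A))).map (evE i) :=
      ⟨F, h1, rfl⟩
    rw [AlgHom.map_adjoin] at h2
    rw [Finset.coe_image]
    exact h2

/-- the converse: the regular representation -/
theorem subringFGOver_of_finiteType (i : H ⟶ G) [IsMonHom i]
    (h : Algebra.FiniteType k
      ↥((regGMod (G := G)).fixedSubalgebra (isMult_regGMod (G := G)) i)) :
    AGF.SubringFGOver k G (AGF.rTransInv i) := by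
  rw [← Subalgebra.fg_iff_finiteType] at h
  obtain ⟨t, ht⟩ := h
  refine ⟨t, ?_, ?_⟩
  · intro f hf
    have h1 : f ∈ (regGMod (G := G)).fixedSubalgebra (isMult_regGMod (G := G)) i := by
      rw [← ht]
      exact Algebra.subset_adjoin hf
    exact isRTransInv_of_fixed i f (fun B _ _ y => h1 B y)
  · intro f hf
    have h1 : f ∈ (regGMod (G := G)).fixedSubalgebra (isMult_regGMod (G := G)) i :=
      mem_fixedUnder_regGMod i f hf
    rw [← ht] at h1
    rw [range_const_eq, ← Algebra.adjoin_eq_ring_closure]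
    exact h1

theorem subringFGOver_of_forall [LocallyOfFiniteType G.hom] (i : H ⟶ G) [IsMonHom i]
    (h : ∀ (A : Type u) [CommRing A] [Algebra k A] [Algebra.FiniteType k A] (ρ : VecGrp.GMod G A)
      (hρ : ρ.IsMult), Algebra.FiniteType k ↥(ρ.fixedSubalgebra hρ i)) :
    AGF.SubringFGOver k G (AGF.rTransInv i) :=
  subringFGOver_of_finiteType i
    (@h Γ(G.left, ⊤) _ _ finiteType_Γ (regGMod (G := G)) (isMult_regGMod (G := G)))

end Main

end Groth.Agent.Lib.T2H7.GrossTransfer
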