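import Mathlib
import Groth.Prelude.Def_ActBC
import Groth.Agent.Lib.T2H7GrpLimH

/-!
# Closed subgroup schemes through a cofiltered limit of schemes (helper7)
-/

set_option autoImplicit false
set_option linter.unusedSectionVars false
set_option linter.unusedVariables false
set_option linter.style.haveILetI false
universe u
open CategoryTheory CategoryTheory.Limits AlgebraicGeometry MonoidalCategory
  CartesianMonoidalCategory MonObj

namespace Groth.Agent.Lib.T2H7.GrpLimI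

open Groth.Agent.Lib.T2H7.GrpLimA Groth.Agent.Lib.T2H7.GrpLimB Groth.Agent.Lib.T2H7.GrpLimC
  Groth.Agent.Lib.T2H7.GrpLimD Groth.Agent.Lib.T2H7.GrpLimE Groth.Agent.Lib.T2H7.GrpLimF
  Groth.Agent.Lib.T2H7.GrpLimG Groth.Agent.Lib.T2H7.GrpLimH

section Sub

variable {C : Type*} [Category C] [CartesianMonoidalCategory C] {G H : C} [GrpObj G]
  (u : H ⟶ G)

/-- a pre-group structure on the source of a monomorphism to a group object which is compatible
with the group structure of the target is a group structure. -/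
theorem isGrp_of_mono [Mono u] (p : PreGrp H) (hm : p.mul ≫ u = (u ⊗ₘ u) ≫ μ[G])
    (he : p.one ≫ u = η[G]) (hi : p.inv ≫ u = u ≫ ι[G]) : p.IsGrp := by
  have hm' : p.mul ≫ u = (fst H H ≫ u) * (snd H H ≫ u) := by
    rw [hm, Hom.mul_def, ← lift_map_assoc, lift_fst_snd, Category.id_comp]
  refine ⟨?_, ?_, ?_, ?_, ?_⟩
  · rw [← cancel_mono u, Category.assoc, hm', MonObj.comp_mul]
    simp [he, MonObj.one_eq_one, leftUnitor_hom]
  · rw [← cancel_mono u, Category.assoc, hm', MonObj.comp_mul]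
    simp [he, MonObj.one_eq_one, rightUnitor_hom]
  · rw [← cancel_mono u]
    simp only [Category.assoc, hm', MonObj.comp_mul]
    simp [hm', MonObj.comp_mul, _root_.mul_assoc]
  · rw [← cancel_mono u]
    simp only [Category.assoc, hm', MonObj.comp_mul]
    simp only [lift_fst_assoc, lift_snd_assoc, hi, he, Category.id_comp]
    rw [← Hom.inv_def, inv_mul_cancel, Hom.one_def]
  · rw [← cancel_mono u]
    simp only [Category.assoc, hm', MonObj.comp_mul]
    simp only [lift_fst_assoc, lift_snd_assoc, hi, he, Category.id_comp]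
    rw [← Hom.inv_def, mul_inv_cancel, Hom.one_def]

/-- `(g, n) ↦ g u(n) g⁻¹` (no group structure on the source of `u` is needed). -/
def conjV : G ⊗ H ⟶ G := fst G H * (snd G H ≫ u) * (fst G H)⁻¹

theorem lift_conjV {T : C} (g : T ⟶ G) (n : T ⟶ H) : lift g n ≫ conjV u = g * (n ≫ u) * g⁻¹ := by
  simp [conjV, MonObj.comp_mul, GrpObj.comp_inv]

theorem normal_iff' :
    (∀ (T : C) (g : T ⟶ G) (n : T ⟶ H), ∃ n' : T ⟶ H, g * (n ≫ u) * g⁻¹ = n' ≫ u) ↔
      ∃ φ : G ⊗ H ⟶ H, φ ≫ u = conjV u := by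
  constructor
  · intro h
    obtain ⟨n', hn'⟩ := h (G ⊗ H) (fst G H) (snd G H)
    exact ⟨n', hn'.symm⟩
  · rintro ⟨φ, hφ⟩ T g n
    exact ⟨lift g n ≫ φ, by rw [Category.assoc, hφ, lift_conjV]⟩

section Map

open scoped Obj

variable {E : Type*} [Category E] [CartesianMonoidalCategory E] (F : C ⥤ E) [F.Monoidal]

theorem μ_map_conjV :
    Functor.LaxMonoidal.μ F G H ≫ F.map (conjV u) = conjV (F.map u) := by
  simp [conjV, Functor.map_mul, MonObj.comp_mul, GrpObj.comp_inv]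

theorem normal_map_iff' :
    (∀ (T : E) (g : T ⟶ F.obj G) (n : T ⟶ F.obj H),
        ∃ n' : T ⟶ F.obj H, g * (n ≫ F.map u) * g⁻¹ = n' ≫ F.map u) ↔
      ∃ ψ : F.obj (G ⊗ H) ⟶ F.obj H, ψ ≫ F.map u = F.map (conjV u) := by
  rw [normal_iff', ← μ_map_conjV]
  constructor
  · rintro ⟨φ, hφ⟩
    exact ⟨Functor.OplaxMonoidal.δ F G H ≫ φ, by simp [hφ]⟩
  · rintro ⟨ψ, hψ⟩
    exact ⟨Functor.LaxMonoidal.μ F G H ≫ ψ, by simp [hψ]⟩

/-- the three factorization conditions expressing that `F H` is a subgroup of `F G`. -/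
def SubCond : Prop :=
  (∃ ψ : F.obj (H ⊗ H) ⟶ F.obj H, ψ ≫ F.map u = F.map ((u ⊗ₘ u) ≫ μ[G])) ∧
  (∃ ψ : F.obj (𝟙_ C) ⟶ F.obj H, ψ ≫ F.map u = F.map η[G]) ∧
  (∃ ψ : F.obj H ⟶ F.obj H, ψ ≫ F.map u = F.map (u ≫ ι[G]))

theorem subCond_of_grpObj [inst : GrpObj (F.obj H)] [hu : IsMonHom (F.map u)] :
    SubCond u F := by
  refine ⟨⟨Functor.OplaxMonoidal.δ F H H ≫ μ[F.obj H], ?_⟩,
    ⟨Functor.OplaxMonoidal.η F ≫ η[F.obj H], ?_⟩, ⟨ι[F.obj H], ?_⟩⟩
  · rw [Category.assoc, IsMonHom.mul_hom, Functor.obj.μ_def,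
      Functor.LaxMonoidal.μ_natural_assoc, Functor.Monoidal.δ_μ_assoc, ← F.map_comp]
  · rw [Category.assoc, IsMonHom.one_hom, Functor.obj.η_def, Functor.Monoidal.η_ε_assoc]
  · rw [GrpObj.inv_hom, Functor.obj.ι_def, ← F.map_comp]

theorem exists_grpObj_of_subCond [Mono (F.map u)] (h : SubCond u F) :
    ∃ (_ : GrpObj (F.obj H)), IsMonHom (F.map u) := by
  obtain ⟨⟨ψ₁, h₁⟩, ⟨ψ₂, h₂⟩, ⟨ψ₃, h₃⟩⟩ := h
  have hm : (Functor.LaxMonoidal.μ F H H ≫ ψ₁) ≫ F.map u =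
      (F.map u ⊗ₘ F.map u) ≫ μ[F.obj G] := by
    rw [Category.assoc, h₁, Functor.obj.μ_def, Functor.LaxMonoidal.μ_natural_assoc,
      ← F.map_comp]
  have he : (Functor.LaxMonoidal.ε F ≫ ψ₂) ≫ F.map u = η[F.obj G] := by
    rw [Category.assoc, h₂, Functor.obj.η_def]
  have hi : ψ₃ ≫ F.map u = F.map u ≫ ι[F.obj G] := by
    rw [h₃, Functor.obj.ι_def, ← F.map_comp]
  letI inst : GrpObj (F.obj H) :=
    (⟨Functor.LaxMonoidal.μ F H H ≫ ψ₁, Functor.LaxMonoidal.ε F ≫ ψ₂, ψ₃⟩ :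
      PreGrp (F.obj H)).toGrpObj (isGrp_of_mono (F.map u) _ hm he hi)
  exact ⟨inst, ⟨he, hm⟩⟩

end Map

end Sub

section Lim

variable {I : Type u} [SmallCategory I] [IsCofiltered I] (D : I ⥤ Scheme.{u}) (c : Cone D)
  (hc : IsLimit c) [∀ (i i' : I) (f : i ⟶ i'), IsAffineHom (D.map f)]
  [∀ i, CompactSpace (D.obj i)] [∀ i, QuasiSeparatedSpace (D.obj i)]

include hc in
theorem ev_factor (i : I) (X Y Z : Over (D.obj i)) [QuasiCompact X.hom]
    [QuasiSeparated X.hom] [LocallyOfFinitePresentation Y.hom] [LocallyOfFiniteType Z.hom]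
    (a : Y ⟶ Z) (b : X ⟶ Z)
    (h : ∃ ψ : Red.bc (c.π.app i) X ⟶ Red.bc (c.π.app i) Y,
      ψ ≫ (Over.pullback (c.π.app i)).map a = (Over.pullback (c.π.app i)).map b) :
    Ev i (fun k g => ∃ ψ : Red.bc (D.map g) X ⟶ Red.bc (D.map g) Y,
      ψ ≫ (Over.pullback (D.map g)).map a = (Over.pullback (D.map g)).map b) := by
  obtain ⟨k, g, ψ, hψ⟩ := (factor_iff D c hc i X Y Z a b).1 h
  exact ⟨k, g, fun k' a' =>
    ⟨_, factor_further (D.map a') (D.map g) (D.map_comp a' g).symm a b ψ hψ⟩⟩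

include hc in
theorem closedSubgroup_descends (i₀ : I) (G₀ : Over (D.obj i₀)) [GrpObj G₀]
    [QuasiSeparated G₀.hom] [QuasiCompact G₀.hom] [LocallyOfFinitePresentation G₀.hom]
    (H₀ : Over (D.obj i₀)) (ι₀ : H₀ ⟶ G₀) [Mono ι₀] [QuasiSeparated H₀.hom]
    [QuasiCompact H₀.hom] [LocallyOfFinitePresentation H₀.hom]
    (hH : ∃ _ : GrpObj (Red.bc (c.π.app i₀) H₀), IsMonHom ((Over.pullback (c.π.app i₀)).map ι₀)) :
    (∃ (i : I) (a : i ⟶ i₀) (_ : GrpObj (Red.bc (D.map a) H₀)),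
        IsMonHom ((Over.pullback (D.map a)).map ι₀)) ∧
    ((∃ (_ : GrpObj (Red.bc (c.π.app i₀) H₀)) (_ : IsMonHom ((Over.pullback (c.π.app i₀)).map ι₀)),
        AlgGrp.IsNormalHom ((Over.pullback (c.π.app i₀)).map ι₀)) →
      ∃ (i : I) (a : i ⟶ i₀) (_ : GrpObj (Red.bc (D.map a) H₀))
        (_ : IsMonHom ((Over.pullback (D.map a)).map ι₀)),
        AlgGrp.IsNormalHom ((Over.pullback (D.map a)).map ι₀)) := by
  haveI : LocallyOfFiniteType G₀.hom := inferInstance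
  haveI : QuasiCompact (H₀ ⊗ H₀).hom := quasiCompact_tensor _ _
  haveI : QuasiSeparated (H₀ ⊗ H₀).hom := quasiSeparated_tensor _ _
  haveI : QuasiCompact (G₀ ⊗ H₀).hom := quasiCompact_tensor _ _
  haveI : QuasiSeparated (G₀ ⊗ H₀).hom := quasiSeparated_tensor _ _
  haveI : QuasiCompact (𝟙_ (Over (D.obj i₀))).hom := quasiCompact_unit _
  haveI : QuasiSeparated (𝟙_ (Over (D.obj i₀))).hom := quasiSeparated_unit _
  obtain ⟨inst, hu⟩ := hH
  obtain ⟨h₁, h₂, h₃⟩ := subCond_of_grpObj ι₀ (Over.pullback (c.π.app i₀))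
  have E1 : Ev i₀ (fun k g => SubCond ι₀ (Over.pullback (D.map g))) :=
    ((ev_factor D c hc i₀ _ _ _ _ _ h₁).and
      ((ev_factor D c hc i₀ _ _ _ _ _ h₂).and (ev_factor D c hc i₀ _ _ _ _ _ h₃)))
  constructor
  · obtain ⟨k, g, hk⟩ := E1.exists
    obtain ⟨inst', hu'⟩ := exists_grpObj_of_subCond ι₀ (Over.pullback (D.map g)) hk
    exact ⟨k, g, inst', hu'⟩
  · rintro ⟨inst', hu', hn⟩
    have h₄ := (normal_map_iff' ι₀ (Over.pullback (c.π.app i₀))).1 hn
    obtain ⟨k, g, hk, hk'⟩ := (E1.and (ev_factor D c hc i₀ _ _ _ _ _ h₄)).exists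
    obtain ⟨inst'', hu''⟩ := exists_grpObj_of_subCond ι₀ (Over.pullback (D.map g)) hk
    exact ⟨k, g, inst'', hu'', (normal_map_iff' ι₀ (Over.pullback (D.map g))).2 hk'⟩

end Lim

section Stage

open Lim

/-- The statement-level form: only the base stage `D.obj i₀` is assumed quasi-compact and
quasi-separated, `G₀` separated and `H₀ → G₀` a finitely presented closed immersion; reduce to
`closedSubgroup_descends` for the system indexed by `Over i₀`. -/
theorem closedSubgroup_descends_stage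
    {I : Type u} [SmallCategory I] [IsCofiltered I]
    (D : I ⥤ Scheme.{u}) (c : Cone D) (hc : IsLimit c)
    [∀ (i j : I) (a : i ⟶ j), IsAffineHom (D.map a)] (i₀ : I)
    [CompactSpace (D.obj i₀)] [QuasiSeparatedSpace (D.obj i₀)]
    (G₀ : Over (D.obj i₀)) [GrpObj G₀] [IsSeparated G₀.hom] [QuasiCompact G₀.hom]
    [LocallyOfFinitePresentation G₀.hom]
    (H₀ : Over (D.obj i₀)) (ι₀ : H₀ ⟶ G₀) [IsClosedImmersion ι₀.left]
    [LocallyOfFinitePresentation ι₀.left]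
    (hH : ∃ _ : GrpObj (Red.bc (c.π.app i₀) H₀), IsMonHom ((Over.pullback (c.π.app i₀)).map ι₀)) :
    (∃ (i : I) (a : i ⟶ i₀) (_ : GrpObj (Red.bc (D.map a) H₀)),
        IsMonHom ((Over.pullback (D.map a)).map ι₀)) ∧
    ((∃ (_ : GrpObj (Red.bc (c.π.app i₀) H₀)) (_ : IsMonHom ((Over.pullback (c.π.app i₀)).map ι₀)),
        AlgGrp.IsNormalHom ((Over.pullback (c.π.app i₀)).map ι₀)) →
      ∃ (i : I) (a : i ⟶ i₀) (_ : GrpObj (Red.bc (D.map a) H₀))
        (_ : IsMonHom ((Over.pullback (D.map a)).map ι₀)),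
        AlgGrp.IsNormalHom ((Over.pullback (D.map a)).map ι₀)) := by
  have hc' : IsLimit (c.whisker (Over.forget i₀)) :=
    (Functor.Initial.isLimitWhiskerEquiv (Over.forget i₀) c).symm hc
  haveI : ∀ (i j : Over i₀) (a : i ⟶ j), IsAffineHom ((Over.forget i₀ ⋙ D).map a) := fun i j a =>
    inferInstanceAs (IsAffineHom (D.map a.left))
  haveI hcs : ∀ k : Over i₀, CompactSpace ((Over.forget i₀ ⋙ D).obj k) := fun k => by
    haveI : QuasiCompact (D.map k.hom) := inferInstance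
    exact QuasiCompact.compactSpace_of_compactSpace (D.map k.hom)
  haveI hqs : ∀ k : Over i₀, QuasiSeparatedSpace ((Over.forget i₀ ⋙ D).obj k) := fun k => by
    haveI : QuasiSeparated (D.map k.hom) := inferInstance
    exact quasiSeparatedSpace_of_quasiSeparated (D.map k.hom)
  haveI : QuasiSeparated G₀.hom := inferInstance
  haveI : Mono ι₀.left := inferInstance
  haveI : Mono ι₀ := Over.mono_of_mono_left ι₀
  have hw : ι₀.left ≫ G₀.hom = H₀.hom := Over.w ι₀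
  haveI : QuasiCompact H₀.hom := by rw [← hw]; infer_instance
  haveI : QuasiSeparated H₀.hom := by rw [← hw]; infer_instance
  haveI : LocallyOfFinitePresentation H₀.hom := by rw [← hw]; infer_instance
  let G₀' : Over ((Over.forget i₀ ⋙ D).obj (Over.mk (𝟙 i₀))) := G₀
  let H₀' : Over ((Over.forget i₀ ⋙ D).obj (Over.mk (𝟙 i₀))) := H₀
  let ι₀' : H₀' ⟶ G₀' := ι₀
  letI : GrpObj G₀' := ‹GrpObj G₀›
  haveI : QuasiSeparated G₀'.hom := ‹QuasiSeparated G₀.hom›
  haveI : QuasiCompact G₀'.hom := ‹QuasiCompact G₀.hom›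
  haveI : LocallyOfFinitePresentation G₀'.hom := ‹LocallyOfFinitePresentation G₀.hom›
  haveI : QuasiSeparated H₀'.hom := ‹QuasiSeparated H₀.hom›
  haveI : QuasiCompact H₀'.hom := ‹QuasiCompact H₀.hom›
  haveI : LocallyOfFinitePresentation H₀'.hom := ‹LocallyOfFinitePresentation H₀.hom›
  haveI : Mono ι₀' := ‹Mono ι₀›
  have hH' : ∃ _ : GrpObj (Red.bc ((c.whisker (Over.forget i₀)).π.app (Over.mk (𝟙 i₀))) H₀'), 
    IsMonHom ((Over.pullback ((c.whisker (Over.forget i₀)).π.app (Over.mk (𝟙 i₀)))).map ι₀') := hH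
  have key := closedSubgroup_descends (Over.forget i₀ ⋙ D) (c.whisker (Over.forget i₀)) hc'
    (Over.mk (𝟙 i₀)) G₀' H₀' ι₀' hH'
  obtain ⟨k1, k2⟩ := key
  constructor
  · obtain ⟨k, g, inst, hu⟩ := k1
    exact ⟨k.left, g.left, inst, hu⟩
  · intro hn
    obtain ⟨k, g, inst, hu, hn'⟩ := k2 hn
    exact ⟨k.left, g.left, inst, hu, hn'⟩

end Stage

end Groth.Agent.Lib.T2H7.GrpLimI
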