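import Mathlib
import Groth.Prelude.Def_ActBC
import Groth.Agent.Lib.T2H7GrpLimI
import Groth.Agent.S0114
import Groth.Agent.S9348
import Groth.Agent.S5939
import Groth.Agent.S12442

/-!
# Representability of quotients by flat equivalence relations through a cofiltered limit of
schemes (helper7)
-/

set_option autoImplicit false
set_option linter.unusedSectionVars false
set_option linter.unusedVariables false
set_option linter.style.haveILetI false
universe u
open CategoryTheory CategoryTheory.Limits AlgebraicGeometry MonoidalCategory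
  CartesianMonoidalCategory MonObj

namespace Groth.Agent.Lib.T2H7.GrpLimJ

open Groth.Agent.Lib.T2H7.GrpLimA Groth.Agent.Lib.T2H7.GrpLimB Groth.Agent.Lib.T2H7.GrpLimC
  Groth.Agent.Lib.T2H7.GrpLimD Groth.Agent.Lib.T2H7.GrpLimE Groth.Agent.Lib.T2H7.GrpLimF
  Groth.Agent.Lib.T2H7.GrpLimG Groth.Agent.Lib.T2H7.GrpLimH Groth.Agent.Lib.T2H7.GrpLimI

section QuotFP

variable {S : Scheme.{u}} {X R Y : Over S} (s t : R ⟶ X) (p : X ⟶ Y)

/-- the target of an fppf morphism `p : X ⟶ Y` over `S` whose kernel pair `R` is quasi-compact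
over `S`, with `X` of finite presentation over `S`, is of finite presentation over `S`. -/
theorem quotient_fp [LocallyOfFinitePresentation X.hom] [QuasiCompact X.hom]
    [QuasiSeparated X.hom] [QuasiCompact R.hom] (hf : Flat p.left) (hs : Surjective p.left)
    (hl : LocallyOfFinitePresentation p.left) (hpb : IsPullback s t p p) :
    LocallyOfFinitePresentation Y.hom ∧ QuasiCompact Y.hom ∧ QuasiSeparated Y.hom := by
  have hw : p.left ≫ Y.hom = X.hom := Over.w p
  haveI h1 : LocallyOfFinitePresentation (p.left ≫ Y.hom) := by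
    rw [hw]; exact ‹LocallyOfFinitePresentation X.hom›
  haveI h2 : QuasiCompact (p.left ≫ Y.hom) := by
    rw [hw]; exact ‹QuasiCompact X.hom›
  haveI h3 : QuasiSeparated (p.left ≫ Y.hom) := by
    rw [hw]; exact ‹QuasiSeparated X.hom›
  have hY : LocallyOfFinitePresentation Y.hom := Groth.Agent.S0114.result p.left Y.hom
  haveI : QuasiCompact (t.left ≫ X.hom) := by
    rw [Over.w t]; exact ‹QuasiCompact R.hom›
  haveI : @QuasiSeparated X.left S X.hom := ‹QuasiSeparated X.hom›
  haveI ht : QuasiCompact t.left := QuasiCompact.of_comp t.left X.hom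
  have hsq : IsPullback s.left t.left p.left p.left := hpb.map (Over.forget S)
  haveI hp : QuasiCompact p.left :=
    Groth.Agent.S9348.result p.left p.left p.left.isOpenMap s.left t.left hsq
  obtain ⟨h4, h5⟩ := Groth.Agent.S5939.result p.left Y.hom
  exact ⟨hY, h4, h5⟩

end QuotFP

section Rel

variable {S T : Scheme.{u}} (t : T ⟶ S) {X Y : Over S} (p : X ⟶ Y)

/-- the base change of a morphism `p : X ⟶ Y` of `S`-schemes along `t : T ⟶ S` is the base change
of `p` along the projection `Y ×_S T ⟶ Y`. -/
theorem isPullback_map_left :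
    IsPullback (pullback.fst X.hom t) ((Over.pullback t).map p).left p.left
      (pullback.fst Y.hom t) := by
  have h1 : IsPullback (pullback.fst X.hom t)
      (((Over.pullback t).map p).left ≫ pullback.snd Y.hom t) (p.left ≫ Y.hom) t := by
    have e1 : ((Over.pullback t).map p).left ≫ pullback.snd Y.hom t = pullback.snd X.hom t :=
      Over.w ((Over.pullback t).map p)
    rw [e1, Over.w p]
    exact IsPullback.of_hasPullback X.hom t
  exact IsPullback.of_bot h1 (ActBC.pullback_map_left_fst t p).symm
    (IsPullback.of_hasPullback Y.hom t)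

/-- a property stable under base change passes from `p` to its base change. -/
theorem prop_map_left (P : MorphismProperty Scheme.{u}) [P.IsStableUnderBaseChange]
    (hP : P p.left) : P ((Over.pullback t).map p).left :=
  MorphismProperty.of_isPullback (P := P) (isPullback_map_left t p) hP

/-- transfer of a property from any model of the base change of `p` to the chosen one. -/
theorem prop_map_left_of_isPullback (P : MorphismProperty Scheme.{u}) [P.IsStableUnderBaseChange]
    {Yi Xi : Scheme.{u}} {gi : Yi ⟶ T} {pY : Yi ⟶ Y.left} {pX : Xi ⟶ X.left} {fi : Xi ⟶ Yi}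
    (hY : IsPullback pY gi Y.hom t) (hX : IsPullback pX fi p.left pY) (hP : P fi) :
    P ((Over.pullback t).map p).left := by
  let a : pullback Y.hom t ⟶ Yi := hY.lift (pullback.fst Y.hom t) (pullback.snd Y.hom t)
    pullback.condition
  have ha1 : a ≫ pY = pullback.fst Y.hom t := hY.lift_fst _ _ _
  have hw : pullback.fst X.hom t ≫ p.left = (((Over.pullback t).map p).left ≫ a) ≫ pY := by
    rw [Category.assoc, ha1, ActBC.pullback_map_left_fst]
  let b : pullback X.hom t ⟶ Xi := hX.lift (pullback.fst X.hom t)
    (((Over.pullback t).map p).left ≫ a) hw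
  have hb1 : b ≫ pX = pullback.fst X.hom t := hX.lift_fst _ _ _
  have hb2 : b ≫ fi = ((Over.pullback t).map p).left ≫ a := hX.lift_snd _ _ _
  have h1 : IsPullback (b ≫ pX) ((Over.pullback t).map p).left p.left (a ≫ pY) := by
    rw [hb1, ha1]
    exact isPullback_map_left t p
  have h2 : IsPullback b ((Over.pullback t).map p).left fi a := IsPullback.of_right h1 hb2 hX
  exact MorphismProperty.of_isPullback (P := P) h2 hP

end Rel

section RelFurther

variable {S S' S'' : Scheme.{u}} (f : S'' ⟶ S') (g : S' ⟶ S) {d : S'' ⟶ S} (h : f ≫ g = d)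
  {X Y : Over S} (p : X ⟶ Y)

include h in
/-- a property of a base change of `p` passes to further base changes. -/
theorem prop_map_left_further (P : MorphismProperty Scheme.{u}) [P.IsStableUnderBaseChange]
    [P.RespectsIso] (hP : P ((Over.pullback g).map p).left) :
    P ((Over.pullback d).map p).left := by
  rw [map_eq_conj f g h p]
  simp only [Over.comp_left]
  have h1 : P ((Over.pullback f).map ((Over.pullback g).map p)).left := prop_map_left f _ P hP
  haveI : IsIso (ActBC.bcCompIso f g X h).inv.left := inferInstance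
  haveI : IsIso (ActBC.bcCompIso f g Y h).hom.left := inferInstance
  exact (P.cancel_left_of_respectsIso _ _).2 ((P.cancel_right_of_respectsIso _ _).2 h1)

end RelFurther

section KerPair

variable {S : Scheme.{u}} {X Y : Over S} (p : X ⟶ Y)

theorem locallyOfFinitePresentation_left [LocallyOfFinitePresentation X.hom]
    [LocallyOfFiniteType Y.hom] : LocallyOfFinitePresentation p.left := by
  haveI : LocallyOfFinitePresentation (p.left ≫ Y.hom) := by
    rw [Over.w p]; exact ‹LocallyOfFinitePresentation X.hom›
  haveI : @LocallyOfFiniteType Y.left S Y.hom := ‹LocallyOfFiniteType Y.hom›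
  exact Groth.Agent.S12442.result p.left Y.hom

theorem quasiSeparated_left [QuasiSeparated X.hom] : QuasiSeparated p.left := by
  haveI : QuasiSeparated (p.left ≫ Y.hom) := by
    rw [Over.w p]; exact ‹QuasiSeparated X.hom›
  exact QuasiSeparated.of_comp p.left Y.hom

theorem locallyOfFinitePresentation_kernelPair [LocallyOfFinitePresentation X.hom]
    [LocallyOfFiniteType Y.hom] : LocallyOfFinitePresentation (pullback p p).hom := by
  have hP : IsPullback (pullback.fst p p).left (pullback.snd p p).left p.left p.left :=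
    (IsPullback.of_hasPullback p p).map (Over.forget S)
  have hm : LocallyOfFinitePresentation p.left := locallyOfFinitePresentation_left p
  have h1 : LocallyOfFinitePresentation (pullback.fst p p).left :=
    MorphismProperty.of_isPullback (P := @LocallyOfFinitePresentation) hP.flip hm
  rw [← Over.w (pullback.fst p p)]
  exact MorphismProperty.comp_mem (W := @LocallyOfFinitePresentation) _ _ h1
    ‹LocallyOfFinitePresentation X.hom›

theorem quasiSeparated_kernelPair [QuasiSeparated X.hom] :
    QuasiSeparated (pullback p p).hom := by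
  have hP : IsPullback (pullback.fst p p).left (pullback.snd p p).left p.left p.left :=
    (IsPullback.of_hasPullback p p).map (Over.forget S)
  have hm : QuasiSeparated p.left := quasiSeparated_left p
  have h1 : QuasiSeparated (pullback.fst p p).left :=
    MorphismProperty.of_isPullback (P := @QuasiSeparated) hP.flip hm
  rw [← Over.w (pullback.fst p p)]
  exact MorphismProperty.comp_mem (W := @QuasiSeparated) _ _ h1 ‹QuasiSeparated X.hom›

end KerPair

section RelLim

variable {I : Type u} [SmallCategory I] [IsCofiltered I] (D : I ⥤ Scheme.{u}) (c : Cone D)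
  (hc : IsLimit c) [∀ (i i' : I) (f : i ⟶ i'), IsAffineHom (D.map f)]
  [∀ i, CompactSpace (D.obj i)] [∀ i, QuasiSeparatedSpace (D.obj i)] (i : I)
  (X Y : Over (D.obj i)) [LocallyOfFinitePresentation X.hom] [QuasiCompact X.hom]
  [QuasiSeparated X.hom] [LocallyOfFinitePresentation Y.hom] [QuasiCompact Y.hom]
  [QuasiSeparated Y.hom] (p : X ⟶ Y)

include hc in
theorem flat_map_descends (hf : Flat ((Over.pullback (c.π.app i)).map p).left) :
    ∃ (k : I) (g : k ⟶ i), Flat ((Over.pullback (D.map g)).map p).left := by
  haveI h2 : @QuasiCompact X.left (D.obj i) X.hom := ‹QuasiCompact X.hom›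
  haveI h3 : @QuasiSeparated X.left (D.obj i) X.hom := ‹QuasiSeparated X.hom›
  haveI h2' : @QuasiCompact Y.left (D.obj i) Y.hom := ‹QuasiCompact Y.hom›
  haveI h3' : @QuasiSeparated Y.left (D.obj i) Y.hom := ‹QuasiSeparated Y.hom›
  haveI : CompactSpace X.left :=
    @QuasiCompact.compactSpace_of_compactSpace _ _ _ h2 (inferInstanceAs (CompactSpace (D.obj i)))
  haveI : QuasiSeparatedSpace X.left :=
    @quasiSeparatedSpace_of_quasiSeparated _ _ _
      (inferInstanceAs (QuasiSeparatedSpace (D.obj i))) h3
  haveI : CompactSpace Y.left :=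
    @QuasiCompact.compactSpace_of_compactSpace _ _ _ h2' (inferInstanceAs (CompactSpace (D.obj i)))
  haveI : QuasiSeparatedSpace Y.left :=
    @quasiSeparatedSpace_of_quasiSeparated _ _ _
      (inferInstanceAs (QuasiSeparatedSpace (D.obj i))) h3'
  haveI : LocallyOfFiniteType Y.hom := inferInstance
  haveI : LocallyOfFinitePresentation p.left := locallyOfFinitePresentation_left p
  haveI : Flat ((Over.pullback (c.π.app i)).map p).left := hf
  obtain ⟨k, φ, Xi, Yi, fi, gi, pY, pX, sqY, sqX, hfi⟩ :=
    Groth.Agent.S2075.result D c hc i (X₀ := X.left) (Y₀ := Y.left) p.left Y.hom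
      ((Over.pullback (c.π.app i)).map p).left (pullback.snd Y.hom (c.π.app i))
      (pullback.fst Y.hom (c.π.app i)) (pullback.fst X.hom (c.π.app i))
      (IsPullback.of_hasPullback Y.hom (c.π.app i)) (isPullback_map_left (c.π.app i) p)
  exact ⟨k, φ, prop_map_left_of_isPullback (D.map φ) p @Flat sqY sqX hfi⟩

include hc in
theorem surjective_map_descends (hf : Surjective ((Over.pullback (c.π.app i)).map p).left) :
    ∃ (k : I) (g : k ⟶ i), Surjective ((Over.pullback (D.map g)).map p).left := by
  haveI h1 : @LocallyOfFinitePresentation Y.left (D.obj i) Y.hom :=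
    ‹LocallyOfFinitePresentation Y.hom›
  haveI h2' : @QuasiCompact Y.left (D.obj i) Y.hom := ‹QuasiCompact Y.hom›
  haveI h3' : @QuasiSeparated Y.left (D.obj i) Y.hom := ‹QuasiSeparated Y.hom›
  haveI : LocallyOfFinitePresentation (p.left ≫ Y.hom) := by
    rw [Over.w p]; exact ‹LocallyOfFinitePresentation X.hom›
  haveI : QuasiCompact (p.left ≫ Y.hom) := by
    rw [Over.w p]; exact ‹QuasiCompact X.hom›
  haveI : QuasiSeparated (p.left ≫ Y.hom) := by
    rw [Over.w p]; exact ‹QuasiSeparated X.hom›
  haveI : Surjective ((Over.pullback (c.π.app i)).map p).left := hf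
  obtain ⟨k, φ, Xi, Yi, fi, gi, pY, pX, sqY, sqX, hfi⟩ :=
    Groth.Agent.S2581.result D c hc i (X₀ := X.left) (Y₀ := Y.left) p.left Y.hom
      ((Over.pullback (c.π.app i)).map p).left (pullback.snd Y.hom (c.π.app i))
      (pullback.fst Y.hom (c.π.app i)) (pullback.fst X.hom (c.π.app i))
      (IsPullback.of_hasPullback Y.hom (c.π.app i)) (isPullback_map_left (c.π.app i) p)
  exact ⟨k, φ, prop_map_left_of_isPullback (D.map φ) p @Surjective sqY sqX hfi⟩

include hc in
theorem ev_flat_map (hf : Flat ((Over.pullback (c.π.app i)).map p).left) :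
    Ev i (fun k g => Flat ((Over.pullback (D.map g)).map p).left) := by
  obtain ⟨k, g, h⟩ := flat_map_descends D c hc i X Y p hf
  exact ⟨k, g, fun k' a =>
    prop_map_left_further (D.map a) (D.map g) (D.map_comp a g).symm p @Flat h⟩

include hc in
theorem ev_surjective_map (hf : Surjective ((Over.pullback (c.π.app i)).map p).left) :
    Ev i (fun k g => Surjective ((Over.pullback (D.map g)).map p).left) := by
  obtain ⟨k, g, h⟩ := surjective_map_descends D c hc i X Y p hf
  exact ⟨k, g, fun k' a =>
    prop_map_left_further (D.map a) (D.map g) (D.map_comp a g).symm p @Surjective h⟩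

end RelLim

section PBcat

variable {C : Type*} [Category C] [CartesianMonoidalCategory C] [HasPullbacks C]
  {E : Type*} [Category E] [CartesianMonoidalCategory E] (F : C ⥤ E) [F.Monoidal]
  [PreservesLimitsOfShape WalkingCospan F] {R X Y : C} (s t : R ⟶ X) (p : X ⟶ Y)

/-- the kernel pair of `p` inside the product. -/
noncomputable def kerι : pullback p p ⟶ X ⊗ X := lift (pullback.fst p p) (pullback.snd p p)

instance : Mono (kerι p) := by
  constructor
  intro Z a b h
  have h1 := congrArg (· ≫ fst X X) h
  have h2 := congrArg (· ≫ snd X X) h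
  simp only [kerι, Category.assoc, lift_fst, lift_snd] at h1 h2
  exact pullback.hom_ext h1 h2

theorem isPullback_map_kernelPair :
    IsPullback (F.map (pullback.fst p p)) (F.map (pullback.snd p p)) (F.map p) (F.map p) :=
  (IsPullback.of_hasPullback p p).map F

/-- from a pullback square to the two factorisations. -/
theorem exists_factor_of_isPullback (h : IsPullback (F.map s) (F.map t) (F.map p) (F.map p)) :
    (∃ ψ : F.obj R ⟶ F.obj (pullback p p), ψ ≫ F.map (kerι p) = F.map (lift s t)) ∧
    (∃ ψ : F.obj (pullback p p) ⟶ F.obj R, ψ ≫ F.map (lift s t) = F.map (kerι p)) ∧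
    Mono (F.map (lift s t)) := by
  have hK := isPullback_map_kernelPair F p
  let θ : F.obj R ≅ F.obj (pullback p p) := h.isoIsPullback _ _ hK
  have h1 : θ.hom ≫ F.map (pullback.fst p p) = F.map s := h.isoIsPullback_hom_fst _ _ hK
  have h2 : θ.hom ≫ F.map (pullback.snd p p) = F.map t := h.isoIsPullback_hom_snd _ _ hK
  have h3 : θ.hom ≫ F.map (kerι p) = F.map (lift s t) := by
    rw [kerι, ← Functor.Monoidal.lift_μ, ← Functor.Monoidal.lift_μ, ← Category.assoc, comp_lift,
      h1, h2]
  have h4 : θ.inv ≫ F.map (lift s t) = F.map (kerι p) := by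
    rw [← h3, Iso.inv_hom_id_assoc]
  refine ⟨⟨θ.hom, h3⟩, ⟨θ.inv, h4⟩, ?_⟩
  rw [← h3]
  haveI : Mono (F.map (kerι p)) := by
    rw [kerι, ← Functor.Monoidal.lift_μ]
    haveI : Mono (lift (F.map (pullback.fst p p)) (F.map (pullback.snd p p))) := by
      constructor
      intro Z a b hab
      have e1 := congrArg (· ≫ fst _ _) hab
      have e2 := congrArg (· ≫ snd _ _) hab
      simp only [Category.assoc, lift_fst, lift_snd] at e1 e2
      exact hK.hom_ext e1 e2
    infer_instance
  infer_instance

/-- from the two factorisations and monicity to the pullback square. -/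
theorem isPullback_of_factor
    (h1 : ∃ ψ : F.obj R ⟶ F.obj (pullback p p), ψ ≫ F.map (kerι p) = F.map (lift s t))
    (h2 : ∃ ψ : F.obj (pullback p p) ⟶ F.obj R, ψ ≫ F.map (lift s t) = F.map (kerι p))
    (h3 : Mono (F.map (lift s t))) :
    IsPullback (F.map s) (F.map t) (F.map p) (F.map p) := by
  have hK := isPullback_map_kernelPair F p
  obtain ⟨ψ, hψ⟩ := h1
  obtain ⟨ψ', hψ'⟩ := h2
  haveI : Mono (F.map (kerι p)) := by
    rw [kerι, ← Functor.Monoidal.lift_μ]
    haveI : Mono (lift (F.map (pullback.fst p p)) (F.map (pullback.snd p p))) := by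
      constructor
      intro Z a b hab
      have e1 := congrArg (· ≫ fst _ _) hab
      have e2 := congrArg (· ≫ snd _ _) hab
      simp only [Category.assoc, lift_fst, lift_snd] at e1 e2
      exact hK.hom_ext e1 e2
    infer_instance
  have e1 : ψ ≫ ψ' = 𝟙 _ := by
    rw [← cancel_mono (F.map (lift s t)), Category.assoc, hψ', hψ, Category.id_comp]
  have e2 : ψ' ≫ ψ = 𝟙 _ := by
    rw [← cancel_mono (F.map (kerι p)), Category.assoc, hψ, hψ', Category.id_comp]
  have hs : ψ ≫ F.map (pullback.fst p p) = F.map s := by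
    have := congrArg (· ≫ F.map (fst X X)) hψ
    simp only [Category.assoc, ← F.map_comp, kerι, lift_fst] at this
    exact this
  have ht : ψ ≫ F.map (pullback.snd p p) = F.map t := by
    have := congrArg (· ≫ F.map (snd X X)) hψ
    simp only [Category.assoc, ← F.map_comp, kerι, lift_snd] at this
    exact this
  let θ : F.obj (pullback p p) ≅ F.obj R := ⟨ψ', ψ, e2, e1⟩
  refine IsPullback.of_iso hK θ (Iso.refl _) (Iso.refl _) (Iso.refl _) ?_ ?_ (by simp) (by simp)
  · simp only [Iso.refl_hom, Category.comp_id]
    rw [← hs]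
    change _ = ψ' ≫ ψ ≫ _
    rw [← Category.assoc, e2, Category.id_comp]
  · simp only [Iso.refl_hom, Category.comp_id]
    rw [← ht]
    change _ = ψ' ≫ ψ ≫ _
    rw [← Category.assoc, e2, Category.id_comp]

end PBcat

section PBLim

variable {I : Type u} [SmallCategory I] [IsCofiltered I] (D : I ⥤ Scheme.{u}) (c : Cone D)
  (hc : IsLimit c) [∀ (i i' : I) (f : i ⟶ i'), IsAffineHom (D.map f)]
  [∀ i, CompactSpace (D.obj i)] [∀ i, QuasiSeparatedSpace (D.obj i)] (i : I)
  (X Y R : Over (D.obj i)) [LocallyOfFinitePresentation X.hom] [QuasiCompact X.hom]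
  [QuasiSeparated X.hom] [LocallyOfFinitePresentation Y.hom] [QuasiCompact Y.hom]
  [QuasiSeparated Y.hom] [LocallyOfFinitePresentation R.hom] [QuasiCompact R.hom]
  [QuasiSeparated R.hom] (s t : R ⟶ X) (p : X ⟶ Y)

include hc in
/-- a square `s, t, p, p` of objects of finite presentation which becomes cartesian over the limit
is cartesian over all sufficiently small stages. -/
theorem ev_isPullback_map
    (h : IsPullback ((Over.pullback (c.π.app i)).map s) ((Over.pullback (c.π.app i)).map t)
      ((Over.pullback (c.π.app i)).map p) ((Over.pullback (c.π.app i)).map p)) :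
    Ev i (fun k g => IsPullback ((Over.pullback (D.map g)).map s) ((Over.pullback (D.map g)).map t)
      ((Over.pullback (D.map g)).map p) ((Over.pullback (D.map g)).map p)) := by
  haveI : LocallyOfFiniteType Y.hom := inferInstance
  haveI : LocallyOfFiniteType R.hom := inferInstance
  haveI := quasiCompact_kernelPair p
  haveI := locallyOfFinitePresentation_kernelPair p
  haveI := quasiSeparated_kernelPair p
  haveI : LocallyOfFinitePresentation (X ⊗ X).hom := locallyOfFinitePresentation_tensor X X
  haveI : LocallyOfFiniteType (X ⊗ X).hom := inferInstance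
  haveI : QuasiSeparated (X ⊗ X).hom := quasiSeparated_tensor X X
  obtain ⟨h1, h2, h3⟩ := exists_factor_of_isPullback (Over.pullback (c.π.app i)) s t p h
  have E1 := ev_factor D c hc i R (pullback p p) (X ⊗ X) (kerι p) (lift s t) h1
  have E2 := ev_factor D c hc i (pullback p p) R (X ⊗ X) (lift s t) (kerι p) h2
  have E3 : Ev i (fun k g => Mono ((Over.pullback (D.map g)).map (lift s t))) := by
    obtain ⟨k, g, hm⟩ := (mono_iff D c hc i R (X ⊗ X) (lift s t)).1 h3
    exact ⟨k, g, fun k' a =>
      mono_map_of_mono_map (D.map a) (D.map g) (D.map_comp a g).symm _ hm⟩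
  exact ((E1.and E2).and E3).mono (fun k g hh =>
    isPullback_of_factor (Over.pullback (D.map g)) s t p hh.1.1 hh.1.2 hh.2)

include hc in
/-- the stage lemma: flatness, surjectivity and the kernel pair condition descend together. -/
theorem exists_stage_quot
    (hf : Flat ((Over.pullback (c.π.app i)).map p).left)
    (hs : Surjective ((Over.pullback (c.π.app i)).map p).left)
    (h : IsPullback ((Over.pullback (c.π.app i)).map s) ((Over.pullback (c.π.app i)).map t)
      ((Over.pullback (c.π.app i)).map p) ((Over.pullback (c.π.app i)).map p)) :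
    ∃ (k : I) (g : k ⟶ i), Flat ((Over.pullback (D.map g)).map p).left ∧
      Surjective ((Over.pullback (D.map g)).map p).left ∧
      IsPullback ((Over.pullback (D.map g)).map s) ((Over.pullback (D.map g)).map t)
      ((Over.pullback (D.map g)).map p) ((Over.pullback (D.map g)).map p) := by
  obtain ⟨k, g, h1, h2, h3⟩ := ((ev_flat_map D c hc i X Y p hf).and
    ((ev_surjective_map D c hc i X Y p hs).and (ev_isPullback_map D c hc i X Y R s t p h))).exists
  exact ⟨k, g, h1, h2, h3⟩

end PBLim

section Conj

variable {S S' S'' : Scheme.{u}} (f : S'' ⟶ S') (g : S' ⟶ S) {d : S'' ⟶ S} (h : f ≫ g = d)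
  {R X : Over S} (s t : R ⟶ X)

/-- a kernel pair square for a twice base-changed pair gives one for the pair base-changed along
the composite. -/
theorem isPullback_conj {Y : Over S''} (P : Red.bc f (Red.bc g X) ⟶ Y)
    (hP : IsPullback ((Over.pullback f).map ((Over.pullback g).map s))
      ((Over.pullback f).map ((Over.pullback g).map t)) P P) :
    IsPullback ((Over.pullback d).map s) ((Over.pullback d).map t)
      ((ActBC.bcCompIso f g X h).inv ≫ P) ((ActBC.bcCompIso f g X h).inv ≫ P) := by
  refine IsPullback.of_iso hP (ActBC.bcCompIso f g R h) (ActBC.bcCompIso f g X h)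
    (ActBC.bcCompIso f g X h) (Iso.refl _) ?_ ?_ ?_ ?_
  · exact ActBC.bcCompIso_hom_naturality f g h s
  · exact ActBC.bcCompIso_hom_naturality f g h t
  · simp
  · simp

/-- the converse direction. -/
theorem isPullback_conj' {Y : Over S''} (P : Red.bc d X ⟶ Y)
    (hP : IsPullback ((Over.pullback d).map s) ((Over.pullback d).map t) P P) :
    IsPullback ((Over.pullback f).map ((Over.pullback g).map s))
      ((Over.pullback f).map ((Over.pullback g).map t))
      ((ActBC.bcCompIso f g X h).hom ≫ P) ((ActBC.bcCompIso f g X h).hom ≫ P) := by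
  refine IsPullback.of_iso hP (ActBC.bcCompIso f g R h).symm (ActBC.bcCompIso f g X h).symm
    (ActBC.bcCompIso f g X h).symm (Iso.refl _) ?_ ?_ ?_ ?_
  · rw [Iso.symm_hom, Iso.symm_hom, Iso.comp_inv_eq, Category.assoc, Iso.eq_inv_comp]
    exact (ActBC.bcCompIso_hom_naturality f g h s).symm
  · rw [Iso.symm_hom, Iso.symm_hom, Iso.comp_inv_eq, Category.assoc, Iso.eq_inv_comp]
    exact (ActBC.bcCompIso_hom_naturality f g h t).symm
  · simp
  · simp

end Conj

section Main

variable {I : Type u} [SmallCategory I] [IsCofiltered I] (D : I ⥤ Scheme.{u}) (c : Cone D)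
  (hc : IsLimit c) [∀ (i i' : I) (f : i ⟶ i'), IsAffineHom (D.map f)]
  [∀ i, CompactSpace (D.obj i)] [∀ i, QuasiSeparatedSpace (D.obj i)] (j : I)
  (X R : Over (D.obj j)) [LocallyOfFinitePresentation X.hom] [QuasiCompact X.hom]
  [QuasiSeparated X.hom] [LocallyOfFinitePresentation R.hom] [QuasiCompact R.hom]
  [QuasiSeparated R.hom] (s t : R ⟶ X)

include hc in
/-- an fppf quotient of `X` by `R` over the limit descends to some stage. -/
theorem quot_descends
    (h : ∃ (Y : Over c.pt) (p : Red.bc (c.π.app j) X ⟶ Y), Flat p.left ∧ Surjective p.left ∧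
      LocallyOfFinitePresentation p.left ∧
      IsPullback ((Over.pullback (c.π.app j)).map s) ((Over.pullback (c.π.app j)).map t) p p) :
    ∃ (i : I) (f : i ⟶ j), ∃ (Y : Over (D.obj i)) (p : Red.bc (D.map f) X ⟶ Y), Flat p.left ∧
      Surjective p.left ∧ LocallyOfFinitePresentation p.left ∧
      IsPullback ((Over.pullback (D.map f)).map s) ((Over.pullback (D.map f)).map t) p p := by
  obtain ⟨Y, p, hfl, hsu, hlf, hpb⟩ := h
  haveI : LocallyOfFinitePresentation (Red.bc (c.π.app j) X).hom :=
    locallyOfFinitePresentation_bc _ _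
  haveI : QuasiCompact (Red.bc (c.π.app j) X).hom := quasiCompact_bc _ _
  haveI : QuasiSeparated (Red.bc (c.π.app j) X).hom := quasiSeparated_bc _ _
  haveI : QuasiCompact (Red.bc (c.π.app j) R).hom := quasiCompact_bc _ _
  obtain ⟨hY1, hY2, hY3⟩ := quotient_fp _ _ p hfl hsu hlf hpb
  obtain ⟨k, b, Yk, hYk1, hYk2, hYk3, ⟨e⟩⟩ := exists_bc_iso_over D c hc j Y
  -- the stage `k`
  haveI : LocallyOfFinitePresentation (Red.bc (D.map b) X).hom :=
    locallyOfFinitePresentation_bc _ _
  haveI : QuasiCompact (Red.bc (D.map b) X).hom := quasiCompact_bc _ _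
  haveI : QuasiSeparated (Red.bc (D.map b) X).hom := quasiSeparated_bc _ _
  haveI : LocallyOfFinitePresentation (Red.bc (D.map b) R).hom :=
    locallyOfFinitePresentation_bc _ _
  haveI : QuasiCompact (Red.bc (D.map b) R).hom := quasiCompact_bc _ _
  haveI : QuasiSeparated (Red.bc (D.map b) R).hom := quasiSeparated_bc _ _
  obtain ⟨k', g, v, hv⟩ := kl_surj D c hc k (Red.bc (D.map b) X) Yk
    ((ActBC.bcCompIso (c.π.app k) (D.map b) X (c.w b)).hom ≫ p ≫ e.hom)
  -- the stage `k'`
  haveI : LocallyOfFinitePresentation (Red.bc (D.map g) (Red.bc (D.map b) X)).hom :=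
    locallyOfFinitePresentation_bc _ _
  haveI : QuasiCompact (Red.bc (D.map g) (Red.bc (D.map b) X)).hom := quasiCompact_bc _ _
  haveI : QuasiSeparated (Red.bc (D.map g) (Red.bc (D.map b) X)).hom := quasiSeparated_bc _ _
  haveI : LocallyOfFinitePresentation (Red.bc (D.map g) (Red.bc (D.map b) R)).hom :=
    locallyOfFinitePresentation_bc _ _
  haveI : QuasiCompact (Red.bc (D.map g) (Red.bc (D.map b) R)).hom := quasiCompact_bc _ _
  haveI : QuasiSeparated (Red.bc (D.map g) (Red.bc (D.map b) R)).hom := quasiSeparated_bc _ _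
  haveI : LocallyOfFinitePresentation (Red.bc (D.map g) Yk).hom :=
    locallyOfFinitePresentation_bc _ _
  haveI : QuasiCompact (Red.bc (D.map g) Yk).hom := quasiCompact_bc _ _
  haveI : QuasiSeparated (Red.bc (D.map g) Yk).hom := quasiSeparated_bc _ _
  have hv' : (Over.pullback (c.π.app k')).map v =
      (ActBC.bcCompIso (c.π.app k') (D.map g) (Red.bc (D.map b) X) (c.w g)).hom ≫
        ((ActBC.bcCompIso (c.π.app k) (D.map b) X (c.w b)).hom ≫ p ≫ e.hom) ≫
        (ActBC.bcCompIso (c.π.app k') (D.map g) Yk (c.w g)).inv := hv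
  have hpb' : IsPullback
      ((Over.pullback (c.π.app k')).map ((Over.pullback (D.map g)).map
        ((Over.pullback (D.map b)).map s)))
      ((Over.pullback (c.π.app k')).map ((Over.pullback (D.map g)).map
        ((Over.pullback (D.map b)).map t)))
      ((Over.pullback (c.π.app k')).map v) ((Over.pullback (c.π.app k')).map v) := by
    have h1 := isPullback_conj' (c.π.app k) (D.map b) (c.w b) s t p hpb
    have h2 := isPullback_conj' (c.π.app k') (D.map g) (c.w g) _ _ _ h1
    rw [hv']
    exact IsPullback.of_iso h2 (Iso.refl _) (Iso.refl _) (Iso.refl _)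
      (e ≪≫ (ActBC.bcCompIso (c.π.app k') (D.map g) Yk (c.w g)).symm)
      (by simp) (by simp) (by simp) (by simp)
  have hfl' : Flat ((Over.pullback (c.π.app k')).map v).left := by
    rw [hv']
    simp only [Over.comp_left]
    infer_instance
  have hsu' : Surjective ((Over.pullback (c.π.app k')).map v).left := by
    rw [hv']
    simp only [Over.comp_left]
    infer_instance
  obtain ⟨k'', a, h1, h2, h3⟩ := exists_stage_quot D c hc k' _ _ _ _ _ v hfl' hsu' hpb'
  have step1 := isPullback_conj (D.map a) (D.map g) (D.map_comp a g).symm _ _ _ h3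
  have step2 := isPullback_conj (D.map (a ≫ g)) (D.map b) (D.map_comp (a ≫ g) b).symm _ _ _ step1
  haveI : LocallyOfFinitePresentation (Red.bc (D.map ((a ≫ g) ≫ b)) X).hom :=
    locallyOfFinitePresentation_bc _ _
  haveI : LocallyOfFiniteType (Red.bc (D.map a) (Red.bc (D.map g) Yk)).hom :=
    locallyOfFiniteType_bc _ _
  refine ⟨k'', (a ≫ g) ≫ b, Red.bc (D.map a) (Red.bc (D.map g) Yk), _, ?_, ?_,
    locallyOfFinitePresentation_left _, step2⟩
  · simp only [Over.comp_left]
    infer_instance
  · simp only [Over.comp_left]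
    infer_instance

end Main

section Ascend

variable {S S' S'' : Scheme.{u}} (f : S'' ⟶ S') (g : S' ⟶ S) {d : S'' ⟶ S} (h : f ≫ g = d)
  {R X : Over S} (s t : R ⟶ X)

include h in
/-- an fppf quotient over a base gives one over every further base. -/
theorem quot_bc {Y : Over S'} (p : Red.bc g X ⟶ Y) (hfl : Flat p.left) (hsu : Surjective p.left)
    (hlf : LocallyOfFinitePresentation p.left)
    (hpb : IsPullback ((Over.pullback g).map s) ((Over.pullback g).map t) p p) :
    ∃ (Y' : Over S'') (p' : Red.bc d X ⟶ Y'), Flat p'.left ∧ Surjective p'.left ∧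
      LocallyOfFinitePresentation p'.left ∧
      IsPullback ((Over.pullback d).map s) ((Over.pullback d).map t) p' p' := by
  have h1 : IsPullback ((Over.pullback f).map ((Over.pullback g).map s))
      ((Over.pullback f).map ((Over.pullback g).map t)) ((Over.pullback f).map p)
      ((Over.pullback f).map p) := hpb.map (Over.pullback f)
  have h2 := isPullback_conj f g h s t _ h1
  haveI := prop_map_left f p @Flat hfl
  haveI := prop_map_left f p @Surjective hsu
  haveI := prop_map_left f p @LocallyOfFinitePresentation hlf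
  refine ⟨Red.bc f Y, _, ?_, ?_, ?_, h2⟩
  · simp only [Over.comp_left]
    infer_instance
  · simp only [Over.comp_left]
    infer_instance
  · simp only [Over.comp_left]
    infer_instance

end Ascend

section Iff

variable {I : Type u} [SmallCategory I] [IsCofiltered I] (D : I ⥤ Scheme.{u}) (c : Cone D)
  (hc : IsLimit c) [∀ (i i' : I) (f : i ⟶ i'), IsAffineHom (D.map f)]
  [∀ i, CompactSpace (D.obj i)] [∀ i, QuasiSeparatedSpace (D.obj i)] (j : I)
  (X R : Over (D.obj j)) [LocallyOfFinitePresentation X.hom] [QuasiCompact X.hom]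
  [QuasiSeparated X.hom] [LocallyOfFinitePresentation R.hom] [QuasiCompact R.hom]
  [QuasiSeparated R.hom] (s t : R ⟶ X)

include hc in
/-- representability of the fppf quotient of `X` by `R` over the limit is equivalent to
representability over some stage. -/
theorem quot_iff :
    (∃ (Y : Over c.pt) (p : Red.bc (c.π.app j) X ⟶ Y), Flat p.left ∧ Surjective p.left ∧
      LocallyOfFinitePresentation p.left ∧
      IsPullback ((Over.pullback (c.π.app j)).map s) ((Over.pullback (c.π.app j)).map t) p p) ↔
    ∃ (i : I) (f : i ⟶ j), ∃ (Y : Over (D.obj i)) (p : Red.bc (D.map f) X ⟶ Y), Flat p.left ∧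
      Surjective p.left ∧ LocallyOfFinitePresentation p.left ∧
      IsPullback ((Over.pullback (D.map f)).map s) ((Over.pullback (D.map f)).map t) p p := by
  constructor
  · exact quot_descends D c hc j X R s t
  · rintro ⟨i, f, Y, p, hfl, hsu, hlf, hpb⟩
    exact quot_bc (c.π.app i) (D.map f) (c.w f) s t p hfl hsu hlf hpb

end Iff

end Groth.Agent.Lib.T2H7.GrpLimJ
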