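import Mathlib
import Groth.Prelude.Def_ActBC
import Groth.Agent.Lib.T2H7GrpLimJ

/-!
# Representability of the quotient of a group scheme by a flat subgroup scheme through a
cofiltered limit of schemes (helper7)
-/

set_option autoImplicit false
set_option linter.unusedSectionVars false
set_option linter.unusedVariables false
set_option linter.style.haveILetI false
universe u
open CategoryTheory CategoryTheory.Limits AlgebraicGeometry MonoidalCategory
  CartesianMonoidalCategory MonObj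

namespace Groth.Agent.Lib.T2H7.GrpLimK

open Groth.Agent.Lib.T2H7.GrpLimA Groth.Agent.Lib.T2H7.GrpLimB Groth.Agent.Lib.T2H7.GrpLimC
  Groth.Agent.Lib.T2H7.GrpLimD Groth.Agent.Lib.T2H7.GrpLimE Groth.Agent.Lib.T2H7.GrpLimF
  Groth.Agent.Lib.T2H7.GrpLimG Groth.Agent.Lib.T2H7.GrpLimH Groth.Agent.Lib.T2H7.GrpLimI
  Groth.Agent.Lib.T2H7.GrpLimJ

section GQuot

variable {C : Type*} [Category C] [CartesianMonoidalCategory C] {G H : C} [GrpObj G] [GrpObj H]
  (u : H ⟶ G)

theorem whiskerLeft_mul : (G ◁ u) ≫ μ[G] = mulL u := by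
  rw [mulL, Hom.mul_def]
  congr 1
  ext <;> simp

open scoped Obj

variable {E : Type*} [Category E] [CartesianMonoidalCategory E] (F : C ⥤ E) [F.Monoidal]

theorem isPullback_mul_iff {Q : E} (p : F.obj G ⟶ Q) :
    IsPullback ((F.obj G ◁ F.map u) ≫ μ[F.obj G]) (fst (F.obj G) (F.obj H)) p p ↔
      IsPullback (F.map (mulL u)) (F.map (fst G H)) p p := by
  rw [whiskerLeft_mul, ← μ_map_mulL, ← Functor.Monoidal.μ_fst F G H]
  constructor
  · intro h
    exact IsPullback.of_iso h (Functor.Monoidal.μIso F G H) (Iso.refl _) (Iso.refl _) (Iso.refl _)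
      (by simp) (by simp) (by simp) (by simp)
  · intro h
    exact IsPullback.of_iso h (Functor.Monoidal.μIso F G H).symm (Iso.refl _) (Iso.refl _)
      (Iso.refl _) (by simp) (by simp) (by simp) (by simp)

end GQuot

section Lim

variable {I : Type u} [SmallCategory I] [IsCofiltered I] (D : I ⥤ Scheme.{u}) (c : Cone D)
  (hc : IsLimit c) [∀ (i i' : I) (f : i ⟶ i'), IsAffineHom (D.map f)]
  [∀ i, CompactSpace (D.obj i)] [∀ i, QuasiSeparatedSpace (D.obj i)]

include hc in
theorem grpQuot_iff (j : I) (Gj G'j : Over (D.obj j)) [GrpObj Gj] [GrpObj G'j]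
    [LocallyOfFinitePresentation Gj.hom] [QuasiCompact Gj.hom] [QuasiSeparated Gj.hom]
    [LocallyOfFinitePresentation G'j.hom] [QuasiCompact G'j.hom] [QuasiSeparated G'j.hom]
    (uj : G'j ⟶ Gj) :
    (∃ (Q : Over c.pt) (p : (Red.bc (c.π.app j) Gj) ⟶ Q), Flat p.left ∧ Surjective p.left ∧ LocallyOfFinitePresentation p.left ∧
        IsPullback (((Red.bc (c.π.app j) Gj) ◁ ((Over.pullback (c.π.app j)).map uj)) ≫ μ[(Red.bc (c.π.app j) Gj)]) (fst (Red.bc (c.π.app j) Gj) (Red.bc (c.π.app j) G'j)) p p) ↔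
    ∃ (i : I) (f : i ⟶ j), ∃ (Q : Over (D.obj i)) (p : (Red.bc (D.map f) Gj) ⟶ Q), Flat p.left ∧ Surjective p.left ∧ LocallyOfFinitePresentation p.left ∧
        IsPullback (((Red.bc (D.map f) Gj) ◁ ((Over.pullback (D.map f)).map uj)) ≫ μ[(Red.bc (D.map f) Gj)]) (fst (Red.bc (D.map f) Gj) (Red.bc (D.map f) G'j)) p p := by
  haveI : QuasiCompact (Gj ⊗ G'j).hom := quasiCompact_tensor Gj G'j
  haveI : QuasiSeparated (Gj ⊗ G'j).hom := quasiSeparated_tensor Gj G'j
  haveI : LocallyOfFinitePresentation (Gj ⊗ G'j).hom := locallyOfFinitePresentation_tensor Gj G'j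
  have key := quot_iff D c hc j Gj (Gj ⊗ G'j) (mulL uj) (fst Gj G'j)
  simp only [← isPullback_mul_iff] at key
  exact key

end Lim

end Groth.Agent.Lib.T2H7.GrpLimK
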