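import Mathlib

/-!
# Determinants attached to an idempotent matrix (helper7)

For an idempotent `n × n` matrix `E` over a commutative ring `R` the polynomial
`D = det (1 - (1 - X) E)` has orthogonal idempotent coefficients `d_r` (the rank idempotents), and
`charpoly (f • E) = Σ_r d_r X^(n-r) (X - f)^r`.
-/

set_option autoImplicit false
set_option linter.style.haveILetI false
set_option linter.unusedSectionVars false
universe u v

open Polynomial Matrix

namespace Groth.Agent.Lib.T2H7.IdemDet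

variable {R : Type u} [CommRing R] {n : ℕ} (E : Matrix (Fin n) (Fin n) R)

/-- `u (1 - E) + v E` -/
def M₂ {R' : Type v} [CommRing R'] (φ : R →+* R') (u v : R') : Matrix (Fin n) (Fin n) R' :=
  u • (1 - E.map φ) + v • E.map φ

variable {E}

theorem M₂_mul (hE : E * E = E) {R' : Type v} [CommRing R'] (φ : R →+* R') (u v u' v' : R') :
    M₂ E φ u v * M₂ E φ u' v' = M₂ E φ (u * u') (v * v') := by
  have hE' : E.map φ * E.map φ = E.map φ := by rw [← Matrix.map_mul, hE]
  have hPP : (1 - E.map φ) * (1 - E.map φ) = 1 - E.map φ := by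
    simp [sub_mul, mul_sub, hE']
  have hPF : (1 - E.map φ) * E.map φ = 0 := by simp [sub_mul, hE']
  have hFP : E.map φ * (1 - E.map φ) = 0 := by simp [mul_sub, hE']
  unfold M₂
  simp only [add_mul, mul_add, smul_mul_smul_comm, hPP, hPF, hFP, smul_zero, add_zero, zero_add,
    hE']

theorem M₂_one_one {R' : Type v} [CommRing R'] (φ : R →+* R') : M₂ E φ 1 1 = 1 := by
  unfold M₂; simp

theorem M₂_same {R' : Type v} [CommRing R'] (φ : R →+* R') (u : R') : M₂ E φ u u = u • 1 := by
  unfold M₂
  rw [← smul_add, sub_add_cancel]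

theorem M₂_map {R' : Type v} {R'' : Type*} [CommRing R'] [CommRing R''] (φ : R →+* R')
    (ψ : R' →+* R'') (u v : R') :
    (M₂ E φ u v).map ψ = M₂ E (ψ.comp φ) (ψ u) (ψ v) := by
  unfold M₂
  ext i j
  simp [Matrix.map_apply, Matrix.one_apply, apply_ite ψ]

variable (E)

/-- `det (1 - (1 - X) E)` -/
noncomputable def D : R[X] := (M₂ E C 1 X).det

/-- `det (X (1 - E) + E)` -/
noncomputable def Dbar : R[X] := (M₂ E C X 1).det

variable {E}

theorem eval₂_D {R' : Type v} [CommRing R'] (φ : R →+* R') (u : R') :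
    (D E).eval₂ φ u = (M₂ E φ 1 u).det := by
  unfold D
  have := RingHom.map_det (eval₂RingHom φ u) (M₂ E C 1 X)
  rw [coe_eval₂RingHom] at this
  rw [this, RingHom.mapMatrix_apply, M₂_map]
  congr 1
  ext a; simp

theorem eval₂_Dbar {R' : Type v} [CommRing R'] (φ : R →+* R') (u : R') :
    (Dbar E).eval₂ φ u = (M₂ E φ u 1).det := by
  unfold Dbar
  have := RingHom.map_det (eval₂RingHom φ u) (M₂ E C X 1)
  rw [coe_eval₂RingHom] at this
  rw [this, RingHom.mapMatrix_apply, M₂_map]
  congr 1
  ext a; simp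

theorem D_mul_Dbar (hE : E * E = E) : D E * Dbar E = X ^ n := by
  unfold D Dbar
  rw [← Matrix.det_mul, M₂_mul hE, one_mul, mul_one, M₂_same, Matrix.det_smul, Matrix.det_one,
    mul_one, Fintype.card_fin]

theorem natDegree_D_le : (D E).natDegree ≤ n := by
  unfold D
  have h : M₂ E C 1 X = (X : R[X]) • E.map C + (1 - E).map C := by
    unfold M₂
    rw [one_smul, add_comm]
    congr 1
    ext i j
    simp [Matrix.map_apply, Matrix.one_apply, apply_ite (C : R → R[X])]
  rw [h]
  have := Polynomial.natDegree_det_X_add_C_le E (1 - E)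
  rwa [Fintype.card_fin] at this

theorem C_coeff_mul_D (hE : E * E = E) (s : ℕ) :
    C ((D E).coeff s) * D E = C ((D E).coeff s) * X ^ s := by
  let φ2 : R →+* R[X][X] := (C : R[X] →+* R[X][X]).comp C
  have hmul : (D E).eval₂ φ2 (C X) * (D E).eval₂ φ2 X = (D E).eval₂ φ2 (C X * X) := by
    rw [eval₂_D, eval₂_D, eval₂_D, ← Matrix.det_mul, M₂_mul hE, one_mul]
  have h1 : (D E).eval₂ φ2 (C X) = C (D E) := by
    have := Polynomial.hom_eval₂ (D E) (C : R →+* R[X]) (C : R[X] →+* R[X][X]) X
    rw [eval₂_C_X] at this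
    exact this.symm
  have h2 : (D E).eval₂ φ2 X = (D E).map C := by
    rw [← Polynomial.eval₂_map]
    exact eval₂_C_X
  have h3 : (D E).eval₂ φ2 (C X * X) =
      ∑ r ∈ Finset.range ((D E).natDegree + 1), C (C ((D E).coeff r) * X ^ r) * X ^ r := by
    rw [eval₂_eq_sum_range]
    refine Finset.sum_congr rfl fun r _ => ?_
    rw [mul_pow, ← C_pow, ← mul_assoc, RingHom.comp_apply, ← C_mul]
  rw [h1, h2, h3] at hmul
  have h4 := congrArg (fun q => q.coeff s) hmul
  simp only [coeff_C_mul, coeff_map, finsetSum_coeff, coeff_X_pow, mul_ite, mul_one,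
    mul_zero] at h4
  rw [Finset.sum_ite_eq] at h4
  split_ifs at h4 with hs
  · rw [mul_comm]; exact h4
  · have h5 : (D E).coeff s = 0 :=
      coeff_eq_zero_of_natDegree_lt (by simpa using hs)
    rw [h5]; simp

theorem coeff_mul_coeff (hE : E * E = E) (r s : ℕ) :
    (D E).coeff s * (D E).coeff r = if r = s then (D E).coeff s else 0 := by
  have := congrArg (fun q => q.coeff r) (C_coeff_mul_D hE s)
  simpa only [coeff_C_mul, coeff_X_pow, mul_ite, mul_one, mul_zero] using this

theorem coeff_idem (hE : E * E = E) (s : ℕ) :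
    (D E).coeff s * (D E).coeff s = (D E).coeff s := by
  rw [coeff_mul_coeff hE, if_pos rfl]

theorem coeff_pow (hE : E * E = E) (s m : ℕ) (hm : 0 < m) :
    (D E).coeff s ^ m = (D E).coeff s := by
  induction m with
  | zero => omega
  | succ k ih =>
    rcases Nat.eq_zero_or_pos k with rfl | hk
    · simp
    · rw [pow_succ, ih hk, coeff_idem hE]

theorem sum_coeff : ∑ r ∈ Finset.range (n + 1), (D E).coeff r = 1 := by
  have h1 : (D E).eval 1 = 1 := by
    have := eval₂_D (E := E) (RingHom.id R) 1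
    rw [M₂_one_one, Matrix.det_one] at this
    exact this
  rw [eval_eq_sum_range' (Nat.lt_succ_of_le natDegree_D_le)] at h1
  simpa using h1

theorem map_coeff_mul_eval₂ (hE : E * E = E) {R' : Type v} [CommRing R'] (φ : R →+* R') (u : R')
    (s : ℕ) : φ ((D E).coeff s) * (D E).eval₂ φ u = φ ((D E).coeff s) * u ^ s := by
  have := congrArg (eval₂ φ u) (C_coeff_mul_D hE s)
  simpa only [eval₂_mul, eval₂_C, eval₂_X_pow] using this

theorem C_coeff_mul_Dbar (hE : E * E = E) (r : ℕ) (hr : r ≤ n) :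
    C ((D E).coeff r) * Dbar E = C ((D E).coeff r) * X ^ (n - r) := by
  have hreg : IsLeftRegular ((X : R[X]) ^ r) := (monic_X_pow r).isRegular.left
  apply hreg
  show X ^ r * (C ((D E).coeff r) * Dbar E) = X ^ r * (C ((D E).coeff r) * X ^ (n - r))
  calc X ^ r * (C ((D E).coeff r) * Dbar E)
      = (C ((D E).coeff r) * X ^ r) * Dbar E := by ring
    _ = (C ((D E).coeff r) * D E) * Dbar E := by rw [C_coeff_mul_D hE]
    _ = C ((D E).coeff r) * X ^ n := by rw [mul_assoc, D_mul_Dbar hE]
    _ = X ^ r * (C ((D E).coeff r) * X ^ (n - r)) := by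
      have hX : (X : R[X]) ^ n = X ^ r * X ^ (n - r) := by
        rw [← pow_add, Nat.add_sub_cancel' hr]
      rw [hX]; ring

theorem charpoly_smul (hE : E * E = E) (f : R) :
    (f • E).charpoly = Dbar E * (D E).eval₂ C (X - C f) := by
  rw [eval₂_D]
  unfold Dbar
  rw [← Matrix.det_mul, M₂_mul hE, mul_one, one_mul]
  unfold Matrix.charpoly
  congr 1
  unfold M₂
  refine Matrix.ext fun i j => ?_
  simp only [charmatrix_apply, Matrix.add_apply, Matrix.smul_apply, Matrix.sub_apply,
    Matrix.map_apply, Matrix.one_apply, Matrix.diagonal_apply, smul_eq_mul]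
  split_ifs with hij
  · simp only [C_mul]; ring
  · simp only [C_mul]; ring

theorem C_coeff_mul_charpoly (hE : E * E = E) (f : R) (r : ℕ) (hr : r ≤ n) :
    C ((D E).coeff r) * (f • E).charpoly =
      X ^ (n - r) * (C ((D E).coeff r) * (X - C f) ^ r) := by
  rw [charpoly_smul hE]
  have h1 := C_coeff_mul_Dbar hE r hr
  have h2 := map_coeff_mul_eval₂ hE (C : R →+* R[X]) (X - C f) r
  have hid : C ((D E).coeff r) * C ((D E).coeff r) = C ((D E).coeff r) := by
    rw [← C_mul, coeff_idem hE]
  calc C ((D E).coeff r) * (Dbar E * (D E).eval₂ C (X - C f))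
      = (C ((D E).coeff r) * Dbar E) * (C ((D E).coeff r) * (D E).eval₂ C (X - C f)) := by
        rw [mul_mul_mul_comm, hid]
    _ = (C ((D E).coeff r) * X ^ (n - r)) * (C ((D E).coeff r) * (X - C f) ^ r) := by rw [h1, h2]
    _ = X ^ (n - r) * (C ((D E).coeff r) * (X - C f) ^ r) := by
        rw [mul_mul_mul_comm, hid]; ring

theorem coeff_zero_D : (D E).coeff 0 = (1 - E).det := by
  rw [coeff_zero_eq_eval_zero]
  have := eval₂_D (E := E) (RingHom.id R) 0
  rw [show (D E).eval 0 = (D E).eval₂ (RingHom.id R) 0 from rfl, this]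
  congr 1
  unfold M₂
  simp

theorem det_one_sub_eq_zero (w : Fin n → R) (hw : E *ᵥ w = w) (ψ : (Fin n → R) →ₗ[R] R)
    (hψ : ψ w = 1) : (1 - E).det = 0 := by
  have h1 : (1 - E) *ᵥ w = 0 := by rw [Matrix.sub_mulVec, Matrix.one_mulVec, hw, sub_self]
  have h2 : (1 - E).det • w = 0 := by
    have := congrArg (fun M => M *ᵥ w) (Matrix.adjugate_mul (1 - E))
    simp only [← Matrix.mulVec_mulVec, h1, Matrix.mulVec_zero, Matrix.smul_mulVec,
      Matrix.one_mulVec] at this
    exact this.symm
  have h3 := congrArg ψ h2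
  rw [map_smul, hψ, map_zero, smul_eq_mul, mul_one] at h3
  exact h3

theorem D_eq : D E = (E.charpoly.reverse).comp (1 - X) := by
  rw [Matrix.reverse_charpoly]
  unfold Matrix.charpolyRev D
  have := RingHom.map_det (compRingHom (1 - X : R[X])) (1 - (X : R[X]) • E.map C)
  rw [coe_compRingHom_apply] at this
  rw [this, RingHom.mapMatrix_apply]
  congr 1
  unfold M₂
  refine Matrix.ext fun i j => ?_
  simp only [Matrix.add_apply, Matrix.smul_apply, Matrix.sub_apply, Matrix.map_apply,
    Matrix.one_apply, smul_eq_mul, coe_compRingHom_apply]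
  split_ifs with hij
  · simp; ring
  · simp; ring

theorem coeff_D_mem {K' : Type v} [CommRing K'] (κ : K' →+* R) (h1 : E.charpoly ∈ lifts κ)
    (r : ℕ) : (D E).coeff r ∈ Set.range κ := by
  have h2 : E.charpoly.reverse ∈ lifts κ := by
    rw [lifts_iff_coeff_lifts] at h1 ⊢
    intro k
    rw [coeff_reverse]
    exact h1 _
  obtain ⟨Q, hQ⟩ := h2
  have h3 : D E = (Q.comp (1 - X)).map κ := by
    rw [D_eq, Polynomial.map_comp, ← hQ]
    congr 1
    simp
  rw [h3, coeff_map]
  exact ⟨_, rfl⟩

/-- The key consequence: a pure power of `X - f` has coefficients in the image of `κ`. -/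
theorem pow_mem_lifts {K' : Type v} [CommRing K'] (κ : K' →+* R) (hE : E * E = E)
    (hd : (1 - E).det = 0) (f : R) (h1 : E.charpoly ∈ lifts κ)
    (hf : (f • E).charpoly ∈ lifts κ) : (X - C f) ^ n.factorial ∈ lifts κ := by
  set a : ℕ → R := fun r => (D E).coeff r with ha
  have hq : ∀ r, 1 ≤ r → r ≤ n → C (a r) * (X - C f) ^ r ∈ lifts κ := by
    intro r _ hr
    rw [lifts_iff_coeff_lifts]
    intro k
    have h2 := congrArg (fun q => q.coeff (k + (n - r))) (C_coeff_mul_charpoly hE f r hr)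
    simp only [coeff_C_mul, coeff_X_pow_mul] at h2
    rw [coeff_C_mul, ← h2]
    obtain ⟨x, hx⟩ := coeff_D_mem κ h1 r
    obtain ⟨y, hy⟩ := (lifts_iff_coeff_lifts _).1 hf (k + (n - r))
    exact ⟨x * y, by rw [map_mul, hx, hy]⟩
  have hsum : (X - C f) ^ n.factorial =
      ∑ i ∈ Finset.range n, (C (a (i + 1)) * (X - C f) ^ (i + 1)) ^ (n.factorial / (i + 1)) := by
    have h3 : ∀ i ∈ Finset.range n,
        (C (a (i + 1)) * (X - C f) ^ (i + 1)) ^ (n.factorial / (i + 1)) =
          C (a (i + 1)) * (X - C f) ^ n.factorial := by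
      intro i hi
      have hdvd : (i + 1) ∣ n.factorial :=
        Nat.dvd_factorial (Nat.succ_pos i) (Finset.mem_range.1 hi)
      have hpos : 0 < n.factorial / (i + 1) :=
        Nat.div_pos (Nat.le_of_dvd (Nat.factorial_pos n) hdvd) (Nat.succ_pos i)
      rw [mul_pow, ← C_pow, coeff_pow hE _ _ hpos, ← pow_mul, Nat.mul_div_cancel' hdvd]
    rw [Finset.sum_congr rfl h3, ← Finset.sum_mul, ← map_sum]
    have h4 : ∑ i ∈ Finset.range n, a (i + 1) = 1 := by
      have := sum_coeff (E := E)
      rw [Finset.sum_range_succ', coeff_zero_D, hd, add_zero] at this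
      exact this
    rw [h4, map_one, one_mul]
  rw [hsum]
  refine Subsemiring.sum_mem _ fun i hi => ?_
  exact Subsemiring.pow_mem _ (hq (i + 1) (Nat.succ_pos i) (Finset.mem_range.1 hi)) _

end Groth.Agent.Lib.T2H7.IdemDet
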