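import Mathlib
import Groth.Agent.Lib.T2H7GrpdPT
import Groth.Agent.Lib.T2H7GrpdPts
import Groth.Agent.Lib.T2H7GrpdLoc
import Groth.Agent.Lib.T2H7IdemDet

/-!
# Invariants of a finite locally free affine groupoid after arbitrary base change (helper7)
-/

set_option autoImplicit false
set_option linter.style.haveILetI false
set_option linter.unusedSectionVars false
set_option backward.isDefEq.respectTransparency false
universe u

open CategoryTheory CategoryTheory.Limits TensorProduct Polynomial AlgebraicGeometry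
open Groth.Agent.Lib.Helper2.RetCharpoly Groth.Agent.Lib.T2H7.GrpdNorm
open Groth.Agent.Lib.T2H7.GrpdAlg Groth.Agent.Lib.T2H7.GrpdBC Groth.Agent.Lib.T2H7.GrpdPT

namespace Groth.Agent.Lib.T2H7.GrpdBCA

section PT
variable {K : Type u} [CommRing K] {A B P : Type u} [CommRing A] [CommRing B] [CommRing P]
  [Algebra K A] [Algebra K B] [Algebra K P] {g : AG A B P} (h : IsLin K g)

theorem exists_rcp_bc (n : ℕ) (r : letI := g.σ.toAlgebra; Ret A B n)
    (K' : Type u) [CommRing K'] [Algebra K K'] (y : K' ⊗[K] B) :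
    ∃ χ, (letI := (bc h K').σ.toAlgebra; IsRCP (K' ⊗[K] A) (K' ⊗[K] B) n y χ) := by
  obtain ⟨r'⟩ := exists_ret_bc h n r K'
  letI := (bc h K').σ.toAlgebra
  exact ⟨_, r', rfl⟩

/-- The polynomial trick for retract characteristic polynomials. -/
theorem rcp_coeff_mem_range (hinj : Function.Injective (algebraMap K A))
    (hK : ∀ a, a ∈ g.C ↔ a ∈ Set.range (algebraMap K A))
    (n : ℕ) (r : letI := g.σ.toAlgebra; Ret A B n)
    (K' : Type u) [CommRing K'] [Algebra K K'] (x : K' ⊗[K] A) (χ : (K' ⊗[K] A)[X])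
    (hχ : letI := (bc h K').σ.toAlgebra; IsRCP (K' ⊗[K] A) (K' ⊗[K] B) n ((bc h K').τ x) χ)
    (k : ℕ) : χ.coeff k ∈ Set.range (algebraMap K' (K' ⊗[K] A)) := by
  obtain ⟨S, hS⟩ := TensorProduct.exists_finset x
  let K₁ := MvPolynomial S K
  let φ : K₁ →ₐ[K] K' := MvPolynomial.aeval (fun i : S => i.1.1)
  let F : K₁ ⊗[K] A := ∑ i ∈ S.attach, (MvPolynomial.X i : K₁) ⊗ₜ[K] i.1.2
  have hF : (tr K₁ K' φ A) F = x := by
    rw [hS]
    simp only [F, map_sum, Algebra.TensorProduct.map_tmul, AlgHom.coe_id, id_eq]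
    rw [← Finset.sum_attach S]
    refine Finset.sum_congr rfl fun i _ => ?_
    rw [MvPolynomial.aeval_X]
  obtain ⟨χ₁, hχ₁⟩ := exists_rcp_bc h n r K₁ ((bc h K₁).τ F)
  have hχ₁C : χ₁.coeff k ∈ (bc h K₁).C := (bc h K₁).rcp_coeff_mem n F χ₁ hχ₁ k
  obtain ⟨Q, hQ⟩ := ((bc_invariants_of_flat h K₁ hinj hK).2 (χ₁.coeff k)).mp hχ₁C
  have hT := isRCP_cat (isPushout_transfer h K₁ K' φ) n ((bc h K₁).τ F) χ₁ hχ₁
  have e1 : (CommRingCat.ofHom (tr K₁ K' φ B).toRingHom).hom ((bc h K₁).τ F) = (bc h K').τ x := by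
    show (tr K₁ K' φ B) ((bc h K₁).τ F) = _
    rw [tr_τ, hF]
  rw [e1] at hT
  letI := (bc h K').σ.toAlgebra
  have e2 := IsRCP.unique hχ hT
  refine ⟨φ Q, ?_⟩
  rw [e2, coeff_map, ← hQ]
  show _ = (tr K₁ K' φ A) (algebraMap K₁ (K₁ ⊗[K] A) Q)
  simp [Algebra.TensorProduct.algebraMap_apply]

end PT

section Main
variable {K : Type u} [CommRing K] {A B P : Type u} [CommRing A] [CommRing B] [CommRing P]
  [Algebra K A] [Algebra K B] [Algebra K P] {g : AG A B P} (h : IsLin K g)
  (hinj : Function.Injective (algebraMap K A))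
  (hK : ∀ a, a ∈ g.C ↔ a ∈ Set.range (algebraMap K A))
  (K' : Type u) [CommRing K'] [Algebra K K']

open Groth.Agent.Lib.T2H7.IdemDet

include hinj hK in
/-- (a): invariant functions after base change satisfy a pure-power equation over `K'`. -/
theorem exists_poly (f : K' ⊗[K] A) (hf : f ∈ (bc h K').C) :
    ∃ (N : ℕ) (Q : K'[X]), 0 < N ∧ Q.map (algebraMap K' (K' ⊗[K] A)) = (X - C f) ^ N := by
  obtain ⟨n, ⟨r⟩⟩ : ∃ n, Nonempty (letI := g.σ.toAlgebra; Ret A B n) := by
    letI := g.σ.toAlgebra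
    have := g.mfin
    have := g.proj
    exact exists_ret A B
  obtain ⟨r'⟩ := exists_ret_bc h n r K'
  letI := (bc h K').σ.toAlgebra
  set E : Matrix (Fin n) (Fin n) (K' ⊗[K] A) := LinearMap.toMatrix' (r'.i ∘ₗ r'.p) with hEdef
  have hip : (r'.i ∘ₗ r'.p) ∘ₗ (r'.i ∘ₗ r'.p) = r'.i ∘ₗ r'.p := by
    ext v j
    simp [r'.pi_apply]
  have hE : E * E = E := by
    rw [hEdef, ← LinearMap.toMatrix'_comp, hip]
  have h1 : IsRCP (K' ⊗[K] A) (K' ⊗[K] B) n ((bc h K').τ 1) E.charpoly := by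
    refine ⟨r', ?_⟩
    unfold Ret.cp Ret.endo
    rw [map_one, map_one]
    rfl
  have h2 : IsRCP (K' ⊗[K] A) (K' ⊗[K] B) n ((bc h K').τ f) (f • E).charpoly := by
    refine ⟨r', ?_⟩
    unfold Ret.cp Ret.endo
    rw [← (AG.mem_C _).1 hf]
    have : Algebra.lmul (K' ⊗[K] A) (K' ⊗[K] B) ((bc h K').σ f) =
        f • (LinearMap.id : (K' ⊗[K] B) →ₗ[K' ⊗[K] A] (K' ⊗[K] B)) := by
      ext b
      show (bc h K').σ f * b = f • b
      rw [Algebra.smul_def]
      rfl
    rw [this, hEdef, ← map_smul]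
    congr 2
    ext v j
    simp
  have hl1 : E.charpoly ∈ lifts (algebraMap K' (K' ⊗[K] A)) := by
    rw [lifts_iff_coeff_lifts]
    intro k
    exact rcp_coeff_mem_range h hinj hK n r K' 1 _ h1 k
  have hl2 : (f • E).charpoly ∈ lifts (algebraMap K' (K' ⊗[K] A)) := by
    rw [lifts_iff_coeff_lifts]
    intro k
    exact rcp_coeff_mem_range h hinj hK n r K' f _ h2 k
  have hd : (1 - E).det = 0 := by
    let εl : (K' ⊗[K] B) →ₗ[K' ⊗[K] A] (K' ⊗[K] A) :=
      { toFun := (bc h K').ε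
        map_add' := map_add _
        map_smul' := fun a b => by
          rw [Algebra.smul_def, map_mul]
          show (bc h K').ε ((bc h K').σ a) * _ = _
          rw [(bc h K').εσ]
          rfl }
    refine det_one_sub_eq_zero (r'.i 1) ?_ (εl ∘ₗ r'.p) ?_
    · rw [hEdef, LinearMap.toMatrix'_mulVec]
      simp [r'.pi_apply]
    · show (bc h K').ε (r'.p (r'.i 1)) = 1
      rw [r'.pi_apply, map_one]
  obtain ⟨Q, hQ⟩ := pow_mem_lifts (algebraMap K' (K' ⊗[K] A)) hE hd f hl1 hl2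
  exact ⟨n.factorial, Q, Nat.factorial_pos n, hQ⟩

include hinj hK in
/-- (b): the kernel of `K' → K' ⊗ A` consists of nilpotent elements. -/
theorem isNilpotent_of_algebraMap_eq_zero (c : K') (hc : algebraMap K' (K' ⊗[K] A) c = 0) :
    IsNilpotent c := by
  have hint : Algebra.IsIntegral K A := Groth.Agent.Lib.T2H7.GrpdLoc.isIntegral_K g hK
  have : FaithfulSMul K A := (faithfulSMul_iff_algebraMap_injective K A).mpr hinj
  have hsurj : Function.Surjective (PrimeSpectrum.comap (algebraMap K A)) :=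
    Algebra.IsIntegral.comap_surjective K A
  have hS1 : Surjective (Spec.map (CommRingCat.ofHom (algebraMap K A))) := ⟨hsurj⟩
  have hpo := CommRingCat.isPushout_tensorProduct K K' A
  have hpb := (isPullback_SpecMap_of_isPushout _ _ _ _ hpo).flip
  have hS2 : Surjective (Spec.map (CommRingCat.ofHom
      (Algebra.TensorProduct.includeLeftRingHom : K' →+* K' ⊗[K] A))) :=
    MorphismProperty.of_isPullback (P := @Surjective) hpb hS1
  rw [nilpotent_iff_mem_prime]
  intro J hJ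
  obtain ⟨q, hq⟩ := hS2.surj (⟨J, hJ⟩ : PrimeSpectrum K')
  have hq' : J = q.asIdeal.comap (Algebra.TensorProduct.includeLeftRingHom : K' →+* K' ⊗[K] A) := by
    have := congrArg PrimeSpectrum.asIdeal hq
    exact this.symm
  rw [hq', Ideal.mem_comap]
  have : (Algebra.TensorProduct.includeLeftRingHom : K' →+* K' ⊗[K] A) c = 0 := hc
  rw [this]
  exact zero_mem _

end Main

section Trans
variable {K : Type u} [CommRing K] {A B P : Type u} [CommRing A] [CommRing B] [CommRing P]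
  [Algebra K A] [Algebra K B] [Algebra K P] {g : AG A B P} (h : IsLin K g)
  (hinj : Function.Injective (algebraMap K A))
  (hK : ∀ a, a ∈ g.C ↔ a ∈ Set.range (algebraMap K A))
  (K' : Type u) [CommRing K'] [Algebra K K']

include h hinj hK in
/-- The three assertions, in the form `A ⊗ K'`. -/
theorem main (sT tT : A ⊗[K] K' →ₐ[K] B ⊗[K] K')
    (hs : ∀ (a : A) (c : K'), sT (a ⊗ₜ c) = g.σ a ⊗ₜ c)
    (ht : ∀ (a : A) (c : K'), tT (a ⊗ₜ c) = g.τ a ⊗ₜ c) :
    (∀ f : A ⊗[K] K', sT f = tT f → ∃ (n : ℕ) (Q : K'[X]), 0 < n ∧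
        Q.map (Algebra.TensorProduct.includeRight : K' →ₐ[K] A ⊗[K] K').toRingHom =
          (X - C f) ^ n) ∧
    (∀ c : K', (Algebra.TensorProduct.includeRight : K' →ₐ[K] A ⊗[K] K') c = 0 →
      IsNilpotent c) ∧
    (Module.Flat K K' →
      Function.Injective (Algebra.TensorProduct.includeRight : K' →ₐ[K] A ⊗[K] K') ∧
      ∀ f : A ⊗[K] K', sT f = tT f →
        f ∈ Set.range (Algebra.TensorProduct.includeRight : K' →ₐ[K] A ⊗[K] K')) := by
  let cA := Algebra.TensorProduct.comm K A K'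
  let cB := Algebra.TensorProduct.comm K B K'
  have hσ : ∀ f, cB (sT f) = (bc h K').σ (cA f) := by
    intro f
    induction f using TensorProduct.induction_on with
    | zero => simp
    | tmul a c => rw [hs]; simp [cA, cB]
    | add x y hx hy => simp only [map_add, hx, hy]
  have hτ : ∀ f, cB (tT f) = (bc h K').τ (cA f) := by
    intro f
    induction f using TensorProduct.induction_on with
    | zero => simp
    | tmul a c => rw [ht]; simp [cA, cB]
    | add x y hx hy => simp only [map_add, hx, hy]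
  have hinv : ∀ f, sT f = tT f → cA f ∈ (bc h K').C := fun f hf => by
    rw [AG.mem_C, ← hσ, ← hτ, hf]
  have hincl : ∀ c : K', cA ((Algebra.TensorProduct.includeRight : K' →ₐ[K] A ⊗[K] K') c) =
      algebraMap K' (K' ⊗[K] A) c := by
    intro c
    simp [cA, Algebra.TensorProduct.algebraMap_apply]
  have hincl' : ∀ c : K', (Algebra.TensorProduct.includeRight : K' →ₐ[K] A ⊗[K] K') c =
      cA.symm (algebraMap K' (K' ⊗[K] A) c) := fun c => by
    rw [← hincl, AlgEquiv.symm_apply_apply]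
  refine ⟨fun f hf => ?_, fun c hc => ?_, fun hflat => ⟨?_, fun f hf => ?_⟩⟩
  · obtain ⟨N, Q, hN, hQ⟩ := exists_poly h hinj hK K' (cA f) (hinv f hf)
    refine ⟨N, Q, hN, ?_⟩
    have h1 := congrArg (Polynomial.map (cA.symm : K' ⊗[K] A →+* A ⊗[K] K')) hQ
    rw [Polynomial.map_map, Polynomial.map_pow, Polynomial.map_sub, Polynomial.map_X,
      Polynomial.map_C] at h1
    have h2 : (cA.symm : K' ⊗[K] A →+* A ⊗[K] K') (cA f) = f := cA.symm_apply_apply f
    rw [h2] at h1
    rw [← h1]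
    congr 1
  · apply isNilpotent_of_algebraMap_eq_zero (g := g) hinj hK K' c
    rw [← hincl, hc, map_zero]
  · have := (bc_invariants_of_flat h K' hinj hK).1
    intro c c' hcc
    apply this
    rw [← hincl, ← hincl, hcc]
  · have := ((bc_invariants_of_flat h K' hinj hK).2 (cA f)).1 (hinv f hf)
    obtain ⟨c, hc⟩ := this
    refine ⟨c, ?_⟩
    rw [hincl', hc, AlgEquiv.symm_apply_apply]

end Trans

end Groth.Agent.Lib.T2H7.GrpdBCA
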