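import Mathlib
import Groth.Prelude.Def_Grpd
import Groth.Agent.Lib.T2H7FinFittB
import Groth.Agent.Lib.T2H6FittStratum
import Groth.Agent.S1880

/-!
# The Fitting stratification of a groupoid scheme with finite source and target (helper7)
-/

set_option autoImplicit false
set_option linter.style.haveILetI false
set_option linter.unusedSectionVars false
set_option backward.isDefEq.respectTransparency false
universe u
open CategoryTheory AlgebraicGeometry Limits Opposite TopologicalSpace

namespace Groth.Agent.Lib.T2H7.GrpdFitt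

open Groth.Agent.Lib.T2H7.FinFitt Groth.Agent.Lib.T2H6.FittStratum

section general

variable {X Y : Scheme.{u}} (f : X ⟶ Y) [IsFinite f]

/-- the base change of a finite morphism to a scheme over which the Fitting ideals are `⊥` below
`d` and `⊤` at `d` is finite locally free of degree `d` -/
theorem isFinLocFreeOfDeg_pullback_snd {T : Scheme.{u}} (h : T ⟶ Y) (d : ℕ)
    (h1 : ∀ k, k < d → (fitt f k).comap h = ⊥) (h2 : (fitt f d).comap h = ⊤) :
    Mor2.IsFinLocFreeOfDeg d (pullback.snd f h) := by
  have H : IsPullback (pullback.fst f h) (pullback.snd f h) f h := IsPullback.of_hasPullback f h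
  refine isFinLocFreeOfDeg_of_fitt (pullback.snd f h) d (fun k hk => ?_) ?_
  · rw [← fitt_comap_of_isPullback f H k, h1 k hk]
  · rw [← fitt_comap_of_isPullback f H d, h2]

/-- equal pullback ideal sheaves give isomorphic pullbacks of the closed subscheme -/
theorem exists_iso_of_comap_eq {X Y : Scheme.{u}} (I : Y.IdealSheafData) (a b : X ⟶ Y)
    (h : I.comap a = I.comap b) :
    ∃ φ : pullback a I.subschemeι ≅ pullback b I.subschemeι,
      φ.hom ≫ pullback.fst b I.subschemeι = pullback.fst a I.subschemeι := by
  obtain ⟨φ₂, h₂⟩ : ∃ φ₂ : (I.comap a).subscheme ≅ pullback b I.subschemeι,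
      φ₂.hom ≫ pullback.fst b I.subschemeι = (I.comap a).subschemeι := by
    rw [h]
    exact ⟨I.comapIso b, Scheme.IdealSheafData.comapIso_hom_fst I b⟩
  refine ⟨(I.comapIso a).symm ≪≫ φ₂, ?_⟩
  rw [Iso.trans_hom, Iso.symm_hom, Category.assoc, h₂,
    Scheme.IdealSheafData.comapIso_inv_subschemeι]

end general

section groupoid

variable {S : Scheme.{u}} (G : Grpd.GroupoidScheme S) [IsFinite G.s]

/-- the Fitting ideal sheaves of `s_* O_R` are `R`-invariant -/
theorem comap_s_eq_comap_t (k : ℕ) : (fitt G.s k).comap G.s = (fitt G.s k).comap G.t := by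
  rw [fitt_comap_of_isPullback G.s (Groth.Agent.S1880.isPullback_c G) k,
    fitt_comap_of_isPullback G.s (IsPullback.of_hasPullback G.s G.t) k]

end groupoid

end Groth.Agent.Lib.T2H7.GrpdFitt
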