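import Mathlib
import Groth.Prelude.Def_Grpd
import Groth.Agent.Lib.T2H7GrpdFitt
import Groth.Agent.Lib.T2H7GrpdInv

/-!
# Set-level construction of the invariant strata of a groupoid with finite source and target
(helper7)
-/

set_option autoImplicit false
set_option linter.style.haveILetI false
set_option linter.unusedSectionVars false
set_option backward.isDefEq.respectTransparency false
universe u
open CategoryTheory AlgebraicGeometry Limits Opposite TopologicalSpace

namespace Groth.Agent.Lib.T2H7.GrpdStrat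

open Groth.Agent.Lib.T2H7.FinFitt Groth.Agent.Lib.T2H7.GrpdFitt Groth.Agent.Lib.T2H7.GrpdInv

variable {S : Scheme.{u}} (G : Grpd.GroupoidScheme S)

/-- `R`-invariant subsets of `U` -/
def IsInv (D : Set G.U) : Prop := ∀ r : G.R, G.s r ∈ D ↔ G.t r ∈ D

/-- the saturation `t(s⁻¹ C)` -/
def sat (C : Set G.U) : Set G.U := G.t '' (G.s ⁻¹' C)

variable {G}

theorem isInv_sat (C : Set G.U) : IsInv G (sat G C) := by
  intro r
  constructor
  · rintro ⟨ρ, hρ, hρr⟩
    -- s r = t ρ, s ρ ∈ C; r ∘ ρ has source s ρ and target t r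
    obtain ⟨r'', h1, h2⟩ := exists_comp G r ρ hρr.symm
    exact ⟨r'', by rw [Set.mem_preimage, h1]; exact hρ, h2⟩
  · rintro ⟨ρ, hρ, hρr⟩
    -- t r = t ρ, s ρ ∈ C; r⁻¹ ∘ ρ has source s ρ and target s r
    obtain ⟨r'', h1, h2⟩ := exists_comp G (G.i r) ρ (by rw [s_i, hρr])
    exact ⟨r'', by rw [Set.mem_preimage, h1]; exact hρ, by rw [h2, t_i]⟩

theorem subset_sat (C : Set G.U) : C ⊆ sat G C := fun u hu =>
  ⟨G.e u, by rw [Set.mem_preimage, s_e]; exact hu, t_e G u⟩

theorem isClosed_sat [IsFinite G.t] {C : Set G.U} (hC : IsClosed C) : IsClosed (sat G C) :=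
  G.t.isClosedMap _ (hC.preimage G.s.continuous)

theorem IsInv.union {D D' : Set G.U} (h : IsInv G D) (h' : IsInv G D') : IsInv G (D ∪ D') :=
  fun r => or_congr (h r) (h' r)

theorem IsInv.compl {D : Set G.U} (h : IsInv G D) : IsInv G Dᶜ :=
  fun r => not_congr (h r)

theorem isInv_empty : IsInv G (∅ : Set G.U) := fun _ => Iff.rfl

theorem isInv_iUnion {ι : Sort*} {D : ι → Set G.U} (h : ∀ i, IsInv G (D i)) :
    IsInv G (⋃ i, D i) := by
  intro r
  simp only [Set.mem_iUnion]
  exact exists_congr fun i => h i r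

variable (G) [IsFinite G.s]

/-- the closed strata: supports of the Fitting ideal sheaves -/
def Zs (k : ℕ) : Set G.U := ((fitt G.s k).support : Set G.U)

variable {G}

theorem isClosed_Zs (k : ℕ) : IsClosed (Zs G k) := (fitt G.s k).support.isClosed

theorem isInv_Zs (k : ℕ) : IsInv G (Zs G k) := by
  intro r
  have h := congrArg (fun I : G.R.IdealSheafData => (r ∈ (I.support : Set G.R)))
    (comap_s_eq_comap_t G k)
  simp only [Scheme.IdealSheafData.support_comap] at h
  exact Iff.of_eq h

theorem Zs_anti {k k' : ℕ} (h : k ≤ k') : Zs G k' ⊆ Zs G k :=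
  Scheme.IdealSheafData.support_antitone (fitt_mono' G.s h)

theorem Zs_zero : Zs G 0 = Set.univ := by
  unfold Zs
  rw [fitt_zero_of_section G.s G.e G.e_s, Scheme.IdealSheafData.support_bot]
  rfl

theorem exists_notMem_Zs (u : G.U) : ∃ n : ℕ, u ∉ Zs G n := exists_notMem_support G.s u

variable (G)

/-- the closed invariant sets `A n` swept out by the closures of the earlier strata -/
noncomputable def A : ℕ → Set G.U
  | 0 => ∅
  | n + 1 => A n ∪ sat G (closure ((A n ∪ Zs G (n + 1))ᶜ))

/-- the `n`-th open stratum (where the rank is `n + 1`) -/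
def Wn (n : ℕ) : Set G.U := (A G n ∪ Zs G (n + 1))ᶜ

variable {G}

theorem A_zero : A G 0 = ∅ := rfl

theorem A_succ (n : ℕ) : A G (n + 1) = A G n ∪ sat G (closure (Wn G n)) := rfl

theorem isInv_A (n : ℕ) : IsInv G (A G n) := by
  induction n with
  | zero => exact isInv_empty
  | succ n ih => rw [A_succ]; exact ih.union (isInv_sat _)

theorem isClosed_A [IsFinite G.t] (n : ℕ) : IsClosed (A G n) := by
  induction n with
  | zero => rw [A_zero]; exact isClosed_empty
  | succ n ih => rw [A_succ]; exact ih.union (isClosed_sat isClosed_closure)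

theorem A_mono {m n : ℕ} (h : m ≤ n) : A G m ⊆ A G n := by
  induction h with
  | refl => exact le_rfl
  | step _ ih => exact ih.trans (by rw [A_succ]; exact Set.subset_union_left)

theorem isOpen_Wn [IsFinite G.t] (n : ℕ) : IsOpen (Wn G n) :=
  ((isClosed_A n).union (isClosed_Zs (n + 1))).isOpen_compl

theorem isInv_Wn (n : ℕ) : IsInv G (Wn G n) :=
  ((isInv_A n).union (isInv_Zs (n + 1))).compl

theorem Wn_subset_A_succ (n : ℕ) : Wn G n ⊆ A G (n + 1) := by
  rw [A_succ]
  exact fun u hu => Or.inr (subset_sat _ (subset_closure hu))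

theorem compl_Zs_subset_A (n : ℕ) : (Zs G n)ᶜ ⊆ A G n := by
  induction n with
  | zero => rw [Zs_zero, Set.compl_univ]; exact Set.empty_subset _
  | succ n ih =>
    intro u hu
    by_cases hA : u ∈ A G n
    · exact A_mono (Nat.le_succ n) hA
    · refine Wn_subset_A_succ n ?_
      change u ∉ A G n ∪ Zs G (n + 1)
      rintro (h | h)
      · exact hA h
      · exact hu h

theorem Wn_subset_Zs (n : ℕ) : Wn G n ⊆ Zs G n := by
  intro u hu
  by_contra h
  exact hu (Or.inl (compl_Zs_subset_A n h))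

theorem Wn_disjoint_Zs_succ (n : ℕ) (u : G.U) (hu : u ∈ Wn G n) : u ∉ Zs G (n + 1) :=
  fun h => hu (Or.inr h)

theorem Wn_disjoint_of_lt {m n : ℕ} (h : m < n) : Disjoint (Wn G m) (Wn G n) := by
  rw [Set.disjoint_left]
  intro u hm hn
  exact hn (Or.inl (A_mono h (Wn_subset_A_succ m hm)))

theorem Wn_disjoint {m n : ℕ} (h : m ≠ n) : Disjoint (Wn G m) (Wn G n) := by
  rcases lt_or_gt_of_ne h with h | h
  · exact Wn_disjoint_of_lt h
  · exact (Wn_disjoint_of_lt h).symm

/-- every point of `A n` is a translate of a point in the closure of the union of the strata -/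
theorem exists_of_mem_A (n : ℕ) (u : G.U) (hu : u ∈ A G n) :
    ∃ r : G.R, G.t r = u ∧ G.s r ∈ closure (⋃ m, Wn G m) := by
  induction n with
  | zero => exact hu.elim
  | succ n ih =>
    rw [A_succ] at hu
    rcases hu with hu | ⟨r, hr, hru⟩
    · exact ih hu
    · exact ⟨r, hru, closure_mono (Set.subset_iUnion (Wn G) n) hr⟩

theorem exists_translate (u : G.U) :
    ∃ r : G.R, G.t r = u ∧ G.s r ∈ closure (⋃ m, Wn G m) := by
  obtain ⟨n, hn⟩ := exists_notMem_Zs u
  exact exists_of_mem_A n u (compl_Zs_subset_A n hn)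

end Groth.Agent.Lib.T2H7.GrpdStrat
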