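import Mathlib
import Groth.Prelude.Def_Grpd
import Groth.Agent.Lib.T2H7GrpdStrat
import Groth.Agent.Lib.T2H7IdealGlue
import Groth.Agent.Lib.T2H7GrpdRes
import Groth.Agent.S7461

/-!
# Invariant thickenings over which a groupoid with finite source and target becomes finite locally
free (helper7)
-/

set_option autoImplicit false
set_option linter.style.haveILetI false
set_option linter.unusedSectionVars false
set_option backward.isDefEq.respectTransparency false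
universe u
open CategoryTheory AlgebraicGeometry Limits Opposite TopologicalSpace

namespace Groth.Agent.Lib.T2H7.GrpdThick

open Groth.Agent.Lib.T2H7.FinFitt Groth.Agent.Lib.T2H7.GrpdFitt Groth.Agent.Lib.T2H7.GrpdInv
  Groth.Agent.Lib.T2H7.GrpdStrat Groth.Agent.Lib.T2H7.IdealGlue Groth.Agent.Lib.T2H7.GrpdRes
  Groth.Agent.Lib.T2H6.FittStratum

section general

variable {X Y : Scheme.{u}} (f : X ⟶ Y) [IsFinite f]

theorem isFinLocFreeOfDeg_of_isPullback {X' T : Scheme.{u}} {g' : X' ⟶ X} {f' : X' ⟶ T}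
    {h : T ⟶ Y} (H : IsPullback g' f' f h) (d : ℕ)
    (h1 : ∀ k, k < d → (fitt f k).comap h = ⊥) (h2 : (fitt f d).comap h = ⊤) :
    Mor2.IsFinLocFreeOfDeg d f' := by
  haveI : IsFinite f' := isFinite_of_isPullback f H
  refine isFinLocFreeOfDeg_of_fitt f' d (fun k hk => ?_) ?_
  · rw [← fitt_comap_of_isPullback f H k, h1 k hk]
  · rw [← fitt_comap_of_isPullback f H d, h2]

end general

variable {S : Scheme.{u}} (G : Grpd.GroupoidScheme S) [IsFinite G.s]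

/-- an invariant open `W`, covered by invariant opens `Wo n` on which the rank is `n + 1`, with an
ideal sheaf on `W` restricting to the `n`-th Fitting ideal on `Wo n` -/
structure Data where
  W : G.U.Opens
  Wo : ℕ → G.U.Opens
  hWo : ∀ n, Wo n ≤ W
  hcov : ∀ u ∈ W, ∃ n, u ∈ Wo n
  hZ : ∀ n u, u ∈ Wo n → u ∈ Zs G n ∧ u ∉ Zs G (n + 1)
  hinv : ∀ n, IsInv G (Wo n : Set G.U)
  J : W.toScheme.IdealSheafData
  hJ : ∀ n, J.comap (W.ι ⁻¹ᵁ Wo n).ι = (fitt G.s n).comap ((W.ι ⁻¹ᵁ Wo n).ι ≫ W.ι)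

namespace Data

variable {G} (𝒟 : Data G)

/-- the opens of the scheme `W` -/
abbrev D (n : ℕ) : 𝒟.W.toScheme.Opens := 𝒟.W.ι ⁻¹ᵁ 𝒟.Wo n

theorem iSup_D : ⨆ n, 𝒟.D n = ⊤ := by
  rw [eq_top_iff]
  intro x _
  obtain ⟨n, hn⟩ := 𝒟.hcov (𝒟.W.ι x) x.2
  exact Opens.mem_iSup.2 ⟨n, hn⟩

/-- key property: on morphisms landing in `D n`, pulling back `J` is pulling back the `n`-th
Fitting ideal sheaf -/
theorem comap_J {T : Scheme.{u}} (b : T ⟶ 𝒟.W.toScheme) (n : ℕ) (hb : ∀ x : T, b x ∈ 𝒟.D n) :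
    𝒟.J.comap b = (fitt G.s n).comap (b ≫ 𝒟.W.ι) := by
  let a : T ⟶ (𝒟.D n).toScheme := IsOpenImmersion.lift (𝒟.D n).ι b (by
    rintro _ ⟨x, rfl⟩
    rw [Scheme.Opens.range_ι]
    exact hb x)
  have ha : a ≫ (𝒟.D n).ι = b := IsOpenImmersion.lift_fac _ _ _
  rw [← ha, Scheme.IdealSheafData.comap_comp, 𝒟.hJ n, ← Scheme.IdealSheafData.comap_comp,
    Category.assoc]

theorem support_J : 𝒟.J.support = ⊤ := by
  ext x
  simp only [Closeds.coe_top, Set.mem_univ, iff_true]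
  obtain ⟨n, hn⟩ := 𝒟.hcov (𝒟.W.ι x) x.2
  have h1 := 𝒟.hJ n
  have h2 : (⟨x, hn⟩ : (𝒟.D n).toScheme) ∈
      (((fitt G.s n).comap ((𝒟.D n).ι ≫ 𝒟.W.ι)).support : Set (𝒟.D n).toScheme) := by
    rw [Scheme.IdealSheafData.support_comap]
    exact (𝒟.hZ n _ hn).1
  rw [← h1, Scheme.IdealSheafData.support_comap] at h2
  exact h2

/-- the opens of the thickening `W'` lying over the `D n` -/
noncomputable abbrev T (n : ℕ) : 𝒟.J.subscheme.Opens := 𝒟.J.subschemeι ⁻¹ᵁ 𝒟.D n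

theorem iSup_T : ⨆ n, 𝒟.T n = ⊤ := by
  rw [eq_top_iff]
  intro x _
  have hx : 𝒟.J.subschemeι x ∈ ⨆ n, 𝒟.D n := by rw [𝒟.iSup_D]; trivial
  obtain ⟨n, hn⟩ := Opens.mem_iSup.1 hx
  exact Opens.mem_iSup.2 ⟨n, hn⟩

theorem T_ι_mem (n : ℕ) (x : (𝒟.T n).toScheme) : ((𝒟.T n).ι ≫ 𝒟.J.subschemeι) x ∈ 𝒟.D n := by
  rw [Scheme.Hom.comp_apply]
  exact x.2

/-- any base change of `s` to the thickening is finite locally free -/
theorem isFinLocFree_of_isPullback {P : Scheme.{u}} {g' : P ⟶ G.R} {f' : P ⟶ 𝒟.J.subscheme}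
    (H : IsPullback g' f' G.s (𝒟.J.subschemeι ≫ 𝒟.W.ι)) : Mor2.IsFinLocFree f' := by
  haveI : IsFinite f' := isFinite_of_isPullback G.s H
  have key : ∀ n, Mor2.IsFinLocFreeOfDeg (n + 1) (f' ∣_ 𝒟.T n) := by
    intro n
    have H2 := ((isPullback_morphismRestrict f' (𝒟.T n)).flip).paste_horiz H
    have hb := 𝒟.comap_J ((𝒟.T n).ι ≫ 𝒟.J.subschemeι) n (𝒟.T_ι_mem n)
    rw [Category.assoc] at hb
    refine isFinLocFreeOfDeg_of_isPullback G.s H2 (n + 1) ?_ ?_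
    · intro k hk
      rw [← le_bot_iff]
      refine le_trans (Scheme.IdealSheafData.comap_mono _
        (fitt_mono' G.s (Nat.lt_succ_iff.1 hk))) ?_
      beta_reduce
      rw [← hb, Scheme.IdealSheafData.comap_comp, comap_subschemeι_self,
        Scheme.IdealSheafData.comap_bot]
    · rw [comap_eq_top_iff]
      intro x
      have h3 := 𝒟.T_ι_mem n x
      have h4 := (𝒟.hZ n _ h3).2
      rw [← Category.assoc, Scheme.Hom.comp_apply]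
      exact h4
  refine ⟨inferInstance, ?_, ?_⟩
  · exact IsZariskiLocalAtTarget.of_iSup_eq_top (P := @Flat) 𝒟.T 𝒟.iSup_T
      (fun n => (key n).1.2.1)
  · exact IsZariskiLocalAtTarget.of_iSup_eq_top (P := @LocallyOfFinitePresentation) 𝒟.T 𝒟.iSup_T
      (fun n => (key n).1.2.2)

theorem isFinLocFree_snd_s :
    Mor2.IsFinLocFree (pullback.snd G.s (𝒟.J.subschemeι ≫ 𝒟.W.ι)) :=
  𝒟.isFinLocFree_of_isPullback (IsPullback.of_hasPullback _ _)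

theorem isFinLocFree_snd_t :
    Mor2.IsFinLocFree (pullback.snd G.t (𝒟.J.subschemeι ≫ 𝒟.W.ι)) := by
  have H₀ := IsPullback.of_hasPullback G.t (𝒟.J.subschemeι ≫ 𝒟.W.ι)
  refine 𝒟.isFinLocFree_of_isPullback (g' := pullback.fst G.t (𝒟.J.subschemeι ≫ 𝒟.W.ι) ≫ G.i) ?_
  refine IsPullback.of_iso H₀ (Iso.refl _) (asIso G.i) (Iso.refl _) (Iso.refl _) ?_ ?_ ?_ ?_
  · simp
  · simp
  · simp [G.i_s]
  · simp

theorem hW : G.s ⁻¹ᵁ 𝒟.W = G.t ⁻¹ᵁ 𝒟.W := by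
  ext r
  constructor
  · intro hr
    obtain ⟨n, hn⟩ := 𝒟.hcov (G.s r) hr
    exact 𝒟.hWo n ((𝒟.hinv n r).1 hn)
  · intro hr
    obtain ⟨n, hn⟩ := 𝒟.hcov (G.t r) hr
    exact 𝒟.hWo n ((𝒟.hinv n r).2 hn)

/-- the pulled back ideal sheaves along the restricted source and target maps agree -/
theorem comap_sW_eq_comap_tW :
    𝒟.J.comap (G.s ∣_ 𝒟.W) = 𝒟.J.comap (tW G 𝒟.W 𝒟.hW) := by
  let Rn : ℕ → (G.s ⁻¹ᵁ 𝒟.W).toScheme.Opens := fun n => (G.s ∣_ 𝒟.W) ⁻¹ᵁ 𝒟.D n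
  have hRn : ⨆ n, Rn n = ⊤ := by
    rw [eq_top_iff]
    intro x _
    have hx : (G.s ∣_ 𝒟.W) x ∈ ⨆ n, 𝒟.D n := by rw [𝒟.iSup_D]; trivial
    obtain ⟨n, hn⟩ := Opens.mem_iSup.1 hx
    exact Opens.mem_iSup.2 ⟨n, hn⟩
  refine eq_of_comap_eq Rn hRn _ _ (fun n => ?_)
  have hs : ∀ x : (Rn n).toScheme, ((Rn n).ι ≫ (G.s ∣_ 𝒟.W)) x ∈ 𝒟.D n := by
    intro x
    rw [Scheme.Hom.comp_apply]
    exact x.2
  have ht : ∀ x : (Rn n).toScheme, ((Rn n).ι ≫ tW G 𝒟.W 𝒟.hW) x ∈ 𝒟.D n := by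
    intro x
    have h1 : 𝒟.W.ι ((G.s ∣_ 𝒟.W) ((Rn n).ι x)) ∈ 𝒟.Wo n := x.2
    have h2 : 𝒟.W.ι ((G.s ∣_ 𝒟.W) ((Rn n).ι x)) = G.s ((G.s ⁻¹ᵁ 𝒟.W).ι ((Rn n).ι x)) := by
      rw [← Scheme.Hom.comp_apply, morphismRestrict_ι, Scheme.Hom.comp_apply]
    have h3 : 𝒟.W.ι ((tW G 𝒟.W 𝒟.hW) ((Rn n).ι x)) = G.t ((G.s ⁻¹ᵁ 𝒟.W).ι ((Rn n).ι x)) := by
      rw [← Scheme.Hom.comp_apply, tW_ι, Scheme.Hom.comp_apply]
    rw [h2] at h1
    have h4 := (𝒟.hinv n _).1 h1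
    rw [← h3] at h4
    rw [Scheme.Hom.comp_apply]
    exact h4
  rw [← Scheme.IdealSheafData.comap_comp, ← Scheme.IdealSheafData.comap_comp,
    𝒟.comap_J _ n hs, 𝒟.comap_J _ n ht, Category.assoc, Category.assoc, morphismRestrict_ι, tW_ι,
    ← Category.assoc, ← Category.assoc, Scheme.IdealSheafData.comap_comp,
    Scheme.IdealSheafData.comap_comp _ _ G.t, comap_s_eq_comap_t]

/-- `R`-invariance of the thickening -/
theorem exists_phi :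
    ∃ φ : pullback G.s (𝒟.J.subschemeι ≫ 𝒟.W.ι) ≅ pullback G.t (𝒟.J.subschemeι ≫ 𝒟.W.ι),
      φ.hom ≫ pullback.fst G.t (𝒟.J.subschemeι ≫ 𝒟.W.ι) =
        pullback.fst G.s (𝒟.J.subschemeι ≫ 𝒟.W.ι) := by
  obtain ⟨φ₀, hφ₀⟩ := exists_iso_of_comap_eq 𝒟.J (G.s ∣_ 𝒟.W) (tW G 𝒟.W 𝒟.hW)
    𝒟.comap_sW_eq_comap_tW
  have Hs : IsPullback (pullback.fst (G.s ∣_ 𝒟.W) 𝒟.J.subschemeι ≫ (G.s ⁻¹ᵁ 𝒟.W).ι)
      (pullback.snd (G.s ∣_ 𝒟.W) 𝒟.J.subschemeι) G.s (𝒟.J.subschemeι ≫ 𝒟.W.ι) :=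
    (IsPullback.of_hasPullback (G.s ∣_ 𝒟.W) 𝒟.J.subschemeι).paste_horiz
      (isPullback_morphismRestrict G.s 𝒟.W).flip
  have Ht0 : IsPullback (tW G 𝒟.W 𝒟.hW) (G.s ⁻¹ᵁ 𝒟.W).ι 𝒟.W.ι G.t :=
    IsOpenImmersion.isPullback _ _ _ _ (tW_ι G 𝒟.W 𝒟.hW).symm (by
      rw [Scheme.Opens.opensRange_ι, Scheme.Opens.opensRange_ι, 𝒟.hW])
  have Ht : IsPullback (pullback.fst (tW G 𝒟.W 𝒟.hW) 𝒟.J.subschemeι ≫ (G.s ⁻¹ᵁ 𝒟.W).ι)
      (pullback.snd (tW G 𝒟.W 𝒟.hW) 𝒟.J.subschemeι) G.t (𝒟.J.subschemeι ≫ 𝒟.W.ι) :=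
    (IsPullback.of_hasPullback (tW G 𝒟.W 𝒟.hW) 𝒟.J.subschemeι).paste_horiz Ht0.flip
  refine ⟨Hs.isoPullback.symm ≪≫ φ₀ ≪≫ Ht.isoPullback, ?_⟩
  simp only [Iso.trans_hom, Iso.symm_hom, Category.assoc]
  rw [Ht.isoPullback_hom_fst, ← Category.assoc φ₀.hom, hφ₀, Iso.inv_comp_eq,
    Hs.isoPullback_hom_fst]

end Data

section construct

variable [IsFinite G.t]

/-- the open strata as opens -/
noncomputable def Wo (n : ℕ) : G.U.Opens := ⟨Wn G n, isOpen_Wn n⟩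

/-- the union of the open strata -/
noncomputable def Wtot : G.U.Opens := ⨆ n, Wo G n

theorem coe_Wtot : ((Wtot G : G.U.Opens) : Set G.U) = ⋃ n, Wn G n := by
  unfold Wtot
  rw [Opens.coe_iSup]
  rfl

/-- the strata as opens of the scheme `Wtot` -/
noncomputable abbrev Dn (n : ℕ) : (Wtot G).toScheme.Opens := (Wtot G).ι ⁻¹ᵁ Wo G n

theorem Dn_disjoint (m n : ℕ) (h : m ≠ n) : Disjoint (Dn G m) (Dn G n) := by
  rw [disjoint_iff, eq_bot_iff]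
  intro x hx
  exact (Set.disjoint_left.1 (Wn_disjoint (G := G) h) hx.1 hx.2).elim

theorem iSup_Dn : ⨆ n, Dn G n = ⊤ := by
  rw [eq_top_iff]
  intro x _
  have hx : (Wtot G).ι x ∈ ⨆ n, Wo G n := x.2
  obtain ⟨n, hn⟩ := Opens.mem_iSup.1 hx
  exact Opens.mem_iSup.2 ⟨n, hn⟩

/-- the data of the invariant thickening -/
noncomputable def data : Data G where
  W := Wtot G
  Wo := Wo G
  hWo n := le_iSup (Wo G) n
  hcov u hu := Opens.mem_iSup.1 hu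
  hZ n u hu := ⟨Wn_subset_Zs n hu, Wn_disjoint_Zs_succ n u hu⟩
  hinv n := isInv_Wn n
  J := glue (Dn G) (fun n => (fitt G.s n).comap (Wtot G).ι)
  hJ n := by
    rw [glue_comap _ (Dn_disjoint G) (iSup_Dn G) n, Scheme.IdealSheafData.comap_comp]

end construct

end Groth.Agent.Lib.T2H7.GrpdThick
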