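import Mathlib
import Groth.Prelude.Def_Grpd
import Groth.Agent.Lib.T2H7GrpdThick
import Groth.Agent.Lib.Helper22FTLimit

/-!
# Invariant thickenings: the finitely presented case (helper7)
-/

set_option autoImplicit false
set_option linter.style.haveILetI false
set_option linter.unusedSectionVars false
set_option backward.isDefEq.respectTransparency false
universe u
open CategoryTheory AlgebraicGeometry Limits Opposite TopologicalSpace

namespace Groth.Agent.Lib.T2H7.GrpdThick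

open Groth.Agent.Lib.T2H7.FinFitt Groth.Agent.Lib.T2H7.GrpdFitt Groth.Agent.Lib.T2H7.GrpdInv
  Groth.Agent.Lib.T2H7.GrpdStrat Groth.Agent.Lib.T2H7.IdealGlue Groth.Agent.Lib.T2H7.GrpdRes
  Groth.Agent.Lib.T2H6.FittStratum Groth.Agent.Lib.Helper22.FTIdeal Groth.Agent.Lib.Helper22.FTLimit
  Groth.Agent.Helper18Fitt

section general

/-- the Fitting ideal sheaves of a finite, finitely presented morphism are of finite type -/
theorem ft_fitt {X Y : Scheme.{u}} (f : X ⟶ Y) [IsFinite f] [LocallyOfFinitePresentation f]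
    (k : ℕ) : FT (fitt f k) := by
  intro V
  rw [fitt_ideal]
  letI : Algebra Γ(Y, V.1) Γ(X, f ⁻¹ᵁ V.1) := (f.app V.1).hom.toAlgebra
  haveI : Module.Finite Γ(Y, V.1) Γ(X, f ⁻¹ᵁ V.1) := IsFinite.finite_app f V.1 V.2
  haveI : Algebra.FinitePresentation Γ(Y, V.1) Γ(X, f ⁻¹ᵁ V.1) := by
    have := f.finitePresentation_appLE V.2 (V.2.preimage f) le_rfl
    rwa [Scheme.Hom.appLE_eq_app] at this
  exact fitt_fg_of_fp (Module.FinitePresentation.of_finite_of_finitePresentation _ _) k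

/-- for an ideal sheaf of finite type, every point in the closure of the complement of the support
is a specialization of a point of the complement -/
theorem exists_specializes_of_mem_closure {X : Scheme.{u}} (I : X.IdealSheafData) (hI : FT I)
    (y : X) (hy : y ∈ closure ((I.support : Set X)ᶜ)) : ∃ x : X, x ∉ I.support ∧ x ⤳ y := by
  obtain ⟨V, hV, hyV, -⟩ := exists_isAffineOpen_mem_and_subset (x := y) (U := ⊤) trivial
  obtain ⟨F, hF⟩ : ∃ F : Finset Γ(X, V), Ideal.span (F : Set Γ(X, V)) = I.ideal ⟨V, hV⟩ :=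
    hI ⟨V, hV⟩
  have hsub : (I.support : Set X)ᶜ ∩ V ⊆ ⋃ f ∈ F, (X.basicOpen f : Set X) := by
    rintro x ⟨hx1, hx2⟩
    have h1 : x ∉ X.zeroLocus (U := V) (I.ideal ⟨V, hV⟩) := fun h =>
      hx1 ((Scheme.IdealSheafData.mem_support_iff_of_mem (U := ⟨V, hV⟩) hx2).2 h)
    rw [← hF, Scheme.zeroLocus_span, Scheme.mem_zeroLocus_iff] at h1
    simp only [not_forall, not_not] at h1
    obtain ⟨f, hf, hxf⟩ := h1
    exact Set.mem_iUnion₂.2 ⟨f, hf, hxf⟩
  have hy2 : y ∈ closure ((I.support : Set X)ᶜ ∩ V) := by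
    rw [mem_closure_iff_nhds] at hy ⊢
    intro N hN
    obtain ⟨z, hz1, hz2⟩ := hy (N ∩ V) (Filter.inter_mem hN (V.isOpen.mem_nhds hyV))
    exact ⟨z, hz1.1, hz2, hz1.2⟩
  have hy3 : y ∈ closure (⋃ f ∈ F, (X.basicOpen f : Set X)) := closure_mono hsub hy2
  rw [F.closure_biUnion] at hy3
  obtain ⟨f, hfF, hyf⟩ := Set.mem_iUnion₂.1 hy3
  have hfI : f ∈ I.ideal ⟨V, hV⟩ := by rw [← hF]; exact Ideal.subset_span hfF
  -- the prime of `y`
  let p := hV.primeIdealOf ⟨y, hyV⟩
  have hp : hV.fromSpec p = y := hV.fromSpec_primeIdealOf ⟨y, hyV⟩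
  have hmem : ∀ (a : Γ(X, V)) (q : PrimeSpectrum Γ(X, V)),
      hV.fromSpec q ∈ X.basicOpen a ↔ a ∉ q.asIdeal := by
    intro a q
    have h1 : hV.fromSpec q ∈ X.basicOpen a ↔ q ∈ hV.fromSpec ⁻¹ᵁ X.basicOpen a := Iff.rfl
    rw [h1, hV.fromSpec_preimage_basicOpen]
    rfl
  have hker : (⊥ : Ideal (Localization.Away f)).comap (algebraMap Γ(X, V) (Localization.Away f)) ≤
      p.asIdeal := by
    intro a ha
    rw [Ideal.mem_comap, Ideal.mem_bot] at ha
    obtain ⟨⟨_, N, rfl⟩, hN⟩ := (IsLocalization.map_eq_zero_iff (Submonoid.powers f) _ a).1 ha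
    by_contra hap
    have hya : y ∈ X.basicOpen a := by rw [← hp, hmem]; exact hap
    rw [mem_closure_iff] at hyf
    obtain ⟨z, hz1, hz2⟩ := hyf _ (X.basicOpen a).isOpen hya
    have hz : z ∈ X.basicOpen (f ^ (N + 1) * a) := by
      rw [Scheme.basicOpen_mul, X.basicOpen_pow f (Nat.succ_pos N)]
      exact ⟨hz2, hz1⟩
    have h0 : f ^ (N + 1) * a = 0 := by
      have : f ^ N * a = 0 := hN
      rw [pow_succ, mul_assoc, mul_comm f a, ← mul_assoc, this, zero_mul]
    rw [h0, Scheme.basicOpen_zero] at hz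
    exact hz
  obtain ⟨Q, -, hQ, hQp⟩ := Ideal.exists_ideal_comap_le_prime p.asIdeal
    (⊥ : Ideal (Localization.Away f)) hker
  let q₀ : PrimeSpectrum Γ(X, V) := ⟨Q.comap (algebraMap Γ(X, V) (Localization.Away f)), inferInstance⟩
  have hfq : f ∉ q₀.asIdeal := by
    intro hf
    have : algebraMap Γ(X, V) (Localization.Away f) f ∈ Q := hf
    exact hQ.ne_top (Ideal.eq_top_of_isUnit_mem _ this (IsLocalization.Away.algebraMap_isUnit f))
  refine ⟨hV.fromSpec q₀, ?_, ?_⟩
  · intro hx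
    have hx2 : hV.fromSpec q₀ ∈ V := by
      have := Set.mem_range_self (f := hV.fromSpec) q₀
      rwa [hV.range_fromSpec] at this
    have h1 := (Scheme.IdealSheafData.mem_support_iff_of_mem (U := ⟨V, hV⟩) hx2).1 hx
    rw [Scheme.mem_zeroLocus_iff] at h1
    exact h1 f hfI ((hmem f q₀).2 hfq)
  · rw [← hp]
    exact ((PrimeSpectrum.le_iff_specializes q₀ p).1 hQp).map hV.fromSpec.continuous

end general

variable {S : Scheme.{u}} {G : Grpd.GroupoidScheme S} [IsFinite G.s]

/-- in the finitely presented case the thickening is of finite presentation -/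
theorem Data.lfp_subschemeι [LocallyOfFinitePresentation G.s] (𝒟 : Data G) :
    LocallyOfFinitePresentation 𝒟.J.subschemeι := by
  refine IsZariskiLocalAtTarget.of_iSup_eq_top (P := @LocallyOfFinitePresentation) 𝒟.D 𝒟.iSup_D
    (fun n => ?_)
  have h0 : LocallyOfFinitePresentation (fitt G.s n).subschemeι :=
    locallyOfFinitePresentation_subschemeι _ (ft_fitt G.s n)
  have h1 : LocallyOfFinitePresentation
      (pullback.fst ((𝒟.D n).ι ≫ 𝒟.W.ι) (fitt G.s n).subschemeι) :=
    MorphismProperty.pullback_fst _ _ h0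
  have h2 : LocallyOfFinitePresentation ((fitt G.s n).comap ((𝒟.D n).ι ≫ 𝒟.W.ι)).subschemeι := by
    rw [← Scheme.IdealSheafData.comapIso_hom_fst]
    infer_instance
  have h3 : ∀ K : (𝒟.D n).toScheme.IdealSheafData,
      K = (fitt G.s n).comap ((𝒟.D n).ι ≫ 𝒟.W.ι) → LocallyOfFinitePresentation K.subschemeι := by
    rintro K rfl
    exact h2
  have h4 : LocallyOfFinitePresentation (pullback.fst (𝒟.D n).ι 𝒟.J.subschemeι) := by
    haveI := h3 _ (𝒟.hJ n)
    rw [← Scheme.IdealSheafData.comapIso_inv_subschemeι]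
    infer_instance
  have H := isPullback_morphismRestrict 𝒟.J.subschemeι (𝒟.D n)
  rw [← H.isoPullback_hom_fst]
  infer_instance

theorem exists_of_mem_A' (n : ℕ) (u : G.U) (hu : u ∈ A G n) :
    ∃ k, k < n ∧ ∃ r : G.R, G.t r = u ∧ G.s r ∈ closure (Wn G k) := by
  induction n with
  | zero => exact hu.elim
  | succ n ih =>
    rw [A_succ] at hu
    rcases hu with hu | ⟨r, hr, hru⟩
    · obtain ⟨k, hk, h⟩ := ih hu
      exact ⟨k, Nat.lt_succ_of_lt hk, h⟩
    · exact ⟨n, Nat.lt_succ_self n, r, hru, hr⟩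

/-- points all of whose translates are generic points lie in the union of the open strata -/
theorem mem_Wtot_of_generic [IsFinite G.t] [LocallyOfFinitePresentation G.s] (u : G.U)
    (hu : ∀ r : G.R, G.s r = u → ∀ x : G.U, x ⤳ G.t r → x = G.t r) : u ∈ Wtot G := by
  classical
  have hex := exists_notMem_Zs (G := G) u
  have hm : u ∉ Zs G (Nat.find hex) := Nat.find_spec hex
  have hm0 : Nat.find hex ≠ 0 := by
    intro h
    rw [h, Zs_zero] at hm
    exact hm trivial
  obtain ⟨n, hn⟩ : ∃ n, Nat.find hex = n + 1 := Nat.exists_eq_succ_of_ne_zero hm0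
  have hun : u ∈ Zs G n := by
    by_contra h
    exact Nat.find_min hex (by omega : n < Nat.find hex) h
  rw [hn] at hm
  suffices h : u ∈ Wn G n from Opens.mem_iSup.2 ⟨n, h⟩
  rintro (hA | hZ)
  · obtain ⟨k, hk, ρ, hρ1, hρ2⟩ := exists_of_mem_A' n u hA
    have hy1 : G.s ρ ∈ Zs G n := (isInv_Zs n ρ).2 (by rw [hρ1]; exact hun)
    have hy2 : ∀ x : G.U, x ⤳ G.s ρ → x = G.s ρ := by
      have := hu (G.i ρ) (by rw [s_i, hρ1])
      rwa [t_i] at this
    have hy3 : G.s ρ ∈ closure ((Zs G n)ᶜ) := by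
      refine closure_mono ?_ hρ2
      intro w hw hwn
      exact Wn_disjoint_Zs_succ k w hw (Zs_anti (Nat.succ_le_of_lt hk) hwn)
    obtain ⟨x, hx1, hx2⟩ := exists_specializes_of_mem_closure (fitt G.s n) (ft_fitt G.s n)
      (G.s ρ) hy3
    rw [hy2 x hx2] at hx1
    exact hx1 hy1
  · exact hm hZ

end Groth.Agent.Lib.T2H7.GrpdThick
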