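import Mathlib
import Groth.Prelude.Def_Grpd
import Groth.Agent.Lib.T2H7GrpdThickB
import Groth.Agent.Lib.Helper22ThickAffine

/-!
# Invariant affine thickening neighbourhoods of finitely many generic points (helper7)

`exists_isAffineOpen_of_generic`: in a quasi-separated scheme finitely many generic points lie in a
common affine open.  `restrict`: restriction of the thickening data to an invariant open.
`isAffineOpen_core`: the norm argument producing an invariant affine open.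
`exists_invariant_affine_thickening`: the main statement.
-/

set_option autoImplicit false
set_option linter.style.haveILetI false
set_option linter.unusedSectionVars false
set_option backward.isDefEq.respectTransparency false
universe u
open CategoryTheory AlgebraicGeometry Limits Opposite TopologicalSpace

namespace Groth.Agent.Lib.T2H7.GrpdGen

section generic

/-- a point in the closure of a basic open of an affine open containing it is a specialization of
a point of the basic open -/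
theorem exists_specializes_of_mem_closure_basicOpen {X : Scheme.{u}} {V : X.Opens}
    (hV : IsAffineOpen V) (f : Γ(X, V)) (y : X) (hyV : y ∈ V)
    (hyf : y ∈ closure (X.basicOpen f : Set X)) : ∃ x : X, x ∈ X.basicOpen f ∧ x ⤳ y := by
  let p := hV.primeIdealOf ⟨y, hyV⟩
  have hp : hV.fromSpec p = y := hV.fromSpec_primeIdealOf ⟨y, hyV⟩
  have hmem : ∀ (a : Γ(X, V)) (q : PrimeSpectrum Γ(X, V)),
      hV.fromSpec q ∈ X.basicOpen a ↔ a ∉ q.asIdeal := by
    intro a q
    have h1 : hV.fromSpec q ∈ X.basicOpen a ↔ q ∈ hV.fromSpec ⁻¹ᵁ X.basicOpen a := Iff.rfl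
    rw [h1, hV.fromSpec_preimage_basicOpen]
    rfl
  have hker : (⊥ : Ideal (Localization.Away f)).comap (algebraMap Γ(X, V) (Localization.Away f)) ≤
      p.asIdeal := by
    intro a ha
    rw [Ideal.mem_comap, Ideal.mem_bot] at ha
    obtain ⟨⟨_, N, rfl⟩, hN⟩ := (IsLocalization.map_eq_zero_iff (Submonoid.powers f) _ a).1 ha
    by_contra hap
    have hya : y ∈ X.basicOpen a := by rw [← hp, hmem]; exact hap
    rw [mem_closure_iff] at hyf
    obtain ⟨z, hz1, hz2⟩ := hyf _ (X.basicOpen a).isOpen hya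
    have hz : z ∈ X.basicOpen (f ^ (N + 1) * a) := by
      rw [Scheme.basicOpen_mul, X.basicOpen_pow f (Nat.succ_pos N)]
      exact ⟨hz2, hz1⟩
    have h0 : f ^ (N + 1) * a = 0 := by
      have : f ^ N * a = 0 := hN
      rw [pow_succ, mul_assoc, mul_comm f a, ← mul_assoc, this, zero_mul]
    rw [h0, Scheme.basicOpen_zero] at hz
    exact hz
  obtain ⟨Q, -, hQ, hQp⟩ := Ideal.exists_ideal_comap_le_prime p.asIdeal
    (⊥ : Ideal (Localization.Away f)) hker
  let q₀ : PrimeSpectrum Γ(X, V) := ⟨Q.comap (algebraMap Γ(X, V) (Localization.Away f)), inferInstance⟩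
  have hfq : f ∉ q₀.asIdeal := by
    intro hf
    have : algebraMap Γ(X, V) (Localization.Away f) f ∈ Q := hf
    exact hQ.ne_top (Ideal.eq_top_of_isUnit_mem _ this (IsLocalization.Away.algebraMap_isUnit f))
  refine ⟨hV.fromSpec q₀, (hmem f q₀).2 hfq, ?_⟩
  rw [← hp]
  exact ((PrimeSpectrum.le_iff_specializes q₀ p).1 hQp).map hV.fromSpec.continuous

/-- a generic point of an affine open not in a quasi-compact open subset is not in its closure -/
theorem notMem_closure_of_generic {X : Scheme.{u}} {W₁ : X.Opens} (hW₁ : IsAffineOpen W₁)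
    (O : X.Opens) (hO : IsCompact (O : Set X)) (hOW : O ≤ W₁) (x : X) (hxW : x ∈ W₁)
    (hgen : ∀ z : X, z ⤳ x → z = x) (hxO : x ∉ O) : x ∉ closure (O : Set X) := by
  classical
  intro hx
  have hcov : ∀ z : X, z ∈ (O : Set X) → ∃ f : Γ(X, W₁), X.basicOpen f ≤ O ∧ z ∈ X.basicOpen f :=
    fun z hz => hW₁.exists_basicOpen_le (V := O) ⟨z, hz⟩ (hOW hz)
  choose! f hf1 hf2 using hcov
  obtain ⟨t, ht1, ht2⟩ := hO.elim_nhds_subcover (fun z => (X.basicOpen (f z) : Set X))
    (fun z hz => (X.basicOpen (f z)).isOpen.mem_nhds (hf2 z hz))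
  have hx2 : x ∈ closure (⋃ z ∈ t, (X.basicOpen (f z) : Set X)) := closure_mono ht2 hx
  rw [t.closure_biUnion] at hx2
  obtain ⟨z, hzt, hxz⟩ := Set.mem_iUnion₂.1 hx2
  obtain ⟨x', hx'1, hx'2⟩ := exists_specializes_of_mem_closure_basicOpen hW₁ (f z) x hxW hxz
  rw [hgen x' hx'2] at hx'1
  exact hxO (hf1 z (ht1 z hzt) hx'1)

/-- in a quasi-separated scheme, finitely many generic points lie in a common affine open -/
theorem exists_isAffineOpen_of_generic {X : Scheme.{u}} [QuasiSeparatedSpace X] (F : Finset X)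
    (hF : ∀ x ∈ F, ∀ z : X, z ⤳ x → z = x) :
    ∃ V : X.Opens, IsAffineOpen V ∧ ∀ x ∈ F, x ∈ V := by
  classical
  induction F using Finset.induction_on with
  | empty => exact ⟨⊥, isAffineOpen_bot X, fun x hx => (Finset.notMem_empty x hx).elim⟩
  | insert x F' hx ih =>
    obtain ⟨V, hV, hFV⟩ := ih (fun y hy => hF y (Finset.mem_insert_of_mem hy))
    by_cases hxV : x ∈ V
    · refine ⟨V, hV, fun y hy => ?_⟩
      rcases Finset.mem_insert.1 hy with rfl | hy
      · exact hxV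
      · exact hFV y hy
    obtain ⟨W₁, hW₁, hxW₁, -⟩ := exists_isAffineOpen_mem_and_subset (x := x) (U := ⊤) trivial
    have hOc : IsCompact ((V ⊓ W₁ : X.Opens) : Set X) :=
      QuasiSeparatedSpace.inter_isCompact _ _ V.isOpen hV.isCompact W₁.isOpen hW₁.isCompact
    have hxO : x ∉ closure ((V ⊓ W₁ : X.Opens) : Set X) :=
      notMem_closure_of_generic hW₁ (V ⊓ W₁) hOc inf_le_right x hxW₁
        (hF x (Finset.mem_insert_self x F')) (fun h => hxV h.1)
    let W₂ : X.Opens := ⟨(closure ((V ⊓ W₁ : X.Opens) : Set X))ᶜ, isClosed_closure.isOpen_compl⟩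
    obtain ⟨h, hh1, hh2⟩ := hW₁.exists_basicOpen_le (V := W₂) ⟨x, hxO⟩ hxW₁
    have hdisj : Disjoint V (X.basicOpen h) := by
      rw [disjoint_iff, eq_bot_iff]
      intro z hz
      exact (hh1 hz.2 (subset_closure ⟨hz.1, X.basicOpen_le h hz.2⟩)).elim
    refine ⟨V ⊔ X.basicOpen h, hV.sup_of_disjoint (hW₁.basicOpen h) hdisj, fun y hy => ?_⟩
    rcases Finset.mem_insert.1 hy with rfl | hy
    · exact Or.inr hh2
    · exact Or.inl (hFV y hy)

end generic


open Groth.Agent.Lib.T2H7.FinFitt Groth.Agent.Lib.T2H7.GrpdFitt Groth.Agent.Lib.T2H7.GrpdInv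
  Groth.Agent.Lib.T2H7.GrpdStrat Groth.Agent.Lib.T2H7.IdealGlue Groth.Agent.Lib.T2H7.GrpdRes
  Groth.Agent.Lib.T2H7.GrpdThick

section restrict

variable {S : Scheme.{u}} {G : Grpd.GroupoidScheme S} [IsFinite G.s]

/-- restriction of the thickening data to an invariant open subset -/
noncomputable def restrict (𝒟 : Data G) (V : G.U.Opens) (hVW : V ≤ 𝒟.W)
    (hV : IsInv G (V : Set G.U)) : Data G where
  W := V
  Wo n := 𝒟.Wo n ⊓ V
  hWo n := inf_le_right
  hcov u hu := by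
    obtain ⟨n, hn⟩ := 𝒟.hcov u (hVW hu)
    exact ⟨n, hn, hu⟩
  hZ n u hu := 𝒟.hZ n u hu.1
  hinv n r := and_congr (𝒟.hinv n r) (hV r)
  J := 𝒟.J.comap (G.U.homOfLE hVW)
  hJ n := by
    rw [← Scheme.IdealSheafData.comap_comp, 𝒟.comap_J _ n ?_, Category.assoc,
      Scheme.homOfLE_ι]
    intro x
    have h1 : V.ι ((V.ι ⁻¹ᵁ (𝒟.Wo n ⊓ V)).ι x) ∈ 𝒟.Wo n := x.2.1
    have h2 : 𝒟.W.ι ((G.U.homOfLE hVW) ((V.ι ⁻¹ᵁ (𝒟.Wo n ⊓ V)).ι x)) =
        V.ι ((V.ι ⁻¹ᵁ (𝒟.Wo n ⊓ V)).ι x) := by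
      rw [← Scheme.Hom.comp_apply, Scheme.homOfLE_ι]
    rw [Scheme.Hom.comp_apply]
    show 𝒟.W.ι _ ∈ 𝒟.Wo n
    rw [h2]
    exact h1

end restrict


section norm

variable {S : Scheme.{u}} {G : Grpd.GroupoidScheme S} [IsFinite G.s]

theorem isAffineOpen_core (𝒟 : Data G) (V₀ : G.U.Opens) (hV₀ : IsAffineOpen V₀)
    (hV₀W : V₀ ≤ 𝒟.W) (f : Γ(G.U, V₀))
    (hf : (G.U.basicOpen f : Set G.U) ⊆ core G (V₀ : Set G.U)) :
    IsAffineOpen (⟨core G (G.U.basicOpen f : Set G.U), isOpen_core G _⟩ : G.U.Opens) := by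
  set D : G.U.Opens := G.U.basicOpen f with hD
  have hDaff : IsAffineOpen D := hV₀.basicOpen f
  have hDW : D ≤ 𝒟.W := (G.U.basicOpen_le f).trans hV₀W
  set ι' : 𝒟.J.subscheme ⟶ G.U := 𝒟.J.subschemeι ≫ 𝒟.W.ι with hι'
  -- the affine open of the thickening over `D`
  set Y : 𝒟.J.subscheme.Opens := ι' ⁻¹ᵁ D with hY
  have hYaff : IsAffineOpen Y := by
    have h1 : IsAffineOpen (𝒟.W.ι ⁻¹ᵁ D) :=
      hDaff.preimage_of_isOpenImmersion 𝒟.W.ι (by rw [Scheme.Opens.opensRange_ι]; exact hDW)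
    exact h1.preimage 𝒟.J.subschemeι
  haveI : IsAffine Y := hYaff
  set π := pullback.snd G.s ι' with hπ
  set q := pullback.fst G.s ι' with hq
  obtain ⟨hfin, hflat, hlfp⟩ : Mor2.IsFinLocFree π := 𝒟.isFinLocFree_snd_s
  haveI : IsFinite (π ∣_ Y) := IsZariskiLocalAtTarget.restrict hfin Y
  haveI : Flat (π ∣_ Y) := IsZariskiLocalAtTarget.restrict hflat Y
  haveI : LocallyOfFinitePresentation (π ∣_ Y) := IsZariskiLocalAtTarget.restrict hlfp Y
  set τ := q ≫ G.t with hτ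
  have hcond : ∀ p : ↑(pullback G.s ι'), G.s (q p) = ι' (π p) := by
    intro p
    rw [← Scheme.Hom.comp_apply, ← Scheme.Hom.comp_apply, pullback.condition]
  have hle : π ⁻¹ᵁ Y ≤ τ ⁻¹ᵁ V₀ := by
    intro p hp
    have h1 : ι' (π p) ∈ D := hp
    have h2 : G.s (q p) ∈ core G (V₀ : Set G.U) := by rw [hcond]; exact hf h1
    have h3 := h2 (q p) rfl
    show (q ≫ G.t) p ∈ V₀
    rw [Scheme.Hom.comp_apply]
    exact h3
  set b : Γ((π ⁻¹ᵁ Y).toScheme, ⊤) :=
    (π ⁻¹ᵁ Y).topIso.inv ((pullback G.s ι').presheaf.map (homOfLE hle).op (τ.app V₀ f)) with hb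
  have hbmem : ∀ x : (π ⁻¹ᵁ Y : (pullback G.s ι').Opens),
      x ∈ (π ⁻¹ᵁ Y).toScheme.basicOpen b ↔ G.t (q (x : ↑(pullback G.s ι'))) ∈ D := by
    intro x
    have h1 := mem_basicOpen_iff_of_opens
      ((pullback G.s ι').presheaf.map (homOfLE hle).op (τ.app V₀ f)) (x : ↑(pullback G.s ι'))
    have h2 : (x : ↑(pullback G.s ι')) ∈ (pullback G.s ι').basicOpen
        ((pullback G.s ι').presheaf.map (homOfLE hle).op (τ.app V₀ f)) ↔
        G.t (q (x : ↑(pullback G.s ι'))) ∈ D := by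
      rw [Scheme.basicOpen_res, ← Scheme.preimage_basicOpen]
      constructor
      · intro h3
        have h4 : τ (x : ↑(pullback G.s ι')) ∈ D := h3.2
        rwa [hτ, Scheme.Hom.comp_apply] at h4
      · intro h3
        refine ⟨x.2, ?_⟩
        show τ (x : ↑(pullback G.s ι')) ∈ D
        rw [hτ, Scheme.Hom.comp_apply]
        exact h3
    rw [← h2, h1]
    constructor
    · intro h3
      exact ⟨x.2, h3⟩
    · intro h3
      exact h3.2
  obtain ⟨g, hg⟩ := exists_norm (π ∣_ Y) b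
  have hcore : ∀ y : Y.toScheme, y ∈ Y.toScheme.basicOpen g ↔
      ι' (Y.ι y) ∈ core G (D : Set G.U) := by
    intro y
    rw [hg]
    constructor
    · intro h r hr
      obtain ⟨p, hp1, hp2⟩ := Scheme.Pullback.exists_preimage_pullback r (Y.ι y) hr
      have hpY : p ∈ π ⁻¹ᵁ Y := by
        show π p ∈ Y
        rw [hπ, hp2]
        exact y.2
      have h1 := h ⟨p, hpY⟩ (Y.ι.isOpenEmbedding.injective
        ((morphismRestrict_apply_coe π Y _).trans hp2))
      have h2 := (hbmem ⟨p, hpY⟩).1 h1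
      rw [← hp1]
      exact h2
    · intro h x hx
      rw [hbmem]
      apply h
      rw [hcond]
      have := morphismRestrict_apply_coe π Y x
      rw [hx] at this
      show ι' (π ((π ⁻¹ᵁ Y).ι x)) = _
      rw [← this]
  set V : G.U.Opens := ⟨core G (D : Set G.U), isOpen_core G D⟩ with hVdef
  have hVD : V ≤ D := core_subset G _
  have hVW : V ≤ 𝒟.W := hVD.trans hDW
  -- the affine open of the thickening over `V`
  set O : 𝒟.J.subscheme.Opens := Y.ι ''ᵁ Y.toScheme.basicOpen g with hO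
  have hOaff : IsAffineOpen O :=
    ((isAffineOpen_top Y.toScheme).basicOpen g).image_of_isOpenImmersion Y.ι
  have hOmem : ∀ w : 𝒟.J.subscheme, w ∈ O ↔ ι' w ∈ V := by
    intro w
    constructor
    · rintro ⟨y, hy, rfl⟩
      exact (hcore y).1 hy
    · intro hw
      have hwY : w ∈ Y := hVD hw
      exact ⟨⟨w, hwY⟩, (hcore ⟨w, hwY⟩).2 hw, rfl⟩
  haveI : IsAffine O := hOaff
  let t : O.toScheme ⟶ V.toScheme := IsOpenImmersion.lift V.ι (O.ι ≫ ι') (by
    rintro _ ⟨x, rfl⟩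
    rw [Scheme.Opens.range_ι, Scheme.Hom.comp_apply]
    exact (hOmem _).1 x.2)
  have ht : t ≫ V.ι = O.ι ≫ ι' := IsOpenImmersion.lift_fac _ _ _
  have hsq : IsPullback t O.ι (G.U.homOfLE hVW) 𝒟.J.subschemeι := by
    refine IsOpenImmersion.isPullback _ _ _ _ ?_ ?_
    · rw [← cancel_mono 𝒟.W.ι, Category.assoc, Category.assoc, Scheme.homOfLE_ι, ht]
    · ext w
      rw [Scheme.opensRange_homOfLE, Scheme.Opens.opensRange_ι]
      exact (hOmem w).symm
  haveI : IsClosedImmersion t := MorphismProperty.of_isPullback hsq.flip inferInstance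
  have hsurj : Function.Surjective t := by
    intro v
    have hvV : V.ι v ∈ V := v.2
    have hv : V.ι v ∈ 𝒟.W := hVW hvV
    have hsupp : (⟨V.ι v, hv⟩ : 𝒟.W.toScheme) ∈ Set.range 𝒟.J.subschemeι := by
      rw [Scheme.IdealSheafData.range_subschemeι, 𝒟.support_J]; trivial
    obtain ⟨w, hw⟩ := hsupp
    have hι'w : ι' w = V.ι v := by
      rw [hι', Scheme.Hom.comp_apply, hw]
      rfl
    have hwO : w ∈ O := by
      rw [hOmem, hι'w]
      exact hvV
    refine ⟨⟨w, hwO⟩, V.ι.isOpenEmbedding.injective ?_⟩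
    rw [← Scheme.Hom.comp_apply, ht, Scheme.Hom.comp_apply]
    exact hι'w
  exact Groth.Agent.Lib.Helper22.ThickAffine.isAffine_of_thickening t hsurj

end norm


section main

variable {S : Scheme.{u}} (G : Grpd.GroupoidScheme S) [IsFinite G.s] [IsFinite G.t]
  [LocallyOfFinitePresentation G.s] [QuasiSeparatedSpace G.U]

theorem exists_invariant_affine_thickening (m : ℕ) (u : Fin m → G.U)
    (hu : ∀ i (r : G.R), G.s r = u i → ∀ x : G.U, x ⤳ G.t r → x = G.t r) :
    ∃ (V : G.U.Opens) (V' : (↑V : Scheme.{u}).IdealSheafData), IsAffineOpen V ∧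
      (∀ i, u i ∈ V) ∧ G.s ⁻¹ᵁ V = G.t ⁻¹ᵁ V ∧ V'.support = ⊤ ∧
      LocallyOfFinitePresentation V'.subschemeι ∧
      (∃ φ : pullback G.s (V'.subschemeι ≫ V.ι) ≅ pullback G.t (V'.subschemeι ≫ V.ι),
        φ.hom ≫ pullback.fst G.t (V'.subschemeι ≫ V.ι) =
          pullback.fst G.s (V'.subschemeι ≫ V.ι)) ∧
      Mor2.IsFinLocFree (pullback.snd G.s (V'.subschemeι ≫ V.ι)) ∧
      Mor2.IsFinLocFree (pullback.snd G.t (V'.subschemeι ≫ V.ι)) := by
  classical
  let 𝒟 := data G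
  -- the union of the orbits
  set F : Set G.U := ⋃ i, G.t '' (G.s ⁻¹' {u i}) with hFdef
  have hFfin : F.Finite :=
    Set.finite_iUnion fun i => (G.s.finite_preimage_singleton (u i)).image _
  have hFmem : ∀ x, x ∈ F ↔ ∃ i r, G.s r = u i ∧ G.t r = x := by
    intro x
    simp only [hFdef, Set.mem_iUnion, Set.mem_image, Set.mem_preimage, Set.mem_singleton_iff]
  have huF : ∀ i, u i ∈ F := fun i => (hFmem _).2 ⟨i, G.e (u i), s_e G _, t_e G _⟩
  have hForb : ∀ x ∈ F, ∀ r : G.R, G.s r = x → G.t r ∈ F := by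
    intro x hx r' hr'
    obtain ⟨i, r, hr1, hr2⟩ := (hFmem x).1 hx
    obtain ⟨r'', h1, h2⟩ := exists_comp G r' r (by rw [hr', hr2])
    exact (hFmem _).2 ⟨i, r'', by rw [h1, hr1], h2⟩
  have hFgen : ∀ x ∈ F, ∀ z : G.U, z ⤳ x → z = x := by
    intro x hx z hz
    obtain ⟨i, r, hr1, hr2⟩ := (hFmem x).1 hx
    subst hr2
    exact hu i r hr1 z hz
  have hFW : F ⊆ 𝒟.W := by
    intro x hx
    exact mem_Wtot_of_generic x (fun r hr z hz => hFgen _ (hForb x hx r hr) z hz)
  obtain ⟨V₁, hV₁, hFV₁⟩ := exists_isAffineOpen_of_generic hFfin.toFinset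
    (fun x hx => hFgen x (hFfin.mem_toFinset.1 hx))
  have hFV₁' : F ⊆ V₁ := fun x hx => hFV₁ x (hFfin.mem_toFinset.2 hx)
  obtain ⟨f₁, hf₁W, hFf₁⟩ :=
    exists_basicOpen_finite_of_isAffineOpen hV₁ 𝒟.W F hFfin hFW hFV₁'
  set V₀ := G.U.basicOpen f₁ with hV₀def
  have hV₀ : IsAffineOpen V₀ := hV₁.basicOpen f₁
  let W'' : G.U.Opens := ⟨core G (V₀ : Set G.U), isOpen_core G V₀⟩
  have hFW'' : F ⊆ W'' := fun x hx r hr => hFf₁ (hForb x hx r hr)
  obtain ⟨f, hfW'', hFf⟩ :=
    exists_basicOpen_finite_of_isAffineOpen hV₀ W'' F hFfin hFW'' hFf₁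
  have hVaff := isAffineOpen_core 𝒟 V₀ hV₀ hf₁W f hfW''
  set V : G.U.Opens := ⟨core G (G.U.basicOpen f : Set G.U), isOpen_core G _⟩ with hVdef
  have hVW : V ≤ 𝒟.W := (core_subset G _).trans ((G.U.basicOpen_le f).trans hf₁W)
  have hVinv : IsInv G (V : Set G.U) := fun r => s_mem_core_iff G _ r
  let 𝒟V := restrict 𝒟 V hVW hVinv
  refine ⟨V, 𝒟V.J, hVaff, ?_, 𝒟V.hW, 𝒟V.support_J, Data.lfp_subschemeι 𝒟V, 𝒟V.exists_phi,
    𝒟V.isFinLocFree_snd_s, 𝒟V.isFinLocFree_snd_t⟩
  intro i r hr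
  exact hFf (hForb _ (huF i) r hr)

end main

section noeth

theorem lfp_of_isFinite_of_isLocallyNoetherian {X Y : Scheme.{u}} (f : X ⟶ Y) [IsFinite f]
    [IsLocallyNoetherian Y] : LocallyOfFinitePresentation f := by
  rw [HasRingHomProperty.iff_appLE (P := @LocallyOfFinitePresentation)]
  intro U V e
  have h : (f.appLE U.1 V.1 e).hom.FiniteType :=
    HasRingHomProperty.appLE (P := @LocallyOfFiniteType) f inferInstance U V e
  haveI : IsNoetherianRing Γ(Y, U.1) := IsLocallyNoetherian.component_noetherian U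
  exact RingHom.FinitePresentation.of_finiteType.1 h

end noeth

end Groth.Agent.Lib.T2H7.GrpdGen
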