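import Mathlib
import Groth.Prelude.Def_Grpd
import Groth.Agent.Lib.T2H7GrpdGen

/-!
# Invariant affine opens cut out by one function of an ambient affine scheme (helper7)
-/

set_option autoImplicit false
set_option linter.style.haveILetI false
set_option linter.unusedSectionVars false
set_option backward.isDefEq.respectTransparency false
universe u
open CategoryTheory AlgebraicGeometry Limits Opposite TopologicalSpace

namespace Groth.Agent.Lib.T2H7.GrpdBasic

open Groth.Agent.Lib.T2H7.GrpdInv Groth.Agent.Lib.T2H7.GrpdStrat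

section thick

variable {X : Scheme.{u}}

/-- an open subset of a scheme whose preimage in a thickening is affine is affine -/
theorem isAffineOpen_of_thickening (V : X.Opens) (V' : V.toScheme.IdealSheafData)
    (hsupp : V'.support = ⊤) (V₂ : X.Opens) (hV₂ : V₂ ≤ V) (O : V'.subscheme.Opens)
    (hO : IsAffineOpen O) (hOmem : ∀ w : V'.subscheme, w ∈ O ↔ (V'.subschemeι ≫ V.ι) w ∈ V₂) :
    IsAffineOpen V₂ := by
  haveI : IsAffine O := hO
  let t : O.toScheme ⟶ V₂.toScheme := IsOpenImmersion.lift V₂.ι (O.ι ≫ V'.subschemeι ≫ V.ι) (by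
    rintro _ ⟨x, rfl⟩
    rw [Scheme.Opens.range_ι, Scheme.Hom.comp_apply]
    exact (hOmem _).1 x.2)
  have ht : t ≫ V₂.ι = O.ι ≫ V'.subschemeι ≫ V.ι := IsOpenImmersion.lift_fac _ _ _
  have hsq : IsPullback t O.ι (X.homOfLE hV₂) V'.subschemeι := by
    refine IsOpenImmersion.isPullback _ _ _ _ ?_ ?_
    · rw [← cancel_mono V.ι, Category.assoc, Category.assoc, Scheme.homOfLE_ι, ht]
    · ext w
      rw [Scheme.opensRange_homOfLE, Scheme.Opens.opensRange_ι]
      exact (hOmem w).symm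
  haveI : IsClosedImmersion t := MorphismProperty.of_isPullback hsq.flip inferInstance
  have hsurj : Function.Surjective t := by
    intro v
    have hvV : V₂.ι v ∈ V₂ := v.2
    have hv : V₂.ι v ∈ V := hV₂ hvV
    have hsupp' : (⟨V₂.ι v, hv⟩ : V.toScheme) ∈ Set.range V'.subschemeι := by
      rw [Scheme.IdealSheafData.range_subschemeι, hsupp]; trivial
    obtain ⟨w, hw⟩ := hsupp'
    have hι'w : (V'.subschemeι ≫ V.ι) w = V₂.ι v := by
      rw [Scheme.Hom.comp_apply, hw]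
      rfl
    have hwO : w ∈ O := by
      rw [hOmem, hι'w]
      exact hvV
    refine ⟨⟨w, hwO⟩, V₂.ι.isOpenEmbedding.injective ?_⟩
    rw [← Scheme.Hom.comp_apply, ht, Scheme.Hom.comp_apply]
    exact hι'w
  exact Groth.Agent.Lib.Helper22.ThickAffine.isAffine_of_thickening t hsurj

end thick

section norm

variable {S : Scheme.{u}} {G : Grpd.GroupoidScheme S} [IsFinite G.s]

/-- the norm along the restricted source map of a function cutting out `t⁻¹ E` cuts out the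
preimage of the largest invariant subset of `E` -/
theorem exists_norm_core {Y : Scheme.{u}} [IsAffine Y] (k : Y ⟶ G.U)
    (hflf : Mor2.IsFinLocFree (pullback.snd G.s k)) (E : Set G.U)
    (b : Γ(pullback G.s k, ⊤))
    (hb : ∀ p : ↑(pullback G.s k), p ∈ (pullback G.s k).basicOpen b ↔
      G.t (pullback.fst G.s k p) ∈ E) :
    ∃ g : Γ(Y, ⊤), ∀ y : Y, y ∈ Y.basicOpen g ↔ k y ∈ core G E := by
  obtain ⟨hfin, hflat, hlfp⟩ := hflf
  obtain ⟨g, hg⟩ := exists_norm (pullback.snd G.s k) b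
  refine ⟨g, fun y => ?_⟩
  rw [hg]
  have hcond : ∀ p : ↑(pullback G.s k), G.s (pullback.fst G.s k p) = k (pullback.snd G.s k p) := by
    intro p
    rw [← Scheme.Hom.comp_apply, ← Scheme.Hom.comp_apply, pullback.condition]
  constructor
  · intro h r hr
    obtain ⟨p, hp1, hp2⟩ := Scheme.Pullback.exists_preimage_pullback r y hr
    have h1 := (hb p).1 (h p hp2)
    rwa [hp1] at h1
  · intro h p hp
    rw [hb]
    apply h
    rw [hcond, hp]

end norm

section sections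

theorem basicOpen_algebraMap_Spec {R : CommRingCat.{u}} (U : (Spec R).Opens) (a : R) :
    (Spec R).basicOpen (algebraMap R Γ(Spec R, U) a) = U ⊓ PrimeSpectrum.basicOpen a := by
  rw [IsAffineOpen.algebraMap_Spec_obj, CommRingCat.hom_comp, RingHom.comp_apply]
  erw [Scheme.basicOpen_res]
  rw [basicOpen_eq_of_affine]

/-- the basic open of a section over a basic open of an affine scheme is a basic open -/
theorem exists_basicOpen_eq {R : CommRingCat.{u}} (h : R)
    (z : Γ(Spec R, PrimeSpectrum.basicOpen h)) :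
    ∃ a : R, (Spec R).basicOpen z = PrimeSpectrum.basicOpen (a * h) := by
  obtain ⟨n, a, hz⟩ := IsLocalization.Away.surj h z
  refine ⟨a, ?_⟩
  have h1 : z * algebraMap R Γ(Spec R, PrimeSpectrum.basicOpen h) h ^ (n + 1) =
      algebraMap R Γ(Spec R, PrimeSpectrum.basicOpen h) (a * h) := by
    rw [pow_succ, ← mul_assoc, hz, map_mul]
  have h2 := congrArg (fun w => (Spec R).basicOpen w) h1
  beta_reduce at h2
  rw [Scheme.basicOpen_mul, (Spec R).basicOpen_pow _ (Nat.succ_pos n), basicOpen_algebraMap_Spec,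
    basicOpen_algebraMap_Spec, PrimeSpectrum.basicOpen_mul] at h2
  have h3 : (Spec R).basicOpen z ≤ PrimeSpectrum.basicOpen h := (Spec R).basicOpen_le z
  rw [PrimeSpectrum.basicOpen_mul]
  refine le_antisymm ?_ ?_
  · exact (le_inf le_rfl (le_inf h3 h3)).trans (h2.le.trans inf_le_right)
  · exact (le_inf inf_le_right le_rfl).trans (h2.ge.trans inf_le_left)


theorem exists_basicOpen_eq' {R : CommRingCat.{u}} (h : R) (Dh : (Spec R).Opens)
    (hDh : Dh = PrimeSpectrum.basicOpen h) (z : Γ(Spec R, Dh)) :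
    ∃ a : R, (Spec R).basicOpen z = PrimeSpectrum.basicOpen (a * h) := by
  subst hDh
  exact exists_basicOpen_eq h z

/-- if `ψ` restricts to a closed immersion over the basic open `D(h)` of an affine scheme, the
trace on `ψ⁻¹ D(h)` of a basic open of the source is the preimage of a basic open `D(a h)` -/
theorem exists_basicOpen_of_closedImmersion {Y : Scheme.{u}} {R : CommRingCat.{u}}
    (ψ : Y ⟶ Spec R) (h : R) (Dh : (Spec R).Opens) (hDh : Dh = PrimeSpectrum.basicOpen h)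
    [IsClosedImmersion (ψ ∣_ Dh)] (g : Γ(Y, ⊤)) :
    ∃ a : R, ∀ y : Y, ψ y ∈ PrimeSpectrum.basicOpen (a * h) ↔
      (ψ y ∈ PrimeSpectrum.basicOpen h ∧ y ∈ Y.basicOpen g) := by
  have hDaff : IsAffineOpen Dh := by
    have := (isAffineOpen_top (Spec R)).basicOpen ((Scheme.ΓSpecIso R).inv h)
    rwa [basicOpen_eq_of_affine, ← hDh] at this
  haveI : IsAffine Dh.toScheme := hDaff
  obtain ⟨-, hsurj⟩ := IsClosedImmersion.isAffine_surjective_of_isAffine (f := ψ ∣_ Dh)
  obtain ⟨a'', ha''⟩ := hsurj ((ψ ⁻¹ᵁ Dh).ι.appTop g)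
  obtain ⟨a, ha⟩ := exists_basicOpen_eq' h Dh hDh (Dh.topIso.hom a'')
  refine ⟨a, fun y => ?_⟩
  have hinv : Dh.topIso.inv (Dh.topIso.hom a'') = a'' := by
    rw [← CommRingCat.comp_apply, Iso.hom_inv_id]; rfl
  have h1 : ψ y ∈ PrimeSpectrum.basicOpen (a * h) ↔
      ψ y ∈ (Spec R).basicOpen (Dh.topIso.hom a'') := by
    rw [ha]
  have h0 : ψ y ∈ PrimeSpectrum.basicOpen h ↔ ψ y ∈ Dh := by
    rw [hDh]
  rw [h1, h0, Groth.Agent.Lib.T2H7.GrpdInv.mem_basicOpen_iff_of_opens, hinv]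
  have key : ∀ hy : ψ y ∈ Dh,
      ((⟨ψ y, hy⟩ : Dh) ∈ Dh.toScheme.basicOpen a'' ↔ y ∈ Y.basicOpen g) := by
    intro hy
    have e1 : (ψ ∣_ Dh) ⟨y, hy⟩ = ⟨ψ y, hy⟩ :=
      Dh.ι.isOpenEmbedding.injective
        (Groth.Agent.Lib.T2H7.GrpdInv.morphismRestrict_apply_coe ψ _ ⟨y, hy⟩)
    rw [← e1]
    have e2 : (ψ ∣_ Dh) ⟨y, hy⟩ ∈ Dh.toScheme.basicOpen a'' ↔
        (⟨y, hy⟩ : (ψ ⁻¹ᵁ Dh : Y.Opens)) ∈ (ψ ∣_ Dh) ⁻¹ᵁ (Dh.toScheme.basicOpen a'') := Iff.rfl
    rw [e2, Scheme.preimage_basicOpen_top, ha'', ← Scheme.preimage_basicOpen_top]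
    rfl
  constructor
  · rintro ⟨hy, h2⟩
    exact ⟨hy, (key hy).1 h2⟩
  · rintro ⟨hy, h2⟩
    exact ⟨hy, (key hy).2 h2⟩

end sections


section main

variable {S : Scheme.{u}} (G : Grpd.GroupoidScheme S)

/-- the union of the orbits of finitely many points -/
theorem exists_orbit_set [IsFinite G.s] (m : ℕ) (u : Fin m → G.U) :
    ∃ F : Set G.U, F.Finite ∧ (∀ i, u i ∈ F) ∧
      (∀ x ∈ F, ∀ r : G.R, G.s r = x → G.t r ∈ F) ∧
      (∀ x ∈ F, ∃ i r, G.s r = u i ∧ G.t r = x) := by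
  refine ⟨⋃ i, G.t '' (G.s ⁻¹' {u i}),
    Set.finite_iUnion fun i => (G.s.finite_preimage_singleton (u i)).image _, ?_, ?_, ?_⟩
  · intro i
    exact Set.mem_iUnion.2 ⟨i, G.e (u i), s_e G _, t_e G _⟩
  · intro x hx r' hr'
    obtain ⟨i, r, hr1, hr2⟩ := Set.mem_iUnion.1 hx
    obtain ⟨r'', h1, h2⟩ := exists_comp G r' r (by rw [hr', hr2])
    exact Set.mem_iUnion.2 ⟨i, r'', by rw [Set.mem_preimage, h1]; exact hr1, h2⟩
  · intro x hx
    obtain ⟨i, r, hr1, hr2⟩ := Set.mem_iUnion.1 hx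
    exact ⟨i, r, hr1, hr2⟩

variable [IsFinite G.s] [LocallyOfFinitePresentation G.s] [IsFinite G.t]

theorem exists_invariant_affine_basicOpen (m : ℕ) (u : Fin m → G.U)
    (hu : ∀ i (r : G.R), G.s r = u i → ∀ x : G.U, x ⤳ G.t r → x = G.t r) (A : Type u)
    [CommRing A] (j : G.U ⟶ Spec (CommRingCat.of A)) [IsImmersion j] (I : Ideal A)
    (hI : ∀ x : G.U, j x ∉ PrimeSpectrum.zeroLocus (I : Set A))
    (hcl : IsClosed (PrimeSpectrum.zeroLocus (I : Set A) ∪ Set.range j)) :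
    ∃ h ∈ I, IsAffineOpen (j ⁻¹ᵁ PrimeSpectrum.basicOpen h) ∧
      (∀ i, u i ∈ j ⁻¹ᵁ PrimeSpectrum.basicOpen h) ∧
      G.s ⁻¹ᵁ (j ⁻¹ᵁ PrimeSpectrum.basicOpen h) = G.t ⁻¹ᵁ (j ⁻¹ᵁ PrimeSpectrum.basicOpen h) := by
  classical
  haveI : QuasiSeparatedSpace G.U := quasiSeparatedSpace_of_quasiSeparated j
  obtain ⟨V, V', hVaff, huV, hVinv, hsupp, -, -, hflf, -⟩ :=
    Groth.Agent.Lib.T2H7.GrpdGen.exists_invariant_affine_thickening G m u hu
  haveI : IsAffine V.toScheme := hVaff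
  haveI : IsAffine V'.subscheme := isAffine_of_isAffineHom V'.subschemeι
  set ι' : V'.subscheme ⟶ G.U := V'.subschemeι ≫ V.ι with hι'
  have hι'V : ∀ y : V'.subscheme, ι' y ∈ V := by
    intro y
    rw [hι', Scheme.Hom.comp_apply]
    exact (V'.subschemeι y).2
  have hι'surj : ∀ x : G.U, x ∈ V → ∃ y : V'.subscheme, ι' y = x := by
    intro x hx
    have hsupp' : (⟨x, hx⟩ : V.toScheme) ∈ Set.range V'.subschemeι := by
      rw [Scheme.IdealSheafData.range_subschemeι, hsupp]; trivial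
    obtain ⟨w, hw⟩ := hsupp'
    exact ⟨w, by rw [hι', Scheme.Hom.comp_apply, hw]; rfl⟩
  -- the orbits
  obtain ⟨F, hFfin, huF, hForb, hFmem⟩ := exists_orbit_set G m u
  have hFV : F ⊆ V := by
    intro x hx
    obtain ⟨i, r, hr1, hr2⟩ := hFmem x hx
    have h1 : r ∈ G.s ⁻¹ᵁ V := by
      show G.s r ∈ V
      rw [hr1]
      exact huV i
    rw [hVinv] at h1
    rw [← hr2]
    exact h1
  -- the closed set `T` and the ideal `J`
  set Z : Set (PrimeSpectrum A) := PrimeSpectrum.zeroLocus (I : Set A) with hZ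
  set T : Set (PrimeSpectrum A) := Z ∪ j '' ((V : Set G.U)ᶜ) with hT
  have hjinj : Function.Injective j := j.isEmbedding.injective
  have hTcl : IsClosed T := by
    obtain ⟨O', hO', hO'V⟩ := j.isEmbedding.isInducing.isOpen_iff.1 V.isOpen
    have hmemV : ∀ x : G.U, j x ∈ O' ↔ x ∈ V := by
      intro x
      have : x ∈ j ⁻¹' O' ↔ x ∈ (V : Set G.U) := by rw [hO'V]
      exact this
    have h1 : T = (Z ∪ Set.range j) ∩ (O' ∩ Zᶜ)ᶜ := by
      ext p
      constructor
      · rintro (hp | ⟨x, hx, rfl⟩)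
        · exact ⟨Or.inl hp, fun h => h.2 hp⟩
        · exact ⟨Or.inr ⟨x, rfl⟩, fun h => hx ((hmemV x).1 h.1)⟩
      · rintro ⟨hp | ⟨x, rfl⟩, h2⟩
        · exact Or.inl hp
        · by_cases hxZ : j x ∈ Z
          · exact Or.inl hxZ
          · refine Or.inr ⟨x, fun hxV => h2 ⟨(hmemV x).2 hxV, hxZ⟩, rfl⟩
    rw [h1]
    exact hcl.inter (hO'.inter (PrimeSpectrum.isClosed_zeroLocus _).isOpen_compl).isClosed_compl
  set J : Ideal A := I ⊓ PrimeSpectrum.vanishingIdeal T with hJdef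
  have hJ : PrimeSpectrum.zeroLocus (J : Set A) = T := by
    rw [hJdef, PrimeSpectrum.zeroLocus_inf, PrimeSpectrum.zeroLocus_vanishingIdeal_eq_closure,
      hTcl.closure_eq]
    exact Set.union_eq_right.2 Set.subset_union_left
  have hJI : J ≤ I := inf_le_left
  have hnotT : ∀ x : G.U, x ∈ V → j x ∉ T := by
    rintro x hx (h1 | ⟨x', hx', h2⟩)
    · exact hI x h1
    · rw [hjinj h2] at hx'
      exact hx' hx
  -- prime avoidance
  obtain ⟨h, hhJ, hhF⟩ : ∃ h ∈ J, ∀ x ∈ F, h ∉ (j x).asIdeal := by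
    rcases F.eq_empty_or_nonempty with rfl | ⟨x₀, hx₀⟩
    · exact ⟨0, J.zero_mem, fun x hx => hx.elim⟩
    have hnot : ¬ ((J : Set A) ⊆ ⋃ x ∈ (hFfin.toFinset : Set G.U), ((j x).asIdeal : Set A)) := by
      rw [Ideal.subset_union_prime (f := fun x : G.U => (j x).asIdeal) x₀ x₀
        (fun i _ _ _ => (j i).isPrime)]
      rintro ⟨x, hx, hJx⟩
      rw [Set.Finite.mem_toFinset] at hx
      have h1 : j x ∈ PrimeSpectrum.zeroLocus (J : Set A) := hJx
      rw [hJ] at h1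
      exact hnotT x (hFV hx) h1
    obtain ⟨h, hhJ, hh⟩ := Set.not_subset.mp hnot
    refine ⟨h, hhJ, fun x hx hhx => hh ?_⟩
    simp only [Set.mem_iUnion]
    exact ⟨x, by simpa using hx, hhx⟩
  -- the open set `E = j⁻¹ D(h)`
  set E : G.U.Opens := j ⁻¹ᵁ PrimeSpectrum.basicOpen h with hE
  have hEmem : ∀ x : G.U, x ∈ E ↔ h ∉ (j x).asIdeal := fun x => Iff.rfl
  have hEV : E ≤ V := by
    intro x hx
    by_contra hxV
    have h1 : j x ∈ PrimeSpectrum.zeroLocus (J : Set A) := by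
      rw [hJ]
      exact Or.inr ⟨x, hxV, rfl⟩
    exact (hEmem x).1 hx (h1 hhJ)
  have hFE : F ⊆ E := fun x hx => (hEmem x).2 (hhF x hx)
  -- the function cutting out `t⁻¹ E` upstairs
  set b : Γ(pullback G.s ι', ⊤) := (pullback.fst G.s ι' ≫ G.t ≫ j).appTop
    ((Scheme.ΓSpecIso (CommRingCat.of A)).inv h) with hb
  have hbmem : ∀ p : ↑(pullback G.s ι'), p ∈ (pullback G.s ι').basicOpen b ↔
      G.t (pullback.fst G.s ι' p) ∈ (E : Set G.U) := by
    intro p
    rw [hb, ← Scheme.preimage_basicOpen_top, basicOpen_eq_of_affine]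
    show (pullback.fst G.s ι' ≫ G.t ≫ j) p ∈ PrimeSpectrum.basicOpen h ↔ _
    rw [Scheme.Hom.comp_apply, Scheme.Hom.comp_apply]
    rfl
  obtain ⟨g, hg⟩ := exists_norm_core ι' hflf (E : Set G.U) b hbmem
  set V₂ : G.U.Opens := ⟨core G (E : Set G.U), isOpen_core G E⟩ with hV₂
  have hV₂E : V₂ ≤ E := core_subset G _
  have hV₂aff : IsAffineOpen V₂ :=
    isAffineOpen_of_thickening V V' hsupp V₂ (hV₂E.trans hEV) (V'.subscheme.basicOpen g)
      ((isAffineOpen_top _).basicOpen g) (fun w => hg w)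
  -- the restriction of `ψ = ι' ≫ j` over `D(h)` is a closed immersion
  set ψ : V'.subscheme ⟶ Spec (CommRingCat.of A) := ι' ≫ j with hψ
  set Dh : (Spec (CommRingCat.of A)).Opens := PrimeSpectrum.basicOpen h with hDh
  have hψapp : ∀ y : V'.subscheme, ψ y = j (ι' y) := fun y => by
    rw [hψ, Scheme.Hom.comp_apply]
  have hDhZ : ∀ p : PrimeSpectrum A, p ∈ Dh → p ∉ Z := by
    intro p hp hpZ
    exact hp (hpZ (hJI hhJ))
  have hrange : Set.range (ψ ∣_ Dh) =
      Dh.ι ⁻¹' (PrimeSpectrum.zeroLocus (I : Set A) ∪ Set.range j) := by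
    ext w
    constructor
    · rintro ⟨y, rfl⟩
      refine Or.inr ⟨ι' ((ψ ⁻¹ᵁ Dh).ι y), ?_⟩
      rw [morphismRestrict_apply_coe, hψapp]
    · rintro (hw | ⟨x, hx⟩)
      · exact (hDhZ _ w.2 hw).elim
      · have hxE : x ∈ E := by
          show j x ∈ Dh
          rw [hx]
          exact w.2
        obtain ⟨y, hy⟩ := hι'surj x (hEV hxE)
        have hyD : y ∈ ψ ⁻¹ᵁ Dh := by
          show ψ y ∈ Dh
          rw [hψapp, hy, hx]
          exact w.2
        refine ⟨⟨y, hyD⟩, Dh.ι.isOpenEmbedding.injective ?_⟩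
        rw [morphismRestrict_apply_coe]
        show ψ y = _
        rw [hψapp, hy, hx]
  haveI : IsClosedImmersion (ψ ∣_ Dh) := by
    apply IsClosedImmersion.of_isPreimmersion
    rw [hrange]
    exact hcl.preimage Dh.ι.continuous
  obtain ⟨a, ha⟩ := exists_basicOpen_of_closedImmersion ψ h Dh hDh g
  have hfin : (j ⁻¹ᵁ PrimeSpectrum.basicOpen (a * h) : G.U.Opens) = V₂ := by
    ext x
    constructor
    · intro hx
      have hx' : j x ∈ PrimeSpectrum.basicOpen (a * h) := hx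
      have hxE : x ∈ E := PrimeSpectrum.basicOpen_mul_le_right a h hx'
      obtain ⟨y, hy⟩ := hι'surj x (hEV hxE)
      rw [← hy, ← hψapp] at hx'
      have h1 := ((ha y).1 hx').2
      rw [hg, hy] at h1
      exact h1
    · intro hx
      have hxE : x ∈ E := hV₂E hx
      obtain ⟨y, hy⟩ := hι'surj x (hEV hxE)
      have h1 : y ∈ V'.subscheme.basicOpen g := by
        rw [hg, hy]
        exact hx
      have h2 : ψ y ∈ PrimeSpectrum.basicOpen h := by
        rw [hψapp, hy]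
        exact hxE
      have h3 := (ha y).2 ⟨h2, h1⟩
      rw [hψapp, hy] at h3
      exact h3
  refine ⟨a * h, I.mul_mem_left a (hJI hhJ), ?_⟩
  rw [hfin]
  refine ⟨hV₂aff, ?_, ?_⟩
  · intro i r hr
    exact hFE (hForb _ (huF i) r hr)
  · ext r
    exact s_mem_core_iff G _ r

end main

end Groth.Agent.Lib.T2H7.GrpdBasic
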