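import Mathlib
import Groth.Prelude.Def_Grpd
import Groth.Agent.Lib.T2H7GrpdInv
import Groth.Agent.Lib.T2H6Chevalley

/-!
# Invariant affine opens descend along integral restrictions of groupoids (helper7)
-/

set_option autoImplicit false
set_option linter.style.haveILetI false
set_option linter.unusedSectionVars false
set_option backward.isDefEq.respectTransparency false
universe u
open CategoryTheory AlgebraicGeometry Limits Opposite TopologicalSpace

namespace Groth.Agent.Lib.T2H7.GrpdIntRes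

open Groth.Agent.Lib.T2H7.GrpdInv

variable {S : Scheme.{u}} (G : Grpd.GroupoidScheme S)

theorem exists_invariant_affine_of_restriction [IsIntegralHom G.s] [IsIntegralHom G.t]
    (U' : Scheme.{u}) (g : U' ⟶ G.U) [IsIntegralHom g]
    (horb : ∀ u : G.U, ∃ r : G.R, G.s r = u ∧ G.t r ∈ Set.range ⇑g) (u' : U') (W' : U'.Opens)
    (hW' : IsAffineOpen W') (hu' : u' ∈ W')
    (hinv : (pullback.fst (pullback.snd g G.t ≫ G.s) g ≫ pullback.fst g G.t) ⁻¹ᵁ W' =
      (pullback.snd (pullback.snd g G.t ≫ G.s) g) ⁻¹ᵁ W') :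
    ∃ W : G.U.Opens, IsAffineOpen W ∧ g u' ∈ W ∧ G.s ⁻¹ᵁ W = G.t ⁻¹ᵁ W := by
  -- point-level invariance of `W'`
  have hA : ∀ (a' b' : U') (σ : G.R), G.s σ = g a' → G.t σ = g b' → (a' ∈ W' ↔ b' ∈ W') := by
    intro a' b' σ h1 h2
    obtain ⟨x, hx1, hx2⟩ := Scheme.Pullback.exists_preimage_pullback (f := g) (g := G.t) b' σ h2.symm
    obtain ⟨y, hy1, hy2⟩ := Scheme.Pullback.exists_preimage_pullback
      (f := pullback.snd g G.t ≫ G.s) (g := g) x a'
      (by rw [Scheme.Hom.comp_apply, hx2, h1])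
    have h3 : y ∈ (pullback.fst (pullback.snd g G.t ≫ G.s) g ≫ pullback.fst g G.t) ⁻¹ᵁ W' ↔
        y ∈ (pullback.snd (pullback.snd g G.t ≫ G.s) g) ⁻¹ᵁ W' := by rw [hinv]
    have h4 : (pullback.fst (pullback.snd g G.t ≫ G.s) g ≫ pullback.fst g G.t) y = b' := by
      rw [Scheme.Hom.comp_apply, hy1, hx1]
    have h5 : y ∈ (pullback.fst (pullback.snd g G.t ≫ G.s) g ≫ pullback.fst g G.t) ⁻¹ᵁ W' ↔
        b' ∈ W' := by
      show (pullback.fst (pullback.snd g G.t ≫ G.s) g ≫ pullback.fst g G.t) y ∈ W' ↔ _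
      rw [h4]
    have h6 : y ∈ (pullback.snd (pullback.snd g G.t ≫ G.s) g) ⁻¹ᵁ W' ↔ a' ∈ W' := by
      show (pullback.snd (pullback.snd g G.t ≫ G.s) g) y ∈ W' ↔ _
      rw [hy2]
    rw [← h5, ← h6, h3]
  set pr₀ := pullback.fst g G.t with hpr₀
  set h := pullback.snd g G.t ≫ G.s with hh
  -- the set `W`
  set Ws : Set G.U := {x | ∃ (a' : U') (ρ : G.R), a' ∈ W' ∧ g a' = G.t ρ ∧ G.s ρ = x} with hWs
  have hWs_inv : ∀ r : G.R, G.s r ∈ Ws → G.t r ∈ Ws := by
    rintro r ⟨a', ρ, ha', h1, h2⟩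
    obtain ⟨r₁, hr1, b', hb'⟩ := horb (G.t r)
    -- σ = r₁ ∘ r ∘ ρ⁻¹
    obtain ⟨σ₁, hσ1, hσ2⟩ := exists_comp G r (G.i ρ) (by rw [t_i, h2])
    obtain ⟨σ, hσ3, hσ4⟩ := exists_comp G r₁ σ₁ (by rw [hr1, hσ2])
    have h3 : G.s σ = g a' := by rw [hσ3, hσ1, s_i, h1]
    have h4 : G.t σ = g b' := by rw [hσ4, hb']
    exact ⟨b', r₁, (hA a' b' σ h3 h4).1 ha', hb', hr1⟩
  have hpre : ∀ x : ↑(pullback g G.t), h x ∈ Ws ↔ pr₀ x ∈ W' := by
    intro x
    have hx : g (pr₀ x) = G.t (pullback.snd g G.t x) := by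
      rw [← Scheme.Hom.comp_apply, ← Scheme.Hom.comp_apply, pullback.condition]
    constructor
    · rintro ⟨a', ρ, ha', h1, h2⟩
      -- σ = (snd x) ∘ ρ⁻¹
      have h3 : G.s (pullback.snd g G.t x) = G.s ρ := by
        rw [h2, hh, Scheme.Hom.comp_apply]
      obtain ⟨σ, hσ1, hσ2⟩ := exists_comp G (pullback.snd g G.t x) (G.i ρ) (by rw [t_i, h3])
      exact (hA a' (pr₀ x) σ (by rw [hσ1, s_i, h1]) (by rw [hσ2, hx])).1 ha'
    · intro hx'
      exact ⟨pr₀ x, pullback.snd g G.t x, hx', hx, by rw [hh, Scheme.Hom.comp_apply]⟩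
  have hsurj : Function.Surjective h := by
    intro u
    obtain ⟨r, hr1, a', ha'⟩ := horb u
    obtain ⟨x, hx1, hx2⟩ := Scheme.Pullback.exists_preimage_pullback (f := g) (g := G.t) a' r ha'
    exact ⟨x, by rw [hh, Scheme.Hom.comp_apply, hx2, hr1]⟩
  have hopen : IsOpen Ws := by
    rw [← isClosed_compl_iff]
    have h1 : Wsᶜ = h '' ((pr₀ ⁻¹ᵁ W' : (pullback g G.t).Opens) : Set ↑(pullback g G.t))ᶜ := by
      ext x
      constructor
      · intro hx
        obtain ⟨y, rfl⟩ := hsurj x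
        exact ⟨y, fun hy => hx ((hpre y).2 hy), rfl⟩
      · rintro ⟨y, hy, rfl⟩ hx
        exact hy ((hpre y).1 hx)
    rw [h1]
    exact h.isClosedMap _ (pr₀ ⁻¹ᵁ W').isOpen.isClosed_compl
  let W : G.U.Opens := ⟨Ws, hopen⟩
  have hWpre : h ⁻¹ᵁ W = pr₀ ⁻¹ᵁ W' := by
    ext x
    exact hpre x
  have haff : IsAffineOpen W := by
    haveI : IsAffine (h ⁻¹ᵁ W).toScheme := by
      have h1 : IsAffineOpen (pr₀ ⁻¹ᵁ W') := hW'.preimage pr₀
      rw [← hWpre] at h1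
      exact h1
    haveI : Surjective (h ∣_ W) := by
      constructor
      intro w
      obtain ⟨x, hx⟩ := hsurj (W.ι w)
      have hxW : x ∈ h ⁻¹ᵁ W := by
        show h x ∈ W
        rw [hx]
        exact w.2
      refine ⟨⟨x, hxW⟩, W.ι.isOpenEmbedding.injective ?_⟩
      rw [morphismRestrict_apply_coe]
      exact hx
    exact Groth.Agent.Lib.T2H6.Chevalley.isAffine_of_surjective_universallyClosed (h ∣_ W)
  refine ⟨W, haff, ?_, ?_⟩
  · exact ⟨u', G.e (g u'), hu', (t_e G _).symm, s_e G _⟩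
  · ext r
    constructor
    · intro hr
      exact hWs_inv r hr
    · intro hr
      have := hWs_inv (G.i r) (by rw [s_i]; exact hr)
      rwa [t_i] at this

end Groth.Agent.Lib.T2H7.GrpdIntRes
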