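import Mathlib
import Groth.Prelude.Def_Grpd
import Groth.Agent.Lib.Helper2Grpd

/-!
# Restriction of a groupoid scheme along an arbitrary morphism `u : U' ⟶ U` (helper7)

`R' = (R ×_{t,U} U') ×_{s,U} U'`, `t' = ` projection to the first `U'`, `s' = ` projection to the last.
-/

set_option autoImplicit false
set_option linter.style.haveILetI false
set_option linter.unusedSectionVars false
set_option backward.isDefEq.respectTransparency false
universe u

open CategoryTheory CategoryTheory.Limits AlgebraicGeometry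
open Groth.Agent.Lib.Helper2.Grpd

namespace Groth.Agent.Lib.T2H7.GrpdRestr

variable {S : Scheme.{u}} (G : Grpd.GroupoidScheme S) {U' : Scheme.{u}} (u : U' ⟶ G.U)

/-- arrows with target in `U'` -/
noncomputable abbrev V : Scheme.{u} := pullback G.t u

/-- the source map on `V` -/
noncomputable def v : V G u ⟶ G.U := pullback.fst G.t u ≫ G.s

theorem v_def : v G u = pullback.fst G.t u ≫ G.s := rfl

/-- arrows of the restricted groupoid -/
noncomputable abbrev R' : Scheme.{u} := pullback (v G u) u

/-- the underlying arrow -/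
noncomputable def ρ : R' G u ⟶ G.R := pullback.fst (v G u) u ≫ pullback.fst G.t u

/-- restricted target -/
noncomputable def t' : R' G u ⟶ U' := pullback.fst (v G u) u ≫ pullback.snd G.t u

/-- restricted source -/
noncomputable def s' : R' G u ⟶ U' := pullback.snd (v G u) u

@[reassoc]
theorem ρ_t : ρ G u ≫ G.t = t' G u ≫ u := by
  unfold ρ t'
  rw [Category.assoc, Category.assoc, pullback.condition]

@[reassoc]
theorem ρ_s : ρ G u ≫ G.s = s' G u ≫ u := by
  unfold ρ s'
  rw [Category.assoc, ← v_def]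
  exact pullback.condition

/-- constructor for `T`-points of `R'` -/
noncomputable def mk {T : Scheme.{u}} (α : T ⟶ G.R) (a b : T ⟶ U') (ha : α ≫ G.t = a ≫ u)
    (hb : α ≫ G.s = b ≫ u) : T ⟶ R' G u :=
  pullback.lift (pullback.lift α a ha) b (by
    rw [v_def, ← Category.assoc, pullback.lift_fst, hb])

@[reassoc (attr := simp)]
theorem mk_ρ {T : Scheme.{u}} (α : T ⟶ G.R) (a b : T ⟶ U') (ha : α ≫ G.t = a ≫ u)
    (hb : α ≫ G.s = b ≫ u) : mk G u α a b ha hb ≫ ρ G u = α := by
  unfold mk ρ
  rw [← Category.assoc, pullback.lift_fst, pullback.lift_fst]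

@[reassoc (attr := simp)]
theorem mk_t {T : Scheme.{u}} (α : T ⟶ G.R) (a b : T ⟶ U') (ha : α ≫ G.t = a ≫ u)
    (hb : α ≫ G.s = b ≫ u) : mk G u α a b ha hb ≫ t' G u = a := by
  unfold mk t'
  rw [← Category.assoc, pullback.lift_fst, pullback.lift_snd]

@[reassoc (attr := simp)]
theorem mk_s {T : Scheme.{u}} (α : T ⟶ G.R) (a b : T ⟶ U') (ha : α ≫ G.t = a ≫ u)
    (hb : α ≫ G.s = b ≫ u) : mk G u α a b ha hb ≫ s' G u = b := by
  unfold mk s'
  rw [pullback.lift_snd]

theorem hom_ext {T : Scheme.{u}} {f g : T ⟶ R' G u} (h1 : f ≫ ρ G u = g ≫ ρ G u)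
    (h2 : f ≫ t' G u = g ≫ t' G u) (h3 : f ≫ s' G u = g ≫ s' G u) : f = g := by
  unfold ρ at h1
  unfold t' at h2
  unfold s' at h3
  apply pullback.hom_ext
  · apply pullback.hom_ext
    · simpa only [Category.assoc] using h1
    · simpa only [Category.assoc] using h2
  · exact h3

/-- restricted identity -/
noncomputable def e' : U' ⟶ R' G u :=
  mk G u (u ≫ G.e) (𝟙 _) (𝟙 _) (by rw [Category.assoc, G.e_t, Category.comp_id, Category.id_comp])
    (by rw [Category.assoc, G.e_s, Category.comp_id, Category.id_comp])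

/-- restricted inverse -/
noncomputable def i' : R' G u ⟶ R' G u :=
  mk G u (ρ G u ≫ G.i) (s' G u) (t' G u) (by rw [Category.assoc, G.i_t, ρ_s])
    (by rw [Category.assoc, G.i_s, ρ_t])

theorem cond_ρ {T : Scheme.{u}} (α β : T ⟶ R' G u) (h : α ≫ s' G u = β ≫ t' G u) :
    (α ≫ ρ G u) ≫ G.s = (β ≫ ρ G u) ≫ G.t := by
  rw [Category.assoc, ρ_s, reassoc_of% h, Category.assoc, ρ_t]

/-- restricted composition -/
noncomputable def c' : pullback (s' G u) (t' G u) ⟶ R' G u :=
  mk G u (comp G (pullback.fst _ _ ≫ ρ G u) (pullback.snd _ _ ≫ ρ G u)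
      (cond_ρ G u _ _ pullback.condition))
    (pullback.fst _ _ ≫ t' G u) (pullback.snd _ _ ≫ s' G u)
    (by rw [comp_t, Category.assoc, ρ_t, Category.assoc])
    (by rw [comp_s, Category.assoc, ρ_s, Category.assoc])

theorem lift_c'_ρ {T : Scheme.{u}} (α β : T ⟶ R' G u) (h : α ≫ s' G u = β ≫ t' G u) :
    (pullback.lift α β h ≫ c' G u) ≫ ρ G u =
      comp G (α ≫ ρ G u) (β ≫ ρ G u) (cond_ρ G u α β h) := by
  unfold c'
  rw [Category.assoc, mk_ρ, precomp_comp]
  refine comp_congr G _ ?_ ?_
  · rw [← Category.assoc, pullback.lift_fst]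
  · rw [← Category.assoc, pullback.lift_snd]

theorem lift_c'_t {T : Scheme.{u}} (α β : T ⟶ R' G u) (h : α ≫ s' G u = β ≫ t' G u) :
    (pullback.lift α β h ≫ c' G u) ≫ t' G u = α ≫ t' G u := by
  unfold c'
  rw [Category.assoc, mk_t, ← Category.assoc, pullback.lift_fst]

theorem lift_c'_s {T : Scheme.{u}} (α β : T ⟶ R' G u) (h : α ≫ s' G u = β ≫ t' G u) :
    (pullback.lift α β h ≫ c' G u) ≫ s' G u = β ≫ s' G u := by
  unfold c'
  rw [Category.assoc, mk_s, ← Category.assoc, pullback.lift_snd]

/-- the restriction of a groupoid scheme along `u : U' ⟶ U` -/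
noncomputable def restr : Grpd.GroupoidScheme S where
  U := U'
  R := R' G u
  pU := u ≫ G.pU
  pR := ρ G u ≫ G.pR
  s := s' G u
  t := t' G u
  e := e' G u
  i := i' G u
  c := c' G u
  s_over := by rw [← Category.assoc, ← ρ_s, Category.assoc, G.s_over]
  t_over := by rw [← Category.assoc, ← ρ_t, Category.assoc, G.t_over]
  comp_s α β h := lift_c'_s G u α β h
  comp_t α β h := lift_c'_t G u α β h
  assoc α β γ h₁ h₂ := by
    apply hom_ext G u
    · refine (lift_c'_ρ G u _ γ _).trans ?_
      refine Eq.trans ?_ (lift_c'_ρ G u α _ _).symm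
      rw [comp_congr G _ (lift_c'_ρ G u α β h₁) rfl,
        comp_congr G _ rfl (lift_c'_ρ G u β γ h₂)]
      exact comp_assoc G _ _ _ _ _
    · rw [lift_c'_t, lift_c'_t, lift_c'_t]
    · rw [lift_c'_s, lift_c'_s, lift_c'_s]
  e_s := by unfold e'; rw [mk_s]
  e_t := by unfold e'; rw [mk_t]
  comp_e α := by
    apply hom_ext G u
    · rw [lift_c'_ρ]
      refine comp_e G _ _ ?_ _
      unfold e'
      rw [Category.assoc, Category.assoc, mk_ρ, ← Category.assoc (s' G u), ← ρ_s,
        Category.assoc, Category.assoc]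
    · rw [lift_c'_t]
    · rw [lift_c'_s]
      unfold e'
      rw [Category.assoc, Category.assoc, mk_s, Category.comp_id]
  e_comp α := by
    apply hom_ext G u
    · rw [lift_c'_ρ]
      refine e_comp G _ _ ?_ _
      unfold e'
      rw [Category.assoc, Category.assoc, mk_ρ, ← Category.assoc (t' G u), ← ρ_t,
        Category.assoc, Category.assoc]
    · rw [lift_c'_t]
      unfold e'
      rw [Category.assoc, Category.assoc, mk_t, Category.comp_id]
    · rw [lift_c'_s]
  i_s := by unfold i'; rw [mk_s]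
  i_t := by unfold i'; rw [mk_t]
  comp_i α := by
    apply hom_ext G u
    · rw [lift_c'_ρ]
      rw [comp_congr G _ rfl (show (α ≫ i' G u) ≫ ρ G u = (α ≫ ρ G u) ≫ G.i by
        unfold i'; rw [Category.assoc, mk_ρ, Category.assoc])]
      rw [comp_i]
      unfold e'
      rw [Category.assoc, Category.assoc, Category.assoc, mk_ρ, ← Category.assoc (t' G u), ← ρ_t,
        Category.assoc]
    · rw [lift_c'_t]
      unfold e'
      rw [Category.assoc, Category.assoc, mk_t, Category.comp_id]
    · rw [lift_c'_s]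
      unfold e' i'
      rw [Category.assoc, Category.assoc, Category.assoc, mk_s, mk_s, Category.comp_id]
  i_comp α := by
    apply hom_ext G u
    · rw [lift_c'_ρ]
      rw [comp_congr G _ (show (α ≫ i' G u) ≫ ρ G u = (α ≫ ρ G u) ≫ G.i by
        unfold i'; rw [Category.assoc, mk_ρ, Category.assoc]) rfl]
      rw [i_comp]
      unfold e'
      rw [Category.assoc, Category.assoc, Category.assoc, mk_ρ, ← Category.assoc (s' G u), ← ρ_s,
        Category.assoc]
    · rw [lift_c'_t]
      unfold e' i'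
      rw [Category.assoc, Category.assoc, Category.assoc, mk_t, mk_t, Category.comp_id]
    · rw [lift_c'_s]
      unfold e'
      rw [Category.assoc, Category.assoc, mk_s, Category.comp_id]

end Groth.Agent.Lib.T2H7.GrpdRestr
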