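import Mathlib
import Groth.Prelude.Def_Grpd
import Groth.Agent.Lib.Helper2Grpd
import Groth.Agent.Lib.T2H7GrpdInv
import Groth.Agent.Lib.T2H7GrpdRestr
import Groth.Agent.Lib.Helper12Flat

/-!
# Quotient of a groupoid scheme with a quasi-section (SGA3 V 6.1) (helper7)
-/

set_option autoImplicit false
set_option linter.style.haveILetI false
set_option linter.unusedSectionVars false
set_option backward.isDefEq.respectTransparency false
universe u

open CategoryTheory CategoryTheory.Limits AlgebraicGeometry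
open Groth.Agent.Lib.Helper2.Grpd
open Groth.Agent.Lib.T2H7.GrpdRestr

namespace Groth.Agent.Lib.T2H7.GrpdQSec

variable {S : Scheme.{u}} (G : Grpd.GroupoidScheme S) {U' : Scheme.{u}} (u : U' ⟶ G.U)

theorem eq_of_mono_j [Mono G.j] {T : Scheme.{u}} (f g : T ⟶ G.R) (h1 : f ≫ G.t = g ≫ G.t)
    (h2 : f ≫ G.s = g ≫ G.s) : f = g := by
  rw [← cancel_mono G.j]
  unfold Grpd.GroupoidScheme.j
  apply pullback.hom_ext
  · rw [Category.assoc, Category.assoc, pullback.lift_fst, h1]
  · rw [Category.assoc, Category.assoc, pullback.lift_snd, h2]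

theorem mono_j [Mono G.j] : Mono (restr G u).j := by
  refine ⟨fun {T} f g h => ?_⟩
  have h1 : f ≫ t' G u = g ≫ t' G u := by
    have := congrArg (· ≫ pullback.fst _ _) h
    simp only [Category.assoc, Grpd.GroupoidScheme.j, pullback.lift_fst] at this
    exact this
  have h2 : f ≫ s' G u = g ≫ s' G u := by
    have := congrArg (· ≫ pullback.snd _ _) h
    simp only [Category.assoc, Grpd.GroupoidScheme.j, pullback.lift_snd] at this
    exact this
  refine hom_ext G u ?_ h1 h2
  apply eq_of_mono_j G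
  · rw [Category.assoc, Category.assoc, ρ_t, reassoc_of% h1]
  · rw [Category.assoc, Category.assoc, ρ_s, reassoc_of% h2]

theorem ρ_t_apply (r : R' G u) : G.t (ρ G u r) = u (t' G u r) := by
  rw [← Scheme.Hom.comp_apply, ← Scheme.Hom.comp_apply, ρ_t]

theorem ρ_s_apply (r : R' G u) : G.s (ρ G u r) = u (s' G u r) := by
  rw [← Scheme.Hom.comp_apply, ← Scheme.Hom.comp_apply, ρ_s]

/-- the orbit condition for the restricted groupoid -/
theorem hb_restr
    (h2 : ∀ E : Set U', (∀ x ∈ E, ∀ y ∈ E, ∃ r : G.R, G.t.base r = u.base x ∧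
      G.s.base r = u.base y) → ∃ W : U'.Opens, IsAffineOpen W ∧ E ⊆ (W : Set U')) :
    ∀ x : (restr G u).U, ∃ V : (restr G u).U.Opens, IsAffineOpen V ∧
      (restr G u).t.base '' ((restr G u).s.base ⁻¹' {x}) ⊆ (V : Set (restr G u).U) := by
  intro x
  apply h2
  rintro _ ⟨r1, hr1, rfl⟩ _ ⟨r2, hr2, rfl⟩
  have hr1' : s' G u r1 = x := hr1
  have hr2' : s' G u r2 = x := hr2
  obtain ⟨r, hrs, hrt⟩ := Groth.Agent.Lib.T2H7.GrpdInv.exists_comp G (ρ G u r1) (G.i (ρ G u r2)) (by
    rw [Groth.Agent.Lib.T2H7.GrpdInv.t_i, ρ_s_apply, ρ_s_apply, hr1', hr2'])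
  refine ⟨r, ?_, ?_⟩
  · exact hrt.trans (ρ_t_apply G u r1)
  · refine hrs.trans ?_
    rw [Groth.Agent.Lib.T2H7.GrpdInv.s_i]
    exact ρ_t_apply G u r2

section quot

variable [IsFinite (v G u)] [Flat (v G u)] [LocallyOfFinitePresentation (v G u)]
  [Surjective (v G u)]
variable {Y : Scheme.{u}} (p' : U' ⟶ Y) (w' : t' G u ≫ p' = s' G u ≫ p')

include w' in
theorem desc_cond {Z : Scheme.{u}} (g₁ g₂ : Z ⟶ V G u) (h : g₁ ≫ v G u = g₂ ≫ v G u) :
    g₁ ≫ pullback.snd G.t u ≫ p' = g₂ ≫ pullback.snd G.t u ≫ p' := by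
  have h1 : (g₁ ≫ pullback.fst G.t u) ≫ G.s = ((g₂ ≫ pullback.fst G.t u) ≫ G.i) ≫ G.t := by
    rw [Category.assoc _ G.i, G.i_t]
    simpa only [Category.assoc, v_def] using h
  have key := congrArg (mk G u (comp G _ _ h1) (g₁ ≫ pullback.snd G.t u)
    (g₂ ≫ pullback.snd G.t u)
    (by rw [comp_t, Category.assoc, pullback.condition, Category.assoc])
    (by rw [comp_s, Category.assoc, Category.assoc, G.i_s, pullback.condition,
      Category.assoc]) ≫ ·) w'
  simpa only [mk_t_assoc, mk_s_assoc, Category.assoc] using key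

/-- the quotient map `U ⟶ Y` obtained by descent along `v : V ⟶ U` -/
noncomputable def p : G.U ⟶ Y :=
  EffectiveEpi.desc (v G u) (pullback.snd G.t u ≫ p') (fun g₁ g₂ h => desc_cond G u p' w' g₁ g₂ h)

@[reassoc]
theorem v_p : v G u ≫ p G u p' w' = pullback.snd G.t u ≫ p' :=
  EffectiveEpi.fac _ _ _

/-- the section of `V ⟶ U'` given by the identity -/
noncomputable def σ : U' ⟶ V G u :=
  pullback.lift (u ≫ G.e) (𝟙 U') (by rw [Category.assoc, G.e_t, Category.comp_id, Category.id_comp])

@[reassoc (attr := simp)]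
theorem σ_v : σ G u ≫ v G u = u := by
  unfold σ
  rw [v_def, ← Category.assoc, pullback.lift_fst, Category.assoc, G.e_s, Category.comp_id]

@[reassoc (attr := simp)]
theorem σ_snd : σ G u ≫ pullback.snd G.t u = 𝟙 U' := by
  unfold σ
  rw [pullback.lift_snd]

@[reassoc]
theorem u_p : u ≫ p G u p' w' = p' := by
  have h1 : u ≫ p G u p' w' = (σ G u ≫ v G u) ≫ p G u p' w' := by rw [σ_v]
  rw [h1, Category.assoc, v_p, σ_snd_assoc]

theorem p_coeq : G.t ≫ p G u p' w' = G.s ≫ p G u p' w' := by
  haveI : Epi (pullback.fst G.s (v G u)) := Flat.epi_of_flat_of_surjective _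
  rw [← cancel_epi (pullback.fst G.s (v G u))]
  have h1 : (pullback.snd G.s (v G u) ≫ pullback.fst G.t u) ≫ G.s =
      (pullback.fst G.s (v G u) ≫ G.i) ≫ G.t := by
    rw [Category.assoc, Category.assoc, G.i_t, ← v_def]
    exact pullback.condition.symm
  let a : pullback G.s (v G u) ⟶ V G u :=
    pullback.lift (comp G _ _ h1) (pullback.snd G.s (v G u) ≫ pullback.snd G.t u)
      (by rw [comp_t, Category.assoc, pullback.condition, Category.assoc])
  have ha1 : a ≫ v G u = pullback.fst G.s (v G u) ≫ G.t := by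
    show a ≫ pullback.fst G.t u ≫ G.s = _
    rw [← Category.assoc, pullback.lift_fst, comp_s, Category.assoc, G.i_s]
  have ha2 : a ≫ pullback.snd G.t u = pullback.snd G.s (v G u) ≫ pullback.snd G.t u :=
    pullback.lift_snd _ _ _
  rw [← Category.assoc, ← ha1, Category.assoc, v_p, reassoc_of% ha2, ← v_p G u p' w',
    ← Category.assoc, ← pullback.condition, Category.assoc]

/-- universal property -/
noncomputable def isColimit_p (hc : IsColimit (Cofork.ofπ p' w')) :
    IsColimit (Cofork.ofπ (p G u p' w') (p_coeq G u p' w')) := by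
  haveI : Epi p' := epi_of_isColimit_cofork hc
  refine Cofork.IsColimit.mk' _ (fun k => ?_)
  have hk : t' G u ≫ u ≫ k.π = s' G u ≫ u ≫ k.π := by
    rw [← ρ_t_assoc, ← ρ_s_assoc, k.condition]
  refine ⟨Cofork.IsColimit.desc hc (u ≫ k.π) hk, ?_, ?_⟩
  · show p G u p' w' ≫ _ = _
    rw [← cancel_epi (v G u), v_p_assoc]
    have := Cofork.IsColimit.π_desc' hc (u ≫ k.π) hk
    dsimp only [Cofork.π_ofπ] at this
    rw [this, ← Category.assoc, ← pullback.condition, Category.assoc, k.condition, v_def,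
      Category.assoc]
  · intro m hm
    apply Cofork.IsColimit.hom_ext hc
    have := Cofork.IsColimit.π_desc' hc (u ≫ k.π) hk
    rw [this]
    show p' ≫ m = _
    rw [← u_p G u p' w', Category.assoc]
    congr 1


theorem surjective_p [Surjective p'] : Surjective (p G u p' w') := by
  haveI : Surjective (u ≫ p G u p' w') := by rw [u_p]; infer_instance
  exact Surjective.of_comp u _

theorem universallyClosed_p [UniversallyClosed p'] [UniversallyClosed G.t] :
    UniversallyClosed (p G u p' w') := by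
  haveI : UniversallyClosed (v G u ≫ p G u p' w') := by rw [v_p]; infer_instance
  exact UniversallyClosed.of_comp_surjective (v G u) _

theorem flat_p [Flat p'] [Flat G.t] : Flat (p G u p' w') := by
  haveI : Flat (v G u ≫ p G u p' w') := by rw [v_p]; infer_instance
  exact Groth.Agent.Lib.Helper12.flat_of_comp_of_flat_of_surjective (v G u) _

theorem p_t_apply (r : G.R) : p G u p' w' (G.t r) = p G u p' w' (G.s r) := by
  rw [← Scheme.Hom.comp_apply, ← Scheme.Hom.comp_apply, p_coeq]

theorem p_u_apply (y : U') : p G u p' w' (u y) = p' y := by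
  rw [← Scheme.Hom.comp_apply, u_p]

theorem isOpenMap_p (hp' : IsOpenMap p') (ht : IsOpenMap G.t) : IsOpenMap (p G u p' w') := by
  intro O hO
  have key : p G u p' w' '' O = p' '' (u ⁻¹' (G.t '' (G.s ⁻¹' O))) := by
    ext y
    constructor
    · rintro ⟨x, hx, rfl⟩
      obtain ⟨a, rfl⟩ := (v G u).surjective x
      have h1 : G.t (pullback.fst G.t u a) = u (pullback.snd G.t u a) := by
        rw [← Scheme.Hom.comp_apply, ← Scheme.Hom.comp_apply, pullback.condition]
      have h2 : v G u a = G.s (pullback.fst G.t u a) := by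
        rw [v_def, Scheme.Hom.comp_apply]
      refine ⟨pullback.snd G.t u a, ⟨pullback.fst G.t u a, ?_, h1⟩, ?_⟩
      · show G.s _ ∈ O
        rw [← h2]; exact hx
      · rw [← p_u_apply G u p' w', ← h1, p_t_apply, h2]
    · rintro ⟨y, ⟨r, hr, hry⟩, rfl⟩
      refine ⟨G.s r, hr, ?_⟩
      rw [← p_t_apply, hry, p_u_apply]
  rw [key]
  exact hp' _ ((ht _ (hO.preimage G.s.continuous)).preimage u.continuous)

section lift

/-- `V ×_Y V` -/
noncomputable abbrev Q1 : Scheme.{u} :=
  pullback (pullback.snd G.t u ≫ p') (pullback.snd G.t u ≫ p')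

/-- `V ×_Y V ⟶ U ×_Y U` -/
noncomputable def m1 : Q1 G u p' ⟶ pullback (p G u p' w') (p G u p' w') :=
  pullback.map _ _ _ _ (v G u) (v G u) (𝟙 Y)
    ((Category.comp_id _).trans (v_p G u p' w').symm)
    ((Category.comp_id _).trans (v_p G u p' w').symm)

instance : Surjective (m1 G u p' w') :=
  MorphismProperty.pullbackMap (P := @Surjective) (inferInstanceAs (Surjective (v G u)))
    (inferInstanceAs (Surjective (v G u))) (v_p G u p' w').symm (v_p G u p' w').symm

instance : Flat (m1 G u p' w') :=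
  MorphismProperty.pullbackMap (P := @Flat) (inferInstanceAs (Flat (v G u)))
    (inferInstanceAs (Flat (v G u))) (v_p G u p' w').symm (v_p G u p' w').symm

instance : QuasiCompact (m1 G u p' w') :=
  MorphismProperty.pullbackMap (P := @QuasiCompact) (inferInstanceAs (QuasiCompact (v G u)))
    (inferInstanceAs (QuasiCompact (v G u))) (v_p G u p' w').symm (v_p G u p' w').symm

/-- `V ×_Y V ⟶ U' ×_Y U'` -/
noncomputable def m2 : Q1 G u p' ⟶ pullback p' p' :=
  pullback.map _ _ _ _ (pullback.snd G.t u) (pullback.snd G.t u) (𝟙 Y)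
    (Category.comp_id _) (Category.comp_id _)

/-- `R' ⟶ U' ×_Y U'` -/
noncomputable def φ' : R' G u ⟶ pullback p' p' := pullback.lift (t' G u) (s' G u) w'

/-- `V ×_{U'} R' ×_{U'} V` -/
noncomputable abbrev Q2 : Scheme.{u} := pullback (m2 G u p') (φ' G u p' w')

/-- first `V`-component -/
noncomputable def a1 : Q2 G u p' w' ⟶ V G u := pullback.fst (m2 G u p') (φ' G u p' w') ≫ pullback.fst _ _

/-- second `V`-component -/
noncomputable def a2 : Q2 G u p' w' ⟶ V G u := pullback.fst (m2 G u p') (φ' G u p' w') ≫ pullback.snd _ _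

/-- `R'`-component -/
noncomputable def a3 : Q2 G u p' w' ⟶ R' G u := pullback.snd (m2 G u p') (φ' G u p' w')

@[reassoc]
theorem a3_t : a3 G u p' w' ≫ t' G u = a1 G u p' w' ≫ pullback.snd G.t u := by
  have := congrArg (· ≫ pullback.fst p' p')
    (pullback.condition (f := m2 G u p') (g := φ' G u p' w'))
  simp only [Category.assoc, m2, φ', pullback.lift_fst] at this
  unfold a3 a1
  rw [Category.assoc]
  exact this.symm

@[reassoc]
theorem a3_s : a3 G u p' w' ≫ s' G u = a2 G u p' w' ≫ pullback.snd G.t u := by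
  have := congrArg (· ≫ pullback.snd p' p')
    (pullback.condition (f := m2 G u p') (g := φ' G u p' w'))
  simp only [Category.assoc, m2, φ', pullback.lift_snd] at this
  unfold a3 a2
  rw [Category.assoc]
  exact this.symm

theorem aQ_cond1 : ((a1 G u p' w' ≫ pullback.fst G.t u) ≫ G.i) ≫ G.s =
    (a3 G u p' w' ≫ ρ G u) ≫ G.t := by
  rw [Category.assoc, G.i_s, Category.assoc, pullback.condition, Category.assoc, ρ_t,
    a3_t_assoc]

theorem aQ_cond2 : comp G _ _ (aQ_cond1 G u p' w') ≫ G.s =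
    (a2 G u p' w' ≫ pullback.fst G.t u) ≫ G.t := by
  rw [comp_s, Category.assoc, ρ_s, a3_s_assoc, Category.assoc, pullback.condition]

/-- the arrow `a₁⁻¹ ∘ r' ∘ a₂` -/
noncomputable def aQ : Q2 G u p' w' ⟶ G.R := comp G _ _ (aQ_cond2 G u p' w')

/-- the cover of `U ×_Y U` -/
noncomputable def bQ : Q2 G u p' w' ⟶ pullback (p G u p' w') (p G u p' w') :=
  pullback.fst (m2 G u p') (φ' G u p' w') ≫ m1 G u p' w'

theorem aQ_t : aQ G u p' w' ≫ G.t = bQ G u p' w' ≫ pullback.fst _ _ := by
  have h1 : bQ G u p' w' ≫ pullback.fst _ _ = a1 G u p' w' ≫ v G u := by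
    unfold bQ m1 a1
    rw [Category.assoc, pullback.lift_fst, Category.assoc]
  rw [h1]
  unfold aQ
  rw [comp_t, comp_t, Category.assoc, G.i_t, Category.assoc, ← v_def]

theorem aQ_s : aQ G u p' w' ≫ G.s = bQ G u p' w' ≫ pullback.snd _ _ := by
  have h1 : bQ G u p' w' ≫ pullback.snd _ _ = a2 G u p' w' ≫ v G u := by
    unfold bQ m1 a2
    rw [Category.assoc, pullback.lift_snd, Category.assoc]
  rw [h1]
  unfold aQ
  rw [comp_s, Category.assoc, ← v_def]

theorem aQ_φ : aQ G u p' w' ≫ pullback.lift G.t G.s (p_coeq G u p' w') = bQ G u p' w' := by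
  apply pullback.hom_ext
  · rw [Category.assoc, pullback.lift_fst, aQ_t]
  · rw [Category.assoc, pullback.lift_snd, aQ_s]

theorem surjective_bQ (hφ' : Function.Surjective (φ' G u p' w')) :
    Function.Surjective (bQ G u p' w') := by
  haveI : Surjective (φ' G u p' w') := ⟨hφ'⟩
  haveI : Surjective (bQ G u p' w') := by unfold bQ; infer_instance
  exact (bQ G u p' w').surjective

theorem surjective_lift (hφ' : Function.Surjective (φ' G u p' w')) :
    Function.Surjective (pullback.lift G.t G.s (p_coeq G u p' w')) := by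
  intro z
  obtain ⟨q, rfl⟩ := surjective_bQ G u p' w' hφ' z
  exact ⟨aQ G u p' w' q, by rw [← Scheme.Hom.comp_apply, aQ_φ]⟩

theorem isIso_lift [Mono G.j] [IsIso (φ' G u p' w')] :
    IsIso (pullback.lift G.t G.s (p_coeq G u p' w')) := by
  haveI : Surjective (bQ G u p' w') := by unfold bQ; infer_instance
  haveI : Flat (bQ G u p' w') := by unfold bQ; infer_instance
  haveI : QuasiCompact (bQ G u p' w') := by unfold bQ; infer_instance
  have hdesc : ∀ {Z : Scheme.{u}} (g₁ g₂ : Z ⟶ Q2 G u p' w'),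
      g₁ ≫ bQ G u p' w' = g₂ ≫ bQ G u p' w' → g₁ ≫ aQ G u p' w' = g₂ ≫ aQ G u p' w' := by
    intro Z g₁ g₂ h
    apply eq_of_mono_j G
    · rw [Category.assoc, Category.assoc, aQ_t, reassoc_of% h]
    · rw [Category.assoc, Category.assoc, aQ_s, reassoc_of% h]
  let ψ := EffectiveEpi.desc (bQ G u p' w') (aQ G u p' w') hdesc
  have hψ : bQ G u p' w' ≫ ψ = aQ G u p' w' := EffectiveEpi.fac _ _ _
  have hψt : ψ ≫ G.t = pullback.fst _ _ := by
    rw [← cancel_epi (bQ G u p' w'), reassoc_of% hψ, aQ_t]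
  have hψs : ψ ≫ G.s = pullback.snd _ _ := by
    rw [← cancel_epi (bQ G u p' w'), reassoc_of% hψ, aQ_s]
  refine ⟨ψ, ?_, ?_⟩
  · apply eq_of_mono_j G
    · rw [Category.assoc, hψt, pullback.lift_fst, Category.id_comp]
    · rw [Category.assoc, hψs, pullback.lift_snd, Category.id_comp]
  · apply pullback.hom_ext
    · rw [Category.assoc, pullback.lift_fst, hψt, Category.id_comp]
    · rw [Category.assoc, pullback.lift_snd, hψs, Category.id_comp]

theorem isPullback_p [Mono G.j] (h : IsPullback (t' G u) (s' G u) p' p') :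
    IsPullback G.t G.s (p G u p' w') (p G u p' w') := by
  haveI : IsIso (φ' G u p' w') := by
    have : φ' G u p' w' = h.isoPullback.hom := by
      unfold φ'
      apply pullback.hom_ext <;> simp
    rw [this]; infer_instance
  haveI := isIso_lift G u p' w'
  refine IsPullback.of_iso_pullback ⟨p_coeq G u p' w'⟩
    (asIso (pullback.lift G.t G.s (p_coeq G u p' w'))) ?_ ?_
  · simp
  · simp

end lift

end quot

end Groth.Agent.Lib.T2H7.GrpdQSec
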